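import Cfsg.Statements.S1450
import Cfsg.Agent.Lib.helper30.RankTwoB
import Cfsg.Agent.Lib.helper60.HallHigman
import Cfsg.Agent.Lib.helper38.HallHigman2
import Cfsg.Agent.Lib.helper40.PComp

set_option autoImplicit false
open Cfsg

namespace Cfsg.Agent.S1450

open scoped commutatorElement

/-- A normal `p'`-subgroup with quotient a `p`-group consists exactly of the `p'`-elements. -/
theorem mem_iff_coprime {H : Type*} [Group H] (p : ℕ) (N : Subgroup H)
    (hN : (Nat.card N).Coprime p) (hq : ∀ h : H, ∃ k : ℕ, h ^ p ^ k ∈ N) :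
    ∀ h : H, h ∈ N ↔ (orderOf h).Coprime p := by
  intro h
  constructor
  · intro hh
    exact Nat.Coprime.coprime_dvd_left (Subgroup.orderOf_dvd_natCard N hh) hN
  · intro hcop
    obtain ⟨k, hk⟩ := hq h
    obtain ⟨m, hm⟩ := exists_pow_eq_self_of_coprime (x := h) (n := p ^ k)
      (Nat.Coprime.pow_left k hcop.symm)
    rw [← hm]
    exact N.pow_mem hk m

/-- Let G be a solvable group of odd order, p a prime dividing its order with G having no elementary abelian subgroup of order p ^ 3. Then every prime dividing the index of O_{p'}(G) is at most p; if p = 3 or p is the smallest prime divisor of #G then G has a normal p-complement; the derived subgroup G' has a normal p-complement; every subgroup of G' of order coprime to p lies in O_{p'}(G'); and G/O_{p',p}(G) is abelian of order coprime to p. -/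
theorem result {G : Type*} [Group G] [Finite G] [Group.IsSolvable G] (hodd : Odd (Nat.card G)) (p : ℕ) [Fact p.Prime] (hpG : p ∣ Nat.card G) (hr : Cfsg.PRankLE p 2 G) :
    (∀ q : ℕ, q.Prime → q ∣ (Cfsg.pPrimeCore p G).index → q ≤ p) ∧
      ((p = 3 ∨ ∀ q : ℕ, q.Prime → q ∣ Nat.card G → p ≤ q) → Cfsg.HasNormalPComplement p G) ∧
      Cfsg.HasNormalPComplement p ↥(commutator G) ∧
      (∀ L : Subgroup ↥(commutator G), (Nat.card L).Coprime p → L ≤ Cfsg.pPrimeCore p ↥(commutator G)) ∧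
      commutator G ≤ Cfsg.pPrimePCore p G ∧ ((Cfsg.pPrimePCore p G).index).Coprime p := by
  classical
  have hpp : p.Prime := Fact.out
  have hp2 : p ≠ 2 := by
    rintro rfl
    exact (Nat.not_even_iff_odd.mpr hodd) (even_iff_two_dvd.mpr hpG)
  have hKcop : (Nat.card (Cfsg.pPrimeCore p G)).Coprime p :=
    Cfsg.Agent.Lib.helper40.pPrimeCore_card_coprime p G
  have hsurj := QuotientGroup.mk'_surjective (Cfsg.pPrimeCore p G)
  have hcore : Cfsg.pPrimeCore p (G ⧸ Cfsg.pPrimeCore p G) = ⊥ :=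
    Cfsg.Agent.Lib.helper38.pPrimeCore_quotient_pPrimeCore p G
  have hHH := Cfsg.Agent.Lib.helper60.centralizer_pCore_le (G := G ⧸ Cfsg.pPrimeCore p G) p hcore
  have hPn : (Cfsg.pCore p (G ⧸ Cfsg.pPrimeCore p G)).Normal :=
    Cfsg.Agent.Lib.helper40.pCore_normal' p _
  have hPp : IsPGroup p (Cfsg.pCore p (G ⧸ Cfsg.pPrimeCore p G)) :=
    Cfsg.Agent.Lib.helper40.pCore_isPGroup p _
  have hoddQ : Odd (Nat.card (G ⧸ Cfsg.pPrimeCore p G)) :=
    Odd.of_dvd_nat hodd (Subgroup.card_quotient_dvd_card _)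
  have hrQ : Cfsg.PRankLE p 2 (G ⧸ Cfsg.pPrimeCore p G) :=
    Cfsg.Agent.Lib.helper30.prankLE_quotient p 2 _ hKcop hr
  have hrP : Cfsg.PRankLE p 2 (Cfsg.pCore p (G ⧸ Cfsg.pPrimeCore p G)) :=
    Cfsg.Agent.Lib.helper30.prankLE_subgroup p 2 _ hrQ
  have hNtop : Subgroup.normalizer
      ((Cfsg.pCore p (G ⧸ Cfsg.pPrimeCore p G) : Subgroup (G ⧸ Cfsg.pPrimeCore p G)) :
        Set (G ⧸ Cfsg.pPrimeCore p G)) = ⊤ := Subgroup.normalizer_eq_top _
  -- a `p'`-element of `O_p` is trivial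
  have hp1 : ∀ x ∈ Cfsg.pCore p (G ⧸ Cfsg.pPrimeCore p G), (orderOf x).Coprime p → x = 1 := by
    intro x hx hcop
    obtain ⟨j, hj⟩ := (IsPGroup.iff_orderOf.mp hPp) ⟨x, hx⟩
    rw [Subgroup.orderOf_mk] at hj
    rw [hj] at hcop
    rcases Nat.eq_zero_or_pos j with h0 | hpos
    · rw [h0, pow_zero] at hj
      exact orderOf_eq_one_iff.mp hj
    · exfalso
      have h3 : p ∣ p ^ j := dvd_pow_self p hpos.ne'
      have h4 := Nat.Coprime.eq_one_of_dvd hcop.symm h3
      exact hpp.one_lt.ne' h4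
  -- the derived subgroup of the quotient is a `p`-group
  have hsolvTop : Group.IsSolvable (⊤ : Subgroup (G ⧸ Cfsg.pPrimeCore p G)) := inferInstance
  have hoddTop : Odd (Nat.card (⊤ : Subgroup (G ⧸ Cfsg.pPrimeCore p G))) := by
    rw [Subgroup.card_top]; exact hoddQ
  have key := Cfsg.Agent.Lib.helper30.commutator_centralizes p hp2
    (Cfsg.pCore p (G ⧸ Cfsg.pPrimeCore p G)) ⊤ hPp hrP (by rw [hNtop]) hsolvTop hoddTop
  have hcommP : ∀ c ∈ commutator (G ⧸ Cfsg.pPrimeCore p G), ∃ k : ℕ, c ^ p ^ k = 1 := by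
    intro c hc
    rw [commutator_def] at hc
    obtain ⟨k, m, hm, hkm⟩ := Nat.exists_eq_pow_mul_and_not_dvd (orderOf_pos c).ne' p hpp.ne_one
    refine ⟨k, ?_⟩
    have hd : c ^ p ^ k ∈ ⁅(⊤ : Subgroup (G ⧸ Cfsg.pPrimeCore p G)), ⊤⁆ := Subgroup.pow_mem _ hc _
    have hdm : (c ^ p ^ k) ^ m = 1 := by rw [← pow_mul, ← hkm, pow_orderOf_eq_one]
    have hcop : (orderOf (c ^ p ^ k)).Coprime p := by
      have h1 : orderOf (c ^ p ^ k) ∣ m := orderOf_dvd_of_pow_eq_one hdm
      have h2 : m.Coprime p := ((Nat.Prime.coprime_iff_not_dvd hpp).mpr hm).symm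
      exact Nat.Coprime.coprime_dvd_left h1 h2
    have hcent := key _ hd hcop
    exact hp1 _ (hHH (Subgroup.mem_centralizer_iff.mpr (fun r hr' => (hcent r hr').symm))) hcop
  have hcommle : commutator (G ⧸ Cfsg.pPrimeCore p G) ≤ Cfsg.pCore p (G ⧸ Cfsg.pPrimeCore p G) := by
    apply Cfsg.Agent.Lib.helper40.le_pCore _ inferInstance
    intro c
    obtain ⟨k, hk⟩ := hcommP c c.2
    exact ⟨k, Subtype.ext (by simpa using hk)⟩
  have hmapcomm : ∀ g ∈ commutator G,
      QuotientGroup.mk' (Cfsg.pPrimeCore p G) g ∈ commutator (G ⧸ Cfsg.pPrimeCore p G) := by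
    intro g hg
    have hle : (commutator G).map (QuotientGroup.mk' (Cfsg.pPrimeCore p G))
        ≤ commutator (G ⧸ Cfsg.pPrimeCore p G) := by
      rw [commutator_def, Subgroup.map_commutator, commutator_def]
      exact Subgroup.commutator_mono le_top le_top
    exact hle (Subgroup.mem_map_of_mem _ hg)
  -- (1)
  have h1 : ∀ q : ℕ, q.Prime → q ∣ (Cfsg.pPrimeCore p G).index → q ≤ p := by
    intro q hq hqd
    by_contra hlt
    push Not at hlt
    have : Fact q.Prime := ⟨hq⟩
    rw [Subgroup.index_eq_card] at hqd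
    have hq2 : q ≠ 2 := by
      rintro rfl
      exact (Nat.not_even_iff_odd.mpr hoddQ) (even_iff_two_dvd.mpr hqd)
    obtain ⟨x, hx⟩ := exists_prime_orderOf_dvd_card' q hqd
    have hxq : x ^ q = 1 := by rw [← hx]; exact pow_orderOf_eq_one x
    have hcent := Cfsg.Agent.Lib.helper30.centralizes_of_prime_order_gt p q hp2 hq2 hlt
      (Cfsg.pCore p (G ⧸ Cfsg.pPrimeCore p G)) hPp hrP x (by rw [hNtop]; exact Subgroup.mem_top x) hxq
    have hxP : x ∈ Cfsg.pCore p (G ⧸ Cfsg.pPrimeCore p G) :=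
      hHH (Subgroup.mem_centralizer_iff.mpr (fun r hr' => (hcent r hr').symm))
    have hx1 : x = 1 := hp1 x hxP (by
      rw [hx]; exact (Nat.coprime_primes hq hpp).mpr (ne_of_gt hlt))
    rw [hx1, orderOf_one] at hx
    exact hq.one_lt.ne hx
  -- (2)
  have h2 : (p = 3 ∨ ∀ q : ℕ, q.Prime → q ∣ Nat.card G → p ≤ q) → Cfsg.HasNormalPComplement p G := by
    intro hyp
    have hall : ∀ q : ℕ, q.Prime → q ∣ Nat.card (G ⧸ Cfsg.pPrimeCore p G) → q = p := by
      intro q hq hqd
      have hle := h1 q hq (by rw [Subgroup.index_eq_card]; exact hqd)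
      have hqG : q ∣ Nat.card G := hqd.trans (Subgroup.card_quotient_dvd_card _)
      rcases hyp with hp3 | hmin
      · have hq2 : q ≠ 2 := by
          rintro rfl
          exact (Nat.not_even_iff_odd.mpr hodd) (even_iff_two_dvd.mpr hqG)
        have := hq.two_le
        omega
      · exact le_antisymm hle (hmin q hq hqG)
    have hQp : IsPGroup p (G ⧸ Cfsg.pPrimeCore p G) := by
      have := Nat.eq_prime_pow_of_unique_prime_dvd
        (Nat.card_pos (α := G ⧸ Cfsg.pPrimeCore p G)).ne' (fun {d} hd hdd => hall d hd hdd)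
      exact IsPGroup.of_card this
    have hmem := mem_iff_coprime p (Cfsg.pPrimeCore p G) hKcop (by
      intro g
      obtain ⟨k, hk⟩ := hQp (QuotientGroup.mk' (Cfsg.pPrimeCore p G) g)
      refine ⟨k, ?_⟩
      rw [← QuotientGroup.eq_one_iff, QuotientGroup.mk_pow]
      exact hk)
    exact Cfsg.Agent.Lib.helper40.hasNormalPComplement_of_pprime_elements _ hmem
  -- (3), (4)
  have hNcop : (Nat.card ((Cfsg.pPrimeCore p G).subgroupOf (commutator G))).Coprime p := by
    have h : Nat.card ((Cfsg.pPrimeCore p G).subgroupOf (commutator G))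
        ∣ Nat.card (Cfsg.pPrimeCore p G) := by
      rw [← Subgroup.card_map_of_injective (Subgroup.subtype_injective (commutator G))]
      apply Subgroup.card_dvd_of_le
      rintro _ ⟨x, hx, rfl⟩
      exact Subgroup.mem_subgroupOf.mp hx
    exact Nat.Coprime.coprime_dvd_left h hKcop
  have hNq : ∀ h : commutator G, ∃ k : ℕ,
      h ^ p ^ k ∈ (Cfsg.pPrimeCore p G).subgroupOf (commutator G) := by
    intro h
    obtain ⟨k, hk⟩ := hcommP _ (hmapcomm h h.2)
    refine ⟨k, ?_⟩
    rw [Subgroup.mem_subgroupOf, Subgroup.coe_pow, ← QuotientGroup.eq_one_iff, QuotientGroup.mk_pow]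
    exact hk
  have hNmem := mem_iff_coprime p ((Cfsg.pPrimeCore p G).subgroupOf (commutator G)) hNcop hNq
  have h3 : Cfsg.HasNormalPComplement p (commutator G) :=
    Cfsg.Agent.Lib.helper40.hasNormalPComplement_of_pprime_elements _ hNmem
  have h4 : ∀ L : Subgroup (commutator G), (Nat.card L).Coprime p →
      L ≤ Cfsg.pPrimeCore p (commutator G) := by
    intro L hL x hx
    have hxN : x ∈ (Cfsg.pPrimeCore p G).subgroupOf (commutator G) :=
      (hNmem x).mpr (Nat.Coprime.coprime_dvd_left (Subgroup.orderOf_dvd_natCard L hx) hL)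
    exact Cfsg.Agent.Lib.helper40.le_pPrimeCore _ inferInstance hNcop hxN
  -- (5)
  have h5 : commutator G ≤ Cfsg.pPrimePCore p G := by
    intro g hg
    show g ∈ (Cfsg.pCore p (G ⧸ Cfsg.pPrimeCore p G)).comap
      (QuotientGroup.mk' (Cfsg.pPrimeCore p G))
    exact hcommle (hmapcomm g hg)
  -- (6)
  have h6 : ((Cfsg.pPrimePCore p G).index).Coprime p := by
    have hidx : (Cfsg.pPrimePCore p G).index = (Cfsg.pCore p (G ⧸ Cfsg.pPrimeCore p G)).index :=
      Subgroup.index_comap_of_surjective _ hsurj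
    rw [hidx]
    obtain ⟨S, hS⟩ := hPp.exists_le_sylow
    have hSn : (S : Subgroup (G ⧸ Cfsg.pPrimeCore p G)).Normal := by
      constructor
      intro n hn g
      have e1 : g * n * g⁻¹ = (g * n * g⁻¹ * n⁻¹) * n := by group
      rw [e1]
      apply Subgroup.mul_mem _ _ hn
      apply hS
      apply hcommle
      rw [commutator_def, ← commutatorElement_def]
      exact Subgroup.commutator_mem_commutator (Subgroup.mem_top g) (Subgroup.mem_top n)
    have hSle : (S : Subgroup (G ⧸ Cfsg.pPrimeCore p G)) ≤ Cfsg.pCore p (G ⧸ Cfsg.pPrimeCore p G) :=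
      Cfsg.Agent.Lib.helper40.le_pCore _ hSn S.isPGroup'
    have heq : Cfsg.pCore p (G ⧸ Cfsg.pPrimeCore p G) = S := le_antisymm hS hSle
    rw [heq]
    exact ((Nat.Prime.coprime_iff_not_dvd hpp).mpr S.not_dvd_index).symm
  exact ⟨h1, h2, h3, h4, h5, h6⟩

end Cfsg.Agent.S1450
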