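import Cfsg.Statements.S0127
import Cfsg.Agent.Lib.helper3.Class2
import Cfsg.Agent.Lib.helper3.PGroupFrattini
import Mathlib.NumberTheory.Multiplicity
import Mathlib.FieldTheory.Finite.Basic
-- import your own Cfsg.Agent.* helpers here

set_option autoImplicit false
open Cfsg

namespace Cfsg.Agent.S0127

open Cfsg.Agent.Lib.helper3
open scoped commutatorElement

/-- Number theory: for odd `p`, `k ^ p ≡ 1 (mod p ^ m)` with `m ≥ 1` forces
`p ^ m ∣ p * (k - 1)` and `p ∣ k - 1`. -/
theorem nt {p : ℕ} (hp : p.Prime) (hp2 : p ≠ 2) {m k : ℕ} (hm : 1 ≤ m)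
    (h : k ^ p ≡ 1 [MOD p ^ m]) :
    (p : ℤ) ^ m ∣ (p : ℤ) * ((k : ℤ) - 1) ∧ (p : ℤ) ∣ (k : ℤ) - 1 := by
  have hpI : Prime (p : ℤ) := Nat.prime_iff_prime_int.mp hp
  have hodd : Odd p := hp.odd_of_ne_two hp2
  have h1 : (p : ℤ) ^ m ∣ (k : ℤ) ^ p - 1 := by
    have := (Nat.modEq_iff_dvd.mp h.symm)
    push_cast at this
    exact this
  have h2 : (p : ℤ) ∣ (k : ℤ) ^ p - 1 := dvd_trans (dvd_pow_self _ (by omega)) h1
  have h3 : (p : ℤ) ∣ (k : ℤ) ^ p - (k : ℤ) := by
    have : Fact p.Prime := ⟨hp⟩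
    rw [← ZMod.intCast_zmod_eq_zero_iff_dvd]
    push_cast
    rw [ZMod.pow_card, sub_self]
  have hk1 : (p : ℤ) ∣ (k : ℤ) - 1 := by
    have := dvd_sub h2 h3
    have e : (k : ℤ) ^ p - 1 - ((k : ℤ) ^ p - (k : ℤ)) = (k : ℤ) - 1 := by ring
    rwa [e] at this
  refine ⟨?_, hk1⟩
  have hx : ¬ (p : ℤ) ∣ (k : ℤ) := by
    intro hd
    have := dvd_sub hd hk1
    have e : (k : ℤ) - ((k : ℤ) - 1) = 1 := by ring
    rw [e] at this
    exact hpI.not_dvd_one this
  have hlte := emultiplicity_pow_prime_sub_pow_prime hpI hodd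
    (x := (k : ℤ)) (y := 1) (by simpa using hk1) hx
  rw [one_pow] at hlte
  have h4 : (m : ℕ∞) ≤ emultiplicity (p : ℤ) ((k : ℤ) ^ p - 1) :=
    pow_dvd_iff_le_emultiplicity.mp h1
  rw [pow_dvd_iff_le_emultiplicity, emultiplicity_mul hpI,
    (Int.finiteMultiplicity_iff.mpr ⟨by
      simpa using hp.ne_one, by simpa using hp.ne_zero⟩ :
      FiniteMultiplicity (p : ℤ) (p : ℤ)).emultiplicity_self, add_comm, ← hlte]
  exact h4

section group

variable {R : Type*} [Group R]

/-- A subgroup of prime index is maximal. -/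
theorem eq_top_of_lt_of_index_prime {p : ℕ} (hp : p.Prime) {C K : Subgroup R} (hCi : C.index = p)
    (hCK : C < K) : K = ⊤ := by
  have h1 := Subgroup.relIndex_mul_index hCK.le
  rw [hCi] at h1
  have h2 : C.relIndex K ≠ 1 := by
    intro h
    exact hCK.not_ge (Subgroup.relIndex_eq_one.mp h)
  have h3 : C.relIndex K ∣ p := Dvd.intro _ h1
  rcases (Nat.dvd_prime hp).mp h3 with h4 | h4
  · exact absurd h4 h2
  · rw [h4] at h1
    have h5 : K.index = 1 := by
      have := hp.pos
      nlinarith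
    exact Subgroup.index_eq_one.mp h5

theorem isCoatom_of_index_prime {p : ℕ} (hp : p.Prime) {C : Subgroup R} (hCi : C.index = p) :
    IsCoatom C := by
  refine ⟨fun h => ?_, fun K hCK => eq_top_of_lt_of_index_prime hp hCi hCK⟩
  rw [h, Subgroup.index_top] at hCi
  exact hp.one_lt.ne hCi

/-- In a group generated by two elements whose commutator lies in a central subgroup `W`, all
commutators lie in `W`. -/
theorem comm_mem_of_two_generators {b c : R}
    (hgen : Subgroup.closure ({b, c} : Set R) = ⊤) (W : Subgroup R)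
    (hWc : W ≤ Subgroup.center R) (hbcW : ⁅b, c⁆ ∈ W) : ∀ x y : R, ⁅x, y⁆ ∈ W := by
  have hWn : W.Normal := by
    refine ⟨fun w hw g => ?_⟩
    have := (Subgroup.mem_center_iff.mp (hWc hw)) g
    rw [this, mul_inv_cancel_right]
    exact hw
  have htop : Subgroup.closure ({(b : R ⧸ W), (c : R ⧸ W)} : Set (R ⧸ W)) = ⊤ := by
    have := congrArg (Subgroup.map (QuotientGroup.mk' W)) hgen
    rw [MonoidHom.map_closure, Subgroup.map_top_of_surjective _
      (QuotientGroup.mk'_surjective _), Set.image_pair] at this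
    exact this
  have hbc : (b : R ⧸ W) * (c : R ⧸ W) = c * b := by
    have h1 : ((⁅b, c⁆ : R) : R ⧸ W) = 1 := (QuotientGroup.eq_one_iff _).mpr hbcW
    rw [commutatorElement_def] at h1
    have h2 : (b : R ⧸ W) * c * (b : R ⧸ W)⁻¹ * (c : R ⧸ W)⁻¹ = 1 := h1
    calc (b : R ⧸ W) * c
        = ((b : R ⧸ W) * c * (b : R ⧸ W)⁻¹ * (c : R ⧸ W)⁻¹) * c * b := by group
      _ = c * b := by rw [h2, one_mul]
  have hcen : ∀ v : R ⧸ W, v ∈ Subgroup.center (R ⧸ W) := by
    have h1 : Subgroup.closure ({(b : R ⧸ W), (c : R ⧸ W)} : Set (R ⧸ W)) ≤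
        Subgroup.center (R ⧸ W) := by
      rw [Subgroup.closure_le]
      intro g hg
      have h3 : Subgroup.closure ({(b : R ⧸ W), (c : R ⧸ W)} : Set (R ⧸ W)) ≤
          Subgroup.centralizer {g} := by
        rw [Subgroup.closure_le]
        intro x hx
        rw [SetLike.mem_coe, Subgroup.mem_centralizer_singleton_iff]
        rcases hx with rfl | rfl <;> rcases hg with rfl | rfl
        · rfl
        · exact hbc
        · exact hbc.symm
        · rfl
      rw [htop] at h3
      rw [SetLike.mem_coe, Subgroup.mem_center_iff]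
      intro x
      exact Subgroup.mem_centralizer_singleton_iff.mp (h3 (Subgroup.mem_top x))
    intro v
    rw [htop] at h1
    exact h1 (Subgroup.mem_top v)
  intro x y
  apply (QuotientGroup.eq_one_iff _).mp
  have h2 : ((⁅x, y⁆ : R) : R ⧸ W) = ⁅QuotientGroup.mk' W x, QuotientGroup.mk' W y⁆ :=
    map_commutatorElement (QuotientGroup.mk' W) x y
  rw [h2, commutatorElement_eq_one_iff_commute]
  exact ((Subgroup.mem_center_iff.mp (hcen (QuotientGroup.mk' _ x))) _).symm

/-- A group generated by two elements whose commutator is central of order dividing `p` has all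
commutators central of order dividing `p`. -/
theorem commutators_of_two_generators {p : ℕ} {b c : R}
    (hgen : Subgroup.closure ({b, c} : Set R) = ⊤) (hzc : ⁅b, c⁆ ∈ Subgroup.center R)
    (hzp : ⁅b, c⁆ ^ p = 1) :
    CommCentral R ∧ ∀ x y : R, ⁅x, y⁆ ^ p = 1 := by
  have hWc : Subgroup.zpowers ⁅b, c⁆ ≤ Subgroup.center R := by
    rw [Subgroup.zpowers_le]; exact hzc
  have hmem := comm_mem_of_two_generators hgen (Subgroup.zpowers ⁅b, c⁆) hWc
    (Subgroup.mem_zpowers _)
  refine ⟨fun x y w => ((Subgroup.mem_center_iff.mp (hWc (hmem x y))) w).symm, fun x y => ?_⟩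
  obtain ⟨j, hj⟩ := Subgroup.mem_zpowers_iff.mp (hmem x y)
  rw [← hj, ← zpow_natCast, ← zpow_mul, mul_comm, zpow_mul, zpow_natCast, hzp, one_zpow]

end group

/-- For odd p, in a non-cyclic p-group with a cyclic subgroup of index p, the elements of order dividing p generate an elementary abelian subgroup of order p^2. -/
theorem result {R : Type*} [Group R] [Finite R] {p : ℕ} [Fact p.Prime] (hp : p ≠ 2) (hR : IsPGroup p R) (hnc : ¬ IsCyclic R) (C : Subgroup R) (hC : IsCyclic C) (hCi : C.index = p) : Cfsg.IsElementaryAbelian p (Subgroup.closure {x : R | x ^ p = 1}) ∧ Nat.card (Subgroup.closure {x : R | x ^ p = 1}) = p ^ 2 := by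
  have hpP : p.Prime := Fact.out
  have hCco : IsCoatom C := isCoatom_of_index_prime hpP hCi
  obtain ⟨hCn, -⟩ := coatom_normal_index hR hCco
  have hpowC : ∀ x : R, x ^ p ∈ C := fun x => pow_prime_mem_coatom hR hCco x
  -- a generator of C
  obtain ⟨c, hc⟩ := (Subgroup.isCyclic_iff_exists_zpowers_eq_top C).mp hC
  have hcC : c ∈ C := by rw [← hc]; exact Subgroup.mem_zpowers c
  have hcardC : Nat.card C = orderOf c := by rw [← hc, Nat.card_zpowers]
  have hcardR : Nat.card R = p * orderOf c := by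
    rw [← Subgroup.card_mul_index C, hCi, hcardC, mul_comm]
  obtain ⟨m, hm⟩ := IsPGroup.iff_card.mp (hR.to_subgroup C)
  rw [hcardC] at hm
  have hm1 : 1 ≤ m := by
    by_contra hm0
    have hm0' : m = 0 := by omega
    rw [hm0', pow_zero] at hm
    rw [hm, mul_one] at hcardR
    exact hnc (isCyclic_of_prime_card hcardR)
  -- an element outside C
  obtain ⟨b, hbC⟩ : ∃ b : R, b ∉ C := by
    by_contra hcon
    push Not at hcon
    exact hCco.1 (eq_top_iff.mpr fun x _ => hcon x)
  have hgen : Subgroup.closure ({b, c} : Set R) = ⊤ := by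
    apply eq_top_of_lt_of_index_prime hpP hCi
    have hle : C ≤ Subgroup.closure ({b, c} : Set R) := by
      rw [← hc, Subgroup.zpowers_le]
      exact Subgroup.subset_closure (by simp)
    refine lt_of_le_of_ne hle ?_
    intro heq
    apply hbC
    rw [heq]
    exact Subgroup.subset_closure (by simp)
  -- the action of b on C
  have hbcb : b * c * b⁻¹ ∈ Subgroup.zpowers c := by
    rw [hc]; exact hCn.conj_mem c hcC b
  rw [← (isOfFinOrder_of_finite c).mem_powers_iff_mem_zpowers] at hbcb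
  obtain ⟨k, hk⟩ := hbcb
  have hk' : c ^ k = b * c * b⁻¹ := hk
  have hiter : ∀ i : ℕ, b ^ i * c * (b ^ i)⁻¹ = c ^ (k ^ i) := by
    intro i
    induction i with
    | zero => simp
    | succ i ih =>
      have e : b ^ (i + 1) * c * (b ^ (i + 1))⁻¹ = b * (b ^ i * c * (b ^ i)⁻¹) * b⁻¹ := by
        rw [pow_succ']; group
      rw [e, ih, ← conj_pow, ← hk', ← pow_mul, ← pow_succ']
  have hkp : c ^ (k ^ p) = c ^ 1 := by
    rw [← hiter p, pow_one]
    have h1 : b ^ p ∈ Subgroup.zpowers c := by rw [hc]; exact hpowC b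
    obtain ⟨j, hj⟩ := Subgroup.mem_zpowers_iff.mp h1
    rw [← hj]
    have h2 : Commute (c ^ j) c := (Commute.refl c).zpow_left j
    rw [h2.eq, mul_inv_cancel_right]
  have hmod : k ^ p ≡ 1 [MOD p ^ m] := by
    rw [← hm]
    exact pow_eq_pow_iff_modEq.mp hkp
  obtain ⟨hd1, hd2⟩ := nt hpP hp hm1 hmod
  -- the commutator
  have hz : ⁅b, c⁆ = c ^ ((k : ℤ) - 1) := by
    rw [commutatorElement_def, ← hk', zpow_sub_one, zpow_natCast]
  have hzp : ⁅b, c⁆ ^ p = 1 := by
    rw [hz, ← zpow_natCast, ← zpow_mul, ← orderOf_dvd_iff_zpow_eq_one, hm]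
    push_cast
    rw [mul_comm]
    exact hd1
  have hzc : ⁅b, c⁆ ∈ Subgroup.center R := by
    have h1 : Subgroup.closure ({b, c} : Set R) ≤ Subgroup.centralizer {⁅b, c⁆} := by
      rw [Subgroup.closure_le]
      intro x hx
      rw [SetLike.mem_coe, Subgroup.mem_centralizer_singleton_iff]
      rcases hx with rfl | rfl
      · -- b * z = z * b
        have h2 : x * ⁅x, c⁆ * x⁻¹ = ⁅x, c⁆ := by
          rw [hz, ← conj_zpow, ← hk', ← zpow_natCast, ← zpow_mul]
          have h3 : c ^ ((k : ℤ) * ((k : ℤ) - 1)) = c ^ ((k : ℤ) - 1) * c ^ (((k : ℤ) - 1) * ((k : ℤ) - 1)) := by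
            rw [← zpow_add]
            congr 1
            ring
          have h4 : c ^ (((k : ℤ) - 1) * ((k : ℤ) - 1)) = 1 := by
            rw [← orderOf_dvd_iff_zpow_eq_one, hm]
            push_cast
            obtain ⟨t, ht⟩ := hd2
            have h5 : ((k : ℤ) - 1) * ((k : ℤ) - 1) = (p : ℤ) * ((k : ℤ) - 1) * t := by
              rw [ht]; ring
            rw [h5]
            exact Dvd.dvd.mul_right hd1 t
          rw [h3, h4, mul_one]
        calc x * ⁅x, c⁆ = (x * ⁅x, c⁆ * x⁻¹) * x := by group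
          _ = ⁅x, c⁆ * x := by rw [h2]
      · rw [hz]
        exact ((Commute.refl x).zpow_right _).eq
    rw [hgen] at h1
    rw [Subgroup.mem_center_iff]
    intro g
    exact Subgroup.mem_centralizer_singleton_iff.mp (h1 (Subgroup.mem_top g))
  obtain ⟨hcc, hcp⟩ := commutators_of_two_generators hgen hzc hzp
  -- the power map
  let φ : R →* R :=
    { toFun := fun x => x ^ p
      map_one' := one_pow p
      map_mul' := fun x y => mul_pow_prime_class2 hcc hpP hp x y (hcp y x) }
  have hφ : ∀ x : R, φ x = x ^ p := fun x => rfl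
  have hker : Subgroup.closure {x : R | x ^ p = 1} = φ.ker := by
    have h1 : {x : R | x ^ p = 1} = (φ.ker : Set R) := by
      ext x
      rw [SetLike.mem_coe, MonoidHom.mem_ker, hφ]
      rfl
    rw [h1, Subgroup.closure_eq]
  have hrange_le : φ.range ≤ C := by
    rintro _ ⟨x, rfl⟩
    exact hpowC x
  have hc_notin : c ∉ φ.range := by
    rintro ⟨x, hx⟩
    rw [hφ] at hx
    by_cases hxC : x ∈ C
    · rw [← hc] at hxC
      obtain ⟨i, hi⟩ := Subgroup.mem_zpowers_iff.mp hxC
      rw [← hi, ← zpow_natCast, ← zpow_mul] at hx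
      have h1 : c ^ (i * (p : ℤ) - 1) = 1 := by
        rw [zpow_sub_one, hx, mul_inv_cancel]
      rw [← orderOf_dvd_iff_zpow_eq_one, hm] at h1
      have h2 : (p : ℤ) ∣ i * (p : ℤ) - 1 := by
        refine dvd_trans ?_ h1
        push_cast
        exact dvd_pow_self _ (by omega)
      have h3 : (p : ℤ) ∣ 1 := by
        have := dvd_sub (Dvd.intro_left i rfl : (p : ℤ) ∣ i * (p : ℤ)) h2
        have e : i * (p : ℤ) - (i * (p : ℤ) - 1) = 1 := by ring
        rwa [e] at this
      exact (Nat.prime_iff_prime_int.mp hpP).not_dvd_one h3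
    · apply hnc
      rw [isCyclic_iff_exists_zpowers_eq_top]
      refine ⟨x, eq_top_of_lt_of_index_prime hpP hCi ?_⟩
      have hle : C ≤ Subgroup.zpowers x := by
        rw [← hc, Subgroup.zpowers_le, ← hx]
        exact Subgroup.pow_mem _ (Subgroup.mem_zpowers x) p
      refine lt_of_le_of_ne hle ?_
      intro heq
      apply hxC
      rw [heq]
      exact Subgroup.mem_zpowers x
  have hcard_range : Nat.card φ.range = p ^ (m - 1) := by
    have h1 : Subgroup.zpowers (c ^ p) ≤ φ.range := by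
      rw [Subgroup.zpowers_le]
      exact ⟨c, rfl⟩
    have h2 : Nat.card (Subgroup.zpowers (c ^ p)) = p ^ (m - 1) := by
      rw [Nat.card_zpowers, orderOf_pow, hm]
      have h3 : Nat.gcd (p ^ m) p = p := Nat.gcd_eq_right (dvd_pow_self p (by omega))
      rw [h3]
      obtain ⟨m', rfl⟩ : ∃ m', m = m' + 1 := ⟨m - 1, by omega⟩
      rw [pow_succ, Nat.add_sub_cancel, Nat.mul_div_cancel _ hpP.pos]
    have h4 := Subgroup.card_le_of_le h1
    rw [h2] at h4
    have h5 : Nat.card φ.range ∣ p ^ m := by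
      rw [← hm, ← hcardC]
      exact Subgroup.card_dvd_of_le hrange_le
    obtain ⟨j, hj, hj2⟩ := (Nat.dvd_prime_pow hpP).mp h5
    have hj3 : j ≠ m := by
      rintro rfl
      apply hc_notin
      have h6 : φ.range = C :=
        Subgroup.eq_of_le_of_card_ge hrange_le (by rw [hj2, hcardC, hm])
      rw [h6]
      exact hcC
    rw [hj2] at h4 ⊢
    have h7 : m - 1 ≤ j := (Nat.pow_le_pow_iff_right hpP.one_lt).mp h4
    congr 1
    omega
  have hcard_ker : Nat.card φ.ker = p ^ 2 := by
    have h1 := Subgroup.card_mul_index φ.ker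
    rw [Subgroup.index_ker, hcard_range, hcardR, hm] at h1
    obtain ⟨m', rfl⟩ : ∃ m', m = m' + 1 := ⟨m - 1, by omega⟩
    rw [Nat.add_sub_cancel] at h1
    have h2 : Nat.card φ.ker * p ^ m' = p ^ 2 * p ^ m' := by
      rw [h1]; ring
    exact Nat.eq_of_mul_eq_mul_right (pow_pos hpP.pos m') h2
  rw [hker]
  refine ⟨⟨IsPGroup.isMulCommutative_of_card_eq_prime_sq hcard_ker, ?_⟩, hcard_ker⟩
  intro a ha
  exact MonoidHom.mem_ker.mp ha

end Cfsg.Agent.S0127
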