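import Cfsg.Statements.S0126
import Cfsg.Agent.S0127
import Cfsg.Agent.Lib.helper3.PGroupNormal
import Cfsg.Agent.Lib.helper3.SylowLemmas
-- import your own Cfsg.Agent.* helpers here

set_option autoImplicit false
open Cfsg

namespace Cfsg.Agent.S0126

open Cfsg.Agent.Lib.helper3
open scoped commutatorElement

universe u

/-- The subgroup generated by a conjugation-invariant set is normal. -/
theorem normal_closure_of_conj_invariant {R : Type*} [Group R] (S : Set R)
    (hS : ∀ g x : R, x ∈ S → g * x * g⁻¹ ∈ S) : (Subgroup.closure S).Normal := by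
  refine ⟨fun n hn g => ?_⟩
  induction hn using Subgroup.closure_induction with
  | mem x hx => exact Subgroup.subset_closure (hS g x hx)
  | one => simp
  | mul x y _ _ hx hy =>
    have e : g * (x * y) * g⁻¹ = (g * x * g⁻¹) * (g * y * g⁻¹) := by group
    rw [e]
    exact Subgroup.mul_mem _ hx hy
  | inv x _ hx =>
    have e : g * x⁻¹ * g⁻¹ = (g * x * g⁻¹)⁻¹ := by group
    rw [e]
    exact Subgroup.inv_mem _ hx

/-- A central subgroup `Z` of order `p` together with an element `x` of order `p` outside `Z`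
with `[x, R] ≤ Z` generate a normal elementary abelian subgroup of order `p ^ 2`. -/
theorem exists_of_central_and_elt {R : Type*} [Group R] [Finite R] {p : ℕ} [Fact p.Prime]
    (Z : Subgroup R) (hZc : Z ≤ Subgroup.center R) (hZcard : Nat.card Z = p) (x : R)
    (hxZ : x ∉ Z) (hxp : x ^ p = 1) (hxc : ∀ g : R, ⁅x, g⁆ ∈ Z) :
    ∃ A : Subgroup R, A.Normal ∧ Cfsg.IsElementaryAbelian p A ∧ Nat.card A = p ^ 2 := by
  have hpP : p.Prime := Fact.out
  have hZn : Z.Normal := by
    refine ⟨fun w hw g => ?_⟩
    have := (Subgroup.mem_center_iff.mp (hZc hw)) g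
    rw [this, mul_inv_cancel_right]
    exact hw
  have hZp : ∀ z ∈ Z, z ^ p = 1 := by
    intro z hz
    have h1 : (⟨z, hz⟩ : Z) ^ p = 1 := by
      have := pow_card_eq_one' (G := Z) (x := ⟨z, hz⟩)
      rwa [hZcard] at this
    exact congrArg Subtype.val h1
  have hx1 : x ≠ 1 := by
    rintro rfl
    exact hxZ Z.one_mem
  have hox : orderOf x = p := orderOf_eq_prime hxp hx1
  have hcx : Nat.card (Subgroup.zpowers x) = p := by rw [Nat.card_zpowers, hox]
  -- trivial intersection
  have hinf : Subgroup.zpowers x ⊓ Z = ⊥ := by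
    by_contra hne
    have h1 : Nat.card (Subgroup.zpowers x ⊓ Z : Subgroup R) ∣ p := by
      rw [← hcx]
      exact Subgroup.card_dvd_of_le inf_le_left
    rcases (Nat.dvd_prime hpP).mp h1 with h2 | h2
    · exact hne (Subgroup.card_eq_one.mp h2)
    · have h3 : Subgroup.zpowers x ⊓ Z = Subgroup.zpowers x :=
        Subgroup.eq_of_le_of_card_ge inf_le_left (by rw [h2, hcx])
      apply hxZ
      have h4 : x ∈ Subgroup.zpowers x ⊓ Z := by rw [h3]; exact Subgroup.mem_zpowers x
      exact h4.2
  have hnorm : Subgroup.zpowers x ≤ Subgroup.normalizer (Z : Set R) := by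
    rw [Subgroup.normalizer_eq_top]
    exact le_top
  have hr := relIndex_inf_eq_of_le_normalizer (Subgroup.zpowers x) Z hnorm
  rw [hinf, Subgroup.relIndex_bot_left, hZcard] at hr
  have hcard : Nat.card (Subgroup.zpowers x ⊔ Z : Subgroup R) = p ^ 2 := by
    have := card_mul_relIndex_of_le (le_sup_left : Subgroup.zpowers x ≤ Subgroup.zpowers x ⊔ Z)
    rw [← hr, hcx] at this
    rw [← this, sq]
  have hcomm : IsMulCommutative (Subgroup.zpowers x ⊔ Z : Subgroup R) :=
    IsPGroup.isMulCommutative_of_card_eq_prime_sq hcard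
  refine ⟨Subgroup.zpowers x ⊔ Z, ?_, ⟨hcomm, ?_⟩, hcard⟩
  · -- normal
    refine ⟨fun n hn g => ?_⟩
    have hle : Subgroup.zpowers x ⊔ Z ≤
        (Subgroup.zpowers x ⊔ Z).comap (MulAut.conj g).toMonoidHom := by
      refine sup_le ?_ ?_
      · rw [Subgroup.zpowers_le, Subgroup.mem_comap]
        show g * x * g⁻¹ ∈ _
        have e : g * x * g⁻¹ = ⁅x, g⁆⁻¹ * x := by
          rw [commutatorElement_def]; group
        rw [e]
        exact Subgroup.mul_mem _ (Subgroup.mem_sup_right (Z.inv_mem (hxc g)))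
          (Subgroup.mem_sup_left (Subgroup.mem_zpowers x))
      · intro z hz
        rw [Subgroup.mem_comap]
        show g * z * g⁻¹ ∈ _
        exact Subgroup.mem_sup_right (hZn.conj_mem z hz g)
    exact hle hn
  · -- exponent p
    intro a ha
    obtain ⟨u, hu, z, hz, rfl⟩ := Subgroup.mem_sup_of_normal_right.mp ha
    obtain ⟨i, rfl⟩ := Subgroup.mem_zpowers_iff.mp hu
    have hcm : Commute (x ^ i) z := ((Subgroup.mem_center_iff.mp (hZc hz)) (x ^ i))
    rw [hcm.mul_pow, hZp z hz, mul_one, ← zpow_natCast, ← zpow_mul, mul_comm, zpow_mul,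
      zpow_natCast, hxp, one_zpow]

/-- The main induction. -/
theorem main (p : ℕ) [Fact p.Prime] (hp : p ≠ 2) : ∀ (N : ℕ) (R : Type u) [Group R] [Finite R],
    Nat.card R = N → IsPGroup p R → ¬ IsCyclic R →
    ∃ A : Subgroup R, A.Normal ∧ Cfsg.IsElementaryAbelian p A ∧ Nat.card A = p ^ 2 := by
  intro N
  induction N using Nat.strong_induction_on with
  | _ N ih =>
  intro R _ _ hN hR hnc
  have hpP : p.Prime := Fact.out
  have hnt : Nontrivial R := by
    by_contra hcon
    rw [not_nontrivial_iff_subsingleton] at hcon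
    exact hnc inferInstance
  -- a central subgroup of order p
  obtain ⟨z, -, hzc, hz1, hzp⟩ :=
    exists_central_of_normal_ne_bot hR (⊤ : Subgroup R) (by
      intro h
      exact (bot_ne_top (α := Subgroup R)) h.symm)
  have hZc : Subgroup.zpowers z ≤ Subgroup.center R := by
    rw [Subgroup.zpowers_le]; exact hzc
  have hZcard : Nat.card (Subgroup.zpowers z) = p := by
    rw [Nat.card_zpowers, orderOf_eq_prime hzp hz1]
  have hZn : (Subgroup.zpowers z).Normal := by
    refine ⟨fun w hw g => ?_⟩
    have := (Subgroup.mem_center_iff.mp (hZc hw)) g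
    rw [this, mul_inv_cancel_right]
    exact hw
  have hZp : ∀ w ∈ Subgroup.zpowers z, w ^ p = 1 := by
    intro w hw
    obtain ⟨i, rfl⟩ := Subgroup.mem_zpowers_iff.mp hw
    rw [← zpow_natCast, ← zpow_mul, mul_comm, zpow_mul, zpow_natCast, hzp, one_zpow]
  have hcardQ : Nat.card R = Nat.card (R ⧸ Subgroup.zpowers z) * p := by
    rw [Subgroup.card_eq_card_quotient_mul_card_subgroup (Subgroup.zpowers z), hZcard]
  by_cases hQc : IsCyclic (R ⧸ Subgroup.zpowers z)
  · -- a cyclic subgroup of index p
    obtain ⟨q, hq⟩ := isCyclic_iff_exists_zpowers_eq_top.mp hQc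
    obtain ⟨g, rfl⟩ := QuotientGroup.mk'_surjective (Subgroup.zpowers z) q
    have hsup : Subgroup.zpowers g ⊔ Subgroup.zpowers z = ⊤ := by
      rw [eq_top_iff]
      intro r _
      have h1 : QuotientGroup.mk' (Subgroup.zpowers z) r ∈
          Subgroup.zpowers (QuotientGroup.mk' (Subgroup.zpowers z) g) := by
        rw [hq]; exact Subgroup.mem_top _
      obtain ⟨i, hi⟩ := Subgroup.mem_zpowers_iff.mp h1
      rw [← map_zpow] at hi
      have h2 : (g ^ i)⁻¹ * r ∈ Subgroup.zpowers z := QuotientGroup.eq.mp hi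
      have e : r = g ^ i * ((g ^ i)⁻¹ * r) := by group
      rw [e]
      exact Subgroup.mul_mem_sup (Subgroup.zpow_mem _ (Subgroup.mem_zpowers g) i) h2
    have hnorm : Subgroup.zpowers g ≤ Subgroup.normalizer (Subgroup.zpowers z : Set R) := by
      rw [Subgroup.normalizer_eq_top]
      exact le_top
    have hr := relIndex_inf_eq_of_le_normalizer (Subgroup.zpowers g) (Subgroup.zpowers z) hnorm
    rw [hsup, Subgroup.relIndex_top_right] at hr
    have hdvd : (Subgroup.zpowers g).index ∣ p := by
      rw [← hr, ← hZcard]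
      exact Subgroup.relIndex_dvd_card _ _
    rcases (Nat.dvd_prime hpP).mp hdvd with h1 | h1
    · exfalso
      apply hnc
      rw [isCyclic_iff_exists_zpowers_eq_top]
      exact ⟨g, Subgroup.index_eq_one.mp h1⟩
    · have hcyc : IsCyclic (Subgroup.zpowers g) :=
        (Subgroup.isCyclic_iff_exists_zpowers_eq_top _).mpr ⟨g, rfl⟩
      obtain ⟨hea, hcard⟩ := Cfsg.Agent.S0127.result hp hR hnc (Subgroup.zpowers g) hcyc h1
      refine ⟨_, ?_, hea, hcard⟩
      apply normal_closure_of_conj_invariant
      intro g x hx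
      show (g * x * g⁻¹) ^ p = 1
      rw [conj_pow, (show x ^ p = 1 from hx)]
      group
  · -- induction
    have hlt : Nat.card (R ⧸ Subgroup.zpowers z) < N := by
      rw [← hN, hcardQ]
      have h1 : 0 < Nat.card (R ⧸ Subgroup.zpowers z) := Nat.card_pos
      have h2 := hpP.two_le
      nlinarith
    obtain ⟨B', hB'n, ⟨hB'comm, hB'exp⟩, hB'card⟩ :=
      ih _ hlt (R ⧸ Subgroup.zpowers z) rfl (hR.to_quotient _) hQc
    have hBn : (B'.comap (QuotientGroup.mk' (Subgroup.zpowers z))).Normal := hB'n.comap _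
    have hZB : Subgroup.zpowers z ≤ B'.comap (QuotientGroup.mk' (Subgroup.zpowers z)) := by
      have := MonoidHom.ker_le_comap (QuotientGroup.mk' (Subgroup.zpowers z)) B'
      rwa [QuotientGroup.ker_mk'] at this
    have hBpow : ∀ x ∈ B'.comap (QuotientGroup.mk' (Subgroup.zpowers z)),
        x ^ p ∈ Subgroup.zpowers z := by
      intro x hx
      apply (QuotientGroup.eq_one_iff _).mp
      rw [QuotientGroup.mk_pow]
      exact hB'exp _ hx
    have hBcomm : ∀ x ∈ B'.comap (QuotientGroup.mk' (Subgroup.zpowers z)),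
        ∀ y ∈ B'.comap (QuotientGroup.mk' (Subgroup.zpowers z)), ⁅x, y⁆ ∈ Subgroup.zpowers z := by
      intro x hx y hy
      apply (QuotientGroup.eq_one_iff _).mp
      have h2 : ((⁅x, y⁆ : R) : R ⧸ Subgroup.zpowers z) =
          ⁅QuotientGroup.mk' (Subgroup.zpowers z) x, QuotientGroup.mk' (Subgroup.zpowers z) y⁆ :=
        map_commutatorElement (QuotientGroup.mk' (Subgroup.zpowers z)) x y
      rw [h2, commutatorElement_eq_one_iff_commute]
      have h3 := hB'comm.is_comm.comm (⟨_, hx⟩ : B') ⟨_, hy⟩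
      exact congrArg Subtype.val h3
    have hBcard : Nat.card (B'.comap (QuotientGroup.mk' (Subgroup.zpowers z))) = p ^ 3 := by
      have hidx : (B'.comap (QuotientGroup.mk' (Subgroup.zpowers z))).index = B'.index :=
        Subgroup.index_comap_of_surjective _ (QuotientGroup.mk'_surjective _)
      have e1 := Subgroup.card_mul_index B'
      have e2 := Subgroup.card_mul_index (B'.comap (QuotientGroup.mk' (Subgroup.zpowers z)))
      rw [hidx, hcardQ, ← e1, hB'card] at e2
      have hi : 0 < B'.index := Nat.pos_of_ne_zero Subgroup.index_ne_zero_of_finite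
      have e3 : Nat.card (B'.comap (QuotientGroup.mk' (Subgroup.zpowers z))) * B'.index =
          p ^ 3 * B'.index := by
        rw [e2]; ring
      exact Nat.eq_of_mul_eq_mul_right hi e3
    -- the group B
    have hccB : CommCentral (B'.comap (QuotientGroup.mk' (Subgroup.zpowers z))) := by
      intro x y w
      apply Subtype.ext
      have h1 : ⁅(x : R), (y : R)⁆ ∈ Subgroup.center R := hZc (hBcomm x x.2 y y.2)
      exact ((Subgroup.mem_center_iff.mp h1) (w : R)).symm
    have hcpB : ∀ x y : B'.comap (QuotientGroup.mk' (Subgroup.zpowers z)), ⁅x, y⁆ ^ p = 1 := by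
      intro x y
      apply Subtype.ext
      exact hZp _ (hBcomm x x.2 y y.2)
    let ψ : B'.comap (QuotientGroup.mk' (Subgroup.zpowers z)) →*
        B'.comap (QuotientGroup.mk' (Subgroup.zpowers z)) :=
      { toFun := fun x => x ^ p
        map_one' := one_pow p
        map_mul' := fun x y => mul_pow_prime_class2 hccB hpP hp x y (hcpB y x) }
    have hψ : ∀ x, ψ x = x ^ p := fun x => rfl
    have hrange : ψ.range ≤
        (Subgroup.zpowers z).subgroupOf (B'.comap (QuotientGroup.mk' (Subgroup.zpowers z))) := by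
      rintro _ ⟨x, rfl⟩
      rw [Subgroup.mem_subgroupOf, hψ]
      exact hBpow x x.2
    have hcr : Nat.card ψ.range ≤ p := by
      have h1 := Subgroup.card_le_of_le hrange
      rwa [Nat.card_congr (Subgroup.subgroupOfEquivOfLe hZB).toEquiv, hZcard] at h1
    have hck : p ^ 2 ≤ Nat.card ψ.ker := by
      have h1 := Subgroup.card_mul_index ψ.ker
      rw [Subgroup.index_ker, hBcard] at h1
      have h2 : p ^ 3 ≤ Nat.card ψ.ker * p := by
        rw [← h1]
        exact Nat.mul_le_mul_left _ hcr
      have h3 : p ^ 2 * p ≤ Nat.card ψ.ker * p := by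
        calc p ^ 2 * p = p ^ 3 := by ring
          _ ≤ _ := h2
      exact Nat.le_of_mul_le_mul_right h3 hpP.pos
    -- Ω as a subgroup of R
    have hΩmem : ∀ x : R, x ∈ ψ.ker.map (B'.comap (QuotientGroup.mk' (Subgroup.zpowers z))).subtype ↔
        x ∈ B'.comap (QuotientGroup.mk' (Subgroup.zpowers z)) ∧ x ^ p = 1 := by
      intro x
      constructor
      · rintro ⟨y, hy, rfl⟩
        refine ⟨y.2, ?_⟩
        have h1 : ψ y = 1 := MonoidHom.mem_ker.mp hy
        rw [hψ] at h1
        exact congrArg Subtype.val h1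
      · rintro ⟨hx, hxp⟩
        refine ⟨⟨x, hx⟩, MonoidHom.mem_ker.mpr ?_, rfl⟩
        rw [hψ]
        exact Subtype.ext hxp
    have hΩn : (ψ.ker.map (B'.comap (QuotientGroup.mk' (Subgroup.zpowers z))).subtype).Normal := by
      refine ⟨fun n hn g => ?_⟩
      rw [hΩmem] at hn ⊢
      refine ⟨hBn.conj_mem n hn.1 g, ?_⟩
      rw [conj_pow, hn.2]
      group
    have hΩcard : p ^ 2 ≤
        Nat.card (ψ.ker.map (B'.comap (QuotientGroup.mk' (Subgroup.zpowers z))).subtype) := by
      rw [Subgroup.card_map_of_injective (Subgroup.subtype_injective _)]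
      exact hck
    have hZΩ : Subgroup.zpowers z <
        ψ.ker.map (B'.comap (QuotientGroup.mk' (Subgroup.zpowers z))).subtype := by
      have hle : Subgroup.zpowers z ≤
          ψ.ker.map (B'.comap (QuotientGroup.mk' (Subgroup.zpowers z))).subtype := by
        intro w hw
        rw [hΩmem]
        exact ⟨hZB hw, hZp w hw⟩
      refine lt_of_le_of_ne hle ?_
      intro heq
      rw [← heq, hZcard] at hΩcard
      have := hpP.one_lt
      nlinarith
    obtain ⟨x, hxΩ, hxZ, -, hxc⟩ :=
      exists_mem_not_mem_of_normal_lt hR (Subgroup.zpowers z)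
        (ψ.ker.map (B'.comap (QuotientGroup.mk' (Subgroup.zpowers z))).subtype) hZΩ
    exact exists_of_central_and_elt (Subgroup.zpowers z) hZc hZcard x hxZ
      ((hΩmem x).mp hxΩ).2 hxc

/-- For odd p, every non-cyclic p-group contains a normal elementary abelian subgroup of order p^2. -/
theorem result {R : Type*} [Group R] [Finite R] {p : ℕ} [Fact p.Prime] (hp : p ≠ 2) (hR : IsPGroup p R) (hnc : ¬ IsCyclic R) : ∃ A : Subgroup R, A.Normal ∧ Cfsg.IsElementaryAbelian p A ∧ Nat.card A = p ^ 2 := by
  exact main p hp (Nat.card R) R rfl hR hnc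

end Cfsg.Agent.S0126
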