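import Cfsg.Statements.S0638
import Cfsg.Agent.S0126

set_option autoImplicit false
open Cfsg

namespace Cfsg.Agent.S0638

/-- An elementary abelian subgroup of order `p ^ 2` cannot lie in a cyclic subgroup. -/
theorem not_le_cyclic {R : Type*} [Group R] [Finite R] {p : ℕ} [Fact p.Prime] (A M : Subgroup R)
    (hA : Cfsg.IsElementaryAbelian p A) (hAcard : Nat.card A = p ^ 2) (hAM : A ≤ M)
    (hM : IsCyclic M) : False := by
  have hpP : p.Prime := Fact.out
  have hAc : IsCyclic A := Subgroup.isCyclic_of_le hAM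
  obtain ⟨a, ha⟩ := isCyclic_iff_exists_zpowers_eq_top.mp hAc
  have h1 : a ^ p = 1 := Subtype.ext (hA.2 a a.2)
  have h2 : Nat.card A = orderOf a := by
    rw [← Nat.card_zpowers, ha, Subgroup.card_top]
  have h3 : orderOf a ∣ p := orderOf_dvd_of_pow_eq_one h1
  have h4 := Nat.le_of_dvd hpP.pos h3
  rw [← h2, hAcard] at h4
  have := hpP.one_lt
  nlinarith

/-- For odd p, in a non-cyclic metacyclic p-group the elements of order dividing p generate an elementary abelian subgroup of order p². -/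
theorem result {R : Type*} [Group R] [Finite R] {p : ℕ} [Fact p.Prime] (hp : p ≠ 2) (hR : IsPGroup p R) (hm : Cfsg.IsMetacyclic R) (hnc : ¬ IsCyclic R) : Cfsg.IsElementaryAbelian p (Cfsg.omegaOne p (⊤ : Subgroup R)) ∧ Nat.card ↥(Cfsg.omegaOne p (⊤ : Subgroup R)) = p ^ 2 := by
  obtain ⟨N, hNn, hNc, hQc⟩ := hm
  have hpP : p.Prime := Fact.out
  have hcomm : ∀ a b : R ⧸ N, a * b = b * a := by
    obtain ⟨g, hg⟩ := hQc.exists_generator
    intro a b
    obtain ⟨i, rfl⟩ := Subgroup.mem_zpowers_iff.mp (hg a)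
    obtain ⟨j, rfl⟩ := Subgroup.mem_zpowers_iff.mp (hg b)
    rw [← zpow_add, ← zpow_add, add_comm]
  let M : Subgroup R :=
    { carrier := {x | x ^ p ∈ N}
      one_mem' := by
        show (1 : R) ^ p ∈ N
        rw [one_pow]; exact N.one_mem
      mul_mem' := by
        intro a b ha hb
        have ha' : a ^ p ∈ N := ha
        have hb' : b ^ p ∈ N := hb
        show (a * b) ^ p ∈ N
        rw [← QuotientGroup.eq_one_iff] at ha' hb' ⊢
        rw [QuotientGroup.mk_pow] at ha' hb' ⊢
        rw [QuotientGroup.mk_mul,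
          (show Commute (a : R ⧸ N) (b : R ⧸ N) from hcomm _ _).mul_pow, ha', hb', one_mul]
      inv_mem' := by
        intro a ha
        have ha' : a ^ p ∈ N := ha
        show a⁻¹ ^ p ∈ N
        rw [inv_pow]; exact N.inv_mem ha' }
  have hMmem : ∀ x : R, x ∈ M ↔ x ^ p ∈ N := fun x => Iff.rfl
  have hNM : N ≤ M := fun x hx => (hMmem x).mpr (N.pow_mem hx p)
  have hE : ∀ x : R, x ^ p = 1 → x ∈ M := fun x hx => by rw [hMmem, hx]; exact N.one_mem
  -- a normal elementary abelian subgroup of order p², inside M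
  obtain ⟨A, -, hAea, hAcard⟩ := Cfsg.Agent.S0126.result hp hR hnc
  have hAM : A ≤ M := fun x hx => hE x (hAea.2 x hx)
  have hMnc : ¬ IsCyclic M := fun h => not_le_cyclic A M hAea hAcard hAM h
  -- the index of N in M
  have hrel : N.relIndex M = p := by
    have h1 : N.relIndex M = Nat.card (M.map (QuotientGroup.mk' N)) := by
      have := Subgroup.relIndex_ker (K := M) (QuotientGroup.mk' N)
      rwa [QuotientGroup.ker_mk'] at this
    have hc : IsCyclic (M.map (QuotientGroup.mk' N)) := Subgroup.isCyclic _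
    obtain ⟨y, hy⟩ := isCyclic_iff_exists_zpowers_eq_top.mp hc
    have hyp : y ^ p = 1 := by
      obtain ⟨x, hx, hxy⟩ := y.2
      apply Subtype.ext
      rw [Subgroup.coe_pow, ← hxy, ← map_pow]
      exact (QuotientGroup.eq_one_iff _).mpr ((hMmem x).mp hx)
    have h2 : Nat.card (M.map (QuotientGroup.mk' N)) = orderOf y := by
      rw [← Nat.card_zpowers, hy, Subgroup.card_top]
    have h3 : orderOf y ∣ p := orderOf_dvd_of_pow_eq_one hyp
    rcases (Nat.dvd_prime hpP).mp h3 with h4 | h4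
    · exfalso
      apply hMnc
      have hle : M ≤ N := Subgroup.relIndex_eq_one.mp (by rw [h1, h2, h4])
      exact Subgroup.isCyclic_of_le hle
    · rw [h1, h2, h4]
  have hCc : IsCyclic (N.subgroupOf M) :=
    isCyclic_of_surjective (Subgroup.subgroupOfEquivOfLe hNM).symm.toMonoidHom
      (Subgroup.subgroupOfEquivOfLe hNM).symm.surjective
  obtain ⟨⟨hcom, hexp⟩, hcard⟩ :=
    Cfsg.Agent.S0127.result hp (hR.to_subgroup M) hMnc (N.subgroupOf M) hCc hrel
  have hAeq : (Subgroup.closure {x : M | x ^ p = 1}).map M.subtype =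
      Cfsg.omegaOne p (⊤ : Subgroup R) := by
    unfold Cfsg.omegaOne
    rw [MonoidHom.map_closure]
    congr 1
    ext y
    constructor
    · rintro ⟨x, hx, rfl⟩
      exact ⟨Subgroup.mem_top _, congrArg Subtype.val (show x ^ p = 1 from hx)⟩
    · rintro ⟨-, hyp⟩
      exact ⟨⟨y, hE y hyp⟩, Subtype.ext hyp, rfl⟩
  rw [← hAeq]
  refine ⟨⟨?_, ?_⟩, ?_⟩
  · have := hcom
    exact Subgroup.map_isMulCommutative _ _
  · rintro a ⟨x, hx, rfl⟩
    exact congrArg Subtype.val (hexp x hx)
  · rw [Subgroup.card_map_of_injective (Subgroup.subtype_injective _)]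
    exact hcard

end Cfsg.Agent.S0638
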