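import Cfsg.Statements.S0636
import Cfsg.Agent.S0126

set_option autoImplicit false
open Cfsg

namespace Cfsg.Agent.S0636

open Cfsg.Agent.Lib.helper3
open scoped commutatorElement

universe u

/-- A central subgroup `Z` of order `p` together with an element `x` of order `p` outside `Z`
with `[x, R] ≤ Z` generate a normal elementary abelian subgroup of order `p ^ 2`
(explicit form of the lemma of helper3 in `S0126`). -/
theorem central_and_elt {R : Type*} [Group R] [Finite R] {p : ℕ} [Fact p.Prime]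
    (Z : Subgroup R) (hZc : Z ≤ Subgroup.center R) (hZcard : Nat.card Z = p) (x : R)
    (hxZ : x ∉ Z) (hxp : x ^ p = 1) (hxc : ∀ g : R, ⁅x, g⁆ ∈ Z) :
    (Subgroup.zpowers x ⊔ Z).Normal ∧
      Cfsg.IsElementaryAbelian p (Subgroup.zpowers x ⊔ Z : Subgroup R) ∧
      Nat.card (Subgroup.zpowers x ⊔ Z : Subgroup R) = p ^ 2 := by
  have hpP : p.Prime := Fact.out
  have hZn : Z.Normal := by
    refine ⟨fun w hw g => ?_⟩
    have := (Subgroup.mem_center_iff.mp (hZc hw)) g
    rw [this, mul_inv_cancel_right]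
    exact hw
  have hZp : ∀ z ∈ Z, z ^ p = 1 := by
    intro z hz
    have h1 : (⟨z, hz⟩ : Z) ^ p = 1 := by
      have := pow_card_eq_one' (G := Z) (x := ⟨z, hz⟩)
      rwa [hZcard] at this
    exact congrArg Subtype.val h1
  have hx1 : x ≠ 1 := by
    rintro rfl
    exact hxZ Z.one_mem
  have hox : orderOf x = p := orderOf_eq_prime hxp hx1
  have hcx : Nat.card (Subgroup.zpowers x) = p := by rw [Nat.card_zpowers, hox]
  have hinf : Subgroup.zpowers x ⊓ Z = ⊥ := by
    by_contra hne
    have h1 : Nat.card (Subgroup.zpowers x ⊓ Z : Subgroup R) ∣ p := by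
      rw [← hcx]
      exact Subgroup.card_dvd_of_le inf_le_left
    rcases (Nat.dvd_prime hpP).mp h1 with h2 | h2
    · exact hne (Subgroup.card_eq_one.mp h2)
    · have h3 : Subgroup.zpowers x ⊓ Z = Subgroup.zpowers x :=
        Subgroup.eq_of_le_of_card_ge inf_le_left (by rw [h2, hcx])
      apply hxZ
      have h4 : x ∈ Subgroup.zpowers x ⊓ Z := by rw [h3]; exact Subgroup.mem_zpowers x
      exact h4.2
  have hnorm : Subgroup.zpowers x ≤ Subgroup.normalizer (Z : Set R) := by
    rw [Subgroup.normalizer_eq_top]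
    exact le_top
  have hr := relIndex_inf_eq_of_le_normalizer (Subgroup.zpowers x) Z hnorm
  rw [hinf, Subgroup.relIndex_bot_left, hZcard] at hr
  have hcard : Nat.card (Subgroup.zpowers x ⊔ Z : Subgroup R) = p ^ 2 := by
    have := card_mul_relIndex_of_le (le_sup_left : Subgroup.zpowers x ≤ Subgroup.zpowers x ⊔ Z)
    rw [← hr, hcx] at this
    rw [← this, sq]
  have hcomm : IsMulCommutative (Subgroup.zpowers x ⊔ Z : Subgroup R) :=
    IsPGroup.isMulCommutative_of_card_eq_prime_sq hcard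
  refine ⟨?_, ⟨hcomm, ?_⟩, hcard⟩
  · refine ⟨fun n hn g => ?_⟩
    have hle : Subgroup.zpowers x ⊔ Z ≤
        (Subgroup.zpowers x ⊔ Z).comap (MulAut.conj g).toMonoidHom := by
      refine sup_le ?_ ?_
      · rw [Subgroup.zpowers_le, Subgroup.mem_comap]
        show g * x * g⁻¹ ∈ _
        have e : g * x * g⁻¹ = ⁅x, g⁆⁻¹ * x := by
          rw [commutatorElement_def]; group
        rw [e]
        exact Subgroup.mul_mem _ (Subgroup.mem_sup_right (Z.inv_mem (hxc g)))
          (Subgroup.mem_sup_left (Subgroup.mem_zpowers x))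
      · intro z hz
        rw [Subgroup.mem_comap]
        show g * z * g⁻¹ ∈ _
        exact Subgroup.mem_sup_right (hZn.conj_mem z hz g)
    exact hle hn
  · intro a ha
    obtain ⟨u, hu, z, hz, rfl⟩ := Subgroup.mem_sup_of_normal_right.mp ha
    obtain ⟨i, rfl⟩ := Subgroup.mem_zpowers_iff.mp hu
    have hcm : Commute (x ^ i) z := ((Subgroup.mem_center_iff.mp (hZc hz)) (x ^ i))
    rw [hcm.mul_pow, hZp z hz, mul_one, ← zpow_natCast, ← zpow_mul, mul_comm, zpow_mul,
      zpow_natCast, hxp, one_zpow]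

/-- The case of a normal subgroup `S = ⟨g⟩ Z` with `Z` central of order `p`. -/
theorem cyclic_quotient_case {R : Type u} [Group R] [Finite R] {p : ℕ} [Fact p.Prime]
    (hp : p ≠ 2) (hR : IsPGroup p R) (S : Subgroup R) [hSn : S.Normal] (hS : ¬ IsCyclic S)
    (z : R) (hzS : z ∈ S) (hzc : z ∈ Subgroup.center R) (hz1 : z ≠ 1) (hzp : z ^ p = 1)
    (g : R) (hg : g ∈ S) (hgen : S ≤ Subgroup.zpowers g ⊔ Subgroup.zpowers z) :
    ∃ A : Subgroup R, A ≤ S ∧ A.Normal ∧ Cfsg.IsElementaryAbelian p A ∧ Nat.card A = p ^ 2 := by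
  have hpP : p.Prime := Fact.out
  have hZn : (Subgroup.zpowers z).Normal := by
    refine ⟨fun w hw g => ?_⟩
    obtain ⟨i, rfl⟩ := Subgroup.mem_zpowers_iff.mp hw
    have h1 : z ^ i ∈ Subgroup.center R := Subgroup.zpow_mem _ hzc i
    have := (Subgroup.mem_center_iff.mp h1) g
    rw [this, mul_inv_cancel_right]
    exact Subgroup.zpow_mem _ (Subgroup.mem_zpowers z) i
  set gS : S := ⟨g, hg⟩ with hgS
  set zS : S := ⟨z, hzS⟩ with hzS'
  have hZcard : Nat.card (Subgroup.zpowers zS) = p := by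
    rw [Nat.card_zpowers]
    apply orderOf_eq_prime
    · exact Subtype.ext hzp
    · intro h; exact hz1 (congrArg Subtype.val h)
  have hzSc : ∀ s : S, zS * s = s * zS := by
    intro s
    apply Subtype.ext
    exact ((Subgroup.mem_center_iff.mp hzc) (s : R)).symm
  have hZSn : (Subgroup.zpowers zS).Normal := by
    refine ⟨fun w hw s => ?_⟩
    obtain ⟨i, rfl⟩ := Subgroup.mem_zpowers_iff.mp hw
    have h1 : s * zS ^ i = zS ^ i * s := by
      have : Commute s zS := (hzSc s).symm
      exact (this.zpow_right i).eq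
    rw [h1, mul_inv_cancel_right]
    exact Subgroup.zpow_mem _ (Subgroup.mem_zpowers zS) i
  have hsup : Subgroup.zpowers gS ⊔ Subgroup.zpowers zS = ⊤ := by
    rw [eq_top_iff]
    intro s _
    obtain ⟨u, hu, w, hw, huw⟩ := Subgroup.mem_sup_of_normal_right.mp (hgen s.2)
    obtain ⟨i, rfl⟩ := Subgroup.mem_zpowers_iff.mp hu
    obtain ⟨j, rfl⟩ := Subgroup.mem_zpowers_iff.mp hw
    have e : s = gS ^ i * zS ^ j := by
      apply Subtype.ext
      rw [Subgroup.coe_mul, Subgroup.coe_zpow, Subgroup.coe_zpow]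
      exact huw.symm
    rw [e]
    exact Subgroup.mul_mem_sup (Subgroup.zpow_mem _ (Subgroup.mem_zpowers gS) i)
      (Subgroup.zpow_mem _ (Subgroup.mem_zpowers zS) j)
  have hnorm : Subgroup.zpowers gS ≤ Subgroup.normalizer (Subgroup.zpowers zS : Set S) := by
    rw [Subgroup.normalizer_eq_top]
    exact le_top
  have hr := relIndex_inf_eq_of_le_normalizer (Subgroup.zpowers gS) (Subgroup.zpowers zS) hnorm
  rw [hsup, Subgroup.relIndex_top_right] at hr
  have hdvd : (Subgroup.zpowers gS).index ∣ p := by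
    rw [← hr, ← hZcard]
    exact Subgroup.relIndex_dvd_card _ _
  rcases (Nat.dvd_prime hpP).mp hdvd with h1 | h1
  · exfalso
    apply hS
    rw [isCyclic_iff_exists_zpowers_eq_top]
    exact ⟨gS, Subgroup.index_eq_one.mp h1⟩
  · have hcyc : IsCyclic (Subgroup.zpowers gS) :=
      (Subgroup.isCyclic_iff_exists_zpowers_eq_top _).mpr ⟨gS, rfl⟩
    obtain ⟨⟨hcomm, hexp⟩, hcard⟩ :=
      Cfsg.Agent.S0127.result hp (hR.to_subgroup S) hS (Subgroup.zpowers gS) hcyc h1
    have hAeq : (Subgroup.closure {x : S | x ^ p = 1}).map S.subtype =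
        Subgroup.closure {y : R | y ∈ S ∧ y ^ p = 1} := by
      rw [MonoidHom.map_closure]
      congr 1
      ext y
      constructor
      · rintro ⟨x, hx, rfl⟩
        exact ⟨x.2, congrArg Subtype.val (show x ^ p = 1 from hx)⟩
      · rintro ⟨hy, hyp⟩
        exact ⟨⟨y, hy⟩, Subtype.ext hyp, rfl⟩
    refine ⟨(Subgroup.closure {x : S | x ^ p = 1}).map S.subtype, Subgroup.map_subtype_le _, ?_,
      ⟨?_, ?_⟩, ?_⟩
    · rw [hAeq]
      apply Cfsg.Agent.S0126.normal_closure_of_conj_invariant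
      rintro k x ⟨hxS, hxp⟩
      refine ⟨hSn.conj_mem x hxS k, ?_⟩
      rw [conj_pow, hxp]
      group
    · have := hcomm
      exact Subgroup.map_isMulCommutative _ _
    · rintro a ⟨x, hx, rfl⟩
      have := hexp x hx
      exact congrArg Subtype.val this
    · rw [Subgroup.card_map_of_injective (Subgroup.subtype_injective _)]
      exact hcard

/-- The main induction. -/
theorem main (p : ℕ) [Fact p.Prime] (hp : p ≠ 2) : ∀ (N : ℕ) (R : Type u) [Group R] [Finite R]
    (S : Subgroup R), Nat.card S = N → IsPGroup p R → S.Normal → ¬ IsCyclic S →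
    ∃ A : Subgroup R, A ≤ S ∧ A.Normal ∧ Cfsg.IsElementaryAbelian p A ∧ Nat.card A = p ^ 2 := by
  intro N
  induction N using Nat.strong_induction_on with
  | _ N ih =>
  intro R _ _ S hN hR hSn hnc
  have hpP : p.Prime := Fact.out
  have hSbot : S ≠ ⊥ := by
    rintro rfl
    exact hnc inferInstance
  -- a central subgroup of order p inside S
  obtain ⟨z, hzS, hzc, hz1, hzp⟩ := exists_central_of_normal_ne_bot hR S hSbot
  by_cases hex : ∃ g ∈ S, S ≤ Subgroup.zpowers g ⊔ Subgroup.zpowers z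
  · obtain ⟨g, hg, hgen⟩ := hex
    exact cyclic_quotient_case hp hR S hnc z hzS hzc hz1 hzp g hg hgen
  have hZc : Subgroup.zpowers z ≤ Subgroup.center R := by
    rw [Subgroup.zpowers_le]; exact hzc
  have hZS : Subgroup.zpowers z ≤ S := by
    rw [Subgroup.zpowers_le]; exact hzS
  have hZcard : Nat.card (Subgroup.zpowers z) = p := by
    rw [Nat.card_zpowers, orderOf_eq_prime hzp hz1]
  have hZn : (Subgroup.zpowers z).Normal := by
    refine ⟨fun w hw g => ?_⟩
    have := (Subgroup.mem_center_iff.mp (hZc hw)) g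
    rw [this, mul_inv_cancel_right]
    exact hw
  have hZp : ∀ w ∈ Subgroup.zpowers z, w ^ p = 1 := by
    intro w hw
    obtain ⟨i, rfl⟩ := Subgroup.mem_zpowers_iff.mp hw
    rw [← zpow_natCast, ← zpow_mul, mul_comm, zpow_mul, zpow_natCast, hzp, one_zpow]
  have hcardQ : Nat.card R = Nat.card (R ⧸ Subgroup.zpowers z) * p := by
    rw [Subgroup.card_eq_card_quotient_mul_card_subgroup (Subgroup.zpowers z), hZcard]
  -- the image of S
  have hS'n : (S.map (QuotientGroup.mk' (Subgroup.zpowers z))).Normal :=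
    Subgroup.Normal.map hSn _ (QuotientGroup.mk'_surjective _)
  have hcomap : (S.map (QuotientGroup.mk' (Subgroup.zpowers z))).comap
      (QuotientGroup.mk' (Subgroup.zpowers z)) = S := by
    apply Subgroup.comap_map_eq_self
    rw [QuotientGroup.ker_mk']
    exact hZS
  have hS'card : Nat.card S = Nat.card (S.map (QuotientGroup.mk' (Subgroup.zpowers z))) * p := by
    have hidx : ((S.map (QuotientGroup.mk' (Subgroup.zpowers z))).comap
        (QuotientGroup.mk' (Subgroup.zpowers z))).index =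
        (S.map (QuotientGroup.mk' (Subgroup.zpowers z))).index :=
      Subgroup.index_comap_of_surjective _ (QuotientGroup.mk'_surjective _)
    rw [hcomap] at hidx
    have e1 := Subgroup.card_mul_index (S.map (QuotientGroup.mk' (Subgroup.zpowers z)))
    have e2 := Subgroup.card_mul_index S
    rw [hidx, hcardQ, ← e1] at e2
    have hi : 0 < (S.map (QuotientGroup.mk' (Subgroup.zpowers z))).index :=
      Nat.pos_of_ne_zero Subgroup.index_ne_zero_of_finite
    have e3 : Nat.card S * (S.map (QuotientGroup.mk' (Subgroup.zpowers z))).index =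
        Nat.card (S.map (QuotientGroup.mk' (Subgroup.zpowers z))) * p *
          (S.map (QuotientGroup.mk' (Subgroup.zpowers z))).index := by
      rw [e2]; ring
    exact Nat.eq_of_mul_eq_mul_right hi e3
  have hlt : Nat.card (S.map (QuotientGroup.mk' (Subgroup.zpowers z))) < N := by
    rw [← hN, hS'card]
    have h1 : 0 < Nat.card (S.map (QuotientGroup.mk' (Subgroup.zpowers z))) := Nat.card_pos
    have h2 := hpP.two_le
    nlinarith
  have hS'nc : ¬ IsCyclic (S.map (QuotientGroup.mk' (Subgroup.zpowers z))) := by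
    intro hcyc
    apply hex
    obtain ⟨q, hq⟩ := isCyclic_iff_exists_zpowers_eq_top.mp hcyc
    obtain ⟨g, hg, hgq⟩ := q.2
    refine ⟨g, hg, ?_⟩
    intro s hs
    have h1 : (⟨QuotientGroup.mk' (Subgroup.zpowers z) s, Subgroup.mem_map_of_mem _ hs⟩ :
        S.map (QuotientGroup.mk' (Subgroup.zpowers z))) ∈ Subgroup.zpowers q := by
      rw [hq]; exact Subgroup.mem_top _
    obtain ⟨i, hi⟩ := Subgroup.mem_zpowers_iff.mp h1
    have hi' := congrArg Subtype.val hi
    rw [Subgroup.coe_zpow, ← hgq, ← map_zpow] at hi'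
    have h2 : (g ^ i)⁻¹ * s ∈ Subgroup.zpowers z := QuotientGroup.eq.mp hi'
    have e : s = g ^ i * ((g ^ i)⁻¹ * s) := by group
    rw [e]
    exact Subgroup.mul_mem_sup (Subgroup.zpow_mem _ (Subgroup.mem_zpowers g) i) h2
  obtain ⟨B', hB'S, hB'n, ⟨hB'comm, hB'exp⟩, hB'card⟩ :=
    ih _ hlt (R ⧸ Subgroup.zpowers z) (S.map (QuotientGroup.mk' (Subgroup.zpowers z))) rfl
      (hR.to_quotient _) hS'n hS'nc
  have hBS : B'.comap (QuotientGroup.mk' (Subgroup.zpowers z)) ≤ S := by
    rw [← hcomap]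
    exact Subgroup.comap_mono hB'S
  have hBn : (B'.comap (QuotientGroup.mk' (Subgroup.zpowers z))).Normal := hB'n.comap _
  have hZB : Subgroup.zpowers z ≤ B'.comap (QuotientGroup.mk' (Subgroup.zpowers z)) := by
    have := MonoidHom.ker_le_comap (QuotientGroup.mk' (Subgroup.zpowers z)) B'
    rwa [QuotientGroup.ker_mk'] at this
  have hBpow : ∀ x ∈ B'.comap (QuotientGroup.mk' (Subgroup.zpowers z)),
      x ^ p ∈ Subgroup.zpowers z := by
    intro x hx
    apply (QuotientGroup.eq_one_iff _).mp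
    rw [QuotientGroup.mk_pow]
    exact hB'exp _ hx
  have hBcomm : ∀ x ∈ B'.comap (QuotientGroup.mk' (Subgroup.zpowers z)),
      ∀ y ∈ B'.comap (QuotientGroup.mk' (Subgroup.zpowers z)), ⁅x, y⁆ ∈ Subgroup.zpowers z := by
    intro x hx y hy
    apply (QuotientGroup.eq_one_iff _).mp
    have h2 : ((⁅x, y⁆ : R) : R ⧸ Subgroup.zpowers z) =
        ⁅QuotientGroup.mk' (Subgroup.zpowers z) x, QuotientGroup.mk' (Subgroup.zpowers z) y⁆ :=
      map_commutatorElement (QuotientGroup.mk' (Subgroup.zpowers z)) x y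
    rw [h2, commutatorElement_eq_one_iff_commute]
    have h3 := hB'comm.is_comm.comm (⟨_, hx⟩ : B') ⟨_, hy⟩
    exact congrArg Subtype.val h3
  have hBcard : Nat.card (B'.comap (QuotientGroup.mk' (Subgroup.zpowers z))) = p ^ 3 := by
    have hidx : (B'.comap (QuotientGroup.mk' (Subgroup.zpowers z))).index = B'.index :=
      Subgroup.index_comap_of_surjective _ (QuotientGroup.mk'_surjective _)
    have e1 := Subgroup.card_mul_index B'
    have e2 := Subgroup.card_mul_index (B'.comap (QuotientGroup.mk' (Subgroup.zpowers z)))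
    rw [hidx, hcardQ, ← e1, hB'card] at e2
    have hi : 0 < B'.index := Nat.pos_of_ne_zero Subgroup.index_ne_zero_of_finite
    have e3 : Nat.card (B'.comap (QuotientGroup.mk' (Subgroup.zpowers z))) * B'.index =
        p ^ 3 * B'.index := by
      rw [e2]; ring
    exact Nat.eq_of_mul_eq_mul_right hi e3
  have hccB : CommCentral (B'.comap (QuotientGroup.mk' (Subgroup.zpowers z))) := by
    intro x y w
    apply Subtype.ext
    have h1 : ⁅(x : R), (y : R)⁆ ∈ Subgroup.center R := hZc (hBcomm x x.2 y y.2)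
    exact ((Subgroup.mem_center_iff.mp h1) (w : R)).symm
  have hcpB : ∀ x y : B'.comap (QuotientGroup.mk' (Subgroup.zpowers z)), ⁅x, y⁆ ^ p = 1 := by
    intro x y
    apply Subtype.ext
    exact hZp _ (hBcomm x x.2 y y.2)
  let ψ : B'.comap (QuotientGroup.mk' (Subgroup.zpowers z)) →*
      B'.comap (QuotientGroup.mk' (Subgroup.zpowers z)) :=
    { toFun := fun x => x ^ p
      map_one' := one_pow p
      map_mul' := fun x y => mul_pow_prime_class2 hccB hpP hp x y (hcpB y x) }
  have hψ : ∀ x, ψ x = x ^ p := fun x => rfl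
  have hrange : ψ.range ≤
      (Subgroup.zpowers z).subgroupOf (B'.comap (QuotientGroup.mk' (Subgroup.zpowers z))) := by
    rintro _ ⟨x, rfl⟩
    rw [Subgroup.mem_subgroupOf, hψ]
    exact hBpow x x.2
  have hcr : Nat.card ψ.range ≤ p := by
    have h1 := Subgroup.card_le_of_le hrange
    rwa [Nat.card_congr (Subgroup.subgroupOfEquivOfLe hZB).toEquiv, hZcard] at h1
  have hck : p ^ 2 ≤ Nat.card ψ.ker := by
    have h1 := Subgroup.card_mul_index ψ.ker
    rw [Subgroup.index_ker, hBcard] at h1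
    have h2 : p ^ 3 ≤ Nat.card ψ.ker * p := by
      rw [← h1]
      exact Nat.mul_le_mul_left _ hcr
    have h3 : p ^ 2 * p ≤ Nat.card ψ.ker * p := by
      calc p ^ 2 * p = p ^ 3 := by ring
        _ ≤ _ := h2
    exact Nat.le_of_mul_le_mul_right h3 hpP.pos
  have hΩmem : ∀ x : R, x ∈ ψ.ker.map (B'.comap (QuotientGroup.mk' (Subgroup.zpowers z))).subtype ↔
      x ∈ B'.comap (QuotientGroup.mk' (Subgroup.zpowers z)) ∧ x ^ p = 1 := by
    intro x
    constructor
    · rintro ⟨y, hy, rfl⟩
      refine ⟨y.2, ?_⟩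
      have h1 : ψ y = 1 := MonoidHom.mem_ker.mp hy
      rw [hψ] at h1
      exact congrArg Subtype.val h1
    · rintro ⟨hx, hxp⟩
      refine ⟨⟨x, hx⟩, MonoidHom.mem_ker.mpr ?_, rfl⟩
      rw [hψ]
      exact Subtype.ext hxp
  have hΩn : (ψ.ker.map (B'.comap (QuotientGroup.mk' (Subgroup.zpowers z))).subtype).Normal := by
    refine ⟨fun n hn g => ?_⟩
    rw [hΩmem] at hn ⊢
    refine ⟨hBn.conj_mem n hn.1 g, ?_⟩
    rw [conj_pow, hn.2]
    group
  have hΩcard : p ^ 2 ≤
      Nat.card (ψ.ker.map (B'.comap (QuotientGroup.mk' (Subgroup.zpowers z))).subtype) := by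
    rw [Subgroup.card_map_of_injective (Subgroup.subtype_injective _)]
    exact hck
  have hZΩ : Subgroup.zpowers z <
      ψ.ker.map (B'.comap (QuotientGroup.mk' (Subgroup.zpowers z))).subtype := by
    have hle : Subgroup.zpowers z ≤
        ψ.ker.map (B'.comap (QuotientGroup.mk' (Subgroup.zpowers z))).subtype := by
      intro w hw
      rw [hΩmem]
      exact ⟨hZB hw, hZp w hw⟩
    refine lt_of_le_of_ne hle ?_
    intro heq
    rw [← heq, hZcard] at hΩcard
    have := hpP.one_lt
    nlinarith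
  obtain ⟨x, hxΩ, hxZ, -, hxc⟩ :=
    exists_mem_not_mem_of_normal_lt hR (Subgroup.zpowers z)
      (ψ.ker.map (B'.comap (QuotientGroup.mk' (Subgroup.zpowers z))).subtype) hZΩ
  obtain ⟨hAn, hAea, hAcard⟩ := central_and_elt (Subgroup.zpowers z) hZc hZcard x hxZ
    ((hΩmem x).mp hxΩ).2 hxc
  refine ⟨Subgroup.zpowers x ⊔ Subgroup.zpowers z, ?_, hAn, hAea, hAcard⟩
  refine sup_le ?_ hZS
  rw [Subgroup.zpowers_le]
  exact hBS ((hΩmem x).mp hxΩ).1

/-- For odd p, every non-cyclic normal subgroup of a p-group contains a normal elementary abelian subgroup of the whole group of order p². -/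
theorem result {R : Type*} [Group R] [Finite R] {p : ℕ} [Fact p.Prime] (hp : p ≠ 2) (hR : IsPGroup p R) (S : Subgroup R) [S.Normal] (hS : ¬ IsCyclic S) : ∃ A : Subgroup R, A ≤ S ∧ A.Normal ∧ Cfsg.IsElementaryAbelian p A ∧ Nat.card A = p ^ 2 := by
  exact main p hp (Nat.card S) R S rfl hR inferInstance hS

end Cfsg.Agent.S0636
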