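import Cfsg.Statements.S0044

set_option autoImplicit false
open Cfsg

namespace Cfsg.Agent.S0044

/-- The derived series of a subgroup `C`, computed inside the ambient group. -/
def dser {G : Type*} [Group G] (C : Subgroup G) : ℕ → Subgroup G
  | 0 => C
  | n + 1 => ⁅dser C n, dser C n⁆

theorem dser_zero {G : Type*} [Group G] (C : Subgroup G) : dser C 0 = C := rfl

theorem dser_succ {G : Type*} [Group G] (C : Subgroup G) (n : ℕ) :
    dser C (n + 1) = ⁅dser C n, dser C n⁆ := rfl

theorem dser_normal {G : Type*} [Group G] (C : Subgroup G) [hC : C.Normal] :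
    ∀ n, (dser C n).Normal
  | 0 => hC
  | n + 1 => by
    haveI := dser_normal C n
    rw [dser_succ]
    infer_instance

theorem dser_le {G : Type*} [Group G] (C : Subgroup G) : ∀ n, dser C n ≤ C
  | 0 => le_rfl
  | n + 1 => by
    rw [dser_succ]
    exact (Subgroup.commutator_le_self _).trans (dser_le C n)

theorem dser_le_derivedSeries {G : Type*} [Group G] (C : Subgroup G) :
    ∀ n, dser C n ≤ derivedSeries G n
  | 0 => le_top
  | n + 1 => by
    rw [dser_succ, derivedSeries_succ]
    exact Subgroup.commutator_mono (dser_le_derivedSeries C n) (dser_le_derivedSeries C n)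

/-- In a finite solvable group, the centraliser of the Fitting subgroup is contained in the Fitting subgroup. -/
theorem result {G : Type*} [Group G] [Finite G] [Group.IsSolvable G] :
    Subgroup.centralizer (Cfsg.fittingSubgroup G : Set G) ≤ Cfsg.fittingSubgroup G := by
  have hFn : (Cfsg.fittingSubgroup G).Normal := Subgroup.sSup_normal _ (fun H hH => hH.1)
  set F := Cfsg.fittingSubgroup G with hF
  set C := Subgroup.centralizer (F : Set G) with hC
  haveI hCn : C.Normal := Subgroup.normal_centralizer
  obtain ⟨m, hm⟩ := (inferInstance : Group.IsSolvable G).solvable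
  have hKm : dser C m ≤ F := by
    have := dser_le_derivedSeries C m
    rw [hm, le_bot_iff] at this
    rw [this]
    exact bot_le
  have step : ∀ n, dser C (n + 1) ≤ F → dser C n ≤ F := by
    intro n h
    have hA2 : (dser C n).lowerCentralSeries 2 = ⊥ := by
      change ⁅⁅dser C n, dser C n⁆, dser C n⁆ = ⊥
      rw [Subgroup.commutator_eq_bot_iff_le_centralizer]
      refine h.trans ?_
      exact Subgroup.le_centralizer_iff.mp (dser_le C n)
    have hnil : Group.IsNilpotent (dser C n) := Subgroup.isNilpotent_of_lowerCentralSeries_eq_bot hA2
    exact le_sSup ⟨dser_normal C n, hnil⟩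
  have key : ∀ k, k ≤ m → dser C (m - k) ≤ F := by
    intro k
    induction k with
    | zero => intro _; simpa using hKm
    | succ k ih =>
      intro hk
      apply step
      have := ih (by omega)
      have heq : m - (k + 1) + 1 = m - k := by omega
      rw [heq]
      exact this
  have := key m le_rfl
  simpa [dser_zero] using this

end Cfsg.Agent.S0044
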