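import Cfsg.Statements.S1496
import Mathlib
-- import your own Cfsg.Agent.* helpers here

set_option autoImplicit false
open Cfsg

namespace Cfsg.Agent.S1496

theorem pow_mul_inv_pow_mem {G : Type*} [Group G] (H : Subgroup G) (g y : G)
    (hg : g ∈ Subgroup.normalizer (H : Set G)) (hy : y * g⁻¹ ∈ H) (j : ℕ) :
    y ^ j * (g ^ j)⁻¹ ∈ H := by
  induction j with
  | zero => simp
  | succ j ih =>
    have hgj : g ^ j ∈ Subgroup.normalizer (H : Set G) := pow_mem hg j
    have h1 : g ^ j * (y * g⁻¹) * (g ^ j)⁻¹ ∈ H := (Subgroup.mem_normalizer_iff.mp hgj _).mp hy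
    have : y ^ (j + 1) * (g ^ (j + 1))⁻¹ = (y ^ j * (g ^ j)⁻¹) * (g ^ j * (y * g⁻¹) * (g ^ j)⁻¹) := by
      rw [pow_succ, pow_succ]; group
    rw [this]; exact H.mul_mem ih h1

theorem aux {G : Type*} [Group G] [Finite G] : ∀ (n : ℕ) (H : Subgroup G) (g : G), orderOf g = n →
    g ∈ Subgroup.normalizer (H : Set G) → Nat.Coprime n (Nat.card H) → ∀ h ∈ H,
    ∃ x ∈ H, ∃ c ∈ H, c * g = g * c ∧ x * (h * g) * x⁻¹ = c * g := by
  intro n
  induction n using Nat.strong_induction_on with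
  | _ n ih =>
    intro H g hn hg hcop h hh
    by_cases h1 : n = 1
    · have : g = 1 := orderOf_eq_one_iff.mp (hn.trans h1)
      subst this
      exact ⟨1, H.one_mem, h, hh, by simp, by simp⟩
    · have hn0 : n ≠ 0 := by rw [← hn]; exact (orderOf_pos g).ne'
      obtain ⟨p, hp, hpn⟩ := Nat.exists_prime_and_dvd h1
      have := Fact.mk hp
      set k := n.factorization p with hk
      set n' := n / p ^ k with hn'
      have hnk : p ^ k * n' = n := Nat.ordProj_mul_ordCompl_eq_self n p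
      have hk1 : 0 < k := hp.factorization_pos_of_dvd hn0 hpn
      have hcopn' : Nat.Coprime (p ^ k) n' := (Nat.coprime_ordCompl hp hn0).pow_left k
      set m := Nat.card H with hm
      have hcopm : Nat.Coprime (p ^ k) m := Nat.Coprime.coprime_dvd_left ⟨n', hnk.symm⟩ hcop
      have hcop2 : Nat.Coprime (n' * m) (p ^ k) := Nat.Coprime.mul_left hcopn'.symm hcopm.symm
      have hpk1 : 1 < p ^ k := Nat.one_lt_pow hk1.ne' hp.one_lt
      obtain ⟨t, -, ht⟩ := Nat.exists_mul_mod_eq_one_of_coprime hcop2 hpk1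
      set e := n' * m * t with he
      set y := h * g with hy
      have hyg : y * g⁻¹ ∈ H := by simp [hy, hh]
      have hC1 := pow_mul_inv_pow_mem H g y hg hyg
      set g₁ := g ^ e with hg₁
      set z := y ^ e with hz
      have hzg : z * g₁⁻¹ ∈ H := hC1 e
      have hgn : g ^ n = 1 := by rw [← hn]; exact pow_orderOf_eq_one g
      have hg₁pk : g₁ ^ (p ^ k) = 1 := by
        rw [hg₁, ← pow_mul]
        have : e * p ^ k = n * (m * t) := by rw [he, ← hnk]; ring
        rw [this, pow_mul, hgn, one_pow]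
      have hyn : y ^ n ∈ H := by
        have := hC1 n
        rwa [hgn, inv_one, mul_one] at this
      have hynm : y ^ (n * m) = 1 := by
        rw [pow_mul]
        have := pow_card_eq_one' (G := H) (x := ⟨y ^ n, hyn⟩)
        exact congrArg Subtype.val this
      have hzpk : z ^ (p ^ k) = 1 := by
        rw [hz, ← pow_mul]
        have : e * p ^ k = n * m * t := by rw [he, ← hnk]; ring
        rw [this, pow_mul, hynm, one_pow]
      have hg₁N : g₁ ∈ Subgroup.normalizer (H : Set G) := pow_mem hg e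
      let σ : Equiv.Perm H :=
        { toFun := fun x => ⟨z * x * g₁⁻¹, by
            have h1 : g₁ * x * g₁⁻¹ ∈ H := (Subgroup.mem_normalizer_iff.mp hg₁N _).mp x.2
            have : z * x * g₁⁻¹ = (z * g₁⁻¹) * (g₁ * x * g₁⁻¹) := by group
            rw [this]; exact H.mul_mem hzg h1⟩
          invFun := fun x => ⟨z⁻¹ * x * g₁, by
            have h1 : (z * g₁⁻¹)⁻¹ * x ∈ H := H.mul_mem (H.inv_mem hzg) x.2
            have h2 : g₁⁻¹ * ((z * g₁⁻¹)⁻¹ * x) * g₁⁻¹⁻¹ ∈ H :=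
              (Subgroup.mem_normalizer_iff.mp (inv_mem hg₁N) _).mp h1
            have : z⁻¹ * x * g₁ = g₁⁻¹ * ((z * g₁⁻¹)⁻¹ * x) * g₁⁻¹⁻¹ := by group
            rw [this]; exact h2⟩
          left_inv := fun x => by
            apply Subtype.ext
            show z⁻¹ * (z * (x : G) * g₁⁻¹) * g₁ = x
            group
          right_inv := fun x => by
            apply Subtype.ext
            show z * (z⁻¹ * (x : G) * g₁) * g₁⁻¹ = x
            group }
      have hσpow : ∀ (j : ℕ) (x : H), ((σ ^ j) x : G) = z ^ j * x * (g₁ ^ j)⁻¹ := by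
        intro j
        induction j with
        | zero => intro x; simp
        | succ j ihj =>
          intro x
          rw [pow_succ', Equiv.Perm.mul_apply]
          show z * ((σ ^ j) x : G) * g₁⁻¹ = _
          rw [ihj x, pow_succ', pow_succ']; group
      have hσ : σ ^ p ^ k = 1 := by
        apply Equiv.ext
        intro x
        apply Subtype.ext
        rw [hσpow, hzpk, hg₁pk]; simp
      letI : Fintype H := Fintype.ofFinite H
      have hpH : ¬ p ∣ Fintype.card H := by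
        rw [← Nat.card_eq_fintype_card]
        intro hdvd
        have := Nat.eq_one_of_dvd_coprimes hcop hpn hdvd
        exact hp.one_lt.ne' this
      obtain ⟨x₀, hx₀⟩ := Equiv.Perm.exists_fixed_point_of_prime hpH hσ
      have hx₀' : z * x₀ * g₁⁻¹ = x₀ := congrArg Subtype.val hx₀
      have hzconj : (x₀ : G)⁻¹ * z * x₀ = g₁ := by
        have : z * x₀ = x₀ * g₁ := by
          calc z * (x₀ : G) = z * x₀ * g₁⁻¹ * g₁ := by group
            _ = x₀ * g₁ := by rw [hx₀']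
        rw [mul_assoc, this]; group
      have hyz : y * z = z * y := (Commute.pow_right (Commute.refl y) e).eq
      have hgg₁ : g * g₁ = g₁ * g := (Commute.pow_right (Commute.refl g) e).eq
      set y' := (x₀ : G)⁻¹ * y * x₀ with hy'
      have hy'g₁ : y' * g₁ = g₁ * y' := by
        rw [hy', ← hzconj]
        have e1 : (x₀ : G)⁻¹ * y * x₀ * ((x₀ : G)⁻¹ * z * x₀) = (x₀ : G)⁻¹ * (y * z) * x₀ := by group
        have e2 : (x₀ : G)⁻¹ * z * x₀ * ((x₀ : G)⁻¹ * y * x₀) = (x₀ : G)⁻¹ * (z * y) * x₀ := by group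
        rw [e1, e2, hyz]
      set h₁ := y' * g⁻¹ with hh₁
      have hh₁H : h₁ ∈ H := by
        have h1 : g * x₀ * g⁻¹ ∈ H := (Subgroup.mem_normalizer_iff.mp hg _).mp x₀.2
        have : h₁ = (x₀ : G)⁻¹ * h * (g * x₀ * g⁻¹) := by rw [hh₁, hy', hy]; group
        rw [this]; exact H.mul_mem (H.mul_mem (H.inv_mem x₀.2) hh) h1
      have hgi : g⁻¹ * g₁ = g₁ * g⁻¹ := by
        have : g₁ = g⁻¹ * (g * g₁) := by group
        rw [hgg₁] at this
        calc g⁻¹ * g₁ = g⁻¹ * g₁ * g * g⁻¹ := by group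
          _ = g⁻¹ * (g₁ * g) * g⁻¹ := by group
          _ = g⁻¹ * (g * g₁) * g⁻¹ := by rw [hgg₁]
          _ = g₁ * g⁻¹ := by group
      have hh₁g₁ : h₁ * g₁ = g₁ * h₁ := by
        rw [hh₁, mul_assoc, hgi, ← mul_assoc, hy'g₁, mul_assoc]
      set H₁ : Subgroup G := H ⊓ Subgroup.centralizer {g₁} with hH₁
      have hmemH₁ : ∀ w : G, w ∈ H₁ ↔ w ∈ H ∧ g₁ * w = w * g₁ := by
        intro w
        rw [hH₁, Subgroup.mem_inf, Subgroup.mem_centralizer_singleton_iff, eq_comm]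
      have hh₁H₁ : h₁ ∈ H₁ := (hmemH₁ h₁).mpr ⟨hh₁H, hh₁g₁.symm⟩
      set g₂ := g * g₁⁻¹ with hg₂
      have hg₂g₁ : g₂ * g₁ = g₁ * g₂ := by
        rw [hg₂]
        calc g * g₁⁻¹ * g₁ = g₁⁻¹ * (g₁ * g) := by group
          _ = g₁⁻¹ * (g * g₁) := by rw [hgg₁]
          _ = g₁ * (g₁⁻¹ * g₁⁻¹ * (g * g₁)) := by group
          _ = g₁ * (g₁⁻¹ * g₁⁻¹ * (g₁ * g)) := by rw [hgg₁]
          _ = g₁ * (g₁⁻¹ * g) := by group
          _ = g₁ * (g * g₁⁻¹) := by
            congr 1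
            calc g₁⁻¹ * g = g₁⁻¹ * (g * g₁) * g₁⁻¹ := by group
              _ = g₁⁻¹ * (g₁ * g) * g₁⁻¹ := by rw [hgg₁]
              _ = g * g₁⁻¹ := by group
      have hg₂N : g₂ ∈ Subgroup.normalizer (H : Set G) := mul_mem hg (inv_mem hg₁N)
      have hg₂N₁ : g₂ ∈ Subgroup.normalizer (H₁ : Set G) := by
        rw [Subgroup.mem_normalizer_iff]
        intro w
        rw [hmemH₁, hmemH₁]
        have hiff : w ∈ H ↔ g₂ * w * g₂⁻¹ ∈ H := Subgroup.mem_normalizer_iff.mp hg₂N w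
        have hg₂i : g₂⁻¹ * g₁ = g₁ * g₂⁻¹ := by
          calc g₂⁻¹ * g₁ = g₂⁻¹ * (g₁ * g₂) * g₂⁻¹ := by group
            _ = g₂⁻¹ * (g₂ * g₁) * g₂⁻¹ := by rw [hg₂g₁]
            _ = g₁ * g₂⁻¹ := by group
        constructor
        · rintro ⟨hw, hc⟩
          refine ⟨hiff.mp hw, ?_⟩
          calc g₁ * (g₂ * w * g₂⁻¹) = (g₁ * g₂) * w * g₂⁻¹ := by group
            _ = g₂ * (g₁ * w) * g₂⁻¹ := by rw [← hg₂g₁]; group
            _ = g₂ * (w * g₁) * g₂⁻¹ := by rw [hc]
            _ = g₂ * w * (g₁ * g₂⁻¹) := by group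
            _ = g₂ * w * (g₂⁻¹ * g₁) := by rw [hg₂i]
            _ = g₂ * w * g₂⁻¹ * g₁ := by group
        · rintro ⟨hw, hc⟩
          refine ⟨hiff.mpr hw, ?_⟩
          have hc' : g₁ * (g₂ * w * g₂⁻¹) = g₂ * w * g₂⁻¹ * g₁ := hc
          calc g₁ * w = g₂⁻¹ * (g₂ * g₁) * w := by group
            _ = g₂⁻¹ * (g₁ * g₂) * w := by rw [hg₂g₁]
            _ = g₂⁻¹ * (g₁ * (g₂ * w * g₂⁻¹)) * g₂ := by group
            _ = g₂⁻¹ * (g₂ * w * g₂⁻¹ * g₁) * g₂ := by rw [hc']
            _ = w * (g₂⁻¹ * g₁) * g₂ := by group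
            _ = w * (g₁ * g₂⁻¹) * g₂ := by rw [hg₂i]
            _ = w * g₁ := by group
      have hg₂pow : g₂ ^ n' = 1 := by
        have hcomm : Commute g g₁⁻¹ := (Commute.refl g).pow_right e |>.inv_right
        rw [hg₂, hcomm.mul_pow, inv_pow, hg₁, ← pow_mul]
        have hdm := Nat.div_add_mod e (p ^ k)
        rw [ht] at hdm
        have : e * n' = n * (e / p ^ k) + n' := by
          calc e * n' = (p ^ k * (e / p ^ k) + 1) * n' := by rw [hdm]
            _ = n * (e / p ^ k) + n' := by rw [← hnk]; ring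
        rw [this, pow_add, pow_mul, hgn, one_pow, one_mul, mul_inv_cancel]
      have hord : orderOf g₂ ∣ n' := orderOf_dvd_of_pow_eq_one hg₂pow
      have hn'pos : 0 < n' := Nat.pos_of_ne_zero (by
        intro h0; rw [h0, mul_zero] at hnk; exact hn0 hnk.symm)
      have hn'lt : n' < n := by
        calc n' = 1 * n' := (one_mul _).symm
          _ < p ^ k * n' := Nat.mul_lt_mul_of_pos_right hpk1 hn'pos
          _ = n := hnk
      have hlt : orderOf g₂ < n := lt_of_le_of_lt (Nat.le_of_dvd hn'pos hord) hn'lt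
      have hcop' : Nat.Coprime (orderOf g₂) (Nat.card H₁) := by
        have h1 : orderOf g₂ ∣ n := hord.trans ⟨p ^ k, by rw [← hnk]; ring⟩
        have h2 : Nat.card H₁ ∣ Nat.card H := Subgroup.card_dvd_of_le inf_le_left
        exact Nat.Coprime.coprime_dvd_left h1 (Nat.Coprime.coprime_dvd_right h2 hcop)
      obtain ⟨x₁, hx₁, c, hc, hcg₂, hconj⟩ := ih (orderOf g₂) hlt H₁ g₂ rfl hg₂N₁ hcop' h₁ hh₁H₁
      obtain ⟨hx₁H, hx₁g₁⟩ := (hmemH₁ x₁).mp hx₁
      obtain ⟨hcH, hcg₁⟩ := (hmemH₁ c).mp hc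
      have hgg : g = g₂ * g₁ := by rw [hg₂]; group
      refine ⟨x₁ * (x₀ : G)⁻¹, H.mul_mem hx₁H (H.inv_mem x₀.2), c, hcH, ?_, ?_⟩
      · calc c * g = c * (g₂ * g₁) := by rw [← hgg]
          _ = (c * g₂) * g₁ := (mul_assoc _ _ _).symm
          _ = (g₂ * c) * g₁ := by rw [hcg₂]
          _ = g₂ * (c * g₁) := mul_assoc _ _ _
          _ = g₂ * (g₁ * c) := by rw [hcg₁]
          _ = (g₂ * g₁) * c := (mul_assoc _ _ _).symm
          _ = g * c := by rw [← hgg]
      · have e1 : x₁ * (x₀ : G)⁻¹ * (h * g) * (x₁ * (x₀ : G)⁻¹)⁻¹ = x₁ * y' * x₁⁻¹ := by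
          rw [hy', hy]; group
        have e2 : y' = h₁ * g₂ * g₁ := by rw [hh₁, hg₂]; group
        have e3 : x₁ * (h₁ * g₂ * g₁) * x₁⁻¹ = x₁ * (h₁ * g₂) * x₁⁻¹ * (x₁ * g₁ * x₁⁻¹) := by group
        have e4 : x₁ * g₁ * x₁⁻¹ = g₁ := by rw [← hx₁g₁]; group
        rw [e1, e2, e3, e4, hconj, hgg, mul_assoc]

/-- Let H be a subgroup of the finite group G and g an element normalising H whose order is coprime to the order of H. Then for every h ∈ H there are x ∈ H and c ∈ H commuting with g such that x * (h * g) * x⁻¹ = c * g. -/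
theorem result {G : Type*} [Group G] [Finite G] (H : Subgroup G) (g : G) (hg : g ∈ Subgroup.normalizer (H : Set G)) (hcop : Nat.Coprime (orderOf g) (Nat.card H)) (h : G) (hh : h ∈ H) : ∃ x ∈ H, ∃ c ∈ H, c * g = g * c ∧ x * (h * g) * x⁻¹ = c * g := by
  exact aux (orderOf g) H g rfl hg hcop h hh

end Cfsg.Agent.S1496
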