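import Cfsg.Statements.S1473
import Mathlib
import Cfsg.Agent.S1496
import Cfsg.Agent.Lib.helper38.PGroupNormal
-- import your own Cfsg.Agent.* helpers here

set_option autoImplicit false
open Cfsg

namespace Cfsg.Agent.S1473

universe u

open scoped commutatorElement

theorem nilp_of_le {G : Type*} [Group G] {K L : Subgroup G} (h : K ≤ L)
    (hL : Group.IsNilpotent L) : Group.IsNilpotent K := by
  have : Group.IsNilpotent (K.subgroupOf L) := inferInstance
  exact Group.nilpotent_of_mulEquiv (Subgroup.subgroupOfEquivOfLe h)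

theorem nilp_map {G G' : Type*} [Group G] [Group G'] (f : G →* G') {K : Subgroup G}
    (hK : Group.IsNilpotent K) : Group.IsNilpotent (K.map f) :=
  Group.nilpotent_of_surjective (f.subgroupMap K) (f.subgroupMap_surjective K)

theorem nilp_of_injective {A B : Type*} [Group A] [Group B] (f : A →* B)
    (hf : Function.Injective f) {L : Subgroup B} (hL : Group.IsNilpotent L) (h : ∀ a, f a ∈ L) :
    Group.IsNilpotent A := by
  have h1 : f.range ≤ L := by rintro _ ⟨a, rfl⟩; exact h a
  have h2 : Group.IsNilpotent f.range := nilp_of_le h1 hL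
  exact Group.nilpotent_of_mulEquiv (MonoidHom.ofInjective hf).symm

theorem isCN_subgroup {G : Type*} [Group G] (hCN : IsCNGroup G) (C : Subgroup G) :
    IsCNGroup C := by
  intro g hg
  have hg' : (g : G) ≠ 1 := fun h => hg (Subtype.ext h)
  refine nilp_of_injective
    (C.subtype.comp (Subgroup.centralizer ({g} : Set C)).subtype) ?_ (hCN (g : G) hg') ?_
  · exact fun a b hab => Subtype.ext (Subtype.ext hab)
  · intro a
    rw [Subgroup.mem_centralizer_singleton_iff]
    have h := Subgroup.mem_centralizer_singleton_iff.mp a.2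
    have h2 := congrArg Subtype.val h
    simpa using h2

theorem isCN_of_mulEquiv {A B : Type*} [Group A] [Group B] (e : A ≃* B) (hA : IsCNGroup A) :
    IsCNGroup B := by
  intro b hb
  have hb' : e.symm b ≠ 1 := by
    intro h
    apply hb
    have := congrArg e h
    simpa using this
  refine nilp_of_injective
    (e.symm.toMonoidHom.comp (Subgroup.centralizer ({b} : Set B)).subtype) ?_ (hA _ hb') ?_
  · exact e.symm.injective.comp Subtype.val_injective
  · intro a
    rw [Subgroup.mem_centralizer_singleton_iff]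
    have h := Subgroup.mem_centralizer_singleton_iff.mp a.2
    simp only [MonoidHom.comp_apply, Subgroup.coe_subtype, MulEquiv.coe_toMonoidHom]
    rw [← map_mul, h, map_mul]

theorem isPGroup_zpowers {D : Type*} [Group D] {p k : ℕ} {a : D} (ha : a ^ (p ^ k) = 1) :
    IsPGroup p (Subgroup.zpowers a) := by
  rintro ⟨g, hg⟩
  obtain ⟨i, rfl⟩ := Subgroup.mem_zpowers_iff.mp hg
  refine ⟨k, Subtype.ext ?_⟩
  show (a ^ i) ^ (p ^ k) = 1
  rw [← zpow_natCast, ← zpow_mul, mul_comm, zpow_mul, zpow_natCast, ha, one_zpow]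

theorem commute_of_prime_pow {D : Type*} [Group D] [Finite D] [Group.IsNilpotent D]
    {p s : ℕ} (hp : p.Prime) (hs : s.Prime) (hps : p ≠ s) {a b : D} {k j : ℕ}
    (ha : a ^ (p ^ k) = 1) (hb : b ^ (s ^ j) = 1) : a * b = b * a := by
  have := Fact.mk hp
  have := Fact.mk hs
  obtain ⟨P, hP⟩ := (isPGroup_zpowers ha).exists_le_sylow
  obtain ⟨Q, hQ⟩ := (isPGroup_zpowers hb).exists_le_sylow
  have hPn : (P : Subgroup D).Normal := inferInstance
  have hQn : (Q : Subgroup D).Normal := inferInstance
  have hdisj : Disjoint (P : Subgroup D) (Q : Subgroup D) :=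
    IsPGroup.disjoint_of_ne p s hps _ _ P.isPGroup' Q.isPGroup'
  exact Subgroup.commute_of_normal_of_disjoint _ _ hPn hQn hdisj a b
    (hP (Subgroup.mem_zpowers a)) (hQ (Subgroup.mem_zpowers b))

theorem conj_fix {G : Type*} [Group G] [Finite G] (N : Subgroup G) [N.Normal] (p : ℕ)
    [Fact p.Prime] (hN : IsPGroup p N) (c g : G) (m : ℕ) (hm : Nat.Coprime m p) (hc : c ^ m = 1)
    (hg : g * c * g⁻¹ * c⁻¹ ∈ N) : ∃ u ∈ N, (u * g) * c = c * (u * g) := by
  have hcN : c ∈ Subgroup.normalizer (N : Set G) := by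
    rw [Subgroup.normalizer_eq_top]; trivial
  obtain ⟨a, ha⟩ := IsPGroup.iff_card.mp hN
  have hcop : Nat.Coprime (orderOf c) (Nat.card N) := by
    rw [ha]
    exact Nat.Coprime.pow_right a (Nat.Coprime.coprime_dvd_left (orderOf_dvd_of_pow_eq_one hc) hm)
  obtain ⟨u, hu, d, hd, hdc, hconj⟩ := Cfsg.Agent.S1496.result N c hcN hcop _ hg
  refine ⟨u, hu, ?_⟩
  have h1 : u * g * c * (u * g)⁻¹ = d * c := by
    rw [← hconj]; group
  have h2 : (d * c) ^ m = 1 := by
    rw [← h1, conj_pow, hc]; simp
  have h3 : d ^ m = 1 := by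
    have : (d * c) ^ m = d ^ m * c ^ m := (show Commute d c from hdc).mul_pow m
    rw [this, hc, mul_one] at h2; exact h2
  have h4 : d = 1 := by
    obtain ⟨k, hk⟩ := hN ⟨d, hd⟩
    have hk' : d ^ (p ^ k) = 1 := congrArg Subtype.val hk
    have h5 : orderOf d ∣ m := orderOf_dvd_of_pow_eq_one h3
    have h6 : orderOf d ∣ p ^ k := orderOf_dvd_of_pow_eq_one hk'
    have : orderOf d = 1 := Nat.eq_one_of_dvd_coprimes (hm.pow_right k) h5 h6
    exact orderOf_eq_one_iff.mp this
  rw [h4, one_mul] at h1
  calc u * g * c = u * g * c * (u * g)⁻¹ * (u * g) := by group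
    _ = c * (u * g) := by rw [h1]

theorem lemmaN {C : Type*} [Group C] [Finite C] (hCN : IsCNGroup C) (p : ℕ) [Fact p.Prime]
    (K : Subgroup C) [K.Normal] (hK : IsPGroup p K) (hK1 : K ≠ ⊥)
    (hP2 : ∀ s : ℕ, s.Prime → s ≠ p → ∀ c : C, ∀ j : ℕ, c ^ (s ^ j) = 1 →
      ∀ z ∈ K, (∀ y ∈ K, y * z = z * y) → c * z = z * c) : Group.IsNilpotent C := by
  obtain ⟨R, hKR⟩ := hK.exists_le_sylow
  have hKRne : K.subgroupOf (R : Subgroup C) ≠ ⊥ := by
    intro h
    apply hK1
    rw [Subgroup.subgroupOf_eq_bot] at h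
    have := disjoint_iff.mp h
    rwa [inf_eq_left.mpr hKR] at this
  obtain ⟨z, hz, hz1, hzc⟩ := Cfsg.Agent.Lib.helper38.exists_central_of_normal_ne_bot
    R.isPGroup' (K.subgroupOf (R : Subgroup C)) hKRne
  have hkK : (z : C) ∈ K := Subgroup.mem_subgroupOf.mp hz
  have hk1 : (z : C) ≠ 1 := fun h => hz1 (Subtype.ext h)
  have hkR : ∀ g ∈ (R : Subgroup C), g * (z : C) = (z : C) * g := by
    intro g hg
    have h := congrArg Subtype.val (hzc ⟨g, hg⟩)
    have h' : g * (z : C) * g⁻¹ = (z : C) := h
    calc g * (z : C) = g * (z : C) * g⁻¹ * g := by group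
      _ = (z : C) * g := by rw [h']
  have hRT : (R : Subgroup C) ≤ Subgroup.centralizer ({(z : C)} : Set C) :=
    fun g hg => Subgroup.mem_centralizer_singleton_iff.mpr (hkR g hg)
  have hkc : ∀ y ∈ K, y * (z : C) = (z : C) * y := fun y hy => hkR y (hKR hy)
  have hST : ∀ s : ℕ, s.Prime → s ≠ p → ∀ S : Sylow s C,
      (S : Subgroup C) ≤ Subgroup.centralizer ({(z : C)} : Set C) := by
    intro s hs hsp S c hc
    obtain ⟨j, hj⟩ := S.isPGroup' ⟨c, hc⟩
    have hj' : c ^ (s ^ j) = 1 := congrArg Subtype.val hj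
    exact Subgroup.mem_centralizer_singleton_iff.mpr (hP2 s hs hsp c j hj' (z : C) hkK hkc)
  have hidx : (Subgroup.centralizer ({(z : C)} : Set C)).index = 1 := by
    by_contra hne
    obtain ⟨s, hs, hsd⟩ := Nat.exists_prime_and_dvd hne
    have := Fact.mk hs
    by_cases hsp : s = p
    · rw [hsp] at hsd
      exact R.not_dvd_index (hsd.trans (Subgroup.index_dvd_of_le hRT))
    · obtain ⟨S⟩ : Nonempty (Sylow s C) := inferInstance
      exact S.not_dvd_index (hsd.trans (Subgroup.index_dvd_of_le (hST s hs hsp S)))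
  have hTtop : Subgroup.centralizer ({(z : C)} : Set C) = ⊤ := Subgroup.index_eq_one.mp hidx
  have hTn : Group.IsNilpotent (Subgroup.centralizer ({(z : C)} : Set C)) := hCN (z : C) hk1
  rw [hTtop] at hTn
  exact Group.nilpotent_of_mulEquiv Subgroup.topEquiv

theorem prime_case {G : Type*} [Group G] [Finite G] (hCN : IsCNGroup G) (N : Subgroup G)
    [N.Normal] (p : ℕ) [hp : Fact p.Prime] (hN : IsPGroup p N) (r : ℕ) (hr : r.Prime) (x : G)
    (hx : orderOf (QuotientGroup.mk' N x) = r) :
    Group.IsNilpotent (Subgroup.centralizer ({QuotientGroup.mk' N x} : Set (G ⧸ N))) := by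
  set π := QuotientGroup.mk' N with hπ
  have hπs : Function.Surjective π := QuotientGroup.mk'_surjective N
  have hker : ∀ g : G, π g = 1 ↔ g ∈ N := fun g => QuotientGroup.eq_one_iff g
  have hx1 : π x ≠ 1 := by
    intro h
    rw [h, orderOf_one] at hx
    exact hr.ne_one hx.symm
  by_cases hrp : r = p
  · have hxp : orderOf (π x) = p := hx.trans hrp
    set C := (Subgroup.centralizer ({π x} : Set (G ⧸ N))).comap π with hC
    set K := (Subgroup.zpowers (π x)).comap π with hK
    have hKp : IsPGroup p K := by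
      apply IsPGroup.comap_of_ker_isPGroup
      · apply IsPGroup.of_card (n := 1)
        rw [Nat.card_zpowers, hxp, pow_one]
      · rw [hπ, QuotientGroup.ker_mk']; exact hN
    have hKC : K ≤ C := by
      intro k hk
      obtain ⟨i, hi⟩ := Subgroup.mem_zpowers_iff.mp (Subgroup.mem_comap.mp hk)
      rw [hC, Subgroup.mem_comap, Subgroup.mem_centralizer_singleton_iff, ← hi]
      exact ((Commute.refl (π x)).zpow_left i).eq
    have hxK : x ∈ K := Subgroup.mem_comap.mpr (Subgroup.mem_zpowers _)
    have hCnil : Group.IsNilpotent C := by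
      have hKn : (K.subgroupOf C).Normal := by
        constructor
        intro k hk c
        rw [Subgroup.mem_subgroupOf] at hk ⊢
        obtain ⟨i, hi⟩ := Subgroup.mem_zpowers_iff.mp (Subgroup.mem_comap.mp hk)
        have hc : π c * π x = π x * π c :=
          Subgroup.mem_centralizer_singleton_iff.mp (Subgroup.mem_comap.mp c.2)
        rw [hK, Subgroup.mem_comap]
        simp only [Subgroup.coe_mul, Subgroup.coe_inv, map_mul, map_inv]
        rw [← hi]
        have hcomm : Commute (π (c : G)) ((π x) ^ i) :=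
          (show Commute (π c) (π x) from hc).zpow_right i
        have h3 : π c * (π x) ^ i * (π c)⁻¹ = (π x) ^ i := by
          rw [hcomm.eq, mul_inv_cancel_right]
        rw [h3]
        exact Subgroup.zpow_mem_zpowers _ i
      refine lemmaN (isCN_subgroup hCN C) p (K.subgroupOf C) hKp.comap_subtype ?_ ?_
      · intro h
        have h2 : (⟨x, hKC hxK⟩ : C) ∈ K.subgroupOf C := Subgroup.mem_subgroupOf.mpr hxK
        rw [h, Subgroup.mem_bot] at h2
        have hx' : x = 1 := congrArg Subtype.val h2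
        exact hx1 (by rw [hx', map_one])
      · intro s hs hsp c j hcj z hz hzc
        have hcj' : (c : G) ^ (s ^ j) = 1 := by
          have := congrArg Subtype.val hcj
          simpa using this
        have hcx : x * (c : G) * x⁻¹ * (c : G)⁻¹ ∈ N := by
          rw [← hker]
          have hc : π c * π x = π x * π c :=
            Subgroup.mem_centralizer_singleton_iff.mp (Subgroup.mem_comap.mp c.2)
          simp only [map_mul, map_inv]
          rw [← hc]; group
        obtain ⟨u, hu, hux⟩ := conj_fix N p hN (c : G) x (s ^ j)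
          (Nat.Coprime.pow_left j ((Nat.coprime_primes hs hp.out).mpr hsp)) hcj' hcx
        have hπx'' : π (u * x) = π x := by rw [map_mul, (hker u).mpr hu, one_mul]
        have hx''K : u * x ∈ K := by
          rw [hK, Subgroup.mem_comap, hπx'']; exact Subgroup.mem_zpowers _
        have hx''1 : u * x ≠ 1 := by
          intro h
          rw [h, map_one] at hπx''
          exact hx1 hπx''.symm
        have hD := hCN (u * x) hx''1
        have hzx : (z : G) * (u * x) = (u * x) * (z : G) := by
          have h1 := hzc ⟨u * x, hKC hx''K⟩ (Subgroup.mem_subgroupOf.mpr hx''K)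
          have h2 := congrArg Subtype.val h1
          exact h2.symm
        have hzD : (z : G) ∈ Subgroup.centralizer ({u * x} : Set G) :=
          Subgroup.mem_centralizer_singleton_iff.mpr hzx
        have hcD : (c : G) ∈ Subgroup.centralizer ({u * x} : Set G) :=
          Subgroup.mem_centralizer_singleton_iff.mpr hux.symm
        obtain ⟨k, hk⟩ := hKp ⟨(z : G), Subgroup.mem_subgroupOf.mp hz⟩
        have hk' : (z : G) ^ (p ^ k) = 1 := congrArg Subtype.val hk
        have h5 := commute_of_prime_pow (D := Subgroup.centralizer ({u * x} : Set G)) hp.out hs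
          (Ne.symm hsp) (a := ⟨z, hzD⟩) (b := ⟨c, hcD⟩) (k := k) (j := j)
          (Subtype.ext hk') (Subtype.ext hcj')
        have h6 := congrArg Subtype.val h5
        exact Subtype.ext h6.symm
    have h7 : Subgroup.centralizer ({π x} : Set (G ⧸ N)) = C.map π := by
      rw [hC, Subgroup.map_comap_eq_self_of_surjective hπs]
    rw [h7]
    exact nilp_map π hCnil
  · have hcop : Nat.Coprime r p := (Nat.coprime_primes hr hp.out).mpr hrp
    obtain ⟨a, ha⟩ := IsPGroup.iff_card.mp hN
    have hcop2 : Nat.Coprime (Nat.card N) r := by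
      rw [ha]; exact (hcop.symm).pow_left a
    obtain ⟨t, -, ht⟩ := Nat.exists_mul_mod_eq_one_of_coprime hcop2 hr.one_lt
    have hπx' : π (x ^ (Nat.card N * t)) = π x := by
      rw [map_pow, ← pow_mod_orderOf, hx, ht, pow_one]
    have hxr : x ^ r ∈ N := by
      rw [← hker, map_pow, ← hx, pow_orderOf_eq_one]
    have hx'r : (x ^ (Nat.card N * t)) ^ r = 1 := by
      rw [← pow_mul]
      have h1 : Nat.card N * t * r = r * Nat.card N * t := by ring
      rw [h1, pow_mul, pow_mul]
      have h3 := pow_card_eq_one' (G := N) (x := ⟨x ^ r, hxr⟩)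
      have h2 : (x ^ r) ^ Nat.card N = 1 := congrArg Subtype.val h3
      rw [h2, one_pow]
    have hx'1 : x ^ (Nat.card N * t) ≠ 1 := by
      intro h
      rw [h, map_one] at hπx'
      exact hx1 hπx'.symm
    have hD := hCN _ hx'1
    refine nilp_of_le ?_ (nilp_map π hD)
    intro gbar hg
    obtain ⟨g, rfl⟩ := hπs gbar
    have hg' : π g * π x = π x * π g := Subgroup.mem_centralizer_singleton_iff.mp hg
    have hgx : g * x ^ (Nat.card N * t) * g⁻¹ * (x ^ (Nat.card N * t))⁻¹ ∈ N := by
      rw [← hker]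
      simp only [map_mul, map_inv, hπx']
      rw [hg']; group
    obtain ⟨u, hu, hux⟩ := conj_fix N p hN (x ^ (Nat.card N * t)) g r hcop hx'r hgx
    refine ⟨u * g, Subgroup.mem_centralizer_singleton_iff.mpr hux, ?_⟩
    rw [map_mul, (hker u).mpr hu, one_mul]

theorem lemmaA {G : Type*} [Group G] [Finite G] (hCN : IsCNGroup G) (N : Subgroup G) [N.Normal]
    (p : ℕ) [hp : Fact p.Prime] (hN : IsPGroup p N) : IsCNGroup (G ⧸ N) := by
  intro xbar hx1
  have ho : orderOf xbar ≠ 1 := fun h => hx1 (orderOf_eq_one_iff.mp h)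
  obtain ⟨r, hr, hrd⟩ := Nat.exists_prime_and_dvd ho
  have ho0 : orderOf xbar ≠ 0 := (orderOf_pos xbar).ne'
  have hyo : orderOf (xbar ^ (orderOf xbar / r)) = r := orderOf_pow_orderOf_div ho0 hrd
  obtain ⟨y, hy'⟩ := QuotientGroup.mk'_surjective N (xbar ^ (orderOf xbar / r))
  have hle : Subgroup.centralizer ({xbar} : Set (G ⧸ N)) ≤
      Subgroup.centralizer ({xbar ^ (orderOf xbar / r)} : Set (G ⧸ N)) := by
    intro g hg
    rw [Subgroup.mem_centralizer_singleton_iff] at hg ⊢
    exact ((show Commute g xbar from hg).pow_right _).eq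
  refine nilp_of_le hle ?_
  rw [← hy']
  exact prime_case hCN N p hN r hr y (by rw [hy']; exact hyo)

theorem exists_normal_pgroup {G : Type*} [Group G] [Finite G] (H : Subgroup G) [hHn : H.Normal]
    (hH : Group.IsSolvable H) (hH1 : H ≠ ⊥) :
    ∃ p : ℕ, p.Prime ∧ ∃ N : Subgroup G, N.Normal ∧ N ≤ H ∧ N ≠ ⊥ ∧ IsPGroup p N := by
  classical
  let 𝒮 : Set (Subgroup G) := {M | M.Normal ∧ M ≤ H ∧ M ≠ ⊥}
  obtain ⟨M, ⟨hMn, hMH, hM1⟩, hmin⟩ := wellFounded_lt.has_min 𝒮 ⟨H, hHn, le_refl H, hH1⟩
  have hMsolv : Group.IsSolvable M :=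
    Group.isSolvable_of_isSolvable_injective (Subgroup.inclusion_injective hMH)
  have hcomm_lt : ⁅M, M⁆ < M := by
    have hnt : Nontrivial M := (Subgroup.nontrivial_iff_ne_bot M).mpr hM1
    have h1 := Group.IsSolvable.commutator_lt_top_of_nontrivial M
    have h2 : (commutator M).map M.subtype = ⁅M, M⁆ := by
      rw [commutator_def, Subgroup.map_commutator, ← MonoidHom.range_eq_map, Subgroup.range_subtype]
    have h3 : (⊤ : Subgroup M).map M.subtype = M := by
      rw [← MonoidHom.range_eq_map, Subgroup.range_subtype]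
    rw [← h2]
    conv_rhs => rw [← h3]
    exact (Subgroup.map_subtype_lt_map_subtype).mpr h1
  have hcomm_bot : ⁅M, M⁆ = ⊥ := by
    by_contra hne
    exact hmin ⁅M, M⁆ ⟨inferInstance, (Subgroup.commutator_le_left M M).trans hMH, hne⟩ hcomm_lt
  have hab : ∀ a ∈ M, ∀ b ∈ M, a * b = b * a := by
    have h := Subgroup.commutator_eq_bot_iff_le_centralizer.mp hcomm_bot
    intro a ha b hb
    exact ((Subgroup.mem_centralizer_iff.mp (h ha)) b hb).symm
  have hcard : Nat.card M ≠ 1 := by
    intro h
    exact hM1 (Subgroup.card_eq_one.mp h)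
  obtain ⟨p, hp, hpd⟩ := Nat.exists_prime_and_dvd hcard
  have := Fact.mk hp
  obtain ⟨m, hm⟩ := exists_prime_orderOf_dvd_card' (G := M) p hpd
  let N : Subgroup G :=
    { carrier := {g | g ∈ M ∧ g ^ p = 1}
      mul_mem' := by
        rintro a b ⟨ha, ha'⟩ ⟨hb, hb'⟩
        refine ⟨M.mul_mem ha hb, ?_⟩
        rw [(show Commute a b from hab a ha b hb).mul_pow, ha', hb', one_mul]
      one_mem' := ⟨M.one_mem, one_pow _⟩
      inv_mem' := by
        rintro a ⟨ha, ha'⟩
        exact ⟨M.inv_mem ha, by rw [inv_pow, ha', inv_one]⟩ }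
  refine ⟨p, hp, N, ?_, ?_, ?_, ?_⟩
  · constructor
    rintro n ⟨hn, hn'⟩ g
    exact ⟨hMn.conj_mem n hn g, by rw [conj_pow, hn', mul_one, mul_inv_cancel]⟩
  · exact fun n hn => hMH hn.1
  · intro h
    have hmN : (m : G) ∈ N := by
      refine ⟨m.2, ?_⟩
      have h1 : m ^ p = 1 := by rw [← hm]; exact pow_orderOf_eq_one m
      have h2 := congrArg Subtype.val h1
      simpa using h2
    rw [h, Subgroup.mem_bot] at hmN
    have h3 : orderOf m = 1 := by rw [orderOf_eq_one_iff]; exact Subtype.ext hmN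
    rw [hm] at h3
    exact hp.ne_one h3
  · rintro ⟨n, hn⟩
    exact ⟨1, Subtype.ext (by simpa using hn.2)⟩

theorem main (n : ℕ) : ∀ (G : Type u) [Group G] [Finite G], Nat.card G = n → IsCNGroup G →
    ∀ (H : Subgroup G) [H.Normal], Group.IsSolvable H → IsCNGroup (G ⧸ H) := by
  induction n using Nat.strong_induction_on with
  | _ n ih =>
    intro G _ _ hn hCN H _ hH
    by_cases hH1 : H = ⊥
    · subst hH1
      exact isCN_of_mulEquiv (QuotientGroup.quotientBot (G := G)).symm hCN
    · obtain ⟨p, hp, N, hNn, hNH, hN1, hNp⟩ := exists_normal_pgroup H hH hH1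
      have := Fact.mk hp
      have h1 : IsCNGroup (G ⧸ N) := lemmaA hCN N p hNp
      have hcard : Nat.card (G ⧸ N) < n := by
        have h5 := Subgroup.card_eq_card_quotient_mul_card_subgroup N
        have h2 : 1 < Nat.card N := N.one_lt_card_iff_ne_bot.mpr hN1
        have h3 : 0 < Nat.card (G ⧸ N) := Nat.card_pos
        rw [← hn, h5]; nlinarith
      have hmn : (H.map (QuotientGroup.mk' N)).Normal :=
        Subgroup.Normal.map inferInstance _ (QuotientGroup.mk'_surjective N)
      have hsolv : Group.IsSolvable (H.map (QuotientGroup.mk' N)) :=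
        Group.isSolvable_of_surjective ((QuotientGroup.mk' N).subgroupMap_surjective H)
      have h4 := ih _ hcard (G ⧸ N) rfl h1 (H.map (QuotientGroup.mk' N)) hsolv
      exact isCN_of_mulEquiv (QuotientGroup.quotientQuotientEquivQuotient N H hNH) h4

/-- Let G be a finite group in which the centralizer of every non-identity element is nilpotent, and H a solvable normal subgroup of G. Then in G/H the centralizer of every non-identity element is nilpotent. -/
theorem result {G : Type*} [Group G] [Finite G] (hCN : Cfsg.IsCNGroup G) (H : Subgroup G) [H.Normal] (hH : Group.IsSolvable H) :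
    Cfsg.IsCNGroup (G ⧸ H) := by
  exact main (Nat.card G) G rfl hCN H hH

end Cfsg.Agent.S1473
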