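import Cfsg.Statements.S1475
import Mathlib
-- import your own Cfsg.Agent.* helpers here

set_option autoImplicit false
open Cfsg

namespace Cfsg.Agent.S1475

universe u

open scoped commutatorElement

theorem lemmaF {V Γ : Type*} [CommGroup V] [Finite V] [Group Γ] [Finite Γ] (φ : Γ →* MulAut V)
    (K : Subgroup Γ) (t : Γ) (hK1 : K ≠ ⊥)
    (htK : ∀ i : ℕ, ∀ k ∈ K, t ^ i * k * (t ^ i)⁻¹ ∈ K)
    (hfK : ∀ i : ℕ, t ^ i ≠ 1 → ∀ k ∈ K, t ^ i * k = k * t ^ i → k = 1)
    (hKV : ∀ k ∈ K, k ≠ 1 → ∀ v : V, φ k v = v → v = 1)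
    (htV : ∀ v : V, φ t v = v → v = 1)
    (hcop : (Nat.card K).Coprime (Nat.card V)) : ∀ v : V, v = 1 := by
  classical
  have : Fintype K := Fintype.ofFinite K
  have hm0 : 0 < orderOf t := orderOf_pos t
  have hNS : ∀ u : V, ∏ i ∈ Finset.range (orderOf t), φ (t ^ i) u = 1 := by
    intro u
    apply htV
    rw [map_prod]
    have h1 : ∀ i, φ t (φ (t ^ i) u) = φ (t ^ (i + 1)) u := by
      intro i
      rw [pow_succ', map_mul]; rfl
    simp_rw [h1]
    have h2 := Finset.prod_range_succ (fun i => φ (t ^ i) u) (orderOf t)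
    have h3 := Finset.prod_range_succ' (fun i => φ (t ^ i) u) (orderOf t)
    rw [h2] at h3
    have h4 : φ (t ^ orderOf t) u = φ (t ^ 0) u := by rw [pow_orderOf_eq_one, pow_zero]
    simp only [h4] at h3
    exact (mul_right_cancel h3).symm
  have hNK : ∀ u : V, ∏ k : K, φ (k : Γ) u = 1 := by
    intro u
    obtain ⟨k₀, hk₀, hk₀1⟩ : ∃ k₀ ∈ K, k₀ ≠ 1 := by
      by_contra hcon
      push Not at hcon
      exact hK1 ((Subgroup.eq_bot_iff_forall _).mpr hcon)
    apply hKV k₀ hk₀ hk₀1
    rw [map_prod]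
    have h1 : ∀ k : K, φ k₀ (φ (k : Γ) u) = φ (((⟨k₀, hk₀⟩ : K) * k : K) : Γ) u := by
      intro k
      rw [Subgroup.coe_mul, map_mul]; rfl
    simp_rw [h1]
    exact Fintype.prod_bijective (fun k : K => (⟨k₀, hk₀⟩ : K) * k)
      (Group.mulLeft_bijective _) _ _ (fun _ => rfl)
  have h3 : ∀ i : ℕ, t ^ i ≠ 1 → ∀ v : V, ∏ k : K, φ ((k : Γ) * t ^ i * (k : Γ)⁻¹) v = 1 := by
    intro i hi v
    have hinj : Function.Injective (fun k : K =>
        (⟨(k : Γ) * (t ^ i * (k : Γ)⁻¹ * (t ^ i)⁻¹),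
          K.mul_mem k.2 (htK i _ (K.inv_mem k.2))⟩ : K)) := by
      intro a b hab
      have h5 : (a : Γ) * (t ^ i * (a : Γ)⁻¹ * (t ^ i)⁻¹) = (b : Γ) * (t ^ i * (b : Γ)⁻¹ * (t ^ i)⁻¹) :=
        congrArg Subtype.val hab
      have h6 : t ^ i * ((b : Γ)⁻¹ * (a : Γ)) = ((b : Γ)⁻¹ * (a : Γ)) * t ^ i := by
        have h7 : (b : Γ)⁻¹ * (a : Γ) * t ^ i * (a : Γ)⁻¹ = t ^ i * (b : Γ)⁻¹ := by
          calc (b : Γ)⁻¹ * (a : Γ) * t ^ i * (a : Γ)⁻¹
              = (b : Γ)⁻¹ * ((a : Γ) * (t ^ i * (a : Γ)⁻¹ * (t ^ i)⁻¹)) * t ^ i := by group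
            _ = (b : Γ)⁻¹ * ((b : Γ) * (t ^ i * (b : Γ)⁻¹ * (t ^ i)⁻¹)) * t ^ i := by rw [h5]
            _ = t ^ i * (b : Γ)⁻¹ := by group
        calc t ^ i * ((b : Γ)⁻¹ * (a : Γ)) = (t ^ i * (b : Γ)⁻¹) * (a : Γ) := by group
          _ = ((b : Γ)⁻¹ * (a : Γ) * t ^ i * (a : Γ)⁻¹) * (a : Γ) := by rw [h7]
          _ = ((b : Γ)⁻¹ * (a : Γ)) * t ^ i := by group
      have h8 := hfK i hi ((b : Γ)⁻¹ * (a : Γ)) (K.mul_mem (K.inv_mem b.2) a.2) h6
      exact Subtype.ext (inv_mul_eq_one.mp h8).symm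
    have hbij := Finite.injective_iff_bijective.mp hinj
    have h9 : ∀ k : K, φ ((k : Γ) * t ^ i * (k : Γ)⁻¹) v =
        φ ((k : Γ) * (t ^ i * (k : Γ)⁻¹ * (t ^ i)⁻¹)) (φ (t ^ i) v) := by
      intro k
      have : (k : Γ) * t ^ i * (k : Γ)⁻¹ = ((k : Γ) * (t ^ i * (k : Γ)⁻¹ * (t ^ i)⁻¹)) * t ^ i := by
        group
      rw [this, map_mul]; rfl
    simp_rw [h9]
    rw [← hNK (φ (t ^ i) v)]
    exact Fintype.prod_bijective _ hbij _ _ (fun _ => rfl)
  have h4 : ∀ (k : K) (v : V),
      ∏ i ∈ Finset.range (orderOf t), φ ((k : Γ) * t ^ i * (k : Γ)⁻¹) v = 1 := by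
    intro k v
    have h5 : ∀ i, φ ((k : Γ) * t ^ i * (k : Γ)⁻¹) v = φ (k : Γ) (φ (t ^ i) (φ (k : Γ)⁻¹ v)) := by
      intro i
      rw [map_mul, map_mul]; rfl
    simp_rw [h5]
    rw [← map_prod, hNS, map_one]
  intro v
  have hdouble : ∏ k : K, ∏ i ∈ Finset.range (orderOf t), φ ((k : Γ) * t ^ i * (k : Γ)⁻¹) v = 1 :=
    Finset.prod_eq_one (fun k _ => h4 k v)
  rw [Finset.prod_comm] at hdouble
  obtain ⟨m', hm'⟩ : ∃ m', orderOf t = m' + 1 := Nat.exists_eq_succ_of_ne_zero hm0.ne'
  rw [hm', Finset.prod_range_succ'] at hdouble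
  have h10 : ∏ i ∈ Finset.range m', ∏ k : K, φ ((k : Γ) * t ^ (i + 1) * (k : Γ)⁻¹) v = 1 := by
    apply Finset.prod_eq_one
    intro i hi
    apply h3
    apply pow_ne_one_of_lt_orderOf (Nat.succ_ne_zero i)
    rw [hm']
    exact Nat.succ_lt_succ (Finset.mem_range.mp hi)
  rw [h10, one_mul] at hdouble
  have h11 : ∏ k : K, φ ((k : Γ) * t ^ 0 * (k : Γ)⁻¹) v = v ^ Nat.card K := by
    have : ∀ k : K, φ ((k : Γ) * t ^ 0 * (k : Γ)⁻¹) v = v := by
      intro k
      rw [pow_zero, mul_one, mul_inv_cancel, map_one]; rfl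
    simp_rw [this]
    rw [Finset.prod_const, Finset.card_univ, Nat.card_eq_fintype_card]
  rw [h11] at hdouble
  have ho1 : orderOf v ∣ Nat.card K := orderOf_dvd_of_pow_eq_one hdouble
  have ho2 : orderOf v ∣ Nat.card V := orderOf_dvd_natCard v
  exact orderOf_eq_one_iff.mp (Nat.eq_one_of_dvd_coprimes hcop ho1 ho2)


theorem exists_normal_abelian_pgroup {G : Type*} [Group G] [Finite G] (H : Subgroup G)
    [hHn : H.Normal] (hH : Group.IsSolvable H) (hH1 : H ≠ ⊥) :
    ∃ p : ℕ, p.Prime ∧ ∃ N : Subgroup G, N.Normal ∧ N ≤ H ∧ N ≠ ⊥ ∧ IsPGroup p N ∧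
      ∀ a ∈ N, ∀ b ∈ N, a * b = b * a := by
  classical
  let 𝒮 : Set (Subgroup G) := {M | M.Normal ∧ M ≤ H ∧ M ≠ ⊥}
  obtain ⟨M, ⟨hMn, hMH, hM1⟩, hmin⟩ := wellFounded_lt.has_min 𝒮 ⟨H, hHn, le_refl H, hH1⟩
  have hMsolv : Group.IsSolvable M :=
    Group.isSolvable_of_isSolvable_injective (Subgroup.inclusion_injective hMH)
  have hcomm_lt : ⁅M, M⁆ < M := by
    have hnt : Nontrivial M := (Subgroup.nontrivial_iff_ne_bot M).mpr hM1
    have h1 := Group.IsSolvable.commutator_lt_top_of_nontrivial M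
    have h2 : (commutator M).map M.subtype = ⁅M, M⁆ := by
      rw [commutator_def, Subgroup.map_commutator, ← MonoidHom.range_eq_map, Subgroup.range_subtype]
    have h3 : (⊤ : Subgroup M).map M.subtype = M := by
      rw [← MonoidHom.range_eq_map, Subgroup.range_subtype]
    rw [← h2]
    conv_rhs => rw [← h3]
    exact (Subgroup.map_subtype_lt_map_subtype).mpr h1
  have hcomm_bot : ⁅M, M⁆ = ⊥ := by
    by_contra hne
    exact hmin ⁅M, M⁆ ⟨inferInstance, (Subgroup.commutator_le_left M M).trans hMH, hne⟩ hcomm_lt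
  have hab : ∀ a ∈ M, ∀ b ∈ M, a * b = b * a := by
    have h := Subgroup.commutator_eq_bot_iff_le_centralizer.mp hcomm_bot
    intro a ha b hb
    exact ((Subgroup.mem_centralizer_iff.mp (h ha)) b hb).symm
  have hcard : Nat.card M ≠ 1 := by
    intro h
    exact hM1 (Subgroup.card_eq_one.mp h)
  obtain ⟨p, hp, hpd⟩ := Nat.exists_prime_and_dvd hcard
  have := Fact.mk hp
  obtain ⟨m, hm⟩ := exists_prime_orderOf_dvd_card' (G := M) p hpd
  let N : Subgroup G :=
    { carrier := {g | g ∈ M ∧ g ^ p = 1}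
      mul_mem' := by
        rintro a b ⟨ha, ha'⟩ ⟨hb, hb'⟩
        refine ⟨M.mul_mem ha hb, ?_⟩
        rw [(show Commute a b from hab a ha b hb).mul_pow, ha', hb', one_mul]
      one_mem' := ⟨M.one_mem, one_pow _⟩
      inv_mem' := by
        rintro a ⟨ha, ha'⟩
        exact ⟨M.inv_mem ha, by rw [inv_pow, ha', inv_one]⟩ }
  refine ⟨p, hp, N, ?_, ?_, ?_, ?_, ?_⟩
  · constructor
    rintro n ⟨hn, hn'⟩ g
    exact ⟨hMn.conj_mem n hn g, by rw [conj_pow, hn', mul_one, mul_inv_cancel]⟩
  · exact fun n hn => hMH hn.1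
  · intro h
    have hmN : (m : G) ∈ N := by
      refine ⟨m.2, ?_⟩
      have h1 : m ^ p = 1 := by rw [← hm]; exact pow_orderOf_eq_one m
      have h2 := congrArg Subtype.val h1
      simpa using h2
    rw [h, Subgroup.mem_bot] at hmN
    have h3 : orderOf m = 1 := by rw [orderOf_eq_one_iff]; exact Subtype.ext hmN
    rw [hm] at h3
    exact hp.ne_one h3
  · rintro ⟨n, hn⟩
    exact ⟨1, Subtype.ext (by simpa using hn.2)⟩
  · intro a ha b hb
    exact hab a ha.1 b hb.1

theorem no_commute {G : Type*} [Group G] [Finite G]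
    (h : ∀ g : G, IsPrimePow (orderOf g) ∨ g = 1) {a b : G} (hab : a * b = b * a)
    (hcop : (orderOf a).Coprime (orderOf b)) (ha : a ≠ 1) : b = 1 := by
  by_contra hb
  have ho : orderOf (a * b) = orderOf a * orderOf b :=
    (show Commute a b from hab).orderOf_mul_eq_mul_orderOf_of_coprime hcop
  have ha1 : orderOf a ≠ 1 := fun h => ha (orderOf_eq_one_iff.mp h)
  have hb1 : orderOf b ≠ 1 := fun h => hb (orderOf_eq_one_iff.mp h)
  rcases h (a * b) with hpp | h1
  · rw [ho] at hpp
    rcases (Nat.Coprime.isPrimePow_dvd_mul hcop hpp).mp dvd_rfl with h2 | h2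
    · have h3 : orderOf a * orderOf b ∣ orderOf a * 1 := by rwa [mul_one]
      exact hb1 (Nat.dvd_one.mp (Nat.dvd_of_mul_dvd_mul_left (orderOf_pos a) h3))
    · have h3 : orderOf b * orderOf a ∣ orderOf b * 1 := by rwa [mul_one, mul_comm]
      exact ha1 (Nat.dvd_one.mp (Nat.dvd_of_mul_dvd_mul_left (orderOf_pos b) h3))
  · have h2 : orderOf (a * b) = 1 := by rw [h1, orderOf_one]
    rw [ho] at h2
    exact ha1 (Nat.eq_one_of_mul_eq_one_right h2)

theorem eppo_quot {G : Type*} [Group G] [Finite G]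
    (h : ∀ g : G, IsPrimePow (orderOf g) ∨ g = 1) (N : Subgroup G) [N.Normal] :
    ∀ g : G ⧸ N, IsPrimePow (orderOf g) ∨ g = 1 := by
  intro gbar
  obtain ⟨g, rfl⟩ := QuotientGroup.mk'_surjective N gbar
  by_cases h1 : QuotientGroup.mk' N g = 1
  · exact Or.inr h1
  · left
    have hg1 : g ≠ 1 := by
      rintro rfl
      exact h1 (map_one _)
    have hpp := (h g).resolve_right hg1
    obtain ⟨q, k, hq, hk, hqk⟩ := (isPrimePow_nat_iff _).mp hpp
    have hdvd : orderOf (QuotientGroup.mk' N g) ∣ q ^ k := by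
      rw [hqk]
      exact orderOf_map_dvd _ g
    obtain ⟨j, -, hj⟩ := (Nat.dvd_prime_pow hq).mp hdvd
    rw [hj]
    apply hq.isPrimePow.pow
    rintro rfl
    rw [pow_zero] at hj
    exact h1 (orderOf_eq_one_iff.mp hj)

theorem eppo_sub {G : Type*} [Group G] (h : ∀ g : G, IsPrimePow (orderOf g) ∨ g = 1)
    (L : Subgroup G) : ∀ g : L, IsPrimePow (orderOf g) ∨ g = 1 := by
  intro g
  rcases h (g : G) with h1 | h1
  · left
    rwa [Subgroup.orderOf_coe] at h1
  · right
    exact Subtype.ext h1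

theorem main (n : ℕ) : ∀ (G : Type u) [Group G] [Finite G] [Group.IsSolvable G],
    Nat.card G = n → (∀ g : G, IsPrimePow (orderOf g) ∨ g = 1) →
    (Nat.card G).primeFactors.card ≤ 2 := by
  induction n using Nat.strong_induction_on with
  | _ n ih =>
    intro G _ _ _ hn h
    by_cases htriv : (⊤ : Subgroup G) = ⊥
    · have h1 : Nat.card G = 1 := by
        rw [← Subgroup.card_top (G := G), htriv, Subgroup.card_bot]
      rw [h1]
      simp
    · obtain ⟨p, hp, N, hNn, -, hN1, hNp, hNab⟩ :=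
        exists_normal_abelian_pgroup (⊤ : Subgroup G) inferInstance htriv
      have := Fact.mk hp
      have hcard := Subgroup.card_eq_card_quotient_mul_card_subgroup N
      have h2 : 1 < Nat.card N := N.one_lt_card_iff_ne_bot.mpr hN1
      have h3 : 0 < Nat.card (G ⧸ N) := Nat.card_pos
      have hlt : Nat.card (G ⧸ N) < n := by
        rw [← hn, hcard]
        nlinarith
      have ih' := ih _ hlt (G ⧸ N) rfl (eppo_quot h N)
      obtain ⟨a, ha⟩ := IsPGroup.iff_card.mp hNp
      have ha0 : a ≠ 0 := by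
        rintro rfl
        rw [pow_zero] at ha
        omega
      have hpf : (Nat.card G).primeFactors = (Nat.card (G ⧸ N)).primeFactors ∪ {p} := by
        rw [hcard, Nat.primeFactors_mul h3.ne' (by omega), ha, Nat.primeFactors_prime_pow ha0 hp]
      by_contra hgt
      push Not at hgt
      have hpn : p ∉ (Nat.card (G ⧸ N)).primeFactors := by
        intro hmem
        rw [hpf, Finset.union_eq_left.mpr (Finset.singleton_subset_iff.mpr hmem)] at hgt
        omega
      have hc2 : (Nat.card (G ⧸ N)).primeFactors.card = 2 := by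
        rw [hpf, Finset.card_union_of_disjoint (Finset.disjoint_singleton_right.mpr hpn),
          Finset.card_singleton] at hgt
        omega
      have hpdvd : ¬ p ∣ Nat.card (G ⧸ N) :=
        fun hd => hpn (Nat.mem_primeFactors.mpr ⟨hp, hd, h3.ne'⟩)
      have hcopN : (Nat.card N).Coprime N.index := by
        rw [ha, Subgroup.index_eq_card]
        exact Nat.Coprime.pow_left a ((Nat.Prime.coprime_iff_not_dvd hp).mpr hpdvd)
      obtain ⟨L, hL⟩ := Subgroup.exists_right_complement'_of_coprime hcopN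
      have hLcard : Nat.card L = Nat.card (G ⧸ N) := by
        have h4 := hL.card_mul_card
        rw [hcard, mul_comm] at h4
        exact Nat.eq_of_mul_eq_mul_right (by omega) h4
      have hLtop : (⊤ : Subgroup L) ≠ ⊥ := by
        intro h4
        have h5 : Nat.card L = 1 := by
          rw [← Subgroup.card_top (G := L), h4, Subgroup.card_bot]
        rw [hLcard] at h5
        rw [h5] at hc2
        simp at hc2
      obtain ⟨r, hr, K, hKn, -, hK1, hKr, -⟩ :=
        exists_normal_abelian_pgroup (⊤ : Subgroup L) inferInstance hLtop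
      obtain ⟨s, hs, hsr⟩ := Finset.exists_mem_ne
        (by rw [hc2]; norm_num : 1 < (Nat.card (G ⧸ N)).primeFactors.card) r
      have hsP := Nat.prime_of_mem_primeFactors hs
      have hsd : s ∣ Nat.card L := by
        rw [hLcard]
        exact Nat.dvd_of_mem_primeFactors hs
      have := Fact.mk hsP
      have := Fact.mk hr
      obtain ⟨t, ht⟩ := exists_prime_orderOf_dvd_card' (G := L) s hsd
      have hcopLN : (Nat.card L).Coprime (Nat.card N) := by
        rw [hLcard, ha]
        exact Nat.Coprime.pow_right a (Nat.Coprime.symm ((Nat.Prime.coprime_iff_not_dvd hp).mpr hpdvd))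
      have hLe := eppo_sub h L
      -- orders
      have hKord : ∀ k ∈ K, ∃ i : ℕ, orderOf k = r ^ i := by
        intro k hk
        obtain ⟨i, hi⟩ := hKr ⟨k, hk⟩
        have hi' : k ^ (r ^ i) = 1 := congrArg Subtype.val hi
        obtain ⟨j, -, hj⟩ := (Nat.dvd_prime_pow hr).mp (orderOf_dvd_of_pow_eq_one hi')
        exact ⟨j, hj⟩
      have hNord : ∀ v : N, (orderOf (v : G)).Coprime (Nat.card L) := by
        intro v
        have h4 : orderOf (v : G) ∣ Nat.card N := Subgroup.orderOf_dvd_natCard N v.2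
        exact Nat.Coprime.coprime_dvd_left h4 hcopLN.symm
      let hN_comm : CommGroup N :=
        { (inferInstance : Group N) with
          mul_comm := fun x y => Subtype.ext (hNab x x.2 y y.2) }
      have hF := lemmaF (V := N) (Γ := L) ((MulAut.conjNormal (H := N)).comp L.subtype) K t hK1
        (fun i k hk => hKn.conj_mem k hk (t ^ i)) ?_ ?_ ?_ ?_
      · exact hN1 ((Subgroup.eq_bot_iff_forall _).mpr
          (fun x hx => congrArg Subtype.val (hF ⟨x, hx⟩)))
      · -- powers of t act fpf on K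
        intro i hi k hk hcomm
        obtain ⟨j, hj⟩ := hKord k hk
        have hti : orderOf (t ^ i) = s := by
          have h4 : orderOf (t ^ i) ∣ s := by
            apply orderOf_dvd_of_pow_eq_one
            rw [← pow_mul, mul_comm, pow_mul, ← ht, pow_orderOf_eq_one, one_pow]
          rcases (Nat.dvd_prime hsP).mp h4 with h5 | h5
          · exact absurd (orderOf_eq_one_iff.mp h5) hi
          · exact h5
        refine no_commute hLe hcomm ?_ hi
        rw [hti, hj]
        exact Nat.Coprime.pow_right j ((Nat.coprime_primes hsP hr).mpr hsr)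
      · -- K acts fpf on N
        intro k hk hk1 v hv
        have hv' : (k : G) * (v : G) * (k : G)⁻¹ = (v : G) := by
          have h4 := congrArg Subtype.val hv
          simpa [MulAut.conjNormal_apply] using h4
        have hcomm : (k : G) * (v : G) = (v : G) * (k : G) := by
          calc (k : G) * (v : G) = (k : G) * (v : G) * (k : G)⁻¹ * (k : G) := by group
            _ = (v : G) * (k : G) := by rw [hv']
        have hk1' : (k : G) ≠ 1 := fun h4 => hk1 (Subtype.ext h4)
        have h5 : (orderOf (k : G)).Coprime (orderOf (v : G)) := by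
          have h6 : orderOf (k : G) ∣ Nat.card L := Subgroup.orderOf_dvd_natCard L k.2
          exact Nat.Coprime.coprime_dvd_left h6 (hNord v).symm
        exact Subtype.ext (no_commute h hcomm h5 hk1')
      · -- t acts fpf on N
        intro v hv
        have hv' : (t : G) * (v : G) * (t : G)⁻¹ = (v : G) := by
          have h4 := congrArg Subtype.val hv
          simpa [MulAut.conjNormal_apply] using h4
        have hcomm : (t : G) * (v : G) = (v : G) * (t : G) := by
          calc (t : G) * (v : G) = (t : G) * (v : G) * (t : G)⁻¹ * (t : G) := by group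
            _ = (v : G) * (t : G) := by rw [hv']
        have ht1 : (t : G) ≠ 1 := by
          intro h4
          have h5 : t = 1 := Subtype.ext h4
          rw [h5, orderOf_one] at ht
          exact hsP.ne_one ht.symm
        have h5 : (orderOf (t : G)).Coprime (orderOf (v : G)) := by
          have h6 : orderOf (t : G) ∣ Nat.card L := Subgroup.orderOf_dvd_natCard L t.2
          exact Nat.Coprime.coprime_dvd_left h6 (hNord v).symm
        exact Subtype.ext (no_commute h hcomm h5 ht1)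
      · exact Nat.Coprime.coprime_dvd_left (Subgroup.card_subgroup_dvd_card K) hcopLN

/-- Let G be a finite solvable group such that the order of every element is a prime power (1 included). Then at most two distinct primes divide the order of G. -/
theorem result {G : Type*} [Group G] [Finite G] [Group.IsSolvable G] (h : ∀ g : G, IsPrimePow (orderOf g) ∨ g = 1) :
    (Nat.card G).primeFactors.card ≤ 2 := by
  exact main (Nat.card G) G rfl h

end Cfsg.Agent.S1475
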