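import Cfsg.Statements.S1477
import Mathlib
import Cfsg.Agent.S1473
-- import your own Cfsg.Agent.* helpers here

set_option autoImplicit false
open Cfsg

namespace Cfsg.Agent.S1477

open Cfsg.Agent.S1473 (commute_of_prime_pow isPGroup_zpowers)

/-- in a finite nilpotent group every `p`-element lies in the Sylow `p`-subgroup -/
theorem mem_sylow_of_pow {N : Type*} [Group N] [Finite N] [Group.IsNilpotent N] {p : ℕ}
    [Fact p.Prime] (Q : Sylow p N) {a : N} {k : ℕ} (ha : a ^ (p ^ k) = 1) :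
    a ∈ (Q : Subgroup N) := by
  obtain ⟨Q', hQ'⟩ := (isPGroup_zpowers ha).exists_le_sylow
  have hu := Sylow.unique_of_normal Q inferInstance
  have h : Q' = Q := Subsingleton.elim _ _
  rw [← h]
  exact hQ' (Subgroup.mem_zpowers a)

/-- in a finite nilpotent group a `p`-element centralizing a Sylow `p`-subgroup is central -/
theorem central_of_sylow {N : Type*} [Group N] [Finite N] [Group.IsNilpotent N] {p : ℕ}
    [hp : Fact p.Prime] (Q : Sylow p N) {w : N} {k : ℕ} (hw : w ^ (p ^ k) = 1)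
    (hQ : ∀ y ∈ (Q : Subgroup N), y * w = w * y) : ∀ y : N, y * w = w * y := by
  have hidx : (Subgroup.centralizer ({w} : Set N)).index = 1 := by
    by_contra hne
    obtain ⟨s, hs, hsd⟩ := Nat.exists_prime_and_dvd hne
    have := Fact.mk hs
    by_cases hsp : s = p
    · rw [hsp] at hsd
      exact Q.not_dvd_index (hsd.trans (Subgroup.index_dvd_of_le
        (fun y hy => Subgroup.mem_centralizer_singleton_iff.mpr (hQ y hy))))
    · obtain ⟨S⟩ : Nonempty (Sylow s N) := inferInstance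
      refine S.not_dvd_index (hsd.trans (Subgroup.index_dvd_of_le ?_))
      intro c hc
      obtain ⟨j, hj⟩ := S.isPGroup' ⟨c, hc⟩
      have hj' : c ^ (s ^ j) = 1 := congrArg Subtype.val hj
      exact Subgroup.mem_centralizer_singleton_iff.mpr
        (commute_of_prime_pow hs hp.out hsp hj' hw)
  intro y
  have h := Subgroup.index_eq_one.mp hidx
  exact Subgroup.mem_centralizer_singleton_iff.mp (h ▸ Subgroup.mem_top y)

theorem sub_mem_sylow {G : Type*} [Group G] [Finite G] {N : Subgroup G}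
    (hN : Group.IsNilpotent N) {p : ℕ} [Fact p.Prime] (P : Sylow p G)
    (hle : (P : Subgroup G) ≤ N) {a : G} (haN : a ∈ N) {k : ℕ} (ha : a ^ (p ^ k) = 1) :
    a ∈ (P : Subgroup G) := by
  have h := mem_sylow_of_pow (P.subtype hle) (a := ⟨a, haN⟩) (k := k) (Subtype.ext ha)
  exact h

theorem sub_central {G : Type*} [Group G] [Finite G] {N : Subgroup G}
    (hN : Group.IsNilpotent N) {p : ℕ} [Fact p.Prime] (P : Sylow p G)
    (hle : (P : Subgroup G) ≤ N) {w : G} (hwN : w ∈ N) {k : ℕ} (hw : w ^ (p ^ k) = 1)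
    (hP : ∀ y ∈ (P : Subgroup G), y * w = w * y) : ∀ y ∈ N, y * w = w * y := by
  intro y hy
  have h := central_of_sylow (P.subtype hle) (w := ⟨w, hwN⟩) (k := k) (Subtype.ext hw)
    (fun y' hy' => Subtype.ext (hP (y' : G) hy')) ⟨y, hy⟩
  exact congrArg Subtype.val h

theorem sub_commute {G : Type*} [Group G] [Finite G] {N : Subgroup G}
    (hN : Group.IsNilpotent N) {p s : ℕ} (hp : p.Prime) (hs : s.Prime) (hps : p ≠ s) {a b : G}
    (ha : a ∈ N) (hb : b ∈ N) {k j : ℕ} (hak : a ^ (p ^ k) = 1) (hbj : b ^ (s ^ j) = 1) :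
    a * b = b * a :=
  congrArg Subtype.val (commute_of_prime_pow (D := N) hp hs hps (a := ⟨a, ha⟩) (b := ⟨b, hb⟩)
    (Subtype.ext hak) (Subtype.ext hbj))

theorem exists_central_sylow {G : Type*} [Group G] [Finite G] {p : ℕ} [Fact p.Prime]
    (P : Sylow p G) (hne : (P : Subgroup G) ≠ ⊥) :
    ∃ z ∈ (P : Subgroup G), z ≠ 1 ∧ ∀ y ∈ (P : Subgroup G), y * z = z * y := by
  have hnt : Nontrivial (P : Subgroup G) := (Subgroup.nontrivial_iff_ne_bot _).mpr hne
  have hc := P.isPGroup'.center_nontrivial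
  obtain ⟨z, hz⟩ := exists_ne (1 : Subgroup.center (P : Subgroup G))
  refine ⟨((z : (P : Subgroup G)) : G), (z : (P : Subgroup G)).2, ?_, ?_⟩
  · intro h
    apply hz
    exact Subtype.ext (Subtype.ext h)
  · intro y hy
    have h := Subgroup.mem_center_iff.mp z.2 ⟨y, hy⟩
    exact congrArg Subtype.val h

theorem keyK {G : Type*} [Group G] (hCN : Cfsg.IsCNGroup G) (H : Subgroup G)
    (hmax : ∀ L : Subgroup G, Group.IsNilpotent L → H ≤ L → L = H) {w : G}
    (hw1 : w ≠ 1) (hc : ∀ h ∈ H, h * w = w * h) :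
    Subgroup.centralizer ({w} : Set G) = H :=
  hmax _ (hCN w hw1) (fun h hh => Subgroup.mem_centralizer_singleton_iff.mpr (hc h hh))

theorem exists_sylow_le {G : Type*} [Group G] [Finite G] (hCN : Cfsg.IsCNGroup G)
    (H : Subgroup G) (hH : Group.IsNilpotent H)
    (hmax : ∀ L : Subgroup G, Group.IsNilpotent L → H ≤ L → L = H) (p : ℕ) (hp : p.Prime)
    (hpH : p ∣ Nat.card H) : ∃ P : Sylow p G, (P : Subgroup G) ≤ H := by
  have := Fact.mk hp
  obtain ⟨Q⟩ : Nonempty (Sylow p H) := inferInstance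
  have hQne : (Q : Subgroup H) ≠ ⊥ := Q.ne_bot_of_dvd_card hpH
  obtain ⟨w, hwQ, hw1, hwc⟩ := exists_central_sylow Q hQne
  obtain ⟨k, hk⟩ := Q.isPGroup' ⟨w, hwQ⟩
  have hk' : w ^ (p ^ k) = 1 := congrArg Subtype.val hk
  have hwH : ∀ y : H, y * w = w * y := central_of_sylow Q hk' hwc
  obtain ⟨P, hP⟩ := (Q.isPGroup'.map H.subtype).exists_le_sylow
  have hwP : (w : G) ∈ (P : Subgroup G) := hP ⟨w, hwQ, rfl⟩
  have hw1' : (w : G) ≠ 1 := fun h => hw1 (Subtype.ext h)
  have hPne : (P : Subgroup G) ≠ ⊥ := by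
    intro h
    rw [h, Subgroup.mem_bot] at hwP
    exact hw1' hwP
  obtain ⟨z, hzP, hz1, hzc⟩ := exists_central_sylow P hPne
  have hCw : Subgroup.centralizer ({(w : G)} : Set G) = H :=
    keyK hCN H hmax hw1' (fun h hh => congrArg Subtype.val (hwH ⟨h, hh⟩))
  have hzH : z ∈ H := by
    rw [← hCw, Subgroup.mem_centralizer_singleton_iff]
    exact (hzc (w : G) hwP).symm
  obtain ⟨j, hj⟩ := P.isPGroup' ⟨z, hzP⟩
  have hj' : z ^ (p ^ j) = 1 := congrArg Subtype.val hj
  have hzcH : ∀ y : H, y * (⟨z, hzH⟩ : H) = ⟨z, hzH⟩ * y :=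
    central_of_sylow Q (w := ⟨z, hzH⟩) (k := j) (Subtype.ext hj')
      (fun y hy => Subtype.ext (hzc (y : G) (hP ⟨y, hy, rfl⟩)))
  have hCz : Subgroup.centralizer ({z} : Set G) = H :=
    keyK hCN H hmax hz1 (fun h hh => congrArg Subtype.val (hzcH ⟨h, hh⟩))
  refine ⟨P, ?_⟩
  rw [← hCz]
  intro y hy
  exact Subgroup.mem_centralizer_singleton_iff.mpr (hzc y hy)

theorem part1 {G : Type*} [Group G] [Finite G] (hCN : Cfsg.IsCNGroup G)
    (H : Subgroup G) (hH : Group.IsNilpotent H)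
    (hmax : ∀ L : Subgroup G, Group.IsNilpotent L → H ≤ L → L = H) :
    (Nat.card H).Coprime H.index := by
  apply Nat.coprime_of_dvd
  intro p hp hpH hpi
  have := Fact.mk hp
  obtain ⟨P, hPH⟩ := exists_sylow_le hCN H hH hmax p hp hpH
  exact P.not_dvd_index (hpi.trans (Subgroup.index_dvd_of_le hPH))

theorem part3_prime {G : Type*} [Group G] [Finite G] (hCN : Cfsg.IsCNGroup G)
    (H : Subgroup G) (hH : Group.IsNilpotent H)
    (hmax : ∀ L : Subgroup G, Group.IsNilpotent L → H ≤ L → L = H)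
    (hTI : ∀ g : G, H.map (MulAut.conj g).toMonoidHom ≠ H →
      H ⊓ H.map (MulAut.conj g).toMonoidHom = ⊥)
    (p : ℕ) (hp : p.Prime) (x : G) (hx : x ∈ H) (hxo : orderOf x = p) :
    Subgroup.centralizer ({x} : Set G) ≤ H := by
  have := Fact.mk hp
  have hx1 : x ≠ 1 := by
    intro h
    rw [h, orderOf_one] at hxo
    exact hp.ne_one hxo.symm
  have hpH : p ∣ Nat.card H := by
    rw [← hxo]
    exact Subgroup.orderOf_dvd_natCard H hx
  obtain ⟨P, hPH⟩ := exists_sylow_le hCN H hH hmax p hp hpH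
  have hxp : x ^ (p ^ 1) = 1 := by
    rw [pow_one, ← hxo]
    exact pow_orderOf_eq_one x
  have hxP : x ∈ (P : Subgroup G) := sub_mem_sylow hH P hPH hx hxp
  have hPne : (P : Subgroup G) ≠ ⊥ := by
    intro h
    rw [h, Subgroup.mem_bot] at hxP
    exact hx1 hxP
  obtain ⟨z, hzP, hz1, hzc⟩ := exists_central_sylow P hPne
  obtain ⟨j, hj⟩ := P.isPGroup' ⟨z, hzP⟩
  have hj' : z ^ (p ^ j) = 1 := congrArg Subtype.val hj
  have hzH : ∀ y ∈ H, y * z = z * y := sub_central hH P hPH (hPH hzP) hj' hzc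
  have hCz : Subgroup.centralizer ({z} : Set G) = H := keyK hCN H hmax hz1 hzH
  have hCnil : Group.IsNilpotent (Subgroup.centralizer ({x} : Set G)) := hCN x hx1
  have hzC : z ∈ Subgroup.centralizer ({x} : Set G) :=
    Subgroup.mem_centralizer_singleton_iff.mpr (hzc x hxP).symm
  -- the centralizer of `x` normalizes `H`
  have hCN' : ∀ c ∈ Subgroup.centralizer ({x} : Set G), ∀ h ∈ H, c * h * c⁻¹ ∈ H := by
    intro c hc h hh
    have hmap : H.map (MulAut.conj c).toMonoidHom = H := by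
      by_contra hne
      have hbot := hTI c hne
      have hxmem : x ∈ H ⊓ H.map (MulAut.conj c).toMonoidHom := by
        refine ⟨hx, x, hx, ?_⟩
        have hcx : c * x = x * c := Subgroup.mem_centralizer_singleton_iff.mp hc
        show c * x * c⁻¹ = x
        rw [hcx, mul_inv_cancel_right]
      rw [hbot, Subgroup.mem_bot] at hxmem
      exact hx1 hxmem
    rw [← hmap]
    exact ⟨h, hh, rfl⟩
  -- `p`-elements of the centralizer lie in `P`
  have hCp : ∀ c ∈ Subgroup.centralizer ({x} : Set G), ∀ k : ℕ, c ^ (p ^ k) = 1 →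
      c ∈ (P : Subgroup G) := by
    intro c hc k hck
    have hnorm : Subgroup.zpowers c ≤ Subgroup.normalizer ((P : Subgroup G) : Set G) := by
      intro d hd
      have hdC : d ∈ Subgroup.centralizer ({x} : Set G) := (Subgroup.zpowers_le.mpr hc) hd
      have hd' : d⁻¹ ∈ Subgroup.centralizer ({x} : Set G) := Subgroup.inv_mem _ hdC
      rw [Subgroup.mem_normalizer_iff]
      intro y
      constructor
      · intro hy
        have h1 : d * y * d⁻¹ ∈ H := hCN' d hdC y (hPH hy)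
        obtain ⟨i, hi⟩ := P.isPGroup' ⟨y, hy⟩
        have hi' : y ^ (p ^ i) = 1 := congrArg Subtype.val hi
        exact sub_mem_sylow hH P hPH h1 (k := i)
          (by rw [conj_pow, hi', mul_one, mul_inv_cancel])
      · intro hy
        have h1 : d⁻¹ * (d * y * d⁻¹) * d⁻¹⁻¹ ∈ H := hCN' d⁻¹ hd' _ (hPH hy)
        obtain ⟨i, hi⟩ := P.isPGroup' ⟨d * y * d⁻¹, hy⟩
        have hi' : (d * y * d⁻¹) ^ (p ^ i) = 1 := congrArg Subtype.val hi
        have h2 : d⁻¹ * (d * y * d⁻¹) * d⁻¹⁻¹ = y := by group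
        have h3 := sub_mem_sylow hH P hPH h1 (k := i)
          (by rw [conj_pow, hi', mul_one, mul_inv_cancel])
        rwa [h2] at h3
    have hsup : IsPGroup p (Subgroup.zpowers c ⊔ (P : Subgroup G) : Subgroup G) :=
      IsPGroup.to_sup_of_normal_right' (isPGroup_zpowers hck) P.isPGroup' hnorm
    have h4 := P.is_maximal' hsup le_sup_right
    have h5 : c ∈ Subgroup.zpowers c ⊔ (P : Subgroup G) :=
      (le_sup_left : Subgroup.zpowers c ≤ _) (Subgroup.mem_zpowers c)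
    rw [h4] at h5
    exact h5
  rw [← hCz]
  have hall : ∀ c' : Subgroup.centralizer ({x} : Set G),
      c' * (⟨z, hzC⟩ : Subgroup.centralizer ({x} : Set G)) = ⟨z, hzC⟩ * c' := by
    have hidx : (Subgroup.centralizer
        ({(⟨z, hzC⟩ : Subgroup.centralizer ({x} : Set G))} : Set _)).index = 1 := by
      by_contra hne
      obtain ⟨s, hs, hsd⟩ := Nat.exists_prime_and_dvd hne
      have := Fact.mk hs
      obtain ⟨S⟩ : Nonempty (Sylow s (Subgroup.centralizer ({x} : Set G))) := inferInstance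
      refine S.not_dvd_index (hsd.trans (Subgroup.index_dvd_of_le ?_))
      intro c' hc'
      obtain ⟨i, hi⟩ := S.isPGroup' ⟨c', hc'⟩
      have hi' : c' ^ (s ^ i) = 1 := congrArg Subtype.val hi
      rw [Subgroup.mem_centralizer_singleton_iff]
      by_cases hsp : s = p
      · rw [hsp] at hi'
        have hi'' : (c' : G) ^ (p ^ i) = 1 := congrArg Subtype.val hi'
        have h6 : (c' : G) ∈ (P : Subgroup G) := hCp c' c'.2 i hi''
        exact Subtype.ext (hzc (c' : G) h6)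
      · exact commute_of_prime_pow hs hp hsp hi' (Subtype.ext hj')
    intro c'
    have h := Subgroup.index_eq_one.mp hidx
    exact Subgroup.mem_centralizer_singleton_iff.mp (h ▸ Subgroup.mem_top c')
  intro c hc
  exact Subgroup.mem_centralizer_singleton_iff.mpr (congrArg Subtype.val (hall ⟨c, hc⟩))

theorem part3 {G : Type*} [Group G] [Finite G] (hCN : Cfsg.IsCNGroup G)
    (H : Subgroup G) (hH : Group.IsNilpotent H)
    (hmax : ∀ L : Subgroup G, Group.IsNilpotent L → H ≤ L → L = H)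
    (hTI : ∀ g : G, H.map (MulAut.conj g).toMonoidHom ≠ H →
      H ⊓ H.map (MulAut.conj g).toMonoidHom = ⊥) :
    ∀ x ∈ H, x ≠ 1 → Subgroup.centralizer ({x} : Set G) ≤ H := by
  intro x hx hx1
  have ho : orderOf x ≠ 1 := fun h => hx1 (orderOf_eq_one_iff.mp h)
  obtain ⟨r, hr, hrd⟩ := Nat.exists_prime_and_dvd ho
  have ho0 : orderOf x ≠ 0 := (orderOf_pos x).ne'
  have hyo : orderOf (x ^ (orderOf x / r)) = r := orderOf_pow_orderOf_div ho0 hrd
  have hle : Subgroup.centralizer ({x} : Set G) ≤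
      Subgroup.centralizer ({x ^ (orderOf x / r)} : Set G) := by
    intro g hg
    rw [Subgroup.mem_centralizer_singleton_iff] at hg ⊢
    exact ((show Commute g x from hg).pow_right _).eq
  exact hle.trans (part3_prime hCN H hH hmax hTI r hr _ (H.pow_mem hx _) hyo)

theorem part2 {G : Type*} [Group G] [Finite G] (hCN : Cfsg.IsCNGroup G)
    (H : Subgroup G) (hH : Group.IsNilpotent H)
    (hmax : ∀ L : Subgroup G, Group.IsNilpotent L → H ≤ L → L = H)
    (hnpp : ¬ IsPrimePow (Nat.card H)) (hne1 : Nat.card H ≠ 1) (g : G)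
    (hg : H.map (MulAut.conj g).toMonoidHom ≠ H) :
    H ⊓ H.map (MulAut.conj g).toMonoidHom = ⊥ := by
  by_contra hne
  apply hg
  obtain ⟨x₁, hx₁mem, hx₁1⟩ : ∃ x ∈ H ⊓ H.map (MulAut.conj g).toMonoidHom, x ≠ 1 := by
    by_contra hcon
    push Not at hcon
    exact hne ((Subgroup.eq_bot_iff_forall _).mpr hcon)
  have ho : orderOf x₁ ≠ 1 := fun h => hx₁1 (orderOf_eq_one_iff.mp h)
  obtain ⟨p, hp, hpd⟩ := Nat.exists_prime_and_dvd ho
  have ho0 : orderOf x₁ ≠ 0 := (orderOf_pos x₁).ne'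
  have hxo : orderOf (x₁ ^ (orderOf x₁ / p)) = p := orderOf_pow_orderOf_div ho0 hpd
  have hxmem : x₁ ^ (orderOf x₁ / p) ∈ H ⊓ H.map (MulAut.conj g).toMonoidHom :=
    Subgroup.pow_mem _ hx₁mem _
  obtain ⟨x, hxdef⟩ : ∃ x, x = x₁ ^ (orderOf x₁ / p) := ⟨_, rfl⟩
  rw [← hxdef] at hxo hxmem
  obtain ⟨hxH, x₀, hx₀H, hx₀⟩ := hxmem
  have hx₀' : g * x₀ * g⁻¹ = x := hx₀
  have hx1 : x ≠ 1 := by
    intro h
    rw [h, orderOf_one] at hxo
    exact hp.ne_one hxo.symm
  have hxp : x ^ (p ^ 1) = 1 := by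
    rw [pow_one, ← hxo]
    exact pow_orderOf_eq_one x
  have hx₀p : x₀ ^ (p ^ 1) = 1 := by
    have h1 : g * x₀ ^ (p ^ 1) * g⁻¹ = 1 := by rw [← conj_pow, hx₀', hxp]
    calc x₀ ^ (p ^ 1) = g⁻¹ * (g * x₀ ^ (p ^ 1) * g⁻¹) * g := by group
      _ = 1 := by rw [h1]; group
  have hpH : p ∣ Nat.card H := by
    rw [← hxo]
    exact Subgroup.orderOf_dvd_natCard H hxH
  obtain ⟨q, hq, hqH, hqp⟩ : ∃ q : ℕ, q.Prime ∧ q ∣ Nat.card H ∧ q ≠ p := by
    by_contra hcon
    push Not at hcon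
    have h1 := Nat.eq_prime_pow_of_unique_prime_dvd (Nat.card_pos (α := H)).ne'
      (fun {d} hd hdd => hcon d hd hdd)
    apply hnpp
    rw [h1]
    apply hp.isPrimePow.pow
    intro h0
    rw [h0, pow_zero] at h1
    exact hne1 h1
  have := Fact.mk hq
  obtain ⟨Pq, hPqH⟩ := exists_sylow_le hCN H hH hmax q hq hqH
  have hCnil : Group.IsNilpotent (Subgroup.centralizer ({x} : Set G)) := hCN x hx1
  have hPqC : (Pq : Subgroup G) ≤ Subgroup.centralizer ({x} : Set G) := by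
    intro y hy
    obtain ⟨i, hi⟩ := Pq.isPGroup' ⟨y, hy⟩
    have hi' : y ^ (q ^ i) = 1 := congrArg Subtype.val hi
    exact Subgroup.mem_centralizer_singleton_iff.mpr
      (sub_commute hH hq hp hqp (hPqH hy) hxH hi' hxp)
  have hconj : ∀ y ∈ (Pq : Subgroup G), g * y * g⁻¹ ∈ (Pq : Subgroup G) := by
    intro y hy
    obtain ⟨i, hi⟩ := Pq.isPGroup' ⟨y, hy⟩
    have hi' : y ^ (q ^ i) = 1 := congrArg Subtype.val hi
    have hyx₀ : y * x₀ = x₀ * y := sub_commute hH hq hp hqp (hPqH hy) hx₀H hi' hx₀p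
    have hC : g * y * g⁻¹ ∈ Subgroup.centralizer ({x} : Set G) := by
      rw [Subgroup.mem_centralizer_singleton_iff, ← hx₀']
      calc g * y * g⁻¹ * (g * x₀ * g⁻¹) = g * (y * x₀) * g⁻¹ := by group
        _ = g * (x₀ * y) * g⁻¹ := by rw [hyx₀]
        _ = g * x₀ * g⁻¹ * (g * y * g⁻¹) := by group
    exact sub_mem_sylow hCnil Pq hPqC hC (k := i)
      (by rw [conj_pow, hi', mul_one, mul_inv_cancel])
  have hsurj : ∀ h ∈ (Pq : Subgroup G), ∃ h' ∈ (Pq : Subgroup G), g * h' * g⁻¹ = h := by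
    have hinj : Function.Injective
        (fun y : (Pq : Subgroup G) => (⟨g * y * g⁻¹, hconj y y.2⟩ : (Pq : Subgroup G))) := by
      intro a b hab
      have h1 : g * (a : G) * g⁻¹ = g * (b : G) * g⁻¹ := congrArg Subtype.val hab
      exact Subtype.ext (mul_left_cancel (mul_right_cancel h1))
    have hs := Finite.surjective_of_injective hinj
    intro h hh
    obtain ⟨h', hh'⟩ := hs ⟨h, hh⟩
    exact ⟨h', h'.2, congrArg Subtype.val hh'⟩
  have hPqne : (Pq : Subgroup G) ≠ ⊥ :=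
    Pq.ne_bot_of_dvd_card (hqH.trans (Subgroup.card_subgroup_dvd_card H))
  obtain ⟨y, hyP, hy1, hyc⟩ := exists_central_sylow Pq hPqne
  obtain ⟨i, hi⟩ := Pq.isPGroup' ⟨y, hyP⟩
  have hi' : y ^ (q ^ i) = 1 := congrArg Subtype.val hi
  have hyH : ∀ h ∈ H, h * y = y * h := sub_central hH Pq hPqH (hPqH hyP) hi' hyc
  have hy₂P : g * y * g⁻¹ ∈ (Pq : Subgroup G) := hconj y hyP
  have hy₂c : ∀ h ∈ (Pq : Subgroup G), h * (g * y * g⁻¹) = (g * y * g⁻¹) * h := by
    intro h hh
    obtain ⟨h', hh', rfl⟩ := hsurj h hh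
    have h1 := hyc h' hh'
    calc g * h' * g⁻¹ * (g * y * g⁻¹) = g * (h' * y) * g⁻¹ := by group
      _ = g * (y * h') * g⁻¹ := by rw [h1]
      _ = g * y * g⁻¹ * (g * h' * g⁻¹) := by group
  have hy₂H : ∀ h ∈ H, h * (g * y * g⁻¹) = (g * y * g⁻¹) * h :=
    sub_central hH Pq hPqH (hPqH hy₂P) (k := i)
      (by rw [conj_pow, hi', mul_one, mul_inv_cancel]) hy₂c
  have hy₂1 : g * y * g⁻¹ ≠ 1 := by
    intro h
    apply hy1
    calc y = g⁻¹ * (g * y * g⁻¹) * g := by group
      _ = 1 := by rw [h]; group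
  have hCy₂ : Subgroup.centralizer ({g * y * g⁻¹} : Set G) = H :=
    keyK hCN H hmax hy₂1 hy₂H
  have hle : H.map (MulAut.conj g).toMonoidHom ≤ H := by
    rintro _ ⟨h, hh, rfl⟩
    rw [← hCy₂, Subgroup.mem_centralizer_singleton_iff]
    have h1 := hyH h hh
    show g * h * g⁻¹ * (g * y * g⁻¹) = g * y * g⁻¹ * (g * h * g⁻¹)
    calc g * h * g⁻¹ * (g * y * g⁻¹) = g * (h * y) * g⁻¹ := by group
      _ = g * (y * h) * g⁻¹ := by rw [h1]
      _ = g * y * g⁻¹ * (g * h * g⁻¹) := by group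
  exact Subgroup.eq_of_le_of_card_ge hle
    (by rw [Subgroup.card_map_of_injective (MulAut.conj g).injective])

/-- Let G be a finite group in which every non-identity element has nilpotent centralizer, and H a nilpotent subgroup not properly contained in any nilpotent subgroup. Then the order of H is coprime to its index; if the order of H is not a prime power then H ∩ gHg⁻¹ = 1 whenever gHg⁻¹ ≠ H; and if H ∩ gHg⁻¹ = 1 whenever gHg⁻¹ ≠ H, then C_G(x) ≤ H for every non-identity x ∈ H. -/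
theorem result {G : Type*} [Group G] [Finite G] (hCN : Cfsg.IsCNGroup G) (H : Subgroup G) (hH : Group.IsNilpotent H)
    (hmax : ∀ L : Subgroup G, Group.IsNilpotent L → H ≤ L → L = H) :
    (Nat.card H).Coprime H.index ∧
      (¬ IsPrimePow (Nat.card H) → Nat.card H ≠ 1 → ∀ g : G, H.map (MulAut.conj g).toMonoidHom ≠ H → H ⊓ H.map (MulAut.conj g).toMonoidHom = ⊥) ∧
      ((∀ g : G, H.map (MulAut.conj g).toMonoidHom ≠ H → H ⊓ H.map (MulAut.conj g).toMonoidHom = ⊥) → ∀ x ∈ H, x ≠ 1 → Subgroup.centralizer ({x} : Set G) ≤ H) := by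
  exact ⟨part1 hCN H hH hmax, fun hnpp hne1 g hg => part2 hCN H hH hmax hnpp hne1 g hg,
    fun hTI => part3 hCN H hH hmax hTI⟩

end Cfsg.Agent.S1477
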