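import Cfsg.Statements.S1474
import Mathlib
import Cfsg.Agent.S1473
import Cfsg.Agent.S1475
import Cfsg.Agent.S1477
import Cfsg.Agent.Lib.helper67.Frobenius
-- import your own Cfsg.Agent.* helpers here

set_option autoImplicit false
open Cfsg

namespace Cfsg.Agent.S1474

universe u

open scoped Pointwise

open Cfsg.Agent.S1473 (commute_of_prime_pow isPGroup_zpowers nilp_of_le)
open Cfsg.Agent.S1477 (sub_central sub_mem_sylow exists_central_sylow keyK exists_sylow_le)

/-- in a finite nilpotent group a `q`-element commutes with every element of order prime to `q` -/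
theorem commute_of_coprime {D : Type*} [Group D] [Finite D] [Group.IsNilpotent D] {q : ℕ}
    (hq : q.Prime) {a b : D} {k : ℕ} (ha : a ^ (q ^ k) = 1) (hb : (orderOf b).Coprime q) :
    a * b = b * a := by
  have hidx : ((Subgroup.centralizer ({a} : Set D)).subgroupOf (Subgroup.zpowers b)).index = 1 := by
    by_contra hne
    obtain ⟨s, hs, hsd⟩ := Nat.exists_prime_and_dvd hne
    have := Fact.mk hs
    obtain ⟨S⟩ : Nonempty (Sylow s (Subgroup.zpowers b)) := inferInstance
    refine S.not_dvd_index (hsd.trans (Subgroup.index_dvd_of_le ?_))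
    intro c hc
    obtain ⟨j, hj⟩ := S.isPGroup' ⟨c, hc⟩
    have hj' : c ^ (s ^ j) = 1 := congrArg Subtype.val hj
    have hj'' : (c : D) ^ (s ^ j) = 1 := congrArg Subtype.val hj'
    rw [Subgroup.mem_subgroupOf, Subgroup.mem_centralizer_singleton_iff]
    by_cases hsq : s = q
    · have h1 : orderOf (c : D) ∣ q ^ j := by
        rw [← hsq]
        exact orderOf_dvd_of_pow_eq_one hj''
      have h2 : orderOf (c : D) ∣ orderOf b := orderOf_dvd_of_mem_zpowers c.2
      have h3 : orderOf (c : D) = 1 := Nat.eq_one_of_dvd_coprimes (hb.pow_right j) h2 h1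
      rw [orderOf_eq_one_iff.mp h3, one_mul, mul_one]
    · exact (commute_of_prime_pow hq hs (Ne.symm hsq) ha hj'').symm
  have h := Subgroup.index_eq_one.mp hidx
  have hb' : (⟨b, Subgroup.mem_zpowers b⟩ : Subgroup.zpowers b) ∈
      (Subgroup.centralizer ({a} : Set D)).subgroupOf (Subgroup.zpowers b) :=
    h ▸ Subgroup.mem_top _
  exact (Subgroup.mem_centralizer_singleton_iff.mp (Subgroup.mem_subgroupOf.mp hb')).symm

theorem sub_commute_coprime {G : Type*} [Group G] [Finite G] {N : Subgroup G}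
    (hN : Group.IsNilpotent N) {q : ℕ} (hq : q.Prime) {a b : G} (ha : a ∈ N) (hb : b ∈ N)
    {k : ℕ} (hak : a ^ (q ^ k) = 1) (hbq : (orderOf b).Coprime q) : a * b = b * a :=
  congrArg Subtype.val (commute_of_coprime (D := N) hq (a := ⟨a, ha⟩) (b := ⟨b, hb⟩)
    (Subtype.ext hak) (by rw [Subgroup.orderOf_mk]; exact hbq))

/-- a finite group in which, for every prime `q`, the `q'`-elements form a normal subgroup is
nilpotent -/
theorem nilp_of_pprime {E : Type*} [Group E] [Finite E]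
    (h : ∀ q : ℕ, q.Prime → ∃ K : Subgroup E, K.Normal ∧ ∀ g : E, g ∈ K ↔ (orderOf g).Coprime q) :
    Group.IsNilpotent E := by
  classical
  have tfae := (Group.isNilpotent_of_finite_tfae (G := E)).out 0 3
  rw [tfae]
  intro q hq Q
  have hqp : q.Prime := hq.out
  choose K hKn hK using h
  have hLn : (⨅ s : {s : ℕ // s.Prime ∧ s ≠ q}, K s.1 s.2.1).Normal :=
    Subgroup.normal_iInf_normal (fun s => hKn s.1 s.2.1)
  have hLp : IsPGroup q (⨅ s : {s : ℕ // s.Prime ∧ s ≠ q}, K s.1 s.2.1 : Subgroup E) := by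
    rintro ⟨g, hg⟩
    have hg' : ∀ s : ℕ, s.Prime → s ≠ q → (orderOf g).Coprime s := by
      intro s hs hsq
      have h2 := (Subgroup.mem_iInf.mp hg) ⟨s, hs, hsq⟩
      exact (hK s hs g).mp h2
    have h1 := Nat.eq_prime_pow_of_unique_prime_dvd (orderOf_pos g).ne' (p := q)
      (fun {d} hd hdd => by
        by_contra hne
        have h3 := hg' d hd hne
        exact hd.ne_one (Nat.Coprime.eq_one_of_dvd h3.symm hdd))
    refine ⟨(orderOf g).primeFactorsList.length, Subtype.ext ?_⟩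
    show g ^ (q ^ (orderOf g).primeFactorsList.length) = 1
    rw [← h1]
    exact pow_orderOf_eq_one g
  have hQL : (Q : Subgroup E) ≤ ⨅ s : {s : ℕ // s.Prime ∧ s ≠ q}, K s.1 s.2.1 := by
    intro x hx
    rw [Subgroup.mem_iInf]
    rintro ⟨s, hs, hsq⟩
    rw [hK s hs x]
    obtain ⟨j, hj⟩ := Q.isPGroup' ⟨x, hx⟩
    have hj' : x ^ (q ^ j) = 1 := congrArg Subtype.val hj
    have h2 : orderOf x ∣ q ^ j := orderOf_dvd_of_pow_eq_one hj'
    exact Nat.Coprime.coprime_dvd_left h2
      (Nat.Coprime.pow_left j ((Nat.coprime_primes hqp hs).mpr (Ne.symm hsq)))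
  have h4 := Q.is_maximal' hLp hQL
  rw [← h4]
  exact hLn

theorem pow_conj_mem {G : Type*} [Group G] (K : Subgroup G) (t : G)
    (h : ∀ k ∈ K, t * k * t⁻¹ ∈ K) : ∀ i : ℕ, ∀ k ∈ K, t ^ i * k * (t ^ i)⁻¹ ∈ K := by
  intro i
  induction i with
  | zero => intro k hk; simpa using hk
  | succ i ih =>
    intro k hk
    have h1 : t ^ (i + 1) * k * (t ^ (i + 1))⁻¹ = t * (t ^ i * k * (t ^ i)⁻¹) * t⁻¹ := by
      rw [pow_succ']; group
    rw [h1]
    exact h _ (ih k hk)

/-- the basic properties of `fittingHall G` under the hypotheses of the statement -/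
theorem props {G : Type*} [Group G] [Finite G] (hCN : Cfsg.IsCNGroup G) (p : ℕ) [Fact p.Prime]
    (P : Sylow p G) (hP1 : (P : Subgroup G) ≠ ⊥) (hPn : (P : Subgroup G).Normal) :
    Group.IsNilpotent (Cfsg.fittingHall G) ∧
    (∀ L : Subgroup G, Group.IsNilpotent L → Cfsg.fittingHall G ≤ L → L = Cfsg.fittingHall G) ∧
    (Nat.card (Cfsg.fittingHall G)).Coprime (Cfsg.fittingHall G).index ∧
    (P : Subgroup G) ≤ Cfsg.fittingHall G := by
  have hp : p.Prime := Fact.out
  obtain ⟨z, hzP, hz1, hzc⟩ := exists_central_sylow P hP1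
  obtain ⟨kz, hkz⟩ := P.isPGroup' ⟨z, hzP⟩
  have hzpow : z ^ (p ^ kz) = 1 := congrArg Subtype.val hkz
  have hCnil : Group.IsNilpotent (Subgroup.centralizer ({z} : Set G)) := hCN z hz1
  -- a maximal nilpotent subgroup containing the centralizer of `z`
  obtain ⟨M, ⟨hMnil, hCM⟩, hMmin⟩ := wellFounded_gt.has_min
    {L : Subgroup G | Group.IsNilpotent L ∧ Subgroup.centralizer ({z} : Set G) ≤ L}
    ⟨_, hCnil, le_refl _⟩
  have hMmax : ∀ L : Subgroup G, Group.IsNilpotent L → M ≤ L → L = M := by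
    intro L hL hML
    by_contra hne
    exact hMmin L ⟨hL, hCM.trans hML⟩ (lt_of_le_of_ne hML (Ne.symm hne))
  have hPC : (P : Subgroup G) ≤ Subgroup.centralizer ({z} : Set G) :=
    fun y hy => Subgroup.mem_centralizer_singleton_iff.mpr (hzc y hy)
  have hPM : (P : Subgroup G) ≤ M := hPC.trans hCM
  have hzM : z ∈ M := hPM hzP
  have hMhall : (Nat.card M).Coprime M.index := Cfsg.Agent.S1477.part1 hCN M hMnil hMmax
  have hMnormal : M.Normal := by
    by_cases hpp : IsPrimePow (Nat.card M)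
    · obtain ⟨r, k, hr, hk, hrk⟩ := (isPrimePow_nat_iff _).mp hpp
      have hpM : p ∣ Nat.card M := by
        have h1 : p ∣ Nat.card (P : Subgroup G) := by
          rcases P.isPGroup'.card_eq_or_dvd with h2 | h2
          · exact absurd (Subgroup.card_eq_one.mp h2) hP1
          · exact h2
        exact h1.trans (Subgroup.card_dvd_of_le hPM)
      have hpr : p = r := by
        rw [← hrk] at hpM
        exact (Nat.prime_dvd_prime_iff_eq hp hr).mp (hp.dvd_of_dvd_pow hpM)
      have hMp : IsPGroup p M := IsPGroup.of_card (n := k) (by rw [hpr]; exact hrk.symm)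
      have h3 := P.is_maximal' hMp hPM
      rw [h3]
      exact hPn
    · have hM1 : Nat.card M ≠ 1 := by
        intro h1
        have h2 := Subgroup.card_eq_one.mp h1
        rw [h2, Subgroup.mem_bot] at hzM
        exact hz1 hzM
      have hTI := Cfsg.Agent.S1477.part2 hCN M hMnil hMmax hpp hM1
      have hmap : ∀ g : G, M.map (MulAut.conj g).toMonoidHom = M := by
        intro g
        by_contra hne
        have hbot := hTI g hne
        have hzmem : z ∈ M ⊓ M.map (MulAut.conj g).toMonoidHom := by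
          refine ⟨hzM, g⁻¹ * z * g, hPM ?_, ?_⟩
          · have h4 := hPn.conj_mem z hzP g⁻¹
            rwa [inv_inv] at h4
          · show g * (g⁻¹ * z * g) * g⁻¹ = z
            group
        rw [hbot, Subgroup.mem_bot] at hzmem
        exact hz1 hzmem
      constructor
      intro n hn g
      rw [← hmap g]
      exact ⟨n, hn, rfl⟩
  -- every normal nilpotent Hall subgroup centralizes `z`
  have hHC : Cfsg.fittingHall G ≤ Subgroup.centralizer ({z} : Set G) := by
    apply sSup_le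
    rintro N ⟨hNn, hNnil, hNcop⟩
    by_cases hpN : p ∣ Nat.card N
    · have hcopi : (N.index).Coprime p := by
        have h1 : (Nat.card N).Coprime N.index := hNcop
        exact (Nat.Coprime.coprime_dvd_left hpN h1).symm
      have hPN : (P : Subgroup G) ≤ N := by
        intro s hs
        obtain ⟨k, hk⟩ := P.isPGroup' ⟨s, hs⟩
        have hk' : s ^ p ^ k = 1 := congrArg Subtype.val hk
        have h1 : orderOf (QuotientGroup.mk' N s) ∣ p ^ k := by
          apply orderOf_dvd_of_pow_eq_one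
          rw [← map_pow, hk', map_one]
        have h2 : orderOf (QuotientGroup.mk' N s) ∣ Nat.card (G ⧸ N) := orderOf_dvd_natCard _
        have h5 : (Nat.card (G ⧸ N)).Coprime (p ^ k) := by
          rw [← Subgroup.index_eq_card]
          exact hcopi.pow_right k
        have h3 : orderOf (QuotientGroup.mk' N s) = 1 := Nat.eq_one_of_dvd_coprimes h5 h2 h1
        exact (QuotientGroup.eq_one_iff s).mp (orderOf_eq_one_iff.mp h3)
      have h6 := sub_central hNnil P hPN (hPN hzP) hzpow hzc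
      exact fun y hy => Subgroup.mem_centralizer_singleton_iff.mpr (h6 y hy)
    · intro n hn
      rw [Subgroup.mem_centralizer_singleton_iff]
      have h1 : n * z * n⁻¹ * z⁻¹ ∈ (P : Subgroup G) :=
        Subgroup.mul_mem _ (hPn.conj_mem z hzP n) (Subgroup.inv_mem _ hzP)
      have h2 : n * z * n⁻¹ * z⁻¹ ∈ N := by
        have h3 : n * z * n⁻¹ * z⁻¹ = n * (z * n⁻¹ * z⁻¹) := by group
        rw [h3]
        exact N.mul_mem hn (hNn.conj_mem _ (N.inv_mem hn) z)
      obtain ⟨k, hk⟩ := P.isPGroup' ⟨_, h1⟩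
      have hk' : (n * z * n⁻¹ * z⁻¹) ^ p ^ k = 1 := congrArg Subtype.val hk
      have h4 : orderOf (n * z * n⁻¹ * z⁻¹) ∣ p ^ k := orderOf_dvd_of_pow_eq_one hk'
      have h5 : orderOf (n * z * n⁻¹ * z⁻¹) ∣ Nat.card N := Subgroup.orderOf_dvd_natCard N h2
      have h6 : (Nat.card N).Coprime (p ^ k) :=
        Nat.Coprime.pow_right k (((Nat.Prime.coprime_iff_not_dvd hp).mpr hpN).symm)
      have h7 : n * z * n⁻¹ * z⁻¹ = 1 :=
        orderOf_eq_one_iff.mp (Nat.eq_one_of_dvd_coprimes h6 h5 h4)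
      calc n * z = n * z * n⁻¹ * z⁻¹ * (z * n) := by group
        _ = z * n := by rw [h7, one_mul]
  have hMH : M ≤ Cfsg.fittingHall G := le_sSup ⟨hMnormal, hMnil, hMhall⟩
  have hEq : Cfsg.fittingHall G = M := le_antisymm (hHC.trans hCM) hMH
  rw [hEq]
  exact ⟨hMnil, hMmax, hMhall, hPM⟩

theorem mem_conj_smul {G : Type*} [Group G] {E : Subgroup G} {g x : G} :
    x ∈ MulAut.conj g • E ↔ g⁻¹ * x * g ∈ E := by
  constructor
  · rintro ⟨y, hy, rfl⟩
    have h1 : g⁻¹ * (g * y * g⁻¹) * g = y := by group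
    show g⁻¹ * (g * y * g⁻¹) * g ∈ E
    rw [h1]
    exact hy
  · intro h
    refine ⟨g⁻¹ * x * g, h, ?_⟩
    show g * (g⁻¹ * x * g) * g⁻¹ = x
    group

theorem exists_central_pgroup {G : Type*} [Group G] [Finite G] {q : ℕ} [Fact q.Prime]
    (Q : Subgroup G) (hQ : IsPGroup q Q) (hne : Q ≠ ⊥) :
    ∃ z ∈ Q, z ≠ 1 ∧ ∀ y ∈ Q, y * z = z * y := by
  have hnt : Nontrivial Q := (Subgroup.nontrivial_iff_ne_bot _).mpr hne
  have hc := hQ.center_nontrivial
  obtain ⟨z, hz⟩ := exists_ne (1 : Subgroup.center Q)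
  refine ⟨((z : Q) : G), (z : Q).2, ?_, ?_⟩
  · intro h
    apply hz
    exact Subtype.ext (Subtype.ext h)
  · intro y hy
    have h := Subgroup.mem_center_iff.mp z.2 ⟨y, hy⟩
    exact congrArg Subtype.val h

theorem main_abs {G : Type u} [Group G] [Finite G] (hCN : Cfsg.IsCNGroup G)
    (hnn : ¬ Group.IsNilpotent G) (p : ℕ) [Fact p.Prime] (P : Sylow p G)
    (hP1 : (P : Subgroup G) ≠ ⊥) (hPn : (P : Subgroup G).Normal)
    (H : Subgroup G) [hHn : H.Normal] (hHnil : Group.IsNilpotent H)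
    (hHmax : ∀ L : Subgroup G, Group.IsNilpotent L → H ≤ L → L = H)
    (hHall : (Nat.card H).Coprime H.index) (hPH : (P : Subgroup G) ≤ H) :
    H ≠ ⊥ ∧ H ≠ ⊤ ∧
      (∃ E : Subgroup G, Subgroup.IsComplement' H E ∧ Cfsg.IsFrobeniusComplement E ∧
        ∀ e ∈ E, e ≠ 1 → H ⊓ Subgroup.centralizer ({e} : Set G) = ⊥) ∧
      Group.IsNilpotent (G ⧸ H) := by
  have hp : p.Prime := Fact.out
  have hHbot : H ≠ ⊥ := fun h => hP1 (le_bot_iff.mp (h ▸ hPH))
  have hHtop : H ≠ ⊤ := by
    intro h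
    apply hnn
    rw [h] at hHnil
    exact Group.isNilpotent_top.mp hHnil
  obtain ⟨E, hE⟩ := Subgroup.exists_right_complement'_of_coprime hHall
  have hdisj : ∀ x, x ∈ H → x ∈ E → x = 1 := fun x hxH hxE =>
    Subgroup.mem_bot.mp (hE.disjoint.le_bot ⟨hxH, hxE⟩)
  have hcardE : Nat.card E = H.index := by
    have h1 := hE.card_mul_card
    have h2 := Subgroup.card_mul_index H
    rw [← h2] at h1
    exact Nat.eq_of_mul_eq_mul_left Nat.card_pos h1
  have hcopHE : (Nat.card H).Coprime (Nat.card E) := by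
    rw [hcardE]
    exact hHall
  have hdecomp : ∀ g : G, ∃ h ∈ H, ∃ e ∈ E, h * e = g := fun g =>
    Subgroup.mem_sup_of_normal_left.mp (hE.sup_eq_top ▸ Subgroup.mem_top g)
  -- `E` acts fixed-point-freely on `H`
  have hfpf : ∀ e ∈ E, e ≠ 1 → ∀ h ∈ H, h * e = e * h → h = 1 := by
    intro e heE he1 h₀ hh₀H hcomm₀
    by_contra hh₀1
    have ho : orderOf h₀ ≠ 1 := fun h => hh₀1 (orderOf_eq_one_iff.mp h)
    obtain ⟨q, hq, hqd⟩ := Nat.exists_prime_and_dvd ho
    have := Fact.mk hq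
    have ho0 : orderOf h₀ ≠ 0 := (orderOf_pos h₀).ne'
    obtain ⟨h, hhdef⟩ : ∃ h, h = h₀ ^ (orderOf h₀ / q) := ⟨_, rfl⟩
    have hho : orderOf h = q := by
      rw [hhdef]
      exact orderOf_pow_orderOf_div ho0 hqd
    have hhH : h ∈ H := by
      rw [hhdef]
      exact H.pow_mem hh₀H _
    have hcomm : h * e = e * h := by
      rw [hhdef]
      exact ((show Commute h₀ e from hcomm₀).pow_left _).eq
    have hh1 : h ≠ 1 := by
      intro h1
      rw [h1, orderOf_one] at hho
      exact hq.ne_one hho.symm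
    have hqH : q ∣ Nat.card H := by
      rw [← hho]
      exact Subgroup.orderOf_dvd_natCard H hhH
    obtain ⟨Q, hQH⟩ := exists_sylow_le hCN H hHnil hHmax q hq hqH
    have hhq : h ^ (q ^ 1) = 1 := by
      rw [pow_one, ← hho]
      exact pow_orderOf_eq_one h
    have hhQ : h ∈ (Q : Subgroup G) := sub_mem_sylow hHnil Q hQH hhH hhq
    have hQne : (Q : Subgroup G) ≠ ⊥ := by
      intro h2
      rw [h2, Subgroup.mem_bot] at hhQ
      exact hh1 hhQ
    obtain ⟨z, hzQ, hz1, hzc⟩ := exists_central_sylow Q hQne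
    obtain ⟨j, hj⟩ := Q.isPGroup' ⟨z, hzQ⟩
    have hj' : z ^ (q ^ j) = 1 := congrArg Subtype.val hj
    have hzH : ∀ y ∈ H, y * z = z * y := sub_central hHnil Q hQH (hQH hzQ) hj' hzc
    have hCz : Subgroup.centralizer ({z} : Set G) = H := keyK hCN H hHmax hz1 hzH
    have hCnil : Group.IsNilpotent (Subgroup.centralizer ({h} : Set G)) := hCN h hh1
    have hzC : z ∈ Subgroup.centralizer ({h} : Set G) :=
      Subgroup.mem_centralizer_singleton_iff.mpr (hzc h hhQ).symm
    have heC : e ∈ Subgroup.centralizer ({h} : Set G) :=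
      Subgroup.mem_centralizer_singleton_iff.mpr hcomm.symm
    have hecop : (orderOf e).Coprime q := by
      have h3 : orderOf e ∣ Nat.card E := Subgroup.orderOf_dvd_natCard E heE
      exact Nat.Coprime.coprime_dvd_left h3 (Nat.Coprime.coprime_dvd_right hqH hcopHE.symm)
    have hze : z * e = e * z := sub_commute_coprime hCnil hq hzC heC hj' hecop
    have heH : e ∈ H := by
      rw [← hCz]
      exact Subgroup.mem_centralizer_singleton_iff.mpr hze.symm
    exact he1 (hdisj e heH heE)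
  have hEbot : E ≠ ⊥ := by
    intro h
    rw [h, Subgroup.card_bot] at hcardE
    exact hHtop (Subgroup.index_eq_one.mp hcardE.symm)
  have hEtop : E ≠ ⊤ := by
    intro h
    apply hHbot
    rw [Subgroup.eq_bot_iff_forall]
    intro x hx
    exact hdisj x hx (h ▸ Subgroup.mem_top x)
  have hFrob : Cfsg.IsFrobeniusComplement E := by
    refine ⟨hEbot, hEtop, ?_⟩
    intro g hg
    rw [Subgroup.eq_bot_iff_forall]
    rintro x ⟨hxE, hxg⟩
    have hy : g⁻¹ * x * g ∈ E := mem_conj_smul.mp hxg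
    obtain ⟨h, hhH, e₀, he₀, hhe⟩ := hdecomp g
    have hh1 : h ≠ 1 := by
      rintro rfl
      rw [one_mul] at hhe
      exact hg (hhe ▸ he₀)
    obtain ⟨y', hy'def⟩ : ∃ y', y' = e₀ * (g⁻¹ * x * g) * e₀⁻¹ := ⟨_, rfl⟩
    have hy' : y' ∈ E := by
      rw [hy'def]
      exact E.mul_mem (E.mul_mem he₀ hy) (E.inv_mem he₀)
    have hxy : x = h * y' * h⁻¹ := by
      rw [hy'def, ← hhe]; group
    have h1 : x * y'⁻¹ ∈ H := by
      have h2 : x * y'⁻¹ = h * (y' * h⁻¹ * y'⁻¹) := by
        calc x * y'⁻¹ = h * y' * h⁻¹ * y'⁻¹ := by rw [← hxy]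
          _ = h * (y' * h⁻¹ * y'⁻¹) := by group
      rw [h2]
      exact H.mul_mem hhH (hHn.conj_mem _ (H.inv_mem hhH) _)
    have h3 : x * y'⁻¹ = 1 := hdisj _ h1 (E.mul_mem hxE (E.inv_mem hy'))
    have h4 : x = y' := mul_inv_eq_one.mp h3
    have h5 : h * x = x * h := by
      have h6 : x = h * x * h⁻¹ := by
        conv_lhs => rw [hxy, ← h4]
      calc h * x = h * x * h⁻¹ * h := by group
        _ = x * h := by rw [← h6]
    by_contra hx1
    exact hh1 (hfpf x hxE hx1 h hhH h5)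
  have hfpf' : ∀ e ∈ E, e ≠ 1 → H ⊓ Subgroup.centralizer ({e} : Set G) = ⊥ := by
    intro e heE he1
    rw [Subgroup.eq_bot_iff_forall]
    rintro x ⟨hxH, hxC⟩
    exact hfpf e heE he1 x hxH (Subgroup.mem_centralizer_singleton_iff.mp hxC)
  refine ⟨hHbot, hHtop, ⟨E, hE, hFrob, hfpf'⟩, ?_⟩
  -- nilpotency of the complement
  obtain ⟨z, hzP, hz1, hzc⟩ := exists_central_sylow P hP1
  have hVn : ((P : Subgroup G) ⊓ Subgroup.centralizer ((P : Subgroup G) : Set G)).Normal :=
    inferInstance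
  have hVab : ∀ a ∈ (P : Subgroup G) ⊓ Subgroup.centralizer ((P : Subgroup G) : Set G),
      ∀ b ∈ (P : Subgroup G) ⊓ Subgroup.centralizer ((P : Subgroup G) : Set G), a * b = b * a := by
    intro a ha b hb
    exact (Subgroup.mem_centralizer_iff.mp hb.2 a ha.1)
  have hVH : (P : Subgroup G) ⊓ Subgroup.centralizer ((P : Subgroup G) : Set G) ≤ H :=
    inf_le_left.trans hPH
  have hzV : z ∈ (P : Subgroup G) ⊓ Subgroup.centralizer ((P : Subgroup G) : Set G) :=
    ⟨hzP, Subgroup.mem_centralizer_iff.mpr (fun y hy => hzc y hy)⟩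
  -- (★) for abelian `q`-subgroups
  have star1 : ∀ (q : ℕ), q.Prime → ∀ Q₀ : Subgroup G, Q₀ ≤ E → IsPGroup q Q₀ →
      (∀ a ∈ Q₀, ∀ b ∈ Q₀, a * b = b * a) → ∀ t ∈ E, (orderOf t).Coprime q →
      (∀ k ∈ Q₀, t * k * t⁻¹ ∈ Q₀) → ∀ k ∈ Q₀, t * k = k * t := by
    intro q hq Q₀ hQ₀E hQ₀ hQ₀ab t htE htcop htN
    by_contra hcon
    push Not at hcon
    obtain ⟨k₁, hk₁, hk₁t⟩ := hcon
    have ht1 : t ≠ 1 := by
      rintro rfl
      exact hk₁t (by rw [one_mul, mul_one])
    have hQ₀ne : Q₀ ≠ ⊥ := by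
      intro h
      rw [h, Subgroup.mem_bot] at hk₁
      exact hk₁t (by rw [hk₁, one_mul, mul_one])
    have hqel : ∀ k ∈ Q₀, ∃ j : ℕ, k ^ (q ^ j) = 1 := by
      intro k hk
      obtain ⟨j, hj⟩ := hQ₀ ⟨k, hk⟩
      exact ⟨j, congrArg Subtype.val hj⟩
    have hker : ∀ i : ℕ, t ^ i ≠ 1 → ¬ ∀ k ∈ Q₀, t ^ i * k = k * t ^ i := by
      intro i hi hall
      have hCnil : Group.IsNilpotent (Subgroup.centralizer ({t ^ i} : Set G)) := hCN _ hi
      have htC : t ∈ Subgroup.centralizer ({t ^ i} : Set G) :=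
        Subgroup.mem_centralizer_singleton_iff.mpr ((Commute.refl t).pow_right i).eq
      have hk₁C : k₁ ∈ Subgroup.centralizer ({t ^ i} : Set G) :=
        Subgroup.mem_centralizer_singleton_iff.mpr (hall k₁ hk₁).symm
      obtain ⟨j, hj⟩ := hqel k₁ hk₁
      exact hk₁t (sub_commute_coprime hCnil hq hk₁C htC hj htcop).symm
    have hfK : ∀ i : ℕ, t ^ i ≠ 1 → ∀ k ∈ Q₀, t ^ i * k = k * t ^ i → k = 1 := by
      intro i hi k hk hcomm
      by_contra hk1
      have hCnil : Group.IsNilpotent (Subgroup.centralizer ({k} : Set G)) := hCN _ hk1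
      have htiC : t ^ i ∈ Subgroup.centralizer ({k} : Set G) :=
        Subgroup.mem_centralizer_singleton_iff.mpr hcomm
      apply hker i hi
      intro k' hk'
      have hk'C : k' ∈ Subgroup.centralizer ({k} : Set G) :=
        Subgroup.mem_centralizer_singleton_iff.mpr (hQ₀ab k' hk' k hk)
      obtain ⟨j, hj⟩ := hqel k' hk'
      have hcop' : (orderOf (t ^ i)).Coprime q :=
        Nat.Coprime.coprime_dvd_left (orderOf_pow_dvd i) htcop
      exact (sub_commute_coprime hCnil hq hk'C htiC hj hcop').symm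
    let hVcomm : CommGroup ((P : Subgroup G) ⊓ Subgroup.centralizer ((P : Subgroup G) : Set G) :
        Subgroup G) :=
      { (inferInstance : Group ((P : Subgroup G) ⊓
            Subgroup.centralizer ((P : Subgroup G) : Set G) : Subgroup G)) with
        mul_comm := fun x y => Subtype.ext (hVab x x.2 y y.2) }
    have hF := Cfsg.Agent.S1475.lemmaF
      (V := ((P : Subgroup G) ⊓ Subgroup.centralizer ((P : Subgroup G) : Set G) : Subgroup G))
      (Γ := G) (MulAut.conjNormal
        (H := (P : Subgroup G) ⊓ Subgroup.centralizer ((P : Subgroup G) : Set G)))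
      Q₀ t hQ₀ne (pow_conj_mem Q₀ t htN) hfK ?_ ?_ ?_
    · exact hz1 (congrArg Subtype.val (hF ⟨z, hzV⟩))
    · intro k hk hk1 v hv
      have hv' : k * (v : G) * k⁻¹ = (v : G) := by
        have h4 := congrArg Subtype.val hv
        simpa [MulAut.conjNormal_apply] using h4
      have hcomm : (v : G) * k = k * (v : G) := by
        calc (v : G) * k = k * (v : G) * k⁻¹ * k := by rw [hv']
          _ = k * (v : G) := by group
      exact Subtype.ext (hfpf k (hQ₀E hk) hk1 (v : G) (hVH v.2) hcomm)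
    · intro v hv
      have hv' : t * (v : G) * t⁻¹ = (v : G) := by
        have h4 := congrArg Subtype.val hv
        simpa [MulAut.conjNormal_apply] using h4
      have hcomm : (v : G) * t = t * (v : G) := by
        calc (v : G) * t = t * (v : G) * t⁻¹ * t := by rw [hv']
          _ = t * (v : G) := by group
      exact Subtype.ext (hfpf t htE ht1 (v : G) (hVH v.2) hcomm)
    · have h5 : Nat.card Q₀ ∣ Nat.card E := Subgroup.card_dvd_of_le hQ₀E
      have h6 : Nat.card ((P : Subgroup G) ⊓ Subgroup.centralizer ((P : Subgroup G) : Set G) :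
          Subgroup G) ∣ Nat.card H := Subgroup.card_dvd_of_le hVH
      exact Nat.Coprime.coprime_dvd_left h5 (Nat.Coprime.coprime_dvd_right h6 hcopHE.symm)
  -- (★★) for arbitrary `q`-subgroups
  have star2 : ∀ (q : ℕ), q.Prime → ∀ Q₀ : Subgroup G, Q₀ ≤ E → IsPGroup q Q₀ →
      ∀ t ∈ E, (orderOf t).Coprime q → (∀ k ∈ Q₀, t * k * t⁻¹ ∈ Q₀) →
      (∀ k ∈ Q₀, t⁻¹ * k * t ∈ Q₀) → ∀ k ∈ Q₀, t * k = k * t := by
    intro q hq Q₀ hQ₀E hQ₀ t htE htcop htN htN'
    have := Fact.mk hq
    by_cases hQ₀ne : Q₀ = ⊥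
    · intro k hk
      rw [hQ₀ne, Subgroup.mem_bot] at hk
      rw [hk, one_mul, mul_one]
    · have hZab : ∀ a ∈ Q₀ ⊓ Subgroup.centralizer (Q₀ : Set G),
          ∀ b ∈ Q₀ ⊓ Subgroup.centralizer (Q₀ : Set G), a * b = b * a := by
        intro a ha b hb
        exact (Subgroup.mem_centralizer_iff.mp hb.2 a ha.1)
      have hZN : ∀ k ∈ Q₀ ⊓ Subgroup.centralizer (Q₀ : Set G),
          t * k * t⁻¹ ∈ Q₀ ⊓ Subgroup.centralizer (Q₀ : Set G) := by
        intro k hk
        refine ⟨htN k hk.1, ?_⟩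
        show t * k * t⁻¹ ∈ Subgroup.centralizer (Q₀ : Set G)
        rw [Subgroup.mem_centralizer_iff]
        intro y hy
        have h1 := Subgroup.mem_centralizer_iff.mp hk.2 (t⁻¹ * y * t) (htN' y hy)
        calc y * (t * k * t⁻¹) = t * ((t⁻¹ * y * t) * k) * t⁻¹ := by group
          _ = t * (k * (t⁻¹ * y * t)) * t⁻¹ := by rw [h1]
          _ = t * k * t⁻¹ * y := by group
      have hZ := star1 q hq (Q₀ ⊓ Subgroup.centralizer (Q₀ : Set G)) (inf_le_left.trans hQ₀E)
        (hQ₀.to_le inf_le_left) hZab t htE htcop hZN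
      obtain ⟨z₀, hz₀Q, hz₀1, hz₀c⟩ := exists_central_pgroup Q₀ hQ₀ hQ₀ne
      have hz₀Z : z₀ ∈ Q₀ ⊓ Subgroup.centralizer (Q₀ : Set G) :=
        ⟨hz₀Q, Subgroup.mem_centralizer_iff.mpr (fun y hy => hz₀c y hy)⟩
      have hCnil : Group.IsNilpotent (Subgroup.centralizer ({z₀} : Set G)) := hCN _ hz₀1
      have htC : t ∈ Subgroup.centralizer ({z₀} : Set G) :=
        Subgroup.mem_centralizer_singleton_iff.mpr (hZ z₀ hz₀Z)
      intro k hk
      have hkC : k ∈ Subgroup.centralizer ({z₀} : Set G) :=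
        Subgroup.mem_centralizer_singleton_iff.mpr (hz₀c k hk)
      obtain ⟨j, hj⟩ := hQ₀ ⟨k, hk⟩
      have hj' : k ^ (q ^ j) = 1 := congrArg Subtype.val hj
      exact (sub_commute_coprime hCnil hq hkC htC hj' htcop).symm
  have hEnil : Group.IsNilpotent E := by
    apply nilp_of_pprime
    intro q hq
    have := Fact.mk hq
    have hFC : Cfsg.Agent.Lib.helper67.FrobCond q E := by
      intro Q hQ g hg hcop
      have hQ₀ : IsPGroup q (Q.map E.subtype) := hQ.map E.subtype
      have hQ₀E : Q.map E.subtype ≤ E := by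
        rintro _ ⟨k, -, rfl⟩
        exact k.2
      have hgcop : (orderOf (g : G)).Coprime q := by
        rw [Subgroup.orderOf_coe]
        exact hcop
      have hfw : ∀ k ∈ Q.map E.subtype, (g : G) * k * (g : G)⁻¹ ∈ Q.map E.subtype := by
        rintro _ ⟨k, hk, rfl⟩
        exact ⟨g * k * g⁻¹, (Subgroup.mem_normalizer_iff.mp hg k).mp hk, rfl⟩
      have hbw : ∀ k ∈ Q.map E.subtype, (g : G)⁻¹ * k * (g : G) ∈ Q.map E.subtype := by
        rintro _ ⟨k, hk, rfl⟩
        refine ⟨g⁻¹ * k * g, (Subgroup.mem_normalizer_iff.mp hg (g⁻¹ * k * g)).mpr ?_, rfl⟩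
        have h1 : g * (g⁻¹ * k * g) * g⁻¹ = k := by group
        rw [h1]
        exact hk
      have h2 := star2 q hq (Q.map E.subtype) hQ₀E hQ₀ (g : G) g.2 hgcop hfw hbw
      rw [Subgroup.mem_centralizer_iff]
      intro k hk
      exact Subtype.ext (h2 (k : G) ⟨k, hk, rfl⟩).symm
    exact hFC.exists_normal_pprime
  have hsurj : Function.Surjective ((QuotientGroup.mk' H).comp E.subtype) := by
    intro gbar
    obtain ⟨g, rfl⟩ := QuotientGroup.mk'_surjective H gbar
    obtain ⟨h, hhH, e, heE, rfl⟩ := hdecomp g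
    refine ⟨⟨e, heE⟩, ?_⟩
    have h1 : QuotientGroup.mk' H h = 1 := (QuotientGroup.eq_one_iff h).mpr hhH
    rw [map_mul, h1, one_mul]
    rfl
  exact Group.nilpotent_of_surjective _ hsurj

/-- Let G be a finite group in which every non-identity element has nilpotent centralizer, not itself nilpotent, and having a nontrivial normal Sylow p-subgroup for some prime p. Let H be the largest normal nilpotent Hall subgroup of G. Then H is a nontrivial proper normal subgroup with a complement E that is a Frobenius complement in G (no non-identity element of E centralizes a non-identity element of H), and G/H is nilpotent. -/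
theorem result {G : Type*} [Group G] [Finite G] (hCN : Cfsg.IsCNGroup G) (hnn : ¬ Group.IsNilpotent G) (p : ℕ) [Fact p.Prime] (P : Sylow p G)
    (hP1 : (P : Subgroup G) ≠ ⊥) (hPn : (P : Subgroup G).Normal) :
    Cfsg.fittingHall G ≠ ⊥ ∧ Cfsg.fittingHall G ≠ ⊤ ∧
      (∃ E : Subgroup G, Subgroup.IsComplement' (Cfsg.fittingHall G) E ∧ Cfsg.IsFrobeniusComplement E ∧
        ∀ e ∈ E, e ≠ 1 → Cfsg.fittingHall G ⊓ Subgroup.centralizer ({e} : Set G) = ⊥) ∧
      Group.IsNilpotent (G ⧸ Cfsg.fittingHall G) := by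
  obtain ⟨h1, h2, h3, h4⟩ := props hCN p P hP1 hPn
  exact main_abs hCN hnn p P hP1 hPn (Cfsg.fittingHall G) h1 h2 h3 h4

end Cfsg.Agent.S1474
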