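import Cfsg.Statements.S1461
import Mathlib
import Cfsg.Agent.Lib.helper40.Cores
-- import your own Cfsg.Agent.* helpers here

set_option autoImplicit false
open Cfsg

namespace Cfsg.Agent.S1461

open scoped commutatorElement

theorem ups0 (p : ℕ) (G : Type*) [Group G] : (upperPSeries p G 0).1 = ⊥ := rfl

theorem ups1 (p : ℕ) (G : Type*) [Group G] : (upperPSeries p G 1).1 =
    (pPrimeCore p (G ⧸ (upperPSeries p G 0).1)).comap
      (QuotientGroup.mk' (upperPSeries p G 0).1) := rfl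

theorem ups2 (p : ℕ) (G : Type*) [Group G] : (upperPSeries p G 2).1 =
    (pCore p (G ⧸ (upperPSeries p G 1).1)).comap
      (QuotientGroup.mk' (upperPSeries p G 1).1) := rfl

theorem ups3 (p : ℕ) (G : Type*) [Group G] : (upperPSeries p G 3).1 =
    (pPrimeCore p (G ⧸ (upperPSeries p G 2).1)).comap
      (QuotientGroup.mk' (upperPSeries p G 2).1) := rfl

theorem eq_one_of_mem {G : Type*} [Group G] [Finite G] {p : ℕ} [Fact p.Prime] (S : Sylow p G)
    (K : Subgroup G) (hK : (Nat.card K).Coprime p) {x : G} (hxS : x ∈ (S : Subgroup G))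
    (hxK : x ∈ K) : x = 1 := by
  obtain ⟨k, hk⟩ := S.isPGroup' ⟨x, hxS⟩
  have hk' : x ^ p ^ k = 1 := congrArg Subtype.val hk
  have h1 : orderOf x ∣ p ^ k := orderOf_dvd_of_pow_eq_one hk'
  have h2 : orderOf x ∣ Nat.card K := Subgroup.orderOf_dvd_natCard K hxK
  have h3 : orderOf x = 1 := Nat.eq_one_of_dvd_coprimes (hK.pow_right k) h2 h1
  exact orderOf_eq_one_iff.mp h3

theorem key {G : Type*} [Group G] [Finite G] {p : ℕ} [Fact p.Prime] (S : Sylow p G)
    (K : Subgroup G) [hKn : K.Normal] (hK : (Nat.card K).Coprime p) {k y : G} (hk : k ∈ K)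
    (hy : y ∈ (S : Subgroup G)) (hky : k * y * k⁻¹ ∈ (S : Subgroup G)) : k * y = y * k := by
  have h1 : k * y * k⁻¹ * y⁻¹ ∈ (S : Subgroup G) := mul_mem hky (inv_mem hy)
  have h2 : k * y * k⁻¹ * y⁻¹ ∈ K := by
    have : k * y * k⁻¹ * y⁻¹ = k * (y * k⁻¹ * y⁻¹) := by group
    rw [this]
    exact K.mul_mem hk (hKn.conj_mem _ (K.inv_mem hk) y)
  have h3 := eq_one_of_mem S K hK h1 h2
  calc k * y = k * y * k⁻¹ * y⁻¹ * (y * k) := by group
    _ = y * k := by rw [h3, one_mul]

theorem frattini_aux {G : Type*} [Group G] [Finite G] (p : ℕ) [Fact p.Prime] (S : Sylow p G)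
    (K L : Subgroup G) [K.Normal] [L.Normal]
    (hL : L = (pCore p (G ⧸ K)).comap (QuotientGroup.mk' K))
    (hGL : pPrimeCore p (G ⧸ L) = ⊤) :
    Subgroup.normalizer ((S : Subgroup G) : Set G) ⊔ K = ⊤ := by
  have hcopL : (Nat.card (G ⧸ L)).Coprime p := by
    have h7 := Cfsg.Agent.Lib.helper40.pPrimeCore_card_coprime p (G ⧸ L)
    rw [hGL, Subgroup.card_top] at h7
    exact h7
  have hSL : (S : Subgroup G) ≤ L := by
    intro s hs
    obtain ⟨k, hk⟩ := S.isPGroup' ⟨s, hs⟩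
    have hk' : s ^ p ^ k = 1 := congrArg Subtype.val hk
    have h1 : orderOf (QuotientGroup.mk' L s) ∣ p ^ k := by
      apply orderOf_dvd_of_pow_eq_one
      rw [← map_pow, hk', map_one]
    have h2 : orderOf (QuotientGroup.mk' L s) ∣ Nat.card (G ⧸ L) := orderOf_dvd_natCard _
    have h3 : orderOf (QuotientGroup.mk' L s) = 1 :=
      Nat.eq_one_of_dvd_coprimes (hcopL.pow_right k) h2 h1
    exact (QuotientGroup.eq_one_iff s).mp (orderOf_eq_one_iff.mp h3)
  have hfr : Subgroup.normalizer ((S : Subgroup G) : Set G) ⊔ L = ⊤ :=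
    Sylow.normalizer_sup_eq_top' S hSL
  have hLSK : L ≤ (S : Subgroup G) ⊔ K := by
    rw [← Subgroup.relIndex_eq_one]
    have hKL : K.relIndex L = Nat.card (L.map (QuotientGroup.mk' K)) := by
      have := Subgroup.relIndex_ker (K := L) (QuotientGroup.mk' K)
      rwa [QuotientGroup.ker_mk'] at this
    have hmap : L.map (QuotientGroup.mk' K) = pCore p (G ⧸ K) := by
      rw [hL]
      exact Subgroup.map_comap_eq_self_of_surjective (QuotientGroup.mk'_surjective _) _
    obtain ⟨n, hn⟩ := IsPGroup.iff_card.mp (Cfsg.Agent.Lib.helper40.pCore_isPGroup p (G ⧸ K))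
    have h1 : ((S : Subgroup G) ⊔ K).relIndex L ∣ p ^ n := by
      rw [← hn, ← hmap, ← hKL]
      exact Subgroup.relIndex_dvd_of_le_left L le_sup_right
    have h2 : ((S : Subgroup G) ⊔ K).relIndex L ∣ (S : Subgroup G).index :=
      (Subgroup.relIndex_dvd_of_le_left L le_sup_left).trans
        (Subgroup.relIndex_dvd_index_of_le hSL)
    obtain ⟨m, -, hm⟩ := (Nat.dvd_prime_pow Fact.out).mp h1
    have hm0 : m = 0 := by
      by_contra hne
      apply S.not_dvd_index
      refine dvd_trans ?_ h2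
      rw [hm]
      exact dvd_pow_self p hne
    rw [hm, hm0, pow_zero]
  rw [eq_top_iff, ← hfr]
  apply sup_le le_sup_left
  exact hLSK.trans (sup_le (Subgroup.le_normalizer.trans le_sup_left) le_sup_right)

theorem exists_K {G : Type*} [Group G] [Finite G] (p : ℕ) [Fact p.Prime]
    (hpl : PLengthLE p 1 G) (S : Sylow p G) :
    ∃ K : Subgroup G, K.Normal ∧ (Nat.card K).Coprime p ∧
      Subgroup.normalizer ((S : Subgroup G) : Set G) ⊔ K = ⊤ := by
  have h3 : (upperPSeries p G 3).1 = ⊤ := hpl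
  refine ⟨(upperPSeries p G 1).1, inferInstance, ?_, ?_⟩
  · have hinj : Function.Injective (QuotientGroup.mk' (upperPSeries p G 0).1) := by
      rw [← MonoidHom.ker_eq_bot_iff, QuotientGroup.ker_mk']
      rfl
    have hdvd : Nat.card (upperPSeries p G 1).1 ∣
        Nat.card (pPrimeCore p (G ⧸ (upperPSeries p G 0).1)) := by
      rw [ups1]
      exact Subgroup.card_dvd_of_injective ((QuotientGroup.mk' _).subgroupComap _) (by
        intro a b hab
        exact Subtype.ext (hinj (congrArg Subtype.val hab)))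
    exact Nat.Coprime.coprime_dvd_left hdvd
      (Cfsg.Agent.Lib.helper40.pPrimeCore_card_coprime p _)
  · refine frattini_aux p S (upperPSeries p G 1).1 (upperPSeries p G 2).1 (ups2 p G) ?_
    have h5 := ups3 p G
    rw [h3] at h5
    have h6 := congrArg (Subgroup.map (QuotientGroup.mk' (upperPSeries p G 2).1)) h5
    rw [Subgroup.map_comap_eq_self_of_surjective (QuotientGroup.mk'_surjective _),
      Subgroup.map_top_of_surjective _ (QuotientGroup.mk'_surjective _)] at h6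
    exact h6.symm

theorem exists_mul {G : Type*} [Group G] {N K : Subgroup G} [K.Normal] (h : N ⊔ K = ⊤) (x : G) :
    ∃ n ∈ N, ∃ k ∈ K, n * k = x :=
  Subgroup.mem_sup_of_normal_right.mp (h ▸ Subgroup.mem_top x)

theorem partB {G : Type*} [Group G] [Finite G] (p : ℕ) [Fact p.Prime] (S : Sylow p G)
    (K : Subgroup G) [K.Normal] (hK : (Nat.card K).Coprime p)
    (hNK : Subgroup.normalizer ((S : Subgroup G) : Set G) ⊔ K = ⊤) (Y : Set G) (x : G)
    (hY : Y ⊆ (S : Subgroup G)) (hx : (fun y => x * y * x⁻¹) '' Y ⊆ (S : Subgroup G)) :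
    ∃ g ∈ Subgroup.normalizer ((S : Subgroup G) : Set G), ∃ c ∈ Subgroup.centralizer Y,
      g * c = x := by
  obtain ⟨n, hn, k, hk, rfl⟩ := exists_mul hNK x
  refine ⟨n, hn, k, ?_, rfl⟩
  rw [Subgroup.mem_centralizer_iff]
  intro y hy
  have h1 : (n * k) * y * (n * k)⁻¹ ∈ (S : Subgroup G) := hx ⟨y, hy, rfl⟩
  have h2 : k * y * k⁻¹ ∈ (S : Subgroup G) := by
    rw [Subgroup.mem_normalizer_iff.mp hn (k * y * k⁻¹)]
    have : n * (k * y * k⁻¹) * n⁻¹ = (n * k) * y * (n * k)⁻¹ := by group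
    rw [this]
    exact h1
  exact (key S K hK hk (hY hy) h2).symm

theorem partC {G : Type*} [Group G] [Finite G] (p : ℕ) [Fact p.Prime] (S : Sylow p G)
    (K : Subgroup G) [K.Normal] (hK : (Nat.card K).Coprime p)
    (hNK : Subgroup.normalizer ((S : Subgroup G) : Set G) ⊔ K = ⊤) (Q : Subgroup G)
    (hQ : IsPGroup p Q) :
    ∃ x ∈ Subgroup.centralizer ((Q ⊓ (S : Subgroup G) : Subgroup G) : Set G),
      Q.map (MulAut.conj x).toMonoidHom ≤ (S : Subgroup G) := by
  obtain ⟨S', hQS'⟩ := hQ.exists_le_sylow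
  obtain ⟨g, hg⟩ := MulAction.exists_smul_eq G S' S
  have hgq : ∀ q ∈ Q, g * q * g⁻¹ ∈ (S : Subgroup G) := by
    intro q hq
    rw [← hg, Sylow.coe_subgroup_smul]
    exact ⟨q, hQS' hq, rfl⟩
  obtain ⟨n, hn, k, hk, hnk⟩ := exists_mul hNK g
  have hkq : ∀ q ∈ Q, k * q * k⁻¹ ∈ (S : Subgroup G) := by
    intro q hq
    rw [Subgroup.mem_normalizer_iff.mp hn (k * q * k⁻¹)]
    have : n * (k * q * k⁻¹) * n⁻¹ = (n * k) * q * (n * k)⁻¹ := by group
    rw [this, hnk]
    exact hgq q hq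
  refine ⟨k, ?_, ?_⟩
  · rw [Subgroup.mem_centralizer_iff]
    intro y hy
    exact (key S K hK hk hy.2 (hkq y hy.1)).symm
  · rintro _ ⟨q, hq, rfl⟩
    exact hkq q hq

theorem comm_le {G : Type*} [Group G] (N : Subgroup G) : ⁅N, N⁆ ≤ N := by
  rw [Subgroup.commutator_le]
  intro a ha b hb
  rw [commutatorElement_def]
  exact N.mul_mem (N.mul_mem (N.mul_mem ha hb) (N.inv_mem ha)) (N.inv_mem hb)

theorem partA {G : Type*} [Group G] [Finite G] (p : ℕ) [Fact p.Prime] (S : Sylow p G)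
    (K : Subgroup G) [hKn : K.Normal] (hK : (Nat.card K).Coprime p)
    (hNK : Subgroup.normalizer ((S : Subgroup G) : Set G) ⊔ K = ⊤)
    (hS : (S : Subgroup G) ≤ commutator G) :
    (S : Subgroup G) ≤ ⁅Subgroup.normalizer ((S : Subgroup G) : Set G),
      Subgroup.normalizer ((S : Subgroup G) : Set G)⁆ := by
  set N := Subgroup.normalizer ((S : Subgroup G) : Set G) with hN
  have h1 : commutator G ≤ ⁅N, N⁆ ⊔ K := by
    rw [commutator_def, Subgroup.commutator_le]
    intro g1 _ g2 _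
    obtain ⟨n1, hn1, k1, hk1, rfl⟩ := exists_mul hNK g1
    obtain ⟨n2, hn2, k2, hk2, rfl⟩ := exists_mul hNK g2
    have h2 : ⁅n1, n2⁆⁻¹ * ⁅n1 * k1, n2 * k2⁆ ∈ K := by
      rw [← QuotientGroup.eq_one_iff]
      have e1 : ((k1 : G) : G ⧸ K) = 1 := (QuotientGroup.eq_one_iff k1).mpr hk1
      have e2 : ((k2 : G) : G ⧸ K) = 1 := (QuotientGroup.eq_one_iff k2).mpr hk2
      simp only [commutatorElement_def, QuotientGroup.mk_mul, QuotientGroup.mk_inv, e1, e2,
        mul_one]
      group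
    have h3 : ⁅n1 * k1, n2 * k2⁆ = ⁅n1, n2⁆ * (⁅n1, n2⁆⁻¹ * ⁅n1 * k1, n2 * k2⁆) := by group
    rw [h3]
    exact Subgroup.mul_mem_sup (Subgroup.commutator_mem_commutator hn1 hn2) h2
  intro s hs
  obtain ⟨a, ha, k, hk, hak⟩ := Subgroup.mem_sup_of_normal_right.mp (h1 (hS hs))
  have haN : a ∈ N := comm_le N ha
  have hsN : s ∈ N := Subgroup.le_normalizer hs
  have hkN : k ∈ N := by
    have : k = a⁻¹ * s := by rw [← hak]; group
    rw [this]
    exact N.mul_mem (N.inv_mem haN) hsN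
  have hmap : (commutator N).map N.subtype = ⁅N, N⁆ := by
    rw [commutator_def, Subgroup.map_commutator, ← MonoidHom.range_eq_map, Subgroup.range_subtype]
  have ha' : (⟨a, haN⟩ : N) ∈ commutator N := by
    rw [← hmap] at ha
    obtain ⟨a', ha', haa⟩ := ha
    have : a' = ⟨a, haN⟩ := Subtype.ext haa
    rwa [this] at ha'
  have hφa : (Abelianization.of : N →* Abelianization N) ⟨a, haN⟩ = 1 := by
    rw [← MonoidHom.mem_ker, Abelianization.ker_of]
    exact ha'
  have hφ : (Abelianization.of : N →* Abelianization N) ⟨s, hsN⟩ =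
      (Abelianization.of : N →* Abelianization N) ⟨k, hkN⟩ := by
    have : (⟨s, hsN⟩ : N) = ⟨a, haN⟩ * ⟨k, hkN⟩ := Subtype.ext hak.symm
    rw [this, map_mul, hφa, one_mul]
  obtain ⟨j, hj⟩ := S.isPGroup' ⟨s, hs⟩
  have hj' : s ^ p ^ j = 1 := congrArg Subtype.val hj
  have ho1 : orderOf ((Abelianization.of : N →* Abelianization N) ⟨s, hsN⟩) ∣ p ^ j := by
    apply orderOf_dvd_of_pow_eq_one
    rw [← map_pow]
    have : (⟨s, hsN⟩ : N) ^ p ^ j = 1 := Subtype.ext (by simpa using hj')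
    rw [this, map_one]
  have ho2 : orderOf ((Abelianization.of : N →* Abelianization N) ⟨s, hsN⟩) ∣ Nat.card K := by
    rw [hφ]
    apply orderOf_dvd_of_pow_eq_one
    rw [← map_pow]
    have hk2 : k ^ Nat.card K = 1 := by
      have := pow_card_eq_one' (G := K) (x := ⟨k, hk⟩)
      exact congrArg Subtype.val this
    have : (⟨k, hkN⟩ : N) ^ Nat.card K = 1 := Subtype.ext (by simpa using hk2)
    rw [this, map_one]
  have ho : orderOf ((Abelianization.of : N →* Abelianization N) ⟨s, hsN⟩) = 1 :=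
    Nat.eq_one_of_dvd_coprimes (hK.pow_right j) ho2 ho1
  have hs' : (⟨s, hsN⟩ : N) ∈ commutator N := by
    rw [← Abelianization.ker_of, MonoidHom.mem_ker]
    exact orderOf_eq_one_iff.mp ho
  rw [← hmap]
  exact ⟨⟨s, hsN⟩, hs', rfl⟩

/-- Let G be a finite solvable group, p a prime with G = O_{p',p,p'}(G), and S a Sylow p-subgroup. Then: if S ≤ G' then S ≤ [N_G(S), N_G(S)]; if Y ⊆ S and xYx⁻¹ ⊆ S then x = g c for some g ∈ N_G(S) and c centralizing Y; and for every p-subgroup Q there is x ∈ C_G(Q ∩ S) with xQx⁻¹ ≤ S. -/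
theorem result {G : Type*} [Group G] [Finite G] [Group.IsSolvable G] (p : ℕ) [Fact p.Prime] (hpl : Cfsg.PLengthLE p 1 G) (S : Sylow p G) :
    ((S : Subgroup G) ≤ commutator G → (S : Subgroup G) ≤ ⁅Subgroup.normalizer ((S : Subgroup G) : Set G), Subgroup.normalizer ((S : Subgroup G) : Set G)⁆) ∧
      (∀ (Y : Set G) (x : G), Y ⊆ (S : Subgroup G) → (fun y => x * y * x⁻¹) '' Y ⊆ (S : Subgroup G) →
        ∃ g ∈ Subgroup.normalizer ((S : Subgroup G) : Set G), ∃ c ∈ Subgroup.centralizer Y, g * c = x) ∧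
      ∀ Q : Subgroup G, IsPGroup p Q → ∃ x ∈ Subgroup.centralizer ((Q ⊓ (S : Subgroup G) : Subgroup G) : Set G), Q.map (MulAut.conj x).toMonoidHom ≤ (S : Subgroup G) := by
  obtain ⟨K, hKn, hK, hNK⟩ := exists_K p hpl S
  exact ⟨partA p S K hK hNK, fun Y x hY hx => partB p S K hK hNK Y x hY hx,
    fun Q hQ => partC p S K hK hNK Q hQ⟩

end Cfsg.Agent.S1461
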