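import Cfsg.Statements.S1462
import Mathlib
import Cfsg.Agent.S1461
import Cfsg.Agent.S1443
import Cfsg.Agent.Lib.helper14.UpperP
-- import your own Cfsg.Agent.* helpers here

set_option autoImplicit false
open Cfsg

namespace Cfsg.Agent.S1462

open Cfsg.Agent.S1461 (ups0 ups1 ups2 ups3)

theorem card_ups1 {G : Type*} [Group G] [Finite G] (p : ℕ) [Fact p.Prime] :
    (Nat.card (upperPSeries p G 1).1).Coprime p := by
  have hinj : Function.Injective (QuotientGroup.mk' (upperPSeries p G 0).1) := by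
    rw [← MonoidHom.ker_eq_bot_iff, QuotientGroup.ker_mk']
    rfl
  have hdvd : Nat.card (upperPSeries p G 1).1 ∣
      Nat.card (pPrimeCore p (G ⧸ (upperPSeries p G 0).1)) := by
    rw [ups1]
    exact Subgroup.card_dvd_of_injective ((QuotientGroup.mk' _).subgroupComap _) (by
      intro a b hab
      exact Subtype.ext (hinj (congrArg Subtype.val hab)))
  exact Nat.Coprime.coprime_dvd_left hdvd
    (Cfsg.Agent.Lib.helper40.pPrimeCore_card_coprime p _)

theorem index_ups2 {G : Type*} [Group G] [Finite G] (p : ℕ) [Fact p.Prime]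
    (hpl : PLengthLE p 1 G) : (Nat.card (G ⧸ (upperPSeries p G 2).1)).Coprime p := by
  have h3 : (upperPSeries p G 3).1 = ⊤ := hpl
  have h5 := ups3 p G
  rw [h3] at h5
  have h6 := congrArg (Subgroup.map (QuotientGroup.mk' (upperPSeries p G 2).1)) h5
  rw [Subgroup.map_comap_eq_self_of_surjective (QuotientGroup.mk'_surjective _),
    Subgroup.map_top_of_surjective _ (QuotientGroup.mk'_surjective _)] at h6
  have h7 := Cfsg.Agent.Lib.helper40.pPrimeCore_card_coprime p (G ⧸ (upperPSeries p G 2).1)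
  rw [← h6, Subgroup.card_top] at h7
  exact h7

theorem ups1_le_ups2 {G : Type*} [Group G] (p : ℕ) :
    (upperPSeries p G 1).1 ≤ (upperPSeries p G 2).1 := by
  rw [ups2]
  intro u hu
  rw [Subgroup.mem_comap]
  have h : QuotientGroup.mk' (upperPSeries p G 1).1 u = 1 := (QuotientGroup.eq_one_iff u).mpr hu
  rw [h]
  exact Subgroup.one_mem _

theorem mem_pCore_of_pow {G : Type*} [Group G] [Finite G] (p : ℕ) [Fact p.Prime]
    (hpl : PLengthLE p 1 G) (y : G ⧸ (upperPSeries p G 1).1) (k : ℕ) (hy : y ^ p ^ k = 1) :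
    y ∈ pCore p (G ⧸ (upperPSeries p G 1).1) := by
  obtain ⟨x, rfl⟩ := QuotientGroup.mk'_surjective (upperPSeries p G 1).1 y
  have hcop := index_ups2 p hpl
  have hx1 : x ^ p ^ k ∈ (upperPSeries p G 1).1 := by
    apply (QuotientGroup.eq_one_iff _).mp
    rw [← hy, ← map_pow]
    rfl
  have hx2 : x ∈ (upperPSeries p G 2).1 := by
    have h1 : orderOf (QuotientGroup.mk' (upperPSeries p G 2).1 x) ∣ p ^ k := by
      apply orderOf_dvd_of_pow_eq_one
      rw [← map_pow]
      exact (QuotientGroup.eq_one_iff _).mpr (ups1_le_ups2 p hx1)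
    have h2 : orderOf (QuotientGroup.mk' (upperPSeries p G 2).1 x) ∣
        Nat.card (G ⧸ (upperPSeries p G 2).1) := orderOf_dvd_natCard _
    have h3 := Nat.eq_one_of_dvd_coprimes (hcop.pow_right k) h2 h1
    exact (QuotientGroup.eq_one_iff x).mp (orderOf_eq_one_iff.mp h3)
  rw [ups2] at hx2
  exact hx2

theorem isPSolvable_of_pLength {G : Type*} [Group G] [Finite G] (p : ℕ) [Fact p.Prime]
    (hpl : PLengthLE p 1 G) : IsPSolvable p G := by
  refine ⟨3, ![⊥, (upperPSeries p G 1).1, (upperPSeries p G 2).1, ⊤], rfl, rfl, ?_, ?_, ?_⟩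
  · rw [Fin.monotone_iff_le_succ]
    intro i
    fin_cases i
    · show (⊥ : Subgroup G) ≤ (upperPSeries p G 1).1
      exact bot_le
    · show (upperPSeries p G 1).1 ≤ (upperPSeries p G 2).1
      exact ups1_le_ups2 p
    · show (upperPSeries p G 2).1 ≤ (⊤ : Subgroup G)
      exact le_top
  · intro i
    fin_cases i
    · show (⊥ : Subgroup G).Normal
      infer_instance
    · show (upperPSeries p G 1).1.Normal
      infer_instance
    · show (upperPSeries p G 2).1.Normal
      infer_instance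
    · show (⊤ : Subgroup G).Normal
      infer_instance
  · intro i
    fin_cases i
    · right
      show ((⊥ : Subgroup G).relIndex (upperPSeries p G 1).1).Coprime p
      rw [Subgroup.relIndex_bot_left]
      exact card_ups1 p
    · left
      show ∃ m : ℕ, ((upperPSeries p G 1).1).relIndex (upperPSeries p G 2).1 = p ^ m
      rw [← Cfsg.Agent.Lib.helper14.card_map_mk',
        Cfsg.Agent.Lib.helper14.map_upperPSeries_even_succ p G 0]
      exact IsPGroup.iff_card.mp (Cfsg.Agent.Lib.helper40.pCore_isPGroup p _)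
    · right
      show (((upperPSeries p G 2).1).relIndex (⊤ : Subgroup G)).Coprime p
      rw [Subgroup.relIndex_top_right, Subgroup.index_eq_card]
      exact index_ups2 p hpl

theorem lift_fixed {G : Type*} [Group G] [Finite G] (p : ℕ) [Fact p.Prime] (N : Subgroup G)
    [N.Normal] (hN : (Nat.card N).Coprime p) (E : Subgroup G) (hE : IsPGroup p E) (xb : G ⧸ N)
    (hcomm : ∀ e ∈ E, (e : G ⧸ N) * xb = xb * (e : G ⧸ N)) (hxb : xb ^ p = 1) :
    ∃ c : G, (c : G ⧸ N) = xb ∧ c ^ p = 1 ∧ ∀ e ∈ E, e * c = c * e := by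
  classical
  obtain ⟨x, rfl⟩ := QuotientGroup.mk_surjective xb
  let act : MulAction E {y : G // (y : G ⧸ N) = (x : G ⧸ N)} :=
    { smul := fun e y => ⟨(e : G) * (y : G) * (e : G)⁻¹, by
        have h1 := hcomm e e.2
        have h2 : (((e : G) * (y : G) * (e : G)⁻¹ : G) : G ⧸ N) =
            ((e : G) : G ⧸ N) * ((y : G) : G ⧸ N) * ((e : G) : G ⧸ N)⁻¹ := rfl
        rw [h2, y.2, h1, mul_inv_cancel_right]⟩
      one_smul := fun y => Subtype.ext (by
        show ((1 : E) : G) * (y : G) * ((1 : E) : G)⁻¹ = (y : G)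
        simp)
      mul_smul := fun a b y => Subtype.ext (by
        show ((a * b : E) : G) * (y : G) * ((a * b : E) : G)⁻¹ =
          (a : G) * ((b : G) * (y : G) * (b : G)⁻¹) * (a : G)⁻¹
        simp [mul_assoc]) }
  have hcard : Nat.card {y : G // (y : G ⧸ N) = (x : G ⧸ N)} = Nat.card N := by
    symm
    apply Nat.card_congr
    exact
      { toFun := fun u => ⟨x * (u : G), QuotientGroup.mk_mul_of_mem x u.2⟩
        invFun := fun y => ⟨x⁻¹ * (y : G), QuotientGroup.eq.mp y.2.symm⟩
        left_inv := fun u => Subtype.ext (by simp)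
        right_inv := fun y => Subtype.ext (by simp) }
  have hnd : ¬ p ∣ Nat.card {y : G // (y : G ⧸ N) = (x : G ⧸ N)} := by
    rw [hcard]
    intro hdvd
    have h1 := Nat.Coprime.eq_one_of_dvd hN.symm hdvd
    exact (Fact.out : p.Prime).one_lt.ne' h1
  obtain ⟨c, hc⟩ := hE.nonempty_fixed_point_of_prime_not_dvd_card _ hnd
  have hcx : ((c : G) : G ⧸ N) = (x : G ⧸ N) := c.2
  have hcE : ∀ e ∈ E, e * (c : G) = (c : G) * e := by
    intro e he
    have h : e * (c : G) * e⁻¹ = (c : G) := congrArg Subtype.val (hc ⟨e, he⟩)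
    calc e * (c : G) = e * (c : G) * e⁻¹ * e := by group
      _ = (c : G) * e := by rw [h]
  obtain ⟨t, -, ht⟩ := Nat.exists_mul_mod_eq_one_of_coprime hN (Fact.out : p.Prime).one_lt
  have hcp : (c : G) ^ p ∈ N := by
    apply (QuotientGroup.eq_one_iff _).mp
    have h : (((c : G) ^ p : G) : G ⧸ N) = ((c : G) : G ⧸ N) ^ p := rfl
    rw [h, hcx, hxb]
  have hcpn : ((c : G) ^ p) ^ Nat.card N = 1 := by
    have h := pow_card_eq_one' (G := N) (x := ⟨(c : G) ^ p, hcp⟩)
    exact congrArg Subtype.val h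
  refine ⟨(c : G) ^ (Nat.card N * t), ?_, ?_, ?_⟩
  · have h : (((c : G) ^ (Nat.card N * t) : G) : G ⧸ N) =
        ((c : G) : G ⧸ N) ^ (Nat.card N * t) := rfl
    rw [h, hcx, pow_eq_pow_mod _ hxb, ht, pow_one]
  · rw [← pow_mul, mul_comm (Nat.card N * t) p, ← mul_assoc, pow_mul, pow_mul, hcpn, one_pow]
  · intro e he
    exact ((show Commute e (c : G) from hcE e he).pow_right _).eq

theorem elemAb_sup {G : Type*} [Group G] (p : ℕ) (E : Subgroup G) (hE : IsElementaryAbelian p E)
    (c : G) (hc : c ^ p = 1) (hcE : ∀ e ∈ E, e * c = c * e) :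
    IsElementaryAbelian p (E ⊔ Subgroup.zpowers c) := by
  have hEcomm : ∀ a ∈ E, ∀ b ∈ E, a * b = b * a := by
    intro a ha b hb
    exact congrArg Subtype.val (isMulCommutative_iff.mp hE.1 ⟨a, ha⟩ ⟨b, hb⟩)
  have hT : E ⊔ Subgroup.zpowers c = Subgroup.closure ((E : Set G) ∪ {c}) := by
    rw [Subgroup.closure_union, Subgroup.closure_eq, Subgroup.zpowers_eq_closure]
  rw [hT]
  have hcomm : ∀ a ∈ (E : Set G) ∪ {c}, ∀ b ∈ (E : Set G) ∪ {c}, a * b = b * a := by
    intro a ha b hb
    rcases ha with ha | ha <;> rcases hb with hb | hb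
    · exact hEcomm a ha b hb
    · rw [Set.mem_singleton_iff] at hb
      rw [hb]
      exact hcE a ha
    · rw [Set.mem_singleton_iff] at ha
      rw [ha]
      exact (hcE b hb).symm
    · rw [Set.mem_singleton_iff] at ha hb
      rw [ha, hb]
  have h1 : Subgroup.closure ((E : Set G) ∪ {c}) ≤ Subgroup.centralizer ((E : Set G) ∪ {c}) :=
    (Subgroup.closure_le _).mpr (fun a ha =>
      Subgroup.mem_centralizer_iff.mpr (fun b hb => hcomm b hb a ha))
  have h2 : Subgroup.closure ((E : Set G) ∪ {c}) ≤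
      Subgroup.centralizer ((Subgroup.closure ((E : Set G) ∪ {c}) : Subgroup G) : Set G) :=
    (Subgroup.closure_le _).mpr (fun a ha =>
      Subgroup.mem_centralizer_iff.mpr (fun b hb =>
        (Subgroup.mem_centralizer_iff.mp (h1 hb) a ha).symm))
  refine ⟨isMulCommutative_iff.mpr ?_, ?_⟩
  · intro a b
    apply Subtype.ext
    exact Subgroup.mem_centralizer_iff.mp (h2 b.2) a a.2
  · intro a ha
    induction ha using Subgroup.closure_induction with
    | mem x hx =>
      rcases hx with hx | hx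
      · exact hE.2 x hx
      · rw [Set.mem_singleton_iff] at hx
        rw [hx, hc]
    | one => exact one_pow p
    | mul x y hx hy ihx ihy =>
      have hxy : Commute x y := Subgroup.mem_centralizer_iff.mp (h2 hy) x hx
      rw [hxy.mul_pow, ihx, ihy, one_mul]
    | inv x hx ih => rw [inv_pow, ih, inv_one]


/-- Let G be a finite solvable group, p an odd prime with G = O_{p',p,p'}(G), E an elementary abelian p-subgroup contained in no larger elementary abelian p-subgroup of G, and L a subgroup of order coprime to p normalized by E. Then L ≤ O_{p'}(G). -/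
theorem result {G : Type*} [Group G] [Finite G] [Group.IsSolvable G] (p : ℕ) [Fact p.Prime] (hp : p ≠ 2) (hpl : Cfsg.PLengthLE p 1 G) (E L : Subgroup G) (hE : Cfsg.IsElementaryAbelian p E)
    (hEmax : ∀ B : Subgroup G, Cfsg.IsElementaryAbelian p B → E ≤ B → B = E) (hL : (Nat.card L).Coprime p) (hEL : E ≤ Subgroup.normalizer (L : Set G)) :
    L ≤ Cfsg.pPrimeCore p G := by
  classical
  have hUc : (Nat.card (upperPSeries p G 1).1).Coprime p := card_ups1 p
  have hPp : IsPGroup p (pCore p (G ⧸ (upperPSeries p G 1).1)) :=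
    Cfsg.Agent.Lib.helper40.pCore_isPGroup p _
  have hPn : (pCore p (G ⧸ (upperPSeries p G 1).1)).Normal :=
    Cfsg.Agent.Lib.helper40.pCore_normal' p _
  have hEpg : IsPGroup p E := fun g => ⟨1, Subtype.ext (by simpa using hE.2 g g.2)⟩
  have hEP : E.map (QuotientGroup.mk' (upperPSeries p G 1).1) ≤
      pCore p (G ⧸ (upperPSeries p G 1).1) := by
    rintro _ ⟨e, he, rfl⟩
    apply mem_pCore_of_pow p hpl _ 1
    rw [pow_one, ← map_pow, hE.2 e he, map_one]
  have hEcomm : ∀ a ∈ E, ∀ b ∈ E, a * b = b * a := by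
    intro a ha b hb
    exact congrArg Subtype.val (isMulCommutative_iff.mp hE.1 ⟨a, ha⟩ ⟨b, hb⟩)
  have hEe : IsElementaryAbelian p (E.map (QuotientGroup.mk' (upperPSeries p G 1).1)) := by
    refine ⟨isMulCommutative_iff.mpr ?_, ?_⟩
    · rintro ⟨_, ⟨a, ha, rfl⟩⟩ ⟨_, ⟨b, hb, rfl⟩⟩
      apply Subtype.ext
      show QuotientGroup.mk' (upperPSeries p G 1).1 a * QuotientGroup.mk' (upperPSeries p G 1).1 b =
        QuotientGroup.mk' (upperPSeries p G 1).1 b * QuotientGroup.mk' (upperPSeries p G 1).1 a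
      rw [← map_mul, ← map_mul, hEcomm a ha b hb]
    · rintro _ ⟨e, he, rfl⟩
      rw [← map_pow, hE.2 e he, map_one]
  have hLc : (Nat.card (L.map (QuotientGroup.mk' (upperPSeries p G 1).1))).Coprime p :=
    Nat.Coprime.coprime_dvd_left (Subgroup.card_map_dvd _ _) hL
  have hLP : ∀ y ∈ L.map (QuotientGroup.mk' (upperPSeries p G 1).1),
      y ∈ pCore p (G ⧸ (upperPSeries p G 1).1) → y = 1 := by
    intro y hyL hyP
    obtain ⟨k, hk⟩ := hPp ⟨y, hyP⟩
    have hk' : y ^ p ^ k = 1 := congrArg Subtype.val hk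
    have h1 : orderOf y ∣ p ^ k := orderOf_dvd_of_pow_eq_one hk'
    have h2 : orderOf y ∣ Nat.card (L.map (QuotientGroup.mk' (upperPSeries p G 1).1)) :=
      Subgroup.orderOf_dvd_natCard _ hyL
    exact orderOf_eq_one_iff.mp (Nat.eq_one_of_dvd_coprimes (hLc.pow_right k) h2 h1)
  have hLE : ∀ l ∈ L, ∀ e ∈ E, QuotientGroup.mk' (upperPSeries p G 1).1 e *
      QuotientGroup.mk' (upperPSeries p G 1).1 l =
      QuotientGroup.mk' (upperPSeries p G 1).1 l * QuotientGroup.mk' (upperPSeries p G 1).1 e := by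
    intro l hl e he
    have h1 : e * l * e⁻¹ * l⁻¹ ∈ L :=
      L.mul_mem ((Subgroup.mem_normalizer_iff.mp (hEL he) l).mp hl) (L.inv_mem hl)
    have he' : QuotientGroup.mk' (upperPSeries p G 1).1 e ∈
        pCore p (G ⧸ (upperPSeries p G 1).1) := hEP (Subgroup.mem_map_of_mem _ he)
    have h2 : QuotientGroup.mk' (upperPSeries p G 1).1 (e * l * e⁻¹ * l⁻¹) ∈
        pCore p (G ⧸ (upperPSeries p G 1).1) := by
      have h : QuotientGroup.mk' (upperPSeries p G 1).1 (e * l * e⁻¹ * l⁻¹) =
          QuotientGroup.mk' (upperPSeries p G 1).1 e *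
          (QuotientGroup.mk' (upperPSeries p G 1).1 l *
            (QuotientGroup.mk' (upperPSeries p G 1).1 e)⁻¹ *
            (QuotientGroup.mk' (upperPSeries p G 1).1 l)⁻¹) := by
        simp only [map_mul, map_inv]
        group
      rw [h]
      exact Subgroup.mul_mem _ he' (hPn.conj_mem _ (Subgroup.inv_mem _ he') _)
    have h3 := hLP _ (Subgroup.mem_map_of_mem _ h1) h2
    simp only [map_mul, map_inv] at h3
    calc QuotientGroup.mk' (upperPSeries p G 1).1 e * QuotientGroup.mk' (upperPSeries p G 1).1 l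
        = (QuotientGroup.mk' (upperPSeries p G 1).1 e * QuotientGroup.mk' (upperPSeries p G 1).1 l *
            (QuotientGroup.mk' (upperPSeries p G 1).1 e)⁻¹ *
            (QuotientGroup.mk' (upperPSeries p G 1).1 l)⁻¹) *
          (QuotientGroup.mk' (upperPSeries p G 1).1 l *
            QuotientGroup.mk' (upperPSeries p G 1).1 e) := by group
      _ = QuotientGroup.mk' (upperPSeries p G 1).1 l *
            QuotientGroup.mk' (upperPSeries p G 1).1 e := by rw [h3, one_mul]
  have hfix : ∀ x ∈ pCore p (G ⧸ (upperPSeries p G 1).1) ⊓ Subgroup.centralizer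
      ((E.map (QuotientGroup.mk' (upperPSeries p G 1).1) :
        Subgroup (G ⧸ (upperPSeries p G 1).1)) : Set (G ⧸ (upperPSeries p G 1).1)),
      orderOf x = p → L.map (QuotientGroup.mk' (upperPSeries p G 1).1) ≤
        Subgroup.centralizer ({x} : Set (G ⧸ (upperPSeries p G 1).1)) := by
    intro xb hxb ho
    have hxp : xb ^ p = 1 := by
      have h := pow_orderOf_eq_one xb
      rwa [ho] at h
    have hcomm : ∀ e ∈ E, (e : G ⧸ (upperPSeries p G 1).1) * xb =
        xb * (e : G ⧸ (upperPSeries p G 1).1) := by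
      intro e he
      exact Subgroup.mem_centralizer_iff.mp hxb.2 _ (Subgroup.mem_map_of_mem _ he)
    obtain ⟨c, hc1, hc2, hc3⟩ := lift_fixed p (upperPSeries p G 1).1 hUc E hEpg xb hcomm hxp
    have hB := elemAb_sup p E hE c hc2 hc3
    have hBE := hEmax _ hB le_sup_left
    have hcE : c ∈ E := by
      rw [← hBE]
      exact (le_sup_right : Subgroup.zpowers c ≤ E ⊔ Subgroup.zpowers c) (Subgroup.mem_zpowers c)
    rintro _ ⟨l, hl, rfl⟩
    rw [Subgroup.mem_centralizer_iff]
    intro h hh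
    rw [Set.mem_singleton_iff] at hh
    rw [hh, ← hc1]
    exact hLE l hl c hcE
  have hnorm : L.map (QuotientGroup.mk' (upperPSeries p G 1).1) ≤
      Subgroup.normalizer ((pCore p (G ⧸ (upperPSeries p G 1).1) :
        Subgroup (G ⧸ (upperPSeries p G 1).1)) : Set (G ⧸ (upperPSeries p G 1).1)) := by
    rw [Subgroup.normalizer_eq_top]
    exact le_top
  have hcent := Cfsg.Agent.S1443.result p hp (pCore p (G ⧸ (upperPSeries p G 1).1))
    (E.map (QuotientGroup.mk' (upperPSeries p G 1).1))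
    (L.map (QuotientGroup.mk' (upperPSeries p G 1).1)) hPp hEP hEe hnorm hLc hfix
  have hsol : IsPSolvable p G := isPSolvable_of_pLength p hpl
  have hHH : Subgroup.centralizer ((pCore p (G ⧸ (upperPSeries p G 1).1) :
      Subgroup (G ⧸ (upperPSeries p G 1).1)) : Set (G ⧸ (upperPSeries p G 1).1)) ≤
      pCore p (G ⧸ (upperPSeries p G 1).1) :=
    Cfsg.Agent.Lib.helper14.centralizer_upperPSeries_le hsol 0
  intro l hl
  have h1 : QuotientGroup.mk' (upperPSeries p G 1).1 l = 1 :=
    hLP _ (Subgroup.mem_map_of_mem _ hl) (hHH (hcent (Subgroup.mem_map_of_mem _ hl)))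
  have h2 : l ∈ (upperPSeries p G 1).1 := (QuotientGroup.eq_one_iff l).mp h1
  exact Cfsg.Agent.Lib.helper40.le_pPrimeCore (upperPSeries p G 1).1 inferInstance hUc h2

end Cfsg.Agent.S1462
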