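import Cfsg.Statements.S1476
import Mathlib
import Cfsg.Agent.S1473
import Cfsg.Agent.S1474
import Cfsg.Agent.S1475
import Cfsg.Agent.S1477
import Cfsg.Agent.S1462
import Cfsg.Agent.S0016
import Cfsg.Agent.S0023
import Cfsg.Agent.S0044
import Cfsg.Agent.S0058
import Cfsg.Agent.Lib.helper28.Fitting
import Cfsg.Agent.Lib.helper40.Cores
-- import your own Cfsg.Agent.* helpers here

set_option autoImplicit false
open Cfsg

namespace Cfsg.Agent.S1476

open scoped commutatorElement

/-- abelian-subgroups-cyclic passes along injective homomorphisms -/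
theorem abCyc_of_injective {X Y : Type*} [Group X] [Group Y] (f : Y →* X)
    (hf : Function.Injective f) (hab : ∀ B : Subgroup X, IsMulCommutative B → IsCyclic B) :
    ∀ B : Subgroup Y, IsMulCommutative B → IsCyclic B := by
  intro B hB
  have h1 : IsMulCommutative (B.map f) := by
    refine isMulCommutative_iff.mpr ?_
    rintro ⟨_, a, ha, rfl⟩ ⟨_, b, hb, rfl⟩
    apply Subtype.ext
    show f a * f b = f b * f a
    rw [← map_mul, ← map_mul]
    exact congrArg f (congrArg Subtype.val (isMulCommutative_iff.mp hB ⟨a, ha⟩ ⟨b, hb⟩))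
  have h2 := hab _ h1
  exact (MulEquiv.isCyclic (B.equivMapOfInjective f hf)).mpr h2

/-- in a finite cyclic group an element of order `q` generates every element killed by `q` -/
theorem mem_zpowers_of_cyclic {B : Type*} [Group B] [Finite B] [IsCyclic B] {q : ℕ} (hq : 0 < q)
    {y z : B} (hy : orderOf y = q) (hz : z ^ q = 1) : z ∈ Subgroup.zpowers y := by
  classical
  have _inst : Fintype B := Fintype.ofFinite B
  have hyq : y ^ q = 1 := by rw [← hy]; exact pow_orderOf_eq_one y
  have h1 : (Finset.univ.filter (fun a : B => a ^ q = 1)).card ≤ q :=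
    IsCyclic.card_pow_eq_one_le hq
  have h2 : Finset.univ.filter (fun a : B => a ∈ Subgroup.zpowers y) ⊆
      Finset.univ.filter (fun a : B => a ^ q = 1) := by
    intro a ha
    rw [Finset.mem_filter] at ha ⊢
    obtain ⟨k, rfl⟩ := Subgroup.mem_zpowers_iff.mp ha.2
    refine ⟨Finset.mem_univ _, ?_⟩
    rw [← zpow_natCast, ← zpow_mul, mul_comm, zpow_mul, zpow_natCast, hyq, one_zpow]
  have h3 : (Finset.univ.filter (fun a : B => a ∈ Subgroup.zpowers y)).card = q := by
    rw [← Fintype.card_subtype, ← Nat.card_eq_fintype_card, ← hy]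
    exact Nat.card_zpowers y
  have h4 := Finset.eq_of_subset_of_card_le h2 (by rw [h3]; exact h1)
  have h5 : z ∈ Finset.univ.filter (fun a : B => a ^ q = 1) := by simp [hz]
  rw [← h4] at h5
  exact (Finset.mem_filter.mp h5).2

/-- a finite `q`-group all of whose abelian subgroups are cyclic has at most one subgroup of
order `q` -/
theorem unique_order_q {X : Type*} [Group X] [Finite X] (q : ℕ) [hq : Fact q.Prime]
    (hX : IsPGroup q X) (hab : ∀ B : Subgroup X, IsMulCommutative B → IsCyclic B)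
    (H K : Subgroup X) (hH : Nat.card H = q) (hK : Nat.card K = q) : H = K := by
  have hq1 : 1 < q := hq.out.one_lt
  have hnt : Nontrivial X := by
    by_contra hnt
    rw [not_nontrivial_iff_subsingleton] at hnt
    have : Nat.card H = 1 := Nat.card_unique
    omega
  have hc := hX.center_nontrivial
  have hcp : IsPGroup q (Subgroup.center X) := hX.to_subgroup _
  obtain ⟨n, hn0, hn⟩ := hcp.nontrivial_iff_card.mp hc
  have hdvd : q ∣ Nat.card (Subgroup.center X) := by
    rw [hn]; exact dvd_pow_self q hn0.ne'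
  obtain ⟨z₀, hz₀⟩ := exists_prime_orderOf_dvd_card' q hdvd
  have hz : orderOf (z₀ : X) = q := by rw [Subgroup.orderOf_coe]; exact hz₀
  have hzq : (z₀ : X) ^ q = 1 := by rw [← hz]; exact pow_orderOf_eq_one _
  have key : ∀ L : Subgroup X, Nat.card L = q → L = Subgroup.zpowers (z₀ : X) := by
    intro L hL
    have hL1 : L ≠ ⊥ := by
      intro h
      rw [h, Subgroup.card_bot] at hL
      omega
    obtain ⟨y, hy1⟩ := (Subgroup.ne_bot_iff_exists_ne_one).mp hL1
    have hyL' : (y : X) ∈ L := y.2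
    have hy1' : (y : X) ≠ 1 := fun h => hy1 (Subtype.ext h)
    have hyo : orderOf (y : X) = q := by
      have h1 : orderOf (y : X) ∣ q := hL ▸ Subgroup.orderOf_dvd_natCard L hyL'
      rcases (Nat.dvd_prime hq.out).mp h1 with h2 | h2
      · exact absurd (orderOf_eq_one_iff.mp h2) hy1'
      · exact h2
    have hyq : (y : X) ^ q = 1 := by rw [← hyo]; exact pow_orderOf_eq_one _
    have hLy : Subgroup.zpowers (y : X) = L := by
      apply Subgroup.eq_of_le_of_card_ge ((Subgroup.zpowers_le).mpr hyL')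
      rw [Nat.card_zpowers, hyo, hL]
    have hEz : IsElementaryAbelian q (Subgroup.zpowers (z₀ : X)) := by
      refine ⟨inferInstance, ?_⟩
      intro a ha
      obtain ⟨k, rfl⟩ := Subgroup.mem_zpowers_iff.mp ha
      rw [← zpow_natCast, ← zpow_mul, mul_comm, zpow_mul, zpow_natCast, hzq, one_zpow]
    have hcE : ∀ e ∈ Subgroup.zpowers (z₀ : X), e * (y : X) = (y : X) * e := by
      intro e he
      have hec : e ∈ Subgroup.center X := (Subgroup.zpowers_le.mpr z₀.2) he
      exact (Subgroup.mem_center_iff.mp hec (y : X)).symm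
    have hB := Cfsg.Agent.S1462.elemAb_sup q (Subgroup.zpowers (z₀ : X)) hEz (y : X) hyq hcE
    have hBc : IsCyclic ↥(Subgroup.zpowers (z₀ : X) ⊔ Subgroup.zpowers (y : X)) := hab _ hB.1
    have hzB : (z₀ : X) ∈ Subgroup.zpowers (z₀ : X) ⊔ Subgroup.zpowers (y : X) :=
      (le_sup_left : Subgroup.zpowers (z₀ : X) ≤ _) (Subgroup.mem_zpowers _)
    have hyB : (y : X) ∈ Subgroup.zpowers (z₀ : X) ⊔ Subgroup.zpowers (y : X) :=
      (le_sup_right : Subgroup.zpowers (y : X) ≤ _) (Subgroup.mem_zpowers _)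
    have hmem := mem_zpowers_of_cyclic
      (B := ↥(Subgroup.zpowers (z₀ : X) ⊔ Subgroup.zpowers (y : X))) (q := q) (by omega)
      (y := ⟨(z₀ : X), hzB⟩) (z := ⟨(y : X), hyB⟩)
      (by rw [Subgroup.orderOf_mk]; exact hz) (Subtype.ext hyq)
    obtain ⟨k, hk⟩ := Subgroup.mem_zpowers_iff.mp hmem
    have hk' : (z₀ : X) ^ k = (y : X) := by
      have h := congrArg Subtype.val hk
      simpa using h
    have hyz : Subgroup.zpowers (y : X) = Subgroup.zpowers (z₀ : X) := by
      apply Subgroup.eq_of_le_of_card_ge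
      · rw [Subgroup.zpowers_le, ← hk']
        exact Subgroup.zpow_mem_zpowers _ k
      · rw [Nat.card_zpowers, Nat.card_zpowers, hz, hyo]
    rw [← hLy, hyz]
  rw [key H hH, key K hK]

/-- a finite `q`-group all of whose abelian subgroups are cyclic is cyclic or generalized
quaternion -/
theorem cyclic_or_quat {X : Type*} [Group X] [Finite X] (q : ℕ) [Fact q.Prime]
    (hX : IsPGroup q X) (hab : ∀ B : Subgroup X, IsMulCommutative B → IsCyclic B) :
    IsCyclic X ∨ (q = 2 ∧ ∃ n : ℕ, Nonempty (X ≃* QuaternionGroup (2 ^ n))) :=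
  Cfsg.Agent.S0016.result q hX (unique_order_q q hX hab)

/-- a finite nilpotent group of odd order all of whose abelian subgroups are cyclic is cyclic -/
theorem cyclic_of_odd {X : Type*} [Group X] [Finite X] [Group.IsNilpotent X]
    (hab : ∀ B : Subgroup X, IsMulCommutative B → IsCyclic B) (hodd : Odd (Nat.card X)) :
    IsCyclic X := by
  have hZ : IsZGroup X := by
    refine ⟨fun r hr R => ?_⟩
    have := Fact.mk hr
    by_cases h2 : r = 2
    · have hR : Nat.card (R : Subgroup X) = 1 := by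
        obtain ⟨k, hk⟩ := IsPGroup.iff_card.mp R.isPGroup'
        have hdvd : Nat.card (R : Subgroup X) ∣ Nat.card X := Subgroup.card_subgroup_dvd_card _
        rw [hk, h2] at hdvd
        rcases Nat.eq_zero_or_pos k with hk0 | hk0
        · rw [hk, hk0, pow_zero]
        · exfalso
          have h2d : 2 ∣ Nat.card X := (dvd_pow_self 2 hk0.ne').trans hdvd
          exact (Nat.not_even_iff_odd.mpr hodd) (even_iff_two_dvd.mpr h2d)
      have hsub : Subsingleton (R : Subgroup X) := (Nat.card_eq_one_iff_unique.mp hR).1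
      exact isCyclic_of_subsingleton
    · rcases cyclic_or_quat r R.isPGroup'
        (abCyc_of_injective (R : Subgroup X).subtype (Subgroup.subtype_injective _) hab) with
        h | ⟨h, -⟩
      · exact h
      · exact absurd h h2
  infer_instance

/-- structure of a finite nilpotent group all of whose abelian subgroups are cyclic -/
theorem nilp_structure {N : Type*} [Group N] [Finite N] [Group.IsNilpotent N]
    (hab : ∀ B : Subgroup N, IsMulCommutative B → IsCyclic B) :
    IsCyclic N ∨ ∃ C Q : Subgroup N, C ⊔ Q = ⊤ ∧ (∀ a ∈ C, ∀ b ∈ Q, a * b = b * a) ∧ IsCyclic C ∧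
      Odd (Nat.card C) ∧ ∃ n : ℕ, Nonempty (Q ≃* QuaternionGroup (2 ^ n)) := by
  classical
  have h2p : Fact (Nat.Prime 2) := ⟨Nat.prime_two⟩
  obtain ⟨P2⟩ : Nonempty (Sylow 2 N) := inferInstance
  by_cases hodd : Odd (Nat.card N)
  · exact Or.inl (cyclic_of_odd hab hodd)
  rcases cyclic_or_quat 2 P2.isPGroup'
    (abCyc_of_injective (P2 : Subgroup N).subtype (Subgroup.subtype_injective _) hab) with
    h2 | ⟨-, n, hn⟩
  · left
    have hZ : IsZGroup N := by
      refine ⟨fun r hr R => ?_⟩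
      have := Fact.mk hr
      rcases cyclic_or_quat r R.isPGroup'
        (abCyc_of_injective (R : Subgroup N).subtype (Subgroup.subtype_injective _) hab) with
        h | ⟨hr2, -⟩
      · exact h
      · subst hr2
        have hu := Sylow.unique_of_normal P2 inferInstance
        have hRP : R = P2 := Subsingleton.elim _ _
        rw [hRP]
        exact h2
    infer_instance
  · right
    obtain ⟨C, hC⟩ := Subgroup.exists_right_complement'_of_coprime P2.card_coprime_index
    have hcardC : Nat.card C = (P2 : Subgroup N).index := by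
      have h1 := hC.card_mul_card
      have h2 := (P2 : Subgroup N).card_mul_index
      have h3 : 0 < Nat.card (P2 : Subgroup N) := Nat.card_pos
      exact Nat.eq_of_mul_eq_mul_left h3 (h1.trans h2.symm)
    have hCodd : Odd (Nat.card C) := by
      rw [hcardC, ← Nat.not_even_iff_odd, even_iff_two_dvd]
      exact P2.not_dvd_index
    have hCcyc : IsCyclic C :=
      cyclic_of_odd (abCyc_of_injective C.subtype (Subgroup.subtype_injective _) hab) hCodd
    refine ⟨C, (P2 : Subgroup N), ?_, ?_, hCcyc, hCodd, n, hn⟩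
    · rw [sup_comm]
      exact hC.sup_eq_top
    · intro a ha b hb
      obtain ⟨k, hk⟩ := P2.isPGroup' ⟨b, hb⟩
      have hk' : b ^ (2 ^ k) = 1 := congrArg Subtype.val hk
      have hcop : (orderOf a).Coprime 2 := by
        have h1 : orderOf a ∣ Nat.card C := Subgroup.orderOf_dvd_natCard C ha
        have h2 : (Nat.card C).Coprime 2 := Nat.Coprime.symm
          ((Nat.Prime.coprime_iff_not_dvd Nat.prime_two).mpr
            (fun h => (Nat.not_even_iff_odd.mpr hCodd) (even_iff_two_dvd.mpr h)))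
        exact Nat.Coprime.coprime_dvd_left h1 h2
      exact (Cfsg.Agent.S1474.commute_of_coprime Nat.prime_two hk' hcop).symm

/-- a finite nilpotent group of even order all of whose abelian subgroups are cyclic has a
unique involution -/
theorem unique_involution {X : Type*} [Group X] [Finite X] [Group.IsNilpotent X]
    (hab : ∀ B : Subgroup X, IsMulCommutative B → IsCyclic B) (h2 : 2 ∣ Nat.card X) :
    ∃ z : X, z ≠ 1 ∧ z ^ 2 = 1 ∧ ∀ u : X, u ^ 2 = 1 → u ≠ 1 → u = z := by
  have h2p : Fact (Nat.Prime 2) := ⟨Nat.prime_two⟩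
  obtain ⟨z, hz⟩ := exists_prime_orderOf_dvd_card' 2 h2
  have hz2 : z ^ 2 = 1 := by rw [← hz]; exact pow_orderOf_eq_one z
  have hz1 : z ≠ 1 := by
    intro h
    rw [h, orderOf_one] at hz
    omega
  refine ⟨z, hz1, hz2, ?_⟩
  intro u hu2 hu1
  obtain ⟨S⟩ : Nonempty (Sylow 2 X) := inferInstance
  have hzS : z ∈ (S : Subgroup X) :=
    Cfsg.Agent.S1477.mem_sylow_of_pow S (k := 1) (by rw [pow_one]; exact hz2)
  have huS : u ∈ (S : Subgroup X) :=
    Cfsg.Agent.S1477.mem_sylow_of_pow S (k := 1) (by rw [pow_one]; exact hu2)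
  have huo : orderOf u = 2 := orderOf_eq_prime hu2 hu1
  have habS := abCyc_of_injective (S : Subgroup X).subtype (Subgroup.subtype_injective _) hab
  have heq := unique_order_q 2 S.isPGroup' habS
    (Subgroup.zpowers (⟨u, huS⟩ : (S : Subgroup X))) (Subgroup.zpowers (⟨z, hzS⟩ : (S : Subgroup X)))
    (by rw [Nat.card_zpowers, Subgroup.orderOf_mk]; exact huo)
    (by rw [Nat.card_zpowers, Subgroup.orderOf_mk]; exact hz)
  have hmem : (⟨u, huS⟩ : (S : Subgroup X)) ∈ Subgroup.zpowers (⟨z, hzS⟩ : (S : Subgroup X)) := by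
    rw [← heq]
    exact Subgroup.mem_zpowers _
  obtain ⟨k, hk⟩ := Subgroup.mem_zpowers_iff.mp hmem
  have hk' : z ^ k = u := by
    have h := congrArg Subtype.val hk
    simpa using h
  rcases Int.emod_two_eq_zero_or_one k with h0 | h1
  · exfalso
    apply hu1
    rw [← hk', ← Int.emod_add_mul_ediv k 2, h0, zero_add, zpow_mul]
    have : z ^ (2 : ℤ) = 1 := by exact_mod_cast hz2
    rw [this, one_zpow]
  · rw [← hk', ← Int.emod_add_mul_ediv k 2, h1, zpow_add, zpow_one, zpow_mul]
    have : z ^ (2 : ℤ) = 1 := by exact_mod_cast hz2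
    rw [this, one_zpow, mul_one]

/-- transfer of the structure statement from the group `↥E` to subgroups of `G` -/
theorem transfer {G : Type*} [Group G] (E : Subgroup G)
    (h : IsCyclic E ∨ ∃ C Q : Subgroup E, C ⊔ Q = ⊤ ∧ (∀ a ∈ C, ∀ b ∈ Q, a * b = b * a) ∧
      IsCyclic C ∧ Odd (Nat.card C) ∧ ∃ n : ℕ, Nonempty (Q ≃* QuaternionGroup (2 ^ n))) :
    IsCyclic E ∨ ∃ C Q : Subgroup G, C ⊔ Q = E ∧ (∀ a ∈ C, ∀ b ∈ Q, a * b = b * a) ∧
      IsCyclic C ∧ Odd (Nat.card C) ∧ ∃ n : ℕ, Nonempty (Q ≃* QuaternionGroup (2 ^ n)) := by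
  rcases h with h | ⟨C, Q, hsup, hcomm, hcyc, hodd, n, ⟨e⟩⟩
  · exact Or.inl h
  · right
    refine ⟨C.map E.subtype, Q.map E.subtype, ?_, ?_, ?_, ?_, n, ⟨?_⟩⟩
    · rw [← Subgroup.map_sup, hsup, ← MonoidHom.range_eq_map, Subgroup.range_subtype]
    · rintro _ ⟨a, ha, rfl⟩ _ ⟨b, hb, rfl⟩
      exact congrArg Subtype.val (hcomm a ha b hb)
    · exact (MulEquiv.isCyclic
        (C.equivMapOfInjective E.subtype (Subgroup.subtype_injective _))).mp hcyc
    · rw [← Nat.card_congr
        (C.equivMapOfInjective E.subtype (Subgroup.subtype_injective _)).toEquiv]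
      exact hodd
    · exact (Q.equivMapOfInjective E.subtype (Subgroup.subtype_injective _)).symm.trans e

/-- a subgroup acting without fixed points and coprimely on a nontrivial normal subgroup has all
its abelian subgroups cyclic -/
theorem abCyc_of_fpf {G : Type*} [Group G] [Finite G] (H E : Subgroup G) [hHn : H.Normal]
    (hH1 : H ≠ ⊥) (hcop : (Nat.card E).Coprime (Nat.card H))
    (hfpf : ∀ e ∈ E, e ≠ 1 → H ⊓ Subgroup.centralizer ({e} : Set G) = ⊥) :
    ∀ B : Subgroup E, IsMulCommutative B → IsCyclic B := by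
  intro B hB
  by_contra hnc
  have hB' : IsMulCommutative (B.map E.subtype) := by
    refine isMulCommutative_iff.mpr ?_
    rintro ⟨_, a, ha, rfl⟩ ⟨_, b, hb, rfl⟩
    apply Subtype.ext
    show E.subtype a * E.subtype b = E.subtype b * E.subtype a
    rw [← map_mul, ← map_mul]
    exact congrArg E.subtype (congrArg Subtype.val (isMulCommutative_iff.mp hB ⟨a, ha⟩ ⟨b, hb⟩))
  have hnc' : ¬ IsCyclic (B.map E.subtype) := by
    intro h
    exact hnc ((MulEquiv.isCyclic
      (B.equivMapOfInjective E.subtype (Subgroup.subtype_injective _))).mpr h)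
  have hle : B.map E.subtype ≤ E := Subgroup.map_subtype_le B
  have hgen := Cfsg.Agent.S0058.result (B.map E.subtype) H hnc'
    (by rw [Subgroup.normalizer_eq_top]; exact le_top)
    (Nat.Coprime.coprime_dvd_left (Subgroup.card_dvd_of_le hle) hcop)
  apply hH1
  rw [← hgen, eq_bot_iff]
  apply iSup₂_le
  intro a ha
  rw [hfpf a (hle ha.1) ha.2]


/-- case α: a nontrivial normal Sylow subgroup exists -/
theorem case_alpha {G : Type*} [Group G] [Finite G] (hCN : Cfsg.IsCNGroup G)
    (hnn : ¬ Group.IsNilpotent G) (p : ℕ) [Fact p.Prime] (P : Sylow p G)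
    (hP1 : (P : Subgroup G) ≠ ⊥) (hPn : (P : Subgroup G).Normal) :
    ∃ K E : Subgroup G, K.Normal ∧ Subgroup.IsComplement' K E ∧ Cfsg.IsFrobeniusComplement E ∧
      (IsCyclic E ∨ ∃ C Q : Subgroup G, C ⊔ Q = E ∧ (∀ a ∈ C, ∀ b ∈ Q, a * b = b * a) ∧
        IsCyclic C ∧ Odd (Nat.card C) ∧ ∃ n : ℕ, Nonempty (↥Q ≃* QuaternionGroup (2 ^ n))) := by
  obtain ⟨hH1, hHtop, ⟨E, hE, hEfrob, hfpf⟩, hquot⟩ :=
    Cfsg.Agent.S1474.result hCN hnn p P hP1 hPn
  obtain ⟨hHnil, hHmax, hHall, hPH⟩ := Cfsg.Agent.S1474.props hCN p P hP1 hPn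
  have hdisj : Cfsg.fittingHall G ⊓ E = ⊥ := hE.disjoint.eq_bot
  have hcard : Nat.card (Cfsg.fittingHall G) * Nat.card E = Nat.card G := hE.card_mul_card
  have hidx : Nat.card E = (Cfsg.fittingHall G).index := by
    have h1 : Nat.card (Cfsg.fittingHall G) * (Cfsg.fittingHall G).index = Nat.card G :=
      (Cfsg.fittingHall G).card_mul_index
    have hpos : 0 < Nat.card (Cfsg.fittingHall G) := Nat.card_pos
    exact Nat.eq_of_mul_eq_mul_left hpos (hcard.trans h1.symm)
  have hcop : (Nat.card E).Coprime (Nat.card (Cfsg.fittingHall G)) := by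
    rw [hidx]; exact hHall.symm
  have hEnil : Group.IsNilpotent E := by
    have hinj : Function.Injective ((QuotientGroup.mk' (Cfsg.fittingHall G)).comp E.subtype) := by
      rw [injective_iff_map_eq_one]
      intro a ha
      have h1 : (a : G) ∈ Cfsg.fittingHall G := (QuotientGroup.eq_one_iff (a : G)).mp ha
      have h2 : (a : G) ∈ Cfsg.fittingHall G ⊓ E := ⟨h1, a.2⟩
      rw [hdisj, Subgroup.mem_bot] at h2
      exact Subtype.ext h2
    have htop : Group.IsNilpotent (⊤ : Subgroup (G ⧸ Cfsg.fittingHall G)) :=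
      Group.nilpotent_of_mulEquiv Subgroup.topEquiv.symm
    exact Cfsg.Agent.S1473.nilp_of_injective _ hinj htop (fun _ => Subgroup.mem_top _)
  refine ⟨Cfsg.fittingHall G, E, inferInstance, hE, hEfrob, ?_⟩
  exact transfer E (nilp_structure (abCyc_of_fpf (Cfsg.fittingHall G) E hH1 hcop hfpf))


theorem map_conj_of_normal {X : Type*} [Group X] (N : Subgroup X) [hNn : N.Normal] (g : X) :
    N.map (MulAut.conj g).toMonoidHom = N := by
  ext x
  constructor
  · rintro ⟨y, hy, rfl⟩
    exact hNn.conj_mem y hy g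
  · intro hx
    refine ⟨g⁻¹ * x * g, ?_, ?_⟩
    · have := hNn.conj_mem x hx g⁻¹
      simpa using this
    · show g * (g⁻¹ * x * g) * g⁻¹ = x
      group

/-- a nontrivial finite solvable group has nontrivial Fitting subgroup -/
theorem fitting_ne_bot {G : Type*} [Group G] [Finite G] [Group.IsSolvable G] [Nontrivial G] :
    Cfsg.fittingSubgroup G ≠ ⊥ := by
  have htop : (⊤ : Subgroup G) ≠ ⊥ := top_ne_bot
  have hsolv : Group.IsSolvable (⊤ : Subgroup G) := inferInstance
  obtain ⟨q, hq, N, hNn, -, hN1, hNq, -⟩ :=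
    Cfsg.Agent.S1475.exists_normal_abelian_pgroup (⊤ : Subgroup G) hsolv htop
  have := Fact.mk hq
  intro h
  apply hN1
  have hle : N ≤ Cfsg.fittingSubgroup G :=
    Cfsg.Agent.Lib.helper28.le_fittingSubgroup hNn hNq.isNilpotent
  rw [h] at hle
  exact le_bot_iff.mp hle

/-- in a solvable CN-group without nontrivial normal Sylow subgroups the Fitting
subgroup is a `p`-group -/
theorem fitting_pgroup {G : Type*} [Group G] [Finite G] [Group.IsSolvable G]
    (hCN : Cfsg.IsCNGroup G) [Nontrivial G]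
    (hβ : ∀ (p : ℕ) (_ : Fact p.Prime) (P : Sylow p G),
      (P : Subgroup G).Normal → (P : Subgroup G) = ⊥) :
    ∃ p : ℕ, p.Prime ∧ IsPGroup p (Cfsg.fittingSubgroup G) := by
  classical
  have hF1 : Cfsg.fittingSubgroup G ≠ ⊥ := fitting_ne_bot
  have hFnil : Group.IsNilpotent (Cfsg.fittingSubgroup G) :=
    Cfsg.Agent.Lib.helper28.fittingSubgroup_isNilpotent G
  have hFn : (Cfsg.fittingSubgroup G).Normal := inferInstance
  let 𝒮 : Set (Subgroup G) := {M | Group.IsNilpotent M ∧ Cfsg.fittingSubgroup G ≤ M}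
  obtain ⟨M, ⟨hMnil, hFM⟩, hmax'⟩ :=
    wellFounded_gt.has_min 𝒮 ⟨Cfsg.fittingSubgroup G, hFnil, le_refl _⟩
  have hmax : ∀ L : Subgroup G, Group.IsNilpotent L → M ≤ L → L = M := by
    intro L hL hML
    by_contra hne
    exact hmax' L ⟨hL, hFM.trans hML⟩ (lt_of_le_of_ne hML (Ne.symm hne))
  have hM1 : Nat.card M ≠ 1 := by
    intro h
    apply hF1
    have h2 : M = ⊥ := Subgroup.card_eq_one.mp h
    rw [h2] at hFM
    exact le_bot_iff.mp hFM
  by_cases hpp : IsPrimePow (Nat.card M)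
  · obtain ⟨p, k, hp, hk, hpk⟩ := (isPrimePow_nat_iff _).mp hpp
    have := Fact.mk hp
    refine ⟨p, hp, ?_⟩
    exact (IsPGroup.of_card hpk.symm).to_le hFM
  · exfalso
    have hTI := Cfsg.Agent.S1477.part2 hCN M hMnil hmax hpp hM1
    have key : ∀ g : G, M.map (MulAut.conj g).toMonoidHom = M := by
      intro g
      by_contra hne
      have h1 := hTI g hne
      apply hF1
      rw [eq_bot_iff, ← h1]
      refine le_inf hFM ?_
      intro x hx
      refine ⟨g⁻¹ * x * g, hFM ?_, ?_⟩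
      · have := hFn.conj_mem x hx g⁻¹
        simpa using this
      · show g * (g⁻¹ * x * g) * g⁻¹ = x
        group
    have hMn : M.Normal := by
      refine ⟨fun x hx g => ?_⟩
      rw [← key g]
      exact ⟨x, hx, rfl⟩
    obtain ⟨r, hr, hrd⟩ := Nat.exists_prime_and_dvd hM1
    have := Fact.mk hr
    obtain ⟨R, hRM⟩ := Cfsg.Agent.S1477.exists_sylow_le hCN M hMnil hmax r hr hrd
    have hRn : (R : Subgroup G).Normal := by
      refine ⟨fun x hx g => ?_⟩
      obtain ⟨k, hk⟩ := R.isPGroup' ⟨x, hx⟩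
      have hk' : x ^ (r ^ k) = 1 := congrArg Subtype.val hk
      refine Cfsg.Agent.S1477.sub_mem_sylow hMnil R hRM (hMn.conj_mem x (hRM hx) g) (k := k) ?_
      rw [conj_pow, hk']; group
    have hR1 : (R : Subgroup G) ≠ ⊥ := by
      apply R.ne_bot_of_dvd_card
      exact hrd.trans (Subgroup.card_subgroup_dvd_card M)
    exact hR1 (hβ r inferInstance R hRn)

/-- `p'`-elements act fixed-point-freely on the Fitting subgroup when it is a `p`-group -/
theorem fpf_of_pprime {G : Type*} [Group G] [Finite G] [Group.IsSolvable G]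
    (hCN : Cfsg.IsCNGroup G) (p : ℕ) [hp : Fact p.Prime]
    (hFp : IsPGroup p (Cfsg.fittingSubgroup G)) (hF1 : Cfsg.fittingSubgroup G ≠ ⊥)
    (x : G) (hx1 : x ≠ 1) (hxo : (orderOf x).Coprime p) :
    Cfsg.fittingSubgroup G ⊓ Subgroup.centralizer ({x} : Set G) = ⊥ := by
  rw [Subgroup.eq_bot_iff_forall]
  intro y hy
  by_contra hy1
  obtain ⟨hyF, hyx⟩ := Subgroup.mem_inf.mp hy
  rw [Subgroup.mem_centralizer_singleton_iff] at hyx
  obtain ⟨z, hzF, hz1, hzc⟩ :=
    Cfsg.Agent.S1474.exists_central_pgroup (Cfsg.fittingSubgroup G) hFp hF1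
  have hpow : ∀ f ∈ Cfsg.fittingSubgroup G, ∃ k : ℕ, f ^ (p ^ k) = 1 := by
    intro f hf
    obtain ⟨k, hk⟩ := hFp ⟨f, hf⟩
    exact ⟨k, congrArg Subtype.val hk⟩
  have hxz : z * x = x * z := by
    obtain ⟨k, hk⟩ := hpow z hzF
    refine Cfsg.Agent.S1474.sub_commute_coprime (hCN y hy1) hp.out (a := z) (b := x) ?_ ?_ hk hxo
    · rw [Subgroup.mem_centralizer_singleton_iff]
      exact (hzc y hyF).symm
    · rw [Subgroup.mem_centralizer_singleton_iff]
      exact hyx.symm
  have hxF : ∀ f ∈ Cfsg.fittingSubgroup G, f * x = x * f := by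
    intro f hf
    obtain ⟨k, hk⟩ := hpow f hf
    refine Cfsg.Agent.S1474.sub_commute_coprime (hCN z hz1) hp.out (a := f) (b := x) ?_ ?_ hk hxo
    · rw [Subgroup.mem_centralizer_singleton_iff]
      exact hzc f hf
    · rw [Subgroup.mem_centralizer_singleton_iff]
      exact hxz.symm
  have hxcent : x ∈ Subgroup.centralizer (Cfsg.fittingSubgroup G : Set G) := by
    rw [Subgroup.mem_centralizer_iff]
    intro f hf
    exact hxF f hf
  have hxF' : x ∈ Cfsg.fittingSubgroup G := Cfsg.Agent.S0044.result hxcent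
  obtain ⟨k, hk⟩ := hpow x hxF'
  exact hx1 (Cfsg.Agent.Lib.helper40.eq_one_of_pow_eq_one_of_coprime hk hxo)

/-- if `O_p(X) = 1` then every normal nilpotent subgroup has order prime to `p` -/
theorem coprime_of_pCore_bot {X : Type*} [Group X] [Finite X] (p : ℕ) [hp : Fact p.Prime]
    (hpc : Cfsg.pCore p X = ⊥) (N : Subgroup X) [hNn : N.Normal] (hN : Group.IsNilpotent N) :
    (Nat.card N).Coprime p := by
  rw [Nat.coprime_comm, Nat.Prime.coprime_iff_not_dvd hp.out]
  intro hdvd
  obtain ⟨Q⟩ : Nonempty (Sylow p N) := inferInstance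
  have hQ1 : (Q : Subgroup N) ≠ ⊥ := Q.ne_bot_of_dvd_card hdvd
  have hQX : ((Q : Subgroup N).map N.subtype).Normal := by
    refine ⟨fun x hx g => ?_⟩
    obtain ⟨a, ha, rfl⟩ := hx
    obtain ⟨k, hk⟩ := Q.isPGroup' ⟨a, ha⟩
    have hk' : a ^ (p ^ k) = 1 := congrArg Subtype.val hk
    have hmem : g * (a : X) * g⁻¹ ∈ N := hNn.conj_mem a a.2 g
    refine ⟨⟨g * (a : X) * g⁻¹, hmem⟩, ?_, rfl⟩
    refine Cfsg.Agent.S1477.mem_sylow_of_pow Q (k := k) ?_
    apply Subtype.ext
    show (g * (a : X) * g⁻¹) ^ (p ^ k) = 1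
    rw [conj_pow]
    have h3 : (a : X) ^ (p ^ k) = 1 := by
      have := congrArg Subtype.val hk'
      simpa using this
    rw [h3]; group
  have hQp : IsPGroup p ((Q : Subgroup N).map N.subtype) := Q.isPGroup'.map N.subtype
  have hle := Cfsg.Agent.Lib.helper40.le_pCore _ hQX hQp
  rw [hpc] at hle
  apply hQ1
  rw [eq_bot_iff]
  intro a ha
  have h2 : (a : X) ∈ (⊥ : Subgroup X) := hle ⟨a, ha, rfl⟩
  rw [Subgroup.mem_bot] at h2 ⊢
  exact Subtype.ext h2

/-- `O_p(G / F) = 1` when `F` is a normal `p`-subgroup containing `O_p(G)` -/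
theorem pCore_quot_bot {G : Type*} [Group G] [Finite G] (p : ℕ) [hp : Fact p.Prime]
    (F : Subgroup G) [hFn : F.Normal] (hFp : IsPGroup p F) (hpc : Cfsg.pCore p G ≤ F) :
    Cfsg.pCore p (G ⧸ F) = ⊥ := by
  have hBp : IsPGroup p (Cfsg.pCore p (G ⧸ F)) :=
    Cfsg.Agent.Lib.helper40.pCore_isPGroup p (G ⧸ F)
  have hBn : (Cfsg.pCore p (G ⧸ F)).Normal := inferInstance
  have hcn : ((Cfsg.pCore p (G ⧸ F)).comap (QuotientGroup.mk' F)).Normal :=
    hBn.comap (QuotientGroup.mk' F)
  have hcp : IsPGroup p ((Cfsg.pCore p (G ⧸ F)).comap (QuotientGroup.mk' F)) := by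
    rintro ⟨g, hg⟩
    obtain ⟨k, hk⟩ := hBp ⟨QuotientGroup.mk' F g, hg⟩
    have hk' : (QuotientGroup.mk' F g) ^ (p ^ k) = 1 := congrArg Subtype.val hk
    have hgF : g ^ (p ^ k) ∈ F := by
      rw [← map_pow] at hk'
      exact (QuotientGroup.eq_one_iff _).mp hk'
    obtain ⟨j, hj⟩ := hFp ⟨g ^ (p ^ k), hgF⟩
    have hj' : (g ^ (p ^ k)) ^ (p ^ j) = 1 := congrArg Subtype.val hj
    refine ⟨k + j, Subtype.ext ?_⟩
    show g ^ (p ^ (k + j)) = 1
    rw [pow_add, pow_mul]; exact hj'
  have hle : (Cfsg.pCore p (G ⧸ F)).comap (QuotientGroup.mk' F) ≤ F :=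
    (Cfsg.Agent.Lib.helper40.le_pCore _ hcn hcp).trans hpc
  rw [eq_bot_iff]
  intro b hb
  obtain ⟨g, rfl⟩ := QuotientGroup.mk'_surjective F b
  have h2 : g ∈ F := hle hb
  rw [Subgroup.mem_bot]
  exact (QuotientGroup.eq_one_iff g).mpr h2

/-- no nontrivial normal Sylow subgroup: `G/F` is not a `p'`-group for `F` a nontrivial normal
`p`-subgroup -/
theorem no_coprime_index {G : Type*} [Group G] [Finite G] (p : ℕ) [hp : Fact p.Prime]
    (hβ : ∀ (q : ℕ) (_ : Fact q.Prime) (P : Sylow q G),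
      (P : Subgroup G).Normal → (P : Subgroup G) = ⊥)
    (F : Subgroup G) [hFn : F.Normal] (hFp : IsPGroup p F) (hF1 : F ≠ ⊥) :
    ¬ (Nat.card (G ⧸ F)).Coprime p := by
  intro hcop
  have hidx : ¬ p ∣ F.index := by
    rw [Subgroup.index_eq_card]
    intro h
    exact hp.out.one_lt.ne' (Nat.Coprime.eq_one_of_dvd hcop.symm h)
  have hcoe : ((hFp.toSylow hidx : Sylow p G) : Subgroup G) = F := IsPGroup.toSylow_coe _ _
  apply hF1
  rw [← hcoe]
  apply hβ p hp
  rw [hcoe]; exact hFn

/-- Schur–Zassenhaus inside a subgroup -/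
theorem exists_compl {G : Type*} [Group G] [Finite G] (F K : Subgroup G) [hFn : F.Normal]
    (hFK : F ≤ K) (hcop : (Nat.card F).Coprime (F.relIndex K)) :
    ∃ A : Subgroup G, A ≤ K ∧ F ⊓ A = ⊥ ∧ F ⊔ A = K ∧ Nat.card A = F.relIndex K := by
  have hn : (F.subgroupOf K).Normal := hFn.subgroupOf K
  have hc : (Nat.card (F.subgroupOf K)).Coprime (F.subgroupOf K).index := by
    have h1 : Nat.card (F.subgroupOf K) = Nat.card F :=
      Nat.card_congr (Subgroup.subgroupOfEquivOfLe hFK).toEquiv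
    rw [h1]; exact hcop
  obtain ⟨B, hB⟩ := Subgroup.exists_right_complement'_of_coprime hc
  refine ⟨B.map K.subtype, Subgroup.map_subtype_le B, ?_, ?_, ?_⟩
  · rw [eq_bot_iff]
    rintro x ⟨hxF, ⟨b, hb, rfl⟩⟩
    have h2 : b ∈ F.subgroupOf K ⊓ B := ⟨Subgroup.mem_subgroupOf.mpr hxF, hb⟩
    rw [hB.disjoint.eq_bot, Subgroup.mem_bot] at h2
    rw [Subgroup.mem_bot, h2]; rfl
  · have h1 : (F.subgroupOf K ⊔ B).map K.subtype = K := by
      rw [hB.sup_eq_top, ← MonoidHom.range_eq_map, Subgroup.range_subtype]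
    rw [Subgroup.map_sup, Subgroup.subgroupOf_map_subtype, inf_eq_left.mpr hFK] at h1
    exact h1
  · rw [Subgroup.card_map_of_injective (Subgroup.subtype_injective K)]
    have h1 := hB.card_mul_card
    have h2 := (F.subgroupOf K).card_mul_index
    exact Nat.eq_of_mul_eq_mul_left Nat.card_pos (h1.trans h2.symm)

/-- if `N` is a cyclic normal subgroup then the commutator subgroup centralizes it -/
theorem commutator_le_centralizer_of_cyclic {X : Type*} [Group X] (N : Subgroup X)
    [hNn : N.Normal] (hc : IsCyclic N) : commutator X ≤ Subgroup.centralizer (N : Set X) := by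
  obtain ⟨⟨g, hgN⟩, hg⟩ := hc.exists_generator
  have hpow : ∀ n ∈ N, ∃ i : ℤ, g ^ i = n := by
    intro n hn
    obtain ⟨i, hi⟩ := Subgroup.mem_zpowers_iff.mp (hg ⟨n, hn⟩)
    refine ⟨i, ?_⟩
    have := congrArg Subtype.val hi
    simpa using this
  have hconj : ∀ a : X, ∃ i : ℤ, a * g * a⁻¹ = g ^ i := by
    intro a
    obtain ⟨i, hi⟩ := hpow _ (hNn.conj_mem g hgN a)
    exact ⟨i, hi.symm⟩
  have key : ∀ a b : X, (a * b) * g * (a * b)⁻¹ = (b * a) * g * (b * a)⁻¹ := by
    intro a b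
    obtain ⟨i, hi⟩ := hconj a
    obtain ⟨k, hk⟩ := hconj b
    have h1 : (a * b) * g * (a * b)⁻¹ = g ^ (i * k) := by
      calc (a * b) * g * (a * b)⁻¹ = a * (b * g * b⁻¹) * a⁻¹ := by group
        _ = a * g ^ k * a⁻¹ := by rw [hk]
        _ = (a * g * a⁻¹) ^ k := by rw [conj_zpow]
        _ = g ^ (i * k) := by rw [hi, zpow_mul]
    have h2 : (b * a) * g * (b * a)⁻¹ = g ^ (i * k) := by
      calc (b * a) * g * (b * a)⁻¹ = b * (a * g * a⁻¹) * b⁻¹ := by group
        _ = b * g ^ i * b⁻¹ := by rw [hi]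
        _ = (b * g * b⁻¹) ^ i := by rw [conj_zpow]
        _ = g ^ (i * k) := by rw [hk, mul_comm, zpow_mul]
    rw [h1, h2]
  rw [commutator_def, Subgroup.commutator_le]
  intro a _ b _
  rw [Subgroup.mem_centralizer_iff]
  intro n hn
  obtain ⟨j, rfl⟩ := hpow n hn
  have h := key a⁻¹ b⁻¹
  have hc' : Commute ⁅a, b⁆ g := by
    show ⁅a, b⁆ * g = g * ⁅a, b⁆
    rw [commutatorElement_def]
    calc a * b * a⁻¹ * b⁻¹ * g
        = a * b * (a⁻¹ * b⁻¹ * g * (a⁻¹ * b⁻¹)⁻¹) * (a⁻¹ * b⁻¹) := by group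
      _ = a * b * (b⁻¹ * a⁻¹ * g * (b⁻¹ * a⁻¹)⁻¹) * (a⁻¹ * b⁻¹) := by rw [h]
      _ = g * (a * b * a⁻¹ * b⁻¹) := by group
  exact (hc'.zpow_right j).symm.eq


theorem three_step_core {G : Type*} [Group G] [Finite G] [Group.IsSolvable G]
    (p : ℕ) [hp : Fact p.Prime]
    (F : Subgroup G) [hFn : F.Normal] (hFp : IsPGroup p F) (hF1 : F ≠ ⊥)
    (hpc : Cfsg.pCore p G = F)
    (hfpf : ∀ x : G, x ≠ 1 → (orderOf x).Coprime p →
      F ⊓ Subgroup.centralizer ({x} : Set G) = ⊥)
    (hCNq : Cfsg.IsCNGroup (G ⧸ F))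
    (hncop : ¬ (Nat.card (G ⧸ F)).Coprime p) :
    Cfsg.IsThreeStepGroup p G := by
  classical
  have hπs : Function.Surjective (QuotientGroup.mk' F) := QuotientGroup.mk'_surjective F
  have hker : ∀ g : G, QuotientGroup.mk' F g = 1 ↔ g ∈ F := fun g => QuotientGroup.eq_one_iff g
  have hntq : Nontrivial (G ⧸ F) := by
    by_contra h
    rw [not_nontrivial_iff_subsingleton] at h
    apply hncop
    have h1 : Nat.card (G ⧸ F) = 1 := Nat.card_of_subsingleton 1
    rw [h1]
    exact Nat.coprime_one_left p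
  have hFbn : (Cfsg.fittingSubgroup (G ⧸ F)).Normal := inferInstance
  have hFbnil : Group.IsNilpotent (Cfsg.fittingSubgroup (G ⧸ F)) :=
    Cfsg.Agent.Lib.helper28.fittingSubgroup_isNilpotent (G ⧸ F)
  have hFb1 : Cfsg.fittingSubgroup (G ⧸ F) ≠ ⊥ := fitting_ne_bot
  have hpcq : Cfsg.pCore p (G ⧸ F) = ⊥ := pCore_quot_bot p F hFp hpc.le
  have hFbcop : (Nat.card (Cfsg.fittingSubgroup (G ⧸ F))).Coprime p :=
    coprime_of_pCore_bot p hpcq _ hFbnil
  have hFbtop : Cfsg.fittingSubgroup (G ⧸ F) ≠ ⊤ := by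
    intro h
    apply hncop
    have h1 : Nat.card (Cfsg.fittingSubgroup (G ⧸ F)) = Nat.card (G ⧸ F) := by
      rw [h]; exact Subgroup.card_top
    rw [← h1]
    exact hFbcop
  obtain ⟨K, hK⟩ : ∃ K : Subgroup G, K = (Cfsg.fittingSubgroup (G ⧸ F)).comap (QuotientGroup.mk' F) :=
    ⟨_, rfl⟩
  have hmemK : ∀ g : G, g ∈ K ↔ QuotientGroup.mk' F g ∈ Cfsg.fittingSubgroup (G ⧸ F) := by
    intro g; rw [hK]; exact Subgroup.mem_comap
  have hKn : K.Normal := by rw [hK]; exact hFbn.comap _
  have hFK : F ≤ K := by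
    intro f hf
    rw [hmemK, (hker f).mpr hf]
    exact Subgroup.one_mem _
  have hKidx : K.index = (Cfsg.fittingSubgroup (G ⧸ F)).index := by
    rw [hK]; exact Subgroup.index_comap_of_surjective _ hπs
  have hKidx0 : 0 < K.index := Nat.pos_of_ne_zero Subgroup.index_ne_zero_of_finite
  have hrel : F.relIndex K = Nat.card (Cfsg.fittingSubgroup (G ⧸ F)) := by
    have h1 : F.relIndex K * K.index = F.index := Subgroup.relIndex_mul_index hFK
    have h2 : Nat.card (Cfsg.fittingSubgroup (G ⧸ F)) * (Cfsg.fittingSubgroup (G ⧸ F)).index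
        = Nat.card (G ⧸ F) := Subgroup.card_mul_index _
    have hFi : F.index = Nat.card (G ⧸ F) := Subgroup.index_eq_card F
    rw [hFi, ← h2, ← hKidx] at h1
    exact Nat.eq_of_mul_eq_mul_right hKidx0 h1
  have hFcard : ∃ k, Nat.card F = p ^ k := IsPGroup.iff_card.mp hFp
  have hcopFK : (Nat.card F).Coprime (F.relIndex K) := by
    obtain ⟨k, hk⟩ := hFcard
    rw [hk, hrel]
    exact (Nat.Coprime.pow_right k hFbcop).symm
  obtain ⟨A, hAK, hFA, hFAK, hAcard⟩ := exists_compl F K hFK hcopFK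
  rw [hrel] at hAcard
  have hAcop : (Nat.card A).Coprime p := by rw [hAcard]; exact hFbcop
  have hA1 : A ≠ ⊥ := by
    intro h
    have h1 : Nat.card A = 1 := by rw [h]; exact Subgroup.card_bot
    rw [hAcard] at h1
    exact hFb1 (Subgroup.card_eq_one.mp h1)
  have hAord : ∀ a ∈ A, (orderOf a).Coprime p := by
    intro a ha
    have h1 : orderOf a ∣ Nat.card A := Subgroup.orderOf_dvd_natCard A ha
    exact Nat.Coprime.coprime_dvd_left h1 hAcop
  have hAfpf : ∀ a ∈ A, a ≠ 1 → F ⊓ Subgroup.centralizer ({a} : Set G) = ⊥ :=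
    fun a ha ha1 => hfpf a ha1 (hAord a ha)
  have hcopAF : (Nat.card A).Coprime (Nat.card F) := by
    obtain ⟨k, hk⟩ := hFcard
    rw [hk]; exact Nat.Coprime.pow_right k hAcop
  have habA : ∀ B : Subgroup A, IsMulCommutative B → IsCyclic B :=
    abCyc_of_fpf F A hF1 hcopAF hAfpf
  -- the isomorphism A ≃ Fb
  let φ : A →* Cfsg.fittingSubgroup (G ⧸ F) :=
    ((QuotientGroup.mk' F).comp A.subtype).codRestrict (Cfsg.fittingSubgroup (G ⧸ F))
      (fun a => (hmemK _).mp (hAK a.2))
  have hφinj : Function.Injective φ := by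
    rw [injective_iff_map_eq_one]
    intro a ha
    have h1 : QuotientGroup.mk' F (a : G) = 1 := congrArg Subtype.val ha
    have h2 : (a : G) ∈ F ⊓ A := ⟨(hker _).mp h1, a.2⟩
    rw [hFA, Subgroup.mem_bot] at h2
    exact Subtype.ext h2
  have hφbij : Function.Bijective φ :=
    (Nat.bijective_iff_injective_and_card φ).mpr ⟨hφinj, hAcard⟩
  let e : A ≃* Cfsg.fittingSubgroup (G ⧸ F) := MulEquiv.ofBijective φ hφbij
  have hAnil : Group.IsNilpotent A := Group.nilpotent_of_mulEquiv e.symm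
  have habFb : ∀ B : Subgroup (Cfsg.fittingSubgroup (G ⧸ F)), IsMulCommutative B → IsCyclic B :=
    abCyc_of_injective e.symm.toMonoidHom e.symm.injective habA
  have hAodd : Odd (Nat.card A) := by
    rw [hAcard]
    by_contra hodd
    rw [Nat.not_odd_iff_even] at hodd
    have h2 : 2 ∣ Nat.card (Cfsg.fittingSubgroup (G ⧸ F)) := hodd.two_dvd
    obtain ⟨z, hz1, hz2, hzu⟩ := unique_involution habFb h2
    have hzc : ∀ g : G ⧸ F, g * (z : G ⧸ F) * g⁻¹ = (z : G ⧸ F) := by
      intro g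
      have hmem : g * (z : G ⧸ F) * g⁻¹ ∈ Cfsg.fittingSubgroup (G ⧸ F) := hFbn.conj_mem _ z.2 g
      have hz2' : ((z : G ⧸ F)) ^ 2 = 1 := by
        have := congrArg Subtype.val hz2
        simpa using this
      have h1 := hzu ⟨g * (z : G ⧸ F) * g⁻¹, hmem⟩ ?_ ?_
      · exact congrArg Subtype.val h1
      · apply Subtype.ext
        show (g * (z : G ⧸ F) * g⁻¹) ^ 2 = 1
        rw [conj_pow, hz2']; group
      · intro h
        apply hz1
        have h' : g * (z : G ⧸ F) * g⁻¹ = 1 := congrArg Subtype.val h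
        apply Subtype.ext
        show (z : G ⧸ F) = 1
        have h3 : (z : G ⧸ F) = g⁻¹ * (g * (z : G ⧸ F) * g⁻¹) * g := by group
        rw [h3, h']; group
    have hz1' : (z : G ⧸ F) ≠ 1 := fun h => hz1 (Subtype.ext h)
    have hcent : Subgroup.centralizer ({(z : G ⧸ F)} : Set (G ⧸ F)) = ⊤ := by
      rw [eq_top_iff]
      intro g _
      rw [Subgroup.mem_centralizer_singleton_iff]
      have h3 := hzc g
      calc g * (z : G ⧸ F) = (g * (z : G ⧸ F) * g⁻¹) * g := by group
        _ = (z : G ⧸ F) * g := by rw [h3]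
    have hnil : Group.IsNilpotent (⊤ : Subgroup (G ⧸ F)) := by
      rw [← hcent]; exact hCNq _ hz1'
    apply hFbtop
    rw [eq_top_iff]
    exact Cfsg.Agent.Lib.helper28.le_fittingSubgroup (N := (⊤ : Subgroup (G ⧸ F))) inferInstance hnil
  have hAcyc : IsCyclic A := cyclic_of_odd habA hAodd
  have hFbcyc : IsCyclic (Cfsg.fittingSubgroup (G ⧸ F)) := (MulEquiv.isCyclic e).mp hAcyc
  have hcomm : commutator (G ⧸ F) ≤ Cfsg.fittingSubgroup (G ⧸ F) :=
    (commutator_le_centralizer_of_cyclic _ hFbcyc).trans Cfsg.Agent.S0044.result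
  have hFbmax : ∀ L : Subgroup (G ⧸ F), Group.IsNilpotent L →
      Cfsg.fittingSubgroup (G ⧸ F) ≤ L → L = Cfsg.fittingSubgroup (G ⧸ F) := by
    intro L hL hFbL
    have hLn : L.Normal := by
      refine ⟨fun x hx g => ?_⟩
      have h1 : g * x * g⁻¹ * x⁻¹ ∈ Cfsg.fittingSubgroup (G ⧸ F) := by
        apply hcomm
        rw [commutator_def]
        have h3 := Subgroup.commutator_mem_commutator (Subgroup.mem_top g) (Subgroup.mem_top x)
        rwa [commutatorElement_def] at h3
      have h2 : g * x * g⁻¹ = (g * x * g⁻¹ * x⁻¹) * x := by group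
      rw [h2]
      exact L.mul_mem (hFbL h1) hx
    exact le_antisymm (Cfsg.Agent.Lib.helper28.le_fittingSubgroup hLn hL) hFbL
  have hFbHall : (Nat.card (Cfsg.fittingSubgroup (G ⧸ F))).Coprime
      (Cfsg.fittingSubgroup (G ⧸ F)).index :=
    Cfsg.Agent.S1477.part1 hCNq _ hFbnil hFbmax
  have hFbcent : ∀ x ∈ Cfsg.fittingSubgroup (G ⧸ F), x ≠ 1 →
      Subgroup.centralizer ({x} : Set (G ⧸ F)) ≤ Cfsg.fittingSubgroup (G ⧸ F) := by
    refine Cfsg.Agent.S1477.part3 hCNq _ hFbnil hFbmax ?_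
    intro g hg
    exact absurd (map_conj_of_normal _ g) hg
  have hAF : ∀ a ∈ A, a ≠ 1 → a ∉ F := by
    intro a ha ha1 haF
    have h2 : a ∈ F ⊓ A := ⟨haF, ha⟩
    rw [hFA, Subgroup.mem_bot] at h2
    exact ha1 h2
  have hcond5 : ∀ x : G, x ∉ K → ∀ a ∈ A, a ≠ 1 → x * a * x⁻¹ * a⁻¹ ∉ F := by
    intro x hxK a ha ha1 hmem
    apply hxK
    rw [hmemK]
    have hπa1 : QuotientGroup.mk' F a ≠ 1 := fun h => hAF a ha ha1 ((hker a).mp h)
    have hπaFb : QuotientGroup.mk' F a ∈ Cfsg.fittingSubgroup (G ⧸ F) := (hmemK a).mp (hAK ha)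
    apply hFbcent _ hπaFb hπa1
    rw [Subgroup.mem_centralizer_singleton_iff]
    have h1 : QuotientGroup.mk' F (x * a * x⁻¹ * a⁻¹) = 1 := (hker _).mpr hmem
    rw [map_mul, map_mul, map_mul, map_inv, map_inv] at h1
    calc QuotientGroup.mk' F x * QuotientGroup.mk' F a
        = (QuotientGroup.mk' F x * QuotientGroup.mk' F a * (QuotientGroup.mk' F x)⁻¹ *
            (QuotientGroup.mk' F a)⁻¹) * (QuotientGroup.mk' F a * QuotientGroup.mk' F x) := by
          group
      _ = QuotientGroup.mk' F a * QuotientGroup.mk' F x := by rw [h1, one_mul]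
  have hKtop : K ≠ ⊤ := by
    intro h
    apply hFbtop
    rw [eq_top_iff]
    intro b _
    obtain ⟨g, rfl⟩ := hπs b
    have h2 : g ∈ K := by rw [h]; exact Subgroup.mem_top g
    exact (hmemK g).mp h2
  have hindex : ∃ n : ℕ, K.index = p ^ n := by
    refine ⟨_, Nat.eq_prime_pow_of_unique_prime_dvd hKidx0.ne' ?_⟩
    intro s hs hsd
    by_contra hsp
    have hsf := Fact.mk hs
    have hsFb : ¬ s ∣ Nat.card (Cfsg.fittingSubgroup (G ⧸ F)) := by
      intro h
      rw [hKidx] at hsd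
      exact hs.one_lt.ne' (Nat.eq_one_of_dvd_coprimes hFbHall h hsd)
    have hsF : ¬ s ∣ Nat.card F := by
      obtain ⟨k, hk⟩ := hFcard
      rw [hk]
      intro h
      exact hsp ((Nat.prime_dvd_prime_iff_eq hs hp.out).mp (hs.dvd_of_dvd_pow h))
    have hKcard : Nat.card K = Nat.card F * Nat.card (Cfsg.fittingSubgroup (G ⧸ F)) := by
      have h1 := (F.subgroupOf K).card_mul_index
      have h2 : Nat.card (F.subgroupOf K) = Nat.card F :=
        Nat.card_congr (Subgroup.subgroupOfEquivOfLe hFK).toEquiv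
      have h3 : (F.subgroupOf K).index = Nat.card (Cfsg.fittingSubgroup (G ⧸ F)) := hrel
      rw [h2, h3] at h1
      exact h1.symm
    have hsK : ¬ s ∣ Nat.card K := by
      rw [hKcard]
      intro h
      rcases (Nat.Prime.dvd_mul hs).mp h with h | h
      · exact hsF h
      · exact hsFb h
    have hsG : s ∣ Nat.card G := hsd.trans (Subgroup.index_dvd_card K)
    obtain ⟨t, ht⟩ := exists_prime_orderOf_dvd_card' s hsG
    have ht1 : t ≠ 1 := by
      intro h; rw [h, orderOf_one] at ht; exact hs.one_lt.ne ht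
    have htcop : (orderOf t).Coprime p := by
      rw [ht]; exact (Nat.coprime_primes hs hp.out).mpr hsp
    have htK : ∀ i : ℕ, t ^ i ∈ K → t ^ i = 1 := by
      intro i hi
      have h1 : orderOf (t ^ i) ∣ s := by rw [← ht]; exact orderOf_pow_dvd i
      have h2 : orderOf (t ^ i) ∣ Nat.card K := Subgroup.orderOf_dvd_natCard K hi
      rcases (Nat.dvd_prime hs).mp h1 with h | h
      · exact orderOf_eq_one_iff.mp h
      · rw [h] at h2; exact absurd h2 hsK
    have hA1' : Nat.card A ≠ 1 := fun h => hA1 (Subgroup.card_eq_one.mp h)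
    obtain ⟨r, hr, hrd⟩ := Nat.exists_prime_and_dvd hA1'
    have hrf := Fact.mk hr
    have hrp : r ≠ p := by
      intro h
      rw [h] at hrd
      exact hp.out.one_lt.ne' (Nat.Coprime.eq_one_of_dvd hAcop.symm hrd)
    have hrK : r ∣ Nat.card K := hrd.trans (Subgroup.card_dvd_of_le hAK)
    obtain ⟨R, hR⟩ := Cfsg.Agent.S0023.result (Subgroup.zpowers t) K
      (by rw [Subgroup.normalizer_eq_top]; exact le_top)
      (by
        rw [Nat.card_zpowers, ht]
        exact (Nat.Prime.coprime_iff_not_dvd hs).mpr hsK)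
      (Or.inr inferInstance) r
    have hR'K : (R : Subgroup K).map K.subtype ≤ K := Subgroup.map_subtype_le _
    have hR'1 : (R : Subgroup K).map K.subtype ≠ ⊥ := by
      intro h
      have hRb : (R : Subgroup K) ≠ ⊥ := R.ne_bot_of_dvd_card hrK
      apply hRb
      rw [eq_bot_iff]
      intro a ha
      have h2 : (a : G) ∈ (R : Subgroup K).map K.subtype := ⟨a, ha, rfl⟩
      rw [h, Subgroup.mem_bot] at h2
      rw [Subgroup.mem_bot]; exact Subtype.ext h2
    have hR'pow : ∀ k ∈ (R : Subgroup K).map K.subtype, ∃ j : ℕ, k ^ (r ^ j) = 1 := by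
      rintro _ ⟨a, ha, rfl⟩
      obtain ⟨j, hj⟩ := R.isPGroup' ⟨a, ha⟩
      refine ⟨j, ?_⟩
      have h2 : a ^ (r ^ j) = 1 := congrArg Subtype.val hj
      have h3 := congrArg Subtype.val h2
      simpa using h3
    have hR'ord : ∀ k ∈ (R : Subgroup K).map K.subtype, (orderOf k).Coprime p := by
      intro k hk
      obtain ⟨j, hj⟩ := hR'pow k hk
      have h1 : orderOf k ∣ r ^ j := orderOf_dvd_of_pow_eq_one hj
      exact Nat.Coprime.coprime_dvd_left h1
        (Nat.Coprime.pow_left j ((Nat.coprime_primes hr hp.out).mpr hrp))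
    have hR'F : ∀ k ∈ (R : Subgroup K).map K.subtype, k ≠ 1 → k ∉ F := by
      intro k hk hk1 hkF
      obtain ⟨j, hj⟩ := hFp ⟨k, hkF⟩
      have hj' : k ^ (p ^ j) = 1 := congrArg Subtype.val hj
      exact hk1 (Cfsg.Agent.Lib.helper40.eq_one_of_pow_eq_one_of_coprime hj' (hR'ord k hk))
    have htR : ∀ k ∈ (R : Subgroup K).map K.subtype, t * k * t⁻¹ ∈ (R : Subgroup K).map K.subtype := by
      intro k hk
      have h1 : t ∈ Subgroup.normalizer (((R : Subgroup K).map K.subtype : Subgroup G) : Set G) :=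
        hR (Subgroup.mem_zpowers t)
      exact (Subgroup.mem_normalizer_iff.mp h1 k).mp hk
    have htR' := Cfsg.Agent.S1474.pow_conj_mem _ t htR
    have hFsolv : Group.IsSolvable F := inferInstance
    obtain ⟨q, hq, N, hNn, hNF, hN1, hNq, hNab⟩ :=
      Cfsg.Agent.S1475.exists_normal_abelian_pgroup F hFsolv hF1
    have hNp : IsPGroup p N := hFp.to_le hNF
    let hN_comm : CommGroup N :=
      { (inferInstance : Group N) with
        mul_comm := fun x y => Subtype.ext (hNab x x.2 y y.2) }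
    have hall := Cfsg.Agent.S1475.lemmaF (V := N) (Γ := G) (MulAut.conjNormal (H := N))
      ((R : Subgroup K).map K.subtype) t hR'1 htR' ?_ ?_ ?_ ?_
    · exact hN1 ((Subgroup.eq_bot_iff_forall _).mpr
        (fun x hx => congrArg Subtype.val (hall ⟨x, hx⟩)))
    · intro i hti k hk hcomm'
      by_contra hk1
      apply hti
      apply htK
      rw [hmemK]
      have hπk1 : QuotientGroup.mk' F k ≠ 1 := fun h => hR'F k hk hk1 ((hker k).mp h)
      apply hFbcent _ ((hmemK k).mp (hR'K hk)) hπk1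
      rw [Subgroup.mem_centralizer_singleton_iff, ← map_mul, ← map_mul, hcomm']
    · intro k hk hk1 v hv
      have h1 : F ⊓ Subgroup.centralizer ({k} : Set G) = ⊥ := hfpf k hk1 (hR'ord k hk)
      have h3 : k * (v : G) * k⁻¹ = (v : G) := by
        have h4 := congrArg Subtype.val hv
        simpa [MulAut.conjNormal_apply] using h4
      have h2 : (v : G) ∈ F ⊓ Subgroup.centralizer ({k} : Set G) := by
        refine Subgroup.mem_inf.mpr ⟨hNF v.2, Subgroup.mem_centralizer_singleton_iff.mpr ?_⟩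
        calc (v : G) * k = (k * (v : G) * k⁻¹) * k := by rw [h3]
          _ = k * (v : G) := by group
      rw [h1, Subgroup.mem_bot] at h2
      exact Subtype.ext h2
    · intro v hv
      have h1 : F ⊓ Subgroup.centralizer ({t} : Set G) = ⊥ := hfpf t ht1 htcop
      have h3 : t * (v : G) * t⁻¹ = (v : G) := by
        have h4 := congrArg Subtype.val hv
        simpa [MulAut.conjNormal_apply] using h4
      have h2 : (v : G) ∈ F ⊓ Subgroup.centralizer ({t} : Set G) := by
        refine Subgroup.mem_inf.mpr ⟨hNF v.2, Subgroup.mem_centralizer_singleton_iff.mpr ?_⟩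
        calc (v : G) * t = (t * (v : G) * t⁻¹) * t := by rw [h3]
          _ = t * (v : G) := by group
      rw [h1, Subgroup.mem_bot] at h2
      exact Subtype.ext h2
    · -- coprimality of the `r`-group and the `p`-group
      obtain ⟨k, hk⟩ := IsPGroup.iff_card.mp hNp
      have hRp : IsPGroup r ((R : Subgroup K).map K.subtype) := R.isPGroup'.map K.subtype
      obtain ⟨j, hj⟩ := IsPGroup.iff_card.mp hRp
      rw [hk, hj]
      exact Nat.Coprime.pow j k ((Nat.coprime_primes hr hp.out).mpr hrp)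
  refine ⟨?_, A, hA1, hAcyc, hAodd, hAcop, ?_, ?_, ?_, ?_, ?_⟩
  · rw [hpc]; exact hF1
  · rw [hpc, hFAK]; exact hKn
  · rw [hpc, hFAK]; exact hKtop
  · rw [hpc, hFAK]; exact hindex
  · rw [hpc]; exact hAfpf
  · rw [hpc, hFAK]; exact hcond5

/-- case β: no nontrivial normal Sylow subgroup -/
theorem case_beta {G : Type*} [Group G] [Finite G] [Group.IsSolvable G]
    (hCN : Cfsg.IsCNGroup G) (hnn : ¬ Group.IsNilpotent G)
    (hβ : ∀ (p : ℕ) (_ : Fact p.Prime) (P : Sylow p G),
      (P : Subgroup G).Normal → (P : Subgroup G) = ⊥) :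
    ∃ p : ℕ, p.Prime ∧ Cfsg.IsThreeStepGroup p G := by
  have hnt : Nontrivial G := by
    by_contra h
    rw [not_nontrivial_iff_subsingleton] at h
    exact hnn inferInstance
  obtain ⟨p, hp, hFp⟩ := fitting_pgroup hCN hβ
  have hpf := Fact.mk hp
  have hF1 : Cfsg.fittingSubgroup G ≠ ⊥ := fitting_ne_bot
  have hFn : (Cfsg.fittingSubgroup G).Normal := inferInstance
  have hpc : Cfsg.pCore p G = Cfsg.fittingSubgroup G := by
    apply le_antisymm
    · exact Cfsg.Agent.Lib.helper28.le_fittingSubgroup inferInstance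
        (Cfsg.Agent.Lib.helper40.pCore_isPGroup p G).isNilpotent
    · exact Cfsg.Agent.Lib.helper40.le_pCore _ hFn hFp
  have hFsolv : Group.IsSolvable (Cfsg.fittingSubgroup G) := inferInstance
  refine ⟨p, hp, three_step_core p (Cfsg.fittingSubgroup G) hFp hF1 hpc
    (fun x hx1 hxo => fpf_of_pprime hCN p hFp hF1 x hx1 hxo)
    (Cfsg.Agent.S1473.result hCN _ hFsolv)
    (no_coprime_index p hβ _ hFp hF1)⟩



/-- Let G be a finite solvable group in which every non-identity element has nilpotent centralizer. Then either G is nilpotent; or G has a normal subgroup K with a Frobenius complement E (K E = G, K ∩ E = 1, E meets its conjugates by outside elements trivially) such that E is cyclic or E is generated by two elementwise-commuting subgroups, one cyclic of odd order and one isomorphic to a generalized quaternion group; or G is a three-step group with respect to some prime p. -/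
theorem result {G : Type*} [Group G] [Finite G] [Group.IsSolvable G] (hCN : Cfsg.IsCNGroup G) :
    Group.IsNilpotent G ∨
      (∃ K E : Subgroup G, K.Normal ∧ Subgroup.IsComplement' K E ∧ Cfsg.IsFrobeniusComplement E ∧
        (IsCyclic E ∨ ∃ C Q : Subgroup G, C ⊔ Q = E ∧ (∀ a ∈ C, ∀ b ∈ Q, a * b = b * a) ∧ IsCyclic C ∧ Odd (Nat.card C) ∧
          ∃ n : ℕ, Nonempty (↥Q ≃* QuaternionGroup (2 ^ n)))) ∨
      ∃ p : ℕ, p.Prime ∧ Cfsg.IsThreeStepGroup p G := by
  by_cases hnil : Group.IsNilpotent G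
  · exact Or.inl hnil
  · right
    by_cases hα : ∃ (p : ℕ) (_ : Fact p.Prime) (P : Sylow p G),
        (P : Subgroup G).Normal ∧ (P : Subgroup G) ≠ ⊥
    · left
      obtain ⟨p, hpf, P, hPn, hP1⟩ := hα
      exact case_alpha hCN hnil p P hP1 hPn
    · right
      apply case_beta hCN hnil
      intro p hpf P hPn
      by_contra hP1
      exact hα ⟨p, hpf, P, hPn, hP1⟩

end Cfsg.Agent.S1476
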