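import Cfsg.Statements.S1458
import Cfsg.Agent.Lib.helper67.ZJeGT
import Cfsg.Agent.Lib.helper30.PStable
import Cfsg.Agent.Lib.helper60.HallHigman
import Cfsg.Agent.Lib.helper14.PConstrained
import Cfsg.Agent.Lib.helper57.PPrimeQuot
import Cfsg.Agent.Lib.helper39.Induced
import Cfsg.Agent.Lib.helper40.Cores

set_option autoImplicit false
open Cfsg

namespace Cfsg.Agent.S1458

/-- Let G be a solvable group of odd order, p a prime and S a Sylow p-subgroup of G. Then the subgroup generated by the centre of the Thompson subgroup of S and O_{p'}(G) is normal in G. -/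
theorem result {G : Type*} [Group G] [Finite G] [Group.IsSolvable G] (hodd : Odd (Nat.card G)) (p : ℕ) [Fact p.Prime] (S : Sylow p G) :
    (Cfsg.centerThompsonOf p (S : Subgroup G) ⊔ Cfsg.pPrimeCore p G).Normal := by
  have hpp : p.Prime := Fact.out
  haveI hKn : (Cfsg.pPrimeCore p G).Normal := Cfsg.Agent.Lib.helper40.pPrimeCore_normal' p G
  by_cases hp : p = 2
  · -- the Sylow 2-subgroup is trivial
    have hS : (S : Subgroup G) = ⊥ := by
      rw [← Subgroup.card_eq_one]
      obtain ⟨n, hn⟩ := IsPGroup.iff_card.mp S.2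
      have h1 : Nat.card (S : Subgroup G) ∣ Nat.card G := Subgroup.card_subgroup_dvd_card _
      rw [hn] at h1 ⊢
      rcases Nat.eq_zero_or_pos n with h0 | h0
      · rw [h0, pow_zero]
      · exfalso
        have h2 : 2 ∣ Nat.card G := by
          rw [← hp]
          exact (dvd_pow_self p h0.ne').trans h1
        exact (Nat.not_even_iff_odd.mpr hodd) (even_iff_two_dvd.mpr h2)
    have hZ : Cfsg.centerThompsonOf p (S : Subgroup G) = ⊥ := by
      rw [Cfsg.Agent.Lib.helper67.centerThompsonOf_eq_zJ, eq_bot_iff]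
      have h := Cfsg.Agent.Lib.helper67.zJ_le p (S : Subgroup G)
      rw [hS] at h ⊢
      exact h
    rw [hZ, bot_sup_eq]
    exact hKn
  · have hK : (Nat.card (Cfsg.pPrimeCore p G)).Coprime p :=
      Cfsg.Agent.Lib.helper40.pPrimeCore_card_coprime p G
    obtain ⟨π, hπdef⟩ : ∃ π : G →* G ⧸ Cfsg.pPrimeCore p G,
        π = QuotientGroup.mk' (Cfsg.pPrimeCore p G) := ⟨_, rfl⟩
    have hπs : Function.Surjective π := by rw [hπdef]; exact QuotientGroup.mk'_surjective _
    have hker : π.ker = Cfsg.pPrimeCore p G := by rw [hπdef]; exact QuotientGroup.ker_mk' _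
    have hodd' : Odd (Nat.card (G ⧸ Cfsg.pPrimeCore p G)) := by
      have h1 : Nat.card (G ⧸ Cfsg.pPrimeCore p G) ∣ Nat.card G :=
        Subgroup.card_quotient_dvd_card _
      exact Odd.of_dvd_nat hodd h1
    have hbot : Cfsg.pPrimeCore p (G ⧸ Cfsg.pPrimeCore p G) = ⊥ :=
      Cfsg.Agent.Lib.helper14.pPrimeCore_quotient_pPrimeCore p
    have hc := Cfsg.Agent.Lib.helper60.centralizer_pCore_le p hbot
    have hst : ∀ (P : Subgroup (G ⧸ Cfsg.pPrimeCore p G)) [P.Normal], IsPGroup p P →
        Cfsg.IsPStableOn p P := by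
      intro P hPn hP a hq
      exact Cfsg.Agent.Lib.helper30.pstable_hom hodd' p hp P hP (MonoidHom.id _)
        (QuotientGroup.mk' _) (QuotientGroup.mk'_surjective _)
        (fun n => by rw [Subgroup.normalizer_eq_top]; trivial)
        (fun n hn => (QuotientGroup.eq_one_iff _).mpr hn) a
        (fun u hu => Cfsg.Agent.Lib.helper30.quad_of_commutator_eq_bot P (Subgroup.zpowers a) hq a
          (Subgroup.mem_zpowers a) u hu)
    obtain ⟨Sb, hSb⟩ : ∃ Sb : Sylow p (G ⧸ Cfsg.pPrimeCore p G),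
        (Sb : Subgroup (G ⧸ Cfsg.pPrimeCore p G)) = (S : Subgroup G).map π :=
      ⟨S.mapSurjective hπs, Sylow.coe_mapSurjective hπs S⟩
    have hZn := Cfsg.Agent.Lib.helper67.centerThompsonOf_normal hp hc hst Sb
    have hinj : Set.InjOn π ((S : Subgroup G) : Set G) := by
      intro x hx y hy hxy
      have h1 : x⁻¹ * y ∈ (S : Subgroup G) ⊓ Cfsg.pPrimeCore p G := by
        refine ⟨Subgroup.mul_mem _ (Subgroup.inv_mem _ hx) hy, ?_⟩
        have h2 : x⁻¹ * y ∈ π.ker := by
          rw [MonoidHom.mem_ker, map_mul, map_inv, hxy, inv_mul_cancel]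
        rw [hker] at h2
        exact h2
      rw [Cfsg.Agent.Lib.helper57.inf_eq_bot_of_isPGroup_of_coprime S.2 hK, Subgroup.mem_bot] at h1
      exact inv_mul_eq_one.mp h1
    have hmap := Cfsg.Agent.Lib.helper39.ind_map
      (Cfsg.Agent.Lib.helper67.isCharPFunctor_zjeFunctor p) π (S : Subgroup G) S.2 hinj
    rw [Cfsg.Agent.Lib.helper67.inducedFunctor_zjeFunctor,
      Cfsg.Agent.Lib.helper67.inducedFunctor_zjeFunctor, ← hSb] at hmap
    rw [← hmap] at hZn
    have hcomap : Cfsg.centerThompsonOf p (S : Subgroup G) ⊔ Cfsg.pPrimeCore p G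
        = ((Cfsg.centerThompsonOf p (S : Subgroup G)).map π).comap π := by
      rw [Subgroup.comap_map_eq, hker]
    rw [hcomap]
    exact hZn.comap π

end Cfsg.Agent.S1458
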