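import Cfsg.Statements.S1242
import Cfsg.Agent.Lib.helper26.TransferLemmas
import Cfsg.Agent.Lib.helper26.PResidual

set_option autoImplicit false
open Cfsg

namespace Cfsg.Agent.S1242

open Cfsg.Agent.Lib.helper26

open scoped IsMulCommutative in
theorem aux {G : Type*} [Group G] [Finite G] {p : ℕ} [Fact p.Prime] (H : Subgroup G)
    (hidx : Nat.Coprime p H.index)
    (hfus : ∀ g ∈ H, (∃ k : ℕ, orderOf g = p ^ k) → ∀ a : G, a * g * a⁻¹ ∈ H →
      ∃ h ∈ H, h * g * h⁻¹ = a * g * a⁻¹)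
    (x : G) (hxH : x ∈ H) (hx : x ∈ Cfsg.pResidual p G ⊔ commutator G) :
    (⟨x, hxH⟩ : H) ∈ Cfsg.pResidual p ↥H ⊔ commutator ↥H := by
  set N : Subgroup H := Cfsg.pResidual p ↥H ⊔ commutator ↥H with hN
  have : (Cfsg.pResidual p ↥H).Normal := pResidual_normal p H
  have : N.Normal := by rw [hN]; infer_instance
  have : IsMulCommutative (H ⧸ N) :=
    Subgroup.Normal.quotient_commutative_iff_commutator_le.mpr le_sup_right
  have hP : IsPGroup p (H ⧸ N) := isPGroup_quotient_of_pResidual_le N le_sup_left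
  set ϕ : H →* H ⧸ N := QuotientGroup.mk' N with hϕ
  have key : ∀ (k : ℕ) (g₀ : G) (h : g₀⁻¹ * x ^ k * g₀ ∈ H),
      ϕ ⟨g₀⁻¹ * x ^ k * g₀, h⟩ = ϕ ⟨x, hxH⟩ ^ k := by
    intro k g₀ h
    set y : H := ⟨x, hxH⟩ ^ k with hy
    set c : H := ⟨g₀⁻¹ * x ^ k * g₀, h⟩ with hc
    rw [← map_pow]
    set m := (orderOf y) / p ^ (orderOf y).factorization p with hm
    have hn : orderOf y ≠ 0 := (orderOf_pos y).ne'
    have hmp : Nat.Coprime p m := Nat.coprime_ordCompl (Fact.out) hn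
    have hm0 : m ≠ 0 := (Nat.ordCompl_pos p hn).ne'
    have hmd : m ∣ orderOf y := Nat.ordCompl_dvd _ _
    have hord : orderOf (y ^ m) = p ^ (orderOf y).factorization p := by
      rw [orderOf_pow_of_dvd hm0 hmd]
      exact Nat.div_div_self (Nat.ordProj_dvd _ _) hn
    have hcm : g₀⁻¹ * ((y ^ m : H) : G) * g₀⁻¹⁻¹ = ((c ^ m : H) : G) := by
      simp only [hy, hc, Subgroup.coe_pow]
      have e : g₀⁻¹ * x ^ k * g₀ = g₀⁻¹ * x ^ k * g₀⁻¹⁻¹ := by rw [inv_inv]
      rw [e, conj_pow]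
    obtain ⟨hh, hhH, hhe⟩ := hfus ((y ^ m : H) : G) (y ^ m).2
      ⟨_, by rw [Subgroup.orderOf_coe]; exact hord⟩ g₀⁻¹ (by rw [hcm]; exact (c ^ m).2)
    have h1 : ϕ (c ^ m) = ϕ (y ^ m) := by
      have : c ^ m = ⟨hh, hhH⟩ * y ^ m * (⟨hh, hhH⟩ : H)⁻¹ := by
        apply Subtype.ext
        rw [← hcm, ← hhe]
        simp
      rw [this, map_mul, map_mul, map_inv, mul_comm, inv_mul_cancel_left]
    have h2 : (ϕ c * (ϕ y)⁻¹) ^ m = 1 := by
      rw [mul_pow, inv_pow, ← map_pow, ← map_pow, h1, mul_inv_cancel]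
    have h3 := eq_one_of_pow_eq_one_of_isPGroup hP hmp h2
    exact mul_inv_eq_one.1 h3
  have ht := transfer_eq_pow_of_conj ϕ x hxH key
  have hker : Cfsg.pResidual p G ⊔ commutator G ≤ (MonoidHom.transfer ϕ).ker :=
    sup_le (pResidual_le_ker hP _) (Abelianization.commutator_subset_ker _)
  have h0 : MonoidHom.transfer ϕ x = 1 := hker hx
  rw [h0] at ht
  have h5 := eq_one_of_pow_eq_one_of_isPGroup hP hidx ht.symm
  exact (QuotientGroup.eq_one_iff _).1 h5

/-- Let G be a finite group, p a prime and H a subgroup of index prime to p such that any two elements of H of p-power order that are conjugate in G are conjugate in H. Then (O^p(G)·G') ∩ H = O^p(H)·H', where O^p denotes the subgroup generated by the elements of order prime to p. -/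
theorem result {G : Type*} [Group G] [Finite G] {p : ℕ} [Fact p.Prime] (H : Subgroup G) (hidx : Nat.Coprime p H.index) (hfus : ∀ g ∈ H, (∃ k : ℕ, orderOf g = p ^ k) → ∀ a : G, a * g * a⁻¹ ∈ H → ∃ h ∈ H, h * g * h⁻¹ = a * g * a⁻¹) : (Cfsg.pResidual p G ⊔ commutator G) ⊓ H = (Cfsg.pResidual p ↥H ⊔ commutator ↥H).map H.subtype := by
  apply le_antisymm
  · rintro x ⟨hx, hxH⟩
    exact ⟨⟨x, hxH⟩, aux H hidx hfus x hxH hx, rfl⟩
  · rw [Subgroup.map_sup]
    refine le_inf (sup_le_sup ?_ ?_) (sup_le (Subgroup.map_subtype_le _) (Subgroup.map_subtype_le _))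
    · unfold Cfsg.pResidual
      rw [MonoidHom.map_closure, Subgroup.closure_le]
      rintro _ ⟨z, hz, rfl⟩
      apply Subgroup.subset_closure
      show Nat.Coprime (orderOf (z : G)) p
      rw [Subgroup.orderOf_coe]; exact hz
    · rw [Subgroup.map_subtype_commutator, commutator_def]
      exact Subgroup.commutator_mono le_top le_top

end Cfsg.Agent.S1242
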