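import Cfsg.Statements.S1451
import Cfsg.Agent.Lib.helper30.FittingRank
import Cfsg.Agent.Lib.lead.Hall
import Cfsg.Agent.S0044

set_option autoImplicit false
open Cfsg

namespace Cfsg.Agent.S1451

open scoped commutatorElement Pointwise
open Cfsg.Agent.Lib.helper30

/-- If the `p'`-elements of `G'` centralize `O_p(G)` for every prime `p`, then every element of `G'`
of prime power order lies in the Fitting subgroup. -/
theorem prime_pow_mem_fitting {G : Type*} [Group G] [Finite G] [Group.IsSolvable G] (q : ℕ)
    [Fact q.Prime]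
    (key : ∀ (p : ℕ) [Fact p.Prime], ∀ c ∈ commutator G, (orderOf c).Coprime p →
      ∀ r ∈ Cfsg.pCore p G, c * r = r * c)
    (x : G) (hx : x ∈ commutator G) (k : ℕ) (hxo : orderOf x = q ^ k) :
    x ∈ Cfsg.fittingSubgroup G := by
  have hqq : q.Prime := Fact.out
  let T : Subgroup G :=
    { carrier := {g | g ∈ commutator G ∧
        ∀ p : ℕ, p.Prime → p ≠ q → ∀ r ∈ Cfsg.pCore p G, g * r = r * g}
      one_mem' := ⟨Subgroup.one_mem _, fun p _ _ r _ => by rw [one_mul, mul_one]⟩
      mul_mem' := by
        rintro a b ⟨ha, ha'⟩ ⟨hb, hb'⟩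
        refine ⟨Subgroup.mul_mem _ ha hb, fun p hp hpq r hr => ?_⟩
        rw [mul_assoc, hb' p hp hpq r hr, ← mul_assoc, ha' p hp hpq r hr, mul_assoc]
      inv_mem' := by
        rintro a ⟨ha, ha'⟩
        refine ⟨Subgroup.inv_mem _ ha, fun p hp hpq r hr => ?_⟩
        have h1 : Commute a r := ha' p hp hpq r hr
        exact h1.inv_left.eq }
  have hTmem : ∀ g : G, g ∈ T ↔ g ∈ commutator G ∧
      ∀ p : ℕ, p.Prime → p ≠ q → ∀ r ∈ Cfsg.pCore p G, g * r = r * g := fun g => Iff.rfl
  have hTn : T.Normal := by
    constructor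
    intro g hg n
    obtain ⟨hg1, hg2⟩ := (hTmem g).mp hg
    refine (hTmem _).mpr ⟨(inferInstance : (commutator G).Normal).conj_mem g hg1 n, ?_⟩
    intro p hp hpq r hr
    have hr' : n⁻¹ * r * n ∈ Cfsg.pCore p G :=
      (Cfsg.Agent.Lib.helper40.pCore_normal' p G).conj_mem' r hr n
    have h1 := hg2 p hp hpq _ hr'
    calc n * g * n⁻¹ * r = n * (g * (n⁻¹ * r * n)) * n⁻¹ := by group
      _ = n * ((n⁻¹ * r * n) * g) * n⁻¹ := by rw [h1]
      _ = r * (n * g * n⁻¹) := by group
  have hxT : x ∈ T := by
    refine (hTmem x).mpr ⟨hx, fun p hp hpq r hr => ?_⟩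
    have : Fact p.Prime := ⟨hp⟩
    apply key p x hx _ r hr
    rw [hxo]
    exact Nat.Coprime.pow_left k ((Nat.coprime_primes hqq hp).mpr (Ne.symm hpq))
  have hTnil : Group.IsNilpotent T := by
    apply isNilpotent_of_pprime_central q
    intro y hy
    have hyT := (hTmem (y : G)).mp y.2
    have hyo : (orderOf (y : G)).Coprime q := by rw [Subgroup.orderOf_coe]; exact hy
    -- `y` centralizes every `O_p(G)`
    have hycore : ∀ p : ℕ, p.Prime → ∀ r ∈ Cfsg.pCore p G, (y : G) * r = r * (y : G) := by
      intro p hp r hr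
      by_cases hpq : p = q
      · subst hpq
        exact key p (y : G) hyT.1 hyo r hr
      · exact hyT.2 p hp hpq r hr
    -- hence `y` centralizes the Fitting subgroup, and so lies in it
    have hyF : (y : G) ∈ Cfsg.fittingSubgroup G := by
      apply Cfsg.Agent.S0044.result
      refine Subgroup.mem_centralizer_iff.mpr ?_
      intro f hf
      have h1 : f ∈ Subgroup.centralizer ({(y : G)} : Set G) := by
        apply mem_of_prime_pow_parts _ f
        intro z hz p j hp hzo
        have : Fact p.Prime := ⟨hp⟩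
        have hzF : z ∈ Cfsg.fittingSubgroup G := (Subgroup.zpowers_le.mpr hf) hz
        refine Subgroup.mem_centralizer_iff.mpr ?_
        intro y' hy'
        rw [Set.mem_singleton_iff] at hy'
        rw [hy']
        exact hycore p hp z (mem_pCore_of_mem_fittingSubgroup p z hzF j hzo)
      exact (Subgroup.mem_centralizer_iff.mp h1 (y : G) rfl).symm
    -- every element of `T` commutes with `y`
    rw [Subgroup.mem_center_iff]
    intro t
    have h1 : (y : G) ∈ Subgroup.centralizer ({(t : G)} : Set G) := by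
      apply mem_of_prime_pow_parts _ (y : G)
      intro z hz p j hp hzo
      have : Fact p.Prime := ⟨hp⟩
      have hzF : z ∈ Cfsg.fittingSubgroup G := (Subgroup.zpowers_le.mpr hyF) hz
      refine Subgroup.mem_centralizer_iff.mpr ?_
      intro t' ht'
      rw [Set.mem_singleton_iff] at ht'
      rw [ht']
      rcases Nat.eq_zero_or_pos j with h0 | hpos
      · rw [h0, pow_zero] at hzo
        rw [orderOf_eq_one_iff.mp hzo, mul_one, one_mul]
      · have hpq : p ≠ q := by
          rintro rfl
          have h2 : p ∣ orderOf z := by rw [hzo]; exact dvd_pow_self p hpos.ne'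
          have h3 : p ∣ orderOf (y : G) := h2.trans (orderOf_dvd_of_mem_zpowers hz)
          exact (Nat.Prime.coprime_iff_not_dvd hp).mp hyo.symm h3
        exact (hTmem (t : G)).mp t.2 |>.2 p hp hpq z (mem_pCore_of_mem_fittingSubgroup p z hzF j hzo)
    have h2 := Subgroup.mem_centralizer_iff.mp h1 (t : G) rfl
    exact Subtype.ext h2
  exact Cfsg.Agent.Lib.helper28.le_fittingSubgroup hTn hTnil hxT

/-- Let G be a solvable group of odd order such that G, or its Fitting subgroup, has no elementary abelian subgroup of order q ^ 3 for any prime q. Then G' is nilpotent; for every Sylow subgroup S of G, every characteristic subgroup T of S with T ≤ [S, S] is normal in G; and for every prime p, G has a characteristic subgroup that is a Hall subgroup for the set of primes greater than p. -/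
theorem result {G : Type*} [Group G] [Finite G] [Group.IsSolvable G] (hodd : Odd (Nat.card G)) (hr : Cfsg.RankLE 2 G ∨ Cfsg.RankLE 2 (Cfsg.fittingSubgroup G)) :
    Group.IsNilpotent ↥(commutator G) ∧
      (∀ (q : ℕ) [Fact q.Prime] (S : Sylow q G) (T : Subgroup ↥(S : Subgroup G)), T.Characteristic → T.map (S : Subgroup G).subtype ≤ ⁅(S : Subgroup G), (S : Subgroup G)⁆ →
        (T.map (S : Subgroup G).subtype).Normal) ∧
      ∀ p : ℕ, ∃ N : Subgroup G, N.Characteristic ∧ Cfsg.IsPiHall {q | q.Prime ∧ p < q} N := by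
  classical
  -- the rank hypothesis for the Fitting subgroup
  have hrF : ∀ p : ℕ, p.Prime → Cfsg.PRankLE p 2 (Cfsg.fittingSubgroup G) := by
    intro p hp
    rcases hr with h | h
    · exact prankLE_subgroup p 2 _ (h p hp)
    · exact h p hp
  have hpCoreF : ∀ (p : ℕ) [Fact p.Prime], Cfsg.pCore p G ≤ Cfsg.fittingSubgroup G := fun p _ =>
    Cfsg.Agent.Lib.helper28.le_fittingSubgroup (Cfsg.Agent.Lib.helper40.pCore_normal' p G)
      (Cfsg.Agent.Lib.helper40.pCore_isPGroup p G).isNilpotent
  have hrP : ∀ (p : ℕ) [Fact p.Prime], Cfsg.PRankLE p 2 (Cfsg.pCore p G) := fun p _ =>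
    prankLE_of_le p 2 (hpCoreF p) (hrF p Fact.out)
  have key : ∀ (p : ℕ) [Fact p.Prime], ∀ c ∈ commutator G, (orderOf c).Coprime p →
      ∀ r ∈ Cfsg.pCore p G, c * r = r * c := fun p _ =>
    commutator_centralizes_pCore hodd p (hrP p)
  -- `G' ≤ F(G)`
  have hGF : commutator G ≤ Cfsg.fittingSubgroup G := by
    intro g hg
    apply mem_of_prime_pow_parts _ g
    intro x hx q k hq hxo
    have : Fact q.Prime := ⟨hq⟩
    exact prime_pow_mem_fitting q key x ((Subgroup.zpowers_le.mpr hg) hx) k hxo
  -- (b)
  have hb : ∀ (q : ℕ) [Fact q.Prime] (S : Sylow q G) (T : Subgroup ↥(S : Subgroup G)),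
      T.Characteristic → T.map (S : Subgroup G).subtype ≤ ⁅(S : Subgroup G), (S : Subgroup G)⁆ →
        (T.map (S : Subgroup G).subtype).Normal := by
    intro q _ S T hTc hTle
    have hT'core : T.map (S : Subgroup G).subtype ≤ Cfsg.pCore q G := by
      intro x hx
      have hxS : x ∈ (S : Subgroup G) := by
        obtain ⟨t, -, rfl⟩ := hx
        exact t.2
      have hxF : x ∈ Cfsg.fittingSubgroup G := by
        apply hGF
        rw [commutator_def]
        exact Subgroup.commutator_mono le_top le_top (hTle hx)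
      obtain ⟨k, hk⟩ := (IsPGroup.iff_orderOf.mp S.isPGroup') ⟨x, hxS⟩
      rw [Subgroup.orderOf_mk] at hk
      exact mem_pCore_of_mem_fittingSubgroup q x hxF k hk
    have hNS : Subgroup.normalizer ((S : Subgroup G) : Set G) ≤
        Subgroup.normalizer ((T.map (S : Subgroup G).subtype : Subgroup G) : Set G) := by
      have hconj : ∀ m ∈ Subgroup.normalizer ((S : Subgroup G) : Set G),
          ∀ x ∈ T.map (S : Subgroup G).subtype, m * x * m⁻¹ ∈ T.map (S : Subgroup G).subtype := by
        intro m hm x hx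
        obtain ⟨t, ht, rfl⟩ := hx
        have h1 := (Subgroup.characteristic_iff_map_eq.mp hTc) (conjAut (S : Subgroup G) m hm)
        have h2 : conjAut (S : Subgroup G) m hm t ∈ T := by
          rw [← h1]
          exact ⟨t, ht, rfl⟩
        exact ⟨conjAut (S : Subgroup G) m hm t, h2, rfl⟩
      intro n hn
      apply mem_normalizer_of_conj
      · exact hconj n hn
      · intro x hx
        have := hconj n⁻¹ (Subgroup.inv_mem _ hn) x hx
        rwa [inv_inv] at this
    have hFN : Cfsg.fittingSubgroup G ≤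
        Subgroup.normalizer ((T.map (S : Subgroup G).subtype : Subgroup G) : Set G) := by
      intro f hf
      apply mem_of_prime_pow_parts _ f
      intro z hz p k hp hzo
      have : Fact p.Prime := ⟨hp⟩
      have hzF : z ∈ Cfsg.fittingSubgroup G := (Subgroup.zpowers_le.mpr hf) hz
      have hzp := mem_pCore_of_mem_fittingSubgroup p z hzF k hzo
      by_cases hpq : p = q
      · subst hpq
        have hPn := Cfsg.Agent.Lib.helper40.pCore_normal' p G
        have hzS : z ∈ (S : Subgroup G) :=
          (Cfsg.Agent.Lib.helper40.pCore_isPGroup p G).le_sylow_of_normal S hzp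
        exact hNS (Subgroup.le_normalizer hzS)
      · apply mem_normalizer_of_conj
        · intro x hx
          have h1 := pCore_commute p q hpq z x hzp (hT'core hx)
          rw [h1, mul_inv_cancel_right]
          exact hx
        · intro x hx
          have h1 := pCore_commute p q hpq z x hzp (hT'core hx)
          rw [mul_assoc, ← h1, inv_mul_cancel_left]
          exact hx
    have hMn : ((S : Subgroup G) ⊔ Cfsg.fittingSubgroup G).Normal :=
      normal_of_commutator_le _ (hGF.trans le_sup_right)
    have hfr := Sylow.normalizer_sup_eq_top (S.subtype (le_sup_left :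
      (S : Subgroup G) ≤ (S : Subgroup G) ⊔ Cfsg.fittingSubgroup G))
    rw [Sylow.coe_subtype, Subgroup.map_subgroupOf_eq_of_le le_sup_left] at hfr
    rw [← Subgroup.normalizer_eq_top_iff, eq_top_iff, ← hfr]
    exact sup_le hNS (sup_le (Subgroup.le_normalizer.trans hNS) hFN)
  -- (c)
  have hc : ∀ p : ℕ, ∃ N : Subgroup G, N.Characteristic ∧
      Cfsg.IsPiHall {q | q.Prime ∧ p < q} N := by
    intro p
    obtain ⟨H, hH⟩ := Cfsg.Agent.Lib.lead.exists_isPiHall_of_isSolvable {q | q.Prime ∧ p < q} G
    have hHpr : ∀ s : ℕ, s.Prime → s ∣ Nat.card H → p < s := fun s hs hd => (hH.1 s hs hd).2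
    have hcent : ∀ r : ℕ, r.Prime → r ≤ p → ∀ h ∈ H, ∀ x ∈ Cfsg.pCore r G, h * x = x * h := by
      intro r hr hrp
      have : Fact r.Prime := ⟨hr⟩
      exact centralizes_pCore_of_large_primes hodd r (hrP r) H
        (fun s hs hd => lt_of_le_of_lt hrp (hHpr s hs hd))
    have hcard_core : ∀ (r : ℕ) [Fact r.Prime], ∀ s : ℕ, s.Prime →
        s ∣ Nat.card (Cfsg.pCore r G) → s = r := by
      intro r _ s hs hsd
      obtain ⟨k, hk⟩ := IsPGroup.iff_card.mp (Cfsg.Agent.Lib.helper40.pCore_isPGroup r G)
      rw [hk] at hsd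
      exact (Nat.prime_dvd_prime_iff_eq hs Fact.out).mp (hs.dvd_of_dvd_pow hsd)
    have hle : ∀ r : ℕ, r.Prime → p < r → Cfsg.pCore r G ≤ H := by
      intro r hr hpr
      have : Fact r.Prime := ⟨hr⟩
      have := Cfsg.Agent.Lib.helper40.pCore_normal' r G
      apply Cfsg.Agent.Lib.lead.normal_le_of_isPiHall hH
      intro s hs hsd
      rw [hcard_core r s hs hsd]
      exact ⟨hr, hpr⟩
    have hLn : (Cfsg.fittingSubgroup G ⊓ Cfsg.piCore {q | q.Prime ∧ q ≤ p} G).Normal :=
      Subgroup.normal_inf_normal _ _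
    have hLpi : ∀ s : ℕ, s.Prime →
        s ∣ Nat.card (Cfsg.fittingSubgroup G ⊓ Cfsg.piCore {q | q.Prime ∧ q ≤ p} G : Subgroup G) →
        s ≤ p := by
      intro s hs hsd
      have h1 := Cfsg.Agent.Lib.helper65.piCore_isPiGrp (G := G) {q | q.Prime ∧ q ≤ p} s hs
        (hsd.trans (Subgroup.card_dvd_of_le inf_le_right))
      exact h1.2
    have hHL : ∀ h ∈ H, ∀ f ∈ Cfsg.fittingSubgroup G ⊓ Cfsg.piCore {q | q.Prime ∧ q ≤ p} G,
        h * f = f * h := by
      intro h hh f hf
      have h1 : f ∈ Subgroup.centralizer ({h} : Set G) := by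
        apply mem_of_prime_pow_parts _ f
        intro z hz r k hr hzo
        have : Fact r.Prime := ⟨hr⟩
        have hzL := (Subgroup.zpowers_le.mpr hf) hz
        refine Subgroup.mem_centralizer_iff.mpr ?_
        intro h' hh'
        rw [Set.mem_singleton_iff] at hh'
        rw [hh']
        rcases Nat.eq_zero_or_pos k with h0 | hpos
        · rw [h0, pow_zero] at hzo
          rw [orderOf_eq_one_iff.mp hzo, mul_one, one_mul]
        · have hrd : r ∣ Nat.card (Cfsg.fittingSubgroup G ⊓
              Cfsg.piCore {q | q.Prime ∧ q ≤ p} G : Subgroup G) := by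
            have h2 : r ∣ orderOf z := by rw [hzo]; exact dvd_pow_self r hpos.ne'
            exact h2.trans (Subgroup.orderOf_dvd_natCard _ hzL)
          exact hcent r hr (hLpi r hr hrd) h hh z
            (mem_pCore_of_mem_fittingSubgroup r z hzL.1 k hzo)
      exact Subgroup.mem_centralizer_iff.mp h1 h rfl
    have hFHL : Cfsg.fittingSubgroup G ≤
        H ⊔ (Cfsg.fittingSubgroup G ⊓ Cfsg.piCore {q | q.Prime ∧ q ≤ p} G) := by
      intro f hf
      apply mem_of_prime_pow_parts _ f
      intro z hz r k hr hzo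
      have : Fact r.Prime := ⟨hr⟩
      have hzF : z ∈ Cfsg.fittingSubgroup G := (Subgroup.zpowers_le.mpr hf) hz
      have hzr := mem_pCore_of_mem_fittingSubgroup r z hzF k hzo
      rcases Nat.lt_or_ge p r with h | h
      · exact (le_sup_left : H ≤ _) (hle r hr h hzr)
      · apply (le_sup_right : _ ≤ H ⊔ _)
        refine ⟨hzF, ?_⟩
        have h1 : Cfsg.pCore r G ≤ Cfsg.piCore {q | q.Prime ∧ q ≤ p} G := by
          apply le_sSup
          refine ⟨Cfsg.Agent.Lib.helper40.pCore_normal' r G, ?_⟩
          intro s hs hsd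
          rw [hcard_core r s hs hsd]
          exact ⟨hr, h⟩
        exact h1 hzr
    have hHn : H.Normal := by
      constructor
      intro h hh g
      have hy : g * h * g⁻¹ ∈
          H ⊔ (Cfsg.fittingSubgroup G ⊓ Cfsg.piCore {q | q.Prime ∧ q ≤ p} G) := by
        have e1 : g * h * g⁻¹ = (g * h * g⁻¹ * h⁻¹) * h := by group
        rw [e1]
        refine Subgroup.mul_mem _ ?_ ((le_sup_left : H ≤ _) hh)
        apply hFHL
        apply hGF
        rw [commutator_def, ← commutatorElement_def]
        exact Subgroup.commutator_mem_commutator (Subgroup.mem_top g) (Subgroup.mem_top h)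
      have hmul := Subgroup.mul_normal H
        (Cfsg.fittingSubgroup G ⊓ Cfsg.piCore {q | q.Prime ∧ q ≤ p} G)
      have hy' : g * h * g⁻¹ ∈ ((H : Set G) *
          ((Cfsg.fittingSubgroup G ⊓ Cfsg.piCore {q | q.Prime ∧ q ≤ p} G : Subgroup G) : Set G)) := by
        rw [← hmul]
        exact hy
      obtain ⟨h', hh', f', hf', hyeq⟩ := Set.mem_mul.mp hy'
      have hcomm : Commute h' f' := hHL h' hh' f' hf'
      have hpow : f' ^ (orderOf h' * orderOf (g * h * g⁻¹)) = 1 := by
        have h1 : (h' * f') ^ (orderOf h' * orderOf (g * h * g⁻¹))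
            = h' ^ (orderOf h' * orderOf (g * h * g⁻¹))
              * f' ^ (orderOf h' * orderOf (g * h * g⁻¹)) := hcomm.mul_pow _
        have h2 : (h' * f') ^ (orderOf h' * orderOf (g * h * g⁻¹)) = 1 := by
          rw [hyeq, mul_comm, pow_mul, pow_orderOf_eq_one, one_pow]
        have h3 : h' ^ (orderOf h' * orderOf (g * h * g⁻¹)) = 1 := by
          rw [pow_mul, pow_orderOf_eq_one, one_pow]
        rw [h2, h3, one_mul] at h1
        exact h1.symm
      have hf1 : f' = 1 := by
        by_contra hne
        have hne1 : orderOf f' ≠ 1 := fun h0 => hne (orderOf_eq_one_iff.mp h0)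
        obtain ⟨s, hs, hsd⟩ := Nat.exists_prime_and_dvd hne1
        have hsL : s ≤ p := hLpi s hs (hsd.trans (Subgroup.orderOf_dvd_natCard _ hf'))
        have hsm : s ∣ orderOf h' * orderOf (g * h * g⁻¹) :=
          hsd.trans (orderOf_dvd_of_pow_eq_one hpow)
        have hsH : s ∣ Nat.card H := by
          rcases (Nat.Prime.dvd_mul hs).mp hsm with h1 | h1
          · exact h1.trans (Subgroup.orderOf_dvd_natCard H hh')
          · have h2 : orderOf (g * h * g⁻¹) = orderOf h := by
              have := (MulAut.conj g).orderOf_eq h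
              rwa [MulAut.conj_apply] at this
            rw [h2] at h1
            exact h1.trans (Subgroup.orderOf_dvd_natCard H hh)
        exact absurd (hHpr s hs hsH) (not_lt.mpr hsL)
      rw [← hyeq, hf1, mul_one]
      exact hh'
    have hHc : H.Characteristic := by
      rw [Subgroup.characteristic_iff_map_le]
      intro φ
      have : (H.map φ.toMonoidHom).Normal := hHn.map φ.toMonoidHom φ.surjective
      apply Cfsg.Agent.Lib.lead.normal_le_of_isPiHall hH
      intro s hs hsd
      rw [Subgroup.card_map_of_injective φ.injective] at hsd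
      exact hH.1 s hs hsd
    exact ⟨H, hHc, hH⟩
  exact ⟨Cfsg.Agent.Lib.helper28.isNilpotent_of_le_fittingSubgroup hGF, hb, hc⟩

end Cfsg.Agent.S1451
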