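import Cfsg.Statements.S1452
import Cfsg.Agent.Lib.helper30.OmegaCent

set_option autoImplicit false
open Cfsg

namespace Cfsg.Agent.S1452

/-- Let p be an odd prime and R a finite p-group containing an elementary abelian subgroup of order p ^ 3. If E is a normal elementary abelian subgroup of R of order p ^ 2, then E ≤ A for some normal subgroup A of R with C_R(A) = A that contains an elementary abelian subgroup of order p ^ 3. -/
theorem result {R : Type*} [Group R] [Finite R] (p : ℕ) [Fact p.Prime] (hp : p ≠ 2) (hR : IsPGroup p R) (hr : ¬ Cfsg.PRankLE p 2 R)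
    (E : Subgroup R) [E.Normal] (hE : Cfsg.IsElementaryAbelian p E) (hE2 : Nat.card E = p ^ 2) :
    ∃ A : Subgroup R, E ≤ A ∧ A.Normal ∧ Subgroup.centralizer (A : Set R) = A ∧ ¬ Cfsg.PRankLE p 2 A := by
  have hnil : Group.IsNilpotent R := hR.isNilpotent
  have hEab : ∀ x ∈ E, ∀ y ∈ E, x * y = y * x :=
    fun x hx y hy => congrArg Subtype.val (isMulCommutative_iff.mp hE.1 ⟨x, hx⟩ ⟨y, hy⟩)
  obtain ⟨D, hED, hDn, hDab, hDexp, -, hDcard⟩ :=
    Cfsg.Agent.Lib.helper30.exists_max_normal_elemAb_large p hp hR hr E inferInstance hEab hE.2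
  obtain ⟨A, hDA, hAn, -, hAC⟩ :=
    Cfsg.Agent.Lib.helper30.exists_normal_abelian_selfcentralizing D hDn hDab
  refine ⟨A, hED.trans hDA, hAn, hAC, ?_⟩
  intro hrA
  have h1 := hrA (D.subgroupOf A) ?_ ?_
  · rw [Nat.card_congr (Subgroup.subgroupOfEquivOfLe hDA).toEquiv] at h1
    omega
  · rw [isMulCommutative_iff]
    intro u v
    apply Subtype.ext
    apply Subtype.ext
    exact hDab _ (Subgroup.mem_subgroupOf.mp u.2) _ (Subgroup.mem_subgroupOf.mp v.2)
  · intro u hu
    apply Subtype.ext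
    rw [Subgroup.coe_pow]
    exact hDexp _ (Subgroup.mem_subgroupOf.mp hu)

end Cfsg.Agent.S1452
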