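import Cfsg.Statements.S1453
import Cfsg.Agent.Lib.helper30.NarrowP

set_option autoImplicit false
open Cfsg

namespace Cfsg.Agent.S1453

/-- Let p be an odd prime and R a finite p-group with an elementary abelian subgroup of order p ^ 3 and an elementary abelian subgroup E of order p ^ 2 contained in no larger elementary abelian subgroup. Let Z₂ be the second centre of R, W the subgroup generated by the elements of Z₂ of order dividing p, and T = C_R(W). Then E is not contained in T; the elements of order dividing p of the centre of R generate a group of order p; W is elementary abelian of order p ^ 2; and T is characteristic in R of index p. -/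
theorem result {R : Type*} [Group R] [Finite R] (p : ℕ) [Fact p.Prime] (hp : p ≠ 2) (hR : IsPGroup p R) (hr : ¬ Cfsg.PRankLE p 2 R)
    (E : Subgroup R) (hE : Cfsg.IsElementaryAbelian p E) (hE2 : Nat.card E = p ^ 2)
    (hEmax : ∀ B : Subgroup R, Cfsg.IsElementaryAbelian p B → E ≤ B → B = E) :
    ¬ E ≤ Subgroup.centralizer ((Subgroup.closure {x : R | x ∈ Subgroup.upperCentralSeries R 2 ∧ x ^ p = 1} : Subgroup R) : Set R) ∧
      Nat.card ↥(Subgroup.closure {x : R | x ∈ Subgroup.center R ∧ x ^ p = 1}) = p ∧
      (Cfsg.IsElementaryAbelian p (Subgroup.closure {x : R | x ∈ Subgroup.upperCentralSeries R 2 ∧ x ^ p = 1}) ∧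
        Nat.card ↥(Subgroup.closure {x : R | x ∈ Subgroup.upperCentralSeries R 2 ∧ x ^ p = 1}) = p ^ 2) ∧
      (Subgroup.centralizer ((Subgroup.closure {x : R | x ∈ Subgroup.upperCentralSeries R 2 ∧ x ^ p = 1} : Subgroup R) : Set R)).Characteristic ∧
      (Subgroup.centralizer ((Subgroup.closure {x : R | x ∈ Subgroup.upperCentralSeries R 2 ∧ x ^ p = 1} : Subgroup R) : Set R)).index = p := by
  have hpp : p.Prime := Fact.out
  have hEab : ∀ x ∈ E, ∀ y ∈ E, x * y = y * x :=
    fun x hx y hy => congrArg Subtype.val (isMulCommutative_iff.mp hE.1 ⟨x, hx⟩ ⟨y, hy⟩)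
  have hEexp : ∀ x ∈ E, x ^ p = 1 := hE.2
  -- elements of order `p` centralizing `E` lie in `E`
  have hext : ∀ x : R, x ^ p = 1 → (∀ e ∈ E, x * e = e * x) → x ∈ E := by
    intro x hxp hxE
    have hcomm : ∀ s ∈ (E : Set R) ∪ {x}, ∀ t ∈ (E : Set R) ∪ {x}, s * t = t * s := by
      rintro s (hs | hs) t (ht | ht)
      · exact hEab s hs t ht
      · rw [Set.mem_singleton_iff] at ht
        subst ht
        exact (hxE s hs).symm
      · rw [Set.mem_singleton_iff] at hs
        subst hs
        exact hxE t ht
      · rw [Set.mem_singleton_iff] at hs ht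
        subst hs
        subst ht
        rfl
    have hexp : ∀ s ∈ (E : Set R) ∪ {x}, s ^ p = 1 := by
      rintro s (hs | hs)
      · exact hEexp s hs
      · rw [Set.mem_singleton_iff] at hs
        subst hs
        exact hxp
    have hB : Cfsg.IsElementaryAbelian p (Subgroup.closure ((E : Set R) ∪ {x})) := by
      refine ⟨?_, Cfsg.Agent.Lib.helper30.closure_exp_of_comm p _ hcomm hexp⟩
      rw [isMulCommutative_iff]
      intro u v
      apply Subtype.ext
      exact Cfsg.Agent.Lib.helper30.closure_comm _ hcomm _ u.2 _ v.2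
    have := hEmax _ hB (fun e he => Subgroup.subset_closure (Or.inl he))
    rw [← this]
    exact Subgroup.subset_closure (Or.inr rfl)
  -- the subgroups `Z` and `W`
  obtain ⟨Z, hZ⟩ := Cfsg.Agent.Lib.helper30.exists_omega p hp (Subgroup.center R) (by
    intro x hx y hy z hz
    exact Subgroup.mem_center_iff.mp hz _)
  obtain ⟨W, hW⟩ := Cfsg.Agent.Lib.helper30.exists_omega p hp (Subgroup.upperCentralSeries R 2) (by
    intro x hx y hy z hz
    have h1 := (Cfsg.Agent.Lib.helper30.mem_ucs_two x).mp hx y
    exact (Subgroup.mem_center_iff.mp h1 z).symm)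
  have hZeq : Subgroup.closure {x : R | x ∈ Subgroup.center R ∧ x ^ p = 1} = Z :=
    le_antisymm ((Subgroup.closure_le _).mpr (fun x hx => (hZ x).mpr hx))
      (fun x hx => Subgroup.subset_closure ((hZ x).mp hx))
  have hWeq : Subgroup.closure {x : R | x ∈ Subgroup.upperCentralSeries R 2 ∧ x ^ p = 1} = W :=
    le_antisymm ((Subgroup.closure_le _).mpr (fun x hx => (hW x).mpr hx))
      (fun x hx => Subgroup.subset_closure ((hW x).mp hx))
  rw [hZeq, hWeq]
  obtain ⟨hZcard, hWcard, hET, hidx, -, -, -, -⟩ :=
    Cfsg.Agent.Lib.helper30.narrow_core p hp hR hr E hEab hE2 hext Z W hZ hW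
  refine ⟨hET, hZcard, ⟨⟨?_, fun w hw => ((hW w).mp hw).2⟩, hWcard⟩, ?_, hidx⟩
  · exact IsPGroup.isMulCommutative_of_card_eq_prime_sq hWcard
  · have hWchar : W.Characteristic := by
      rw [Subgroup.characteristic_iff_le_comap]
      intro φ w hw
      rw [Subgroup.mem_comap, hW]
      obtain ⟨hw2, hwp⟩ := (hW w).mp hw
      refine ⟨?_, ?_⟩
      · have h1 : (Subgroup.upperCentralSeries R 2).Characteristic := inferInstance
        exact Subgroup.characteristic_iff_le_comap.mp h1 φ hw2
      · show (φ w) ^ p = 1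
        rw [← map_pow, hwp, map_one]
    infer_instance

end Cfsg.Agent.S1453
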