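import Cfsg.Statements.S0031
-- import your own Cfsg.Agent.* helpers here

set_option autoImplicit false
open Cfsg

namespace Cfsg.Agent.S0031

/-- A fixed-point-free automorphism of a finite group maps some Sylow p-subgroup to itself. -/
theorem result {G : Type*} [Group G] [Finite G] (φ : G ≃* G)
    (hφ : MonoidHom.FixedPointFree (φ : G →* G)) (p : ℕ) [Fact p.Prime] :
    ∃ P : Sylow p G, (P : Subgroup G).map (φ : G →* G) = P := by
  classical
  obtain ⟨P⟩ : Nonempty (Sylow p G) := inferInstance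
  let ψ : MulAut G := φ
  obtain ⟨g, hg⟩ := MulAction.exists_smul_eq G (ψ • P) P
  obtain ⟨y, hy⟩ := hφ.commutatorMap_surjective g
  have hy' : y / φ y = g := hy
  refine ⟨(MulAut.conj y⁻¹) • P, ?_⟩
  have h1 : ψ • P = MulAut.conj g⁻¹ • P := by
    conv_rhs => rw [← hg]
    rw [Sylow.smul_def, ← mul_smul, ← map_mul]; simp
  have h2 : ψ * MulAut.conj y⁻¹ = MulAut.conj (φ y⁻¹) * ψ := by
    ext z; simp [ψ]
  have h3 : ψ • (MulAut.conj y⁻¹ • P) = MulAut.conj y⁻¹ • P := by
    rw [← mul_smul, h2, mul_smul, h1, ← mul_smul, ← map_mul]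
    congr 2
    rw [← hy']
    simp [div_eq_mul_inv]
  have := congrArg (fun Q : Sylow p G => (Q : Subgroup G)) h3
  exact this

end Cfsg.Agent.S0031
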