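import Cfsg.Statements.S1442
import Cfsg.Agent.S1441

set_option autoImplicit false
open Cfsg

namespace Cfsg.Agent.S1442

/-- Let G be a finite group, H a nilpotent subgroup and A a subgroup normalizing H with the orders of A and H coprime. Put C = H ∩ C_G(A). If H ∩ C_G(C) ≤ C then A centralizes H. -/
theorem result {G : Type*} [Group G] [Finite G] (H A : Subgroup G) (hH : Group.IsNilpotent H) (hA : (A ≤ Subgroup.normalizer (H : Set G))) (hcop : (Nat.card A).Coprime (Nat.card H))
    (hC : H ⊓ Subgroup.centralizer (((H ⊓ Subgroup.centralizer (A : Set G)) : Subgroup G) : Set G) ≤ (H ⊓ Subgroup.centralizer (A : Set G))) :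
    A ≤ Subgroup.centralizer (H : Set G) := by
  classical
  set C : Subgroup G := H ⊓ Subgroup.centralizer (A : Set G) with hCdef
  -- the normalizer of `C` in `H` is contained in `C`
  have hnorm : Subgroup.normalizer ((C.subgroupOf H : Subgroup H) : Set H) = C.subgroupOf H := by
    apply le_antisymm _ Subgroup.le_normalizer
    intro n hn
    rw [Subgroup.mem_subgroupOf, hCdef, Subgroup.mem_inf]
    refine ⟨n.2, ?_⟩
    rw [Subgroup.mem_centralizer_iff]
    intro a haA
    -- z = n a n⁻¹ a⁻¹
    have hanorm := hA haA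
    have hzH : (n : G) * a * (n : G)⁻¹ * a⁻¹ ∈ H := by
      have h1 : a * (n : G)⁻¹ * a⁻¹ ∈ H :=
        (Subgroup.mem_normalizer_iff.mp hanorm _).mp (H.inv_mem n.2)
      have h2 : (n : G) * a * (n : G)⁻¹ * a⁻¹ = (n : G) * (a * (n : G)⁻¹ * a⁻¹) := by group
      rw [h2]
      exact H.mul_mem n.2 h1
    have hconj : ∀ c ∈ C, (n : G)⁻¹ * c * (n : G) ∈ C := by
      intro c hc
      have hcH : c ∈ H := (Subgroup.mem_inf.mp hc).1
      have := (Subgroup.mem_normalizer_iff''.mp hn ⟨c, hcH⟩).mp (by rw [Subgroup.mem_subgroupOf]; exact hc)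
      rw [Subgroup.mem_subgroupOf] at this
      simpa using this
    have hzcent : (n : G) * a * (n : G)⁻¹ * a⁻¹ ∈ Subgroup.centralizer ((C : Subgroup G) : Set G) := by
      rw [Subgroup.mem_centralizer_iff]
      intro c hc
      have hc' : c ∈ C := hc
      have hca : a * c = c * a := by
        have := (Subgroup.mem_inf.mp hc').2
        rw [Subgroup.mem_centralizer_iff] at this
        exact this a haA
      have hca' : a * ((n : G)⁻¹ * c * (n : G)) = ((n : G)⁻¹ * c * (n : G)) * a := by
        have := (Subgroup.mem_inf.mp (hconj c hc')).2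
        rw [Subgroup.mem_centralizer_iff] at this
        exact this a haA
      have hca2 : a⁻¹ * c = c * a⁻¹ := by
        have : c = a * c * a⁻¹ := by rw [hca]; group
        calc a⁻¹ * c = a⁻¹ * (a * c * a⁻¹) := by rw [← this]
          _ = c * a⁻¹ := by group
      calc c * ((n : G) * a * (n : G)⁻¹ * a⁻¹)
          = (n : G) * (((n : G)⁻¹ * c * (n : G)) * a) * (n : G)⁻¹ * a⁻¹ := by group
        _ = (n : G) * (a * ((n : G)⁻¹ * c * (n : G))) * (n : G)⁻¹ * a⁻¹ := by rw [hca']
        _ = (n : G) * a * (n : G)⁻¹ * (c * a⁻¹) := by group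
        _ = (n : G) * a * (n : G)⁻¹ * (a⁻¹ * c) := by rw [hca2]
        _ = (n : G) * a * (n : G)⁻¹ * a⁻¹ * c := by group
    have hzC : (n : G) * a * (n : G)⁻¹ * a⁻¹ ∈ C := hC (Subgroup.mem_inf.mpr ⟨hzH, hzcent⟩)
    have hza : a * ((n : G) * a * (n : G)⁻¹ * a⁻¹) = ((n : G) * a * (n : G)⁻¹ * a⁻¹) * a := by
      have := (Subgroup.mem_inf.mp hzC).2
      rw [Subgroup.mem_centralizer_iff] at this
      exact this a haA
    have hcop' : (orderOf a).Coprime (orderOf ((n : G) * a * (n : G)⁻¹ * a⁻¹)) := by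
      apply Nat.Coprime.coprime_dvd_left (Subgroup.orderOf_dvd_natCard A haA)
      apply Nat.Coprime.coprime_dvd_right (Subgroup.orderOf_dvd_natCard H hzH)
      exact hcop
    have hz1 := Cfsg.Agent.S1441.comm_eq_one_of_coprime a (n : G) _ rfl hza hcop'
    have h2 : (n : G) * a = ((n : G) * a * (n : G)⁻¹ * a⁻¹) * (a * (n : G)) := by group
    rw [h2, hz1, one_mul]
  have hnc : NormalizerCondition H := Group.normalizerCondition_of_isNilpotent
  have htop : C.subgroupOf H = ⊤ :=
    (normalizerCondition_iff_only_full_group_self_normalizing.mp hnc) _ hnorm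
  have hHC : H ≤ C := by
    rw [Subgroup.subgroupOf_eq_top] at htop
    exact htop
  rw [Subgroup.le_centralizer_iff]
  exact hHC.trans inf_le_right

end Cfsg.Agent.S1442
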