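import Cfsg.Statements.S1459
import Mathlib
import Cfsg.Agent.S1477
import Cfsg.Agent.Lib.helper28.Fitting
import Cfsg.Agent.Lib.helper40.Cores
-- import your own Cfsg.Agent.* helpers here

set_option autoImplicit false
open Cfsg

namespace Cfsg.Agent.S1459

open scoped commutatorElement

universe u

/-- conjugation by elements of `H` or `K` preserves `⁅H, K⁆` when `H` is normal -/
theorem conj_mem_comm {G : Type*} [Group G] (H K : Subgroup G) [hHn : H.Normal] (x : G)
    (hx : x ∈ H ∨ x ∈ K) : ∀ n ∈ ⁅H, K⁆, x * n * x⁻¹ ∈ ⁅H, K⁆ := by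
  have hle : ⁅H, K⁆ ≤ (⁅H, K⁆).comap (MulAut.conj x).toMonoidHom := by
    rw [Subgroup.commutator_le]
    intro y hy z hz
    show x * ⁅y, z⁆ * x⁻¹ ∈ ⁅H, K⁆
    rcases hx with hx | hx
    · have h1 : x * ⁅y, z⁆ * x⁻¹ = ⁅x * y, z⁆ * ⁅x, z⁆⁻¹ := by
        simp only [commutatorElement_def]; group
      rw [h1]
      exact Subgroup.mul_mem _ (Subgroup.commutator_mem_commutator (H.mul_mem hx hy) hz)
        (Subgroup.inv_mem _ (Subgroup.commutator_mem_commutator hx hz))
    · have h1 : x * ⁅y, z⁆ * x⁻¹ = ⁅x * y * x⁻¹, x * z * x⁻¹⁆ := by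
        simp only [commutatorElement_def]; group
      rw [h1]
      exact Subgroup.commutator_mem_commutator (hHn.conj_mem y hy x)
        (K.mul_mem (K.mul_mem hx hz) (K.inv_mem hx))
  intro n hn
  exact hle hn

theorem comm_normal {G : Type*} [Group G] (H K : Subgroup G) [hHn : H.Normal]
    (hsup : ∀ g : G, ∃ h ∈ H, ∃ k ∈ K, g = h * k) : (⁅H, K⁆).Normal := by
  refine ⟨fun n hn g => ?_⟩
  obtain ⟨h, hh, k, hk, rfl⟩ := hsup g
  have h1 := conj_mem_comm H K k (Or.inr hk) n hn
  have h2 := conj_mem_comm H K h (Or.inl hh) _ h1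
  have h3 : h * k * n * (h * k)⁻¹ = h * (k * n * k⁻¹) * h⁻¹ := by group
  rw [h3]; exact h2

theorem part_a1 {G : Type*} [Group G] [Finite G] [Group.IsSolvable G] (H K : Subgroup G)
    [hHn : H.Normal] (hHK : Subgroup.IsComplement' H K) (hH : H ≤ commutator G) :
    H = ⁅H, K⁆ := by
  have hsup : ∀ g : G, ∃ h ∈ H, ∃ k ∈ K, g = h * k := by
    intro g
    obtain ⟨⟨⟨h, hh⟩, ⟨k, hk⟩⟩, hg⟩ := hHK.2 g
    exact ⟨h, hh, k, hk, hg.symm⟩
  have hNn : (⁅H, K⁆).Normal := comm_normal H K hsup
  have hNH : ⁅H, K⁆ ≤ H := Subgroup.commutator_le_left H K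
  have hLn : (K ⊔ ⁅H, K⁆).Normal := by
    refine ⟨fun x hx g => ?_⟩
    obtain ⟨k, hk, n, hn, rfl⟩ := Subgroup.mem_sup_of_normal_right.mp hx
    obtain ⟨h, hh, k', hk', rfl⟩ := hsup g
    have h1 : h * k' * (k * n) * (h * k')⁻¹
        = ⁅h, k' * k * k'⁻¹⁆ * (k' * k * k'⁻¹) * (h * k' * n * (h * k')⁻¹) := by
      simp only [commutatorElement_def]; group
    rw [h1]
    have hk'' : k' * k * k'⁻¹ ∈ K := K.mul_mem (K.mul_mem hk' hk) (K.inv_mem hk')
    refine Subgroup.mul_mem _ (Subgroup.mul_mem _ ?_ ?_) ?_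
    · exact (le_sup_right : ⁅H, K⁆ ≤ K ⊔ ⁅H, K⁆) (Subgroup.commutator_mem_commutator hh hk'')
    · exact (le_sup_left : K ≤ K ⊔ ⁅H, K⁆) hk''
    · exact (le_sup_right : ⁅H, K⁆ ≤ K ⊔ ⁅H, K⁆) (hNn.conj_mem n hn _)
  have hperf : commutator (G ⧸ (K ⊔ ⁅H, K⁆)) = ⊤ := by
    rw [eq_top_iff]
    intro b _
    obtain ⟨g, rfl⟩ := QuotientGroup.mk'_surjective (K ⊔ ⁅H, K⁆) b
    obtain ⟨h, hh, k, hk, rfl⟩ := hsup g
    have h1 : QuotientGroup.mk' (K ⊔ ⁅H, K⁆) (h * k) = QuotientGroup.mk' (K ⊔ ⁅H, K⁆) h := by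
      rw [map_mul]
      have h0 : QuotientGroup.mk' (K ⊔ ⁅H, K⁆) k = 1 :=
        (QuotientGroup.eq_one_iff k).mpr ((le_sup_left : K ≤ K ⊔ ⁅H, K⁆) hk)
      rw [h0, mul_one]
    rw [h1]
    have h2 : (commutator G).map (QuotientGroup.mk' (K ⊔ ⁅H, K⁆))
        ≤ commutator (G ⧸ (K ⊔ ⁅H, K⁆)) := by
      rw [commutator_def, commutator_def, Subgroup.map_commutator]
      exact Subgroup.commutator_mono le_top le_top
    exact h2 ⟨h, hH hh, rfl⟩
  have htriv : ∀ g : G, g ∈ K ⊔ ⁅H, K⁆ := by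
    by_contra hne
    push Not at hne
    obtain ⟨g, hg⟩ := hne
    have hnt : Nontrivial (G ⧸ (K ⊔ ⁅H, K⁆)) := by
      refine ⟨⟨QuotientGroup.mk' (K ⊔ ⁅H, K⁆) g, 1, ?_⟩⟩
      intro h
      exact hg ((QuotientGroup.eq_one_iff g).mp h)
    have h3 := Group.IsSolvable.commutator_lt_top_of_nontrivial (G ⧸ (K ⊔ ⁅H, K⁆))
    rw [hperf] at h3
    exact lt_irrefl _ h3
  apply le_antisymm _ hNH
  intro h hh
  obtain ⟨k, hk, n, hn, hkn⟩ := Subgroup.mem_sup_of_normal_right.mp (htriv h)
  have hkH : k ∈ H := by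
    have h4 : k = h * n⁻¹ := by rw [← hkn]; group
    rw [h4]; exact H.mul_mem hh (H.inv_mem (hNH hn))
  have hk1 : k = 1 := by
    have h5 : k ∈ H ⊓ K := ⟨hkH, hk⟩
    rw [hHK.disjoint.eq_bot, Subgroup.mem_bot] at h5
    exact h5
  rw [← hkn, hk1, one_mul]; exact hn

theorem part_a2 {G : Type*} [Group G] [Finite G] (H K : Subgroup G)
    [hHn : H.Normal] (hcop : (Nat.card H).Coprime (Nat.card K)) (hHeq : H = ⁅H, K⁆) :
    H ⊓ Subgroup.centralizer (K : Set G) ≤ ⁅H, H⁆ := by
  classical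
  have _instK : Fintype K := Fintype.ofFinite K
  let τ : H →* Abelianization H :=
    ∏ k : K, (Abelianization.of.comp (MulAut.conjNormal (k : G) : MulAut H).toMonoidHom)
  have hτ : ∀ h : H, τ h = ∏ k : K, Abelianization.of (MulAut.conjNormal (k : G) h) := by
    intro h
    simp only [τ, MonoidHom.finsetProd_apply]
    rfl
  have hinv : ∀ (k₀ : K) (h : H), τ (MulAut.conjNormal (k₀ : G) h) = τ h := by
    intro k₀ h
    rw [hτ, hτ]
    refine Fintype.prod_equiv (Equiv.mulRight k₀) _ _ ?_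
    intro k
    show Abelianization.of (MulAut.conjNormal (k : G) (MulAut.conjNormal (k₀ : G) h))
      = Abelianization.of (MulAut.conjNormal ((k * k₀ : K) : G) h)
    rw [Subgroup.coe_mul, map_mul]; rfl
  have hker : ⁅H, K⁆ ≤ (τ.ker).map H.subtype := by
    rw [Subgroup.commutator_le]
    intro h hh k hk
    refine ⟨⟨h, hh⟩ * (MulAut.conjNormal k (⟨h, hh⟩ : H))⁻¹, ?_, ?_⟩
    · have h0 := hinv ⟨k, hk⟩ ⟨h, hh⟩
      show τ (⟨h, hh⟩ * (MulAut.conjNormal k (⟨h, hh⟩ : H))⁻¹) = 1
      rw [map_mul, map_inv, h0, mul_inv_cancel]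
    · show h * (k * h * k⁻¹)⁻¹ = ⁅h, k⁆
      rw [commutatorElement_def]; group
  intro x hx
  obtain ⟨hxH, hxC⟩ := Subgroup.mem_inf.mp hx
  have hxker : τ ⟨x, hxH⟩ = 1 := by
    have h1 : x ∈ (τ.ker).map H.subtype := hker (hHeq ▸ hxH)
    obtain ⟨y, hy, hyx⟩ := h1
    have h2 : y = ⟨x, hxH⟩ := Subtype.ext hyx
    rw [← h2]; exact hy
  have hτx : τ ⟨x, hxH⟩ = (Abelianization.of (⟨x, hxH⟩ : H)) ^ (Nat.card K) := by
    rw [hτ]
    have h1 : ∀ k : K, Abelianization.of (MulAut.conjNormal (k : G) (⟨x, hxH⟩ : H))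
        = Abelianization.of (⟨x, hxH⟩ : H) := by
      intro k
      congr 1
      apply Subtype.ext
      show (k : G) * x * (k : G)⁻¹ = x
      have h2 := Subgroup.mem_centralizer_iff.mp hxC (k : G) k.2
      rw [h2]; group
    rw [Finset.prod_congr rfl (fun k _ => h1 k), Finset.prod_const, Finset.card_univ,
      Nat.card_eq_fintype_card]
  have h2 : (Abelianization.of (⟨x, hxH⟩ : H)) ^ (Nat.card K) = 1 := by
    rw [← hτx]; exact hxker
  have h3 : (Abelianization.of (⟨x, hxH⟩ : H)) ^ (Nat.card H) = 1 := by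
    rw [← map_pow, pow_card_eq_one', map_one]
  have h4 : orderOf (Abelianization.of (⟨x, hxH⟩ : H)) ∣ Nat.gcd (Nat.card H) (Nat.card K) :=
    Nat.dvd_gcd (orderOf_dvd_of_pow_eq_one h3) (orderOf_dvd_of_pow_eq_one h2)
  rw [show Nat.gcd (Nat.card H) (Nat.card K) = 1 from hcop] at h4
  have h5 : Abelianization.of (⟨x, hxH⟩ : H) = 1 := orderOf_eq_one_iff.mp (Nat.dvd_one.mp h4)
  have h6 : (⟨x, hxH⟩ : H) ∈ commutator H :=
    (QuotientGroup.eq_one_iff (N := commutator H) (⟨x, hxH⟩ : H)).mp h5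
  rw [← Subgroup.map_subtype_commutator]
  exact ⟨⟨x, hxH⟩, h6, rfl⟩

theorem abelianization_map_surjective {X Y : Type*} [Group X] [Group Y] (f : X →* Y)
    (hf : Function.Surjective f) : Function.Surjective (Abelianization.map f) := by
  intro y
  obtain ⟨y', rfl⟩ := QuotientGroup.mk'_surjective (commutator Y) y
  obtain ⟨x, rfl⟩ := hf y'
  exact ⟨Abelianization.of x, Abelianization.map_of f x⟩

/-- a finite `p`-group with cyclic abelianization is abelian -/
theorem comm_of_cyclic_ab (p : ℕ) [hp : Fact p.Prime] : ∀ (n : ℕ) (X : Type u) [Group X]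
    [Finite X], Nat.card X = n → IsPGroup p X → IsCyclic (Abelianization X) →
    ∀ a b : X, a * b = b * a := by
  intro n
  induction n using Nat.strong_induction_on with
  | _ n ih =>
    intro X _ _ hn hX hcyc
    by_cases hsub : Subsingleton X
    · intro a b; rw [Subsingleton.elim a b]
    · rw [not_subsingleton_iff_nontrivial] at hsub
      have hZ : Nontrivial (Subgroup.center X) := hX.center_nontrivial
      have hZ1 : Subgroup.center X ≠ ⊥ := (Subgroup.nontrivial_iff_ne_bot _).mp hZ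
      have hlt : Nat.card (X ⧸ Subgroup.center X) < n := by
        rw [← hn]
        exact Cfsg.Agent.Lib.helper28.card_quotient_lt_of_ne_bot hZ1
      have hYp : IsPGroup p (X ⧸ Subgroup.center X) := hX.to_quotient (Subgroup.center X)
      have hYcyc : IsCyclic (Abelianization (X ⧸ Subgroup.center X)) :=
        isCyclic_of_surjective (Abelianization.map (QuotientGroup.mk' (Subgroup.center X)))
          (abelianization_map_surjective _ (QuotientGroup.mk'_surjective _))
      have hYcomm := ih _ hlt (X ⧸ Subgroup.center X) rfl hYp hYcyc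
      have hYc : IsCyclic (X ⧸ Subgroup.center X) := by
        let _cg : CommGroup (X ⧸ Subgroup.center X) :=
          { (inferInstance : Group (X ⧸ Subgroup.center X)) with mul_comm := hYcomm }
        refine isCyclic_of_surjective
          (Abelianization.lift (MonoidHom.id (X ⧸ Subgroup.center X))) ?_
        intro y
        exact ⟨Abelianization.of y, Abelianization.lift_apply_of _ y⟩
      have hmc : IsMulCommutative X :=
        MonoidHom.isMulCommutative_of_isCyclic_of_ker_le_center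
          (QuotientGroup.mk' (Subgroup.center X)) (by rw [QuotientGroup.ker_mk'])
      exact fun a b => isMulCommutative_iff.mp hmc a b

theorem part_b1 {G : Type u} [Group G] [Finite G] (p : ℕ) (hp : p.Prime)
    (hnil : Group.IsNilpotent ↥(commutator G)) (hidx : (commutator G).index = p) :
    (Nat.card ↥(commutator G)).Coprime p := by
  have hpf := Fact.mk hp
  have hOn : (Cfsg.pPrimeCore p G).Normal := Cfsg.Agent.Lib.helper40.pPrimeCore_normal' p G
  have hOcop : (Nat.card (Cfsg.pPrimeCore p G)).Coprime p :=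
    Cfsg.Agent.Lib.helper40.pPrimeCore_card_coprime p G
  have hHn : (commutator G).Normal := inferInstance
  have hOidx : ∃ n : ℕ, (Cfsg.pPrimeCore p G).index = p ^ n := by
    refine ⟨_, Nat.eq_prime_pow_of_unique_prime_dvd Subgroup.index_ne_zero_of_finite ?_⟩
    intro q hq hqd
    by_contra hqp
    have hqf := Fact.mk hq
    obtain ⟨S⟩ : Nonempty (Sylow q (commutator G)) := inferInstance
    have hTn : ((S : Subgroup (commutator G)).map (commutator G).subtype).Normal := by
      refine ⟨fun x hx g => ?_⟩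
      obtain ⟨a, ha, rfl⟩ := hx
      obtain ⟨k, hk⟩ := S.isPGroup' ⟨a, ha⟩
      have hk' : a ^ (q ^ k) = 1 := congrArg Subtype.val hk
      have hmem : g * (a : G) * g⁻¹ ∈ commutator G := hHn.conj_mem a a.2 g
      refine ⟨⟨g * (a : G) * g⁻¹, hmem⟩, ?_, rfl⟩
      refine Cfsg.Agent.S1477.mem_sylow_of_pow S (k := k) ?_
      apply Subtype.ext
      show (g * (a : G) * g⁻¹) ^ (q ^ k) = 1
      rw [conj_pow]
      have h3 : (a : G) ^ (q ^ k) = 1 := by
        have := congrArg Subtype.val hk'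
        simpa using this
      rw [h3]; group
    have hTcop : (Nat.card ((S : Subgroup (commutator G)).map (commutator G).subtype)).Coprime p := by
      obtain ⟨j, hj⟩ := IsPGroup.iff_card.mp (S.isPGroup'.map (commutator G).subtype)
      rw [hj]
      exact Nat.Coprime.pow_left j ((Nat.coprime_primes hq hp).mpr hqp)
    have hTO : (S : Subgroup (commutator G)).map (commutator G).subtype ≤ Cfsg.pPrimeCore p G :=
      Cfsg.Agent.Lib.helper40.le_pPrimeCore _ hTn hTcop
    have h1 : (Cfsg.pPrimeCore p G).index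
        ∣ ((S : Subgroup (commutator G)).map (commutator G).subtype).index :=
      Subgroup.index_dvd_of_le hTO
    rw [Subgroup.index_map_subtype, hidx] at h1
    rcases (Nat.Prime.dvd_mul hq).mp (hqd.trans h1) with h | h
    · exact S.not_dvd_index h
    · exact hqp ((Nat.prime_dvd_prime_iff_eq hq hp).mp h)
  obtain ⟨n, hn⟩ := hOidx
  have hQp : IsPGroup p (G ⧸ Cfsg.pPrimeCore p G) :=
    IsPGroup.of_card (by rw [← Subgroup.index_eq_card]; exact hn)
  have hcycG : IsCyclic (Abelianization G) := by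
    have h1 : Nat.card (Abelianization G) = p := by
      rw [← hidx]; exact (Subgroup.index_eq_card (commutator G)).symm
    exact isCyclic_of_prime_card h1
  have hcycQ : IsCyclic (Abelianization (G ⧸ Cfsg.pPrimeCore p G)) :=
    isCyclic_of_surjective (Abelianization.map (QuotientGroup.mk' (Cfsg.pPrimeCore p G)))
      (abelianization_map_surjective _ (QuotientGroup.mk'_surjective _))
  have hcomm := comm_of_cyclic_ab p _ (G ⧸ Cfsg.pPrimeCore p G) rfl hQp hcycQ
  have hle : commutator G ≤ Cfsg.pPrimeCore p G := by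
    rw [commutator_def, Subgroup.commutator_le]
    intro a _ b _
    apply (QuotientGroup.eq_one_iff (N := Cfsg.pPrimeCore p G) ⁅a, b⁆).mp
    have h2 : ((⁅a, b⁆ : G) : G ⧸ Cfsg.pPrimeCore p G)
        = QuotientGroup.mk' (Cfsg.pPrimeCore p G) a * QuotientGroup.mk' (Cfsg.pPrimeCore p G) b *
          (QuotientGroup.mk' (Cfsg.pPrimeCore p G) a)⁻¹ *
          (QuotientGroup.mk' (Cfsg.pPrimeCore p G) b)⁻¹ := by
      rw [commutatorElement_def]; rfl
    rw [h2, hcomm (QuotientGroup.mk' (Cfsg.pPrimeCore p G) a)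
      (QuotientGroup.mk' (Cfsg.pPrimeCore p G) b)]
    group
  exact Nat.Coprime.coprime_dvd_left (Subgroup.card_dvd_of_le hle) hOcop


/-- Let G be a finite solvable group. (a) If H is a normal subgroup of order coprime to its index, K is a complement to H, and H ≤ G', then H = [H, K] and H ∩ C_G(K) ≤ [H, H]. (b) If G' is nilpotent and has prime index in G, then the order of G' is coprime to its index and G' = [G, K] (the subgroup generated by commutators of elements of G with elements of K) for every complement K of G'. -/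
theorem result {G : Type*} [Group G] [Finite G] [Group.IsSolvable G] :
    (∀ (H K : Subgroup G), H.Normal → (Nat.card H).Coprime H.index → Subgroup.IsComplement' H K → H ≤ commutator G →
        H = ⁅H, K⁆ ∧ H ⊓ Subgroup.centralizer (K : Set G) ≤ ⁅H, H⁆) ∧
      (Group.IsNilpotent ↥(commutator G) → (commutator G).index.Prime →
        (Nat.card ↥(commutator G)).Coprime (commutator G).index ∧
        ∀ K : Subgroup G, Subgroup.IsComplement' (commutator G) K → commutator G = ⁅(⊤ : Subgroup G), K⁆) := by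
  have hcardK : ∀ (H K : Subgroup G), Subgroup.IsComplement' H K → Nat.card K = H.index := by
    intro H K hHK
    have h1 := hHK.card_mul_card
    have h2 := H.card_mul_index
    exact Nat.eq_of_mul_eq_mul_left Nat.card_pos (h1.trans h2.symm)
  have hA : ∀ (H K : Subgroup G), H.Normal → (Nat.card H).Coprime H.index →
      Subgroup.IsComplement' H K → H ≤ commutator G →
      H = ⁅H, K⁆ ∧ H ⊓ Subgroup.centralizer (K : Set G) ≤ ⁅H, H⁆ := by
    intro H K hHn hcop hHK hH
    have h1 : H = ⁅H, K⁆ := part_a1 H K hHK hH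
    refine ⟨h1, part_a2 H K ?_ h1⟩
    rw [hcardK H K hHK]; exact hcop
  refine ⟨hA, ?_⟩
  intro hnil hprime
  have hcop : (Nat.card ↥(commutator G)).Coprime (commutator G).index :=
    part_b1 _ hprime hnil rfl
  refine ⟨hcop, ?_⟩
  intro K hK
  have h1 := (hA (commutator G) K inferInstance hcop hK le_rfl).1
  apply le_antisymm
  · calc commutator G = ⁅commutator G, K⁆ := h1
      _ ≤ ⁅(⊤ : Subgroup G), K⁆ := Subgroup.commutator_mono le_top le_rfl
  · calc ⁅(⊤ : Subgroup G), K⁆ ≤ ⁅(⊤ : Subgroup G), ⊤⁆ := Subgroup.commutator_mono le_rfl le_top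
      _ = commutator G := (commutator_def G).symm

end Cfsg.Agent.S1459
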