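import Cfsg.Statements.S1466
import Cfsg.Agent.Lib.helper31.Puig
import Cfsg.Agent.Lib.helper31.Nilpotent

set_option autoImplicit false
open Cfsg

namespace Cfsg.Agent.S1466

/-- Let p be a prime and R a nontrivial finite p-group. Then for every i > 0, Z(R) ≤ C_R(L_i(R)) ≤ L_i(R); likewise Z(R) ≤ C_R(L_*(R)) ≤ L_*(R) and Z(R) ≤ C_R(L(R)) ≤ L(R); and L(R) ≠ 1, L_*(R) ≠ 1. -/
theorem result {R : Type*} [Group R] [Finite R] (p : ℕ) [Fact p.Prime] (hR : IsPGroup p R) [Nontrivial R] :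
    (∀ i : ℕ, 0 < i → Subgroup.center R ≤ Subgroup.centralizer ((Cfsg.puigSeq R i : Subgroup R) : Set R) ∧
        Subgroup.centralizer ((Cfsg.puigSeq R i : Subgroup R) : Set R) ≤ Cfsg.puigSeq R i) ∧
      (Subgroup.center R ≤ Subgroup.centralizer ((Cfsg.puigLower R : Subgroup R) : Set R) ∧ Subgroup.centralizer ((Cfsg.puigLower R : Subgroup R) : Set R) ≤ Cfsg.puigLower R) ∧
      (Subgroup.center R ≤ Subgroup.centralizer ((Cfsg.puigSubgroup R : Subgroup R) : Set R) ∧ Subgroup.centralizer ((Cfsg.puigSubgroup R : Subgroup R) : Set R) ≤ Cfsg.puigSubgroup R) ∧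
      Cfsg.puigSubgroup R ≠ ⊥ ∧ Cfsg.puigLower R ≠ ⊥ := by
  haveI : Group.IsNilpotent R := hR.isNilpotent
  obtain ⟨A, hAn, hAc, hCA⟩ := Lib.helper31.exists_normal_abelian_self_centralizing R
  have hAstep : ∀ X : Subgroup R, A ≤ puigStep X := fun X =>
    Lib.helper31.le_puigStep hAc (by rw [Subgroup.normalizer_eq_top]; exact le_top)
  have hAseq : ∀ i, 0 < i → A ≤ puigSeq R i := by
    intro i hi
    obtain ⟨j, rfl⟩ := Nat.exists_eq_succ_of_ne_zero hi.ne'
    exact hAstep _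
  have hcent : ∀ H : Subgroup R, A ≤ H → Subgroup.centralizer (H : Set R) ≤ H := fun H hH =>
    (Subgroup.centralizer_le hH).trans (hCA.trans hH)
  have hAlow : A ≤ puigLower R :=
    (hAseq 2 (by norm_num)).trans (le_iSup (fun n : ℕ => puigSeq R (2 * n)) 1)
  have hAup : A ≤ puigSubgroup R := le_iInf (fun n => hAseq _ (by omega))
  have hAne : A ≠ ⊥ := by
    intro h
    rw [h] at hCA
    have h1 : (⊤ : Subgroup R) ≤ ⊥ := by
      refine le_trans ?_ hCA
      intro x _
      rw [Subgroup.mem_centralizer_iff]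
      intro y hy
      have : y = 1 := by simpa using hy
      subst this; simp
    exact top_ne_bot (le_bot_iff.mp h1)
  refine ⟨fun i hi => ⟨Subgroup.center_le_centralizer _, hcent _ (hAseq i hi)⟩,
    ⟨Subgroup.center_le_centralizer _, hcent _ hAlow⟩,
    ⟨Subgroup.center_le_centralizer _, hcent _ hAup⟩, ?_, ?_⟩
  · intro h; exact hAne (le_bot_iff.mp (h ▸ hAup))
  · intro h; exact hAne (le_bot_iff.mp (h ▸ hAlow))

end Cfsg.Agent.S1466
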