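import Cfsg.Statements.S1465
import Cfsg.Agent.Lib.helper30.PStable
import Cfsg.Agent.Lib.helper27.AxB
import Cfsg.Agent.Lib.helper60.HallHigman

set_option autoImplicit false
open Cfsg

namespace Cfsg.Agent.S1465

/-- Let p be an odd prime, G a solvable group of odd order, P a normal p-subgroup of G, and X the subgroup generated by a family of abelian p-subgroups of G each normalized by P. Then the image of X in G/C_G(P) lies in O_p(G/C_G(P)); and if O_{p'}(G) = 1 and O_p(G) ∩ C_G(P) ≤ P then X ≤ O_p(G). -/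
theorem result {G : Type*} [Group G] [Finite G] [Group.IsSolvable G] (hodd : Odd (Nat.card G)) (p : ℕ) [Fact p.Prime] (hp : p ≠ 2) (P : Subgroup G) [P.Normal] (hP : IsPGroup p P)
    (S : Set (Subgroup G)) (hS : ∀ B ∈ S, IsMulCommutative B ∧ IsPGroup p B ∧ P ≤ Subgroup.normalizer (B : Set G)) :
    (sSup S).map (QuotientGroup.mk' (Subgroup.centralizer (P : Set G))) ≤ Cfsg.pCore p (G ⧸ Subgroup.centralizer (P : Set G)) ∧
      (Cfsg.pPrimeCore p G = ⊥ → Cfsg.pCore p G ⊓ Subgroup.centralizer (P : Set G) ≤ P → sSup S ≤ Cfsg.pCore p G) := by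
  have hpp : p.Prime := Fact.out
  have h1 : sSup S ≤ (Cfsg.pCore p (G ⧸ Subgroup.centralizer (P : Set G))).comap
      (QuotientGroup.mk' (Subgroup.centralizer (P : Set G))) := by
    apply sSup_le
    intro B hB b hb
    obtain ⟨hBc, hBp, hPB⟩ := hS B hB
    rw [Subgroup.mem_comap]
    apply Cfsg.Agent.Lib.helper30.pstable_hom hodd p hp P hP (MonoidHom.id G) (QuotientGroup.mk' _)
      (QuotientGroup.mk'_surjective _)
      (fun n => by rw [Subgroup.normalizer_eq_top]; trivial)
      (fun n hn => (QuotientGroup.eq_one_iff _).mpr hn) b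
    intro u hu
    rw [MonoidHom.id_apply]
    have h2 : u * b⁻¹ * u⁻¹ ∈ B := (Subgroup.mem_normalizer_iff.mp (hPB hu) b⁻¹).mp (B.inv_mem hb)
    have h3 : b * u * b⁻¹ * u⁻¹ ∈ B := by
      have h4 : b * u * b⁻¹ * u⁻¹ = b * (u * b⁻¹ * u⁻¹) := by group
      rw [h4]
      exact B.mul_mem hb h2
    have h4 : (⟨b, hb⟩ : B) * ⟨_, h3⟩ = ⟨_, h3⟩ * ⟨b, hb⟩ := hBc.is_comm.comm _ _
    exact congrArg Subtype.val h4
  refine ⟨(Subgroup.map_le_iff_le_comap).mpr h1, ?_⟩
  intro hO hC
  have hRn : (Cfsg.pCore p G).Normal := Cfsg.Agent.Lib.helper40.pCore_normal' p G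
  have hRp : IsPGroup p (Cfsg.pCore p G) := Cfsg.Agent.Lib.helper40.pCore_isPGroup p G
  -- the `p'`-elements of `C_G(P)` are trivial
  have hCp : ∀ c ∈ Subgroup.centralizer (P : Set G), (orderOf c).Coprime p → c = 1 := by
    intro c hc hcop
    have h2 : c ∈ Subgroup.centralizer (Cfsg.pCore p G : Set G) := by
      apply Cfsg.Agent.Lib.helper27.thompson_AxB_element (Cfsg.pCore p G) P c hRp hP hcop
      · rw [Subgroup.normalizer_eq_top]; trivial
      · rw [Subgroup.normalizer_eq_top]; exact le_top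
      · exact hc
      · exact Subgroup.centralizer_le (fun y hy => hC hy) hc
    have h3 : c ∈ Cfsg.pCore p G := Cfsg.Agent.Lib.helper60.centralizer_pCore_le p hO h2
    obtain ⟨k, hk⟩ := hRp ⟨c, h3⟩
    have h4 : c ^ (p ^ k) = 1 := by
      have := congrArg Subtype.val hk
      simpa using this
    have h5 : orderOf c ∣ p ^ k := orderOf_dvd_of_pow_eq_one h4
    exact orderOf_eq_one_iff.mp (Nat.Coprime.eq_one_of_dvd (hcop.pow_right k) h5)
  have hCpg : IsPGroup p (Subgroup.centralizer (P : Set G)) := by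
    intro c
    obtain ⟨k, m, hm, hkm⟩ :=
      Nat.exists_eq_pow_mul_and_not_dvd (orderOf_pos (c : G)).ne' p hpp.ne_one
    refine ⟨k, ?_⟩
    apply Subtype.ext
    rw [Subgroup.coe_pow, Subgroup.coe_one]
    apply hCp _ (pow_mem c.2 _)
    have h2 : orderOf ((c : G) ^ (p ^ k)) = m := by
      rw [orderOf_pow, hkm, Nat.gcd_eq_right (dvd_mul_right _ _)]
      exact Nat.mul_div_cancel_left m (pow_pos hpp.pos k)
    rw [h2]
    exact ((Nat.Prime.coprime_iff_not_dvd hpp).mpr hm).symm
  have hQn : (Cfsg.pCore p (G ⧸ Subgroup.centralizer (P : Set G))).Normal :=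
    Cfsg.Agent.Lib.helper40.pCore_normal' p _
  have hQp : IsPGroup p (Cfsg.pCore p (G ⧸ Subgroup.centralizer (P : Set G))) :=
    Cfsg.Agent.Lib.helper40.pCore_isPGroup p _
  have hcomap : IsPGroup p ((Cfsg.pCore p (G ⧸ Subgroup.centralizer (P : Set G))).comap
      (QuotientGroup.mk' (Subgroup.centralizer (P : Set G)))) := by
    apply hQp.comap_of_ker_isPGroup
    rw [QuotientGroup.ker_mk']
    exact hCpg
  exact le_trans h1 (Cfsg.Agent.Lib.helper40.le_pCore _ (hQn.comap _) hcomap)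

end Cfsg.Agent.S1465
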