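import Cfsg.Statements.S1469
import Cfsg.Agent.Lib.helper30.PuigOdd
import Cfsg.Agent.Lib.helper38.HallHigman2

set_option autoImplicit false
open Cfsg

namespace Cfsg.Agent.S1469

/-- Let p be an odd prime, G a solvable group of odd order and S a Sylow p-subgroup, and let Z be the centre of the Puig subgroup L(S), viewed inside G. Then G is generated by O_{p'}(G) and N_G(Z); and if O_{p'}(G) = 1 then Z is normal in G. -/
theorem result {G : Type*} [Group G] [Finite G] [Group.IsSolvable G] (hodd : Odd (Nat.card G)) (p : ℕ) [Fact p.Prime] (hp : p ≠ 2) (S : Sylow p G) :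
    Cfsg.pPrimeCore p G ⊔ Subgroup.normalizer ((((Subgroup.center ↥(Cfsg.puigSubgroup ↥(S : Subgroup G))).map (Cfsg.puigSubgroup ↥(S : Subgroup G)).subtype).map (S : Subgroup G).subtype : Subgroup G) : Set G) = ⊤ ∧
      (Cfsg.pPrimeCore p G = ⊥ → (((Subgroup.center ↥(Cfsg.puigSubgroup ↥(S : Subgroup G))).map (Cfsg.puigSubgroup ↥(S : Subgroup G)).subtype).map (S : Subgroup G).subtype).Normal) := by
  rw [Cfsg.Agent.Lib.helper30.map_center_map]
  refine ⟨?_, fun hO => Cfsg.Agent.Lib.helper30.zIn_puig_normal hodd p hp hO S⟩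
  have hK₀cop := Cfsg.Agent.Lib.helper40.pPrimeCore_card_coprime p G
  have hcore : Cfsg.pPrimeCore p (G ⧸ Cfsg.pPrimeCore p G) = ⊥ :=
    Cfsg.Agent.Lib.helper38.pPrimeCore_quotient_pPrimeCore p G
  have hoddQ : Odd (Nat.card (G ⧸ Cfsg.pPrimeCore p G)) :=
    Odd.of_dvd_nat hodd (Subgroup.card_quotient_dvd_card _)
  have hsurj := QuotientGroup.mk'_surjective (Cfsg.pPrimeCore p G)
  have hinj : ∀ x ∈ (S : Subgroup G), QuotientGroup.mk' (Cfsg.pPrimeCore p G) x = 1 → x = 1 := by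
    intro x hx h1
    have hxK : x ∈ Cfsg.pPrimeCore p G := (QuotientGroup.eq_one_iff x).mp h1
    obtain ⟨k, hk⟩ := S.isPGroup' ⟨x, hx⟩
    have h2 : x ^ (p ^ k) = 1 := by simpa using congrArg Subtype.val hk
    have h3 : orderOf x ∣ p ^ k := orderOf_dvd_of_pow_eq_one h2
    have h4 : orderOf x ∣ Nat.card (Cfsg.pPrimeCore p G) := by
      have h5 := orderOf_dvd_natCard (⟨x, hxK⟩ : Cfsg.pPrimeCore p G)
      rwa [Subgroup.orderOf_mk] at h5
    have h5 : (orderOf x).Coprime (p ^ k) := Nat.Coprime.coprime_dvd_left h4 (hK₀cop.pow_right k)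
    exact orderOf_eq_one_iff.mp (Nat.Coprime.eq_one_of_dvd h5 h3)
  have hSb : ((S.mapSurjective hsurj : Sylow p (G ⧸ Cfsg.pPrimeCore p G)) :
      Subgroup (G ⧸ Cfsg.pPrimeCore p G))
      = (S : Subgroup G).map (QuotientGroup.mk' (Cfsg.pPrimeCore p G)) :=
    Sylow.coe_mapSurjective hsurj S
  have hnorm := Cfsg.Agent.Lib.helper30.zIn_puig_normal hoddQ p hp hcore (S.mapSurjective hsurj)
  obtain ⟨k₁, hk₁⟩ := Cfsg.Agent.Lib.helper30.pSeqIn_stabilizes (S : Subgroup G)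
  obtain ⟨k₂, hk₂⟩ := Cfsg.Agent.Lib.helper30.pSeqIn_stabilizes
    ((S.mapSurjective hsurj : Sylow p (G ⧸ Cfsg.pPrimeCore p G)) :
      Subgroup (G ⧸ Cfsg.pPrimeCore p G))
  have e1 := (hk₁ (k₁ + k₂) (by omega)).2
  have e2 := (hk₂ (k₁ + k₂) (by omega)).2
  have hLsS : (Cfsg.puigSubgroup ↥(S : Subgroup G)).map (S : Subgroup G).subtype
      ≤ (S : Subgroup G) := Subgroup.map_subtype_le _
  rw [← e2, hSb, Cfsg.Agent.Lib.helper30.pSeqIn_map _ _ hinj, e1,
    Cfsg.Agent.Lib.helper30.zIn_map (QuotientGroup.mk' (Cfsg.pPrimeCore p G)) (S : Subgroup G) _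
      hLsS hinj] at hnorm
  have hNn := hnorm.comap (QuotientGroup.mk' (Cfsg.pPrimeCore p G))
  obtain ⟨Q, hQ⟩ := Cfsg.Agent.Lib.helper53.exists_sylow_eq_inf_normal S
    (((Cfsg.Agent.Lib.helper30.zIn
      ((Cfsg.puigSubgroup ↥(S : Subgroup G)).map (S : Subgroup G).subtype)).map
        (QuotientGroup.mk' (Cfsg.pPrimeCore p G))).comap
          (QuotientGroup.mk' (Cfsg.pPrimeCore p G)))
  have hfr := Sylow.normalizer_sup_eq_top Q
  rw [hQ] at hfr
  have hSN : (S : Subgroup G) ⊓ ((Cfsg.Agent.Lib.helper30.zIn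
      ((Cfsg.puigSubgroup ↥(S : Subgroup G)).map (S : Subgroup G).subtype)).map
        (QuotientGroup.mk' (Cfsg.pPrimeCore p G))).comap
          (QuotientGroup.mk' (Cfsg.pPrimeCore p G))
      = Cfsg.Agent.Lib.helper30.zIn
        ((Cfsg.puigSubgroup ↥(S : Subgroup G)).map (S : Subgroup G).subtype) := by
    apply le_antisymm
    · rintro x ⟨hxS, hxN⟩
      obtain ⟨z, hz, hzx⟩ := hxN
      have hzS : z ∈ (S : Subgroup G) := hLsS (Cfsg.Agent.Lib.helper30.zIn_le _ hz)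
      have h1 : QuotientGroup.mk' (Cfsg.pPrimeCore p G) (x * z⁻¹) = 1 := by
        rw [map_mul, map_inv, hzx, mul_inv_cancel]
      have h2 := hinj _ ((S : Subgroup G).mul_mem hxS (inv_mem hzS)) h1
      have h3 : x = z := mul_inv_eq_one.mp h2
      rw [h3]
      exact hz
    · intro z hz
      exact ⟨hLsS (Cfsg.Agent.Lib.helper30.zIn_le _ hz), ⟨z, hz, rfl⟩⟩
  rw [hSN] at hfr
  rw [eq_top_iff, ← hfr]
  apply sup_le le_sup_right
  intro x hx
  obtain ⟨z, hz, hzx⟩ := hx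
  have h1 : x * z⁻¹ ∈ Cfsg.pPrimeCore p G := by
    rw [← QuotientGroup.eq_one_iff]
    change QuotientGroup.mk' (Cfsg.pPrimeCore p G) (x * z⁻¹) = 1
    rw [map_mul, map_inv, hzx, mul_inv_cancel]
  have h2 : x = (x * z⁻¹) * z := by group
  rw [h2]
  exact Subgroup.mul_mem_sup h1 (Subgroup.le_normalizer hz)

end Cfsg.Agent.S1469
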