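import Cfsg.Statements.S2805
import Cfsg.Agent.Lib.helper52.Kieler2

set_option autoImplicit false
open Cfsg

namespace Cfsg.Agent.S2805

open Cfsg.Agent.Lib.helper52 in
/-- Kieler's Lemma: let H be a finite group of characteristic p (C_H(O_p(H)) ≤ O_p(H)), T a Sylow p-subgroup of H and L a subnormal subgroup of H. Then C_L(Ω₁(Z(T))) = C_L(Ω₁(Z(T ∩ L))), Ω₁(Z(·)) denoting the elements of order dividing p in the centre. -/
theorem result {H : Type*} [Group H] [Finite H] {p : ℕ} [Fact p.Prime] (hH : Subgroup.centralizer (Cfsg.pCore p H : Set H) ≤ Cfsg.pCore p H) (T : Sylow p H) (L : Subgroup H) (hL : L.IsSubnormal) : L ⊓ Subgroup.centralizer ((Cfsg.omegaOne p ((T : Subgroup H) ⊓ Subgroup.centralizer ((T : Subgroup H) : Set H))) : Set H) = L ⊓ Subgroup.centralizer ((Cfsg.omegaOne p (((T : Subgroup H) ⊓ L) ⊓ Subgroup.centralizer ((((T : Subgroup H) ⊓ L) : Subgroup H) : Set H))) : Set H) := by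
  rw [omegaOne_center_eq, omegaOne_center_eq]
  have hB : ∀ L : Subgroup H, L.IsSubnormal →
      L ⊓ Subgroup.centralizer ((omegaZ p (T : Subgroup H) : Subgroup H) : Set H) ≤
        Subgroup.centralizer ((omegaZ p ((T : Subgroup H) ⊓ L) : Subgroup H) : Set H) := by
    intro L hL
    induction hL with
    | top => rw [inf_top_eq]; exact inf_le_right
    | step L M hle hM hN ih =>
      have hML : M ≤ Subgroup.normalizer (L : Set H) :=
        (Subgroup.normal_subgroupOf_iff_le_normalizer hle).mp hN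
      intro x hx
      obtain ⟨hxL, hxC⟩ := Subgroup.mem_inf.mp hx
      exact kieler_normal_step hH T hM hle hML
        (Subgroup.mem_inf.mpr ⟨hxL, ih (Subgroup.mem_inf.mpr ⟨hle hxL, hxC⟩)⟩)
  apply le_antisymm
  · exact le_inf inf_le_left (hB L hL)
  · exact le_inf inf_le_left (kieler_partA hH T hL)

end Cfsg.Agent.S2805
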