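import Mathlib
import Cfsg.Statements.S3028
import Cfsg.Agent.Lib.helper12.SylowNormal
import Cfsg.Agent.Lib.helper28.Components
import Cfsg.Agent.Lib.helper28.Layer
import Cfsg.Agent.Lib.helper28.PCores
import Cfsg.Agent.Lib.helper29.Zipper
import Cfsg.Agent.Lib.helper52.SubnPRed
import Cfsg.Agent.Lib.helper54.FStar
import Cfsg.Agent.Lib.helper53.PCore
import Cfsg.Agent.Lib.helper27.Radical
import Cfsg.Agent.Lib.helper56.CD

set_option autoImplicit false
open Cfsg

namespace Cfsg.Agent.S3028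

open Cfsg.Agent.Lib
open scoped commutatorElement

universe u

section basics

variable {G : Type u} [Group G] [Finite G] {p : ℕ} [Fact p.Prime]

/-- The join of two subnormal subgroups is subnormal (Wielandt). -/
theorem sup_isSubnormal {A B : Subgroup G} (hA : A.IsSubnormal) (hB : B.IsSubnormal) :
    (A ⊔ B).IsSubnormal :=
  helper29.snChain_top_iff.mp
    (helper29.SNChain.sup (helper29.snChain_top_iff.mpr hA) (helper29.snChain_top_iff.mpr hB))

/-- For a subnormal subgroup `H`, `H ∩ S` is a Sylow subgroup of `H`. -/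
theorem card_inf_sylow (S : Sylow p G) {H : Subgroup G} (hH : H.IsSubnormal) :
    Nat.card ↥(H ⊓ (S : Subgroup G)) = p ^ (Nat.card H).factorization p := by
  obtain ⟨Q, hQ⟩ := helper12.exists_sylow_eq_subgroupOf_of_isSubnormal S H hH
  rw [← Q.card_eq_multiplicity, hQ, inf_comm, ← Subgroup.inf_subgroupOf_right]
  exact (Nat.card_congr (Subgroup.subgroupOfEquivOfLe inf_le_right).toEquiv).symm

/-- Lemma (L'): if `X, Y` are subnormal and `Y` normalizes `X` then
`S ∩ XY = (S ∩ X)(S ∩ Y)`. -/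
theorem inf_sylow_sup_le (S : Sylow p G) {X Y : Subgroup G} (hX : X.IsSubnormal)
    (hY : Y.IsSubnormal) (hYX : Y ≤ Subgroup.normalizer (X : Set G)) :
    (X ⊔ Y) ⊓ (S : Subgroup G) ≤ (X ⊓ (S : Subgroup G)) ⊔ (Y ⊓ (S : Subgroup G)) := by
  have hp : p.Prime := Fact.out
  have hle : (X ⊓ (S : Subgroup G)) ⊔ (Y ⊓ (S : Subgroup G)) ≤ (X ⊔ Y) ⊓ (S : Subgroup G) :=
    sup_le (inf_le_inf_right _ le_sup_left) (inf_le_inf_right _ le_sup_right)
  have hXY : (X ⊔ Y).IsSubnormal := sup_isSubnormal hX hY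
  have hXiY : (X ⊓ Y).IsSubnormal := hX.inf hY
  have c1 := card_inf_sylow S hX
  have c2 := card_inf_sylow S hY
  have c3 := card_inf_sylow S hXY
  have c4 := card_inf_sylow S hXiY
  have hinf : (X ⊓ (S : Subgroup G)) ⊓ (Y ⊓ (S : Subgroup G)) = (X ⊓ Y) ⊓ (S : Subgroup G) := by
    ext x; simp only [Subgroup.mem_inf]; tauto
  -- |X ⊔ Y| * |X ⊓ Y| = |X| * |Y|
  have hcard : Nat.card ↥(X ⊔ Y) * Nat.card ↥(X ⊓ Y) = Nat.card X * Nat.card Y := by
    have h1 := helper56.card_mul_set_mul_card_inf Y X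
    rw [← Subgroup.coe_mul_of_left_le_normalizer_right Y X hYX] at h1
    rw [sup_comm, inf_comm, mul_comm (Nat.card X)]
    exact h1
  have hfac : (Nat.card ↥(X ⊔ Y)).factorization p + (Nat.card ↥(X ⊓ Y)).factorization p
      = (Nat.card X).factorization p + (Nat.card Y).factorization p := by
    have h := congrArg (fun n : ℕ => n.factorization p) hcard
    have h' : (Nat.card ↥(X ⊔ Y) * Nat.card ↥(X ⊓ Y)).factorization p
        = (Nat.card X * Nat.card Y).factorization p := h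
    rw [Nat.factorization_mul Nat.card_pos.ne' Nat.card_pos.ne',
      Nat.factorization_mul Nat.card_pos.ne' Nat.card_pos.ne'] at h'
    simpa using h'
  have hge := helper56.card_mul_card_le (X ⊓ (S : Subgroup G)) (Y ⊓ (S : Subgroup G))
  rw [hinf, c1, c2, c4, ← pow_add, ← hfac, pow_add, ← c3] at hge
  have hge' : Nat.card ↥((X ⊔ Y) ⊓ (S : Subgroup G))
      ≤ Nat.card ↥((X ⊓ (S : Subgroup G)) ⊔ (Y ⊓ (S : Subgroup G))) :=
    Nat.le_of_mul_le_mul_right hge (pow_pos hp.pos _)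
  exact (Subgroup.eq_of_le_of_card_ge hle hge').ge

/-- The induction hypothesis: the statement for all groups of order `< n`. -/
def IH (p : ℕ) [Fact p.Prime] (n : ℕ) : Prop :=
  ∀ (H : Type u) [Group H] [Finite H], Nat.card H < n → ∀ (S : Sylow p H) (A B : Subgroup H),
    A.IsSubnormal → B.IsSubnormal →
    (A ⊔ B) ⊓ (S : Subgroup H) ≤ (A ⊓ (S : Subgroup H)) ⊔ (B ⊓ (S : Subgroup H))

/-- Quotient step: if `G = ⟨A, B⟩`, `N` is a nontrivial normal subgroup and `S ∩ N ≤ T` then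
`S ≤ T`, by induction in `G / N`. -/
theorem quotient_step (ih : IH.{u} p (Nat.card G)) (S : Sylow p G) {A B : Subgroup G}
    (hA : A.IsSubnormal) (hB : B.IsSubnormal) (htop : A ⊔ B = ⊤)
    (N : Subgroup G) [hNn : N.Normal] (hN : N ≠ ⊥)
    (hNT : N ⊓ (S : Subgroup G) ≤ (A ⊓ (S : Subgroup G)) ⊔ (B ⊓ (S : Subgroup G))) :
    (S : Subgroup G) ≤ (A ⊓ (S : Subgroup G)) ⊔ (B ⊓ (S : Subgroup G)) := by
  obtain ⟨T, hT⟩ : ∃ T : Subgroup G, T = (A ⊓ (S : Subgroup G)) ⊔ (B ⊓ (S : Subgroup G)) :=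
    ⟨_, rfl⟩
  rw [← hT] at hNT ⊢
  have hTS : T ≤ S := by rw [hT]; exact sup_le inf_le_right inf_le_right
  obtain ⟨π, hπdef⟩ : ∃ π : G →* G ⧸ N, π = QuotientGroup.mk' N := ⟨_, rfl⟩
  have hπ : Function.Surjective π := by rw [hπdef]; exact QuotientGroup.mk'_surjective N
  have hker : ∀ x : G, π x = 1 ↔ x ∈ N := by
    intro x; rw [hπdef]; exact QuotientGroup.eq_one_iff x
  have hcard : Nat.card (G ⧸ N) < Nat.card G := by
    rw [Subgroup.card_eq_card_quotient_mul_card_subgroup N]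
    have h1 : 1 < Nat.card N := (Subgroup.one_lt_card_iff_ne_bot N).mpr hN
    have h2 : 0 < Nat.card (G ⧸ N) := Nat.card_pos
    nlinarith
  have key := ih (G ⧸ N) hcard (S.mapSurjective hπ) (A.map π) (B.map π) (hA.map hπ) (hB.map hπ)
  rw [Sylow.coe_mapSurjective, ← Subgroup.map_sup, htop] at key
  have himg : ∀ {X : Subgroup G}, X.IsSubnormal →
      X.map π ⊓ (S : Subgroup G).map π ≤ (X ⊓ (S : Subgroup G)).map π := by
    intro X hX y hy
    obtain ⟨⟨a, ha, rfl⟩, ⟨s, hs, hsa⟩⟩ := hy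
    have hn : a⁻¹ * s ∈ N := by
      rw [← hker, map_mul, map_inv, hsa, inv_mul_cancel]
    have hsXN : s ∈ (N ⊔ X) ⊓ (S : Subgroup G) := by
      refine ⟨?_, hs⟩
      have : s = a * (a⁻¹ * s) := by group
      rw [this]
      exact Subgroup.mul_mem _ (Subgroup.mem_sup_right ha) (Subgroup.mem_sup_left hn)
    have h2 := inf_sylow_sup_le S (Subgroup.Normal.isSubnormal hNn) hX
      (by rw [Subgroup.normalizer_eq_top]; exact le_top) hsXN
    have h3 : π s ∈ ((N ⊓ (S : Subgroup G)) ⊔ (X ⊓ (S : Subgroup G))).map π :=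
      Subgroup.mem_map_of_mem _ h2
    rw [Subgroup.map_sup] at h3
    have h4 : (N ⊓ (S : Subgroup G)).map π = ⊥ := by
      rw [eq_bot_iff]
      rintro _ ⟨x, hx, rfl⟩
      rw [Subgroup.mem_bot]
      exact (hker x).mpr hx.1
    rw [h4, bot_sup_eq] at h3
    rw [← hsa]; exact h3
  have hST : (S : Subgroup G).map π ≤ T.map π := by
    intro y hy
    have h1 : y ∈ (⊤ : Subgroup G).map π ⊓ (S : Subgroup G).map π := by
      refine ⟨?_, hy⟩
      rw [Subgroup.map_top_of_surjective π hπ]; exact Subgroup.mem_top _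
    have h2 := key h1
    rw [hT, Subgroup.map_sup]
    exact (sup_le_sup (himg hA) (himg hB)) h2
  intro s hs
  obtain ⟨t, ht, hts⟩ := hST (Subgroup.mem_map_of_mem π hs)
  have hn : t⁻¹ * s ∈ N := by
    rw [← hker, map_mul, map_inv, hts, inv_mul_cancel]
  have : s = t * (t⁻¹ * s) := by group
  rw [this]
  exact T.mul_mem ht (hNT ⟨hn, (S : Subgroup G).mul_mem (inv_mem (hTS ht)) hs⟩)

end basics

/-- A component is not central. -/
theorem component_not_le_centralizer_top {G : Type u} [Group G] {K : Subgroup G}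
    (hK : IsComponent K) : ¬ K ≤ Subgroup.centralizer ((⊤ : Subgroup G) : Set G) := by
  intro hKc
  have hcomm : ∀ a b : K, a * b = b * a := by
    intro a b
    have h := hKc a.2 (b : G) (Subgroup.mem_top _)
    exact Subtype.ext h.symm
  have hcen : Subgroup.center K = ⊤ := by
    rw [eq_top_iff]; intro a _; rw [Subgroup.mem_center_iff]; intro b; exact hcomm b a
  obtain ⟨_, hs⟩ := hK.2
  have hsI : IsSimpleGroup (↥K ⧸ Subgroup.center ↥K) := hs
  obtain ⟨x, y, hxy⟩ := (inferInstance : Nontrivial (K ⧸ Subgroup.center K))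
  have h1 : ∀ z : K ⧸ Subgroup.center K, z = 1 := by
    intro z
    induction z using QuotientGroup.induction_on with
    | H a => exact (QuotientGroup.eq_one_iff a).mpr (hcen ▸ Subgroup.mem_top a)
  exact hxy ((h1 x).trans (h1 y).symm)

theorem main_aux (p : ℕ) [Fact p.Prime] : ∀ (n : ℕ) (G : Type u) [Group G] [Finite G],
    Nat.card G = n → ∀ (S : Sylow p G) (A B : Subgroup G), A.IsSubnormal → B.IsSubnormal →
    (A ⊔ B) ⊓ (S : Subgroup G) ≤ (A ⊓ (S : Subgroup G)) ⊔ (B ⊓ (S : Subgroup G)) := by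
  intro n
  induction n using Nat.strong_induction_on with
  | _ n ih =>
  intro G _ _ hn S A B hA hB
  have IHG : IH.{u} p (Nat.card G) := by
    intro H _ _ hH S' A' B' hA' hB'
    exact ih (Nat.card H) (hn ▸ hH) H rfl S' A' B' hA' hB'
  by_cases htop : A ⊔ B = ⊤
  swap
  · -- Step 0: pass to the subnormal subgroup `J = ⟨A, B⟩`
    obtain ⟨J, hJ⟩ : ∃ J : Subgroup G, J = A ⊔ B := ⟨_, rfl⟩
    rw [← hJ] at htop ⊢
    have hAJ : A ≤ J := hJ ▸ le_sup_left
    have hBJ : B ≤ J := hJ ▸ le_sup_right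
    have hJsn : J.IsSubnormal := hJ ▸ sup_isSubnormal hA hB
    obtain ⟨Q, hQ⟩ := helper12.exists_sylow_eq_subgroupOf_of_isSubnormal S J hJsn
    have hcard : Nat.card J < Nat.card G :=
      lt_of_le_of_ne (Subgroup.card_le_card_group J)
        (fun h => htop ((Subgroup.card_eq_iff_eq_top J).mp h))
    have key := IHG J hcard Q (A.subgroupOf J) (B.subgroupOf J) hA.subgroupOf hB.subgroupOf
    rw [hQ, ← Subgroup.subgroupOf_sup hAJ hBJ, ← hJ, Subgroup.subgroupOf_self, top_inf_eq]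
      at key
    intro x hx
    have hxJ : x ∈ J := hx.1
    have h1 : (⟨x, hxJ⟩ : J) ∈ (S : Subgroup G).subgroupOf J := by
      rw [Subgroup.mem_subgroupOf]; exact hx.2
    have h2 := key h1
    have h3 : x ∈ ((A.subgroupOf J ⊓ (S : Subgroup G).subgroupOf J) ⊔
        (B.subgroupOf J ⊓ (S : Subgroup G).subgroupOf J)).map J.subtype := ⟨⟨x, hxJ⟩, h2, rfl⟩
    rw [Subgroup.map_sup] at h3
    have hmp : ∀ X : Subgroup G, (X.subgroupOf J ⊓ (S : Subgroup G).subgroupOf J).map J.subtype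
        ≤ X ⊓ (S : Subgroup G) := by
      rintro X _ ⟨y, ⟨hy1, hy2⟩, rfl⟩
      exact ⟨Subgroup.mem_subgroupOf.mp hy1, Subgroup.mem_subgroupOf.mp hy2⟩
    exact (sup_le_sup (hmp A) (hmp B)) h3
  rw [htop, top_inf_eq]
  -- Step 2: `O_{p'}(G) = 1`
  by_cases hO : pPrimeCore p G = ⊥
  swap
  · have : (pPrimeCore p G).Normal := inferInstance
    refine quotient_step IHG S hA hB htop (pPrimeCore p G) hO ?_
    have hco : (Nat.card (pPrimeCore p G)).Coprime (Nat.card (S : Subgroup G)) := by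
      rw [S.card_eq_multiplicity]
      exact Nat.Coprime.pow_right _ (helper27.pPrimeCore_coprime p)
    rw [(Subgroup.disjoint_of_coprime_natCard hco).eq_bot]
    exact bot_le
  -- Step 3: `E(G) = 1`
  by_cases hE : layer G = ⊥
  swap
  · have hEn : (layer G).Normal := helper28.layer_normal G
    refine quotient_step IHG S hA hB htop (layer G) hE ?_
    have hEA : layer G ≤ Subgroup.normalizer (A : Set G) :=
      helper28.layer_le_normalizer_of_isSubnormal hA
    have hLsn : (layer G).IsSubnormal := Subgroup.Normal.isSubnormal hEn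
    have hXY : layer G ≤ (layer G ⊓ A) ⊔ (layer G ⊓ B) := by
      apply sSup_le
      intro K hK
      have hKE : K ≤ layer G := le_sSup hK
      rcases helper28.isComponent_le_or_commute hK hA with h1 | h1
      · exact le_trans (le_inf hKE h1) le_sup_left
      rcases helper28.isComponent_le_or_commute hK hB with h2 | h2
      · exact le_trans (le_inf hKE h2) le_sup_right
      exfalso
      apply component_not_le_centralizer_top hK
      rw [← htop, helper56.centralizer_sup]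
      exact le_inf (Subgroup.commutator_eq_bot_iff_le_centralizer.mp h1)
        (Subgroup.commutator_eq_bot_iff_le_centralizer.mp h2)
    have hYX : layer G ⊓ B ≤ Subgroup.normalizer ((layer G ⊓ A : Subgroup G) : Set G) := by
      intro g hg
      apply Subgroup.mem_normalizer_fintype
      intro n hn
      exact ⟨hEn.conj_mem n hn.1 g, (Subgroup.mem_normalizer_iff.mp (hEA hg.1) n).mp hn.2⟩
    have h1 := inf_sylow_sup_le S (hLsn.inf hA) (hLsn.inf hB) hYX
    calc layer G ⊓ (S : Subgroup G)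
        ≤ ((layer G ⊓ A) ⊔ (layer G ⊓ B)) ⊓ (S : Subgroup G) := inf_le_inf_right _ hXY
      _ ≤ ((layer G ⊓ A) ⊓ (S : Subgroup G)) ⊔ ((layer G ⊓ B) ⊓ (S : Subgroup G)) := h1
      _ ≤ (A ⊓ (S : Subgroup G)) ⊔ (B ⊓ (S : Subgroup G)) :=
          sup_le_sup (inf_le_inf_right _ inf_le_right) (inf_le_inf_right _ inf_le_right)
  -- Step 4: `F*(G) = O_p(G)`
  obtain ⟨Q, hQdef⟩ : ∃ Q : Subgroup G, Q = pCore p G := ⟨_, rfl⟩
  have hQn : Q.Normal := hQdef ▸ helper53.pCore_normal p G
  have hQp : IsPGroup p Q := hQdef ▸ helper53.pCore_isPGroup p G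
  have hQS : Q ≤ S := hQdef ▸ helper53.pCore_le_sylow S
  have hCQ : Subgroup.centralizer (Q : Set G) ≤ Q := by
    rw [hQdef, ← helper54.generalizedFittingSubgroup_eq_pCore_iff G p]
    unfold generalizedFittingSubgroup
    rw [hE, bot_sup_eq]
    exact helper28.fittingSubgroup_eq_pCore_of_pPrimeCore_eq_bot hO
  obtain ⟨T, hT⟩ : ∃ T : Subgroup G, T = (A ⊓ (S : Subgroup G)) ⊔ (B ⊓ (S : Subgroup G)) :=
    ⟨_, rfl⟩
  rw [← hT]
  have hAT : A ⊓ (S : Subgroup G) ≤ T := hT ▸ le_sup_left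
  have hBT : B ⊓ (S : Subgroup G) ≤ T := hT ▸ le_sup_right
  have hres : ∀ {X : Subgroup G}, X.IsSubnormal → X ⊓ (S : Subgroup G) ≤ T →
      ⁅Q, (pResidual p X).map X.subtype⁆ ≤ Q ⊓ T ∧
        X ≤ (pResidual p X).map X.subtype ⊔ (X ⊓ (S : Subgroup G)) := by
    intro X hX hXT
    constructor
    · refine le_inf (Subgroup.commutator_le_left Q _) ?_
      have h1 : ⁅Q, (pResidual p X).map X.subtype⁆ ≤ X :=
        le_trans (helper52.commutator_pResidual_le_of_isSubnormal hQn hQp hX)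
          (helper52.map_pResidual_subtype_le p X)
      have h2 : ⁅Q, (pResidual p X).map X.subtype⁆ ≤ S :=
        le_trans (Subgroup.commutator_le_left Q _) hQS
      exact le_trans (le_inf h1 h2) hXT
    · obtain ⟨P, hP⟩ := helper12.exists_sylow_eq_subgroupOf_of_isSubnormal S X hX
      have h1 := helper53.pResidual_sup_sylow P
      have h2 : ((pResidual p X) ⊔ (P : Subgroup X)).map X.subtype = X := by
        rw [h1, ← MonoidHom.range_eq_map, Subgroup.range_subtype]
      rw [Subgroup.map_sup, hP, Subgroup.subgroupOf_map_subtype, inf_comm] at h2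
      exact h2.ge
  obtain ⟨hA1, hA2⟩ := hres hA hAT
  obtain ⟨hB1, hB2⟩ := hres hB hBT
  have hnorm : (Q ⊓ T).Normal := by
    rw [← Subgroup.normalizer_eq_top_iff, eq_top_iff, ← htop]
    have hTle : T ≤ Subgroup.normalizer ((Q ⊓ T : Subgroup G) : Set G) := by
      intro t ht
      apply Subgroup.mem_normalizer_fintype
      intro n hn
      exact ⟨hQn.conj_mem n hn.1 t, T.mul_mem (T.mul_mem ht hn.2) (T.inv_mem ht)⟩
    have hRle : ∀ {X : Subgroup G}, ⁅Q, (pResidual p X).map X.subtype⁆ ≤ Q ⊓ T →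
        (pResidual p X).map X.subtype ≤ Subgroup.normalizer ((Q ⊓ T : Subgroup G) : Set G) := by
      intro X hc r hr
      apply Subgroup.mem_normalizer_fintype
      intro n hn
      have h1 : ⁅n, r⁆ ∈ Q ⊓ T := hc (Subgroup.commutator_mem_commutator hn.1 hr)
      have h2 : r * n * r⁻¹ = ⁅n, r⁆⁻¹ * n := by
        rw [commutatorElement_def]; group
      rw [h2]
      exact (Q ⊓ T).mul_mem ((Q ⊓ T).inv_mem h1) hn
    exact sup_le (le_trans hA2 (sup_le (hRle hA1) (le_trans hAT hTle)))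
      (le_trans hB2 (sup_le (hRle hB1) (le_trans hBT hTle)))
  by_cases hQT : Q ⊓ T = ⊥
  swap
  · have := quotient_step IHG S hA hB htop (Q ⊓ T) hQT
      (le_trans inf_le_left (le_trans inf_le_right (le_of_eq hT)))
    rw [hT]; exact this
  have hfin : ∀ {X : Subgroup G}, ⁅Q, (pResidual p X).map X.subtype⁆ ≤ Q ⊓ T →
      X ≤ (pResidual p X).map X.subtype ⊔ (X ⊓ (S : Subgroup G)) → X ≤ S := by
    intro X h1 h2
    rw [hQT, le_bot_iff, Subgroup.commutator_comm,
      Subgroup.commutator_eq_bot_iff_le_centralizer] at h1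
    exact le_trans h2 (sup_le (le_trans h1 (le_trans hCQ hQS)) inf_le_right)
  have hAS := hfin hA1 hA2
  have hBS := hfin hB1 hB2
  have htT : (⊤ : Subgroup G) ≤ T := by
    rw [← htop, hT]; exact sup_le_sup (le_inf le_rfl hAS) (le_inf le_rfl hBS)
  exact le_trans le_top htT

/-- Let G be a finite group, p a prime, S a Sylow p-subgroup of G and A₁, A₂ subnormal subgroups of G. Then the join of S ∩ A₁ and S ∩ A₂ is a Sylow p-subgroup of the join of A₁ and A₂; equivalently ⟨A₁, A₂⟩ ∩ S = ⟨A₁ ∩ S, A₂ ∩ S⟩. -/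
theorem result {G : Type*} [Group G] [Finite G] {p : ℕ} [Fact p.Prime] (S : Sylow p G) (A₁ A₂ : Subgroup G)
    (h₁ : A₁.IsSubnormal) (h₂ : A₂.IsSubnormal) :
    (A₁ ⊔ A₂) ⊓ (S : Subgroup G) = (A₁ ⊓ (S : Subgroup G)) ⊔ (A₂ ⊓ (S : Subgroup G)) := by
  apply le_antisymm
  · exact main_aux p (Nat.card G) G rfl S A₁ A₂ h₁ h₂
  · exact sup_le (inf_le_inf_right _ le_sup_left) (inf_le_inf_right _ le_sup_right)

end Cfsg.Agent.S3028
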