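-- Statement S2802 (row 2802).
import Cfsg.Statements.S2802
import Cfsg.Agent.Lib.helper52.PReduced

set_option autoImplicit false
open Cfsg

namespace Cfsg.Agent.S2802

open Cfsg.Agent.Lib.helper52

/-- Characteristic p, T ≤ R ≤ L with T Sylow: for X p-reduced normal in R, ⟨X^L⟩ is p-reduced normal in L (so Y_R ≤ Y_L). -/
theorem result {L : Type*} [Group L] [Finite L] {p : ℕ} [Fact p.Prime] (hchar : Subgroup.centralizer (Cfsg.pCore p L : Set L) ≤ Cfsg.pCore p L) (T : Sylow p L) (R : Subgroup L) (hTR : (T : Subgroup L) ≤ R) (X : Subgroup ↥R) (hX : Cfsg.IsPReducedNormal p X) : Cfsg.IsPReducedNormal p (Subgroup.normalClosure ((X.map R.subtype : Subgroup L) : Set L)) := by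
  set X' : Subgroup L := X.map R.subtype with hX'
  set Q : Subgroup L := Cfsg.pCore p L with hQ
  have hQn : Q.Normal := Cfsg.pCore_normal p L
  have hQT : Q ≤ (T : Subgroup L) := (pCore_isPGroup p L).le_sylow_of_normal T
  have hQR : Q ≤ R := hQT.trans hTR
  have hQsub : Q.subgroupOf R ≤ Cfsg.pCore p ↥R :=
    le_pCore Subgroup.normal_subgroupOf ((pCore_isPGroup p L).comap_subtype)
  have hXcent := pCore_le_centralizer_of_isPReducedNormal hX
  obtain ⟨hXn, hXe, hXred⟩ := (isPReducedNormal_iff p X).mp hX
  -- X' lies in Ω₁Z(O_p(L))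
  have hX'Z : X' ≤ omegaZ p Q := by
    intro y hy
    obtain ⟨x, hx, rfl⟩ := Subgroup.mem_map.mp hy
    have hc : (R.subtype x) ∈ Subgroup.centralizer (Q : Set L) := by
      rw [Subgroup.mem_centralizer_iff]
      intro q hq
      have h1 : (⟨q, hQR hq⟩ : ↥R) ∈ Subgroup.centralizer (X : Set ↥R) :=
        hXcent (hQsub (by simpa [Subgroup.mem_subgroupOf] using hq))
      have h2 := Subgroup.mem_centralizer_iff.mp h1 x hx
      have h3 := congrArg Subtype.val h2
      simpa using h3.symm
    refine ⟨hchar hc, hc, ?_⟩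
    have := hXe.2 x hx
    simpa using congrArg Subtype.val this
  have hZn : (omegaZ p Q).Normal := omegaZ_normal p Q
  set V : Subgroup L := Subgroup.normalClosure (X' : Set L) with hV
  have hVZ : V ≤ omegaZ p Q := Subgroup.normalClosure_le_normal hX'Z
  have hX'V : X' ≤ V := Subgroup.subset_normalClosure
  have hVn : V.Normal := Subgroup.normalClosure_normal
  rw [isPReducedNormal_iff]
  refine ⟨hVn, isElementaryAbelian_of_le hVZ (omegaZ_isElementaryAbelian p Q), ?_⟩
  intro D hD hDp
  have hCn : (Subgroup.centralizer (V : Set L)).Normal := Subgroup.normal_centralizer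
  have hCVX : Subgroup.centralizer (V : Set L) ≤ Subgroup.centralizer (X' : Set L) :=
    Subgroup.centralizer_le hX'V
  -- D centralizes X'
  have hDX' : D ≤ Subgroup.centralizer (X' : Set L) := by
    have h1 := le_inf_sup_inf_sylow T D (Subgroup.centralizer (V : Set L)) hDp
    refine h1.trans (sup_le (inf_le_right.trans hCVX) ?_)
    -- D ∩ T centralizes X'
    have hDR : D.subgroupOf R ≤ Subgroup.centralizer (X : Set ↥R) := by
      apply hXred _ Subgroup.normal_subgroupOf
      intro d hd
      obtain ⟨k, hk⟩ := hDp d.1 (by simpa [Subgroup.mem_subgroupOf] using hd)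
      refine ⟨k, ?_⟩
      rw [Subgroup.mem_centralizer_iff]
      intro x hx
      have h2 := Subgroup.mem_centralizer_iff.mp (hCVX hk) (R.subtype x) (Subgroup.mem_map_of_mem _ hx)
      exact Subtype.ext (by simpa using h2)
    intro d hd
    rw [Subgroup.mem_centralizer_iff]
    intro y hy
    obtain ⟨x, hx, rfl⟩ := Subgroup.mem_map.mp hy
    have h3 : (⟨d, hTR hd.2⟩ : ↥R) ∈ Subgroup.centralizer (X : Set ↥R) :=
      hDR (by simpa [Subgroup.mem_subgroupOf] using hd.1)
    have h4 := Subgroup.mem_centralizer_iff.mp h3 x hx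
    simpa using congrArg Subtype.val h4
  have hCDn : (Subgroup.centralizer (D : Set L)).Normal := Subgroup.normal_centralizer
  rw [Subgroup.le_centralizer_iff]
  exact Subgroup.normalClosure_le_normal (Subgroup.le_centralizer_iff.mp hDX')

end Cfsg.Agent.S2802
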