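-- Statement S2821 (row 2821).
import Cfsg.Statements.S2821
import Cfsg.Agent.Lib.helper52.ZL

set_option autoImplicit false
open Cfsg

namespace Cfsg.Agent.S2821

open Cfsg.Agent.Lib.helper52

/-- T ≤ L of characteristic p: C_T(Y_L) ∈ Syl_p(C_H(Y_L)), O_p(L) ≤ C_T(Y_L) ≤ C_L(Y_L), and Ω₁Z(T) ≤ Z_L ≤ Y_L ≤ Ω₁Z(O_p(L)). -/
theorem result {H : Type*} [Group H] [Finite H] {p : ℕ} [Fact p.Prime] (T : Sylow p H) (L : Subgroup H) (hTL : (T : Subgroup H) ≤ L) (hL : Subgroup.centralizer (Cfsg.pCore p ↥L : Set ↥L) ≤ Cfsg.pCore p ↥L) (T₀ : Subgroup H) (hT₀ : T₀ = (T : Subgroup H) ⊓ Subgroup.centralizer (((Cfsg.largestPReducedOf p L) : Subgroup H) : Set H)) : (∃ P : Sylow p ↥(Subgroup.centralizer (((Cfsg.largestPReducedOf p L) : Subgroup H) : Set H)), (P : Subgroup ↥(Subgroup.centralizer (((Cfsg.largestPReducedOf p L) : Subgroup H) : Set H))) = T₀.subgroupOf (Subgroup.centralizer (((Cfsg.largestPReducedOf p L) : Subgroup H) : Set H))) ∧ (Cfsg.pCoreOf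 p L) ≤ T₀ ∧ T₀ ≤ L ⊓ Subgroup.centralizer (((Cfsg.largestPReducedOf p L) : Subgroup H) : Set H) ∧ (Cfsg.omegaOne p ((T : Subgroup H) ⊓ Subgroup.centralizer (((T : Subgroup H) : Subgroup H) : Set H))) ≤ Cfsg.sylowCenterClosure p L ∧ Cfsg.sylowCenterClosure p L ≤ (Cfsg.largestPReducedOf p L) ∧ (Cfsg.largestPReducedOf p L) ≤ (Cfsg.omegaOne p ((Cfsg.pCoreOf p L) ⊓ Subgroup.centralizer (((Cfsg.pCoreOf p L) : Subgroup H) : Set H))) := by
  set Y : Subgroup H := Cfsg.largestPReducedOf p L with hY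
  set C : Subgroup H := Subgroup.centralizer (Y : Set H) with hC
  have hY₀ := largestPReduced_isPReducedNormal p ↥L
  have hLN : L ≤ Subgroup.normalizer (Y : Set H) := le_normalizer_largestPReducedOf p L
  have hNC : Subgroup.normalizer (Y : Set H) ≤ Subgroup.normalizer (C : Set H) :=
    normalizer_le_normalizer_centralizer Y
  have hQT : Cfsg.pCore p ↥L ≤ ((T.subtype hTL : Sylow p ↥L) : Subgroup ↥L) :=
    (pCore_isPGroup p ↥L).le_sylow_of_normal (T.subtype hTL)
  have hTmap : ((T.subtype hTL : Sylow p ↥L) : Subgroup ↥L).map L.subtype = (T : Subgroup H) := by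
    rw [Sylow.coe_subtype, Subgroup.map_subgroupOf_eq_of_le hTL]
  refine ⟨?_, ?_, ?_, ?_, ?_, ?_⟩
  · obtain ⟨P, hP⟩ := exists_sylow_inf_of_le_normalizer T C ((hTL.trans hLN).trans hNC)
    exact ⟨P, by rw [hP, hT₀]⟩
  · rw [hT₀]
    rintro q hq
    obtain ⟨q', hq', rfl⟩ := Subgroup.mem_map.mp hq
    refine Subgroup.mem_inf.mpr ⟨?_, ?_⟩
    · have := hQT hq'
      rw [Sylow.coe_subtype] at this
      exact Subgroup.mem_subgroupOf.mp this
    · rw [hC, Subgroup.mem_centralizer_iff]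
      rintro y hy
      obtain ⟨y', hy', rfl⟩ := Subgroup.mem_map.mp hy
      have := Subgroup.mem_centralizer_iff.mp (pCore_le_centralizer_of_isPReducedNormal hY₀ hq') y' hy'
      simpa using congrArg Subtype.val this
  · rw [hT₀]
    exact inf_le_inf_right _ hTL
  · rw [omegaOne_center_eq]
    have := omegaZ_sylow_le_sylowCenterClosure p L (T.subtype hTL)
    rwa [hTmap] at this
  · exact sylowCenterClosure_le_largestPReducedOf L hL
  · rw [omegaOne_center_eq]
    rintro y hy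
    obtain ⟨y', hy', rfl⟩ := Subgroup.mem_map.mp hy
    obtain ⟨h1, h2, h3⟩ := le_omegaZ_pCore_of_isPReducedNormal hY₀ hy'
    refine ⟨Subgroup.mem_map_of_mem _ h1, ?_, by simpa using congrArg Subtype.val h3⟩
    rw [Subgroup.mem_centralizer_iff]
    rintro q hq
    obtain ⟨q', hq', rfl⟩ := Subgroup.mem_map.mp hq
    have := Subgroup.mem_centralizer_iff.mp h2 q' hq'
    simpa using congrArg Subtype.val this

end Cfsg.Agent.S2821
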