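-- Statement S2803 (row 2803).
import Cfsg.Statements.S2803
import Cfsg.Agent.Lib.helper52.PRedTools
import Cfsg.Agent.S2802

set_option autoImplicit false
open Cfsg

namespace Cfsg.Agent.S2803

open Cfsg.Agent.Lib.helper52

/-- For Y = Y_L and T_L = C_T(Y_L): L = N_L(T_L) C_L(Y_L), T_L = O_p(N_L(T_L)) and Y_L = Ω₁Z(T_L). -/
theorem result {L : Type*} [Group L] [Finite L] {p : ℕ} [Fact p.Prime] (hchar : Subgroup.centralizer (Cfsg.pCore p L : Set L) ≤ Cfsg.pCore p L) (T : Sylow p L) (Y : Subgroup L) (hY : (Cfsg.IsPReducedNormal p Y ∧ ∀ V : Subgroup L, Cfsg.IsPReducedNormal p V → V ≤ Y)) (TL : Subgroup L) (hTL : TL = (T : Subgroup L) ⊓ Subgroup.centralizer (Y : Set L)) : (∀ g : L, ∃ a ∈ Subgroup.normalizer (TL : Set L), ∃ c ∈ Subgroup.centralizer (Y : Set L), g = a * c) ∧ (Cfsg.pCore p ↥(Subgroup.normalizer (TL : Set L))).map (Subgroup.normalizer (TL : Set L)).subtype = TL ∧ Y = Cfsg.omegaOne p (TL ⊓ Subgroup.centralizer (TL : Set L)) := by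
  obtain ⟨hYred, hYmax⟩ := hY
  obtain ⟨hYn, hYe, hYpr⟩ := (isPReducedNormal_iff p Y).mp hYred
  set C : Subgroup L := Subgroup.centralizer (Y : Set L) with hC
  have hCn : C.Normal := Subgroup.normal_centralizer
  set R : Subgroup L := Subgroup.normalizer (TL : Set L) with hR
  have hTLC : TL ≤ C := hTL ▸ inf_le_right
  have hTLT : TL ≤ (T : Subgroup L) := hTL ▸ inf_le_left
  have hTLR : TL ≤ R := Subgroup.le_normalizer
  have hTLp : IsPGroup p ↥TL := T.isPGroup'.to_le hTLT
  -- Sylow subgroup of C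
  obtain ⟨P, hP⟩ := exists_sylow_inf_normal T C
  rw [← hTL] at hP
  have hPmap : (P : Subgroup ↥C).map C.subtype = TL := by
    rw [hP, Subgroup.subgroupOf_map_subtype, inf_eq_left.mpr hTLC]
  -- Frattini argument
  have hRC : R ⊔ C = ⊤ := by
    have := Sylow.normalizer_sup_eq_top P
    rwa [hPmap] at this
  have hTR : (T : Subgroup L) ≤ R := by
    intro t ht
    have h1 : t ∈ Subgroup.normalizer ((T : Subgroup L) : Set L) ⊓ Subgroup.normalizer (C : Set L) :=
      ⟨Subgroup.le_normalizer ht, by rw [Subgroup.normalizer_eq_top]; exact Subgroup.mem_top t⟩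
    have h2 := Subgroup.inf_normalizer_le_normalizer_inf h1
    rw [hR, hTL]
    exact h2
  -- Y ≤ Ω₁Z(TL)
  have hYT : Y ≤ (T : Subgroup L) := (IsElementaryAbelian.isPGroup hYe).le_sylow_of_normal T
  have hYTL : Y ≤ TL := by
    rw [hTL]; exact le_inf hYT (IsElementaryAbelian.le_centralizer hYe)
  have hYZ : Y ≤ omegaZ p TL := by
    intro y hy
    exact ⟨hYTL hy, (Subgroup.le_centralizer_iff.mp hTLC) hy, hYe.2 y hy⟩
  -- TL ≤ O_p(R)
  have hTLsub : TL.subgroupOf R ≤ Cfsg.pCore p ↥R :=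
    le_pCore Subgroup.normal_in_normalizer hTLp.comap_subtype
  set Q₁ : Subgroup L := (Cfsg.pCore p ↥R).map R.subtype with hQ₁
  have hTLQ₁ : TL ≤ Q₁ := by
    intro t ht
    exact Subgroup.mem_map.mpr ⟨⟨t, hTLR ht⟩, hTLsub (by simpa [Subgroup.mem_subgroupOf] using ht), rfl⟩
  have hQ₁p : IsPGroup p ↥Q₁ := (pCore_isPGroup p ↥R).map _
  refine ⟨fun g => exists_mul_of_sup_eq_top R C hRC g, ?_, ?_⟩
  · -- O_p(N(TL)) = TL
    have hD : (Q₁ ⊔ C).Normal := normal_map_sup_of_sup_eq_top R C hRC (Cfsg.pCore p ↥R)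
    have hDC : Q₁ ⊔ C ≤ C := by
      apply hYpr _ hD
      apply exists_pow_mem_of_mem_sup Q₁ C
      intro a ha
      obtain ⟨k, hk⟩ := pow_eq_one_of_mem_isPGroup hQ₁p ha
      exact ⟨k, by rw [hk]; exact one_mem _⟩
    have hQ₁C : Q₁ ≤ C := le_sup_left.trans hDC
    have h1 : Q₁.subgroupOf C = (P : Subgroup ↥C) := by
      apply P.is_maximal' hQ₁p.comap_subtype
      rw [hP]
      intro x hx
      exact hTLQ₁ hx
    have h2 : (Q₁.subgroupOf C).map C.subtype = Q₁ := Subgroup.map_subgroupOf_eq_of_le hQ₁C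
    rw [← h2, h1, hPmap]
  · -- Y = Ω₁Z(TL)
    rw [omegaOne_center_eq]
    apply le_antisymm hYZ
    set X : Subgroup L := omegaZ p TL with hX
    have hXTL : X ≤ TL := omegaZ_le p TL
    have hXR : X ≤ R := hXTL.trans hTLR
    have hXn : (X.subgroupOf R).Normal := by
      constructor
      intro x hx r
      have := conj_mem_omegaZ (p := p) r.2 (Subgroup.mem_subgroupOf.mp hx)
      exact Subgroup.mem_subgroupOf.mpr (by simpa using this)
    have hXred : Cfsg.IsPReducedNormal p (X.subgroupOf R) := by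
      rw [isPReducedNormal_iff]
      refine ⟨hXn, isElementaryAbelian_subgroupOf (omegaZ_isElementaryAbelian p TL) R, ?_⟩
      intro D hD hDp
      have hCXn : (Subgroup.centralizer ((X.subgroupOf R : Subgroup ↥R) : Set ↥R)).Normal :=
        Subgroup.normal_centralizer
      -- D maps into C
      have hD'pow : ∀ d ∈ D.map R.subtype, ∃ k : ℕ, d ^ (p ^ k) ∈ C := by
        intro d hd
        obtain ⟨d₀, hd₀, rfl⟩ := Subgroup.mem_map.mp hd
        obtain ⟨k, hk⟩ := hDp d₀ hd₀
        refine ⟨k, ?_⟩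
        rw [hC, Subgroup.mem_centralizer_iff]
        intro y hy
        have h3 := Subgroup.mem_centralizer_iff.mp hk ⟨y, hXR (hYZ hy)⟩
          (Subgroup.mem_subgroupOf.mpr (hYZ hy))
        simpa using congrArg Subtype.val h3
      have hD'n : (D.map R.subtype ⊔ C).Normal := normal_map_sup_of_sup_eq_top R C hRC D
      have hD'C : D.map R.subtype ≤ C :=
        le_sup_left.trans (hYpr _ hD'n (exists_pow_mem_of_mem_sup _ C hD'pow))
      have h4 := le_inf_sup_inf_sylow (T.subtype hTR) D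
        (Subgroup.centralizer ((X.subgroupOf R : Subgroup ↥R) : Set ↥R)) hDp
      refine h4.trans (sup_le inf_le_right ?_)
      intro d hd
      have hdT : (d : L) ∈ (T : Subgroup L) := by
        have := hd.2
        rw [Sylow.coe_subtype] at this
        exact Subgroup.mem_subgroupOf.mp this
      have hdC : (d : L) ∈ C := hD'C (Subgroup.mem_map_of_mem _ hd.1)
      have hdTL : (d : L) ∈ TL := by rw [hTL]; exact ⟨hdT, hdC⟩
      rw [Subgroup.mem_centralizer_iff]
      intro x hx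
      have hx' : (x : L) ∈ omegaZ p TL := Subgroup.mem_subgroupOf.mp hx
      have := Subgroup.mem_centralizer_iff.mp hx'.2.1 d hdTL
      exact Subtype.ext (by simpa using this.symm)
    have hcl := Cfsg.Agent.S2802.result hchar T R hTR (X.subgroupOf R) hXred
    rw [Subgroup.map_subgroupOf_eq_of_le hXR] at hcl
    exact (Subgroup.subset_normalClosure).trans (hYmax _ hcl)

end Cfsg.Agent.S2803
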