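-- Statement S2824 (row 2824).
import Cfsg.Statements.S2824
import Cfsg.Agent.Lib.helper52.YL
import Cfsg.Agent.S2803

set_option autoImplicit false
open Cfsg

namespace Cfsg.Agent.S2824

open Cfsg.Agent.Lib.helper52

/-- T ≤ L, M of characteristic p with M C_H(Y_L) = L C_H(Y_L): L* = N_M(C_T(Y_L)) satisfies Y_{L*} = Y_L and L C_H(Y_L) = L* C_H(Y_L). -/
theorem result {H : Type*} [Group H] [Finite H] {p : ℕ} [Fact p.Prime] (T : Sylow p H) (L M : Subgroup H) (hTL : (T : Subgroup H) ≤ L) (hTM : (T : Subgroup H) ≤ M) (hL : Subgroup.centralizer (Cfsg.pCore p ↥L : Set ↥L) ≤ Cfsg.pCore p ↥L) (hM : Subgroup.centralizer (Cfsg.pCore p ↥M : Set ↥M) ≤ Cfsg.pCore p ↥M) (T₀ : Subgroup H) (hT₀ : T₀ = (T : Subgroup H) ⊓ Subgroup.centralizer (((Cfsg.largestPReducedOf p L) : Subgroup H) : Set H)) (hfac : M ⊔ Subgroup.centralizer (((Cfsg.largestPReducedOf p L) : Subgroup H) : Set H) = L ⊔ Subgroup.centralizer (((Cfsg.largestPReducedOf p L) : Subgroup H) : Set H)) (Ls : Subgroup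 H) (hLs : Ls = M ⊓ Subgroup.normalizer ((T₀ : Subgroup H) : Set H)) : (Cfsg.largestPReducedOf p Ls) = (Cfsg.largestPReducedOf p L) ∧ L ⊔ Subgroup.centralizer (((Cfsg.largestPReducedOf p L) : Subgroup H) : Set H) = Ls ⊔ Subgroup.centralizer (((Cfsg.largestPReducedOf p L) : Subgroup H) : Set H) := by
  set Y : Subgroup H := Cfsg.largestPReducedOf p L with hY
  set C : Subgroup H := Subgroup.centralizer (Y : Set H) with hC
  have hLN : L ≤ Subgroup.normalizer (Y : Set H) := le_normalizer_largestPReducedOf p L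
  have hNC : Subgroup.normalizer (Y : Set H) ≤ Subgroup.normalizer (C : Set H) :=
    normalizer_le_normalizer_centralizer Y
  have hLC : L ≤ Subgroup.normalizer (C : Set H) := hLN.trans hNC
  have hMC : M ≤ Subgroup.normalizer (C : Set H) :=
    le_sup_left.trans (hfac ▸ sup_le hLC Subgroup.le_normalizer)
  have hT₀T : T₀ ≤ (T : Subgroup H) := hT₀ ▸ inf_le_left
  have hT₀C : T₀ ≤ C := hT₀ ▸ inf_le_right
  have hT₀M : T₀ ≤ M := hT₀T.trans hTM
  have hT₀p : IsPGroup p ↥T₀ := T.isPGroup'.to_le hT₀T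
  have hTnT₀ : (T : Subgroup H) ≤ Subgroup.normalizer (T₀ : Set H) := by
    intro t ht
    have h1 : t ∈ Subgroup.normalizer ((T : Subgroup H) : Set H) ⊓ Subgroup.normalizer (C : Set H) :=
      ⟨Subgroup.le_normalizer ht, hLC (hTL ht)⟩
    rw [hT₀]
    exact Subgroup.inf_normalizer_le_normalizer_inf h1
  have hTLs : (T : Subgroup H) ≤ Ls := hLs ▸ le_inf hTM hTnT₀
  have hLsM : Ls ≤ M := hLs ▸ inf_le_left
  have hLsN : Ls ≤ Subgroup.normalizer (T₀ : Set H) := hLs ▸ inf_le_right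
  -- part (ii)
  have hii : M ⊔ C = Ls ⊔ C := by
    apply le_antisymm
    · refine sup_le ?_ le_sup_right
      intro m hm
      have hCMn : (C.subgroupOf M).Normal := Subgroup.normal_subgroupOf_of_le_normalizer hMC
      obtain ⟨P, hP⟩ := exists_sylow_inf_normal (T.subtype hTM) (C.subgroupOf M)
      have hPmap : (P : Subgroup ↥(C.subgroupOf M)).map (C.subgroupOf M).subtype = T₀.subgroupOf M := by
        rw [hP, Subgroup.subgroupOf_map_subtype, Sylow.coe_subtype, hT₀]
        ext x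
        simp only [Subgroup.mem_inf, Subgroup.mem_subgroupOf]
        tauto
      have hfr := Sylow.normalizer_sup_eq_top P
      rw [hPmap] at hfr
      obtain ⟨a, ha, c, hc, hmac⟩ := exists_mul_of_sup_eq_top _ (C.subgroupOf M) hfr ⟨m, hm⟩
      have haN : (a : H) ∈ Subgroup.normalizer (T₀ : Set H) := by
        rw [← Subgroup.subgroupOf_normalizer_eq hT₀M] at ha
        exact Subgroup.mem_subgroupOf.mp ha
      have hmeq : m = (a : H) * (c : H) := by simpa using congrArg Subtype.val hmac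
      rw [hmeq]
      exact Subgroup.mul_mem_sup (hLs ▸ Subgroup.mem_inf.mpr ⟨a.2, haN⟩) (Subgroup.mem_subgroupOf.mp hc)
    · exact sup_le (hLsM.trans le_sup_left) le_sup_right
  have hii' : Ls ⊔ C = L ⊔ C := by rw [← hii, hfac]
  refine ⟨?_, by rw [← hfac, hii]⟩
  have hge : Y ≤ Cfsg.largestPReducedOf p Ls := largestPReducedOf_le_of_sup_eq T Ls L hTLs hTL hii'
  apply le_antisymm _ hge
  have hS := (Cfsg.Agent.S2803.result hL (T.subtype hTL) (Cfsg.largestPReduced p ↥L)
    ⟨largestPReduced_isPReducedNormal p ↥L, fun V hV => le_largestPReduced hV⟩ _ rfl).2.2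
  rw [omegaOne_center_eq] at hS
  have hY₁ := largestPReduced_isPReducedNormal p ↥Ls
  have hY₁T := largestPReducedOf_le_sylow T Ls hTLs
  have hY₁e := largestPReducedOf_isElementaryAbelian p Ls
  have hT₀Q : T₀.subgroupOf Ls ≤ Cfsg.pCore p ↥Ls :=
    le_pCore (Subgroup.normal_subgroupOf_of_le_normalizer hLsN) hT₀p.comap_subtype
  rintro y hy
  have hyT : y ∈ (T : Subgroup H) := hY₁T hy
  have hyL : y ∈ L := hTL hyT
  have hmem : (⟨y, hyL⟩ : ↥L) ∈ Cfsg.largestPReduced p ↥L := by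
    rw [hS]
    refine mem_omegaZ.mpr ⟨Subgroup.mem_inf.mpr ⟨?_, ?_⟩, ?_, ?_⟩
    · rw [Sylow.coe_subtype]; exact Subgroup.mem_subgroupOf.mpr hyT
    · rw [Subgroup.mem_centralizer_iff]
      intro y₀ hy₀
      have h1 : (y₀ : H) ∈ Cfsg.largestPReducedOf p Ls := hge (Subgroup.mem_map_of_mem L.subtype hy₀)
      have := IsElementaryAbelian.commute hY₁e h1 hy
      exact Subtype.ext (by simpa using this)
    · rw [Subgroup.mem_centralizer_iff]
      intro t ht
      obtain ⟨htT, htC⟩ := Subgroup.mem_inf.mp ht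
      have htT₀ : (t : H) ∈ T₀ := by
        rw [hT₀]
        refine Subgroup.mem_inf.mpr ⟨?_, ?_⟩
        · rw [Sylow.coe_subtype] at htT; exact Subgroup.mem_subgroupOf.mp htT
        · rw [Subgroup.mem_centralizer_iff]
          rintro z hz
          obtain ⟨z', hz', rfl⟩ := Subgroup.mem_map.mp hz
          have := Subgroup.mem_centralizer_iff.mp htC z' hz'
          simpa using congrArg Subtype.val this
      have htLs : (t : H) ∈ Ls := hTLs (hT₀T htT₀)
      have h2 : (⟨(t : H), htLs⟩ : ↥Ls) ∈ Cfsg.pCore p ↥Ls := hT₀Q (Subgroup.mem_subgroupOf.mpr htT₀)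
      obtain ⟨y', hy', hyy'⟩ := Subgroup.mem_map.mp hy
      have h3 := Subgroup.mem_centralizer_iff.mp (pCore_le_centralizer_of_isPReducedNormal hY₁ h2) y' hy'
      have h4 := congrArg Subtype.val h3
      simp only [Subgroup.coe_mul] at h4
      have hyy'' : (y' : H) = y := hyy'
      rw [hyy''] at h4
      exact Subtype.ext (by simpa using h4.symm)
    · exact Subtype.ext (by simpa using hY₁e.2 _ hy)
  exact Subgroup.mem_map.mpr ⟨_, hmem, rfl⟩

end Cfsg.Agent.S2824
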