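import Cfsg.Statements.S1396
import Cfsg.Agent.Lib.helper29.PLen
import Cfsg.Agent.Lib.helper29.Trans4
import Cfsg.Agent.Lib.helper29.PSolv
import Cfsg.Agent.Lib.helper38.HallHigman2

set_option autoImplicit false
open Cfsg

namespace Cfsg.Agent.S1396

/-- Let G be a minimal simple group of odd order, p a prime dividing the order of G and A an abelian p-subgroup. Suppose either (1) A consists exactly of the elements x of C_G(A) with x^p = 1, and every proper subgroup of G has p-length at most one, or (2) A is normal and self-centralizing in some Sylow p-subgroup of G and has rank at least 2. Then A satisfies the transitivity hypothesis. -/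
theorem result {G : Type*} [Group G] [Finite G] (hG : Cfsg.IsMinSimpleOddOrder G)
    (p : ℕ) [Fact p.Prime] (hp : p ∣ Nat.card G) (A : Subgroup G) (hAp : IsPGroup p A) (hAc : IsMulCommutative A)
    (h : (∀ x ∈ Subgroup.centralizer (A : Set G), x ^ p = 1 ↔ x ∈ A) ∧ (∀ H : Subgroup G, H ≠ ⊤ → Cfsg.PLengthLE p 1 H) ∨
      ∃ P : Sylow p G, Cfsg.IsSCN (P : Subgroup G) A ∧ ¬ Cfsg.PRankLE p 1 A) :
    Cfsg.TransitivityHypothesis A := by
  obtain ⟨hodd, hsimple, hnc, hsolv⟩ := hG
  have hpp : p.Prime := Fact.out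
  have hp2 : p ≠ 2 := by
    intro hp2
    rw [hp2] at hp
    exact (Nat.not_even_iff_odd.mpr hodd) (even_iff_two_dvd.mpr hp)
  have hAbot : A ≠ ⊥ := by
    intro hA
    rcases h with ⟨h1, _⟩ | ⟨P, _, hr⟩
    · obtain ⟨x, hx⟩ := exists_prime_orderOf_dvd_card' p hp
      have hxc : x ∈ Subgroup.centralizer (A : Set G) := by
        rw [hA, Subgroup.mem_centralizer_iff]
        intro b hb
        have : b = 1 := hb
        rw [this, one_mul, mul_one]
      have hxA : x ∈ A := (h1 x hxc).mp (by rw [← hx]; exact pow_orderOf_eq_one x)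
      rw [hA, Subgroup.mem_bot] at hxA
      rw [hxA, orderOf_one] at hx
      exact hpp.one_lt.ne hx
    · apply hr
      intro B _ _
      have h1 : Nat.card A = 1 := by rw [hA]; exact Subgroup.card_bot
      have h2 : Nat.card B ∣ Nat.card A := Subgroup.card_subgroup_dvd_card B
      rw [h1] at h2
      rw [Nat.eq_one_of_dvd_one h2, pow_one]
      exact hpp.one_lt.le
  have hAtop : A ≠ ⊤ := by
    intro hA
    apply hnc
    refine ⟨⟨fun a b => ?_⟩⟩
    have h1 := hAc.is_comm.comm (⟨a, hA ▸ Subgroup.mem_top a⟩ : A) ⟨b, hA ▸ Subgroup.mem_top b⟩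
    exact congrArg Subtype.val h1
  refine ⟨hAbot, hAtop, ?_⟩
  intro X hX hAX
  obtain ⟨k, hk⟩ := IsPGroup.iff_card.mp hAp
  have hk0 : k ≠ 0 := by
    intro hk0
    rw [hk0, pow_zero] at hk
    exact hAbot ((Subgroup.card_eq_one).mp hk)
  have hπ : Cfsg.primesNotDvd (Nat.card A) = Cfsg.primesNotDvd p := by
    ext q
    unfold Cfsg.primesNotDvd
    simp only [Set.mem_setOf_eq]
    rw [hk]
    constructor
    · rintro ⟨hq, hnd⟩
      exact ⟨hq, fun h => hnd (h.trans (dvd_pow_self p hk0))⟩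
    · rintro ⟨hq, hnd⟩
      exact ⟨hq, fun h => hnd (hq.dvd_of_dvd_pow h)⟩
  rw [hπ]
  have hcons : Cfsg.IsPConstrained p ↥X :=
    Cfsg.Agent.Lib.helper38.isPConstrained_of_isPSolvable
      (Cfsg.Agent.Lib.helper29.isPSolvable_of_isSolvable p (hsolv X hX))
  have hcop : ∀ Y : Subgroup G, (∀ q : ℕ, q.Prime → q ∣ Nat.card Y → q ∈ Cfsg.primesNotDvd p) →
      (Nat.card Y).Coprime p := by
    intro Y hY
    rw [Nat.coprime_comm, Nat.Prime.coprime_iff_not_dvd hpp]
    intro hdvd
    exact (hY p hpp hdvd).2 dvd_rfl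
  apply le_antisymm
  · apply sSup_le
    rintro Y ⟨hYX, hYπ, hAY⟩
    have hYc : (Nat.card Y).Coprime p := hcop Y hYπ
    have hYle : Y ≤ (Cfsg.pPrimeCore p ↥X).map X.subtype := by
      rcases h with ⟨h1, h2⟩ | ⟨P, ⟨hAP, hPN, hPc⟩, _⟩
      · exact Cfsg.Agent.Lib.helper29.le_map_pPrimeCore_of_invariant_of_pLength_one hp2 X hcons
          (h2 X hX) A Y hAX hYX hAp (fun x hx hxp => (h1 x hx).mp hxp) hYc hAY
      · exact Cfsg.Agent.Lib.helper29.le_map_pPrimeCore_of_invariant X hcons A Y hAX hYX hAp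
          (Cfsg.Agent.Lib.helper29.mem_of_scn_of_pElement P A hAP hPN hPc) hYc hAY (Or.inl hp2)
    refine hYle.trans ?_
    refine Cfsg.Agent.Lib.helper29.le_piCoreOf (Subgroup.map_subtype_le _)
      (Cfsg.Agent.Lib.helper29.le_normalizer_map_pPrimeCore X) ?_
    intro q hq hdvd
    refine ⟨hq, fun hqp => ?_⟩
    have hqp' : q = p := (Nat.prime_dvd_prime_iff_eq hq hpp).mp hqp
    rw [hqp'] at hdvd
    have hc := Cfsg.Agent.Lib.helper29.card_map_pPrimeCore_coprime (p := p) X
    rw [Nat.coprime_comm, Nat.Prime.coprime_iff_not_dvd hpp] at hc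
    exact hc hdvd
  · apply le_sSup
    refine ⟨Cfsg.Agent.Lib.helper29.piCoreOf_le _ _,
      Cfsg.Agent.Lib.helper29.prime_mem_of_dvd_card_piCoreOf _ _,
      hAX.trans (Cfsg.Agent.Lib.helper29.le_normalizer_piCoreOf _ _)⟩

end Cfsg.Agent.S1396
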