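import Cfsg.Statements.S1398
-- import your own Cfsg.Agent.* helpers here
import Cfsg.Agent.Lib.helper36.BGU6

set_option autoImplicit false
open Cfsg

namespace Cfsg.Agent.S1398

/-- Let G be a minimal simple group of odd order, M a maximal subgroup, p a prime, and B a noncyclic elementary abelian p-subgroup of M. If C_G(b) ≤ M for every non-identity b ∈ B, or if every subgroup of G of order coprime to p normalized by B is contained in M, then M is the only maximal subgroup of G containing B. -/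
theorem result {G : Type*} [Group G] [Finite G] (hG : Cfsg.IsMinSimpleOddOrder G)
    (M : Subgroup G) (hM : IsCoatom M) (p : ℕ) [Fact p.Prime] (B : Subgroup G) (hBM : B ≤ M)
    (hBe : Cfsg.IsElementaryAbelian p B) (hBnc : ¬ IsCyclic B)
    (h : (∀ b ∈ B, b ≠ 1 → Subgroup.centralizer ({b} : Set G) ≤ M) ∨
      ∀ Y ∈ Cfsg.invSubgroups ⊤ B (Cfsg.primesNotDvd p), Y ≤ M) :
    Cfsg.InUniqueMaximal B := by
  have hp : p.Prime := Fact.out
  have hB1 : B ≠ ⊥ := by
    intro h0
    apply hBnc
    haveI : Subsingleton ↥B := by rw [h0]; infer_instance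
    exact isCyclic_of_subsingleton
  have hii : ∀ Y : Subgroup G, ¬ p ∣ Nat.card Y → B ≤ Subgroup.normalizer (Y : Set G) → Y ≤ M := by
    rcases h with h | h
    · exact Cfsg.Agent.Lib.helper36.bgu_i_to_ii hBe hBnc h
    · intro Y hY hBY
      refine h Y ⟨le_top, fun r hr hrY => ⟨hr, fun hrp => hY ?_⟩, hBY⟩
      rw [← (Nat.prime_dvd_prime_iff_eq hr hp).mp hrp]
      exact hrY
  exact ⟨M, ⟨hM, hBM⟩, fun H hH => Cfsg.Agent.Lib.helper36.bgu_92_main hG hM hBM
    (Cfsg.Agent.Lib.helper36.bgu_isPGroup_of_elem hBe) hB1 hii H hH.1 hH.2⟩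

end Cfsg.Agent.S1398
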