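import Cfsg.Statements.S1457
import Cfsg.Agent.S1465
import Cfsg.Agent.Lib.helper38.HallHigman2

set_option autoImplicit false
open Cfsg

namespace Cfsg.Agent.S1457

/-- Let G be a solvable group of odd order, p a prime, S a Sylow p-subgroup of G and A an abelian subgroup of S normal in S. Then A ≤ O_{p',p}(G). -/
theorem result {G : Type*} [Group G] [Finite G] [Group.IsSolvable G] (hodd : Odd (Nat.card G)) (p : ℕ) [Fact p.Prime] (S : Sylow p G) (A : Subgroup G) (hA : A ≤ (S : Subgroup G)) (hAc : IsMulCommutative A)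
    (hAn : (S : Subgroup G) ≤ Subgroup.normalizer (A : Set G)) :
    A ≤ Cfsg.pPrimePCore p G := by
  have hpp : p.Prime := Fact.out
  by_cases hp : p = 2
  · have hS1 : Nat.card (S : Subgroup G) = 1 := by
      obtain ⟨k, hk⟩ := IsPGroup.iff_card.mp S.isPGroup'
      have hdvd : Nat.card (S : Subgroup G) ∣ Nat.card G := Subgroup.card_subgroup_dvd_card _
      have hoddS := hodd.of_dvd_nat hdvd
      rw [hk, hp] at hoddS
      rcases k with _ | k
      · rw [hk]; simp
      · exfalso
        rw [pow_succ] at hoddS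
        exact (Nat.not_even_iff_odd.mpr hoddS) (even_two.mul_left _)
    have hSbot : (S : Subgroup G) = ⊥ := Subgroup.card_eq_one.mp hS1
    intro a ha
    have h1 : a ∈ (⊥ : Subgroup G) := hSbot ▸ hA ha
    rw [Subgroup.mem_bot] at h1
    rw [h1]
    exact one_mem _
  · have hcore : Cfsg.pPrimeCore p (G ⧸ Cfsg.pPrimeCore p G) = ⊥ :=
      Cfsg.Agent.Lib.helper38.pPrimeCore_quotient_pPrimeCore p G
    have hPn : (Cfsg.pCore p (G ⧸ Cfsg.pPrimeCore p G)).Normal :=
      Cfsg.Agent.Lib.helper40.pCore_normal' p _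
    have hPp : IsPGroup p (Cfsg.pCore p (G ⧸ Cfsg.pPrimeCore p G)) :=
      Cfsg.Agent.Lib.helper40.pCore_isPGroup p _
    have hoddQ : Odd (Nat.card (G ⧸ Cfsg.pPrimeCore p G)) :=
      Odd.of_dvd_nat hodd (Subgroup.card_quotient_dvd_card _)
    have key := (Cfsg.Agent.S1465.result (G := G ⧸ Cfsg.pPrimeCore p G) hoddQ p hp
      (Cfsg.pCore p (G ⧸ Cfsg.pPrimeCore p G)) hPp
      {A.map (QuotientGroup.mk' (Cfsg.pPrimeCore p G))} ?_).2 hcore inf_le_left
    · intro a ha
      change a ∈ (Cfsg.pCore p (G ⧸ Cfsg.pPrimeCore p G)).comap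
        (QuotientGroup.mk' (Cfsg.pPrimeCore p G))
      rw [Subgroup.mem_comap]
      apply key
      rw [sSup_singleton]
      exact Subgroup.mem_map_of_mem _ ha
    · intro B hB
      rw [Set.mem_singleton_iff] at hB
      subst hB
      refine ⟨?_, ?_, ?_⟩
      · constructor
        constructor
        rintro ⟨x, hx⟩ ⟨y, hy⟩
        obtain ⟨a, ha, rfl⟩ := hx
        obtain ⟨b, hb, rfl⟩ := hy
        apply Subtype.ext
        have h1 : a * b = b * a := congrArg Subtype.val (hAc.is_comm.comm ⟨a, ha⟩ ⟨b, hb⟩)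
        change QuotientGroup.mk' (Cfsg.pPrimeCore p G) a * QuotientGroup.mk' (Cfsg.pPrimeCore p G) b
          = QuotientGroup.mk' (Cfsg.pPrimeCore p G) b * QuotientGroup.mk' (Cfsg.pPrimeCore p G) a
        rw [← map_mul, ← map_mul, h1]
      · exact (S.isPGroup'.to_le hA).map _
      · have h1 : Cfsg.pCore p (G ⧸ Cfsg.pPrimeCore p G)
            ≤ (S : Subgroup G).map (QuotientGroup.mk' (Cfsg.pPrimeCore p G)) := by
          have h2 := hPp.le_sylow_of_normal
            (S.mapSurjective (QuotientGroup.mk'_surjective (Cfsg.pPrimeCore p G)))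
          rwa [Sylow.coe_mapSurjective] at h2
        refine le_trans h1 ?_
        rintro x ⟨s, hs, rfl⟩
        apply Cfsg.Agent.Lib.helper30.mem_normalizer_of_conj
        · rintro y ⟨a, ha, rfl⟩
          exact ⟨s * a * s⁻¹, (Subgroup.mem_normalizer_iff.mp (hAn hs) a).mp ha, by simp⟩
        · rintro y ⟨a, ha, rfl⟩
          exact ⟨s⁻¹ * a * s, (Subgroup.mem_normalizer_iff''.mp (hAn hs) a).mp ha, by simp⟩

end Cfsg.Agent.S1457
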