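import Cfsg.Statements.S1397
import Cfsg.Agent.Lib.helper54.UniqB
import Cfsg.Agent.Lib.helper13.Thompson
import Cfsg.Agent.S1396
import Cfsg.Agent.S1457
import Cfsg.Agent.S1482

set_option linter.style.haveILetI false

set_option autoImplicit false
open Cfsg

namespace Cfsg.Agent.S1397

open Cfsg.Agent.Lib.helper31 Cfsg.Agent.Lib.helper29 Cfsg.Agent.Lib.helper54

theorem part_a {G : Type*} [Group G] [Finite G] (hG : IsMinSimpleOddOrder G) (M : Subgroup G)
    (hM : IsCoatom M) (p : ℕ) [Fact p.Prime] (A₀ : Subgroup G) (hA₀ : A₀ ≤ fittingOf M)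
    (hA₀e : IsElementaryAbelian p A₀) (hA₀3 : p ^ 3 ≤ Nat.card A₀)
    (hnp : ¬ IsPGroup p ↥(fittingOf M)) :
    InUniqueMaximal (fittingOf M ⊓ Subgroup.centralizer (A₀ : Set G)) := by
  obtain ⟨hodd, hsimple, hna, hsolv⟩ := id hG
  haveI := hsimple
  have hp : p.Prime := Fact.out
  have hMtop : M ≠ ⊤ := hM.1
  have hMsolv : Group.IsSolvable M := hsolv M hMtop
  have hFM : fittingOf M ≤ M := bi_fittingOf_le M
  have hMF : M ≤ Subgroup.normalizer (fittingOf M : Set G) := bi_le_normalizer_fittingOf M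
  have hFnil : Group.IsNilpotent (fittingOf M) := bi_fittingOf_isNilpotent M
  obtain ⟨A, hAdef⟩ : ∃ A : Subgroup G, A = fittingOf M ⊓ Subgroup.centralizer (A₀ : Set G) :=
    ⟨_, rfl⟩
  rw [← hAdef]
  have hA₀comm : A₀ ≤ Subgroup.centralizer (A₀ : Set G) := by
    intro x hx
    rw [Subgroup.mem_centralizer_iff]
    intro y hy
    exact congrArg Subtype.val (hA₀e.1.is_comm.comm ⟨y, hy⟩ ⟨x, hx⟩)
  have hA₀A : A₀ ≤ A := hAdef ▸ le_inf hA₀ hA₀comm
  have hAF : A ≤ fittingOf M := hAdef ▸ inf_le_left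
  have hACA₀ : A ≤ Subgroup.centralizer (A₀ : Set G) := hAdef ▸ inf_le_right
  have hZ : fittingOf M ⊓ Subgroup.centralizer (fittingOf M : Set G) ≤ A :=
    hAdef ▸ inf_le_inf_left _ (Subgroup.centralizer_le hA₀)
  have hC : fittingOf M ⊓ Subgroup.centralizer (A : Set G) ≤ A :=
    (inf_le_inf_left _ (Subgroup.centralizer_le hA₀A)).trans (le_of_eq hAdef.symm)
  have hA₀p : IsPGroup p A₀ := Cfsg.Agent.Lib.helper13.elemAb_isPGroup hA₀e
  have hpA₀ : p ∣ Nat.card A₀ := by
    obtain ⟨n, hn⟩ := IsPGroup.iff_card.mp hA₀p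
    have hn0 : n ≠ 0 := by
      rintro rfl
      rw [pow_zero] at hn
      rw [hn] at hA₀3
      have : 1 < p ^ 3 := Nat.one_lt_pow (by norm_num) hp.one_lt
      omega
    rw [hn]; exact dvd_pow_self p hn0
  have hA₀1 : A₀ ≠ ⊥ := by
    rintro rfl
    rw [Subgroup.card_bot] at hpA₀
    exact hp.one_lt.ne' (Nat.dvd_one.mp hpA₀)
  have hA1 : A ≠ ⊥ := fun h => hA₀1 (le_bot_iff.mp (h ▸ hA₀A))
  have hAtop : A ≠ ⊤ := fun h => hMtop (top_le_iff.mp (h ▸ hAF.trans hFM))
  have hπ : ∀ r : ℕ, r.Prime → r ∣ Nat.card (fittingOf M) → r ∣ Nat.card A := by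
    intro r hr hrF
    haveI : Fact r.Prime := ⟨hr⟩
    have h1 := biZ_ne_bot M hrF
    have h2 : biZ M r ≤ A := (piCoreOf_le _ _).trans hZ
    have h3 : r ∣ Nat.card (biZ M r) := by
      obtain ⟨n, hn⟩ := IsPGroup.iff_card.mp (biZ_isPGroup M r)
      have hn0 : n ≠ 0 := by
        rintro rfl
        rw [pow_zero] at hn
        exact h1 (Subgroup.card_eq_one.mp hn)
      rw [hn]; exact dvd_pow_self r hn0
    exact h3.trans (Subgroup.card_dvd_of_le h2)
  have hprimes : primesNotDvd (Nat.card (fittingOf M)) = primesNotDvd (Nat.card A) :=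
    primesNotDvd_card_eq hAF hπ
  have hF2 : 2 ≤ (Nat.card (fittingOf M)).primeFactors.card := by
    have hpF : p ∣ Nat.card (fittingOf M) := hpA₀.trans (Subgroup.card_dvd_of_le hA₀)
    obtain ⟨r, hr, hrF, hrp⟩ : ∃ r : ℕ, r.Prime ∧ r ∣ Nat.card (fittingOf M) ∧ r ≠ p := by
      by_contra hcon
      push Not at hcon
      apply hnp
      apply bi_isPGroup_of_forall_prime
      intro r hr hrF
      exact hcon r hr hrF
    have hsub : ({p, r} : Finset ℕ) ⊆ (Nat.card (fittingOf M)).primeFactors := by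
      intro x hx
      rw [Finset.mem_insert, Finset.mem_singleton] at hx
      rcases hx with rfl | rfl
      · exact Nat.mem_primeFactors.mpr ⟨hp, hpF, Nat.card_pos.ne'⟩
      · exact Nat.mem_primeFactors.mpr ⟨hr, hrF, Nat.card_pos.ne'⟩
    calc 2 = ({p, r} : Finset ℕ).card := (Finset.card_pair (Ne.symm hrp)).symm
      _ ≤ _ := Finset.card_le_card hsub
  have hHmax : ∀ L : Subgroup G, IsLocalSubgroup L → M ≤ L → L = M := by
    rintro L ⟨r, T, hr, hT, hT1, rfl⟩ hML
    haveI : Fact r.Prime := ⟨hr⟩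
    exact ub_coatom_eq hM hML (Cfsg.Agent.Lib.helper31.normalizer_ne_top hG hT1
      (Cfsg.Agent.Lib.helper31.pgroup_ne_top hG hT))
  have hTH : TransitivityHypothesis A := by
    refine ⟨hA1, hAtop, ?_⟩
    intro X hXtop hAX
    have hXsolv : Group.IsSolvable X := hsolv X hXtop
    apply le_antisymm
    · apply sSup_le
      intro Y hY
      obtain ⟨hYX, hYπ, hAY⟩ := hY
      rw [← hprimes] at hYπ ⊢
      have hXR : M ⊓ Subgroup.centralizer (fittingOf M : Set G) ≤
          Subgroup.normalizer (X : Set G) := by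
        intro x hx
        have h1 : x ∈ fittingOf M := ua_cent_fitting_le M hMsolv hx
        exact Subgroup.le_normalizer (hAX (hZ ⟨h1, hx.2⟩))
      have hAXn : A ≤ Subgroup.normalizer (X : Set G) := hAX.trans Subgroup.le_normalizer
      have hcop : (Nat.card A).Coprime (Nat.card Y) := by
        apply bi_coprime_of_forall_prime
        intro r hr hdA hdY
        exact (hYπ r hr hdY).2 (hdA.trans (Subgroup.card_dvd_of_le hAF))
      have hAsolv : Group.IsSolvable A := bi_isSolvable_of_le_nilpotent hFnil hAF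
      have hidx : ((piCoreOf (primesNotDvd (Nat.card (fittingOf M))) X).subgroupOf Y).index
          = 1 := by
        rw [Nat.eq_one_iff_not_exists_prime_dvd]
        intro q hq hqd
        haveI : Fact q.Prime := ⟨hq⟩
        by_cases hqY : q ∣ Nat.card Y
        · have hqF : ¬ q ∣ Nat.card (fittingOf M) := (hYπ q hq hqY).2
          obtain ⟨P₀, hP₀⟩ := Cfsg.Agent.Lib.helper1.exists_invariant_sylow (p := q) A Y hAY hcop
            (Or.inl hAsolv)
          have hmem : (P₀ : Subgroup ↥Y).map Y.subtype ∈ invSubgroups X A {q} :=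
            ⟨(Subgroup.map_subtype_le _).trans hYX,
              bi_forall_prime_of_isPGroup (P₀.isPGroup'.map _), hP₀⟩
          have hle := bi_inv_le_core M hHmax hF2 A hAF hC X hXsolv hAXn hXR q hqF _ hmem
          have hle' : (P₀ : Subgroup ↥Y) ≤
              (piCoreOf (primesNotDvd (Nat.card (fittingOf M))) X).subgroupOf Y := by
            intro y hy
            rw [Subgroup.mem_subgroupOf]
            exact hle ⟨y, hy, rfl⟩
          exact P₀.not_dvd_index (hqd.trans (Subgroup.index_dvd_of_le hle'))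
        · exact hqY (hqd.trans (Subgroup.index_dvd_card _))
      exact Subgroup.subgroupOf_eq_top.mp (Subgroup.index_eq_one.mp hidx)
    · apply le_sSup
      exact ⟨piCoreOf_le _ _, prime_mem_of_dvd_card_piCoreOf _ _,
        hAX.trans (le_normalizer_piCoreOf _ _)⟩
  have hrk : ¬ RankLE 2 ↥(A ⊓ Subgroup.centralizer (A : Set G)) := by
    intro h
    have hA₀Z : A₀ ≤ A ⊓ Subgroup.centralizer (A : Set G) :=
      le_inf hA₀A (Subgroup.le_centralizer_iff.mp hACA₀)
    have hel := (Cfsg.Agent.Lib.helper13.isElementaryAbelian_subgroupOf_iff hA₀Z).mpr hA₀e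
    have h1 := h p hp (A₀.subgroupOf (A ⊓ Subgroup.centralizer (A : Set G))) hel.1 hel.2
    rw [Cfsg.Agent.Lib.helper13.card_subgroupOf_of_le hA₀Z] at h1
    have : p ^ 2 < p ^ 3 := Nat.pow_lt_pow_right hp.one_lt (by norm_num)
    omega
  have hsn : (A.subgroupOf (fittingOf M)).IsSubnormal := by
    haveI := hFnil
    exact Cfsg.Agent.Lib.helper65.isSubnormal_of_isNilpotent _
  have hinv := ub_inv_trivial hG M hM A hAF hZ hC hπ hTH hrk hsn
  have huniq := Cfsg.Agent.S1482.result hG M hM hF2 A hAF hZ hinv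
  exact ⟨M, ⟨hM, hAF.trans hFM⟩, fun L hL => huniq L hL.1 hL.2⟩

theorem part_b {G : Type*} [Group G] [Finite G] (hG : IsMinSimpleOddOrder G) (M : Subgroup G)
    (hM : IsCoatom M) (p : ℕ) [Fact p.Prime] (hF1 : fittingOf M ≠ ⊥)
    (hFp : IsPGroup p ↥(fittingOf M)) (P : Sylow p M) :
    ¬ p ∣ ((P : Subgroup M).map M.subtype).index ∧
      ∀ A : Subgroup G, IsSCN ((P : Subgroup M).map M.subtype) A → ¬ PRankLE p 2 ↥A →
        A ≤ fittingOf M ∧ InUniqueMaximal A := by
  obtain ⟨hodd, hsimple, hna, hsolv⟩ := id hG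
  haveI := hsimple
  have hp : p.Prime := Fact.out
  have hMtop : M ≠ ⊤ := hM.1
  have hMsolv : Group.IsSolvable M := hsolv M hMtop
  haveI := hMsolv
  have hFM : fittingOf M ≤ M := bi_fittingOf_le M
  have hMF : M ≤ Subgroup.normalizer (fittingOf M : Set G) := bi_le_normalizer_fittingOf M
  have hoddM : Odd (Nat.card M) := Odd.of_dvd_nat hodd (Subgroup.card_subgroup_dvd_card M)
  have hOM : pPrimeCore p ↥M = ⊥ := by
    have h1 : fittingOf M ≤ Subgroup.centralizer
        (((pPrimeCore p ↥M).map M.subtype : Subgroup G) : Set G) :=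
      bi_le_centralizer_of_normal_coprime hFM (bi_pPrimeCoreOf_le p M) hMF
        (bi_le_normalizer_pPrimeCoreOf p M) hFp (bi_card_pPrimeCoreOf_coprime p M)
    have h2 : (pPrimeCore p ↥M).map M.subtype ≤ fittingOf M :=
      (le_inf (bi_pPrimeCoreOf_le p M) (Subgroup.le_centralizer_iff.mp h1)).trans
        (ua_cent_fitting_le M hMsolv)
    have h3 : (pPrimeCore p ↥M).map M.subtype = ⊥ := by
      have hcop := bi_card_pPrimeCoreOf_coprime p M
      have hYp : IsPGroup p ((pPrimeCore p ↥M).map M.subtype : Subgroup G) := hFp.to_le h2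
      obtain ⟨n, hn⟩ := IsPGroup.iff_card.mp hYp
      rw [← Subgroup.card_eq_one, hn]
      rw [hn] at hcop
      rcases Nat.eq_zero_or_pos n with h0 | h0
      · rw [h0, pow_zero]
      · exfalso
        exact hp.one_lt.ne' (Nat.eq_one_of_dvd_coprimes hcop (dvd_pow_self p h0.ne') dvd_rfl)
    exact (Subgroup.map_eq_bot_iff_of_injective _ M.subtype_injective).mp h3
  obtain ⟨P', hP'⟩ : ∃ P' : Subgroup G, P' = (P : Subgroup ↥M).map M.subtype := ⟨_, rfl⟩
  rw [← hP']
  have hP'p : IsPGroup p P' := hP' ▸ P.isPGroup'.map _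
  have hP'M : P' ≤ M := hP' ▸ Subgroup.map_subtype_le _
  have hFP : fittingOf M ≤ P' := by
    haveI hFsn : (fittingSubgroup ↥M).Normal := Subgroup.sSup_normal _ (fun _ h => h.1)
    have hFp' : IsPGroup p (fittingSubgroup ↥M) := by
      have h1 := hFp.comap_of_injective M.subtype M.subtype_injective
      unfold fittingOf at h1
      rwa [Subgroup.comap_map_eq_self_of_injective M.subtype_injective] at h1
    have h2 := Cfsg.Agent.Lib.helper54.normal_pgroup_le_sylow hFp' P
    rw [hP']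
    exact Subgroup.map_mono h2
  have hP'1 : P' ≠ ⊥ := fun h => hF1 (le_bot_iff.mp (h ▸ hFP))
  have hMZJ : Subgroup.normalizer (centerThompsonOf p P' : Set G) = M := by
    have h1 := ua_le_normalizer_zj M hMsolv hoddM hOM P
    rw [← hP'] at h1
    exact ub_coatom_eq hM h1 (Cfsg.Agent.Lib.helper31.normalizer_ne_top hG
      (ua_zj_ne_bot hP'p hP'1)
      (Cfsg.Agent.Lib.helper31.pgroup_ne_top hG (hP'p.to_le (ua_zj_le p P'))))
  have hNP : Subgroup.normalizer (P' : Set G) ≤ M :=
    hMZJ ▸ ua_normalizer_le_normalizer_zj p P'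
  have hPmax : ∀ T : Subgroup G, IsPGroup p T → P' ≤ T → T = P' := by
    have h1 := ua_sylow_max M P (hP' ▸ hNP)
    rw [← hP'] at h1
    exact h1
  refine ⟨ua_not_dvd_index_of_max hP'p hPmax, ?_⟩
  intro A hSCN hrk2
  obtain ⟨hAP, hPA, hCA⟩ := hSCN
  have hAM : A ≤ M := hAP.trans hP'M
  have hAp : IsPGroup p A := hP'p.to_le hAP
  have hAcomm : A ≤ Subgroup.centralizer (A : Set G) := by
    intro a ha
    have h1 : a ∈ P' ⊓ Subgroup.centralizer (A : Set G) := by rw [hCA]; exact ha
    exact h1.2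
  haveI hAc : IsMulCommutative ↥A :=
    ⟨⟨fun a b => Subtype.ext ((Subgroup.mem_centralizer_iff.mp (hAcomm b.2)) a a.2)⟩⟩
  have hAF : A ≤ fittingOf M := by
    have hle : A.subgroupOf M ≤ (P : Subgroup ↥M) := by
      intro x hx
      have hx' : (x : G) ∈ P' := hAP (Subgroup.mem_subgroupOf.mp hx)
      rw [hP'] at hx'
      obtain ⟨y, hy, hyx⟩ := hx'
      have h1 : y = x := Subtype.ext hyx
      rw [← h1]; exact hy
    haveI hcomm : IsMulCommutative ↥(A.subgroupOf M) := ⟨⟨fun a b => by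
      apply Subtype.ext
      apply Subtype.ext
      exact (Subgroup.mem_centralizer_iff.mp (hAcomm (Subgroup.mem_subgroupOf.mp b.2))) _
        (Subgroup.mem_subgroupOf.mp a.2)⟩⟩
    have hnorm : (P : Subgroup ↥M) ≤
        Subgroup.normalizer ((A.subgroupOf M : Subgroup ↥M) : Set ↥M) := by
      intro y hy
      have hy' : (y : G) ∈ Subgroup.normalizer (A : Set G) := by
        apply hPA
        rw [hP']
        exact ⟨y, hy, rfl⟩
      rw [Subgroup.mem_normalizer_iff] at hy' ⊢
      intro x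
      rw [Subgroup.mem_subgroupOf, Subgroup.mem_subgroupOf]
      exact hy' x
    have h1 := Cfsg.Agent.S1457.result (G := ↥M) hoddM p P (A.subgroupOf M) hle hcomm hnorm
    have h2 : pPrimePCore p ↥M ≤ fittingSubgroup ↥M := by
      apply le_sSup
      refine ⟨?_, ?_⟩
      · unfold pPrimePCore
        infer_instance
      · have hpg : IsPGroup p ↥(pPrimePCore p ↥M) := by
          rintro ⟨x, hx⟩
          have hx' : (QuotientGroup.mk' (pPrimeCore p ↥M) x) ∈
              pCore p (↥M ⧸ pPrimeCore p ↥M) := hx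
          obtain ⟨k, hk⟩ :=
            (Cfsg.Agent.Lib.helper54.isPGroup_pCore p (↥M ⧸ pPrimeCore p ↥M)) ⟨_, hx'⟩
          refine ⟨k, ?_⟩
          have h3 : (QuotientGroup.mk' (pPrimeCore p ↥M) x) ^ p ^ k = 1 :=
            congrArg Subtype.val hk
          rw [← map_pow, QuotientGroup.mk'_apply, QuotientGroup.eq_one_iff, hOM,
            Subgroup.mem_bot] at h3
          exact Subtype.ext h3
        exact hpg.isNilpotent
    intro a ha
    exact ⟨⟨a, hAM ha⟩, h2 (h1 (Subgroup.mem_subgroupOf.mpr ha)), rfl⟩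
  have hA1 : A ≠ ⊥ := by
    rintro rfl
    apply hrk2
    intro B _ _
    have h1 : Nat.card B ≤ Nat.card (↥(⊥ : Subgroup G)) := Subgroup.card_le_card_group B
    rw [Subgroup.card_bot] at h1
    exact h1.trans (Nat.one_le_pow _ _ hp.pos)
  have hZ : fittingOf M ⊓ Subgroup.centralizer (fittingOf M : Set G) ≤ A := by
    intro x hx
    have h1 : x ∈ P' ⊓ Subgroup.centralizer (A : Set G) :=
      ⟨hFP hx.1, Subgroup.centralizer_le hAF hx.2⟩
    rw [hCA] at h1
    exact h1
  have hC : fittingOf M ⊓ Subgroup.centralizer (A : Set G) ≤ A := by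
    intro x hx
    have h1 : x ∈ P' ⊓ Subgroup.centralizer (A : Set G) := ⟨hFP hx.1, hx.2⟩
    rw [hCA] at h1
    exact h1
  have hpA : p ∣ Nat.card A := by
    obtain ⟨n, hn⟩ := IsPGroup.iff_card.mp hAp
    have hn0 : n ≠ 0 := by
      rintro rfl
      rw [pow_zero] at hn
      exact hA1 (Subgroup.card_eq_one.mp hn)
    rw [hn]; exact dvd_pow_self p hn0
  have hπ : ∀ r : ℕ, r.Prime → r ∣ Nat.card (fittingOf M) → r ∣ Nat.card A := by
    intro r hr hrF
    have h1 : r = p := bi_forall_prime_of_isPGroup hFp r hr hrF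
    rw [h1]; exact hpA
  have hpG : p ∣ Nat.card G := hpA.trans (Subgroup.card_subgroup_dvd_card A)
  have hTH : TransitivityHypothesis A := by
    apply Cfsg.Agent.S1396.result hG p hpG A hAp hAc
    right
    refine ⟨⟨P', hP'p, fun {Q} hQ hle => hPmax Q hQ hle⟩, ⟨hAP, hPA, hCA⟩, ?_⟩
    intro h1
    apply hrk2
    intro B hB1 hB2
    exact (h1 B hB1 hB2).trans (Nat.pow_le_pow_right hp.pos (by norm_num))
  have hrk : ¬ RankLE 2 ↥(A ⊓ Subgroup.centralizer (A : Set G)) := by
    have heq : A ⊓ Subgroup.centralizer (A : Set G) = A := inf_eq_left.mpr hAcomm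
    rw [heq]
    intro h
    exact hrk2 (h p hp)
  have hsn : (A.subgroupOf (fittingOf M)).IsSubnormal :=
    ((Subgroup.normal_subgroupOf_iff_le_normalizer hAF).mpr (hFP.trans hPA)).isSubnormal
  have hinv := ub_inv_trivial hG M hM A hAF hZ hC hπ hTH hrk hsn
  have hO : ∀ H : Subgroup G, IsCoatom H → A ≤ H → pPrimeCore p ↥H = ⊥ := by
    intro H hH hAH
    have hmem : (pPrimeCore p ↥H).map H.subtype ∈
        invSubgroups ⊤ A (primesNotDvd (Nat.card (fittingOf M))) := by
      refine ⟨le_top, ?_, hAH.trans (bi_le_normalizer_pPrimeCoreOf p H)⟩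
      intro r hr hd
      refine ⟨hr, fun hrF => ?_⟩
      have hrp : r = p := bi_forall_prime_of_isPGroup hFp r hr hrF
      rw [hrp] at hd
      have hcop := bi_card_pPrimeCoreOf_coprime p H
      exact hp.one_lt.ne' (Nat.eq_one_of_dvd_coprimes hcop hd dvd_rfl)
    have h1 := hinv _ hmem
    exact (Subgroup.map_eq_bot_iff_of_injective _ H.subtype_injective).mp h1
  have huniq := ub_uniq_of_zj hG M hM A hAM hAp hA1 hOM hO
  exact ⟨hAF, M, ⟨hM, hAM⟩, fun L hL => huniq L hL.1 hL.2⟩

/-- Let G be a minimal simple group of odd order, M a maximal subgroup, p a prime and A₀ an elementary abelian p-subgroup of F(M) of order at least p ^ 3 that is maximal among elementary abelian p-subgroups of F(M). (a) If F(M) is not a p-group, then F(M) ∩ C_G(A₀) lies in exactly one maximal subgroup of G. (b) If F(M) is a p-group and P is a Sylow p-subgroup of M, then p does not divide the index of P in G, and every normal self-centralizing subgroup A of P containing an elementary abelian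 subgroup of order p ^ 3 is contained in F(M) and lies in exactly one maximal subgroup of G. -/
theorem result {G : Type*} [Group G] [Finite G] (hG : Cfsg.IsMinSimpleOddOrder G)
    (M : Subgroup G) (hM : IsCoatom M) (p : ℕ) [Fact p.Prime] (A₀ : Subgroup G)
    (hA₀ : A₀ ≤ Cfsg.fittingOf M) (hA₀e : Cfsg.IsElementaryAbelian p A₀) (hA₀3 : p ^ 3 ≤ Nat.card A₀)
    (hA₀max : ∀ B : Subgroup G, B ≤ Cfsg.fittingOf M → Cfsg.IsElementaryAbelian p B → A₀ ≤ B → B = A₀) :
    (¬ IsPGroup p ↥(Cfsg.fittingOf M) → Cfsg.InUniqueMaximal (Cfsg.fittingOf M ⊓ Subgroup.centralizer (A₀ : Set G))) ∧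
      (IsPGroup p ↥(Cfsg.fittingOf M) → ∀ P : Sylow p M,
        ¬ p ∣ ((P : Subgroup M).map M.subtype).index ∧
        ∀ A : Subgroup G, Cfsg.IsSCN ((P : Subgroup M).map M.subtype) A → ¬ Cfsg.PRankLE p 2 ↥A →
          A ≤ Cfsg.fittingOf M ∧ Cfsg.InUniqueMaximal A) := by
  have hp : p.Prime := Fact.out
  refine ⟨fun hnp => part_a hG M hM p A₀ hA₀ hA₀e hA₀3 hnp,
    fun hFp P => part_b hG M hM p ?_ hFp P⟩
  intro h
  rw [h] at hA₀
  have h1 : A₀ = ⊥ := le_bot_iff.mp hA₀
  rw [h1, Subgroup.card_bot] at hA₀3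
  have : 1 < p ^ 3 := Nat.one_lt_pow (by norm_num) hp.one_lt
  omega

end Cfsg.Agent.S1397
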