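import Cfsg.Statements.S1403
-- import your own Cfsg.Agent.* helpers here
import Cfsg.Agent.Lib.helper36.BGU7
import Cfsg.Agent.S1399
import Cfsg.Agent.S1400

set_option autoImplicit false
open Cfsg

namespace Cfsg.Agent.S1403

open Cfsg.Agent.Lib.helper36 in
/-- An elementary abelian `q`-subgroup of order `> q ^ 2` lies in a unique maximal subgroup. -/
theorem elemAb_rank3_uniq {G : Type*} [Group G] [Finite G] (hG : Cfsg.IsMinSimpleOddOrder G)
    {q : ℕ} (hq : q.Prime) {E : Subgroup G} (hEc : ∀ a ∈ E, ∀ b ∈ E, a * b = b * a)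
    (hEq : ∀ a ∈ E, a ^ q = 1) (hcard : q ^ 2 < Nat.card E) : Cfsg.InUniqueMaximal E := by
  obtain ⟨hodd, hsimple, hnc, hsolv⟩ := id hG
  haveI := hsimple
  haveI : Fact q.Prime := ⟨hq⟩
  have hEe : Cfsg.IsElementaryAbelian q E :=
    (Cfsg.Agent.Lib.helper28.isElementaryAbelian_iff' q E).mpr ⟨hEc, hEq⟩
  have hEp : IsPGroup q E := bgu_isPGroup_of_elem hEe
  have hE1 : E ≠ ⊥ := by
    intro h
    rw [h, Subgroup.card_bot] at hcard
    have : 1 ≤ q ^ 2 := Nat.one_le_pow _ _ hq.pos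
    omega
  have hq2 : q ≠ 2 := by
    rintro rfl
    have h1 : 2 ∣ Nat.card G :=
      (Cfsg.Agent.Lib.helper29.prime_dvd_card_of_exponent hq hEq hE1).trans
        (Subgroup.card_subgroup_dvd_card _)
    exact (Nat.not_even_iff_odd.mpr hodd) (even_iff_two_dvd.mpr h1)
  obtain ⟨Q, hQ⟩ := hEp.exists_le_sylow
  have hQr : ¬ Cfsg.PRankLE q 2 ↥(Q : Subgroup G) :=
    (Cfsg.Agent.Lib.helper28.not_pRankLE_subgroup_iff q 2 _).mpr ⟨E, hQ, hEe, hcard⟩
  obtain ⟨A, hAscn, hA3, hAc⟩ := bgu_exists_scn3 hq2 Q.isPGroup' hQr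
  have hAU : Cfsg.InUniqueMaximal A := bgu_scn3 hG Q hAscn hA3
  have hqq : q < q ^ 2 := by
    have := Nat.pow_lt_pow_right hq.one_lt (show 1 < 2 by norm_num)
    rwa [pow_one] at this
  refine Cfsg.Agent.S1400.result hG q A E (Q.isPGroup'.to_le hAscn.1) hAc hA3 hAU hEp
    (bgu_not_cyclic hq hEq (by omega)) ?_
  refine (Cfsg.Agent.Lib.helper28.not_pRankLE_subgroup_iff q 2 _).mpr ⟨E, ?_, hEe, hcard⟩
  intro x hx
  rw [Subgroup.mem_centralizer_iff]
  intro y hy
  exact hEc y hy x hx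


/-- Let G be a minimal simple group of odd order and K a proper subgroup having an elementary abelian subgroup of order p ^ 2 for some prime p. If K, or its centralizer C_G(K), has an elementary abelian subgroup of order q ^ 3 for some prime q, then K lies in exactly one maximal subgroup of G. -/
theorem result {G : Type*} [Group G] [Finite G] (hG : Cfsg.IsMinSimpleOddOrder G)
    (K : Subgroup G) (hK : K ≠ ⊤) (hK2 : ¬ Cfsg.RankLE 1 K)
    (hK3 : ¬ Cfsg.RankLE 2 K ∨ ¬ Cfsg.RankLE 2 (Subgroup.centralizer (K : Set G))) :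
    Cfsg.InUniqueMaximal K := by
  obtain ⟨hodd, hsimple, hnc, hsolv⟩ := id hG
  haveI := hsimple
  rcases hK3 with h3 | h3
  · obtain ⟨q, hq, E, hEK, hEc, hEq, hcard⟩ := Cfsg.Agent.Lib.helper29.exists_elemAb_of_not_rankLE h3
    obtain ⟨M, -, huniq⟩ := elemAb_rank3_uniq hG hq hEc hEq hcard
    exact (Cfsg.Agent.Lib.helper36.bgu_of_le (fun M' h1 h2 => huniq M' ⟨h1, h2⟩) hEK hK).2
  · obtain ⟨q, hq, E, hEK, hEc, hEq, hcard⟩ := Cfsg.Agent.Lib.helper29.exists_elemAb_of_not_rankLE h3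
    have hEU := elemAb_rank3_uniq hG hq hEc hEq hcard
    refine Cfsg.Agent.S1399.result hG E K hEU ?_ hK2
    intro x hx
    rw [Subgroup.mem_centralizer_iff]
    intro y hy
    exact ((Subgroup.mem_centralizer_iff.mp (hEK hy)) x hx).symm

end Cfsg.Agent.S1403
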