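import Cfsg.Statements.S1446
import Cfsg.Agent.Lib.helper12.FrobFixD
-- import your own Cfsg.Agent.* helpers here

set_option autoImplicit false
open Cfsg

namespace Cfsg.Agent.S1446

open Cfsg.Agent.Lib.helper12 in
theorem centralizer_zpowers_eq {X : Type*} [Group X] (x : X) :
    Subgroup.centralizer ((Subgroup.zpowers x : Subgroup X) : Set X) =
      Subgroup.centralizer ({x} : Set X) := by
  apply le_antisymm
  · apply Subgroup.centralizer_le
    intro y hy
    rw [Set.mem_singleton_iff] at hy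
    subst hy
    exact Subgroup.mem_zpowers y
  · intro g hg
    rw [Subgroup.mem_centralizer_iff] at hg ⊢
    intro h hh
    have hgx : x * g = g * x := hg x (Set.mem_singleton x)
    obtain ⟨k, rfl⟩ := Subgroup.mem_zpowers_iff.mp hh
    exact ((Commute.zpow_left (show Commute x g from hgx) k)).eq


/-- Let X be a finite group with subgroups K, R, M such that: K and R are nontrivial, K ∩ R = 1, R normalizes K, no non-identity element of R centralizes a non-identity element of K, K ⊔ R is solvable of odd order; M is nilpotent and nontrivial, normalized by K and by R, with order coprime to that of K ⊔ R, M ∩ C(K) = 1, and M ∩ C(x) = M ∩ C(R) for all non-identity x ∈ R. Then R has prime order p, #M = #(M ∩ C(R)) ^ p, and if M ∩ C(R) is cyclic then [K, K] centralizes M. -/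
theorem result {X : Type*} [Group X] [Finite X] (K R M : Subgroup X) (hK1 : K ≠ ⊥) (hR1 : R ≠ ⊥) (hKR : K ⊓ R = ⊥)
    (hRK : R ≤ Subgroup.normalizer (K : Set X)) (hfrob : ∀ r ∈ R, r ≠ 1 → K ⊓ Subgroup.centralizer ({r} : Set X) = ⊥)
    (hsolv : Group.IsSolvable ↥(K ⊔ R)) (hodd : Odd (Nat.card ↥(K ⊔ R)))
    (hM1 : M ≠ ⊥) (hMn : Group.IsNilpotent M) (hKM : K ≤ Subgroup.normalizer (M : Set X)) (hRM : R ≤ Subgroup.normalizer (M : Set X))
    (hcop : (Nat.card ↥(K ⊔ R)).Coprime (Nat.card M)) (hCK : M ⊓ Subgroup.centralizer (K : Set X) = ⊥)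
    (hpr : ∀ x ∈ R, x ≠ 1 → M ⊓ Subgroup.centralizer ({x} : Set X) = M ⊓ Subgroup.centralizer (R : Set X)) :
    (Nat.card R).Prime ∧ Nat.card M = Nat.card ↥(M ⊓ Subgroup.centralizer (R : Set X)) ^ Nat.card R ∧
      (IsCyclic ↥(M ⊓ Subgroup.centralizer (R : Set X)) → ⁅K, K⁆ ≤ Subgroup.centralizer (M : Set X)) := by
  classical
  have hUn : ∀ e ∈ R, ∀ u ∈ K, e * u * e⁻¹ ∈ K := Subgroup.le_normalizer_iff.mp hRK
  have hfpf : ∀ e ∈ R, e ≠ 1 → ∀ u ∈ K, e * u = u * e → u = 1 := by
    intro e he he1 u hu hcomm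
    have hmem : u ∈ K ⊓ Subgroup.centralizer ({e} : Set X) := by
      refine Subgroup.mem_inf.mpr ⟨hu, ?_⟩
      rw [Subgroup.mem_centralizer_iff]
      intro h hh
      rw [Set.mem_singleton_iff] at hh
      subst hh
      exact hcomm
    rw [hfrob e he he1] at hmem
    exact Subgroup.mem_bot.mp hmem
  have hKRM : K ⊔ R ≤ Subgroup.normalizer (M : Set X) := sup_le hKM hRM
  have hHn : ∀ x ∈ K ⊔ R, ∀ h ∈ M, x * h * x⁻¹ ∈ M := Subgroup.le_normalizer_iff.mp hKRM
  have := hMn
  have hsolvM : Group.IsSolvable M := inferInstance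
  have hcK : (Nat.card M).Coprime (Nat.card K) :=
    (Nat.Coprime.coprime_dvd_left (Subgroup.card_dvd_of_le (le_sup_left : K ≤ K ⊔ R)) hcop).symm
  have hcR : (Nat.card M).Coprime (Nat.card R) :=
    (Nat.Coprime.coprime_dvd_left (Subgroup.card_dvd_of_le (le_sup_right : R ≤ K ⊔ R)) hcop).symm
  -- the fixed point formula for `K R`
  have hF := Cfsg.Agent.Lib.helper12.ff_formula K R M hR1 hUn hfpf hHn hsolvM hcop.symm
  have hCKR : M ⊓ Subgroup.centralizer ((K ⊔ R : Subgroup X) : Set X) = ⊥ := by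
    apply le_bot_iff.mp
    rw [← hCK]
    exact inf_le_inf_left M (Subgroup.centralizer_le (show (K : Set X) ⊆ ((K ⊔ R : Subgroup X) : Set X) from
      fun y hy => (le_sup_left : K ≤ K ⊔ R) hy))
  rw [hCKR, hCK, Subgroup.card_bot, one_pow, one_mul, mul_one] at hF
  -- an element of prime order in `R`
  have hRnt : Nontrivial R := (Subgroup.nontrivial_iff_ne_bot R).mpr hR1
  have hcardR : 1 < Nat.card R := Finite.one_lt_card
  obtain ⟨p, hp, hpd⟩ := Nat.exists_prime_and_dvd (show Nat.card R ≠ 1 from by omega)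
  have : Fact p.Prime := ⟨hp⟩
  obtain ⟨x, hx⟩ := exists_prime_orderOf_dvd_card' (G := R) p hpd
  have hx1 : (x : X) ≠ 1 := by
    intro h
    have hx' : x = 1 := Subtype.ext h
    rw [hx', orderOf_one] at hx
    exact hp.one_lt.ne hx
  have hxo : orderOf (x : X) = p := by
    rw [Subgroup.orderOf_coe]
    exact hx
  have hZR : Subgroup.zpowers (x : X) ≤ R := by
    rw [Subgroup.zpowers_le]
    exact x.2
  have hZ1 : Subgroup.zpowers (x : X) ≠ ⊥ := by
    intro h
    exact hx1 (Subgroup.zpowers_eq_bot.mp h)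
  have hF2 := Cfsg.Agent.Lib.helper12.ff_formula K (Subgroup.zpowers (x : X)) M hZ1
    (fun e he u hu => hUn e (hZR he) u hu)
    (fun e he he1 u hu hc => hfpf e (hZR he) he1 u hu hc)
    (fun y hy h hh => hHn y ((sup_le_sup_left hZR K) hy) h hh) hsolvM
    (Nat.Coprime.coprime_dvd_right (Subgroup.card_dvd_of_le (sup_le_sup_left hZR K)) hcop.symm)
  have hCKZ : M ⊓ Subgroup.centralizer ((K ⊔ Subgroup.zpowers (x : X) : Subgroup X) : Set X) = ⊥ := by
    apply le_bot_iff.mp
    rw [← hCK]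
    exact inf_le_inf_left M (Subgroup.centralizer_le
      (show (K : Set X) ⊆ ((K ⊔ Subgroup.zpowers (x : X) : Subgroup X) : Set X) from
      fun y hy => (le_sup_left : K ≤ K ⊔ Subgroup.zpowers (x : X)) hy))
  rw [hCKZ, hCK, Subgroup.card_bot, one_pow, one_mul, mul_one, centralizer_zpowers_eq,
    hpr (x : X) x.2 hx1, Nat.card_zpowers, hxo] at hF2
  -- the number `c = |C_M(R)|` is at least 2
  have hMnt : Nontrivial M := (Subgroup.nontrivial_iff_ne_bot M).mpr hM1
  have hcardM : 1 < Nat.card M := Finite.one_lt_card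
  have hc2 : 2 ≤ Nat.card ↥(M ⊓ Subgroup.centralizer (R : Set X)) := by
    by_contra hlt
    have hpos : 0 < Nat.card ↥(M ⊓ Subgroup.centralizer (R : Set X)) := Nat.card_pos
    have h1 : Nat.card ↥(M ⊓ Subgroup.centralizer (R : Set X)) = 1 := by omega
    rw [h1, one_pow] at hF
    omega
  have hRp : Nat.card R = p := by
    have h := hF.symm.trans hF2
    exact Nat.pow_right_injective hc2 h
  have hRprime : (Nat.card R).Prime := hRp ▸ hp
  refine ⟨hRprime, hF, fun hcyc => ?_⟩
  exact Cfsg.Agent.Lib.helper12.ff_comm_centralizes K R M hUn hfpf hRprime hsolvM hKM hRM hcK hcR hCK hcyc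

end Cfsg.Agent.S1446
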