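import Cfsg.Statements.S3765
import Mathlib
import Cfsg.Agent.Lib.helper66.ExtraS2
import Cfsg.Agent.Lib.helper66.ExtraS3

set_option autoImplicit false
open Cfsg

namespace Cfsg.Agent.S3765

open Cfsg.Agent.Lib.helper66 in
/-- Let p, q, r be distinct primes and let X, Q, V be subgroups of a finite group with X of order r normalizing the q-group Q and acting faithfully on it (X ∩ C(Q) = 1), and V a nontrivial elementary abelian p-group normalized by X and Q on which XQ acts faithfully. If q = 2 and r has the form 2^n + 1, assume in addition that Q is abelian. Then C_V(X) ≠ 1. -/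
theorem result {G : Type*} [Group G] [Finite G] {p q r : ℕ} (hp : p.Prime) (hq : q.Prime) (hr : r.Prime) (hpq : p ≠ q) (hpr : p ≠ r) (hqr : q ≠ r) (X Q V : Subgroup G) (hX : Nat.card X = r) (hQ : IsPGroup q Q) (hXQ : X ≤ Subgroup.normalizer (Q : Set G)) (hXfaith : X ⊓ Subgroup.centralizer (Q : Set G) = ⊥) (hV : Cfsg.IsElementaryAbelian p V) (hV1 : V ≠ ⊥) (hXV : X ≤ Subgroup.normalizer (V : Set G)) (hQV : Q ≤ Subgroup.normalizer (V : Set G)) (hfaith : (X ⊔ Q) ⊓ Subgroup.centralizer (V : Set G) = ⊥) (hexc : q = 2 → (∃ n : ℕ, r = 2 ^ n + 1) → IsMulCommutative Q) : V ⊓ Subgroup.centralizer (X : Set G) ≠ ⊥ := by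
  classical
  intro hCV
  obtain ⟨hVcomm, hVp⟩ := hV
  have hVc : ∀ a ∈ V, ∀ b ∈ V, a * b = b * a := by
    intro a ha b hb
    have h1 := hVcomm.is_comm.comm (⟨a, ha⟩ : V) ⟨b, hb⟩
    exact congrArg Subtype.val h1
  have : Fact p.Prime := ⟨hp⟩
  have : Fact q.Prime := ⟨hq⟩
  obtain ⟨F, _, _, _⟩ : ∃ (F : Type) (_ : Field F) (_ : IsAlgClosed F), CharP F p :=
    ⟨AlgebraicClosure (ZMod p), inferInstance, inferInstance, inferInstance⟩
  obtain ⟨x₀, hx₀⟩ : ∃ x₀ : X, x₀ ≠ 1 := by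
    have : Nontrivial X := by
      rw [← Finite.one_lt_card_iff_nontrivial, hX]
      exact hr.one_lt
    exact exists_ne 1
  obtain ⟨x, hx⟩ : ∃ x : G, x = (x₀ : G) := ⟨_, rfl⟩
  have hxX : x ∈ X := by rw [hx]; exact x₀.2
  have hx1 : x ≠ 1 := by
    rw [hx]
    intro h
    exact hx₀ (Subtype.ext h)
  have hxord : orderOf x = r := by
    have h1 : orderOf x ∣ r := by
      have h2 := orderOf_dvd_natCard (⟨x, hxX⟩ : X)
      rwa [Subgroup.orderOf_mk, hX] at h2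
    rcases (Nat.dvd_prime hr).mp h1 with h2 | h2
    · exact absurd (orderOf_eq_one_iff.mp h2) hx1
    · exact h2
  have hgen : Subgroup.zpowers x = X := by
    apply Subgroup.eq_of_le_of_card_ge
    · rw [Subgroup.zpowers_le]
      exact hxX
    · rw [Nat.card_zpowers, hX, hxord]
  have hxr : x ^ r = 1 := by
    rw [← hxord]
    exact pow_orderOf_eq_one x
  have hCx : ∀ t ∈ V, x * t = t * x → t = 1 := by
    intro t ht hxt
    have h1 : t ∈ V ⊓ Subgroup.centralizer (X : Set G) := by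
      refine Subgroup.mem_inf.mpr ⟨ht, ?_⟩
      rw [Subgroup.mem_centralizer_iff]
      intro g hg
      rw [SetLike.mem_coe, ← hgen] at hg
      obtain ⟨k, rfl⟩ := Subgroup.mem_zpowers_iff.mp hg
      have h3 : Commute x t := hxt
      exact (h3.zpow_left k).eq
    rw [hCV] at h1
    exact Subgroup.mem_bot.mp h1
  have hqF : (q : F) ≠ 0 := by
    intro h0
    have h1 := (CharP.cast_eq_zero_iff F p q).mp h0
    exact hpq ((Nat.prime_dvd_prime_iff_eq hp hq).mp h1)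
  have hrF : (r : F) ≠ 0 := by
    intro h0
    have h1 := (CharP.cast_eq_zero_iff F p r).mp h0
    exact hpr ((Nat.prime_dvd_prime_iff_eq hp hr).mp h1)
  let 𝒮 : Set (Subgroup G) := {D | D ≤ Q ∧ x ∈ Subgroup.normalizer (D : Set G) ∧
    ∃ u ∈ D, ∃ f ∈ addHomSub F V, conjFunRep F G (x * u * x⁻¹) f ≠ conjFunRep F G u f}
  have hQS : Q ∈ 𝒮 := by
    refine ⟨le_refl _, hXQ hxX, ?_⟩
    have hxC : x ∉ Subgroup.centralizer (Q : Set G) := by
      intro h
      have h1 : x ∈ X ⊓ Subgroup.centralizer (Q : Set G) := Subgroup.mem_inf.mpr ⟨hxX, h⟩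
      rw [hXfaith] at h1
      exact hx1 (Subgroup.mem_bot.mp h1)
    obtain ⟨u, huQ, hux⟩ : ∃ u ∈ Q, u * x ≠ x * u := by
      by_contra hall
      push Not at hall
      exact hxC (Subgroup.mem_centralizer_iff.mpr hall)
    have hxuQ : x * u * x⁻¹ ∈ Q := (Subgroup.mem_normalizer_iff.mp (hXQ hxX) u).mp huQ
    have hg1 : u⁻¹ * (x * u * x⁻¹) ≠ 1 := by
      intro h
      apply hux
      have h1 : u = x * u * x⁻¹ := inv_mul_eq_one.mp h
      calc u * x = (x * u * x⁻¹) * x := by rw [← h1]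
        _ = x * u := by group
    have hgQ : u⁻¹ * (x * u * x⁻¹) ∈ Q := Q.mul_mem (Q.inv_mem huQ) hxuQ
    have hgC : u⁻¹ * (x * u * x⁻¹) ∉ Subgroup.centralizer (V : Set G) := by
      intro h
      have h1 : u⁻¹ * (x * u * x⁻¹) ∈ (X ⊔ Q) ⊓ Subgroup.centralizer (V : Set G) :=
        Subgroup.mem_inf.mpr ⟨(le_sup_right : Q ≤ X ⊔ Q) hgQ, h⟩
      rw [hfaith] at h1
      exact hg1 (Subgroup.mem_bot.mp h1)
    obtain ⟨f, hf, hne⟩ := addHom_moves F V p hp hVc hVp _ (hQV hgQ) hgC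
    refine ⟨u, huQ, f, hf, ?_⟩
    intro h
    apply hne
    rw [map_mul, Module.End.mul_apply, h, ← Module.End.mul_apply, ← map_mul, inv_mul_cancel,
      map_one, Module.End.one_apply]
  obtain ⟨Q₀, hQ₀S, hQ₀min⟩ := (wellFounded_lt :
    WellFounded ((· < ·) : Subgroup G → Subgroup G → Prop)).has_min 𝒮 ⟨Q, hQS⟩
  obtain ⟨hQ₀Q, hxQ₀, hntQ₀⟩ := hQ₀S
  have hQ₀p : IsPGroup q Q₀ := hQ.to_le hQ₀Q
  have : Group.IsSolvable Q₀ := by
    have := hQ₀p.isNilpotent
    infer_instance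
  obtain ⟨k, hk⟩ : ∃ k, Nat.card Q₀ = q ^ k := IsPGroup.iff_card.mp hQ₀p
  have hcop : Nat.Coprime (Nat.card Q₀) r := by
    rw [hk]
    exact Nat.Coprime.pow_left k ((Nat.coprime_primes hq hr).mpr hqr)
  have hQ₀F : (Nat.card Q₀ : F) ≠ 0 := by
    rw [hk, Nat.cast_pow]
    exact pow_ne_zero _ hqF
  obtain ⟨⟨u, hu, v, hv, huv⟩, n, hn1, hn2, hn3⟩ := extra_thmS (conjFunRep F G)
    (addHomSub F V) Q₀ x r hr hxQ₀ hxr hcop hQ₀F hrF
    (fun u hu f hf => conjFunRep_mem_addHomSub F V u (hQV (hQ₀Q hu)) f hf)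
    (fun f hf => conjFunRep_mem_addHomSub F V x (hXV hxX) f hf)
    (by
      intro D hDQ₀ hDne hxD d hd f hf
      by_contra hne
      exact hQ₀min D ⟨hDQ₀.trans hQ₀Q, hxD, d, hd, f, hf, hne⟩ (lt_of_le_of_ne hDQ₀ hDne))
    hntQ₀
    (fun f hf hxf => addHom_fixfree F V x (hXV hxX) hCx f hf hxf)
  rw [hk] at hn2
  obtain ⟨j, -, hj⟩ : ∃ j ≤ k, n = q ^ j := by
    apply (Nat.dvd_prime_pow hq).mp
    exact Dvd.dvd.trans (Dvd.intro n (by ring)) hn2
  have hj0 : j ≠ 0 := by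
    intro h
    apply hn1
    rw [hj, h, pow_zero]
  have hq2 : q = 2 := by
    rcases hq.eq_two_or_odd' with h | h
    · exact h
    · exfalso
      have h7 : Even r := by
        rw [← hn3, hj]
        exact (h.pow).add_one
      have h8 : r = 2 := (Nat.Prime.even_iff hr).mp h7
      have h9 : 1 < q ^ j := Nat.one_lt_pow hj0 hq.one_lt
      omega
  have hcommQ := hexc hq2 ⟨j, by rw [← hn3, hj, hq2]⟩
  exact huv (congrArg Subtype.val (hcommQ.is_comm.comm ⟨u, hQ₀Q hu⟩ ⟨v, hQ₀Q hv⟩))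

end Cfsg.Agent.S3765
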