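import Cfsg.Statements.S1410
import Cfsg.Agent.Lib.helper29.PLenTen2
import Cfsg.Agent.S1403
import Cfsg.Agent.S1404
import Cfsg.Agent.S1444

set_option autoImplicit false
open Cfsg

namespace Cfsg.Agent.S1410

/-- Let G be a minimal simple group of odd order. Then for every prime p and every proper subgroup H of G, H = O_{p',p,p'}(H). -/
theorem result {G : Type*} [Group G] [Finite G] (hG : Cfsg.IsMinSimpleOddOrder G) (p : ℕ) [Fact p.Prime] (H : Subgroup G) (hH : H ≠ ⊤) :
    Cfsg.PLengthLE p 1 H := by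
  have hU : Cfsg.Agent.Lib.helper8.BGUniqHyp G :=
    fun K hK h1 h2 => Cfsg.Agent.S1403.result hG K hK h1 h2
  have hF : Cfsg.Agent.Lib.helper8.BGFusHyp G := by
    intro M hM q hq X hXp hX1 hXM
    have : Fact q.Prime := ⟨hq.1⟩
    exact (Cfsg.Agent.S1404.result hG M hM q hq X hXp hX1 hXM).1
  exact Cfsg.Agent.Lib.helper29.bg_plength_one hG hU hF
    (fun X _ _ _ hodd H R R₀ _ hHall hR hR₀ hR₀p hZ p _ =>
      Cfsg.Agent.S1444.result hodd H R R₀ hHall hR hR₀ hR₀p hZ p) p H hH

end Cfsg.Agent.S1410
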