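import Cfsg.Statements.S1448
import Cfsg.Agent.Lib.helper30.RankTwoG
import Cfsg.Agent.Lib.helper30.RankTwoC
import Cfsg.Agent.Lib.helper30.SectionAction2

set_option autoImplicit false
open Cfsg

namespace Cfsg.Agent.S1448

open scoped commutatorElement

universe u

/-- Step 0: `p > 3` (an odd-order `p'`-group acting nontrivially forces an element of odd prime
order `q ∤ p (p - 1)` with `q ∣ p + 1`). -/
theorem three_lt {G : Type u} [Group G] [Finite G] (p : ℕ) [Fact p.Prime] (hp : p ≠ 2)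
    (R A : Subgroup G) (hR : IsPGroup p R) (hR1 : R ≠ ⊥) (hr : Cfsg.PRankLE p 2 R)
    (hA : (A ≤ Subgroup.normalizer (R : Set G))) (hcop : (Nat.card A).Coprime p)
    (hAodd : Odd (Nat.card A)) (hRA : ⁅R, A⁆ = R) : 3 < p := by
  have hpp : p.Prime := Fact.out
  by_contra hlt
  have hp3 : p = 3 := by have := hpp.two_le; omega
  have hnc : ¬ ∀ a ∈ A, ∀ r ∈ R, a * r = r * a := by
    intro h
    apply hR1
    rw [← hRA, Subgroup.commutator_eq_bot_iff_le_centralizer]
    intro r hr'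
    rw [Subgroup.mem_centralizer_iff]
    intro a ha
    exact h a ha r hr'
  obtain ⟨a₀, hna₀⟩ := not_forall.mp hnc
  obtain ⟨ha₀, hna₀⟩ := Classical.not_imp.mp hna₀
  obtain ⟨B, hBR, hBN, hBexp, hBcl, hBidx, hBcrit⟩ :=
    Cfsg.Agent.Lib.helper30.exists_small_section' p hp R hR hr
  have hNBB' := Cfsg.Agent.Lib.helper30.normalizer_le_normalizer_commutator B
  have hB'B : ⁅B, B⁆ ≤ B := Subgroup.commutator_le_self B
  have hBB' : B ≤ Subgroup.normalizer ((⁅B, B⁆ : Subgroup G) : Set G) :=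
    fun b hb => hNBB' (Subgroup.le_normalizer hb)
  have hAB : A ≤ Subgroup.normalizer (B : Set G) := hA.trans hBN
  obtain ⟨V, hV, ρ, hcardV, hρ⟩ := Cfsg.Agent.Lib.helper30.exists_section_action B ⁅B, B⁆ A
    hB'B hBB' hAB (hAB.trans hNBB')
  have hcardV' : Nat.card V ∣ p ^ 2 := by rw [hcardV]; exact hBidx
  have hfinV : Finite V := Nat.finite_of_card_ne_zero (fun h => by
    rw [h] at hcardV'
    exact (pow_pos hpp.pos 2).ne' (Nat.eq_zero_of_zero_dvd hcardV'))
  have hcopa : (orderOf a₀).Coprime p :=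
    Nat.Coprime.coprime_dvd_left (Subgroup.orderOf_dvd_natCard A ha₀) hcop
  have hσne : ρ ⟨a₀, ha₀⟩ ≠ 1 := by
    intro h1
    have h2 := (hρ ⟨a₀, ha₀⟩).mp h1
    exact hna₀ (hBcrit a₀ (hA ha₀) hcopa h2)
  have hrange_card : Nat.card ρ.range ∣ Nat.card A := Subgroup.card_range_dvd ρ
  have hone : Nat.card ρ.range ≠ 1 := by
    intro h
    have h2 := Subgroup.card_eq_one.mp h
    apply hσne
    have h3 : ρ ⟨a₀, ha₀⟩ ∈ ρ.range := ⟨_, rfl⟩
    rw [h2, Subgroup.mem_bot] at h3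
    exact h3
  obtain ⟨q, hq, hqdvd⟩ := Nat.exists_prime_and_dvd hone
  have hqF : Fact q.Prime := ⟨hq⟩
  have hfinr : Finite ρ.range := Finite.of_surjective ρ.rangeRestrict ρ.rangeRestrict_surjective
  obtain ⟨σ, hσ⟩ := exists_prime_orderOf_dvd_card' q hqdvd
  have hqA : q ∣ Nat.card A := hqdvd.trans hrange_card
  have hq2 : q ≠ 2 := by
    rintro rfl
    exact (Nat.not_even_iff_odd.mpr hAodd) (even_iff_two_dvd.mpr hqA)
  have hqp : ¬ q ∣ p := by
    intro h
    have h1 : q ∣ Nat.gcd (Nat.card A) p := Nat.dvd_gcd hqA h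
    rw [hcop] at h1
    exact hq.one_lt.ne' (Nat.dvd_one.mp h1)
  have hqp1 : ¬ q ∣ p - 1 := by
    rw [hp3]
    intro h
    exact hq2 ((Nat.prime_dvd_prime_iff_eq hq Nat.prime_two).mp h)
  have hσq : (σ : MulAut V) ^ q = 1 := by
    have h1 := pow_orderOf_eq_one σ
    rw [hσ] at h1
    exact congrArg Subtype.val h1
  have hσ1 : (σ : MulAut V) ≠ 1 := by
    intro h
    have h2 : σ = 1 := Subtype.ext h
    rw [h2, orderOf_one] at hσ
    exact hq.one_lt.ne hσ
  obtain ⟨hdvd, -, -⟩ := Cfsg.Agent.Lib.helper30.mulAut_prime_order_dvd p q hq hqp hqp1 hcardV'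
    (σ : MulAut V) hσq hσ1
  rw [hp3] at hdvd
  have h4 : q ∣ 2 ^ 2 := hdvd
  exact hq2 ((Nat.prime_dvd_prime_iff_eq hq Nat.prime_two).mp (hq.dvd_of_dvd_pow h4))

/-- Let G be a finite group, p an odd prime, R a nontrivial p-subgroup with no elementary abelian subgroup of order p ^ 3, and A a subgroup of odd order coprime to p normalizing R with [R, A] = R. Then 3 < p, and either R is abelian or R is generated by two elementwise-commuting subgroups R₁, R₂ with R₁ non-abelian of order p ^ 3 and exponent p, R₂ cyclic, and the elements of R₂ of order dividing p generating exactly [R₁, R₁]. -/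
theorem result {G : Type*} [Group G] [Finite G] (p : ℕ) [Fact p.Prime] (hp : p ≠ 2) (R A : Subgroup G) (hR : IsPGroup p R) (hR1 : R ≠ ⊥) (hr : Cfsg.PRankLE p 2 R)
    (hA : (A ≤ Subgroup.normalizer (R : Set G))) (hcop : (Nat.card A).Coprime p) (hAodd : Odd (Nat.card A)) (hRA : ⁅R, A⁆ = R) :
    3 < p ∧ (IsMulCommutative R ∨ ∃ R₁ R₂ : Subgroup G, R₁ ⊔ R₂ = R ∧ (∀ a ∈ R₁, ∀ b ∈ R₂, a * b = b * a) ∧
        ¬ IsMulCommutative R₁ ∧ Nat.card R₁ = p ^ 3 ∧ Monoid.exponent R₁ = p ∧ IsCyclic R₂ ∧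
        Subgroup.closure {x : G | x ∈ R₂ ∧ x ^ p = 1} = ⁅R₁, R₁⁆) := by
  have h3 := three_lt p hp R A hR hR1 hr hA hcop hAodd hRA
  refine ⟨h3, ?_⟩
  have hpp : p.Prime := Fact.out
  obtain ⟨X, hX⟩ : ∃ X : Subgroup (MulAut ↥R),
      X = (Cfsg.Agent.Lib.helper30.conjHom R A hA).range := ⟨_, rfl⟩
  have hXdvd : Nat.card X ∣ Nat.card A := by rw [hX]; exact Subgroup.card_range_dvd _
  have hXodd : Odd (Nat.card X) := Odd.of_dvd_nat hAodd hXdvd
  have hXcop : (Nat.card X).Coprime p := Nat.Coprime.coprime_dvd_left hXdvd hcop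
  have hgen := Cfsg.Agent.Lib.helper30.conjHom_gen R A hA hRA
  rw [← hX] at hgen
  rcases Cfsg.Agent.Lib.helper30.rank_two_main p h3 hR hr X hXodd hXcop hgen with
    hab | ⟨R₁, R₂, hsup, hcomm, ⟨u, hu, v, hv, huv⟩, hcard, hexp, hcyc, hcl⟩
  · left
    exact ⟨⟨fun x y => hab x y⟩⟩
  · right
    refine ⟨R₁.map R.subtype, R₂.map R.subtype, ?_, ?_, ?_, ?_, ?_, ?_, ?_⟩
    · rw [← Subgroup.map_sup, hsup, ← MonoidHom.range_eq_map, Subgroup.range_subtype]
    · rintro _ ⟨a, ha, rfl⟩ _ ⟨b, hb, rfl⟩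
      exact congrArg Subtype.val (hcomm a ha b hb)
    · intro hc
      apply huv
      have h1 := Cfsg.Agent.Lib.helper30.comm_of_isMulCommutative _ hc (u : G) ⟨u, hu, rfl⟩
        (v : G) ⟨v, hv, rfl⟩
      exact Subtype.ext h1
    · rw [Subgroup.card_map_of_injective R.subtype_injective, hcard]
    · have hnt : Nontrivial ↥(R₁.map R.subtype) := by
        rw [← Finite.one_lt_card_iff_nontrivial,
          Subgroup.card_map_of_injective R.subtype_injective, hcard]
        exact Nat.one_lt_pow (by norm_num) hpp.one_lt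
      apply (Monoid.exponent_eq_prime_iff hpp).mpr
      rintro ⟨_, a, ha, rfl⟩ hne
      apply orderOf_eq_prime
      · apply Subtype.ext
        have h1 := congrArg Subtype.val (hexp a ha)
        simpa using h1
      · exact hne
    · exact (R₂.equivMapOfInjective R.subtype R.subtype_injective).isCyclic.mp hcyc
    · rw [← Subgroup.map_commutator, ← hcl, MonoidHom.map_closure]
      congr 1
      ext x
      constructor
      · rintro ⟨⟨b, hb, rfl⟩, hxp⟩
        exact ⟨b, ⟨hb, Subtype.ext (by simpa using hxp)⟩, rfl⟩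
      · rintro ⟨b, ⟨hb, hbp⟩, rfl⟩
        exact ⟨⟨b, hb, rfl⟩, by simpa using congrArg Subtype.val hbp⟩

end Cfsg.Agent.S1448
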