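import Cfsg.Statements.S1455
import Cfsg.Agent.S1450
import Cfsg.Agent.Lib.helper30.NarrowAut
import Cfsg.Agent.Lib.helper30.NarrowIso
import Cfsg.Agent.Lib.helper29.PLen
import Cfsg.Agent.Lib.helper66.PLength

set_option autoImplicit false
open Cfsg

namespace Cfsg.Agent.S1455

open scoped commutatorElement
open Cfsg.Agent.S1450 (mem_iff_coprime)

/-- Let G be a solvable group of odd order, p a prime dividing its order, and S a Sylow p-subgroup of G that is narrow; if S has an elementary abelian subgroup of order p ^ 3 assume also G = O_{p',p,p'}(G). Then every prime dividing the index of O_{p'}(G) is at most p; if p = 3 or p is the smallest prime divisor of #G then G has a normal p-complement; G' has a normal p-complement; every subgroup of G' of order coprime to p lies in O_{p'}(G'); and G' ≤ O_{p',p}(G) with the index of O_{p',p}(G) coprime to p. -/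
theorem result {G : Type*} [Group G] [Finite G] [Group.IsSolvable G] (hodd : Odd (Nat.card G)) (p : ℕ) [Fact p.Prime] (hpG : p ∣ Nat.card G) (S : Sylow p G) (hS : Cfsg.IsNarrow p ↥(S : Subgroup G))
    (hpl : ¬ Cfsg.PRankLE p 2 ↥(S : Subgroup G) → Cfsg.PLengthLE p 1 G) :
    (∀ q : ℕ, q.Prime → q ∣ (Cfsg.pPrimeCore p G).index → q ≤ p) ∧
      ((p = 3 ∨ ∀ q : ℕ, q.Prime → q ∣ Nat.card G → p ≤ q) → Cfsg.HasNormalPComplement p G) ∧
      Cfsg.HasNormalPComplement p ↥(commutator G) ∧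
      (∀ L : Subgroup ↥(commutator G), (Nat.card L).Coprime p → L ≤ Cfsg.pPrimeCore p ↥(commutator G)) ∧
      commutator G ≤ Cfsg.pPrimePCore p G ∧ ((Cfsg.pPrimePCore p G).index).Coprime p := by
  classical
  by_cases hrS : Cfsg.PRankLE p 2 ↥(S : Subgroup G)
  · exact Cfsg.Agent.S1450.result hodd p hpG (Cfsg.Agent.Lib.helper30.prankLE_of_sylow p 2 S hrS)
  have hpl1 := hpl hrS
  have hpp : p.Prime := Fact.out
  have hp2 : p ≠ 2 := by
    rintro rfl
    exact (Nat.not_even_iff_odd.mpr hodd) (even_iff_two_dvd.mpr hpG)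
  have hKcop : (Nat.card (Cfsg.pPrimeCore p G)).Coprime p :=
    Cfsg.Agent.Lib.helper40.pPrimeCore_card_coprime p G
  have hsurj := QuotientGroup.mk'_surjective (Cfsg.pPrimeCore p G)
  have hcore : Cfsg.pPrimeCore p (G ⧸ Cfsg.pPrimeCore p G) = ⊥ :=
    Cfsg.Agent.Lib.helper38.pPrimeCore_quotient_pPrimeCore p G
  have hHH := Cfsg.Agent.Lib.helper60.centralizer_pCore_le (G := G ⧸ Cfsg.pPrimeCore p G) p hcore
  have hPn : (Cfsg.pCore p (G ⧸ Cfsg.pPrimeCore p G)).Normal :=
    Cfsg.Agent.Lib.helper40.pCore_normal' p _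
  have hPp : IsPGroup p (Cfsg.pCore p (G ⧸ Cfsg.pPrimeCore p G)) :=
    Cfsg.Agent.Lib.helper40.pCore_isPGroup p _
  have hoddQ : Odd (Nat.card (G ⧸ Cfsg.pPrimeCore p G)) :=
    Odd.of_dvd_nat hodd (Subgroup.card_quotient_dvd_card _)
  -- the Sylow subgroup `S` is isomorphic to `O_p(G / O_{p'}(G))`
  have hSmem : ∀ s : ↥(S : Subgroup G), QuotientGroup.mk' (Cfsg.pPrimeCore p G) (s : G) ∈
      Cfsg.pCore p (G ⧸ Cfsg.pPrimeCore p G) := by
    intro s
    obtain ⟨k, hk⟩ := S.isPGroup' s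
    apply Cfsg.Agent.Lib.helper29.mem_pCore_of_pLength_one hcore
      (Cfsg.Agent.Lib.helper66.PLengthLE.quotient (Cfsg.pPrimeCore p G) hpl1) _ k
    rw [← map_pow]
    have h1 : ((s : G)) ^ p ^ k = 1 := by
      have := congrArg Subtype.val hk
      simpa using this
    rw [h1, map_one]
  let f : ↥(S : Subgroup G) →* ↥(Cfsg.pCore p (G ⧸ Cfsg.pPrimeCore p G)) :=
    ((QuotientGroup.mk' (Cfsg.pPrimeCore p G)).comp (S : Subgroup G).subtype).codRestrict _ hSmem
  have hfinj : Function.Injective f := by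
    rw [injective_iff_map_eq_one]
    intro s hs
    have h1 : QuotientGroup.mk' (Cfsg.pPrimeCore p G) (s : G) = 1 := congrArg Subtype.val hs
    have h2 : (s : G) ∈ Cfsg.pPrimeCore p G := by
      rwa [QuotientGroup.mk'_apply, QuotientGroup.eq_one_iff] at h1
    obtain ⟨k, hk⟩ := S.isPGroup' s
    have h3 : ((s : G)) ^ p ^ k = 1 := by
      have := congrArg Subtype.val hk
      simpa using this
    have h4 : (orderOf (s : G)).Coprime p :=
      Nat.Coprime.coprime_dvd_left (Subgroup.orderOf_dvd_natCard _ h2) hKcop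
    have h5 : orderOf (s : G) ∣ p ^ k := orderOf_dvd_of_pow_eq_one h3
    have h6 : orderOf (s : G) = 1 :=
      Nat.Coprime.eq_one_of_dvd (Nat.Coprime.pow_right k h4) h5
    exact Subtype.ext (orderOf_eq_one_iff.mp h6)
  have hcardle : Nat.card ↥(Cfsg.pCore p (G ⧸ Cfsg.pPrimeCore p G)) ≤ Nat.card ↥(S : Subgroup G) := by
    obtain ⟨m, hm⟩ := IsPGroup.iff_card.mp hPp
    rw [hm, Sylow.card_eq_multiplicity]
    apply Nat.pow_le_pow_right hpp.pos
    apply (Nat.Prime.pow_dvd_iff_le_factorization hpp (Nat.card_pos (α := G)).ne').mp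
    rw [← hm]
    exact (Subgroup.card_subgroup_dvd_card _).trans (Subgroup.card_quotient_dvd_card _)
  have hfbij : Function.Bijective f := hfinj.bijective_of_nat_card_le hcardle
  have hnP : Cfsg.IsNarrow p ↥(Cfsg.pCore p (G ⧸ Cfsg.pPrimeCore p G)) :=
    Cfsg.Agent.Lib.helper30.isNarrow_of_mulEquiv p (MulEquiv.ofBijective f hfbij) hS
  have hrP : ¬ Cfsg.PRankLE p 2 ↥(Cfsg.pCore p (G ⧸ Cfsg.pPrimeCore p G)) := fun h =>
    hrS (Cfsg.Agent.Lib.helper30.prankLE_of_injective p 2 f hfinj h)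
  have hNtop : Subgroup.normalizer
      ((Cfsg.pCore p (G ⧸ Cfsg.pPrimeCore p G) : Subgroup (G ⧸ Cfsg.pPrimeCore p G)) :
        Set (G ⧸ Cfsg.pPrimeCore p G)) = ⊤ := Subgroup.normalizer_eq_top _
  -- a `p'`-element of `O_p` is trivial
  have hp1 : ∀ x ∈ Cfsg.pCore p (G ⧸ Cfsg.pPrimeCore p G), (orderOf x).Coprime p → x = 1 := by
    intro x hx hcop
    obtain ⟨j, hj⟩ := (IsPGroup.iff_orderOf.mp hPp) ⟨x, hx⟩
    rw [Subgroup.orderOf_mk] at hj
    rw [hj] at hcop
    rcases Nat.eq_zero_or_pos j with h0 | hpos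
    · rw [h0, pow_zero] at hj
      exact orderOf_eq_one_iff.mp hj
    · exfalso
      have h3 : p ∣ p ^ j := dvd_pow_self p hpos.ne'
      have h4 := Nat.Coprime.eq_one_of_dvd hcop.symm h3
      exact hpp.one_lt.ne' h4
  -- the derived subgroup of the quotient is a `p`-group
  have hsolvTop : Group.IsSolvable (⊤ : Subgroup (G ⧸ Cfsg.pPrimeCore p G)) := inferInstance
  have hoddTop : Odd (Nat.card (⊤ : Subgroup (G ⧸ Cfsg.pPrimeCore p G))) := by
    rw [Subgroup.card_top]; exact hoddQ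
  have hna := Cfsg.Agent.Lib.helper30.narrow_aut p hp2
    (Cfsg.pCore p (G ⧸ Cfsg.pPrimeCore p G)) hPp hrP hnP ⊤ (by rw [hNtop])
  have key := hna.1
  have hcommP : ∀ c ∈ commutator (G ⧸ Cfsg.pPrimeCore p G), ∃ k : ℕ, c ^ p ^ k = 1 := by
    intro c hc
    rw [commutator_def] at hc
    obtain ⟨k, m, hm, hkm⟩ := Nat.exists_eq_pow_mul_and_not_dvd (orderOf_pos c).ne' p hpp.ne_one
    refine ⟨k, ?_⟩
    have hd : c ^ p ^ k ∈ ⁅(⊤ : Subgroup (G ⧸ Cfsg.pPrimeCore p G)), ⊤⁆ := Subgroup.pow_mem _ hc _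
    have hdm : (c ^ p ^ k) ^ m = 1 := by rw [← pow_mul, ← hkm, pow_orderOf_eq_one]
    have hcop : (orderOf (c ^ p ^ k)).Coprime p := by
      have h1 : orderOf (c ^ p ^ k) ∣ m := orderOf_dvd_of_pow_eq_one hdm
      have h2 : m.Coprime p := ((Nat.Prime.coprime_iff_not_dvd hpp).mpr hm).symm
      exact Nat.Coprime.coprime_dvd_left h1 h2
    have hcent := key _ hd hcop
    exact hp1 _ (hHH (Subgroup.mem_centralizer_iff.mpr (fun r hr' => (hcent r hr').symm))) hcop
  have hcommle : commutator (G ⧸ Cfsg.pPrimeCore p G) ≤ Cfsg.pCore p (G ⧸ Cfsg.pPrimeCore p G) := by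
    apply Cfsg.Agent.Lib.helper40.le_pCore _ inferInstance
    intro c
    obtain ⟨k, hk⟩ := hcommP c c.2
    exact ⟨k, Subtype.ext (by simpa using hk)⟩
  have hmapcomm : ∀ g ∈ commutator G,
      QuotientGroup.mk' (Cfsg.pPrimeCore p G) g ∈ commutator (G ⧸ Cfsg.pPrimeCore p G) := by
    intro g hg
    have hle : (commutator G).map (QuotientGroup.mk' (Cfsg.pPrimeCore p G))
        ≤ commutator (G ⧸ Cfsg.pPrimeCore p G) := by
      rw [commutator_def, Subgroup.map_commutator, commutator_def]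
      exact Subgroup.commutator_mono le_top le_top
    exact hle (Subgroup.mem_map_of_mem _ hg)
  -- (1)
  have h1 : ∀ q : ℕ, q.Prime → q ∣ (Cfsg.pPrimeCore p G).index → q ≤ p := by
    intro q hq hqd
    by_contra hlt
    push Not at hlt
    have : Fact q.Prime := ⟨hq⟩
    rw [Subgroup.index_eq_card] at hqd
    have hq2 : q ≠ 2 := by
      rintro rfl
      exact (Nat.not_even_iff_odd.mpr hoddQ) (even_iff_two_dvd.mpr hqd)
    obtain ⟨x, hx⟩ := exists_prime_orderOf_dvd_card' q hqd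
    have hxq : x ^ q = 1 := by rw [← hx]; exact pow_orderOf_eq_one x
    have hxcop : (orderOf x).Coprime p := by
      rw [hx]; exact (Nat.coprime_primes hq hpp).mpr (ne_of_gt hlt)
    have hcent0 := hna.2 x (Subgroup.mem_top x) hxcop
    have hcop2 : (orderOf x).Coprime (p - 1) := by
      rw [hx]
      apply (Nat.Prime.coprime_iff_not_dvd hq).mpr
      intro hd
      have := Nat.le_of_dvd (by have := hpp.two_le; omega) hd
      omega
    obtain ⟨m, hm⟩ := exists_pow_eq_self_of_coprime (x := x) (n := p - 1) hcop2.symm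
    have hcent : ∀ r ∈ Cfsg.pCore p (G ⧸ Cfsg.pPrimeCore p G), x * r = r * x := by
      intro r hr'
      have h1 : Commute (x ^ (p - 1)) r := hcent0 r hr'
      have h2 : Commute ((x ^ (p - 1)) ^ m) r := h1.pow_left m
      rw [hm] at h2
      exact h2
    have hxP : x ∈ Cfsg.pCore p (G ⧸ Cfsg.pPrimeCore p G) :=
      hHH (Subgroup.mem_centralizer_iff.mpr (fun r hr' => (hcent r hr').symm))
    have hx1 : x = 1 := hp1 x hxP (by
      rw [hx]; exact (Nat.coprime_primes hq hpp).mpr (ne_of_gt hlt))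
    rw [hx1, orderOf_one] at hx
    exact hq.one_lt.ne hx
  -- (2)
  have h2 : (p = 3 ∨ ∀ q : ℕ, q.Prime → q ∣ Nat.card G → p ≤ q) → Cfsg.HasNormalPComplement p G := by
    intro hyp
    have hall : ∀ q : ℕ, q.Prime → q ∣ Nat.card (G ⧸ Cfsg.pPrimeCore p G) → q = p := by
      intro q hq hqd
      have hle := h1 q hq (by rw [Subgroup.index_eq_card]; exact hqd)
      have hqG : q ∣ Nat.card G := hqd.trans (Subgroup.card_quotient_dvd_card _)
      rcases hyp with hp3 | hmin
      · have hq2 : q ≠ 2 := by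
          rintro rfl
          exact (Nat.not_even_iff_odd.mpr hodd) (even_iff_two_dvd.mpr hqG)
        have := hq.two_le
        omega
      · exact le_antisymm hle (hmin q hq hqG)
    have hQp : IsPGroup p (G ⧸ Cfsg.pPrimeCore p G) := by
      have := Nat.eq_prime_pow_of_unique_prime_dvd
        (Nat.card_pos (α := G ⧸ Cfsg.pPrimeCore p G)).ne' (fun {d} hd hdd => hall d hd hdd)
      exact IsPGroup.of_card this
    have hmem := mem_iff_coprime p (Cfsg.pPrimeCore p G) hKcop (by
      intro g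
      obtain ⟨k, hk⟩ := hQp (QuotientGroup.mk' (Cfsg.pPrimeCore p G) g)
      refine ⟨k, ?_⟩
      rw [← QuotientGroup.eq_one_iff, QuotientGroup.mk_pow]
      exact hk)
    exact Cfsg.Agent.Lib.helper40.hasNormalPComplement_of_pprime_elements _ hmem
  -- (3), (4)
  have hNcop : (Nat.card ((Cfsg.pPrimeCore p G).subgroupOf (commutator G))).Coprime p := by
    have h : Nat.card ((Cfsg.pPrimeCore p G).subgroupOf (commutator G))
        ∣ Nat.card (Cfsg.pPrimeCore p G) := by
      rw [← Subgroup.card_map_of_injective (Subgroup.subtype_injective (commutator G))]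
      apply Subgroup.card_dvd_of_le
      rintro _ ⟨x, hx, rfl⟩
      exact Subgroup.mem_subgroupOf.mp hx
    exact Nat.Coprime.coprime_dvd_left h hKcop
  have hNq : ∀ h : commutator G, ∃ k : ℕ,
      h ^ p ^ k ∈ (Cfsg.pPrimeCore p G).subgroupOf (commutator G) := by
    intro h
    obtain ⟨k, hk⟩ := hcommP _ (hmapcomm h h.2)
    refine ⟨k, ?_⟩
    rw [Subgroup.mem_subgroupOf, Subgroup.coe_pow, ← QuotientGroup.eq_one_iff, QuotientGroup.mk_pow]
    exact hk
  have hNmem := mem_iff_coprime p ((Cfsg.pPrimeCore p G).subgroupOf (commutator G)) hNcop hNq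
  have h3 : Cfsg.HasNormalPComplement p (commutator G) :=
    Cfsg.Agent.Lib.helper40.hasNormalPComplement_of_pprime_elements _ hNmem
  have h4 : ∀ L : Subgroup (commutator G), (Nat.card L).Coprime p →
      L ≤ Cfsg.pPrimeCore p (commutator G) := by
    intro L hL x hx
    have hxN : x ∈ (Cfsg.pPrimeCore p G).subgroupOf (commutator G) :=
      (hNmem x).mpr (Nat.Coprime.coprime_dvd_left (Subgroup.orderOf_dvd_natCard L hx) hL)
    exact Cfsg.Agent.Lib.helper40.le_pPrimeCore _ inferInstance hNcop hxN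
  -- (5)
  have h5 : commutator G ≤ Cfsg.pPrimePCore p G := by
    intro g hg
    show g ∈ (Cfsg.pCore p (G ⧸ Cfsg.pPrimeCore p G)).comap
      (QuotientGroup.mk' (Cfsg.pPrimeCore p G))
    exact hcommle (hmapcomm g hg)
  -- (6)
  have h6 : ((Cfsg.pPrimePCore p G).index).Coprime p := by
    have hidx : (Cfsg.pPrimePCore p G).index = (Cfsg.pCore p (G ⧸ Cfsg.pPrimeCore p G)).index :=
      Subgroup.index_comap_of_surjective _ hsurj
    rw [hidx]
    obtain ⟨S, hS⟩ := hPp.exists_le_sylow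
    have hSn : (S : Subgroup (G ⧸ Cfsg.pPrimeCore p G)).Normal := by
      constructor
      intro n hn g
      have e1 : g * n * g⁻¹ = (g * n * g⁻¹ * n⁻¹) * n := by group
      rw [e1]
      apply Subgroup.mul_mem _ _ hn
      apply hS
      apply hcommle
      rw [commutator_def, ← commutatorElement_def]
      exact Subgroup.commutator_mem_commutator (Subgroup.mem_top g) (Subgroup.mem_top n)
    have hSle : (S : Subgroup (G ⧸ Cfsg.pPrimeCore p G)) ≤ Cfsg.pCore p (G ⧸ Cfsg.pPrimeCore p G) :=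
      Cfsg.Agent.Lib.helper40.le_pCore _ hSn S.isPGroup'
    have heq : Cfsg.pCore p (G ⧸ Cfsg.pPrimeCore p G) = S := le_antisymm hS hSle
    rw [heq]
    exact ((Nat.Prime.coprime_iff_not_dvd hpp).mpr S.not_dvd_index).symm
  exact ⟨h1, h2, h3, h4, h5, h6⟩

end Cfsg.Agent.S1455
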