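import Cfsg.Statements.S1416
import Cfsg.Agent.Lib.helper71.BGTwelveThree
import Cfsg.Agent.Lib.helper13.BG11a
import Cfsg.Agent.Lib.helper54.BGSigmaNe
import Cfsg.Agent.Lib.helper12.BGEleven
import Cfsg.Agent.Lib.helper26.BGP0
import Cfsg.Agent.Lib.helper29.BGFpf
import Cfsg.Agent.Lib.helper30.BGTenNine
import Cfsg.Agent.Lib.helper25.BGTenNineC
import Cfsg.Agent.Lib.helper36.BGEleven7

set_option autoImplicit false
open Cfsg

namespace Cfsg.Agent.S1416

/-- Let G be a minimal simple group of odd order, M a maximal subgroup, p a prime and A ≤ M elementary abelian of order p ^ 2. Then C_G(A) ≤ M. If moreover for every subgroup A₀ of A of order p, M is not the unique maximal subgroup containing N_G(A₀), then p ∈ σ(M), M_α = 1 and M_σ is nilpotent. -/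
theorem result {G : Type*} [Group G] [Finite G] (hG : Cfsg.IsMinSimpleOddOrder G)
    (M : Subgroup G) (hM : IsCoatom M) (p : ℕ) [Fact p.Prime] (A : Subgroup G) (hA : (A ≤ M ∧ Cfsg.IsElementaryAbelian p A ∧ Nat.card A = p ^ 2)) :
    Subgroup.centralizer (A : Set G) ≤ M ∧
      ((∀ A₀ : Subgroup G, A₀ ≤ A → Nat.card A₀ = p →
          ¬ (Subgroup.normalizer (A₀ : Set G) ≤ M ∧ ∀ L : Subgroup G, IsCoatom L → Subgroup.normalizer (A₀ : Set G) ≤ L → L = M)) →
        p ∈ Cfsg.sigma M ∧ Cfsg.alphaCore M = ⊥ ∧ Group.IsNilpotent (Cfsg.sigmaCore M)) := by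
  have hU := Cfsg.Agent.Lib.helper13.bgx_uniq hG
  have hF := Cfsg.Agent.Lib.helper13.bgx_fus hG
  have hne := Cfsg.Agent.Lib.helper54.sigmaCore_ne_bot hG
  have h2 := Cfsg.Agent.Lib.helper13.p11_2 hG
  have h3 := Cfsg.Agent.Lib.helper13.p11_3 hG hne
  have h4 := Cfsg.Agent.Lib.helper13.p11_4 hG
  have h5 := Cfsg.Agent.Lib.helper12.p11_5_of hG
    (fun p _ A P => Cfsg.Agent.Lib.helper26.bg_p0_nonab hG p A P) h2 h3 h4
  have h6 := Cfsg.Agent.Lib.helper12.p11_6 hG h2 h5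
  have hfpf := Cfsg.Agent.Lib.helper29.pFpf hG
  have h9 := Cfsg.Agent.Lib.helper30.BGTenNine.p10_9 hG
  have h9c := Cfsg.Agent.Lib.helper25.BGT.p10_9c hG h9
  have h7 := Cfsg.Agent.Lib.helper36.p11_7 hG h3 h5 h6 hfpf h9 h9c
  exact Cfsg.Agent.Lib.helper71.BG12.bg_12_4 hG hU hF hne h9
    (Cfsg.Agent.Lib.helper71.BG12.p12_3a hG hU hF h4 h7)
    (Cfsg.Agent.Lib.helper71.BG12.p12_3b hG hU hF h2 h7) M hM p A hA

end Cfsg.Agent.S1416
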