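import Cfsg.Statements.S1417
import Cfsg.Agent.Lib.helper8.BGTwelve
import Cfsg.Agent.Lib.helper13.BG11a
import Cfsg.Agent.Lib.helper12.BGEleven
import Cfsg.Agent.Lib.helper26.BGP0
import Cfsg.Agent.Lib.helper29.BGFpf
import Cfsg.Agent.Lib.helper30.BGTenNine
import Cfsg.Agent.Lib.helper25.BGTenNineC
import Cfsg.Agent.Lib.helper54.BGSigmaNe
import Cfsg.Agent.Lib.helper36.BGEleven7
import Cfsg.Agent.Lib.helper71.BGTwelveFourB
import Cfsg.Agent.Lib.helper71.BGTwelveThree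

set_option autoImplicit false
open Cfsg

namespace Cfsg.Agent.S1417

/-- Let G be a minimal simple group of odd order, M a maximal subgroup, p ∈ τ₂(M) and A ≤ M elementary abelian of order p ^ 2. Then (a) M_σ is nilpotent; (b) every Sylow p-subgroup P of M is abelian, and if A ≤ P then the elements of P of order dividing p are exactly those of A and N_G(P) is not contained in M; (c) M normalizes M_σA; (d) M_σ ∩ C_G(A) = 1; (e) M_σ ∩ M* = 1 for every maximal subgroup M* ≠ M containing A; (f) M_σ ∩ C_G(A₁) = 1 for some subgroup A₁ ≤ A of order p. -/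
theorem result {G : Type*} [Group G] [Finite G] (hG : Cfsg.IsMinSimpleOddOrder G)
    (M : Subgroup G) (hM : IsCoatom M) (p : ℕ) [Fact p.Prime] (hp : p ∈ Cfsg.tau2 M) (A : Subgroup G) (hA : (A ≤ M ∧ Cfsg.IsElementaryAbelian p A ∧ Nat.card A = p ^ 2)) :
    Group.IsNilpotent (Cfsg.sigmaCore M) ∧
      (∀ P : Sylow p M, IsMulCommutative (P : Subgroup M) ∧
        (A ≤ (P : Subgroup M).map M.subtype →
          (∀ x ∈ (P : Subgroup M).map M.subtype, x ^ p = 1 ↔ x ∈ A) ∧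
          ¬ Subgroup.normalizer ((((P : Subgroup M).map M.subtype : Subgroup G)) : Set G) ≤ M)) ∧
      M ≤ Subgroup.normalizer ((Cfsg.sigmaCore M ⊔ A : Subgroup G) : Set G) ∧
      Cfsg.sigmaCore M ⊓ Subgroup.centralizer (A : Set G) = ⊥ ∧
      (∀ Mstar : Subgroup G, IsCoatom Mstar → Mstar ≠ M → A ≤ Mstar → Cfsg.sigmaCore M ⊓ Mstar = ⊥) ∧
      ∃ A₁ : Subgroup G, A₁ ≤ A ∧ Nat.card A₁ = p ∧ Cfsg.sigmaCore M ⊓ Subgroup.centralizer (A₁ : Set G) = ⊥ := by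
  have hU := Cfsg.Agent.Lib.helper13.bgx_uniq hG
  have hF := Cfsg.Agent.Lib.helper13.bgx_fus hG
  have hne := Cfsg.Agent.Lib.helper54.sigmaCore_ne_bot hG
  have h2 := Cfsg.Agent.Lib.helper13.p11_2 hG
  have h3 := Cfsg.Agent.Lib.helper13.p11_3 hG hne
  have h4 := Cfsg.Agent.Lib.helper13.p11_4 hG
  have h5 := Cfsg.Agent.Lib.helper12.p11_5_of hG
    (fun p _ A P => Cfsg.Agent.Lib.helper26.bg_p0_nonab hG p A P) h2 h3 h4
  have h6 := Cfsg.Agent.Lib.helper12.p11_6 hG h2 h5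
  have h9 := Cfsg.Agent.Lib.helper30.BGTenNine.p10_9 hG
  have h9c := Cfsg.Agent.Lib.helper25.BGT.p10_9c hG h9
  have h7 := Cfsg.Agent.Lib.helper36.p11_7 hG h3 h5 h6 (Cfsg.Agent.Lib.helper29.pFpf hG) h9 h9c
  have h16 := Cfsg.Agent.Lib.helper71.BG12.bg_12_4 hG hU hF hne h9
    (Cfsg.Agent.Lib.helper71.BG12.p12_3a hG hU hF h4 h7)
    (Cfsg.Agent.Lib.helper71.BG12.p12_3b hG hU hF h2 h7)
  exact Cfsg.Agent.Lib.helper8.bg_12_5 hG hU hF h3 h4 h5 h6 h7 h16 M hM p hp A hA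

end Cfsg.Agent.S1417
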