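import Cfsg.Statements.S0033
import Cfsg.Agent.Lib.helper1.ThompsonFpf

set_option autoImplicit false
open Cfsg

namespace Cfsg.Agent.S0033

/-- Thompson's Theorem on fixed-point-free automorphisms: a finite group with an automorphism of prime order fixing only the identity is nilpotent. -/
theorem result {G : Type*} [Group G] [Finite G] (φ : G ≃* G)
    (hφ : MonoidHom.FixedPointFree (φ : G →* G)) (p : ℕ) (hp : p.Prime) (hord : orderOf φ = p) :
    Group.IsNilpotent G := by
  have hφ' : ∀ g, φ g = g → g = 1 := fun g hg => hφ g hg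
  have h1 : φ ^ p = 1 := by rw [← hord]; exact pow_orderOf_eq_one φ
  have h2 : ∀ (i : ℕ) (g : G), (φ ^ i) g = (⇑φ)^[i] g := by
    intro i
    induction i with
    | zero => intro g; rfl
    | succ i ih =>
      intro g
      rw [pow_succ, Function.iterate_succ_apply, ← ih]
      rfl
  have hφr : ∀ g, (⇑φ)^[p] g = g := by
    intro g
    rw [← h2, h1]
    rfl
  exact Lib.helper1.nilpotent_of_fpf_prime_aux p hp _ G rfl φ hφ' hφr

end Cfsg.Agent.S0033
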