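import Cfsg.Statements.S0539
import Mathlib
import Cfsg.Agent.S0538

set_option autoImplicit false
open Pointwise
open Cfsg

namespace Cfsg.Agent.S0539

open Cfsg.Agent.Lib.helper12

variable {G : Type*} [Group G]

/-- The join of a family of subnormal subgroups of a finite group is subnormal. -/
theorem sSup_isSubnormal [Finite G] (T : Set (Subgroup G)) (hT : ∀ U ∈ T, U.IsSubnormal) :
    (sSup T).IsSubnormal := by
  have hfin : T.Finite := Set.toFinite T
  induction T, hfin using Set.Finite.induction_on with
  | empty => rw [sSup_empty]; exact Subgroup.IsSubnormal.bot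
  | @insert a s _ _ ih =>
    rw [sSup_insert]
    exact Cfsg.Agent.S0538.result a (sSup s) (hT a (Set.mem_insert a s))
      (ih fun U hU => hT U (Set.mem_insert_of_mem a hU))

/-- A subnormal, non-normal subgroup has a conjugate different from it that normalizes it. -/
theorem exists_conj_of_subnormal (K : Subgroup G) (hK : K.IsSubnormal) :
    ∀ J : Subgroup G, J ≤ K → K ≤ Subgroup.normalizer (J : Set G) → ¬ J.Normal →
      ∃ g : G, MulAut.conj g • J ≠ J ∧ MulAut.conj g • J ≤ Subgroup.normalizer (J : Set G) := by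
  induction hK with
  | top =>
    intro J _ hN hJ
    rw [top_le_iff, Subgroup.normalizer_eq_top_iff] at hN
    exact absurd hN hJ
  | step K K' hle hK' hN ih =>
    intro J hJK hKJ hJn
    by_cases h : K' ≤ Subgroup.normalizer (J : Set G)
    · exact ih J (hJK.trans hle) h hJn
    · obtain ⟨g, hg, hgJ⟩ := SetLike.not_le_iff_exists.mp h
      refine ⟨g, fun he => hgJ (mem_normalizer_iff_conj_smul_eq.mpr he), ?_⟩
      have h1 : MulAut.conj g • J ≤ MulAut.conj g • K := conj_smul_mono g hJK
      rw [conj_smul_eq_self_of_normal_subgroupOf hle hN hg] at h1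
      exact h1.trans hKJ

/-- Let S be a family of subnormal subgroups of a finite group that is closed under conjugation, and S₀ a proper subfamily. Then some member of S not in S₀ normalizes the join of S₀. -/
theorem result {G : Type*} [Group G] [Finite G] (S S₀ : Set (Subgroup G)) (hS : ∀ U ∈ S, U.IsSubnormal) (hconj : ∀ U ∈ S, ∀ g : G, MulAut.conj g • U ∈ S) (h₀ : S₀ ⊂ S) : ∃ X ∈ S, X ∉ S₀ ∧ X ≤ Subgroup.normalizer ((sSup S₀ : Subgroup G) : Set G) := by
  set J : Subgroup G := sSup S₀ with hJ
  have hJsub : J.IsSubnormal := sSup_isSubnormal S₀ fun U hU => hS U (h₀.subset hU)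
  by_cases hex : ∃ X ∈ S, X ∉ S₀ ∧ X ≤ J
  · obtain ⟨X, hX, hX0, hXJ⟩ := hex
    exact ⟨X, hX, hX0, hXJ.trans Subgroup.le_normalizer⟩
  · push Not at hex
    obtain ⟨X₀, hX₀S, hX₀⟩ := Set.exists_of_ssubset h₀
    by_cases hJn : J.Normal
    · refine ⟨X₀, hX₀S, hX₀, ?_⟩
      rw [Subgroup.normalizer_eq_top_iff.mpr hJn]
      exact le_top
    · obtain ⟨g, hgne, hgle⟩ :=
        exists_conj_of_subnormal J hJsub J le_rfl Subgroup.le_normalizer hJn
      have hnle : ¬ MulAut.conj g • J ≤ J := fun h => hgne (conj_smul_eq_of_le h)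
      have hex2 : ∃ X ∈ S₀, ¬ MulAut.conj g • X ≤ J := by
        by_contra hcon
        push Not at hcon
        apply hnle
        have h1 : J ≤ MulAut.conj g⁻¹ • J := by
          refine sSup_le fun X hX => ?_
          have := conj_smul_mono g⁻¹ (hcon X hX)
          rwa [conj_inv_smul_conj_smul] at this
        have h2 := conj_smul_mono g h1
        rwa [conj_smul_conj_inv_smul] at h2
      obtain ⟨X, hX, hXJ⟩ := hex2
      refine ⟨MulAut.conj g • X, hconj X (h₀.subset hX) g, ?_, ?_⟩
      · intro hmem
        exact hXJ (le_sSup hmem)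
      · exact (conj_smul_mono g (le_sSup hX)).trans hgle

end Cfsg.Agent.S0539
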