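import Cfsg.Statements.S0540
import Mathlib
import Cfsg.Agent.S0539

set_option autoImplicit false
open Pointwise
open Cfsg

namespace Cfsg.Agent.S0540

open Cfsg.Agent.Lib.helper12

variable {G : Type*} [Group G]

theorem map_subtype_conj_smul (V : Subgroup G) (v : V) (Y : Subgroup V) :
    (MulAut.conj v • Y).map V.subtype = MulAut.conj (v : G) • (Y.map V.subtype) := by
  have hP : Y.map V.subtype ≤ V := Subgroup.map_subtype_le Y
  have hY : (Y.map V.subtype).subgroupOf V = Y :=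
    Subgroup.comap_map_eq_self_of_injective V.subtype_injective Y
  have h1 := Subgroup.conj_smul_subgroupOf hP v
  rw [hY] at h1
  rw [h1, Subgroup.subgroupOf_map_subtype]
  exact inf_of_le_left (Subgroup.conj_smul_le_of_le hP v)

/-- Relative version of S0539: families of subgroups of `V` subnormal in `V`. -/
theorem rel_exists_normalizing [Finite G] (V : Subgroup G) (T T₀ : Set (Subgroup G))
    (hle : ∀ B ∈ T, B ≤ V) (hsub : ∀ B ∈ T, (B.subgroupOf V).IsSubnormal)
    (hconj : ∀ B ∈ T, ∀ v ∈ V, MulAut.conj v • B ∈ T) (h₀ : T₀ ⊂ T) :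
    ∃ X ∈ T, X ∉ T₀ ∧ X ≤ Subgroup.normalizer ((sSup T₀ : Subgroup G) : Set G) := by
  let Φ : Subgroup V → Subgroup G := fun Y => Y.map V.subtype
  have hΦ : ∀ Y : Subgroup V, (Φ Y).subgroupOf V = Y := fun Y =>
    Subgroup.comap_map_eq_self_of_injective V.subtype_injective Y
  have hΦ' : ∀ B : Subgroup G, B ≤ V → Φ (B.subgroupOf V) = B := fun B hB => by
    show (B.subgroupOf V).map V.subtype = B
    rw [Subgroup.subgroupOf_map_subtype]; exact inf_of_le_left hB
  let T' : Set (Subgroup V) := Φ ⁻¹' T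
  let T₀' : Set (Subgroup V) := Φ ⁻¹' T₀
  have hS' : ∀ Y ∈ T', Y.IsSubnormal := by
    intro Y hY
    have := hsub (Φ Y) hY
    rwa [hΦ] at this
  have hconj' : ∀ Y ∈ T', ∀ v : V, MulAut.conj v • Y ∈ T' := by
    intro Y hY v
    show Φ (MulAut.conj v • Y) ∈ T
    have : Φ (MulAut.conj v • Y) = MulAut.conj (v : G) • Φ Y := map_subtype_conj_smul V v Y
    rw [this]
    exact hconj (Φ Y) hY v v.2
  have h₀' : T₀' ⊂ T' := by
    refine ⟨fun Y hY => h₀.subset hY, ?_⟩
    intro hsubset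
    obtain ⟨B, hB, hB0⟩ := Set.exists_of_ssubset h₀
    have h1 : B.subgroupOf V ∈ T' := by
      show Φ (B.subgroupOf V) ∈ T
      rw [hΦ' B (hle B hB)]; exact hB
    have h2 : Φ (B.subgroupOf V) ∈ T₀ := hsubset h1
    rw [hΦ' B (hle B hB)] at h2
    exact hB0 h2
  obtain ⟨Y, hY, hY0, hYN⟩ := Cfsg.Agent.S0539.result T' T₀' hS' hconj' h₀'
  refine ⟨Φ Y, hY, hY0, ?_⟩
  have hmap : (sSup T₀' : Subgroup V).map V.subtype = sSup T₀ := by
    apply le_antisymm
    · rw [Subgroup.map_le_iff_le_comap]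
      refine sSup_le fun Z hZ => ?_
      rw [← Subgroup.map_le_iff_le_comap]
      exact le_sSup hZ
    · refine sSup_le fun B hB => ?_
      have hBV : B ≤ V := hle B (h₀.subset hB)
      have h1 : B.subgroupOf V ∈ T₀' := by
        show Φ (B.subgroupOf V) ∈ T₀
        rw [hΦ' B hBV]; exact hB
      have h2 : Φ (B.subgroupOf V) ≤ (sSup T₀' : Subgroup V).map V.subtype :=
        Subgroup.map_mono (le_sSup h1)
      rwa [hΦ' B hBV] at h2
  rw [← hmap]
  exact (Subgroup.map_mono hYN).trans (Subgroup.le_normalizer_map _)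

/-- A uniqueness lemma of zipper type. Let A be a subgroup of a finite group G and U a nonempty family of subgroups. For V in U write S(V) for the set of conjugates of A that lie in V and are subnormal in V. Assume: A belongs to S(V) for every V in U; a member of some S(W) that lies in V belongs to S(V); and for all V, W in U the normalizer of the join of S(V) ∩ S(W) lies in some member of U. Then U has a greatest element. -/
theorem result {G : Type*} [Group G] [Finite G] (A : Subgroup G) (U : Set (Subgroup G)) (hU : U.Nonempty) (S : Subgroup G → Set (Subgroup G)) (hS : ∀ V B : Subgroup G, B ∈ S V ↔ (∃ g : G, B = MulAut.conj g • A) ∧ B ≤ V ∧ (B.subgroupOf V).IsSubnormal) (h1 : ∀ V ∈ U, A ∈ S V) (h2 : ∀ V ∈ U, ∀ W ∈ U, ∀ B ∈ S W, B ≤ V → B ∈ S V) (h3 : ∀ V ∈ U, ∀ W ∈ U, ∃ X ∈ U, Subgroup.normalizer ((sSup (S V ∩ S W) : Subgroup G) : Set G) ≤ X) : ∃ M ∈ U, ∀ V ∈ U, V ≤ M := by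
  have _ := h1
  -- basic properties of S V
  have hSle : ∀ V, ∀ B ∈ S V, B ≤ V := fun V B hB => ((hS V B).mp hB).2.1
  have hSsub : ∀ V, ∀ B ∈ S V, (B.subgroupOf V).IsSubnormal := fun V B hB => ((hS V B).mp hB).2.2
  have hSconj : ∀ V, ∀ B ∈ S V, ∀ v ∈ V, MulAut.conj v • B ∈ S V := by
    intro V B hB v hv
    obtain ⟨⟨g, rfl⟩, hBV, hBsub⟩ := (hS V _).mp hB
    rw [hS]
    refine ⟨⟨v * g, by rw [conj_mul_smul]⟩, ?_, ?_⟩
    · exact Subgroup.conj_smul_le_of_le hBV ⟨v, hv⟩
    · have := hBsub.smul (MulAut.conj (⟨v, hv⟩ : V))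
      rwa [Subgroup.conj_smul_subgroupOf hBV ⟨v, hv⟩] at this
  have hVnorm : ∀ V, V ≤ Subgroup.normalizer ((sSup (S V) : Subgroup G) : Set G) := by
    intro V v hv
    apply mem_normalizer_of_conj_smul_le
    have h1' : sSup (S V) ≤ MulAut.conj v⁻¹ • sSup (S V) := by
      refine sSup_le fun B hB => ?_
      have : MulAut.conj v • B ≤ sSup (S V) := le_sSup (hSconj V B hB v hv)
      have h' := conj_smul_mono v⁻¹ this
      rwa [conj_inv_smul_conj_smul] at h'
    have h2' := conj_smul_mono v h1'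
    rwa [conj_smul_conj_inv_smul] at h2'
  -- maximal members
  have hUfin : U.Finite := Set.toFinite U
  have hmaxN : ∀ V, Maximal (· ∈ U) V →
      Subgroup.normalizer ((sSup (S V) : Subgroup G) : Set G) ≤ V := by
    intro V hV
    obtain ⟨X, hXU, hX⟩ := h3 V hV.1 V hV.1
    rw [Set.inter_self] at hX
    have hVX : V ≤ X := (hVnorm V).trans hX
    exact hX.trans (hV.2 hXU hVX)
  have L1 : ∀ V W, Maximal (· ∈ U) V → Maximal (· ∈ U) W → S V ⊆ S W → V = W := by
    intro V W hV hW hsub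
    by_cases heq : S V = S W
    · have hWV : W ≤ V := by
        have := hVnorm W
        rw [← heq] at this
        exact this.trans (hmaxN V hV)
      exact le_antisymm (hW.2 hV.1 hWV) hWV
    · exfalso
      have hss : S V ⊂ S W := ⟨hsub, fun h => heq (Set.Subset.antisymm hsub h)⟩
      obtain ⟨B, hB, hBV, hBN⟩ :=
        rel_exists_normalizing W (S W) (S V) (hSle W) (hSsub W) (hSconj W) hss
      exact hBV (h2 V hV.1 W hW.1 B hB (hBN.trans (hmaxN V hV)))
  obtain ⟨V₀, hV₀⟩ := hU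
  obtain ⟨M₀, -, hM₀⟩ := hUfin.exists_le_maximal hV₀
  by_cases huniq : ∀ W, Maximal (· ∈ U) W → W = M₀
  · refine ⟨M₀, hM₀.1, fun V hV => ?_⟩
    obtain ⟨b, hVb, hb⟩ := hUfin.exists_le_maximal hV
    rw [huniq b hb] at hVb
    exact hVb
  · exfalso
    push Not at huniq
    obtain ⟨W₀, hW₀, hW₀ne⟩ := huniq
    let P : Set (Subgroup G × Subgroup G) :=
      {p | Maximal (· ∈ U) p.1 ∧ Maximal (· ∈ U) p.2 ∧ p.1 ≠ p.2}
    have hPne : P.Nonempty := ⟨(W₀, M₀), hW₀, hM₀, hW₀ne⟩
    obtain ⟨⟨V, W⟩, ⟨hV, hW, hVW⟩, hmax⟩ :=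
      Set.exists_max_image P (fun p => (S p.1 ∩ S p.2).ncard) (Set.toFinite P) hPne
    simp only at hV hW hVW hmax
    set S₀ := S V ∩ S W with hS₀
    obtain ⟨X, hXU, hX⟩ := h3 V hV.1 W hW.1
    obtain ⟨X', hXX', hX'⟩ := hUfin.exists_le_maximal hXU
    have hDX' : Subgroup.normalizer ((sSup S₀ : Subgroup G) : Set G) ≤ X' := hX.trans hXX'
    have hS₀X' : ∀ V', V' ∈ U → S₀ ⊆ S V' → S₀ ⊆ S X' := by
      intro V' hV' hsub B hB
      exact h2 X' hX'.1 V' hV' B (hsub hB) (((le_sSup hB).trans Subgroup.le_normalizer).trans hDX')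
    have key : ∀ V' W', Maximal (· ∈ U) V' → Maximal (· ∈ U) W' → V' ≠ W' →
        S V' ∩ S W' = S₀ → (∀ p ∈ P, (S p.1 ∩ S p.2).ncard ≤ S₀.ncard) → V' = X' := by
      intro V' W' hV' hW' hne hint hmax'
      have hnsub : ¬ S V' ⊆ S W' := fun h => hne (L1 V' W' hV' hW' h)
      have hss : S₀ ⊂ S V' := by
        rw [← hint]
        exact ⟨Set.inter_subset_left, fun h => hnsub (fun B hB => (h hB).2)⟩
      obtain ⟨B, hB, hB0, hBN⟩ :=
        rel_exists_normalizing V' (S V') S₀ (hSle V') (hSsub V') (hSconj V') hss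
      have hBX' : B ∈ S X' := h2 X' hX'.1 V' hV'.1 B hB (hBN.trans hDX')
      by_contra hVX'
      have hp : (V', X') ∈ P := ⟨hV', hX', hVX'⟩
      have hle := hmax' (V', X') hp
      simp only at hle
      have hsub1 : S₀ ⊆ S V' ∩ S X' := fun C hC =>
        ⟨hss.subset hC, hS₀X' V' hV'.1 hss.subset hC⟩
      have hlt : S₀.ncard < (S V' ∩ S X').ncard := by
        apply Set.ncard_lt_ncard _ (Set.toFinite _)
        exact ⟨hsub1, fun h => hB0 (h ⟨hB, hBX'⟩)⟩
      omega
    have e1 : V = X' := key V W hV hW hVW rfl (fun p hp => hmax p hp)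
    have e2 : W = X' := key W V hW hV (Ne.symm hVW) (Set.inter_comm _ _) (fun p hp => hmax p hp)
    exact hVW (e1.trans e2.symm)

end Cfsg.Agent.S0540
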