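import Cfsg.Statements.S0544
import Mathlib

set_option autoImplicit false
open Cfsg

namespace Cfsg.Agent.S0544

variable {G : Type*} [Group G]

/-- An element of the normalizer of `H` whose order is coprime to the index of `H` lies in `H`. -/
theorem mem_of_mem_normalizer_of_coprime [Finite G] (H : Subgroup G) (x : G)
    (hx : x ∈ Subgroup.normalizer (H : Set G)) (hcop : (orderOf x).Coprime H.index) : x ∈ H := by
  set N := Subgroup.normalizer (H : Set G) with hN
  have : (H.subgroupOf N).Normal := Subgroup.normal_in_normalizer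
  set y : N ⧸ H.subgroupOf N := QuotientGroup.mk' (H.subgroupOf N) ⟨x, hx⟩ with hy
  have h1 : orderOf y ∣ orderOf x := by
    have := orderOf_map_dvd (QuotientGroup.mk' (H.subgroupOf N)) (⟨x, hx⟩ : N)
    rwa [Subgroup.orderOf_mk] at this
  have h2 : orderOf y ∣ H.index := by
    have : orderOf y ∣ Nat.card (N ⧸ H.subgroupOf N) := orderOf_dvd_natCard y
    exact this.trans (Subgroup.relIndex_dvd_index_of_le Subgroup.le_normalizer)
  have h3 : orderOf y = 1 := Nat.eq_one_of_dvd_coprimes hcop h1 h2
  rw [orderOf_eq_one_iff] at h3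
  have : (⟨x, hx⟩ : N) ∈ H.subgroupOf N := (QuotientGroup.eq_one_iff _).mp h3
  exact Subgroup.mem_subgroupOf.mp this

/-- The member `K q` of a complement system has order prime to `q`. -/
theorem not_dvd_card_of_isComplementSystem [Finite G] {K : Nat.Primes → Subgroup G}
    (hK : Cfsg.IsComplementSystem K) (q : Nat.Primes) : ¬ (q : ℕ) ∣ Nat.card (K q) := by
  intro hdvd
  have h1 : Nat.card (K q) * (K q).index = Nat.card G := Subgroup.card_mul_index (K q)
  rw [hK q] at h1
  have h2 : (q : ℕ) ^ ((Nat.card G).factorization q + 1) ∣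
      Nat.card (K q) * (q : ℕ) ^ (Nat.card G).factorization q := by
    rw [pow_succ, mul_comm]
    exact Nat.mul_dvd_mul hdvd dvd_rfl
  rw [h1] at h2
  exact Nat.pow_succ_factorization_not_dvd Nat.card_pos.ne' q.2 h2

/-- In a finite solvable group the intersection of the normalizers of the members of a Hall complement system is a nilpotent subgroup. -/
theorem result {G : Type*} [Group G] [Finite G] [Group.IsSolvable G] (K : Nat.Primes → Subgroup G) (hK : Cfsg.IsComplementSystem K) : Group.IsNilpotent (Cfsg.systemNormalizer K) := by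
  set D := Cfsg.systemNormalizer K with hD
  have hDle : ∀ q : Nat.Primes, D ≤ Subgroup.normalizer (K q : Set G) := fun q => iInf_le _ q
  refine ((Group.isNilpotent_of_finite_tfae (G := D)).out 0 3).mpr ?_
  intro p hp P
  set T : Subgroup D := ⨅ q : {q : Nat.Primes // (q : ℕ) ≠ p}, (K q).subgroupOf D with hT
  have hTn : T.Normal :=
    Subgroup.normal_iInf_normal fun q => Subgroup.normal_subgroupOf_of_le_normalizer (hDle q)
  have hTp : IsPGroup p T := by
    rw [IsPGroup.iff_orderOf]
    intro g
    have hne : orderOf g ≠ 0 := (orderOf_pos g).ne'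
    refine ⟨_, Nat.eq_prime_pow_of_unique_prime_dvd hne ?_⟩
    intro d hd hdvd
    by_contra hdp
    let q' : Nat.Primes := ⟨d, hd⟩
    have hg : (g : D) ∈ (K q').subgroupOf D := by
      have h' : (g : D) ∈ ⨅ q : {q : Nat.Primes // (q : ℕ) ≠ p}, (K q).subgroupOf D := g.2
      rw [Subgroup.mem_iInf] at h'
      exact h' ⟨q', hdp⟩
    rw [Subgroup.mem_subgroupOf] at hg
    have h1 : orderOf g = orderOf (⟨((g : D) : G), hg⟩ : K q') :=
      calc orderOf g = orderOf (g : D) := (Subgroup.orderOf_coe g).symm
        _ = orderOf ((g : D) : G) := (Subgroup.orderOf_coe (g : D)).symm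
        _ = orderOf (⟨((g : D) : G), hg⟩ : K q') := (Subgroup.orderOf_mk _ hg).symm
    have h2 : d ∣ Nat.card (K q') := by
      refine hdvd.trans ?_
      rw [h1]
      exact orderOf_dvd_natCard _
    exact not_dvd_card_of_isComplementSystem hK q' h2
  have hPT : (P : Subgroup D) ≤ T := by
    intro x hx
    rw [hT, Subgroup.mem_iInf]
    rintro ⟨q, hq⟩
    rw [Subgroup.mem_subgroupOf]
    apply mem_of_mem_normalizer_of_coprime (K q) (x : G) (hDle q x.2)
    obtain ⟨k, hk⟩ := (IsPGroup.iff_orderOf.mp P.isPGroup') ⟨x, hx⟩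
    have hk' : orderOf (x : G) = p ^ k :=
      calc orderOf (x : G) = orderOf x := Subgroup.orderOf_coe x
        _ = orderOf (⟨x, hx⟩ : (P : Subgroup D)) := (Subgroup.orderOf_mk x hx).symm
        _ = p ^ k := hk
    rw [hk', hK q]
    exact Nat.Coprime.pow _ _ ((Nat.coprime_primes hp.out q.2).mpr (Ne.symm hq))
  have hEq : T = (P : Subgroup D) := P.is_maximal' hTp hPT
  rw [← hEq]
  exact hTn

end Cfsg.Agent.S0544
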