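import Cfsg.Statements.S0543
import Mathlib
import Cfsg.Agent.S0544
import Cfsg.Agent.Lib.lead.Hall
import Cfsg.Agent.Lib.helper12.Conj
import Cfsg.Agent.Lib.helper12.Coprime

set_option autoImplicit false
open Pointwise
open Cfsg

namespace Cfsg.Agent.S0543

open Cfsg.Agent.Lib.helper12

variable {G : Type*} [Group G]

theorem map_conj_eq_smul (g : G) (H : Subgroup G) :
    H.map (MulAut.conj g).toMonoidHom = MulAut.conj g • H := rfl

/-- A member of a complement system has order coprime to its index. -/
theorem coprime_card_index [Finite G] {K : Nat.Primes → Subgroup G}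
    (hK : Cfsg.IsComplementSystem K) (p : Nat.Primes) : (Nat.card (K p)).Coprime (K p).index := by
  rw [hK p]
  exact Nat.Coprime.pow_right _ (Nat.coprime_comm.mp
    ((Nat.Prime.coprime_iff_not_dvd p.2).mpr (Cfsg.Agent.S0544.not_dvd_card_of_isComplementSystem hK p)))

/-- Corresponding members of two complement systems have the same order. -/
theorem card_eq_of_isComplementSystem [Finite G] {K L : Nat.Primes → Subgroup G}
    (hK : Cfsg.IsComplementSystem K) (hL : Cfsg.IsComplementSystem L) (p : Nat.Primes) :
    Nat.card (L p) = Nat.card (K p) := by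
  have h1 := Subgroup.card_mul_index (K p)
  have h2 := Subgroup.card_mul_index (L p)
  rw [hK p] at h1
  rw [hL p] at h2
  exact Nat.eq_of_mul_eq_mul_right (pow_pos p.2.pos _) (h2.trans h1.symm)

/-- Members of a complement system at primes not dividing the order are the whole group. -/
theorem eq_top_of_not_dvd [Finite G] {K : Nat.Primes → Subgroup G}
    (hK : Cfsg.IsComplementSystem K) (p : Nat.Primes) (hp : ¬ (p : ℕ) ∣ Nat.card G) : K p = ⊤ := by
  have hf : (Nat.card G).factorization p = 0 := Nat.factorization_eq_zero_of_not_dvd hp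
  rw [← Subgroup.index_eq_one, hK p, hf, pow_zero]

/-- The normalizer of a member of a complement system has `p`-power index. -/
theorem index_normalizer [Finite G] {K : Nat.Primes → Subgroup G}
    (hK : Cfsg.IsComplementSystem K) (p : Nat.Primes) :
    ∃ b, (Subgroup.normalizer (K p : Set G)).index = (p : ℕ) ^ b := by
  have h : (Subgroup.normalizer (K p : Set G)).index ∣ (K p).index :=
    Subgroup.index_dvd_of_le Subgroup.le_normalizer
  rw [hK p] at h
  obtain ⟨b, -, hb⟩ := (Nat.dvd_prime_pow p.2).mp h
  exact ⟨b, hb⟩

/-- In a finite solvable group any two Hall complement systems are simultaneously conjugate: one element conjugates every member of the first system to the corresponding member of the second. -/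
theorem result {G : Type*} [Group G] [Finite G] [Group.IsSolvable G] (K L : Nat.Primes → Subgroup G) (hK : Cfsg.IsComplementSystem K) (hL : Cfsg.IsComplementSystem L) : ∃ g : G, ∀ p : Nat.Primes, MulAut.conj g • K p = L p := by
  classical
  set s : Finset Nat.Primes := (Nat.card G).primeFactors.subtype Nat.Prime with hs
  have hconj : ∀ p : Nat.Primes, ∃ g : G, L p = MulAut.conj g • K p := by
    intro p
    obtain ⟨g, hg⟩ := Cfsg.Agent.Lib.lead.conj_of_coprime_of_isSolvable (K p) (L p)
      (coprime_card_index hK p) (card_eq_of_isComplementSystem hK hL p)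
    exact ⟨g, hg⟩
  choose g hg using hconj
  set N : Nat.Primes → Subgroup G := fun p => Subgroup.normalizer (K p : Set G) with hN
  have hcop : ∀ i ∈ s, ∀ j ∈ s, i ≠ j → (N i).index.Coprime (N j).index := by
    intro i _ j _ hij
    obtain ⟨a, ha⟩ := index_normalizer hK i
    obtain ⟨b, hb⟩ := index_normalizer hK j
    show (Subgroup.normalizer (K i : Set G)).index.Coprime (Subgroup.normalizer (K j : Set G)).index
    rw [ha, hb]
    apply Nat.Coprime.pow
    exact (Nat.coprime_primes i.2 j.2).mpr (fun h => hij (Subtype.ext h))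
  obtain ⟨-, x, hx⟩ := exists_mem_cosets_of_coprime s N g hcop
  refine ⟨x, fun p => ?_⟩
  by_cases hp : p ∈ s
  · have h1 : (g p)⁻¹ * x ∈ N p := hx p hp
    have h2 : MulAut.conj ((g p)⁻¹ * x) • K p = K p := mem_normalizer_iff_conj_smul_eq.mp h1
    have h3 : x = g p * ((g p)⁻¹ * x) := by group
    rw [h3, conj_mul_smul, h2, ← hg p]
  · have hpd : ¬ (p : ℕ) ∣ Nat.card G := by
      intro hd
      apply hp
      exact (Finset.mem_subtype (p := Nat.Prime) (s := (Nat.card G).primeFactors) (a := p)).mpr
        (Nat.mem_primeFactors.mpr ⟨p.2, hd, Nat.card_pos.ne'⟩)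
    rw [eq_top_of_not_dvd hK p hpd, eq_top_of_not_dvd hL p hpd]
    exact Subgroup.Normal.conj_smul_eq_self x ⊤

end Cfsg.Agent.S0543
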