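import Cfsg.Statements.S0545
import Mathlib
import Cfsg.Agent.S0543
import Cfsg.Agent.S0544
import Cfsg.Agent.S0540
import Cfsg.Agent.Lib.lead.Hall
import Cfsg.Agent.Lib.helper12.Conj
import Cfsg.Agent.Lib.helper12.Coprime
import Cfsg.Agent.Lib.helper12.SylowNormal

set_option autoImplicit false
open Pointwise
open Cfsg

namespace Cfsg.Agent.S0545

open Cfsg.Agent.Lib.helper12

/-- A Hall subgroup `H`, `N` normal, `H^x ≤ HN` implies `H^x = H^n` for some `n ∈ N`. -/
theorem conj_by_normal {G : Type*} [Group G] [Finite G] [Group.IsSolvable G] (H N : Subgroup G) [N.Normal]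
    (hH : (Nat.card H).Coprime H.index) (x : G) (hx : MulAut.conj x • H ≤ H ⊔ N) :
    ∃ n ∈ N, MulAut.conj x • H = MulAut.conj n • H := by
  set L : Subgroup G := H ⊔ N with hL
  have hHL : H ≤ L := le_sup_left
  have h1 : Nat.card (H.subgroupOf L) = Nat.card H :=
    Nat.card_congr (Subgroup.subgroupOfEquivOfLe hHL).toEquiv
  have h2 : Nat.card ((MulAut.conj x • H).subgroupOf L) = Nat.card H := by
    rw [Nat.card_congr (Subgroup.subgroupOfEquivOfLe hx).toEquiv]
    exact card_conj_smul x H
  have h3 : (Nat.card (H.subgroupOf L)).Coprime (H.subgroupOf L).index := by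
    rw [h1]
    exact Nat.Coprime.coprime_dvd_right (Subgroup.relIndex_dvd_index_of_le hHL) hH
  obtain ⟨m, hm⟩ := Cfsg.Agent.Lib.lead.conj_of_coprime_of_isSolvable (H.subgroupOf L)
    ((MulAut.conj x • H).subgroupOf L) h3 (h2.trans h1.symm)
  have h4 : ((MulAut.conj x • H).subgroupOf L).map L.subtype = MulAut.conj x • H := by
    rw [Subgroup.subgroupOf_map_subtype]; exact inf_of_le_left hx
  have h5 : ((H.subgroupOf L).map (MulAut.conj m).toMonoidHom).map L.subtype
      = MulAut.conj (m : G) • H := by
    rw [Cfsg.Agent.S0543.map_conj_eq_smul, Cfsg.Agent.S0540.map_subtype_conj_smul,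
      Subgroup.subgroupOf_map_subtype, inf_of_le_left hHL]
  have h6 : MulAut.conj x • H = MulAut.conj (m : G) • H := by
    rw [← h4, hm, h5]
  have hm' : (m : G) ∈ N ⊔ H := by rw [sup_comm]; exact m.2
  rw [← SetLike.mem_coe, Subgroup.normal_mul] at hm'
  obtain ⟨n, hn, h, hh, hnh⟩ := Set.mem_mul.mp hm'
  refine ⟨n, hn, ?_⟩
  rw [h6, ← hnh, conj_mul_smul, Subgroup.conj_smul_eq_self_of_mem hh]

/-- Let K be a Hall complement system of a finite solvable group G and N a normal subgroup. Then the images of the K p in G modulo N form a Hall complement system of the quotient, and its system normalizer is the image of the system normalizer of K. -/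
theorem result {G : Type*} [Group G] [Finite G] [Group.IsSolvable G] (K : Nat.Primes → Subgroup G) (hK : Cfsg.IsComplementSystem K) (N : Subgroup G) [N.Normal] : Cfsg.IsComplementSystem (fun p => (K p).map (QuotientGroup.mk' N)) ∧ Cfsg.systemNormalizer (fun p => (K p).map (QuotientGroup.mk' N)) = (Cfsg.systemNormalizer K).map (QuotientGroup.mk' N) := by
  classical
  set π := QuotientGroup.mk' N with hπ
  have hπs : Function.Surjective π := QuotientGroup.mk'_surjective N
  have hCS : Cfsg.IsComplementSystem (fun p => (K p).map π) := by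
    intro p
    show ((K p).map π).index = (p : ℕ) ^ (Nat.card (G ⧸ N)).factorization p
    have hdvd : ((K p).map π).index ∣ (p : ℕ) ^ (Nat.card G).factorization p := by
      rw [← hK p]; exact Subgroup.index_map_dvd (K p) hπs
    obtain ⟨b, -, hb⟩ := (Nat.dvd_prime_pow p.2).mp hdvd
    have hcard : Nat.card ((K p).map π) * ((K p).map π).index = Nat.card (G ⧸ N) :=
      Subgroup.card_mul_index _
    have hnd : ¬ (p : ℕ) ∣ Nat.card ((K p).map π) := fun h =>
      Cfsg.Agent.S0544.not_dvd_card_of_isComplementSystem hK p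
        (h.trans (Subgroup.card_map_dvd (K p) π))
    rw [hb] at hcard ⊢
    rw [← hcard, Nat.factorization_mul (Nat.card_pos.ne') (pow_pos p.2.pos b).ne',
      Nat.factorization_pow]
    have h0 := Nat.factorization_eq_zero_of_not_dvd hnd
    rw [Finsupp.add_apply, Finsupp.smul_apply, h0, p.2.factorization_self]
    simp
  refine ⟨hCS, ?_⟩
  apply le_antisymm
  · intro y hy
    obtain ⟨x, rfl⟩ := hπs y
    have hxp : ∀ p : Nat.Primes, x ∈ Subgroup.normalizer ((K p ⊔ N : Subgroup G) : Set G) := by
      intro p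
      have h1 : π x ∈ Subgroup.normalizer (((K p).map π : Subgroup (G ⧸ N)) : Set (G ⧸ N)) :=
        (iInf_le (fun p : Nat.Primes =>
          Subgroup.normalizer (((K p).map π : Subgroup (G ⧸ N)) : Set (G ⧸ N))) p) hy
      have h2 : x ∈ (Subgroup.normalizer
          (((K p).map π : Subgroup (G ⧸ N)) : Set (G ⧸ N))).comap π := h1
      rw [Subgroup.comap_normalizer_eq_of_surjective _ hπs, Subgroup.comap_map_eq,
        QuotientGroup.ker_mk'] at h2
      exact h2
    have hn : ∀ p : Nat.Primes, ∃ n ∈ N, x * n ∈ Subgroup.normalizer (K p : Set G) := by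
      intro p
      have hx' : x⁻¹ ∈ Subgroup.normalizer ((K p ⊔ N : Subgroup G) : Set G) :=
        Subgroup.inv_mem _ (hxp p)
      have hle : MulAut.conj x⁻¹ • K p ≤ K p ⊔ N := by
        have := mem_normalizer_iff_conj_smul_eq.mp hx'
        calc MulAut.conj x⁻¹ • K p ≤ MulAut.conj x⁻¹ • (K p ⊔ N) := conj_smul_mono _ le_sup_left
          _ = K p ⊔ N := this
      obtain ⟨n, hn, hcn⟩ := conj_by_normal (K p) N
        (Cfsg.Agent.S0543.coprime_card_index hK p) x⁻¹ hle
      refine ⟨n, hn, ?_⟩
      rw [mem_normalizer_iff_conj_smul_eq, conj_mul_smul, ← hcn, conj_smul_conj_inv_smul]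
    choose n hnN hn using hn
    set s : Finset Nat.Primes := (Nat.card G).primeFactors.subtype Nat.Prime with hs
    set M : Nat.Primes → Subgroup N :=
      fun p => (Subgroup.normalizer (K p : Set G)).subgroupOf N with hM
    have hcop : ∀ i ∈ s, ∀ j ∈ s, i ≠ j → (M i).index.Coprime (M j).index := by
      have hidx : ∀ p : Nat.Primes, ∃ b, (M p).index = (p : ℕ) ^ b := by
        intro p
        have h1 : (M p).index ∣ (K p).index := by
          show (Subgroup.normalizer (K p : Set G)).relIndex N ∣ (K p).index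
          calc (Subgroup.normalizer (K p : Set G)).relIndex N
              ∣ (K p).relIndex N := Subgroup.relIndex_dvd_of_le_left N Subgroup.le_normalizer
            _ = (K p).relIndex (K p ⊔ N) := relIndex_eq_relIndex_sup_of_normal (K p) N
            _ ∣ (K p).index := Subgroup.relIndex_dvd_index_of_le le_sup_left
        rw [hK p] at h1
        obtain ⟨b, -, hb⟩ := (Nat.dvd_prime_pow p.2).mp h1
        exact ⟨b, hb⟩
      intro i _ j _ hij
      obtain ⟨a, ha⟩ := hidx i
      obtain ⟨b, hb⟩ := hidx j
      rw [ha, hb]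
      apply Nat.Coprime.pow
      exact (Nat.coprime_primes i.2 j.2).mpr (fun h => hij (Subtype.ext h))
    obtain ⟨-, z, hz⟩ := exists_mem_cosets_of_coprime s M (fun p => (⟨n p, hnN p⟩ : N)) hcop
    refine ⟨x * (z : G), ?_, ?_⟩
    · show x * (z : G) ∈ ⨅ p : Nat.Primes, Subgroup.normalizer (K p : Set G)
      rw [Subgroup.mem_iInf]
      intro p
      by_cases hp : p ∈ s
      · have h1 : (⟨n p, hnN p⟩ : N)⁻¹ * z ∈ M p := hz p hp
        have h2 : (n p)⁻¹ * (z : G) ∈ Subgroup.normalizer (K p : Set G) :=
          Subgroup.mem_subgroupOf.mp h1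
        have h3 : x * (z : G) = (x * n p) * ((n p)⁻¹ * (z : G)) := by group
        rw [h3]
        exact Subgroup.mul_mem _ (hn p) h2
      · have hpd : ¬ (p : ℕ) ∣ Nat.card G := by
          intro hd
          apply hp
          exact (Finset.mem_subtype (p := Nat.Prime) (s := (Nat.card G).primeFactors) (a := p)).mpr
            (Nat.mem_primeFactors.mpr ⟨p.2, hd, Nat.card_pos.ne'⟩)
        rw [Cfsg.Agent.S0543.eq_top_of_not_dvd hK p hpd, Subgroup.normalizer_eq_top]
        exact Subgroup.mem_top _
    · show π (x * (z : G)) = π x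
      rw [map_mul]
      have : π (z : G) = 1 := (QuotientGroup.eq_one_iff _).mpr z.2
      rw [this, mul_one]
  · rintro y ⟨x, hx, rfl⟩
    show π x ∈ ⨅ p : Nat.Primes,
      Subgroup.normalizer (((K p).map π : Subgroup (G ⧸ N)) : Set (G ⧸ N))
    rw [Subgroup.mem_iInf]
    intro p
    apply Subgroup.le_normalizer_map π
    exact Subgroup.mem_map_of_mem π
      ((iInf_le (fun p : Nat.Primes => Subgroup.normalizer (K p : Set G)) p) hx)

end Cfsg.Agent.S0545
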