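import Cfsg.Statements.S0561
import Mathlib
import Cfsg.Agent.S0559
import Cfsg.Agent.S0543
import Cfsg.Agent.Lib.lead.Hall
import Cfsg.Agent.Lib.helper12.Conj
import Cfsg.Agent.Lib.helper12.ProdCard

set_option autoImplicit false
open Pointwise
open Cfsg

namespace Cfsg.Agent.S0561

open Cfsg.Agent.Lib.helper12

theorem index_conj_smul {G : Type*} [Group G] [Finite G] (g : G) (A : Subgroup G) :
    (MulAut.conj g • A : Subgroup G).index = A.index := by
  have h1 := Subgroup.card_mul_index (MulAut.conj g • A : Subgroup G)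
  have h2 := Subgroup.card_mul_index A
  rw [card_conj_smul] at h1
  exact Nat.eq_of_mul_eq_mul_left Nat.card_pos (h1.trans h2.symm)

theorem core {G : Type*} [Group G] [Finite G] [Group.IsSolvable G] (H K A B : Subgroup G)
    (hHK : ∀ g : G, ∃ h ∈ H, ∃ k ∈ K, g = h * k)
    (hAn : ∀ h ∈ H, MulAut.conj h • A = A) (hBn : ∀ k ∈ K, MulAut.conj k • B = B)
    (hAh : (Nat.card A).Coprime A.index) (hBh : (Nat.card B).Coprime B.index) :
    ∃ S : Subgroup G, (S : Set G) = (A : Set G) * (B : Set G) := by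
  set a := Nat.card A with ha
  set b := Nat.card B with hb
  set l := Nat.lcm a b with hl
  have han : a * A.index = Nat.card G := Subgroup.card_mul_index A
  have hbn : b * B.index = Nat.card G := Subgroup.card_mul_index B
  have hadvd : a ∣ Nat.card G := ⟨_, han.symm⟩
  have hbdvd : b ∣ Nat.card G := ⟨_, hbn.symm⟩
  have hln : l ∣ Nat.card G := Nat.lcm_dvd hadvd hbdvd
  have hapos : 0 < a := Nat.card_pos
  have hbpos : 0 < b := Nat.card_pos
  have hlpos : 0 < l := Nat.lcm_pos hapos hbpos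
  obtain ⟨m, hm⟩ := hln
  have hcop : l.Coprime m := by
    apply Nat.coprime_of_dvd
    intro p hp hpl hpm
    have hpab : p ∣ a * b := hpl.trans (Nat.lcm_dvd_mul a b)
    rcases (Nat.Prime.dvd_mul hp).mp hpab with hpa | hpb
    · obtain ⟨t, ht⟩ := Nat.dvd_lcm_left a b
      have h1 : a * A.index = a * (t * m) := by rw [han, hm, hl, ht]; ring
      have h2 : A.index = t * m := Nat.eq_of_mul_eq_mul_left hapos h1
      have h3 : p ∣ A.index := by rw [h2]; exact hpm.mul_left t
      exact (Nat.Prime.coprime_iff_not_dvd hp).mp (Nat.Coprime.coprime_dvd_left hpa hAh) h3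
    · obtain ⟨t, ht⟩ := Nat.dvd_lcm_right a b
      have h1 : b * B.index = b * (t * m) := by rw [hbn, hm, hl, ht]; ring
      have h2 : B.index = t * m := Nat.eq_of_mul_eq_mul_left hbpos h1
      have h3 : p ∣ B.index := by rw [h2]; exact hpm.mul_left t
      exact (Nat.Prime.coprime_iff_not_dvd hp).mp (Nat.Coprime.coprime_dvd_left hpb hBh) h3
  obtain ⟨R₀, hR₀⟩ := Cfsg.Agent.Lib.lead.exists_subgroup_card_eq_of_isSolvable hm hcop
  have hR₀h : (Nat.card R₀).Coprime R₀.index := by
    have h1 := Subgroup.card_mul_index R₀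
    rw [hR₀, hm] at h1
    have h2 : R₀.index = m := Nat.eq_of_mul_eq_mul_left hlpos h1
    rw [hR₀, h2]; exact hcop
  obtain ⟨g₁, hg₁⟩ := Cfsg.Agent.Lib.lead.le_conj_of_coprime_of_isSolvable R₀ A hR₀h
    (by rw [hR₀]; exact Nat.dvd_lcm_left a b)
  obtain ⟨g₂, hg₂⟩ := Cfsg.Agent.Lib.lead.le_conj_of_coprime_of_isSolvable R₀ B hR₀h
    (by rw [hR₀]; exact Nat.dvd_lcm_right a b)
  rw [Cfsg.Agent.S0543.map_conj_eq_smul] at hg₁ hg₂
  obtain ⟨h', hh', k', hk', hgi⟩ := hHK (g₂ * g₁⁻¹)⁻¹
  set R := MulAut.conj (h'⁻¹ * g₁) • R₀ with hR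
  have hAR : A ≤ R := by
    have := conj_smul_mono h'⁻¹ hg₁
    rw [hAn _ (H.inv_mem hh'), ← conj_mul_smul] at this
    exact this
  have hBR : B ≤ R := by
    have h1 := conj_smul_mono k' hg₂
    rw [hBn _ hk', ← conj_mul_smul] at h1
    have : k' * g₂ = h'⁻¹ * g₁ := by
      have e : g₁ * g₂⁻¹ = h' * k' := by rw [← hgi]; group
      calc k' * g₂ = h'⁻¹ * (h' * k') * g₂ := by group
        _ = h'⁻¹ * (g₁ * g₂⁻¹) * g₂ := by rw [e]
        _ = h'⁻¹ * g₁ := by group
    rwa [this] at h1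
  have hcR : Nat.card R = l := by rw [hR, card_conj_smul, hR₀]
  refine ⟨R, ?_⟩
  symm
  apply Set.eq_of_subset_of_ncard_le
  · rintro _ ⟨x, hx, y, hy, rfl⟩
    exact R.mul_mem (hAR hx) (hBR hy)
  · rw [← Nat.card_coe_set_eq, ← Nat.card_coe_set_eq]
    have hprod := card_mul_set_mul_card_inf A B
    have hc1 : Nat.card (A ⊓ B : Subgroup G) ∣ Nat.gcd a b :=
      Nat.dvd_gcd (Subgroup.card_dvd_of_le inf_le_left) (Subgroup.card_dvd_of_le inf_le_right)
    have hgl : Nat.gcd a b * l = a * b := Nat.gcd_mul_lcm a b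
    have hcpos : 0 < Nat.card (A ⊓ B : Subgroup G) := Nat.card_pos
    have hgpos : 0 < Nat.gcd a b := Nat.gcd_pos_of_pos_left _ hapos
    have hcle : Nat.card (A ⊓ B : Subgroup G) ≤ Nat.gcd a b := Nat.le_of_dvd hgpos hc1
    have h3 : Nat.card (A ⊓ B : Subgroup G) * l
        ≤ Nat.card (A ⊓ B : Subgroup G) * Nat.card ((A : Set G) * (B : Set G) : Set G) := by
      calc Nat.card (A ⊓ B : Subgroup G) * l ≤ Nat.gcd a b * l := Nat.mul_le_mul_right l hcle
        _ = a * b := hgl
        _ = Nat.card (A ⊓ B : Subgroup G) * Nat.card ((A : Set G) * (B : Set G) : Set G) := by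
          rw [← hprod]; ring
    have h4 := Nat.le_of_mul_le_mul_left h3 hcpos
    exact (le_of_eq hcR).trans h4
  · exact Set.toFinite _

/-- Let the finite solvable group G be the product HK of subgroups, and let A be normal in H and B normal in K, where A and B are Hall subgroups of G (order coprime to index). Then for all x, y the product set of xAx⁻¹ and yBy⁻¹ is a subgroup of G. -/
theorem result {G : Type*} [Group G] [Finite G] [Group.IsSolvable G] (H K A B : Subgroup G) (hHK : ∀ g : G, ∃ h ∈ H, ∃ k ∈ K, g = h * k) (hA : A ≤ H) (hAn : (A.subgroupOf H).Normal) (hB : B ≤ K) (hBn : (B.subgroupOf K).Normal) (hAh : (Nat.card A).Coprime A.index) (hBh : (Nat.card B).Coprime B.index) (x y : G) : ∃ S : Subgroup G, (S : Set G) = ((MulAut.conj x • A : Subgroup G) : Set G) * ((MulAut.conj y • B : Subgroup G) : Set G) := by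
  obtain ⟨hHK', -⟩ := Cfsg.Agent.S0559.result H K (MulAut.conj x • H) (MulAut.conj y • K) hHK
    ⟨x, rfl⟩ ⟨y, rfl⟩
  apply core (MulAut.conj x • H) (MulAut.conj y • K) (MulAut.conj x • A) (MulAut.conj y • B) hHK'
  · intro g hg
    rw [mem_conj_smul_iff] at hg
    have := conj_smul_eq_self_of_normal_subgroupOf hA hAn hg
    rw [← conj_mul_smul]
    have e : g * x = x * (x⁻¹ * g * x) := by group
    rw [e, conj_mul_smul, this]
  · intro g hg
    rw [mem_conj_smul_iff] at hg
    have := conj_smul_eq_self_of_normal_subgroupOf hB hBn hg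
    rw [← conj_mul_smul]
    have e : g * y = y * (y⁻¹ * g * y) := by group
    rw [e, conj_mul_smul, this]
  · rw [card_conj_smul, index_conj_smul]; exact hAh
  · rw [card_conj_smul, index_conj_smul]; exact hBh

end Cfsg.Agent.S0561
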