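-- Statement S1378 (row 1378): the σ-partition (Bender-Glauberman, Theorem 13.9).
import Cfsg.Statements.S1378
import Cfsg.Agent.Lib.helper29.BGSigGlue
import Cfsg.Agent.Lib.helper70.BGAsym

set_option autoImplicit false
open Cfsg

namespace Cfsg.Agent.S1378

/-- Let G be a minimal simple group of odd order. Then every prime dividing the order of G belongs to σ(M) for some maximal subgroup M, and if σ(M) and σ(N) have a prime in common for maximal subgroups M, N then N is conjugate to M; so the sets σ(M_i) over representatives of the conjugacy classes of maximal subgroups partition the prime divisors of #G. -/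
theorem result {G : Type*} [Group G] [Finite G] (hG : Cfsg.IsMinSimpleOddOrder G) :
    (∀ p : ℕ, p.Prime → p ∣ Nat.card G → ∃ M : Subgroup G, IsCoatom M ∧ p ∈ Cfsg.sigma M) ∧
      ∀ M N : Subgroup G, IsCoatom M → IsCoatom N → (Cfsg.sigma M ∩ Cfsg.sigma N).Nonempty → ∃ g : G, N = M.map (MulAut.conj g).toMonoidHom :=
  Cfsg.Agent.Lib.helper29.SigPart.sigma_partition_statement hG
    (Cfsg.Agent.Lib.helper29.SigPart.asymSylHyp_of_asym70
      (fun M L hM hL hnc p hpM hpL P hPM hPL hP q hq Q hQ hQ1 hQM hQL hQsyl hPQ hQP hNQ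
          r hr R hR hR1 hRM hRL hRsyl hPR hRP hNR =>
        Cfsg.Agent.Lib.helper70.bg_tau1_asymmetry hG M L hM hL hnc p hpM hpL P hPM hPL hP
          q hq Q hQ hQ1 hQM hQL hQsyl hPQ hQP hNQ r hr R hR hR1 hRM hRL hRsyl hPR hRP hNR))

end Cfsg.Agent.S1378
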