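import Cfsg.Statements.S4145

set_option autoImplicit false
open Cfsg

namespace Cfsg.Agent.S4145

open scoped Pointwise

/-- A `p'`-automorphism (induced by `n ∈ N_G(P)`) of a cyclic Sylow `p`-subgroup `P` that is trivial
modulo a proper subgroup, or that fixes a nontrivial element, is trivial. -/
lemma key_aut {G : Type*} [Group G] [Finite G] {p : ℕ} [Fact p.Prime] (P : Sylow p G)
    (hP : IsCyclic (P : Subgroup G)) (n : G) (hn : n ∈ Subgroup.normalizer ((P : Subgroup G) : Set G))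
    (h : (∃ P₀ : Subgroup G, P₀ < (P : Subgroup G) ∧ ∀ a ∈ (P : Subgroup G), n * a * n⁻¹ * a⁻¹ ∈ P₀) ∨
         (∃ x ∈ (P : Subgroup G), x ≠ 1 ∧ n * x * n⁻¹ = x)) :
    n ∈ Subgroup.centralizer ((P : Subgroup G) : Set G) := by
  have hp : p.Prime := Fact.out
  obtain ⟨⟨a, haP⟩, hgen⟩ := hP.exists_generator
  have hPz : ∀ x ∈ (P : Subgroup G), x ∈ Submonoid.powers a := by
    intro x hx
    rw [mem_powers_iff_mem_zpowers]
    obtain ⟨j, hj⟩ := Subgroup.mem_zpowers_iff.mp (hgen ⟨x, hx⟩)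
    refine Subgroup.mem_zpowers_iff.mpr ⟨j, ?_⟩
    have := congrArg Subtype.val hj
    simpa using this
  obtain ⟨N, hN⟩ := IsPGroup.iff_card.mp P.isPGroup'
  have hoa : orderOf a = p ^ N := by
    rw [← hN, ← orderOf_eq_card_of_forall_mem_zpowers hgen, Subgroup.orderOf_mk]
  -- it suffices to show that `n` commutes with `a`
  suffices hcomm : Commute n a by
    rw [Subgroup.mem_centralizer_iff]
    intro x hx
    obtain ⟨j, rfl⟩ := hPz x hx
    exact (hcomm.pow_right j).eq.symm
  rcases Nat.eq_zero_or_pos N with hN0 | hNpos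
  · -- trivial P
    have : a = 1 := by
      rw [← orderOf_eq_one_iff, hoa, hN0, pow_zero]
    rw [this]; exact Commute.one_right n
  obtain ⟨k, rfl⟩ : ∃ k, N = k + 1 := ⟨N - 1, by omega⟩
  -- the exponent `s`
  have hnaP : n * a * n⁻¹ ∈ (P : Subgroup G) := (Subgroup.mem_normalizer_iff.mp hn a).mp haP
  obtain ⟨s₀, hs₀⟩ := hPz _ hnaP
  obtain ⟨s, hs1, hs⟩ : ∃ s : ℕ, 1 ≤ s ∧ a ^ s = n * a * n⁻¹ := by
    refine ⟨s₀ + orderOf a, ?_, ?_⟩
    · have := orderOf_pos a; omega
    · rw [pow_add, pow_orderOf_eq_one, mul_one]; exact hs₀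
  have hconj : ∀ j : ℕ, n ^ j * a * (n ^ j)⁻¹ = a ^ (s ^ j) := by
    intro j
    induction j with
    | zero => simp
    | succ j ih =>
      calc n ^ (j + 1) * a * (n ^ (j + 1))⁻¹ = n * (n ^ j * a * (n ^ j)⁻¹) * n⁻¹ := by
            rw [pow_succ']; group
        _ = n * a ^ (s ^ j) * n⁻¹ := by rw [ih]
        _ = (n * a * n⁻¹) ^ (s ^ j) := by rw [conj_pow]
        _ = a ^ (s ^ (j + 1)) := by rw [← hs, ← pow_mul, pow_succ']
  -- p ∣ s - 1
  have hps : p ∣ s - 1 := by
    rcases h with ⟨P₀, hP₀, hcommP₀⟩ | ⟨x, hxP, hx1, hxfix⟩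
    · by_contra hnd
      have h1 : a ^ (s - 1) ∈ P₀ := by
        have h2 := hcommP₀ a haP
        rw [← hs] at h2
        have h3 : a ^ s * a⁻¹ = a ^ (s - 1) := by
          obtain ⟨t, rfl⟩ : ∃ t, s = t + 1 := ⟨s - 1, by omega⟩
          rw [pow_succ]; simp
        rwa [h3] at h2
      have hcop : (s - 1).Coprime (orderOf a) := by
        rw [hoa]
        exact Nat.Coprime.pow_right _ (((Nat.Prime.coprime_iff_not_dvd hp).mpr hnd).symm)
      obtain ⟨m, hm⟩ := exists_pow_eq_self_of_coprime hcop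
      have haP₀ : a ∈ P₀ := by
        rw [← hm]; exact P₀.pow_mem h1 m
      have hle : (P : Subgroup G) ≤ P₀ := by
        intro x hx
        obtain ⟨j, rfl⟩ := hPz x hx
        exact P₀.pow_mem haP₀ j
      exact (lt_irrefl _ (lt_of_lt_of_le hP₀ hle))
    · obtain ⟨j, rfl⟩ := hPz x hxP
      have h1 : (a ^ j) ^ s = a ^ j := by
        calc (a ^ j) ^ s = (a ^ s) ^ j := by rw [← pow_mul, ← pow_mul, mul_comm]
          _ = (n * a * n⁻¹) ^ j := by rw [hs]
          _ = n * a ^ j * n⁻¹ := by rw [conj_pow]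
          _ = a ^ j := hxfix
      have h2 : (a ^ j) ^ (s - 1) = 1 := by
        obtain ⟨t, rfl⟩ : ∃ t, s = t + 1 := ⟨s - 1, by omega⟩
        rw [pow_succ] at h1
        simpa using h1
      have h3 : orderOf (a ^ j) ∣ s - 1 := orderOf_dvd_of_pow_eq_one h2
      have h4 : p ∣ orderOf (a ^ j) := by
        obtain ⟨i, hi⟩ := IsPGroup.iff_orderOf.mp P.isPGroup' ⟨a ^ j, hxP⟩
        rw [Subgroup.orderOf_mk] at hi
        rw [hi]
        rcases Nat.eq_zero_or_pos i with hi0 | hipos
        · exfalso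
          rw [hi0, pow_zero, orderOf_eq_one_iff] at hi
          exact hx1 hi
        · exact dvd_pow_self p hipos.ne'
      exact dvd_trans h4 h3
  -- s ^ p^k ≡ 1 mod p^(k+1)
  have hmod : s ^ (p ^ k) ≡ 1 [MOD p ^ (k + 1)] := by
    have h1 : ((p : ℕ) : ℤ) ∣ (s : ℤ) - 1 := by
      have : ((s - 1 : ℕ) : ℤ) = (s : ℤ) - 1 := by
        rw [Nat.cast_sub hs1]; simp
      rw [← this]
      exact Int.natCast_dvd_natCast.mpr hps
    have h2 := dvd_sub_pow_of_dvd_sub h1 k
    rw [one_pow] at h2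
    have h3 : (1 : ℕ) ≡ s ^ (p ^ k) [MOD p ^ (k + 1)] := by
      rw [Nat.modEq_iff_dvd]
      push_cast
      exact h2
    exact h3.symm
  have hc1 : Commute (n ^ (p ^ k)) a := by
    have h1 := hconj (p ^ k)
    have h2 : a ^ (s ^ (p ^ k)) = a ^ 1 := by
      rw [pow_eq_pow_iff_modEq, hoa]; exact hmod
    rw [h2, pow_one] at h1
    exact mul_inv_eq_iff_eq_mul.mp h1
  -- n ^ index ∈ P
  set q := (P : Subgroup G).index with hq
  have hc2 : Commute (n ^ q) a := by
    have h1 : (n ^ q) ^ (p ^ (k + 1)) = 1 := by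
      rw [← pow_mul, ← hN, hq, Subgroup.index_mul_card, pow_card_eq_one']
    have h2 : orderOf (n ^ q) ∣ p ^ (k + 1) := orderOf_dvd_of_pow_eq_one h1
    obtain ⟨i, -, hi⟩ := (Nat.dvd_prime_pow hp).mp h2
    have hZ : IsPGroup p (Subgroup.zpowers (n ^ q)) := by
      apply IsPGroup.of_card (n := i)
      rw [Nat.card_zpowers, hi]
    have h3 := hZ.inf_normalizer_sylow P
    have h4 : n ^ q ∈ Subgroup.zpowers (n ^ q) ⊓ Subgroup.normalizer ((P : Subgroup G) : Set G) :=
      ⟨Subgroup.mem_zpowers _, Subgroup.pow_mem _ hn q⟩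
    have h5 : n ^ q ∈ Subgroup.zpowers (n ^ q) ⊓ (P : Subgroup G) := h3.le h4
    obtain ⟨j, hj⟩ := hPz _ h5.2
    rw [← hj]
    exact (Commute.refl a).pow_left j
  have hcop : Nat.Coprime (p ^ k) q := by
    apply Nat.Coprime.pow_left
    rw [Nat.Prime.coprime_iff_not_dvd hp]
    exact P.not_dvd_index
  have hbez := Nat.gcd_eq_gcd_ab (p ^ k) q
  rw [hcop.gcd_eq_one] at hbez
  have hn1 : n = (n ^ (p ^ k)) ^ (Nat.gcdA (p ^ k) q) * (n ^ q) ^ (Nat.gcdB (p ^ k) q) := by
    rw [← zpow_natCast n (p ^ k), ← zpow_natCast n q, ← zpow_mul, ← zpow_mul, ← zpow_add, ← hbez]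
    simp
  rw [hn1]
  exact (hc1.zpow_left _).mul_left (hc2.zpow_left _)

/-- Burnside's transfer theorem for a subgroup `X` containing the Sylow subgroup `P`. -/
lemma burnside_sub {G : Type*} [Group G] [Finite G] {p : ℕ} [Fact p.Prime] (P : Sylow p G)
    (X : Subgroup G) (hPX : (P : Subgroup G) ≤ X)
    (hNC : ∀ n ∈ X, n ∈ Subgroup.normalizer ((P : Subgroup G) : Set G) →
      n ∈ Subgroup.centralizer ((P : Subgroup G) : Set G)) :
    ∃ K : Subgroup G, K ≤ X ∧ (∀ x ∈ X, ∀ k ∈ K, x * k * x⁻¹ ∈ K) ∧ (Nat.card K).Coprime p ∧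
      (∀ c ∈ X, (orderOf c).Coprime p → c ∈ K) ∧ (∀ x ∈ X, x ^ Nat.card (P : Subgroup G) ∈ K) ∧
      (∀ x ∈ X, ∀ y ∈ X, x * y * x⁻¹ * y⁻¹ ∈ K) := by
  have hp : p.Prime := Fact.out
  set PX : Sylow p X := P.subtype hPX with hPXdef
  have hPXmem : ∀ x : X, x ∈ (PX : Subgroup X) ↔ (x : G) ∈ (P : Subgroup G) := by
    intro x
    rw [hPXdef, Sylow.coe_subtype, Subgroup.mem_subgroupOf]
  have hyp : Subgroup.normalizer ((PX : Subgroup X) : Set X) ≤
      Subgroup.centralizer ((PX : Subgroup X) : Set X) := by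
    intro n hn
    have hn' : (n : G) ∈ Subgroup.normalizer ((P : Subgroup G) : Set G) := by
      rw [Subgroup.mem_normalizer_iff]
      intro h
      constructor
      · intro hh
        have h1 := (Subgroup.mem_normalizer_iff.mp hn ⟨h, hPX hh⟩).mp ((hPXmem _).mpr hh)
        exact (hPXmem _).mp h1
      · intro hh
        have hhX : h ∈ X := by
          have : h = (n : G)⁻¹ * ((n : G) * h * (n : G)⁻¹) * (n : G) := by group
          rw [this]
          exact X.mul_mem (X.mul_mem (X.inv_mem n.2) (hPX hh)) n.2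
        have h1 := (Subgroup.mem_normalizer_iff.mp hn ⟨h, hhX⟩).mpr ((hPXmem _).mpr hh)
        exact (hPXmem _).mp h1
    have hc := hNC n n.2 hn'
    rw [Subgroup.mem_centralizer_iff] at hc ⊢
    intro h hh
    apply Subtype.ext
    exact hc h ((hPXmem h).mp hh)
  have hcompl := MonoidHom.ker_transferSylow_isComplement' PX hyp
  have hcomm : ∀ u v : (PX : Subgroup X), u * v = v * u := by
    intro u v
    have h1 := hyp (Subgroup.le_normalizer v.2)
    rw [Subgroup.mem_centralizer_iff] at h1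
    exact Subtype.ext (h1 u u.2)
  have hcardPX : Nat.card (PX : Subgroup X) = Nat.card (P : Subgroup G) := by
    rw [hPXdef, Sylow.coe_subtype, ← Subgroup.card_map_of_injective X.subtype_injective,
      Subgroup.subgroupOf_map_subtype, inf_of_le_left hPX]
  refine ⟨(MonoidHom.transferSylow PX hyp).ker.map X.subtype, Subgroup.map_subtype_le _, ?_, ?_, ?_, ?_, ?_⟩
  · rintro x hx k ⟨k', hk', rfl⟩
    have h1 := (MonoidHom.normal_ker (MonoidHom.transferSylow PX hyp)).conj_mem k' hk' ⟨x, hx⟩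
    exact ⟨_, h1, rfl⟩
  · rw [Subgroup.card_map_of_injective X.subtype_injective, ← hcompl.index_eq_card]
    exact ((Nat.Prime.coprime_iff_not_dvd hp).mpr PX.not_dvd_index).symm
  · intro c hc hcop
    refine ⟨⟨c, hc⟩, ?_, rfl⟩
    rw [SetLike.mem_coe, MonoidHom.mem_ker]
    have h1 : orderOf (MonoidHom.transferSylow PX hyp ⟨c, hc⟩) ∣ orderOf c := by
      have := orderOf_map_dvd (MonoidHom.transferSylow PX hyp) (⟨c, hc⟩ : X)
      have h0 : orderOf (⟨c, hc⟩ : X) = orderOf c := Subgroup.orderOf_mk c hc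
      rwa [h0] at this
    obtain ⟨j, hj⟩ := IsPGroup.iff_orderOf.mp PX.isPGroup' (MonoidHom.transferSylow PX hyp ⟨c, hc⟩)
    rw [hj] at h1
    rcases Nat.eq_zero_or_pos j with hj0 | hjpos
    · rw [hj0, pow_zero, orderOf_eq_one_iff] at hj
      exact hj
    · exfalso
      have h2 : p ∣ orderOf c := dvd_trans (dvd_pow_self p hjpos.ne') h1
      exact (Nat.Prime.coprime_iff_not_dvd hp).mp hcop.symm h2
  · intro x hx
    refine ⟨⟨x, hx⟩ ^ Nat.card (P : Subgroup G), ?_, rfl⟩
    rw [SetLike.mem_coe, MonoidHom.mem_ker, map_pow, ← hcardPX, pow_card_eq_one']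
  · intro x hx y hy
    refine ⟨⟨x, hx⟩ * ⟨y, hy⟩ * ⟨x, hx⟩⁻¹ * ⟨y, hy⟩⁻¹, ?_, rfl⟩
    rw [SetLike.mem_coe, MonoidHom.mem_ker, map_mul, map_mul, map_mul, map_inv, map_inv,
      hcomm (MonoidHom.transferSylow PX hyp ⟨x, hx⟩)]
    group

lemma orderOf_conj' {G : Type*} [Group G] (g x : G) : orderOf (g * x * g⁻¹) = orderOf x := by
  have := orderOf_injective (MulAut.conj g).toMonoidHom (MulAut.conj g).injective x
  simpa [MulAut.conj_apply] using this

/-- every `p`-element lies in a conjugate of a given Sylow `p`-subgroup -/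
lemma exists_conj_mem_sylow {G : Type*} [Group G] [Finite G] {p : ℕ} [Fact p.Prime] (P : Sylow p G)
    (u : G) (hu : ∃ k : ℕ, orderOf u = p ^ k) : ∃ g y : G, y ∈ P ∧ g * y * g⁻¹ = u := by
  obtain ⟨k, hk⟩ := hu
  have hZ : IsPGroup p (Subgroup.zpowers u) := by
    apply IsPGroup.of_card (n := k)
    rw [Nat.card_zpowers, hk]
  obtain ⟨Q, hQ⟩ := hZ.exists_le_sylow
  obtain ⟨g, hg⟩ := MulAction.exists_smul_eq G P Q
  have h1 : u ∈ (Q : Subgroup G) := hQ (Subgroup.mem_zpowers u)
  rw [← hg, Sylow.coe_subgroup_smul, Subgroup.mem_pointwise_smul_iff_inv_smul_mem] at h1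
  have h2 : g⁻¹ * u * g ∈ (P : Subgroup G) := by
    simpa [MulAut.smul_def, MulAut.conj_apply] using h1
  exact ⟨g, g⁻¹ * u * g, h2, by group⟩

lemma orderOf_coprime_of_mem {G : Type*} [Group G] [Finite G] {p : ℕ} (K : Subgroup G)
    (hK : (Nat.card K).Coprime p) {x : G} (hx : x ∈ K) : (orderOf x).Coprime p := by
  have h1 : orderOf (⟨x, hx⟩ : K) ∣ Nat.card K := orderOf_dvd_natCard _
  have h0 : orderOf (⟨x, hx⟩ : K) = orderOf x := Subgroup.orderOf_mk x hx
  rw [h0] at h1
  exact Nat.Coprime.coprime_dvd_left h1 hK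

lemma eq_one_of_mem_of_coprime {G : Type*} [Group G] [Finite G] {p : ℕ} [Fact p.Prime] (P : Sylow p G)
    {w : G} (hwP : w ∈ (P : Subgroup G)) (hw : (orderOf w).Coprime p) : w = 1 := by
  have hp : p.Prime := Fact.out
  obtain ⟨i, hi⟩ := IsPGroup.iff_orderOf.mp P.isPGroup' ⟨w, hwP⟩
  have h0 : orderOf (⟨w, hwP⟩ : (P : Subgroup G)) = orderOf w := Subgroup.orderOf_mk w hwP
  rw [h0] at hi
  rcases Nat.eq_zero_or_pos i with hi0 | hipos
  · rw [hi0, pow_zero, orderOf_eq_one_iff] at hi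
    exact hi
  · exfalso
    have h2 : p ∣ orderOf w := by rw [hi]; exact dvd_pow_self p hipos.ne'
    exact (Nat.Prime.coprime_iff_not_dvd hp).mp hw.symm h2

/-- Let G be a finite group with a cyclic Sylow p-subgroup and H a normal subgroup such that p divides both the order of H and the index of H. Then H has a normal p-complement and G is p-solvable. -/
theorem result {G : Type*} [Group G] [Finite G] (p : ℕ) [Fact p.Prime]
    (P : Sylow p G) (hP : IsCyclic (P : Subgroup G)) (H : Subgroup G) [H.Normal] (h1 : p ∣ Nat.card H) (h2 : p ∣ H.index) :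
    Cfsg.HasNormalPComplement p H ∧ Cfsg.IsPSolvable p G := by
  have hp : p.Prime := Fact.out
  have hPcomm : ∀ u v : (P : Subgroup G), u * v = v * u := by
    intro u v
    obtain ⟨g, hg⟩ := hP.exists_generator
    obtain ⟨i, rfl⟩ := Subgroup.mem_zpowers_iff.mp (hg u)
    obtain ⟨j, rfl⟩ := Subgroup.mem_zpowers_iff.mp (hg v)
    exact ((Commute.refl g).zpow_zpow i j).eq
  have hPle : (P : Subgroup G) ≤ Subgroup.centralizer ((P : Subgroup G) : Set G) := by
    intro a ha
    rw [Subgroup.mem_centralizer_iff]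
    intro b hb
    exact congrArg Subtype.val (hPcomm ⟨b, hb⟩ ⟨a, ha⟩)
  have hP₀lt : (P : Subgroup G) ⊓ H < (P : Subgroup G) := by
    refine lt_of_le_of_ne inf_le_left ?_
    intro heq
    have hPH : (P : Subgroup G) ≤ H := by rw [← heq]; exact inf_le_right
    exact P.not_dvd_index (dvd_trans h2 (Subgroup.index_dvd_of_le hPH))
  obtain ⟨N₀, hN₀⟩ := IsPGroup.iff_card.mp P.isPGroup'
  -- Part 1: Burnside in X = H ⊔ P
  have hNC1 : ∀ n ∈ H ⊔ (P : Subgroup G), n ∈ Subgroup.normalizer ((P : Subgroup G) : Set G) →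
      n ∈ Subgroup.centralizer ((P : Subgroup G) : Set G) := by
    intro n hnX hnN
    have hn' : n ∈ ((H ⊔ (P : Subgroup G) : Subgroup G) : Set G) := hnX
    rw [Subgroup.normal_mul] at hn'
    obtain ⟨h, hh, a, ha, rfl⟩ := Set.mem_mul.mp hn'
    have hhN : h ∈ Subgroup.normalizer ((P : Subgroup G) : Set G) := by
      have : h = (h * a) * a⁻¹ := by group
      rw [this]
      exact Subgroup.mul_mem _ hnN (Subgroup.inv_mem _ (Subgroup.le_normalizer ha))
    have hhC : h ∈ Subgroup.centralizer ((P : Subgroup G) : Set G) := by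
      refine key_aut P hP h hhN (Or.inl ⟨(P : Subgroup G) ⊓ H, hP₀lt, fun b hb => ⟨?_, ?_⟩⟩)
      · exact (P : Subgroup G).mul_mem ((Subgroup.mem_normalizer_iff.mp hhN b).mp hb)
          ((P : Subgroup G).inv_mem hb)
      · have : h * b * h⁻¹ * b⁻¹ = h * (b * h⁻¹ * b⁻¹) := by group
        rw [this]
        exact H.mul_mem hh (Subgroup.Normal.conj_mem inferInstance _ (H.inv_mem hh) _)
    exact Subgroup.mul_mem _ hhC (hPle ha)
  obtain ⟨K, hKX, hKnorm, hKcop, hKp', hKpow, hKcomm⟩ :=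
    burnside_sub P (H ⊔ (P : Subgroup G)) le_sup_right hNC1
  have hHX : H ≤ H ⊔ (P : Subgroup G) := le_sup_left
  constructor
  · -- H has a normal p-complement
    obtain ⟨Q⟩ : Nonempty (Sylow p H) := inferInstance
    have hNnormal : (K.subgroupOf H).Normal := by
      constructor
      intro n hn g
      rw [Subgroup.mem_subgroupOf] at hn ⊢
      exact hKnorm g (hHX g.2) n hn
    have hquot : IsPGroup p (H ⧸ K.subgroupOf H) := by
      intro q
      induction q using QuotientGroup.induction_on with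
      | H h =>
        refine ⟨N₀, ?_⟩
        rw [← QuotientGroup.mk_pow, QuotientGroup.eq_one_iff, Subgroup.mem_subgroupOf, ← hN₀]
        exact hKpow h (hHX h.2)
    obtain ⟨j, hj⟩ := IsPGroup.iff_card.mp hquot
    have hidx : (K.subgroupOf H).index = p ^ j := hj
    have hNcop : (Nat.card (K.subgroupOf H)).Coprime p := by
      have h3 : Nat.card (K.subgroupOf H) = Nat.card (K ⊓ H : Subgroup G) := by
        rw [← Subgroup.card_map_of_injective H.subtype_injective, Subgroup.subgroupOf_map_subtype]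
      rw [h3]
      exact Nat.Coprime.coprime_dvd_left (Subgroup.card_dvd_of_le inf_le_left) hKcop
    have hcardH : Nat.card (K.subgroupOf H) * p ^ j = Nat.card H := by
      rw [← hidx]; exact Subgroup.card_mul_index _
    have hQcard : Nat.card (Q : Subgroup H) = p ^ j := by
      rw [Sylow.card_eq_multiplicity, ← hcardH]
      congr 1
      have hne : Nat.card (K.subgroupOf H) ≠ 0 := Nat.card_pos.ne'
      rw [Nat.factorization_mul hne (pow_ne_zero _ hp.pos.ne')]
      have h4 : (Nat.card (K.subgroupOf H)).factorization p = 0 :=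
        Nat.factorization_eq_zero_of_not_dvd ((Nat.Prime.coprime_iff_not_dvd hp).mp hNcop.symm)
      simp [h4, hp.factorization_pow]
    refine ⟨Q, K.subgroupOf H, hNnormal, ?_⟩
    apply Subgroup.isComplement'_of_coprime
    · rw [hQcard]; exact hcardH
    · rw [hQcard]; exact Nat.Coprime.pow_right _ hNcop
  · -- G is p-solvable
    have hK₀char : ∀ x, x ∈ K ⊓ H ↔ x ∈ H ∧ (orderOf x).Coprime p := by
      intro x
      constructor
      · rintro ⟨hxK, hxH⟩
        exact ⟨hxH, orderOf_coprime_of_mem K hKcop hxK⟩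
      · rintro ⟨hxH, hcop⟩
        exact ⟨hKp' x (hHX hxH) hcop, hxH⟩
    have hK₀conj : ∀ g x, x ∈ K ⊓ H → g * x * g⁻¹ ∈ K ⊓ H := by
      intro g x hx
      rw [hK₀char] at hx ⊢
      exact ⟨Subgroup.Normal.conj_mem inferInstance _ hx.1 _, by rw [orderOf_conj']; exact hx.2⟩
    let C : Subgroup G :=
      { carrier := {g | ∀ x ∈ H, g * x * g⁻¹ * x⁻¹ ∈ K ⊓ H}
        mul_mem' := by
          intro g₁ g₂ hg₁ hg₂ x hx
          have hx' : g₂ * x * g₂⁻¹ ∈ H := Subgroup.Normal.conj_mem inferInstance _ hx _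
          have : g₁ * g₂ * x * (g₁ * g₂)⁻¹ * x⁻¹ =
              (g₁ * (g₂ * x * g₂⁻¹) * g₁⁻¹ * (g₂ * x * g₂⁻¹)⁻¹) * (g₂ * x * g₂⁻¹ * x⁻¹) := by group
          rw [this]
          exact Subgroup.mul_mem _ (hg₁ _ hx') (hg₂ x hx)
        one_mem' := by
          intro x hx
          simp
        inv_mem' := by
          intro g hg x hx
          have hx' : g⁻¹ * x * g ∈ H := by
            have := Subgroup.Normal.conj_mem (inferInstance : H.Normal) _ hx g⁻¹
            simpa using this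
          have h3 := Subgroup.inv_mem _ (hg _ hx')
          have : g⁻¹ * x * g⁻¹⁻¹ * x⁻¹ = (g * (g⁻¹ * x * g) * g⁻¹ * (g⁻¹ * x * g)⁻¹)⁻¹ := by group
          rw [this]
          exact h3 }
    have hCmem : ∀ g, g ∈ C ↔ ∀ x ∈ H, g * x * g⁻¹ * x⁻¹ ∈ K ⊓ H := fun g => Iff.rfl
    have hCnormal : C.Normal := by
      constructor
      intro g hg t
      rw [hCmem] at hg ⊢
      intro x hx
      have hx' : t⁻¹ * x * t ∈ H := by
        have := Subgroup.Normal.conj_mem (inferInstance : H.Normal) _ hx t⁻¹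
        simpa using this
      have h3 := hK₀conj t _ (hg _ hx')
      have : t * g * t⁻¹ * x * (t * g * t⁻¹)⁻¹ * x⁻¹ =
          t * (g * (t⁻¹ * x * t) * g⁻¹ * (t⁻¹ * x * t)⁻¹) * t⁻¹ := by group
      rw [this]
      exact h3
    have hPC : (P : Subgroup G) ≤ C := by
      intro a ha
      rw [hCmem]
      intro x hx
      refine ⟨hKcomm a (le_sup_right (a := H) ha) x (hHX hx), ?_⟩
      exact H.mul_mem (Subgroup.Normal.conj_mem inferInstance _ hx _) (H.inv_mem hx)
    -- a nontrivial element of P ⊓ H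
    obtain ⟨z, hzP, hzH, hz1⟩ : ∃ z, z ∈ (P : Subgroup G) ∧ z ∈ H ∧ z ≠ 1 := by
      obtain ⟨y, hy⟩ := exists_prime_orderOf_dvd_card' (G := H) p h1
      have hy' : orderOf (y : G) = p := by rw [Subgroup.orderOf_coe]; exact hy
      obtain ⟨g, z, hz, hgz⟩ := exists_conj_mem_sylow P (y : G) ⟨1, by rw [hy', pow_one]⟩
      refine ⟨z, hz, ?_, ?_⟩
      · have : z = g⁻¹ * (g * z * g⁻¹) * g⁻¹⁻¹ := by group
        rw [this, hgz]
        exact Subgroup.Normal.conj_mem inferInstance _ y.2 _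
      · rintro rfl
        rw [mul_one, mul_inv_cancel] at hgz
        rw [← hgz, orderOf_one] at hy'
        exact hp.one_lt.ne' hy'.symm
    have hNC2 : ∀ n ∈ C, n ∈ Subgroup.normalizer ((P : Subgroup G) : Set G) →
        n ∈ Subgroup.centralizer ((P : Subgroup G) : Set G) := by
      intro n hnC hnN
      refine key_aut P hP n hnN (Or.inr ⟨z, hzP, hz1, ?_⟩)
      have h3 : n * z * n⁻¹ * z⁻¹ ∈ K ⊓ H := (hCmem n).mp hnC z hzH
      have h4 : n * z * n⁻¹ * z⁻¹ ∈ (P : Subgroup G) :=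
        (P : Subgroup G).mul_mem ((Subgroup.mem_normalizer_iff.mp hnN z).mp hzP)
          ((P : Subgroup G).inv_mem hzP)
      have h5 := eq_one_of_mem_of_coprime P h4 (orderOf_coprime_of_mem K hKcop h3.1)
      exact mul_inv_eq_one.mp h5
    obtain ⟨L, hLC, hLnorm, hLcop, hLp', hLpow, hLcomm⟩ := burnside_sub P C hPC hNC2
    have hLnormal : L.Normal := by
      constructor
      intro c hc g
      apply hLp'
      · exact hCnormal.conj_mem c (hLC hc) g
      · rw [orderOf_conj']; exact orderOf_coprime_of_mem L hLcop hc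
    have hquot : IsPGroup p (C ⧸ L.subgroupOf C) := by
      intro q
      induction q using QuotientGroup.induction_on with
      | H c =>
        refine ⟨N₀, ?_⟩
        rw [← QuotientGroup.mk_pow, QuotientGroup.eq_one_iff, Subgroup.mem_subgroupOf, ← hN₀]
        exact hLpow c c.2
    obtain ⟨m, hm⟩ := IsPGroup.iff_card.mp hquot
    refine ⟨3, ![⊥, L, C, ⊤], rfl, rfl, ?_, ?_, ?_⟩
    · apply Fin.monotone_iff_le_succ.mpr
      intro i
      fin_cases i
      · exact bot_le
      · exact hLC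
      · exact le_top
    · intro i
      fin_cases i
      · exact Subgroup.normal_bot
      · exact hLnormal
      · exact hCnormal
      · exact Subgroup.normal_top
    · intro i
      fin_cases i
      · right
        show ((⊥ : Subgroup G).relIndex L).Coprime p
        rw [Subgroup.relIndex_bot_left]
        exact hLcop
      · left
        exact ⟨m, hm⟩
      · right
        show (C.relIndex ⊤).Coprime p
        rw [Subgroup.relIndex_top_right]
        have h3 : C.index ∣ (P : Subgroup G).index := Subgroup.index_dvd_of_le hPC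
        exact (Nat.Coprime.coprime_dvd_right h3
          ((Nat.Prime.coprime_iff_not_dvd hp).mpr P.not_dvd_index)).symm

end Cfsg.Agent.S4145
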