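import Cfsg.Statements.S1421
import Cfsg.Agent.S1419
import Cfsg.Agent.S1427
import Cfsg.Agent.Lib.helper97.BGEight2
import Cfsg.Agent.Lib.helper97.BGEight3
import Cfsg.Agent.Lib.helper20.BG8ASM
import Cfsg.Agent.Lib.helper30.BG8PAD
import Cfsg.Agent.Lib.helper70.BG8PAR

set_option autoImplicit false
open Cfsg

namespace Cfsg.Agent.S1421

open Cfsg.Agent.Lib.helper97

/-- Let G be a minimal simple group of odd order, M a maximal subgroup and E a complement to M_σ in M. Suppose that every non-identity element e of E all of whose order's prime divisors lie in τ₁(M) ∪ τ₃(M) has M_σ ∩ C_G(e) = 1. Then E has an abelian normal subgroup A₀ with E ∩ C_G(x) ≤ A₀ for every non-identity x ∈ M_σ, and E has a subgroup E₀ of the same exponent as E such that no non-identity element of E₀ centralizes a non-identity element of M_σ. -/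
theorem result {G : Type*} [Group G] [Finite G] (hG : Cfsg.IsMinSimpleOddOrder G)
    (M : Subgroup G) (hM : IsCoatom M) (E : Subgroup G) (hE : Cfsg.IsComplIn E (Cfsg.sigmaCore M) M)
    (h : ∀ e ∈ E, e ≠ 1 → (∀ p : ℕ, p.Prime → p ∣ orderOf e → p ∈ Cfsg.tau1 M ∪ Cfsg.tau3 M) →
      Cfsg.sigmaCore M ⊓ Subgroup.centralizer ({e} : Set G) = ⊥) :
    (∃ A₀ : Subgroup G, A₀ ≤ E ∧ E ≤ Subgroup.normalizer (A₀ : Set G) ∧ IsMulCommutative A₀ ∧
        ∀ x ∈ Cfsg.sigmaCore M, x ≠ 1 → E ⊓ Subgroup.centralizer ({x} : Set G) ≤ A₀) ∧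
      ∃ E₀ : Subgroup G, E₀ ≤ E ∧ Monoid.exponent E₀ = Monoid.exponent E ∧
        ∀ e ∈ E₀, e ≠ 1 → Cfsg.sigmaCore M ⊓ Subgroup.centralizer ({e} : Set G) = ⊥ := by
  have h27 : BG8PrimeHyp G :=
    fun M hM E hE p _ S hS1 hSc x hx hx1 => Cfsg.Agent.S1427.result hG M hM E hE p S hS1 hSc x hx hx1
  by_cases hN : ∃ p : ℕ, p ∈ tau2 M ∧ ∀ S : Sylow p G, ¬ IsMulCommutative (S : Subgroup G)
  · obtain ⟨p, hp, hS⟩ := hN
    have : Fact p.Prime := ⟨hp.1⟩
    exact bg8_nonab hG M hM E hE h p hp hS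
  · push Not at hN
    have hdata : ∀ p ∈ tau2 M, p.Prime → ∃ S D : Subgroup G, S ≤ E ∧ IsPGroup p S ∧
        E ≤ Subgroup.normalizer (S : Set G) ∧ (∀ x ∈ S, ∀ y ∈ S, x * y = y * x) ∧
        (∀ x ∈ E, ∀ k : ℕ, x ^ p ^ k = 1 → x ∈ S) ∧ D ≤ S ∧ IsCyclic D ∧
        E ≤ Subgroup.normalizer (D : Set G) ∧ (∀ s ∈ S, s ^ Nat.card D = 1) ∧
        ∀ d ∈ D, d ≠ 1 → BG8Reg M d := by
      intro p hp hpp
      have : Fact p.Prime := ⟨hpp⟩
      obtain ⟨S₀, hS₀⟩ := hN p hp
      obtain ⟨A, S, c⟩ := bg8_exists_ctx hG M hM E hE p hp S₀ hS₀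
      obtain ⟨hSE, hNS⟩ := bg8_sylow_normal_of_tau2 hG c
      have hreg : ∀ e ∈ E, e ≠ 1 →
          (∀ q : ℕ, q.Prime → q ∣ orderOf e → q ∈ tau1 M ∪ tau3 M) → BG8Reg M e := h
      obtain ⟨Y, hYA, hYc, hYE⟩ :=
        Cfsg.Agent.Lib.helper70.bg8_exists_invariant_line hG h27 c hreg hSE hNS
      obtain ⟨D, hDS, hDc, hDE, hDexp, hDreg⟩ :=
        Cfsg.Agent.Lib.helper30.bg8_exists_cyclic hG c hSE hNS Y hYA hYc hYE
      have hEA : E ≤ Subgroup.normalizer (A : Set G) :=
        (bg8_h18 hG M hM E hE p hp A c.hA).1.1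
      have hES : E ≤ Subgroup.normalizer ((S : Subgroup G) : Set G) := hEA.trans hNS
      exact ⟨S, D, hSE, S.isPGroup', hES, c.hSab, fun x hx k hxk => bg8_mem_sylow hES x hx k hxk,
        hDS, hDc, hDE, hDexp, hDreg⟩
    obtain ⟨⟨A₀, hA₀E, hA₀n, hA₀c, hA₀⟩, ⟨E₀, hE₀E, hE₀exp, hE₀⟩⟩ :=
      Cfsg.Agent.Lib.helper20.bg8_assemble E (bg8_solvable hG M hM E hE.1) (tau2 M) (BG8Reg M)
        (by
          intro e n hr
          unfold BG8Reg at hr ⊢
          rw [eq_bot_iff] at hr ⊢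
          refine le_trans (inf_le_inf_left _ ?_) hr
          intro x hx
          rw [Subgroup.mem_centralizer_iff] at hx ⊢
          intro y hy
          rw [Set.mem_singleton_iff] at hy
          subst hy
          have h1 := hx e rfl
          exact ((Commute.pow_left (show Commute e x from h1) n)).eq)
        (by
          intro e he q hq ho hq2
          apply h e he
          · intro h1
            rw [h1, orderOf_one] at ho
            exact hq.ne_one ho.symm
          · intro r hr hrd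
            rw [ho] at hrd
            have : r = q := (Nat.prime_dvd_prime_iff_eq hr hq).mp hrd
            subst this
            exact bg8_tau13 hG M hM E hE e he r hq ho hq2)
        hdata
    refine ⟨⟨A₀, hA₀E, hA₀n, hA₀c, ?_⟩, ⟨E₀, hE₀E, hE₀exp, hE₀⟩⟩
    intro x hx hx1 e he
    by_cases he1 : e = 1
    · rw [he1]; exact A₀.one_mem
    · apply hA₀ e (Subgroup.mem_inf.mp he).1 he1
      intro hr
      unfold BG8Reg at hr
      have hxc : x ∈ Subgroup.centralizer ({e} : Set G) := by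
        rw [Subgroup.mem_centralizer_iff]
        intro y hy
        rw [Set.mem_singleton_iff] at hy
        subst hy
        have h2 := Subgroup.mem_centralizer_iff.mp (Subgroup.mem_inf.mp he).2 x rfl
        exact h2.symm
      have : x ∈ sigmaCore M ⊓ Subgroup.centralizer ({e} : Set G) := Subgroup.mem_inf.mpr ⟨hx, hxc⟩
      rw [hr, Subgroup.mem_bot] at this
      exact hx1 this

end Cfsg.Agent.S1421
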