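import Mathlib
import Cfsg.Statements.S0198
import Cfsg.Agent.Lib.helper4.CharDecomp
import Cfsg.Agent.Lib.helper4.Burnside2

set_option autoImplicit false
open Cfsg

namespace Cfsg.Agent.S0198

open Cfsg.Agent.Lib.helper4

/-- A generalized character of norm two vanishing at the identity is a difference of two
distinct irreducible characters. -/
theorem norm_two {G : Type*} [Group G] [Fintype G] {θ : G → ℂ}
    (hθ : IsGeneralizedCharacter G θ) (h2 : classInner θ θ = 2) (h1 : θ 1 = 0) :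
    ∃ a b : G → ℂ, IsIrrCharacter G a ∧ IsIrrCharacter G b ∧ a ≠ b ∧ θ = a - b := by
  classical
  have := Fintype.ofFinite (IrrCharacter G)
  obtain ⟨c, hexp, -, hnorm⟩ := exists_int_coeff hθ
  rw [h2] at hnorm
  have hsum : ∑ ψ, c ψ ^ 2 = 2 := by exact_mod_cast hnorm.symm
  have hex : ∃ ψ0, c ψ0 ≠ 0 := by
    by_contra hcon
    push Not at hcon
    simp [hcon] at hsum
  obtain ⟨ψ0, hψ0⟩ := hex
  rw [← Finset.add_sum_erase Finset.univ _ (Finset.mem_univ ψ0)] at hsum
  have hnn : 0 ≤ ∑ ψ ∈ Finset.univ.erase ψ0, c ψ ^ 2 :=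
    Finset.sum_nonneg fun ψ _ => by positivity
  have h0sq : c ψ0 ^ 2 = 1 := by
    have hpos : 0 < c ψ0 ^ 2 := by positivity
    have hle : c ψ0 ^ 2 ≤ 2 := by omega
    have hb : -1 ≤ c ψ0 ∧ c ψ0 ≤ 1 := by constructor <;> nlinarith
    obtain ⟨ha, hb⟩ := hb
    have h3 : c ψ0 = -1 ∨ c ψ0 = 0 ∨ c ψ0 = 1 := by omega
    rcases h3 with h3 | h3 | h3
    · rw [h3]; norm_num
    · exact absurd h3 hψ0
    · rw [h3]; norm_num
  have hrest : ∑ ψ ∈ Finset.univ.erase ψ0, c ψ ^ 2 = 1 := by omega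
  have hex1 : ∃ ψ1 ∈ Finset.univ.erase ψ0, c ψ1 ≠ 0 := by
    by_contra hcon
    push Not at hcon
    rw [Finset.sum_eq_zero (fun ψ hψ => by rw [hcon ψ hψ]; rfl)] at hrest
    omega
  obtain ⟨ψ1, hψ1mem, hψ1⟩ := hex1
  rw [← Finset.add_sum_erase _ _ hψ1mem] at hrest
  have hnn2 : 0 ≤ ∑ ψ ∈ (Finset.univ.erase ψ0).erase ψ1, c ψ ^ 2 :=
    Finset.sum_nonneg fun ψ _ => by positivity
  have h1sq : c ψ1 ^ 2 = 1 := by
    have hpos : 0 < c ψ1 ^ 2 := by positivity
    omega
  have hrest2 : ∑ ψ ∈ (Finset.univ.erase ψ0).erase ψ1, c ψ ^ 2 = 0 := by omega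
  have hzero : ∀ ψ, ψ ≠ ψ0 → ψ ≠ ψ1 → c ψ = 0 := by
    intro ψ h0 h1
    have := (Finset.sum_eq_zero_iff_of_nonneg (fun ψ _ => by positivity)).mp hrest2 ψ
      (Finset.mem_erase.mpr ⟨h1, Finset.mem_erase.mpr ⟨h0, Finset.mem_univ _⟩⟩)
    exact pow_eq_zero_iff (two_ne_zero) |>.mp this
  have hne : ψ1 ≠ ψ0 := (Finset.mem_erase.mp hψ1mem).1
  have hθ' : θ = (c ψ0 : ℂ) • (ψ0 : G → ℂ) + (c ψ1 : ℂ) • (ψ1 : G → ℂ) := by
    rw [hexp, ← Finset.add_sum_erase Finset.univ _ (Finset.mem_univ ψ0),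
      ← Finset.add_sum_erase _ _ hψ1mem]
    rw [Finset.sum_eq_zero, add_zero]
    intro ψ hψ
    rw [hzero ψ (Finset.mem_erase.mp (Finset.mem_erase.mp hψ).2).1 (Finset.mem_erase.mp hψ).1]
    simp
  have hpm : ∀ x : ℤ, x ^ 2 = 1 → x = 1 ∨ x = -1 := by
    intro x hx
    have : (x - 1) * (x + 1) = 0 := by ring_nf; omega
    rcases mul_eq_zero.mp this with h | h
    · left; omega
    · right; omega
  obtain ⟨n0, hn0, hd0⟩ := exists_pos_nat_degree ψ0.2
  obtain ⟨n1, hn1, hd1⟩ := exists_pos_nat_degree ψ1.2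
  have hdeg : (c ψ0 : ℂ) * n0 + (c ψ1 : ℂ) * n1 = 0 := by
    have := congrFun hθ' 1
    rw [h1] at this
    simp only [Pi.add_apply, Pi.smul_apply, smul_eq_mul, hd0, hd1] at this
    exact this.symm
  have hdegZ : c ψ0 * n0 + c ψ1 * n1 = 0 := by exact_mod_cast hdeg
  have hfne : (ψ1 : G → ℂ) ≠ (ψ0 : G → ℂ) := fun h => hne (Subtype.ext h)
  rcases hpm _ h0sq with h0 | h0 <;> rcases hpm _ h1sq with h1' | h1'
  · exfalso; rw [h0, h1'] at hdegZ; omega
  · refine ⟨ψ0, ψ1, ψ0.2, ψ1.2, hfne.symm, ?_⟩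
    rw [hθ', h0, h1']; simp [sub_eq_add_neg]
  · refine ⟨ψ1, ψ0, ψ1.2, ψ0.2, hfne, ?_⟩
    rw [hθ', h0, h1']; simp [sub_eq_add_neg, add_comm]
  · exfalso; rw [h0, h1'] at hdegZ; omega


/-- The isometry lemma behind exceptional characters. Let τ be a family of generalized characters of a finite group G indexed by Fin n, with τ i₀ = 0, every τ i vanishing at the identity, and inner products ⟨τ i, τ j⟩ = 2 if i = j and 1 otherwise for i, j ≠ i₀. Then there are a sign ε and pairwise distinct irreducible characters μ i with τ i = ε (μ i − μ i₀) for all i. -/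
theorem result {G : Type*} [Group G] [Fintype G] (n : ℕ) (i₀ : Fin n) (τ : Fin n → (G → ℂ)) (h0 : τ i₀ = 0) (hgen : ∀ i, Cfsg.IsGeneralizedCharacter G (τ i)) (hone : ∀ i, τ i 1 = 0) (hgram : ∀ i j, i ≠ i₀ → j ≠ i₀ → Cfsg.classInner (τ i) (τ j) = if i = j then 2 else 1) : ∃ ε : ℂ, (ε = 1 ∨ ε = -1) ∧ ∃ μ : Fin n → (G → ℂ), (∀ i, Cfsg.IsIrrCharacter G (μ i)) ∧ Function.Injective μ ∧ ∀ i, τ i = ε • (μ i - μ i₀) := by
  classical
  have htriv : IsIrrCharacter G (fun _ => (1:ℂ)) := isIrrCharacter_one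
  have hdec : ∀ i, ∃ a b : G → ℂ, IsIrrCharacter G a ∧ IsIrrCharacter G b ∧
      (i ≠ i₀ → a ≠ b ∧ τ i = a - b) := by
    intro i
    by_cases hi : i = i₀
    · exact ⟨_, _, htriv, htriv, fun h => absurd hi h⟩
    · have h2 := hgram i i hi hi
      rw [if_pos rfl] at h2
      obtain ⟨a, b, ha, hb, hab, hτ⟩ := norm_two (hgen i) h2 (hone i)
      exact ⟨a, b, ha, hb, fun _ => ⟨hab, hτ⟩⟩
  choose α β hα hβ hαβ using hdec
  have hpair : ∀ i j, i ≠ i₀ → j ≠ i₀ → i ≠ j →
      (α i = α j ∧ β i ≠ β j) ∨ (β i = β j ∧ α i ≠ α j) := by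
    intro i j hi hj hij
    have h := hgram i j hi hj
    rw [if_neg hij, (hαβ i hi).2, (hαβ j hj).2, classInner_sub_left, classInner_sub_right,
      classInner_sub_right, classInner_irr (hα i) (hα j), classInner_irr (hα i) (hβ j),
      classInner_irr (hβ i) (hα j), classInner_irr (hβ i) (hβ j)] at h
    have hi' := (hαβ i hi).1
    have hj' := (hαβ j hj).1
    by_cases h1 : α i = α j
    · left
      refine ⟨h1, ?_⟩
      intro h2
      rw [if_pos h1, if_pos h2, if_neg (by rw [h1]; exact hj'),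
        if_neg (by rw [← h1]; exact fun h => hi' h.symm)] at h
      norm_num at h
    · right
      by_cases h2 : β i = β j
      · exact ⟨h2, h1⟩
      · exfalso
        rw [if_neg h1, if_neg h2] at h
        split_ifs at h <;> norm_num at h
  by_cases hA : ∃ i j, i ≠ i₀ ∧ j ≠ i₀ ∧ i ≠ j ∧ α i = α j
  · obtain ⟨i, j, hi, hj, hij, haij⟩ := hA
    have hall : ∀ l, l ≠ i₀ → α l = α i := by
      intro l hl
      by_cases hli : l = i
      · rw [hli]
      by_cases hlj : l = j
      · rw [hlj, haij]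
      by_contra hne
      have h1 := hpair l i hl hi hli
      have h2 := hpair l j hl hj hlj
      have h3 := hpair i j hi hj hij
      rcases h1 with ⟨h1a, -⟩ | ⟨h1b, -⟩
      · exact hne h1a
      · rcases h2 with ⟨h2a, -⟩ | ⟨h2b, -⟩
        · exact hne (h2a.trans haij.symm)
        · rcases h3 with ⟨-, h3b⟩ | ⟨-, h3b⟩
          · exact h3b (h1b.symm.trans h2b)
          · exact h3b haij
    refine ⟨-1, Or.inr rfl, fun l => if l = i₀ then α i else β l, ?_, ?_, ?_⟩
    · intro l
      by_cases hl : l = i₀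
      · simp only [hl, if_true]; exact hα i
      · simp only [hl, if_false]; exact hβ l
    · intro l l' hll'
      by_contra hne
      by_cases hl : l = i₀ <;> by_cases hl' : l' = i₀
      · exact hne (hl.trans hl'.symm)
      · simp only [hl, hl', if_true, if_false] at hll'
        exact (hαβ l' hl').1 ((hall l' hl').trans hll')
      · simp only [hl, hl', if_true, if_false] at hll'
        exact (hαβ l hl).1 ((hall l hl).trans hll'.symm)
      · simp only [hl, hl', if_false] at hll'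
        rcases hpair l l' hl hl' hne with ⟨-, h⟩ | ⟨-, h⟩
        · exact h hll'
        · exact h ((hall l hl).trans (hall l' hl').symm)
    · intro l
      by_cases hl : l = i₀
      · simp only [hl, if_true, sub_self, smul_zero]; exact h0
      · simp only [hl, if_false, if_true]
        rw [(hαβ l hl).2, hall l hl]
        ext g; simp
  · push Not at hA
    by_cases hI : ∃ i₁, i₁ ≠ i₀
    · obtain ⟨i₁, hi₁⟩ := hI
      have hall : ∀ l, l ≠ i₀ → β l = β i₁ := by
        intro l hl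
        by_cases hl1 : l = i₁
        · rw [hl1]
        rcases hpair l i₁ hl hi₁ hl1 with ⟨h, -⟩ | ⟨h, -⟩
        · exact absurd h (hA l i₁ hl hi₁ hl1)
        · exact h
      refine ⟨1, Or.inl rfl, fun l => if l = i₀ then β i₁ else α l, ?_, ?_, ?_⟩
      · intro l
        by_cases hl : l = i₀
        · simp only [hl, if_true]; exact hβ i₁
        · simp only [hl, if_false]; exact hα l
      · intro l l' hll'
        by_contra hne
        by_cases hl : l = i₀ <;> by_cases hl' : l' = i₀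
        · exact hne (hl.trans hl'.symm)
        · simp only [hl, hl', if_true, if_false] at hll'
          exact (hαβ l' hl').1 (hll'.symm.trans (hall l' hl').symm)
        · simp only [hl, hl', if_true, if_false] at hll'
          exact (hαβ l hl).1 (hll'.trans (hall l hl).symm)
        · simp only [hl, hl', if_false] at hll'
          exact hA l l' hl hl' hne hll'
      · intro l
        by_cases hl : l = i₀
        · simp only [hl, if_true, sub_self, smul_zero]; exact h0
        · simp only [hl, if_false, if_true]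
          rw [(hαβ l hl).2, hall l hl, one_smul]
    · push Not at hI
      refine ⟨1, Or.inl rfl, fun _ => (fun _ => (1:ℂ)), fun _ => htriv, ?_, ?_⟩
      · intro l l' _
        rw [hI l, hI l']
      · intro l
        rw [hI l, h0]; simp

end Cfsg.Agent.S0198
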