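import Mathlib
import Cfsg.Statements.S0921
import Cfsg.Agent.Lib.helper20.SubAlg
import Cfsg.Agent.Lib.helper20.NormalIdem
import Cfsg.Agent.Lib.helper81.Blocks
import Cfsg.Agent.Lib.helper80.ConjIrr
import Cfsg.Agent.Lib.helper40.Cores

set_option autoImplicit false
open Cfsg

namespace Cfsg.Agent.S0921

open Cfsg.Agent.Lib.helper20 Cfsg.Agent.Lib.helper81 Cfsg.Agent.Lib.helper80
open scoped ComplexConjugate

universe u

variable {G : Type u} [Group G]

/-- The `G`-orbit of an irreducible character of a normal subgroup. -/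
def orbitSet (N : Subgroup G) (hN : ∀ g : G, g ∈ Subgroup.normalizer (N : Set G))
    (θ : IrrCharacter N) : Set (IrrCharacter N) :=
  {θ' | ∃ g : G, θ' = conjIrr N g (hN g) θ}

theorem mem_orbitSet_self (N : Subgroup G) (hN : ∀ g : G, g ∈ Subgroup.normalizer (N : Set G))
    (θ : IrrCharacter N) : θ ∈ orbitSet N hN θ :=
  ⟨1, (conjIrr_one N (hN 1) θ).symm⟩

theorem conjSet_orbitSet (N : Subgroup G) (hN : ∀ g : G, g ∈ Subgroup.normalizer (N : Set G))
    (θ : IrrCharacter N) (n : G) : conjSet N n (hN n) (orbitSet N hN θ) = orbitSet N hN θ := by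
  ext θ'
  constructor
  · rintro ⟨θ'', ⟨g, rfl⟩, rfl⟩
    exact ⟨n * g, (conjIrr_mul N n g (hN n) (hN g) (hN (n * g)) θ).symm⟩
  · rintro ⟨g, rfl⟩
    refine ⟨conjIrr N (n⁻¹ * g) (hN _) θ, ⟨n⁻¹ * g, rfl⟩, ?_⟩
    rw [← conjIrr_mul N n (n⁻¹ * g) (hN n) (hN _) (hN _) θ]
    congr 1
    group

theorem one_of_mem_orbitSet (N : Subgroup G) (hN : ∀ g : G, g ∈ Subgroup.normalizer (N : Set G))
    (θ θ' : IrrCharacter N) (h : θ' ∈ orbitSet N hN θ) :
    (θ' : N → ℂ) 1 = (θ : N → ℂ) 1 := by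
  obtain ⟨g, rfl⟩ := h
  exact conjIrr_one_apply N g (hN g) θ

theorem classInner_of_mem_orbitSet [Fintype G] (N : Subgroup G) [Fintype N]
    (hN : ∀ g : G, g ∈ Subgroup.normalizer (N : Set G))
    (θ θ' : IrrCharacter N) (h : θ' ∈ orbitSet N hN θ) (χ : IrrCharacter G) :
    classInner (fun n : N => (χ : G → ℂ) n) (θ' : N → ℂ)
      = classInner (fun n : N => (χ : G → ℂ) n) (θ : N → ℂ) := by
  obtain ⟨g, rfl⟩ := h
  unfold classInner
  congr 1
  rw [← Equiv.sum_comp (conjEquiv N g (hN g)).toEquiv]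
  apply Finset.sum_congr rfl
  intro m _
  have h1 : (conjIrr N g (hN g) θ : N → ℂ) ((conjEquiv N g (hN g)).toEquiv m) = (θ : N → ℂ) m :=
    conjIrr_apply N g (hN g) θ m _ rfl
  rw [h1]
  congr 1
  show (χ : G → ℂ) (g * (m : G) * g⁻¹) = (χ : G → ℂ) m
  exact irr_classFun χ (m : G) g

/-- The idempotent of the orbit, in the group algebra of `G`. -/
noncomputable def orbitIdem (N : Subgroup G) [Fintype N]
    (hN : ∀ g : G, g ∈ Subgroup.normalizer (N : Set G)) (θ : IrrCharacter N) :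
    MonoidAlgebra ℂ G :=
  inclAlg N (blockIdem (orbitSet N hN θ))

theorem orbitIdem_mul_self (N : Subgroup G) [Fintype N]
    (hN : ∀ g : G, g ∈ Subgroup.normalizer (N : Set G)) (θ : IrrCharacter N) :
    orbitIdem N hN θ * orbitIdem N hN θ = orbitIdem N hN θ := by
  unfold orbitIdem
  rw [← map_mul, blockIdem_mul_self]

theorem isCentralElt_orbitIdem [Finite G] (N : Subgroup G) [Fintype N]
    (hN : ∀ g : G, g ∈ Subgroup.normalizer (N : Set G)) (θ : IrrCharacter N) :
    IsCentralElt (orbitIdem N hN θ) := by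
  classical
  rw [isCentralElt_iff]
  intro g x
  have key : ∀ y : G, (orbitIdem N hN θ).coeff y = subgroupBlockCoeff N (orbitSet N hN θ) y := by
    intro y
    unfold orbitIdem subgroupBlockCoeff
    rw [coeff_inclAlg]
    by_cases hy : y ∈ N
    · rw [dif_pos hy, dif_pos hy, coeff_blockIdem]
    · rw [dif_neg hy, dif_neg hy]
  rw [key, key]
  exact subgroupBlockCoeff_conj_of_eq N x (hN x) _ (conjSet_orbitSet N hN θ x) g

theorem localCoeff_orbitIdem {p : ℕ} {M : Ideal AlgInt} (hM : IsPModular p M)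
    (N : Subgroup G) [Fintype N] (hcop : (Nat.card N).Coprime p)
    (hN : ∀ g : G, g ∈ Subgroup.normalizer (N : Set G)) (θ : IrrCharacter N) :
    LocalCoeff M (orbitIdem N hN θ) := by
  classical
  have hMp := isPrime_of_isPModular hM
  unfold orbitIdem
  apply localCoeff_inclAlg hMp
  intro n
  rw [coeff_blockIdem, Cfsg.Agent.Lib.helper81.blockCoeff_eq_sum]
  apply memLocalRing_mul hMp (memLocalRing_inv_natCast hM hcop)
  apply memLocalRing_sum hMp
  intro θ' _
  split_ifs
  · have h1 : IsIntegral ℤ ((θ' : N → ℂ) 1) := irr_isIntegral θ' 1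
    have h2 : IsIntegral ℤ (conj ((θ' : N → ℂ) n)) := by
      rw [← irr_inv]
      exact irr_isIntegral θ' n⁻¹
    exact memLocalRing_mul hMp (memLocalRing_of_algInt hMp ⟨_, h1⟩)
      (memLocalRing_of_algInt hMp ⟨_, h2⟩)
  · exact memLocalRing_zero hMp

open scoped Classical in
/-- The central character of `χ` at the orbit idempotent. -/
theorem omega_orbitIdem [Fintype G] (N : Subgroup G) [Fintype N]
    (hN : ∀ g : G, g ∈ Subgroup.normalizer (N : Set G)) (θ : IrrCharacter N)
    (χ : IrrCharacter G) :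
    omega (χ : G → ℂ) (orbitIdem N hN θ)
      = classInner (fun n : N => (χ : G → ℂ) n) (θ : N → ℂ)
        * (∑ θ' : IrrCharacter N, if θ' ∈ orbitSet N hN θ then (θ : N → ℂ) 1 else 0)
        / (χ : G → ℂ) 1 := by
  unfold orbitIdem
  rw [omega_inclAlg]
  congr 1
  simp_rw [coeff_blockIdem, Cfsg.Agent.Lib.helper81.blockCoeff_eq_sum]
  have h1 : ∀ n : N, ((Nat.card N : ℂ)⁻¹ * ∑ θ' : IrrCharacter N,
        if θ' ∈ orbitSet N hN θ then (θ' : N → ℂ) 1 * conj ((θ' : N → ℂ) n) else 0)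
        * (χ : G → ℂ) n
      = ∑ θ' : IrrCharacter N, if θ' ∈ orbitSet N hN θ
          then (θ' : N → ℂ) 1 * ((Nat.card N : ℂ)⁻¹ * ((χ : G → ℂ) n * conj ((θ' : N → ℂ) n)))
          else 0 := by
    intro n
    rw [Finset.mul_sum, Finset.sum_mul]
    apply Finset.sum_congr rfl
    intro θ' _
    split_ifs
    · ring
    · simp
  simp_rw [h1]
  rw [Finset.sum_comm, Finset.mul_sum]
  apply Finset.sum_congr rfl
  intro θ' _
  by_cases hθ' : θ' ∈ orbitSet N hN θ
  · simp_rw [if_pos hθ']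
    rw [← Finset.mul_sum, ← Finset.mul_sum, one_of_mem_orbitSet N hN θ θ' hθ',
      ← classInner_of_mem_orbitSet N hN θ θ' hθ' χ]
    unfold classInner
    ring
  · simp_rw [if_neg hθ']
    simp

theorem result {G : Type*} [Group G] [Finite G] (p : ℕ) [Fact p.Prime] (M : Ideal Cfsg.AlgInt) (hM : Cfsg.IsPModular p M) [Fintype G] (χ ψ : Cfsg.IrrCharacter G) (h : Cfsg.SameBlock M (χ : G → ℂ) (ψ : G → ℂ)) (θ : Cfsg.IrrCharacter (Cfsg.pPrimeCore p G)) [Fintype (Cfsg.pPrimeCore p G)] : Cfsg.classInner (fun n : Cfsg.pPrimeCore p G => (χ : G → ℂ) n) (θ : Cfsg.pPrimeCore p G → ℂ) ≠ 0 ↔ Cfsg.classInner (fun n : Cfsg.pPrimeCore p G => (ψ : G → ℂ) n) (θ : Cfsg.pPrimeCore p G → ℂ) ≠ 0 := by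
  classical
  have hMp := isPrime_of_isPModular hM
  have hNn : (Cfsg.pPrimeCore p G).Normal := Cfsg.Agent.Lib.helper40.pPrimeCore_normal' p G
  have hcop := Cfsg.Agent.Lib.helper40.pPrimeCore_card_coprime p G
  have hN : ∀ g : G, g ∈ Subgroup.normalizer ((Cfsg.pPrimeCore p G : Subgroup G) : Set G) := by
    intro g
    rw [Subgroup.normalizer_eq_top]
    exact Subgroup.mem_top g
  set e := orbitIdem (Cfsg.pPrimeCore p G) hN θ with he
  have hcen : IsCentralElt e := isCentralElt_orbitIdem _ hN θ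
  have hloc : LocalCoeff M e := localCoeff_orbitIdem hM _ hcop hN θ
  have hidem : e * e = e := orbitIdem_mul_self _ hN θ
  -- the sum of degrees over the orbit is nonzero
  have hS : (∑ θ' : IrrCharacter (Cfsg.pPrimeCore p G),
      if θ' ∈ orbitSet (Cfsg.pPrimeCore p G) hN θ then (θ : Cfsg.pPrimeCore p G → ℂ) 1 else 0)
      ≠ 0 := by
    rw [← Finset.sum_filter, Finset.sum_const, nsmul_eq_mul]
    apply mul_ne_zero
    · have : (Finset.univ.filter (fun θ' : IrrCharacter (Cfsg.pPrimeCore p G) =>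
          θ' ∈ orbitSet (Cfsg.pPrimeCore p G) hN θ)).Nonempty :=
        ⟨θ, by simp [mem_orbitSet_self]⟩
      exact_mod_cast this.card_pos.ne'
    · exact irr_one_ne_zero θ
  -- omega is 0 or 1
  have h01 : ∀ φ : IrrCharacter G, omega (φ : G → ℂ) e = 0 ∨ omega (φ : G → ℂ) e = 1 := by
    intro φ
    have h1 := omega_mul (φ : G → ℂ) φ.2 e e hcen
    rw [hidem] at h1
    have h2 : omega (φ : G → ℂ) e * (omega (φ : G → ℂ) e - 1) = 0 := by
      rw [mul_sub, mul_one, ← h1, sub_self]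
    rcases mul_eq_zero.mp h2 with h3 | h3
    · exact Or.inl h3
    · exact Or.inr (sub_eq_zero.mp h3)
  have hiff : ∀ φ : IrrCharacter G,
      Cfsg.classInner (fun n : Cfsg.pPrimeCore p G => (φ : G → ℂ) n)
        (θ : Cfsg.pPrimeCore p G → ℂ) ≠ 0 ↔ omega (φ : G → ℂ) e = 1 := by
    intro φ
    have hom := omega_orbitIdem (Cfsg.pPrimeCore p G) hN θ φ
    rw [← he] at hom
    constructor
    · intro hne
      rcases h01 φ with h0 | h1
      · exfalso
        rw [h0] at hom
        have := hom.symm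
        rw [div_eq_zero_iff] at this
        rcases this with h3 | h3
        · rcases mul_eq_zero.mp h3 with h4 | h4
          · exact hne h4
          · exact hS h4
        · exact irr_one_ne_zero φ h3
      · exact h1
    · intro h1 h0
      rw [h1, h0, zero_mul, zero_div] at hom
      exact one_ne_zero hom
  rw [hiff χ, hiff ψ]
  have hsub := memLocalIdeal_omega_sub hMp (χ : G → ℂ) (ψ : G → ℂ)
    (fun x y hxy => isIrrCharacter_conj χ.2 x y hxy)
    (fun x y hxy => isIrrCharacter_conj ψ.2 x y hxy) h e hcen hloc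
  constructor
  · intro h1
    rcases h01 ψ with h0 | h2
    · rw [h1, h0, sub_zero] at hsub
      exact absurd hsub not_memLocalIdeal_one
    · exact h2
  · intro h1
    rcases h01 χ with h0 | h2
    · rw [h1, h0, zero_sub] at hsub
      have := memLocalIdeal_neg hsub
      rw [neg_neg] at this
      exact absurd this not_memLocalIdeal_one
    · exact h2

end Cfsg.Agent.S0921
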