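import Mathlib
import Cfsg.Statements.S0915
import Cfsg.Agent.Lib.helper38.HallHigman
import Cfsg.Agent.Lib.helper78.BlockNormalP
import Cfsg.Agent.Lib.helper55.Basic

set_option autoImplicit false
open Cfsg

namespace Cfsg.Agent.S0915

theorem result {G : Type*} [Group G] [Finite G] (p : ℕ) [Fact p.Prime] (M : Ideal Cfsg.AlgInt) (hM : Cfsg.IsPModular p M) (hsolv : Cfsg.IsPSolvable p G) (hcore : Cfsg.pPrimeCore p G = ⊥) (χ ψ : Cfsg.IrrCharacter G) : Cfsg.SameBlock M (χ : G → ℂ) (ψ : G → ℂ) := by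
  have := Fintype.ofFinite G
  haveI : (Cfsg.pCore p G).Normal := Cfsg.Agent.Lib.helper55.pCore_normal' p G
  exact Cfsg.Agent.Lib.helper78.sameBlock_of_centralizer_le hM (Cfsg.pCore p G)
    (Cfsg.Agent.Lib.helper55.pCore_isPGroup p G)
    (Cfsg.Agent.Lib.helper38.centralizer_pCore_le_of_isPSolvable hsolv hcore)
    (χ : G → ℂ) (ψ : G → ℂ) χ.2 ψ.2

end Cfsg.Agent.S0915
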