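import Cfsg.Statements.S3736
import Mathlib
import Cfsg.Agent.Lib.helper1.Coprime
import Cfsg.Agent.Lib.helper3.Class2
import Cfsg.Agent.Lib.helper3.PGroupFrattini
import Cfsg.Agent.Lib.helper3.PGroupNormal
-- import your own Cfsg.Agent.* helpers here

set_option autoImplicit false
open Cfsg

namespace Cfsg.Agent.S3736

open Cfsg.Agent.Lib.helper1 Cfsg.Agent.Lib.helper3
open scoped commutatorElement Pointwise

section
variable {X : Type*} [Group X]

/-- a hom from `P` killing all commutators `⁅x, a⁆` is trivial when `⁅P, A⁆ = P` -/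
theorem hom_trivial_of_commutator {C : Type*} [Group C] (P A : Subgroup X) (hPA : ⁅P, A⁆ = P)
    (f : P →* C) (hf : ∀ x ∈ P, ∀ a ∈ A, ∀ h : ⁅x, a⁆ ∈ P, f ⟨⁅x, a⁆, h⟩ = 1) :
    ∀ y : P, f y = 1 := by
  have key : ∀ z : X, z ∈ ⁅P, A⁆ → ∀ h : z ∈ P, f ⟨z, h⟩ = 1 := by
    intro z hz
    rw [Subgroup.commutator_def] at hz
    induction hz using Subgroup.closure_induction with
    | mem z hz =>
      obtain ⟨x, hx, a, ha, rfl⟩ := hz
      intro h
      exact hf x hx a ha h
    | one =>
      intro h
      exact f.map_one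
    | mul z w hz hw ihz ihw =>
      intro h
      have hzP : z ∈ P := by
        rw [← hPA, Subgroup.commutator_def]
        exact hz
      have hwP : w ∈ P := by
        rw [← hPA, Subgroup.commutator_def]
        exact hw
      have e : (⟨z * w, h⟩ : P) = ⟨z, hzP⟩ * ⟨w, hwP⟩ := rfl
      rw [e, map_mul, ihz hzP, ihw hwP, one_mul]
    | inv z hz ihz =>
      intro h
      have hzP : z ∈ P := by
        rw [← hPA, Subgroup.commutator_def]
        exact hz
      have e : (⟨z⁻¹, h⟩ : P) = (⟨z, hzP⟩ : P)⁻¹ := rfl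
      rw [e, map_inv, ihz hzP, inv_one]
  intro y
  exact key y (by rw [hPA]; exact y.2) y.2

theorem comm_eq_mul_conj (P : Subgroup X) (a : X) (ha : a ∈ Subgroup.normalizer (P : Set X))
    (x : X) (hx : x ∈ P) (h : ⁅x, a⁆ ∈ P) :
    (⟨⁅x, a⁆, h⟩ : P) = ⟨x, hx⟩ * conjEquivOfMemNormalizer P a ha (⟨x, hx⟩⁻¹) := by
  apply Subtype.ext
  have h1 : ((⟨x, hx⟩ * conjEquivOfMemNormalizer P a ha (⟨x, hx⟩⁻¹) : P) : X) = x * (a * x⁻¹ * a⁻¹) := by
    rw [Subgroup.coe_mul, coe_conjEquivOfMemNormalizer]
    rfl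
  rw [h1]
  show ⁅x, a⁆ = x * (a * x⁻¹ * a⁻¹)
  rw [commutatorElement_def]
  group

theorem fixed_le_frattini [Finite X] {p : ℕ} [Fact p.Prime] (P A : Subgroup X) (hP : IsPGroup p P)
    (hAP : A ≤ Subgroup.normalizer (P : Set X)) (hAp : (Nat.card A).Coprime p) (hPA : ⁅P, A⁆ = P)
    (u : P) (hu : ∀ a ∈ A, a * (u : X) = (u : X) * a) : u ∈ frattini P := by
  classical
  rw [mem_frattini_iff]
  intro M hM
  obtain ⟨hMn, hMi⟩ := coatom_normal_index hP hM
  have hcard : Nat.card (P ⧸ M) = p := hMi
  have hcard2 : Nat.card (Multiplicative (ZMod p)) = p := by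
    rw [Nat.card_eq_fintype_card, Fintype.card_multiplicative, ZMod.card]
  let e : (P ⧸ M) ≃* Multiplicative (ZMod p) := mulEquivOfPrimeCardEq hcard hcard2
  let ψ : P →* Multiplicative (ZMod p) := e.toMonoidHom.comp (QuotientGroup.mk' M)
  have : Fintype A := Fintype.ofFinite A
  let N : P →* Multiplicative (ZMod p) :=
    ∏ a : A, ψ.comp (conjEquivOfMemNormalizer P (a : X) (hAP a.2)).toMonoidHom
  have hN : ∀ x : P, N x = ∏ a : A, ψ (conjEquivOfMemNormalizer P (a : X) (hAP a.2) x) := by
    intro x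
    simp only [N, MonoidHom.finsetProd_apply]
    rfl
  have hNinv : ∀ (b : A) (x : P), N (conjEquivOfMemNormalizer P (b : X) (hAP b.2) x) = N x := by
    intro b x
    rw [hN, hN]
    rw [← Equiv.prod_comp (Equiv.mulRight b)
      (fun a : A => ψ (conjEquivOfMemNormalizer P (a : X) (hAP a.2) x))]
    apply Finset.prod_congr rfl
    intro a _
    congr 1
    apply Subtype.ext
    simp only [coe_conjEquivOfMemNormalizer, Equiv.coe_mulRight, Subgroup.coe_mul]
    group
  have hNtriv : ∀ y : P, N y = 1 := by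
    apply hom_trivial_of_commutator P A hPA N
    intro x hx a ha h
    rw [comm_eq_mul_conj P a (hAP ha) x hx h, map_mul, hNinv ⟨a, ha⟩, map_inv, mul_inv_cancel]
  have hNu : N u = ψ u ^ Nat.card A := by
    rw [hN]
    have hfixu : ∀ a : A, ψ (conjEquivOfMemNormalizer P (a : X) (hAP a.2) u) = ψ u := by
      intro a
      congr 1
      apply Subtype.ext
      rw [coe_conjEquivOfMemNormalizer, hu a a.2]
      group
    rw [Finset.prod_congr rfl (fun a _ => hfixu a), Finset.prod_const, Finset.card_univ,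
      Nat.card_eq_fintype_card]
  have h1 : ψ u ^ Nat.card A = 1 := by rw [← hNu, hNtriv]
  have h2 : ψ u ^ p = 1 := by
    have := pow_card_eq_one' (G := Multiplicative (ZMod p)) (x := ψ u)
    rwa [hcard2] at this
  have h3 : ψ u = 1 := by
    have hd1 := orderOf_dvd_of_pow_eq_one h1
    have hd2 := orderOf_dvd_of_pow_eq_one h2
    exact orderOf_eq_one_iff.mp (Nat.eq_one_of_dvd_coprimes hAp hd1 hd2)
  have h4 : (QuotientGroup.mk' M) u = 1 := by
    have : e ((QuotientGroup.mk' M) u) = 1 := h3
    exact (MulEquiv.map_eq_one_iff e).mp this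
  rwa [QuotientGroup.mk'_apply, QuotientGroup.eq_one_iff] at h4

end

/-- The Hall–Higman reduction for a minimal non-trivial action. Let B, A and P be subgroups of a finite group with P a p-group, B normalizing P, and A a normal subgroup of B of order prime to p. Suppose A does not centralize P but centralizes every proper B-invariant subgroup of P. Then [P, A] = P; P is elementary abelian or special; B acts irreducibly on P/Φ(P), that is, the only B-invariant subgroups of P containing Φ(P) are Φ(P) and P; and if p is odd then every element of P has order dividing p. -/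
theorem result {X : Type*} [Group X] [Finite X] {p : ℕ} [Fact p.Prime] (B A P : Subgroup X) (hP : IsPGroup p P) (hBP : B ≤ Subgroup.normalizer (P : Set X)) (hAB : A ≤ B) (hAn : B ≤ Subgroup.normalizer (A : Set X)) (hAp : (Nat.card A).Coprime p) (hnt : ⁅P, A⁆ ≠ ⊥) (hmin : ∀ U : Subgroup X, U < P → B ≤ Subgroup.normalizer (U : Set X) → ⁅U, A⁆ = ⊥) : ⁅P, A⁆ = P ∧ (Cfsg.IsElementaryAbelian p P ∨ Cfsg.IsSpecial p ↥P) ∧ (∀ U : Subgroup X, (frattini ↥P).map P.subtype ≤ U → U ≤ P → B ≤ Subgroup.normalizer (U : Set X) → U = (frattini ↥P).map P.subtype ∨ U = P) ∧ (p ≠ 2 → ∀ x ∈ P, x ^ p = 1) := by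
  classical
  have hpp : p.Prime := Fact.out
  have hAP : A ≤ Subgroup.normalizer (P : Set X) := hAB.trans hBP
  obtain ⟨n, hn⟩ := IsPGroup.iff_card.mp hP
  have hcop : (Nat.card A).Coprime (Nat.card P) := by
    rw [hn]
    exact Nat.Coprime.pow_right n hAp
  have hsolvP : Group.IsSolvable P := by
    have : Group.IsNilpotent P := hP.isNilpotent
    infer_instance
  have hle : ⁅P, A⁆ ≤ P := commutator_le_of_le_normalizer hAP
  have hBcomm : B ≤ Subgroup.normalizer ((⁅P, A⁆ : Subgroup X) : Set X) := by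
    intro b hb
    apply mem_normalizer_of_conj_smul_eq
    have h1 : MulAut.conj b • P = P := conj_smul_eq_of_mem_normalizer (hBP hb)
    have h2 : MulAut.conj b • A = A := conj_smul_eq_of_mem_normalizer (hAn hb)
    have h3 := Subgroup.map_commutator P A (MulAut.conj b).toMonoidHom
    calc MulAut.conj b • ⁅P, A⁆ = ⁅MulAut.conj b • P, MulAut.conj b • A⁆ := h3
      _ = ⁅P, A⁆ := by rw [h1, h2]
  have hPA : ⁅P, A⁆ = P := by
    by_contra hne
    have hlt : ⁅P, A⁆ < P := lt_of_le_of_ne hle hne
    have h1 := hmin _ hlt hBcomm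
    rw [commutator_commutator_eq A P hAP hcop (Or.inr hsolvP)] at h1
    exact hnt h1
  have hP0 : P ≠ ⊥ := by
    rintro rfl
    apply hnt
    rw [eq_bot_iff]
    exact hle
  have KL : ∀ D : Subgroup X, D < P → B ≤ Subgroup.normalizer (D : Set X) →
      P ≤ Subgroup.normalizer (D : Set X) → ⁅P, D⁆ = ⊥ := by
    intro D hD hBD hPD
    have hDA : ⁅D, A⁆ = ⊥ := hmin D hD hBD
    have h1 : ⁅⁅A, D⁆, P⁆ = ⊥ := by
      rw [Subgroup.commutator_comm A D, hDA]
      exact Subgroup.commutator_bot_left P
    have h2 : ⁅⁅D, P⁆, A⁆ = ⊥ := by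
      have h3 : ⁅D, P⁆ ≤ D := commutator_le_of_le_normalizer hPD
      rw [eq_bot_iff, ← hDA]
      exact Subgroup.commutator_mono h3 le_rfl
    have h4 := Subgroup.commutator_commutator_eq_bot_of_rotate h1 h2
    rwa [hPA] at h4
  set Φ : Subgroup X := (frattini ↥P).map P.subtype with hΦ
  have hΦP : Φ ≤ P := Subgroup.map_subtype_le _
  have hBΦ : B ≤ Subgroup.normalizer (Φ : Set X) :=
    hBP.trans (normalizer_le_normalizer_map_of_characteristic P (frattini ↥P))
  have hPΦ : P ≤ Subgroup.normalizer (Φ : Set X) :=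
    Subgroup.le_normalizer.trans (normalizer_le_normalizer_map_of_characteristic P (frattini ↥P))
  have hΦne : Φ ≠ P := by
    intro h
    have hnt' : Nontrivial P := (Subgroup.nontrivial_iff_ne_bot P).mpr hP0
    rcases IsCoatomic.eq_top_or_exists_le_coatom (⊥ : Subgroup P) with h1 | ⟨M, hM, -⟩
    · exact bot_ne_top h1
    · have h2 : frattini ↥P ≤ M := frattini_le_coatom hM
      have h3 : frattini ↥P = ⊤ := by
        rw [eq_top_iff]
        intro x _
        have hx : (x : X) ∈ Φ := by
          rw [h]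
          exact x.2
        obtain ⟨y, hy, hyx⟩ := hx
        have : y = x := Subtype.ext hyx
        rwa [← this]
      rw [h3] at h2
      exact hM.1 (top_le_iff.mp h2)
  have hΦlt : Φ < P := lt_of_le_of_ne hΦP hΦne
  have hΦA : ⁅Φ, A⁆ = ⊥ := hmin Φ hΦlt hBΦ
  have hΦcent : ⁅P, Φ⁆ = ⊥ := KL Φ hΦlt hBΦ hPΦ
  have hfix : ∀ U : Subgroup X, U ≤ P → ⁅U, A⁆ = ⊥ → U ≤ Φ := by
    intro U hUP hUA x hx
    have hxc : ∀ a ∈ A, a * x = x * a := by
      intro a ha
      have : ⁅x, a⁆ ∈ ⁅U, A⁆ := Subgroup.commutator_mem_commutator hx ha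
      rw [hUA, Subgroup.mem_bot] at this
      exact (commutatorElement_eq_one_iff_mul_comm.mp this).symm
    have := fixed_le_frattini P A hP hAP hAp hPA ⟨x, hUP hx⟩ hxc
    exact ⟨⟨x, hUP hx⟩, this, rfl⟩
  have h3 : ∀ U : Subgroup X, Φ ≤ U → U ≤ P → B ≤ Subgroup.normalizer (U : Set X) →
      U = Φ ∨ U = P := by
    intro U hΦU hUP hBU
    by_cases hU : U = P
    · exact Or.inr hU
    · left
      exact le_antisymm (hfix U hUP (hmin U (lt_of_le_of_ne hUP hU) hBU)) hΦU
  have hAcentΦ : ∀ a ∈ A, ∀ z ∈ Φ, a * z * a⁻¹ = z := by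
    intro a ha z hz
    have : ⁅z, a⁆ ∈ ⁅Φ, A⁆ := Subgroup.commutator_mem_commutator hz ha
    rw [hΦA, Subgroup.mem_bot] at this
    have h := commutatorElement_eq_one_iff_mul_comm.mp this
    rw [← h]
    group
  have hconjpow : ∀ (a : X) (ha : a ∈ A) (x : P),
      (conjEquivOfMemNormalizer P a (hAP ha) x⁻¹) ^ p = (x ^ p)⁻¹ := by
    intro a ha x
    rw [← map_pow, inv_pow]
    apply Subtype.ext
    rw [coe_conjEquivOfMemNormalizer]
    apply hAcentΦ a ha
    exact ⟨(x ^ p)⁻¹, Subgroup.inv_mem _ (pow_prime_mem_frattini hP x), rfl⟩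
  have hfinal : (Cfsg.IsElementaryAbelian p P ∨ Cfsg.IsSpecial p ↥P) ∧
      (p ≠ 2 → ∀ x ∈ P, x ^ p = 1) := by
    by_cases hab : ∀ x y : P, x * y = y * x
    · -- abelian case
      let μ : P →* P :=
        { toFun := fun x => x ^ p
          map_one' := one_pow p
          map_mul' := fun x y => (show Commute x y from hab x y).mul_pow p }
      have hμ : ∀ y : P, μ y = 1 := by
        apply hom_trivial_of_commutator P A hPA μ
        intro x hx a ha h
        rw [comm_eq_mul_conj P a (hAP ha) x hx h, map_mul]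
        show (⟨x, hx⟩ : P) ^ p * (conjEquivOfMemNormalizer P a (hAP ha) (⟨x, hx⟩⁻¹)) ^ p = 1
        rw [hconjpow a ha ⟨x, hx⟩, mul_inv_cancel]
      have hexp : ∀ x ∈ P, x ^ p = 1 := by
        intro x hx
        have := hμ ⟨x, hx⟩
        exact congrArg Subtype.val this
      exact ⟨Or.inl ⟨⟨⟨fun a b => hab a b⟩⟩, hexp⟩, fun _ => hexp⟩
    · -- nonabelian case
      set Z' : Subgroup X := (Subgroup.center ↥P).map P.subtype with hZ'
      have hZ'P : Z' ≤ P := Subgroup.map_subtype_le _
      have hBZ' : B ≤ Subgroup.normalizer (Z' : Set X) :=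
        hBP.trans (normalizer_le_normalizer_map_of_characteristic P (Subgroup.center ↥P))
      have hZ'ne : Z' ≠ P := by
        intro h
        apply hab
        intro x y
        have hx : (x : X) ∈ Z' := by
          rw [h]
          exact x.2
        obtain ⟨z, hz, hzx⟩ := hx
        have : z = x := Subtype.ext hzx
        rw [this] at hz
        exact (Subgroup.mem_center_iff.mp hz y).symm
      have hZ'Φ : Z' ≤ Φ := hfix Z' hZ'P (hmin Z' (lt_of_le_of_ne hZ'P hZ'ne) hBZ')
      have hZF : Subgroup.center ↥P ≤ frattini ↥P := by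
        intro x hx
        have hx' : (x : X) ∈ Φ := hZ'Φ ⟨x, hx, rfl⟩
        obtain ⟨y, hy, hyx⟩ := hx'
        have : y = x := Subtype.ext hyx
        rwa [← this]
      have hFZ' : frattini ↥P ≤ Subgroup.center ↥P := by
        intro x hx
        rw [Subgroup.mem_center_iff]
        intro y
        have h1 : ⁅(y : X), (x : X)⁆ ∈ ⁅P, Φ⁆ :=
          Subgroup.commutator_mem_commutator y.2 ⟨x, hx, rfl⟩
        rw [hΦcent, Subgroup.mem_bot] at h1
        apply Subtype.ext
        exact commutatorElement_eq_one_iff_mul_comm.mp h1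
      have hFZ : frattini ↥P = Subgroup.center ↥P := le_antisymm hFZ' hZF
      have hcomF : commutator ↥P ≤ frattini ↥P := commutator_le_frattini hP
      have hc : CommCentral ↥P := by
        intro x y z
        have h1 : ⁅x, y⁆ ∈ Subgroup.center ↥P := by
          rw [← hFZ]
          apply hcomF
          rw [commutator_def]
          exact Subgroup.commutator_mem_commutator (Subgroup.mem_top x) (Subgroup.mem_top y)
        exact (Subgroup.mem_center_iff.mp h1 z).symm
      let θ : P →* Abelianization P := (powMonoidHom p).comp Abelianization.of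
      have hθ : ∀ y : P, θ y = 1 := by
        apply hom_trivial_of_commutator P A hPA θ
        intro x hx a ha h
        rw [comm_eq_mul_conj P a (hAP ha) x hx h, map_mul]
        show (Abelianization.of (⟨x, hx⟩ : P)) ^ p *
          (Abelianization.of (conjEquivOfMemNormalizer P a (hAP ha) (⟨x, hx⟩⁻¹))) ^ p = 1
        rw [← map_pow, ← map_pow, hconjpow a ha ⟨x, hx⟩, map_inv, mul_inv_cancel]
      have hpowc : ∀ y : P, y ^ p ∈ commutator ↥P := by
        intro y
        have h1 : Abelianization.of (y ^ p) = 1 := by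
          rw [map_pow]
          exact hθ y
        rw [← Abelianization.ker_of]
        exact h1
      have hFc : frattini ↥P ≤ commutator ↥P :=
        frattini_le_of_pow_mem_of_commutator_le (commutator ↥P) hpowc le_rfl
      have hcomm : commutator ↥P = Subgroup.center ↥P := by
        rw [← hFZ]
        exact le_antisymm hcomF hFc
      refine ⟨Or.inr ⟨hP, hFZ, hcomm⟩, ?_⟩
      intro hp2
      have hcp : ∀ x y : P, ⁅y, x⁆ ^ p = 1 := by
        intro x y
        rw [← commutator_pow_left_class2 hc x y p]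
        have h1 : y ^ p ∈ Subgroup.center ↥P := by
          rw [← hFZ]
          exact pow_prime_mem_frattini hP y
        rw [commutatorElement_eq_one_iff_mul_comm]
        exact (Subgroup.mem_center_iff.mp h1 x).symm
      let μ : P →* P :=
        { toFun := fun x => x ^ p
          map_one' := one_pow p
          map_mul' := fun x y => mul_pow_prime_class2 hc hpp hp2 x y (hcp x y) }
      have hμ : ∀ y : P, μ y = 1 := by
        apply hom_trivial_of_commutator P A hPA μ
        intro x hx a ha h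
        rw [comm_eq_mul_conj P a (hAP ha) x hx h, map_mul]
        show (⟨x, hx⟩ : P) ^ p * (conjEquivOfMemNormalizer P a (hAP ha) (⟨x, hx⟩⁻¹)) ^ p = 1
        rw [hconjpow a ha ⟨x, hx⟩, mul_inv_cancel]
      intro x hx
      have := hμ ⟨x, hx⟩
      exact congrArg Subtype.val this
  exact ⟨hPA, hfinal.1, h3, hfinal.2⟩

end Cfsg.Agent.S3736
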