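import Mathlib
import Cfsg.Statements.S0200
import Cfsg.Agent.Lib.helper91.BaerSuzuki
import Cfsg.Agent.Lib.helper5.SylowAux

set_option autoImplicit false
open Cfsg

namespace Cfsg.Agent.S0200

/-- An involution lying in no normal 2-subgroup of a finite group inverts a nontrivial element of odd order (a consequence of the Baer–Suzuki Theorem). -/
theorem result {G : Type*} [Group G] [Finite G] (t : G) (ht : orderOf t = 2) (hO : ∀ N : Subgroup G, N.Normal → IsPGroup 2 N → t ∉ N) : ∃ h : G, h ≠ 1 ∧ Odd (orderOf h) ∧ t * h * t⁻¹ = h⁻¹ := by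
  classical
  have ht2 := Cfsg.Agent.Lib.helper5.mul_self_of_orderOf_two ht
  let X : Set G := {y | ∃ g : G, y = g * t * g⁻¹}
  have hconj : ∀ g : G, ∀ x ∈ X, g * x * g⁻¹ ∈ X := by
    rintro g _ ⟨k, rfl⟩
    exact ⟨g * k, by group⟩
  have hsq : ∀ x ∈ X, x * x = 1 := by
    rintro _ ⟨g, rfl⟩
    calc g * t * g⁻¹ * (g * t * g⁻¹) = g * (t * t) * g⁻¹ := by group
      _ = 1 := by rw [ht2]; group
  have hex : ∃ x ∈ X, ∃ y ∈ X, ¬ IsPGroup 2 (Subgroup.closure ({x, y} : Set G)) := by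
    by_contra hcon
    push Not at hcon
    have hp := Cfsg.Agent.Lib.helper91.baer_suzuki (p := 2) X hconj hcon
    exact hO _ (Cfsg.Agent.Lib.helper91.closure_normal_of_conj X hconj) hp
      (Subgroup.subset_closure ⟨1, by simp⟩)
  obtain ⟨x, ⟨g, hxg⟩, y, hy, hnp⟩ := hex
  have hx2 : x * x = 1 := hsq x ⟨g, hxg⟩
  have hy2 : y * y = 1 := hsq y hy
  have hpos : 0 < orderOf (x * y) := orderOf_pos _
  obtain ⟨a, m, hodd, hn⟩ := Nat.exists_eq_two_pow_mul_odd hpos.ne'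
  have hm1 : m ≠ 1 := by
    rintro rfl
    apply hnp
    apply Cfsg.Agent.Lib.helper5.isPGroup_closure_pair hx2 hy2 a
    rw [mul_one] at hn
    rw [← hn]
    exact pow_orderOf_eq_one _
  have hord : orderOf ((x * y) ^ (2 ^ a)) = m := by
    rw [orderOf_pow_of_dvd (by positivity) ⟨m, hn⟩, hn, Nat.mul_div_cancel_left _ (by positivity)]
  have hinv : x * (x * y) ^ (2 ^ a) * x⁻¹ = ((x * y) ^ (2 ^ a))⁻¹ := by
    have h1 := Cfsg.Agent.Lib.helper5.mul_zpow_comm x y hx2 hy2 ((2 ^ a : ℕ) : ℤ)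
    rw [zpow_neg, zpow_natCast] at h1
    rw [h1]; group
  refine ⟨g⁻¹ * (x * y) ^ (2 ^ a) * g, ?_, ?_, ?_⟩
  · intro h
    have h2 : (x * y) ^ (2 ^ a) = 1 := by
      have : (x * y) ^ (2 ^ a) = g * (g⁻¹ * (x * y) ^ (2 ^ a) * g) * g⁻¹ := by group
      rw [this, h]; group
    rw [h2, orderOf_one] at hord
    exact hm1 hord.symm
  · have h3 : orderOf (g⁻¹ * (x * y) ^ (2 ^ a) * g) = orderOf ((x * y) ^ (2 ^ a)) := by
      have := MulEquiv.orderOf_eq (MulAut.conj g⁻¹) ((x * y) ^ (2 ^ a))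
      simpa using this
    rw [h3, hord]; exact hodd
  · calc t * (g⁻¹ * (x * y) ^ (2 ^ a) * g) * t⁻¹
        = g⁻¹ * ((g * t * g⁻¹) * (x * y) ^ (2 ^ a) * (g * t * g⁻¹)⁻¹) * g := by group
      _ = g⁻¹ * ((x * y) ^ (2 ^ a))⁻¹ * g := by rw [← hxg, hinv]
      _ = (g⁻¹ * (x * y) ^ (2 ^ a) * g)⁻¹ := by group

end Cfsg.Agent.S0200
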