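import Cfsg.Statements.S0283
import Cfsg.Agent.Lib.helper99.USimple

set_option autoImplicit false
open Cfsg

namespace Cfsg.Agent.S0283

/-- PSU_n(q) is simple for n at least 3 and (n, q) other than (3, 2). -/
theorem result {F : Type*} [Field F] [Fintype F] {q : ℕ} (hF : Fintype.card F = q ^ 2) (n : ℕ) (hn : 3 ≤ n) (h : ¬ (n = 3 ∧ q = 2)) : IsSimpleGroup (Cfsg.PSU n F q) := by
  have hperf : commutator ↥(Cfsg.SU n F q) = ⊤ := Cfsg.Agent.Lib.helper99.su_perfect hF n hn h
  have hnt := Cfsg.Agent.Lib.helper99.su_nontrivial (q := q) hF n (by omega)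
  have hcne : Subgroup.center ↥(Cfsg.SU n F q) ≠ ⊤ := by
    intro hc
    have hbot : commutator ↥(Cfsg.SU n F q) = ⊥ := by
      rw [commutator_def, Subgroup.commutator_eq_bot_iff_le_centralizer]
      intro g _
      rw [Subgroup.coe_top, Subgroup.centralizer_univ, hc]
      exact Subgroup.mem_top g
    rw [hperf] at hbot
    obtain ⟨g, hg⟩ := hnt
    have : g ∈ (⊥ : Subgroup ↥(Cfsg.SU n F q)) := hbot ▸ Subgroup.mem_top g
    exact hg (Subgroup.mem_bot.1 this)
  refine @IsSimpleGroup.mk _ _ ?_ ?_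
  · obtain ⟨g, hg⟩ : ∃ g, g ∉ Subgroup.center ↥(Cfsg.SU n F q) := by
      by_contra hcon
      push Not at hcon
      exact hcne (eq_top_iff.2 (fun g _ => hcon g))
    refine ⟨⟨(QuotientGroup.mk g : Cfsg.PSU n F q), 1, ?_⟩⟩
    intro h1
    exact hg ((QuotientGroup.eq_one_iff g).1 h1)
  · intro H hH
    have hNn : (H.comap (QuotientGroup.mk' (Subgroup.center ↥(Cfsg.SU n F q)))).Normal :=
      hH.comap _
    by_cases hN : H.comap (QuotientGroup.mk' (Subgroup.center ↥(Cfsg.SU n F q))) ≤
        Subgroup.center ↥(Cfsg.SU n F q)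
    · left
      rw [eq_bot_iff]
      intro x hx
      obtain ⟨g, rfl⟩ := QuotientGroup.mk_surjective x
      have : g ∈ Subgroup.center ↥(Cfsg.SU n F q) := hN hx
      rw [Subgroup.mem_bot]
      exact (QuotientGroup.eq_one_iff g).2 this
    · right
      have htop := Cfsg.Agent.Lib.helper99.su_normal hF n hn h _ hN
      rw [eq_top_iff]
      intro x _
      obtain ⟨g, rfl⟩ := QuotientGroup.mk_surjective x
      have : g ∈ H.comap (QuotientGroup.mk' (Subgroup.center ↥(Cfsg.SU n F q))) := by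
        rw [htop]
        exact Subgroup.mem_top g
      exact this

end Cfsg.Agent.S0283
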