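import Cfsg.Statements.S0801
import Cfsg.Agent.Lib.helper18.F9Group

set_option autoImplicit false
open Cfsg

namespace Cfsg.Agent.S0801

/-- Let F be a finite field of odd characteristic and λ ≠ 0 an element generating F as a field. Then the lower and upper unitriangular matrices with off-diagonal entries 1 and λ generate SL_2(F), unless |F| = 9 and λ² = −1, in which case they generate a subgroup of order 120. -/
theorem result {F : Type*} [Field F] [Fintype F] (h2 : (2 : F) ≠ 0) (lam : F) (hlam : lam ≠ 0) (hgen : Subfield.closure ({lam} : Set F) = ⊤) : (Subgroup.closure {g : Matrix.SpecialLinearGroup (Fin 2) F | (g : Matrix (Fin 2) (Fin 2) F) = !![1, 0; 1, 1] ∨ (g : Matrix (Fin 2) (Fin 2) F) = !![1, lam; 0, 1]} = ⊤ ∧ ¬ (Fintype.card F = 9 ∧ lam ^ 2 = -1)) ∨ (Fintype.card F = 9 ∧ lam ^ 2 = -1 ∧ Nat.card ↥(Subgroup.closure {g : Matrix.SpecialLinearGroup (Fin 2) F | (g : Matrix (Fin 2) (Fin 2) F) = !![1, 0; 1, 1] ∨ (g : Matrix (Fin 2)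 (Fin 2) F) = !![1, lam; 0, 1]}) = 120) := by
  classical
  obtain ⟨p, hp⟩ := CharP.exists F
  haveI := hp
  haveI : Fact p.Prime := ⟨CharP.char_is_prime F p⟩
  have hp2 : p ≠ 2 := by
    rintro rfl
    exact h2 (by exact_mod_cast CharP.cast_eq_zero F 2)
  change (Subgroup.closure (Cfsg.Agent.Lib.helper18.f9gens lam) = ⊤ ∧ _) ∨
    (_ ∧ _ ∧ Nat.card ↥(Subgroup.closure (Cfsg.Agent.Lib.helper18.f9gens lam)) = 120)
  by_cases hex : Fintype.card F = 9 ∧ lam ^ 2 = -1
  · right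
    have hp3 : p = 3 := by
      obtain ⟨n, hpr, hcard⟩ := FiniteField.card F p
      rw [hex.1] at hcard
      have h9 : p ∣ 9 := by rw [hcard]; exact dvd_pow_self p n.ne_zero
      have h3 : p ∣ 3 := by
        have h9' : (9 : ℕ) = 3 ^ 2 := by norm_num
        rw [h9'] at h9
        exact hpr.dvd_of_dvd_pow h9
      exact (Nat.prime_dvd_prime_iff_eq hpr Nat.prime_three).mp h3
    subst hp3
    exact ⟨hex.1, hex.2, Cfsg.Agent.Lib.helper18.f9_closure_card lam hex.2⟩
  · left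
    refine ⟨?_, hex⟩
    obtain ⟨L, hL⟩ : ∃ L : Subgroup (Matrix.SpecialLinearGroup (Fin 2) F),
      L = Subgroup.closure (Cfsg.Agent.Lib.helper18.f9gens lam) := ⟨_, rfl⟩
    rw [← hL]
    obtain ⟨w, hw⟩ : ∃ w : Matrix.SpecialLinearGroup (Fin 2) F,
      w = Cfsg.Agent.Lib.helper46.mkSL 0 1 (-1) 0 (by ring) := ⟨_, rfl⟩
    obtain ⟨L', hL'⟩ : ∃ L' : Subgroup (Matrix.SpecialLinearGroup (Fin 2) F),
      L' = L.map (MulAut.conj w).toMonoidHom := ⟨_, rfl⟩
    have hA : Cfsg.Agent.Lib.helper46.dkY (1 : F) ∈ L := by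
      rw [hL]
      exact Subgroup.subset_closure (Or.inl (Cfsg.Agent.Lib.helper46.dkY_coe 1))
    have hB : Cfsg.Agent.Lib.helper46.dkX lam ∈ L := by
      rw [hL]
      exact Subgroup.subset_closure (Or.inr (Cfsg.Agent.Lib.helper46.dkX_coe lam))
    have hx : Cfsg.Agent.Lib.helper46.dkX (1 : F) ∈ L' := by
      rw [hL']
      refine ⟨(Cfsg.Agent.Lib.helper46.dkY 1)⁻¹, L.inv_mem hA, ?_⟩
      rw [← Cfsg.Agent.Lib.helper46.dkY_neg]
      change w * Cfsg.Agent.Lib.helper46.dkY (-1) * w⁻¹ = Cfsg.Agent.Lib.helper46.dkX 1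
      rw [hw]
      apply Cfsg.Agent.Lib.helper46.sl_ext <;>
        simp [Matrix.SpecialLinearGroup.coe_mul, Cfsg.Agent.Lib.helper46.sl_inv_coe,
          Cfsg.Agent.Lib.helper46.dkX_coe, Cfsg.Agent.Lib.helper46.dkY_coe, Matrix.mul_apply,
          Fin.sum_univ_two]
    have hy : Cfsg.Agent.Lib.helper46.dkY lam ∈ L' := by
      rw [hL']
      refine ⟨(Cfsg.Agent.Lib.helper46.dkX lam)⁻¹, L.inv_mem hB, ?_⟩
      rw [← Cfsg.Agent.Lib.helper46.dkX_neg]
      change w * Cfsg.Agent.Lib.helper46.dkX (-lam) * w⁻¹ = Cfsg.Agent.Lib.helper46.dkY lam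
      rw [hw]
      apply Cfsg.Agent.Lib.helper46.sl_ext <;>
        simp [Matrix.SpecialLinearGroup.coe_mul, Cfsg.Agent.Lib.helper46.sl_inv_coe,
          Cfsg.Agent.Lib.helper46.dkX_coe, Cfsg.Agent.Lib.helper46.dkY_coe, Matrix.mul_apply,
          Fin.sum_univ_two]
    rcases Cfsg.Agent.Lib.helper46.dk_main p hp2 L' hx lam hlam hy with ⟨K', hlamK, hK⟩ | ⟨hp3, hl⟩
    · have hK' : K' = ⊤ := by
        apply top_le_iff.mp
        rw [← hgen]
        exact Subfield.closure_le.mpr (Set.singleton_subset_iff.mpr hlamK)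
      have hL'top : L' = ⊤ := by
        rw [eq_top_iff]
        intro g _
        exact Cfsg.Agent.Lib.helper46.sl_mem_of_entries L' K' hK g
          (fun i j => by rw [hK']; trivial)
      rw [eq_top_iff]
      intro g _
      have hmem : w * g * w⁻¹ ∈ L' := by rw [hL'top]; trivial
      rw [hL'] at hmem
      obtain ⟨h, hh, hhg⟩ := hmem
      have h5 : w * h * w⁻¹ = w * g * w⁻¹ := hhg
      have h6 : h = g := by
        have h7 : w⁻¹ * (w * h * w⁻¹) * w = w⁻¹ * (w * g * w⁻¹) * w := by rw [h5]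
        simpa [mul_assoc] using h7
      rw [← h6]
      exact hh
    · exfalso
      subst hp3
      exact hex ⟨Cfsg.Agent.Lib.helper18.card_eq_nine_of_sq_eq_neg_one lam hl hgen, hl⟩

end Cfsg.Agent.S0801
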