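import Cfsg.Statements.S3377

set_option autoImplicit false
open Cfsg

namespace Cfsg.Agent.S3377

/-- The relator set of the statement. -/
abbrev rels : Set (FreeGroup (Fin 2)) :=
  {FreeGroup.of (0 : Fin 2) ^ 3, FreeGroup.of (1 : Fin 2) ^ 5,
    (FreeGroup.of (0 : Fin 2) * FreeGroup.of 1) ^ 2}

/-- The presented group. -/
abbrev P : Type := PresentedGroup rels

/-- First generator. -/
def x : P := PresentedGroup.of 0
/-- Second generator. -/
def y : P := PresentedGroup.of 1

theorem x3 : x * x * x = 1 := by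
  have h : PresentedGroup.mk rels (FreeGroup.of (0 : Fin 2) ^ 3) = 1 :=
    PresentedGroup.one_of_mem (by simp [rels])
  rw [map_pow, pow_succ, pow_succ, pow_one] at h
  exact h

theorem y5 : y * y * y * y * y = 1 := by
  have h : PresentedGroup.mk rels (FreeGroup.of (1 : Fin 2) ^ 5) = 1 :=
    PresentedGroup.one_of_mem (by simp [rels])
  rw [map_pow, pow_succ, pow_succ, pow_succ, pow_succ, pow_one] at h
  exact h

theorem xy2 : x * y * x * y = 1 := by
  have h : PresentedGroup.mk rels ((FreeGroup.of (0 : Fin 2) * FreeGroup.of 1) ^ 2) = 1 :=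
    PresentedGroup.one_of_mem (by simp [rels])
  rw [map_pow, pow_succ, pow_one, map_mul, ← mul_assoc] at h
  exact h

theorem rx (p : P) : p * x * x * x = p := by
  have h := congrArg (fun t => p * t) x3
  simpa [mul_assoc] using h

theorem ry (p : P) : p * y * y * y * y * y = p := by
  have h := congrArg (fun t => p * t) y5
  simpa [mul_assoc] using h

theorem rxy (p : P) : p * x * y * x * y = p := by
  have h := congrArg (fun t => p * t) xy2
  simpa [mul_assoc] using h

/-- Coset representative 0. -/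
def w0 : P := 1
/-- Coset representative 1. -/
def w1 : P := w0 * x
/-- Coset representative 2. -/
def w2 : P := w0 * y
/-- Coset representative 3. -/
def w3 : P := w1 * x
/-- Coset representative 4. -/
def w4 : P := w1 * y
/-- Coset representative 5. -/
def w5 : P := w2 * x
/-- Coset representative 6. -/
def w6 : P := w2 * y
/-- Coset representative 7. -/
def w7 : P := w3 * y
/-- Coset representative 8. -/
def w8 : P := w4 * x
/-- Coset representative 9. -/
def w9 : P := w4 * y
/-- Coset representative 10. -/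
def w10 : P := w5 * x
/-- Coset representative 11. -/
def w11 : P := w6 * x
/-- Coset representative 12. -/
def w12 : P := w6 * y
/-- Coset representative 13. -/
def w13 : P := w7 * x
/-- Coset representative 14. -/
def w14 : P := w7 * y
/-- Coset representative 15. -/
def w15 : P := w8 * x
/-- Coset representative 16. -/
def w16 : P := w9 * x
/-- Coset representative 17. -/
def w17 : P := w9 * y
/-- Coset representative 18. -/
def w18 : P := w10 * y
/-- Coset representative 19. -/
def w19 : P := w11 * x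
/-- Coset representative 20. -/
def w20 : P := w12 * x
/-- Coset representative 21. -/
def w21 : P := w13 * x
/-- Coset representative 22. -/
def w22 : P := w14 * x
/-- Coset representative 23. -/
def w23 : P := w14 * y
/-- Coset representative 24. -/
def w24 : P := w15 * y
/-- Coset representative 25. -/
def w25 : P := w16 * x
/-- Coset representative 26. -/
def w26 : P := w17 * x
/-- Coset representative 27. -/
def w27 : P := w18 * y
/-- Coset representative 28. -/
def w28 : P := w19 * y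
/-- Coset representative 29. -/
def w29 : P := w21 * y
/-- Coset representative 30. -/
def w30 : P := w22 * x
/-- Coset representative 31. -/
def w31 : P := w23 * x
/-- Coset representative 32. -/
def w32 : P := w24 * y
/-- Coset representative 33. -/
def w33 : P := w25 * y
/-- Coset representative 34. -/
def w34 : P := w27 * x
/-- Coset representative 35. -/
def w35 : P := w27 * y
/-- Coset representative 36. -/
def w36 : P := w28 * y
/-- Coset representative 37. -/
def w37 : P := w29 * y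
/-- Coset representative 38. -/
def w38 : P := w30 * y
/-- Coset representative 39. -/
def w39 : P := w32 * x
/-- Coset representative 40. -/
def w40 : P := w32 * y
/-- Coset representative 41. -/
def w41 : P := w33 * y
/-- Coset representative 42. -/
def w42 : P := w34 * x
/-- Coset representative 43. -/
def w43 : P := w35 * x
/-- Coset representative 44. -/
def w44 : P := w36 * x
/-- Coset representative 45. -/
def w45 : P := w37 * x
/-- Coset representative 46. -/
def w46 : P := w37 * y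
/-- Coset representative 47. -/
def w47 : P := w38 * y
/-- Coset representative 48. -/
def w48 : P := w39 * x
/-- Coset representative 49. -/
def w49 : P := w40 * x
/-- Coset representative 50. -/
def w50 : P := w41 * x
/-- Coset representative 51. -/
def w51 : P := w42 * y
/-- Coset representative 52. -/
def w52 : P := w44 * x
/-- Coset representative 53. -/
def w53 : P := w45 * x
/-- Coset representative 54. -/
def w54 : P := w46 * x
/-- Coset representative 55. -/
def w55 : P := w47 * x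
/-- Coset representative 56. -/
def w56 : P := w50 * x
/-- Coset representative 57. -/
def w57 : P := w51 * y
/-- Coset representative 58. -/
def w58 : P := w52 * y
/-- Coset representative 59. -/
def w59 : P := w56 * y

theorem e_0_x : w0 * x = w1 := rfl
theorem e_0_y : w0 * y = w2 := rfl
theorem e_1_x : w1 * x = w3 := rfl
theorem e_1_y : w1 * y = w4 := rfl
theorem e_2_x : w2 * x = w5 := rfl
theorem e_2_y : w2 * y = w6 := rfl
theorem e_3_y : w3 * y = w7 := rfl
theorem e_4_x : w4 * x = w8 := rfl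
theorem e_4_y : w4 * y = w9 := rfl
theorem e_5_x : w5 * x = w10 := rfl
theorem e_6_x : w6 * x = w11 := rfl
theorem e_6_y : w6 * y = w12 := rfl
theorem e_7_x : w7 * x = w13 := rfl
theorem e_7_y : w7 * y = w14 := rfl
theorem e_8_x : w8 * x = w15 := rfl
theorem e_9_x : w9 * x = w16 := rfl
theorem e_9_y : w9 * y = w17 := rfl
theorem e_10_y : w10 * y = w18 := rfl
theorem e_11_x : w11 * x = w19 := rfl
theorem e_12_x : w12 * x = w20 := rfl
theorem e_13_x : w13 * x = w21 := rfl
theorem e_14_x : w14 * x = w22 := rfl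
theorem e_14_y : w14 * y = w23 := rfl
theorem e_15_y : w15 * y = w24 := rfl
theorem e_16_x : w16 * x = w25 := rfl
theorem e_17_x : w17 * x = w26 := rfl
theorem e_18_y : w18 * y = w27 := rfl
theorem e_19_y : w19 * y = w28 := rfl
theorem e_21_y : w21 * y = w29 := rfl
theorem e_22_x : w22 * x = w30 := rfl
theorem e_23_x : w23 * x = w31 := rfl
theorem e_24_y : w24 * y = w32 := rfl
theorem e_25_y : w25 * y = w33 := rfl
theorem e_27_x : w27 * x = w34 := rfl
theorem e_27_y : w27 * y = w35 := rfl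
theorem e_28_y : w28 * y = w36 := rfl
theorem e_29_y : w29 * y = w37 := rfl
theorem e_30_y : w30 * y = w38 := rfl
theorem e_32_x : w32 * x = w39 := rfl
theorem e_32_y : w32 * y = w40 := rfl
theorem e_33_y : w33 * y = w41 := rfl
theorem e_34_x : w34 * x = w42 := rfl
theorem e_35_x : w35 * x = w43 := rfl
theorem e_36_x : w36 * x = w44 := rfl
theorem e_37_x : w37 * x = w45 := rfl
theorem e_37_y : w37 * y = w46 := rfl
theorem e_38_y : w38 * y = w47 := rfl
theorem e_39_x : w39 * x = w48 := rfl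
theorem e_40_x : w40 * x = w49 := rfl
theorem e_41_x : w41 * x = w50 := rfl
theorem e_42_y : w42 * y = w51 := rfl
theorem e_44_x : w44 * x = w52 := rfl
theorem e_45_x : w45 * x = w53 := rfl
theorem e_46_x : w46 * x = w54 := rfl
theorem e_47_x : w47 * x = w55 := rfl
theorem e_50_x : w50 * x = w56 := rfl
theorem e_51_y : w51 * y = w57 := rfl
theorem e_52_y : w52 * y = w58 := rfl
theorem e_56_y : w56 * y = w59 := rfl

theorem e_3_x : w3 * x = w0 := by
  have R := rx w0
  rw [e_0_x, e_1_x] at R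
  exact R
theorem e_10_x : w10 * x = w2 := by
  have R := rx w2
  rw [e_2_x, e_5_x] at R
  exact R
theorem e_15_x : w15 * x = w4 := by
  have R := rx w4
  rw [e_4_x, e_8_x] at R
  exact R
theorem e_19_x : w19 * x = w6 := by
  have R := rx w6
  rw [e_6_x, e_11_x] at R
  exact R
theorem e_21_x : w21 * x = w7 := by
  have R := rx w7
  rw [e_7_x, e_13_x] at R
  exact R
theorem e_25_x : w25 * x = w9 := by
  have R := rx w9
  rw [e_9_x, e_16_x] at R
  exact R
theorem e_30_x : w30 * x = w14 := by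
  have R := rx w14
  rw [e_14_x, e_22_x] at R
  exact R
theorem e_42_x : w42 * x = w27 := by
  have R := rx w27
  rw [e_27_x, e_34_x] at R
  exact R
theorem e_48_x : w48 * x = w32 := by
  have R := rx w32
  rw [e_32_x, e_39_x] at R
  exact R
theorem e_52_x : w52 * x = w36 := by
  have R := rx w36
  rw [e_36_x, e_44_x] at R
  exact R
theorem e_53_x : w53 * x = w37 := by
  have R := rx w37
  rw [e_37_x, e_45_x] at R
  exact R
theorem e_56_x : w56 * x = w41 := by
  have R := rx w41
  rw [e_41_x, e_50_x] at R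
  exact R
theorem e_8_y : w8 * y = w0 := by
  have R := rxy w0
  rw [e_0_x, e_1_y, e_4_x] at R
  exact R
theorem e_13_y : w13 * y = w1 := by
  have R := rxy w1
  rw [e_1_x, e_3_y, e_7_x] at R
  exact R
theorem e_5_y : w5 * y = w3 := by
  have R := rxy w2
  rw [e_2_x] at R
  have B : w3 * x * y = w2 := by rw [e_3_x, e_0_y]
  exact mul_right_cancel (mul_right_cancel (R.trans B.symm))
theorem e_11_y : w11 * y = w10 := by
  have R := rxy w6
  rw [e_6_x] at R
  have B : w10 * x * y = w6 := by rw [e_10_x, e_2_y]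
  exact mul_right_cancel (mul_right_cancel (R.trans B.symm))
theorem e_16_y : w16 * y = w15 := by
  have R := rxy w9
  rw [e_9_x] at R
  have B : w15 * x * y = w9 := by rw [e_15_x, e_4_y]
  exact mul_right_cancel (mul_right_cancel (R.trans B.symm))
theorem e_20_y : w20 * y = w19 := by
  have R := rxy w12
  rw [e_12_x] at R
  have B : w19 * x * y = w12 := by rw [e_19_x, e_6_y]
  exact mul_right_cancel (mul_right_cancel (R.trans B.symm))
theorem e_22_y : w22 * y = w21 := by
  have R := rxy w14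
  rw [e_14_x] at R
  have B : w21 * x * y = w14 := by rw [e_21_x, e_7_y]
  exact mul_right_cancel (mul_right_cancel (R.trans B.symm))
theorem e_26_y : w26 * y = w25 := by
  have R := rxy w17
  rw [e_17_x] at R
  have B : w25 * x * y = w17 := by rw [e_25_x, e_9_y]
  exact mul_right_cancel (mul_right_cancel (R.trans B.symm))
theorem e_31_y : w31 * y = w30 := by
  have R := rxy w23
  rw [e_23_x] at R
  have B : w30 * x * y = w23 := by rw [e_30_x, e_14_y]
  exact mul_right_cancel (mul_right_cancel (R.trans B.symm))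
theorem e_43_y : w43 * y = w42 := by
  have R := rxy w35
  rw [e_35_x] at R
  have B : w42 * x * y = w35 := by rw [e_42_x, e_27_y]
  exact mul_right_cancel (mul_right_cancel (R.trans B.symm))
theorem e_49_y : w49 * y = w48 := by
  have R := rxy w40
  rw [e_40_x] at R
  have B : w48 * x * y = w40 := by rw [e_48_x, e_32_y]
  exact mul_right_cancel (mul_right_cancel (R.trans B.symm))
theorem e_54_y : w54 * y = w53 := by
  have R := rxy w46
  rw [e_46_x] at R
  have B : w53 * x * y = w46 := by rw [e_53_x, e_37_y]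
  exact mul_right_cancel (mul_right_cancel (R.trans B.symm))
theorem e_12_y : w12 * y = w8 := by
  have R := ry w0
  rw [e_0_y, e_2_y, e_6_y] at R
  have B : w8 * y = w0 := by rw [e_8_y]
  exact mul_right_cancel (R.trans B.symm)
theorem e_17_y : w17 * y = w13 := by
  have R := ry w1
  rw [e_1_y, e_4_y, e_9_y] at R
  have B : w13 * y = w1 := by rw [e_13_y]
  exact mul_right_cancel (R.trans B.symm)
theorem e_23_y : w23 * y = w5 := by
  have R := ry w3
  rw [e_3_y, e_7_y, e_14_y] at R
  have B : w5 * y = w3 := by rw [e_5_y]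
  exact mul_right_cancel (R.trans B.symm)
theorem e_35_y : w35 * y = w11 := by
  have R := ry w10
  rw [e_10_y, e_18_y, e_27_y] at R
  have B : w11 * y = w10 := by rw [e_11_y]
  exact mul_right_cancel (R.trans B.symm)
theorem e_40_y : w40 * y = w16 := by
  have R := ry w15
  rw [e_15_y, e_24_y, e_32_y] at R
  have B : w16 * y = w15 := by rw [e_16_y]
  exact mul_right_cancel (R.trans B.symm)
theorem e_46_y : w46 * y = w22 := by
  have R := ry w21
  rw [e_21_y, e_29_y, e_37_y] at R
  have B : w22 * y = w21 := by rw [e_22_y]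
  exact mul_right_cancel (R.trans B.symm)
theorem e_18_x : w18 * x = w23 := by
  have R := rxy w5
  rw [e_5_x, e_10_y] at R
  have B : w23 * y = w5 := by rw [e_23_y]
  exact mul_right_cancel (R.trans B.symm)
theorem e_24_x : w24 * x = w12 := by
  have R := rxy w8
  rw [e_8_x, e_15_y] at R
  have B : w12 * y = w8 := by rw [e_12_y]
  exact mul_right_cancel (R.trans B.symm)
theorem e_28_x : w28 * x = w35 := by
  have R := rxy w11
  rw [e_11_x, e_19_y] at R
  have B : w35 * y = w11 := by rw [e_35_y]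
  exact mul_right_cancel (R.trans B.symm)
theorem e_29_x : w29 * x = w17 := by
  have R := rxy w13
  rw [e_13_x, e_21_y] at R
  have B : w17 * y = w13 := by rw [e_17_y]
  exact mul_right_cancel (R.trans B.symm)
theorem e_33_x : w33 * x = w40 := by
  have R := rxy w16
  rw [e_16_x, e_25_y] at R
  have B : w40 * y = w16 := by rw [e_40_y]
  exact mul_right_cancel (R.trans B.symm)
theorem e_38_x : w38 * x = w46 := by
  have R := rxy w22
  rw [e_22_x, e_30_y] at R
  have B : w46 * y = w22 := by rw [e_46_y]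
  exact mul_right_cancel (R.trans B.symm)
theorem e_20_x : w20 * x = w24 := by
  have R := rx w12
  rw [e_12_x] at R
  have B : w24 * x = w12 := by rw [e_24_x]
  exact mul_right_cancel (R.trans B.symm)
theorem e_26_x : w26 * x = w29 := by
  have R := rx w17
  rw [e_17_x] at R
  have B : w29 * x = w17 := by rw [e_29_x]
  exact mul_right_cancel (R.trans B.symm)
theorem e_31_x : w31 * x = w18 := by
  have R := rx w18
  rw [e_18_x, e_23_x] at R
  exact R
theorem e_43_x : w43 * x = w28 := by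
  have R := rx w28
  rw [e_28_x, e_35_x] at R
  exact R
theorem e_49_x : w49 * x = w33 := by
  have R := rx w33
  rw [e_33_x, e_40_x] at R
  exact R
theorem e_54_x : w54 * x = w38 := by
  have R := rx w38
  rw [e_38_x, e_46_x] at R
  exact R
theorem e_39_y : w39 * y = w20 := by
  have R := rxy w20
  rw [e_20_x, e_24_y, e_32_x] at R
  exact R
theorem e_45_y : w45 * y = w26 := by
  have R := rxy w26
  rw [e_26_x, e_29_y, e_37_x] at R
  exact R
theorem e_34_y : w34 * y = w31 := by
  have R := rxy w27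
  rw [e_27_x] at R
  have B : w31 * x * y = w27 := by rw [e_31_x, e_18_y]
  exact mul_right_cancel (mul_right_cancel (R.trans B.symm))
theorem e_44_y : w44 * y = w43 := by
  have R := rxy w36
  rw [e_36_x] at R
  have B : w43 * x * y = w36 := by rw [e_43_x, e_28_y]
  exact mul_right_cancel (mul_right_cancel (R.trans B.symm))
theorem e_50_y : w50 * y = w49 := by
  have R := rxy w41
  rw [e_41_x] at R
  have B : w49 * x * y = w41 := by rw [e_49_x, e_33_y]
  exact mul_right_cancel (mul_right_cancel (R.trans B.symm))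
theorem e_55_y : w55 * y = w54 := by
  have R := rxy w47
  rw [e_47_x] at R
  have B : w54 * x * y = w47 := by rw [e_54_x, e_38_y]
  exact mul_right_cancel (mul_right_cancel (R.trans B.symm))
theorem e_36_y : w36 * y = w39 := by
  have R := ry w19
  rw [e_19_y, e_28_y] at R
  have B : w39 * y * y = w19 := by rw [e_39_y, e_20_y]
  exact mul_right_cancel (mul_right_cancel (R.trans B.symm))
theorem e_41_y : w41 * y = w45 := by
  have R := ry w25
  rw [e_25_y, e_33_y] at R
  have B : w45 * y * y = w25 := by rw [e_45_y, e_26_y]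
  exact mul_right_cancel (mul_right_cancel (R.trans B.symm))
theorem e_47_y : w47 * y = w34 := by
  have R := ry w30
  rw [e_30_y, e_38_y] at R
  have B : w34 * y * y = w30 := by rw [e_34_y, e_31_y]
  exact mul_right_cancel (mul_right_cancel (R.trans B.symm))
theorem e_57_y : w57 * y = w44 := by
  have R := ry w42
  rw [e_42_y, e_51_y] at R
  have B : w44 * y * y = w42 := by rw [e_44_y, e_43_y]
  exact mul_right_cancel (mul_right_cancel (R.trans B.symm))
theorem e_51_x : w51 * x = w47 := by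
  have R := rxy w34
  rw [e_34_x, e_42_y] at R
  have B : w47 * y = w34 := by rw [e_47_y]
  exact mul_right_cancel (R.trans B.symm)
theorem e_48_y : w48 * y = w52 := by
  have R := rxy w39
  rw [e_39_x] at R
  have B : w52 * x * y = w39 := by rw [e_52_x, e_36_y]
  exact mul_right_cancel (mul_right_cancel (R.trans B.symm))
theorem e_58_x : w58 * x = w57 := by
  have R := rxy w44
  rw [e_44_x, e_52_y] at R
  have B : w57 * y = w44 := by rw [e_57_y]
  exact mul_right_cancel (R.trans B.symm)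
theorem e_53_y : w53 * y = w56 := by
  have R := rxy w45
  rw [e_45_x] at R
  have B : w56 * x * y = w45 := by rw [e_56_x, e_41_y]
  exact mul_right_cancel (mul_right_cancel (R.trans B.symm))
theorem e_55_x : w55 * x = w51 := by
  have R := rx w47
  rw [e_47_x] at R
  have B : w51 * x = w47 := by rw [e_51_x]
  exact mul_right_cancel (R.trans B.symm)
theorem e_58_y : w58 * y = w50 := by
  have R := ry w48
  rw [e_48_y, e_52_y] at R
  have B : w50 * y * y = w48 := by rw [e_50_y, e_49_y]
  exact mul_right_cancel (mul_right_cancel (R.trans B.symm))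
theorem e_59_y : w59 * y = w55 := by
  have R := ry w53
  rw [e_53_y, e_56_y] at R
  have B : w55 * y * y = w53 := by rw [e_55_y, e_54_y]
  exact mul_right_cancel (mul_right_cancel (R.trans B.symm))
theorem e_59_x : w59 * x = w58 := by
  have R := rxy w50
  rw [e_50_x, e_56_y] at R
  have B : w58 * y = w50 := by rw [e_58_y]
  exact mul_right_cancel (R.trans B.symm)
theorem e_57_x : w57 * x = w59 := by
  have R := rxy w55
  rw [e_55_x, e_51_y] at R
  have B : w59 * y = w55 := by rw [e_59_y]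
  exact mul_right_cancel (R.trans B.symm)

/-- The list of coset representatives. -/
def wl : List P := [w0, w1, w2, w3, w4, w5, w6, w7, w8, w9, w10, w11, w12, w13, w14, w15, w16, w17, w18, w19, w20, w21, w22, w23, w24, w25, w26, w27, w28, w29, w30, w31, w32, w33, w34, w35, w36, w37, w38, w39, w40, w41, w42, w43, w44, w45, w46, w47, w48, w49, w50, w51, w52, w53, w54, w55, w56, w57, w58, w59]

/-- The indexed family of coset representatives. -/
def w (i : Fin 60) : P := wl.getD i.val 1

theorem cx (i : Fin 60) : ∃ j : Fin 60, w i * x = w j := by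
  fin_cases i
  · exact ⟨⟨1, by norm_num⟩, e_0_x⟩
  · exact ⟨⟨3, by norm_num⟩, e_1_x⟩
  · exact ⟨⟨5, by norm_num⟩, e_2_x⟩
  · exact ⟨⟨0, by norm_num⟩, e_3_x⟩
  · exact ⟨⟨8, by norm_num⟩, e_4_x⟩
  · exact ⟨⟨10, by norm_num⟩, e_5_x⟩
  · exact ⟨⟨11, by norm_num⟩, e_6_x⟩
  · exact ⟨⟨13, by norm_num⟩, e_7_x⟩
  · exact ⟨⟨15, by norm_num⟩, e_8_x⟩
  · exact ⟨⟨16, by norm_num⟩, e_9_x⟩
  · exact ⟨⟨2, by norm_num⟩, e_10_x⟩
  · exact ⟨⟨19, by norm_num⟩, e_11_x⟩
  · exact ⟨⟨20, by norm_num⟩, e_12_x⟩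
  · exact ⟨⟨21, by norm_num⟩, e_13_x⟩
  · exact ⟨⟨22, by norm_num⟩, e_14_x⟩
  · exact ⟨⟨4, by norm_num⟩, e_15_x⟩
  · exact ⟨⟨25, by norm_num⟩, e_16_x⟩
  · exact ⟨⟨26, by norm_num⟩, e_17_x⟩
  · exact ⟨⟨23, by norm_num⟩, e_18_x⟩
  · exact ⟨⟨6, by norm_num⟩, e_19_x⟩
  · exact ⟨⟨24, by norm_num⟩, e_20_x⟩
  · exact ⟨⟨7, by norm_num⟩, e_21_x⟩
  · exact ⟨⟨30, by norm_num⟩, e_22_x⟩
  · exact ⟨⟨31, by norm_num⟩, e_23_x⟩
  · exact ⟨⟨12, by norm_num⟩, e_24_x⟩
  · exact ⟨⟨9, by norm_num⟩, e_25_x⟩
  · exact ⟨⟨29, by norm_num⟩, e_26_x⟩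
  · exact ⟨⟨34, by norm_num⟩, e_27_x⟩
  · exact ⟨⟨35, by norm_num⟩, e_28_x⟩
  · exact ⟨⟨17, by norm_num⟩, e_29_x⟩
  · exact ⟨⟨14, by norm_num⟩, e_30_x⟩
  · exact ⟨⟨18, by norm_num⟩, e_31_x⟩
  · exact ⟨⟨39, by norm_num⟩, e_32_x⟩
  · exact ⟨⟨40, by norm_num⟩, e_33_x⟩
  · exact ⟨⟨42, by norm_num⟩, e_34_x⟩
  · exact ⟨⟨43, by norm_num⟩, e_35_x⟩
  · exact ⟨⟨44, by norm_num⟩, e_36_x⟩
  · exact ⟨⟨45, by norm_num⟩, e_37_x⟩
  · exact ⟨⟨46, by norm_num⟩, e_38_x⟩
  · exact ⟨⟨48, by norm_num⟩, e_39_x⟩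
  · exact ⟨⟨49, by norm_num⟩, e_40_x⟩
  · exact ⟨⟨50, by norm_num⟩, e_41_x⟩
  · exact ⟨⟨27, by norm_num⟩, e_42_x⟩
  · exact ⟨⟨28, by norm_num⟩, e_43_x⟩
  · exact ⟨⟨52, by norm_num⟩, e_44_x⟩
  · exact ⟨⟨53, by norm_num⟩, e_45_x⟩
  · exact ⟨⟨54, by norm_num⟩, e_46_x⟩
  · exact ⟨⟨55, by norm_num⟩, e_47_x⟩
  · exact ⟨⟨32, by norm_num⟩, e_48_x⟩
  · exact ⟨⟨33, by norm_num⟩, e_49_x⟩
  · exact ⟨⟨56, by norm_num⟩, e_50_x⟩
  · exact ⟨⟨47, by norm_num⟩, e_51_x⟩
  · exact ⟨⟨36, by norm_num⟩, e_52_x⟩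
  · exact ⟨⟨37, by norm_num⟩, e_53_x⟩
  · exact ⟨⟨38, by norm_num⟩, e_54_x⟩
  · exact ⟨⟨51, by norm_num⟩, e_55_x⟩
  · exact ⟨⟨41, by norm_num⟩, e_56_x⟩
  · exact ⟨⟨59, by norm_num⟩, e_57_x⟩
  · exact ⟨⟨57, by norm_num⟩, e_58_x⟩
  · exact ⟨⟨58, by norm_num⟩, e_59_x⟩

theorem cy (i : Fin 60) : ∃ j : Fin 60, w i * y = w j := by
  fin_cases i
  · exact ⟨⟨2, by norm_num⟩, e_0_y⟩
  · exact ⟨⟨4, by norm_num⟩, e_1_y⟩
  · exact ⟨⟨6, by norm_num⟩, e_2_y⟩
  · exact ⟨⟨7, by norm_num⟩, e_3_y⟩
  · exact ⟨⟨9, by norm_num⟩, e_4_y⟩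
  · exact ⟨⟨3, by norm_num⟩, e_5_y⟩
  · exact ⟨⟨12, by norm_num⟩, e_6_y⟩
  · exact ⟨⟨14, by norm_num⟩, e_7_y⟩
  · exact ⟨⟨0, by norm_num⟩, e_8_y⟩
  · exact ⟨⟨17, by norm_num⟩, e_9_y⟩
  · exact ⟨⟨18, by norm_num⟩, e_10_y⟩
  · exact ⟨⟨10, by norm_num⟩, e_11_y⟩
  · exact ⟨⟨8, by norm_num⟩, e_12_y⟩
  · exact ⟨⟨1, by norm_num⟩, e_13_y⟩
  · exact ⟨⟨23, by norm_num⟩, e_14_y⟩
  · exact ⟨⟨24, by norm_num⟩, e_15_y⟩
  · exact ⟨⟨15, by norm_num⟩, e_16_y⟩
  · exact ⟨⟨13, by norm_num⟩, e_17_y⟩
  · exact ⟨⟨27, by norm_num⟩, e_18_y⟩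
  · exact ⟨⟨28, by norm_num⟩, e_19_y⟩
  · exact ⟨⟨19, by norm_num⟩, e_20_y⟩
  · exact ⟨⟨29, by norm_num⟩, e_21_y⟩
  · exact ⟨⟨21, by norm_num⟩, e_22_y⟩
  · exact ⟨⟨5, by norm_num⟩, e_23_y⟩
  · exact ⟨⟨32, by norm_num⟩, e_24_y⟩
  · exact ⟨⟨33, by norm_num⟩, e_25_y⟩
  · exact ⟨⟨25, by norm_num⟩, e_26_y⟩
  · exact ⟨⟨35, by norm_num⟩, e_27_y⟩
  · exact ⟨⟨36, by norm_num⟩, e_28_y⟩
  · exact ⟨⟨37, by norm_num⟩, e_29_y⟩
  · exact ⟨⟨38, by norm_num⟩, e_30_y⟩
  · exact ⟨⟨30, by norm_num⟩, e_31_y⟩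
  · exact ⟨⟨40, by norm_num⟩, e_32_y⟩
  · exact ⟨⟨41, by norm_num⟩, e_33_y⟩
  · exact ⟨⟨31, by norm_num⟩, e_34_y⟩
  · exact ⟨⟨11, by norm_num⟩, e_35_y⟩
  · exact ⟨⟨39, by norm_num⟩, e_36_y⟩
  · exact ⟨⟨46, by norm_num⟩, e_37_y⟩
  · exact ⟨⟨47, by norm_num⟩, e_38_y⟩
  · exact ⟨⟨20, by norm_num⟩, e_39_y⟩
  · exact ⟨⟨16, by norm_num⟩, e_40_y⟩
  · exact ⟨⟨45, by norm_num⟩, e_41_y⟩
  · exact ⟨⟨51, by norm_num⟩, e_42_y⟩
  · exact ⟨⟨42, by norm_num⟩, e_43_y⟩
  · exact ⟨⟨43, by norm_num⟩, e_44_y⟩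
  · exact ⟨⟨26, by norm_num⟩, e_45_y⟩
  · exact ⟨⟨22, by norm_num⟩, e_46_y⟩
  · exact ⟨⟨34, by norm_num⟩, e_47_y⟩
  · exact ⟨⟨52, by norm_num⟩, e_48_y⟩
  · exact ⟨⟨48, by norm_num⟩, e_49_y⟩
  · exact ⟨⟨49, by norm_num⟩, e_50_y⟩
  · exact ⟨⟨57, by norm_num⟩, e_51_y⟩
  · exact ⟨⟨58, by norm_num⟩, e_52_y⟩
  · exact ⟨⟨56, by norm_num⟩, e_53_y⟩
  · exact ⟨⟨53, by norm_num⟩, e_54_y⟩
  · exact ⟨⟨54, by norm_num⟩, e_55_y⟩
  · exact ⟨⟨59, by norm_num⟩, e_56_y⟩
  · exact ⟨⟨44, by norm_num⟩, e_57_y⟩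
  · exact ⟨⟨50, by norm_num⟩, e_58_y⟩
  · exact ⟨⟨55, by norm_num⟩, e_59_y⟩

theorem w_zero : w 0 = 1 := rfl

theorem x_inv : x⁻¹ = x * x := by
  rw [inv_eq_iff_mul_eq_one, ← mul_assoc]
  exact x3

theorem y_inv : y⁻¹ = y * y * y * y := by
  rw [inv_eq_iff_mul_eq_one, ← mul_assoc, ← mul_assoc, ← mul_assoc]
  exact y5

theorem key (z : FreeGroup (Fin 2)) : ∀ i : Fin 60, ∃ j : Fin 60, w i * PresentedGroup.mk rels z = w j := by
  induction z using FreeGroup.induction_on with
  | C1 => intro i; exact ⟨i, by rw [map_one, mul_one]⟩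
  | of a =>
    intro i
    fin_cases a
    · exact cx i
    · exact cy i
  | inv_of a _ =>
    intro i
    fin_cases a
    · obtain ⟨j, hj⟩ := cx i
      obtain ⟨k, hk⟩ := cx j
      refine ⟨k, ?_⟩
      rw [map_inv]
      change w i * x⁻¹ = w k
      rw [x_inv, ← mul_assoc, hj, hk]
    · obtain ⟨j1, hj1⟩ := cy i
      obtain ⟨j2, hj2⟩ := cy j1
      obtain ⟨j3, hj3⟩ := cy j2
      obtain ⟨j4, hj4⟩ := cy j3
      refine ⟨j4, ?_⟩
      rw [map_inv]
      change w i * y⁻¹ = w j4
      rw [y_inv, ← mul_assoc, ← mul_assoc, ← mul_assoc, hj1, hj2, hj3, hj4]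
  | mul a b iha ihb =>
    intro i
    obtain ⟨j, hj⟩ := iha i
    obtain ⟨k, hk⟩ := ihb j
    exact ⟨k, by rw [map_mul, ← mul_assoc, hj, hk]⟩

theorem w_surjective : Function.Surjective w := by
  intro p
  obtain ⟨z, rfl⟩ := PresentedGroup.mk_surjective rels p
  obtain ⟨j, hj⟩ := key z 0
  exact ⟨j, by rw [← hj, w_zero, one_mul]⟩

/-- Image of the first generator: the 3-cycle `(2 3 4)`. -/
def a0 : Equiv.Perm (Fin 5) := ⟨![0, 1, 3, 4, 2], ![0, 1, 4, 2, 3], by decide, by decide⟩

/-- Image of the second generator: the 5-cycle `i ↦ i + 2`. -/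
def b0 : Equiv.Perm (Fin 5) := ⟨![2, 3, 4, 0, 1], ![3, 4, 0, 1, 2], by decide, by decide⟩

theorem a0_mem : a0 ∈ alternatingGroup (Fin 5) := by
  rw [Equiv.Perm.mem_alternatingGroup]; decide

theorem b0_mem : b0 ∈ alternatingGroup (Fin 5) := by
  rw [Equiv.Perm.mem_alternatingGroup]; decide

/-- The images of the generators in `Alt(5)`. -/
def gen : Fin 2 → alternatingGroup (Fin 5) := ![⟨a0, a0_mem⟩, ⟨b0, b0_mem⟩]

theorem gen_rels : ∀ r ∈ rels, FreeGroup.lift gen r = 1 := by
  intro r hr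
  rcases hr with rfl | rfl | rfl
  · rw [map_pow, FreeGroup.lift_apply_of]
    apply Subtype.ext
    decide
  · rw [map_pow, FreeGroup.lift_apply_of]
    apply Subtype.ext
    decide
  · rw [map_pow, map_mul, FreeGroup.lift_apply_of, FreeGroup.lift_apply_of]
    apply Subtype.ext
    decide

/-- The homomorphism from the presented group onto `Alt(5)`. -/
def phi : P →* alternatingGroup (Fin 5) := PresentedGroup.toGroup gen_rels

theorem phi_x : phi x = ⟨a0, a0_mem⟩ := PresentedGroup.toGroup.of gen_rels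

theorem phi_y : phi y = ⟨b0, b0_mem⟩ := PresentedGroup.toGroup.of gen_rels

theorem card_alt : Nat.card (alternatingGroup (Fin 5)) = 60 := by
  rw [nat_card_alternatingGroup]
  simp [Nat.factorial]

theorem phi_surjective : Function.Surjective phi := by
  rw [← MonoidHom.range_eq_top]
  have h3 : orderOf (phi x) = 3 := by
    rw [phi_x]
    refine orderOf_eq_prime ?_ ?_
    · apply Subtype.ext; decide
    · intro h; exact absurd (congrArg Subtype.val h) (by decide)
  have h5 : orderOf (phi y) = 5 := by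
    rw [phi_y]
    have : Fact (Nat.Prime 5) := ⟨by norm_num⟩
    refine orderOf_eq_prime ?_ ?_
    · apply Subtype.ext; decide
    · intro h; exact absurd (congrArg Subtype.val h) (by decide)
  have h2 : orderOf (phi (x * y)) = 2 := by
    rw [map_mul, phi_x, phi_y]
    refine orderOf_eq_prime ?_ ?_
    · apply Subtype.ext; decide
    · intro h; exact absurd (congrArg Subtype.val h) (by decide)
  have hd (g : P) : orderOf (phi g) ∣ Nat.card phi.range := by
    have : orderOf (⟨phi g, g, rfl⟩ : phi.range) = orderOf (phi g) :=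
      Subgroup.orderOf_mk _ _
    rw [← this]
    exact orderOf_dvd_natCard _
  have d3 : 3 ∣ Nat.card phi.range := by have := hd x; rwa [h3] at this
  have d5 : 5 ∣ Nat.card phi.range := by have := hd y; rwa [h5] at this
  have d2 : 2 ∣ Nat.card phi.range := by have := hd (x * y); rwa [h2] at this
  have d30 : 30 ∣ Nat.card phi.range := by
    have h6 : 6 ∣ Nat.card phi.range :=
      Nat.Coprime.mul_dvd_of_dvd_of_dvd (by norm_num) d2 d3
    exact Nat.Coprime.mul_dvd_of_dvd_of_dvd (by norm_num) h6 d5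
  have hidx : phi.range.index * Nat.card phi.range = 60 := by
    rw [mul_comm, Subgroup.card_mul_index, card_alt]
  obtain ⟨k, hk⟩ := d30
  have hk' : phi.range.index * k = 2 := by
    rw [hk] at hidx
    have : 30 * (phi.range.index * k) = 30 * 2 := by
      rw [show (30 : ℕ) * 2 = 60 from rfl, ← hidx]; ring
    exact Nat.eq_of_mul_eq_mul_left (by norm_num) this
  have hidx2 : phi.range.index = 1 ∨ phi.range.index = 2 := by
    have : phi.range.index ∣ 2 := Dvd.intro _ hk'
    rcases (Nat.dvd_prime Nat.prime_two).mp this with h | h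
    · exact Or.inl h
    · exact Or.inr h
  rcases hidx2 with h | h
  · exact Subgroup.index_eq_one.mp h
  · have hn : phi.range.Normal := Subgroup.normal_of_index_eq_two h
    rcases hn.eq_bot_or_eq_top with hb | ht
    · exfalso
      rw [hb, Subgroup.card_bot] at hk
      omega
    · exact ht

theorem result' : Nonempty (P ≃* alternatingGroup (Fin 5)) := by
  have hfin : Finite P := Finite.of_surjective w w_surjective
  have hle : Nat.card P ≤ Nat.card (alternatingGroup (Fin 5)) := by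
    rw [card_alt]
    have := Nat.card_le_card_of_surjective w w_surjective
    simpa using this
  exact ⟨MulEquiv.ofBijective phi (phi_surjective.bijective_of_nat_card_le hle)⟩

/-- The alternating group of degree 5 has the presentation ⟨x, y | x³ = 1, y⁵ = 1, (xy)² = 1⟩: the group so presented is isomorphic to Alt(5). -/
theorem result :
    Nonempty (PresentedGroup ({FreeGroup.of (0 : Fin 2) ^ 3, FreeGroup.of (1 : Fin 2) ^ 5,
        (FreeGroup.of (0 : Fin 2) * FreeGroup.of 1) ^ 2} : Set (FreeGroup (Fin 2))) ≃* alternatingGroup (Fin 5)) :=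
  result'

end Cfsg.Agent.S3377
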