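import Cfsg.Statements.S1425
import Cfsg.Agent.Lib.helper55.BGSigmaJ
import Cfsg.Agent.S1403
import Cfsg.Agent.S1404
import Cfsg.Agent.S1410
import Cfsg.Agent.S1416
import Cfsg.Agent.S1417
import Cfsg.Agent.S1424

set_option autoImplicit false
open Cfsg

namespace Cfsg.Agent.S1425

/-- Let G be a minimal simple group of odd order, M a maximal subgroup and Y a nontrivial subgroup of G all of whose prime divisors lie in σ(M). Then gYg⁻¹ ≤ M_σ for some g ∈ G. -/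
theorem result {G : Type*} [Group G] [Finite G] (hG : Cfsg.IsMinSimpleOddOrder G)
    (M : Subgroup G) (hM : IsCoatom M) (Y : Subgroup G) (hY1 : Y ≠ ⊥) (hY : ∀ p : ℕ, p.Prime → p ∣ Nat.card Y → p ∈ Cfsg.sigma M) :
    ∃ g : G, Y.map (MulAut.conj g).toMonoidHom ≤ Cfsg.sigmaCore M := by
  have hU : Cfsg.Agent.Lib.helper8.BGUniqHyp G :=
    fun K hK h1 h2 => Cfsg.Agent.S1403.result hG K hK h1 h2
  have hF : Cfsg.Agent.Lib.helper8.BGFusHyp G := by
    intro M hM p hp X hXp hX1 hXM g hg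
    have : Fact p.Prime := ⟨hp.1⟩
    exact (Cfsg.Agent.S1404.result hG M hM p hp X hXp hX1 hXM).1 g hg
  have hL : Cfsg.Agent.Lib.helper8.BGPLenHyp G := by
    intro p hp H hH
    have : Fact p.Prime := ⟨hp⟩
    exact Cfsg.Agent.S1410.result hG p H hH
  have h16 : Cfsg.Agent.Lib.helper55.BGJ.CentHyp G := by
    intro M hM p _ A hAM hAe hAc
    exact (Cfsg.Agent.S1416.result hG M hM p A ⟨hAM, hAe, hAc⟩).1
  have h17 : Cfsg.Agent.Lib.helper55.BGJ.Tau2Hyp G := by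
    intro M hM p _ hp A hAM hAe hAc
    obtain ⟨h1, -, h3, -⟩ := Cfsg.Agent.S1417.result hG M hM p hp A ⟨hAM, hAe, hAc⟩
    exact ⟨h1, h3⟩
  have h24 : Cfsg.Agent.Lib.helper55.BGJ.SylHyp G := by
    intro M hM q _ hq X hXq hX1 hXM L hL hLM hNX S hXS
    exact Cfsg.Agent.S1424.result hG M hM q hq X hXq hX1 hXM L hL hLM hNX S hXS
  exact Cfsg.Agent.Lib.helper55.BGJ.sigma_conj hG hU hF hL h16 h17 h24 M hM Y hY1 hY

end Cfsg.Agent.S1425
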