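import Cfsg.Statements.S1351
import Cfsg.Agent.S1375
import Cfsg.Agent.S1377
import Cfsg.Agent.S1433
import Cfsg.Agent.Lib.helper65.BGT3Ex
import Cfsg.Agent.Lib.helper3.BG1366PB
import Cfsg.Agent.Lib.helper29.BGFamFD
import Cfsg.Agent.Lib.helper29.BGFamFT
import Cfsg.Agent.Lib.helper71.BGFamZ
import Cfsg.Agent.Lib.helper71.BGTilde

set_option autoImplicit false
open Cfsg

namespace Cfsg.Agent.S1351

/-- Let G be a minimal simple group of odd order and M a maximal subgroup. Then M possesses a Hall κ(M)-subgroup, and every Hall κ(M)-subgroup of M is cyclic. -/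
theorem result {G : Type*} [Group G] [Finite G] (hG : Cfsg.IsMinSimpleOddOrder G)
    (M : Subgroup G) (hM : IsCoatom M) :
    (∃ K : Subgroup G, Cfsg.IsPiHallOf (Cfsg.kappa M) K M) ∧
      ∀ K : Subgroup G, Cfsg.IsPiHallOf (Cfsg.kappa M) K M → IsCyclic K := by
  have h75 : Cfsg.Agent.Lib.helper29.BG1366.H1375 G :=
    fun M hM x hx hx1 hxM => Cfsg.Agent.S1375.result hG M hM x hx hx1 hxM
  have h77 : Cfsg.Agent.Lib.helper29.BG1366.H1377 G :=
    fun M hM => Cfsg.Agent.S1377.result hG M hM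
  have hD : Cfsg.Agent.Lib.helper29.BG1366.HTD G := fun M N hM hN hnc =>
    Cfsg.Agent.Lib.helper71.BGTilde.tilde_disjoint hG
      (fun M hM x hx hx1 hxM => Cfsg.Agent.S1375.result hG M hM x hx hx1 hxM)
      (fun M N hM hN x y hx hy hx1 hy1 hxy =>
        Cfsg.Agent.S1433.result hG M N hM hN x y hx hy hx1 hy1 hxy) M N hM hN hnc
  exact Cfsg.Agent.Lib.helper65.BGT3Ex.s1351_of hG
    (fun M hM K hK hK1 X hXK hXp N hN hXN =>
      Cfsg.Agent.Lib.helper3.BG1366.pair_kappa hG M hM K hK hK1 X hXK hXp N hN hXN)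
    (fun M hM K hK hK1 X hXK hXp N hN hXN hNM hσ hXσ hZN K' hK' hKs =>
      Cfsg.Agent.Lib.helper3.BG1366.pair_struct hG M hM K hK hK1 X hXK hXp N hN hXN hNM hσ hXσ hZN
        K' hK' hKs)
    (fun Z ι _ hι M K hinj hM hK hK1 hZ hP1 hcov => by
      have : Nonempty ι := by
        rw [← Fintype.card_pos_iff]
        omega
      have hTI := Cfsg.Agent.Lib.helper29.BGFamFT.family_TI' hG Z M K hM hK hK1 hZ hcov
      exact Cfsg.Agent.Lib.helper29.BGFamFD.no_p1_family_of hG h77 hD Z hι M K hinj hM hK hK1 hZ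
        hP1 hTI
        (Cfsg.Agent.Lib.helper71.BGFamZ.family_disjZ_of_TI hG h75 Z M K hM hK hK1 hZ hTI))
    M hM

end Cfsg.Agent.S1351
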