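import Cfsg.Statements.S0428
import Cfsg.Agent.Lib.helper10.Steiner3622b

set_option autoImplicit false
open Cfsg

namespace Cfsg.Agent.S0428

open Cfsg.Agent.Lib.helper10
set_option linter.unusedSimpArgs false

/-- The point-block graph of an S(3, 6, 22) is strongly regular with parameters (100, 22, 0, 6). -/
theorem result {α : Type*} [Fintype α] (hα : Fintype.card α = 22) {B : Set (Finset α)} (hB : Cfsg.IsSteinerSystem 3 6 B) [Fintype B] [DecidableRel (Cfsg.pointBlockGraph B).Adj] : (Cfsg.pointBlockGraph B).IsSRGWith 100 22 0 6 := by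
  classical
  have hdeg : ∀ v, (pointBlockGraph B).degree v
      = (Finset.univ.filter ((pointBlockGraph B).Adj v)).card := by
    intro v
    rw [← SimpleGraph.card_neighborFinset_eq_degree, SimpleGraph.neighborFinset_eq_filter]
  have hcn : ∀ v w, Fintype.card ((pointBlockGraph B).commonNeighbors v w)
      = (Finset.univ.filter
          (fun x => (pointBlockGraph B).Adj v x ∧ (pointBlockGraph B).Adj w x)).card := by
    intro v w
    refine Fintype.card_of_subtype _ fun x => ?_
    rw [Finset.mem_filter, SimpleGraph.mem_commonNeighbors]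
    simp
  have hpts : ∀ b : B, (Finset.univ.filter fun p : α => p ∈ (b : Finset α)).card = 6 := by
    intro b
    rw [Finset.filter_univ_mem, hB.1 b.1 b.2]
  have hthr : ∀ p : α, (Finset.univ.filter fun x : B => p ∈ (x : Finset α)).card = 21 := by
    intro p
    rw [card_filter_blocks B (fun d => p ∈ d), s3622_card_through hB hα p]
  have hdis : ∀ b : B,
      (Finset.univ.filter fun x : B => Disjoint (b : Finset α) (x : Finset α)).card = 16 := by
    intro b
    rw [card_filter_blocks B (fun d => Disjoint (b : Finset α) d), s3622_card_disjoint hB hα b.2]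
  have hthr2 : ∀ p q : α, p ≠ q →
      (Finset.univ.filter fun x : B => p ∈ (x : Finset α) ∧ q ∈ (x : Finset α)).card = 5 := by
    intro p q hpq
    rw [card_filter_blocks B (fun d => p ∈ d ∧ q ∈ d), s3622_card_through_two hB hα hpq]
  have hpd : ∀ (p : α) (c : B), p ∉ (c : Finset α) →
      (Finset.univ.filter fun x : B =>
        p ∈ (x : Finset α) ∧ Disjoint (c : Finset α) (x : Finset α)).card = 6 := by
    intro p c hpc
    rw [card_filter_blocks B (fun d => p ∈ d ∧ Disjoint (c : Finset α) d),
      s3622_card_through_disjoint hB hα c.2 hpc]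
  have hpd0 : ∀ (p : α) (c : B), p ∈ (c : Finset α) →
      (Finset.univ.filter fun x : B =>
        p ∈ (x : Finset α) ∧ Disjoint (c : Finset α) (x : Finset α)).card = 0 := by
    intro p c hpc
    rw [Finset.card_eq_zero, Finset.filter_eq_empty_iff]
    rintro x - ⟨h1, h2⟩
    exact Finset.disjoint_left.mp h2 hpc h1
  have hdd0 : ∀ b c : B, Disjoint (b : Finset α) (c : Finset α) →
      (Finset.univ.filter fun x : B => Disjoint (b : Finset α) (x : Finset α) ∧
        Disjoint (c : Finset α) (x : Finset α)).card = 0 := by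
    intro b c hbc
    have hne : (b : Finset α) ≠ c := by
      intro h
      have h6 := hB.1 b.1 b.2
      rw [← h, disjoint_self, Finset.bot_eq_empty] at hbc
      rw [hbc] at h6
      simp at h6
    rw [card_filter_blocks B (fun d => Disjoint (b : Finset α) d ∧ Disjoint (c : Finset α) d)]
    exact (s3622_card_disjoint_two hB hα b.2 c.2 hne).1 hbc
  have hdd4 : ∀ b c : B, b ≠ c → ¬ Disjoint (b : Finset α) (c : Finset α) →
      (Finset.univ.filter fun x : B => Disjoint (b : Finset α) (x : Finset α) ∧
        Disjoint (c : Finset α) (x : Finset α)).card = 4 := by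
    intro b c hne hbc
    have hne' : (b : Finset α) ≠ c := fun h => hne (Subtype.ext h)
    rw [card_filter_blocks B (fun d => Disjoint (b : Finset α) d ∧ Disjoint (c : Finset α) d)]
    exact (s3622_card_disjoint_two hB hα b.2 c.2 hne').2 hbc
  have hpp : ∀ b c : B, (Finset.univ.filter fun x : α =>
      x ∈ (b : Finset α) ∧ x ∈ (c : Finset α)) = (b : Finset α) ∩ (c : Finset α) := by
    intro b c
    ext x
    simp
  have hpp0 : ∀ b c : B, Disjoint (b : Finset α) (c : Finset α) →
      (Finset.univ.filter fun x : α => x ∈ (b : Finset α) ∧ x ∈ (c : Finset α)).card = 0 := by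
    intro b c hbc
    rw [hpp, Finset.card_eq_zero, ← Finset.disjoint_iff_inter_eq_empty]
    exact hbc
  have hpp2 : ∀ b c : B, b ≠ c → ¬ Disjoint (b : Finset α) (c : Finset α) →
      (Finset.univ.filter fun x : α => x ∈ (b : Finset α) ∧ x ∈ (c : Finset α)).card = 2 := by
    intro b c hne hbc
    have hne' : (b : Finset α) ≠ c := fun h => hne (Subtype.ext h)
    rw [hpp]
    rcases s3622_inter_zero_or_two hB hα b.2 c.2 hne' with h | h
    · exact absurd (by rw [Finset.disjoint_iff_inter_eq_empty, ← Finset.card_eq_zero]; exact h) hbc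
    · exact h
  have hpd' : ∀ (p : α) (c : B), p ∉ (c : Finset α) →
      (Finset.univ.filter fun x : B =>
        Disjoint (c : Finset α) (x : Finset α) ∧ p ∈ (x : Finset α)).card = 6 := by
    intro p c hpc
    rw [← hpd p c hpc]
    congr 1
    ext x
    simp [and_comm]
  have hpd0' : ∀ (p : α) (c : B), p ∈ (c : Finset α) →
      (Finset.univ.filter fun x : B =>
        Disjoint (c : Finset α) (x : Finset α) ∧ p ∈ (x : Finset α)).card = 0 := by
    intro p c hpc
    rw [← hpd0 p c hpc]
    congr 1
    ext x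
    simp [and_comm]
  refine ⟨?_, ?_, ?_, ?_⟩
  · rw [Fintype.card_option, Fintype.card_sum, hα, card_blocks_eq, s3622_card_blk hB hα]
  · intro v
    rw [hdeg, card_filter_option_sum]
    rcases v with _ | p | b
    · simp [pb_adj_none_inl, pb_adj_none_inr, hα]
    · simp only [pb_adj_inl_none, pb_adj_inl_inl, pb_adj_inl_inr]
      rw [hthr]
      simp
    · simp only [pb_adj_inr_none, pb_adj_inr_inl, pb_adj_inr_inr hB]
      rw [hdis, hpts]
      simp
  · intro v w hvw
    rw [hcn, card_filter_option_sum]
    rcases v with _ | p | b <;> rcases w with _ | q | c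
    · exact absurd hvw pb_adj_none_none
    · simp [pb_adj_none_inl, pb_adj_none_inr, pb_adj_inl_none, pb_adj_inl_inl]
    · exact absurd hvw (pb_adj_none_inr c)
    · simp [pb_adj_none_inl, pb_adj_none_inr, pb_adj_inl_none, pb_adj_inl_inl]
    · exact absurd hvw (pb_adj_inl_inl p q)
    · rw [pb_adj_inl_inr] at hvw
      simp only [pb_adj_none_none, pb_adj_none_inl, pb_adj_none_inr, pb_adj_inl_none, pb_adj_inl_inl,
        pb_adj_inl_inr, pb_adj_inr_none, pb_adj_inr_inl, pb_adj_inr_inr hB]
      rw [hpd0 p c hvw]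
      simp
    · exact absurd hvw (pb_adj_inr_none b)
    · rw [pb_adj_inr_inl] at hvw
      simp only [pb_adj_none_none, pb_adj_none_inl, pb_adj_none_inr, pb_adj_inl_none, pb_adj_inl_inl,
        pb_adj_inl_inr, pb_adj_inr_none, pb_adj_inr_inl, pb_adj_inr_inr hB]
      rw [hpd0' q b hvw]
      simp
    · rw [pb_adj_inr_inr hB] at hvw
      simp only [pb_adj_none_none, pb_adj_none_inl, pb_adj_none_inr, pb_adj_inl_none, pb_adj_inl_inl,
        pb_adj_inl_inr, pb_adj_inr_none, pb_adj_inr_inl, pb_adj_inr_inr hB]
      rw [hpp0 b c hvw, hdd0 b c hvw]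
      simp
  · intro v w hvw hnadj
    rw [hcn, card_filter_option_sum]
    rcases v with _ | p | b <;> rcases w with _ | q | c
    · exact absurd rfl hvw
    · exact absurd (pb_adj_none_inl q) hnadj
    · simp only [pb_adj_none_none, pb_adj_none_inl, pb_adj_none_inr, pb_adj_inl_none, pb_adj_inl_inl,
        pb_adj_inl_inr, pb_adj_inr_none, pb_adj_inr_inl, pb_adj_inr_inr hB]
      simp [hB.1 c.1 c.2]
    · exact absurd (pb_adj_inl_none p) hnadj
    · simp only [pb_adj_none_none, pb_adj_none_inl, pb_adj_none_inr, pb_adj_inl_none, pb_adj_inl_inl,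
        pb_adj_inl_inr, pb_adj_inr_none, pb_adj_inr_inl, pb_adj_inr_inr hB]
      have hpq : p ≠ q := fun h => hvw (by rw [h])
      rw [hthr2 p q hpq]
      simp
    · rw [pb_adj_inl_inr] at hnadj
      simp only [pb_adj_none_none, pb_adj_none_inl, pb_adj_none_inr, pb_adj_inl_none, pb_adj_inl_inl,
        pb_adj_inl_inr, pb_adj_inr_none, pb_adj_inr_inl, pb_adj_inr_inr hB]
      rw [hpd p c hnadj]
      simp
    · simp only [pb_adj_none_none, pb_adj_none_inl, pb_adj_none_inr, pb_adj_inl_none, pb_adj_inl_inl,
        pb_adj_inl_inr, pb_adj_inr_none, pb_adj_inr_inl, pb_adj_inr_inr hB]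
      simp [hB.1 b.1 b.2]
    · rw [pb_adj_inr_inl] at hnadj
      simp only [pb_adj_none_none, pb_adj_none_inl, pb_adj_none_inr, pb_adj_inl_none, pb_adj_inl_inl,
        pb_adj_inl_inr, pb_adj_inr_none, pb_adj_inr_inl, pb_adj_inr_inr hB]
      rw [hpd' q b hnadj]
      simp
    · rw [pb_adj_inr_inr hB] at hnadj
      simp only [pb_adj_none_none, pb_adj_none_inl, pb_adj_none_inr, pb_adj_inl_none, pb_adj_inl_inl,
        pb_adj_inl_inr, pb_adj_inr_none, pb_adj_inr_inl, pb_adj_inr_inr hB]
      have hbc : b ≠ c := fun h => hvw (by rw [h])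
      rw [hpp2 b c hbc hnadj, hdd4 b c hbc hnadj]
      simp

end Cfsg.Agent.S0428
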