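import Cfsg.Statements.S4722
import Cfsg.Agent.Lib.helper81.Kernel
import Cfsg.Agent.Lib.helper84.BlockOrth

set_option autoImplicit false
open Cfsg

namespace Cfsg.Agent.S4722

open Cfsg.Agent.Lib.helper81 Cfsg.Agent.Lib.helper20
open scoped ComplexConjugate

universe u

section Grp

variable {G : Type u} [Group G]

theorem coprime_orderOf_of_odd (P : Subgroup G) (hP : IsPGroup 2 P) {u : G} (hu : u ∈ P) {i : ℕ}
    (hi : ¬ 2 ∣ i) : Nat.Coprime i (orderOf u) := by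
  obtain ⟨k, hk⟩ := hP ⟨u, hu⟩
  have hk' : u ^ 2 ^ k = 1 := by
    have := congrArg Subtype.val hk
    simpa using this
  have hdvd : orderOf u ∣ 2 ^ k := orderOf_dvd_of_pow_eq_one hk'
  have h2 : Nat.Coprime i 2 := ((Nat.Prime.coprime_iff_not_dvd Nat.prime_two).mpr hi).symm
  exact Nat.Coprime.coprime_dvd_right hdvd (Nat.Coprime.pow_right k h2)

/-- No odd power of an element of `U` is conjugate to the same power of `t`. -/
theorem odd_pow_not_conj_t (P : Subgroup G) (hP : IsPGroup 2 P) (U : Set G)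
    (hUP : U ⊆ (P : Set G)) (t : G) (ht : orderOf t = 2)
    (hinv : ∀ u ∈ U, ∀ g : G, (g * t * g⁻¹) * u * (g * t * g⁻¹)⁻¹ ≠ u⁻¹) :
    ∀ u ∈ U, ∀ c : G, ∀ i : ℕ, c⁻¹ * u ^ i * c = t ^ i → 2 ∣ i := by
  intro u hu c i hi
  by_contra h2
  have ht2 : t ^ 2 = 1 := by rw [← ht]; exact pow_orderOf_eq_one t
  have hti : t ^ i = t := by
    obtain ⟨q, hq⟩ : ∃ q, i = 2 * q + 1 := by
      have := Nat.odd_iff.mpr (by omega : i % 2 = 1)
      obtain ⟨q, hq⟩ := this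
      exact ⟨q, hq⟩
    rw [hq, pow_succ, pow_mul, ht2, one_pow, one_mul]
  rw [hti] at hi
  have hui : u ^ i = c * t * c⁻¹ := by
    rw [← hi]; group
  have hcop := coprime_orderOf_of_odd P hP (hUP hu) h2
  have h2i : u ^ (2 * i) = 1 := by
    rw [mul_comm, pow_mul, hui, conj_pow, ht2]; group
  have hdvd : orderOf u ∣ 2 := by
    have := orderOf_dvd_of_pow_eq_one h2i
    exact (Nat.Coprime.dvd_mul_right hcop.symm).mp this
  have hu2 : u ^ 2 = 1 := orderOf_dvd_iff_pow_eq_one.mp hdvd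
  have huinv : u⁻¹ = u := by
    rw [inv_eq_iff_mul_eq_one, ← sq]; exact hu2
  apply hinv u hu c
  rw [← hui, huinv]
  have : u ^ i * u * (u ^ i)⁻¹ = u := by
    rw [← pow_succ, pow_succ', mul_assoc, mul_inv_cancel, mul_one]
  exact this

/-- No odd power of an element of `U` is conjugate to the same power of a product of two
conjugates of `t`. -/
theorem odd_pow_not_conj_tt (P : Subgroup G) (hP : IsPGroup 2 P) (U : Set G)
    (hUP : U ⊆ (P : Set G)) (t : G) (ht : orderOf t = 2)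
    (hinv : ∀ u ∈ U, ∀ g : G, (g * t * g⁻¹) * u * (g * t * g⁻¹)⁻¹ ≠ u⁻¹) (b : G) :
    ∀ u ∈ U, ∀ c : G, ∀ i : ℕ, c⁻¹ * u ^ i * c = (b * t * b⁻¹ * t) ^ i → 2 ∣ i := by
  intro u hu c i hi
  by_contra h2
  have ht2 : t ^ 2 = 1 := by rw [← ht]; exact pow_orderOf_eq_one t
  have htinv : t⁻¹ = t := by
    rw [inv_eq_iff_mul_eq_one, ← sq]; exact ht2
  obtain ⟨t₁, ht₁⟩ : ∃ t₁ : G, t₁ = b * t * b⁻¹ := ⟨_, rfl⟩
  rw [← ht₁] at hi
  have ht₁inv : t₁⁻¹ = t₁ := by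
    rw [ht₁]
    simp only [mul_inv_rev, inv_inv, htinv, mul_assoc]
  have ht₁sq : t₁ * t₁ = 1 := by
    have := inv_mul_cancel t₁
    rwa [ht₁inv] at this
  obtain ⟨g, hg⟩ : ∃ g : G, g = t₁ * t := ⟨_, rfl⟩
  rw [← hg] at hi
  have hconj : t₁ * g * t₁⁻¹ = g⁻¹ := by
    have h1 : g⁻¹ = t * t₁ := by
      rw [hg, mul_inv_rev, htinv, ht₁inv]
    rw [h1, hg, ht₁inv, ← mul_assoc, ht₁sq, one_mul]
  have hconji : t₁ * g ^ i * t₁⁻¹ = (g ^ i)⁻¹ := by
    rw [← conj_pow, hconj, inv_pow]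
  have hui : u ^ i = c * g ^ i * c⁻¹ := by
    rw [← hi]; group
  have hcop := coprime_orderOf_of_odd P hP (hUP hu) h2
  obtain ⟨m, hm⟩ := exists_pow_eq_self_of_coprime hcop
  apply hinv u hu (c * b)
  have ht' : c * b * t * (c * b)⁻¹ = c * t₁ * c⁻¹ := by
    rw [ht₁]; group
  rw [ht']
  have h3 : c * t₁ * c⁻¹ * u ^ i * (c * t₁ * c⁻¹)⁻¹ = (u ^ i)⁻¹ := by
    rw [hui]
    calc c * t₁ * c⁻¹ * (c * g ^ i * c⁻¹) * (c * t₁ * c⁻¹)⁻¹
        = c * (t₁ * g ^ i * t₁⁻¹) * c⁻¹ := by group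
      _ = (c * g ^ i * c⁻¹)⁻¹ := by rw [hconji]; group
  calc c * t₁ * c⁻¹ * u * (c * t₁ * c⁻¹)⁻¹
      = c * t₁ * c⁻¹ * (u ^ i) ^ m * (c * t₁ * c⁻¹)⁻¹ := by rw [hm]
    _ = (c * t₁ * c⁻¹ * u ^ i * (c * t₁ * c⁻¹)⁻¹) ^ m := by rw [conj_pow]
    _ = u⁻¹ := by rw [h3, inv_pow, hm]

end Grp

section

variable {G : Type u} [Group G] [Fintype G]

/-- The coefficient `a_χ = |P|⁻¹ ∑_{y ∈ P} χ(y) θ(y⁻¹)`. -/
noncomputable def coef (P : Subgroup G) (θ : ↥P → ℂ) (χ : IrrCharacter G) : ℂ :=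
  (Nat.card ↥P : ℂ)⁻¹ * ∑ᶠ y : ↥P, (χ : G → ℂ) (y : G) * θ y⁻¹

theorem coef_eq (P : Subgroup G) [Fintype P] (θ : ↥P → ℂ) (χ : IrrCharacter G) :
    coef P θ χ = (Nat.card ↥P : ℂ)⁻¹ * ∑ y : ↥P, conj ((χ : G → ℂ) (y : G)) * θ y := by
  unfold coef
  rw [finsum_eq_sum_of_fintype]
  congr 1
  refine Fintype.sum_equiv (Equiv.inv ↥P) _ _ (fun y => ?_)
  show (χ : G → ℂ) (y : G) * θ y⁻¹ = conj ((χ : G → ℂ) ((y⁻¹ : ↥P) : G)) * θ y⁻¹
  rw [Subgroup.coe_inv, irr_inv, Complex.conj_conj]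

/-- The key vanishing: if no odd power of an element of `U` is conjugate to the same power of `g`,
then `∑_{χ ∈ B₀} a_χ χ(g) = 0`. -/
theorem sum_coef_mul_eq_zero (M : Ideal Cfsg.AlgInt) (hM : Cfsg.IsPModular 2 M) (P : Subgroup G)
    (U : Set G) (θ : ↥P → ℂ) (hθU : ∀ y : ↥P, (y : G) ∉ U → θ y = 0) (g : G)
    (hg : ∀ u ∈ U, ∀ c : G, ∀ i : ℕ, c⁻¹ * u ^ i * c = g ^ i → 2 ∣ i)
    [DecidablePred (· ∈ Cfsg.principalBlock M G)] :
    ∑ χ : IrrCharacter G, (if χ ∈ Cfsg.principalBlock M G then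
      coef P θ χ * (χ : G → ℂ) g else 0) = 0 := by
  classical
  have : Fintype ↥P := Fintype.ofFinite _
  have hp2 : Fact (Nat.Prime 2) := ⟨Nat.prime_two⟩
  have h1 : ∀ χ : IrrCharacter G, (if χ ∈ Cfsg.principalBlock M G then
      coef P θ χ * (χ : G → ℂ) g else 0)
      = (Nat.card ↥P : ℂ)⁻¹ * ∑ y : ↥P, θ y * (if χ ∈ Cfsg.principalBlock M G then
          conj ((χ : G → ℂ) (y : G)) * (χ : G → ℂ) g else 0) := by
    intro χ
    by_cases hχ : χ ∈ Cfsg.principalBlock M G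
    · simp only [if_pos hχ]
      rw [coef_eq, mul_assoc, Finset.sum_mul]
      congr 1
      refine Finset.sum_congr rfl (fun y _ => ?_)
      ring
    · simp only [if_neg hχ]
      simp
  rw [Finset.sum_congr rfl (fun χ _ => h1 χ), ← Finset.mul_sum, Finset.sum_comm]
  have h2 : ∀ y : ↥P, ∑ χ : IrrCharacter G, θ y * (if χ ∈ Cfsg.principalBlock M G then
      conj ((χ : G → ℂ) (y : G)) * (χ : G → ℂ) g else 0) = 0 := by
    intro y
    by_cases hy : (y : G) ∈ U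
    · rw [← Finset.mul_sum]
      have h3 := Cfsg.Agent.Lib.helper84.block_orthogonality' hM
        (Cfsg.Agent.Lib.helper81.isPBlock_principalBlock (M := M) (G := G)) (y : G) g
        (fun c i hi => hg (y : G) hy c i hi)
      have h4 := congrArg (starRingEnd ℂ) h3
      rw [map_sum, map_zero] at h4
      have h5 : ∑ χ : IrrCharacter G, (if χ ∈ Cfsg.principalBlock M G then
          conj ((χ : G → ℂ) (y : G)) * (χ : G → ℂ) g else 0) = 0 := by
        refine Eq.trans (Finset.sum_congr rfl (fun χ _ => ?_)) h4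
        split_ifs
        · rw [map_mul, Complex.conj_conj]
        · rw [map_zero]
      rw [h5, mul_zero]
    · rw [hθU y hy]
      simp
  rw [Finset.sum_congr rfl (fun y _ => h2 y)]
  simp

end

/-- Let M be a maximal ideal of the algebraic integers containing 2, P a 2-subgroup of the finite group G, U a subset of P, and t an involution of G such that no element of U is inverted by any conjugate of t. Let θ be a generalized character of P vanishing outside U, and for χ in the principal 2-block B₀ put a_χ = #P⁻¹ Σ_{y ∈ P} χ(y) θ(y⁻¹). Then Σ_{χ ∈ B₀} a_χ χ(t)^2/χ(1) = 0, Σ_{χ ∈ B₀} a_χ χ(1) = 0 and Σ_{χ ∈ B₀} a_χ χ(t) = 0. If moreover #P⁻¹ Σ_{y ∈ P} θ(y) ≠ 0, then either at least two of the a_χ have positive real part and at least two have negative real part, or G has a proper normal subgroup containing O_2'(G) and t. -/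
theorem result {G : Type*} [Group G] [Finite G] (M : Ideal Cfsg.AlgInt) (hM : Cfsg.IsPModular 2 M) (P : Subgroup G) (hP : IsPGroup 2 P) (U : Set G) (hUP : U ⊆ (P : Set G)) (t : G) (ht : orderOf t = 2) (hinv : ∀ u ∈ U, ∀ g : G, (g * t * g⁻¹) * u * (g * t * g⁻¹)⁻¹ ≠ u⁻¹) (θ : ↥P → ℂ) (hθ : Cfsg.IsGeneralizedCharacter ↥P θ) (hθU : ∀ y : ↥P, (y : G) ∉ U → θ y = 0) : (∑ᶠ χ ∈ Cfsg.principalBlock M G, ((Nat.card ↥P : ℂ)⁻¹ * ∑ᶠ y : ↥P, (χ : G → ℂ) (y : G) * θ y⁻¹) * (χ : G → ℂ) t ^ 2 / (χ : G → ℂ) 1 = 0) ∧ (∑ᶠ χ ∈ Cfsg.principalBlock M G, ((Nat.card ↥P : ℂ)⁻¹ * ∑ᶠ y : ↥P, (χ : G → ℂ) (y : G) * θ y⁻¹) * (χ : G → ℂ) 1 = 0) ∧ (∑ᶠ χ ∈ Cfsg.principalBlock M G, ((Nat.card ↥P : ℂ)⁻¹ * ∑ᶠ y : ↥P, (χ : G → ℂ) (y : G) * θ y⁻¹) * (χ : G → ℂ) t = 0) ∧ ((Nat.card ↥P : ℂ)⁻¹ * ∑ᶠ y : ↥P, θ y ≠ 0 → (2 ≤ Nat.card {χ : Cfsg.IrrCharacter G // χ ∈ Cfsg.principalBlock M G ∧ 0 < (((Nat.card ↥P : ℂ)⁻¹ * ∑ᶠ y : ↥P, (χ : G → ℂ) (y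 : G) * θ y⁻¹)).re} ∧ 2 ≤ Nat.card {χ : Cfsg.IrrCharacter G // χ ∈ Cfsg.principalBlock M G ∧ (((Nat.card ↥P : ℂ)⁻¹ * ∑ᶠ y : ↥P, (χ : G → ℂ) (y : G) * θ y⁻¹)).re < 0}) ∨ ∃ K : Subgroup G, K.Normal ∧ K ≠ ⊤ ∧ Cfsg.pPrimeCore 2 G ≤ K ∧ t ∈ K) := by
  classical
  have := Fintype.ofFinite G
  have : Fintype ↥P := Fintype.ofFinite _
  have hp2 : Fact (Nat.Prime 2) := ⟨Nat.prime_two⟩
  have hMp := isPrime_of_isPModular hM
  have hcoef : ∀ χ : IrrCharacter G,
      (Nat.card ↥P : ℂ)⁻¹ * ∑ᶠ y : ↥P, (χ : G → ℂ) (y : G) * θ y⁻¹ = coef P θ χ := fun χ => rfl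
  simp only [hcoef]
  have ht2 : t ^ 2 = 1 := by rw [← ht]; exact pow_orderOf_eq_one t
  have htinv : t⁻¹ = t := by
    rw [inv_eq_iff_mul_eq_one, ← sq]; exact ht2
  -- the vanishing facts
  have hV1 : ∀ b : G, ∑ χ : IrrCharacter G, (if χ ∈ Cfsg.principalBlock M G then
      coef P θ χ * (χ : G → ℂ) (b * t * b⁻¹ * t) else 0) = 0 := fun b =>
    sum_coef_mul_eq_zero M hM P U θ hθU _ (odd_pow_not_conj_tt P hP U hUP t ht hinv b)
  have hV2 : ∑ χ : IrrCharacter G, (if χ ∈ Cfsg.principalBlock M G then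
      coef P θ χ * (χ : G → ℂ) t else 0) = 0 :=
    sum_coef_mul_eq_zero M hM P U θ hθU t (odd_pow_not_conj_t P hP U hUP t ht hinv)
  have hV3 : ∑ χ : IrrCharacter G, (if χ ∈ Cfsg.principalBlock M G then
      coef P θ χ * (χ : G → ℂ) 1 else 0) = 0 := by
    have h := hV1 1
    have h1 : (1 : G) * t * (1 : G)⁻¹ * t = 1 := by
      rw [one_mul, inv_one, mul_one, ← sq, ht2]
    rw [h1] at h
    exact h
  have hV4 : ∑ χ : IrrCharacter G, (if χ ∈ Cfsg.principalBlock M G then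
      coef P θ χ * (χ : G → ℂ) t ^ 2 / (χ : G → ℂ) 1 else 0) = 0 := by
    have hterm : ∀ χ : IrrCharacter G, (if χ ∈ Cfsg.principalBlock M G then
        coef P θ χ * (χ : G → ℂ) t ^ 2 / (χ : G → ℂ) 1 else 0)
        = (Nat.card G : ℂ)⁻¹ * ∑ b : G, (if χ ∈ Cfsg.principalBlock M G then
          coef P θ χ * (χ : G → ℂ) (b * t * b⁻¹ * t) else 0) := by
      intro χ
      by_cases hχ : χ ∈ Cfsg.principalBlock M G
      · simp only [if_pos hχ]
        rw [← Finset.mul_sum]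
        have h1 := irr_sum_conj_mul (χ : G → ℂ) χ.2 t t
        have hχ1 := irr_one_ne_zero χ
        have hG : (Nat.card G : ℂ) ≠ 0 := card_ne_zero_complex
        have h2 : ∑ x : G, (χ : G → ℂ) (x * t * x⁻¹ * t)
            = (Nat.card G : ℂ) * (χ : G → ℂ) t * (χ : G → ℂ) t / (χ : G → ℂ) 1 := by
          rw [eq_div_iff hχ1, mul_comm]; exact h1
        rw [h2]
        field_simp
      · simp only [if_neg hχ]
        simp
    rw [Finset.sum_congr rfl (fun χ _ => hterm χ), ← Finset.mul_sum, Finset.sum_comm,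
      Finset.sum_congr rfl (fun b _ => hV1 b)]
    simp
  have hE1 : ∑ᶠ χ ∈ Cfsg.principalBlock M G,
      coef P θ χ * (χ : G → ℂ) t ^ 2 / (χ : G → ℂ) 1 = 0 := by
    rw [finsum_mem_def, finsum_eq_sum_of_fintype]
    simp only [Set.indicator_apply]
    exact hV4
  have hE2 : ∑ᶠ χ ∈ Cfsg.principalBlock M G, coef P θ χ * (χ : G → ℂ) 1 = 0 := by
    rw [finsum_mem_def, finsum_eq_sum_of_fintype]
    simp only [Set.indicator_apply]
    exact hV3
  have hE3 : ∑ᶠ χ ∈ Cfsg.principalBlock M G, coef P θ χ * (χ : G → ℂ) t = 0 := by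
    rw [finsum_mem_def, finsum_eq_sum_of_fintype]
    simp only [Set.indicator_apply]
    exact hV2
  refine ⟨hE1, hE2, hE3, ?_⟩
  intro hne
  -- reality of the coefficients
  have hθinv : ∀ y : ↥P, θ y⁻¹ = conj (θ y) := by
    obtain ⟨ψ₁, ψ₂, ⟨n₁, ρ₁, rfl⟩, ⟨n₂, ρ₂, rfl⟩, rfl⟩ := hθ
    intro y
    simp only [Pi.sub_apply, map_sub]
    rw [char_inv, char_inv]
  have hreal : ∀ χ : IrrCharacter G, conj (coef P θ χ) = coef P θ χ := by
    intro χ
    rw [coef_eq, map_mul, map_inv₀, map_natCast, map_sum]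
    congr 1
    refine Fintype.sum_equiv (Equiv.inv ↥P) _ _ (fun y => ?_)
    show conj (conj ((χ : G → ℂ) (y : G)) * θ y)
      = conj ((χ : G → ℂ) ((y⁻¹ : ↥P) : G)) * θ y⁻¹
    rw [map_mul, Complex.conj_conj, Subgroup.coe_inv, irr_inv, Complex.conj_conj, hθinv]
  set τ : IrrCharacter G := trivChar G with hτdef
  have hτB : τ ∈ Cfsg.principalBlock M G := trivChar_mem_principalBlock hMp
  have hτ : coef P θ τ ≠ 0 := by
    have h1 : coef P θ τ = (Nat.card ↥P : ℂ)⁻¹ * ∑ᶠ y : ↥P, θ y := by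
      unfold coef
      rw [finsum_eq_sum_of_fintype, finsum_eq_sum_of_fintype]
      congr 1
      refine Fintype.sum_equiv (Equiv.inv ↥P) _ _ (fun y => ?_)
      show (τ : G → ℂ) (y : G) * θ y⁻¹ = θ y⁻¹
      rw [hτdef, trivChar_apply, one_mul]
    rw [h1]; exact hne
  -- real data
  set A : Finset (IrrCharacter G) :=
    Finset.univ.filter (fun χ => χ ∈ Cfsg.principalBlock M G) with hA
  have hmemA : ∀ χ : IrrCharacter G, χ ∈ A ↔ χ ∈ Cfsg.principalBlock M G := by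
    intro χ; rw [hA, Finset.mem_filter]; simp
  set r : IrrCharacter G → ℝ := fun χ => (coef P θ χ).re with hrdef
  set d : IrrCharacter G → ℝ := fun χ => (Cfsg.charDegree (χ : G → ℂ) : ℝ) with hddef
  set s : IrrCharacter G → ℝ := fun χ => ((χ : G → ℂ) t).re with hsdef
  have hr : ∀ χ : IrrCharacter G, coef P θ χ = ((r χ : ℝ) : ℂ) := fun χ =>
    (Complex.conj_eq_iff_re.mp (hreal χ)).symm
  have hd : ∀ χ : IrrCharacter G, (χ : G → ℂ) 1 = ((d χ : ℝ) : ℂ) := by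
    intro χ
    rw [irr_one_eq_charDegree, hddef]
    simp
  have hs : ∀ χ : IrrCharacter G, (χ : G → ℂ) t = ((s χ : ℝ) : ℂ) := by
    intro χ
    have h1 : conj ((χ : G → ℂ) t) = (χ : G → ℂ) t := by
      rw [← irr_inv, htinv]
    exact (Complex.conj_eq_iff_re.mp h1).symm
  have hdpos : ∀ χ : IrrCharacter G, 0 < d χ := by
    intro χ
    show (0 : ℝ) < (Cfsg.charDegree (χ : G → ℂ) : ℝ)
    exact_mod_cast irr_charDegree_pos χ
  have h1R : ∑ χ ∈ A, r χ * d χ = 0 := by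
    have h : ((∑ χ ∈ A, r χ * d χ : ℝ) : ℂ) = 0 := by
      rw [Complex.ofReal_sum, ← hV3, hA, Finset.sum_filter]
      refine Finset.sum_congr rfl (fun χ _ => ?_)
      split_ifs
      · rw [Complex.ofReal_mul, ← hr, ← hd]
      · rfl
    exact_mod_cast h
  have h2R : ∑ χ ∈ A, r χ * s χ = 0 := by
    have h : ((∑ χ ∈ A, r χ * s χ : ℝ) : ℂ) = 0 := by
      rw [Complex.ofReal_sum, ← hV2, hA, Finset.sum_filter]
      refine Finset.sum_congr rfl (fun χ _ => ?_)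
      split_ifs
      · rw [Complex.ofReal_mul, ← hr, ← hs]
      · rfl
    exact_mod_cast h
  have h3R : ∑ χ ∈ A, r χ * s χ ^ 2 / d χ = 0 := by
    have h : ((∑ χ ∈ A, r χ * s χ ^ 2 / d χ : ℝ) : ℂ) = 0 := by
      rw [Complex.ofReal_sum, ← hV4, hA, Finset.sum_filter]
      refine Finset.sum_congr rfl (fun χ _ => ?_)
      split_ifs
      · rw [Complex.ofReal_div, Complex.ofReal_mul, Complex.ofReal_pow, ← hr, ← hs, ← hd]
      · rfl
    exact_mod_cast h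
  have hdτ : d τ = 1 := by
    have h1 : ((d τ : ℝ) : ℂ) = 1 := by
      rw [← hd, hτdef, trivChar_apply]
    exact_mod_cast h1
  have hsτ : s τ = 1 := by
    rw [hsdef]
    show ((τ : G → ℂ) t).re = 1
    rw [hτdef, trivChar_apply]
    simp
  have hrτ : r τ ≠ 0 := by
    intro h0
    apply hτ
    rw [hr, h0]
    simp
  have hτA : τ ∈ A := (hmemA τ).mpr hτB
  by_cases hcount : 2 ≤ Nat.card {χ : Cfsg.IrrCharacter G //
        χ ∈ Cfsg.principalBlock M G ∧ 0 < (coef P θ χ).re} ∧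
      2 ≤ Nat.card {χ : Cfsg.IrrCharacter G //
        χ ∈ Cfsg.principalBlock M G ∧ (coef P θ χ).re < 0}
  · left; exact hcount
  · right
    have key : ∃ (ε : ℝ) (χ₀ : IrrCharacter G), ε ≠ 0 ∧ χ₀ ∈ A ∧
        ∀ χ ∈ A, χ ≠ χ₀ → ε * r χ ≤ 0 := by
      rw [not_and_or] at hcount
      rcases hcount with h | h
      · have hsub : Subsingleton {χ : Cfsg.IrrCharacter G //
            χ ∈ Cfsg.principalBlock M G ∧ 0 < (coef P θ χ).re} :=
          (Finite.card_le_one_iff_subsingleton).mp (by omega)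
        by_cases hex : ∃ χ₀ : IrrCharacter G, χ₀ ∈ Cfsg.principalBlock M G ∧ 0 < r χ₀
        · obtain ⟨χ₀, h0, h0'⟩ := hex
          refine ⟨1, χ₀, one_ne_zero, (hmemA χ₀).mpr h0, ?_⟩
          intro χ hχ hneq
          rw [one_mul]
          by_contra hpos
          push Not at hpos
          have := hsub.elim ⟨χ, (hmemA χ).mp hχ, hpos⟩ ⟨χ₀, h0, h0'⟩
          exact hneq (congrArg Subtype.val this)
        · push Not at hex
          refine ⟨1, τ, one_ne_zero, hτA, ?_⟩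
          intro χ hχ _
          rw [one_mul]
          exact hex χ ((hmemA χ).mp hχ)
      · have hsub : Subsingleton {χ : Cfsg.IrrCharacter G //
            χ ∈ Cfsg.principalBlock M G ∧ (coef P θ χ).re < 0} :=
          (Finite.card_le_one_iff_subsingleton).mp (by omega)
        by_cases hex : ∃ χ₀ : IrrCharacter G, χ₀ ∈ Cfsg.principalBlock M G ∧ r χ₀ < 0
        · obtain ⟨χ₀, h0, h0'⟩ := hex
          refine ⟨-1, χ₀, by norm_num, (hmemA χ₀).mpr h0, ?_⟩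
          intro χ hχ hneq
          by_contra hpos
          push Not at hpos
          have hneg : r χ < 0 := by linarith
          have := hsub.elim ⟨χ, (hmemA χ).mp hχ, hneg⟩ ⟨χ₀, h0, h0'⟩
          exact hneq (congrArg Subtype.val this)
        · push Not at hex
          refine ⟨-1, τ, by norm_num, hτA, ?_⟩
          intro χ hχ _
          have := hex χ ((hmemA χ).mp hχ)
          linarith
    obtain ⟨ε, χ₀, hε0, hχ₀, hle⟩ := key
    have hratio := ratio_lemma A (fun χ => ε * r χ) d s (fun χ _ => hdpos χ)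
      (by
        have : ∑ χ ∈ A, ε * r χ * d χ = ε * ∑ χ ∈ A, r χ * d χ := by
          rw [Finset.mul_sum]; exact Finset.sum_congr rfl (fun χ _ => by ring)
        rw [this, h1R, mul_zero])
      (by
        have : ∑ χ ∈ A, ε * r χ * s χ = ε * ∑ χ ∈ A, r χ * s χ := by
          rw [Finset.mul_sum]; exact Finset.sum_congr rfl (fun χ _ => by ring)
        rw [this, h2R, mul_zero])
      (by
        have : ∑ χ ∈ A, ε * r χ * s χ ^ 2 / d χ = ε * ∑ χ ∈ A, r χ * s χ ^ 2 / d χ := by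
          rw [Finset.mul_sum]; exact Finset.sum_congr rfl (fun χ _ => by ring)
        rw [this, h3R, mul_zero])
      χ₀ hχ₀ hle
    have h1 := hratio τ hτA (mul_ne_zero hε0 hrτ)
    rw [hsτ, hdτ, one_mul, mul_one] at h1
    have hex : ∃ χ₁ ∈ A, χ₁ ≠ τ ∧ r χ₁ ≠ 0 := by
      by_contra hno
      push Not at hno
      have h2 : ∑ χ ∈ A, r χ * d χ = r τ * d τ :=
        Finset.sum_eq_single_of_mem τ hτA (fun χ hχ hneq => by rw [hno χ hχ hneq, zero_mul])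
      rw [h1R, hdτ, mul_one] at h2
      exact hrτ h2.symm
    obtain ⟨χ₁, hχ₁A, hχ₁ne, hrχ₁⟩ := hex
    have h2 := hratio χ₁ hχ₁A (mul_ne_zero hε0 hrχ₁)
    rw [← h1] at h2
    have h3 : s χ₁ = d χ₁ := by
      have hpos := hdpos χ₀
      have : d χ₀ * s χ₁ = d χ₀ * d χ₁ := by linarith
      exact mul_left_cancel₀ hpos.ne' this
    have hker : (χ₁ : G → ℂ) t = (χ₁ : G → ℂ) 1 := by
      rw [hs, hd, h3]
    refine ⟨charKer (χ₁ : G → ℂ) (irr_isCharacter χ₁), inferInstance, ?_, ?_, ?_⟩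
    · obtain ⟨g, hg⟩ := irr_exists_ne_of_ne_triv χ₁ hχ₁ne
      intro htop
      have hmem : g ∈ charKer (χ₁ : G → ℂ) (irr_isCharacter χ₁) := by
        rw [htop]; exact Subgroup.mem_top g
      exact hg hmem
    · intro n hn
      exact pPrimeCore_le_ker_of_mem_principalBlock hM ((hmemA χ₁).mp hχ₁A) n hn
    · exact hker

end Cfsg.Agent.S4722
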