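import Cfsg.Statements.S4720
import Cfsg.Agent.S4722
import Cfsg.Agent.Lib.helper84.PrincipalSection
-- import your own Cfsg.Agent.* helpers here

set_option autoImplicit false
open Cfsg

namespace Cfsg.Agent.S4720

open Cfsg.Agent.Lib.helper81 Cfsg.Agent.Lib.helper20
open scoped ComplexConjugate

universe u

/-- Elements of a `p`-group whose `i`-th powers (`p ∤ i`) are conjugate are conjugate. -/
theorem conj_of_pow_conj {G : Type u} [Group G] (p : ℕ) [Fact p.Prime] (P : Subgroup G)
    (hP : IsPGroup p P) {a b : G} (ha : a ∈ P) (hb : b ∈ P) (g : G) (i : ℕ) (hi : ¬ p ∣ i)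
    (h : g⁻¹ * b ^ i * g = a ^ i) : g⁻¹ * b * g = a := by
  have hp : p.Prime := Fact.out
  obtain ⟨k₁, hk₁⟩ := hP ⟨a, ha⟩
  obtain ⟨k₂, hk₂⟩ := hP ⟨b, hb⟩
  have ha1 : a ^ p ^ k₁ = 1 := by
    have := congrArg Subtype.val hk₁
    simpa using this
  have hb1 : b ^ p ^ k₂ = 1 := by
    have := congrArg Subtype.val hk₂
    simpa using this
  have han : a ^ p ^ (k₁ + k₂) = 1 := by
    rw [pow_add, pow_mul, ha1, one_pow]
  have hbn : b ^ p ^ (k₁ + k₂) = 1 := by
    rw [pow_add, mul_comm, pow_mul, hb1, one_pow]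
  rcases Nat.eq_zero_or_pos (k₁ + k₂) with h0 | hpos
  · rw [h0, pow_zero, pow_one] at han hbn
    rw [han, hbn]
    group
  · have hn1 : 1 < p ^ (k₁ + k₂) := Nat.one_lt_pow hpos.ne' hp.one_lt
    have hcop : Nat.Coprime i (p ^ (k₁ + k₂)) :=
      Nat.Coprime.pow_right _ ((Nat.Prime.coprime_iff_not_dvd hp).mpr hi).symm
    obtain ⟨m, -, hm⟩ := Nat.exists_mul_mod_eq_one_of_coprime hcop hn1
    have hpow : ∀ x : G, x ^ p ^ (k₁ + k₂) = 1 → (x ^ i) ^ m = x := by
      intro x hx
      rw [← pow_mul, ← Nat.div_add_mod (i * m) (p ^ (k₁ + k₂)), hm, pow_add, pow_mul, hx,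
        one_pow, one_mul, pow_one]
    calc g⁻¹ * b * g = g⁻¹ * (b ^ i) ^ m * g := by rw [hpow b hbn]
      _ = (g⁻¹ * b ^ i * g) ^ m := by
          have := conj_pow (a := g⁻¹) (b := b ^ i) (i := m)
          rw [inv_inv] at this
          exact this.symm
      _ = a := by rw [h, hpow a han]

/-- Summation along the fibres of a map. -/
theorem sum_fiber {α β : Type*} [Fintype α] [Fintype β] [DecidableEq β] (φ : α → β)
    (f : β → ℂ) :
    ∑ x : α, f (φ x) = ∑ b : β, ((Finset.univ.filter (fun x => φ x = b)).card : ℂ) * f b := by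
  rw [← Finset.sum_fiberwise (s := Finset.univ) (g := φ) (f := fun x => f (φ x))]
  refine Finset.sum_congr rfl (fun b _ => ?_)
  rw [Finset.sum_congr rfl (fun i hi => by rw [(Finset.mem_filter.mp hi).2] :
    ∀ i ∈ Finset.univ.filter (fun x => φ x = b), f (φ i) = f b), Finset.sum_const, nsmul_eq_mul]

/-- Let p be a prime, M a maximal ideal of the algebraic integers containing p, P a p-subgroup of the finite group G, N a subgroup with P ≤ N ≤ N_G(P), and U a nonempty subset of P normalized by N such that an element of U and an element of P that are conjugate in G are already conjugate in N, and such that λ(C_G(y)) = w·#C_N(y) for every y ∈ U with one rational number w, where λ(X) denotes the sum of the squares of the degrees of the irreducible characters in the principal p-block of X. For a complex function θ on P and χ in the principal block of G put a_χ(θ) = #P⁻¹ Σ_{y ∈ P} χ(y) θ(y⁻¹). Then for generalized characters θ, η of P with θ vanishing outside U, Σ_χ a_χ(θ)·conj(a_χ(η))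 = (w/#P²)·Σ_{y ∈ P} θ(y)·conj(Σ_{x ∈ N} η(x y x⁻¹)) (η extended by zero off P; the conjugates lie in P), the first sum over the principal p-block of G. -/
theorem result {G : Type*} [Group G] [Finite G] (p : ℕ) [Fact p.Prime] (M : Ideal Cfsg.AlgInt) (hM : Cfsg.IsPModular p M) (P : Subgroup G) (hP : IsPGroup p P) (N : Subgroup G) (hPN : P ≤ N) (hNN : N ≤ Subgroup.normalizer (P : Set G)) (U : Set G) (hUne : U.Nonempty) (hUP : U ⊆ (P : Set G)) (hUN : ∀ n ∈ N, ∀ u ∈ U, n * u * n⁻¹ ∈ U) (hfus : ∀ u ∈ U, ∀ g : G, g * u * g⁻¹ ∈ (P : Set G) → ∃ n ∈ N, n * u * n⁻¹ = g * u * g⁻¹) (w : ℚ) (hw : ∀ y ∈ U, ((∑ᶠ ψ ∈ Cfsg.principalBlock M ↥(Subgroup.centralizer ({y} : Set G)), Cfsg.charDegree (ψ : ↥(Subgroup.centralizer ({y} : Set G)) → ℂ) ^ 2) : ℚ) = w * Nat.card ↥(N ⊓ Subgroup.centralizer ({y} : Set G))) (θ η : ↥P → ℂ) (hθ : Cfsg.IsGeneralizedCharacter ↥P θ) (hη : Cfsg.IsGeneralizedCharacter ↥P η) (hθU : ∀ y : ↥P, (y : G) ∉ U → θ y = 0) : ∑ᶠ χ ∈ Cfsg.principalBlock M G, ((Nat.card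 ↥P : ℂ)⁻¹ * ∑ᶠ y : ↥P, (χ : G → ℂ) (y : G) * θ y⁻¹) * (starRingEnd ℂ) ((Nat.card ↥P : ℂ)⁻¹ * ∑ᶠ y : ↥P, (χ : G → ℂ) (y : G) * η y⁻¹) = ((w : ℂ) / ((Nat.card ↥P : ℂ) ^ 2)) * ∑ᶠ y : ↥P, θ y * (starRingEnd ℂ) (∑ᶠ x : ↥N, Cfsg.extendByZero P η ((x : G) * (y : G) * (x : G)⁻¹)) := by
  classical
  have := Fintype.ofFinite G
  have : Fintype ↥P := Fintype.ofFinite _
  have : Fintype ↥N := Fintype.ofFinite _
  have hp : p.Prime := Fact.out
  have hMp := isPrime_of_isPModular hM
  have hcoef : ∀ (φ : ↥P → ℂ) (χ : IrrCharacter G),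
      (Nat.card ↥P : ℂ)⁻¹ * ∑ᶠ y : ↥P, (χ : G → ℂ) (y : G) * φ y⁻¹ = Cfsg.Agent.S4722.coef P φ χ :=
    fun φ χ => rfl
  simp only [hcoef]
  have hconjP : ∀ (x : ↥N) (y : ↥P), (x : G) * (y : G) * (x : G)⁻¹ ∈ P := by
    intro x y
    exact (Subgroup.mem_normalizer_iff.mp (hNN x.2) (y : G)).mp y.2
  obtain ⟨φ, hφ⟩ : ∃ φ : ↥P → ↥N → ↥P, ∀ y x, ((φ y x : ↥P) : G) = (x : G) * (y : G) * (x : G)⁻¹ :=
    ⟨fun y x => ⟨_, hconjP x y⟩, fun y x => rfl⟩
  -- the key evaluation of the block kernel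
  have hkey : ∀ y : ↥P, (y : G) ∈ U → ∀ y' : ↥P,
      ∑ χ : IrrCharacter G, (if χ ∈ principalBlock M G then
        (χ : G → ℂ) (y' : G) * conj ((χ : G → ℂ) (y : G)) else 0)
        = (w : ℂ) * ((Finset.univ.filter (fun x : ↥N => φ y x = y')).card : ℂ) := by
    intro y hyU y'
    by_cases hex : ∃ x : ↥N, φ y x = y'
    · obtain ⟨x₀, hx₀⟩ := hex
      have hx₀G : (x₀ : G) * (y : G) * (x₀ : G)⁻¹ = (y' : G) := by
        rw [← hφ, hx₀]
      have h1 : ∀ χ : IrrCharacter G, (χ : G → ℂ) (y' : G) = (χ : G → ℂ) (y : G) := by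
        intro χ
        rw [← hx₀G]
        exact (irr_conjInv χ _ _ (isConj_iff.mpr ⟨(x₀ : G), rfl⟩)).symm
      simp only [h1]
      have : Fintype (Subgroup.centralizer ({(y : G)} : Set G)) := Fintype.ofFinite _
      have hz : ∃ k : ℕ, orderOf (y : G) = p ^ k := by
        obtain ⟨k, hk⟩ := IsPGroup.iff_orderOf.mp hP y
        exact ⟨k, by rw [Subgroup.orderOf_coe, hk]⟩
      have hsec := Cfsg.Agent.Lib.helper84.sum_principalBlock_section hM (y : G) hz
        (1 : Subgroup.centralizer ({(y : G)} : Set G))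
        (by rw [orderOf_one]; exact fun h => hp.one_lt.ne' (Nat.dvd_one.mp h))
      rw [Subgroup.coe_one, mul_one] at hsec
      rw [hsec]
      have hw' := hw (y : G) hyU
      rw [finsum_mem_def, finsum_eq_sum_of_fintype] at hw'
      simp only [Set.indicator_apply] at hw'
      have hw'' := congrArg (Rat.cast : ℚ → ℂ) hw'
      push_cast at hw''
      -- the fibre
      have hcard : (Finset.univ.filter (fun x : ↥N => φ y x = y')).card
          = Nat.card ↥(N ⊓ Subgroup.centralizer ({(y : G)} : Set G)) := by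
        rw [← Fintype.card_subtype, ← Nat.card_eq_fintype_card]
        apply Nat.card_congr
        refine
          { toFun := fun x => ⟨(x₀ : G)⁻¹ * ((x : ↥N) : G), ?_⟩
            invFun := fun c => ⟨⟨(x₀ : G) * (c : G), N.mul_mem x₀.2 (Subgroup.mem_inf.mp c.2).1⟩, ?_⟩
            left_inv := ?_
            right_inv := ?_ }
        · refine Subgroup.mem_inf.mpr ⟨N.mul_mem (N.inv_mem x₀.2) x.1.2, ?_⟩
          rw [Subgroup.mem_centralizer_singleton_iff]
          have hx : ((x : ↥N) : G) * (y : G) * ((x : ↥N) : G)⁻¹ = (y' : G) := by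
            rw [← hφ, x.2]
          have hy1 : (y : G) = (x₀ : G)⁻¹ * (y' : G) * (x₀ : G) := by
            rw [← hx₀G]; group
          have hy2 : (y : G) * ((x : ↥N) : G)⁻¹ = ((x : ↥N) : G)⁻¹ * (y' : G) := by
            rw [← hx]; group
          calc (x₀ : G)⁻¹ * ((x : ↥N) : G) * (y : G)
              = (x₀ : G)⁻¹ * (((x : ↥N) : G) * (y : G) * ((x : ↥N) : G)⁻¹) * ((x : ↥N) : G) := by
                group
            _ = (x₀ : G)⁻¹ * (y' : G) * ((x : ↥N) : G) := by rw [hx]
            _ = ((x₀ : G)⁻¹ * (y' : G) * (x₀ : G)) * ((x₀ : G)⁻¹ * ((x : ↥N) : G)) := by group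
            _ = (y : G) * ((x₀ : G)⁻¹ * ((x : ↥N) : G)) := by rw [← hy1]
        · apply Subtype.ext
          rw [hφ]
          have hc : (c : G) * (y : G) = (y : G) * (c : G) :=
            Subgroup.mem_centralizer_singleton_iff.mp (Subgroup.mem_inf.mp c.2).2
          show (x₀ : G) * (c : G) * (y : G) * ((x₀ : G) * (c : G))⁻¹ = (y' : G)
          rw [← hx₀G]
          calc (x₀ : G) * (c : G) * (y : G) * ((x₀ : G) * (c : G))⁻¹
              = (x₀ : G) * ((c : G) * (y : G)) * (c : G)⁻¹ * (x₀ : G)⁻¹ := by group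
            _ = (x₀ : G) * (y : G) * (x₀ : G)⁻¹ := by rw [hc]; group
        · intro x
          apply Subtype.ext
          apply Subtype.ext
          show (x₀ : G) * ((x₀ : G)⁻¹ * ((x : ↥N) : G)) = ((x : ↥N) : G)
          group
        · intro c
          apply Subtype.ext
          show (x₀ : G)⁻¹ * ((x₀ : G) * (c : G)) = (c : G)
          group
      rw [hcard, ← hw'']
      refine Finset.sum_congr rfl (fun χ _ => ?_)
      split_ifs
      · rw [irr_one_eq_charDegree, Complex.conj_natCast]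
        push_cast
        ring
      · simp
    · have hfib : Finset.univ.filter (fun x : ↥N => φ y x = y') = ∅ := by
        rw [Finset.filter_eq_empty_iff]
        intro x _ hx
        exact hex ⟨x, hx⟩
      rw [hfib, Finset.card_empty, Nat.cast_zero, mul_zero]
      apply Cfsg.Agent.Lib.helper84.block_orthogonality' hM
        (isPBlock_principalBlock (M := M) (G := G)) (y' : G) (y : G)
      intro g i hgi
      by_contra hpi
      have hc := conj_of_pow_conj p P hP y.2 y'.2 g i hpi hgi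
      have hy' : g * (y : G) * g⁻¹ = (y' : G) := by rw [← hc]; group
      obtain ⟨n, hn, hn'⟩ := hfus (y : G) hyU g (by rw [hy']; exact y'.2)
      apply hex
      refine ⟨⟨n, hn⟩, ?_⟩
      apply Subtype.ext
      rw [hφ, ← hy']
      exact hn'
  -- the inner sum of the right-hand side
  have hR : ∀ y : ↥P, ∑ᶠ x : ↥N, Cfsg.extendByZero P η ((x : G) * (y : G) * (x : G)⁻¹)
      = ∑ y' : ↥P, ((Finset.univ.filter (fun x : ↥N => φ y x = y')).card : ℂ) * η y' := by
    intro y
    rw [finsum_eq_sum_of_fintype, ← sum_fiber (φ y) η]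
    refine Finset.sum_congr rfl (fun x _ => ?_)
    rw [← hφ y x]
    exact Function.Injective.extend_apply Subtype.val_injective η 0 (φ y x)
  -- the left-hand side as a double sum over `P`
  have hL : ∑ᶠ χ ∈ principalBlock M G,
        Cfsg.Agent.S4722.coef P θ χ * conj (Cfsg.Agent.S4722.coef P η χ)
      = ((Nat.card ↥P : ℂ)⁻¹) ^ 2 * ∑ y : ↥P, θ y * ∑ y' : ↥P, conj (η y') *
          ∑ χ : IrrCharacter G, (if χ ∈ principalBlock M G then
            (χ : G → ℂ) (y' : G) * conj ((χ : G → ℂ) (y : G)) else 0) := by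
    rw [finsum_mem_def, finsum_eq_sum_of_fintype]
    simp only [Set.indicator_apply]
    have h1 : ∀ χ : IrrCharacter G, (if χ ∈ principalBlock M G then
          Cfsg.Agent.S4722.coef P θ χ * conj (Cfsg.Agent.S4722.coef P η χ) else 0)
        = ((Nat.card ↥P : ℂ)⁻¹) ^ 2 * ∑ y : ↥P, θ y * ∑ y' : ↥P, conj (η y') *
            (if χ ∈ principalBlock M G then
              (χ : G → ℂ) (y' : G) * conj ((χ : G → ℂ) (y : G)) else 0) := by
      intro χ
      by_cases hχ : χ ∈ principalBlock M G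
      · simp only [if_pos hχ]
        rw [Cfsg.Agent.S4722.coef_eq, Cfsg.Agent.S4722.coef_eq, map_mul, map_inv₀,
          Complex.conj_natCast, map_sum]
        simp only [map_mul, Complex.conj_conj]
        rw [mul_mul_mul_comm, ← sq, Finset.sum_mul_sum]
        congr 1
        refine Finset.sum_congr rfl (fun y _ => ?_)
        rw [Finset.mul_sum]
        refine Finset.sum_congr rfl (fun y' _ => ?_)
        ring
      · simp only [if_neg hχ]
        simp
    rw [Finset.sum_congr rfl (fun χ _ => h1 χ), ← Finset.mul_sum]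
    congr 1
    rw [Finset.sum_comm]
    refine Finset.sum_congr rfl (fun y _ => ?_)
    rw [← Finset.mul_sum]
    congr 1
    rw [Finset.sum_comm]
    refine Finset.sum_congr rfl (fun y' _ => ?_)
    rw [← Finset.mul_sum]
  rw [hL]
  simp only [hR]
  rw [finsum_eq_sum_of_fintype]
  rw [div_eq_mul_inv, ← inv_pow, mul_comm (w : ℂ), mul_assoc]
  congr 1
  rw [Finset.mul_sum]
  refine Finset.sum_congr rfl (fun y _ => ?_)
  by_cases hyU : (y : G) ∈ U
  · have h2 : ∑ y' : ↥P, conj (η y') *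
          ∑ χ : IrrCharacter G, (if χ ∈ principalBlock M G then
            (χ : G → ℂ) (y' : G) * conj ((χ : G → ℂ) (y : G)) else 0)
        = (w : ℂ) * conj (∑ y' : ↥P,
            ((Finset.univ.filter (fun x : ↥N => φ y x = y')).card : ℂ) * η y') := by
      rw [map_sum, Finset.mul_sum]
      refine Finset.sum_congr rfl (fun y' _ => ?_)
      rw [hkey y hyU y', map_mul, Complex.conj_natCast]
      ring
    rw [h2]
    ring
  · rw [hθU y hyU]
    simp

end Cfsg.Agent.S4720
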