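import Cfsg.Statements.S0228
import Cfsg.Agent.Lib.helper6.PSLPerm
import Cfsg.Agent.Lib.helper6.BrauerFowler
import Cfsg.Agent.Lib.helper11.SmallSimple

set_option autoImplicit false
open Cfsg

namespace Cfsg.Agent.S0228

open Cfsg.Agent.Lib.helper6

/-- A group of order 12 in which no involution is central is isomorphic to the alternating group on four letters. -/
theorem result {G : Type*} [Group G] [Finite G] (hG : Nat.card G = 12) (hz : ∀ z : G, orderOf z = 2 → z ∉ Subgroup.center G) : Nonempty (G ≃* alternatingGroup (Fin 4)) := by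
  classical
  haveI : Fact (Nat.Prime 2) := ⟨Nat.prime_two⟩
  haveI : Fact (Nat.Prime 3) := ⟨Nat.prime_three⟩
  obtain ⟨P⟩ : Nonempty (Sylow 3 G) := inferInstance
  obtain ⟨hPcard, hPidx⟩ :=
    Cfsg.Agent.Lib.helper11.card_sylow_of_card_eq 3 1 4 (by norm_num) (by rw [hG]; norm_num) P
  rw [pow_one] at hPcard
  have hdvd := P.card_dvd_index
  rw [hPidx] at hdvd
  have hmod : Nat.card (Sylow 3 G) % 3 = 1 := card_sylow_modEq_one 3 G
  have hn3 : Nat.card (Sylow 3 G) = 1 ∨ Nat.card (Sylow 3 G) = 4 := by
    have hle := Nat.le_of_dvd (by norm_num) hdvd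
    omega
  rcases hn3 with h1 | h4
  · exfalso
    haveI : Subsingleton (Sylow 3 G) := (Finite.card_le_one_iff_subsingleton).1 (by omega)
    have hPn : (P : Subgroup G).Normal := P.normal_of_subsingleton
    obtain ⟨a, haP, ha3⟩ : ∃ a : G, a ∈ P ∧ orderOf a = 3 := by
      have h3 : 3 ∣ Nat.card P := by rw [hPcard]
      obtain ⟨x, hx⟩ := exists_prime_orderOf_dvd_card' (G := P) 3 h3
      exact ⟨x.1, x.2, (Subgroup.orderOf_coe x).trans hx⟩
    have ha1 : a ≠ 1 := by
      intro h
      rw [h, orderOf_one] at ha3
      omega
    have ha2 : a ^ 2 ≠ 1 := by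
      intro h
      have := orderOf_dvd_of_pow_eq_one h
      rw [ha3] at this
      omega
    have hPz : Subgroup.zpowers a = (P : Subgroup G) :=
      Subgroup.eq_of_le_of_card_ge (Subgroup.zpowers_le.2 haP) (by rw [Nat.card_zpowers, ha3, hPcard])
    -- every conjugate of a is a or a⁻¹
    have hconj : ∀ g : G, g * a * g⁻¹ = a ∨ g * a * g⁻¹ = a⁻¹ := by
      intro g
      have hmem : g * a * g⁻¹ ∈ Subgroup.zpowers a := by
        rw [hPz]; exact hPn.conj_mem a haP g
      rw [mem_zpowers_iff_mem_range_orderOf, ha3] at hmem
      simp only [Finset.mem_image, Finset.mem_range] at hmem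
      obtain ⟨k, hk, hk'⟩ := hmem
      interval_cases k
      · exfalso
        rw [pow_zero] at hk'
        apply ha1
        have : a = g⁻¹ * (g * a * g⁻¹) * g := by group
        rw [this, ← hk']; group
      · left; rw [← hk', pow_one]
      · right
        rw [← hk']
        have h3 : a ^ 3 = 1 := by rw [← ha3]; exact pow_orderOf_eq_one a
        rw [eq_inv_iff_mul_eq_one, ← pow_succ]
        exact h3
    -- the centralizer of a has even order
    have hCeven : Even (Nat.card (Subgroup.centralizer ({a} : Set G))) := by
      by_cases hreal : IsConj a a⁻¹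
      · have h1 := card_extCentralizer a ha2 hreal
        have h2 : extCentralizer a = ⊤ := by
          rw [eq_top_iff]
          intro g _
          exact hconj g
        rw [h2, Subgroup.card_top, hG] at h1
        have : Nat.card (Subgroup.centralizer ({a} : Set G)) = 6 := by omega
        rw [this]; decide
      · have h2 : Subgroup.centralizer ({a} : Set G) = ⊤ := by
          rw [eq_top_iff]
          intro g _
          rw [Subgroup.mem_centralizer_singleton_iff]
          rcases hconj g with h | h
          · have : g * a = (g * a * g⁻¹) * g := by group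
            rw [this, h]
          · exact absurd (isConj_iff.2 ⟨g, h⟩) hreal
        rw [h2, Subgroup.card_top, hG]; decide
    obtain ⟨t, htC, ht⟩ := exists_involution_mem_of_even _ hCeven
    rw [Subgroup.mem_centralizer_singleton_iff] at htC
    have hzp : IsPGroup 2 (Subgroup.zpowers t) :=
      IsPGroup.of_card (n := 1) (by rw [Nat.card_zpowers, ht]; rfl)
    obtain ⟨T, hT⟩ := hzp.exists_le_sylow
    have htT : t ∈ T := hT (Subgroup.mem_zpowers t)
    obtain ⟨hTcard, -⟩ :=
      Cfsg.Agent.Lib.helper11.card_sylow_of_card_eq 2 2 3 (by norm_num) (by rw [hG]; norm_num) T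
    have hTcomm := IsPGroup.commutative_of_card_eq_prime_sq hTcard
    have hTle : (T : Subgroup G) ≤ Subgroup.centralizer ({t} : Set G) := by
      intro u hu
      rw [Subgroup.mem_centralizer_singleton_iff]
      have := hTcomm ⟨u, hu⟩ ⟨t, htT⟩
      exact congrArg Subtype.val this
    have haC : a ∈ Subgroup.centralizer ({t} : Set G) := by
      rw [Subgroup.mem_centralizer_singleton_iff]
      exact htC.symm
    have h4 : 4 ∣ Nat.card (Subgroup.centralizer ({t} : Set G)) := by
      have := Subgroup.card_dvd_of_le hTle
      rwa [hTcard] at this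
    have h3 : 3 ∣ Nat.card (Subgroup.centralizer ({t} : Set G)) := by
      have := Subgroup.orderOf_dvd_natCard _ haC
      rwa [ha3] at this
    have h12 : 12 ∣ Nat.card (Subgroup.centralizer ({t} : Set G)) :=
      Nat.Coprime.mul_dvd_of_dvd_of_dvd (by norm_num : Nat.Coprime 4 3) h4 h3
    have hle : Nat.card (Subgroup.centralizer ({t} : Set G)) ≤ 12 := by
      have := Subgroup.card_subgroup_dvd_card (Subgroup.centralizer ({t} : Set G))
      rw [hG] at this
      exact Nat.le_of_dvd (by norm_num) this
    have hCt : Subgroup.centralizer ({t} : Set G) = ⊤ := by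
      apply Subgroup.eq_top_of_card_eq
      rw [hG]
      have := Nat.le_of_dvd Nat.card_pos h12
      omega
    apply hz t ht
    rw [Subgroup.mem_center_iff]
    intro g
    have : g ∈ Subgroup.centralizer ({t} : Set G) := hCt ▸ Subgroup.mem_top g
    rw [Subgroup.mem_centralizer_singleton_iff] at this
    exact this
  · have e : Sylow 3 G ≃ Fin 4 := Finite.equivFinOfCardEq h4
    have hφ : Function.Injective ((e.permCongrHom).toMonoidHom.comp
        (MulAction.toPermHom G (Sylow 3 G))) := by
      apply (e.permCongrHom).injective.comp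
      rw [← MonoidHom.ker_eq_bot_iff, Subgroup.eq_bot_iff_forall]
      intro g hg
      rw [MonoidHom.mem_ker] at hg
      have hfix : ∀ Q : Sylow 3 G, g • Q = Q := by
        intro Q
        have := congrArg (fun σ : Equiv.Perm (Sylow 3 G) => σ Q) hg
        simpa using this
      have hmem : ∀ Q : Sylow 3 G, g ∈ (Q : Subgroup G) := by
        intro Q
        have h1 : g ∈ Subgroup.normalizer ((Q : Subgroup G) : Set G) :=
          Sylow.smul_eq_iff_mem_normalizer.1 (hfix Q)
        have hQ := Cfsg.Agent.Lib.helper11.card_sylow_of_card_eq 3 1 4 (by norm_num)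
          (by rw [hG]; norm_num) Q
        have hNidx : (Subgroup.normalizer ((Q : Subgroup G) : Set G)).index = 4 := by
          have := Sylow.card_eq_index_normalizer Q
          rw [h4] at this
          exact this.symm
        have hNcard : Nat.card (Subgroup.normalizer ((Q : Subgroup G) : Set G)) = 3 := by
          have := Subgroup.card_mul_index (Subgroup.normalizer ((Q : Subgroup G) : Set G))
          rw [hNidx, hG] at this
          omega
        have hQN : (Q : Subgroup G) = Subgroup.normalizer ((Q : Subgroup G) : Set G) :=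
          Subgroup.eq_of_le_of_card_ge Subgroup.le_normalizer (by rw [hNcard, hQ.1]; norm_num)
        exact hQN ▸ h1
      by_contra hg1
      haveI : Nontrivial (Sylow 3 G) := Finite.one_lt_card_iff_nontrivial.1 (by omega)
      obtain ⟨Q₁, Q₂, hne⟩ := exists_pair_ne (Sylow 3 G)
      apply hne
      have key : ∀ Q : Sylow 3 G, (Q : Subgroup G) = Subgroup.zpowers g := by
        intro Q
        have hQ := Cfsg.Agent.Lib.helper11.card_sylow_of_card_eq 3 1 4 (by norm_num)
          (by rw [hG]; norm_num) Q
        symm
        apply Subgroup.eq_of_le_of_card_ge (Subgroup.zpowers_le.2 (hmem Q))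
        rw [hQ.1, Nat.card_zpowers]
        have hd : orderOf g ∣ 3 := by
          have := Subgroup.orderOf_dvd_natCard (Q : Subgroup G) (hmem Q)
          rwa [hQ.1, pow_one] at this
        have h1 : orderOf g ≠ 1 := fun h => hg1 (orderOf_eq_one_iff.1 h)
        have := (Nat.dvd_prime Nat.prime_three).1 hd
        omega
      exact Sylow.ext ((key Q₁).trans (key Q₂).symm)
    exact nonempty_mulEquiv_alternatingGroup_of_injective_of_card _ hφ (by rw [hG]; rfl)

end Cfsg.Agent.S0228
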