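import Cfsg.Statements.S5394
import Cfsg.Agent.Lib.helper94.M24Pow
import Cfsg.Agent.Lib.helper94.M24Octads

set_option autoImplicit false
open Cfsg

open Cfsg.Agent.Lib.helper94

namespace Cfsg.Agent.S5394

open scoped Pointwise

set_option maxRecDepth 100000

theorem data_ok : powOne X2A 2 = true ∧ powOne X2B 2 = true ∧
    allBelow (fun i => (Nat.beq (imgAt X2A i) i) == (7612992 : ℕ).testBit i) 24 = true ∧
    isCode 7612992 = true ∧ popc 7612992 = 8 := by
  decide +kernel

theorem hvA : validPerm X2A = true := repsElts_ok.2.2.1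

theorem hvB : validPerm X2B = true := repsElts_ok.2.2.2.1

theorem hMA : tperm X2A ∈ M24 := tperm_mem_M24 repsElts_ok.2.2.2.2.2.2.1

theorem hMB : tperm X2B ∈ M24 := tperm_mem_M24 repsElts_ok.2.2.2.2.2.2.2.1

theorem fixA : fixCnt X2A = 8 := repsElts_ok.2.2.2.2.2.2.2.2.2.2.1

theorem fixB : fixCnt X2B = 0 := repsElts_ok.2.2.2.2.2.2.2.2.2.2.2

/-- The fixed points of the first representative form an octad. -/
theorem fixedA : (Finset.univ.filter fun p => tperm X2A p = p) = Lib.helper94.setOf 7612992 := by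
  ext p
  rw [Finset.mem_filter, mem_setOf, tperm_eq_iff hvA]
  have h := (allBelow_iff _ _).mp data_ok.2.2.1 (ptIdx p) (ptIdx_lt p)
  rw [beq_iff_eq] at h
  constructor
  · rintro ⟨-, hp⟩
    rw [← h, hp]
    exact Nat.beq_refl _
  · intro hp
    rw [hp] at h
    exact ⟨Finset.mem_univ _, Nat.eq_of_beq_eq_true h⟩

theorem fixed_conj (c x : Equiv.Perm GolayPt) :
    (Finset.univ.filter fun p => (c * x * c⁻¹) p = p)
      = c • (Finset.univ.filter fun p => x p = p) := by
  ext q
  rw [← Finset.inv_smul_mem_iff, Finset.mem_filter, Finset.mem_filter]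
  simp only [Finset.mem_univ, true_and, Equiv.Perm.mul_apply]
  constructor
  · intro h
    show x (c⁻¹ q) = c⁻¹ q
    apply c.injective
    rw [h]
    simp
  · intro h
    have h' : x (c⁻¹ q) = c⁻¹ q := h
    rw [h']
    simp

theorem fpf_of_fixCnt {E : ℕ} (hv : validPerm E = true) (h : fixCnt E = 0)
    (c : Equiv.Perm GolayPt) : ∀ p, (c * tperm E * c⁻¹) p ≠ p := by
  intro p hp
  have h1 : (Finset.univ.filter fun p => (c * tperm E * c⁻¹) p = p).card = 0 := by
    rw [card_fixed_conj, card_fixed_tperm hv, h]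
  rw [Finset.card_eq_zero, Finset.filter_eq_empty_iff] at h1
  exact h1 (Finset.mem_univ p) hp

theorem not_fpf_of_fixCnt {E : ℕ} (hv : validPerm E = true) (h : fixCnt E = 8)
    (c : Equiv.Perm GolayPt) : ¬ ∀ p, (c * tperm E * c⁻¹) p ≠ p := by
  intro hall
  have h1 : (Finset.univ.filter fun p => (c * tperm E * c⁻¹) p = p).card = 8 := by
    rw [card_fixed_conj, card_fixed_tperm hv, h]
  have h0 : (Finset.univ.filter fun p => (c * tperm E * c⁻¹) p = p) = ∅ :=
    Finset.filter_eq_empty_iff.mpr fun p _ => hall p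
  rw [h0] at h1
  simp at h1

theorem order2 {E : ℕ} (hv : validPerm E = true) (hp : powOne E 2 = true) {n : ℕ}
    (hf : fixCnt E = n) (hn : n ≠ 24) : orderOf (tperm E) = 2 := by
  apply orderOf_eq_prime ((powOne_iff hv 2).mp hp)
  intro h1
  have := card_fixed_tperm hv
  rw [h1, hf] at this
  simp only [Equiv.Perm.coe_one, id_eq, Finset.filter_true, Finset.card_univ] at this
  rw [card_golayPt] at this
  exact hn this.symm

theorem octA : (Finset.univ.filter fun p => tperm X2A p = p) ∈ octads := by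
  rw [fixedA]
  exact (mem_wordsOfWeight_iff _ 8).mpr ⟨_, by norm_num, data_ok.2.2.2.1, data_ok.2.2.2.2, rfl⟩


/-- The automorphism group of the length-24 code built from the squares modulo 23 has exactly two conjugacy classes of involutions: an involution either fixes exactly the eight points of an octad or has no fixed points, both kinds occur, and any two involutions of the same kind are conjugate in the group. -/
theorem result : (∀ g ∈ Cfsg.M24, orderOf g = 2 → (Finset.univ.filter fun p => g p = p) ∈ Cfsg.octads ∨ ∀ p, g p ≠ p) ∧ (∃ g ∈ Cfsg.M24, orderOf g = 2 ∧ (Finset.univ.filter fun p => g p = p) ∈ Cfsg.octads) ∧ (∃ g ∈ Cfsg.M24, orderOf g = 2 ∧ ∀ p, g p ≠ p) ∧ ∀ g ∈ Cfsg.M24, ∀ h ∈ Cfsg.M24, orderOf g = 2 → orderOf h = 2 → ((∀ p, g p ≠ p) ↔ (∀ p, h p ≠ p)) → ∃ k ∈ Cfsg.M24, k * g * k⁻¹ = h := by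
  refine ⟨?_, ?_, ?_, ?_⟩
  · intro g hg h2
    obtain ⟨X, hX, c, hc, rfl⟩ := order2_class g hg h2
    simp only [List.mem_cons, List.not_mem_nil, or_false] at hX
    rcases hX with rfl | rfl
    · left
      rw [fixed_conj]
      exact smul_mem_octads hc octA
    · right
      exact fpf_of_fixCnt hvB fixB c
  · exact ⟨tperm X2A, hMA, order2 hvA data_ok.1 fixA (by norm_num), octA⟩
  · refine ⟨tperm X2B, hMB, order2 hvB data_ok.2.1 fixB (by norm_num), ?_⟩
    have := fpf_of_fixCnt hvB fixB 1
    simpa using this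
  · intro g hg h hh hg2 hh2 hiff
    obtain ⟨X, hX, c, hc, rfl⟩ := order2_class g hg hg2
    obtain ⟨Y, hY, d, hd, rfl⟩ := order2_class h hh hh2
    simp only [List.mem_cons, List.not_mem_nil, or_false] at hX hY
    have hXY : X = Y := by
      rcases hX with rfl | rfl <;> rcases hY with rfl | rfl
      · rfl
      · exact absurd (hiff.mpr (fpf_of_fixCnt hvB fixB d)) (not_fpf_of_fixCnt hvA fixA c)
      · exact absurd (hiff.mp (fpf_of_fixCnt hvB fixB c)) (not_fpf_of_fixCnt hvA fixA d)
      · rfl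
    subst hXY
    refine ⟨d * c⁻¹, M24.mul_mem hd (M24.inv_mem hc), ?_⟩
    group

end Cfsg.Agent.S5394
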