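import Cfsg.Statements.S1555
import Cfsg.Agent.Lib.helper33.GolayBridge

set_option autoImplicit false
open scoped Pointwise
open Cfsg

namespace Cfsg.Agent.S1555

open Finset Cfsg.Agent.Lib.helper33 Cfsg.Agent.Lib.helper94

/-- The number `λ` of octads through a set `I` of at most 5 points:
`λ * C(8 - |I|, 5 - |I|) = C(24 - |I|, 5 - |I|)`. -/
theorem card_octF_supset (I : Finset Cfsg.GolayPt) (hI : I.card ≤ 5) :
    (octF.filter (fun b => I ⊆ b)).card * (8 - I.card).choose (5 - I.card) =
      (24 - I.card).choose (5 - I.card) := by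
  classical
  have h := Cfsg.Agent.Lib.helper8.steiner_count golay_steiner I hI
  rw [golayPt_card] at h
  have e : (Finset.univ.filter (· ∈ Cfsg.octads)) = octF := by
    ext b; simp [mem_octF]
  rw [e] at h
  exact h

/-- Exactly 5 octads contain a given 4-set. -/
theorem card_octF_supset4 (I : Finset Cfsg.GolayPt) (hI : I.card = 4) :
    (octF.filter (fun b => I ⊆ b)).card = 5 := by
  have h := card_octF_supset I (by omega)
  rw [hI] at h
  norm_num [Nat.choose] at h
  omega

/-- Exactly 77 octads contain a given pair. -/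
theorem card_octF_supset2 (I : Finset Cfsg.GolayPt) (hI : I.card = 2) :
    (octF.filter (fun b => I ⊆ b)).card = 77 := by
  have h := card_octF_supset I (by omega)
  rw [hI] at h
  have h1 : Nat.choose 6 3 = 20 := by decide
  have h2 : Nat.choose 22 3 = 1540 := by decide
  norm_num at h
  rw [h1, h2] at h
  omega

/-- An octad is met in a prescribed 4-subset by exactly 4 octads. -/
theorem card_inter_eq4 {o : Finset Cfsg.GolayPt} (ho : o ∈ Cfsg.octads) {t : Finset Cfsg.GolayPt}
    (ht : t ⊆ o) (ht4 : t.card = 4) : (octF.filter (fun o' => o ∩ o' = t)).card = 4 := by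
  classical
  have ho8 := ((mem_octads o).1 ho).2
  have h5 := card_octF_supset4 t ht4
  have e : octF.filter (fun b => t ⊆ b) = insert o (octF.filter (fun o' => o ∩ o' = t)) := by
    ext o'
    simp only [Finset.mem_filter, Finset.mem_insert, mem_octF]
    constructor
    · rintro ⟨ho', hto'⟩
      by_cases hoo' : o' = o
      · exact Or.inl hoo'
      · right
        refine ⟨ho', ?_⟩
        have hsub : t ⊆ o ∩ o' := Finset.subset_inter ht hto'
        have hle := Finset.card_le_card hsub
        rcases octads_inter ho ho' (fun h => hoo' h.symm) with h | h | h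
        · omega
        · omega
        · exact (Finset.eq_of_subset_of_card_le hsub (by omega)).symm
    · rintro (rfl | ⟨ho', hi⟩)
      · exact ⟨ho, ht⟩
      · refine ⟨ho', ?_⟩
        rw [← hi]; exact Finset.inter_subset_right
  have hnot : o ∉ octF.filter (fun o' => o ∩ o' = t) := by
    simp only [Finset.mem_filter, Finset.inter_self, not_and]
    intro _ h
    rw [h] at ho8
    omega
  rw [e, Finset.card_insert_of_notMem hnot] at h5
  omega

/-- An octad is met in a prescribed pair by exactly 16 octads. -/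
theorem card_inter_eq2 {o : Finset Cfsg.GolayPt} (ho : o ∈ Cfsg.octads) {s : Finset Cfsg.GolayPt}
    (hs : s ⊆ o) (hs2 : s.card = 2) : (octF.filter (fun o' => o ∩ o' = s)).card = 16 := by
  classical
  have ho8 := ((mem_octads o).1 ho).2
  have h77 := card_octF_supset2 s hs2
  set T : Finset (Finset Cfsg.GolayPt) := (Finset.powersetCard 4 o).filter (fun t => s ⊆ t) with hT
  have hTcard : T.card = 15 := by
    rw [hT, Cfsg.Agent.Lib.helper8.card_sandwich s o hs 4 (by omega), ho8, hs2]
    decide
  have hTmem : ∀ t, t ∈ T ↔ (t ⊆ o ∧ t.card = 4) ∧ s ⊆ t := by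
    intro t
    simp only [hT, Finset.mem_filter, Finset.mem_powersetCard]
  have hsT : s ∉ T := by
    rw [hTmem]
    rintro ⟨⟨-, h4⟩, -⟩
    omega
  have hoT : o ∉ insert s T := by
    rw [Finset.mem_insert, hTmem]
    rintro (h | ⟨⟨-, h4⟩, -⟩)
    · rw [h] at ho8; omega
    · omega
  have hmaps : ∀ o' ∈ octF.filter (fun b => s ⊆ b), o ∩ o' ∈ insert o (insert s T) := by
    intro o' ho'
    simp only [Finset.mem_filter, mem_octF] at ho'
    obtain ⟨ho', hso'⟩ := ho'
    have hsub : s ⊆ o ∩ o' := Finset.subset_inter hs hso'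
    have hle := Finset.card_le_card hsub
    simp only [Finset.mem_insert, hTmem]
    by_cases hoo' : o' = o
    · left; rw [hoo', Finset.inter_self]
    · right
      rcases octads_inter ho ho' (fun h => hoo' h.symm) with h | h | h
      · omega
      · left
        exact (Finset.eq_of_subset_of_card_le hsub (by omega)).symm
      · right
        exact ⟨⟨Finset.inter_subset_left, h⟩, hsub⟩
  have h := Finset.card_eq_sum_card_fiberwise hmaps
  rw [Finset.sum_insert hoT, Finset.sum_insert hsT] at h
  have e1 : (octF.filter (fun b => s ⊆ b)).filter (fun o' => o ∩ o' = o) = {o} := by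
    ext o'
    simp only [Finset.mem_filter, mem_octF, Finset.mem_singleton]
    constructor
    · rintro ⟨⟨ho', -⟩, hi⟩
      have ho'8 := ((mem_octads o').1 ho').2
      have hsub : o ⊆ o' := by rw [← hi]; exact Finset.inter_subset_right
      exact (Finset.eq_of_subset_of_card_le hsub (by omega)).symm
    · rintro rfl
      exact ⟨⟨ho, hs⟩, Finset.inter_self _⟩
  have e2 : (octF.filter (fun b => s ⊆ b)).filter (fun o' => o ∩ o' = s) = octF.filter (fun o' => o ∩ o' = s) := by
    ext o'
    simp only [Finset.mem_filter, mem_octF]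
    constructor
    · rintro ⟨⟨ho', -⟩, hi⟩; exact ⟨ho', hi⟩
    · rintro ⟨ho', hi⟩
      refine ⟨⟨ho', ?_⟩, hi⟩
      rw [← hi]; exact Finset.inter_subset_right
  have e3 : ∀ t ∈ T, ((octF.filter (fun b => s ⊆ b)).filter (fun o' => o ∩ o' = t)).card = 4 := by
    intro t ht
    rw [hTmem] at ht
    rw [← card_inter_eq4 ho ht.1.1 ht.1.2]
    congr 1
    ext o'
    simp only [Finset.mem_filter, mem_octF]
    constructor
    · rintro ⟨⟨ho', -⟩, hi⟩; exact ⟨ho', hi⟩
    · rintro ⟨ho', hi⟩
      refine ⟨⟨ho', ?_⟩, hi⟩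
      exact ht.2.trans (by rw [← hi]; exact Finset.inter_subset_right)
  rw [e1, e2, Finset.sum_congr rfl e3, Finset.sum_const, hTcard, h77, Finset.card_singleton] at h
  simp only [smul_eq_mul] at h
  omega

theorem set_eq (o s : Finset Cfsg.GolayPt) :
    {o' : Finset Cfsg.GolayPt | o' ∈ Cfsg.octads ∧ o ∩ o' = s} = ↑(octF.filter (fun o' => o ∩ o' = s)) := by
  ext o'
  simp [mem_octF]

/-- Bottom row of the Leech triangle: an octad is met in a prescribed pair of its points by exactly 16 octads and in a prescribed 4-subset by exactly 4 octads. -/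
theorem result (o : Finset Cfsg.GolayPt) (ho : o ∈ Cfsg.octads) (s : Finset Cfsg.GolayPt) (hs : s ⊆ o) : (s.card = 2 → {o' : Finset Cfsg.GolayPt | o' ∈ Cfsg.octads ∧ o ∩ o' = s}.ncard = 16) ∧ (s.card = 4 → {o' : Finset Cfsg.GolayPt | o' ∈ Cfsg.octads ∧ o ∩ o' = s}.ncard = 4) := by
  refine ⟨fun h2 => ?_, fun h4 => ?_⟩
  · rw [set_eq, Set.ncard_coe_finset]; exact card_inter_eq2 ho hs h2
  · rw [set_eq, Set.ncard_coe_finset]; exact card_inter_eq4 ho hs h4

end Cfsg.Agent.S1555
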