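import Cfsg.Statements.S5600
import Cfsg.Agent.Lib.helper33.OctadStab
import Cfsg.Agent.Lib.helper33.KSets
import Cfsg.Agent.Lib.helper33.Triads
import Cfsg.Agent.Lib.helper9.M24Trans

set_option autoImplicit false
open Cfsg

namespace Cfsg.Agent.S5600

open Cfsg.Agent.Lib.helper33 Cfsg.Agent.Lib.helper9
open scoped Pointwise

/-- An element of `M24` fixing five points of an octad stabilises the octad. -/
theorem smul_octad_of_fix (o T : Finset GolayPt) (ho : o ∈ octads) (hT : T.card = 5)
    (hTo : T ⊆ o) (g : Equiv.Perm GolayPt) (hg : g ∈ M24) (hfix : ∀ p ∈ T, g p = p) :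
    g • o = o := by
  refine octad_unique (smul_mem_octads g hg o ho) ho hT ?_ hTo
  intro p hp
  have h : g • p ∈ g • o := Finset.smul_mem_smul_finset (hTo hp)
  rwa [Equiv.Perm.smul_def, hfix p hp] at h

theorem fixOct_eq_of_subset (o E : Finset GolayPt) (ho : o ∈ octads) (hE : E.card = 6)
    (hEo : E ⊆ o) : fixOct E = fixOct o := by
  apply le_antisymm
  · intro g hg
    rw [mem_fixOct] at hg ⊢
    refine ⟨hg.1, ?_⟩
    obtain ⟨T, hTE, hT5⟩ := Finset.exists_subset_card_eq (show 5 ≤ E.card by omega)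
    have hgo : g • o = o := smul_octad_of_fix o T ho hT5 (hTE.trans hEo) g hg.1
      (fun p hp => hg.2 p (hTE hp))
    have hgs : g ∈ stabOct o := mem_stabOct.2 ⟨hg.1, hgo⟩
    have hπA : restrOct o ⟨g, hgs⟩ ∈ alternatingGroup ↥o := by
      rw [← range_restrOct ho]; exact ⟨_, rfl⟩
    have hsupp : (restrOct o ⟨g, hgs⟩).support.card ≤ 2 := by
      have h1 : (restrOct o ⟨g, hgs⟩).support.map (Function.Embedding.subtype _) ⊆ o \ E := by
        intro p hp
        rw [Finset.mem_map] at hp
        obtain ⟨q, hq, rfl⟩ := hp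
        rw [Finset.mem_sdiff]
        refine ⟨q.2, fun hqE => ?_⟩
        rw [Equiv.Perm.mem_support] at hq
        apply hq
        apply Subtype.ext
        rw [restrOct_apply]
        exact hg.2 _ hqE
      have h2 := Finset.card_le_card h1
      rw [Finset.card_map, Finset.card_sdiff_of_subset hEo, ho.2, hE] at h2
      exact h2
    have hπ1 : restrOct o ⟨g, hgs⟩ = 1 := by
      by_contra hne
      have h3 : (restrOct o ⟨g, hgs⟩).support.card = 2 := by
        have := Equiv.Perm.card_support_le_one.not.mpr hne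
        omega
      have hswap := Equiv.Perm.card_support_eq_two.mp h3
      have hs := hswap.sign_eq
      rw [Equiv.Perm.mem_alternatingGroup] at hπA
      rw [hπA] at hs
      exact absurd hs (by decide)
    intro x hx
    have := congrArg (fun e : Equiv.Perm ↥o => (e ⟨x, hx⟩ : GolayPt)) hπ1
    exact this
  · intro g hg
    rw [mem_fixOct] at hg ⊢
    exact ⟨hg.1, fun x hx => hg.2 x (hEo hx)⟩

theorem card_sub (E : Finset GolayPt) :
    Nat.card {g : Equiv.Perm GolayPt // g ∈ M24 ∧ ∀ p ∈ E, g p = p} = Nat.card (fixOct E) :=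
  Nat.card_congr (Equiv.subtypeEquivRight (fun _ => mem_fixOct.symm))

/-- The pointwise stabiliser of five points has order 48. -/
theorem card_fix5 (T : Finset GolayPt) (hT : T.card = 5) : Nat.card (fixOct T) = 48 := by
  have hs : ((T : Set GolayPt)).ncard = 5 := by rw [Set.ncard_coe_finset, hT]
  have hc : Nat.card GolayPt = 24 := by rw [Nat.card_eq_fintype_card]; decide
  have h5 := m24_isMultiplyPretransitive
  have hidx := MulAction.IsMultiplyPretransitive.index_of_fixingSubgroup_eq (G := M24)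
    (T : Set GolayPt) (by rw [hs]; exact h5)
  have hmul := Subgroup.card_mul_index (fixingSubgroup M24 (T : Set GolayPt))
  rw [hidx, hs, card_M24, hc] at hmul
  have h4 : Nat.choose 24 5 * Nat.factorial 5 = 5100480 := by decide
  rw [h4] at hmul
  have e : ↥(fixOct T) ≃ ↥(fixingSubgroup M24 (T : Set GolayPt)) :=
    { toFun := fun g => ⟨⟨g.1, (mem_fixOct.1 g.2).1⟩, by
        rw [mem_fixingSubgroup_iff]; intro y hy; exact (mem_fixOct.1 g.2).2 y hy⟩
      invFun := fun g => ⟨g.1.1, mem_fixOct.2 ⟨g.1.2, fun y hy =>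
        (mem_fixingSubgroup_iff M24).1 g.2 y hy⟩⟩
      left_inv := fun _ => rfl
      right_inv := fun _ => rfl }
  rw [Nat.card_congr e]
  omega

theorem card_fix6_out (E : Finset GolayPt) (hE : E.card = 6)
    (hno : ¬ ∃ o ∈ octads, E ⊆ o) : Nat.card (fixOct E) = 3 := by
  obtain ⟨x, T, hxT, rfl, hT5⟩ := Finset.card_eq_succ.mp hE
  obtain ⟨o, ho, hTo⟩ := exists_octad_supset T (by omega)
  have hxo : x ∉ o := fun h => hno ⟨o, ho, Finset.insert_subset h hTo⟩
  have e1 : fixOct T ⊓ MulAction.stabilizer (Equiv.Perm GolayPt) x = fixOct (insert x T) := by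
    ext g
    rw [Subgroup.mem_inf, mem_fixOct, mem_fixOct, MulAction.mem_stabilizer_iff]
    constructor
    · rintro ⟨⟨h1, h2⟩, h3⟩
      refine ⟨h1, fun y hy => ?_⟩
      rcases Finset.mem_insert.1 hy with rfl | hy
      · exact h3
      · exact h2 y hy
    · rintro ⟨h1, h2⟩
      exact ⟨⟨h1, fun y hy => h2 y (Finset.mem_insert_of_mem hy)⟩,
        h2 x (Finset.mem_insert_self x T)⟩
  rw [← e1, card_inf_stabilizer (fixOct T) x]
  have h := natCard_orbit_mul_stab (G := fixOct T) x
  rw [card_fix5 T hT5] at h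
  have horb : MulAction.orbit (fixOct T) x =
      ((Finset.univ \ o : Finset GolayPt) : Set GolayPt) := by
    ext y
    simp only [Finset.coe_sdiff, Finset.coe_univ, Set.mem_sdiff, Set.mem_univ, true_and,
      Finset.mem_coe]
    constructor
    · rintro ⟨g, rfl⟩
      have hg := mem_fixOct.1 g.2
      have hgo := smul_octad_of_fix o T ho hT5 hTo g.1 hg.1 hg.2
      intro hy
      apply hxo
      have h' : (g : Equiv.Perm GolayPt) • x ∈ (g : Equiv.Perm GolayPt) • o := by
        rw [hgo]; exact hy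
      exact Finset.smul_mem_smul_finset_iff _ |>.1 h'
    · intro hy
      obtain ⟨k, hk, hkx⟩ := fixOct_trans ho hxo hy
      have hk' : k ∈ fixOct T :=
        mem_fixOct.2 ⟨(mem_fixOct.1 hk).1, fun z hz => (mem_fixOct.1 hk).2 z (hTo hz)⟩
      exact ⟨⟨k, hk'⟩, hkx⟩
  have h24 : Fintype.card GolayPt = 24 := by decide
  rw [horb, Nat.card_coe_set_eq, Set.ncard_coe_finset,
    Finset.card_sdiff_of_subset (Finset.subset_univ o), Finset.card_univ, ho.2, h24] at h
  omega

theorem induce (E : Finset GolayPt) (hE : E.card = 6) (σ : Equiv.Perm ↥E) :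
    ∃ g ∈ M24, ∀ p : ↥E, g p = σ p := by
  by_cases hoct : ∃ o ∈ octads, E ⊆ o
  · obtain ⟨o, ho, hEo⟩ := hoct
    let f : ↥E ≃ {y : ↥o // (y : GolayPt) ∈ E} :=
      { toFun := fun p => ⟨⟨p.1, hEo p.2⟩, p.2⟩
        invFun := fun y => ⟨y.1.1, y.2⟩
        left_inv := fun _ => rfl
        right_inv := fun _ => rfl }
    have hτ : ∀ p : ↥E, ((σ.extendDomain f) ⟨p.1, hEo p.2⟩ : GolayPt) = σ p := by
      intro p
      have h1 := Equiv.Perm.extendDomain_apply_image σ f p
      exact congrArg (fun y : ↥o => (y : GolayPt)) h1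
    have h2 : (o \ E).card = 2 := by rw [Finset.card_sdiff_of_subset hEo, ho.2, hE]
    obtain ⟨a, b, hab, hoE⟩ := Finset.card_eq_two.mp h2
    have ha : a ∈ o \ E := by rw [hoE]; simp
    have hb : b ∈ o \ E := by rw [hoE]; simp
    rw [Finset.mem_sdiff] at ha hb
    have key : ∃ τ' : Equiv.Perm ↥o, τ' ∈ alternatingGroup ↥o ∧
        ∀ p : ↥E, (τ' ⟨p.1, hEo p.2⟩ : GolayPt) = σ p := by
      by_cases hs : Equiv.Perm.sign (σ.extendDomain f) = 1
      · exact ⟨σ.extendDomain f, Equiv.Perm.mem_alternatingGroup.2 hs, hτ⟩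
      · refine ⟨σ.extendDomain f * Equiv.swap ⟨a, ha.1⟩ ⟨b, hb.1⟩, ?_, ?_⟩
        · rw [Equiv.Perm.mem_alternatingGroup, Equiv.Perm.sign_mul,
            Equiv.Perm.sign_swap (fun h => hab (congrArg Subtype.val h))]
          rcases Int.units_eq_one_or (Equiv.Perm.sign (σ.extendDomain f)) with h | h
          · exact absurd h hs
          · rw [h]; rfl
        · intro p
          rw [Equiv.Perm.mul_apply, Equiv.swap_apply_of_ne_of_ne]
          · exact hτ p
          · intro h
            have h' : (p : GolayPt) = a := congrArg Subtype.val h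
            exact ha.2 (by rw [← h']; exact p.2)
          · intro h
            have h' : (p : GolayPt) = b := congrArg Subtype.val h
            exact hb.2 (by rw [← h']; exact p.2)
    obtain ⟨τ', hτ'A, hτ'⟩ := key
    rw [← range_restrOct ho] at hτ'A
    obtain ⟨g, hg⟩ := hτ'A
    refine ⟨g.1, (mem_stabOct.1 g.2).1, fun p => ?_⟩
    rw [← hτ' p, ← hg, restrOct_apply]
  · obtain ⟨x, T, hxT, hE', hT5⟩ := Finset.card_eq_succ.mp hE
    subst hE'
    obtain ⟨o, ho, hTo⟩ := exists_octad_supset T (by omega)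
    have hxo : x ∉ o := fun h => hoct ⟨o, ho, Finset.insert_subset h hTo⟩
    let f : GolayPt → GolayPt := fun p =>
      if h : p ∈ insert x T then (σ ⟨p, h⟩ : GolayPt) else p
    have hf : ∀ p (h : p ∈ insert x T), f p = σ ⟨p, h⟩ := fun p h => dif_pos h
    have hfinj : Set.InjOn f T := by
      intro p hp q hq hpq
      rw [hf p (Finset.mem_insert_of_mem hp), hf q (Finset.mem_insert_of_mem hq)] at hpq
      exact congrArg Subtype.val (σ.injective (Subtype.ext hpq))
    obtain ⟨g₀, hg₀, hg₀T⟩ := exists_mem_M24_of_injOn T (by omega) f hfinj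
    have ho' : g₀ • o ∈ octads := smul_mem_octads g₀ hg₀ o ho
    have hmem : ∀ z ∈ o, g₀ z ∈ g₀ • o := fun z hz => Finset.smul_mem_smul_finset hz
    have hy : g₀ x ∉ g₀ • o := fun h => hxo ((Finset.smul_mem_smul_finset_iff g₀).1 h)
    have hσT : ∀ (p : GolayPt) (hp : p ∈ T),
        (σ ⟨p, Finset.mem_insert_of_mem hp⟩ : GolayPt) ∈ g₀ • o := by
      intro p hp
      rw [← hf p (Finset.mem_insert_of_mem hp), ← hg₀T p hp]
      exact hmem p (hTo hp)
    have hσx : (σ ⟨x, Finset.mem_insert_self x T⟩ : GolayPt) ∉ g₀ • o := by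
      intro h
      apply hoct
      refine ⟨g₀ • o, ho', ?_⟩
      intro e he
      have he' : (σ (σ.symm ⟨e, he⟩) : GolayPt) = e := by simp
      rw [← he']
      rcases Finset.mem_insert.1 (σ.symm ⟨e, he⟩).2 with h1 | h1
      · have h2 : σ.symm ⟨e, he⟩ = ⟨x, Finset.mem_insert_self x T⟩ := Subtype.ext h1
        rw [h2]; exact h
      · exact hσT _ h1
    obtain ⟨k, hk, hkx⟩ := fixOct_trans ho' hy hσx
    rw [mem_fixOct] at hk
    refine ⟨k * g₀, M24.mul_mem hk.1 hg₀, fun p => ?_⟩
    rw [Equiv.Perm.mul_apply]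
    rcases Finset.mem_insert.1 p.2 with h1 | h1
    · have h2 : p = ⟨x, Finset.mem_insert_self x T⟩ := Subtype.ext h1
      rw [h2]; exact hkx
    · rw [hg₀T p.1 h1, hf p.1 p.2]
      exact hk.2 _ (hσT p.1 h1)

theorem card_setwise (E : Finset GolayPt) (hE : E.card = 6)
    (hno : ¬ ∃ o ∈ octads, E ⊆ o) : Nat.card ↥(MulAction.stabilizer M24 E) = 2160 := by
  rw [← card_inf_stabilizer M24 E]
  show Nat.card ↥(stabOct E) = 2160
  have h1 := Subgroup.card_mul_index (restrOct E).ker
  rw [Subgroup.index_ker] at h1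
  have hker : Nat.card (restrOct E).ker = 3 := by
    rw [ker_restrOct,
      Nat.card_congr (Subgroup.subgroupOfEquivOfLe (fixOct_le_stabOct E)).toEquiv]
    exact card_fix6_out E hE hno
  have hrange : (restrOct E).range = ⊤ := by
    rw [eq_top_iff]
    intro σ _
    obtain ⟨g, hg, hgσ⟩ := induce E hE σ
    have hgE : g • E = E := by
      apply Finset.eq_of_subset_of_card_le
      · intro y hy
        rw [Finset.mem_smul_finset] at hy
        obtain ⟨p, hp, rfl⟩ := hy
        rw [Equiv.Perm.smul_def, hgσ ⟨p, hp⟩]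
        exact (σ ⟨p, hp⟩).2
      · rw [Finset.card_smul_finset]
    refine ⟨⟨g, mem_stabOct.2 ⟨hg, hgE⟩⟩, ?_⟩
    apply Equiv.ext
    intro p
    apply Subtype.ext
    rw [restrOct_apply]
    exact hgσ p
  rw [hker, hrange] at h1
  have h720 : Nat.card (⊤ : Subgroup (Equiv.Perm ↥E)) = 720 := by
    rw [Subgroup.card_top, Nat.card_eq_fintype_card, Fintype.card_perm, Fintype.card_coe, hE]
    decide
  rw [h720] at h1
  omega

/-- Although the group of the length-24 code is only 5-transitive on the 24 points, it induces the full symmetric group on every 6-element subset: every permutation of a 6-set E is the restriction of an element of the group mapping E to itself. The pointwise stabiliser of E has order 16 when E lies in an octad and order 3 otherwise; in the latter case the setwise stabiliser of E has order 2160. -/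
theorem result (E : Finset Cfsg.GolayPt) (hE : E.card = 6) : (∀ σ : Equiv.Perm ↥E, ∃ g ∈ Cfsg.M24, ∀ p : ↥E, g p = σ p) ∧ ((∃ o ∈ Cfsg.octads, E ⊆ o) → Nat.card {g : Equiv.Perm Cfsg.GolayPt // g ∈ Cfsg.M24 ∧ ∀ p ∈ E, g p = p} = 16) ∧ ((¬ ∃ o ∈ Cfsg.octads, E ⊆ o) → Nat.card {g : Equiv.Perm Cfsg.GolayPt // g ∈ Cfsg.M24 ∧ ∀ p ∈ E, g p = p} = 3 ∧ Nat.card ↥(MulAction.stabilizer Cfsg.M24 E) = 2160) := by
  refine ⟨induce E hE, fun ⟨o, ho, hEo⟩ => ?_, fun hno => ⟨?_, card_setwise E hE hno⟩⟩
  · rw [card_sub, fixOct_eq_of_subset o E ho hE hEo, card_fixOct ho]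
  · rw [card_sub, card_fix6_out E hE hno]

end Cfsg.Agent.S5600
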