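import Cfsg.Statements.S5607
import Cfsg.Agent.Lib.helper94.M24Cent
import Cfsg.Agent.Lib.helper94.M24Sextets


set_option autoImplicit false
open scoped Pointwise
open Cfsg

set_option maxRecDepth 100000
open Cfsg.Agent.Lib.helper94

namespace Cfsg.Agent.S5607

open Cfsg.Agent.Lib.helper33 (validTbl)
open Cfsg.Agent.Lib.helper9 (bp base chkTbl)

/-- The table commutes with the reference involution. -/
def commB (E : ℕ) : Bool := conjOK E X2B X2B

/-- Membership test for the centraliser. -/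
def mem0 (E : ℕ) : Bool := isM24 E && commB E

/-- Membership test for the stabiliser of the index 0 in the centraliser. -/
def mem1 (E : ℕ) : Bool := mem0 E && Nat.beq (imgAt E 0) 0

/-- Membership test for the stabiliser of the indices 0 and 2 in the centraliser. -/
def mem2 (E : ℕ) : Bool := mem1 E && Nat.beq (imgAt E 2) 2

/-- Elements of the centraliser mapping the index 0 to each index. -/
def cent24 : List ℕ :=
  [0xbdab49ca307b9ac5a928398a418820,
   0x2be544d6e65c5aa41e1624dcc18801,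
   0x9aa95735f72c24622d9149d1608062,
   0xb29b5750d78ae4f240e54313308043,
   0xb355515cb442e471c1e68a593081c4,
   0x9a1923446975aa27aeeaa11b0080e5,
   0xbb5321a2143bab61299199564081e6,
   0x7d1951c6edb224a1197374089080a7,
   0x638d553e845964dbc6d014c6708128,
   0x550d213e0d892b61dca79b16e08109,
   0x988956b98344251a2de63a4b6082ea,
   0x492d25418e6beb1ba0622d0e60826b,
   0x22cf5b1533a5e48838627b4ca0822c,
   0xb985240d8f5bab14aa162cce40828d,
   0x69d5265d25b0ea88d26b341e20808e,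
   0x29135ba1ae5b25451ed01cc51080cf,
   0x88e726ade2b96a6a31c442927082d0,
   0x740b599df6a2a46590624b51708191,
   0xb140d6050772e898c157311f318ab2,
   0x246d53c28c4de4d2b8cf1206a08173,
   0x3445538e6cba64b2bc8eb2a08081b4,
   0x2a41478488b45ae31e6bbc14c18a55,
   0xbc6753ac4c312432a928a3dae08216,
   0x8a5d5312c869e507b0439d16508157]

/-- Elements of the centraliser fixing 0 and mapping the index 2 to each index of its orbit. -/
def cent20 : List ℕ :=
  [0x0,
   0x0,
   0xbdab49ca307b9ac5a928398a418820,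
   0x22ead849937aa91b3928298f710c20,
   0xb3e57454a612d474c1b488d9371020,
   0x32e4cb55d36a62483c43bd14839420,
   0x3da495d47074502995576928c79820,
   0x9baacbc9a47da3452d281187029c20,
   0x21ea664a05a29f68b8439b5774a020,
   0x9b6af1c9d4658c412ce5546f042420,
   0x9be4e455866c0914ac433d0b6ba820,
   0x6c6563d54c78a172d109219c39ac20,
   0x592a75486e7c0a2bcd28a19b68b020,
   0x79242bd6ce62070518a79c569a3420,
   0x88e4aa560241ef66b1e65a66523820,
   0xb36a91c8948cd0e140a7bb14b33c20,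
   0x392ab5490ea3269b94437b4d1b4020,
   0x34e478548b1a4aeb3e8d50ae864420,
   0x0,
   0xba2507d469612c2328a76c68e5cc20,
   0x2a6a27c9485c47731e1674c8c6d020,
   0x0,
   0x7b6b31c8b4525671188e65e2885820,
   0x416ae8c867b18826266ba41af55c20]

/-- Elements of the centraliser fixing 0 and 2 and mapping 4 to each index of its orbit. -/
def cent16 : List ℕ :=
  [0x0,
   0x0,
   0x0,
   0x0,
   0xbdab49ca307b9ac5a928398a418820,
   0x63eb44c946b1db74466b7408518820,
   0x4124dbd60e8be96524e55b26618820,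
   0x8a6b47cae8995aa332d022dc718820,
   0x33a4d5556462693bbca7846c818820,
   0x7aa4d756772a28b21991b1e0918820,
   0x72eb4848b345da7b10cf6262a18820,
   0x81e4d8d505bce896588e329eb18820,
   0x29ab4449cf845a449d7355aec18820,
   0x0,
   0x54eb4b498b491b185de62a0ee18820,
   0x4de4d256ca39a907222c9956f18820,
   0x5964d654c755a8f8cdc445d3018820,
   0x3a2b4348895b1ae79616bcd5118820,
   0x0,
   0xb464d3d52c22e882c2ea7b8d318820,
   0x0,
   0x0,
   0x9b24d2d5f1742863ad574911618820,
   0x242b45c8f6329a59b9098bd9718820]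

/-- Frame table `0 ↦ 0, 1 ↦ 1, 2 ↦ 18, 3 ↦ 21`. -/
def K18 : List ℕ := [0, 1, 18, 21, 9, 4, 20, 8, 11, 2, 6, 3, 15, 12, 14, 16, 22, 23, 5, 19, 17, 7, 13, 10]

/-- Inverse of `K18`. -/
def K18i : List ℕ := [0, 1, 9, 11, 5, 18, 10, 21, 7, 4, 23, 8, 13, 22, 14, 12, 15, 20, 2, 19, 6, 3, 16, 17]

/-- Frame table `0 ↦ 0, 1 ↦ 1, 2 ↦ 21, 3 ↦ 18`. -/
def K21 : List ℕ := [0, 1, 21, 18, 20, 9, 14, 3, 5, 4, 13, 10, 2, 16, 15, 12, 17, 6, 22, 7, 19, 11, 23, 8]

/-- Inverse of `K21`. -/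
def K21i : List ℕ := [0, 1, 12, 7, 9, 8, 17, 19, 23, 5, 11, 21, 15, 10, 6, 14, 13, 16, 3, 20, 4, 2, 18, 22]

/-- The identity table. -/
def KID : List ℕ := [0, 1, 2, 3, 4, 5, 6, 7, 8, 9, 10, 11, 12, 13, 14, 15, 16, 17, 18, 19, 20, 21, 22, 23]

theorem orb0_ok : orbOK mem0 0 16777215 cent24 = true := by decide +kernel

theorem orb1_ok : orbOK mem1 2 14417916 cent20 = true := by decide +kernel

theorem orb2_ok : orbOK mem2 4 13361136 cent16 = true := by decide +kernel

theorem frame18_ok : validTbl K18 K18i = true ∧ chkTbl K18 = true ∧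
    frameCheck K18 (fun E => !(commB E)) = true := by
  decide +kernel

theorem frame21_ok : validTbl K21 K21i = true ∧ chkTbl K21 = true ∧
    frameCheck K21 (fun E => !(commB E)) = true := by
  decide +kernel

theorem frameID_ok : validTbl KID KID = true ∧ chkTbl KID = true ∧
    frameCheck KID (fun E => !(commB E) || ((13361136 : ℕ).testBit (imgAt E 4) &&
      (!(Nat.beq (imgAt E 4) 4) || Nat.beq (fixCnt E) 24))) = true := by
  decide +kernel

theorem sex_fix_ok : (forceNat (applyP X2B (onesN (Nat.mul 6 1771)) SEX) fun Y =>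
    Nat.beq (cntBelow (fixAllAt 6 SEX Y) 1771) 1 && fixAllAt 6 SEX Y 413) = true := by
  decide +kernel

theorem misc_ok : popc 16777215 = 24 ∧ popc 14417916 = 20 ∧ popc 13361136 = 16 ∧
    imgAt X2B 0 = 1 ∧ imgAt X2B 2 = 3 ∧ imgAt X2B 18 = 21 ∧ imgAt X2B 21 = 18 ∧
    (∀ i < 24, (14417916 : ℕ).testBit i = false → i = 0 ∨ i = 1 ∨ i = 18 ∨ i = 21) := by
  decide +kernel

theorem hvX : validPerm X2B = true := repsElts_ok.2.2.2.1

/-- The centraliser of the reference involution in `M24`. -/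
def Cent : Subgroup (Equiv.Perm GolayPt) := M24 ⊓ Subgroup.centralizer {tperm X2B}

theorem mem_Cent {c : Equiv.Perm GolayPt} :
    c ∈ Cent ↔ c ∈ M24 ∧ c * tperm X2B = tperm X2B * c := by
  rw [Cent, Subgroup.mem_inf, Subgroup.mem_centralizer_iff]
  simp only [Set.mem_singleton_iff, forall_eq]
  exact and_congr Iff.rfl eq_comm

/-- The stabiliser of the index 0 in the centraliser. -/
def Cent1 : Subgroup (Equiv.Perm GolayPt) :=
  Cent ⊓ MulAction.stabilizer (Equiv.Perm GolayPt) (idxPt 0)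

/-- The stabiliser of the indices 0 and 2 in the centraliser. -/
def Cent2 : Subgroup (Equiv.Perm GolayPt) :=
  Cent1 ⊓ MulAction.stabilizer (Equiv.Perm GolayPt) (idxPt 2)

/-- The stabiliser of the indices 0, 2 and 4 in the centraliser. -/
def Cent3 : Subgroup (Equiv.Perm GolayPt) :=
  Cent2 ⊓ MulAction.stabilizer (Equiv.Perm GolayPt) (idxPt 4)

theorem mem_Cent1 {c : Equiv.Perm GolayPt} : c ∈ Cent1 ↔ c ∈ Cent ∧ c (idxPt 0) = idxPt 0 := by
  rw [Cent1, Subgroup.mem_inf, MulAction.mem_stabilizer_iff]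
  rfl

theorem mem_Cent2 {c : Equiv.Perm GolayPt} : c ∈ Cent2 ↔ c ∈ Cent1 ∧ c (idxPt 2) = idxPt 2 := by
  rw [Cent2, Subgroup.mem_inf, MulAction.mem_stabilizer_iff]
  rfl

theorem mem_Cent3 {c : Equiv.Perm GolayPt} : c ∈ Cent3 ↔ c ∈ Cent2 ∧ c (idxPt 4) = idxPt 4 := by
  rw [Cent3, Subgroup.mem_inf, MulAction.mem_stabilizer_iff]
  rfl

theorem hH0 : ∀ E, validPerm E = true → mem0 E = true → tperm E ∈ Cent := by
  intro E hv hm
  rw [mem0, Bool.and_eq_true] at hm
  exact mem_Cent.mpr ⟨tperm_mem_M24 hm.1, (conjOK_iff hv hvX hvX).mp hm.2⟩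

theorem hH1 : ∀ E, validPerm E = true → mem1 E = true → tperm E ∈ Cent1 := by
  intro E hv hm
  rw [mem1, Bool.and_eq_true] at hm
  refine mem_Cent1.mpr ⟨hH0 E hv hm.1, ?_⟩
  rw [tperm_idxPt hv (by norm_num), Nat.eq_of_beq_eq_true hm.2]

theorem hH2 : ∀ E, validPerm E = true → mem2 E = true → tperm E ∈ Cent2 := by
  intro E hv hm
  rw [mem2, Bool.and_eq_true] at hm
  refine mem_Cent2.mpr ⟨hH1 E hv hm.1, ?_⟩
  rw [tperm_idxPt hv (by norm_num), Nat.eq_of_beq_eq_true hm.2]

theorem comm_img {g : Equiv.Perm GolayPt} (hc : g * tperm X2B = tperm X2B * g) {i j : ℕ}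
    (hi : i < 24) (hj : j < 24) (h : g (idxPt i) = idxPt j) :
    g (idxPt (imgAt X2B i)) = idxPt (imgAt X2B j) := by
  have h1 := congrArg (fun f : Equiv.Perm GolayPt => f (idxPt i)) hc
  simp only [Equiv.Perm.mul_apply] at h1
  rw [tperm_idxPt hvX hi, h, tperm_idxPt hvX hj] at h1
  exact h1

theorem commB_of {E : ℕ} (hv : validPerm E = true)
    (hc : tperm E * tperm X2B = tperm X2B * tperm E) : commB E = true :=
  (conjOK_iff hv hvX hvX).mpr hc

theorem idxPt_ne {i j : ℕ} (hi : i < 24) (hj : j < 24) (h : i ≠ j) : idxPt i ≠ idxPt j := by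
  intro he
  have := congrArg ptIdx he
  rw [ptIdx_idxPt hi, ptIdx_idxPt hj] at this
  exact h this

theorem hup1 : ∀ g ∈ Cent1, g (idxPt 2) ∈ Lib.helper94.setOf 14417916 := by
  intro g hg
  obtain ⟨hgC, hg0⟩ := mem_Cent1.mp hg
  obtain ⟨hgM, hgc⟩ := mem_Cent.mp hgC
  have hg1 : g (idxPt 1) = idxPt 1 := by
    have := comm_img hgc (by norm_num) (by norm_num) hg0
    rwa [misc_ok.2.2.2.1] at this
  rw [mem_setOf]
  by_contra hcon
  rw [Bool.not_eq_true] at hcon
  have hq : g (idxPt 2) = idxPt (ptIdx (g (idxPt 2))) := (idxPt_ptIdx _).symm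
  rcases misc_ok.2.2.2.2.2.2.2 _ (ptIdx_lt _) hcon with h | h | h | h
  · rw [h, ← hg0] at hq
    exact idxPt_ne (by norm_num) (by norm_num) (by norm_num : (2 : ℕ) ≠ 0) (g.injective hq)
  · rw [h, ← hg1] at hq
    exact idxPt_ne (by norm_num) (by norm_num) (by norm_num : (2 : ℕ) ≠ 1) (g.injective hq)
  · rw [h] at hq
    have hg3 : g (idxPt 3) = idxPt 21 := by
      have := comm_img hgc (by norm_num) (by norm_num) hq
      rwa [misc_ok.2.2.2.2.1, misc_ok.2.2.2.2.2.1] at this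
    obtain ⟨E, hv, hP, hE⟩ := frame4 K18 K18i frame18_ok.1 frame18_ok.2.1 _ frame18_ok.2.2 g hgM
      (by
        intro j hj
        interval_cases j
        · exact hg0
        · exact hg1
        · exact hq
        · exact hg3)
    rw [commB_of hv (by rw [← hE]; exact hgc)] at hP
    exact absurd hP (by decide)
  · rw [h] at hq
    have hg3 : g (idxPt 3) = idxPt 18 := by
      have := comm_img hgc (by norm_num) (by norm_num) hq
      rwa [misc_ok.2.2.2.2.1, misc_ok.2.2.2.2.2.2.1] at this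
    obtain ⟨E, hv, hP, hE⟩ := frame4 K21 K21i frame21_ok.1 frame21_ok.2.1 _ frame21_ok.2.2 g hgM
      (by
        intro j hj
        interval_cases j
        · exact hg0
        · exact hg1
        · exact hq
        · exact hg3)
    rw [commB_of hv (by rw [← hE]; exact hgc)] at hP
    exact absurd hP (by decide)

/-- The elements of the centraliser fixing the indices 0 and 2, through the identity frame. -/
theorem frameID_use {g : Equiv.Perm GolayPt} (hg : g ∈ Cent2) :
    ∃ E, validPerm E = true ∧ g = tperm E ∧ (13361136 : ℕ).testBit (imgAt E 4) = true ∧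
      (imgAt E 4 = 4 → fixCnt E = 24) := by
  obtain ⟨hg1', hg2⟩ := mem_Cent2.mp hg
  obtain ⟨hgC, hg0⟩ := mem_Cent1.mp hg1'
  obtain ⟨hgM, hgc⟩ := mem_Cent.mp hgC
  have hg1 : g (idxPt 1) = idxPt 1 := by
    have := comm_img hgc (by norm_num) (by norm_num) hg0
    rwa [misc_ok.2.2.2.1] at this
  have hg3 : g (idxPt 3) = idxPt 3 := by
    have := comm_img hgc (by norm_num) (by norm_num) hg2
    rwa [misc_ok.2.2.2.2.1] at this
  obtain ⟨E, hv, hP, hE⟩ := frame4 KID KID frameID_ok.1 frameID_ok.2.1 _ frameID_ok.2.2 g hgM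
    (by
      intro j hj
      interval_cases j
      · exact hg0
      · exact hg1
      · exact hg2
      · exact hg3)
  rw [commB_of hv (by rw [← hE]; exact hgc)] at hP
  simp only [Bool.not_true, Bool.false_or, Bool.and_eq_true, Bool.or_eq_true,
    Bool.not_eq_true'] at hP
  refine ⟨E, hv, hE, hP.1, fun h4 => ?_⟩
  rcases hP.2 with h | h
  · rw [h4] at h
    exact absurd h (by decide)
  · exact Nat.eq_of_beq_eq_true h

theorem hup2 : ∀ g ∈ Cent2, g (idxPt 4) ∈ Lib.helper94.setOf 13361136 := by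
  intro g hg
  obtain ⟨E, hv, hE, hD, -⟩ := frameID_use hg
  rw [mem_setOf, hE, tperm_idxPt hv (by norm_num), ptIdx_idxPt (validPerm_lt hv _ (by norm_num))]
  exact hD

theorem tperm_eq_one {E : ℕ} (hv : validPerm E = true) (h : fixCnt E = 24) : tperm E = 1 := by
  have h1 := card_fixed_tperm hv
  rw [h, ← card_golayPt, ← Finset.card_univ, Finset.card_filter_eq_iff] at h1
  apply Equiv.ext
  intro p
  exact h1 p (Finset.mem_univ p)

theorem Cent3_eq : Cent3 = ⊥ := by
  rw [Subgroup.eq_bot_iff_forall]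
  intro g hg
  obtain ⟨hg2, hg4⟩ := mem_Cent3.mp hg
  obtain ⟨E, hv, hE, -, h4⟩ := frameID_use hg2
  rw [hE]
  apply tperm_eq_one hv
  apply h4
  apply imgAt_of_img hv (by norm_num) (by norm_num)
  rw [← hE]
  exact hg4

theorem trans0 : ∀ q : GolayPt, ∃ g ∈ Cent, g (idxPt 0) = q :=
  fun q => orbOK_sound orb0_ok (by norm_num) Cent hH0 q (mem_setOf_full q)

theorem card_Cent : Nat.card Cent = 7680 := by
  have h0 : Nat.card Cent = popc 16777215 * Nat.card ↥Cent1 :=
    card_step Cent (idxPt 0) 16777215 (orbOK_sound orb0_ok (by norm_num) Cent hH0)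
      (fun g _ => mem_setOf_full _)
  have h1 : Nat.card Cent1 = popc 14417916 * Nat.card ↥Cent2 :=
    card_step Cent1 (idxPt 2) 14417916 (orbOK_sound orb1_ok (by norm_num) Cent1 hH1) hup1
  have h2 : Nat.card Cent2 = popc 13361136 * Nat.card ↥Cent3 :=
    card_step Cent2 (idxPt 4) 13361136 (orbOK_sound orb2_ok (by norm_num) Cent2 hH2) hup2
  rw [h0, h1, h2, Cent3_eq, Subgroup.card_bot, misc_ok.1, misc_ok.2.1, misc_ok.2.2.1]

/-- The sextet all of whose tetrads are fixed by the reference involution. -/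
theorem sextet0 : ∃ S ∈ sextets, (∀ u ∈ S, tperm X2B • u = u) ∧
    ∀ S' ∈ sextets, (∀ u ∈ S', tperm X2B • u = u) → S' = S := by
  have hk := sex_fix_ok
  rw [forceNat_eq, Bool.and_eq_true] at hk
  have hcount := ncard_of_list sextets (fun j => objS 6 SEX j) 1771 sex_complete sex_mem sex_inj
    (fun T => ∀ u ∈ T, tperm X2B • u = u) _ (fun j hj => fixAllAt_iff hvX j hj)
  rw [Nat.eq_of_beq_eq_true hk.1] at hcount
  obtain ⟨a, ha⟩ := Set.ncard_eq_one.mp hcount
  have hmem : ∀ T, (T ∈ sextets ∧ ∀ u ∈ T, tperm X2B • u = u) ↔ T = a := by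
    intro T
    have := Set.ext_iff.mp ha T
    simpa only [Set.mem_ofPred_eq, Set.mem_singleton_iff] using this
  have h413 : objS 6 SEX 413 = a :=
    (hmem _).mp ⟨sex_mem 413 (by norm_num), (fixAllAt_iff hvX 413 (by norm_num)).mpr hk.2⟩
  have ha' := (hmem a).mpr rfl
  exact ⟨a, ha'.1, ha'.2, fun S' hS' hfix => (hmem S').mp ⟨hS', hfix⟩⟩

/-- Transport of centralisers along conjugation. -/
def centEquiv (k t₀ : Equiv.Perm GolayPt) (hk : k ∈ M24) :
    {c : Equiv.Perm GolayPt // c ∈ M24 ∧ c * (k * t₀ * k⁻¹) = (k * t₀ * k⁻¹) * c} ≃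
      {c : Equiv.Perm GolayPt // c ∈ M24 ∧ c * t₀ = t₀ * c} where
  toFun c := ⟨k⁻¹ * c.1 * k, M24.mul_mem (M24.mul_mem (M24.inv_mem hk) c.2.1) hk, by
    calc k⁻¹ * c.1 * k * t₀ = k⁻¹ * (c.1 * (k * t₀ * k⁻¹)) * k := by group
      _ = k⁻¹ * ((k * t₀ * k⁻¹) * c.1) * k := by rw [c.2.2]
      _ = t₀ * (k⁻¹ * c.1 * k) := by group⟩
  invFun d := ⟨k * d.1 * k⁻¹, M24.mul_mem (M24.mul_mem hk d.2.1) (M24.inv_mem hk), by
    calc k * d.1 * k⁻¹ * (k * t₀ * k⁻¹) = k * (d.1 * t₀) * k⁻¹ := by group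
      _ = k * (t₀ * d.1) * k⁻¹ := by rw [d.2.2]
      _ = k * t₀ * k⁻¹ * (k * d.1 * k⁻¹) := by group⟩
  left_inv c := Subtype.ext (by
    show k * (k⁻¹ * c.1 * k) * k⁻¹ = c.1
    group)
  right_inv d := Subtype.ext (by
    show k⁻¹ * (k * d.1 * k⁻¹) * k = d.1
    group)


/-- For a fixed-point-free involution t of the group of the length-24 code: its centraliser in that group has order 7680, is transitive on the 24 points, and is contained, together with t, in the stabiliser of some sextet. -/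
theorem result (t : Equiv.Perm Cfsg.GolayPt) (ht : t ∈ Cfsg.M24) (h₂ : orderOf t = 2) (h₀ : ∀ p, t p ≠ p) : Nat.card {c : Equiv.Perm Cfsg.GolayPt // c ∈ Cfsg.M24 ∧ c * t = t * c} = 7680 ∧ (∀ p q : Cfsg.GolayPt, ∃ c ∈ Cfsg.M24, c * t = t * c ∧ c p = q) ∧ ∃ S ∈ Cfsg.sextets, t • S = S ∧ ∀ c ∈ Cfsg.M24, c * t = t * c → c • S = S := by
  obtain ⟨X, hX, k, hk, rfl⟩ := order2_class t ht h₂
  simp only [List.mem_cons, List.not_mem_nil, or_false] at hX
  rcases hX with rfl | rfl
  · exfalso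
    have h8 : (Finset.univ.filter fun p => (k * tperm X2A * k⁻¹) p = p).card = 8 := by
      rw [card_fixed_conj, card_fixed_tperm repsElts_ok.2.2.1]
      exact repsElts_ok.2.2.2.2.2.2.2.2.2.2.1
    have h0 : (Finset.univ.filter fun p => (k * tperm X2A * k⁻¹) p = p) = ∅ :=
      Finset.filter_eq_empty_iff.mpr fun p _ => h₀ p
    rw [h0] at h8
    simp at h8
  · refine ⟨?_, ?_, ?_⟩
    · rw [Nat.card_congr (centEquiv k (tperm X2B) hk),
        Nat.card_congr (Equiv.subtypeEquivRight (fun c => mem_Cent.symm))]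
      exact card_Cent
    · intro p q
      obtain ⟨g₁, hg₁, h1⟩ := trans0 (k⁻¹ p)
      obtain ⟨g₂, hg₂, h2⟩ := trans0 (k⁻¹ q)
      have hd : g₂ * g₁⁻¹ ∈ Cent := Cent.mul_mem hg₂ (Cent.inv_mem hg₁)
      obtain ⟨hdM, hdc⟩ := mem_Cent.mp hd
      refine ⟨k * (g₂ * g₁⁻¹) * k⁻¹, M24.mul_mem (M24.mul_mem hk hdM) (M24.inv_mem hk), ?_, ?_⟩
      · calc k * (g₂ * g₁⁻¹) * k⁻¹ * (k * tperm X2B * k⁻¹)
            = k * ((g₂ * g₁⁻¹) * tperm X2B) * k⁻¹ := by group
          _ = k * (tperm X2B * (g₂ * g₁⁻¹)) * k⁻¹ := by rw [hdc]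
          _ = k * tperm X2B * k⁻¹ * (k * (g₂ * g₁⁻¹) * k⁻¹) := by group
      · show k (g₂ (g₁⁻¹ (k⁻¹ p))) = q
        rw [← h1]
        have e1 : g₁⁻¹ (g₁ (idxPt 0)) = idxPt 0 := by simp
        rw [e1, h2]
        simp
    · obtain ⟨S, hS, hfix, huniq⟩ := sextet0
      refine ⟨k • S, smul_mem_sextets hk hS, ?_, ?_⟩
      · rw [mul_smul, mul_smul, inv_smul_smul, smul_eq_of_fixAll hfix]
      · intro c hc hcc
        have hd : (k⁻¹ * c * k) * tperm X2B = tperm X2B * (k⁻¹ * c * k) := by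
          calc k⁻¹ * c * k * tperm X2B = k⁻¹ * (c * (k * tperm X2B * k⁻¹)) * k := by group
            _ = k⁻¹ * ((k * tperm X2B * k⁻¹) * c) * k := by rw [hcc]
            _ = tperm X2B * (k⁻¹ * c * k) := by group
        have hdM : k⁻¹ * c * k ∈ M24 := M24.mul_mem (M24.mul_mem (M24.inv_mem hk) hc) hk
        have h1 : (k⁻¹ * c * k) • S = S := by
          apply huniq _ (smul_mem_sextets hdM hS)
          intro u hu
          obtain ⟨v, hv, rfl⟩ := Finset.mem_smul_finset.mp hu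
          rw [← mul_smul, ← hd, mul_smul, hfix v hv]
        have h2 : c • k • S = k • ((k⁻¹ * c * k) • S) := by
          simp only [mul_smul, smul_inv_smul]
        rw [h2, h1]


end Cfsg.Agent.S5607
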