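import Cfsg.Statements.S0805
import Cfsg.Agent.Lib.helper7.CardSL

set_option autoImplicit false
open Cfsg

namespace Cfsg.Agent.S0805

open Matrix

/-- Embedding of finite fields. -/
lemma exists_ringHom {F K : Type*} [Field F] [Fintype F] [Field K] [Fintype K] (m : ℕ)
    (hK : Fintype.card K ^ m = Fintype.card F) : Nonempty (K →+* F) := by
  obtain ⟨p, hp⟩ := CharP.exists K
  haveI : Fact p.Prime := ⟨CharP.char_is_prime K p⟩
  have hF : CharP F p := by
    obtain ⟨p', hp'⟩ := CharP.exists F
    haveI : Fact p'.Prime := ⟨CharP.char_is_prime F p'⟩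
    obtain ⟨n, hn1, hn2⟩ := FiniteField.card K p
    obtain ⟨n', hn1', hn2'⟩ := FiniteField.card F p'
    have : p' = p := by
      rw [hn2, hn2', ← pow_mul] at hK
      have hdvd : p' ∣ p ^ ((n : ℕ) * m) := by rw [hK]; exact dvd_pow_self _ n'.ne_zero
      exact (Nat.prime_dvd_prime_iff_eq hn1' hn1).mp (hn1'.dvd_of_dvd_pow hdvd)
    exact this ▸ hp'
  letI := ZMod.algebra K p
  letI := ZMod.algebra F p
  have h1 := FiniteField.pow_finrank_eq_card p K
  have h2 := FiniteField.pow_finrank_eq_card p F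
  have hdvd : Module.finrank (ZMod p) K ∣ Module.finrank (ZMod p) F := by
    rw [← h1, ← h2, ← pow_mul] at hK
    have := Nat.pow_right_injective (Fact.out : p.Prime).two_le hK
    exact ⟨m, this.symm⟩
  obtain ⟨f⟩ := FiniteField.nonempty_algHom_of_finrank_dvd hdvd
  exact ⟨f.toRingHom⟩

/-- `PSL₂(K)` embeds in `PSL₂(F)`. -/
lemma psl_embed {F K : Type*} [Field F] [Field K] (φ : K →+* F) :
    ∃ H : Subgroup (Matrix.ProjectiveSpecialLinearGroup (Fin 2) F),
      Nonempty (H ≃* Matrix.ProjectiveSpecialLinearGroup (Fin 2) K) := by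
  obtain ⟨ψ, hψ⟩ : ∃ ψ : Matrix.SpecialLinearGroup (Fin 2) K →*
      Matrix.ProjectiveSpecialLinearGroup (Fin 2) F, ψ =
      (QuotientGroup.mk' (Subgroup.center (Matrix.SpecialLinearGroup (Fin 2) F))).comp
        (Matrix.SpecialLinearGroup.map φ) := ⟨_, rfl⟩
  have hker : ψ.ker = Subgroup.center (Matrix.SpecialLinearGroup (Fin 2) K) := by
    ext A
    rw [MonoidHom.mem_ker, hψ, MonoidHom.comp_apply, QuotientGroup.mk'_apply,
      QuotientGroup.eq_one_iff, Matrix.SpecialLinearGroup.mem_center_iff,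
      Matrix.SpecialLinearGroup.mem_center_iff]
    constructor
    · rintro ⟨s, hs, hA⟩
      have h00 : s = φ (A.1 0 0) := by
        have := congrFun (congrFun hA 0) 0
        simpa using this
      have h11 : s = φ (A.1 1 1) := by
        have := congrFun (congrFun hA 1) 1
        simpa using this
      have h01 : 0 = φ (A.1 0 1) := by
        have := congrFun (congrFun hA 0) 1
        simpa using this
      have h10 : 0 = φ (A.1 1 0) := by
        have := congrFun (congrFun hA 1) 0
        simpa using this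
      refine ⟨A.1 0 0, ?_, ?_⟩
      · apply φ.injective
        rw [map_pow, ← h00, hs, map_one]
      · ext i j
        fin_cases i <;> fin_cases j
        · simp
        · simp
          apply φ.injective
          rw [← h01, map_zero]
        · simp
          apply φ.injective
          rw [← h10, map_zero]
        · simp
          apply φ.injective
          rw [← h11, h00]
    · rintro ⟨r, hr, hA⟩
      refine ⟨φ r, ?_, ?_⟩
      · rw [← map_pow, hr, map_one]
      · ext i j
        have := congrFun (congrFun hA i) j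
        fin_cases i <;> fin_cases j <;> simp at this ⊢ <;> simp [← this]
  exact ⟨ψ.range, ⟨(QuotientGroup.quotientKerEquivRange ψ).symm.trans
    (QuotientGroup.quotientMulEquivOfEq hker)⟩⟩

/-- Images of elements of the subfield are squares when the degree is even. -/
lemma isSquare_map {F K : Type*} [Field F] [Fintype F] [Field K] [Fintype K] (φ : K →+* F)
    (hodd : Odd (Fintype.card F)) (m : ℕ) (hm : Even m)
    (hK : Fintype.card K ^ m = Fintype.card F) (x : K) (hx : x ≠ 0) : IsSquare (φ x) := by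
  have hchar : ringChar F ≠ 2 := fun h => by
    have h1 := FiniteField.even_card_of_char_two h
    have h2 := Nat.odd_iff.mp hodd
    omega
  rw [FiniteField.isSquare_iff hchar ((map_ne_zero φ).mpr hx)]
  obtain ⟨k, rfl⟩ := hm
  obtain ⟨r, hr⟩ : ∃ r, r = Fintype.card K := ⟨_, rfl⟩
  rw [← hr] at hK
  have hxr : x ^ (r - 1) = 1 := by rw [hr]; exact FiniteField.pow_card_sub_one_eq_one x hx
  have hrodd : Odd r := by
    by_contra hne
    rw [Nat.not_odd_iff_even] at hne
    have hk : k + k ≠ 0 := by
      intro h0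
      rw [h0, pow_zero] at hK
      have := Fintype.one_lt_card (α := F)
      omega
    have : Even (Fintype.card F) := by
      rw [← hK]
      exact (Nat.even_pow.mpr ⟨hne, hk⟩)
    exact (Nat.not_even_iff_odd.mpr hodd) this
  obtain ⟨t, ht⟩ := hrodd
  have hdvd : (r - 1) ∣ Fintype.card F / 2 := by
    have h1 : r ^ 2 - 1 ∣ (r ^ 2) ^ k - 1 ^ k := Nat.sub_dvd_pow_sub_pow (r ^ 2) 1 k
    obtain ⟨c, hc⟩ := h1
    have h2 : r ^ 2 - 1 = 4 * (t * (t + 1)) := by
      rw [ht]
      apply Nat.sub_eq_of_eq_add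
      ring
    have h3 : Fintype.card F = (r ^ 2) ^ k := by rw [← hK, ← two_mul, pow_mul]
    have h4 : 0 < (r ^ 2) ^ k := by
      apply pow_pos
      apply pow_pos
      omega
    rw [one_pow, h2] at hc
    have h5 : Fintype.card F / 2 = 2 * (t * (t + 1) * c) := by
      rw [h3]
      have : 4 * (t * (t + 1)) * c = 4 * (t * (t + 1) * c) := by ring
      omega
    rw [h5, ht]
    refine ⟨(t + 1) * c, ?_⟩
    simp only [Nat.add_sub_cancel]
    ring
  obtain ⟨c, hc⟩ := hdvd
  rw [hc, pow_mul, ← map_pow, hxr, map_one, one_pow]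

/-- `PGL₂(K)` embeds in `PSL₂(F)` when all elements of `K` become squares in `F`. -/
lemma pgl_embed {F K : Type*} [Field F] [Field K] (φ : K →+* F)
    (hsq : ∀ x : K, x ≠ 0 → IsSquare (φ x)) :
    ∃ H : Subgroup (Matrix.ProjectiveSpecialLinearGroup (Fin 2) F),
      Nonempty (H ≃* Matrix.ProjGenLinGroup (Fin 2) K) := by
  obtain ⟨θ, hθ⟩ : ∃ θ : GL (Fin 2) K →* Matrix.ProjGenLinGroup (Fin 2) F, θ =
      Matrix.ProjGenLinGroup.mk.comp (Matrix.GeneralLinearGroup.map φ) := ⟨_, rfl⟩
  have hker : θ.ker = Subgroup.center (GL (Fin 2) K) := by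
    ext A
    rw [MonoidHom.mem_ker, hθ, MonoidHom.comp_apply, Matrix.ProjGenLinGroup.mk_eq_one,
      Matrix.GeneralLinearGroup.mem_center_iff_val_mem_range_scalar,
      Matrix.GeneralLinearGroup.mem_center_iff_val_mem_range_scalar]
    constructor
    · rintro ⟨s, hA⟩
      have h00 : s = φ (A.1 0 0) := by
        have := congrFun (congrFun hA 0) 0
        simpa using this
      have h11 : s = φ (A.1 1 1) := by
        have := congrFun (congrFun hA 1) 1
        simpa using this
      have h01 : 0 = φ (A.1 0 1) := by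
        have := congrFun (congrFun hA 0) 1
        simpa using this
      have h10 : 0 = φ (A.1 1 0) := by
        have := congrFun (congrFun hA 1) 0
        simpa using this
      refine ⟨A.1 0 0, ?_⟩
      ext i j
      fin_cases i <;> fin_cases j
      · simp
      · simp
        apply φ.injective
        rw [← h01, map_zero]
      · simp
        apply φ.injective
        rw [← h10, map_zero]
      · simp
        apply φ.injective
        rw [← h11, h00]
    · rintro ⟨r, hA⟩
      refine ⟨φ r, ?_⟩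
      ext i j
      have := congrFun (congrFun hA i) j
      fin_cases i <;> fin_cases j <;> simp at this ⊢ <;> simp [← this]
  have hrange : θ.range ≤ (Matrix.ProjectiveSpecialLinearGroup.toPGL
      (n := Fin 2) (R := F)).range := by
    rintro _ ⟨A, rfl⟩
    have hdet : A.1.det ≠ 0 := by
      have := A.isUnit.map (Matrix.detMonoidHom)
      exact this.ne_zero
    obtain ⟨s, hs⟩ := hsq _ hdet
    have hs0 : s ≠ 0 := by
      rintro rfl
      rw [mul_zero] at hs
      exact hdet ((map_eq_zero φ).mp hs)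
    have hdetB : (s⁻¹ • φ.mapMatrix A.1).det = 1 := by
      rw [Matrix.det_smul, Fintype.card_fin, ← RingHom.map_det, hs]
      field_simp
    refine ⟨QuotientGroup.mk ⟨s⁻¹ • φ.mapMatrix A.1, hdetB⟩, ?_⟩
    rw [hθ, MonoidHom.comp_apply]
    show Matrix.ProjGenLinGroup.mk (Matrix.SpecialLinearGroup.toGL _) = _
    rw [Matrix.ProjGenLinGroup.mk_eq_mk_iff]
    refine ⟨Units.mk0 s hs0, ?_⟩
    apply Units.ext
    show (s⁻¹ • φ.mapMatrix A.1) * Matrix.scalar (Fin 2) s = φ.mapMatrix A.1
    rw [Matrix.scalar_apply, ← Matrix.smul_one_eq_diagonal, Matrix.mul_smul, Matrix.mul_one,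
      smul_smul, mul_inv_cancel₀ hs0, one_smul]
  refine ⟨θ.range.comap Matrix.ProjectiveSpecialLinearGroup.toPGL, ⟨?_⟩⟩
  have e1 := Subgroup.equivMapOfInjective (θ.range.comap
    (Matrix.ProjectiveSpecialLinearGroup.toPGL (n := Fin 2) (R := F)))
    Matrix.ProjectiveSpecialLinearGroup.toPGL
    Matrix.ProjectiveSpecialLinearGroup.toPGL_injective
  have e2 : Subgroup.map Matrix.ProjectiveSpecialLinearGroup.toPGL (θ.range.comap
    (Matrix.ProjectiveSpecialLinearGroup.toPGL (n := Fin 2) (R := F))) = θ.range :=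
    Subgroup.map_comap_eq_self hrange
  exact (e1.trans (MulEquiv.subgroupCongr e2)).trans
    ((QuotientGroup.quotientKerEquivRange θ).symm.trans (QuotientGroup.quotientMulEquivOfEq hker))

/-- Geometric sums of odd length with odd ratio are odd. -/
lemma geom_odd (u : ℕ) (hu : Odd u) (m : ℕ) (hm : Odd m) :
    ∃ c, Odd c ∧ u ^ m = (u - 1) * c + 1 := by
  refine ⟨∑ i ∈ Finset.range m, u ^ i, ?_, ?_⟩
  · have : ∀ n, (∑ i ∈ Finset.range n, u ^ i) % 2 = n % 2 := by
      intro n
      induction n with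
      | zero => simp
      | succ n ih =>
        rw [Finset.sum_range_succ, Nat.add_mod, ih]
        have : u ^ n % 2 = 1 := Nat.odd_iff.mp hu.pow
        omega
    rw [Nat.odd_iff, this]; exact Nat.odd_iff.mp hm
  · obtain ⟨t, rfl⟩ : ∃ t, u = t + 1 := ⟨u - 1, by have := hu.pos; omega⟩
    simp only [Nat.add_sub_cancel]
    clear hm hu
    induction m with
    | zero => simp
    | succ n ih =>
      rw [Finset.sum_range_succ, pow_succ, ih]
      ring

/-- The order of `PGL₂(K)`. -/
lemma card_PGL2 {K : Type*} [Field K] [Fintype K] :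
    Nat.card (Matrix.ProjGenLinGroup (Fin 2) K) * (Fintype.card K - 1)
      = (Fintype.card K ^ 2 - 1) * (Fintype.card K ^ 2 - Fintype.card K) := by
  classical
  have h := Subgroup.card_eq_card_quotient_mul_card_subgroup (Subgroup.center (GL (Fin 2) K))
  rw [Matrix.card_GL_field, Fin.prod_univ_two] at h
  have hinj : Function.Injective
      (Matrix.GeneralLinearGroup.scalar (Fin 2) : Kˣ →* GL (Fin 2) K) := by
    intro u v huv
    have := congrArg (fun g : GL (Fin 2) K => g.1 0 0) huv
    apply Units.ext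
    simpa using this
  have hc : Nat.card (Subgroup.center (GL (Fin 2) K)) = Fintype.card K - 1 := by
    rw [Matrix.GeneralLinearGroup.center_eq_range_scalar,
      ← Nat.card_congr (MonoidHom.ofInjective hinj).toEquiv, Nat.card_eq_fintype_card,
      Fintype.card_units]
  rw [hc] at h
  have h' : Nat.card (Matrix.ProjGenLinGroup (Fin 2) K) * (Fintype.card K - 1)
      = (Fintype.card K ^ 2 - Fintype.card K ^ ((0 : Fin 2) : ℕ)) *
        (Fintype.card K ^ 2 - Fintype.card K ^ ((1 : Fin 2) : ℕ)) := h.symm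
  simpa using h'

/-- Subfield subgroups: let F be a finite field of odd order q and K a finite field with |K|^m = q, m ≥ 1. Then PSL_2(F) has a subgroup isomorphic to PSL_2(K), and has a subgroup isomorphic to PGL_2(K) if and only if m is even. -/
theorem result {F K : Type*} [Field F] [Fintype F] [Field K] [Fintype K] {q : ℕ} (hF : Fintype.card F = q) (hodd : Odd q) (m : ℕ) (hm : 1 ≤ m) (hK : Fintype.card K ^ m = q) : (∃ H : Subgroup (Matrix.ProjectiveSpecialLinearGroup (Fin 2) F), Nonempty (H ≃* Matrix.ProjectiveSpecialLinearGroup (Fin 2) K)) ∧ ((∃ H : Subgroup (Matrix.ProjectiveSpecialLinearGroup (Fin 2) F), Nonempty (H ≃* Matrix.ProjGenLinGroup (Fin 2) K)) ↔ Even m) := by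
  subst hF
  obtain ⟨φ⟩ := exists_ringHom m hK
  refine ⟨psl_embed φ, ?_, ?_⟩
  · rintro ⟨H, ⟨e⟩⟩
    by_contra hne
    rw [Nat.not_even_iff_odd] at hne
    have hchar : ringChar F ≠ 2 := fun h => by
      have h1 := FiniteField.even_card_of_char_two h
      have h2 := Nat.odd_iff.mp hodd
      omega
    have hchar2 : (2 : F) ≠ 0 := Ring.two_ne_zero hchar
    have h1 := Cfsg.Agent.Lib.helper7.two_mul_card_PSL2 (F := F) rfl hchar2
    have h2 := card_PGL2 (K := K)
    have h3 : Nat.card H = Nat.card (Matrix.ProjGenLinGroup (Fin 2) K) := Nat.card_congr e.toEquiv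
    have h4 : Nat.card H ∣ Nat.card (Matrix.ProjectiveSpecialLinearGroup (Fin 2) F) :=
      Subgroup.card_subgroup_dvd_card H
    rw [h3] at h4
    obtain ⟨d, hd⟩ := h4
    obtain ⟨r, hr⟩ : ∃ r, r = Fintype.card K := ⟨_, rfl⟩
    obtain ⟨N, hN⟩ : ∃ N, N = Nat.card (Matrix.ProjGenLinGroup (Fin 2) K) := ⟨_, rfl⟩
    obtain ⟨P, hP⟩ : ∃ P, P = Nat.card (Matrix.ProjectiveSpecialLinearGroup (Fin 2) F) := ⟨_, rfl⟩
    rw [← hK, ← hr] at hodd
    rw [← hK, ← hr, ← hP] at h1
    rw [← hr, ← hN] at h2
    rw [← hN, ← hP] at hd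
    have hr2 : 1 < r := by rw [hr]; exact Fintype.one_lt_card
    have hrodd : Odd r := by
      by_contra hne'
      rw [Nat.not_odd_iff_even] at hne'
      exact (Nat.not_even_iff_odd.mpr hodd) (Nat.even_pow.mpr ⟨hne', by omega⟩)
    obtain ⟨c, hc, hgeo⟩ := geom_odd (r ^ 2) hrodd.pow m hne
    obtain ⟨t, ht⟩ := hrodd
    have ht1 : 1 ≤ t := by omega
    have e1 : r - 1 = 2 * t := by omega
    have e2 : r ^ 2 - 1 = 4 * (t * (t + 1)) := by
      rw [ht]
      apply Nat.sub_eq_of_eq_add
      ring
    have e3 : r ^ 2 - r = (2 * t + 1) * (2 * t) := by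
      rw [ht]
      apply Nat.sub_eq_of_eq_add
      ring
    have e4 : (r ^ m) ^ 2 - 1 = 4 * (t * (t + 1)) * c := by
      rw [← pow_mul, mul_comm m 2, pow_mul, hgeo, e2]
      simp
    rw [e1, e2, e3] at h2
    rw [e4, hd] at h1
    have hN' : N = 4 * (t * (t + 1)) * (2 * t + 1) := by
      have h0 : 0 < 2 * t := by omega
      apply Nat.eq_of_mul_eq_mul_right h0
      rw [h2]
      ring
    rw [hN'] at h1
    have h5 : 2 * ((2 * t + 1) * d) = r ^ m * c := by
      have h0 : 0 < 4 * (t * (t + 1)) := by positivity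
      apply Nat.eq_of_mul_eq_mul_left h0
      linarith
    have h6 : Odd (r ^ m * c) := hodd.mul hc
    rw [← h5] at h6
    exact (Nat.not_even_iff_odd.mpr h6) (even_two_mul _)
  · intro hm
    exact pgl_embed φ (fun x hx => isSquare_map φ hodd m hm hK x hx)

end Cfsg.Agent.S0805
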