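import Cfsg.Statements.S0547
import Mathlib
import Cfsg.Agent.Lib.helper65.MinNormal
-- import your own Cfsg.Agent.* helpers here

set_option autoImplicit false
open Cfsg

namespace Cfsg.Agent.S0547

open Cfsg.Agent.Lib.helper65

/-- Let a finite solvable group G act faithfully and primitively on a set, and let M be a minimal normal subgroup of G. Then M is transitive with trivial point stabilizers, and the number of points equals the order of M, which is a prime power p ^ d with d ≥ 1. -/
theorem result {G : Type*} [Group G] [Finite G] [Group.IsSolvable G] {Ω : Type*} [Nonempty Ω] [MulAction G Ω] [FaithfulSMul G Ω] (hprim : MulAction.IsPreprimitive G Ω) (M : Subgroup G) [M.Normal] (hM : M ≠ ⊥) (hmin : ∀ K : Subgroup G, K.Normal → K ≤ M → K = ⊥ ∨ K = M) : MulAction.IsPretransitive M Ω ∧ (∀ ω : Ω, MulAction.stabilizer M ω = ⊥) ∧ ∃ p d : ℕ, p.Prime ∧ 0 < d ∧ Nat.card Ω = p ^ d ∧ Nat.card M = p ^ d := by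
  classical
  have hMs : Group.IsSolvable M := inferInstance
  obtain ⟨p, hp, hcomm, hexp, hpg⟩ := minNormal_solvable_elementary M inferInstance hMs hM hmin
  have := Fact.mk hp
  have htr : MulAction.IsPretransitive M Ω := by
    apply MulAction.IsQuasiPreprimitive.isPretransitive_of_normal
    intro hfix
    apply hM
    rw [eq_bot_iff]
    intro m hm
    rw [Subgroup.mem_bot]
    apply FaithfulSMul.eq_of_smul_eq_smul (α := Ω)
    intro ω
    rw [one_smul]
    have : ω ∈ MulAction.fixedPoints M Ω := by
      rw [hfix]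
      trivial
    exact this ⟨m, hm⟩
  have hreg : ∀ ω : Ω, MulAction.stabilizer M ω = ⊥ := by
    intro ω
    rw [eq_bot_iff]
    intro m hm
    rw [Subgroup.mem_bot]
    apply Subtype.ext
    apply FaithfulSMul.eq_of_smul_eq_smul (α := Ω)
    intro x
    obtain ⟨n, rfl⟩ := MulAction.exists_smul_eq M ω x
    show (m : G) • (n • ω) = (1 : G) • (n • ω)
    rw [one_smul]
    have h1 : (m : G) * (n : G) = (n : G) * (m : G) := hcomm _ m.2 _ n.2
    have h2 : m • ω = ω := MulAction.mem_stabilizer_iff.mp hm
    calc (m : G) • (n • ω) = ((m : G) * (n : G)) • ω := by rw [mul_smul]; rfl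
      _ = ((n : G) * (m : G)) • ω := by rw [h1]
      _ = n • (m • ω) := by rw [mul_smul]; rfl
      _ = n • ω := by rw [h2]
  refine ⟨htr, hreg, ?_⟩
  obtain ⟨d, hd⟩ := IsPGroup.iff_card.mp hpg
  obtain ⟨ω⟩ := ‹Nonempty Ω›
  have hcard : Nat.card Ω = Nat.card M := by
    have h1 := MulAction.index_stabilizer_of_transitive (G := M) (x := ω)
    rw [hreg ω, Subgroup.index_bot] at h1
    exact h1.symm
  refine ⟨p, d, hp, ?_, hcard.trans hd, hd⟩
  rcases Nat.eq_zero_or_pos d with h0 | h0
  · exfalso
    rw [h0, pow_zero, Subgroup.card_eq_one] at hd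
    exact hM hd
  · exact h0

end Cfsg.Agent.S0547
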