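import Cfsg.Statements.S3908
import Cfsg.Agent.Lib.helper59.PairOrderP

set_option autoImplicit false
open Cfsg

namespace Cfsg.Agent.S3908

open Subgroup Cfsg.Agent.Lib.helper59

/-- If any two abelian subgroups of the same order are conjugate, a `p`-subgroup has exponent
dividing `p` or at most one subgroup of order `p`. -/
theorem exp_or_unique {G : Type*} [Group G] [Finite G]
    (hB : ∀ A B : Subgroup G, IsMulCommutative ↥A → IsMulCommutative ↥B →
      Nat.card ↥A = Nat.card ↥B → ∃ g : G, B = A.map (MulAut.conj g).toMonoidHom)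
    {p : ℕ} [Fact p.Prime] (P : Subgroup G) (hP : IsPGroup p ↥P) :
    (∀ x ∈ P, x ^ p = 1) ∨ UniqueOrderP p ↥P := by
  by_contra hcon
  push Not at hcon
  obtain ⟨⟨x, hxP, hxp⟩, hU⟩ := hcon
  have hpP : p.Prime := Fact.out
  obtain ⟨t', z', ht', hz', hzc, hne'⟩ := exists_commuting_pair_of_not_uniqueOrderP hP hU
  have ht : orderOf (t' : G) = p := by rw [Subgroup.orderOf_coe]; exact ht'
  have hz : orderOf (z' : G) = p := by rw [Subgroup.orderOf_coe]; exact hz'
  have hcomm : (t' : G) * z' = z' * t' := by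
    have := (Subgroup.mem_center_iff.mp hzc) t'
    exact congrArg Subtype.val this
  have hne : (t' : G) ∉ zpowers (z' : G) := by
    intro h
    obtain ⟨i, hi⟩ := mem_zpowers_iff.mp h
    apply hne'
    rw [mem_zpowers_iff]
    exact ⟨i, Subtype.ext (by simpa using hi)⟩
  obtain ⟨B, hBcard, hBc, hBe, -, -⟩ := exists_rank_two_of_commuting ht hz hcomm hne
  -- an element of order p^2
  obtain ⟨k, hk⟩ : ∃ k, orderOf x = p ^ k := by
    obtain ⟨k, hk⟩ := hP ⟨x, hxP⟩
    have h1 : x ^ (p ^ k) = 1 := congrArg Subtype.val hk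
    obtain ⟨j, -, hj⟩ := (Nat.dvd_prime_pow hpP).mp (orderOf_dvd_of_pow_eq_one h1)
    exact ⟨j, hj⟩
  have hk2 : 2 ≤ k := by
    by_contra hlt
    push Not at hlt
    apply hxp
    apply orderOf_dvd_iff_pow_eq_one.mp
    rw [hk]
    interval_cases k
    · simp
    · simp
  obtain ⟨j, rfl⟩ : ∃ j, k = j + 2 := ⟨k - 2, by omega⟩
  obtain ⟨y, hy⟩ : ∃ y : G, y = x ^ (p ^ j) := ⟨_, rfl⟩
  have hoy : orderOf y = p ^ 2 := by
    rw [hy, orderOf_pow_of_dvd (pow_ne_zero _ hpP.ne_zero)
      (by rw [hk]; exact pow_dvd_pow p (by omega)), hk, pow_add]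
    exact Nat.mul_div_cancel_left _ (pow_pos hpP.pos j)
  have hAcard : Nat.card (zpowers y) = p ^ 2 := by rw [Nat.card_zpowers, hoy]
  have hAc : IsMulCommutative ↥(zpowers y) := inferInstance
  have hBc' : IsMulCommutative ↥B := ⟨⟨fun a b => Subtype.ext (hBc a.1 a.2 b.1 b.2)⟩⟩
  obtain ⟨g, hg⟩ := hB (zpowers y) B hAc hBc' (by rw [hAcard, hBcard])
  apply not_isCyclic_of_card_sq_of_exp B hBcard hBe
  rw [hg, MonoidHom.map_zpowers]
  exact (Subgroup.isCyclic_iff_exists_zpowers_eq_top _).mpr ⟨_, rfl⟩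

/-- Let G be a finite group in which any two abelian subgroups of the same order are conjugate. Then a Sylow 2-subgroup of G is cyclic, elementary abelian or generalized quaternion, and for an odd prime p a Sylow p-subgroup of G is cyclic or has exponent dividing p. -/
theorem result {G : Type*} [Group G] [Finite G] (hB : ∀ A B : Subgroup G, IsMulCommutative ↥A → IsMulCommutative ↥B → Nat.card ↥A = Nat.card ↥B → ∃ g : G, B = A.map (MulAut.conj g).toMonoidHom) :
    (∀ P : Sylow 2 G, IsCyclic ↥(P : Subgroup G) ∨ Cfsg.IsElementaryAbelian 2 (P : Subgroup G) ∨ ∃ k : ℕ, Nonempty (↥(P : Subgroup G) ≃* QuaternionGroup (2 ^ k))) ∧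
    ∀ (p : ℕ) [Fact p.Prime], p ≠ 2 → ∀ P : Sylow p G, IsCyclic ↥(P : Subgroup G) ∨ ∀ x ∈ (P : Subgroup G), x ^ p = 1 := by
  refine ⟨fun P => ?_, fun p _ hp P => ?_⟩
  · have : Fact (Nat.Prime 2) := ⟨Nat.prime_two⟩
    rcases exp_or_unique hB (P : Subgroup G) P.isPGroup' with h | h
    · right; left
      refine ⟨⟨⟨fun a b => ?_⟩⟩, h⟩
      have ha := h a.1 a.2
      have hb := h b.1 b.2
      have hab := h (a.1 * b.1) (mul_mem a.2 b.2)
      apply Subtype.ext
      show a.1 * b.1 = b.1 * a.1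
      have e1 : a.1⁻¹ = a.1 := by rw [inv_eq_iff_mul_eq_one, ← pow_two]; exact ha
      have e2 : b.1⁻¹ = b.1 := by rw [inv_eq_iff_mul_eq_one, ← pow_two]; exact hb
      have e3 : (a.1 * b.1)⁻¹ = a.1 * b.1 := by rw [inv_eq_iff_mul_eq_one, ← pow_two]; exact hab
      calc a.1 * b.1 = (a.1 * b.1)⁻¹ := e3.symm
        _ = b.1⁻¹ * a.1⁻¹ := mul_inv_rev _ _
        _ = b.1 * a.1 := by rw [e1, e2]
    · rcases cyclic_or_quaternion_of_uniqueOrderP P.isPGroup' h with h' | ⟨n, hn⟩
      · left; exact h'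
      · right; right; exact ⟨n, hn⟩
  · rcases exp_or_unique hB (P : Subgroup G) P.isPGroup' with h | h
    · right; exact h
    · left; exact isCyclic_of_odd_of_uniqueOrderP hp _ _ rfl P.isPGroup' h

end Cfsg.Agent.S3908
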