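import Cfsg.Statements.S3909

set_option autoImplicit false
open Cfsg

namespace Cfsg.Agent.S3909

/-- Let G be a finite group in which any two abelian subgroups of the same order are conjugate. Let M be a normal subgroup of G. If M contains an element of the same order as a ∈ G, then a ∈ M; and if M is elementary abelian of order p^t with p prime and t ≥ 2, then M is the unique Sylow p-subgroup of G. -/
theorem result {G : Type*} [Group G] [Finite G] (hB : ∀ A B : Subgroup G, IsMulCommutative ↥A → IsMulCommutative ↥B → Nat.card ↥A = Nat.card ↥B → ∃ g : G, B = A.map (MulAut.conj g).toMonoidHom) (M : Subgroup G) [M.Normal] :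
    (∀ a : G, (∃ m ∈ M, orderOf m = orderOf a) → a ∈ M) ∧
    ∀ (p t : ℕ) [Fact p.Prime], 2 ≤ t → Nat.card ↥M = p ^ t → Cfsg.IsElementaryAbelian p M → ∀ P : Sylow p G, (P : Subgroup G) = M := by
  have key : ∀ a : G, (∃ m ∈ M, orderOf m = orderOf a) → a ∈ M := by
    rintro a ⟨m, hm, hord⟩
    obtain ⟨g, hg⟩ := hB (Subgroup.zpowers m) (Subgroup.zpowers a) inferInstance inferInstance
      (by simp [Nat.card_zpowers, hord])
    have h1 : a ∈ (Subgroup.zpowers m).map (MulAut.conj g).toMonoidHom :=
      hg ▸ Subgroup.mem_zpowers a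
    obtain ⟨y, hy, rfl⟩ := h1
    have hyM : y ∈ M := (Subgroup.zpowers_le.mpr hm) hy
    exact ‹M.Normal›.conj_mem y hyM g
  refine ⟨key, ?_⟩
  intro p t hp ht hcard hE P
  have hpp : p.Prime := hp.out
  have hMp : IsPGroup p M := IsPGroup.of_card hcard
  have hMP : M ≤ P := hMp.le_sylow_of_normal P
  refine le_antisymm ?_ hMP
  intro a ha
  -- order of a is a power of p
  obtain ⟨j, hj⟩ : ∃ j, orderOf a = p ^ j := by
    obtain ⟨k, hk⟩ := P.isPGroup' ⟨a, ha⟩
    have hk' : a ^ p ^ k = 1 := by
      have := congrArg Subtype.val hk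
      simpa using this
    obtain ⟨j, -, hj⟩ := (Nat.dvd_prime_pow hpp).1 (orderOf_dvd_of_pow_eq_one hk')
    exact ⟨j, hj⟩
  -- M has an element of order p
  have hpM : p ∣ Nat.card M := by
    rw [hcard]; exact dvd_pow_self p (by omega)
  obtain ⟨m, hm⟩ := exists_prime_orderOf_dvd_card' p hpM
  rcases Nat.lt_or_ge j 2 with hj2 | hj2
  · interval_cases j
    · have : a = 1 := by simpa using hj
      rw [this]; exact M.one_mem
    · exact key a ⟨m, m.2, by rw [Subgroup.orderOf_coe, hm, hj, pow_one]⟩
  · exfalso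
    -- b = a ^ p ^ (j - 2) has order p ^ 2
    set b := a ^ p ^ (j - 2) with hb
    have hbord : orderOf b = p ^ 2 := by
      rw [hb, orderOf_pow' a (pow_ne_zero _ hpp.ne_zero), hj,
        Nat.gcd_eq_right (pow_dvd_pow p (by omega))]
      rw [Nat.pow_div (by omega) hpp.pos]
      congr 1; omega
    -- a subgroup of M of order p ^ 2
    obtain ⟨K, hK⟩ := Sylow.exists_subgroup_card_pow_prime (G := M) p (n := 2)
      (by rw [hcard]; exact pow_dvd_pow p ht)
    set E : Subgroup G := K.map M.subtype with hEdef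
    have hEM : E ≤ M := Subgroup.map_subtype_le K
    have hEcard : Nat.card E = p ^ 2 := by
      rw [← hK]
      exact Nat.card_congr (K.equivMapOfInjective M.subtype M.subtype_injective).symm.toEquiv
    have hEcomm : IsMulCommutative E := by
      have := hE.1
      exact IsMulCommutative.of_setLike_mul_comm fun x hx y hy =>
        setLike_mul_comm (hEM hx) (hEM hy)
    obtain ⟨g, hg⟩ := hB E (Subgroup.zpowers b) hEcomm inferInstance
      (by rw [hEcard, Nat.card_zpowers, hbord])
    have h1 : b ∈ E.map (MulAut.conj g).toMonoidHom := hg ▸ Subgroup.mem_zpowers b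
    obtain ⟨y, hy, hyb⟩ := h1
    have hyp : y ^ p = 1 := hE.2 y (hEM hy)
    have hbp : b ^ p = 1 := by
      rw [← hyb, ← map_pow, hyp, map_one]
    have := orderOf_dvd_of_pow_eq_one hbp
    rw [hbord] at this
    have h2 : p ^ 2 ≤ p := Nat.le_of_dvd hpp.pos this
    have h3 : p < p ^ 2 := by
      have := hpp.one_lt
      nlinarith
    omega

end Cfsg.Agent.S3909
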