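import Cfsg.Statements.S0602
import Mathlib
import Cfsg.Agent.Lib.helper13.Thompson

set_option autoImplicit false
open Cfsg

namespace Cfsg.Agent.S0602

open Cfsg.Agent.Lib.helper13

/-- The Thompson subgroup is characteristic, and nontrivial as soon as p divides the group order. -/
theorem result {G : Type*} [Group G] [Finite G] {p : ℕ} [Fact p.Prime] : (Cfsg.thompsonSubgroup p G).Characteristic ∧ (p ∣ Nat.card G → Cfsg.thompsonSubgroup p G ≠ ⊥) := by
  refine ⟨thompsonSubgroup_characteristic p G, ?_⟩
  intro hp hbot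
  obtain ⟨x, hx⟩ := exists_prime_orderOf_dvd_card' (G := G) p hp
  obtain ⟨A, hA⟩ := maxElementaryAbelian_nonempty p G
  have hxp : x ^ p = 1 := by rw [← hx]; exact pow_orderOf_eq_one x
  have h1 := hA.2 _ (isElementaryAbelian_zpowers hxp)
  rw [Nat.card_zpowers, hx] at h1
  have h2 : A ≤ ⊥ := by rw [← hbot]; exact le_thompsonSubgroup hA
  rw [le_bot_iff] at h2
  rw [h2, Subgroup.card_bot] at h1
  exact absurd h1 (by have := (Fact.out : p.Prime).one_lt; omega)

end Cfsg.Agent.S0602
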