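import Cfsg.Statements.S0599
import Mathlib
import Cfsg.Agent.Lib.helper13.Offender
import Cfsg.Agent.Lib.helper13.NilAct
import Cfsg.Agent.Lib.helper13.Thompson

set_option autoImplicit false
open Cfsg
open scoped commutatorElement

namespace Cfsg.Agent.S0599

open Cfsg.Agent.Lib.helper13

/-- Nontriviality part of the Timmesfeld replacement theorem. -/
theorem nontrivial_part {G : Type*} [Group G] [Finite G] {p : ℕ} [Fact p.Prime] (V A : Subgroup G)
    (hV : Cfsg.IsElementaryAbelian p V) (hAV : A ≤ Subgroup.normalizer (V : Set G))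
    (hpow : ∀ a ∈ A, a ^ p ∈ Subgroup.centralizer (V : Set G)) (U : Subgroup G) (hU : U ≤ V)
    (B : Subgroup G) (hB : V ⊓ Subgroup.centralizer (B : Set G)
      = ⁅U, A⁆ ⊔ (V ⊓ Subgroup.centralizer (A : Set G)))
    (hVA : ⁅V, A⁆ ≠ ⊥) : ⁅V, B⁆ ≠ ⊥ := by
  intro hbot
  apply hVA
  have hVc := hV.1
  have hVB : V ≤ Subgroup.centralizer (B : Set G) :=
    Subgroup.commutator_eq_bot_iff_le_centralizer.mp hbot
  have hVeq : V = ⁅U, A⁆ ⊔ (V ⊓ Subgroup.centralizer (A : Set G)) := by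
    rw [← hB]; exact (inf_of_le_left hVB).symm
  have hUA : ⁅U, A⁆ ≤ V := (Subgroup.commutator_mono hU le_rfl).trans
    (commutator_le_of_le_normalizer hAV)
  have hnormCV : ⁅U, A⁆ ≤ Subgroup.normalizer
      ((V ⊓ Subgroup.centralizer (A : Set G) : Subgroup G) : Set G) := by
    rw [Subgroup.le_normalizer_iff]
    intro w hw c hc
    have hcV := (Subgroup.mem_inf.mp hc).1
    have : w * c * w⁻¹ = c := by
      rw [comm_of_mem_of_isMulCommutative V (hUA hw) hcV]; group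
    rw [this]; exact hc
  apply eq_bot_of_le_commutator V A ⁅V, A⁆ (elemAb_isPGroup hV) hAV
    (fun a ha => ⟨1, by rw [pow_one]; exact hpow a ha⟩) (commutator_le_of_le_normalizer hAV)
  rw [Subgroup.commutator_le]
  intro v hv a ha
  rw [hVeq, ← SetLike.mem_coe, Subgroup.coe_mul_of_left_le_normalizer_right _ _ hnormCV] at hv
  obtain ⟨w, hw, c, hc, rfl⟩ := hv
  have hcA := (Subgroup.mem_inf.mp hc).2
  rw [Subgroup.mem_centralizer_iff] at hcA
  have hca : a * c = c * a := hcA a ha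
  have : ⁅w * c, a⁆ = ⁅w, a⁆ := by
    simp only [commutatorElement_def]
    calc w * c * a * (w * c)⁻¹ * a⁻¹ = w * (c * a) * c⁻¹ * w⁻¹ * a⁻¹ := by group
      _ = w * (a * c) * c⁻¹ * w⁻¹ * a⁻¹ := by rw [hca]
      _ = w * a * w⁻¹ * a⁻¹ := by group
  rw [this]
  exact Subgroup.commutator_mem_commutator
    ((Subgroup.commutator_mono hU le_rfl : ⁅U, A⁆ ≤ ⁅V, A⁆) hw) ha

/-- The Timmesfeld replacement Theorem: replacing a best offender A by C_A([U, A]) gives a best offender with fixed points [U, A]C_V(A), still nontrivial on V if A was. -/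
theorem result {G : Type*} [Group G] [Finite G] {p : ℕ} [Fact p.Prime] (V A : Subgroup G) (hV : Cfsg.IsElementaryAbelian p V) (hAV : A ≤ Subgroup.normalizer (V : Set G)) (hA : Cfsg.IsBestOffenderOn p V A) (U : Subgroup G) (hU : U ≤ V) : Cfsg.IsBestOffenderOn p V (A ⊓ Subgroup.centralizer ((⁅U, A⁆ : Subgroup G) : Set G)) ∧ V ⊓ Subgroup.centralizer ((A ⊓ Subgroup.centralizer ((⁅U, A⁆ : Subgroup G) : Set G) : Subgroup G) : Set G) = ⁅U, A⁆ ⊔ (V ⊓ Subgroup.centralizer (A : Set G)) ∧ (⁅V, A⁆ ≠ ⊥ → ⁅V, A ⊓ Subgroup.centralizer ((⁅U, A⁆ : Subgroup G) : Set G)⁆ ≠ ⊥) := by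
  obtain ⟨hbest, hab, hpow⟩ := hA
  have hVc := hV.1
  obtain ⟨h1, h2⟩ := replacement V A hAV hab hbest U hU
  refine ⟨⟨?_, ?_, ?_⟩, h2, ?_⟩
  · intro B hB
    rw [h1]
    exact hbest B (hB.trans inf_le_left)
  · exact (Subgroup.commutator_mono inf_le_left inf_le_left).trans hab
  · intro a ha
    exact hpow a (Subgroup.mem_inf.mp ha).1
  · exact nontrivial_part V A hV hAV hpow U hU _ h2

end Cfsg.Agent.S0599
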