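import Cfsg.Statements.S0606
import Mathlib
import Cfsg.Agent.Lib.helper13.Thompson
import Cfsg.Agent.Lib.helper13.Count

set_option autoImplicit false
open Cfsg

namespace Cfsg.Agent.S0606

open Cfsg.Agent.Lib.helper13

/-- The best offender inequality for a maximal elementary abelian subgroup. -/
theorem max_offender {G : Type*} [Group G] [Finite G] {p : ℕ} (V : Subgroup G)
    (hV : Cfsg.IsElementaryAbelian p V) (A : Subgroup G)
    (hA : A ∈ Cfsg.maxElementaryAbelianSubgroups p G) (B : Subgroup G) (hBA : B ≤ A) :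
    Nat.card B * Nat.card ↥(V ⊓ Subgroup.centralizer (B : Set G)) ≤
        Nat.card A * Nat.card ↥(V ⊓ Subgroup.centralizer (A : Set G)) := by
  set W : Subgroup G := V ⊓ Subgroup.centralizer (B : Set G) with hW
  have hBel : IsElementaryAbelian p B := elemAb_mono hA.1 hBA
  have hWel : IsElementaryAbelian p W := elemAb_mono hV inf_le_left
  have hE : IsElementaryAbelian p (B ⊔ W) := elemAb_sup hBel hWel inf_le_right
  have h1 : Nat.card (B ⊔ W : Subgroup G) ≤ Nat.card A := hA.2 _ hE
  have h2 := card_mul_card_le_sup_inf B W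
  have hAc := hA.1.1
  have h3 : B ⊓ W ≤ V ⊓ Subgroup.centralizer (A : Set G) := by
    intro x hx
    obtain ⟨hxB, hxW⟩ := Subgroup.mem_inf.mp hx
    exact Subgroup.mem_inf.mpr ⟨(Subgroup.mem_inf.mp hxW).1, Subgroup.le_centralizer A (hBA hxB)⟩
  have h4 : Nat.card (B ⊓ W : Subgroup G) ≤ Nat.card ↥(V ⊓ Subgroup.centralizer (A : Set G)) :=
    Subgroup.card_le_of_le h3
  calc Nat.card B * Nat.card W ≤ Nat.card (B ⊔ W : Subgroup G) * Nat.card (B ⊓ W : Subgroup G) := h2
    _ ≤ Nat.card A * Nat.card ↥(V ⊓ Subgroup.centralizer (A : Set G)) := Nat.mul_le_mul h1 h4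

/-- Elementary abelian p-subgroups of maximal order are best offenders on any normal elementary abelian p-subgroup. -/
theorem result {G : Type*} [Group G] [Finite G] {p : ℕ} [Fact p.Prime] (V : Subgroup G) [V.Normal] (hV : Cfsg.IsElementaryAbelian p V) (A : Subgroup G) (hA : A ∈ Cfsg.maxElementaryAbelianSubgroups p G) : Cfsg.IsBestOffenderOn p V A := by
  refine ⟨fun B hBA => max_offender V hV A hA B hBA, ?_, ?_⟩
  · have hAc := hA.1.1
    have : ⁅A, A⁆ = ⊥ := Subgroup.commutator_eq_bot_iff_le_centralizer.mpr (Subgroup.le_centralizer A)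
    rw [this]
    exact bot_le
  · intro a ha
    rw [hA.1.2 a ha]
    exact Subgroup.one_mem _

end Cfsg.Agent.S0606
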