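import Cfsg.Statements.S0607
import Mathlib
import Cfsg.Agent.Lib.helper13.Offender
import Cfsg.Agent.Lib.helper13.NilAct
import Cfsg.Agent.Lib.helper13.Thompson
import Cfsg.Agent.S0599
import Cfsg.Agent.S0606

set_option autoImplicit false
open Cfsg
open scoped commutatorElement

namespace Cfsg.Agent.S0607

open Cfsg.Agent.Lib.helper13

/-- The replacement Theorem for the Thompson subgroup: from A of maximal order among elementary abelian p-subgroups one obtains A₀ = [V, A] C_A([V, A]) of the same kind, quadratic on V and nontrivial on V when A is. -/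
theorem result {G : Type*} [Group G] [Finite G] {p : ℕ} [Fact p.Prime] (V : Subgroup G) [V.Normal] (hV : Cfsg.IsElementaryAbelian p V) (A : Subgroup G) (hA : A ∈ Cfsg.maxElementaryAbelianSubgroups p G) : (⁅V, A⁆ ⊔ (A ⊓ Subgroup.centralizer ((⁅V, A⁆ : Subgroup G) : Set G))) ∈ Cfsg.maxElementaryAbelianSubgroups p G ∧ ⁅⁅V, ⁅V, A⁆ ⊔ (A ⊓ Subgroup.centralizer ((⁅V, A⁆ : Subgroup G) : Set G))⁆, ⁅V, A⁆ ⊔ (A ⊓ Subgroup.centralizer ((⁅V, A⁆ : Subgroup G) : Set G))⁆ = ⊥ ∧ (⁅V, A⁆ ≠ ⊥ → ⁅V, ⁅V, A⁆ ⊔ (A ⊓ Subgroup.centralizer ((⁅V, A⁆ : Subgroup G) : Set G))⁆ ≠ ⊥) := by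
  classical
  have hVc := hV.1
  have hAV : A ≤ Subgroup.normalizer (V : Set G) := Subgroup.le_normalizer_of_normal
  have hAc := hA.1.1
  have hAA : A ≤ Subgroup.centralizer (A : Set G) := Subgroup.le_centralizer A
  have hVV : V ≤ Subgroup.centralizer (V : Set G) := Subgroup.le_centralizer V
  have hab : ⁅A, A⁆ ≤ Subgroup.centralizer (V : Set G) := by
    rw [Subgroup.commutator_eq_bot_iff_le_centralizer.mpr hAA]; exact bot_le
  have hbest := fun B hB => Cfsg.Agent.S0606.max_offender V hV A hA B hB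
  have hpow : ∀ a ∈ A, a ^ p ∈ Subgroup.centralizer (V : Set G) := by
    intro a ha
    rw [hA.1.2 a ha]; exact Subgroup.one_mem _
  obtain ⟨h1, h2⟩ := replacement V A hAV hab hbest V le_rfl
  set W : Subgroup G := ⁅V, A⁆ with hW
  set B : Subgroup G := A ⊓ Subgroup.centralizer (W : Set G) with hB
  set CVA : Subgroup G := V ⊓ Subgroup.centralizer (A : Set G) with hCVA
  have hWV : W ≤ V := commutator_le_of_le_normalizer hAV
  have hBel : IsElementaryAbelian p B := elemAb_mono hA.1 inf_le_left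
  have hWel : IsElementaryAbelian p W := elemAb_mono hV hWV
  have hA0el : IsElementaryAbelian p (W ⊔ B) := elemAb_sup hWel hBel inf_le_right
  have hCVA_le : CVA ≤ A :=
    le_of_mem_max_of_le_centralizer hA (elemAb_mono hV inf_le_left) inf_le_right
  have hVW : V ≤ Subgroup.centralizer (W : Set G) :=
    hVV.trans (Subgroup.centralizer_le (SetLike.coe_subset_coe.mpr hWV))
  have hCVA_B : CVA ≤ B := le_inf hCVA_le (inf_le_left.trans hVW)
  have hE : B ⊔ (V ⊓ Subgroup.centralizer (B : Set G)) = W ⊔ B := by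
    rw [h2]
    apply le_antisymm
    · exact sup_le le_sup_right (sup_le le_sup_left (hCVA_B.trans le_sup_right))
    · exact sup_le (le_sup_left.trans le_sup_right) le_sup_left
  have h3 := card_mul_card_le_sup_inf B (V ⊓ Subgroup.centralizer (B : Set G))
  rw [hE, h1] at h3
  have h4 : B ⊓ (V ⊓ Subgroup.centralizer (B : Set G)) ≤ CVA := by
    intro x hx
    obtain ⟨hxB, hxV⟩ := Subgroup.mem_inf.mp hx
    exact Subgroup.mem_inf.mpr ⟨(Subgroup.mem_inf.mp hxV).1, hAA (Subgroup.mem_inf.mp hxB).1⟩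
  have h5 := Subgroup.card_le_of_le h4
  have h6 : Nat.card A ≤ Nat.card ↥(W ⊔ B) := by
    have : Nat.card A * Nat.card CVA ≤ Nat.card ↥(W ⊔ B) * Nat.card CVA :=
      h3.trans (Nat.mul_le_mul_left _ h5)
    exact Nat.le_of_mul_le_mul_right this Nat.card_pos
  refine ⟨mem_max_of_card_le hA hA0el h6, ?_, ?_⟩
  · have hBW : B ≤ Subgroup.normalizer (W : Set G) :=
      inf_le_right.trans (Subgroup.centralizer_le_normalizer _)
    have h7 : ⁅V, W ⊔ B⁆ ≤ W := by
      rw [Subgroup.commutator_le]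
      intro v hv x hx
      rw [sup_comm, ← SetLike.mem_coe,
        Subgroup.coe_mul_of_left_le_normalizer_right B W hBW] at hx
      obtain ⟨b, hb, w, hw, rfl⟩ := hx
      have hwv : w * v⁻¹ = v⁻¹ * w :=
        comm_of_mem_of_isMulCommutative V (hWV hw) (V.inv_mem hv)
      have : ⁅v, b * w⁆ = ⁅v, b⁆ := by
        simp only [commutatorElement_def]
        calc v * (b * w) * v⁻¹ * (b * w)⁻¹ = v * b * (w * v⁻¹) * w⁻¹ * b⁻¹ := by group
          _ = v * b * (v⁻¹ * w) * w⁻¹ * b⁻¹ := by rw [hwv]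
          _ = v * b * v⁻¹ * b⁻¹ := by group
      rw [this]
      exact Subgroup.commutator_mem_commutator hv (Subgroup.mem_inf.mp hb).1
    have h8 : W ⊔ B ≤ Subgroup.centralizer (W : Set G) :=
      sup_le (hWV.trans hVW) inf_le_right
    rw [Subgroup.commutator_eq_bot_iff_le_centralizer]
    exact h7.trans (Subgroup.le_centralizer_iff.mp h8)
  · intro hne
    have hnt := Cfsg.Agent.S0599.nontrivial_part V A hV hAV hpow V le_rfl B h2 hne
    intro hbot
    apply hnt
    rw [eq_bot_iff, ← hbot]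
    exact Subgroup.commutator_mono le_rfl le_sup_right

end Cfsg.Agent.S0607
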