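import Cfsg.Statements.S0601
import Mathlib
import Cfsg.Agent.Lib.helper13.PCoreAct
import Cfsg.Agent.Lib.helper13.Thompson

set_option autoImplicit false
open Cfsg

namespace Cfsg.Agent.S0601

open Cfsg.Agent.Lib.helper13

theorem omegaOne_le {G : Type*} [Group G] (p : ℕ) (H : Subgroup G) : Cfsg.omegaOne p H ≤ H := by
  unfold Cfsg.omegaOne
  rw [Subgroup.closure_le]
  intro x hx
  exact hx.1

theorem map_conj_le {G : Type*} [Group G] {p : ℕ} [Fact p.Prime] (S : Sylow p G) (g : G) :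
    (Cfsg.omegaOne p ((S : Subgroup G) ⊓ Subgroup.centralizer ((S : Subgroup G) : Set G))).map
      (MulAut.conj g).toMonoidHom ≤
    Cfsg.omegaOne p (((g • S : Sylow p G) : Subgroup G) ⊓
      Subgroup.centralizer (((g • S : Sylow p G) : Subgroup G) : Set G)) := by
  unfold Cfsg.omegaOne
  rw [Subgroup.map_le_iff_le_comap, Subgroup.closure_le]
  rintro x ⟨hx, hxp⟩
  obtain ⟨hxS, hxC⟩ := Subgroup.mem_inf.mp hx
  have hmem : ∀ y ∈ (S : Subgroup G), g * y * g⁻¹ ∈ ((g • S : Sylow p G) : Subgroup G) := by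
    intro y hy
    rw [Sylow.coe_subgroup_smul, Subgroup.mem_pointwise_smul_iff_inv_smul_mem]
    rw [MulAut.smul_def, ← map_inv, MulAut.conj_apply]
    have : g⁻¹ * (g * y * g⁻¹) * g⁻¹⁻¹ = y := by group
    rw [this]; exact hy
  have hmem' : ∀ y ∈ ((g • S : Sylow p G) : Subgroup G), g⁻¹ * y * g ∈ (S : Subgroup G) := by
    intro y hy
    rw [Sylow.coe_subgroup_smul, Subgroup.mem_pointwise_smul_iff_inv_smul_mem] at hy
    rw [MulAut.smul_def, ← map_inv, MulAut.conj_apply, inv_inv] at hy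
    exact hy
  apply Subgroup.subset_closure
  refine ⟨Subgroup.mem_inf.mpr ⟨?_, ?_⟩, ?_⟩
  · exact hmem x hxS
  · rw [Subgroup.mem_centralizer_iff]
    intro y hy
    have h1 := hmem' y hy
    rw [Subgroup.mem_centralizer_iff] at hxC
    have h2 := hxC _ h1
    change y * (g * x * g⁻¹) = g * x * g⁻¹ * y
    calc y * (g * x * g⁻¹) = g * ((g⁻¹ * y * g) * x) * g⁻¹ := by group
      _ = g * (x * (g⁻¹ * y * g)) * g⁻¹ := by rw [h2]
      _ = g * x * g⁻¹ * y := by group
  · change (g * x * g⁻¹) ^ p = 1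
    rw [conj_pow, hxp]; group

theorem result {G : Type*} [Group G] [Finite G] {p : ℕ} [Fact p.Prime] (hc : Subgroup.centralizer (Cfsg.pCore p G : Set G) ≤ Cfsg.pCore p G) : (⨆ S : Sylow p G, Cfsg.omegaOne p (((S : Subgroup G)) ⊓ Subgroup.centralizer ((S : Subgroup G) : Set G))).Normal ∧ Cfsg.IsElementaryAbelian p (⨆ S : Sylow p G, Cfsg.omegaOne p (((S : Subgroup G)) ⊓ Subgroup.centralizer ((S : Subgroup G) : Set G))) ∧ ∀ D : Subgroup G, D.Normal → Subgroup.centralizer ((⨆ S : Sylow p G, Cfsg.omegaOne p (((S : Subgroup G)) ⊓ Subgroup.centralizer ((S : Subgroup G) : Set G)) : Subgroup G) : Set G) ≤ D → (∃ k : ℕ, (Subgroup.centralizer ((⨆ S : Sylow p G, Cfsg.omegaOne p (((S : Subgroup G)) ⊓ Subgroup.centralizer ((S : Subgroup G) : Set G)) : Subgroup G) : Set G)).relIndex D = p ^ k) → D = Subgroup.centralizer ((⨆ S : Sylow p G, Cfsg.omegaOne p (((S : Subgroup G)) ⊓ Subgroup.centralizer ((S : Subgroup G) : Set G)) : Subgroup G) : Set G) := by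
  set W : Sylow p G → Subgroup G := fun S =>
    Cfsg.omegaOne p (((S : Subgroup G)) ⊓ Subgroup.centralizer ((S : Subgroup G) : Set G)) with hW
  change (⨆ S : Sylow p G, W S).Normal ∧ Cfsg.IsElementaryAbelian p (⨆ S : Sylow p G, W S) ∧
    ∀ D : Subgroup G, D.Normal →
      Subgroup.centralizer ((⨆ S : Sylow p G, W S : Subgroup G) : Set G) ≤ D →
      (∃ k : ℕ, (Subgroup.centralizer ((⨆ S : Sylow p G, W S : Subgroup G) : Set G)).relIndex D
        = p ^ k) → D = Subgroup.centralizer ((⨆ S : Sylow p G, W S : Subgroup G) : Set G)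
  refine ⟨?_, ?_, ?_⟩
  · -- normal
    constructor
    intro n hn g
    have h1 : (⨆ S : Sylow p G, W S).map (MulAut.conj g).toMonoidHom ≤ ⨆ S : Sylow p G, W S := by
      rw [Subgroup.map_iSup, iSup_le_iff]
      intro S
      exact (map_conj_le S g).trans (le_iSup W (g • S))
    exact h1 (Subgroup.mem_map_of_mem _ hn)
  · -- elementary abelian
    have hOn : (Cfsg.pCore p G).Normal := Subgroup.sSup_normal _ (fun _ h => h.1)
    have hOp : IsPGroup p (Cfsg.pCore p G) :=
      Sylow.sSup_of_normal _ (fun _ h => h.2) (fun _ h => h.1)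
    set O := Cfsg.pCore p G with hO
    let E : Subgroup G :=
      { carrier := {x | x ∈ O ⊓ Subgroup.centralizer (O : Set G) ∧ x ^ p = 1}
        one_mem' := ⟨Subgroup.one_mem _, one_pow p⟩
        mul_mem' := by
          rintro a b ⟨ha, hap⟩ ⟨hb, hbp⟩
          refine ⟨Subgroup.mul_mem _ ha hb, ?_⟩
          have hcomm : Commute a b := by
            have := (Subgroup.mem_centralizer_iff.mp (Subgroup.mem_inf.mp hb).2) a
              (Subgroup.mem_inf.mp ha).1
            exact this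
          rw [hcomm.mul_pow, hap, hbp, one_mul]
        inv_mem' := by
          rintro a ⟨ha, hap⟩
          exact ⟨Subgroup.inv_mem _ ha, by rw [inv_pow, hap, inv_one]⟩ }
    have hE : Cfsg.IsElementaryAbelian p E := by
      rw [isElementaryAbelian_iff]
      constructor
      · rintro a ⟨ha, -⟩ b ⟨hb, -⟩
        exact (Subgroup.mem_centralizer_iff.mp (Subgroup.mem_inf.mp hb).2) a
              (Subgroup.mem_inf.mp ha).1
      · rintro a ⟨-, hap⟩
        exact hap
    refine elemAb_mono hE ?_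
    rw [iSup_le_iff]
    intro S
    rw [hW]
    change Cfsg.omegaOne p _ ≤ E
    unfold Cfsg.omegaOne
    rw [Subgroup.closure_le]
    rintro x ⟨hx, hxp⟩
    obtain ⟨hxS, hxC⟩ := Subgroup.mem_inf.mp hx
    have hOS : O ≤ (S : Subgroup G) := hOp.le_sylow_of_normal S
    have hxCO : x ∈ Subgroup.centralizer (O : Set G) := Subgroup.centralizer_le hOS hxC
    exact ⟨Subgroup.mem_inf.mpr ⟨hc hxCO, hxCO⟩, hxp⟩
  · intro D hDn hCD hidx
    exact eq_centralizer_of_relIndex_pow _ W
      (fun S => (omegaOne_le p _).trans inf_le_right) rfl D hCD hidx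

end Cfsg.Agent.S0601
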