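import Cfsg.Statements.S0608
import Mathlib
import Cfsg.Agent.Lib.helper13.Thompson2
import Cfsg.Agent.Lib.helper13.PCoreAct
import Cfsg.Agent.S0601
import Cfsg.Agent.S0604

set_option autoImplicit false
open Cfsg

namespace Cfsg.Agent.S0608

open Cfsg.Agent.Lib.helper13
open scoped Pointwise

theorem result {G : Type*} [Group G] [Finite G] {p : ℕ} [Fact p.Prime] (hO : Cfsg.pPrimeCore p G = ⊥) : Cfsg.IsThompsonFactorizable p G ↔ Cfsg.thompsonSubgroup p G ≤ Subgroup.centralizer ((⨆ S : Sylow p G, Cfsg.omegaOne p (((S : Subgroup G)) ⊓ Subgroup.centralizer ((S : Subgroup G) : Set G)) : Subgroup G) : Set G) := by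
  set W : Sylow p G → Subgroup G := fun S =>
    Cfsg.omegaOne p (((S : Subgroup G)) ⊓ Subgroup.centralizer ((S : Subgroup G) : Set G)) with hW
  change Cfsg.IsThompsonFactorizable p G ↔
    Cfsg.thompsonSubgroup p G ≤ Subgroup.centralizer ((⨆ S : Sylow p G, W S : Subgroup G) : Set G)
  have hWS : ∀ S : Sylow p G, W S ≤ Subgroup.centralizer ((S : Subgroup G) : Set G) :=
    fun S => (Cfsg.Agent.S0601.omegaOne_le p _).trans inf_le_right
  have hJS : ∀ S : Sylow p G, Cfsg.thompsonSubgroupOf p (S : Subgroup G) ≤ (S : Subgroup G) :=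
    fun S => thompsonSubgroupOf_le_self _
  constructor
  · intro hTF
    rw [Cfsg.Agent.S0604.result, iSup_le_iff]
    intro S
    rw [Subgroup.le_centralizer_iff, iSup_le_iff]
    intro T
    obtain ⟨g, rfl⟩ := MulAction.exists_smul_eq G S T
    obtain ⟨x, hx, c, hc, n, hn, hg⟩ := hTF S g⁻¹
    rw [hO, Subgroup.mem_bot] at hx
    subst hx
    have hg' : g = n⁻¹ * c⁻¹ := by
      rw [← inv_inv g, hg]; group
    intro w hw
    rw [Subgroup.mem_centralizer_iff]
    intro j hj
    have h1 : g⁻¹ * w * g ∈ W S := by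
      have h2 := Cfsg.Agent.S0601.map_conj_le (g • S) g⁻¹
      rw [inv_smul_smul] at h2
      have h3 := h2 (Subgroup.mem_map_of_mem _ hw)
      have h4 : (MulAut.conj g⁻¹).toMonoidHom w = g⁻¹ * w * g := by
        change g⁻¹ * w * g⁻¹⁻¹ = g⁻¹ * w * g
        rw [inv_inv]
      rw [h4] at h3
      exact h3
    set w' := g⁻¹ * w * g with hw'
    have hcw : w' * c = c * w' := (Subgroup.mem_centralizer_iff.mp hc) w' h1
    have hw_eq : w = n⁻¹ * w' * n := by
      calc w = g * w' * g⁻¹ := by rw [hw']; group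
        _ = n⁻¹ * (c⁻¹ * (w' * c)) * n := by rw [hg']; group
        _ = n⁻¹ * w' * n := by rw [hcw, inv_mul_cancel_left]
    have hnj : n * j * n⁻¹ ∈ Cfsg.thompsonSubgroupOf p (S : Subgroup G) :=
      (Subgroup.mem_normalizer_iff.mp hn j).mp hj
    have hcomm : (n * j * n⁻¹) * w' = w' * (n * j * n⁻¹) :=
      (Subgroup.mem_centralizer_iff.mp (hWS S h1)) _ (hJS S hnj)
    rw [hw_eq]
    calc j * (n⁻¹ * w' * n) = n⁻¹ * ((n * j * n⁻¹) * w') * n := by group
      _ = n⁻¹ * (w' * (n * j * n⁻¹)) * n := by rw [hcomm]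
      _ = n⁻¹ * w' * n * j := by group
  · intro hJ S g
    have hVn : (⨆ S : Sylow p G, W S).Normal := by
      constructor
      intro n hn g
      have h1 : (⨆ S : Sylow p G, W S).map (MulAut.conj g).toMonoidHom ≤ ⨆ S : Sylow p G, W S := by
        rw [Subgroup.map_iSup, iSup_le_iff]
        intro S
        exact (Cfsg.Agent.S0601.map_conj_le S g).trans (le_iSup W (g • S))
      exact h1 (Subgroup.mem_map_of_mem _ hn)
    set V := ⨆ S : Sylow p G, W S with hV
    have hCn : (Subgroup.centralizer (V : Set G)).Normal := inferInstance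
    set C := Subgroup.centralizer (V : Set G) with hC
    have hJSC : Cfsg.thompsonSubgroupOf p (S : Subgroup G) ≤ (S : Subgroup G) ⊓ C := by
      refine le_inf (hJS S) (le_trans ?_ hJ)
      rw [Cfsg.Agent.S0604.result]
      exact le_iSup (fun S : Sylow p G => Cfsg.thompsonSubgroupOf p (S : Subgroup G)) S
    have hJeq : Cfsg.thompsonSubgroupOf p ((S : Subgroup G) ⊓ C) =
        Cfsg.thompsonSubgroupOf p (S : Subgroup G) :=
      thompsonSubgroupOf_eq_of_le inf_le_left hJSC
    have hp : IsPGroup p (((S : Subgroup G) ⊓ C).subgroupOf C) :=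
      (S.isPGroup'.to_le inf_le_left).comap_subtype
    have hnd : ¬ p ∣ (((S : Subgroup G) ⊓ C).subgroupOf C).index :=
      not_dvd_relIndex_sylow_inf_normal S C
    have hfr := Sylow.normalizer_sup_eq_top (hp.toSylow hnd)
    rw [IsPGroup.toSylow_coe, Subgroup.subgroupOf_map_subtype, inf_assoc, inf_idem] at hfr
    have hg : g ∈ C ⊔ Subgroup.normalizer (((S : Subgroup G) ⊓ C : Subgroup G) : Set G) := by
      rw [sup_comm, hfr]; trivial
    rw [← SetLike.mem_coe, Subgroup.normal_mul] at hg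
    obtain ⟨c, hc, n, hn, rfl⟩ := hg
    refine ⟨1, Subgroup.one_mem _, c, ?_, n, ?_, by group⟩
    · exact Subgroup.centralizer_le (le_iSup W S) hc
    · rw [← hJeq]
      exact normalizer_le_normalizer_thompsonSubgroupOf p _ hn

end Cfsg.Agent.S0608
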