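import Cfsg.Statements.S0592
import Mathlib

set_option autoImplicit false
open Cfsg

universe u v

namespace Cfsg.Agent.S0592

open Polynomial

section eigen

variable {K : Type*} [Field K] [Fintype K] {p : ℕ} [Fact p.Prime] [CharP K p]

theorem splits_X_pow_card_sub_X : Splits (X ^ Fintype.card K - X : K[X]) := by
  have h1 := FiniteField.roots_X_pow_card_sub_X K
  rw [splits_iff_card_roots, h1, ← Finset.card_def, Finset.card_univ,
    FiniteField.X_pow_card_sub_X_natDegree_eq _ Fintype.one_lt_card]

theorem splits_X_pow_sub_one (e : ℕ) :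
    Splits (X ^ (p ^ e * (Fintype.card K - 1)) - 1 : K[X]) := by
  have hq : 1 < Fintype.card K := Fintype.one_lt_card
  have h1 : (X ^ (Fintype.card K - 1) - 1 : K[X]) ∣ X ^ Fintype.card K - X := by
    refine ⟨X, ?_⟩
    have h2 : (Fintype.card K - 1) + 1 = Fintype.card K := by omega
    calc (X ^ Fintype.card K - X : K[X]) = X ^ ((Fintype.card K - 1) + 1) - X := by rw [h2]
      _ = (X ^ (Fintype.card K - 1) - 1) * X := by ring
  have hne : (X ^ Fintype.card K - X : K[X]) ≠ 0 := FiniteField.X_pow_card_sub_X_ne_zero K hq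
  have h3 := (splits_X_pow_card_sub_X (K := K)).of_dvd hne h1
  have h4 : (X ^ (p ^ e * (Fintype.card K - 1)) - 1 : K[X]) =
      (X ^ (Fintype.card K - 1) - 1) ^ (p ^ e) := by
    rw [sub_pow_char_pow, one_pow, ← pow_mul, mul_comm]
  rw [h4]
  exact h3.pow _

/-- An endomorphism `f` of a nonzero finite-dimensional space over a finite field of order `q`
and characteristic `p` with `f ^ (p^e (q-1)) = 1` has an eigenvector. -/
theorem exists_eigenvector_of_pow_eq_one {V : Type*} [AddCommGroup V]
    [Module K V] [FiniteDimensional K V] [Nontrivial V] (f : Module.End K V) (e : ℕ)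
    (hf : f ^ (p ^ e * (Fintype.card K - 1)) = 1) :
    ∃ (μ : K) (v : V), v ≠ 0 ∧ f v = μ • v := by
  have hp : p.Prime := Fact.out
  have hq : 1 < Fintype.card K := Fintype.one_lt_card
  have hdvd : minpoly K f ∣ (X ^ (p ^ e * (Fintype.card K - 1)) - 1 : K[X]) := by
    apply minpoly.dvd
    simp [hf]
  have hpos : 0 < p ^ e * (Fintype.card K - 1) :=
    Nat.mul_pos (pow_pos hp.pos e) (by omega)
  have hne : (X ^ (p ^ e * (Fintype.card K - 1)) - 1 : K[X]) ≠ 0 := by
    have := X_pow_sub_C_ne_zero hpos (1 : K)
    simpa using this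
  have hsplit : Splits (minpoly K f) := (splits_X_pow_sub_one (p := p) e).of_dvd hne hdvd
  have hint : IsIntegral K f := Algebra.IsIntegral.isIntegral f
  have hdeg : (minpoly K f).degree ≠ 0 := (minpoly.degree_pos hint).ne'
  obtain ⟨μ, hμ⟩ := hsplit.exists_eval_eq_zero hdeg
  have hev : f.HasEigenvalue μ := Module.End.hasEigenvalue_of_isRoot hμ
  obtain ⟨v, hv⟩ := hev.exists_hasEigenvector
  exact ⟨μ, v, hv.2, hv.apply_eq_smul⟩

end eigen

section quad

variable {K : Type*} [Field K] {p : ℕ} [CharP K p]
variable {W : Type*} [AddCommGroup W] [Module K W]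

theorem pow_apply_of_fixed (X : W ≃ₗ[K] W) (w : W) (h : X (X w - w) = X w - w) (j : ℕ) :
    (X ^ j) w = w + j • (X w - w) := by
  induction j with
  | zero => simp
  | succ j ih =>
    rw [pow_succ', LinearEquiv.mul_apply, ih, map_add, map_nsmul, h, add_smul, one_smul]
    abel

theorem pow_char_apply_of_fixed (X : W ≃ₗ[K] W) (w : W) (h : X (X w - w) = X w - w) :
    (X ^ p) w = w := by
  rw [pow_apply_of_fixed X w h, ← Nat.cast_smul_eq_nsmul K, CharP.cast_eq_zero K p, zero_smul,
    add_zero]

omit [CharP K p] in
theorem apply_apply_of_quadratic (X : W ≃ₗ[K] W) (u : W) (h : X (X u - u) = X u - u) :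
    X (X u) = X u + X u - u := by
  rw [map_sub] at h
  calc X (X u) = (X (X u) - X u) + X u := by abel
    _ = (X u - u) + X u := by rw [h]
    _ = X u + X u - u := by abel

omit [CharP K p] in
theorem symm_apply_of_quadratic (X : W ≃ₗ[K] W) (hX : ∀ w : W, X (X w - w) = X w - w) (u : W) :
    X.symm u = u + u - X u := by
  apply X.injective
  rw [X.apply_symm_apply, map_sub, map_add, apply_apply_of_quadratic X u (hX u)]
  abel

end quad

section main

variable {K : Type*} [Field K] [Fintype K] {p : ℕ} [Fact p.Prime] [CharP K p]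
variable {Γ : Type*} [Group Γ]

omit [Fintype K] [Fact p.Prime] [CharP K p] in
theorem exists_hom_of_det {U : Type*} [AddCommGroup U] [Module K U] (m : ℕ)
    (bas : Module.Basis (Fin m) K U) (ρU : Γ →* Module.End K U)
    (hD : ∀ g, LinearMap.det (ρU g) = 1)
    (hnp : ¬ ∀ g : Γ, ∃ j : ℕ, ρU (g ^ (p ^ j)) = 1) :
    ∃ φ : Γ →* Matrix.SpecialLinearGroup (Fin m) K, ¬ IsPGroup p φ.range := by
  let φ : Γ →* Matrix.SpecialLinearGroup (Fin m) K :=
    { toFun := fun g => ⟨LinearMap.toMatrix bas bas (ρU g), by
        rw [LinearMap.det_toMatrix]; exact hD g⟩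
      map_one' := by
        apply Subtype.ext
        simp [LinearMap.toMatrix_one]
      map_mul' := by
        intro g h
        apply Subtype.ext
        show LinearMap.toMatrix bas bas (ρU (g * h)) =
          LinearMap.toMatrix bas bas (ρU g) * LinearMap.toMatrix bas bas (ρU h)
        rw [map_mul, LinearMap.toMatrix_mul] }
  refine ⟨φ, fun hP => hnp ?_⟩
  intro g
  obtain ⟨j, hj⟩ := hP ⟨φ g, g, rfl⟩
  refine ⟨j, ?_⟩
  have h1 : φ (g ^ (p ^ j)) = 1 := by
    rw [map_pow]
    exact congrArg Subtype.val hj
  have h2 : LinearMap.toMatrix bas bas (ρU (g ^ (p ^ j))) = 1 := congrArg Subtype.val h1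
  apply (LinearMap.toMatrix bas bas).injective
  rw [h2, LinearMap.toMatrix_one]

theorem aux (a b : Γ) (hgen : Subgroup.closure {a, b} = (⊤ : Subgroup Γ)) :
    ∀ (n : ℕ) (W : Type v) [AddCommGroup W] [Module K W] [FiniteDimensional K W],
      Module.finrank K W = n → ∀ (ρ : Γ →* (W ≃ₗ[K] W)),
      (∀ w : W, ρ a (ρ a w - w) = ρ a w - w) → (∀ w : W, ρ b (ρ b w - w) = ρ b w - w) →
      (¬ ∀ g : Γ, ∃ i : ℕ, ρ (g ^ (p ^ i)) = 1) →
      (∃ e : ℕ, ρ ((a * b) ^ (p ^ e * (Fintype.card K - 1))) = 1) →
      ∃ φ : Γ →* Matrix.SpecialLinearGroup (Fin 2) K, ¬ IsPGroup p φ.range := by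
  have hp : p.Prime := Fact.out
  intro n
  induction n using Nat.strong_induction_on with
  | _ n ih =>
    intro W _ _ _ hn ρ ha hb hnp hk
    have hnt : Nontrivial W := by
      by_contra hW
      rw [not_nontrivial_iff_subsingleton] at hW
      apply hnp
      intro g
      exact ⟨0, by ext w; exact Subsingleton.elim _ _⟩
    obtain ⟨e, he⟩ := hk
    have hf : (LinearEquiv.automorphismGroup.toLinearMapMonoidHom (ρ (a * b))) ^
        (p ^ e * (Fintype.card K - 1)) = 1 := by
      rw [← map_pow, ← map_pow, he, map_one]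
    obtain ⟨μ, w, hw, hμw⟩ := exists_eigenvector_of_pow_eq_one (p := p) _ e hf
    have hμw' : ρ a (ρ b w) = μ • w := by
      have h1 : ρ (a * b) w = μ • w := hμw
      rw [map_mul] at h1
      exact h1
    have hμ : μ ≠ 0 := by
      rintro rfl
      rw [zero_smul] at hμw'
      apply hw
      have h1 := (ρ a).map_eq_zero_iff.mp hμw'
      exact (ρ b).map_eq_zero_iff.mp h1
    let U : Submodule K W := Submodule.span K {w, ρ b w}
    have hwU : w ∈ U := Submodule.subset_span (by simp)
    have hBwU : ρ b w ∈ U := Submodule.subset_span (by simp)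
    have hBU : ∀ u ∈ U, ρ b u ∈ U := by
      have h1 : U ≤ U.comap ((ρ b : W ≃ₗ[K] W) : W →ₗ[K] W) := by
        rw [Submodule.span_le]
        rintro x (rfl | rfl)
        · exact hBwU
        · show ρ b (ρ b w) ∈ U
          rw [apply_apply_of_quadratic (ρ b) w (hb w)]
          exact U.sub_mem (U.add_mem hBwU hBwU) hwU
      exact fun u hu => h1 hu
    have hAsymm : (ρ a).symm w = μ⁻¹ • ρ b w := by
      rw [LinearEquiv.symm_apply_eq, map_smul, hμw', smul_smul, inv_mul_cancel₀ hμ, one_smul]
    have hAw : ρ a w = w + w - μ⁻¹ • ρ b w := by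
      have h1 := symm_apply_of_quadratic (ρ a) ha w
      rw [hAsymm] at h1
      rw [h1]
      abel
    have hAU : ∀ u ∈ U, ρ a u ∈ U := by
      have h1 : U ≤ U.comap ((ρ a : W ≃ₗ[K] W) : W →ₗ[K] W) := by
        rw [Submodule.span_le]
        rintro x (rfl | rfl)
        · show ρ a x ∈ U
          rw [hAw]
          exact U.sub_mem (U.add_mem hwU hwU) (U.smul_mem _ hBwU)
        · show ρ a (ρ b w) ∈ U
          rw [hμw']
          exact U.smul_mem _ hwU
      exact fun u hu => h1 hu
    -- the stabilizer of `U`
    let S : Subgroup Γ :=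
      { carrier := {g | ∀ u ∈ U, ρ g u ∈ U ∧ ρ g⁻¹ u ∈ U}
        mul_mem' := by
          intro g h hg hh u hu
          refine ⟨?_, ?_⟩
          · rw [map_mul, LinearEquiv.mul_apply]
            exact (hg _ (hh u hu).1).1
          · rw [mul_inv_rev, map_mul, LinearEquiv.mul_apply]
            exact (hh _ (hg u hu).2).2
        one_mem' := by
          intro u hu
          simp [hu]
        inv_mem' := by
          intro g hg u hu
          rw [inv_inv]
          exact ⟨(hg u hu).2, (hg u hu).1⟩ }
    have hinvsymm : ∀ g : Γ, ∀ u : W, ρ g⁻¹ u = (ρ g).symm u := by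
      intro g u
      rw [map_inv]
      rfl
    have haS : a ∈ S := by
      intro u hu
      refine ⟨hAU u hu, ?_⟩
      rw [hinvsymm, symm_apply_of_quadratic (ρ a) ha u]
      exact U.sub_mem (U.add_mem hu hu) (hAU u hu)
    have hbS : b ∈ S := by
      intro u hu
      refine ⟨hBU u hu, ?_⟩
      rw [hinvsymm, symm_apply_of_quadratic (ρ b) hb u]
      exact U.sub_mem (U.add_mem hu hu) (hBU u hu)
    have hS : S = ⊤ := by
      rw [eq_top_iff, ← hgen, Subgroup.closure_le]
      rintro x (rfl | rfl)
      · exact haS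
      · exact hbS
    have hinv : ∀ g : Γ, ∀ u ∈ U, ρ g u ∈ U := by
      intro g u hu
      have hg : g ∈ S := by rw [hS]; trivial
      exact (hg u hu).1
    have hinv' : ∀ g : Γ, ∀ u ∈ U, ρ g⁻¹ u ∈ U := fun g u hu => hinv g⁻¹ u hu
    -- the action on `U`
    let ρU : Γ →* Module.End K U :=
      { toFun := fun g => ((ρ g : W ≃ₗ[K] W) : W →ₗ[K] W).restrict (hinv g)
        map_one' := by
          apply LinearMap.ext
          intro u
          apply Subtype.ext
          simp [LinearMap.restrict_apply]
        map_mul' := by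
          intro g h
          apply LinearMap.ext
          intro u
          apply Subtype.ext
          simp [LinearMap.restrict_apply] }
    have hρU : ∀ (g : Γ) (u : U), ((ρU g u : U) : W) = ρ g u := fun _ _ => rfl
    have hU1 : ∀ g : Γ, ρ g = 1 → ρU g = 1 := by
      intro g hg
      apply LinearMap.ext
      intro u
      apply Subtype.ext
      rw [hρU, hg]
      rfl
    -- the action on `W ⧸ U`
    have hmap : ∀ g : Γ, Submodule.map ((ρ g : W ≃ₗ[K] W) : W →ₗ[K] W) U = U := by
      intro g
      apply le_antisymm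
      · rintro x ⟨u, hu, rfl⟩
        exact hinv g u hu
      · intro u hu
        refine ⟨ρ g⁻¹ u, hinv' g u hu, ?_⟩
        show ρ g (ρ g⁻¹ u) = u
        rw [← LinearEquiv.mul_apply, ← map_mul, mul_inv_cancel, map_one]
        rfl
    let ρQ : Γ →* ((W ⧸ U) ≃ₗ[K] (W ⧸ U)) :=
      { toFun := fun g => Submodule.Quotient.equiv U U (ρ g) (hmap g)
        map_one' := by
          apply LinearEquiv.ext
          intro x
          induction x using Submodule.Quotient.induction_on with
          | H x => simp
        map_mul' := by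
          intro g h
          apply LinearEquiv.ext
          intro x
          induction x using Submodule.Quotient.induction_on with
          | H x => simp }
    have hρQ : ∀ (g : Γ) (x : W), ρQ g (Submodule.Quotient.mk x) = Submodule.Quotient.mk (ρ g x) :=
      fun _ _ => rfl
    have hQ1 : ∀ g : Γ, ρ g = 1 → ρQ g = 1 := by
      intro g hg
      apply LinearEquiv.ext
      intro x
      induction x using Submodule.Quotient.induction_on with
      | H x =>
        rw [hρQ, hg]
        rfl
    -- `p`-th powers of the quadratic generators are trivial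
    have hpowa : ρ (a ^ p) = 1 := by
      rw [map_pow]
      apply LinearEquiv.ext
      intro w
      exact pow_char_apply_of_fixed (p := p) (ρ a) w (ha w)
    have hpowb : ρ (b ^ p) = 1 := by
      rw [map_pow]
      apply LinearEquiv.ext
      intro w
      exact pow_char_apply_of_fixed (p := p) (ρ b) w (hb w)
    -- determinant one on `U`
    have hD : ∀ g : Γ, LinearMap.det (ρU g) = 1 := by
      let D : Γ →* K := (LinearMap.det : Module.End K U →* K).comp ρU
      have hDp : ∀ x : Γ, ρ (x ^ p) = 1 → D x = 1 := by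
        intro x hx
        have h1 : D x ^ p = 1 := by
          rw [← map_pow]
          show LinearMap.det (ρU (x ^ p)) = 1
          rw [hU1 _ hx, map_one]
        apply frobenius_inj K p
        rw [frobenius_def, frobenius_def, h1, one_pow]
      have hker : D.toHomUnits.ker = ⊤ := by
        rw [eq_top_iff, ← hgen, Subgroup.closure_le]
        rintro x (rfl | rfl)
        · rw [SetLike.mem_coe, MonoidHom.mem_ker]
          apply Units.ext
          rw [MonoidHom.coe_toHomUnits]
          exact hDp _ hpowa
        · rw [SetLike.mem_coe, MonoidHom.mem_ker]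
          apply Units.ext
          rw [MonoidHom.coe_toHomUnits]
          exact hDp _ hpowb
      intro g
      have hg : g ∈ D.toHomUnits.ker := by rw [hker]; trivial
      rw [MonoidHom.mem_ker] at hg
      have h1 := congrArg Units.val hg
      rw [MonoidHom.coe_toHomUnits] at h1
      exact h1
    by_cases hQ : ∀ g : Γ, ∃ i : ℕ, ρQ (g ^ (p ^ i)) = 1
    · -- the action on `U` is not a `p`-group
      have hUnp : ¬ ∀ g : Γ, ∃ j : ℕ, ρU (g ^ (p ^ j)) = 1 := by
        intro hUp
        apply hnp
        intro g
        obtain ⟨i, hi⟩ := hQ g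
        obtain ⟨j, hj⟩ := hUp (g ^ (p ^ i))
        refine ⟨i + j + 1, ?_⟩
        have hx : g ^ (p ^ (i + j + 1)) = ((g ^ (p ^ i)) ^ (p ^ j)) ^ p := by
          rw [← pow_mul, ← pow_mul]
          congr 1
          ring
        rw [hx, map_pow]
        have hxQ : ρQ ((g ^ (p ^ i)) ^ (p ^ j)) = 1 := by
          rw [map_pow, hi, one_pow]
        generalize (g ^ (p ^ i)) ^ (p ^ j) = x at hj hxQ ⊢
        apply LinearEquiv.ext
        intro w
        show (ρ x ^ p) w = w
        apply pow_char_apply_of_fixed (p := p)
        have h1 : ρ x w - w ∈ U := by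
          have h2 := congrArg (fun f : (W ⧸ U) ≃ₗ[K] (W ⧸ U) => f (Submodule.Quotient.mk w)) hxQ
          simp only [hρQ] at h2
          exact (Submodule.Quotient.eq U).mp h2
        have h2 := congrArg (fun f : Module.End K U => ((f ⟨ρ x w - w, h1⟩ : U) : W)) hj
        exact h2
      -- dimension of `U`
      have hUpos : 0 < Module.finrank K U :=
        Module.finrank_pos_iff_exists_ne_zero.mpr
          ⟨⟨w, hwU⟩, fun h => hw (congrArg Subtype.val h)⟩
      have hUle : Module.finrank K U ≤ 2 := by
        classical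
        have h1 := finrank_span_finset_le_card (R := K) ({w, ρ b w} : Finset W)
        have h2 : (({w, ρ b w} : Finset W) : Set W) = {w, ρ b w} := by
          rw [Finset.coe_insert, Finset.coe_singleton]
        have h3 : ({w, ρ b w} : Finset W).card ≤ 2 := Finset.card_le_two
        unfold Set.finrank at h1
        rw [h2] at h1
        exact h1.trans h3
      obtain h1 | h2 : Module.finrank K U = 1 ∨ Module.finrank K U = 2 := by omega
      · exfalso
        obtain ⟨φ, hφ⟩ :=
          exists_hom_of_det (p := p) 1 (Module.finBasisOfFinrankEq K U h1) ρU hD hUnp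
        apply hφ
        intro x
        refine ⟨0, ?_⟩
        rw [pow_zero, pow_one]
        apply Subtype.ext
        apply Matrix.SpecialLinearGroup.ext
        intro i j
        have hi : i = 0 := Subsingleton.elim _ _
        have hj : j = 0 := Subsingleton.elim _ _
        subst hi hj
        have h3 := (x : Matrix.SpecialLinearGroup (Fin 1) K).2
        rw [Matrix.det_fin_one] at h3
        simp [h3]
      · exact exists_hom_of_det (p := p) 2 (Module.finBasisOfFinrankEq K U h2) ρU hD hUnp
    · -- induction on the quotient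
      have hUpos : 0 < Module.finrank K U :=
        Module.finrank_pos_iff_exists_ne_zero.mpr
          ⟨⟨w, hwU⟩, fun h => hw (congrArg Subtype.val h)⟩
      have hlt : Module.finrank K (W ⧸ U) < n := by
        have h1 := Submodule.finrank_quotient_add_finrank U
        omega
      apply ih _ hlt (W ⧸ U) rfl ρQ ?_ ?_ hQ ⟨e, hQ1 _ he⟩
      · intro x
        induction x using Submodule.Quotient.induction_on with
        | H x => rw [hρQ, ← Submodule.Quotient.mk_sub, hρQ, ha]
      · intro x
        induction x using Submodule.Quotient.induction_on with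
        | H x => rw [hρQ, ← Submodule.Quotient.mk_sub, hρQ, hb]

end main

/-- Two quadratically acting generators of a linear group that is not a p-group, with the p'-part of the order of their product dividing q - 1, give a homomorphism onto a subgroup of SL(2, q) that is not a p-group. -/
theorem result {K : Type*} [Field K] [Fintype K] {p : ℕ} [Fact p.Prime] [CharP K p] {W : Type*} [AddCommGroup W] [Module K W] [FiniteDimensional K W] [Finite W] [Nontrivial W] (H : Subgroup (W ≃ₗ[K] W)) (a b : W ≃ₗ[K] W) (hH : H = Subgroup.closure {a, b}) (ha : ∀ w : W, a (a w - w) = a w - w) (hb : ∀ w : W, b (b w - w) = b w - w) (hnp : ¬ IsPGroup p H) (hk : ∃ e k : ℕ, orderOf (a * b) = p ^ e * k ∧ k ∣ Fintype.card K - 1) : ∃ φ : H →* Matrix.SpecialLinearGroup (Fin 2) K, ¬ IsPGroup p φ.range := by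
  have haH : a ∈ H := by rw [hH]; exact Subgroup.subset_closure (by simp)
  have hbH : b ∈ H := by rw [hH]; exact Subgroup.subset_closure (by simp)
  have hgen : Subgroup.closure {(⟨a, haH⟩ : H), ⟨b, hbH⟩} = (⊤ : Subgroup H) := by
    apply Subgroup.map_injective H.subtype_injective
    rw [MonoidHom.map_closure, ← MonoidHom.range_eq_map, Subgroup.range_subtype, Set.image_pair]
    exact hH.symm
  obtain ⟨e, k, hek, hk⟩ := hk
  refine aux (p := p) (⟨a, haH⟩ : H) ⟨b, hbH⟩ hgen _ W rfl H.subtype ha hb ?_ ⟨e, ?_⟩
  · intro h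
    apply hnp
    intro g
    obtain ⟨i, hi⟩ := h g
    exact ⟨i, Subtype.ext hi⟩
  · show (a * b) ^ (p ^ e * (Fintype.card K - 1)) = 1
    rw [← orderOf_dvd_iff_pow_eq_one, hek]
    exact Nat.mul_dvd_mul_left _ hk

end Cfsg.Agent.S0592
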