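import Cfsg.Statements.S0611
import Mathlib
import Cfsg.Agent.Lib.helper13.BestOff

set_option autoImplicit false
open Cfsg

namespace Cfsg.Agent.S0611

open Cfsg.Agent.Lib.helper13

/-- Minimal nontrivially-acting best offenders in such a faithful group have order p, commutator [V, B] of order p and fixed points of index p. -/
theorem result {G : Type*} [Group G] [Finite G] {p : ℕ} [Fact p.Prime] (V H : Subgroup G) (hV : Cfsg.IsElementaryAbelian p V) (hHV : H ≤ Subgroup.normalizer (V : Set G)) (hf : H ⊓ Subgroup.centralizer (V : Set G) = ⊥) (hS1 : Subgroup.centralizer (Cfsg.pPrimeCore p ↥H : Set ↥H) ≤ Cfsg.pPrimeCore p ↥H) (hS3 : H = ⨆ A : {A : Subgroup G // A ≤ H ∧ Cfsg.IsBestOffenderOn p V A}, (A : Subgroup G)) (hH1 : H ≠ ⊥) (A : Subgroup G) (hAH : A ≤ H) (hA : Cfsg.IsBestOffenderOn p V A) (hAV : ⁅V, A⁆ ≠ ⊥) (hmin : ∀ B : Subgroup G, B ≤ A → Cfsg.IsBestOffenderOn p V B → ⁅V, B⁆ ≠ ⊥ → B = A) : Nat.card A = p ∧ Nat.card ↥(⁅V, A⁆) = p ∧ ((V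 ⊓ Subgroup.centralizer (A : Set G))).relIndex V = p := by
  have hpp := (Fact.out : p.Prime)
  have hA1 : A ≠ ⊥ := by
    rintro rfl
    apply hAV
    exact Subgroup.commutator_bot_right V
  obtain ⟨A₀, hA₀A, hcard, hA₀, heq⟩ :=
    exists_hyperplane_best_offender V H hV hHV hf hS1 A hAH hA hA1
  have hA₀ne : A₀ ≠ A := by
    rintro rfl
    have h1 : 0 < Nat.card A₀ := Nat.card_pos
    have h2 := hpp.one_lt
    nlinarith
  have hVA₀ : ⁅V, A₀⁆ = ⊥ := by
    by_contra h
    exact hA₀ne (hmin A₀ hA₀A hA₀ h)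
  have hA₀bot : A₀ = ⊥ := by
    rw [eq_bot_iff, ← hf]
    refine le_inf (hA₀A.trans hAH) ?_
    rw [Subgroup.commutator_eq_bot_iff_le_centralizer] at hVA₀
    exact Subgroup.le_centralizer_iff.mp hVA₀
  subst hA₀bot
  rw [inf_centralizer_bot, Subgroup.card_bot, one_mul] at heq
  rw [Subgroup.card_bot, mul_one] at hcard
  have hrel : (V ⊓ Subgroup.centralizer (A : Set G)).relIndex V = p := by
    have h1 := relIndex_mul_card_of_le (inf_le_left : V ⊓ Subgroup.centralizer (A : Set G) ≤ V)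
    rw [heq, hcard] at h1
    exact Nat.eq_of_mul_eq_mul_right Nat.card_pos h1
  refine ⟨hcard, ?_, hrel⟩
  -- `A` is cyclic of order `p`
  obtain ⟨a, haA, ha1⟩ : ∃ a ∈ A, a ≠ 1 := by
    by_contra hcon
    push Not at hcon
    apply hA1
    rw [eq_bot_iff]
    intro a ha
    exact Subgroup.mem_bot.mpr (hcon a ha)
  have hzA : Subgroup.zpowers a = A := by
    have hle : Subgroup.zpowers a ≤ A := (Subgroup.zpowers_le).mpr haA
    apply Subgroup.eq_of_le_of_card_ge hle
    have h1 : Nat.card (Subgroup.zpowers a) ∣ p := by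
      rw [← hcard]; exact Subgroup.card_dvd_of_le hle
    rcases (Nat.dvd_prime hpp).mp h1 with h2 | h2
    · exfalso
      rw [Subgroup.card_eq_one, Subgroup.zpowers_eq_bot] at h2
      exact ha1 h2
    · rw [hcard, h2]
  have hVc : ∀ u ∈ V, ∀ v ∈ V, u * v = v * u := by
    intro u hu v hv
    have := hV.1
    exact congrArg Subtype.val (mul_comm' (⟨u, hu⟩ : V) ⟨v, hv⟩)
  have h3 := card_commutator_zpowers_mul V hVc a (hHV (hAH haA))
  rw [hzA, heq, hcard] at h3
  exact Nat.eq_of_mul_eq_mul_right Nat.card_pos h3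

end Cfsg.Agent.S0611
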