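import Cfsg.Statements.S0618
import Mathlib
import Cfsg.Agent.S0601
import Cfsg.Agent.S0606
import Cfsg.Agent.S0608
import Cfsg.Agent.S0616
import Cfsg.Agent.Lib.helper13.Thompson
import Cfsg.Agent.Lib.helper13.FaithModel
import Cfsg.Agent.Lib.helper38.HallHigman
import Cfsg.Agent.Lib.helper53.Comm

set_option autoImplicit false
open Cfsg

namespace Cfsg.Agent.S0618

open Cfsg.Agent.Lib.helper13 Cfsg.Agent.Lib.helper53
open scoped commutatorElement

/-- `O_p(G / C) = 1` from its internal formulation. -/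
theorem pCore_quotient_eq_bot {G : Type*} [Group G] [Finite G] {p : ℕ} [Fact p.Prime]
    (C : Subgroup G) [C.Normal]
    (h : ∀ D : Subgroup G, D.Normal → C ≤ D → (∃ k : ℕ, C.relIndex D = p ^ k) → D = C) :
    Cfsg.pCore p (G ⧸ C) = ⊥ := by
  have hn : (Cfsg.pCore p (G ⧸ C)).Normal := Cfsg.Agent.Lib.helper40.pCore_normal' p _
  have hp : IsPGroup p (Cfsg.pCore p (G ⧸ C)) := Cfsg.Agent.Lib.helper40.pCore_isPGroup p _
  have hmap : ((Cfsg.pCore p (G ⧸ C)).comap (QuotientGroup.mk' C)).map (QuotientGroup.mk' C) =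
      Cfsg.pCore p (G ⧸ C) :=
    Subgroup.map_comap_eq_self_of_surjective (QuotientGroup.mk'_surjective C) _
  have hCD : C ≤ (Cfsg.pCore p (G ⧸ C)).comap (QuotientGroup.mk' C) := by
    intro c hc
    rw [Subgroup.mem_comap]
    have : QuotientGroup.mk' C c = 1 := (QuotientGroup.eq_one_iff c).mpr hc
    rw [this]; exact Subgroup.one_mem _
  have hD := h _ (hn.comap _) hCD (by
    obtain ⟨k, hk⟩ := hp.exists_card_eq
    refine ⟨k, ?_⟩
    have h1 := Subgroup.relIndex_ker ((Cfsg.pCore p (G ⧸ C)).comap (QuotientGroup.mk' C))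
      (QuotientGroup.mk' C)
    rw [QuotientGroup.ker_mk', hmap] at h1
    rw [h1, hk])
  rw [← hmap, hD, eq_bot_iff]
  rintro _ ⟨c, hc, rfl⟩
  rw [Subgroup.mem_bot]
  exact (QuotientGroup.eq_one_iff c).mpr hc

/-- The centralizer of a union of subgroups is the centralizer of their join. -/
theorem centralizer_iSup_set {G : Type*} {ι : Sort*} [Group G] (H : ι → Subgroup G) :
    Subgroup.centralizer (⨆ i, (H i : Set G)) =
      Subgroup.centralizer ((⨆ i, H i : Subgroup G) : Set G) := by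
  apply le_antisymm
  · intro x hx
    rw [Subgroup.mem_centralizer_iff] at hx ⊢
    have h1 : ⨆ i, H i ≤ Subgroup.centralizer ({x} : Set G) := by
      apply iSup_le
      intro i w hw
      rw [Subgroup.mem_centralizer_iff]
      intro y hy
      rw [Set.mem_singleton_iff] at hy
      rw [hy]
      exact (hx w (Set.mem_iUnion.mpr ⟨i, hw⟩)).symm
    intro w hw
    exact (Subgroup.mem_centralizer_iff.mp (h1 hw) x rfl).symm
  · apply Subgroup.centralizer_le
    intro w hw
    obtain ⟨i, hi⟩ := Set.mem_iUnion.mp hw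
    exact (le_iSup H i) hi

theorem result {G : Type*} [Group G] [Finite G] {p : ℕ} [Fact p.Prime] (hsep : Cfsg.IsPSolvable p G) (hO : Cfsg.pPrimeCore p G = ⊥) (hnf : ¬ Cfsg.IsThompsonFactorizable p G) : (p = 2 ∨ p = 3) ∧ ∃ E : Subgroup G, Subgroup.centralizer ((⨆ S : Sylow p G, Cfsg.omegaOne p ((S : Subgroup G) ⊓ Subgroup.centralizer ((S : Subgroup G) : Set G))) : Set G) ≤ E ∧ E ≤ Cfsg.thompsonSubgroup p G ⊔ Subgroup.centralizer ((⨆ S : Sylow p G, Cfsg.omegaOne p ((S : Subgroup G) ⊓ Subgroup.centralizer ((S : Subgroup G) : Set G))) : Set G) ∧ Cfsg.thompsonSubgroup p G ⊔ Subgroup.centralizer ((⨆ S : Sylow p G, Cfsg.omegaOne p ((S : Subgroup G) ⊓ Subgroup.centralizer ((S : Subgroup G) : Set G))) : Set G) ≤ Subgroup.normalizer (E : Set G) ∧ ∃ hn : ((Subgroup.centralizer ((⨆ S : Sylow p G, Cfsg.omegaOne p ((S : Subgroup G) ⊓ Subgroup.centralizer ((S : Subgroup G) : Set G))) : Set G)).subgroupOf E).Normal, Nonempty ((↥E ⧸ (Subgroup.centralizer ((⨆ S : Sylow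 p G, Cfsg.omegaOne p ((S : Subgroup G) ⊓ Subgroup.centralizer ((S : Subgroup G) : Set G))) : Set G)).subgroupOf E) ≃* Matrix.SpecialLinearGroup (Fin 2) (ZMod p)) := by
  rw [centralizer_iSup_set (fun S : Sylow p G => Cfsg.omegaOne p ((S : Subgroup G) ⊓
    Subgroup.centralizer ((S : Subgroup G) : Set G)))]
  have hc := Cfsg.Agent.Lib.helper38.centralizer_pCore_le_of_isPSolvable hsep hO
  obtain ⟨hWn, hWel, hWD⟩ := Cfsg.Agent.S0601.result (p := p) hc
  have hJC := (Cfsg.Agent.S0608.result (p := p) hO).not.mp hnf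
  generalize hW : (⨆ S : Sylow p G, Cfsg.omegaOne p ((S : Subgroup G) ⊓
    Subgroup.centralizer ((S : Subgroup G) : Set G))) = W at *
  have hOq : Cfsg.pCore p (G ⧸ Subgroup.centralizer (W : Set G)) = ⊥ :=
    pCore_quotient_eq_bot _ hWD
  have hfin := fm_finite W
  have hJn : (Cfsg.thompsonSubgroup p G).Normal := by
    have := thompsonSubgroup_characteristic p G
    infer_instance
  have hbo : ∀ B ∈ Cfsg.maxElementaryAbelianSubgroups p G, Cfsg.IsBestOffenderOn p W B :=
    fun B hB => Cfsg.Agent.S0606.result W hWel B hB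
  have hV' := fmV_elemAb W hWel
  have hHV := fm_hHV W (Cfsg.thompsonSubgroup p G)
  have hf := fm_faithful W (Cfsg.thompsonSubgroup p G)
  have hS1 := fm_hS1 W hsep hOq (Cfsg.thompsonSubgroup p G)
  have hS3 := fm_hS3 W (Cfsg.maxElementaryAbelianSubgroups p G) hbo
  have hH1 : (Cfsg.thompsonSubgroup p G).map (fmPi W) ≠ ⊥ := by
    intro h
    apply hJC
    rw [← fmPi_ker W]
    intro j hj
    rw [MonoidHom.mem_ker]
    have : fmPi W j ∈ (Cfsg.thompsonSubgroup p G).map (fmPi W) := Subgroup.mem_map_of_mem _ hj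
    rw [h, Subgroup.mem_bot] at this
    exact this
  -- a best offender in the image of `J(G)` acting nontrivially
  have hex : ∃ B : Subgroup (FM W), B ≤ (Cfsg.thompsonSubgroup p G).map (fmPi W) ∧
      Cfsg.IsBestOffenderOn p (fmV W) B ∧ ⁅fmV W, B⁆ ≠ ⊥ := by
    by_contra hcon
    push Not at hcon
    apply hH1
    rw [eq_bot_iff]
    refine hS3.le.trans (iSup_le ?_)
    rintro ⟨B, hB, hBo⟩
    have h1 := hcon B hB hBo
    rw [← hf]
    exact le_inf hB (commutator_eq_bot_iff_le_centralizer'.mp h1)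
  obtain ⟨A', hA'mem, hA'min⟩ := Set.exists_min_image
    {B : Subgroup (FM W) | B ≤ (Cfsg.thompsonSubgroup p G).map (fmPi W) ∧
      Cfsg.IsBestOffenderOn p (fmV W) B ∧ ⁅fmV W, B⁆ ≠ ⊥}
    (fun B => Nat.card B) (Set.toFinite _) hex
  obtain ⟨hA'H, hA'bo, hA'V⟩ := hA'mem
  have hmin : ∀ B : Subgroup (FM W), B ≤ A' → Cfsg.IsBestOffenderOn p (fmV W) B →
      ⁅fmV W, B⁆ ≠ ⊥ → B = A' := by
    intro B hBA hBo hBV
    exact Subgroup.eq_of_le_of_card_ge hBA (hA'min B ⟨hBA.trans hA'H, hBo, hBV⟩)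
  obtain ⟨hp23, ⟨e⟩, -, -, -, hcomm, -, hsup, -⟩ := Cfsg.Agent.S0616.result (fmV W)
    ((Cfsg.thompsonSubgroup p G).map (fmPi W)) hV' hHV hf hS1 hS3 hH1 A' hA'H hA'bo hA'V hmin
  refine ⟨hp23, ?_⟩
  generalize hE' : (⁅((Cfsg.pPrimeCore p ↥((Cfsg.thompsonSubgroup p G).map (fmPi W))).map
    ((Cfsg.thompsonSubgroup p G).map (fmPi W)).subtype), A'⁆ ⊔ A' : Subgroup (FM W)) = E'
    at e hcomm hsup
  generalize hD' : ((Cfsg.thompsonSubgroup p G).map (fmPi W)) ⊓
    Subgroup.centralizer ((⁅fmV W, E'⁆ : Subgroup (FM W)) : Set (FM W)) = D' at hcomm hsup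
  have hE'H : E' ≤ (Cfsg.thompsonSubgroup p G).map (fmPi W) := by
    rw [← hsup]; exact le_sup_left
  have hHN : (Cfsg.thompsonSubgroup p G).map (fmPi W) ≤
      Subgroup.normalizer (E' : Set (FM W)) := by
    rw [← hsup]
    refine sup_le Subgroup.le_normalizer ?_
    exact (commutator_eq_bot_iff_le_centralizer'.mp hcomm).trans
      (Subgroup.centralizer_le_normalizer _)
  have hCmap : (Subgroup.centralizer (W : Set G)).map (fmPi W) = ⊥ :=
    (Subgroup.map_eq_bot_iff _).mpr (fmPi_ker W).ge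
  refine ⟨E'.comap (fmPi W), ?_, ?_, ?_, ?_⟩
  · intro c hc
    rw [Subgroup.mem_comap]
    have : fmPi W c = 1 := by rw [← MonoidHom.mem_ker, fmPi_ker]; exact hc
    rw [this]; exact E'.one_mem
  · intro x hx
    obtain ⟨j, hj, hjx⟩ := hE'H (Subgroup.mem_comap.mp hx)
    have hk : j⁻¹ * x ∈ Subgroup.centralizer (W : Set G) := by
      rw [← fmPi_ker W, MonoidHom.mem_ker, map_mul, map_inv, hjx, inv_mul_cancel]
    have : x = j * (j⁻¹ * x) := by group
    rw [this]
    exact Subgroup.mul_mem_sup hj hk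
  · intro g hg
    apply Subgroup.le_normalizer_comap (fmPi W)
    rw [Subgroup.mem_comap]
    apply hHN
    have : fmPi W g ∈ (Cfsg.thompsonSubgroup p G ⊔ Subgroup.centralizer (W : Set G)).map
        (fmPi W) := Subgroup.mem_map_of_mem _ hg
    rw [Subgroup.map_sup, hCmap, sup_bot_eq] at this
    exact this
  · have hCn : (Subgroup.centralizer (W : Set G)).Normal := by
      rw [← fmPi_ker W]; exact MonoidHom.normal_ker _
    have hn : ((Subgroup.centralizer (W : Set G)).subgroupOf (E'.comap (fmPi W))).Normal :=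
      inferInstance
    refine ⟨hn, ?_⟩
    have hsurj : Function.Surjective ((fmPi W).subgroupComap E') := by
      rintro ⟨y, hy⟩
      obtain ⟨j, -, rfl⟩ := hE'H hy
      exact ⟨⟨j, hy⟩, rfl⟩
    have hker : ((fmPi W).subgroupComap E').ker =
        (Subgroup.centralizer (W : Set G)).subgroupOf (E'.comap (fmPi W)) := by
      ext x
      have hiff : fmPi W (x : G) = 1 ↔ (x : G) ∈ Subgroup.centralizer (W : Set G) := by
        rw [← MonoidHom.mem_ker, fmPi_ker]
      rw [MonoidHom.mem_ker, Subgroup.mem_subgroupOf, ← hiff]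
      constructor
      · intro h; exact congrArg Subtype.val h
      · intro h; exact Subtype.ext h
    exact ⟨((QuotientGroup.quotientMulEquivOfEq hker).symm.trans
      (QuotientGroup.quotientKerEquivOfSurjective _ hsurj)).trans e⟩

end Cfsg.Agent.S0618
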