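import Cfsg.Statements.S0610
import Mathlib
import Cfsg.Agent.Lib.helper13.BestOff

set_option autoImplicit false
open Cfsg

namespace Cfsg.Agent.S0610

open Cfsg.Agent.Lib.helper13

/-- In a faithful group generated by best offenders with a self-centralizing p'-core, every nontrivial best offender A has order exactly |V : C_V(A)|. -/
theorem result {G : Type*} [Group G] [Finite G] {p : ℕ} [Fact p.Prime] (V H : Subgroup G) (hV : Cfsg.IsElementaryAbelian p V) (hHV : H ≤ Subgroup.normalizer (V : Set G)) (hf : H ⊓ Subgroup.centralizer (V : Set G) = ⊥) (hS1 : Subgroup.centralizer (Cfsg.pPrimeCore p ↥H : Set ↥H) ≤ Cfsg.pPrimeCore p ↥H) (hS3 : H = ⨆ A : {A : Subgroup G // A ≤ H ∧ Cfsg.IsBestOffenderOn p V A}, (A : Subgroup G)) (hH1 : H ≠ ⊥) (A : Subgroup G) (hAH : A ≤ H) (hA : Cfsg.IsBestOffenderOn p V A) (hA1 : A ≠ ⊥) : Nat.card A * Nat.card ↥(V ⊓ Subgroup.centralizer (A : Set G)) = Nat.card V := by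
  have key : ∀ n : ℕ, ∀ A : Subgroup G, Nat.card A = n → A ≤ H → Cfsg.IsBestOffenderOn p V A →
      A ≠ ⊥ → Nat.card A * Nat.card ↥(V ⊓ Subgroup.centralizer (A : Set G)) = Nat.card V := by
    intro n
    induction n using Nat.strong_induction_on with
    | _ n ih =>
      intro A hn hAH hA hA1
      obtain ⟨A₀, hA₀A, hcard, hA₀, heq⟩ :=
        exists_hyperplane_best_offender V H hV hHV hf hS1 A hAH hA hA1
      rw [← heq]
      by_cases h0 : A₀ = ⊥
      · subst h0
        rw [inf_centralizer_bot, Subgroup.card_bot, one_mul]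
      · refine ih (Nat.card A₀) ?_ A₀ rfl (hA₀A.trans hAH) hA₀ h0
        rw [← hn, hcard]
        have h1 : 0 < Nat.card A₀ := Nat.card_pos
        have h2 := (Fact.out : p.Prime).one_lt
        nlinarith
  exact key _ A rfl hAH hA hA1

end Cfsg.Agent.S0610
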