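import Cfsg.Statements.S0617
import Mathlib
import Cfsg.Agent.Lib.helper14.FF6

set_option autoImplicit false
open Cfsg

namespace Cfsg.Agent.S0617

/-- Structure Theorem for failure of factorization: a faithful group generated by best offenders, with self-centralizing p'-core, is a direct product of copies of SL(2, p) (p = 2 or 3), each acting on its own plane in V, which is the direct product of these planes and C_V(H). -/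
theorem result {G : Type*} [Group G] [Finite G] {p : ℕ} [Fact p.Prime] (V H : Subgroup G) (hV : Cfsg.IsElementaryAbelian p V) (hHV : H ≤ Subgroup.normalizer (V : Set G)) (hf : H ⊓ Subgroup.centralizer (V : Set G) = ⊥) (hS1 : Subgroup.centralizer (Cfsg.pPrimeCore p ↥H : Set ↥H) ≤ Cfsg.pPrimeCore p ↥H) (hS3 : H = ⨆ A : {A : Subgroup G // A ≤ H ∧ Cfsg.IsBestOffenderOn p V A}, (A : Subgroup G)) (hH1 : H ≠ ⊥) : (p = 2 ∨ p = 3) ∧ (∀ E : {E : Subgroup G // ∃ A : Subgroup G, A ≤ H ∧ Cfsg.IsBestOffenderOn p V A ∧ ⁅V, A⁆ ≠ ⊥ ∧ (∀ B : Subgroup G, B ≤ A → Cfsg.IsBestOffenderOn p V B → ⁅V, B⁆ ≠ ⊥ → B = A) ∧ E = ⁅((Cfsg.pPrimeCore p ↥H).map H.subtype), A⁆ ⊔ A}, H ≤ Subgroup.normalizer ((E : Subgroup G) : Set G) ∧ Nonempty (↥(E : Subgroup G) ≃* Matrix.SpecialLinearGroup (Fin 2) (ZMod p)) ∧ Nat.card ↥(⁅V, (E : Subgroup G)⁆) = p ^ 2)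 ∧ iSupIndep (fun E : {E : Subgroup G // ∃ A : Subgroup G, A ≤ H ∧ Cfsg.IsBestOffenderOn p V A ∧ ⁅V, A⁆ ≠ ⊥ ∧ (∀ B : Subgroup G, B ≤ A → Cfsg.IsBestOffenderOn p V B → ⁅V, B⁆ ≠ ⊥ → B = A) ∧ E = ⁅((Cfsg.pPrimeCore p ↥H).map H.subtype), A⁆ ⊔ A} => (E : Subgroup G)) ∧ (⨆ E : {E : Subgroup G // ∃ A : Subgroup G, A ≤ H ∧ Cfsg.IsBestOffenderOn p V A ∧ ⁅V, A⁆ ≠ ⊥ ∧ (∀ B : Subgroup G, B ≤ A → Cfsg.IsBestOffenderOn p V B → ⁅V, B⁆ ≠ ⊥ → B = A) ∧ E = ⁅((Cfsg.pPrimeCore p ↥H).map H.subtype), A⁆ ⊔ A}, (E : Subgroup G)) = H ∧ iSupIndep (fun o : Option {E : Subgroup G // ∃ A : Subgroup G, A ≤ H ∧ Cfsg.IsBestOffenderOn p V A ∧ ⁅V, A⁆ ≠ ⊥ ∧ (∀ B : Subgroup G, B ≤ A → Cfsg.IsBestOffenderOn p V B → ⁅V, B⁆ ≠ ⊥ → B = A) ∧ E = ⁅((Cfsg.pPrimeCore p ↥H).map H.subtype), A⁆ ⊔ A} => o.elim (V ⊓ Subgroup.centralizer (H : Set G)) (fun E => ⁅V, (E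 : Subgroup G)⁆)) ∧ (V ⊓ Subgroup.centralizer (H : Set G)) ⊔ (⨆ E : {E : Subgroup G // ∃ A : Subgroup G, A ≤ H ∧ Cfsg.IsBestOffenderOn p V A ∧ ⁅V, A⁆ ≠ ⊥ ∧ (∀ B : Subgroup G, B ≤ A → Cfsg.IsBestOffenderOn p V B → ⁅V, B⁆ ≠ ⊥ → B = A) ∧ E = ⁅((Cfsg.pPrimeCore p ↥H).map H.subtype), A⁆ ⊔ A}, ⁅V, (E : Subgroup G)⁆) = V := by
  have S := Cfsg.Agent.Lib.helper14.ffSet_of_hyp V H hV hHV hf hS1
  obtain ⟨B, hBH, hB, hB1⟩ : ∃ B : Subgroup G, B ≤ H ∧ Cfsg.IsBestOffenderOn p V B ∧ B ≠ ⊥ := by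
    by_contra hcon
    push Not at hcon
    apply hH1
    rw [eq_bot_iff]
    refine hS3.le.trans (iSup_le ?_)
    rintro ⟨B, hBH, hB⟩
    exact (hcon B hBH hB).le
  have hBV : ⁅V, B⁆ ≠ ⊥ := by
    intro h0
    apply hB1
    rw [eq_bot_iff, ← hf]
    exact le_inf hBH (Cfsg.Agent.Lib.helper53.commutator_eq_bot_iff_le_centralizer'.mp h0)
  obtain ⟨A, hAB, hA, hAV, hAmin⟩ := Cfsg.Agent.Lib.helper14.exists_min_offender V _ B rfl hB hBV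
  have hR := Cfsg.Agent.Lib.helper14.isRoot_of_min V H hV hHV hf hS1 hS3 hH1 A (hAB.trans hBH) hA
    hAV hAmin
  refine ⟨Cfsg.Agent.Lib.helper14.E_p23 S hR, Cfsg.Agent.Lib.helper14.ff_structure S _ ?_ ?_ ?_⟩
  · rintro E ⟨A', hA'H, hA', hA'V, hA'min, rfl⟩
    exact ⟨A', Cfsg.Agent.Lib.helper14.isRoot_of_min V H hV hHV hf hS1 hS3 hH1 A' hA'H hA' hA'V
      hA'min, rfl⟩
  · exact fun A' hA' => Cfsg.Agent.Lib.helper14.H_le_normalizer_E V H hV hHV hf hS1 hS3 A' hA'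
  · refine hS3.le.trans (iSup_le ?_)
    rintro ⟨C, hCH, hC⟩
    obtain ⟨k, D, hD, -, hDsup⟩ :=
      Cfsg.Agent.Lib.helper14.best_decomp V H hV hHV hf hS1 hS3 hH1 _ C rfl hCH hC
    refine hDsup.ge.trans (iSup_le fun i => ?_)
    obtain ⟨h1, h2, h3, h4⟩ := hD i
    exact le_iSup_of_le ⟨⁅((Cfsg.pPrimeCore p ↥H).map H.subtype), D i⁆ ⊔ D i, D i, h1.trans hCH,
      h2, h3, h4, rfl⟩ le_sup_right

end Cfsg.Agent.S0617
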