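import Cfsg.Statements.S2941
import Cfsg.Agent.Lib.helper55.Conj
import Cfsg.Agent.Lib.helper55.CyclicSylow
-- import your own Cfsg.Agent.* helpers here

set_option autoImplicit false
open Cfsg

namespace Cfsg.Agent.S2941

open Cfsg.Agent.Lib.helper55 in
open scoped commutatorElement in
/-- Let G be a finite group of characteristic 2 type in which every 2-local subgroup is solvable and the centralizer of Ω₁(Z(S)) lies in N_G(S) for every Sylow 2-subgroup S, and let T be a nontrivial 2-subgroup and K a J(T)-component (J the Thompson subgroup generated by the elementary abelian 2-subgroups of largest order). If a subgroup Q is normalized by ⟨K, J(T)⟩ and normalizes J(T), then Q normalizes K. -/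
theorem result {G : Type*} [Group G] [Finite G] (hL : Cfsg.IsCharacteristicTwoType G) (hN : ∀ N : Subgroup G, Cfsg.IsTwoLocal N → Group.IsSolvable ↥N)
    (hZ : ∀ S : Sylow 2 G, Subgroup.centralizer (Cfsg.omegaCenterOf (S : Subgroup G) : Set G) ≤ Subgroup.normalizer ((S : Subgroup G) : Set G)) (T : Subgroup G) (hT : IsPGroup 2 ↥T) (hT1 : T ≠ ⊥) (K : Subgroup G) (hK : Cfsg.IsJComponent T K)
    (Q : Subgroup G) (hQ1 : K ⊔ Cfsg.thompsonSubgroupOf 2 T ≤ Subgroup.normalizer (Q : Set G)) (hQ2 : Q ≤ Subgroup.normalizer (Cfsg.thompsonSubgroupOf 2 T : Set G)) :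
    Q ≤ Subgroup.normalizer (K : Set G) := by
  obtain ⟨hgen, hcomm, -, -, -, -⟩ := hK
  obtain ⟨J, hJ⟩ : ∃ J, J = thompsonSubgroupOf 2 T := ⟨_, rfl⟩
  rw [← hJ] at hcomm hQ1 hQ2
  have hJT : J ≤ T := by rw [hJ]; exact Subgroup.map_subtype_le _
  have hJ2 : IsPGroup 2 J := hT.to_le hJT
  have hKQ : K ≤ Subgroup.normalizer (Q : Set G) := le_sup_left.trans hQ1
  have hJQ : J ≤ Subgroup.normalizer (Q : Set G) := le_sup_right.trans hQ1
  -- `J` normalizes `K = [K, J]`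
  have hJK : ∀ j ∈ J, ∀ k ∈ K, j * k * j⁻¹ ∈ K := by
    intro j hj k hk
    have key : ∀ y ∈ ⁅K, J⁆, j * y * j⁻¹ ∈ ⁅K, J⁆ := by
      intro y hy
      rw [Subgroup.commutator_def] at hy ⊢
      refine Subgroup.closure_induction
        (p := fun y _ => j * y * j⁻¹ ∈ Subgroup.closure {g | ∃ g₁ ∈ K, ∃ g₂ ∈ J, ⁅g₁, g₂⁆ = g})
        ?_ ?_ ?_ ?_ hy
      · rintro _ ⟨k₁, hk₁, j₁, hj₁, rfl⟩
        have e : j * ⁅k₁, j₁⁆ * j⁻¹ = ⁅k₁, j⁆⁻¹ * ⁅k₁, j * j₁⁆ := by
          simp only [commutatorElement_def]; group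
        rw [e]
        exact Subgroup.mul_mem _
          (Subgroup.inv_mem _ (Subgroup.subset_closure ⟨k₁, hk₁, j, hj, rfl⟩))
          (Subgroup.subset_closure ⟨k₁, hk₁, j * j₁, J.mul_mem hj hj₁, rfl⟩)
      · simp
      · intro a b _ _ ha hb
        have e : j * (a * b) * j⁻¹ = (j * a * j⁻¹) * (j * b * j⁻¹) := by group
        rw [e]; exact Subgroup.mul_mem _ ha hb
      · intro a _ ha
        have e : j * a⁻¹ * j⁻¹ = (j * a * j⁻¹)⁻¹ := by group
        rw [e]; exact Subgroup.inv_mem _ ha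
    rw [hcomm] at key
    exact key k hk
  -- elements of `K ⊔ J` are products
  have hX : ∀ y ∈ K ⊔ J, ∃ k ∈ K, ∃ j ∈ J, y = k * j := by
    intro y hy
    rw [Subgroup.sup_eq_closure] at hy
    refine Subgroup.closure_induction (p := fun y _ => ∃ k ∈ K, ∃ j ∈ J, y = k * j)
      ?_ ?_ ?_ ?_ hy
    · rintro z (hz | hz)
      · exact ⟨z, hz, 1, one_mem _, by simp⟩
      · exact ⟨1, one_mem _, z, hz, by simp⟩
    · exact ⟨1, one_mem _, 1, one_mem _, by simp⟩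
    · rintro _ _ _ _ ⟨k₁, hk₁, j₁, hj₁, rfl⟩ ⟨k₂, hk₂, j₂, hj₂, rfl⟩
      exact ⟨k₁ * (j₁ * k₂ * j₁⁻¹), K.mul_mem hk₁ (hJK j₁ hj₁ k₂ hk₂), j₁ * j₂,
        J.mul_mem hj₁ hj₂, by group⟩
    · rintro _ _ ⟨k, hk, j, hj, rfl⟩
      exact ⟨j⁻¹ * k⁻¹ * j⁻¹⁻¹, hJK j⁻¹ (J.inv_mem hj) k⁻¹ (K.inv_mem hk), j⁻¹, J.inv_mem hj,
        by group⟩
  -- odd-order elements of `K ⊔ J` lie in `K`
  have hodd : ∀ y ∈ K ⊔ J, Odd (orderOf y) → y ∈ K := by
    intro y hy hyodd
    obtain ⟨k, hk, j, hj, rfl⟩ := hX y hy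
    have hpow : ∀ m : ℕ, ∃ k' ∈ K, (k * j) ^ m = k' * j ^ m := by
      intro m
      induction m with
      | zero => exact ⟨1, one_mem _, by simp⟩
      | succ m ih =>
        obtain ⟨k', hk', h⟩ := ih
        refine ⟨k' * (j ^ m * k * (j ^ m)⁻¹),
          K.mul_mem hk' (hJK _ (J.pow_mem hj m) k hk), ?_⟩
        rw [pow_succ, h, pow_succ]; group
    obtain ⟨k', hk', h⟩ := hpow (orderOf (k * j))
    rw [pow_orderOf_eq_one] at h
    have hjm : j ^ orderOf (k * j) ∈ K := by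
      have : j ^ orderOf (k * j) = k'⁻¹ := eq_inv_of_mul_eq_one_right h.symm
      rw [this]; exact K.inv_mem hk'
    obtain ⟨a, ha⟩ := hJ2 ⟨j, hj⟩
    have hj2 : j ^ 2 ^ a = 1 := by
      have := congrArg Subtype.val ha
      simpa using this
    have hcop : Nat.Coprime (orderOf (k * j)) (2 ^ a) :=
      Nat.Coprime.pow_right a hyodd.coprime_two_right
    have hjK : j ∈ K :=
      mem_of_pow_mem_of_coprime K hcop hjm (by rw [hj2]; exact one_mem _)
    exact K.mul_mem hk hjK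
  -- `Q` normalizes `K ⊔ J`
  have hQX : ∀ q ∈ Q, ∀ y ∈ K ⊔ J, q * y * q⁻¹ ∈ K ⊔ J := by
    intro q hq
    have hqJ : ∀ j ∈ J, q * j * q⁻¹ ∈ J := fun j hj =>
      (Subgroup.mem_normalizer_iff.mp (hQ2 hq) j).mp hj
    have hqKJ : ∀ k ∈ K, ∀ j ∈ J, q * (k * j * k⁻¹) * q⁻¹ ∈ K ⊔ J := by
      intro k hk j hj
      have h1 : k⁻¹ * q * k⁻¹⁻¹ ∈ Q :=
        (Subgroup.mem_normalizer_iff.mp (hKQ (K.inv_mem hk)) q).mp hq
      have h2 : (k⁻¹ * q * k⁻¹⁻¹) * j * (k⁻¹ * q * k⁻¹⁻¹)⁻¹ ∈ J :=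
        (Subgroup.mem_normalizer_iff.mp (hQ2 h1) j).mp hj
      have e : q * (k * j * k⁻¹) * q⁻¹
          = k * ((k⁻¹ * q * k⁻¹⁻¹) * j * (k⁻¹ * q * k⁻¹⁻¹)⁻¹) * k⁻¹ := by group
      rw [e]
      have hkX : k ∈ K ⊔ J := le_sup_left (α := Subgroup G) hk
      exact Subgroup.mul_mem _ (Subgroup.mul_mem _ hkX (le_sup_right (α := Subgroup G) h2))
        (Subgroup.inv_mem _ hkX)
    have hcommle : ⁅K, J⁆ ≤ (K ⊔ J).comap (MulAut.conj q).toMonoidHom := by
      rw [Subgroup.commutator_le]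
      intro k hk j hj
      rw [Subgroup.mem_comap]
      show q * ⁅k, j⁆ * q⁻¹ ∈ K ⊔ J
      have e : q * ⁅k, j⁆ * q⁻¹ = (q * (k * j * k⁻¹) * q⁻¹) * (q * j⁻¹ * q⁻¹) := by
        simp only [commutatorElement_def]; group
      rw [e]
      exact Subgroup.mul_mem _ (hqKJ k hk j hj)
        (le_sup_right (α := Subgroup G) (hqJ _ (J.inv_mem hj)))
    rw [hcomm] at hcommle
    have hJle : J ≤ (K ⊔ J).comap (MulAut.conj q).toMonoidHom := by
      intro j hj
      rw [Subgroup.mem_comap]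
      exact le_sup_right (α := Subgroup G) (hqJ j hj)
    intro y hy
    exact (sup_le hcommle hJle) hy
  -- `Q` normalizes `K`
  intro q hq
  apply mem_normalizer_of_conj_mem
  have hle : K ≤ K.comap (MulAut.conj q).toMonoidHom := by
    conv_lhs => rw [← hgen]
    rw [Subgroup.closure_le]
    rintro g ⟨hgK, hgodd⟩
    show q * g * q⁻¹ ∈ K
    apply hodd _ (hQX q hq g (le_sup_left (α := Subgroup G) hgK))
    have : orderOf (q * g * q⁻¹) = orderOf g :=
      orderOf_injective (MulAut.conj q).toMonoidHom (MulAut.conj q).injective g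
    rw [this]; exact hgodd
  intro y hy
  exact hle hy

end Cfsg.Agent.S2941
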