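-- Statement S2942: J(T)-components are subnormal in the overgroups.
import Cfsg.Statements.S2942
import Mathlib
import Cfsg.Agent.S2941
import Cfsg.Agent.Lib.helper13.JOver
import Cfsg.Agent.Lib.helper13.NilAct
import Cfsg.Agent.Lib.helper13.SylowIn
import Cfsg.Agent.Lib.helper29.Zipper

set_option autoImplicit false
open Cfsg

namespace Cfsg.Agent.S2942

open Cfsg.Agent.Lib.helper13 Cfsg.Agent.Lib.helper29 in
open scoped commutatorElement in
/-- Let G be a finite group of characteristic 2 type in which every 2-local subgroup is solvable and the centralizer of Ω₁(Z(S)) lies in N_G(S) for every Sylow 2-subgroup S, and let T be a nontrivial 2-subgroup (below, J is the Thompson subgroup generated by the elementary abelian 2-subgroups of largest order). If L is a subgroup in which T is a Sylow 2-subgroup, with J(T) not contained in O₂(L) and C_G(O₂(L)) ≤ O₂(L), then every J(T)-component contained in L is subnormal in L. -/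
theorem result {G : Type*} [Group G] [Finite G] (hL : Cfsg.IsCharacteristicTwoType G) (hN : ∀ N : Subgroup G, Cfsg.IsTwoLocal N → Group.IsSolvable ↥N)
    (hZ : ∀ S : Sylow 2 G, Subgroup.centralizer (Cfsg.omegaCenterOf (S : Subgroup G) : Set G) ≤ Subgroup.normalizer ((S : Subgroup G) : Set G)) (T : Subgroup G) (hT : IsPGroup 2 ↥T) (hT1 : T ≠ ⊥) (L : Subgroup G) (hLT : L ∈ Cfsg.jOvergroups T)
    (K : Subgroup G) (hK : Cfsg.IsJComponent T K) (hKL : K ≤ L) : (K.subgroupOf L).IsSubnormal := by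
  have hp2 : Fact (Nat.Prime 2) := ⟨Nat.prime_two⟩
  obtain ⟨hTsyl, hJR, hchar⟩ := hLT
  have hsolv := isSolvable_of_mem_jOvergroups hN hT1 hchar
  obtain ⟨V, N, hVL, hLV, hVel, hOmV, hRC, hTC, hCN, hNL, hLN, hcomm, hcube, hXN, hsub⟩ :=
    overgroup_structure hZ hTsyl hsolv hchar
  have hK' := hK
  obtain ⟨hgen, hKJ, -, -, -, -⟩ := hK
  have hKN : K ≤ N := hXN K hKL hKJ hgen
  have hTL : T ≤ L := hTsyl.1
  have hJT : Cfsg.thompsonSubgroupOf 2 T ≤ T := thompsonSubgroupOf_le_self T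
  have hLR : L ≤ Subgroup.normalizer (Cfsg.pCoreOf 2 L : Set G) :=
    Cfsg.Agent.Lib.helper51.le_normalizer_pCoreOf 2 L
  have hRT : Cfsg.pCoreOf 2 L ≤ T := pCoreOf_le_of_isSylowTwoIn hTsyl
  have hRL : Cfsg.pCoreOf 2 L ≤ L := hRT.trans hTL
  have hRK : Cfsg.pCoreOf 2 L ≤ Subgroup.normalizer (K : Set G) := by
    refine Cfsg.Agent.S2941.result hL hN hZ T hT hT1 K hK' (Cfsg.pCoreOf 2 L) ?_ ?_
    · exact (sup_le hKL (hJT.trans hTL)).trans hLR
    · exact hRT.trans (Subgroup.le_normalizer.trans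
        (normalizer_le_normalizer_thompsonSubgroupOf 2 T))
  have hLC : L ≤ Subgroup.normalizer
      ((L ⊓ Subgroup.centralizer (V : Set G) : Subgroup G) : Set G) :=
    le_normalizer_inf_centralizer hLV
  have hRC' : Cfsg.pCoreOf 2 L ≤ L ⊓ Subgroup.centralizer (V : Set G) := le_inf hRL hRC
  -- `[K, C] ≤ R`
  have hKC : ⁅K, L ⊓ Subgroup.centralizer (V : Set G)⁆ ≤ Cfsg.pCoreOf 2 L := by
    have h3 := three_subgroups_mod (H₁ := K) (H₂ := Cfsg.thompsonSubgroupOf 2 T)
      (H₃ := L ⊓ Subgroup.centralizer (V : Set G)) (N := Cfsg.pCoreOf 2 L)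
      (hKL.trans hLR) ((hJT.trans hTL).trans hLR) (inf_le_left.trans hLR) ?_ ?_
    · rwa [hKJ] at h3
    · -- `[[J, C], K] ≤ [R, K] ≤ R`
      have h1 : ⁅Cfsg.thompsonSubgroupOf 2 T, L ⊓ Subgroup.centralizer (V : Set G)⁆ ≤
          Cfsg.pCoreOf 2 L := (Subgroup.commutator_mono hJT le_rfl).trans hTC
      exact (Subgroup.commutator_mono h1 le_rfl).trans
        (commutator_le_of_le_normalizer (hKL.trans hLR))
    · -- `[[C, K], J] ≤ [C, J] ≤ R`
      have h1 : ⁅L ⊓ Subgroup.centralizer (V : Set G), K⁆ ≤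
          L ⊓ Subgroup.centralizer (V : Set G) :=
        commutator_le_of_le_normalizer (hKL.trans hLC)
      refine (Subgroup.commutator_mono h1 hJT).trans ?_
      rw [Subgroup.commutator_comm]
      exact hTC
  -- the chain
  have hKnK : K ≤ Subgroup.normalizer (K : Set G) := Subgroup.le_normalizer
  have c1 : SNChain K (K ⊔ Cfsg.pCoreOf 2 L) :=
    SNChain.of_normal le_sup_left (sup_le hKnK hRK)
  have hKnR : K ≤ Subgroup.normalizer ((K ⊔ Cfsg.pCoreOf 2 L : Subgroup G) : Set G) :=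
    le_normalizer_sup hKnK (hKL.trans hLR)
  have hCnKR : L ⊓ Subgroup.centralizer (V : Set G) ≤
      Subgroup.normalizer ((K ⊔ Cfsg.pCoreOf 2 L : Subgroup G) : Set G) := by
    intro c hc
    apply mem_normalizer_of_forall_conj_mem
    intro x hx
    have hcR : c ∈ Subgroup.normalizer (Cfsg.pCoreOf 2 L : Set G) := hLR hc.1
    have hle : K ⊔ Cfsg.pCoreOf 2 L ≤
        (K ⊔ Cfsg.pCoreOf 2 L).comap (MulAut.conj c).toMonoidHom := by
      refine sup_le ?_ ?_
      · intro k hk
        rw [Subgroup.mem_comap]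
        show c * k * c⁻¹ ∈ K ⊔ Cfsg.pCoreOf 2 L
        have h1 : ⁅k, c⁆ ∈ Cfsg.pCoreOf 2 L :=
          hKC (Subgroup.commutator_mem_commutator hk hc)
        have e : c * k * c⁻¹ = k * (k⁻¹ * ⁅k, c⁆⁻¹ * k⁻¹⁻¹) := by
          simp only [commutatorElement_def]; group
        rw [e]
        refine Subgroup.mul_mem _ (Subgroup.mem_sup_left hk) (Subgroup.mem_sup_right ?_)
        exact (Subgroup.mem_normalizer_iff.mp (hLR (hKL (K.inv_mem hk))) _).mp
          (Subgroup.inv_mem _ h1)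
      · intro r hr
        rw [Subgroup.mem_comap]
        show c * r * c⁻¹ ∈ K ⊔ Cfsg.pCoreOf 2 L
        exact Subgroup.mem_sup_right ((Subgroup.mem_normalizer_iff.mp hcR r).mp hr)
    exact hle hx
  have c2 : SNChain (K ⊔ Cfsg.pCoreOf 2 L) (K ⊔ (L ⊓ Subgroup.centralizer (V : Set G))) :=
    SNChain.of_normal (sup_le le_sup_left (hRC'.trans le_sup_right)) (sup_le hKnR hCnKR)
  have c3 : SNChain (K ⊔ (L ⊓ Subgroup.centralizer (V : Set G))) L :=
    snChain_iff.mpr ⟨sup_le hKL inf_le_left, hsub K hKN⟩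
  exact ((c1.trans c2).trans c3).isSubnormal

end Cfsg.Agent.S2942
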