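import Cfsg.Statements.S2944
import Cfsg.Agent.Lib.helper51.JNorm
import Cfsg.Agent.Lib.helper51.JConj

set_option autoImplicit false
open Cfsg

namespace Cfsg.Agent.S2944

open Cfsg.Agent.Lib.helper13 Cfsg.Agent.Lib.helper51

/-- The normalizer of `W_K` normalizes `K`, for `K ∈ 𝒦⁰(T)`; together with a Sylow 2-subgroup of
`N_G(W_K)` containing `J(T)`. -/
theorem normalizer_wOf_le {G : Type*} [Group G] [Finite G] (hL : Cfsg.IsCharacteristicTwoType G)
    (hN : ∀ N : Subgroup G, Cfsg.IsTwoLocal N → Group.IsSolvable ↥N)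
    (hZ : ∀ S : Sylow 2 G, Subgroup.centralizer (Cfsg.omegaCenterOf (S : Subgroup G) : Set G) ≤
      Subgroup.normalizer ((S : Subgroup G) : Set G))
    (T : Subgroup G) (hT : IsPGroup 2 ↥T) (K : Subgroup G)
    (hK : K ∈ Cfsg.jComponentsZero T) :
    Subgroup.normalizer (Cfsg.wOf K : Set G) ≤ Subgroup.normalizer (K : Set G) ∧
    ∃ S' : Subgroup G, IsSylowTwoIn S' (Subgroup.normalizer (Cfsg.wOf K : Set G)) ∧
      thompsonSubgroupOf 2 S' = thompsonSubgroupOf 2 T := by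
  have hp2 : Fact (Nat.Prime 2) := ⟨Nat.prime_two⟩
  obtain ⟨hK, hK0⟩ := hK
  obtain ⟨hgen, hKJ, hidx, hsyl, hWcard, hW2⟩ := id hK
  have hW2g : IsPGroup 2 (wOf K) := by
    intro w
    refine ⟨1, ?_⟩
    apply Subtype.ext
    have := hW2 w.1 w.2
    simp only [pow_one, Subgroup.coe_pow, Subgroup.coe_one]
    rw [pow_two]; exact this
  have hW1 : wOf K ≠ ⊥ := by
    intro h
    have := Subgroup.card_eq_one.mpr h
    rw [hWcard] at this
    norm_num at this
  have hloc : IsTwoLocal (Subgroup.normalizer (wOf K : Set G)) := ⟨wOf K, hW2g, hW1, rfl⟩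
  have hJK : thompsonSubgroupOf 2 T ≤ Subgroup.normalizer (K : Set G) :=
    le_normalizer_of_commutator_eq hKJ
  have hKW := normalizer_le_normalizer_wOf K
  have hJ2 : IsPGroup 2 (thompsonSubgroupOf 2 T) := hT.to_le (thompsonSubgroupOf_le_self T)
  obtain ⟨S', hS'syl, hJS'⟩ := exists_sylowTwoIn_ge (hJK.trans hKW) hJ2
  have hJeq : thompsonSubgroupOf 2 S' = thompsonSubgroupOf 2 T := hK0 S' hJS' hS'syl
  refine ⟨?_, S', hS'syl, hJeq⟩
  have hKS' : IsJComponent S' K := component_congr hJeq hK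
  have hWS' : wOf K ≤ S' :=
    (le_pCoreOf Subgroup.le_normalizer le_rfl hW2g).trans (pCoreOf_le_of_isSylowTwoIn hS'syl)
  have hS'1 : S' ≠ ⊥ := by
    intro h
    rw [h] at hWS'
    exact hW1 (le_bot_iff.mp hWS')
  obtain ⟨V, N, JL, F⟩ := overgroup_fine hZ hS'syl (hN _ hloc) (twoLocal_char hL hW2g hW1)
  have hKNw : K ≤ Subgroup.normalizer (wOf K : Set G) := Subgroup.le_normalizer.trans hKW
  obtain ⟨d, a, P, hdK, -, -, hKR, hRK, -, -, hQR, -, -⟩ :=
    exists_invPair hL hN hZ hS'syl.2.1 hS'1 F hKS' hKNw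
  have hdV : ∀ v ∈ V, d * v * d⁻¹ ∈ V := fun v hv => F.conjV (F.NL P.dN) hv
  have hd3 : d ^ 3 ∈ Subgroup.centralizer (V : Set G) := F.RC P.d3
  obtain ⟨v₀, hv₀, ha'⟩ := P.atr
  obtain ⟨W, hWV, hW, hWc, hv₀W, hv₀1⟩ :=
    exists_normKer_four F.Vc F.V2 hdV hd3 P.dC P.aa hv₀ ha' (F.RC P.inv)
  have hWle : W ≤ wOf K := by
    intro v hv
    exact mem_wOf_iff_norm hKS' F.Vc F.V2 (hKNw.trans F.LV) (F.VR.trans hRK) (hQR.trans F.RC)
      hdK v (hWV hv) ((hW v (hWV hv)).mp hv)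
  have hWeq : W = wOf K := Subgroup.eq_of_le_of_card_ge hWle (by rw [hWc, hWcard])
  intro n hn
  have hnd : n * d * n⁻¹ ∈ N := F.conjN hn P.dN
  have hbV' : ∀ v ∈ V, n⁻¹ * v * n ∈ V := by
    intro v hv
    have := F.conjV (Subgroup.inv_mem _ hn) hv
    rwa [inv_inv] at this
  have hbz' : n⁻¹ * v₀ * n ∈ W := by
    rw [hWeq] at hv₀W ⊢
    exact inv_conj_mem_of_mem_normalizer hn hv₀W
  have h := conj_pair F.Vc F.V2 hdV (fun v hv => F.conjV hn hv) hbV' hd3
    (F.cube _ hnd) (F.comm d P.dN _ hnd) hWV hW hWc hv₀W hv₀1 hbz'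
    (F.cube _ (N.mul_mem hnd P.dN)) (F.cube _ (N.mul_mem hnd (N.mul_mem P.dN P.dN)))
  have h1 := P.mem_normalizer_of_pair F hn h
  rw [← hKR] at h1
  exact normalizer_sup_le_normalizer hgen hRK F.R2 h1

/-- Let G be a finite group of characteristic 2 type in which every 2-local subgroup is solvable and the centralizer of Ω₁(Z(S)) lies in N_G(S) for every Sylow 2-subgroup S, and let T be a nontrivial 2-subgroup (below, J is the Thompson subgroup generated by the elementary abelian 2-subgroups of largest order) and K a J(T)-component such that J(T) is the Thompson subgroup of every Sylow 2-subgroup of N_G(W_K) containing J(T), where W_K = [Ω₁(Z(O₂(K))), K]. Then N_G(K) = N_G(W_K), and K is a J(Tᵍ)-component for every conjugate Tᵍ of T with J(Tᵍ) ≤ N_G(W_K). -/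
theorem result {G : Type*} [Group G] [Finite G] (hL : Cfsg.IsCharacteristicTwoType G) (hN : ∀ N : Subgroup G, Cfsg.IsTwoLocal N → Group.IsSolvable ↥N)
    (hZ : ∀ S : Sylow 2 G, Subgroup.centralizer (Cfsg.omegaCenterOf (S : Subgroup G) : Set G) ≤ Subgroup.normalizer ((S : Subgroup G) : Set G)) (T : Subgroup G) (hT : IsPGroup 2 ↥T) (hT1 : T ≠ ⊥) (K : Subgroup G) (hK : K ∈ Cfsg.jComponentsZero T) :
    Subgroup.normalizer (K : Set G) = Subgroup.normalizer (Cfsg.wOf K : Set G) ∧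
      ∀ g : G, Cfsg.thompsonSubgroupOf 2 (T.map (MulAut.conj g).toMonoidHom) ≤ Subgroup.normalizer (Cfsg.wOf K : Set G) →
        Cfsg.IsJComponent (T.map (MulAut.conj g).toMonoidHom) K := by
  have hp2 : Fact (Nat.Prime 2) := ⟨Nat.prime_two⟩
  obtain ⟨hle, S', hS'syl, hJeq⟩ := normalizer_wOf_le hL hN hZ T hT K hK
  refine ⟨le_antisymm (normalizer_le_normalizer_wOf K) hle, ?_⟩
  intro g hg
  have hJg : thompsonSubgroupOf 2 (T.map (MulAut.conj g).toMonoidHom) =
      (thompsonSubgroupOf 2 T).map (MulAut.conj g).toMonoidHom :=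
    (map_thompsonSubgroupOf (MulAut.conj g) T).symm
  have hJ2 : IsPGroup 2 (thompsonSubgroupOf 2 (T.map (MulAut.conj g).toMonoidHom)) :=
    (hT.map _).to_le (thompsonSubgroupOf_le_self _)
  obtain ⟨n, hn, hconj⟩ := exists_conj_mem_of_isPGroup hS'syl hg hJ2
  have hng : n * g ∈ Subgroup.normalizer (thompsonSubgroupOf 2 T : Set G) := by
    rw [← hJeq]
    apply mem_normalizer_thompson_of_conj_mem
    intro x hx
    rw [hJeq] at hx
    have h1 : g * x * g⁻¹ ∈ thompsonSubgroupOf 2 (T.map (MulAut.conj g).toMonoidHom) := by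
      rw [hJg]; exact ⟨x, hx, rfl⟩
    have h2 := hconj _ h1
    have e : n * g * x * (n * g)⁻¹ = n * (g * x * g⁻¹) * n⁻¹ := by group
    rw [e]; exact h2
  have hJg' : thompsonSubgroupOf 2 (T.map (MulAut.conj g).toMonoidHom) =
      thompsonSubgroupOf 2 (T.map (MulAut.conj n⁻¹).toMonoidHom) := by
    rw [hJg, ← map_thompsonSubgroupOf (MulAut.conj n⁻¹) T]
    have e : g = n⁻¹ * (n * g) := by group
    conv_lhs => rw [e]
    rw [Cfsg.Agent.Lib.helper51.map_conj_mul, Cfsg.Agent.Lib.helper13.map_conj_eq_of_mem_normalizer hng]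
  have hc := conj_component hK.1 n⁻¹
  rw [Cfsg.Agent.Lib.helper13.map_conj_eq_of_mem_normalizer (hle (Subgroup.inv_mem _ hn))] at hc
  exact component_congr hJg' hc

end Cfsg.Agent.S2944
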