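-- Statement S2945: a subnormal `J(T^g)`-component in an overgroup of `T` is a `J(T)`-component.
import Cfsg.Statements.S2945
import Mathlib
import Cfsg.Agent.S2944
import Cfsg.Agent.Lib.helper13.JOver
import Cfsg.Agent.Lib.helper13.JNorm

set_option autoImplicit false
open Cfsg

namespace Cfsg.Agent.S2945

theorem map_conj_map_conj_inv {G : Type*} [Group G] (T : Subgroup G) (g : G) :
    (T.map (MulAut.conj g).toMonoidHom).map (MulAut.conj g⁻¹).toMonoidHom = T := by
  rw [Subgroup.map_map]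
  have e : (MulAut.conj g⁻¹).toMonoidHom.comp (MulAut.conj g).toMonoidHom = MonoidHom.id G := by
    ext x
    simp only [MonoidHom.comp_apply, MulEquiv.coe_toMonoidHom, MulAut.conj_apply, MonoidHom.id_apply]
    group
  rw [e, Subgroup.map_id]

theorem isPGroup_map_conj {G : Type*} [Group G] {T : Subgroup G} (hT : IsPGroup 2 ↥T) (g : G) :
    IsPGroup 2 ↥(T.map (MulAut.conj g).toMonoidHom) := by
  rintro ⟨_, t, ht, rfl⟩
  obtain ⟨n, hn⟩ := hT ⟨t, ht⟩
  refine ⟨n, ?_⟩
  apply Subtype.ext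
  have h1 : t ^ 2 ^ n = 1 := by simpa using congrArg Subtype.val hn
  simp only [Subgroup.coe_pow, Subgroup.coe_one]
  rw [← map_pow, h1, map_one]

theorem map_conj_ne_bot {G : Type*} [Group G] {T : Subgroup G} (hT1 : T ≠ ⊥) (g : G) :
    T.map (MulAut.conj g).toMonoidHom ≠ ⊥ := by
  intro h
  apply hT1
  rw [← map_conj_map_conj_inv T g, h, Subgroup.map_bot]

/-- Let G be a finite group of characteristic 2 type in which every 2-local subgroup is solvable and the centralizer of Ω₁(Z(S)) lies in N_G(S) for every Sylow 2-subgroup S, and let T be a nontrivial 2-subgroup (below, J is the Thompson subgroup generated by the elementary abelian 2-subgroups of largest order), L a subgroup in which T is a Sylow 2-subgroup with J(T) not contained in O₂(L) and C_G(O₂(L)) ≤ O₂(L), and K ≤ L a subgroup that is subnormal in ⟨K, J(T)⟩. If for some conjugate Tᵍ of T, K is a J(Tᵍ)-component with J(Tᵍ) the Thompson subgroup of every Sylow 2-subgroup of N_G(W_K) containing J(Tᵍ) (W_K = [Ω₁(Z(O₂(K))),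 K]), then K is a J(T)-component. -/
theorem result {G : Type*} [Group G] [Finite G] (hL : Cfsg.IsCharacteristicTwoType G) (hN : ∀ N : Subgroup G, Cfsg.IsTwoLocal N → Group.IsSolvable ↥N)
    (hZ : ∀ S : Sylow 2 G, Subgroup.centralizer (Cfsg.omegaCenterOf (S : Subgroup G) : Set G) ≤ Subgroup.normalizer ((S : Subgroup G) : Set G)) (T : Subgroup G) (hT : IsPGroup 2 ↥T) (hT1 : T ≠ ⊥) (L : Subgroup G) (hLT : L ∈ Cfsg.jOvergroups T)
    (K : Subgroup G) (hKL : K ≤ L) (hKsn : (K.subgroupOf (K ⊔ Cfsg.thompsonSubgroupOf 2 T)).IsSubnormal)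
    (g : G) (hKg : K ∈ Cfsg.jComponentsZero (T.map (MulAut.conj g).toMonoidHom)) : Cfsg.IsJComponent T K := by
  obtain ⟨hTsyl, -, hchar⟩ := hLT
  have hsolv := Cfsg.Agent.Lib.helper13.isSolvable_of_mem_jOvergroups hN hT1 hchar
  have hJW : Cfsg.thompsonSubgroupOf 2 T ≤ Subgroup.normalizer (Cfsg.wOf K : Set G) :=
    Cfsg.Agent.Lib.helper13.thompsonSubgroupOf_le_normalizer_wOf hTsyl hsolv hKL hKg.1 hKsn
  have h44 := (Cfsg.Agent.S2944.result hL hN hZ (T.map (MulAut.conj g).toMonoidHom)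
    (isPGroup_map_conj hT g) (map_conj_ne_bot hT1 g) K hKg).2 g⁻¹
  rw [map_conj_map_conj_inv] at h44
  exact h44 hJW

end Cfsg.Agent.S2945
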