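import Cfsg.Statements.S0291
import Cfsg.Agent.Lib.helper7.QuadCount

set_option autoImplicit false
open Cfsg

namespace Cfsg.Agent.S0291

open Matrix in
/-- For q odd, the form x_0^2 + sum_{i<m} x_i y_i on F^(2m+1) has exactly q^(2m) zeros. -/
theorem result {F : Type*} [Field F] [Fintype F] {q : ℕ} (hF : Fintype.card F = q) (hodd : Odd q) (m : ℕ) : Nat.card {v : Unit ⊕ (Fin m ⊕ Fin m) → F // Cfsg.quadFormOdd m F v = 0} = q ^ (2 * m) := by
  classical
  let e1 : (Unit ⊕ (Fin m ⊕ Fin m) → F) ≃ F × ((Fin m → F) × (Fin m → F)) :=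
    (Equiv.sumArrowEquivProdArrow Unit (Fin m ⊕ Fin m) F).trans
      ((Equiv.funUnique Unit F).prodCongr (Equiv.sumArrowEquivProdArrow (Fin m) (Fin m) F))
  have e : {v : Unit ⊕ (Fin m ⊕ Fin m) → F // Cfsg.quadFormOdd m F v = 0}
      ≃ {p : F × ((Fin m → F) × (Fin m → F)) // p.2.1 ⬝ᵥ p.2.2 = -p.1 ^ 2} :=
    Equiv.subtypeEquiv e1 (fun v => by
      simp only [Cfsg.quadFormOdd, dotProduct, e1, Equiv.sumArrowEquivProdArrow, Equiv.trans_apply,
        Equiv.coe_fn_mk, Equiv.prodCongr_apply, Prod.map_fst, Prod.map_snd, Equiv.funUnique_apply,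
        Function.comp_apply]
      constructor <;> intro h <;> linear_combination h)
  rw [Nat.card_congr e, Nat.card_congr (Equiv.subtypeProdEquivSigmaSubtype
    (fun (t : F) (p : (Fin m → F) × (Fin m → F)) => p.1 ⬝ᵥ p.2 = -t ^ 2)), Nat.card_sigma]
  simp_rw [Cfsg.Agent.Lib.helper7.card_hyperbolic_eq]
  rw [Finset.sum_add_distrib, Finset.sum_const, Finset.card_univ, hF, Fintype.card_fin, smul_eq_mul]
  have h0 : ∀ t : F, (-t ^ 2 = 0) ↔ t = 0 := by
    intro t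
    simp
  simp_rw [h0]
  rw [Finset.sum_ite_eq' Finset.univ (0 : F) (fun _ => q ^ m), if_pos (Finset.mem_univ _)]
  have hq : 1 ≤ q := by rw [← hF]; exact Fintype.card_pos
  rcases Nat.eq_zero_or_pos m with rfl | hm
  · simp
  · obtain ⟨k, rfl⟩ : ∃ k, m = k + 1 := ⟨m - 1, by omega⟩
    have h1 : q ^ (2 * (k + 1)) = q ^ (k + 1) * q ^ (k + 1) := by
      rw [← pow_add]; congr 1; omega
    have h2 : q * ((q ^ (k + 1) - 1) * q ^ k) = (q ^ (k + 1) - 1) * q ^ (k + 1) := by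
      rw [pow_succ q k]; ring
    rw [Nat.add_sub_cancel, h1, h2, Nat.sub_mul, one_mul]
    have h3 : q ^ (k + 1) ≤ q ^ (k + 1) * q ^ (k + 1) :=
      Nat.le_mul_of_pos_right _ (pow_pos hq _)
    omega

end Cfsg.Agent.S0291
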