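import Cfsg.Statements.S0286
import Cfsg.Agent.Lib.helper50.OrthCount
import Cfsg.Agent.S0291

set_option autoImplicit false
open Cfsg

namespace Cfsg.Agent.S0286

open Matrix Cfsg.Agent.Lib.helper50 Cfsg.Agent.Lib.helper50.QSpace Module

/-- matrix of the odd-dimensional form -/
def Mo (m : ℕ) (F : Type*) [Field F] :
    Matrix (Unit ⊕ (Fin m ⊕ Fin m)) (Unit ⊕ (Fin m ⊕ Fin m)) F :=
  fromBlocks 1 0 0 (fromBlocks 0 1 0 0)

theorem quadFormOdd_eq (m : ℕ) (F : Type*) [Field F] :
    Cfsg.quadFormOdd m F = qf (Mo m F) := by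
  funext v
  unfold Cfsg.quadFormOdd qf Mo
  simp [dotProduct, mulVec, Fintype.sum_sum_type, Matrix.one_apply]
  ring

/-- the number of vectors of norm 1 of the odd form, in odd characteristic -/
theorem card_odd_one {F : Type*} [Field F] [Fintype F] (h2 : (2 : F) ≠ 0) (m : ℕ) :
    Nat.card {v : Unit ⊕ (Fin m ⊕ Fin m) → F // Cfsg.quadFormOdd m F v = 1}
      = Fintype.card F ^ (2 * m) + Fintype.card F ^ m := by
  classical
  let e1 : (Unit ⊕ (Fin m ⊕ Fin m) → F) ≃ F × ((Fin m → F) × (Fin m → F)) :=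
    (Equiv.sumArrowEquivProdArrow Unit (Fin m ⊕ Fin m) F).trans
      ((Equiv.funUnique Unit F).prodCongr (Equiv.sumArrowEquivProdArrow (Fin m) (Fin m) F))
  have e : {v : Unit ⊕ (Fin m ⊕ Fin m) → F // Cfsg.quadFormOdd m F v = 1}
      ≃ {p : F × ((Fin m → F) × (Fin m → F)) // p.2.1 ⬝ᵥ p.2.2 = 1 - p.1 ^ 2} :=
    Equiv.subtypeEquiv e1 (fun v => by
      simp only [Cfsg.quadFormOdd, dotProduct, e1, Equiv.sumArrowEquivProdArrow, Equiv.trans_apply,
        Equiv.coe_fn_mk, Equiv.prodCongr_apply, Prod.map_fst, Prod.map_snd, Equiv.funUnique_apply,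
        Function.comp_apply]
      constructor <;> intro h <;> linear_combination h)
  rw [Nat.card_congr e, Nat.card_congr (Equiv.subtypeProdEquivSigmaSubtype
    (fun (t : F) (p : (Fin m → F) × (Fin m → F)) => p.1 ⬝ᵥ p.2 = 1 - t ^ 2)), Nat.card_sigma]
  simp_rw [Cfsg.Agent.Lib.helper7.card_hyperbolic_eq]
  rw [Finset.sum_add_distrib, Finset.sum_const, Finset.card_univ, Fintype.card_fin, smul_eq_mul,
    Finset.sum_ite, Finset.sum_const, Finset.sum_const_zero, add_zero, smul_eq_mul]
  have hfilter : (Finset.univ.filter (fun t : F => 1 - t ^ 2 = 0)) = {1, -1} := by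
    ext t
    simp only [Finset.mem_filter, Finset.mem_univ, true_and, Finset.mem_insert,
      Finset.mem_singleton]
    constructor
    · intro h
      have h' : (t - 1) * (t + 1) = 0 := by linear_combination -h
      rcases mul_eq_zero.1 h' with h1 | h1
      · left; exact sub_eq_zero.1 h1
      · right; exact eq_neg_of_add_eq_zero_left h1
    · rintro (rfl | rfl) <;> ring
  have hne : (1 : F) ≠ -1 := by
    intro h
    apply h2
    linear_combination h
  rw [hfilter, Finset.card_pair hne]
  set q := Fintype.card F with hq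
  have hq1 : 1 ≤ q := Fintype.card_pos
  rcases m with _ | k
  · simp
  · simp only [Nat.add_sub_cancel]
    have h1 : 1 ≤ q ^ (k + 1) := Nat.one_le_pow _ _ hq1
    zify [h1]
    ring

/-- the invariants: numbers of zeros and of norm one vectors -/
def aOdd (F : Type*) [Field F] [DecidableEq F] (q : ℕ) (k : ℕ) (c : F) : ℕ :=
  if c = 0 then q ^ (2 * k) else q ^ (2 * k) + q ^ k

theorem aOdd_rec (F : Type*) [Field F] [DecidableEq F] (q : ℕ) (hq : 1 ≤ q) (k : ℕ) (c : F) :
    aOdd F q (k + 1) c = q * aOdd F q k c + (q - 1) * q ^ (2 * k + 1) := by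
  unfold aOdd
  split_ifs
  · zify [hq]
    ring
  · zify [hq]
    ring

theorem prod_odd (F : Type*) [Field F] [DecidableEq F] (q : ℕ) (m : ℕ) :
    (∏ j ∈ Finset.range m, ((aOdd F q (j + 1) 0 - 1) * q ^ (2 * j + 1))) * 2
      = 2 * q ^ (m ^ 2) * ∏ i ∈ Finset.range m, (q ^ (2 * (i + 1)) - 1) := by
  induction m with
  | zero => simp
  | succ n ih =>
    have e2 : aOdd F q (n + 1) 0 = q ^ (2 * (n + 1)) := by simp [aOdd]
    rw [Finset.prod_range_succ, Finset.prod_range_succ, e2]
    generalize (∏ j ∈ Finset.range n, ((aOdd F q (j + 1) 0 - 1) * q ^ (2 * j + 1))) = P at ih ⊢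
    generalize (∏ i ∈ Finset.range n, (q ^ (2 * (i + 1)) - 1)) = R at ih ⊢
    generalize (q ^ (2 * (n + 1)) - 1) = X
    have e : q ^ ((n + 1) ^ 2) = q ^ (n ^ 2) * q ^ (2 * n + 1) := by
      rw [← pow_add]; congr 1; ring
    rw [e]
    calc P * (X * q ^ (2 * n + 1)) * 2 = (P * 2) * (X * q ^ (2 * n + 1)) := by ring
      _ = _ := by rw [ih]; ring

/-- |GO_{2m+1}(q)| = 2 q^(m^2) prod_{i=1}^{m} (q^(2i) - 1) for q odd. -/
theorem result {F : Type*} [Field F] [Fintype F] {q : ℕ} (hF : Fintype.card F = q) (hodd : Odd q) (m : ℕ) : Nat.card (Cfsg.isometryGroup F (Cfsg.quadFormOdd m F)) = 2 * q ^ (m ^ 2) * ∏ i ∈ Finset.range m, (q ^ (2 * (i + 1)) - 1) := by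
  classical
  subst hF
  have hq : 1 ≤ Fintype.card F := Fintype.card_pos
  have h2 : (2 : F) ≠ 0 := by
    apply Ring.two_ne_zero
    intro hchar
    have := FiniteField.even_card_of_char_two hchar
    rcases hodd with ⟨t, ht⟩
    omega
  rw [quadFormOdd_eq]
  have he : ∀ j l, Mo m F j l
      = genM m (1 : Matrix Unit Unit F)
          ((Equiv.sumComm Unit (Fin m ⊕ Fin m)) j) ((Equiv.sumComm Unit (Fin m ⊕ Fin m)) l) := by
    rintro (j | j) (l | l) <;> rfl
  have hdet : (Mo m F + (Mo m F)ᵀ).det ≠ 0 := by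
    refine det_reindex_ne_zero _ _ _ he (det_genM_ne_zero _ _ ?_)
    rw [Matrix.det_unique]
    simp only [Matrix.add_apply, Matrix.transpose_apply, Matrix.one_apply_eq]
    intro h
    apply h2
    linear_combination h
  rw [card_isometryGroup_eq (Mo m F) hdet m (1 : Matrix Unit Unit F) _ he]
  have key := card_QFrame (F := F) (τ := Unit)
    (fun t => (1 : Matrix Unit Unit F) t t)
    (fun t t' => ((1 : Matrix Unit Unit F) + (1 : Matrix Unit Unit F)ᵀ) t t') 1
    {0, 1} (by simp) (aOdd F (Fintype.card F))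
    (fun k c _ => aOdd_rec F _ hq k c) 2
    (by
      intro V _ _ _ S _ _ hinv
      have h1 := hinv 1 (by simp)
      have e : QFrame S 0 (fun t => (1 : Matrix Unit Unit F) t t)
          (fun t t' => ((1 : Matrix Unit Unit F) + (1 : Matrix Unit Unit F)ᵀ) t t')
          ≃ {x : V // S.Q x = 1} :=
        { toFun := fun p => ⟨p.1.2.2 (), by
            have := p.2.2.2.2.1 ()
            simpa using this⟩
          invFun := fun d => ⟨(Fin.elim0, Fin.elim0, fun _ => d.1), fun i => i.elim0,
            fun i => i.elim0, fun i => i.elim0, fun t => by simpa using d.2, fun t t' => by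
              rw [S.B_self, d.2]
              simp
              norm_num⟩
          left_inv := by
            rintro ⟨⟨x, y, d⟩, h⟩
            apply Subtype.ext
            refine Prod.ext ?_ (Prod.ext ?_ rfl) <;> (funext a; exact a.elim0)
          right_inv := by
            rintro ⟨d, hd⟩
            rfl }
      rw [Nat.card_congr e, h1]
      simp [aOdd])
    m (Unit ⊕ (Fin m ⊕ Fin m) → F) (ofMatrix (Mo m F)) (ofMatrix_nondeg _ hdet)
    (by simp; ring)
    (by
      intro c hc
      rcases hc with rfl | hc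
      · have := Cfsg.Agent.S0291.result (F := F) rfl hodd m
        rw [quadFormOdd_eq] at this
        rw [show (ofMatrix (Mo m F)).Q = qf (Mo m F) from rfl, this]
        simp [aOdd]
      · rw [Set.mem_singleton_iff] at hc
        subst hc
        have := card_odd_one h2 m
        rw [quadFormOdd_eq] at this
        rw [show (ofMatrix (Mo m F)).Q = qf (Mo m F) from rfl, this]
        simp [aOdd])
  rw [key, prod_odd]

end Cfsg.Agent.S0286
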