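import Cfsg.Statements.S0292
import Cfsg.Agent.Lib.helper42.OrthoCenter
import Cfsg.Agent.Lib.helper49.Forms
import Cfsg.Agent.S0788
import Cfsg.Agent.S0286

set_option autoImplicit false
open Cfsg

namespace Cfsg.Agent.S0292

open Cfsg.Agent.Lib.helper42 Cfsg.Agent.Lib.helper49

/-- the odd-dimensional form is carried to a constant multiple of the sum of squares -/
theorem unif_odd (m : ℕ) (F : Type*) [Field F] [Fintype F] :
    ∃ c : F, c ≠ 0 ∧ Unif (Cfsg.quadFormOdd m F) (fun _ => c) := by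
  rcases Nat.even_or_odd m with he | ho
  · obtain ⟨Jm, hJm⟩ := exists_J (κ := Fin m) F (by simpa using he)
    obtain ⟨P, hP⟩ := quadFormOdd_uniformizer m (1 : F) 1 Jm (by simp) hJm
    refine ⟨1, one_ne_zero, P, fun y => ?_⟩
    rw [hP]
    unfold diagForm
    rw [Finset.mul_sum]
  · obtain ⟨Jp, hJp⟩ := exists_J (κ := Unit ⊕ Fin m) F (by
      simp only [Fintype.card_sum, Fintype.card_unit, Fintype.card_fin]
      rcases ho with ⟨k, rfl⟩
      exact ⟨k + 1, by ring⟩)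
    obtain ⟨P, hP⟩ := quadFormOdd_uniformizer m (-1 : F) Jp 1 hJp (by simp)
    refine ⟨-1, neg_ne_zero.mpr one_ne_zero, P, fun y => ?_⟩
    rw [hP]
    unfold diagForm
    rw [Finset.mul_sum]

/-- the centre of `Ω_{2m+1}(q)` is trivial (`q` odd, `m ≥ 1`) -/
theorem center_eq_bot {F : Type*} [Field F] [Fintype F] (h2 : (2 : F) ≠ 0) (m : ℕ) (hm : 1 ≤ m) :
    Subgroup.center (Cfsg.Omega F (Cfsg.quadFormOdd m F)) = ⊥ := by
  obtain ⟨c, hc, hU⟩ := unif_odd m F
  have hcard : Fintype.card (Unit ⊕ (Fin m ⊕ Fin m)) = 2 * m + 1 := by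
    simp only [Fintype.card_sum, Fintype.card_unit, Fintype.card_fin]
    omega
  rw [eq_bot_iff]
  intro z hz
  obtain ⟨lam, hlam⟩ := center_Omega_scalar h2 (Cfsg.quadFormOdd m F) c hc hU (by rw [hcard]; omega) z hz
  -- `lam ^ 2 = 1`
  have hiso := z.1.2 (Pi.single (Sum.inl ()) 1) (Pi.single (Sum.inl ()) 1)
  have hiso' : Cfsg.quadFormOdd m F
      ((((z : Cfsg.isometryGroup F (Cfsg.quadFormOdd m F)) : GL (Unit ⊕ (Fin m ⊕ Fin m)) F) :
        Matrix (Unit ⊕ (Fin m ⊕ Fin m)) (Unit ⊕ (Fin m ⊕ Fin m)) F).mulVec (Pi.single (Sum.inl ()) 1))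
      = Cfsg.quadFormOdd m F (Pi.single (Sum.inl ()) 1) := hiso
  rw [hlam, Matrix.smul_mulVec, Matrix.one_mulVec, quadFormOdd_smul] at hiso'
  have hQ1 : Cfsg.quadFormOdd m F (Pi.single (Sum.inl ()) 1) = 1 := by
    unfold Cfsg.quadFormOdd
    simp
  rw [hQ1, mul_one] at hiso'
  have hlam1 : lam = 1 := by
    have h1 : (lam - 1) * (lam + 1) = 0 := by linear_combination hiso'
    rcases mul_eq_zero.mp h1 with h | h
    · exact sub_eq_zero.mp h
    · exfalso
      have hl : lam = -1 := eq_neg_of_add_eq_zero_left h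
      have hdet := det_eq_one_of_mem_Omega (Cfsg.quadFormOdd m F) z.1 z.2
      rw [hlam, Matrix.det_smul, Matrix.det_one, mul_one, hcard, hl] at hdet
      have hodd : Odd (2 * m + 1) := ⟨m, rfl⟩
      rw [hodd.neg_one_pow] at hdet
      apply h2
      linear_combination -hdet
  rw [hlam1, one_smul] at hlam
  rw [Subgroup.mem_bot]
  exact Subtype.ext (Subtype.ext (Units.ext hlam))

/-- 2 |PΩ_{2m+1}(q)| = q^(m^2) prod_{i=1}^{m} (q^(2i) - 1), for q odd and m at least 3 (type B_m). -/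
theorem result {F : Type*} [Field F] [Fintype F] {q : ℕ} (hF : Fintype.card F = q) (hodd : Odd q) (m : ℕ) (hm : 3 ≤ m) : 2 * Nat.card (Cfsg.POmega F (Cfsg.quadFormOdd m F)) = q ^ (m ^ 2) * ∏ i ∈ Finset.range m, (q ^ (2 * (i + 1)) - 1) := by
  have hodd' : Odd (Fintype.card F) := hF ▸ hodd
  have h2 := two_ne_zero_of_odd_card hodd'
  obtain ⟨c, hc, hU⟩ := unif_odd m F
  have hnd : (QuadraticMap.polarBilin (oddForm m F)).Nondegenerate :=
    nondegenerate_of_unif h2 (oddForm m F) (fun _ => c) (fun _ => hc) hU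
  have hcard : Fintype.card (Unit ⊕ (Fin m ⊕ Fin m)) = 2 * m + 1 := by
    simp only [Fintype.card_sum, Fintype.card_unit, Fintype.card_fin]
    omega
  have hidx : (Cfsg.Omega F (Cfsg.quadFormOdd m F)).index = 4 :=
    Cfsg.Agent.S0788.index_Omega h2 (oddForm m F) hnd (by rw [hcard]; omega)
  have hGO := Cfsg.Agent.S0286.result hF hodd m
  have hmul := Subgroup.card_mul_index (Cfsg.Omega F (Cfsg.quadFormOdd m F))
  rw [hidx, hGO] at hmul
  have hcen := center_eq_bot h2 m (by omega)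
  have hquot := Subgroup.card_eq_card_quotient_mul_card_subgroup
    (Subgroup.center (Cfsg.Omega F (Cfsg.quadFormOdd m F)))
  have hc1 : Nat.card (Subgroup.center (Cfsg.Omega F (Cfsg.quadFormOdd m F))) = 1 := by
    rw [hcen, Subgroup.card_bot]
  rw [hc1, mul_one] at hquot
  have hP : Nat.card (Cfsg.POmega F (Cfsg.quadFormOdd m F))
      = Nat.card (Cfsg.Omega F (Cfsg.quadFormOdd m F)) := hquot.symm
  rw [hP]
  have e : 2 * q ^ (m ^ 2) * ∏ i ∈ Finset.range m, (q ^ (2 * (i + 1)) - 1)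
      = 2 * (q ^ (m ^ 2) * ∏ i ∈ Finset.range m, (q ^ (2 * (i + 1)) - 1)) := by ring
  rw [e] at hmul
  omega

end Cfsg.Agent.S0292
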