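import Mathlib
import Cfsg.Statements.S0727
import Cfsg.Agent.Lib.helper16.Sharp3

set_option autoImplicit false
open Cfsg

namespace Cfsg.Agent.S0727

/-- A sharply triply transitive permutation group of degree `2^f + 1` is isomorphic to the projective general linear group of degree 2 over the field with `2^f` elements. -/
theorem result {α : Type*} [Fintype α] [DecidableEq α] {f : ℕ} (hf : 1 ≤ f) (hα : Fintype.card α = 2 ^ f + 1) (G : Subgroup (Equiv.Perm α)) (h3 : MulAction.IsMultiplyPretransitive G α 3) (hsharp : ∀ x : Fin 3 ↪ α, MulAction.stabilizer G x = ⊥) : ∃ (F : Type) (_ : Field F) (_ : Fintype F), Fintype.card F = 2 ^ f ∧ Nonempty (G ≃* Matrix.ProjGenLinGroup (Fin 2) F) := by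
  classical
  have inj3 : ∀ (p0 p1 p2 : α), p0 ≠ p1 → p0 ≠ p2 → p1 ≠ p2 →
      Function.Injective ![p0, p1, p2] := by
    intro p0 p1 p2 h01 h02 h12 i j hij
    fin_cases i <;> fin_cases j <;> simp_all
  have move3 : ∀ (p0 p1 p2 q0 q1 q2 : α), p0 ≠ p1 → p0 ≠ p2 → p1 ≠ p2 → q0 ≠ q1 → q0 ≠ q2 →
      q1 ≠ q2 → ∃ k : G, k • p0 = q0 ∧ k • p1 = q1 ∧ k • p2 = q2 := by
    intro p0 p1 p2 q0 q1 q2 hp01 hp02 hp12 hq01 hq02 hq12
    obtain ⟨k, hk⟩ := h3.exists_smul_eq ⟨![p0, p1, p2], inj3 p0 p1 p2 hp01 hp02 hp12⟩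
      ⟨![q0, q1, q2], inj3 q0 q1 q2 hq01 hq02 hq12⟩
    refine ⟨k, ?_, ?_, ?_⟩
    · exact congrArg (fun e : Fin 3 ↪ α => e 0) hk
    · exact congrArg (fun e : Fin 3 ↪ α => e 1) hk
    · exact congrArg (fun e : Fin 3 ↪ α => e 2) hk
  have fix3 : ∀ (g : G) (p0 p1 p2 : α), p0 ≠ p1 → p0 ≠ p2 → p1 ≠ p2 →
      g • p0 = p0 → g • p1 = p1 → g • p2 = p2 → g = 1 := by
    intro g p0 p1 p2 h01 h02 h12 f0 f1 f2
    have hmem : g ∈ MulAction.stabilizer G
        (⟨![p0, p1, p2], inj3 p0 p1 p2 h01 h02 h12⟩ : Fin 3 ↪ α) := by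
      rw [MulAction.mem_stabilizer_iff]
      ext i
      fin_cases i
      · exact f0
      · exact f1
      · exact f2
    rw [hsharp] at hmem
    exact Subgroup.mem_bot.mp hmem
  have hpow : 1 < 2 ^ f := Nat.one_lt_two_pow (by omega)
  have hodd : Odd (Fintype.card α) := by
    rw [hα]
    exact Even.add_one (Nat.even_pow.mpr ⟨even_two, by omega⟩)
  obtain ⟨F, fF, ftF, hcard, -, hiso⟩ :=
    Cfsg.Agent.Lib.helper16.sharp3_odd_iso (G := G) move3 fix3 hodd (by omega)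
  exact ⟨F, fF, ftF, by omega, hiso⟩

end Cfsg.Agent.S0727
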