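import Cfsg.Statements.S1229
import Cfsg.Agent.Lib.helper26.CIT4
-- import your own Cfsg.Agent.* helpers here

set_option autoImplicit false
open Cfsg

namespace Cfsg.Agent.S1229

open Cfsg.Agent.Lib.helper26

section

variable {G : Type*} [Group G] [Finite G] (T : Sylow 2 G) (hnc : ¬ IsCyclic (T : Subgroup G))
  (hC : ∀ t : G, orderOf t = 2 → IsMulCommutative (Subgroup.centralizer ({t} : Set G)) ∧
      ∀ c ∈ Subgroup.centralizer ({t} : Set G), c ^ 2 = 1)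
  (hnn : ¬ (T : Subgroup G).Normal)
  (u : G) (hu : orderOf u = 2) (huH : u ∉ Subgroup.normalizer ((T : Subgroup G) : Set G))

theorem smul_mk' (H : Subgroup G) (g a : G) :
    g • (QuotientGroup.mk a : G ⧸ H) = QuotientGroup.mk (g * a) := rfl

theorem mk_eq_one_iff (H : Subgroup G) (a : G) :
    (QuotientGroup.mk a : G ⧸ H) = QuotientGroup.mk 1 ↔ a ∈ H := by
  rw [QuotientGroup.eq, mul_one, inv_mem_iff]

include hnc hC hnn hu huH

theorem M1 (x : G ⧸ Subgroup.normalizer ((T : Subgroup G) : Set G)) (hx : x ≠ QuotientGroup.mk 1) :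
    ∃ t ∈ (T : Subgroup G), x = QuotientGroup.mk (t * u) := by
  obtain ⟨a, rfl⟩ := QuotientGroup.mk_surjective x
  have ha : a ∉ Subgroup.normalizer ((T : Subgroup G) : Set G) := fun h =>
    hx ((mk_eq_one_iff _ a).2 h)
  obtain ⟨t, ht, h⟩ := CIT.T_transitive T hnc hC hnn u hu huH ha
  exact ⟨t, ht, QuotientGroup.eq.2 h⟩

omit hu huH in
theorem M2 (huH : u ∉ Subgroup.normalizer ((T : Subgroup G) : Set G))
    {t t' : G} (ht : t ∈ (T : Subgroup G)) (ht' : t' ∈ (T : Subgroup G))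
    (h : (QuotientGroup.mk (t * u) : G ⧸ Subgroup.normalizer ((T : Subgroup G) : Set G)) =
      QuotientGroup.mk (t' * u)) : t = t' := by
  have h1 := QuotientGroup.eq.1 h
  have e : (t * u)⁻¹ * (t' * u) = u⁻¹ * (t⁻¹ * t') * u := by group
  rw [e] at h1
  have h2 := CIT.T_semiregular T hnc hC hnn (mul_mem (inv_mem ht) ht') huH h1
  calc t = t * (t⁻¹ * t') := by rw [h2, mul_one]
    _ = t' := by group

/-- Part (3). -/
theorem part3 (x y : G ⧸ Subgroup.normalizer ((T : Subgroup G) : Set G))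
    (hx : x ≠ QuotientGroup.mk 1) (hy : y ≠ QuotientGroup.mk 1) :
    ∃! t : G, t ∈ T ∧ t • x = y := by
  obtain ⟨t₁, ht₁, rfl⟩ := M1 T hnc hC hnn u hu huH x hx
  obtain ⟨t₂, ht₂, rfl⟩ := M1 T hnc hC hnn u hu huH y hy
  refine ⟨t₂ * t₁⁻¹, ⟨mul_mem ht₂ (inv_mem ht₁), ?_⟩, ?_⟩
  · rw [smul_mk']
    congr 1
    group
  · rintro t' ⟨ht', h⟩
    rw [smul_mk'] at h
    have e : t' * (t₁ * u) = (t' * t₁) * u := by group
    rw [e] at h
    have h2 := M2 T hnc hC hnn u huH (mul_mem ht' ht₁) ht₂ h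
    rw [← h2]
    group

/-- Every triple of distinct points can be moved to `(H, uH, t₀uH)`. -/
theorem M3 {t₀ : G} (ht₀ : t₀ ∈ (T : Subgroup G)) (ht₀o : orderOf t₀ = 2)
    (x₁ x₂ x₃ : G ⧸ Subgroup.normalizer ((T : Subgroup G) : Set G))
    (h12 : x₁ ≠ x₂) (h13 : x₁ ≠ x₃) (h23 : x₂ ≠ x₃) :
    ∃ g : G, g • x₁ = QuotientGroup.mk 1 ∧ g • x₂ = QuotientGroup.mk u ∧
      g • x₃ = QuotientGroup.mk (t₀ * u) := by
  obtain ⟨a, rfl⟩ := QuotientGroup.mk_surjective x₁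
  have h1 : a⁻¹ • (QuotientGroup.mk a : G ⧸ Subgroup.normalizer ((T : Subgroup G) : Set G)) =
      QuotientGroup.mk 1 := by
    rw [smul_mk', inv_mul_cancel]
  have h2 : a⁻¹ • x₂ ≠ QuotientGroup.mk 1 := by
    rw [← h1]
    exact fun h => h12 (MulAction.injective _ h).symm
  have h3 : a⁻¹ • x₃ ≠ QuotientGroup.mk 1 := by
    rw [← h1]
    exact fun h => h13 (MulAction.injective _ h).symm
  obtain ⟨t, ht, hx₂⟩ := M1 T hnc hC hnn u hu huH _ h2
  have htN : t ∈ Subgroup.normalizer ((T : Subgroup G) : Set G) := CIT.le_normalizer T ht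
  -- second step
  have k1 : (t⁻¹ * a⁻¹) • (QuotientGroup.mk a : G ⧸ Subgroup.normalizer ((T : Subgroup G) : Set G)) =
      QuotientGroup.mk 1 := by
    rw [mul_smul, h1, smul_mk', mul_one, mk_eq_one_iff]
    exact inv_mem htN
  have k2 : (t⁻¹ * a⁻¹) • x₂ = QuotientGroup.mk u := by
    rw [mul_smul, hx₂, smul_mk']
    congr 1
    group
  have k3 : (t⁻¹ * a⁻¹) • x₃ ≠ QuotientGroup.mk 1 := by
    rw [← k1]
    exact fun h => h13 (MulAction.injective _ h).symm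
  have k3' : (t⁻¹ * a⁻¹) • x₃ ≠ QuotientGroup.mk u := by
    rw [← k2]
    exact fun h => h23 (MulAction.injective _ h).symm
  obtain ⟨t₃, ht₃, hx₃⟩ := M1 T hnc hC hnn u hu huH _ k3
  have ht₃1 : t₃ ≠ 1 := by
    rintro rfl
    rw [one_mul] at hx₃
    exact k3' hx₃
  have ht₃o : orderOf t₃ = 2 := CIT.orderOf_of_mem T hnc hC ht₃ ht₃1
  obtain ⟨i, -, hd, hconj⟩ := CIT.exists_D_conj T hnc hC hnn u hu huH ht₃o ht₃ ht₀o ht₀
  have hdH : i * u ∈ Subgroup.normalizer ((T : Subgroup G) : Set G) := hd.1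
  have hdu : u⁻¹ * (i * u) * u ∈ Subgroup.normalizer ((T : Subgroup G) : Set G) :=
    (SE.mem_map_conj_iff _ u (i * u)).1 hd.2
  refine ⟨(i * u) * (t⁻¹ * a⁻¹), ?_, ?_, ?_⟩
  · rw [mul_smul, k1, smul_mk', mul_one, mk_eq_one_iff]
    exact hdH
  · rw [mul_smul, k2, smul_mk', QuotientGroup.eq]
    have e : (i * u * u)⁻¹ * u = (u⁻¹ * (i * u) * u)⁻¹ := by group
    rw [e]
    exact inv_mem hdu
  · rw [mul_smul, hx₃, smul_mk', QuotientGroup.eq]
    have e : (i * u * (t₃ * u))⁻¹ * (t₀ * u) =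
        (u⁻¹ * (i * u) * u)⁻¹ * (u⁻¹ * (((i * u) * t₃ * (i * u)⁻¹)⁻¹ * t₀) * u) := by group
    rw [e, hconj, inv_mul_cancel, mul_one, inv_mul_cancel, mul_one]
    exact inv_mem hdu

/-- Only the identity fixes `H`, `uH` and `t₀uH`. -/
theorem M4 {t₀ : G} (ht₀ : t₀ ∈ (T : Subgroup G)) (ht₀o : orderOf t₀ = 2) (g : G)
    (h1 : g • (QuotientGroup.mk 1 : G ⧸ Subgroup.normalizer ((T : Subgroup G) : Set G)) =
      QuotientGroup.mk 1)
    (h2 : g • (QuotientGroup.mk u : G ⧸ Subgroup.normalizer ((T : Subgroup G) : Set G)) =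
      QuotientGroup.mk u)
    (h3 : g • (QuotientGroup.mk (t₀ * u) : G ⧸ Subgroup.normalizer ((T : Subgroup G) : Set G)) =
      QuotientGroup.mk (t₀ * u)) : g = 1 := by
  rw [smul_mk', mul_one, mk_eq_one_iff] at h1
  rw [smul_mk', QuotientGroup.eq] at h2
  have hgu : u⁻¹ * g * u ∈ Subgroup.normalizer ((T : Subgroup G) : Set G) := by
    have e : u⁻¹ * g * u = ((g * u)⁻¹ * u)⁻¹ := by group
    rw [e]
    exact inv_mem h2
  have hgD : g ∈ CIT.Dsub T u := Subgroup.mem_inf.2 ⟨h1, (SE.mem_map_conj_iff _ u g).2 hgu⟩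
  rw [smul_mk'] at h3
  have hconjT : g * t₀ * g⁻¹ ∈ (T : Subgroup G) := (Subgroup.mem_normalizer_iff.1 h1 t₀).1 ht₀
  have h4 : (QuotientGroup.mk ((g * t₀ * g⁻¹) * u) :
      G ⧸ Subgroup.normalizer ((T : Subgroup G) : Set G)) = QuotientGroup.mk (t₀ * u) := by
    rw [← h3, QuotientGroup.eq]
    have e : (g * t₀ * g⁻¹ * u)⁻¹ * (g * (t₀ * u)) = u⁻¹ * g * u := by group
    rw [e]
    exact hgu
  have h5 := M2 T hnc hC hnn u huH hconjT ht₀ h4
  have hcomm : g * t₀ = t₀ * g := by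
    calc g * t₀ = (g * t₀ * g⁻¹) * g := by group
      _ = t₀ * g := by rw [h5]
  have hgT : g ∈ (T : Subgroup G) := CIT.mem_of_commute T hnc hC ht₀o ht₀ hcomm
  exact CIT.eq_one_of_mem_D_of_mem_T T hnc hC hnn u hu huH hgD hgT

end

/-- Let G be a finite group with a Sylow 2-subgroup T that is neither cyclic nor normal, such that the centralizer of every involution is an elementary abelian 2-group; put H = N_G(T) and X = G/H. Then G is triply transitive on X, an element fixing three distinct points of X is the identity, and T acts regularly on X minus the point H. -/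
theorem result {G : Type*} [Group G] [Finite G] (T : Sylow 2 G) (hnc : ¬ IsCyclic (T : Subgroup G)) (hnn : ¬ (T : Subgroup G).Normal) (hC : ∀ t : G, orderOf t = 2 → IsMulCommutative (Subgroup.centralizer ({t} : Set G)) ∧ ∀ c ∈ Subgroup.centralizer ({t} : Set G), c ^ 2 = 1) : (∀ x₁ x₂ x₃ y₁ y₂ y₃ : G ⧸ Subgroup.normalizer ((T : Subgroup G) : Set G), x₁ ≠ x₂ → x₁ ≠ x₃ → x₂ ≠ x₃ → y₁ ≠ y₂ → y₁ ≠ y₃ → y₂ ≠ y₃ → ∃ g : G, g • x₁ = y₁ ∧ g • x₂ = y₂ ∧ g • x₃ = y₃) ∧ (∀ g : G, ∀ x₁ x₂ x₃ : G ⧸ Subgroup.normalizer ((T : Subgroup G) : Set G), x₁ ≠ x₂ → x₁ ≠ x₃ → x₂ ≠ x₃ → g • x₁ = x₁ → g • x₂ = x₂ → g • x₃ = x₃ → g = 1) ∧ (∀ x y : G ⧸ Subgroup.normalizer ((T : Subgroup G) : Set G), x ≠ QuotientGroup.mk 1 → y ≠ QuotientGroup.mk 1 → ∃! t : G, t ∈ T ∧ t • x = y) := by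
  obtain ⟨u, hu, huH⟩ := SE.exists_involution_not_mem (CIT.isStronglyEmbedded_normalizer T hnc hC hnn)
  obtain ⟨t₀, ht₀, ht₀o, -⟩ := CIT.exists_central_involution T hnc
  refine ⟨?_, ?_, ?_⟩
  · intro x₁ x₂ x₃ y₁ y₂ y₃ hx12 hx13 hx23 hy12 hy13 hy23
    obtain ⟨a, ha1, ha2, ha3⟩ := M3 T hnc hC hnn u hu huH ht₀ ht₀o x₁ x₂ x₃ hx12 hx13 hx23
    obtain ⟨b, hb1, hb2, hb3⟩ := M3 T hnc hC hnn u hu huH ht₀ ht₀o y₁ y₂ y₃ hy12 hy13 hy23
    refine ⟨b⁻¹ * a, ?_, ?_, ?_⟩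
    · rw [mul_smul, ha1, ← hb1, inv_smul_smul]
    · rw [mul_smul, ha2, ← hb2, inv_smul_smul]
    · rw [mul_smul, ha3, ← hb3, inv_smul_smul]
  · intro g x₁ x₂ x₃ hx12 hx13 hx23 h1 h2 h3
    obtain ⟨a, ha1, ha2, ha3⟩ := M3 T hnc hC hnn u hu huH ht₀ ht₀o x₁ x₂ x₃ hx12 hx13 hx23
    have key : a * g * a⁻¹ = 1 := by
      apply M4 T hnc hC hnn u hu huH ht₀ ht₀o
      · rw [← ha1, mul_smul, mul_smul, inv_smul_smul, h1]
      · rw [← ha2, mul_smul, mul_smul, inv_smul_smul, h2]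
      · rw [← ha3, mul_smul, mul_smul, inv_smul_smul, h3]
    calc g = a⁻¹ * (a * g * a⁻¹) * a := by group
      _ = 1 := by rw [key]; group
  · intro x y hx hy
    exact part3 T hnc hC hnn u hu huH x y hx hy

end Cfsg.Agent.S1229
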