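import Mathlib
import Cfsg.Statements.S1230
import Cfsg.Agent.S1229
import Cfsg.Agent.S0727

set_option autoImplicit false
open Cfsg

namespace Cfsg.Agent.S1230

/-- `PGL₂(F) ≃* PSL₂(F)` for a finite field with `2^f` elements (`f ≥ 1`). -/
lemma pgl_equiv_psl (F : Type) [Field F] [Fintype F] (f : ℕ) (hf : 1 ≤ f)
    (hF : Fintype.card F = 2 ^ f) :
    Nonempty (Matrix.ProjGenLinGroup (Fin 2) F ≃* Matrix.ProjectiveSpecialLinearGroup (Fin 2) F) := by
  have hR : ∀ r : Fˣ, ∃ k : Fˣ, k ^ Fintype.card (Fin 2) = r := by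
    intro r
    refine ⟨r ^ (2 ^ (f - 1)), ?_⟩
    rw [Fintype.card_fin, ← pow_mul]
    have h2 : 2 ^ (f - 1) * 2 = 2 ^ f := by
      rw [← pow_succ]; congr 1; omega
    rw [h2, ← hF]
    apply Units.ext
    rw [Units.val_pow_eq_pow_val]
    exact FiniteField.pow_card (r : F)
  exact ⟨(MulEquiv.ofBijective Matrix.ProjectiveSpecialLinearGroup.toPGL
    ⟨Matrix.ProjectiveSpecialLinearGroup.toPGL_injective,
      Matrix.ProjectiveSpecialLinearGroup.toPGL_surj_of_roots hR⟩).symm⟩

/-- Let G be a finite group with a Sylow 2-subgroup T that is neither cyclic nor normal, such that the centralizer of every involution is an elementary abelian 2-group. Then G ≅ PSL(2,F) for a finite field F with |F| = |T|. -/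
theorem result {G : Type*} [Group G] [Finite G] (T : Sylow 2 G) (hnc : ¬ IsCyclic (T : Subgroup G)) (hnn : ¬ (T : Subgroup G).Normal) (hC : ∀ t : G, orderOf t = 2 → IsMulCommutative (Subgroup.centralizer ({t} : Set G)) ∧ ∀ c ∈ Subgroup.centralizer ({t} : Set G), c ^ 2 = 1) : ∃ (F : Type) (_ : Field F) (_ : Fintype F), Fintype.card F = Nat.card T ∧ Nonempty (G ≃* Matrix.ProjectiveSpecialLinearGroup (Fin 2) F) := by
  classical
  obtain ⟨h3t, hsh, hreg⟩ := Cfsg.Agent.S1229.result T hnc hnn hC
  set H : Subgroup G := Subgroup.normalizer ((T : Subgroup G) : Set G) with hH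
  let X := G ⧸ H
  let _ : Fintype X := Fintype.ofFinite X
  -- |T| = 2^f, f ≥ 1
  obtain ⟨f, hf⟩ := (IsPGroup.iff_card (p := 2) (G := (T : Subgroup G))).mp T.isPGroup'
  have hf1 : 1 ≤ f := by
    by_contra hlt
    have hf0 : f = 0 := by omega
    rw [hf0, pow_zero] at hf
    have : Subsingleton (T : Subgroup G) := (Nat.card_eq_one_iff_unique.mp hf).1
    exact hnc inferInstance
  -- a point other than the base point
  have hHtop : H ≠ ⊤ := by
    intro htop
    apply hnn
    exact Subgroup.normalizer_eq_top_iff.mp htop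
  obtain ⟨g₀, hg₀⟩ : ∃ g₀ : G, g₀ ∉ H := by
    by_contra hall
    push Not at hall
    exact hHtop (eq_top_iff.mpr fun g _ => hall g)
  have hx₀ : (QuotientGroup.mk g₀ : X) ≠ QuotientGroup.mk 1 := by
    intro h
    rw [QuotientGroup.eq] at h
    apply hg₀
    have := H.inv_mem h
    simpa using this
  have hTH : (T : Subgroup G) ≤ H := Subgroup.le_normalizer
  have hfix : ∀ t : G, t ∈ H → t • (QuotientGroup.mk 1 : X) = QuotientGroup.mk 1 := by
    intro t ht
    rw [MulAction.Quotient.smul_mk, QuotientGroup.eq]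
    simpa using H.inv_mem ht
  -- |X| = |T| + 1
  have hcardX : Fintype.card X = 2 ^ f + 1 := by
    have hbij : Function.Bijective
        (fun t : (T : Subgroup G) => (⟨(t : G) • (QuotientGroup.mk g₀ : X), by
          intro h
          apply hx₀
          have h' := congrArg (fun x => ((t : G)⁻¹) • x) h
          simp only [inv_smul_smul] at h'
          rw [h', hfix _ (H.inv_mem (hTH t.2))]⟩ : {x : X // x ≠ QuotientGroup.mk 1})) := by
      constructor
      · intro t₁ t₂ h
        have h' : (t₁ : G) • (QuotientGroup.mk g₀ : X) = (t₂ : G) • (QuotientGroup.mk g₀ : X) :=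
          congrArg Subtype.val h
        obtain ⟨t, _, huniq⟩ := hreg (QuotientGroup.mk g₀) ((t₂ : G) • (QuotientGroup.mk g₀ : X)) hx₀
          (by
            intro h
            apply hx₀
            have h'' := congrArg (fun x => ((t₂ : G)⁻¹) • x) h
            simp only [inv_smul_smul] at h''
            rw [h'', hfix _ (H.inv_mem (hTH t₂.2))])
        have e1 := huniq t₁ ⟨t₁.2, h'⟩
        have e2 := huniq t₂ ⟨t₂.2, rfl⟩
        exact Subtype.ext (e1.trans e2.symm)
      · rintro ⟨y, hy⟩
        obtain ⟨t, ⟨htT, hty⟩, _⟩ := hreg (QuotientGroup.mk g₀) y hx₀ hy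
        exact ⟨⟨t, htT⟩, Subtype.ext hty⟩
    have hc1 : Nat.card {x : X // x ≠ QuotientGroup.mk 1} = 2 ^ f := by
      rw [← hf]
      exact (Nat.card_eq_of_bijective _ hbij).symm
    have hc2 : Fintype.card {x : X // x ≠ QuotientGroup.mk 1} = Fintype.card X - 1 := by
      rw [Fintype.card_subtype_compl, Fintype.card_subtype_eq]
    rw [Nat.card_eq_fintype_card, hc2] at hc1
    have : 0 < Fintype.card X := Fintype.card_pos_iff.mpr ⟨QuotientGroup.mk 1⟩
    omega
  -- three distinct points
  have hthree : ∃ a b c : X, a ≠ b ∧ a ≠ c ∧ b ≠ c := by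
    have h3 : 2 < Fintype.card X := by
      rw [hcardX]
      have : 2 ≤ 2 ^ f := by
        calc 2 = 2 ^ 1 := by norm_num
          _ ≤ 2 ^ f := Nat.pow_le_pow_right (by norm_num) hf1
      omega
    exact Fintype.two_lt_card_iff.mp h3
  -- the permutation representation
  let φ : G →* Equiv.Perm X := MulAction.toPermHom G X
  have hφ : ∀ (g : G) (x : X), φ g x = g • x := fun g x => rfl
  have hinj : Function.Injective φ := by
    rw [injective_iff_map_eq_one]
    intro g hg
    obtain ⟨a, b, c, hab, hac, hbc⟩ := hthree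
    have hgx : ∀ x : X, g • x = x := fun x => by
      rw [← hφ, hg]; rfl
    exact hsh g a b c hab hac hbc (hgx a) (hgx b) (hgx c)
  let G' : Subgroup (Equiv.Perm X) := φ.range
  have h3 : MulAction.IsMultiplyPretransitive G' X 3 := by
    refine ⟨fun x y => ?_⟩
    obtain ⟨g, h0, h1, h2⟩ := h3t (x 0) (x 1) (x 2) (y 0) (y 1) (y 2)
      (fun h => by simpa using x.injective h) (fun h => by simpa using x.injective h)
      (fun h => by simpa using x.injective h)
      (fun h => by simpa using y.injective h) (fun h => by simpa using y.injective h)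
      (fun h => by simpa using y.injective h)
    refine ⟨⟨φ g, g, rfl⟩, ?_⟩
    ext i
    have : ((⟨φ g, g, rfl⟩ : G') • x) i = g • x i := rfl
    rw [this]
    fin_cases i
    · exact h0
    · exact h1
    · exact h2
  have hsharp : ∀ x : Fin 3 ↪ X, MulAction.stabilizer G' x = ⊥ := by
    intro x
    rw [eq_bot_iff]
    rintro ⟨_, g, rfl⟩ hg
    rw [MulAction.mem_stabilizer_iff] at hg
    have hgi : ∀ i, g • x i = x i := fun i => by
      have := congrArg (fun e : Fin 3 ↪ X => e i) hg
      exact this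
    have hg1 : g = 1 := hsh g (x 0) (x 1) (x 2)
      (fun h => by simpa using x.injective h) (fun h => by simpa using x.injective h)
      (fun h => by simpa using x.injective h) (hgi 0) (hgi 1) (hgi 2)
    subst hg1
    rw [Subgroup.mem_bot]
    apply Subtype.ext
    exact map_one φ
  obtain ⟨F, instF, instFin, hFcard, ⟨e⟩⟩ :=
    Cfsg.Agent.S0727.result (α := X) hf1 hcardX G' h3 hsharp
  obtain ⟨e2⟩ := pgl_equiv_psl F f hf1 hFcard
  refine ⟨F, instF, instFin, ?_, ⟨?_⟩⟩
  · rw [hFcard, hf]
  · exact ((MonoidHom.ofInjective hinj).trans e).trans e2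

end Cfsg.Agent.S1230
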