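import Mathlib
import Cfsg.Statements.S0739
import Cfsg.Agent.Lib.helper16.ZassOddG
-- import your own Cfsg.Agent.* helpers here

set_option autoImplicit false
set_option linter.style.haveILetI false
open Cfsg

namespace Cfsg.Agent.S0739

open Cfsg.Agent.Lib.helper19 Cfsg.Agent.Lib.helper16.ZassOdd

/-- In a finite Zassenhaus group whose two-point stabiliser `H = G_{a,b}` has odd order `d`, and which has no normal `q`-complement for any prime `q ∣ d`, `H` is cyclic, `C_G(H) = H`, and every element swapping `a` and `b` inverts each element of `H`. -/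
theorem result {G Ω : Type*} [Group G] [Finite G] [MulAction G Ω] [Fintype Ω] (hZ : Cfsg.IsZassenhausGroup G Ω) {a b : Ω} (hab : a ≠ b) (hodd : Odd (Nat.card ↥(MulAction.stabilizer G a ⊓ MulAction.stabilizer G b))) (hnil : ∀ q : ℕ, q.Prime → q ∣ Nat.card ↥(MulAction.stabilizer G a ⊓ MulAction.stabilizer G b) → ¬ ∃ N : Subgroup G, N.Normal ∧ N.index = q ^ (Nat.card G).factorization q) : IsCyclic ↥(MulAction.stabilizer G a ⊓ MulAction.stabilizer G b) ∧ Subgroup.centralizer ((MulAction.stabilizer G a ⊓ MulAction.stabilizer G b : Subgroup G) : Set G) = MulAction.stabilizer G a ⊓ MulAction.stabilizer G b ∧ ∀ s : G, s • a = b → s • b = a → ∀ h ∈ MulAction.stabilizer G a ⊓ MulAction.stabilizer G b, s * h * s⁻¹ = h⁻¹ := by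
  classical
  have hZG : IsZGroup ↥(MulAction.stabilizer G a ⊓ MulAction.stabilizer G b) :=
    zass_stab_isZGroup hZ hab hodd
  obtain ⟨t, ht2, hta, htb⟩ := zass_exists_swap_involution hZ hab hodd
  set E : Subgroup G := MulAction.stabilizer G a ⊓ MulAction.stabilizer G b with hE
  have memE : ∀ x : G, x ∈ E ↔ x • a = a ∧ x • b = b := fun x => mem_two_stab x
  have htinv : t⁻¹ = t := inv_eq_of_mul_eq_one_left ht2
  have htE : ∀ x ∈ E, t * x * t⁻¹ ∈ E := by
    intro x hx
    rw [memE] at hx ⊢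
    rw [htinv, mul_smul, mul_smul, mul_smul, mul_smul, hta, htb, hx.1, hx.2, hta, htb]
    exact ⟨rfl, rfl⟩
  have hinvol : ∀ x : G, t * (t * x * t⁻¹) * t⁻¹ = x := by
    intro x
    rw [htinv]
    calc t * (t * x * t) * t = (t * t) * x * (t * t) := by group
      _ = x := by rw [ht2, one_mul, mul_one]
  let φ : ↥E ≃* ↥E :=
    { toFun := fun x => ⟨t * x * t⁻¹, htE x x.2⟩
      invFun := fun x => ⟨t * x * t⁻¹, htE x x.2⟩
      left_inv := fun x => Subtype.ext (hinvol x)
      right_inv := fun x => Subtype.ext (hinvol x)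
      map_mul' := by
        intro x y
        apply Subtype.ext
        simp only [Subgroup.coe_mul]
        group }
  have hφ : ∀ x : ↥E, ((φ x : ↥E) : G) = t * x * t⁻¹ := fun _ => rfl
  have hφφ : ∀ x, φ (φ x) = x := fun x => Subtype.ext (hinvol x)
  have hS : ∀ q : ℕ, q.Prime → q ∣ Nat.card ↥E →
      ∃ Q : Subgroup ↥E, Nat.card Q = q ^ (Nat.card ↥E).factorization q ∧
        ((∃ x ∈ Subgroup.normalizer (Q : Set ↥E), ∃ y ∈ Q, x * y * x⁻¹ ≠ y) ∨
        (∃ x : ↥E, (∀ y, y ∈ Q ↔ x * φ y * x⁻¹ ∈ Q) ∧ ∃ y ∈ Q, x * φ y * x⁻¹ ≠ y)) := by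
    intro q hq hqd
    have : Fact q.Prime := ⟨hq⟩
    have hq2 : q ≠ 2 := by
      rintro rfl
      exact (Nat.not_even_iff_odd.mpr hodd) (even_iff_two_dvd.mpr hqd)
    let P : Sylow q ↥E := default
    have hQc : Nat.card (P : Subgroup ↥E) = q ^ (Nat.card ↥E).factorization q :=
      P.card_eq_multiplicity
    refine ⟨(P : Subgroup ↥E), hQc, ?_⟩
    set Q : Subgroup ↥E := (P : Subgroup ↥E) with hQ
    have hfac := zass_factorization_eq hZ hab q hq hq2 hqd
    have hQ'c : Nat.card (Q.map E.subtype) = q ^ (Nat.card G).factorization q := by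
      rw [Subgroup.card_map_of_injective E.subtype_injective, hQc, hfac]
    let P' : Sylow q G := Sylow.ofCard (Q.map E.subtype) hQ'c
    have hP' : (P' : Subgroup G) = Q.map E.subtype := Sylow.coe_ofCard _ hQ'c
    have hmemQ : ∀ z : ↥E, (z : G) ∈ Q.map E.subtype ↔ z ∈ Q := by
      intro z
      constructor
      · rintro ⟨w, hw, hwz⟩
        have : w = z := Subtype.ext hwz
        rw [← this]; exact hw
      · intro hz
        exact ⟨z, hz, rfl⟩
    have hnot : ¬ (Subgroup.normalizer ((P' : Subgroup G) : Set G)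
        ≤ Subgroup.centralizer ((P' : Subgroup G) : Set G)) := by
      intro hle
      apply hnil q hq hqd
      refine ⟨(MonoidHom.transferSylow P' hle).ker, MonoidHom.normal_ker _, ?_⟩
      rw [(MonoidHom.ker_transferSylow_isComplement' P' hle).symm.index_eq_card]
      exact P'.card_eq_multiplicity
    obtain ⟨g, hgN, hgC⟩ := SetLike.not_le_iff_exists.mp hnot
    rw [hP'] at hgN hgC
    rw [Subgroup.mem_centralizer_iff] at hgC
    push Not at hgC
    obtain ⟨y, hy, hne⟩ := hgC
    obtain ⟨y₀, hy₀, rfl⟩ := hy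
    have hy1 : ((E.subtype y₀ : G)) ≠ 1 := by
      intro h
      apply hne
      rw [h, one_mul, mul_one]
    have hyE := (memE _).mp y₀.2
    have hgn := Subgroup.mem_normalizer_iff.mp hgN
    have hgy : g * (E.subtype y₀) * g⁻¹ ∈ Q.map E.subtype :=
      (hgn _).mp ⟨y₀, hy₀, rfl⟩
    obtain ⟨y₁, hy₁, hy₁e⟩ := hgy
    have hy₁E := (memE _).mp y₁.2
    have hy₁e' : g * (y₀ : G) * g⁻¹ = (y₁ : G) := hy₁e.symm
    rcases zass_conj_perm hZ hab hy1 hyE.1 hyE.2 (by rw [Subgroup.coe_subtype, hy₁e']; exact hy₁E.1)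
      (by rw [Subgroup.coe_subtype, hy₁e']; exact hy₁E.2) with ⟨hga, hgb⟩ | ⟨hga, hgb⟩
    · left
      have hgE : g ∈ E := (memE g).mpr ⟨hga, hgb⟩
      refine ⟨⟨g, hgE⟩, ?_, y₀, hy₀, ?_⟩
      · rw [Subgroup.mem_normalizer_iff]
        intro z
        rw [← hmemQ z, ← hmemQ, hgn]
        rfl
      · intro h
        apply hne
        have h1 := congrArg Subtype.val h
        simp only [Subgroup.coe_mul, Subgroup.coe_inv] at h1
        rw [Subgroup.coe_subtype]
        calc (y₀ : G) * g = (g * (y₀ : G) * g⁻¹) * g := by rw [h1]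
          _ = g * (y₀ : G) := by group
    · right
      have hgE : g * t⁻¹ ∈ E := by
        rw [memE, htinv, mul_smul, mul_smul, hta, htb, hga, hgb]
        exact ⟨rfl, rfl⟩
      have hconj : ∀ z : ↥E, (((⟨g * t⁻¹, hgE⟩ : ↥E) * φ z * (⟨g * t⁻¹, hgE⟩ : ↥E)⁻¹ : ↥E) : G)
          = g * (z : G) * g⁻¹ := by
        intro z
        simp only [Subgroup.coe_mul, Subgroup.coe_inv, hφ]
        group
      refine ⟨⟨g * t⁻¹, hgE⟩, ?_, y₀, hy₀, ?_⟩
      · intro z
        rw [← hmemQ z, ← hmemQ, hgn, hconj]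
      · intro h
        apply hne
        have h1 := congrArg Subtype.val h
        rw [hconj] at h1
        rw [Subgroup.coe_subtype]
        calc (y₀ : G) * g = (g * (y₀ : G) * g⁻¹) * g := by rw [h1]
          _ = g * (y₀ : G) := by group
  have h1 := mul_map_mem_commutator hodd φ hφφ hS
  obtain ⟨hcomm, hinv⟩ := comm_of_mul_map_mem_commutator hodd φ h1
  have hcommG : ∀ x ∈ E, ∀ y ∈ E, x * y = y * x := by
    intro x hx y hy
    exact congrArg Subtype.val (hcomm ⟨x, hx⟩ ⟨y, hy⟩)
  have hinvG : ∀ x ∈ E, t * x * t⁻¹ = x⁻¹ := by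
    intro x hx
    have := congrArg Subtype.val (hinv ⟨x, hx⟩)
    rw [hφ] at this
    simpa using this
  have hswap : ∀ s : G, s • a = b → s • b = a → ∀ h ∈ E, s * h * s⁻¹ = h⁻¹ := by
    intro s hsa hsb h hh
    have hsE : s * t⁻¹ ∈ E := by
      rw [memE, htinv, mul_smul, mul_smul, hta, htb, hsa, hsb]
      exact ⟨rfl, rfl⟩
    have h2 : s * h * s⁻¹ = (s * t⁻¹) * (t * h * t⁻¹) * (s * t⁻¹)⁻¹ := by group
    rw [h2, hinvG h hh, hcommG _ hsE _ (E.inv_mem hh)]
    group
  refine ⟨?_, ?_, hswap⟩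
  · have : Group.IsNilpotent ↥E := by
      letI : CommGroup ↥E := { (inferInstance : Group ↥E) with mul_comm := hcomm }
      exact CommGroup.isNilpotent
    infer_instance
  · apply le_antisymm
    · intro g hg
      rw [Subgroup.mem_centralizer_iff] at hg
      obtain ⟨x, hx1, hxa, hxb⟩ := zass_exists_fix_two hZ hab
      have hxE : x ∈ E := (memE x).mpr ⟨hxa, hxb⟩
      have hgx : g * x * g⁻¹ = x := by
        rw [← hg x hxE]; group
      rcases zass_conj_perm hZ hab hx1 hxa hxb (by rw [hgx]; exact hxa) (by rw [hgx]; exact hxb)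
        with ⟨hga, hgb⟩ | ⟨hga, hgb⟩
      · exact (memE g).mpr ⟨hga, hgb⟩
      · exfalso
        have h3 := hswap g hga hgb x hxE
        rw [hgx] at h3
        -- x = x⁻¹ in an odd order group
        have h4 : x * x = 1 := by
          calc x * x = x * x⁻¹ := by rw [← h3]
            _ = 1 := mul_inv_cancel x
        obtain ⟨r, hr⟩ := hodd
        have h5 : (⟨x, hxE⟩ : ↥E) ^ (2 * r + 1) = 1 := by rw [← hr]; exact pow_card_eq_one'
        have h6 : x ^ (2 * r + 1) = 1 := congrArg Subtype.val h5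
        rw [pow_succ, pow_mul, pow_two, h4, one_pow, one_mul] at h6
        exact hx1 h6
    · intro g hg
      rw [Subgroup.mem_centralizer_iff]
      intro h hh
      exact hcommG h hh g hg

end Cfsg.Agent.S0739
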