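import Mathlib
import Cfsg.Statements.S0882
import Cfsg.Agent.Lib.helper16.ZassSimple
-- import your own Cfsg.Agent.* helpers here

set_option autoImplicit false
set_option linter.style.haveILetI false
open Cfsg

namespace Cfsg.Agent.S0882

open Cfsg.Agent.Lib.helper19 Cfsg.Agent.Lib.helper16.ZassOdd Cfsg.Agent.Lib.helper16.ZassSimple

/-- Let G be a finite simple Zassenhaus group on Ω with n = h + 1 points whose two-point stabilizer E has odd order e with 2e < h - 1. Then any two involutions of G are conjugate, and the number of involutions is e * (h + 1) if h is even and e * h if h is odd. -/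
theorem result {G Ω : Type*} [Group G] [Finite G] [MulAction G Ω] [Fintype Ω] (hZ : Cfsg.IsZassenhausGroup G Ω) {a b : Ω} (hab : a ≠ b) [IsSimpleGroup G] (h e : ℕ) (hh : Fintype.card Ω = h + 1) (he : Nat.card ↥(MulAction.stabilizer G a ⊓ MulAction.stabilizer G b : Subgroup G) = e) (hodd : Odd e) (hlt : 2 * e < h - 1) : (∀ x y : G, orderOf x = 2 → orderOf y = 2 → IsConj x y) ∧ Nat.card {x : G // orderOf x = 2} = (if Even h then e * (h + 1) else e * h) := by
  classical
  have : Fintype G := Fintype.ofFinite G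
  have hcardall : ∀ c d : Ω, c ≠ d →
      Nat.card ↥(MulAction.stabilizer G c ⊓ MulAction.stabilizer G d) = e :=
    fun c d hcd => by rw [card_two_stab_eq hZ hab hcd, he]
  have hoddall : ∀ c d : Ω, c ≠ d →
      Odd (Nat.card ↥(MulAction.stabilizer G c ⊓ MulAction.stabilizer G d)) :=
    fun c d hcd => by rw [hcardall c d hcd]; exact hodd
  have hn3 : 3 ≤ Fintype.card Ω := by
    have := zass_three_le_card hZ (Ω := Ω)
    rwa [Nat.card_eq_fintype_card] at this
  have hsq : ∀ x : G, orderOf x = 2 → x * x = 1 := by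
    intro x hx
    have := pow_orderOf_eq_one x
    rwa [hx, pow_two] at this
  -- involutions moving `c` to `d`
  have hK2 : ∀ c d : Ω, c ≠ d →
      (Finset.univ.filter (fun x : G => orderOf x = 2 ∧ x • c = d)).card = e := by
    intro c d hcd
    rw [← hcardall c d hcd, ← card_swaps hZ hcd, natCard_subtype_eq_card_filter]
    congr 1
    ext x
    simp only [Finset.mem_filter, Finset.mem_univ, true_and]
    constructor
    · rintro ⟨hx, hxc⟩
      refine ⟨hxc, ?_⟩
      rw [← hxc, ← mul_smul, hsq x hx, one_smul]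
    · rintro ⟨hxc, hxd⟩
      exact ⟨swap_orderOf hZ hcd (hoddall c d hcd) hxc hxd, hxc⟩
  refine ⟨?_, ?_⟩
  · -- conjugacy
    have hmove : ∀ x : G, orderOf x = 2 →
        ∃ g : G, (g * x * g⁻¹) • a = b ∧ (g * x * g⁻¹) • b = a := by
      intro x hx
      obtain ⟨c, hc⟩ : ∃ c : Ω, x • c ≠ c := by
        by_contra hcon
        push Not at hcon
        obtain ⟨p, q, hpq⟩ := Fintype.exists_pair_of_one_lt_card (by omega : 1 < Fintype.card Ω)
        exact hpq (invol_fix_unique hoddall hx (hcon p) (hcon q))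
      obtain ⟨g, hgc, hgd⟩ := zass_two_trans hZ (Ne.symm hc) hab
      refine ⟨g, ?_, ?_⟩
      · rw [mul_smul, mul_smul, ← hgc, inv_smul_smul, hgd]
      · rw [mul_smul, mul_smul, ← hgd, inv_smul_smul, ← mul_smul x x, hsq x hx, one_smul, hgc]
    intro x y hx hy
    obtain ⟨g, hga, hgb⟩ := hmove x hx
    obtain ⟨k, hka, hkb⟩ := hmove y hy
    obtain ⟨x', hx'⟩ : ∃ x' : G, x' = g * x * g⁻¹ := ⟨_, rfl⟩
    obtain ⟨y', hy'⟩ : ∃ y' : G, y' = k * y * k⁻¹ := ⟨_, rfl⟩
    rw [← hx'] at hga hgb
    rw [← hy'] at hka hkb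
    have hE := simple_struct hZ hab (hoddall a b hab)
    have hx'inv : x'⁻¹ • a = b ∧ x'⁻¹ • b = a :=
      ⟨by rw [← hgb, inv_smul_smul], by rw [← hga, inv_smul_smul]⟩
    obtain ⟨z, hz'⟩ : ∃ z : G, z = x'⁻¹ * y' := ⟨_, rfl⟩
    have hz : z ∈ MulAction.stabilizer G a ⊓ MulAction.stabilizer G b := by
      rw [hz', mem_two_stab, mul_smul, mul_smul, hka, hkb]
      exact ⟨hx'inv.2, hx'inv.1⟩
    obtain ⟨r, hr⟩ := hodd
    have hzpow : z ^ (2 * r + 1) = 1 := by
      have : (⟨z, hz⟩ : ↥(MulAction.stabilizer G a ⊓ MulAction.stabilizer G b)) ^ (2 * r + 1)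
          = 1 := by rw [← hr, ← he]; exact pow_card_eq_one'
      exact congrArg Subtype.val this
    obtain ⟨w, hw⟩ : ∃ w : G, w = z ^ r := ⟨_, rfl⟩
    have hwE : w ∈ MulAction.stabilizer G a ⊓ MulAction.stabilizer G b := by
      rw [hw]; exact Subgroup.pow_mem _ hz r
    have h1 := hE.2.2 x'⁻¹ hx'inv.1 hx'inv.2 w hwE
    rw [inv_inv] at h1
    have hww : w⁻¹ * w⁻¹ = z := by
      have h3 : w * w * z = 1 := by
        rw [hw, ← pow_add, ← pow_succ, ← two_mul]; exact hzpow
      calc w⁻¹ * w⁻¹ = w⁻¹ * w⁻¹ * (w * w * z) := by rw [h3, mul_one]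
        _ = z := by group
    have h2 : w * x' * w⁻¹ = y' := by
      calc w * x' * w⁻¹ = x' * (x'⁻¹ * w * x') * w⁻¹ := by group
        _ = x' * (w⁻¹ * w⁻¹) := by rw [h1]; group
        _ = x' * z := by rw [hww]
        _ = y' := by rw [hz']; group
    rw [isConj_iff]
    refine ⟨k⁻¹ * w * g, ?_⟩
    calc k⁻¹ * w * g * x * (k⁻¹ * w * g)⁻¹ = k⁻¹ * (w * (g * x * g⁻¹) * w⁻¹) * k := by group
      _ = k⁻¹ * y' * k := by rw [← hx', h2]
      _ = y := by rw [hy']; group
  · -- counting
    obtain ⟨Inv, hInv⟩ : ∃ Inv : Finset G, Inv = Finset.univ.filter (fun x : G => orderOf x = 2) :=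
      ⟨_, rfl⟩
    obtain ⟨δ, hδ⟩ : ∃ δ : ℕ, δ = if Even (Fintype.card Ω) then 0 else 1 := ⟨_, rfl⟩
    have hL : ∀ x ∈ Inv,
        (Finset.univ.filter (fun c : Ω => x • c ≠ c)).card = Fintype.card Ω - δ := by
      intro x hx
      rw [hInv, Finset.mem_filter] at hx
      have h1 := invol_card_fixed hoddall hx.2
      rw [← hδ] at h1
      have h2 := Finset.card_filter_add_card_filter_not
        (s := (Finset.univ : Finset Ω)) (fun c : Ω => x • c = c)
      rw [Finset.card_univ] at h2
      show (Finset.univ.filter (fun c : Ω => ¬ x • c = c)).card = _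
      omega
    have hR : ∀ c : Ω, (Inv.filter (fun x => x • c ≠ c)).card = (Fintype.card Ω - 1) * e := by
      intro c
      have hmaps : ((Inv.filter (fun x => x • c ≠ c) : Finset G) : Set G).MapsTo
          (fun x => x • c) ((Finset.univ.erase c : Finset Ω) : Set Ω) := by
        intro x hx
        have hx' : x ∈ Inv.filter (fun x => x • c ≠ c) := hx
        rw [Finset.mem_filter] at hx'
        show x • c ∈ Finset.univ.erase c
        rw [Finset.mem_erase]
        exact ⟨hx'.2, Finset.mem_univ _⟩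
      rw [Finset.card_eq_sum_card_fiberwise hmaps]
      have hfib : ∀ d ∈ Finset.univ.erase c,
          ((Inv.filter (fun x => x • c ≠ c)).filter (fun x => x • c = d)).card = e := by
        intro d hd
        rw [Finset.mem_erase] at hd
        rw [← hK2 c d (Ne.symm hd.1)]
        congr 1
        ext x
        simp only [hInv, Finset.mem_filter, Finset.mem_univ, true_and]
        constructor
        · rintro ⟨⟨hx, -⟩, hxd⟩
          exact ⟨hx, hxd⟩
        · rintro ⟨hx, hxd⟩
          exact ⟨⟨hx, by rw [hxd]; exact hd.1⟩, hxd⟩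
      rw [Finset.sum_congr rfl hfib, Finset.sum_const, Finset.card_erase_of_mem (Finset.mem_univ c),
        Finset.card_univ, smul_eq_mul]
    have key : ∑ x ∈ Inv, (Finset.univ.filter (fun c : Ω => x • c ≠ c)).card
        = ∑ c : Ω, (Inv.filter (fun x => x • c ≠ c)).card := by
      simp only [Finset.card_filter]
      exact Finset.sum_comm
    rw [Finset.sum_congr rfl hL, Finset.sum_const, smul_eq_mul,
      Finset.sum_congr rfl (fun c _ => hR c), Finset.sum_const, Finset.card_univ, smul_eq_mul]
      at key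
    rw [natCard_subtype_eq_card_filter, ← hInv]
    rw [hh] at key hδ
    by_cases hev : Even h
    · rw [if_pos hev]
      have hnev : ¬ Even (h + 1) := by
        rw [Nat.even_add_one]; exact not_not.mpr hev
      rw [if_neg hnev] at hδ
      subst hδ
      have hpos : 0 < h := by omega
      have h3 : Inv.card * h = (e * (h + 1)) * h := by
        have : h + 1 - 1 = h := by omega
        rw [this] at key
        rw [key]; ring
      exact Nat.eq_of_mul_eq_mul_right hpos h3
    · rw [if_neg hev]
      have hnev : Even (h + 1) := by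
        rw [Nat.even_add_one]; exact hev
      rw [if_pos hnev] at hδ
      subst hδ
      have h3 : Inv.card * (h + 1) = (e * h) * (h + 1) := by
        have : h + 1 - 1 = h := by omega
        rw [this] at key
        rw [Nat.sub_zero] at key
        rw [key]; ring
      exact Nat.eq_of_mul_eq_mul_right (by omega) h3

end Cfsg.Agent.S0882
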