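import Cfsg.Statements.S1516
import Mathlib
import Cfsg.Agent.Lib.helper32.Coh7

set_option autoImplicit false
open Cfsg

namespace Cfsg.Agent.S1516

open Cfsg.Agent.Lib.helper4 Cfsg.Agent.Lib.helper32

/-- Let (S, τ, R) be a coherence system from L to G with degrees φ 1 = d φ and squared norms ⟨φ, φ⟩ = n φ for φ ∈ S. Let S₁ ⊆ S be a finite subset closed under complex conjugation such that (S₁, L minus 1, τ) is coherent, let χ ∈ S with χ ∉ S₁ and conj χ ∉ S₁, and let χ₁ ∈ S₁ with d χ₁ dividing d χ and 2 d χ d χ₁ < Σ_{φ ∈ S₁} (d φ)² / n φ. Then S₁ together with χ and conj χ is coherent. -/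
theorem result {L : Type*} [Group L] [Fintype L] {G : Type*} [Group G] [Fintype G] (S : Set (L → ℂ)) (τ : (L → ℂ) → (G → ℂ)) (R : (L → ℂ) → Finset (G → ℂ)) (hS : Cfsg.IsCoherenceSystem S τ R) (d n : (L → ℂ) → ℕ) (hd : ∀ φ ∈ S, φ 1 = (d φ : ℂ)) (hn : ∀ φ ∈ S, Cfsg.classInner φ φ = (n φ : ℂ)) (S₁ : Finset (L → ℂ)) (hS₁ : ↑S₁ ⊆ S) (hS₁c : ∀ φ ∈ S₁, Cfsg.conjFun φ ∈ S₁) (hcoh : Cfsg.IsCoherent (↑S₁ : Set (L → ℂ)) {1}ᶜ τ) (χ : L → ℂ) (hχ : χ ∈ S) (hχ₁ : χ ∉ S₁) (hχ₂ : Cfsg.conjFun χ ∉ S₁) (χ₁ : L → ℂ) (hχ₁S : χ₁ ∈ S₁) (hdvd : d χ₁ ∣ d χ) (hineq : (2 * d χ * d χ₁ : ℝ) < ∑ φ ∈ S₁, ((d φ : ℝ) ^ 2 / (n φ : ℝ))) : Cfsg.IsCoherent (↑S₁ ∪ {χ, Cfsg.conjFun χ} : Set (L → ℂ)) {1}ᶜ τ := by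
  classical
  obtain ⟨-, τ₁, hτ₁, hag⟩ := hcoh
  have hτ := cs_lio hS
  have hτ₁' : IsLinearIsometryOn
      ((Submodule.span ℤ (↑S₁ : Set (L → ℂ)) : Submodule ℤ (L → ℂ)) : Set (L → ℂ)) τ₁ := hτ₁
  obtain ⟨a, ha⟩ := hdvd
  have hχ₁S' : χ₁ ∈ S := hS₁ hχ₁S
  have hcχ : conjFun χ ∈ S := hS.conj_mem χ hχ
  -- positivity
  have hdpos : ∀ φ ∈ S, 0 < d φ := by
    intro φ hφ
    obtain ⟨k, hk, hk'⟩ := cs_degree_nat hS hφ
    have h := hd φ hφ
    rw [hk'] at h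
    have : k = d φ := by exact_mod_cast h
    omega
  have hnpos : ∀ φ ∈ S, 0 < n φ := by
    intro φ hφ
    obtain ⟨k, hk, hk'⟩ := cs_norm_nat hS hφ
    have h := hn φ hφ
    rw [hk'] at h
    have : k = n φ := by exact_mod_cast h
    omega
  -- distinctness
  have hne1 : ∀ φ ∈ S₁, χ ≠ φ := fun φ hφ e => hχ₁ (e ▸ hφ)
  have hne2 : ∀ φ ∈ S₁, conjFun χ ≠ φ := fun φ hφ e => hχ₂ (e ▸ hφ)
  have hne3 : ∀ φ ∈ S₁, χ ≠ conjFun φ := fun φ hφ e => hχ₁ (e ▸ hS₁c φ hφ)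
  have hφspan : ∀ φ ∈ S₁, φ ∈ Submodule.span ℤ (↑S₁ : Set (L → ℂ)) :=
    fun φ hφ => Submodule.subset_span hφ
  have hχφ : ∀ φ ∈ S₁, classInner χ φ = 0 :=
    fun φ hφ => hS.orthogonal χ hχ φ (hS₁ hφ) (hne1 φ hφ)
  have hφχ : ∀ φ ∈ S₁, classInner φ χ = 0 :=
    fun φ hφ => hS.orthogonal φ (hS₁ hφ) χ hχ (Ne.symm (hne1 φ hφ))
  have hcχφ : ∀ φ ∈ S₁, classInner (conjFun χ) φ = 0 :=
    fun φ hφ => hS.orthogonal _ hcχ φ (hS₁ hφ) (hne2 φ hφ)
  have hφcχ : ∀ φ ∈ S₁, classInner φ (conjFun χ) = 0 :=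
    fun φ hφ => hS.orthogonal φ (hS₁ hφ) _ hcχ (Ne.symm (hne2 φ hφ))
  -- β and X
  obtain ⟨β, hβdef⟩ : ∃ β : L → ℂ, β = χ - (a : ℤ) • χ₁ := ⟨_, rfl⟩
  have hβ : β ∈ zspanOnSub S {1}ᶜ := by
    have h' : β ∈ zspanOn S {1}ᶜ := by
      rw [hβdef]
      apply mem_zspanOn_compl_one
        (zspan_sub_mem (mem_zspan_of_mem hχ) (zspan_zsmul_mem (mem_zspan_of_mem hχ₁S') _))
      rw [Pi.sub_apply, Pi.smul_apply, hd χ hχ, hd χ₁ hχ₁S', ha]
      simp only [zsmul_eq_mul, Int.cast_natCast]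
      push_cast
      ring
    exact h'
  have hχχc := cs_sub_conj_mem hS hχ
  obtain ⟨X, hX⟩ : ∃ X : G → ℂ, X = τ β + (a : ℤ) • τ₁ χ₁ := ⟨_, rfl⟩
  have hXvirt : IsGeneralizedCharacter G X := by
    rw [hX]
    exact isGeneralizedCharacter_add (lio_gen hτ hβ)
      (isGeneralizedCharacter_zsmul _ (lio_gen hτ₁' (hφspan χ₁ hχ₁S)))
  -- orthogonality of τ₁ φ to R χ
  have horthR : ∀ φ ∈ S₁, ∀ α ∈ R χ, classInner (τ₁ φ) α = 0 := fun φ hφ =>
    cs_coherent_orth hS (↑S₁) hS₁ hS₁c τ₁ hτ₁ hag hφ hχ (hne1 φ hφ) (hne3 φ hφ)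
  have hF5' : ∀ φ ∈ S₁, classInner (τ₁ φ) (τ (χ - conjFun χ)) = 0 := by
    intro φ hφ
    rw [hS.sum_eq χ hχ, classInner_sum_right]
    exact Finset.sum_eq_zero (fun α hα => horthR φ hφ α hα)
  have hF5 : ∀ φ ∈ S₁, classInner (τ (χ - conjFun χ)) (τ₁ φ) = 0 :=
    fun φ hφ => classInner_comm_of_eq_zero (hF5' φ hφ)
  -- the integers x φ
  have hxint : ∀ φ ∈ S₁, ∃ k : ℤ, classInner X (τ₁ φ) = k :=
    fun φ hφ => exists_int_classInner hXvirt (lio_gen hτ₁' (hφspan φ hφ))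
  choose! x hx using hxint
  have hii : ∀ φ ∈ S₁, (d χ₁ : ℤ) * x φ = (d φ : ℤ) * x χ₁ := by
    intro φ hφ
    obtain ⟨γ, hγdef⟩ : ∃ γ : L → ℂ, γ = (d χ₁ : ℤ) • φ - (d φ : ℤ) • χ₁ := ⟨_, rfl⟩
    have hγ₁ : γ ∈ zspanOn (↑S₁ : Set (L → ℂ)) {1}ᶜ := by
      rw [hγdef]
      apply mem_zspanOn_compl_one (zspan_sub_mem (zspan_zsmul_mem (mem_zspan_of_mem hφ) _)
        (zspan_zsmul_mem (mem_zspan_of_mem hχ₁S) _))
      rw [Pi.sub_apply, Pi.smul_apply, Pi.smul_apply, hd φ (hS₁ hφ), hd χ₁ hχ₁S']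
      simp only [zsmul_eq_mul, Int.cast_natCast]
      ring
    have hγS : γ ∈ zspanOnSub S {1}ᶜ := zspanOn_mono hS₁ _ hγ₁
    have hγspan : γ ∈ Submodule.span ℤ (↑S₁ : Set (L → ℂ)) := hγ₁.1
    have hτγ : τ₁ γ = (d χ₁ : ℤ) • τ₁ φ - (d φ : ℤ) • τ₁ χ₁ := by
      rw [hγdef, lio_sub hτ₁' (Submodule.smul_mem _ _ (hφspan φ hφ))
        (Submodule.smul_mem _ _ (hφspan χ₁ hχ₁S)), lio_zsmul hτ₁' (hφspan φ hφ),
        lio_zsmul hτ₁' (hφspan χ₁ hχ₁S)]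
    have hχγ : classInner χ γ = 0 := by
      rw [hγdef, classInner_sub_right, classInner_zsmul_right, classInner_zsmul_right,
        hχφ φ hφ, hχφ χ₁ hχ₁S]
      ring
    have hA : classInner X (τ₁ γ) = 0 := by
      rw [hX, classInner_add_left, classInner_zsmul_left,
        lio_inner hτ₁' (hφspan χ₁ hχ₁S) hγspan, hag γ hγ₁, lio_inner hτ hβ hγS, hβdef,
        classInner_sub_left, classInner_zsmul_left, hχγ]
      ring
    have hB : classInner X (τ₁ γ) = (d χ₁ : ℂ) * (x φ : ℂ) - (d φ : ℂ) * (x χ₁ : ℂ) := by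
      rw [hτγ, classInner_sub_right, classInner_zsmul_right, classInner_zsmul_right,
        hx φ hφ, hx χ₁ hχ₁S]
      push_cast
      ring
    have h3 : (d χ₁ : ℂ) * (x φ : ℂ) - (d φ : ℂ) * (x χ₁ : ℂ) = 0 := by rw [← hB, hA]
    have h4 : (d χ₁ : ℂ) * (x φ : ℂ) = (d φ : ℂ) * (x χ₁ : ℂ) := sub_eq_zero.mp h3
    exact_mod_cast h4
  -- the norm of X
  have hββ : classInner β β = (n χ : ℂ) + (a : ℂ) * (a : ℂ) * (n χ₁ : ℂ) := by
    rw [hβdef, classInner_sub_left, classInner_sub_right, classInner_sub_right,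
      classInner_zsmul_left, classInner_zsmul_left, classInner_zsmul_right,
      classInner_zsmul_right, hχφ χ₁ hχ₁S, hφχ χ₁ hχ₁S, hn χ hχ, hn χ₁ hχ₁S']
    push_cast
    ring
  have hu : classInner (τ β) (τ₁ χ₁) = (x χ₁ : ℂ) - (a : ℂ) * (n χ₁ : ℂ) := by
    have h := hx χ₁ hχ₁S
    rw [hX, classInner_add_left, classInner_zsmul_left,
      lio_inner hτ₁' (hφspan χ₁ hχ₁S) (hφspan χ₁ hχ₁S), hn χ₁ hχ₁S'] at h
    push_cast at h
    linear_combination h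
  have hu' : classInner (τ₁ χ₁) (τ β) = (x χ₁ : ℂ) - (a : ℂ) * (n χ₁ : ℂ) := by
    rw [← classInner_conj_symm, hu]
    simp
  have hXX : classInner X X = (n χ : ℂ) + 2 * (a : ℂ) * (x χ₁ : ℂ) := by
    rw [hX, classInner_add_left, classInner_add_right, classInner_add_right,
      classInner_zsmul_left, classInner_zsmul_left, classInner_zsmul_right,
      classInner_zsmul_right, lio_inner hτ hβ hβ, hββ, hu, hu',
      lio_inner hτ₁' (hφspan χ₁ hχ₁S) (hφspan χ₁ hχ₁S), hn χ₁ hχ₁S']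
    push_cast
    ring
  -- inner product with τ (χ - conj χ)
  have hF2 : classInner X (τ (χ - conjFun χ)) = (n χ : ℂ) := by
    rw [hX, classInner_add_left, classInner_zsmul_left, hF5' χ₁ hχ₁S, lio_inner hτ hβ hχχc,
      hβdef, classInner_sub_left, classInner_sub_right, classInner_zsmul_left,
      classInner_sub_right, hφχ χ₁ hχ₁S, hφcχ χ₁ hχ₁S, cs_inner_conj hS hχ, hn χ hχ]
    ring
  have hF2' : classInner (τ (χ - conjFun χ)) X = (n χ : ℂ) := by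
    rw [← classInner_conj_symm, hF2]
    simp
  have hF3 : classInner (τ (χ - conjFun χ)) (τ (χ - conjFun χ)) = 2 * (n χ : ℂ) := by
    rw [lio_inner hτ hχχc hχχc, classInner_sub_left, classInner_sub_right,
      classInner_sub_right, cs_inner_conj hS hχ, cs_inner_conj' hS hχ, cs_norm_conj hS hχ,
      hn χ hχ]
    ring
  -- the integers y α
  have hyint : ∀ α ∈ R χ, ∃ k : ℤ, classInner X α = k :=
    fun α hα => exists_int_classInner hXvirt (hS.virtual χ hχ α hα)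
  choose! y hy using hyint
  have hysum : ∑ α ∈ R χ, y α = (n χ : ℤ) := by
    have h := hF2
    rw [hS.sum_eq χ hχ, classInner_sum_right, Finset.sum_congr rfl hy] at h
    exact_mod_cast h
  -- x χ₁ = 0
  have hx₁ : x χ₁ = 0 := by
    by_contra hx0
    let ι := (G → ℂ) ⊕ (L → ℂ)
    let e : ι → G → ℂ := Sum.elim id τ₁
    let cc : ι → ℝ := Sum.elim (fun α => (y α : ℝ)) (fun φ => (x φ : ℝ))
    let N : ι → ℝ := Sum.elim (fun _ => 1) (fun φ => (n φ : ℝ))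
    have hN : ∀ i ∈ (R χ).disjSum S₁, 0 < N i := by
      rintro (α | φ) hi
      · exact one_pos
      · have hφ := Finset.inr_mem_disjSum.mp hi
        have := hnpos φ (hS₁ hφ)
        show (0 : ℝ) < (n φ : ℝ)
        exact_mod_cast this
    have horth : ∀ i ∈ (R χ).disjSum S₁, ∀ j ∈ (R χ).disjSum S₁,
        classInner (e i) (e j) = if i = j then (N i : ℂ) else 0 := by
      rintro (α | φ) hi (α' | φ') hj
      · have hα := Finset.inl_mem_disjSum.mp hi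
        have hα' := Finset.inl_mem_disjSum.mp hj
        show classInner α α' = if (Sum.inl α : ι) = Sum.inl α' then ((1 : ℝ) : ℂ) else 0
        split_ifs with hij
        · have := Sum.inl.inj hij
          rw [this, cs_R_norm hS hχ α' hα']
          simp
        · exact cs_R_orth hS hχ α hα α' hα' (fun e => hij (by rw [e]))
      · have hα := Finset.inl_mem_disjSum.mp hi
        have hφ' := Finset.inr_mem_disjSum.mp hj
        show classInner α (τ₁ φ') = if (Sum.inl α : ι) = Sum.inr φ' then ((1 : ℝ) : ℂ) else 0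
        rw [if_neg (by simp)]
        exact classInner_comm_of_eq_zero (horthR φ' hφ' α hα)
      · have hφ := Finset.inr_mem_disjSum.mp hi
        have hα' := Finset.inl_mem_disjSum.mp hj
        show classInner (τ₁ φ) α' = if (Sum.inr φ : ι) = Sum.inl α' then ((n φ : ℝ) : ℂ) else 0
        rw [if_neg (by simp)]
        exact horthR φ hφ α' hα'
      · have hφ := Finset.inr_mem_disjSum.mp hi
        have hφ' := Finset.inr_mem_disjSum.mp hj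
        show classInner (τ₁ φ) (τ₁ φ') =
          if (Sum.inr φ : ι) = Sum.inr φ' then ((n φ : ℝ) : ℂ) else 0
        rw [lio_inner hτ₁' (hφspan φ hφ) (hφspan φ' hφ')]
        split_ifs with hij
        · have := Sum.inr.inj hij
          rw [← this, hn φ (hS₁ hφ)]
          simp
        · exact hS.orthogonal φ (hS₁ hφ) φ' (hS₁ hφ') (fun e => hij (by rw [e]))
    have hcc : ∀ i ∈ (R χ).disjSum S₁, classInner X (e i) = (cc i : ℂ) := by
      rintro (α | φ) hi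
      · have hα := Finset.inl_mem_disjSum.mp hi
        show classInner X α = (((y α : ℤ) : ℝ) : ℂ)
        rw [hy α hα]
        simp
      · have hφ := Finset.inr_mem_disjSum.mp hi
        show classInner X (τ₁ φ) = (((x φ : ℤ) : ℝ) : ℂ)
        rw [hx φ hφ]
        simp
    have hb := bessel_gen ((R χ).disjSum S₁) e X cc N hN horth hcc
    rw [Finset.sum_disjSum] at hb
    have hb' : ∑ α ∈ R χ, (y α : ℝ) ^ 2 + ∑ φ ∈ S₁, (x φ : ℝ) ^ 2 / (n φ : ℝ) ≤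
        (classInner X X).re := by
      have e1 : ∑ α ∈ R χ, cc (Sum.inl α) ^ 2 / N (Sum.inl α) = ∑ α ∈ R χ, (y α : ℝ) ^ 2 := by
        apply Finset.sum_congr rfl
        intro α _
        show (y α : ℝ) ^ 2 / 1 = (y α : ℝ) ^ 2
        rw [div_one]
      rw [e1] at hb
      exact hb
    have hXXre : (classInner X X).re = (n χ : ℝ) + 2 * (a : ℝ) * (x χ₁ : ℝ) := by
      rw [hXX]
      simp
    rw [hXXre] at hb'
    have hysq : (n χ : ℝ) ≤ ∑ α ∈ R χ, (y α : ℝ) ^ 2 := by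
      have h1 : ∑ α ∈ R χ, y α ≤ ∑ α ∈ R χ, y α ^ 2 :=
        Finset.sum_le_sum (fun α _ => int_le_sq (y α))
      rw [hysum] at h1
      have h2 : (((n χ : ℕ) : ℤ) : ℝ) ≤ ((∑ α ∈ R χ, y α ^ 2 : ℤ) : ℝ) := by exact_mod_cast h1
      push_cast at h2
      exact h2
    have hd1 : (0 : ℝ) < (d χ₁ : ℝ) := by exact_mod_cast hdpos χ₁ hχ₁S'
    have hxφ : ∀ φ ∈ S₁, (x φ : ℝ) ^ 2 / (n φ : ℝ) =
        ((x χ₁ : ℝ) ^ 2 / (d χ₁ : ℝ) ^ 2) * ((d φ : ℝ) ^ 2 / (n φ : ℝ)) := by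
      intro φ hφ
      have h1 := hii φ hφ
      have h2 : (d χ₁ : ℝ) * (x φ : ℝ) = (d φ : ℝ) * (x χ₁ : ℝ) := by exact_mod_cast h1
      have hxe : (x φ : ℝ) = (d φ : ℝ) * (x χ₁ : ℝ) / (d χ₁ : ℝ) := by
        rw [eq_div_iff hd1.ne']
        linarith
      rw [hxe]
      field_simp
    have hsumx : ∑ φ ∈ S₁, (x φ : ℝ) ^ 2 / (n φ : ℝ) =
        ((x χ₁ : ℝ) ^ 2 / (d χ₁ : ℝ) ^ 2) * ∑ φ ∈ S₁, (d φ : ℝ) ^ 2 / (n φ : ℝ) := by
      rw [Finset.mul_sum]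
      exact Finset.sum_congr rfl hxφ
    rw [hsumx] at hb'
    have hx0' : (x χ₁ : ℝ) ≠ 0 := by exact_mod_cast hx0
    have hq : 0 < (x χ₁ : ℝ) ^ 2 / (d χ₁ : ℝ) ^ 2 := by positivity
    have hdχ : (d χ : ℝ) = (d χ₁ : ℝ) * (a : ℝ) := by exact_mod_cast ha
    have hq2 : (x χ₁ : ℝ) ^ 2 / (d χ₁ : ℝ) ^ 2 * (2 * (d χ : ℝ) * (d χ₁ : ℝ)) =
        2 * (a : ℝ) * (x χ₁ : ℝ) ^ 2 := by
      rw [hdχ]
      field_simp
    have h5 := mul_lt_mul_of_pos_left hineq hq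
    rw [hq2] at h5
    have h6 : (x χ₁ : ℝ) ≤ (x χ₁ : ℝ) ^ 2 := by exact_mod_cast int_le_sq (x χ₁)
    have h7 : 2 * (a : ℝ) * (x χ₁ : ℝ) ≤ 2 * (a : ℝ) * (x χ₁ : ℝ) ^ 2 :=
      mul_le_mul_of_nonneg_left h6 (by positivity)
    linarith
  have hF1 : classInner X X = (n χ : ℂ) := by
    rw [hXX, hx₁]
    simp
  have hF4 : ∀ φ ∈ S₁, classInner X (τ₁ φ) = 0 := by
    intro φ hφ
    have h1 := hii φ hφ
    rw [hx₁, mul_zero] at h1
    have hd1 : (d χ₁ : ℤ) ≠ 0 := by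
      have := hdpos χ₁ hχ₁S'
      exact_mod_cast this.ne'
    rw [hx φ hφ]
    rcases mul_eq_zero.mp h1 with h | h
    · exact absurd h hd1
    · rw [h]; simp
  have hF4' : ∀ φ ∈ S₁, classInner (τ₁ φ) X = 0 :=
    fun φ hφ => classInner_comm_of_eq_zero (hF4 φ hφ)
  -- the assignment
  obtain ⟨Xc, hXc⟩ : ∃ Xc : G → ℂ, Xc = X - τ (χ - conjFun χ) := ⟨_, rfl⟩
  let Z : (L → ℂ) → (G → ℂ) := fun φ =>
    if φ = χ then X else if φ = conjFun χ then Xc else τ₁ φ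
  have hZχ : Z χ = X := by
    show (if χ = χ then X else if χ = conjFun χ then Xc else τ₁ χ) = X
    rw [if_pos rfl]
  have hZc : Z (conjFun χ) = Xc := by
    show (if conjFun χ = χ then X else if conjFun χ = conjFun χ then Xc else τ₁ (conjFun χ)) = Xc
    rw [if_neg (hS.conj_ne χ hχ), if_pos rfl]
  have hZ₁ : ∀ φ ∈ S₁, Z φ = τ₁ φ := by
    intro φ hφ
    show (if φ = χ then X else if φ = conjFun χ then Xc else τ₁ φ) = τ₁ φ
    rw [if_neg (Ne.symm (hne1 φ hφ)), if_neg (Ne.symm (hne2 φ hφ))]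
  have hcases : ∀ φ ∈ (↑S₁ ∪ {χ, conjFun χ} : Set (L → ℂ)),
      φ ∈ S₁ ∨ φ = χ ∨ φ = conjFun χ := by
    intro φ hφ
    rcases hφ with h | h | h
    exacts [Or.inl h, Or.inr (Or.inl h), Or.inr (Or.inr h)]
  have hS'S : (↑S₁ ∪ {χ, conjFun χ} : Set (L → ℂ)) ⊆ S := by
    intro φ hφ
    rcases hcases φ hφ with h | h | h
    · exact hS₁ h
    · rw [h]; exact hχ
    · rw [h]; exact hcχ
  have hXcvirt : IsGeneralizedCharacter G Xc := by
    rw [hXc]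
    exact isGeneralizedCharacter_sub hXvirt (lio_gen hτ hχχc)
  have hZvirt : ∀ φ ∈ (↑S₁ ∪ {χ, conjFun χ} : Set (L → ℂ)), IsGeneralizedCharacter G (Z φ) := by
    intro φ hφ
    rcases hcases φ hφ with h | h | h
    · rw [hZ₁ φ h]; exact lio_gen hτ₁' (hφspan φ h)
    · rw [h, hZχ]; exact hXvirt
    · rw [h, hZc]; exact hXcvirt
  have hZi : ∀ φ ∈ (↑S₁ ∪ {χ, conjFun χ} : Set (L → ℂ)),
      ∀ ψ ∈ (↑S₁ ∪ {χ, conjFun χ} : Set (L → ℂ)),
      classInner (Z φ) (Z ψ) = classInner φ ψ := by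
    intro φ hφ ψ hψ
    rcases hcases φ hφ with h | h | h <;> rcases hcases ψ hψ with h' | h' | h'
    · rw [hZ₁ φ h, hZ₁ ψ h']
      exact lio_inner hτ₁' (hφspan φ h) (hφspan ψ h')
    · rw [hZ₁ φ h, h', hZχ, hF4' φ h]
      exact (hφχ φ h).symm
    · rw [hZ₁ φ h, h', hZc, hXc, classInner_sub_right, hF4' φ h, hF5' φ h, sub_zero]
      exact (hφcχ φ h).symm
    · rw [h, hZχ, hZ₁ ψ h', hF4 ψ h']
      exact (hχφ ψ h').symm
    · rw [h, h', hZχ, hF1, hn χ hχ]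
    · rw [h, h', hZχ, hZc, hXc, classInner_sub_right, hF1, hF2, sub_self]
      exact (cs_inner_conj hS hχ).symm
    · rw [h, hZc, hZ₁ ψ h', hXc, classInner_sub_left, hF4 ψ h', hF5 ψ h', sub_zero]
      exact (hcχφ ψ h').symm
    · rw [h, h', hZc, hZχ, hXc, classInner_sub_left, hF1, hF2', sub_self]
      exact (cs_inner_conj' hS hχ).symm
    · rw [h, h', hZc, hXc, classInner_sub_left, classInner_sub_right, classInner_sub_right,
        hF1, hF2, hF2', hF3, cs_norm_conj hS hχ, hn χ hχ]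
      ring
  obtain ⟨τ₂, hτ₂, hτ₂S⟩ := lio_of_orthogonal (↑S₁ ∪ {χ, conjFun χ} : Set (L → ℂ)) Z
    (fun φ hφ => cs_norm_ne_zero hS (hS'S hφ))
    (fun φ hφ ψ hψ hne => hS.orthogonal φ (hS'S hφ) ψ (hS'S hψ) hne) hZvirt hZi
  have hχS' : χ ∈ (↑S₁ ∪ {χ, conjFun χ} : Set (L → ℂ)) := Or.inr (Or.inl rfl)
  have hcχS' : conjFun χ ∈ (↑S₁ ∪ {χ, conjFun χ} : Set (L → ℂ)) := Or.inr (Or.inr rfl)
  refine ⟨⟨χ - conjFun χ, ?_, ?_⟩, τ₂, hτ₂, ?_⟩
  · exact mem_zspanOn_compl_one (zspan_sub_mem (mem_zspan_of_mem hχS') (mem_zspan_of_mem hcχS'))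
      (by rw [Pi.sub_apply, cs_conj_degree hS hχ, sub_self])
  · intro h
    exact hS.conj_ne χ hχ (sub_eq_zero.mp h).symm
  · have hτ₂' : IsLinearIsometryOn
        ((Submodule.span ℤ (↑S₁ ∪ {χ, conjFun χ} : Set (L → ℂ)) : Submodule ℤ (L → ℂ)) :
          Set (L → ℂ)) τ₂ := hτ₂
    have key : ∀ θ ∈ Submodule.span ℤ (↑S₁ ∪ {χ, conjFun χ} : Set (L → ℂ)),
        ∃ m m' : ℤ, ∃ s ∈ Submodule.span ℤ (↑S₁ : Set (L → ℂ)),
          θ = m • χ + m' • conjFun χ + s ∧ τ₂ θ = m • X + m' • Xc + τ₁ s := by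
      intro θ hθ
      induction hθ using Submodule.span_induction with
      | mem x hx =>
        rcases hcases x hx with h | h | h
        · refine ⟨0, 0, x, hφspan x h, by simp, ?_⟩
          rw [hτ₂S x hx, hZ₁ x h]
          simp
        · refine ⟨1, 0, 0, Submodule.zero_mem _, by simp [h], ?_⟩
          rw [hτ₂S x hx, h, hZχ, lio_zero hτ₁']
          simp
        · refine ⟨0, 1, 0, Submodule.zero_mem _, by simp [h], ?_⟩
          rw [hτ₂S x hx, h, hZc, lio_zero hτ₁']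
          simp
      | zero =>
        refine ⟨0, 0, 0, Submodule.zero_mem _, by simp, ?_⟩
        rw [lio_zero hτ₂', lio_zero hτ₁']
        simp
      | add a' b' ha' hb' iha ihb =>
        obtain ⟨m₁, m₁', s₁, hs₁, e₁, h₁⟩ := iha
        obtain ⟨m₂, m₂', s₂, hs₂, e₂, h₂⟩ := ihb
        refine ⟨m₁ + m₂, m₁' + m₂', s₁ + s₂, Submodule.add_mem _ hs₁ hs₂, ?_, ?_⟩
        · rw [e₁, e₂]; module
        · rw [lio_add hτ₂' ha' hb', h₁, h₂, lio_add hτ₁' hs₁ hs₂]; module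
      | smul k a' ha' iha =>
        obtain ⟨m, m', s, hs, e, h⟩ := iha
        refine ⟨k * m, k * m', k • s, Submodule.smul_mem _ _ hs, ?_, ?_⟩
        · rw [e]; module
        · rw [lio_zsmul hτ₂' ha', h, lio_zsmul hτ₁' hs]; module
    intro θ hθ
    obtain ⟨m, m', s, hs, e, h⟩ := key θ hθ.1
    obtain ⟨s', hs'def⟩ : ∃ s' : L → ℂ, s' = s + ((m + m') * (a : ℤ)) • χ₁ := ⟨_, rfl⟩
    have hs'span : s' ∈ Submodule.span ℤ (↑S₁ : Set (L → ℂ)) := by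
      rw [hs'def]
      exact Submodule.add_mem _ hs (Submodule.smul_mem _ _ (hφspan χ₁ hχ₁S))
    have hs'1 : s' 1 = 0 := by
      have h1 := apply_one_of_mem_zspanOn_compl_one hθ
      rw [e] at h1
      simp only [Pi.add_apply, Pi.smul_apply] at h1
      simp only [zsmul_eq_mul] at h1
      rw [cs_conj_degree hS hχ, hd χ hχ, ha] at h1
      rw [hs'def]
      simp only [Pi.add_apply, Pi.smul_apply]
      simp only [zsmul_eq_mul]
      rw [hd χ₁ hχ₁S']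
      push_cast at h1 ⊢
      linear_combination h1
    have hs' : s' ∈ zspanOn (↑S₁ : Set (L → ℂ)) {1}ᶜ := mem_zspanOn_compl_one hs'span hs'1
    have hs'S : s' ∈ zspanOnSub S {1}ᶜ := zspanOn_mono hS₁ _ hs'
    have hτs' : τ₁ s' = τ₁ s + ((m + m') * (a : ℤ)) • τ₁ χ₁ := by
      rw [hs'def, lio_add hτ₁' hs (Submodule.smul_mem _ _ (hφspan χ₁ hχ₁S)),
        lio_zsmul hτ₁' (hφspan χ₁ hχ₁S)]
    have eθ : θ = (m + m') • β - m' • (χ - conjFun χ) + s' := by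
      rw [e, hβdef, hs'def]; module
    have hmem1 : (m + m') • β - m' • (χ - conjFun χ) ∈ zspanOnSub S {1}ᶜ :=
      Submodule.sub_mem _ (Submodule.smul_mem _ _ hβ) (Submodule.smul_mem _ _ hχχc)
    rw [h, eθ, lio_add hτ hmem1 hs'S,
      lio_sub hτ (Submodule.smul_mem _ _ hβ) (Submodule.smul_mem _ _ hχχc),
      lio_zsmul hτ hβ, lio_zsmul hτ hχχc, ← hag s' hs', hτs', hXc, hX]
    module

end Cfsg.Agent.S1516
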