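import Cfsg.Statements.S1528
import Mathlib
import Cfsg.Agent.Lib.helper4.CharDecomp
import Cfsg.Agent.Lib.helper4.CharTheory
import Cfsg.Agent.Lib.helper4.Induction
import Cfsg.Agent.Lib.helper84.Brauer
import Cfsg.Agent.Lib.helper83.CharBasic2

set_option autoImplicit false
open Cfsg

namespace Cfsg.Agent.S1528

open Cfsg.Agent.Lib.helper4

/-- Let N be a normal subgroup of the finite group G such that every element of G commuting with a non-identity element of N lies in N. If χ is an irreducible character of G with χ n ≠ χ 1 for some n ∈ N, then χ is the function induced from some irreducible character of N. -/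
theorem result {G : Type*} [Group G] [Fintype G] (N : Subgroup G) [N.Normal] (hC : ∀ n ∈ N, n ≠ 1 → Subgroup.centralizer ({n} : Set G) ≤ N) (χ : G → ℂ) (hχ : Cfsg.IsIrrCharacter G χ) (hker : ∃ n ∈ N, χ n ≠ χ 1) : ∃ φ : N → ℂ, Cfsg.IsIrrCharacter N φ ∧ χ = Cfsg.indFun N φ := by
  classical
  have : Fintype N := Fintype.ofFinite N
  have : Fintype (IrrCharacter N) := Fintype.ofFinite _
  obtain ⟨n₀, hn₀N, hn₀⟩ := hker
  have htriv : IsIrrCharacter N (fun _ => (1 : ℂ)) := Cfsg.Agent.Lib.helper83.isIrrCharacter_one
  -- Step 1: an element outside N fixes no non-principal irreducible character of N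
  have step1 : ∀ g : G, g ∉ N → ∀ φ : N → ℂ, IsIrrCharacter N φ →
      (fun n : N => φ (MulAut.conjNormal g n)) = φ → φ = fun _ => 1 := by
    intro g hg φ hφ hfix
    let α : N ≃* N := MulAut.conjNormal g
    let T : IrrCharacter N → IrrCharacter N := fun ψ =>
      ⟨fun n => (ψ : N → ℂ) (α n), Cfsg.Agent.Lib.helper84.irr_comp_mulEquiv α ψ⟩
    have hcard := Cfsg.Agent.Lib.helper84.card_irr_fixed_eq (G := N) (fun n => α n) T
      (fun ψ n => rfl) (fun C => ConjClasses.map α.toMonoidHom C = C) (by
        intro x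
        show ConjClasses.mk (α x) = ConjClasses.mk x ↔ IsConj x (α x)
        rw [ConjClasses.mk_eq_mk_iff_isConj]
        exact isConj_comm)
    have key : ∀ D : ConjClasses N, ConjClasses.map α.toMonoidHom D = D →
        D = ConjClasses.mk 1 := by
      intro D hD
      obtain ⟨x, rfl⟩ := ConjClasses.mk_surjective D
      have hconj : IsConj (α x) x := ConjClasses.mk_eq_mk_iff_isConj.mp hD
      obtain ⟨c, hc⟩ := isConj_iff.mp hconj
      by_cases hx1 : x = 1
      · rw [hx1]
      · exfalso
        have hx1' : (x : G) ≠ 1 := fun h => hx1 (Subtype.ext h)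
        have hc' : (c : G) * (g * (x : G) * g⁻¹) * (c : G)⁻¹ = (x : G) :=
          congrArg (fun z : N => (z : G)) hc
        have hmem : (c : G) * g ∈ Subgroup.centralizer ({(x : G)} : Set G) := by
          rw [Subgroup.mem_centralizer_singleton_iff]
          calc (c : G) * g * (x : G) = (c : G) * (g * (x : G) * g⁻¹) * (c : G)⁻¹ * ((c : G) * g) := by
                group
            _ = (x : G) * ((c : G) * g) := by rw [hc']
        have hN := hC (x : G) x.2 hx1' hmem
        exact hg ((Subgroup.mul_mem_cancel_left N c.2).mp hN)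
    have hone : Nat.card {C : ConjClasses N // ConjClasses.map α.toMonoidHom C = C} = 1 := by
      rw [Nat.card_eq_one_iff_unique]
      refine ⟨⟨?_⟩, ⟨⟨ConjClasses.mk 1, ?_⟩⟩⟩
      · rintro ⟨C, hC'⟩ ⟨C', hC''⟩
        apply Subtype.ext
        show C = C'
        rw [key C hC', key C' hC'']
      · show ConjClasses.mk (α 1) = ConjClasses.mk 1
        rw [map_one]
    rw [hone] at hcard
    have hsub : Subsingleton {ψ : IrrCharacter N // T ψ = ψ} :=
      (Nat.card_eq_one_iff_unique.mp hcard).1
    have h1 : T ⟨fun _ => 1, htriv⟩ = ⟨fun _ => 1, htriv⟩ := Subtype.ext rfl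
    have h2 : T ⟨φ, hφ⟩ = ⟨φ, hφ⟩ := Subtype.ext hfix
    have h3 := hsub.elim ⟨_, h1⟩ ⟨_, h2⟩
    exact (congrArg (fun z => (z.1 : N → ℂ)) h3).symm
  -- Step 2: a non-principal irreducible constituent of the restriction
  have hχN : IsCharacter N (fun n : N => χ n) :=
    isCharacter_restrict N (isCharacter_of_isIrrCharacter hχ)
  have step2 : ∃ φ : N → ℂ, IsIrrCharacter N φ ∧ φ ≠ (fun _ => 1) ∧
      classInner (fun n : N => χ n) φ ≠ 0 := by
    by_contra hall
    push Not at hall
    obtain ⟨c, hsum, hc, -⟩ := exists_int_coeff (isGeneralizedCharacter_of_isCharacter hχN)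
    have hconst : (fun n : N => χ n) = (c ⟨fun _ => 1, htriv⟩ : ℂ) • (fun _ : N => (1 : ℂ)) := by
      rw [hsum]
      rw [Finset.sum_eq_single (⟨fun _ => 1, htriv⟩ : IrrCharacter N)]
      · intro ψ _ hne
        have hψ1 : (ψ : N → ℂ) ≠ fun _ => 1 := fun h => hne (Subtype.ext h)
        have h0 := hall (ψ : N → ℂ) ψ.2 hψ1
        rw [hc ψ] at h0
        rw [h0, zero_smul]
      · intro h
        exact absurd (Finset.mem_univ _) h
    have e1 := congrFun hconst ⟨n₀, hn₀N⟩
    have e2 := congrFun hconst 1
    apply hn₀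
    simp only [Pi.smul_apply, smul_eq_mul, mul_one] at e1 e2
    have e2' : χ 1 = (c ⟨fun _ => 1, htriv⟩ : ℂ) := e2
    rw [e2']
    exact e1
  obtain ⟨φ, hφ, hφ1, hφχ⟩ := step2
  refine ⟨φ, hφ, ?_⟩
  -- Step 3: the induced function is irreducible
  have hind : IsCharacter G (indFun N φ) := isCharacter_indFun N (isCharacter_of_isIrrCharacter hφ)
  have hres : (fun n : N => indFun N φ n) =
      (Nat.card N : ℂ)⁻¹ • ∑ x : G, (fun n : N => φ (MulAut.conjNormal x⁻¹ n)) := by
    funext n
    rw [indFun_apply]
    simp only [Pi.smul_apply, Finset.sum_apply, smul_eq_mul]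
    congr 1
    apply Finset.sum_congr rfl
    intro x _
    have hmem : x⁻¹ * (n : G) * x ∈ N := by
      have := (inferInstance : N.Normal).conj_mem (n : G) n.2 x⁻¹
      simpa using this
    rw [extendByZero_apply_mem N φ hmem]
    congr 1
    apply Subtype.ext
    simp
  have hnorm : classInner (indFun N φ) (indFun N φ) = 1 := by
    rw [frobenius_reciprocity N φ (isClassFunction_indFun N φ), hres, classInner_smul_right,
      classInner_sum_right]
    have hterm : ∀ x : G, classInner φ (fun n : N => φ (MulAut.conjNormal x⁻¹ n)) =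
        if x ∈ N then 1 else 0 := by
      intro x
      have hirr : IsIrrCharacter N (fun n : N => φ (MulAut.conjNormal x⁻¹ n)) :=
        Cfsg.Agent.Lib.helper84.irr_comp_mulEquiv (MulAut.conjNormal x⁻¹) ⟨φ, hφ⟩
      by_cases hx : x ∈ N
      · rw [if_pos hx]
        have heq : (fun n : N => φ (MulAut.conjNormal x⁻¹ n)) = φ := by
          funext n
          have hcf := isClassFunction_of_isIrrCharacter hφ n (⟨x, hx⟩⁻¹ : N)
          rw [← hcf]
          congr 1
        rw [heq]
        exact classInner_irr_self hφ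
      · rw [if_neg hx]
        apply classInner_irr_ne hφ hirr
        intro heq
        exact hφ1 (step1 x⁻¹ (fun h => hx (by simpa using N.inv_mem h)) φ hφ heq.symm)
    rw [Finset.sum_congr rfl (fun x _ => hterm x), Finset.sum_boole]
    have hcardN : ((Finset.univ.filter (fun x : G => x ∈ N)).card : ℂ) = (Nat.card N : ℂ) := by
      congr 1
      rw [Nat.card_eq_fintype_card, Fintype.card_subtype]
    rw [hcardN]
    have hN0 : (Nat.card N : ℂ) ≠ 0 := by
      have : Nat.card N ≠ 0 := Nat.card_pos.ne'
      exact_mod_cast this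
    simp
  have hindirr : IsIrrCharacter G (indFun N φ) := isIrrCharacter_of_isCharacter_of_norm_one hind hnorm
  -- Step 4
  have hinner : classInner (indFun N φ) χ ≠ 0 := by
    rw [frobenius_reciprocity N φ (isClassFunction_of_isIrrCharacter hχ), ← classInner_conj_symm]
    intro h
    apply hφχ
    have := congrArg (starRingEnd ℂ) h
    simpa using this
  by_contra hne
  exact hinner (classInner_irr_ne hindirr hχ (Ne.symm hne))

end Cfsg.Agent.S1528
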