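import Cfsg.Statements.S1536
import Mathlib
import Cfsg.Agent.Lib.helper84.Brauer

set_option autoImplicit false
open Cfsg

namespace Cfsg.Agent.S1536

open Cfsg.Agent.Lib.helper84 Cfsg.Agent.Lib.helper83

/-- Conjugation by `x` on a normal subgroup, as an automorphism. -/
def conjEquiv {M : Type*} [Group M] (H : Subgroup M) [hN : H.Normal] (x : M) : H ≃* H where
  toFun h := ⟨x * h * x⁻¹, hN.conj_mem h h.2 x⟩
  invFun h := ⟨x⁻¹ * h * x, by simpa using hN.conj_mem h h.2 x⁻¹⟩
  left_inv h := by ext; simp [mul_assoc]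
  right_inv h := by ext; simp [mul_assoc]
  map_mul' a b := by ext; simp [mul_assoc]

theorem conjEquiv_apply {M : Type*} [Group M] (H : Subgroup M) [hN : H.Normal] (x : M) (h : H) :
    conjEquiv H x h = ⟨x * h * x⁻¹, hN.conj_mem h h.2 x⟩ := rfl

/-- If no non-identity element of `H` commutes with `x`, an element of `H` conjugate in `H` to its
`x`-conjugate is trivial. -/
theorem eq_one_of_isConj_conj {M : Type*} [Group M] [Finite M] (H : Subgroup M) [hN : H.Normal]
    (x : M) (hx : ∀ h ∈ H, x * h = h * x → h = 1) (g : H) (hg : IsConj g (conjEquiv H x g)) :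
    g = 1 := by
  obtain ⟨k, hk⟩ := isConj_iff.mp hg
  have hk' : (k : M) * g * (k : M)⁻¹ = x * g * x⁻¹ := by
    have := congrArg Subtype.val hk
    simpa [conjEquiv_apply] using this
  -- the map h ↦ h x h⁻¹ x⁻¹ is injective on H
  let f : H → H := fun h => ⟨(h : M) * (x * (h : M)⁻¹ * x⁻¹),
    H.mul_mem h.2 (hN.conj_mem _ (H.inv_mem h.2) x)⟩
  have hf : Function.Injective f := by
    intro h h' hh
    have h1 : (h : M) * (x * (h : M)⁻¹ * x⁻¹) = (h' : M) * (x * (h' : M)⁻¹ * x⁻¹) :=
      congrArg Subtype.val hh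
    have h2 : x * ((h' : M)⁻¹ * (h : M)) = ((h' : M)⁻¹ * (h : M)) * x := by
      have e1 : (h : M) * x * (h : M)⁻¹ = (h' : M) * x * (h' : M)⁻¹ := by
        have := congrArg (fun z => z * x) h1
        simpa [mul_assoc] using this
      have e3 := congrArg (fun z => (h' : M)⁻¹ * z * (h : M)) e1
      simp only [mul_assoc, inv_mul_cancel_left, inv_mul_cancel, mul_one] at e3
      rw [mul_assoc]
      exact e3.symm
    have h3 := hx _ (H.mul_mem (H.inv_mem h'.2) h.2) h2
    have h4 : (h : M) = (h' : M) := by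
      have := congrArg (fun z => (h' : M) * z) h3
      simpa [mul_assoc] using this
    exact Subtype.ext h4
  have hsurj : Function.Surjective f := Finite.surjective_of_injective hf
  obtain ⟨h, hh⟩ := hsurj k⁻¹
  have hh' : (h : M) * (x * (h : M)⁻¹ * x⁻¹) = (k : M)⁻¹ := by
    have := congrArg Subtype.val hh
    simpa using this
  -- g commutes with k⁻¹ x = h x h⁻¹
  have hy : (k : M)⁻¹ * x = (h : M) * x * (h : M)⁻¹ := by
    rw [← hh']; simp [mul_assoc]
  have hcomm : ((k : M)⁻¹ * x) * (g : M) = (g : M) * ((k : M)⁻¹ * x) := by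
    have e : x * (g : M) = (k : M) * g * (k : M)⁻¹ * x := by
      rw [hk']; simp [mul_assoc]
    calc ((k : M)⁻¹ * x) * (g : M) = (k : M)⁻¹ * (x * (g : M)) := by rw [mul_assoc]
      _ = (k : M)⁻¹ * ((k : M) * g * (k : M)⁻¹ * x) := by rw [e]
      _ = (g : M) * ((k : M)⁻¹ * x) := by simp [mul_assoc]
  rw [hy] at hcomm
  have hcomm' : x * ((h : M)⁻¹ * g * (h : M)) = ((h : M)⁻¹ * g * (h : M)) * x := by
    have e1 := congrArg (fun z => (h : M)⁻¹ * z * (h : M)) hcomm
    simp only [mul_assoc, inv_mul_cancel_left, inv_mul_cancel, mul_one] at e1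
    simpa [mul_assoc] using e1
  have h5 := hx _ (by simpa using hN.conj_mem g g.2 (h : M)⁻¹) hcomm'
  have h6 : (g : M) = 1 := by
    have := congrArg (fun z => (h : M) * z * (h : M)⁻¹) h5
    simpa [mul_assoc] using this
  exact Subtype.ext h6

/-- Let H be a normal subgroup of the finite group M whose order is coprime to its index. For x ∈ M: some non-principal irreducible character of H is unchanged under h ↦ θ(x h x⁻¹) if and only if some non-identity element of H commutes with x. -/
theorem result {M : Type*} [Group M] [Finite M] (H : Subgroup M) [hN : H.Normal] (hHall : Nat.Coprime (Nat.card H) H.index) (x : M) : (∃ θ : H → ℂ, Cfsg.IsIrrCharacter H θ ∧ θ ≠ (fun _ => 1) ∧ (fun h : H => θ ⟨x * h * x⁻¹, hN.conj_mem h h.2 x⟩) = θ) ↔ ∃ h ∈ H, h ≠ 1 ∧ x * h = h * x := by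
  classical
  have hP : ∀ g : H, (fun C : ConjClasses H => ∀ g : H, ConjClasses.mk g = C →
      IsConj g (conjEquiv H x g)) (ConjClasses.mk g) ↔ IsConj g (conjEquiv H x g) := by
    intro g
    constructor
    · intro h; exact h g rfl
    · intro h g' hg'
      have h1 : IsConj g' g := ConjClasses.mk_eq_mk_iff_isConj.mp hg'
      have h2 : IsConj (conjEquiv H x g') (conjEquiv H x g) := (conjEquiv H x).toMonoidHom.map_isConj h1
      exact h1.trans (h.trans h2.symm)
  have hcard := card_irr_fixed_eq (G := H) (conjEquiv H x)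
    (fun χ => ⟨fun h => (χ : H → ℂ) (conjEquiv H x h), irr_comp_mulEquiv (conjEquiv H x) χ⟩)
    (fun χ g => rfl) (fun C : ConjClasses H => ∀ g : H, ConjClasses.mk g = C →
      IsConj g (conjEquiv H x g)) hP
  have h1irr : IsIrrCharacter H (fun _ => (1 : ℂ)) := isIrrCharacter_one
  constructor
  · rintro ⟨θ, hθ, hθ1, hfix⟩
    by_contra hcon
    push Not at hcon
    have hx : ∀ h ∈ H, x * h = h * x → h = 1 := fun h hh hc => by
      by_contra hne
      exact hcon h hh hne hc
    have hsub : Subsingleton {C : ConjClasses H // ∀ g : H, ConjClasses.mk g = C →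
        IsConj g (conjEquiv H x g)} := by
      constructor
      rintro ⟨C, hC⟩ ⟨C', hC'⟩
      obtain ⟨g, rfl⟩ := ConjClasses.mk_surjective C
      obtain ⟨g', rfl⟩ := ConjClasses.mk_surjective C'
      have e1 := eq_one_of_isConj_conj H x hx g ((hP g).mp hC)
      have e2 := eq_one_of_isConj_conj H x hx g' ((hP g').mp hC')
      apply Subtype.ext
      show ConjClasses.mk g = ConjClasses.mk g'
      rw [e1, e2]
    have hle := Finite.card_le_one_iff_subsingleton.mpr hsub
    rw [← hcard] at hle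
    have hsub' := Finite.card_le_one_iff_subsingleton.mp hle
    have e := hsub'.elim ⟨⟨θ, hθ⟩, Subtype.ext hfix⟩ ⟨⟨fun _ => 1, h1irr⟩, Subtype.ext rfl⟩
    exact hθ1 (congrArg (fun z => (z.1 : H → ℂ)) e)
  · rintro ⟨h, hh, hne, hc⟩
    have hP1 : ∀ g : H, ConjClasses.mk g = ConjClasses.mk 1 → IsConj g (conjEquiv H x g) :=
      (hP 1).mpr (by rw [map_one])
    have hσh : conjEquiv H x ⟨h, hh⟩ = ⟨h, hh⟩ := by
      apply Subtype.ext
      show x * h * x⁻¹ = h
      rw [hc]; simp
    have hPh : ∀ g : H, ConjClasses.mk g = ConjClasses.mk ⟨h, hh⟩ → IsConj g (conjEquiv H x g) :=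
      (hP _).mpr (by rw [hσh])
    have hne' : (⟨ConjClasses.mk 1, hP1⟩ : {C : ConjClasses H // ∀ g : H, ConjClasses.mk g = C →
        IsConj g (conjEquiv H x g)}) ≠ ⟨ConjClasses.mk ⟨h, hh⟩, hPh⟩ := by
      intro e
      have e' : ConjClasses.mk (1 : H) = ConjClasses.mk ⟨h, hh⟩ := congrArg Subtype.val e
      rw [ConjClasses.mk_eq_mk_iff_isConj, isConj_one_right] at e'
      exact hne (congrArg Subtype.val e')
    by_contra hcon
    have key : ∀ c : {χ : IrrCharacter H // (⟨fun h => (χ : H → ℂ) (conjEquiv H x h),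
        irr_comp_mulEquiv (conjEquiv H x) χ⟩ : IrrCharacter H) = χ}, (c.1 : H → ℂ) = fun _ => 1 := by
      intro c
      by_contra hc1
      exact hcon ⟨c.1.1, c.1.2, hc1, congrArg Subtype.val c.2⟩
    have hs : Subsingleton {χ : IrrCharacter H // (⟨fun h => (χ : H → ℂ) (conjEquiv H x h),
        irr_comp_mulEquiv (conjEquiv H x) χ⟩ : IrrCharacter H) = χ} := by
      constructor
      intro a b
      apply Subtype.ext
      apply Subtype.ext
      rw [key a, key b]
    have hle := Finite.card_le_one_iff_subsingleton.mpr hs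
    rw [hcard] at hle
    exact hne' ((Finite.card_le_one_iff_subsingleton.mp hle).elim _ _)

end Cfsg.Agent.S1536
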