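import Cfsg.Statements.S1509
import Mathlib
import Cfsg.Agent.Lib.helper4.CharDecomp

set_option autoImplicit false
open Cfsg

namespace Cfsg.Agent.S1509

open Cfsg.Agent.Lib.helper4

theorem inner_neg_left {X : Type*} [Group X] [Fintype X] (x y : X → ℂ) :
    Cfsg.classInner (-x) y = -Cfsg.classInner x y := by
  have h : (-x) = (-1 : ℂ) • x := by simp
  rw [h, classInner_smul_left]; ring

theorem inner_neg_right {X : Type*} [Group X] [Fintype X] (x y : X → ℂ) :
    Cfsg.classInner x (-y) = -Cfsg.classInner x y := by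
  have h : (-y) = (-1 : ℂ) • y := by simp
  rw [h, classInner_smul_right]; simp

theorem signed_inner {X : Type*} [Group X] [Fintype X] (x y : X → ℂ)
    (hx : Cfsg.IsIrrCharacter X x ∨ Cfsg.IsIrrCharacter X (-x))
    (hy : Cfsg.IsIrrCharacter X y ∨ Cfsg.IsIrrCharacter X (-y)) :
    Cfsg.classInner x y = 0 ∨ (y = x ∧ Cfsg.classInner x y = 1) ∨
      (y = -x ∧ Cfsg.classInner x y = -1) := by
  classical
  have key : ∀ a b : X → ℂ, Cfsg.IsIrrCharacter X a → Cfsg.IsIrrCharacter X b →
      Cfsg.classInner a b = 0 ∨ (b = a ∧ Cfsg.classInner a b = 1) := by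
    intro a b ha hb
    rw [classInner_irr ha hb]
    by_cases h : a = b
    · right; exact ⟨h.symm, by rw [if_pos h]⟩
    · left; rw [if_neg h]
  rcases hx with hx | hx <;> rcases hy with hy | hy
  · rcases key x y hx hy with h | ⟨h, h'⟩
    · left; exact h
    · right; left; exact ⟨h, h'⟩
  · have e : Cfsg.classInner x y = -Cfsg.classInner x (-y) := by rw [inner_neg_right]; ring
    rcases key x (-y) hx hy with h | ⟨h, h'⟩
    · left; rw [e, h]; ring
    · right; right; refine ⟨by rw [← h]; simp, by rw [e, h']⟩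
  · have e : Cfsg.classInner x y = -Cfsg.classInner (-x) y := by rw [inner_neg_left]; ring
    rcases key (-x) y hx hy with h | ⟨h, h'⟩
    · left; rw [e, h]; ring
    · right; right; refine ⟨h, by rw [e, h']⟩
  · have e : Cfsg.classInner x y = Cfsg.classInner (-x) (-y) := by
      rw [inner_neg_left, inner_neg_right]; ring
    rcases key (-x) (-y) hx hy with h | ⟨h, h'⟩
    · left; rw [e, h]
    · right; left; refine ⟨neg_injective h, by rw [e, h']⟩

theorem signed_degree_ne_zero {X : Type*} [Group X] [Fintype X] (x : X → ℂ)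
    (hx : Cfsg.IsIrrCharacter X x ∨ Cfsg.IsIrrCharacter X (-x)) : x 1 ≠ 0 := by
  rcases hx with hx | hx
  · exact irr_degree_ne_zero hx
  · have := irr_degree_ne_zero hx
    intro h
    apply this
    simp [h]

/-- Let α, β, γ, δ be functions on a finite group X each of which is an irreducible character or the negative of one, and u, v nonzero real numbers. Suppose ⟨α, β⟩ = ⟨γ, δ⟩ = 0, ⟨α − β, uγ − vδ⟩ = 0, α 1 = β 1 and u γ 1 = v δ 1. Then also ⟨α, γ⟩ = ⟨α, δ⟩ = ⟨β, γ⟩ = ⟨β, δ⟩ = 0. -/
theorem result {X : Type*} [Group X] [Fintype X] (α β γ δ : X → ℂ) (hα : Cfsg.IsIrrCharacter X α ∨ Cfsg.IsIrrCharacter X (-α)) (hβ : Cfsg.IsIrrCharacter X β ∨ Cfsg.IsIrrCharacter X (-β)) (hγ : Cfsg.IsIrrCharacter X γ ∨ Cfsg.IsIrrCharacter X (-γ)) (hδ : Cfsg.IsIrrCharacter X δ ∨ Cfsg.IsIrrCharacter X (-δ)) (u v : ℝ) (hu : u ≠ 0) (hv : v ≠ 0) (hab : Cfsg.classInner α β = 0) (hcd : Cfsg.classInner γ δ = 0) (hmix : Cfsg.classInner (α - β) ((u : ℂ) • γ - (v : ℂ) • δ) = 0) (h1 : α 1 = β 1) (h2 : (u : ℂ) * γ 1 = (v : ℂ)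 * δ 1) : Cfsg.classInner α γ = 0 ∧ Cfsg.classInner α δ = 0 ∧ Cfsg.classInner β γ = 0 ∧ Cfsg.classInner β δ = 0 := by
  have hba : Cfsg.classInner β α = 0 := by
    rw [← classInner_conj_symm, hab]; simp
  have hdc : Cfsg.classInner δ γ = 0 := by
    rw [← classInner_conj_symm, hcd]; simp
  have hα1 := signed_degree_ne_zero α hα
  have huC : (u : ℂ) ≠ 0 := by exact_mod_cast hu
  have hvC : (v : ℂ) ≠ 0 := by exact_mod_cast hv
  have hmix' : (u : ℂ) * Cfsg.classInner α γ - (v : ℂ) * Cfsg.classInner α δ
      - (u : ℂ) * Cfsg.classInner β γ + (v : ℂ) * Cfsg.classInner β δ = 0 := by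
    rw [classInner_sub_left, classInner_sub_right, classInner_sub_right,
      classInner_smul_right, classInner_smul_right, classInner_smul_right,
      classInner_smul_right, Complex.conj_ofReal, Complex.conj_ofReal] at hmix
    linear_combination hmix
  rcases signed_inner α γ hα hγ with hp | ⟨hp, hp'⟩ | ⟨hp, hp'⟩
  · rcases signed_inner α δ hα hδ with hq | ⟨hq, hq'⟩ | ⟨hq, hq'⟩
    · rcases signed_inner β γ hβ hγ with hr | ⟨hr, hr'⟩ | ⟨hr, hr'⟩
      · have ht : Cfsg.classInner β δ = 0 := by
          rw [hp, hq, hr] at hmix'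
          have : (v : ℂ) * Cfsg.classInner β δ = 0 := by linear_combination hmix'
          rcases mul_eq_zero.mp this with h | h
          · exact absurd h hvC
          · exact h
        exact ⟨hp, hq, hr, ht⟩
      · exfalso
        have ht : Cfsg.classInner β δ = 0 := by rw [← hr]; exact hcd
        rw [hp, hq, hr', ht] at hmix'
        grind
      · exfalso
        have ht : Cfsg.classInner β δ = 0 := by
          have : β = -γ := by rw [hr]; simp
          rw [this, inner_neg_left, hcd]; ring
        rw [hp, hq, hr', ht] at hmix'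
        grind
    · exfalso
      have ht : Cfsg.classInner β δ = 0 := by rw [hq]; exact hba
      rcases signed_inner β γ hβ hγ with hr | ⟨hr, hr'⟩ | ⟨hr, hr'⟩
      · rw [hp, hq', hr, ht] at hmix'
        grind
      · rw [hp, hq', hr', ht] at hmix'
        rw [hr, hq] at h2
        grind
      · rw [hp, hq', hr', ht] at hmix'
        rw [hr, hq] at h2
        simp only [Pi.neg_apply] at h2
        grind
    · exfalso
      have ht : Cfsg.classInner β δ = 0 := by rw [hq, inner_neg_right, hba]; ring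
      rcases signed_inner β γ hβ hγ with hr | ⟨hr, hr'⟩ | ⟨hr, hr'⟩
      · rw [hp, hq', hr, ht] at hmix'
        grind
      · rw [hp, hq', hr', ht] at hmix'
        rw [hr, hq] at h2
        simp only [Pi.neg_apply] at h2
        grind
      · rw [hp, hq', hr', ht] at hmix'
        rw [hr, hq] at h2
        simp only [Pi.neg_apply] at h2
        grind
  · exfalso
    have hq : Cfsg.classInner α δ = 0 := by rw [← hp]; exact hcd
    have hr : Cfsg.classInner β γ = 0 := by rw [hp]; exact hba
    rcases signed_inner β δ hβ hδ with ht | ⟨ht, ht'⟩ | ⟨ht, ht'⟩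
    · rw [hp', hq, hr, ht] at hmix'
      grind
    · rw [hp', hq, hr, ht'] at hmix'
      rw [hp, ht] at h2
      grind
    · rw [hp', hq, hr, ht'] at hmix'
      rw [hp, ht] at h2
      simp only [Pi.neg_apply] at h2
      grind
  · exfalso
    have hq : Cfsg.classInner α δ = 0 := by
      have : α = -γ := by rw [hp]; simp
      rw [this, inner_neg_left, hcd]; ring
    have hr : Cfsg.classInner β γ = 0 := by rw [hp, inner_neg_right, hba]; ring
    rcases signed_inner β δ hβ hδ with ht | ⟨ht, ht'⟩ | ⟨ht, ht'⟩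
    · rw [hp', hq, hr, ht] at hmix'
      grind
    · rw [hp', hq, hr, ht'] at hmix'
      rw [hp, ht] at h2
      simp only [Pi.neg_apply] at h2
      grind
    · rw [hp', hq, hr, ht'] at hmix'
      rw [hp, ht] at h2
      simp only [Pi.neg_apply] at h2
      grind

end Cfsg.Agent.S1509
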