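import Cfsg.Statements.S1514
import Mathlib
import Cfsg.Agent.Lib.helper4.CharDecomp
import Cfsg.Agent.Lib.helper32.Coh
import Cfsg.Agent.Lib.helper32.Coh2
import Cfsg.Agent.S1509

set_option autoImplicit false
open Cfsg

namespace Cfsg.Agent.S1514

open Cfsg.Agent.Lib.helper4 Cfsg.Agent.Lib.helper32

/-- Let S be a nonempty set of irreducible characters of the finite group L, closed under complex conjugation and containing no real-valued member, and τ a linear isometry on the integer combinations of S vanishing at 1, with values virtual characters of G vanishing at 1. Then there is a choice R making (S, τ, R) a coherence system. -/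
theorem result {L : Type*} [Group L] [Fintype L] {G : Type*} [Group G] [Fintype G] (S : Set (L → ℂ)) (hS : S.Nonempty) (hirr : ∀ χ ∈ S, Cfsg.IsIrrCharacter L χ) (hconj : ∀ χ ∈ S, Cfsg.conjFun χ ∈ S ∧ Cfsg.conjFun χ ≠ χ) (τ : (L → ℂ) → (G → ℂ)) (hτ : Cfsg.IsLinearIsometryOn (Cfsg.zspanOn S {1}ᶜ) τ) (hτ1 : ∀ α ∈ Cfsg.zspanOn S {1}ᶜ, τ α 1 = 0) : ∃ R : (L → ℂ) → Finset (G → ℂ), Cfsg.IsCoherenceSystem S τ R := by
  classical
  have hmem : ∀ χ ∈ S, χ - Cfsg.conjFun χ ∈ Cfsg.zspanOn S {1}ᶜ := by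
    intro χ hχ
    refine ⟨zspan_sub_mem (mem_zspan_of_mem hχ) (mem_zspan_of_mem (hconj χ hχ).1), ?_⟩
    intro x hx
    have hx1 : x = 1 := by simpa using hx
    rw [hx1, Pi.sub_apply, conjFun_degree_of_isCharacter (isCharacter_of_isIrrCharacter (hirr χ hχ))]
    ring
  have horth : ∀ χ ∈ S, ∀ φ ∈ S, χ ≠ φ → Cfsg.classInner χ φ = 0 :=
    fun χ hχ φ hφ hne => classInner_irr_ne (hirr χ hχ) (hirr φ hφ) hne
  have key : ∀ χ ∈ S, ∃ μ₁ μ₂ : G → ℂ, Cfsg.IsIrrCharacter G μ₁ ∧ Cfsg.IsIrrCharacter G μ₂ ∧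
      μ₁ ≠ μ₂ ∧ τ (χ - Cfsg.conjFun χ) = μ₁ - μ₂ := by
    intro χ hχ
    apply norm_two_degree_zero (hτ.2.2.2 _ (hmem χ hχ)) ?_ (hτ1 _ (hmem χ hχ))
    rw [hτ.2.2.1 _ (hmem χ hχ) _ (hmem χ hχ), classInner_sub_left, classInner_sub_right,
      classInner_sub_right, classInner_irr_self (hirr χ hχ),
      classInner_irr_self (hirr _ (hconj χ hχ).1),
      horth χ hχ _ (hconj χ hχ).1 (Ne.symm (hconj χ hχ).2),
      horth _ (hconj χ hχ).1 χ hχ (hconj χ hχ).2]
    norm_num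
  choose! μ₁ μ₂ hμ₁ hμ₂ hne hτeq using key
  have hne' : ∀ χ ∈ S, μ₁ χ ≠ -μ₂ χ := by
    intro χ hχ hh
    have e := classInner_irr_self (hμ₁ χ hχ)
    have e' := classInner_irr_ne (hμ₁ χ hχ) (hμ₂ χ hχ) (hne χ hχ)
    have e'' : Cfsg.classInner (μ₁ χ) (-μ₂ χ) = 0 := by rw [classInner_neg_right, e']; ring
    rw [← hh, e] at e''
    exact one_ne_zero e''
  have hdeg : ∀ χ ∈ S, μ₁ χ 1 = μ₂ χ 1 := by
    intro χ hχ
    have h := hτ1 _ (hmem χ hχ)
    rw [hτeq χ hχ, Pi.sub_apply] at h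
    linear_combination h
  refine ⟨fun χ => {μ₁ χ, -μ₂ χ}, ?_⟩
  refine ⟨hS, fun χ hχ => isCharacter_of_isIrrCharacter (hirr χ hχ), fun χ hχ => (hconj χ hχ).1,
    fun χ hχ => (hconj χ hχ).2, hτ, hτ1, horth, ?_, ?_, ?_, ?_⟩
  · intro χ hχ α hα β hβ
    simp only [Finset.mem_insert, Finset.mem_singleton] at hα hβ
    rcases hα with rfl | rfl <;> rcases hβ with rfl | rfl
    · rw [if_pos rfl]; exact classInner_irr_self (hμ₁ χ hχ)
    · rw [if_neg (hne' χ hχ), classInner_neg_right,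
        classInner_irr_ne (hμ₁ χ hχ) (hμ₂ χ hχ) (hne χ hχ)]
      ring
    · rw [if_neg (Ne.symm (hne' χ hχ)), classInner_neg_left,
        classInner_irr_ne (hμ₂ χ hχ) (hμ₁ χ hχ) (Ne.symm (hne χ hχ))]
      ring
    · rw [if_pos rfl, classInner_neg_left, classInner_neg_right, classInner_irr_self (hμ₂ χ hχ)]
      ring
  · intro χ hχ α hα
    simp only [Finset.mem_insert, Finset.mem_singleton] at hα
    rcases hα with rfl | rfl
    · exact isGeneralizedCharacter_of_isIrrCharacter (hμ₁ χ hχ)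
    · exact isGeneralizedCharacter_neg (isGeneralizedCharacter_of_isIrrCharacter (hμ₂ χ hχ))
  · intro χ hχ
    rw [hτeq χ hχ, Finset.sum_pair (hne' χ hχ)]
    ring
  · intro χ hχ φ hφ h1 h2 α hα β hβ
    have hχ' := (hconj χ hχ).1
    have hφ' := (hconj φ hφ).1
    have h3 : Cfsg.classInner (Cfsg.conjFun φ) χ = 0 := by
      rw [classInner_conjFun_left, h2]; simp
    have h4 : Cfsg.classInner (Cfsg.conjFun φ) (Cfsg.conjFun χ) = 0 := by
      rw [classInner_conjFun_conjFun, h1]; simp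
    have hmix : Cfsg.classInner (μ₁ φ - μ₂ φ) (μ₁ χ - μ₂ χ) = 0 := by
      rw [← hτeq φ hφ, ← hτeq χ hχ, hτ.2.2.1 _ (hmem φ hφ) _ (hmem χ hχ), classInner_sub_left,
        classInner_sub_right, classInner_sub_right, h1, h2, h3, h4]
      ring
    have hres := Cfsg.Agent.S1509.result (μ₁ φ) (μ₂ φ) (μ₁ χ) (μ₂ χ) (Or.inl (hμ₁ φ hφ))
      (Or.inl (hμ₂ φ hφ)) (Or.inl (hμ₁ χ hχ)) (Or.inl (hμ₂ χ hχ)) 1 1 one_ne_zero one_ne_zero
      (classInner_irr_ne (hμ₁ φ hφ) (hμ₂ φ hφ) (hne φ hφ))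
      (classInner_irr_ne (hμ₁ χ hχ) (hμ₂ χ hχ) (hne χ hχ))
      (by simpa using hmix) (hdeg φ hφ) (by simpa using hdeg χ hχ)
    obtain ⟨r1, r2, r3, r4⟩ := hres
    simp only [Finset.mem_insert, Finset.mem_singleton] at hα hβ
    rcases hα with rfl | rfl <;> rcases hβ with rfl | rfl
    · exact r1
    · rw [classInner_neg_right, r2]; ring
    · rw [classInner_neg_left, r3]; ring
    · rw [classInner_neg_left, classInner_neg_right, r4]; ring

end Cfsg.Agent.S1514
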