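import Cfsg.Statements.S1517
import Mathlib
import Cfsg.Agent.Lib.helper32.Coh6

set_option autoImplicit false
open Cfsg

namespace Cfsg.Agent.S1517

open Cfsg.Agent.Lib.helper4 Cfsg.Agent.Lib.helper32

/-- Let (S, τ, R) be a coherence system from L to G such that φ 1 = ψ 1 for all φ, ψ ∈ S. Then (S, L minus 1, τ) is coherent. -/
theorem result {L : Type*} [Group L] [Fintype L] {G : Type*} [Group G] [Fintype G] (S : Set (L → ℂ)) (τ : (L → ℂ) → (G → ℂ)) (R : (L → ℂ) → Finset (G → ℂ)) (hS : Cfsg.IsCoherenceSystem S τ R) (hdeg : ∀ φ ∈ S, ∀ ψ ∈ S, φ 1 = ψ 1) : Cfsg.IsCoherent S {1}ᶜ τ := by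
  classical
  obtain ⟨χ₀, hχ₀⟩ := hS.nonempty
  have hτ := cs_lio hS
  obtain ⟨n₀, hn₀pos, hn₀⟩ := cs_norm_nat hS hχ₀
  obtain ⟨d₀, hd₀pos, hd₀⟩ := cs_degree_nat hS hχ₀
  -- Step 1: the coefficient function
  have hc : ∃ c : (G → ℂ) → ℤ,
      ((∑ α ∈ R χ₀, c α : ℤ) : ℂ) = classInner χ₀ χ₀ ∧
      ((∑ α ∈ R χ₀, c α ^ 2 : ℤ) : ℂ) = classInner χ₀ χ₀ ∧
      ∀ ψ ∈ S, ψ ≠ χ₀ → ψ ≠ conjFun χ₀ →
        classInner (∑ α ∈ R χ₀, (c α : ℂ) • α) (τ (χ₀ - ψ)) = classInner χ₀ χ₀ := by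
    by_cases hA : ∃ ψ₀ ∈ S, ψ₀ ≠ χ₀ ∧ ψ₀ ≠ conjFun χ₀
    · obtain ⟨ψ₀, hψ₀, h1, h2⟩ := hA
      obtain ⟨c, hdec, hsum, hsq⟩ := cs_two_sided hS hχ₀ hψ₀ h1 h2 (hdeg χ₀ hχ₀ ψ₀ hψ₀)
      refine ⟨c, hsum, hsq, ?_⟩
      intro ψ hψ h3 h4
      have e : χ₀ - ψ = (χ₀ - ψ₀) + (ψ₀ - ψ) := by abel
      rw [e, lio_add hτ (cs_sub_mem hS hχ₀ hψ₀ (hdeg _ hχ₀ _ hψ₀))
        (cs_sub_mem hS hψ₀ hψ (hdeg _ hψ₀ _ hψ)), classInner_add_right]
      have hz : classInner (∑ α ∈ R χ₀, (c α : ℂ) • α) (τ (ψ₀ - ψ)) = 0 := by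
        rw [classInner_sum_left]
        apply Finset.sum_eq_zero
        intro α hα
        rw [classInner_smul_left, classInner_comm_of_eq_zero
          (cs_tau_sub_orth hS hχ₀ hψ₀ hψ h1 h2 h3 h4 (hdeg _ hψ₀ _ hψ) α hα), mul_zero]
      rw [hz, add_zero, hdec, classInner_add_right,
        orthonormal_sum_inner (R χ₀) (cs_R_norm hS hχ₀) (cs_R_orth hS hχ₀),
        sum_smul_inner_eq_zero (R χ₀) (R ψ₀) (cs_R_cross' hS hχ₀ hψ₀ h1 h2), add_zero, ← hsq]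
      congr 1
      apply Finset.sum_congr rfl
      intro α _
      ring
    · push Not at hA
      have hcard := cs_card_R hS hχ₀
      rw [hn₀] at hcard
      have hcard' : (R χ₀).card = 2 * n₀ := by exact_mod_cast hcard
      obtain ⟨R', hR'sub, hR'card⟩ :=
        Finset.exists_subset_card_eq (s := R χ₀) (n := n₀) (by omega)
      have hcount : ∑ α ∈ R χ₀, (if α ∈ R' then (1 : ℤ) else 0) = n₀ := by
        rw [← Finset.sum_filter, Finset.filter_mem_eq_inter, Finset.inter_eq_right.mpr hR'sub]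
        simp [hR'card]
      refine ⟨fun α => if α ∈ R' then 1 else 0, ?_, ?_, ?_⟩
      · rw [hn₀, hcount]; simp
      · have hcount2 : ∑ α ∈ R χ₀, (fun α => if α ∈ R' then (1 : ℤ) else 0) α ^ 2 = n₀ := by
          rw [← hcount]
          apply Finset.sum_congr rfl
          intro α _
          by_cases h : α ∈ R'
          · simp only [if_pos h]; norm_num
          · simp only [if_neg h]; norm_num
        rw [hn₀, hcount2]; simp
      · intro ψ hψ h3 h4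
        exact absurd (hA ψ hψ h3) h4
  obtain ⟨c, hsum, hsq, hcross⟩ := hc
  set Z₀ : G → ℂ := ∑ α ∈ R χ₀, (c α : ℂ) • α with hZ₀
  have hZ₀virt : IsGeneralizedCharacter G Z₀ :=
    isGeneralizedCharacter_sum_smul (R χ₀) (hS.virtual χ₀ hχ₀) c
  have hZ₀norm : classInner Z₀ Z₀ = classInner χ₀ χ₀ := by
    rw [hZ₀, orthonormal_sum_inner (R χ₀) (cs_R_norm hS hχ₀) (cs_R_orth hS hχ₀), ← hsq]
    congr 1
    apply Finset.sum_congr rfl
    intro α _
    ring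
  have hZ₀τ : ∀ ψ ∈ S, ψ ≠ χ₀ → classInner Z₀ (τ (χ₀ - ψ)) = classInner χ₀ χ₀ := by
    intro ψ hψ h3
    by_cases h4 : ψ = conjFun χ₀
    · rw [h4, hS.sum_eq χ₀ hχ₀, hZ₀,
        orthonormal_sum_inner_one (R χ₀) (cs_R_norm hS hχ₀) (cs_R_orth hS hχ₀), hsum]
    · exact hcross ψ hψ h3 h4
  have hZ₀τ' : ∀ ψ ∈ S, ψ ≠ χ₀ → classInner (τ (χ₀ - ψ)) Z₀ = classInner χ₀ χ₀ := by
    intro ψ hψ h3
    rw [← classInner_conj_symm, hZ₀τ ψ hψ h3, hn₀]
    simp
  -- the assignment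
  let Z : (L → ℂ) → (G → ℂ) := fun χ => Z₀ - τ (χ₀ - χ)
  have hmem : ∀ χ ∈ S, χ₀ - χ ∈ zspanOnSub S {1}ᶜ :=
    fun χ hχ => cs_sub_mem hS hχ₀ hχ (hdeg _ hχ₀ _ hχ)
  have hZvirt : ∀ χ ∈ S, IsGeneralizedCharacter G (Z χ) :=
    fun χ hχ => isGeneralizedCharacter_sub hZ₀virt (lio_gen hτ (hmem χ hχ))
  have hZi : ∀ χ ∈ S, ∀ ψ ∈ S, classInner (Z χ) (Z ψ) = classInner χ ψ := by
    intro χ hχ ψ hψ
    show classInner (Z₀ - τ (χ₀ - χ)) (Z₀ - τ (χ₀ - ψ)) = classInner χ ψ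
    rw [classInner_sub_left, classInner_sub_right, classInner_sub_right,
      lio_inner hτ (hmem χ hχ) (hmem ψ hψ), hZ₀norm]
    by_cases e1 : χ = χ₀
    · by_cases e2 : ψ = χ₀
      · rw [e1, e2, sub_self, lio_zero hτ, classInner_zero_left, classInner_zero_right,
          classInner_zero_left]
        ring
      · rw [e1, sub_self, lio_zero hτ, classInner_zero_left, classInner_zero_left,
          hZ₀τ ψ hψ e2, hS.orthogonal χ₀ hχ₀ ψ hψ (Ne.symm e2)]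
        ring
    · by_cases e2 : ψ = χ₀
      · rw [e2, sub_self, lio_zero hτ, classInner_zero_right, classInner_zero_right,
          hZ₀τ' χ hχ e1, hS.orthogonal χ hχ χ₀ hχ₀ e1]
        ring
      · rw [hZ₀τ ψ hψ e2, hZ₀τ' χ hχ e1, classInner_sub_left, classInner_sub_right,
          classInner_sub_right, hS.orthogonal χ₀ hχ₀ ψ hψ (Ne.symm e2),
          hS.orthogonal χ hχ χ₀ hχ₀ e1]
        ring
  obtain ⟨τ₁, hτ₁, hτ₁S⟩ := lio_of_orthogonal S Z (fun χ hχ => cs_norm_ne_zero hS hχ)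
    hS.orthogonal hZvirt hZi
  refine ⟨⟨χ₀ - conjFun χ₀, cs_sub_conj_mem hS hχ₀, ?_⟩, τ₁, hτ₁, ?_⟩
  · intro h
    exact hS.conj_ne χ₀ hχ₀ (sub_eq_zero.mp h).symm
  · have hτ₁' : IsLinearIsometryOn
        ((Submodule.span ℤ S : Submodule ℤ (L → ℂ)) : Set (L → ℂ)) τ₁ := hτ₁
    have key : ∀ θ ∈ Submodule.span ℤ S, ∃ k : ℤ, θ - k • χ₀ ∈ zspanOnSub S {1}ᶜ ∧
        τ₁ θ = τ (θ - k • χ₀) + k • Z₀ := by
      intro θ hθ
      induction hθ using Submodule.span_induction with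
      | mem x hx =>
        refine ⟨1, ?_, ?_⟩
        · rw [one_smul]; exact cs_sub_mem hS hx hχ₀ (hdeg _ hx _ hχ₀)
        · rw [one_smul, one_smul, hτ₁S x hx]
          show Z₀ - τ (χ₀ - x) = τ (x - χ₀) + Z₀
          have : x - χ₀ = -(χ₀ - x) := by abel
          rw [this, lio_neg hτ (hmem x hx)]
          abel
      | zero =>
        refine ⟨0, ?_, ?_⟩
        · rw [zero_smul, sub_zero]; exact Submodule.zero_mem _
        · rw [zero_smul, sub_zero, zero_smul, add_zero, lio_zero hτ₁', lio_zero hτ]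
      | add a b ha hb iha ihb =>
        obtain ⟨k, hk, hk'⟩ := iha
        obtain ⟨l, hl, hl'⟩ := ihb
        have e : a + b - (k + l) • χ₀ = (a - k • χ₀) + (b - l • χ₀) := by
          rw [add_smul]; abel
        refine ⟨k + l, ?_, ?_⟩
        · rw [e]; exact Submodule.add_mem _ hk hl
        · rw [e, lio_add hτ hk hl, lio_add hτ₁' ha hb, hk', hl', add_smul]
          abel
      | smul n a ha iha =>
        obtain ⟨k, hk, hk'⟩ := iha
        have e : n • a - (n * k) • χ₀ = n • (a - k • χ₀) := by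
          rw [smul_sub, mul_smul]
        refine ⟨n * k, ?_, ?_⟩
        · rw [e]; exact Submodule.smul_mem _ n hk
        · rw [e, lio_zsmul hτ hk, lio_zsmul hτ₁' ha, hk', smul_add, mul_smul]
    intro θ hθ
    obtain ⟨k, hk, hk'⟩ := key θ hθ.1
    have hk0 : k = 0 := by
      have h1 := apply_one_of_mem_zspanOn_compl_one hθ
      have h2 : (θ - k • χ₀) 1 = 0 := apply_one_of_mem_zspanOn_compl_one hk
      rw [Pi.sub_apply, h1, Pi.smul_apply, hd₀] at h2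
      have h3 : (k : ℂ) * (d₀ : ℂ) = 0 := by
        simpa using h2
      rcases mul_eq_zero.mp h3 with h | h
      · exact_mod_cast h
      · exfalso
        have : d₀ = 0 := by exact_mod_cast h
        omega
    rw [hk', hk0, zero_smul, sub_zero, zero_smul, add_zero]

end Cfsg.Agent.S1517
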