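import Cfsg.Statements.S1531
import Mathlib
import Cfsg.Agent.Lib.helper4.CharDecomp
import Cfsg.Agent.Lib.helper32.Coh
import Cfsg.Agent.Lib.helper32.Coh3

set_option autoImplicit false
open Cfsg

namespace Cfsg.Agent.S1531

open Cfsg.Agent.Lib.helper4 Cfsg.Agent.Lib.helper32

/-- Let N be a subgroup of the finite group G, S a set of irreducible characters of N, and α a linear isometry on the integer combinations of S vanishing at 1 with values virtual characters of G vanishing at 1. Let X, Y ⊆ S be disjoint, each with at least two members, and σ, τ linear isometries on ℤ[X], ℤ[Y] into virtual characters agreeing with α on the members vanishing at 1. Then ⟨σ χ, τ η⟩ = 0 for χ ∈ X, η ∈ Y; and if for some χ₀ ∈ X, η₀ ∈ Y with degrees c = χ₀ 1, e = η₀ 1 one has α (c • η₀ − e • χ₀) = c • τ η₀ − e • σ χ₀, then (X ∪ Y, N minus 1, α) is coherent. -/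
theorem result {G : Type*} [Group G] [Fintype G] (N : Subgroup G) [Fintype N] (S X Y : Set (N → ℂ)) (hirr : ∀ ξ ∈ S, Cfsg.IsIrrCharacter N ξ) (hXS : X ⊆ S) (hYS : Y ⊆ S) (hXY : Disjoint X Y) (hX2 : ∃ a ∈ X, ∃ b ∈ X, a ≠ b) (hY2 : ∃ a ∈ Y, ∃ b ∈ Y, a ≠ b) (α : (N → ℂ) → (G → ℂ)) (hα : Cfsg.IsLinearIsometryOn (Cfsg.zspanOn S {1}ᶜ) α) (hα1 : ∀ θ ∈ Cfsg.zspanOn S {1}ᶜ, α θ 1 = 0) (σ τ : (N → ℂ) → (G → ℂ)) (hσ : Cfsg.IsLinearIsometryOn (Cfsg.zspan X) σ) (hσα : ∀ θ ∈ Cfsg.zspanOn X {1}ᶜ, σ θ = α θ) (hτ : Cfsg.IsLinearIsometryOn (Cfsg.zspan Y) τ) (hτα : ∀ θ ∈ Cfsg.zspanOn Y {1}ᶜ, τ θ = α θ) : (∀ χ ∈ X, ∀ η ∈ Y, Cfsg.classInner (σ χ) (τ η) = 0) ∧ ((∃ χ₀ ∈ X, ∃ η₀ ∈ Y, α (χ₀ 1 • η₀ - η₀ 1 • χ₀) = χ₀ 1 • τ η₀ - η₀ 1 • σ χ₀) → Cfsg.IsCoherent (X ∪ Y) {1}ᶜ α) := by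
  classical
  have hσ' : Cfsg.IsLinearIsometryOn
      ((Submodule.span ℤ X : Submodule ℤ (N → ℂ)) : Set (N → ℂ)) σ := hσ
  have hτ' : Cfsg.IsLinearIsometryOn
      ((Submodule.span ℤ Y : Submodule ℤ (N → ℂ)) : Set (N → ℂ)) τ := hτ
  have hα' : Cfsg.IsLinearIsometryOn
      ((zspanOnSub S {1}ᶜ : Submodule ℤ (N → ℂ)) : Set (N → ℂ)) α := hα
  have hXm : ∀ χ ∈ X, χ ∈ (Submodule.span ℤ X : Submodule ℤ (N → ℂ)) :=
    fun χ hχ => Submodule.subset_span hχ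
  have hYm : ∀ χ ∈ Y, χ ∈ (Submodule.span ℤ Y : Submodule ℤ (N → ℂ)) :=
    fun χ hχ => Submodule.subset_span hχ
  have hXS' : ∀ θ, θ ∈ (Submodule.span ℤ X : Submodule ℤ (N → ℂ)) → θ 1 = 0 →
      θ ∈ Cfsg.zspanOn S {1}ᶜ :=
    fun θ hθ h => zspanOn_mono hXS _ (mem_zspanOn_compl_one hθ h)
  have hYS' : ∀ θ, θ ∈ (Submodule.span ℤ Y : Submodule ℤ (N → ℂ)) → θ 1 = 0 →
      θ ∈ Cfsg.zspanOn S {1}ᶜ :=
    fun θ hθ h => zspanOn_mono hYS _ (mem_zspanOn_compl_one hθ h)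
  have hσα' : ∀ θ, θ ∈ (Submodule.span ℤ X : Submodule ℤ (N → ℂ)) → θ 1 = 0 → σ θ = α θ :=
    fun θ hθ h => hσα θ (mem_zspanOn_compl_one hθ h)
  have hτα' : ∀ θ, θ ∈ (Submodule.span ℤ Y : Submodule ℤ (N → ℂ)) → θ 1 = 0 → τ θ = α θ :=
    fun θ hθ h => hτα θ (mem_zspanOn_compl_one hθ h)
  have hXYne : ∀ x ∈ X, ∀ y ∈ Y, x ≠ y := by
    intro x hx y hy hxy
    exact Set.disjoint_left.mp hXY hx (hxy ▸ hy)
  have horthXY : ∀ x ∈ X, ∀ y ∈ Y, Cfsg.classInner x y = 0 :=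
    fun x hx y hy => classInner_irr_ne (hirr x (hXS hx)) (hirr y (hYS hy)) (hXYne x hx y hy)
  have horth := classInner_span_span_eq_zero' X Y horthXY
  have hσirr : ∀ χ ∈ X, Cfsg.IsIrrCharacter G (σ χ) ∨ Cfsg.IsIrrCharacter G (-σ χ) := by
    intro χ hχ
    apply isIrrCharacter_or_neg_of_norm_one (lio_gen hσ' (hXm χ hχ))
    rw [lio_inner hσ' (hXm χ hχ) (hXm χ hχ)]
    exact classInner_irr_self (hirr χ (hXS hχ))
  have hτirr : ∀ χ ∈ Y, Cfsg.IsIrrCharacter G (τ χ) ∨ Cfsg.IsIrrCharacter G (-τ χ) := by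
    intro χ hχ
    apply isIrrCharacter_or_neg_of_norm_one (lio_gen hτ' (hYm χ hχ))
    rw [lio_inner hτ' (hYm χ hχ) (hYm χ hχ)]
    exact classInner_irr_self (hirr χ (hYS hχ))
  -- Claim 1
  have claim1 : ∀ χ ∈ X, ∀ η ∈ Y, Cfsg.classInner (σ χ) (τ η) = 0 := by
    intro χ hχ η hη
    have hex : ∃ χ' ∈ X, χ' ≠ χ := by
      obtain ⟨a, ha, b, hb, hab⟩ := hX2
      by_cases h : a = χ
      · exact ⟨b, hb, fun hb' => hab (h.trans hb'.symm)⟩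
      · exact ⟨a, ha, h⟩
    have hey : ∃ η' ∈ Y, η' ≠ η := by
      obtain ⟨a, ha, b, hb, hab⟩ := hY2
      by_cases h : a = η
      · exact ⟨b, hb, fun hb' => hab (h.trans hb'.symm)⟩
      · exact ⟨a, ha, h⟩
    obtain ⟨χ', hχ', hne⟩ := hex
    obtain ⟨η', hη', hne'⟩ := hey
    obtain ⟨n, hn, hn1⟩ := exists_pos_nat_degree (hirr χ (hXS hχ))
    obtain ⟨n', hn', hn1'⟩ := exists_pos_nat_degree (hirr χ' (hXS hχ'))
    obtain ⟨m, hm, hm1⟩ := exists_pos_nat_degree (hirr η (hYS hη))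
    obtain ⟨m', hm', hm1'⟩ := exists_pos_nat_degree (hirr η' (hYS hη'))
    have ha : ((n' : ℤ) • χ - (n : ℤ) • χ') ∈ (Submodule.span ℤ X : Submodule ℤ (N → ℂ)) :=
      Submodule.sub_mem _ (Submodule.smul_mem _ _ (hXm χ hχ)) (Submodule.smul_mem _ _ (hXm χ' hχ'))
    have hb : ((m' : ℤ) • η - (m : ℤ) • η') ∈ (Submodule.span ℤ Y : Submodule ℤ (N → ℂ)) :=
      Submodule.sub_mem _ (Submodule.smul_mem _ _ (hYm η hη)) (Submodule.smul_mem _ _ (hYm η' hη'))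
    have ha1 : ((n' : ℤ) • χ - (n : ℤ) • χ') 1 = 0 := by
      simp [hn1, hn1']; ring
    have hb1 : ((m' : ℤ) • η - (m : ℤ) • η') 1 = 0 := by
      simp [hm1, hm1']; ring
    have hσa : σ ((n' : ℤ) • χ - (n : ℤ) • χ') = ((n' : ℝ) : ℂ) • σ χ - ((n : ℝ) : ℂ) • σ χ' := by
      rw [lio_sub hσ' (Submodule.smul_mem _ _ (hXm χ hχ)) (Submodule.smul_mem _ _ (hXm χ' hχ')),
        lio_zsmul hσ' (hXm χ hχ), lio_zsmul hσ' (hXm χ' hχ')]
      funext g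
      simp
    have hτb : τ ((m' : ℤ) • η - (m : ℤ) • η') = ((m' : ℝ) : ℂ) • τ η - ((m : ℝ) : ℂ) • τ η' := by
      rw [lio_sub hτ' (Submodule.smul_mem _ _ (hYm η hη)) (Submodule.smul_mem _ _ (hYm η' hη')),
        lio_zsmul hτ' (hYm η hη), lio_zsmul hτ' (hYm η' hη')]
      funext g
      simp
    have hmix : Cfsg.classInner (((n' : ℝ) : ℂ) • σ χ - ((n : ℝ) : ℂ) • σ χ')
        (((m' : ℝ) : ℂ) • τ η - ((m : ℝ) : ℂ) • τ η') = 0 := by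
      rw [← hσa, ← hτb, hσα' _ ha ha1, hτα' _ hb hb1,
        lio_inner hα' (hXS' _ ha ha1) (hYS' _ hb hb1)]
      exact horth _ ha _ hb
    have h1 : ((n' : ℝ) : ℂ) * σ χ 1 = ((n : ℝ) : ℂ) * σ χ' 1 := by
      have h := hα1 _ (hXS' _ ha ha1)
      rw [← hσα' _ ha ha1, hσa] at h
      simp only [Pi.sub_apply, Pi.smul_apply, smul_eq_mul] at h
      linear_combination h
    have h2 : ((m' : ℝ) : ℂ) * τ η 1 = ((m : ℝ) : ℂ) * τ η' 1 := by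
      have h := hα1 _ (hYS' _ hb hb1)
      rw [← hτα' _ hb hb1, hτb] at h
      simp only [Pi.sub_apply, Pi.smul_apply, smul_eq_mul] at h
      linear_combination h
    have hAB : Cfsg.classInner (σ χ) (σ χ') = 0 := by
      rw [lio_inner hσ' (hXm χ hχ) (hXm χ' hχ')]
      exact classInner_irr_ne (hirr χ (hXS hχ)) (hirr χ' (hXS hχ')) (Ne.symm hne)
    have hCD : Cfsg.classInner (τ η) (τ η') = 0 := by
      rw [lio_inner hτ' (hYm η hη) (hYm η' hη')]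
      exact classInner_irr_ne (hirr η (hYS hη)) (hirr η' (hYS hη')) (Ne.symm hne')
    exact (four_signed_orthogonal (σ χ) (σ χ') (τ η) (τ η') (hσirr χ hχ) (hσirr χ' hχ')
      (hτirr η hη) (hτirr η' hη') n' n m' m (by exact_mod_cast hn'.ne') (by exact_mod_cast hn.ne')
      (by exact_mod_cast hm'.ne') (by exact_mod_cast hm.ne') hAB hCD hmix h1 h2).1
  refine ⟨claim1, ?_⟩
  rintro ⟨χ₀, hχ₀, η₀, hη₀, hyp⟩
  obtain ⟨c, hc, hc1⟩ := exists_pos_nat_degree (hirr χ₀ (hXS hχ₀))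
  obtain ⟨e, he, he1⟩ := exists_pos_nat_degree (hirr η₀ (hYS hη₀))
  have horth' := classInner_span_span_eq_zero X Y σ τ (fun a ha b hb => lio_add hσ' ha hb)
    (fun a ha n => lio_zsmul hσ' ha n) (fun a ha b hb => lio_add hτ' ha hb)
    (fun a ha n => lio_zsmul hτ' ha n) claim1
  obtain ⟨τ₁, hτ₁, hτ₁eq⟩ := lio_glue (Submodule.span ℤ X) (Submodule.span ℤ Y) σ τ hσ' hτ'
    horth horth'
  have hspan : Cfsg.zspan (X ∪ Y) =
      ((Submodule.span ℤ X ⊔ Submodule.span ℤ Y : Submodule ℤ (N → ℂ)) : Set (N → ℂ)) := by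
    unfold Cfsg.zspan
    rw [Submodule.span_union]
  -- the special element
  have hθ₀ : χ₀ 1 • η₀ - η₀ 1 • χ₀ = (c : ℤ) • η₀ - (e : ℤ) • χ₀ := by
    rw [hc1, he1]
    funext g
    simp
  have hθ₀X : ((c : ℤ) • η₀ - (e : ℤ) • χ₀) ∈ Cfsg.zspan (X ∪ Y) := by
    rw [hspan]
    apply Submodule.sub_mem
    · exact Submodule.smul_mem _ _ (Submodule.mem_sup_right (hYm η₀ hη₀))
    · exact Submodule.smul_mem _ _ (Submodule.mem_sup_left (hXm χ₀ hχ₀))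
  have hθ₀1 : ((c : ℤ) • η₀ - (e : ℤ) • χ₀) 1 = 0 := by
    simp [hc1, he1]; ring
  have hθ₀S : ((c : ℤ) • η₀ - (e : ℤ) • χ₀) ∈ Cfsg.zspanOn S {1}ᶜ :=
    zspanOn_mono (Set.union_subset hXS hYS) _ (mem_zspanOn_compl_one hθ₀X hθ₀1)
  refine ⟨⟨_, mem_zspanOn_compl_one hθ₀X hθ₀1, ?_⟩, τ₁, by rw [hspan]; exact hτ₁, ?_⟩
  · intro h0
    have h1 : Cfsg.classInner ((c : ℤ) • η₀ - (e : ℤ) • χ₀) η₀ = (c : ℂ) := by
      rw [Cfsg.Agent.Lib.helper4.classInner_sub_left, classInner_zsmul_left, classInner_zsmul_left,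
        classInner_irr_self (hirr η₀ (hYS hη₀)), horthXY χ₀ hχ₀ η₀ hη₀]
      push_cast
      ring
    rw [h0, classInner_zero_left] at h1
    have : (c : ℂ) ≠ 0 := by exact_mod_cast hc.ne'
    exact this h1.symm
  · intro θ hθ
    have hθ1 : θ 1 = 0 := apply_one_of_mem_zspanOn_compl_one hθ
    have hθm : θ ∈ (Submodule.span ℤ X ⊔ Submodule.span ℤ Y : Submodule ℤ (N → ℂ)) := by
      have := hθ.1
      rw [hspan] at this
      exact this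
    obtain ⟨x, hx, y, hy, rfl⟩ := Submodule.mem_sup.mp hθm
    rw [hτ₁eq x hx y hy]
    obtain ⟨k, hk⟩ := zspan_degree_int (S := X)
      (fun ξ hξ => isCharacter_of_isIrrCharacter (hirr ξ (hXS hξ))) hx
    have hy1 : y 1 = -(k : ℂ) := by
      have : x 1 + y 1 = 0 := hθ1
      rw [hk] at this
      linear_combination this
    have hx' : ((c : ℤ) • x - k • χ₀) ∈ (Submodule.span ℤ X : Submodule ℤ (N → ℂ)) :=
      Submodule.sub_mem _ (Submodule.smul_mem _ _ hx) (Submodule.smul_mem _ _ (hXm χ₀ hχ₀))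
    have hy' : ((e : ℤ) • y + k • η₀) ∈ (Submodule.span ℤ Y : Submodule ℤ (N → ℂ)) :=
      Submodule.add_mem _ (Submodule.smul_mem _ _ hy) (Submodule.smul_mem _ _ (hYm η₀ hη₀))
    have hx'1 : ((c : ℤ) • x - k • χ₀) 1 = 0 := by
      simp [hk, hc1]; ring
    have hy'1 : ((e : ℤ) • y + k • η₀) 1 = 0 := by
      simp [hy1, he1]; ring
    have hθS : (x + y) ∈ Cfsg.zspanOn S {1}ᶜ :=
      zspanOn_mono (Set.union_subset hXS hYS) _ hθ
    have hid : ((c : ℤ) * (e : ℤ)) • (x + y) =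
        ((e : ℤ) • ((c : ℤ) • x - k • χ₀) + (c : ℤ) • ((e : ℤ) • y + k • η₀))
          - k • ((c : ℤ) • η₀ - (e : ℤ) • χ₀) := by
      funext g
      simp
      ring
    have hαid := congrArg α hid
    rw [lio_zsmul hα' hθS,
      lio_sub hα' ((zspanOnSub S {1}ᶜ).add_mem ((zspanOnSub S {1}ᶜ).smul_mem _ (hXS' _ hx' hx'1))
        ((zspanOnSub S {1}ᶜ).smul_mem _ (hYS' _ hy' hy'1))) ((zspanOnSub S {1}ᶜ).smul_mem _ hθ₀S),
      lio_add hα' ((zspanOnSub S {1}ᶜ).smul_mem _ (hXS' _ hx' hx'1))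
        ((zspanOnSub S {1}ᶜ).smul_mem _ (hYS' _ hy' hy'1)),
      lio_zsmul hα' (hXS' _ hx' hx'1), lio_zsmul hα' (hYS' _ hy' hy'1), lio_zsmul hα' hθ₀S,
      ← hσα' _ hx' hx'1, ← hτα' _ hy' hy'1, ← hθ₀, hyp, hc1, he1,
      lio_sub hσ' (Submodule.smul_mem _ _ hx) (Submodule.smul_mem _ _ (hXm χ₀ hχ₀)),
      lio_add hτ' (Submodule.smul_mem _ _ hy) (Submodule.smul_mem _ _ (hYm η₀ hη₀)),
      lio_zsmul hσ' hx, lio_zsmul hσ' (hXm χ₀ hχ₀), lio_zsmul hτ' hy, lio_zsmul hτ' (hYm η₀ hη₀)]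
      at hαid
    have hce : ((c : ℂ) * (e : ℂ)) ≠ 0 :=
      mul_ne_zero (by exact_mod_cast hc.ne') (by exact_mod_cast he.ne')
    funext g
    have hg := congrFun hαid g
    simp only [Pi.smul_apply, Pi.add_apply, Pi.sub_apply] at hg
    simp only [zsmul_eq_mul, smul_eq_mul] at hg
    push_cast at hg
    have : ((c : ℂ) * (e : ℂ)) * (σ x g + τ y g) = ((c : ℂ) * (e : ℂ)) * α (x + y) g := by
      linear_combination -hg
    exact mul_left_cancel₀ hce this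

end Cfsg.Agent.S1531
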