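import Cfsg.Statements.S1523
import Mathlib
import Cfsg.Agent.Lib.helper32.OrbitSum
import Cfsg.Agent.Lib.helper82.CharSums
import Cfsg.Agent.Lib.helper4.DefectZero
import Cfsg.Agent.Lib.helper4.CharDecomp
import Cfsg.Agent.Lib.helper4.Burnside2
import Cfsg.Agent.Lib.helper72.TIHall

set_option autoImplicit false
open Cfsg

namespace Cfsg.Agent.S1523

open Cfsg.Agent.Lib.helper4 Cfsg.Agent.Lib.helper32 Cfsg.Agent.Lib.helper82

/-- Let G be a finite group, p a prime, P a Sylow p-subgroup whose underlying set is a TI-subset of G, with L the set normaliser of P of odd order. Let Z ≠ ⊥ be a subgroup of P, normal in L and central in P, such that the centralisers in L of any two non-identity elements of Z have the same order. If ψ is an irreducible character of G taking the same value at all non-identity elements of Z, then for z ∈ Z, z ≠ 1, the value ψ z is an integer n with Nat.card P dividing ψ(1) − n (as integers, ψ 1 being the degree). -/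
theorem result {G : Type*} [Group G] [Finite G] (p : ℕ) [Fact p.Prime] (P : Sylow p G) (hTI : Cfsg.IsTISubset ((P : Subgroup G) : Set G)) (hodd : Odd (Nat.card (Subgroup.normalizer ((P : Subgroup G) : Set G)))) (Z : Subgroup G) (hZ1 : Z ≠ ⊥) (hZP : Z ≤ P) (hZn : ∀ x ∈ Subgroup.normalizer ((P : Subgroup G) : Set G), ∀ z ∈ Z, x * z * x⁻¹ ∈ Z) (hZc : ∀ z ∈ Z, ∀ y ∈ (P : Subgroup G), z * y = y * z) (hCL : ∀ z ∈ Z, ∀ z' ∈ Z, z ≠ 1 → z' ≠ 1 → Nat.card ↥(Subgroup.normalizer ((P : Subgroup G) : Set G) ⊓ Subgroup.centralizer ({z} : Set G)) = Nat.card ↥(Subgroup.normalizer ((P : Subgroup G) : Set G) ⊓ Subgroup.centralizer ({z'} : Set G))) (ψ : G → ℂ) (hψ : Cfsg.IsIrrCharacter G ψ) (hconst : ∀ z ∈ Z, ∀ z' ∈ Z, z ≠ 1 → z' ≠ 1 → ψ z = ψ z') (z : G) (hz : z ∈ Z) (hz1 : z ≠ 1) : ∃ n d : ℤ, ψ z = n ∧ ψ 1 = d ∧ (Nat.card (P : Subgroup G) : ℤ) ∣ d - n := by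
  classical
  let _iG : Fintype G := Fintype.ofFinite G
  obtain ⟨L, hL⟩ : ∃ L : Subgroup G, L = Subgroup.normalizer ((P : Subgroup G) : Set G) :=
    ⟨_, rfl⟩
  rw [← hL] at hodd hZn
  have hPL : (P : Subgroup G) ≤ L := by rw [hL]; exact Subgroup.le_normalizer
  have hzP : z ∈ (P : Subgroup G) := hZP hz
  have hzL : z ∈ L := hPL hzP
  obtain ⟨C, hC⟩ : ∃ C : Subgroup G, C = Subgroup.centralizer ({z} : Set G) := ⟨_, rfl⟩
  have hCL' : C ≤ L := by
    rw [hC, hL]; exact Cfsg.Agent.Lib.helper72.ti_centralizer_le hTI hzP hz1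
  have hmemC : ∀ g : G, g ∈ C ↔ g * z = z * g := by
    intro g; rw [hC, Subgroup.mem_centralizer_singleton_iff]
  obtain ⟨n, hn⟩ : ∃ n : ℂ, n = ψ z := ⟨_, rfl⟩
  have hnZ : ∀ z' ∈ Z, z' ≠ 1 → ψ z' = n := fun z' hz' hz'1 => by
    rw [hn]; exact hconst z' hz' z hz hz'1 hz1
  have hψchar := isCharacter_of_isIrrCharacter hψ
  have hψcf := isClassFunction_of_isIrrCharacter hψ
  have hzinv : z⁻¹ ∈ Z := Z.inv_mem hz
  have hzinv1 : z⁻¹ ≠ 1 := by simpa using hz1
  -- Step 1: the class sum identity at `z` and `z⁻¹`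
  have hsum1 := irr_sum_mul_conj (⟨ψ, hψ⟩ : Cfsg.IrrCharacter G) z z
  have hsum2 := irr_sum_mul_conj (⟨ψ, hψ⟩ : Cfsg.IrrCharacter G) z⁻¹ z
  dsimp only at hsum1 hsum2
  rw [hnZ z⁻¹ hzinv hzinv1] at hsum2
  rw [← hn] at hsum1 hsum2
  obtain ⟨F, hF⟩ : ∃ F : G → ℂ,
      F = fun g => ψ (z * (g * z * g⁻¹)) - ψ (z⁻¹ * (g * z * g⁻¹)) := ⟨_, rfl⟩
  have hFsum : ∑ g : G, F g = 0 := by
    rw [hF]
    simp only
    rw [Finset.sum_sub_distrib, hsum1, hsum2, sub_self]
  -- Step 2: the part of the sum inside `L`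
  have hL1 : ∀ g ∈ L, F g = if g ∈ C then n - ψ 1 else 0 := by
    intro g hg
    have hgz : g * z * g⁻¹ ∈ Z := hZn g hg z hz
    have hne : g * z * g⁻¹ ≠ z⁻¹ := conj_ne_inv_of_odd L hodd hg hzL hz1
    have h1 : ψ (z * (g * z * g⁻¹)) = n := by
      apply hnZ _ (Z.mul_mem hz hgz)
      intro h
      exact hne (eq_inv_of_mul_eq_one_right h)
    rw [hF]
    simp only
    rw [h1]
    by_cases hgC : g ∈ C
    · rw [if_pos hgC]
      have h2 : g * z * g⁻¹ = z := by rw [(hmemC g).mp hgC]; group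
      rw [h2, inv_mul_cancel]
    · rw [if_neg hgC]
      have h2 : ψ (z⁻¹ * (g * z * g⁻¹)) = n := by
        apply hnZ _ (Z.mul_mem hzinv hgz)
        intro h
        apply hgC
        rw [hmemC]
        have h3 : g * z * g⁻¹ = z := by
          have h4 := eq_inv_of_mul_eq_one_right h
          rwa [inv_inv] at h4
        calc g * z = g * z * g⁻¹ * g := by group
          _ = z * g := by rw [h3]
      rw [h2, sub_self]
  -- Step 3: the action of `P × C` on `G`
  let _act : MulAction (↥(P : Subgroup G) × ↥C) G :=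
    { smul := fun γ g => (γ.1 : G) * g * (γ.2 : G)⁻¹
      one_smul := fun g => by
        show ((1 : ↥(P : Subgroup G) × ↥C).1 : G) * g * (((1 : ↥(P : Subgroup G) × ↥C).2 : G))⁻¹
          = g
        simp
      mul_smul := fun a b g => by
        show ((a * b).1 : G) * g * (((a * b).2 : G))⁻¹
          = (a.1 : G) * ((b.1 : G) * g * (b.2 : G)⁻¹) * (a.2 : G)⁻¹
        simp [mul_assoc] }
  have hsmul : ∀ (γ : ↥(P : Subgroup G) × ↥C) (g : G),
      γ • g = (γ.1 : G) * g * (γ.2 : G)⁻¹ := fun _ _ => rfl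
  obtain ⟨f, hf⟩ : ∃ f : G → ℂ, f = fun g => if g ∈ L then 0 else F g := ⟨_, rfl⟩
  have hconjkey : ∀ (u c g w : G), c * z = z * c → w * u = u * w →
      ψ (w * (u * g * c⁻¹ * z * (u * g * c⁻¹)⁻¹)) = ψ (w * (g * z * g⁻¹)) := by
    intro u c g w hc hwu
    have hcz : c⁻¹ * z * c = z := by
      rw [mul_assoc, ← hc, ← mul_assoc, inv_mul_cancel, one_mul]
    have e1 : w * (u * g * c⁻¹ * z * (u * g * c⁻¹)⁻¹) = u * (w * (g * z * g⁻¹)) * u⁻¹ := by
      calc w * (u * g * c⁻¹ * z * (u * g * c⁻¹)⁻¹)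
          = w * u * g * (c⁻¹ * z * c) * g⁻¹ * u⁻¹ := by group
        _ = w * u * g * z * g⁻¹ * u⁻¹ := by rw [hcz]
        _ = u * w * g * z * g⁻¹ * u⁻¹ := by rw [hwu]
        _ = u * (w * (g * z * g⁻¹)) * u⁻¹ := by group
    rw [e1]
    exact hψcf _ _
  have hFinv : ∀ (γ : ↥(P : Subgroup G) × ↥C) (g : G), F (γ • g) = F g := by
    intro γ g
    rw [hsmul, hF]
    simp only
    have hc : (γ.2 : G) * z = z * (γ.2 : G) := (hmemC _).mp γ.2.2
    rw [hconjkey _ _ g z hc (hZc z hz _ γ.1.2), hconjkey _ _ g z⁻¹ hc (hZc z⁻¹ hzinv _ γ.1.2)]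
  have hLinv : ∀ (γ : ↥(P : Subgroup G) × ↥C) (g : G), γ • g ∈ L ↔ g ∈ L := by
    intro γ g
    rw [hsmul]
    have h1 : (γ.1 : G) ∈ L := hPL γ.1.2
    have h2 : (γ.2 : G) ∈ L := hCL' γ.2.2
    constructor
    · intro h
      have h3 := L.mul_mem (L.mul_mem (L.inv_mem h1) h) h2
      have h4 : (γ.1 : G)⁻¹ * ((γ.1 : G) * g * (γ.2 : G)⁻¹) * (γ.2 : G) = g := by group
      rwa [h4] at h3
    · intro h
      exact L.mul_mem (L.mul_mem h1 h) (L.inv_mem h2)
  have hfinv : ∀ (γ : ↥(P : Subgroup G) × ↥C) (g : G), f (γ • g) = f g := by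
    intro γ g
    rw [hf]
    simp only
    by_cases hg : g ∈ L
    · rw [if_pos hg, if_pos ((hLinv γ g).mpr hg)]
    · rw [if_neg hg, if_neg (fun h => hg ((hLinv γ g).mp h)), hFinv]
  have hfree : ∀ (γ : ↥(P : Subgroup G) × ↥C) (g : G), f g ≠ 0 → γ • g = g → γ = 1 := by
    intro γ g hfg hγ
    have hgL : g ∉ L := by
      intro h
      apply hfg
      rw [hf]
      simp only
      rw [if_pos h]
    rw [hsmul] at hγ
    have hcu : (γ.2 : G) = g⁻¹ * (γ.1 : G) * g := by
      have h1 : (γ.1 : G) * g = g * (γ.2 : G) := by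
        calc (γ.1 : G) * g = (γ.1 : G) * g * (γ.2 : G)⁻¹ * (γ.2 : G) := by group
          _ = g * (γ.2 : G) := by rw [hγ]
      rw [mul_assoc, h1]; group
    by_cases hu1 : (γ.1 : G) = 1
    · have hc1 : (γ.2 : G) = 1 := by rw [hcu, hu1]; group
      exact Prod.ext (Subtype.ext hu1) (Subtype.ext hc1)
    · exfalso
      apply hgL
      have hcP : (γ.2 : G) ∈ (P : Subgroup G) := by
        obtain ⟨k, hk⟩ := P.isPGroup' γ.1
        have hk' : (γ.1 : G) ^ p ^ k = 1 := by
          have h1 := congrArg Subtype.val hk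
          simpa using h1
        have hck : (γ.2 : G) ^ p ^ k = 1 := by
          rw [hcu]
          have h1 := conj_pow (a := g⁻¹) (b := (γ.1 : G)) (i := p ^ k)
          rw [inv_inv] at h1
          rw [h1, hk']; group
        have hzp : IsPGroup p (Subgroup.zpowers (γ.2 : G)) := by
          obtain ⟨j, -, hj⟩ := (Nat.dvd_prime_pow (Fact.out : p.Prime)).mp
            (orderOf_dvd_of_pow_eq_one hck)
          exact IsPGroup.of_card (n := j) (by rw [Nat.card_zpowers, hj])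
        have hinf := hzp.inf_normalizer_sylow P
        have hmem : (γ.2 : G) ∈ Subgroup.zpowers (γ.2 : G) ⊓
            Subgroup.normalizer ((P : Subgroup G) : Set G) :=
          ⟨Subgroup.mem_zpowers _, by rw [← hL]; exact hCL' γ.2.2⟩
        have hmem2 : (γ.2 : G) ∈ Subgroup.zpowers (γ.2 : G) ⊓ (P : Subgroup G) := by
          rw [← hinf]; exact hmem
        exact hmem2.2
      have hc1 : (γ.2 : G) ≠ 1 := by
        intro h
        apply hu1
        rw [h] at hcu
        have h1 : (γ.1 : G) = g * (g⁻¹ * (γ.1 : G) * g) * g⁻¹ := by group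
        rw [h1, ← hcu]; group
      rw [hL]
      apply Cfsg.Agent.Lib.helper72.ti_mem_normalizer hTI hcP hc1
      rw [hcu]
      have h1 : g * (g⁻¹ * (γ.1 : G) * g) * g⁻¹ = (γ.1 : G) := by group
      rw [h1]; exact γ.1.2
  have hfint : ∀ g, IsIntegral ℤ (f g) := by
    intro g
    rw [hf]
    simp only
    split_ifs
    · exact isIntegral_zero
    · rw [hF]
      exact IsIntegral.sub (isIntegral_of_isCharacter hψchar _)
        (isIntegral_of_isCharacter hψchar _)
  obtain ⟨A, hA, hAsum⟩ := sum_eq_card_mul_of_free_on_support f hfinv hfree hfint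
  have hsplit : ∀ g : G, F g = f g + (if g ∈ C then n - ψ 1 else 0) := by
    intro g
    by_cases hg : g ∈ L
    · rw [hL1 g hg, hf]
      simp only
      rw [if_pos hg, zero_add]
    · have hgC : g ∉ C := fun h => hg (hCL' h)
      rw [hf]
      simp only
      rw [if_neg hg, if_neg hgC, add_zero]
  have hCsum : ∑ g : G, (if g ∈ C then n - ψ 1 else (0 : ℂ))
      = (Nat.card C : ℂ) * (n - ψ 1) := by
    rw [← Finset.sum_filter, Finset.sum_const, nsmul_eq_mul]
    congr 2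
    rw [Nat.card_eq_fintype_card, Fintype.card_subtype]
  have hmain : (Nat.card C : ℂ) * (n - ψ 1)
      + (Fintype.card (↥(P : Subgroup G) × ↥C) : ℂ) * A = 0 := by
    have h1 : ∑ g : G, F g = ∑ g : G, ((if g ∈ C then n - ψ 1 else (0 : ℂ)) + f g) :=
      Finset.sum_congr rfl (fun g _ => by rw [hsplit g, add_comm])
    rw [Finset.sum_add_distrib, hCsum, hAsum, hFsum] at h1
    exact h1.symm
  have hcardΓ : Fintype.card (↥(P : Subgroup G) × ↥C)
      = Nat.card (P : Subgroup G) * Nat.card C := by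
    rw [Fintype.card_prod, Nat.card_eq_fintype_card, Nat.card_eq_fintype_card]
  have hCne : (Nat.card C : ℂ) ≠ 0 := by
    exact_mod_cast (Nat.card_pos (α := C)).ne'
  have hkey : ψ 1 - n = (Nat.card (P : Subgroup G) : ℂ) * A := by
    rw [hcardΓ] at hmain
    push_cast at hmain
    have h1 : (Nat.card C : ℂ) * ((n - ψ 1) + (Nat.card (P : Subgroup G) : ℂ) * A) = 0 := by
      linear_combination hmain
    have h2 := (mul_eq_zero.mp h1).resolve_left hCne
    linear_combination -h2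
  -- Step 4: `n` is an integer
  obtain ⟨d, hdpos, hd⟩ := exists_pos_nat_degree hψ
  let _iZ : Fintype Z := Fintype.ofFinite _
  have hres : Cfsg.IsCharacter Z (fun x : Z => ψ x) := isCharacter_restrict Z hψchar
  obtain ⟨b, hb⟩ := exists_nat_classInner_irr hres (isIrrCharacter_one (G := Z))
  have hZne : (Nat.card Z : ℂ) ≠ 0 := by
    exact_mod_cast (Nat.card_pos (α := Z)).ne'
  have hZsum : ∑ x : Z, ψ x = ψ 1 + ((Nat.card Z : ℂ) - 1) * n := by
    rw [← Finset.add_sum_erase Finset.univ (fun x : Z => ψ x) (Finset.mem_univ (1 : Z))]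
    have h1 : ∀ x ∈ (Finset.univ : Finset Z).erase 1, ψ (x : G) = n := fun x hx =>
      hnZ x x.2 (fun h => (Finset.mem_erase.mp hx).1 (Subtype.ext h))
    rw [Finset.sum_congr rfl h1, Finset.sum_const, Finset.card_erase_of_mem (Finset.mem_univ _),
      Finset.card_univ, nsmul_eq_mul, ← Nat.card_eq_fintype_card, Nat.cast_sub Nat.card_pos,
      Nat.cast_one]
    rfl
  have hb' : (Nat.card Z : ℂ) * b = ψ 1 + ((Nat.card Z : ℂ) - 1) * n := by
    rw [← hZsum, ← hb]
    unfold Cfsg.classInner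
    simp only [map_one, mul_one]
    rw [mul_inv_cancel_left₀ hZne]
  have hZ1' : 1 < Nat.card Z := (Subgroup.one_lt_card_iff_ne_bot Z).mpr hZ1
  obtain ⟨m, hm⟩ : ∃ m : ℤ, n = m := by
    refine int_of_isIntegral_of_mul_eq n ?_ ((Nat.card Z : ℤ) * b - d) ((Nat.card Z : ℤ) - 1)
      ?_ ?_
    · rw [hn]; exact isIntegral_of_isCharacter hψchar z
    · omega
    · push_cast
      rw [hb', hd]; ring
  obtain ⟨k, hk⟩ : ∃ k : ℤ, A = k := by
    refine int_of_isIntegral_of_mul_eq A hA ((d : ℤ) - m) (Nat.card (P : Subgroup G) : ℤ) ?_ ?_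
    · exact_mod_cast (Nat.card_pos (α := (P : Subgroup G))).ne'
    · push_cast
      rw [← hkey, hd, hm]
  refine ⟨m, d, ?_, ?_, k, ?_⟩
  · rw [← hn, hm]
  · rw [hd]; simp
  · have h1 : (((d : ℤ) - m : ℤ) : ℂ) = (((Nat.card (P : Subgroup G) : ℤ) * k : ℤ) : ℂ) := by
      push_cast
      rw [← hk, ← hkey, hd, hm]
    exact_mod_cast h1

end Cfsg.Agent.S1523
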