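import Cfsg.Statements.S1519
import Mathlib
import Cfsg.Agent.Lib.helper32.Coh9

set_option autoImplicit false
open Cfsg

namespace Cfsg.Agent.S1519

open Cfsg.Agent.Lib.helper4 Cfsg.Agent.Lib.helper32

open Cfsg.Agent.Lib.helper4 Cfsg.Agent.Lib.helper32 in
/-- A member of `S(A)` of degree `|L : K|`, induced from a linear character. -/
theorem exists_induced_linear {L : Type*} [Group L] [Fintype L] (K : Subgroup L)
    (hsolv : Group.IsSolvable K) (A : Subgroup L) [A.Normal] (hAK : A < K) :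
    ∃ χ ∈ Cfsg.inducedIrrAbove K A, χ 1 = (K.index : ℂ) := by
  classical
  have hne : A.subgroupOf K ≠ ⊤ := by
    intro h
    exact (not_le_of_gt hAK) (Subgroup.subgroupOf_eq_top.mp h)
  obtain ⟨f, hf1, hfA⟩ := exists_linear_above hsolv (A.subgroupOf K) hne
  refine ⟨Cfsg.indFun K (fun k => (f k : ℂ)),
    ⟨fun k => (f k : ℂ), Cfsg.Agent.Lib.helper82.isIrrCharacter_of_hom f, ?_, ?_, rfl⟩, ?_⟩
  · intro h
    apply hf1
    ext k
    have := congrFun h k
    simpa using this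
  · intro a ha
    show ((f a : ℂˣ) : ℂ) = ((f 1 : ℂˣ) : ℂ)
    rw [hfA a (Subgroup.mem_subgroupOf.mpr ha), map_one]
  · rw [indFun_one, map_one]; simp

/-- Let K be a solvable normal subgroup of the finite group L and (S, τ, R) a coherence system from L to G where S is the set of functions induced from non-principal irreducible characters of K; write S(A) for those induced from characters whose kernel contains A. Let A, B, C, D be normal subgroups of L with A < K, B < K, B ≤ D ≤ C ≤ K and every commutator of D with C in B. If S(A) is coherent and 4 * [L:C]^2 * [C:D] < ([K:A] − 1)^2, then S(B) is coherent. -/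
theorem result {L : Type*} [Group L] [Fintype L] {G : Type*} [Group G] [Fintype G] (K : Subgroup L) [hK : K.Normal] (hsolv : Group.IsSolvable K) (τ : (L → ℂ) → (G → ℂ)) (R : (L → ℂ) → Finset (G → ℂ)) (hS : Cfsg.IsCoherenceSystem (Cfsg.inducedIrrAbove K ⊥) τ R) (A B C D : Subgroup L) [A.Normal] [B.Normal] [C.Normal] [D.Normal] (hAK : A < K) (hBK : B < K) (hBD : B ≤ D) (hDC : D ≤ C) (hCK : C ≤ K) (hcent : ∀ x ∈ D, ∀ y ∈ C, x * y * x⁻¹ * y⁻¹ ∈ B) (hA : Cfsg.IsCoherent (Cfsg.inducedIrrAbove K A) {1}ᶜ τ) (hlt : 4 * C.index ^ 2 * D.relIndex C < (A.relIndex K - 1) ^ 2) : Cfsg.IsCoherent (Cfsg.inducedIrrAbove K B) {1}ᶜ τ := by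
  classical
  obtain ⟨S, hSdef⟩ : ∃ S : Set (L → ℂ), S = Cfsg.inducedIrrAbove K ⊥ := ⟨_, rfl⟩
  rw [← hSdef] at hS
  -- degree and norm functions
  have hdex : ∀ φ : L → ℂ, ∃ k : ℕ, φ ∈ S → φ 1 = (k : ℂ) := by
    intro φ
    by_cases h : φ ∈ S
    · obtain ⟨k, -, hk⟩ := cs_degree_nat hS h
      exact ⟨k, fun _ => hk⟩
    · exact ⟨0, fun h' => absurd h' h⟩
  choose d hd using hdex
  have hnex : ∀ φ : L → ℂ, ∃ k : ℕ, φ ∈ S → Cfsg.classInner φ φ = (k : ℂ) := by
    intro φ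
    by_cases h : φ ∈ S
    · obtain ⟨k, -, hk⟩ := cs_norm_nat hS h
      exact ⟨k, fun _ => hk⟩
    · exact ⟨0, fun h' => absurd h' h⟩
  choose n hn using hnex
  have hnpos : ∀ φ ∈ S, 0 < n φ := by
    intro φ hφ
    obtain ⟨k, hk, hk'⟩ := cs_norm_nat hS hφ
    have h := hn φ hφ
    rw [hk'] at h
    have : k = n φ := by exact_mod_cast h
    omega
  -- finiteness
  have hSfin : S.Finite :=
    orthogonal_set_finite S (fun χ hχ => cs_norm_ne_zero hS hχ) hS.orthogonal
  have hAS : Cfsg.inducedIrrAbove K A ⊆ S := hSdef ▸ inducedIrrAbove_subset_bot K A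
  have hBS : Cfsg.inducedIrrAbove K B ⊆ S := hSdef ▸ inducedIrrAbove_subset_bot K B
  obtain ⟨SA, hSA⟩ : ∃ SA : Finset (L → ℂ), (↑SA : Set (L → ℂ)) = Cfsg.inducedIrrAbove K A :=
    ⟨(hSfin.subset hAS).toFinset, Set.Finite.coe_toFinset _⟩
  obtain ⟨SB, hSB⟩ : ∃ SB : Finset (L → ℂ), (↑SB : Set (L → ℂ)) = Cfsg.inducedIrrAbove K B :=
    ⟨(hSfin.subset hBS).toFinset, Set.Finite.coe_toFinset _⟩
  have hSA_S : (↑SA : Set (L → ℂ)) ⊆ S := hSA ▸ hAS
  have hSB_S : (↑SB : Set (L → ℂ)) ⊆ S := hSB ▸ hBS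
  have hmemA : ∀ φ, φ ∈ SA ↔ φ ∈ Cfsg.inducedIrrAbove K A := by
    intro φ; rw [← hSA]; exact Iff.rfl
  have hmemB : ∀ φ, φ ∈ SB ↔ φ ∈ Cfsg.inducedIrrAbove K B := by
    intro φ; rw [← hSB]; exact Iff.rfl
  -- the character χ₁
  obtain ⟨χ₁, hχ₁A, hχ₁deg⟩ := exists_induced_linear K hsolv A hAK
  have hχ₁ : χ₁ ∈ SA := (hmemA χ₁).mpr hχ₁A
  have hdχ₁ : d χ₁ = K.index := by
    have h := hd χ₁ (hAS hχ₁A)
    rw [hχ₁deg] at h
    exact_mod_cast h.symm
  have hKpos : 0 < K.index := Nat.pos_of_ne_zero Subgroup.index_ne_zero_of_finite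
  -- degrees in S(B)
  have hdegB : ∀ χ ∈ SB, ∃ m : ℕ, d χ = K.index * m ∧
      m ^ 2 ≤ C.relIndex K * D.relIndex K := by
    intro χ hχ
    have hχ' := (hmemB χ).mp hχ
    obtain ⟨θ, hθ, hne, hB, rfl⟩ := hχ'
    obtain ⟨ψ, hψ, hψθ⟩ := Cfsg.Agent.Lib.helper82.isIrrCharacter_deflation (B.subgroupOf K) hθ
      (fun x hx => hB x (Subgroup.mem_subgroupOf.mp hx))
    have hπ : Function.Surjective (QuotientGroup.mk' (B.subgroupOf K)) :=
      QuotientGroup.mk'_surjective _
    have _i : ((D.subgroupOf K).map (QuotientGroup.mk' (B.subgroupOf K))).Normal :=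
      Subgroup.Normal.map inferInstance _ hπ
    let _j : Fintype (↥K ⧸ B.subgroupOf K) := Fintype.ofFinite _
    obtain ⟨m, hm, hmle⟩ := irr_degree_sq_le
      ((D.subgroupOf K).map (QuotientGroup.mk' (B.subgroupOf K)))
      ((C.subgroupOf K).map (QuotientGroup.mk' (B.subgroupOf K)))
      (Subgroup.map_mono (Subgroup.comap_mono hDC))
      (by
        rintro z ⟨x, hx, rfl⟩ c ⟨y, hy, rfl⟩
        have h := hcent x (Subgroup.mem_subgroupOf.mp hx) y (Subgroup.mem_subgroupOf.mp hy)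
        have h1 : (QuotientGroup.mk' (B.subgroupOf K)) (x * y * x⁻¹ * y⁻¹) = 1 :=
          (QuotientGroup.eq_one_iff _).mpr (Subgroup.mem_subgroupOf.mpr h)
        rw [map_mul, map_mul, map_mul, map_inv, map_inv] at h1
        calc (QuotientGroup.mk' (B.subgroupOf K)) x * (QuotientGroup.mk' (B.subgroupOf K)) y
            = ((QuotientGroup.mk' (B.subgroupOf K)) x * (QuotientGroup.mk' (B.subgroupOf K)) y
                * ((QuotientGroup.mk' (B.subgroupOf K)) x)⁻¹
                * ((QuotientGroup.mk' (B.subgroupOf K)) y)⁻¹)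
              * ((QuotientGroup.mk' (B.subgroupOf K)) y * (QuotientGroup.mk' (B.subgroupOf K)) x) := by
              group
          _ = (QuotientGroup.mk' (B.subgroupOf K)) y * (QuotientGroup.mk' (B.subgroupOf K)) x := by
              rw [h1, one_mul])
      hψ
    refine ⟨m, ?_, ?_⟩
    · have h1 := hd _ (hBS ⟨θ, hθ, hne, hB, rfl⟩)
      have h2 : θ 1 = (m : ℂ) := by
        rw [← hψθ 1]; exact hm
      rw [indFun_one, h2] at h1
      exact_mod_cast h1.symm
    · have hker : (QuotientGroup.mk' (B.subgroupOf K)).ker = B.subgroupOf K :=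
        QuotientGroup.ker_mk' _
      have hk1 : (QuotientGroup.mk' (B.subgroupOf K)).ker ≤ C.subgroupOf K := by
        rw [hker]; exact Subgroup.comap_mono (hBD.trans hDC)
      have hk2 : (QuotientGroup.mk' (B.subgroupOf K)).ker ≤ D.subgroupOf K := by
        rw [hker]; exact Subgroup.comap_mono hBD
      rw [Subgroup.index_map_eq _ hπ hk1, Subgroup.index_map_eq _ hπ hk2] at hmle
      exact hmle
  -- the bound
  have hbound := sum_induced_bound K A SA (hSA ▸ subset_rfl) d n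
    (fun φ hφ => hd φ (hSA_S hφ)) (fun φ hφ => hn φ (hSA_S hφ)) (fun φ hφ => hnpos φ (hSA_S hφ))
  have hineq : ∀ χ ∈ SB, (2 * d χ * d χ₁ : ℝ) < ∑ φ ∈ SA, ((d φ : ℝ) ^ 2 / (n φ : ℝ)) := by
    intro χ hχ
    obtain ⟨m, hm, hmle⟩ := hdegB χ hχ
    refine lt_of_lt_of_le ?_ hbound
    rw [hm, hdχ₁]
    have h1 : D.relIndex K = D.relIndex C * C.relIndex K :=
      (Subgroup.relIndex_mul_relIndex D C K hDC hCK).symm
    have h2 : C.relIndex K * K.index = C.index := Subgroup.relIndex_mul_index hCK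
    have h3 : (2 * K.index * m) ^ 2 < (A.relIndex K - 1) ^ 2 := by
      calc (2 * K.index * m) ^ 2 = 4 * K.index ^ 2 * m ^ 2 := by ring
        _ ≤ 4 * K.index ^ 2 * (C.relIndex K * D.relIndex K) := Nat.mul_le_mul_left _ hmle
        _ = 4 * (C.relIndex K * K.index) ^ 2 * D.relIndex C := by rw [h1]; ring
        _ = 4 * C.index ^ 2 * D.relIndex C := by rw [h2]
        _ < (A.relIndex K - 1) ^ 2 := hlt
    have h4 : 2 * K.index * m < A.relIndex K - 1 := lt_of_pow_lt_pow_left₀ 2 (Nat.zero_le _) h3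
    have h5 : 2 * (K.index * m) * K.index < K.index * (A.relIndex K - 1) := by
      calc 2 * (K.index * m) * K.index = K.index * (2 * K.index * m) := by ring
        _ < K.index * (A.relIndex K - 1) := Nat.mul_lt_mul_of_pos_left h4 hKpos
    exact_mod_cast h5
  have hunion := coherent_union_of_bound S τ R hS d n hd hn SA hSA_S
    (fun φ hφ => (hmemA _).mpr (inducedIrrAbove_conj_mem K A ((hmemA φ).mp hφ)))
    (hSA ▸ hA) χ₁ hχ₁ SB hSB_S
    (fun φ hφ => (hmemB _).mpr (inducedIrrAbove_conj_mem K B ((hmemB φ).mp hφ)))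
    (fun χ hχ => by
      obtain ⟨m, hm, -⟩ := hdegB χ hχ
      rw [hm, hdχ₁]; exact Dvd.intro _ rfl)
    hineq
  -- restrict to S(B)
  obtain ⟨χB, hχB, -⟩ := exists_induced_linear K hsolv B hBK
  refine coherent_of_subset hunion ?_ ⟨χB - Cfsg.conjFun χB, ?_, ?_⟩
  · rw [Finset.coe_union, hSB]; exact Set.subset_union_right
  · exact mem_zspanOn_compl_one
      (zspan_sub_mem (mem_zspan_of_mem hχB)
        (mem_zspan_of_mem (inducedIrrAbove_conj_mem K B hχB)))
      (by rw [Pi.sub_apply, cs_conj_degree hS (hBS hχB), sub_self])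
  · intro h
    exact hS.conj_ne χB (hBS hχB) (sub_eq_zero.mp h).symm

end Cfsg.Agent.S1519
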