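import Cfsg.Statements.S1520
import Mathlib
import Cfsg.Agent.Lib.helper32.Coh10
import Cfsg.Agent.S1519

set_option autoImplicit false
open Cfsg

namespace Cfsg.Agent.S1520

open Cfsg.Agent.Lib.helper32

/-- Let K be a solvable normal subgroup of the finite group L and (S, τ, R) a coherence system from L to G with S the functions induced from non-principal irreducible characters of K; S(A) the members of S induced from characters whose kernel contains A. Let M ≤ H₁ ≤ H ≤ K be normal subgroups of L such that every term of the lower central series of H eventually lies in M (H/M nilpotent), S(H₁) is coherent and [H:H₁] > 4 * [L:K]^2 + 1. Then S(M) is coherent. -/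
theorem result {L : Type*} [Group L] [Fintype L] {G : Type*} [Group G] [Fintype G] (K : Subgroup L) [hK : K.Normal] (hsolv : Group.IsSolvable K) (τ : (L → ℂ) → (G → ℂ)) (R : (L → ℂ) → Finset (G → ℂ)) (hS : Cfsg.IsCoherenceSystem (Cfsg.inducedIrrAbove K ⊥) τ R) (M H₁ H : Subgroup L) [M.Normal] [H₁.Normal] [H.Normal] (hMH₁ : M ≤ H₁) (hH₁H : H₁ ≤ H) (hHK : H ≤ K) [(M.subgroupOf H).Normal] (hnil : Group.IsNilpotent (↥H ⧸ M.subgroupOf H)) (hcoh : Cfsg.IsCoherent (Cfsg.inducedIrrAbove K H₁) {1}ᶜ τ) (hbig : 4 * K.index ^ 2 + 1 < H₁.relIndex H) : Cfsg.IsCoherent (Cfsg.inducedIrrAbove K M) {1}ᶜ τ := by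
  classical
  have hH₁ltH : H₁ < H := by
    refine lt_of_le_of_ne hH₁H ?_
    rintro rfl
    rw [Subgroup.relIndex_self] at hbig
    omega
  have hH₁K : H₁ < K := lt_of_lt_of_le hH₁ltH hHK
  have step : ∀ i, Cfsg.IsCoherent (Cfsg.inducedIrrAbove K (descChain M H₁ H i)) {1}ᶜ τ := by
    intro i
    induction i with
    | zero => exact hcoh
    | succ i ih =>
      have _i1 := descChain_normal M H₁ H i
      have _i2 := descChain_normal M H₁ H (i + 1)
      have hle := descChain_le M H₁ H hMH₁ i
      refine Cfsg.Agent.S1519.result K hsolv τ R hS (descChain M H₁ H i)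
        (descChain M H₁ H (i + 1)) H (descChain M H₁ H i)
        (lt_of_le_of_lt hle hH₁K) (lt_of_le_of_lt (descChain_le M H₁ H hMH₁ (i + 1)) hH₁K)
        (descChain_succ_le M H₁ H hMH₁ i) (hle.trans hH₁H) hHK
        (fun x hx y hy => commutator_mem_descChain_succ M H₁ H i hx hy) ih ?_
      have h1 : (descChain M H₁ H i).relIndex K
          = (descChain M H₁ H i).relIndex H * H.relIndex K :=
        (Subgroup.relIndex_mul_relIndex _ H K (hle.trans hH₁H) hHK).symm
      have h2 : H.index = H.relIndex K * K.index := (Subgroup.relIndex_mul_index hHK).symm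
      have h3 : H₁.relIndex H ∣ (descChain M H₁ H i).relIndex H :=
        Subgroup.relIndex_dvd_of_le_left H hle
      have h4 : H₁.relIndex H ≤ (descChain M H₁ H i).relIndex H :=
        Nat.le_of_dvd (Nat.pos_of_ne_zero
          (Subgroup.index_ne_zero_of_finite (H := (descChain M H₁ H i).subgroupOf H))) h3
      rw [h1, h2]
      exact pf63_arith K.index (H.relIndex K) _
        (Nat.pos_of_ne_zero (Subgroup.index_ne_zero_of_finite (H := H.subgroupOf K)))
        (lt_of_lt_of_le hbig h4)
  obtain ⟨n, hn⟩ := descChain_eventually M H₁ H hMH₁ hH₁H hnil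
  rw [← hn]; exact step n

end Cfsg.Agent.S1520
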