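import Cfsg.Statements.S1521
import Mathlib
import Cfsg.Agent.Lib.helper32.Coh11
import Cfsg.Agent.S1517
import Cfsg.Agent.S1519
import Cfsg.Agent.S1520

set_option autoImplicit false
open Cfsg

namespace Cfsg.Agent.S1521

open Cfsg.Agent.Lib.helper4 Cfsg.Agent.Lib.helper32

/-- Let K be a solvable normal subgroup of the finite group L of odd order and (S, τ, R) a coherence system from L to G with S the functions induced from non-principal irreducible characters of K; S(A) as before. Let M ≤ K be normal in L with K/M nilpotent, H₁ = [K, K] ⊔ M, H₁ < K < L, and suppose every element of K outside H₁ is centralised modulo H₁ only from inside K (L/H₁ is a Frobenius group with kernel K/H₁). Suppose one of the following: some normal subgroup of L lies strictly between H₁ and K; or [K:H₁] > 4[L:K]^2 + 1; or [K:M] is not a prime power; or [K,K] ≤ M; or [K:M] is a power of a prime p with [L:K] dividing p − 1. Then S(M) is coherent.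 -/
theorem result {L : Type*} [Group L] [Fintype L] {G : Type*} [Group G] [Fintype G] (K : Subgroup L) [hK : K.Normal] (hsolv : Group.IsSolvable K) (τ : (L → ℂ) → (G → ℂ)) (R : (L → ℂ) → Finset (G → ℂ)) (hS : Cfsg.IsCoherenceSystem (Cfsg.inducedIrrAbove K ⊥) τ R) (hodd : Odd (Nat.card L)) (M : Subgroup L) [M.Normal] (hMK : M ≤ K) [(M.subgroupOf K).Normal] (hnil : Group.IsNilpotent (↥K ⧸ M.subgroupOf K)) (H₁ : Subgroup L) (hH₁ : H₁ = ⁅K, K⁆ ⊔ M) (hH₁K : H₁ < K) (hKL : K < ⊤) (hfrob : ∀ k ∈ K, k ∉ H₁ → ∀ x : L, x * k * x⁻¹ * k⁻¹ ∈ H₁ → x ∈ K) (hgood : (∃ N : Subgroup L, N.Normal ∧ H₁ < N ∧ N < K) ∨ 4 * K.index ^ 2 + 1 < H₁.relIndex K ∨ (¬ ∃ p m : ℕ, p.Prime ∧ M.relIndex K = p ^ m) ∨ ⁅K, K⁆ ≤ M ∨ (∃ p m : ℕ, p.Prime ∧ M.relIndex K = p ^ m ∧ K.index ∣ p - 1)) : Cfsg.IsCoherent (Cfsg.inducedIrrAbove K M) {1}ᶜ τ := by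
  classical
  subst hH₁
  have hMH₁ : M ≤ ⁅K, K⁆ ⊔ M := le_sup_right
  have hH₁le : ⁅K, K⁆ ⊔ M ≤ K := hH₁K.le
  have hab : ⁅K, K⁆ ≤ ⁅K, K⁆ ⊔ M := le_sup_left
  -- Step 0: S(H₁) is coherent (equal degrees)
  have hS0 : Cfsg.IsCoherent (Cfsg.inducedIrrAbove K (⁅K, K⁆ ⊔ M)) {1}ᶜ τ := by
    obtain ⟨χ₀, hχ₀, -⟩ := Cfsg.Agent.S1519.exists_induced_linear K hsolv (⁅K, K⁆ ⊔ M) hH₁K
    have hdeg : ∀ φ ∈ Cfsg.inducedIrrAbove K (⁅K, K⁆ ⊔ M), φ 1 = (K.index : ℂ) := by
      rintro φ ⟨θ, hθ, -, hθH, rfl⟩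
      have h1 : θ 1 = 1 := Cfsg.Agent.Lib.helper19.linear_of_abelian_quot
        ((⁅K, K⁆ ⊔ M).subgroupOf K) (by
          intro x y
          rw [Subgroup.mem_subgroupOf]
          exact hab (Subgroup.commutator_mem_commutator x.2 y.2)) θ hθ
        (fun x hx => hθH x (Subgroup.mem_subgroupOf.mp hx))
      rw [indFun_one, h1, mul_one]
    refine Cfsg.Agent.S1517.result _ τ R
      (cs_restrict hS (inducedIrrAbove_subset_bot K _) ⟨χ₀, hχ₀⟩
        (fun χ hχ => inducedIrrAbove_conj_mem K _ hχ)) ?_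
    intro φ hφ ψ hψ
    rw [hdeg φ hφ, hdeg ψ hψ]
  -- case (b)
  have caseb : 4 * K.index ^ 2 + 1 < (⁅K, K⁆ ⊔ M).relIndex K →
      Cfsg.IsCoherent (Cfsg.inducedIrrAbove K M) {1}ᶜ τ := fun hbig =>
    Cfsg.Agent.S1520.result K hsolv τ R hS M (⁅K, K⁆ ⊔ M) K hMH₁ hH₁le le_rfl hnil hS0 hbig
  -- case (d)
  have cased : ⁅K, K⁆ ⊔ M = M → Cfsg.IsCoherent (Cfsg.inducedIrrAbove K M) {1}ᶜ τ := by
    intro h
    rw [h] at hS0
    exact hS0
  -- case (a)
  have casea : (∃ N : Subgroup L, N.Normal ∧ ⁅K, K⁆ ⊔ M < N ∧ N < K) →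
      Cfsg.IsCoherent (Cfsg.inducedIrrAbove K M) {1}ᶜ τ := by
    rintro ⟨N, hN, h1, h2⟩
    exact caseb (frob_big_of_intermediate hodd K (⁅K, K⁆ ⊔ M) N h1 h2 hab hfrob)
  rcases hgood with h | h | h | h | h
  · exact casea h
  · exact caseb h
  · by_cases hpp : ∃ p m : ℕ, p.Prime ∧ (⁅K, K⁆ ⊔ M).relIndex K = p ^ m
    · exfalso
      obtain ⟨p, a, hp, hpa⟩ := hpp
      obtain ⟨m, hm⟩ := card_eq_prime_pow_of_nilpotent p hp _ (↥K ⧸ M.subgroupOf K) rfl hnil
        (by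
          intro A _ f hf
          have h1 := card_abelian_quotient_dvd K M hMK f hf
          rw [hpa] at h1
          obtain ⟨b, -, hb⟩ := (Nat.dvd_prime_pow hp).mp h1
          exact ⟨b, hb⟩)
      apply h
      refine ⟨p, m, hp, ?_⟩
      rw [← hm, ← Subgroup.index_eq_card]
      rfl
    · exact casea (exists_intermediate_normal K (⁅K, K⁆ ⊔ M) hH₁le hab hpp)
  · exact cased (sup_eq_right.mpr h)
  · obtain ⟨p, m, hp, hpm, hdvd⟩ := h
    have hmul : M.relIndex (⁅K, K⁆ ⊔ M) * (⁅K, K⁆ ⊔ M).relIndex K = M.relIndex K :=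
      Subgroup.relIndex_mul_relIndex M _ K hMH₁ hH₁le
    have hn : (⁅K, K⁆ ⊔ M).relIndex K ∣ p ^ m := by
      rw [← hpm, ← hmul]; exact Dvd.intro_left _ rfl
    obtain ⟨a, -, ha⟩ := (Nat.dvd_prime_pow hp).mp hn
    rcases Nat.lt_or_ge a 2 with ha2 | ha2
    · interval_cases a
      · exfalso
        rw [pow_zero] at ha
        exact (not_le_of_gt hH₁K) (Subgroup.relIndex_eq_one.mp ha)
      · rw [pow_one] at ha
        have h1 := commutator_le_of_prime_relIndex K (⁅K, K⁆ ⊔ M) p hp ha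
        have h2 : descChain M (⁅K, K⁆ ⊔ M) K 1 = ⁅K, K⁆ ⊔ M := by
          refine le_antisymm (descChain_succ_le M _ K hMH₁ 0) ?_
          rw [descChain_succ, descChain_zero]
          exact sup_le (h1.trans le_sup_left) le_sup_right
        obtain ⟨n, hn'⟩ := descChain_eventually M (⁅K, K⁆ ⊔ M) K hMH₁ hH₁le hnil
        rw [descChain_const M _ K h2 n] at hn'
        exact cased hn'
    · apply caseb
      rw [ha]
      -- arithmetic: 2e ≤ p - 1, a ≥ 2
      have hoddK : Odd K.index := Odd.of_dvd_nat hodd (Subgroup.index_dvd_card K)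
      have hpL : p ∣ Nat.card L := by
        have h1 : p ∣ (⁅K, K⁆ ⊔ M).relIndex K := by
          rw [ha]; exact dvd_pow_self p (by omega)
        exact (h1.trans (Subgroup.relIndex_dvd_card _ K)).trans (Subgroup.card_subgroup_dvd_card K)
      have hoddp : Odd p := Odd.of_dvd_nat hodd hpL
      have h2e : 2 * K.index ≤ p - 1 := by
        have hp1 : 0 < p - 1 := by have := hp.two_le; omega
        have heven : 2 ∣ p - 1 := by
          obtain ⟨k, hk⟩ := hoddp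
          exact ⟨k, by omega⟩
        have hcop : Nat.Coprime 2 K.index := Nat.coprime_two_left.mpr hoddK
        exact Nat.le_of_dvd hp1 (hcop.mul_dvd_of_dvd_of_dvd heven hdvd)
      have hpp2 : p ^ 2 ≤ p ^ a := Nat.pow_le_pow_right hp.pos ha2
      obtain ⟨s, hs⟩ : ∃ s, p = s + 1 := ⟨p - 1, by have := hp.two_le; omega⟩
      have hs1 : 2 * K.index ≤ s := by omega
      have hs0 : 0 < s := by have := hp.two_le; omega
      calc 4 * K.index ^ 2 + 1 = (2 * K.index) ^ 2 + 1 := by ring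
        _ ≤ s ^ 2 + 1 := by
            have := Nat.pow_le_pow_left hs1 2
            omega
        _ < (s + 1) ^ 2 := by nlinarith
        _ = p ^ 2 := by rw [hs]
        _ ≤ p ^ a := hpp2

end Cfsg.Agent.S1521
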