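import Cfsg.Statements.S1522
import Mathlib
import Cfsg.Agent.Lib.helper32.Coh12
import Cfsg.Agent.Lib.helper32.FrobKer
import Cfsg.Agent.S1521

set_option autoImplicit false
open Cfsg

namespace Cfsg.Agent.S1522

open Cfsg.Agent.Lib.helper4 Cfsg.Agent.Lib.helper32 Cfsg.Agent.Lib.helper82

/-- Let K be a nilpotent normal subgroup of the finite group L of odd order with [K,K] < K < L and L/[K,K] a Frobenius group with kernel K/[K,K] (elements of K outside [K,K] are centralised modulo [K,K] only from inside K); let (S, τ, R) be a coherence system from L to G with S the functions induced from non-principal irreducible characters of K. Let Z be a nontrivial normal subgroup of L contained in the centre of K, and suppose every member of S outside S(Z) is an irreducible character of L. Then S minus S(Z) is the set of irreducible characters χ of L with χ z ≠ χ 1 for some z ∈ Z, and it is coherent. -/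
theorem result {L : Type*} [Group L] [Fintype L] {G : Type*} [Group G] [Fintype G] (K : Subgroup L) [hK : K.Normal] (hsolv : Group.IsSolvable K) (τ : (L → ℂ) → (G → ℂ)) (R : (L → ℂ) → Finset (G → ℂ)) (hS : Cfsg.IsCoherenceSystem (Cfsg.inducedIrrAbove K ⊥) τ R) (hodd : Odd (Nat.card L)) (hnil : Group.IsNilpotent K) (hH₁K : ⁅K, K⁆ < K) (hKL : K < ⊤) (hfrob : ∀ k ∈ K, k ∉ ⁅K, K⁆ → ∀ x : L, x * k * x⁻¹ * k⁻¹ ∈ ⁅K, K⁆ → x ∈ K) (Z : Subgroup L) [Z.Normal] (hZ1 : Z ≠ ⊥) (hZK : Z ≤ K) (hZc : ∀ z ∈ Z, ∀ k ∈ K, z * k = k * z) (hirr : ∀ χ ∈ Cfsg.inducedIrrAbove K ⊥ \ Cfsg.inducedIrrAbove K Z, Cfsg.IsIrrCharacter L χ) : Cfsg.inducedIrrAbove K ⊥ \ Cfsg.inducedIrrAbove K Z = {χ | Cfsg.IsIrrCharacter L χ ∧ ∃ z ∈ Z, χ z ≠ χ 1} ∧ Cfsg.IsCoherent (Cfsg.inducedIrrAbove K ⊥ \ Cfsg.inducedIrrAbove K Z) {1}ᶜ τ := by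
  classical
  have hset := inducedIrr_diff_eq K Z hZK hirr
  refine ⟨hset, ?_⟩
  have hTS : Cfsg.inducedIrrAbove K ⊥ \ Cfsg.inducedIrrAbove K Z ⊆ Cfsg.inducedIrrAbove K ⊥ :=
    Set.sdiff_subset
  have hTc : ∀ χ ∈ Cfsg.inducedIrrAbove K ⊥ \ Cfsg.inducedIrrAbove K Z,
      Cfsg.conjFun χ ∈ Cfsg.inducedIrrAbove K ⊥ \ Cfsg.inducedIrrAbove K Z := by
    rintro χ ⟨h1, h2⟩
    refine ⟨inducedIrrAbove_conj_mem K ⊥ h1, fun h3 => h2 ?_⟩
    have h4 := inducedIrrAbove_conj_mem K Z h3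
    rwa [conjFun_conjFun] at h4
  let _iL : Fintype (Cfsg.IrrCharacter L) := Fintype.ofFinite _
  have hsumAll := sum_irr_degree_sq (K := L)
  have hsumZ := sum_irr_degree_sq_above (K := L) Z
  have hsplit := Finset.sum_filter_add_sum_filter_not (Finset.univ : Finset (Cfsg.IrrCharacter L))
      (fun χ : Cfsg.IrrCharacter L => ∀ x ∈ Z, (χ : L → ℂ) x = (χ : L → ℂ) 1)
      (fun χ => Cfsg.charDegree (χ : L → ℂ) ^ 2)
  rw [hsumZ, hsumAll] at hsplit
  have hZcard : 1 < Nat.card Z := (Subgroup.one_lt_card_iff_ne_bot Z).mpr hZ1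
  have hZidx : Z.index < Nat.card L := by
    have h := Z.card_mul_index
    have hpos : 0 < Z.index := Nat.pos_of_ne_zero Subgroup.index_ne_zero_of_finite
    nlinarith
  have hTne : (Cfsg.inducedIrrAbove K ⊥ \ Cfsg.inducedIrrAbove K Z).Nonempty := by
    have hpos : ∑ χ ∈ Finset.univ.filter (fun χ : Cfsg.IrrCharacter L =>
        ¬ ∀ x ∈ Z, (χ : L → ℂ) x = (χ : L → ℂ) 1), Cfsg.charDegree (χ : L → ℂ) ^ 2 ≠ 0 := by
      omega
    obtain ⟨χ, hχ, -⟩ := Finset.exists_ne_zero_of_sum_ne_zero hpos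
    rw [Finset.mem_filter] at hχ
    have h2 := hχ.2
    push Not at h2
    obtain ⟨z, hz, hne⟩ := h2
    refine ⟨(χ : L → ℂ), ?_⟩
    rw [hset]
    exact ⟨χ.2, z, hz, hne⟩
  have hcsT := cs_restrict hS hTS hTne hTc
  have hneT : ∃ α ∈ Cfsg.zspanOn (Cfsg.inducedIrrAbove K ⊥ \ Cfsg.inducedIrrAbove K Z) {1}ᶜ,
      α ≠ 0 := by
    obtain ⟨χ, hχ⟩ := hTne
    refine ⟨χ - Cfsg.conjFun χ, cs_sub_conj_mem hcsT hχ, ?_⟩
    intro h0
    exact hcsT.conj_ne χ hχ (sub_eq_zero.mp h0).symm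
  by_cases hpp : ∃ p m : ℕ, p.Prime ∧ Nat.card K = p ^ m
  swap
  · -- `K` is not a `p`-group: `S` is coherent
    have _inil : Group.IsNilpotent K := hnil
    have hcoh := Cfsg.Agent.S1521.result K hsolv τ R hS hodd (⊥ : Subgroup L) bot_le inferInstance
      (⁅K, K⁆ ⊔ ⊥) rfl (by rw [sup_bot_eq]; exact hH₁K) hKL (by rw [sup_bot_eq]; exact hfrob)
      (Or.inr (Or.inr (Or.inl (by rw [Subgroup.relIndex_bot_left]; exact hpp))))
    exact coherent_of_subset hcoh hTS hneT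
  · obtain ⟨p, m, hp, hcard⟩ := hpp
    obtain ⟨e, he⟩ : ∃ e : ℕ, e = K.index := ⟨_, rfl⟩
    have hepos : 0 < e := by
      rw [he]; exact Nat.pos_of_ne_zero Subgroup.index_ne_zero_of_finite
    have hKcardL : Nat.card K ∣ Nat.card L := Subgroup.card_subgroup_dvd_card K
    have hm : m ≠ 0 := by
      rintro rfl
      rw [pow_zero] at hcard
      have hKbot : K = ⊥ := Subgroup.eq_bot_of_card_eq K hcard
      rw [hKbot] at hH₁K
      exact not_lt_bot hH₁K
    have hp2 : p ≠ 2 := by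
      rintro rfl
      have h2 : 2 ∣ Nat.card L := (dvd_pow_self 2 hm).trans (hcard ▸ hKcardL)
      exact (Nat.not_even_iff_odd.mpr hodd) (even_iff_two_dvd.mpr h2)
    have hp3 : 3 ≤ p := by
      have := hp.two_le
      omega
    have hcop : Nat.Coprime e p := by
      have h1 := frob_index_dvd K ⁅K, K⁆ K hH₁K.le le_rfl le_rfl hfrob
      have h2 : (⁅K, K⁆ : Subgroup L).relIndex K ∣ p ^ m := by
        rw [← hcard]; exact Subgroup.relIndex_dvd_card _ _
      obtain ⟨c, -, hc⟩ := (Nat.dvd_prime_pow hp).mp h2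
      have hc0 : c ≠ 0 := by
        rintro rfl
        rw [pow_zero, Subgroup.relIndex_eq_one] at hc
        exact (not_le_of_gt hH₁K) hc
      rw [hc, ← he] at h1
      rw [Nat.coprime_comm, Nat.Prime.coprime_iff_not_dvd hp]
      intro hpe
      have h3 : p ∣ p ^ c - 1 := hpe.trans h1
      have h4 : p ∣ p ^ c := dvd_pow_self p hc0
      have h5 : 1 ≤ p ^ c := Nat.one_le_pow _ _ hp.pos
      have h6 : p ∣ 1 := by
        have h7 := Nat.dvd_sub h4 h3
        rwa [Nat.sub_sub_self h5] at h7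
      exact hp.one_lt.ne' (Nat.dvd_one.mp h6)
    obtain ⟨b, hb⟩ : ∃ b, Z.relIndex K = p ^ b := by
      have h2 : Z.relIndex K ∣ p ^ m := by
        rw [← hcard]; exact Subgroup.relIndex_dvd_card _ _
      obtain ⟨b, -, hb⟩ := (Nat.dvd_prime_pow hp).mp h2
      exact ⟨b, hb⟩
    have hZidx2 : Z.index = p ^ b * e := by
      rw [← Subgroup.relIndex_mul_index hZK, hb, he]
    have hdeg : ∀ φ ∈ Cfsg.inducedIrrAbove K ⊥ \ Cfsg.inducedIrrAbove K Z,
        ∃ j : ℕ, φ 1 = ((e * p ^ j : ℕ) : ℂ) ∧ 2 * j ≤ b := by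
      rintro φ ⟨⟨θ, hθ, -, -, rfl⟩, -⟩
      obtain ⟨dθ, hdpos, hd1, hddvd⟩ := irr_degree_nat_dvd hθ
      rw [hcard] at hddvd
      obtain ⟨j, -, rfl⟩ := (Nat.dvd_prime_pow hp).mp hddvd
      refine ⟨j, ?_, ?_⟩
      · rw [indFun_one, hd1, he]; push_cast; ring
      · obtain ⟨m', hm', hle⟩ := irr_degree_sq_le (Z.subgroupOf K) ⊤ le_top (by
          intro z hz c _
          apply Subtype.ext
          exact hZc z hz c c.2) hθ
        rw [hd1] at hm'
        have hm'' : p ^ j = m' := by exact_mod_cast hm'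
        rw [Subgroup.index_top, one_mul] at hle
        have hrel : (Z.subgroupOf K).index = Z.relIndex K := rfl
        rw [hrel, hb, ← hm'', ← pow_mul] at hle
        have := (Nat.pow_le_pow_iff_right hp.one_lt).mp hle
        omega
    obtain ⟨d, hddef⟩ : ∃ d : (L → ℂ) → ℕ, d = fun φ => Cfsg.charDegree φ := ⟨_, rfl⟩
    have hdval : ∀ φ : L → ℂ, ∀ k : ℕ, φ 1 = (k : ℂ) → d φ = k := by
      intro φ k h
      rw [hddef]
      show ⌊(φ 1).re⌋₊ = k
      rw [h]; simp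
    have hd : ∀ φ ∈ Cfsg.inducedIrrAbove K ⊥ \ Cfsg.inducedIrrAbove K Z, φ 1 = (d φ : ℂ) := by
      intro φ hφ
      obtain ⟨j, hj, -⟩ := hdeg φ hφ
      rw [hdval φ _ hj, hj]
    have hn : ∀ φ ∈ Cfsg.inducedIrrAbove K ⊥ \ Cfsg.inducedIrrAbove K Z,
        Cfsg.classInner φ φ = ((1 : ℕ) : ℂ) := by
      intro φ hφ
      rw [classInner_irr_self (hirr φ hφ)]; simp
    obtain ⟨Tfin, hTfin⟩ : ∃ Tfin : Finset (L → ℂ), Tfin = (Finset.univ.filter
        (fun χ : Cfsg.IrrCharacter L => ¬ ∀ x ∈ Z, (χ : L → ℂ) x = (χ : L → ℂ) 1)).image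
          Subtype.val := ⟨_, rfl⟩
    have hTfin_coe : (↑Tfin : Set (L → ℂ))
        = Cfsg.inducedIrrAbove K ⊥ \ Cfsg.inducedIrrAbove K Z := by
      rw [hset, hTfin]
      ext φ
      simp only [Finset.coe_image, Finset.coe_filter, Finset.mem_univ, true_and, Set.mem_image,
        Set.mem_ofPred_eq]
      constructor
      · rintro ⟨χ, hχ, rfl⟩
        push Not at hχ
        obtain ⟨z, hz, hne⟩ := hχ
        exact ⟨χ.2, z, hz, hne⟩
      · rintro ⟨hφ, z, hz, hne⟩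
        refine ⟨⟨φ, hφ⟩, ?_, rfl⟩
        intro hall
        exact hne (hall z hz)
    have hTfin_mem : ∀ φ, φ ∈ Tfin ↔
        φ ∈ Cfsg.inducedIrrAbove K ⊥ \ Cfsg.inducedIrrAbove K Z := by
      intro φ; rw [← hTfin_coe]; exact Finset.mem_coe.symm
    have hsumT : ∑ φ ∈ Tfin, d φ ^ 2 + Z.index = Nat.card L := by
      rw [hTfin, Finset.sum_image (fun x _ y _ h => Subtype.ext h)]
      simp only [hddef]
      rw [add_comm]
      exact hsplit
    have hTfin_ne : Tfin.Nonempty := by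
      obtain ⟨χ, hχ⟩ := hTne
      exact ⟨χ, (hTfin_mem χ).mpr hχ⟩
    obtain ⟨χ₁, hχ₁, hχ₁min⟩ := Finset.exists_min_image Tfin d hTfin_ne
    obtain ⟨j₁, hj₁, -⟩ := hdeg χ₁ ((hTfin_mem χ₁).mp hχ₁)
    have hdχ₁ : d χ₁ = e * p ^ j₁ := hdval χ₁ _ hj₁
    have hcoh := coherent_of_levels _ τ R hcsT d (fun _ => 1) hd hn Tfin hTfin_coe.subset (by
        intro φ hφ
        exact (hTfin_mem _).mpr (hTc φ ((hTfin_mem φ).mp hφ))) χ₁ hχ₁ hχ₁min ?_ ?_
    · rw [hTfin_coe] at hcoh; exact hcoh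
    · intro χ hχ
      obtain ⟨j, hj, -⟩ := hdeg χ ((hTfin_mem χ).mp hχ)
      have hdχ : d χ = e * p ^ j := hdval χ _ hj
      have hle := hχ₁min χ hχ
      rw [hdχ₁, hdχ] at hle ⊢
      have h1 : p ^ j₁ ≤ p ^ j := Nat.le_of_mul_le_mul_left hle hepos
      have h2 : j₁ ≤ j := (Nat.pow_le_pow_iff_right hp.one_lt).mp h1
      exact Nat.mul_dvd_mul_left e (pow_dvd_pow p h2)
    · intro χ hχ hlt
      obtain ⟨k, hk, hkb⟩ := hdeg χ ((hTfin_mem χ).mp hχ)
      have hdχ : d χ = e * p ^ k := hdval χ _ hk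
      have hjk : j₁ < k := by
        rw [hdχ₁, hdχ] at hlt
        have h1 : p ^ j₁ < p ^ k := Nat.lt_of_mul_lt_mul_left hlt
        exact (Nat.pow_lt_pow_iff_right hp.one_lt).mp h1
      obtain ⟨Rn, hRn⟩ : ∃ Rn : ℕ, Rn = ∑ φ ∈ Tfin.filter (fun φ => d φ < d χ), d φ ^ 2 :=
        ⟨_, rfl⟩
      have hcast : ∑ φ ∈ Tfin.filter (fun φ => d φ < d χ), ((d φ : ℝ) ^ 2 / ((1 : ℕ) : ℝ))
          = (Rn : ℝ) := by
        rw [hRn]; push_cast; simp
      refine lt_of_lt_of_eq ?_ hcast.symm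
      have h1 : e ^ 2 ∣ Rn := by
        rw [hRn]
        refine Finset.dvd_sum fun φ hφ => ?_
        obtain ⟨j, hj, -⟩ := hdeg φ ((hTfin_mem φ).mp (Finset.mem_filter.mp hφ).1)
        rw [hdval φ _ hj, mul_pow]
        exact Dvd.intro _ rfl
      have h2 : p ^ (2 * k) ∣ Rn := by
        have hsp := Finset.sum_filter_add_sum_filter_not Tfin (fun φ => d φ < d χ)
          (fun φ => d φ ^ 2)
        rw [← hRn] at hsp
        have h3 : p ^ (2 * k) ∣ ∑ φ ∈ Tfin.filter (fun φ => ¬ d φ < d χ), d φ ^ 2 := by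
          refine Finset.dvd_sum fun φ hφ => ?_
          have hφ' := Finset.mem_filter.mp hφ
          obtain ⟨j, hj, -⟩ := hdeg φ ((hTfin_mem φ).mp hφ'.1)
          have hdφ := hdval φ _ hj
          have hge : d χ ≤ d φ := not_lt.mp hφ'.2
          rw [hdχ, hdφ] at hge
          have h4 : p ^ k ≤ p ^ j := Nat.le_of_mul_le_mul_left hge hepos
          have h5 : k ≤ j := (Nat.pow_le_pow_iff_right hp.one_lt).mp h4
          rw [hdφ, mul_pow, ← pow_mul]
          exact Dvd.dvd.mul_left (pow_dvd_pow p (by omega)) _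
        have h6 : p ^ (2 * k) ∣ Z.index := by
          rw [hZidx2]
          exact Dvd.dvd.mul_right (pow_dvd_pow p hkb) _
        have h7 : p ^ (2 * k) ∣ Nat.card L := by
          rw [← Z.card_mul_index]
          exact Dvd.dvd.mul_left h6 _
        have h8 : p ^ (2 * k) ∣ ∑ φ ∈ Tfin, d φ ^ 2 := by
          rw [← hsumT] at h7
          exact (Nat.dvd_add_left h6).mp h7
        rw [← hsp] at h8
        exact (Nat.dvd_add_left h3).mp h8
      have h9 : e ^ 2 * p ^ (2 * k) ∣ Rn :=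
        Nat.Coprime.mul_dvd_of_dvd_of_dvd (Nat.Coprime.pow _ _ hcop) h1 h2
      have hRpos : 0 < Rn := by
        rw [hRn]
        have hmem : χ₁ ∈ Tfin.filter (fun φ => d φ < d χ) := Finset.mem_filter.mpr ⟨hχ₁, hlt⟩
        have hle := Finset.single_le_sum (f := fun φ => d φ ^ 2) (fun φ _ => Nat.zero_le _) hmem
        have hpos : 0 < d χ₁ ^ 2 := by
          rw [hdχ₁]
          have := hp.pos
          positivity
        exact lt_of_lt_of_le hpos hle
      have h10 : e ^ 2 * p ^ (2 * k) ≤ Rn := Nat.le_of_dvd hRpos h9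
      have hpj : 0 < p ^ j₁ := Nat.pow_pos hp.pos
      have hpk : 0 < p ^ k := Nat.pow_pos hp.pos
      have h11 : 3 * p ^ j₁ ≤ p ^ k := by
        have h12 : p ^ (j₁ + 1) ≤ p ^ k := Nat.pow_le_pow_right hp.pos hjk
        rw [pow_succ] at h12
        have h13 : 3 * p ^ j₁ ≤ p ^ j₁ * p := by
          rw [mul_comm]; exact Nat.mul_le_mul_left _ hp3
        exact h13.trans h12
      have hAB : 0 < (e * p ^ k) * (e * p ^ j₁) :=
        Nat.mul_pos (Nat.mul_pos hepos hpk) (Nat.mul_pos hepos hpj)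
      have h12 : 2 * d χ * d χ₁ < Rn := by
        rw [hdχ, hdχ₁]
        calc 2 * (e * p ^ k) * (e * p ^ j₁) = 2 * ((e * p ^ k) * (e * p ^ j₁)) := by ring
          _ < 3 * ((e * p ^ k) * (e * p ^ j₁)) :=
              Nat.mul_lt_mul_of_pos_right (by norm_num) hAB
          _ = (e * p ^ k) * (e * (3 * p ^ j₁)) := by ring
          _ ≤ (e * p ^ k) * (e * p ^ k) :=
              Nat.mul_le_mul_left _ (Nat.mul_le_mul_left _ h11)
          _ = e ^ 2 * p ^ (2 * k) := by ring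
          _ ≤ Rn := h10
      exact_mod_cast h12

end Cfsg.Agent.S1522
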