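import Mathlib
import Cfsg.Statements.S0881
import Cfsg.Agent.Lib.helper16.ZassInd
-- import your own Cfsg.Agent.* helpers here

set_option autoImplicit false
set_option linter.style.haveILetI false
open Cfsg

namespace Cfsg.Agent.S0881

open Cfsg.Agent.Lib.helper19 Cfsg.Agent.Lib.helper16.ZassOdd Cfsg.Agent.Lib.helper16.ZassSimple
  Cfsg.Agent.Lib.helper16.ZassInd Cfsg.Agent.Lib.helper4
open scoped ComplexConjugate

/-- Let G be a finite simple Zassenhaus group on Ω with n points, a ≠ b points with two-point stabilizer E of odd order less than n - 2, and let H be the subgroup of the stabilizer of a consisting of the identity and the elements fixing no point other than a (given here as a subgroup of the stabilizer of order one less than the number of points whose non-identity elements fix only a; it is the Frobenius kernel of the stabilizer). Let μ be a character of degree 1 of the stabilizer of a that is identically 1 on H but not identically 1. Then the function induced from μ to G is an irreducible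 character of G, and it takes the value 1 at every non-identity element of H. -/
theorem result {G Ω : Type*} [Group G] [Fintype G] [MulAction G Ω] [Fintype Ω] (hZ : Cfsg.IsZassenhausGroup G Ω) {a b : Ω} (hab : a ≠ b) [IsSimpleGroup G] (hodd : Odd (Nat.card ↥(MulAction.stabilizer G a ⊓ MulAction.stabilizer G b : Subgroup G))) (hlt : Nat.card ↥(MulAction.stabilizer G a ⊓ MulAction.stabilizer G b : Subgroup G) < Fintype.card Ω - 2) (H : Subgroup G) (hHa : H ≤ MulAction.stabilizer G a) (hHcard : Nat.card H + 1 = Fintype.card Ω) (hHfix : ∀ u ∈ H, u ≠ 1 → ∀ c : Ω, u • c = c → c = a) (μ : MulAction.stabilizer G a → ℂ) (hμ : Cfsg.IsCharacter (MulAction.stabilizer G a) μ ∧ μ 1 = 1) (hμH : ∀ u : MulAction.stabilizer G a, (u : G) ∈ H → μ u = 1) (hμne : μ ≠ fun _ => 1) : Cfsg.IsIrrCharacter G (Cfsg.indFun (MulAction.stabilizer G a) μ) ∧ ∀ u ∈ H, u ≠ 1 → Cfsg.indFun (MulAction.stabilizer G a) μ u = 1 := by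
  classical
  obtain ⟨f, hf⟩ := exists_hom_of_linear μ hμ.1 hμ.2
  have hμf : μ = fun y => ((f y : ℂˣ) : ℂ) := funext hf
  subst hμf
  have hoddall := odd_stab_all hZ hab _ rfl hodd
  have hfH : ∀ x : MulAction.stabilizer G a, (x : G) ∈ H → ((f x : ℂˣ) : ℂ) = 1 := hμH
  have part2 : ∀ u ∈ H, u ≠ 1 →
      Cfsg.indFun (MulAction.stabilizer G a) (fun y => ((f y : ℂˣ) : ℂ)) u = 1 := by
    intro u hu hu1
    have hua : u • a = a := hHa hu
    rw [indFun_of_fix_only a f u hua (hHfix u hu hu1)]
    exact hfH ⟨u, hua⟩ hu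
  refine ⟨?_, part2⟩
  apply isIrrCharacter_of_isCharacter_of_norm_one (isCharacter_indFun _ hμ.1)
  rw [frobenius_reciprocity _ _ (isClassFunction_indFun _ _)]
  have hN0 : (Nat.card (MulAction.stabilizer G a) : ℂ) ≠ 0 := by
    exact_mod_cast (Nat.card_pos (α := MulAction.stabilizer G a)).ne'
  -- orbit-stabiliser
  have : MulAction.IsPretransitive G Ω :=
    @MulAction.isPretransitive_of_is_two_pretransitive G Ω _ _ hZ.2.1
  have hcardG : (Fintype.card G : ℂ)
      = (Nat.card (MulAction.stabilizer G a) : ℂ) * (Fintype.card Ω : ℂ) := by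
    have h1 := Subgroup.card_mul_index (MulAction.stabilizer G a)
    rw [MulAction.index_stabilizer_of_transitive G a, Nat.card_eq_fintype_card (α := G),
      Nat.card_eq_fintype_card (α := Ω)] at h1
    exact_mod_cast h1.symm
  -- elements outside `H` have a second fixed point
  have hsecond : ∀ x : MulAction.stabilizer G a, (x : G) ∉ H →
      ∃ c : Ω, a ≠ c ∧ (x : G) • c = c := by
    intro x hxH
    by_contra hcon
    push Not at hcon
    apply hxH
    have hx1 : (x : G) ≠ 1 := fun h => hxH (h ▸ H.one_mem)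
    exact mem_kernel_of_fix_only hZ a H hHa hHcard hHfix hx1 x.2
      (fun c hc => by
        by_contra hca
        exact hcon c (Ne.symm hca) hc)
  -- values of `f` have norm one
  have hnorm : ∀ x : MulAction.stabilizer G a, ‖((f x : ℂˣ) : ℂ)‖ = 1 := by
    intro x
    apply Complex.norm_eq_one_of_pow_eq_one (n := Nat.card (MulAction.stabilizer G a))
    · rw [← Units.val_pow_eq_pow_val, ← map_pow, pow_card_eq_one', map_one, Units.val_one]
    · exact (Nat.card_pos (α := MulAction.stabilizer G a)).ne'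
  -- the sum of `f ^ 2` vanishes
  have hsum2 : ∑ x : MulAction.stabilizer G a, ((f x : ℂˣ) : ℂ) ^ 2 = 0 := by
    obtain ⟨x₀, hx₀⟩ : ∃ x₀ : MulAction.stabilizer G a, ((f x₀ : ℂˣ) : ℂ) ≠ 1 := by
      by_contra hcon
      push Not at hcon
      exact hμne (funext hcon)
    have hx₀H : (x₀ : G) ∉ H := fun h => hx₀ (hfH x₀ h)
    obtain ⟨c, hac, hxc⟩ := hsecond x₀ hx₀H
    have hx₀E : (x₀ : G) ∈ MulAction.stabilizer G a ⊓ MulAction.stabilizer G c :=
      (mem_two_stab _).mpr ⟨x₀.2, hxc⟩
    obtain ⟨r, hr⟩ := hoddall a c hac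
    have hpow : (x₀ : G) ^ (2 * r + 1) = 1 := by
      have : (⟨(x₀ : G), hx₀E⟩ : ↥(MulAction.stabilizer G a ⊓ MulAction.stabilizer G c))
          ^ (2 * r + 1) = 1 := by rw [← hr]; exact pow_card_eq_one'
      exact congrArg Subtype.val this
    have hpow' : ((f x₀ : ℂˣ) : ℂ) ^ (2 * r + 1) = 1 := by
      have h1 : x₀ ^ (2 * r + 1) = 1 := Subtype.ext (by simpa using hpow)
      rw [← Units.val_pow_eq_pow_val, ← map_pow, h1, map_one, Units.val_one]
    have hsq : ((f x₀ : ℂˣ) : ℂ) ^ 2 ≠ 1 := by
      intro h2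
      apply hx₀
      rw [pow_succ, pow_mul, h2, one_pow, one_mul] at hpow'
      exact hpow'
    have hre : ∑ x : MulAction.stabilizer G a, ((f (x₀ * x) : ℂˣ) : ℂ) ^ 2
        = ∑ x : MulAction.stabilizer G a, ((f x : ℂˣ) : ℂ) ^ 2 :=
      Fintype.sum_equiv (Equiv.mulLeft x₀) _ _ (fun x => rfl)
    have hmul : ((f x₀ : ℂˣ) : ℂ) ^ 2 * ∑ x : MulAction.stabilizer G a, ((f x : ℂˣ) : ℂ) ^ 2
        = ∑ x : MulAction.stabilizer G a, ((f x : ℂˣ) : ℂ) ^ 2 := by
      have h4 : ((f x₀ : ℂˣ) : ℂ) ^ 2 * ∑ x : MulAction.stabilizer G a, ((f x : ℂˣ) : ℂ) ^ 2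
          = ∑ x : MulAction.stabilizer G a, ((f (x₀ * x) : ℂˣ) : ℂ) ^ 2 := by
        rw [Finset.mul_sum]
        apply Finset.sum_congr rfl
        intro x _
        rw [map_mul, Units.val_mul, mul_pow]
      rw [h4, hre]
    have h3 : (((f x₀ : ℂˣ) : ℂ) ^ 2 - 1)
        * ∑ x : MulAction.stabilizer G a, ((f x : ℂˣ) : ℂ) ^ 2 = 0 := by
      rw [sub_mul, hmul, one_mul, sub_self]
    rcases mul_eq_zero.mp h3 with h | h
    · exact absurd (sub_eq_zero.mp h) hsq
    · exact h
  -- pointwise evaluation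
  have hpt : ∀ x : MulAction.stabilizer G a,
      ((f x : ℂˣ) : ℂ) * conj (Cfsg.indFun (MulAction.stabilizer G a)
        (fun y => ((f y : ℂˣ) : ℂ)) (x : G))
      = 1 + ((f x : ℂˣ) : ℂ) ^ 2 - (if (x : G) ∈ H then 1 else 0)
        + (if x = 1 then ((Fintype.card Ω : ℂ) - 1) else 0) := by
    intro x
    by_cases hx1 : x = 1
    · subst hx1
      rw [Subgroup.coe_one, if_pos H.one_mem, if_pos rfl,
        indFun_one_of_one _ _ (by simp), hcardG, ← mul_assoc, inv_mul_cancel₀ hN0, one_mul,
        Complex.conj_natCast, map_one, Units.val_one]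
      ring
    · rw [if_neg hx1]
      have hx1' : (x : G) ≠ 1 := fun h => hx1 (Subtype.ext h)
      by_cases hxH : (x : G) ∈ H
      · rw [if_pos hxH, part2 (x : G) hxH hx1', hfH x hxH, map_one]
        ring
      · rw [if_neg hxH]
        obtain ⟨c, hac, hxc⟩ := hsecond x hxH
        have hfix2 : ∀ p : Ω, (x : G) • p = p → p = a ∨ p = c :=
          fun p hp => zass_fix_unique hZ hx1' hac x.2 hxc hp
        obtain ⟨k, hka, hkc⟩ := zass_two_trans hZ hac hac.symm
        have hkia : k⁻¹ • a = c := inv_smul_eq_iff.mpr hkc.symm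
        have hkic : k⁻¹ • c = a := inv_smul_eq_iff.mpr hka.symm
        have hinv := (simple_struct hZ hac (hoddall a c hac)).2.2 k⁻¹ hkia hkic (x : G)
          ((mem_two_stab _).mpr ⟨x.2, hxc⟩)
        rw [inv_inv] at hinv
        have hy : k⁻¹ * (x : G) * k ∈ MulAction.stabilizer G a := by
          rw [hinv]; exact Subgroup.inv_mem _ x.2
        have hval := indFun_of_fix_two a c hac f (x : G) k x.2 hfix2 hka hy
        have hs1 : (⟨(x : G), x.2⟩ : MulAction.stabilizer G a) = x := rfl
        have hs2 : (⟨k⁻¹ * (x : G) * k, hy⟩ : MulAction.stabilizer G a) = x⁻¹ :=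
          Subtype.ext (by rw [Subgroup.coe_inv]; exact hinv)
        rw [hs1, hs2, map_inv, Units.val_inv_eq_inv_val] at hval
        rw [hval, map_add, map_inv₀, ← Complex.inv_eq_conj (hnorm x), inv_inv]
        have hne : ((f x : ℂˣ) : ℂ) ≠ 0 := Units.ne_zero _
        field_simp
        ring
  unfold Cfsg.classInner
  rw [Finset.sum_congr rfl (fun x _ => hpt x)]
  rw [Finset.sum_add_distrib, Finset.sum_sub_distrib, Finset.sum_add_distrib, hsum2,
    Finset.sum_const, Finset.card_univ, nsmul_eq_mul, mul_one, Finset.sum_boole,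
    Finset.sum_ite_eq' Finset.univ (1 : MulAction.stabilizer G a)]
  have hcH : ((Finset.univ.filter (fun x : MulAction.stabilizer G a => (x : G) ∈ H)).card : ℂ)
      = (Fintype.card Ω : ℂ) - 1 := by
    have h1 : (Finset.univ.filter (fun x : MulAction.stabilizer G a => (x : G) ∈ H)).card
        = Nat.card H := by
      rw [← natCard_subtype_eq_card_filter]
      exact Nat.card_congr (Subgroup.subgroupOfEquivOfLe hHa).toEquiv
    rw [h1, ← hHcard]
    push_cast
    ring
  rw [hcH, if_pos (Finset.mem_univ _), ← Nat.card_eq_fintype_card]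
  field_simp
  ring

end Cfsg.Agent.S0881
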