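import Mathlib
import Cfsg.Statements.S0883
import Cfsg.Agent.Lib.helper16.ZassSimple2
-- import your own Cfsg.Agent.* helpers here

set_option autoImplicit false
set_option linter.style.haveILetI false
open Cfsg

namespace Cfsg.Agent.S0883

open Cfsg.Agent.Lib.helper19 Cfsg.Agent.Lib.helper16.ZassOdd Cfsg.Agent.Lib.helper16.ZassSimple

/-- Let G be a finite simple Zassenhaus group on Ω with h + 1 points whose two-point stabilizer E has odd order e with 2e < h - 1, and let H be the subgroup of the stabilizer of a consisting of the identity and the elements fixing no point other than a (given here as a subgroup of the stabilizer of order one less than the number of points whose non-identity elements fix only a; it is the Frobenius kernel of the stabilizer). If a non-identity element u of H is a product of two involutions of G, then u is an involution. -/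
theorem result {G Ω : Type*} [Group G] [Finite G] [MulAction G Ω] [Fintype Ω] (hZ : Cfsg.IsZassenhausGroup G Ω) {a b : Ω} (hab : a ≠ b) [IsSimpleGroup G] (h e : ℕ) (hh : Fintype.card Ω = h + 1) (he : Nat.card ↥(MulAction.stabilizer G a ⊓ MulAction.stabilizer G b : Subgroup G) = e) (hodd : Odd e) (hlt : 2 * e < h - 1) (H : Subgroup G) (hHa : H ≤ MulAction.stabilizer G a) (hHcard : Nat.card H + 1 = Fintype.card Ω) (hHfix : ∀ u ∈ H, u ≠ 1 → ∀ c : Ω, u • c = c → c = a) (u : G) (hu : u ∈ H) (hu1 : u ≠ 1) (x y : G) (hx : orderOf x = 2) (hy : orderOf y = 2) (hxy : x * y = u) : orderOf u = 2 := by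
  classical
  have hoddall := odd_stab_all hZ hab e he hodd
  have hx2 := mul_self_of_orderOf_two hx
  have hy2 := mul_self_of_orderOf_two hy
  have hxi : x⁻¹ = x := inv_eq_of_mul_eq_one_left hx2
  have hua : u • a = a := hHa hu
  -- `x` inverts `u`
  have hxu : x * u * x⁻¹ = u⁻¹ := by
    rw [← hxy, hxi]
    calc x * (x * y) * x = (x * x) * y * x := by group
      _ = (x * y)⁻¹ * ((x * y) * (y * x)) := by rw [hx2]; group
      _ = (x * y)⁻¹ * (x * (y * y) * x) := by group
      _ = (x * y)⁻¹ := by rw [hy2, mul_one, hx2, mul_one]
  -- hence `x` fixes `a`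
  have hxa : x • a = a := by
    apply hHfix u hu hu1
    have h1 : u⁻¹ • (x • a) = x • a := by
      rw [← hxu, mul_smul, mul_smul, inv_smul_smul, hua]
    have := congrArg (fun c => u • c) h1
    simp only [smul_inv_smul] at this
    exact this.symm
  have hya : y • a = a := by
    have : y = x * u := by rw [← hxy, ← mul_assoc, hx2, one_mul]
    rw [this, mul_smul, hua, hxa]
  by_cases hev : Even h
  · have hcomm := invol_fixing_commute hZ hab e he hodd h hh hlt hev H hHa hHcard hHfix hx hxa hy hya
    have hyi : y⁻¹ = y := inv_eq_of_mul_eq_one_left hy2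
    rw [hyi] at hcomm
    apply orderOf_eq_prime
    · rw [pow_two, ← hxy]
      calc x * y * (x * y) = x * (y * x * y) := by group
        _ = 1 := by rw [hcomm, hx2]
    · exact hu1
  · exfalso
    have hnev : Even (Fintype.card Ω) := by
      rw [hh, Nat.even_add_one]; exact hev
    have h1 := invol_card_fixed hoddall hx
    rw [if_pos hnev, Finset.card_eq_zero] at h1
    have h2 : a ∈ Finset.univ.filter (fun c : Ω => x • c = c) := by
      rw [Finset.mem_filter]; exact ⟨Finset.mem_univ _, hxa⟩
    rw [h1] at h2
    exact absurd h2 (Finset.notMem_empty _)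

end Cfsg.Agent.S0883
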