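import Mathlib
import Cfsg.Statements.S0884
import Cfsg.Agent.Lib.helper16.ZassSimple3
-- import your own Cfsg.Agent.* helpers here

set_option autoImplicit false
set_option linter.style.haveILetI false
open Cfsg

namespace Cfsg.Agent.S0884

open Cfsg.Agent.Lib.helper19 Cfsg.Agent.Lib.helper16.ZassOdd Cfsg.Agent.Lib.helper16.ZassSimple
  Cfsg.Agent.Lib.helper16.InvolProd

/-- Let G be a finite simple Zassenhaus group on Ω with h + 1 points whose two-point stabilizer E has odd order e with 2e < h - 1, and let H be the subgroup of the stabilizer of a consisting of the identity and the elements fixing no point other than a (given here as a subgroup of the stabilizer of order one less than the number of points whose non-identity elements fix only a; it is the Frobenius kernel of the stabilizer). Then at least e conjugacy classes of G contain no element of H. -/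
theorem result {G Ω : Type*} [Group G] [Finite G] [MulAction G Ω] [Fintype Ω] (hZ : Cfsg.IsZassenhausGroup G Ω) {a b : Ω} (hab : a ≠ b) [IsSimpleGroup G] (h e : ℕ) (hh : Fintype.card Ω = h + 1) (he : Nat.card ↥(MulAction.stabilizer G a ⊓ MulAction.stabilizer G b : Subgroup G) = e) (hodd : Odd e) (hlt : 2 * e < h - 1) (H : Subgroup G) (hHa : H ≤ MulAction.stabilizer G a) (hHcard : Nat.card H + 1 = Fintype.card Ω) (hHfix : ∀ u ∈ H, u ≠ 1 → ∀ c : Ω, u • c = c → c = a) : e ≤ Nat.card {C : ConjClasses G // ∀ g : G, ConjClasses.mk g = C → g ∉ H} := by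
  classical
  have : Fintype G := Fintype.ofFinite G
  have : Fintype (ConjClasses G) := Fintype.ofFinite _
  have hoddall := odd_stab_all hZ hab e he hodd
  have hG : Fintype.card G = (h + 1) * h * e := by
    have := zass_card_eq hZ hab
    rw [Nat.card_eq_fintype_card, Nat.card_eq_fintype_card, hh, he, Nat.add_sub_cancel] at this
    exact this
  obtain ⟨T0, hT0⟩ : ∃ T0 : Finset G, T0 = Finset.univ.filter (fun g : G => ∀ c : Ω, g • c ≠ c) :=
    ⟨_, rfl⟩
  obtain ⟨s1, hs1⟩ : ∃ s1 : Finset G,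
      s1 = Finset.univ.filter (fun g : G => g ≠ 1 ∧ g • a = a ∧ g • b = b) := ⟨_, rfl⟩
  have hA1 : e - 1 ≤ 2 * (s1.image ConjClasses.mk).card := by
    rw [hs1]; exact classes_two_stab hZ hab e he hodd
  -- conjugation transports fixed points
  have hconjfix : ∀ (k g₀ : G) (c : Ω), g₀ • c = c → (k * g₀ * k⁻¹) • (k • c) = k • c := by
    intro k g₀ c hc
    rw [mul_smul, mul_smul, inv_smul_smul, hc]
  have hA1sub : ∀ C ∈ s1.image ConjClasses.mk, ∀ g : G, ConjClasses.mk g = C → g ∉ H := by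
    intro C hC g hgC hgH
    obtain ⟨g₀, hg₀, rfl⟩ := Finset.mem_image.mp hC
    rw [hs1, Finset.mem_filter] at hg₀
    obtain ⟨-, hg₀1, hg₀a, hg₀b⟩ := hg₀
    obtain ⟨k, hk⟩ := isConj_iff.mp (ConjClasses.mk_eq_mk_iff_isConj.mp hgC.symm)
    have hg1 : g ≠ 1 := by
      intro h1
      apply hg₀1
      have : g₀ = k⁻¹ * (k * g₀ * k⁻¹) * k := by group
      rw [this, hk, h1]; group
    have h1 := hHfix g hgH hg1 (k • a) (by rw [← hk]; exact hconjfix k g₀ a hg₀a)
    have h2 := hHfix g hgH hg1 (k • b) (by rw [← hk]; exact hconjfix k g₀ b hg₀b)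
    exact hab (smul_left_cancel k (h1.trans h2.symm))
  have hA2sub : ∀ C ∈ T0.image ConjClasses.mk, ∀ g : G, ConjClasses.mk g = C → g ∉ H := by
    intro C hC g hgC hgH
    obtain ⟨g₀, hg₀, rfl⟩ := Finset.mem_image.mp hC
    rw [hT0, Finset.mem_filter] at hg₀
    obtain ⟨k, hk⟩ := isConj_iff.mp (ConjClasses.mk_eq_mk_iff_isConj.mp hgC)
    have hga : g • a = a := hHa hgH
    exact hg₀.2 (k • a) (by rw [← hk]; exact hconjfix k g a hga)
  have hdisj : Disjoint (s1.image ConjClasses.mk) (T0.image ConjClasses.mk) := by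
    rw [Finset.disjoint_left]
    intro C hC1 hC2
    obtain ⟨g₀, hg₀, rfl⟩ := Finset.mem_image.mp hC1
    obtain ⟨g₁, hg₁, hg₁C⟩ := Finset.mem_image.mp hC2
    rw [hs1, Finset.mem_filter] at hg₀
    rw [hT0, Finset.mem_filter] at hg₁
    obtain ⟨k, hk⟩ := isConj_iff.mp (ConjClasses.mk_eq_mk_iff_isConj.mp hg₁C.symm)
    exact hg₁.2 (k • a) (by rw [← hk]; exact hconjfix k g₀ a hg₀.2.2.1)
  -- the key inequality
  have hA2 : e + 1 ≤ 2 * (T0.image ConjClasses.mk).card := by
    have hsum := sum_beta (G := G)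
    have hInv := (Cfsg.Agent.S0882.result hZ hab h e hh he hodd hlt).2
    rw [natCard_subtype_eq_card_filter] at hInv
    obtain ⟨I, hI⟩ : ∃ I : ℕ, I = (Finset.univ.filter (fun x : G => orderOf x = 2)).card :=
      ⟨_, rfl⟩
    rw [← hI] at hsum hInv
    have hsplit0 := Finset.sum_filter_add_sum_filter_not (Finset.univ : Finset G)
      (fun g : G => ∀ c : Ω, g • c ≠ c) (fun g => beta g)
    rw [← hT0] at hsplit0
    obtain ⟨U, hU⟩ : ∃ U : Finset G,
        U = Finset.univ.filter (fun g : G => ¬ ∀ c : Ω, g • c ≠ c) := ⟨_, rfl⟩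
    rw [← hU] at hsplit0
    have hsplit1 := Finset.sum_filter_add_sum_filter_not U (fun g : G => g = 1)
      (fun g => beta g)
    obtain ⟨V, hV⟩ : ∃ V : Finset G, V = U.filter (fun g : G => ¬ g = 1) := ⟨_, rfl⟩
    rw [← hV] at hsplit1
    have hsplit2 := Finset.sum_filter_add_sum_filter_not V
      (fun g : G => ∃ c : Ω, g • c = c ∧ ∀ d : Ω, g • d = d → d = c) (fun g => beta g)
    obtain ⟨T1, hT1⟩ : ∃ T1 : Finset G, T1 = V.filter
        (fun g : G => ∃ c : Ω, g • c = c ∧ ∀ d : Ω, g • d = d → d = c) := ⟨_, rfl⟩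
    obtain ⟨T2, hT2⟩ : ∃ T2 : Finset G, T2 = V.filter
        (fun g : G => ¬ ∃ c : Ω, g • c = c ∧ ∀ d : Ω, g • d = d → d = c) := ⟨_, rfl⟩
    rw [← hT1, ← hT2] at hsplit2
    have hB0 : ∑ g ∈ T0, beta g ≤ (T0.image ConjClasses.mk).card * Fintype.card G :=
      sum_beta_le_image T0
    have hB1 : ∑ g ∈ U.filter (fun g : G => g = 1), beta g ≤ I := by
      have hsub : U.filter (fun g : G => g = 1) ⊆ {1} := by
        intro g hg
        rw [Finset.mem_filter] at hg
        rw [Finset.mem_singleton]; exact hg.2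
      refine le_trans (Finset.sum_le_sum_of_subset hsub) ?_
      rw [Finset.sum_singleton, hI]
      apply beta_le_card
      intro x hx _
      rw [Finset.mem_filter]; exact ⟨Finset.mem_univ _, hx⟩
    have hT2mem : ∀ g ∈ T2, g ≠ 1 ∧ ∃ c d : Ω, c ≠ d ∧ g • c = c ∧ g • d = d := by
      intro g hg
      rw [hT2, Finset.mem_filter, hV, Finset.mem_filter, hU, Finset.mem_filter] at hg
      obtain ⟨⟨⟨-, hnf⟩, hg1⟩, hnp1⟩ := hg
      push Not at hnf
      obtain ⟨c, hc⟩ := hnf
      push Not at hnp1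
      obtain ⟨d, hd, hdc⟩ := hnp1 c hc
      exact ⟨hg1, c, d, Ne.symm hdc, hc, hd⟩
    have hB2 : ∑ g ∈ T2, beta g ≤ T2.card * e := by
      rw [← smul_eq_mul]
      apply Finset.sum_le_card_nsmul
      intro g hg
      obtain ⟨hg1, c, d, hcd, hgc, hgd⟩ := hT2mem g hg
      exact beta_le_two_fixed hZ hab e he hodd hg1 hcd hgc hgd
    have hT2card := two_mul_card_two_fixed_le hZ hab T2 hT2mem
    rw [hh, hG, Nat.add_sub_cancel] at hT2card
    have hT1mem : ∀ g ∈ T1, g ≠ 1 ∧ ∃ c : Ω, g • c = c ∧ ∀ d : Ω, g • d = d → d = c := by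
      intro g hg
      rw [hT1, Finset.mem_filter, hV, Finset.mem_filter] at hg
      exact ⟨hg.1.2, hg.2⟩
    rw [hG] at hB0
    obtain ⟨m, hm⟩ : ∃ m : ℕ, m = (T0.image ConjClasses.mk).card := ⟨_, rfl⟩
    obtain ⟨t, ht⟩ : ∃ t : ℕ, t = T2.card := ⟨_, rfl⟩
    rw [← hm] at hB0 ⊢
    rw [← ht] at hB2 hT2card
    have hh2 : 2 ≤ h := by
      have := zass_three_le_card hZ (Ω := Ω)
      rw [Nat.card_eq_fintype_card, hh] at this
      omega
    obtain ⟨r, hr⟩ := hodd
    subst hr
    have ht' : t ≤ (h + 1) * h * r := by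
      have h1 : (h + 1) * h * (2 * r + 1) = 2 * ((h + 1) * h * r) + (h + 1) * h := by ring
      omega
    by_contra hcon
    have hmr : m ≤ r := by omega
    have h2 : m * ((h + 1) * h * (2 * r + 1)) ≤ r * ((h + 1) * h * (2 * r + 1)) :=
      Nat.mul_le_mul_right _ hmr
    have h3 : t * (2 * r + 1) ≤ (h + 1) * h * r * (2 * r + 1) := Nat.mul_le_mul_right _ ht'
    by_cases hev : Even h
    · rw [if_pos hev] at hInv
      have hB3 : ∑ g ∈ T1, beta g ≤ I * (2 * r + 1 - 1) := by
        calc ∑ g ∈ T1, beta g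
            ≤ ∑ g ∈ T1, (if orderOf g = 2 then 2 * r + 1 - 1 else 0) := by
              apply Finset.sum_le_sum
              intro g hg
              obtain ⟨hg1, c, hgc, huniq⟩ := hT1mem g hg
              exact beta_le_of_one_fixed hZ hab (2 * r + 1) he ⟨r, rfl⟩ h hh hlt hev H hHa hHcard
                hHfix hg1 hgc huniq
          _ ≤ ∑ g : G, (if orderOf g = 2 then 2 * r + 1 - 1 else 0) :=
              Finset.sum_le_sum_of_subset (Finset.subset_univ _)
          _ = I * (2 * r + 1 - 1) := by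
              rw [← Finset.sum_filter, Finset.sum_const, smul_eq_mul, hI]
      rw [Nat.add_sub_cancel] at hB3
      have main : I ^ 2 ≤ m * ((h + 1) * h * (2 * r + 1)) + I + I * (2 * r) + t * (2 * r + 1) := by
        linarith
      rw [hInv] at main
      have hid : ((2 * r + 1) * (h + 1)) ^ 2 = r * ((h + 1) * h * (2 * r + 1)) + (2 * r + 1) * (h + 1)
          + (2 * r + 1) * (h + 1) * (2 * r) + (h + 1) * h * r * (2 * r + 1)
          + (2 * r + 1) * (h + 1) * h := by ring
      have hpos : 0 < (2 * r + 1) * (h + 1) * h := by positivity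
      omega
    · rw [if_neg hev] at hInv
      have hB3 : ∑ g ∈ T1, beta g = 0 := by
        apply Finset.sum_eq_zero
        intro g hg
        obtain ⟨hg1, c, hgc, huniq⟩ := hT1mem g hg
        exact beta_eq_zero_of_one_fixed hZ hab (2 * r + 1) he ⟨r, rfl⟩ h hh hev hgc huniq
      have main : I ^ 2 ≤ m * ((h + 1) * h * (2 * r + 1)) + I + t * (2 * r + 1) := by
        linarith
      rw [hInv] at main
      obtain ⟨j, hj⟩ : ∃ j : ℕ, h = 2 * r + 2 + j := ⟨h - (2 * r + 2), by omega⟩
      have hid : ((2 * r + 1) * h) ^ 2 = r * ((h + 1) * h * (2 * r + 1)) + (2 * r + 1) * h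
          + (h + 1) * h * r * (2 * r + 1) + (2 * r + 1) * h * (j + 1) := by
        rw [hj]; ring
      have hpos : 0 < (2 * r + 1) * h * (j + 1) := by positivity
      omega
  rw [natCard_subtype_eq_card_filter]
  have hsub : s1.image ConjClasses.mk ∪ T0.image ConjClasses.mk ⊆
      Finset.univ.filter (fun C : ConjClasses G => ∀ g : G, ConjClasses.mk g = C → g ∉ H) := by
    intro C hC
    rw [Finset.mem_filter]
    refine ⟨Finset.mem_univ _, ?_⟩
    rcases Finset.mem_union.mp hC with hC | hC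
    · exact hA1sub C hC
    · exact hA2sub C hC
  have hfin := Finset.card_le_card hsub
  rw [Finset.card_union_of_disjoint hdisj] at hfin
  obtain ⟨r, hr⟩ := hodd
  omega

end Cfsg.Agent.S0884
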