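import Mathlib
import Cfsg.Statements.S0741

set_option autoImplicit false
open Cfsg

namespace Cfsg.Agent.S0741

open MulAction

section
variable {G Ω : Type*} [Group G] [MulAction G Ω] [Fintype Ω] [DecidableEq Ω]

/-- fixed point finset -/
def fx (t : G) : Finset Ω := Finset.univ.filter (fun x => t • x = x)

lemma mem_fx {t : G} {x : Ω} : x ∈ fx t ↔ t • x = x := by simp [fx]

lemma card_fx_le_conj (g t : G) :
    (fx (Ω := Ω) t).card ≤ (fx (Ω := Ω) (g * t * g⁻¹)).card := by
  apply Finset.card_le_card_of_injOn (fun x => g • x)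
  · intro x hx
    simp only [Finset.mem_coe, mem_fx] at hx ⊢
    rw [mul_smul, mul_smul, inv_smul_smul, hx]
  · intro x _ y _ h
    exact (MulAction.injective g) h

lemma card_fx_conj (g t : G) :
    (fx (Ω := Ω) (g * t * g⁻¹)).card = (fx (Ω := Ω) t).card := by
  apply le_antisymm _ (card_fx_le_conj g t)
  have := card_fx_le_conj (Ω := Ω) g⁻¹ (g * t * g⁻¹)
  simpa [mul_assoc] using this

lemma sq_eq_one_of_orderOf {t : G} (ht : orderOf t = 2) : t ^ 2 = 1 := by
  rw [← ht]; exact pow_orderOf_eq_one t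

lemma ne_one_of_orderOf {t : G} (ht : orderOf t = 2) : t ≠ 1 := by
  rintro rfl; simp at ht

lemma orderOf_conj_eq (h t : G) : orderOf (h * t * h⁻¹) = orderOf t := by
  have := MulEquiv.orderOf_eq (MulAut.conj h) t
  simpa [MulAut.conj_apply] using this

variable (G Ω) in
/-- involutions with exactly two fixed points -/
noncomputable def J [Fintype G] : Finset G :=
  Finset.univ.filter (fun t => orderOf t = 2 ∧ (fx (Ω := Ω) t).card = 2)

lemma mem_J [Fintype G] {t : G} :
    t ∈ J G Ω ↔ orderOf t = 2 ∧ (fx (Ω := Ω) t).card = 2 := by simp [J]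

lemma conj_mem_J [Fintype G] {t : G} (ht : t ∈ J G Ω) (g : G) : g * t * g⁻¹ ∈ J G Ω := by
  rw [mem_J] at ht ⊢
  exact ⟨by rw [orderOf_conj_eq, ht.1], by rw [card_fx_conj, ht.2]⟩

lemma swap_back [Fintype G] {t : G} (ht : t ∈ J G Ω) {x y : Ω} (h : t • x = y) : t • y = x := by
  rw [mem_J] at ht
  rw [← h, ← mul_smul, ← sq, sq_eq_one_of_orderOf ht.1, one_smul]

/-- number of elements of `J` taking `x` to `y` -/
noncomputable def cnt [Fintype G] (x y : Ω) : ℕ := ((J G Ω).filter (fun t => t • x = y)).card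

lemma cnt_le [Fintype G] (g : G) (x y : Ω) :
    cnt (G := G) x y ≤ cnt (G := G) (g • x) (g • y) := by
  apply Finset.card_le_card_of_injOn (fun t => g * t * g⁻¹)
  · intro t ht
    simp only [Finset.coe_filter, Set.mem_ofPred_eq] at ht ⊢
    exact ⟨conj_mem_J ht.1 g, by rw [mul_smul, mul_smul, inv_smul_smul, ht.2]⟩
  · intro t _ t' _ h
    simpa using h

lemma cnt_eq [Fintype G]
    (h2 : ∀ {a b c d : Ω}, a ≠ b → c ≠ d → ∃ g : G, g • a = c ∧ g • b = d)
    {x y x' y' : Ω} (hxy : x ≠ y) (hxy' : x' ≠ y') :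
    cnt (G := G) x y = cnt (G := G) x' y' := by
  obtain ⟨g, hg1, hg2⟩ := h2 hxy hxy'
  obtain ⟨g', hg1', hg2'⟩ := h2 hxy' hxy
  apply le_antisymm
  · have := cnt_le g x y; rwa [hg1, hg2] at this
  · have := cnt_le g' x' y'; rwa [hg1', hg2'] at this

end

/-- If the two-point stabilisers of a finite Zassenhaus group of degree `n + 1` have even order `d`, then `2d ≥ n - 1`. -/
theorem result {G Ω : Type*} [Group G] [Finite G] [MulAction G Ω] [Fintype Ω] (hZ : Cfsg.IsZassenhausGroup G Ω) {a b : Ω} (hab : a ≠ b) (heven : Even (Nat.card ↥(MulAction.stabilizer G a ⊓ MulAction.stabilizer G b))) : Fintype.card Ω - 2 ≤ 2 * Nat.card ↥(MulAction.stabilizer G a ⊓ MulAction.stabilizer G b) := by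
  classical
  obtain ⟨hfaith, h2, h3, -, -⟩ := hZ
  rw [is_two_pretransitive_iff] at h2
  have := Fintype.ofFinite G
  have : Fact (Nat.Prime 2) := ⟨Nat.prime_two⟩
  set N := Fintype.card Ω with hN
  set m := cnt (G := G) a b with hm
  have hF3 : m ≤ Nat.card ↥(stabilizer G a ⊓ stabilizer G b) := by
    rw [Nat.card_eq_fintype_card, Fintype.card_subtype]
    by_cases hemp : (J G Ω).filter (fun t => t • a = b) = ∅
    · simp [hm, cnt, hemp]
    · obtain ⟨s0, hs0⟩ := Finset.nonempty_iff_ne_empty.mpr hemp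
      rw [Finset.mem_filter] at hs0
      have hs0b : s0 • b = a := swap_back hs0.1 hs0.2
      apply Finset.card_le_card_of_injOn (fun t => s0⁻¹ * t)
      · intro t ht
        simp only [Finset.coe_filter, Set.mem_ofPred_eq, Finset.mem_univ, true_and] at ht ⊢
        rw [Subgroup.mem_inf, mem_stabilizer_iff, mem_stabilizer_iff, mul_smul, mul_smul, ht.2,
          swap_back ht.1 ht.2]
        exact ⟨inv_smul_eq_iff.mpr hs0.2.symm, inv_smul_eq_iff.mpr hs0b.symm⟩
      · intro t _ t' _ h
        exact mul_left_cancel h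
  obtain ⟨u, hu⟩ := exists_prime_orderOf_dvd_card' 2 (even_iff_two_dvd.mp heven)
  have hu' : orderOf (u : G) = 2 := by rw [Subgroup.orderOf_coe, hu]
  have hua : (u : G) • a = a := (Subgroup.mem_inf.mp u.2).1
  have hub : (u : G) • b = b := (Subgroup.mem_inf.mp u.2).2
  have huJ : (u : G) ∈ J G Ω := by
    rw [mem_J]
    refine ⟨hu', le_antisymm ?_ ?_⟩
    · by_contra hcon
      push Not at hcon
      rw [Finset.two_lt_card_iff] at hcon
      obtain ⟨x, y, z, hx, hy, hz, hxy, hxz, hyz⟩ := hcon
      rw [mem_fx] at hx hy hz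
      exact ne_one_of_orderOf hu' (h3 _ x y z hxy hyz hxz hx hy hz)
    · have hsub : ({a, b} : Finset Ω) ⊆ fx (u : G) := by
        intro x hx
        simp only [Finset.mem_insert, Finset.mem_singleton] at hx
        rcases hx with rfl | rfl
        · exact mem_fx.mpr hua
        · exact mem_fx.mpr hub
      calc 2 = ({a, b} : Finset Ω).card := (Finset.card_pair hab).symm
        _ ≤ _ := Finset.card_le_card hsub
  have hF2 : ∀ x y : Ω, x ≠ y → ∃ t ∈ J G Ω, t • x = x ∧ t • y = y := by
    intro x y hxy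
    obtain ⟨g, hg1, hg2⟩ := h2 hab hxy
    refine ⟨g * u * g⁻¹, conj_mem_J huJ g, ?_, ?_⟩
    · rw [mul_smul, mul_smul, inv_smul_eq_iff.mpr hg1.symm, hua, hg1]
    · rw [mul_smul, mul_smul, inv_smul_eq_iff.mpr hg2.symm, hub, hg2]
  have hC123 : (J G Ω).card * (N - 2) = N * ((N - 1) * m) := by
    have e1 : ∑ t ∈ J G Ω, ((Finset.univ : Finset Ω).filter (fun x => t • x ≠ x)).card =
        (J G Ω).card * (N - 2) := by
      apply Finset.sum_const_nat
      intro t ht
      rw [mem_J] at ht
      have h' := Finset.card_filter_add_card_filter_not (s := (Finset.univ : Finset Ω))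
        (fun x => t • x = x)
      have h'' : (fx (Ω := Ω) t).card = 2 := ht.2
      simp only [fx] at h''
      rw [Finset.card_univ, ← hN] at h'
      show ((Finset.univ : Finset Ω).filter (fun x => ¬ t • x = x)).card = N - 2
      omega
    have e2 : ∑ t ∈ J G Ω, ((Finset.univ : Finset Ω).filter (fun x => t • x ≠ x)).card =
        ∑ x : Ω, ((J G Ω).filter (fun t => t • x ≠ x)).card :=
      Finset.sum_card_bipartiteAbove_eq_sum_card_bipartiteBelow (fun t x => t • x ≠ x)
    have e3 : ∀ x : Ω, ((J G Ω).filter (fun t => t • x ≠ x)).card = (N - 1) * m := by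
      intro x
      rw [Finset.card_eq_sum_card_fiberwise (f := fun t => t • x) (t := Finset.univ.erase x)]
      · rw [Finset.sum_const_nat (m := m)]
        · simp [Finset.card_erase_of_mem, hN]
        · intro y hy
          have hyx : y ≠ x := Finset.ne_of_mem_erase hy
          rw [Finset.filter_filter]
          have hfe : (J G Ω).filter (fun t => t • x ≠ x ∧ t • x = y) =
              (J G Ω).filter (fun t => t • x = y) := by
            apply Finset.filter_congr
            intro t _
            constructor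
            · exact fun h => h.2
            · exact fun h => ⟨by rw [h]; exact hyx, h⟩
          rw [hfe]
          exact cnt_eq h2 (Ne.symm hyx) hab
      · intro t ht
        simp only [Finset.coe_filter, Set.mem_ofPred_eq] at ht
        simp [ht.2]
    rw [← e1, e2, Finset.sum_congr rfl (fun x _ => e3 x), Finset.sum_const, Finset.card_univ]
    simp [hN]
  have hC4 : N * N - N ≤ 2 * (J G Ω).card := by
    have e1 : ∑ t ∈ J G Ω, (((Finset.univ : Finset Ω).offDiag).filter
        (fun p => t • p.1 = p.1 ∧ t • p.2 = p.2)).card = 2 * (J G Ω).card := by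
      rw [Finset.sum_const_nat (m := 2), mul_comm]
      intro t ht
      rw [mem_J] at ht
      have hfe : ((Finset.univ : Finset Ω).offDiag).filter
          (fun p => t • p.1 = p.1 ∧ t • p.2 = p.2) = (fx (Ω := Ω) t).offDiag := by
        ext p
        simp only [Finset.mem_filter, Finset.mem_offDiag, Finset.mem_univ, true_and, mem_fx]
        tauto
      rw [hfe, Finset.offDiag_card, ht.2]
    have e2 := Finset.sum_card_bipartiteAbove_eq_sum_card_bipartiteBelow (s := J G Ω)
      (t := (Finset.univ : Finset Ω).offDiag) (fun t p => t • p.1 = p.1 ∧ t • p.2 = p.2)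
    have e3 : ((Finset.univ : Finset Ω).offDiag).card ≤
        ∑ p ∈ (Finset.univ : Finset Ω).offDiag,
          ((J G Ω).filter (fun t => t • p.1 = p.1 ∧ t • p.2 = p.2)).card := by
      rw [Finset.card_eq_sum_ones]
      apply Finset.sum_le_sum
      intro p hp
      rw [Finset.mem_offDiag] at hp
      obtain ⟨t, htJ, h1, h2'⟩ := hF2 p.1 p.2 hp.2.2
      exact Finset.card_pos.mpr ⟨t, Finset.mem_filter.mpr ⟨htJ, h1, h2'⟩⟩
    rw [Finset.offDiag_card, Finset.card_univ] at e3
    calc N * N - N ≤ _ := e3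
      _ = _ := e2.symm
      _ = 2 * (J G Ω).card := e1
  have hN2 : 2 ≤ N := by
    rw [hN]
    calc 2 = ({a, b} : Finset Ω).card := (Finset.card_pair hab).symm
      _ ≤ _ := Finset.card_le_univ _
  obtain ⟨d, hd⟩ : ∃ d, N = d + 2 := ⟨N - 2, by omega⟩
  rw [hd] at hC123 hC4 ⊢
  have h1 : d + 2 - 2 = d := by omega
  have h2' : d + 2 - 1 = d + 1 := by omega
  have h3' : (d + 2) * (d + 2) - (d + 2) = (d + 2) * (d + 1) := by
    have : (d + 2) * (d + 2) = (d + 2) * (d + 1) + (d + 2) := by ring
    omega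
  rw [h1, h2'] at hC123
  rw [h3'] at hC4
  rw [h1]
  have hkey : (d + 2) * (d + 1) * d ≤ (d + 2) * (d + 1) * (2 * m) := by
    calc (d + 2) * (d + 1) * d ≤ (2 * (J G Ω).card) * d := Nat.mul_le_mul_right d hC4
      _ = 2 * ((J G Ω).card * d) := by ring
      _ = 2 * ((d + 2) * ((d + 1) * m)) := by rw [hC123]
      _ = (d + 2) * (d + 1) * (2 * m) := by ring
  have hdm : d ≤ 2 * m := Nat.le_of_mul_le_mul_left hkey (by positivity)
  omega

end Cfsg.Agent.S0741
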