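import Cfsg.Statements.S0996
import Cfsg.Agent.Lib.helper84.BrAlpha
import Cfsg.Agent.Lib.helper84.BrChar
import Cfsg.Agent.Lib.helper45.BrSETUP
import Cfsg.Agent.Lib.helper81.BrBETA
import Cfsg.Agent.Lib.helper66.BrSING

set_option autoImplicit false

namespace Cfsg.Agent.S0996

open Cfsg

theorem result {G : Type*} [Group G] [Finite G] (hperf : commutator G = ⊤) (p : ℕ) [Fact p.Prime] (z : G) (hz : orderOf z = p) (hC : Subgroup.centralizer ({z} : Set G) = Subgroup.zpowers z) (hn : 2 * Nat.card (Sylow p G) < (p + 1) * (p + 2)) : (∃ (F : Type) (_ : Field F) (_ : Fintype F), Fintype.card F = p ∧ 3 < p ∧ Nonempty (G ≃* Matrix.ProjectiveSpecialLinearGroup (Fin 2) F)) ∨ (∃ (m : ℕ) (F : Type) (_ : Field F) (_ : Fintype F), Fintype.card F = 2 ^ m ∧ p = 2 ^ m + 1 ∧ 3 < p ∧ Nonempty (G ≃* Matrix.ProjectiveSpecialLinearGroup (Fin 2) F)) := by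
  classical
  have hp : p.Prime := Fact.out
  have : Fintype G := Fintype.ofFinite G
  obtain ⟨P, e, n, hP, hCP, he, he2, hep, hnp, hn1, hn2, hp2⟩ :=
    Cfsg.Agent.Lib.helper45.Br.brauer_setup hperf p z hz hC hn
  rcases Cfsg.Agent.Lib.helper84.Br.brauer_char hperf p hp2 P hP hCP e n he he2 hep hnp hn1 hn2 with ⟨h1, h2⟩ | ⟨h1, h2, χ, Y, hχ1, hχs, hY, hθ1, hθ⟩
  · left
    subst h1
    have hp5 : 3 < p := by omega
    obtain ⟨F, i1, i2, hF, hiso⟩ :=
      Cfsg.Agent.Lib.helper84.Br.brauer_alpha hperf p P hP hCP e he he2 h2 (by rw [hnp]; ring)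
    exact ⟨F, i1, i2, hF, hp5, hiso⟩
  · right
    have hp5 : 5 ≤ p := by omega
    have hcard : Nat.card G = p * (p - 1) * (p - 2) := by
      have h1' := Subgroup.card_mul_index (Subgroup.normalizer ((P : Subgroup G) : Set G))
      have hidx : (Subgroup.normalizer ((P : Subgroup G) : Set G)).index = Nat.card (Sylow p G) :=
        P.card_eq_index_normalizer.symm
      rw [hidx, he, hnp, h1] at h1'
      rw [← h1']
      obtain ⟨k, rfl⟩ : ∃ k, p = 2 * n + 3 := ⟨n, h2.symm⟩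
      have e1 : 2 * n + 3 - 1 = 2 * n + 2 := by omega
      have e2 : 2 * n + 3 - 2 = 2 * n + 1 := by omega
      rw [e1, e2]
      ring
    have hsing : 2 * Nat.card {g : G // p ∣ orderOf g} = (p - 1) * (p - 1) * (p - 2) := by
      rw [Cfsg.Agent.Lib.helper66.Br.brauer_card_singular p P hP hCP, hnp]
      obtain ⟨k, rfl⟩ : ∃ k, p = 2 * n + 3 := ⟨n, h2.symm⟩
      have e1 : 2 * n + 3 - 1 = 2 * n + 2 := by omega
      have e2 : 2 * n + 3 - 2 = 2 * n + 1 := by omega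
      rw [e1, e2]
      ring
    obtain ⟨m, F, i1, i2, hF, hpm, hiso⟩ :=
      Cfsg.Agent.Lib.helper81.Br.brauer_beta p hp5 hcard hsing χ hχ1 hχs Y hY hθ1 hθ
    exact ⟨m, F, i1, i2, hF, hpm, by omega, hiso⟩

end Cfsg.Agent.S0996
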