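import Cfsg.Statements.S0256
import Cfsg.Agent.S0249
import Cfsg.Agent.Lib.helper6.AffPerm
import Cfsg.Agent.Lib.helper6.PermMod
import Cfsg.Agent.Lib.helper6.SLCard
import Cfsg.Agent.Lib.helper45.SLGen

set_option autoImplicit false
open Cfsg

namespace Cfsg.Agent.S0256

open Matrix Cfsg.Agent.Lib.helper6

/-- a hyperbolic basis (for the Klein quadric) of (even-weight vectors of `F_2^8`) / (all-ones),
as columns -/
def Cm : Matrix (Fin 8) (Fin 6) (ZMod 2) :=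
  (Matrix.of ![![1, 1, 1, 1, 0, 0, 0, 0], ![1, 1, 0, 0, 1, 1, 0, 0], ![1, 0, 1, 0, 1, 0, 1, 0], ![1, 0, 1, 0, 1, 0, 0, 1], ![1, 0, 0, 1, 1, 1, 0, 0], ![1, 0, 0, 0, 0, 1, 1, 1]])ᵀ

/-- the coordinate functionals -/
def Bm : Matrix (Fin 6) (Fin 8) (ZMod 2) :=
  Matrix.of ![![1, 0, 0, 0, 0, 1, 1, 1], ![1, 0, 0, 1, 1, 1, 0, 0], ![1, 0, 1, 0, 1, 0, 0, 1], ![1, 0, 1, 0, 1, 0, 1, 0], ![1, 1, 0, 0, 1, 1, 0, 0], ![1, 1, 1, 1, 0, 0, 0, 0]]

def av : Fin 8 → ZMod 2 := ![0, 1, 0, 1, 1, 0, 1, 1]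
def uv : Fin 8 → ZMod 2 := ![1, 0, 1, 0, 0, 1, 0, 0]

theorem hB : Bm *ᵥ 1 = 0 := by decide
theorem hC : 1 ᵥ* Cm = 0 := by decide
theorem hBC : Bm * Cm = 1 := by decide
theorem hCB : Cm * Bm = 1 + vecMulVec 1 av + vecMulVec uv 1 := by decide

/-- `S_8 → M_6(F_2)` -/
def rho0 : Equiv.Perm (Fin 8) →* Matrix (Fin 6) (Fin 6) (ZMod 2) :=
  permModHom Bm Cm av uv hB hC hBC hCB

/-- the pairs `i < j` in `Fin 4` -/
def pr : Fin 6 → Fin 4 × Fin 4 := ![(0,1), (0,2), (0,3), (1,2), (1,3), (2,3)]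

/-- the second exterior power of a `4 × 4` matrix -/
def wedge2 (A : Matrix (Fin 4) (Fin 4) (ZMod 2)) : Matrix (Fin 6) (Fin 6) (ZMod 2) :=
  Matrix.of fun a b => A (pr a).1 (pr b).1 * A (pr a).2 (pr b).2
    - A (pr a).1 (pr b).2 * A (pr a).2 (pr b).1

theorem wedge2_mul_aux (A B : Matrix (Fin 4) (Fin 4) (ZMod 2)) (i j k l : Fin 4) :
    (A * B) i k * (A * B) j l - (A * B) i l * (A * B) j k
      = ∑ c : Fin 6, (A i (pr c).1 * A j (pr c).2 - A i (pr c).2 * A j (pr c).1)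
          * (B (pr c).1 k * B (pr c).2 l - B (pr c).1 l * B (pr c).2 k) := by
  simp only [Matrix.mul_apply, Fin.sum_univ_four, Fin.sum_univ_six, pr]
  simp
  ring

theorem wedge2_mul (A B : Matrix (Fin 4) (Fin 4) (ZMod 2)) :
    wedge2 (A * B) = wedge2 A * wedge2 B := by
  ext a b
  rw [Matrix.mul_apply]
  exact wedge2_mul_aux A B (pr a).1 (pr a).2 (pr b).1 (pr b).2

theorem wedge2_one : wedge2 1 = 1 := by decide

/-- `Λ²` as a monoid homomorphism -/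
def wedgeHom : Matrix (Fin 4) (Fin 4) (ZMod 2) →* Matrix (Fin 6) (Fin 6) (ZMod 2) where
  toFun := wedge2
  map_one' := wedge2_one
  map_mul' := wedge2_mul

/-- the even permutations of `Fin 8` corresponding to the elementary transvections -/
def sig : Fin 4 → Fin 4 → Equiv.Perm (Fin 8) :=
  ![![1,
      ⟨![4, 5, 6, 7, 0, 1, 2, 3], ![4, 5, 6, 7, 0, 1, 2, 3], by decide, by decide⟩,
      ⟨![2, 3, 0, 1, 6, 7, 4, 5], ![2, 3, 0, 1, 6, 7, 4, 5], by decide, by decide⟩,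
      ⟨![1, 0, 3, 2, 5, 4, 7, 6], ![1, 0, 3, 2, 5, 4, 7, 6], by decide, by decide⟩],
    ![⟨![4, 6, 7, 5, 0, 3, 1, 2], ![4, 6, 7, 5, 0, 3, 1, 2], by decide, by decide⟩,
      1,
      ⟨![3, 2, 1, 0, 5, 4, 7, 6], ![3, 2, 1, 0, 5, 4, 7, 6], by decide, by decide⟩,
      ⟨![2, 3, 0, 1, 7, 6, 5, 4], ![2, 3, 0, 1, 7, 6, 5, 4], by decide, by decide⟩],
    ![⟨![7, 3, 4, 1, 2, 6, 5, 0], ![7, 3, 4, 1, 2, 6, 5, 0], by decide, by decide⟩,
      ⟨![5, 4, 3, 2, 1, 0, 7, 6], ![5, 4, 3, 2, 1, 0, 7, 6], by decide, by decide⟩,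
      1,
      ⟨![4, 5, 7, 6, 0, 1, 3, 2], ![4, 5, 7, 6, 0, 1, 3, 2], by decide, by decide⟩],
    ![⟨![5, 2, 1, 4, 3, 0, 7, 6], ![5, 2, 1, 4, 3, 0, 7, 6], by decide, by decide⟩,
      ⟨![6, 3, 4, 1, 2, 7, 0, 5], ![6, 3, 4, 1, 2, 7, 0, 5], by decide, by decide⟩,
      ⟨![4, 7, 6, 5, 0, 3, 2, 1], ![4, 7, 6, 5, 0, 3, 2, 1], by decide, by decide⟩,
      1]]

theorem sig_spec : ∀ i j : Fin 4, i ≠ j →
    (Equiv.Perm.sign (sig i j) = 1 ∧ rho0 (sig i j) = wedge2 (1 + Matrix.single i j 1)) := by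
  decide

theorem wedge2_ne : wedge2 (1 + Matrix.single 0 1 1) ≠ 1 := by decide

theorem zmod2_cases : ∀ a : ZMod 2, a = 0 ∨ a = 1 := by decide

/-- `SL_4(2) → GL_6(2)` -/
def rhoS : SpecialLinearGroup (Fin 4) (ZMod 2) →* (Matrix (Fin 6) (Fin 6) (ZMod 2))ˣ :=
  (wedgeHom.comp ((Units.coeHom _).comp SpecialLinearGroup.toGL)).toHomUnits

theorem rhoS_val (g : SpecialLinearGroup (Fin 4) (ZMod 2)) : (rhoS g).val = wedge2 g.1 := rfl

/-- `A_8 → GL_6(2)` -/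
def phiA : alternatingGroup (Fin 8) →* (Matrix (Fin 6) (Fin 6) (ZMod 2))ˣ :=
  rho0.toHomUnits.comp (alternatingGroup (Fin 8)).subtype

theorem phiA_val (σ : alternatingGroup (Fin 8)) : (phiA σ).val = rho0 σ.1 := rfl

theorem card_sl42 : Nat.card (SpecialLinearGroup (Fin 4) (ZMod 2)) = 20160 := by
  have h := card_SL (F := ZMod 2) 4 (by norm_num)
  have h2 : ∏ i : Fin 4, (2 ^ 4 - 2 ^ (i : ℕ)) = 20160 := by decide
  rw [ZMod.card, h2] at h
  omega

theorem card_psl42 : Nat.card (ProjectiveSpecialLinearGroup (Fin 4) (ZMod 2)) = 20160 := by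
  have h := card_PSL (F := ZMod 2) 4 (by norm_num)
  have h2 : ∏ i : Fin 4, (2 ^ 4 - 2 ^ (i : ℕ)) = 20160 := by decide
  have h3 : Nat.gcd 4 (2 - 1) = 1 := by decide
  rw [ZMod.card, h2, h3] at h
  omega

theorem card_a8 : Nat.card (alternatingGroup (Fin 8)) = 20160 := by
  have h := two_mul_card_alternatingGroup (α := Fin 8)
  rw [Fintype.card_perm, Fintype.card_fin] at h
  rw [Nat.card_eq_fintype_card]
  have : Nat.factorial 8 = 40320 := by decide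
  omega

theorem sl_equiv_psl : Nonempty (SpecialLinearGroup (Fin 4) (ZMod 2) ≃*
    ProjectiveSpecialLinearGroup (Fin 4) (ZMod 2)) :=
  nonempty_mulEquiv_of_surjective_of_card
    (QuotientGroup.mk' (Subgroup.center (SpecialLinearGroup (Fin 4) (ZMod 2))))
    (QuotientGroup.mk'_surjective _) (by rw [card_sl42]; exact card_psl42.ge)

theorem rhoS_injective : Function.Injective rhoS := by
  obtain ⟨e⟩ := sl_equiv_psl
  have : IsSimpleGroup (ProjectiveSpecialLinearGroup (Fin 4) (ZMod 2)) :=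
    Cfsg.Agent.S0249.result (F := ZMod 2) 4 (by norm_num)
  have : IsSimpleGroup (SpecialLinearGroup (Fin 4) (ZMod 2)) := e.isSimpleGroup
  rw [← MonoidHom.ker_eq_bot_iff]
  rcases rhoS.normal_ker.eq_bot_or_eq_top with h | h
  · exact h
  · exfalso
    have h1 : SpecialLinearGroup.transvection (F := ZMod 2) (show (0 : Fin 4) ≠ 1 by decide) 1
        ∈ rhoS.ker := by rw [h]; trivial
    rw [MonoidHom.mem_ker] at h1
    have h2 := congrArg Units.val h1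
    rw [rhoS_val] at h2
    exact wedge2_ne h2

theorem range_le : rhoS.range ≤ phiA.range := by
  have htop : phiA.range.comap rhoS = ⊤ := by
    apply Cfsg.Agent.Lib.helper45.eq_top_of_transvection_mem
    intro i j hij a
    rcases zmod2_cases a with rfl | rfl
    · rw [SpecialLinearGroup.transvection_coeff_zero]; exact Subgroup.one_mem _
    · rw [Subgroup.mem_comap]
      obtain ⟨h1, h2⟩ := sig_spec i j hij
      refine ⟨⟨sig i j, Equiv.Perm.mem_alternatingGroup.mpr h1⟩, ?_⟩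
      apply Units.ext
      rw [phiA_val, rhoS_val]
      exact h2
  rintro _ ⟨g, rfl⟩
  have : g ∈ phiA.range.comap rhoS := by rw [htop]; trivial
  exact this

theorem main : Nonempty (ProjectiveSpecialLinearGroup (Fin 4) (ZMod 2) ≃*
    alternatingGroup (Fin 8)) := by
  obtain ⟨e⟩ := sl_equiv_psl
  obtain ⟨e1⟩ := nonempty_mulEquiv_of_range_le rhoS phiA rhoS_injective range_le
    (by rw [card_sl42, card_a8])
  exact ⟨e.symm.trans e1⟩

/-- PSL_4(2) is isomorphic to A_8. -/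
theorem result {F : Type*} [Field F] [Fintype F] (hF : Fintype.card F = 2) : Nonempty (Matrix.ProjectiveSpecialLinearGroup (Fin 4) F ≃* alternatingGroup (Fin 8)) := by
  obtain ⟨e⟩ := main
  have eF : ZMod 2 ≃+* F := ZMod.ringEquivOfPrime F (by norm_num) hF
  exact ⟨(pslCongr eF.symm).trans e⟩

end Cfsg.Agent.S0256
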