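import Cfsg.Statements.S0042
import Cfsg.Agent.Lib.helper1.ThompsonFpf
import Cfsg.Agent.Lib.helper1.Frob2
import Cfsg.Agent.S0035

set_option autoImplicit false
open Cfsg

namespace Cfsg.Agent.S0042

/-- In a finite Frobenius group, the Frobenius kernel is (the carrier of) a normal subgroup which is nilpotent. -/
theorem result {G : Type*} [Group G] [Finite G] (H : Subgroup G) (hH : Cfsg.IsFrobeniusComplement H) :
    ∃ N : Subgroup G, (N : Set G) = Cfsg.frobeniusKernel H ∧ N.Normal ∧ Group.IsNilpotent N := by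
  obtain ⟨N, hN, hNn, hc⟩ := Cfsg.Agent.S0035.result H hH
  refine ⟨N, hN, hNn, ?_⟩
  have hNH : N ⊓ H = ⊥ := disjoint_iff.mp hc.disjoint
  have hcard1 : Nat.card H ≠ 1 := fun h => hH.1 (Subgroup.card_eq_one.mp h)
  obtain ⟨r, hr, hrd⟩ := Nat.exists_prime_and_dvd hcard1
  have : Fact r.Prime := ⟨hr⟩
  obtain ⟨h, hh⟩ := exists_prime_orderOf_dvd_card' r hrd
  have hh1 : (h : G) ≠ 1 := by
    intro h1
    have : h = 1 := Subtype.ext h1
    rw [this, orderOf_one] at hh
    exact hr.one_lt.ne hh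
  have hfix := Lib.helper1.ti_fpf H N hH.2.2 hNH (h : G) h.2 hh1
  have hφ : ∀ n : ↥N, (MulAut.conjNormal (h : G) : ↥N ≃* ↥N) n = n → n = 1 :=
    fun n hn => Subtype.ext (hfix n n.2 (congrArg Subtype.val hn))
  have h2 : ∀ (i : ℕ) (n : ↥N),
      (((⇑(MulAut.conjNormal (h : G) : ↥N ≃* ↥N))^[i] n : ↥N) : G)
        = (h : G) ^ i * n * ((h : G) ^ i)⁻¹ := by
    intro i
    induction i with
    | zero => intro n; simp
    | succ i ih =>
      intro n
      rw [Function.iterate_succ_apply', MulAut.conjNormal_apply, ih, pow_succ']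
      group
  have hφr : ∀ n : ↥N, (⇑(MulAut.conjNormal (h : G) : ↥N ≃* ↥N))^[r] n = n := by
    intro n
    apply Subtype.ext
    rw [h2]
    have e : (h : G) ^ r = 1 := by
      rw [← Subgroup.coe_pow, ← hh, pow_orderOf_eq_one]
      rfl
    rw [e]
    simp
  exact Lib.helper1.nilpotent_of_fpf_prime_aux r hr _ ↥N rfl _ hφ hφr

end Cfsg.Agent.S0042
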