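import Cfsg.Statements.S0268
import Mathlib

set_option autoImplicit false
open Cfsg

namespace Cfsg.Agent.S0268

/-- For q odd, -1 is the unique involution of SL_2(q). -/
theorem result {F : Type*} [Field F] [Fintype F] (hF : Odd (Fintype.card F)) (g : Matrix.SpecialLinearGroup (Fin 2) F) (h1 : g ≠ 1) (h2 : g * g = 1) : (g : Matrix (Fin 2) (Fin 2) F) = -1 := by
  have h2ne : (2 : F) ≠ 0 := by
    intro h
    have hchar : ringChar F = 2 := by
      have : ringChar F ∣ 2 := (ringChar.spec F 2).1 (by exact_mod_cast h)
      rcases (Nat.dvd_prime Nat.prime_two).1 this with h' | h'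
      · exact absurd h' (CharP.ringChar_ne_one)
      · exact h'
    have hdvd : ringChar F ∣ Fintype.card F := by
      obtain ⟨n, hp, hc⟩ := FiniteField.card F (ringChar F)
      rw [hc]
      exact dvd_pow_self _ n.ne_zero
    rw [hchar] at hdvd
    exact (Nat.not_even_iff_odd.2 hF) (even_iff_two_dvd.2 hdvd)
  have hdet := g.det_coe
  rw [Matrix.det_fin_two] at hdet
  have hmat : (g : Matrix (Fin 2) (Fin 2) F) * (g : Matrix (Fin 2) (Fin 2) F) = 1 := by
    have := congrArg (fun x : Matrix.SpecialLinearGroup (Fin 2) F => (x : Matrix (Fin 2) (Fin 2) F)) h2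
    simpa using this
  have e00 := congrFun (congrFun hmat 0) 0
  have e01 := congrFun (congrFun hmat 0) 1
  have e10 := congrFun (congrFun hmat 1) 0
  have e11 := congrFun (congrFun hmat 1) 1
  simp [Matrix.mul_apply, Fin.sum_univ_two] at e00 e01 e10 e11
  set a := (g : Matrix (Fin 2) (Fin 2) F) 0 0 with ha
  set b := (g : Matrix (Fin 2) (Fin 2) F) 0 1 with hb
  set c := (g : Matrix (Fin 2) (Fin 2) F) 1 0 with hc
  set d := (g : Matrix (Fin 2) (Fin 2) F) 1 1 with hd
  have hsum : a + d ≠ 0 := by
    intro h
    have hd' : d = -a := by linear_combination h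
    rw [hd'] at hdet e11
    have : (2 : F) = 0 := by linear_combination -e00 - hdet
    exact h2ne this
  have hb0 : b = 0 := by
    have : b * (a + d) = 0 := by linear_combination e01
    rcases mul_eq_zero.1 this with h | h
    · exact h
    · exact absurd h hsum
  have hc0 : c = 0 := by
    have : c * (a + d) = 0 := by linear_combination e10
    rcases mul_eq_zero.1 this with h | h
    · exact h
    · exact absurd h hsum
  rw [hb0, hc0] at hdet e00 e11
  simp at hdet e00 e11
  have had : a = d := by
    have : a * (a * d) = d * (a * a) := by ring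
    rw [hdet, e00] at this
    simpa using this
  have ha1 : a = 1 ∨ a = -1 := by
    have : (a - 1) * (a + 1) = 0 := by linear_combination e00
    rcases mul_eq_zero.1 this with h | h
    · left; linear_combination h
    · right; linear_combination h
  rcases ha1 with h | h
  · exfalso
    apply h1
    ext i j
    fin_cases i <;> fin_cases j <;> simp
    · exact h
    · exact hb0
    · exact hc0
    · rw [← hd, ← had]; exact h
  · ext i j
    fin_cases i <;> fin_cases j <;> simp
    · exact h
    · exact hb0
    · exact hc0
    · rw [← hd, ← had]; exact h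

end Cfsg.Agent.S0268
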