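import Cfsg.Statements.S0261
import Cfsg.Agent.S0016
import Cfsg.Agent.S0268

set_option autoImplicit false
open Cfsg

namespace Cfsg.Agent.S0261

open Matrix

section

variable {F : Type*} [Field F]

/-- The matrix `[[0, 1], [-1, 0]]`. -/
def iMat : Matrix.SpecialLinearGroup (Fin 2) F :=
  ⟨!![0, 1; -1, 0], by simp [Matrix.det_fin_two]⟩

/-- The matrix `[[a, b], [b, -a]]` with `a² + b² = -1`. -/
def jMat (a b : F) (hab : a ^ 2 + b ^ 2 = -1) : Matrix.SpecialLinearGroup (Fin 2) F :=
  ⟨!![a, b; b, -a], by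
    rw [Matrix.det_fin_two]
    simp only [Matrix.of_apply, Matrix.cons_val', Matrix.cons_val_zero, Matrix.cons_val_one]
    linear_combination -hab⟩

lemma iMat_pow_four : (iMat : Matrix.SpecialLinearGroup (Fin 2) F) ^ 4 = 1 := by
  apply Subtype.ext
  rw [Matrix.SpecialLinearGroup.coe_pow]
  ext r s
  fin_cases r <;> fin_cases s <;>
    simp [iMat, pow_succ, Matrix.mul_apply, Fin.sum_univ_two]

lemma jMat_pow_four (a b : F) (hab : a ^ 2 + b ^ 2 = -1) : (jMat a b hab) ^ 4 = 1 := by
  have h2 : ((jMat a b hab : Matrix.SpecialLinearGroup (Fin 2) F) : Matrix (Fin 2) (Fin 2) F)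
      * (jMat a b hab : Matrix (Fin 2) (Fin 2) F) = -1 := by
    ext r s
    fin_cases r <;> fin_cases s
    · simp [jMat, Matrix.mul_apply, Fin.sum_univ_two]
      linear_combination hab
    · simp [jMat, Matrix.mul_apply, Fin.sum_univ_two]
      ring
    · simp [jMat, Matrix.mul_apply, Fin.sum_univ_two]
      ring
    · simp [jMat, Matrix.mul_apply, Fin.sum_univ_two]
      linear_combination hab
  apply Subtype.ext
  rw [Matrix.SpecialLinearGroup.coe_pow]
  have : (4 : ℕ) = 2 + 2 := rfl
  rw [this, pow_add, pow_two, h2]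
  simp

lemma jMat_conj (a b : F) (hab : a ^ 2 + b ^ 2 = -1) :
    jMat a b hab * iMat = iMat⁻¹ * jMat a b hab := by
  have hinv : (iMat : Matrix.SpecialLinearGroup (Fin 2) F)⁻¹ = iMat ^ 3 := by
    rw [inv_eq_iff_mul_eq_one, ← pow_succ']
    exact iMat_pow_four
  rw [hinv]
  apply Subtype.ext
  rw [Matrix.SpecialLinearGroup.coe_mul, Matrix.SpecialLinearGroup.coe_mul,
    Matrix.SpecialLinearGroup.coe_pow]
  ext r s
  fin_cases r <;> fin_cases s <;>
    simp [iMat, jMat, pow_succ, Matrix.mul_apply, Fin.sum_univ_two]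

lemma jMat_not_comm (a b : F) (hab : a ^ 2 + b ^ 2 = -1) (h2 : (2 : F) ≠ 0) :
    jMat a b hab * iMat ≠ iMat * jMat a b hab := by
  intro h
  have h' := congrArg (fun x : Matrix.SpecialLinearGroup (Fin 2) F =>
    (x : Matrix (Fin 2) (Fin 2) F)) h
  simp only [Matrix.SpecialLinearGroup.coe_mul] at h'
  have e00 := congrFun (congrFun h' 0) 0
  have e01 := congrFun (congrFun h' 0) 1
  simp [iMat, jMat, Matrix.mul_apply, Fin.sum_univ_two] at e00 e01
  have hb : b = 0 := by
    have : (2 : F) * b = 0 := by linear_combination -e00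
    rcases mul_eq_zero.1 this with h | h
    · exact absurd h h2
    · exact h
  have ha : a = 0 := by
    have : (2 : F) * a = 0 := by linear_combination e01
    rcases mul_eq_zero.1 this with h | h
    · exact absurd h h2
    · exact h
  rw [ha, hb] at hab
  have : (1 : F) = 0 := by linear_combination hab
  exact one_ne_zero this

end

/-- For q odd, the Sylow 2-subgroups of SL_2(q) are generalised quaternion. -/
theorem result {F : Type*} [Field F] [Fintype F] (hF : Odd (Fintype.card F)) (P : Sylow 2 (Matrix.SpecialLinearGroup (Fin 2) F)) : ∃ k : ℕ, 1 ≤ k ∧ Nonempty ((P : Subgroup (Matrix.SpecialLinearGroup (Fin 2) F)) ≃* QuaternionGroup (2 ^ k)) := by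
  classical
  have hfact : Fact (Nat.Prime 2) := ⟨Nat.prime_two⟩
  have h2ne : (2 : F) ≠ 0 := by
    intro h
    have hchar : ringChar F = 2 := by
      have : ringChar F ∣ 2 := (ringChar.spec F 2).1 (by exact_mod_cast h)
      rcases (Nat.dvd_prime Nat.prime_two).1 this with h' | h'
      · exact absurd h' (CharP.ringChar_ne_one)
      · exact h'
    have hdvd : ringChar F ∣ Fintype.card F := by
      obtain ⟨n, hp, hc⟩ := FiniteField.card F (ringChar F)
      rw [hc]
      exact dvd_pow_self _ n.ne_zero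
    rw [hchar] at hdvd
    exact (Nat.not_even_iff_odd.2 hF) (even_iff_two_dvd.2 hdvd)
  -- uniqueness of the subgroup of order 2
  have hinv : ∀ H : Subgroup (P : Subgroup (Matrix.SpecialLinearGroup (Fin 2) F)), Nat.card H = 2 →
      ∀ x ∈ H, x ≠ 1 → ((x : Matrix.SpecialLinearGroup (Fin 2) F) : Matrix (Fin 2) (Fin 2) F) = -1 := by
    intro H hH x hx hx1
    have hpow : x ^ 2 = 1 := by
      have h := pow_card_eq_one' (G := H) (x := ⟨x, hx⟩)
      rw [hH] at h
      have h' := congrArg Subtype.val h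
      simpa using h'
    apply Cfsg.Agent.S0268.result hF
    · intro h
      apply hx1
      exact Subtype.ext h
    · have := congrArg (fun y : (P : Subgroup (Matrix.SpecialLinearGroup (Fin 2) F)) =>
        (y : Matrix.SpecialLinearGroup (Fin 2) F)) hpow
      simpa [pow_two] using this
  have hex : ∀ H : Subgroup (P : Subgroup (Matrix.SpecialLinearGroup (Fin 2) F)), Nat.card H = 2 →
      ∃ x ∈ H, x ≠ 1 := by
    intro H hH
    have : H ≠ ⊥ := by
      intro h
      rw [h, Subgroup.card_bot] at hH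
      omega
    obtain ⟨⟨x, hx⟩, hx1⟩ := Subgroup.ne_bot_iff_exists_ne_one.1 this
    exact ⟨x, hx, fun h => hx1 (Subtype.ext h)⟩
  have hle : ∀ H K : Subgroup (P : Subgroup (Matrix.SpecialLinearGroup (Fin 2) F)),
      Nat.card H = 2 → Nat.card K = 2 → H ≤ K := by
    intro H K hH hK y hy
    by_cases hy1 : y = 1
    · rw [hy1]
      exact one_mem K
    · obtain ⟨x, hx, hx1⟩ := hex K hK
      have h1 := hinv H hH y hy hy1
      have h2 := hinv K hK x hx hx1
      have : y = x := by
        apply Subtype.ext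
        apply Subtype.ext
        rw [h1, h2]
      rw [this]
      exact hx
  have huniq : ∀ H K : Subgroup (P : Subgroup (Matrix.SpecialLinearGroup (Fin 2) F)),
      Nat.card H = 2 → Nat.card K = 2 → H = K :=
    fun H K hH hK => le_antisymm (hle H K hH hK) (hle K H hK hH)
  -- not cyclic
  have hnc : ¬ IsCyclic (P : Subgroup (Matrix.SpecialLinearGroup (Fin 2) F)) := by
    intro hcyc
    have hne : NeZero (ringChar F) := ⟨CharP.char_ne_zero_of_finite F (ringChar F)⟩
    obtain ⟨a, b, hab⟩ := CharP.sq_add_sq F (ringChar F) (-1)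
    have hab' : ((a : F)) ^ 2 + ((b : F)) ^ 2 = -1 := by
      rw [hab]
      simp
    set i : Matrix.SpecialLinearGroup (Fin 2) F := iMat with hi
    set j : Matrix.SpecialLinearGroup (Fin 2) F := jMat (a : F) (b : F) hab' with hj
    have hpi : IsPGroup 2 (Subgroup.zpowers i) := by
      rintro ⟨g, hg⟩
      obtain ⟨n, rfl⟩ := Subgroup.mem_zpowers_iff.1 hg
      refine ⟨2, Subtype.ext ?_⟩
      show (i ^ n) ^ (2 ^ 2) = 1
      rw [← zpow_natCast, ← _root_.zpow_mul, mul_comm, _root_.zpow_mul, zpow_natCast]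
      have : (2 : ℕ) ^ 2 = 4 := by norm_num
      rw [this, iMat_pow_four, _root_.one_zpow]
    have hpj : IsPGroup 2 (Subgroup.zpowers j) := by
      rintro ⟨g, hg⟩
      obtain ⟨n, rfl⟩ := Subgroup.mem_zpowers_iff.1 hg
      refine ⟨2, Subtype.ext ?_⟩
      show (j ^ n) ^ (2 ^ 2) = 1
      rw [← zpow_natCast, ← _root_.zpow_mul, mul_comm, _root_.zpow_mul, zpow_natCast]
      have : (2 : ℕ) ^ 2 = 4 := by norm_num
      rw [this, jMat_pow_four, _root_.one_zpow]
    have hconj : j * i = i⁻¹ * j := jMat_conj _ _ hab'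
    have hconj' : ∀ n : ℤ, j * i ^ n = i ^ (-n) * j := by
      intro n
      have h1 : j * i * j⁻¹ = i⁻¹ := by rw [hconj, mul_inv_cancel_right]
      have h2 : j * i ^ n * j⁻¹ = (i⁻¹) ^ n := by
        rw [← h1, conj_zpow]
      rw [_root_.zpow_neg, ← _root_.inv_zpow, ← h2, inv_mul_cancel_right]
    have hnorm : Subgroup.zpowers j ≤ Subgroup.normalizer (Subgroup.zpowers i : Set _) := by
      rw [Subgroup.zpowers_le, Subgroup.mem_normalizer_iff']
      intro n
      constructor
      · intro h
        obtain ⟨k, hk⟩ := Subgroup.mem_zpowers_iff.1 h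
        have hn : n = i ^ k * j⁻¹ := by rw [hk, mul_inv_cancel_right]
        rw [hn, ← mul_assoc, hconj', mul_inv_cancel_right]
        exact Subgroup.zpow_mem_zpowers i _
      · intro h
        obtain ⟨k, hk⟩ := Subgroup.mem_zpowers_iff.1 h
        have hn : n = j⁻¹ * i ^ k := by rw [hk, inv_mul_cancel_left]
        have h3 : i ^ k * j = j * i ^ (-k) := by
          rw [hconj', neg_neg]
        rw [hn, mul_assoc, h3, inv_mul_cancel_left]
        exact Subgroup.zpow_mem_zpowers i _
    have hM : IsPGroup 2 (Subgroup.zpowers j ⊔ Subgroup.zpowers i : Subgroup _) :=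
      IsPGroup.to_sup_of_normal_right' hpj hpi hnorm
    obtain ⟨Q, hQ⟩ := hM.exists_le_sylow
    have hiQ : i ∈ Q := hQ (Subgroup.mem_sup_right (Subgroup.mem_zpowers i))
    have hjQ : j ∈ Q := hQ (Subgroup.mem_sup_left (Subgroup.mem_zpowers j))
    have e := Sylow.equiv P Q
    have hcomm : ∀ x y : (Q : Subgroup (Matrix.SpecialLinearGroup (Fin 2) F)), x * y = y * x := by
      intro x y
      have hxy := hcyc.exists_generator
      obtain ⟨g, hg⟩ := hxy
      obtain ⟨n, hn⟩ := Subgroup.mem_zpowers_iff.1 (hg (e.symm x))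
      obtain ⟨k, hk⟩ := Subgroup.mem_zpowers_iff.1 (hg (e.symm y))
      have : e.symm x * e.symm y = e.symm y * e.symm x := by
        rw [← hn, ← hk, ← _root_.zpow_add, ← _root_.zpow_add, add_comm]
      have h2 := congrArg e this
      simpa using h2
    have h3 := hcomm ⟨j, hjQ⟩ ⟨i, hiQ⟩
    have h4 := congrArg (fun x : (Q : Subgroup (Matrix.SpecialLinearGroup (Fin 2) F)) =>
      (x : Matrix.SpecialLinearGroup (Fin 2) F)) h3
    exact jMat_not_comm _ _ hab' h2ne h4
  rcases Cfsg.Agent.S0016.result 2 P.isPGroup' huniq with h | ⟨-, n, ⟨e⟩⟩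
  · exact absurd h hnc
  · refine ⟨n, ?_, ⟨e⟩⟩
    by_contra hn
    have hn0 : n = 0 := by omega
    subst hn0
    apply hnc
    have : IsCyclic (QuaternionGroup (2 ^ 0)) := by
      rw [pow_zero]
      exact QuaternionGroup.quaternionGroup_one_isCyclic
    exact isCyclic_of_surjective e.symm e.symm.surjective

end Cfsg.Agent.S0261
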