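import Cfsg.Statements.S0067
import Cfsg.Agent.Lib.helper29.Zipper
import Cfsg.Agent.Lib.helper65.Fitting

set_option autoImplicit false
open Pointwise
open Cfsg

namespace Cfsg.Agent.S0067

/-- If the join of a subgroup A with each of its conjugates is nilpotent, then A is subnormal in the finite group and contained in the Fitting subgroup. -/
theorem result {G : Type*} [Group G] [Finite G] (A : Subgroup G)
    (h : ∀ g : G, Group.IsNilpotent (A ⊔ MulAut.conj g • A : Subgroup G)) : A.IsSubnormal ∧ A ≤ Cfsg.fittingSubgroup G := by
  have hsub : A.IsSubnormal := by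
    apply Cfsg.Agent.Lib.helper29.wielandt A
    intro g
    have := h g
    exact Cfsg.Agent.Lib.helper65.isSubnormal_of_isNilpotent _
  refine ⟨hsub, ?_⟩
  have hnil : Group.IsNilpotent A := by
    have h1 := h 1
    have h2 : A ⊔ MulAut.conj (1 : G) • A = A := by simp
    rw [h2] at h1
    exact h1
  exact Cfsg.Agent.Lib.helper65.le_fittingSubgroup_of_isSubnormal_of_isNilpotent hsub hnil

end Cfsg.Agent.S0067
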