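import Cfsg.Statements.S0623
import Cfsg.Agent.Lib.helper14.StableW
import Cfsg.Agent.Lib.helper14.PConstrained
import Cfsg.Agent.Lib.helper53.PCore

set_option autoImplicit false
open Cfsg

namespace Cfsg.Agent.S0623

open Cfsg.Agent.Lib.helper14 Cfsg.Agent.Lib.helper40
open scoped commutatorElement

/-- two elements inducing the same automorphism of the normal subgroup `V`: if one acts
quadratically, so does the other -/
theorem quadratic_of_same_action {H : Type*} [Group H] [Finite H] (V : Subgroup H) [hV : V.Normal]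
    (g g' : H) (hgg : ∀ v ∈ V, g' * v * g'⁻¹ = g * v * g⁻¹)
    (hq : ⁅⁅V, Subgroup.zpowers g⁆, Subgroup.zpowers g⁆ = ⊥) :
    ⁅⁅V, Subgroup.zpowers g'⁆, Subgroup.zpowers g'⁆ = ⊥ := by
  have hpow : ∀ n : ℕ, ∀ v ∈ V, g' ^ n * v * (g' ^ n)⁻¹ = g ^ n * v * (g ^ n)⁻¹ := by
    intro n
    induction n with
    | zero => intro v hv; simp
    | succ n ih =>
      intro v hv
      have h1 := ih v hv
      have h2 : g ^ n * v * (g ^ n)⁻¹ ∈ V := hV.conj_mem v hv _
      calc g' ^ (n + 1) * v * (g' ^ (n + 1))⁻¹ = g' * (g' ^ n * v * (g' ^ n)⁻¹) * g'⁻¹ := by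
            rw [pow_succ']; group
        _ = g' * (g ^ n * v * (g ^ n)⁻¹) * g'⁻¹ := by rw [h1]
        _ = g * (g ^ n * v * (g ^ n)⁻¹) * g⁻¹ := hgg _ h2
        _ = g ^ (n + 1) * v * (g ^ (n + 1))⁻¹ := by rw [pow_succ']; group
  have hcomm : ∀ n : ℕ, ∀ v ∈ V, ⁅v, g' ^ n⁆ = ⁅v, g ^ n⁆ := by
    intro n v hv
    have h1 := hpow n v⁻¹ (V.inv_mem hv)
    rw [commutatorElement_def, commutatorElement_def]
    calc v * g' ^ n * v⁻¹ * (g' ^ n)⁻¹ = v * (g' ^ n * v⁻¹ * (g' ^ n)⁻¹) := by group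
      _ = v * (g ^ n * v⁻¹ * (g ^ n)⁻¹) := by rw [h1]
      _ = v * g ^ n * v⁻¹ * (g ^ n)⁻¹ := by group
  have hzp : ∀ b ∈ Subgroup.zpowers g', ∃ n : ℕ, b = g' ^ n := by
    intro b hb
    obtain ⟨n, hn⟩ := (mem_powers_iff_mem_zpowers.mpr hb)
    exact ⟨n, hn.symm⟩
  have h1 : ⁅V, Subgroup.zpowers g'⁆ ≤ ⁅V, Subgroup.zpowers g⁆ := by
    rw [Subgroup.commutator_le]
    intro v hv b hb
    obtain ⟨n, rfl⟩ := hzp b hb
    rw [hcomm n v hv]
    exact Subgroup.commutator_mem_commutator hv (Subgroup.pow_mem _ (Subgroup.mem_zpowers g) n)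
  have h2 : ⁅V, Subgroup.zpowers g⁆ ≤ V := Subgroup.commutator_le_left V _
  rw [eq_bot_iff, ← hq, Subgroup.commutator_le]
  intro a ha b hb
  obtain ⟨n, rfl⟩ := hzp b hb
  rw [hcomm n a (h2 (h1 ha))]
  exact Subgroup.commutator_mem_commutator (h1 ha) (Subgroup.pow_mem _ (Subgroup.mem_zpowers g) n)

universe u

/-- the key step: the property "quadratic implies trivial" passes from `U` to the preimage of the
normal closure of its image under a stable embedding -/
theorem key_step {S : Type u} [Group S] [Finite S] {p : ℕ} [Fact p.Prime] (hS : IsPGroup p S)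
    {H : Type u} [Group H] (τ : S →* H) (hτ : Cfsg.IsStableEmbedding p τ) (U : Subgroup S)
    (hUW : U ≤ Cfsg.stableNormalClosure p S)
    (hQ : ∀ y : S, ⁅⁅U, Subgroup.zpowers y⁆, Subgroup.zpowers y⁆ = ⊥ → ⁅U, Subgroup.zpowers y⁆ = ⊥)
    (y : S)
    (hy : ⁅⁅(Subgroup.normalClosure ((U.map τ : Subgroup H) : Set H)).comap τ, Subgroup.zpowers y⁆,
      Subgroup.zpowers y⁆ = ⊥) :
    ⁅(Subgroup.normalClosure ((U.map τ : Subgroup H) : Set H)).comap τ, Subgroup.zpowers y⁆ = ⊥ := by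
  have hWn := stableNormalClosure_map_normal hS τ hτ
  obtain ⟨hinj, hfin, ⟨PH, hPH⟩, hcH, hJ, hstab⟩ := hτ
  have hVn : (Subgroup.normalClosure ((U.map τ : Subgroup H) : Set H)).Normal :=
    Subgroup.normalClosure_normal
  have hUV : U.map τ ≤ Subgroup.normalClosure ((U.map τ : Subgroup H) : Set H) :=
    Subgroup.le_normalClosure
  have hVW : Subgroup.normalClosure ((U.map τ : Subgroup H) : Set H) ≤
      (Cfsg.stableNormalClosure p S).map τ :=
    Subgroup.normalClosure_le_normal (Subgroup.map_mono hUW)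
  have hVr : Subgroup.normalClosure ((U.map τ : Subgroup H) : Set H) ≤ τ.range :=
    hVW.trans (Subgroup.map_le_range τ _)
  have hVmap : ((Subgroup.normalClosure ((U.map τ : Subgroup H) : Set H)).comap τ).map τ =
      Subgroup.normalClosure ((U.map τ : Subgroup H) : Set H) := Subgroup.map_comap_eq_self hVr
  have hVst : Cfsg.IsPStableOn p (Subgroup.normalClosure ((U.map τ : Subgroup H) : Set H)) :=
    hstab _ (hVW.trans (Subgroup.map_mono (stableNormalClosure_le_omegaCenterThompson hS)))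
  generalize hVdef : Subgroup.normalClosure ((U.map τ : Subgroup H) : Set H) = V at *
  have hqV : ⁅⁅V, Subgroup.zpowers (τ y)⁆, Subgroup.zpowers (τ y)⁆ = ⊥ := by
    rw [← hVmap, ← MonoidHom.map_zpowers, ← Subgroup.map_commutator, ← Subgroup.map_commutator, hy,
      Subgroup.map_bot]
  suffices hcent : V ≤ Subgroup.centralizer ({τ y} : Set H) by
    rw [eq_bot_iff, Subgroup.commutator_le]
    intro u hu b hb
    rw [Subgroup.mem_bot]
    obtain ⟨i, rfl⟩ := Subgroup.mem_zpowers_iff.mp hb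
    have h1 : τ y * τ u = τ u * τ y := Subgroup.mem_centralizer_iff.mp (hcent hu) (τ y) rfl
    have h2 : Commute u y := hinj (by rw [map_mul, map_mul]; exact h1.symm)
    exact commutatorElement_eq_one_iff_commute.mpr (h2.zpow_right i)
  have hyD := hVst (τ y) hqV
  have hDn : ((Cfsg.pCore p (H ⧸ Subgroup.centralizer (V : Set H))).comap
      (QuotientGroup.mk' (Subgroup.centralizer (V : Set H)))).Normal := by
    have := pCore_normal' p (H ⧸ Subgroup.centralizer (V : Set H))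
    infer_instance
  obtain ⟨QD, hQD⟩ := Cfsg.Agent.Lib.helper53.exists_sylow_eq_inf_normal PH
    ((Cfsg.pCore p (H ⧸ Subgroup.centralizer (V : Set H))).comap
      (QuotientGroup.mk' (Subgroup.centralizer (V : Set H))))
  have hCD : Subgroup.centralizer (V : Set H) ≤
      (Cfsg.pCore p (H ⧸ Subgroup.centralizer (V : Set H))).comap
        (QuotientGroup.mk' (Subgroup.centralizer (V : Set H))) := le_comap_mk'_self _ _
  have hDle : (Cfsg.pCore p (H ⧸ Subgroup.centralizer (V : Set H))).comap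
        (QuotientGroup.mk' (Subgroup.centralizer (V : Set H))) ≤
      Subgroup.centralizer (V : Set H) ⊔ ((PH : Subgroup H) ⊓
        (Cfsg.pCore p (H ⧸ Subgroup.centralizer (V : Set H))).comap
          (QuotientGroup.mk' (Subgroup.centralizer (V : Set H)))) := by
    rw [← hQD]
    apply le_sup_sylow_of_relIndex _ _ hCD _ QD
    rw [← card_map_mk', Subgroup.map_comap_eq_self_of_surjective (QuotientGroup.mk'_surjective _)]
    exact IsPGroup.iff_card.mp (pCore_isPGroup p _)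
  rw [← hVdef]
  unfold Subgroup.normalClosure
  rw [Subgroup.closure_le]
  intro z hz
  obtain ⟨a, ha, haz⟩ := Group.mem_conjugatesOfSet_iff.mp hz
  obtain ⟨h, rfl⟩ := isConj_iff.mp haz
  obtain ⟨u, hu, rfl⟩ := ha
  have huV : τ u ∈ V := hUV ⟨u, hu, rfl⟩
  have hy'D : h⁻¹ * τ y * h ∈ (Cfsg.pCore p (H ⧸ Subgroup.centralizer (V : Set H))).comap
      (QuotientGroup.mk' (Subgroup.centralizer (V : Set H))) := by
    have := hDn.conj_mem (τ y) hyD h⁻¹
    simpa using this
  obtain ⟨c, hc, s, hs, hcs⟩ := Subgroup.mem_sup_of_normal_left.mp (hDle hy'D)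
  have hsr : s ∈ τ.range := by rw [← hPH]; exact hs.1
  obtain ⟨s₀, rfl⟩ := hsr
  have hq' : ⁅⁅V, Subgroup.zpowers (h⁻¹ * τ y * h)⁆, Subgroup.zpowers (h⁻¹ * τ y * h)⁆ = ⊥ := by
    have e1 : V.map (MulAut.conj h⁻¹).toMonoidHom = V :=
      Subgroup.mem_normalizer_iff_map_conj_eq.mp
        (by rw [Subgroup.normalizer_eq_top_iff.mpr hVn]; trivial)
    have e2 : (Subgroup.zpowers (τ y)).map (MulAut.conj h⁻¹).toMonoidHom =
        Subgroup.zpowers (h⁻¹ * τ y * h) := by
      rw [MonoidHom.map_zpowers]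
      congr 1
      simp
    rw [← e1, ← e2, ← Subgroup.map_commutator, ← Subgroup.map_commutator, hqV, Subgroup.map_bot]
  have hsame : ∀ v ∈ V, τ s₀ * v * (τ s₀)⁻¹ = (h⁻¹ * τ y * h) * v * (h⁻¹ * τ y * h)⁻¹ := by
    intro v hv
    rw [← hcs]
    have h1 : τ s₀ * v * (τ s₀)⁻¹ ∈ V := hVn.conj_mem v hv _
    have h2 := Subgroup.mem_centralizer_iff.mp hc _ h1
    calc τ s₀ * v * (τ s₀)⁻¹ = (τ s₀ * v * (τ s₀)⁻¹) * c * c⁻¹ := by group
      _ = c * (τ s₀ * v * (τ s₀)⁻¹) * c⁻¹ := by rw [h2]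
      _ = c * τ s₀ * v * (c * τ s₀)⁻¹ := by group
  have hqs : ⁅⁅V, Subgroup.zpowers (τ s₀)⁆, Subgroup.zpowers (τ s₀)⁆ = ⊥ :=
    quadratic_of_same_action V _ _ hsame hq'
  have hqU : ⁅⁅U, Subgroup.zpowers s₀⁆, Subgroup.zpowers s₀⁆ = ⊥ := by
    have h3 : (⁅⁅U, Subgroup.zpowers s₀⁆, Subgroup.zpowers s₀⁆).map τ = ⊥ := by
      rw [Subgroup.map_commutator, Subgroup.map_commutator, MonoidHom.map_zpowers, eq_bot_iff, ← hqs]
      exact Subgroup.commutator_mono (Subgroup.commutator_mono hUV le_rfl) le_rfl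
    exact (Subgroup.map_eq_bot_iff_of_injective _ hinj).mp h3
  have hUs := hQ s₀ hqU
  have hus : Commute u s₀ := by
    have : ⁅u, s₀⁆ ∈ ⁅U, Subgroup.zpowers s₀⁆ :=
      Subgroup.commutator_mem_commutator hu (Subgroup.mem_zpowers s₀)
    rw [hUs, Subgroup.mem_bot] at this
    exact commutatorElement_eq_one_iff_commute.mp this
  rw [SetLike.mem_coe, Subgroup.mem_centralizer_iff]
  intro w hw
  rw [Set.mem_singleton_iff] at hw
  subst hw
  have h4 : τ u * τ s₀ = τ s₀ * τ u := by rw [← map_mul, ← map_mul, hus.eq]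
  have h5 : τ u * c = c * τ u := Subgroup.mem_centralizer_iff.mp hc _ huV
  have h6 : (h⁻¹ * τ y * h) * τ u = τ u * (h⁻¹ * τ y * h) := by
    calc (h⁻¹ * τ y * h) * τ u = c * τ s₀ * τ u := by rw [hcs]
      _ = c * (τ u * τ s₀) := by rw [mul_assoc, h4]
      _ = (τ u * c) * τ s₀ := by rw [← mul_assoc, h5]
      _ = τ u * (h⁻¹ * τ y * h) := by rw [mul_assoc, hcs]
  calc τ y * (h * τ u * h⁻¹) = h * ((h⁻¹ * τ y * h) * τ u) * h⁻¹ := by group
    _ = h * (τ u * (h⁻¹ * τ y * h)) * h⁻¹ := by rw [h6]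
    _ = h * τ u * h⁻¹ * τ y := by group

/-- No element of a finite p-group acts quadratically and nontrivially on the stable normal closure W(S). -/
theorem result {S : Type*} [Group S] [Finite S] {p : ℕ} [Fact p.Prime] (hS : IsPGroup p S) (x : S) (hq : ⁅⁅Cfsg.stableNormalClosure p S, Subgroup.zpowers x⁆, Subgroup.zpowers x⁆ = ⊥) : ⁅Cfsg.stableNormalClosure p S, Subgroup.zpowers x⁆ = ⊥ := by
  have hne : Nonempty {U : Subgroup S // Cfsg.omegaOne p (Subgroup.center S) ≤ U ∧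
      U ≤ Cfsg.stableNormalClosure p S ∧
      (∀ y : S, ⁅⁅U, Subgroup.zpowers y⁆, Subgroup.zpowers y⁆ = ⊥ →
        ⁅U, Subgroup.zpowers y⁆ = ⊥)} := by
    refine ⟨⟨Cfsg.omegaOne p (Subgroup.center S), le_rfl,
      omegaOne_center_le_stableNormalClosure p, ?_⟩⟩
    intro y _
    rw [eq_bot_iff, Subgroup.commutator_le]
    intro u hu b hb
    rw [Subgroup.mem_bot]
    have hle : Cfsg.omegaOne p (Subgroup.center S) ≤ Subgroup.center S := by
      unfold Cfsg.omegaOne
      rw [Subgroup.closure_le]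
      intro z hz
      exact hz.1
    exact commutatorElement_eq_one_iff_commute.mpr (Subgroup.mem_center_iff.mp (hle hu) b).symm
  obtain ⟨⟨U, hU1, hU2, hU3⟩, hmax⟩ := Finite.exists_max
    (fun U : {U : Subgroup S // Cfsg.omegaOne p (Subgroup.center S) ≤ U ∧
      U ≤ Cfsg.stableNormalClosure p S ∧
      (∀ y : S, ⁅⁅U, Subgroup.zpowers y⁆, Subgroup.zpowers y⁆ = ⊥ →
        ⁅U, Subgroup.zpowers y⁆ = ⊥)} => Nat.card ↥U.1)
  have hUmem : U ∈ {W : Subgroup S | Cfsg.omegaOne p (Subgroup.center S) ≤ W ∧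
      ∀ (H : Type _) [Group H] (τ : S →* H), Cfsg.IsStableEmbedding p τ → (W.map τ).Normal} := by
    refine ⟨hU1, ?_⟩
    intro H _ τ hτ
    have hinj := hτ.1
    have hWn := stableNormalClosure_map_normal hS τ hτ
    have hVW : Subgroup.normalClosure ((U.map τ : Subgroup H) : Set H) ≤
        (Cfsg.stableNormalClosure p S).map τ :=
      Subgroup.normalClosure_le_normal (Subgroup.map_mono hU2)
    have hU' : U ≤ (Subgroup.normalClosure ((U.map τ : Subgroup H) : Set H)).comap τ := by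
      rw [← Subgroup.map_le_iff_le_comap]; exact Subgroup.le_normalClosure
    have hU'W : (Subgroup.normalClosure ((U.map τ : Subgroup H) : Set H)).comap τ ≤
        Cfsg.stableNormalClosure p S := by
      intro x hx
      obtain ⟨w, hw, hwe⟩ := hVW hx
      rw [← hinj hwe]; exact hw
    have hcard := hmax ⟨(Subgroup.normalClosure ((U.map τ : Subgroup H) : Set H)).comap τ,
      hU1.trans hU', hU'W, key_step hS τ hτ U hU2 hU3⟩
    have heq : U = (Subgroup.normalClosure ((U.map τ : Subgroup H) : Set H)).comap τ :=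
      Subgroup.eq_of_le_of_card_ge hU' hcard
    have h2 : U.map τ = Subgroup.normalClosure ((U.map τ : Subgroup H) : Set H) := by
      conv_lhs => rw [heq]
      exact Subgroup.map_comap_eq_self (hVW.trans (Subgroup.map_le_range τ _))
    rw [h2]; exact Subgroup.normalClosure_normal
  have hWU : Cfsg.stableNormalClosure p S ≤ U := sInf_le hUmem
  have hUW : U = Cfsg.stableNormalClosure p S := le_antisymm hU2 hWU
  rw [← hUW] at hq ⊢
  exact hU3 x hq

end Cfsg.Agent.S0623
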