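import Cfsg.Statements.S0624
import Cfsg.Agent.S0607
import Cfsg.Agent.Lib.helper14.StableW2

set_option autoImplicit false
open Cfsg

namespace Cfsg.Agent.S0624

open Cfsg.Agent.Lib.helper14 Cfsg.Agent.Lib.helper40
open scoped commutatorElement

/-- The analogue of the ZJ-Theorem: in an action-p-stable group whose largest normal p-subgroup contains its centralizer, the characteristic subgroup W(S) of a Sylow p-subgroup S is normal. -/
theorem result {G : Type*} [Group G] [Finite G] {p : ℕ} [Fact p.Prime] (hst : Cfsg.IsActionPStable p G) (hc : Subgroup.centralizer (Cfsg.pCore p G : Set G) ≤ Cfsg.pCore p G) (S : Sylow p G) : (((Cfsg.stableNormalClosure p ↥(S : Subgroup G)).map (S : Subgroup G).subtype)).Normal := by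
  classical
  obtain ⟨h1, h2, h3⟩ := hst
  have hS : IsPGroup p ↥(S : Subgroup G) := S.isPGroup'
  have hQn : (Cfsg.pCore p G).Normal := pCore_normal' p G
  have hQp : IsPGroup p (Cfsg.pCore p G) := pCore_isPGroup p G
  have hQS : Cfsg.pCore p G ≤ (S : Subgroup G) := Cfsg.Agent.Lib.helper55.pCore_le_sylow S
  have hWn := stableNormalClosure_normal hS
  obtain ⟨W, hWdef⟩ : ∃ W : Subgroup G,
      W = (Cfsg.stableNormalClosure p ↥(S : Subgroup G)).map (S : Subgroup G).subtype := ⟨_, rfl⟩
  have hWzj : W ≤ zjE p (S : Subgroup G) := by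
    rw [hWdef, ← omegaCenterThompson_map_eq_zjE (S : Subgroup G) hS]
    exact Subgroup.map_mono (stableNormalClosure_le_omegaCenterThompson hS)
  have hSW : (S : Subgroup G) ≤ Subgroup.normalizer (W : Set G) := by
    have h := Subgroup.le_normalizer_map (H := Cfsg.stableNormalClosure p ↥(S : Subgroup G))
      (S : Subgroup G).subtype
    rw [Subgroup.normalizer_eq_top_iff.mpr hWn, ← MonoidHom.range_eq_map,
      Subgroup.range_subtype] at h
    rw [hWdef]
    exact h
  obtain ⟨A₁, hA₁⟩ := famE_nonempty p (S : Subgroup G)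
  have hWA₁ : W ≤ A₁ := hWzj.trans (zjE_le_of_mem hA₁)
  have hWcomm : ∀ x ∈ W, ∀ y ∈ W, x * y = y * x :=
    fun x hx y hy => goodE_commute hA₁.2.1 (hWA₁ hx) (hWA₁ hy)
  have hWpow : ∀ x ∈ W, x ^ p = 1 := fun x hx => hA₁.2.1.2 x (hWA₁ hx)
  have hWgood : GoodE p W := ⟨⟨⟨fun a b => Subtype.ext (hWcomm a a.2 b b.2)⟩⟩, hWpow⟩
  have hWW : ⁅W, W⁆ = ⊥ := by
    rw [Subgroup.commutator_eq_bot_iff_le_centralizer]
    intro x hx
    rw [Subgroup.mem_centralizer_iff]
    intro y hy
    exact hWcomm y hy x hx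
  -- Step 1: `W ≤ O_p(G)`
  have hWQ : W ≤ Cfsg.pCore p G := by
    intro a ha
    have hq : ⁅⁅Cfsg.pCore p G, Subgroup.zpowers a⁆, Subgroup.zpowers a⁆ = ⊥ :=
      quadratic_of_le_normalizer hWgood (hQS.trans hSW) ha
    obtain ⟨D, hDn, hKD, ⟨k, hk⟩, haD⟩ := h2 a (by rw [hq]; exact bot_le)
    have hKp := isPGroup_sectionKernel (p := p) (G := G) hc
    have hDp : IsPGroup p D := by
      obtain ⟨m, hm⟩ := IsPGroup.iff_card.mp hKp
      have hcard := Subgroup.relIndex_mul_relIndex (⊥ : Subgroup G) _ D bot_le hKD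
      rw [Subgroup.relIndex_bot_left, Subgroup.relIndex_bot_left, hm, hk, ← pow_add] at hcard
      exact IsPGroup.of_card hcard.symm
    exact Cfsg.Agent.Lib.helper55.le_pCore hDn hDp haD
  -- S0623 inside `G`
  have hcq : ∀ t ∈ (S : Subgroup G), ⁅⁅W, Subgroup.zpowers t⁆, Subgroup.zpowers t⁆ = ⊥ →
      ∀ w ∈ W, w * t = t * w := by
    rw [hWdef]
    intro t ht hq
    exact commute_of_quadratic_stableNormalClosure (S : Subgroup G) hS ht hq
  -- Step 2: the conjugates of `W` commute with `W`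
  have hconj : ∀ g : G, ∀ w ∈ W, ∀ w' ∈ W, w * (g * w' * g⁻¹) = (g * w' * g⁻¹) * w := by
    intro g w hw w' hw'
    have htQ : g * w' * g⁻¹ ∈ Cfsg.pCore p G := hQn.conj_mem _ (hWQ hw') g
    have htS := hQS htQ
    refine hcq _ htS ?_ w hw
    have hz : Subgroup.zpowers (g * w' * g⁻¹) ≤ W.map (MulAut.conj g).toMonoidHom := by
      rw [Subgroup.zpowers_le]
      exact ⟨w', hw', by simp⟩
    have h1 : ⁅W, Subgroup.zpowers (g * w' * g⁻¹)⁆ ≤ W.map (MulAut.conj g).toMonoidHom := by
      rw [Subgroup.commutator_le]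
      intro x hx b hb
      obtain ⟨b', hb', rfl⟩ := hz hb
      have hx' : g⁻¹ * x * g ∈ (S : Subgroup G) := by
        apply hQS
        have := hQn.conj_mem _ (hWQ hx) g⁻¹
        simpa using this
      have h2 : (g⁻¹ * x * g) * b' * (g⁻¹ * x * g)⁻¹ ∈ W :=
        (Subgroup.mem_normalizer_iff.mp (hSW hx') b').mp hb'
      refine ⟨(g⁻¹ * x * g) * b' * (g⁻¹ * x * g)⁻¹ * b'⁻¹, W.mul_mem h2 (W.inv_mem hb'), ?_⟩
      rw [commutatorElement_def]
      simp only [MulEquiv.coe_toMonoidHom, MulAut.conj_apply]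
      group
    rw [eq_bot_iff]
    calc ⁅⁅W, Subgroup.zpowers (g * w' * g⁻¹)⁆, Subgroup.zpowers (g * w' * g⁻¹)⁆
        ≤ ⁅W.map (MulAut.conj g).toMonoidHom, W.map (MulAut.conj g).toMonoidHom⁆ :=
          Subgroup.commutator_mono h1 hz
      _ = ⊥ := by rw [← Subgroup.map_commutator, hWW, Subgroup.map_bot]
  -- `B = ⟨W^G⟩` is elementary abelian
  have hBcent : Subgroup.normalClosure (W : Set G) ≤
      Subgroup.centralizer (Subgroup.normalClosure (W : Set G) : Set G) := by
    have hs : ∀ z ∈ Group.conjugatesOfSet (W : Set G), ∀ z' ∈ Group.conjugatesOfSet (W : Set G),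
        z * z' = z' * z := by
      intro z hz z' hz'
      obtain ⟨w, hw, hwz⟩ := Group.mem_conjugatesOfSet_iff.mp hz
      obtain ⟨g, rfl⟩ := isConj_iff.mp hwz
      obtain ⟨w', hw', hwz'⟩ := Group.mem_conjugatesOfSet_iff.mp hz'
      obtain ⟨h, rfl⟩ := isConj_iff.mp hwz'
      have := hconj (g⁻¹ * h) w hw w' hw'
      calc g * w * g⁻¹ * (h * w' * h⁻¹)
          = g * (w * ((g⁻¹ * h) * w' * (g⁻¹ * h)⁻¹)) * g⁻¹ := by group
        _ = g * (((g⁻¹ * h) * w' * (g⁻¹ * h)⁻¹) * w) * g⁻¹ := by rw [this]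
        _ = h * w' * h⁻¹ * (g * w * g⁻¹) := by group
    have h1 : Subgroup.normalClosure (W : Set G) ≤
        Subgroup.centralizer (Group.conjugatesOfSet (W : Set G)) := by
      rw [Subgroup.normalClosure, Subgroup.closure_le]
      intro z hz
      rw [SetLike.mem_coe, Subgroup.mem_centralizer_iff]
      intro z' hz'
      exact hs z' hz' z hz
    intro x hx
    have h2 : Subgroup.normalClosure (W : Set G) ≤ Subgroup.centralizer ({x} : Set G) := by
      rw [Subgroup.normalClosure, Subgroup.closure_le]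
      intro z hz
      rw [SetLike.mem_coe, Subgroup.mem_centralizer_iff]
      intro x' hx'
      rw [Set.mem_singleton_iff] at hx'
      subst hx'
      exact (Subgroup.mem_centralizer_iff.mp (h1 hx) z hz).symm
    rw [Subgroup.mem_centralizer_iff]
    intro y hy
    exact (Subgroup.mem_centralizer_iff.mp (h2 hy) x rfl).symm
  have hBpow : ∀ x ∈ Subgroup.normalClosure (W : Set G), x ^ p = 1 := by
    intro x hx
    have hx' : x ∈ Subgroup.closure (Group.conjugatesOfSet (W : Set G)) := hx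
    refine Subgroup.closure_induction (p := fun x _ => x ^ p = 1) ?_ ?_ ?_ ?_ hx'
    · intro z hz
      obtain ⟨w, hw, hwz⟩ := Group.mem_conjugatesOfSet_iff.mp hz
      obtain ⟨g, rfl⟩ := isConj_iff.mp hwz
      rw [conj_pow, hWpow w hw]
      simp
    · simp
    · intro a b ha hb iha ihb
      have hab : a * b = b * a := Subgroup.mem_centralizer_iff.mp (hBcent hb) a ha
      have hab' : Commute a b := hab
      rw [hab'.mul_pow, iha, ihb, one_mul]
    · intro a _ iha
      rw [inv_pow, iha, inv_one]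
  have hBelem : Cfsg.IsElementaryAbelian p (Subgroup.normalClosure (W : Set G)) :=
    ⟨⟨⟨fun a b => Subtype.ext (Subgroup.mem_centralizer_iff.mp (hBcent b.2) a a.2)⟩⟩, hBpow⟩
  -- Step 3: quadratic action on `B` is trivial
  have hB3 : ∀ y : G, ⁅⁅Subgroup.normalClosure (W : Set G), Subgroup.zpowers y⁆,
      Subgroup.zpowers y⁆ = ⊥ → ∀ v ∈ Subgroup.normalClosure (W : Set G), v * y = y * v :=
    fun y hy => centralizes_normalClosure_of_quadratic S W hcq (h1 _ hBelem) y hy
  -- Step 4: `J(S)` centralizes `B`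
  have hJC : ∀ A ∈ Cfsg.maxElementaryAbelianSubgroups p ↥(S : Subgroup G),
      A.map (S : Subgroup G).subtype ≤
        Subgroup.centralizer (Subgroup.normalClosure (W : Set G) : Set G) := by
    intro A hA
    have hAG := maxElem_map_subtype S hA
    obtain ⟨hA₀, hq, hne⟩ := Cfsg.Agent.S0607.result (Subgroup.normalClosure (W : Set G)) hBelem _ hAG
    by_contra hcon
    have h4 : ⁅Subgroup.normalClosure (W : Set G), A.map (S : Subgroup G).subtype⁆ ≠ ⊥ := by
      intro h
      apply hcon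
      rw [Subgroup.commutator_comm, Subgroup.commutator_eq_bot_iff_le_centralizer] at h
      exact h
    apply hne h4
    rw [Subgroup.commutator_eq_bot_iff_le_centralizer]
    intro v hv
    rw [Subgroup.mem_centralizer_iff]
    intro a ha
    have hqa : ⁅⁅Subgroup.normalClosure (W : Set G), Subgroup.zpowers a⁆,
        Subgroup.zpowers a⁆ = ⊥ := by
      rw [eq_bot_iff, ← hq]
      exact Subgroup.commutator_mono
        (Subgroup.commutator_mono le_rfl (Subgroup.zpowers_le.mpr ha)) (Subgroup.zpowers_le.mpr ha)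
    exact (hB3 a hqa v hv).symm
  -- Step 5: Frattini argument
  have hCn : (Subgroup.centralizer (Subgroup.normalClosure (W : Set G) : Set G)).Normal :=
    inferInstance
  obtain ⟨QC, hQC⟩ := Cfsg.Agent.Lib.helper53.exists_sylow_eq_inf_normal S
    (Subgroup.centralizer (Subgroup.normalClosure (W : Set G) : Set G))
  have hfr := Sylow.normalizer_sup_eq_top QC
  rw [hQC] at hfr
  have hN5 := normalizer_inf_le_normalizer_thompson S _ hJC
  -- Step 6: `W ⊴ N_G(J(S))`
  have hSN : (S : Subgroup G) ≤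
      Subgroup.normalizer (Cfsg.thompsonSubgroupOf p (S : Subgroup G) : Set G) :=
    Subgroup.le_normalizer.trans
      (Cfsg.Agent.Lib.helper13.normalizer_le_normalizer_thompsonSubgroupOf p _)
  have hτ := isStableEmbedding_inclusion hc S hSN (h3 S)
  have hWN := stableNormalClosure_map_normal hS _ hτ
  rw [← hWdef]
  constructor
  intro w hw g
  have hg : g ∈ Subgroup.normalizer (((S : Subgroup G) ⊓
      Subgroup.centralizer (Subgroup.normalClosure (W : Set G) : Set G) : Subgroup G) : Set G) ⊔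
      Subgroup.centralizer (Subgroup.normalClosure (W : Set G) : Set G) := by
    rw [hfr]; trivial
  obtain ⟨n, hn, c, hc', rfl⟩ := Subgroup.mem_sup_of_normal_right.mp hg
  have hnN := hN5 hn
  have hcw : c * w = w * c :=
    (Subgroup.mem_centralizer_iff.mp hc' w (Subgroup.le_normalClosure hw)).symm
  have e : n * c * w * (n * c)⁻¹ = n * w * n⁻¹ := by
    calc n * c * w * (n * c)⁻¹ = n * (c * w) * c⁻¹ * n⁻¹ := by group
      _ = n * (w * c) * c⁻¹ * n⁻¹ := by rw [hcw]
      _ = n * w * n⁻¹ := by group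
  rw [e]
  rw [hWdef] at hw ⊢
  obtain ⟨w₀, hw₀, rfl⟩ := hw
  obtain ⟨w₁, hw₁, hw₁e⟩ := hWN.conj_mem (Subgroup.inclusion hSN w₀)
    (Subgroup.mem_map_of_mem _ hw₀) ⟨n, hnN⟩
  refine ⟨w₁, hw₁, ?_⟩
  have := congrArg Subtype.val hw₁e
  simpa using this

end Cfsg.Agent.S0624
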