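import Mathlib
import Cfsg.Statements.S0711

set_option autoImplicit false
open Cfsg

namespace Cfsg.Agent.S0711
open MulAction Equiv

/-- In a `k`-transitive group, some element fixes a given set of fewer than `k` points pointwise
and moves a prescribed outside point to another prescribed outside point. -/
theorem exists_fix_move {α : Type*} [Fintype α] [DecidableEq α] (G : Subgroup (Equiv.Perm α))
    {k : ℕ} (hkn : k ≤ Fintype.card α) (hG : MulAction.IsMultiplyPretransitive G α k)
    (A : Finset α) (hA : A.card + 1 ≤ k) (x x' : α) (hx : x ∉ A) (hx' : x' ∉ A) :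
    ∃ τ : Equiv.Perm α, τ ∈ G ∧ (∀ a ∈ A, τ a = a) ∧ τ x = x' := by
  have := hG
  have h1 : IsMultiplyPretransitive (fixingSubgroup G (A : Set α))
      (SubMulAction.ofFixingSubgroup G (A : Set α)) 1 := by
    apply SubMulAction.ofFixingSubgroup.isMultiplyPretransitive' (n := k)
    · rw [Set.ncard_coe_finset]; exact hA
    · rw [ENat.card_eq_coe_fintype_card]; exact_mod_cast hkn
  rw [MulAction.is_one_pretransitive_iff] at h1
  have hxm : x ∈ SubMulAction.ofFixingSubgroup G (A : Set α) := by
    rw [SubMulAction.mem_ofFixingSubgroup_iff]; simpa using hx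
  have hxm' : x' ∈ SubMulAction.ofFixingSubgroup G (A : Set α) := by
    rw [SubMulAction.mem_ofFixingSubgroup_iff]; simpa using hx'
  obtain ⟨τ, hτ⟩ := h1.exists_smul_eq
    (⟨x, hxm⟩ : SubMulAction.ofFixingSubgroup G (A : Set α)) ⟨x', hxm'⟩
  refine ⟨((τ : G) : Equiv.Perm α), (τ : G).2, ?_, ?_⟩
  · intro a ha
    have := (mem_fixingSubgroup_iff G).mp τ.2 a (by simpa using ha)
    exact this
  · have := congrArg Subtype.val hτ
    exact this

/-- The points where `g` and its conjugate by `τ` differ, when `τ` fixes `A ⊆ supp g` pointwise. -/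
theorem support_subset {α : Type*} [Fintype α] [DecidableEq α] (g τ : Equiv.Perm α)
    (A : Finset α) (hAS : A ⊆ g.support) (hτ : ∀ a ∈ A, τ a = a) :
    (g⁻¹ * (τ * g * τ⁻¹)).support ⊆
      (A.filter (fun a => g a ∉ A)) ∪ (g.support \ A) ∪ (((g.support \ A).image τ) \ g.support) := by
  intro a ha
  rw [Equiv.Perm.mem_support] at ha
  have hne : τ (g (τ⁻¹ a)) ≠ g a := by
    intro h
    apply ha
    simp only [Equiv.Perm.coe_mul, Function.comp_apply]
    rw [h]; simp
  by_contra hcon
  simp only [Finset.mem_union, Finset.mem_filter, Finset.mem_sdiff, Finset.mem_image,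
    not_or, not_and, not_not, not_exists] at hcon
  obtain ⟨⟨h1, h2⟩, h3⟩ := hcon
  by_cases haA : a ∈ A
  · have hga := h1 haA
    have h4 : τ⁻¹ a = a := by
      rw [Equiv.Perm.inv_eq_iff_eq]; exact (hτ a haA).symm
    rw [h4, hτ _ hga] at hne
    exact hne rfl
  · have haS : a ∉ g.support := fun h => haA (h2 h)
    have hga : g a = a := by
      rw [Equiv.Perm.mem_support, not_not] at haS; exact haS
    have h5 : τ⁻¹ a ∉ g.support := by
      intro h
      by_cases hA' : τ⁻¹ a ∈ A
      · have h7 : τ (τ⁻¹ a) = τ⁻¹ a := hτ _ hA'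
        have h8 : τ (τ⁻¹ a) = a := by simp
        rw [h8] at h7
        rw [← h7] at hA'
        exact haA hA'
      · have := h3 ⟨τ⁻¹ a, ⟨h, hA'⟩, by simp⟩
        exact haS this
    have h6 : g (τ⁻¹ a) = τ⁻¹ a := by
      rw [Equiv.Perm.mem_support, not_not] at h5; exact h5
    rw [h6, hga] at hne
    apply hne
    simp

/-- Subsets of the support with at most one point mapped outside, of every size. -/
theorem exists_onecut {α : Type*} [Fintype α] [DecidableEq α] (g : Equiv.Perm α) :
    ∀ j : ℕ, j ≤ g.support.card →
      ∃ A : Finset α, A ⊆ g.support ∧ A.card = j ∧ (A.filter (fun a => g a ∉ A)).card ≤ 1 := by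
  intro j
  induction j with
  | zero => intro _; exact ⟨∅, Finset.empty_subset _, rfl, by simp⟩
  | succ j ih =>
    intro hj
    obtain ⟨A, hAS, hAc, hcut⟩ := ih (by omega)
    by_cases hne : (A.filter (fun a => g a ∉ A)).Nonempty
    · obtain ⟨a₀, ha₀⟩ := hne
      rw [Finset.mem_filter] at ha₀
      refine ⟨insert (g a₀) A, ?_, ?_, ?_⟩
      · intro b hb
        rw [Finset.mem_insert] at hb
        rcases hb with rfl | hb
        · exact Equiv.Perm.apply_mem_support.mpr (hAS ha₀.1)
        · exact hAS hb
      · rw [Finset.card_insert_of_notMem ha₀.2, hAc]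
      · have hsub : (insert (g a₀) A).filter (fun a => g a ∉ insert (g a₀) A) ⊆ {g a₀} := by
          intro b hb
          rw [Finset.mem_filter, Finset.mem_insert] at hb
          obtain ⟨hb1, hb2⟩ := hb
          rw [Finset.mem_singleton]
          rcases hb1 with h | h
          · exact h
          · exfalso
            have hb3 : g b ∉ A := fun h' => hb2 (Finset.mem_insert_of_mem h')
            have hbcut : b ∈ A.filter (fun a => g a ∉ A) := Finset.mem_filter.mpr ⟨h, hb3⟩
            have ha₀cut : a₀ ∈ A.filter (fun a => g a ∉ A) := Finset.mem_filter.mpr ha₀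
            have : b = a₀ := Finset.card_le_one.mp hcut b hbcut a₀ ha₀cut
            rw [this] at hb2
            exact hb2 (Finset.mem_insert_self _ _)
        exact (Finset.card_le_card hsub).trans (by simp)
    · rw [Finset.not_nonempty_iff_eq_empty] at hne
      have hlt : A.card < g.support.card := by omega
      obtain ⟨s, hsS, hsA⟩ := Finset.exists_mem_notMem_of_card_lt_card hlt
      refine ⟨insert s A, ?_, ?_, ?_⟩
      · intro b hb
        rw [Finset.mem_insert] at hb
        rcases hb with rfl | hb
        · exact hsS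
        · exact hAS hb
      · rw [Finset.card_insert_of_notMem hsA, hAc]
      · have hsub : (insert s A).filter (fun a => g a ∉ insert s A) ⊆ {s} := by
          intro b hb
          rw [Finset.mem_filter, Finset.mem_insert] at hb
          obtain ⟨hb1, hb2⟩ := hb
          rw [Finset.mem_singleton]
          rcases hb1 with h | h
          · exact h
          · exfalso
            have hb3 : g b ∉ A := fun h' => hb2 (Finset.mem_insert_of_mem h')
            have hbcut : b ∈ A.filter (fun a => g a ∉ A) := Finset.mem_filter.mpr ⟨h, hb3⟩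
            rw [hne] at hbcut
            exact absurd hbcut (Finset.notMem_empty _)
        exact (Finset.card_le_card hsub).trans (by simp)

theorem card_bound {α : Type*} [Fintype α] [DecidableEq α] (g τ : Equiv.Perm α)
    (A : Finset α) (hAS : A ⊆ g.support) (hτ : ∀ a ∈ A, τ a = a) :
    (g⁻¹ * (τ * g * τ⁻¹)).support.card ≤
      (A.filter (fun a => g a ∉ A)).card + (g.support \ A).card +
        (((g.support \ A).image τ) \ g.support).card :=
  (Finset.card_le_card (support_subset g τ A hAS hτ)).trans
    ((Finset.card_union_le _ _).trans (Nat.add_le_add_right (Finset.card_union_le _ _) _))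

/-- One reduction step: a non-identity element of support `m` with `4 ≤ m ≤ 2k - 3` yields a
non-identity element of smaller support. -/
theorem step {α : Type*} [Fintype α] [DecidableEq α] (G : Subgroup (Equiv.Perm α)) {k : ℕ}
    (hk : 3 ≤ k) (hkn : k ≤ Fintype.card α) (hG : MulAction.IsMultiplyPretransitive G α k)
    (g : Equiv.Perm α) (hg : g ∈ G) (hm4 : 4 ≤ g.support.card) (hm : g.support.card + 3 ≤ 2 * k) :
    ∃ g' : Equiv.Perm α, g' ∈ G ∧ g' ≠ 1 ∧ g'.support.card < g.support.card := by
  by_cases huniv : g.support = Finset.univ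
  · -- the support is everything: take an element fixing `k - 2` points
    have hmn : g.support.card = Fintype.card α := by rw [huniv, Finset.card_univ]
    obtain ⟨A₀, -, hA₀⟩ := Finset.exists_subset_card_eq (s := (Finset.univ : Finset α))
      (n := k - 2) (by rw [Finset.card_univ]; omega)
    have hcompl : (A₀ᶜ).card = Fintype.card α - (k - 2) := by
      rw [Finset.card_compl, hA₀]
    have h2 : 1 < (A₀ᶜ).card := by omega
    obtain ⟨x, hx, x', hx', hxx'⟩ := Finset.one_lt_card.mp h2
    rw [Finset.mem_compl] at hx hx'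
    obtain ⟨τ, hτG, hτA, hτx⟩ := exists_fix_move G hkn hG A₀ (by omega) x x' hx hx'
    refine ⟨τ, hτG, ?_, ?_⟩
    · intro h1
      rw [h1] at hτx
      exact hxx' hτx
    · have hsub : τ.support ⊆ A₀ᶜ := by
        intro a ha
        rw [Finset.mem_compl]
        intro haA
        rw [Equiv.Perm.mem_support] at ha
        exact ha (hτA a haA)
      have := Finset.card_le_card hsub
      omega
  · obtain ⟨y, hy⟩ : ∃ y, y ∉ g.support := by
      by_contra hcon
      push Not at hcon
      exact huniv (Finset.eq_univ_iff_forall.mpr hcon)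
    have hj : min g.support.card k - 1 ≤ g.support.card := by omega
    obtain ⟨A, hAS, hAc, hcut⟩ := exists_onecut g _ hj
    have hBc : (g.support \ A).card = g.support.card - (min g.support.card k - 1) := by
      rw [Finset.card_sdiff_of_subset hAS, hAc]
    have hAk : A.card + 1 ≤ k := by rw [hAc]; omega
    by_cases hne : (A.filter (fun a => g a ∉ A)).Nonempty
    · obtain ⟨a₀, ha₀⟩ := hne
      rw [Finset.mem_filter] at ha₀
      have hxS : g a₀ ∈ g.support := Equiv.Perm.apply_mem_support.mpr (hAS ha₀.1)
      have hxB : g a₀ ∈ g.support \ A := Finset.mem_sdiff.mpr ⟨hxS, ha₀.2⟩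
      -- general facts for a τ fixing A and moving `g a₀` to `x' ≠ g a₀`
      have key : ∀ (x' : α) (τ : Equiv.Perm α), x' ≠ g a₀ → (∀ a ∈ A, τ a = a) → τ (g a₀) = x' →
          g⁻¹ * (τ * g * τ⁻¹) ≠ 1 := by
        intro x' τ hx' hτA hτx h1
        have h2 := congrArg (fun f : Equiv.Perm α => f a₀) h1
        simp only [Equiv.Perm.coe_mul, Function.comp_apply, Equiv.Perm.coe_one, id_eq] at h2
        have h3 : τ⁻¹ a₀ = a₀ := by
          rw [Equiv.Perm.inv_eq_iff_eq]; exact (hτA a₀ ha₀.1).symm
        rw [h3, hτx] at h2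
        apply hx'
        rw [← h2]; simp
      by_cases hB2 : 2 ≤ (g.support \ A).card
      · obtain ⟨x', hx'B, hx'ne⟩ := Finset.exists_mem_ne (by omega : 1 < (g.support \ A).card) (g a₀)
        have hx'A : x' ∉ A := (Finset.mem_sdiff.mp hx'B).2
        obtain ⟨τ, hτG, hτA, hτx⟩ := exists_fix_move G hkn hG A hAk (g a₀) x' ha₀.2 hx'A
        refine ⟨g⁻¹ * (τ * g * τ⁻¹), ?_, key x' τ hx'ne hτA hτx, ?_⟩
        · exact G.mul_mem (G.inv_mem hg) (G.mul_mem (G.mul_mem hτG hg) (G.inv_mem hτG))
        · have hb := card_bound g τ A hAS hτA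
          have h3 : (((g.support \ A).image τ) \ g.support).card ≤ (g.support \ A).card - 1 := by
            have hsub : ((g.support \ A).image τ) \ g.support ⊆
                ((g.support \ A).erase (g a₀)).image τ := by
              intro b hb
              rw [Finset.mem_sdiff, Finset.mem_image] at hb
              obtain ⟨⟨c, hc, rfl⟩, hbS⟩ := hb
              rw [Finset.mem_image]
              refine ⟨c, Finset.mem_erase.mpr ⟨?_, hc⟩, rfl⟩
              rintro rfl
              rw [hτx] at hbS
              exact hbS (Finset.mem_sdiff.mp hx'B).1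
            calc _ ≤ (((g.support \ A).erase (g a₀)).image τ).card := Finset.card_le_card hsub
              _ ≤ ((g.support \ A).erase (g a₀)).card := Finset.card_image_le
              _ = (g.support \ A).card - 1 := Finset.card_erase_of_mem hxB
          omega
      · obtain ⟨τ, hτG, hτA, hτx⟩ := exists_fix_move G hkn hG A hAk (g a₀) y ha₀.2
          (fun h => hy (hAS h))
        have hyne : y ≠ g a₀ := fun h => hy (h ▸ hxS)
        refine ⟨g⁻¹ * (τ * g * τ⁻¹), ?_, key y τ hyne hτA hτx, ?_⟩
        · exact G.mul_mem (G.inv_mem hg) (G.mul_mem (G.mul_mem hτG hg) (G.inv_mem hτG))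
        · have hb := card_bound g τ A hAS hτA
          have h3 : (((g.support \ A).image τ) \ g.support).card ≤ (g.support \ A).card :=
            (Finset.card_le_card Finset.sdiff_subset).trans Finset.card_image_le
          omega
    · rw [Finset.not_nonempty_iff_eq_empty] at hne
      have hBpos : 0 < (g.support \ A).card := by omega
      obtain ⟨x, hxB⟩ := Finset.card_pos.mp hBpos
      have hxS : x ∈ g.support := (Finset.mem_sdiff.mp hxB).1
      have hxA : x ∉ A := (Finset.mem_sdiff.mp hxB).2
      obtain ⟨τ, hτG, hτA, hτx⟩ := exists_fix_move G hkn hG A hAk x y hxA (fun h => hy (hAS h))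
      refine ⟨g⁻¹ * (τ * g * τ⁻¹), ?_, ?_, ?_⟩
      · exact G.mul_mem (G.inv_mem hg) (G.mul_mem (G.mul_mem hτG hg) (G.inv_mem hτG))
      · intro h1
        have h2 := congrArg (fun f : Equiv.Perm α => f y) h1
        simp only [Equiv.Perm.coe_mul, Function.comp_apply, Equiv.Perm.coe_one, id_eq] at h2
        have h3 : τ⁻¹ y = x := by
          rw [Equiv.Perm.inv_eq_iff_eq]; exact hτx.symm
        rw [h3] at h2
        have h4 : τ (g x) = g y := by rw [← h2]; simp
        have h5 : g y = y := by
          rw [Equiv.Perm.mem_support, not_not] at hy; exact hy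
        rw [h5, ← hτx] at h4
        have h6 := τ.injective h4
        rw [Equiv.Perm.mem_support] at hxS
        exact hxS h6
      · have hb := card_bound g τ A hAS hτA
        have h3 : (((g.support \ A).image τ) \ g.support).card ≤ (g.support \ A).card :=
          (Finset.card_le_card Finset.sdiff_subset).trans Finset.card_image_le
        rw [hne, Finset.card_empty] at hb
        omega

theorem small_support {α : Type*} [Fintype α] [DecidableEq α] (G : Subgroup (Equiv.Perm α)) {k : ℕ}
    (hk : 3 ≤ k) (hkn : k ≤ Fintype.card α) (hG : MulAction.IsMultiplyPretransitive G α k) :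
    ∀ (m : ℕ) (g : Equiv.Perm α), g ∈ G → g ≠ 1 → g.support.card = m → m < 2 * k - 2 →
      ∃ h : Equiv.Perm α, h ∈ G ∧ h ≠ 1 ∧ h.support.card ≤ 3 := by
  intro m
  induction m using Nat.strong_induction_on with
  | _ m ih =>
  intro g hg hg1 hgm hm
  by_cases h3 : m ≤ 3
  · exact ⟨g, hg, hg1, hgm ▸ h3⟩
  · obtain ⟨g', hg'G, hg'1, hg'c⟩ := step G hk hkn hG g hg (by omega) (by omega)
    exact ih g'.support.card (by omega) g' hg'G hg'1 rfl (by omega)

/-- A `k`-transitive permutation group (`k ≥ 3`) with a non-identity element of support smaller than `2k - 2` contains a non-identity element of support at most 3, and therefore contains the alternating group. -/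
theorem result {α : Type*} [Fintype α] [DecidableEq α] (G : Subgroup (Equiv.Perm α)) {k : ℕ} (hk : 3 ≤ k) (hkn : k ≤ Fintype.card α) (hG : MulAction.IsMultiplyPretransitive G α k) (g : Equiv.Perm α) (hg : g ∈ G) (hg1 : g ≠ 1) (hsupp : g.support.card < 2 * k - 2) : (∃ h : Equiv.Perm α, h ∈ G ∧ h ≠ 1 ∧ h.support.card ≤ 3) ∧ alternatingGroup α ≤ G := by
  obtain ⟨h, hhG, hh1, hh3⟩ := small_support G hk hkn hG _ g hg hg1 rfl hsupp
  refine ⟨⟨h, hhG, hh1, hh3⟩, ?_⟩
  have := hG
  have h2 : MulAction.IsMultiplyPretransitive G α 2 :=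
    MulAction.isMultiplyPretransitive_of_le (n := k) (by omega)
      (by rw [Nat.card_eq_fintype_card]; exact hkn)
  have hprim : MulAction.IsPreprimitive G α := MulAction.isPreprimitive_of_is_two_pretransitive h2
  have h0 : h.support.card ≠ 0 := fun h0 => hh1 (Equiv.Perm.card_support_eq_zero.mp h0)
  have h1 : h.support.card ≠ 1 := Equiv.Perm.card_support_ne_one h
  have hcases : h.support.card = 2 ∨ h.support.card = 3 := by omega
  rcases hcases with hc | hc
  · have hswap : h.IsSwap := Equiv.Perm.card_support_eq_two.mp hc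
    have htop := Equiv.Perm.subgroup_eq_top_of_isPreprimitive_of_isSwap_mem hprim h hswap hhG
    rw [htop]; exact le_top
  · have h3c : h.IsThreeCycle := card_support_eq_three_iff.mp hc
    exact Equiv.Perm.alternatingGroup_le_of_isPreprimitive_of_isThreeCycle_mem hprim h3c hhG

end Cfsg.Agent.S0711
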