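import Cfsg.Statements.S3707
import Mathlib
-- import your own Cfsg.Agent.* helpers here

set_option autoImplicit false
open Cfsg

namespace Cfsg.Agent.S3707

open scoped Pointwise

section
variable {G Ω : Type*} [Group G] [MulAction G Ω]

/-- `T` is a Jordan set: the pointwise stabilizer of the complement is transitive on `T`. -/
def Jor (G : Type*) {Ω : Type*} [Group G] [MulAction G Ω] (T : Set Ω) : Prop :=
  ∀ x ∈ T, ∀ y ∈ T, ∃ g : G, (∀ z ∉ T, g • z = z) ∧ g • x = y

theorem Jor.smul {T : Set Ω} (h : Jor G T) (g : G) : Jor G (g • T) := by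
  intro x hx y hy
  rw [Set.mem_smul_set_iff_inv_smul_mem] at hx hy
  obtain ⟨k, hk, hkxy⟩ := h _ hx _ hy
  refine ⟨g * k * g⁻¹, ?_, ?_⟩
  · intro z hz
    rw [Set.mem_smul_set_iff_inv_smul_mem] at hz
    rw [mul_smul, mul_smul, hk _ hz, smul_inv_smul]
  · rw [mul_smul, mul_smul, hkxy, smul_inv_smul]

theorem Jor.union {T1 T2 : Set Ω} (h1 : Jor G T1) (h2 : Jor G T2) (z0 : Ω) (hz1 : z0 ∈ T1)
    (hz2 : z0 ∈ T2) : Jor G (T1 ∪ T2) := by
  have key : ∀ x ∈ T1 ∪ T2, ∃ g : G, (∀ z ∉ T1 ∪ T2, g • z = z) ∧ g • x = z0 := by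
    intro x hx
    rcases hx with hx | hx
    · obtain ⟨g, hg, hgx⟩ := h1 x hx z0 hz1
      exact ⟨g, fun z hz => hg z (fun h => hz (Or.inl h)), hgx⟩
    · obtain ⟨g, hg, hgx⟩ := h2 x hx z0 hz2
      exact ⟨g, fun z hz => hg z (fun h => hz (Or.inr h)), hgx⟩
  intro x hx y hy
  obtain ⟨g, hg, hgx⟩ := key x hx
  obtain ⟨k, hk, hky⟩ := key y hy
  refine ⟨k⁻¹ * g, ?_, ?_⟩
  · intro z hz
    rw [mul_smul, hg z hz, inv_smul_eq_iff, hk z hz]
  · rw [mul_smul, hgx, inv_smul_eq_iff, hky]

theorem three_trans_of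
    (H : ∀ a b c a' b' c' : Ω, a ≠ b → a ≠ c → b ≠ c → a' ≠ b' → a' ≠ c' → b' ≠ c' →
      ∃ g : G, g • a = a' ∧ g • b = b' ∧ g • c = c') :
    MulAction.IsMultiplyPretransitive G Ω 3 := by
  constructor
  intro x y
  have hx : ∀ i j : Fin 3, i ≠ j → x i ≠ x j := fun i j h => x.injective.ne h
  have hy : ∀ i j : Fin 3, i ≠ j → y i ≠ y j := fun i j h => y.injective.ne h
  obtain ⟨g, h0, h1, h2⟩ := H (x 0) (x 1) (x 2) (y 0) (y 1) (y 2)
    (hx _ _ (by decide)) (hx _ _ (by decide)) (hx _ _ (by decide))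
    (hy _ _ (by decide)) (hy _ _ (by decide)) (hy _ _ (by decide))
  refine ⟨g, ?_⟩
  ext i
  fin_cases i
  · exact h0
  · exact h1
  · exact h2

end

/-- Let G be a finite primitive permutation group on Ω of degree n and Γ ⊂ Ω a subset with 1 < #Γ ≤ n/2 such that the pointwise stabilizer of Ω ∖ Γ is transitive on Γ. Then G is 3-transitive on Ω. -/
theorem result {G Ω : Type*} [Group G] [Finite G] [MulAction G Ω] [FaithfulSMul G Ω] [Finite Ω] (hprim : MulAction.IsPreprimitive G Ω) (Γ : Set Ω) (h1 : 1 < Γ.ncard) (h2 : 2 * Γ.ncard ≤ Nat.card Ω) (htr : ∀ x ∈ Γ, ∀ y ∈ Γ, ∃ g : G, (∀ z ∉ Γ, g • z = z) ∧ g • x = y) : MulAction.IsMultiplyPretransitive G Ω 3 := by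
  classical
  have hJ : Jor G Γ := htr
  have hcompl : ∀ T : Set Ω, T.ncard + Tᶜ.ncard = Nat.card Ω := fun T => Set.ncard_add_ncard_compl T
  have hn := hcompl Γ
  -- 2-transitivity
  have h2t : MulAction.IsMultiplyPretransitive G Ω 2 := by
    have hsn : (Γᶜ).ncard = ((Γᶜ).ncard - 1) + 1 := by omega
    have hsn' : ((Γᶜ).ncard - 1) + 2 < Nat.card Ω := by omega
    apply hprim.is_two_pretransitive hsn hsn'
    constructor
    intro x y
    have hx : (x : Ω) ∈ Γ := by
      have := x.2
      rw [SubMulAction.mem_ofFixingSubgroup_iff] at this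
      simpa using this
    have hy : (y : Ω) ∈ Γ := by
      have := y.2
      rw [SubMulAction.mem_ofFixingSubgroup_iff] at this
      simpa using this
    obtain ⟨g, hg, hgxy⟩ := hJ x hx y hy
    refine ⟨⟨g, ?_⟩, ?_⟩
    · rw [mem_fixingSubgroup_iff]
      intro z hz
      exact hg z hz
    · apply Subtype.ext
      exact hgxy
  have h2' : ∀ a b c d : Ω, a ≠ b → c ≠ d → ∃ g : G, g • a = c ∧ g • b = d :=
    fun a b c d hab hcd => MulAction.is_two_pretransitive_iff.mp h2t hab hcd
  -- a Jordan set of maximal size with complement of size at least two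
  have hfin : Set.Finite {T : Set Ω | Jor G T ∧ 2 ≤ Tᶜ.ncard} := Set.toFinite _
  obtain ⟨S, ⟨hSJ, hS2⟩, hSmax'⟩ := hfin.exists_maximalFor Set.ncard _ ⟨Γ, hJ, by omega⟩
  have hSmax : ∀ T : Set Ω, Jor G T → 2 ≤ Tᶜ.ncard → T.ncard ≤ S.ncard := by
    intro T hT hT2
    by_contra hlt
    have := hSmax' (j := T) ⟨hT, hT2⟩ (by omega)
    omega
  have hnS := hcompl S
  by_cases hk : Sᶜ.ncard = 2
  · -- the fixator of two points is transitive on the rest
    obtain ⟨α, β, hαβ, hS⟩ := Set.ncard_eq_two.mp hk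
    have hαS : α ∉ S := by
      have : α ∈ Sᶜ := by rw [hS]; simp
      exact this
    have hβS : β ∉ S := by
      have : β ∈ Sᶜ := by rw [hS]; simp
      exact this
    have hmemS : ∀ z : Ω, z ≠ α → z ≠ β → z ∈ S := by
      intro z hzα hzβ
      by_contra hz
      have : z ∈ Sᶜ := hz
      rw [hS] at this
      rcases this with h | h
      · exact hzα h
      · exact hzβ h
    apply three_trans_of
    intro a b c a' b' c' hab hac hbc hab' hac' hbc'
    obtain ⟨g1, hg1a, hg1b⟩ := h2' a b α β hab hαβ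
    obtain ⟨g2, hg2a, hg2b⟩ := h2' a' b' α β hab' hαβ
    have hc1 : g1 • c ∈ S := by
      apply hmemS
      · rw [← hg1a]
        exact fun h => hac (MulAction.injective g1 h).symm
      · rw [← hg1b]
        exact fun h => hbc (MulAction.injective g1 h).symm
    have hc2 : g2 • c' ∈ S := by
      apply hmemS
      · rw [← hg2a]
        exact fun h => hac' (MulAction.injective g2 h).symm
      · rw [← hg2b]
        exact fun h => hbc' (MulAction.injective g2 h).symm
    obtain ⟨h, hh, hhc⟩ := hSJ _ hc1 _ hc2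
    refine ⟨g2⁻¹ * h * g1, ?_, ?_, ?_⟩
    · rw [mul_smul, mul_smul, hg1a, hh α hαS, inv_smul_eq_iff, hg2a]
    · rw [mul_smul, mul_smul, hg1b, hh β hβS, inv_smul_eq_iff, hg2b]
    · rw [mul_smul, mul_smul, hhc, inv_smul_smul]
  · exfalso
    have hk3 : 3 ≤ Sᶜ.ncard := by omega
    set s : Set Ω := Sᶜ with hs
    have hsm : ∀ g : G, g • S = (g • s)ᶜ := by
      intro g
      rw [hs, Set.smul_set_compl, compl_compl]
    have hcard_s : ∀ g : G, (g • s).ncard = s.ncard := fun g => Set.ncard_smul_set g s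
    have hcard_S : ∀ g : G, (g • S).ncard = S.ncard := fun g => Set.ncard_smul_set g S
    -- (F1)
    have F1 : ∀ T : Set Ω, Jor G T → ∀ g : G, (T ∩ g • S).Nonempty → T ⊆ g • S ∨
        ((g • s) \ T).ncard ≤ 1 := by
      intro T hT g ⟨z0, hz0T, hz0S⟩
      by_contra hcon
      rw [not_or] at hcon
      obtain ⟨hsub, hcard⟩ := hcon
      have hU : Jor G (T ∪ g • S) := hT.union (hSJ.smul g) z0 hz0T hz0S
      have hUc : (T ∪ g • S)ᶜ = (g • s) \ T := by
        ext z
        simp only [Set.mem_compl_iff, Set.mem_union, not_or, Set.mem_sdiff, hsm g]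
        tauto
      have h2U : 2 ≤ (T ∪ g • S)ᶜ.ncard := by
        rw [hUc]
        omega
      have hle := hSmax _ hU h2U
      have hlt : (g • S).ncard < (T ∪ g • S).ncard := by
        apply Set.ncard_lt_ncard _ (Set.toFinite _)
        refine ⟨Set.subset_union_right, fun h => hsub ?_⟩
        exact fun z hz => h (Or.inl hz)
      rw [hcard_S g] at hlt
      omega
    have hΓne : Γ.Nonempty := by
      rw [← Set.ncard_pos]
      omega
    obtain ⟨a0, ha0, b0, hb0, hab0⟩ := (Set.one_lt_ncard (Set.toFinite Γ)).mp h1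
    -- k ≤ m
    have hkm : s.ncard ≤ Γ.ncard := by
      have hSne : S.Nonempty := by
        rw [← Set.ncard_pos]
        have := hSmax Γ hJ (by omega)
        omega
      obtain ⟨σ, hσ⟩ := hSne
      have hsne : s.Nonempty := by
        rw [← Set.ncard_pos]
        omega
      obtain ⟨x, hx⟩ := hsne
      have hσx : σ ≠ x := fun h => hx (h ▸ hσ)
      obtain ⟨g, hga, hgb⟩ := h2' a0 b0 σ x hab0 hσx
      have hσT : σ ∈ g • Γ := hga ▸ Set.smul_mem_smul_set ha0
      have hxT : x ∈ g • Γ := hgb ▸ Set.smul_mem_smul_set hb0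
      have h1S : (1 : G) • S = S := one_smul G S
      have h1s : (1 : G) • s = s := one_smul G s
      rcases F1 (g • Γ) (hJ.smul g) 1 ⟨σ, hσT, by rw [h1S]; exact hσ⟩ with h | h
      · rw [h1S] at h
        exact absurd (h hxT) hx
      · rw [h1s] at h
        have e1 := Set.ncard_inter_add_ncard_sdiff_eq_ncard s (g • Γ) (Set.toFinite _)
        have e2 : (s ∩ g • Γ).ncard ≤ ((g • Γ) \ {σ}).ncard := by
          apply Set.ncard_le_ncard _ (Set.toFinite _)
          intro z hz
          refine ⟨hz.2, fun hzσ => ?_⟩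
          rw [Set.mem_singleton_iff] at hzσ
          exact hz.1 (hzσ ▸ hσ)
        have e3 := Set.ncard_sdiff_singleton_of_mem hσT
        have e4 : (g • Γ).ncard = Γ.ncard := Set.ncard_smul_set g Γ
        omega
    -- (F2)
    have F2 : ∀ g h : G, ∀ x y : Ω, x ≠ y → x ∈ g • s → y ∈ g • s → x ∈ h • s → y ∈ h • s →
        g • s = h • s := by
      intro g h x y hxy hxg hyg hxh hyh
      have hinter : 2 ≤ (g • s ∩ h • s).ncard := by
        have : ({x, y} : Set Ω) ⊆ g • s ∩ h • s := by
          intro z hz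
          rcases hz with rfl | rfl
          · exact ⟨hxg, hxh⟩
          · exact ⟨hyg, hyh⟩
        have h3 := Set.ncard_le_ncard this (Set.toFinite _)
        rw [Set.ncard_pair hxy] at h3
        exact h3
      have hunion : (g • s ∪ h • s).ncard < Nat.card Ω := by
        have := Set.ncard_union_add_ncard_inter (g • s) (h • s)
        rw [hcard_s g, hcard_s h] at this
        omega
      have hex : ∃ z, z ∉ g • s ∪ h • s := by
        by_contra hall
        have : g • s ∪ h • s = Set.univ := by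
          ext z
          simp only [Set.mem_univ, iff_true]
          by_contra hz
          exact hall ⟨z, hz⟩
        rw [this, Set.ncard_univ] at hunion
        exact lt_irrefl _ hunion
      obtain ⟨z, hz⟩ := hex
      have hzg : z ∈ g • S := by
        rw [hsm g]
        exact fun h' => hz (Or.inl h')
      have hzh : z ∈ h • S := by
        rw [hsm h]
        exact fun h' => hz (Or.inr h')
      rcases F1 (h • S) (hSJ.smul h) g ⟨z, hzh, hzg⟩ with hsub | hcard
      · have hsub' : g • s ⊆ h • s := by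
          intro w hw
          by_contra hwh
          have : w ∈ h • S := by
            rw [hsm h]
            exact hwh
          have := hsub this
          rw [hsm g] at this
          exact this hw
        apply Set.eq_of_subset_of_ncard_le hsub' _ (Set.toFinite _)
        rw [hcard_s g, hcard_s h]
      · have : g • s ∩ h • s ⊆ (g • s) \ (h • S) := by
          intro w hw
          refine ⟨hw.1, ?_⟩
          rw [hsm h]
          exact fun h' => h' hw.2
        have := Set.ncard_le_ncard this (Set.toFinite _)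
        omega
    -- (F3)
    have F3 : ∀ x y : Ω, x ≠ y → ∃ g : G, x ∈ g • s ∧ y ∈ g • s := by
      intro x y hxy
      obtain ⟨a, ha, b, hb, hab⟩ := (Set.one_lt_ncard (Set.toFinite s)).mp (by omega)
      obtain ⟨g, hga, hgb⟩ := h2' a b x y hab hxy
      exact ⟨g, hga ▸ Set.smul_mem_smul_set ha, hgb ▸ Set.smul_mem_smul_set hb⟩
    -- third point on a line
    have F4 : ∀ (g : G) (x y : Ω), ∃ e ∈ g • s, e ≠ x ∧ e ≠ y := by
      intro g x y
      have hlt : ({x, y} : Set Ω).ncard < (g • s).ncard := by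
        have := Set.ncard_insert_le x ({y} : Set Ω)
        rw [Set.ncard_singleton] at this
        rw [hcard_s g]
        omega
      obtain ⟨e, he, hne⟩ := Set.exists_mem_notMem_of_ncard_lt_ncard hlt (Set.toFinite _)
      refine ⟨e, he, fun h => hne ?_, fun h => hne ?_⟩
      · rw [h]; simp
      · rw [h]; simp
    by_cases hB : ∃ g : G, Γ ⊆ g • s
    · -- Case B
      obtain ⟨g, hg⟩ := hB
      have hΓeq : Γ = g • s := by
        apply Set.eq_of_subset_of_ncard_le hg _ (Set.toFinite _)
        rw [hcard_s g]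
        exact hkm
      obtain ⟨h, hh, hhab⟩ := hJ a0 ha0 b0 hb0
      have hcne : (Γᶜ).Nonempty := by
        rw [← Set.ncard_pos]
        omega
      obtain ⟨d, hd⟩ := hcne
      have had : a0 ≠ d := fun h' => hd (h' ▸ ha0)
      obtain ⟨g', hag', hdg'⟩ := F3 a0 d had
      obtain ⟨e, heg', hea, hed⟩ := F4 g' a0 d
      have heΓ : e ∉ Γ := by
        intro he
        have := F2 g g' a0 e (Ne.symm hea) (hΓeq ▸ ha0) (hΓeq ▸ he) hag' heg'
        apply hd
        rw [hΓeq, this]
        exact hdg'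
      have hhd : h • d = d := hh d hd
      have hhe : h • e = e := hh e heΓ
      have hd2 : d ∈ (h * g') • s := by
        rw [mul_smul, ← hhd]
        exact Set.smul_mem_smul_set hdg'
      have he2 : e ∈ (h * g') • s := by
        rw [mul_smul, ← hhe]
        exact Set.smul_mem_smul_set heg'
      have hline := F2 (h * g') g' d e (Ne.symm hed) hd2 he2 hdg' heg'
      have hb2 : b0 ∈ g' • s := by
        rw [← hline, mul_smul, ← hhab]
        exact Set.smul_mem_smul_set hag'
      have := F2 g g' a0 b0 hab0 (hΓeq ▸ ha0) (hΓeq ▸ hb0) hag' hb2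
      apply hd
      rw [hΓeq, this]
      exact hdg'
    · -- Case A
      have hA : ∀ g : G, ¬ Γ ⊆ g • s := fun g hg => hB ⟨g, hg⟩
      obtain ⟨x, hx⟩ := hΓne
      have hline : ∀ g : G, x ∈ g • s → ∀ z ∈ g • s, ∀ w ∈ g • s, z ∉ Γ → w ∉ Γ → z = w := by
        intro g hxg z hz w hw hzΓ hwΓ
        have hne : (Γ ∩ g • S).Nonempty := by
          have := hA g
          rw [Set.not_subset] at this
          obtain ⟨w', hw'Γ, hw's⟩ := this
          refine ⟨w', hw'Γ, ?_⟩
          rw [hsm g]
          exact hw's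
        rcases F1 Γ hJ g hne with hsub | hcard
        · have := hsub hx
          rw [hsm g] at this
          exact absurd hxg this
        · rw [Set.ncard_le_one (Set.toFinite _)] at hcard
          exact hcard z ⟨hz, hzΓ⟩ w ⟨hw, hwΓ⟩
      have hex : ∀ y : Ω, y ∈ Γᶜ → ∃ z : Ω, z ∈ Γ ∧ z ≠ x ∧ ∃ g : G, x ∈ g • s ∧ y ∈ g • s ∧
          z ∈ g • s := by
        intro y hy
        have hxy : x ≠ y := fun h => hy (h ▸ hx)
        obtain ⟨g, hxg, hyg⟩ := F3 x y hxy
        obtain ⟨e, heg, hex, hey⟩ := F4 g x y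
        refine ⟨e, ?_, hex, g, hxg, hyg, heg⟩
        by_contra heΓ
        exact hey (hline g hxg e heg y hyg heΓ hy)
      choose! f hf using hex
      have hinj : Set.InjOn f Γᶜ := by
        intro y hy y' hy' hff
        obtain ⟨hz1, hz2, g, hxg, hyg, hzg⟩ := hf y hy
        obtain ⟨hz1', hz2', g', hxg', hyg', hzg'⟩ := hf y' hy'
        rw [← hff] at hzg'
        have := F2 g g' x (f y) (Ne.symm hz2) hxg hzg hxg' hzg'
        rw [← this] at hyg'
        exact hline g hxg y hyg y' hyg' hy hy'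
      have hmaps : ∀ y ∈ Γᶜ, f y ∈ Γ \ {x} := by
        intro y hy
        obtain ⟨hz1, hz2, -⟩ := hf y hy
        exact ⟨hz1, hz2⟩
      have hle := Set.ncard_le_ncard_of_injOn f hmaps hinj (Set.toFinite _)
      have := Set.ncard_sdiff_singleton_of_mem hx
      omega

end Cfsg.Agent.S3707
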