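import Cfsg.Statements.S3276
import Cfsg.Agent.Lib.helper59.Basic

set_option autoImplicit false
open Cfsg

namespace Cfsg.Agent.S3276

open Subgroup Cfsg.Agent.Lib.helper59

/-- Two non-conjugate involutions of a finite group commute with a common involution
(the central involution of the dihedral group they generate). -/
theorem exists_common_involution {G : Type*} [Group G] [Finite G] (a b : G)
    (ha : orderOf a = 2) (hb : orderOf b = 2) (hnc : ¬ IsConj a b) :
    ∃ u : G, orderOf u = 2 ∧ Commute u a ∧ Commute u b := by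
  have ha2 : a ^ 2 = 1 := by rw [← ha]; exact pow_orderOf_eq_one a
  have hb2 : b ^ 2 = 1 := by rw [← hb]; exact pow_orderOf_eq_one b
  have hainv : a⁻¹ = a := by
    rw [inv_eq_iff_mul_eq_one, ← pow_two]; exact ha2
  have hbinv : b⁻¹ = b := by
    rw [inv_eq_iff_mul_eq_one, ← pow_two]; exact hb2
  set c : G := a * b with hc
  have hcinv : c⁻¹ = b * a := by rw [hc, mul_inv_rev, hainv, hbinv]
  have hac : a * c * a⁻¹ = c⁻¹ := by
    rw [hcinv, hc, hainv]
    calc a * (a * b) * a = (a * a) * b * a := by group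
      _ = b * a := by rw [← pow_two, ha2, one_mul]
  have hbc : b * c * b⁻¹ = c⁻¹ := by
    rw [hcinv, hc, hbinv]
    calc b * (a * b) * b = b * a * (b * b) := by group
      _ = b * a := by rw [← pow_two, hb2, mul_one]
  have hapow : ∀ j : ℕ, a * c ^ j * a⁻¹ = (c ^ j)⁻¹ := by
    intro j; rw [← conj_pow, hac, inv_pow]
  have hbpow : ∀ j : ℕ, b * c ^ j * b⁻¹ = (c ^ j)⁻¹ := by
    intro j; rw [← conj_pow, hbc, inv_pow]
  have hn0 : 0 < orderOf c := orderOf_pos c
  rcases Nat.even_or_odd' (orderOf c) with ⟨k, hk | hk⟩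
  · -- even order: central involution
    have hk0 : 0 < k := by omega
    have hu2 : (c ^ k) ^ 2 = 1 := by
      rw [← pow_mul, mul_comm, ← hk, pow_orderOf_eq_one]
    have hu1 : c ^ k ≠ 1 := pow_ne_one_of_lt_orderOf hk0.ne' (by omega)
    have huinv : (c ^ k)⁻¹ = c ^ k := by
      rw [inv_eq_iff_mul_eq_one, ← pow_two]; exact hu2
    refine ⟨c ^ k, orderOf_eq_prime hu2 hu1, ?_, ?_⟩
    · have h1 := hapow k
      rw [huinv] at h1
      show c ^ k * a = a * c ^ k
      calc c ^ k * a = (a * c ^ k * a⁻¹) * a := by rw [h1]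
        _ = a * c ^ k := by group
    · have h1 := hbpow k
      rw [huinv] at h1
      show c ^ k * b = b * c ^ k
      calc c ^ k * b = (b * c ^ k * b⁻¹) * b := by rw [h1]
        _ = b * c ^ k := by group
  · -- odd order: a and b are conjugate
    exfalso
    apply hnc
    rw [isConj_iff]
    refine ⟨a * (c ^ k)⁻¹, ?_⟩
    have h1 := hapow k
    have h2 : c ^ (2 * k + 1) = 1 := by rw [← hk, pow_orderOf_eq_one]
    have h3 : (c ^ k)⁻¹ * (c ^ k)⁻¹ = c := by
      have : c ^ k * c ^ k * c = 1 := by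
        rw [← pow_add, ← pow_succ, ← two_mul]; exact h2
      calc (c ^ k)⁻¹ * (c ^ k)⁻¹ = (c ^ k)⁻¹ * (c ^ k)⁻¹ * (c ^ k * c ^ k * c) := by rw [this, mul_one]
        _ = c := by group
    calc a * (c ^ k)⁻¹ * a * (a * (c ^ k)⁻¹)⁻¹
        = a * (c ^ k)⁻¹ * (a * c ^ k * a⁻¹) := by group
      _ = a * ((c ^ k)⁻¹ * (c ^ k)⁻¹) := by rw [h1]; group
      _ = a * c := by rw [h3]
      _ = b := by rw [hc, ← mul_assoc, ← pow_two, ha2, one_mul]

/-- An elementary abelian normal 2-subgroup on which the involution `x` has at most two fixed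
points has order at most 4. -/
theorem card_le_four {G : Type*} [Group G] [Finite G] (E : Subgroup G) [hE : E.Normal]
    (hc : ∀ a ∈ E, ∀ b ∈ E, a * b = b * a) (h2 : ∀ a ∈ E, a ^ 2 = 1) (x y : G) (hx2 : x ^ 2 = 1)
    (hfix : ∀ u ∈ E, x * u = u * x → u = 1 ∨ u = y) : Nat.card ↥E ≤ 4 := by
  classical
  have : Fintype ↥E := Fintype.ofFinite _
  have hxinv : x⁻¹ = x := by
    rw [inv_eq_iff_mul_eq_one, ← pow_two]; exact hx2
  have hinv : ∀ a ∈ E, a⁻¹ = a := by
    intro a ha
    rw [inv_eq_iff_mul_eq_one, ← pow_two]; exact h2 a ha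
  have hconj : ∀ a ∈ E, x * a * x ∈ E := by
    intro a ha
    have := hE.conj_mem a ha x
    rw [hxinv] at this; exact this
  let f : ↥E → G := fun e => (e : G) * x * (e : G) * x
  have hfE : ∀ e : ↥E, f e ∈ E := by
    intro e
    have : f e = (e : G) * (x * (e : G) * x) := by simp only [f]; group
    rw [this]; exact mul_mem e.2 (hconj _ e.2)
  have himg : ∀ e : ↥E, f e = 1 ∨ f e = y := by
    intro e
    apply hfix _ (hfE e)
    have h1 := hc (e : G) e.2 (x * (e : G) * x) (hconj _ e.2)
    simp only [f]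
    calc x * ((e : G) * x * (e : G) * x) = (x * (e : G) * x) * (e : G) * x := by group
      _ = (e : G) * (x * (e : G) * x) * x := by rw [← h1]
      _ = (e : G) * x * (e : G) * x * x := by group
  have hfib : ∀ e1 e2 : ↥E, f e1 = f e2 → (e1 : G) = e2 ∨ (e1 : G) = y * e2 := by
    intro e1 e2 h
    have hd : (e1 : G) * (e2 : G) ∈ E := mul_mem e1.2 e2.2
    have h12 := hc _ e1.2 _ e2.2
    have hcomm : x * ((e1 : G) * (e2 : G)) = (e1 : G) * (e2 : G) * x := by
      simp only [f] at h
      have h' : (e1 : G) * x * (e1 : G) = (e2 : G) * x * (e2 : G) := mul_right_cancel h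
      have i1 := hinv _ e1.2
      have i2 := hinv _ e2.2
      calc x * ((e1 : G) * (e2 : G))
          = (e1 : G)⁻¹ * ((e1 : G) * x * (e1 : G)) * (e2 : G) := by group
        _ = (e1 : G)⁻¹ * ((e2 : G) * x * (e2 : G)) * (e2 : G) := by rw [h']
        _ = (e1 : G) * (e2 : G) * x * ((e2 : G) * (e2 : G)) := by rw [i1]; group
        _ = (e1 : G) * (e2 : G) * x := by rw [← pow_two, h2 _ e2.2, mul_one]
    rcases hfix _ hd hcomm with h1 | h1
    · left
      calc (e1 : G) = (e1 : G) * (e2 : G) * (e2 : G)⁻¹ := by group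
        _ = (e2 : G) := by rw [h1, one_mul, hinv _ e2.2]
    · right
      calc (e1 : G) = (e1 : G) * (e2 : G) * (e2 : G)⁻¹ := by group
        _ = y * (e2 : G) := by rw [h1, hinv _ e2.2]
  rw [Nat.card_eq_fintype_card, ← Finset.card_univ]
  have h1 : (Finset.univ : Finset ↥E).card ≤ 2 * ((Finset.univ : Finset ↥E).image f).card := by
    apply Finset.card_le_mul_card_image
    intro b hb
    obtain ⟨e0, -, rfl⟩ := Finset.mem_image.mp hb
    have hsub : (Finset.univ.filter (fun a : ↥E => f a = f e0)).image Subtype.val ⊆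
        ({(e0 : G), y * (e0 : G)} : Finset G) := by
      intro z hz
      obtain ⟨e, he, rfl⟩ := Finset.mem_image.mp hz
      rw [Finset.mem_filter] at he
      rw [Finset.mem_insert, Finset.mem_singleton]
      exact hfib e e0 he.2
    calc (Finset.univ.filter (fun a : ↥E => f a = f e0)).card
        = ((Finset.univ.filter (fun a : ↥E => f a = f e0)).image Subtype.val).card :=
          (Finset.card_image_of_injective _ Subtype.val_injective).symm
      _ ≤ ({(e0 : G), y * (e0 : G)} : Finset G).card := Finset.card_le_card hsub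
      _ ≤ 2 := Finset.card_le_two
  have h3 : ((Finset.univ : Finset ↥E).image f).card ≤ 2 := by
    have hsub : (Finset.univ : Finset ↥E).image f ⊆ ({1, y} : Finset G) := by
      intro z hz
      obtain ⟨e, -, rfl⟩ := Finset.mem_image.mp hz
      rw [Finset.mem_insert, Finset.mem_singleton]
      exact himg e
    exact (Finset.card_le_card hsub).trans Finset.card_le_two
  omega

/-- Let x and y be commuting, non-conjugate involutions of a finite group G, and suppose that for every involution u commuting with x, each conjugate of y that commutes with u also commutes with y. Then the normal closure of y is a proper, normal, elementary abelian 2-subgroup of G; and if y is the only involution of that normal closure commuting with x, it has order at most 4. -/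
theorem result {G : Type*} [Group G] [Finite G] (x y : G) (hx : orderOf x = 2) (hy : orderOf y = 2)
    (hxy : Commute x y) (hnc : ¬ IsConj x y)
    (hstar : ∀ u : G, orderOf u = 2 → Commute u x → ∀ g : G, Commute (g * y * g⁻¹) u → Commute (g * y * g⁻¹) y) :
    Subgroup.normalClosure ({y} : Set G) ≠ ⊤ ∧ Cfsg.IsElementaryAbelian 2 (Subgroup.normalClosure ({y} : Set G)) ∧
      ((∀ u ∈ Subgroup.normalClosure ({y} : Set G), orderOf u = 2 → Commute u x → u = y) →
        Nat.card ↥(Subgroup.normalClosure ({y} : Set G)) ≤ 4) := by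
  have hx2 : x ^ 2 = 1 := by rw [← hx]; exact pow_orderOf_eq_one x
  have hy2 : y ^ 2 = 1 := by rw [← hy]; exact pow_orderOf_eq_one y
  have hx1 : x ≠ 1 := by
    intro h; rw [h, orderOf_one] at hx; omega
  -- Step B: every conjugate of y commutes with y
  have hB : ∀ g : G, Commute (g * y * g⁻¹) y := by
    intro g
    have ho : orderOf (g * y * g⁻¹) = 2 := by
      rw [← hy]
      have hs : SemiconjBy g y (g * y * g⁻¹) := by
        unfold SemiconjBy; group
      exact (hs.orderOf_eq g).symm
    have hnc' : ¬ IsConj x (g * y * g⁻¹) := by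
      intro h
      apply hnc
      exact h.trans (isConj_iff.mpr ⟨g⁻¹, by group⟩)
    obtain ⟨u, hu, hux, huy⟩ := exists_common_involution x (g * y * g⁻¹) hx ho hnc'
    exact hstar u hu hux g huy.symm
  -- Step C: conjugates of y commute pairwise
  have hC : ∀ a ∈ Group.conjugatesOfSet ({y} : Set G), ∀ b ∈ Group.conjugatesOfSet ({y} : Set G),
      a * b = b * a := by
    intro a ha b hb
    obtain ⟨y1, hy1, hc1⟩ := Group.mem_conjugatesOfSet_iff.mp ha
    obtain ⟨y2, hy2', hc2⟩ := Group.mem_conjugatesOfSet_iff.mp hb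
    rw [Set.mem_singleton_iff] at hy1 hy2'
    rw [hy1] at hc1; rw [hy2'] at hc2
    obtain ⟨g, rfl⟩ := isConj_iff.mp hc1
    obtain ⟨h, rfl⟩ := isConj_iff.mp hc2
    have h1 : (h⁻¹ * g) * y * (h⁻¹ * g)⁻¹ * y = y * ((h⁻¹ * g) * y * (h⁻¹ * g)⁻¹) := hB (h⁻¹ * g)
    calc g * y * g⁻¹ * (h * y * h⁻¹)
        = h * ((h⁻¹ * g) * y * (h⁻¹ * g)⁻¹ * y) * h⁻¹ := by group
      _ = h * (y * ((h⁻¹ * g) * y * (h⁻¹ * g)⁻¹)) * h⁻¹ := by rw [h1]
      _ = h * y * h⁻¹ * (g * y * g⁻¹) := by group
  have hsq : ∀ a ∈ Group.conjugatesOfSet ({y} : Set G), a ^ 2 = 1 := by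
    intro a ha
    obtain ⟨y1, hy1, hc1⟩ := Group.mem_conjugatesOfSet_iff.mp ha
    rw [Set.mem_singleton_iff] at hy1
    rw [hy1] at hc1
    obtain ⟨g, rfl⟩ := isConj_iff.mp hc1
    rw [conj_pow, hy2]; group
  have hE := closure_comm_sq (Group.conjugatesOfSet ({y} : Set G)) hC hsq
  have hEdef : Subgroup.normalClosure ({y} : Set G) = closure (Group.conjugatesOfSet ({y} : Set G)) := rfl
  rw [← hEdef] at hE
  have hEab : Cfsg.IsElementaryAbelian 2 (Subgroup.normalClosure ({y} : Set G)) := by
    refine ⟨⟨⟨fun a b => ?_⟩⟩, hE.2⟩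
    apply Subtype.ext
    exact hE.1 _ a.2 _ b.2
  refine ⟨?_, hEab, ?_⟩
  · intro htop
    have hcomm : ∀ a b : G, a * b = b * a := by
      intro a b
      exact hE.1 a (htop ▸ mem_top a) b (htop ▸ mem_top b)
    have hnorm : (zpowers y).Normal := by
      refine ⟨fun n hn g => ?_⟩
      have : g * n * g⁻¹ = n := by rw [hcomm g n]; group
      rw [this]; exact hn
    have hle : Subgroup.normalClosure ({y} : Set G) ≤ zpowers y :=
      normalClosure_le_normal (by
        intro z hz
        rw [Set.mem_singleton_iff] at hz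
        rw [hz]; exact mem_zpowers y)
    have hxz : x ∈ zpowers y := hle (htop ▸ mem_top x)
    obtain ⟨k, hk⟩ := mem_zpowers_iff.mp hxz
    rcases Int.even_or_odd' k with ⟨m, rfl | rfl⟩
    · apply hx1
      rw [← hk, zpow_mul, zpow_ofNat, hy2, one_zpow]
    · apply hnc
      have : x = y := by
        rw [← hk, zpow_add, zpow_mul, zpow_ofNat, hy2, one_zpow, one_mul, zpow_one]
      rw [this]
  · intro hu
    apply card_le_four (Subgroup.normalClosure ({y} : Set G)) hE.1 hE.2 x y hx2
    intro u huE hux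
    by_cases h1 : u = 1
    · left; exact h1
    · right
      apply hu u huE (orderOf_eq_prime (hE.2 u huE) h1)
      exact hux.symm

end Cfsg.Agent.S3276
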