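import Cfsg.Statements.S3277
import Cfsg.Agent.S3276
import Cfsg.Agent.Lib.helper11.FourCent
import Cfsg.Agent.Lib.helper11.SmallSimple
import Cfsg.Agent.Lib.helper92.SylowConj

set_option autoImplicit false
open Cfsg

namespace Cfsg.Agent.S3277

open Cfsg.Agent.Lib.helper11.FourCent

/-- The case where the centralizer of `x` is a proper subgroup of a Sylow `2`-subgroup: a
central involution of the Sylow subgroup generates a normal elementary abelian subgroup of
order `2` or `4`. -/
theorem caseB {G : Type*} [Group G] [Finite G] (x : G) (hx : orderOf x = 2)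
    (hC4 : Nat.card (Subgroup.centralizer ({x} : Set G)) = 4)
    (hsq : ∀ c : G, c * x = x * c → c * c = 1)
    (P : Sylow 2 G) (hVP : Subgroup.centralizer ({x} : Set G) ≤ P)
    (hVne : Subgroup.centralizer ({x} : Set G) ≠ P)
    (hne : ∀ E : Subgroup G, E.Normal → Cfsg.IsElementaryAbelian 2 E →
      Nat.card ↥E ≠ 2 ∧ Nat.card ↥E ≠ 4) : False := by
  have : Fact (Nat.Prime 2) := ⟨Nat.prime_two⟩
  have hx' := hx
  rw [orderOf_eq_prime_iff] at hx'
  have hx1 : x ≠ 1 := hx'.2
  have hx2 : x * x = 1 := by rw [← pow_two]; exact hx'.1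
  have hxV : x ∈ Subgroup.centralizer ({x} : Set G) := mem_cent.mpr rfl
  have hxP : x ∈ (P : Subgroup G) := hVP hxV
  have hVsq : ∀ c ∈ Subgroup.centralizer ({x} : Set G), c * c = 1 :=
    fun c hc => hsq c (mem_cent.mp hc)
  -- a central involution `z` of `P`
  have : Nontrivial (P : Subgroup G) := ⟨⟨⟨x, hxP⟩, 1, fun h => hx1 (congrArg Subtype.val h)⟩⟩
  have hcn := P.isPGroup'.center_nontrivial
  have hZp : IsPGroup 2 (Subgroup.center (P : Subgroup G)) := P.isPGroup'.to_subgroup _
  obtain ⟨n, hn⟩ := hZp.exists_card_eq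
  have hn0 : n ≠ 0 := by
    rintro rfl
    have h1 := Finite.one_lt_card (α := Subgroup.center (P : Subgroup G))
    rw [hn] at h1
    simp at h1
  have h2 : 2 ∣ Nat.card (Subgroup.center (P : Subgroup G)) := by
    rw [hn]; exact dvd_pow_self 2 hn0
  obtain ⟨z', hz'⟩ := exists_prime_orderOf_dvd_card' 2 h2
  obtain ⟨z, hzP, hzo, hzc⟩ : ∃ z : G, z ∈ (P : Subgroup G) ∧ orderOf z = 2 ∧
      ∀ q ∈ (P : Subgroup G), q * z = z * q := by
    refine ⟨((z' : (P : Subgroup G)) : G), (z' : (P : Subgroup G)).2, ?_, ?_⟩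
    · rw [Subgroup.orderOf_coe, Subgroup.orderOf_coe]; exact hz'
    · intro q hq
      have h3 := Subgroup.mem_center_iff.mp z'.2 ⟨q, hq⟩
      exact congrArg Subtype.val h3
  have hzo' := hzo
  rw [orderOf_eq_prime_iff] at hzo'
  have hz1 : z ≠ 1 := hzo'.2
  have hz2 : z * z = 1 := by rw [← pow_two]; exact hzo'.1
  have hzx : z * x = x * z := (hzc x hxP).symm
  have hzV : z ∈ Subgroup.centralizer ({x} : Set G) := mem_cent.mpr hzx
  have hzne : z ≠ x := by
    intro hzx'
    apply hVne
    apply le_antisymm hVP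
    intro q hq
    have h3 := hzc q hq
    rw [hzx'] at h3
    exact mem_cent.mpr h3
  have hfour := four_elems hC4 hxV hzV hx1 hz1 hzne hx2
  -- an element of `P` normalizing the centralizer of `x` without lying in it
  have : Group.IsNilpotent (P : Subgroup G) := P.isPGroup'.isNilpotent
  have hNC := Group.normalizerCondition_of_isNilpotent (G := (P : Subgroup G))
  have hlt : (Subgroup.centralizer ({x} : Set G)).subgroupOf P < ⊤ := by
    rw [lt_top_iff_ne_top]
    intro h
    rw [Subgroup.subgroupOf_eq_top] at h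
    exact hVne (le_antisymm hVP h)
  obtain ⟨t', ht'N, ht'V⟩ := SetLike.exists_of_lt (hNC _ hlt)
  rw [Subgroup.mem_subgroupOf] at ht'V
  have htN : ∀ c ∈ Subgroup.centralizer ({x} : Set G),
      (t' : G) * c * (t' : G)⁻¹ ∈ Subgroup.centralizer ({x} : Set G) := by
    intro c hc
    have h3 := ((Subgroup.mem_normalizer_iff.mp ht'N) ⟨c, hVP hc⟩).mp
      (Subgroup.mem_subgroupOf.mpr hc)
    exact Subgroup.mem_subgroupOf.mp h3
  obtain ⟨t₀, ht₀⟩ : ∃ t₀ : G, t₀ = (t' : G) := ⟨_, rfl⟩
  rw [← ht₀] at htN ht'V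
  have ht₀P : t₀ ∈ (P : Subgroup G) := by rw [ht₀]; exact t'.2
  have hy : t₀ * x * t₀⁻¹ = x * z := by
    rcases hfour _ (htN x hxV) with h | h | h | h
    · exact absurd (conj_eq_one_iff.mp h) hx1
    · exfalso; apply ht'V; exact mem_cent.mpr (mul_inv_eq_iff_eq_mul.mp h)
    · exfalso
      apply hzne
      have h3 : t₀ * z = z * t₀ := hzc t₀ ht₀P
      calc z = t₀⁻¹ * (z * t₀) := by rw [← h3]; group
        _ = t₀⁻¹ * (t₀ * x * t₀⁻¹ * t₀) := by rw [h]
        _ = x := by group
    · exact h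
  have hnconj : ¬ IsConj x z := by
    intro hc
    rw [isConj_iff] at hc
    obtain ⟨c, hc⟩ := hc
    have h4 : Nat.card (Subgroup.centralizer ({z} : Set G)) = 4 := by
      rw [← hc, card_cent_conj, hC4]
    have hPle : (P : Subgroup G) ≤ Subgroup.centralizer ({z} : Set G) :=
      fun q hq => mem_cent.mpr (hzc q hq)
    have h5 := Subgroup.card_le_of_le hPle
    exact hVne (Subgroup.eq_of_le_of_card_ge hVP (by rw [hC4, ← h4]; exact h5))
  have hV : ∀ w : G, w ∈ Subgroup.centralizer ({x} : Set G) → Commute w z :=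
    fun w hw => comm_of_sq hVsq hw hzV
  have hstar : ∀ u : G, orderOf u = 2 → Commute u x → ∀ g : G, Commute (g * z * g⁻¹) u →
      Commute (g * z * g⁻¹) z := by
    intro u hu hux g hgu
    have huV : u ∈ Subgroup.centralizer ({x} : Set G) := mem_cent.mpr hux.eq
    rcases hfour u huV with h | h | h | h
    · rw [h, orderOf_one] at hu; omega
    · rw [h] at hgu; exact hV _ (mem_cent.mpr hgu.eq)
    · rw [h] at hgu; exact hgu
    · rw [h, ← hy] at hgu
      have h3 : (t₀⁻¹ * (g * z * g⁻¹) * t₀) * x = x * (t₀⁻¹ * (g * z * g⁻¹) * t₀) := by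
        have e := hgu.eq
        calc t₀⁻¹ * (g * z * g⁻¹) * t₀ * x
            = t₀⁻¹ * ((g * z * g⁻¹) * (t₀ * x * t₀⁻¹)) * t₀ := by group
          _ = t₀⁻¹ * ((t₀ * x * t₀⁻¹) * (g * z * g⁻¹)) * t₀ := by rw [e]
          _ = x * (t₀⁻¹ * (g * z * g⁻¹) * t₀) := by group
      have h4 := htN _ (mem_cent.mpr h3)
      have e2 : t₀ * (t₀⁻¹ * (g * z * g⁻¹) * t₀) * t₀⁻¹ = g * z * g⁻¹ := by group
      rw [e2] at h4
      exact hV _ h4
  obtain ⟨-, hE, hcard⟩ := Cfsg.Agent.S3276.result x z hx hzo (hzx.symm : x * z = z * x)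
    hnconj hstar
  have hzE : z ∈ Subgroup.normalClosure ({z} : Set G) :=
    Subgroup.subset_normalClosure (Set.mem_singleton z)
  have hEcomm : ∀ e₁ ∈ Subgroup.normalClosure ({z} : Set G),
      ∀ e₂ ∈ Subgroup.normalClosure ({z} : Set G), e₁ * e₂ = e₂ * e₁ := by
    intro e₁ h₁ e₂ h₂
    have h3 := (isMulCommutative_iff.mp hE.1) ⟨e₁, h₁⟩ ⟨e₂, h₂⟩
    exact congrArg Subtype.val h3
  have hle4 : Nat.card (Subgroup.normalClosure ({z} : Set G)) ≤ 4 := by
    by_cases hxE : x ∈ Subgroup.normalClosure ({z} : Set G)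
    · rw [← hC4]
      apply Subgroup.card_le_of_le
      intro e he
      exact mem_cent.mpr (hEcomm e he x hxE)
    · apply hcard
      intro u huE huo hux
      have huV : u ∈ Subgroup.centralizer ({x} : Set G) := mem_cent.mpr hux.eq
      rcases hfour u huV with h | h | h | h
      · rw [h, orderOf_one] at huo; omega
      · rw [h] at huE; exact absurd huE hxE
      · exact h
      · exfalso; apply hxE
        have h3 : x = u * z⁻¹ := by rw [h]; group
        rw [h3]; exact Subgroup.mul_mem _ huE (Subgroup.inv_mem _ hzE)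
  have hEp : IsPGroup 2 (Subgroup.normalClosure ({z} : Set G)) := by
    intro e
    refine ⟨1, ?_⟩
    apply Subtype.ext
    have h3 := hE.2 e e.2
    simpa using h3
  obtain ⟨m, hm⟩ := hEp.exists_card_eq
  have h1lt : 1 < Nat.card (Subgroup.normalClosure ({z} : Set G)) := by
    rw [Subgroup.one_lt_card_iff_ne_bot]
    intro h
    rw [Subgroup.eq_bot_iff_forall] at h
    exact hz1 (h z hzE)
  have hfin := hne _ Subgroup.normalClosure_normal hE
  rcases m with _ | _ | _ | m
  · rw [pow_zero] at hm; omega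
  · rw [zero_add, pow_one] at hm; exact hfin.1 hm
  · norm_num at hm; exact hfin.2 hm
  · have h8 : 8 ≤ 2 ^ (m + 3) := by
      have h9 := Nat.one_le_two_pow (n := m)
      calc 8 = 1 * 8 := by norm_num
        _ ≤ 2 ^ m * 8 := Nat.mul_le_mul_right 8 h9
        _ = 2 ^ (m + 3) := by rw [pow_add]; norm_num
    omega

/-- The case where the centralizer of `x` is a Sylow `2`-subgroup. -/
theorem caseA {G : Type*} [Group G] [Finite G] (x : G) (hx : orderOf x = 2)
    (hC4 : Nat.card (Subgroup.centralizer ({x} : Set G)) = 4)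
    (hsq : ∀ c : G, c * x = x * c → c * c = 1)
    (P : Sylow 2 G) (hVP : Subgroup.centralizer ({x} : Set G) = P)
    (hnc : ¬ Cfsg.HasNormalPComplement 2 G)
    (hne : ∀ E : Subgroup G, E.Normal → Cfsg.IsElementaryAbelian 2 E →
      Nat.card ↥E ≠ 2 ∧ Nat.card ↥E ≠ 4) :
    Nonempty (G ≃* ↥(alternatingGroup (Fin 5))) := by
  have : Fact (Nat.Prime 2) := ⟨Nat.prime_two⟩
  have hx' := hx
  rw [orderOf_eq_prime_iff] at hx'
  have hx1 : x ≠ 1 := hx'.2
  have hx2 : x * x = 1 := by rw [← pow_two]; exact hx'.1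
  have hxV : x ∈ Subgroup.centralizer ({x} : Set G) := mem_cent.mpr rfl
  have hVsq : ∀ c ∈ Subgroup.centralizer ({x} : Set G), c * c = 1 :=
    fun c hc => hsq c (mem_cent.mp hc)
  -- an element of the normalizer of the centralizer of `x` outside it (Burnside's transfer)
  have hex : ∃ g : G,
      g ∈ Subgroup.normalizer ((Subgroup.centralizer ({x} : Set G) : Subgroup G) : Set G) ∧
        g ∉ Subgroup.centralizer ({x} : Set G) := by
    by_contra hcon
    push Not at hcon
    apply hnc
    have hNC : Subgroup.normalizer ((P : Subgroup G) : Set G) ≤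
        Subgroup.centralizer ((P : Subgroup G) : Set G) := by
      intro g hg
      rw [← hVP] at hg ⊢
      have hgV := hcon g hg
      rw [Subgroup.mem_centralizer_iff]
      intro d hd
      exact comm_of_sq hVsq hd hgV
    exact ⟨P, (MonoidHom.transferSylow P hNC).ker, inferInstance,
      MonoidHom.ker_transferSylow_isComplement' P hNC⟩
  obtain ⟨g, hgN, hgV⟩ := hex
  rw [Subgroup.mem_normalizer_iff] at hgN
  obtain ⟨y, hydef⟩ : ∃ y : G, y = g * x * g⁻¹ := ⟨_, rfl⟩
  have hy : y ∈ Subgroup.centralizer ({x} : Set G) := by rw [hydef]; exact (hgN x).mp hxV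
  have hy1 : y ≠ 1 := by rw [hydef]; exact fun h => hx1 (conj_eq_one_iff.mp h)
  have hyx : y ≠ x := by
    rw [hydef]
    intro h; apply hgV; exact mem_cent.mpr (mul_inv_eq_iff_eq_mul.mp h)
  have hfour := four_elems hC4 hxV hy hx1 hy1 hyx hx2
  have hw := (hgN y).mp hy
  have hw1 : g * y * g⁻¹ ≠ 1 := fun h => hy1 (conj_eq_one_iff.mp h)
  have hwy : g * y * g⁻¹ ≠ y := by
    intro h
    apply hyx
    have h3 : g * y * g⁻¹ = g * x * g⁻¹ := by rw [h, hydef]
    simpa using h3
  have hwxy : g * y * g⁻¹ = x * y := by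
    rcases hfour _ hw with h | h | h | h
    · exact absurd h hw1
    · exfalso
      have hgg : (g * g) * x = x * (g * g) := by
        have e : (g * g) * x * (g * g)⁻¹ = x := by
          calc (g * g) * x * (g * g)⁻¹ = g * (g * x * g⁻¹) * g⁻¹ := by group
            _ = g * y * g⁻¹ := by rw [hydef]
            _ = x := h
        exact mul_inv_eq_iff_eq_mul.mp e
      have hg4 : g ^ 4 = 1 := by
        have h3 := hsq _ hgg
        calc g ^ 4 = (g * g) * (g * g) := by
              rw [show (4 : ℕ) = 2 + 2 from rfl, pow_add, pow_two]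
          _ = 1 := h3
      have hzp : IsPGroup 2 (Subgroup.zpowers g) := by
        obtain ⟨j, -, hj⟩ := (Nat.dvd_prime_pow Nat.prime_two).1
          (orderOf_dvd_of_pow_eq_one hg4 : orderOf g ∣ 2 ^ 2)
        exact IsPGroup.of_card (n := j) (by rw [Nat.card_zpowers, hj])
      have hVp : IsPGroup 2 (Subgroup.centralizer ({x} : Set G)) :=
        IsPGroup.of_card (n := 2) (by rw [hC4]; norm_num)
      have hle : Subgroup.zpowers g ≤
          Subgroup.normalizer ((Subgroup.centralizer ({x} : Set G) : Subgroup G) : Set G) := by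
        rw [Subgroup.zpowers_le]; exact Subgroup.mem_normalizer_iff.mpr hgN
      have hK := hzp.to_sup_of_normal_right' hVp hle
      have hmax := P.is_maximal' hK (by rw [← hVP]; exact le_sup_right)
      apply hgV
      have h3 : g ∈ Subgroup.zpowers g ⊔ Subgroup.centralizer ({x} : Set G) :=
        (le_sup_left : Subgroup.zpowers g ≤ _) (Subgroup.mem_zpowers g)
      rw [hmax, ← hVP] at h3
      exact h3
    · exact absurd h hwy
    · exact h
  -- all involutions are conjugate to `x`
  have hconj : ∀ t : G, t ≠ 1 → t * t = 1 → ∃ h : G, h * x * h⁻¹ = t := by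
    intro t ht1 ht
    have hto : orderOf t = 2 ^ 1 := by
      rw [pow_one, orderOf_eq_prime_iff]; exact ⟨by rw [pow_two]; exact ht, ht1⟩
    obtain ⟨k, hk'⟩ := Cfsg.Agent.Lib.helper92.exists_conj_mem_sylow_of_orderOf P hto
    have hk : k⁻¹ * t * k ∈ (P : Subgroup G) := hk'
    rw [← hVP] at hk
    have hk1 : k⁻¹ * t * k ≠ 1 := by
      intro h
      apply ht1
      have h3 : k⁻¹ * t * k⁻¹⁻¹ = 1 := by rw [inv_inv]; exact h
      exact conj_eq_one_iff.mp h3
    rcases hfour _ hk with h | h | h | h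
    · exact absurd h hk1
    · exact ⟨k, by rw [← h]; group⟩
    · refine ⟨k * g, ?_⟩
      calc k * g * x * (k * g)⁻¹ = k * (g * x * g⁻¹) * k⁻¹ := by group
        _ = k * (k⁻¹ * t * k) * k⁻¹ := by rw [← hydef, h]
        _ = t := by group
    · refine ⟨k * g * g, ?_⟩
      calc k * g * g * x * (k * g * g)⁻¹ = k * (g * (g * x * g⁻¹) * g⁻¹) * k⁻¹ := by group
        _ = k * (k⁻¹ * t * k) * k⁻¹ := by rw [← hydef, hwxy, h]
        _ = t := by group
  have H : FC G := FC.of_conj hC4 hsq hconj
  rcases H.main hx1 hx2 with hall | ⟨h60, hg⟩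
  · exfalso
    have hVn : (Subgroup.centralizer ({x} : Set G)).Normal := by
      constructor
      intro c hc k
      by_cases hc1 : c = 1
      · rw [hc1]; simp
      · have hc2 : c * c = 1 := hVsq c hc
        have h1 : k * c * k⁻¹ ≠ 1 := fun h => hc1 (conj_eq_one_iff.mp h)
        have h2 : (k * c * k⁻¹) * (k * c * k⁻¹) = 1 := by
          calc (k * c * k⁻¹) * (k * c * k⁻¹) = k * (c * c) * k⁻¹ := by group
            _ = 1 := by rw [hc2]; group
        exact mem_cent.mpr (hall _ h1 h2)
    have hEA : Cfsg.IsElementaryAbelian 2 (Subgroup.centralizer ({x} : Set G)) := by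
      refine ⟨isMulCommutative_iff.mpr ?_, ?_⟩
      · intro c d; exact Subtype.ext (comm_of_sq hVsq c.2 d.2)
      · intro c hc; rw [pow_two]; exact hVsq c hc
    exact (hne _ hVn hEA).2 hC4
  · have : IsSimpleGroup G :=
      { exists_pair_ne := ⟨x, 1, hx1⟩
        eq_bot_or_eq_top_of_normal := fun N hN => H.eq_bot_or_eq_top hx1 hx2 h60 hg N hN }
    exact Cfsg.Agent.Lib.helper11.nonempty_mulEquiv_alternatingGroup_five h60

/-- Let G be a finite group containing an involution whose centralizer is elementary abelian of order 4. If G has no normal 2-complement and no normal elementary abelian 2-subgroup of order 2 or 4, then G is isomorphic to the alternating group of degree 5 (that is, to PSL(2, 5)). -/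
theorem result {G : Type*} [Group G] [Finite G] (x : G) (hx : orderOf x = 2)
    (hC4 : Nat.card ↥(Subgroup.centralizer ({x} : Set G)) = 4) (hCe : ∀ c ∈ Subgroup.centralizer ({x} : Set G), c ^ 2 = 1)
    (hnc : ¬ Cfsg.HasNormalPComplement 2 G)
    (hne : ∀ E : Subgroup G, E.Normal → Cfsg.IsElementaryAbelian 2 E → Nat.card ↥E ≠ 2 ∧ Nat.card ↥E ≠ 4) :
    Nonempty (G ≃* ↥(alternatingGroup (Fin 5))) := by
  have hsq : ∀ c : G, c * x = x * c → c * c = 1 := by
    intro c hc
    have h3 := hCe c (mem_cent.mpr hc)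
    rwa [pow_two] at h3
  have : Fact (Nat.Prime 2) := ⟨Nat.prime_two⟩
  have hVp : IsPGroup 2 (Subgroup.centralizer ({x} : Set G)) :=
    IsPGroup.of_card (n := 2) (by rw [hC4]; norm_num)
  obtain ⟨P, hP⟩ := hVp.exists_le_sylow
  by_cases hVP : Subgroup.centralizer ({x} : Set G) = P
  · exact caseA x hx hC4 hsq P hVP hnc hne
  · exact (caseB x hx hC4 hsq P hP hVP hne).elim

end Cfsg.Agent.S3277
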