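import Cfsg.Statements.S0387
import Cfsg.Agent.Lib.helper9.M12Compl

set_option autoImplicit false
open scoped Pointwise
open Cfsg

namespace Cfsg.Agent.S0387

/-- The stabiliser of a dodecad and a point on it has order 7920 = 2^4·3^2·5·11. -/
theorem result (d : Finset Cfsg.GolayPt) (hd : d ∈ Cfsg.dodecads) (p : Cfsg.GolayPt) (hp : p ∈ d) : Nat.card ↥(MulAction.stabilizer Cfsg.M24 d ⊓ MulAction.stabilizer Cfsg.M24 p) = 7920 := by
  have h := Cfsg.Agent.Lib.helper9.natCard_orbit_mul_stab (G := MulAction.stabilizer Cfsg.M24 d) p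
  have horb : MulAction.orbit (MulAction.stabilizer Cfsg.M24 d) p = (d : Set GolayPt) := by
    ext q
    constructor
    · rintro ⟨g, rfl⟩
      have h1 : (g : M24) • d = d := g.2
      have h2 : (g : M24) • p ∈ (g : M24) • d := Finset.smul_mem_smul_finset hp
      rw [h1] at h2
      exact h2
    · intro hq
      obtain ⟨g, hg, hgd, hgp⟩ :=
        Cfsg.Agent.Lib.helper9.dod_trans d hd p q hp (Finset.mem_coe.1 hq)
      exact ⟨⟨⟨g, hg⟩, hgd⟩, hgp⟩
  have hcard : Nat.card (MulAction.orbit (MulAction.stabilizer Cfsg.M24 d) p) = 12 := by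
    change Set.ncard (MulAction.orbit (MulAction.stabilizer Cfsg.M24 d) p) = 12
    rw [horb, Set.ncard_coe_finset, hd.2]
  have e1 : Nat.card (MulAction.stabilizer (MulAction.stabilizer Cfsg.M24 d) p) =
      Nat.card ↥(MulAction.stabilizer Cfsg.M24 d ⊓ MulAction.stabilizer Cfsg.M24 p) := by
    rw [Cfsg.Agent.Lib.helper9.stabilizer_subgroup (MulAction.stabilizer Cfsg.M24 d) p,
      Cfsg.Agent.Lib.helper9.card_subgroupOf]
  have e2 := Cfsg.Agent.Lib.helper9.card_stab_dodecad d hd
  rw [hcard, e1, e2] at h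
  omega

end Cfsg.Agent.S0387
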