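-- Statement S0910: a p-power degree irreducible character in the principal block of a
-- non-abelian simple group is trivial.
import Cfsg.Statements.S0910
import Cfsg.Agent.Lib.helper81.Faithful
import Cfsg.Agent.Lib.helper82.CharQuot
import Cfsg.Agent.Lib.helper84.ClassSize

set_option autoImplicit false
open Cfsg

namespace Cfsg.Agent.S0910

open Cfsg.Agent.Lib.helper81 Cfsg.Agent.Lib.helper20 Cfsg.Agent.Lib.helper82
open scoped ComplexConjugate

/-- Let G be a non-abelian finite simple group and p a prime. If an irreducible character χ lies in the principal block (relative to a maximal ideal of the algebraic integers containing p) and χ 1 is a power of p, then χ is the principal character. -/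
theorem result {G : Type*} [Group G] [Finite G] (p : ℕ) [Fact p.Prime] (M : Ideal Cfsg.AlgInt) (hM : Cfsg.IsPModular p M) [IsSimpleGroup G] (hna : ∃ a b : G, a * b ≠ b * a) (χ : Cfsg.IrrCharacter G) (hχ : χ ∈ Cfsg.principalBlock M G) (k : ℕ) (hdeg : (χ : G → ℂ) 1 = (p : ℂ) ^ k) : (χ : G → ℂ) = fun _ => 1 := by
  classical
  have := Fintype.ofFinite G
  have hp := (Fact.out : p.Prime)
  have hMp : M.IsPrime := isPrime_of_isPModular hM
  by_contra hne
  have hZ : Subgroup.center G = ⊥ := by
    rcases (Subgroup.Normal.eq_bot_or_eq_top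
      (inferInstance : (Subgroup.center G).Normal)) with h | h
    · exact h
    · exfalso
      obtain ⟨a, b, hab⟩ := hna
      apply hab
      have ha : a ∈ Subgroup.center G := h ▸ Subgroup.mem_top a
      exact ((Subgroup.mem_center_iff.mp ha) b).symm
  have hself := irr_classInner_self χ
  obtain ⟨n, ρ, hρ, hρχ⟩ := χ.2
  have hfaith : ∀ g : G, (χ : G → ℂ) g = (χ : G → ℂ) 1 → g = 1 := by
    intro g hg
    have hmem : g ∈ repKer ρ := (mem_repKer_iff_char ρ g).mpr (by rw [hρχ]; exact hg)
    rcases (repKer_normal ρ).eq_bot_or_eq_top with h | h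
    · rw [h] at hmem
      exact Subgroup.mem_bot.mp hmem
    · exfalso
      have hall : ∀ x : G, (χ : G → ℂ) x = (p : ℂ) ^ k := by
        intro x
        have hx : x ∈ repKer ρ := h ▸ Subgroup.mem_top x
        have := (mem_repKer_iff_char ρ x).mp hx
        rw [hρχ] at this
        rw [this, hdeg]
      unfold classInner at hself
      simp only [hall, map_pow, Complex.conj_natCast, Finset.sum_const, Finset.card_univ,
        nsmul_eq_mul, Nat.card_eq_fintype_card] at hself
      have hc : (Fintype.card G : ℂ) ≠ 0 := by
        exact_mod_cast Fintype.card_ne_zero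
      rw [← mul_assoc, inv_mul_cancel₀ hc, one_mul] at hself
      have h2 : (p ^ k * p ^ k : ℕ) = 1 := by exact_mod_cast hself
      have h3 : p ^ k = 1 := Nat.eq_one_of_mul_eq_one_right h2
      apply hne
      funext x
      rw [hall x, ← Nat.cast_pow, h3, Nat.cast_one]
  have hdegN : charDegree (χ : G → ℂ) = p ^ k := by
    have h1 := irr_one_eq_charDegree χ
    rw [hdeg] at h1
    exact_mod_cast h1.symm
  have hpb := (mem_principalBlock_iff (M := M) (χ := χ)).mp hχ
  -- every nontrivial class has size divisible by `p`, or `χ` vanishes there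
  have hvan : ∀ g : G, g ≠ 1 → ¬ p ∣ (Subgroup.centralizer ({g} : Set G)).index →
      False := by
    intro g hg hnd
    have hcop : Nat.Coprime (charDegree (χ : G → ℂ))
        (Subgroup.centralizer ({g} : Set G)).index := by
      rw [hdegN]
      exact Nat.Coprime.pow_left k ((Nat.Prime.coprime_iff_not_dvd hp).mpr hnd)
    have h0 := irr_vanish_of_coprime_of_faithful hZ χ hfaith g hg hcop
    have h1 := hpb g
    have h2 : centralChar (χ : G → ℂ) g = 0 := by
      unfold centralChar
      rw [h0, mul_zero, zero_div]
    rw [h2, sub_zero] at h1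
    exact Cfsg.Agent.Lib.helper80.not_memLocalIdeal_natCast hM hnd h1
  have hdvd : ∀ g : G, g ≠ 1 → p ∣ (Subgroup.centralizer ({g} : Set G)).index := by
    intro g hg
    by_contra h
    exact hvan g hg h
  -- the class equation
  have hce := Group.nat_card_center_add_sum_card_noncenter_eq_card G
  have hc1 : Nat.card (Subgroup.center G) = 1 := by
    rw [hZ]; exact Subgroup.card_bot
  have hsum : p ∣ ∑ᶠ x ∈ ConjClasses.noncenter G, Nat.card x.carrier := by
    apply finsum_mem_induction (p := fun m => p ∣ m) (dvd_zero p)
      (fun a b ha hb => dvd_add ha hb)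
    intro x hx
    obtain ⟨g, rfl⟩ := ConjClasses.exists_rep x
    rw [Nat.card_coe_set_eq, Cfsg.Agent.Lib.helper84.card_carrier_eq_index]
    apply hdvd g
    rintro rfl
    have h1 : (ConjClasses.mk (1 : G)).carrier.Nontrivial := hx
    obtain ⟨a, ha, b, hb, hab⟩ := h1
    rw [ConjClasses.mem_carrier_iff_mk_eq, ConjClasses.mk_eq_mk_iff_isConj] at ha hb
    rw [isConj_one_left] at ha hb
    exact hab (ha.trans hb.symm)
  have hnd : ¬ p ∣ Nat.card G := by
    intro h
    rw [← hce, hc1] at h
    have : p ∣ 1 := (Nat.dvd_add_left hsum).mp h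
    exact hp.one_lt.ne' (Nat.dvd_one.mp this)
  have hdd := Cfsg.Agent.Lib.helper81.irr_degree_dvd_card χ
  rw [hdegN] at hdd
  rcases Nat.eq_zero_or_pos k with hk | hk
  · -- linear case
    subst hk
    have hall : ∀ g : G, g ≠ 1 → (χ : G → ℂ) g = 0 := by
      intro g hg
      apply irr_vanish_of_coprime_of_faithful hZ χ hfaith g hg
      rw [hdegN, pow_zero]
      exact Nat.coprime_one_left _
    unfold classInner at hself
    rw [Finset.sum_eq_single (1 : G)] at hself
    · rw [hdeg, pow_zero, map_one, mul_one, mul_one] at hself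
      have hc : (Nat.card G : ℂ) = 1 := by
        have := inv_eq_one.mp hself
        exact this
      have hc' : Nat.card G = 1 := by exact_mod_cast hc
      obtain ⟨a, b, hab⟩ := hna
      have hsub : Subsingleton G := (Nat.card_eq_one_iff_unique.mp hc').1
      exact hab (Subsingleton.elim _ _)
    · intro g _ hg
      rw [hall g hg, zero_mul]
    · intro h
      exact absurd (Finset.mem_univ _) h
  · exact hnd ((dvd_pow_self p hk.ne').trans hdd)

end Cfsg.Agent.S0910
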