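import Cfsg.Statements.S0904
import Cfsg.Agent.S0910
import Cfsg.Agent.Lib.helper4.PQR
import Cfsg.Agent.Lib.helper4.DefectZero
import Cfsg.Agent.Lib.helper4.Burnside2
import Cfsg.Agent.Lib.helper82.CharInt

set_option autoImplicit false
open Cfsg

namespace Cfsg.Agent.S0904


open Cfsg.Agent.Lib in
open scoped ComplexConjugate in
/-- Brauer–Tuan: in a nonabelian simple group of order `p ^ a * q ^ b * r`, no element of order
`p` commutes with an element of order `r`. -/
theorem no_commuting {G : Type*} [Group G] [Finite G] [IsSimpleGroup G]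
    (hna : ∃ a b : G, a * b ≠ b * a) (p q r a b : ℕ) (hp : p.Prime) (hq : q.Prime)
    (hr : r.Prime) (hpr : p ≠ r) (hqr : q ≠ r)
    (hcard : Nat.card G = p ^ a * q ^ b * r) (x z : G) (hx : orderOf x = p)
    (hz : orderOf z = r) (hxz : Commute x z) : False := by
  classical
  let _ := Fintype.ofFinite G
  have : Fact p.Prime := ⟨hp⟩
  obtain ⟨M, hM⟩ := helper76.exists_isPModular p hp
  have hMp := helper20.isPrime_of_isPModular hM
  have hB : IsPBlock M (principalBlock M G) := helper81.isPBlock_principalBlock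
  have hy : orderOf (x * z) = p * r := by
    rw [hxz.orderOf_mul_eq_mul_orderOf_of_coprime
      (by rw [hx, hz]; exact (Nat.coprime_primes hp hr).mpr hpr), hx, hz]
  have hw := helper81.wbo hM (B := principalBlock M G)
    (fun g => helper81.memLocalRing_blockCoeff hMp hB g) (x := (1 : G)) (y₀ := x * z)
    (by rw [orderOf_one]; exact hp.one_lt.ne' ∘ Nat.dvd_one.mp)
    (by rw [hy]; exact dvd_mul_right _ _)
  rw [← Finset.add_sum_erase Finset.univ _ (Finset.mem_univ (helper81.trivChar G))] at hw
  rw [if_pos (helper81.trivChar_mem_principalBlock hMp)] at hw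
  simp only [helper81.trivChar_apply, map_one, mul_one] at hw
  have hr2 : ¬ r ^ (1 + 1) ∣ Nat.card G := by
    intro h
    rw [hcard, pow_succ, pow_one] at h
    have h1 : r ∣ p ^ a * q ^ b := Nat.dvd_of_mul_dvd_mul_right hr.pos h
    rcases (Nat.Prime.dvd_mul hr).mp h1 with h2 | h2
    · exact hpr ((Nat.prime_dvd_prime_iff_eq hr hp).mp (hr.dvd_of_dvd_pow h2)).symm
    · exact hqr ((Nat.prime_dvd_prime_iff_eq hr hq).mp (hr.dvd_of_dvd_pow h2)).symm
  have hterm : ∀ χ ∈ Finset.univ.erase (helper81.trivChar G),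
      (if χ ∈ principalBlock M G then (χ : G → ℂ) 1 * conj ((χ : G → ℂ) (x * z)) else 0) =
      (q : ℂ) * (if χ ∈ principalBlock M G then
        ((charDegree (χ : G → ℂ) / q : ℕ) : ℂ) * conj ((χ : G → ℂ) (x * z)) else 0) := by
    intro χ hχ
    have hne := Finset.ne_of_mem_erase hχ
    by_cases hmem : χ ∈ principalBlock M G
    · rw [if_pos hmem, if_pos hmem]
      by_cases hqd : q ∣ charDegree (χ : G → ℂ)
      · obtain ⟨k, hk⟩ := hqd
        rw [helper81.irr_one_eq_charDegree, hk, Nat.mul_div_cancel_left k hq.pos]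
        push_cast; ring
      · have hrd : r ∣ charDegree (χ : G → ℂ) := by
          by_contra hrd
          have hd := helper81.irr_degree_dvd_card χ
          rw [hcard] at hd
          have h1 : charDegree (χ : G → ℂ) ∣ p ^ a * q ^ b :=
            (Nat.Coprime.dvd_mul_right
              (Nat.Coprime.symm ((Nat.Prime.coprime_iff_not_dvd hr).mpr hrd))).mp hd
          have h2 : charDegree (χ : G → ℂ) ∣ p ^ a :=
            (Nat.Coprime.dvd_mul_right (Nat.Coprime.pow_right b
              (Nat.Coprime.symm ((Nat.Prime.coprime_iff_not_dvd hq).mpr hqd)))).mp h1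
          obtain ⟨k, -, hk⟩ := (Nat.dvd_prime_pow hp).mp h2
          have h3 := Cfsg.Agent.S0910.result p M hM hna χ hmem k
            (by rw [helper81.irr_one_eq_charDegree, hk]; push_cast; rfl)
          exact hne (Subtype.ext h3)
        have h0 : (χ : G → ℂ) (x * z) = 0 := by
          obtain ⟨n, ρ, hρ, hρχ⟩ := χ.2
          have hfin : Module.finrank ℂ (Fin n → ℂ) = charDegree (χ : G → ℂ) := by
            rw [← hρχ]; exact (helper82.charDegree_char ρ).symm
          rw [← hρχ]
          exact helper4.char_eq_zero_of_defect_zero ρ r 1 hr hr2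
            (by rw [pow_one, hfin]; exact hrd) (x * z) (by rw [hy]; exact dvd_mul_left _ _)
        rw [h0, map_zero, mul_zero, mul_zero, mul_zero]
    · rw [if_neg hmem, if_neg hmem, mul_zero]
  rw [Finset.sum_congr rfl hterm, ← Finset.mul_sum] at hw
  have hSint : IsIntegral ℤ (∑ χ ∈ Finset.univ.erase (helper81.trivChar G),
      (if χ ∈ principalBlock M G then
        ((charDegree (χ : G → ℂ) / q : ℕ) : ℂ) * conj ((χ : G → ℂ) (x * z)) else 0)) := by
    apply IsIntegral.sum
    intro χ _
    split_ifs
    · refine (isIntegral_natCast _).mul ?_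
      rw [← helper81.irr_inv]
      exact helper81.irr_isIntegral χ (x * z)⁻¹
    · exact isIntegral_zero
  have hq0 : (q : ℂ) ≠ 0 := Nat.cast_ne_zero.mpr hq.ne_zero
  have h1 : ((1 : ℕ) : ℂ) / (q : ℂ) = -(∑ χ ∈ Finset.univ.erase (helper81.trivChar G),
      (if χ ∈ principalBlock M G then
        ((charDegree (χ : G → ℂ) / q : ℕ) : ℂ) * conj ((χ : G → ℂ) (x * z)) else 0)) := by
    rw [div_eq_iff hq0]
    push_cast
    linear_combination hw
  have h2 := helper81.dvd_of_isIntegral_div hq.ne_zero (h1 ▸ hSint.neg)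
  exact hq.one_lt.ne' (Nat.dvd_one.mp h2)

/-- Let G be a finite simple group of order p ^ a * q ^ b * r with p, q, r distinct primes. Then every Sylow r-subgroup S of G satisfies C_G(S) = S. -/
theorem result {G : Type*} [Group G] [Finite G] [IsSimpleGroup G] (p q r a b : ℕ) (hp : p.Prime) (hq : q.Prime) [Fact r.Prime] (hpq : p ≠ q) (hpr : p ≠ r) (hqr : q ≠ r) (hcard : Nat.card G = p ^ a * q ^ b * r) (S : Sylow r G) : Subgroup.centralizer (S : Set G) = (S : Subgroup G) := by
  classical
  have hr : r.Prime := Fact.out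
  have hpa : p ^ a ≠ 0 := pow_ne_zero _ hp.ne_zero
  have hqb : q ^ b ≠ 0 := pow_ne_zero _ hq.ne_zero
  have hS : Nat.card S = r := by
    rw [Sylow.card_eq_multiplicity, hcard,
      Nat.factorization_mul (mul_ne_zero hpa hqb) hr.ne_zero, Nat.factorization_mul hpa hqb,
      Nat.factorization_pow, Nat.factorization_pow, hp.factorization, hq.factorization,
      hr.factorization]
    simp [hpr, hqr]
  have hcyc : IsCyclic S := isCyclic_of_prime_card hS
  have hle : (S : Subgroup G) ≤ Subgroup.centralizer (S : Set G) := by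
    intro g hg
    rw [Subgroup.mem_centralizer_iff]
    intro h hh
    have hcomm := (IsCyclic.isMulCommutative (α := S)).is_comm.comm ⟨h, hh⟩ ⟨g, hg⟩
    exact congrArg Subtype.val hcomm
  by_cases hab : ∀ u v : G, u * v = v * u
  · have hprime := Cfsg.Agent.Lib.helper4.prime_card_of_simple_of_comm hab
    have hdvd : Nat.card S ∣ Nat.card G := Subgroup.card_subgroup_dvd_card (S : Subgroup G)
    rw [hS] at hdvd
    have hGr : Nat.card G = r := ((Nat.prime_dvd_prime_iff_eq hr hprime).mp hdvd).symm
    have htop : (S : Subgroup G) = ⊤ := Subgroup.eq_top_of_card_eq _ (by rw [hGr]; exact hS)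
    rw [htop]
    ext g
    simp only [Subgroup.mem_top, iff_true, Subgroup.mem_centralizer_iff]
    intro h _
    exact hab h g
  · have hna : ∃ u v : G, u * v ≠ v * u := by
      push Not at hab
      exact hab
    by_contra hne
    have hCr : Nat.card (Subgroup.centralizer (S : Set G)) ≠ r := by
      intro h
      exact hne (Subgroup.eq_of_le_of_card_ge hle (by rw [h]; exact hS.ge)).symm
    have hd1 : r ∣ Nat.card (Subgroup.centralizer (S : Set G)) := by
      have := Subgroup.card_dvd_of_le hle
      rwa [hS] at this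
    have hd2 : Nat.card (Subgroup.centralizer (S : Set G)) ∣ p ^ a * q ^ b * r := by
      rw [← hcard]
      exact Subgroup.card_subgroup_dvd_card _
    obtain ⟨m, hm⟩ := hd1
    have hm1 : m ≠ 1 := by
      rintro rfl
      exact hCr (by rw [hm, mul_one])
    have hmd : m ∣ p ^ a * q ^ b := by
      rw [hm, mul_comm r m] at hd2
      exact Nat.dvd_of_mul_dvd_mul_right hr.pos hd2
    obtain ⟨l, hl, hlm⟩ := Nat.exists_prime_and_dvd hm1
    have hlC : l ∣ Nat.card (Subgroup.centralizer (S : Set G)) := by
      rw [hm]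
      exact Dvd.dvd.mul_left hlm r
    have : Fact l.Prime := ⟨hl⟩
    obtain ⟨x, hx⟩ := exists_prime_orderOf_dvd_card' l hlC
    obtain ⟨z, hz⟩ := exists_prime_orderOf_dvd_card' (G := S) r (by rw [hS])
    have hxz : Commute (x : G) (z : G) := by
      have := (Subgroup.mem_centralizer_iff.mp x.2) (z : G) z.2
      exact this.symm
    have hx' : orderOf (x : G) = l := by rw [Subgroup.orderOf_coe]; exact hx
    have hz' : orderOf (z : G) = r := by rw [Subgroup.orderOf_coe]; exact hz
    rcases (Nat.Prime.dvd_mul hl).mp (hlm.trans hmd) with h | h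
    · have hlp : l = p := (Nat.prime_dvd_prime_iff_eq hl hp).mp (hl.dvd_of_dvd_pow h)
      exact no_commuting hna p q r a b hp hq hr hpr hqr hcard (x : G) (z : G) (hlp ▸ hx') hz' hxz
    · have hlq : l = q := (Nat.prime_dvd_prime_iff_eq hl hq).mp (hl.dvd_of_dvd_pow h)
      exact no_commuting hna q p r b a hq hp hr hqr hpr (by rw [hcard]; ring) (x : G) (z : G)
        (hlq ▸ hx') hz' hxz

end Cfsg.Agent.S0904
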