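import Cfsg.Statements.S4343

set_option autoImplicit false
open Cfsg

namespace Cfsg.Agent.S4343

open scoped Pointwise

/-- Two distinct Sylow subgroups of a group with fewer than `p ^ 2` Sylow `p`-subgroups meet in a
subgroup of index `p`. -/
theorem relIndex_eq_of_card_lt {G : Type*} [Group G] [Finite G] (p : ℕ) [Fact p.Prime]
    (hn : Nat.card (Sylow p G) < p ^ 2) (Q R : Sylow p G) (hQR : Q ≠ R) :
    (R : Subgroup G).relIndex Q = p := by
  have hpp : p.Prime := Fact.out
  -- the stabilizer of `R` under the action of `Q`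
  have hstab : MulAction.stabilizer (Q : Subgroup G) R = (R : Subgroup G).subgroupOf Q := by
    ext u
    rw [MulAction.mem_stabilizer_iff, Subgroup.mem_subgroupOf]
    have h1 : u • R = R ↔ (u : G) • R = R := Iff.rfl
    rw [h1, Sylow.smul_eq_iff_mem_normalizer]
    have h2 := Q.isPGroup'.inf_normalizer_sylow R
    constructor
    · intro h
      have : (u : G) ∈ (Q : Subgroup G) ⊓ Subgroup.normalizer (R : Set G) := ⟨u.2, h⟩
      rw [h2] at this
      exact this.2
    · intro h
      exact Subgroup.le_normalizer (H := (R : Subgroup G)) h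
  have hlt : (R : Subgroup G).relIndex Q < p ^ 2 := by
    have h1 : (R : Subgroup G).relIndex Q = (MulAction.orbit (Q : Subgroup G) R).ncard := by
      rw [← MulAction.index_stabilizer, hstab]; rfl
    rw [h1]
    exact lt_of_le_of_lt (Set.ncard_le_card _) hn
  have hne1 : (R : Subgroup G).relIndex Q ≠ 1 := by
    intro h
    have hle : (Q : Subgroup G) ≤ R := Subgroup.relIndex_eq_one.mp h
    exact hQR (Sylow.ext (Q.is_maximal' R.isPGroup' hle)).symm
  obtain ⟨m, hm⟩ := (IsPGroup.iff_card.mp Q.isPGroup')
  have hdvd : (R : Subgroup G).relIndex Q ∣ p ^ m := by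
    rw [← hm]; exact Subgroup.relIndex_dvd_card _ _
  obtain ⟨j, -, hj⟩ := (Nat.dvd_prime_pow hpp).mp hdvd
  rw [hj] at hlt hne1 ⊢
  have hj2 : j < 2 := (Nat.pow_lt_pow_iff_right hpp.one_lt).mp hlt
  have hj0 : j ≠ 0 := by
    rintro rfl
    exact hne1 (pow_zero p)
  have : j = 1 := by omega
  rw [this, pow_one]

/-- The number of Sylow subgroups containing a given `p`-subgroup is `1` modulo `p`. -/
theorem card_filter_le_modEq_one {G : Type*} [Group G] [Finite G] (p : ℕ) [Fact p.Prime]
    [Fintype (Sylow p G)] [DecidableRel (fun (D : Subgroup G) (X : Sylow p G) => D ≤ (X : Subgroup G))]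
    (D : Subgroup G) (hD : IsPGroup p D) :
    (Finset.univ.filter (fun X : Sylow p G => D ≤ (X : Subgroup G))).card ≡ 1 [MOD p] := by
  have h1 := hD.card_modEq_card_fixedPoints (Sylow p G)
  have h2 : Nat.card (Sylow p G) ≡ 1 [MOD p] := card_sylow_modEq_one p G
  have h3 : Nat.card (MulAction.fixedPoints D (Sylow p G)) =
      (Finset.univ.filter (fun X : Sylow p G => D ≤ (X : Subgroup G))).card := by
    rw [← Fintype.card_subtype, ← Nat.card_eq_fintype_card]
    apply Nat.card_congr
    exact Equiv.subtypeEquivRight (fun X => hD.sylow_mem_fixedPoints_iff)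
  rw [← h3]
  exact h1.symm.trans h2

/-- Let S be a finite non-abelian simple group and p a prime dividing its order. If S has fewer than p² Sylow p-subgroups, then its Sylow p-subgroups have order p. -/
theorem result {S : Type*} [Group S] [Finite S]
    [IsSimpleGroup S] (hS : ¬ IsMulCommutative S) (p : ℕ) [Fact p.Prime] (hp : p ∣ Nat.card S)
    (hn : Nat.card (Sylow p S) < p ^ 2) (P : Sylow p S) : Nat.card P = p := by
  classical
  have hpp : p.Prime := Fact.out
  haveI : Fintype (Sylow p S) := Fintype.ofFinite _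
  by_contra hcard
  -- all Sylow subgroups have the same order `c = p ^ m`
  set m := (Nat.card S).factorization p with hm
  have hc : ∀ X : Sylow p S, Nat.card X = p ^ m := fun X => X.card_eq_multiplicity
  have hm1 : 1 ≤ m := by
    have : 0 < (Nat.card S).factorization p :=
      hpp.factorization_pos_of_dvd Nat.card_pos.ne' hp
    exact this
  have hm2 : 2 ≤ m := by
    rcases Nat.lt_or_ge m 2 with h | h
    · exfalso
      have hm' : m = 1 := by omega
      apply hcard
      have := hc P
      rw [hm', pow_one] at this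
      exact this
    · exact h
  -- intersections of distinct Sylow subgroups have order `p ^ (m - 1)`
  have hinf : ∀ Q R : Sylow p S, Q ≠ R →
      Nat.card ((Q : Subgroup S) ⊓ R : Subgroup S) = p ^ (m - 1) := by
    intro Q R hQR
    have h1 := relIndex_eq_of_card_lt p hn Q R hQR
    have h2 := Subgroup.relIndex_mul_relIndex (⊥ : Subgroup S) ((Q : Subgroup S) ⊓ R)
      (Q : Subgroup S) bot_le inf_le_left
    rw [Subgroup.relIndex_bot_left, Subgroup.relIndex_bot_left, Subgroup.inf_relIndex_left, h1] at h2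
    have h3 : Nat.card (Q : Subgroup S) = p ^ m := hc Q
    rw [h3] at h2
    have h4 : p ^ m = p ^ (m - 1) * p := by
      rw [← pow_succ]; congr 1; omega
    rw [h4] at h2
    exact Nat.eq_of_mul_eq_mul_right hpp.pos h2
  have heq : ∀ (D E : Subgroup S), D ≤ E → Nat.card D = p ^ (m - 1) → Nat.card E = p ^ (m - 1) →
      D = E := by
    intro D E hDE hD hE
    exact Subgroup.eq_of_le_of_card_ge hDE (by rw [hD, hE])
  -- the intersection of all Sylow subgroups is trivial
  have hK : (⨅ X : Sylow p S, (X : Subgroup S)) = ⊥ := by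
    have hnorm : (⨅ X : Sylow p S, (X : Subgroup S)).Normal := by
      constructor
      intro n hn' g
      rw [Subgroup.mem_iInf] at hn' ⊢
      intro X
      have h1 := hn' (g⁻¹ • X)
      have h2 : n ∈ g⁻¹ • X := h1
      have h3 : n ∈ (MulAut.conj g⁻¹ • (X : Subgroup S)) := h2
      rw [Subgroup.mem_pointwise_smul_iff_inv_smul_mem] at h3
      simpa [MulAut.smul_def] using h3
    rcases hnorm.eq_bot_or_eq_top with h | h
    · exact h
    · exfalso
      have hPtop : (P : Subgroup S) = ⊤ := by
        rw [eq_top_iff, ← h]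
        exact iInf_le _ P
      -- then `S` is a `p`-group, hence has nontrivial centre, hence is commutative
      have hSp : IsPGroup p S := by
        have := P.isPGroup'
        rw [hPtop] at this
        exact IsPGroup.of_equiv this Subgroup.topEquiv
      have hcen : Nontrivial (Subgroup.center S) := hSp.center_nontrivial
      have hcentop : Subgroup.center S = ⊤ := by
        rcases (inferInstance : (Subgroup.center S).Normal).eq_bot_or_eq_top with h' | h'
        · exfalso
          rw [Subgroup.nontrivial_iff_ne_bot] at hcen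
          exact hcen h'
        · exact h'
      apply hS
      rw [isMulCommutative_iff]
      intro a b
      have : b ∈ Subgroup.center S := hcentop ▸ Subgroup.mem_top b
      exact (Subgroup.mem_center_iff.mp this a)
  -- a Sylow subgroup different from `P`
  obtain ⟨Q, hQP⟩ : ∃ Q : Sylow p S, Q ≠ P := by
    by_contra hall
    push Not at hall
    have hPbot : (P : Subgroup S) = ⊥ := by
      rw [← hK]
      apply le_antisymm
      · apply le_iInf
        intro X
        rw [hall X]
      · exact iInf_le _ P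
    exact P.ne_bot_of_dvd_card hp hPbot
  set D₁ : Subgroup S := (P : Subgroup S) ⊓ Q with hD₁
  have hD₁card : Nat.card D₁ = p ^ (m - 1) := hinf P Q (Ne.symm hQP)
  have hD₁ne : D₁ ≠ ⊥ := by
    intro h
    rw [h, Subgroup.card_bot] at hD₁card
    have : 1 < p ^ (m - 1) := Nat.one_lt_pow (by omega) hpp.one_lt
    omega
  obtain ⟨R, hR⟩ : ∃ R : Sylow p S, ¬ D₁ ≤ (R : Subgroup S) := by
    by_contra hall
    push Not at hall
    apply hD₁ne
    rw [eq_bot_iff, ← hK]
    exact le_iInf hall
  have hQR : Q ≠ R := by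
    rintro rfl
    exact hR inf_le_right
  set D' : Subgroup S := (Q : Subgroup S) ⊓ R with hD'
  have hD'card : Nat.card D' = p ^ (m - 1) := hinf Q R hQR
  have hPD' : ¬ D' ≤ (P : Subgroup S) := by
    intro h
    have h1 : D' ≤ D₁ := le_inf h inf_le_left
    have h2 : D' = D₁ := heq D' D₁ h1 hD'card hD₁card
    apply hR
    rw [← h2]
    exact inf_le_right
  -- the line through `Q` and `R`
  set ℓ : Finset (Sylow p S) := Finset.univ.filter (fun X : Sylow p S => D' ≤ (X : Subgroup S))
    with hℓ
  have hD'p : IsPGroup p D' := Q.isPGroup'.to_le inf_le_left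
  have hℓcard : p + 1 ≤ ℓ.card := by
    have h1 : ℓ.card ≡ 1 [MOD p] := card_filter_le_modEq_one p D' hD'p
    have h2 : 1 < ℓ.card := by
      rw [Finset.one_lt_card]
      refine ⟨Q, ?_, R, ?_, hQR⟩
      · rw [hℓ, Finset.mem_filter]; exact ⟨Finset.mem_univ _, inf_le_left⟩
      · rw [hℓ, Finset.mem_filter]; exact ⟨Finset.mem_univ _, inf_le_right⟩
    by_contra hlt
    have h3 : ℓ.card < p + 1 := by omega
    have h4 : ℓ.card % p = 1 % p := h1
    rw [Nat.mod_eq_of_lt hpp.one_lt] at h4
    rcases Nat.lt_or_ge ℓ.card p with h5 | h5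
    · rw [Nat.mod_eq_of_lt h5] at h4; omega
    · have h6 : ℓ.card = p := by omega
      rw [h6, Nat.mod_self] at h4; omega
  -- the lines through `P`
  let A : Sylow p S → Finset (Sylow p S) := fun X =>
    (Finset.univ.filter (fun Y : Sylow p S => (P : Subgroup S) ⊓ X ≤ (Y : Subgroup S))).erase P
  have hXP : ∀ X ∈ ℓ, X ≠ P := by
    intro X hX hXP'
    rw [hℓ, Finset.mem_filter] at hX
    rw [hXP'] at hX
    exact hPD' hX.2
  have hAcard : ∀ X ∈ ℓ, p ≤ (A X).card := by
    intro X hX
    have hXne := hXP X hX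
    have hpg : IsPGroup p ((P : Subgroup S) ⊓ X : Subgroup S) := P.isPGroup'.to_le inf_le_left
    have h1 := card_filter_le_modEq_one p ((P : Subgroup S) ⊓ X) hpg
    have hPmem : P ∈ Finset.univ.filter (fun Y : Sylow p S => (P : Subgroup S) ⊓ X ≤ (Y : Subgroup S)) := by
      rw [Finset.mem_filter]; exact ⟨Finset.mem_univ _, inf_le_left⟩
    have hXmem : X ∈ Finset.univ.filter (fun Y : Sylow p S => (P : Subgroup S) ⊓ X ≤ (Y : Subgroup S)) := by
      rw [Finset.mem_filter]; exact ⟨Finset.mem_univ _, inf_le_right⟩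
    have h2 : 1 < (Finset.univ.filter
        (fun Y : Sylow p S => (P : Subgroup S) ⊓ X ≤ (Y : Subgroup S))).card := by
      rw [Finset.one_lt_card]
      exact ⟨X, hXmem, P, hPmem, hXne⟩
    have h3 : (A X).card = (Finset.univ.filter
        (fun Y : Sylow p S => (P : Subgroup S) ⊓ X ≤ (Y : Subgroup S))).card - 1 :=
      Finset.card_erase_of_mem hPmem
    rw [h3]
    set t := (Finset.univ.filter
        (fun Y : Sylow p S => (P : Subgroup S) ⊓ X ≤ (Y : Subgroup S))).card with ht
    by_contra hlt
    have h4 : t % p = 1 % p := h1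
    rw [Nat.mod_eq_of_lt hpp.one_lt] at h4
    rcases Nat.lt_or_ge t p with h5 | h5
    · rw [Nat.mod_eq_of_lt h5] at h4; omega
    · have h6 : t = p := by omega
      rw [h6, Nat.mod_self] at h4; omega
  have hdisj : ∀ X ∈ ℓ, ∀ X' ∈ ℓ, X ≠ X' → Disjoint (A X) (A X') := by
    intro X hX X' hX' hne
    rw [Finset.disjoint_left]
    intro Y hY hY'
    simp only [A, Finset.mem_erase, Finset.mem_filter, Finset.mem_univ, true_and] at hY hY'
    obtain ⟨hYP, hY1⟩ := hY
    obtain ⟨-, hY2⟩ := hY'
    have hXne := hXP X hX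
    have hX'ne := hXP X' hX'
    have e1 : (P : Subgroup S) ⊓ X = (P : Subgroup S) ⊓ Y :=
      heq _ _ (le_inf inf_le_left hY1) (hinf P X (Ne.symm hXne)) (hinf P Y (Ne.symm hYP))
    have e2 : (P : Subgroup S) ⊓ X' = (P : Subgroup S) ⊓ Y :=
      heq _ _ (le_inf inf_le_left hY2) (hinf P X' (Ne.symm hX'ne)) (hinf P Y (Ne.symm hYP))
    have e3 : (P : Subgroup S) ⊓ X = (X : Subgroup S) ⊓ X' := by
      apply heq _ _ _ (hinf P X (Ne.symm hXne)) (hinf X X' hne)
      apply le_inf inf_le_right
      rw [e1, ← e2]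
      exact inf_le_right
    rw [hℓ, Finset.mem_filter] at hX hX'
    have e4 : D' = (X : Subgroup S) ⊓ X' :=
      heq _ _ (le_inf hX.2 hX'.2) hD'card (hinf X X' hne)
    apply hPD'
    rw [e4, ← e3]
    exact inf_le_left
  -- counting
  have hcount : (ℓ.biUnion A).card = ∑ X ∈ ℓ, (A X).card := Finset.card_biUnion hdisj
  have hle : (ℓ.biUnion A).card ≤ Fintype.card (Sylow p S) := Finset.card_le_univ _
  have hsum : ℓ.card * p ≤ ∑ X ∈ ℓ, (A X).card := by
    have := Finset.card_nsmul_le_sum ℓ (fun X => (A X).card) p hAcard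
    simpa [smul_eq_mul] using this
  rw [Nat.card_eq_fintype_card] at hn
  have h1 : (p + 1) * p ≤ ℓ.card * p := Nat.mul_le_mul_right p hℓcard
  have h2 : (p + 1) * p = p ^ 2 + p := by ring
  omega

end Cfsg.Agent.S4343
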