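import Cfsg.Statements.S5913
-- import your own Cfsg.Agent.* helpers here

set_option autoImplicit false
open Cfsg

namespace Cfsg.Agent.S5913

/-- Let S be a non-abelian simple group and n a natural number. Every normal subgroup N of the direct power S^n (functions Fin n → S) is a subproduct: there is a set T of coordinates such that N consists exactly of the elements whose coordinates outside T are trivial. In particular the minimal normal subgroups of S^n are its n factors. -/
theorem result {S : Type*} [Group S] [IsSimpleGroup S] (hS : ¬ IsMulCommutative S) (n : ℕ)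
    (N : Subgroup (Fin n → S)) [N.Normal] :
    ∃ T : Finset (Fin n), ∀ x : Fin n → S, x ∈ N ↔ ∀ i, i ∉ T → x i = 1 := by
  classical
  -- the centre of `S` is trivial
  have hcenter : ∀ a : S, a ≠ 1 → ∃ s : S, a * s * a⁻¹ * s⁻¹ ≠ 1 := by
    intro a ha
    by_contra hcon
    push Not at hcon
    have hac : a ∈ Subgroup.center S := by
      rw [Subgroup.mem_center_iff]
      intro s
      have h1 := hcon s
      have h2 : a * s = s * a := by
        have h3 : a * s * a⁻¹ * s⁻¹ * (s * a) = 1 * (s * a) := by rw [h1]
        simpa [mul_assoc] using h3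
      exact h2.symm
    rcases IsSimpleGroup.eq_bot_or_eq_top_of_normal (Subgroup.center S) inferInstance with hc | hc
    · rw [hc, Subgroup.mem_bot] at hac
      exact ha hac
    · apply hS
      refine ⟨⟨fun x y => ?_⟩⟩
      have hx : x ∈ Subgroup.center S := by rw [hc]; trivial
      exact (Subgroup.mem_center_iff.mp hx y).symm
  refine ⟨Finset.univ.filter (fun i => ∃ x ∈ N, x i ≠ 1), fun x => ⟨?_, ?_⟩⟩
  · intro hx i hi
    by_contra hne
    exact hi (Finset.mem_filter.mpr ⟨Finset.mem_univ _, x, hx, hne⟩)
  · intro hx
    have hA : ∀ i : Fin n, (∃ y ∈ N, y i ≠ 1) → ∀ s : S, Pi.mulSingle i s ∈ N := by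
      rintro i ⟨y, hy, hyi⟩ s
      let Ni : Subgroup S := N.comap (MonoidHom.mulSingle (fun _ : Fin n => S) i)
      have hNi : Ni.Normal := Subgroup.Normal.comap inferInstance _
      obtain ⟨t, ht⟩ := hcenter (y i) hyi
      have hmem : y i * t * (y i)⁻¹ * t⁻¹ ∈ Ni := by
        show Pi.mulSingle i (y i * t * (y i)⁻¹ * t⁻¹) ∈ N
        have h1 : Pi.mulSingle i (y i * t * (y i)⁻¹ * t⁻¹)
            = y * (Pi.mulSingle i t * y⁻¹ * (Pi.mulSingle i t)⁻¹) := by
          funext j
          by_cases hj : j = i
          · subst hj
            simp [mul_assoc]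
          · simp [Pi.mulSingle_eq_of_ne hj]
        rw [h1]
        exact N.mul_mem hy (Subgroup.Normal.conj_mem inferInstance _ (N.inv_mem hy) _)
      rcases IsSimpleGroup.eq_bot_or_eq_top_of_normal Ni hNi with hb | htop
      · rw [hb, Subgroup.mem_bot] at hmem
        exact absurd hmem ht
      · have : s ∈ Ni := by rw [htop]; trivial
        exact this
    rw [← Finset.noncommProd_mulSingle x]
    apply Subgroup.noncommProd_mem
    intro i _
    by_cases hi : ∃ y ∈ N, y i ≠ 1
    · exact hA i hi (x i)
    · have : x i = 1 := hx i (fun h => hi (Finset.mem_filter.mp h).2)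
      rw [this, Pi.mulSingle_one]
      exact N.one_mem

end Cfsg.Agent.S5913
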