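import Cfsg.Statements.S5914
import Cfsg.Agent.S5913

set_option autoImplicit false
open Cfsg

namespace Cfsg.Agent.S5914

universe u v

/-- `(Fin k → S) × S ≃* (Fin (k+1) → S)`. -/
def snocMulEquiv (S : Type u) [Group S] (k : ℕ) : (Fin k → S) × S ≃* (Fin (k + 1) → S) where
  toFun p := Fin.snoc (α := fun _ => S) p.1 p.2
  invFun f := (Fin.init (α := fun _ => S) f, f (Fin.last k))
  left_inv p := by
    apply Prod.ext
    · exact Fin.init_snoc (α := fun _ => S) p.2 p.1
    · exact Fin.snoc_last (α := fun _ => S) p.2 p.1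
  right_inv f := Fin.snoc_init_self (α := fun _ => S) f
  map_mul' p q := by
    funext i
    refine Fin.lastCases ?_ (fun j => ?_) i
    · simp [Fin.snoc_last]
    · simp [Fin.snoc_castSucc]

/-- The "transvection" automorphism of an abelian power. -/
def shear {S : Type u} [Group S] (hS : ∀ a b : S, a * b = b * a) {n : ℕ} (i j : Fin n)
    (hij : i ≠ j) : (Fin n → S) ≃* (Fin n → S) where
  toFun y := y * Pi.mulSingle j (y i)
  invFun y := y * Pi.mulSingle j (y i)⁻¹
  left_inv y := by
    funext l
    by_cases hl : l = j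
    · subst hl
      simp [Pi.mulSingle_eq_of_ne hij]
    · simp [Pi.mulSingle_eq_of_ne hl]
  right_inv y := by
    funext l
    by_cases hl : l = j
    · subst hl
      simp [Pi.mulSingle_eq_of_ne hij]
    · simp [Pi.mulSingle_eq_of_ne hl]
  map_mul' y z := by
    funext l
    by_cases hl : l = j
    · subst hl
      simp only [Pi.mul_apply, Pi.mulSingle_eq_same]
      rw [mul_assoc, mul_assoc, ← mul_assoc (z l), hS (z l) (y i)]
      simp only [mul_assoc]
    · simp [Pi.mulSingle_eq_of_ne hl]

theorem charSimple_pow {S : Type u} [Group S] [IsSimpleGroup S] (n : ℕ)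
    (H : Subgroup (Fin n → S))
    (hH : ∀ φ : (Fin n → S) ≃* (Fin n → S), ∀ y ∈ H, φ y ∈ H) : H = ⊥ ∨ H = ⊤ := by
  classical
  by_cases hbot : H = ⊥
  · exact Or.inl hbot
  right
  obtain ⟨x, hxH, hx1⟩ : ∃ x ∈ H, x ≠ 1 := by
    by_contra hcon
    push Not at hcon
    exact hbot ((Subgroup.eq_bot_iff_forall _).mpr hcon)
  obtain ⟨i, hi⟩ : ∃ i, x i ≠ 1 := by
    by_contra hcon
    push Not at hcon
    exact hx1 (funext hcon)
  by_cases hS : IsMulCommutative S
  · -- abelian case
    have hcomm : ∀ a b : S, a * b = b * a := fun a b => mul_comm' a b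
    have key : ∀ y ∈ H, ∀ i j : Fin n, i ≠ j → Pi.mulSingle j (y i) ∈ H := by
      intro y hy i j hij
      have h1 := hH (shear hcomm i j hij) y hy
      have h2 : y⁻¹ * (shear hcomm i j hij) y = Pi.mulSingle j (y i) := by
        show y⁻¹ * (y * Pi.mulSingle j (y i)) = _
        rw [inv_mul_cancel_left]
      rw [← h2]
      exact H.mul_mem (H.inv_mem hy) h1
    have hall : ∀ j : Fin n, Pi.mulSingle j (x i) ∈ H := by
      by_cases hex : ∃ j, j ≠ i
      · obtain ⟨j₀, hj₀⟩ := hex
        have h1 := key x hxH i j₀ hj₀.symm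
        have h2 := key _ h1 j₀ i hj₀
        rw [Pi.mulSingle_eq_same] at h2
        intro j
        by_cases hj : j = i
        · rw [hj]; exact h2
        · exact key x hxH i j (Ne.symm hj)
      · push Not at hex
        intro j
        have : x = Pi.mulSingle j (x i) := by
          funext l
          rw [hex l, hex j, Pi.mulSingle_eq_same]
        rw [← this]; exact hxH
    have hgen : Subgroup.zpowers (x i) = ⊤ := by
      have hn : (Subgroup.zpowers (x i)).Normal := by
        refine ⟨fun a ha g => ?_⟩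
        rw [hcomm g a, mul_inv_cancel_right]; exact ha
      rcases hn.eq_bot_or_eq_top with h | h
      · exact absurd (Subgroup.zpowers_eq_bot.mp h) hi
      · exact h
    rw [eq_top_iff]
    intro y _
    apply Subgroup.pi_mem_of_mulSingle_mem
    intro j
    have hy : y j ∈ Subgroup.zpowers (x i) := by rw [hgen]; trivial
    obtain ⟨k, hk⟩ := Subgroup.mem_zpowers_iff.mp hy
    have h3 : Pi.mulSingle j (y j) = (Pi.mulSingle j (x i) : Fin n → S) ^ k := by
      rw [← hk]
      exact map_zpow (MonoidHom.mulSingle (fun _ : Fin n => S) j) (x i) k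
    rw [h3]
    exact H.zpow_mem (hall j) k
  · -- nonabelian case
    have hn : H.Normal := by
      refine ⟨fun a ha g => ?_⟩
      exact hH (MulAut.conj g) a ha
    obtain ⟨T, hT⟩ := Cfsg.Agent.S5913.result hS n H
    have hiT : i ∈ T := by
      by_contra hiT
      exact hi ((hT x).mp hxH i hiT)
    have hTall : ∀ j, j ∈ T := by
      intro j
      by_contra hjT
      have h1 := hH (MulEquiv.arrowCongr (Equiv.swap i j) (MulEquiv.refl S)) x hxH
      have h2 := (hT _).mp h1 j hjT
      apply hi
      simpa using h2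
    rw [eq_top_iff]
    intro y _
    exact (hT y).mpr (fun l hl => absurd (hTall l) hl)

theorem exists_simple_pow {G : Type u} [Group G] [Finite G] [Nontrivial G]
    (hG : ∀ H : Subgroup G, H.Characteristic → H = ⊥ ∨ H = ⊤) :
    ∃ N : Subgroup G, IsSimpleGroup N ∧ ∃ k : ℕ, Nonempty (G ≃* (Fin k → N)) := by
  classical
  -- minimal normal subgroup
  obtain ⟨N, hNmin⟩ : ∃ N : Subgroup G, Minimal (fun K : Subgroup G => K.Normal ∧ K ≠ ⊥) N := by
    have h0 : (⊤ : Subgroup G).Normal ∧ (⊤ : Subgroup G) ≠ ⊥ := ⟨inferInstance, top_ne_bot⟩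
    obtain ⟨N, -, hN⟩ := Finite.exists_le_minimal (p := fun K : Subgroup G => K.Normal ∧ K ≠ ⊥) h0
    exact ⟨N, hN⟩
  have hNn : N.Normal := hNmin.prop.1
  have hNbot : N ≠ ⊥ := hNmin.prop.2
  have hNmin' : ∀ K : Subgroup G, K.Normal → K ≤ N → K = ⊥ ∨ K = N := by
    intro K hK hKN
    by_cases hKb : K = ⊥
    · exact Or.inl hKb
    · exact Or.inr (le_antisymm hKN (hNmin.le_of_le ⟨hK, hKb⟩ hKN))
  -- images under automorphisms
  have himg_normal : ∀ ψ : G ≃* G, (N.map ψ.toMonoidHom).Normal :=
    fun ψ => hNn.map _ ψ.surjective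
  have himg_min : ∀ ψ : G ≃* G, ∀ K : Subgroup G, K.Normal → K ≤ N.map ψ.toMonoidHom →
      K = ⊥ ∨ K = N.map ψ.toMonoidHom := by
    intro ψ K hK hKN
    have h1 : (K.comap ψ.toMonoidHom).Normal := hK.comap _
    have h2 : K.comap ψ.toMonoidHom ≤ N := by
      intro x hx
      obtain ⟨y, hy, hyx⟩ := hKN hx
      have : y = x := ψ.injective hyx
      rw [← this]; exact hy
    rcases hNmin' _ h1 h2 with h | h
    · left
      rw [eq_bot_iff]; intro x hx
      have h3 : ψ.symm x ∈ K.comap ψ.toMonoidHom := by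
        show ψ (ψ.symm x) ∈ K
        rw [ψ.apply_symm_apply]; exact hx
      rw [h, Subgroup.mem_bot] at h3
      rw [Subgroup.mem_bot]
      have h4 := congrArg ψ h3
      rw [ψ.apply_symm_apply, map_one] at h4
      exact h4
    · right
      rw [← h, Subgroup.map_comap_eq_self_of_surjective ψ.surjective]
  -- the property
  let R : Subgroup G → Prop := fun M => M.Normal ∧ (∃ k : ℕ, Nonempty (↥M ≃* (Fin k → N))) ∧
    ∃ L : Subgroup G, L ≤ Subgroup.centralizer (N : Set G) ∧ N ⊔ L = M
  have hRN : R N :=
    ⟨hNn, ⟨1, ⟨(MulEquiv.funUnique (Fin 1) N).symm⟩⟩, ⊥, bot_le, sup_bot_eq _⟩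
  obtain ⟨M, hNM, hMmax⟩ := Finite.exists_le_maximal hRN
  obtain ⟨hMn, ⟨k, ⟨e⟩⟩, L, hLc, hLM⟩ := hMmax.prop
  have hall : ∀ ψ : G ≃* G, N.map ψ.toMonoidHom ≤ M := by
    intro ψ
    by_contra hnot
    have hN'n : (N.map ψ.toMonoidHom).Normal := himg_normal ψ
    have hdis : N.map ψ.toMonoidHom ⊓ M = ⊥ := by
      have hn : (N.map ψ.toMonoidHom ⊓ M).Normal := inferInstance
      rcases himg_min ψ _ hn inf_le_left with h | h
      · exact h
      · exfalso
        apply hnot
        rw [← h]; exact inf_le_right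
    have hdis' : Disjoint M (N.map ψ.toMonoidHom) := by
      rw [disjoint_iff, inf_comm]; exact hdis
    have hcomm : ∀ (m : M) (n : N.map ψ.toMonoidHom),
        Commute (M.subtype m) ((N.map ψ.toMonoidHom).subtype n) := fun m n =>
      Subgroup.commute_of_normal_of_disjoint M _ hMn hN'n hdis' m n m.2 n.2
    have hfinj : Function.Injective
        (MonoidHom.noncommCoprod M.subtype (N.map ψ.toMonoidHom).subtype hcomm) := by
      rw [MonoidHom.noncommCoprod_injective]
      refine ⟨M.subtype_injective, Subgroup.subtype_injective _, ?_⟩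
      rw [Subgroup.range_subtype, Subgroup.range_subtype]
      exact hdis'
    have hfrange : (MonoidHom.noncommCoprod M.subtype (N.map ψ.toMonoidHom).subtype hcomm).range
        = M ⊔ N.map ψ.toMonoidHom := by
      rw [MonoidHom.noncommCoprod_range, Subgroup.range_subtype, Subgroup.range_subtype]
    have hR' : R (M ⊔ N.map ψ.toMonoidHom) := by
      refine ⟨inferInstance, ⟨k + 1, ⟨?_⟩⟩, L ⊔ N.map ψ.toMonoidHom, ?_, ?_⟩
      · exact ((MulEquiv.subgroupCongr hfrange).symm.trans
          (MonoidHom.ofInjective hfinj).symm).trans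
          ((MulEquiv.prodCongr e (N.equivMapOfInjective ψ.toMonoidHom ψ.injective).symm).trans
            (snocMulEquiv N k))
      · refine sup_le hLc ?_
        intro y hy
        rw [Subgroup.mem_centralizer_iff]
        intro x hx
        exact (Subgroup.commute_of_normal_of_disjoint M _ hMn hN'n hdis' x y (hNM hx) hy).eq
      · rw [← sup_assoc, hLM]
    have h5 := hMmax.le_of_ge hR' le_sup_left
    exact hnot (le_sup_right.trans h5)
  -- M = ⊤
  have hMtop : M = ⊤ := by
    have hchar : (⨆ ψ : G ≃* G, N.map ψ.toMonoidHom).Characteristic := by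
      rw [Subgroup.characteristic_iff_map_le]
      intro φ
      rw [Subgroup.map_iSup]
      refine iSup_le fun ψ => ?_
      rw [Subgroup.map_map]
      exact le_iSup (fun ψ : G ≃* G => N.map ψ.toMonoidHom) (ψ.trans φ)
    rcases hG _ hchar with h | h
    · exfalso
      apply hNbot
      rw [eq_bot_iff, ← h]
      have h6 := le_iSup (fun ψ : G ≃* G => N.map ψ.toMonoidHom) (MulEquiv.refl G)
      intro x hx
      exact h6 ⟨x, hx, rfl⟩
    · rw [eq_top_iff, ← h]
      exact iSup_le hall
  have hsimple : IsSimpleGroup N := by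
    have hnt : Nontrivial N := (Subgroup.nontrivial_iff_ne_bot N).mpr hNbot
    refine ⟨fun K hK => ?_⟩
    have hKn : (K.map N.subtype).Normal := by
      rw [← Subgroup.normalizer_eq_top_iff, eq_top_iff, ← hMtop, ← hLM]
      refine sup_le ?_ ?_
      · have h1 := Subgroup.le_normalizer_map (H := K) N.subtype
        rw [Subgroup.normalizer_eq_top_iff.mpr hK, ← MonoidHom.range_eq_map,
          Subgroup.range_subtype] at h1
        exact h1
      · refine hLc.trans ((Subgroup.centralizer_le ?_).trans (Subgroup.centralizer_le_normalizer _))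
        exact Subgroup.map_subtype_le K
    rcases hNmin' _ hKn (Subgroup.map_subtype_le K) with h | h
    · left; exact (Subgroup.map_eq_bot_iff_of_injective K N.subtype_injective).mp h
    · right
      apply Subgroup.map_injective N.subtype_injective
      rw [h, ← MonoidHom.range_eq_map, Subgroup.range_subtype]
  exact ⟨N, hsimple, k, ⟨(Subgroup.topEquiv.symm.trans (MulEquiv.subgroupCongr hMtop.symm)).trans e⟩⟩

/-- A non-trivial finite group G is characteristically simple (its only characteristic subgroups are 1 and G) if and only if G is isomorphic to a direct power S^n (n ≥ 1) of some simple group S (possibly cyclic of prime order). -/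
theorem result {G : Type*} [Group G] [Finite G] [Nontrivial G] :
    (∀ H : Subgroup G, H.Characteristic → H = ⊥ ∨ H = ⊤) ↔
    ∃ (S : Type) (_ : Group S) (_ : IsSimpleGroup S) (n : ℕ), 1 ≤ n ∧ Nonempty (G ≃* (Fin n → S)) := by
  constructor
  · intro hG
    obtain ⟨N, hN, k, ⟨e⟩⟩ := exists_simple_pow hG
    have hk : 1 ≤ k := by
      by_contra hk
      have hk0 : k = 0 := by omega
      subst hk0
      have hsub : Subsingleton G := e.toEquiv.subsingleton
      exact not_subsingleton G hsub
    have eS : Shrink.{0} N ≃* N := Shrink.mulEquiv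
    exact ⟨Shrink.{0} N, inferInstance, eS.isSimpleGroup, k, hk,
      ⟨e.trans (MulEquiv.piCongrRight fun _ => eS.symm)⟩⟩
  · rintro ⟨S, _, _, n, hn, ⟨e⟩⟩ H hH
    have hH' : ∀ φ : (Fin n → S) ≃* (Fin n → S), ∀ y ∈ H.comap e.symm.toMonoidHom,
        φ y ∈ H.comap e.symm.toMonoidHom := by
      intro φ y hy
      have h1 := Subgroup.characteristic_iff_le_comap.mp hH ((e.trans φ).trans e.symm) hy
      simpa using h1
    rcases charSimple_pow n _ hH' with h | h
    · left
      rw [eq_bot_iff]; intro x hx
      have h2 : e x ∈ H.comap e.symm.toMonoidHom := by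
        show e.symm (e x) ∈ H
        rw [e.symm_apply_apply]; exact hx
      rw [h, Subgroup.mem_bot] at h2
      rw [Subgroup.mem_bot]; exact (MulEquiv.map_eq_one_iff e).mp h2
    · right
      rw [eq_top_iff]; intro x _
      have h2 : e x ∈ H.comap e.symm.toMonoidHom := by rw [h]; trivial
      have h3 : e.symm (e x) ∈ H := h2
      rwa [e.symm_apply_apply] at h3


end Cfsg.Agent.S5914
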