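import Cfsg.Statements.S5522
import Cfsg.Agent.Lib.helper94.M24Fix
import Cfsg.Agent.Lib.helper94.M24Octads

set_option autoImplicit false
open Cfsg

open Cfsg.Agent.Lib.helper94

namespace Cfsg.Agent.S5522

open scoped Pointwise

set_option maxRecDepth 100000

/-- The mask of the dodecad of squares. -/
def SQ : ℕ := 340831

theorem sq_eq : Spor.squareDodecad = Lib.helper94.setOf SQ := by decide

theorem chk : isCode SQ = true ∧ popc SQ = 12 ∧ fixMaskOK X2A 7612992 = true ∧
    fixMaskOK X3A 46176 = true ∧
    allBelow (fun j => !(Nat.beq (Nat.land 7612992 (fld DOD j)) 7612992)) 2576 = true ∧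
    allBelow (fun j => !(Nat.beq (Nat.land 46176 (fld DOD j)) 46176) ||
      !(Nat.beq (applyP X3A 1 (fld DOD j)) (fld DOD j))) 2576 = true := by
  decide +kernel

theorem sq_mem : Spor.squareDodecad ∈ dodecads := by
  rw [sq_eq]
  exact (mem_wordsOfWeight_iff _ 12).mpr ⟨_, by norm_num [SQ], chk.1, chk.2.1, rfl⟩

theorem sq_card : Spor.squareDodecad.card = 12 := by
  rw [sq_eq, card_setOf]
  exact chk.2.1

/-- The fixed points of a conjugate of a table lie in the dodecad of squares: the corresponding
dodecad of the list contains the fixed points of the table. -/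
theorem fix_in_dod {E m : ℕ} (hv : validPerm E = true) (hm : fixMaskOK E m = true)
    (hlt : m < 2 ^ 24) {c : Equiv.Perm GolayPt} (hc : c ∈ M24)
    (hno : ∀ x, x ∉ Spor.squareDodecad → (c * tperm E * c⁻¹) x ≠ x) :
    ∃ j < 2576, c⁻¹ • Spor.squareDodecad = Lib.helper94.setOf (fld DOD j) ∧
      Nat.land m (fld DOD j) = m := by
  have hsub : (Finset.univ.filter fun p => (c * tperm E * c⁻¹) p = p) ⊆ Spor.squareDodecad := by
    intro x hx
    rw [Finset.mem_filter] at hx
    by_contra hx'
    exact hno x hx' hx.2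
  rw [fixed_conj_smul, fixed_eq_setOf hv hm, Finset.smul_finset_subset_iff] at hsub
  obtain ⟨j, hj, hdj⟩ := dod_complete (c⁻¹ • Spor.squareDodecad)
    (smul_mem_dodecads (M24.inv_mem hc) sq_mem)
  rw [hdj, setOf_subset_iff hlt] at hsub
  exact ⟨j, hj, hdj, hsub⟩


/-- The Mathieu group M₁₁, realised as the stabiliser of one point of the dodecad of squares inside the stabiliser M₁₂ of that dodecad in M₂₄, acts on the twelve coordinate positions outside the dodecad of squares (its 3-transitive action of degree 12); in this action every element of prime order fixes a point, i.e. the action is elusive. -/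
theorem result (g : Equiv.Perm Cfsg.GolayPt) (hg : g ∈ Cfsg.Spor.M11) (hord : (orderOf g).Prime) :
    ∃ x : Cfsg.GolayPt, x ∉ Cfsg.Spor.squareDodecad ∧ g x = x := by
  obtain ⟨⟨hgM, hgd⟩, hg0⟩ : (g ∈ M24 ∧ g • Spor.squareDodecad = Spor.squareDodecad) ∧
      g (some 0) = some 0 := by
    have hg' : g ∈ (M24 ⊓ MulAction.stabilizer (Equiv.Perm GolayPt) Spor.squareDodecad) ⊓
        MulAction.stabilizer (Equiv.Perm GolayPt) (some 0 : GolayPt) := hg
    rw [Subgroup.mem_inf, Subgroup.mem_inf, MulAction.mem_stabilizer_iff,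
      MulAction.mem_stabilizer_iff] at hg'
    exact hg'
  by_cases h2 : orderOf g = 2
  · obtain ⟨X, hX, c, hc, rfl⟩ := order2_class g hgM h2
    simp only [List.mem_cons, List.not_mem_nil, or_false] at hX
    rcases hX with rfl | rfl
    · by_contra hno
      push Not at hno
      obtain ⟨j, hj, -, hand⟩ := fix_in_dod repsElts_ok.2.2.1 chk.2.2.1 (by norm_num) hc hno
      have := (allBelow_iff _ _).mp chk.2.2.2.2.1 j hj
      rw [hand] at this
      exact absurd this (by decide)
    · exact absurd hg0 (fpf_conj_of_fixCnt repsElts_ok.2.2.2.1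
        repsElts_ok.2.2.2.2.2.2.2.2.2.2.2 c _)
  by_cases h3 : orderOf g = 3
  · obtain ⟨X, hX, c, hc, rfl⟩ := order3_class g hgM h3
    simp only [List.mem_cons, List.not_mem_nil, or_false] at hX
    rcases hX with rfl | rfl
    · by_contra hno
      push Not at hno
      have hv := repsElts_ok.1
      obtain ⟨j, hj, hdj, hand⟩ := fix_in_dod hv chk.2.2.2.1 (by norm_num) hc hno
      have hfix : tperm X3A • (c⁻¹ • Spor.squareDodecad) = c⁻¹ • Spor.squareDodecad := by
        have := congrArg (fun s => c⁻¹ • s) hgd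
        simpa only [mul_smul, inv_smul_smul] using this
      rw [hdj, smul_setOf hv] at hfix
      have hfix' := setOf_injOn (applyP_lt hv _) (fld_lt DOD j) hfix
      have := (allBelow_iff _ _).mp chk.2.2.2.2.2 j hj
      rw [hand, hfix', Nat.beq_refl, Nat.beq_refl] at this
      exact absurd this (by decide)
    · exact absurd hg0 (fpf_conj_of_fixCnt repsElts_ok.2.1
        repsElts_ok.2.2.2.2.2.2.2.2.2.1 c _)
  · have hinv : ∀ x, (g x ∉ Spor.squareDodecad) ↔ (x ∉ Spor.squareDodecad) := by
      intro x
      rw [not_iff_not]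
      conv_lhs => rw [← hgd]
      exact Finset.smul_mem_smul_finset_iff g
    have : Fact (orderOf g).Prime := ⟨hord⟩
    obtain ⟨σ, hσdef⟩ : ∃ σ : Equiv.Perm {x : GolayPt // x ∉ Spor.squareDodecad},
        σ = Equiv.Perm.subtypePerm (p := fun x => x ∉ Spor.squareDodecad) g hinv := ⟨_, rfl⟩
    have hσ : σ ^ (orderOf g) ^ 1 = 1 := by
      rw [hσdef]
      rw [pow_one, Equiv.Perm.subtypePerm_pow]
      ext x
      simp [pow_orderOf_eq_one]
    have hmod := Equiv.Perm.card_compl_support_modEq hσ
    have hcard : Fintype.card {x : GolayPt // x ∉ Spor.squareDodecad} = 12 := by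
      rw [Fintype.card_subtype_compl, Fintype.card_coe, sq_card, card_golayPt]
    by_contra hno
    push Not at hno
    have hempty : σ.supportᶜ = ∅ := by
      ext x
      simp only [Finset.mem_compl, Equiv.Perm.mem_support, not_not, Finset.notMem_empty,
        iff_false]
      intro h
      rw [hσdef] at h
      exact hno x.1 x.2 (congrArg Subtype.val h)
    rw [hempty, hcard, Finset.card_empty] at hmod
    have hdvd : orderOf g ∣ 12 := (Nat.modEq_zero_iff_dvd.mp hmod.symm)
    have h12 : (12 : ℕ) = 2 ^ 2 * 3 := by norm_num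
    rw [h12] at hdvd
    rcases (Nat.Prime.dvd_mul hord).mp hdvd with h | h
    · exact h2 ((Nat.prime_dvd_prime_iff_eq hord Nat.prime_two).mp (hord.dvd_of_dvd_pow h))
    · exact h3 ((Nat.prime_dvd_prime_iff_eq hord Nat.prime_three).mp h)

end Cfsg.Agent.S5522
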