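import Cfsg.Statements.S3742
import Mathlib

set_option autoImplicit false
open Cfsg

namespace Cfsg.Agent.S3742

open QuaternionGroup Equiv

abbrev Q := QuaternionGroup 2

def α : Perm (Fin 4) := finRotate 4
def β : Perm (Fin 4) := swap 2 3 * α * swap 2 3
def γ : Perm (Fin 4) := α * β * α⁻¹

/-- the 4-cycle attached to a non-central element -/
def c : Q → Perm (Fin 4)
  | a i => if i = 1 then α else if i = 3 then α⁻¹ else 1
  | xa i => if i = 0 then β else if i = 2 then β⁻¹ else if i = 3 then γ else γ⁻¹

def cinv (π : Perm (Fin 4)) : Q :=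
  if π = α then a 1 else if π = α⁻¹ then a 3 else if π = β then xa 0 else if π = β⁻¹ then xa 2
  else if π = γ then xa 3 else xa 1

def isCentral : Q → Bool
  | a i => decide (i = 0 ∨ i = 2)
  | xa _ => false

def φ (σ : Perm (Fin 4)) (x : Q) : Q :=
  if isCentral x then x else cinv (σ * c x * σ⁻¹)

set_option maxRecDepth 100000 in
theorem c_cinv_test : ∀ x : Q, isCentral x = false → cinv (c x) = x := by decide

set_option maxRecDepth 100000 in
theorem φ_spec : ∀ (τ : Perm (Fin 4)) (x : Q), isCentral x = false →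
    (c (φ τ x) = τ * c x * τ⁻¹ ∧ isCentral (φ τ x) = false) := by decide


set_option maxRecDepth 100000 in
theorem φ_mul : ∀ (σ : Perm (Fin 4)) (x y : Q), φ σ (x * y) = φ σ x * φ σ y := by decide

set_option maxRecDepth 100000 in
theorem φ_one : ∀ (x : Q), φ 1 x = x := by decide

set_option maxRecDepth 100000 in
theorem φ_inj : ∀ (σ : Perm (Fin 4)), (∀ x : Q, φ σ x = x) → σ = 1 := by decide

set_option maxRecDepth 100000 in
theorem card_noncomm : Fintype.card {x : Q × Q // x.1 * x.2 ≠ x.2 * x.1} = 24 := by decide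


theorem φ_comp (σ τ : Perm (Fin 4)) (x : Q) : φ (σ * τ) x = φ σ (φ τ x) := by
  by_cases hx : isCentral x = true
  · simp [φ, hx]
  · have hx' : isCentral x = false := by simpa using hx
    obtain ⟨h1, h2⟩ := φ_spec τ x hx'
    have e1 : φ σ (φ τ x) = cinv (σ * c (φ τ x) * σ⁻¹) := by
      rw [φ, if_neg (by simp [h2])]
    have e2 : φ (σ * τ) x = cinv (σ * τ * c x * (σ * τ)⁻¹) := by
      rw [φ, if_neg (by simp [hx'])]
    have e3 : σ * τ * c x * (σ * τ)⁻¹ = σ * (τ * c x * τ⁻¹) * σ⁻¹ := by group
    rw [e1, e2, h1, e3]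

/-- the homomorphism from `S₄` to `Aut(Q₈)` -/
def F : Perm (Fin 4) →* MulAut Q where
  toFun σ :=
    { toFun := φ σ
      invFun := φ σ⁻¹
      left_inv := fun x => by rw [← φ_comp, inv_mul_cancel, φ_one]
      right_inv := fun x => by rw [← φ_comp, mul_inv_cancel, φ_one]
      map_mul' := φ_mul σ }
  map_one' := by
    ext x
    exact φ_one x
  map_mul' σ τ := by
    ext x
    exact φ_comp σ τ x

theorem F_injective : Function.Injective F := by
  rw [injective_iff_map_eq_one]
  intro σ hσ
  apply φ_inj
  intro x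
  have : F σ x = x := by rw [hσ]; rfl
  exact this

/-- an automorphism is determined by the images of the two generators -/
def gens (e : MulAut Q) : {x : Q × Q // x.1 * x.2 ≠ x.2 * x.1} :=
  ⟨(e (a 1), e (xa 0)), by
    intro h
    have h1 : e (a 1 * xa 0) = e (xa 0 * a 1) := by rw [map_mul, map_mul]; exact h
    exact absurd (e.injective h1) (by decide)⟩

theorem gens_injective : Function.Injective gens := by
  have hgen1 : ∀ i : ZMod 4, (a i : Q) = a 1 ^ i.val := by decide
  have hgen2 : ∀ i : ZMod 4, (xa i : Q) = xa 0 * a 1 ^ i.val := by decide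
  intro e₁ e₂ h
  have h1 : e₁ (a 1) = e₂ (a 1) := congrArg (fun z => z.1.1) h
  have h2 : e₁ (xa 0) = e₂ (xa 0) := congrArg (fun z => z.1.2) h
  ext x
  cases x with
  | a i => rw [hgen1 i, map_pow, map_pow, h1]
  | xa i => rw [hgen2 i, map_mul, map_mul, map_pow, map_pow, h1, h2]

/-- The automorphism group of the quaternion group of order 8 is isomorphic to the symmetric group of degree 4. -/
theorem result : Nonempty (MulAut (QuaternionGroup 2) ≃* Equiv.Perm (Fin 4)) := by
  have : Finite (MulAut Q) := Finite.of_injective gens gens_injective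
  have h1 : Nat.card (MulAut Q) ≤ 24 := by
    calc Nat.card (MulAut Q) ≤ Nat.card {x : Q × Q // x.1 * x.2 ≠ x.2 * x.1} :=
          Nat.card_le_card_of_injective gens gens_injective
      _ = 24 := by rw [Nat.card_eq_fintype_card]; exact card_noncomm
  have h2 : Nat.card (Perm (Fin 4)) = 24 := by
    rw [Nat.card_eq_fintype_card, Fintype.card_perm, Fintype.card_fin]
    rfl
  have hbij : Function.Bijective F := F_injective.bijective_of_nat_card_le (h2 ▸ h1)
  exact ⟨(MulEquiv.ofBijective F hbij).symm⟩


end Cfsg.Agent.S3742
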