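import Mathlib
import Cfsg.Statements.S0728

set_option autoImplicit false
open Cfsg

namespace Cfsg.Agent.S0728

lemma key {α : Type*} [Fintype α] [DecidableEq α] (h6 : 6 ≤ Fintype.card α)
    (G : Subgroup (Equiv.Perm α)) (h3 : MulAction.IsMultiplyPretransitive G α 3)
    (hsharp : ∀ x : Fin 3 ↪ α, MulAction.stabilizer G x = ⊥) {a b : α} (hab : a ≠ b)
    (g h : G) (hg1 : g ≠ 1) (hh1 : h ≠ 1) (hg3 : g ^ 3 = 1) (hh3 : h ^ 3 = 1)
    (hga : g • a = a) (hgb : g • b = b) (hha : h • a = a) (hhb : h • b = b) :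
    h = g ∨ h = g⁻¹ := by
  classical
  have inj3 : ∀ (p0 p1 p2 : α), p0 ≠ p1 → p0 ≠ p2 → p1 ≠ p2 →
      Function.Injective ![p0, p1, p2] := by
    intro p0 p1 p2 h01 h02 h12 i j hij
    fin_cases i <;> fin_cases j <;> simp_all
  have fix3 : ∀ (g : G) (p0 p1 p2 : α), p0 ≠ p1 → p0 ≠ p2 → p1 ≠ p2 →
      g • p0 = p0 → g • p1 = p1 → g • p2 = p2 → g = 1 := by
    intro g p0 p1 p2 h01 h02 h12 f0 f1 f2
    have hmem : g ∈ MulAction.stabilizer G (⟨![p0, p1, p2], inj3 p0 p1 p2 h01 h02 h12⟩ : Fin 3 ↪ α) := by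
      rw [MulAction.mem_stabilizer_iff]
      ext i
      fin_cases i
      · exact f0
      · exact f1
      · exact f2
    rw [hsharp] at hmem
    exact Subgroup.mem_bot.mp hmem
  have move3 : ∀ (p0 p1 p2 q0 q1 q2 : α), p0 ≠ p1 → p0 ≠ p2 → p1 ≠ p2 → q0 ≠ q1 → q0 ≠ q2 →
      q1 ≠ q2 → ∃ k : G, k • p0 = q0 ∧ k • p1 = q1 ∧ k • p2 = q2 := by
    intro p0 p1 p2 q0 q1 q2 hp01 hp02 hp12 hq01 hq02 hq12
    obtain ⟨k, hk⟩ := h3.exists_smul_eq ⟨![p0, p1, p2], inj3 p0 p1 p2 hp01 hp02 hp12⟩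
      ⟨![q0, q1, q2], inj3 q0 q1 q2 hq01 hq02 hq12⟩
    refine ⟨k, ?_, ?_, ?_⟩
    · exact congrArg (fun e : Fin 3 ↪ α => e 0) hk
    · exact congrArg (fun e : Fin 3 ↪ α => e 1) hk
    · exact congrArg (fun e : Fin 3 ↪ α => e 2) hk
  -- a third point
  obtain ⟨x0, hx0a, hx0b⟩ : ∃ x0 : α, x0 ≠ a ∧ x0 ≠ b := by
    by_contra hcon
    push Not at hcon
    have hsub : (Finset.univ : Finset α) ⊆ {a, b} := by
      intro x _
      by_cases hxa : x = a
      · simp [hxa]
      · simp [hcon x hxa]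
    have := Finset.card_le_card hsub
    rw [Finset.card_univ] at this
    have h2 : ({a, b} : Finset α).card ≤ 2 := Finset.card_le_two
    omega
  -- general facts for an element of order 3 fixing a, b
  have cyc : ∀ g : G, g ≠ 1 → g ^ 3 = 1 → g • a = a → g • b = b →
      (∀ z, g • z = z → z = a ∨ z = b) ∧ x0 ≠ g • x0 ∧ x0 ≠ g • g • x0 ∧
        g • x0 ≠ g • g • x0 ∧ g • g • g • x0 = x0 := by
    intro g hg1 hg3 hga hgb
    have gfix : ∀ z, g • z = z → z = a ∨ z = b := by
      intro z hz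
      by_contra hcon
      push Not at hcon
      exact hg1 (fix3 g a b z hab (Ne.symm hcon.1) (Ne.symm hcon.2) hga hgb hz)
    have hcube : g • g • g • x0 = x0 := by
      rw [← mul_smul, ← mul_smul, ← pow_three', hg3, one_smul]
    have h01 : x0 ≠ g • x0 := by
      intro h
      rcases gfix x0 h.symm with h' | h'
      · exact hx0a h'
      · exact hx0b h'
    have h1a : g • x0 ≠ a := fun h => hx0a (MulAction.injective g (h.trans hga.symm))
    have h1b : g • x0 ≠ b := fun h => hx0b (MulAction.injective g (h.trans hgb.symm))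
    have h12 : g • x0 ≠ g • g • x0 := by
      intro h
      rcases gfix (g • x0) h.symm with h' | h'
      · exact h1a h'
      · exact h1b h'
    have h02 : x0 ≠ g • g • x0 := by
      intro h
      have h' : g • x0 = g • g • g • x0 := congrArg (g • ·) h
      rw [hcube] at h'
      exact h01 h'.symm
    exact ⟨gfix, h01, h02, h12, hcube⟩
  obtain ⟨gfix, hx01, hx02, hx12, hgc⟩ := cyc g hg1 hg3 hga hgb
  obtain ⟨hfix, hy01, hy02, hy12, hhc⟩ := cyc h hh1 hh3 hha hhb
  set x1 := g • x0 with hx1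
  set x2 := g • x1 with hx2
  set y1 := h • x0 with hy1
  set y2 := h • y1 with hy2
  obtain ⟨k, hk0, hk1, hk2⟩ := move3 x0 y1 y2 x0 x1 x2 hy01 hy02 hy12 hx01 hx02 hx12
  have hkh : k * h = g * k := by
    have e0 : (k * h) • x0 = (g * k) • x0 := by
      rw [mul_smul, mul_smul, hk0]; exact hk1
    have e1 : (k * h) • y1 = (g * k) • y1 := by
      rw [mul_smul, mul_smul, hk1]; exact hk2
    have e2 : (k * h) • y2 = (g * k) • y2 := by
      rw [mul_smul, mul_smul, hk2, hhc, hk0, hgc]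
    have := fix3 ((g * k)⁻¹ * (k * h)) x0 y1 y2 hy01 hy02 hy12
      (by rw [mul_smul, e0, inv_smul_smul]) (by rw [mul_smul, e1, inv_smul_smul])
      (by rw [mul_smul, e2, inv_smul_smul])
    exact (inv_mul_eq_one.mp this).symm
  have hka : g • (k • a) = k • a := by rw [← mul_smul, ← hkh, mul_smul, hha]
  have hkb : g • (k • b) = k • b := by rw [← mul_smul, ← hkh, mul_smul, hhb]
  rcases gfix _ hka with h1 | h1
  · have h2 : k • b = b := by
      rcases gfix _ hkb with h2 | h2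
      · exact absurd (MulAction.injective k (h1.trans h2.symm)) hab
      · exact h2
    have hk1' : k = 1 := fix3 k a b x0 hab (Ne.symm hx0a) (Ne.symm hx0b) h1 h2 hk0
    left
    rw [hk1', one_mul, mul_one] at hkh
    exact hkh
  · have h2 : k • b = a := by
      rcases gfix _ hkb with h2 | h2
      · exact h2
      · exact absurd (MulAction.injective k (h1.trans h2.symm)) hab
    right
    obtain ⟨k', hk'0, hk'2, hk'1⟩ := move3 x0 x2 x1 x0 x1 x2 hx02 hx01 (Ne.symm hx12) hx01 hx02 hx12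
    have hgi0 : g⁻¹ • x0 = x2 := inv_smul_eq_iff.mpr hgc.symm
    have hgi2 : g⁻¹ • x2 = x1 := inv_smul_eq_iff.mpr rfl
    have hgi1 : g⁻¹ • x1 = x0 := inv_smul_eq_iff.mpr rfl
    have hk'g : k' * g⁻¹ = g * k' := by
      have e0 : (k' * g⁻¹) • x0 = (g * k') • x0 := by
        rw [mul_smul, mul_smul, hgi0, hk'2, hk'0]
      have e2 : (k' * g⁻¹) • x2 = (g * k') • x2 := by
        rw [mul_smul, mul_smul, hgi2, hk'1, hk'2]
      have e1 : (k' * g⁻¹) • x1 = (g * k') • x1 := by
        rw [mul_smul, mul_smul, hgi1, hk'0, hk'1, hgc]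
      have := fix3 ((g * k')⁻¹ * (k' * g⁻¹)) x0 x1 x2 hx01 hx02 hx12
        (by rw [mul_smul, e0, inv_smul_smul]) (by rw [mul_smul, e1, inv_smul_smul])
        (by rw [mul_smul, e2, inv_smul_smul])
      exact (inv_mul_eq_one.mp this).symm
    have hgia : g⁻¹ • a = a := inv_smul_eq_iff.mpr hga.symm
    have hgib : g⁻¹ • b = b := inv_smul_eq_iff.mpr hgb.symm
    have hk'a : g • (k' • a) = k' • a := by rw [← mul_smul, ← hk'g, mul_smul, hgia]
    have hk'b : g • (k' • b) = k' • b := by rw [← mul_smul, ← hk'g, mul_smul, hgib]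
    have hk'ab : k' • a = b := by
      rcases gfix _ hk'a with h3' | h3'
      · exfalso
        have h4 : k' • b = b := by
          rcases gfix _ hk'b with h4 | h4
          · exact absurd (MulAction.injective k' (h3'.trans h4.symm)) hab
          · exact h4
        have h5 : k' = 1 := fix3 k' a b x0 hab (Ne.symm hx0a) (Ne.symm hx0b) h3' h4 hk'0
        rw [h5, one_smul] at hk'1
        exact hx12 hk'1
      · exact h3'
    have hk'ba : k' • b = a := by
      rcases gfix _ hk'b with h4 | h4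
      · exact h4
      · exact absurd (MulAction.injective k' (hk'ab.trans h4.symm)) hab
    have hkk' : k = k' := by
      have := fix3 (k⁻¹ * k') a b x0 hab (Ne.symm hx0a) (Ne.symm hx0b)
        (by rw [mul_smul, hk'ab, ← h1, inv_smul_smul])
        (by rw [mul_smul, hk'ba, ← h2, inv_smul_smul])
        (by rw [mul_smul, hk'0]; exact inv_smul_eq_iff.mpr hk0.symm)
      exact inv_mul_eq_one.mp this
    rw [← hkk'] at hk'g
    exact mul_left_cancel (hkh.trans hk'g.symm)

/-- In a sharply triply transitive group of even degree at least 6 (degree `q + 1`, `q` odd), a two-point stabiliser has at most one subgroup of order 3. -/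
theorem result {α : Type*} [Fintype α] [DecidableEq α] (heven : Even (Fintype.card α)) (h6 : 6 ≤ Fintype.card α) (G : Subgroup (Equiv.Perm α)) (h3 : MulAction.IsMultiplyPretransitive G α 3) (hsharp : ∀ x : Fin 3 ↪ α, MulAction.stabilizer G x = ⊥) {a b : α} (hab : a ≠ b) (A B : Subgroup G) (hA : A ≤ MulAction.stabilizer G a ⊓ MulAction.stabilizer G b) (hB : B ≤ MulAction.stabilizer G a ⊓ MulAction.stabilizer G b) (hA3 : Nat.card A = 3) (hB3 : Nat.card B = 3) : A = B := by
  have hAfin : Finite A := Nat.finite_of_card_ne_zero (by rw [hA3]; norm_num)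
  have hBfin : Finite B := Nat.finite_of_card_ne_zero (by rw [hB3]; norm_num)
  have hAne : A ≠ ⊥ := (Subgroup.one_lt_card_iff_ne_bot _).mp (by rw [hA3]; norm_num)
  have hBne : B ≠ ⊥ := (Subgroup.one_lt_card_iff_ne_bot _).mp (by rw [hB3]; norm_num)
  obtain ⟨⟨g, hgA⟩, hg1⟩ := Subgroup.ne_bot_iff_exists_ne_one.mp hAne
  obtain ⟨⟨h, hhB⟩, hh1⟩ := Subgroup.ne_bot_iff_exists_ne_one.mp hBne
  have hg1' : g ≠ 1 := fun h => hg1 (Subtype.ext h)
  have hh1' : h ≠ 1 := fun h' => hh1 (Subtype.ext h')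
  have hg3 : g ^ 3 = 1 := by
    have h' : (⟨g, hgA⟩ : A) ^ Nat.card A = 1 := pow_card_eq_one'
    rw [hA3] at h'
    exact congrArg Subtype.val h'
  have hh3 : h ^ 3 = 1 := by
    have h' : (⟨h, hhB⟩ : B) ^ Nat.card B = 1 := pow_card_eq_one'
    rw [hB3] at h'
    exact congrArg Subtype.val h'
  have hgs := hA hgA
  have hhs := hB hhB
  rw [Subgroup.mem_inf, MulAction.mem_stabilizer_iff, MulAction.mem_stabilizer_iff] at hgs hhs
  have hhA : h ∈ A := by
    rcases key h6 G h3 hsharp hab g h hg1' hh1' hg3 hh3 hgs.1 hgs.2 hhs.1 hhs.2 with h' | h'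
    · rw [h']; exact hgA
    · rw [h']; exact A.inv_mem hgA
  have hAB : A ⊓ B ≠ ⊥ := by
    intro hbot
    have : h ∈ A ⊓ B := ⟨hhA, hhB⟩
    rw [hbot] at this
    exact hh1' (Subgroup.mem_bot.mp this)
  have hcard : Nat.card ↥(A ⊓ B) = 3 := by
    have h1 : Nat.card ↥(A ⊓ B) ∣ 3 := hB3 ▸ Subgroup.card_dvd_of_le inf_le_right
    have hfin : Finite ↥(A ⊓ B) := Finite.of_injective (Subgroup.inclusion (inf_le_left : A ⊓ B ≤ A))
      (Subgroup.inclusion_injective _)
    have h2 : 1 < Nat.card ↥(A ⊓ B) := (Subgroup.one_lt_card_iff_ne_bot _).mpr hAB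
    rcases (Nat.dvd_prime Nat.prime_three).mp h1 with h3' | h3'
    · omega
    · exact h3'
  have e1 : A ⊓ B = A := Subgroup.eq_of_le_of_card_ge inf_le_left (by rw [hcard, hA3])
  have e2 : A ⊓ B = B := Subgroup.eq_of_le_of_card_ge inf_le_right (by rw [hcard, hB3])
  rw [← e1]; exact e2

end Cfsg.Agent.S0728
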