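import Mathlib
import Cfsg.Statements.S0729
import Cfsg.Agent.S0728
import Cfsg.Agent.Lib.helper16.Sharp3Odd
import Cfsg.Agent.Lib.helper16.Index2Main

set_option autoImplicit false
set_option linter.style.haveILetI false
open Cfsg

namespace Cfsg.Agent.S0729

/-- In a sharply triply transitive group of even degree at least 6, the two-point stabiliser `H = G_{a,b}` has a normal subgroup of index 2 that is normalised by the element `s` interchanging `a, b` and fixing a third point `c`. -/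
theorem result {α : Type*} [Fintype α] [DecidableEq α] (heven : Even (Fintype.card α)) (h6 : 6 ≤ Fintype.card α) (G : Subgroup (Equiv.Perm α)) (h3 : MulAction.IsMultiplyPretransitive G α 3) (hsharp : ∀ x : Fin 3 ↪ α, MulAction.stabilizer G x = ⊥) {a b c : α} (hab : a ≠ b) (hac : a ≠ c) (hbc : b ≠ c) (s : G) (hsa : s • a = b) (hsb : s • b = a) (hsc : s • c = c) : ∃ N : Subgroup G, N ≤ MulAction.stabilizer G a ⊓ MulAction.stabilizer G b ∧ (N.subgroupOf (MulAction.stabilizer G a ⊓ MulAction.stabilizer G b)).Normal ∧ N.relIndex (MulAction.stabilizer G a ⊓ MulAction.stabilizer G b) = 2 ∧ ∀ n ∈ N, s * n * s⁻¹ ∈ N := by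
  classical
  have inj3 : ∀ (p0 p1 p2 : α), p0 ≠ p1 → p0 ≠ p2 → p1 ≠ p2 →
      Function.Injective ![p0, p1, p2] := by
    intro p0 p1 p2 h01 h02 h12 i j hij
    fin_cases i <;> fin_cases j <;> simp_all
  have fix3 : ∀ (g : G) (p0 p1 p2 : α), p0 ≠ p1 → p0 ≠ p2 → p1 ≠ p2 →
      g • p0 = p0 → g • p1 = p1 → g • p2 = p2 → g = 1 := by
    intro g p0 p1 p2 h01 h02 h12 f0 f1 f2
    have hmem : g ∈ MulAction.stabilizer G
        (⟨![p0, p1, p2], inj3 p0 p1 p2 h01 h02 h12⟩ : Fin 3 ↪ α) := by
      rw [MulAction.mem_stabilizer_iff]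
      ext i
      fin_cases i
      · exact f0
      · exact f1
      · exact f2
    rw [hsharp] at hmem
    exact Subgroup.mem_bot.mp hmem
  have move3 : ∀ (p0 p1 p2 q0 q1 q2 : α), p0 ≠ p1 → p0 ≠ p2 → p1 ≠ p2 → q0 ≠ q1 → q0 ≠ q2 →
      q1 ≠ q2 → ∃ k : G, k • p0 = q0 ∧ k • p1 = q1 ∧ k • p2 = q2 := by
    intro p0 p1 p2 q0 q1 q2 hp01 hp02 hp12 hq01 hq02 hq12
    obtain ⟨k, hk⟩ := h3.exists_smul_eq ⟨![p0, p1, p2], inj3 p0 p1 p2 hp01 hp02 hp12⟩
      ⟨![q0, q1, q2], inj3 q0 q1 q2 hq01 hq02 hq12⟩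
    refine ⟨k, ?_, ?_, ?_⟩
    · exact congrArg (fun e : Fin 3 ↪ α => e 0) hk
    · exact congrArg (fun e : Fin 3 ↪ α => e 1) hk
    · exact congrArg (fun e : Fin 3 ↪ α => e 2) hk
  obtain ⟨nf, s', τ, hG, -⟩ :=
    Cfsg.Agent.Lib.helper16.exists_nearField_of_sharp3_gen (G := G) move3 fix3 (by omega) a
  letI := nf
  obtain ⟨p, j, hp, hj, hcardK, hadd, hchar⟩ :=
    Cfsg.Agent.Lib.helper15.NearField.finite_nearField (F := SubMulAction.ofStabilizer G a)
  obtain ⟨b', hb'⟩ : ∃ b' : SubMulAction.ofStabilizer G a, (b' : α) = b :=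
    ⟨⟨b, by rw [SubMulAction.mem_ofStabilizer_iff]; exact hab.symm⟩, rfl⟩
  have hHa : ∀ h : (MulAction.stabilizer G a ⊓ MulAction.stabilizer G b : Subgroup G),
      (h : G) • a = a := fun h => MulAction.mem_stabilizer_iff.mp (Subgroup.mem_inf.mp h.2).1
  have hHb : ∀ h : (MulAction.stabilizer G a ⊓ MulAction.stabilizer G b : Subgroup G),
      (h : G) • b = b := fun h => MulAction.mem_stabilizer_iff.mp (Subgroup.mem_inf.mp h.2).2
  obtain ⟨f, hf⟩ : ∃ f : (MulAction.stabilizer G a ⊓ MulAction.stabilizer G b : Subgroup G) →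
      SubMulAction.ofStabilizer G a → SubMulAction.ofStabilizer G a,
      ∀ h u, f h u = (⟨(h : G), (Subgroup.mem_inf.mp h.2).1⟩ : MulAction.stabilizer G a) •
        (u + b') - b' := ⟨_, fun _ _ => rfl⟩
  have hfval : ∀ h u, ((f h u + b' : SubMulAction.ofStabilizer G a) : α)
      = (h : G) • ((u + b' : SubMulAction.ofStabilizer G a) : α) := by
    intro h u
    rw [hf, sub_add_cancel]
    rfl
  have hfext : ∀ (x y : SubMulAction.ofStabilizer G a),
      ((x + b' : SubMulAction.ofStabilizer G a) : α) = ((y + b' : SubMulAction.ofStabilizer G a) : α)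
      → x = y := by
    intro x y hxy
    exact add_right_cancel (Subtype.ext hxy)
  have hfadd : ∀ h u v, f h (u + v) = f h u + f h v := by
    intro h u v
    obtain ⟨m, c, hm, hmc⟩ := hG ⟨(h : G), (Subgroup.mem_inf.mp h.2).1⟩
    have hb1 : b' * m + c = b' := by
      rw [← hmc b']
      apply Subtype.ext
      show (h : G) • (b' : α) = b'
      rw [hb', hHb]
    have key : ∀ w, f h w = w * m := by
      intro w
      rw [hf, hmc, Cfsg.Agent.Lib.helper15.NearField.nf_right_distrib, add_assoc, hb1,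
        add_sub_cancel_right]
    rw [key, key, key, Cfsg.Agent.Lib.helper15.NearField.nf_right_distrib]
  have hf1 : ∀ u, f 1 u = u := by
    intro u
    apply hfext
    rw [hfval]
    exact one_smul _ _
  have hfmul : ∀ h h' u, f (h * h') u = f h (f h' u) := by
    intro h h' u
    apply hfext
    rw [hfval, hfval, hfval]
    exact mul_smul _ _ _
  have hfree : ∀ h u, u ≠ 0 → f h u = u → h = 1 := by
    intro h u hu hfu
    have h1 : (h : G) • ((u + b' : SubMulAction.ofStabilizer G a) : α)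
        = ((u + b' : SubMulAction.ofStabilizer G a) : α) := by
      rw [← hfval, hfu]
    have hxa : a ≠ ((u + b' : SubMulAction.ofStabilizer G a) : α) :=
      fun e => (u + b').2 e.symm
    have hxb : b ≠ ((u + b' : SubMulAction.ofStabilizer G a) : α) := by
      intro e
      apply hu
      have h2 : u + b' = b' := Subtype.ext (by rw [← e, hb'])
      exact add_eq_right.mp h2
    exact Subtype.ext (fix3 (h : G) a b _ hab hxa hxb (hHa h) (hHb h) h1)
  have htrans : ∀ u v : SubMulAction.ofStabilizer G a, u ≠ 0 → v ≠ 0 → ∃ h, f h u = v := by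
    intro u v hu hv
    have hxa : ∀ w : SubMulAction.ofStabilizer G a,
        a ≠ ((w + b' : SubMulAction.ofStabilizer G a) : α) := fun w e => (w + b').2 e.symm
    have hxb : ∀ w : SubMulAction.ofStabilizer G a, w ≠ 0 →
        b ≠ ((w + b' : SubMulAction.ofStabilizer G a) : α) := by
      intro w hw e
      apply hw
      have h2 : w + b' = b' := Subtype.ext (by rw [← e, hb'])
      exact add_eq_right.mp h2
    obtain ⟨k, hka, hkb, hkx⟩ := move3 a b _ a b _ hab (hxa u) (hxb u hu) hab (hxa v) (hxb v hv)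
    refine ⟨⟨k, Subgroup.mem_inf.mpr ⟨MulAction.mem_stabilizer_iff.mpr hka,
      MulAction.mem_stabilizer_iff.mpr hkb⟩⟩, ?_⟩
    apply hfext
    rw [hfval]
    exact hkx
  -- conjugation by `s`
  have hsinv_a : s⁻¹ • a = b := by rw [inv_smul_eq_iff]; exact hsb.symm
  have hsinv_b : s⁻¹ • b = a := by rw [inv_smul_eq_iff]; exact hsa.symm
  have hconj_mem : ∀ h : (MulAction.stabilizer G a ⊓ MulAction.stabilizer G b : Subgroup G),
      s * (h : G) * s⁻¹ ∈ MulAction.stabilizer G a ⊓ MulAction.stabilizer G b := by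
    intro h
    refine Subgroup.mem_inf.mpr ⟨MulAction.mem_stabilizer_iff.mpr ?_,
      MulAction.mem_stabilizer_iff.mpr ?_⟩
    · rw [mul_smul, mul_smul, hsinv_a, hHb, hsb]
    · rw [mul_smul, mul_smul, hsinv_b, hHa, hsa]
  have hconj_mem' : ∀ h : (MulAction.stabilizer G a ⊓ MulAction.stabilizer G b : Subgroup G),
      s⁻¹ * (h : G) * s ∈ MulAction.stabilizer G a ⊓ MulAction.stabilizer G b := by
    intro h
    refine Subgroup.mem_inf.mpr ⟨MulAction.mem_stabilizer_iff.mpr ?_,
      MulAction.mem_stabilizer_iff.mpr ?_⟩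
    · rw [mul_smul, mul_smul, hsa, hHb, hsinv_b]
    · rw [mul_smul, mul_smul, hsb, hHa, hsinv_a]
  let σ : (MulAction.stabilizer G a ⊓ MulAction.stabilizer G b : Subgroup G) ≃*
      (MulAction.stabilizer G a ⊓ MulAction.stabilizer G b : Subgroup G) :=
    { toFun := fun h => ⟨s * (h : G) * s⁻¹, hconj_mem h⟩
      invFun := fun h => ⟨s⁻¹ * (h : G) * s, hconj_mem' h⟩
      left_inv := fun h => Subtype.ext (by
        show s⁻¹ * (s * (h : G) * s⁻¹) * s = h
        group)
      right_inv := fun h => Subtype.ext (by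
        show s * (s⁻¹ * (h : G) * s) * s⁻¹ = h
        group)
      map_mul' := fun h h' => Subtype.ext (by
        show s * ((h : G) * (h' : G)) * s⁻¹ = (s * (h : G) * s⁻¹) * (s * (h' : G) * s⁻¹)
        group) }
  have hσval : ∀ h, ((σ h : (MulAction.stabilizer G a ⊓ MulAction.stabilizer G b : Subgroup G)) : G)
      = s * (h : G) * s⁻¹ := fun h => rfl
  have hs2 : s * s = 1 := fix3 (s * s) a b c hab hac hbc (by rw [mul_smul, hsa, hsb])
    (by rw [mul_smul, hsb, hsa]) (by rw [mul_smul, hsc, hsc])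
  have hsi : s⁻¹ = s := inv_eq_of_mul_eq_one_left hs2
  have hσ : ∀ h, σ (σ h) = h := by
    intro h
    apply Subtype.ext
    rw [hσval, hσval, hsi]
    have h1 : s * (s * (h : G) * s) * s = (s * s) * (h : G) * (s * s) := by group
    rw [h1, hs2, one_mul, mul_one]
  have hfix : ∀ h₁ h₂ : (MulAction.stabilizer G a ⊓ MulAction.stabilizer G b : Subgroup G),
      σ h₁ = h₁ → σ h₂ = h₂ → h₁ ≠ 1 → h₂ ≠ 1 → h₁ = h₂ := by
    have hcfix : ∀ h : (MulAction.stabilizer G a ⊓ MulAction.stabilizer G b : Subgroup G),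
        σ h = h → s • ((h : G) • c) = (h : G) • c := by
      intro h hh
      have h1 : s * (h : G) * s⁻¹ = h := congrArg Subtype.val hh
      have h2 : s * (h : G) = (h : G) * s := mul_inv_eq_iff_eq_mul.mp h1
      rw [← mul_smul, h2, mul_smul, hsc]
    have hcne : ∀ h : (MulAction.stabilizer G a ⊓ MulAction.stabilizer G b : Subgroup G),
        h ≠ 1 → (h : G) • c ≠ c := by
      intro h h1 hc
      exact h1 (Subtype.ext (fix3 (h : G) a b c hab hac hbc (hHa h) (hHb h) hc))
    intro h₁ h₂ e₁ e₂ n₁ n₂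
    have hs1 : s ≠ 1 := by
      intro h
      rw [h, one_smul] at hsa
      exact hab hsa
    have heq : (h₁ : G) • c = (h₂ : G) • c := by
      by_contra hne
      exact hs1 (fix3 s c ((h₁ : G) • c) ((h₂ : G) • c) (hcne h₁ n₁).symm (hcne h₂ n₂).symm hne
        hsc (hcfix h₁ e₁) (hcfix h₂ e₂))
    have h3' : (h₁ : G)⁻¹ * (h₂ : G) = 1 := fix3 _ a b c hab hac hbc
      (by rw [mul_smul, hHa, inv_smul_eq_iff, hHa]) (by rw [mul_smul, hHb, inv_smul_eq_iff, hHb])
      (by rw [mul_smul, ← heq, inv_smul_smul])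
    exact Subtype.ext (inv_mul_eq_one.mp h3')
  have hF2 : ∀ g h : (MulAction.stabilizer G a ⊓ MulAction.stabilizer G b : Subgroup G),
      g ≠ 1 → h ≠ 1 → g ^ 3 = 1 → h ^ 3 = 1 → h = g ∨ h = g⁻¹ := by
    intro g h hg1 hh1 hg3 hh3
    rcases Cfsg.Agent.S0728.key h6 G h3 hsharp hab (g : G) (h : G)
      (fun e => hg1 (Subtype.ext e)) (fun e => hh1 (Subtype.ext e))
      (by have := congrArg Subtype.val hg3; simpa using this)
      (by have := congrArg Subtype.val hh3; simpa using this)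
      (hHa g) (hHb g) (hHa h) (hHb h) with e | e
    · left; exact Subtype.ext e
    · right; exact Subtype.ext e
  -- cardinality
  have hcK : Nat.card (SubMulAction.ofStabilizer G a) + 1 = Fintype.card α := by
    have h := SubMulAction.nat_card_ofStabilizer_add_one_eq G a
    rw [Nat.card_eq_fintype_card (α := α)] at h
    exact h
  have hodd : Odd (Nat.card (SubMulAction.ofStabilizer G a)) := by
    obtain ⟨m, hm⟩ := heven
    exact ⟨m - 1, by omega⟩
  have h3K : 3 ≤ Nat.card (SubMulAction.ofStabilizer G a) := by omega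
  letI : AddCommGroup (SubMulAction.ofStabilizer G a) :=
    { (inferInstance : AddGroup (SubMulAction.ofStabilizer G a)) with add_comm := hadd }
  let ρ : (MulAction.stabilizer G a ⊓ MulAction.stabilizer G b : Subgroup G) →*
      AddMonoid.End (SubMulAction.ofStabilizer G a) :=
    { toFun := fun h => AddMonoidHom.mk' (f h) (hfadd h)
      map_one' := AddMonoidHom.ext fun u => hf1 u
      map_mul' := fun h h' => AddMonoidHom.ext fun u => hfmul h h' u }
  obtain ⟨N, hN2, hNσ⟩ := Cfsg.Agent.Lib.helper16.Index2Main.exists_index_two ρ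
    (fun h u hu hfu => hfree h u hu hfu) (fun u v hu hv => htrans u v hu hv) hodd h3K σ hσ hfix hF2
  have hsub : (N.map (Subgroup.subtype _)).subgroupOf
      (MulAction.stabilizer G a ⊓ MulAction.stabilizer G b) = N :=
    Subgroup.comap_map_eq_self_of_injective (Subgroup.subtype_injective _) N
  refine ⟨N.map (Subgroup.subtype _), Subgroup.map_subtype_le N, ?_, ?_, ?_⟩
  · rw [hsub]
    exact Subgroup.normal_of_index_eq_two hN2
  · rw [Subgroup.relIndex, hsub]
    exact hN2
  · rintro _ ⟨n, hn, rfl⟩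
    exact ⟨σ n, hNσ n hn, rfl⟩

end Cfsg.Agent.S0729
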