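import Mathlib
import Cfsg.Statements.S0732
import Cfsg.Agent.S0727
import Cfsg.Agent.S0730
import Cfsg.Agent.Lib.helper16.PGLCongr
import Cfsg.Agent.Lib.helper16.PP1Zass
-- import your own Cfsg.Agent.* helpers here

set_option autoImplicit false
open Cfsg

namespace Cfsg.Agent.S0732

/-- A transitive permutation group on `p + 1` points (`p` prime) of order `(p+1) p d` with `d < p` is isomorphic to `PGL(2,p)` with `d = p - 1`, or to `PSL(2,p)` with `2d = p - 1`, or else `p + 1 = 2^q` for a prime `q`, `d = 1` or `d = q`, and the group is permutation-isomorphic to a group of semi-affine maps `x ↦ a φ(x) + b` of the field with `2^q` elements. -/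
theorem result {α : Type*} [Fintype α] [DecidableEq α] {p d : ℕ} (hp : p.Prime) (hα : Fintype.card α = p + 1) (G : Subgroup (Equiv.Perm α)) [MulAction.IsPretransitive G α] (hG : Nat.card G = (p + 1) * p * d) (hd : d < p) : (d = p - 1 ∧ Nonempty (G ≃* Matrix.ProjGenLinGroup (Fin 2) (ZMod p))) ∨ (2 * d = p - 1 ∧ Nonempty (G ≃* Matrix.ProjectiveSpecialLinearGroup (Fin 2) (ZMod p))) ∨ (∃ q : ℕ, q.Prime ∧ p + 1 = 2 ^ q ∧ (d = 1 ∨ d = q) ∧ ∃ e : α ≃ GaloisField 2 q, ∀ g : G, (e.symm.trans (((g : Equiv.Perm α)).trans e)) ∈ Cfsg.semiaffineGroup (GaloisField 2 q)) := by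
  classical
  haveI : Fact p.Prime := ⟨hp⟩
  haveI hfaith : FaithfulSMul G α :=
    ⟨fun {g h} hgh => Subtype.ext (Equiv.ext (fun x => hgh x))⟩
  rcases Cfsg.Agent.Lib.helper16.PP1.pp1_main (G := G) (Ω := α) hp hα hG hd with
    ⟨hd1, h3, hsharp⟩ | ⟨hd2, K, fK, ftK, hcK, ⟨iso⟩⟩ | ⟨q, hq, hpq, hdq, e, hsemi⟩
  · left
    refine ⟨hd1, ?_⟩
    rcases hp.eq_two_or_odd' with hp2 | hpodd
    · subst hp2
      obtain ⟨F, fF, ftF, hcF, ⟨iso⟩⟩ := Cfsg.Agent.S0727.result (f := 1) (le_refl 1)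
        (by rw [hα]; norm_num) G h3 hsharp
      have hc : Fintype.card F = Fintype.card (ZMod 2) := by
        rw [hcF, ZMod.card]; norm_num
      obtain ⟨iso2⟩ := Cfsg.Agent.Lib.helper16.nonempty_pglCongr_of_card_eq (n := Fin 2) hc
      exact ⟨iso.trans iso2⟩
    · have hp2 : p ≠ 2 := by
        intro h
        rw [h] at hpodd
        exact absurd hpodd (by decide)
      obtain ⟨F, fF, ftF, hcF, ⟨iso⟩⟩ := Cfsg.Agent.S0730.result (f := 1) hp hp2 odd_one
        (by rw [hα, pow_one]) G h3 hsharp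
      have hc : Fintype.card F = Fintype.card (ZMod p) := by
        rw [hcF, ZMod.card, pow_one]
      obtain ⟨iso2⟩ := Cfsg.Agent.Lib.helper16.nonempty_pglCongr_of_card_eq (n := Fin 2) hc
      exact ⟨iso.trans iso2⟩
  · right; left
    refine ⟨hd2, ?_⟩
    have hc : Fintype.card K = Fintype.card (ZMod p) := by
      rw [hcK, ZMod.card]
    obtain ⟨iso2⟩ := Cfsg.Agent.Lib.helper18.nonempty_pslCongr_of_card_eq (n := Fin 2) hc
    exact ⟨iso.trans iso2⟩
  · right; right
    refine ⟨q, hq, hpq, hdq, e, fun g => ?_⟩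
    obtain ⟨s, β, φ, h⟩ := hsemi g
    refine ⟨s, β, φ, fun x => ?_⟩
    have h1 := h (e.symm x)
    rw [Equiv.apply_symm_apply] at h1
    rw [← h1]
    rfl

end Cfsg.Agent.S0732
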