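import Cfsg.Statements.S0948
import Cfsg.Agent.Lib.helper4.KleinFour

set_option autoImplicit false
open Cfsg

namespace Cfsg.Agent.S0948

/-- Let the finite group G have a Sylow 2-subgroup P that is a Klein four-group, suppose all involutions of G are conjugate, and fix a maximal ideal M of the algebraic integers containing 2. Then the principal block consists of exactly four irreducible characters, the principal character and ζ₂, ζ₃, ζ₄, and there is a sign ε such that for every involution z: ζ₂ z = 1, ζ₃ z = ε, ζ₄ z = -1; moreover ζ₂ 1 ≡ 1, ζ₃ 1 ≡ ε, ζ₄ 1 ≡ -1 (mod 4), and 1 + ζ₂ y + ε ζ₃ y - ζ₄ y = 0 for every y of odd order. -/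
theorem result {G : Type*} [Group G] [Finite G] (M : Ideal Cfsg.AlgInt) (hM : Cfsg.IsPModular 2 M) (P : Sylow 2 G) (hP : IsKleinFour (P : Subgroup G)) (hone : ∀ s t : G, orderOf s = 2 → orderOf t = 2 → IsConj s t) : ∃ ζ₂ ζ₃ ζ₄ : Cfsg.IrrCharacter G, ∃ ε : ℤ, (ε = 1 ∨ ε = -1) ∧ (ζ₂ : G → ℂ) ≠ (fun _ => 1) ∧ (ζ₃ : G → ℂ) ≠ (fun _ => 1) ∧ ζ₂ ≠ ζ₃ ∧ ζ₂ ≠ ζ₄ ∧ ζ₃ ≠ ζ₄ ∧ Cfsg.principalBlock M G = {χ : Cfsg.IrrCharacter G | (χ : G → ℂ) = (fun _ => 1) ∨ χ = ζ₂ ∨ χ = ζ₃ ∨ χ = ζ₄} ∧ (∀ z : G, orderOf z = 2 → (ζ₂ : G → ℂ) z = 1 ∧ (ζ₃ : G → ℂ) z = (ε : ℂ) ∧ (ζ₄ : G → ℂ) z = -1) ∧ (4 : ℤ) ∣ (Cfsg.charDegree (ζ₂ : G → ℂ) : ℤ) - 1 ∧ (4 : ℤ) ∣ (Cfsg.charDegree (ζ₃ : G → ℂ) : ℤ) - ε ∧ (4 : ℤ) ∣ (Cfsg.charDegree (ζ₄ : G → ℂ) : ℤ) + 1 ∧ ∀ y : G, Odd (orderOf y) → 1 + (ζ₂ : G → ℂ) y + (ε : ℂ) * (ζ₃ : G → ℂ) y - (ζ₄ : G → ℂ) y = 0 := by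
  classical
  haveI : Fact (Nat.Prime 2) := ⟨Nat.prime_two⟩
  have := Fintype.ofFinite G
  have hMp := Cfsg.Agent.Lib.helper20.isPrime_of_isPModular hM
  -- an involution of `P`
  have hP4 : Nat.card (P : Subgroup G) = 4 := hP.card_four
  obtain ⟨z, hzP, hz1⟩ : ∃ z ∈ (P : Subgroup G), z ≠ 1 := by
    by_contra hcon
    push_neg at hcon
    have hbot : (P : Subgroup G) = ⊥ := (Subgroup.eq_bot_iff_forall _).mpr hcon
    rw [hbot, Subgroup.card_bot] at hP4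
    omega
  have hz2 : orderOf z = 2 :=
    orderOf_eq_prime (by rw [pow_two]; exact Cfsg.Agent.Lib.helper4.klein_mul_self _ hP z hzP) hz1
  obtain ⟨-, -, hodd⟩ := Cfsg.Agent.Lib.helper4.klein_centralizer_facts P hP z hzP hz1
  have hsum := Cfsg.Agent.Lib.helper4.sum_principalBlock_involution hM P hP z hzP hz1
  -- integer values at `z`
  choose n hn _hn2 using fun ζ : Cfsg.IrrCharacter G => Cfsg.Agent.S0944.result ζ z hz2
  set triv : Cfsg.IrrCharacter G := Cfsg.Agent.Lib.helper81.trivChar G with htriv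
  have htrivB : triv ∈ Cfsg.principalBlock M G :=
    Cfsg.Agent.Lib.helper81.trivChar_mem_principalBlock hMp
  have hntriv : n triv = 1 := by
    have h := hn triv
    rw [htriv, Cfsg.Agent.Lib.helper81.trivChar_apply] at h
    exact_mod_cast h.symm
  -- nonvanishing on the principal block
  have hn0 : ∀ ζ ∈ Cfsg.principalBlock M G, n ζ ≠ 0 := by
    intro ζ hζ h0
    have h1 := Cfsg.Agent.Lib.helper81.mem_principalBlock_iff.mp hζ z
    have h2 : Cfsg.centralChar (ζ : G → ℂ) z = 0 := by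
      unfold Cfsg.centralChar
      rw [hn ζ, h0]
      simp
    rw [h2, sub_zero] at h1
    exact Cfsg.Agent.Lib.helper4.not_memLocalIdeal_natCast hMp hM.2.2
      ((Nat.Prime.coprime_iff_not_dvd Nat.prime_two).mpr hodd).symm h1
  -- the sum of squares
  obtain ⟨S, hS⟩ : ∃ S : Finset (Cfsg.IrrCharacter G), S = Finset.univ.filter
      (fun ζ => ζ ∈ Cfsg.principalBlock M G) := ⟨_, rfl⟩
  have hmemS : ∀ ζ, ζ ∈ S ↔ ζ ∈ Cfsg.principalBlock M G := by
    intro ζ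
    rw [hS, Finset.mem_filter]
    exact ⟨fun h => h.2, fun h => ⟨Finset.mem_univ _, h⟩⟩
  have hsumZ : ∑ ζ ∈ S, (n ζ) ^ 2 = 4 := by
    have h1 : ((∑ ζ ∈ S, (n ζ) ^ 2 : ℤ) : ℂ) = 4 := by
      rw [← hsum, hS, Finset.sum_filter]
      push_cast
      apply Finset.sum_congr rfl
      intro ζ _
      split_ifs
      · rw [hn ζ, map_intCast]
        ring
      · rfl
    exact_mod_cast h1
  have htrivS : triv ∈ S := (hmemS triv).mpr htrivB
  have hsq1 : ∀ ζ ∈ S, (n ζ) ^ 2 = 1 := by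
    intro ζ hζ
    by_contra hne
    have h0 := hn0 ζ ((hmemS ζ).mp hζ)
    have h4 : 4 ≤ (n ζ) ^ 2 := by
      have ha : 2 ≤ |n ζ| := by
        by_contra hlt
        have h1 : |n ζ| = 1 := by
          have := abs_pos.mpr h0
          omega
        apply hne
        rw [← sq_abs, h1]
        norm_num
      have := pow_le_pow_left₀ (by norm_num : (0 : ℤ) ≤ 2) ha 2
      rw [sq_abs] at this
      linarith
    have hζt : ζ ≠ triv := by
      intro h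
      apply hne
      rw [h, hntriv]
      norm_num
    have h5 : triv ∈ S.erase ζ := Finset.mem_erase.mpr ⟨fun h => hζt h.symm, htrivS⟩
    have h6 := Finset.add_sum_erase S (fun ζ => (n ζ) ^ 2) hζ
    have h7 : (n triv) ^ 2 ≤ ∑ x ∈ S.erase ζ, (n x) ^ 2 :=
      Finset.single_le_sum (f := fun x => (n x) ^ 2) (fun i _ => sq_nonneg _) h5
    rw [hntriv] at h7
    have h6' : (n ζ) ^ 2 + ∑ x ∈ S.erase ζ, (n x) ^ 2 = ∑ x ∈ S, (n x) ^ 2 := h6
    linarith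
  have hcardS : S.card = 4 := by
    have h1 : ∑ ζ ∈ S, (n ζ) ^ 2 = ∑ _ζ ∈ S, (1 : ℤ) := Finset.sum_congr rfl hsq1
    rw [hsumZ, Finset.sum_const, nsmul_eq_mul, mul_one] at h1
    exact_mod_cast h1.symm
  have hcardT : (S.erase triv).card = 3 := by
    rw [Finset.card_erase_of_mem htrivS, hcardS]
  obtain ⟨a, b, c, hab, hac, hbc, hT⟩ := Finset.card_eq_three.mp hcardT
  have hmemT : ∀ ζ, ζ ∈ Cfsg.principalBlock M G ↔ ζ = triv ∨ ζ = a ∨ ζ = b ∨ ζ = c := by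
    intro ζ
    rw [← hmemS]
    by_cases h : ζ = triv
    · simp [h, htrivS]
    · have h1 : ζ ∈ S ↔ ζ ∈ S.erase triv := by
        rw [Finset.mem_erase]
        exact ⟨fun hx => ⟨h, hx⟩, fun hx => hx.2⟩
      rw [h1, hT]
      simp [h]
  have haB : a ∈ Cfsg.principalBlock M G := (hmemT a).mpr (Or.inr (Or.inl rfl))
  have hbB : b ∈ Cfsg.principalBlock M G := (hmemT b).mpr (Or.inr (Or.inr (Or.inl rfl)))
  have hcB : c ∈ Cfsg.principalBlock M G := (hmemT c).mpr (Or.inr (Or.inr (Or.inr rfl)))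
  have hat : a ≠ triv := by
    have : a ∈ S.erase triv := by rw [hT]; simp
    exact (Finset.mem_erase.mp this).1
  have hbt : b ≠ triv := by
    have : b ∈ S.erase triv := by rw [hT]; simp
    exact (Finset.mem_erase.mp this).1
  have hct : c ≠ triv := by
    have : c ∈ S.erase triv := by rw [hT]; simp
    exact (Finset.mem_erase.mp this).1
  have hsign : ∀ ζ ∈ Cfsg.principalBlock M G, n ζ = 1 ∨ n ζ = -1 := by
    intro ζ hζ
    have h := hsq1 ζ ((hmemS ζ).mpr hζ)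
    have h2 : (n ζ - 1) * (n ζ + 1) = 0 := by ring_nf; rw [h]; ring
    rcases mul_eq_zero.mp h2 with h3 | h3
    · left; omega
    · right; omega
  -- weak block orthogonality against the involution
  have hwbo : ∀ (a' b' c' : Cfsg.IrrCharacter G), a' ≠ triv → b' ≠ triv → c' ≠ triv →
      a' ≠ b' → a' ≠ c' → b' ≠ c' →
      (∀ ζ, ζ ∈ Cfsg.principalBlock M G ↔ ζ = triv ∨ ζ = a' ∨ ζ = b' ∨ ζ = c') →
      ∀ y : G, ¬ 2 ∣ orderOf y →
      1 + (a' : G → ℂ) y * (n a' : ℂ) + (b' : G → ℂ) y * (n b' : ℂ) +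
        (c' : G → ℂ) y * (n c' : ℂ) = 0 := by
    intro a' b' c' hat' hbt' hct' hab' hac' hbc' hmem y hy
    have h1 := Cfsg.Agent.Lib.helper81.wbo hM
      (fun g => Cfsg.Agent.Lib.helper81.memLocalRing_blockCoeff hMp
        (Cfsg.Agent.Lib.helper81.isPBlock_principalBlock (M := M) (G := G)) g)
      hy (hz2 ▸ dvd_rfl : 2 ∣ orderOf z)
    have h2 : ∀ ζ : Cfsg.IrrCharacter G, (if ζ ∈ Cfsg.principalBlock M G then
        (ζ : G → ℂ) y * (starRingEnd ℂ) ((ζ : G → ℂ) z) else 0) =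
        if ζ ∈ ({triv, a', b', c'} : Finset (Cfsg.IrrCharacter G)) then
          (ζ : G → ℂ) y * (n ζ : ℂ) else 0 := by
      intro ζ
      have hiff : ζ ∈ Cfsg.principalBlock M G ↔
          ζ ∈ ({triv, a', b', c'} : Finset (Cfsg.IrrCharacter G)) := by
        rw [hmem ζ]
        simp
      by_cases h : ζ ∈ Cfsg.principalBlock M G
      · rw [if_pos h, if_pos (hiff.mp h), hn ζ, map_intCast]
      · rw [if_neg h, if_neg (fun h' => h (hiff.mpr h'))]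
    rw [Finset.sum_congr rfl (fun ζ _ => h2 ζ), Finset.sum_ite_mem, Finset.univ_inter,
      Finset.sum_insert (by
        simp only [Finset.mem_insert, Finset.mem_singleton, not_or]
        exact ⟨fun h => hat' h.symm, fun h => hbt' h.symm, fun h => hct' h.symm⟩),
      Finset.sum_insert (by
        simp only [Finset.mem_insert, Finset.mem_singleton, not_or]
        exact ⟨hab', hac'⟩),
      Finset.sum_insert (by
        simp only [Finset.mem_singleton]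
        exact hbc'),
      Finset.sum_singleton, hntriv, htriv, Cfsg.Agent.Lib.helper81.trivChar_apply] at h1
    rw [← h1]
    push_cast
    ring
  -- the assembly
  have key : ∀ (a' b' c' : Cfsg.IrrCharacter G) (ε : ℤ), (ε = 1 ∨ ε = -1) →
      a' ≠ triv → b' ≠ triv → c' ≠ triv → a' ≠ b' → a' ≠ c' → b' ≠ c' →
      (∀ ζ, ζ ∈ Cfsg.principalBlock M G ↔ ζ = triv ∨ ζ = a' ∨ ζ = b' ∨ ζ = c') →
      n a' = 1 → n b' = ε → n c' = -1 →
      ∃ ζ₂ ζ₃ ζ₄ : Cfsg.IrrCharacter G, ∃ ε : ℤ, (ε = 1 ∨ ε = -1) ∧ (ζ₂ : G → ℂ) ≠ (fun _ => 1) ∧ (ζ₃ : G → ℂ) ≠ (fun _ => 1) ∧ ζ₂ ≠ ζ₃ ∧ ζ₂ ≠ ζ₄ ∧ ζ₃ ≠ ζ₄ ∧ Cfsg.principalBlock M G = {χ : Cfsg.IrrCharacter G | (χ : G → ℂ) = (fun _ => 1) ∨ χ = ζ₂ ∨ χ = ζ₃ ∨ χ = ζ₄} ∧ (∀ z : G, orderOf z = 2 → (ζ₂ : G → ℂ) z = 1 ∧ (ζ₃ : G → ℂ) z = (ε : ℂ) ∧ (ζ₄ : G → ℂ) z = -1) ∧ (4 : ℤ) ∣ (Cfsg.charDegree (ζ₂ : G → ℂ) : ℤ) - 1 ∧ (4 : ℤ) ∣ (Cfsg.charDegree (ζ₃ : G → ℂ) : ℤ) - ε ∧ (4 :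 ℤ) ∣ (Cfsg.charDegree (ζ₄ : G → ℂ) : ℤ) + 1 ∧ ∀ y : G, Odd (orderOf y) → 1 + (ζ₂ : G → ℂ) y + (ε : ℂ) * (ζ₃ : G → ℂ) y - (ζ₄ : G → ℂ) y = 0 := by
    intro a' b' c' ε hε hat' hbt' hct' hab' hac' hbc' hmem hna hnb hnc
    have hfun : ∀ ζ : Cfsg.IrrCharacter G, ζ ≠ triv → (ζ : G → ℂ) ≠ (fun _ => 1) := by
      intro ζ hζ h
      apply hζ
      exact Subtype.ext h
    have hval : ∀ (ζ : Cfsg.IrrCharacter G) (t : G), orderOf t = 2 →
        (ζ : G → ℂ) t = (n ζ : ℂ) := by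
      intro ζ t ht
      rw [← hn ζ]
      exact Cfsg.Agent.Lib.helper20.isIrrCharacter_conj ζ.2 t z (hone t z ht hz2)
    have hdeg : ∀ ζ : Cfsg.IrrCharacter G, (4 : ℤ) ∣ (Cfsg.charDegree (ζ : G → ℂ) : ℤ) - n ζ :=
      fun ζ => Cfsg.Agent.Lib.helper4.four_dvd_degree_sub P hP hone ζ z hz2 (n ζ) (hn ζ)
    refine ⟨a', b', c', ε, hε, hfun a' hat', hfun b' hbt', hab', hac', hbc', ?_, ?_, ?_, ?_, ?_, ?_⟩
    · ext ζ
      rw [hmem ζ, Set.mem_ofPred_eq]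
      constructor
      · rintro (h | h | h | h)
        · left; rw [h]; rfl
        · right; left; exact h
        · right; right; left; exact h
        · right; right; right; exact h
      · rintro (h | h | h | h)
        · left; exact Subtype.ext h
        · right; left; exact h
        · right; right; left; exact h
        · right; right; right; exact h
    · intro t ht
      refine ⟨?_, ?_, ?_⟩
      · rw [hval a' t ht, hna]; norm_num
      · rw [hval b' t ht, hnb]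
      · rw [hval c' t ht, hnc]; norm_num
    · have := hdeg a'; rwa [hna] at this
    · have := hdeg b'; rwa [hnb] at this
    · have := hdeg c'; rw [hnc] at this
      have e : (Cfsg.charDegree (c' : G → ℂ) : ℤ) + 1 = (Cfsg.charDegree (c' : G → ℂ) : ℤ) - -1 := by
        ring
      rw [e]; exact this
    · intro y hy
      have h := hwbo a' b' c' hat' hbt' hct' hab' hac' hbc' hmem y
        (fun h2 => (Nat.not_even_iff_odd.mpr hy) (even_iff_two_dvd.mpr h2))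
      rw [hna, hnb, hnc] at h
      rw [← h]
      push_cast
      ring
  -- the sign pattern
  have hdegpos : ∀ ζ : Cfsg.IrrCharacter G, 0 < (Cfsg.charDegree (ζ : G → ℂ) : ℤ) := fun ζ => by
    exact_mod_cast Cfsg.Agent.Lib.helper81.irr_charDegree_pos ζ
  have hrel : 1 + (Cfsg.charDegree (a : G → ℂ) : ℤ) * n a + (Cfsg.charDegree (b : G → ℂ) : ℤ) * n b
      + (Cfsg.charDegree (c : G → ℂ) : ℤ) * n c = 0 := by
    have h := hwbo a b c hat hbt hct hab hac hbc hmemT 1 (by rw [orderOf_one]; norm_num)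
    rw [Cfsg.Agent.Lib.helper81.irr_one_eq_charDegree, Cfsg.Agent.Lib.helper81.irr_one_eq_charDegree,
      Cfsg.Agent.Lib.helper81.irr_one_eq_charDegree] at h
    exact_mod_cast h
  have hda := hdegpos a
  have hdb := hdegpos b
  have hdc := hdegpos c
  have perm1 : ∀ ζ, ζ ∈ Cfsg.principalBlock M G ↔ ζ = triv ∨ ζ = a ∨ ζ = c ∨ ζ = b := by
    intro ζ; rw [hmemT ζ]; tauto
  have perm2 : ∀ ζ, ζ ∈ Cfsg.principalBlock M G ↔ ζ = triv ∨ ζ = b ∨ ζ = c ∨ ζ = a := by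
    intro ζ; rw [hmemT ζ]; tauto
  have perm3 : ∀ ζ, ζ ∈ Cfsg.principalBlock M G ↔ ζ = triv ∨ ζ = b ∨ ζ = a ∨ ζ = c := by
    intro ζ; rw [hmemT ζ]; tauto
  have perm4 : ∀ ζ, ζ ∈ Cfsg.principalBlock M G ↔ ζ = triv ∨ ζ = c ∨ ζ = a ∨ ζ = b := by
    intro ζ; rw [hmemT ζ]; tauto
  rcases hsign a haB with ha | ha <;> rcases hsign b hbB with hb | hb <;>
    rcases hsign c hcB with hc | hc
  · rw [ha, hb, hc] at hrel; omega
  · exact key a b c 1 (Or.inl rfl) hat hbt hct hab hac hbc hmemT ha hb hc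
  · exact key a c b 1 (Or.inl rfl) hat hct hbt hac hab hbc.symm perm1 ha hc hb
  · exact key a b c (-1) (Or.inr rfl) hat hbt hct hab hac hbc hmemT ha hb hc
  · exact key b c a 1 (Or.inl rfl) hbt hct hat hbc hab.symm hac.symm perm2 hb hc ha
  · exact key b a c (-1) (Or.inr rfl) hbt hat hct hab.symm hbc hac perm3 hb ha hc
  · exact key c a b (-1) (Or.inr rfl) hct hat hbt hac.symm hbc.symm hab perm4 hc ha hb
  · rw [ha, hb, hc] at hrel; omega

end Cfsg.Agent.S0948
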