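import Cfsg.Statements.S4479
import Mathlib
import Cfsg.Agent.Lib.helper4.KleinPairs
import Cfsg.Agent.Lib.helper4.KleinChar
import Cfsg.Agent.Lib.helper4.KleinAlg

set_option autoImplicit false
open Cfsg

namespace Cfsg.Agent.S4479

/-- An order formula from the principal 2-block. Let G be a finite group of order 4·g₀ with g₀ odd having no normal 2-complement (no normal subgroup of order g₀); let P be a Sylow 2-subgroup, J an involution of P, and fix a maximal ideal M of the algebraic integers containing 2. Suppose the principal 2-block consists of the principal character and three further distinct characters χ₁, χ₂, χ₃ of degrees x₁, x₂, x₃, with χ_i(J) = ε_i = ±1. Then, writing c(J) and c(P) for the orders of the centralizers of J and of P, the order of G equals 8·α·c(J)³/c(P)² with α = x₁x₂x₃ / ((x₁ + ε₁)(x₂ + ε₂)(x₃ + ε₃)). -/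
theorem result {G : Type*} [Group G] [Finite G] (M : Ideal Cfsg.AlgInt) (hM : Cfsg.IsPModular 2 M) (g₀ : ℕ) (hg₀ : Odd g₀) (hG : Nat.card G = 4 * g₀) (hnc : ¬ ∃ N : Subgroup G, N.Normal ∧ Nat.card N = g₀) (P : Sylow 2 G) (J : G) (hJ : J ∈ (P : Subgroup G)) (hJ2 : orderOf J = 2) (χ₁ χ₂ χ₃ : Cfsg.IrrCharacter G) (ε₁ ε₂ ε₃ : ℤ) (hB : Cfsg.principalBlock M G = {χ : Cfsg.IrrCharacter G | (χ : G → ℂ) = (fun _ => 1) ∨ χ = χ₁ ∨ χ = χ₂ ∨ χ = χ₃}) (hdist : (χ₁ : G → ℂ) ≠ (fun _ => 1) ∧ (χ₂ : G → ℂ) ≠ (fun _ => 1) ∧ (χ₃ : G → ℂ) ≠ (fun _ => 1) ∧ χ₁ ≠ χ₂ ∧ χ₁ ≠ χ₃ ∧ χ₂ ≠ χ₃) (hε : (ε₁ = 1 ∨ ε₁ = -1) ∧ (ε₂ = 1 ∨ ε₂ = -1) ∧ (ε₃ = 1 ∨ ε₃ = -1)) (hval : (χ₁ : G → ℂ) J = ε₁ ∧ (χ₂ : G → ℂ) J = ε₂ ∧ (χ₃ : G → ℂ) J = ε₃) : (Nat.card G : ℚ) = 8 * (((Cfsg.charDegree (χ₁ : G → ℂ) : ℚ) * Cfsg.charDegree (χ₂ : G → ℂ) * Cfsg.charDegree (χ₃ : G → ℂ)) / ((Cfsg.charDegree (χ₁ : G → ℂ) + ε₁) * (Cfsg.charDegree (χ₂ : G → ℂ) + ε₂) * (Cfsg.charDegree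 (χ₃ : G → ℂ) + ε₃))) * (Nat.card (Subgroup.centralizer ({J} : Set G)) : ℚ) ^ 3 / (Nat.card (Subgroup.centralizer ((P : Subgroup G) : Set G)) : ℚ) ^ 2 := by
  classical
  haveI : Fact (Nat.Prime 2) := ⟨Nat.prime_two⟩
  have := Fintype.ofFinite G
  have hMp := Cfsg.Agent.Lib.helper20.isPrime_of_isPModular hM
  obtain ⟨hK, hone⟩ := Cfsg.Agent.Lib.helper4.klein_of_no_normal_compl g₀ hg₀ hG hnc P
  obtain ⟨hidx, n, hn, hcount⟩ := Cfsg.Agent.Lib.helper4.klein_pair_count g₀ hg₀ hG hnc P J hJ hJ2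
  have hsec := Cfsg.Agent.Lib.helper4.sum_classProd_section hM J
    ⟨1, by rw [hJ2]; norm_num⟩ ⟨2, by rw [hidx]; norm_num⟩
  -- the left side: the count of pairs
  have hconj : ∀ a : G, IsConj J a ↔ orderOf a = 2 := by
    intro a
    constructor
    · intro h
      rw [← Cfsg.Agent.Lib.helper4.orderOf_eq_of_isConj h, hJ2]
    · intro h
      exact hone J a hJ2 h
  have hprod : ∀ g : G, Cfsg.Agent.Lib.helper4.classProd J g =
      ∑ a : G, if orderOf a = 2 ∧ orderOf (a⁻¹ * g) = 2 then (1 : ℂ) else 0 := by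
    intro g
    unfold Cfsg.Agent.Lib.helper4.classProd
    refine Finset.sum_congr rfl fun a _ => ?_
    simp only [hconj]
  have hL : ∑ ρ : pPrimeCore 2 (Subgroup.centralizer ({J} : Set G)),
      Cfsg.Agent.Lib.helper4.classProd J (J * ((ρ : Subgroup.centralizer ({J} : Set G)) : G)) =
      (2 * (n : ℂ) ^ 2) := by
    simp_rw [hprod]
    have h1 : (Nat.card {x : (pPrimeCore 2 (Subgroup.centralizer ({J} : Set G))) × G //
        orderOf x.2 = 2 ∧ orderOf (x.2⁻¹ * (J *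
          ((x.1 : Subgroup.centralizer ({J} : Set G)) : G))) = 2} : ℂ) = 2 * (n : ℂ) ^ 2 := by
      rw [hcount]
      push_cast
      ring
    rw [← h1, Nat.card_eq_fintype_card, Fintype.card_subtype, ← Finset.sum_boole,
      Fintype.sum_prod_type]
  rw [hL] at hsec
  -- the right side: the four characters of the principal block
  set triv : Cfsg.IrrCharacter G := Cfsg.Agent.Lib.helper81.trivChar G with htriv
  have hmem : ∀ ζ : Cfsg.IrrCharacter G, ζ ∈ Cfsg.principalBlock M G ↔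
      ζ ∈ ({triv, χ₁, χ₂, χ₃} : Finset (Cfsg.IrrCharacter G)) := by
    intro ζ
    rw [hB, Set.mem_ofPred_eq]
    simp only [Finset.mem_insert, Finset.mem_singleton]
    constructor
    · rintro (h | h | h | h)
      · left; exact Subtype.ext h
      · right; left; exact h
      · right; right; left; exact h
      · right; right; right; exact h
    · rintro (h | h | h | h)
      · left; rw [h]; rfl
      · right; left; exact h
      · right; right; left; exact h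
      · right; right; right; exact h
  have ht1 : triv ≠ χ₁ := fun h => hdist.1 (by rw [← h]; rfl)
  have ht2 : triv ≠ χ₂ := fun h => hdist.2.1 (by rw [← h]; rfl)
  have ht3 : triv ≠ χ₃ := fun h => hdist.2.2.1 (by rw [← h]; rfl)
  have hsum4 : ∀ F : Cfsg.IrrCharacter G → ℂ,
      ∑ ζ : Cfsg.IrrCharacter G, (if ζ ∈ Cfsg.principalBlock M G then F ζ else 0) =
      F triv + (F χ₁ + (F χ₂ + F χ₃)) := by
    intro F
    have h2 : ∀ ζ : Cfsg.IrrCharacter G, (if ζ ∈ Cfsg.principalBlock M G then F ζ else 0) =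
        if ζ ∈ ({triv, χ₁, χ₂, χ₃} : Finset (Cfsg.IrrCharacter G)) then F ζ else 0 := by
      intro ζ
      by_cases h : ζ ∈ Cfsg.principalBlock M G
      · rw [if_pos h, if_pos ((hmem ζ).mp h)]
      · rw [if_neg h, if_neg (fun h' => h ((hmem ζ).mpr h'))]
    rw [Finset.sum_congr rfl (fun ζ _ => h2 ζ), Finset.sum_ite_mem, Finset.univ_inter,
      Finset.sum_insert (by
        simp only [Finset.mem_insert, Finset.mem_singleton, not_or]
        exact ⟨ht1, ht2, ht3⟩),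
      Finset.sum_insert (by
        simp only [Finset.mem_insert, Finset.mem_singleton, not_or]
        exact ⟨hdist.2.2.2.1, hdist.2.2.2.2.1⟩),
      Finset.sum_insert (by
        simp only [Finset.mem_singleton]
        exact hdist.2.2.2.2.2),
      Finset.sum_singleton]
  -- degrees
  have hdeg : ∀ ζ : Cfsg.IrrCharacter G, (ζ : G → ℂ) 1 = (Cfsg.charDegree (ζ : G → ℂ) : ℂ) :=
    Cfsg.Agent.Lib.helper81.irr_one_eq_charDegree
  have hpos : ∀ ζ : Cfsg.IrrCharacter G, (0 : ℚ) < (Cfsg.charDegree (ζ : G → ℂ) : ℚ) := fun ζ => by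
    exact_mod_cast Cfsg.Agent.Lib.helper81.irr_charDegree_pos ζ
  have hdegtriv : Cfsg.charDegree (triv : G → ℂ) = 1 := by
    have h := hdeg triv
    rw [htriv, Cfsg.Agent.Lib.helper81.trivChar_apply] at h
    exact_mod_cast h.symm
  -- the individual terms
  have hterm : ∀ (ζ : Cfsg.IrrCharacter G) (ε : ℤ), (ε = 1 ∨ ε = -1) → (ζ : G → ℂ) J = ε →
      (Nat.card G : ℂ)⁻¹ * ((starRingEnd ℂ) ((ζ : G → ℂ) 1) *
        (Cfsg.centralChar (fun g => (starRingEnd ℂ) ((ζ : G → ℂ) g)) J) ^ 2) * (ζ : G → ℂ) J =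
      (((Nat.card G : ℚ)⁻¹ * ((Subgroup.centralizer ({J} : Set G)).index : ℚ) ^ 2 * (ε : ℚ) /
        (Cfsg.charDegree (ζ : G → ℂ) : ℚ) : ℚ) : ℂ) := by
    intro ζ ε hε hζ
    have hx0 : (Cfsg.charDegree (ζ : G → ℂ) : ℂ) ≠ 0 := by
      exact_mod_cast (Cfsg.Agent.Lib.helper81.irr_charDegree_pos ζ).ne'
    unfold Cfsg.centralChar
    beta_reduce
    rw [hζ, hdeg ζ, Complex.conj_natCast, map_intCast]
    push_cast
    rcases hε with rfl | rfl
    · push_cast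
      field_simp
    · push_cast
      field_simp
  have hJtriv : (triv : G → ℂ) J = ((1 : ℤ) : ℂ) := by
    rw [htriv, Cfsg.Agent.Lib.helper81.trivChar_apply]
    norm_num
  rw [hsum4, hterm triv 1 (Or.inl rfl) hJtriv, hterm χ₁ ε₁ hε.1 hval.1,
    hterm χ₂ ε₂ hε.2.1 hval.2.1, hterm χ₃ ε₃ hε.2.2 hval.2.2, hdegtriv] at hsec
  -- weak block orthogonality at the identity
  have hwbo := Cfsg.Agent.Lib.helper81.wbo hM
    (fun g => Cfsg.Agent.Lib.helper81.memLocalRing_blockCoeff hMp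
      (Cfsg.Agent.Lib.helper81.isPBlock_principalBlock (M := M) (G := G)) g)
    (x := (1 : G)) (y₀ := J) (by rw [orderOf_one]; norm_num) (by rw [hJ2])
  rw [hsum4, hdeg, hdeg, hdeg, hdeg, hdegtriv, hJtriv, hval.1, hval.2.1, hval.2.2] at hwbo
  simp only [map_intCast] at hwbo
  have hR5 : (1 : ℚ) + (Cfsg.charDegree (χ₁ : G → ℂ) : ℚ) * ε₁ +
      (Cfsg.charDegree (χ₂ : G → ℂ) : ℚ) * ε₂ + (Cfsg.charDegree (χ₃ : G → ℂ) : ℚ) * ε₃ = 0 := by
    have h : ((1 + (Cfsg.charDegree (χ₁ : G → ℂ) : ℚ) * ε₁ +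
      (Cfsg.charDegree (χ₂ : G → ℂ) : ℚ) * ε₂ + (Cfsg.charDegree (χ₃ : G → ℂ) : ℚ) * ε₃ : ℚ) : ℂ)
        = 0 := by
      rw [← hwbo]
      push_cast
      ring
    exact_mod_cast h
  -- the rational identity
  have hR4 : (2 : ℚ) * (n : ℚ) ^ 2 =
      (Nat.card (pPrimeCore 2 (Subgroup.centralizer ({J} : Set G))) : ℚ) *
      ((Nat.card G : ℚ)⁻¹ * ((Subgroup.centralizer ({J} : Set G)).index : ℚ) ^ 2 * ((1 : ℤ) : ℚ) /
          ((1 : ℕ) : ℚ) +
        ((Nat.card G : ℚ)⁻¹ * ((Subgroup.centralizer ({J} : Set G)).index : ℚ) ^ 2 * (ε₁ : ℚ) /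
          (Cfsg.charDegree (χ₁ : G → ℂ) : ℚ) +
        ((Nat.card G : ℚ)⁻¹ * ((Subgroup.centralizer ({J} : Set G)).index : ℚ) ^ 2 * (ε₂ : ℚ) /
          (Cfsg.charDegree (χ₂ : G → ℂ) : ℚ) +
        (Nat.card G : ℚ)⁻¹ * ((Subgroup.centralizer ({J} : Set G)).index : ℚ) ^ 2 * (ε₃ : ℚ) /
          (Cfsg.charDegree (χ₃ : G → ℂ) : ℚ)))) := by
    have h : (((2 : ℚ) * (n : ℚ) ^ 2 : ℚ) : ℂ) =
      (((Nat.card (pPrimeCore 2 (Subgroup.centralizer ({J} : Set G))) : ℚ) *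
      ((Nat.card G : ℚ)⁻¹ * ((Subgroup.centralizer ({J} : Set G)).index : ℚ) ^ 2 * ((1 : ℤ) : ℚ) /
          ((1 : ℕ) : ℚ) +
        ((Nat.card G : ℚ)⁻¹ * ((Subgroup.centralizer ({J} : Set G)).index : ℚ) ^ 2 * (ε₁ : ℚ) /
          (Cfsg.charDegree (χ₁ : G → ℂ) : ℚ) +
        ((Nat.card G : ℚ)⁻¹ * ((Subgroup.centralizer ({J} : Set G)).index : ℚ) ^ 2 * (ε₂ : ℚ) /
          (Cfsg.charDegree (χ₂ : G → ℂ) : ℚ) +
        (Nat.card G : ℚ)⁻¹ * ((Subgroup.centralizer ({J} : Set G)).index : ℚ) ^ 2 * (ε₃ : ℚ) /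
          (Cfsg.charDegree (χ₃ : G → ℂ) : ℚ)))) : ℚ) : ℂ) := by
      push_cast
      push_cast at hsec
      exact hsec
    exact_mod_cast h
  -- numerical relations
  have hR1 : (Nat.card (pPrimeCore 2 (Subgroup.centralizer ({J} : Set G))) : ℚ) * 4 =
      (Nat.card (Subgroup.centralizer ({J} : Set G)) : ℚ) := by
    have h := Subgroup.index_mul_card (pPrimeCore 2 (Subgroup.centralizer ({J} : Set G)))
    rw [hidx] at h
    have h' : Nat.card (pPrimeCore 2 (Subgroup.centralizer ({J} : Set G))) * 4 =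
        Nat.card (Subgroup.centralizer ({J} : Set G)) := by omega
    exact_mod_cast h'
  have hR2 : ((Subgroup.centralizer ({J} : Set G)).index : ℚ) *
      (Nat.card (Subgroup.centralizer ({J} : Set G)) : ℚ) = (Nat.card G : ℚ) := by
    exact_mod_cast Subgroup.index_mul_card (Subgroup.centralizer ({J} : Set G))
  have hR3 : (n : ℚ) * (Nat.card (Subgroup.centralizer ((P : Subgroup G) : Set G)) : ℚ) =
      (Nat.card (Subgroup.centralizer ({J} : Set G)) : ℚ) := by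
    exact_mod_cast hn
  have hcJ : (0 : ℚ) < (Nat.card (Subgroup.centralizer ({J} : Set G)) : ℚ) := by
    exact_mod_cast Nat.card_pos
  have hcP : (0 : ℚ) < (Nat.card (Subgroup.centralizer ((P : Subgroup G) : Set G)) : ℚ) := by
    exact_mod_cast Nat.card_pos
  have hg : (0 : ℚ) < (Nat.card G : ℚ) := by exact_mod_cast Nat.card_pos
  have hl : (0 : ℚ) < (Nat.card (pPrimeCore 2 (Subgroup.centralizer ({J} : Set G))) : ℚ) := by
    exact_mod_cast Nat.card_pos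
  have he1 : (ε₁ : ℚ) ^ 2 = 1 := by
    rcases hε.1 with h | h <;> rw [h] <;> norm_num
  have he2 : (ε₂ : ℚ) ^ 2 = 1 := by
    rcases hε.2.1 with h | h <;> rw [h] <;> norm_num
  have he3 : (ε₃ : ℚ) ^ 2 = 1 := by
    rcases hε.2.2 with h | h <;> rw [h] <;> norm_num
  exact Cfsg.Agent.Lib.helper4.klein_order_algebra hg hcJ hcP hl (hpos χ₁) (hpos χ₂) (hpos χ₃)
    he1 he2 he3 hR1 hR2 hR3 hR5 (by rw [hR4]; push_cast; ring)

end Cfsg.Agent.S4479
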