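import Cfsg.Statements.S4480
import Mathlib
import Cfsg.Agent.S4479
import Cfsg.Agent.Lib.helper4.KleinFS
import Cfsg.Agent.Lib.helper4.KleinArith

set_option autoImplicit false
open Cfsg

namespace Cfsg.Agent.S4480

/-- Same setting as the Klein-four order formula: G of order 4·g₀ (g₀ odd) with no normal 2-complement, P a Sylow 2-subgroup, J an involution of P, M over 2, principal 2-block {1, χ₁, χ₂, χ₃} with χ_i(J) = ε_i = ±1. Suppose ε₁ε₂ε₃ = −1 and ε₃ = −1, and put q = x₃ = χ₃(1). Then there is a natural number m with 4·c(J) = m·c(P)·(q + 1), and the order of G equals (m³·c(P)/4)·(q³ − q)/2, that is 8·#G = m³·c(P)·(q³ − q). -/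
theorem result {G : Type*} [Group G] [Finite G] (M : Ideal Cfsg.AlgInt) (hM : Cfsg.IsPModular 2 M) (g₀ : ℕ) (hg₀ : Odd g₀) (hG : Nat.card G = 4 * g₀) (hnc : ¬ ∃ N : Subgroup G, N.Normal ∧ Nat.card N = g₀) (P : Sylow 2 G) (J : G) (hJ : J ∈ (P : Subgroup G)) (hJ2 : orderOf J = 2) (χ₁ χ₂ χ₃ : Cfsg.IrrCharacter G) (ε₁ ε₂ ε₃ : ℤ) (hB : Cfsg.principalBlock M G = {χ : Cfsg.IrrCharacter G | (χ : G → ℂ) = (fun _ => 1) ∨ χ = χ₁ ∨ χ = χ₂ ∨ χ = χ₃}) (hdist : (χ₁ : G → ℂ) ≠ (fun _ => 1) ∧ (χ₂ : G → ℂ) ≠ (fun _ => 1) ∧ (χ₃ : G → ℂ) ≠ (fun _ => 1) ∧ χ₁ ≠ χ₂ ∧ χ₁ ≠ χ₃ ∧ χ₂ ≠ χ₃) (hε : (ε₁ = 1 ∨ ε₁ = -1) ∧ (ε₂ = 1 ∨ ε₂ = -1) ∧ (ε₃ = 1 ∨ ε₃ = -1)) (hval : (χ₁ : G → ℂ) J = ε₁ ∧ (χ₂ : G → ℂ) J = ε₂ ∧ (χ₃ : G → ℂ) J = ε₃) (hprod : ε₁ * ε₂ * ε₃ = -1) (hε₃ : ε₃ = -1) : ∃ m : ℕ, 4 * Nat.card (Subgroup.centralizer ({J} : Set G)) = m * Nat.card (Subgroup.centralizer ((P : Subgroup G) : Set G)) * (Cfsg.charDegree (χ₃ : G → ℂ) +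 1) ∧ 8 * Nat.card G = m ^ 3 * Nat.card (Subgroup.centralizer ((P : Subgroup G) : Set G)) * (Cfsg.charDegree (χ₃ : G → ℂ) ^ 3 - Cfsg.charDegree (χ₃ : G → ℂ)) := by
  classical
  haveI : Fact (Nat.Prime 2) := ⟨Nat.prime_two⟩
  have := Fintype.ofFinite G
  have hMp := Cfsg.Agent.Lib.helper20.isPrime_of_isPModular hM
  obtain ⟨hK, hone⟩ := Cfsg.Agent.Lib.helper4.klein_of_no_normal_compl g₀ hg₀ hG hnc P
  obtain ⟨hidx, n, hn, -⟩ := Cfsg.Agent.Lib.helper4.klein_pair_count g₀ hg₀ hG hnc P J hJ hJ2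
  have hS := Cfsg.Agent.S4479.result M hM g₀ hg₀ hG hnc P J hJ hJ2 χ₁ χ₂ χ₃ ε₁ ε₂ ε₃ hB hdist hε hval
  -- the four characters of the principal block
  set triv : Cfsg.IrrCharacter G := Cfsg.Agent.Lib.helper81.trivChar G with htriv
  have hmem : ∀ ζ : Cfsg.IrrCharacter G, ζ ∈ Cfsg.principalBlock M G ↔
      ζ ∈ ({triv, χ₁, χ₂, χ₃} : Finset (Cfsg.IrrCharacter G)) := by
    intro ζ
    rw [hB, Set.mem_ofPred_eq]
    simp only [Finset.mem_insert, Finset.mem_singleton]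
    constructor
    · rintro (h | h | h | h)
      · left; exact Subtype.ext h
      · right; left; exact h
      · right; right; left; exact h
      · right; right; right; exact h
    · rintro (h | h | h | h)
      · left; rw [h]; rfl
      · right; left; exact h
      · right; right; left; exact h
      · right; right; right; exact h
  have ht1 : triv ≠ χ₁ := fun h => hdist.1 (by rw [← h]; rfl)
  have ht2 : triv ≠ χ₂ := fun h => hdist.2.1 (by rw [← h]; rfl)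
  have ht3 : triv ≠ χ₃ := fun h => hdist.2.2.1 (by rw [← h]; rfl)
  have hsum4 : ∀ F : Cfsg.IrrCharacter G → ℂ,
      ∑ ζ : Cfsg.IrrCharacter G, (if ζ ∈ Cfsg.principalBlock M G then F ζ else 0) =
      F triv + (F χ₁ + (F χ₂ + F χ₃)) := by
    intro F
    have h2 : ∀ ζ : Cfsg.IrrCharacter G, (if ζ ∈ Cfsg.principalBlock M G then F ζ else 0) =
        if ζ ∈ ({triv, χ₁, χ₂, χ₃} : Finset (Cfsg.IrrCharacter G)) then F ζ else 0 := by
      intro ζ
      by_cases h : ζ ∈ Cfsg.principalBlock M G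
      · rw [if_pos h, if_pos ((hmem ζ).mp h)]
      · rw [if_neg h, if_neg (fun h' => h ((hmem ζ).mpr h'))]
    rw [Finset.sum_congr rfl (fun ζ _ => h2 ζ), Finset.sum_ite_mem, Finset.univ_inter,
      Finset.sum_insert (by
        simp only [Finset.mem_insert, Finset.mem_singleton, not_or]
        exact ⟨ht1, ht2, ht3⟩),
      Finset.sum_insert (by
        simp only [Finset.mem_insert, Finset.mem_singleton, not_or]
        exact ⟨hdist.2.2.2.1, hdist.2.2.2.2.1⟩),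
      Finset.sum_insert (by
        simp only [Finset.mem_singleton]
        exact hdist.2.2.2.2.2),
      Finset.sum_singleton]
  have hdeg : ∀ ζ : Cfsg.IrrCharacter G, (ζ : G → ℂ) 1 = (Cfsg.charDegree (ζ : G → ℂ) : ℂ) :=
    Cfsg.Agent.Lib.helper81.irr_one_eq_charDegree
  have hdpos : ∀ ζ : Cfsg.IrrCharacter G, 0 < Cfsg.charDegree (ζ : G → ℂ) :=
    Cfsg.Agent.Lib.helper81.irr_charDegree_pos
  have hdegtriv : Cfsg.charDegree (triv : G → ℂ) = 1 := by
    have h := hdeg triv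
    rw [htriv, Cfsg.Agent.Lib.helper81.trivChar_apply] at h
    exact_mod_cast h.symm
  have hJtriv : (triv : G → ℂ) J = ((1 : ℤ) : ℂ) := by
    rw [htriv, Cfsg.Agent.Lib.helper81.trivChar_apply]
    norm_num
  -- weak block orthogonality at the identity
  have hwbo := Cfsg.Agent.Lib.helper81.wbo hM
    (fun g => Cfsg.Agent.Lib.helper81.memLocalRing_blockCoeff hMp
      (Cfsg.Agent.Lib.helper81.isPBlock_principalBlock (M := M) (G := G)) g)
    (x := (1 : G)) (y₀ := J) (by rw [orderOf_one]; norm_num) (by rw [hJ2])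
  rw [hsum4, hdeg, hdeg, hdeg, hdeg, hdegtriv, hJtriv, hval.1, hval.2.1, hval.2.2] at hwbo
  simp only [map_intCast] at hwbo
  have hR5 : (1 : ℤ) + (Cfsg.charDegree (χ₁ : G → ℂ) : ℤ) * ε₁ +
      (Cfsg.charDegree (χ₂ : G → ℂ) : ℤ) * ε₂ + (Cfsg.charDegree (χ₃ : G → ℂ) : ℤ) * ε₃ = 0 := by
    have h : ((1 + (Cfsg.charDegree (χ₁ : G → ℂ) : ℤ) * ε₁ +
      (Cfsg.charDegree (χ₂ : G → ℂ) : ℤ) * ε₂ + (Cfsg.charDegree (χ₃ : G → ℂ) : ℤ) * ε₃ : ℤ) : ℂ)
        = 0 := by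
      rw [← hwbo]
      push_cast
      ring
    exact_mod_cast h
  have hp1 := hdpos χ₁
  have hp2 := hdpos χ₂
  have hp3 := hdpos χ₃
  -- the signs
  have hε12 : ε₁ = 1 ∧ ε₂ = 1 := by
    rcases hε.1 with h1 | h1 <;> rcases hε.2.1 with h2 | h2
    · exact ⟨h1, h2⟩
    · rw [h1, h2, hε₃] at hprod
      norm_num at hprod
    · rw [h1, h2, hε₃] at hprod
      norm_num at hprod
    · exfalso
      rw [h1, h2, hε₃] at hR5
      omega
  obtain ⟨hε₁, hε₂⟩ := hε12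
  rw [hε₁, hε₂, hε₃] at hR5
  -- degrees are odd
  have hoddeg : ∀ (ζ : Cfsg.IrrCharacter G) (ε : ℤ), (ε = 1 ∨ ε = -1) → (ζ : G → ℂ) J = ε →
      Odd (Cfsg.charDegree (ζ : G → ℂ)) := by
    intro ζ ε hε' hζ
    obtain ⟨k, hk⟩ := Cfsg.Agent.Lib.helper4.four_dvd_degree_sub P hK hone ζ J hJ2 ε hζ
    rw [Nat.odd_iff]
    rcases hε' with rfl | rfl <;> omega
  -- Frobenius-Schur indicators
  obtain ⟨e₁, he₁, hν₁, hnr₁, hev₁⟩ := Cfsg.Agent.Lib.helper4.irr_fs_indicator_strong χ₁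
  obtain ⟨e₂, he₂, hν₂, -, hev₂⟩ := Cfsg.Agent.Lib.helper4.irr_fs_indicator_strong χ₂
  obtain ⟨e₃, he₃, hν₃, -, -⟩ := Cfsg.Agent.Lib.helper4.irr_fs_indicator_strong χ₃
  have hsec := Cfsg.Agent.Lib.helper4.sum_classFun_section hM J
    ⟨1, by rw [hJ2]; norm_num⟩ ⟨2, by rw [hidx]; norm_num⟩
    (Cfsg.Agent.Lib.helper78.sqrtCount_isClassFunction (G := G))
  have hLodd : Odd (Nat.card (pPrimeCore 2 (Subgroup.centralizer ({J} : Set G)))) :=
    Nat.coprime_two_right.mp (Cfsg.Agent.Lib.helper40.pPrimeCore_card_coprime 2 _)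
  have hzero : ∑ ρ : pPrimeCore 2 (Subgroup.centralizer ({J} : Set G)),
      Cfsg.Agent.Lib.helper78.sqrtCount (J * ((ρ : Subgroup.centralizer ({J} : Set G)) : G)) = 0 := by
    apply Finset.sum_eq_zero
    intro ρ _
    apply Cfsg.Agent.Lib.helper4.sqrtCount_section_eq_zero P hK hJ2
    · exact (Subgroup.mem_centralizer_singleton_iff.mp
        (ρ : Subgroup.centralizer ({J} : Set G)).2).symm
    · rw [Subgroup.orderOf_coe]
      exact Odd.of_dvd_nat hLodd (Subgroup.orderOf_dvd_natCard _ ρ.2)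
  have hνt : (Nat.card G : ℂ)⁻¹ * ∑ s : G, (triv : G → ℂ) (s * s) = ((1 : ℤ) : ℂ) := by
    have h0 : (Nat.card G : ℂ) ≠ 0 := by exact_mod_cast Nat.card_pos.ne'
    simp only [htriv, Cfsg.Agent.Lib.helper81.trivChar_apply, Finset.sum_const, Finset.card_univ,
      nsmul_eq_mul, mul_one, ← Nat.card_eq_fintype_card]
    rw [inv_mul_cancel₀ h0]
    norm_num
  rw [hzero, hsum4] at hsec
  simp only [Cfsg.Agent.Lib.helper4.classInner_sqrtCount] at hsec
  rw [hνt, hν₁, hν₂, hν₃, hJtriv, hval.1, hval.2.1, hval.2.2, hε₁, hε₂, hε₃] at hsec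
  have hrel : (1 : ℤ) + e₁ + e₂ - e₃ = 0 := by
    have hl0 : (Nat.card (pPrimeCore 2 (Subgroup.centralizer ({J} : Set G))) : ℂ) ≠ 0 := by
      exact_mod_cast Nat.card_pos.ne'
    have h := (mul_eq_zero.mp hsec.symm).resolve_left hl0
    simp only [map_intCast] at h
    have h' : ((1 + e₁ + e₂ - e₃ : ℤ) : ℂ) = 0 := by
      rw [← h]
      push_cast
      ring
    exact_mod_cast h'
  have hodd1 := hoddeg χ₁ ε₁ hε.1 hval.1
  have hodd2 := hoddeg χ₂ ε₂ hε.2.1 hval.2.1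
  have he₁' : e₁ ≠ -1 := fun h => (Nat.not_even_iff_odd.mpr hodd1) (hev₁ h)
  have he₂' : e₂ ≠ -1 := fun h => (Nat.not_even_iff_odd.mpr hodd2) (hev₂ h)
  have he₁0 : e₁ = 0 := by
    rcases he₁ with h | h | h
    · exact h
    · rcases he₂ with h2 | h2 | h2 <;> rcases he₃ with h3 | h3 | h3 <;> omega
    · exact absurd h he₁'
  -- `χ₁` is not real, so its complex conjugate is `χ₂`
  have hnr := hnr₁ he₁0
  have hχ₁B : χ₁ ∈ Cfsg.principalBlock M G := (hmem χ₁).mpr (by simp)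
  have hconjB : Cfsg.Agent.Lib.helper78.conjIrr χ₁ ∈ Cfsg.principalBlock M G := by
    have h1 : Cfsg.SameBlock M (triv : G → ℂ) (χ₁ : G → ℂ) := hχ₁B
    have h2 := Cfsg.Agent.Lib.helper78.sameBlock_conjIrr h1
    have h3 : (Cfsg.Agent.Lib.helper78.conjIrr triv : G → ℂ) = (fun _ => (1 : ℂ)) := by
      funext g
      rw [Cfsg.Agent.Lib.helper78.conjIrr_apply, htriv, Cfsg.Agent.Lib.helper81.trivChar_apply,
        map_one]
    rw [h3] at h2
    exact h2
  have hconj2 : Cfsg.Agent.Lib.helper78.conjIrr χ₁ = χ₂ := by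
    have h := (hmem _).mp hconjB
    simp only [Finset.mem_insert, Finset.mem_singleton] at h
    rcases h with h | h | h | h
    · exfalso
      apply hdist.1
      funext g
      have h1 := congrArg (fun ζ : Cfsg.IrrCharacter G => (ζ : G → ℂ) g) h
      simp only [Cfsg.Agent.Lib.helper78.conjIrr_apply, htriv,
        Cfsg.Agent.Lib.helper81.trivChar_apply] at h1
      have h2 := congrArg (starRingEnd ℂ) h1
      rw [Complex.conj_conj, map_one] at h2
      exact h2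
    · exfalso
      apply hnr
      intro g
      have h1 := congrArg (fun ζ : Cfsg.IrrCharacter G => (ζ : G → ℂ) g) h
      simpa only [Cfsg.Agent.Lib.helper78.conjIrr_apply] using h1
    · exact h
    · exfalso
      have h1 := congrArg (fun ζ : Cfsg.IrrCharacter G => (ζ : G → ℂ) J) h
      simp only [Cfsg.Agent.Lib.helper78.conjIrr_apply] at h1
      rw [hval.1, hval.2.2, hε₁, hε₃, map_intCast] at h1
      norm_num at h1
  have hx12 : Cfsg.charDegree (χ₂ : G → ℂ) = Cfsg.charDegree (χ₁ : G → ℂ) := by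
    have h1 := hdeg (Cfsg.Agent.Lib.helper78.conjIrr χ₁)
    rw [Cfsg.Agent.Lib.helper78.conjIrr_apply, hdeg χ₁, Complex.conj_natCast, hconj2] at h1
    exact_mod_cast h1.symm
  -- integrality of the central characters
  have hdvd : ∀ (ζ : Cfsg.IrrCharacter G) (ε : ℤ), (ε = 1 ∨ ε = -1) → (ζ : G → ℂ) J = ε →
      Cfsg.charDegree (ζ : G → ℂ) ∣ (Subgroup.centralizer ({J} : Set G)).index := by
    intro ζ ε hε' hζ
    have h := Cfsg.Agent.Lib.helper81.irr_centralChar_isIntegral ζ J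
    unfold Cfsg.centralChar at h
    rw [hζ, hdeg ζ] at h
    apply Cfsg.Agent.Lib.helper81.dvd_of_isIntegral_div (hdpos ζ).ne'
    rcases hε' with rfl | rfl
    · simpa using h
    · have h2 := h.neg
      convert h2 using 1
      push_cast
      ring
  have hd1 := hdvd χ₁ ε₁ hε.1 hval.1
  have hd3 := hdvd χ₃ ε₃ hε.2.2 hval.2.2
  -- the arithmetic
  have hq : Cfsg.charDegree (χ₃ : G → ℂ) = 2 * Cfsg.charDegree (χ₁ : G → ℂ) + 1 := by
    rw [hx12] at hR5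
    omega
  rw [hε₁, hε₂, hε₃, hx12] at hS
  exact Cfsg.Agent.Lib.helper4.klein_order_arith Nat.card_pos Nat.card_pos hodd1 hq hn
    (Subgroup.index_mul_card _) hd1 hd3 (by rw [hS]; push_cast; ring)

end Cfsg.Agent.S4480
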