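import Cfsg.Statements.S0988
import Cfsg.Agent.Lib.helper21.SylowTest
import Mathlib

set_option autoImplicit false
open Cfsg

namespace Cfsg.Agent.S0988

open Cfsg.Agent.Lib.helper21 Subgroup

theorem not_dvd_pred {a b : ℕ} (ha : a.Prime) (hab : a < b) : ¬ b ∣ a - 1 := by
  intro h
  have h1 : 0 < a - 1 := by have := ha.two_le; omega
  have := Nat.le_of_dvd h1 h
  omega

theorem dvd_succ_of_dvd_sq_sub_one {a b : ℕ} (ha : a.Prime) (hb : b.Prime) (hab : a < b)
    (h : b ∣ a ^ 2 - 1) : b ∣ a + 1 := by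
  have h1 : a ^ 2 - 1 = (a - 1) * (a + 1) := by
    obtain ⟨c, rfl⟩ : ∃ c, a = c + 1 := ⟨a - 1, by have := ha.pos; omega⟩
    have : (c + 1) ^ 2 = c * (c + 1 + 1) + 1 := by ring
    rw [this, Nat.add_sub_cancel, Nat.add_sub_cancel]
  rw [h1] at h
  rcases hb.dvd_mul.mp h with h2 | h2
  · exact absurd h2 (not_dvd_pred ha hab)
  · exact h2

theorem eq_two_three_of_dvd_succ {a b : ℕ} (ha : a.Prime) (hb : b.Prime) (hab : a < b)
    (h : b ∣ a + 1) : a = 2 ∧ b = 3 := by
  have h1 : b ≤ a + 1 := Nat.le_of_dvd (by omega) h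
  have h2 : b = a + 1 := by omega
  rcases ha.eq_two_or_odd with h3 | h3
  · exact ⟨h3, by omega⟩
  · exfalso
    have h4 : 2 ∣ b := by omega
    have h5 : 2 = b := (Nat.prime_dvd_prime_iff_eq Nat.prime_two hb).mp h4
    have := ha.two_le
    omega

theorem dvd_pred_of_mod {n s : ℕ} (hs : 1 < s) (hn : n % s = 1) : s ∣ n - 1 := by
  have h1 : 1 ≤ n := by
    rcases Nat.eq_zero_or_pos n with h | h
    · subst h; simp at hn
    · exact h
  refine (Nat.modEq_iff_dvd' h1).mp ?_
  unfold Nat.ModEq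
  rw [hn, Nat.mod_eq_of_lt hs]

variable {G : Type*} [Group G] [Finite G] [IsSimpleGroup G]

/-- No simple group has order `p ^ 4`. -/
theorem caseA (p : ℕ) (hp : p.Prime) (hG : Nat.card G = p ^ 4) : False := by
  have := Fact.mk hp
  obtain ⟨K, hK⟩ := Sylow.exists_subgroup_card_pow_prime (G := G) p
    (show p ^ 3 ∣ Nat.card G by rw [hG]; exact pow_dvd_pow p (by norm_num))
  have hidx : K.index = p := by
    have h1 := K.card_mul_index
    rw [hK, hG] at h1
    have h2 : p ^ 3 * K.index = p ^ 3 * p := by rw [h1]; ring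
    exact Nat.eq_of_mul_eq_mul_left (pow_pos hp.pos 3) h2
  have hmin : (Nat.card G).minFac = p := by
    rw [hG, Nat.Prime.pow_minFac hp (by norm_num)]
  have hN : K.Normal := normal_of_index_eq_minFac_card (by rw [hidx, hmin])
  have h2 : 2 ≤ p := hp.two_le
  rcases hN.eq_bot_or_eq_top with h | h
  · rw [h, Subgroup.card_bot] at hK
    have : 1 < p ^ 3 := Nat.one_lt_pow (by norm_num) hp.one_lt
    omega
  · rw [h, index_top] at hidx
    omega

/-- No simple group has order `p ^ 3 * s`. -/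
theorem caseB1 (p s : ℕ) (hp : p.Prime) (hs : s.Prime) (hps : p ≠ s)
    (hG : Nat.card G = p ^ 3 * s) : False := by
  have hcard : Nat.card G = s ^ 1 * p ^ 3 := by rw [hG]; ring
  have hsp : ¬ s ∣ p ^ 3 := fun h =>
    hps ((Nat.prime_dvd_prime_iff_eq hs hp).mp (hs.dvd_of_dvd_pow h)).symm
  have hm : p ^ 3 ≠ 1 := by
    have : 1 < p ^ 3 := Nat.one_lt_pow (by norm_num) hp.one_lt
    omega
  obtain ⟨t, n, ht, ht1, htn, hmod, hn1, hfac⟩ :=
    simple_sylow_test (G := G) s 1 (p ^ 3) hs (Or.inl rfl) hcard hsp hm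
  rw [pow_one] at ht1
  have htp : t = p :=
    (Nat.prime_dvd_prime_iff_eq ht hp).mp (ht.dvd_of_dvd_pow (dvd_of_mul_right_dvd htn))
  subst htp
  have hts : t < s := by
    have h1 : 0 < s - 1 := by have := hs.two_le; omega
    have := Nat.le_of_dvd h1 ht1
    omega
  have hn : n ∣ t ^ 2 := by
    have h1 : t * n ∣ t * t ^ 2 := by
      have : t * t ^ 2 = t ^ 3 := by ring
      rw [this]; exact htn
    exact (Nat.mul_dvd_mul_iff_left hp.pos).mp h1
  obtain ⟨j, hj2, rfl⟩ := (Nat.dvd_prime_pow hp).mp hn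
  have hj : j = 1 ∨ j = 2 := by
    rcases j with _ | _ | _ | j
    · simp at hn1
    · left; rfl
    · right; rfl
    · omega
  rcases hj with rfl | rfl
  · rw [pow_one, Nat.mod_eq_of_lt hts] at hmod
    have := hp.two_le
    omega
  · have h1 : s ∣ t ^ 2 - 1 := dvd_pred_of_mod hs.one_lt hmod
    have h2 := dvd_succ_of_dvd_sq_sub_one hp hs hts h1
    obtain ⟨rfl, rfl⟩ := eq_two_three_of_dvd_succ hp hs hts h2
    revert hfac
    decide

/-- No simple group has order `a ^ 2 * b ^ 2` for primes `a < b`. -/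
theorem caseB2 (a b : ℕ) (ha : a.Prime) (hb : b.Prime) (hab : a < b)
    (hG : Nat.card G = a ^ 2 * b ^ 2) : False := by
  have hba : ¬ a ∣ b ^ 2 := fun h => by
    have := (Nat.prime_dvd_prime_iff_eq ha hb).mp (ha.dvd_of_dvd_pow h)
    omega
  have hm : b ^ 2 ≠ 1 := by
    have : 1 < b ^ 2 := Nat.one_lt_pow (by norm_num) hb.one_lt
    omega
  obtain ⟨t, n, ht, ht1, htn, hmod, hn1, hfac⟩ :=
    simple_sylow_test (G := G) a 2 (b ^ 2) ha (Or.inr rfl) hG hba hm
  have htb : t = b :=
    (Nat.prime_dvd_prime_iff_eq ht hb).mp (ht.dvd_of_dvd_pow (dvd_of_mul_right_dvd htn))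
  subst htb
  have h2 := dvd_succ_of_dvd_sq_sub_one ha ht hab ht1
  obtain ⟨rfl, rfl⟩ := eq_two_three_of_dvd_succ ha ht hab h2
  have hn : n ∣ 3 := by
    have h1 : 3 * n ∣ 3 * 3 := htn
    exact (Nat.mul_dvd_mul_iff_left (by norm_num)).mp h1
  have hn3 : n = 3 := by
    rcases (Nat.dvd_prime Nat.prime_three).mp hn with h | h
    · exact absurd h hn1
    · exact h
  subst hn3
  revert hfac
  decide

/-- A simple group of order `p ^ 2 * q * r` with `p`, `q`, `r` distinct primes, `q < r`, has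
order 60. -/
theorem caseC (p q r : ℕ) (hp : p.Prime) (hq : q.Prime) (hr : r.Prime) (hpq : p ≠ q)
    (hpr : p ≠ r) (hqr : q < r) (hG : Nat.card G = p ^ 2 * q * r) : Nat.card G = 60 := by
  -- Step 1: the Sylow q-subgroup
  have hpq' : p < q := by
    have hcard : Nat.card G = q ^ 1 * (p ^ 2 * r) := by rw [hG]; ring
    have hqm : ¬ q ∣ p ^ 2 * r := by
      intro h
      rcases hq.dvd_mul.mp h with h1 | h1
      · exact hpq ((Nat.prime_dvd_prime_iff_eq hq hp).mp (hq.dvd_of_dvd_pow h1)).symm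
      · have := (Nat.prime_dvd_prime_iff_eq hq hr).mp h1; omega
    have hm : p ^ 2 * r ≠ 1 := by
      have h1 : 1 < p ^ 2 := Nat.one_lt_pow (by norm_num) hp.one_lt
      have h2 := hr.two_le
      nlinarith
    obtain ⟨t, n, ht, ht1, htn, hmod, hn1, hfac⟩ :=
      simple_sylow_test (G := G) q 1 (p ^ 2 * r) hq (Or.inl rfl) hcard hqm hm
    rw [pow_one] at ht1
    have htq : t < q := by
      have h1 : 0 < q - 1 := by have := hq.two_le; omega
      have := Nat.le_of_dvd h1 ht1
      omega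
    rcases ht.dvd_mul.mp (dvd_of_mul_right_dvd htn) with h1 | h1
    · have := (Nat.prime_dvd_prime_iff_eq ht hp).mp (ht.dvd_of_dvd_pow h1)
      omega
    · have := (Nat.prime_dvd_prime_iff_eq ht hr).mp h1
      omega
  -- Step 2: the Sylow p-subgroup
  have hp2 : p = 2 ∧ q = 3 := by
    have hcard : Nat.card G = p ^ 2 * (q * r) := by rw [hG]; ring
    have hpm : ¬ p ∣ q * r := by
      intro h
      rcases hp.dvd_mul.mp h with h1 | h1
      · exact hpq ((Nat.prime_dvd_prime_iff_eq hp hq).mp h1)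
      · exact hpr ((Nat.prime_dvd_prime_iff_eq hp hr).mp h1)
    have hm : q * r ≠ 1 := by
      have h1 := hq.two_le
      have h2 := hr.two_le
      nlinarith
    obtain ⟨t, n, ht, ht1, htn, hmod, hn1, hfac⟩ :=
      simple_sylow_test (G := G) p 2 (q * r) hp (Or.inr rfl) hcard hpm hm
    rcases ht.dvd_mul.mp (dvd_of_mul_right_dvd htn) with h1 | h1
    · have htq := (Nat.prime_dvd_prime_iff_eq ht hq).mp h1
      subst htq
      have h2 := dvd_succ_of_dvd_sq_sub_one hp ht hpq' ht1
      exact eq_two_three_of_dvd_succ hp ht hpq' h2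
    · have htr := (Nat.prime_dvd_prime_iff_eq ht hr).mp h1
      subst htr
      have hpt : p < t := by omega
      have h2 := dvd_succ_of_dvd_sq_sub_one hp ht hpt ht1
      have := eq_two_three_of_dvd_succ hp ht hpt h2
      omega
  obtain ⟨rfl, rfl⟩ := hp2
  -- Step 3: the Sylow r-subgroup
  have hr5 : 5 ≤ r := by
    by_contra h
    have h4 : r = 4 := by omega
    subst h4
    norm_num at hr
  have hcard : Nat.card G = r ^ 1 * 12 := by rw [hG]; ring
  have hrm : ¬ r ∣ 12 := by
    intro h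
    have h1 : r ∣ 2 ^ 2 * 3 := h
    rcases hr.dvd_mul.mp h1 with h2 | h2
    · have := (Nat.prime_dvd_prime_iff_eq hr Nat.prime_two).mp (hr.dvd_of_dvd_pow h2); omega
    · have := (Nat.prime_dvd_prime_iff_eq hr Nat.prime_three).mp h2; omega
  obtain ⟨t, n, ht, ht1, htn, hmod, hn1, hfac⟩ :=
    simple_sylow_test (G := G) r 1 12 hr (Or.inl rfl) hcard hrm (by norm_num)
  have ht2 := ht.two_le
  have hnpos : 0 < n := by
    rcases Nat.eq_zero_or_pos n with h | h
    · subst h; simp at htn
    · exact h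
  have hn6 : n ≤ 6 := by
    have h1 : t * n ≤ 12 := Nat.le_of_dvd (by norm_num) htn
    nlinarith
  have hn12 : n ∣ 12 := dvd_of_mul_left_dvd htn
  have hnr : r ≤ n := by
    by_contra h
    rw [Nat.mod_eq_of_lt (by omega)] at hmod
    exact hn1 hmod
  have hn : n = 6 := by
    interval_cases n <;> first | rfl | omega | (exact absurd hn12 (by decide))
  subst hn
  have hr' : r = 5 := by
    interval_cases r
    · rfl
    · simp at hmod
  subst hr'
  rw [hG]
  norm_num

/-- If a finite simple group has order p^2 * q * r with p, q and r prime, then its order is 60. -/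
theorem result {G : Type*} [Group G] [Finite G] [IsSimpleGroup G] (p q r : ℕ) (hp : p.Prime) (hq : q.Prime) (hr : r.Prime) (hG : Nat.card G = p ^ 2 * q * r) : Nat.card G = 60 := by
  by_cases hpq : p = q
  · subst hpq
    by_cases hpr : p = r
    · subst hpr
      exact (caseA p hp (by rw [hG]; ring)).elim
    · exact (caseB1 p r hp hr hpr (by rw [hG]; ring)).elim
  · by_cases hpr : p = r
    · subst hpr
      exact (caseB1 p q hp hq hpq (by rw [hG]; ring)).elim
    · by_cases hqr : q = r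
      · subst hqr
        rcases Nat.lt_or_gt_of_ne hpq with h | h
        · exact (caseB2 p q hp hq h (by rw [hG]; ring)).elim
        · exact (caseB2 q p hq hp h (by rw [hG]; ring)).elim
      · rcases Nat.lt_or_gt_of_ne hqr with h | h
        · exact caseC p q r hp hq hr hpq hpr h hG
        · exact caseC p r q hp hr hq hpr hpq h (by rw [hG]; ring)

end Cfsg.Agent.S0988
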