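import Cfsg.Statements.S0132
import Cfsg.Agent.Lib.helper67.Frobenius
import Cfsg.Agent.Lib.helper28.Fitting
import Cfsg.Agent.Lib.helper65.Fitting
import Cfsg.Agent.Lib.helper13.Basic
import Cfsg.Agent.Lib.helper1.Coprime

set_option autoImplicit false
open Cfsg

namespace Cfsg.Agent.S0132

open Pointwise
open scoped commutatorElement
open Cfsg.Agent.Lib.helper67

/-- A `p`-subgroup of `p'`-index contained in a Sylow `p`-subgroup is that Sylow subgroup. -/
theorem sylow_eq_of_le {M : Type*} [Group M] [Finite M] {p : ℕ} [Fact p.Prime]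
    (Q : Subgroup M) (P : Sylow p M) (hle : Q ≤ P) (hidx : Q.index.Coprime p) :
    (P : Subgroup M) = Q := by
  have hp : p.Prime := Fact.out
  have h6 : Q.relIndex P ∣ Q.index := Subgroup.relIndex_dvd_index_of_le hle
  have h7 : Q.relIndex P ∣ Nat.card (P : Subgroup M) := Subgroup.relIndex_dvd_card Q P
  obtain ⟨n, hn⟩ := P.2.exists_card_eq
  have h8 : Q.relIndex P = 1 := by
    rw [hn] at h7
    obtain ⟨m, -, hm⟩ := (Nat.dvd_prime_pow hp).mp h7
    have hc : (p ^ m).Coprime p := by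
      rw [← hm]; exact Nat.Coprime.coprime_dvd_left h6 hidx
    rcases m with _ | m
    · simpa using hm
    · exfalso
      rw [pow_succ] at hc
      have := Nat.Coprime.coprime_mul_left hc
      exact hp.one_lt.ne' ((Nat.coprime_self p).mp this)
  exact le_antisymm (Subgroup.relIndex_eq_one.mp h8) hle

/-- A minimal non-p-nilpotent finite group is a minimal non-nilpotent group with a normal Sylow p-subgroup. -/
theorem result {G : Type*} [Group G] [Finite G] {p : ℕ} [Fact p.Prime] (h1 : ¬ Cfsg.HasNormalPComplement p G) (h2 : ∀ H : Subgroup G, H ≠ ⊤ → Cfsg.HasNormalPComplement p H) : (∀ H : Subgroup G, H ≠ ⊤ → Group.IsNilpotent H) ∧ ¬ Group.IsNilpotent G ∧ ∀ P : Sylow p G, (P : Subgroup G).Normal := by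
  have hp : p.Prime := Fact.out
  have hF : ¬ FrobCond p G := fun h => h1 h.hasNormalPComplement
  unfold FrobCond at hF
  push Not at hF
  obtain ⟨Q, hQ, g, hgN, hgcop, hgC⟩ := hF
  set A : Subgroup G := Subgroup.zpowers g with hA
  have hAQ : A ≤ Subgroup.normalizer (Q : Set G) := by
    rw [hA, Subgroup.zpowers_le]; exact hgN
  -- `Q ⊔ A = ⊤`
  have htop : Q ⊔ A = ⊤ := by
    by_contra hne
    obtain ⟨P', N, hN, hc⟩ := h2 _ hne
    haveI := hN
    have hF' : FrobCond p ↥(Q ⊔ A) := frobCond_of_normal_complement N P' hc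
    have hgH : g ∈ Q ⊔ A := (le_sup_right : A ≤ Q ⊔ A) (Subgroup.mem_zpowers g)
    have h3 := hF' (Q.subgroupOf (Q ⊔ A)) hQ.comap_subtype ⟨g, hgH⟩ (by
      rw [Subgroup.mem_normalizer_iff]
      intro x
      rw [Subgroup.mem_subgroupOf, Subgroup.mem_subgroupOf]
      exact Subgroup.mem_normalizer_iff.mp hgN x) (by
      rw [Subgroup.orderOf_mk]; exact hgcop)
    apply hgC
    rw [Subgroup.mem_centralizer_iff]
    intro q hq
    have h4 := (Subgroup.mem_centralizer_iff.mp h3) ⟨q, (le_sup_left : Q ≤ Q ⊔ A) hq⟩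
      (Subgroup.mem_subgroupOf.mpr hq)
    exact congrArg Subtype.val h4
  have hQnormal : Q.Normal := by
    rw [← Subgroup.normalizer_eq_top_iff, eq_top_iff, ← htop]
    exact sup_le Subgroup.le_normalizer hAQ
  have hidx : Q.index.Coprime p := by
    have h3 : Nat.card (A ⊔ Q : Subgroup G) ∣ Nat.card A * Nat.card Q :=
      Cfsg.Agent.Lib.helper65.card_sup_dvd_mul hAQ
    rw [sup_comm, htop, Subgroup.card_top] at h3
    have h4 : Q.index * Nat.card Q = Nat.card G := Q.index_mul_card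
    rw [← h4] at h3
    have h5 : Q.index ∣ Nat.card A := Nat.dvd_of_mul_dvd_mul_right Nat.card_pos h3
    rw [hA, Nat.card_zpowers] at h5
    exact Nat.Coprime.coprime_dvd_left h5 hgcop
  have hsyl : ∀ P : Sylow p G, (P : Subgroup G) = Q := by
    intro P
    exact sylow_eq_of_le Q P (Cfsg.Agent.Lib.helper1.normal_pgroup_le_sylow Q hQ P) hidx
  -- all commutators lie in `Q`
  have hcomm : ∀ x y : G, x * y * x⁻¹ * y⁻¹ ∈ Q := by
    have hz : ∀ x : G, (QuotientGroup.mk' Q) x ∈ Subgroup.zpowers ((QuotientGroup.mk' Q) g) := by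
      intro x
      have hx : x ∈ ((Q ⊔ A : Subgroup G) : Set G) := by
        rw [htop]; exact Set.mem_univ x
      rw [Subgroup.normal_mul] at hx
      obtain ⟨q, hq, a, ha, rfl⟩ := hx
      obtain ⟨k, rfl⟩ := Subgroup.mem_zpowers_iff.mp ha
      have hq1 : (QuotientGroup.mk' Q) q = 1 := (QuotientGroup.eq_one_iff q).mpr hq
      rw [map_mul, hq1, one_mul, map_zpow]
      exact Subgroup.zpow_mem_zpowers _ k
    intro x y
    obtain ⟨a, ha⟩ := Subgroup.mem_zpowers_iff.mp (hz x)
    obtain ⟨b, hb⟩ := Subgroup.mem_zpowers_iff.mp (hz y)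
    have h3 : (QuotientGroup.mk' Q) (x * y * x⁻¹ * y⁻¹) = 1 := by
      rw [map_mul, map_mul, map_mul, map_inv, map_inv, ← ha, ← hb]
      rw [← zpow_add, ← zpow_neg, ← zpow_neg, ← zpow_add, ← zpow_add]
      have : a + b + -a + -b = 0 := by ring
      rw [this, zpow_zero]
    exact (QuotientGroup.eq_one_iff _).mp h3
  refine ⟨?_, ?_, ?_⟩
  · intro H hH
    obtain ⟨P', N, hN, hc⟩ := h2 H hH
    haveI := hN
    have hQH : (Q.subgroupOf H).Normal := hQnormal.subgroupOf H
    have hle : Q.subgroupOf H ≤ P' :=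
      Cfsg.Agent.Lib.helper1.normal_pgroup_le_sylow _ hQ.comap_subtype P'
    have hidxH : (Q.subgroupOf H).index.Coprime p :=
      Nat.Coprime.coprime_dvd_left (Subgroup.relIndex_dvd_index_of_normal (H := Q) (K := H)) hidx
    have hP' : (P' : Subgroup H) = Q.subgroupOf H := sylow_eq_of_le _ P' hle hidxH
    haveI : (P' : Subgroup H).Normal := hP' ▸ hQH
    haveI hNab : IsMulCommutative N := by
      refine ⟨⟨fun x y => ?_⟩⟩
      have h3 : ((x : H) * y * (x : H)⁻¹ * (y : H)⁻¹) ∈ N :=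
        N.mul_mem (N.mul_mem (N.mul_mem x.2 y.2) (N.inv_mem x.2)) (N.inv_mem y.2)
      have h4 : ((x : H) * y * (x : H)⁻¹ * (y : H)⁻¹) ∈ (P' : Subgroup H) := by
        rw [hP', Subgroup.mem_subgroupOf]
        exact hcomm _ _
      have h5 : ((x : H) * y * (x : H)⁻¹ * (y : H)⁻¹) = 1 := by
        have h6 : ((x : H) * y * (x : H)⁻¹ * (y : H)⁻¹) ∈ N ⊓ (P' : Subgroup H) := ⟨h3, h4⟩
        rw [hc.disjoint.eq_bot] at h6
        exact h6
      apply Subtype.ext
      have h7 := mul_inv_eq_one.mp h5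
      have h8 := mul_inv_eq_iff_eq_mul.mp h7
      exact h8
    have hNnil : Group.IsNilpotent N := Cfsg.Agent.Lib.helper13.isNilpotent_of_isMulCommutative N
    have hPnil : Group.IsNilpotent (P' : Subgroup H) := P'.2.isNilpotent
    have hsup := Cfsg.Agent.Lib.helper28.isNilpotent_sup N (P' : Subgroup H) hNnil hPnil
    rw [hc.sup_eq_top] at hsup
    exact Group.isNilpotent_top.mp hsup
  · intro hnil
    have hcopAQ : (Nat.card A).Coprime (Nat.card Q) := by
      obtain ⟨n, hn⟩ := hQ.exists_card_eq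
      rw [hn, hA, Nat.card_zpowers]; exact Nat.Coprime.pow_right n hgcop
    have hsolv : Group.IsSolvable A ∨ Group.IsSolvable Q := by
      right
      have : Group.IsNilpotent Q := hQ.isNilpotent
      infer_instance
    have hcc := Cfsg.Agent.Lib.helper1.commutator_commutator_eq A Q hAQ hcopAQ hsolv
    have key : ∀ n : ℕ, ⁅Q, A⁆ ≤ (⊤ : Subgroup G).lowerCentralSeries n := by
      intro n
      induction n with
      | zero => simp
      | succ n ih =>
        calc ⁅Q, A⁆ = ⁅⁅Q, A⁆, A⁆ := hcc.symm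
          _ ≤ ⁅(⊤ : Subgroup G).lowerCentralSeries n, (⊤ : Subgroup G)⁆ :=
            Subgroup.commutator_mono ih le_top
          _ = (⊤ : Subgroup G).lowerCentralSeries (n + 1) := rfl
    obtain ⟨n, hn⟩ := (Subgroup.isNilpotent_iff_lowerCentralSeries (⊤ : Subgroup G)).mp
      (Group.isNilpotent_top.mpr hnil)
    have h3 : ⁅Q, A⁆ = ⊥ := le_bot_iff.mp (hn ▸ key n)
    rw [Subgroup.commutator_eq_bot_iff_le_centralizer] at h3
    exact hgC (Subgroup.le_centralizer_iff.mp h3 (Subgroup.mem_zpowers g))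
  · intro P
    rw [hsyl P]
    exact hQnormal

end Cfsg.Agent.S0132
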