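import Cfsg.Statements.S0046
import Cfsg.Agent.Lib.helper2.SolvInduction
import Cfsg.Agent.S0035
import Mathlib.GroupTheory.Nilpotent
import Mathlib.Data.Fintype.Lattice

set_option autoImplicit false
open Cfsg
open scoped Pointwise

namespace Cfsg.Agent.S0046

/-- Normalizers grow in nilpotent groups (relative version). -/
theorem exists_mem_normalizer_not_mem {G : Type*} [Group G] (M D : Subgroup G)
    (hM : Group.IsNilpotent M) (hD : D < M) :
    ∃ x ∈ M, x ∈ Subgroup.normalizer (D : Set G) ∧ x ∉ D := by
  have hlt : D.subgroupOf M < ⊤ := by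
    rw [lt_top_iff_ne_top]
    intro h
    rw [Subgroup.subgroupOf_eq_top] at h
    exact absurd (le_antisymm hD.le h) hD.ne
  have h2 := normalizerCondition_of_isNilpotent (G := M) (D.subgroupOf M) hlt
  rw [← Subgroup.subgroupOf_normalizer_eq hD.le] at h2
  obtain ⟨x, hx1, hx2⟩ := SetLike.exists_of_lt h2
  exact ⟨x.1, x.2, hx1, hx2⟩

/-- A subgroup of a nilpotent subgroup is nilpotent. -/
theorem isNilpotent_of_le {G : Type*} [Group G] {H K : Subgroup G} (h : H ≤ K)
    (hK : Group.IsNilpotent K) : Group.IsNilpotent H := by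
  haveI : Group.IsNilpotent (H.subgroupOf K) := inferInstance
  exact Group.nilpotent_of_mulEquiv (Subgroup.subgroupOfEquivOfLe h)

/-- A conjugate of a coatom is a coatom. -/
theorem isCoatom_conj {G : Type*} [Group G] (M : Subgroup G) (hM : IsCoatom M) (g : G) :
    IsCoatom (MulAut.conj g • M) := by
  refine ⟨?_, ?_⟩
  · intro h
    apply hM.1
    have h2 : M = (MulAut.conj g)⁻¹ • (MulAut.conj g • M) := (inv_smul_smul _ _).symm
    rw [h2, h]
    rw [eq_top_iff]
    intro x _
    rw [Subgroup.mem_pointwise_smul_iff_inv_smul_mem]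
    exact Subgroup.mem_top _
  · intro K hK
    have h1 : M < (MulAut.conj g)⁻¹ • K := by
      have h2 : M = (MulAut.conj g)⁻¹ • (MulAut.conj g • M) := (inv_smul_smul _ _).symm
      rw [h2]
      refine lt_of_le_of_ne ?_ ?_
      · exact Subgroup.pointwise_smul_le_pointwise_smul_iff.mpr hK.le
      · intro h3
        have h4 := congrArg (fun L => MulAut.conj g • L) h3
        simp only [smul_inv_smul] at h4
        exact hK.ne h4
    have h5 := hM.2 _ h1
    have h6 : K = MulAut.conj g • ((MulAut.conj g)⁻¹ • K) := (smul_inv_smul _ _).symm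
    rw [h6, h5, eq_top_iff]
    intro x _
    rw [Subgroup.mem_pointwise_smul_iff_inv_smul_mem]
    exact Subgroup.mem_top _

/-- In a finite simple group with all maximal subgroups nilpotent, distinct maximal subgroups
intersect trivially. -/
theorem inf_eq_bot_of_coatoms {G : Type*} [Group G] [Finite G] [IsSimpleGroup G]
    (h : ∀ M : Subgroup G, IsCoatom M → Group.IsNilpotent M)
    (M₁ M₂ : Subgroup G) (h1 : IsCoatom M₁) (h2 : IsCoatom M₂) (hne : M₁ ≠ M₂) :
    M₁ ⊓ M₂ = ⊥ := by
  by_contra hcon
  let S := {p : Subgroup G × Subgroup G // IsCoatom p.1 ∧ IsCoatom p.2 ∧ p.1 ≠ p.2 ∧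
    p.1 ⊓ p.2 ≠ ⊥}
  haveI : Nonempty S := ⟨⟨(M₁, M₂), h1, h2, hne, hcon⟩⟩
  obtain ⟨⟨⟨A, B⟩, hA, hB, hAB, hD⟩, hmax⟩ :=
    Finite.exists_max (fun p : S => Nat.card (p.1.1 ⊓ p.1.2 : Subgroup G))
  simp only at hA hB hAB hD hmax
  set D := A ⊓ B with hDdef
  have hDA : D < A := by
    refine lt_of_le_of_ne inf_le_left ?_
    intro h3
    have : A ≤ B := by rw [← h3]; exact inf_le_right
    exact hAB ((hA.le_iff_eq hB.1).mp this).symm
  have hDB : D < B := by
    refine lt_of_le_of_ne inf_le_right ?_
    intro h3
    have : B ≤ A := by rw [← h3]; exact inf_le_left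
    exact hAB ((hB.le_iff_eq hA.1).mp this)
  obtain ⟨x, hxA, hxN, hxD⟩ := exists_mem_normalizer_not_mem A D (h A hA) hDA
  obtain ⟨y, hyB, hyN, hyD⟩ := exists_mem_normalizer_not_mem B D (h B hB) hDB
  have hNtop : Subgroup.normalizer (D : Set G) ≠ ⊤ := by
    intro h3
    have hn : D.Normal := Subgroup.normalizer_eq_top_iff.mp h3
    rcases hn.eq_bot_or_eq_top with h4 | h4
    · exact hD h4
    · rw [h4] at hDA
      exact hA.1 (top_le_iff.mp hDA.le)
  obtain ⟨C, hC, hNC⟩ := (eq_top_or_exists_le_coatom _).resolve_left hNtop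
  have hDC : D ≤ C := le_trans Subgroup.le_normalizer hNC
  have key : ∀ (E : Subgroup G) (z : G), IsCoatom E → D ≤ E → z ∈ E → z ∈ C → z ∉ D →
      (∀ p : S, Nat.card (p.1.1 ⊓ p.1.2 : Subgroup G) ≤ Nat.card D) → E = C := by
    intro E z hE hDE hzE hzC hzD hm
    by_contra hEC
    have hne' : E ⊓ C ≠ ⊥ := by
      intro h5
      apply hD
      rw [eq_bot_iff, ← h5]
      exact le_inf hDE hDC
    have h6 := hm ⟨(E, C), hE, hC, hEC, hne'⟩
    simp only at h6
    have h7 : D = E ⊓ C := Subgroup.eq_of_le_of_card_ge (le_inf hDE hDC) h6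
    apply hzD
    rw [h7]
    exact ⟨hzE, hzC⟩
  have e1 : A = C := key A x hA hDA.le hxA (hNC hxN) hxD hmax
  have e2 : B = C := key B y hB hDB.le hyB (hNC hyN) hyD hmax
  exact hAB (e1.trans e2.symm)

/-- The simple case of Schmidt's theorem. -/
theorem simple_case {G : Type*} [Group G] [Finite G] [IsSimpleGroup G]
    (h : ∀ M : Subgroup G, IsCoatom M → Group.IsNilpotent M) : Group.IsSolvable G := by
  by_cases hbot : IsCoatom (⊥ : Subgroup G)
  · -- G is cyclic
    obtain ⟨g, hg⟩ := exists_ne (1 : G)
    have h1 : Subgroup.zpowers g = ⊤ := by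
      apply hbot.2
      rw [bot_lt_iff_ne_bot]
      intro h2
      exact hg (Subgroup.zpowers_eq_bot.mp h2)
    haveI : IsCyclic G := ⟨⟨g, fun x => by
      have : x ∈ Subgroup.zpowers g := by rw [h1]; exact Subgroup.mem_top x
      exact this⟩⟩
    letI : CommGroup G := IsCyclic.commGroup
    infer_instance
  · exfalso
    obtain ⟨M, hM, -⟩ := (eq_top_or_exists_le_coatom (⊥ : Subgroup G)).resolve_left bot_ne_top
    have hMbot : M ≠ ⊥ := by
      rintro rfl
      exact hbot hM
    have hnorm : ∀ g : G, g ∉ M → MulAut.conj g • M ≠ M := by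
      intro g hg h3
      -- then g normalizes M, so normalizer M is bigger than M, hence ⊤, so M normal
      have hgN : g ∈ Subgroup.normalizer (M : Set G) := by
        rw [Subgroup.mem_normalizer_iff]
        intro x
        constructor
        · intro hx
          have : g * x * g⁻¹ ∈ MulAut.conj g • M :=
            ⟨x, hx, rfl⟩
          rw [h3] at this
          exact this
        · intro hx
          rw [← h3] at hx
          obtain ⟨y, hy, hyx⟩ := hx
          have hyx' : g * y * g⁻¹ = g * x * g⁻¹ := hyx
          have : y = x := by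
            have := congrArg (fun t => g⁻¹ * t * g) hyx'
            simpa [mul_assoc] using this
          rw [← this]
          exact hy
      have hlt : M < Subgroup.normalizer (M : Set G) :=
        lt_of_le_of_ne Subgroup.le_normalizer (fun h4 => hg (by rw [h4]; exact hgN))
      have htop := hM.2 _ hlt
      have hn : M.Normal := Subgroup.normalizer_eq_top_iff.mp htop
      rcases hn.eq_bot_or_eq_top with h4 | h4
      · exact hMbot h4
      · exact hM.1 h4
    have hF : Cfsg.IsFrobeniusComplement M := by
      refine ⟨hMbot, hM.1, ?_⟩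
      intro g hg
      exact inf_eq_bot_of_coatoms h M _ hM (isCoatom_conj M hM g) (hnorm g hg).symm
    obtain ⟨N, -, hN, hc⟩ := Cfsg.Agent.S0035.result M hF
    rcases hN.eq_bot_or_eq_top with h4 | h4
    · rw [h4, Subgroup.isComplement'_bot_left] at hc
      exact hM.1 hc
    · rw [h4, Subgroup.isComplement'_top_left] at hc
      exact hMbot hc

/-- Schmidt's Theorem on minimal non-nilpotent groups: a finite group in which every maximal subgroup is nilpotent is solvable. -/
theorem result {G : Type*} [Group G] [Finite G]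
    (h : ∀ M : Subgroup G, IsCoatom M → Group.IsNilpotent M) : Group.IsSolvable G := by
  refine Cfsg.Agent.Lib.helper2.isSolvable_induction
    (fun (H : Type _) [Group H] => ∀ M : Subgroup H, IsCoatom M → Group.IsNilpotent M)
    ?_ ?_ ?_ G h
  · -- quotients
    intro H _ _ N _ hH M' hM'
    have hsurj := QuotientGroup.mk'_surjective N
    have hmc : (M'.comap (QuotientGroup.mk' N)).map (QuotientGroup.mk' N) = M' :=
      Subgroup.map_comap_eq_self_of_surjective hsurj M'
    have hco : IsCoatom (M'.comap (QuotientGroup.mk' N)) := by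
      refine ⟨?_, ?_⟩
      · intro h1
        rw [h1] at hmc
        apply hM'.1
        rw [← hmc]
        exact Subgroup.map_top_of_surjective _ hsurj
      · intro K hK
        have hker : (QuotientGroup.mk' N).ker ≤ K :=
          le_trans (by
            intro x hx
            rw [Subgroup.mem_comap]
            rw [MonoidHom.mem_ker] at hx
            rw [hx]
            exact one_mem _) hK.le
        have hcm : (K.map (QuotientGroup.mk' N)).comap (QuotientGroup.mk' N) = K :=
          Subgroup.comap_map_eq_self hker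
        have hle : M' ≤ K.map (QuotientGroup.mk' N) := by
          rw [← hmc]
          exact Subgroup.map_mono hK.le
        have hlt : M' < K.map (QuotientGroup.mk' N) := by
          refine lt_of_le_of_ne hle ?_
          intro h2
          rw [← h2] at hcm
          exact hK.ne hcm
        have h3 := hM'.2 _ hlt
        rw [h3] at hcm
        rw [← hcm]
        rfl
    haveI := hH _ hco
    have h4 : Group.IsNilpotent ((M'.comap (QuotientGroup.mk' N)).map (QuotientGroup.mk' N)) :=
      Group.nilpotent_of_surjective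
        ((QuotientGroup.mk' N).subgroupMap (M'.comap (QuotientGroup.mk' N)))
        (MonoidHom.subgroupMap_surjective _ _)
    rw [hmc] at h4
    exact h4
  · -- proper normal subgroups
    intro H _ _ N _ hH hN M' _
    obtain ⟨C, hC, hNC⟩ := (eq_top_or_exists_le_coatom N).resolve_left hN
    haveI : Group.IsNilpotent N := isNilpotent_of_le hNC (hH C hC)
    infer_instance
  · intro H _ _ hH hs
    exact simple_case hH

end Cfsg.Agent.S0046
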