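import Cfsg.Statements.S0536
import Cfsg.Agent.S0046
import Cfsg.Agent.Lib.helper2.Schmidt
import Cfsg.Agent.Lib.helper2.SylowExtra
import Cfsg.Agent.Lib.helper65.Fitting

set_option autoImplicit false
open Cfsg

namespace Cfsg.Agent.S0536

open Cfsg.Agent.Lib.helper2

/-- Structure of minimal non-nilpotent groups, with the extra information that the Sylow
`p`-subgroup is not normal and that `|G| = |P| |Q|`. -/
theorem structure_aux {G : Type*} [Group G] [Finite G] (hG : Cfsg.IsMinimalNonNilpotent G) :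
    ∃ p q : ℕ, p.Prime ∧ q.Prime ∧ p ≠ q ∧ ∃ (P : Sylow p G) (Q : Sylow q G),
      IsCyclic P ∧ (Q : Subgroup G).Normal ∧ (P : Subgroup G) ⊔ Q = ⊤ ∧
      ¬ (P : Subgroup G).Normal ∧ Nat.card G = Nat.card P * Nat.card Q := by
  have hsolv : Group.IsSolvable G := Cfsg.Agent.S0046.result (fun M hM => hG.2 M hM.1)
  haveI : Nontrivial G := by
    by_contra hnt
    rw [not_nontrivial_iff_subsingleton] at hnt
    exact hG.1 inferInstance
  obtain ⟨M, hMn, hMp⟩ := exists_normal_prime_index G
  haveI := hMn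
  obtain ⟨p, hp⟩ : ∃ p, M.index = p := ⟨_, rfl⟩
  rw [hp] at hMp
  have hMtop : M ≠ ⊤ := by
    intro h
    rw [h, Subgroup.index_top] at hp
    rw [← hp] at hMp
    exact Nat.not_prime_one hMp
  have hMnil : Group.IsNilpotent M := hG.2 M hMtop
  have hnormal : ∀ (q : ℕ) [Fact q.Prime], q ≠ p → ∀ Q : Sylow q G, (Q : Subgroup G).Normal := by
    intro q _ hqp Q
    exact sylow_normal_of_le_nilpotent_normal M hMnil Q (sylow_le_of_prime_index M hp hMp hqp Q)
  haveI : Fact p.Prime := ⟨hMp⟩
  have hP : ∀ P : Sylow p G, ¬ (P : Subgroup G).Normal := by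
    intro P hPn
    apply hG.1
    have q := (Group.isNilpotent_of_finite_tfae (G := G)).out 0 3
    rw [q]
    intro r hr R
    by_cases hrp : r = p
    · subst hrp
      haveI : Unique (Sylow r G) := Sylow.unique_of_normal P hPn
      rw [Subsingleton.elim R P]
      exact hPn
    · exact hnormal r hrp R
  obtain ⟨P⟩ : Nonempty (Sylow p G) := inferInstance
  have hPn := hP P
  have hex : ∃ (q : ℕ) (_ : Fact q.Prime) (Q : Sylow q G), q ≠ p ∧ (P : Subgroup G) ⊔ Q = ⊤ := by
    by_contra hcon
    push_neg at hcon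
    apply hPn
    rw [← Subgroup.normalizer_eq_top_iff]
    apply eq_top_of_forall_sylow_le
    intro q hq
    by_cases hqp : q = p
    · subst hqp
      exact ⟨P, Subgroup.le_normalizer⟩
    · obtain ⟨Q⟩ : Nonempty (Sylow q G) := inferInstance
      refine ⟨Q, ?_⟩
      have hne := hcon q hq Q hqp
      have hLnil := hG.2 _ hne
      have hcomm := commute_of_le_isNilpotent ((P : Subgroup G) ⊔ Q) hLnil (Ne.symm hqp)
        (P : Subgroup G) (Q : Subgroup G) le_sup_left le_sup_right P.2 Q.2
      refine le_trans ?_ (Subgroup.centralizer_le_normalizer (s := ((P : Subgroup G) : Set G)))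
      intro y hy
      rw [Subgroup.mem_centralizer_iff]
      intro x hx
      exact hcomm x hx y hy
  obtain ⟨q, hq, Q, hqp, hPQ⟩ := hex
  haveI := hq
  have hQn := hnormal q hqp Q
  -- |G| = |P| |Q|
  have hPNQ : (P : Subgroup G) ≤ Subgroup.normalizer ((Q : Subgroup G) : Set G) := by
    rw [Subgroup.normalizer_eq_top_iff.mpr hQn]
    exact le_top
  have hcop : (Nat.card (P : Subgroup G)).Coprime (Nat.card (Q : Subgroup G)) := by
    obtain ⟨a, ha⟩ := P.2.exists_card_eq
    obtain ⟨b, hb⟩ := Q.2.exists_card_eq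
    rw [ha, hb]
    exact Nat.Coprime.pow a b ((Nat.coprime_primes hMp hq.out).mpr (Ne.symm hqp))
  have hcard : Nat.card G = Nat.card (P : Subgroup G) * Nat.card (Q : Subgroup G) := by
    apply Nat.dvd_antisymm
    · have := Cfsg.Agent.Lib.helper65.card_sup_dvd_mul hPNQ
      rw [hPQ, Subgroup.card_top] at this
      exact this
    · exact Nat.Coprime.mul_dvd_of_dvd_of_dvd hcop (Subgroup.card_subgroup_dvd_card _)
        (Subgroup.card_subgroup_dvd_card _)
  refine ⟨p, q, hMp, hq.out, Ne.symm hqp, P, Q, ?_, hQn, hPQ, hPn, hcard⟩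
  apply isCyclic_of_coatoms_eq
  intro M₁ M₂ h1 h2
  by_contra hne
  have key : ∀ M' : Subgroup (P : Subgroup G), IsCoatom M' →
      M' ≤ (Subgroup.centralizer ((Q : Subgroup G) : Set G)).subgroupOf (P : Subgroup G) := by
    intro M' hM'
    set M'' : Subgroup G := M'.map (P : Subgroup G).subtype with hM''
    have hM''P : M'' ≤ P := Subgroup.map_subtype_le _
    have hcardM : Nat.card M'' < Nat.card (P : Subgroup G) := by
      rw [hM'', Subgroup.card_map_of_injective (Subgroup.subtype_injective _)]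
      by_contra hge
      push_neg at hge
      exact hM'.1 (Subgroup.eq_top_of_le_card _ hge)
    have hL : M'' ⊔ (Q : Subgroup G) ≠ ⊤ := by
      intro htop
      have hM''NQ : M'' ≤ Subgroup.normalizer ((Q : Subgroup G) : Set G) := hM''P.trans hPNQ
      have h3 := Cfsg.Agent.Lib.helper65.card_sup_dvd_mul hM''NQ
      rw [htop, Subgroup.card_top, hcard] at h3
      have hQpos : 0 < Nat.card (Q : Subgroup G) := Nat.card_pos
      have h4 : Nat.card (P : Subgroup G) ∣ Nat.card M'' :=
        Nat.dvd_of_mul_dvd_mul_right hQpos h3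
      have h5 : Nat.card (P : Subgroup G) ≤ Nat.card M'' := Nat.le_of_dvd Nat.card_pos h4
      omega
    have hLnil := hG.2 _ hL
    have hcomm := commute_of_le_isNilpotent (M'' ⊔ (Q : Subgroup G)) hLnil (Ne.symm hqp)
      M'' (Q : Subgroup G) le_sup_left le_sup_right (P.2.to_le hM''P) Q.2
    intro x hx
    rw [Subgroup.mem_subgroupOf, Subgroup.mem_centralizer_iff]
    intro y hy
    exact (hcomm (x : G) ⟨x, hx, rfl⟩ y hy).symm
  have hsup : M₁ ⊔ M₂ = ⊤ := by
    apply h1.2
    refine lt_of_le_of_ne le_sup_left ?_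
    intro h
    have h3 : M₂ ≤ M₁ := by rw [h]; exact le_sup_right
    exact hne ((h2.le_iff_eq h1.1).mp h3)
  have hall : (⊤ : Subgroup (P : Subgroup G)) ≤
      (Subgroup.centralizer ((Q : Subgroup G) : Set G)).subgroupOf (P : Subgroup G) := by
    rw [← hsup]
    exact sup_le (key M₁ h1) (key M₂ h2)
  apply hPn
  rw [← Subgroup.normalizer_eq_top_iff, eq_top_iff, ← hPQ]
  refine sup_le Subgroup.le_normalizer ?_
  refine le_trans ?_ (Subgroup.centralizer_le_normalizer (s := ((P : Subgroup G) : Set G)))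
  intro y hy
  rw [Subgroup.mem_centralizer_iff]
  intro x hx
  have h4 := hall (Subgroup.mem_top (⟨x, hx⟩ : (P : Subgroup G)))
  rw [Subgroup.mem_subgroupOf, Subgroup.mem_centralizer_iff] at h4
  exact (h4 y hy).symm

/-- Structure of minimal non-nilpotent groups: if a finite group is not nilpotent but all its proper subgroups are, then there are distinct primes p and q, a cyclic Sylow p-subgroup P and a normal Sylow q-subgroup Q with G generated by P and Q. -/
theorem result {G : Type*} [Group G] [Finite G] (hG : Cfsg.IsMinimalNonNilpotent G) : ∃ p q : ℕ, p.Prime ∧ q.Prime ∧ p ≠ q ∧ ∃ (P : Sylow p G) (Q : Sylow q G), IsCyclic P ∧ (Q : Subgroup G).Normal ∧ (P : Subgroup G) ⊔ Q = ⊤ := by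
  obtain ⟨p, q, hp, hq, hpq, P, Q, h1, h2, h3, -, -⟩ := structure_aux hG
  exact ⟨p, q, hp, hq, hpq, P, Q, h1, h2, h3⟩

end Cfsg.Agent.S0536
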