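import Cfsg.Statements.S0985
import Cfsg.Agent.Lib.helper21.Orbits
import Mathlib

set_option autoImplicit false
open Cfsg

namespace Cfsg.Agent.S0985

open MulAction Cfsg.Agent.Lib.helper21

/-- If the number of Sylow p-subgroups of a finite group is not congruent to 1 modulo p^k, then there are two distinct Sylow p-subgroups P and R such that the index of P ∩ R in P is at most p^(k-1). -/
theorem result {G : Type*} [Group G] [Finite G] (p k : ℕ) [Fact p.Prime] (h : ¬ Nat.card (Sylow p G) ≡ 1 [MOD p ^ k]) : ∃ P R : Sylow p G, P ≠ R ∧ ((R : Subgroup G).subgroupOf (P : Subgroup G)).index ≤ p ^ (k - 1) := by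
  by_contra hcon
  push Not at hcon
  apply h
  have hk : k ≠ 0 := by
    rintro rfl
    apply h
    rw [pow_zero]
    exact Nat.modEq_one
  obtain ⟨P⟩ : Nonempty (Sylow p G) := inferInstance
  apply card_modEq_one_of_dvd_card_orbit (H := (P : Subgroup G)) (p ^ k) P
  · intro g
    exact Sylow.smul_eq_iff_mem_normalizer.mpr (Subgroup.le_normalizer g.2)
  · intro R hR
    have hstab : stabilizer (P : Subgroup G) R = (R : Subgroup G).subgroupOf (P : Subgroup G) := by
      have h1 : stabilizer (P : Subgroup G) R
          = (Subgroup.normalizer ((R : Subgroup G) : Set G)).subgroupOf (P : Subgroup G) := by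
        ext g
        rw [mem_stabilizer_iff, Subgroup.mem_subgroupOf]
        exact Sylow.smul_eq_iff_mem_normalizer
      have h2 : (P : Subgroup G) ⊓ Subgroup.normalizer ((R : Subgroup G) : Set G)
          = (P : Subgroup G) ⊓ (R : Subgroup G) := P.2.inf_normalizer_sylow R
      rw [h1, ← Subgroup.inf_subgroupOf_left, h2, Subgroup.inf_subgroupOf_left]
    have hidx : Nat.card (orbit (P : Subgroup G) R) = ((R : Subgroup G).subgroupOf (P : Subgroup G)).index := by
      rw [← hstab, index_stabilizer, Nat.card_coe_set_eq]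
    rw [hidx]
    have hlt := hcon P R (Ne.symm hR)
    obtain ⟨n, hn⟩ := P.2.exists_card_eq
    have hdvd : ((R : Subgroup G).subgroupOf (P : Subgroup G)).index ∣ p ^ n := by
      rw [← hn]; exact Subgroup.index_dvd_card _
    obtain ⟨j, -, hj⟩ := (Nat.dvd_prime_pow Fact.out).mp hdvd
    rw [hj] at hlt ⊢
    have hp1 : 1 < p := (Fact.out : p.Prime).one_lt
    have : k - 1 < j := (Nat.pow_lt_pow_iff_right hp1).mp hlt
    exact pow_dvd_pow p (by omega)

end Cfsg.Agent.S0985
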