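import Cfsg.Statements.S4658
-- import your own Cfsg.Agent.* helpers here
import Cfsg.Agent.Lib.helper80.NormalSubpair

set_option autoImplicit false
open Cfsg

namespace Cfsg.Agent.S4658

open Cfsg.Agent.Lib

/-- One normal step: a block has the larger pair iff it has the smaller one. -/
theorem step {G : Type*} [Group G] [Fintype G] (p : ℕ) [Fact p.Prime] (M : Ideal Cfsg.AlgInt)
    (hM : Cfsg.IsPModular p M) (P Q : Subgroup G)
    (e : Set (Cfsg.IrrCharacter (Subgroup.centralizer (P : Set G))))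
    (f : Set (Cfsg.IrrCharacter (Subgroup.centralizer (Q : Set G))))
    (h : Cfsg.IsNormalSubpair p M Q f P e) (B : Set (Cfsg.IrrCharacter G))
    (hB : Cfsg.IsPBlock M B) :
    Cfsg.IsBrauerPairOf p M B P e ↔ Cfsg.IsBrauerPairOf p M B Q f := by
  classical
  have hMp : M.IsPrime := helper20.isPrime_of_isPModular hM
  have := Fintype.ofFinite (Subgroup.centralizer (Q : Set G))
  obtain ⟨hQf, hPe, hQP, hPN, hst, hc⟩ := h
  obtain ⟨χ, h1, h2, h3⟩ := helper80.exists_irr_normalSubpair hM P Q e hPe hQP hPN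
  have hf : f = blockOf M (χ : Subgroup.centralizer (Q : Set G) → ℂ) :=
    h2 f ⟨hQf, hPe, hQP, hPN, hst, hc⟩
  subst hf
  have hCH : Subgroup.centralizer (P : Set G) ≤ Subgroup.centralizer (Q : Set G) :=
    Subgroup.centralizer_le (SetLike.coe_subset_coe.mpr hQP)
  have hz : helper80.invAlg M (Subgroup.centralizer (Q : Set G)) P
      (fun k : Subgroup.centralizer (Q : Set G) => blockCoeff B (k : G)) := by
    refine ⟨?_, ?_, ?_⟩
    · intro k h
      exact helper80.blockCoeff_classFun B (k : G) (h : G)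
    · intro k
      exact helper81.memLocalRing_blockCoeff' hMp hB _
    · intro x _ k k' h
      show blockCoeff B (k' : G) = blockCoeff B (k : G)
      rw [h]
      exact helper80.blockCoeff_classFun B (k : G) x
  have key : ∀ ξ ∈ e, ∀ η ∈ blockOf M (χ : Subgroup.centralizer (Q : Set G) → ℂ),
      MemLocalIdeal M (brauerOmega P (blockCoeff B) (ξ : Subgroup.centralizer (P : Set G) → ℂ)
        - brauerOmega Q (blockCoeff B) (η : Subgroup.centralizer (Q : Set G) → ℂ)) := by
    intro ξ hξ η hη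
    have h4 := h3 ξ hξ _ hz
    rw [helper80.brauerOmega_congr P (β₂ := blockCoeff B)
      (fun x hx => helper80.extFun_of_mem (Subgroup.centralizer (Q : Set G)) _ (hCH hx))] at h4
    have h5 := helper80.memLocalIdeal_om_sub hMp χ η hη _ hz.1 hz.2.1
    have h6 := helper20.memLocalIdeal_add hMp h4 h5
    rw [sub_add_sub_cancel] at h6
    rw [helper80.brauerOmega_eq_om Q]
    exact h6
  constructor
  · rintro ⟨-, -, hcong⟩
    refine ⟨hQf, hB, fun η hη => ?_⟩
    obtain ⟨ξ₀, hξ₀⟩ := helper80.isPBlock_nonempty hMp hPe.2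
    have h7 := helper20.memLocalIdeal_sub hMp (hcong ξ₀ hξ₀) (key ξ₀ hξ₀ η hη)
    have h8 : brauerOmega P (blockCoeff B) (ξ₀ : Subgroup.centralizer (P : Set G) → ℂ) - 1
        - (brauerOmega P (blockCoeff B) (ξ₀ : Subgroup.centralizer (P : Set G) → ℂ)
          - brauerOmega Q (blockCoeff B) (η : Subgroup.centralizer (Q : Set G) → ℂ))
        = brauerOmega Q (blockCoeff B) (η : Subgroup.centralizer (Q : Set G) → ℂ) - 1 := by ring
    rwa [h8] at h7
  · rintro ⟨-, -, hcong⟩
    refine ⟨hPe, hB, fun ξ hξ => ?_⟩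
    have h7 := helper20.memLocalIdeal_add hMp (key ξ hξ χ (helper80.mem_blockOf_self hMp χ))
      (hcong χ (helper80.mem_blockOf_self hMp χ))
    rwa [sub_add_sub_cancel] at h7

theorem chain {G : Type*} [Group G] [Fintype G] (p : ℕ) [Fact p.Prime] (M : Ideal Cfsg.AlgInt)
    (hM : Cfsg.IsPModular p M) (B : Set (Cfsg.IrrCharacter G)) (hB : Cfsg.IsPBlock M B)
    (a b : Cfsg.BrauerPairIdx G) (h : Relation.ReflTransGen (Cfsg.NormalSubpairRel p M) a b) :
    Cfsg.IsBrauerPairOf p M B b.1 b.2 ↔ Cfsg.IsBrauerPairOf p M B a.1 a.2 := by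
  induction h with
  | refl => exact Iff.rfl
  | tail _ hbc ih => exact (step p M hM _ _ _ _ hbc B hB).trans ih

/-- Fix a prime p and a maximal ideal M of the algebraic integers containing p. Let (Q, f) ≤ (P, e) be Brauer pairs of the finite group G and B a p-block of G. Then (P, e) is a Brauer pair of B if and only if (Q, f) is. -/
theorem result {G : Type*} [Group G] [Fintype G] (p : ℕ) [Fact p.Prime] (M : Ideal Cfsg.AlgInt) (hM : Cfsg.IsPModular p M) (P Q : Subgroup G) (e : Set (Cfsg.IrrCharacter (Subgroup.centralizer (P : Set G)))) (f : Set (Cfsg.IrrCharacter (Subgroup.centralizer (Q : Set G)))) (hPe : Cfsg.IsBrauerPair p M P e) (hQf : Cfsg.IsBrauerPair p M Q f) (hle : Cfsg.SubpairLE p M Q f P e) (B : Set (Cfsg.IrrCharacter G)) (hB : Cfsg.IsPBlock M B) : Cfsg.IsBrauerPairOf p M B P e ↔ Cfsg.IsBrauerPairOf p M B Q f := by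
  exact chain p M hM B hB ⟨Q, f⟩ ⟨P, e⟩ hle

end Cfsg.Agent.S4658
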