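import Cfsg.Statements.S5092
import Cfsg.Agent.S5082
import Cfsg.Agent.Lib.helper26.PResidual
import Cfsg.Agent.Lib.helper88.Saturated
import Cfsg.Agent.Lib.helper89.FusionSat

set_option autoImplicit false
open Cfsg

namespace Cfsg.Agent.S5092


open scoped commutatorElement

/-- in a finite group every element is a product of an element of a given Sylow `p`-subgroup and
an element of `O^p`. -/
theorem exists_mul_sylow_pResidual {A : Type*} [Group A] [Finite A] {p : ℕ} [Fact p.Prime]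
    (Sy : Sylow p A) (a : A) :
    ∃ s ∈ (Sy : Subgroup A), ∃ r ∈ Cfsg.pResidual p A, a = s * r := by
  haveI := Cfsg.Agent.Lib.helper26.pResidual_normal p A
  have hq : IsPGroup p (A ⧸ Cfsg.pResidual p A) :=
    Cfsg.Agent.Lib.helper26.isPGroup_quotient_of_pResidual_le _ le_rfl
  have hsurj := QuotientGroup.mk'_surjective (Cfsg.pResidual p A)
  have htop : (⊤ : Subgroup (A ⧸ Cfsg.pResidual p A)) =
      ((Sy.mapSurjective hsurj : Sylow p (A ⧸ Cfsg.pResidual p A)) :
        Subgroup (A ⧸ Cfsg.pResidual p A)) :=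
    (Sy.mapSurjective hsurj).is_maximal' (hq.to_subgroup ⊤) le_top
  have h1 : QuotientGroup.mk' (Cfsg.pResidual p A) a ∈
      ((Sy.mapSurjective hsurj : Sylow p (A ⧸ Cfsg.pResidual p A)) :
        Subgroup (A ⧸ Cfsg.pResidual p A)) := by
    rw [← htop]
    exact Subgroup.mem_top _
  rw [Sylow.coe_mapSurjective] at h1
  obtain ⟨s, hs, hsq⟩ := h1
  exact ⟨s, hs, s⁻¹ * a, QuotientGroup.eq.1 hsq, by group⟩

/-- the subsystem of the maps `φ` of `F` with `x⁻¹ φ(x) ∈ K` for all `x`, for a subgroup `K`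
containing `[S, S]`. -/
def focalSystem {Ω : Type*} [Group Ω] {S : Subgroup Ω} (F : Cfsg.FusionSystem S) (K : Subgroup Ω)
    (hK : ⁅(S : Subgroup Ω), (S : Subgroup Ω)⁆ ≤ K) : Cfsg.FusionSystem S where
  Hom P := {φ | φ ∈ F.Hom P ∧ ∀ x : P, (x : Ω)⁻¹ * φ x ∈ K}
  le_of_mem h := F.le_of_mem h.1
  injective_of_mem h := F.injective_of_mem h.1
  conj_mem := fun {P g} hP hg => ⟨F.conj_mem hP hg, fun x => hK (by
    have h1 : (x : Ω)⁻¹ * conjHom P g x = ⁅(x : Ω)⁻¹, g⁆ := by
      simp [conjHom, commutatorElement_def, mul_assoc]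
    rw [h1]
    exact Subgroup.commutator_mem_commutator (S.inv_mem (hP x.2)) hg)⟩
  comp_mem := fun {P Q φ ψ} hφ hψ h => ⟨F.comp_mem hφ.1 hψ.1 h, fun x => by
    have h1 : (x : Ω)⁻¹ * (ψ.comp (φ.codRestrict Q h)) x =
        ((x : Ω)⁻¹ * φ x) * ((φ x)⁻¹ * ψ ⟨φ x, h x⟩) := by
      simp [mul_assoc]
    rw [h1]
    exact K.mul_mem (hφ.2 x) (hψ.2 ⟨φ x, h x⟩)⟩
  inv_mem := by
    intro P φ hφ
    obtain ⟨ψ, hψ, hinv⟩ := F.inv_mem hφ.1
    refine ⟨ψ, ⟨hψ, ?_⟩, hinv⟩
    rintro ⟨_, x, rfl⟩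
    rw [hinv x]
    have h1 : (φ x)⁻¹ * (x : Ω) = ((x : Ω)⁻¹ * φ x)⁻¹ := by group
    rw [h1]
    exact K.inv_mem (hφ.2 x)

/-- For a saturated fusion system over a finite p-group S, the focal subgroup is the product of the hyperfocal subgroup and the derived subgroup of S. -/
theorem result {Ω : Type*} [Group Ω] {S : Subgroup Ω} [Finite S] (p : ℕ) [Fact p.Prime] (hS : IsPGroup p S) (F : Cfsg.FusionSystem S) (hF : F.IsSaturated p) : F.focalSubgroup = F.hyperfocalSubgroup p ⊔ ⁅(S : Subgroup Ω), (S : Subgroup Ω)⁆ := by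
  apply le_antisymm
  · have hFE : F ≤ focalSystem F (F.hyperfocalSubgroup p ⊔ ⁅(S : Subgroup Ω), (S : Subgroup Ω)⁆)
        le_sup_right := by
      apply Cfsg.Agent.S5082.result p hS F hF
      intro P hP α hα
      have hPn : F.IsFullyNormalized P := by
        rcases hP with rfl | hess
        · refine ⟨le_rfl, fun Q _ => ?_⟩
          have hfin : Finite (Cfsg.FusionSystem.normalizerIn P P) :=
            Cfsg.Agent.Lib.helper88.finite_of_le (Cfsg.Agent.Lib.helper88.normalizerIn_le P P)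
          refine Subgroup.card_le_of_le ?_
          intro x hx
          exact ⟨hx.1, Subgroup.le_normalizer hx.1⟩
        · exact hess.2.1
      have hPS : P ≤ S := hPn.1
      obtain ⟨hfa, -⟩ :=
        Cfsg.Agent.Lib.helper88.fullyAutomized_receptive_of_fullyNormalized hS F hF hPn
      obtain ⟨-, Sy, hSy⟩ := hfa
      haveI : Finite (F.autGroup P) := Cfsg.Agent.Lib.helper89.finite_autGroup F hPS
      rw [Cfsg.Agent.Lib.helper88.mem_autGroup_iff' _ hPS]
      refine ⟨(Cfsg.Agent.Lib.helper88.mem_autGroup_iff' F hPS α).1 hα, fun x => ?_⟩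
      obtain ⟨s, hs, r, hr, hsr⟩ := exists_mul_sylow_pResidual Sy ⟨α, hα⟩
      rw [hSy, Subgroup.mem_subgroupOf, Cfsg.Agent.Lib.helper88.mem_autInducedBy_iff] at hs
      obtain ⟨g, hg, hsg⟩ := hs
      have hα' : α = (s : MulAut P) * (r : MulAut P) := congrArg Subtype.val hsr
      show (x : Ω)⁻¹ * ((α x : P) : Ω) ∈
        F.hyperfocalSubgroup p ⊔ ⁅(S : Subgroup Ω), (S : Subgroup Ω)⁆
      have e : (x : Ω)⁻¹ * ((α x : P) : Ω) =
          ((x : Ω)⁻¹ * (((r : MulAut P) x : P) : Ω)) *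
            ⁅((((r : MulAut P) x : P) : Ω))⁻¹, g⁆ := by
        rw [hα', MulAut.mul_apply, hsg, commutatorElement_def]
        group
      rw [e]
      refine Subgroup.mul_mem _ (Subgroup.mem_sup_left
        (Subgroup.subset_closure ⟨P, r, x, hPS, hr, rfl⟩))
        (Subgroup.mem_sup_right (Subgroup.commutator_mem_commutator
          (S.inv_mem (hPS ((r : MulAut P) x).2)) hg))
    unfold Cfsg.FusionSystem.focalSubgroup
    rw [Subgroup.closure_le]
    rintro _ ⟨P, φ, x, hφ, rfl⟩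
    exact (hFE P hφ).2 x
  · apply sup_le
    · unfold Cfsg.FusionSystem.hyperfocalSubgroup
      rw [Subgroup.closure_le]
      rintro _ ⟨P, α, x, hPS, -, rfl⟩
      exact Subgroup.subset_closure ⟨P, P.subtype.comp (α : MulAut P).toMonoidHom, x,
        (Cfsg.Agent.Lib.helper88.mem_autGroup_iff' F hPS α).1 α.2, rfl⟩
    · rw [Subgroup.commutator_le]
      intro a ha b hb
      exact Subgroup.subset_closure ⟨S, conjHom S b, ⟨a⁻¹, S.inv_mem ha⟩, F.conj_mem le_rfl hb, by
        simp [conjHom, commutatorElement_def, mul_assoc]⟩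

end Cfsg.Agent.S5092
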