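import Cfsg.Statements.S5093
import Cfsg.Agent.S5092
import Cfsg.Agent.S0012
import Cfsg.Agent.Lib.helper26.PResidual
import Cfsg.Agent.Lib.helper52.Subn
import Cfsg.Agent.Lib.helper53.PCore
import Cfsg.Agent.Lib.helper88.GroupSat
import Cfsg.Agent.Lib.helper88.Hyperfocal
import Cfsg.Agent.Lib.helper88.Residual

set_option autoImplicit false
open Cfsg

namespace Cfsg.Agent.S5093

open scoped commutatorElement

universe u

/-- the subgroup generated by the `x⁻¹ (g x g⁻¹)` for `x ∈ P ≤ S` and `g` a `p'`-element of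
`N_G(P)`. -/
def hypGen {G : Type*} [Group G] (p : ℕ) (S : Subgroup G) : Subgroup G :=
  Subgroup.closure {y : G | ∃ (P : Subgroup G) (g x : G), P ≤ S ∧
    g ∈ Subgroup.normalizer (P : Set G) ∧ (orderOf g).Coprime p ∧ x ∈ P ∧
    y = x⁻¹ * (g * x * g⁻¹)}

theorem hypGen_le {G : Type*} [Group G] (p : ℕ) (S : Subgroup G) :
    hypGen p S ≤ S ⊓ Cfsg.pResidual p G := by
  unfold hypGen
  rw [Subgroup.closure_le]
  rintro _ ⟨P, g, x, hPS, hg, hcop, hx, rfl⟩
  have hN := Cfsg.Agent.Lib.helper26.pResidual_normal p G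
  have hgr : g ∈ Cfsg.pResidual p G := Cfsg.Agent.Lib.helper26.mem_pResidual_of_coprime hcop
  refine ⟨S.mul_mem (S.inv_mem (hPS hx)) (hPS ((Subgroup.mem_normalizer_iff.1 hg x).1 hx)), ?_⟩
  have h1 : x⁻¹ * (g * x * g⁻¹) = (x⁻¹ * g * x⁻¹⁻¹) * g⁻¹ := by group
  rw [h1]
  exact Subgroup.mul_mem _ (hN.conj_mem g hgr x⁻¹) (Subgroup.inv_mem _ hgr)

theorem hypGen_le_hyperfocal {G : Type*} [Group G] (p : ℕ) (S : Subgroup G) :
    hypGen p S ≤ (Cfsg.groupFusionSystem S).hyperfocalSubgroup p := by
  unfold hypGen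
  rw [Subgroup.closure_le]
  rintro _ ⟨P, g, x, hPS, hg, hcop, hx, rfl⟩
  have hmem : ∀ y : P, g * (y : G) * g⁻¹ ∈ P := fun y =>
    (Subgroup.mem_normalizer_iff.1 hg y).1 y.2
  have hmem' : ∀ y : P, g⁻¹ * (y : G) * g ∈ P := fun y => by
    rw [Subgroup.mem_normalizer_iff.1 hg]
    have : g * (g⁻¹ * (y : G) * g) * g⁻¹ = y := by group
    rw [this]
    exact y.2
  let α : MulAut P :=
    { toFun := fun y => ⟨g * y * g⁻¹, hmem y⟩
      invFun := fun y => ⟨g⁻¹ * y * g, hmem' y⟩
      left_inv := fun y => Subtype.ext (by simp [mul_assoc])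
      right_inv := fun y => Subtype.ext (by simp [mul_assoc])
      map_mul' := fun a b => Subtype.ext (by simp [mul_assoc]) }
  have hα : α ∈ (Cfsg.groupFusionSystem S).autGroup P :=
    (Cfsg.Agent.Lib.helper88.mem_autGroup_groupFusionSystem hPS α).2 ⟨g, fun y => rfl⟩
  have hpow : ∀ n : ℕ, ∀ y : P, (((α ^ n) y : P) : G) = g ^ n * y * (g ^ n)⁻¹ := by
    intro n
    induction n with
    | zero => intro y; simp
    | succ n ih =>
      intro y
      rw [pow_succ, MulAut.mul_apply, ih]
      show g ^ n * (g * y * g⁻¹) * (g ^ n)⁻¹ = _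
      simp [pow_succ, mul_assoc]
  have hord : orderOf (⟨α, hα⟩ : (Cfsg.groupFusionSystem S).autGroup P) ∣ orderOf g := by
    apply orderOf_dvd_of_pow_eq_one
    apply Subtype.ext
    show α ^ orderOf g = 1
    apply MulEquiv.ext
    intro y
    apply Subtype.ext
    rw [hpow, pow_orderOf_eq_one]
    simp
  have hc : (orderOf (⟨α, hα⟩ : (Cfsg.groupFusionSystem S).autGroup P)).Coprime p :=
    Nat.Coprime.coprime_dvd_left hord hcop
  exact Subgroup.subset_closure ⟨P, ⟨α, hα⟩, ⟨x, hx⟩, hPS,
    Cfsg.Agent.Lib.helper26.mem_pResidual_of_coprime hc, rfl⟩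

theorem hyperfocal_le_hypGen {G : Type*} [Group G] [Finite G] (p : ℕ) [Fact p.Prime]
    (S : Subgroup G) :
    (Cfsg.groupFusionSystem S).hyperfocalSubgroup p ≤ hypGen p S := by
  apply Cfsg.Agent.Lib.helper88.hyperfocal_le_of_forall
  intro P hPS α hcop x
  obtain ⟨g, hg⟩ :=
    (Cfsg.Agent.Lib.helper88.mem_autGroup_groupFusionSystem hPS (α : MulAut P)).1 α.2
  have hgN : g ∈ Subgroup.normalizer (P : Set G) := by
    rw [Subgroup.mem_normalizer_iff]
    intro h
    constructor
    · intro hh
      have h1 := hg ⟨h, hh⟩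
      rw [← h1]
      exact ((α : MulAut P) ⟨h, hh⟩).2
    · intro hh
      obtain ⟨y, hy⟩ := (α : MulAut P).surjective ⟨g * h * g⁻¹, hh⟩
      have h2 := hg y
      rw [hy] at h2
      have h3 : h = y := mul_left_cancel (mul_right_cancel h2)
      rw [h3]
      exact y.2
  have hpow : ∀ n : ℕ, ∀ y : P, ((((α : MulAut P) ^ n) y : P) : G) = g ^ n * y * (g ^ n)⁻¹ := by
    intro n
    induction n with
    | zero => intro y; simp
    | succ n ih =>
      intro y
      rw [pow_succ, MulAut.mul_apply, ih, hg]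
      simp [pow_succ, mul_assoc]
  by_cases h1 : orderOf α = 1
  · have h2 : α = 1 := orderOf_eq_one_iff.1 h1
    rw [h2]
    simp
  · have hp : (Fact.out : p.Prime) = (Fact.out : p.Prime) := rfl
    have hpp : p.Prime := Fact.out
    have h0 : orderOf α ≠ 0 := by
      intro h0
      rw [h0, Nat.coprime_zero_left] at hcop
      exact hpp.one_lt.ne' hcop
    have hlt : 1 < orderOf α := by omega
    have hn0 : orderOf g ≠ 0 := (orderOf_pos g).ne'
    have hcop2 : (p ^ (orderOf g).factorization p).Coprime (orderOf α) :=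
      (Nat.Coprime.pow_right _ hcop).symm
    obtain ⟨k, -, hk⟩ := Nat.exists_mul_mod_eq_one_of_coprime hcop2 hlt
    have hαN : α ^ (p ^ (orderOf g).factorization p * k) = α := by
      rw [← pow_mod_orderOf, hk, pow_one]
    have hαN' : (α : MulAut P) ^ (p ^ (orderOf g).factorization p * k) = (α : MulAut P) := by
      have := congrArg Subtype.val hαN
      simpa using this
    have hord : orderOf (g ^ (p ^ (orderOf g).factorization p * k)) ∣
        orderOf g / p ^ (orderOf g).factorization p := by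
      apply orderOf_dvd_of_pow_eq_one
      rw [← pow_mul]
      have e : p ^ (orderOf g).factorization p * k * (orderOf g / p ^ (orderOf g).factorization p)
          = orderOf g * k := by
        have := Nat.ordProj_mul_ordCompl_eq_self (orderOf g) p
        calc p ^ (orderOf g).factorization p * k * (orderOf g / p ^ (orderOf g).factorization p)
            = (p ^ (orderOf g).factorization p * (orderOf g / p ^ (orderOf g).factorization p)) * k := by
              ring
          _ = orderOf g * k := by rw [this]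
      rw [e, pow_mul, pow_orderOf_eq_one, one_pow]
    have hc : (orderOf (g ^ (p ^ (orderOf g).factorization p * k))).Coprime p :=
      Nat.Coprime.coprime_dvd_left hord (Nat.coprime_ordCompl hpp hn0).symm
    refine Subgroup.subset_closure ⟨P, g ^ (p ^ (orderOf g).factorization p * k), x, hPS,
      Subgroup.pow_mem _ hgN _, hc, x.2, ?_⟩
    rw [← hpow, hαN']

theorem focal_le_focal {G : Type*} [Group G] (S : Subgroup G) :
    S.focalSubgroup ≤ (Cfsg.groupFusionSystem S).focalSubgroup := by
  rw [Subgroup.focalSubgroup_def, Subgroup.closure_le]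
  rintro _ ⟨hgS, x, hx, u, rfl⟩
  have hux : u * x⁻¹ * u⁻¹ ∈ S := by
    have h1 : u * x⁻¹ * u⁻¹ = x⁻¹ * ⁅x, u⁆ := by
      simp [commutatorElement_def, mul_assoc]
    rw [h1]
    exact S.mul_mem (S.inv_mem hx) hgS
  have hux' : u * x * u⁻¹ ∈ S := by
    have h1 : u * x * u⁻¹ = (u * x⁻¹ * u⁻¹)⁻¹ := by group
    rw [h1]
    exact S.inv_mem hux
  refine Subgroup.subset_closure ⟨Subgroup.zpowers x, conjHom (Subgroup.zpowers x) u,
    ⟨x⁻¹, Subgroup.inv_mem _ (Subgroup.mem_zpowers x)⟩, ?_, ?_⟩
  · apply Cfsg.Agent.Lib.helper88.conjHom_mem_groupFusionSystem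
    · rw [Subgroup.zpowers_le]
      exact hx
    · intro y hy
      obtain ⟨k, rfl⟩ := Subgroup.mem_zpowers_iff.1 hy
      rw [← conj_zpow]
      exact S.zpow_mem hux' k
  · simp [conjHom, commutatorElement_def, mul_assoc]

theorem le_of_le_sup_commutator {G : Type*} [Group G] {S H : Subgroup G} [Finite S] {p : ℕ}
    [Fact p.Prime] (hS : IsPGroup p S) (hH : H ≤ S) (hle : S ≤ H ⊔ ⁅S, S⁆) : S ≤ H := by
  rw [← Subgroup.subgroupOf_eq_top]
  apply frattini_nongenerating
  rw [eq_top_iff]
  have hc : ⁅S, S⁆ ≤ S := by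
    rw [← Subgroup.map_subtype_commutator]
    exact Subgroup.map_subtype_le _
  have h1 : (⊤ : Subgroup S) ≤ (H ⊔ ⁅S, S⁆).subgroupOf S :=
    fun s _ => Subgroup.mem_subgroupOf.2 (hle s.2)
  rw [Subgroup.subgroupOf_sup hH hc] at h1
  have h2 : (⁅S, S⁆).subgroupOf S = commutator S := by
    rw [← Subgroup.map_subtype_commutator]
    exact Subgroup.comap_map_eq_self_of_injective (Subgroup.subtype_injective S) _
  rw [h2] at h1
  exact h1.trans (sup_le_sup_left (Cfsg.Agent.S0012.result p hS).1 _)

theorem map_hypGen_le {G : Type*} [Group G] (p : ℕ) (K : Subgroup G) (T : Subgroup K)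
    (S : Subgroup G) (h : T.map K.subtype ≤ S) :
    (hypGen p T).map K.subtype ≤ hypGen p S := by
  unfold hypGen
  rw [MonoidHom.map_closure, Subgroup.closure_le]
  rintro _ ⟨_, ⟨P, g, x, hPT, hg, hcop, hx, rfl⟩, rfl⟩
  refine Subgroup.subset_closure ⟨P.map K.subtype, g, x, (Subgroup.map_mono hPT).trans h, ?_, ?_,
    Subgroup.mem_map_of_mem _ hx, ?_⟩
  · exact Subgroup.le_normalizer_map K.subtype (Subgroup.mem_map_of_mem _ hg)
  · rwa [Subgroup.orderOf_coe]
  · simp

theorem pResidual_le_map_of_le {G : Type*} [Group G] (p : ℕ) (K : Subgroup G)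
    (h : Cfsg.pResidual p G ≤ K) :
    Cfsg.pResidual p G ≤ (Cfsg.pResidual p K).map K.subtype := by
  rw [Cfsg.Agent.Lib.helper52.map_pResidual_subtype]
  unfold Cfsg.pResidual
  apply Subgroup.closure_mono
  intro g hg
  exact ⟨h (Cfsg.Agent.Lib.helper26.mem_pResidual_of_coprime hg), hg⟩

theorem inf_pResidual_le_hypGen (p : ℕ) [Fact p.Prime] :
    ∀ (n : ℕ) (G : Type u) [Group G] [Finite G], Nat.card G = n → ∀ S : Sylow p G,
      (S : Subgroup G) ⊓ Cfsg.pResidual p G ≤ hypGen p (S : Subgroup G) := by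
  intro n
  induction n using Nat.strong_induction_on with
  | _ n ih =>
    intro G _ _ hn S
    have hres : Cfsg.pResidual p G ≤ (S : Subgroup G).transferFocal.ker :=
      Cfsg.Agent.Lib.helper26.pResidual_le_ker (S.2.to_quotient _) _
    by_cases htop : (S : Subgroup G).transferFocal.ker = ⊤
    · have h1 : (S : Subgroup G).focalSubgroup = S := by
        rw [← Subgroup.ker_transferFocal_inf_eq_focalSubgroup S, htop, top_inf_eq]
      have hsat := Cfsg.Agent.Lib.helper88.groupFusionSystem_saturated S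
      have h2 := Cfsg.Agent.S5092.result p S.2 (Cfsg.groupFusionSystem (S : Subgroup G)) hsat
      have h3 : (S : Subgroup G) ≤
          (Cfsg.groupFusionSystem (S : Subgroup G)).hyperfocalSubgroup p ⊔
            ⁅(S : Subgroup G), (S : Subgroup G)⁆ := by
        rw [← h2]
        calc (S : Subgroup G) = (S : Subgroup G).focalSubgroup := h1.symm
          _ ≤ _ := focal_le_focal _
      have h4 := le_of_le_sup_commutator S.2
        (Cfsg.Agent.Lib.helper88.hyperfocal_le _ p) h3
      exact inf_le_left.trans (h4.trans (hyperfocal_le_hypGen p _))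
    · obtain ⟨S₁, hS₁⟩ := Cfsg.Agent.Lib.helper53.exists_sylow_eq_inf_normal S
        (S : Subgroup G).transferFocal.ker
      have hcard : Nat.card (S : Subgroup G).transferFocal.ker < n := by
        rw [← hn]
        exact lt_of_le_of_ne (Subgroup.card_le_card_group _)
          (fun h => htop (Subgroup.eq_top_of_card_eq _ h))
      have hih := ih _ hcard (S : Subgroup G).transferFocal.ker rfl S₁
      intro z hz
      obtain ⟨z', hz'res, rfl⟩ := pResidual_le_map_of_le p _ hres hz.2
      have hz'S : z' ∈ (S₁ : Subgroup (S : Subgroup G).transferFocal.ker) := by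
        have h5 : (z' : G) ∈ (S₁ : Subgroup (S : Subgroup G).transferFocal.ker).map
            (S : Subgroup G).transferFocal.ker.subtype := by
          rw [hS₁]
          exact ⟨hz.1, z'.2⟩
        obtain ⟨w, hw, hwz⟩ := h5
        have h6 : w = z' := Subtype.ext hwz
        rwa [← h6]
      have h7 := hih ⟨hz'S, hz'res⟩
      exact map_hypGen_le p _ _ _ (by rw [hS₁]; exact inf_le_left)
        (Subgroup.mem_map_of_mem _ h7)

/-- Hyperfocal subgroup Theorem: for a finite group G with Sylow p-subgroup S, the hyperfocal subgroup of the fusion system of G on S equals S ∩ O^p(G), where O^p(G) is the subgroup generated by the elements of order prime to p. -/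
theorem result {G : Type*} [Group G] [Finite G] (p : ℕ) [Fact p.Prime] (S : Sylow p G) : (Cfsg.groupFusionSystem (S : Subgroup G)).hyperfocalSubgroup p = (S : Subgroup G) ⊓ Cfsg.pResidual p G := by
  apply le_antisymm
  · exact (hyperfocal_le_hypGen p _).trans (hypGen_le p _)
  · exact (inf_pResidual_le_hypGen p _ G rfl S).trans (hypGen_le_hyperfocal p _)

end Cfsg.Agent.S5093
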