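import Mathlib
import Cfsg.Statements.S4750
import Cfsg.Agent.Lib.helper4.FinOrder
import Cfsg.Agent.Lib.helper21.TILattice

set_option autoImplicit false
open scoped Pointwise
open Cfsg

namespace Cfsg.Agent.S4750

open Cfsg.Agent.Lib.helper21 in
/-- Let P be a Sylow p-subgroup of the finite group G that meets each conjugate g P g⁻¹ with g outside N_G(P) trivially, χ a character of G with χ(1)² ≤ |P|, and H a subgroup of G containing N_G(P). Then the inner product of χ with itself over G equals the inner product over H of the restriction of χ to H. -/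
theorem result {G : Type*} [Group G] [Fintype G] [DecidableEq G] (p : ℕ) [Fact p.Prime] (P : Sylow p G) (hTI : ∀ g : G, g ∉ Subgroup.normalizer ((P : Subgroup G) : Set G) → (P : Subgroup G) ⊓ (MulAut.conj g • (P : Subgroup G)) = ⊥) (χ : G → ℂ) (hχ : Cfsg.IsCharacter G χ) (hdeg : Cfsg.charDegree χ ^ 2 ≤ Nat.card ↥(P : Subgroup G)) (H : Subgroup G) [Fintype ↥H] (hH : Subgroup.normalizer ((P : Subgroup G) : Set G) ≤ H) : Cfsg.classInner χ χ = Cfsg.classInner (fun h : ↥H => χ h) (fun h : ↥H => χ h) := by
  obtain ⟨n, ρ, rfl⟩ := hχ
  have hn : Cfsg.charDegree ρ.character = n := by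
    unfold Cfsg.charDegree
    rw [Representation.char_one]
    simp
  rw [hn] at hdeg
  have hGinv : Invertible (Nat.card G : ℂ) :=
    invertibleOfNonzero (by exact_mod_cast Nat.card_pos.ne')
  have hHinv : Invertible (Nat.card H : ℂ) :=
    invertibleOfNonzero (by exact_mod_cast Nat.card_pos.ne')
  have e1 : Cfsg.classInner ρ.character ρ.character
      = (Module.finrank ℂ (Representation.invariants (Representation.linHom ρ ρ)) : ℂ) := by
    rw [← Representation.card_inv_mul_sum_char_eq_finrank]
    unfold Cfsg.classInner
    congr 1
    refine Finset.sum_congr rfl (fun g _ => ?_)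
    rw [Representation.char_linHom, Cfsg.Agent.Lib.helper4.char_inv, mul_comm]
  have e2 : Cfsg.classInner (fun h : ↥H => ρ.character h) (fun h : ↥H => ρ.character h)
      = (Module.finrank ℂ (Representation.invariants
          (Representation.linHom (ρ.comp H.subtype) (ρ.comp H.subtype))) : ℂ) := by
    rw [← Representation.card_inv_mul_sum_char_eq_finrank]
    unfold Cfsg.classInner
    congr 1
    refine Finset.sum_congr rfl (fun h _ => ?_)
    rw [Representation.char_linHom, Cfsg.Agent.Lib.helper4.char_inv, mul_comm]
    rfl
  have e3 : Representation.invariants (Representation.linHom ρ ρ)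
      = Representation.invariants
          (Representation.linHom (ρ.comp H.subtype) (ρ.comp H.subtype)) := by
    ext f
    rw [Representation.mem_invariants, Representation.mem_invariants]
    constructor
    · intro hf h
      exact hf (h : G)
    · intro hf g
      have hd : Module.finrank ℂ (Fin n → ℂ) ^ 2 ≤ Nat.card ↥(P : Subgroup G) := by
        rw [Module.finrank_fin_fun]; exact hdeg
      exact ti_invariants_linHom p P hTI H hH ρ hd f (fun h hh => hf ⟨h, hh⟩) g
  rw [e1, e2, e3]

end Cfsg.Agent.S4750
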