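import Cfsg.Statements.S5601
import Cfsg.Agent.Lib.helper94.M24Pow

set_option autoImplicit false
open scoped Pointwise
open Cfsg

open Cfsg.Agent.Lib.helper94

namespace Cfsg.Agent.S5601

set_option maxRecDepth 100000

theorem pow3_ok : powOne X3A 3 = true ∧ powOne X3B 3 = true := by decide +kernel

/-- A subgroup of order 3 is generated by an element of order 3. -/
theorem gen3 (X : Subgroup ↥M24) (hX : Nat.card X = 3) :
    ∃ x : ↥M24, orderOf x = 3 ∧ X = Subgroup.zpowers x := by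
  have hfin : Finite X := Nat.finite_of_card_ne_zero (by omega)
  have hne : X ≠ ⊥ := by
    rintro rfl
    simp at hX
  obtain ⟨x, hx, hx1⟩ : ∃ x ∈ X, x ≠ 1 := by
    by_contra hcon
    push Not at hcon
    exact hne ((Subgroup.eq_bot_iff_forall X).mpr hcon)
  have hdvd : orderOf x ∣ 3 := by
    rw [← hX]
    exact Subgroup.orderOf_dvd_natCard X hx
  have ho : orderOf x = 3 := by
    rcases (Nat.dvd_prime Nat.prime_three).mp hdvd with h | h
    · exact absurd (orderOf_eq_one_iff.mp h) hx1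
    · exact h
  refine ⟨x, ho, ?_⟩
  symm
  apply Subgroup.eq_of_le_of_card_ge
  · rw [Subgroup.zpowers_le]
    exact hx
  · rw [Nat.card_zpowers, ho, hX]

/-- The fixed points of a cyclic subgroup are those of a generator. -/
theorem fixset (x : ↥M24) :
    {p : GolayPt | ∀ z ∈ Subgroup.zpowers x, ((z : ↥M24) : Equiv.Perm GolayPt) p = p}.ncard
      = (Finset.univ.filter fun p => (x : Equiv.Perm GolayPt) p = p).card := by
  rw [← Set.ncard_coe_finset]
  congr 1
  ext p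
  simp only [Set.mem_ofPred_eq, Finset.coe_filter, Finset.mem_univ, true_and]
  constructor
  · intro h
    exact h x (Subgroup.mem_zpowers x)
  · intro h z hz
    obtain ⟨k, rfl⟩ := Subgroup.mem_zpowers_iff.mp hz
    rw [Subgroup.coe_zpow]
    exact Equiv.Perm.zpow_apply_eq_self_of_apply_eq_self h k

theorem conj_zpowers (k x : ↥M24) :
    MulAut.conj k • Subgroup.zpowers x = Subgroup.zpowers (k * x * k⁻¹) := by
  ext z
  rw [Subgroup.mem_pointwise_smul_iff_inv_smul_mem, Subgroup.mem_zpowers_iff,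
    Subgroup.mem_zpowers_iff]
  constructor
  · rintro ⟨n, hn⟩
    refine ⟨n, ?_⟩
    rw [conj_zpow, hn]
    simp only [MulAut.smul_def, MulAut.conj_inv_apply]
    group
  · rintro ⟨n, hn⟩
    refine ⟨n, ?_⟩
    rw [← hn, conj_zpow]
    simp only [MulAut.smul_def, MulAut.conj_inv_apply]
    group

/-- The class of an element of order 3 and its number of fixed points. -/
theorem cls3 (x : ↥M24) (hx : orderOf x = 3) :
    ∃ X, (X = X3A ∨ X = X3B) ∧ (∃ c ∈ M24, (x : Equiv.Perm GolayPt) = c * tperm X * c⁻¹) ∧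
      (Finset.univ.filter fun p => (x : Equiv.Perm GolayPt) p = p).card = fixCnt X := by
  obtain ⟨X, hX, c, hc, hxc⟩ := order3_class (x : Equiv.Perm GolayPt) x.2
    (by rw [Subgroup.orderOf_coe]; exact hx)
  simp only [List.mem_cons, List.not_mem_nil, or_false] at hX
  refine ⟨X, hX, ⟨c, hc, hxc⟩, ?_⟩
  rw [hxc, card_fixed_conj]
  rcases hX with rfl | rfl
  · exact card_fixed_tperm repsElts_ok.1
  · exact card_fixed_tperm repsElts_ok.2.1

theorem fix3 : fixCnt X3A = 6 ∧ fixCnt X3B = 0 :=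
  ⟨repsElts_ok.2.2.2.2.2.2.2.2.1, repsElts_ok.2.2.2.2.2.2.2.2.2.1⟩

/-- The subgroup generated by a table of order 3. -/
theorem exists3 (X : ℕ) (hv : validPerm X = true) (hM : isM24 X = true)
    (hp : powOne X 3 = true) (n : ℕ) (hf : fixCnt X = n) (hn : n ≠ 24) :
    ∃ S : Subgroup ↥M24, Nat.card S = 3 ∧
      {p : GolayPt | ∀ x ∈ S, ((x : ↥M24) : Equiv.Perm GolayPt) p = p}.ncard = n := by
  refine ⟨Subgroup.zpowers ⟨tperm X, tperm_mem_M24 hM⟩, ?_, ?_⟩
  · rw [Nat.card_zpowers, Subgroup.orderOf_mk]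
    apply orderOf_eq_prime ((powOne_iff hv 3).mp hp)
    intro h1
    have := card_fixed_tperm hv
    rw [h1, hf] at this
    simp only [Equiv.Perm.coe_one, id_eq, Finset.filter_true, Finset.card_univ] at this
    rw [card_golayPt] at this
    exact hn this.symm
  · rw [fixset]
    exact (card_fixed_tperm hv).trans hf


/-- The group of the length-24 code has exactly two conjugacy classes of subgroups of order 3: a subgroup of order 3 fixes either exactly 6 of the 24 points or none of them, both cases occur, and two subgroups of order 3 with the same number of fixed points are conjugate. -/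
theorem result : (∀ X : Subgroup ↥Cfsg.M24, Nat.card X = 3 → {p : Cfsg.GolayPt | ∀ x ∈ X, ((x : ↥Cfsg.M24) : Equiv.Perm Cfsg.GolayPt) p = p}.ncard = 6 ∨ {p : Cfsg.GolayPt | ∀ x ∈ X, ((x : ↥Cfsg.M24) : Equiv.Perm Cfsg.GolayPt) p = p}.ncard = 0) ∧ (∃ X : Subgroup ↥Cfsg.M24, Nat.card X = 3 ∧ {p : Cfsg.GolayPt | ∀ x ∈ X, ((x : ↥Cfsg.M24) : Equiv.Perm Cfsg.GolayPt) p = p}.ncard = 6) ∧ (∃ X : Subgroup ↥Cfsg.M24, Nat.card X = 3 ∧ {p : Cfsg.GolayPt | ∀ x ∈ X, ((x : ↥Cfsg.M24) : Equiv.Perm Cfsg.GolayPt) p = p}.ncard = 0) ∧ ∀ X Y : Subgroup ↥Cfsg.M24, Nat.card X = 3 → Nat.card Y = 3 → {p : Cfsg.GolayPt | ∀ x ∈ X, ((x : ↥Cfsg.M24) : Equiv.Perm Cfsg.GolayPt) p = p}.ncard = {p : Cfsg.GolayPt | ∀ x ∈ Y, ((x : ↥Cfsg.M24) : Equiv.Perm Cfsg.GolayPt) p = p}.ncard → ∃ k : ↥Cfsg.M24, MulAut.conj k • X = Y := by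
  refine ⟨?_, ?_, ?_, ?_⟩
  · intro X hX
    obtain ⟨x, hx, rfl⟩ := gen3 X hX
    obtain ⟨R, hR, -, hfix⟩ := cls3 x hx
    rw [fixset, hfix]
    rcases hR with rfl | rfl
    · exact Or.inl fix3.1
    · exact Or.inr fix3.2
  · exact exists3 X3A repsElts_ok.1 repsElts_ok.2.2.2.2.1 pow3_ok.1 6 fix3.1 (by norm_num)
  · exact exists3 X3B repsElts_ok.2.1 repsElts_ok.2.2.2.2.2.1 pow3_ok.2 0 fix3.2 (by norm_num)
  · intro X Y hX hY hXY
    obtain ⟨x, hx, rfl⟩ := gen3 X hX
    obtain ⟨y, hy, rfl⟩ := gen3 Y hY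
    obtain ⟨R, hR, ⟨c, hc, hxc⟩, hfx⟩ := cls3 x hx
    obtain ⟨R', hR', ⟨d, hd, hyd⟩, hfy⟩ := cls3 y hy
    rw [fixset, fixset, hfx, hfy] at hXY
    have hRR : R = R' := by
      rcases hR with rfl | rfl <;> rcases hR' with rfl | rfl
      · rfl
      · rw [fix3.1, fix3.2] at hXY; omega
      · rw [fix3.1, fix3.2] at hXY; omega
      · rfl
    subst hRR
    refine ⟨⟨d * c⁻¹, M24.mul_mem hd (M24.inv_mem hc)⟩, ?_⟩
    rw [conj_zpowers]
    refine congrArg Subgroup.zpowers ?_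
    apply Subtype.ext
    simp only [Subgroup.coe_mul, Subgroup.coe_inv]
    rw [hxc, hyd]
    group

end Cfsg.Agent.S5601
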