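import Cfsg.Statements.S1037
import Cfsg.Agent.Lib.helper22.ChevH
import Cfsg.Agent.Lib.helper22.ChevTriTables
import Cfsg.Agent.Lib.helper23.ChevStringAll

set_option autoImplicit false
open Cfsg

namespace Cfsg.Agent.S1037

/-- `UH ∩ V = 1` and `UH ∩ VH = H`. -/
theorem result {F : Type*} [Field F] (D : Cfsg.Lie.ChevalleyDatum) (hD : D ∈ [Cfsg.Lie.chevG2, Cfsg.Lie.chevB2, Cfsg.Lie.chevD4, Cfsg.Lie.chevF4, Cfsg.Lie.chevE6, Cfsg.Lie.chevE7, Cfsg.Lie.chevE8]) :
    D.borelSubgroup F ⊓ D.negUnipotent F = ⊥ ∧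
      D.borelSubgroup F ⊓ (D.negUnipotent F ⊔ D.diagonalSubgroup F) = D.diagonalSubgroup F := by
  have hSD := Cfsg.Agent.Lib.helper23.exists_stringData D hD
  have hSD' : ∀ r : Fin D.nroots, Nonempty (Cfsg.Agent.Lib.helper22.StringData D r) :=
    fun r => (hSD r).elim fun S _ => ⟨S⟩
  have hHT : D.diagonalSubgroup F ≤ Cfsg.Agent.Lib.helper22.torus D F :=
    Cfsg.Agent.Lib.helper22.diagonalSubgroup_le_torus hSD'
  have hU := Cfsg.Agent.Lib.helper22.posUnipotent_le_uniK_all D hD F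
  have hV := Cfsg.Agent.Lib.helper22.negUnipotent_le_uniK_all D hD F
  have hNU : D.diagonalSubgroup F ≤ Subgroup.normalizer (D.posUnipotent F : Set (GL D.Idx F)) :=
    hHT.trans (Cfsg.Agent.Lib.helper22.torus_le_normalizer_pos hSD)
  have hNV : D.diagonalSubgroup F ≤ Subgroup.normalizer (D.negUnipotent F : Set (GL D.Idx F)) :=
    hHT.trans (Cfsg.Agent.Lib.helper22.torus_le_normalizer_neg hSD)
  -- decompositions
  have hB : ∀ g ∈ D.borelSubgroup F, ∃ u ∈ D.posUnipotent F, ∃ h ∈ D.diagonalSubgroup F, u * h = g := by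
    intro g hg
    have h1 : g ∈ ((D.posUnipotent F ⊔ D.diagonalSubgroup F : Subgroup (GL D.Idx F)) : Set (GL D.Idx F)) := hg
    rw [Subgroup.coe_mul_of_right_le_normalizer_left _ _ hNU] at h1
    exact h1
  have hVH : ∀ g ∈ D.negUnipotent F ⊔ D.diagonalSubgroup F,
      ∃ v ∈ D.negUnipotent F, ∃ h ∈ D.diagonalSubgroup F, v * h = g := by
    intro g hg
    have h1 : g ∈ ((D.negUnipotent F ⊔ D.diagonalSubgroup F : Subgroup (GL D.Idx F)) : Set (GL D.Idx F)) := hg
    rw [Subgroup.coe_mul_of_right_le_normalizer_left _ _ hNV] at h1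
    exact h1
  constructor
  · rw [eq_bot_iff]
    rintro g ⟨hg1, hg2⟩
    rw [Subgroup.mem_bot]
    obtain ⟨u, hu, h, hh, rfl⟩ := hB g hg1
    apply Cfsg.Agent.Lib.helper22.eq_one_of_triK (ρ := Cfsg.Agent.Lib.helper22.rho D)
      (ρ' := Cfsg.Agent.Lib.helper22.rhoNeg D) (Cfsg.Agent.Lib.helper22.rho_rhoNeg (D := D))
    · rw [Units.val_mul]
      exact (Cfsg.Agent.Lib.helper22.triK_of_mem_uniK (hU hu)).mul
        (Cfsg.Agent.Lib.helper22.torus_triK (hHT hh) _)
    · exact hV hg2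
  · apply le_antisymm
    · rintro g ⟨hg1, hg2⟩
      obtain ⟨u, hu, h, hh, rfl⟩ := hB g hg1
      obtain ⟨v, hv, h', hh', hveq⟩ := hVH _ hg2
      have hu1 : u = 1 := by
        have hu2 : u = v * (h' * h⁻¹) := by
          rw [← mul_assoc, hveq, mul_inv_cancel_right]
        apply Cfsg.Agent.Lib.helper22.eq_one_of_triK (ρ := Cfsg.Agent.Lib.helper22.rhoNeg D)
          (ρ' := Cfsg.Agent.Lib.helper22.rho D) (Cfsg.Agent.Lib.helper22.rhoNeg_rho (D := D))
        · rw [hu2, Units.val_mul]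
          exact (Cfsg.Agent.Lib.helper22.triK_of_mem_uniK (hV hv)).mul
            (Cfsg.Agent.Lib.helper22.torus_triK (hHT (mul_mem hh' (inv_mem hh))) _)
        · exact hU hu
      rw [hu1, one_mul]
      exact hh
    · exact le_inf (le_sup_right) (le_sup_right)

end Cfsg.Agent.S1037
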