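import Cfsg.Statements.S1040
import Cfsg.Agent.Lib.helper22.ChevN
import Cfsg.Agent.Lib.helper22.ChevTriTables
import Cfsg.Agent.Lib.helper23.ChevStringAll

set_option autoImplicit false
open Cfsg

namespace Cfsg.Agent.S1040

/-- `U ∩ N = 1` and `B ∩ N = UH ∩ N = H`. -/
theorem result {F : Type*} [Field F] (D : Cfsg.Lie.ChevalleyDatum) (hD : D ∈ [Cfsg.Lie.chevG2, Cfsg.Lie.chevB2, Cfsg.Lie.chevD4, Cfsg.Lie.chevF4, Cfsg.Lie.chevE6, Cfsg.Lie.chevE7, Cfsg.Lie.chevE8]) :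
    D.posUnipotent F ⊓ D.monomialSubgroup F = ⊥ ∧ D.borelSubgroup F ⊓ D.monomialSubgroup F = D.diagonalSubgroup F := by
  have hSD := Cfsg.Agent.Lib.helper23.exists_stringData D hD
  have hSD' : ∀ r : Fin D.nroots, Nonempty (Cfsg.Agent.Lib.helper22.StringData D r) :=
    fun r => (hSD r).elim fun S _ => ⟨S⟩
  have hP := Cfsg.Agent.Lib.helper22.posOK_of_triOK D (Cfsg.Agent.Lib.helper22.triOK_all D hD)
  exact ⟨Cfsg.Agent.Lib.helper22.posUnipotent_inf_monomialSubgroup hSD' hP,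
    Cfsg.Agent.Lib.helper22.borelSubgroup_inf_monomialSubgroup hSD hP⟩

end Cfsg.Agent.S1040
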