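import Cfsg.Statements.S1024
-- import your own Cfsg.Agent.* helpers here

set_option autoImplicit false
open Cfsg

namespace Cfsg.Agent.S1024

open Cfsg.Lie

/-- Every exponent recorded by `chainCoeff` is positive. -/
theorem chainCoeff_exp_ne_zero (D : ChevalleyDatum) (r s u : ℕ) (km : ℕ × ℤ)
    (h : km ∈ D.chainCoeff r s u) : km.1 ≠ 0 := by
  unfold ChevalleyDatum.chainCoeff at h
  simp only [List.mem_flatMap, List.mem_map] at h
  obtain ⟨e, _, q, _, rfl⟩ := h
  simp

/-- `x_r(0) = 1` for any datum. -/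
theorem xMat_zero (D : ChevalleyDatum) (F : Type*) [Field F] (r : Fin D.nroots) :
    D.xMat F r 0 = 1 := by
  ext row col
  rcases col with i | s <;> rcases row with i' | u
  · simp [ChevalleyDatum.xMat, Matrix.one_apply]
  · simp [ChevalleyDatum.xMat, Matrix.one_apply]
  · simp only [ChevalleyDatum.xMat, Matrix.of_apply, Matrix.one_apply]
    split_ifs <;> simp_all
  · simp only [ChevalleyDatum.xMat, Matrix.of_apply, Matrix.one_apply]
    have hsum : ((D.chainCoeff r.val s.val u.val).map fun km => ((km.2 : ℤ) : F) * (0 : F) ^ km.1).sum = 0 := by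
      apply List.sum_eq_zero
      intro x hx
      simp only [List.mem_map] at hx
      obtain ⟨km, hkm, rfl⟩ := hx
      rw [zero_pow (chainCoeff_exp_ne_zero D _ _ _ km hkm), mul_zero]
    rw [hsum]
    by_cases h1 : s = r
    · subst h1
      simp
    · by_cases h2 : s.val = D.negIdx.getD r.val 0
      · simp only [h1, h2, if_true, if_false]
        by_cases h3 : u = s
        · simp [h3]
        · have h3' : (Sum.inr u : D.Idx) ≠ Sum.inr s := fun h => h3 (Sum.inr.inj h)
          simp [h3, h3']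
      · simp only [h1, h2, if_false]
        by_cases h3 : u = s
        · simp [h3]
        · have h3' : (Sum.inr u : D.Idx) ≠ Sum.inr s := fun h => h3 (Sum.inr.inj h)
          simp [h3, h3']

/-- If `-r` is a valid root index different from `r`, then `x_r(t) = 1` forces `t = 0`. -/
theorem xMat_eq_one (D : ChevalleyDatum) (F : Type*) [Field F] (r : Fin D.nroots) (t : F)
    (h1 : D.negIdx.getD r.val 0 < D.nroots) (h2 : D.negIdx.getD r.val 0 ≠ r.val)
    (h : D.xMat F r t = 1) : t = 0 := by
  have hne : (⟨D.negIdx.getD r.val 0, h1⟩ : Fin D.nroots) ≠ r := by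
    intro hh
    exact h2 (congrArg Fin.val hh)
  have hne' : r ≠ (⟨D.negIdx.getD r.val 0, h1⟩ : Fin D.nroots) := fun hh => hne hh.symm
  have key := congrFun (congrFun h (Sum.inr r)) (Sum.inr ⟨D.negIdx.getD r.val 0, h1⟩)
  have hne'' : (Sum.inr r : D.Idx) ≠ Sum.inr ⟨D.negIdx.getD r.val 0, h1⟩ := fun hh => hne' (Sum.inr.inj hh)
  simp only [ChevalleyDatum.xMat, Matrix.of_apply, Matrix.one_apply, hne, hne', hne'', if_false, if_true] at key
  simpa using key

/-- The table condition: `-r` is a valid root index different from `r`, for every root `r`. -/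
def negOK (D : ChevalleyDatum) : Bool :=
  (List.range D.nroots).all fun r => decide (D.negIdx.getD r 0 < D.nroots) && decide (D.negIdx.getD r 0 ≠ r)

theorem negOK_spec (D : ChevalleyDatum) (h : negOK D = true) (r : ℕ) (hr : r < D.nroots) :
    D.negIdx.getD r 0 < D.nroots ∧ D.negIdx.getD r 0 ≠ r := by
  unfold negOK at h
  rw [List.all_eq_true] at h
  have := h r (List.mem_range.mpr hr)
  simpa using this

set_option maxRecDepth 100000 in
theorem negOK_all (D : ChevalleyDatum) (hD : D ∈ [chevG2, chevB2, chevD4, chevF4, chevE6, chevE7, chevE8]) :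
    negOK D = true := by
  simp only [List.mem_cons, List.not_mem_nil, or_false] at hD
  rcases hD with rfl | rfl | rfl | rfl | rfl | rfl | rfl <;> decide +kernel

/-- `x_r(0) = 1`, and `x_r(t) = 1` forces `t = 0`: the map `t ↦ x_r(t)` is injective. -/
theorem result {F : Type*} [Field F] (D : Cfsg.Lie.ChevalleyDatum) (hD : D ∈ [Cfsg.Lie.chevG2, Cfsg.Lie.chevB2, Cfsg.Lie.chevD4, Cfsg.Lie.chevF4, Cfsg.Lie.chevE6, Cfsg.Lie.chevE7, Cfsg.Lie.chevE8]) (r : ℕ) (hr : r < D.nroots) (t : F) :
    D.x F r t = 1 ↔ t = 0 := by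
  have hx : D.x F r t = D.xMat F ⟨r, hr⟩ t := by
    unfold ChevalleyDatum.x
    rw [dif_pos hr]
  rw [hx]
  constructor
  · intro h
    obtain ⟨h1, h2⟩ := negOK_spec D (negOK_all D hD) r hr
    exact xMat_eq_one D F ⟨r, hr⟩ t h1 h2 h
  · rintro rfl
    exact xMat_zero D F ⟨r, hr⟩

end Cfsg.Agent.S1024
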