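import Cfsg.Statements.S1128
import Cfsg.Agent.Lib.helper24.RankOne3

set_option autoImplicit false
open Cfsg

namespace Cfsg.Agent.S1128

open Cfsg.Agent.Lib.helper24 MulAction

/-- In the rank-one set-up (`G` finite and doubly transitive on `Ω`, `t` an involution moving `a`, `Q` normal in `G_a` with `G_a = Q D`, `Q ⊓ D = 1` for the two-point stabiliser `D = G_a ⊓ G_{t • a}`, `|Q|` even, `|D|` odd), with the action faithful and `G` containing two distinct commuting involutions: every non-identity element of `D` inverted by `t` acts fixed-point-freely on `Q`. -/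
theorem result {G Ω : Type*} [Group G] [Finite G] [MulAction G Ω] [FaithfulSMul G Ω] {a : Ω} {t : G} {Q : Subgroup G}
    (hS : Cfsg.IsRankOneSetup G Ω a t Q)
    (h2 : ∃ x y : G, x ≠ 1 ∧ y ≠ 1 ∧ x ≠ y ∧ x * x = 1 ∧ y * y = 1 ∧ x * y = y * x)
    (x : G) (hx : x ∈ Cfsg.invertedBy (MulAction.stabilizer G a ⊓ MulAction.stabilizer G (t • a)) t) (hx1 : x ≠ 1) :
    Q ⊓ Subgroup.centralizer {x} = ⊥ := by
  have hti := ro_t_inv hS
  rw [Subgroup.eq_bot_iff_forall]
  rintro r ⟨hrQ, hrC⟩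
  by_contra hr1
  have hrx : x * r = r * x := by
    have := Subgroup.mem_centralizer_iff.mp hrC x rfl
    exact this
  have hb := ro_tsmul_ne hS
  have hX : ({x} : Set G) ⊆ ((MulAction.stabilizer G a ⊓ MulAction.stabilizer G (t • a) : Subgroup G) : Set G) := by
    intro y hy
    have hy' : y = x := hy
    rw [hy']
    exact hx.1
  have hea : r • (t • a) ≠ a := ro_Q_smul_ne hS hrQ hb
  have heb : r • (t • a) ≠ t • a := by
    intro h
    exact hr1 (ro_semireg hS hrQ hb h)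
  have hXe : ∀ y ∈ ({x} : Set G), y • (r • (t • a)) = r • (t • a) := by
    intro y hy
    have hy' : y = x := hy
    rw [hy']
    have hxb : x • (t • a) = t • a := hx.1.2
    rw [← mul_smul, hrx, mul_smul, hxb]
  obtain ⟨k, hk, hkx⟩ := ro_conj_into_cent_t hS hX hea heb hXe
  have h1 := hkx x rfl
  -- x commutes with v = k⁻¹ t k
  have h3 : x * (k⁻¹ * t * k) = (k⁻¹ * t * k) * x := by
    calc x * (k⁻¹ * t * k) = k⁻¹ * ((k * x * k⁻¹) * t) * k := by group
      _ = k⁻¹ * (t * (k * x * k⁻¹)) * k := by rw [h1]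
      _ = (k⁻¹ * t * k) * x := by group
  -- f = t * (k⁻¹ t k) ∈ D inverts x
  have hf : t * (k⁻¹ * t * k) ∈ MulAction.stabilizer G a ⊓ MulAction.stabilizer G (t • a) := by
    have h4 := ro_t_norm_D hS k⁻¹ (inv_mem hk)
    rw [hti] at h4
    have : t * (k⁻¹ * t * k) = (t * k⁻¹ * t) * k := by group
    rw [this]
    exact mul_mem h4 hk
  have hinv : (t * (k⁻¹ * t * k)) * x * (t * (k⁻¹ * t * k))⁻¹ = x⁻¹ := by
    have e1 : (t * (k⁻¹ * t * k)) * x * (t * (k⁻¹ * t * k))⁻¹ =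
        t * ((k⁻¹ * t * k) * x) * (k⁻¹ * t * k)⁻¹ * t⁻¹ := by group
    rw [e1, ← h3]
    have e2 : t * (x * (k⁻¹ * t * k)) * (k⁻¹ * t * k)⁻¹ * t⁻¹ = t * x * t⁻¹ := by group
    rw [e2, hx.2]
  exact hx1 (odd_inverted_eq_one hS.odd_card hx.1 hf hinv)

end Cfsg.Agent.S1128
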