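import Mathlib
import Cfsg.Statements.S5957
-- import your own Cfsg.Agent.* helpers here

set_option autoImplicit false
open scoped MatrixGroups
open Cfsg

namespace Cfsg.Agent.S5957


theorem peel1 {κ lam : Type} [DecidableEq κ] [DecidableEq lam] (a t : ℕ)
    (K K₀ : Finset κ) (L L₀ : Finset lam) (hK : K₀ ⊆ K) (hL : L₀ ⊆ L)
    (hcard : 2 * K₀.card + L₀.card = a)
    (A' : κ → ℕ) (C' : lam → ℕ) (σ : ℕ → ℕ)
    (h1 : ∀ j, σ (σ j) = j) (h2 : ∀ j, j < t → σ j < t) (h3 : ∀ j, t ≤ j → σ j = j)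
    (h4 : ∀ k ∈ K \ K₀, A' k < t) (h5 : ∀ l ∈ L \ L₀, C' l < t ∧ σ (C' l) = C' l)
    (h6 : ∀ j, j < t → (∑ k ∈ K \ K₀, if A' k = j then 1 else 0)
      + (∑ k ∈ K \ K₀, if σ (A' k) = j then 1 else 0)
      + (∑ l ∈ L \ L₀, if C' l = j then 1 else 0) = a) :
    ∃ (A : κ → ℕ) (C : lam → ℕ) (σ : ℕ → ℕ), (∀ j, σ (σ j) = j) ∧ (∀ j, j < t + 1 → σ j < t + 1) ∧
      (∀ j, t + 1 ≤ j → σ j = j) ∧
      (∀ k ∈ K, A k < t + 1) ∧ (∀ l ∈ L, C l < t + 1 ∧ σ (C l) = C l) ∧
      ∀ j, j < t + 1 → (∑ k ∈ K, if A k = j then 1 else 0) + (∑ k ∈ K, if σ (A k) = j then 1 else 0)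
        + (∑ l ∈ L, if C l = j then 1 else 0) = a := by
  have hσt : σ t = t := h3 t le_rfl
  refine ⟨fun k => if k ∈ K₀ then t else A' k, fun l => if l ∈ L₀ then t else C' l, σ, h1, ?_, ?_, ?_, ?_, ?_⟩
  · intro j hj
    rcases Nat.lt_succ_iff_lt_or_eq.1 hj with h | h
    · have := h2 j h; omega
    · subst h; omega
  · intro j hj; exact h3 j (by omega)
  · intro k hk
    by_cases hk0 : k ∈ K₀
    · simp [hk0]
    · have := h4 k (Finset.mem_sdiff.2 ⟨hk, hk0⟩)
      simp only [hk0, if_false]; omega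
  · intro l hl
    by_cases hl0 : l ∈ L₀
    · simp [hl0, hσt]
    · have := h5 l (Finset.mem_sdiff.2 ⟨hl, hl0⟩)
      simp only [hl0, if_false]; exact ⟨by omega, this.2⟩
  · intro j hj
    rw [← Finset.sum_sdiff hK, ← Finset.sum_sdiff hK, ← Finset.sum_sdiff hL]
    have e1 : (∑ k ∈ K \ K₀, if (if k ∈ K₀ then t else A' k) = j then 1 else 0)
        = ∑ k ∈ K \ K₀, if A' k = j then 1 else 0 :=
      Finset.sum_congr rfl (fun k hk => by rw [if_neg (Finset.mem_sdiff.1 hk).2])
    have e2 : (∑ k ∈ K \ K₀, if σ (if k ∈ K₀ then t else A' k) = j then 1 else 0)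
        = ∑ k ∈ K \ K₀, if σ (A' k) = j then 1 else 0 :=
      Finset.sum_congr rfl (fun k hk => by rw [if_neg (Finset.mem_sdiff.1 hk).2])
    have e3 : (∑ l ∈ L \ L₀, if (if l ∈ L₀ then t else C' l) = j then 1 else 0)
        = ∑ l ∈ L \ L₀, if C' l = j then 1 else 0 :=
      Finset.sum_congr rfl (fun l hl => by rw [if_neg (Finset.mem_sdiff.1 hl).2])
    have f1 : (∑ k ∈ K₀, if (if k ∈ K₀ then t else A' k) = j then 1 else 0)
        = ∑ k ∈ K₀, if t = j then 1 else 0 :=
      Finset.sum_congr rfl (fun k hk => by rw [if_pos hk])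
    have f2 : (∑ k ∈ K₀, if σ (if k ∈ K₀ then t else A' k) = j then 1 else 0)
        = ∑ k ∈ K₀, if t = j then 1 else 0 :=
      Finset.sum_congr rfl (fun k hk => by rw [if_pos hk, hσt])
    have f3 : (∑ l ∈ L₀, if (if l ∈ L₀ then t else C' l) = j then 1 else 0)
        = ∑ l ∈ L₀, if t = j then 1 else 0 :=
      Finset.sum_congr rfl (fun l hl => by rw [if_pos hl])
    rw [e1, e2, e3, f1, f2, f3]
    rcases Nat.lt_succ_iff_lt_or_eq.1 hj with h | h
    · have hne : ¬ (t = j) := by omega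
      simp only [hne, if_false, Finset.sum_const_zero, add_zero]
      exact h6 j h
    · subst h
      have g1 : (∑ k ∈ K \ K₀, if A' k = j then 1 else 0) = 0 :=
        Finset.sum_eq_zero (fun k hk => by
          have := h4 k hk
          rw [if_neg (by omega)])
      have g2 : (∑ k ∈ K \ K₀, if σ (A' k) = j then 1 else 0) = 0 :=
        Finset.sum_eq_zero (fun k hk => by
          have := h2 _ (h4 k hk)
          rw [if_neg (by omega)])
      have g3 : (∑ l ∈ L \ L₀, if C' l = j then 1 else 0) = 0 :=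
        Finset.sum_eq_zero (fun l hl => by
          have := (h5 l hl).1
          rw [if_neg (by omega)])
      rw [g1, g2, g3]
      simp only [if_true, Finset.sum_const, smul_eq_mul, mul_one]
      omega


theorem peel2 {κ lam : Type} [DecidableEq κ] [DecidableEq lam] (a t : ℕ)
    (K K₀ : Finset κ) (L : Finset lam) (hK : K₀ ⊆ K) (hL : L = ∅)
    (hcard : K₀.card = a)
    (A' : κ → ℕ) (C' : lam → ℕ) (σ' : ℕ → ℕ)
    (h1 : ∀ j, σ' (σ' j) = j) (h2 : ∀ j, j < t → σ' j < t) (h3 : ∀ j, t ≤ j → σ' j = j)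
    (h4 : ∀ k ∈ K \ K₀, A' k < t)
    (h6 : ∀ j, j < t → (∑ k ∈ K \ K₀, if A' k = j then 1 else 0)
      + (∑ k ∈ K \ K₀, if σ' (A' k) = j then 1 else 0)
      + (∑ l ∈ L, if C' l = j then 1 else 0) = a) :
    ∃ (A : κ → ℕ) (C : lam → ℕ) (σ : ℕ → ℕ), (∀ j, σ (σ j) = j) ∧ (∀ j, j < t + 2 → σ j < t + 2) ∧
      (∀ j, t + 2 ≤ j → σ j = j) ∧
      (∀ k ∈ K, A k < t + 2) ∧ (∀ l ∈ L, C l < t + 2 ∧ σ (C l) = C l) ∧
      ∀ j, j < t + 2 → (∑ k ∈ K, if A k = j then 1 else 0) + (∑ k ∈ K, if σ (A k) = j then 1 else 0)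
        + (∑ l ∈ L, if C l = j then 1 else 0) = a := by
  subst hL
  obtain ⟨σ, hσdef⟩ : ∃ σ : ℕ → ℕ, σ = fun j => if j = t then t + 1 else if j = t + 1 then t else σ' j :=
    ⟨_, rfl⟩
  have s1 : σ t = t + 1 := by rw [hσdef]; simp
  have s2 : σ (t + 1) = t := by rw [hσdef]; simp
  have s3 : ∀ j, j < t → σ j = σ' j := by
    intro j hj
    rw [hσdef]
    have e1 : ¬ (j = t) := by omega
    have e2 : ¬ (j = t + 1) := by omega
    simp only [e1, e2, if_false]
  have s4 : ∀ j, t + 2 ≤ j → σ j = j := by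
    intro j hj
    rw [hσdef]
    have e1 : ¬ (j = t) := by omega
    have e2 : ¬ (j = t + 1) := by omega
    simp only [e1, e2, if_false]
    exact h3 j (by omega)
  refine ⟨fun k => if k ∈ K₀ then t else A' k, C', σ, ?_, ?_, s4, ?_, ?_, ?_⟩
  · intro j
    rcases lt_or_ge j t with h | h
    · rw [s3 j h, s3 _ (h2 j h), h1]
    · rcases Nat.eq_or_lt_of_le h with h | h
      · subst h; rw [s1, s2]
      · rcases Nat.eq_or_lt_of_le (Nat.succ_le_of_lt h) with h' | h'
        · have : j = t + 1 := by omega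
          subst this; rw [s2, s1]
        · have : t + 2 ≤ j := by omega
          rw [s4 j this, s4 j this]
  · intro j hj
    rcases lt_or_ge j t with h | h
    · rw [s3 j h]; have := h2 j h; omega
    · rcases Nat.eq_or_lt_of_le h with h | h
      · subst h; rw [s1]; omega
      · have : j = t + 1 := by omega
        subst this; rw [s2]; omega
  · intro k hk
    by_cases hk0 : k ∈ K₀
    · simp [hk0]
    · have := h4 k (Finset.mem_sdiff.2 ⟨hk, hk0⟩)
      simp only [hk0, if_false]; omega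
  · intro l hl
    simp at hl
  · intro j hj
    rw [← Finset.sum_sdiff hK, ← Finset.sum_sdiff hK]
    have e1 : (∑ k ∈ K \ K₀, if (if k ∈ K₀ then t else A' k) = j then 1 else 0)
        = ∑ k ∈ K \ K₀, if A' k = j then 1 else 0 :=
      Finset.sum_congr rfl (fun k hk => by rw [if_neg (Finset.mem_sdiff.1 hk).2])
    have e2 : (∑ k ∈ K \ K₀, if σ (if k ∈ K₀ then t else A' k) = j then 1 else 0)
        = ∑ k ∈ K \ K₀, if σ' (A' k) = j then 1 else 0 :=
      Finset.sum_congr rfl (fun k hk => by rw [if_neg (Finset.mem_sdiff.1 hk).2, s3 _ (h4 k hk)])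
    have f1 : (∑ k ∈ K₀, if (if k ∈ K₀ then t else A' k) = j then 1 else 0)
        = ∑ k ∈ K₀, if t = j then 1 else 0 :=
      Finset.sum_congr rfl (fun k hk => by rw [if_pos hk])
    have f2 : (∑ k ∈ K₀, if σ (if k ∈ K₀ then t else A' k) = j then 1 else 0)
        = ∑ k ∈ K₀, if t + 1 = j then 1 else 0 :=
      Finset.sum_congr rfl (fun k hk => by rw [if_pos hk, s1])
    rw [e1, e2, f1, f2]
    rcases lt_or_ge j t with h | h
    · have hne : ¬ (t = j) := by omega
      have hne' : ¬ (t + 1 = j) := by omega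
      simp only [hne, hne', if_false, Finset.sum_const_zero, add_zero]
      exact h6 j h
    · have g1 : (∑ k ∈ K \ K₀, if A' k = j then 1 else 0) = 0 :=
        Finset.sum_eq_zero (fun k hk => by
          have := h4 k hk
          rw [if_neg (by omega)])
      have g2 : (∑ k ∈ K \ K₀, if σ' (A' k) = j then 1 else 0) = 0 :=
        Finset.sum_eq_zero (fun k hk => by
          have := h2 _ (h4 k hk)
          rw [if_neg (by omega)])
      rw [g1, g2]
      rcases Nat.eq_or_lt_of_le h with h | h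
      · subst h
        have hne' : ¬ (t + 1 = t) := by omega
        simp only [hne', if_true, if_false, Finset.sum_const, smul_eq_mul, mul_one, Finset.sum_empty]
        omega
      · have : j = t + 1 := by omega
        subst this
        have hne' : ¬ (t = t + 1) := by omega
        simp only [hne', if_true, if_false, Finset.sum_const, smul_eq_mul, mul_one, Finset.sum_empty]
        omega

theorem comb {κ lam : Type} [DecidableEq κ] [DecidableEq lam] (a : ℕ) (ha : 1 ≤ a) :
    ∀ t : ℕ, ∀ (K : Finset κ) (L : Finset lam), 2 * K.card + L.card = a * t →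
      ∃ (A : κ → ℕ) (C : lam → ℕ) (σ : ℕ → ℕ), (∀ j, σ (σ j) = j) ∧ (∀ j, j < t → σ j < t) ∧
        (∀ j, t ≤ j → σ j = j) ∧
        (∀ k ∈ K, A k < t) ∧ (∀ l ∈ L, C l < t ∧ σ (C l) = C l) ∧
        ∀ j, j < t → (∑ k ∈ K, if A k = j then 1 else 0) + (∑ k ∈ K, if σ (A k) = j then 1 else 0)
          + (∑ l ∈ L, if C l = j then 1 else 0) = a := by
  intro t
  induction t using Nat.strong_induction_on with
  | _ t ih =>
    intro K L hKL
    rcases t with _ | t
    · have hK : K = ∅ := Finset.card_eq_zero.1 (by omega)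
      have hL : L = ∅ := Finset.card_eq_zero.1 (by omega)
      subst hK; subst hL
      exact ⟨fun _ => 0, fun _ => 0, id, fun _ => rfl, fun j hj => by omega, fun _ _ => rfl, by simp,
        by simp, fun j hj => by omega⟩
    · have hmul : a * (t + 1) = a * t + a := by ring
      by_cases hc : ∃ k l, 2 * k + l = a ∧ k ≤ K.card ∧ l ≤ L.card
      · obtain ⟨k, l, hkl, hk, hl⟩ := hc
        obtain ⟨K₀, hK₀, hK₀c⟩ := Finset.exists_subset_card_eq hk
        obtain ⟨L₀, hL₀, hL₀c⟩ := Finset.exists_subset_card_eq hl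
        have hc1 : (K \ K₀).card = K.card - k := by rw [Finset.card_sdiff_of_subset hK₀, hK₀c]
        have hc2 : (L \ L₀).card = L.card - l := by rw [Finset.card_sdiff_of_subset hL₀, hL₀c]
        obtain ⟨A', C', σ', h1, h2, h3, h4, h5, h6⟩ :=
          ih t (Nat.lt_succ_self t) (K \ K₀) (L \ L₀) (by rw [hc1, hc2]; omega)
        exact peel1 a t K K₀ L L₀ hK₀ hL₀ (by rw [hK₀c, hL₀c]; exact hkl) A' C' σ' h1 h2 h3 h4 h5 h6
      · have hL0 : L.card = 0 := by
          by_contra hne
          apply hc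
          by_cases h1 : a ≤ 2 * K.card
          · by_cases h2 : a % 2 = 0
            · exact ⟨a / 2, 0, by omega, by omega, by omega⟩
            · exact ⟨a / 2, 1, by omega, by omega, by omega⟩
          · exact ⟨K.card, a - 2 * K.card, by omega, le_rfl, by omega⟩
        have haK : a ≤ 2 * K.card := by omega
        have hodd : a % 2 = 1 := by
          by_contra h2
          exact hc ⟨a / 2, 0, by omega, by omega, by omega⟩
        obtain ⟨t', rfl⟩ : ∃ t', t = t' + 1 := by
          rcases t with _ | t'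
          · exfalso; omega
          · exact ⟨t', rfl⟩
        have hmul2 : a * (t' + 1 + 1) = a * t' + 2 * a := by ring
        have haK' : a ≤ K.card := by omega
        obtain ⟨K₀, hK₀, hK₀c⟩ := Finset.exists_subset_card_eq haK'
        have hc1 : (K \ K₀).card = K.card - a := by rw [Finset.card_sdiff_of_subset hK₀, hK₀c]
        have hLe : L = ∅ := Finset.card_eq_zero.1 hL0
        obtain ⟨A', C', σ', h1, h2, h3, h4, h5, h6⟩ :=
          ih t' (by omega) (K \ K₀) L (by rw [hc1]; omega)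
        exact peel2 a t' K K₀ L hK₀ hLe hK₀c A' C' σ' h1 h2 h3 h4 h6



section LA
open Submodule

variable {F : Type*} [Field F] {V : Type*} [AddCommGroup V] [Module F V] [FiniteDimensional F V]

theorem exists_fam (P : Submodule F V) : ∃ (m : ℕ) (v : Fin m → V),
    LinearIndependent F v ∧ span F (Set.range v) = P := by
  let b := Module.finBasis F P
  refine ⟨_, fun i => (b i : V), ?_, ?_⟩
  · exact b.linearIndependent.map' P.subtype (Submodule.ker_subtype P)
  · have : Set.range (fun i => (b i : V)) = P.subtype '' Set.range b := by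
      rw [← Set.range_comp]; rfl
    rw [this, ← Submodule.map_span, b.span_eq, Submodule.map_subtype_top]

theorem li_sum {ι₁ ι₂ : Type*} (P Q : Submodule F V) (hd : Disjoint P Q) (v₁ : ι₁ → V) (v₂ : ι₂ → V)
    (h₁ : LinearIndependent F v₁) (h₂ : LinearIndependent F v₂)
    (s₁ : span F (Set.range v₁) = P) (s₂ : span F (Set.range v₂) = Q) :
    LinearIndependent F (Sum.elim v₁ v₂) ∧ span F (Set.range (Sum.elim v₁ v₂)) = P ⊔ Q := by
  constructor
  · exact LinearIndependent.sum_type h₁ h₂ (by rw [s₁, s₂]; exact hd)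
  · rw [Set.Sum.elim_range, Submodule.span_union, s₁, s₂]

/-- the target structure -/
def Mono (X : V →ₗ[F] V) (z : F) : Prop :=
  ∃ (κ lam : Type) (_ : Fintype κ) (_ : Fintype lam) (b : Module.Basis ((κ ⊕ κ) ⊕ lam) F V) (c : lam → F),
    (∀ k, X (b (Sum.inl (Sum.inl k))) = b (Sum.inl (Sum.inr k))) ∧
    (∀ k, X (b (Sum.inl (Sum.inr k))) = z • b (Sum.inl (Sum.inl k))) ∧
    ∀ l, X (b (Sum.inr l)) = c l • b (Sum.inr l)

theorem mono_of_data (X : V →ₗ[F] V) (z : F) (hz : z ≠ 0) (hX : ∀ v, X (X v) = z • v)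
    (W C : Submodule F V) (hd : Disjoint W (W.map X)) (hd2 : Disjoint (W ⊔ W.map X) C)
    (htop : (W ⊔ W.map X) ⊔ C = ⊤) (lam : Type) [Fintype lam] (cv : lam → V) (c : lam → F)
    (hcli : LinearIndependent F cv) (hcsp : span F (Set.range cv) = C)
    (hc : ∀ l, X (cv l) = c l • cv l) : Mono X z := by
  obtain ⟨m, wv, hwli, hwsp⟩ := exists_fam W
  have hker : LinearMap.ker X = ⊥ := by
    rw [LinearMap.ker_eq_bot']
    intro v hv
    have h := hX v
    rw [hv, map_zero] at h
    rcases smul_eq_zero.1 h.symm with h' | h'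
    · exact absurd h' hz
    · exact h'
  have hxli : LinearIndependent F (fun k => X (wv k)) := hwli.map' X hker
  have hxsp : span F (Set.range (fun k => X (wv k))) = W.map X := by
    have : Set.range (fun k => X (wv k)) = X '' Set.range wv := by
      rw [← Set.range_comp]; rfl
    rw [this, ← Submodule.map_span, hwsp]
  obtain ⟨l1, s1⟩ := li_sum W (W.map X) hd wv (fun k => X (wv k)) hwli hxli hwsp hxsp
  obtain ⟨l2, s2⟩ := li_sum (W ⊔ W.map X) C hd2 _ cv l1 hcli s1 hcsp
  refine ⟨Fin m, lam, inferInstance, inferInstance, Module.Basis.mk l2 (by rw [s2, htop]), c, ?_, ?_, ?_⟩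
  · intro k
    rw [Module.Basis.mk_apply, Module.Basis.mk_apply]
    rfl
  · intro k
    rw [Module.Basis.mk_apply, Module.Basis.mk_apply]
    exact hX _
  · intro l
    rw [Module.Basis.mk_apply]
    exact hc l

theorem mono_caseA (X : V →ₗ[F] V) (z : F) (hz : z ≠ 0) (hX : ∀ v, X (X v) = z • v)
    (w : F) (hw : w * w = z) (hw2 : w + w ≠ 0) : Mono X z := by
  obtain ⟨P, hP⟩ : ∃ P : Submodule F V, P = LinearMap.ker (X - w • LinearMap.id) := ⟨_, rfl⟩
  obtain ⟨Q, hQ⟩ : ∃ Q : Submodule F V, Q = LinearMap.ker (X + w • LinearMap.id) := ⟨_, rfl⟩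
  have memP : ∀ v, v ∈ P ↔ X v = w • v := by
    intro v
    rw [hP, LinearMap.mem_ker]
    simp [sub_eq_zero]
  have memQ : ∀ v, v ∈ Q ↔ X v = - (w • v) := by
    intro v
    rw [hQ, LinearMap.mem_ker]
    simp [add_eq_zero_iff_eq_neg]
  have hdis : Disjoint P Q := by
    rw [Submodule.disjoint_def]
    intro v hv1 hv2
    rw [memP] at hv1
    rw [memQ] at hv2
    have h : (w + w) • v = 0 := by
      rw [add_smul]
      exact add_eq_zero_iff_eq_neg.2 (hv1.symm.trans hv2)
    rcases smul_eq_zero.1 h with h' | h'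
    · exact absurd h' hw2
    · exact h'
  have hsup : P ⊔ Q = ⊤ := by
    rw [Submodule.eq_top_iff']
    intro v
    have e : v = (w + w)⁻¹ • (X v + w • v) + (w + w)⁻¹ • (w • v - X v) := by
      rw [← smul_add]
      have : X v + w • v + (w • v - X v) = (w + w) • v := by rw [add_smul]; abel
      rw [this, smul_smul, inv_mul_cancel₀ hw2, one_smul]
    rw [e]
    refine Submodule.add_mem_sup (Submodule.smul_mem _ _ ?_) (Submodule.smul_mem _ _ ?_)
    · rw [memP, map_add, hX, map_smul, smul_add, smul_smul, hw]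
      abel
    · rw [memQ, map_sub, hX, map_smul, smul_sub, smul_smul, hw]
      abel
  obtain ⟨m₁, v₁, l₁, s₁⟩ := exists_fam P
  obtain ⟨m₂, v₂, l₂, s₂⟩ := exists_fam Q
  obtain ⟨l3, s3⟩ := li_sum P Q hdis v₁ v₂ l₁ l₂ s₁ s₂
  refine mono_of_data X z hz hX ⊥ ⊤ (by simp) (by simp) (by simp) (Fin m₁ ⊕ Fin m₂) (Sum.elim v₁ v₂)
    (Sum.elim (fun _ => w) (fun _ => -w)) l3 (by rw [s3, hsup]) ?_
  rintro (l | l)
  · have : v₁ l ∈ P := by rw [← s₁]; exact Submodule.subset_span ⟨l, rfl⟩
    simpa using (memP _).1 this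
  · have : v₂ l ∈ Q := by rw [← s₂]; exact Submodule.subset_span ⟨l, rfl⟩
    simpa using (memQ _).1 this

theorem mono_caseB (X : V →ₗ[F] V) (z : F) (hz : z ≠ 0) (hX : ∀ v, X (X v) = z • v)
    (hns : ¬ ∃ w : F, w * w = z) : Mono X z := by
  obtain ⟨W, hW, hmax⟩ := wellFounded_gt.has_min {W : Submodule F V | Disjoint W (W.map X)}
    ⟨⊥, by simp⟩
  have hWd : Disjoint W (W.map X) := hW
  have hinv : ∀ u ∈ W ⊔ W.map X, X u ∈ W ⊔ W.map X := by
    intro u hu
    obtain ⟨u₁, hu₁, u₂, hu₂, rfl⟩ := Submodule.mem_sup.1 hu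
    obtain ⟨u₃, hu₃, rfl⟩ := Submodule.mem_map.1 hu₂
    rw [map_add, hX, add_comm]
    exact Submodule.add_mem_sup (Submodule.smul_mem _ _ hu₃) (Submodule.mem_map_of_mem hu₁)
  have htop : W ⊔ W.map X = ⊤ := by
    rw [Submodule.eq_top_iff']
    intro v
    by_contra hv
    have hlt : W < W ⊔ span F {v} := by
      refine lt_of_le_of_ne le_sup_left (fun h => hv ?_)
      have : v ∈ W := by
        rw [h]
        exact Submodule.mem_sup_right (Submodule.mem_span_singleton_self v)
      exact Submodule.mem_sup_left this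
    have hnd : ¬ Disjoint (W ⊔ span F {v}) ((W ⊔ span F {v}).map X) := fun h => hmax _ h hlt
    rw [Submodule.disjoint_def] at hnd
    push Not at hnd
    obtain ⟨y, hy1, hy2, hy0⟩ := hnd
    obtain ⟨w₁, hw₁, y₁, hy₁, e1⟩ := Submodule.mem_sup.1 hy1
    obtain ⟨α, rfl⟩ := Submodule.mem_span_singleton.1 hy₁
    obtain ⟨y', hy', e2⟩ := Submodule.mem_map.1 hy2
    obtain ⟨w₂, hw₂, y₂, hy₂, e3⟩ := Submodule.mem_sup.1 hy'
    obtain ⟨β, rfl⟩ := Submodule.mem_span_singleton.1 hy₂
    -- d = α v - β X v = X w₂ - w₁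
    have hd : α • v - β • X v = X w₂ - w₁ := by
      have h : w₁ + α • v = X w₂ + β • X v := by
        rw [e1, ← e2, ← e3, map_add, map_smul]
      rw [sub_eq_sub_iff_add_eq_add]
      rw [add_comm, h]
    have hdU : α • v - β • X v ∈ W ⊔ W.map X := by
      rw [hd]
      exact Submodule.sub_mem _ (Submodule.mem_sup_right (Submodule.mem_map_of_mem hw₂))
        (Submodule.mem_sup_left hw₁)
    have h2 : α • (α • v - β • X v) + β • X (α • v - β • X v) ∈ W ⊔ W.map X :=
      Submodule.add_mem _ (Submodule.smul_mem _ _ hdU) (Submodule.smul_mem _ _ (hinv _ hdU))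
    have h3 : α • (α • v - β • X v) + β • X (α • v - β • X v) = (α * α - β * β * z) • v := by
      rw [map_sub, map_smul, map_smul, hX, sub_smul, smul_sub, smul_sub, smul_smul, smul_smul, smul_smul,
        smul_smul, smul_smul, mul_comm β α]
      abel
    rw [h3] at h2
    have hne : α * α - β * β * z ≠ 0 := by
      intro h0
      by_cases hβ : β = 0
      · subst hβ
        have hα : α = 0 := by
          have : α * α = 0 := by simpa using h0
          exact mul_self_eq_zero.1 this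
        subst hα
        apply hy0
        have hyW : y ∈ W := by rw [← e1]; simpa using hw₁
        have hyXW : y ∈ W.map X := by
          rw [← e2, ← e3]
          refine Submodule.mem_map_of_mem ?_
          simpa using hw₂
        exact (Submodule.disjoint_def.1 hWd) y hyW hyXW
      · apply hns
        refine ⟨α * β⁻¹, ?_⟩
        have : α * α = β * β * z := sub_eq_zero.1 h0
        rw [mul_mul_mul_comm, this]
        field_simp
    have : v = (α * α - β * β * z)⁻¹ • ((α * α - β * β * z) • v) := by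
      rw [smul_smul, inv_mul_cancel₀ hne, one_smul]
    exact hv (this ▸ Submodule.smul_mem _ _ h2)
  refine mono_of_data X z hz hX W ⊥ hWd (by simp) (by simpa using htop) (Fin 0) (fun i => Fin.elim0 i)
    (fun _ => 0) linearIndependent_empty_type ?_ (fun l => Fin.elim0 l)
  rw [Set.range_eq_empty, Submodule.span_empty]

theorem mono_caseC (X : V →ₗ[F] V) (z : F) (hz : z ≠ 0) (hX : ∀ v, X (X v) = z • v)
    (w : F) (hw : w * w = z) (hw2 : w + w = 0) : Mono X z := by
  obtain ⟨P, hP⟩ : ∃ P : Submodule F V, P = LinearMap.ker (X - w • LinearMap.id) := ⟨_, rfl⟩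
  have memP : ∀ v, v ∈ P ↔ X v = w • v := by
    intro v
    rw [hP, LinearMap.mem_ker]
    simp [sub_eq_zero]
  have hNN : ∀ v, X v - w • v ∈ P := by
    intro v
    rw [memP, map_sub, hX, map_smul, smul_sub, smul_smul, hw]
    have h : w • X v + w • X v = 0 := by rw [← add_smul, hw2, zero_smul]
    have h' : z • v + z • v = 0 := by rw [← add_smul, ← hw, ← mul_add, hw2, mul_zero, zero_smul]
    rw [sub_eq_sub_iff_add_eq_add]
    rw [h']
    rw [h]
  obtain ⟨W, hPW⟩ := Submodule.exists_isCompl P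
  have hPWd : ∀ v, v ∈ P → v ∈ W → v = 0 := fun v h1 h2 => (Submodule.disjoint_def.1 hPW.disjoint) v h1 h2
  have hWd : Disjoint W (W.map X) := by
    rw [Submodule.disjoint_def]
    intro y hy hy2
    obtain ⟨y', hy', rfl⟩ := Submodule.mem_map.1 hy2
    have h1 : X y' - w • y' ∈ W := Submodule.sub_mem _ hy (Submodule.smul_mem _ _ hy')
    have h2 : X y' - w • y' = 0 := hPWd _ (hNN y') h1
    have h3 : y' = 0 := hPWd _ ((memP y').2 (sub_eq_zero.1 h2)) hy'
    rw [h3, map_zero]
  obtain ⟨C', hC'⟩ := Submodule.exists_isCompl (W.map (X - w • LinearMap.id))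
  have hd2 : Disjoint (W ⊔ W.map X) (C' ⊓ P) := by
    rw [Submodule.disjoint_def]
    intro u hu hu2
    obtain ⟨u₁, hu₁, u', hu', rfl⟩ := Submodule.mem_sup.1 hu
    obtain ⟨u₂, hu₂, rfl⟩ := Submodule.mem_map.1 hu'
    obtain ⟨huC, huP⟩ := Submodule.mem_inf.1 hu2
    -- u₁ + w u₂ ∈ P ∩ W
    have h1 : u₁ + w • u₂ ∈ P := by
      have : u₁ + w • u₂ = (u₁ + X u₂) - (X u₂ - w • u₂) := by abel
      rw [this]
      exact Submodule.sub_mem _ huP (hNN u₂)
    have h2 : u₁ + w • u₂ = 0 := hPWd _ h1 (Submodule.add_mem _ hu₁ (Submodule.smul_mem _ _ hu₂))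
    have h3 : u₁ + X u₂ = (X - w • LinearMap.id : V →ₗ[F] V) u₂ := by
      have : u₁ + X u₂ = (u₁ + w • u₂) + (X u₂ - w • u₂) := by abel
      rw [this, h2, zero_add]
      simp
    have h4 : u₁ + X u₂ ∈ W.map (X - w • LinearMap.id) := by
      rw [h3]; exact Submodule.mem_map_of_mem hu₂
    exact (Submodule.disjoint_def.1 hC'.disjoint) _ h4 huC
  have htop : (W ⊔ W.map X) ⊔ (C' ⊓ P) = ⊤ := by
    rw [Submodule.eq_top_iff']
    intro v
    have hv : v ∈ P ⊔ W := by rw [hPW.sup_eq_top]; exact Submodule.mem_top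
    obtain ⟨p, hp, w₀, hw₀, rfl⟩ := Submodule.mem_sup.1 hv
    have hp' : p ∈ W.map (X - w • LinearMap.id) ⊔ C' := by rw [hC'.sup_eq_top]; exact Submodule.mem_top
    obtain ⟨n₁, hn₁, c', hc', rfl⟩ := Submodule.mem_sup.1 hp'
    obtain ⟨w₁, hw₁, rfl⟩ := Submodule.mem_map.1 hn₁
    have e : (X - w • LinearMap.id : V →ₗ[F] V) w₁ = X w₁ - w • w₁ := by simp
    rw [e] at hp ⊢
    have hc'P : c' ∈ P := by
      have : c' = (X w₁ - w • w₁ + c') - (X w₁ - w • w₁) := by abel
      rw [this]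
      exact Submodule.sub_mem _ hp (hNN w₁)
    have e2 : X w₁ - w • w₁ + c' + w₀ = ((w₀ - w • w₁) + X w₁) + c' := by abel
    rw [e2]
    exact Submodule.add_mem_sup (Submodule.add_mem_sup
      (Submodule.sub_mem _ hw₀ (Submodule.smul_mem _ _ hw₁)) (Submodule.mem_map_of_mem hw₁))
      (Submodule.mem_inf.2 ⟨hc', hc'P⟩)
  obtain ⟨mc, cv, hcli, hcsp⟩ := exists_fam (C' ⊓ P)
  refine mono_of_data X z hz hX W (C' ⊓ P) hWd hd2 htop (Fin mc) cv (fun _ => w) hcli hcsp ?_
  intro l
  have : cv l ∈ C' ⊓ P := by rw [← hcsp]; exact Submodule.subset_span ⟨l, rfl⟩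
  exact (memP _).1 (Submodule.mem_inf.1 this).2

theorem mono_all [DecidableEq F] (X : V →ₗ[F] V) (z : F) (hz : z ≠ 0) (hX : ∀ v, X (X v) = z • v) :
    Mono X z := by
  by_cases hsq : ∃ w : F, w * w = z
  · obtain ⟨w, hw⟩ := hsq
    by_cases hw2 : w + w = 0
    · exact mono_caseC X z hz hX w hw hw2
    · exact mono_caseA X z hz hX w hw hw2
  · exact mono_caseB X z hz hX hsq

end LA


/-- Involutions of PSL_n(q) and imprimitive subgroups. Here `T = PSL_n(F)` for a field `F` with `q = p^f` elements (`n ≥ 2`, `(n, q) ≠ (2, 2), (2, 3)`), `n = a·t` with `t ≥ 2`, and Ω is the set of direct-sum decompositions of `F^n` into `t` subspaces of dimension `a` (unordered; their number is the number of ordered ones divided by `t!`), whose stabilizers are the imprimitive subgroups of type GL_a(q) ≀ S_t (maximal except in some small cases; maximality is not assumed); an element of `T` of prime order `r` (a matrix `x` of determinant 1 with `x^r` scalar, `x` not scalar) fixes a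 point of Ω when it permutes the summands of some such decomposition. If the number of such decompositions is even, then every involution of `T` stabilizes one of them (the action is 2-elusive). -/
theorem result {F : Type*} [Field F] [Fintype F] {p : ℕ} [Fact p.Prime] [CharP F p] {q : ℕ} (hq : Fintype.card F = q)
    (n a t : ℕ) (hn : 2 ≤ n) (hT : (n, q) ≠ (2, 2) ∧ (n, q) ≠ (2, 3)) (hat : n = a * t) (ha : 1 ≤ a) (ht : 2 ≤ t)
    (hΩ : 2 ∣ Nat.card {D : Fin t → Submodule F (Fin n → F) // Cfsg.Geo.IsMDecomposition a D} / Nat.factorial t)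
    (x : Matrix.SpecialLinearGroup (Fin n) F)
    (hx1 : ∃ z : F, ((x ^ 2 : Matrix.SpecialLinearGroup (Fin n) F) : Matrix (Fin n) (Fin n) F) = z • (1 : Matrix (Fin n) (Fin n) F))
    (hx2 : ∀ z : F, (x : Matrix (Fin n) (Fin n) F) ≠ z • (1 : Matrix (Fin n) (Fin n) F)) :
    ∃ D : Fin t → Submodule F (Fin n → F), Cfsg.Geo.IsMDecomposition a D ∧
        ∃ σ : Equiv.Perm (Fin t), ∀ j, (D j).map (Matrix.toLin' (x : Matrix (Fin n) (Fin n) F)) = D (σ j) := by
  classical
  obtain ⟨z, hz⟩ := hx1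
  obtain ⟨X, hXdef⟩ : ∃ X : (Fin n → F) →ₗ[F] (Fin n → F),
      X = Matrix.toLin' (x : Matrix (Fin n) (Fin n) F) := ⟨_, rfl⟩
  rw [← hXdef]
  have hXX : ∀ v, X (X v) = z • v := by
    intro v
    rw [hXdef, Matrix.toLin'_apply, Matrix.toLin'_apply, Matrix.mulVec_mulVec]
    have : (x : Matrix (Fin n) (Fin n) F) * x = z • 1 := by
      rw [← hz]; simp [pow_two]
    rw [this, Matrix.smul_mulVec, Matrix.one_mulVec]
  have hz0 : z ≠ 0 := by
    rintro rfl
    have h1 : Matrix.det ((x ^ 2 : Matrix.SpecialLinearGroup (Fin n) F) : Matrix (Fin n) (Fin n) F) = 1 :=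
      (x ^ 2).2
    rw [hz, zero_smul] at h1
    have : Nonempty (Fin n) := ⟨⟨0, by omega⟩⟩
    rw [Matrix.det_zero] at h1
    exact zero_ne_one h1
  have hinj : Function.Injective X := by
    intro u v huv
    have h := hXX (u - v)
    rw [map_sub, huv, sub_self, map_zero] at h
    rcases smul_eq_zero.1 h.symm with h' | h'
    · exact absurd h' hz0
    · exact sub_eq_zero.1 h'
  obtain ⟨κ, lam, _, _, b, c, hb1, hb2, hb3⟩ := mono_all X z hz0 hXX
  have hcard : 2 * Fintype.card κ + Fintype.card lam = a * t := by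
    have h1 := Module.finrank_eq_card_basis b
    rw [Module.finrank_fin_fun, Fintype.card_sum, Fintype.card_sum] at h1
    omega
  obtain ⟨A, C, σ, h1, h2, h3, h4, h5, h6⟩ :=
    comb a ha t (Finset.univ : Finset κ) (Finset.univ : Finset lam) (by simpa using hcard)
  obtain ⟨blk, hblk⟩ : ∃ blk : (κ ⊕ κ) ⊕ lam → ℕ, blk = Sum.elim (Sum.elim A (fun k => σ (A k))) C :=
    ⟨_, rfl⟩
  have hblk_lt : ∀ i, blk i < t := by
    rw [hblk]
    rintro ((k | k) | l)
    · exact h4 k (Finset.mem_univ _)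
    · exact h2 _ (h4 k (Finset.mem_univ _))
    · exact (h5 l (Finset.mem_univ _)).1
  have hXb : ∀ i, ∃ i', blk i' = σ (blk i) ∧ ∃ r : F, X (b i) = r • b i' := by
    rw [hblk]
    rintro ((k | k) | l)
    · exact ⟨Sum.inl (Sum.inr k), rfl, 1, by rw [hb1, one_smul]⟩
    · exact ⟨Sum.inl (Sum.inl k), (h1 _).symm, z, hb2 k⟩
    · exact ⟨Sum.inr l, (h5 l (Finset.mem_univ _)).2.symm, c l, hb3 l⟩
  obtain ⟨D, hD⟩ : ∃ D : Fin t → Submodule F (Fin n → F),
      D = fun j : Fin t => Submodule.span F (b '' {i | blk i = (j : ℕ)}) := ⟨_, rfl⟩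
  have hDfin : ∀ j, Module.finrank F (D j) = a := by
    intro j
    have hli : LinearIndependent F (fun i : {i // blk i = (j : ℕ)} => b i) :=
      b.linearIndependent.comp _ Subtype.val_injective
    have hr : Set.range (fun i : {i // blk i = (j : ℕ)} => b i) = b '' {i | blk i = (j : ℕ)} := by
      ext v; constructor
      · rintro ⟨⟨i, hi⟩, rfl⟩; exact ⟨i, hi, rfl⟩
      · rintro ⟨i, hi, rfl⟩; exact ⟨⟨i, hi⟩, rfl⟩
    have hfr := finrank_span_eq_card hli
    rw [hr] at hfr
    rw [hD]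
    show Module.finrank F (Submodule.span F (b '' {i | blk i = (j : ℕ)})) = a
    rw [hfr, Fintype.card_subtype, Finset.card_filter, Fintype.sum_sum_type, Fintype.sum_sum_type, hblk]
    exact h6 j j.2
  have hσlt : ∀ j : Fin t, σ j < t := fun j => h2 j j.2
  obtain ⟨σf, hσf⟩ : ∃ σf : Fin t → Fin t, σf = fun j => ⟨σ j, hσlt j⟩ := ⟨_, rfl⟩
  have hσinv : Function.Involutive σf := by
    intro j
    rw [hσf]
    exact Fin.ext (h1 j)
  refine ⟨D, ⟨ht, ha, hDfin, ?_, ?_⟩, hσinv.toPerm σf, ?_⟩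
  · rw [iSupIndep_def]
    intro j
    have hle : (⨆ (j') (_ : j' ≠ j), D j') ≤ Submodule.span F (b '' {i | blk i ≠ (j : ℕ)}) := by
      refine iSup_le (fun j' => iSup_le (fun hj' => ?_))
      rw [hD]
      refine Submodule.span_mono ?_
      rintro _ ⟨i, hi, rfl⟩
      refine ⟨i, ?_, rfl⟩
      show blk i ≠ (j : ℕ)
      rw [show blk i = (j' : ℕ) from hi]
      exact fun h => hj' (Fin.ext h)
    refine Disjoint.mono_right hle ?_
    rw [hD]
    refine b.linearIndependent.disjoint_span_image ?_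
    rw [Set.disjoint_left]
    intro i hi hi'
    exact hi' hi
  · rw [eq_top_iff, ← b.span_eq]
    refine Submodule.span_le.2 ?_
    rintro _ ⟨i, rfl⟩
    have hmem : b i ∈ D ⟨blk i, hblk_lt i⟩ := by
      rw [hD]
      exact Submodule.subset_span ⟨i, rfl, rfl⟩
    exact (le_iSup D ⟨blk i, hblk_lt i⟩) hmem
  · intro j
    have hle : (D j).map X ≤ D (σf j) := by
      rw [hD]
      show Submodule.map X (Submodule.span F (b '' {i | blk i = (j : ℕ)})) ≤ _
      rw [Submodule.map_span]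
      refine Submodule.span_le.2 ?_
      rintro _ ⟨_, ⟨i, hi, rfl⟩, rfl⟩
      obtain ⟨i', hi', r, hr⟩ := hXb i
      rw [hr]
      refine Submodule.smul_mem _ _ (Submodule.subset_span ⟨i', ?_, rfl⟩)
      show blk i' = ((σf j : Fin t) : ℕ)
      rw [hi', show blk i = (j : ℕ) from hi, hσf]
    have hfr : Module.finrank F ((D j).map X) = Module.finrank F (D (σf j)) := by
      rw [hDfin, ← hDfin j]
      exact (Submodule.equivMapOfInjective X hinj (D j)).finrank_eq.symm
    show (D j).map X = D (σf j)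
    exact Submodule.eq_of_le_of_finrank_eq hle hfr

end Cfsg.Agent.S5957
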