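import Cfsg.Statements.S1137
import Mathlib

set_option autoImplicit false
open Cfsg

namespace Cfsg.Agent.S1137

universe u v

/-- hypothesis package: a finite 2-group `G` with at least two involutions and an abelian
group `K` acting (through `f`) regularly on the involutions of `G`. -/
structure Hyp (G : Type u) [Group G] (K : Type v) [Group K] (f : K → G →* G) : Prop where
  fin : Finite G
  pg : IsPGroup 2 G
  comm : ∀ a b : K, a * b = b * a
  comp : ∀ (k k' : K) (x : G), f (k * k') x = f k (f k' x)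
  one : ∀ x : G, f 1 x = x
  two : ∃ x y : G, x ≠ y ∧ x ≠ 1 ∧ x * x = 1 ∧ y ≠ 1 ∧ y * y = 1
  reg : ∀ x y : G, x ≠ 1 → x * x = 1 → y ≠ 1 → y * y = 1 → ∃! k : K, f k x = y

/-- commutator-like element with `x * y = y * x * cm x y`. -/
def cm {G : Type u} [Group G] (x y : G) : G := (y * x)⁻¹ * (x * y)

theorem cm_spec {G : Type u} [Group G] (x y : G) : x * y = y * x * cm x y := by
  unfold cm; group

theorem central_sq {G : Type u} [Group G] {c : G} (hc : c ∈ Subgroup.center G) (y : G) :
    (c⁻¹ * y) * (c⁻¹ * y) = (c * c)⁻¹ * (y * y) := by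
  have hc' := Subgroup.mem_center_iff.mp hc
  have h1 : Commute y c⁻¹ := (Commute.inv_right (hc' y))
  rw [h1.mul_mul_mul_comm, mul_inv_rev]

namespace Hyp

variable {G : Type u} [Group G] {K : Type v} [Group K] {f : K → G →* G} (h : Hyp G K f)
include h

theorem inv_left (k : K) (x : G) : f k⁻¹ (f k x) = x := by
  rw [← h.comp, inv_mul_cancel, h.one]

theorem inv_right (k : K) (x : G) : f k (f k⁻¹ x) = x := by
  rw [← h.comp, mul_inv_cancel, h.one]

theorem inj (k : K) {x y : G} (e : f k x = f k y) : x = y := by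
  have := congrArg (f k⁻¹) e
  rwa [h.inv_left, h.inv_left] at this

theorem swap (a b : K) (x : G) : f a (f b x) = f b (f a x) := by
  rw [← h.comp, ← h.comp, h.comm]

theorem center_mem (k : K) {x : G} (hx : x ∈ Subgroup.center G) : f k x ∈ Subgroup.center G := by
  rw [Subgroup.mem_center_iff] at hx ⊢
  intro g
  have e : f k (f k⁻¹ g) = g := h.inv_right k g
  rw [← e, ← map_mul, ← map_mul, hx]

theorem exists_central_invol : ∃ z ∈ Subgroup.center G, z ≠ 1 ∧ z * z = 1 := by
  haveI := h.fin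
  obtain ⟨x, y, hxy, hx1, hxx, hy1, hyy⟩ := h.two
  haveI : Nontrivial G := ⟨⟨x, 1, hx1⟩⟩
  haveI : Fact (Nat.Prime 2) := ⟨Nat.prime_two⟩
  haveI := h.pg.center_nontrivial
  have hZ : IsPGroup 2 (Subgroup.center G) := h.pg.to_subgroup _
  have hdvd : 2 ∣ Nat.card (Subgroup.center G) := by
    rcases hZ.card_eq_or_dvd with h1 | h1
    · exfalso
      have := Finite.one_lt_card (α := Subgroup.center G)
      omega
    · exact h1
  obtain ⟨z, hz⟩ := exists_prime_orderOf_dvd_card' 2 hdvd
  rw [orderOf_eq_prime_iff] at hz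
  refine ⟨z, z.2, ?_, ?_⟩
  · intro h1; exact hz.2 (Subtype.ext h1)
  · have := congrArg Subtype.val hz.1
    rw [pow_two] at this
    exact this

theorem invol_central {x : G} (hx1 : x ≠ 1) (hxx : x * x = 1) : x ∈ Subgroup.center G := by
  obtain ⟨z, hz, hz1, hzz⟩ := h.exists_central_invol
  obtain ⟨k, hk, -⟩ := h.reg z x hz1 hzz hx1 hxx
  rw [← hk]; exact h.center_mem k hz

theorem sq_one_central {x : G} (hxx : x * x = 1) : x ∈ Subgroup.center G := by
  by_cases hx1 : x = 1
  · rw [hx1]; exact Subgroup.one_mem _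
  · exact h.invol_central hx1 hxx

/-- the subgroup of elements of square one -/
def V : Subgroup G where
  carrier := {x | x * x = 1}
  mul_mem' := by
    intro a b ha hb
    have hb' := Subgroup.mem_center_iff.mp (h.sq_one_central hb)
    show a * b * (a * b) = 1
    calc a * b * (a * b) = a * (b * a) * b := by group
      _ = a * (a * b) * b := by rw [hb' a]
      _ = (a * a) * (b * b) := by group
      _ = 1 := by
        have ha' : a * a = 1 := ha
        have hb'' : b * b = 1 := hb
        rw [ha', hb'', one_mul]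
  one_mem' := by simp
  inv_mem' := by
    intro a ha
    have ha' : a * a = 1 := ha
    show a⁻¹ * a⁻¹ = 1
    rw [← mul_inv_rev, ha', inv_one]

theorem mem_V {x : G} : x ∈ h.V ↔ x * x = 1 := Iff.rfl

instance V_normal : (h.V).Normal := ⟨fun n hn g => by
  have hn' : n * n = 1 := hn
  show g * n * g⁻¹ * (g * n * g⁻¹) = 1
  have : g * n * g⁻¹ * (g * n * g⁻¹) = g * (n * n) * g⁻¹ := by group
  rw [this, hn']; group⟩

theorem V_le_comap (k : K) : h.V ≤ Subgroup.comap (f k) h.V := by
  intro x hx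
  have hx' : x * x = 1 := hx
  show f k x * f k x = 1
  rw [← map_mul, hx', map_one]

/-- the induced action on the quotient -/
def fbar (k : K) : G ⧸ h.V →* G ⧸ h.V := QuotientGroup.map h.V h.V (f k) (h.V_le_comap k)

theorem fbar_mk (k : K) (x : G) :
    h.fbar k (QuotientGroup.mk x) = QuotientGroup.mk (f k x) := rfl

theorem quot_card_lt : Nat.card (G ⧸ h.V) < Nat.card G := by
  haveI := h.fin
  obtain ⟨x, y, hxy, hx1, hxx, hy1, hyy⟩ := h.two
  have h1 := Subgroup.card_eq_card_quotient_mul_card_subgroup h.V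
  haveI : Nontrivial h.V := ⟨⟨⟨x, hxx⟩, 1, fun e => hx1 (congrArg Subtype.val e)⟩⟩
  have h2 := Finite.one_lt_card (α := h.V)
  have h3 : 0 < Nat.card (G ⧸ h.V) := Nat.card_pos
  rw [h1]
  nlinarith

/-- a central element of order four -/
theorem order4 {z : G} (hzc : z ∈ Subgroup.center G) (hzz : z * z ≠ 1) :
    ∃ w ∈ Subgroup.center G, w * w ≠ 1 ∧ w * w * (w * w) = 1 := by
  have hex : ∃ j, z ^ (2 ^ j) = 1 := h.pg z
  classical
  have hmin := fun m (hm : m < Nat.find hex) => Nat.find_min hex hm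
  have hspec := Nat.find_spec hex
  have h2 : 2 ≤ Nat.find hex := by
    by_contra hlt
    have hlt' : Nat.find hex ≤ 1 := by omega
    rcases Nat.le_one_iff_eq_zero_or_eq_one.mp hlt' with h0 | h1
    · rw [h0] at hspec
      apply hzz
      rw [pow_zero, pow_one] at hspec
      rw [hspec, one_mul]
    · rw [h1] at hspec
      apply hzz
      rw [pow_one, pow_two] at hspec
      exact hspec
  obtain ⟨j, hj⟩ : ∃ j, Nat.find hex = j + 2 := ⟨Nat.find hex - 2, by omega⟩
  refine ⟨z ^ (2 ^ j), Subgroup.pow_mem _ hzc _, ?_, ?_⟩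
  · have := hmin (j + 1) (by omega)
    intro e
    apply this
    rw [pow_succ, pow_mul, pow_two]
    exact e
  · rw [hj] at hspec
    have e : z ^ (2 ^ j) * z ^ (2 ^ j) * (z ^ (2 ^ j) * z ^ (2 ^ j)) = z ^ (2 ^ (j + 2)) := by
      rw [← pow_add, ← pow_add]
      congr 1
      ring
    rw [e, hspec]

theorem sqrt {w : G} (hwc : w ∈ Subgroup.center G) (hww : w * w ≠ 1) (hw4 : w * w * (w * w) = 1)
    (v : G) (hv : v * v = 1) : ∃ a ∈ Subgroup.center G, a * a * (a * a) = 1 ∧ a * a = v := by
  by_cases hv1 : v = 1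
  · exact ⟨1, Subgroup.one_mem _, by simp, by simp [hv1]⟩
  · obtain ⟨k, hk, -⟩ := h.reg (w * w) v hww hw4 hv1 hv
    refine ⟨f k w, h.center_mem k hwc, ?_, ?_⟩
    · rw [← map_mul, hk, hv]
    · rw [← map_mul, hk]

theorem fourth_central
    (hsqrt : ∀ v : G, v * v = 1 → ∃ a ∈ Subgroup.center G, a * a * (a * a) = 1 ∧ a * a = v)
    {x : G} (hx : x * x * (x * x) = 1) : x ∈ Subgroup.center G := by
  obtain ⟨a, hac, ha4, haa⟩ := hsqrt (x * x) hx
  have h1 : (a⁻¹ * x) * (a⁻¹ * x) = 1 := by
    rw [central_sq hac, haa, inv_mul_cancel]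
  have h2 := h.sq_one_central h1
  have : x = a * (a⁻¹ * x) := by group
  rw [this]
  exact Subgroup.mul_mem _ hac h2

end Hyp

namespace Hyp

variable {G : Type u} [Group G] {K : Type v} [Group K] {f : K → G →* G} (h : Hyp G K f)
include h

theorem quot_hyp
    (hsqrt : ∀ v : G, v * v = 1 → ∃ a ∈ Subgroup.center G, a * a * (a * a) = 1 ∧ a * a = v) :
    Hyp (G ⧸ h.V) K h.fbar := by
  have hC : ∀ x : G, x * x * (x * x) = 1 → x ∈ Subgroup.center G :=
    fun x hx => h.fourth_central hsqrt hx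
  refine
    { fin := by haveI := h.fin; infer_instance
      pg := h.pg.to_quotient h.V
      comm := h.comm
      comp := ?_
      one := ?_
      two := ?_
      reg := ?_ }
  · intro k k' x
    induction x using QuotientGroup.induction_on with
    | H x =>
      rw [h.fbar_mk, h.fbar_mk, h.fbar_mk, h.comp]
  · intro x
    induction x using QuotientGroup.induction_on with
    | H x =>
      rw [h.fbar_mk, h.one]
  · obtain ⟨x, y, hxy, hx1, hxx, hy1, hyy⟩ := h.two
    obtain ⟨a, hac, ha4, haa⟩ := hsqrt x hxx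
    obtain ⟨b, hbc, hb4, hbb⟩ := hsqrt y hyy
    refine ⟨QuotientGroup.mk a, QuotientGroup.mk b, ?_, ?_, ?_, ?_, ?_⟩
    · intro e
      rw [QuotientGroup.eq] at e
      have e' : (a⁻¹ * b) * (a⁻¹ * b) = 1 := e
      rw [central_sq hac, haa, hbb] at e'
      apply hxy
      exact inv_mul_eq_one.mp e'
    · intro e
      rw [QuotientGroup.eq_one_iff] at e
      have e' : a * a = 1 := e
      rw [haa] at e'
      exact hx1 e'
    · rw [← QuotientGroup.mk_mul, QuotientGroup.eq_one_iff]
      exact ha4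
    · intro e
      rw [QuotientGroup.eq_one_iff] at e
      have e' : b * b = 1 := e
      rw [hbb] at e'
      exact hy1 e'
    · rw [← QuotientGroup.mk_mul, QuotientGroup.eq_one_iff]
      exact hb4
  · intro X Y
    induction X using QuotientGroup.induction_on with
    | H x =>
    induction Y using QuotientGroup.induction_on with
    | H y =>
    intro hX1 hXX hY1 hYY
    have hx1 : x * x ≠ 1 := fun e => hX1 ((QuotientGroup.eq_one_iff x).mpr e)
    have hx4 : x * x * (x * x) = 1 := by
      rw [← QuotientGroup.mk_mul, QuotientGroup.eq_one_iff] at hXX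
      exact hXX
    have hy1 : y * y ≠ 1 := fun e => hY1 ((QuotientGroup.eq_one_iff y).mpr e)
    have hy4 : y * y * (y * y) = 1 := by
      rw [← QuotientGroup.mk_mul, QuotientGroup.eq_one_iff] at hYY
      exact hYY
    obtain ⟨k, hk, hkuniq⟩ := h.reg (x * x) (y * y) hx1 hx4 hy1 hy4
    have hxc := hC x hx4
    refine ⟨k, ?_, ?_⟩
    · show h.fbar k (QuotientGroup.mk x) = QuotientGroup.mk y
      rw [h.fbar_mk, QuotientGroup.eq]
      show ((f k x)⁻¹ * y) * ((f k x)⁻¹ * y) = 1
      rw [central_sq (h.center_mem k hxc), ← map_mul, hk, inv_mul_cancel]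
    · intro k' hk'
      apply hkuniq
      have hk'' : h.fbar k' (QuotientGroup.mk x) = QuotientGroup.mk y := hk'
      rw [h.fbar_mk, QuotientGroup.eq] at hk''
      have e : ((f k' x)⁻¹ * y) * ((f k' x)⁻¹ * y) = 1 := hk''
      rw [central_sq (h.center_mem k' hxc), ← map_mul] at e
      exact inv_mul_eq_one.mp e

/-- Case 1: the centre of the quotient has exponent two. -/
theorem case1
    (hsqrt : ∀ v : G, v * v = 1 → ∃ a ∈ Subgroup.center G, a * a * (a * a) = 1 ∧ a * a = v)
    (hZQ : ∀ z ∈ Subgroup.center (G ⧸ h.V), z * z = 1) : ∀ a b : G, a * b = b * a := by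
  haveI := h.fin
  have hC : ∀ x : G, x * x * (x * x) = 1 → x ∈ Subgroup.center G :=
    fun x hx => h.fourth_central hsqrt hx
  -- (*) elements central modulo V are central
  have hstar : ∀ x : G, (∀ g : G, (g * x)⁻¹ * (x * g) ∈ h.V) → x ∈ Subgroup.center G := by
    intro x hx
    have h1 : (QuotientGroup.mk x : G ⧸ h.V) ∈ Subgroup.center (G ⧸ h.V) := by
      rw [Subgroup.mem_center_iff]
      intro Y
      induction Y using QuotientGroup.induction_on with
      | H g =>
        rw [← QuotientGroup.mk_mul, ← QuotientGroup.mk_mul, QuotientGroup.eq]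
        exact hx g
    have h2 := hZQ _ h1
    rw [← QuotientGroup.mk_mul, QuotientGroup.eq_one_iff] at h2
    exact hC x h2
  -- (**) central elements have fourth power one
  have hstar2 : ∀ z ∈ Subgroup.center G, z * z * (z * z) = 1 := by
    intro z hz
    have hz' := Subgroup.mem_center_iff.mp hz
    have h1 : (QuotientGroup.mk z : G ⧸ h.V) ∈ Subgroup.center (G ⧸ h.V) := by
      rw [Subgroup.mem_center_iff]
      intro Y
      induction Y using QuotientGroup.induction_on with
      | H g =>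
        rw [← QuotientGroup.mk_mul, ← QuotientGroup.mk_mul, hz' g]
    have h2 := hZQ _ h1
    rw [← QuotientGroup.mk_mul, QuotientGroup.eq_one_iff] at h2
    exact h2
  by_contra hab
  push Not at hab
  obtain ⟨a, b, hab⟩ := hab
  have hne : Subgroup.center G ≠ ⊤ := by
    intro htop
    have ha : a ∈ Subgroup.center G := by rw [htop]; exact Subgroup.mem_top a
    exact hab ((Subgroup.mem_center_iff.mp ha b).symm)
  haveI : Nontrivial (G ⧸ Subgroup.center G) := by
    by_contra hnt
    rw [not_nontrivial_iff_subsingleton] at hnt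
    apply hne
    rw [eq_top_iff]
    intro g _
    have := Subsingleton.elim (QuotientGroup.mk g : G ⧸ Subgroup.center G) 1
    exact (QuotientGroup.eq_one_iff g).mp this
  haveI : Fact (Nat.Prime 2) := ⟨Nat.prime_two⟩
  haveI := (h.pg.to_quotient (Subgroup.center G)).center_nontrivial
  obtain ⟨⟨X, hXc⟩, hX1⟩ := exists_ne (1 : Subgroup.center (G ⧸ Subgroup.center G))
  have hX1' : X ≠ 1 := fun e => hX1 (Subtype.ext e)
  induction X using QuotientGroup.induction_on with
  | H x =>
  have hxnc : x ∉ Subgroup.center G := fun e => hX1' ((QuotientGroup.eq_one_iff x).mpr e)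
  have hcg : ∀ g : G, (g * x)⁻¹ * (x * g) ∈ Subgroup.center G := by
    intro g
    have := Subgroup.mem_center_iff.mp hXc (QuotientGroup.mk g)
    rw [← QuotientGroup.mk_mul, ← QuotientGroup.mk_mul, QuotientGroup.eq] at this
    exact this
  have hkey : ∀ g : G, (g * (x * x))⁻¹ * ((x * x) * g)
      = ((g * x)⁻¹ * (x * g)) * ((g * x)⁻¹ * (x * g)) := by
    intro g
    have hc' := Subgroup.mem_center_iff.mp (hcg g)
    have e1 : x * g = g * x * ((g * x)⁻¹ * (x * g)) := by group
    have e2 : x * x * g = g * (x * x) * (((g * x)⁻¹ * (x * g)) * ((g * x)⁻¹ * (x * g))) := by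
      calc x * x * g = x * (x * g) := by group
        _ = x * (g * x * ((g * x)⁻¹ * (x * g))) := by rw [← e1]
        _ = (x * g) * (x * ((g * x)⁻¹ * (x * g))) := by group
        _ = (g * x * ((g * x)⁻¹ * (x * g))) * (x * ((g * x)⁻¹ * (x * g))) := by rw [← e1]
        _ = g * x * (((g * x)⁻¹ * (x * g)) * x) * ((g * x)⁻¹ * (x * g)) := by group
        _ = g * x * (x * ((g * x)⁻¹ * (x * g))) * ((g * x)⁻¹ * (x * g)) := by rw [hc' x]
        _ = g * (x * x) * (((g * x)⁻¹ * (x * g)) * ((g * x)⁻¹ * (x * g))) := by group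
    rw [e2]; group
  have hxx : x * x ∈ Subgroup.center G := by
    apply hstar
    intro g
    rw [hkey g]
    show _ * _ = (1 : G)
    exact hstar2 _ (hcg g)
  apply hxnc
  apply hstar
  intro g
  show _ * _ = (1 : G)
  rw [← hkey g, Subgroup.mem_center_iff.mp hxx g, inv_mul_cancel]

end Hyp

theorem cm_self {G : Type u} [Group G] (x : G) : cm x x = 1 := by
  unfold cm; rw [inv_mul_cancel]

theorem comm_of_cm {G : Type u} [Group G] {x y : G} (e : cm x y = 1) : x * y = y * x := by
  rw [cm_spec x y, e, mul_one]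

theorem cm_central_left {G : Type u} [Group G] {m : G} (hm : m ∈ Subgroup.center G) (y : G) :
    cm m y = 1 := by
  unfold cm; rw [Subgroup.mem_center_iff.mp hm y, inv_mul_cancel]

theorem cm_central_right {G : Type u} [Group G] {m : G} (hm : m ∈ Subgroup.center G) (x : G) :
    cm x m = 1 := by
  unfold cm; rw [Subgroup.mem_center_iff.mp hm x, inv_mul_cancel]

namespace Hyp

variable {G : Type u} [Group G] {K : Type v} [Group K] {f : K → G →* G} (h : Hyp G K f)
include h

theorem cm_map (k : K) (x y : G) : cm (f k x) (f k y) = f k (cm x y) := by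
  unfold cm; rw [map_mul, map_inv, map_mul, map_mul]

theorem invol_map (k : K) {u : G} (hu1 : u ≠ 1) (huu : u * u = 1) :
    f k u ≠ 1 ∧ f k u * f k u = 1 := by
  refine ⟨fun e => hu1 (h.inj k (e.trans (map_one (f k)).symm)), ?_⟩
  rw [← map_mul, huu, map_one]

theorem reg_eq {u : G} (hu1 : u ≠ 1) (huu : u * u = 1) {k k' : K} (e : f k u = f k' u) : k = k' := by
  obtain ⟨hy1, hyy⟩ := h.invol_map k' hu1 huu
  obtain ⟨k₀, -, huniq⟩ := h.reg u (f k' u) hu1 huu hy1 hyy
  rw [huniq k e, huniq k' rfl]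

theorem all_sq (k : K) : ∃ a : K, a * a = k := by
  haveI := h.fin
  obtain ⟨u, y, huy, hu1, huu, hy1, hyy⟩ := h.two
  have hinj : Function.Injective (fun k : K => f k u) := fun k k' e => h.reg_eq hu1 huu e
  haveI : Finite K := Finite.of_injective _ hinj
  have hnoinv : ∀ τ : K, τ * τ = 1 → τ = 1 := by
    intro τ hτ
    have huc := Subgroup.mem_center_iff.mp (h.sq_one_central huu)
    have hfix : f τ (u * f τ u) = u * f τ u := by
      rw [map_mul, ← h.comp, hτ, h.one, huc]
    by_cases hw1 : u * f τ u = 1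
    · have e1 : f τ u = u⁻¹ := eq_inv_of_mul_eq_one_right hw1
      have e2 : u⁻¹ = u := inv_eq_of_mul_eq_one_left huu
      apply h.reg_eq hu1 huu (k := τ) (k' := 1)
      rw [e1, e2, h.one]
    · have hww : (u * f τ u) * (u * f τ u) = 1 :=
        h.V.mul_mem (h.mem_V.mpr huu) (h.mem_V.mpr (h.invol_map τ hu1 huu).2)
      apply h.reg_eq hw1 hww (k := τ) (k' := 1)
      rw [hfix, h.one]
  have hn := orderOf_pos k
  rcases Nat.even_or_odd (orderOf k) with ⟨m, hm⟩ | ⟨m, hm⟩
  · exfalso
    have h1 : k ^ m = 1 := hnoinv (k ^ m) (by rw [← pow_add, ← hm]; exact pow_orderOf_eq_one k)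
    exact pow_ne_one_of_lt_orderOf (x := k) (n := m) (by omega) (by omega) h1
  · refine ⟨k ^ (m + 1), ?_⟩
    rw [← pow_add]
    have : m + 1 + (m + 1) = orderOf k + 1 := by omega
    rw [this, pow_succ, pow_orderOf_eq_one, one_mul]

section class2
variable (hcV : ∀ x y : G, cm x y * cm x y = 1)
include hcV

theorem cm_central (x y : G) : cm x y ∈ Subgroup.center G := h.sq_one_central (hcV x y)

theorem cm_comm (x y g : G) : cm x y * g = g * cm x y :=
  (Subgroup.mem_center_iff.mp (h.cm_central hcV x y) g).symm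

theorem cm_mul_left (x x' y : G) : cm (x * x') y = cm x y * cm x' y := by
  have e1 : x * x' * y = y * (x * x') * (cm x y * cm x' y) := by
    calc x * x' * y = x * (x' * y) := by group
      _ = x * (y * x' * cm x' y) := by rw [← cm_spec]
      _ = (x * y) * (x' * cm x' y) := by group
      _ = (y * x * cm x y) * (x' * cm x' y) := by rw [← cm_spec]
      _ = y * x * (cm x y * x') * cm x' y := by group
      _ = y * x * (x' * cm x y) * cm x' y := by rw [h.cm_comm hcV x y x']
      _ = y * (x * x') * (cm x y * cm x' y) := by group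
  have e2 := cm_spec (x * x') y
  rw [e1] at e2
  exact (mul_left_cancel e2).symm

theorem cm_mul_right (x y y' : G) : cm x (y * y') = cm x y * cm x y' := by
  have e1 : x * (y * y') = (y * y') * x * (cm x y * cm x y') := by
    calc x * (y * y') = (x * y) * y' := by group
      _ = (y * x * cm x y) * y' := by rw [← cm_spec]
      _ = y * x * (cm x y * y') := by group
      _ = y * x * (y' * cm x y) := by rw [h.cm_comm hcV x y y']
      _ = y * (x * y') * cm x y := by group
      _ = y * (y' * x * cm x y') * cm x y := by rw [← cm_spec]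
      _ = (y * y') * x * (cm x y' * cm x y) := by group
      _ = (y * y') * x * (cm x y * cm x y') := by rw [h.cm_comm hcV x y' (cm x y)]
  have e2 := cm_spec x (y * y')
  rw [e1] at e2
  exact (mul_left_cancel e2).symm

theorem cm_symm (x y : G) : cm y x = cm x y := by
  have : cm y x = (cm x y)⁻¹ := by unfold cm; group
  rw [this]; exact inv_eq_of_mul_eq_one_left (hcV x y)

theorem sq_central (x : G) : x * x ∈ Subgroup.center G := by
  rw [Subgroup.mem_center_iff]; intro g
  have := cm_spec (x * x) g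
  rw [h.cm_mul_left hcV, hcV, mul_one] at this
  exact this.symm

theorem sq_mul (x y : G) : (x * y) ^ 2 = x ^ 2 * y ^ 2 * cm y x := by
  rw [pow_two, pow_two, pow_two]
  calc x * y * (x * y) = x * (y * x) * y := by group
    _ = x * (x * y * cm y x) * y := by rw [← cm_spec]
    _ = x * x * y * (cm y x * y) := by group
    _ = x * x * y * (y * cm y x) := by rw [h.cm_comm hcV y x y]
    _ = x * x * (y * y) * cm y x := by group

theorem fourth_mul (x y : G) : (x * y) ^ 4 = x ^ 4 * y ^ 4 := by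
  have hx2 : x ^ 2 ∈ Subgroup.center G := by rw [pow_two]; exact h.sq_central hcV x
  have e : (x * y) ^ 4 = ((x * y) ^ 2) ^ 2 := by rw [← pow_mul]
  rw [e, h.sq_mul hcV]
  have c1 : Commute (x ^ 2 * y ^ 2) (cm y x) :=
    Subgroup.mem_center_iff.mp (h.cm_central hcV y x) _
  have c2 : Commute (x ^ 2) (y ^ 2) := (Subgroup.mem_center_iff.mp hx2 _).symm
  rw [c1.mul_pow, c2.mul_pow, ← pow_mul, ← pow_mul, pow_two (cm y x), hcV, mul_one]

theorem pw_mul (e : ℕ) (x y : G) :
    (x * y) ^ (2 ^ (e + 2)) = x ^ (2 ^ (e + 2)) * y ^ (2 ^ (e + 2)) := by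
  have e4 : 2 ^ (e + 2) = 4 * 2 ^ e := by ring
  rw [e4, pow_mul, pow_mul, pow_mul, h.fourth_mul hcV]
  have hx4 : x ^ 4 ∈ Subgroup.center G := by
    have : x ^ 4 = (x * x) ^ 2 := by rw [← pow_two, ← pow_mul]
    rw [this]; exact Subgroup.pow_mem _ (h.sq_central hcV x) 2
  have c : Commute (x ^ 4) (y ^ 4) := (Subgroup.mem_center_iff.mp hx4 _).symm
  rw [c.mul_pow]

end class2

end Hyp

namespace Hyp

variable {G : Type u} [Group G] {K : Type v} [Group K] {f : K → G →* G} (h : Hyp G K f)
include h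

/-- the core of Case 2: class two with a power homomorphism onto `V` whose kernel is central. -/
theorem case2_core (hcV : ∀ x y : G, cm x y * cm x y = 1) (N : ℕ)
    (hPmul : ∀ x y : G, (x * y) ^ N = x ^ N * y ^ N)
    (hPsq : ∀ x : G, x ^ N * x ^ N = 1)
    (hker : ∀ m : G, m ^ N = 1 → m ∈ Subgroup.center G) : ∀ a b : G, a * b = b * a := by
  by_contra hab
  push Not at hab
  obtain ⟨x₀, b₀, hab⟩ := hab
  have hx₀ : x₀ ∉ Subgroup.center G :=
    fun hc => hab ((Subgroup.mem_center_iff.mp hc b₀).symm)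
  have hu1 : x₀ ^ N ≠ 1 := fun e1 => hx₀ (hker _ e1)
  have hPmap : ∀ (k : K) (x : G), (f k x) ^ N = f k (x ^ N) := fun k x => (map_pow (f k) x N).symm
  have hR : ∀ y : G, y ^ N ≠ 1 → ∃ (k : K) (m : G), m ^ N = 1 ∧ y = f k x₀ * m := by
    intro y hy
    obtain ⟨k, hk, -⟩ := h.reg (x₀ ^ N) (y ^ N) hu1 (hPsq x₀) hy (hPsq y)
    refine ⟨k, (f k x₀)⁻¹ * y, ?_, by group⟩
    rw [hPmul, inv_pow, hPmap, hk, inv_mul_cancel]
  have hSQ : ∀ a : K, cm x₀ (f (a * a) x₀) = 1 := by
    intro a
    by_cases hcase : (f a x₀ * x₀) ^ N = 1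
    · have hm := hker _ hcase
      have e1 : f (a * a) x₀ = f a (f a x₀ * x₀) * x₀ * (f a x₀ * x₀)⁻¹ := by
        rw [h.comp, map_mul]; group
      rw [e1, h.cm_mul_right hcV, h.cm_mul_right hcV, cm_central_right (h.center_mem a hm),
        cm_self, cm_central_right (Subgroup.inv_mem _ hm)]
      simp
    · obtain ⟨b, m₁, hm₁, hb⟩ := hR _ hcase
      have hm₁c := hker _ hm₁
      have hfb : f b x₀ = f a x₀ * x₀ * m₁⁻¹ := by rw [hb]; group
      have hm₁inv : (m₁⁻¹) ^ N = 1 := by rw [inv_pow, hm₁, inv_one]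
      have hα : ∀ v : G, v * v = 1 → f b v = f a v * v := by
        intro v hv
        by_cases hv1 : v = 1
        · rw [hv1, map_one, map_one, mul_one]
        · obtain ⟨k, hk, -⟩ := h.reg (x₀ ^ N) v hu1 (hPsq x₀) hv1 hv
          have e1 : f b (x₀ ^ N) = f a (x₀ ^ N) * x₀ ^ N := by
            rw [← hPmap b, hfb, hPmul, hPmul, hm₁inv, mul_one, hPmap]
          calc f b v = f b (f k (x₀ ^ N)) := by rw [hk]
            _ = f k (f b (x₀ ^ N)) := h.swap b k _
            _ = f k (f a (x₀ ^ N) * x₀ ^ N) := by rw [e1]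
            _ = f k (f a (x₀ ^ N)) * f k (x₀ ^ N) := map_mul _ _ _
            _ = f a (f k (x₀ ^ N)) * f k (x₀ ^ N) := by rw [h.swap k a]
            _ = f a v * v := by rw [hk]
      have hβ : ∀ w : G, ∃ m : G, m ^ N = 1 ∧ f b w = f a w * w * m := by
        intro w
        refine ⟨(f a w * w)⁻¹ * f b w, ?_, by group⟩
        rw [hPmul, inv_pow, hPmul, hPmap a, hPmap b, hα _ (hPsq w), inv_mul_cancel]
      have hbw : f b (f (a * b)⁻¹ x₀) = f a⁻¹ x₀ := by
        have : b * (a * b)⁻¹ = a⁻¹ := by group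
        rw [← h.comp, this]
      have haw : f a (f (a * b)⁻¹ x₀) = f b⁻¹ x₀ := by
        have : a * (a * b)⁻¹ = b⁻¹ := by rw [h.comm a b]; group
        rw [← h.comp, this]
      obtain ⟨m₂, hm₂, hw⟩ := hβ (f (a * b)⁻¹ x₀)
      rw [hbw, haw] at hw
      have hm₂c := hker _ hm₂
      -- the commutators
      have i1 : cm x₀ (f a⁻¹ x₀) = f a⁻¹ (cm x₀ (f a x₀)) := by
        have := h.cm_map a⁻¹ (f a x₀) x₀
        rw [h.inv_left] at this
        rw [this, h.cm_symm hcV]
      have i2 : cm x₀ (f b⁻¹ x₀) = f b⁻¹ (cm x₀ (f a x₀)) := by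
        have := h.cm_map b⁻¹ (f b x₀) x₀
        rw [h.inv_left] at this
        rw [this, h.cm_symm hcV x₀ (f b x₀), hfb, h.cm_mul_right hcV, h.cm_mul_right hcV, cm_self,
          cm_central_right (Subgroup.inv_mem _ hm₁c), mul_one, mul_one]
      have i3 : cm x₀ (f (a * b)⁻¹ x₀)
          = f (a * b)⁻¹ (cm x₀ (f a (f a x₀)) * cm x₀ (f a x₀)) := by
        have := h.cm_map (a * b)⁻¹ (f (a * b) x₀) x₀
        rw [h.inv_left] at this
        rw [this, h.cm_symm hcV x₀ (f (a * b) x₀), h.comp a b, hfb, map_mul, map_mul,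
          h.cm_mul_right hcV, h.cm_mul_right hcV,
          cm_central_right (h.center_mem a (Subgroup.inv_mem _ hm₁c)), mul_one]
      have i4 : cm x₀ (f a⁻¹ x₀) = cm x₀ (f b⁻¹ x₀) * cm x₀ (f (a * b)⁻¹ x₀) := by
        rw [hw, h.cm_mul_right hcV, h.cm_mul_right hcV, cm_central_right hm₂c, mul_one]
      rw [i1, i2, i3] at i4
      have i5 := congrArg (f (a * b)) i4
      rw [map_mul, h.inv_right] at i5
      have e1 : f (a * b) (f a⁻¹ (cm x₀ (f a x₀))) = f b (cm x₀ (f a x₀)) := by
        have : a * b * a⁻¹ = b := by rw [h.comm a b]; group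
        rw [← h.comp, this]
      have e2 : f (a * b) (f b⁻¹ (cm x₀ (f a x₀))) = f a (cm x₀ (f a x₀)) := by
        have : a * b * b⁻¹ = a := by group
        rw [← h.comp, this]
      rw [e1, e2, hα _ (hcV _ _)] at i5
      have i6 := mul_left_cancel i5
      have i7 : cm x₀ (f a (f a x₀)) = 1 := by
        have : cm x₀ (f a (f a x₀)) * cm x₀ (f a x₀) = 1 * cm x₀ (f a x₀) := by
          rw [one_mul]; exact i6.symm
        exact mul_right_cancel this
      rw [h.comp]; exact i7
  have hall : ∀ y : G, x₀ * y = y * x₀ := by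
    intro y
    by_cases hy : y ^ N = 1
    · exact Subgroup.mem_center_iff.mp (hker y hy) x₀
    · obtain ⟨k, m, hm, rfl⟩ := hR y hy
      obtain ⟨a, rfl⟩ := h.all_sq k
      have c := comm_of_cm (hSQ a)
      have hmc := Subgroup.mem_center_iff.mp (hker m hm) x₀
      calc x₀ * (f (a * a) x₀ * m) = (x₀ * f (a * a) x₀) * m := by group
        _ = f (a * a) x₀ * x₀ * m := by rw [c]
        _ = f (a * a) x₀ * (x₀ * m) := by group
        _ = f (a * a) x₀ * (m * x₀) := by rw [hmc]
        _ = f (a * a) x₀ * m * x₀ := by group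
  exact hab (hall b₀)

/-- Case 2: the quotient is abelian. -/
theorem case2
    (hsqrt : ∀ v : G, v * v = 1 → ∃ a ∈ Subgroup.center G, a * a * (a * a) = 1 ∧ a * a = v)
    (hQ : ∀ a b : G ⧸ h.V, a * b = b * a) : ∀ a b : G, a * b = b * a := by
  haveI := h.fin
  have hC : ∀ x : G, x * x * (x * x) = 1 → x ∈ Subgroup.center G :=
    fun x hx => h.fourth_central hsqrt hx
  have hcV : ∀ x y : G, cm x y * cm x y = 1 := by
    intro x y
    have := hQ (QuotientGroup.mk y) (QuotientGroup.mk x)
    rw [← QuotientGroup.mk_mul, ← QuotientGroup.mk_mul, QuotientGroup.eq] at this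
    exact this
  by_contra hab
  push Not at hab
  obtain ⟨a₀, b₀, hab⟩ := hab
  haveI : Fact (Nat.Prime 2) := ⟨Nat.prime_two⟩
  have hexp : ∃ n, ∀ x : G, x ^ (2 ^ n) * x ^ (2 ^ n) = 1 := by
    obtain ⟨n, hn⟩ := IsPGroup.iff_card.mp h.pg
    refine ⟨n, fun x => ?_⟩
    have : x ^ (2 ^ n) = 1 := by rw [← hn]; exact pow_card_eq_one'
    rw [this, one_mul]
  classical
  have hspec := Nat.find_spec hexp
  have hmin := fun m (hm : m < Nat.find hexp) => Nat.find_min hexp hm
  have hallc_absurd : (∀ x : G, x ∈ Subgroup.center G) → False := by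
    intro hall
    exact hab ((Subgroup.mem_center_iff.mp (hall a₀) b₀).symm)
  have he2 : 2 ≤ Nat.find hexp := by
    by_contra hlt
    have hlt' : Nat.find hexp ≤ 1 := by omega
    apply hallc_absurd
    intro x
    rcases Nat.le_one_iff_eq_zero_or_eq_one.mp hlt' with h0 | h1
    · have := hspec x
      rw [h0, pow_zero, pow_one] at this
      exact h.sq_one_central this
    · have := hspec x
      rw [h1, pow_one, pow_two] at this
      exact hC x this
  obtain ⟨e, he⟩ : ∃ e, Nat.find hexp = e + 2 := ⟨Nat.find hexp - 2, by omega⟩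
  rw [he] at hspec
  have hPmul : ∀ x y : G, (x * y) ^ (2 ^ (e + 2)) = x ^ (2 ^ (e + 2)) * y ^ (2 ^ (e + 2)) :=
    h.pw_mul hcV e
  have hPmap : ∀ (k : K) (x : G), (f k x) ^ (2 ^ (e + 2)) = f k (x ^ (2 ^ (e + 2))) :=
    fun k x => (map_pow (f k) x _).symm
  obtain ⟨x₁, hx₁⟩ : ∃ x₁ : G, x₁ ^ (2 ^ (e + 2)) ≠ 1 := by
    have := hmin (e + 1) (by omega)
    push Not at this
    obtain ⟨x₁, hx₁⟩ := this
    refine ⟨x₁, ?_⟩
    intro e1; apply hx₁
    rw [← pow_two, ← pow_mul, ← pow_succ]; exact e1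
  have hsurj : ∀ v : G, v * v = 1 → ∃ y : G, y ^ (2 ^ (e + 2)) = v := by
    intro v hv
    by_cases hv1 : v = 1
    · exact ⟨1, by rw [one_pow, hv1]⟩
    · obtain ⟨k, hk, -⟩ := h.reg _ v hx₁ (hspec x₁) hv1 hv
      exact ⟨f k x₁, by rw [hPmap, hk]⟩
  have hMZ : ∀ j, j ≤ e + 2 → ∀ x : G, x ^ (2 ^ j) = 1 → x ∈ Subgroup.center G := by
    intro j
    induction j with
    | zero =>
      intro _ x hx
      rw [pow_zero, pow_one] at hx
      rw [hx]; exact Subgroup.one_mem _
    | succ j ih =>
      intro hj x hx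
      have hv : x ^ (2 ^ j) * x ^ (2 ^ j) = 1 := by
        rw [← pow_two, ← pow_mul, ← pow_succ]; exact hx
      obtain ⟨y, hy⟩ := hsurj _ hv
      obtain ⟨d, hd⟩ : ∃ d, e + 2 = j + (d + 1) := ⟨e + 2 - j - 1, by omega⟩
      have hwc : y ^ (2 ^ (d + 1)) ∈ Subgroup.center G := by
        have : y ^ (2 ^ (d + 1)) = (y ^ (2 ^ d)) * (y ^ (2 ^ d)) := by
          rw [← pow_two, ← pow_mul, ← pow_succ]
        rw [this]; exact h.sq_central hcV _
      have hwj : (y ^ (2 ^ (d + 1))) ^ (2 ^ j) = x ^ (2 ^ j) := by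
        rw [← pow_mul, ← pow_add, ← hy]
        congr 2
        omega
      have hc : Commute x (y ^ (2 ^ (d + 1)))⁻¹ :=
        Subgroup.mem_center_iff.mp (Subgroup.inv_mem _ hwc) x
      have h1 : (x * (y ^ (2 ^ (d + 1)))⁻¹) ^ (2 ^ j) = 1 := by
        rw [hc.mul_pow, inv_pow, hwj, mul_inv_cancel]
      have h2 := ih (by omega) _ h1
      have : x = (x * (y ^ (2 ^ (d + 1)))⁻¹) * y ^ (2 ^ (d + 1)) := by group
      rw [this]; exact Subgroup.mul_mem _ h2 hwc
  exact hab (h.case2_core hcV (2 ^ (e + 2)) hPmul hspec (hMZ (e + 2) le_rfl) a₀ b₀)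

end Hyp

/-- the main theorem, by induction on the order. -/
theorem key : ∀ (n : ℕ) (G : Type u) [Group G] (K : Type v) [Group K] (f : K → G →* G),
    Hyp G K f → Nat.card G = n →
      (∀ a b : G, a * b = b * a) ∨ ∀ z ∈ Subgroup.center G, z * z = 1 := by
  intro n
  induction n using Nat.strong_induction_on with
  | _ n ih =>
    intro G _ K _ f h hn
    by_cases hz : ∀ z ∈ Subgroup.center G, z * z = 1
    · exact Or.inr hz
    · left
      push Not at hz
      obtain ⟨z, hzc, hzz⟩ := hz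
      obtain ⟨w, hwc, hww, hw4⟩ := h.order4 hzc hzz
      have hsqrt := h.sqrt hwc hww hw4
      have hq := h.quot_hyp hsqrt
      have hlt := h.quot_card_lt
      rw [hn] at hlt
      rcases ih _ hlt (G ⧸ h.V) K h.fbar hq rfl with hab | hzq
      · exact h.case2 hsqrt hab
      · exact h.case1 hsqrt hzq


/-- In a Suzuki 2-group `P` (a finite non-abelian 2-group with more than one involution admitting a cyclic group of automorphisms regular on its involutions) the involutions are exactly the non-identity central elements, and `Z(P)` is elementary abelian. -/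
theorem result {P : Type*} [Group P] (hP : Cfsg.IsSuzukiTwoGroup P) :
    (∀ x : P, (x ≠ 1 ∧ x * x = 1) ↔ (x ∈ Subgroup.center P ∧ x ≠ 1)) ∧
      ∀ z ∈ Subgroup.center P, z * z = 1 := by
  obtain ⟨hfin, hpg, ⟨a, b, hab⟩, htwo, K, hcyc, hreg⟩ := hP
  have hcomm : ∀ x y : K, x * y = y * x := by
    intro x y
    obtain ⟨g, hg⟩ := IsCyclic.exists_generator (α := K)
    obtain ⟨i, rfl⟩ := Subgroup.mem_zpowers_iff.mp (hg x)
    obtain ⟨j, rfl⟩ := Subgroup.mem_zpowers_iff.mp (hg y)
    rw [← zpow_add, ← zpow_add, add_comm]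
  have h : Hyp P K (fun k => ((k : MulAut P) : P ≃* P).toMonoidHom) :=
    { fin := hfin
      pg := hpg
      comm := hcomm
      comp := fun k k' x => rfl
      one := fun x => rfl
      two := htwo
      reg := hreg }
  have hkey := key (Nat.card P) P K _ h rfl
  have hz : ∀ z ∈ Subgroup.center P, z * z = 1 := by
    rcases hkey with h1 | h1
    · exact absurd (h1 a b) hab
    · exact h1
  exact ⟨fun x => ⟨fun ⟨hx1, hxx⟩ => ⟨h.invol_central hx1 hxx, hx1⟩,
    fun ⟨hxc, hx1⟩ => ⟨hx1, hz x hxc⟩⟩, hz⟩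

end Cfsg.Agent.S1137
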