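import Cfsg.Statements.S1140
import Mathlib

set_option autoImplicit false
open Cfsg

namespace Cfsg.Agent.S1140

section

variable {F : Type*} [Field F] [Fintype F] [CharP F 2]

theorem part1 : LinearIndependent F (fun σ : F ≃+* F => ((σ : F →+* F) : F → F)) := by
  have h := linearIndependent_monoidHom F F
  have h2 := h.comp (fun σ : F ≃+* F => ((σ : F →+* F) : F →* F)) (by
    intro σ τ hστ
    ext x
    have := DFunLike.congr_fun hστ x
    simpa using this)
  exact h2

noncomputable instance finRE : Fintype (F ≃+* F) :=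
  @Fintype.ofFinite _ (Finite.of_injective (fun σ : F ≃+* F => (σ : F → F)) DFunLike.coe_injective)

/-- the automorphisms as `ZMod 2`-linear maps -/
noncomputable def vmap (σ : F ≃+* F) : @LinearMap (ZMod 2) (ZMod 2) _ _ (RingHom.id _) F F _ _
    (ZMod.algebra F 2).toModule (ZMod.algebra F 2).toModule :=
  letI : Algebra (ZMod 2) F := ZMod.algebra F 2
  (σ : F →+ F).toZModLinearMap 2

theorem card_eq :
    letI : Algebra (ZMod 2) F := ZMod.algebra F 2
    Fintype.card (F ≃+* F) = Module.finrank F (F →ₗ[ZMod 2] F) := by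
  letI : Algebra (ZMod 2) F := ZMod.algebra F 2
  have e : (F ≃+* F) ≃ (F ≃ₐ[ZMod 2] F) :=
    { toFun := fun σ => AlgEquiv.ofRingEquiv (f := σ) (fun x => by
        have : (σ : F →+* F).comp (algebraMap (ZMod 2) F) = algebraMap (ZMod 2) F := Subsingleton.elim _ _
        exact DFunLike.congr_fun this x)
      invFun := fun τ => τ.toRingEquiv
      left_inv := fun σ => by ext x; rfl
      right_inv := fun τ => by ext x; rfl }
  rw [Module.finrank_linearMap_self, ← IsGalois.card_aut_eq_finrank (ZMod 2) F, ← Nat.card_congr e,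
    Nat.card_eq_fintype_card]

theorem li :
    letI : Algebra (ZMod 2) F := ZMod.algebra F 2
    LinearIndependent F (vmap (F := F)) := by
  letI : Algebra (ZMod 2) F := ZMod.algebra F 2
  apply LinearIndependent.of_comp (LinearMap.ltoFun (ZMod 2) F F F)
  exact part1

/-- every `ZMod 2`-linear map is a combination of automorphisms, with coefficients depending linearly -/
theorem exists_coeff :
    letI : Algebra (ZMod 2) F := ZMod.algebra F 2
    ∃ r : (F →ₗ[ZMod 2] F) →ₗ[F] ((F ≃+* F) → F), ∀ (g : F →ₗ[ZMod 2] F) (x : F),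
      g x = ∑ σ : F ≃+* F, r g σ * σ x := by
  letI : Algebra (ZMod 2) F := ZMod.algebra F 2
  haveI : Nonempty (F ≃+* F) := ⟨RingEquiv.refl F⟩
  let b := basisOfLinearIndependentOfCardEqFinrank (li (F := F)) (card_eq (F := F))
  refine ⟨(b.equivFun : (F →ₗ[ZMod 2] F) →ₗ[F] ((F ≃+* F) → F)), ?_⟩
  intro g x
  have h1 := b.sum_equivFun g
  have h2 : (∑ σ : F ≃+* F, b.equivFun g σ • b σ) x = g x := by rw [h1]
  rw [← h2, LinearMap.sum_apply]
  apply Finset.sum_congr rfl
  intro σ _
  rw [LinearMap.smul_apply, coe_basisOfLinearIndependentOfCardEqFinrank]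
  rfl

end

/-- For a finite field `F` of characteristic 2, the automorphisms of `F`, viewed as additive maps `F → F`, are linearly independent over `F` (acting on values) every additive endomorphism of `F` is an `F`-linear combination of them, and every biadditive map `F → F → F` is an `F`-combination of the maps `(x, y) ↦ σ(x) τ(y)`. -/
theorem result {F : Type*} [Field F] [Fintype F] [CharP F 2] :
    LinearIndependent F (fun σ : F ≃+* F => ((σ : F →+* F) : F → F)) ∧
      (∀ f : F →+ F, ∃ (s : Finset (F ≃+* F)) (c : (F ≃+* F) → F), ∀ x : F, f x = ∑ σ ∈ s, c σ * σ x) ∧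
      ∀ B : F →+ F →+ F, ∃ (s : Finset ((F ≃+* F) × (F ≃+* F))) (c : (F ≃+* F) × (F ≃+* F) → F),
        ∀ x y : F, B x y = ∑ p ∈ s, c p * (p.1 x * p.2 y) := by
  letI : Algebra (ZMod 2) F := ZMod.algebra F 2
  obtain ⟨r, hr⟩ := exists_coeff (F := F)
  refine ⟨part1, ?_, ?_⟩
  · intro f
    refine ⟨Finset.univ, r (f.toZModLinearMap 2), ?_⟩
    intro x
    exact hr (f.toZModLinearMap 2) x
  · intro B
    -- coefficient functions, additive in x
    let c : (F ≃+* F) → F →+ F := fun τ =>
      { toFun := fun x => r ((B x).toZModLinearMap 2) τ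
        map_zero' := by
          have : (B 0).toZModLinearMap 2 = 0 := by
            rw [map_zero]; rfl
          rw [this, map_zero]; rfl
        map_add' := fun x x' => by
          have : (B (x + x')).toZModLinearMap 2 = (B x).toZModLinearMap 2 + (B x').toZModLinearMap 2 := by
            rw [map_add]; rfl
          rw [this, map_add]; rfl }
    refine ⟨Finset.univ, fun p => r ((c p.2).toZModLinearMap 2) p.1, ?_⟩
    intro x y
    have h1 := hr ((B x).toZModLinearMap 2) y
    have h2 : ∀ τ : F ≃+* F, r ((B x).toZModLinearMap 2) τ = ∑ σ : F ≃+* F, r ((c τ).toZModLinearMap 2) σ * σ x :=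
      fun τ => hr ((c τ).toZModLinearMap 2) x
    have h3 : B x y = ∑ τ : F ≃+* F, r ((B x).toZModLinearMap 2) τ * τ y := h1
    rw [h3, Fintype.sum_prod_type, Finset.sum_comm]
    apply Finset.sum_congr rfl
    intro τ _
    rw [h2 τ, Finset.sum_mul]
    apply Finset.sum_congr rfl
    intro σ _
    ring

end Cfsg.Agent.S1140
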