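import Cfsg.Statements.S0920
import Cfsg.Agent.Lib.helper80.FMT2
import Cfsg.Agent.Lib.helper80.InducedBr

set_option autoImplicit false
open Cfsg

namespace Cfsg.Agent.S0920

open Cfsg.Agent.Lib.helper80 Cfsg.Agent.Lib.helper20

/-- Brauer's First Main Theorem. Let D be a p-subgroup of the finite group G with normalizer N, and fix a maximal ideal M of the algebraic integers containing p. Then (i) every block b of N having D as a defect group induces some block B of G having D as a defect group; (ii) every block of G with defect group D is induced by exactly one block of N with defect group D. -/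
theorem result {G : Type*} [Group G] [Finite G] (p : ℕ) [Fact p.Prime] (M : Ideal Cfsg.AlgInt) (hM : Cfsg.IsPModular p M) (D : Subgroup G) (hD : IsPGroup p D) : (∀ b : Set (Cfsg.IrrCharacter (Subgroup.normalizer (D : Set G))), Cfsg.IsPBlock M b → Cfsg.IsDefectGroup p M b (D.subgroupOf (Subgroup.normalizer (D : Set G))) → ∃ B : Set (Cfsg.IrrCharacter G), Cfsg.IsPBlock M B ∧ Cfsg.IsDefectGroup p M B D ∧ Cfsg.IsInducedBlock M (Subgroup.normalizer (D : Set G)) b B) ∧ (∀ B : Set (Cfsg.IrrCharacter G), Cfsg.IsPBlock M B → Cfsg.IsDefectGroup p M B D → ∃! b : Set (Cfsg.IrrCharacter (Subgroup.normalizer (D : Set G))), Cfsg.IsPBlock M b ∧ Cfsg.IsDefectGroup p M b (D.subgroupOf (Subgroup.normalizer (D : Set G))) ∧ Cfsg.IsInducedBlock M (Subgroup.normalizer (D : Set G)) b B) := by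
  classical
  have := Fintype.ofFinite G
  have : Fintype (Subgroup.normalizer (D : Set G)) := Fintype.ofFinite _
  have hMp := isPrime_of_isPModular hM
  have hPN : D ≤ Subgroup.normalizer (D : Set G) := Subgroup.le_normalizer
  have hCN : Subgroup.centralizer (D : Set G) ≤ Subgroup.normalizer (D : Set G) :=
    Subgroup.centralizer_le_normalizer _
  constructor
  · intro b hb hDb
    obtain ⟨B, hB, hDB, -, hind, -⟩ := fmt_up hM D (Subgroup.normalizer (D : Set G)) hD
      le_rfl le_rfl hb hDb
    exact ⟨B, hB, hDB, (isInducedBlock_iff_brInd hM D _ hD hPN hCN le_rfl hb hB).mpr hind⟩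
  · intro B hB hDB
    obtain ⟨c, hc, hDc, -, hind, -⟩ := fmt_down hM D (Subgroup.normalizer (D : Set G)) hD
      le_rfl le_rfl hB hDB
    refine ⟨c, ⟨hc, hDc, (isInducedBlock_iff_brInd hM D _ hD hPN hCN le_rfl hc hB).mpr hind⟩, ?_⟩
    rintro b' ⟨hb', -, hind'⟩
    have h1 := (isInducedBlock_iff_brInd hM D _ hD hPN hCN le_rfl hb' hB).mp hind'
    obtain ⟨θ', hθ'⟩ := isPBlock_nonempty hMp hb'
    obtain ⟨θ, hθ⟩ := isPBlock_nonempty hMp hc
    obtain ⟨χ, hχ⟩ := isPBlock_nonempty hMp hB
    have h2 := BrInd.mem_of_defect hM D _ hD le_rfl le_rfl hc hDc hθ (hind θ hθ χ hχ)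
      (h1 θ' hθ' χ hχ)
    exact isPBlock_eq_of_mem hMp hb' hc hθ' h2

end Cfsg.Agent.S0920
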