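import Cfsg.Statements.S0953
import Cfsg.Agent.Lib.helper84.NormalSylow
import Cfsg.Agent.S0920

set_option autoImplicit false
open Cfsg

namespace Cfsg.Agent.S0953

open Cfsg.Agent.Lib.helper84 Cfsg.Agent.Lib.helper81 Cfsg.Agent.Lib.helper80
  Cfsg.Agent.Lib.helper20

/-- Let P be a Sylow p-subgroup of the finite group G with normalizer N, and fix a maximal ideal M of the algebraic integers containing p. The number of blocks of G having P as a defect group equals the number of conjugacy classes of N consisting of elements of order prime to p that centralize P. -/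
theorem result {G : Type*} [Group G] [Finite G] (p : ℕ) [Fact p.Prime] (M : Ideal Cfsg.AlgInt) (hM : Cfsg.IsPModular p M) (P : Sylow p G) : Nat.card {B : Set (Cfsg.IrrCharacter G) // Cfsg.IsPBlock M B ∧ Cfsg.IsDefectGroup p M B (P : Subgroup G)} = Nat.card {C : ConjClasses (Subgroup.normalizer ((P : Subgroup G) : Set G)) // ∀ n : Subgroup.normalizer ((P : Subgroup G) : Set G), ConjClasses.mk n = C → ¬ p ∣ orderOf n ∧ (n : G) ∈ Subgroup.centralizer ((P : Subgroup G) : Set G)} := by
  classical
  have := Fintype.ofFinite G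
  have hMp := isPrime_of_isPModular hM
  obtain ⟨N, hN⟩ : ∃ N : Subgroup G, N = Subgroup.normalizer ((P : Subgroup G) : Set G) :=
    ⟨_, rfl⟩
  rw [← hN]
  have hPN : (P : Subgroup G) ≤ N := by rw [hN]; exact Subgroup.le_normalizer
  obtain ⟨Q, hQdef⟩ : ∃ Q : Subgroup N, Q = (P : Subgroup G).subgroupOf N := ⟨_, rfl⟩
  have hQn : Q.Normal := by
    rw [hQdef]
    subst hN
    exact Subgroup.normal_in_normalizer
  have hQ : IsPGroup p Q := by
    rw [hQdef]
    exact P.isPGroup'.comap_subtype
  have hQi : ¬ p ∣ Q.index := by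
    intro h
    have h1 : Q.index ∣ (P : Subgroup G).index := by
      rw [hQdef]
      exact Dvd.intro _ (Subgroup.relIndex_mul_index hPN)
    exact P.not_dvd_index (dvd_trans h h1)
  have hfmt := Cfsg.Agent.S0920.result p M hM (P : Subgroup G) P.isPGroup'
  rw [← hN, ← hQdef] at hfmt
  obtain ⟨hi, hii⟩ := hfmt
  -- Step 1: blocks of `G` with defect group `P` against all blocks of `N`
  have hstep1 : Nat.card {B : Set (IrrCharacter G) // IsPBlock M B ∧
      IsDefectGroup p M B (P : Subgroup G)} = Nat.card {b : Set (IrrCharacter N) // IsPBlock M b} := by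
    have hex : ∀ B : {B : Set (IrrCharacter G) // IsPBlock M B ∧
        IsDefectGroup p M B (P : Subgroup G)}, ∃ b : Set (IrrCharacter N),
        IsPBlock M b ∧ IsDefectGroup p M b Q ∧ IsInducedBlock M N b B.1 :=
      fun B => (hii B.1 B.2.1 B.2.2).exists
    choose f hf using hex
    apply Nat.card_eq_of_bijective (fun B => (⟨f B, (hf B).1⟩ : {b : Set (IrrCharacter N) // IsPBlock M b}))
    constructor
    · intro B B' hBB
      have hfe : f B = f B' := congrArg Subtype.val hBB
      obtain ⟨ξ, hξ⟩ := Cfsg.Agent.Lib.helper81.isPBlock_nonempty hMp (hf B).1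
      obtain ⟨χ, hχ⟩ := Cfsg.Agent.Lib.helper81.isPBlock_nonempty hMp B.2.1
      obtain ⟨χ', hχ'⟩ := Cfsg.Agent.Lib.helper81.isPBlock_nonempty hMp B'.2.1
      have h1 := (hf B).2.2.2.2 ξ hξ χ hχ
      have h2 := (hf B').2.2.2.2 ξ (hfe ▸ hξ) χ' hχ'
      have hsame : SameBlock M (χ : G → ℂ) (χ' : G → ℂ) := by
        intro g
        have h3 := memLocalIdeal_sub hMp (h2 g) (h1 g)
        have h4 : inducedCentralChar N (ξ : N → ℂ) g - centralChar (χ' : G → ℂ) g
            - (inducedCentralChar N (ξ : N → ℂ) g - centralChar (χ : G → ℂ) g)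
            = centralChar (χ : G → ℂ) g - centralChar (χ' : G → ℂ) g := by ring
        rwa [h4] at h3
      apply Subtype.ext
      rw [Cfsg.Agent.Lib.helper80.eq_blockOf_of_mem hMp B.2.1 hχ,
        Cfsg.Agent.Lib.helper80.eq_blockOf_of_mem hMp B'.2.1 hχ']
      exact Cfsg.Agent.Lib.helper80.blockOf_eq_of_sameBlock hMp hsame
    · intro b
      have hbD := isDefectGroup_of_normal_sylow hM Q hQ hQi b.2
      obtain ⟨B, hB, hBD, hind⟩ := hi b.1 b.2 hbD
      refine ⟨⟨B, hB, hBD⟩, ?_⟩
      apply Subtype.ext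
      exact (hii B hB hBD).unique (hf ⟨B, hB, hBD⟩) ⟨b.2, hbD, hind⟩
  rw [hstep1, card_blocks_eq_card_classes_of_normal_sylow hM Q hQ hQi]
  apply Nat.card_congr
  apply Equiv.subtypeEquivRight
  intro c
  unfold CentClass
  refine forall_congr' (fun n => imp_congr_right (fun _ => and_congr_right (fun _ => ?_)))
  rw [Subgroup.mem_centralizer_iff, Subgroup.mem_centralizer_iff]
  constructor
  · intro h q hq
    have hqQ : (⟨q, hPN hq⟩ : N) ∈ Q := by
      rw [hQdef]
      exact Subgroup.mem_subgroupOf.mpr hq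
    have h1 := h _ hqQ
    exact congrArg Subtype.val h1
  · intro h q hq
    have hqP : (q : G) ∈ (P : Subgroup G) := by
      rw [hQdef] at hq
      exact Subgroup.mem_subgroupOf.mp hq
    exact Subtype.ext (h _ hqP)

end Cfsg.Agent.S0953
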