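import Cfsg.Statements.S0566
import Mathlib
import Cfsg.Agent.S0559

set_option autoImplicit false
open Pointwise
open Cfsg

namespace Cfsg.Agent.S0566

variable {G : Type*} [Group G]

/-- If `A * K` and `A' * K` are (carriers of) subgroups, then `(A ⊔ A') * K` is the carrier of
`(A ⊔ A') ⊔ K`. -/
theorem coe_sup_sup_eq_mul (A A' K S S' : Subgroup G)
    (hS : (S : Set G) = (A : Set G) * (K : Set G))
    (hS' : (S' : Set G) = (A' : Set G) * (K : Set G)) :
    (((A ⊔ A') ⊔ K : Subgroup G) : Set G) = ((A ⊔ A' : Subgroup G) : Set G) * (K : Set G) := by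
  have hAS : A ≤ S := by
    intro a ha
    have : a ∈ (S : Set G) := by rw [hS]; exact ⟨a, ha, 1, K.one_mem, mul_one a⟩
    exact this
  have hKS : K ≤ S := by
    intro a ha
    have : a ∈ (S : Set G) := by rw [hS]; exact ⟨1, A.one_mem, a, ha, one_mul a⟩
    exact this
  have hAS' : A' ≤ S' := by
    intro a ha
    have : a ∈ (S' : Set G) := by rw [hS']; exact ⟨a, ha, 1, K.one_mem, mul_one a⟩
    exact this
  apply Set.Subset.antisymm
  · intro x hx
    have hx' : x ∈ S ⊔ S' := by
      have : (A ⊔ A') ⊔ K ≤ S ⊔ S' :=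
        sup_le (sup_le (hAS.trans le_sup_left) (hAS'.trans le_sup_right)) (hKS.trans le_sup_left)
      exact this hx
    rw [Subgroup.sup_eq_closure] at hx'
    have key : ∀ t ∈ ((A ⊔ A' : Subgroup G) : Set G) * (K : Set G), ∀ s ∈ (S : Set G) ∪ (S' : Set G),
        t * s ∈ ((A ⊔ A' : Subgroup G) : Set G) * (K : Set G) := by
      rintro t ⟨a, ha, k, hk, rfl⟩ s hs
      rcases hs with hs | hs
      · have h1 : k * s ∈ (S : Set G) := S.mul_mem (hKS hk) hs
        rw [hS] at h1
        obtain ⟨a2, ha2, k2, hk2, h2⟩ := h1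
        refine ⟨a * a2, (A ⊔ A').mul_mem ha ((le_sup_left : A ≤ A ⊔ A') ha2), k2, hk2, ?_⟩
        simp only at h2 ⊢
        rw [mul_assoc, h2, mul_assoc]
      · have hKS' : K ≤ S' := by
          intro a ha
          have : a ∈ (S' : Set G) := by rw [hS']; exact ⟨1, A'.one_mem, a, ha, one_mul a⟩
          exact this
        have h1 : k * s ∈ (S' : Set G) := S'.mul_mem (hKS' hk) hs
        rw [hS'] at h1
        obtain ⟨a2, ha2, k2, hk2, h2⟩ := h1
        refine ⟨a * a2, (A ⊔ A').mul_mem ha ((le_sup_right : A' ≤ A ⊔ A') ha2), k2, hk2, ?_⟩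
        simp only at h2 ⊢
        rw [mul_assoc, h2, mul_assoc]
    have aux : ∀ y ∈ Subgroup.closure ((S : Set G) ∪ (S' : Set G)),
        y ∈ ((A ⊔ A' : Subgroup G) : Set G) * (K : Set G) := by
      intro y hy
      induction hy using Subgroup.closure_induction_right with
      | one => exact ⟨1, (A ⊔ A').one_mem, 1, K.one_mem, mul_one 1⟩
      | mul_right y hy s hs ih => exact key y ih s hs
      | mul_inv_cancel y hy s hs ih =>
        refine key y ih s⁻¹ ?_
        rcases hs with hs | hs
        · exact Or.inl (S.inv_mem hs)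
        · exact Or.inr (S'.inv_mem hs)
    exact aux x hx'
  · rintro x ⟨a, ha, k, hk, rfl⟩
    exact Subgroup.mul_mem _ ((le_sup_left : A ⊔ A' ≤ (A ⊔ A') ⊔ K) ha)
      ((le_sup_right : K ≤ (A ⊔ A') ⊔ K) hk)

/-- Conjugating a product decomposition. -/
theorem conj_smul_coe_mul (b z : G) (A B S : Subgroup G)
    (hS : (S : Set G) = (A : Set G) * ((MulAut.conj (b⁻¹ * z) • B : Subgroup G) : Set G)) :
    ((MulAut.conj b • S : Subgroup G) : Set G)
      = ((MulAut.conj b • A : Subgroup G) : Set G) * ((MulAut.conj z • B : Subgroup G) : Set G) := by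
  ext w
  constructor
  · intro hw
    have hw' : w ∈ MulAut.conj b • S := hw
    rw [Subgroup.mem_pointwise_smul_iff_inv_smul_mem] at hw'
    have hw2 : (MulAut.conj b)⁻¹ • w ∈ (S : Set G) := hw'
    rw [hS] at hw2
    obtain ⟨a, ha, k, hk, hak⟩ := hw2
    refine ⟨MulAut.conj b • a, Subgroup.smul_mem_pointwise_smul _ _ _ ha, MulAut.conj b • k, ?_, ?_⟩
    · have : MulAut.conj z • B = MulAut.conj b • (MulAut.conj (b⁻¹ * z) • B) := by
        rw [← mul_smul, ← map_mul, mul_inv_cancel_left]
      show MulAut.conj b • k ∈ MulAut.conj z • B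
      rw [this]
      exact Subgroup.smul_mem_pointwise_smul _ _ _ hk
    · simp only at hak ⊢
      rw [← smul_mul', hak, smul_inv_smul]
  · rintro ⟨a, ha, k, hk, rfl⟩
    have ha' : a ∈ MulAut.conj b • A := ha
    have hk' : k ∈ MulAut.conj z • B := hk
    show a * k ∈ MulAut.conj b • S
    rw [Subgroup.mem_pointwise_smul_iff_inv_smul_mem] at ha' ⊢
    have hk2 : (MulAut.conj b)⁻¹ • k ∈ MulAut.conj (b⁻¹ * z) • B := by
      have : MulAut.conj z • B = MulAut.conj b • (MulAut.conj (b⁻¹ * z) • B) := by
        rw [← mul_smul, ← map_mul, mul_inv_cancel_left]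
      rw [this] at hk'
      rwa [Subgroup.mem_pointwise_smul_iff_inv_smul_mem] at hk'
    have : (MulAut.conj b)⁻¹ • (a * k) ∈ (S : Set G) := by
      rw [hS, smul_mul']
      exact ⟨_, ha', _, hk2, rfl⟩
    exact this

theorem main [Finite G] (B : Subgroup G) : ∀ (n : ℕ) (A : Subgroup G), Nat.card G - Nat.card A = n →
    (∀ x : G, ∃ S : Subgroup G, S ≠ ⊤ ∧
      (S : Set G) = (A : Set G) * ((MulAut.conj x • B : Subgroup G) : Set G)) →
    ∃ N : Subgroup G, N.Normal ∧ N ≠ ⊤ ∧ (A ≤ N ∨ B ≤ N) := by
  intro n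
  induction n using Nat.strong_induction_on with
  | _ n ih =>
  intro A hn h
  by_cases hcase : ∀ x : G, ∀ b ∈ MulAut.conj x • B, MulAut.conj b • A = A
  · -- every conjugate of B normalizes A
    by_cases hB : Subgroup.normalClosure (B : Set G) = ⊤
    · refine ⟨A, ?_, ?_, Or.inl le_rfl⟩
      · have hN : Subgroup.normalClosure (B : Set G) ≤ Subgroup.normalizer (A : Set G) := by
          rw [Subgroup.normalClosure]
          rw [Subgroup.closure_le]
          rintro g hg
          rw [Group.mem_conjugatesOfSet_iff] at hg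
          obtain ⟨b, hb, hbg⟩ := hg
          rw [isConj_iff] at hbg
          obtain ⟨c, rfl⟩ := hbg
          have hmem : c * b * c⁻¹ ∈ MulAut.conj c • B := by
            have := Subgroup.smul_mem_pointwise_smul b (MulAut.conj c) B hb
            simpa [MulAut.smul_def] using this
          have h1 := hcase c _ hmem
          have h2 := hcase c _ ((MulAut.conj c • B).inv_mem hmem)
          show c * b * c⁻¹ ∈ Subgroup.normalizer (A : Set G)
          generalize c * b * c⁻¹ = g at h1 h2
          rw [Subgroup.mem_normalizer_iff]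
          intro y
          constructor
          · intro hy
            have := Subgroup.smul_mem_pointwise_smul y (MulAut.conj g) A hy
            rw [h1] at this
            simpa [MulAut.smul_def] using this
          · intro hy
            have := Subgroup.smul_mem_pointwise_smul _ (MulAut.conj g⁻¹) A hy
            rw [h2] at this
            have e : MulAut.conj g⁻¹ • (g * y * g⁻¹) = y := by
              simp only [MulAut.smul_def, MulAut.conj_apply]; group
            rwa [e] at this
        rw [hB, top_le_iff] at hN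
        exact Subgroup.normalizer_eq_top_iff.mp hN
      · obtain ⟨S, hS, hSe⟩ := h 1
        intro hA
        apply hS
        rw [eq_top_iff]
        intro g _
        have : g ∈ (S : Set G) := by
          rw [hSe]
          exact ⟨g, by rw [hA]; trivial, 1, Subgroup.one_mem _, mul_one g⟩
        exact this
    · exact ⟨Subgroup.normalClosure (B : Set G), Subgroup.normalClosure_normal, hB,
        Or.inr Subgroup.le_normalClosure⟩
  · push Not at hcase
    obtain ⟨x, b, hb, hbA⟩ := hcase
    set A₁ : Subgroup G := A ⊔ MulAut.conj b • A with hA₁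
    have hlt : A < A₁ := by
      refine lt_of_le_of_ne le_sup_left ?_
      intro hEq
      apply hbA
      have hle : MulAut.conj b • A ≤ A := by
        have : MulAut.conj b • A ≤ A₁ := le_sup_right
        rwa [← hEq] at this
      refine Subgroup.eq_of_le_of_card_ge hle ?_
      exact le_of_eq (Nat.card_congr (Subgroup.equivSMul (MulAut.conj b) A).toEquiv)
    have hcard : Nat.card A < Nat.card A₁ := by
      by_contra hc
      push Not at hc
      exact (ne_of_lt hlt) (Subgroup.eq_of_le_of_card_ge hlt.le hc)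
    have hcardG : Nat.card A₁ ≤ Nat.card G := Subgroup.card_le_card_group A₁
    -- A₁ permutes with all conjugates of B
    have hperm : ∀ z : G, (((A₁ ⊔ MulAut.conj z • B : Subgroup G) : Set G))
        = (A₁ : Set G) * ((MulAut.conj z • B : Subgroup G) : Set G) := by
      intro z
      obtain ⟨S, -, hS⟩ := h z
      obtain ⟨S', -, hS'⟩ := h (b⁻¹ * z)
      exact coe_sup_sup_eq_mul A (MulAut.conj b • A) (MulAut.conj z • B) S (MulAut.conj b • S') hS
        (conj_smul_coe_mul b z A B S' hS')
    by_cases hall : ∀ z : G, A₁ ⊔ MulAut.conj z • B ≠ ⊤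
    · obtain ⟨N, hN1, hN2, hN3⟩ := ih (Nat.card G - Nat.card A₁) (by omega) A₁ rfl
        (fun z => ⟨A₁ ⊔ MulAut.conj z • B, hall z, hperm z⟩)
      refine ⟨N, hN1, hN2, ?_⟩
      rcases hN3 with h3 | h3
      · exact Or.inl (hlt.le.trans h3)
      · exact Or.inr h3
    · exfalso
      push Not at hall
      obtain ⟨z, hz⟩ := hall
      obtain ⟨S, hSne, hS⟩ := h x
      have hfac : ∀ g : G, ∃ a ∈ A₁, ∃ k ∈ MulAut.conj z • B, g = a * k := by
        intro g
        have : g ∈ (((A₁ ⊔ MulAut.conj z • B : Subgroup G) : Set G)) := by rw [hz]; trivial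
        rw [hperm z] at this
        obtain ⟨a, ha, k, hk, hak⟩ := this
        exact ⟨a, ha, k, hk, hak.symm⟩
      have hres := (Cfsg.Agent.S0559.result A₁ (MulAut.conj z • B) A₁ (MulAut.conj x • B) hfac
        ⟨1, by simp⟩ ⟨x * z⁻¹, by rw [← mul_smul, ← map_mul, inv_mul_cancel_right]⟩).1
      have hAS : A ≤ S := by
        intro a ha
        have : a ∈ (S : Set G) := by rw [hS]; exact ⟨a, ha, 1, Subgroup.one_mem _, mul_one a⟩
        exact this
      have hBS : MulAut.conj x • B ≤ S := by
        intro a ha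
        have : a ∈ (S : Set G) := by rw [hS]; exact ⟨1, A.one_mem, a, ha, one_mul a⟩
        exact this
      have hbS : b ∈ S := hBS hb
      have hA₁S : A₁ ≤ S := by
        refine sup_le hAS ?_
        intro w hw
        rw [Subgroup.mem_pointwise_smul_iff_inv_smul_mem] at hw
        have h1 : (MulAut.conj b)⁻¹ • w ∈ S := hAS hw
        have h2 : w = b * ((MulAut.conj b)⁻¹ • w) * b⁻¹ := by
          simp [MulAut.smul_def, mul_assoc]
        rw [h2]
        exact S.mul_mem (S.mul_mem hbS h1) (S.inv_mem hbS)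
      apply hSne
      rw [eq_top_iff]
      intro g _
      obtain ⟨a, ha, k, hk, rfl⟩ := hres g
      exact S.mul_mem (hA₁S ha) (hBS hk)

/-- Let A and B be nontrivial subgroups of a finite group G such that for every x the product set of A and xBx⁻¹ is a proper subgroup of G. Then there is a proper normal subgroup of G containing A or containing B. -/
theorem result {G : Type*} [Group G] [Finite G] (A B : Subgroup G) (hA : A ≠ ⊥) (hB : B ≠ ⊥) (h : ∀ x : G, ∃ S : Subgroup G, S ≠ ⊤ ∧ (S : Set G) = (A : Set G) * ((MulAut.conj x • B : Subgroup G) : Set G)) : ∃ N : Subgroup G, N.Normal ∧ N ≠ ⊤ ∧ (A ≤ N ∨ B ≤ N) := by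
  have _ := hA
  have _ := hB
  exact main B _ A rfl h

end Cfsg.Agent.S0566
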