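import Cfsg.Statements.S0560
import Mathlib
import Cfsg.Agent.S0540
import Cfsg.Agent.Lib.helper12.Conj
import Cfsg.Agent.Lib.helper12.ProdCard

set_option autoImplicit false
open Pointwise
open Cfsg

namespace Cfsg.Agent.S0560

open Cfsg.Agent.Lib.helper12

/-- Let the finite group G be the product HK of two subgroups and p a prime. Then there are Sylow p-subgroups P of H and Q of K and a Sylow p-subgroup R of G whose underlying set is the product set of P and Q. -/
theorem result {G : Type*} [Group G] [Finite G] (H K : Subgroup G) (hHK : ∀ g : G, ∃ h ∈ H, ∃ k ∈ K, g = h * k) (p : ℕ) [Fact p.Prime] : ∃ (P : Sylow p H) (Q : Sylow p K) (R : Sylow p G), ((R : Subgroup G) : Set G) = (((P : Subgroup H).map H.subtype : Subgroup G) : Set G) * (((Q : Subgroup K).map K.subtype : Subgroup G) : Set G) := by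
  have hp : p.Prime := Fact.out
  obtain ⟨P₀⟩ : Nonempty (Sylow p H) := inferInstance
  obtain ⟨Q₀⟩ : Nonempty (Sylow p K) := inferInstance
  have hP₀p : IsPGroup p ((P₀ : Subgroup H).map H.subtype) := P₀.isPGroup'.map H.subtype
  have hQ₀p : IsPGroup p ((Q₀ : Subgroup K).map K.subtype) := Q₀.isPGroup'.map K.subtype
  obtain ⟨R₀, hR₀⟩ := hP₀p.exists_le_sylow
  obtain ⟨R₁, hR₁⟩ := hQ₀p.exists_le_sylow
  obtain ⟨g, hg⟩ := MulAction.exists_smul_eq G R₀ R₁
  obtain ⟨h', hh', k', hk', hgi⟩ := hHK g⁻¹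
  have hh : h'⁻¹ ∈ H := H.inv_mem hh'
  have hk : k'⁻¹ ∈ K := K.inv_mem hk'
  have hgkh : g = k'⁻¹ * h'⁻¹ := by
    have : g = (g⁻¹)⁻¹ := (inv_inv g).symm
    rw [this, hgi]; group
  refine ⟨(⟨h'⁻¹, hh⟩ : H) • P₀, (⟨k', hk'⟩ : K) • Q₀, h'⁻¹ • R₀, ?_⟩
  set P' := (((⟨h'⁻¹, hh⟩ : H) • P₀ : Sylow p H) : Subgroup H).map H.subtype with hP'
  set Q' := (((⟨k', hk'⟩ : K) • Q₀ : Sylow p K) : Subgroup K).map K.subtype with hQ'
  have hPR : P' ≤ ((h'⁻¹ • R₀ : Sylow p G) : Subgroup G) := by
    rw [hP', Sylow.coe_subgroup_smul, Sylow.coe_subgroup_smul,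
      Cfsg.Agent.S0540.map_subtype_conj_smul]
    exact conj_smul_mono h'⁻¹ hR₀
  have hQR : Q' ≤ ((h'⁻¹ • R₀ : Sylow p G) : Subgroup G) := by
    rw [hQ', Sylow.coe_subgroup_smul, Sylow.coe_subgroup_smul,
      Cfsg.Agent.S0540.map_subtype_conj_smul]
    have h1 : ((Q₀ : Subgroup K).map K.subtype) ≤ MulAut.conj (k'⁻¹ * h'⁻¹) • (R₀ : Subgroup G) := by
      rw [← hgkh, ← Sylow.coe_subgroup_smul, hg]; exact hR₁
    have h2 := conj_smul_mono k' h1
    rw [← conj_mul_smul] at h2
    have : k' * (k'⁻¹ * h'⁻¹) = h'⁻¹ := by group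
    rwa [this] at h2
  have hcP : Nat.card P' = p ^ (Nat.card H).factorization p := by
    rw [hP', Subgroup.card_map_of_injective H.subtype_injective, Sylow.card_eq_multiplicity]
  have hcQ : Nat.card Q' = p ^ (Nat.card K).factorization p := by
    rw [hQ', Subgroup.card_map_of_injective K.subtype_injective, Sylow.card_eq_multiplicity]
  have hcR : Nat.card ((h'⁻¹ • R₀ : Sylow p G) : Subgroup G) = p ^ (Nat.card G).factorization p :=
    Sylow.card_eq_multiplicity _
  have hPQp : IsPGroup p (P' ⊓ Q' : Subgroup G) :=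
    IsPGroup.to_le (h'⁻¹ • R₀ : Sylow p G).isPGroup' (inf_le_left.trans hPR)
  obtain ⟨c, hc⟩ := IsPGroup.iff_card.mp hPQp
  have hle : P' ⊓ Q' ≤ H ⊓ K := inf_le_inf (Subgroup.map_subtype_le _) (Subgroup.map_subtype_le _)
  have hcle : c ≤ (Nat.card (H ⊓ K : Subgroup G)).factorization p := by
    have := Subgroup.card_dvd_of_le hle
    rw [hc] at this
    exact (hp.pow_dvd_iff_le_factorization Nat.card_pos.ne').mp this
  have hG := card_mul_card_inf_of_eq_mul H K hHK
  have hfac : (Nat.card G).factorization p + (Nat.card (H ⊓ K : Subgroup G)).factorization p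
      = (Nat.card H).factorization p + (Nat.card K).factorization p := by
    have := congrArg (fun n => n.factorization p) hG
    beta_reduce at this
    rw [Nat.factorization_mul Nat.card_pos.ne' Nat.card_pos.ne',
      Nat.factorization_mul Nat.card_pos.ne' Nat.card_pos.ne', Finsupp.add_apply,
      Finsupp.add_apply] at this
    exact this
  have hprod := card_mul_set_mul_card_inf P' Q'
  rw [hcP, hcQ, hc, ← pow_add] at hprod
  have hcard : p ^ (Nat.card G).factorization p
      ≤ Nat.card ((P' : Set G) * (Q' : Set G) : Set G) := by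
    have h1 : p ^ ((Nat.card H).factorization p + (Nat.card K).factorization p)
        = p ^ ((Nat.card H).factorization p + (Nat.card K).factorization p - c) * p ^ c := by
      rw [← pow_add]; congr 1; omega
    rw [h1] at hprod
    have h2 := Nat.eq_of_mul_eq_mul_right (pow_pos hp.pos c) hprod
    rw [h2]
    exact Nat.pow_le_pow_right hp.pos (by omega)
  symm
  apply Set.eq_of_subset_of_ncard_le
  · rintro _ ⟨a, ha, b, hb, rfl⟩
    exact Subgroup.mul_mem _ (hPR ha) (hQR hb)
  · rw [← Nat.card_coe_set_eq, ← Nat.card_coe_set_eq]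
    exact (le_of_eq hcR).trans hcard
  · exact Set.toFinite _

end Cfsg.Agent.S0560
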