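import Cfsg.Statements.S3116
import Cfsg.Agent.Lib.helper87.AutTwoGroup
import Cfsg.Agent.Lib.helper25.QD

set_option autoImplicit false
open Cfsg

namespace Cfsg.Agent.S3116

open Cfsg.Agent.Lib.helper87 Cfsg.Agent.Lib.helper25

theorem aut_qd {X : Type*} [Group X] (hQ : Cfsg.IsQuasiDihedral X) : IsPGroup 2 (MulAut X) := by
  obtain ⟨n, x, y, h⟩ := exists_qdSetup hQ
  have hn := h.hn
  have : NeZero (2 ^ n) := ⟨by positivity⟩
  have hxpval : ∀ a : ZMod (2 ^ n), h.xp a = x ^ a.val := by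
    intro a
    have := h.xp_natCast a.val
    rwa [ZMod.natCast_zmod_val] at this
  have hflip : ∀ a : ZMod (2 ^ n), h.xp a * y = y * h.xp (rr n * a) := by
    intro a
    rw [h.y_mul_xp, ← mul_assoc, rr_mul_rr hn, one_mul]
  refine aut_isPGroup_two_of_cyclic_index_two x y n h.xpow ?_ ?_ ?_
  · intro d
    obtain ⟨a, ha | ha⟩ := h.normal_form d
    · exact ⟨a.val, Or.inl (by rw [ha, hxpval])⟩
    · exact ⟨(rr n * a).val, Or.inr (by rw [ha, hflip, hxpval])⟩
  · intro i hi
    exact h.y_not_mem (hi ▸ Subgroup.pow_mem _ (Subgroup.mem_zpowers x) i)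
  · intro α
    have hord : orderOf (α x) = 2 ^ n := by
      rw [MulEquiv.orderOf_eq α x, h.ox]
    obtain ⟨a, ha | ha⟩ := h.normal_form (α x)
    · exact ⟨a.val, by rw [ha, hxpval]⟩
    · exfalso
      have h4 : (α x) ^ 4 = 1 := by
        have e : (α x) ^ 4 = (α x * α x) * (α x * α x) := by
          rw [show (4:ℕ) = 2 + 2 from rfl, pow_add, pow_two]
        rw [e, ha, h.sq_xp_y, h.xp_mul_xp, h.xp_eq_one_iff]
        have := eight_tt hn
        linear_combination a * this
      have hdvd : orderOf (α x) ∣ 4 := orderOf_dvd_of_pow_eq_one h4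
      rw [hord] at hdvd
      have hle : 2 ^ n ≤ 4 := Nat.le_of_dvd (by norm_num) hdvd
      have : 2 ^ 3 ≤ 2 ^ n := Nat.pow_le_pow_right (by norm_num) hn
      omega

/-- The automorphism group of a dihedral 2-group of order at least 8, or of a quasi-dihedral (semidihedral) 2-group of order at least 16, is a 2-group. -/
theorem result {X : Type*} [Group X] [Finite X] (h2 : IsPGroup 2 X)
    (h : (∃ n : ℕ, 4 ≤ n ∧ Nonempty (X ≃* DihedralGroup n)) ∨ Cfsg.IsQuasiDihedral X) : IsPGroup 2 (MulAut X) := by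
  rcases h with ⟨n, hn, ⟨e⟩⟩ | hQ
  · -- n is a power of two
    have hn0 : NeZero n := ⟨by omega⟩
    have hcard : Nat.card X = 2 * n := by
      rw [Nat.card_congr e.toEquiv, DihedralGroup.nat_card]
    obtain ⟨m, hm⟩ := IsPGroup.iff_card.1 h2
    rw [hcard] at hm
    have hdvd : n ∣ 2 ^ m := ⟨2, by rw [← hm]; ring⟩
    obtain ⟨k, hk, rfl⟩ := (Nat.dvd_prime_pow Nat.prime_two).1 hdvd
    have hk2 : 2 ≤ k := by
      by_contra hlt
      have hk1 : k ≤ 1 := by omega
      have : 2 ^ k ≤ 2 ^ 1 := Nat.pow_le_pow_right (by norm_num) hk1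
      omega
    have hD := aut_dihedral_isPGroup_two k hk2
    exact hD.of_equiv (MulAut.congr e).symm
  · exact aut_qd hQ

end Cfsg.Agent.S3116
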