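import Cfsg.Statements.S3224
import Cfsg.Agent.Lib.helper59.TwoGroups

set_option autoImplicit false
open Cfsg

namespace Cfsg.Agent.S3224

open Subgroup Cfsg.Agent.Lib.helper59

universe u

theorem self_mem_centralizer {S : Type u} [Group S] (x : S) : x ∈ centralizer ({x} : Set S) :=
  mem_centralizer_singleton_iff.mpr rfl

/-- The centre of a 2-group of order at least 8 with an element `x` whose centralizer has order 4
has order 2 and does not contain `x`. -/
theorem center_facts {S : Type u} [Group S] [Finite S] (hS : IsPGroup 2 S) (x : S)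
    (hC : Nat.card ↥(centralizer ({x} : Set S)) = 4) (h8 : 8 ≤ Nat.card S) :
    x ∉ center S ∧ Nat.card ↥(center S) = 2 := by
  have hx : x ∉ center S := by
    intro h
    have : centralizer ({x} : Set S) = ⊤ :=
      centralizer_eq_top_iff_subset.mpr (Set.singleton_subset_iff.mpr h)
    rw [this, Subgroup.card_top] at hC
    omega
  refine ⟨hx, ?_⟩
  have hnt : Nontrivial S := by
    rw [← Finite.one_lt_card_iff_nontrivial]; omega
  have : Fact (Nat.Prime 2) := ⟨Nat.prime_two⟩
  have hZnt : Nontrivial ↥(center S) := hS.center_nontrivial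
  have h1 : 1 < Nat.card ↥(center S) := Finite.one_lt_card
  have hle : center S ≤ centralizer ({x} : Set S) := center_le_centralizer _
  have hdvd : Nat.card ↥(center S) ∣ 4 := by
    rw [← hC]; exact Subgroup.card_dvd_of_le hle
  have hne4 : Nat.card ↥(center S) ≠ 4 := by
    intro h4
    have : center S = centralizer ({x} : Set S) :=
      Subgroup.eq_of_le_of_card_ge hle (by rw [hC, h4])
    apply hx
    rw [this]
    exact self_mem_centralizer x
  have hle4 := Nat.le_of_dvd (by norm_num) hdvd
  obtain ⟨d, hd⟩ : ∃ d, Nat.card ↥(center S) = d := ⟨_, rfl⟩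
  rw [hd] at h1 hdvd hne4 hle4 ⊢
  interval_cases d
  · rfl
  · omega
  · omega

/-- The centralizer of the image of `x` in `S ⧸ Z(S)` has order at most 4. -/
theorem card_centralizer_quotient_le {S : Type u} [Group S] [Finite S] (x : S)
    (hC : Nat.card ↥(centralizer ({x} : Set S)) = 4) (hZ : Nat.card ↥(center S) = 2) :
    Nat.card ↥(centralizer ({(QuotientGroup.mk' (center S)) x} : Set (S ⧸ center S))) ≤ 4 := by
  set π := QuotientGroup.mk' (center S) with hπ
  have hsurj : Function.Surjective π := QuotientGroup.mk'_surjective _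
  set Cb := centralizer ({π x} : Set (S ⧸ center S)) with hCb
  set D := Cb.comap π with hDdef
  have hD : ∀ g, g ∈ D → g * x * g⁻¹ * x⁻¹ ∈ center S := by
    intro g hg
    have h1 : π g ∈ Cb := hg
    rw [hCb, mem_centralizer_singleton_iff] at h1
    have h2 : π (g * x * g⁻¹ * x⁻¹) = 1 := by
      rw [map_mul, map_mul, map_mul, map_inv, map_inv, h1]; group
    exact (QuotientGroup.eq_one_iff _).mp h2
  let φ : ↥D →* ↥(center S) := MonoidHom.mk'
    (fun g => ⟨g.1 * x * g.1⁻¹ * x⁻¹, hD g.1 g.2⟩) (by
      intro g h
      apply Subtype.ext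
      show (g.1 * h.1) * x * (g.1 * h.1)⁻¹ * x⁻¹ =
        (g.1 * x * g.1⁻¹ * x⁻¹) * (h.1 * x * h.1⁻¹ * x⁻¹)
      have hw := hD h.1 h.2
      rw [mem_center_iff] at hw
      have h1 := hw g.1
      have h2 := hw (g.1 * x * g.1⁻¹ * x⁻¹)
      calc (g.1 * h.1) * x * (g.1 * h.1)⁻¹ * x⁻¹
          = (g.1 * (h.1 * x * h.1⁻¹ * x⁻¹)) * x * g.1⁻¹ * x⁻¹ := by group
        _ = ((h.1 * x * h.1⁻¹ * x⁻¹) * g.1) * x * g.1⁻¹ * x⁻¹ := by rw [h1]
        _ = (h.1 * x * h.1⁻¹ * x⁻¹) * (g.1 * x * g.1⁻¹ * x⁻¹) := by group
        _ = (g.1 * x * g.1⁻¹ * x⁻¹) * (h.1 * x * h.1⁻¹ * x⁻¹) := by rw [h2])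
  have hker : Nat.card ↥φ.ker ≤ 4 := by
    rw [← hC]
    have hmem : ∀ k : ↥φ.ker, k.1.1 ∈ centralizer ({x} : Set S) := by
      intro k
      have h1 : φ k.1 = 1 := k.2
      have h2 : k.1.1 * x * k.1.1⁻¹ * x⁻¹ = 1 := congrArg Subtype.val h1
      rw [mem_centralizer_singleton_iff]
      calc k.1.1 * x = (k.1.1 * x * k.1.1⁻¹ * x⁻¹) * x * k.1.1 := by group
        _ = x * k.1.1 := by rw [h2, one_mul]
    apply Nat.card_le_card_of_injective (fun k : ↥φ.ker => (⟨k.1.1, hmem k⟩ : ↥(centralizer ({x} : Set S))))
    intro k k' hkk
    apply Subtype.ext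
    apply Subtype.ext
    exact congrArg (fun t : ↥(centralizer ({x} : Set S)) => t.1) hkk
  have hrange : Nat.card ↥φ.range ≤ 2 := by
    rw [← hZ]; exact Subgroup.card_le_card_group _
  have hcardD : Nat.card ↥D = Nat.card ↥φ.ker * Nat.card ↥φ.range := by
    rw [← Subgroup.index_ker, Subgroup.card_mul_index]
  have hidx : D.index = Cb.index := Subgroup.index_comap_of_surjective Cb hsurj
  have h1 : Nat.card ↥D * D.index = Nat.card S := Subgroup.card_mul_index D
  have h2 : Nat.card ↥Cb * Cb.index = Nat.card (S ⧸ center S) := Subgroup.card_mul_index Cb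
  have h3 : Nat.card S = Nat.card (S ⧸ center S) * Nat.card ↥(center S) :=
    Subgroup.card_eq_card_quotient_mul_card_subgroup _
  have hidx0 : Cb.index ≠ 0 := Subgroup.index_ne_zero_of_finite
  rw [hZ, ← h2, ← h1, hidx] at h3
  have h4 : Nat.card ↥D = Nat.card ↥Cb * 2 := by
    have : Nat.card ↥D * Cb.index = (Nat.card ↥Cb * 2) * Cb.index := by rw [h3]; ring
    exact Nat.eq_of_mul_eq_mul_right (Nat.pos_of_ne_zero hidx0) this
  have h5 : Nat.card ↥D ≤ 4 * 2 := by
    rw [hcardD]; exact Nat.mul_le_mul hker hrange
  omega

/-- In a finite 2-group of order at least 4, centralizers of elements have order at least 4. -/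
theorem four_le_card_centralizer {Q : Type u} [Group Q] [Finite Q] (hQ : IsPGroup 2 Q)
    (h4 : 4 ≤ Nat.card Q) (y : Q) : 4 ≤ Nat.card ↥(centralizer ({y} : Set Q)) := by
  by_cases hy : y ∈ center Q
  · have : centralizer ({y} : Set Q) = ⊤ :=
      centralizer_eq_top_iff_subset.mpr (Set.singleton_subset_iff.mpr hy)
    rw [this, Subgroup.card_top]; exact h4
  · have hnt : Nontrivial Q := by
      rw [← Finite.one_lt_card_iff_nontrivial]; omega
    have : Fact (Nat.Prime 2) := ⟨Nat.prime_two⟩
    have hZnt : Nontrivial ↥(center Q) := hQ.center_nontrivial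
    have h1 : 1 < Nat.card ↥(center Q) := Finite.one_lt_card
    have hle : center Q ≤ centralizer ({y} : Set Q) := center_le_centralizer _
    obtain ⟨t, ht⟩ := Subgroup.card_dvd_of_le hle
    have hne : Nat.card ↥(center Q) ≠ Nat.card ↥(centralizer ({y} : Set Q)) := by
      intro h
      have : center Q = centralizer ({y} : Set Q) :=
        Subgroup.eq_of_le_of_card_ge hle (by rw [h])
      apply hy
      rw [this]
      exact self_mem_centralizer y
    have hpos : 0 < Nat.card ↥(centralizer ({y} : Set Q)) := Nat.card_pos
    rw [ht] at hne hpos ⊢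
    have ht0 : t ≠ 0 := by
      rintro rfl; simp at hpos
    have ht1 : t ≠ 1 := by
      rintro rfl; simp at hne
    have ht2 : 2 ≤ t := by omega
    calc 4 = 2 * 2 := rfl
      _ ≤ Nat.card ↥(center Q) * t := Nat.mul_le_mul h1 ht2

/-- A finite 2-group of order at least 8 with an involution `x` whose centralizer has order 4
has a cyclic subgroup of index 2 not containing `x`. -/
theorem exists_cyclic_index_two : ∀ (N : ℕ) (S : Type u) [Group S] [Finite S], Nat.card S = N →
    IsPGroup 2 S → ∀ x : S, orderOf x = 2 → Nat.card ↥(centralizer ({x} : Set S)) = 4 →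
      8 ≤ Nat.card S → ∃ c : S, (zpowers c).index = 2 ∧ x ∉ zpowers c := by
  intro N
  induction N using Nat.strong_induction_on with
  | _ N ih =>
    intro S _ _ hN hS x hx hC h8
    obtain ⟨hxZ, hZ2⟩ := center_facts hS x hC h8
    have hx2 : x ^ 2 = 1 := by rw [← hx]; exact pow_orderOf_eq_one x
    have hx1 : x ≠ 1 := by
      intro h; rw [h, orderOf_one] at hx; omega
    -- the generator z of the centre
    obtain ⟨z, hzZ, hz1, hzuniq⟩ : ∃ z : S, z ∈ center S ∧ z ≠ 1 ∧
        ∀ w ∈ center S, w = 1 ∨ w = z := by
      obtain ⟨z, hz, hzu⟩ := (Nat.card_eq_two_iff' (1 : ↥(center S))).mp hZ2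
      refine ⟨z.1, z.2, fun h => hz (Subtype.ext h), ?_⟩
      intro w hw
      by_cases hw1 : w = 1
      · left; exact hw1
      · right
        have := hzu ⟨w, hw⟩ (fun h => hw1 (congrArg Subtype.val h))
        exact congrArg Subtype.val this
    have hzz : z ^ 2 = 1 := by
      rcases hzuniq (z ^ 2) (pow_mem hzZ 2) with h | h
      · exact h
      · exfalso; apply hz1
        rw [pow_two] at h
        exact mul_eq_left.mp h
    have hzc : ∀ g : S, g * z = z * g := fun g => (mem_center_iff.mp hzZ g)
    have hcardS : Nat.card S = Nat.card (S ⧸ center S) * 2 := by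
      rw [← hZ2]; exact Subgroup.card_eq_card_quotient_mul_card_subgroup _
    obtain ⟨k, hk⟩ := IsPGroup.iff_card.mp hS
    by_cases h8' : Nat.card S = 8
    · -- base case: order 8
      have hex : ∃ c : S, orderOf c = 4 := by
        by_contra hcon
        push Not at hcon
        have hord : ∀ g : S, g * g = 1 := by
          intro g
          have h1 : orderOf g ∣ 8 := by rw [← h8']; exact orderOf_dvd_natCard g
          have h2 : orderOf g ≠ 8 := by
            intro h
            have hcyc : IsCyclic S := isCyclic_of_orderOf_eq_card g (by rw [h, h8'])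
            apply hxZ
            rw [mem_center_iff]
            intro y
            obtain ⟨g0, hg0⟩ := hcyc.exists_generator
            obtain ⟨a, rfl⟩ := mem_zpowers_iff.mp (hg0 x)
            obtain ⟨b, rfl⟩ := mem_zpowers_iff.mp (hg0 y)
            rw [← zpow_add, ← zpow_add, add_comm]
          have h3 := hcon g
          have h4 := Nat.le_of_dvd (by norm_num) h1
          have h5 : orderOf g = 1 ∨ orderOf g = 2 := by
            obtain ⟨d, hd⟩ : ∃ d, orderOf g = d := ⟨_, rfl⟩
            rw [hd] at h1 h2 h3 h4 ⊢
            interval_cases d <;> omega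
          rcases h5 with h5 | h5
          · rw [orderOf_eq_one_iff] at h5; rw [h5, one_mul]
          · rw [← pow_two, ← h5]; exact pow_orderOf_eq_one g
        apply hxZ
        rw [mem_center_iff]
        intro y
        have h1 := hord x
        have h2 := hord y
        have h3 := hord (y * x)
        calc y * x = y * x * ((x * x) * (y * y)) := by rw [h1, h2]; group
          _ = (y * x * (y * x)) * (x * y) := by
            have : y * x * (x * x * (y * y)) = y * (x * x) * x * y * y := by group
            rw [this, h1]
            have : y * x * (y * x) * (x * y) = y * x * y * (x * x) * y := by group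
            rw [this, h1]
            have : y * 1 * x * y * y = (y * x) * (y * y) := by group
            rw [this, h2]
            have : y * x * y * 1 * y = (y * x) * (y * y) := by group
            rw [this, h2]
          _ = x * y := by rw [h3, one_mul]
      obtain ⟨c, hc⟩ := hex
      have hcardc : Nat.card ↥(zpowers c) = 4 := by rw [Nat.card_zpowers, hc]
      refine ⟨c, ?_, ?_⟩
      · have := Subgroup.card_mul_index (zpowers c)
        rw [hcardc, h8'] at this
        omega
      · intro hxc
        have hxc2 : x = c ^ 2 := by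
          rcases eq_one_or_eq_pow_of_sq_eq_one (k := 2) hc hxc hx2 with h | h
          · exact absurd h hx1
          · exact h
        have hcC : c ∈ centralizer ({x} : Set S) := by
          rw [mem_centralizer_singleton_iff, hxc2, ← pow_succ, ← pow_succ']
        have heq : zpowers c = centralizer ({x} : Set S) :=
          Subgroup.eq_of_le_of_card_ge (zpowers_le.mpr hcC) (by rw [hC, hcardc])
        have hzc' : z ∈ zpowers c := by
          rw [heq]; exact center_le_centralizer _ hzZ
        apply hxZ
        rcases eq_one_or_eq_pow_of_sq_eq_one (k := 2) hc hzc' hzz with h | h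
        · exact absurd h hz1
        · rw [hxc2, ← h]; exact hzZ
    · -- inductive case
      have h16 : 16 ≤ Nat.card S := by
        rw [hk] at h8 h8' ⊢
        have hk4 : 4 ≤ k := by
          by_contra hlt
          push Not at hlt
          interval_cases k <;> omega
        calc 16 = 2 ^ 4 := by norm_num
          _ ≤ 2 ^ k := Nat.pow_le_pow_right (by norm_num) hk4
      set π := QuotientGroup.mk' (center S) with hπ
      have hsurj : Function.Surjective π := QuotientGroup.mk'_surjective _
      have hQ : IsPGroup 2 (S ⧸ center S) := hS.to_quotient _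
      have hxb : orderOf (π x) = 2 := by
        apply orderOf_eq_prime
        · rw [← map_pow, hx2, map_one]
        · intro h
          exact hxZ ((QuotientGroup.eq_one_iff x).mp h)
      have hCb : Nat.card ↥(centralizer ({π x} : Set (S ⧸ center S))) = 4 :=
        le_antisymm (card_centralizer_quotient_le x hC hZ2)
          (four_le_card_centralizer hQ (by omega) (π x))
      obtain ⟨cb, hcbi, hxcb⟩ := ih (Nat.card (S ⧸ center S)) (by omega) (S ⧸ center S) rfl hQ
        (π x) hxb hCb (by omega)
      obtain ⟨c, rfl⟩ := hsurj cb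
      set M := (zpowers (π c)).comap π with hM
      have hMi : M.index = 2 := by
        rw [hM, Subgroup.index_comap_of_surjective _ hsurj]; exact hcbi
      have hxM : x ∉ M := fun h => hxcb h
      have hMn : M.Normal := Subgroup.normal_of_index_eq_two hMi
      have hcM : c ∈ M := by
        show π c ∈ zpowers (π c)
        exact mem_zpowers _
      have hZM : center S ≤ M := by
        intro w hw
        show π w ∈ zpowers (π c)
        have : π w = 1 := (QuotientGroup.eq_one_iff w).mpr hw
        rw [this]; exact one_mem _
      have hMel : ∀ g ∈ M, ∃ i : ℤ, g = c ^ i ∨ g = c ^ i * z := by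
        intro g hg
        have h1 : π g ∈ zpowers (π c) := hg
        obtain ⟨i, hi⟩ := mem_zpowers_iff.mp h1
        refine ⟨i, ?_⟩
        have h2 : π ((c ^ i)⁻¹ * g) = 1 := by
          rw [map_mul, map_inv, map_zpow, hi, inv_mul_cancel]
        have h3 := (QuotientGroup.eq_one_iff _).mp h2
        rcases hzuniq _ h3 with h | h
        · left
          have : g = c ^ i * ((c ^ i)⁻¹ * g) := by group
          rw [this, h, mul_one]
        · right
          have : g = c ^ i * ((c ^ i)⁻¹ * g) := by group
          rw [this, h]
      by_cases hz : z ∈ zpowers c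
      · have heq : zpowers c = M := by
          apply le_antisymm (zpowers_le.mpr hcM)
          intro g hg
          obtain ⟨i, h | h⟩ := hMel g hg
          · rw [h]; exact zpow_mem (mem_zpowers c) i
          · rw [h]; exact mul_mem (zpow_mem (mem_zpowers c) i) hz
        refine ⟨c, ?_, ?_⟩
        · rw [heq]; exact hMi
        · rw [heq]; exact hxM
      · exfalso
        -- 4 divides the order of c
        have h4c : 4 ∣ orderOf c := by
          have h1 : orderOf (π c) ∣ orderOf c := orderOf_map_dvd π c
          have h2 : Nat.card ↥(zpowers (π c)) * 2 = Nat.card (S ⧸ center S) := by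
            rw [← hcbi]; exact Subgroup.card_mul_index _
          rw [Nat.card_zpowers] at h2
          obtain ⟨k', hk'⟩ := IsPGroup.iff_card.mp hQ
          have hk3 : 3 ≤ k' := by
            by_contra hlt
            push Not at hlt
            have : Nat.card (S ⧸ center S) ≤ 4 := by
              rw [hk']
              calc 2 ^ k' ≤ 2 ^ 2 := Nat.pow_le_pow_right (by norm_num) (by omega)
                _ = 4 := by norm_num
            omega
          obtain ⟨r, rfl⟩ : ∃ r, k' = r + 3 := ⟨k' - 3, by omega⟩
          have h3 : orderOf (π c) = 4 * 2 ^ r := by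
            have : (2 : ℕ) ^ (r + 3) = 4 * 2 ^ r * 2 := by ring
            rw [hk', this] at h2
            omega
          exact dvd_trans ⟨2 ^ r, h3⟩ h1
        obtain ⟨m', hm'⟩ := h4c
        have hm'0 : 0 < m' := by
          rcases Nat.eq_zero_or_pos m' with h | h
          · rw [h, mul_zero] at hm'
            have := orderOf_pos c
            omega
          · exact h
        set v := c ^ m' with hv
        set u := c ^ (2 * m') with hu
        have huv : u = v ^ 2 := by rw [hu, hv, ← pow_mul, mul_comm]
        have hu1 : u ≠ 1 := pow_ne_one_of_lt_orderOf (by omega) (by omega)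
        have hu2 : u ^ 2 = 1 := by
          rw [hu, ← pow_mul]
          have : 2 * m' * 2 = orderOf c := by omega
          rw [this]; exact pow_orderOf_eq_one c
        have huc : u ∈ zpowers c := pow_mem (mem_zpowers c) _
        have hvM : v ∈ M := pow_mem hcM _
        have hconjM : x * v * x⁻¹ ∈ M := hMn.conj_mem v hvM x
        have hconj_u : x * u * x⁻¹ ∈ zpowers c := by
          have h1 : x * u * x⁻¹ = (x * v * x⁻¹) ^ 2 := by rw [conj_pow, huv]
          rw [h1]
          obtain ⟨i, h | h⟩ := hMel _ hconjM
          · rw [h]; exact pow_mem (zpow_mem (mem_zpowers c) i) 2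
          · rw [h]
            have hcm : Commute (c ^ i) z := hzc (c ^ i)
            rw [hcm.mul_pow, hzz, mul_one]
            exact pow_mem (zpow_mem (mem_zpowers c) i) 2
        have hconj_u2 : (x * u * x⁻¹) ^ 2 = 1 := by
          rw [conj_pow, hu2]; group
        have hconj_u1 : x * u * x⁻¹ ≠ 1 := by
          intro h
          apply hu1
          calc u = x⁻¹ * (x * u * x⁻¹) * x := by group
            _ = 1 := by rw [h]; group
        have hfix : x * u * x⁻¹ = u := by
          have hc' : orderOf c = 2 * (2 * m') := by omega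
          rcases eq_one_or_eq_pow_of_sq_eq_one hc' hconj_u hconj_u2 with h | h
          · exact absurd h hconj_u1
          · exact h
        have huC : u ∈ centralizer ({x} : Set S) := by
          rw [mem_centralizer_singleton_iff]
          calc u * x = (x * u * x⁻¹) * x := by rw [hfix]
            _ = x * u := by group
        -- the subgroup C(x) ⊓ M
        have hK : center S = centralizer ({x} : Set S) ⊓ M := by
          apply Subgroup.eq_of_le_of_card_ge (le_inf (center_le_centralizer _) hZM)
          have hdvd : Nat.card ↥(centralizer ({x} : Set S) ⊓ M) ∣ 4 := by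
            rw [← hC]; exact Subgroup.card_dvd_of_le inf_le_left
          have hne : Nat.card ↥(centralizer ({x} : Set S) ⊓ M) ≠ 4 := by
            intro h
            have : centralizer ({x} : Set S) ⊓ M = centralizer ({x} : Set S) :=
              Subgroup.eq_of_le_of_card_ge inf_le_left (by rw [hC, h])
            apply hxM
            have hxin : x ∈ centralizer ({x} : Set S) ⊓ M := by
              rw [this]; exact self_mem_centralizer x
            exact hxin.2
          have hle4 := Nat.le_of_dvd (by norm_num) hdvd
          rw [hZ2]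
          obtain ⟨d, hd⟩ : ∃ d, Nat.card ↥(centralizer ({x} : Set S) ⊓ M) = d := ⟨_, rfl⟩
          rw [hd] at hdvd hne hle4 ⊢
          interval_cases d <;> omega
        have huZ : u ∈ center S := by
          rw [hK]; exact ⟨huC, pow_mem hcM _⟩
        rcases hzuniq u huZ with h | h
        · exact hu1 h
        · apply hz; rw [← h]; exact huc

/-- A finite 2-group containing an involution whose centralizer has order 4 is dihedral, quasi-dihedral (semidihedral), or of order 4. -/
theorem result {S : Type*} [Group S] [Finite S] (hS : IsPGroup 2 S)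
    (x : S) (hx : orderOf x = 2) (hC : Nat.card ↥(Subgroup.centralizer ({x} : Set S)) = 4) :
    (∃ n : ℕ, Nonempty (S ≃* DihedralGroup n)) ∨ Cfsg.IsQuasiDihedral S ∨ Nat.card S = 4 := by
  obtain ⟨k, hk⟩ := IsPGroup.iff_card.mp hS
  have h4 : 4 ∣ Nat.card S := by rw [← hC]; exact Subgroup.card_subgroup_dvd_card _
  by_cases h8 : 8 ≤ Nat.card S
  · obtain ⟨c, hci, hxc⟩ := exists_cyclic_index_two _ S rfl hS x hx hC h8
    have hk3 : 3 ≤ k := by
      by_contra hlt
      push Not at hlt
      have : Nat.card S ≤ 4 := by
        rw [hk]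
        calc 2 ^ k ≤ 2 ^ 2 := Nat.pow_le_pow_right (by norm_num) (by omega)
          _ = 4 := by norm_num
      omega
    obtain ⟨n, rfl⟩ : ∃ n, k = n + 3 := ⟨k - 3, by omega⟩
    have hc : orderOf c = 2 ^ (n + 2) := by
      have h1 := Subgroup.card_mul_index (zpowers c)
      rw [hci, Nat.card_zpowers, hk] at h1
      have : (2 : ℕ) ^ (n + 3) = 2 ^ (n + 2) * 2 := by ring
      omega
    have hnormal : (zpowers c).Normal := Subgroup.normal_of_index_eq_two hci
    have hconj : x * c * x⁻¹ ∈ zpowers c := hnormal.conj_mem c (mem_zpowers c) x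
    have hx2 : x ^ 2 = 1 := by rw [← hx]; exact pow_orderOf_eq_one x
    have hcomm : x ^ 2 * c = c * x ^ 2 := by rw [hx2, one_mul, mul_one]
    have hxC : x ∈ centralizer ({x} : Set S) := self_mem_centralizer x
    have hpow4 : 4 ≤ 2 ^ (n + 2) := by
      calc 4 = 2 ^ 2 := by norm_num
        _ ≤ 2 ^ (n + 2) := Nat.pow_le_pow_right (by norm_num) (by omega)
    -- the case where x centralizes c is impossible
    have hcase1 : x * c * x⁻¹ = c → False := by
      intro h
      have hcC : c ∈ centralizer ({x} : Set S) := by
        rw [mem_centralizer_singleton_iff]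
        calc c * x = (x * c * x⁻¹) * x := by rw [h]
          _ = x * c := by group
      have hle : zpowers c ≤ centralizer ({x} : Set S) := zpowers_le.mpr hcC
      have heq : zpowers c = centralizer ({x} : Set S) :=
        Subgroup.eq_of_le_of_card_ge hle (by rw [hC, Nat.card_zpowers, hc]; exact hpow4)
      apply hxc; rw [heq]; exact hxC
    rcases conj_cyclic_two_pow (n + 1) c x hc hconj hcomm with h | h | h | h
    · exact (hcase1 h).elim
    · by_cases hn : n = 0
      · subst hn
        left
        refine ⟨4, dihedral_equiv_of_rel 4 c x hc (by rw [hk]; norm_num) hxc hx2 ?_⟩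
        rw [h]
        have h1 : c ^ 4 = 1 := by
          have := pow_orderOf_eq_one c
          rw [hc] at this; exact this
        have : c ^ (1 + 2 ^ (0 + 1)) * c = 1 := by
          rw [← pow_succ]; exact h1
        exact eq_inv_of_mul_eq_one_left this
      · exfalso
        have hcc : c ^ (2 ^ (n + 2)) = 1 := by
          rw [← hc]; exact pow_orderOf_eq_one c
        have h1 : x * c ^ 2 * x⁻¹ = c ^ 2 := by
          rw [← conj_pow, h, ← pow_mul]
          have : (1 + 2 ^ (n + 1)) * 2 = 2 + 2 ^ (n + 2) := by ring
          rw [this, pow_add, hcc, mul_one]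
        have hcC : c ^ 2 ∈ centralizer ({x} : Set S) := by
          rw [mem_centralizer_singleton_iff]
          calc c ^ 2 * x = (x * c ^ 2 * x⁻¹) * x := by rw [h1]
            _ = x * c ^ 2 := by group
        have hle : zpowers (c ^ 2) ≤ centralizer ({x} : Set S) := zpowers_le.mpr hcC
        have hord : orderOf (c ^ 2) = 2 ^ (n + 1) := by
          rw [orderOf_pow_of_dvd (by norm_num) (by rw [hc]; exact ⟨2 ^ (n + 1), by ring⟩), hc]
          have : (2 : ℕ) ^ (n + 2) = 2 ^ (n + 1) * 2 := by ring
          rw [this, Nat.mul_div_cancel _ (by norm_num)]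
        have hpow4' : 4 ≤ 2 ^ (n + 1) := by
          calc 4 = 2 ^ 2 := by norm_num
            _ ≤ 2 ^ (n + 1) := Nat.pow_le_pow_right (by norm_num) (by omega)
        have heq : zpowers (c ^ 2) = centralizer ({x} : Set S) :=
          Subgroup.eq_of_le_of_card_ge hle (by rw [hC, Nat.card_zpowers, hord]; exact hpow4')
        apply hxc
        have : x ∈ zpowers (c ^ 2) := by rw [heq]; exact hxC
        exact (zpowers_le.mpr (pow_mem (mem_zpowers c) 2)) this
    · left
      exact ⟨2 ^ (n + 2), dihedral_equiv_of_rel (2 ^ (n + 2)) c x hc (by rw [hk]; ring) hxc hx2 h⟩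
    · by_cases hn : n = 0
      · subst hn
        exfalso
        apply hcase1
        rw [h]; norm_num
      · right; left
        refine ⟨n + 2, by omega, by rw [hk], c, x, hc, hx, ?_⟩
        rw [h]
        rfl
  · right; right
    rw [hk] at h4 h8 ⊢
    have hk2 : 2 ≤ k := by
      by_contra hlt
      push Not at hlt
      interval_cases k <;> omega
    have hk3 : k < 3 := by
      by_contra hge
      push Not at hge
      apply h8
      calc 8 = 2 ^ 3 := by norm_num
        _ ≤ 2 ^ k := Nat.pow_le_pow_right (by norm_num) hge
    have : k = 2 := by omega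
    rw [this]; norm_num

end Cfsg.Agent.S3224
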