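import Cfsg.Statements.S2222
import Mathlib
-- import your own Cfsg.Agent.* helpers here

set_option autoImplicit false
open Cfsg

namespace Cfsg.Agent.S2222

section helpers

open Equiv
open scoped Pointwise

/-! ### swaps -/

lemma swap_of_isSwap {Ω : Type} [DecidableEq Ω] {t : Perm Ω} (ht : t.IsSwap) {a : Ω} (ha : t a ≠ a) :
    t = swap a (t a) := by
  obtain ⟨x, y, hxy, rfl⟩ := ht
  by_cases hax : a = x
  · subst hax; rw [swap_apply_left]
  · by_cases hay : a = y
    · subst hay; rw [swap_apply_right, swap_comm]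
    · exact absurd (swap_apply_of_ne_of_ne hax hay) ha

lemma conj_swap_fix {Ω : Type} [DecidableEq Ω] {g : Perm Ω} {a b : Ω} (hab : a ≠ b)
    (h : g * swap a b * g⁻¹ = swap a b) : (g a = a ∧ g b = b) ∨ (g a = b ∧ g b = a) := by
  have h1 : swap a b (g a) = g b := by
    have h0 : (g * swap a b * g⁻¹) (g a) = g b := by simp
    rw [h] at h0
    exact h0
  by_cases h2 : g a = a
  · left; refine ⟨h2, ?_⟩; rw [h2, swap_apply_left] at h1; exact h1.symm
  · by_cases h3 : g a = b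
    · right; refine ⟨h3, ?_⟩; rw [h3, swap_apply_right] at h1; exact h1.symm
    · rw [swap_apply_of_ne_of_ne h2 h3] at h1
      exact absurd (g.injective h1) hab

lemma isSwap_conj {Ω : Type} [DecidableEq Ω] {t : Perm Ω} (ht : t.IsSwap) (g : Perm Ω) :
    (g * t * g⁻¹).IsSwap := by
  obtain ⟨x, y, hxy, rfl⟩ := ht
  exact ⟨g x, g y, fun h => hxy (g.injective h), (swap_apply_apply g x y).symm⟩

/-- two swaps in a 2-group moving a common point are equal -/
lemma swap_disj {Ω : Type} [Fintype Ω] [DecidableEq Ω] (P : Subgroup (Perm Ω)) (hP : IsPGroup 2 P)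
    {t s : Perm Ω} (ht : t ∈ P) (hs : s ∈ P) (hts : t.IsSwap) (hss : s.IsSwap) {a : Ω}
    (hta : t a ≠ a) (hsa : s a ≠ a) : t = s := by
  have e1 := swap_of_isSwap hts hta
  have e2 := swap_of_isSwap hss hsa
  by_contra hne
  have hbc : t a ≠ s a := by
    intro h; apply hne; rw [e1, e2, h]
  have h3 : (swap a (t a) * swap a (s a)).IsThreeCycle :=
    Perm.isThreeCycle_swap_mul_swap_same (Ne.symm hta) (Ne.symm hsa) hbc
  rw [← e1, ← e2] at h3
  have ho := h3.orderOf
  obtain ⟨k, hk⟩ := hP ⟨t * s, P.mul_mem ht hs⟩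
  have hk' : (t * s) ^ 2 ^ k = 1 := by
    have := congrArg (fun z : P => (z : Perm Ω)) hk
    simpa using this
  have hd := orderOf_dvd_of_pow_eq_one hk'
  rw [ho] at hd
  have := (Nat.Prime.dvd_of_dvd_pow Nat.prime_three hd)
  omega

/-! ### pairings -/

structure Pairing {Ω : Type} [Fintype Ω] [DecidableEq Ω] (T : Finset (Perm Ω)) : Prop where
  sw : ∀ t ∈ T, t.IsSwap
  disj : ∀ t ∈ T, ∀ s ∈ T, ∀ a, t a ≠ a → s a ≠ a → t = s
  cover : ∀ a b, (∀ t ∈ T, t a = a) → (∀ t ∈ T, t b = b) → a = b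

lemma Pairing.card {Ω : Type} [Fintype Ω] [DecidableEq Ω] {T : Finset (Perm Ω)} (hT : Pairing T) :
    T.card = Fintype.card Ω / 2 := by
  classical
  set U : Finset Ω := T.biUnion (fun t => t.support) with hU
  have h1 : U.card = ∑ t ∈ T, t.support.card := by
    apply Finset.card_biUnion
    intro t ht s hs hts
    rw [Function.onFun, Finset.disjoint_left]
    intro a hat has
    exact hts (hT.disj t ht s hs a (Perm.mem_support.1 hat) (Perm.mem_support.1 has))
  have h2 : ∑ t ∈ T, t.support.card = ∑ t ∈ T, 2 :=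
    Finset.sum_congr rfl (fun t ht => Perm.card_support_eq_two.2 (hT.sw t ht))
  rw [h2, Finset.sum_const, smul_eq_mul] at h1
  have h3 : Uᶜ.card ≤ 1 := by
    rw [Finset.card_le_one]
    intro a ha b hb
    apply hT.cover a b
    · intro t ht
      by_contra h
      exact (Finset.mem_compl.1 ha) (Finset.mem_biUnion.2 ⟨t, ht, Perm.mem_support.2 h⟩)
    · intro t ht
      by_contra h
      exact (Finset.mem_compl.1 hb) (Finset.mem_biUnion.2 ⟨t, ht, Perm.mem_support.2 h⟩)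
  have h4 := Finset.card_add_card_compl U
  omega

def stabT {Ω : Type} [Fintype Ω] [DecidableEq Ω] (T : Finset (Perm Ω)) : Subgroup (Perm Ω) where
  carrier := {g | ∀ t ∈ T, g * t * g⁻¹ ∈ T ∧ g⁻¹ * t * g ∈ T}
  one_mem' := by intro t ht; simpa using ht
  mul_mem' := by
    intro g h hg hh t ht
    refine ⟨?_, ?_⟩
    · have := (hg _ (hh t ht).1).1
      simpa [mul_assoc] using this
    · have := (hh _ (hg t ht).2).2
      simpa [mul_assoc] using this
  inv_mem' := by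
    intro g hg t ht
    exact ⟨by simpa using (hg t ht).2, by simpa using (hg t ht).1⟩

lemma mem_stabT {Ω : Type} [Fintype Ω] [DecidableEq Ω] {T : Finset (Perm Ω)} {g : Perm Ω} :
    g ∈ stabT T ↔ ∀ t ∈ T, g * t * g⁻¹ ∈ T ∧ g⁻¹ * t * g ∈ T := Iff.rfl

def actT {Ω : Type} [Fintype Ω] [DecidableEq Ω] (T : Finset (Perm Ω)) : MulAction (stabT T) {t // t ∈ T} where
  smul g t := ⟨(g : Perm Ω) * t * (g : Perm Ω)⁻¹, (g.2 t t.2).1⟩
  one_smul := by
    intro t
    apply Subtype.ext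
    show ((1 : stabT T) : Perm Ω) * t * ((1 : stabT T) : Perm Ω)⁻¹ = t
    simp
  mul_smul := by
    intro g h t
    apply Subtype.ext
    show ((g * h : stabT T) : Perm Ω) * t * ((g * h : stabT T) : Perm Ω)⁻¹ =
      (g : Perm Ω) * ((h : Perm Ω) * t * (h : Perm Ω)⁻¹) * (g : Perm Ω)⁻¹
    simp [mul_assoc]

def phiT {Ω : Type} [Fintype Ω] [DecidableEq Ω] (T : Finset (Perm Ω)) : stabT T →* Perm {t // t ∈ T} :=
  @MulAction.toPermHom (stabT T) {t // t ∈ T} _ (actT T)

lemma phiT_apply {Ω : Type} [Fintype Ω] [DecidableEq Ω] (T : Finset (Perm Ω)) (g : stabT T) (t : {t // t ∈ T}) :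
    ((phiT T g t : {t // t ∈ T}) : Perm Ω) = (g : Perm Ω) * t * (g : Perm Ω)⁻¹ := rfl

lemma ker_val {Ω : Type} [Fintype Ω] [DecidableEq Ω] {T : Finset (Perm Ω)} (hT : Pairing T) {g : Perm Ω}
    (hg : ∀ t ∈ T, g * t * g⁻¹ = t) {t : Perm Ω} (ht : t ∈ T) {a : Ω} (hta : t a ≠ a) :
    (g a = a ∧ g (t a) = t a) ∨ (g a = t a ∧ g (t a) = a) := by
  have e1 := swap_of_isSwap (hT.sw t ht) hta
  have h1 := hg t ht
  rw [e1] at h1
  exact conj_swap_fix (Ne.symm hta) h1

lemma ker_fix {Ω : Type} [Fintype Ω] [DecidableEq Ω] {T : Finset (Perm Ω)} (hT : Pairing T) {g : Perm Ω}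
    (hg : ∀ t ∈ T, g * t * g⁻¹ = t) {a : Ω} (hc : ∀ t ∈ T, t a = a) : g a = a := by
  apply hT.cover (g a) a _ hc
  intro t ht
  have h1 := hg t ht
  have h2 : g * t = t * g := by
    have : g * t * g⁻¹ * g = t * g := by rw [h1]
    simpa [mul_assoc] using this
  have := congrArg (fun p : Perm Ω => p a) h2
  simp only [Perm.mul_apply] at this
  rw [← this, hc t ht]

/-- elements centralizing every member of the pairing are involutions -/
lemma ker_sq {Ω : Type} [Fintype Ω] [DecidableEq Ω] {T : Finset (Perm Ω)} (hT : Pairing T) {g : Perm Ω}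
    (hg : ∀ t ∈ T, g * t * g⁻¹ = t) (a : Ω) : g (g a) = a := by
  by_cases hc : ∀ t ∈ T, t a = a
  · have : g a = a := ker_fix hT hg hc
    rw [this, this]
  · push Not at hc
    obtain ⟨t, ht, hta⟩ := hc
    rcases ker_val hT hg ht hta with ⟨h2, h3⟩ | ⟨h2, h3⟩
    · rw [h2, h2]
    · rw [h2, h3]

lemma ker_card {Ω : Type} [Fintype Ω] [DecidableEq Ω] {T : Finset (Perm Ω)} (hT : Pairing T) :
    (Finset.univ.filter (fun g : Perm Ω => ∀ t ∈ T, g * t * g⁻¹ = t)).card ≤ 2 ^ T.card := by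
  classical
  rw [← Finset.card_powerset]
  apply Finset.card_le_card_of_injOn (fun g => T.filter (fun t => ∃ a, t a ≠ a ∧ g a ≠ a))
  · intro g _
    simp only [Finset.coe_powerset, Set.mem_preimage, Set.mem_powerset_iff, Finset.coe_subset]
    exact Finset.filter_subset _ _
  · intro g hg g' hg' hS
    simp only [Finset.coe_filter, Finset.mem_univ, true_and, Set.mem_setOf_eq] at hg hg'
    simp only at hS
    -- key: if g moves a covered point then so does g'
    have key : ∀ (g g' : Perm Ω), (∀ t ∈ T, g * t * g⁻¹ = t) → (∀ t ∈ T, g' * t * g'⁻¹ = t) →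
        (T.filter (fun t => ∃ a, t a ≠ a ∧ g a ≠ a)) = (T.filter (fun t => ∃ a, t a ≠ a ∧ g' a ≠ a)) →
        ∀ a, g a ≠ a → g' a = g a := by
      intro g g' hg hg' hS a hga
      have hc : ¬ ∀ t ∈ T, t a = a := fun hc => hga (ker_fix hT hg hc)
      push Not at hc
      obtain ⟨t, ht, hta⟩ := hc
      have hmem : t ∈ T.filter (fun t => ∃ a, t a ≠ a ∧ g a ≠ a) :=
        Finset.mem_filter.2 ⟨ht, a, hta, hga⟩
      rw [hS] at hmem
      obtain ⟨_, a', hta', hga'⟩ := Finset.mem_filter.1 hmem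
      have e1 := swap_of_isSwap (hT.sw t ht) hta
      -- a' is a or t a
      have ha' : a' = a ∨ a' = t a := by
        by_contra hcon
        push Not at hcon
        apply hta'
        rw [e1]
        exact swap_apply_of_ne_of_ne hcon.1 hcon.2
      have hv := ker_val hT hg ht hta
      have hv' := ker_val hT hg' ht hta
      rcases hv with ⟨h2, _⟩ | ⟨h2, _⟩
      · exact absurd h2 hga
      · rw [h2]
        rcases hv' with ⟨h4, h5⟩ | ⟨h4, _⟩
        · rcases ha' with rfl | rfl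
          · exact absurd h4 hga'
          · exact absurd h5 hga'
        · exact h4
    ext a
    by_cases h1 : g a = a
    · by_cases h2 : g' a = a
      · rw [h1, h2]
      · have := key g' g hg' hg hS.symm a h2
        rw [this]
    · exact (key g g' hg hg' hS a h1).symm

/-! ### the Sylow image -/

lemma legendre2 (n : ℕ) : n.factorial.factorization 2 = n / 2 + (n / 2).factorial.factorization 2 := by
  haveI : Fact (Nat.Prime 2) := ⟨Nat.prime_two⟩
  rw [Nat.factorization_def _ Nat.prime_two, Nat.factorization_def _ Nat.prime_two]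
  have h1 := padicValNat_factorial_mul (p := 2) (n / 2)
  have h2 : 2 * (n / 2) + n % 2 = n := Nat.div_add_mod n 2
  have h3 := padicValNat_factorial_mul_add (p := 2) (n := n % 2) (n / 2) (Nat.mod_lt _ (by norm_num))
  rw [h2] at h3
  rw [h3, h1]; ring

lemma image_sylow {Ω : Type} [Fintype Ω] [DecidableEq Ω] {T : Finset (Perm Ω)} (hT : Pairing T)
    (Q : Subgroup (Perm Ω)) (hQ : Q ≤ stabT T) (hQ2 : IsPGroup 2 Q)
    (hcard : Nat.card Q = 2 ^ ((Fintype.card Ω).factorial.factorization 2)) :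
    IsPGroup 2 ((phiT T).comp (Subgroup.inclusion hQ)).range ∧
    Nat.card ((phiT T).comp (Subgroup.inclusion hQ)).range = 2 ^ ((T.card).factorial.factorization 2) := by
  classical
  obtain ⟨ψ, hψ⟩ : ∃ ψ, ψ = (phiT T).comp (Subgroup.inclusion hQ) := ⟨_, rfl⟩
  rw [← hψ]
  have hp : IsPGroup 2 ψ.range := hQ2.of_surjective ψ.rangeRestrict ψ.rangeRestrict_surjective
  refine ⟨hp, ?_⟩
  haveI : Fact (Nat.Prime 2) := ⟨Nat.prime_two⟩
  obtain ⟨j, hj⟩ := IsPGroup.iff_card.1 hp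
  have h1 : Nat.card ψ.ker * Nat.card ψ.range = Nat.card Q := by
    rw [← Subgroup.index_ker]; exact Subgroup.card_mul_index _
  have hkerq : ∀ q : Q, ψ q = 1 → ∀ t ∈ T, (q : Perm Ω) * t * (q : Perm Ω)⁻¹ = t := by
    intro q hq t ht
    rw [hψ] at hq
    have := congrArg (fun σ : Perm {t // t ∈ T} => ((σ ⟨t, ht⟩ : {t // t ∈ T}) : Perm Ω)) hq
    simpa [phiT_apply] using this
  have h2 : Nat.card ψ.ker ≤ 2 ^ T.card := by
    refine le_trans ?_ (ker_card hT)
    have hinj : Function.Injective (fun k : ψ.ker =>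
        (⟨((k : Q) : Perm Ω), hkerq (k : Q) k.2⟩ : {g : Perm Ω // ∀ t ∈ T, g * t * g⁻¹ = t})) := by
      intro k k' h
      have := congrArg Subtype.val h
      exact Subtype.ext (Subtype.ext this)
    have := Nat.card_le_card_of_injective _ hinj
    have hc2 : Nat.card {g : Perm Ω // ∀ t ∈ T, g * t * g⁻¹ = t} =
        (Finset.univ.filter (fun g : Perm Ω => ∀ t ∈ T, g * t * g⁻¹ = t)).card := by
      rw [Nat.card_eq_fintype_card, Fintype.card_subtype]
    rw [hc2] at this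
    exact this
  have h3 : Nat.card ψ.range ∣ T.card.factorial := by
    have := Subgroup.card_subgroup_dvd_card ψ.range
    rw [Nat.card_perm, Nat.card_eq_fintype_card (α := {t // t ∈ T}), Fintype.card_coe] at this
    exact this
  rw [hj] at h3
  have h4 : j ≤ T.card.factorial.factorization 2 :=
    (Nat.Prime.pow_dvd_iff_le_factorization Nat.prime_two (Nat.factorial_ne_zero _)).1 h3
  have h5 : (Fintype.card Ω).factorial.factorization 2 ≤ T.card + j := by
    rw [hcard, hj] at h1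
    have : 2 ^ ((Fintype.card Ω).factorial.factorization 2) ≤ 2 ^ (T.card + j) := by
      rw [← h1, pow_add]
      exact Nat.mul_le_mul_right _ h2
    exact (Nat.pow_le_pow_iff_right (by norm_num)).1 this
  have h6 := legendre2 (Fintype.card Ω)
  rw [← hT.card] at h6
  rw [hj]
  congr 1
  omega

/-! ### a standard elementary abelian subgroup -/

lemma exists_pairing_perm (Ω : Type) [Fintype Ω] [DecidableEq Ω] :
    ∃ σ : Perm Ω, (∀ a, σ (σ a) = a) ∧ ∀ a b, σ a = a → σ b = b → a = b := by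
  classical
  obtain ⟨n, hn⟩ : ∃ n, n = Fintype.card Ω := ⟨_, rfl⟩
  have e : Ω ≃ Fin n := by rw [hn]; exact Fintype.equivFin Ω
  let f : ℕ → ℕ := fun i => if i % 2 = 0 then i + 1 else i - 1
  have hf : ∀ i, f (f i) = i := by
    intro i; simp only [f]; split_ifs <;> omega
  have hf' : ∀ i, f i ≠ i := by
    intro i; simp only [f]; split_ifs <;> omega
  let s : Fin n → Fin n := fun i => if h : f i < n then ⟨f i, h⟩ else i
  have hs : Function.Involutive s := by
    intro i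
    by_cases h : f i < n
    · have h1 : s i = ⟨f i, h⟩ := dif_pos h
      have h2 : f (f i) < n := by rw [hf]; exact i.2
      rw [h1]
      have h3 : s ⟨f i, h⟩ = ⟨f (f i), h2⟩ := dif_pos h2
      rw [h3]; ext; simp [hf]
    · have h1 : s i = i := dif_neg h
      rw [h1, h1]
  have hnf : ∀ i : Fin n, s i = i → ¬ f i < n := by
    intro i hi h
    have h1 : s i = ⟨f i, h⟩ := dif_pos h
    rw [h1] at hi
    exact hf' i (congrArg Fin.val hi)
  have hfix : ∀ i j : Fin n, s i = i → s j = j → i = j := by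
    intro i j hi hj
    have hi' := hnf i hi
    have hj' := hnf j hj
    ext
    simp only [f] at hi' hj'
    have := i.2; have := j.2
    split_ifs at hi' hj' <;> omega
  refine ⟨e.trans ((hs.toPerm s).trans e.symm), ?_, ?_⟩
  · intro a
    simp only [Equiv.trans_apply, Function.Involutive.coe_toPerm, Equiv.apply_symm_apply]
    rw [hs (e a), Equiv.symm_apply_apply]
  · intro a b ha hb
    simp only [Equiv.trans_apply, Function.Involutive.coe_toPerm] at ha hb
    have ha' : s (e a) = e a := by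
      have := congrArg e ha
      simpa using this
    have hb' : s (e b) = e b := by
      have := congrArg e hb
      simpa using this
    exact e.injective (hfix _ _ ha' hb')

def pairGroup {Ω : Type} [DecidableEq Ω] (σ : Perm Ω) (hσ : ∀ a, σ (σ a) = a) : Subgroup (Perm Ω) where
  carrier := {g | ∀ a, g a = a ∨ g a = σ a}
  one_mem' := fun a => Or.inl rfl
  mul_mem' := by
    intro g h hg hh a
    rw [Perm.mul_apply]
    rcases hh a with h1 | h1
    · rw [h1]; exact hg a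
    · rw [h1]; rcases hg (σ a) with h2 | h2
      · right; exact h2
      · left; rw [h2, hσ]
  inv_mem' := by
    intro g hg a
    have hga : g (g⁻¹ a) = a := by simp
    rcases hg (g⁻¹ a) with h1 | h1
    · left; rw [hga] at h1; exact h1.symm
    · right; rw [hga] at h1
      exact ((congrArg σ h1).trans (hσ _)).symm

lemma pairGroup_two {Ω : Type} [DecidableEq Ω] (σ : Perm Ω) (hσ : ∀ a, σ (σ a) = a) :
    IsPGroup 2 (pairGroup σ hσ) := by
  intro g
  refine ⟨1, ?_⟩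
  apply Subtype.ext
  ext a
  simp only [pow_one, sq, Subgroup.coe_mul, Perm.mul_apply, Subgroup.coe_one, Perm.one_apply]
  rcases g.2 a with h1 | h1
  · rw [h1, h1]
  · rw [h1]; rcases g.2 (σ a) with h2 | h2
    · have : σ a = a := g.1.injective (by rw [h2, h1])
      rw [h2, this]
    · rw [h2, hσ]

lemma swap_mem_pairGroup {Ω : Type} [DecidableEq Ω] (σ : Perm Ω) (hσ : ∀ a, σ (σ a) = a) (a : Ω) :
    swap a (σ a) ∈ pairGroup σ hσ := by
  intro c
  by_cases h1 : c = a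
  · right; rw [h1, swap_apply_left]
  · by_cases h2 : c = σ a
    · right; rw [h2, swap_apply_right, hσ]
    · left; exact swap_apply_of_ne_of_ne h1 h2

lemma sylow_cover {Ω : Type} [Fintype Ω] [DecidableEq Ω] (P : Subgroup (Perm Ω))
    (hcard : Nat.card P = 2 ^ ((Fintype.card Ω).factorial.factorization 2)) (a b : Ω)
    (ha : ∀ t ∈ P, t.IsSwap → t a = a) (hb : ∀ t ∈ P, t.IsSwap → t b = b) : a = b := by
  haveI : Fact (Nat.Prime 2) := ⟨Nat.prime_two⟩
  obtain ⟨σ, hσ, hfix⟩ := exists_pairing_perm Ω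
  obtain ⟨Q, hQ⟩ := (pairGroup_two σ hσ).exists_le_sylow
  have hc : Nat.card P = 2 ^ (Nat.card (Perm Ω)).factorization 2 := by
    rw [hcard, Nat.card_perm, Nat.card_eq_fintype_card]
  obtain ⟨g, hg⟩ := MulAction.exists_smul_eq (Perm Ω) Q (Sylow.ofCard P hc)
  have h3 : (MulAut.conj g • (Q : Subgroup (Perm Ω))) = P := by
    have := congrArg (fun S : Sylow 2 (Perm Ω) => (S : Subgroup (Perm Ω))) hg
    exact this
  have hmem : ∀ e ∈ pairGroup σ hσ, g * e * g⁻¹ ∈ P := by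
    intro e he
    have h1 : e ∈ (Q : Subgroup (Perm Ω)) := hQ he
    have h2 := Subgroup.smul_mem_pointwise_smul e (MulAut.conj g) (Q : Subgroup (Perm Ω)) h1
    rw [h3] at h2
    simpa [MulAut.smul_def, MulAut.conj_apply] using h2
  have key : ∀ c, σ c ≠ c → ∃ t ∈ P, t.IsSwap ∧ t (g c) ≠ g c := by
    intro c hc
    refine ⟨g * swap c (σ c) * g⁻¹, hmem _ (swap_mem_pairGroup σ hσ c),
      isSwap_conj ⟨c, σ c, Ne.symm hc, rfl⟩ g, ?_⟩
    have : (g * swap c (σ c) * g⁻¹) (g c) = g (σ c) := by simp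
    rw [this]
    intro h; exact hc (g.injective h)
  by_contra hab
  have h1 : σ (g⁻¹ a) = g⁻¹ a := by
    by_contra h
    obtain ⟨t, ht, hts, hta⟩ := key _ h
    have hga : g (g⁻¹ a) = a := by simp
    rw [hga] at hta
    exact hta (ha t ht hts)
  have h2 : σ (g⁻¹ b) = g⁻¹ b := by
    by_contra h
    obtain ⟨t, ht, hts, htb⟩ := key _ h
    have hgb : g (g⁻¹ b) = b := by simp
    rw [hgb] at htb
    exact htb (hb t ht hts)
  exact hab (g⁻¹.injective (hfix _ _ h1 h2))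

/-! ### Sylow 2-subgroups of symmetric groups are self-normalizing -/

lemma norm_pow {G : Type*} [Group G] (P : Subgroup G) (x : G) (hx : ∀ q ∈ P, x * q * x⁻¹ ∈ P) :
    ∀ (k : ℕ), ∀ q ∈ P, x ^ k * q * (x ^ k)⁻¹ ∈ P := by
  intro k
  induction k with
  | zero => intro q hq; simpa using hq
  | succ k ih =>
    intro q hq
    have := hx _ (ih q hq)
    have e : x ^ (k + 1) * q * (x ^ (k + 1))⁻¹ = x * (x ^ k * q * (x ^ k)⁻¹) * x⁻¹ := by
      rw [pow_succ']; simp [mul_assoc]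
    rw [e]; exact this

lemma norm_inv {G : Type*} [Group G] [Finite G] (P : Subgroup G) (x : G) (hx : ∀ q ∈ P, x * q * x⁻¹ ∈ P) :
    ∀ q ∈ P, x⁻¹ * q * x ∈ P := by
  intro q hq
  have h1 : x ^ (orderOf x - 1) = x⁻¹ := by
    have hpos := orderOf_pos x
    have : x ^ (orderOf x - 1) * x = 1 := by
      rw [← pow_succ, Nat.sub_add_cancel hpos, pow_orderOf_eq_one]
    exact eq_inv_of_mul_eq_one_left this
  have := norm_pow P x hx (orderOf x - 1) q hq
  rw [h1] at this
  simpa using this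

lemma odd_sq_one {G : Type*} [Group G] {x : G} (hsq : x ^ 2 = 1) (hodd : Odd (orderOf x)) : x = 1 := by
  have hd := orderOf_dvd_of_pow_eq_one hsq
  have : orderOf x = 1 := by
    rcases (Nat.dvd_prime Nat.prime_two).1 hd with h | h
    · exact h
    · rw [h] at hodd; exact absurd hodd (by decide)
  exact orderOf_eq_one_iff.1 this

lemma exists_swap_pairing {Ω : Type} [Fintype Ω] [DecidableEq Ω] (P : Subgroup (Perm Ω))
    (hP2 : IsPGroup 2 P) (hcard : Nat.card P = 2 ^ ((Fintype.card Ω).factorial.factorization 2)) :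
    ∃ T : Finset (Perm Ω), (∀ t, t ∈ T ↔ t ∈ P ∧ t.IsSwap) ∧ Pairing T ∧ P ≤ stabT T := by
  classical
  obtain ⟨T, hmemT⟩ : ∃ T : Finset (Perm Ω), ∀ t, t ∈ T ↔ t ∈ P ∧ t.IsSwap :=
    ⟨Finset.univ.filter (fun t => t ∈ P ∧ t.IsSwap), by intro t; simp⟩
  refine ⟨T, hmemT, ?_, ?_⟩
  · refine ⟨fun t ht => ((hmemT t).1 ht).2, ?_, ?_⟩
    · intro t ht s hs a hta hsa
      exact swap_disj P hP2 ((hmemT t).1 ht).1 ((hmemT s).1 hs).1 ((hmemT t).1 ht).2
        ((hmemT s).1 hs).2 hta hsa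
    · intro a b ha hb
      exact sylow_cover P hcard a b (fun t ht hts => ha t ((hmemT t).2 ⟨ht, hts⟩))
        (fun t ht hts => hb t ((hmemT t).2 ⟨ht, hts⟩))
  · intro p hp t ht
    obtain ⟨h1, h2⟩ := (hmemT t).1 ht
    refine ⟨(hmemT _).2 ⟨P.mul_mem (P.mul_mem hp h1) (P.inv_mem hp), isSwap_conj h2 p⟩,
      (hmemT _).2 ⟨P.mul_mem (P.mul_mem (P.inv_mem hp) h1) hp, ?_⟩⟩
    have := isSwap_conj h2 p⁻¹
    simpa using this

lemma core {Ω : Type} [Fintype Ω] [DecidableEq Ω] {T : Finset (Perm Ω)} (hT : Pairing T)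
    (R : Subgroup (Perm Ω)) (hR : R ≤ stabT T)
    (hR2 : IsPGroup 2 ((phiT T).comp (Subgroup.inclusion hR)).range)
    (hRc : Nat.card ((phiT T).comp (Subgroup.inclusion hR)).range =
      2 ^ (T.card.factorial.factorization 2))
    (x : Perm Ω) (hxT : x ∈ stabT T) (hx : ∀ q ∈ R, x * q * x⁻¹ ∈ R) (hodd : Odd (orderOf x))
    (hA : ∀ (P : Subgroup (Perm {t // t ∈ T})), IsPGroup 2 P →
      Nat.card P = 2 ^ ((Fintype.card {t // t ∈ T}).factorial.factorization 2) →
      ∀ y : Perm {t // t ∈ T}, (∀ q ∈ P, y * q * y⁻¹ ∈ P) → Odd (orderOf y) → y = 1) : x = 1 := by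
  have hx' : phiT T ⟨x, hxT⟩ = 1 := by
    refine hA ((phiT T).comp (Subgroup.inclusion hR)).range hR2
      (by rw [hRc, Fintype.card_coe]) (phiT T ⟨x, hxT⟩) ?_ ?_
    · rintro _ ⟨q, rfl⟩
      refine ⟨⟨x * q * x⁻¹, hx q q.2⟩, ?_⟩
      rw [MonoidHom.comp_apply, MonoidHom.comp_apply, ← map_inv, ← map_mul, ← map_mul]
      rfl
    · have h1 := orderOf_map_dvd (phiT T) ⟨x, hxT⟩
      rw [Subgroup.orderOf_mk] at h1
      exact Odd.of_dvd_nat hodd h1
  have hker : ∀ t ∈ T, x * t * x⁻¹ = t := by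
    intro t ht
    have := congrArg (fun σ : Perm {t // t ∈ T} => ((σ ⟨t, ht⟩ : {t // t ∈ T}) : Perm Ω)) hx'
    simpa [phiT_apply] using this
  have hsq : x ^ 2 = 1 := by
    ext a; simp [sq, ker_sq hT hker a]
  exact odd_sq_one hsq hodd

theorem sym_sylow_norm : ∀ (n : ℕ) (Ω : Type) [Fintype Ω] [DecidableEq Ω], Fintype.card Ω = n →
    ∀ (P : Subgroup (Perm Ω)), IsPGroup 2 P →
    Nat.card P = 2 ^ ((Fintype.card Ω).factorial.factorization 2) →
    ∀ x : Perm Ω, (∀ q ∈ P, x * q * x⁻¹ ∈ P) → Odd (orderOf x) → x = 1 := by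
  intro n
  induction n using Nat.strong_induction_on with
  | _ n ih =>
  intro Ω _ _ hn P hP2 hcard x hx hodd
  classical
  by_cases hn0 : n = 0
  · have : IsEmpty Ω := Fintype.card_eq_zero_iff.1 (hn.trans hn0)
    exact Subsingleton.elim _ _
  obtain ⟨T, hmemT, hT, hPT⟩ := exists_swap_pairing P hP2 hcard
  have hxinv := norm_inv P x hx
  have hxT : x ∈ stabT T := by
    intro t ht
    obtain ⟨h1, h2⟩ := (hmemT t).1 ht
    refine ⟨(hmemT _).2 ⟨hx t h1, isSwap_conj h2 x⟩, (hmemT _).2 ⟨hxinv t h1, ?_⟩⟩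
    have := isSwap_conj h2 x⁻¹
    simpa using this
  obtain ⟨hR2, hRcard⟩ := image_sylow hT P hPT hP2 hcard
  have hTcard : T.card = n / 2 := by rw [hT.card, hn]
  have hlt : T.card < n := by omega
  exact core hT P hPT hR2 hRcard x hxT hx hodd
    (fun P' hP'2 hP'c y hy hyo => ih T.card hlt {t // t ∈ T} (by simp) P' hP'2 hP'c y hy hyo)

/-! ### Sylow 2-subgroups of alternating groups of degree at least 6 -/

lemma swap_mul_order3 {Ω : Type} [Fintype Ω] [DecidableEq Ω] {t s : Perm Ω} (hts : t.IsSwap)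
    (hss : s.IsSwap) {a : Ω} (hta : t a ≠ a) (hsa : s a ≠ a) (hne : t ≠ s) : orderOf (t * s) = 3 := by
  have e1 := swap_of_isSwap hts hta
  have e2 := swap_of_isSwap hss hsa
  have hbc : t a ≠ s a := by
    intro h; apply hne; rw [e1, e2, h]
  have h3 : (swap a (t a) * swap a (s a)).IsThreeCycle :=
    Perm.isThreeCycle_swap_mul_swap_same (Ne.symm hta) (Ne.symm hsa) hbc
  rw [← e1, ← e2] at h3
  exact h3.orderOf

lemma two_group_not3 {G : Type*} [Group G] (P : Subgroup G) (hP : IsPGroup 2 P) {g : G} (hg : g ∈ P) :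
    orderOf g ≠ 3 := by
  intro ho
  obtain ⟨k, hk⟩ := hP ⟨g, hg⟩
  have hk' : g ^ 2 ^ k = 1 := by
    have := congrArg (fun z : P => (z : G)) hk
    simpa using this
  have hd := orderOf_dvd_of_pow_eq_one hk'
  rw [ho] at hd
  have := (Nat.Prime.dvd_of_dvd_pow Nat.prime_three hd)
  omega

lemma pair_comm {Ω : Type} [Fintype Ω] [DecidableEq Ω] {T : Finset (Perm Ω)} (hT : Pairing T)
    {t s : Perm Ω} (ht : t ∈ T) (hs : s ∈ T) : t * s * t⁻¹ = s := by
  by_cases hts : t = s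
  · rw [hts]; simp
  · obtain ⟨c, d, hcd, rfl⟩ := hT.sw s hs
    have hc : t c = c := by
      by_contra h
      exact hts (hT.disj t ht _ hs c h (by rw [swap_apply_left]; exact Ne.symm hcd))
    have hd : t d = d := by
      by_contra h
      exact hts (hT.disj t ht _ hs d h (by rw [swap_apply_right]; exact hcd))
    rw [← swap_apply_apply, hc, hd]

lemma swap_in_P {Ω : Type} [Fintype Ω] [DecidableEq Ω] (P : Subgroup (Perm Ω)) (hP2 : IsPGroup 2 P)
    {T : Finset (Perm Ω)} (hmemT : ∀ t, t ∈ T ↔ t ∈ P ∧ t.IsSwap) (hT : Pairing T)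
    {τ σ1 σ2 : Perm Ω} (hτ : τ.IsSwap) (h1 : σ1.IsSwap) (h2 : σ2.IsSwap) (h12 : σ1 ≠ σ2)
    (h1τ : τ ≠ σ1) (h2τ : τ ≠ σ2) (hm1 : τ * σ1 ∈ P) (hm2 : τ * σ2 ∈ P) : τ ∈ P := by
  obtain ⟨a, hτa, t0, ht0, ht0a⟩ : ∃ a, τ a ≠ a ∧ ∃ t0 ∈ T, t0 a ≠ a := by
    obtain ⟨x, y, hxy, rfl⟩ := hτ
    by_cases hx : ∀ t ∈ T, t x = x
    · by_cases hy : ∀ t ∈ T, t y = y
      · exact absurd (hT.cover x y hx hy) hxy
      · push Not at hy
        obtain ⟨t0, ht0, h⟩ := hy
        exact ⟨y, by rw [swap_apply_right]; exact hxy, t0, ht0, h⟩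
    · push Not at hx
      obtain ⟨t0, ht0, h⟩ := hx
      exact ⟨x, by rw [swap_apply_left]; exact Ne.symm hxy, t0, ht0, h⟩
  obtain ⟨c, hc⟩ : ∃ c, c = τ a := ⟨_, rfl⟩
  obtain ⟨b, hb⟩ : ∃ b, b = t0 a := ⟨_, rfl⟩
  have eτ : τ = swap a c := by rw [hc]; exact swap_of_isSwap hτ hτa
  have et0 : t0 = swap a b := by rw [hb]; exact swap_of_isSwap (hT.sw t0 ht0) ht0a
  have hca : c ≠ a := by rw [hc]; exact hτa
  have hba : b ≠ a := by rw [hb]; exact ht0a
  by_cases hbc : b = c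
  · have : τ = t0 := by rw [eτ, et0, hbc]
    rw [this]; exact ((hmemT t0).1 ht0).1
  exfalso
  have hτc : τ c ≠ c := by
    have : τ c = a := by rw [eτ, swap_apply_right]
    rw [this]; exact Ne.symm hca
  have fixa : ∀ σ : Perm Ω, σ.IsSwap → τ ≠ σ → τ * σ ∈ P → σ a = a ∧ σ c = c := by
    intro σ hσ hne hm
    refine ⟨?_, ?_⟩
    · by_contra h
      exact two_group_not3 P hP2 hm (swap_mul_order3 hτ hσ hτa h hne)
    · by_contra h
      exact two_group_not3 P hP2 hm (swap_mul_order3 hτ hσ hτc h hne)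
  have hσbc : ∀ σ : Perm Ω, σ.IsSwap → τ ≠ σ → τ * σ ∈ P → σ b ≠ c := by
    intro σ hσ hne hm
    obtain ⟨fa, fc⟩ := fixa σ hσ hne hm
    intro h; apply hbc; apply σ.injective; rw [h, fc]
  have keyσ : ∀ σ : Perm Ω, σ.IsSwap → τ ≠ σ → τ * σ ∈ P → swap c (σ b) ∈ T := by
    intro σ hσ hne hm
    obtain ⟨fa, fc⟩ := fixa σ hσ hne hm
    have hu : (τ * σ) * t0 * (τ * σ)⁻¹ ∈ P :=
      P.mul_mem (P.mul_mem hm ((hmemT t0).1 ht0).1) (P.inv_mem hm)
    have hua : (τ * σ) a = c := by rw [Perm.mul_apply, fa, hc]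
    have hσb_a : σ b ≠ a := by
      intro h; apply hba; apply σ.injective; rw [h, fa]
    have hσb_c : σ b ≠ c := hσbc σ hσ hne hm
    have hub : (τ * σ) b = σ b := by
      rw [Perm.mul_apply, eτ]; exact swap_apply_of_ne_of_ne hσb_a hσb_c
    have e : (τ * σ) * t0 * (τ * σ)⁻¹ = swap c (σ b) := by
      have e0 : (τ * σ) * t0 * (τ * σ)⁻¹ = (τ * σ) * swap a b * (τ * σ)⁻¹ := by rw [← et0]
      rw [e0, ← swap_apply_apply, hua, hub]
    rw [e] at hu
    exact (hmemT _).2 ⟨hu, ⟨c, σ b, Ne.symm hσb_c, rfl⟩⟩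
  have k1 := keyσ σ1 h1 h1τ hm1
  have k2 := keyσ σ2 h2 h2τ hm2
  have hmove : ∀ d, d ≠ c → swap c d c ≠ c := by
    intro d hd; rw [swap_apply_left]; exact hd
  have heq : swap c (σ1 b) = swap c (σ2 b) :=
    hT.disj _ k1 _ k2 c (hmove _ (hσbc σ1 h1 h1τ hm1)) (hmove _ (hσbc σ2 h2 h2τ hm2))
  have heq' : σ1 b = σ2 b := by
    have := congrArg (fun p : Perm Ω => p c) heq
    simpa using this
  by_cases hfix : σ1 b = b
  · rw [hfix] at k1
    have hb1 : swap c b b ≠ b := by rw [swap_apply_right]; exact Ne.symm hbc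
    have hb2 : t0 b ≠ b := by
      have : t0 b = a := by rw [et0, swap_apply_right]
      rw [this]; exact Ne.symm hba
    have h3 := hT.disj _ k1 _ ht0 b hb1 hb2
    rw [et0] at h3
    have h4 := congrArg (fun p : Perm Ω => p b) h3
    simp only [swap_apply_right] at h4
    exact hca h4
  · have e1 := swap_of_isSwap h1 hfix
    have hfix2 : σ2 b ≠ b := by rw [← heq']; exact hfix
    have e2 := swap_of_isSwap h2 hfix2
    apply h12
    rw [e1, e2, heq']

theorem alt_sylow_norm {Ω : Type} [Fintype Ω] [DecidableEq Ω] (hn : 6 ≤ Fintype.card Ω)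
    (S : Sylow 2 (alternatingGroup Ω)) (x : Perm Ω)
    (hx : ∀ q ∈ (S : Subgroup (alternatingGroup Ω)).map (alternatingGroup Ω).subtype,
      x * q * x⁻¹ ∈ (S : Subgroup (alternatingGroup Ω)).map (alternatingGroup Ω).subtype)
    (hodd : Odd (orderOf x)) : x = 1 := by
  classical
  haveI : Fact (Nat.Prime 2) := ⟨Nat.prime_two⟩
  obtain ⟨T', hT'⟩ : ∃ T' : Subgroup (Perm Ω),
      T' = (S : Subgroup (alternatingGroup Ω)).map (alternatingGroup Ω).subtype := ⟨_, rfl⟩
  rw [← hT'] at hx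
  have hT'2 : IsPGroup 2 T' := by rw [hT']; exact S.isPGroup'.map _
  obtain ⟨P, hP⟩ := hT'2.exists_le_sylow
  have hP2 : IsPGroup 2 (P : Subgroup (Perm Ω)) := P.isPGroup'
  have hPc : Nat.card (P : Subgroup (Perm Ω)) = 2 ^ ((Fintype.card Ω).factorial.factorization 2) := by
    rw [P.card_eq_multiplicity, Nat.card_perm, Nat.card_eq_fintype_card]
  obtain ⟨T, hmemT, hT, hPT⟩ := exists_swap_pairing (P : Subgroup (Perm Ω)) hP2 hPc
  have hmax : ∀ p ∈ (P : Subgroup (Perm Ω)), Perm.sign p = 1 → p ∈ T' := by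
    intro p hp hs
    have hQ0 : IsPGroup 2 ((P : Subgroup (Perm Ω)).subgroupOf (alternatingGroup Ω)) :=
      hP2.comap_subtype
    have hle : (S : Subgroup (alternatingGroup Ω)) ≤
        (P : Subgroup (Perm Ω)).subgroupOf (alternatingGroup Ω) := by
      intro t ht
      rw [Subgroup.mem_subgroupOf]
      apply hP
      rw [hT']
      exact Subgroup.mem_map_of_mem _ ht
    have heq := S.is_maximal' hQ0 hle
    have hmem : (⟨p, Perm.mem_alternatingGroup.2 hs⟩ : alternatingGroup Ω) ∈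
        (P : Subgroup (Perm Ω)).subgroupOf (alternatingGroup Ω) := by
      rw [Subgroup.mem_subgroupOf]; exact hp
    rw [heq] at hmem
    rw [hT']
    exact ⟨_, hmem, rfl⟩
  have hm3 : 3 ≤ T.card := by rw [hT.card]; omega
  have hsign : ∀ t ∈ T, Perm.sign t = -1 := by
    intro t ht
    obtain ⟨a, b, hab, rfl⟩ := hT.sw t ht
    exact Perm.sign_swap hab
  have conj_mem : ∀ y : Perm Ω, (∀ q ∈ T', y * q * y⁻¹ ∈ T') → ∀ t ∈ T, y * t * y⁻¹ ∈ T := by
    intro y hy t ht
    have h1 : 1 < (T.erase t).card := by rw [Finset.card_erase_of_mem ht]; omega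
    obtain ⟨s, hs, s', hs', hss'⟩ := Finset.one_lt_card.1 h1
    obtain ⟨hst, hsT⟩ := Finset.mem_erase.1 hs
    obtain ⟨hs't, hs'T⟩ := Finset.mem_erase.1 hs'
    have hprod : ∀ r ∈ T, y * (t * r) * y⁻¹ ∈ (P : Subgroup (Perm Ω)) := by
      intro r hr
      apply hP
      apply hy
      apply hmax
      · exact Subgroup.mul_mem _ ((hmemT t).1 ht).1 ((hmemT r).1 hr).1
      · rw [Perm.sign_mul, hsign t ht, hsign r hr]; simp
    have e : ∀ r, y * (t * r) * y⁻¹ = (y * t * y⁻¹) * (y * r * y⁻¹) := by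
      intro r; simp [mul_assoc]
    have hinj : ∀ r r' : Perm Ω, y * r * y⁻¹ = y * r' * y⁻¹ → r = r' := by
      intro r r' h
      have := congrArg (fun p => y⁻¹ * p * y) h
      simpa [mul_assoc] using this
    have hτ := isSwap_conj (hT.sw t ht) y
    refine (hmemT _).2 ⟨?_, hτ⟩
    apply swap_in_P (P : Subgroup (Perm Ω)) hP2 hmemT hT hτ (isSwap_conj (hT.sw s hsT) y)
      (isSwap_conj (hT.sw s' hs'T) y)
    · intro h; exact hss' (hinj _ _ h)
    · intro h; exact hst (hinj _ _ h).symm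
    · intro h; exact hs't (hinj _ _ h).symm
    · rw [← e]; exact hprod s hsT
    · rw [← e]; exact hprod s' hs'T
  have hxT : x ∈ stabT T := by
    intro t ht
    refine ⟨conj_mem x hx t ht, ?_⟩
    have := conj_mem x⁻¹ (by
      intro q hq
      have := norm_inv T' x hx q hq
      simpa using this) t ht
    simpa using this
  have hT'T : T' ≤ stabT T := le_trans hP hPT
  obtain ⟨hR2, hRcard⟩ := image_sylow hT (P : Subgroup (Perm Ω)) hPT hP2 hPc
  have hrange : ((phiT T).comp (Subgroup.inclusion hT'T)).range =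
      ((phiT T).comp (Subgroup.inclusion hPT)).range := by
    apply le_antisymm
    · rintro _ ⟨q, rfl⟩
      exact ⟨⟨q, hP q.2⟩, rfl⟩
    · rintro _ ⟨p, rfl⟩
      by_cases hs : Perm.sign (p : Perm Ω) = 1
      · exact ⟨⟨p, hmax p p.2 hs⟩, rfl⟩
      · obtain ⟨t, ht⟩ : ∃ t, t ∈ T := Finset.card_pos.1 (by omega)
        have htP := ((hmemT t).1 ht).1
        have hs' : Perm.sign ((p : Perm Ω) * t) = 1 := by
          rw [Perm.sign_mul, hsign t ht]
          rcases Int.units_eq_one_or (Perm.sign (p : Perm Ω)) with h | h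
          · exact absurd h hs
          · rw [h]; simp
        have hmem : (p : Perm Ω) * t ∈ T' := hmax _ (Subgroup.mul_mem _ p.2 htP) hs'
        refine ⟨⟨(p : Perm Ω) * t, hmem⟩, ?_⟩
        have ht1 : phiT T ⟨t, hPT htP⟩ = 1 := by
          ext1 s
          apply Subtype.ext
          rw [phiT_apply]
          exact pair_comm hT ht s.2
        have e2 : (phiT T).comp (Subgroup.inclusion hT'T) ⟨(p : Perm Ω) * t, hmem⟩ =
            (phiT T) (⟨p, hPT p.2⟩ * ⟨t, hPT htP⟩) := rfl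
        rw [e2, map_mul, ht1, mul_one]
        rfl
  rw [← hrange] at hR2 hRcard
  exact core hT T' hT'T hR2 hRcard x hxT hx hodd
    (fun P' hP'2 hP'c y hy hyo => sym_sylow_norm _ {t // t ∈ T} rfl P' hP'2 hP'c y hy hyo)

/-! ### pronormality from a Sylow subgroup -/

lemma mem_smul_sylow {G : Type*} [Group G] (g : G) (T : Sylow 2 G) (z : G) :
    z ∈ ((g • T : Sylow 2 G) : Subgroup G) ↔ g⁻¹ * z * g ∈ (T : Subgroup G) := by
  rw [Sylow.smul_def, Sylow.pointwise_smul_def, Subgroup.mem_pointwise_smul_iff_inv_smul_mem]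
  simp [MulAut.smul_def]

lemma pronormal_of_sylow {G : Type*} [Group G] [Finite G] (H : Subgroup G) (T : Sylow 2 G)
    (hTH : (T : Subgroup G) ≤ H)
    (hN : ∀ y ∈ Subgroup.normalizer ((T : Subgroup G) : Set G), ∀ h ∈ H, y * h * y⁻¹ ∈ H) :
    Cfsg.IsPronormal H := by
  haveI : Fact (Nat.Prime 2) := ⟨Nat.prime_two⟩
  intro g
  obtain ⟨K, hK⟩ : ∃ K, K = H ⊔ H.map (MulAut.conj g).toMonoidHom := ⟨_, rfl⟩
  rw [← hK]
  have hTK : (T : Subgroup G) ≤ K := by rw [hK]; exact le_trans hTH le_sup_left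
  have hgT : ((g • T : Sylow 2 G) : Subgroup G) ≤ K := by
    rw [hK]
    refine le_trans ?_ le_sup_right
    intro z hz
    rw [mem_smul_sylow] at hz
    refine Subgroup.mem_map.2 ⟨g⁻¹ * z * g, hTH hz, ?_⟩
    simp [MulAut.conj_apply, mul_assoc]
  obtain ⟨k, hk⟩ := MulAction.exists_smul_eq K (T.subtype hTK) ((g • T).subtype hgT)
  rw [Sylow.smul_subtype] at hk
  have hk' : (k : G) • T = g • T := Sylow.subtype_injective hk
  have hy : (k : G)⁻¹ * g ∈ Subgroup.normalizer ((T : Subgroup G) : Set G) := by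
    have h1 : ((k : G)⁻¹ * g) • T = T := by
      rw [mul_smul, ← hk', ← mul_smul]; simp
    exact Sylow.smul_eq_iff_mem_normalizer.1 h1
  obtain ⟨y, hydef⟩ : ∃ y, y = (k : G)⁻¹ * g := ⟨_, rfl⟩
  rw [← hydef] at hy
  have hg : g = (k : G) * y := by rw [hydef]; simp
  have hyinv := Subgroup.inv_mem _ hy
  refine ⟨k, k.2, ?_⟩
  ext z
  simp only [Subgroup.mem_map, MulEquiv.coe_toMonoidHom, MulAut.conj_apply]
  constructor
  · rintro ⟨h, hh, rfl⟩
    refine ⟨y * h * y⁻¹, hN y hy h hh, ?_⟩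
    rw [hg]; simp [mul_assoc]
  · rintro ⟨h, hh, rfl⟩
    refine ⟨y⁻¹ * h * y, ?_, ?_⟩
    · have := hN y⁻¹ hyinv h hh
      simpa using this
    · rw [hg]; simp [mul_assoc]

lemma exists_sylow_le {G : Type*} [Group G] [Finite G] (H : Subgroup G) (hH : Odd H.index) :
    ∃ T : Sylow 2 G, (T : Subgroup G) ≤ H := by
  haveI : Fact (Nat.Prime 2) := ⟨Nat.prime_two⟩
  obtain ⟨Q⟩ : Nonempty (Sylow 2 H) := inferInstance
  have h1 : Nat.card ((Q : Subgroup H).map H.subtype) = Nat.card (Q : Subgroup H) :=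
    Subgroup.card_map_of_injective (Subgroup.subtype_injective H)
  have h2 := Q.card_eq_multiplicity
  have h3 : (Nat.card G).factorization 2 = (Nat.card H).factorization 2 := by
    rw [← H.card_mul_index, Nat.factorization_mul Nat.card_pos.ne' (Subgroup.index_ne_zero_of_finite)]
    have : H.index.factorization 2 = 0 :=
      Nat.factorization_eq_zero_of_not_dvd (fun hd => (Nat.not_even_iff_odd.2 hH) (even_iff_two_dvd.2 hd))
    simp [this]
  refine ⟨Sylow.ofCard ((Q : Subgroup H).map H.subtype) (by rw [h1, h2, h3]), ?_⟩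
  show (Q : Subgroup H).map H.subtype ≤ H
  exact Subgroup.map_subtype_le _

lemma norm_self_alt {n : ℕ} (h6 : 6 ≤ n) (T : Sylow 2 (alternatingGroup (Fin n)))
    (y : alternatingGroup (Fin n))
    (hy : y ∈ Subgroup.normalizer ((T : Subgroup (alternatingGroup (Fin n))) : Set _)) :
    y ∈ (T : Subgroup (alternatingGroup (Fin n))) := by
  have h2 : IsPGroup 2 (Subgroup.normalizer
      ((T : Subgroup (alternatingGroup (Fin n))) : Set (alternatingGroup (Fin n)))) := by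
    intro z
    obtain ⟨k, m, hm, hkm⟩ :=
      Nat.exists_eq_two_pow_mul_odd (orderOf_pos (z : alternatingGroup (Fin n))).ne'
    refine ⟨k, ?_⟩
    have ho : orderOf ((z : alternatingGroup (Fin n)) ^ 2 ^ k) = m := by
      rw [orderOf_pow' _ (pow_ne_zero _ two_ne_zero), hkm, Nat.gcd_eq_right (Dvd.intro _ rfl),
        Nat.mul_div_cancel_left _ (pow_pos (by norm_num) _)]
    have hw : (z : alternatingGroup (Fin n)) ^ 2 ^ k ∈
        Subgroup.normalizer ((T : Subgroup (alternatingGroup (Fin n))) : Set _) :=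
      Subgroup.pow_mem _ z.2 _
    have hx1 : (((z : alternatingGroup (Fin n)) ^ 2 ^ k : alternatingGroup (Fin n)) : Perm (Fin n)) = 1 := by
      apply alt_sylow_norm (by simpa using h6) T
      · rintro _ ⟨t, ht, rfl⟩
        exact ⟨_, ((Subgroup.mem_normalizer_iff).1 hw t).1 ht, rfl⟩
      · rw [Subgroup.orderOf_coe, ho]; exact hm
    apply Subtype.ext
    apply Subtype.ext
    simpa using hx1
  have := T.is_maximal' h2 Subgroup.le_normalizer
  rw [this] at hy
  exact hy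

/-! ### degree five -/

def a0 : Perm (Fin 5) := swap 0 1 * swap 2 3
def b0 : Perm (Fin 5) := swap 0 2 * swap 1 3
abbrev inV (x : Perm (Fin 5)) : Prop := x = a0 ∨ x = b0 ∨ x = a0 * b0

set_option maxRecDepth 100000 in
theorem E1 : ∀ g : Perm (Fin 5), Perm.sign g = 1 → g ^ 4 = 1 → g ^ 2 = 1 := by decide +kernel

set_option maxRecDepth 100000 in
set_option synthInstance.maxSize 4096 in
set_option synthInstance.maxHeartbeats 2000000 in
theorem E2 : ∀ s : Perm (Fin 5), Perm.sign s = 1 → s ≠ 1 → s ^ 2 = 1 → ∀ t : Perm (Fin 5),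
    Perm.sign t = 1 → t ≠ 1 → t ≠ s → t ^ 2 = 1 → (s * t) ^ 2 = 1 →
    ∃ u : Perm (Fin 5), Perm.sign u = 1 ∧ inV (u⁻¹ * s * u) ∧ inV (u⁻¹ * t * u) := by decide +kernel

set_option maxRecDepth 100000 in
set_option synthInstance.maxSize 4096 in
set_option synthInstance.maxHeartbeats 2000000 in
theorem E3 : ∀ h : Perm (Fin 5), Perm.sign h = 1 → h ≠ 1 → h ≠ a0 → h ≠ b0 → h ≠ a0 * b0 →
    ∃ i : Fin 2, ∃ v ∈ [1, a0, b0, a0 * b0], ∃ j : Fin 2, ∃ v2 ∈ [1, a0, b0, a0 * b0], ∃ k : Fin 2,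
      (h ^ (i : ℕ) * v * h ^ (j : ℕ) * v2 * h ^ (k : ℕ)) 4 = 4 ∧
      (h ^ (i : ℕ) * v * h ^ (j : ℕ) * v2 * h ^ (k : ℕ)) ^ 2 ≠ 1 := by decide +kernel

set_option maxRecDepth 100000 in
theorem E4 : ∀ w : Perm (Fin 5), Perm.sign w = 1 → w 4 = 4 → w ^ 2 ≠ 1 → ∀ y : Perm (Fin 5),
    Perm.sign y = 1 → y 4 = 4 → ∃ τ ∈ [1, a0, b0, a0 * b0], ∃ i : Fin 3, y = τ * w ^ (i : ℕ) := by
  decide +kernel

set_option maxRecDepth 100000 in
theorem E5 : ∀ v : Perm (Fin 5), Perm.sign v = 1 → v ≠ 1 → v * a0 = a0 * v → v * b0 = b0 * v →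
    ∀ x : Fin 5, v x = x → x = 4 := by decide +kernel

theorem E6 : ∀ v1 v2 : Perm (Fin 5), inV v1 → inV v2 → v1 ≠ v2 →
    (a0 = v1 ∨ a0 = v2 ∨ a0 = v1 * v2) ∧ (b0 = v1 ∨ b0 = v2 ∨ b0 = v1 * v2) := by
  rintro _ _ (rfl | rfl | rfl) (rfl | rfl | rfl) h <;> first | exact absurd rfl h | decide +kernel

theorem E7 : a0 4 = 4 ∧ a0 ≠ 1 := by decide +kernel

lemma comm_of_sq {G : Type*} [Group G] {x y : G} (hx : x ^ 2 = 1) (hy : y ^ 2 = 1)
    (hxy : (x * y) ^ 2 = 1) : x * y = y * x := by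
  have h1 : x⁻¹ = x := by rw [inv_eq_iff_mul_eq_one, ← sq, hx]
  have h2 : y⁻¹ = y := by rw [inv_eq_iff_mul_eq_one, ← sq, hy]
  have h3 : (x * y)⁻¹ = x * y := by rw [inv_eq_iff_mul_eq_one, ← sq, hxy]
  rw [← h3, mul_inv_rev, h1, h2]

lemma sign_conj {n : ℕ} (u z : Perm (Fin n)) : Perm.sign (u * z * u⁻¹) = Perm.sign z := by
  rw [Perm.sign_mul, Perm.sign_mul, Perm.sign_inv, mul_comm (Perm.sign u), mul_assoc,
    Int.units_mul_self, mul_one]

lemma card_alt5 : Nat.card (alternatingGroup (Fin 5)) = 60 := by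
  have h := two_mul_card_alternatingGroup (α := Fin 5)
  rw [Fintype.card_perm, Fintype.card_fin] at h
  rw [Nat.card_eq_fintype_card]
  have : Nat.factorial 5 = 120 := by decide
  omega

lemma fact60 : 2 ^ (60 : ℕ).factorization 2 = 4 := by
  have h : (60 : ℕ) = 2 ^ 2 * 15 := by norm_num
  have h15 : (15 : ℕ).factorization 2 = 0 := Nat.factorization_eq_zero_of_not_dvd (by norm_num)
  rw [h, Nat.factorization_mul (by norm_num) (by norm_num), Nat.Prime.factorization_pow Nat.prime_two]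
  simp [h15]

lemma five_norm (H : Subgroup (alternatingGroup (Fin 5))) (T : Sylow 2 (alternatingGroup (Fin 5)))
    (hTH : (T : Subgroup (alternatingGroup (Fin 5))) ≤ H) (y : alternatingGroup (Fin 5))
    (hy : y ∈ Subgroup.normalizer ((T : Subgroup (alternatingGroup (Fin 5))) : Set _)) :
    ∀ h ∈ H, y * h * y⁻¹ ∈ H := by
  haveI : Fact (Nat.Prime 2) := ⟨Nat.prime_two⟩
  intro h hh
  by_cases hHT : ∀ h ∈ H, h ∈ (T : Subgroup (alternatingGroup (Fin 5)))
  · exact hTH (((Subgroup.mem_normalizer_iff).1 hy h).1 (hHT h hh))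
  push Not at hHT
  obtain ⟨h0, hh0, hh0T⟩ := hHT
  suffices hyH : y ∈ H from H.mul_mem (H.mul_mem hyH hh) (H.inv_mem hyH)
  have hcT : Nat.card (T : Subgroup (alternatingGroup (Fin 5))) = 4 := by
    rw [T.card_eq_multiplicity, card_alt5]; exact fact60
  have hsqT : ∀ z ∈ (T : Subgroup (alternatingGroup (Fin 5))),
      ((z : alternatingGroup (Fin 5)) : Perm (Fin 5)) ^ 2 = 1 := by
    intro z hz
    apply E1 _ (Perm.mem_alternatingGroup.1 z.2)
    have h4 : (⟨z, hz⟩ : (T : Subgroup (alternatingGroup (Fin 5)))) ^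
        Nat.card (T : Subgroup (alternatingGroup (Fin 5))) = 1 := pow_card_eq_one'
    rw [hcT] at h4
    have := congrArg (fun w : (T : Subgroup (alternatingGroup (Fin 5))) =>
      ((w : alternatingGroup (Fin 5)) : Perm (Fin 5))) h4
    simpa using this
  obtain ⟨s, hsT, hs1⟩ : ∃ s ∈ (T : Subgroup (alternatingGroup (Fin 5))), s ≠ 1 := by
    by_contra hcon
    push Not at hcon
    have : (T : Subgroup (alternatingGroup (Fin 5))) = ⊥ := (Subgroup.eq_bot_iff_forall _).2 hcon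
    rw [this, Subgroup.card_bot] at hcT
    omega
  obtain ⟨t, htT, ht1, hts⟩ : ∃ t ∈ (T : Subgroup (alternatingGroup (Fin 5))), t ≠ 1 ∧ t ≠ s := by
    by_contra hcon
    push Not at hcon
    have hle : (T : Subgroup (alternatingGroup (Fin 5))) ≤ Subgroup.zpowers s := by
      intro z hz
      by_cases hz1 : z = 1
      · rw [hz1]; exact Subgroup.one_mem _
      · rw [hcon z hz hz1]; exact Subgroup.mem_zpowers s
    have h1 := Subgroup.card_le_of_le hle
    have h2 : Nat.card (Subgroup.zpowers s) ≤ 2 := by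
      rw [Nat.card_zpowers]
      apply Nat.le_of_dvd (by norm_num)
      apply orderOf_dvd_of_pow_eq_one
      apply Subtype.ext
      simpa using hsqT s hsT
    omega
  -- the conjugating element
  have hS1 : (s : Perm (Fin 5)) ≠ 1 := fun h => hs1 (Subtype.ext h)
  have hT1 : (t : Perm (Fin 5)) ≠ 1 := fun h => ht1 (Subtype.ext h)
  have hTS : (t : Perm (Fin 5)) ≠ (s : Perm (Fin 5)) := fun h => hts (Subtype.ext h)
  have hST2 : ((s : Perm (Fin 5)) * (t : Perm (Fin 5))) ^ 2 = 1 := by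
    have := hsqT (s * t) (Subgroup.mul_mem _ hsT htT)
    simpa using this
  obtain ⟨u, hu, hus, hut⟩ := E2 s (Perm.mem_alternatingGroup.1 s.2) hS1 (hsqT s hsT) t
    (Perm.mem_alternatingGroup.1 t.2) hT1 hTS (hsqT t htT) hST2
  obtain ⟨K, hK⟩ : ∃ K : Subgroup (Perm (Fin 5)), ∀ z, z ∈ K ↔
      ∃ h ∈ H, ((h : alternatingGroup (Fin 5)) : Perm (Fin 5)) = u * z * u⁻¹ := by
    refine ⟨(H.map (alternatingGroup (Fin 5)).subtype).comap (MulAut.conj u).toMonoidHom, ?_⟩
    intro z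
    simp [Subgroup.mem_comap, Subgroup.mem_map, MulAut.conj_apply]
  obtain ⟨KT, hKT⟩ : ∃ KT : Subgroup (Perm (Fin 5)), ∀ z, z ∈ KT ↔
      ∃ h ∈ (T : Subgroup (alternatingGroup (Fin 5))),
        ((h : alternatingGroup (Fin 5)) : Perm (Fin 5)) = u * z * u⁻¹ := by
    refine ⟨((T : Subgroup (alternatingGroup (Fin 5))).map
      (alternatingGroup (Fin 5)).subtype).comap (MulAut.conj u).toMonoidHom, ?_⟩
    intro z
    simp [Subgroup.mem_comap, Subgroup.mem_map, MulAut.conj_apply]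
  have hKTK : KT ≤ K := by
    intro z hz
    obtain ⟨h, hh, e⟩ := (hKT z).1 hz
    exact (hK z).2 ⟨h, hTH hh, e⟩
  have hsK : u⁻¹ * (s : Perm (Fin 5)) * u ∈ KT := (hKT _).2 ⟨s, hsT, by simp [mul_assoc]⟩
  have htK : u⁻¹ * (t : Perm (Fin 5)) * u ∈ KT := (hKT _).2 ⟨t, htT, by simp [mul_assoc]⟩
  have hne : u⁻¹ * (s : Perm (Fin 5)) * u ≠ u⁻¹ * (t : Perm (Fin 5)) * u := by
    intro h
    apply hTS
    have := congrArg (fun p => u * p * u⁻¹) h
    simpa [mul_assoc] using this.symm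
  obtain ⟨ha, hb⟩ := E6 _ _ hus hut hne
  have haK : a0 ∈ KT := by
    rcases ha with h | h | h
    · rw [h]; exact hsK
    · rw [h]; exact htK
    · rw [h]; exact KT.mul_mem hsK htK
  have hbK : b0 ∈ KT := by
    rcases hb with h | h | h
    · rw [h]; exact hsK
    · rw [h]; exact htK
    · rw [h]; exact KT.mul_mem hsK htK
  have hVK : ∀ v ∈ [1, a0, b0, a0 * b0], v ∈ KT := by
    intro v hv
    simp only [List.mem_cons, List.not_mem_nil, or_false] at hv
    rcases hv with rfl | rfl | rfl | rfl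
    · exact KT.one_mem
    · exact haK
    · exact hbK
    · exact KT.mul_mem haK hbK
  have hsignK : ∀ z ∈ K, Perm.sign z = 1 := by
    intro z hz
    obtain ⟨h, _, e⟩ := (hK z).1 hz
    have h1 := Perm.mem_alternatingGroup.1 h.2
    rw [e, sign_conj] at h1
    exact h1
  -- h0' = u⁻¹ h0 u
  have hh0K : u⁻¹ * (h0 : Perm (Fin 5)) * u ∈ K := (hK _).2 ⟨h0, hh0, by simp [mul_assoc]⟩
  have hh0V : ∀ v ∈ [1, a0, b0, a0 * b0], u⁻¹ * (h0 : Perm (Fin 5)) * u ≠ v := by
    intro v hv e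
    have h1 := hVK v hv
    rw [← e] at h1
    obtain ⟨τ, hτ, e2⟩ := (hKT _).1 h1
    have : (τ : Perm (Fin 5)) = h0 := by rw [e2]; simp [mul_assoc]
    exact hh0T (Subtype.ext this ▸ hτ)
  obtain ⟨i, v, hv, j, v2, hv2, k, hw4, hw2⟩ := E3 _ (hsignK _ hh0K)
    (hh0V 1 (by simp)) (hh0V a0 (by simp)) (hh0V b0 (by simp)) (hh0V (a0 * b0) (by simp))
  obtain ⟨w, hwdef⟩ : ∃ w, w = (u⁻¹ * (h0 : Perm (Fin 5)) * u) ^ (i : ℕ) * v *
      (u⁻¹ * (h0 : Perm (Fin 5)) * u) ^ (j : ℕ) * v2 * (u⁻¹ * (h0 : Perm (Fin 5)) * u) ^ (k : ℕ) :=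
    ⟨_, rfl⟩
  rw [← hwdef] at hw4 hw2
  have hwK : w ∈ K := by
    rw [hwdef]
    exact K.mul_mem (K.mul_mem (K.mul_mem (K.mul_mem (K.pow_mem hh0K _) (hKTK (hVK v hv)))
      (K.pow_mem hh0K _)) (hKTK (hVK v2 hv2))) (K.pow_mem hh0K _)
  -- y' = u⁻¹ y u
  obtain ⟨y', hy'⟩ : ∃ y', y' = u⁻¹ * (y : Perm (Fin 5)) * u := ⟨_, rfl⟩
  have hy'sign : Perm.sign y' = 1 := by
    rw [hy']
    have h1 := sign_conj u⁻¹ (y : Perm (Fin 5))
    rw [inv_inv] at h1
    rw [h1]
    exact Perm.mem_alternatingGroup.1 y.2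
  have hsqKT : ∀ z ∈ KT, z ^ 2 = 1 := by
    intro z hz
    obtain ⟨τ, hτ, e⟩ := (hKT z).1 hz
    have h1 := hsqT τ hτ
    rw [e] at h1
    have := congrArg (fun p => u⁻¹ * p * u) h1
    simpa [sq, mul_assoc] using this
  have hcommKT : ∀ z1 ∈ KT, ∀ z2 ∈ KT, z1 * z2 = z2 * z1 := by
    intro z1 h1 z2 h2
    exact comm_of_sq (hsqKT z1 h1) (hsqKT z2 h2) (hsqKT _ (KT.mul_mem h1 h2))
  have hvKT : y' * a0 * y'⁻¹ ∈ KT := by
    obtain ⟨τ, hτ, e⟩ := (hKT a0).1 haK
    refine (hKT _).2 ⟨y * τ * y⁻¹, ((Subgroup.mem_normalizer_iff).1 hy τ).1 hτ, ?_⟩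
    simp only [Subgroup.coe_mul, Subgroup.coe_inv]
    rw [e, hy']; simp [mul_assoc]
  have hy'4 : y' 4 = 4 := by
    apply E5 (y' * a0 * y'⁻¹) (hsignK _ (hKTK hvKT)) _ (hcommKT _ hvKT _ haK) (hcommKT _ hvKT _ hbK)
    · simp [E7.1]
    · intro h
      apply E7.2
      have := congrArg (fun p => y'⁻¹ * p * y') h
      simpa [mul_assoc] using this
  obtain ⟨τ, hτ, i', e⟩ := E4 w (hsignK w hwK) hw4 hw2 y' hy'sign hy'4
  have hy'K : y' ∈ K := by
    rw [e]; exact K.mul_mem (hKTK (hVK τ hτ)) (K.pow_mem hwK _)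
  obtain ⟨h', hh', e'⟩ := (hK _).1 hy'K
  have : h' = y := by
    apply Subtype.ext
    rw [e', hy']; simp [mul_assoc]
  rw [← this]; exact hh'

end helpers

/-- In the alternating group of degree n ≥ 5 every subgroup H of odd index is pronormal: for every element g, the subgroups H and gHg⁻¹ are conjugate by an element of the subgroup they generate. -/
theorem result (n : ℕ) (hn : 5 ≤ n)
    (H : Subgroup (alternatingGroup (Fin n))) (hH : Odd H.index) : Cfsg.IsPronormal H := by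
  obtain ⟨T, hTH⟩ := exists_sylow_le H hH
  apply pronormal_of_sylow H T hTH
  rcases Nat.lt_or_ge n 6 with h6 | h6
  · have h5 : n = 5 := by omega
    subst h5
    exact five_norm H T hTH
  · intro y hy h hh
    have hyT : y ∈ (T : Subgroup (alternatingGroup (Fin n))) := norm_self_alt h6 T y hy
    exact H.mul_mem (H.mul_mem (hTH hyT) hh) (H.inv_mem (hTH hyT))


end Cfsg.Agent.S2222
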