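import Cfsg.Statements.S1454
import Cfsg.Agent.Lib.helper30.RankTwoC
import Cfsg.Agent.Lib.helper30.FittingRank
import Cfsg.Agent.Lib.helper40.Cores

set_option autoImplicit false
open Cfsg

namespace Cfsg.Agent.S1454

/-- Let G be a finite group, p an odd prime, R a narrow p-subgroup and A a solvable subgroup of odd order normalizing R with A ∩ C_G(R) = 1. Then [A, A] ≤ O_p(A) and the index of O_p(A) in A is coprime to p; if R has an elementary abelian subgroup of order p ^ 3 then the order of every element of A of order coprime to p divides p − 1; and if the order of A is a prime not dividing p(p − 1), then 2·#A divides p + 1, and if in addition [R, A] = R and R is non-abelian then #R = p ^ 3. -/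
theorem result {G : Type*} [Group G] [Finite G] (p : ℕ) [Fact p.Prime] (hp : p ≠ 2) (R A : Subgroup G) (hR : IsPGroup p R) (hRn : Cfsg.IsNarrow p R)
    (hA : (A ≤ Subgroup.normalizer (R : Set G))) (hAs : Group.IsSolvable A) (hAodd : Odd (Nat.card A)) (hfaith : A ⊓ Subgroup.centralizer (R : Set G) = ⊥) :
    (commutator ↥A ≤ Cfsg.pCore p ↥A ∧ ((Cfsg.pCore p ↥A).index).Coprime p) ∧
      (¬ Cfsg.PRankLE p 2 R → ∀ a ∈ A, (orderOf a).Coprime p → orderOf a ∣ p - 1) ∧
      ((Nat.card A).Prime → ¬ Nat.card A ∣ p * (p - 1) →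
        2 * Nat.card A ∣ p + 1 ∧ (⁅R, A⁆ = R → ¬ IsMulCommutative R → Nat.card R = p ^ 3)) := by
  have hpp : p.Prime := Fact.out
  have hfa : ∀ a ∈ A, (∀ r ∈ R, a * r = r * a) → a = 1 := by
    intro a ha hc
    have h1 : a ∈ A ⊓ Subgroup.centralizer (R : Set G) :=
      Subgroup.mem_inf.mpr ⟨ha, Subgroup.mem_centralizer_iff.mpr (fun r hr => (hc r hr).symm)⟩
    rw [hfaith, Subgroup.mem_bot] at h1
    exact h1
  -- `p'`-elements of `A'` are trivial
  have hA' : ∀ c ∈ ⁅A, A⁆, (orderOf c).Coprime p → c = 1 := by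
    intro c hc hcop
    apply hfa c (Subgroup.commutator_le_self A hc)
    by_cases hr : Cfsg.PRankLE p 2 R
    · exact Cfsg.Agent.Lib.helper30.commutator_centralizes p hp R A hR hr hA hAs hAodd c hc hcop
    · exact (Cfsg.Agent.Lib.helper30.narrow_aut p hp R hR hr hRn A hA).1 c hc hcop
  refine ⟨?_, ?_, ?_⟩
  · -- (a)
    have hmap : (commutator ↥A).map A.subtype = ⁅A, A⁆ := by
      rw [commutator_def, Subgroup.map_commutator, ← MonoidHom.range_eq_map, Subgroup.range_subtype]
    have hKp : IsPGroup p (commutator ↥A) := by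
      intro x
      obtain ⟨k, m, hm, hkm⟩ := Nat.exists_eq_pow_mul_and_not_dvd
        (orderOf_pos (x : A)).ne' p hpp.ne_one
      refine ⟨k, ?_⟩
      have hxc : (((x : A) ^ p ^ k : A) : G) ∈ ⁅A, A⁆ := by
        rw [← hmap]
        exact ⟨(x : A) ^ p ^ k, Subgroup.pow_mem _ x.2 _, rfl⟩
      have hord : orderOf (((x : A) ^ p ^ k : A) : G) ∣ m := by
        apply orderOf_dvd_of_pow_eq_one
        rw [← Subgroup.coe_pow, ← pow_mul, ← hkm, pow_orderOf_eq_one]
        rfl
      have h1 := hA' _ hxc (Nat.Coprime.coprime_dvd_left hord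
        ((Nat.Prime.coprime_iff_not_dvd hpp).mpr hm).symm)
      apply Subtype.ext
      apply Subtype.ext
      simpa using h1
    refine ⟨Cfsg.Agent.Lib.helper40.le_pCore _ inferInstance hKp, ?_⟩
    obtain ⟨S, hS⟩ := hKp.exists_le_sylow
    have hSn : (S : Subgroup ↥A).Normal := Cfsg.Agent.Lib.helper30.normal_of_commutator_le _ hS
    have hSle : (S : Subgroup ↥A) ≤ Cfsg.pCore p ↥A := Cfsg.Agent.Lib.helper40.le_pCore _ hSn S.2
    have hdvd := Subgroup.index_dvd_of_le hSle
    exact Nat.Coprime.coprime_dvd_left hdvd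
      ((Nat.Prime.coprime_iff_not_dvd hpp).mpr S.not_dvd_index).symm
  · -- (b)
    intro hr a ha hcop
    have h1 := (Cfsg.Agent.Lib.helper30.narrow_aut p hp R hR hr hRn A hA).2 a ha hcop
    exact orderOf_dvd_of_pow_eq_one (hfa _ (Subgroup.pow_mem _ ha _) h1)
  · -- (c)
    intro hq hnd
    have hqp : ¬ Nat.card A ∣ p := fun h => hnd (dvd_mul_of_dvd_left h _)
    have hqp1 : ¬ Nat.card A ∣ p - 1 := fun h => hnd (dvd_mul_of_dvd_right h _)
    have hnt : Nontrivial A := Finite.one_lt_card_iff_nontrivial.mp hq.one_lt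
    obtain ⟨⟨a, ha⟩, ha1⟩ := exists_ne (1 : A)
    have ha1' : a ≠ 1 := fun h => ha1 (Subtype.ext h)
    have haq : a ^ Nat.card A = 1 := by
      have h1 : (⟨a, ha⟩ : A) ^ Nat.card A = 1 := pow_card_eq_one'
      exact congrArg Subtype.val h1
    have hord : orderOf a = Nat.card A := by
      rcases (Nat.dvd_prime hq).mp (orderOf_dvd_of_pow_eq_one haq) with h | h
      · exact absurd (orderOf_eq_one_iff.mp h) ha1'
      · exact h
    have hAz : Subgroup.zpowers a = A := by
      apply Subgroup.eq_of_le_of_card_ge ((Subgroup.zpowers_le).mpr ha)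
      rw [Nat.card_zpowers, hord]
    have hnc : ¬ ∀ r ∈ R, a * r = r * a := fun h => ha1' (hfa a ha h)
    have hqc : (Nat.card A).Coprime p := (Nat.Prime.coprime_iff_not_dvd hq).mpr hqp
    have hr : Cfsg.PRankLE p 2 R := by
      by_contra hr
      have h1 := (Cfsg.Agent.Lib.helper30.narrow_aut p hp R hR hr hRn A hA).2 a ha
        (by rw [hord]; exact hqc)
      have h2 := orderOf_dvd_of_pow_eq_one (hfa _ (Subgroup.pow_mem _ ha _) h1)
      rw [hord] at h2
      exact hqp1 h2
    obtain ⟨hqdvd, hstr⟩ := Cfsg.Agent.Lib.helper30.rank_two_prime_aut p hp R hR hr a (hA ha)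
      (Nat.card A) hq haq hqp hqp1 hnc
    refine ⟨?_, ?_⟩
    · have h2 : 2 ∣ p + 1 := by
        obtain ⟨k, hk⟩ := hpp.odd_of_ne_two hp
        exact ⟨k + 1, by omega⟩
      have hcop2 : Nat.Coprime 2 (Nat.card A) := by
        rw [Nat.coprime_two_left]
        exact hAodd
      exact Nat.Coprime.mul_dvd_of_dvd_of_dvd hcop2 h2 hqdvd
    · intro hRA hnab
      rcases hstr with hab | ⟨B, hBR, hBcard, hB⟩
      · exfalso
        apply hnab
        rw [isMulCommutative_iff]
        intro x y
        apply Subtype.ext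
        exact hab x x.2 y y.2
      · have hle : ⁅R, A⁆ ≤ B := by
          rw [Subgroup.commutator_le]
          intro g₁ hg₁ g₂ hg₂
          rw [← hAz] at hg₂
          obtain ⟨k, rfl⟩ := (mem_powers_iff_mem_zpowers).mpr hg₂
          have h1 := hB k g₁ hg₁
          have h2 : g₁ * a ^ k * g₁⁻¹ * (a ^ k)⁻¹ = (a ^ k * g₁ * (a ^ k)⁻¹ * g₁⁻¹)⁻¹ := by
            group
          rw [commutatorElement_def, h2]
          exact B.inv_mem h1
        rw [hRA] at hle
        rw [← hBcard, le_antisymm hle hBR]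

end Cfsg.Agent.S1454
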