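import Cfsg.Statements.S1951
import Mathlib
import Cfsg.Agent.Lib.helper27.FlavellA
import Cfsg.Agent.Lib.helper27.FlavellD
import Cfsg.Agent.Lib.helper76.KazCore

set_option autoImplicit false
open Cfsg

namespace Cfsg.Agent.S1951

/-- Let p be a prime and P a nontrivial elementary abelian Sylow p-subgroup of a finite nonabelian simple group G whose nonidentity elements are all conjugate in G. Suppose that two elements of P are conjugate in G only if they are conjugate in N_G(P), that the centralizer of every element of order p of P has a normal p-complement, and that every two elements of order p of G generate a p-solvable subgroup. Then p = 2. -/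
theorem result {G : Type*} [Group G] [Finite G] [IsSimpleGroup G] (hG : ¬ IsMulCommutative G) {p : ℕ} [Fact p.Prime] (P : Sylow p G)
    (hP1 : (P : Subgroup G) ≠ ⊥) (hPe : Cfsg.IsElementaryAbelian p (P : Subgroup G))
    (hconj : ∀ x ∈ (P : Subgroup G), ∀ y ∈ (P : Subgroup G), x ≠ 1 → y ≠ 1 → ∃ g : G, g * x * g⁻¹ = y)
    (ha : ∀ x ∈ (P : Subgroup G), ∀ y ∈ (P : Subgroup G), (∃ g : G, g * x * g⁻¹ = y) →
      ∃ n ∈ Subgroup.normalizer ((P : Subgroup G) : Set G), n * x * n⁻¹ = y)
    (hb : ∀ x ∈ (P : Subgroup G), orderOf x = p → Cfsg.HasNormalPComplement p ↥(Subgroup.centralizer ({x} : Set G)))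
    (hc : ∀ x y : G, orderOf x = p → orderOf y = p → Cfsg.IsPSolvable p ↥(Subgroup.closure ({x, y} : Set G))) :
    p = 2 := by
  by_contra hp2
  have hp : p.Prime := Fact.out
  have hp3 : 3 ≤ p := by
    have := hp.two_le
    omega
  have hfin : Fintype G := Fintype.ofFinite G
  -- commutativity of `P`
  have hPc : ∀ a ∈ (P : Subgroup G), ∀ b ∈ (P : Subgroup G), a * b = b * a := by
    intro a ha' b hb'
    have := hPe.1
    exact congrArg Subtype.val (mul_comm' (⟨a, ha'⟩ : (P : Subgroup G)) ⟨b, hb'⟩)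
  -- the element `z`
  obtain ⟨⟨z, hzP⟩, hz1'⟩ := (Subgroup.ne_bot_iff_exists_ne_one).mp hP1
  have hz1 : z ≠ 1 := fun h => hz1' (Subtype.ext h)
  have hz : orderOf z = p := orderOf_eq_prime (hPe.2 z hzP) hz1
  -- nontrivial `p`-elements have order `p`
  have hpel : ∀ x : G, x ≠ 1 → (∃ k : ℕ, x ^ p ^ k = 1) → orderOf x = p := by
    rintro x hx1 ⟨k, hk⟩
    obtain ⟨g, hg⟩ := Cfsg.Agent.Lib.helper27.fl_conj_mem_sylow P x k hk
    have h1 := hPe.2 _ hg
    have h2 : x ^ p = 1 := by
      rw [conj_pow] at h1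
      have e : x ^ p = g⁻¹ * (g * x ^ p * g⁻¹) * g := by group
      rw [e, h1]
      group
    exact orderOf_eq_prime h2 hx1
  -- all elements of order `p` are conjugate to `z`
  have hconj' : ∀ x : G, orderOf x = p → IsConj z x := by
    intro x hx
    have hx1 : x ≠ 1 := by
      rintro rfl
      rw [orderOf_one] at hx
      exact hp.one_lt.ne' hx.symm
    obtain ⟨g, hg⟩ := Cfsg.Agent.Lib.helper27.fl_conj_mem_sylow P x 1
      (by rw [pow_one, ← hx, pow_orderOf_eq_one])
    have hne : g * x * g⁻¹ ≠ 1 := by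
      intro h
      apply hx1
      have e : x = g⁻¹ * (g * x * g⁻¹) * g := by group
      rw [e, h]
      group
    obtain ⟨c, hc⟩ := hconj z hzP _ hg hz1 hne
    rw [isConj_iff]
    refine ⟨g⁻¹ * c, ?_⟩
    have e : g⁻¹ * c * z * (g⁻¹ * c)⁻¹ = g⁻¹ * (c * z * c⁻¹) * g := by group
    rw [e, hc]
    group
  -- the centralizer of `z`
  obtain ⟨hidx, hreg⟩ := Cfsg.Agent.Lib.helper27.fl_centralizer_facts z (hb z hzP hz)
  obtain ⟨M, hM⟩ := Cfsg.Agent.Lib.helper76.exists_isPModular p hp
  have hσ := Cfsg.Agent.Lib.helper27.fl_sigma hM z hz hidx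
  have hPC : (P : Subgroup G) ≤ Subgroup.centralizer ({z} : Set G) := by
    intro u hu
    rw [Subgroup.mem_centralizer_iff]
    intro h hh
    rw [Set.mem_singleton_iff] at hh
    rw [hh]
    exact hPc z hzP u hu
  have hqeq : p ^ (Nat.card ↥(Subgroup.centralizer ({z} : Set G))).factorization p
      = Nat.card (P : Subgroup G) := by
    rw [Sylow.card_eq_multiplicity P]
    congr 1
    apply le_antisymm
    · exact (Nat.factorization_le_iff_dvd Nat.card_pos.ne' Nat.card_pos.ne').mpr
        (Subgroup.card_subgroup_dvd_card _) p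
    · have h1 : Nat.card (P : Subgroup G) ∣ Nat.card ↥(Subgroup.centralizer ({z} : Set G)) :=
        Subgroup.card_dvd_of_le hPC
      rw [Sylow.card_eq_multiplicity P] at h1
      exact (hp.pow_dvd_iff_le_factorization Nat.card_pos.ne').mp h1
  rw [hqeq] at hσ
  have hq3 : 3 ≤ Nat.card (P : Subgroup G) := by
    have h1 : orderOf (⟨z, hzP⟩ : (P : Subgroup G)) ∣ Nat.card (P : Subgroup G) :=
      orderOf_dvd_natCard _
    rw [Subgroup.orderOf_mk, hz] at h1
    exact hp3.trans (Nat.le_of_dvd Nat.card_pos h1)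
  -- degree congruences
  have hdeg : ∀ χ : IrrCharacter G, χ ≠ Cfsg.Agent.Lib.helper81.trivChar G →
      ∃ (a : ℤ) (m : ℕ), (χ : G → ℂ) z = (a : ℂ) ∧
        (charDegree (χ : G → ℂ) : ℤ) = a + (Nat.card (P : Subgroup G) : ℕ) * m ∧ 1 ≤ m := by
    intro χ hχ
    exact Cfsg.Agent.Lib.helper27.fl_degree_congr (P : Subgroup G) z hz1
      (fun u hu hu1 => by
        obtain ⟨c, hc⟩ := hconj z hzP u hu hz1 hu1
        exact isConj_iff.mpr ⟨c, hc⟩)
      (Nat.card (P : Subgroup G)) rfl (by omega) χ hχ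
  -- the counting hypothesis
  have hcount : ∀ (g h : G) (i j : ℕ), 1 ≤ i → i < j → j < p →
      ¬ p ∣ orderOf (g * z ^ i * g⁻¹ * (h * z * h⁻¹)) →
      ¬ p ∣ orderOf (g * z ^ j * g⁻¹ * (h * z * h⁻¹)) → False := by
    intro g h i j hi hij hjp h1 h2
    set x := g * z * g⁻¹ with hxdef
    set y := h * z * h⁻¹ with hydef
    have hxo : orderOf x = p := by
      have e : x = MulAut.conj g z := by rw [hxdef, MulAut.conj_apply]
      rw [e, MulEquiv.orderOf_eq, hz]
    have hyo : orderOf y = p := by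
      have e : y = MulAut.conj h z := by rw [hydef, MulAut.conj_apply]
      rw [e, MulEquiv.orderOf_eq, hz]
    have hxi : ∀ n : ℕ, g * z ^ n * g⁻¹ = x ^ n := fun n => by rw [hxdef, conj_pow]
    rw [hxi] at h1 h2
    have hxH : x ∈ Subgroup.closure ({x, y} : Set G) := Subgroup.subset_closure (by simp)
    have hyH : y ∈ Subgroup.closure ({x, y} : Set G) := Subgroup.subset_closure (by simp)
    have hS := hc x y hxo hyo
    have hab : ∀ S : Sylow p ↥(Subgroup.closure ({x, y} : Set G)),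
        ∀ a ∈ (S : Subgroup ↥(Subgroup.closure ({x, y} : Set G))),
        ∀ b ∈ (S : Subgroup ↥(Subgroup.closure ({x, y} : Set G))), a * b = b * a := by
      intro S a ha' b hb'
      have hT : IsPGroup p ((S : Subgroup ↥(Subgroup.closure ({x, y} : Set G))).map
          (Subgroup.closure ({x, y} : Set G)).subtype) := S.2.map _
      have h3 := Cfsg.Agent.Lib.helper27.fl_pgroup_comm P hPc _ hT (a : G)
        (Subgroup.mem_map_of_mem _ ha') (b : G) (Subgroup.mem_map_of_mem _ hb')
      exact Subtype.ext h3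
    refine Cfsg.Agent.Lib.helper27.not_both_pRegular_of_isPSolvable hS hab ⟨x, hxH⟩ ⟨y, hyH⟩
      ?_ ?_ i j hij ?_ ?_ ?_
    · rw [Subgroup.orderOf_mk, hxo]
    · rw [Subgroup.orderOf_mk, hyo]
    · intro hd
      have := Nat.le_of_dvd (by omega) hd
      omega
    · have e : ((⟨x, hxH⟩ : ↥(Subgroup.closure ({x, y} : Set G))) ^ i * ⟨y, hyH⟩)
          = ⟨x ^ i * y, Subgroup.mul_mem _ (Subgroup.pow_mem _ hxH i) hyH⟩ := rfl
      rw [e, Subgroup.orderOf_mk]
      exact h1
    · have e : ((⟨x, hxH⟩ : ↥(Subgroup.closure ({x, y} : Set G))) ^ j * ⟨y, hyH⟩)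
          = ⟨x ^ j * y, Subgroup.mul_mem _ (Subgroup.pow_mem _ hxH j) hyH⟩ := rfl
      rw [e, Subgroup.orderOf_mk]
      exact h2
  exact Cfsg.Agent.Lib.helper27.fl_core hM z hz hconj' hpel hreg (Nat.card (P : Subgroup G)) hp3 hq3
    hσ hdeg hcount

end Cfsg.Agent.S1951
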