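import Cfsg.Statements.S0100
import Cfsg.Agent.Lib.helper3.ElemAb
import Cfsg.Agent.S0126

set_option autoImplicit false
open Cfsg

namespace Cfsg.Agent.S0100

/-- For odd p, a p-group without normal elementary abelian subgroups of order p^3 has p-rank at most 2. -/
theorem result {P : Type*} [Group P] [Finite P] {p : ℕ} [Fact p.Prime] (hp : p ≠ 2) (hP : IsPGroup p P) (h : ∀ A : Subgroup P, A.Normal → IsMulCommutative A → (∀ a ∈ A, a ^ p = 1) → Nat.card A ≠ p ^ 3) (E : Subgroup P) (hE : IsMulCommutative E) (hEe : ∀ e ∈ E, e ^ p = 1) : Nat.card E ≤ p ^ 2 := by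
  have hpP : p.Prime := Fact.out
  by_contra hcon
  push Not at hcon
  -- `P` is not cyclic
  have hnc : ¬ IsCyclic P := by
    intro hc
    have hEc : IsCyclic E := inferInstance
    obtain ⟨g, hg⟩ := hEc.exists_generator
    have h1 : Nat.card E = orderOf g := (orderOf_eq_card_of_forall_mem_zpowers hg).symm
    have h2 : orderOf g ≤ p := by
      apply Nat.le_of_dvd hpP.pos
      apply orderOf_dvd_of_pow_eq_one
      apply Subtype.ext
      exact hEe g.1 g.2
    have h3 : p ≤ p ^ 2 := by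
      calc p = p ^ 1 := (pow_one p).symm
        _ ≤ p ^ 2 := Nat.pow_le_pow_right hpP.pos (by norm_num)
    omega
  obtain ⟨E₀, hE₀n, hE₀, hE₀card⟩ := Cfsg.Agent.S0126.result hp hP hnc
  have hCi := Cfsg.Agent.Lib.helper3.index_centralizer_le hP E₀ hE₀card
  -- the intersection of `E` with the centralizer of `E₀`
  have hrel : (E ⊓ Subgroup.centralizer (E₀ : Set P)).relIndex E ≤ p := by
    rw [Subgroup.inf_relIndex_left]
    have h1 : (Subgroup.centralizer (E₀ : Set P)).relIndex E ∣
        (Subgroup.centralizer (E₀ : Set P)).index := Subgroup.relIndex_dvd_index_of_normal _ _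
    have h2 : 0 < (Subgroup.centralizer (E₀ : Set P)).index :=
      Nat.pos_of_ne_zero Subgroup.index_ne_zero_of_finite
    exact (Nat.le_of_dvd h2 h1).trans hCi
  have hmul := Cfsg.Agent.Lib.helper3.card_mul_relIndex_of_le
    (inf_le_left : E ⊓ Subgroup.centralizer (E₀ : Set P) ≤ E)
  have hcardI : p ^ 2 ≤ Nat.card (E ⊓ Subgroup.centralizer (E₀ : Set P) : Subgroup P) := by
    obtain ⟨a, ha⟩ := IsPGroup.iff_card.mp (hP.to_subgroup E)
    obtain ⟨b, hb⟩ := IsPGroup.iff_card.mp
      (hP.to_subgroup (E ⊓ Subgroup.centralizer (E₀ : Set P)))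
    rw [ha] at hcon hmul
    rw [hb] at hmul ⊢
    have ha3 : 2 < a := (Nat.pow_lt_pow_iff_right hpP.one_lt).mp hcon
    have h1 : p ^ a ≤ p ^ b * p := by
      rw [← hmul]
      exact Nat.mul_le_mul_left _ hrel
    rw [← pow_succ] at h1
    have h2 : a ≤ b + 1 := (Nat.pow_le_pow_iff_right hpP.one_lt).mp h1
    exact Nat.pow_le_pow_right hpP.pos (by omega)
  -- an element of order `p` centralizing `E₀` outside `E₀`
  have hex : ∃ x ∈ E ⊓ Subgroup.centralizer (E₀ : Set P), x ∉ E₀ := by
    by_contra hno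
    push Not at hno
    have hle : E ⊓ Subgroup.centralizer (E₀ : Set P) ≤ E₀ := hno
    have heq : E ⊓ Subgroup.centralizer (E₀ : Set P) = E₀ :=
      Subgroup.eq_of_le_of_card_ge hle (by rw [hE₀card]; exact hcardI)
    have hE₀E : E₀ ≤ E := by
      rw [← heq]; exact inf_le_left
    have hEC : E ≤ Subgroup.centralizer (E₀ : Set P) := by
      intro a ha
      refine Subgroup.mem_centralizer_iff.mpr ?_
      intro e he
      have := hE.is_comm.comm (⟨e, hE₀E he⟩ : E) ⟨a, ha⟩
      exact congrArg Subtype.val this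
    rw [inf_eq_left.mpr hEC] at heq
    rw [heq, hE₀card] at hcon
    exact lt_irrefl _ hcon
  obtain ⟨x, hx, hxE₀⟩ := hex
  have hxc : ∀ e ∈ E₀, x * e = e * x := fun e he =>
    ((Subgroup.mem_centralizer_iff.mp hx.2) e he).symm
  obtain ⟨A, hAn, hA, -, hAcard⟩ := Cfsg.Agent.Lib.helper3.exists_normal_extension hp hP E₀ hE₀
    x hxE₀ (hEe x hx.1) hxc
  apply h A hAn hA.1 hA.2
  rw [hAcard, hE₀card]
  ring

end Cfsg.Agent.S0100
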