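import Mathlib
import Cfsg.Statements.S0713

set_option autoImplicit false
open Cfsg

namespace Cfsg.Agent.S0713

open MulAction SubMulAction Subgroup

open scoped Pointwise

lemma not_sq_dvd_factorial {p : ℕ} (hp : p.Prime) : ¬ p ^ 2 ∣ p.factorial := by
  intro h
  obtain ⟨m, hm⟩ : ∃ m, p = m + 1 := ⟨p - 1, by have := hp.pos; omega⟩
  rw [hm, Nat.factorial_succ, ← hm, sq] at h
  have h2 : p ∣ m.factorial := Nat.dvd_of_mul_dvd_mul_left hp.pos h
  have h3 := (hp.dvd_factorial).mp h2
  omega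

/-- Sylow step: an element of `G` stabilising the support of the `p`-cycle `g` can be corrected by an
element fixing the complement of the support so that it normalises `⟨g⟩`. -/
lemma sylow_part {α : Type*} [Fintype α] [DecidableEq α] (G : Subgroup (Equiv.Perm α)) {p : ℕ}
    [hp : Fact p.Prime] {g : Equiv.Perm α} (hgo : orderOf g = p) (hgp : g.support.card = p)
    (hg : g ∈ G) (x : Equiv.Perm α) (hx : x ∈ G)
    (hxs : ∀ z, x z ∈ g.support ↔ z ∈ g.support) :
    ∃ y ∈ G, (∀ z, z ∉ g.support → y z = x z) ∧ ∃ k : ℤ, y * g * y⁻¹ = g ^ k := by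
  classical
  let F : Subgroup (Equiv.Perm α) :=
    { carrier := {σ | σ ∈ G ∧ ∀ z, z ∉ g.support → σ z = z}
      mul_mem' := by
        rintro σ τ ⟨h1, h2⟩ ⟨h3, h4⟩
        exact ⟨G.mul_mem h1 h3, fun z hz => by rw [Equiv.Perm.mul_apply, h4 z hz, h2 z hz]⟩
      one_mem' := ⟨G.one_mem, fun z _ => rfl⟩
      inv_mem' := by
        rintro σ ⟨h1, h2⟩
        refine ⟨G.inv_mem h1, fun z hz => ?_⟩
        rw [Equiv.Perm.inv_eq_iff_eq]
        exact (h2 z hz).symm }
  have hF : ∀ σ, σ ∈ F ↔ σ ∈ G ∧ ∀ z, z ∉ g.support → σ z = z := fun σ => Iff.rfl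
  have hgF : g ∈ F := ⟨hg, fun z hz => Equiv.Perm.notMem_support.mp hz⟩
  have hg'F : x * g * x⁻¹ ∈ F := by
    refine ⟨G.mul_mem (G.mul_mem hx hg) (G.inv_mem hx), fun z hz => ?_⟩
    have h1 : x⁻¹ z ∉ g.support := by
      rw [← hxs]
      simpa using hz
    simp only [Equiv.Perm.mul_apply]
    rw [Equiv.Perm.notMem_support.mp h1]
    simp
  -- cardinality bound
  have hcard : Nat.card F ∣ p.factorial := by
    have hle : F ≤ (Equiv.Perm.ofSubtype :
        Equiv.Perm {z // z ∈ g.support} →* Equiv.Perm α).range := by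
      rintro σ ⟨hσG, hσ⟩
      have h1 : ∀ z, σ z ∈ g.support ↔ z ∈ g.support := by
        intro z
        constructor
        · intro h
          by_contra hz
          rw [hσ z hz] at h
          exact hz h
        · intro h
          by_contra hz
          have := hσ (σ z) hz
          have h2 : σ z = z := σ.injective this
          rw [h2] at hz
          exact hz h
      have h2 : ∀ z, σ z ≠ z → z ∈ g.support := by
        intro z hz
        by_contra hzn
        exact hz (hσ z hzn)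
      exact ⟨σ.subtypePerm h1, Equiv.Perm.ofSubtype_subtypePerm h1 h2⟩
    have h3 := Subgroup.card_dvd_of_le hle
    have h4 : Nat.card (Equiv.Perm.ofSubtype :
        Equiv.Perm {z // z ∈ g.support} →* Equiv.Perm α).range = p.factorial := by
      rw [← Nat.card_congr (MonoidHom.ofInjective (f := (Equiv.Perm.ofSubtype :
        Equiv.Perm {z // z ∈ g.support} →* Equiv.Perm α))
        Equiv.Perm.ofSubtype_injective).toEquiv,
        Nat.card_perm, Nat.card_eq_fintype_card, Fintype.card_coe, hgp]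
    rwa [h4] at h3
  -- the Sylow subgroup
  have hP0 : IsPGroup p (zpowers (⟨g, hgF⟩ : F)) := by
    apply IsPGroup.of_card (n := 1)
    rw [Nat.card_zpowers, pow_one, ← hgo, Subgroup.orderOf_mk]
  obtain ⟨Q, hQ⟩ := hP0.exists_le_sylow
  have hQcard : Nat.card Q = p := by
    obtain ⟨n, hn⟩ := IsPGroup.iff_card.mp Q.isPGroup'
    have h1 : Nat.card (zpowers (⟨g, hgF⟩ : F)) ∣ Nat.card Q := Subgroup.card_dvd_of_le hQ
    rw [Nat.card_zpowers, Subgroup.orderOf_mk, hgo, hn] at h1
    have h2 : Nat.card Q ∣ Nat.card F := Subgroup.card_subgroup_dvd_card _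
    rw [hn] at h2
    have h3 : p ^ n ∣ p.factorial := h2.trans hcard
    have hn1 : n = 1 := by
      rcases Nat.lt_or_ge n 2 with hlt | hge
      · interval_cases n
        · rw [pow_zero] at h1
          exact absurd (Nat.le_of_dvd Nat.one_pos h1) (by have := hp.out.two_le; omega)
        · rfl
      · exact absurd ((pow_dvd_pow p hge).trans h3) (not_sq_dvd_factorial hp.out)
    rw [hn, hn1, pow_one]
  have hQeq : zpowers (⟨g, hgF⟩ : F) = (Q : Subgroup F) := by
    apply Subgroup.eq_of_le_of_card_ge hQ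
    rw [hQcard, Nat.card_zpowers, Subgroup.orderOf_mk, hgo]
  have hP0' : IsPGroup p (zpowers (⟨x * g * x⁻¹, hg'F⟩ : F)) := by
    apply IsPGroup.of_card (n := 1)
    rw [Nat.card_zpowers, pow_one, ← hgo, Subgroup.orderOf_mk]
    have := MulEquiv.orderOf_eq (MulAut.conj x) g
    simpa [MulAut.conj_apply] using this
  obtain ⟨Q', hQ'⟩ := hP0'.exists_le_sylow
  obtain ⟨f, hf⟩ := MulAction.exists_smul_eq F Q' Q
  have h1 : (⟨x * g * x⁻¹, hg'F⟩ : F) ∈ (Q' : Subgroup F) := hQ' (mem_zpowers _)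
  have h2 : MulAut.conj f • (⟨x * g * x⁻¹, hg'F⟩ : F) ∈ MulAut.conj f • (Q' : Subgroup F) :=
    Subgroup.smul_mem_pointwise_smul _ _ _ h1
  rw [← Sylow.coe_subgroup_smul, hf, ← hQeq] at h2
  obtain ⟨k, hk⟩ := Subgroup.mem_zpowers_iff.mp h2
  refine ⟨(f : Equiv.Perm α) * x, G.mul_mem f.2.1 hx, ?_, k, ?_⟩
  · intro z hz
    rw [Equiv.Perm.mul_apply]
    apply f.2.2
    rw [hxs]; exact hz
  · have h3 := congrArg (Subtype.val : F → Equiv.Perm α) hk
    simp only [MulAut.smul_def, MulAut.conj_apply] at h3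
    rw [mul_inv_rev]
    simp only [Subgroup.coe_zpow, Subgroup.coe_mul, Subgroup.coe_inv] at h3
    rw [h3]
    group

lemma ext_perm {α : Type*} [Fintype α] [DecidableEq α] (G : Subgroup (Equiv.Perm α)) {k : ℕ}
    (hk : IsMultiplyPretransitive G α k) (s : Finset α) (hs : s.card = k) (π : Equiv.Perm α) :
    ∃ x ∈ G, ∀ z ∈ s, x z = π z := by
  let e1 : Fin k ↪ α :=
    (s.equivFinOfCardEq hs).symm.toEmbedding.trans (Function.Embedding.subtype _)
  let e2 : Fin k ↪ α := e1.trans π.toEmbedding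
  obtain ⟨x, hx⟩ := hk.exists_smul_eq e1 e2
  refine ⟨x, x.2, fun z hz => ?_⟩
  have h := congrArg (fun e : Fin k ↪ α => e (s.equivFinOfCardEq hs ⟨z, hz⟩)) hx
  have h' : x • z = π z := by simpa [e1, e2] using h
  exact h'

lemma preserve {α : Type*} [Fintype α] [DecidableEq α] {x π : Equiv.Perm α} {s : Finset α}
    (hπ : ∀ z, z ∉ s → π z ∉ s) (hx : ∀ z, z ∉ s → x z = π z) : ∀ z, x z ∈ s ↔ z ∈ s := by
  have himg : (sᶜ).image x = sᶜ := by
    apply Finset.eq_of_subset_of_card_le
    · intro w hw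
      obtain ⟨z, hz, rfl⟩ := Finset.mem_image.mp hw
      rw [Finset.mem_compl] at hz ⊢
      rw [hx z hz]; exact hπ z hz
    · rw [Finset.card_image_of_injective _ x.injective]
  intro z
  constructor
  · intro h
    by_contra hz
    have := hπ z hz
    rw [← hx z hz] at this
    exact this h
  · intro h
    by_contra hz
    have h1 : x z ∈ (sᶜ).image x := by rw [himg, Finset.mem_compl]; exact hz
    obtain ⟨z', hz', hzz⟩ := Finset.mem_image.mp h1
    rw [Finset.mem_compl] at hz'
    rw [x.injective hzz] at hz'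
    exact hz' h

lemma swap_not_mem {α : Type*} [DecidableEq α] {s : Finset α} {a b : α} (ha : a ∉ s)
    (hb : b ∉ s) : ∀ z, z ∉ s → Equiv.swap a b z ∉ s := by
  intro z hz
  rw [Equiv.swap_apply_def]
  split_ifs <;> assumption

/-- Jordan's Theorem: a primitive permutation group of degree `n ≥ 5` containing a `p`-cycle for a prime `p ≤ n - 3` contains the alternating group. -/
theorem result {α : Type*} [Fintype α] [DecidableEq α] (G : Subgroup (Equiv.Perm α)) (hG : MulAction.IsPreprimitive G α) {p : ℕ} (hp : p.Prime) (hn : 5 ≤ Fintype.card α) (hpn : p + 3 ≤ Fintype.card α) {g : Equiv.Perm α} (hgc : g.IsCycle) (hgp : g.support.card = p) (hg : g ∈ G) : alternatingGroup α ≤ G := by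
  classical
  have : Fact p.Prime := ⟨hp⟩
  have hp2 := hp.two_le
  have hgo : orderOf g = p := by rw [hgc.orderOf, hgp]
  have hΓcard : (g.supportᶜ : Finset α).card = Fintype.card α - p := by
    rw [Finset.card_compl, hgp]
  obtain ⟨m, hm⟩ : ∃ m, Fintype.card α - p = m + 1 := ⟨Fintype.card α - p - 1, by omega⟩
  have hmp : IsMultiplyPreprimitive G α (m + 2) := by
    apply hG.isMultiplyPreprimitive (s := ((g.support : Set α))ᶜ)
    · have h1 := Set.ncard_add_ncard_compl (g.support : Set α)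
      rw [Set.ncard_coe_finset, hgp, Nat.card_eq_fintype_card] at h1
      omega
    · rw [Nat.card_eq_fintype_card]; omega
    · have := Equiv.Perm.isPretransitive_of_isCycle_mem hgc hg
      apply IsPreprimitive.of_prime_card
      convert hp
      rw [Nat.card_eq_fintype_card, Fintype.card_subtype, ← hgp]
      apply congr_arg
      ext x
      simp [SubMulAction.mem_ofFixingSubgroup_iff]
  have hmt : IsMultiplyPretransitive G α (m + 1) := by
    have := hmp.isMultiplyPretransitive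
    exact isMultiplyPretransitive_of_le (n := m + 2) (by omega)
      (by rw [Nat.card_eq_fintype_card]; omega)
  -- three points outside the support
  have h3 : 2 < (g.supportᶜ : Finset α).card := by rw [hΓcard]; omega
  obtain ⟨a, b, c, ha, hb, hc, hab, hac, hbc⟩ := Finset.two_lt_card_iff.mp h3
  rw [Finset.mem_compl] at ha hb hc
  obtain ⟨x1, hx1G, hx1⟩ := ext_perm G hmt (g.supportᶜ) (by rw [hΓcard, hm]) (Equiv.swap a b)
  obtain ⟨x2, hx2G, hx2⟩ := ext_perm G hmt (g.supportᶜ) (by rw [hΓcard, hm]) (Equiv.swap a c)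
  have hx1' : ∀ z, z ∉ g.support → x1 z = Equiv.swap a b z :=
    fun z hz => hx1 z (Finset.mem_compl.mpr hz)
  have hx2' : ∀ z, z ∉ g.support → x2 z = Equiv.swap a c z :=
    fun z hz => hx2 z (Finset.mem_compl.mpr hz)
  obtain ⟨y1, hy1G, hy1, k1, hk1⟩ := sylow_part G hgo hgp hg x1 hx1G
    (preserve (swap_not_mem ha hb) hx1')
  obtain ⟨y2, hy2G, hy2, k2, hk2⟩ := sylow_part G hgo hgp hg x2 hx2G
    (preserve (swap_not_mem ha hc) hx2')
  have hy1s : ∀ z, z ∉ g.support → y1 z = Equiv.swap a b z :=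
    fun z hz => (hy1 z hz).trans (hx1' z hz)
  have hy2s : ∀ z, z ∉ g.support → y2 z = Equiv.swap a c z :=
    fun z hz => (hy2 z hz).trans (hx2' z hz)
  have hy1i : ∀ z, z ∉ g.support → y1⁻¹ z = Equiv.swap a b z := by
    intro z hz
    rw [Equiv.Perm.inv_eq_iff_eq, hy1s _ (swap_not_mem ha hb z hz), Equiv.swap_apply_self]
  have hy2i : ∀ z, z ∉ g.support → y2⁻¹ z = Equiv.swap a c z := by
    intro z hz
    rw [Equiv.Perm.inv_eq_iff_eq, hy2s _ (swap_not_mem ha hc z hz), Equiv.swap_apply_self]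
  set cc : Equiv.Perm α := y1⁻¹ * y2⁻¹ * y1 * y2 with hcc
  have hccG : cc ∈ G :=
    G.mul_mem (G.mul_mem (G.mul_mem (G.inv_mem hy1G) (G.inv_mem hy2G)) hy1G) hy2G
  -- cc commutes with g
  have hA : (y1 * y2) * g * (y1 * y2)⁻¹ = g ^ (k1 * k2) := by
    have : (y1 * y2) * g * (y1 * y2)⁻¹ = y1 * (y2 * g * y2⁻¹) * y1⁻¹ := by group
    rw [this, hk2, ← conj_zpow, hk1, ← zpow_mul]
  have hB : (y2 * y1) * g * (y2 * y1)⁻¹ = g ^ (k1 * k2) := by
    have : (y2 * y1) * g * (y2 * y1)⁻¹ = y2 * (y1 * g * y1⁻¹) * y2⁻¹ := by group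
    rw [this, hk1, ← conj_zpow, hk2, ← zpow_mul, mul_comm]
  have hcomm : cc * g = g * cc := by
    have e1 : (y1 * y2) * g = g ^ (k1 * k2) * (y1 * y2) := by
      rw [← hA]; group
    have e2 : (y2 * y1)⁻¹ * g ^ (k1 * k2) = g * (y2 * y1)⁻¹ := by
      rw [← hB]; group
    have e3 : cc = (y2 * y1)⁻¹ * (y1 * y2) := by rw [hcc]; group
    rw [e3, mul_assoc, e1, ← mul_assoc, e2, mul_assoc]
  -- action of cc off the support
  set t : Equiv.Perm α := (Equiv.swap a b * Equiv.swap a c) * (Equiv.swap a b * Equiv.swap a c)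
    with ht
  have hcc_off : ∀ z, z ∉ g.support → cc z = t z := by
    intro z hz
    have hz1 := swap_not_mem ha hc z hz
    have hz2 := swap_not_mem ha hb _ hz1
    have hz3 := swap_not_mem ha hc _ hz2
    simp only [hcc, ht, Equiv.Perm.mul_apply]
    rw [hy2s z hz, hy1s _ hz1, hy2i _ hz2, hy1i _ hz3]
  -- action of cc on the support
  have hsupp_ne : g.support.Nonempty := by
    rw [← Finset.card_pos, hgp]; omega
  obtain ⟨z0, hz0⟩ := hsupp_ne
  have hz0' : g z0 ≠ z0 := Equiv.Perm.mem_support.mp hz0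
  have hcz0 : g (cc z0) ≠ cc z0 := by
    have := congrArg (fun f : Equiv.Perm α => f z0) hcomm
    simp only [Equiv.Perm.mul_apply] at this
    rw [← this]
    exact fun h => hz0' (cc.injective h)
  obtain ⟨i, hi⟩ := hgc.exists_zpow_eq hz0' hcz0
  have hcommz : ∀ j : ℤ, cc * g ^ j = g ^ j * cc := fun j =>
    (Commute.zpow_right (show Commute cc g from hcomm) j)
  have hcc_on : ∀ z, z ∈ g.support → cc z = (g ^ i) z := by
    intro z hz
    obtain ⟨j, hj⟩ := hgc.exists_zpow_eq hz0' (Equiv.Perm.mem_support.mp hz)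
    rw [← hj]
    have e1 := congrArg (fun f : Equiv.Perm α => f z0) (hcommz j)
    simp only [Equiv.Perm.mul_apply] at e1
    rw [e1, ← hi, ← Equiv.Perm.mul_apply, ← Equiv.Perm.mul_apply, ← zpow_add, ← zpow_add,
      add_comm]
  have hh : cc * g ^ (-i) = t := by
    ext z
    rw [Equiv.Perm.mul_apply]
    by_cases hz : z ∈ g.support
    · have hz' : (g ^ (-i)) z ∈ g.support := Equiv.Perm.zpow_apply_mem_support.mpr hz
      rw [hcc_on _ hz', ← Equiv.Perm.mul_apply, ← zpow_add, add_neg_cancel, zpow_zero,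
        Equiv.Perm.one_apply]
      have hza : z ≠ a := fun h => ha (h ▸ hz)
      have hzb : z ≠ b := fun h => hb (h ▸ hz)
      have hzc : z ≠ c := fun h => hc (h ▸ hz)
      simp only [ht, Equiv.Perm.mul_apply]
      rw [Equiv.swap_apply_of_ne_of_ne hza hzc, Equiv.swap_apply_of_ne_of_ne hza hzb,
        Equiv.swap_apply_of_ne_of_ne hza hzc, Equiv.swap_apply_of_ne_of_ne hza hzb]
    · have hz' : (g ^ (-i)) z = z :=
        Equiv.Perm.zpow_apply_eq_self_of_apply_eq_self (Equiv.Perm.notMem_support.mp hz) _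
      rw [hz', hcc_off z hz]
  have htG : t ∈ G := by
    rw [← hh]
    exact G.mul_mem hccG (G.zpow_mem hg _)
  have ht3 : t.IsThreeCycle :=
    (Equiv.Perm.isThreeCycle_swap_mul_swap_same hab hac hbc).isThreeCycle_sq
  exact Equiv.Perm.alternatingGroup_le_of_isPreprimitive_of_isThreeCycle_mem hG ht3 htG

end Cfsg.Agent.S0713
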