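import Cfsg.Statements.S1445
import Mathlib
import Cfsg.Agent.Lib.helper29.PQR2

set_option autoImplicit false
open Cfsg

namespace Cfsg.Agent.S1445

open scoped commutatorElement

open Cfsg.Agent.Lib.helper29 in
/-- Let G be a solvable group of odd order, K a normal subgroup and R a subgroup with G = KR and the orders of K and R coprime. Suppose K ∩ C_G(x) = K ∩ C_G(R) for every non-identity x ∈ R, and F(K) ∩ C_G(R) = 1. Then [K, R] is contained in the Fitting subgroup of K. -/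
theorem result {G : Type*} [Group G] [Finite G] [Group.IsSolvable G] (hodd : Odd (Nat.card G)) (K R : Subgroup G) [K.Normal] (hKR : K ⊔ R = ⊤) (hcop : (Nat.card K).Coprime (Nat.card R))
    (hprime : ∀ x ∈ R, x ≠ 1 → K ⊓ Subgroup.centralizer ({x} : Set G) = (K ⊓ Subgroup.centralizer (R : Set G)))
    (hF : Cfsg.fittingOf K ⊓ Subgroup.centralizer (R : Set G) = ⊥) :
    ⁅K, R⁆ ≤ Cfsg.fittingOf K := by
  classical
  by_cases hR1 : R = ⊥
  · rw [hR1, Subgroup.commutator_bot_right]; exact bot_le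
  have hRnt : Nontrivial R := (Subgroup.nontrivial_iff_ne_bot R).mpr hR1
  have hcard : 1 < Nat.card R := Finite.one_lt_card
  obtain ⟨r, hrp, hrd⟩ := Nat.exists_prime_and_dvd (ne_of_gt hcard)
  have : Fact r.Prime := ⟨hrp⟩
  obtain ⟨x₀, hx₀⟩ := exists_prime_orderOf_dvd_card' r hrd
  obtain ⟨x, hx⟩ : ∃ x : G, x = (x₀ : G) := ⟨_, rfl⟩
  have hxR : x ∈ R := hx ▸ x₀.2
  have hxo : orderOf x = r := by rw [hx, Subgroup.orderOf_coe, hx₀]
  have hx1 : x ≠ 1 := by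
    intro h; rw [h, orderOf_one] at hxo; exact hrp.one_lt.ne hxo
  obtain ⟨R₀, hR₀⟩ : ∃ R₀ : Subgroup G, R₀ = Subgroup.zpowers x := ⟨_, rfl⟩
  have hR₀R : R₀ ≤ R := by rw [hR₀, Subgroup.zpowers_le]; exact hxR
  have hR₀c : Nat.card R₀ = r := by rw [hR₀, Nat.card_zpowers, hxo]
  have hoddK : Odd (Nat.card K) := Odd.of_dvd_nat hodd (Subgroup.card_subgroup_dvd_card K)
  have hcop₀ : (Nat.card R₀).Coprime (Nat.card K) :=
    Nat.Coprime.coprime_dvd_left (Subgroup.card_dvd_of_le hR₀R) hcop.symm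
  have hcent : Subgroup.centralizer (R₀ : Set G) ≤ Subgroup.centralizer ({x} : Set G) := by
    apply Subgroup.centralizer_le
    rw [Set.singleton_subset_iff, hR₀]; exact Subgroup.mem_zpowers x
  have hfix₀ : Cfsg.fittingOf K ⊓ Subgroup.centralizer (R₀ : Set G) = ⊥ := by
    rw [eq_bot_iff, ← hF]
    intro y hy
    obtain ⟨hyF, hyC⟩ := Subgroup.mem_inf.mp hy
    have h1 : y ∈ K ⊓ Subgroup.centralizer ({x} : Set G) :=
      Subgroup.mem_inf.mpr ⟨fittingOf_le K hyF, hcent hyC⟩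
    rw [hprime x hxR hx1] at h1
    exact Subgroup.mem_inf.mpr ⟨hyF, (Subgroup.mem_inf.mp h1).2⟩
  have hKs : Group.IsSolvable K := inferInstance
  have hM := comm_le_fittingOf K R₀ hKs hoddK (hR₀c ▸ hrp) hcop₀ hfix₀
  have hFn : (Cfsg.fittingOf K).Normal := fittingOf_normal_of_normal K
  rw [Subgroup.commutator_le]
  intro k hk y hy
  have hg : ∀ a ∈ R₀, a * k * a⁻¹ * k⁻¹ ∈ Cfsg.fittingOf K := by
    intro a ha
    have h1 : ⁅k, a⁆ ∈ Cfsg.fittingOf K := hM (Subgroup.commutator_mem_commutator hk ha)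
    have h2 := (Cfsg.fittingOf K).inv_mem h1
    rw [commutatorElement_inv, commutatorElement_def] at h2
    exact h2
  have hR₀s : Group.IsSolvable R₀ := inferInstance
  obtain ⟨c, hc, hck⟩ := Cfsg.Agent.Lib.helper1.coset_fixed R₀ (Cfsg.fittingOf K)
    (by rw [Subgroup.normalizer_eq_top_iff.mpr hFn]; exact le_top)
    (Nat.Coprime.coprime_dvd_right (Subgroup.card_dvd_of_le (fittingOf_le K)) hcop₀)
    (Or.inl hR₀s) k hg
  have hcK : c ∈ K := by
    have h3 := K.mul_mem (fittingOf_le K hck) hk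
    simpa using h3
  have hc2 : c ∈ K ⊓ Subgroup.centralizer ({x} : Set G) :=
    Subgroup.mem_inf.mpr ⟨hcK, hcent hc⟩
  rw [hprime x hxR hx1] at hc2
  have hcy : y * c = c * y := Subgroup.mem_centralizer_iff.mp (Subgroup.mem_inf.mp hc2).2 y hy
  obtain ⟨f, hf⟩ : ∃ f, f = c * k⁻¹ := ⟨_, rfl⟩
  have hfF : f ∈ Cfsg.fittingOf K := hf ▸ hck
  have hk' : k = f⁻¹ * c := by rw [hf]; group
  have e : ⁅k, y⁆ = f⁻¹ * (y * f * y⁻¹) := by
    rw [commutatorElement_def, hk']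
    calc f⁻¹ * c * y * (f⁻¹ * c)⁻¹ * y⁻¹ = f⁻¹ * (c * y) * c⁻¹ * f * y⁻¹ := by group
      _ = f⁻¹ * (y * c) * c⁻¹ * f * y⁻¹ := by rw [hcy]
      _ = f⁻¹ * (y * f * y⁻¹) := by group
  rw [e]
  exact (Cfsg.fittingOf K).mul_mem ((Cfsg.fittingOf K).inv_mem hfF) (hFn.conj_mem f hfF y)

end Cfsg.Agent.S1445
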