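import Cfsg.Statements.S5206
import Cfsg.Agent.Lib.helper3.QdData
import Cfsg.Agent.Lib.helper88.Model7
import Cfsg.Agent.Lib.helper88.GT3
import Cfsg.Agent.Lib.helper88.GroupSat
import Cfsg.Agent.Lib.helper87.SubgroupSystem
import Cfsg.Agent.Lib.helper87.SylowIn2

set_option autoImplicit false
universe u
open Cfsg

namespace Cfsg.Agent.S5206

open Cfsg.FusionSystem Cfsg.Agent.Lib.helper3 Cfsg.Agent.Lib.helper87 Cfsg.Agent.Lib.helper88

/-- If `G` does not involve `Qd(p)`, no model of a normalizer system of `F_P(G)` does: the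
`Qd(p)`-data of a model is pulled back to `G` through the realisation. -/
theorem sectionFree_of_not_involves {G : Type u} [Group G] [Finite G] {p : ℕ} [Fact p.Prime]
    (hp : p ≠ 2) (P : Sylow p G) (h : ¬ Cfsg.Involves ↥(Cfsg.qd p) G) :
    (Cfsg.groupFusionSystem (P : Subgroup G)).IsSectionFree p ↥(Cfsg.qd p) := by
  intro Q hfn hcen N hN L _ ι hmodel hinv
  obtain ⟨hLfin, ⟨hιinj, hreal⟩, ⟨T, hT⟩, -⟩ := hmodel
  have hLfin' : Finite L := hLfin
  obtain ⟨U₀, hU₀p, hU₀⟩ := exists_qdData_of_involves hinv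
  obtain ⟨l₀, hl₀⟩ := exists_conj_le_sylow T hU₀p
  set UL : Subgroup L := U₀.map (MulAut.conj l₀).toMonoidHom with hULdef
  have hULp : IsPGroup p UL := isPGroup_map_conj l₀ hU₀p
  have hULdata : QdDataAt p UL Set.univ :=
    (hU₀.map _ (MulAut.conj l₀).injective).mono (Set.subset_univ _)
  have hULr : UL ≤ ι.range := by rw [← hT]; exact hl₀
  set R : Subgroup G := (UL.comap ι).map (normalizerIn (P : Subgroup G) Q).subtype with hRdef
  have hRT : R ≤ (normalizerIn (P : Subgroup G) Q) := Subgroup.map_subtype_le _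
  have hιR : ∀ x : ↥R, ι ⟨x, hRT x.2⟩ ∈ UL := by
    rintro ⟨_, y, hy, rfl⟩
    exact hy
  let eR₀ : ↥R →* ↥UL := (ι.comp (Subgroup.inclusion hRT)).codRestrict UL hιR
  have heR_inj : Function.Injective eR₀ := by
    intro a b hab
    have h1 : ι ⟨a, hRT a.2⟩ = ι ⟨b, hRT b.2⟩ := congrArg Subtype.val hab
    have h2 := hιinj h1
    exact Subtype.ext (Subtype.mk.inj h2)
  have heR_surj : Function.Surjective eR₀ := by
    rintro ⟨u, hu⟩
    obtain ⟨y, rfl⟩ := hULr hu
    exact ⟨⟨y.1, ⟨y, hu, rfl⟩⟩, Subtype.ext rfl⟩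
  let eR : ↥R ≃* ↥UL := MulEquiv.ofBijective eR₀ ⟨heR_inj, heR_surj⟩
  have heR_val : ∀ x : ↥R, (eR x : L) = ι ⟨x, hRT x.2⟩ := fun x => rfl
  have hRp : IsPGroup p R := hULp.of_equiv eR.symm
  have hRdata : QdDataAt p R Set.univ := by
    refine hULdata.transfer eR.symm ?_
    intro n _ hn
    let cn : ↥UL →* ↥UL := ((MulAut.conj n).toMonoidHom.comp UL.subtype).codRestrict UL hn
    let φ : ↥R →* G := R.subtype.comp (eR.symm.toMonoidHom.comp (cn.comp eR.toMonoidHom))
    have hφR : ∀ x : ↥R, φ x ∈ R := fun x => (eR.symm (cn (eR x))).2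
    have hφT : ∀ x : ↥R, φ x ∈ (normalizerIn (P : Subgroup G) Q) := fun x => hRT (hφR x)
    have hφι : ∀ x : ↥R, ι ⟨φ x, hφT x⟩ = n * ι ⟨x, hRT x.2⟩ * n⁻¹ := by
      intro x
      have h1 := heR_val (eR.symm (cn (eR x)))
      rw [eR.apply_symm_apply] at h1
      exact h1.symm
    have hφN : φ ∈ N.Hom R := (hreal R hRT φ hφT).mpr ⟨n, hφι⟩
    rw [hN R] at hφN
    obtain ⟨-, -, g, hg⟩ := hφN.1
    refine ⟨g, fun u hu => ?_⟩
    have hx := hg (eR.symm u)
    have h1 : φ (eR.symm u) = ((eR.symm ⟨n * (u : L) * n⁻¹, hu⟩ : ↥R) : G) := by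
      show ((eR.symm (cn (eR (eR.symm u))) : ↥R) : G) = _
      rw [eR.apply_symm_apply]
      rfl
    have h' : g * ((eR.symm u : ↥R) : G) * g⁻¹ ∈ R := by rw [← hx]; exact hφR _
    exact ⟨h', Subtype.ext (by rw [← h1, hx])⟩
  exact h (involves_qd_of_qdData hp hRp hRdata)

/-- If `G` involves `Qd(p)`, then the model of the normalizer system of a suitable fully normalized
centric subgroup of `F_P(G)` involves `Qd(p)`. -/
theorem not_sectionFree_of_involves {G : Type u} [Group G] [Finite G] {p : ℕ} [Fact p.Prime]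
    (hp : p ≠ 2) (P : Sylow p G) (hinv : Cfsg.Involves ↥(Cfsg.qd p) G) :
    ¬ (Cfsg.groupFusionSystem (P : Subgroup G)).IsSectionFree p ↥(Cfsg.qd p) := by
  intro hfree
  obtain ⟨U₀, hU₀p, hU₀⟩ := exists_qdData_of_involves hinv
  obtain ⟨Q₁, hUQ₁, hQ₁p, hQ₁c, hdata₁⟩ := hU₀.exists_frame hU₀p
  let 𝒬 : Set (Subgroup G) :=
    {Q' | Q' ≤ (P : Subgroup G) ∧ ∃ g : G, Q₁.map (MulAut.conj g).toMonoidHom = Q'}
  have hne : 𝒬.Nonempty := by
    obtain ⟨g, hg⟩ := exists_conj_le_sylow P hQ₁p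
    exact ⟨_, hg, g, rfl⟩
  obtain ⟨Q, ⟨hQP, g, hgQ⟩, hmaxQ⟩ := Set.exists_max_image 𝒬
    (fun Q' => Nat.card (normalizerIn (P : Subgroup G) Q')) (Set.toFinite _) hne
  set F := Cfsg.groupFusionSystem (P : Subgroup G) with hF
  have hfn : F.IsFullyNormalized Q := by
    refine ⟨hQP, fun Q'' hconj => ?_⟩
    obtain ⟨-, hQ''P, k, hk⟩ := (groupFusion_isConj_iff _ _ _).mp hconj
    exact hmaxQ Q'' ⟨hQ''P, k * g, by rw [← hk, ← hgQ, Cfsg.Agent.Lib.helper87.map_conj_mul]⟩
  have hcen : F.IsCentric Q := by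
    refine ⟨hQP, fun Q'' hconj => ?_⟩
    obtain ⟨-, hQ''P, k, hk⟩ := (groupFusion_isConj_iff _ _ _).mp hconj
    have hQ'' : Q'' = Q₁.map (MulAut.conj (k * g)).toMonoidHom := by
      rw [← hk, ← hgQ, Cfsg.Agent.Lib.helper87.map_conj_mul]
    intro x hx
    have hxc : x ∈ Subgroup.centralizer (Q'' : Set G) := hx.2
    rw [hQ'', ← map_conj_centralizer, mem_map_conj] at hxc
    obtain ⟨j, hj⟩ := P.isPGroup' ⟨x, hx.1⟩
    have hj' : x ^ p ^ j = 1 := by simpa using congrArg Subtype.val hj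
    have hpow : ((k * g)⁻¹ * x * (k * g)) ^ p ^ j = 1 := by
      have h1 : (k * g)⁻¹ * x * (k * g) = (k * g)⁻¹ * x * ((k * g)⁻¹)⁻¹ := by rw [inv_inv]
      rw [h1, conj_pow, hj', mul_one, mul_inv_cancel]
    have hy := hQ₁c _ hxc ⟨j, hpow⟩
    rw [hQ'', mem_map_conj]
    exact hy
  set U : Subgroup G := U₀.map (MulAut.conj g).toMonoidHom with hUdef
  have hUQ : U ≤ Q := by rw [← hgQ]; exact Subgroup.map_mono hUQ₁
  have hUp : IsPGroup p U := isPGroup_map_conj g hU₀p
  have hdata : QdDataAt p U (Subgroup.normalizer (Q : Set G) : Set G) := by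
    have h1 := hdata₁.map (MulAut.conj g).toMonoidHom (MulAut.conj g).injective
    refine h1.mono ?_
    rw [← hgQ, ← map_conj_normalizer]
    exact fun x hx => hx
  set T₀ : Subgroup G := normalizerIn (P : Subgroup G) Q with hT₀
  have hT₀le : T₀ ≤ Subgroup.normalizer (Q : Set G) := inf_le_right
  set N : FusionSystem T₀ := fusionSystemOfSubgroup (Subgroup.normalizer (Q : Set G)) T₀ hT₀le
    with hNdef
  have hN : F.IsNormalizerSystem Q N := by
    intro R
    ext φ
    constructor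
    · rintro ⟨hRT, hφT, n, hn, hφn⟩
      have hφP : ∀ x : ↥R, φ x ∈ (P : Subgroup G) := fun x => (hφT x).1
      have hnQ : ∀ q ∈ Q, n * q * n⁻¹ ∈ Q := fun q hq =>
        (Subgroup.mem_normalizer_iff.mp hn q).mp hq
      refine ⟨⟨hRT.trans inf_le_left, hφP, n, hφn⟩, hRT, hφT, conjHom (R ⊔ Q) n, ?_, ?_, ?_⟩
      · refine conjHom_mem_groupFusionSystem (sup_le (hRT.trans inf_le_left) hQP) n ?_
        intro x hx
        have h1 : n * x * n⁻¹ ∈ (R ⊔ Q).map (MulAut.conj n).toMonoidHom := conj_mem_map_conj hx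
        rw [Subgroup.map_sup] at h1
        refine (sup_le ?_ ?_ : _ ≤ (P : Subgroup G)) h1
        · rintro _ ⟨r, hr, rfl⟩
          have := hφP ⟨r, hr⟩
          rw [hφn] at this
          exact this
        · rintro _ ⟨q, hq, rfl⟩
          exact hQP (hnQ q hq)
      · intro x
        rw [hφn]
        rfl
      · ext y
        constructor
        · rintro ⟨x, hx, rfl⟩
          exact hnQ _ hx
        · intro hy
          have h1 : n⁻¹ * y * n ∈ Q := by
            have := (Subgroup.mem_normalizer_iff.mp (inv_mem hn) y).mp hy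
            simpa using this
          refine ⟨⟨n⁻¹ * y * n, Subgroup.mem_sup_right h1⟩, h1, ?_⟩
          show n * (n⁻¹ * y * n) * n⁻¹ = y
          group
    · rintro ⟨hφF, hRT, hφT, ψ, hψ, hψext, hψQ⟩
      obtain ⟨-, -, n, hn⟩ := hψ
      refine ⟨hRT, hφT, n, ?_, fun x => ?_⟩
      · apply mem_normalizer_of_conj_mem_of_finite
        intro q hq
        have h1 : ψ ⟨q, Subgroup.mem_sup_right hq⟩ ∈ (Q.subgroupOf (R ⊔ Q)).map ψ :=
          Subgroup.mem_map_of_mem ψ (show (⟨q, Subgroup.mem_sup_right hq⟩ : ↥(R ⊔ Q)) ∈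
            Q.subgroupOf (R ⊔ Q) from hq)
        rw [hψQ, hn] at h1
        exact h1
      · rw [← hψext x, hn]
        rfl
  have hT₀syl := sylow_normalizer_of_fullyNormalized P hfn
  have hNsat : N.IsSaturated p := fusionSystemOfSubgroup_saturated _ _ hT₀le hT₀syl
  have hNQ : N.IsNormal Q := isNormal_of_isNormalizerSystem F hQP N hN
  have hQT₀ : Q ≤ T₀ := le_inf hQP Subgroup.le_normalizer
  have hNcen : N.IsCentric Q := by
    refine ⟨hQT₀, fun Q'' hconj => ?_⟩
    obtain ⟨φ, ⟨-, -, n, hn, hφn⟩, rfl⟩ := hconj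
    have hrange : φ.range = Q := by
      ext y
      constructor
      · rintro ⟨x, rfl⟩
        rw [hφn]
        exact (Subgroup.mem_normalizer_iff.mp hn _).mp x.2
      · intro hy
        have h1 : n⁻¹ * y * n ∈ Q := by
          have := (Subgroup.mem_normalizer_iff.mp (inv_mem hn) y).mp hy
          simpa using this
        refine ⟨⟨n⁻¹ * y * n, h1⟩, ?_⟩
        rw [hφn]
        show n * (n⁻¹ * y * n) * n⁻¹ = y
        group
    rw [hrange]
    intro x hx
    exact hcen.2 Q (isConj_refl F hQP) ⟨hx.1.1, hx.2⟩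
  have hT₀p : IsPGroup p ↥T₀ := P.isPGroup'.to_le inf_le_left
  obtain ⟨L, _, ι, hmodel⟩ := exists_model hT₀p N ⟨hNsat, Q, hNQ, hNcen⟩
  refine hfree Q hfn hcen N hN L ι hmodel ?_
  obtain ⟨hLfin, ⟨hιinj, hreal⟩, -, -⟩ := hmodel
  have hLfin' : Finite L := hLfin
  have hUT : U ≤ T₀ := hUQ.trans hQT₀
  let j : ↥U →* L := ι.comp (Subgroup.inclusion hUT)
  have hj : Function.Injective j := hιinj.comp (Subgroup.inclusion_injective hUT)
  let e : ↥U ≃* ↥j.range := MonoidHom.ofInjective hj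
  have hdataL : QdDataAt p j.range Set.univ := by
    refine hdata.transfer e ?_
    intro n hn hnU
    have hφT : ∀ x : ↥U, (conjHom U n) x ∈ T₀ := fun x => hUT (hnU x)
    have hmem : conjHom U n ∈ N.Hom U := ⟨hUT, hφT, n, hn, fun x => rfl⟩
    obtain ⟨l, hl⟩ := (hreal U hUT (conjHom U n) hφT).mp hmem
    refine ⟨l, fun u hu => ?_⟩
    have h1 : l * (e u : L) * l⁻¹ = j ⟨n * u * n⁻¹, hu⟩ := (hl u).symm
    exact ⟨by rw [h1]; exact ⟨_, rfl⟩, Subtype.ext h1.symm⟩
  exact involves_qd_of_qdData hp (hUp.of_equiv e) hdataL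

/-- Let p be an odd prime, G a finite group and P a Sylow p-subgroup of G. Then the fusion system of G on P is Qd(p)-free (Qd(p), the natural semidirect product of an elementary abelian group of order p² by SL₂(p), is not involved in any model of the normalizer system of a fully normalized centric subgroup) if and only if Qd(p) is not involved in G. -/
theorem result {G : Type u} [Group G] [Finite G] {p : ℕ} [Fact p.Prime] (hp : p ≠ 2) (P : Sylow p G) : (Cfsg.groupFusionSystem (P : Subgroup G)).IsSectionFree p ↥(Cfsg.qd p) ↔ ¬ Cfsg.Involves ↥(Cfsg.qd p) G := by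
  constructor
  · intro hfree hinv
    exact not_sectionFree_of_involves hp P hinv hfree
  · exact sectionFree_of_not_involves hp P

end Cfsg.Agent.S5206
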