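import Cfsg.Statements.S3888
import Cfsg.Agent.Lib.helper68.Blk5
import Cfsg.Agent.Lib.helper68.Blk6
import Cfsg.Agent.S0636

set_option autoImplicit false
open Cfsg

namespace Cfsg.Agent.S3888

/-- The classification of the p-groups of rank at most two for odd p. Let p be an odd prime and G a group of order p^n with no elementary abelian subgroup of order p³. Then one of the following holds: G is metacyclic; n ≥ 3 and G is generated by elements x, y, z with x^p = y^p = z^(p^(n−2)) = 1, z commuting with x and y, and x⁻¹yx = y z^(p^(n−3)); n ≥ 4 and G is generated by elements x, y, z with x^p = y^p = z^(p^(n−2)) = 1, yz = zy, x⁻¹yx = y z^(s p^(n−3)) and x⁻¹zx = yz, where s = 1 or s is a quadratic non-residue modulo p; or p = 3 and G has maximal class (nilpotency class n − 1). -/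
theorem result {G : Type*} [Group G] [Finite G] {p : ℕ} [Fact p.Prime] (hp : p ≠ 2) (n : ℕ) (hG : Nat.card G = p ^ n)
    (hrk : Cfsg.PRankLE p 2 G) :
    Cfsg.IsMetacyclic G ∨
    (3 ≤ n ∧ ∃ x y z : G, Subgroup.closure ({x, y, z} : Set G) = ⊤ ∧ x ^ p = 1 ∧ y ^ p = 1 ∧ z ^ p ^ (n - 2) = 1 ∧
        x * z = z * x ∧ y * z = z * y ∧ x⁻¹ * y * x = y * z ^ p ^ (n - 3)) ∨
    (4 ≤ n ∧ ∃ (s : ℕ) (x y z : G), (s = 1 ∨ ¬ IsSquare (s : ZMod p)) ∧ Subgroup.closure ({x, y, z} : Set G) = ⊤ ∧
        x ^ p = 1 ∧ y ^ p = 1 ∧ z ^ p ^ (n - 2) = 1 ∧ y * z = z * y ∧ x⁻¹ * y * x = y * z ^ (s * p ^ (n - 3)) ∧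
        x⁻¹ * z * x = y * z) ∨
    (p = 3 ∧ 2 ≤ n ∧ (⊤ : Subgroup G).lowerCentralSeries (n - 2) ≠ ⊥) := by
  have hpp : p.Prime := Fact.out
  have hGp : IsPGroup p G := IsPGroup.of_card hG
  by_cases hcyc : IsCyclic G
  · left
    refine ⟨⊥, inferInstance, isCyclic_of_subsingleton, ?_⟩
    exact isCyclic_of_surjective (QuotientGroup.mk' (⊥ : Subgroup G))
      (QuotientGroup.mk'_surjective _)
  · have hS : ¬ IsCyclic ↥(⊤ : Subgroup G) := by
      intro h
      exact hcyc (isCyclic_of_surjective (Subgroup.topEquiv : ↥(⊤ : Subgroup G) ≃* G)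
        (Subgroup.topEquiv.surjective))
    obtain ⟨E, -, hEn, ⟨hEc, hEexp⟩, hEcard⟩ := Cfsg.Agent.S0636.result hp hGp ⊤ hS
    have hEab : ∀ a ∈ E, ∀ b ∈ E, a * b = b * a := by
      intro a ha b hb
      have h1 := hEc.is_comm.comm ⟨a, ha⟩ ⟨b, hb⟩
      exact congrArg Subtype.val h1
    by_cases hCtop : Subgroup.centralizer (E : Set G) = ⊤
    · left
      have hΩ := Cfsg.Agent.Lib.helper68.blk_omega_cent p hrk E hEab hEexp hEcard
      have hEΩ : ∀ x : G, x ^ p = 1 → x ∈ E := fun x hx =>
        hΩ x (by rw [hCtop]; exact Subgroup.mem_top x) hx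
      have hc : ∀ x : G, x ^ p = 1 → x ∈ Subgroup.center G := by
        intro x hx
        rw [Subgroup.mem_center_iff]
        intro g
        have hg : g ∈ Subgroup.centralizer (E : Set G) := by rw [hCtop]; exact Subgroup.mem_top g
        exact (Subgroup.mem_centralizer_iff.mp hg x (hEΩ x hx)).symm
      exact (Cfsg.Agent.Lib.helper68.blk_pcentral_mcyc p hp hGp hc E hEΩ
        (le_of_eq hEcard)).isMetacyclic
    · have S := Cfsg.Agent.Lib.helper68.blk_setup p hp hGp hrk E hEab hEexp hEcard hCtop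
      have hn2 : 2 ≤ n := by
        by_contra hcon
        have h1 : p ^ n ≤ p ^ 1 := Nat.pow_le_pow_right hpp.pos (by omega)
        have h2 : Nat.card E ≤ Nat.card G := Subgroup.card_le_card_group E
        rw [hEcard, hG] at h2
        have h3 : p ^ 1 < p ^ 2 := Nat.pow_lt_pow_right hpp.one_lt (by norm_num)
        omega
      have hsuz : (∃ s : G, Nat.card (Subgroup.centralizer {s}) ≤ p ^ 2) →
          (⊤ : Subgroup G).lowerCentralSeries (n - 2) ≠ ⊥ := by
        intro h
        have h1 : Nat.card G = p ^ ((n - 2) + 2) := by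
          rw [hG]; congr 1; omega
        exact Cfsg.Agent.Lib.helper68.blk_suzuki p (n - 2) G h1 h
      by_cases hI : ∀ g : G, g ^ p = 1 → g ∈ Subgroup.centralizer (E : Set G)
      · obtain ⟨t, ht⟩ : ∃ t, t ∉ Subgroup.centralizer (E : Set G) := by
          by_contra hcon
          simp only [not_exists, not_not] at hcon
          exact hCtop (top_le_iff.mp fun g _ => hcon g)
        rcases Cfsg.Agent.Lib.helper68.blk_case_one p hp hGp S hI t ht with h | ⟨hp3, hs⟩
        · left; exact h.isMetacyclic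
        · right; right; right; exact ⟨hp3, hn2, hsuz hs⟩
      · simp only [not_forall] at hI
        obtain ⟨b, hbp, hbC⟩ := hI
        by_cases hβ : ∀ c ∈ Subgroup.centralizer (E : Set G), c ^ p ∈ E →
            c ^ p ∈ E ⊓ Subgroup.center G
        · rcases Cfsg.Agent.Lib.helper68.blk_case_two_beta p hp hGp n hG S b hbC hbp hβ with h | h
          · right; left; exact h
          · right; right; left; exact h
        · simp only [not_forall] at hβ
          obtain ⟨d, hd, hdE, hdZ⟩ := hβ
          obtain ⟨hp3, hcent⟩ :=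
            Cfsg.Agent.Lib.helper68.blk_case_two_alpha p hp hGp S b hbC hbp d hd hdE hdZ
          right; right; right; exact ⟨hp3, hn2, hsuz ⟨b, hcent⟩⟩

end Cfsg.Agent.S3888
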