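import Cfsg.Statements.S5178
import Mathlib
import Cfsg.Agent.Lib.helper89.SmallCenterE
import Cfsg.Agent.Lib.helper86.Essential
import Cfsg.Agent.Lib.helper86.EssentialNeeded
import Cfsg.Agent.Lib.helper86.NormalCrit
import Cfsg.Agent.Lib.helper87.SylowIn
import Cfsg.Agent.Lib.helper58.PGroupBasics
import Cfsg.Agent.Lib.helper65.GenExtraA

set_option autoImplicit false
universe u
open Cfsg

namespace Cfsg.Agent.S5178

open Cfsg.FusionSystem
open scoped commutatorElement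

section Generic

variable {G : Type*} [Group G]

/-- stabiliser of the chain `1 ≤ Y ≤ X ≤ G`. -/
def stab3 (X Y : Subgroup G) (hYX : Y ≤ X) : Subgroup (MulAut G) where
  carrier := {γ | (∀ e, γ e * e⁻¹ ∈ X) ∧ (∀ x ∈ X, γ x * x⁻¹ ∈ Y) ∧ ∀ y ∈ Y, γ y = y}
  one_mem' := ⟨fun e => by simp, fun x _ => by simp, fun y _ => rfl⟩
  mul_mem' := by
    rintro a b ⟨ha1, ha2, ha3⟩ ⟨hb1, hb2, hb3⟩
    refine ⟨fun e => ?_, fun x hx => ?_, fun y hy => ?_⟩
    · have e1 : (a * b) e * e⁻¹ = (a (b e) * (b e)⁻¹) * (b e * e⁻¹) := by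
        rw [MulAut.mul_apply]; group
      rw [e1]; exact X.mul_mem (ha1 _) (hb1 _)
    · have hbx : b x ∈ X := by
        have : b x = (b x * x⁻¹) * x := by group
        rw [this]; exact X.mul_mem (hYX (hb2 x hx)) hx
      have e1 : (a * b) x * x⁻¹ = (a (b x) * (b x)⁻¹) * (b x * x⁻¹) := by
        rw [MulAut.mul_apply]; group
      rw [e1]; exact Y.mul_mem (ha2 _ hbx) (hb2 x hx)
    · rw [MulAut.mul_apply, hb3 y hy, ha3 y hy]
  inv_mem' := by
    rintro a ⟨ha1, ha2, ha3⟩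
    have key1 : ∀ e, a⁻¹ e * e⁻¹ ∈ X := by
      intro e
      have h := ha1 (a⁻¹ e)
      rw [MulAut.apply_inv_self] at h
      have h' := X.inv_mem h
      rwa [mul_inv_rev, inv_inv] at h'
    refine ⟨key1, fun x hx => ?_, fun y hy => ?_⟩
    · have hx' : a⁻¹ x ∈ X := by
        have : a⁻¹ x = (a⁻¹ x * x⁻¹) * x := by group
        rw [this]; exact X.mul_mem (key1 x) hx
      have h := ha2 _ hx'
      rw [MulAut.apply_inv_self] at h
      have h' := Y.inv_mem h
      rwa [mul_inv_rev, inv_inv] at h'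
    · have h := ha3 y hy
      calc a⁻¹ y = a⁻¹ (a y) := by rw [h]
        _ = y := MulAut.inv_apply_self _ _ _

theorem stab3_isPGroup [Finite G] {p : ℕ} [hp : Fact p.Prime] (hG : IsPGroup p G)
    (X Y : Subgroup G) (hYX : Y ≤ X) : IsPGroup p (stab3 X Y hYX) := by
  rintro ⟨d, hd⟩
  have hn0 : orderOf d ≠ 0 := (orderOf_pos d).ne'
  obtain ⟨e, m, hpm, hem⟩ := Nat.exists_eq_pow_mul_and_not_dvd hn0 p hp.out.ne_one
  refine ⟨e, ?_⟩
  have hcop : Nat.Coprime m p := by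
    rw [Nat.coprime_comm, Nat.Prime.coprime_iff_not_dvd hp.out]; exact hpm
  have hd'D : d ^ p ^ e ∈ stab3 X Y hYX := (stab3 X Y hYX).pow_mem hd _
  have hd'm : (d ^ p ^ e) ^ m = 1 := by rw [← pow_mul, ← hem, pow_orderOf_eq_one]
  obtain ⟨h1, h2, h3⟩ := hd'D
  have hfixX : ∀ x ∈ X, (d ^ p ^ e) x = x := by
    intro x hx
    have h := Cfsg.Agent.Lib.helper65.mulAut_pow_apply_of_stab_at Y (d ^ p ^ e) h3 x (h2 x hx) m
    rw [hd'm, MulAut.one_apply] at h
    have h5 : ((d ^ p ^ e) x * x⁻¹) ^ m = 1 := mul_eq_right.mp h.symm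
    exact mul_inv_eq_one.mp (Cfsg.Agent.Lib.helper65.eq_one_of_pow_coprime hG hcop h5)
  have h6 : d ^ p ^ e = 1 := by
    ext g
    have h := Cfsg.Agent.Lib.helper65.mulAut_pow_apply_of_stab_at X (d ^ p ^ e) hfixX g (h1 g) m
    rw [hd'm, MulAut.one_apply] at h
    have h5 : ((d ^ p ^ e) g * g⁻¹) ^ m = 1 := mul_eq_right.mp h.symm
    rw [MulAut.one_apply]
    exact mul_inv_eq_one.mp (Cfsg.Agent.Lib.helper65.eq_one_of_pow_coprime hG hcop h5)
  apply Subtype.ext
  show d ^ p ^ e = 1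
  exact h6

theorem card_le_mul_of_fiber {K D : Type*} [Group K] [Finite K] [Finite D] (H : Subgroup K)
    (f : K → D) (hf : ∀ a b : K, f a = f b → a⁻¹ * b ∈ H) :
    Nat.card K ≤ Nat.card D * Nat.card H := by
  classical
  let r : D → K := fun d => if h : ∃ a, f a = d then h.choose else 1
  have hr : ∀ a : K, f (r (f a)) = f a := by
    intro a
    have h : ∃ a', f a' = f a := ⟨a, rfl⟩
    simp only [r, dif_pos h]
    exact h.choose_spec
  let Φ : K → D × H := fun a => (f a, ⟨(r (f a))⁻¹ * a, hf _ _ (hr a)⟩)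
  have hΦ : Function.Injective Φ := by
    intro a b hab
    have h1 : f a = f b := congrArg Prod.fst hab
    have h2 : (r (f a))⁻¹ * a = (r (f b))⁻¹ * b := congrArg (fun t => (t.2 : K)) hab
    rw [h1] at h2
    exact mul_left_cancel h2
  calc Nat.card K ≤ Nat.card (D × H) := Nat.card_le_card_of_injective Φ hΦ
    _ = Nat.card D * Nat.card H := Nat.card_prod D H

theorem mem_zpowers_of_ne_one {p : ℕ} [Fact p.Prime] {z c : G} (hz : z ^ p = 1)
    (hc : c ∈ Subgroup.zpowers z) (hc1 : c ≠ 1) : z ∈ Subgroup.zpowers c := by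
  have hz1 : z ≠ 1 := by
    rintro rfl
    rw [Subgroup.zpowers_one_eq_bot, Subgroup.mem_bot] at hc
    exact hc1 hc
  have hcard : Nat.card (Subgroup.zpowers z) = p := by
    rw [Nat.card_zpowers]; exact orderOf_eq_prime hz hz1
  have h1 : Subgroup.zpowers (⟨c, hc⟩ : Subgroup.zpowers z) = ⊤ :=
    zpowers_eq_top_of_prime_card hcard (fun h => hc1 (congrArg Subtype.val h))
  have h2 : (⟨z, Subgroup.mem_zpowers z⟩ : Subgroup.zpowers z) ∈
      Subgroup.zpowers (⟨c, hc⟩ : Subgroup.zpowers z) := by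
    rw [h1]; trivial
  obtain ⟨k, hk⟩ := Subgroup.mem_zpowers_iff.mp h2
  exact Subgroup.mem_zpowers_iff.mpr ⟨k, by simpa using congrArg Subtype.val hk⟩

theorem comm_mul_central_left {q c b : G} (h : c * b = b * c) :
    (q * c) * b * (q * c)⁻¹ * b⁻¹ = q * b * q⁻¹ * b⁻¹ := by
  have h1 : c * b * c⁻¹ = b := by rw [h, mul_inv_cancel_right]
  calc (q * c) * b * (q * c)⁻¹ * b⁻¹ = q * (c * b * c⁻¹) * q⁻¹ * b⁻¹ := by group
    _ = q * b * q⁻¹ * b⁻¹ := by rw [h1]

theorem comm_mul_central_right {q q' c' : G} (h : c' * q = q * c') :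
    q * (q' * c') * q⁻¹ * (q' * c')⁻¹ = q * q' * q⁻¹ * q'⁻¹ := by
  have h' : c' * q⁻¹ = q⁻¹ * c' := by
    calc c' * q⁻¹ = q⁻¹ * (q * c') * q⁻¹ := by group
      _ = q⁻¹ * (c' * q) * q⁻¹ := by rw [h]
      _ = q⁻¹ * c' := by group
  have h1 : c' * q⁻¹ * c'⁻¹ = q⁻¹ := by rw [h', mul_inv_cancel_right]
  calc q * (q' * c') * q⁻¹ * (q' * c')⁻¹ = q * q' * (c' * q⁻¹ * c'⁻¹) * q'⁻¹ := by group
    _ = q * q' * q⁻¹ * q'⁻¹ := by rw [h1]

end Generic

/-- strongly `p`-embedded: some `g ∈ Aut_F(E)` with `Aut_S(E) ∩ g⁻¹ Aut_S(E) g ≤ Inn(E)`. -/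
theorem exists_spe_elt {Ω : Type*} [Group Ω] {S : Subgroup Ω} [Finite S] {p : ℕ} [Fact p.Prime]
    (hS : IsPGroup p S) (F : FusionSystem S) (hF : F.IsSaturated p) {E : Subgroup Ω}
    (hE : F.IsEssential p E) :
    ∃ g ∈ F.autGroup E, ∀ β ∈ autInducedBy S E, g * β * g⁻¹ ∈ autInducedBy S E →
      β ∈ Cfsg.Inn E := by
  obtain ⟨hcen, hfn, hN, E₀, hE₀⟩ := hE
  have hES : E ≤ S := hcen.1
  obtain ⟨hfa, -⟩ :=
    Cfsg.Agent.Lib.helper88.fullyAutomized_receptive_of_fullyNormalized hS F hF hfn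
  haveI := hN
  haveI hfinA : Finite (F.autGroup E) := Cfsg.Agent.Lib.helper89.finite_autGroup F hES
  obtain ⟨T, hT⟩ := Cfsg.Agent.Lib.helper86.exists_sylow_out F hfa
  obtain ⟨P, hPne, hPE, hkey⟩ := Cfsg.Agent.Lib.helper53.spe_exists_sylow hE₀
  obtain ⟨g₀, hg₀⟩ := Cfsg.Agent.Lib.helper87.exists_conj_le_sylow P T.isPGroup'
  have hg : ∀ h ∈ (T : Subgroup _), g₀ * h * g₀⁻¹ ∈ E₀ := fun h hh => hPE (hg₀ ⟨h, hh, rfl⟩)
  have hne : E₀ ≠ ⊤ := hE₀.2.1
  obtain ⟨y, hy⟩ : ∃ y, y ∉ E₀ := by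
    by_contra hcon
    push Not at hcon
    exact hne (eq_top_iff.mpr fun x _ => hcon x)
  obtain ⟨g, hgb⟩ := QuotientGroup.mk'_surjective ((Cfsg.Inn E).subgroupOf (F.autGroup E))
    (g₀⁻¹ * y * g₀)
  refine ⟨(g : MulAut E), g.2, fun β hβ hconj => ?_⟩
  have hβΓ : β ∈ F.autGroup E := Cfsg.Agent.Lib.helper88.autInducedBy_le_autGroup F hES hβ
  have htT : QuotientGroup.mk' ((Cfsg.Inn E).subgroupOf (F.autGroup E)) ⟨β, hβΓ⟩ ∈
      (T : Subgroup _) := by
    rw [hT]; exact ⟨⟨β, hβΓ⟩, Subgroup.mem_subgroupOf.mpr hβ, rfl⟩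
  have hconjT : (g₀⁻¹ * y * g₀) *
      QuotientGroup.mk' ((Cfsg.Inn E).subgroupOf (F.autGroup E)) ⟨β, hβΓ⟩ * (g₀⁻¹ * y * g₀)⁻¹ ∈
      (T : Subgroup _) := by
    rw [hT, ← hgb]
    refine ⟨g * ⟨β, hβΓ⟩ * g⁻¹, Subgroup.mem_subgroupOf.mpr hconj, ?_⟩
    rw [map_mul, map_mul, map_inv]
  by_contra hβI
  have ht1 : QuotientGroup.mk' ((Cfsg.Inn E).subgroupOf (F.autGroup E)) ⟨β, hβΓ⟩ ≠ 1 := by
    intro h
    apply hβI
    have h2 := (QuotientGroup.eq_one_iff (N := (Cfsg.Inn E).subgroupOf (F.autGroup E))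
      (⟨β, hβΓ⟩ : F.autGroup E)).mp h
    exact Subgroup.mem_subgroupOf.mp h2
  have h3 := Cfsg.Agent.Lib.helper86.spe_conj_mem hE₀ T.isPGroup' hg htT ht1 hconjT
  apply hy
  have e : g₀ * (g₀⁻¹ * y * g₀) * g₀⁻¹ = y := by group
  rwa [e] at h3

/-- Let p be an odd prime, S a finite p-group containing an extraspecial subgroup Q of index p, and F a saturated fusion system over S whose largest subgroup normal in F is trivial. Then the centre of S equals the centre of Q. -/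
theorem result {Ω : Type u} [Group Ω] {S : Subgroup Ω} [Finite S] (p : ℕ) [Fact p.Prime] (hp : Odd p) (hS : IsPGroup p S)
    (Q : Subgroup Ω) (hQS : Q ≤ S) (hQ : Cfsg.IsExtraspecial p ↥Q) (hQi : (Q.subgroupOf S).index = p)
    (F : Cfsg.FusionSystem S) (hF : F.IsSaturated p) (hO : F.core = ⊥) :
    S ⊓ Subgroup.centralizer (S : Set Ω) = Q ⊓ Subgroup.centralizer (Q : Set Ω) := by
  classical
  have hpp : p.Prime := Fact.out
  have hp2 : p ≠ 2 := by rintro rfl; exact absurd hp (by decide)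
  obtain ⟨⟨hQp, -, hcomm⟩, hcardZ⟩ := hQ
  haveI hfinQ : Finite Q := Cfsg.Agent.Lib.helper88.finite_of_le hQS
  -- generator of the centre of `Q`
  obtain ⟨zQ, hzQc, hzQ1⟩ : ∃ zQ : Q, zQ ∈ Subgroup.center Q ∧ zQ ≠ 1 := by
    have : Nontrivial (Subgroup.center Q) := by
      rw [← Finite.one_lt_card_iff_nontrivial, hcardZ]; exact hpp.one_lt
    obtain ⟨c, hc⟩ := exists_ne (1 : Subgroup.center Q)
    exact ⟨c, c.2, fun h => hc (Subtype.ext h)⟩
  have hzQtop : Subgroup.zpowers (⟨zQ, hzQc⟩ : Subgroup.center Q) = ⊤ :=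
    zpowers_eq_top_of_prime_card hcardZ (fun h => hzQ1 (congrArg Subtype.val h))
  have hcenQ : ∀ c : Q, c ∈ Subgroup.center Q → ∃ k : ℤ, ((zQ : Q) : Ω) ^ k = (c : Ω) := by
    intro c hc
    have h1 : (⟨c, hc⟩ : Subgroup.center Q) ∈
        Subgroup.zpowers (⟨zQ, hzQc⟩ : Subgroup.center Q) := by
      rw [hzQtop]; trivial
    obtain ⟨k, hk⟩ := Subgroup.mem_zpowers_iff.mp h1
    refine ⟨k, ?_⟩
    have h2 := congrArg (fun t : Subgroup.center Q => ((t : Q) : Ω)) hk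
    simpa using h2
  obtain ⟨z, hzdef⟩ : ∃ z : Ω, z = (zQ : Ω) := ⟨_, rfl⟩
  rw [← hzdef] at hcenQ
  have hzQmem : z ∈ Q := by rw [hzdef]; exact zQ.2
  have hzS : z ∈ S := hQS hzQmem
  have hz1 : z ≠ 1 := by
    rw [hzdef]; exact fun h => hzQ1 (Subtype.ext h)
  have hzp : z ^ p = 1 := by
    have h1 : (⟨zQ, hzQc⟩ : Subgroup.center Q) ^ p = 1 := by
      rw [← hcardZ]; exact pow_card_eq_one'
    have h2 := congrArg (fun t : Subgroup.center Q => ((t : Q) : Ω)) h1
    rw [hzdef]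
    simpa using h2
  have hzQcomm : ∀ q ∈ Q, q * z = z * q := by
    intro q hq
    have h1 := Subgroup.mem_center_iff.mp hzQc ⟨q, hq⟩
    rw [hzdef]
    exact congrArg Subtype.val h1
  have hQcomm : ∀ a ∈ Q, ∀ b ∈ Q, a * b * a⁻¹ * b⁻¹ ∈ Subgroup.zpowers z := by
    intro a ha b hb
    have h1 : ⁅(⟨a, ha⟩ : Q), ⟨b, hb⟩⁆ ∈ commutator Q := by
      rw [commutator_def]
      exact Subgroup.commutator_mem_commutator (Subgroup.mem_top _) (Subgroup.mem_top _)
    rw [hcomm] at h1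
    obtain ⟨k, hk⟩ := hcenQ _ h1
    refine Subgroup.mem_zpowers_iff.mpr ⟨k, ?_⟩
    rw [hk, commutatorElement_def]
    rfl
  have hQn : (Q.subgroupOf S).Normal := by
    apply Subgroup.normal_of_index_eq_minFac_card
    obtain ⟨n, hn⟩ := hS.exists_card_eq
    have hn0 : n ≠ 0 := by
      rintro rfl
      have h1 := Subgroup.index_dvd_card (Q.subgroupOf S)
      rw [hQi, hn, pow_zero] at h1
      exact hpp.one_lt.ne' (Nat.dvd_one.mp h1)
    rw [hQi, hn, hpp.pow_minFac hn0]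
  have hQconj : ∀ s ∈ S, ∀ q ∈ Q, s * q * s⁻¹ ∈ Q := by
    intro s hs q hq
    have h1 := hQn.conj_mem ⟨q, hQS hq⟩ (Subgroup.mem_subgroupOf.mpr hq) ⟨s, hs⟩
    exact Subgroup.mem_subgroupOf.mp h1
  -- `z` is central in `S`
  have hzcent : ∀ s ∈ S, s * z = z * s := by
    have hconjz : ∀ s ∈ S, s * z * s⁻¹ ∈ Subgroup.zpowers z := by
      intro s hs
      have h1 : s * z * s⁻¹ ∈ Q := hQconj s hs z hzQmem
      have h2 : (⟨s * z * s⁻¹, h1⟩ : Q) ∈ Subgroup.center Q := by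
        rw [Subgroup.mem_center_iff]
        intro q
        apply Subtype.ext
        show (q : Ω) * (s * z * s⁻¹) = s * z * s⁻¹ * q
        have h3 : s⁻¹ * q * s ∈ Q := by
          have := hQconj s⁻¹ (S.inv_mem hs) q q.2
          simpa using this
        have h4 := hzQcomm _ h3
        calc (q : Ω) * (s * z * s⁻¹) = s * ((s⁻¹ * q * s) * z) * s⁻¹ := by group
          _ = s * (z * (s⁻¹ * q * s)) * s⁻¹ := by rw [h4]
          _ = s * z * s⁻¹ * q := by group
      obtain ⟨k, hk⟩ := hcenQ _ h2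
      exact Subgroup.mem_zpowers_iff.mpr ⟨k, hk⟩
    have hNn : ((Subgroup.zpowers z).subgroupOf S).Normal := by
      refine ⟨fun n hn g => ?_⟩
      rw [Subgroup.mem_subgroupOf] at hn ⊢
      obtain ⟨k, hk⟩ := Subgroup.mem_zpowers_iff.mp hn
      show (g : Ω) * (n : Ω) * (g : Ω)⁻¹ ∈ Subgroup.zpowers z
      rw [← hk]
      have h1 : (g : Ω) * z ^ k * (g : Ω)⁻¹ = ((g : Ω) * z * (g : Ω)⁻¹) ^ k := by simp
      rw [h1]
      exact Subgroup.zpow_mem _ (hconjz g g.2) k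
    have hNne : (Subgroup.zpowers z).subgroupOf S ≠ ⊥ := by
      intro h
      have h1 : (⟨z, hzS⟩ : S) ∈ (Subgroup.zpowers z).subgroupOf S :=
        Subgroup.mem_subgroupOf.mpr (Subgroup.mem_zpowers z)
      rw [h, Subgroup.mem_bot] at h1
      exact hz1 (congrArg Subtype.val h1)
    obtain ⟨c, hcN, hc1, hcc⟩ :=
      Cfsg.Agent.Lib.helper58.exists_central_mem_of_normal hS _ hNne
    have hcz : (c : Ω) ∈ Subgroup.zpowers z := Subgroup.mem_subgroupOf.mp hcN
    have hc1' : (c : Ω) ≠ 1 := fun h => hc1 (Subtype.ext h)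
    obtain ⟨j, hj⟩ := Subgroup.mem_zpowers_iff.mp (mem_zpowers_of_ne_one hzp hcz hc1')
    intro s hs
    have h1 := Subgroup.mem_center_iff.mp hcc ⟨s, hs⟩
    have h2 : s * (c : Ω) = (c : Ω) * s := congrArg Subtype.val h1
    rw [← hj]
    exact (Commute.zpow_right (show Commute s (c : Ω) from h2) j).eq
  -- the hard direction
  have hkey : ∀ x ∈ S, (∀ g ∈ S, g * x = x * g) → x ∈ Q := by
    intro z₁ hz₁S hz₁c
    by_contra hz₁Q
    -- every element of `S` is `q * z₁ ^ i`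
    have hdec : ∀ s ∈ S, ∃ q ∈ Q, ∃ i : ℤ, s = q * z₁ ^ i := by
      intro s hs
      haveI := hQn
      have hcardq : Nat.card (S ⧸ Q.subgroupOf S) = p := by
        rw [← Subgroup.index_eq_card, hQi]
      have hne1 : (QuotientGroup.mk' (Q.subgroupOf S) ⟨z₁, hz₁S⟩) ≠ 1 := by
        intro h
        exact hz₁Q (Subgroup.mem_subgroupOf.mp ((QuotientGroup.eq_one_iff _).mp h))
      have htop := zpowers_eq_top_of_prime_card hcardq hne1
      have hmem : QuotientGroup.mk' (Q.subgroupOf S) ⟨s, hs⟩ ∈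
          Subgroup.zpowers (QuotientGroup.mk' (Q.subgroupOf S) ⟨z₁, hz₁S⟩) := by
        rw [htop]; trivial
      obtain ⟨i, hi⟩ := Subgroup.mem_zpowers_iff.mp hmem
      have h1 : (QuotientGroup.mk' (Q.subgroupOf S)
          ((⟨s, hs⟩ : S) * (⟨z₁, hz₁S⟩ : S) ^ (-i))) = 1 := by
        rw [map_mul, map_zpow, ← hi, zpow_neg, mul_inv_cancel]
      have h2 := Subgroup.mem_subgroupOf.mp ((QuotientGroup.eq_one_iff _).mp h1)
      refine ⟨s * z₁ ^ (-i), by simpa using h2, i, ?_⟩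
      group
    have hScomm : ∀ a ∈ S, ∀ b ∈ S, a * b * a⁻¹ * b⁻¹ ∈ Subgroup.zpowers z := by
      intro a ha b hb
      obtain ⟨q, hq, i, rfl⟩ := hdec a ha
      obtain ⟨q', hq', j, rfl⟩ := hdec b hb
      have hci : ∀ g ∈ S, z₁ ^ i * g = g * z₁ ^ i := fun g hg =>
        (Commute.zpow_left (show Commute z₁ g from (hz₁c g hg).symm) i).eq
      have hcj : ∀ g ∈ S, z₁ ^ j * g = g * z₁ ^ j := fun g hg =>
        (Commute.zpow_left (show Commute z₁ g from (hz₁c g hg).symm) j).eq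
      rw [comm_mul_central_left (hci _ hb), comm_mul_central_right (hcj _ (hQS hq))]
      exact hQcomm q hq q' hq'
    have hcs : Cfsg.Agent.Lib.helper89.commSub S ≤ Subgroup.zpowers z := by
      unfold Cfsg.Agent.Lib.helper89.commSub
      rw [Subgroup.closure_le]
      rintro _ ⟨u, hu, v, hv, rfl⟩
      have := hScomm u⁻¹ (S.inv_mem hu) v hv
      simpa using this
    by_cases hex : ∃ E, F.IsEssential p E
    swap
    · have hnorm : F.IsNormal S := by
        apply Cfsg.Agent.Lib.helper86.isNormal_of_aut_invariant hS F hF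
        intro P hP
        rcases hP with h | hess
        · rw [h]; exact ⟨le_rfl, fun α hα x hx => (α x).2⟩
        · exact absurd ⟨P, hess⟩ hex
      have h2 : S ≤ F.core := le_sSup hnorm
      rw [hO] at h2
      exact hz1 ((Subgroup.mem_bot).mp (h2 hzS))
    obtain ⟨E, hE⟩ := hex
    have hES : E ≤ S := hE.1.1
    have hlt := Cfsg.Agent.Lib.helper86.essential_lt hS F hF hE
    haveI hfinE : Finite E := Cfsg.Agent.Lib.helper88.finite_of_le hES
    have hEp : IsPGroup p E := hS.to_le hES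
    have hcenE : centralizerIn S E ≤ E := hE.1.2 E (Cfsg.Agent.Lib.helper88.isConj_refl F hES)
    have hZE : ∀ x ∈ S, (∀ g ∈ S, g * x = x * g) → x ∈ E := by
      intro x hx hxc
      apply hcenE
      exact Subgroup.mem_inf.mpr ⟨hx, Subgroup.mem_centralizer_iff.mpr fun e he => hxc e (hES he)⟩
    have hzE : z ∈ E := hZE z hzS hzcent
    have hconjE : ∀ s ∈ S, ∀ e ∈ E, s * e * s⁻¹ ∈ E := by
      intro s hs e he
      have h1 := hScomm s hs e (hES he)
      have h2 : s * e * s⁻¹ = (s * e * s⁻¹ * e⁻¹) * e := by group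
      rw [h2]
      exact E.mul_mem ((Subgroup.zpowers_le.mpr hzE) h1) he
    have hSN : ∀ s ∈ S, s ∈ Subgroup.normalizer (E : Set Ω) := by
      intro s hs
      rw [Subgroup.mem_normalizer_iff]
      intro e
      refine ⟨fun he => hconjE s hs e he, fun he => ?_⟩
      have h3 := hconjE s⁻¹ (S.inv_mem hs) _ he
      have e2 : s⁻¹ * (s * e * s⁻¹) * s⁻¹⁻¹ = e := by group
      rwa [e2] at h3
    obtain ⟨g, hgΓ, hgA⟩ := exists_spe_elt hS F hF hE
    obtain ⟨zE, hzEv⟩ : ∃ zE : E, (zE : Ω) = z := ⟨⟨z, hzE⟩, rfl⟩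
    obtain ⟨wE, hwE⟩ : ∃ wE : E, wE = g zE := ⟨_, rfl⟩
    have hzEp : ∀ e : E, (e : Ω) ∈ Subgroup.zpowers z → e ∈ Subgroup.zpowers zE := by
      intro e he
      obtain ⟨k, hk⟩ := Subgroup.mem_zpowers_iff.mp he
      refine Subgroup.mem_zpowers_iff.mpr ⟨k, ?_⟩
      apply Subtype.ext
      rw [Subgroup.coe_zpow, hzEv, hk]
    have hA_le : autInducedBy S E ≤ F.autGroup E :=
      Cfsg.Agent.Lib.helper88.autInducedBy_le_autGroup F hES
    obtain ⟨hfa, -⟩ :=
      Cfsg.Agent.Lib.helper88.fullyAutomized_receptive_of_fullyNormalized hS F hF hE.2.1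
    obtain ⟨hAp, hmax⟩ := (Cfsg.Agent.Lib.helper87.sylowIn_iff hA_le).mp hfa.2
    -- the key claim
    have hclaim : ∀ s ∈ S, s * (wE : Ω) = (wE : Ω) * s → s ∈ E := by
      intro s hs hsw
      by_contra hsE
      have hYX : Subgroup.zpowers wE ≤ Subgroup.zpowers zE ⊔ Subgroup.zpowers wE := le_sup_right
      obtain ⟨α, hαdef⟩ : ∃ α : MulAut E, α = Cfsg.Agent.Lib.helper88.conjAut E s (hSN s hs) :=
        ⟨_, rfl⟩
      have hαv : ∀ x : E, ((α x : E) : Ω) = s * x * s⁻¹ := fun x => by rw [hαdef]; rfl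
      have hαA : α ∈ autInducedBy S E := by
        rw [hαdef]; exact Cfsg.Agent.Lib.helper88.conjAut_mem S E s (hSN s hs) hs
      have hαz : α zE = zE := by
        apply Subtype.ext
        rw [hαv, hzEv, hzcent s hs, mul_inv_cancel_right]
      have hαw : α wE = wE := by
        apply Subtype.ext
        rw [hαv, hsw, mul_inv_cancel_right]
      have hαX : ∀ x ∈ Subgroup.zpowers zE ⊔ Subgroup.zpowers wE, α x = x := by
        have hle : Subgroup.zpowers zE ⊔ Subgroup.zpowers wE ≤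
            MonoidHom.eqLocus α.toMonoidHom (MonoidHom.id E) := by
          apply sup_le
          · rw [Subgroup.zpowers_le]; exact hαz
          · rw [Subgroup.zpowers_le]; exact hαw
        intro x hx
        exact hle hx
      have hαK : α ∈ stab3 _ _ hYX ⊓ F.autGroup E := by
        refine Subgroup.mem_inf.mpr ⟨⟨fun e => ?_, fun x hx => ?_, fun y hy => hαX y (hYX hy)⟩,
          hA_le hαA⟩
        · apply (le_sup_left : Subgroup.zpowers zE ≤ _)
          apply hzEp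
          rw [Subgroup.coe_mul, Subgroup.coe_inv, hαv]
          exact hScomm s hs e (hES e.2)
        · rw [hαX x hx, mul_inv_cancel]
          exact Subgroup.one_mem _
      have hmapK : (autInducedBy S E).map (MulAut.conj g).toMonoidHom ≤
          stab3 _ _ hYX ⊓ F.autGroup E := by
        rintro _ ⟨β, hβ, rfl⟩
        obtain ⟨u, hu, hβu⟩ := (Cfsg.Agent.Lib.helper88.mem_autInducedBy_iff S E β).mp hβ
        have hβz : β zE = zE := by
          apply Subtype.ext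
          rw [hβu, hzEv, hzcent u hu, mul_inv_cancel_right]
        have hmove : ∀ e : E, (g * β * g⁻¹) e * e⁻¹ ∈ Subgroup.zpowers wE := by
          intro e
          have h1 : β (g⁻¹ e) * (g⁻¹ e)⁻¹ ∈ Subgroup.zpowers zE := by
            apply hzEp
            rw [Subgroup.coe_mul, Subgroup.coe_inv, hβu]
            exact hScomm u hu _ (hES (g⁻¹ e).2)
          obtain ⟨k, hk⟩ := Subgroup.mem_zpowers_iff.mp h1
          refine Subgroup.mem_zpowers_iff.mpr ⟨k, ?_⟩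
          have h2 : (g * β * g⁻¹) e * e⁻¹ = g (β (g⁻¹ e) * (g⁻¹ e)⁻¹) := by
            rw [map_mul, map_inv, MulAut.apply_inv_self]
            rfl
          rw [h2, ← hk, map_zpow, hwE]
        refine Subgroup.mem_inf.mpr ⟨⟨fun e => hYX (hmove e), fun x _ => hmove x, fun y hy => ?_⟩,
          (F.autGroup E).mul_mem ((F.autGroup E).mul_mem hgΓ (hA_le hβ)) ((F.autGroup E).inv_mem hgΓ)⟩
        obtain ⟨k, rfl⟩ := Subgroup.mem_zpowers_iff.mp hy
        show (g * β * g⁻¹) (wE ^ k) = wE ^ k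
        rw [map_zpow]
        have h3 : (g * β * g⁻¹) wE = wE := by
          show g (β (g⁻¹ wE)) = wE
          rw [hwE, MulAut.inv_apply_self, hβz]
        rw [h3]
      have hKp : IsPGroup p ↥(stab3 _ _ hYX ⊓ F.autGroup E) :=
        (stab3_isPGroup hEp _ _ hYX).to_le inf_le_left
      have hKeq : (autInducedBy S E).map (MulAut.conj g).toMonoidHom =
          stab3 _ _ hYX ⊓ F.autGroup E := by
        apply Subgroup.eq_of_le_of_card_ge hmapK
        rw [Subgroup.card_map_of_injective (MulAut.conj g).injective]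
        exact hmax _ inf_le_right hKp
      rw [← hKeq] at hαK
      have hβA : g⁻¹ * α * g ∈ autInducedBy S E := Cfsg.Agent.Lib.helper87.mem_map_conj.mp hαK
      have hβI : g⁻¹ * α * g ∈ Cfsg.Inn E := by
        apply hgA _ hβA
        have e1 : g * (g⁻¹ * α * g) * g⁻¹ = α := by group
        rw [e1]
        exact hαA
      have hαI : α ∈ Cfsg.Inn E := by
        have h4 := (Cfsg.Agent.Lib.helper86.inn_normal E).conj_mem _ hβI g
        have e1 : g * (g⁻¹ * α * g) * g⁻¹ = α := by group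
        rwa [e1] at h4
      exact Cfsg.Agent.Lib.helper86.not_mem_inn_of_centric F hE.1 hs hsE hαv hαI
    obtain ⟨s₀, hs₀S, hs₀E⟩ := SetLike.exists_of_lt hlt
    have hwS : (wE : Ω) ∈ S := hES wE.2
    have hwnc : ¬ ∀ s ∈ S, s * (wE : Ω) = (wE : Ω) * s :=
      fun h => hs₀E (hclaim s₀ hs₀S (h s₀ hs₀S))
    -- `E` is abelian
    have hEab : ∀ a ∈ E, ∀ b ∈ E, a * b = b * a := by
      intro a ha b hb
      by_contra hab
      have hcz : a * b * a⁻¹ * b⁻¹ ∈ Subgroup.zpowers z := hScomm a (hES ha) b (hES hb)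
      have hc1 : a * b * a⁻¹ * b⁻¹ ≠ 1 := by
        intro h
        apply hab
        have e1 : a * b = (a * b * a⁻¹ * b⁻¹) * (b * a) := by group
        rw [e1, h, one_mul]
      obtain ⟨j, hj⟩ := Subgroup.mem_zpowers_iff.mp (mem_zpowers_of_ne_one hzp hcz hc1)
      have h1 : zE = ((⟨a, ha⟩ : E) * ⟨b, hb⟩ * (⟨a, ha⟩ : E)⁻¹ * (⟨b, hb⟩ : E)⁻¹) ^ j := by
        apply Subtype.ext
        rw [hzEv, ← hj]
        rfl
      have h2 : (wE : Ω) ∈ Subgroup.zpowers z := by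
        rw [hwE, h1, map_zpow, map_mul, map_mul, map_mul, map_inv, map_inv]
        rw [Subgroup.coe_zpow]
        exact Subgroup.zpow_mem _ (hScomm _ (hES (g ⟨a, ha⟩).2) _ (hES (g ⟨b, hb⟩).2)) j
      obtain ⟨k, hk⟩ := Subgroup.mem_zpowers_iff.mp h2
      apply hwnc
      intro s hs
      rw [← hk]
      exact (Commute.zpow_right (show Commute s z from hzcent s hs) k).eq
    have hcardD : Nat.card (Subgroup.zpowers z) = p := by
      rw [Nat.card_zpowers]; exact orderOf_eq_prime hzp hz1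
    haveI hfinD : Finite (Subgroup.zpowers z) :=
      Nat.finite_of_card_ne_zero (by rw [hcardD]; exact hpp.pos.ne')
    have hSE : Nat.card S ≤ p * Nat.card E := by
      have h := card_le_mul_of_fiber (K := S) (D := Subgroup.zpowers z) (E.subgroupOf S)
        (fun s => ⟨(s : Ω) * (wE : Ω) * (s : Ω)⁻¹ * (wE : Ω)⁻¹, hScomm s s.2 _ hwS⟩) ?_
      · rw [hcardD] at h
        have h2 : Nat.card (E.subgroupOf S) = Nat.card E :=
          Nat.card_congr (Subgroup.subgroupOfEquivOfLe hES).toEquiv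
        rwa [h2] at h
      · intro a b hab
        rw [Subgroup.mem_subgroupOf]
        have h1 : (a : Ω) * (wE : Ω) * (a : Ω)⁻¹ * (wE : Ω)⁻¹ =
            (b : Ω) * (wE : Ω) * (b : Ω)⁻¹ * (wE : Ω)⁻¹ := congrArg Subtype.val hab
        have h2 : (a : Ω) * (wE : Ω) * (a : Ω)⁻¹ = (b : Ω) * (wE : Ω) * (b : Ω)⁻¹ :=
          mul_right_cancel h1
        apply hclaim _ (a⁻¹ * b).2
        show (a : Ω)⁻¹ * (b : Ω) * (wE : Ω) = (wE : Ω) * ((a : Ω)⁻¹ * (b : Ω))
        calc (a : Ω)⁻¹ * b * wE = (a : Ω)⁻¹ * ((b : Ω) * wE * (b : Ω)⁻¹) * b := by group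
          _ = (a : Ω)⁻¹ * ((a : Ω) * wE * (a : Ω)⁻¹) * b := by rw [h2]
          _ = wE * ((a : Ω)⁻¹ * b) := by group
    have hSEeq : Nat.card S = p * Nat.card E := by
      obtain ⟨k, hk⟩ := Subgroup.card_dvd_of_le hES
      obtain ⟨n, hn⟩ := hS.exists_card_eq
      have hk' : k ∣ p ^ n := ⟨Nat.card E, by rw [← hn, hk, mul_comm]⟩
      obtain ⟨m, -, rfl⟩ := (Nat.dvd_prime_pow hpp).mp hk'
      have hEpos : 0 < Nat.card E := Nat.card_pos
      have hm1 : p ^ m ≤ p := by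
        rw [hk, mul_comm p] at hSE
        exact Nat.le_of_mul_le_mul_left hSE hEpos
      have hm0 : m ≠ 0 := by
        rintro rfl
        rw [pow_zero, mul_one] at hk
        exact hlt.ne (Subgroup.eq_of_le_of_card_ge hES (le_of_eq hk))
      have hm : m = 1 := by
        by_contra hne
        have h2 : 2 ≤ m := by omega
        have h3 : p ^ 2 ≤ p ^ m := Nat.pow_le_pow_right hpp.pos h2
        have h4 := hpp.two_le
        nlinarith
      rw [hk, hm, pow_one, mul_comm]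
    have hZle : centralizerIn S S ≤ E := by
      intro x hx
      obtain ⟨hxS, hxc⟩ := Cfsg.Agent.Lib.helper89.mem_zc_iff.mp hx
      exact hZE x hxS hxc
    have hEZ : Nat.card E ≤ p * Nat.card (centralizerIn S S) := by
      have h := card_le_mul_of_fiber (K := E) (D := Subgroup.zpowers z)
        ((centralizerIn S S).subgroupOf E)
        (fun e => ⟨s₀ * (e : Ω) * s₀⁻¹ * (e : Ω)⁻¹, hScomm s₀ hs₀S _ (hES e.2)⟩) ?_
      · rw [hcardD] at h
        have h2 : Nat.card ((centralizerIn S S).subgroupOf E) = Nat.card (centralizerIn S S) :=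
          Nat.card_congr (Subgroup.subgroupOfEquivOfLe hZle).toEquiv
        rwa [h2] at h
      · intro a b hab
        rw [Subgroup.mem_subgroupOf]
        have h1 : s₀ * (a : Ω) * s₀⁻¹ * (a : Ω)⁻¹ = s₀ * (b : Ω) * s₀⁻¹ * (b : Ω)⁻¹ :=
          congrArg Subtype.val hab
        obtain ⟨x, hxdef⟩ : ∃ x : Ω, x = (a : Ω)⁻¹ * (b : Ω) := ⟨_, rfl⟩
        have hx : s₀ * x = x * s₀ := by
          have h2 : s₀ * (a : Ω) * s₀⁻¹ = (s₀ * (b : Ω) * s₀⁻¹ * (b : Ω)⁻¹) * a := by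
            rw [← h1]; group
          rw [hxdef]
          calc s₀ * ((a : Ω)⁻¹ * b) = (s₀ * (a : Ω) * s₀⁻¹)⁻¹ * (s₀ * (b : Ω) * s₀⁻¹) * s₀ := by
                group
            _ = ((s₀ * (b : Ω) * s₀⁻¹ * (b : Ω)⁻¹) * a)⁻¹ * (s₀ * (b : Ω) * s₀⁻¹) * s₀ := by
                rw [h2]
            _ = ((a : Ω)⁻¹ * b) * s₀ := by group
        have hxE : x ∈ E := by rw [hxdef]; exact E.mul_mem (E.inv_mem a.2) b.2
        have hEM : E ≤ S ⊓ Subgroup.centralizer ({x} : Set Ω) := fun e he =>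
          Subgroup.mem_inf.mpr ⟨hES he, Subgroup.mem_centralizer_iff.mpr (by
            rintro _ rfl
            exact hEab _ hxE e he)⟩
        have hMne : S ⊓ Subgroup.centralizer ({x} : Set Ω) ≠ E := by
          intro h
          apply hs₀E
          rw [← h]
          exact Subgroup.mem_inf.mpr ⟨hs₀S, Subgroup.mem_centralizer_iff.mpr (by
            rintro _ rfl
            exact hx.symm)⟩
        have hMeq : S ⊓ Subgroup.centralizer ({x} : Set Ω) = S :=
          Cfsg.Agent.Lib.helper89.eq_of_card_prime_mul hEM inf_le_left hSEeq hMne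
        show ((a⁻¹ * b : E) : Ω) ∈ centralizerIn S S
        have e0 : ((a⁻¹ * b : E) : Ω) = x := by rw [hxdef]; rfl
        rw [e0]
        refine Cfsg.Agent.Lib.helper89.mem_zc_iff.mpr ⟨hES hxE, fun g' hg' => ?_⟩
        have hgM : g' ∈ S ⊓ Subgroup.centralizer ({x} : Set Ω) := by rw [hMeq]; exact hg'
        exact (Subgroup.mem_centralizer_iff.mp (Subgroup.mem_inf.mp hgM).2 x rfl).symm
    have hcardle : Nat.card S ≤ p ^ 2 * Nat.card (centralizerIn S S) := by
      calc Nat.card S ≤ p * Nat.card E := hSE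
        _ ≤ p * (p * Nat.card (centralizerIn S S)) := Nat.mul_le_mul_left _ hEZ
        _ = p ^ 2 * Nat.card (centralizerIn S S) := by ring
    have H : Cfsg.Agent.Lib.helper89.SCHyp p F := ⟨hS, hF, hcardle⟩
    obtain ⟨V, x, h⟩ := H.exists_essFacts hE
    have hCbot := H.essCore_eq_bot_odd hp2 hO h
    have hz₁Z : z₁ ∈ centralizerIn S S :=
      Cfsg.Agent.Lib.helper89.mem_zc_iff.mpr ⟨hz₁S, hz₁c⟩
    obtain ⟨d, hd, c, hc, hzdc⟩ := h.dec z₁ hz₁Z
    rw [hCbot, Subgroup.mem_bot] at hc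
    rw [hc, mul_one] at hzdc
    apply hz₁Q
    rw [hzdc]
    exact (Subgroup.zpowers_le.mpr hzQmem) (hcs hd)
  ext x
  simp only [Subgroup.mem_inf, Subgroup.mem_centralizer_iff]
  constructor
  · rintro ⟨hxS, hxc⟩
    have hxQ := hkey x hxS (fun g hg => hxc g hg)
    exact ⟨hxQ, fun q hq => hxc q (hQS hq)⟩
  · rintro ⟨hxQ, hxc⟩
    refine ⟨hQS hxQ, fun s hs => ?_⟩
    have h1 : (⟨x, hxQ⟩ : Q) ∈ Subgroup.center Q := by
      rw [Subgroup.mem_center_iff]
      intro q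
      exact Subtype.ext (hxc q q.2)
    obtain ⟨k, hk⟩ := hcenQ _ h1
    have h2 : z ^ k = x := hk
    rw [← h2]
    exact (Commute.zpow_right (show Commute s z from hzcent s hs) k).eq

end Cfsg.Agent.S5178
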