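import Cfsg.Statements.S3389

set_option autoImplicit false
open Cfsg

namespace Cfsg.Agent.S3389

open MulAction

/-- If an element has at most two fixed points, three of its fixed points cannot be distinct. -/
theorem eq_of_three_fixed {G Ω : Type*} [Group G] [MulAction G Ω] [Finite Ω] {g : G}
    (h2 : Nat.card (fixedBy Ω g) ≤ 2) {a b c : Ω} (ha : g • a = a) (hb : g • b = b) (hc : g • c = c)
    (hab : a ≠ b) (hac : a ≠ c) : b = c := by
  by_contra hbc
  have hsub : ({a, b, c} : Set Ω) ⊆ fixedBy Ω g := by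
    intro x hx
    rcases hx with rfl | rfl | rfl <;> assumption
  have h3 : ({a, b, c} : Set Ω).ncard = 3 := Set.ncard_eq_three.2 ⟨a, b, c, hab, hac, hbc, rfl⟩
  have := Set.ncard_le_ncard hsub (Set.toFinite _)
  rw [Nat.card_coe_set_eq] at h2
  omega

theorem two_mul_ncard_orbit_le {H Ω : Type*} [Group H] [Finite H] [MulAction H Ω]
    (α : Ω) (a₀ : H) (ha₀ : a₀ ≠ 1) (haα : a₀ • α = α) :
    2 * (orbit H α).ncard ≤ Nat.card H := by
  have h1 : (stabilizer H α).index = (orbit H α).ncard := index_stabilizer H α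
  have h2 : (stabilizer H α).index * Nat.card (stabilizer H α) = Nat.card H :=
    Subgroup.index_mul_card _
  have h3 : 1 < Nat.card (stabilizer H α) := by
    rw [Subgroup.one_lt_card_iff_ne_bot]
    intro hbot
    have : a₀ ∈ stabilizer H α := haα
    rw [hbot] at this
    exact ha₀ (Subgroup.mem_bot.1 this)
  rw [h1] at h2
  nlinarith

/-- Counting lemma: a finite group fixing `β` in which nonidentity elements fix at most two points
has at most one orbit with nontrivial point stabilizers besides `{β}`. -/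
theorem exists_smul_eq_of_fixity {H Ω : Type*} [Group H] [Finite H] [MulAction H Ω] [Finite Ω]
    (β : Ω) (hβ : ∀ h : H, h • β = β)
    (hfix : ∀ x : H, x ≠ 1 → Nat.card (fixedBy Ω x) ≤ 2)
    (α β' : Ω) (hα : α ≠ β) (hβ' : β' ≠ β)
    (a₀ b₀ : H) (ha₀ : a₀ ≠ 1) (hb₀ : b₀ ≠ 1) (haα : a₀ • α = α) (hbβ : b₀ • β' = β') :
    ∃ h : H, h • α = β' := by
  classical
  by_contra hno
  push Not at hno
  let X : SubMulAction H Ω :=
    { carrier := orbit H α ∪ orbit H β'
      smul_mem' := by
        intro c x hx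
        rcases hx with ⟨h, rfl⟩ | ⟨h, rfl⟩
        · left; exact ⟨c * h, mul_smul c h α⟩
        · right; exact ⟨c * h, mul_smul c h β'⟩ }
  have hXmem : ∀ ω : Ω, ω ∈ X ↔ (ω ∈ orbit H α ∨ ω ∈ orbit H β') := fun ω => Iff.rfl
  have hXne : ∀ δ : X, (δ : Ω) ≠ β := by
    intro δ hδ
    rcases (hXmem _).1 δ.2 with ⟨h, hh⟩ | ⟨h, hh⟩
    · apply hα
      have : h • α = h • β := by rw [hβ h, ← hδ]; exact hh
      exact smul_left_cancel h this
    · apply hβ'
      have : h • β' = h • β := by rw [hβ h, ← hδ]; exact hh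
      exact smul_left_cancel h this
  have hsub : ∀ x : H, x ≠ 1 → Nat.card (fixedBy X x) ≤ 1 := by
    intro x hx
    rw [Finite.card_le_one_iff_subsingleton]
    constructor
    rintro ⟨δ1, h1⟩ ⟨δ2, h2⟩
    apply Subtype.ext
    apply Subtype.ext
    have h1' : x • (δ1 : Ω) = δ1 := by
      have := congrArg (Subtype.val) h1
      simpa using this
    have h2' : x • (δ2 : Ω) = δ2 := by
      have := congrArg (Subtype.val) h2
      simpa using this
    exact eq_of_three_fixed (hfix x hx) (hβ x) h1' h2' (hXne δ1).symm (hXne δ2).symm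
  have hXcard : Nat.card X ≤ Nat.card H := by
    have h1 : Nat.card X = (orbit H α ∪ orbit H β').ncard := rfl
    have h2 := Set.ncard_union_le (orbit H α) (orbit H β')
    have h3 := two_mul_ncard_orbit_le α a₀ ha₀ haα
    have h4 := two_mul_ncard_orbit_le β' b₀ hb₀ hbβ
    omega
  have : Fintype H := Fintype.ofFinite H
  have : Fintype X := Fintype.ofFinite X
  have hB := MulAction.sum_card_fixedBy_eq_card_orbits_mul_card_group H X
  have hq : 1 < Fintype.card (Quotient (orbitRel H X)) := by
    rw [Fintype.one_lt_card_iff_nontrivial]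
    refine ⟨⟨Quotient.mk'' (⟨α, (hXmem _).2 (Or.inl (mem_orbit_self α))⟩ : X),
      Quotient.mk'' (⟨β', (hXmem _).2 (Or.inr (mem_orbit_self β'))⟩ : X), ?_⟩⟩
    intro heq
    rw [Quotient.eq''] at heq
    have heq' : (⟨α, (hXmem _).2 (Or.inl (mem_orbit_self α))⟩ : X) ∈
        orbit H (⟨β', (hXmem _).2 (Or.inr (mem_orbit_self β'))⟩ : X) := heq
    obtain ⟨h, hh⟩ := heq'
    have hh' : h • β' = α := congrArg Subtype.val hh
    apply hno h⁻¹
    rw [← hh', inv_smul_smul]
  have hsum : (∑ g : H, Fintype.card (fixedBy X g)) ≤ Fintype.card X + (Fintype.card H - 1) := by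
    rw [← Finset.add_sum_erase Finset.univ _ (Finset.mem_univ (1 : H))]
    apply Nat.add_le_add
    · exact Fintype.card_subtype_le _
    · have := Finset.sum_le_card_nsmul (Finset.univ.erase (1 : H))
        (fun g => Fintype.card (fixedBy X g)) 1 (by
          intro x hx
          have hx1 : x ≠ 1 := Finset.ne_of_mem_erase hx
          have := hsub x hx1
          rwa [Nat.card_eq_fintype_card] at this)
      rw [Finset.card_erase_of_mem (Finset.mem_univ _), Finset.card_univ] at this
      simpa using this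
  rw [Nat.card_eq_fintype_card, Nat.card_eq_fintype_card] at hXcard
  have hHpos : 0 < Fintype.card H := Fintype.card_pos
  have : 2 * Fintype.card H ≤ Fintype.card (Quotient (orbitRel H X)) * Fintype.card H :=
    Nat.mul_le_mul_right _ hq
  omega


theorem center_card_dvd {G : Type*} [Group G] [Finite G] {Ω : Type*} [Finite Ω] [MulAction G Ω]
    [FaithfulSMul G Ω] (htr : IsPretransitive G Ω) (g : G) :
    Nat.card (Subgroup.center G) ∣ Nat.card (fixedBy Ω g) := by
  let X : SubMulAction (Subgroup.center G) Ω :=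
    { carrier := fixedBy Ω g
      smul_mem' := by
        intro c x hx
        show g • ((c : G) • x) = (c : G) • x
        have hc := Subgroup.mem_center_iff.1 c.2 g
        have hx' : g • x = x := hx
        rw [← mul_smul, hc, mul_smul, hx'] }
  have hfree : ∀ b : X, stabilizer (Subgroup.center G) b = ⊥ := by
    intro b
    rw [eq_bot_iff]
    intro c hc
    rw [Subgroup.mem_bot]
    have hcb : (c : G) • (b : Ω) = b := congrArg Subtype.val (show c • b = b from hc)
    apply Subtype.ext
    apply FaithfulSMul.eq_of_smul_eq_smul (α := Ω)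
    intro ω
    obtain ⟨h, rfl⟩ := MulAction.exists_smul_eq G (b : Ω) ω
    rw [Subgroup.coe_one, one_smul, ← mul_smul, ← Subgroup.mem_center_iff.1 c.2 h, mul_smul, hcb]
  have e := MulAction.selfEquivOrbitsQuotientProd hfree
  have h1 : Nat.card X =
      Nat.card (Quotient (orbitRel (Subgroup.center G) X)) * Nat.card (Subgroup.center G) := by
    rw [Nat.card_congr e, Nat.card_prod]
  have h2 : Nat.card X = Nat.card (fixedBy Ω g) := rfl
  rw [← h2, h1]; exact dvd_mul_left _ _

theorem pgroup_le_stabilizer {G Ω : Type*} [Group G] [MulAction G Ω] [Finite Ω] (p : ℕ)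
    [Fact p.Prime] (P : Subgroup G) (hP : IsPGroup p P) (α : Ω) (Y : Set Ω) (hY : Nat.card Y < p)
    (hsub : ∀ q ∈ P, q • α ∈ Y) : P ≤ stabilizer G α := by
  intro q hq
  obtain ⟨n, hn⟩ := hP.card_orbit α
  have hle : Nat.card (orbit P α) ≤ Nat.card Y := by
    apply Nat.card_mono (Set.toFinite Y)
    rintro _ ⟨x, rfl⟩
    exact hsub x x.2
  have hn0 : n = 0 := by
    by_contra h
    have : p ≤ p ^ n := Nat.le_self_pow h p
    omega
  rw [hn0, pow_zero] at hn
  have hss : Subsingleton (orbit P α) := (Nat.card_eq_one_iff_unique.1 hn).1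
  have h1 : (⟨(⟨q, hq⟩ : P) • α, mem_orbit α _⟩ : orbit P α) = ⟨α, mem_orbit_self α⟩ :=
    Subsingleton.elim _ _
  exact congrArg Subtype.val h1

theorem even_of_swap {G Ω : Type*} [Group G] [MulAction G Ω] (s : G) (α β : Ω) (hne : α ≠ β)
    (h1 : s • α = β) (h2 : s • β = α) : 2 ∣ Nat.card G := by
  refine dvd_trans ?_ (orderOf_dvd_natCard s)
  by_contra hodd
  have hodd' : Odd (orderOf s) := Nat.not_even_iff_odd.1 (fun h => hodd (even_iff_two_dvd.1 h))
  obtain ⟨j, hj⟩ := hodd'
  have hs2 : s ^ 2 ∈ stabilizer G β := by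
    rw [mem_stabilizer_iff, pow_two, mul_smul, h2, h1]
  have hs2j : (s ^ 2) ^ j ∈ stabilizer G β := Subgroup.pow_mem _ hs2 j
  have h3 : s ^ (2 * j + 1) = 1 := by rw [← hj]; exact pow_orderOf_eq_one s
  have h4 : s ^ (2 * j + 1) • α = β := by
    rw [pow_succ, pow_mul, mul_smul, h1]
    exact hs2j
  rw [h3, one_smul] at h4
  exact hne h4

theorem result {G : Type*} [Group G] [Finite G] {Ω : Type*} [Fintype Ω] [MulAction G Ω] [FaithfulSMul G Ω]
    (htr : MulAction.IsPretransitive G Ω) (k : ℕ) (hk : 1 ≤ k)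
    (hfix : ∀ g : G, g ≠ 1 → Nat.card (MulAction.fixedBy Ω g) ≤ k) (hex : ∃ g : G, g ≠ 1 ∧ Nat.card (MulAction.fixedBy Ω g) = k) :
    Nat.card (Subgroup.center G) ∣ k ∧ (k = 2 → 2 ∣ Nat.card G) ∧
      ∀ (p : ℕ), p.Prime → k < p → p ∣ Nat.card G → ∀ α : Ω,
        ¬ p ∣ Nat.card (MulAction.stabilizer G α) ∨ ¬ p ∣ (MulAction.stabilizer G α).index := by
  obtain ⟨g, hg1, hgk⟩ := hex
  refine ⟨?_, ?_, ?_⟩
  · rw [← hgk]
    exact center_card_dvd htr g
  · intro hk2
    subst hk2
    rw [Nat.card_coe_set_eq, Set.ncard_eq_two] at hgk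
    obtain ⟨α, β, hαβ, hset⟩ := hgk
    have hgα : g • α = α := by
      have : α ∈ fixedBy Ω g := by rw [hset]; simp
      exact this
    have hgβ : g • β = β := by
      have : β ∈ fixedBy Ω g := by rw [hset]; simp
      exact this
    obtain ⟨t, ht⟩ := MulAction.exists_smul_eq G α β
    by_cases htβ : t • β = α
    · exact even_of_swap t α β hαβ ht htβ
    · -- the counting argument inside the stabilizer of β
      have hβ'β : t • β ≠ β := by
        intro h
        have h' : t • β = t • α := by rw [ht]; exact h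
        exact hαβ (smul_left_cancel t h').symm
      have hg'1 : t * g * t⁻¹ ≠ 1 := by
        intro h
        apply hg1
        have := congrArg (fun x => t⁻¹ * x * t) h
        simpa [mul_assoc] using this
      have hg'β : (t * g * t⁻¹) • β = β := by
        rw [mul_smul, mul_smul, ← ht, inv_smul_smul, hgα]
      have hg'β' : (t * g * t⁻¹) • (t • β) = t • β := by
        rw [mul_smul, mul_smul, inv_smul_smul, hgβ]
      obtain ⟨h, hh⟩ := exists_smul_eq_of_fixity (H := stabilizer G β) (Ω := Ω) β
        (fun h => h.2)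
        (fun x hx => hfix (x : G) (fun h1 => hx (Subtype.ext h1)))
        α (t • β) hαβ hβ'β ⟨g, hgβ⟩ ⟨t * g * t⁻¹, hg'β⟩
        (fun h1 => hg1 (congrArg Subtype.val h1)) (fun h1 => hg'1 (congrArg Subtype.val h1))
        hgα hg'β'
      have hh' : (h : G) • α = t • β := hh
      have hhβ : (h : G) • β = β := h.2
      refine even_of_swap ((h : G)⁻¹ * t) α β hαβ ?_ ?_
      · rw [mul_smul, ht, inv_smul_eq_iff, hhβ]
      · rw [mul_smul, inv_smul_eq_iff, hh']
  · intro p hp hkp hpG α
    by_cases hdiv : p ∣ Nat.card (stabilizer G α)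
    · right
      have : Fact p.Prime := ⟨hp⟩
      obtain ⟨x, hx⟩ := exists_prime_orderOf_dvd_card' p hdiv
      have hx1 : (x : G) ≠ 1 := by
        intro h
        have : x = 1 := Subtype.ext h
        rw [this, orderOf_one] at hx
        exact hp.one_lt.ne hx
      have hxα : (x : G) • α = α := x.2
      have hP₀ : IsPGroup p (Subgroup.zpowers (x : G)) := by
        apply IsPGroup.of_card (n := 1)
        rw [Nat.card_zpowers, Subgroup.orderOf_coe, hx, pow_one]
      obtain ⟨Q, hQ⟩ := hP₀.exists_le_sylow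
      have hxQ : (x : G) ∈ (Q : Subgroup G) := hQ (Subgroup.mem_zpowers _)
      have hQnt : Nontrivial (Q : Subgroup G) :=
        ⟨⟨⟨(x : G), hxQ⟩, 1, fun h => hx1 (congrArg Subtype.val h)⟩⟩
      have hZnt : Nontrivial (Subgroup.center (Q : Subgroup G)) := Q.2.center_nontrivial
      obtain ⟨z, hz⟩ := exists_ne (1 : Subgroup.center (Q : Subgroup G))
      have hzc : ∀ q : (Q : Subgroup G), q * (z : (Q : Subgroup G)) = (z : (Q : Subgroup G)) * q :=
        fun q => Subgroup.mem_center_iff.1 z.2 q
      have hzc' : ∀ q ∈ (Q : Subgroup G), q * ((z : (Q : Subgroup G)) : G) = ((z : (Q : Subgroup G)) : G) * q := by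
        intro q hq
        exact congrArg Subtype.val (hzc ⟨q, hq⟩)
      have hz1 : ((z : (Q : Subgroup G)) : G) ≠ 1 := by
        intro h
        apply hz
        apply Subtype.ext
        apply Subtype.ext
        exact h
      -- Step A: z fixes α
      have hzα : ((z : (Q : Subgroup G)) : G) • α = α := by
        have hPz : IsPGroup p (Subgroup.zpowers ((z : (Q : Subgroup G)) : G)) :=
          Q.2.to_le (by
            rw [Subgroup.zpowers_le]
            exact (z : (Q : Subgroup G)).2)
        have := pgroup_le_stabilizer p (Subgroup.zpowers ((z : (Q : Subgroup G)) : G)) hPz α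
          (fixedBy Ω (x : G)) (lt_of_le_of_lt (hfix _ hx1) hkp) (by
            intro q hq
            show (x : G) • (q • α) = q • α
            have hcomm : (x : G) * q = q * (x : G) := by
              obtain ⟨i, rfl⟩ := Subgroup.mem_zpowers_iff.1 hq
              have h0 : Commute ((z : (Q : Subgroup G)) : G) (x : G) := (hzc' _ hxQ).symm
              exact (h0.zpow_left i).symm.eq
            rw [← mul_smul, hcomm, mul_smul, hxα])
        exact this (Subgroup.mem_zpowers _)
      -- Step B: Q fixes α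
      have hQα : (Q : Subgroup G) ≤ stabilizer G α := by
        apply pgroup_le_stabilizer p (Q : Subgroup G) Q.2 α
          (fixedBy Ω ((z : (Q : Subgroup G)) : G)) (lt_of_le_of_lt (hfix _ hz1) hkp)
        intro q hq
        show ((z : (Q : Subgroup G)) : G) • (q • α) = q • α
        rw [← mul_smul, ← hzc' q hq, mul_smul, hzα]
      intro hdvd
      exact Q.not_dvd_index (dvd_trans hdvd (Subgroup.index_dvd_of_le hQα))
    · left; exact hdiv

end Cfsg.Agent.S3389
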