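import Cfsg.Statements.S0095
import Cfsg.Agent.Lib.helper3.Class2
-- import your own Cfsg.Agent.* helpers here

set_option autoImplicit false
open Cfsg

namespace Cfsg.Agent.S0095

open Cfsg.Agent.Lib.helper3
open scoped commutatorElement

universe u

section aux

variable {P : Type*} [Group P]

theorem comm_mem_center (h : commutator P ≤ Subgroup.center P) (a b : P) :
    ⁅a, b⁆ ∈ Subgroup.center P := by
  apply h
  rw [commutator_def]
  exact Subgroup.commutator_mem_commutator (Subgroup.mem_top a) (Subgroup.mem_top b)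

theorem commCentral_of_commutator_le_center (h : commutator P ≤ Subgroup.center P) :
    CommCentral P := by
  intro x y z
  exact ((Subgroup.mem_center_iff.mp (comm_mem_center h x y)) z).symm

theorem comm_mul_right (hc : CommCentral P) (x g h : P) : ⁅x, g * h⁆ = ⁅x, g⁆ * ⁅x, h⁆ := by
  have h1 : ⁅x, g * h⁆ = ⁅x, g⁆ * (g * ⁅x, h⁆ * g⁻¹) := by
    simp only [commutatorElement_def]; group
  rw [h1, ← hc x h g, mul_inv_cancel_right]

theorem comm_pow_right (hc : CommCentral P) (x y : P) (n : ℕ) : ⁅x, y ^ n⁆ = ⁅x, y⁆ ^ n := by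
  rw [← commutatorElement_inv, commutator_pow_left_class2 hc, ← inv_pow, commutatorElement_inv]

theorem comm_self (x : P) : ⁅x, x⁆ = 1 := by
  rw [commutatorElement_def]; group

/-- Centralizing one more element with a nontrivial commutator divides the order by `p`. -/
theorem card_eq_mul_card_inf_centralizer [Finite P] {p : ℕ} [Fact p.Prime]
    (hc : commutator P ≤ Subgroup.center P) (hZ : Nat.card (Subgroup.center P) = p)
    (K : Subgroup P) (y : P) (k₀ : P) (hk₀ : k₀ ∈ K) (hne : ⁅y, k₀⁆ ≠ 1) :
    Nat.card K = p * Nat.card (K ⊓ Subgroup.centralizer {y} : Subgroup P) := by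
  have hcc := commCentral_of_commutator_le_center hc
  let f : K →* Subgroup.center P :=
    { toFun := fun k => ⟨⁅y, (k : P)⁆, comm_mem_center hc _ _⟩
      map_one' := by
        apply Subtype.ext
        show ⁅y, (1 : P)⁆ = 1
        exact commutatorElement_one_right y
      map_mul' := fun a b => by
        apply Subtype.ext
        show ⁅y, (a : P) * (b : P)⁆ = ⁅y, (a : P)⁆ * ⁅y, (b : P)⁆
        exact comm_mul_right hcc _ _ _ }
  have hf : ∀ k : K, ((f k : Subgroup.center P) : P) = ⁅y, (k : P)⁆ := fun k => rfl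
  have hker : f.ker = (K ⊓ Subgroup.centralizer {y}).subgroupOf K := by
    ext k
    rw [MonoidHom.mem_ker, Subgroup.mem_subgroupOf, Subgroup.mem_inf,
      Subgroup.mem_centralizer_singleton_iff]
    constructor
    · intro h
      have h1 : ⁅y, (k : P)⁆ = 1 := by rw [← hf, h]; rfl
      refine ⟨k.2, ?_⟩
      exact (commutatorElement_eq_one_iff_mul_comm.mp h1).symm
    · rintro ⟨-, h⟩
      apply Subtype.ext
      rw [hf]
      exact commutatorElement_eq_one_iff_mul_comm.mpr h.symm
  have hrange : f.range = ⊤ := by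
    have : Fact (Nat.card (Subgroup.center P)).Prime := ⟨hZ ▸ Fact.out⟩
    rcases Subgroup.eq_bot_or_eq_top_of_prime_card f.range with h | h
    · exfalso
      apply hne
      have h1 : f ⟨k₀, hk₀⟩ ∈ f.range := ⟨_, rfl⟩
      rw [h, Subgroup.mem_bot] at h1
      have h2 := hf ⟨k₀, hk₀⟩
      rw [h1] at h2
      exact h2.symm
    · exact h
  have h1 := Subgroup.card_mul_index f.ker
  rw [Subgroup.index_ker, hrange, Subgroup.card_top, hZ, hker] at h1
  have h2 : Nat.card ((K ⊓ Subgroup.centralizer {y}).subgroupOf K) =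
      Nat.card (K ⊓ Subgroup.centralizer {y} : Subgroup P) :=
    Nat.card_congr (Subgroup.subgroupOfEquivOfLe inf_le_left).toEquiv
  rw [h2] at h1
  rw [← h1, mul_comm]

end aux

/-- The order of a `p`-group whose derived subgroup is its centre, of order `p`. -/
theorem card_of_extraspecial (p : ℕ) [Fact p.Prime] :
    ∀ (N : ℕ) (P : Type u) [Group P] [Finite P], Nat.card P = N → IsPGroup p P →
      commutator P = Subgroup.center P → Nat.card (Subgroup.center P) = p →
      ∃ n : ℕ, 1 ≤ n ∧ Nat.card P = p ^ (2 * n + 1) := by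
  intro N
  induction N using Nat.strong_induction_on with
  | _ N ih =>
  intro P _ _ hN hP hcomm hZ
  have hp : p.Prime := Fact.out
  have hc : commutator P ≤ Subgroup.center P := le_of_eq hcomm
  have hcc := commCentral_of_commutator_le_center hc
  -- a nontrivial commutator
  have hex : ∃ x y : P, ⁅x, y⁆ ≠ 1 := by
    by_contra hcon
    push Not at hcon
    have h1 : commutator P = ⊥ := by
      rw [eq_bot_iff, commutator_def, Subgroup.commutator_le]
      intro a _ b _
      rw [Subgroup.mem_bot]
      exact hcon a b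
    rw [← hcomm, h1, Subgroup.card_bot] at hZ
    exact hp.one_lt.ne hZ
  obtain ⟨x, y, hxy⟩ := hex
  have hz : ⁅x, y⁆ ∈ Subgroup.center P := comm_mem_center hc x y
  have hyx : ⁅y, x⁆ ≠ 1 := by
    intro h
    apply hxy
    rw [← commutatorElement_inv, h, inv_one]
  -- the centre is generated by z
  have hgen : ∀ c ∈ Subgroup.center P, ∃ n : ℕ, ⁅x, y⁆ ^ n = c := by
    intro c hcmem
    have hne : (⟨⁅x, y⁆, hz⟩ : Subgroup.center P) ≠ 1 := by
      intro h
      exact hxy (congrArg Subtype.val h)
    have h1 := zpowers_eq_top_of_prime_card hZ hne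
    have h2 : (⟨c, hcmem⟩ : Subgroup.center P) ∈ Subgroup.zpowers (⟨⁅x, y⁆, hz⟩ : Subgroup.center P) := by
      rw [h1]; exact Subgroup.mem_top _
    rw [← (isOfFinOrder_of_finite _).mem_powers_iff_mem_zpowers] at h2
    obtain ⟨n, hn⟩ := h2
    exact ⟨n, congrArg Subtype.val hn⟩
  have hzp : ⁅x, y⁆ ^ p = 1 := by
    have h1 : (⟨⁅x, y⁆, hz⟩ : Subgroup.center P) ^ p = 1 := by
      have := pow_card_eq_one' (G := Subgroup.center P) (x := ⟨⁅x, y⁆, hz⟩)
      rwa [hZ] at this
    exact congrArg Subtype.val h1
  -- index computations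
  have hcard1 : Nat.card P = p * Nat.card (Subgroup.centralizer {x} : Subgroup P) := by
    have h1 := card_eq_mul_card_inf_centralizer hc hZ ⊤ x y (Subgroup.mem_top y) hxy
    rwa [Subgroup.card_top, top_inf_eq] at h1
  have hxC : x ∈ Subgroup.centralizer ({x} : Set P) := by
    rw [Subgroup.mem_centralizer_singleton_iff]
  have hcard2 := card_eq_mul_card_inf_centralizer hc hZ (Subgroup.centralizer {x}) y x hxC hyx
  set D : Subgroup P := Subgroup.centralizer {x} ⊓ Subgroup.centralizer {y} with hD
  have hZD : Subgroup.center P ≤ D :=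
    le_inf (Subgroup.center_le_centralizer _) (Subgroup.center_le_centralizer _)
  -- decomposition
  have hdec : ∀ g : P, ∃ m n : ℕ, g * y ^ m * x ^ n ∈ D := by
    intro g
    obtain ⟨a, ha⟩ := hgen _ (comm_mem_center hc x g)
    obtain ⟨b, hb⟩ := hgen _ (comm_mem_center hc y g)
    refine ⟨a * (p - 1), b, ?_⟩
    have e1 : ⁅x, g * y ^ (a * (p - 1)) * x ^ b⁆ = 1 := by
      rw [comm_mul_right hcc, comm_mul_right hcc, comm_pow_right hcc, comm_pow_right hcc,
        comm_self, one_pow, mul_one, ← ha, ← pow_add]
      have : a + a * (p - 1) = p * a := by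
        have := hp.one_le
        obtain ⟨q, rfl⟩ : ∃ q, p = q + 1 := ⟨p - 1, by omega⟩
        simp only [Nat.add_sub_cancel]
        ring
      rw [this, pow_mul, hzp, one_pow]
    have e2 : ⁅y, g * y ^ (a * (p - 1)) * x ^ b⁆ = 1 := by
      rw [comm_mul_right hcc, comm_mul_right hcc, comm_pow_right hcc, comm_pow_right hcc,
        comm_self, one_pow, mul_one, ← hb, ← commutatorElement_inv x y, inv_pow, mul_inv_cancel]
    rw [hD, Subgroup.mem_inf, Subgroup.mem_centralizer_singleton_iff,
      Subgroup.mem_centralizer_singleton_iff]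
    exact ⟨(commutatorElement_eq_one_iff_mul_comm.mp e1).symm,
      (commutatorElement_eq_one_iff_mul_comm.mp e2).symm⟩
  -- the centre of D
  have hcenD : Subgroup.center D = (Subgroup.center P).subgroupOf D := by
    ext d
    rw [Subgroup.mem_subgroupOf, Subgroup.mem_center_iff, Subgroup.mem_center_iff]
    constructor
    · intro h g
      obtain ⟨m, n, hmn⟩ := hdec g
      have hd : (d : P) ∈ Subgroup.centralizer {x} ⊓ Subgroup.centralizer {y} := d.2
      rw [Subgroup.mem_inf, Subgroup.mem_centralizer_singleton_iff,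
        Subgroup.mem_centralizer_singleton_iff] at hd
      have c1 : Commute (d : P) (g * y ^ m * x ^ n) := by
        have := h ⟨_, hmn⟩
        exact (congrArg Subtype.val this).symm
      have c2 : Commute (d : P) x := hd.1
      have c3 : Commute (d : P) y := hd.2
      have c4 : Commute (d : P) (g * y ^ m * x ^ n * (x ^ n)⁻¹ * (y ^ m)⁻¹) :=
        (c1.mul_right (c2.pow_right n).inv_right).mul_right (c3.pow_right m).inv_right
      have e : g * y ^ m * x ^ n * (x ^ n)⁻¹ * (y ^ m)⁻¹ = g := by group
      rw [e] at c4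
      exact c4.eq.symm
    · intro h e
      apply Subtype.ext
      exact h (e : P)
  have hcardZD : Nat.card (Subgroup.center D) = p := by
    rw [hcenD, Nat.card_congr (Subgroup.subgroupOfEquivOfLe hZD).toEquiv, hZ]
  have hcommD : commutator D ≤ Subgroup.center D := by
    rw [hcenD, commutator_def, Subgroup.commutator_le]
    intro a _ b _
    rw [Subgroup.mem_subgroupOf]
    exact comm_mem_center hc (a : P) (b : P)
  have hDpos : 0 < Nat.card D := Nat.card_pos
  have hdvd : Nat.card (commutator D) ∣ p := by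
    rw [← hcardZD]
    exact Subgroup.card_dvd_of_le hcommD
  rcases (Nat.dvd_prime hp).mp hdvd with h1 | h1
  · -- D abelian
    have hbot : commutator D = ⊥ := Subgroup.card_eq_one.mp h1
    have htop : Subgroup.center D = ⊤ := by
      rw [eq_top_iff]
      intro d _
      rw [Subgroup.mem_center_iff]
      intro e
      have h2 : ⁅e, d⁆ ∈ commutator D := by
        rw [commutator_def]
        exact Subgroup.commutator_mem_commutator (Subgroup.mem_top e) (Subgroup.mem_top d)
      rw [hbot, Subgroup.mem_bot] at h2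
      exact commutatorElement_eq_one_iff_mul_comm.mp h2
    have hcD : Nat.card D = p := by
      rw [← hcardZD, htop, Subgroup.card_top]
    refine ⟨1, le_rfl, ?_⟩
    rw [hcard1, hcard2, hcD]
    ring
  · -- induction
    have heq : commutator D = Subgroup.center D :=
      Subgroup.eq_of_le_of_card_ge hcommD (by rw [h1, hcardZD])
    have hlt : Nat.card D < N := by
      rw [← hN, hcard1, hcard2]
      have h2 := hp.two_le
      nlinarith
    obtain ⟨m, hm1, hm⟩ := ih (Nat.card D) hlt D rfl (hP.to_subgroup D) heq hcardZD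
    refine ⟨m + 1, by omega, ?_⟩
    rw [hcard1, hcard2, hm]
    ring

/-- The order of an extraspecial p-group is an odd power p^(2n+1) of p with n ≥ 1. -/
theorem result {P : Type*} [Group P] [Finite P] {p : ℕ} [Fact p.Prime] (h : Cfsg.IsExtraspecial p P) : ∃ n : ℕ, 1 ≤ n ∧ Nat.card P = p ^ (2 * n + 1) := by
  obtain ⟨⟨hP, -, hcomm⟩, hZ⟩ := h
  exact card_of_extraspecial p (Nat.card P) P rfl hP hcomm hZ

end Cfsg.Agent.S0095
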