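import Cfsg.Statements.S1505
import Mathlib
import Cfsg.Agent.Lib.helper4.Induction
import Cfsg.Agent.Lib.helper32.CyclicTI3

set_option autoImplicit false
open Cfsg

namespace Cfsg.Agent.S1505

open Cfsg.Agent.Lib.helper32

open scoped ComplexConjugate

/-- Unique decomposition of a linear character of `W₁ ⊔ W₂` as `φ * ψ`. -/
theorem mul_eq_mul_iff {G : Type*} [Group G] (W₁ W₂ : Subgroup G)
    (φ φ' ψ ψ' : ↥(W₁ ⊔ W₂) →* ℂˣ)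
    (hφ : ∀ w : ↥(W₁ ⊔ W₂), (w : G) ∈ W₂ → φ w = 1)
    (hφ' : ∀ w : ↥(W₁ ⊔ W₂), (w : G) ∈ W₂ → φ' w = 1)
    (hψ : ∀ w : ↥(W₁ ⊔ W₂), (w : G) ∈ W₁ → ψ w = 1)
    (hψ' : ∀ w : ↥(W₁ ⊔ W₂), (w : G) ∈ W₁ → ψ' w = 1) :
    φ * ψ = φ' * ψ' ↔ φ = φ' ∧ ψ = ψ' := by
  constructor
  · intro h
    constructor
    · apply hom_ext_of_sup
      · intro w hw
        have := DFunLike.congr_fun h w
        simpa [hψ w hw, hψ' w hw] using this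
      · intro w hw
        rw [hφ w hw, hφ' w hw]
    · apply hom_ext_of_sup
      · intro w hw
        rw [hψ w hw, hψ' w hw]
      · intro w hw
        have := DFunLike.congr_fun h w
        simpa [hφ w hw, hφ' w hw] using this
  · rintro ⟨rfl, rfl⟩
    rfl

open Classical in
/-- Let W₁, W₂ ≤ G form a self-normalising cyclic subgroup W = W₁ ⊔ W₂. For nontrivial linear characters φ, φ' of W trivial on W₂ and ψ, ψ' trivial on W₁, put α = (1 − φ)(1 − ψ) and α' = (1 − φ')(1 − ψ'). Then the function induced from α to G has inner product 1 with the principal character, and the inner product of the functions induced from α and α' is 1 + a + b + ab where a = 1 if φ = φ' (else 0) and b = 1 if ψ = ψ' (else 0). -/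
theorem result {G : Type*} [Group G] [Fintype G] (W₁ W₂ : Subgroup G) (hW : Cfsg.IsSelfNormalizingCyclic W₁ W₂) (φ φ' ψ ψ' : ↥(W₁ ⊔ W₂) →* ℂˣ) (hφ : φ ≠ 1) (hφ' : φ' ≠ 1) (hψ : ψ ≠ 1) (hψ' : ψ' ≠ 1) (hφ₂ : ∀ w : ↥(W₁ ⊔ W₂), (w : G) ∈ W₂ → φ w = 1 ∧ φ' w = 1) (hψ₁ : ∀ w : ↥(W₁ ⊔ W₂), (w : G) ∈ W₁ → ψ w = 1 ∧ ψ' w = 1) : Cfsg.classInner (Cfsg.indFun (W₁ ⊔ W₂) (fun w => 1 - (φ w : ℂ) - (ψ w : ℂ) + (φ w : ℂ) * (ψ w : ℂ))) (fun _ => 1) = 1 ∧ Cfsg.classInner (Cfsg.indFun (W₁ ⊔ W₂) (fun w => 1 - (φ w : ℂ) - (ψ w : ℂ) + (φ w : ℂ) * (ψ w : ℂ))) (Cfsg.indFun (W₁ ⊔ W₂) (fun w => 1 - (φ' w : ℂ) - (ψ' w : ℂ) + (φ' w : ℂ) * (ψ' w : ℂ))) = 1 + (if φ = φ' then 1 else 0) + (if ψ = ψ' then 1 else 0) + (if φ = φ' then 1 else 0) * (if ψ = ψ' then 1 else 0) := by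
  classical
  have : Fintype ↥(W₁ ⊔ W₂) := Fintype.ofFinite _
  have hφ₂a : ∀ w : ↥(W₁ ⊔ W₂), (w : G) ∈ W₂ → φ w = 1 := fun w hw => (hφ₂ w hw).1
  have hφ₂b : ∀ w : ↥(W₁ ⊔ W₂), (w : G) ∈ W₂ → φ' w = 1 := fun w hw => (hφ₂ w hw).2
  have hψ₁a : ∀ w : ↥(W₁ ⊔ W₂), (w : G) ∈ W₁ → ψ w = 1 := fun w hw => (hψ₁ w hw).1
  have hψ₁b : ∀ w : ↥(W₁ ⊔ W₂), (w : G) ∈ W₁ → ψ' w = 1 := fun w hw => (hψ₁ w hw).2
  have h1a : ∀ w : ↥(W₁ ⊔ W₂), (w : G) ∈ W₂ → (1 : ↥(W₁ ⊔ W₂) →* ℂˣ) w = 1 := fun _ _ => rfl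
  have h1b : ∀ w : ↥(W₁ ⊔ W₂), (w : G) ∈ W₁ → (1 : ↥(W₁ ⊔ W₂) →* ℂˣ) w = 1 := fun _ _ => rfl
  have hWc : (Nat.card ↥(W₁ ⊔ W₂) : ℂ) ≠ 0 := by exact_mod_cast Nat.card_pos.ne'
  have n1 : (1 : ↥(W₁ ⊔ W₂) →* ℂˣ) ≠ φ' * ψ' := fun h => hφ'
    ((mul_eq_mul_iff W₁ W₂ 1 φ' 1 ψ' h1a hφ₂b h1b hψ₁b).mp ((one_mul 1).trans h)).1.symm
  have n2 : φ ≠ ψ' := fun h => hφ
    ((mul_eq_mul_iff W₁ W₂ φ 1 1 ψ' hφ₂a h1a h1b hψ₁b).mp ((mul_one φ).trans (h.trans (one_mul ψ').symm))).1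
  have n3 : φ ≠ φ' * ψ' := fun h => hψ'
    ((mul_eq_mul_iff W₁ W₂ φ φ' 1 ψ' hφ₂a hφ₂b h1b hψ₁b).mp ((mul_one φ).trans h)).2.symm
  have n4 : ψ ≠ φ' := fun h => hφ'
    ((mul_eq_mul_iff W₁ W₂ 1 φ' ψ 1 h1a hφ₂b hψ₁a h1b).mp ((one_mul ψ).trans (h.trans (mul_one φ').symm))).1.symm
  have n5 : ψ ≠ φ' * ψ' := fun h => hφ'
    ((mul_eq_mul_iff W₁ W₂ 1 φ' ψ ψ' h1a hφ₂b hψ₁a hψ₁b).mp ((one_mul ψ).trans h)).1.symm
  have n6 : φ * ψ ≠ 1 := fun h => hφ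
    ((mul_eq_mul_iff W₁ W₂ φ 1 ψ 1 hφ₂a h1a hψ₁a h1b).mp (h.trans (one_mul (1 : ↥(W₁ ⊔ W₂) →* ℂˣ)).symm)).1
  have n7 : φ * ψ ≠ φ' := fun h => hψ
    ((mul_eq_mul_iff W₁ W₂ φ φ' ψ 1 hφ₂a hφ₂b hψ₁a h1b).mp (h.trans (mul_one φ').symm)).2
  have n8 : φ * ψ ≠ ψ' := fun h => hφ
    ((mul_eq_mul_iff W₁ W₂ φ 1 ψ ψ' hφ₂a h1a hψ₁a hψ₁b).mp (h.trans (one_mul ψ').symm)).1
  have n9 := mul_eq_mul_iff W₁ W₂ φ φ' ψ ψ' hφ₂a hφ₂b hψ₁a hψ₁b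
  constructor
  · rw [Cfsg.Agent.Lib.helper4.frobenius_reciprocity _ _ (fun _ _ => rfl)]
    unfold Cfsg.classInner
    have e : ∀ w : ↥(W₁ ⊔ W₂), (1 - (φ w : ℂ) - (ψ w : ℂ) + (φ w : ℂ) * (ψ w : ℂ)) * conj (1 : ℂ) =
        ((1 : ↥(W₁ ⊔ W₂) →* ℂˣ) w : ℂ) - (φ w : ℂ) - (ψ w : ℂ) + ((φ * ψ) w : ℂ) := by
      intro w; simp
    rw [Finset.sum_congr rfl (fun w _ => e w), Finset.sum_add_distrib, Finset.sum_sub_distrib,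
      Finset.sum_sub_distrib, sum_units_hom, sum_units_hom, sum_units_hom, sum_units_hom,
      if_pos rfl, if_neg hφ, if_neg hψ, if_neg n6]
    field_simp
    ring
  · rw [Cfsg.Agent.Lib.helper4.frobenius_reciprocity _ _ (isClassFunction_indFun _ _)]
    unfold Cfsg.classInner
    have e : ∀ w : ↥(W₁ ⊔ W₂), (1 - (φ w : ℂ) - (ψ w : ℂ) + (φ w : ℂ) * (ψ w : ℂ)) *
        conj (Cfsg.indFun (W₁ ⊔ W₂)
          (fun w => 1 - (φ' w : ℂ) - (ψ' w : ℂ) + (φ' w : ℂ) * (ψ' w : ℂ)) (w : G)) =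
        ((1 : ↥(W₁ ⊔ W₂) →* ℂˣ) w : ℂ) * conj ((1 : ↥(W₁ ⊔ W₂) →* ℂˣ) w : ℂ)
        - ((1 : ↥(W₁ ⊔ W₂) →* ℂˣ) w : ℂ) * conj (φ' w : ℂ)
        - ((1 : ↥(W₁ ⊔ W₂) →* ℂˣ) w : ℂ) * conj (ψ' w : ℂ)
        + ((1 : ↥(W₁ ⊔ W₂) →* ℂˣ) w : ℂ) * conj ((φ' * ψ') w : ℂ)
        - (φ w : ℂ) * conj ((1 : ↥(W₁ ⊔ W₂) →* ℂˣ) w : ℂ)
        + (φ w : ℂ) * conj (φ' w : ℂ)
        + (φ w : ℂ) * conj (ψ' w : ℂ)
        - (φ w : ℂ) * conj ((φ' * ψ') w : ℂ)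
        - (ψ w : ℂ) * conj ((1 : ↥(W₁ ⊔ W₂) →* ℂˣ) w : ℂ)
        + (ψ w : ℂ) * conj (φ' w : ℂ)
        + (ψ w : ℂ) * conj (ψ' w : ℂ)
        - (ψ w : ℂ) * conj ((φ' * ψ') w : ℂ)
        + ((φ * ψ) w : ℂ) * conj ((1 : ↥(W₁ ⊔ W₂) →* ℂˣ) w : ℂ)
        - ((φ * ψ) w : ℂ) * conj (φ' w : ℂ)
        - ((φ * ψ) w : ℂ) * conj (ψ' w : ℂ)
        + ((φ * ψ) w : ℂ) * conj ((φ' * ψ') w : ℂ) := by
      intro w
      by_cases hw : (w : G) ∈ W₁ ∨ (w : G) ∈ W₂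
      · rcases hw with hw | hw
        · simp only [hψ₁a w hw, hψ₁b w hw, MonoidHom.one_apply, Units.val_one, MonoidHom.mul_apply,
            Units.val_mul, map_mul, map_one]
          ring
        · simp only [hφ₂a w hw, hφ₂b w hw, MonoidHom.one_apply, Units.val_one, MonoidHom.mul_apply,
            Units.val_mul, map_mul, map_one]
          ring
      · push Not at hw
        rw [indFun_apply_of_selfNormCyclic W₁ W₂ hW _ w hw.1 hw.2]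
        simp only [MonoidHom.one_apply, Units.val_one, MonoidHom.mul_apply, Units.val_mul,
          map_sub, map_add, map_mul, map_one]
        ring
    rw [Finset.sum_congr rfl (fun w _ => e w)]
    simp only [Finset.sum_add_distrib, Finset.sum_sub_distrib]
    rw [sum_units_hom_mul_conj, sum_units_hom_mul_conj, sum_units_hom_mul_conj,
      sum_units_hom_mul_conj, sum_units_hom_mul_conj, sum_units_hom_mul_conj,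
      sum_units_hom_mul_conj, sum_units_hom_mul_conj, sum_units_hom_mul_conj,
      sum_units_hom_mul_conj, sum_units_hom_mul_conj, sum_units_hom_mul_conj,
      sum_units_hom_mul_conj, sum_units_hom_mul_conj, sum_units_hom_mul_conj,
      sum_units_hom_mul_conj]
    rw [if_pos rfl, if_neg (Ne.symm hφ'), if_neg (Ne.symm hψ'), if_neg n1, if_neg hφ, if_neg n2,
      if_neg n3, if_neg hψ, if_neg n4, if_neg n5, if_neg n6, if_neg n7, if_neg n8]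
    by_cases h1 : φ = φ'
    · by_cases h2 : ψ = ψ'
      · simp only [if_pos h1, if_pos h2, if_pos (n9.mpr ⟨h1, h2⟩)]
        field_simp
        ring
      · simp only [if_pos h1, if_neg h2, if_neg (fun h => h2 (n9.mp h).2)]
        field_simp
        ring
    · by_cases h2 : ψ = ψ'
      · simp only [if_neg h1, if_pos h2, if_neg (fun h => h1 (n9.mp h).1)]
        field_simp
        ring
      · simp only [if_neg h1, if_neg h2, if_neg (fun h => h1 (n9.mp h).1)]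
        field_simp
        ring

end Cfsg.Agent.S1505
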