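import Cfsg.Statements.S1360
import Cfsg.Agent.Lib.helper60.BGU0
import Cfsg.Agent.Lib.helper54.BG1360Glue

set_option autoImplicit false
open Cfsg

namespace Cfsg.Agent.S1360

/-- Let G be a minimal simple group of odd order and M a maximal subgroup with standard factorisation M = K U M_σ. Then U contains a subgroup U₀ with the same exponent as U such that no non-identity element of U₀ centralizes a non-identity element of M_σ. -/
theorem result {G : Type*} [Group G] [Finite G] (hG : Cfsg.IsMinSimpleOddOrder G)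
    (M : Subgroup G) (hM : IsCoatom M) (K U : Subgroup G) (hKU : Cfsg.IsSigmaDecomposition M K U) :
    ∃ U₀ : Subgroup G, U₀ ≤ U ∧ Monoid.exponent U₀ = Monoid.exponent U ∧ ∀ u ∈ U₀, u ∈ Cfsg.sigmaHat M → u = 1 := by
  have key : ∃ U₀ : Subgroup G, U₀ ≤ U ∧ Monoid.exponent U₀ = Monoid.exponent U ∧
      ∀ u ∈ U₀, u ≠ 1 → Cfsg.Agent.Lib.helper97.BG8Reg M u := by
    by_cases hNA : ∃ q : ℕ, q.Prime ∧ q ∈ tau2 M ∧
        ∀ S : Sylow q G, ¬ IsMulCommutative (S : Subgroup G)
    · obtain ⟨q, hqp, hq, hS⟩ := hNA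
      have : Fact q.Prime := ⟨hqp⟩
      exact Cfsg.Agent.Lib.helper54.PNU.s1360_nonab hG M hM K U hKU q hq hS
    · have hab : ∀ (q : ℕ) [Fact q.Prime], q ∈ tau2 M →
          ∃ S : Sylow q G, IsMulCommutative (S : Subgroup G) := by
        intro q _ hq
        by_contra h
        exact hNA ⟨q, Fact.out, hq, fun S hS => h ⟨S, hS⟩⟩
      exact Cfsg.Agent.Lib.helper60.BGU0.exists_U0_of_abelian hG M hM K U hKU hab
  obtain ⟨U₀, hU₀U, hexp, hreg⟩ := key
  refine ⟨U₀, hU₀U, hexp, ?_⟩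
  intro u hu hσ
  by_contra hu1
  have h := hreg u hu hu1
  obtain ⟨-, y, hy, hy1, hcomm⟩ := hσ
  apply hy1
  have hmem : y ∈ sigmaCore M ⊓ Subgroup.centralizer ({u} : Set G) := by
    refine Subgroup.mem_inf.mpr ⟨hy, ?_⟩
    rw [Subgroup.mem_centralizer_iff]
    intro z hz
    rw [Set.mem_singleton_iff.mp hz]
    exact hcomm
  unfold Cfsg.Agent.Lib.helper97.BG8Reg at h
  rw [h] at hmem
  exact Subgroup.mem_bot.mp hmem

end Cfsg.Agent.S1360
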