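import Cfsg.Statements.S0065

set_option autoImplicit false
open Cfsg

namespace Cfsg.Agent.S0065

/-- A nontrivial normal subgroup of a nilpotent group intersects the centre nontrivially. -/
theorem result {G : Type*} [Group G] [Finite G] [Group.IsNilpotent G]
    (N : Subgroup G) [N.Normal] (hN : N ≠ ⊥) : N ⊓ Subgroup.center G ≠ ⊥ := by
  classical
  obtain ⟨n, hn⟩ := (Group.isNilpotent_iff (G := G)).mp inferInstance
  have hex : ∃ k, N ⊓ Subgroup.upperCentralSeries G k ≠ ⊥ := ⟨n, by rw [hn]; simpa using hN⟩
  have hk := Nat.find_spec hex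
  have hmin := fun m => Nat.find_min hex (m := m)
  set k := Nat.find hex with hkdef
  cases hk' : k with
  | zero =>
    rw [hk'] at hk
    simp at hk
  | succ j =>
    rw [hk'] at hk
    have hj : N ⊓ Subgroup.upperCentralSeries G j = ⊥ := by
      by_contra h
      exact hmin j (by omega) h
    obtain ⟨⟨x, hxN, hxZ⟩, hx1⟩ := (Subgroup.ne_bot_iff_exists_ne_one).mp hk
    have hx1' : x ≠ 1 := fun h => hx1 (Subtype.ext h)
    intro hbot
    apply hx1'
    have hxc : x ∈ Subgroup.center G := by
      rw [Subgroup.mem_center_iff]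
      intro g
      have h1 : x * g * x⁻¹ * g⁻¹ ∈ Subgroup.upperCentralSeries G j :=
        (Subgroup.mem_upperCentralSeries_succ_iff).mp hxZ g
      have h2 : x * g * x⁻¹ * g⁻¹ ∈ N := by
        have : g * x⁻¹ * g⁻¹ ∈ N := Subgroup.Normal.conj_mem inferInstance _ (N.inv_mem hxN) g
        have h3 := N.mul_mem hxN this
        simpa [mul_assoc] using h3
      have h3 : x * g * x⁻¹ * g⁻¹ ∈ N ⊓ Subgroup.upperCentralSeries G j := ⟨h2, h1⟩
      rw [hj, Subgroup.mem_bot] at h3
      have : x * g = g * x := by
        have := congrArg (fun t => t * g * x) h3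
        simpa [mul_assoc] using this
      exact this.symm
    have : x ∈ N ⊓ Subgroup.center G := ⟨hxN, hxc⟩
    rw [hbot, Subgroup.mem_bot] at this
    exact this

end Cfsg.Agent.S0065
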