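import Cfsg.Statements.S0562
import Mathlib
import Cfsg.Agent.Lib.helper12.Conj

set_option autoImplicit false
open Pointwise
open Cfsg

namespace Cfsg.Agent.S0562

open Cfsg.Agent.Lib.helper12

/-- Let the finite group G be the product HK of subgroups, A normal in H, B normal in K, and L the normalizer of the subgroup generated by A and B. Then every element of L is a product of an element of L ∩ H and an element of L ∩ K. -/
theorem result {G : Type*} [Group G] [Finite G] (H K A B : Subgroup G) (hHK : ∀ g : G, ∃ h ∈ H, ∃ k ∈ K, g = h * k) (hA : A ≤ H) (hAn : (A.subgroupOf H).Normal) (hB : B ≤ K) (hBn : (B.subgroupOf K).Normal) : ∀ g ∈ Subgroup.normalizer ((A ⊔ B : Subgroup G) : Set G), ∃ h ∈ Subgroup.normalizer ((A ⊔ B : Subgroup G) : Set G) ⊓ H, ∃ k ∈ Subgroup.normalizer ((A ⊔ B : Subgroup G) : Set G) ⊓ K, g = h * k := by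
  intro g hg
  obtain ⟨h, hh, k, hk, rfl⟩ := hHK g
  have hgJ : MulAut.conj (h * k) • (A ⊔ B) = A ⊔ B := mem_normalizer_iff_conj_smul_eq.mp hg
  have hhA : MulAut.conj h • A = A := conj_smul_eq_self_of_normal_subgroupOf hA hAn hh
  have hkB : MulAut.conj k • B = B := conj_smul_eq_self_of_normal_subgroupOf hB hBn hk
  have hhB : MulAut.conj h • B ≤ A ⊔ B := by
    have h1 : MulAut.conj (h * k) • B ≤ MulAut.conj (h * k) • (A ⊔ B) := conj_smul_mono _ le_sup_right
    rwa [hgJ, conj_mul_smul, hkB] at h1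
  have hhN : h ∈ Subgroup.normalizer ((A ⊔ B : Subgroup G) : Set G) := by
    apply mem_normalizer_of_conj_smul_le
    rw [conj_smul_sup, hhA]
    exact sup_le le_sup_left hhB
  refine ⟨h, ⟨hhN, hh⟩, k, ⟨?_, hk⟩, rfl⟩
  have : k = h⁻¹ * (h * k) := by group
  rw [this]
  exact Subgroup.mul_mem _ (Subgroup.inv_mem _ hhN) hg

end Cfsg.Agent.S0562
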