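-- Statement S1237 (row 1237): 2-groups of 2-rank 2 with an automorphism transitive on involutions.
-- Split proof (architect helper37): pieces by helper18 (setup, abelian case), helper50 (cube),
-- helper11 (count), helper88 (Chevalley–Warning bound), helper78 (Levi), helper52 (E16 / E64),
-- helper53 (PSU transport), on top of helper26's S2933 machinery.
import Cfsg.Statements.S1237
import Cfsg.Agent.Lib.helper18.S1237P0
import Cfsg.Agent.Lib.helper18.S1237G1
import Cfsg.Agent.Lib.helper53.S1237G2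
import Cfsg.Agent.Lib.helper50.S1237C1
import Cfsg.Agent.Lib.helper37.S1237DM

set_option autoImplicit false
open Cfsg

namespace Cfsg.Agent.S1237

/-- Let T be a finite 2-group of 2-rank exactly 2 (it has a Klein four-subgroup but no elementary abelian subgroup of order 8) admitting an automorphism φ such that any two involutions of T are carried to one another by a power of φ. Then T ≅ Z_{2^n} × Z_{2^n} for some n ≥ 1, or T is isomorphic to a Sylow 2-subgroup of PSU(3) over the field with 16 elements. -/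
theorem result {T : Type*} [Group T] [Finite T] (hT : IsPGroup 2 T) (h2 : Cfsg.PRankLE 2 2 T) (h1 : ¬ Cfsg.PRankLE 2 1 T) (φ : MulAut T) (htrans : ∀ s t : T, orderOf s = 2 → orderOf t = 2 → ∃ k : ℕ, (φ ^ k) s = t) {F : Type*} [Field F] [Fintype F] (hF : Fintype.card F = 16) (P : Sylow 2 (Cfsg.PSU 3 F 4)) : (∃ n : ℕ, 1 ≤ n ∧ Nonempty (T ≃* Multiplicative (ZMod (2 ^ n) × ZMod (2 ^ n)))) ∨ Nonempty (T ≃* (P : Subgroup (Cfsg.PSU 3 F 4))) := by
  obtain ⟨V, ψ, k, hV, hV4, hVc, hψk, hψ⟩ :=
    Cfsg.Agent.Lib.helper18.S1237.setup hT h2 h1 φ htrans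
  have hρ : Cfsg.Agent.Lib.helper26.Fpf3.Hyp ψ :=
    ⟨Cfsg.Agent.Lib.helper50.S1237.cube_eq_one hT V hV hV4 hVc ψ k hψk hψ, hψ⟩
  by_cases hab : ∀ a b : T, a * b = b * a
  · exact Or.inl (Cfsg.Agent.Lib.helper18.S1237.abelian_case hT V hV hV4 ψ hρ hab)
  · right
    have h64 := Cfsg.Agent.Lib.helper37.S1237.card_eq_64 hT V hV hV4 hVc ψ hρ hab
    exact Cfsg.Agent.Lib.helper53.S1237.psu_transport
      (⟨hρ, h64, hab⟩ : Cfsg.Agent.Lib.helper26.S64.Hyp64 ψ)
      (fun g hg => hVc ((hV g).mpr hg)) hF P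

end Cfsg.Agent.S1237
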