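import Cfsg.Statements.S0115
import Cfsg.Agent.S0127
import Cfsg.Agent.Lib.helper3.PGroupFrattini
import Cfsg.Agent.Lib.helper3.PGroupNormal
import Cfsg.Agent.Lib.helper59.TwoGroups
import Mathlib.GroupTheory.IndexNormal
-- import your own Cfsg.Agent.* helpers here

set_option autoImplicit false
open Cfsg

namespace Cfsg.Agent.S0115

open Cfsg.Agent.Lib.helper3
open scoped commutatorElement

universe u

section general

variable {X : Type*} [Group X]

/-- If a generating set commutes pairwise modulo the normal subgroup `N`, then `X' ≤ N`. -/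
theorem commutator_le_of_generators (N : Subgroup X) [hN : N.Normal] (S : Set X)
    (hS : Subgroup.closure S = ⊤) (h : ∀ s ∈ S, ∀ t ∈ S, ⁅s, t⁆ ∈ N) : commutator X ≤ N := by
  have htop : Subgroup.closure ((QuotientGroup.mk' N) '' S) = ⊤ := by
    rw [← MonoidHom.map_closure, hS,
      Subgroup.map_top_of_surjective _ (QuotientGroup.mk'_surjective N)]
  have hpair : ∀ u ∈ (QuotientGroup.mk' N) '' S, ∀ v ∈ (QuotientGroup.mk' N) '' S,
      u * v = v * u := by
    rintro _ ⟨s, hs, rfl⟩ _ ⟨t, ht, rfl⟩
    have h1 : QuotientGroup.mk' N ⁅s, t⁆ = 1 := (QuotientGroup.eq_one_iff _).mpr (h s hs t ht)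
    rw [map_commutatorElement, commutatorElement_eq_one_iff_mul_comm] at h1
    exact h1
  have hcen : ∀ v : X ⧸ N, v ∈ Subgroup.center (X ⧸ N) := by
    have h1 : Subgroup.closure ((QuotientGroup.mk' N) '' S) ≤ Subgroup.center (X ⧸ N) := by
      rw [Subgroup.closure_le]
      intro g hg
      have h3 : Subgroup.closure ((QuotientGroup.mk' N) '' S) ≤ Subgroup.centralizer {g} := by
        rw [Subgroup.closure_le]
        intro u hu
        rw [SetLike.mem_coe, Subgroup.mem_centralizer_singleton_iff]
        exact hpair u hu g hg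
      rw [htop] at h3
      rw [SetLike.mem_coe, Subgroup.mem_center_iff]
      intro v
      exact Subgroup.mem_centralizer_singleton_iff.mp (h3 (Subgroup.mem_top v))
    intro v
    rw [htop] at h1
    exact h1 (Subgroup.mem_top v)
  rw [commutator_def, Subgroup.commutator_le]
  intro a _ b _
  apply (QuotientGroup.eq_one_iff _).mp
  have h2 : ((⁅a, b⁆ : X) : X ⧸ N) = ⁅QuotientGroup.mk' N a, QuotientGroup.mk' N b⁆ :=
    map_commutatorElement (QuotientGroup.mk' N) a b
  rw [h2, commutatorElement_eq_one_iff_commute]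
  exact ((Subgroup.mem_center_iff.mp (hcen (QuotientGroup.mk' _ a))) _).symm

theorem comm_mem_commutator (a b : X) : ⁅a, b⁆ ∈ commutator X := by
  rw [commutator_def]
  exact Subgroup.commutator_mem_commutator (Subgroup.mem_top a) (Subgroup.mem_top b)

/-- A cyclic group has trivial derived subgroup. -/
theorem commutator_eq_bot_of_isCyclic (h : IsCyclic X) : commutator X = ⊥ := by
  rw [eq_bot_iff, commutator_def, Subgroup.commutator_le]
  intro a _ b _
  rw [Subgroup.mem_bot, commutatorElement_eq_one_iff_mul_comm]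
  exact (IsCyclic.isMulCommutative (α := X)).is_comm.comm a b

/-- A finite `p`-group with cyclic abelianization is cyclic. -/
theorem isCyclic_of_isCyclic_abelianization [Finite X] {p : ℕ} [Fact p.Prime] (hP : IsPGroup p X)
    (h : IsCyclic (X ⧸ commutator X)) : IsCyclic X := by
  obtain ⟨q, hq⟩ := isCyclic_iff_exists_zpowers_eq_top.mp h
  obtain ⟨g, rfl⟩ := QuotientGroup.mk'_surjective (commutator X) q
  have hsup : Subgroup.zpowers g ⊔ commutator X = ⊤ := by
    rw [eq_top_iff]
    intro r _
    have h1 : QuotientGroup.mk' (commutator X) r ∈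
        Subgroup.zpowers (QuotientGroup.mk' (commutator X) g) := by
      rw [hq]; exact Subgroup.mem_top _
    obtain ⟨i, hi⟩ := Subgroup.mem_zpowers_iff.mp h1
    rw [← map_zpow] at hi
    have h2 : (g ^ i)⁻¹ * r ∈ commutator X := QuotientGroup.eq.mp hi
    have e : r = g ^ i * ((g ^ i)⁻¹ * r) := by group
    rw [e]
    exact Subgroup.mul_mem_sup (Subgroup.zpow_mem _ (Subgroup.mem_zpowers g) i) h2
  have hsup2 : Subgroup.zpowers g ⊔ frattini X = ⊤ := by
    rw [eq_top_iff, ← hsup]
    exact sup_le_sup_left (commutator_le_frattini hP) _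
  rw [isCyclic_iff_exists_zpowers_eq_top]
  exact ⟨g, frattini_nongenerating hsup2⟩

theorem two_mul_card_le_of_lt [Finite X] {H K : Subgroup X} (h : H < K) :
    2 * Nat.card H ≤ Nat.card K := by
  obtain ⟨m, hm⟩ := Subgroup.card_dvd_of_le h.le
  have hK : 0 < Nat.card K := Nat.card_pos
  have hH : 0 < Nat.card H := Nat.card_pos
  have hm1 : m ≠ 1 := by
    rintro rfl
    rw [mul_one] at hm
    exact h.ne (Subgroup.eq_of_le_of_card_ge h.le (le_of_eq hm))
  have hm0 : m ≠ 0 := by
    rintro rfl
    rw [mul_zero] at hm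
    omega
  rw [hm, mul_comm]
  exact Nat.mul_le_mul_left _ (by omega)

/-- The lower central series is strictly decreasing until it reaches the trivial subgroup. -/
theorem lcs_lt [Group.IsNilpotent X] {i : ℕ} (hi : i < Group.nilpotencyClass X) :
    (⊤ : Subgroup X).lowerCentralSeries (i + 1) < (⊤ : Subgroup X).lowerCentralSeries i := by
  refine lt_of_le_of_ne (Subgroup.lowerCentralSeries_antitone _ (Nat.le_succ i)) ?_
  intro heq
  have hstab : ∀ k : ℕ, (⊤ : Subgroup X).lowerCentralSeries (i + k) =
      (⊤ : Subgroup X).lowerCentralSeries i := by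
    intro k
    induction k with
    | zero => rfl
    | succ k ih =>
      rw [← add_assoc, Subgroup.lowerCentralSeries_succ, ih, ← Subgroup.lowerCentralSeries_succ, heq]
  have h1 : (⊤ : Subgroup X).lowerCentralSeries (Group.nilpotencyClass X) = ⊥ :=
    Subgroup.lowerCentralSeries_nilpotencyClass
  have h2 : (⊤ : Subgroup X).lowerCentralSeries i = ⊥ := by
    have := hstab (Group.nilpotencyClass X - i)
    rw [show i + (Group.nilpotencyClass X - i) = Group.nilpotencyClass X by omega, h1] at this
    exact this.symm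
  have h3 := Subgroup.lowerCentralSeries_eq_bot_iff_nilpotencyClass_le.mp h2
  omega

theorem lcs_card_ge [Finite X] [Group.IsNilpotent X] :
    ∀ k : ℕ, k ≤ Group.nilpotencyClass X →
      2 ^ k ≤ Nat.card ((⊤ : Subgroup X).lowerCentralSeries (Group.nilpotencyClass X - k)) := by
  intro k
  induction k with
  | zero =>
    intro _
    exact Nat.card_pos
  | succ k ih =>
    intro hk
    have h1 := ih (by omega)
    have h2 := lcs_lt (X := X) (i := Group.nilpotencyClass X - (k + 1)) (by omega)
    rw [show Group.nilpotencyClass X - (k + 1) + 1 = Group.nilpotencyClass X - k by omega] at h2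
    have h3 := two_mul_card_le_of_lt h2
    rw [pow_succ]
    omega

end general

section twogroups

/-- In a `2`-group of maximal class the derived subgroup has index `4`. -/
theorem index_commutator_of_maxClass {X : Type*} [Group X] [Finite X] (n : ℕ) (hn : 3 ≤ n)
    (hX : Nat.card X = 2 ^ n) (hc : Group.nilpotencyClass X = n - 1) :
    (commutator X).index = 4 := by
  have hP : IsPGroup 2 X := IsPGroup.of_card hX
  have : Group.IsNilpotent X := hP.isNilpotent
  have h1 := lcs_card_ge (X := X) (n - 2) (by omega)
  rw [hc, show n - 1 - (n - 2) = 1 by omega, Subgroup.top_lowerCentralSeries_one] at h1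
  have h2 := Subgroup.card_mul_index (commutator X)
  rw [hX] at h2
  have hdvd : (commutator X).index ∣ 2 ^ n := Dvd.intro_left _ h2
  obtain ⟨k, hk, hk2⟩ := (Nat.dvd_prime_pow Nat.prime_two).mp hdvd
  have hk_le : k ≤ 2 := by
    by_contra hcon
    push Not at hcon
    have h3 : 2 ^ 3 ≤ 2 ^ k := Nat.pow_le_pow_right (by norm_num) hcon
    rw [hk2] at h2
    have e : 2 ^ n = 2 ^ (n - 2) * 4 := by
      rw [show (4 : ℕ) = 2 ^ 2 by norm_num, ← pow_add]
      congr 1
      omega
    have h4 : 0 < 2 ^ (n - 2) := by positivity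
    nlinarith
  have hk0 : k ≠ 0 := by
    rintro rfl
    rw [pow_zero] at hk2
    have htop := Subgroup.index_eq_one.mp hk2
    have hlt := lcs_lt (X := X) (i := 0) (by omega)
    rw [zero_add, Subgroup.top_lowerCentralSeries_one, Subgroup.lowerCentralSeries_zero, htop] at hlt
    exact lt_irrefl _ hlt
  have hk1 : k ≠ 1 := by
    rintro rfl
    rw [pow_one] at hk2
    have hcard : Nat.card (X ⧸ commutator X) = 2 := by rw [← Subgroup.index_eq_card, hk2]
    have hcyc : IsCyclic (X ⧸ commutator X) := isCyclic_of_prime_card hcard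
    have hXc := isCyclic_of_isCyclic_abelianization hP hcyc
    have hbot := commutator_eq_bot_of_isCyclic hXc
    rw [hbot, Subgroup.index_bot, hX] at hk2
    have h3 : 2 ^ 3 ≤ 2 ^ n := Nat.pow_le_pow_right (by norm_num) hn
    omega
  have hk' : k = 2 := by omega
  rw [hk2, hk']
  norm_num

/-- For a `2`-group of order at least `8` whose derived subgroup has index `4`, the
abelianization is a Klein four-group. -/
theorem isKleinFour_of_index {X : Type*} [Group X] [Finite X] (n : ℕ) (hn : 3 ≤ n)
    (hX : Nat.card X = 2 ^ n) (hidx : (commutator X).index = 4) :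
    IsKleinFour (X ⧸ commutator X) := by
  have hP : IsPGroup 2 X := IsPGroup.of_card hX
  have hcard : Nat.card (X ⧸ commutator X) = 4 := by rw [← Subgroup.index_eq_card, hidx]
  have hnc : ¬ IsCyclic (X ⧸ commutator X) := by
    intro hcyc
    have hXc := isCyclic_of_isCyclic_abelianization hP hcyc
    have hbot := commutator_eq_bot_of_isCyclic hXc
    rw [hbot, Subgroup.index_bot, hX] at hidx
    have h3 : 2 ^ 3 ≤ 2 ^ n := Nat.pow_le_pow_right (by norm_num) hn
    omega
  refine ⟨hcard, ?_⟩
  have hsq : ∀ q : X ⧸ commutator X, q ^ 2 = 1 := by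
    intro q
    have h1 : orderOf q ∣ 2 ^ 2 := by
      have := orderOf_dvd_natCard q
      rwa [hcard] at this
    obtain ⟨j, hj, hj2⟩ := (Nat.dvd_prime_pow Nat.prime_two).mp h1
    have hj' : j ≠ 2 := by
      rintro rfl
      exact hnc (isCyclic_of_orderOf_eq_card q (by rw [hj2, hcard]; norm_num))
    have h3 : orderOf q ∣ 2 := by
      rw [hj2]
      have : j ≤ 1 := by omega
      calc 2 ^ j ∣ 2 ^ 1 := Nat.pow_dvd_pow 2 this
        _ = 2 := by norm_num
    exact orderOf_dvd_iff_pow_eq_one.mp h3
  have hd : Monoid.exponent (X ⧸ commutator X) ∣ 2 :=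
    Monoid.exponent_dvd_iff_forall_pow_eq_one.mpr hsq
  rcases (Nat.dvd_prime Nat.prime_two).mp hd with h | h
  · exfalso
    rw [Monoid.exp_eq_one_iff] at h
    have := Finite.card_le_one_iff_subsingleton.mpr h
    omega
  · exact h

/-- An abelian subgroup `Y` of index two and an element `x ∉ Y`: the map `w ↦ [w, x]`. -/
theorem abelian_index_two {X : Type*} [Group X] [Finite X] (Y : Subgroup X) (hYi : Y.index = 2)
    (hYab : ∀ a ∈ Y, ∀ b ∈ Y, a * b = b * a) (x : X) (hx : x ∉ Y) :
    (∀ w ∈ Y, ⁅w, x⁆ ∈ Y) ∧
    (∀ w ∈ Y, ∀ w' ∈ Y, ⁅w * w', x⁆ = ⁅w, x⁆ * ⁅w', x⁆) ∧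
    (∀ w ∈ Y, ∀ i : ℤ, ⁅w ^ i, x⁆ = ⁅w, x⁆ ^ i) ∧
    (∀ c ∈ commutator X, ∃ w ∈ Y, ⁅w, x⁆ = c) ∧
    Nat.card (Subgroup.center X ⊓ Y : Subgroup X) * Nat.card (commutator X) ≤ Nat.card Y := by
  have hYn : Y.Normal := Subgroup.normal_of_index_eq_two hYi
  have hmemY : ∀ w ∈ Y, ⁅w, x⁆ ∈ Y := by
    intro w hw
    have e : ⁅w, x⁆ = w * (x * w⁻¹ * x⁻¹) := by rw [commutatorElement_def]; group
    rw [e]
    exact Y.mul_mem hw (hYn.conj_mem _ (Y.inv_mem hw) x)
  have hmul : ∀ w ∈ Y, ∀ w' ∈ Y, ⁅w * w', x⁆ = ⁅w, x⁆ * ⁅w', x⁆ := by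
    intro w hw w' hw'
    have e : ⁅w * w', x⁆ = w * ⁅w', x⁆ * w⁻¹ * ⁅w, x⁆ := by
      simp only [commutatorElement_def]; group
    rw [e, hYab w hw _ (hmemY w' hw'), mul_inv_cancel_right,
      hYab _ (hmemY w' hw') _ (hmemY w hw)]
  let δ : Y →* X :=
    { toFun := fun w => ⁅(w : X), x⁆
      map_one' := by
        show ⁅(1 : X), x⁆ = 1
        exact commutatorElement_one_left x
      map_mul' := fun a b => hmul a a.2 b b.2 }
  have hδ : ∀ w : Y, δ w = ⁅(w : X), x⁆ := fun w => rfl
  have hgen : Subgroup.closure ((Y : Set X) ∪ {x}) = ⊤ := by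
    apply Cfsg.Agent.S0127.eq_top_of_lt_of_index_prime Nat.prime_two hYi
    have hle : Y ≤ Subgroup.closure ((Y : Set X) ∪ {x}) :=
      fun y hy => Subgroup.subset_closure (Or.inl hy)
    refine lt_of_le_of_ne hle ?_
    intro heq
    apply hx
    rw [heq]
    exact Subgroup.subset_closure (Or.inr rfl)
  have hRY : δ.range ≤ Y := by
    rintro _ ⟨w, rfl⟩
    exact hmemY w w.2
  have hRn : δ.range.Normal := by
    rw [← Subgroup.normalizer_eq_top_iff, eq_top_iff, ← hgen, Subgroup.closure_le]
    rintro g (hg | hg)
    · apply Subgroup.mem_normalizer_fintype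
      intro r hr
      have e : g * r * g⁻¹ = r := by rw [hYab g hg r (hRY hr), mul_inv_cancel_right]
      rw [e]
      exact hr
    · rw [Set.mem_singleton_iff] at hg
      rw [hg]
      apply Subgroup.mem_normalizer_fintype
      rintro _ ⟨w, rfl⟩
      refine ⟨⟨x * w * x⁻¹, hYn.conj_mem _ w.2 x⟩, ?_⟩
      rw [hδ, hδ]
      simp only [commutatorElement_def]
      group
  have hcomm_le : commutator X ≤ δ.range := by
    apply commutator_le_of_generators δ.range _ hgen
    rintro s (hs | hs) t (ht | ht)
    · have e : ⁅s, t⁆ = 1 := commutatorElement_eq_one_iff_mul_comm.mpr (hYab s hs t ht)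
      rw [e]
      exact Subgroup.one_mem _
    · rw [Set.mem_singleton_iff] at ht
      rw [ht]
      exact ⟨⟨s, hs⟩, rfl⟩
    · rw [Set.mem_singleton_iff] at hs
      rw [hs, ← commutatorElement_inv]
      exact Subgroup.inv_mem _ ⟨⟨t, ht⟩, rfl⟩
    · rw [Set.mem_singleton_iff] at hs ht
      rw [hs, ht]
      have e : ⁅x, x⁆ = 1 := commutatorElement_eq_one_iff_mul_comm.mpr rfl
      rw [e]
      exact Subgroup.one_mem _
  refine ⟨hmemY, hmul, ?_, ?_, ?_⟩
  · intro w hw i
    have := map_zpow δ ⟨w, hw⟩ i
    rw [hδ, hδ] at this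
    exact this
  · intro c hc
    obtain ⟨w, rfl⟩ := hcomm_le hc
    exact ⟨w, w.2, rfl⟩
  · have hker : (Subgroup.center X ⊓ Y).subgroupOf Y ≤ δ.ker := by
      intro w hw
      rw [Subgroup.mem_subgroupOf] at hw
      rw [MonoidHom.mem_ker, hδ]
      exact commutatorElement_eq_one_iff_mul_comm.mpr ((Subgroup.mem_center_iff.mp hw.1 x).symm)
    have h1 := Subgroup.card_mul_index δ.ker
    rw [Subgroup.index_ker] at h1
    have h2 := Subgroup.card_le_of_le hker
    rw [Nat.card_congr (Subgroup.subgroupOfEquivOfLe inf_le_right).toEquiv] at h2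
    have h3 := Subgroup.card_le_of_le hcomm_le
    calc _ ≤ Nat.card δ.ker * Nat.card δ.range := Nat.mul_le_mul h2 h3
      _ = Nat.card Y := h1

theorem nilpotencyClass_congr {G H : Type*} [Group G] [Group H] (e : G ≃* H)
    [Group.IsNilpotent G] [Group.IsNilpotent H] :
    Group.nilpotencyClass G = Group.nilpotencyClass H :=
  le_antisymm (Group.nilpotencyClass_le_of_surjective e.symm.toMonoidHom e.symm.surjective)
    (Group.nilpotencyClass_le_of_surjective e.toMonoidHom e.surjective)

/-- **Taussky's theorem**: a `2`-group of order `2 ^ n`, `n ≥ 2`, whose derived subgroup has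
index `4` has class `n - 1` and a cyclic subgroup of index `2`. -/
theorem taussky : ∀ (n : ℕ) (X : Type u) [Group X] [Finite X], 2 ≤ n → Nat.card X = 2 ^ n →
    (commutator X).index = 4 →
    Group.nilpotencyClass X = n - 1 ∧ ∃ C : Subgroup X, IsCyclic C ∧ C.index = 2 := by
  intro n
  induction n with
  | zero =>
    intro X _ _ h
    omega
  | succ m ih =>
    intro X _ _ hn hX hidx
    have hP : IsPGroup 2 X := IsPGroup.of_card hX
    have hnil : Group.IsNilpotent X := hP.isNilpotent
    have hnt : Nontrivial X := by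
      apply (Finite.one_lt_card_iff_nontrivial).mp
      rw [hX]
      exact Nat.one_lt_pow (by omega) (by norm_num)
    have hcardX' : Nat.card (commutator X) * 4 = 2 ^ (m + 1) := by
      rw [← hidx, Subgroup.card_mul_index, hX]
    by_cases hm : m + 1 = 2
    · -- the base case
      have hbot : commutator X = ⊥ := by
        apply Subgroup.card_eq_one.mp
        rw [hm] at hcardX'
        omega
      have hcomm : IsMulCommutative X := by
        refine ⟨⟨fun a b => ?_⟩⟩
        have h1 := comm_mem_commutator a b
        rw [hbot, Subgroup.mem_bot] at h1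
        exact commutatorElement_eq_one_iff_mul_comm.mp h1
      have h1 : Group.nilpotencyClass X ≤ 1 :=
        Group.IsNilpotent.nilpotencyClass_le_one_iff.mpr hcomm
      have h2 : Group.nilpotencyClass X ≠ 0 := by
        intro h
        rw [Group.nilpotencyClass_zero_iff_subsingleton] at h
        exact not_subsingleton X h
      refine ⟨by omega, ?_⟩
      obtain ⟨g, hg⟩ := exists_prime_orderOf_dvd_card' (G := X) 2 (by rw [hX, hm]; norm_num)
      refine ⟨Subgroup.zpowers g, (Subgroup.isCyclic_iff_exists_zpowers_eq_top _).mpr ⟨g, rfl⟩, ?_⟩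
      have h3 := Subgroup.card_mul_index (Subgroup.zpowers g)
      rw [Nat.card_zpowers, hg, hX, hm] at h3
      omega
    · -- the inductive step
      have hm3 : 3 ≤ m + 1 := by omega
      have hpow3 : 2 ^ 3 ≤ 2 ^ (m + 1) := Nat.pow_le_pow_right (by norm_num) hm3
      have hX'ne : commutator X ≠ ⊥ := by
        intro h
        rw [h, Subgroup.card_bot] at hcardX'
        omega
      obtain ⟨z, hzX', hzc, hz1, hz2⟩ :=
        exists_central_of_normal_ne_bot hP (commutator X) hX'ne
      obtain ⟨Z, hZdef⟩ : ∃ Z : Subgroup X, Z = Subgroup.zpowers z := ⟨_, rfl⟩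
      have hZc : Z ≤ Subgroup.center X := by
        rw [hZdef, Subgroup.zpowers_le]; exact hzc
      have hZcard : Nat.card Z = 2 := by
        rw [hZdef, Nat.card_zpowers, orderOf_eq_prime hz2 hz1]
      have hZn : Z.Normal := by
        refine ⟨fun w hw g => ?_⟩
        have := (Subgroup.mem_center_iff.mp (hZc hw)) g
        rw [this, mul_inv_cancel_right]
        exact hw
      have hZX' : Z ≤ commutator X := by
        rw [hZdef, Subgroup.zpowers_le]; exact hzX'
      have hZsq : ∀ w ∈ Z, w ^ 2 = 1 := by
        intro w hw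
        rw [hZdef] at hw
        obtain ⟨i, rfl⟩ := Subgroup.mem_zpowers_iff.mp hw
        rw [← zpow_natCast, ← zpow_mul, mul_comm, zpow_mul, zpow_natCast, hz2, one_zpow]
      -- the quotient
      have hQcard : Nat.card (X ⧸ Z) = 2 ^ m := by
        have := Subgroup.card_eq_card_quotient_mul_card_subgroup Z
        rw [hX, hZcard, pow_succ] at this
        omega
      have hQidx : (commutator (X ⧸ Z)).index = 4 := by
        have e : commutator (X ⧸ Z) = (commutator X).map (QuotientGroup.mk' Z) := by
          rw [commutator_def, commutator_def, Subgroup.map_commutator,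
            Subgroup.map_top_of_surjective _ (QuotientGroup.mk'_surjective Z)]
        rw [e, Subgroup.index_map_eq _ (QuotientGroup.mk'_surjective Z)
          (by rw [QuotientGroup.ker_mk']; exact hZX'), hidx]
      obtain ⟨hclQ, C', hC'cyc, hC'idx⟩ := ih (X ⧸ Z) (by omega) hQcard hQidx
      obtain ⟨q, hq⟩ := (Subgroup.isCyclic_iff_exists_zpowers_eq_top C').mp hC'cyc
      obtain ⟨y, rfl⟩ := QuotientGroup.mk'_surjective Z q
      obtain ⟨Y, hY⟩ : ∃ Y : Subgroup X, Y = C'.comap (QuotientGroup.mk' Z) := ⟨_, rfl⟩
      have hYidx : Y.index = 2 := by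
        rw [hY, Subgroup.index_comap_of_surjective _ (QuotientGroup.mk'_surjective Z), hC'idx]
      have hZY : Z ≤ Y := by
        have := MonoidHom.ker_le_comap (QuotientGroup.mk' Z) C'
        rwa [QuotientGroup.ker_mk', ← hY] at this
      have hyY : y ∈ Y := by
        rw [hY, Subgroup.mem_comap, ← hq]
        exact Subgroup.mem_zpowers _
      have hYdec : ∀ w ∈ Y, ∃ i : ℤ, ∃ b ∈ Z, w = y ^ i * b := by
        intro w hw
        rw [hY, Subgroup.mem_comap, ← hq] at hw
        obtain ⟨i, hi⟩ := Subgroup.mem_zpowers_iff.mp hw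
        rw [← map_zpow] at hi
        exact ⟨i, (y ^ i)⁻¹ * w, QuotientGroup.eq.mp hi, by group⟩
      have hZcomm : ∀ b ∈ Z, ∀ g : X, Commute b g := by
        intro b hb g
        exact ((Subgroup.mem_center_iff.mp (hZc hb)) g).symm
      have hYab : ∀ a ∈ Y, ∀ b ∈ Y, a * b = b * a := by
        intro a ha b hb
        obtain ⟨i, u, hu, rfl⟩ := hYdec a ha
        obtain ⟨j, v, hv, rfl⟩ := hYdec b hb
        have cy : Commute (y ^ i) (y ^ j) := (Commute.refl y).zpow_zpow i j
        have c1 : Commute (y ^ i) (y ^ j * v) := cy.mul_right (hZcomm v hv _).symm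
        have c2 : Commute u (y ^ j * v) := hZcomm u hu _
        exact (c1.mul_left c2).eq
      obtain ⟨x, hxY⟩ : ∃ x : X, x ∉ Y := by
        by_contra hcon
        push Not at hcon
        have htop : Y = ⊤ := eq_top_iff.mpr fun g _ => hcon g
        rw [htop, Subgroup.index_top] at hYidx
        omega
      obtain ⟨hmemY, hmul, hzpow, hsurj, hcardineq⟩ := abelian_index_two Y hYidx hYab x hxY
      -- the centre has order two
      have hcenY : Subgroup.center X ≤ Y := by
        by_contra hcon
        obtain ⟨c, hc, hcY⟩ := SetLike.not_le_iff_exists.mp hcon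
        have hgen : Subgroup.closure ((Y : Set X) ∪ {c}) = ⊤ := by
          apply Cfsg.Agent.S0127.eq_top_of_lt_of_index_prime Nat.prime_two hYidx
          have hle : Y ≤ Subgroup.closure ((Y : Set X) ∪ {c}) :=
            fun y hy => Subgroup.subset_closure (Or.inl hy)
          refine lt_of_le_of_ne hle ?_
          intro heq
          apply hcY
          rw [heq]
          exact Subgroup.subset_closure (Or.inr rfl)
        have hle := commutator_le_of_generators (⊥ : Subgroup X) _ hgen (by
          rintro s (hs | hs) t (ht | ht)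
          · rw [Subgroup.mem_bot, commutatorElement_eq_one_iff_mul_comm]
            exact hYab s hs t ht
          · rw [Set.mem_singleton_iff] at ht
            rw [Subgroup.mem_bot, commutatorElement_eq_one_iff_mul_comm, ht]
            exact (Subgroup.mem_center_iff.mp hc s)
          · rw [Set.mem_singleton_iff] at hs
            rw [Subgroup.mem_bot, commutatorElement_eq_one_iff_mul_comm, hs]
            exact (Subgroup.mem_center_iff.mp hc t).symm
          · rw [Set.mem_singleton_iff] at hs ht
            rw [Subgroup.mem_bot, commutatorElement_eq_one_iff_mul_comm, hs, ht])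
        exact hX'ne (le_bot_iff.mp hle)
      have hYc := Subgroup.card_mul_index Y
      rw [hYidx, hX] at hYc
      have hcencard : Nat.card (Subgroup.center X) ≤ 2 := by
        rw [inf_eq_left.mpr hcenY] at hcardineq
        have hpos : 0 < Nat.card (commutator X) := Nat.card_pos
        nlinarith
      have hZeq : Z = Subgroup.center X :=
        Subgroup.eq_of_le_of_card_ge hZc (by rw [hZcard]; exact hcencard)
      -- the class
      have hclass : Group.nilpotencyClass X = m + 1 - 1 := by
        have hQnil : Group.IsNilpotent (X ⧸ Z) := (hP.to_quotient Z).isNilpotent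
        have h1 := nilpotencyClass_congr (QuotientGroup.quotientMulEquivOfEq hZeq)
        rw [Group.nilpotencyClass_eq_quotient_center_plus_one, ← h1, hclQ]
        omega
      refine ⟨hclass, ?_⟩
      -- the cyclic subgroup
      by_cases hm4 : m + 1 = 3
      · -- order 8
        have hex : ∃ g : X, g ^ 2 ≠ 1 := by
          by_contra hcon
          push Not at hcon
          apply hX'ne
          rw [eq_bot_iff, commutator_def, Subgroup.commutator_le]
          intro a _ b _
          rw [Subgroup.mem_bot, commutatorElement_eq_one_iff_mul_comm]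
          have ha : a⁻¹ = a := inv_eq_of_mul_eq_one_right (by rw [← sq]; exact hcon a)
          have hb : b⁻¹ = b := inv_eq_of_mul_eq_one_right (by rw [← sq]; exact hcon b)
          have hab : (a * b)⁻¹ = a * b := inv_eq_of_mul_eq_one_right (by rw [← sq]; exact hcon _)
          rw [mul_inv_rev, ha, hb] at hab
          exact hab.symm
        obtain ⟨g, hg⟩ := hex
        have h1 : orderOf g ∣ 2 ^ 3 := by
          have := orderOf_dvd_natCard g
          rwa [hX, hm4] at this
        obtain ⟨j, hj, hj2⟩ := (Nat.dvd_prime_pow Nat.prime_two).mp h1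
        have hj0 : j ≠ 0 := by
          rintro rfl
          rw [pow_zero, orderOf_eq_one_iff] at hj2
          rw [hj2, one_pow] at hg
          exact hg rfl
        have hj1 : j ≠ 1 := by
          rintro rfl
          rw [pow_one] at hj2
          apply hg
          rw [← hj2]
          exact pow_orderOf_eq_one g
        have hj3 : j ≠ 3 := by
          rintro rfl
          have hcyc : IsCyclic X := isCyclic_of_orderOf_eq_card g (by rw [hj2, hX, hm4])
          exact hX'ne (commutator_eq_bot_of_isCyclic hcyc)
        have hj' : j = 2 := by omega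
        refine ⟨Subgroup.zpowers g, (Subgroup.isCyclic_iff_exists_zpowers_eq_top _).mpr ⟨g, rfl⟩, ?_⟩
        have h3 := Subgroup.card_mul_index (Subgroup.zpowers g)
        rw [Nat.card_zpowers, hj2, hj', hX, hm4] at h3
        omega
      · -- order at least 16
        have hm4' : 4 ≤ m + 1 := by omega
        have hXd : commutator X = Subgroup.zpowers ⁅y, x⁆ := by
          apply le_antisymm
          · intro c hc
            obtain ⟨w, hw, rfl⟩ := hsurj c hc
            obtain ⟨i, b, hb, rfl⟩ := hYdec w hw
            have hbx : ⁅b, x⁆ = 1 := commutatorElement_eq_one_iff_commute.mpr (hZcomm b hb x)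
            rw [hmul _ (Y.zpow_mem hyY i) _ (hZY hb), hbx, mul_one, hzpow y hyY i]
            exact Subgroup.zpow_mem _ (Subgroup.mem_zpowers _) i
          · rw [Subgroup.zpowers_le]
            exact comm_mem_commutator y x
        have hod : orderOf ⁅y, x⁆ = 2 * 2 ^ (m - 2) := by
          rw [← Nat.card_zpowers, ← hXd]
          have e : 2 ^ (m + 1) = 2 * 2 ^ (m - 2) * 4 := by
            rw [show m + 1 = (m - 2) + 3 by omega, pow_add]
            ring
          rw [e] at hcardX'
          omega
        have hzd : z ∈ Subgroup.zpowers ⁅y, x⁆ := by rw [← hXd]; exact hzX'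
        rcases Cfsg.Agent.Lib.helper59.eq_one_or_eq_pow_of_sq_eq_one hod hzd hz2 with h1 | h1
        · exact absurd h1 hz1
        · -- z is a square of an element of Y
          have hzy : z ∈ Subgroup.zpowers y := by
            have hu : ⁅y, x⁆ ^ (2 ^ (m - 3)) ∈ Y := Y.pow_mem (hmemY y hyY) _
            obtain ⟨i, b, hb, hib⟩ := hYdec _ hu
            have e : z = (⁅y, x⁆ ^ (2 ^ (m - 3))) ^ 2 := by
              rw [h1, ← pow_mul, ← pow_succ]
              congr 2
              omega
            rw [e, hib, ((hZcomm b hb (y ^ i)).symm).mul_pow, hZsq b hb, mul_one]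
            exact Subgroup.pow_mem _ (Subgroup.zpow_mem _ (Subgroup.mem_zpowers y) i) 2
          have hYeq : Subgroup.zpowers y = Y := by
            apply le_antisymm
            · rw [Subgroup.zpowers_le]; exact hyY
            · intro w hw
              obtain ⟨i, b, hb, rfl⟩ := hYdec w hw
              refine Subgroup.mul_mem _ (Subgroup.zpow_mem _ (Subgroup.mem_zpowers y) i) ?_
              rw [hZdef] at hb
              exact (Subgroup.zpowers_le.mpr hzy) hb
          refine ⟨Subgroup.zpowers y, (Subgroup.isCyclic_iff_exists_zpowers_eq_top _).mpr ⟨y, rfl⟩, ?_⟩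
          rw [hYeq]
          exact hYidx

end twogroups

/-- A 2-group of order 2^n, n ≥ 3, is of maximal class exactly when its commutator quotient is a Klein four-group. -/
theorem result {X : Type*} [Group X] [Finite X] (n : ℕ) (hn : 3 ≤ n) (hX : Nat.card X = 2 ^ n) : Group.nilpotencyClass X = n - 1 ↔ IsKleinFour (X ⧸ commutator X) := by
  constructor
  · intro hc
    exact isKleinFour_of_index n hn hX (index_commutator_of_maxClass n hn hX hc)
  · intro hK
    have hidx : (commutator X).index = 4 := by
      rw [Subgroup.index_eq_card]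
      exact hK.card_four
    exact (taussky n X (by omega) hX hidx).1

end Cfsg.Agent.S0115
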