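import Cfsg.Statements.S0646
import Cfsg.Agent.Lib.helper59.TwoGroups

set_option autoImplicit false
open Cfsg

namespace Cfsg.Agent.S0646

open Subgroup Cfsg.Agent.Lib.helper59

/-- Conjugation acts on powers by the same exponent. -/
theorem conj_zpow_of_conj_eq {G : Type*} [Group G] {a b : G} {k : ℤ} (h : b * a * b⁻¹ = a ^ k)
    (i : ℤ) : b * a ^ i * b⁻¹ = a ^ (k * i) := by
  rw [← conj_zpow, h, zpow_mul]

/-- If `b ^ 2` commutes with `y` then conjugating `y` by `b⁻¹` or by `b` gives the same. -/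
theorem inv_conj_eq_conj_of_sq_comm {G : Type*} [Group G] {b y : G} (h : b ^ 2 * y = y * b ^ 2) :
    b⁻¹ * y * b = b * y * b⁻¹ := by
  calc b⁻¹ * y * b = b⁻¹ * (y * b ^ 2) * b⁻¹ := by rw [pow_two]; group
    _ = b⁻¹ * (b ^ 2 * y) * b⁻¹ := by rw [h]
    _ = b * y * b⁻¹ := by rw [pow_two]; group

/-- Classification of non-abelian 2-groups with a cyclic maximal subgroup: dihedral, generalized quaternion, and for order at least 16 the modular group and the semidihedral group, each given by generators a (of index 2) and b with the stated relations. -/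
theorem result {G : Type*} [Group G] [Finite G] (n : ℕ) (hn : 3 ≤ n) (hG : Nat.card G = 2 ^ n) (C : Subgroup G) (hC : IsCyclic C) (hCi : C.index = 2) (hna : ∃ x y : G, x * y ≠ y * x) : ∃ a b : G, orderOf a = 2 ^ (n - 1) ∧ b ∉ Subgroup.zpowers a ∧ ((b ^ 2 = 1 ∧ b * a * b⁻¹ = a⁻¹) ∨ (b ^ 2 = a ^ (2 ^ (n - 2)) ∧ b * a * b⁻¹ = a⁻¹) ∨ (4 ≤ n ∧ b ^ 2 = 1 ∧ b * a * b⁻¹ = a ^ (1 + 2 ^ (n - 2))) ∨ (4 ≤ n ∧ b ^ 2 = 1 ∧ b * a * b⁻¹ = a ^ (2 ^ (n - 2) - 1))) := by
  obtain ⟨N, rfl⟩ : ∃ N, n = N + 3 := ⟨n - 3, by omega⟩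
  rw [show N + 3 - 1 = N + 2 from rfl, show N + 3 - 2 = N + 1 from rfl]
  -- a generator of C
  obtain ⟨g, hg⟩ := hC.exists_generator
  have hCa : zpowers g.1 = C := by
    apply le_antisymm (zpowers_le.mpr g.2)
    intro y hy
    obtain ⟨i, hi⟩ := mem_zpowers_iff.mp (hg ⟨y, hy⟩)
    have : y = g.1 ^ i := by
      have := congrArg Subtype.val hi
      simpa using this.symm
    rw [this]; exact zpow_mem (mem_zpowers _) i
  obtain ⟨a, ha⟩ : ∃ a : G, a = g.1 := ⟨_, rfl⟩
  rw [← ha] at hCa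
  have hord : orderOf a = 2 ^ (N + 2) := by
    have h1 := Subgroup.card_mul_index C
    rw [hCi, hG, ← hCa, Nat.card_zpowers] at h1
    have : (2 : ℕ) ^ (N + 3) = 2 ^ (N + 2) * 2 := by ring
    omega
  have hapow : a ^ (2 ^ (N + 2)) = 1 := by rw [← hord]; exact pow_orderOf_eq_one a
  have hnormal : C.Normal := Subgroup.normal_of_index_eq_two hCi
  -- an element outside C
  obtain ⟨b, hb⟩ : ∃ b : G, b ∉ C := by
    by_contra hcon
    push Not at hcon
    have : C = ⊤ := by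
      rw [eq_top_iff]; intro x _; exact hcon x
    rw [← Subgroup.index_eq_one] at this
    omega
  have hconj : b * a * b⁻¹ ∈ zpowers a := by
    rw [hCa]; exact hnormal.conj_mem a (by rw [← hCa]; exact mem_zpowers a) b
  have hb2C : b ^ 2 ∈ zpowers a := by
    rw [hCa]; exact Subgroup.sq_mem_of_index_two hCi b
  obtain ⟨t, ht⟩ := mem_zpowers_iff.mp hb2C
  have hb2comm : ∀ i : ℤ, b ^ 2 * a ^ i = a ^ i * b ^ 2 := by
    intro i
    rw [← ht, ← zpow_add, ← zpow_add, add_comm]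
  have hcomm : b ^ 2 * a = a * b ^ 2 := by
    have := hb2comm 1
    rwa [zpow_one] at this
  have hba : b ∉ zpowers a := by rw [hCa]; exact hb
  -- every element is a^i or b a^i
  have hel : ∀ x : G, ∃ i : ℤ, x = a ^ i ∨ x = b * a ^ i := by
    intro x
    by_cases hx : x ∈ C
    · rw [← hCa] at hx
      obtain ⟨i, hi⟩ := mem_zpowers_iff.mp hx
      exact ⟨i, Or.inl hi.symm⟩
    · have h1 : b⁻¹ * x ∈ C := by
        rw [Subgroup.mul_mem_iff_of_index_two hCi, inv_mem_iff]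
        exact ⟨fun h => absurd h hb, fun h => absurd h hx⟩
      rw [← hCa] at h1
      obtain ⟨i, hi⟩ := mem_zpowers_iff.mp h1
      refine ⟨i, Or.inr ?_⟩
      rw [hi]; group
  -- the abelian case is excluded
  have hcase1 : b * a * b⁻¹ = a → False := by
    intro h
    have hab : Commute b a := by
      show b * a = a * b
      calc b * a = (b * a * b⁻¹) * b := by group
        _ = a * b := by rw [h]
    have key : ∀ x : G, Commute x a ∧ Commute x b := by
      intro x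
      obtain ⟨i, hi | hi⟩ := hel x
      · rw [hi]
        exact ⟨(Commute.refl a).zpow_left i, hab.symm.zpow_left i⟩
      · rw [hi]
        exact ⟨hab.mul_left ((Commute.refl a).zpow_left i),
          (Commute.refl b).mul_left (hab.symm.zpow_left i)⟩
    obtain ⟨x, y, hxy⟩ := hna
    apply hxy
    obtain ⟨j, hj | hj⟩ := hel y
    · rw [hj]; exact ((key x).1.zpow_right j).eq
    · rw [hj]; exact ((key x).2.mul_right ((key x).1.zpow_right j)).eq
  -- the inverting case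
  have hcase3 : b * a * b⁻¹ = a⁻¹ → ∃ a b : G, orderOf a = 2 ^ (N + 2) ∧ b ∉ Subgroup.zpowers a ∧
      ((b ^ 2 = 1 ∧ b * a * b⁻¹ = a⁻¹) ∨ (b ^ 2 = a ^ (2 ^ (N + 1)) ∧ b * a * b⁻¹ = a⁻¹) ∨
      (4 ≤ N + 3 ∧ b ^ 2 = 1 ∧ b * a * b⁻¹ = a ^ (1 + 2 ^ (N + 1))) ∨
      (4 ≤ N + 3 ∧ b ^ 2 = 1 ∧ b * a * b⁻¹ = a ^ (2 ^ (N + 1) - 1))) := by
    intro h
    have h' : b * a * b⁻¹ = a ^ (-1 : ℤ) := by rw [h, zpow_neg_one]
    have h1 : b * b ^ 2 * b⁻¹ = (b ^ 2)⁻¹ := by
      rw [← ht, conj_zpow_of_conj_eq h', ← zpow_neg]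
      congr 1; ring
    have h2 : (b ^ 2) ^ 2 = 1 := by
      have h3 : b * b ^ 2 * b⁻¹ = b ^ 2 := by rw [pow_two]; group
      rw [h3] at h1
      have h4 : b ^ 2 * b ^ 2 = 1 := by
        nth_rewrite 1 [h1]
        exact inv_mul_cancel _
      rw [pow_two]; exact h4
    have hord' : orderOf a = 2 * 2 ^ (N + 1) := by rw [hord]; ring
    refine ⟨a, b, hord, hba, ?_⟩
    rcases eq_one_or_eq_pow_of_sq_eq_one hord' hb2C h2 with h5 | h5
    · left; exact ⟨h5, h⟩
    · right; left; exact ⟨h5, h⟩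
  rcases conj_cyclic_two_pow (N + 1) a b hord hconj hcomm with h | h | h | h
  · exact (hcase1 h).elim
  · -- modular case
    rcases Nat.eq_zero_or_pos N with hN | hN
    · subst hN
      apply hcase3
      rw [h]
      have : a ^ (1 + 2 ^ (0 + 1)) * a = 1 := by
        rw [← pow_succ]; exact hapow
      exact eq_inv_of_mul_eq_one_left this
    · obtain ⟨N', rfl⟩ : ∃ N', N = N' + 1 := ⟨N - 1, by omega⟩
      have hk : b * a * b⁻¹ = a ^ ((1 : ℤ) + 2 ^ (N' + 1 + 1)) := by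
        rw [h, ← zpow_natCast]; congr 1
      -- b^2 = a^t with t even
      have h1 : a ^ (((1 : ℤ) + 2 ^ (N' + 1 + 1)) * t) = a ^ t := by
        rw [← conj_zpow_of_conj_eq hk, ht, pow_two]; group
      have h2 : a ^ ((2 : ℤ) ^ (N' + 1 + 1) * t) = 1 := by
        have : ((1 : ℤ) + 2 ^ (N' + 1 + 1)) * t = t + 2 ^ (N' + 1 + 1) * t := by ring
        rw [this, zpow_add] at h1
        exact mul_eq_left.mp h1
      rw [← orderOf_dvd_iff_zpow_eq_one, hord] at h2
      have h3 : (2 : ℤ) ∣ t := by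
        have : ((2 ^ (N' + 1 + 2) : ℕ) : ℤ) = 2 ^ (N' + 1 + 1) * 2 := by push_cast; ring
        rw [this] at h2
        exact (mul_dvd_mul_iff_left (pow_ne_zero _ two_ne_zero)).mp h2
      obtain ⟨s, hs⟩ := h3
      -- the new element
      set i : ℤ := -(s * (1 + 2 ^ (N' + 1))) with hi
      have hbe : b * a ^ i ∉ zpowers a := by
        intro hmem
        apply hba
        have : b = (b * a ^ i) * (a ^ i)⁻¹ := by group
        rw [this]
        exact mul_mem hmem (inv_mem (zpow_mem (mem_zpowers a) i))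
      refine ⟨a, b * a ^ i, hord, hbe, Or.inr (Or.inr (Or.inl ⟨by omega, ?_, ?_⟩))⟩
      · have e1 : b⁻¹ * a ^ i * b = a ^ (((1 : ℤ) + 2 ^ (N' + 1 + 1)) * i) := by
          rw [inv_conj_eq_conj_of_sq_comm (hb2comm i), conj_zpow_of_conj_eq hk]
        have e2 : (b * a ^ i) ^ 2 = b ^ 2 * (b⁻¹ * a ^ i * b) * a ^ i := by
          rw [pow_two, pow_two]; group
        rw [e2, e1, ← ht, ← zpow_add, ← zpow_add]
        have e3 : t + ((1 : ℤ) + 2 ^ (N' + 1 + 1)) * i + i =
            ((2 ^ (N' + 1 + 2) : ℕ) : ℤ) * (-(s * (1 + 2 ^ N'))) := by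
          rw [hi, hs]; push_cast; ring
        rw [e3, zpow_mul, zpow_natCast, hapow, one_zpow]
      · have : b * a ^ i * a * (b * a ^ i)⁻¹ = b * (a ^ i * a * (a ^ i)⁻¹) * b⁻¹ := by group
        rw [this]
        have : a ^ i * a * (a ^ i)⁻¹ = a := by
          have hcm : Commute (a ^ i) a := (Commute.refl a).zpow_left i
          rw [hcm.eq]; group
        rw [this, h]
  · exact hcase3 h
  · -- semidihedral case
    rcases Nat.eq_zero_or_pos N with hN | hN
    · subst hN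
      exfalso
      apply hcase1
      rw [h]; norm_num
    · obtain ⟨N', rfl⟩ : ∃ N', N = N' + 1 := ⟨N - 1, by omega⟩
      have hk : b * a * b⁻¹ = a ^ ((-1 : ℤ) + 2 ^ (N' + 1 + 1)) := by
        rw [h, ← zpow_natCast]; congr 1
        have : 1 ≤ 2 ^ (N' + 1 + 1) := Nat.one_le_two_pow
        push_cast [this]; ring
      -- b^2 = a^t with (b^2)^2 = 1
      have h1 : a ^ (((-1 : ℤ) + 2 ^ (N' + 1 + 1)) * t) = a ^ t := by
        rw [← conj_zpow_of_conj_eq hk, ht, pow_two]; group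
      have h2 : a ^ (((2 : ℤ) ^ (N' + 1) - 1) * (2 * t)) = 1 := by
        have : ((-1 : ℤ) + 2 ^ (N' + 1 + 1)) * t = t + (2 ^ (N' + 1) - 1) * (2 * t) := by ring
        rw [this, zpow_add] at h1
        exact mul_eq_left.mp h1
      rw [← orderOf_dvd_iff_zpow_eq_one, hord] at h2
      have h3 : ((2 ^ (N' + 1 + 2) : ℕ) : ℤ) ∣ 2 * t := by
        have hcop : IsCoprime (((2 ^ (N' + 1 + 2) : ℕ) : ℤ)) ((2 : ℤ) ^ (N' + 1) - 1) := by
          have : ((2 ^ (N' + 1 + 2) : ℕ) : ℤ) = (2 : ℤ) ^ (N' + 1 + 2) := by push_cast; ring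
          rw [this]
          apply IsCoprime.pow_left
          refine ⟨2 ^ N', -1, ?_⟩
          ring
        have h2' : ((2 ^ (N' + 1 + 2) : ℕ) : ℤ) ∣ (2 * t) * ((2 : ℤ) ^ (N' + 1) - 1) := by
          rw [mul_comm]; exact h2
        exact hcop.dvd_of_dvd_mul_right h2'
      have h4 : (b ^ 2) ^ 2 = 1 := by
        rw [← ht, ← zpow_natCast, ← zpow_mul, mul_comm]
        have := orderOf_dvd_iff_zpow_eq_one.mp (by rw [hord]; exact h3 : (orderOf a : ℤ) ∣ 2 * t)
        exact_mod_cast this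
      have hord' : orderOf a = 2 * 2 ^ (N' + 1 + 1) := by rw [hord]; ring
      rcases eq_one_or_eq_pow_of_sq_eq_one hord' hb2C h4 with h5 | h5
      · exact ⟨a, b, hord, hba, Or.inr (Or.inr (Or.inr ⟨by omega, h5, h⟩))⟩
      · have hbe : b * a ∉ zpowers a := by
          intro hmem
          apply hba
          have : b = (b * a) * a⁻¹ := by group
          rw [this]
          exact mul_mem hmem (inv_mem (mem_zpowers a))
        refine ⟨a, b * a, hord, hbe, Or.inr (Or.inr (Or.inr ⟨by omega, ?_, ?_⟩))⟩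
        · have e1 : b⁻¹ * a * b = a ^ (2 ^ (N' + 1 + 1) - 1) := by
            rw [inv_conj_eq_conj_of_sq_comm hcomm, h]
          have e2 : (b * a) ^ 2 = b ^ 2 * (b⁻¹ * a * b) * a := by
            rw [pow_two, pow_two]; group
          rw [e2, e1, h5, ← pow_add, ← pow_succ]
          have : 2 ^ (N' + 1 + 1) + (2 ^ (N' + 1 + 1) - 1) + 1 = 2 ^ (N' + 1 + 2) := by
            have : 1 ≤ 2 ^ (N' + 1 + 1) := Nat.one_le_two_pow
            have h6 : (2 : ℕ) ^ (N' + 1 + 2) = 2 ^ (N' + 1 + 1) * 2 := by ring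
            omega
          rw [this]; exact hapow
        · have : b * a * a * (b * a)⁻¹ = b * a * b⁻¹ := by group
          rw [this, h]

end Cfsg.Agent.S0646
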