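import Cfsg.Statements.S0093
import Cfsg.Agent.Lib.helper3.PGroupNormal
-- import your own Cfsg.Agent.* helpers here

set_option autoImplicit false
open Cfsg

namespace Cfsg.Agent.S0093

open Cfsg.Agent.Lib.helper3
open scoped commutatorElement

section aux

variable {P : Type*} [Group P]

/-- The preimage in `C_P(A)` of the elements of order dividing `p` of `Z(P / A)`. -/
def critSub (p : ℕ) (A : Subgroup P) [hA : A.Normal] : Subgroup P where
  carrier := {x | x ∈ Subgroup.centralizer (A : Set P) ∧ x ^ p ∈ A ∧ ∀ g : P, ⁅x, g⁆ ∈ A}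
  mul_mem' := by
    rintro x y ⟨hx1, hx2, hx3⟩ ⟨hy1, hy2, hy3⟩
    refine ⟨mul_mem hx1 hy1, ?_, ?_⟩
    · apply (QuotientGroup.eq_one_iff _).mp
      have hc : Commute (QuotientGroup.mk' A x) (QuotientGroup.mk' A y) := by
        rw [← commutatorElement_eq_one_iff_commute, ← map_commutatorElement]
        exact (QuotientGroup.eq_one_iff _).mpr (hx3 y)
      have h1 : QuotientGroup.mk' A ((x * y) ^ p) =
          (QuotientGroup.mk' A x) ^ p * (QuotientGroup.mk' A y) ^ p := by
        rw [map_pow, map_mul, hc.mul_pow]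
      have h2 : (QuotientGroup.mk' A x) ^ p = 1 := by
        rw [← map_pow]; exact (QuotientGroup.eq_one_iff _).mpr hx2
      have h3 : (QuotientGroup.mk' A y) ^ p = 1 := by
        rw [← map_pow]; exact (QuotientGroup.eq_one_iff _).mpr hy2
      rw [h2, h3, mul_one] at h1
      exact h1
    · intro g
      have h1 : ⁅x * y, g⁆ = x * ⁅y, g⁆ * x⁻¹ * ⁅x, g⁆ := by
        simp only [commutatorElement_def]; group
      rw [h1]
      exact A.mul_mem (hA.conj_mem _ (hy3 g) x) (hx3 g)
  one_mem' := by
    refine ⟨one_mem _, ?_, ?_⟩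
    · rw [one_pow]; exact A.one_mem
    · intro g
      rw [commutatorElement_one_left]; exact A.one_mem
  inv_mem' := by
    rintro x ⟨hx1, hx2, hx3⟩
    refine ⟨inv_mem hx1, ?_, ?_⟩
    · rw [inv_pow]; exact A.inv_mem hx2
    · intro g
      have h1 : ⁅x⁻¹, g⁆ = x⁻¹ * ⁅x, g⁆⁻¹ * x⁻¹⁻¹ := by
        simp only [commutatorElement_def]; group
      rw [h1]
      exact hA.conj_mem _ (A.inv_mem (hx3 g)) x⁻¹

theorem mem_critSub {p : ℕ} {A : Subgroup P} [A.Normal] {x : P} :
    x ∈ critSub p A ↔
      x ∈ Subgroup.centralizer (A : Set P) ∧ x ^ p ∈ A ∧ ∀ g : P, ⁅x, g⁆ ∈ A :=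
  Iff.rfl

theorem critSub_characteristic (p : ℕ) (A : Subgroup P) [hA : A.Characteristic] :
    (critSub p A).Characteristic := by
  rw [Subgroup.characteristic_iff_le_comap]
  intro φ x hx
  rw [mem_critSub] at hx
  obtain ⟨hx1, hx2, hx3⟩ := hx
  rw [Subgroup.mem_comap, mem_critSub]
  have hAφ : ∀ a : P, a ∈ A → φ a ∈ A := by
    intro a ha
    have := (Subgroup.characteristic_iff_le_comap.mp hA φ) ha
    exact this
  have hC : (Subgroup.centralizer (A : Set P)).Characteristic := inferInstance
  refine ⟨(Subgroup.characteristic_iff_le_comap.mp hC φ) hx1, ?_, ?_⟩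
  · show (φ x) ^ p ∈ A
    rw [← map_pow]
    exact hAφ _ hx2
  · intro g
    show ⁅φ x, g⁆ ∈ A
    have h1 : ⁅φ x, g⁆ = φ ⁅x, φ.symm g⁆ := by
      rw [map_commutatorElement, MulEquiv.apply_symm_apply]
    rw [h1]
    exact hAφ _ (hx3 _)

end aux

/-- Every finite p-group has a critical subgroup: a characteristic subgroup H whose Frattini subgroup and whose commutator with the whole group lie in the centre of H, and whose centralizer is contained in H. -/
theorem result {P : Type*} [Group P] [Finite P] {p : ℕ} [Fact p.Prime] (hP : IsPGroup p P) : ∃ H : Subgroup P, H.Characteristic ∧ (frattini H).map H.subtype ≤ Subgroup.centralizer (H : Set P) ∧ ⁅H, (⊤ : Subgroup P)⁆ ≤ H ⊓ Subgroup.centralizer (H : Set P) ∧ Subgroup.centralizer (H : Set P) ≤ H := by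
  classical
  -- a maximal characteristic abelian subgroup
  obtain ⟨A, ⟨hAchar, hAab⟩, hAmax⟩ :=
    (Set.toFinite {A : Subgroup P | A.Characteristic ∧ A ≤ Subgroup.centralizer (A : Set P)}).exists_maximal
      ⟨⊥, Subgroup.botCharacteristic, bot_le⟩
  have := hAchar
  set H : Subgroup P := critSub p A with hH
  have hHchar : H.Characteristic := critSub_characteristic p A
  have hHC : H ≤ Subgroup.centralizer (A : Set P) := fun x hx => (mem_critSub.mp hx).1
  have hAH : A ≤ H := by
    intro x hx
    rw [hH, mem_critSub]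
    refine ⟨hAab hx, A.pow_mem hx _, ?_⟩
    intro g
    have h1 : ⁅x, g⁆ = x * (g * x⁻¹ * g⁻¹) := by
      rw [commutatorElement_def]; group
    rw [h1]
    exact A.mul_mem hx ((inferInstance : A.Normal).conj_mem _ (A.inv_mem hx) g)
  have hACH : A ≤ Subgroup.centralizer (H : Set P) := Subgroup.le_centralizer_iff.mp hHC
  -- Z(H) = A
  have hZ : H ⊓ Subgroup.centralizer (H : Set P) = A := by
    have hZchar : (H ⊓ Subgroup.centralizer (H : Set P)).Characteristic := inferInstance
    have hZab : H ⊓ Subgroup.centralizer (H : Set P) ≤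
        Subgroup.centralizer ((H ⊓ Subgroup.centralizer (H : Set P) : Subgroup P) : Set P) :=
      le_trans inf_le_right (Subgroup.centralizer_le (by
        intro x hx; exact (inf_le_left : H ⊓ Subgroup.centralizer (H : Set P) ≤ H) hx))
    have hAZ : A ≤ H ⊓ Subgroup.centralizer (H : Set P) := le_inf hAH hACH
    exact le_antisymm
      (hAmax (show (H ⊓ Subgroup.centralizer (H : Set P)).Characteristic ∧ _ from ⟨hZchar, hZab⟩) hAZ)
      hAZ
  refine ⟨H, hHchar, ?_, ?_, ?_⟩
  · -- Frattini
    have h1 : frattini H ≤ A.subgroupOf H := by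
      apply frattini_le_of_pow_mem_of_commutator_le (p := p)
      · intro x
        rw [Subgroup.mem_subgroupOf]
        exact (mem_critSub.mp x.2).2.1
      · rw [commutator_def, Subgroup.commutator_le]
        intro x _ y _
        rw [Subgroup.mem_subgroupOf]
        exact (mem_critSub.mp x.2).2.2 y
    intro x hx
    obtain ⟨y, hy, rfl⟩ := hx
    exact hACH (Subgroup.mem_subgroupOf.mp (h1 hy))
  · rw [hZ, Subgroup.commutator_le]
    intro x hx g _
    exact (mem_critSub.mp hx).2.2 g
  · -- centralizer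
    by_contra hnot
    have hQn : (Subgroup.centralizer (H : Set P)).Normal := inferInstance
    have hlt : A < Subgroup.centralizer (H : Set P) := by
      refine lt_of_le_of_ne hACH ?_
      intro heq
      exact hnot (heq ▸ hAH)
    obtain ⟨x, hxQ, hxA, hxp, hxc⟩ :=
      exists_mem_not_mem_of_normal_lt hP A (Subgroup.centralizer (H : Set P)) hlt
    have hxC : x ∈ Subgroup.centralizer (A : Set P) :=
      Subgroup.centralizer_le (by intro a ha; exact hAH ha) hxQ
    have hxH : x ∈ H := mem_critSub.mpr ⟨hxC, hxp, hxc⟩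
    apply hxA
    rw [← hZ]
    exact ⟨hxH, hxQ⟩

end Cfsg.Agent.S0093
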