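import Cfsg.Statements.S0121

set_option autoImplicit false
open Cfsg

namespace Cfsg.Agent.S0121

/-- A p'-automorphism of a p-group acting trivially on a critical subgroup is trivial. -/
theorem result {G : Type*} [Group G] [Finite G] {p : ℕ} [Fact p.Prime] (hG : IsPGroup p G) (H : Subgroup G) (hH : H.Characteristic) (h1 : (frattini H).map H.subtype ≤ Subgroup.centralizer (H : Set G)) (h2 : ⁅H, (⊤ : Subgroup G)⁆ ≤ H ⊓ Subgroup.centralizer (H : Set G)) (h3 : Subgroup.centralizer (H : Set G) ≤ H) (a : MulAut G) (ha : Nat.Coprime (orderOf a) p) (h : ∀ x ∈ H, a x = x) : a = 1 := by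
  have hHn : H.Normal := inferInstance
  -- for each g, g⁻¹ * a g ∈ H
  have key : ∀ g : G, g⁻¹ * a g ∈ H := by
    intro g
    apply h3
    rw [Subgroup.mem_centralizer_iff]
    intro x hx
    have hx' : g * x * g⁻¹ ∈ H := hHn.conj_mem x hx g
    have e1 : a (g * x * g⁻¹) = g * x * g⁻¹ := h _ hx'
    have e2 : a (g * x * g⁻¹) = a g * x * (a g)⁻¹ := by
      rw [map_mul, map_mul, map_inv, h x hx]
    rw [e2] at e1
    -- a g * x * (a g)⁻¹ = g * x * g⁻¹
    have : x * (g⁻¹ * a g) = g⁻¹ * (g * x * g⁻¹) * a g := by group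
    rw [this, ← e1]; group
  -- a^k g = g * c^k
  have pow_formula : ∀ (g : G) (k : ℕ), (a ^ k) g = g * (g⁻¹ * a g) ^ k := by
    intro g k
    induction k with
    | zero => simp
    | succ k ih =>
      rw [pow_succ', MulAut.mul_apply, ih, map_mul, map_pow, h _ (key g), pow_succ']
      simp only [mul_assoc, mul_inv_cancel_left]
  ext g
  have hk := pow_formula g (orderOf a)
  rw [pow_orderOf_eq_one] at hk
  simp only [MulAut.one_apply] at hk
  have hc : (g⁻¹ * a g) ^ orderOf a = 1 := (mul_eq_left).mp hk.symm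
  obtain ⟨n, hn⟩ := hG (g⁻¹ * a g)
  have hcop : Nat.Coprime (orderOf a) (p ^ n) := Nat.Coprime.pow_right n ha
  have hone : g⁻¹ * a g = 1 := by
    have h1' := orderOf_dvd_of_pow_eq_one hc
    have h2' := orderOf_dvd_of_pow_eq_one hn
    have h3' : orderOf (g⁻¹ * a g) = 1 := Nat.eq_one_of_dvd_coprimes hcop h1' h2'
    exact orderOf_eq_one_iff.mp h3'
  simp only [MulAut.one_apply]
  have : a g = g * (g⁻¹ * a g) := by group
  rw [this, hone, mul_one]

end Cfsg.Agent.S0121
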