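import Cfsg.Statements.S1163
-- import your own Cfsg.Agent.* helpers here
import Cfsg.Agent.Lib.helper44.SzIso
import Cfsg.Agent.Lib.helper44.TwoTrans
import Cfsg.Agent.Lib.helper8.SzSylow2
import Cfsg.Agent.S0324
import Cfsg.Agent.S0326
import Cfsg.Agent.S0327

set_option autoImplicit false
open Cfsg

namespace Cfsg.Agent.S1163

open Cfsg.Agent.Lib.helper44 Cfsg.Agent.Lib.helper8

/-- For the Suzuki group Sz(q), q = 2^(2m+1) ≥ 8, realised as the elements g of Sp₄(F) with g* = g^θ (θ the 2^(m+1)-th power map, so that θ² is squaring): `|Sz(q)| = q² (q - 1) (q² + 1)`, and there is a Sylow 2-subgroup `S` whose normaliser `H` has order `q²(q-1)` and index `q² + 1`, the action of `Sz(q)` on the cosets of `H` is doubly transitive, and `S` acts regularly on the cosets other than `H` itself. -/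
theorem result {F : Type*} [Field F] [Fintype F] {m : ℕ} (hm : 1 ≤ m) (hF : Fintype.card F = 2 ^ (2 * m + 1)) :
    Nat.card ↥(Cfsg.Lie.Sz F (2 ^ (m + 1))) = (2 ^ (2 * m + 1)) ^ 2 * (2 ^ (2 * m + 1) - 1) * ((2 ^ (2 * m + 1)) ^ 2 + 1) ∧
    ∃ S : Sylow 2 ↥(Cfsg.Lie.Sz F (2 ^ (m + 1))),
      Nat.card (Subgroup.normalizer ((S : Subgroup ↥(Cfsg.Lie.Sz F (2 ^ (m + 1)))) : Set ↥(Cfsg.Lie.Sz F (2 ^ (m + 1))))) = (2 ^ (2 * m + 1)) ^ 2 * (2 ^ (2 * m + 1) - 1) ∧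
      (Subgroup.normalizer ((S : Subgroup ↥(Cfsg.Lie.Sz F (2 ^ (m + 1)))) : Set ↥(Cfsg.Lie.Sz F (2 ^ (m + 1))))).index = (2 ^ (2 * m + 1)) ^ 2 + 1 ∧
      MulAction.IsMultiplyPretransitive ↥(Cfsg.Lie.Sz F (2 ^ (m + 1))) (↥(Cfsg.Lie.Sz F (2 ^ (m + 1))) ⧸ Subgroup.normalizer ((S : Subgroup ↥(Cfsg.Lie.Sz F (2 ^ (m + 1)))) : Set ↥(Cfsg.Lie.Sz F (2 ^ (m + 1))))) 2 ∧
      ∀ x y : ↥(Cfsg.Lie.Sz F (2 ^ (m + 1))) ⧸ Subgroup.normalizer ((S : Subgroup ↥(Cfsg.Lie.Sz F (2 ^ (m + 1)))) : Set ↥(Cfsg.Lie.Sz F (2 ^ (m + 1)))),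
        x ≠ (QuotientGroup.mk 1) → y ≠ (QuotientGroup.mk 1) → ∃! s : ↥(S : Subgroup ↥(Cfsg.Lie.Sz F (2 ^ (m + 1)))), (s : ↥(Cfsg.Lie.Sz F (2 ^ (m + 1)))) • x = y := by
  classical
  have h := szHyp_of_card hF
  have h2 := h.two
  have : Fact (Nat.Prime 2) := ⟨Nat.prime_two⟩
  let e := szIso hm hF
  let act : MulAction ↥(Cfsg.Lie.Sz F (2 ^ (m + 1))) ↥(Cfsg.suzukiOvoid F m) :=
    MulAction.compHom _ e.symm.toMonoidHom
  have hsmul : ∀ (g : ↥(Cfsg.Lie.Sz F (2 ^ (m + 1)))) (p : ↥(Cfsg.suzukiOvoid F m)),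
      g • p = (e.symm g) • p := fun _ _ => rfl
  have hsmul' : ∀ (g₀ : ↥(Cfsg.Sz F m)) (p : ↥(Cfsg.suzukiOvoid F m)),
      (e g₀) • p = g₀ • p := fun g₀ p => by rw [hsmul, e.symm_apply_apply]
  have hval : ∀ (g₀ : ↥(Cfsg.Sz F m)) (p : ↥(Cfsg.suzukiOvoid F m)),
      ((g₀ • p : ↥(Cfsg.suzukiOvoid F m)) : Projectivization F (Fin 4 → F)) = g₀.1 • p.1 :=
    fun _ _ => rfl
  -- cardinalities
  have hcardG₀ := Cfsg.Agent.S0324.result hm hF
  have hcardG : Nat.card ↥(Cfsg.Lie.Sz F (2 ^ (m + 1)))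
      = (2 ^ (2 * m + 1)) ^ 2 * (2 ^ (2 * m + 1) - 1) * ((2 ^ (2 * m + 1)) ^ 2 + 1) := by
    rw [← Nat.card_congr e.toEquiv, hcardG₀]
    ring
  have hcardΩ : Nat.card ↥(Cfsg.suzukiOvoid F m) = (2 ^ (2 * m + 1)) ^ 2 + 1 := by
    rw [Cfsg.Agent.S0326.result m, hF]
  -- double transitivity
  have h2t₀ : MulAction.IsMultiplyPretransitive ↥(Cfsg.Sz F m) ↥(Cfsg.suzukiOvoid F m) 2 :=
    (Cfsg.Agent.S0327.result hm hF).2.1
  have h2t : MulAction.IsMultiplyPretransitive ↥(Cfsg.Lie.Sz F (2 ^ (m + 1)))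
      ↥(Cfsg.suzukiOvoid F m) 2 := by
    rw [MulAction.is_two_pretransitive_iff] at h2t₀ ⊢
    intro a b c d hab hcd
    obtain ⟨g₀, h1, h2'⟩ := h2t₀ hab hcd
    exact ⟨e g₀, by rw [hsmul', h1], by rw [hsmul', h2']⟩
  have htrans : MulAction.IsPretransitive ↥(Cfsg.Lie.Sz F (2 ^ (m + 1)))
      ↥(Cfsg.suzukiOvoid F m) := MulAction.isPretransitive_of_is_two_pretransitive (h2 := h2t)
  -- the point at infinity and the subgroup T
  let ω : ↥(Cfsg.suzukiOvoid F m) := ⟨pinf, pinf_mem m⟩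
  let T : Subgroup ↥(Cfsg.Lie.Sz F (2 ^ (m + 1))) := (subT h).map e.toMonoidHom
  have hmemT : ∀ t : ↥(Cfsg.Lie.Sz F (2 ^ (m + 1))), t ∈ T ↔
      ∃ a b : F, ((e.symm t : ↥(Cfsg.Sz F m)) : Matrix.SpecialLinearGroup (Fin 4) F) = sT m a b := by
    intro t
    constructor
    · rintro ⟨t₀, ht₀, rfl⟩
      obtain ⟨a, b, hab⟩ := ht₀
      exact ⟨a, b, by rw [MulEquiv.coe_toMonoidHom, e.symm_apply_apply]; exact hab⟩
    · rintro ⟨a, b, hab⟩
      exact ⟨e.symm t, ⟨a, b, hab⟩, by rw [MulEquiv.coe_toMonoidHom, e.apply_symm_apply]⟩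
  have hcardT : Nat.card T = (2 ^ (2 * m + 1)) ^ 2 := by
    rw [← card_subT hm hF]
    exact (Nat.card_congr ((subT h).equivMapOfInjective e.toMonoidHom e.injective).toEquiv).symm
  have hfac : (Nat.card ↥(Cfsg.Lie.Sz F (2 ^ (m + 1)))).factorization 2 = 2 * (2 * m + 1) := by
    rw [← Nat.card_congr e.toEquiv]
    exact factorization_card_Sz hm hF
  have hcardT' : Nat.card T = 2 ^ (Nat.card ↥(Cfsg.Lie.Sz F (2 ^ (m + 1)))).factorization 2 := by
    rw [hcardT, hfac, ← pow_mul, mul_comm]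
  -- hypotheses of the abstract lemma
  have hT : T ≤ MulAction.stabilizer ↥(Cfsg.Lie.Sz F (2 ^ (m + 1))) ω := by
    intro t ht
    obtain ⟨a, b, hab⟩ := (hmemT t).1 ht
    rw [MulAction.mem_stabilizer_iff, hsmul]
    apply Subtype.ext
    rw [hval, hab]
    exact sT_pinf m a b
  have hTn : ∀ g ∈ MulAction.stabilizer ↥(Cfsg.Lie.Sz F (2 ^ (m + 1))) ω, ∀ t ∈ T,
      g * t * g⁻¹ ∈ T := by
    intro g hg t ht
    obtain ⟨a, b, hab⟩ := (hmemT t).1 ht
    rw [MulAction.mem_stabilizer_iff, hsmul] at hg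
    have hfix : ((e.symm g : ↥(Cfsg.Sz F m)) : Matrix.SpecialLinearGroup (Fin 4) F) • (pinf : Projectivization F (Fin 4 → F)) = pinf := by
      have := congrArg Subtype.val hg
      rw [hval] at this
      exact this
    obtain ⟨a', b', hab'⟩ := conj_T_of_fix hm hF (e.symm g).2 hfix a b
    rw [hmemT]
    refine ⟨a', b', ?_⟩
    rw [map_mul, map_mul, map_inv, Subgroup.coe_mul, Subgroup.coe_mul, Subgroup.coe_inv, hab]
    exact hab'
  have hpt : ∀ x : ↥(Cfsg.suzukiOvoid F m), x ≠ ω → ∃ a b : F, x.1 = paff m a b := by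
    intro x hx
    rcases (mem_ovoid_iff' x.1).1 x.2 with h1 | h1
    · exact absurd (Subtype.ext h1) hx
    · exact h1
  have hreg : ∀ x y : ↥(Cfsg.suzukiOvoid F m), x ≠ ω → y ≠ ω →
      ∃! t : T, (t : ↥(Cfsg.Lie.Sz F (2 ^ (m + 1)))) • x = y := by
    intro x y hx hy
    obtain ⟨a, b, hxab⟩ := hpt x hx
    obtain ⟨c, d, hycd⟩ := hpt y hy
    have hact : ∀ (t : ↥(Cfsg.Lie.Sz F (2 ^ (m + 1)))) (a' b' : F),
        ((e.symm t : ↥(Cfsg.Sz F m)) : Matrix.SpecialLinearGroup (Fin 4) F) = sT m a' b' →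
        ((t • x : ↥(Cfsg.suzukiOvoid F m)) : Projectivization F (Fin 4 → F))
          = paff m (a + a') (b + b' + th m a' * a) := by
      intro t a' b' ht
      rw [hsmul, hval, ht, hxab]
      exact sT_paff h a' b' a b
    have hmem0 : e (psiT h (c + a, d + b + th m (c + a) * a)).1 ∈ T :=
      ⟨_, (psiT h (c + a, d + b + th m (c + a) * a)).2, rfl⟩
    refine ⟨⟨_, hmem0⟩, ?_, ?_⟩
    · apply Subtype.ext
      rw [hact _ (c + a) (d + b + th m (c + a) * a) (by rw [e.symm_apply_apply]; rfl), hycd]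
      congr 1
      · linear_combination a * h2
      · linear_combination (b + th m (c + a) * a) * h2
    · rintro ⟨t, ht⟩ hty
      obtain ⟨a', b', hab'⟩ := (hmemT t).1 ht
      have h5 := congrArg Subtype.val hty
      rw [hact t a' b' hab', hycd, paff_inj] at h5
      obtain ⟨h6, h7⟩ := h5
      have ha' : a' = c + a := by linear_combination h6 - a * h2
      have hb' : b' = d + b + th m (c + a) * a := by
        rw [ha'] at h7
        linear_combination h7 - (b + th m (c + a) * a) * h2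
      apply Subtype.ext
      apply e.symm.injective
      apply Subtype.ext
      rw [e.symm_apply_apply, hab', ha', hb']
      rfl
  have hreg' : ∀ x : ↥(Cfsg.suzukiOvoid F m), x ≠ ω → ∀ t ∈ T, t • x = x → t = 1 := by
    intro x hx t ht htx
    obtain ⟨t₁, -, huniq⟩ := hreg x x hx hx
    have e1 := huniq ⟨t, ht⟩ htx
    have e2 := huniq ⟨1, T.one_mem⟩ (one_smul _ x)
    have e3 := congrArg Subtype.val (e1.trans e2.symm)
    exact e3
  have hT1 : T ≠ ⊥ := by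
    intro hbot
    rw [hbot, Subgroup.card_bot] at hcardT
    have : 1 < (2 ^ (2 * m + 1)) ^ 2 := by
      apply Nat.one_lt_pow (by norm_num)
      exact Nat.one_lt_two_pow (by omega)
    omega
  have hN : Subgroup.normalizer (T : Set ↥(Cfsg.Lie.Sz F (2 ^ (m + 1))))
      = MulAction.stabilizer ↥(Cfsg.Lie.Sz F (2 ^ (m + 1))) ω :=
    normalizer_eq_stabilizer_of_regular ω T hT hTn hreg' hT1
  have hindex : (Subgroup.normalizer (T : Set ↥(Cfsg.Lie.Sz F (2 ^ (m + 1))))).index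
      = (2 ^ (2 * m + 1)) ^ 2 + 1 := by
    rw [hN, MulAction.index_stabilizer_of_transitive, hcardΩ]
  have hcardN : Nat.card (Subgroup.normalizer (T : Set ↥(Cfsg.Lie.Sz F (2 ^ (m + 1)))))
      = (2 ^ (2 * m + 1)) ^ 2 * (2 ^ (2 * m + 1) - 1) := by
    have h1 := Subgroup.card_mul_index (Subgroup.normalizer (T : Set ↥(Cfsg.Lie.Sz F (2 ^ (m + 1)))))
    rw [hindex, hcardG] at h1
    exact Nat.eq_of_mul_eq_mul_right (by positivity) h1
  obtain ⟨hc, hd⟩ := two_trans_regular_package ω T _ hN h2t hreg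
  exact ⟨hcardG, Sylow.ofCard T hcardT', hcardN, hindex, hc, hd⟩

end Cfsg.Agent.S1163
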