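import Cfsg.Statements.S0111
import Mathlib.GroupTheory.IndexNormal
import Mathlib.GroupTheory.SpecificGroups.Cyclic

set_option autoImplicit false
open Cfsg

namespace Cfsg.Agent.S0111

open scoped IsMulCommutative
open MulAction Subgroup

theorem eq_of_ne_one_of_card_two {A : Type*} [Group A] (hA : Nat.card A = 2) {a b : A}
    (ha : a ≠ 1) (hb : b ≠ 1) : a = b := by
  obtain ⟨y, _, hy⟩ := (Nat.card_eq_two_iff' (1 : A)).mp hA
  rw [hy a ha, hy b hb]

/-- The Thompson transfer lemma states that an involution of a Sylow 2-subgroup P lying outside a subgroup Q of index 2 in P either lies outside some normal subgroup of index 2 in G or is conjugate to an element of Q. -/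
theorem result {G : Type*} [Group G] [Finite G] (P : Sylow 2 G) (Q : Subgroup G) (hQP : Q ≤ (P : Subgroup G)) (hQi : Q.relIndex (P : Subgroup G) = 2) (u : G) (hu : orderOf u = 2) (huP : u ∈ (P : Subgroup G)) (huQ : u ∉ Q) : (∃ M : Subgroup G, M.Normal ∧ M.index = 2 ∧ u ∉ M) ∨ ∃ g : G, g * u * g⁻¹ ∈ Q := by
  classical
  by_cases hconj : ∃ g : G, g * u * g⁻¹ ∈ Q
  · exact Or.inr hconj
  left
  push Not at hconj
  haveI : Fact (Nat.Prime 2) := ⟨Nat.prime_two⟩
  set Q' : Subgroup (P : Subgroup G) := Q.subgroupOf (P : Subgroup G) with hQ'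
  have hidx : Q'.index = 2 := hQi
  haveI hQ'n : Q'.Normal := Subgroup.normal_of_index_eq_two hidx
  have hcard : Nat.card ((P : Subgroup G) ⧸ Q') = 2 := by
    rw [← Subgroup.index_eq_card]; exact hidx
  haveI : IsCyclic ((P : Subgroup G) ⧸ Q') := isCyclic_of_prime_card hcard
  let ϕ : (P : Subgroup G) →* (P : Subgroup G) ⧸ Q' := QuotientGroup.mk' Q'
  have hϕ : ∀ x : (P : Subgroup G), ϕ x = 1 ↔ (x : G) ∈ Q := by
    intro x
    rw [show ϕ x = (x : (P : Subgroup G) ⧸ Q') from rfl, QuotientGroup.eq_one_iff, hQ',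
      Subgroup.mem_subgroupOf]
  set t : (P : Subgroup G) ⧸ Q' := ϕ ⟨u, huP⟩ with ht
  have ht1 : t ≠ 1 := by
    rw [ht, Ne, hϕ]; exact huQ
  have ht2 : t ^ 2 = 1 := by
    have := pow_card_eq_one' (G := (P : Subgroup G) ⧸ Q') (x := t)
    rwa [hcard] at this
  have hu2 : u ^ 2 = 1 := by rw [← hu]; exact pow_orderOf_eq_one u
  -- the terms of the transfer formula
  have hterm : ∀ (g : G) (m : ℕ) (hm : g⁻¹ * u ^ m * g ∈ (P : Subgroup G)), m ∣ 2 →
      ϕ ⟨g⁻¹ * u ^ m * g, hm⟩ = t ^ m := by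
    intro g m hm hdvd
    rcases (Nat.dvd_prime Nat.prime_two).mp hdvd with rfl | rfl
    · have h1 : t ^ 1 = t := pow_one t
      rw [h1]
      apply eq_of_ne_one_of_card_two hcard _ ht1
      rw [Ne, hϕ]
      have := hconj g⁻¹
      simpa using this
    · rw [ht2]
      rw [hϕ]
      simp [hu2]
  haveI : Fintype (Quotient (orbitRel (zpowers u) (G ⧸ (P : Subgroup G)))) := Fintype.ofFinite _
  have hV : MonoidHom.transfer ϕ u = t := by
    rw [MonoidHom.transfer_eq_prod_quotient_orbitRel_zpowers_quot]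
    have h1 : ∀ q : Quotient (orbitRel (zpowers u) (G ⧸ (P : Subgroup G))),
        ϕ ⟨q.out.out⁻¹ * u ^ Function.minimalPeriod (u • ·) q.out * q.out.out,
            QuotientGroup.out_conj_pow_minimalPeriod_mem (P : Subgroup G) u q.out⟩ =
          t ^ Function.minimalPeriod (u • ·) q.out := by
      intro q
      apply hterm
      rw [← MulAction.pow_smul_eq_iff_minimalPeriod_dvd, hu2, one_smul]
    rw [Finset.prod_congr rfl (fun q _ => h1 q), Finset.prod_pow_eq_pow_sum,
      ← Subgroup.index_eq_sum_minimalPeriod (P : Subgroup G) u]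
    -- index is odd
    have hodd : ¬ 2 ∣ (P : Subgroup G).index := P.not_dvd_index
    have hodd' : (P : Subgroup G).index % 2 = 1 := by omega
    rw [← Nat.div_add_mod (P : Subgroup G).index 2, hodd', pow_add, pow_mul, ht2, one_pow, one_mul,
      pow_one]
  refine ⟨(MonoidHom.transfer ϕ).ker, inferInstance, ?_, ?_⟩
  · rw [Subgroup.index_ker]
    have h1 : Nat.card (MonoidHom.transfer ϕ).range ∣ 2 := by
      have h0 := Subgroup.card_subgroup_dvd_card (MonoidHom.transfer ϕ).range
      rwa [hcard] at h0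
    rcases (Nat.dvd_prime Nat.prime_two).mp h1 with h | h
    · exfalso
      have hbot : (MonoidHom.transfer ϕ).range = ⊥ := Subgroup.card_eq_one.mp h
      have hmem : t ∈ (MonoidHom.transfer ϕ).range := ⟨u, hV⟩
      rw [hbot, Subgroup.mem_bot] at hmem
      exact ht1 hmem
    · exact h
  · rw [MonoidHom.mem_ker, hV]; exact ht1

end Cfsg.Agent.S0111
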