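-- Statement S2722 (row 2722).
import Cfsg.Statements.S2722
import Cfsg.Agent.Lib.helper42.AutImage3
import Cfsg.Agent.Lib.helper42.OrthFrames
import Cfsg.Agent.Lib.helper42.Similitudes
import Cfsg.Agent.Lib.helper42.OrthoRank2

set_option autoImplicit false
open Cfsg

namespace Cfsg.Agent.S2722

open Cfsg.Agent.Lib.helper42 Cfsg.Agent.Lib.helper49

theorem exists_nonsquare_unit {F : Type*} [Field F] [Fintype F] (h2 : (2 : F) ≠ 0) :
    ∃ c : Fˣ, ¬ IsSquare (c : F) := by
  have hchar : ringChar F ≠ 2 := by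
    intro h
    apply h2
    have := ringChar.Nat.cast_ringChar (R := F)
    rw [h] at this
    exact_mod_cast this
  obtain ⟨a, ha⟩ := FiniteField.exists_nonsquare hchar
  have ha0 : a ≠ 0 := by
    rintro rfl
    exact ha ⟨0, by simp⟩
  exact ⟨Units.mk0 a ha0, ha⟩

/-- Let T = PΩ⁺_{2m}(F) with m ≥ 4 and |F| = q odd. Inside Aut(T), the image G̃ of the conformal orthogonal group of the form modulo the image of the special orthogonal group is elementary abelian of order 4. -/
theorem result {F : Type*} [Field F] [Fintype F] (hodd : Odd (Fintype.card F)) {m : ℕ} (hm : 4 ≤ m) :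
    (∃ φ : ↥(Cfsg.pgoAut F (Cfsg.quadFormPlus m F)) →* Multiplicative (ZMod 2 × ZMod 2), Function.Surjective φ ∧ φ.ker = (Cfsg.psoAut F (Cfsg.quadFormPlus m F)).subgroupOf (Cfsg.pgoAut F (Cfsg.quadFormPlus m F))) := by
  have h2 := two_ne_zero_of_odd_card hodd
  have hcard : Fintype.card (Fin m ⊕ Fin m) = 2 * m := by
    simp only [Fintype.card_sum, Fintype.card_fin]
    omega
  obtain ⟨c, hc⟩ := exists_nonsquare_unit h2
  obtain ⟨s₀, hs₀⟩ := exists_similarity_plus (F := F) m c
  exact pgo_mod_pso_klein h2 (plusForm m F) (plusForm_nondegenerate m) (plusFrame m (by omega))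
    (by rw [hcard]; omega) (by rw [hcard]; exact even_two_mul m) s₀ c hc hs₀

end Cfsg.Agent.S2722
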