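-- Statement S2616 (row 2616).
import Cfsg.Statements.S2616
import Cfsg.Agent.Lib.helper49.Witt

set_option autoImplicit false
open Cfsg

namespace Cfsg.Agent.S2616

open Module Cfsg.Agent.Lib.helper49

/-- Standard bases of a non-degenerate quadratic space of even dimension 2m over a finite field: either there is a hyperbolic basis e_i, f_i (Q(e_i) = Q(f_i) = 0, B(e_i, f_j) = δ_ij, the e's pairwise orthogonal and the f's pairwise orthogonal, B the polar form), or there is an elliptic basis: hyperbolic pairs e_i, f_i for i < m − 1 together with x, y orthogonal to them with Q(x) = 1, B(x, y) = 1, Q(y) = ζ where t² + t + ζ has no root in the field. -/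
theorem result {F V : Type*} [Field F] [Finite F] [AddCommGroup V] [Module F V] [FiniteDimensional F V] {m : ℕ} (hm : 1 ≤ m) (hV : Module.finrank F V = 2 * m) (Q : QuadraticForm F V) (hQ : (QuadraticMap.polarBilin Q).Nondegenerate) : (∃ b : Module.Basis (Fin m ⊕ Fin m) F V, (∀ i, Q (b (Sum.inl i)) = 0 ∧ Q (b (Sum.inr i)) = 0) ∧ (∀ i j, QuadraticMap.polar ⇑Q (b (Sum.inl i)) (b (Sum.inr j)) = if i = j then 1 else 0) ∧ (∀ i j, QuadraticMap.polar ⇑Q (b (Sum.inl i)) (b (Sum.inl j)) = 0 ∧ QuadraticMap.polar ⇑Q (b (Sum.inr i)) (b (Sum.inr j)) = 0)) ∨ (∃ (b : Module.Basis ((Fin (m - 1) ⊕ Fin (m - 1)) ⊕ Fin 2) F V) (ζ : F), (∀ t : F, t ^ 2 + t + ζ ≠ 0) ∧ (∀ i, Q (b (Sum.inl (Sum.inl i))) = 0 ∧ Q (b (Sum.inl (Sum.inr i))) = 0) ∧ (∀ i j, QuadraticMap.polar ⇑Q (b (Sum.inl (Sum.inl i))) (b (Sum.inl (Sum.inr j))) = if i = j then 1 else 0) ∧ (∀ i j, QuadraticMap.polar ⇑Q (b (Sum.inl (Sum.inl i))) (b (Sum.inl (Sum.inl j))) = 0 ∧ QuadraticMap.polar ⇑Q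 (b (Sum.inl (Sum.inr i))) (b (Sum.inl (Sum.inr j))) = 0) ∧ (∀ i (k : Fin 2), QuadraticMap.polar ⇑Q (b (Sum.inl (Sum.inl i))) (b (Sum.inr k)) = 0 ∧ QuadraticMap.polar ⇑Q (b (Sum.inl (Sum.inr i))) (b (Sum.inr k)) = 0) ∧ Q (b (Sum.inr 0)) = 1 ∧ QuadraticMap.polar ⇑Q (b (Sum.inr 0)) (b (Sum.inr 1)) = 1 ∧ Q (b (Sum.inr 1)) = ζ) := by
  classical
  obtain ⟨k, e, f, W, h1, h2, h3, h4, h5, h6, h7, h8, h9⟩ := witt_decomp (2 * m) hV Q hQ
  have hWnd : (QuadraticMap.polarBilin (restrictQ Q W)).Nondegenerate :=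
    (nondegenerate_restrictQ_iff Q W).mpr h8
  have han : ∀ w : W, restrictQ Q W w = 0 → w = 0 := fun w hw => Subtype.ext (h7 w w.2 hw)
  have hW2 : finrank F W ≤ 2 := finrank_le_two_of_anisotropic (restrictQ Q W) hWnd han
  have h3' : ∀ i j, QuadraticMap.polar Q (f i) (e j) = if i = j then 1 else 0 := by
    intro i j
    rw [QuadraticMap.polar_comm, h3]
    simp [eq_comm]
  rcases (by omega : finrank F W = 0 ∨ finrank F W = 2) with hW0 | hW2'
  · left
    have hk : k = m := by omega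
    subst hk
    let v : Fin k ⊕ Fin k → V := Sum.elim e f
    let v' : Fin k ⊕ Fin k → V := Sum.elim f e
    have hli : LinearIndependent F v := by
      apply linearIndependent_of_dual (QuadraticMap.polarBilin Q) v v'
      rintro (i | i) (j | j) <;> simp [v, v', h3, h3', h4, h5]
    have hcard : Fintype.card (Fin k ⊕ Fin k) = finrank F V := by
      simp [hV]
      omega
    have : Nonempty (Fin k ⊕ Fin k) := ⟨Sum.inl ⟨0, hm⟩⟩
    let b := basisOfLinearIndependentOfCardEqFinrank hli hcard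
    have hb : ⇑b = v := coe_basisOfLinearIndependentOfCardEqFinrank hli hcard
    refine ⟨b, ?_, ?_, ?_⟩
    · intro i
      rw [hb]
      exact ⟨h1 i, h2 i⟩
    · intro i j
      rw [hb]
      exact h3 i j
    · intro i j
      rw [hb]
      exact ⟨h4 i j, h5 i j⟩
  · right
    have hk : k = m - 1 := by omega
    subst hk
    obtain ⟨x, y, hQx, hxy, hζ⟩ := exists_elliptic_pair (restrictQ Q W) hWnd han hW2'
    have hQx' : Q (x : V) = 1 := hQx
    have hxy' : QuadraticMap.polar Q (x : V) (y : V) = 1 := by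
      have := hxy
      simpa [QuadraticMap.polar, restrictQ_apply] using this
    have hζ' : ∀ t : F, t ^ 2 + t + Q (y : V) ≠ 0 := hζ
    obtain ⟨a, b', c, d, d1, d2, d3, d4⟩ := elliptic_dual Q (x : V) (y : V) hQx' hxy' hζ'
    have hW6 : ∀ w ∈ W, ∀ i, QuadraticMap.polar Q (e i) w = 0 ∧ QuadraticMap.polar Q (f i) w = 0
        ∧ QuadraticMap.polar Q w (e i) = 0 ∧ QuadraticMap.polar Q w (f i) = 0 := by
      intro w hw i
      refine ⟨(h6 w hw i).1, (h6 w hw i).2, ?_, ?_⟩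
      · rw [QuadraticMap.polar_comm]; exact (h6 w hw i).1
      · rw [QuadraticMap.polar_comm]; exact (h6 w hw i).2
    have hx'W : a • (x : V) + b' • (y : V) ∈ W := W.add_mem (W.smul_mem _ x.2) (W.smul_mem _ y.2)
    have hy'W : c • (x : V) + d • (y : V) ∈ W := W.add_mem (W.smul_mem _ x.2) (W.smul_mem _ y.2)
    let v : (Fin (m - 1) ⊕ Fin (m - 1)) ⊕ Fin 2 → V := Sum.elim (Sum.elim e f) ![(x : V), (y : V)]
    let v' : (Fin (m - 1) ⊕ Fin (m - 1)) ⊕ Fin 2 → V :=
      Sum.elim (Sum.elim f e) ![a • (x : V) + b' • (y : V), c • (x : V) + d • (y : V)]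
    have hli : LinearIndependent F v := by
      apply linearIndependent_of_dual (QuadraticMap.polarBilin Q) v v'
      rintro ((i | i) | i) ((j | j) | j)
      · simp [v, v', h3]
      · simp [v, v', h4]
      · fin_cases j <;> simp [v, v', (hW6 _ hx'W i).1, (hW6 _ hy'W i).1]
      · simp [v, v', h5]
      · simp [v, v', h3']
      · fin_cases j <;> simp [v, v', (hW6 _ hx'W i).2.1, (hW6 _ hy'W i).2.1]
      · fin_cases i <;> simp [v, v', (hW6 _ x.2 j).2.2.2, (hW6 _ y.2 j).2.2.2]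
      · fin_cases i <;> simp [v, v', (hW6 _ x.2 j).2.2.1, (hW6 _ y.2 j).2.2.1]
      · fin_cases i <;> fin_cases j <;> simp [v, v', d1, d2, d3, d4]
    have hcard : Fintype.card ((Fin (m - 1) ⊕ Fin (m - 1)) ⊕ Fin 2) = finrank F V := by
      simp [hV]
      omega
    let b := basisOfLinearIndependentOfCardEqFinrank hli hcard
    have hb : ⇑b = v := coe_basisOfLinearIndependentOfCardEqFinrank hli hcard
    refine ⟨b, Q (y : V), hζ', ?_, ?_, ?_, ?_, ?_, ?_, ?_⟩
    · intro i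
      rw [hb]
      exact ⟨h1 i, h2 i⟩
    · intro i j
      rw [hb]
      exact h3 i j
    · intro i j
      rw [hb]
      exact ⟨h4 i j, h5 i j⟩
    · intro i j
      rw [hb]
      fin_cases j
      · exact ⟨(hW6 _ x.2 i).1, (hW6 _ x.2 i).2.1⟩
      · exact ⟨(hW6 _ y.2 i).1, (hW6 _ y.2 i).2.1⟩
    · rw [hb]
      exact hQx'
    · rw [hb]
      exact hxy'
    · rw [hb]
      rfl

end Cfsg.Agent.S2616
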