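import Mathlib
import Cfsg.Statements.S4275

set_option autoImplicit false
open Cfsg

namespace Cfsg.Agent.S4275

/-- Let G be a transitive group of permutations of a finite set Ω, let o ∈ Ω, and let α be an automorphism of G. Then α is induced by conjugation by a permutation of Ω normalizing G if and only if the image under α of the stabilizer of o fixes some point of Ω. -/
theorem result {Ω : Type*} [Fintype Ω] (G : Subgroup (Equiv.Perm Ω)) (htr : MulAction.IsPretransitive G Ω) (o : Ω) (α : G ≃* G) : (∃ σ : Equiv.Perm Ω, σ ∈ Subgroup.normalizer (G : Set (Equiv.Perm Ω)) ∧ ∀ g : G, ((α g : G) : Equiv.Perm Ω) = σ * (g : Equiv.Perm Ω) * σ⁻¹) ↔ ∃ ω : Ω, ∀ g ∈ (MulAction.stabilizer G o).map α.toMonoidHom, g • ω = ω := by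
  have hsmul : ∀ (g : G) (x : Ω), g • x = (g : Equiv.Perm Ω) x := fun g x => rfl
  constructor
  · rintro ⟨σ, -, hσ⟩
    refine ⟨σ o, ?_⟩
    rintro _ ⟨g, hg, rfl⟩
    rw [SetLike.mem_coe, MulAction.mem_stabilizer_iff, hsmul] at hg
    change (α g) • σ o = σ o
    rw [hsmul, hσ g]
    simp [hg]
  · rintro ⟨ω, hω⟩
    have hω' : ∀ g : G, g • o = o → α g • ω = ω := fun g hg =>
      hω (α g) ⟨g, MulAction.mem_stabilizer_iff.mpr hg, rfl⟩
    have hex : ∀ x : Ω, ∃ g : G, g • o = x := fun x => MulAction.exists_smul_eq G o x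
    choose c hc using hex
    let f : Ω → Ω := fun x => α (c x) • ω
    have hf : ∀ g : G, f (g • o) = α g • ω := by
      intro g
      have h1 : (g⁻¹ * c (g • o)) • o = o := by
        rw [mul_smul, hc, inv_smul_smul]
      have h2 := hω' _ h1
      rw [map_mul, mul_smul, map_inv, inv_smul_eq_iff] at h2
      exact h2
    have hfe : ∀ (h : G) (x : Ω), f (h • x) = α h • f x := by
      intro h x
      obtain ⟨g, rfl⟩ := MulAction.exists_smul_eq G o x
      rw [← mul_smul, hf, hf, map_mul, mul_smul]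
    have hsurj : Function.Surjective f := by
      intro y
      obtain ⟨g', rfl⟩ := MulAction.exists_smul_eq G ω y
      refine ⟨α.symm g' • o, ?_⟩
      rw [hf, MulEquiv.apply_symm_apply]
    have hbij : Function.Bijective f := ⟨Finite.injective_iff_surjective.mpr hsurj, hsurj⟩
    let σ : Equiv.Perm Ω := Equiv.ofBijective f hbij
    have hσ : ∀ g : G, ((α g : G) : Equiv.Perm Ω) = σ * (g : Equiv.Perm Ω) * σ⁻¹ := by
      intro g
      ext x
      have h1 : σ ((g : Equiv.Perm Ω) (σ⁻¹ x)) = α g • σ (σ⁻¹ x) := hfe g (σ⁻¹ x)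
      rw [Equiv.Perm.mul_apply, Equiv.Perm.mul_apply, h1, hsmul]
      simp
    refine ⟨σ, ?_, hσ⟩
    rw [Subgroup.mem_normalizer_iff]
    intro h
    constructor
    · intro hh
      have := hσ ⟨h, hh⟩
      rw [← this]
      exact (α ⟨h, hh⟩).2
    · intro hh
      have h1 := hσ (α.symm ⟨σ * h * σ⁻¹, hh⟩)
      rw [MulEquiv.apply_symm_apply] at h1
      have h2 : h = ((α.symm ⟨σ * h * σ⁻¹, hh⟩ : G) : Equiv.Perm Ω) := by
        have h3 : σ * h * σ⁻¹ = σ * ((α.symm ⟨σ * h * σ⁻¹, hh⟩ : G) : Equiv.Perm Ω) * σ⁻¹ := h1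
        have h4 := mul_right_cancel h3
        exact mul_left_cancel h4
      rw [h2]
      exact (α.symm ⟨σ * h * σ⁻¹, hh⟩).2

end Cfsg.Agent.S4275
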