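import Cfsg.Statements.S2330
import Cfsg.Agent.Lib.helper44.GL2

set_option autoImplicit false
open Cfsg

namespace Cfsg.Agent.S2330

open Matrix Cfsg.Agent.Lib.helper44

/-- A unit from a field element (junk value `1` at `0`). -/
noncomputable def unitOf {F : Type*} [Field F] (a : F) : Fˣ := by
  classical exact if h : a = 0 then 1 else Units.mk0 a h

theorem unitOf_val {F : Type*} [Field F] (a : Fˣ) : unitOf (a : F) = a := by
  unfold unitOf
  rw [dif_neg a.ne_zero]
  ext; rfl

/-- The class invariant: the scalar, or the pair (trace, determinant). -/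
noncomputable def classInv {F : Type*} [Field F] (g : GL (Fin 2) F) : Fˣ ⊕ (F × Fˣ) := by
  classical exact
    if IsScalar2 (g : Matrix (Fin 2) (Fin 2) F) then Sum.inl (unitOf ((g : Matrix (Fin 2) (Fin 2) F) 0 0))
    else Sum.inr ((g : Matrix (Fin 2) (Fin 2) F).trace, Matrix.GeneralLinearGroup.det g)

theorem classInv_eq_of_isConj {F : Type*} [Field F] {g h : GL (Fin 2) F} (hc : IsConj g h) :
    classInv g = classInv h := by
  classical
  by_cases hg : IsScalar2 (g : Matrix (Fin 2) (Fin 2) F)
  · rw [eq_of_isConj_of_isScalar2 hc hg]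
  · have hh : ¬ IsScalar2 (h : Matrix (Fin 2) (Fin 2) F) := by
      intro hh
      exact hg (by rw [← eq_of_isConj_of_isScalar2 hc.symm hh]; exact hh)
    unfold classInv
    rw [if_neg hg, if_neg hh, trace_eq_of_isConj hc, det_eq_of_isConj hc]

theorem isConj_of_classInv_eq {F : Type*} [Field F] {g h : GL (Fin 2) F}
    (he : classInv g = classInv h) : IsConj g h := by
  classical
  unfold classInv at he
  by_cases hg : IsScalar2 (g : Matrix (Fin 2) (Fin 2) F) <;>
    by_cases hh : IsScalar2 (h : Matrix (Fin 2) (Fin 2) F)
  · rw [if_pos hg, if_pos hh] at he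
    have h00 : (g : Matrix (Fin 2) (Fin 2) F) 0 0 = (h : Matrix (Fin 2) (Fin 2) F) 0 0 := by
      have hg0 : (g : Matrix (Fin 2) (Fin 2) F) 0 0 ≠ 0 := by
        intro h0
        have := Matrix.GeneralLinearGroup.det_ne_zero g
        rw [Matrix.det_fin_two, hg.1, h0] at this
        simp at this
      have hh0 : (h : Matrix (Fin 2) (Fin 2) F) 0 0 ≠ 0 := by
        intro h0
        have := Matrix.GeneralLinearGroup.det_ne_zero h
        rw [Matrix.det_fin_two, hh.1, h0] at this
        simp at this
      have := Sum.inl.inj he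
      unfold unitOf at this
      rw [dif_neg hg0, dif_neg hh0] at this
      exact congrArg Units.val this
    have : g = h := by
      ext : 1
      rw [(isScalar2_iff _).1 hg, (isScalar2_iff _).1 hh, h00]
    rw [this]
  · rw [if_pos hg, if_neg hh] at he
    exact absurd he (by simp)
  · rw [if_neg hg, if_pos hh] at he
    exact absurd he (by simp)
  · rw [if_neg hg, if_neg hh] at he
    have := Sum.inr.inj he
    exact isConj_of_trace_det hg hh (congrArg Prod.fst this) (congrArg Prod.snd this)

theorem classInv_surjective {F : Type*} [Field F] :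
    Function.Surjective (classInv : GL (Fin 2) F → Fˣ ⊕ (F × Fˣ)) := by
  classical
  rintro (a | ⟨t, d⟩)
  · refine ⟨Matrix.GeneralLinearGroup.scalar (Fin 2) a, ?_⟩
    have hs : IsScalar2 ((Matrix.GeneralLinearGroup.scalar (Fin 2) a : GL (Fin 2) F) :
        Matrix (Fin 2) (Fin 2) F) := by
      refine ⟨?_, ?_, ?_⟩ <;> simp [Matrix.GeneralLinearGroup.coe_scalar]
    unfold classInv
    rw [if_pos hs]
    have : ((Matrix.GeneralLinearGroup.scalar (Fin 2) a : GL (Fin 2) F) :
        Matrix (Fin 2) (Fin 2) F) 0 0 = (a : F) := by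
      simp [Matrix.GeneralLinearGroup.coe_scalar]
    rw [this, unitOf_val]
  · refine ⟨compGL t d, ?_⟩
    unfold classInv
    rw [if_neg (by rw [compGL_val]; exact comp2_not_scalar _ _), compGL_val, comp2_trace, compGL_det]

/-- Over a finite field with q elements, the general linear group GL₂ has exactly q² − 1 conjugacy classes. -/
theorem result {F : Type*} [Field F] [Fintype F] :
    Nat.card (ConjClasses (Matrix.GeneralLinearGroup (Fin 2) F)) = Fintype.card F ^ 2 - 1 := by
  classical
  let f : ConjClasses (GL (Fin 2) F) → Fˣ ⊕ (F × Fˣ) :=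
    Quotient.lift classInv (fun a b hab => classInv_eq_of_isConj hab)
  have hf : Function.Bijective f := by
    constructor
    · intro x y
      induction x using Quotient.inductionOn with
      | _ a =>
        induction y using Quotient.inductionOn with
        | _ b =>
          intro h
          exact Quotient.sound (isConj_of_classInv_eq h)
    · intro z
      obtain ⟨g, hg⟩ := classInv_surjective z
      exact ⟨Quotient.mk _ g, hg⟩
  rw [Nat.card_congr (Equiv.ofBijective f hf)]
  rw [Nat.card_eq_fintype_card, Fintype.card_sum, Fintype.card_prod, Fintype.card_units]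
  have hq : 1 ≤ Fintype.card F := Fintype.card_pos
  obtain ⟨k, hk⟩ : ∃ k, Fintype.card F = k + 1 := ⟨Fintype.card F - 1, by omega⟩
  rw [hk]
  have : (k + 1) ^ 2 = k * k + 2 * k + 1 := by ring
  rw [this]
  simp only [Nat.add_sub_cancel]
  ring

end Cfsg.Agent.S2330
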