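import Cfsg.Statements.S2331
-- import your own Cfsg.Agent.* helpers here
import Cfsg.Agent.Lib.helper44.SL2

set_option autoImplicit false
open Cfsg

namespace Cfsg.Agent.S2331

open Matrix Cfsg.Agent.Lib.helper44

/-- The class invariant: `none` for the identity, the trace otherwise. -/
noncomputable def classInv {F : Type*} [Field F] (g : Matrix.SpecialLinearGroup (Fin 2) F) : Option F := by
  classical exact
    if IsScalar2 (g : Matrix (Fin 2) (Fin 2) F) then none
    else some (g : Matrix (Fin 2) (Fin 2) F).trace

theorem classInv_eq_of_isConj {F : Type*} [Field F] {g h : Matrix.SpecialLinearGroup (Fin 2) F}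
    (hc : IsConj g h) : classInv g = classInv h := by
  classical
  by_cases hg : IsScalar2 (g : Matrix (Fin 2) (Fin 2) F)
  · rw [eq_of_isConj_of_isScalar2_SL hc hg]
  · have hh : ¬ IsScalar2 (h : Matrix (Fin 2) (Fin 2) F) := by
      intro hh
      exact hg (by rw [← eq_of_isConj_of_isScalar2_SL hc.symm hh]; exact hh)
    unfold classInv
    rw [if_neg hg, if_neg hh, trace_eq_of_isConj_SL hc]

theorem isConj_of_classInv_eq {F : Type*} [Field F] [Fintype F] [CharP F 2]
    {g h : Matrix.SpecialLinearGroup (Fin 2) F}
    (he : classInv g = classInv h) : IsConj g h := by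
  classical
  have h2 : (2 : F) = 0 := CharTwo.two_eq_zero
  have hN : ∀ t e : F, e ≠ 0 → ∃ x y : F, x ^ 2 + t * x * y + y ^ 2 = e := by
    intro t e _
    obtain ⟨r, hr⟩ := FiniteField.isSquare_of_char_two (ringChar.eq F 2) e
    exact ⟨r, 0, by rw [hr]; ring⟩
  have hsc : ∀ g : Matrix.SpecialLinearGroup (Fin 2) F, IsScalar2 (g : Matrix (Fin 2) (Fin 2) F) →
      (g : Matrix (Fin 2) (Fin 2) F) 0 0 = 1 := by
    intro g hg
    have h1 := sq_eq_one_of_isScalar2_SL hg
    have h0 : ((g : Matrix (Fin 2) (Fin 2) F) 0 0 - 1) ^ 2 = 0 := by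
      linear_combination h1 - (g : Matrix (Fin 2) (Fin 2) F) 0 0 * h2 + h2
    have := (pow_eq_zero_iff two_ne_zero).1 h0
    linear_combination this
  unfold classInv at he
  by_cases hg : IsScalar2 (g : Matrix (Fin 2) (Fin 2) F) <;>
    by_cases hh : IsScalar2 (h : Matrix (Fin 2) (Fin 2) F)
  · rw [eq_of_isScalar2_SL hg hh ((hsc g hg).trans (hsc h hh).symm)]
  · rw [if_pos hg, if_neg hh] at he
    exact absurd he (by simp)
  · rw [if_neg hg, if_pos hh] at he
    exact absurd he (by simp)
  · rw [if_neg hg, if_neg hh] at he
    have ht := Option.some.inj he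
    have h1 := isConj_compSL g hg (hN _)
    have h2 := isConj_compSL h hh (hN _)
    rw [ht] at h1
    exact h1.trans h2.symm

theorem classInv_surjective {F : Type*} [Field F] :
    Function.Surjective (classInv : Matrix.SpecialLinearGroup (Fin 2) F → Option F) := by
  classical
  rintro (_ | t)
  · refine ⟨1, ?_⟩
    have hs : IsScalar2 ((1 : Matrix.SpecialLinearGroup (Fin 2) F) : Matrix (Fin 2) (Fin 2) F) := by
      refine ⟨?_, ?_, ?_⟩ <;> simp
    unfold classInv
    rw [if_pos hs]
  · refine ⟨compSL t, ?_⟩
    unfold classInv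
    rw [if_neg (by rw [compSL_val]; exact comp2_not_scalar _ _), compSL_val, comp2_trace]

/-- Over a finite field with q elements, q even, the special linear group SL₂ has exactly q + 1 conjugacy classes. -/
theorem result {F : Type*} [Field F] [Fintype F] [CharP F 2] :
    Nat.card (ConjClasses (Matrix.SpecialLinearGroup (Fin 2) F)) = Fintype.card F + 1 := by
  classical
  let f : ConjClasses (Matrix.SpecialLinearGroup (Fin 2) F) → Option F :=
    Quotient.lift classInv (fun a b hab => classInv_eq_of_isConj hab)
  have hf : Function.Bijective f := by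
    constructor
    · intro x y
      induction x using Quotient.inductionOn with
      | _ a =>
        induction y using Quotient.inductionOn with
        | _ b =>
          intro h
          exact Quotient.sound (isConj_of_classInv_eq h)
    · intro z
      obtain ⟨g, hg⟩ := classInv_surjective z
      exact ⟨Quotient.mk _ g, hg⟩
  rw [Nat.card_congr (Equiv.ofBijective f hf)]
  rw [Nat.card_eq_fintype_card, Fintype.card_option]

end Cfsg.Agent.S2331
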