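import Cfsg.Statements.S2325
-- import your own Cfsg.Agent.* helpers here
import Cfsg.Agent.Lib.helper44.SL2

set_option autoImplicit false
open Cfsg

namespace Cfsg.Agent.S2325

open Matrix Cfsg.Agent.Lib.helper44

/-- The matrix `ε (1 + l E₁₂)`. -/
def uni {F : Type*} [Field F] (ε l : F) : Matrix (Fin 2) (Fin 2) F := !![ε, ε * l; 0, ε]

theorem uni_det {F : Type*} [Field F] (ε l : F) (hε : ε ^ 2 = 1) : (uni ε l).det = 1 := by
  simp [uni, Matrix.det_fin_two]
  linear_combination hε

theorem uni_trace {F : Type*} [Field F] (ε l : F) : (uni ε l).trace = 2 * ε := by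
  simp [uni, Matrix.trace_fin_two]
  ring

theorem uni_not_scalar {F : Type*} [Field F] (ε l : F) (hε : ε ≠ 0) (hl : l ≠ 0) :
    ¬ IsScalar2 (uni ε l) := by
  intro h
  have := h.1
  simp [uni] at this
  tauto

theorem uni_scalar {F : Type*} [Field F] (ε : F) : IsScalar2 (uni ε 0) := by
  refine ⟨?_, ?_, ?_⟩ <;> simp [uni]

/-- The sign `±1` attached to a Boolean. -/
def sgn {F : Type*} [Field F] (b : Bool) : F := if b then 1 else -1

theorem sgn_sq {F : Type*} [Field F] (b : Bool) : (sgn b : F) ^ 2 = 1 := by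
  cases b <;> simp [sgn]

theorem sgn_ne_zero {F : Type*} [Field F] (b : Bool) : (sgn b : F) ≠ 0 := by
  cases b <;> simp [sgn]

theorem sgn_inj {F : Type*} [Field F] (h2 : (2 : F) ≠ 0) {b b' : Bool} (h : (sgn b : F) = sgn b') :
    b = b' := by
  cases b <;> cases b' <;> simp [sgn] at h ⊢
  · apply h2; linear_combination -h
  · apply h2; linear_combination h

/-- `ε (1 + l E₁₂)` as an element of `SL₂`. -/
def uniSL {F : Type*} [Field F] (b : Bool) (l : F) : Matrix.SpecialLinearGroup (Fin 2) F :=
  ⟨uni (sgn b) l, uni_det _ _ (sgn_sq b)⟩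

theorem uniSL_val {F : Type*} [Field F] (b : Bool) (l : F) :
    ((uniSL b l : Matrix.SpecialLinearGroup (Fin 2) F) : Matrix (Fin 2) (Fin 2) F) = uni (sgn b) l := rfl

/-- The index type of the conjugacy classes. -/
abbrev Idx (F : Type*) [Field F] : Type _ := Bool ⊕ ({t : F // t ≠ 2 ∧ t ≠ -2} ⊕ (Bool × Bool))

/-- The representatives of the conjugacy classes (for a fixed non-square `ν`). -/
def rep {F : Type*} [Field F] (ν : F) : Idx F → Matrix.SpecialLinearGroup (Fin 2) F
  | Sum.inl b => uniSL b 0
  | Sum.inr (Sum.inl t) => compSL t.1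
  | Sum.inr (Sum.inr (b, c)) => uniSL b (if c then 1 else ν)

/-- Universality of the norm form for a separable characteristic polynomial. -/
theorem normform {F : Type*} [Field F] [Fintype F] (h2 : (2 : F) ≠ 0) (hcard : Fintype.card F % 2 = 1)
    (t : F) (ht : t ≠ 2 ∧ t ≠ -2) (e : F) : ∃ x y : F, x ^ 2 + t * x * y + y ^ 2 = e := by
  have h4 : (4 : F) ≠ 0 := by
    have : (4 : F) = 2 * 2 := by norm_num
    rw [this]; exact mul_ne_zero h2 h2
  have hd : (1 - t ^ 2 / 4 : F) ≠ 0 := by
    intro h
    have h' : (t - 2) * (t + 2) = 0 := by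
      field_simp at h
      linear_combination -h
    rcases mul_eq_zero.1 h' with h' | h'
    · exact ht.1 (by linear_combination h')
    · exact ht.2 (by linear_combination h')
  obtain ⟨a, b, hab⟩ := FiniteField.exists_root_sum_quadratic
    (f := Polynomial.X ^ 2 - Polynomial.C e) (g := Polynomial.C (1 - t ^ 2 / 4) * Polynomial.X ^ 2)
    (Polynomial.degree_X_pow_sub_C (by norm_num) e) (Polynomial.degree_C_mul_X_pow 2 hd) hcard
  simp at hab
  refine ⟨a - t * b / 2, b, ?_⟩
  field_simp
  field_simp at hab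
  linear_combination hab

/-- A non-scalar element of trace `±2` is conjugate to one of the two unipotent representatives. -/
theorem unip_conj {F : Type*} [Field F] [Fintype F] (h2 : (2 : F) ≠ 0) (ν : F) (hν : ¬ IsSquare ν)
    (g : Matrix.SpecialLinearGroup (Fin 2) F) (hg : ¬ IsScalar2 (g : Matrix (Fin 2) (Fin 2) F))
    (b : Bool) (ht : (g : Matrix (Fin 2) (Fin 2) F).trace = 2 * sgn b) :
    ∃ c : Bool, IsConj g (uniSL b (if c then 1 else ν)) := by
  classical
  have hν0 : ν ≠ 0 := by
    rintro rfl
    exact hν ⟨0, by simp⟩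
  -- conjugate in GL₂
  have hconj : IsConj (Matrix.SpecialLinearGroup.toGL (uniSL b (1 : F))) (Matrix.SpecialLinearGroup.toGL g) := by
    apply isConj_of_trace_det
    · exact uni_not_scalar _ _ (sgn_ne_zero b) one_ne_zero
    · exact hg
    · change (uni (sgn b) (1 : F)).trace = (g : Matrix (Fin 2) (Fin 2) F).trace
      rw [uni_trace, ht]
    · ext
      simp
  obtain ⟨c, hc⟩ := isConj_iff.1 hconj
  rw [mul_inv_eq_iff_eq_mul] at hc
  have hP : (c : Matrix (Fin 2) (Fin 2) F) * uni (sgn b) 1 =
      (g : Matrix (Fin 2) (Fin 2) F) * (c : Matrix (Fin 2) (Fin 2) F) := by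
    have := congrArg Units.val hc
    simpa [uniSL_val] using this
  have hδ : (c : Matrix (Fin 2) (Fin 2) F).det ≠ 0 := Matrix.GeneralLinearGroup.det_ne_zero c
  by_cases hsq : IsSquare (c : Matrix (Fin 2) (Fin 2) F).det
  · obtain ⟨s, hs⟩ := hsq
    have hs0 : s ≠ 0 := by
      rintro rfl
      exact hδ (by rw [hs]; simp)
    refine ⟨true, isConj_SL_of_intertwine (s⁻¹ • (c : Matrix (Fin 2) (Fin 2) F)) ?_ ?_⟩
    · rw [Matrix.det_smul, hs]
      simp
      field_simp
    · simp only [if_true, uniSL_val]
      rw [Matrix.mul_smul, Matrix.smul_mul, hP]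
  · have hsq2 : IsSquare ((c : Matrix (Fin 2) (Fin 2) F).det * ν) := by
      rw [← quadraticChar_one_iff_isSquare (mul_ne_zero hδ hν0), map_mul,
        quadraticChar_neg_one_iff_not_isSquare.2 hsq, quadraticChar_neg_one_iff_not_isSquare.2 hν]
      norm_num
    obtain ⟨s, hs⟩ := hsq2
    have hs0 : s ≠ 0 := by
      rintro rfl
      exact (mul_ne_zero hδ hν0) (by rw [hs]; simp)
    have hD : uni (sgn b) (1 : F) * !![1, 0; 0, ν] = !![1, 0; 0, ν] * uni (sgn b) ν := by
      ext i j
      fin_cases i <;> fin_cases j <;> simp [uni, Matrix.mul_apply, Fin.sum_univ_two]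
      ring
    refine ⟨false, isConj_SL_of_intertwine
      (s⁻¹ • ((c : Matrix (Fin 2) (Fin 2) F) * !![1, 0; 0, ν])) ?_ ?_⟩
    · rw [Matrix.det_smul, Matrix.det_mul]
      have : (!![1, 0; 0, ν] : Matrix (Fin 2) (Fin 2) F).det = ν := by simp [Matrix.det_fin_two]
      rw [this, hs]
      simp
      field_simp
    · simp only [uniSL_val]
      rw [Matrix.mul_smul, Matrix.smul_mul, ← Matrix.mul_assoc, ← hP, Matrix.mul_assoc, hD,
        Matrix.mul_assoc]
      simp

/-- The two unipotent representatives with the same sign are not conjugate. -/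
theorem unip_not_conj {F : Type*} [Field F] (ν : F) (hν : ¬ IsSquare ν) (b : Bool) :
    ¬ IsConj (uniSL b (1 : F)) (uniSL b ν) := by
  intro hc
  obtain ⟨Q, hQ⟩ := isConj_iff.1 hc
  rw [mul_inv_eq_iff_eq_mul] at hQ
  have hν0 : ν ≠ 0 := by
    rintro rfl
    exact hν ⟨0, by simp⟩
  have hε := sgn_ne_zero (F := F) b
  have hM : (Q : Matrix (Fin 2) (Fin 2) F) * uni (sgn b) 1 = uni (sgn b) ν * (Q : Matrix (Fin 2) (Fin 2) F) := by
    have := congrArg Subtype.val hQ
    simpa [uniSL_val] using this
  have h00 := congrFun (congrFun hM 0) 0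
  have h01 := congrFun (congrFun hM 0) 1
  simp [uni, Matrix.mul_apply, Fin.sum_univ_two] at h00 h01
  have hz : (Q : Matrix (Fin 2) (Fin 2) F) 1 0 = 0 := by
    have : sgn b * ν * (Q : Matrix (Fin 2) (Fin 2) F) 1 0 = 0 := by linear_combination -h00
    rcases mul_eq_zero.1 this with h | h
    · exact absurd h (mul_ne_zero hε hν0)
    · exact h
  have hx : (Q : Matrix (Fin 2) (Fin 2) F) 0 0 = ν * (Q : Matrix (Fin 2) (Fin 2) F) 1 1 := by
    have : sgn b * ((Q : Matrix (Fin 2) (Fin 2) F) 0 0 - ν * (Q : Matrix (Fin 2) (Fin 2) F) 1 1) = 0 := by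
      linear_combination h01
    rcases mul_eq_zero.1 this with h | h
    · exact absurd h hε
    · linear_combination h
  have hdet : (Q : Matrix (Fin 2) (Fin 2) F).det = 1 := Q.2
  rw [Matrix.det_fin_two, hz, hx] at hdet
  have hw : (Q : Matrix (Fin 2) (Fin 2) F) 1 1 ≠ 0 := by
    intro h
    rw [h] at hdet
    simp at hdet
  apply hν
  refine ⟨((Q : Matrix (Fin 2) (Fin 2) F) 1 1)⁻¹, ?_⟩
  field_simp
  linear_combination hdet

theorem rep_not_scalar {F : Type*} [Field F] (ν : F) (hν0 : ν ≠ 0) (y : {t : F // t ≠ 2 ∧ t ≠ -2} ⊕ (Bool × Bool)) :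
    ¬ IsScalar2 ((rep ν (Sum.inr y) : Matrix.SpecialLinearGroup (Fin 2) F) : Matrix (Fin 2) (Fin 2) F) := by
  rcases y with t | ⟨b, c⟩
  · exact comp2_not_scalar _ _
  · refine uni_not_scalar _ _ (sgn_ne_zero b) ?_
    cases c <;> simp [hν0]

theorem rep_injective {F : Type*} [Field F] (h2 : (2 : F) ≠ 0) (ν : F) (hν : ¬ IsSquare ν)
    {x y : Idx F} (hc : IsConj (rep ν x) (rep ν y)) : x = y := by
  have hν0 : ν ≠ 0 := by
    rintro rfl
    exact hν ⟨0, by simp⟩
  rcases x with b | x
  · rcases y with b' | y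
    · have := eq_of_isConj_of_isScalar2_SL hc (uni_scalar _)
      have h00 := congrArg (fun g : Matrix.SpecialLinearGroup (Fin 2) F => (g : Matrix (Fin 2) (Fin 2) F) 0 0) this
      simp [rep, uniSL_val, uni] at h00
      rw [sgn_inj h2 h00]
    · exfalso
      have := eq_of_isConj_of_isScalar2_SL hc (uni_scalar _)
      apply rep_not_scalar ν hν0 y
      rw [← this]
      exact uni_scalar _
  · rcases y with b' | y
    · exfalso
      have := eq_of_isConj_of_isScalar2_SL hc.symm (uni_scalar _)
      apply rep_not_scalar ν hν0 x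
      rw [← this]
      exact uni_scalar _
    · have htr := trace_eq_of_isConj_SL hc
      rcases x with t | ⟨b, c⟩ <;> rcases y with t' | ⟨b', c'⟩
      · simp only [rep, compSL_val, comp2_trace] at htr
        have : t = t' := Subtype.ext htr
        rw [this]
      · exfalso
        simp only [rep, compSL_val, comp2_trace, uniSL_val, uni_trace] at htr
        cases b' <;> simp [sgn] at htr
        · exact t.2.2 (by rw [htr])
        · exact t.2.1 htr
      · exfalso
        simp only [rep, compSL_val, comp2_trace, uniSL_val, uni_trace] at htr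
        cases b <;> simp [sgn] at htr
        · exact t'.2.2 (by rw [← htr])
        · exact t'.2.1 htr.symm
      · simp only [rep, uniSL_val, uni_trace] at htr
        have hb : b = b' := sgn_inj h2 (mul_left_cancel₀ h2 htr)
        subst hb
        have hcc : c = c' := by
          cases c <;> cases c'
          · rfl
          · exfalso
            simp only [rep, if_true, Bool.false_eq_true, if_false] at hc
            exact unip_not_conj ν hν b hc.symm
          · exfalso
            simp only [rep, if_true, Bool.false_eq_true, if_false] at hc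
            exact unip_not_conj ν hν b hc
          · rfl
        rw [hcc]

theorem rep_surjective {F : Type*} [Field F] [Fintype F] (h2 : (2 : F) ≠ 0) (hcard : Fintype.card F % 2 = 1)
    (ν : F) (hν : ¬ IsSquare ν) (g : Matrix.SpecialLinearGroup (Fin 2) F) :
    ∃ x : Idx F, IsConj g (rep ν x) := by
  by_cases hg : IsScalar2 (g : Matrix (Fin 2) (Fin 2) F)
  · have hsq := sq_eq_one_of_isScalar2_SL hg
    have : ((g : Matrix (Fin 2) (Fin 2) F) 0 0 - 1) * ((g : Matrix (Fin 2) (Fin 2) F) 0 0 + 1) = 0 := by
      linear_combination hsq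
    rcases mul_eq_zero.1 this with h | h
    · refine ⟨Sum.inl true, ?_⟩
      have : g = rep ν (Sum.inl true) := by
        apply eq_of_isScalar2_SL hg (uni_scalar _)
        simp [rep, uniSL_val, uni, sgn]
        linear_combination h
      rw [← this]
    · refine ⟨Sum.inl false, ?_⟩
      have : g = rep ν (Sum.inl false) := by
        apply eq_of_isScalar2_SL hg (uni_scalar _)
        simp [rep, uniSL_val, uni, sgn]
        linear_combination h
      rw [← this]
  · by_cases ht : (g : Matrix (Fin 2) (Fin 2) F).trace ≠ 2 ∧ (g : Matrix (Fin 2) (Fin 2) F).trace ≠ -2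
    · refine ⟨Sum.inr (Sum.inl ⟨_, ht⟩), ?_⟩
      exact isConj_compSL g hg (fun e _ => normform h2 hcard _ ht e)
    · have ht' : (g : Matrix (Fin 2) (Fin 2) F).trace = 2 ∨ (g : Matrix (Fin 2) (Fin 2) F).trace = -2 := by
        by_contra hcon
        exact ht ⟨fun h => hcon (Or.inl h), fun h => hcon (Or.inr h)⟩
      rcases ht' with ht' | ht'
      · obtain ⟨c, hc⟩ := unip_conj h2 ν hν g hg true (by rw [ht']; simp [sgn])
        exact ⟨Sum.inr (Sum.inr (true, c)), hc⟩
      · obtain ⟨c, hc⟩ := unip_conj h2 ν hν g hg false (by rw [ht']; simp [sgn])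
        exact ⟨Sum.inr (Sum.inr (false, c)), hc⟩

theorem card_idx {F : Type*} [Field F] [Fintype F] (h2 : (2 : F) ≠ 0) :
    Nat.card (Idx F) = Fintype.card F + 4 := by
  classical
  have hsub : Fintype.card {t : F // t ≠ 2 ∧ t ≠ -2} = Fintype.card F - 2 := by
    have h1 : Fintype.card {t : F // t ≠ 2 ∧ t ≠ -2} = Fintype.card {t : F // ¬ (t = 2 ∨ t = -2)} := by
      apply Fintype.card_congr
      apply Equiv.subtypeEquivRight
      intro t
      tauto
    rw [h1, Fintype.card_subtype_compl]
    congr 1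
    rw [Fintype.card_subtype]
    have : (Finset.univ.filter fun t : F => t = 2 ∨ t = -2) = {2, -2} := by
      ext t
      simp
    rw [this, Finset.card_pair]
    intro h
    apply h2
    have h4 : (2 : F) * 2 = 0 := by linear_combination h
    exact mul_self_eq_zero.1 h4
  have hq : 2 ≤ Fintype.card F := by
    have := Fintype.one_lt_card (α := F)
    omega
  rw [Nat.card_eq_fintype_card, Fintype.card_sum, Fintype.card_sum, Fintype.card_prod, hsub]
  simp
  omega

/-- Over a finite field with q elements, q odd, the special linear group SL₂ has exactly q + 4 conjugacy classes. -/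
theorem result {F : Type*} [Field F] [Fintype F] (hodd : Odd (Fintype.card F)) :
    Nat.card (ConjClasses (Matrix.SpecialLinearGroup (Fin 2) F)) = Fintype.card F + 4 := by
  classical
  have hcard : Fintype.card F % 2 = 1 := Nat.odd_iff.1 hodd
  have hchar : ringChar F ≠ 2 := by
    intro h
    have := FiniteField.even_card_iff_char_two.1 h
    omega
  have h2 : (2 : F) ≠ 0 := Ring.two_ne_zero hchar
  obtain ⟨ν, hν⟩ := FiniteField.exists_nonsquare hchar
  let f : Idx F → ConjClasses (Matrix.SpecialLinearGroup (Fin 2) F) := fun x => ConjClasses.mk (rep ν x)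
  have hf : Function.Bijective f := by
    constructor
    · intro x y h
      exact rep_injective h2 ν hν (ConjClasses.mk_eq_mk_iff_isConj.1 h)
    · intro z
      induction z using Quotient.inductionOn with
      | _ g =>
        obtain ⟨x, hx⟩ := rep_surjective h2 hcard ν hν g
        exact ⟨x, (ConjClasses.mk_eq_mk_iff_isConj.2 hx).symm⟩
  rw [← Nat.card_congr (Equiv.ofBijective f hf), card_idx h2]

end Cfsg.Agent.S2325
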