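import Cfsg.Statements.S1152
import Cfsg.Agent.Lib.helper44.ReeCent2
import Cfsg.Agent.Lib.helper44.ElemAb8

set_option autoImplicit false
open Cfsg

namespace Cfsg.Agent.S1152

/-- In the small Ree group ²G₂(q), q = 3^(2m+1), realised as G¹ inside the Chevalley group G₂ over the field with q elements (θ the 3^m-th power map), with H¹ = G¹ ∩ H and U¹ = G¹ ∩ U the intersections with the ambient diagonal and positive unipotent subgroups: for an involution `a ∈ H¹`, the centraliser of `a` in `G¹` is isomorphic to `Z₂ × PSL₂(q)`; and the Sylow 2-subgroups of `G¹` are elementary abelian of order 8. -/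
theorem result {K : Type*} [Field K] [Fintype K] {m : ℕ} (hK : Fintype.card K = 3 ^ (2 * m + 1))
    (a : ↥(Cfsg.Lie.twistedG2 K (3 ^ m))) (haH : (a : GL Cfsg.Lie.chevG2.Idx K) ∈ Cfsg.Lie.chevG2.diagonalSubgroup K) (ha1 : a ≠ 1) (ha2 : a * a = 1) :
    Nonempty (↥(Subgroup.centralizer {a}) ≃* Multiplicative (ZMod 2) × Matrix.ProjectiveSpecialLinearGroup (Fin 2) K) ∧
      ∀ S : Sylow 2 ↥(Cfsg.Lie.twistedG2 K (3 ^ m)), Nat.card S = 8 ∧ ∀ x ∈ S, x * x = 1 := by
  obtain ⟨R⟩ := Cfsg.Agent.Lib.helper23.exists_reeData hK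
  have haH' : (a : GL Cfsg.Lie.chevG2.Idx K) ∈
      Cfsg.Lie.chevG2.diagonalSubgroup K ⊓ Cfsg.Lie.twistedG2 K (3 ^ m) :=
    Subgroup.mem_inf.mpr ⟨haH, a.2⟩
  have ha1' : (a : GL Cfsg.Lie.chevG2.Idx K) ≠ 1 := fun h => ha1 (Subtype.ext h)
  have ha2' : (a : GL Cfsg.Lie.chevG2.Idx K) * a = 1 := congrArg Subtype.val ha2
  have hcomm := Cfsg.Agent.Lib.helper44.ree_invol_comm' R haH' ha1' ha2'
  have hne : ∀ g : Matrix.SpecialLinearGroup (Fin 2) K, (a : GL Cfsg.Lie.chevG2.Idx K) * (Cfsg.Agent.Lib.helper44.ree_phi R) g ≠ 1 := by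
    intro g h
    apply Cfsg.Agent.Lib.helper44.ree_invol_not_phi R haH' ha1' ha2' g⁻¹
    rw [map_inv]
    exact eq_inv_of_mul_eq_one_left h
  let φG : Matrix.SpecialLinearGroup (Fin 2) K →* ↥(Cfsg.Lie.twistedG2 K (3 ^ m)) :=
    (Cfsg.Agent.Lib.helper44.ree_phi R).codRestrict _ (Cfsg.Agent.Lib.helper44.ree_phi_mem R)
  have hφG : ∀ g, ((φG g : ↥(Cfsg.Lie.twistedG2 K (3 ^ m))) : GL Cfsg.Lie.chevG2.Idx K) = (Cfsg.Agent.Lib.helper44.ree_phi R) g :=
    fun g => rfl
  constructor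
  · have hφC : ∀ g, φG g ∈ Subgroup.centralizer ({a} : Set ↥(Cfsg.Lie.twistedG2 K (3 ^ m))) := by
      intro g
      rw [Subgroup.mem_centralizer_iff]
      intro y hy
      rw [Set.mem_singleton_iff] at hy
      rw [hy]
      apply Subtype.ext
      exact (hcomm g).eq
    let φC : Matrix.SpecialLinearGroup (Fin 2) K →*
        ↥(Subgroup.centralizer ({a} : Set ↥(Cfsg.Lie.twistedG2 K (3 ^ m)))) := φG.codRestrict _ hφC
    have hker : Subgroup.center (Matrix.SpecialLinearGroup (Fin 2) K) ≤ φC.ker := by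
      intro g hg
      rw [MonoidHom.mem_ker]
      apply Subtype.ext
      apply Subtype.ext
      exact Cfsg.Agent.Lib.helper44.ree_phi_center R hg
    let φP : Matrix.ProjectiveSpecialLinearGroup (Fin 2) K →*
        ↥(Subgroup.centralizer ({a} : Set ↥(Cfsg.Lie.twistedG2 K (3 ^ m)))) :=
      QuotientGroup.lift _ φC hker
    have hφP : ∀ g : Matrix.SpecialLinearGroup (Fin 2) K, φP (QuotientGroup.mk g) = φC g := fun g => rfl
    let aC : ↥(Subgroup.centralizer ({a} : Set ↥(Cfsg.Lie.twistedG2 K (3 ^ m)))) :=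
      ⟨a, Subgroup.mem_centralizer_iff.mpr (fun y hy => by rw [Set.mem_singleton_iff] at hy; rw [hy])⟩
    have haC : aC * aC = 1 := Subtype.ext ha2
    have hcen : ∀ y : ↥(Subgroup.centralizer ({a} : Set ↥(Cfsg.Lie.twistedG2 K (3 ^ m)))),
        Commute aC y := by
      intro y
      apply Subtype.ext
      exact Subgroup.mem_centralizer_iff.mp y.2 a (Set.mem_singleton a)
    let Ψ : Multiplicative (ZMod 2) × Matrix.ProjectiveSpecialLinearGroup (Fin 2) K →*
        ↥(Subgroup.centralizer ({a} : Set ↥(Cfsg.Lie.twistedG2 K (3 ^ m)))) :=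
      MonoidHom.noncommCoprod (Cfsg.Agent.Lib.helper44.invHom aC haC) φP (fun i x => by
        show Commute (aC ^ _) _
        exact (hcen _).pow_left _)
    have hΨ : ∀ i x, Ψ (i, x) = Cfsg.Agent.Lib.helper44.invHom aC haC i * φP x := fun _ _ => rfl
    refine ⟨(MulEquiv.ofBijective Ψ ⟨?_, ?_⟩).symm⟩
    · rw [injective_iff_map_eq_one]
      rintro ⟨i, x⟩ h
      obtain ⟨g, rfl⟩ := QuotientGroup.mk_surjective x
      rw [hΨ, hφP] at h
      rcases Cfsg.Agent.Lib.helper44.mulZMod2_cases i with rfl | rfl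
      · rw [map_one, one_mul] at h
        have h1 : (Cfsg.Agent.Lib.helper44.ree_phi R) g = 1 :=
          congrArg (fun y : ↥(Subgroup.centralizer ({a} : Set ↥(Cfsg.Lie.twistedG2 K (3 ^ m)))) =>
            ((y : ↥(Cfsg.Lie.twistedG2 K (3 ^ m))) : GL Cfsg.Lie.chevG2.Idx K)) h
        have h2 := (Cfsg.Agent.Lib.helper44.ree_phi_ker R h1).1
        have h3 : (QuotientGroup.mk g : Matrix.ProjectiveSpecialLinearGroup (Fin 2) K) = 1 :=
          (QuotientGroup.eq_one_iff g).mpr h2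
        rw [h3]
        rfl
      · exfalso
        rw [Cfsg.Agent.Lib.helper44.invHom_gen] at h
        exact hne g
          (congrArg (fun y : ↥(Subgroup.centralizer ({a} : Set ↥(Cfsg.Lie.twistedG2 K (3 ^ m)))) =>
            ((y : ↥(Cfsg.Lie.twistedG2 K (3 ^ m))) : GL Cfsg.Lie.chevG2.Idx K)) h)
    · intro y
      have hy := Subgroup.mem_centralizer_iff.mp y.2 a (Set.mem_singleton a)
      obtain ⟨g, hg | hg⟩ := Cfsg.Agent.Lib.helper44.ree_cent_cases R haH' ha1' ha2' (y : ↥(Cfsg.Lie.twistedG2 K (3 ^ m))).2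
        (congrArg Subtype.val hy)
      · refine ⟨(1, QuotientGroup.mk g), ?_⟩
        rw [hΨ, hφP, map_one, one_mul]
        apply Subtype.ext
        apply Subtype.ext
        exact hg.symm
      · refine ⟨(Multiplicative.ofAdd 1, QuotientGroup.mk g), ?_⟩
        rw [hΨ, hφP, Cfsg.Agent.Lib.helper44.invHom_gen]
        apply Subtype.ext
        apply Subtype.ext
        exact hg.symm
  · intro S
    obtain ⟨k, hk, hkq⟩ := Cfsg.Agent.Lib.helper44.ree_card_eight m
    have hG : Nat.card ↥(Cfsg.Lie.twistedG2 K (3 ^ m)) = 8 * k := by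
      rw [R.card_twisted, hK]
      exact hkq
    have hk0 : k ≠ 0 := by
      rintro rfl
      exact absurd hk (by decide)
    have hfin : Finite ↥(Cfsg.Lie.twistedG2 K (3 ^ m)) :=
      Nat.finite_of_card_ne_zero (by rw [hG]; omega)
    obtain ⟨b, c, hbb, hcc, hbc, hb1, hc1, hbc1⟩ := Cfsg.Agent.Lib.helper44.ree_exists_four R
    obtain ⟨E, hE8, hEexp, -, -, -, -⟩ := Cfsg.Agent.Lib.helper44.exists_elemAb_eight a (φG b) (φG c) ha2
      (Subtype.ext hbb) (Subtype.ext hcc) (Subtype.ext (hcomm b).eq) (Subtype.ext (hcomm c).eq)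
      (Subtype.ext hbc) ha1 (fun h => hb1 (congrArg Subtype.val h)) (fun h => hc1 (congrArg Subtype.val h))
      (fun h => hne b (congrArg Subtype.val h)) (fun h => hne c (congrArg Subtype.val h))
      (fun h => hbc1 (congrArg Subtype.val h))
      (fun h => hne (b * c) (by rw [map_mul]; exact congrArg Subtype.val h))
    exact Cfsg.Agent.Lib.helper44.sylow_two_of_elemAb k hk hG E hE8 hEexp S

end Cfsg.Agent.S1152
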