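import Cfsg.Statements.S1157
import Cfsg.Agent.Lib.helper44.ReeCent3
import Cfsg.Agent.Lib.helper44.ElemAb8
import Cfsg.Agent.Lib.helper44.Norm168
import Cfsg.Agent.S1116

set_option autoImplicit false
open Cfsg

namespace Cfsg.Agent.S1157

/-- In the small Ree group ²G₂(q), q = 3^(2m+1) with m ≥ 1, realised as G¹ inside the Chevalley group G₂ over the field with q elements (θ the 3^m-th power map): a Sylow 2-subgroup `S` of `G¹` satisfies `C(S) = S` and `|N(S)| = 168`. -/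
theorem result {K : Type*} [Field K] [Fintype K] {m : ℕ} (hm : 1 ≤ m) (hK : Fintype.card K = 3 ^ (2 * m + 1))
    (S : Sylow 2 ↥(Cfsg.Lie.twistedG2 K (3 ^ m))) :
    Subgroup.centralizer ((S : Subgroup ↥(Cfsg.Lie.twistedG2 K (3 ^ m))) : Set ↥(Cfsg.Lie.twistedG2 K (3 ^ m))) = S ∧
      Nat.card (Subgroup.normalizer ((S : Subgroup ↥(Cfsg.Lie.twistedG2 K (3 ^ m))) : Set ↥(Cfsg.Lie.twistedG2 K (3 ^ m)))) = 168 := by
  obtain ⟨R⟩ := Cfsg.Agent.Lib.helper23.exists_reeData hK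
  obtain ⟨a₀, haH, ha1, ha2⟩ := Cfsg.Agent.Lib.helper44.ree_exists_invol2 R
  obtain ⟨b₀, c₀, w₀, hbb, hcc, hbc, hb1, hc1, hbc1, hcent, hw3, hw1, hwb, hwc⟩ :=
    Cfsg.Agent.Lib.helper44.ree_exists_four_ext R
  have hcomm := Cfsg.Agent.Lib.helper44.ree_invol_comm' R haH ha1 ha2
  have hne : ∀ g : Matrix.SpecialLinearGroup (Fin 2) K, a₀ * (Cfsg.Agent.Lib.helper44.ree_phi R) g ≠ 1 := by
    intro g h
    apply Cfsg.Agent.Lib.helper44.ree_invol_not_phi R haH ha1 ha2 g⁻¹
    rw [map_inv]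
    exact eq_inv_of_mul_eq_one_left h
  let φG : Matrix.SpecialLinearGroup (Fin 2) K →* ↥(Cfsg.Lie.twistedG2 K (3 ^ m)) :=
    (Cfsg.Agent.Lib.helper44.ree_phi R).codRestrict _ (Cfsg.Agent.Lib.helper44.ree_phi_mem R)
  have hφG : ∀ g, ((φG g : ↥(Cfsg.Lie.twistedG2 K (3 ^ m))) : GL Cfsg.Lie.chevG2.Idx K) =
      (Cfsg.Agent.Lib.helper44.ree_phi R) g := fun g => rfl
  let a : ↥(Cfsg.Lie.twistedG2 K (3 ^ m)) := ⟨a₀, (Subgroup.mem_inf.mp haH).2⟩
  have hab : a * φG b₀ = φG b₀ * a := Subtype.ext (hcomm b₀).eq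
  have hac : a * φG c₀ = φG c₀ * a := Subtype.ext (hcomm c₀).eq
  have hbc' : φG b₀ * φG c₀ = φG c₀ * φG b₀ := Subtype.ext hbc
  obtain ⟨E, hE8, hEexp, -, hEb, hEc, hEmem⟩ := Cfsg.Agent.Lib.helper44.exists_elemAb_eight a (φG b₀) (φG c₀)
    (Subtype.ext ha2) (Subtype.ext hbb) (Subtype.ext hcc) hab hac hbc'
    (fun h => ha1 (congrArg Subtype.val h)) (fun h => hb1 (congrArg Subtype.val h))
    (fun h => hc1 (congrArg Subtype.val h))
    (fun h => hne b₀ (congrArg Subtype.val h)) (fun h => hne c₀ (congrArg Subtype.val h))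
    (fun h => hbc1 (congrArg Subtype.val h))
    (fun h => hne (b₀ * c₀) (by rw [map_mul]; exact congrArg Subtype.val h))
  obtain ⟨k, hk, hkq⟩ := Cfsg.Agent.Lib.helper44.ree_card_eight m
  have hG : Nat.card ↥(Cfsg.Lie.twistedG2 K (3 ^ m)) = 8 * k := by
    rw [R.card_twisted, hK]
    exact hkq
  have hk0 : k ≠ 0 := by
    rintro rfl
    exact absurd hk (by decide)
  have hfin : Finite ↥(Cfsg.Lie.twistedG2 K (3 ^ m)) :=
    Nat.finite_of_card_ne_zero (by rw [hG]; omega)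
  have hperf := Cfsg.Agent.S1116.result hK hm
  have hC : ∀ x : ↥(Cfsg.Lie.twistedG2 K (3 ^ m)), a * x = x * a → φG b₀ * x = x * φG b₀ →
      φG c₀ * x = x * φG c₀ → x ∈ E := by
    intro x hxa hxb hxc
    have hxa' : a₀ * (x : GL Cfsg.Lie.chevG2.Idx K) = x * a₀ := congrArg Subtype.val hxa
    have hxb' : (Cfsg.Agent.Lib.helper44.ree_phi R) b₀ * (x : GL Cfsg.Lie.chevG2.Idx K) =
        x * (Cfsg.Agent.Lib.helper44.ree_phi R) b₀ := congrArg Subtype.val hxb
    have hxc' : (Cfsg.Agent.Lib.helper44.ree_phi R) c₀ * (x : GL Cfsg.Lie.chevG2.Idx K) =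
        x * (Cfsg.Agent.Lib.helper44.ree_phi R) c₀ := congrArg Subtype.val hxc
    rw [hEmem]
    obtain ⟨g, hg | hg⟩ := Cfsg.Agent.Lib.helper44.ree_cent_cases R haH ha1 ha2 x.2 hxa'
    · rw [hg] at hxb' hxc'
      rcases hcent g hxb'.symm hxc'.symm with h | h | h | h
      · left
        exact Subtype.ext (hg.trans h)
      · right; right; left
        exact Subtype.ext (hg.trans h)
      · right; right; right; left
        exact Subtype.ext (hg.trans h)
      · right; right; right; right; right; right; left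
        exact Subtype.ext (hg.trans h)
    · have hb' : (Cfsg.Agent.Lib.helper44.ree_phi R) g * (Cfsg.Agent.Lib.helper44.ree_phi R) b₀ =
          (Cfsg.Agent.Lib.helper44.ree_phi R) b₀ * (Cfsg.Agent.Lib.helper44.ree_phi R) g := by
        rw [hg] at hxb'
        have e1 : a₀ * ((Cfsg.Agent.Lib.helper44.ree_phi R) b₀ * (Cfsg.Agent.Lib.helper44.ree_phi R) g) =
            a₀ * ((Cfsg.Agent.Lib.helper44.ree_phi R) g * (Cfsg.Agent.Lib.helper44.ree_phi R) b₀) := by
          rw [← mul_assoc, (hcomm b₀).eq, mul_assoc, hxb', mul_assoc]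
        exact (mul_left_cancel e1).symm
      have hc' : (Cfsg.Agent.Lib.helper44.ree_phi R) g * (Cfsg.Agent.Lib.helper44.ree_phi R) c₀ =
          (Cfsg.Agent.Lib.helper44.ree_phi R) c₀ * (Cfsg.Agent.Lib.helper44.ree_phi R) g := by
        rw [hg] at hxc'
        have e1 : a₀ * ((Cfsg.Agent.Lib.helper44.ree_phi R) c₀ * (Cfsg.Agent.Lib.helper44.ree_phi R) g) =
            a₀ * ((Cfsg.Agent.Lib.helper44.ree_phi R) g * (Cfsg.Agent.Lib.helper44.ree_phi R) c₀) := by
          rw [← mul_assoc, (hcomm c₀).eq, mul_assoc, hxc', mul_assoc]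
        exact (mul_left_cancel e1).symm
      rcases hcent g hb' hc' with h | h | h | h
      · right; left
        exact Subtype.ext (by rw [hg, h, mul_one])
      · right; right; right; right; left
        exact Subtype.ext (by rw [hg, h]; rfl)
      · right; right; right; right; right; left
        exact Subtype.ext (by rw [hg, h]; rfl)
      · right; right; right; right; right; right; right
        exact Subtype.ext (by rw [hg, h]; rfl)
  have hωb : φG w₀ * φG b₀ * (φG w₀)⁻¹ ∈ E := by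
    have e1 : φG w₀ * φG b₀ = φG c₀ * φG w₀ := Subtype.ext hwb
    rw [e1, mul_inv_cancel_right]
    exact hEc
  have hωc : φG w₀ * φG c₀ * (φG w₀)⁻¹ ∈ E := by
    have e1 : φG w₀ * φG c₀ = φG b₀ * φG c₀ * φG w₀ := Subtype.ext hwc
    rw [e1, mul_inv_cancel_right]
    exact mul_mem hEb hEc
  have hres := Cfsg.Agent.Lib.helper44.card_normalizer_elemAb hperf k hk hG a (φG b₀) (φG c₀) hab hac hbc'
    (fun h => ha1 (congrArg Subtype.val h)) (fun h => hb1 (congrArg Subtype.val h))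
    (fun h => hc1 (congrArg Subtype.val h))
    (fun h => hne b₀ (congrArg Subtype.val h)) (fun h => hne c₀ (congrArg Subtype.val h))
    (fun h => hbc1 (congrArg Subtype.val h))
    (fun h => hne (b₀ * c₀) (by rw [map_mul]; exact congrArg Subtype.val h))
    E hE8 hEexp hEmem hC (φG w₀) (Subtype.ext hw3) (fun h => hw1 (congrArg Subtype.val h))
    (Subtype.ext (hcomm w₀).eq) hωb hωc
  have hp2 : Fact (Nat.Prime 2) := ⟨Nat.prime_two⟩
  let P : Sylow 2 ↥(Cfsg.Lie.twistedG2 K (3 ^ m)) :=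
    Sylow.ofCard E (by rw [hE8, hG, Cfsg.Agent.Lib.helper44.factorization_two_eight_mul hk]; norm_num)
  obtain ⟨t1, t2⟩ := Cfsg.Agent.Lib.helper44.sylow_transport P S hres.1
  exact ⟨t1, t2.trans hres.2⟩

end Cfsg.Agent.S1157
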