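import Cfsg.Statements.S0325
import Cfsg.Agent.Lib.helper8.SzZass
import Cfsg.Agent.S0327

set_option autoImplicit false
open Cfsg

namespace Cfsg.Agent.S0325

/-- The Suzuki group over a field with `2^(2m+1)` elements, `m ≥ 1`, is a simple group. -/
theorem result {F : Type*} [Field F] [Fintype F] {m : ℕ} (hm : 1 ≤ m)
    (hF : Fintype.card F = 2 ^ (2 * m + 1)) :
    IsSimpleGroup (Cfsg.Sz F m) := by
  classical
  have h := Cfsg.Agent.Lib.helper8.szHyp_of_card hF
  obtain ⟨hfaith, h2t, h3, h4, h5⟩ := Cfsg.Agent.S0327.result hm hF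
  have : MulAction.IsPreprimitive (Cfsg.Sz F m) (Cfsg.suzukiOvoid F m) :=
    MulAction.isPreprimitive_of_is_two_pretransitive h2t
  have : MulAction.IsPretransitive (Cfsg.Sz F m) (Cfsg.suzukiOvoid F m) :=
    MulAction.isPretransitive_of_is_two_pretransitive (h2 := h2t)
  refine { exists_pair_ne := ?_, eq_bot_or_eq_top_of_normal := ?_ }
  · obtain ⟨g, hg, -⟩ := h4
    exact ⟨g, 1, hg⟩
  · intro N hN
    by_cases hbot : N = ⊥
    · exact Or.inl hbot
    · right
      have := hN
      have hfp : MulAction.fixedPoints N (Cfsg.suzukiOvoid F m) ≠ Set.univ := by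
        intro hall
        apply hbot
        rw [Subgroup.eq_bot_iff_forall]
        intro n hn
        apply hfaith.eq_of_smul_eq_smul
        intro a
        have ha : a ∈ MulAction.fixedPoints N (Cfsg.suzukiOvoid F m) := by rw [hall]; trivial
        rw [one_smul]
        exact ha ⟨n, hn⟩
      have htr : MulAction.IsPretransitive N (Cfsg.suzukiOvoid F m) :=
        MulAction.IsQuasiPreprimitive.isPretransitive_of_normal hfp
      obtain ⟨a, ha⟩ := h5 N hN htr
      obtain ⟨n, hn, hn1⟩ : ∃ n : N, n ∈ MulAction.stabilizer N a ∧ n ≠ 1 := by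
        by_contra hc
        push Not at hc
        exact ha ((Subgroup.eq_bot_iff_forall _).2 hc)
      obtain ⟨g, hg⟩ := MulAction.exists_smul_eq (Cfsg.Sz F m) a
        (⟨Cfsg.Agent.Lib.helper8.pinf, Cfsg.Agent.Lib.helper8.pinf_mem m⟩ : Cfsg.suzukiOvoid F m)
      have hna : n.1.1 • a.1 = a.1 := congrArg Subtype.val hn
      have hga : g.1 • a.1 = Cfsg.Agent.Lib.helper8.pinf := congrArg Subtype.val hg
      have key := Cfsg.Agent.Lib.helper8.normal_eq_top hm hF (N.map (Cfsg.Sz F m).subtype)
        (fun n' hn' g' hg' => Cfsg.Agent.Lib.helper8.map_subtype_conj_mem hN hn' hg')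
        (Subgroup.map_subtype_le N) (n₁ := g.1 * n.1.1 * g.1⁻¹)
        (Cfsg.Agent.Lib.helper8.map_subtype_conj_mem hN
          ((Cfsg.Agent.Lib.helper8.mem_map_subtype_iff n.1).2 n.2) g.2)
        (by
          intro e
          apply hn1
          apply Cfsg.Agent.Lib.helper8.sub_eq_one
          have e2 : n.1.1 = g.1⁻¹ * (g.1 * n.1.1 * g.1⁻¹) * g.1 := by group
          rw [e2, e]; group)
        (by rw [mul_smul, mul_smul, ← hga, inv_smul_smul, hna])
      rw [eq_top_iff]
      intro x _
      exact (Cfsg.Agent.Lib.helper8.mem_map_subtype_iff x).1 (key x.2)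

end Cfsg.Agent.S0325
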