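import Cfsg.Statements.S5939
import Cfsg.Agent.Lib.helper98.DicksonMax
import Cfsg.Agent.S3377

set_option autoImplicit false
open Cfsg

namespace Cfsg.Agent.S5939

open Cfsg.Agent.Lib.helper98 in
/-- Matrices `A`, `B` of `SL₂(F)` with `A³ = B⁵ = (AB)² = -1`. -/
theorem exists_gens {F : Type*} [Field F] [Fintype F] (h2 : (2 : F) ≠ 0) (h5 : (5 : F) ≠ 0)
    (hchar : ringChar F ≠ 2) (hsq : IsSquare ((5 : ℕ) : F)) :
    ∃ A B : Matrix.SpecialLinearGroup (Fin 2) F, A * A * A = negOne ∧
      B * B * B * B * B = negOne ∧ A * B * (A * B) = negOne ∧ B 1 0 ≠ 0 := by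
  obtain ⟨s, hs⟩ := hsq
  have hs' : s * s = 5 := by rw [← hs]; norm_num
  obtain ⟨c, hc⟩ : ∃ c : F, 2 * c = 1 := ⟨2⁻¹, mul_inv_cancel₀ h2⟩
  obtain ⟨τ, hτdef⟩ : ∃ τ : F, τ = c * (1 + s) := ⟨_, rfl⟩
  have hτ : τ * τ = τ + 1 := by
    rw [hτdef]; linear_combination (3 * c + c * s + 1) * hc + c ^ 2 * hs'
  have h4τ : 4 - τ * τ ≠ 0 := by
    intro h
    apply h5
    linear_combination (2 + τ) * h + (3 + τ) * hτ
  have hodd := FiniteField.odd_card_of_char_ne_two hchar
  obtain ⟨u, y, huy⟩ := FiniteField.exists_root_sum_quadratic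
    (f := Polynomial.C (1 : F) * Polynomial.X ^ 2 + Polynomial.C (-2) * Polynomial.X +
      Polynomial.C 4)
    (g := Polynomial.C (4 - τ * τ) * Polynomial.X ^ 2 + Polynomial.C (2 * τ) * Polynomial.X +
      Polynomial.C 0)
    (Polynomial.degree_quadratic one_ne_zero) (Polynomial.degree_quadratic h4τ) hodd
  simp only [Polynomial.eval_add, Polynomial.eval_mul, Polynomial.eval_C, Polynomial.eval_pow,
    Polynomial.eval_X] at huy
  obtain ⟨x, hx⟩ : ∃ x : F, x = c * (u + τ * y) := ⟨_, rfl⟩
  have hstar : x * x + y * y - τ * x * y - x + τ * y + 1 = 0 := by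
    have h4 : 4 * (x * x + y * y - τ * x * y - x + τ * y + 1) = 0 := by
      rw [hx]
      linear_combination huy +
        ((2 * c + 1) * (u + τ * y) ^ 2 - 2 * τ * (u + τ * y) * y - 2 * (u + τ * y)) * hc
    have h4' : (4 : F) ≠ 0 := by
      have : (4 : F) = 2 * 2 := by norm_num
      rw [this]; exact mul_ne_zero h2 h2
    rcases mul_eq_zero.mp h4 with h | h
    · exact absurd h h4'
    · exact h
  refine ⟨mkSL x y (y + (1 - x) * τ) (1 - x) (by linear_combination -hstar),
    mkSL 0 (-1) 1 τ (by ring), ?_, ?_, ?_, ?_⟩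
  · exact cube_of_trace_one _ (by rw [mkSL_00, mkSL_11]; ring)
  · exact pow5_of_trace_golden _ τ hτ (by rw [mkSL_00, mkSL_11]; ring)
  · exact sq_of_trace_zero _ (by
      simp only [sl2_mul_apply, mkSL_00, mkSL_01, mkSL_10, mkSL_11]; ring)
  · rw [mkSL_10]; exact one_ne_zero

open Cfsg.Agent.Lib.helper98 in
/-- The squares of `A` and `B` do not commute. -/
theorem noncomm_235 {F : Type*} [Field F] (h2 : (2 : F) ≠ 0)
    (A B : Matrix.SpecialLinearGroup (Fin 2) F) (hA3 : A * A * A = negOne)
    (hB5 : B * B * B * B * B = negOne) (hAB : A * B * (A * B) = negOne) :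
    A * A * (B * B) ≠ B * B * (A * A) := by
  intro hc
  have hnc : ∀ g : Matrix.SpecialLinearGroup (Fin 2) F, Commute negOne g := fun g => negOne_comm g
  have hAinv : A⁻¹ = negOne * (A * A) := by
    apply inv_eq_of_mul_eq_one_right
    rw [← mul_assoc, ← (hnc A).eq, mul_assoc, ← mul_assoc A A A, hA3, negOne_mul_self]
  have hBinv : B⁻¹ = negOne * (B * B * (B * B)) := by
    apply inv_eq_of_mul_eq_one_right
    rw [← mul_assoc, ← (hnc B).eq, mul_assoc]
    have : B * (B * B * (B * B)) = B * B * B * B * B := by group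
    rw [this, hB5, negOne_mul_self]
  have h1 : Commute (A * A) (B * B) := hc
  have h3 : Commute A⁻¹ (B * B) := by
    rw [hAinv]; exact (hnc (B * B)).mul_left h1
  have h4 : Commute A (B * B) := Commute.inv_left_iff.mp h3
  have h5 : Commute A B⁻¹ := by
    rw [hBinv]; exact (hnc A).symm.mul_right (h4.mul_right h4)
  have h6 : Commute A B := Commute.inv_right_iff.mp h5
  have hn2 : (negOne : Matrix.SpecialLinearGroup (Fin 2) F) ^ 2 = 1 := negOne_pow_two
  have e1 : (A * B) ^ 30 = 1 := by
    rw [h6.mul_pow]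
    have ha : A ^ 30 = 1 := by
      have h30 : A ^ 30 = (A * A * A) ^ 10 := by
        have h3' : A * A * A = A ^ 3 := by rw [pow_succ, pow_two]
        rw [h3', ← pow_mul]
      rw [h30, hA3]
      exact (pow_mul negOne 2 5).trans (by rw [hn2, one_pow])
    have hb : B ^ 30 = 1 := by
      have h30 : B ^ 30 = (B * B * B * B * B) ^ 6 := by
        have h5' : B * B * B * B * B = B ^ 5 := by
          rw [pow_succ, pow_succ, pow_succ, pow_two]
        rw [h5', ← pow_mul]
      rw [h30, hB5]
      exact (pow_mul negOne 2 3).trans (by rw [hn2, one_pow])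
    rw [ha, hb, mul_one]
  have e2 : (A * B) ^ 30 = negOne := by
    have h30 : (A * B) ^ 30 = (A * B * (A * B)) ^ 15 := by
      rw [← pow_two, ← pow_mul]
    rw [h30, hAB]
    have h15 : (negOne : Matrix.SpecialLinearGroup (Fin 2) F) ^ 15 = (negOne ^ 2) ^ 7 * negOne := by
      rw [← pow_mul, ← pow_succ]
    rw [h15, hn2, one_pow, one_mul]
  rw [e1] at e2
  exact negOne_ne_one h2 e2.symm


open Cfsg.Agent.Lib.helper98 in
/-- Let p be a prime and F a finite field of characteristic p such that either F has p elements and p ≡ ±1 (mod 10), or F has p² elements and p ≡ ±3 (mod 10). Then PSL_2(F) has a maximal subgroup isomorphic to the alternating group A_5. -/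
theorem result {F : Type*} [Field F] [Fintype F] (p : ℕ) [Fact p.Prime] [CharP F p] (h : (Fintype.card F = p ∧ (p % 10 = 1 ∨ p % 10 = 9)) ∨ (Fintype.card F = p ^ 2 ∧ (p % 10 = 3 ∨ p % 10 = 7))) : ∃ H : Subgroup (Matrix.ProjectiveSpecialLinearGroup (Fin 2) F), IsCoatom H ∧ Nonempty (H ≃* alternatingGroup (Fin 5)) := by
  classical
  have hp : p.Prime := Fact.out
  have hpm : p % 10 = 1 ∨ p % 10 = 9 ∨ p % 10 = 3 ∨ p % 10 = 7 := by
    rcases h with ⟨_, h | h⟩ | ⟨_, h | h⟩ <;> omega
  have hp2 : p ≠ 2 := by omega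
  have hp5 : p ≠ 5 := by omega
  have hp1 : p ≠ 1 := hp.one_lt.ne'
  have h2 : (2 : F) ≠ 0 := by
    intro h0
    have h0' : ((2 : ℕ) : F) = 0 := by exact_mod_cast h0
    rw [CharP.cast_eq_zero_iff F p] at h0'
    exact hp2 ((Nat.prime_dvd_prime_iff_eq hp Nat.prime_two).mp h0')
  have h5 : (5 : F) ≠ 0 := by
    intro h0
    have h0' : ((5 : ℕ) : F) = 0 := by exact_mod_cast h0
    rw [CharP.cast_eq_zero_iff F p] at h0'
    exact hp5 ((Nat.prime_dvd_prime_iff_eq hp Nat.prime_five).mp h0')
  have hchar : ringChar F ≠ 2 := by rw [ringChar.eq F p]; exact hp2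
  have hq5 : Fintype.card F % 5 = 1 ∨ Fintype.card F % 5 = 4 := by
    rcases h with ⟨hq, h | h⟩ | ⟨hq, h | h⟩
    · rw [hq]; omega
    · rw [hq]; omega
    · have h3 : p % 5 = 3 := by omega
      rw [hq, Nat.pow_mod, h3]; right; norm_num
    · have h3 : p % 5 = 2 := by omega
      rw [hq, Nat.pow_mod, h3]; right; norm_num
  have hq9 : 9 ≤ Fintype.card F := by
    rcases h with ⟨hq, h | h⟩ | ⟨hq, h | h⟩
    · rw [hq]; omega
    · rw [hq]; omega
    · have h3 : 3 ≤ p := by omega
      rw [hq]; nlinarith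
    · have h3 : 3 ≤ p := by omega
      rw [hq]; nlinarith
  obtain ⟨A, B, hA3, hB5, hAB, hB10⟩ := exists_gens h2 h5 hchar (five_isSquare hchar hq5)
  have ha3 : (QuotientGroup.mk' (Subgroup.center (Matrix.SpecialLinearGroup (Fin 2) F)) A) ^ 3
      = 1 := by
    rw [← map_pow, pow_succ, pow_two, hA3]; exact mk_negOne
  have hb5 : (QuotientGroup.mk' (Subgroup.center (Matrix.SpecialLinearGroup (Fin 2) F)) B) ^ 5
      = 1 := by
    rw [← map_pow, pow_succ, pow_succ, pow_succ, pow_two, hB5]; exact mk_negOne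
  have hab2 : (QuotientGroup.mk' (Subgroup.center (Matrix.SpecialLinearGroup (Fin 2) F)) A *
      QuotientGroup.mk' (Subgroup.center (Matrix.SpecialLinearGroup (Fin 2) F)) B) ^ 2 = 1 := by
    rw [← map_mul, ← map_pow, pow_two, hAB]; exact mk_negOne
  have hb1 : QuotientGroup.mk' (Subgroup.center (Matrix.SpecialLinearGroup (Fin 2) F)) B ≠ 1 := by
    intro h1
    rw [QuotientGroup.mk'_apply, QuotientGroup.eq_one_iff, mem_center_sl2_iff] at h1
    exact hB10 h1.2.1
  obtain ⟨e⟩ := Cfsg.Agent.S3377.result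
  have hrels : ∀ r ∈ ({FreeGroup.of (0 : Fin 2) ^ 3, FreeGroup.of (1 : Fin 2) ^ 5,
      (FreeGroup.of (0 : Fin 2) * FreeGroup.of 1) ^ 2} : Set (FreeGroup (Fin 2))),
      FreeGroup.lift ![QuotientGroup.mk' (Subgroup.center (Matrix.SpecialLinearGroup (Fin 2) F)) A,
        QuotientGroup.mk' (Subgroup.center (Matrix.SpecialLinearGroup (Fin 2) F)) B] r = 1 := by
    intro r hr
    simp only [Set.mem_insert_iff, Set.mem_singleton_iff] at hr
    rcases hr with rfl | rfl | rfl
    · rw [map_pow, FreeGroup.lift_apply_of]; exact ha3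
    · rw [map_pow, FreeGroup.lift_apply_of]; exact hb5
    · rw [map_pow, map_mul, FreeGroup.lift_apply_of, FreeGroup.lift_apply_of]; exact hab2
  obtain ⟨ψ, hψ⟩ : ∃ ψ : alternatingGroup (Fin 5) →*
      Matrix.ProjectiveSpecialLinearGroup (Fin 2) F,
      ψ = (PresentedGroup.toGroup hrels).comp e.symm.toMonoidHom := ⟨_, rfl⟩
  have hψA : ψ (e (PresentedGroup.of 0)) =
      QuotientGroup.mk' (Subgroup.center (Matrix.SpecialLinearGroup (Fin 2) F)) A := by
    rw [hψ, MonoidHom.comp_apply]
    simp only [MulEquiv.toMonoidHom_eq_coe, MonoidHom.coe_coe, MulEquiv.symm_apply_apply]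
    rw [PresentedGroup.toGroup.of]; rfl
  have hψB : ψ (e (PresentedGroup.of 1)) =
      QuotientGroup.mk' (Subgroup.center (Matrix.SpecialLinearGroup (Fin 2) F)) B := by
    rw [hψ, MonoidHom.comp_apply]
    simp only [MulEquiv.toMonoidHom_eq_coe, MonoidHom.coe_coe, MulEquiv.symm_apply_apply]
    rw [PresentedGroup.toGroup.of]; rfl
  have hinj : Function.Injective ψ := by
    rw [← MonoidHom.ker_eq_bot_iff]
    have hs : IsSimpleGroup (alternatingGroup (Fin 5)) := alternatingGroup.isSimpleGroup (by simp)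
    rcases (MonoidHom.normal_ker ψ).eq_bot_or_eq_top with hb | ht
    · exact hb
    · exfalso
      apply hb1
      rw [← hψB, ← MonoidHom.mem_ker, ht]
      exact Subgroup.mem_top _
  have hcardH : Nat.card ψ.range = 60 := by
    rw [← Nat.card_congr (MonoidHom.ofInjective hinj).toEquiv, Cfsg.Agent.S3377.card_alt]
  have hcardH' := card_comap_mk h2 ψ.range
  rw [hcardH] at hcardH'
  have hSL := Cfsg.Agent.Lib.helper7.card_SL2 (F := F) rfl
  have hPSL := Cfsg.Agent.Lib.helper7.two_mul_card_PSL2 (F := F) rfl h2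
  have hq81 : 80 ≤ Fintype.card F ^ 2 - 1 := by
    have : 81 ≤ Fintype.card F ^ 2 := by nlinarith
    omega
  have hbig : 720 ≤ Fintype.card F * (Fintype.card F ^ 2 - 1) := by nlinarith
  have hAmem : A ∈ ψ.range.comap
      (QuotientGroup.mk' (Subgroup.center (Matrix.SpecialLinearGroup (Fin 2) F))) := by
    rw [Subgroup.mem_comap, ← hψA]; exact ⟨_, rfl⟩
  have hBmem : B ∈ ψ.range.comap
      (QuotientGroup.mk' (Subgroup.center (Matrix.SpecialLinearGroup (Fin 2) F))) := by
    rw [Subgroup.mem_comap, ← hψB]; exact ⟨_, rfl⟩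
  refine ⟨ψ.range, ?_, ⟨(MonoidHom.ofInjective hinj).symm⟩⟩
  apply isCoatom_of_comap
  · intro htop
    rw [htop, Subgroup.card_top] at hcardH
    rw [hcardH] at hPSL
    omega
  · intro K hK hKtop
    rw [hcardH']
    have hnegK : negOne ∈ K := hK (negOne_mem_comap _)
    have hAK : A ∈ K := hK hAmem
    have hBK : B ∈ K := hK hBmem
    have hdvd : 120 ∣ Nat.card K := by
      have := Subgroup.card_dvd_of_le hK
      rwa [hcardH'] at this
    have hKcard : Nat.card K ≠ Fintype.card F * (Fintype.card F ^ 2 - 1) := by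
      intro hc
      apply hKtop
      rw [← Subgroup.card_eq_iff_eq_top, hc, hSL]
    by_cases hw : ∃ g ∈ K, g ≠ 1 ∧ g 0 0 + g 1 1 = 2
    · rcases wild_orders p K hnegK hw with ⟨c, hc⟩ | hW
      · exact absurd (no_borel_235 h2 A B c hA3 hB5 hAB (hc A hAK) (hc B hBK)) id
      · rcases hW with ⟨hp2', _⟩ | ⟨A₀, hA2, hAq, hA1, hn⟩ | ⟨hp3, h4, hn⟩
        · exact absurd hp2' hp2
        · exfalso
          have hq1 : 0 < Fintype.card F - 1 := by omega
          have hfull : A₀ = Fintype.card F → False := by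
            intro hA
            rw [hA] at hn
            rcases hn with hn | ⟨_, hn, _⟩
            · exact hKcard hn
            · have := Nat.le_of_dvd hq1 hn
              omega
          rcases h with ⟨hq, _⟩ | ⟨hq, h37⟩
          · rw [hq] at hAq
            rcases (Nat.dvd_prime hp).mp hAq with h1 | h1
            · omega
            · exact hfull (by rw [hq, h1])
          · rw [hq] at hAq
            obtain ⟨k, hk, hAk⟩ := (Nat.dvd_prime_pow hp).mp hAq
            interval_cases k
            · rw [pow_zero] at hAk; omega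
            · rw [pow_one] at hAk
              have h5K : 5 ∣ Nat.card K := Dvd.dvd.trans (by norm_num) hdvd
              have hm : p ^ 2 % 5 = 4 := by
                rw [Nat.pow_mod]
                rcases h37 with h3 | h3
                · have : p % 5 = 3 := by omega
                  rw [this]
                · have : p % 5 = 2 := by omega
                  rw [this]
              have h5p : ¬ 5 ∣ p := by omega
              have h5m : ¬ 5 ∣ p ^ 2 - 1 := by omega
              have h52 : ¬ (5 : ℕ) ∣ 2 := by norm_num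
              rw [hAk] at hn
              rcases hn with hn | ⟨_, _, hn⟩
              · rw [hn] at h5K
                rcases (Nat.Prime.dvd_mul Nat.prime_five).mp h5K with h' | h'
                · exact h5p h'
                · exact h5m h'
              · rw [hn] at h5K
                rcases (Nat.Prime.dvd_mul Nat.prime_five).mp h5K with h' | h'
                · rcases (Nat.Prime.dvd_mul Nat.prime_five).mp h' with h'' | h''
                  · exact h52 h''
                  · exact h5p h''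
                · exact h5m h'
            · exact hfull (by rw [hq, hAk])
        · rw [hn]
    · have htame : ∀ g ∈ K, g 0 0 + g 1 1 = 2 → g = 1 := by
        intro g hg htr
        by_contra hg1
        exact hw ⟨g, hg, hg1, htr⟩
      obtain ⟨δ, hδ⟩ := FiniteField.exists_nonsquare hchar
      rcases tame_noncomm h2 hδ K hnegK htame A B hAK hBK (noncomm_235 h2 A B hA3 hB5 hAB)
        with ⟨hc, _⟩ | ⟨hc, _⟩ | ⟨hc, _⟩
      · rw [hc] at hdvd; omega
      · rw [hc] at hdvd; omega
      · rw [hc]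

end Cfsg.Agent.S5939
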