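import Cfsg.Statements.S0265
import Mathlib

set_option autoImplicit false
open Cfsg

namespace Cfsg.Agent.S0265

open Matrix in
/-- |PGL_n(q)| = |SL_n(q)|: GL_n modulo its centre (the q-1 non-zero scalars) has the same order as the kernel of det. -/
theorem result {F : Type*} [Field F] [Fintype F] (n : ℕ) : Nat.card (Matrix.ProjGenLinGroup (Fin n) F) = Nat.card (Matrix.SpecialLinearGroup (Fin n) F) := by
  rcases Nat.eq_zero_or_pos n with rfl | hn
  · have h1 : Subsingleton (Matrix.GeneralLinearGroup (Fin 0) F) :=
      ⟨fun a b => Units.ext (Subsingleton.elim _ _)⟩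
    have h2 : Subsingleton (Matrix.SpecialLinearGroup (Fin 0) F) :=
      ⟨fun a b => Subtype.ext (Subsingleton.elim _ _)⟩
    have h3 : Subsingleton (Matrix.ProjGenLinGroup (Fin 0) F) := by
      unfold Matrix.ProjGenLinGroup
      infer_instance
    rw [Nat.card_of_subsingleton (1 : Matrix.ProjGenLinGroup (Fin 0) F),
      Nat.card_of_subsingleton (1 : Matrix.SpecialLinearGroup (Fin 0) F)]
  · have : NeZero n := ⟨hn.ne'⟩
    have hpos : 0 < Nat.card Fˣ := Nat.card_pos
    -- card GL = card PGL * card center
    have h1 : Nat.card (Matrix.GeneralLinearGroup (Fin n) F)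
        = Nat.card (Matrix.ProjGenLinGroup (Fin n) F)
          * Nat.card (Subgroup.center (Matrix.GeneralLinearGroup (Fin n) F)) :=
      Subgroup.card_eq_card_quotient_mul_card_subgroup _
    -- card center = card Fˣ
    have hinj : Function.Injective (Matrix.GeneralLinearGroup.scalar (Fin n) : Fˣ →* _) := by
      intro u v huv
      have := congrArg (fun g : Matrix.GeneralLinearGroup (Fin n) F => (g : Matrix (Fin n) (Fin n) F) 0 0) huv
      simp at this
      exact Units.ext this
    have h2 : Nat.card (Subgroup.center (Matrix.GeneralLinearGroup (Fin n) F)) = Nat.card Fˣ := by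
      rw [Matrix.GeneralLinearGroup.center_eq_range_scalar]
      exact Nat.card_congr (MonoidHom.ofInjective hinj).toEquiv.symm
    -- det surjective
    have hsurj : Function.Surjective
        (Matrix.GeneralLinearGroup.det : Matrix.GeneralLinearGroup (Fin n) F →* Fˣ) := by
      intro u
      refine ⟨Matrix.GeneralLinearGroup.mkOfDetNeZero
        (Matrix.diagonal (Function.update (1 : Fin n → F) 0 (u : F))) ?_, ?_⟩
      · rw [Matrix.det_diagonal, Finset.prod_update_of_mem (Finset.mem_univ _)]
        simp
      · apply Units.ext
        simp [Matrix.GeneralLinearGroup.mkOfDetNeZero, Matrix.det_diagonal,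
          Finset.prod_update_of_mem (Finset.mem_univ _)]
    -- card GL = card (quotient by ker) * card ker
    have h3 : Nat.card (Matrix.GeneralLinearGroup (Fin n) F)
        = Nat.card Fˣ * Nat.card (Matrix.GeneralLinearGroup.det :
            Matrix.GeneralLinearGroup (Fin n) F →* Fˣ).ker := by
      rw [Subgroup.card_eq_card_quotient_mul_card_subgroup (Matrix.GeneralLinearGroup.det :
            Matrix.GeneralLinearGroup (Fin n) F →* Fˣ).ker]
      congr 1
      exact Nat.card_congr (QuotientGroup.quotientKerEquivOfSurjective _ hsurj).toEquiv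
    -- ker det = range toGL
    have h4 : (Matrix.GeneralLinearGroup.det : Matrix.GeneralLinearGroup (Fin n) F →* Fˣ).ker
        = (Matrix.SpecialLinearGroup.toGL : Matrix.SpecialLinearGroup (Fin n) F →* _).range := by
      ext g
      rw [MonoidHom.mem_ker, MonoidHom.mem_range]
      constructor
      · intro hg
        refine ⟨⟨(g : Matrix (Fin n) (Fin n) F), ?_⟩, ?_⟩
        · have := congrArg (fun u : Fˣ => (u : F)) hg
          simpa using this
        · apply Units.ext
          rfl
      · rintro ⟨s, rfl⟩
        apply Units.ext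
        simp
    have h5 : Nat.card (Matrix.SpecialLinearGroup.toGL : Matrix.SpecialLinearGroup (Fin n) F →* _).range
        = Nat.card (Matrix.SpecialLinearGroup (Fin n) F) :=
      Nat.card_congr (MonoidHom.ofInjective Matrix.SpecialLinearGroup.toGL_injective).toEquiv.symm
    rw [h4, h5] at h3
    rw [h2, h3] at h1
    have : Nat.card Fˣ * Nat.card (Matrix.SpecialLinearGroup (Fin n) F)
        = Nat.card Fˣ * Nat.card (Matrix.ProjGenLinGroup (Fin n) F) := by
      rw [h1, mul_comm]
    exact (Nat.eq_of_mul_eq_mul_left hpos this).symm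

end Cfsg.Agent.S0265
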