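import Cfsg.Statements.S5938
import Cfsg.Agent.Lib.helper98.Quat
import Cfsg.Agent.S2530

set_option autoImplicit false
open Cfsg

namespace Cfsg.Agent.S5938

open Cfsg.Agent.Lib.helper98 in
/-- Let p be a prime with p ≡ ±1 (mod 8) and F a field with p elements. Then PSL_2(F) has a maximal subgroup isomorphic to the symmetric group S_4. -/
theorem result {F : Type*} [Field F] [Fintype F] (p : ℕ) [Fact p.Prime] (hF : Fintype.card F = p) (hp : p % 8 = 1 ∨ p % 8 = 7) : ∃ H : Subgroup (Matrix.ProjectiveSpecialLinearGroup (Fin 2) F), IsCoatom H ∧ Nonempty (H ≃* Equiv.Perm (Fin 4)) := by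
  classical
  have hpp : p.Prime := Fact.out
  have : CharP F p := charP_of_card_prime hpp hF
  have hp2 : p ≠ 2 := by omega
  have hp7 : 7 ≤ p := by
    have := hpp.two_le
    by_contra hcon
    have h1 : p ≠ 1 := hpp.one_lt.ne'
    omega
  have h2 : (2 : F) ≠ 0 := by
    intro h0
    have h0' : ((2 : ℕ) : F) = 0 := by exact_mod_cast h0
    rw [CharP.cast_eq_zero_iff F p] at h0'
    exact hp2 ((Nat.prime_dvd_prime_iff_eq hpp Nat.prime_two).mp h0')
  have hchar : ringChar F ≠ 2 := by rw [ringChar.eq F p]; exact hp2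
  obtain ⟨a, b, hab⟩ := exists_sq_add_sq hchar
  obtain ⟨c, hc⟩ : ∃ c : F, 2 * c = 1 := ⟨2⁻¹, mul_inv_cancel₀ h2⟩
  obtain ⟨s, hs⟩ : IsSquare (2 : F) := by
    rw [FiniteField.isSquare_two_iff, hF]; omega
  obtain ⟨d, hdd⟩ : ∃ d : F, d = c * s := ⟨_, rfl⟩
  have hd : 2 * (d * d) = 1 := by
    rw [hdd]; linear_combination (-2 * c * c) * hs + (2 * c + 1) * hc
  have hd0 : d ≠ 0 := by
    rintro rfl
    rw [mul_zero, mul_zero] at hd
    exact zero_ne_one hd
  have hd4 : d * d * (d * d) + d * d * (d * d) + d * d * (d * d) + d * d * (d * d) = 1 := by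
    linear_combination (2 * (d * d) + 1) * hd
  -- the generators
  obtain ⟨S1, hS1⟩ : ∃ S1 : Matrix.SpecialLinearGroup (Fin 2) F,
      S1 = qs a b hab 0 (-d) (-d) 0 (by linear_combination hd) := ⟨_, rfl⟩
  obtain ⟨S2, hS2⟩ : ∃ S2 : Matrix.SpecialLinearGroup (Fin 2) F,
      S2 = qs a b hab 0 0 d d (by linear_combination hd) := ⟨_, rfl⟩
  obtain ⟨S3, hS3⟩ : ∃ S3 : Matrix.SpecialLinearGroup (Fin 2) F,
      S3 = qs a b hab 0 d (-d) 0 (by linear_combination hd) := ⟨_, rfl⟩
  have h11 : S1 * S1 = negOne := by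
    rw [hS1]; exact sq_of_trace_zero _ (by rw [qs_trace]; ring)
  have h22 : S2 * S2 = negOne := by
    rw [hS2]; exact sq_of_trace_zero _ (by rw [qs_trace]; ring)
  have h33 : S3 * S3 = negOne := by
    rw [hS3]; exact sq_of_trace_zero _ (by rw [qs_trace]; ring)
  have e12 : S1 * S2 = qs a b hab (d * d) (-(d * d)) (d * d) (-(d * d))
      (by linear_combination hd4) := by
    rw [hS1, hS2]; exact qs_mul_eq _ _ _ (by ring) (by ring) (by ring) (by ring)
  have e23 : S2 * S3 = qs a b hab (d * d) (d * d) (d * d) (-(d * d))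
      (by linear_combination hd4) := by
    rw [hS2, hS3]; exact qs_mul_eq _ _ _ (by ring) (by ring) (by ring) (by ring)
  have e13 : S1 * S3 = qs a b hab 0 0 0 1 (by ring) := by
    rw [hS1, hS3]
    exact qs_mul_eq _ _ _ (by ring) (by ring) (by ring) (by linear_combination hd)
  have e31 : S3 * S1 = qs a b hab 0 0 0 (-1) (by ring) := by
    rw [hS1, hS3]
    exact qs_mul_eq _ _ _ (by ring) (by ring) (by ring) (by linear_combination (-1 : F) * hd)
  have e123 : S1 * S2 * S3 = qs a b hab d 0 (-d) 0 (by linear_combination hd) := by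
    rw [e12, hS3]
    exact qs_mul_eq _ _ _ (by linear_combination d * hd) (by ring)
      (by linear_combination (-d) * hd) (by ring)
  have h12 : (S1 * S2) * (S1 * S2) * (S1 * S2) = negOne := by
    rw [e12]; exact cube_of_trace_one _ (by rw [qs_trace]; exact hd)
  have h23 : (S2 * S3) * (S2 * S3) * (S2 * S3) = negOne := by
    rw [e23]; exact cube_of_trace_one _ (by rw [qs_trace]; exact hd)
  have h13 : (S1 * S3) * (S1 * S3) = negOne := by
    rw [e13]; exact sq_of_trace_zero _ (by rw [qs_trace]; ring)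
  have hanti : S1 * S3 = negOne * (S3 * S1) := by
    rw [e13, e31, negOne_eq_qs (a := a) (b := b) (h := hab)]
    exact (qs_mul_eq _ _ _ (by ring) (by ring) (by ring) (by ring)).symm
  have hnc : (S1 * S2) * (S2 * S3) ≠ (S2 * S3) * (S1 * S2) := by
    rw [e12, e23]
    intro hcomm
    have h3 := qs_comm_j h2 _ _ hcomm
    have h10 : (1 : F) = 0 := by linear_combination (-1 : F) * hd4 - 2 * h3
    exact one_ne_zero h10
  have h1234 : (S1 * S2 * S3) * (S1 * S2 * S3) * (S1 * S2 * S3) * (S1 * S2 * S3) = negOne := by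
    rw [e123]
    exact pow4_of_trace_sqrt2 _ (2 * d) (by linear_combination 2 * hd) (by rw [qs_trace])
  have e123sq : (S1 * S2 * S3) * (S1 * S2 * S3) = qs a b hab 0 0 (-1) 0 (by ring) := by
    rw [e123]
    exact qs_mul_eq _ _ _ (by ring) (by ring) (by linear_combination (-1 : F) * hd) (by ring)
  have hc12 : S1 * S2 ∉ Subgroup.center (Matrix.SpecialLinearGroup (Fin 2) F) := by
    intro hcen
    rw [e12] at hcen
    have h0 := qs_center_i h2 _ hcen
    have h10 : (1 : F) = 0 := by linear_combination (-1 : F) * hd - 2 * h0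
    exact one_ne_zero h10
  have hc123 : (S1 * S2 * S3) * (S1 * S2 * S3) ∉
      Subgroup.center (Matrix.SpecialLinearGroup (Fin 2) F) := by
    intro hcen
    rw [e123sq] at hcen
    have h0 := qs_center_j h2 _ hcen
    have h10 : (1 : F) = 0 := by linear_combination (-1 : F) * h0
    exact one_ne_zero h10
  -- relations in `PSL₂`
  obtain ⟨π, hπ⟩ : ∃ π : Matrix.SpecialLinearGroup (Fin 2) F →*
      Matrix.ProjectiveSpecialLinearGroup (Fin 2) F,
      π = QuotientGroup.mk' (Subgroup.center (Matrix.SpecialLinearGroup (Fin 2) F)) := ⟨_, rfl⟩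
  have hπneg : π negOne = 1 := by rw [hπ]; exact mk_negOne
  have hπc : ∀ g, π g = 1 → g ∈ Subgroup.center (Matrix.SpecialLinearGroup (Fin 2) F) := by
    intro g hg
    rw [hπ, QuotientGroup.mk'_apply, QuotientGroup.eq_one_iff] at hg
    exact hg
  have r11 : π S1 * π S1 = 1 := by rw [← map_mul, h11, hπneg]
  have r22 : π S2 * π S2 = 1 := by rw [← map_mul, h22, hπneg]
  have r33 : π S3 * π S3 = 1 := by rw [← map_mul, h33, hπneg]
  have r12 : (π S1 * π S2) ^ 3 = 1 := by
    rw [← map_mul, ← map_pow, pow_succ, pow_two, h12, hπneg]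
  have r23 : (π S2 * π S3) ^ 3 = 1 := by
    rw [← map_mul, ← map_pow, pow_succ, pow_two, h23, hπneg]
  have r13 : (π S1 * π S3) ^ 2 = 1 := by
    rw [← map_mul, ← map_pow, pow_two, h13, hπneg]
  have hrev : ∀ (x y : Matrix.ProjectiveSpecialLinearGroup (Fin 2) F) (n : ℕ), x * x = 1 →
      y * y = 1 → (x * y) ^ n = 1 → (y * x) ^ n = 1 := by
    intro x y n hx hy hxy
    have : y * x = (x * y)⁻¹ := by
      apply eq_inv_of_mul_eq_one_left
      rw [mul_assoc, ← mul_assoc x x y, hx, one_mul, hy]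
    rw [this, inv_pow, hxy, inv_one]
  obtain ⟨cs, hcs⟩ := Cfsg.Agent.S2530.result 3
  have hM : ∀ i j : Fin 3, (CoxeterMatrix.A 3) i j = if i = j then 1 else
      if (j : ℕ) + 1 = i ∨ (i : ℕ) + 1 = j then 3 else 2 := fun i j => rfl
  have hlift : (CoxeterMatrix.A 3).IsLiftable ![π S1, π S2, π S3] := by
    intro i j
    rw [hM]
    fin_cases i <;> fin_cases j
    · simpa using r11
    · simpa using r12
    · simpa using r13
    · simpa using hrev _ _ _ r11 r22 r12
    · simpa using r22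
    · simpa using r23
    · simpa using hrev _ _ _ r11 r33 r13
    · simpa using hrev _ _ _ r22 r33 r23
    · simpa using r33
  obtain ⟨ψ, hψ⟩ : ∃ ψ : Equiv.Perm (Fin (3 + 1)) →*
      Matrix.ProjectiveSpecialLinearGroup (Fin 2) F, ψ = cs.lift ⟨_, hlift⟩ := ⟨_, rfl⟩
  have hψ1 : ψ (cs.simple 0) = π S1 := by rw [hψ, cs.lift_apply_simple]; rfl
  have hψ2 : ψ (cs.simple 1) = π S2 := by rw [hψ, cs.lift_apply_simple]; rfl
  have hψ3 : ψ (cs.simple 2) = π S3 := by rw [hψ, cs.lift_apply_simple]; rfl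
  have hr1 : π S1 ∈ ψ.range := ⟨_, hψ1⟩
  have hr2 : π S2 ∈ ψ.range := ⟨_, hψ2⟩
  have hr3 : π S3 ∈ ψ.range := ⟨_, hψ3⟩
  have : Fact (Nat.Prime 2) := ⟨Nat.prime_two⟩
  have : Fact (Nat.Prime 3) := ⟨Nat.prime_three⟩
  have ho3 : orderOf (π S1 * π S2) = 3 := by
    refine orderOf_eq_prime r12 ?_
    intro h1
    rw [← map_mul] at h1
    exact hc12 (hπc _ h1)
  have ho4 : orderOf (π (S1 * S2 * S3)) = 2 ^ (1 + 1) := by
    refine orderOf_eq_prime_pow ?_ ?_
    · intro h1
      rw [pow_one, pow_two, ← map_mul] at h1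
      exact hc123 (hπc _ h1)
    · have : (S1 * S2 * S3) ^ 2 ^ (1 + 1) =
          (S1 * S2 * S3) * (S1 * S2 * S3) * (S1 * S2 * S3) * (S1 * S2 * S3) := by
        norm_num [pow_succ]
      rw [← map_pow, this, h1234, hπneg]
  have h12d : 12 ∣ Nat.card ψ.range := by
    have d3 : 3 ∣ Nat.card ψ.range := by
      have := Subgroup.orderOf_dvd_natCard _ (ψ.range.mul_mem hr1 hr2)
      rwa [ho3] at this
    have d4 : 4 ∣ Nat.card ψ.range := by
      have hmem : π (S1 * S2 * S3) ∈ ψ.range := by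
        rw [map_mul, map_mul]; exact ψ.range.mul_mem (ψ.range.mul_mem hr1 hr2) hr3
      have := Subgroup.orderOf_dvd_natCard _ hmem
      rwa [ho4] at this
    exact Nat.Coprime.mul_dvd_of_dvd_of_dvd (by norm_num) d4 d3
  have hcardS : Nat.card (Equiv.Perm (Fin (3 + 1))) = 24 := by
    rw [Nat.card_perm]
    simp [Nat.factorial]
  have hcen : Subgroup.center (Equiv.Perm (Fin (3 + 1))) = ⊥ := by
    rw [eq_bot_iff]
    intro σ hσ
    rw [Subgroup.mem_center_iff] at hσ
    rw [Subgroup.mem_bot]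
    by_contra hne
    obtain ⟨x, hx⟩ : ∃ x, σ x ≠ x := by
      by_contra hall
      push Not at hall
      exact hne (Equiv.ext hall)
    have key : ∀ x y : Fin (3 + 1), ∃ z : Fin (3 + 1), z ≠ x ∧ z ≠ y := by decide
    obtain ⟨z, hzx, hzy⟩ := key x (σ x)
    have h1 := congrArg (fun τ : Equiv.Perm (Fin (3 + 1)) => τ x) (hσ (Equiv.swap (σ x) z))
    simp only [Equiv.Perm.mul_apply] at h1
    rw [Equiv.swap_apply_left, Equiv.swap_apply_of_ne_of_ne (Ne.symm hx) (Ne.symm hzx)] at h1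
    exact hzy h1
  have hinj : Function.Injective ψ :=
    injective_of_center_bot ψ hcen 12 h12d (by rw [hcardS])
  have hcardH : Nat.card ψ.range = 24 := by
    rw [← Nat.card_congr (MonoidHom.ofInjective hinj).toEquiv, hcardS]
  have hcardH' := card_comap_mk h2 ψ.range
  rw [hcardH] at hcardH'
  have hSL := Cfsg.Agent.Lib.helper7.card_SL2 (F := F) hF
  have hPSL := Cfsg.Agent.Lib.helper7.two_mul_card_PSL2 (F := F) hF h2
  have hp48 : 48 ≤ p ^ 2 - 1 := by
    have : 49 ≤ p ^ 2 := by nlinarith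
    omega
  have hbig : 336 ≤ p * (p ^ 2 - 1) := by nlinarith
  have hmem1 : S1 ∈ ψ.range.comap
      (QuotientGroup.mk' (Subgroup.center (Matrix.SpecialLinearGroup (Fin 2) F))) := by
    rw [Subgroup.mem_comap, ← hπ]; exact hr1
  have hmem2 : S2 ∈ ψ.range.comap
      (QuotientGroup.mk' (Subgroup.center (Matrix.SpecialLinearGroup (Fin 2) F))) := by
    rw [Subgroup.mem_comap, ← hπ]; exact hr2
  have hmem3 : S3 ∈ ψ.range.comap
      (QuotientGroup.mk' (Subgroup.center (Matrix.SpecialLinearGroup (Fin 2) F))) := by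
    rw [Subgroup.mem_comap, ← hπ]; exact hr3
  refine ⟨ψ.range, ?_, ⟨(MonoidHom.ofInjective hinj).symm⟩⟩
  apply isCoatom_of_comap
  · intro htop
    rw [htop, Subgroup.card_top] at hcardH
    rw [hcardH] at hPSL
    omega
  · intro K hK hKtop
    rw [hcardH']
    have hnegK : negOne ∈ K := hK (negOne_mem_comap _)
    have hK1 : S1 ∈ K := hK hmem1
    have hK2 : S2 ∈ K := hK hmem2
    have hK3 : S3 ∈ K := hK hmem3
    have hdvd : 48 ∣ Nat.card K := by
      have := Subgroup.card_dvd_of_le hK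
      rwa [hcardH'] at this
    have hKcard : Nat.card K ≠ p * (p ^ 2 - 1) := by
      intro hc'
      apply hKtop
      rw [← Subgroup.card_eq_iff_eq_top, hc', hSL]
    by_cases hw : ∃ g ∈ K, g ≠ 1 ∧ g 0 0 + g 1 1 = 2
    · rcases wild_orders p K hnegK hw with ⟨c', hc'⟩ | hW'
      · exact absurd (no_borel_anticomm h2 S1 S3 c' hanti (hc' S1 hK1) (hc' S3 hK3)) id
      · rw [hF] at hW'
        rcases hW' with ⟨hp2', _⟩ | ⟨A₀, hA2, hAq, hA1, hn⟩ | ⟨hp3, h4, hn⟩
        · exact absurd hp2' hp2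
        · exfalso
          have hq1 : 0 < p - 1 := by omega
          rcases (Nat.dvd_prime hpp).mp hAq with h1 | h1
          · omega
          · rw [h1] at hn
            rcases hn with hn | ⟨_, hn, _⟩
            · exact hKcard hn
            · have := Nat.le_of_dvd hq1 hn
              omega
        · omega
    · have htame : ∀ g ∈ K, g 0 0 + g 1 1 = 2 → g = 1 := by
        intro g hg htr
        by_contra hg1
        exact hw ⟨g, hg, hg1, htr⟩
      obtain ⟨δ, hδ⟩ := FiniteField.exists_nonsquare hchar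
      rcases tame_noncomm h2 hδ K hnegK htame (S1 * S2) (S2 * S3) (K.mul_mem hK1 hK2)
        (K.mul_mem hK2 hK3) (noncomm_sq_of_cube _ _ h12 h23 hnc) with
        ⟨hc', _⟩ | ⟨hc', _⟩ | ⟨hc', _⟩
      · rw [hc'] at hdvd; omega
      · rw [hc']
      · rw [hc'] at hdvd; omega

end Cfsg.Agent.S5938
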