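import Cfsg.Statements.S3335
import Cfsg.Agent.S2530
import Mathlib

set_option autoImplicit false
open Cfsg

namespace Cfsg.Agent.S3335

/-- Carmichael's relations on `k + 1` generators. -/
def rels (k : ℕ) : Set (FreeGroup (Fin (k + 1))) :=
  {g : FreeGroup (Fin (k + 1)) | ∃ i : Fin (k + 1), i.val = 0 ∧ g = FreeGroup.of i ^ 3} ∪
   {g | ∃ i : Fin (k + 1), 1 ≤ i.val ∧ g = FreeGroup.of i ^ 2} ∪
   {g | ∃ i j : Fin (k + 1), j.val = i.val + 1 ∧ g = (FreeGroup.of i * FreeGroup.of j) ^ 3} ∪
   {g | ∃ i j : Fin (k + 1), i.val + 1 < j.val ∧ g = (FreeGroup.of i * FreeGroup.of j) ^ 2}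

/-- The generators of the presented group. -/
def x (k : ℕ) (i : Fin (k + 1)) : PresentedGroup (rels k) := PresentedGroup.of i

theorem x_cube (k : ℕ) (i : Fin (k + 1)) (hi : i.val = 0) : x k i ^ 3 = 1 := by
  have h : FreeGroup.of i ^ 3 ∈ rels k := Or.inl (Or.inl (Or.inl ⟨i, hi, rfl⟩))
  have := PresentedGroup.one_of_mem h
  rwa [map_pow] at this

theorem x_sq (k : ℕ) (i : Fin (k + 1)) (hi : 1 ≤ i.val) : x k i ^ 2 = 1 := by
  have h : FreeGroup.of i ^ 2 ∈ rels k := Or.inl (Or.inl (Or.inr ⟨i, hi, rfl⟩))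
  have := PresentedGroup.one_of_mem h
  rwa [map_pow] at this

theorem x_adj (k : ℕ) (i j : Fin (k + 1)) (hij : j.val = i.val + 1) : (x k i * x k j) ^ 3 = 1 := by
  have h : (FreeGroup.of i * FreeGroup.of j) ^ 3 ∈ rels k := Or.inl (Or.inr ⟨i, j, hij, rfl⟩)
  have := PresentedGroup.one_of_mem h
  rwa [map_pow, map_mul] at this

theorem x_far (k : ℕ) (i j : Fin (k + 1)) (hij : i.val + 1 < j.val) : (x k i * x k j) ^ 2 = 1 := by
  have h : (FreeGroup.of i * FreeGroup.of j) ^ 2 ∈ rels k := Or.inr ⟨i, j, hij, rfl⟩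
  have := PresentedGroup.one_of_mem h
  rwa [map_pow, map_mul] at this

/-- The criterion for a map on generators to respect Carmichael's relations. -/
theorem lift_ok {G : Type*} [Group G] (k : ℕ) (f : Fin (k + 1) → G)
    (h1 : ∀ i : Fin (k + 1), i.val = 0 → f i ^ 3 = 1)
    (h2 : ∀ i : Fin (k + 1), 1 ≤ i.val → f i ^ 2 = 1)
    (h3 : ∀ i j : Fin (k + 1), j.val = i.val + 1 → (f i * f j) ^ 3 = 1)
    (h4 : ∀ i j : Fin (k + 1), i.val + 1 < j.val → (f i * f j) ^ 2 = 1) :
    ∀ r ∈ rels k, FreeGroup.lift f r = 1 := by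
  rintro r (((⟨i, hi, rfl⟩ | ⟨i, hi, rfl⟩) | ⟨i, j, hij, rfl⟩) | ⟨i, j, hij, rfl⟩)
  · rw [map_pow, FreeGroup.lift_apply_of]; exact h1 i hi
  · rw [map_pow, FreeGroup.lift_apply_of]; exact h2 i hi
  · rw [map_pow, map_mul, FreeGroup.lift_apply_of, FreeGroup.lift_apply_of]; exact h3 i j hij
  · rw [map_pow, map_mul, FreeGroup.lift_apply_of, FreeGroup.lift_apply_of]; exact h4 i j hij

theorem pow_swap {G : Type*} [Group G] {a b : G} {m : ℕ} (h : (a * b) ^ m = 1) : (b * a) ^ m = 1 := by
  have e : b * a = b * (a * b) * b⁻¹ := by group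
  rw [e, conj_pow, h]
  group

theorem pow_inv_left {G : Type*} [Group G] {a b : G} {m : ℕ} (h : (a * b) ^ m = 1) (hb : b ^ 2 = 1) :
    (a⁻¹ * b) ^ m = 1 := by
  have hb' : b⁻¹ = b := by
    apply inv_eq_of_mul_eq_one_right
    rw [← pow_two]; exact hb
  have e : a⁻¹ * b = (b * a)⁻¹ := by rw [mul_inv_rev, hb']
  rw [e, inv_pow, pow_swap h, inv_one]

/-- The images of the generators under the automorphism inverting the first generator. -/
def tauFun (k : ℕ) (i : Fin (k + 1)) : PresentedGroup (rels k) :=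
  if i.val = 0 then (x k i)⁻¹ else x k i

theorem tauFun_zero (k : ℕ) (i : Fin (k + 1)) (hi : i.val = 0) : tauFun k i = (x k i)⁻¹ := if_pos hi

theorem tauFun_pos (k : ℕ) (i : Fin (k + 1)) (hi : 1 ≤ i.val) : tauFun k i = x k i :=
  if_neg (by omega)

theorem tauFun_ok (k : ℕ) : ∀ r ∈ rels k, FreeGroup.lift (tauFun k) r = 1 := by
  apply lift_ok
  · intro i hi
    rw [tauFun_zero k i hi, inv_pow, x_cube k i hi, inv_one]
  · intro i hi
    rw [tauFun_pos k i hi, x_sq k i hi]
  · intro i j hij
    rw [tauFun_pos k j (by omega)]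
    by_cases hi : i.val = 0
    · rw [tauFun_zero k i hi]
      exact pow_inv_left (x_adj k i j hij) (x_sq k j (by omega))
    · rw [tauFun_pos k i (by omega)]
      exact x_adj k i j hij
  · intro i j hij
    rw [tauFun_pos k j (by omega)]
    by_cases hi : i.val = 0
    · rw [tauFun_zero k i hi]
      exact pow_inv_left (x_far k i j hij) (x_sq k j (by omega))
    · rw [tauFun_pos k i (by omega)]
      exact x_far k i j hij

/-- The endomorphism inverting the first generator. -/
def tauHom (k : ℕ) : PresentedGroup (rels k) →* PresentedGroup (rels k) :=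
  PresentedGroup.toGroup (tauFun_ok k)

theorem tauHom_x (k : ℕ) (i : Fin (k + 1)) : tauHom k (x k i) = tauFun k i :=
  PresentedGroup.toGroup.of (tauFun_ok k)

theorem tauHom_tauHom (k : ℕ) : (tauHom k).comp (tauHom k) = MonoidHom.id _ := by
  apply PresentedGroup.ext
  intro i
  show tauHom k (tauHom k (x k i)) = x k i
  rw [tauHom_x]
  by_cases hi : i.val = 0
  · rw [tauFun_zero k i hi, map_inv, tauHom_x, tauFun_zero k i hi, inv_inv]
  · rw [tauFun_pos k i (by omega), tauHom_x, tauFun_pos k i (by omega)]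

/-- The automorphism inverting the first generator. -/
def tau (k : ℕ) : MulAut (PresentedGroup (rels k)) :=
  MonoidHom.toMulEquiv (tauHom k) (tauHom k) (tauHom_tauHom k) (tauHom_tauHom k)

theorem tau_apply (k : ℕ) (p : PresentedGroup (rels k)) : tau k p = tauHom k p := rfl

theorem tau_mul_tau (k : ℕ) : tau k * tau k = 1 := by
  ext p
  show tauHom k (tauHom k p) = p
  have := congrArg (fun f => f p) (tauHom_tauHom k)
  exact this

/-- The action of `ℤˣ` on the presented group. -/
def phi (k : ℕ) : ℤˣ →* MulAut (PresentedGroup (rels k)) :=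
  MonoidHom.mk' (fun ε => if ε = 1 then 1 else tau k) (by
    intro a b
    rcases Int.units_eq_one_or a with rfl | rfl <;> rcases Int.units_eq_one_or b with rfl | rfl
    · simp
    · simp
    · simp
    · simp [tau_mul_tau])

theorem phi_neg_one (k : ℕ) : phi k (-1) = tau k := by
  show (if (-1 : ℤˣ) = 1 then 1 else tau k) = tau k
  rw [if_neg (by decide)]

theorem tau_x (k : ℕ) (i : Fin (k + 1)) : tau k (x k i) = tauFun k i := tauHom_x k i

theorem tau_x_cube (k : ℕ) (a : Fin (k + 1)) (ha : a.val = 0) : (tau k (x k a)) ^ 3 = 1 := by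
  rw [tau_x, tauFun_zero k a ha, inv_pow, x_cube k a ha, inv_one]

theorem tau_x_sq (k : ℕ) (a : Fin (k + 1)) (ha : 1 ≤ a.val) : (tau k (x k a)) ^ 2 = 1 := by
  rw [tau_x, tauFun_pos k a ha, x_sq k a ha]

theorem tau_x_mul_x_adj (k : ℕ) (a b : Fin (k + 1)) (h : b.val + 1 = a.val ∨ a.val + 1 = b.val) :
    (tau k (x k a) * x k b) ^ 3 = 1 := by
  rw [tau_x]
  by_cases ha : a.val = 0
  · rw [tauFun_zero k a ha]
    exact pow_inv_left (x_adj k a b (by omega)) (x_sq k b (by omega))
  · rw [tauFun_pos k a (by omega)]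
    rcases h with h | h
    · exact pow_swap (x_adj k b a (by omega))
    · exact x_adj k a b (by omega)

theorem tau_x_mul_x_far (k : ℕ) (a b : Fin (k + 1)) (h1 : a.val ≠ b.val)
    (h : ¬ (b.val + 1 = a.val ∨ a.val + 1 = b.val)) :
    (tau k (x k a) * x k b) ^ 2 = 1 := by
  rw [tau_x]
  by_cases ha : a.val = 0
  · rw [tauFun_zero k a ha]
    exact pow_inv_left (x_far k a b (by omega)) (x_sq k b (by omega))
  · rw [tauFun_pos k a (by omega)]
    by_cases hab : a.val < b.val
    · exact x_far k a b (by omega)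
    · exact pow_swap (x_far k b a (by omega))

/-- The element of order two of the semidirect product. -/
def sig (k : ℕ) : PresentedGroup (rels k) ⋊[phi k] ℤˣ := SemidirectProduct.inr (-1)

theorem sig_mul_sig (k : ℕ) : sig k * sig k = 1 := by
  rw [sig, ← map_mul]
  simp

theorem sig_conj (k : ℕ) (p : PresentedGroup (rels k)) :
    sig k * SemidirectProduct.inl p * sig k = SemidirectProduct.inl (tau k p) := by
  have h := SemidirectProduct.inl_aut (φ := phi k) (-1 : ℤˣ) p
  rw [phi_neg_one] at h
  rw [h, sig]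
  simp

/-- The images of the Coxeter generators in the semidirect product. -/
def cox (k : ℕ) (j : Fin (k + 2)) : PresentedGroup (rels k) ⋊[phi k] ℤˣ :=
  if h : j.val = 0 then sig k else sig k * SemidirectProduct.inl (x k ⟨j.val - 1, by omega⟩)

theorem cox_zero (k : ℕ) (j : Fin (k + 2)) (h : j.val = 0) : cox k j = sig k := dif_pos h

theorem cox_pos (k : ℕ) (j : Fin (k + 2)) (h : 1 ≤ j.val) :
    cox k j = sig k * SemidirectProduct.inl (x k ⟨j.val - 1, by omega⟩) := dif_neg (by omega)

theorem cox_liftable (k : ℕ) : (CoxeterMatrix.A (k + 2)).IsLiftable (cox k) := by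
  intro i j
  show (cox k i * cox k j) ^ (CoxeterMatrix.A (k + 2)) i j = 1
  have hM : (CoxeterMatrix.A (k + 2)) i j =
      if i = j then 1 else (if (j : ℕ) + 1 = i ∨ (i : ℕ) + 1 = j then 3 else 2) := rfl
  rw [hM]
  by_cases hij : i = j
  · subst hij
    rw [if_pos rfl, pow_one]
    by_cases hi : i.val = 0
    · rw [cox_zero k i hi, sig_mul_sig]
    · rw [cox_pos k i (by omega)]
      have e : sig k * SemidirectProduct.inl (x k ⟨i.val - 1, by omega⟩) *
          (sig k * SemidirectProduct.inl (x k ⟨i.val - 1, by omega⟩)) =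
          (sig k * SemidirectProduct.inl (x k ⟨i.val - 1, by omega⟩) * sig k) *
            SemidirectProduct.inl (x k ⟨i.val - 1, by omega⟩) := by group
      rw [e, sig_conj, ← map_mul]
      by_cases h1 : i.val = 1
      · rw [tau_x, tauFun_zero k _ (by simp [h1]), inv_mul_cancel, map_one]
      · rw [tau_x, tauFun_pos k _ (by simp; omega), ← pow_two, x_sq k _ (by simp; omega), map_one]
  · rw [if_neg hij]
    have hij' : i.val ≠ j.val := fun h => hij (Fin.ext h)
    by_cases hi : i.val = 0
    · have hj : 1 ≤ j.val := by omega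
      rw [cox_zero k i hi, cox_pos k j hj, ← mul_assoc, sig_mul_sig, one_mul, ← map_pow]
      by_cases h : j.val = 1
      · rw [if_pos (by omega), x_cube k _ (by simp [h]), map_one]
      · rw [if_neg (by omega), x_sq k _ (by simp; omega), map_one]
    · by_cases hj : j.val = 0
      · rw [cox_pos k i (by omega), cox_zero k j hj, sig_conj, ← map_pow]
        by_cases h : i.val = 1
        · rw [if_pos (by omega), tau_x_cube k _ (by simp [h]), map_one]
        · rw [if_neg (by omega), tau_x_sq k _ (by simp; omega), map_one]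
      · rw [cox_pos k i (by omega), cox_pos k j (by omega)]
        have e : sig k * SemidirectProduct.inl (x k ⟨i.val - 1, by omega⟩) *
            (sig k * SemidirectProduct.inl (x k ⟨j.val - 1, by omega⟩)) =
            (sig k * SemidirectProduct.inl (x k ⟨i.val - 1, by omega⟩) * sig k) *
              SemidirectProduct.inl (x k ⟨j.val - 1, by omega⟩) := by group
        rw [e, sig_conj, ← map_mul, ← map_pow]
        by_cases h : (j : ℕ) + 1 = i ∨ (i : ℕ) + 1 = j
        · rw [if_pos h, tau_x_mul_x_adj k _ _ (by simp; omega), map_one]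
        · rw [if_neg h, tau_x_mul_x_far k _ _ (by simp; omega) (by simp; omega), map_one]

section final

variable (k : ℕ) (cs : CoxeterSystem (CoxeterMatrix.A (k + 2)) (Equiv.Perm (Fin (k + 3))))

theorem M_eq (i j : Fin (k + 2)) : (CoxeterMatrix.A (k + 2)) i j =
    if i = j then 1 else (if (j : ℕ) + 1 = i ∨ (i : ℕ) + 1 = j then 3 else 2) := rfl

theorem s_sq (i : Fin (k + 2)) : cs.simple i * cs.simple i = 1 := cs.simple_mul_simple_self i

theorem s_inv (i : Fin (k + 2)) : (cs.simple i)⁻¹ = cs.simple i :=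
  inv_eq_iff_mul_eq_one.mpr (s_sq k cs i)

theorem s_adj (i j : Fin (k + 2)) (h : (j : ℕ) + 1 = i ∨ (i : ℕ) + 1 = j) :
    (cs.simple i * cs.simple j) ^ 3 = 1 := by
  have h1 := cs.simple_mul_simple_pow i j
  rw [M_eq, if_neg (by intro e; subst e; omega), if_pos h] at h1
  exact h1

theorem s_far (i j : Fin (k + 2)) (hij : (i : ℕ) ≠ j) (h : ¬ ((j : ℕ) + 1 = i ∨ (i : ℕ) + 1 = j)) :
    (cs.simple i * cs.simple j) ^ 2 = 1 := by
  have h1 := cs.simple_mul_simple_pow i j
  rw [M_eq, if_neg (by intro e; subst e; exact hij rfl), if_neg h] at h1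
  exact h1

theorem s_comm (i j : Fin (k + 2)) (hij : (i : ℕ) ≠ j) (h : ¬ ((j : ℕ) + 1 = i ∨ (i : ℕ) + 1 = j)) :
    cs.simple i * cs.simple j = cs.simple j * cs.simple i :=
  Cfsg.Agent.S2530.comm_of_sq (s_sq k cs i) (s_sq k cs j) (s_far k cs i j hij h)

theorem s_comm_zero (j : Fin (k + 2)) (hj : 2 ≤ j.val) :
    cs.simple 0 * cs.simple j = cs.simple j * cs.simple 0 := by
  have h0 : ((0 : Fin (k + 2)) : ℕ) = 0 := rfl
  exact s_comm k cs 0 j (by omega) (by omega)

/-- The images of Carmichael's generators. -/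
def gen (a : Fin (k + 1)) : Equiv.Perm (Fin (k + 3)) := cs.simple 0 * cs.simple a.succ

theorem gen_mul_gen (a b : Fin (k + 1)) (hab : a.val < b.val) :
    gen k cs a * gen k cs b =
      cs.simple 0 * (cs.simple a.succ * cs.simple b.succ) * (cs.simple 0)⁻¹ := by
  have hc : cs.simple 0 * cs.simple b.succ = cs.simple b.succ * cs.simple 0 :=
    s_comm_zero k cs b.succ (by simp; omega)
  unfold gen
  rw [s_inv]
  calc cs.simple 0 * cs.simple a.succ * (cs.simple 0 * cs.simple b.succ)
      = cs.simple 0 * cs.simple a.succ * (cs.simple b.succ * cs.simple 0) := by rw [hc]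
    _ = cs.simple 0 * (cs.simple a.succ * cs.simple b.succ) * cs.simple 0 := by group

theorem gen_ok : ∀ r ∈ rels k, FreeGroup.lift (gen k cs) r = 1 := by
  apply lift_ok
  · intro i hi
    exact s_adj k cs 0 i.succ (Or.inr (by simp [hi]))
  · intro i hi
    have h0 : ((0 : Fin (k + 2)) : ℕ) = 0 := rfl
    have h1 : ((i.succ : Fin (k + 2)) : ℕ) = i.val + 1 := Fin.val_succ i
    exact s_far k cs 0 i.succ (by omega) (by omega)
  · intro i j hij
    rw [gen_mul_gen k cs i j (by omega), conj_pow, s_adj k cs i.succ j.succ (Or.inr (by simp; omega))]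
    group
  · intro i j hij
    rw [gen_mul_gen k cs i j (by omega), conj_pow,
      s_far k cs i.succ j.succ (by simp; omega) (by simp; omega)]
    group

/-- The homomorphism from the presented group to the symmetric group. -/
def psi : PresentedGroup (rels k) →* Equiv.Perm (Fin (k + 3)) :=
  PresentedGroup.toGroup (gen_ok k cs)

theorem psi_x (a : Fin (k + 1)) : psi k cs (x k a) = gen k cs a :=
  PresentedGroup.toGroup.of (gen_ok k cs)

/-- The homomorphism from `ℤˣ` to the symmetric group. -/
def rho : ℤˣ →* Equiv.Perm (Fin (k + 3)) :=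
  MonoidHom.mk' (fun ε => if ε = 1 then 1 else cs.simple 0) (by
    intro a b
    rcases Int.units_eq_one_or a with rfl | rfl <;> rcases Int.units_eq_one_or b with rfl | rfl
    · simp
    · simp
    · simp
    · simp)

theorem rho_one : rho k cs 1 = 1 := map_one _

theorem rho_neg_one : rho k cs (-1) = cs.simple 0 := by
  show (if (-1 : ℤˣ) = 1 then 1 else cs.simple 0) = cs.simple 0
  rw [if_neg (by decide)]

theorem psi_tau (p : PresentedGroup (rels k)) :
    psi k cs (tau k p) = cs.simple 0 * psi k cs p * (cs.simple 0)⁻¹ := by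
  have h : (psi k cs).comp (tauHom k) =
      (MulAut.conj (cs.simple 0)).toMonoidHom.comp (psi k cs) := by
    apply PresentedGroup.ext
    intro a
    show psi k cs (tauHom k (x k a)) = cs.simple 0 * psi k cs (x k a) * (cs.simple 0)⁻¹
    rw [tauHom_x, psi_x, s_inv]
    by_cases ha : a.val = 0
    · rw [tauFun_zero k a ha, map_inv, psi_x]
      unfold gen
      rw [mul_inv_rev, s_inv, s_inv, ← mul_assoc, s_sq, one_mul]
    · rw [tauFun_pos k a (by omega), psi_x]
      unfold gen
      rw [← mul_assoc, s_sq, one_mul]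
      exact s_comm_zero k cs a.succ (by simp; omega)
  have := congrArg (fun f => f p) h
  exact this

theorem psi_phi (g : ℤˣ) : (psi k cs).comp (phi k g).toMonoidHom =
    (MulAut.conj (rho k cs g)).toMonoidHom.comp (psi k cs) := by
  rcases Int.units_eq_one_or g with rfl | rfl
  · rw [map_one, rho_one, map_one]
    rfl
  · rw [phi_neg_one, rho_neg_one]
    apply MonoidHom.ext
    intro p
    exact psi_tau k cs p

/-- The homomorphism from the semidirect product to the symmetric group. -/
def Psi : PresentedGroup (rels k) ⋊[phi k] ℤˣ →* Equiv.Perm (Fin (k + 3)) :=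
  SemidirectProduct.lift (psi k cs) (rho k cs) (psi_phi k cs)

theorem Psi_inl (p : PresentedGroup (rels k)) : Psi k cs (SemidirectProduct.inl p) = psi k cs p :=
  SemidirectProduct.lift_inl _ _ _ p

theorem Psi_inr (g : ℤˣ) : Psi k cs (SemidirectProduct.inr g) = rho k cs g :=
  SemidirectProduct.lift_inr _ _ _ g

theorem Psi_sig : Psi k cs (sig k) = cs.simple 0 := by
  rw [sig, Psi_inr, rho_neg_one]

/-- The homomorphism from the symmetric group to the semidirect product. -/
noncomputable def Phi : Equiv.Perm (Fin (k + 3)) →* PresentedGroup (rels k) ⋊[phi k] ℤˣ :=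
  cs.lift ⟨cox k, cox_liftable k⟩

theorem Phi_simple (i : Fin (k + 2)) : Phi k cs (cs.simple i) = cox k i :=
  cs.lift_apply_simple (cox_liftable k) i

theorem Phi_Psi : (Phi k cs).comp (Psi k cs) = MonoidHom.id _ := by
  apply SemidirectProduct.hom_ext
  · apply PresentedGroup.ext
    intro a
    show Phi k cs (Psi k cs (SemidirectProduct.inl (x k a))) = SemidirectProduct.inl (x k a)
    rw [Psi_inl, psi_x]
    unfold gen
    rw [map_mul, Phi_simple, Phi_simple, cox_zero k 0 rfl, cox_pos k a.succ (by simp),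
      ← mul_assoc, sig_mul_sig, one_mul]
    congr 2
  · ext g : 1
    show Phi k cs (Psi k cs (SemidirectProduct.inr g)) = SemidirectProduct.inr g
    rw [Psi_inr]
    rcases Int.units_eq_one_or g with rfl | rfl
    · rw [rho_one, map_one, map_one]
    · rw [rho_neg_one, Phi_simple, cox_zero k 0 rfl]
      rfl

theorem Psi_Phi : (Psi k cs).comp (Phi k cs) = MonoidHom.id _ := by
  apply cs.ext_simple
  intro i
  show Psi k cs (Phi k cs (cs.simple i)) = cs.simple i
  rw [Phi_simple]
  by_cases hi : i.val = 0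
  · rw [cox_zero k i hi, Psi_sig]
    congr 1
    exact Fin.ext hi.symm
  · rw [cox_pos k i (by omega), map_mul, Psi_sig, Psi_inl, psi_x]
    unfold gen
    rw [← mul_assoc, s_sq, one_mul]
    congr 1
    apply Fin.ext
    simp
    omega

theorem psi_injective : Function.Injective (psi k cs) := by
  intro p q hpq
  have h1 : Psi k cs (SemidirectProduct.inl p) = Psi k cs (SemidirectProduct.inl q) := by
    rw [Psi_inl, Psi_inl, hpq]
  have h2 := congrArg (Phi k cs) h1
  have e : ∀ y, Phi k cs (Psi k cs y) = y := fun y => congrArg (fun f => f y) (Phi_Psi k cs)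
  rw [e, e] at h2
  exact SemidirectProduct.inl_injective h2

theorem sign_simple (hcs : ∀ i : Fin (k + 2), cs.simple i = Equiv.swap i.castSucc i.succ)
    (i : Fin (k + 2)) : Equiv.Perm.sign (cs.simple i) = -1 := by
  rw [hcs]
  exact Equiv.Perm.sign_swap (Fin.castSucc_lt_succ.ne)

theorem sign_psi (hcs : ∀ i : Fin (k + 2), cs.simple i = Equiv.swap i.castSucc i.succ)
    (p : PresentedGroup (rels k)) : Equiv.Perm.sign (psi k cs p) = 1 := by
  have h : (Equiv.Perm.sign).comp (psi k cs) = 1 := by
    apply PresentedGroup.ext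
    intro a
    show Equiv.Perm.sign (psi k cs (x k a)) = 1
    rw [psi_x]
    unfold gen
    rw [map_mul, sign_simple k cs hcs, sign_simple k cs hcs]
    simp
  exact congrArg (fun f => f p) h

theorem psi_surj (hcs : ∀ i : Fin (k + 2), cs.simple i = Equiv.swap i.castSucc i.succ)
    (g : Equiv.Perm (Fin (k + 3))) (hg : Equiv.Perm.sign g = 1) : ∃ p, psi k cs p = g := by
  have e : Psi k cs (Phi k cs g) = g := congrArg (fun f => f g) (Psi_Phi k cs)
  have e2 : Phi k cs g = SemidirectProduct.inl (Phi k cs g).left *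
      SemidirectProduct.inr (Phi k cs g).right :=
    (SemidirectProduct.inl_left_mul_inr_right _).symm
  rw [e2, map_mul, Psi_inl, Psi_inr] at e
  rcases Int.units_eq_one_or (Phi k cs g).right with h | h
  · rw [h, rho_one, mul_one] at e
    exact ⟨_, e⟩
  · exfalso
    rw [h, rho_neg_one] at e
    have h3 := congrArg Equiv.Perm.sign e
    rw [map_mul, sign_psi k cs hcs, sign_simple k cs hcs, hg] at h3
    revert h3
    decide

/-- The isomorphism. -/
noncomputable def iso (hcs : ∀ i : Fin (k + 2), cs.simple i = Equiv.swap i.castSucc i.succ) :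
    PresentedGroup (rels k) ≃* alternatingGroup (Fin (k + 3)) :=
  MulEquiv.ofBijective
    ((psi k cs).codRestrict (alternatingGroup (Fin (k + 3)))
      (fun p => Equiv.Perm.mem_alternatingGroup.mpr (sign_psi k cs hcs p)))
    ⟨fun p q hpq => psi_injective k cs (congrArg Subtype.val hpq),
     fun g => by
      obtain ⟨p, hp⟩ := psi_surj k cs hcs g.1 (Equiv.Perm.mem_alternatingGroup.mp g.2)
      exact ⟨p, Subtype.ext hp⟩⟩

end final

/-- A presentation of the alternating group of degree n ≥ 3 on generators x_1, …, x_{n−2} (indexed here by 0, …, n−3): the first generator cubes to 1, every other generator squares to 1, the product of two consecutive generators has order dividing 3, and the product of two generators at distance at least 2 has order dividing 2. The group so presented is isomorphic to the alternating group of degree n. -/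
theorem result (n : ℕ) (hn : 3 ≤ n) :
    Nonempty (PresentedGroup
      ({g : FreeGroup (Fin (n - 2)) | ∃ i : Fin (n - 2), i.val = 0 ∧ g = FreeGroup.of i ^ 3} ∪
       {g | ∃ i : Fin (n - 2), 1 ≤ i.val ∧ g = FreeGroup.of i ^ 2} ∪
       {g | ∃ i j : Fin (n - 2), j.val = i.val + 1 ∧ g = (FreeGroup.of i * FreeGroup.of j) ^ 3} ∪
       {g | ∃ i j : Fin (n - 2), i.val + 1 < j.val ∧ g = (FreeGroup.of i * FreeGroup.of j) ^ 2})
      ≃* alternatingGroup (Fin n)) := by
  obtain ⟨k, rfl⟩ : ∃ k, n = k + 3 := ⟨n - 3, by omega⟩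
  obtain ⟨cs, hcs⟩ := Cfsg.Agent.S2530.result (k + 2)
  exact ⟨iso k cs hcs⟩

end Cfsg.Agent.S3335
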