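import Cfsg.Statements.S5940
import Cfsg.Agent.Lib.helper98.Quat
import Cfsg.Agent.S3335

set_option autoImplicit false
open Cfsg

namespace Cfsg.Agent.S5940

open Cfsg.Agent.Lib.helper98 in
/-- Let p ≥ 5 be a prime with p ≡ ±3 (mod 8) and p ≢ ±1 (mod 10), and F a field with p elements. Then PSL_2(F) has a maximal subgroup isomorphic to the alternating group A_4. -/
theorem result {F : Type*} [Field F] [Fintype F] (p : ℕ) [Fact p.Prime] (hF : Fintype.card F = p) (h5 : 5 ≤ p) (h8 : p % 8 = 3 ∨ p % 8 = 5) (h10 : p % 10 ≠ 1 ∧ p % 10 ≠ 9) : ∃ H : Subgroup (Matrix.ProjectiveSpecialLinearGroup (Fin 2) F), IsCoatom H ∧ Nonempty (H ≃* alternatingGroup (Fin 4)) := by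
  classical
  have hp : p.Prime := Fact.out
  have : CharP F p := charP_of_card_prime hp hF
  have hp2 : p ≠ 2 := by omega
  have h2 : (2 : F) ≠ 0 := by
    intro h0
    have h0' : ((2 : ℕ) : F) = 0 := by exact_mod_cast h0
    rw [CharP.cast_eq_zero_iff F p] at h0'
    exact hp2 ((Nat.prime_dvd_prime_iff_eq hp Nat.prime_two).mp h0')
  have hchar : ringChar F ≠ 2 := by rw [ringChar.eq F p]; exact hp2
  obtain ⟨a, b, hab⟩ := exists_sq_add_sq hchar
  obtain ⟨c, hc⟩ : ∃ c : F, 2 * c = 1 := ⟨2⁻¹, mul_inv_cancel₀ h2⟩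
  have hc4 : c * c + c * c + c * c + c * c = 1 := by linear_combination (2 * c + 1) * hc
  have hc0 : c ≠ 0 := by
    rintro rfl
    rw [mul_zero] at hc
    exact zero_ne_one hc
  -- the generators
  obtain ⟨X, hX⟩ : ∃ X : Matrix.SpecialLinearGroup (Fin 2) F,
      X = qs a b hab 0 1 0 0 (by ring) := ⟨_, rfl⟩
  obtain ⟨Y, hY⟩ : ∃ Y : Matrix.SpecialLinearGroup (Fin 2) F,
      Y = qs a b hab c (-c) (-c) (-c) (by linear_combination hc4) := ⟨_, rfl⟩
  obtain ⟨W, hW⟩ : ∃ W : Matrix.SpecialLinearGroup (Fin 2) F,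
      W = qs a b hab 0 0 0 1 (by ring) := ⟨_, rfl⟩
  have hX2 : X * X = negOne := by
    rw [hX]; exact sq_of_trace_zero _ (by rw [qs_trace]; ring)
  have hY3 : Y * Y * Y = negOne := by
    rw [hY]; exact cube_of_trace_one _ (by rw [qs_trace]; exact hc)
  have hYX3 : (Y * X) * (Y * X) * (Y * X) = negOne := by
    rw [hY, hX]; exact cube_of_trace_one _ (by rw [qs_mul_trace]; linear_combination hc)
  have hXY3 : (X * Y) * (X * Y) * (X * Y) = negOne := by
    rw [hY, hX]; exact cube_of_trace_one _ (by rw [qs_mul_trace]; linear_combination hc)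
  have hYXW : Y * X = W * Y := by
    rw [hY, hX, hW]
    exact (qs_mul_eq (z0 := c) (z1 := c) (z2 := -c) (z3 := c) _ _ (by linear_combination hc4)
      (by ring) (by ring) (by ring) (by ring)).trans
      (qs_mul_eq _ _ _ (by ring) (by ring) (by ring) (by ring)).symm
  have hWeq : W = Y * X * Y⁻¹ := by rw [hYXW]; group
  have hXW : X * W = negOne * (W * X) := by
    have e1 : X * W = qs a b hab 0 0 (-1) 0 (by ring) := by
      rw [hX, hW]; exact qs_mul_eq _ _ _ (by ring) (by ring) (by ring) (by ring)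
    have e2 : W * X = qs a b hab 0 0 1 0 (by ring) := by
      rw [hX, hW]; exact qs_mul_eq _ _ _ (by ring) (by ring) (by ring) (by ring)
    rw [e1, e2, negOne_eq_qs (a := a) (b := b) (h := hab)]
    exact (qs_mul_eq _ _ _ (by ring) (by ring) (by ring) (by ring)).symm
  have hnc : Y * (X * Y) ≠ (X * Y) * Y := by
    have e1 : X * Y = qs a b hab c c c (-c) (by linear_combination hc4) := by
      rw [hX, hY]; exact qs_mul_eq _ _ _ (by ring) (by ring) (by ring) (by ring)
    rw [e1, hY]
    intro hcomm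
    have h3 := qs_comm_j h2 _ _ hcomm
    have h10 : (1 : F) = 0 := by linear_combination (-1 : F) * hc4 - 2 * h3
    exact one_ne_zero h10
  have hXc : X ∉ Subgroup.center (Matrix.SpecialLinearGroup (Fin 2) F) := by
    intro hcen
    rw [hX] at hcen
    exact one_ne_zero (qs_center_i h2 _ hcen)
  have hYc : Y ∉ Subgroup.center (Matrix.SpecialLinearGroup (Fin 2) F) := by
    intro hcen
    rw [hY] at hcen
    exact hc0 (neg_eq_zero.mp (qs_center_i h2 _ hcen))
  -- relations in `PSL₂`
  have hy3 : (QuotientGroup.mk' (Subgroup.center (Matrix.SpecialLinearGroup (Fin 2) F)) Y) ^ 3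
      = 1 := by
    rw [← map_pow, pow_succ, pow_two, hY3]; exact mk_negOne
  have hx2 : (QuotientGroup.mk' (Subgroup.center (Matrix.SpecialLinearGroup (Fin 2) F)) X) ^ 2
      = 1 := by
    rw [← map_pow, pow_two, hX2]; exact mk_negOne
  have hyx3 : (QuotientGroup.mk' (Subgroup.center (Matrix.SpecialLinearGroup (Fin 2) F)) Y *
      QuotientGroup.mk' (Subgroup.center (Matrix.SpecialLinearGroup (Fin 2) F)) X) ^ 3 = 1 := by
    rw [← map_mul, ← map_pow, pow_succ, pow_two, hYX3]; exact mk_negOne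
  have hx1 : QuotientGroup.mk' (Subgroup.center (Matrix.SpecialLinearGroup (Fin 2) F)) X ≠ 1 := by
    intro h1
    rw [QuotientGroup.mk'_apply, QuotientGroup.eq_one_iff] at h1
    exact hXc h1
  have hy1 : QuotientGroup.mk' (Subgroup.center (Matrix.SpecialLinearGroup (Fin 2) F)) Y ≠ 1 := by
    intro h1
    rw [QuotientGroup.mk'_apply, QuotientGroup.eq_one_iff] at h1
    exact hYc h1
  have : Fact (Nat.Prime 2) := ⟨Nat.prime_two⟩
  have : Fact (Nat.Prime 3) := ⟨Nat.prime_three⟩
  have hox : orderOf (QuotientGroup.mk' (Subgroup.center (Matrix.SpecialLinearGroup (Fin 2) F)) X)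
      = 2 := orderOf_eq_prime hx2 hx1
  have hoy : orderOf (QuotientGroup.mk' (Subgroup.center (Matrix.SpecialLinearGroup (Fin 2) F)) Y)
      = 3 := orderOf_eq_prime hy3 hy1
  -- the homomorphism from `A₄`
  obtain ⟨e⟩ := Cfsg.Agent.S3335.result 4 (by norm_num)
  have hrels : ∀ r ∈ ({g : FreeGroup (Fin (4 - 2)) | ∃ i : Fin (4 - 2), i.val = 0 ∧
        g = FreeGroup.of i ^ 3} ∪
       {g | ∃ i : Fin (4 - 2), 1 ≤ i.val ∧ g = FreeGroup.of i ^ 2} ∪
       {g | ∃ i j : Fin (4 - 2), j.val = i.val + 1 ∧ g = (FreeGroup.of i * FreeGroup.of j) ^ 3} ∪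
       {g | ∃ i j : Fin (4 - 2), i.val + 1 < j.val ∧ g = (FreeGroup.of i * FreeGroup.of j) ^ 2}),
      FreeGroup.lift (fun i : Fin (4 - 2) => if i.val = 0 then
        QuotientGroup.mk' (Subgroup.center (Matrix.SpecialLinearGroup (Fin 2) F)) Y else
        QuotientGroup.mk' (Subgroup.center (Matrix.SpecialLinearGroup (Fin 2) F)) X) r = 1 := by
    rintro r (((⟨i, hi, rfl⟩ | ⟨i, hi, rfl⟩) | ⟨i, j, hij, rfl⟩) | ⟨i, j, hij, rfl⟩)
    · rw [map_pow, FreeGroup.lift_apply_of, if_pos hi]; exact hy3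
    · rw [map_pow, FreeGroup.lift_apply_of, if_neg (by omega)]; exact hx2
    · have hi := i.isLt
      have hj := j.isLt
      rw [map_pow, map_mul, FreeGroup.lift_apply_of, FreeGroup.lift_apply_of, if_pos (by omega),
        if_neg (by omega)]
      exact hyx3
    · have hi := i.isLt
      have hj := j.isLt
      omega
  obtain ⟨ψ, hψ⟩ : ∃ ψ : alternatingGroup (Fin 4) →*
      Matrix.ProjectiveSpecialLinearGroup (Fin 2) F,
      ψ = (PresentedGroup.toGroup hrels).comp e.symm.toMonoidHom := ⟨_, rfl⟩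
  have hψY : ψ (e (PresentedGroup.of ⟨0, by norm_num⟩)) =
      QuotientGroup.mk' (Subgroup.center (Matrix.SpecialLinearGroup (Fin 2) F)) Y := by
    rw [hψ, MonoidHom.comp_apply]
    simp only [MulEquiv.toMonoidHom_eq_coe, MonoidHom.coe_coe, MulEquiv.symm_apply_apply]
    rw [PresentedGroup.toGroup.of]; rfl
  have hψX : ψ (e (PresentedGroup.of ⟨1, by norm_num⟩)) =
      QuotientGroup.mk' (Subgroup.center (Matrix.SpecialLinearGroup (Fin 2) F)) X := by
    rw [hψ, MonoidHom.comp_apply]
    simp only [MulEquiv.toMonoidHom_eq_coe, MonoidHom.coe_coe, MulEquiv.symm_apply_apply]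
    rw [PresentedGroup.toGroup.of]; rfl
  have hXr : QuotientGroup.mk' (Subgroup.center (Matrix.SpecialLinearGroup (Fin 2) F)) X ∈
      ψ.range := ⟨_, hψX⟩
  have hYr : QuotientGroup.mk' (Subgroup.center (Matrix.SpecialLinearGroup (Fin 2) F)) Y ∈
      ψ.range := ⟨_, hψY⟩
  have hcardA : Nat.card (alternatingGroup (Fin 4)) = 12 := by
    rw [nat_card_alternatingGroup]
    simp [Nat.factorial]
  have h6 : 6 ∣ Nat.card ψ.range := by
    have d2 : 2 ∣ Nat.card ψ.range := by
      have := Subgroup.orderOf_dvd_natCard _ hXr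
      rwa [hox] at this
    have d3 : 3 ∣ Nat.card ψ.range := by
      have := Subgroup.orderOf_dvd_natCard _ hYr
      rwa [hoy] at this
    exact Nat.Coprime.mul_dvd_of_dvd_of_dvd (by norm_num) d2 d3
  have hinj : Function.Injective ψ :=
    injective_of_center_bot ψ (alternatingGroup.center_eq_bot (by simp)) 6 h6 (by rw [hcardA])
  have hcardH : Nat.card ψ.range = 12 := by
    rw [← Nat.card_congr (MonoidHom.ofInjective hinj).toEquiv, hcardA]
  have hcardH' := card_comap_mk h2 ψ.range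
  rw [hcardH] at hcardH'
  have hSL := Cfsg.Agent.Lib.helper7.card_SL2 (F := F) hF
  have hPSL := Cfsg.Agent.Lib.helper7.two_mul_card_PSL2 (F := F) hF h2
  have hp24 : 24 ≤ p ^ 2 - 1 := by
    have : 25 ≤ p ^ 2 := by nlinarith
    omega
  have hbig : 120 ≤ p * (p ^ 2 - 1) := by nlinarith
  have hXmem : X ∈ ψ.range.comap
      (QuotientGroup.mk' (Subgroup.center (Matrix.SpecialLinearGroup (Fin 2) F))) := hXr
  have hYmem : Y ∈ ψ.range.comap
      (QuotientGroup.mk' (Subgroup.center (Matrix.SpecialLinearGroup (Fin 2) F))) := hYr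
  refine ⟨ψ.range, ?_, ⟨(MonoidHom.ofInjective hinj).symm⟩⟩
  apply isCoatom_of_comap
  · intro htop
    rw [htop, Subgroup.card_top] at hcardH
    rw [hcardH] at hPSL
    omega
  · intro K hK hKtop
    rw [hcardH']
    have hnegK : negOne ∈ K := hK (negOne_mem_comap _)
    have hXK : X ∈ K := hK hXmem
    have hYK : Y ∈ K := hK hYmem
    have hWK : W ∈ K := by
      rw [hWeq]; exact K.mul_mem (K.mul_mem hYK hXK) (K.inv_mem hYK)
    have hdvd : 24 ∣ Nat.card K := by
      have := Subgroup.card_dvd_of_le hK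
      rwa [hcardH'] at this
    have hKcard : Nat.card K ≠ p * (p ^ 2 - 1) := by
      intro hc'
      apply hKtop
      rw [← Subgroup.card_eq_iff_eq_top, hc', hSL]
    have hKdvd : Nat.card K ∣ p * (p ^ 2 - 1) := by
      rw [← hSL]; exact Subgroup.card_subgroup_dvd_card K
    by_cases hw : ∃ g ∈ K, g ≠ 1 ∧ g 0 0 + g 1 1 = 2
    · rcases wild_orders p K hnegK hw with ⟨c', hc'⟩ | hW'
      · exact absurd (no_borel_anticomm h2 X W c' hXW (hc' X hXK) (hc' W hWK)) id
      · rw [hF] at hW'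
        rcases hW' with ⟨hp2', _⟩ | ⟨A₀, hA2, hAq, hA1, hn⟩ | ⟨hp3, h4, hn⟩
        · exact absurd hp2' hp2
        · exfalso
          have hq1 : 0 < p - 1 := by omega
          rcases (Nat.dvd_prime hp).mp hAq with h1 | h1
          · omega
          · rw [h1] at hn
            rcases hn with hn | ⟨_, hn, _⟩
            · exact hKcard hn
            · have := Nat.le_of_dvd hq1 hn
              omega
        · omega
    · have htame : ∀ g ∈ K, g 0 0 + g 1 1 = 2 → g = 1 := by
        intro g hg htr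
        by_contra hg1
        exact hw ⟨g, hg, hg1, htr⟩
      obtain ⟨δ, hδ⟩ := FiniteField.exists_nonsquare hchar
      rcases tame_noncomm h2 hδ K hnegK htame Y (X * Y) hYK (K.mul_mem hXK hYK)
        (noncomm_sq_of_cube Y (X * Y) hY3 hXY3 hnc) with ⟨hc', _⟩ | ⟨hc', _⟩ | ⟨hc', _⟩
      · rw [hc']
      · exfalso
        rw [hc'] at hKdvd
        have h16 : (16 : ℕ) ∣ p * (p ^ 2 - 1) := Dvd.dvd.trans (by norm_num) hKdvd
        have hcases : p % 16 = 3 ∨ p % 16 = 5 ∨ p % 16 = 11 ∨ p % 16 = 13 := by omega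
        have hm : p ^ 2 % 16 = 9 := by
          rw [Nat.pow_mod]
          rcases hcases with h | h | h | h <;> rw [h]
        have h1 : (p ^ 2 - 1) % 16 = 8 := by omega
        have h0 := Nat.mod_eq_zero_of_dvd h16
        rw [Nat.mul_mod, h1] at h0
        rcases hcases with h | h | h | h <;> rw [h] at h0 <;> omega
      · exfalso
        rw [hc'] at hKdvd
        by_cases hp5 : p = 5
        · apply hKcard
          rw [hc', hp5]
          norm_num
        · have h5 : (5 : ℕ) ∣ p * (p ^ 2 - 1) := Dvd.dvd.trans (by norm_num) hKdvd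
          have h5p : ¬ 5 ∣ p := by
            intro hd
            exact hp5 ((Nat.prime_dvd_prime_iff_eq Nat.prime_five hp).mp hd).symm
          have hcases : p % 5 = 2 ∨ p % 5 = 3 := by omega
          have hm : p ^ 2 % 5 = 4 := by
            rw [Nat.pow_mod]
            rcases hcases with h | h <;> rw [h]
          have h5m : ¬ 5 ∣ p ^ 2 - 1 := by omega
          rcases (Nat.Prime.dvd_mul Nat.prime_five).mp h5 with h' | h'
          · exact h5p h'
          · exact h5m h'

end Cfsg.Agent.S5940
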