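import Cfsg.Statements.S5892
import Cfsg.Agent.Lib.helper98.MaxOddE

set_option autoImplicit false
open Cfsg

namespace Cfsg.Agent.S5892

/-- Let F be a finite field of odd order q ≥ 5 and characteristic p, and let M be a maximal subgroup of PSL₂(F). Then one of the following holds: |M| = q(q − 1)/2 (the stabiliser of a point of the projective line); q ≥ 13 and M is dihedral of order q − 1; q ∉ {7, 9} and M is dihedral of order q + 1; q = q₀² and M ≅ PGL₂(F₀) with |F₀| = q₀; q = q₀^r for an odd prime r and M ≅ PSL₂(F₀) with |F₀| = q₀; q ≡ ±1 (mod 10) with q = p or q = p², p ≡ ±3 (mod 10), and M ≅ A₅; q = p ≡ ±3 (mod 8), q ≢ ±1 (mod 10), and M ≅ A₄; or q = p ≡ ±1 (mod 8) and M ≅ S₄. -/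
theorem result {F : Type*} [Field F] [Fintype F] (p : ℕ)
    [Fact p.Prime] [CharP F p] (hodd : Odd (Fintype.card F)) (h5 : 5 ≤ Fintype.card F)
    (M : Subgroup (Matrix.ProjectiveSpecialLinearGroup (Fin 2) F)) (hM : IsCoatom M) :
    2 * Nat.card M = Fintype.card F * (Fintype.card F - 1) ∨
    (13 ≤ Fintype.card F ∧ (∃ k : ℕ, 2 * k = Fintype.card F - 1 ∧ Nonempty (M ≃* DihedralGroup k))) ∨
    (Fintype.card F ≠ 7 ∧ Fintype.card F ≠ 9 ∧ (∃ k : ℕ, 2 * k = Fintype.card F + 1 ∧ Nonempty (M ≃* DihedralGroup k))) ∨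
    (∃ (F₀ : Type) (_ : Field F₀) (_ : Fintype F₀), Fintype.card F = Fintype.card F₀ ^ 2 ∧
        Nonempty (M ≃* Matrix.ProjGenLinGroup (Fin 2) F₀)) ∨
    (∃ (F₀ : Type) (_ : Field F₀) (_ : Fintype F₀) (r : ℕ), r.Prime ∧ Odd r ∧ Fintype.card F = Fintype.card F₀ ^ r ∧
        Nonempty (M ≃* Matrix.ProjectiveSpecialLinearGroup (Fin 2) F₀)) ∨
    ((Fintype.card F % 10 = 1 ∨ Fintype.card F % 10 = 9) ∧
        (Fintype.card F = p ∨ (Fintype.card F = p ^ 2 ∧ (p % 10 = 3 ∨ p % 10 = 7))) ∧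
        Nonempty (M ≃* alternatingGroup (Fin 5))) ∨
    (Fintype.card F = p ∧ (p % 8 = 3 ∨ p % 8 = 5) ∧ ¬ (p % 10 = 1 ∨ p % 10 = 9) ∧
        Nonempty (M ≃* alternatingGroup (Fin 4))) ∨
    (Fintype.card F = p ∧ (p % 8 = 1 ∨ p % 8 = 7) ∧ Nonempty (M ≃* Equiv.Perm (Fin 4))) := by
  classical
  have hp := (Fact.out : p.Prime)
  have h2 : (2 : F) ≠ 0 := by
    intro h0
    have h0' : ((2 : ℕ) : F) = 0 := by exact_mod_cast h0
    rw [CharP.cast_eq_zero_iff F p] at h0'
    have hp2 : p = 2 := (Nat.prime_dvd_prime_iff_eq hp Nat.prime_two).mp h0'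
    have hr : ringChar F = 2 := by rw [ringChar.eq F p]; exact hp2
    have h3 := FiniteField.even_card_of_char_two hr
    have h4 := Nat.odd_iff.mp hodd
    omega
  obtain ⟨π, hπ⟩ : ∃ π : Matrix.SpecialLinearGroup (Fin 2) F →*
      Matrix.ProjectiveSpecialLinearGroup (Fin 2) F,
      π = QuotientGroup.mk' (Subgroup.center (Matrix.SpecialLinearGroup (Fin 2) F)) := ⟨_, rfl⟩
  have hsurj : Function.Surjective π := by rw [hπ]; exact QuotientGroup.mk'_surjective _
  have hker : π.ker = Subgroup.center (Matrix.SpecialLinearGroup (Fin 2) F) := by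
    rw [hπ]; exact QuotientGroup.ker_mk' _
  obtain ⟨K, hKdef⟩ : ∃ K, K = M.comap π := ⟨_, rfl⟩
  have hmap : K.map π = M := by
    rw [hKdef]; exact Subgroup.map_comap_eq_self_of_surjective hsurj M
  have hkerK : π.ker ≤ K := by
    rw [hKdef]; exact Subgroup.ker_le_comap π M
  have hZK : Subgroup.center (Matrix.SpecialLinearGroup (Fin 2) F) ≤ K := by
    rw [← hker]; exact hkerK
  have hK : IsCoatom K := by
    constructor
    · intro h
      apply hM.1
      rw [← hmap, h]
      exact Subgroup.map_top_of_surjective π hsurj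
    · intro L hL
      have hkerL : π.ker ≤ L := hkerK.trans hL.le
      have h1 : M ≤ L.map π := by rw [← hmap]; exact Subgroup.map_mono hL.le
      have h2' : M ≠ L.map π := by
        intro h
        apply hL.ne
        have h3 : L = (L.map π).comap π := (Subgroup.comap_map_eq_self hkerL).symm
        rw [h3, ← h, hKdef]
      have h3 := hM.2 _ (lt_of_le_of_ne h1 h2')
      rw [← Subgroup.comap_map_eq_self hkerL, h3, Subgroup.comap_top]
  have h := Cfsg.Agent.Lib.helper98.maximal_odd p h2 h5 K hK hZK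
  rw [← hπ, hmap] at h
  exact h

end Cfsg.Agent.S5892
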