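import Cfsg.Statements.S2469
import Cfsg.Agent.Lib.helper64.SpPGMain

set_option autoImplicit false
open Cfsg

namespace Cfsg.Agent.S2469


open Polynomial Matrix Cfsg.Agent.Lib.helper64.SpBasic Cfsg.Agent.Lib.helper64.SpPG
  Cfsg.Agent.Lib.helper64.SpPGMain Cfsg.Agent.Lib.helper64.PGBasic
  Cfsg.Agent.Lib.helper64.PGBlocks

section

variable {F : Type*} [Field F] [Fintype F]

/-- a datum of dimension `2 η ≤ 2 n` gives an element of `PSp n F` -/
theorem mem_range_of_block (n : ℕ) (hn : 1 ≤ n) {ι : Type*} [Fintype ι] [DecidableEq ι] (η : ℕ)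
    (hcard : Fintype.card ι = η + η) (hηn : η ≤ n) {Ω Ω' h : Matrix ι ι F}
    (D : IsSpDatum Ω Ω' h) (m : ℕ) (hm : ∀ j : ℕ, (h ^ j = 1 ∨ h ^ j = -1) → m ∣ j) :
    m ∈ Set.range (orderOf : Cfsg.PSp n F → ℕ) := by
  obtain ⟨t, ht⟩ : ∃ t : ℕ, n = η + t := ⟨n - η, by omega⟩
  have D₂ := isSpDatum_J (F := F) t 0 (Matrix.transpose_zero)
  have D' := D.sum D₂
  apply IsSpDatum.mem_range (n := n) hn ?_ D' m
  · intro j hj
    exact hm j (sum_pow_pm _ _ j hj).1
  · simp only [Fintype.card_sum, Fintype.card_fin, hcard]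
    omega

/-- a prime divisor `s` of the group order has `η(l) ≤ n` -/
theorem eta_le (p : ℕ) [hp : Fact p.Prime] [CharP F p] (n : ℕ) (hn : 1 ≤ n) (s : ℕ)
    (hs : s.Prime) (hs2 : s ≠ 2) (hsp : s ≠ p) (l ηl : ℕ)
    (hl : l = orderOf ((Fintype.card F : ℕ) : ZMod s))
    (hηl : (Odd l ∧ ηl = l) ∨ (Even l ∧ 2 * ηl = l))
    (hsG : s ∣ Nat.card (Cfsg.PSp n F)) : ηl ≤ n := by
  classical
  have hpp : p.Prime := hp.out
  have : Fact s.Prime := ⟨hs⟩
  have : Nonempty (Fin n ⊕ Fin n) := ⟨Sum.inl ⟨0, by omega⟩⟩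
  obtain ⟨x, hx⟩ := exists_prime_orderOf_dvd_card' s hsG
  obtain ⟨A, hAJ, hA⟩ := exists_pure_sp n hn x
    (Or.inl (by rw [hx]; exact hs.odd_of_ne_two hs2))
  rw [hx] at hA
  have hsF : ((s : ℕ) : F) ≠ 0 := by
    rw [Ne, CharP.cast_eq_zero_iff F p]
    intro h
    exact hsp ((Nat.prime_dvd_prime_iff_eq hpp hs).1 h).symm
  have hAs : A ^ s = 1 := (hA s).2 (dvd_refl _)
  have hA1 : A ^ 1 ≠ 1 := by
    intro h
    exact hs.one_lt.ne' (Nat.dvd_one.1 ((hA 1).1 h))
  obtain ⟨f, hf, hfμ, hfs, hf1⟩ := exists_factor_of_order A s hsF hAs 1 hA1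
  rw [pow_one] at hf1
  obtain ⟨W, hWμ, -, -, hWd, -⟩ := exists_weight (J (Fin n) F) (-J (Fin n) F) (skewInv_J n) A
    hAJ s hs.pos hAs s hs hs2 l ηl hl hηl f hf hfμ hfs hf1
  have hμ0 : minpoly F A ≠ 0 := (minpoly.monic (Matrix.isIntegral A)).ne_zero
  have h1 := Polynomial.natDegree_le_of_dvd hWμ hμ0
  have h2 := natDegree_minpoly_le_card A
  rw [Fintype.card_sum, Fintype.card_fin] at h2
  omega

/-- `r s` divides `q ^ η(l) ∓ 1` when `l / k` is an odd integer -/
theorem dvd_pm_prod (r s : ℕ) (hr : r.Prime) (hs : s.Prime) (hrs : r ≠ s) (k l ηk ηl : ℕ)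
    (hk : k = orderOf ((Fintype.card F : ℕ) : ZMod r))
    (hl : l = orderOf ((Fintype.card F : ℕ) : ZMod s))
    (hηk : (Odd k ∧ ηk = k) ∨ (Even k ∧ 2 * ηk = k))
    (hηl : (Odd l ∧ ηl = l) ∨ (Even l ∧ 2 * ηl = l)) (hk0 : 0 < k) (hl0 : 0 < l) (t : ℕ)
    (ht : Odd t) (hlt : l = k * t) :
    r * s ∣ Fintype.card F ^ ηl - 1 ∨ r * s ∣ Fintype.card F ^ ηl + 1 := by
  have hq1 : 1 ≤ Fintype.card F := Fintype.card_pos
  have hcop : Nat.Coprime r s := (Nat.coprime_primes hr hs).2 hrs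
  rcases hηl with ⟨hlodd, hηl⟩ | ⟨hleven, hηl⟩
  · left
    rw [hηl]
    apply Nat.Coprime.mul_dvd_of_dvd_of_dvd hcop
    · exact dvd_of_ord_dvd hq1 (by rw [← hk, hlt]; exact dvd_mul_right k t)
    · exact dvd_of_ord_dvd hq1 (by rw [← hl])
  · right
    have hkeven : Even k := by
      rw [hlt] at hleven
      rcases Nat.even_mul.1 hleven with h | h
      · exact h
      · exact absurd h (Nat.not_even_iff_odd.2 ht)
    have hηk' : 2 * ηk = k := by
      rcases hηk with ⟨ho, -⟩ | ⟨-, h⟩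
      · exact absurd hkeven (Nat.not_even_iff_odd.2 ho)
      · exact h
    have hηlk : ηl = ηk * t := by
      have : 2 * ηl = 2 * (ηk * t) := by rw [hηl, hlt, ← hηk']; ring
      omega
    apply Nat.Coprime.mul_dvd_of_dvd_of_dvd hcop
    · have h1 : r ∣ Fintype.card F ^ ηk + 1 := by
        rcases dvd_pm r hr k ηk hk (Or.inr ⟨hkeven, hηk'⟩) with h | h
        · exfalso
          have h2 := ord_dvd_of_dvd hq1 h
          rw [← hk] at h2
          have := Nat.le_of_dvd (by omega) h2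
          omega
        · exact h
      have h2 := Odd.nat_add_dvd_pow_add_pow (Fintype.card F ^ ηk) 1 ht
      rw [one_pow, ← pow_mul, ← hηlk] at h2
      exact h1.trans h2
    · rcases dvd_pm s hs l ηl hl (Or.inr ⟨hleven, hηl⟩) with h | h
      · exfalso
        have h2 := ord_dvd_of_dvd hq1 h
        rw [← hl] at h2
        have := Nat.le_of_dvd (by omega) h2
        omega
      · exact h

/-- a symplectic matrix of order `r s` forces `η(k) + η(l) ≤ n` or `l / k` odd -/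
theorem analysis (p : ℕ) [hp : Fact p.Prime] [CharP F p] (n : ℕ) (hn : 1 ≤ n) (r s : ℕ)
    (hr : r.Prime) (hs : s.Prime) (hr2 : r ≠ 2) (hs2 : s ≠ 2) (hrp : r ≠ p) (hsp : s ≠ p)
    (hrs : r ≠ s) (k l ηk ηl : ℕ) (hk : k = orderOf ((Fintype.card F : ℕ) : ZMod r))
    (hl : l = orderOf ((Fintype.card F : ℕ) : ZMod s))
    (hηk : (Odd k ∧ ηk = k) ∨ (Even k ∧ 2 * ηk = k))
    (hηl : (Odd l ∧ ηl = l) ∨ (Even l ∧ 2 * ηl = l)) (hkl : ηk ≤ ηl) (hk0 : 0 < k)
    (hl0 : 0 < l) (A : Matrix (Fin n ⊕ Fin n) (Fin n ⊕ Fin n) F)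
    (hAJ : Aᵀ * J (Fin n) F * A = J (Fin n) F) (hA : ∀ j : ℕ, A ^ j = 1 ↔ r * s ∣ j) :
    ηk + ηl ≤ n ∨ ∃ t : ℕ, Odd t ∧ l = k * t := by
  classical
  have hpp : p.Prime := hp.out
  have : Nonempty (Fin n ⊕ Fin n) := ⟨Sum.inl ⟨0, by omega⟩⟩
  have hrF : ((r : ℕ) : F) ≠ 0 := by
    rw [Ne, CharP.cast_eq_zero_iff F p]
    intro h
    exact hrp ((Nat.prime_dvd_prime_iff_eq hpp hr).1 h).symm
  have hsF : ((s : ℕ) : F) ≠ 0 := by
    rw [Ne, CharP.cast_eq_zero_iff F p]
    intro h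
    exact hsp ((Nat.prime_dvd_prime_iff_eq hpp hs).1 h).symm
  have hrsF : ((r * s : ℕ) : F) ≠ 0 := by rw [Nat.cast_mul]; exact mul_ne_zero hrF hsF
  have hArs : A ^ (r * s) = 1 := (hA _).2 (dvd_refl _)
  have hrs0 : 0 < r * s := Nat.mul_pos hr.pos hs.pos
  have hAs : A ^ s ≠ 1 := by
    intro h
    have h1 : r * s ∣ 1 * s := by rw [one_mul]; exact (hA s).1 h
    exact hr.one_lt.ne' (Nat.dvd_one.1 (Nat.dvd_of_mul_dvd_mul_right hs.pos h1))
  have hAr : A ^ r ≠ 1 := by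
    intro h
    have h1 : r * s ∣ r * 1 := by rw [mul_one]; exact (hA r).1 h
    exact hs.one_lt.ne' (Nat.dvd_one.1 (Nat.dvd_of_mul_dvd_mul_left hr.pos h1))
  have hμ0 : minpoly F A ≠ 0 := (minpoly.monic (Matrix.isIntegral A)).ne_zero
  have hμdeg : (minpoly F A).natDegree ≤ n + n := by
    have := natDegree_minpoly_le_card A
    rwa [Fintype.card_sum, Fintype.card_fin] at this
  have hηl_le : ηl ≤ l := by
    rcases hηl with ⟨-, h⟩ | ⟨-, h⟩ <;> omega
  have hηk_le : ηk ≤ k := by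
    rcases hηk with ⟨-, h⟩ | ⟨-, h⟩ <;> omega
  obtain ⟨f₁, hf₁, hf₁μ, hf₁N, hf₁s⟩ := exists_factor_of_order A (r * s) hrsF hArs s hAs
  obtain ⟨f₂, hf₂, hf₂μ, hf₂N, hf₂r⟩ := exists_factor_of_order A (r * s) hrsF hArs r hAr
  -- a factor with roots of order `r s`
  have caseA : ∀ f : F[X], Irreducible f → f ∣ minpoly F A → f ∣ X ^ (r * s) - 1 →
      ¬ f ∣ X ^ s - 1 → ¬ f ∣ X ^ r - 1 → ηk + ηl ≤ n ∨ ∃ t : ℕ, Odd t ∧ l = k * t := by
    intro f hf hfμ hfN hfs hfr
    have hkd : k ∣ f.natDegree := by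
      have := ord_dvd_of_factor f hf r hr (r * s) s hfN hfs (by rw [mul_comm])
      rwa [← hk] at this
    have hld : l ∣ f.natDegree := by
      have := ord_dvd_of_factor f hf s hs (r * s) r hfN hfr (dvd_refl _)
      rwa [← hl] at this
    have hd0 := hf.natDegree_pos
    have hdμ : f.natDegree ≤ n + n := (Polynomial.natDegree_le_of_dvd hfμ hμ0).trans hμdeg
    have hdich : 2 * l ≤ f.natDegree ∨ k ∣ l := by
      obtain ⟨c, hc⟩ := hld
      rcases Nat.lt_or_ge c 2 with h | h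
      · right
        have hc1 : c = 1 := by
          rcases Nat.eq_zero_or_pos c with h0 | h0
          · rw [h0, mul_zero] at hc
            omega
          · omega
        rw [hc1, mul_one] at hc
        rw [← hc]
        exact hkd
      · left
        rw [hc, mul_comm]
        exact Nat.mul_le_mul_left l h
    by_cases hrev : f ∣ f.reverse
    · obtain ⟨i, hi⟩ := exists_frob_inv f hf (r * s) hrs0 hfN hrev
      have hρN : (AdjoinRoot.root f) ^ (r * s) = 1 := root_pow_eq_one_of_dvd f (r * s) hfN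
      have hoN : orderOf (AdjoinRoot.root f) ∣ r * s := orderOf_dvd_of_pow_eq_one hρN
      have hoi : orderOf (AdjoinRoot.root f) ∣ Fintype.card F ^ i + 1 :=
        orderOf_dvd_of_pow_eq_one hi
      have hos : ¬ orderOf (AdjoinRoot.root f) ∣ s := fun h =>
        hfs (dvd_of_root_pow_eq_one f s (orderOf_dvd_iff_pow_eq_one.1 h))
      have hor : ¬ orderOf (AdjoinRoot.root f) ∣ r := fun h =>
        hfr (dvd_of_root_pow_eq_one f r (orderOf_dvd_iff_pow_eq_one.1 h))
      have hro : r ∣ orderOf (AdjoinRoot.root f) := by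
        by_contra h
        have hc : Nat.Coprime (orderOf (AdjoinRoot.root f)) r :=
          ((Nat.Prime.coprime_iff_not_dvd hr).2 h).symm
        exact hos (hc.dvd_of_dvd_mul_left hoN)
      have hso : s ∣ orderOf (AdjoinRoot.root f) := by
        by_contra h
        have hc : Nat.Coprime (orderOf (AdjoinRoot.root f)) s :=
          ((Nat.Prime.coprime_iff_not_dvd hs).2 h).symm
        exact hor (hc.dvd_of_dvd_mul_right hoN)
      obtain ⟨hk1, hk2⟩ := ord_of_dvd_add_one hr hr2 (hro.trans hoi)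
      obtain ⟨hl1, hl2⟩ := ord_of_dvd_add_one hs hs2 (hso.trans hoi)
      rw [← hk] at hk1 hk2
      rw [← hl] at hl1 hl2
      rcases hdich with h2l | hkl'
      · left
        have hleven : Even l := by
          by_contra hodd
          rw [Nat.not_even_iff_odd] at hodd
          exact hl2 (Nat.Coprime.dvd_of_dvd_mul_left (Nat.coprime_two_right.2 hodd) hl1)
        have h2η : 2 * ηl = l := by
          rcases hηl with ⟨ho, -⟩ | ⟨-, h⟩
          · exact absurd hleven (Nat.not_even_iff_odd.2 ho)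
          · exact h
        omega
      · right
        obtain ⟨t, ht⟩ := hkl'
        refine ⟨t, ?_, ht⟩
        by_contra heven
        rw [Nat.not_odd_iff_even] at heven
        obtain ⟨u, hu⟩ := heven
        apply hk2
        have h3 : 2 * (k * u) ∣ 2 * i := by
          have h4 : 2 * (k * u) = l := by rw [ht, hu]; ring
          rw [h4]
          exact hl1
        exact (dvd_mul_right k u).trans (Nat.dvd_of_mul_dvd_mul_left (by norm_num) h3)
    · have hcop : IsCoprime f f.reverse := (hf.coprime_iff_not_dvd).2 hrev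
      have hrev_μ : f.reverse ∣ minpoly F A :=
        reverse_dvd_minpoly (J (Fin n) F) (-J (Fin n) F) (skewInv_J n) A hAJ (r * s) hrs0 hArs
          f hfμ
      have hrev_deg : f.reverse.natDegree = f.natDegree :=
        natDegree_reverse_of_dvd f (r * s) hrs0 hfN
      have hmul : f * f.reverse ∣ minpoly F A := hcop.mul_dvd hfμ hrev_μ
      have hdeg : f.natDegree + f.natDegree ≤ n + n := by
        have h1 := Polynomial.natDegree_le_of_dvd hmul hμ0
        rw [Polynomial.natDegree_mul hf.ne_zero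
          (by rw [Ne, Polynomial.reverse_eq_zero]; exact hf.ne_zero), hrev_deg] at h1
        exact h1.trans hμdeg
      rcases hdich with h2l | hkl'
      · left
        omega
      · obtain ⟨t, ht⟩ := hkl'
        by_cases htodd : Odd t
        · exact Or.inr ⟨t, htodd, ht⟩
        · left
          rw [Nat.not_odd_iff_even] at htodd
          obtain ⟨u, hu⟩ := htodd
          have hu0 : 0 < u := by
            rcases Nat.eq_zero_or_pos u with h0 | h0
            · rw [hu, h0] at ht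
              simp at ht
              omega
            · exact h0
          have hleven : Even l := ⟨k * u, by rw [ht, hu]; ring⟩
          have h2η : 2 * ηl = l := by
            rcases hηl with ⟨ho, -⟩ | ⟨-, h⟩
            · exact absurd hleven (Nat.not_even_iff_odd.2 ho)
            · exact h
          have hkl2 : 2 * k ≤ l := by
            rw [ht, hu]
            nlinarith
          have hld' : l ≤ f.natDegree := Nat.le_of_dvd hd0 hld
          omega
  by_cases h₁ : f₁ ∣ X ^ r - 1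
  swap
  · exact caseA f₁ hf₁ hf₁μ hf₁N hf₁s h₁
  by_cases h₂ : f₂ ∣ X ^ s - 1
  swap
  · exact caseA f₂ hf₂ hf₂μ hf₂N h₂ hf₂r
  -- two factors with roots of orders `r` and `s`
  left
  have hX1s : (X - 1 : F[X]) ∣ X ^ s - 1 := by
    have := sub_dvd_pow_sub_pow (X : F[X]) 1 s
    rwa [one_pow] at this
  have hX1r : (X - 1 : F[X]) ∣ X ^ r - 1 := by
    have := sub_dvd_pow_sub_pow (X : F[X]) 1 r
    rwa [one_pow] at this
  have hf₁1 : ¬ f₁ ∣ X - 1 := fun h => hf₁s (h.trans hX1s)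
  have hf₂1 : ¬ f₂ ∣ X - 1 := fun h => hf₂r (h.trans hX1r)
  obtain ⟨W₁, hW₁μ, hW₁r, hW₁c, hW₁d, -⟩ := exists_weight (J (Fin n) F) (-J (Fin n) F)
    (skewInv_J n) A hAJ (r * s) hrs0 hArs r hr hr2 k ηk hk hηk f₁ hf₁ hf₁μ h₁ hf₁1
  obtain ⟨W₂, hW₂μ, hW₂s, hW₂c, hW₂d, -⟩ := exists_weight (J (Fin n) F) (-J (Fin n) F)
    (skewInv_J n) A hAJ (r * s) hrs0 hArs s hs hs2 l ηl hl hηl f₂ hf₂ hf₂μ h₂ hf₂1
  have hW₁0 : W₁ ≠ 0 := ne_zero_of_dvd_ne_zero hμ0 hW₁μ
  have hW₂0 : W₂ ≠ 0 := ne_zero_of_dvd_ne_zero hμ0 hW₂μ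
  have hcop : IsCoprime W₁ W₂ := by
    by_contra hnc
    obtain ⟨f, hf, hfW₁, hfW₂⟩ := exists_common_irr W₁ W₂ hW₁0 hnc
    have h1 := root_pow_eq_one_of_dvd f r (hfW₁.trans hW₁r)
    have h2 := root_pow_eq_one_of_dvd f s (hfW₂.trans hW₂s)
    have h3 : (AdjoinRoot.root f) ^ (Nat.gcd r s) = 1 := pow_gcd_eq_one.2 ⟨h1, h2⟩
    rw [Nat.Coprime.gcd_eq_one ((Nat.coprime_primes hr hs).2 hrs)] at h3
    have h4 := dvd_of_root_pow_eq_one f 1 h3
    rw [pow_one] at h4
    exact hf.not_isUnit (hW₁c.isUnit_of_dvd' hfW₁ h4)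
  have hmul := hcop.mul_dvd hW₁μ hW₂μ
  have h1 := (Polynomial.natDegree_le_of_dvd hmul hμ0).trans hμdeg
  rw [Polynomial.natDegree_mul hW₁0 hW₂0] at h1
  omega

end

/-- Adjacency of two odd primes in the prime graph of PSp(2n,q): let F be a finite field of characteristic p with q elements, n ≥ 2 with PSp(2n,F) simple, and let r ≠ s be odd primes different from p dividing the order of PSp(2n,F). Let k, l be the multiplicative orders of q modulo r and s, put η(m) = m for odd m and η(m) = m/2 for even m, and suppose η(k) ≤ η(l). Then PSp(2n,F) has NO element of order r·s if and only if η(k) + η(l) > n and l/k is not an odd integer. -/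
theorem result {F : Type*} [Field F] [Fintype F] (p : ℕ) [Fact p.Prime] [CharP F p] (n : ℕ) (hn : 2 ≤ n) (hsmall : n = 2 → 3 ≤ Fintype.card F)
    (r s : ℕ) (hr : r.Prime) (hs : s.Prime) (hr2 : r ≠ 2) (hs2 : s ≠ 2) (hrp : r ≠ p) (hsp : s ≠ p) (hrs : r ≠ s)
    (hrG : r ∣ Nat.card (Cfsg.PSp n F)) (hsG : s ∣ Nat.card (Cfsg.PSp n F))
    (k l ηk ηl : ℕ) (hk : k = orderOf ((Fintype.card F : ℕ) : ZMod r)) (hl : l = orderOf ((Fintype.card F : ℕ) : ZMod s))
    (hηk : (Odd k ∧ ηk = k) ∨ (Even k ∧ 2 * ηk = k)) (hηl : (Odd l ∧ ηl = l) ∨ (Even l ∧ 2 * ηl = l)) (hkl : ηk ≤ ηl) :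
    (r * s ∉ Set.range (orderOf : Cfsg.PSp n F → ℕ)) ↔ (n < ηk + ηl ∧ ¬ ∃ t : ℕ, Odd t ∧ l = k * t) := by
  classical
  have hpp : p.Prime := Fact.out
  have hk0 : 0 < k := by rw [hk]; exact ord_pos p r hr hrp
  have hl0 : 0 < l := by rw [hl]; exact ord_pos p s hs hsp
  have hηk0 : 0 < ηk := by
    rcases hηk with ⟨-, h⟩ | ⟨-, h⟩ <;> omega
  have hηl0 : 0 < ηl := by omega
  have hrodd := hr.odd_of_ne_two hr2
  have hsodd := hs.odd_of_ne_two hs2
  have hcop : Nat.Coprime r s := (Nat.coprime_primes hr hs).2 hrs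
  constructor
  · intro hno
    by_contra hcon
    apply hno
    by_cases hsum : ηk + ηl ≤ n
    · obtain ⟨ι₁, _, _, Ω₁, Ω₁', h₁, hcard₁, hD₁, hmin₁⟩ := exists_sp_block (F := F) p ηk hηk0 r
        hr.pos hrodd (dvd_pm r hr k ηk hk hηk)
      obtain ⟨ι₂, _, _, Ω₂, Ω₂', h₂, hcard₂, hD₂, hmin₂⟩ := exists_sp_block (F := F) p ηl hηl0 s
        hs.pos hsodd (dvd_pm s hs l ηl hl hηl)
      apply mem_range_of_block n (by omega) (ηk + ηl) ?_ hsum (hD₁.sum hD₂) (r * s)
      · intro j hj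
        obtain ⟨h1, h2⟩ := sum_pow_pm _ _ j hj
        exact Nat.Coprime.mul_dvd_of_dvd_of_dvd hcop (hmin₁ j h1) (hmin₂ j h2)
      · simp only [Fintype.card_sum, hcard₁, hcard₂]
        omega
    · have hex : ∃ t : ℕ, Odd t ∧ l = k * t := by
        by_contra h
        exact hcon ⟨by omega, h⟩
      obtain ⟨t, ht, hlt⟩ := hex
      have hηln : ηl ≤ n := eta_le p n (by omega) s hs hs2 hsp l ηl hl hηl hsG
      obtain ⟨ι, _, _, Ω, Ω', h, hcard, hD, hmin⟩ := exists_sp_block (F := F) p ηl hηl0 (r * s)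
        (Nat.mul_pos hr.pos hs.pos) (hrodd.mul hsodd)
        (dvd_pm_prod r s hr hs hrs k l ηk ηl hk hl hηk hηl hk0 hl0 t ht hlt)
      exact mem_range_of_block n (by omega) ηl hcard hηln hD (r * s) hmin
  · rintro ⟨hlt, hnot⟩ ⟨x, hx⟩
    obtain ⟨A, hAJ, hA⟩ := exists_pure_sp n (by omega) x
      (Or.inl (by rw [hx]; exact hrodd.mul hsodd))
    rw [hx] at hA
    rcases analysis p n (by omega) r s hr hs hr2 hs2 hrp hsp hrs k l ηk ηl hk hl hηk hηl hkl
      hk0 hl0 A hAJ hA with h | h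
    · omega
    · exact hnot h

end Cfsg.Agent.S2469
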