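import Cfsg.Statements.S2472
import Cfsg.Agent.Lib.helper64.SpPGMain

set_option autoImplicit false
open Cfsg

namespace Cfsg.Agent.S2472


open Polynomial Matrix Cfsg.Agent.Lib.helper64.SpBasic Cfsg.Agent.Lib.helper64.SpPG
  Cfsg.Agent.Lib.helper64.SpPGMain Cfsg.Agent.Lib.helper64.PGBasic
  Cfsg.Agent.Lib.helper64.PGBlocks

section

variable {F : Type*} [Field F] [Fintype F]

/-- a symplectic matrix of order `r p` forces `η(k) + 1 ≤ n` -/
theorem analysis (p : ℕ) [hp : Fact p.Prime] [CharP F p] (n : ℕ) (hn : 1 ≤ n) (r : ℕ)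
    (hr : r.Prime) (hr2 : r ≠ 2) (hrp : r ≠ p) (k ηk : ℕ)
    (hk : k = orderOf ((Fintype.card F : ℕ) : ZMod r))
    (hηk : (Odd k ∧ ηk = k) ∨ (Even k ∧ 2 * ηk = k)) (hη0 : 0 < ηk)
    (A : Matrix (Fin n ⊕ Fin n) (Fin n ⊕ Fin n) F)
    (hAJ : Aᵀ * J (Fin n) F * A = J (Fin n) F)
    (hA : ∀ j : ℕ, A ^ j = 1 ↔ r * p ∣ j) : ηk + 1 ≤ n := by
  classical
  have hpp : p.Prime := hp.out
  have : Fact r.Prime := ⟨hr⟩
  have : Nonempty (Fin n ⊕ Fin n) := ⟨Sum.inl ⟨0, by omega⟩⟩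
  have hrF : ((r : ℕ) : F) ≠ 0 := by
    rw [Ne, CharP.cast_eq_zero_iff F p]
    intro h
    exact hrp ((Nat.prime_dvd_prime_iff_eq hpp hr).1 h).symm
  have hArp : A ^ (r * p) = 1 := (hA (r * p)).2 (dvd_refl _)
  have hrp0 : 0 < r * p := Nat.mul_pos hr.pos hpp.pos
  obtain ⟨g, hg⟩ : ∃ g : F[X], g = X ^ r - 1 := ⟨_, rfl⟩
  have hgp : g ^ p = X ^ (r * p) - 1 := by
    rw [hg, sub_pow_char, ← pow_mul, one_pow]
  have hsep : g.Separable := by
    have := separable_X_pow_sub_C (1 : F) hrF one_ne_zero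
    rwa [map_one, ← hg] at this
  have hgsq : Squarefree g := hsep.squarefree
  obtain ⟨μ, hμ⟩ : ∃ μ : F[X], μ = minpoly F A := ⟨_, rfl⟩
  have hμmonic : μ.Monic := by rw [hμ]; exact minpoly.monic (Matrix.isIntegral A)
  have hμ0 : μ ≠ 0 := hμmonic.ne_zero
  have hμA : aeval A μ = 0 := by rw [hμ]; exact minpoly.aeval F A
  have hμdeg : μ.natDegree ≤ n + n := by
    have := natDegree_minpoly_le_card A
    rwa [Fintype.card_sum, Fintype.card_fin, ← hμ] at this
  have hμg : μ ∣ g ^ p := by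
    rw [hμ]
    apply minpoly.dvd
    rw [hgp, map_sub, map_pow, aeval_X, map_one, hArp, sub_self]
  have hμng : ¬ μ ∣ g := by
    intro h
    have h1 := Polynomial.aeval_eq_zero_of_dvd_aeval_eq_zero h hμA
    rw [hg, map_sub, map_pow, aeval_X, map_one, sub_eq_zero] at h1
    have h3 : r * p ∣ r * 1 := by rw [mul_one]; exact (hA r).1 h1
    exact hpp.one_lt.ne' (Nat.dvd_one.1 (Nat.dvd_of_mul_dvd_mul_left hr.pos h3))
  have hμns : ¬ Squarefree μ := fun hsq => hμng ((hsq.dvd_pow_iff_dvd hpp.ne_zero).1 hμg)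
  obtain ⟨f, hf, hff⟩ := exists_sq_factor μ hμ0 hμns
  have hfμ : f ∣ μ := dvd_of_mul_left_dvd hff
  have hfg : f ∣ g := hf.prime.dvd_of_dvd_pow (hfμ.trans hμg)
  have hnlin : ¬ μ ∣ (X - 1) ^ p := by
    intro h
    have h1 := Polynomial.aeval_eq_zero_of_dvd_aeval_eq_zero h hμA
    rw [sub_pow_char, one_pow, map_sub, map_pow, aeval_X, map_one, sub_eq_zero] at h1
    have h3 : r * p ∣ 1 * p := by rw [one_mul]; exact (hA p).1 h1
    exact hr.one_lt.ne' (Nat.dvd_one.1 (Nat.dvd_of_mul_dvd_mul_right hpp.pos h3))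
  have hX1 : (X - 1 : F[X]) = X - C 1 := by rw [map_one]
  have hX10 : (X - 1 : F[X]) ≠ 0 := by rw [hX1]; exact X_sub_C_ne_zero 1
  have hX1deg : (X - 1 : F[X]).natDegree = 1 := by rw [hX1]; exact natDegree_X_sub_C 1
  have hirrX : Irreducible (X - 1 : F[X]) := by rw [hX1]; exact irreducible_X_sub_C 1
  by_cases hf1 : f ∣ X - 1
  · -- the repeated factor is `X - 1`
    have hXf : X - 1 ∣ f := by
      have := (linear_of_dvd f hf 1 (by rwa [← hX1])).2
      rwa [← hX1] at this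
    have hXX : (X - 1) * (X - 1) ∣ μ := (mul_dvd_mul hXf hXf).trans hff
    obtain ⟨g₁, hg₁⟩ := hXf.trans hfg
    have hcop1 : IsCoprime (X - 1 : F[X]) g₁ := by
      rw [hirrX.coprime_iff_not_dvd]
      intro h
      have h1 : (X - 1) * (X - 1) ∣ g := by rw [hg₁]; exact mul_dvd_mul_left _ h
      exact hirrX.not_isUnit (hgsq _ h1)
    have hncop : ¬ IsCoprime μ g₁ := by
      intro h
      apply hnlin
      have h1 : μ ∣ (X - 1) ^ p * g₁ ^ p := by rw [← mul_pow, ← hg₁]; exact hμg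
      exact (h.pow_right).dvd_of_dvd_mul_right h1
    obtain ⟨f', hf', hf'μ, hf'g₁⟩ := exists_common_irr μ g₁ hμ0 hncop
    have hf'g : f' ∣ X ^ r - 1 := by rw [← hg, hg₁]; exact dvd_mul_of_dvd_right hf'g₁ _
    have hf'1 : ¬ f' ∣ X - 1 := by
      intro h
      have h1 : X - 1 ∣ f' := by
        have := (linear_of_dvd f' hf' 1 (by rwa [← hX1])).2
        rwa [← hX1] at this
      exact hirrX.not_isUnit (hcop1.isUnit_of_dvd' (dvd_refl _) (h1.trans hf'g₁))
    obtain ⟨W, hWμ, -, hWcop, hWdeg, -⟩ := exists_weight (J (Fin n) F) (-J (Fin n) F)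
      (skewInv_J n) A hAJ (r * p) hrp0 hArp r hr hr2 k ηk hk hηk f' hf' (by rw [← hμ]; exact hf'μ)
      hf'g hf'1
    rw [← hμ] at hWμ
    have hW0 : W ≠ 0 := ne_zero_of_dvd_ne_zero hμ0 hWμ
    have hmul : (X - 1) * (X - 1) * W ∣ μ :=
      ((hWcop.symm.mul_left hWcop.symm)).mul_dvd hXX hWμ
    have h1 := Polynomial.natDegree_le_of_dvd hmul hμ0
    rw [Polynomial.natDegree_mul (mul_ne_zero hX10 hX10) hW0,
      Polynomial.natDegree_mul hX10 hX10, hX1deg] at h1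
    omega
  · obtain ⟨W, -, -, -, hWdeg, hWW⟩ := exists_weight (J (Fin n) F) (-J (Fin n) F)
      (skewInv_J n) A hAJ (r * p) hrp0 hArp r hr hr2 k ηk hk hηk f hf (by rw [← hμ]; exact hfμ)
      (by rw [← hg]; exact hfg) hf1
    have hWW' : W * W ∣ μ := by rw [hμ]; exact hWW (by rw [← hμ]; exact hff)
    have hW0 : W ≠ 0 := ne_zero_of_dvd_ne_zero hμ0 (dvd_of_mul_left_dvd hWW')
    have h1 := Polynomial.natDegree_le_of_dvd hWW' hμ0
    rw [Polynomial.natDegree_mul hW0 hW0] at h1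
    omega

/-- existence of an element of order `r p` -/
theorem exists_elem (p : ℕ) [hp : Fact p.Prime] [CharP F p] (n : ℕ) (r : ℕ) (hr : r.Prime)
    (hr2 : r ≠ 2) (hrp : r ≠ p) (k ηk : ℕ) (hk : k = orderOf ((Fintype.card F : ℕ) : ZMod r))
    (hηk : (Odd k ∧ ηk = k) ∨ (Even k ∧ 2 * ηk = k)) (hη0 : 0 < ηk) (hkn : ηk + 1 ≤ n) :
    r * p ∈ Set.range (orderOf : Cfsg.PSp n F → ℕ) := by
  have hpp : p.Prime := hp.out
  have hrodd : Odd r := hr.odd_of_ne_two hr2
  obtain ⟨ι, _, _, Ω, Ω', h, hcard, hD, hmin⟩ := exists_sp_block (F := F) p ηk hη0 r hr.pos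
    hrodd (dvd_pm r hr k ηk hk hηk)
  obtain ⟨t, ht⟩ : ∃ t : ℕ, n = ηk + (t + 1) := ⟨n - ηk - 1, by omega⟩
  obtain ⟨N, hN⟩ : ∃ N : Matrix (Fin (t + 1)) (Fin (t + 1)) F, N = Matrix.single 0 0 1 :=
    ⟨_, rfl⟩
  have hNt : Nᵀ = N := by rw [hN, Matrix.transpose_single]
  have hN0 : N ≠ 0 := by
    intro h0
    have h1 := congrFun (congrFun h0 0) 0
    rw [hN] at h1
    simp at h1
  have D₂ := isSpDatum_J (F := F) (t + 1) N hNt
  have D := hD.sum D₂
  apply IsSpDatum.mem_range (n := n) (by omega) ?_ D (r * p)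
  · intro j hj
    obtain ⟨h1, h2⟩ := sum_pow_pm _ _ j hj
    have hrj := hmin j h1
    have hpj : p ∣ j := (CharP.cast_eq_zero_iff F p j).1 (unip_pm (t + 1) N hN0 j h2)
    exact Nat.Coprime.mul_dvd_of_dvd_of_dvd ((Nat.coprime_primes hr hpp).2 hrp) hrj hpj
  · simp only [Fintype.card_sum, Fintype.card_fin, hcard]
    omega

end

/-- Adjacency of a prime and the characteristic in the prime graph of PSp(2n,q): let F be a finite field of characteristic p with q elements, n ≥ 2 with PSp(2n,F) simple, and let r ≠ p be an odd prime dividing the order of PSp(2n,F), with k the multiplicative order of q modulo r and η(k) = k for odd k, k/2 for even k. Then PSp(2n,F) has NO element of order r·p if and only if η(k) > n − 1. -/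
theorem result {F : Type*} [Field F] [Fintype F] (p : ℕ) [Fact p.Prime] [CharP F p] (n : ℕ) (hn : 2 ≤ n) (hsmall : n = 2 → 3 ≤ Fintype.card F)
    (r : ℕ) (hr : r.Prime) (hr2 : r ≠ 2) (hrp : r ≠ p) (hrG : r ∣ Nat.card (Cfsg.PSp n F))
    (k ηk : ℕ) (hk : k = orderOf ((Fintype.card F : ℕ) : ZMod r)) (hηk : (Odd k ∧ ηk = k) ∨ (Even k ∧ 2 * ηk = k)) :
    (r * p ∉ Set.range (orderOf : Cfsg.PSp n F → ℕ)) ↔ n - 1 < ηk := by
  classical
  have hpp : p.Prime := Fact.out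
  have hk0 : 0 < k := by rw [hk]; exact ord_pos p r hr hrp
  have hη0 : 0 < ηk := by
    rcases hηk with ⟨-, h⟩ | ⟨-, h⟩ <;> omega
  constructor
  · intro hno
    by_contra hcon
    apply hno
    exact exists_elem p n r hr hr2 hrp k ηk hk hηk hη0 (by omega)
  · intro hlt ⟨x, hx⟩
    have hodd : Odd (orderOf x) ∨ (2 : F) = 0 := by
      by_cases hp2 : p = 2
      · right
        have := CharP.cast_eq_zero F p
        rw [hp2] at this
        exact_mod_cast this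
      · left
        rw [hx]
        exact (hr.odd_of_ne_two hr2).mul (hpp.odd_of_ne_two hp2)
    obtain ⟨A, hAJ, hA⟩ := exists_pure_sp n (by omega) x hodd
    rw [hx] at hA
    have := analysis p n (by omega) r hr hr2 hrp k ηk hk hηk hη0 A hAJ hA
    omega

end Cfsg.Agent.S2472
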