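import Cfsg.Statements.S2573

set_option autoImplicit false
open Cfsg

namespace Cfsg.Agent.S2573

open Module in
/-- The kernel of `f ^ k` has dimension at most `k * dim ker f`. -/
theorem finrank_ker_pow_le {F V : Type*} [Field F] [AddCommGroup V] [Module F V]
    [FiniteDimensional F V] (f : V →ₗ[F] V) (k : ℕ) :
    finrank F (LinearMap.ker (f ^ k)) ≤ k * finrank F (LinearMap.ker f) := by
  induction k with
  | zero => simp [Module.End.one_eq_id]
  | succ k ih =>
    have hmem : ∀ x ∈ LinearMap.ker (f ^ (k + 1)), (f ^ k) x ∈ LinearMap.ker f := by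
      intro x hx
      rw [LinearMap.mem_ker] at hx ⊢
      rw [pow_succ'] at hx
      exact hx
    let g : LinearMap.ker (f ^ (k + 1)) →ₗ[F] LinearMap.ker f := (f ^ k).restrict hmem
    have hg := LinearMap.finrank_range_add_finrank_ker g
    have h2 : finrank F (LinearMap.ker g) ≤ finrank F (LinearMap.ker (f ^ k)) := by
      let j : LinearMap.ker g →ₗ[F] LinearMap.ker (f ^ k) :=
        LinearMap.codRestrict _ ((Submodule.subtype _).comp (Submodule.subtype _)) (by
          intro x
          have := x.2
          rw [LinearMap.mem_ker] at this ⊢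
          have h3 : ((g x.1 : LinearMap.ker f) : V) = 0 := by rw [this]; rfl
          exact h3)
      apply LinearMap.finrank_le_finrank_of_injective (f := j)
      intro x y hxy
      have h := congrArg Subtype.val hxy
      exact Subtype.ext (Subtype.ext h)
    have h3 : finrank F (LinearMap.range g) ≤ finrank F (LinearMap.ker f) := Submodule.finrank_le _
    rw [add_mul, one_mul]
    omega

/-- A nilpotent endomorphism restricted to an invariant subspace `W` is killed by the
`finrank W`-th power. -/
theorem pow_finrank_apply_eq_zero {F V : Type*} [Field F] [AddCommGroup V] [Module F V]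
    [FiniteDimensional F V] (f : V →ₗ[F] V) (hf : IsNilpotent f) (W : Submodule F V)
    (hW : ∀ v ∈ W, f v ∈ W) (v : V) (hv : v ∈ W) : (f ^ Module.finrank F W) v = 0 := by
  have hnil : IsNilpotent (f.restrict hW) := by
    obtain ⟨n, hn⟩ := hf
    refine ⟨n, ?_⟩
    rw [Module.End.pow_restrict, ]
    ext x
    simp [hn]
  have h1 := (LinearMap.isNilpotent_iff_charpoly (f.restrict hW)).1 hnil
  have h2 := LinearMap.aeval_self_charpoly (f.restrict hW)
  rw [h1] at h2
  simp only [map_pow, Polynomial.aeval_X] at h2
  have h3 : ((f.restrict hW) ^ Module.finrank F W) ⟨v, hv⟩ = 0 := by rw [h2]; rfl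
  rw [Module.End.pow_restrict] at h3
  have h4 := congrArg Subtype.val h3
  simpa using h4

/-- The invariant subspaces of a regular unipotent matrix form a chain: over a finite field, if u is an n × n matrix with (u − 1)^n = 0 and rank(u − 1) = n − 1, then every subspace W of F^n with u W ⊆ W is the kernel of (u − 1)^(dim W); so u has at most one invariant subspace of each dimension. -/
theorem result {F : Type*} [Field F] [Finite F] {n : ℕ} (u : Matrix (Fin n) (Fin n) F) (hnil : (u - 1) ^ n = 0) (hreg : (u - 1).rank = n - 1) (W : Submodule F (Fin n → F)) (hW : ∀ v ∈ W, u.mulVec v ∈ W) : W = LinearMap.ker (Matrix.mulVecLin ((u - 1) ^ Module.finrank F W)) := by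
  set f : (Fin n → F) →ₗ[F] (Fin n → F) := Matrix.mulVecLin (u - 1) with hf
  have hpow : ∀ k : ℕ, Matrix.mulVecLin ((u - 1) ^ k) = f ^ k := by
    intro k
    induction k with
    | zero => simp [Module.End.one_eq_id]
    | succ k ih => rw [pow_succ, Matrix.mulVecLin_mul, ih, pow_succ]; rfl
  have hfnil : IsNilpotent f := ⟨n, by rw [← hpow, hnil]; simp⟩
  have hWf : ∀ v ∈ W, f v ∈ W := by
    intro v hv
    have : f v = u.mulVec v - v := by
      simp [hf]
    rw [this]
    exact W.sub_mem (hW v hv) hv
  rw [hpow]
  have hle : W ≤ LinearMap.ker (f ^ Module.finrank F W) := by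
    intro v hv
    rw [LinearMap.mem_ker]
    exact pow_finrank_apply_eq_zero f hfnil W hWf v hv
  have hker : Module.finrank F (LinearMap.ker f) ≤ 1 := by
    have h1 := LinearMap.finrank_range_add_finrank_ker f
    have h2 : Module.finrank F (LinearMap.range f) = n - 1 := by
      rw [← hreg, hf]
      rfl
    have h3 : Module.finrank F (Fin n → F) = n := by simp
    omega
  have hdim : Module.finrank F (LinearMap.ker (f ^ Module.finrank F W)) ≤ Module.finrank F W := by
    calc Module.finrank F (LinearMap.ker (f ^ Module.finrank F W))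
        ≤ Module.finrank F W * Module.finrank F (LinearMap.ker f) := finrank_ker_pow_le f _
      _ ≤ Module.finrank F W * 1 := Nat.mul_le_mul_left _ hker
      _ = Module.finrank F W := mul_one _
  exact Submodule.eq_of_le_of_finrank_le hle hdim

end Cfsg.Agent.S2573
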