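import Cfsg.Statements.S2574
import Cfsg.Agent.S2573

set_option autoImplicit false
open Cfsg

namespace Cfsg.Agent.S2574

/-- General form of S2573: an invariant subspace of a nilpotent endomorphism with
one-dimensional kernel is the kernel of a power. -/
theorem eq_ker_pow_of_invariant {F V : Type*} [Field F] [AddCommGroup V] [Module F V]
    [FiniteDimensional F V] (f : V →ₗ[F] V) (hf : IsNilpotent f)
    (hker : Module.finrank F (LinearMap.ker f) ≤ 1) (W : Submodule F V)
    (hW : ∀ v ∈ W, f v ∈ W) : W = LinearMap.ker (f ^ Module.finrank F W) := by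
  have hle : W ≤ LinearMap.ker (f ^ Module.finrank F W) := by
    intro v hv
    rw [LinearMap.mem_ker]
    exact Cfsg.Agent.S2573.pow_finrank_apply_eq_zero f hf W hW v hv
  have hdim : Module.finrank F (LinearMap.ker (f ^ Module.finrank F W)) ≤ Module.finrank F W := by
    calc Module.finrank F (LinearMap.ker (f ^ Module.finrank F W))
        ≤ Module.finrank F W * Module.finrank F (LinearMap.ker f) :=
          Cfsg.Agent.S2573.finrank_ker_pow_le f _
      _ ≤ Module.finrank F W * 1 := Nat.mul_le_mul_left _ hker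
      _ = Module.finrank F W := mul_one _
  exact Submodule.eq_of_le_of_finrank_le hle hdim

theorem ker_pow_mono {F V : Type*} [Field F] [AddCommGroup V] [Module F V]
    (f : V →ₗ[F] V) {a b : ℕ} (hab : a ≤ b) : LinearMap.ker (f ^ a) ≤ LinearMap.ker (f ^ b) := by
  intro v hv
  rw [LinearMap.mem_ker] at hv ⊢
  obtain ⟨c, rfl⟩ := Nat.exists_eq_add_of_le hab
  rw [add_comm, pow_add, Module.End.mul_apply, hv, map_zero]

/-- A regular unipotent element of the symplectic group has totally isotropic small invariant subspaces: over a finite field, if u ∈ Sp_2m(F) satisfies (u − 1)^(2m) = 0 and rank(u − 1) = 2m − 1, and W is a u-invariant subspace with 2 dim W ≤ 2m, then the alternating form vanishes identically on W. -/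
theorem result {F : Type*} [Field F] [Finite F] {m : ℕ} (u : Matrix.symplecticGroup (Fin m) F) (hnil : ((u : Matrix (Fin m ⊕ Fin m) (Fin m ⊕ Fin m) F) - 1) ^ (2 * m) = 0) (hreg : ((u : Matrix (Fin m ⊕ Fin m) (Fin m ⊕ Fin m) F) - 1).rank = 2 * m - 1) (W : Submodule F (Fin m ⊕ Fin m → F)) (hW : ∀ v ∈ W, (u : Matrix (Fin m ⊕ Fin m) (Fin m ⊕ Fin m) F).mulVec v ∈ W) (hdim : 2 * Module.finrank F W ≤ 2 * m) : ∀ v ∈ W, ∀ w ∈ W, Cfsg.sympForm m F v w = 0 := by
  set U : Matrix (Fin m ⊕ Fin m) (Fin m ⊕ Fin m) F := (u : Matrix (Fin m ⊕ Fin m) (Fin m ⊕ Fin m) F) with hU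
  set f : (Fin m ⊕ Fin m → F) →ₗ[F] (Fin m ⊕ Fin m → F) := Matrix.mulVecLin (U - 1) with hf
  have hpow : ∀ k : ℕ, Matrix.mulVecLin ((U - 1) ^ k) = f ^ k := by
    intro k
    induction k with
    | zero => simp [Module.End.one_eq_id]
    | succ k ih => rw [pow_succ, Matrix.mulVecLin_mul, ih, pow_succ]; rfl
  have hfnil : IsNilpotent f := ⟨2 * m, by rw [← hpow, hnil]; simp⟩
  have hfu : ∀ v, f v = U.mulVec v - v := by
    intro v
    simp [hf]
  have hV : Module.finrank F (Fin m ⊕ Fin m → F) = 2 * m := by simp; ring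
  have hker : Module.finrank F (LinearMap.ker f) ≤ 1 := by
    have h1 := LinearMap.finrank_range_add_finrank_ker f
    have h2 : Module.finrank F (LinearMap.range f) = 2 * m - 1 := by
      rw [← hreg, hf]
      rfl
    omega
  have hWf : ∀ v ∈ W, f v ∈ W := by
    intro v hv
    rw [hfu]
    exact W.sub_mem (hW v hv) hv
  -- the bilinear form
  have hUJ : U.transpose * Matrix.J (Fin m) F * U = Matrix.J (Fin m) F :=
    SymplecticGroup.mem_iff'.1 u.2
  have hB : ∀ v w, Cfsg.sympForm m F (U.mulVec v) (U.mulVec w) = Cfsg.sympForm m F v w := by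
    intro v w
    unfold Cfsg.sympForm
    rw [← Matrix.vecMul_transpose U v, ← Matrix.dotProduct_mulVec, Matrix.mulVec_mulVec,
      Matrix.mulVec_mulVec, hUJ]
  -- u is surjective on W
  have hsurj : ∀ w ∈ W, ∃ w' ∈ W, U.mulVec w' = w := by
    have hW' : ∀ v ∈ W, Matrix.mulVecLin U v ∈ W := hW
    have hinv : ((u⁻¹ : Matrix.symplecticGroup (Fin m) F) : Matrix (Fin m ⊕ Fin m) (Fin m ⊕ Fin m) F) * U = 1 := by
      have h : (u⁻¹ * u : Matrix.symplecticGroup (Fin m) F) = 1 := inv_mul_cancel u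
      exact congrArg Subtype.val h
    have hinj : Function.Injective ((Matrix.mulVecLin U).restrict hW') := by
      intro x y hxy
      have h1 : U.mulVec x.1 = U.mulVec y.1 := congrArg Subtype.val hxy
      have h2 := congrArg (Matrix.mulVec ((u⁻¹ : Matrix.symplecticGroup (Fin m) F) : Matrix (Fin m ⊕ Fin m) (Fin m ⊕ Fin m) F)) h1
      rw [Matrix.mulVec_mulVec, Matrix.mulVec_mulVec, hinv, Matrix.one_mulVec, Matrix.one_mulVec] at h2
      exact Subtype.ext h2
    have hs := LinearMap.surjective_of_injective hinj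
    intro w hw
    obtain ⟨w', hw'⟩ := hs ⟨w, hw⟩
    exact ⟨w'.1, w'.2, congrArg Subtype.val hw'⟩
  -- the orthogonal complement
  let B : (Fin m ⊕ Fin m → F) →ₗ[F] (Fin m ⊕ Fin m → F) →ₗ[F] F := Matrix.toLinearMap₂' F (Matrix.J (Fin m) F)
  have hBs : ∀ v w, B v w = Cfsg.sympForm m F v w := by
    intro v w
    simp [B, Cfsg.sympForm, Matrix.toLinearMap₂'_apply']
  let Φ : (Fin m ⊕ Fin m → F) →ₗ[F] (W →ₗ[F] F) := (LinearMap.lcomp F F W.subtype).comp B
  have hΦ : ∀ v (w : W), Φ v w = Cfsg.sympForm m F v w := by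
    intro v w
    simp [Φ, hBs]
  have hperp : ∀ v, v ∈ LinearMap.ker Φ ↔ ∀ w ∈ W, Cfsg.sympForm m F v w = 0 := by
    intro v
    rw [LinearMap.mem_ker]
    constructor
    · intro h w hw
      rw [← hΦ v ⟨w, hw⟩, h]; rfl
    · intro h
      ext w
      rw [hΦ]
      exact h w w.2
  have hperpdim : 2 * m ≤ Module.finrank F (LinearMap.ker Φ) + Module.finrank F W := by
    have h1 := LinearMap.finrank_range_add_finrank_ker Φ
    have h2 : Module.finrank F (LinearMap.range Φ) ≤ Module.finrank F (W →ₗ[F] F) := Submodule.finrank_le _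
    rw [Module.finrank_linearMap_self] at h2
    omega
  have hperpinv : ∀ v ∈ LinearMap.ker Φ, f v ∈ LinearMap.ker Φ := by
    intro v hv
    rw [hfu]
    refine Submodule.sub_mem _ ?_ hv
    rw [hperp] at hv ⊢
    intro w hw
    obtain ⟨w', hw', rfl⟩ := hsurj w hw
    rw [hB]
    exact hv w' hw'
  have e1 := eq_ker_pow_of_invariant f hfnil hker W hWf
  have e2 := eq_ker_pow_of_invariant f hfnil hker (LinearMap.ker Φ) hperpinv
  have hle : W ≤ LinearMap.ker Φ := by
    calc W = LinearMap.ker (f ^ Module.finrank F W) := e1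
      _ ≤ LinearMap.ker (f ^ Module.finrank F (LinearMap.ker Φ)) := ker_pow_mono f (by omega)
      _ = LinearMap.ker Φ := e2.symm
  intro v hv w hw
  exact (hperp v).1 (hle hv) w hw

end Cfsg.Agent.S2574
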