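import Cfsg.Statements.S2571
import Cfsg.Agent.S2574

set_option autoImplicit false
open Cfsg

namespace Cfsg.Agent.S2571

/-- the polynomial map `a ↦ ∑ a_i N^i` -/
def polyMap {F : Type*} [Field F] {n : ℕ} (N : Matrix (Fin n) (Fin n) F) :
    (Fin n → F) →ₗ[F] Matrix (Fin n) (Fin n) F where
  toFun a := ∑ i : Fin n, a i • N ^ (i : ℕ)
  map_add' a b := by simp [add_smul, Finset.sum_add_distrib]
  map_smul' c a := by simp [mul_smul, Finset.smul_sum]

theorem polyMap_apply {F : Type*} [Field F] {n : ℕ} (N : Matrix (Fin n) (Fin n) F)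
    (a : Fin n → F) : polyMap N a = ∑ i : Fin n, a i • N ^ (i : ℕ) := rfl

theorem polyMap_comm {F : Type*} [Field F] {n : ℕ} (N : Matrix (Fin n) (Fin n) F)
    (a : Fin n → F) : polyMap N a * N = N * polyMap N a := by
  rw [polyMap_apply, Finset.sum_mul, Finset.mul_sum]
  refine Finset.sum_congr rfl (fun i _ => ?_)
  rw [Matrix.smul_mul, Matrix.mul_smul, ← pow_succ, ← pow_succ']

/-- the commutant of `N` as a submodule -/
def commutant {F : Type*} [Field F] {n : ℕ} (N : Matrix (Fin n) (Fin n) F) :
    Submodule F (Matrix (Fin n) (Fin n) F) where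
  carrier := {X | X * N = N * X}
  add_mem' := by
    intro a b ha hb
    simp only [Set.mem_ofPred_eq] at *
    rw [add_mul, mul_add, ha, hb]
  zero_mem' := by simp
  smul_mem' := by
    intro c a ha
    simp only [Set.mem_ofPred_eq] at *
    rw [Matrix.smul_mul, Matrix.mul_smul, ha]

theorem mem_commutant {F : Type*} [Field F] {n : ℕ} (N X : Matrix (Fin n) (Fin n) F) :
    X ∈ commutant N ↔ X * N = N * X := Iff.rfl

theorem regular_structure {F : Type*} [Field F] {n : ℕ} (hn : 1 ≤ n)
    (N : Matrix (Fin n) (Fin n) F) (hnil : N ^ n = 0) (hreg : N.rank = n - 1) :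
    N ^ (n - 1) ≠ 0 ∧ Function.Injective (polyMap N) ∧
      (∀ X, X * N = N * X → ∃ a, polyMap N a = X) := by
  classical
  set f : (Fin n → F) →ₗ[F] (Fin n → F) := Matrix.toLin' N with hf
  have hpow : ∀ k : ℕ, Matrix.toLin' (N ^ k) = f ^ k := by
    intro k
    induction k with
    | zero => simp [Module.End.one_eq_id]
    | succ k ih => rw [pow_succ, Matrix.toLin'_mul, ih, pow_succ]; rfl
  have hfnil : IsNilpotent f := ⟨n, by rw [← hpow, hnil]; simp⟩
  have hV : Module.finrank F (Fin n → F) = n := by simp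
  have hker : Module.finrank F (LinearMap.ker f) ≤ 1 := by
    have h1 := LinearMap.finrank_range_add_finrank_ker f
    have h2 : Module.finrank F (LinearMap.range f) = n - 1 := by
      rw [← hreg, hf, Matrix.rank, Matrix.toLin'_apply']
    omega
  -- a cyclic vector
  have hv0 : ∃ v0, (f ^ (n - 1)) v0 ≠ 0 := by
    by_contra hcon
    push Not at hcon
    have h1 : LinearMap.ker (f ^ (n - 1)) = ⊤ := by
      rw [eq_top_iff]
      intro v _
      exact hcon v
    have h2 := Cfsg.Agent.S2573.finrank_ker_pow_le f (n - 1)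
    rw [h1, finrank_top, hV] at h2
    have h3 : (n - 1) * Module.finrank F (LinearMap.ker f) ≤ (n - 1) * 1 :=
      Nat.mul_le_mul_left _ hker
    omega
  obtain ⟨v0, hv0⟩ := hv0
  let b : Fin n → (Fin n → F) := fun i => (f ^ (i : ℕ)) v0
  set W : Submodule F (Fin n → F) := Submodule.span F (Set.range b) with hW
  have hWinv : ∀ v ∈ W, f v ∈ W := by
    have : W ≤ Submodule.comap f W := by
      rw [hW, Submodule.span_le]
      rintro _ ⟨i, rfl⟩
      show f (b i) ∈ W
      have h1 : f (b i) = (f ^ ((i : ℕ) + 1)) v0 := by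
        show f ((f ^ (i : ℕ)) v0) = _
        rw [pow_succ', Module.End.mul_apply]
      rw [h1]
      by_cases hi : (i : ℕ) + 1 < n
      · exact Submodule.subset_span ⟨⟨(i : ℕ) + 1, hi⟩, rfl⟩
      · have h2 : (i : ℕ) + 1 = n := by have := i.2; omega
        rw [h2]
        obtain ⟨m, hm⟩ := hfnil
        have h3 : f ^ n = 0 := by rw [← hpow, hnil]; simp
        rw [h3]
        exact W.zero_mem
    exact fun v hv => this hv
  have e1 := Cfsg.Agent.S2574.eq_ker_pow_of_invariant f hfnil hker W hWinv
  have hv0W : v0 ∈ W := Submodule.subset_span ⟨⟨0, hn⟩, by simp [b]⟩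
  have hWdim : Module.finrank F W = n := by
    by_contra hne
    have hle : Module.finrank F W ≤ n := by
      have := Submodule.finrank_le W
      rw [hV] at this; exact this
    have hlt : Module.finrank F W ≤ n - 1 := by omega
    have h1 : v0 ∈ LinearMap.ker (f ^ (n - 1)) :=
      Cfsg.Agent.S2574.ker_pow_mono f hlt (e1 ▸ hv0W)
    exact hv0 (LinearMap.mem_ker.1 h1)
  have hWtop : W = ⊤ := Submodule.eq_top_of_finrank_eq (by rw [hWdim, hV])
  have hli : LinearIndependent F b :=
    linearIndependent_of_top_le_span_of_card_eq_finrank (by rw [← hW, hWtop])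
      (by rw [hV]; simp)
  have hbi : ∀ i : Fin n, Matrix.mulVec (N ^ (i : ℕ)) v0 = b i := by
    intro i
    rw [← Matrix.toLin'_apply, hpow]
  have hpolyv0 : ∀ a, Matrix.mulVec (polyMap N a) v0 = ∑ i, a i • b i := by
    intro a
    rw [polyMap_apply, ← Matrix.toLin'_apply, map_sum, LinearMap.sum_apply]
    refine Finset.sum_congr rfl (fun i _ => ?_)
    rw [map_smul, LinearMap.smul_apply, Matrix.toLin'_apply, hbi]
  have hinj : Function.Injective (polyMap N) := by
    rw [← LinearMap.ker_eq_bot, LinearMap.ker_eq_bot']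
    intro a ha
    have h1 := hpolyv0 a
    rw [ha, Matrix.zero_mulVec] at h1
    have h2 := Fintype.linearIndependent_iff.1 hli a h1.symm
    exact funext h2
  refine ⟨?_, hinj, ?_⟩
  · intro h0
    apply hv0
    rw [← hpow, h0]
    simp
  · -- surjectivity onto the commutant by a dimension count
    let ev : commutant N →ₗ[F] (Fin n → F) :=
      { toFun := fun X => Matrix.mulVec X.1 v0
        map_add' := fun X Y => by simp [Matrix.add_mulVec]
        map_smul' := fun c X => by simp [Matrix.smul_mulVec] }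
    have hev : Function.Injective ev := by
      rw [← LinearMap.ker_eq_bot, LinearMap.ker_eq_bot']
      intro X hX
      have hX0 : Matrix.mulVec X.1 v0 = 0 := hX
      have hXc : X.1 * N = N * X.1 := X.2
      have h1 : ∀ i : Fin n, Matrix.toLin' X.1 (b i) = 0 := by
        intro i
        rw [Matrix.toLin'_apply, ← hbi, Matrix.mulVec_mulVec]
        have hc : Commute X.1 (N ^ (i : ℕ)) := Commute.pow_right hXc _
        rw [hc.eq, ← Matrix.mulVec_mulVec, hX0, Matrix.mulVec_zero]
      have h2 : W ≤ LinearMap.ker (Matrix.toLin' X.1) := by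
        rw [hW, Submodule.span_le]
        rintro _ ⟨i, rfl⟩
        exact h1 i
      rw [hWtop, top_le_iff, LinearMap.ker_eq_top] at h2
      have h3 : X.1 = 0 := by
        have := congrArg Matrix.toLin'.symm h2
        simpa using this
      exact Subtype.ext h3
    have hle : LinearMap.range (polyMap N) ≤ commutant N := by
      rintro _ ⟨a, rfl⟩
      exact polyMap_comm N a
    have hd1 : Module.finrank F (LinearMap.range (polyMap N)) = n := by
      rw [LinearMap.finrank_range_of_inj hinj, hV]
    have hd2 : Module.finrank F (commutant N) ≤ n := by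
      have := LinearMap.finrank_le_finrank_of_injective hev
      rw [hV] at this; exact this
    have heq : LinearMap.range (polyMap N) = commutant N :=
      Submodule.eq_of_le_of_finrank_le hle (by rw [hd1]; exact hd2)
    intro X hX
    have : X ∈ LinearMap.range (polyMap N) := by rw [heq]; exact hX
    exact this


theorem isUnit_polyMap_iff {F : Type*} [Field F] {k : ℕ}
    (N : Matrix (Fin (k + 1)) (Fin (k + 1)) F) (hnil : N ^ (k + 1) = 0) (hk : N ^ k ≠ 0)
    (a : Fin (k + 1) → F) : IsUnit (polyMap N a) ↔ a 0 ≠ 0 := by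
  have hsplit : polyMap N a = a 0 • 1 + N * ∑ i : Fin k, a i.succ • N ^ (i : ℕ) := by
    rw [polyMap_apply, Fin.sum_univ_succ]
    simp only [Fin.val_zero, pow_zero, Fin.val_succ]
    rw [Finset.mul_sum]
    congr 1
    refine Finset.sum_congr rfl (fun i _ => ?_)
    rw [Matrix.mul_smul, ← pow_succ']
  set Q := ∑ i : Fin k, a i.succ • N ^ (i : ℕ) with hQ
  have hcomm : Commute N Q := by
    rw [hQ]
    refine Commute.sum_right _ _ _ (fun i _ => ?_)
    exact (Commute.pow_right (Commute.refl N) _).smul_right _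
  constructor
  · intro hu h0
    rw [hsplit, h0, zero_smul, zero_add] at hu
    have h1 : (N * Q) * N ^ k = 0 := by
      rw [hcomm.eq, mul_assoc, ← pow_succ', hnil, mul_zero]
    exact hk (hu.mul_right_eq_zero.1 h1)
  · intro h0
    rw [hsplit]
    have hnilNQ : IsNilpotent (N * Q) := Commute.isNilpotent_mul_right hcomm ⟨k + 1, hnil⟩
    have hu : IsUnit (a 0 • (1 : Matrix (Fin (k + 1)) (Fin (k + 1)) F)) := by
      rw [← Algebra.algebraMap_eq_smul_one]
      exact (IsUnit.mk0 _ h0).map (algebraMap F _)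
    exact IsNilpotent.isUnit_add_left_of_commute hnilNQ hu ((Commute.one_right _).smul_right _)

theorem card_T {F : Type*} [Field F] [Fintype F] (k : ℕ) :
    Nat.card {a : Fin (k + 1) → F // a 0 ≠ 0} = (Fintype.card F - 1) * Fintype.card F ^ k := by
  classical
  have e1 : {p : F × (Fin k → F) // p.1 ≠ 0} ≃ {a : Fin (k + 1) → F // a 0 ≠ 0} :=
    (Fin.consEquiv (fun _ => F)).subtypeEquiv (fun p => by simp [Fin.consEquiv])
  have e2 : {p : F × (Fin k → F) // p.1 ≠ 0} ≃ {x : F // x ≠ 0} × (Fin k → F) :=
    Equiv.prodSubtypeFstEquivSubtypeProd (α := F) (β := Fin k → F) (p := fun x => x ≠ 0)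
  rw [Nat.card_congr (e1.symm.trans e2), Nat.card_prod, Nat.card_eq_fintype_card,
    Nat.card_eq_fintype_card, Fintype.card_subtype_compl, Fintype.card_subtype_eq,
    Fintype.card_fun, Fintype.card_fin]

/-- Centraliser of a regular unipotent element in GL_n(q): if u is an invertible n × n matrix over the field with q elements, n ≥ 1, with (u − 1)^n = 0 and rank(u − 1) = n − 1 (a single unipotent Jordan block), then its centraliser in GL_n(q) has order (q − 1) q^(n−1). -/
theorem result {F : Type*} [Field F] [Fintype F] {q n : ℕ} (hF : Fintype.card F = q) (hn : 1 ≤ n) (u : GL (Fin n) F) (hnil : ((u : Matrix (Fin n) (Fin n) F) - 1) ^ n = 0) (hreg : ((u : Matrix (Fin n) (Fin n) F) - 1).rank = n - 1) : Nat.card ↥(Subgroup.centralizer ({u} : Set (GL (Fin n) F))) = (q - 1) * q ^ (n - 1) := by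
  classical
  obtain ⟨k, rfl⟩ : ∃ k, n = k + 1 := ⟨n - 1, by omega⟩
  subst hF
  simp only [Nat.add_sub_cancel] at hreg ⊢
  set U : Matrix (Fin (k + 1)) (Fin (k + 1)) F := (u : Matrix (Fin (k + 1)) (Fin (k + 1)) F) with hU
  set N := U - 1 with hN
  obtain ⟨hk, hinj, hsurj⟩ := regular_structure (by omega) N hnil (by simpa using hreg)
  simp only [Nat.add_sub_cancel] at hk
  have hcommU : ∀ P : Matrix (Fin (k + 1)) (Fin (k + 1)) F, P * N = N * P ↔ U * P = P * U := by
    intro P
    rw [hN, mul_sub, sub_mul, mul_one, one_mul, sub_left_inj]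
    exact eq_comm
  rw [← card_T k]
  symm
  refine Nat.card_congr (Equiv.ofBijective
    (fun a : {a : Fin (k + 1) → F // a 0 ≠ 0} =>
      (⟨((isUnit_polyMap_iff N hnil hk a.1).2 a.2).unit, by
        rw [Subgroup.mem_centralizer_iff]
        intro h hh
        rw [Set.mem_singleton_iff] at hh
        subst hh
        apply Units.ext
        rw [Units.val_mul, Units.val_mul, IsUnit.unit_spec]
        exact (hcommU _).1 (polyMap_comm N a.1)⟩ :
        ↥(Subgroup.centralizer ({u} : Set (GL (Fin (k + 1)) F))))) ⟨?_, ?_⟩)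
  · intro a a' h
    have h1 := congrArg (fun g : ↥(Subgroup.centralizer ({u} : Set (GL (Fin (k + 1)) F))) =>
      ((g : GL (Fin (k + 1)) F) : Matrix (Fin (k + 1)) (Fin (k + 1)) F)) h
    simp only [IsUnit.unit_spec] at h1
    exact Subtype.ext (hinj h1)
  · rintro ⟨g, hg⟩
    rw [Subgroup.mem_centralizer_iff] at hg
    have h1 := hg u (Set.mem_singleton u)
    have h2 : U * (g : Matrix (Fin (k + 1)) (Fin (k + 1)) F)
        = (g : Matrix (Fin (k + 1)) (Fin (k + 1)) F) * U := by
      have := congrArg (fun g : GL (Fin (k + 1)) F => (g : Matrix (Fin (k + 1)) (Fin (k + 1)) F)) h1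
      simpa using this
    obtain ⟨a, ha⟩ := hsurj _ ((hcommU _).2 h2)
    have ha0 : a 0 ≠ 0 := (isUnit_polyMap_iff N hnil hk a).1 (by rw [ha]; exact g.isUnit)
    refine ⟨⟨a, ha0⟩, ?_⟩
    apply Subtype.ext
    apply Units.ext
    simp only [IsUnit.unit_spec]
    exact ha

end Cfsg.Agent.S2571
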