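import Cfsg.Statements.S2592
import Cfsg.Agent.Lib.helper48.SpRegUnip

set_option autoImplicit false
open Cfsg

namespace Cfsg.Agent.S2592

open Matrix Cfsg.Agent.Lib.helper48

/-- the element `s = u - u⁻¹` attached to a regular unipotent symplectic matrix is a
skew-adjoint regular nilpotent matrix with the same commutant -/
theorem s_props {F : Type*} [Field F] [Fintype F] (hq : Odd (Fintype.card F)) {m : ℕ} (hm : 1 ≤ m)
    (U : Matrix (Fin m ⊕ Fin m) (Fin m ⊕ Fin m) F) (hU : sig U * U = 1)
    (hnil : (U - 1) ^ (m + m) = 0) (hreg : (U - 1).rank = m + m - 1) :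
    (U - sig U) ^ (m + m) = 0 ∧ (U - sig U).rank = m + m - 1 ∧ sig (U - sig U) = -(U - sig U) ∧
      (∀ X : Matrix (Fin m ⊕ Fin m) (Fin m ⊕ Fin m) F,
        (U - sig U) * X = X * (U - sig U) ↔ U * X = X * U) := by
  classical
  have h2 : (2 : F) ≠ 0 := two_ne_zero_of_odd_card hq
  have hU' : U * sig U = 1 := mul_eq_one_comm.1 hU
  set N := U - 1 with hN
  set s := U - sig U with hsdef
  set W := sig U * (U + 1) with hW
  have hs : sig s = -s := by rw [hsdef, sig_sub, sig_sig]; abel
  have hsW : s = N * W := by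
    have e : (U - 1) * (sig U * (U + 1)) = (U * sig U) * U + U * sig U - sig U * U - sig U := by
      noncomm_ring
    rw [hsdef, hW, hN, e, hU', hU]
    noncomm_ring
  have hsW' : s = W * N := by
    have e : (sig U * (U + 1)) * (U - 1) = (sig U * U) * U - sig U := by
      noncomm_ring
    rw [hsdef, hW, hN, e, hU]
    noncomm_ring
  have hcomm : Commute N W := by
    show N * W = W * N
    rw [← hsW, ← hsW']
  have hU1 : IsUnit (U + 1) := by
    have e : U + 1 = (2 : F) • (1 : Matrix (Fin m ⊕ Fin m) (Fin m ⊕ Fin m) F) + N := by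
      rw [hN, two_smul]; abel
    rw [e]
    have hu : IsUnit ((2 : F) • (1 : Matrix (Fin m ⊕ Fin m) (Fin m ⊕ Fin m) F)) := by
      rw [← Algebra.algebraMap_eq_smul_one]
      exact (IsUnit.mk0 _ h2).map (algebraMap F _)
    exact IsNilpotent.isUnit_add_left_of_commute ⟨m + m, hnil⟩ hu
      ((Commute.one_right _).smul_right _)
  have hWu : IsUnit W := (IsUnit.of_mul_eq_one _ hU).mul hU1
  refine ⟨?_, ?_, hs, ?_⟩
  · rw [hsW, hcomm.mul_pow, hnil, zero_mul]
  · rw [hsW, Matrix.rank_mul_eq_left_of_isUnit_det W N ((Matrix.isUnit_iff_isUnit_det _).1 hWu)]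
    exact hreg
  · intro X
    constructor
    · intro h
      obtain ⟨-, hsurj⟩ := reg_struct hm s (by rw [hsW, hcomm.mul_pow, hnil, zero_mul])
        (by rw [hsW, Matrix.rank_mul_eq_left_of_isUnit_det W N
          ((Matrix.isUnit_iff_isUnit_det _).1 hWu)]; exact hreg)
      obtain ⟨a, rfl⟩ := hsurj X h.symm
      refine polyS_comm_of_comm s U ?_ a
      rw [hsdef, mul_sub, sub_mul, hU, hU']
    · intro h
      have h1 : sig U * X = X * sig U := by
        calc sig U * X = sig U * X * (U * sig U) := by rw [hU', mul_one]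
          _ = sig U * (X * U) * sig U := by noncomm_ring
          _ = sig U * (U * X) * sig U := by rw [h]
          _ = (sig U * U) * X * sig U := by noncomm_ring
          _ = X * sig U := by rw [hU, one_mul]
      rw [hsdef, sub_mul, mul_sub, h, h1]

/-- Over a finite field with q elements, q odd, the centraliser in Sp_2m(F) (m ≥ 1) of a regular unipotent element (u − 1 nilpotent of rank 2m − 1) has order 2 q^m. -/
theorem result {F : Type*} [Field F] [Fintype F] {q : ℕ} (hF : Fintype.card F = q) (hq : Odd q) {m : ℕ} (hm : 1 ≤ m) (u : Matrix.symplecticGroup (Fin m) F) (hnil : ((u : Matrix (Fin m ⊕ Fin m) (Fin m ⊕ Fin m) F) - 1) ^ (2 * m) = 0) (hreg : ((u : Matrix (Fin m ⊕ Fin m) (Fin m ⊕ Fin m) F) - 1).rank = 2 * m - 1) : Nat.card ↥(Subgroup.centralizer ({u} : Set ↥(Matrix.symplecticGroup (Fin m) F))) = 2 * q ^ m := by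
  classical
  subst hF
  rw [two_mul] at hnil hreg
  set U : Matrix (Fin m ⊕ Fin m) (Fin m ⊕ Fin m) F := (u : Matrix (Fin m ⊕ Fin m) (Fin m ⊕ Fin m) F)
    with hUdef
  have hU : sig U * U = 1 := (mem_symplectic_iff_sig U).1 u.2
  obtain ⟨hsnil, hsreg, hs, hsc⟩ := s_props hq hm U hU hnil hreg
  rw [← card_unitary_commutant hq hm (U - sig U) hsnil hsreg hs]
  refine Nat.card_congr
    { toFun := fun g => ⟨((g : ↥(Matrix.symplecticGroup (Fin m) F)) :
          Matrix (Fin m ⊕ Fin m) (Fin m ⊕ Fin m) F), ?_, ?_⟩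
      invFun := fun y => ⟨⟨y.1, (mem_symplectic_iff_sig _).2 y.2.2⟩, ?_⟩
      left_inv := fun g => rfl
      right_inv := fun y => rfl }
  · rw [hsc]
    have h := Subgroup.mem_centralizer_iff.1 g.2 u (Set.mem_singleton u)
    have h' := congrArg (Subtype.val) h
    simpa using h'
  · exact (mem_symplectic_iff_sig _).1 g.1.2
  · rw [Subgroup.mem_centralizer_iff]
    intro h hh
    rw [Set.mem_singleton_iff] at hh
    subst hh
    apply Subtype.ext
    show U * y.1 = y.1 * U
    exact (hsc y.1).1 y.2.1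

end Cfsg.Agent.S2592
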