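import Cfsg.Statements.S0295
import Cfsg.Agent.S0786
import Cfsg.Agent.Lib.helper49.Forms
import Cfsg.Agent.Lib.helper42.FormsNondeg
import Cfsg.Agent.Lib.helper7.OmegaSimple

set_option autoImplicit false
open Cfsg

namespace Cfsg.Agent.S0295

open Cfsg.Agent.Lib.helper49 Cfsg.Agent.Lib.helper42 in
/-- the polar form of the odd-dimensional standard form is non-degenerate in odd characteristic -/
theorem oddForm_nondegenerate {F : Type*} [Field F] (h2 : (2 : F) ≠ 0) (m : ℕ) :
    (QuadraticMap.polarBilin (oddForm m F)).Nondegenerate := by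
  have h1 : QuadraticMap.polarBilin (oddForm m F) = Matrix.toBilin' (gramOdd m F) := by
    refine LinearMap.ext₂ (fun u v => ?_)
    rw [QuadraticMap.polarBilin_apply_apply, oddForm_coe, polar_quadFormOdd]
  rw [h1]
  apply (Matrix.nondegenerate_toBilin'_iff).mpr
  rw [Matrix.nondegenerate_iff_det_ne_zero, gramOdd, Matrix.det_fromBlocks_zero₂₁]
  refine mul_ne_zero ?_ (det_gramPlus_ne_zero m)
  rw [Matrix.det_unique]
  exact h2

/-- PΩ_{2m+1}(q) is simple for q odd and m at least 3. -/
theorem result {F : Type*} [Field F] [Fintype F] (hodd : Odd (Fintype.card F)) (m : ℕ) (hm : 3 ≤ m) : IsSimpleGroup (Cfsg.POmega F (Cfsg.quadFormOdd m F)) := by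
  have hF : (2 : F) ≠ 0 := by
    apply Ring.two_ne_zero
    intro hchar
    have := FiniteField.even_card_of_char_two hchar
    rcases hodd with ⟨t, ht⟩
    omega
  have hQ := oddForm_nondegenerate hF m
  have hcard : Fintype.card (Unit ⊕ (Fin m ⊕ Fin m)) = 1 + (m + m) := by simp
  exact Cfsg.Agent.Lib.helper7.RootElt.isSimpleGroup_POmega (Cfsg.Agent.Lib.helper49.oddForm m F) hQ
    (by rw [hcard]; omega)
    (Cfsg.Agent.S0786.reflSubgroup_eq_top' _ hQ (Or.inr (by rw [hcard]; omega)))

end Cfsg.Agent.S0295
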