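-- Statement S2611 (row 2611).
import Cfsg.Statements.S2611
import Cfsg.Agent.Lib.helper49.Levi

set_option autoImplicit false
open Cfsg

namespace Cfsg.Agent.S2611

open Matrix Cfsg.Agent.Lib.helper49

/-- An invertible matrix is the product of a determinant-one matrix and `diag(det, 1, …, 1)`. -/
theorem exists_sl_mul_diag {F : Type*} [Field F] {m : ℕ} (i₀ : Fin m) (A : GL (Fin m) F) (d : F) (hd : d ≠ 0)
    (hdet : (A : Matrix (Fin m) (Fin m) F).det = d) :
    ∃ A₀ : Matrix.SpecialLinearGroup (Fin m) F,
      A = Matrix.SpecialLinearGroup.toGL A₀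
        * diagGL (Function.update (1 : Fin m → F) i₀ d) (update_one_ne_zero i₀ d hd) := by
  set D := diagGL (Function.update (1 : Fin m → F) i₀ d) (update_one_ne_zero i₀ d hd) with hD
  have hDdet : (D : Matrix (Fin m) (Fin m) F).det = d := det_diagGL_update i₀ d hd
  have h1 : ((A * D⁻¹ : GL (Fin m) F) : Matrix (Fin m) (Fin m) F).det = 1 := by
    have h2 : ((A * D⁻¹ : GL (Fin m) F) : Matrix (Fin m) (Fin m) F).det * d = d := by
      rw [← hDdet, ← Matrix.det_mul, ← Units.val_mul, inv_mul_cancel_right, hDdet, hdet]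
    exact mul_right_cancel₀ hd (by rw [h2, one_mul])
  refine ⟨⟨((A * D⁻¹ : GL (Fin m) F) : Matrix (Fin m) (Fin m) F), h1⟩, ?_⟩
  have : Matrix.SpecialLinearGroup.toGL
      (⟨((A * D⁻¹ : GL (Fin m) F) : Matrix (Fin m) (Fin m) F), h1⟩ : Matrix.SpecialLinearGroup (Fin m) F)
      = A * D⁻¹ := Units.ext rfl
  rw [this, inv_mul_cancel_right]

/-- For the hyperbolic quadratic form Σ x_i y_i on F^(2m) (F finite, m ≥ 1, excluding m = 2 over the field of two elements) and an invertible m × m matrix A, the block-diagonal isometry diag(A, (A⁻¹)ᵀ), which stabilises the two maximal totally singular subspaces x = 0 and y = 0, lies in Ω⁺_2m(F) (the commutator subgroup of the orthogonal group) if and only if det A is a square in F. -/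
theorem result {F : Type*} [Field F] [Fintype F] {m : ℕ} (hm : 1 ≤ m) (h : Fintype.card F ≠ 2 ∨ m ≠ 2) (A : GL (Fin m) F) : (∃ g : ↥(Cfsg.isometryGroup F (Cfsg.quadFormPlus m F)), g ∈ Cfsg.Omega F (Cfsg.quadFormPlus m F) ∧ ((g : Matrix.GeneralLinearGroup (Fin m ⊕ Fin m) F) : Matrix (Fin m ⊕ Fin m) (Fin m ⊕ Fin m) F) = Matrix.fromBlocks (A : Matrix (Fin m) (Fin m) F) 0 0 ((A : Matrix (Fin m) (Fin m) F)⁻¹).transpose) ↔ IsSquare (A : Matrix (Fin m) (Fin m) F).det := by
  classical
  have hAu : IsUnit (A : Matrix (Fin m) (Fin m) F).det := (Matrix.isUnit_iff_isUnit_det _).mp A.isUnit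
  have hA0 : (A : Matrix (Fin m) (Fin m) F).det ≠ 0 := hAu.ne_zero
  let i₀ : Fin m := ⟨0, hm⟩
  constructor
  · rintro ⟨g, hg, hgA⟩
    have hgl : g = levi A := by
      apply Subtype.ext
      apply Units.ext
      rw [hgA, levi_val]
    by_cases h2 : (2 : F) = 0
    · have hchar : ringChar F = 2 := by
        have h := (ringChar.spec F 2).mp (by exact_mod_cast h2)
        rcases (Nat.dvd_prime Nat.prime_two).mp h with h1 | h1
        · exact absurd h1 (CharP.ringChar_ne_one)
        · exact h1
      exact FiniteField.isSquare_of_char_two hchar _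
    · set d := (A : Matrix (Fin m) (Fin m) F).det with hd
      obtain ⟨A₀, hA₀⟩ := exists_sl_mul_diag i₀ A d hA0 rfl
      set D := diagGL (Function.update (1 : Fin m → F) i₀ d) (update_one_ne_zero i₀ d hA0) with hD
      have hDmem : levi D ∈ Cfsg.Omega F (Cfsg.quadFormPlus m F) := by
        have : levi D = (levi (Matrix.SpecialLinearGroup.toGL A₀))⁻¹ * levi A := by
          rw [hA₀, map_mul, inv_mul_cancel_left]
        rw [this]
        exact mul_mem (inv_mem (levi_toGL_mem_Omega h A₀)) (hgl ▸ hg)
      -- `levi D` is a product of two reflections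
      set e : Fin m ⊕ Fin m → F := Pi.single (Sum.inl i₀) 1 with he
      set f : Fin m ⊕ Fin m → F := Pi.single (Sum.inr i₀) 1 with hf
      have hQe : plusForm m F e = 0 := plusForm_single m _
      have hQf : plusForm m F f = 0 := plusForm_single m _
      have hef : QuadraticMap.polar (plusForm m F) e f = 1 := by
        rw [polar_plusForm_single]
        simp [gramPlus]
      have hmat : ((levi D : Matrix.GeneralLinearGroup (Fin m ⊕ Fin m) F) :
            Matrix (Fin m ⊕ Fin m) (Fin m ⊕ Fin m) F)
          = ([e - (1 : F) • f, e - d • f].map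
              (fun v => Cfsg.reflectionMatrix ⇑(plusForm m F) v)).prod := by
        rw [List.map_cons, List.map_cons, List.map_nil, List.prod_cons, List.prod_cons, List.prod_nil,
          Matrix.mul_one]
        have hlev : ((levi D : Matrix.GeneralLinearGroup (Fin m ⊕ Fin m) F) :
            Matrix (Fin m ⊕ Fin m) (Fin m ⊕ Fin m) F)
            = Matrix.fromBlocks (Matrix.diagonal (Function.update (1 : Fin m → F) i₀ d)) 0 0
                (Matrix.diagonal (fun k => (Function.update (1 : Fin m → F) i₀ d k)⁻¹)) := by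
          rw [levi_val, ← Matrix.coe_units_inv, hD, diagGL_inv_val, diagGL_val, Matrix.diagonal_transpose]
        rw [hlev]
        exact diag_eq_rot i₀ d hA0
      have hcrit := (spinor_criterion h2 (plusForm m F) (levi D) [e - (1 : F) • f, e - d • f] (by
        intro v hv
        simp only [List.mem_cons, List.not_mem_nil, or_false] at hv
        rcases hv with rfl | rfl
        · rw [hyp_Q _ e f hQe hQf hef]
          simp
        · rw [hyp_Q _ e f hQe hQf hef]
          simpa using hA0) hmat).mp hDmem
      have hsq := hcrit.2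
      rw [List.map_cons, List.map_cons, List.map_nil, List.prod_cons, List.prod_cons, List.prod_nil,
        hyp_Q _ e f hQe hQf hef, hyp_Q _ e f hQe hQf hef] at hsq
      simpa using hsq
  · rintro ⟨s, hs⟩
    have hs0 : s ≠ 0 := by
      rintro rfl
      rw [mul_zero] at hs
      exact hA0 hs
    obtain ⟨A₀, hA₀⟩ := exists_sl_mul_diag i₀ A (s * s) (mul_ne_zero hs0 hs0) hs
    set B := diagGL (Function.update (1 : Fin m → F) i₀ s) (update_one_ne_zero i₀ s hs0) with hB
    have hBB : diagGL (Function.update (1 : Fin m → F) i₀ (s * s))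
        (update_one_ne_zero i₀ (s * s) (mul_ne_zero hs0 hs0)) = B * B := by
      apply Units.ext
      rw [Units.val_mul, diagGL_val, diagGL_val, Matrix.diagonal_mul_diagonal]
      congr 1
      funext k
      by_cases hk : k = i₀
      · subst hk; simp
      · simp [Function.update_of_ne hk]
    refine ⟨levi A, ?_, levi_val A⟩
    rw [hA₀, hBB, map_mul]
    refine mul_mem (levi_toGL_mem_Omega h A₀) (levi_sq_mem_Omega B ?_)
    rw [diagGL_val, Matrix.diagonal_transpose]

end Cfsg.Agent.S2611
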