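import Cfsg.Statements.S5425
import Cfsg.Agent.Lib.helper6.UpTransfer
import Cfsg.Agent.Lib.helper6.AutElem
import Cfsg.Agent.Lib.helper6.TblGrp
import Cfsg.Agent.Lib.helper33.OctadStab
import Cfsg.Agent.Lib.helper9.M24Trans

set_option autoImplicit false
set_option maxRecDepth 100000
open scoped Pointwise
open Cfsg

namespace Cfsg.Agent.S5425

open Cfsg.Agent.Lib.helper33 Cfsg.Agent.Lib.helper9 Cfsg.Agent.Lib.helper6
  Cfsg.Agent.Lib.helper6.TblGrp Cfsg.Agent.Lib.helper92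

/-- the sixteen elements fixing the base octad pointwise -/
def TL16 : List (List ℕ) := [[0, 1, 2, 3, 4, 5, 6, 7, 8, 9, 10, 11, 12, 13, 14, 15, 16, 17, 18, 19, 20, 21, 22, 23],
  [0, 1, 2, 3, 4, 6, 5, 7, 18, 14, 10, 23, 12, 15, 9, 13, 21, 22, 8, 20, 19, 16, 17, 11],
  [0, 1, 2, 3, 4, 8, 18, 7, 5, 20, 10, 13, 12, 11, 19, 23, 17, 16, 6, 14, 9, 22, 21, 15],
  [0, 1, 2, 3, 4, 9, 14, 7, 20, 5, 10, 17, 12, 16, 6, 21, 13, 11, 19, 18, 8, 15, 23, 22],
  [0, 1, 2, 3, 4, 11, 23, 7, 13, 17, 10, 5, 12, 8, 22, 18, 20, 9, 15, 21, 16, 19, 14, 6],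
  [0, 1, 2, 3, 4, 13, 15, 7, 11, 16, 10, 8, 12, 5, 21, 6, 9, 20, 23, 22, 17, 14, 19, 18],
  [0, 1, 2, 3, 4, 14, 9, 7, 19, 6, 10, 22, 12, 21, 5, 16, 15, 23, 20, 8, 18, 13, 11, 17],
  [0, 1, 2, 3, 4, 15, 13, 7, 23, 21, 10, 18, 12, 6, 16, 5, 14, 19, 11, 17, 22, 9, 20, 8],
  [0, 1, 2, 3, 4, 16, 21, 7, 17, 13, 10, 20, 12, 9, 15, 14, 5, 8, 22, 23, 11, 6, 18, 19],
  [0, 1, 2, 3, 4, 17, 22, 7, 16, 11, 10, 9, 12, 20, 23, 19, 8, 5, 21, 15, 13, 18, 6, 14],
  [0, 1, 2, 3, 4, 18, 8, 7, 6, 19, 10, 15, 12, 23, 20, 11, 22, 21, 5, 9, 14, 17, 16, 13],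
  [0, 1, 2, 3, 4, 19, 20, 7, 14, 18, 10, 21, 12, 22, 8, 17, 23, 15, 9, 5, 6, 11, 13, 16],
  [0, 1, 2, 3, 4, 20, 19, 7, 9, 8, 10, 16, 12, 17, 18, 22, 11, 13, 14, 6, 5, 23, 15, 21],
  [0, 1, 2, 3, 4, 21, 16, 7, 22, 15, 10, 19, 12, 14, 13, 9, 6, 18, 17, 11, 23, 5, 8, 20],
  [0, 1, 2, 3, 4, 22, 17, 7, 21, 23, 10, 14, 12, 19, 11, 20, 18, 6, 16, 13, 15, 8, 5, 9],
  [0, 1, 2, 3, 4, 23, 11, 7, 15, 22, 10, 6, 12, 18, 17, 8, 19, 14, 13, 16, 21, 20, 9, 5]]

/-- an element of the stabiliser of the base octad -/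
def tg : List ℕ := [0, 1, 2, 3, 4, 23, 19, 10, 18, 16, 12, 15, 7, 6, 5, 21, 20, 17, 22, 13, 9, 11, 8, 14]

/-- an element fixing the base octad pointwise -/
def tu : List ℕ := [0, 1, 2, 3, 4, 6, 5, 7, 18, 14, 10, 23, 12, 15, 9, 13, 21, 22, 8, 20, 19, 16, 17, 11]

theorem TL16_grp : IsTblGroup TL16 := isTblGroup_of TL16 (by decide +kernel)

theorem TL16_chk : TL16.all (fun t => chkTbl t && fixesMask t 5279) = true := by decide +kernel

theorem TL16_distinct : TL16.Pairwise (fun a b => eqT a b = false) := by decide +kernel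

theorem TL16_comm : TL16.all (fun t => TL16.all fun s => eqT (compT t s) (compT s t)) = true := by
  decide +kernel

theorem TL16_sq : TL16.all (fun t => eqT (compT t t) idTbl) = true := by decide +kernel

theorem fix0_eq : fixOct oct0 = tblSubgroup TL16 TL16_grp := by
  symm
  apply Subgroup.eq_of_le_of_card_ge
  · rintro σ ⟨t, ht, rfl⟩
    have h := List.all_eq_true.mp TL16_chk t ht
    rw [Bool.and_eq_true] at h
    have hv := TL16_grp.valid t ht
    exact mem_fixOct.2 ⟨pT_mem_M24 hv h.1, fix_of_fixesMask (isTable_pT hv) h.2⟩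
  · rw [card_fixOct0, card_tblSubgroup TL16 TL16_grp TL16_distinct]
    decide

theorem fix0_comm : ∀ g ∈ fixOct oct0, ∀ h ∈ fixOct oct0, g * h = h * g := by
  intro g hg h hh
  rw [fix0_eq] at hg hh
  obtain ⟨t, ht, rfl⟩ := hg
  obtain ⟨s, hs, rfl⟩ := hh
  have hvt := TL16_grp.valid t ht
  have hvs := TL16_grp.valid s hs
  have hc := List.all_eq_true.mp (List.all_eq_true.mp TL16_comm t ht) s hs
  exact eq_of_eqT (Cfsg.Agent.Lib.helper9.isTable_mul (isTable_pT hvt) (isTable_pT hvs))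
    (Cfsg.Agent.Lib.helper9.isTable_mul (isTable_pT hvs) (isTable_pT hvt)) hc

theorem fix0_sq : ∀ g ∈ fixOct oct0, g * g = 1 := by
  intro g hg
  rw [fix0_eq] at hg
  obtain ⟨t, ht, rfl⟩ := hg
  have hvt := TL16_grp.valid t ht
  have hc := List.all_eq_true.mp TL16_sq t ht
  exact eq_of_eqT (Cfsg.Agent.Lib.helper9.isTable_mul (isTable_pT hvt) (isTable_pT hvt))
    isTable_one hc

theorem witness0 : ∃ g ∈ stabOct oct0, ∃ u ∈ fixOct oct0, g * u ≠ u * g := by
  have hvg : tvalid tg = true := by decide +kernel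
  have htu : tu ∈ TL16 := by decide
  refine ⟨pT tg, mem_stabOct.2 ⟨pT_mem_M24 hvg (by decide +kernel), ?_⟩, pT tu, ?_, ?_⟩
  · show pT tg • decSet 5279 = decSet 5279
    rw [pT_smul_decSet hvg]
    exact congrArg decSet (by decide +kernel)
  · rw [fix0_eq]; exact pT_mem_tblSubgroup _ htu
  · have := prod_ne_prod' [tg, tu] [tu, tg] (by decide +kernel)
    simpa using this

/-! ### General octads -/

theorem fix_comm {o : Finset GolayPt} (ho : o ∈ octads) :
    ∀ g ∈ fixOct o, ∀ h ∈ fixOct o, g * h = h * g := by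
  obtain ⟨a, ha, rfl⟩ := exists_smul_oct0 ho
  rw [fixOct_smul a ha]
  rintro _ ⟨g, hg, rfl⟩ _ ⟨h, hh, rfl⟩
  show a * g * a⁻¹ * (a * h * a⁻¹) = a * h * a⁻¹ * (a * g * a⁻¹)
  have := fix0_comm g hg h hh
  calc a * g * a⁻¹ * (a * h * a⁻¹) = a * (g * h) * a⁻¹ := by group
    _ = a * (h * g) * a⁻¹ := by rw [this]
    _ = a * h * a⁻¹ * (a * g * a⁻¹) := by group

theorem fix_sq {o : Finset GolayPt} (ho : o ∈ octads) : ∀ g ∈ fixOct o, g * g = 1 := by
  obtain ⟨a, ha, rfl⟩ := exists_smul_oct0 ho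
  rw [fixOct_smul a ha]
  rintro _ ⟨g, hg, rfl⟩
  show a * g * a⁻¹ * (a * g * a⁻¹) = 1
  have := fix0_sq g hg
  calc a * g * a⁻¹ * (a * g * a⁻¹) = a * (g * g) * a⁻¹ := by group
    _ = 1 := by rw [this]; group

theorem witness {o : Finset GolayPt} (ho : o ∈ octads) :
    ∃ g ∈ stabOct o, ∃ u ∈ fixOct o, g * u ≠ u * g := by
  obtain ⟨a, ha, rfl⟩ := exists_smul_oct0 ho
  obtain ⟨g, hg, u, hu, hne⟩ := witness0
  refine ⟨a * g * a⁻¹, ?_, a * u * a⁻¹, ?_, ?_⟩
  · rw [mem_stabOct] at hg ⊢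
    refine ⟨M24.mul_mem (M24.mul_mem ha hg.1) (M24.inv_mem ha), ?_⟩
    rw [mul_smul, mul_smul, inv_smul_smul, hg.2]
  · rw [fixOct_smul a ha]
    exact ⟨u, hu, rfl⟩
  · intro h
    apply hne
    have e1 : g * u = a⁻¹ * (a * g * a⁻¹ * (a * u * a⁻¹)) * a := by group
    have e2 : u * g = a⁻¹ * (a * u * a⁻¹ * (a * g * a⁻¹)) * a := by group
    rw [e1, e2, h]


/-! ### The octad stabiliser as a split extension -/

/-- the inclusion of the stabiliser of `o` into the group of the code -/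
def incl (o : Finset GolayPt) : ↥(stabOct o) →* ↥M24 :=
  Subgroup.inclusion (fun _ hg => (mem_stabOct.1 hg).1)

theorem incl_inj (o : Finset GolayPt) : Function.Injective (incl o) :=
  Subgroup.inclusion_injective _

theorem incl_coe (o : Finset GolayPt) (g : ↥(stabOct o)) :
    ((incl o g : ↥M24) : Equiv.Perm GolayPt) = (g : Equiv.Perm GolayPt) := rfl

/-- the centralizer of a non-trivial element fixing the octad pointwise stabilises the octad -/
theorem cent_le_range {o : Finset GolayPt} (ho : o ∈ octads) (u : ↥(stabOct o))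
    (hu : (u : Equiv.Perm GolayPt) ∈ fixOct o) (hu1 : u ≠ 1) :
    Subgroup.centralizer ({incl o u} : Set ↥M24) ≤ (incl o).range := by
  intro x hx
  rw [Subgroup.mem_centralizer_singleton_iff] at hx
  have hxu : (x : Equiv.Perm GolayPt) * (u : Equiv.Perm GolayPt) =
      (u : Equiv.Perm GolayPt) * (x : Equiv.Perm GolayPt) := congrArg Subtype.val hx
  have hsub : (x : Equiv.Perm GolayPt) • o ⊆ o := by
    intro q hq
    obtain ⟨p, hp, rfl⟩ := Finset.mem_smul_finset.mp hq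
    by_contra hnot
    have h1 : (u : Equiv.Perm GolayPt) ((x : Equiv.Perm GolayPt) p) =
        (x : Equiv.Perm GolayPt) p := by
      have h2 := congrArg (fun e : Equiv.Perm GolayPt => e p) hxu
      simp only [Equiv.Perm.mul_apply] at h2
      rw [← h2, (mem_fixOct.1 hu).2 p hp]
    have h3 := fixOct_stab_trivial ho hnot (u : Equiv.Perm GolayPt) hu h1
    exact hu1 (Subtype.ext h3)
  have heq : (x : Equiv.Perm GolayPt) • o = o :=
    Finset.eq_of_subset_of_card_le hsub (by rw [Finset.card_smul_finset])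
  exact ⟨⟨x.1, mem_stabOct.2 ⟨x.2, heq⟩⟩, Subtype.ext rfl⟩

theorem card_octad (o : Finset GolayPt) (ho : o ∈ octads) : Nat.card ↥o = 8 := by
  rw [Nat.card_eq_fintype_card, Fintype.card_coe]
  exact ho.2

theorem main (z : ↥M24) (hz : orderOf z = 2) (o : Finset GolayPt) (ho : o ∈ octads)
    (hfix : ∀ p, p ∈ o ↔ (z : Equiv.Perm GolayPt) p = p) :
    Cfsg.IsExtraspecial 2 ↥(QO z) ∧ Nat.card ↥(QO z) = 2 ^ 7 ∧
      (∃ E : Subgroup ↥M24, E ≤ QO z ∧ Cfsg.IsElementaryAbelian 2 E ∧ Nat.card ↥E = 2 ^ 4) ∧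
      Cfsg.IsLargeExtraspecial (QO z) ∧
      ∃ K : Subgroup ↥M24, K ≤ Subgroup.centralizer ({z} : Set ↥M24) ∧ QO z ⊓ K = ⊥ ∧
        QO z ⊔ K = Subgroup.centralizer ({z} : Set ↥M24) ∧
        Nonempty (↥K ≃* Matrix.SpecialLinearGroup (Fin 3) (ZMod 2)) := by
  classical
  have hσ : (z : Equiv.Perm GolayPt) ∈ fixOct o :=
    mem_fixOct.2 ⟨z.2, fun x hx => (hfix x).1 hx⟩
  set zG : ↥(stabOct o) := ⟨z.1, fixOct_le_stabOct o hσ⟩ with hzGdef
  have hincl : incl o zG = z := Subtype.ext rfl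
  have hzG : orderOf zG = 2 := by
    rw [← orderOf_injective (incl o) (incl_inj o) zG, hincl, hz]
  have hzG1 : zG ≠ 1 := by
    intro h; rw [h, orderOf_one] at hzG; exact absurd hzG (by norm_num)
  have hzGsq : zG * zG = 1 := by
    rw [← pow_two, ← hzG, pow_orderOf_eq_one]
  -- the normal subgroup `U`
  let U : Subgroup ↥(stabOct o) := (restrOct o).ker
  have hUmem : ∀ g : ↥(stabOct o), g ∈ U ↔ (g : Equiv.Perm GolayPt) ∈ fixOct o :=
    fun g => mem_ker_restrOct g
  have hUcomm : ∀ x ∈ U, ∀ y ∈ U, x * y = y * x := fun x hx y hy =>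
    Subtype.ext (fix_comm ho x.1 ((hUmem x).1 hx) y.1 ((hUmem y).1 hy))
  have hUsq : ∀ x ∈ U, x * x = 1 := fun x hx => Subtype.ext (fix_sq ho x.1 ((hUmem x).1 hx))
  have hU : Cfsg.IsElementaryAbelian 2 U := by
    refine ⟨isMulCommutative_iff_of_setLike.mpr hUcomm, fun a ha => ?_⟩
    rw [pow_two]; exact hUsq a ha
  have hUcard : Nat.card ↥U = 2 ^ (3 + 1) := by
    rw [card_ker_restrOct ho]; norm_num
  have hzU : zG ∈ U := (hUmem zG).2 hσ
  -- a point outside the octad and its stabiliser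
  obtain ⟨p, hp⟩ : ∃ p : GolayPt, p ∉ o := by
    by_contra hall
    have hall' : ∀ q : GolayPt, q ∈ o := fun q => by
      by_contra h; exact hall ⟨q, h⟩
    have h1 : o = Finset.univ := Finset.eq_univ_iff_forall.2 hall'
    have h2 := ho.2
    rw [h1, Finset.card_univ, golayPt_card] at h2
    exact absurd h2 (by norm_num)
  let M : Subgroup ↥(stabOct o) := MulAction.stabilizer ↥(stabOct o) p
  have hMmem : ∀ g : ↥(stabOct o), g ∈ M ↔ (g : Equiv.Perm GolayPt) p = p :=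
    fun g => MulAction.mem_stabilizer_iff
  have hUM : U ⊓ M = ⊥ := by
    rw [eq_bot_iff]
    rintro g ⟨hgU, hgM⟩
    rw [Subgroup.mem_bot]
    exact Subtype.ext (fixOct_stab_trivial ho hp g.1 ((hUmem g).1 hgU) ((hMmem g).1 hgM))
  have hout : ∀ g : ↥(stabOct o), (g : Equiv.Perm GolayPt) p ∉ o := fun g hg =>
    hp ((mem_iff_of_smul_eq (mem_stabOct.1 g.2).2 p).1 hg)
  have hUM' : U ⊔ M = ⊤ := by
    rw [eq_top_iff]
    intro g _
    obtain ⟨k, hk, hkp⟩ := fixOct_trans ho hp (hout g)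
    have hkU : (⟨k, fixOct_le_stabOct o hk⟩ : ↥(stabOct o)) ∈ U := (hUmem _).2 hk
    have hM : (⟨k, fixOct_le_stabOct o hk⟩ : ↥(stabOct o))⁻¹ * g ∈ M := by
      rw [hMmem]
      show k⁻¹ ((g : Equiv.Perm GolayPt) p) = p
      rw [← hkp]
      exact k.symm_apply_apply p
    have e : g = (⟨k, fixOct_le_stabOct o hk⟩ : ↥(stabOct o)) *
        ((⟨k, fixOct_le_stabOct o hk⟩ : ↥(stabOct o))⁻¹ * g) := by group
    rw [e]
    exact Subgroup.mul_mem_sup hkU hM
  -- the action on the octad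
  have hsimple : IsSimpleGroup (alternatingGroup ↥o) :=
    alternatingGroup.isSimpleGroup (by rw [card_octad o ho]; norm_num)
  have hmemA : ∀ k : stabOct o, restrOct o k ∈ alternatingGroup ↥o := by
    intro k
    rw [← range_restrOct ho]
    exact ⟨k, rfl⟩
  let φ : stabOct o →* alternatingGroup ↥o := (restrOct o).codRestrict _ hmemA
  have hφs : Function.Surjective φ := by
    rintro ⟨a, ha⟩
    rw [← range_restrOct ho] at ha
    obtain ⟨k, hk⟩ := ha
    exact ⟨k, Subtype.ext hk⟩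
  have hφker : ∀ k : stabOct o, φ k = 1 → k ∈ U := by
    intro k hk
    exact MonoidHom.mem_ker.2 (congrArg Subtype.val hk)
  have hfaith : ∀ m ∈ M, (∀ u ∈ U, m * u * m⁻¹ = u) → m = 1 := by
    intro m hmM hm
    have hmC : m ∈ Subgroup.centralizer (U : Set ↥(stabOct o)) := by
      rw [Subgroup.mem_centralizer_iff]
      intro u hu
      have := hm u hu
      calc u * m = (m * u * m⁻¹) * m := by rw [this]
        _ = m * u := by group
    have hCn : ((Subgroup.centralizer (U : Set ↥(stabOct o))).map φ).Normal :=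
      Subgroup.Normal.map inferInstance φ hφs
    rcases hCn.eq_bot_or_eq_top with hbot | htop
    · have h1 : φ m ∈ (Subgroup.centralizer (U : Set ↥(stabOct o))).map φ :=
        Subgroup.mem_map_of_mem φ hmC
      rw [hbot, Subgroup.mem_bot] at h1
      have h2 : m ∈ U ⊓ M := ⟨hφker m h1, hmM⟩
      rw [hUM, Subgroup.mem_bot] at h2
      exact h2
    · exfalso
      obtain ⟨g, hg, u, hu, hne⟩ := witness ho
      have h1 : φ ⟨g, hg⟩ ∈ (Subgroup.centralizer (U : Set ↥(stabOct o))).map φ := by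
        rw [htop]; exact Subgroup.mem_top _
      obtain ⟨c, hc, hcg⟩ := Subgroup.mem_map.1 h1
      have h2 : c⁻¹ * ⟨g, hg⟩ ∈ U := by
        apply hφker
        rw [map_mul, map_inv, hcg, inv_mul_cancel]
      have huU : (⟨u, fixOct_le_stabOct o hu⟩ : ↥(stabOct o)) ∈ U := (hUmem _).2 hu
      have h3 : (⟨u, fixOct_le_stabOct o hu⟩ : ↥(stabOct o)) * c =
          c * ⟨u, fixOct_le_stabOct o hu⟩ := (Subgroup.mem_centralizer_iff.1 hc) _ huU
      have h4 := hUcomm _ h2 _ huU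
      apply hne
      have h5 : (⟨g, hg⟩ : ↥(stabOct o)) * ⟨u, fixOct_le_stabOct o hu⟩ =
          ⟨u, fixOct_le_stabOct o hu⟩ * ⟨g, hg⟩ := by
        have e : (⟨g, hg⟩ : ↥(stabOct o)) = c * (c⁻¹ * ⟨g, hg⟩) := by group
        rw [e, mul_assoc, h4, ← mul_assoc, ← h3, mul_assoc]
      exact congrArg Subtype.val h5
  -- the complement has the order of the automorphism group
  have hMcard : Nat.card ↥M = 20160 := by
    have h := natCard_orbit_mul_stab (G := ↥(stabOct o)) p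
    have horb : MulAction.orbit ↥(stabOct o) p = ((oᶜ : Finset GolayPt) : Set GolayPt) := by
      ext q
      rw [Finset.mem_coe, Finset.mem_compl]
      constructor
      · rintro ⟨g, rfl⟩
        exact hout g
      · intro hq
        obtain ⟨k, hk, hkp⟩ := fixOct_trans ho hp hq
        exact ⟨⟨k, fixOct_le_stabOct o hk⟩, hkp⟩
    rw [horb, Nat.card_coe_set_eq, Set.ncard_coe_finset, Finset.card_compl, golayPt_card, ho.2,
      card_stabOct ho] at h
    show Nat.card ↥(MulAction.stabilizer ↥(stabOct o) p) = 20160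
    omega
  have hAut : Nat.card (MulAut ↥U) ≤ 20160 := by
    have h := card_mulAut_le (V := ↥U) (fun x => Subtype.ext (hUsq x.1 x.2)) 4 hUcard
    rw [Fin.prod_univ_four] at h
    exact h
  let κ : ↥M →* MulAut ↥U := (MulAut.conjNormal (H := U)).comp M.subtype
  have hκ : ∀ (m : ↥M) (u : ↥U), ((κ m u : ↥U) : ↥(stabOct o)) = (m : ↥(stabOct o)) * u * (m : ↥(stabOct o))⁻¹ :=
    fun m u => rfl
  have hκinj : Function.Injective κ := by
    rw [injective_iff_map_eq_one]
    intro m hm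
    apply Subtype.ext
    apply hfaith m.1 m.2
    intro u hu
    have := congrArg (fun e : MulAut ↥U => ((e ⟨u, hu⟩ : ↥U) : ↥(stabOct o))) hm
    exact this
  have hκbij : Function.Bijective κ :=
    Function.Injective.bijective_of_nat_card_le hκinj (by rw [hMcard]; exact hAut)
  have hfull : ∀ ψ : ↥U ≃* ↥U, ∃ m ∈ M, ∀ u : ↥U, ((ψ u : ↥U) : ↥(stabOct o)) = m * u * m⁻¹ := by
    intro ψ
    obtain ⟨m, hm⟩ := hκbij.2 ψ
    refine ⟨m.1, m.2, fun u => ?_⟩
    rw [← hm]
    exact hκ m u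
  -- the subgroup of order two
  have hZU : Subgroup.zpowers zG ≤ U := Subgroup.zpowers_le.2 hzU
  have hZ : Nat.card ↥(Subgroup.zpowers zG) = 2 := by rw [Nat.card_zpowers, hzG]
  have hcentZ : Subgroup.centralizer ((Subgroup.zpowers zG : Subgroup ↥(stabOct o)) : Set ↥(stabOct o)) =
      Subgroup.centralizer ({zG} : Set ↥(stabOct o)) := by
    rw [Subgroup.zpowers_eq_closure, Subgroup.centralizer_closure]
  have hG := affine_structure 3 (by norm_num) U M hU hUcard hUM hUM' hfaith hfull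
    (Subgroup.zpowers zG) hZU hZ (QO zG) (by unfold QO; rw [hcentZ])
  rw [hcentZ] at hG
  -- a further involution of `U`
  obtain ⟨u, huU, hu1, huz⟩ : ∃ u ∈ U, u ≠ 1 ∧ u ≠ zG := by
    by_contra hall
    have hsub : (U : Set ↥(stabOct o)) ⊆ {1, zG} := by
      intro x hx
      by_cases h1 : x = 1
      · exact Or.inl h1
      · refine Or.inr ?_
        by_contra h
        exact hall ⟨x, hx, h1, h⟩
    have h1 : Nat.card ↥U ≤ 2 := by
      have h2 : Nat.card ↥U = Set.ncard (U : Set ↥(stabOct o)) := (Nat.card_coe_set_eq _)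
      rw [h2]
      exact (Set.ncard_le_ncard hsub (Set.toFinite _)).trans (Set.ncard_insert_le _ _ |>.trans (by rw [Set.ncard_singleton]))
    rw [hUcard] at h1
    norm_num at h1
  have hUQ : U ≤ QO zG := by
    refine Cfsg.Agent.Lib.helper27.le_map_pCore_of_normal (p := 2)
      (H := Subgroup.centralizer ({zG} : Set ↥(stabOct o))) ?_ ?_ ?_
    · intro x hx
      rw [Subgroup.mem_centralizer_singleton_iff]
      exact hUcomm x hx zG hzU
    · intro x _
      rw [Subgroup.mem_normalizer_iff]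
      intro y
      constructor
      · intro h
        exact (inferInstance : U.Normal).conj_mem y h x
      · intro h
        have h' := (inferInstance : U.Normal).conj_mem _ h x⁻¹
        have e : x⁻¹ * (x * y * x⁻¹) * x⁻¹⁻¹ = y := by group
        rwa [e] at h'
    · exact IsPGroup.of_card (n := 4) hUcard
  have hzu1 : zG * u ≠ 1 := by
    intro h
    apply huz
    calc u = zG * (zG * u) := by rw [← mul_assoc, hzGsq, one_mul]
      _ = zG := by rw [h, mul_one]
  have hup := up_structure (incl o) (incl_inj o) zG hzG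
    (cent_le_range ho zG hσ hzG1) (2 ^ (2 * 3 + 1)) (2 ^ (3 + 1))
    (Matrix.GeneralLinearGroup (Fin 3) (ZMod 2)) hG u (hUQ huU) (hUsq u huU)
    (cent_le_range ho u ((hUmem u).1 huU) hu1)
    (cent_le_range ho (zG * u) ((hUmem _).1 (U.mul_mem hzU huU)) hzu1)
  rw [hincl] at hup
  obtain ⟨h1, h2, h3, h4, K, hK1, hK2, hK3, ⟨eK⟩⟩ := hup
  obtain ⟨eSG⟩ := nonempty_sl_equiv_gl 3
  exact ⟨h1, h2, h3, h4, K, hK1, hK2, hK3, ⟨eK.trans eSG.symm⟩⟩

/-- In the Mathieu group of degree 24 (the automorphism group of the length-24 binary Golay code, acting on the 24 coordinates), let z be an involution whose fixed points form an octad (the support of a code word of weight 8), and let Q be the largest normal 2-subgroup of the centralizer C of z. Then Q is extraspecial of order 2^7 with an elementary abelian subgroup of order 16 (plus type), Q is a large extraspecial 2-subgroup, and C is the split extension of Q by the special linear group of degree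 3 over the field with two elements. -/
theorem result (z : ↥Cfsg.M24) (hz : orderOf z = 2) (hfix : (Finset.univ.filter fun p : Cfsg.GolayPt => (z : Equiv.Perm Cfsg.GolayPt) p = p) ∈ Cfsg.octads) (Q : Subgroup ↥Cfsg.M24) (hQ : Q = (Cfsg.pCore 2 ↥(Subgroup.centralizer ({z} : Set ↥Cfsg.M24))).map (Subgroup.centralizer ({z} : Set ↥Cfsg.M24)).subtype) : Cfsg.IsExtraspecial 2 ↥Q ∧ Nat.card ↥Q = 2 ^ 7 ∧ (∃ E : Subgroup ↥Cfsg.M24, E ≤ Q ∧ Cfsg.IsElementaryAbelian 2 E ∧ Nat.card ↥E = 2 ^ 4) ∧ Cfsg.IsLargeExtraspecial Q ∧ ∃ K : Subgroup ↥Cfsg.M24, K ≤ Subgroup.centralizer ({z} : Set ↥Cfsg.M24) ∧ Q ⊓ K = ⊥ ∧ Q ⊔ K = Subgroup.centralizer ({z} : Set ↥Cfsg.M24) ∧ Nonempty (↥K ≃* Matrix.SpecialLinearGroup (Fin 3) (ZMod 2)) := by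
  subst hQ
  exact main z hz _ hfix (fun p => by simp only [Finset.mem_filter, Finset.mem_univ, true_and])

end Cfsg.Agent.S5425
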