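import Cfsg.Statements.S0775
import Cfsg.Agent.Lib.helper17.SympStab
import Cfsg.Agent.S0245

set_option autoImplicit false
open Cfsg

namespace Cfsg.Agent.S0775

open Cfsg.Agent.Lib.helper17

theorem arith (q : ℕ) : ∀ (k d : ℕ),
    (∏ i ∈ Finset.range k, (q ^ (2 * (k + d) - i) - q ^ i)) *
      (q ^ (k * (k + 1) / 2 + 2 * k * d) *
        (q ^ (d ^ 2) * ∏ i ∈ Finset.range d, (q ^ (2 * (i + 1)) - 1))) =
    q ^ ((k + d) ^ 2) * ∏ i ∈ Finset.range (k + d), (q ^ (2 * (i + 1)) - 1) := by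
  intro k
  induction k with
  | zero => intro d; simp
  | succ k ih =>
    intro d
    have h := ih (d + 1)
    have e1 : k + 1 + d = k + (d + 1) := by omega
    rw [e1, Finset.prod_range_succ]
    rw [Finset.prod_range_succ (fun i => q ^ (2 * (i + 1)) - 1) d] at h
    have hX : q ^ (2 * (k + (d + 1)) - k) - q ^ k = q ^ k * (q ^ (2 * (d + 1)) - 1) := by
      have : 2 * (k + (d + 1)) - k = k + 2 * (d + 1) := by omega
      rw [this, pow_add, Nat.mul_sub, mul_one]
    rw [hX]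
    have hE : (k + 1) * (k + 1 + 1) / 2 = k * (k + 1) / 2 + (k + 1) := by
      have : (k + 1) * (k + 1 + 1) = k * (k + 1) + (k + 1) * 2 := by ring
      rw [this, Nat.add_mul_div_right _ _ (by norm_num : 0 < 2)]
    rw [hE]
    have hpow : q ^ k * q ^ (k * (k + 1) / 2 + (k + 1) + 2 * (k + 1) * d) * q ^ (d ^ 2) =
        q ^ (k * (k + 1) / 2 + 2 * k * (d + 1)) * q ^ ((d + 1) ^ 2) := by
      rw [← pow_add, ← pow_add, ← pow_add]
      congr 1
      ring
    rw [← h]
    generalize (∏ i ∈ Finset.range k, (q ^ (2 * (k + (d + 1)) - i) - q ^ i)) = A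
    generalize (q ^ (2 * (d + 1)) - 1) = X
    generalize (∏ i ∈ Finset.range d, (q ^ (2 * (i + 1)) - 1)) = P
    linear_combination (A * X * P) * hpow

/-- Maximal parabolics of the symplectic group: if W is a k-dimensional subspace of F^(2m) on which the symplectic form vanishes identically, its stabiliser in Sp_2m(q) has order q^(k(k+1)/2 + 2k(m−k)) · |Sp_(2m−2k)(q)| · |GL_k(q)|. -/
theorem result {F : Type*} [Field F] [Fintype F] {q : ℕ} (hF : Fintype.card F = q) (m k : ℕ) (hk : k ≤ m) (W : Submodule F (Fin m ⊕ Fin m → F)) (hWk : Module.finrank F W = k) (hW : ∀ u ∈ W, ∀ v ∈ W, Cfsg.sympForm m F u v = 0) : Nat.card ↥(Cfsg.stabilizing (Cfsg.spToMat m F) (W : Set (Fin m ⊕ Fin m → F))) = q ^ (k * (k + 1) / 2 + 2 * k * (m - k)) * (q ^ ((m - k) ^ 2) * ∏ i ∈ Finset.range (m - k), (q ^ (2 * (i + 1)) - 1)) * ∏ i : Fin k, (q ^ k - q ^ (i : ℕ)) := by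
  classical
  subst hF
  have hq : 2 ≤ Fintype.card F := Fintype.one_lt_card
  obtain ⟨x₀, hx₀, hiso, hstab⟩ := card_stab_isotropic m W hWk hW
  have hsp := card_sp_eq m x₀ hx₀ hiso
  rw [Cfsg.Agent.S0245.result (rfl : Fintype.card F = Fintype.card F) m] at hsp
  obtain ⟨d, rfl⟩ : ∃ d, m = k + d := ⟨m - k, by omega⟩
  have har := arith (Fintype.card F) k d
  have hT : 0 < ∏ i ∈ Finset.range k, (Fintype.card F ^ (2 * (k + d) - i) - Fintype.card F ^ i) := by
    apply Finset.prod_pos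
    intro i hi
    have hi' := Finset.mem_range.mp hi
    apply Nat.sub_pos_of_lt
    apply Nat.pow_lt_pow_right hq
    omega
  have hs : Nat.card (frameStab (k + d) x₀) = Fintype.card F ^ (k * (k + 1) / 2 + 2 * k * d) *
      (Fintype.card F ^ (d ^ 2) * ∏ i ∈ Finset.range d, (Fintype.card F ^ (2 * (i + 1)) - 1)) := by
    apply Nat.eq_of_mul_eq_mul_left hT
    rw [← hsp, har]
  rw [hstab, hs, Nat.add_sub_cancel_left]
  ring

end Cfsg.Agent.S0775
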