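import Cfsg.Statements.S3359
import Cfsg.Agent.S0690
import Cfsg.Agent.Lib.helper62.FrobExtract
import Cfsg.Agent.Lib.helper75.FpfRank
import Cfsg.Agent.Lib.helper78.ZasFrob

set_option autoImplicit false
open Cfsg

namespace Cfsg.Agent.S3359

/-- Structure of non-solvable Frobenius complements. Let G be a finite non-solvable group that occurs as a Frobenius complement. Then G has a normal subgroup G₀ of index 1 or 2 which is the direct product of a subgroup isomorphic to SL(2,5) and a subgroup M of order prime to 30 all of whose Sylow subgroups are cyclic. -/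
theorem result {G : Type*} [Group G] [Finite G] (hns : ¬ Group.IsSolvable G)
    (hFC : ∃ (L : Type) (_ : Group L) (_ : Finite L) (H : Subgroup L), Cfsg.IsFrobeniusComplement H ∧ Nonempty (G ≃* H)) :
    ∃ G₀ : Subgroup G, G₀.Normal ∧ (G₀.index = 1 ∨ G₀.index = 2) ∧
      ∃ S M : Subgroup G, S ⊔ M = G₀ ∧ S ⊓ M = ⊥ ∧ (∀ s ∈ S, ∀ x ∈ M, s * x = x * s) ∧
        Nonempty (S ≃* Matrix.SpecialLinearGroup (Fin 2) (ZMod 5)) ∧
        (∀ (p : ℕ) [Fact p.Prime] (P : Sylow p M), IsCyclic P) ∧ (Nat.card M).Coprime 30 := by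
  obtain ⟨L, iL, iF, H, hH, ⟨ε⟩⟩ := hFC
  have hfpfH : Cfsg.Agent.Lib.helper62.FrobExtract.HasFpfMod H :=
    Cfsg.Agent.Lib.helper62.FrobExtract.hasFpfMod_of_frob H hH
  have hfpf : Cfsg.Agent.Lib.helper62.FrobExtract.HasFpfMod G :=
    hfpfH.comap ε.toMonoidHom ε.injective
  have hrk : ∀ p : ℕ, p.Prime → ∀ x y : G, x * y = y * x → x ^ p = 1 → y ^ p = 1 → x ≠ 1 →
      y ∈ Subgroup.zpowers x := by
    intro p hp x y hxy hx hy hx1
    have : Fact p.Prime := ⟨hp⟩
    have h := Cfsg.Agent.Lib.helper75.frob_no_rank_two H hH p ((ε x : H) : L) ((ε y : H) : L)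
      (ε x).2 (ε y).2
      (by rw [← Subgroup.coe_mul, ← map_mul, hxy, map_mul, Subgroup.coe_mul])
      (by rw [← Subgroup.coe_pow, ← map_pow, hx, map_one, Subgroup.coe_one])
      (by rw [← Subgroup.coe_pow, ← map_pow, hy, map_one, Subgroup.coe_one])
      (by
        intro h
        apply hx1
        apply ε.injective
        apply Subtype.ext
        rw [h, map_one, Subgroup.coe_one])
    obtain ⟨k, hk⟩ := Subgroup.mem_zpowers_iff.mp h
    rw [Subgroup.mem_zpowers_iff]
    refine ⟨k, ?_⟩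
    apply ε.injective
    apply Subtype.ext
    rw [map_zpow, Subgroup.coe_zpow]
    exact hk
  exact Cfsg.Agent.Lib.helper78.ZasF.frob_struct
    (fun K _ _ G h1 h2 h3 => Cfsg.Agent.S0690.result G h1 h2 h3) hfpf hrk hns

end Cfsg.Agent.S3359
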