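import Cfsg.Statements.S0048
import Mathlib.GroupTheory.Sylow
import Mathlib.Tactic.Group

set_option autoImplicit false
open Cfsg

namespace Cfsg.Agent.S0048

open scoped commutatorElement

/-- `|HK : H| = |K : H ∩ K|` for `K` normal. -/
theorem relIndex_sup_of_normal {G : Type*} [Group G] [Finite G] (H K : Subgroup G) [K.Normal] :
    H.relIndex (H ⊔ K) = (H ⊓ K).relIndex K := by
  have e1 : Nat.card (H ⊓ K : Subgroup G) * (H ⊓ K).relIndex K = Nat.card K := by
    have := Subgroup.relIndex_mul_relIndex ⊥ (H ⊓ K) K bot_le inf_le_right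
    simpa using this
  have e2 : Nat.card (H ⊓ K : Subgroup G) * (H ⊓ K).relIndex H = Nat.card H := by
    have := Subgroup.relIndex_mul_relIndex ⊥ (H ⊓ K) H bot_le inf_le_left
    simpa using this
  have e3 : Nat.card H * H.relIndex (H ⊔ K) = Nat.card (H ⊔ K : Subgroup G) := by
    have := Subgroup.relIndex_mul_relIndex ⊥ H (H ⊔ K) bot_le le_sup_left
    simpa using this
  have e4 : Nat.card K * K.relIndex (H ⊔ K) = Nat.card (H ⊔ K : Subgroup G) := by
    have := Subgroup.relIndex_mul_relIndex ⊥ K (H ⊔ K) bot_le le_sup_right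
    simpa using this
  have e5 : K.relIndex (H ⊔ K) = (H ⊓ K).relIndex H := by
    rw [Subgroup.relIndex_sup_right, inf_comm, Subgroup.inf_relIndex_right]
  rw [e5] at e4
  have hpos : 0 < Nat.card H := Nat.card_pos
  have : Nat.card H * H.relIndex (H ⊔ K) = Nat.card H * (H ⊓ K).relIndex K := by
    rw [e3, ← e4, ← e1, ← e2]
    ring
  exact Nat.eq_of_mul_eq_mul_left hpos this

theorem le_normalizer_of_forall_conj_mem {G : Type*} [Group G] (H A : Subgroup G)
    (h : ∀ a ∈ A, ∀ x ∈ H, a * x * a⁻¹ ∈ H) : A ≤ Subgroup.normalizer (H : Set G) := by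
  intro a ha
  rw [Subgroup.mem_normalizer_iff]
  intro x
  refine ⟨h a ha x, fun hx => ?_⟩
  have := h a⁻¹ (A.inv_mem ha) _ hx
  simpa [mul_assoc] using this

theorem conj_mem_sup {G : Type*} [Group G] (D P' : Subgroup G) [D.Normal] (a : G)
    (h : ∀ y ∈ P', a * y * a⁻¹ ∈ D ⊔ P') : ∀ x ∈ D ⊔ P', a * x * a⁻¹ ∈ D ⊔ P' := by
  intro x hx
  have hx' : x ∈ ((D ⊔ P' : Subgroup G) : Set G) := hx
  rw [Subgroup.normal_mul] at hx'
  obtain ⟨d, hd, y, hy, rfl⟩ := hx'
  have e : a * (d * y) * a⁻¹ = (a * d * a⁻¹) * (a * y * a⁻¹) := by group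
  rw [e]
  exact Subgroup.mul_mem _ (le_sup_left (a := D) (Subgroup.Normal.conj_mem inferInstance d hd a))
    (h y hy)

/-- In a finite solvable group every maximal subgroup has index a prime power. -/
theorem result {G : Type*} [Group G] [Finite G] [Group.IsSolvable G]
    (M : Subgroup G) (hM : IsCoatom M) : IsPrimePow M.index := by
  classical
  obtain ⟨n, hn⟩ := (inferInstance : Group.IsSolvable G).solvable
  have hex : ∃ i, derivedSeries G i ≤ M := ⟨n, hn ▸ bot_le⟩
  have hi := Nat.find_spec hex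
  have hmin := fun m => Nat.find_min hex (m := m)
  have hi0 : Nat.find hex ≠ 0 := by
    intro h0
    rw [h0, derivedSeries_zero, top_le_iff] at hi
    exact hM.1 hi
  obtain ⟨j, hj⟩ : ∃ j, Nat.find hex = j + 1 := ⟨Nat.find hex - 1, by omega⟩
  have hjM : ¬ derivedSeries G j ≤ M := hmin j (by omega)
  rw [hj] at hi
  haveI hNn : (derivedSeries G j).Normal := derivedSeries_normal G j
  set N := derivedSeries G j with hNdef
  have hNN : ⁅N, N⁆ ≤ M := by rw [← derivedSeries_succ]; exact hi
  have hNND : ⁅N, N⁆ ≤ M ⊓ N := le_inf hNN (Subgroup.commutator_le_self N)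
  have hMN : M ⊔ N = ⊤ :=
    hM.2 _ (lt_of_le_of_ne le_sup_left (fun h => hjM (h ▸ le_sup_right)))
  -- D = M ⊓ N is normal
  haveI hDn : (M ⊓ N).Normal := by
    rw [← Subgroup.normalizer_eq_top_iff, eq_top_iff, ← hMN]
    apply sup_le
    · apply le_normalizer_of_forall_conj_mem
      rintro m hm x ⟨hxM, hxN⟩
      exact ⟨M.mul_mem (M.mul_mem hm hxM) (M.inv_mem hm), hNn.conj_mem x hxN m⟩
    · apply le_normalizer_of_forall_conj_mem
      rintro a ha x hx
      have e : a * x * a⁻¹ = ⁅a, x⁆ * x := by rw [commutatorElement_def]; group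
      rw [e]
      exact Subgroup.mul_mem _ (hNND (Subgroup.commutator_mem_commutator ha hx.2)) hx
  set D := M ⊓ N with hDdef
  have hrel : D.relIndex N ≠ 1 := by
    rw [Ne, Subgroup.relIndex_eq_one]
    intro h
    exact hjM (h.trans inf_le_left)
  obtain ⟨p, hp, hpdvd⟩ := Nat.exists_prime_and_dvd hrel
  haveI : Fact p.Prime := ⟨hp⟩
  obtain ⟨P⟩ : Nonempty (Sylow p N) := inferInstance
  set P' : Subgroup G := (P : Subgroup N).map N.subtype with hP'
  have hP'N : P' ≤ N := Subgroup.map_subtype_le _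
  have hP'D : ¬ P' ≤ D := by
    intro h
    have hPD : (P : Subgroup N) ≤ D.subgroupOf N := fun x hx =>
      Subgroup.mem_subgroupOf.mpr (h (Subgroup.mem_map_of_mem _ hx))
    apply P.not_dvd_index
    rw [← Subgroup.relIndex_mul_index hPD]
    exact Dvd.dvd.mul_left hpdvd _
  have hXN : D ⊔ P' ≤ N := sup_le inf_le_right hP'N
  -- X = D ⊔ P' is normal
  haveI hXn : (D ⊔ P').Normal := by
    rw [← Subgroup.normalizer_eq_top_iff, eq_top_iff, ← Sylow.normalizer_sup_eq_top P]
    apply sup_le
    · apply le_normalizer_of_forall_conj_mem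
      intro a ha
      apply conj_mem_sup
      intro y hy
      exact le_sup_right (a := D) ((Subgroup.mem_normalizer_iff.mp ha y).mp hy)
    · apply le_normalizer_of_forall_conj_mem
      intro a ha
      apply conj_mem_sup
      intro y hy
      have e : a * y * a⁻¹ = ⁅a, y⁆ * y := by rw [commutatorElement_def]; group
      rw [e]
      exact Subgroup.mul_mem _
        (le_sup_left (a := D) (hNND (Subgroup.commutator_mem_commutator ha (hP'N hy))))
        (le_sup_right (a := D) hy)
  set X := D ⊔ P' with hXdef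
  have hXM : ¬ X ≤ M := fun h => hP'D (le_inf (le_sup_right.trans h) hP'N)
  have hsup : M ⊔ X = ⊤ :=
    hM.2 _ (lt_of_le_of_ne le_sup_left (fun h => hXM (h ▸ le_sup_right)))
  have hMX : M ⊓ X = D :=
    le_antisymm (le_inf inf_le_left (inf_le_right.trans hXN)) (le_inf inf_le_left le_sup_left)
  have h1 : M.index = D.relIndex X := by
    have := relIndex_sup_of_normal M X
    rw [hsup, Subgroup.relIndex_top_right, hMX] at this
    exact this
  have h2 : D.relIndex X = D.relIndex P' := by
    rw [hXdef, sup_comm]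
    exact Subgroup.relIndex_sup_right _ _
  have h3 : D.relIndex P' ∣ Nat.card P' := Subgroup.relIndex_dvd_card _ _
  have h4 : Nat.card P' = Nat.card P := Subgroup.card_subtype _ _
  obtain ⟨k, hk⟩ := IsPGroup.iff_card.mp P.2
  have h5 : M.index ∣ p ^ k := by
    rw [h1, h2, ← hk, ← h4]
    exact h3
  obtain ⟨m, hm, hmeq⟩ := (Nat.dvd_prime_pow hp).mp h5
  rw [isPrimePow_nat_iff]
  refine ⟨p, m, hp, ?_, hmeq.symm⟩
  by_contra hm0
  have hm00 : m = 0 := by omega
  subst hm00
  rw [pow_zero, Subgroup.index_eq_one] at hmeq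
  exact hM.1 hmeq

end Cfsg.Agent.S0048
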