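import Cfsg.Statements.S0581
import Cfsg.Agent.S0046
import Cfsg.Agent.S0048
import Cfsg.Agent.Lib.helper2.Schmidt
import Cfsg.Agent.Lib.helper2.SylowExtra

set_option autoImplicit false
open Cfsg
open scoped Pointwise

namespace Cfsg.Agent.S0581

open Cfsg.Agent.Lib.helper2

theorem mem_conj_smul {G : Type*} [Group G] (H : Subgroup G) (g a : G) :
    a ∈ MulAut.conj g • H ↔ g⁻¹ * a * g ∈ H := by
  rw [Subgroup.mem_pointwise_smul_iff_inv_smul_mem]
  simp [MulAut.smul_def, mul_assoc]

theorem conj_smul_eq_map {G : Type*} [Group G] (H : Subgroup G) (g : G) :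
    MulAut.conj g • H = H.map (MulAut.conj g).toMonoidHom := rfl

/-- A conjugate of a nilpotent subgroup is nilpotent. -/
theorem isNilpotent_conj {G : Type*} [Group G] (H : Subgroup G) (hH : Group.IsNilpotent H)
    (g : G) : Group.IsNilpotent (MulAut.conj g • H : Subgroup G) := by
  rw [conj_smul_eq_map]
  exact Group.nilpotent_of_mulEquiv (H.equivMapOfInjective _ (MulAut.conj g).injective)

theorem card_conj {G : Type*} [Group G] (H : Subgroup G) (g : G) :
    Nat.card (MulAut.conj g • H : Subgroup G) = Nat.card H := by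
  rw [conj_smul_eq_map]
  exact Subgroup.card_map_of_injective (MulAut.conj g).injective

theorem index_conj {G : Type*} [Group G] [Finite G] (H : Subgroup G) (g : G) :
    (MulAut.conj g • H : Subgroup G).index = H.index := by
  have h1 := Subgroup.card_mul_index (MulAut.conj g • H : Subgroup G)
  have h2 := Subgroup.card_mul_index H
  rw [card_conj, ← h2] at h1
  exact Nat.eq_of_mul_eq_mul_left Nat.card_pos h1

/-- The core step of Wielandt's theorem. -/
theorem core {G : Type*} [Group G] [Finite G] (H K M : Subgroup G) (hH : Group.IsNilpotent H)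
    (hHall : (Nat.card H).Coprime H.index) (hMK : M ≤ K) (hMH : M ≤ H)
    (hKM : K ≤ Subgroup.normalizer (M : Set G)) (p : ℕ) [hp : Fact p.Prime]
    (hidx : M.relIndex K = p) (hpH : p ∣ Nat.card H) : ∃ x : G, K ≤ MulAut.conj x • H := by
  -- a Sylow p-subgroup of G inside H
  obtain ⟨S⟩ : Nonempty (Sylow p H) := inferInstance
  have hSp : IsPGroup p ((S : Subgroup H).map H.subtype) := S.2.map _
  have hSidx : ¬ p ∣ ((S : Subgroup H).map H.subtype).index := by
    rw [Subgroup.index_map_subtype]
    intro hdvd
    rcases (Nat.Prime.dvd_mul hp.out).mp hdvd with h | h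
    · exact S.not_dvd_index h
    · have h3 := Nat.dvd_gcd hpH h
      rw [hHall] at h3
      exact hp.out.one_lt.ne' (Nat.dvd_one.mp h3)
  let P : Sylow p G := hSp.toSylow hSidx
  have hPH : (P : Subgroup G) ≤ H := Subgroup.map_subtype_le _
  -- the p'-part D of M
  set gens : Set G := {x | x ∈ M ∧ ∃ r : ℕ, r.Prime ∧ r ≠ p ∧ ∃ k : ℕ, x ^ (r ^ k) = 1} with hgens
  set D : Subgroup G := Subgroup.closure gens with hD
  have hDM : D ≤ M := (Subgroup.closure_le M).mpr (fun x hx => hx.1)
  have hKD : K ≤ Subgroup.normalizer (D : Set G) := by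
    apply Cfsg.Agent.S0048.le_normalizer_of_forall_conj_mem
    intro k hk x hx
    refine Subgroup.closure_induction (p := fun x _ => k * x * k⁻¹ ∈ D) ?_ ?_ ?_ ?_ hx
    · intro y hy
      apply Subgroup.subset_closure
      obtain ⟨hyM, r, hr, hrp, j, hj⟩ := hy
      refine ⟨(Subgroup.mem_normalizer_iff.mp (hKM hk) y).mp hyM, r, hr, hrp, j, ?_⟩
      rw [conj_pow, hj, mul_one, mul_inv_cancel]
    · simp
    · intro a b _ _ ha hb
      have e : k * (a * b) * k⁻¹ = (k * a * k⁻¹) * (k * b * k⁻¹) := by group
      rw [e]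
      exact D.mul_mem ha hb
    · intro a _ ha
      have e : k * a⁻¹ * k⁻¹ = (k * a * k⁻¹)⁻¹ := by group
      rw [e]
      exact D.inv_mem ha
  have hPD : (P : Subgroup G) ≤ Subgroup.normalizer (D : Set G) := by
    refine le_trans ?_ (Subgroup.centralizer_le_normalizer (s := (D : Set G)))
    intro y hy
    rw [Subgroup.mem_centralizer_iff]
    intro d hd
    have hle : D ≤ Subgroup.centralizer ({y} : Set G) := by
      rw [hD, Subgroup.closure_le]
      intro x hx
      obtain ⟨hxM, r, hr, hrp, j, hj⟩ := hx
      haveI : Fact r.Prime := ⟨hr⟩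
      have hzp : IsPGroup r (Subgroup.zpowers x) := by
        have h1 : orderOf x ∣ r ^ j := orderOf_dvd_of_pow_eq_one hj
        obtain ⟨i, -, hi⟩ := (Nat.dvd_prime_pow hr).mp h1
        apply IsPGroup.of_card (n := i)
        rw [Nat.card_zpowers, hi]
      have hzH : Subgroup.zpowers x ≤ H := by
        rw [Subgroup.zpowers_le]
        exact hMH hxM
      have hc := commute_of_le_isNilpotent H hH hrp (Subgroup.zpowers x) (P : Subgroup G) hzH hPH
        hzp P.2 x (Subgroup.mem_zpowers x) y hy
      change x ∈ Subgroup.centralizer ({y} : Set G)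
      rw [Subgroup.mem_centralizer_iff]
      intro h hh
      rw [Set.mem_singleton_iff] at hh
      rw [hh]
      exact hc.symm
    have h2 := hle hd
    rw [Subgroup.mem_centralizer_iff] at h2
    exact (h2 y (Set.mem_singleton y)).symm
  -- [M : D] is a power of p
  have hDMidx : ∃ j : ℕ, D.relIndex M = p ^ j := by
    refine ⟨_, Nat.eq_prime_pow_of_unique_prime_dvd ?_ ?_⟩
    · rw [Subgroup.relIndex]
      exact Subgroup.index_ne_zero_of_finite
    · intro r hr hrd
      by_contra hrp
      haveI : Fact r.Prime := ⟨hr⟩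
      obtain ⟨R⟩ : Nonempty (Sylow r M) := inferInstance
      have hRD : (R : Subgroup M).map M.subtype ≤ D := by
        rintro x ⟨x', hx', rfl⟩
        apply Subgroup.subset_closure
        obtain ⟨k, hk⟩ := R.2 ⟨x', hx'⟩
        refine ⟨x'.2, r, hr, hrp, k, ?_⟩
        have h3 := congrArg (fun t : (R : Subgroup M) => ((t : M) : G)) hk
        simpa using h3
      have h4 : D.relIndex M ∣ ((R : Subgroup M).map M.subtype).relIndex M :=
        Subgroup.relIndex_dvd_of_le_left M hRD
      have h5 : ((R : Subgroup M).map M.subtype).relIndex M = (R : Subgroup M).index := by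
        rw [Subgroup.relIndex]
        congr 1
        exact Subgroup.comap_map_eq_self_of_injective M.subtype_injective _
      rw [h5] at h4
      exact R.not_dvd_index (hrd.trans h4)
  obtain ⟨j, hj⟩ := hDMidx
  -- a Sylow p-subgroup of K
  obtain ⟨T⟩ : Nonempty (Sylow p K) := inferInstance
  set Kp : Subgroup G := (T : Subgroup K).map K.subtype with hKp
  have hKpK : Kp ≤ K := Subgroup.map_subtype_le _
  have hKpp : IsPGroup p Kp := T.2.map _
  obtain ⟨c, hc, hcP⟩ := exists_conj_mem_of_le_sylow P (Subgroup.normalizer (D : Set G)) Kp hPD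
    (hKpK.trans hKD) hKpp
  refine ⟨c, ?_⟩
  have hsup : K ≤ D ⊔ Kp := by
    rw [← Subgroup.relIndex_eq_one]
    have h1 : (D ⊔ Kp).relIndex K ∣ Kp.relIndex K := Subgroup.relIndex_dvd_of_le_left K le_sup_right
    have h2 : Kp.relIndex K = (T : Subgroup K).index := by
      rw [Subgroup.relIndex, hKp]
      congr 1
      exact Subgroup.comap_map_eq_self_of_injective K.subtype_injective _
    have h3 : (D ⊔ Kp).relIndex K ∣ D.relIndex K := Subgroup.relIndex_dvd_of_le_left K le_sup_left
    have h4 : D.relIndex K = p ^ (j + 1) := by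
      rw [← Subgroup.relIndex_mul_relIndex D M K hDM hMK, hj, hidx, pow_succ]
    rw [h4] at h3
    obtain ⟨i, -, hi⟩ := (Nat.dvd_prime_pow hp.out).mp h3
    rcases Nat.eq_zero_or_pos i with h0 | hpos
    · rw [hi, h0, pow_zero]
    · exfalso
      rw [h2, hi] at h1
      exact T.not_dvd_index ((dvd_pow_self p hpos.ne').trans h1)
  refine hsup.trans (sup_le ?_ ?_)
  · intro d hd
    rw [mem_conj_smul]
    have hc' : c⁻¹ ∈ Subgroup.normalizer (D : Set G) := inv_mem hc
    have h1 := (Subgroup.mem_normalizer_iff.mp hc' d).mp hd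
    rw [inv_inv] at h1
    exact hMH (hDM h1)
  · intro a ha
    rw [mem_conj_smul]
    exact hPH (hcP a ha)

/-- Let H be a nilpotent subgroup of a finite group G whose order is coprime to its index, and K a subgroup every prime divisor of whose order divides the order of H. Then K lies in some conjugate of H. -/
theorem result {G : Type*} [Group G] [Finite G] (H K : Subgroup G) (hH : Group.IsNilpotent H) (hHall : (Nat.card H).Coprime H.index) (hK : ∀ p : ℕ, p.Prime → p ∣ Nat.card K → p ∣ Nat.card H) : ∃ x : G, K ≤ MulAut.conj x • H := by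
  have key : ∀ n : ℕ, ∀ K : Subgroup G, Nat.card K = n →
      (∀ p : ℕ, p.Prime → p ∣ Nat.card K → p ∣ Nat.card H) → ∃ x : G, K ≤ MulAut.conj x • H := by
    intro n
    induction n using Nat.strong_induction_on with
    | _ n ih =>
      intro K hKn hK
      by_cases hbot : K = ⊥
      · exact ⟨1, by rw [hbot]; exact bot_le⟩
      have hprop : ∀ K₁ : Subgroup G, K₁ ≤ K → Nat.card K₁ < Nat.card K →
          ∃ x : G, K₁ ≤ MulAut.conj x • H := by
        intro K₁ h1 h2
        apply ih (Nat.card K₁) (by rw [← hKn]; exact h2) K₁ rfl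
        intro p hp hpd
        exact hK p hp (hpd.trans (Subgroup.card_dvd_of_le h1))
      have hsolv : Group.IsSolvable K := by
        apply Cfsg.Agent.S0046.result
        intro M' hM'
        have hlt : Nat.card (M'.map K.subtype) < Nat.card K := by
          rw [Subgroup.card_map_of_injective K.subtype_injective]
          by_contra hge
          push_neg at hge
          exact hM'.1 (Subgroup.eq_top_of_le_card _ hge)
        obtain ⟨x, hx⟩ := hprop (M'.map K.subtype) (Subgroup.map_subtype_le _) hlt
        have hn1 : Group.IsNilpotent (M'.map K.subtype) :=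
          Cfsg.Agent.S0046.isNilpotent_of_le hx (isNilpotent_conj H hH x)
        exact Group.nilpotent_of_mulEquiv
          (M'.equivMapOfInjective K.subtype K.subtype_injective).symm
      haveI : Nontrivial K := (Subgroup.nontrivial_iff_ne_bot K).mpr hbot
      obtain ⟨M₀, hM₀n, hM₀p⟩ := exists_normal_prime_index K
      haveI := hM₀n
      haveI : Fact (M₀.index).Prime := ⟨hM₀p⟩
      set M : Subgroup G := M₀.map K.subtype with hM
      have hMK : M ≤ K := Subgroup.map_subtype_le _
      have hMlt : Nat.card M < Nat.card K := by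
        rw [hM, Subgroup.card_map_of_injective K.subtype_injective]
        by_contra hge
        push_neg at hge
        have htop := Subgroup.eq_top_of_le_card _ hge
        rw [htop, Subgroup.index_top] at hM₀p
        exact Nat.not_prime_one hM₀p
      obtain ⟨g, hg⟩ := hprop M hMK hMlt
      have hKM : K ≤ Subgroup.normalizer (M : Set G) := by
        apply Cfsg.Agent.S0048.le_normalizer_of_forall_conj_mem
        rintro k hk x ⟨x', hx', rfl⟩
        exact ⟨⟨k, hk⟩ * x' * ⟨k, hk⟩⁻¹, hM₀n.conj_mem x' hx' ⟨k, hk⟩, rfl⟩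
      have hidx : M.relIndex K = M₀.index := by
        rw [Subgroup.relIndex, hM]
        congr 1
        exact Subgroup.comap_map_eq_self_of_injective K.subtype_injective _
      have hpH : M₀.index ∣ Nat.card (MulAut.conj g • H : Subgroup G) := by
        rw [card_conj]
        exact hK _ hM₀p (Subgroup.index_dvd_card M₀)
      have hHall' : (Nat.card (MulAut.conj g • H : Subgroup G)).Coprime
          (MulAut.conj g • H : Subgroup G).index := by
        rw [card_conj, index_conj]
        exact hHall
      obtain ⟨y, hy⟩ := core (MulAut.conj g • H) K M (isNilpotent_conj H hH g) hHall' hMK hg hKM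
        M₀.index hidx hpH
      refine ⟨y * g, ?_⟩
      rw [map_mul, mul_smul]
      exact hy
  exact key _ K rfl hK

end Cfsg.Agent.S0581
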