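import Mathlib
import Cfsg.Statements.S3058
import Cfsg.Agent.Lib.helper56.SylowGraph
import Cfsg.Agent.Lib.helper37.CoprimeGen
import Cfsg.Agent.Lib.helper40.Cores

set_option autoImplicit false
open Cfsg

namespace Cfsg.Agent.S3058

theorem zpowers_sup_props {G : Type*} [Group G] (p : ℕ) (x y : G) (hxy : x * y = y * x)
    (hx : x ^ p = 1) (hy : y ^ p = 1) :
    (∀ a ∈ Subgroup.zpowers x ⊔ Subgroup.zpowers y,
      ∀ b ∈ Subgroup.zpowers x ⊔ Subgroup.zpowers y, a * b = b * a) ∧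
    (∀ a ∈ Subgroup.zpowers x ⊔ Subgroup.zpowers y, a ^ p = 1) := by
  have hcxy : Commute x y := hxy
  have hc : ∀ a ∈ Subgroup.zpowers x, ∀ b ∈ Subgroup.zpowers y, a * b = b * a := by
    rintro _ ⟨i, rfl⟩ _ ⟨j, rfl⟩
    exact (hcxy.zpow_zpow i j).eq
  have hdec : ∀ a ∈ Subgroup.zpowers x ⊔ Subgroup.zpowers y,
      ∃ i j : ℤ, a = x ^ i * y ^ j := by
    intro a ha
    obtain ⟨u, ⟨i, rfl⟩, v, ⟨j, rfl⟩, rfl⟩ :=
      Lib.helper40.exists_mul_of_mem_sup_of_commute hc ha
    exact ⟨i, j, rfl⟩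
  constructor
  · intro a ha b hb
    obtain ⟨i, j, rfl⟩ := hdec a ha
    obtain ⟨i', j', rfl⟩ := hdec b hb
    have c1 : Commute (x ^ i) (x ^ i') := (Commute.refl x).zpow_zpow i i'
    have c2 : Commute (x ^ i) (y ^ j') := hcxy.zpow_zpow i j'
    have c3 : Commute (y ^ j) (x ^ i') := hcxy.symm.zpow_zpow j i'
    have c4 : Commute (y ^ j) (y ^ j') := (Commute.refl y).zpow_zpow j j'
    exact ((c1.mul_right c2).mul_left (c3.mul_right c4)).eq
  · intro a ha
    obtain ⟨i, j, rfl⟩ := hdec a ha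
    have e1 : (x ^ i) ^ p = 1 := by
      rw [← zpow_natCast, ← zpow_mul, mul_comm, zpow_mul, zpow_natCast, hx, one_zpow]
    have e2 : (y ^ j) ^ p = 1 := by
      rw [← zpow_natCast, ← zpow_mul, mul_comm, zpow_mul, zpow_natCast, hy, one_zpow]
    rw [(hcxy.zpow_zpow i j).mul_pow, e1, e2, one_mul]

/-- Let p be a prime and G a finite group whose Sylow p-subgroups are not chain-connected through nontrivial intersections (so G has a strongly p-embedded subgroup). If N and M are normal subgroups of G whose orders are both divisible by p, then the order of N ∩ M is divisible by p. Consequently, among the normal subgroups of G whose order is divisible by p there is a smallest one (the intersection of all of them). -/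
theorem result {G : Type*} [Group G] [Finite G]
    (p : ℕ) [Fact p.Prime] (hG : ¬ Cfsg.IsSylowChainConnected p G)
    (N M : Subgroup G) [N.Normal] [M.Normal] (hN : p ∣ Nat.card N) (hM : p ∣ Nat.card M) :
    p ∣ Nat.card ↥(N ⊓ M) := by
  classical
  have hp : p.Prime := Fact.out
  obtain ⟨H, hH, hpH, hse⟩ := Lib.helper56.exists_cse_of_not_chainConnected hG
  obtain ⟨S, hSH, hS1⟩ := Lib.helper56.cse_exists_sylow H hpH hse
  by_contra hK
  have hSK : (S : Subgroup G) ⊓ (N ⊓ M) = ⊥ := by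
    have h1 : IsPGroup p ((S : Subgroup G) ⊓ (N ⊓ M) : Subgroup G) := S.2.to_le inf_le_left
    rcases h1.card_eq_or_dvd with h | h
    · exact Subgroup.card_eq_one.mp h
    · exact absurd (h.trans (Subgroup.card_dvd_of_le inf_le_right)) hK
  obtain ⟨x, hxX, hxo⟩ := Lib.helper53.exists_orderOf_eq_prime_of_ne_bot
    (S.2.to_le inf_le_left) (Lib.helper56.sylow_inf_normal_ne_bot S N hN)
  obtain ⟨y, hyY, hyo⟩ := Lib.helper53.exists_orderOf_eq_prime_of_ne_bot
    (S.2.to_le inf_le_left) (Lib.helper56.sylow_inf_normal_ne_bot S M hM)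
  have hxS : x ∈ (S : Subgroup G) := hxX.1
  have hxN : x ∈ N := hxX.2
  have hyS : y ∈ (S : Subgroup G) := hyY.1
  have hyM : y ∈ M := hyY.2
  have hx1 : x ≠ 1 := by
    intro h; rw [h, orderOf_one] at hxo; exact hp.one_lt.ne hxo
  have hy1 : y ≠ 1 := by
    intro h; rw [h, orderOf_one] at hyo; exact hp.one_lt.ne hyo
  have hcomm : x * y = y * x := by
    have h1 : x * y * x⁻¹ * y⁻¹ ∈ (S : Subgroup G) ⊓ (N ⊓ M) := by
      refine ⟨?_, ?_, ?_⟩
      · exact (S : Subgroup G).mul_mem ((S : Subgroup G).mul_mem ((S : Subgroup G).mul_mem hxS hyS)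
          ((S : Subgroup G).inv_mem hxS)) ((S : Subgroup G).inv_mem hyS)
      · have h2 : x * y * x⁻¹ * y⁻¹ = x * (y * x⁻¹ * y⁻¹) := by group
        rw [h2]; exact N.mul_mem hxN (‹N.Normal›.conj_mem _ (N.inv_mem hxN) y)
      · exact M.mul_mem (‹M.Normal›.conj_mem _ hyM x) (M.inv_mem hyM)
    rw [hSK, Subgroup.mem_bot] at h1
    have h2 : x * y = (x * y * x⁻¹ * y⁻¹) * (y * x) := by group
    rw [h2, h1, one_mul]
  have hyx : y ∉ Subgroup.zpowers x := by
    intro h
    have h1 : y ∈ (S : Subgroup G) ⊓ (N ⊓ M) :=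
      ⟨hyS, (Subgroup.zpowers_le.mpr hxN) h, hyM⟩
    rw [hSK, Subgroup.mem_bot] at h1
    exact hy1 h1
  obtain ⟨hAc, hAp⟩ := zpowers_sup_props p x y hcomm
    (by rw [← hxo]; exact pow_orderOf_eq_one x) (by rw [← hyo]; exact pow_orderOf_eq_one y)
  have hAS : Subgroup.zpowers x ⊔ Subgroup.zpowers y ≤ (S : Subgroup G) :=
    sup_le (Subgroup.zpowers_le.mpr hxS) (Subgroup.zpowers_le.mpr hyS)
  have hAK : Subgroup.zpowers x ⊔ Subgroup.zpowers y ≤
      Subgroup.normalizer ((N ⊓ M : Subgroup G) : Set G) := by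
    rw [Subgroup.normalizer_eq_top]; exact le_top
  have hgen := Lib.helper37.coprime_gen_hyperplane p (Subgroup.zpowers x ⊔ Subgroup.zpowers y)
    (N ⊓ M) hAc hAp hK hAK
  have hKH : N ⊓ M ≤ H := by
    rw [hgen]
    apply iSup_le
    rintro ⟨B, hBA, hBidx⟩
    have hB1 : B ≠ ⊥ := by
      intro hB
      rw [hB, Subgroup.relIndex_bot_left] at hBidx
      have h1 : Subgroup.zpowers x = Subgroup.zpowers x ⊔ Subgroup.zpowers y :=
        Subgroup.eq_of_le_of_card_ge le_sup_left (by rw [Nat.card_zpowers, hxo]; exact hBidx)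
      exact hyx (h1 ▸ (le_sup_right : Subgroup.zpowers y ≤ _) (Subgroup.mem_zpowers y))
    have hBp : IsPGroup p B := S.2.to_le (hBA.trans hAS)
    have hBH : B ≤ H := (hBA.trans hAS).trans hSH
    exact inf_le_right.trans ((Subgroup.centralizer_le_normalizer _).trans
      (Lib.helper56.cse_normalizer_le H hse B hBH hBp hB1))
  have hMH : M ≤ H := by
    intro m hm
    by_contra hmH
    apply hse m hmH
    have h1 : m * x * m⁻¹ ∈ H ⊓ H.map (MulAut.conj m).toMonoidHom := by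
      refine ⟨?_, ⟨x, hSH hxS, rfl⟩⟩
      have h2 : m * x * m⁻¹ * x⁻¹ ∈ N ⊓ M := by
        refine ⟨?_, ?_⟩
        · exact N.mul_mem (‹N.Normal›.conj_mem _ hxN m) (N.inv_mem hxN)
        · have h3 : m * x * m⁻¹ * x⁻¹ = m * (x * m⁻¹ * x⁻¹) := by group
          rw [h3]; exact M.mul_mem hm (‹M.Normal›.conj_mem _ (M.inv_mem hm) x)
      have h3 : m * x * m⁻¹ = (m * x * m⁻¹ * x⁻¹) * x := by group
      rw [h3]; exact H.mul_mem (hKH h2) (hSH hxS)
    have h4 : orderOf (m * x * m⁻¹) = p := by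
      have h5 := MulEquiv.orderOf_eq (MulAut.conj m) x
      rw [MulAut.conj_apply] at h5
      rw [h5]; exact hxo
    have h5 : p ∣ Nat.card (Subgroup.zpowers (m * x * m⁻¹)) := by rw [Nat.card_zpowers, h4]
    exact h5.trans (Subgroup.card_dvd_of_le (Subgroup.zpowers_le.mpr h1))
  obtain ⟨g, hg⟩ : ∃ g, g ∉ H := by
    by_contra hcon
    push Not at hcon
    exact hH (eq_top_iff.mpr fun x _ => hcon x)
  apply hse g hg
  have h1 : M ≤ H ⊓ H.map (MulAut.conj g).toMonoidHom := by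
    refine le_inf hMH ?_
    intro m hm
    refine ⟨g⁻¹ * m * g, hMH ?_, ?_⟩
    · have h2 := ‹M.Normal›.conj_mem m hm g⁻¹
      simpa using h2
    · show g * (g⁻¹ * m * g) * g⁻¹ = m
      group
  exact hM.trans (Subgroup.card_dvd_of_le h1)

end Cfsg.Agent.S3058
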