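import Mathlib
import Cfsg.Statements.S3059
import Cfsg.Agent.Lib.helper53.Conj

set_option autoImplicit false
open Cfsg

namespace Cfsg.Agent.S3059

theorem relIndex_dvd_index_of_normal_right {G : Type*} [Group G] [Finite G] (S N : Subgroup G)
    [N.Normal] : S.relIndex N ∣ S.index := by
  have h1 := Subgroup.relIndex_mul_relIndex (S ⊓ N) S (S ⊔ N) inf_le_left le_sup_left
  have h2 := Subgroup.relIndex_mul_relIndex (S ⊓ N) N (S ⊔ N) inf_le_right le_sup_right
  rw [Subgroup.inf_relIndex_left] at h1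
  rw [Subgroup.inf_relIndex_right, Subgroup.relIndex_sup_right] at h2
  have h3 : S.relIndex (S ⊔ N) = S.relIndex N := by
    have h4 : N.relIndex S * S.relIndex (S ⊔ N) = N.relIndex S * S.relIndex N := by
      rw [h1, ← h2, mul_comm]
    have h5 : N.relIndex S ≠ 0 := Subgroup.index_ne_zero_of_finite
    exact Nat.eq_of_mul_eq_mul_left (Nat.pos_of_ne_zero h5) h4
  rw [← h3]
  exact Subgroup.relIndex_dvd_index_of_le le_sup_left

/-- Let p be a prime and H a strongly p-embedded subgroup of the finite group G in the classical sense: H is proper, p divides the order of H, and H ∩ gHg⁻¹ has order prime to p for every g outside H. Then for every normal subgroup N of G of order divisible by p, G = H · O^p(N), where O^p(N) is the subgroup generated by the elements of N of order prime to p. -/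
theorem result {G : Type*} [Group G] [Finite G]
    (p : ℕ) [Fact p.Prime] (H : Subgroup G) (hH : H ≠ ⊤) (hpH : p ∣ Nat.card H)
    (hse : ∀ g : G, g ∉ H → ¬ p ∣ Nat.card ↥(H ⊓ H.map (MulAut.conj g).toMonoidHom))
    (N : Subgroup G) [N.Normal] (hN : p ∣ Nat.card N) :
    H ⊔ Subgroup.closure {g : G | g ∈ N ∧ (orderOf g).Coprime p} = ⊤ := by
  classical
  have hp : p.Prime := Fact.out
  -- normalizers of nontrivial p-subgroups of H lie in H
  have hnorm : ∀ X : Subgroup G, X ≤ H → IsPGroup p X → X ≠ ⊥ →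
      Subgroup.normalizer (X : Set G) ≤ H := by
    intro X hXH hXp hX1 g hg
    by_contra hgH
    apply hse g hgH
    have h1 : X ≤ H ⊓ H.map (MulAut.conj g).toMonoidHom := by
      refine le_inf hXH ?_
      intro x hx
      have h2 : g⁻¹ * x * g ∈ X := (Subgroup.mem_normalizer_iff''.mp hg x).mp hx
      refine ⟨g⁻¹ * x * g, hXH h2, ?_⟩
      show g * (g⁻¹ * x * g) * g⁻¹ = x
      group
    have h3 : p ∣ Nat.card X := by
      rcases hXp.card_eq_or_dvd with h | h
      · exact absurd (Subgroup.card_eq_one.mp h) hX1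
      · exact h
    exact h3.trans (Subgroup.card_dvd_of_le h1)
  -- H contains a Sylow p-subgroup of G
  obtain ⟨S₀'⟩ : Nonempty (Sylow p ↥H) := inferInstance
  set S₀ : Subgroup G := (S₀' : Subgroup ↥H).map H.subtype with hS₀
  have hS₀H : S₀ ≤ H := by rintro _ ⟨y, -, rfl⟩; exact y.2
  have hS₀p : IsPGroup p S₀ := S₀'.2.map _
  have hS₀1 : S₀ ≠ ⊥ := by
    intro h
    have h1 : (S₀' : Subgroup ↥H) = ⊥ :=
      (Subgroup.map_eq_bot_iff_of_injective _ H.subtype_injective).mp h
    exact (S₀'.ne_bot_of_dvd_card hpH) h1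
  obtain ⟨S, hS⟩ := hS₀p.exists_le_sylow
  have hSS₀ : (S : Subgroup G) = S₀ := by
    by_contra hne
    have hlt : S₀ < (S : Subgroup G) := lt_of_le_of_ne hS (Ne.symm hne)
    obtain ⟨y, hyS, hyS₀, hyN⟩ := Lib.helper53.exists_mem_normalizer_not_mem S.2 hlt
    have hyH : y ∈ H := hnorm S₀ hS₀H hS₀p hS₀1 hyN
    have hT : IsPGroup p ((S₀ ⊔ Subgroup.zpowers y : Subgroup G)) :=
      S.2.to_le (sup_le hS (by rw [Subgroup.zpowers_le]; exact hyS))
    have hT' : IsPGroup p ((S₀ ⊔ Subgroup.zpowers y : Subgroup G).subgroupOf H) :=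
      hT.comap_subtype
    have hle : (S₀' : Subgroup ↥H) ≤ (S₀ ⊔ Subgroup.zpowers y : Subgroup G).subgroupOf H := by
      intro z hz
      rw [Subgroup.mem_subgroupOf]
      exact (le_sup_left : S₀ ≤ S₀ ⊔ Subgroup.zpowers y) ⟨z, hz, rfl⟩
    have heq := S₀'.3 hT' hle
    apply hyS₀
    have hy' : (⟨y, hyH⟩ : ↥H) ∈ (S₀ ⊔ Subgroup.zpowers y : Subgroup G).subgroupOf H := by
      rw [Subgroup.mem_subgroupOf]
      exact (le_sup_right : Subgroup.zpowers y ≤ S₀ ⊔ Subgroup.zpowers y)
        (Subgroup.mem_zpowers y)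
    rw [heq] at hy'
    exact ⟨⟨y, hyH⟩, hy', rfl⟩
  have hSH : (S : Subgroup G) ≤ H := hSS₀ ▸ hS₀H
  -- S ∩ N is a Sylow p-subgroup of N
  have hXp' : IsPGroup p ((S : Subgroup G).subgroupOf N) := S.2.comap_subtype
  have hXidx : ¬ p ∣ ((S : Subgroup G).subgroupOf N).index := by
    intro h
    exact S.not_dvd_index (h.trans (relIndex_dvd_index_of_normal_right (S : Subgroup G) N))
  set X' : Sylow p ↥N := hXp'.toSylow hXidx with hX'
  set X : Subgroup G := (X' : Subgroup ↥N).map N.subtype with hX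
  have hXeq : X = (S : Subgroup G) ⊓ N := by
    rw [hX, hX', IsPGroup.toSylow_coe, Subgroup.subgroupOf_map_subtype]
  have hXH : X ≤ H := hXeq ▸ inf_le_left.trans hSH
  have hXp : IsPGroup p X := X'.2.map _
  have hX1 : X ≠ ⊥ := by
    intro h
    have h1 : (X' : Subgroup ↥N) = ⊥ :=
      (Subgroup.map_eq_bot_iff_of_injective _ N.subtype_injective).mp h
    exact X'.ne_bot_of_dvd_card hN h1
  have hfrat : Subgroup.normalizer (X : Set G) ⊔ N = ⊤ := Sylow.normalizer_sup_eq_top X'
  have hHN : H ⊔ N = ⊤ := by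
    rw [eq_top_iff, ← hfrat]
    exact sup_le_sup_right (hnorm X hXH hXp hX1) N
  -- N = X R
  set R : Subgroup G := Subgroup.closure {g : G | g ∈ N ∧ (orderOf g).Coprime p} with hR
  have hRN : R ≤ N := by
    rw [hR, Subgroup.closure_le]; intro g hg; exact hg.1
  have hRn : R.Normal := by
    constructor
    intro n hn g
    have h1 : R.map (MulAut.conj g).toMonoidHom ≤ R := by
      rw [hR, MonoidHom.map_closure, Subgroup.closure_le]
      rintro _ ⟨x, ⟨hxN, hxo⟩, rfl⟩
      apply Subgroup.subset_closure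
      refine ⟨‹N.Normal›.conj_mem x hxN g, ?_⟩
      show (orderOf (MulAut.conj g x)).Coprime p
      rw [MulEquiv.orderOf_eq]
      exact hxo
    exact h1 ⟨n, hn, rfl⟩
  set R' : Subgroup ↥N := R.subgroupOf N with hR'
  have hQp : IsPGroup p (↥N ⧸ R') := by
    intro q
    obtain ⟨n, rfl⟩ := QuotientGroup.mk'_surjective R' q
    refine ⟨(orderOf (n : G)).factorization p, ?_⟩
    rw [← map_pow, QuotientGroup.mk'_apply, QuotientGroup.eq_one_iff, hR', Subgroup.mem_subgroupOf]
    apply Subgroup.subset_closure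
    refine ⟨N.pow_mem n.2 _, ?_⟩
    have h0 : orderOf (n : G) ≠ 0 := (orderOf_pos (n : G)).ne'
    rw [Subgroup.coe_pow, orderOf_pow_of_dvd (pow_ne_zero _ hp.ne_zero) (Nat.ordProj_dvd _ _)]
    exact (Nat.coprime_ordCompl hp h0).symm
  obtain ⟨b, hb⟩ := (IsPGroup.iff_card.mp hQp)
  have hidxR : R'.index = p ^ b := by rw [Subgroup.index_eq_card]; exact hb
  have htop : (X' : Subgroup ↥N) ⊔ R' = ⊤ := by
    rw [← Subgroup.index_eq_one]
    have h1 : ((X' : Subgroup ↥N) ⊔ R').index ∣ (X' : Subgroup ↥N).index :=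
      Subgroup.index_dvd_of_le le_sup_left
    have h2 : ((X' : Subgroup ↥N) ⊔ R').index ∣ p ^ b := by
      rw [← hidxR]; exact Subgroup.index_dvd_of_le le_sup_right
    have h3 : ¬ p ∣ ((X' : Subgroup ↥N) ⊔ R').index := fun h => X'.not_dvd_index (h.trans h1)
    exact (Nat.Coprime.pow_right b ((Nat.Prime.coprime_iff_not_dvd hp).mpr h3).symm).eq_one_of_dvd h2
  have hNXR : N ≤ X ⊔ R := by
    have h1 : ((X' : Subgroup ↥N) ⊔ R').map N.subtype = X ⊔ R := by
      rw [Subgroup.map_sup, hR', Subgroup.subgroupOf_map_subtype, inf_eq_left.mpr hRN]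
    rw [← h1, htop, ← MonoidHom.range_eq_map, Subgroup.range_subtype]
  rw [eq_top_iff, ← hHN]
  exact sup_le le_sup_left (hNXR.trans (sup_le (hXH.trans le_sup_left) le_sup_right))

end Cfsg.Agent.S3059
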