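import Cfsg.Statements.S3225
import Mathlib.GroupTheory.IndexNormal
import Mathlib.GroupTheory.SpecificGroups.Cyclic
import Mathlib.GroupTheory.Transfer

set_option autoImplicit false
open Cfsg

namespace Cfsg.Agent.S3225

open scoped IsMulCommutative
open MulAction Subgroup

theorem eq_of_ne_one_of_card_two' {A : Type*} [Group A] (hA : Nat.card A = 2) {a b : A}
    (ha : a ≠ 1) (hb : b ≠ 1) : a = b := by
  obtain ⟨y, _, hy⟩ := (Nat.card_eq_two_iff' (1 : A)).mp hA
  rw [hy a ha, hy b hb]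

/-- Let G be a finite group of even order with no subgroup of index 2, S a Sylow 2-subgroup of G and M a subgroup of index 2 in S such that, for some n ≥ 1, every element of S outside M has order greater than 2^(n−1). Then every element of S of order 2ⁿ is conjugate in G to an element of M. -/
theorem result {G : Type*} [Group G] [Finite G] (hev : Even (Nat.card G))
    (hG : ∀ H : Subgroup G, H.index ≠ 2) (S : Sylow 2 G) (M : Subgroup G) (hMS : M ≤ (S : Subgroup G)) (hM : M.relIndex (S : Subgroup G) = 2)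
    (n : ℕ) (hn : 1 ≤ n) (hord : ∀ y ∈ (S : Subgroup G), y ∉ M → 2 ^ (n - 1) < orderOf y)
    (x : G) (hx : x ∈ (S : Subgroup G)) (hxn : orderOf x = 2 ^ n) :
    ∃ g : G, g * x * g⁻¹ ∈ M := by
  classical
  by_contra hconj
  push Not at hconj
  have hprime : Fact (Nat.Prime 2) := ⟨Nat.prime_two⟩
  set Q' : Subgroup (S : Subgroup G) := M.subgroupOf (S : Subgroup G) with hQ'
  have hidx : Q'.index = 2 := hM
  have hQ'n : Q'.Normal := Subgroup.normal_of_index_eq_two hidx
  have hcard : Nat.card ((S : Subgroup G) ⧸ Q') = 2 := by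
    rw [← Subgroup.index_eq_card]; exact hidx
  have hcyc : IsCyclic ((S : Subgroup G) ⧸ Q') := isCyclic_of_prime_card hcard
  let ϕ : (S : Subgroup G) →* (S : Subgroup G) ⧸ Q' := QuotientGroup.mk' Q'
  have hϕ : ∀ y : (S : Subgroup G), ϕ y = 1 ↔ (y : G) ∈ M := by
    intro y
    rw [show ϕ y = (y : (S : Subgroup G) ⧸ Q') from rfl, QuotientGroup.eq_one_iff, hQ',
      Subgroup.mem_subgroupOf]
  set t : (S : Subgroup G) ⧸ Q' := ϕ ⟨x, hx⟩ with ht
  have hxM : x ∉ M := by
    have := hconj 1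
    simpa using this
  have ht1 : t ≠ 1 := by
    rw [ht, Ne, hϕ]; exact hxM
  have ht2 : t ^ 2 = 1 := by
    have := pow_card_eq_one' (G := (S : Subgroup G) ⧸ Q') (x := t)
    rwa [hcard] at this
  have hx2 : x ^ (2 ^ n) = 1 := by rw [← hxn]; exact pow_orderOf_eq_one x
  -- the terms of the transfer formula
  have hterm : ∀ (g : G) (m : ℕ) (hm : g⁻¹ * x ^ m * g ∈ (S : Subgroup G)), m ∣ 2 ^ n →
      ϕ ⟨g⁻¹ * x ^ m * g, hm⟩ = t ^ m := by
    intro g m hm hdvd
    obtain ⟨k, hk, rfl⟩ := (Nat.dvd_prime_pow Nat.prime_two).mp hdvd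
    rcases Nat.eq_zero_or_pos k with rfl | hkpos
    · have h1 : t ^ (2 ^ 0) = t := by rw [pow_zero, pow_one]
      rw [h1]
      apply eq_of_ne_one_of_card_two' hcard _ ht1
      rw [Ne, hϕ]
      have := hconj g⁻¹
      simpa using this
    · have h1 : t ^ (2 ^ k) = 1 := by
        obtain ⟨k', rfl⟩ : ∃ k', k = k' + 1 := ⟨k - 1, by omega⟩
        rw [pow_succ', pow_mul, ht2, one_pow]
      rw [h1, hϕ]
      by_contra hnot
      have h2 := hord _ hm hnot
      have h3 : (g⁻¹ * x ^ (2 ^ k) * g) ^ (2 ^ (n - k)) = 1 := by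
        have e1 : g⁻¹ * x ^ (2 ^ k) * g = g⁻¹ * x ^ (2 ^ k) * g⁻¹⁻¹ := by rw [inv_inv]
        rw [e1, conj_pow, ← pow_mul, ← pow_add, Nat.add_sub_cancel' hk, hx2]
        group
      have h4 : orderOf (g⁻¹ * x ^ (2 ^ k) * g) ≤ 2 ^ (n - k) :=
        Nat.le_of_dvd (by positivity) (orderOf_dvd_of_pow_eq_one h3)
      have h5 : 2 ^ (n - k) ≤ 2 ^ (n - 1) := Nat.pow_le_pow_right (by norm_num) (by omega)
      omega
  have : Fintype (Quotient (orbitRel (zpowers x) (G ⧸ (S : Subgroup G)))) := Fintype.ofFinite _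
  have hV : MonoidHom.transfer ϕ x = t := by
    rw [MonoidHom.transfer_eq_prod_quotient_orbitRel_zpowers_quot]
    have h1 : ∀ q : Quotient (orbitRel (zpowers x) (G ⧸ (S : Subgroup G))),
        ϕ ⟨q.out.out⁻¹ * x ^ Function.minimalPeriod (x • ·) q.out * q.out.out,
            QuotientGroup.out_conj_pow_minimalPeriod_mem (S : Subgroup G) x q.out⟩ =
          t ^ Function.minimalPeriod (x • ·) q.out := by
      intro q
      apply hterm
      rw [← MulAction.pow_smul_eq_iff_minimalPeriod_dvd, hx2, one_smul]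
    rw [Finset.prod_congr rfl (fun q _ => h1 q), Finset.prod_pow_eq_pow_sum,
      ← Subgroup.index_eq_sum_minimalPeriod (S : Subgroup G) x]
    have hodd : ¬ 2 ∣ (S : Subgroup G).index := S.not_dvd_index
    have hodd' : (S : Subgroup G).index % 2 = 1 := by omega
    rw [← Nat.div_add_mod (S : Subgroup G).index 2, hodd', pow_add, pow_mul, ht2, one_pow, one_mul,
      pow_one]
  apply hG (MonoidHom.transfer ϕ).ker
  rw [Subgroup.index_ker]
  have h1 : Nat.card (MonoidHom.transfer ϕ).range ∣ 2 := by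
    have h0 := Subgroup.card_subgroup_dvd_card (MonoidHom.transfer ϕ).range
    rwa [hcard] at h0
  rcases (Nat.dvd_prime Nat.prime_two).mp h1 with h | h
  · exfalso
    have hbot : (MonoidHom.transfer ϕ).range = ⊥ := Subgroup.card_eq_one.mp h
    have hmem : t ∈ (MonoidHom.transfer ϕ).range := ⟨x, hV⟩
    rw [hbot, Subgroup.mem_bot] at hmem
    exact ht1 hmem
  · exact h

end Cfsg.Agent.S3225
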