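import Cfsg.Statements.S3919
import Cfsg.Agent.S0112
import Cfsg.Agent.S0115
import Cfsg.Agent.Lib.helper59.MaxClass2
import Cfsg.Agent.Lib.helper59.PairOrderP

set_option autoImplicit false
open Cfsg

namespace Cfsg.Agent.S3919

open Subgroup Cfsg.Agent.Lib.helper59

/-- In a non-abelian `2`-group the derived subgroup has index different from `1` and `2`. -/
theorem index_commutator_ne {G : Type*} [Group G] [Finite G] (hP : IsPGroup 2 G)
    (hna : ¬ IsMulCommutative G) : (commutator G).index ≠ 1 ∧ (commutator G).index ≠ 2 := by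
  have : Fact (Nat.Prime 2) := ⟨Nat.prime_two⟩
  have hncyc : ¬ IsCyclic (G ⧸ commutator G) := by
    intro hcyc
    have hGc := Cfsg.Agent.S0115.isCyclic_of_isCyclic_abelianization hP hcyc
    exact hna IsCyclic.isMulCommutative
  constructor
  · intro hi
    apply hncyc
    have hc1 : Nat.card (G ⧸ commutator G) = 1 := by rw [← Subgroup.index_eq_card, hi]
    have : Subsingleton (G ⧸ commutator G) := (Nat.card_eq_one_iff_unique.mp hc1).1
    exact isCyclic_of_subsingleton
  · intro hi
    apply hncyc
    have hc2 : Nat.card (G ⧸ commutator G) = 2 := by rw [← Subgroup.index_eq_card, hi]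
    exact isCyclic_of_prime_card hc2

/-- Say that a group has self-centralizing non-cyclic subgroups when every non-cyclic subgroup H satisfies C_G(H) ≤ H. A finite non-abelian 2-group G of order 2^n has self-centralizing non-cyclic subgroups if and only if G has nilpotency class n − 1 (that is, G is dihedral, semidihedral or generalized quaternion). -/
theorem result {G : Type*} [Group G] [Finite G] (hna : ¬ IsMulCommutative G) (n : ℕ) (hG : Nat.card G = 2 ^ n) :
    (∀ H : Subgroup G, ¬ IsCyclic ↥H → Subgroup.centralizer (H : Set G) ≤ H) ↔ (⊤ : Subgroup G).lowerCentralSeries (n - 2) ≠ ⊥ := by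
  have hP : IsPGroup 2 G := IsPGroup.of_card hG
  have : Fact (Nat.Prime 2) := ⟨Nat.prime_two⟩
  have hnil : Group.IsNilpotent G := hP.isNilpotent
  have hn3 : 3 ≤ n := by
    by_contra hlt
    push Not at hlt
    apply hna
    interval_cases n
    · have : Subsingleton G := (Nat.card_eq_one_iff_unique.mp (by simpa using hG)).1
      exact ⟨⟨fun a b => Subsingleton.elim _ _⟩⟩
    · have : IsCyclic G := isCyclic_of_prime_card (p := 2) (by simpa using hG)
      exact IsCyclic.isMulCommutative
    · exact IsPGroup.isMulCommutative_of_card_eq_prime_sq (p := 2) (by simpa using hG)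
  obtain ⟨N, rfl⟩ : ∃ N, n = N + 3 := ⟨n - 3, by omega⟩
  rw [show N + 3 - 2 = N + 1 from rfl]
  have hclass : Group.nilpotencyClass G = N + 3 - 1 →
      (⊤ : Subgroup G).lowerCentralSeries (N + 1) ≠ ⊥ := by
    intro hc hbot
    rw [Subgroup.lowerCentralSeries_eq_bot_iff_nilpotencyClass_le, hc] at hbot
    omega
  constructor
  · intro hprop
    by_cases hU : UniqueOrderP 2 G
    · rcases cyclic_or_quaternion_rel_of_uniqueOrderP hP hU with
        h | ⟨n', a, b, ha, hcard, hb, hb2, hinv⟩
      · exact absurd IsCyclic.isMulCommutative hna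
      · have hn' : n' = N := by
          rw [hG] at hcard
          have := Nat.pow_right_injective (le_refl 2) hcard
          omega
        subst hn'
        have hidx := index_commutator_of_inverts n' a b ha hG hinv
        exact hclass (Cfsg.Agent.S0115.taussky (n' + 3) G (by omega) hG hidx).1
    · obtain ⟨t, z, ht, hz, hzc, hne⟩ := exists_commuting_pair_of_not_uniqueOrderP hP hU
      have hcomm : t * z = z * t := (Subgroup.mem_center_iff.mp hzc) t
      obtain ⟨B, hBcard, hBc, hBe, -, -⟩ := exists_rank_two_of_commuting ht hz hcomm hne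
      have hBnc := not_isCyclic_of_card_sq_of_exp B hBcard hBe
      have hC : Subgroup.centralizer (B : Set G) = B := by
        apply le_antisymm (hprop B hBnc)
        intro x hx
        rw [Subgroup.mem_centralizer_iff]
        intro y hy
        exact hBc y hy x hx
      exact hclass (Cfsg.Agent.S0112.result (N + 3) hG B hBcard hC)
  · intro hlcs H hH
    have hcl : N + 2 ≤ Group.nilpotencyClass G := by
      by_contra hlt
      push Not at hlt
      apply hlcs
      rw [Subgroup.lowerCentralSeries_eq_bot_iff_nilpotencyClass_le]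
      omega
    have h1 := Cfsg.Agent.S0115.lcs_card_ge (X := G) (Group.nilpotencyClass G - 1) (by omega)
    rw [show Group.nilpotencyClass G - (Group.nilpotencyClass G - 1) = 1 by omega,
      Subgroup.top_lowerCentralSeries_one] at h1
    have h1' : 2 ^ (N + 1) ≤ Nat.card (commutator G) :=
      le_trans (Nat.pow_le_pow_right (by norm_num) (by omega)) h1
    have h2 := Subgroup.card_mul_index (commutator G)
    rw [hG] at h2
    have hdvd : (commutator G).index ∣ 2 ^ (N + 3) := Dvd.intro_left _ h2
    obtain ⟨k, hk, hk2⟩ := (Nat.dvd_prime_pow Nat.prime_two).mp hdvd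
    obtain ⟨hi1, hi2⟩ := index_commutator_ne hP hna
    have hk_le : k ≤ 2 := by
      by_contra hcon
      push Not at hcon
      have h3 : 2 ^ 3 ≤ 2 ^ k := Nat.pow_le_pow_right (by norm_num) hcon
      rw [hk2] at h2
      have h4 := Nat.mul_le_mul h1' h3
      have e : (2 : ℕ) ^ (N + 3) = 2 ^ (N + 1) * 4 := by ring
      have h5 : 0 < 2 ^ (N + 1) := by positivity
      nlinarith
    have hidx : (commutator G).index = 4 := by
      rw [hk2] at hi1 hi2 ⊢
      interval_cases k
      · exact absurd rfl hi1
      · exact absurd rfl hi2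
      · rfl
    obtain ⟨a, b, ha, hb, hcase⟩ := taussky_rel N hG hidx
    have hinvcase : b * a * b⁻¹ = a⁻¹ → Subgroup.centralizer (H : Set G) ≤ H := by
      intro hinv
      exact centralizer_le_of_rel N a b (-1) ha hG hb (by rw [hinv, zpow_neg_one]) (by
        intro i hi
        have e : i * (-1 - 1) = -(2 * i) := by ring
        rw [e] at hi
        exact (dvd_neg.mp hi)) H hH
    rcases hcase with ⟨-, hinv⟩ | ⟨-, hinv⟩ | ⟨hN1, -, hsd⟩
    · exact hinvcase hinv
    · exact hinvcase hinv
    · exact centralizer_le_of_rel N a b (2 ^ (N + 1) - 1) ha hG hb (by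
        rw [hsd, ← zpow_natCast]; congr 1
        have : 1 ≤ 2 ^ (N + 1) := Nat.one_le_two_pow
        push_cast [this]; ring) (by
        intro i hi
        obtain ⟨M, rfl⟩ : ∃ M, N = M + 1 := ⟨N - 1, by omega⟩
        have e : i * ((2 : ℤ) ^ (M + 1 + 1) - 1 - 1) = (2 * i) * (2 ^ (M + 1) - 1) := by ring
        rw [e] at hi
        have hcop : IsCoprime ((2 : ℤ) ^ (M + 1 + 2)) (2 ^ (M + 1) - 1) := by
          apply IsCoprime.pow_left
          exact ⟨2 ^ M, -1, by ring⟩
        exact hcop.dvd_of_dvd_mul_right hi) H hH

end Cfsg.Agent.S3919
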