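import Cfsg.Statements.S3761
import Cfsg.Agent.Lib.helper59.SelfCentCyclic4

set_option autoImplicit false
open Cfsg
open Cfsg.Agent.Lib.helper59

namespace Cfsg.Agent.S3761

/-- Let G be a finite non-abelian p-group with a cyclic normal subgroup U of order p^n such that C_G(U) = U. Then either p = 2 and G is dihedral, generalized quaternion or semidihedral of order 2^(n+1); or, writing U₁ for the subgroup generated by the p-th powers of elements of U and M = C_G(U₁), the subgroup U has index p in M and the subgroup Ω₁(M) generated by the elements of M of order dividing p is elementary abelian of order p² and characteristic in G. -/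
theorem result {G : Type*} [Group G] [Finite G] {p : ℕ} [Fact p.Prime] (hG : IsPGroup p G) (hna : ¬ IsMulCommutative G) (U : Subgroup G) [U.Normal] (hU : IsCyclic U) (n : ℕ) (hUn : Nat.card U = p ^ n) (hC : Subgroup.centralizer (U : Set G) = U) : (p = 2 ∧ Nat.card G = 2 ^ (n + 1) ∧ ((∃ m : ℕ, Nonempty (G ≃* DihedralGroup m)) ∨ (∃ m : ℕ, Nonempty (G ≃* QuaternionGroup m)) ∨ Cfsg.IsQuasiDihedral G)) ∨ (U.relIndex (Subgroup.centralizer (Cfsg.powerClosure p 1 U : Set G)) = p ∧ Cfsg.IsElementaryAbelian p (Cfsg.omegaOne p (Subgroup.centralizer (Cfsg.powerClosure p 1 U : Set G))) ∧ Nat.card ↥(Cfsg.omegaOne p (Subgroup.centralizer (Cfsg.powerClosure p 1 U : Set G))) = p ^ 2 ∧ (Cfsg.omegaOne p (Subgroup.centralizer (Cfsg.powerClosure p 1 U : Set G))).Characteristic) := by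
  obtain ⟨u, hu⟩ := (Subgroup.isCyclic_iff_exists_zpowers_eq_top U).mp hU
  have hord : orderOf u = p ^ n := by
    rw [← Nat.card_zpowers, hu, hUn]
  obtain ⟨S, hSn⟩ : ∃ S : SCC p U, S.n = n := ⟨⟨u, n, hu, hord, hC⟩, rfl⟩
  have hne : U ≠ ⊤ := by
    intro h
    apply hna
    refine ⟨⟨fun a b => ?_⟩⟩
    have ha : a ∈ U := by rw [h]; trivial
    have hb : b ∈ U := by rw [h]; trivial
    obtain ⟨i, rfl⟩ := (S.mem_iff_exists _).mp ha
    obtain ⟨j, rfl⟩ := (S.mem_iff_exists _).mp hb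
    rw [← zpow_add, ← zpow_add, add_comm]
  have hn2 : 2 ≤ S.n := S.two_le_n hG hne
  by_cases hI : (∃ x, x ∈ scM p U ∧ x ∉ U) ∧ (p ≠ 2 ∨ 3 ≤ S.n)
  · right
    obtain ⟨⟨x, hxM, hxU⟩, hpn⟩ := hI
    exact S.caseB hG hn2 hpn hxM hxU
  · left
    have hp2 : p = 2 := by
      by_contra hp2
      obtain ⟨x, hxU, hxp⟩ := SCC.exists_key hG hne
      obtain ⟨k, hk⟩ := S.exists_conj x
      obtain ⟨h1, h2⟩ := S.key_action hxU hxp hk
      have h3 := pow_pred_dvd_sub_one hp2 (by omega) h1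
      exact hI ⟨⟨x, (S.mem_scM_iff_of_conj hk (by omega)).mpr h3, hxU⟩, Or.inl hp2⟩
    subst hp2
    have hno : 3 ≤ S.n → scM 2 U ≤ U := by
      intro h3 x hxM
      by_contra hxU
      exact hI ⟨⟨x, hxM, hxU⟩, Or.inr h3⟩
    obtain ⟨hcard, hiso⟩ := S.caseA2 hG hne hno
    rw [hSn] at hcard
    exact ⟨rfl, hcard, hiso⟩

end Cfsg.Agent.S3761
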