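import Mathlib
import Cfsg.Statements.S0203
import Cfsg.Agent.Lib.helper5.KleinSylow

set_option autoImplicit false
open Cfsg

namespace Cfsg.Agent.S0203

/-- If a Sylow 2-subgroup P of a finite group G is a Klein four-group, then G has three classes of involutions if and only if P has a normal complement in G. -/
theorem result {G : Type*} [Group G] [Finite G] (P : Sylow 2 G) (hP : IsKleinFour (P : Subgroup G)) : Nat.card {C : ConjClasses G // ∃ t : G, orderOf t = 2 ∧ ConjClasses.mk t = C} = 3 ↔ ∃ N : Subgroup G, N.Normal ∧ Subgroup.IsComplement' N (P : Subgroup G) := by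
  obtain ⟨a, b, ha, hb, hc, ha1, hb1, hc1, hab, hac, hbc, hall', hsq, hcomm, h⟩ :=
    Cfsg.Agent.Lib.helper5.klein_classes P hP
  rw [Cfsg.Agent.Lib.helper5.card_invClasses]
  constructor
  · intro h3
    rcases h with ⟨hnab, hnac, hnbc, _⟩ | ⟨_, _, h1⟩
    · have hNC : Subgroup.normalizer (P : Set G) ≤ Subgroup.centralizer (P : Set G) := by
        intro n hn
        rw [Subgroup.mem_centralizer_iff]
        intro x hx
        have hx' : n * x * n⁻¹ ∈ P := (Subgroup.mem_normalizer_iff.1 hn x).1 hx
        have hconj : IsConj x (n * x * n⁻¹) := isConj_iff.2 ⟨n, rfl⟩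
        have key : n * x * n⁻¹ = x := by
          by_cases hx1 : x = 1
          · rw [hx1]; group
          have hx'1 : n * x * n⁻¹ ≠ 1 := by
            intro h
            apply hx1
            have : x = n⁻¹ * (n * x * n⁻¹) * n := by group
            rw [this, h]; group
          rcases hall' x hx with h | h | h | h <;> rcases hall' _ hx' with h' | h' | h' | h' <;>
          first
            | exact absurd h hx1
            | exact absurd h' hx'1
            | (rw [h', h]; done)
            | (exfalso; rw [h', h] at hconj;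
               first
                | exact hnab hconj
                | exact hnab hconj.symm
                | exact hnac hconj
                | exact hnac hconj.symm
                | exact hnbc hconj
                | exact hnbc hconj.symm)
        calc x * n = (n * x * n⁻¹) * n := by rw [key]
          _ = n * x := by group
      exact ⟨_, MonoidHom.normal_ker _, MonoidHom.ker_transferSylow_isComplement' P hNC⟩
    · omega
  · rintro ⟨N, hN, hcomp⟩
    rcases h with ⟨_, _, _, h3⟩ | ⟨hcab, _, _⟩
    · exact h3
    · exfalso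
      obtain ⟨g, hg⟩ := isConj_iff.1 hcab
      obtain ⟨⟨⟨n, hn⟩, ⟨p, hp⟩⟩, hnp, _⟩ := (Subgroup.isComplement'_def.1 hcomp).existsUnique g
      have hnp' : n * p = g := hnp
      have h1 : g * a * g⁻¹ = n * a * n⁻¹ := by
        rw [← hnp']
        calc n * p * a * (n * p)⁻¹ = n * (p * a) * p⁻¹ * n⁻¹ := by group
          _ = n * (a * p) * p⁻¹ * n⁻¹ := by rw [hcomm p hp a ha]
          _ = n * a * n⁻¹ := by group
      have h2 : a⁻¹ * b ∈ N := by
        rw [← hg, h1]
        have : a⁻¹ * (n * a * n⁻¹) = (a⁻¹ * n * a⁻¹⁻¹) * n⁻¹ := by group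
        rw [this]
        exact N.mul_mem (hN.conj_mem n hn a⁻¹) (N.inv_mem hn)
      have h3 : a⁻¹ * b ∈ (P : Subgroup G) :=
        (P : Subgroup G).mul_mem ((P : Subgroup G).inv_mem ha) hb
      have h4 : a⁻¹ * b ∈ N ⊓ (P : Subgroup G) := ⟨h2, h3⟩
      rw [hcomp.isCompl.inf_eq_bot, Subgroup.mem_bot] at h4
      exact hab (inv_mul_eq_one.1 h4)

end Cfsg.Agent.S0203
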