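import Cfsg.Statements.S0992
import Cfsg.Agent.Lib.helper21.NC
import Cfsg.Agent.Lib.helper21.AutCard
import Mathlib

set_option autoImplicit false
open Cfsg

namespace Cfsg.Agent.S0992

open Cfsg.Agent.Lib.helper21 Subgroup

/-- Let G be a non-abelian finite simple group of even order not divisible by 8, and T a Sylow 2-subgroup. Then T is a Klein four-group and the centralizer of T has index 3 in the normalizer of T. -/
theorem result {G : Type*} [Group G] [Finite G] [IsSimpleGroup G] (hG : ¬ IsMulCommutative G) (h2 : Even (Nat.card G)) (h8 : ¬ 8 ∣ Nat.card G) (T : Sylow 2 G) : IsKleinFour ↥(T : Subgroup G) ∧ (Subgroup.centralizer ((T : Subgroup G) : Set G)).relIndex (Subgroup.normalizer ((T : Subgroup G) : Set G)) = 3 := by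
  have hp2 : Nat.Prime 2 := Nat.prime_two
  obtain ⟨k, hk⟩ := T.2.exists_card_eq
  have h2dvd : 2 ∣ Nat.card G := even_iff_two_dvd.mp h2
  have hk1 : 1 ≤ k := by
    have h1 := T.dvd_card_of_dvd_card h2dvd
    rw [hk] at h1
    by_contra h
    have hk0 : k = 0 := by omega
    subst hk0
    simp at h1
  have hk2 : k ≤ 2 := by
    by_contra h
    apply h8
    have h1 : 2 ^ 3 ∣ 2 ^ k := pow_dvd_pow 2 (by omega)
    exact h1.trans (hk ▸ Subgroup.card_subgroup_dvd_card _)
  have hTbot : (T : Subgroup G) ≠ ⊥ := by
    intro h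
    rw [h, Subgroup.card_bot] at hk
    have : 1 < 2 ^ k := Nat.one_lt_pow (by omega) (by norm_num)
    omega
  have hTtop : (T : Subgroup G) ≠ ⊤ := by
    intro h
    apply hG
    have hcard : Nat.card G = 2 ^ k := by rw [← hk, h, Subgroup.card_top]
    have hk' : k = 1 ∨ k = 2 := by omega
    rcases hk' with rfl | rfl
    · have : IsCyclic G := isCyclic_of_prime_card (p := 2) (by simpa using hcard)
      exact this.isMulCommutative
    · exact IsPGroup.isMulCommutative_of_card_eq_prime_sq hcard
  have hmin : (Nat.card G).minFac = 2 := (Nat.minFac_eq_two_iff _).mpr h2dvd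
  have hncyc : ¬ IsCyclic (T : Subgroup G) := by
    intro hc
    rcases sylow_eq_bot_or_eq_top_of_normalizer_le_centralizer T
      (hc.normalizer_le_centralizer hmin) with h | h
    exacts [hTbot h, hTtop h]
  have hk' : k = 2 := by
    by_contra h
    have hk1' : k = 1 := by omega
    subst hk1'
    exact hncyc (isCyclic_of_prime_card (p := 2) (by simpa using hk))
  subst hk'
  have hT4 : Nat.card (T : Subgroup G) = 4 := by simpa using hk
  have hKF : IsKleinFour (T : Subgroup G) :=
    ⟨hT4, (not_isCyclic_iff_exponent_eq_prime hp2 hk).mp hncyc⟩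
  refine ⟨hKF, ?_⟩
  have hab : ∀ a ∈ (T : Subgroup G), ∀ b ∈ (T : Subgroup G), a * b = b * a := by
    intro a ha b hb
    have := (IsPGroup.isMulCommutative_of_card_eq_prime_sq hk).is_comm.comm
      (⟨a, ha⟩ : (T : Subgroup G)) ⟨b, hb⟩
    exact congrArg Subtype.val this
  set e := (Subgroup.centralizer ((T : Subgroup G) : Set G)).relIndex
    (Subgroup.normalizer ((T : Subgroup G) : Set G)) with he
  have he1 : e ∣ Nat.card (MulAut (T : Subgroup G)) :=
    relIndex_centralizer_normalizer_dvd_card_mulAut _
  have he2 : e ∣ 6 := by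
    refine he1.trans ?_
    have h1 := card_mulAut_dvd_factorial (T : Subgroup G)
    rw [hT4] at h1
    exact h1
  have he3 : e ∣ (T : Subgroup G).index :=
    (relIndex_centralizer_normalizer_dvd_relIndex _ hab).trans
      (relIndex_dvd_index_of_le le_normalizer)
  have hodd : ¬ 2 ∣ (T : Subgroup G).index := T.not_dvd_index
  have hene1 : e ≠ 1 := by
    intro h
    have hNC : normalizer ((T : Subgroup G) : Set G) ≤ centralizer ((T : Subgroup G) : Set G) :=
      relIndex_eq_one.mp h
    rcases sylow_eq_bot_or_eq_top_of_normalizer_le_centralizer T hNC with h | h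
    exacts [hTbot h, hTtop h]
  have hele : e ≤ 6 := Nat.le_of_dvd (by norm_num) he2
  have he2' : ¬ 2 ∣ e := fun h => hodd (h.trans he3)
  clear_value e
  interval_cases e
  all_goals first | rfl | (exact absurd he2 (by decide)) | (exact absurd rfl hene1) | (exact absurd (by decide) he2')

end Cfsg.Agent.S0992
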