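import Cfsg.Statements.S0254
import Cfsg.Agent.Lib.helper6.AffPerm
import Cfsg.Agent.Lib.helper6.Compat
import Cfsg.Agent.Lib.helper6.PSLPerm
import Cfsg.Agent.Lib.helper45.SLGen

set_option autoImplicit false
open Cfsg

namespace Cfsg.Agent.S0254

open Matrix Cfsg.Agent.Lib.helper6
open scoped LinearAlgebra.Projectivization

instance fact9 : Fact (∀ r : ZMod 3, r ^ 2 ≠ 2 + 0 * r) := ⟨by decide⟩

/-- the field with 9 elements, `F_3[i]` -/
abbrev F9 := QuadraticAlgebra (ZMod 3) 2 0

instance fintypeF9 : Fintype F9 :=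
  Fintype.ofEquiv (ZMod 3 × ZMod 3) (QuadraticAlgebra.equivProd 2 0).symm

theorem card_F9 : Fintype.card F9 = 9 := by
  rw [Fintype.card_congr (QuadraticAlgebra.equivProd (2 : ZMod 3) 0)]
  simp [ZMod.card]

/-- `i` -/
def w9 : F9 := ⟨0, 1⟩

/-- representatives of the points of the projective line over `F_9`, labelled by the ten
bisections of a 6-set -/
def pt : Fin 10 → Fin 2 → F9 :=
  ![![1, 0], ![⟨0,0⟩, 1], ![⟨0,1⟩, 1], ![⟨0,2⟩, 1], ![⟨2,0⟩, 1], ![⟨2,1⟩, 1], ![⟨2,2⟩, 1],
    ![⟨1,2⟩, 1], ![⟨1,1⟩, 1], ![⟨1,0⟩, 1]]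

/-- the ten bisections of `Fin 6` (indicator of the part containing `0`) -/
def chi : Fin 10 → Fin 6 → Bool :=
  ![![true, true, true, false, false, false], ![true, true, false, true, false, false],
    ![true, true, false, false, true, false], ![true, true, false, false, false, true],
    ![true, false, true, true, false, false], ![true, false, true, false, true, false],
    ![true, false, true, false, false, true], ![true, false, false, true, true, false],
    ![true, false, false, true, false, true], ![true, false, false, false, true, true]]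

/-- a bisection as an equivalence relation -/
def bis (k : Fin 10) : Fin 6 → Fin 6 → Bool := fun i j => chi k i == chi k j

def fT1 : Fin 10 → Fin 10 := ![0, 9, 8, 7, 1, 2, 3, 6, 5, 4]
def fTi : Fin 10 → Fin 10 := ![0, 2, 3, 1, 5, 6, 4, 9, 7, 8]
def fT1' : Fin 10 → Fin 10 := ![9, 1, 6, 5, 0, 8, 7, 2, 3, 4]
def fTi' : Fin 10 → Fin 10 := ![3, 1, 0, 2, 8, 6, 9, 4, 7, 5]

def s1 : Equiv.Perm (Fin 6) := Equiv.swap 0 1 * Equiv.swap 1 2
def si : Equiv.Perm (Fin 6) := Equiv.swap 3 4 * Equiv.swap 4 5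
def s1' : Equiv.Perm (Fin 6) := Equiv.swap 0 1 * Equiv.swap 1 3
def si' : Equiv.Perm (Fin 6) := Equiv.swap 2 5 * Equiv.swap 5 4

theorem pt_ne (k : Fin 10) : pt k ≠ 0 := by
  revert k; decide

theorem pt_inj : ∀ k l : Fin 10, (∃ a : F9, a • pt l = pt k) → k = l := by decide

theorem bis_inj : ∀ k l : Fin 10, bis k = bis l → k = l := by decide

theorem pt_T1 : ∀ k, ∃ a : F9, a • pt (fT1 k)
    = (1 + Matrix.single 0 1 1 : Matrix (Fin 2) (Fin 2) F9) *ᵥ pt k := by decide
theorem pt_Ti : ∀ k, ∃ a : F9, a • pt (fTi k)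
    = (1 + Matrix.single 0 1 w9 : Matrix (Fin 2) (Fin 2) F9) *ᵥ pt k := by decide
theorem pt_T1' : ∀ k, ∃ a : F9, a • pt (fT1' k)
    = (1 + Matrix.single 1 0 1 : Matrix (Fin 2) (Fin 2) F9) *ᵥ pt k := by decide
theorem pt_Ti' : ∀ k, ∃ a : F9, a • pt (fTi' k)
    = (1 + Matrix.single 1 0 w9 : Matrix (Fin 2) (Fin 2) F9) *ᵥ pt k := by decide

theorem bis_T1 : ∀ k, relPermHom (Fin 6) Bool s1 (bis k) = bis (fT1 k) := by decide
theorem bis_Ti : ∀ k, relPermHom (Fin 6) Bool si (bis k) = bis (fTi k) := by decide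
theorem bis_T1' : ∀ k, relPermHom (Fin 6) Bool s1' (bis k) = bis (fT1' k) := by decide
theorem bis_Ti' : ∀ k, relPermHom (Fin 6) Bool si' (bis k) = bis (fTi' k) := by decide

theorem s1_mem : s1 ∈ alternatingGroup (Fin 6) := by
  rw [Equiv.Perm.mem_alternatingGroup]; decide
theorem si_mem : si ∈ alternatingGroup (Fin 6) := by
  rw [Equiv.Perm.mem_alternatingGroup]; decide
theorem s1'_mem : s1' ∈ alternatingGroup (Fin 6) := by
  rw [Equiv.Perm.mem_alternatingGroup]; decide
theorem si'_mem : si' ∈ alternatingGroup (Fin 6) := by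
  rw [Equiv.Perm.mem_alternatingGroup]; decide

theorem F9_decomp : ∀ c : F9, c = c.re.val • (1 : F9) + c.im.val • w9 := by decide

/-- the labelling of the projective line -/
def e0 (k : Fin 10) : ℙ F9 (Fin 2 → F9) := Projectivization.mk F9 (pt k) (pt_ne k)

theorem e0_bijective : Function.Bijective e0 := by
  have hinj : Function.Injective e0 := by
    intro v w h
    rw [e0, e0, Projectivization.mk_eq_mk_iff'] at h
    exact pt_inj v w h
  rw [Nat.bijective_iff_injective_and_card]
  refine ⟨hinj, ?_⟩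
  rw [card_projLine, card_F9]
  simp

/-- the labelling as an equivalence -/
noncomputable def eL : Fin 10 ≃ ℙ F9 (Fin 2 → F9) := Equiv.ofBijective e0 e0_bijective

theorem eL_apply (k : Fin 10) : eL k = e0 k := rfl

theorem smul_eL (g : SpecialLinearGroup (Fin 2) F9) (f : Fin 10 → Fin 10)
    (h : ∀ k, ∃ a : F9, a • pt (f k) = g.1 *ᵥ pt k) (k : Fin 10) : g • eL k = eL (f k) := by
  rw [eL_apply, eL_apply, e0, e0, Projectivization.smul_mk, Projectivization.mk_eq_mk_iff']
  obtain ⟨a, ha⟩ := h k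
  exact ⟨a, by rw [ha]; rfl⟩

/-- `PSL_2(9)` acting on the projective line -/
noncomputable def rho : ProjectiveSpecialLinearGroup (Fin 2) F9 →*
    Equiv.Perm (ℙ F9 (Fin 2 → F9)) := Projectivization.PSLAction.toPermHom

/-- `A_6` acting on relations on `Fin 6` -/
def phi : alternatingGroup (Fin 6) →* Equiv.Perm (Fin 6 → Fin 6 → Bool) :=
  (relPermHom (Fin 6) Bool).comp (alternatingGroup (Fin 6)).subtype

/-- points to bisections -/
noncomputable def iota (a : ℙ F9 (Fin 2 → F9)) : Fin 6 → Fin 6 → Bool := bis (eL.symm a)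

theorem iota_injective : Function.Injective iota := by
  intro a b h
  exact eL.symm.injective (bis_inj _ _ h)

theorem compat_of_data (g : SpecialLinearGroup (Fin 2) F9) (σ : Equiv.Perm (Fin 6))
    (hσ : σ ∈ alternatingGroup (Fin 6)) (f : Fin 10 → Fin 10)
    (h1 : ∀ k, ∃ a : F9, a • pt (f k) = g.1 *ᵥ pt k)
    (h2 : ∀ k, relPermHom (Fin 6) Bool σ (bis k) = bis (f k)) :
    (QuotientGroup.mk g : ProjectiveSpecialLinearGroup (Fin 2) F9) ∈ compatLeft rho phi iota := by
  rw [mem_compatLeft]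
  refine ⟨⟨σ, hσ⟩, fun a => ?_⟩
  obtain ⟨k, rfl⟩ := eL.surjective a
  have h3 : rho (QuotientGroup.mk g) (eL k) = g • eL k := rfl
  rw [h3, smul_eL g f h1 k]
  simp only [iota, Equiv.symm_apply_apply]
  exact h2 k

theorem transv_mem (i j : Fin 2) (hij : i ≠ j) (c : F9) :
    (QuotientGroup.mk (SpecialLinearGroup.transvection hij c) :
      ProjectiveSpecialLinearGroup (Fin 2) F9) ∈ compatLeft rho phi iota := by
  rw [F9_decomp c, SpecialLinearGroup.transvection_add, transvection_nsmul, transvection_nsmul,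
    QuotientGroup.mk_mul, QuotientGroup.mk_pow, QuotientGroup.mk_pow]
  refine Subgroup.mul_mem _ (Subgroup.pow_mem _ ?_ _) (Subgroup.pow_mem _ ?_ _)
  · fin_cases i <;> fin_cases j
    · exact absurd rfl hij
    · exact compat_of_data _ s1 s1_mem fT1 pt_T1 bis_T1
    · exact compat_of_data _ s1' s1'_mem fT1' pt_T1' bis_T1'
    · exact absurd rfl hij
  · fin_cases i <;> fin_cases j
    · exact absurd rfl hij
    · exact compat_of_data _ si si_mem fTi pt_Ti bis_Ti
    · exact compat_of_data _ si' si'_mem fTi' pt_Ti' bis_Ti'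
    · exact absurd rfl hij

theorem compat_top : compatLeft rho phi iota = ⊤ := by
  have htop : (compatLeft rho phi iota).comap
      (QuotientGroup.mk' (Subgroup.center (SpecialLinearGroup (Fin 2) F9))) = ⊤ := by
    apply Cfsg.Agent.Lib.helper45.eq_top_of_transvection_mem
    intro i j hij a
    exact transv_mem i j hij a
  rw [eq_top_iff]
  intro x _
  obtain ⟨g, rfl⟩ := QuotientGroup.mk_surjective x
  have : g ∈ (compatLeft rho phi iota).comap
      (QuotientGroup.mk' (Subgroup.center (SpecialLinearGroup (Fin 2) F9))) := by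
    rw [htop]; trivial
  exact this

theorem card_psl29 : Nat.card (ProjectiveSpecialLinearGroup (Fin 2) F9) = 360 := by
  have h := card_PSL (F := F9) 2 (by norm_num)
  rw [card_F9] at h
  simp [Fin.prod_univ_two] at h
  rw [Nat.card_eq_fintype_card]
  omega

theorem card_a6 : Nat.card (alternatingGroup (Fin 6)) = 360 := by
  have h := two_mul_card_alternatingGroup (α := Fin 6)
  rw [Fintype.card_perm, Fintype.card_fin] at h
  rw [Nat.card_eq_fintype_card]
  have : Nat.factorial 6 = 720 := by decide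
  omega

theorem main : Nonempty (ProjectiveSpecialLinearGroup (Fin 2) F9 ≃* alternatingGroup (Fin 6)) :=
  nonempty_mulEquiv_of_compat rho phi iota
    Matrix.ProjectiveSpecialLinearGroup.toPermHom_injective iota_injective compat_top
    (by rw [card_psl29, card_a6])

/-- PSL_2(9) is isomorphic to A_6. -/
theorem result {F : Type*} [Field F] [Fintype F] (hF : Fintype.card F = 9) : Nonempty (Matrix.ProjectiveSpecialLinearGroup (Fin 2) F ≃* alternatingGroup (Fin 6)) := by
  obtain ⟨e⟩ := main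
  have eF : F ≃+* F9 := FiniteField.ringEquivOfCardEq (hF.trans card_F9.symm)
  exact ⟨(pslCongr eF).trans e⟩

end Cfsg.Agent.S0254
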