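import Cfsg.Statements.S1611
import Cfsg.Agent.Lib.helper34.Hexacode2

set_option autoImplicit false
open Cfsg

namespace Cfsg.Agent.S1611

open Cfsg.Agent.Lib.helper34

/-- Packed table of the 360 even permutations: table, inverse table and scalars. -/
def tab : ℕ := nat_lit 0x3ffff555b1a22c688e55b1846c642b55b190ac611555b1306c4c1b55b0b42c458e55b032ac40be55b1162c2d0b55b0266c283555b086ac21ab55b102ec0cae55b0a0ec099555b014ec053ff9ae206b8817b9ae142b850b79ae02ab80aff9aa322b508b79a2346b4447b9a630ab4217b9aa066b302b79a6262b2a0ff9a216ab214b79aa10eb1117b9a222eb08cff9a604eb062aadad422a8c86bdac446a843e9dacc0aa819aada9c06a701e9da5c42a6606bda1c2aa60c6bda8c62a318e9da1466a2c4aada446aa223e9da842ea10b6bda540ea0e1aada0c4ea05c9edad08698c2de9aca8298985e5ac18a98139eda998297105e5a1a869684de9a588a9622de9a838695035e5a538294e09eda0b8a941c5e5a888e911ade9a118e90d49eda428e90a3b6dad11288d1ed9ac232888b5b5ac852885ab6da9832870a5b5a5a1286a1ed9a19528654ed9a8b1285195b5a133284ccb6da435284635b5a81728313ed9a507282e2b6da0a72829c55595a0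65681e55959425650b559582a560a5559532254c8b55943465443e5594b0a5419e559506652c2b5594a6252985559416a5213b559510e50d1e559422e508b5559484e505aaad762223a889ed760463a42b6d7610a3a11aad563063541b6d3634234689ed1632a340d9ed561623350b6d162663285aad3606a322ab6d5602e314a9ed3620e30a9aad1614e3055ff9754062ac1de974c422a58ed97442a2a0bff955c222748ed915c462645de935c0a2629de9544662343ed93546222e8ff914c6a221ded954c0e2159de91542e20cdff93444e206b7b9751821ad06bd742861a835b57488a1a1a7b95588617425b535a8216a86bd1598a16156bd54b8215585b51538614c57b93438a142b5b55418e11536bd3508e10ea7b914a8e109db79750320acae9d74a120a995e5741520a53b795591207515e515a32068de9d35852066ae9d54332054b5e53531204e9b7914b52045d5e554872035ae9d1517202d5b793427202abff98ea21d8887b98e845d842b798e909d811ff98ab05d501b7986b41d4607b982b29d40c7b98a961d310b7982a65d284ff986869d222b798a82dd10a7b986a0dd0a1ff98294dd054aad72a05ca819ed72941ca50b6d72829ca0aaad52b21c548b6d12b45c4459ed32b09c4299ed52865c342b6d32a61c2a8aad12969c215b6d5290dc1519ed12a2dc08daad3284dc06a5556ac21ab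085e562c45aa445b566c09aa215554ec05a9415b52ec41a8685e50ec29a80d5e546c61a3605b50ac65a30555522c69a22c5b542c2da14c5e52ac0da12955506c4da065e556a8859b02e9d66a819aa0ed9629899a14e554e9819950ed90ea859885e9d2e889982ae9d42b859544ed92ab819528e5506b899425ed94688d9162e9d0a98d9115e5522a8d90acb556a9118b116bd62a318a8cde9668518a62b554e831894ade92ea1188a96bd0e95188556bd46b118561de90ab31850db5522b51846cde94297183546bd2a871832ab5506a7182a5aad8d50558c16bd8cd415858e9d8c529580baad89d215708e9d81d4556446bd85d0956216bd885655303e9d8556152e0aad80d69521ce9d88d0d51196bd8152d50ccaad8454d5063ff9715214ac8de9705454a43ed970d094a19ff951d054741ed931d414668de911d29460dde950d614358ed91156542c5ff930569422bed95052d414bde93150d40e9ff910d4d405d5556a5053b015e5665413a605b5625293a0c5554e52139485b50e54538455e52e50938295e54256533445b52a56133285550656932255b54650d31615e50a52d310d5552254d306cb5568d811b18b79615851ac4b6d645891a23b554c5851943b6d2d58118e8b790cd89181db7945d811760b6d09d851705b5521d89162cb6d40d8d115cb792858d112bb550558d10e5e55685310b0b7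b9655110ae19ed60d510a5ce554cd1109599ed0d53108cd7b92c551086b7b941d31074c9ed29d110729e5505d5106659ed4457103637b908d71031de552157102ec9ed8d1a0d8d0de98c2a4d8835e58c8a8d81a9ed898a4d7025e585aa0d6a0de9819a8d614de988ba0d5185e5813a4d4c49ed843a8d4235e5881acd113de9850acd0e29ed80aacd09c7b9710a4cac26bd70aa0ca985b5701a8ca137b9519a0c7505b511aa4c6856bd318a8c62a6bd503a4c5435b5313a0c4e87b910ba8c41d5b5508acc15a6bd111acc0d57b9302acc0abe556a1a0bb10e9d622a4ba84ed9660a8ba22e554e0a4b942ed92e2a0b8a8e9d0e1a8b815e9d463a0b560ed90a3a4b505e55223a8b42ced9421acb154e9d2a0acb12ae55062acb0a5b55684a4ab03b79654a0aae0b6d60ca8aa1cb554cca0a958b6d0d4a4a8c5b792c4a8a82bb7941ca4a744b6d29ca0a728b5505ca8a625b6d444aca163b7908caca11db55214aca0ec555688b08b1aff9611b08ad4aad642b08aa35554c1b08953aad2d0b088eaff90cab0889dff9458b08762aad099b0871555521ab086acaad40bb0855cff9283b0852b555053b084e5b6d8d03458caed98ca1458995b58c1545853b6d8991457115b581a34568ced9858545662ed988334550b5b58531454e1b6d80b54545c5b588874531aed98117452d4b6d8427452a3b79711144ad1e9d7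02344a8b5e5708544a5ab7951834474a5e531a1446a9e9d119544655e9d50b1445595e51133444cdb7930354446b5e5501744353e9d3107442eab7910a74429db556a0343b0a6bd662143aa1de9621543a54b554e1143951de90e234388d6bd2e054386a6bd42334354cde92a3143529b55063543465de94607433626bd0a1743315b552227432ace5568c142b197b9614342acc9ed644542a63e554c434294b9ed2d41428e97b90cc54285d7b945c1427619ed09c34270de5521c54266c9ed40c74235c7b928474232be550547422e5555681941b13ff9650941ae2aad60a941a9c5554c894195aaad0d19418d5ff92c29418abff9419941754aad29894172a55505a9416a5aad443941563ff908b94151d5552139414ec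

def tE (k : ℕ) : ℕ := Nat.land (Nat.shiftRight tab (Nat.mul 48 k)) 281474976710655
def tT (k : ℕ) : ℕ := Nat.land (tE k) 262143
def tI (k : ℕ) : ℕ := Nat.land (Nat.shiftRight (tE k) 18) 262143
def tC (k : ℕ) : ℕ := Nat.shiftRight (tE k) 36

theorem tab_ok : allBelow (fun k => and (okTab (tT k) (tI k)) (and (nzd (tC k))
    (and (chkV (tI k) (tC k)) (and (Nat.blt (tC k) 4096) (Nat.blt (tT k) (tT (k + 1)))))))
    360 = true := by decide +kernel

theorem tab_last : tT 360 = 262143 := by decide +kernel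

theorem swap_ok : okTab 181889 181889 = true := by decide +kernel

theorem swap_chk : allBelow (fun cw => bif nzd cw then not (chkV 181889 cw) else true)
    4096 = true := by decide +kernel

theorem id_symm (i : Fin 6) : ((1 : Equiv.Perm (Fin 6)).symm i).1 = dg8 181896 i.1 := by
  fin_cases i <;> rfl

theorem id_chk : allBelow (fun cw => bif and (nzd cw) (chkV 181896 cw) then
    allBelow (fun i => Nat.beq (d4 cw i) (d4 cw 0)) 6 else true) 4096 = true := by
  decide +kernel


/-- The monomial automorphism group of the hexacode has order 1080: its diagonal part is the scalars and its permutation parts form the alternating group of degree 6. -/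
theorem result (F : Type*) [Field F] [Fintype F] [DecidableEq F] (hF : Fintype.card F = 4) (ω : F) (hω : ω ^ 2 + ω + 1 = 0) : Nat.card {f : Equiv.Perm (Fin 6) × (Fin 6 → Fˣ) // (∀ x ∈ Cfsg.hexacode F ω, Cfsg.monomialMap f.1 f.2 x ∈ Cfsg.hexacode F ω)} = 1080 ∧ (∀ c : Fin 6 → Fˣ, (∀ x ∈ Cfsg.hexacode F ω, Cfsg.monomialMap 1 c x ∈ Cfsg.hexacode F ω) → ∀ i j, c i = c j) ∧ {σ : Equiv.Perm (Fin 6) | ∃ c : Fin 6 → Fˣ, (∀ x ∈ Cfsg.hexacode F ω, Cfsg.monomialMap σ c x ∈ Cfsg.hexacode F ω)} = (alternatingGroup (Fin 6) : Set (Equiv.Perm (Fin 6))) := by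
  have h2 := two_eq_zero_of_card hF
  have hk : ∀ k < 360, okTab (tT k) (tI k) = true ∧ nzd (tC k) = true ∧
      chkV (tI k) (tC k) = true ∧ tC k < 4096 ∧ tT k < tT (k + 1) := by
    intro k hk'
    have h := allBelow_spec tab_ok k hk'
    simp only [Bool.and_eq_true] at h
    obtain ⟨a, b, c, d, e⟩ := h
    exact ⟨a, b, c, Nat.blt_eq.mp d, Nat.blt_eq.mp e⟩
  have hmem : ∀ k < 360, sig (tT k) (tI k) ∈ permParts (hexacode F ω) := by
    intro k hk'
    obtain ⟨a, b, c, d, -⟩ := hk k hk'
    refine ⟨unpackc ω (tC k), mvalid_of_chk hF hω _ (tI k) (sig_symm_apply a) _ ?_⟩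
    rw [packc_unpackc h2 hω d b]
    exact c
  have hlt : ∀ a b, a < b → b ≤ 360 → tT a < tT b :=
    hex_lt_of_step tT 360 (fun k hk' => (hk k hk').2.2.2.2)
  have hbound : ∀ k < 360, tT k < 262144 := by
    intro k hk'
    have := hlt k 360 hk' le_rfl
    rw [tab_last] at this
    omega
  have hge : 360 ≤ Nat.card (permParts (hexacode F ω)) := by
    let f : Fin 360 → ↥(permParts (hexacode F ω)) :=
      fun k => ⟨sig (tT k.1) (tI k.1), hmem k.1 k.2⟩
    have hf : Function.Injective f := by
      intro a b hab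
      have e : sig (tT a.1) (tI a.1) = sig (tT b.1) (tI b.1) := congrArg Subtype.val hab
      have e2 := sig_injective (hk a.1 a.2).1 (hk b.1 b.2).1 (hbound _ a.2) (hbound _ b.2) e
      apply Fin.ext
      by_contra hne
      rcases Nat.lt_or_gt_of_ne hne with h | h
      · exact absurd e2 (ne_of_lt (hlt _ _ h (le_of_lt b.2)))
      · exact absurd e2.symm (ne_of_lt (hlt _ _ h (le_of_lt a.2)))
    have := Nat.card_le_card_of_injective f hf
    rwa [Nat.card_fin] at this
  have hnot : sig 181889 181889 ∉ permParts (hexacode F ω) := by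
    rintro ⟨c, hc⟩
    have h1 := chk_of_mvalid hF hω _ 181889 (sig_symm_apply swap_ok) c hc
    have h3 := allBelow_spec swap_chk _ (packc_lt (ω := ω) c)
    rw [nzd_packc, cond_true, h1] at h3
    exact absurd h3 (by decide)
  have hdiag : ∀ c : Fin 6 → Fˣ, MValid (hexacode F ω) 1 c → ∀ i j, c i = c j := by
    intro c hc
    have h1 := chk_of_mvalid hF hω 1 181896 id_symm c hc
    have h3 := allBelow_spec id_chk _ (packc_lt (ω := ω) c)
    rw [nzd_packc, h1] at h3
    have h3' : allBelow (fun i => Nat.beq (d4 (packc ω c) i) (d4 (packc ω c) 0)) 6 = true := h3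
    have h4 : ∀ i : Fin 6, c i = c 0 := by
      intro i
      have h5 := Nat.eq_of_beq_eq_true (allBelow_spec h3' i.1 i.2)
      have h6 : c4 ω (c i : F) = c4 ω (c 0 : F) := by
        rw [← d4_packc (ω := ω) c i, ← d4_packc (ω := ω) c 0]
        exact h5
      apply Units.ext
      rw [← g4_c4 hF hω (c i : F), h6, g4_c4 hF hω]
    intro i j
    rw [h4 i, h4 j]
  have hS6 : Nat.card (Equiv.Perm (Fin 6)) = 720 := by
    rw [Nat.card_perm, Nat.card_fin]
    rfl
  have hdvd : Nat.card (permParts (hexacode F ω)) ∣ 720 := by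
    have := Subgroup.card_subgroup_dvd_card (permParts (hexacode F ω))
    rwa [hS6] at this
  have hne : Nat.card (permParts (hexacode F ω)) ≠ 720 := by
    intro h
    have htop : permParts (hexacode F ω) = ⊤ :=
      (Subgroup.card_eq_iff_eq_top _).mp (by rw [h, hS6])
    exact hnot (htop ▸ Subgroup.mem_top _)
  have hcard : Nat.card (permParts (hexacode F ω)) = 360 := by
    obtain ⟨m, hm⟩ := hdvd
    have hm1 : m = 1 ∨ m = 2 := by
      rcases Nat.lt_or_ge m 3 with h | h
      · interval_cases m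
        · omega
        · left; rfl
        · right; rfl
      · nlinarith
    rcases hm1 with rfl | rfl <;> omega
  have hidx : (permParts (hexacode F ω)).index = 2 := by
    have := Subgroup.card_mul_index (permParts (hexacode F ω))
    rw [hcard, hS6] at this
    omega
  have hH : permParts (hexacode F ω) = alternatingGroup (Fin 6) :=
    Equiv.Perm.eq_alternatingGroup_of_index_eq_two hidx
  have hU : Nat.card Fˣ = 3 := by
    rw [Nat.card_eq_fintype_card, Fintype.card_units, hF]
  refine ⟨?_, hdiag, ?_⟩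
  · have := card_monomial (hexacode F ω) 0 hdiag
    rw [hcard, hU] at this
    exact this
  · exact congrArg (fun K : Subgroup (Equiv.Perm (Fin 6)) => (K : Set (Equiv.Perm (Fin 6)))) hH

end Cfsg.Agent.S1611
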