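import Cfsg.Statements.S0891
import Mathlib
-- import your own Cfsg.Agent.* helpers here

set_option autoImplicit false
open Cfsg

namespace Cfsg.Agent.S0891

section helpers

open Matrix

abbrev Vn (n : ℕ) := Fin n → ZMod 2
abbrev Mn (n : ℕ) := Matrix (Vn n) (Vn n) (ZMod 3)

def chi (t : ZMod 2) : ZMod 3 := if t = 0 then 1 else -1

lemma chi_add : ∀ s t : ZMod 2, chi (s + t) = chi s * chi t := by decide
lemma chi_zero : chi 0 = 1 := by decide
lemma chi_one : chi 1 = -1 := by decide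
lemma chi_mul_self : ∀ t : ZMod 2, chi t * chi t = 1 := by decide

lemma vadd_self {n : ℕ} (a : Vn n) : a + a = 0 := by
  funext i
  exact CharTwo.add_self_eq_zero (a i)

lemma veq_comm {n : ℕ} (a c e : Vn n) : c = a + e ↔ e = a + c := by
  constructor
  · rintro rfl; rw [← add_assoc, vadd_self, zero_add]
  · rintro rfl; rw [← add_assoc, vadd_self, zero_add]

def lt01 {n : ℕ} (j i : Fin n) : ZMod 2 := if j < i then 1 else 0

def bet {n : ℕ} (a b : Vn n) : ZMod 2 := ∑ i, ∑ j, a i * b j * lt01 j i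

lemma bet_add_left {n : ℕ} (a a' b : Vn n) : bet (a + a') b = bet a b + bet a' b := by
  simp [bet, add_mul, Finset.sum_add_distrib]

lemma bet_add_right {n : ℕ} (a b b' : Vn n) : bet a (b + b') = bet a b + bet a b' := by
  simp [bet, mul_add, add_mul, Finset.sum_add_distrib]

lemma bet_zero_left {n : ℕ} (b : Vn n) : bet 0 b = 0 := by simp [bet]
lemma bet_zero_right {n : ℕ} (a : Vn n) : bet a 0 = 0 := by simp [bet]

def Lm {n : ℕ} (a : Vn n) : Mn n := Matrix.of fun c b => if c = a + b then chi (bet a b) else 0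
def Rm {n : ℕ} (b : Vn n) : Mn n := Matrix.of fun c d => if c = d + b then chi (bet d b) else 0
def Pm {n : ℕ} : Mn n := Matrix.diagonal fun c => chi (∑ i, c i)

lemma mul_Lm_apply {n : ℕ} (g : Mn n) (a c d : Vn n) :
    (g * Lm a) c d = g c (a + d) * chi (bet a d) := by
  rw [Matrix.mul_apply, Finset.sum_eq_single (a + d)]
  · simp [Lm]
  · intro e _ he; simp [Lm, he]
  · intro h; exact absurd (Finset.mem_univ _) h

lemma Lm_mul_apply {n : ℕ} (g : Mn n) (a c d : Vn n) :
    (Lm a * g) c d = chi (bet a (a + c)) * g (a + c) d := by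
  rw [Matrix.mul_apply, Finset.sum_eq_single (a + c)]
  · have : c = a + (a + c) := by rw [← add_assoc, vadd_self, zero_add]
    rw [Lm, Matrix.of_apply, if_pos this]
  · intro e _ he
    have : ¬ c = a + e := fun h => he ((veq_comm a c e).1 h)
    simp [Lm, this]
  · intro h; exact absurd (Finset.mem_univ _) h

lemma mul_Rm_apply {n : ℕ} (g : Mn n) (b c d : Vn n) :
    (g * Rm b) c d = g c (d + b) * chi (bet d b) := by
  rw [Matrix.mul_apply, Finset.sum_eq_single (d + b)]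
  · simp [Rm]
  · intro e _ he; simp [Rm, he]
  · intro h; exact absurd (Finset.mem_univ _) h

lemma Rm_mul_apply {n : ℕ} (g : Mn n) (b c d : Vn n) :
    (Rm b * g) c d = chi (bet (c + b) b) * g (c + b) d := by
  rw [Matrix.mul_apply, Finset.sum_eq_single (c + b)]
  · have : c = c + b + b := by rw [add_assoc, vadd_self, add_zero]
    rw [Rm, Matrix.of_apply, if_pos this]
  · intro e _ he
    have : ¬ c = e + b := by
      intro h; apply he; rw [h, add_assoc, vadd_self, add_zero]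
    simp [Rm, this]
  · intro h; exact absurd (Finset.mem_univ _) h

lemma Lm_mul {n : ℕ} (a b : Vn n) : Lm a * Lm b = chi (bet a b) • Lm (a + b) := by
  ext c d
  rw [Lm_mul_apply, Matrix.smul_apply, smul_eq_mul]
  simp only [Lm, Matrix.of_apply]
  by_cases h : c = a + b + d
  · have h' : a + c = b + d := by rw [h, add_assoc, ← add_assoc, vadd_self, zero_add]
    rw [if_pos h', if_pos h, h', bet_add_right, bet_add_left, chi_add, chi_add]; ring
  · have h' : ¬ a + c = b + d := by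
      intro h'; apply h
      calc c = a + (a + c) := by rw [← add_assoc, vadd_self, zero_add]
        _ = a + b + d := by rw [h', add_assoc]
    rw [if_neg h', if_neg h]; simp

lemma Lm_zero {n : ℕ} : Lm (0 : Vn n) = 1 := by
  ext c d
  simp [Lm, Matrix.one_apply, bet_zero_left, chi_zero]

lemma Lm_Rm {n : ℕ} (a b : Vn n) : Lm a * Rm b = Rm b * Lm a := by
  ext c d
  rw [mul_Rm_apply, Rm_mul_apply]
  simp only [Lm, Matrix.of_apply]
  by_cases h : c = a + (d + b)
  · have h' : c + b = a + d := by rw [h, add_assoc, add_assoc, vadd_self, add_zero]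
    rw [if_pos h, if_pos h', h', bet_add_right, bet_add_left, chi_add, chi_add]; ring
  · have h' : ¬ c + b = a + d := by
      intro h'; apply h
      calc c = c + b + b := by rw [add_assoc, vadd_self, add_zero]
        _ = a + (d + b) := by rw [h', add_assoc]
    rw [if_neg h', if_neg h]; simp

lemma Lm_Pm {n : ℕ} (a : Vn n) : Lm a * Pm = chi (∑ i, a i) • (Pm * Lm a) := by
  ext c d
  simp only [Pm, Matrix.mul_diagonal, Matrix.smul_apply, Matrix.diagonal_mul, Lm, Matrix.of_apply,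
    smul_eq_mul]
  by_cases h : c = a + d
  · subst h
    rw [if_pos rfl]
    have e1 : ∑ i, (a + d) i = ∑ i, a i + ∑ i, d i := by
      simp [Finset.sum_add_distrib]
    rw [e1, chi_add]
    have h2 := chi_mul_self (∑ i, a i)
    linear_combination (-(chi (∑ i, d i) * chi (bet a d))) * h2
  · rw [if_neg h]; simp

def dl {n : ℕ} (k : Fin n) : Vn n := Pi.single k 1
def ee {n : ℕ} (k : Fin n) : Mn n := Lm (dl k)

lemma bet_dl_right {n : ℕ} (a : Vn n) (k : Fin n) : bet a (dl k) = ∑ i, a i * lt01 k i := by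
  unfold bet
  refine Finset.sum_congr rfl fun i _ => ?_
  rw [Finset.sum_eq_single k]
  · simp [dl]
  · intro j _ hj; simp [dl, Pi.single_apply, hj]
  · intro h; exact absurd (Finset.mem_univ _) h

lemma bet_dl_left {n : ℕ} (a : Vn n) (k : Fin n) : bet (dl k) a = ∑ j, a j * lt01 j k := by
  unfold bet
  rw [Finset.sum_eq_single k]
  · refine Finset.sum_congr rfl fun j _ => ?_
    simp [dl]
  · intro i _ hi; simp [dl, Pi.single_apply, hi]
  · intro h; exact absurd (Finset.mem_univ _) h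

lemma bet_dl_dl {n : ℕ} (i j : Fin n) : bet (dl i) (dl j) = lt01 j i := by
  rw [bet_dl_right, Finset.sum_eq_single i]
  · simp [dl]
  · intro k _ hk; simp [dl, Pi.single_apply, hk]
  · intro h; exact absurd (Finset.mem_univ _) h

lemma sum_dl {n : ℕ} (k : Fin n) : ∑ i, (dl k) i = 1 := by
  simp [dl]

lemma bet_dl_sum {n : ℕ} (a : Vn n) (k : Fin n) :
    bet a (dl k) + bet (dl k) a = ∑ i, a i + a k := by
  rw [bet_dl_right, bet_dl_left, ← Finset.sum_add_distrib]
  have h1 : ∑ i, a i = ∑ i, ((a i * lt01 k i + a i * lt01 i k) + if i = k then a i else 0) := by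
    refine Finset.sum_congr rfl fun i _ => ?_
    rcases lt_trichotomy i k with h | h | h
    · simp [lt01, h, not_lt.2 h.le, h.ne]
    · subst h; simp [lt01]
    · simp [lt01, h, not_lt.2 h.le, h.ne']
  have h2 : ∑ i, ((a i * lt01 k i + a i * lt01 i k) + if i = k then a i else 0)
      = ∑ i, (a i * lt01 k i + a i * lt01 i k) + a k := by
    rw [Finset.sum_add_distrib, Finset.sum_ite_eq' Finset.univ k a, if_pos (Finset.mem_univ _)]
  rw [h1, h2, add_assoc, CharTwo.add_self_eq_zero, add_zero]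

lemma ee_sq {n : ℕ} (k : Fin n) : ee k * ee k = 1 := by
  unfold ee
  rw [Lm_mul, bet_dl_dl, vadd_self, Lm_zero]
  simp [lt01, chi_zero]

lemma ee_anti {n : ℕ} {i j : Fin n} (h : i ≠ j) : ee i * ee j = -(ee j * ee i) := by
  unfold ee
  rw [Lm_mul, Lm_mul, bet_dl_dl, bet_dl_dl, add_comm (dl j) (dl i)]
  rcases lt_or_gt_of_ne h with h | h
  · simp [lt01, h, not_lt.2 h.le, chi_zero, chi_one]
  · simp [lt01, h, not_lt.2 h.le, chi_zero, chi_one]

lemma ee_Rm {n : ℕ} (k : Fin n) (b : Vn n) : ee k * Rm b = Rm b * ee k := Lm_Rm _ _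

lemma ee_Pm {n : ℕ} (k : Fin n) : ee k * Pm = -(Pm * ee k) := by
  rw [ee, Lm_Pm, sum_dl, chi_one, neg_smul, one_smul]

def xg {n : ℕ} (i j : Fin n) : Mn n := ee i - ee j

lemma two_eq_neg_one {n : ℕ} : (1 : Mn n) + 1 = -1 := by
  ext c d
  by_cases h : c = d
  · subst h; simp; decide
  · simp [Matrix.one_apply, h]

lemma xg_sq {n : ℕ} {i j : Fin n} (h : i ≠ j) : xg i j * xg i j = -1 := by
  have h1 := ee_anti h
  calc xg i j * xg i j = ee i * ee i - ee i * ee j - ee j * ee i + ee j * ee j := by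
        unfold xg; noncomm_ring
    _ = 1 + 1 := by rw [ee_sq, ee_sq, h1]; abel
    _ = -1 := two_eq_neg_one

lemma xg_Rm {n : ℕ} (i j : Fin n) (b : Vn n) : xg i j * Rm b = Rm b * xg i j := by
  simp [xg, sub_mul, mul_sub, ee_Rm]

lemma xg_Pm {n : ℕ} (i j : Fin n) : xg i j * Pm = -(Pm * xg i j) := by
  simp only [xg, sub_mul, mul_sub, ee_Pm]; abel

lemma xg_ee {n : ℕ} {i j : Fin n} (h : i ≠ j) (k : Fin n) :
    xg i j * ee k = -(ee (Equiv.swap i j k) * xg i j) := by
  by_cases hki : k = i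
  · subst hki
    rw [Equiv.swap_apply_left]
    simp only [xg, sub_mul, mul_sub, ee_sq]
    abel
  · by_cases hkj : k = j
    · subst hkj
      rw [Equiv.swap_apply_right]
      simp only [xg, sub_mul, mul_sub, ee_sq]
      abel
    · rw [Equiv.swap_apply_of_ne_of_ne hki hkj]
      simp only [xg, sub_mul, mul_sub]
      rw [ee_anti (Ne.symm hki), ee_anti (Ne.symm hkj)]
      abel

def sg {n : ℕ} (π : Equiv.Perm (Fin n)) : ZMod 3 := ((Equiv.Perm.sign π : ℤˣ) : ℤ)

lemma sg_mul {n : ℕ} (π σ : Equiv.Perm (Fin n)) : sg (π * σ) = sg π * sg σ := by simp [sg]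
lemma sg_one {n : ℕ} : sg (1 : Equiv.Perm (Fin n)) = 1 := by simp [sg]
lemma sg_mul_self {n : ℕ} (π : Equiv.Perm (Fin n)) : sg π * sg π = 1 := by
  unfold sg
  rcases Int.units_eq_one_or (Equiv.Perm.sign π) with h | h <;> simp [h]
lemma sg_inv {n : ℕ} (π : Equiv.Perm (Fin n)) : sg π⁻¹ = sg π := by simp [sg]
lemma sg_swap {n : ℕ} {i j : Fin n} (h : i ≠ j) : sg (Equiv.swap i j) = -1 := by
  simp [sg, Equiv.Perm.sign_swap h]

def IsPin {n : ℕ} (g : Mn n) (π : Equiv.Perm (Fin n)) : Prop :=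
  (∀ b, g * Rm b = Rm b * g) ∧ g * Pm = sg π • (Pm * g) ∧ ∀ k, g * ee k = sg π • (ee (π k) * g)

lemma IsPin.mul {n : ℕ} {g h : Mn n} {π σ : Equiv.Perm (Fin n)} (hg : IsPin g π) (hh : IsPin h σ) :
    IsPin (g * h) (π * σ) := by
  refine ⟨fun b => ?_, ?_, fun k => ?_⟩
  · rw [mul_assoc, hh.1, ← mul_assoc, hg.1, mul_assoc]
  · rw [mul_assoc, hh.2.1, Matrix.mul_smul, ← mul_assoc, hg.2.1, Matrix.smul_mul, smul_smul, sg_mul,
      mul_assoc, mul_comm (sg σ)]
  · rw [mul_assoc, hh.2.2, Matrix.mul_smul, ← mul_assoc, hg.2.2, Matrix.smul_mul, smul_smul, sg_mul,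
      mul_assoc, mul_comm (sg σ), Equiv.Perm.mul_apply]

lemma isPin_one {n : ℕ} : IsPin (1 : Mn n) 1 := by
  refine ⟨fun b => by simp, by simp [sg_one], fun k => by simp [sg_one]⟩

lemma conj_inv {n : ℕ} {g g' A B : Mn n} {s : ZMod 3} (hs : s * s = 1) (h1 : g * g' = 1)
    (h2 : g' * g = 1) (h : g * A = s • (B * g)) : g' * B = s • (A * g') := by
  calc g' * B = g' * (B * g) * g' := by rw [mul_assoc, mul_assoc, h1, mul_one]
    _ = g' * (s • (g * A)) * g' := by rw [h, smul_smul, hs, one_smul]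
    _ = s • (A * g') := by rw [Matrix.mul_smul, Matrix.smul_mul, ← mul_assoc, h2, one_mul]

lemma IsPin.inv {n : ℕ} {g g' : Mn n} {π : Equiv.Perm (Fin n)} (hg : IsPin g π) (h1 : g * g' = 1)
    (h2 : g' * g = 1) : IsPin g' π⁻¹ := by
  refine ⟨fun b => ?_, ?_, fun k => ?_⟩
  · have := conj_inv (A := Rm b) (B := Rm b) (s := 1) (by simp) h1 h2
      (by rw [one_smul]; exact hg.1 b)
    rw [one_smul] at this; exact this
  · rw [sg_inv]
    exact conj_inv (sg_mul_self π) h1 h2 hg.2.1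
  · rw [sg_inv]
    refine conj_inv (sg_mul_self π) h1 h2 ?_
    have := hg.2.2 (π⁻¹ k)
    simpa using this

def Pin (n : ℕ) : Subgroup ((Mn n)ˣ × Equiv.Perm (Fin n)) where
  carrier := {p | IsPin (p.1 : Mn n) p.2}
  mul_mem' := fun {p q} hp hq => by
    simpa using IsPin.mul hp hq
  one_mem' := by
    simpa using (isPin_one (n := n))
  inv_mem' := fun {p} hp => by
    show IsPin (((p.1)⁻¹ : (Mn n)ˣ) : Mn n) (p.2)⁻¹
    exact IsPin.inv (g := ((p.1 : (Mn n)ˣ) : Mn n)) hp (Units.mul_inv _) (Units.inv_mul _)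

def Gam (n : ℕ) : Subgroup ((Mn n)ˣ × Equiv.Perm (Fin n)) :=
  Pin n ⊓ (alternatingGroup (Fin n)).comap (MonoidHom.snd _ _)

def xgU {n : ℕ} {i j : Fin n} (h : i ≠ j) : (Mn n)ˣ :=
  ⟨xg i j, -xg i j, by simp [xg_sq h], by simp [xg_sq h]⟩

lemma isPin_xg {n : ℕ} {i j : Fin n} (h : i ≠ j) : IsPin (xg i j) (Equiv.swap i j) := by
  refine ⟨xg_Rm i j, ?_, fun k => ?_⟩
  · rw [sg_swap h, neg_smul, one_smul]; exact xg_Pm i j
  · rw [sg_swap h, neg_smul, one_smul]; exact xg_ee h k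

lemma exists_lift {n : ℕ} (σ : Equiv.Perm (Fin n)) : ∃ g : (Mn n)ˣ, (g, σ) ∈ Pin n := by
  induction σ using Equiv.Perm.swap_induction_on with
  | one => exact ⟨1, (Pin n).one_mem⟩
  | swap_mul f x y hxy ih =>
    obtain ⟨g, hg⟩ := ih
    refine ⟨xgU hxy * g, ?_⟩
    have h1 : (xgU hxy, Equiv.swap x y) ∈ Pin n := isPin_xg hxy
    have h2 := (Pin n).mul_mem h1 hg
    rwa [Prod.mk_mul_mk] at h2

lemma zmod2_eq_one : ∀ t : ZMod 2, t ≠ 0 → t = 1 := by decide
lemma aux1 : ∀ (t : ZMod 2) (x : ZMod 3), chi (t + 1) * x = chi t * x → x = 0 := by decide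
lemma aux2 : ∀ (x : ZMod 3), x = chi 1 * x → x = 0 := by decide
lemma aux3 : ∀ (x : ZMod 3), x ≠ 0 → x = 1 ∨ x = -1 := by decide

lemma ker_diag {n : ℕ} (g : Mn n) (hR : ∀ b, g * Rm b = Rm b * g) (hP : g * Pm = Pm * g)
    (hE : ∀ k, g * ee k = ee k * g) : g = Matrix.diagonal (fun _ => g 0 0) := by
  have h1 : ∀ c b, g c b = chi (bet (c + b) b) * g (c + b) 0 := by
    intro c b
    have h := congrFun (congrFun (hR b) c) 0
    rw [mul_Rm_apply, Rm_mul_apply, zero_add, bet_zero_left, chi_zero, mul_one] at h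
    exact h
  have h2 : ∀ a k, chi (bet a (dl k)) * g a 0 = chi (bet (dl k) a) * g a 0 := by
    intro a k
    have h := congrFun (congrFun (hE k) (dl k + a)) 0
    have e1 : dl k + (dl k + a) = a := by rw [← add_assoc, vadd_self, zero_add]
    have e2 : dl k + a + dl k = a := by rw [add_comm (dl k) a, add_assoc, vadd_self, add_zero]
    rw [ee, mul_Lm_apply, Lm_mul_apply, add_zero, bet_zero_right, chi_zero, mul_one, h1, e1, e2] at h
    exact h
  have h3 : ∀ a, g a 0 = chi (∑ i, a i) * g a 0 := by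
    intro a
    have h := congrFun (congrFun hP a) 0
    simp only [Pm, Matrix.mul_diagonal, Matrix.diagonal_mul] at h
    simpa [chi_zero] using h
  have h4 : ∀ a, a ≠ 0 → g a 0 = 0 := by
    intro a ha
    by_cases hpar : ∑ i, a i = 0
    · obtain ⟨k, hk⟩ : ∃ k, a k ≠ 0 := by
        by_contra hcon
        push Not at hcon
        exact ha (funext hcon)
      have hk1 := zmod2_eq_one _ hk
      have hs := bet_dl_sum a k
      rw [hpar, hk1, zero_add] at hs
      have hb : bet a (dl k) = bet (dl k) a + 1 := by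
        rw [← hs, add_comm (bet a (dl k)), ← add_assoc, CharTwo.add_self_eq_zero, zero_add]
      have := h2 a k
      rw [hb] at this
      exact aux1 _ _ this
    · have h1' := zmod2_eq_one _ hpar
      have := h3 a
      rw [h1'] at this
      exact aux2 _ this
  ext c b
  rw [h1 c b]
  by_cases hcb : c = b
  · subst hcb
    rw [vadd_self, bet_zero_left, chi_zero, one_mul, Matrix.diagonal_apply_eq]
  · have : c + b ≠ 0 := by
      intro h; apply hcb
      calc c = c + b + b := by rw [add_assoc, vadd_self, add_zero]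
        _ = b := by rw [h, zero_add]
    rw [h4 _ this, mul_zero, Matrix.diagonal_apply_ne _ hcb]

lemma ker_unit {n : ℕ} (g : (Mn n)ˣ) (h : IsPin (g : Mn n) 1) : g = 1 ∨ g = -1 := by
  have hd := ker_diag (g : Mn n) h.1 (by simpa [sg_one] using h.2.1)
    (fun k => by simpa [sg_one] using h.2.2 k)
  have hne : (g : Mn n) 0 0 ≠ 0 := by
    intro h0
    rw [h0] at hd
    have hz : (g : Mn n) = 0 := by rw [hd]; ext c d; simp [Matrix.diagonal_apply]
    have h1 : (g : Mn n) * ((g⁻¹ : (Mn n)ˣ) : Mn n) = 1 := by simp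
    rw [hz, zero_mul] at h1
    have := congrFun (congrFun h1 0) 0
    simp at this
  rcases aux3 _ hne with h1 | h1
  · left
    apply Units.ext
    rw [hd, h1]; simp
  · right
    apply Units.ext
    rw [hd, h1]
    ext c d
    by_cases hcd : c = d
    · subst hcd; simp
    · simp [Matrix.diagonal_apply_ne _ hcd, Matrix.one_apply_ne hcd]

lemma pin_neg_one {n : ℕ} {π : Equiv.Perm (Fin n)} (h : IsPin (-1 : Mn n) π) : π = 1 := by
  ext k
  by_contra hk
  have hk' : π k ≠ k := by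
    intro h'; apply hk; simp [h']
  have h2 := h.2.2 k
  have h3 := congrFun (congrFun h2 (dl k)) 0
  simp only [neg_mul, one_mul, mul_neg, mul_one, Matrix.neg_apply, Matrix.smul_apply, smul_eq_mul,
    ee, Lm, Matrix.of_apply, add_zero, bet_zero_right, chi_zero] at h3
  have hne : dl k ≠ dl (π k) := by
    intro he
    have := congrFun he k
    simp [dl, Pi.single_apply, hk'.symm] at this
  rw [if_neg hne] at h3
  simp at h3

lemma clifford_comm {A : Type*} [Ring A] (a b c d : A) (ha : a * a = 1) (hb : b * b = 1)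
    (hc : c * c = 1) (hd : d * d = 1) (hab : a * b = -(b * a)) (hac : a * c = -(c * a))
    (had : a * d = -(d * a)) (hbc : b * c = -(c * b)) (hbd : b * d = -(d * b))
    (hcd : c * d = -(d * c)) :
    (a - b) * (c - d) * ((a - c) * (b - d)) = -((a - c) * (b - d) * ((a - b) * (c - d))) := by
  have hba : b * a = -(a * b) := by rw [hab, neg_neg]
  have hca : c * a = -(a * c) := by rw [hac, neg_neg]
  have hda : d * a = -(a * d) := by rw [had, neg_neg]
  have hcb : c * b = -(b * c) := by rw [hbc, neg_neg]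
  have hdb : d * b = -(b * d) := by rw [hbd, neg_neg]
  have hdc : d * c = -(c * d) := by rw [hcd, neg_neg]
  have hba' : ∀ t, b * (a * t) = -(a * (b * t)) := fun t => by rw [← mul_assoc, hba, neg_mul, mul_assoc]
  have hca' : ∀ t, c * (a * t) = -(a * (c * t)) := fun t => by rw [← mul_assoc, hca, neg_mul, mul_assoc]
  have hda' : ∀ t, d * (a * t) = -(a * (d * t)) := fun t => by rw [← mul_assoc, hda, neg_mul, mul_assoc]
  have hcb' : ∀ t, c * (b * t) = -(b * (c * t)) := fun t => by rw [← mul_assoc, hcb, neg_mul, mul_assoc]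
  have hdb' : ∀ t, d * (b * t) = -(b * (d * t)) := fun t => by rw [← mul_assoc, hdb, neg_mul, mul_assoc]
  have hdc' : ∀ t, d * (c * t) = -(c * (d * t)) := fun t => by rw [← mul_assoc, hdc, neg_mul, mul_assoc]
  have ha' : ∀ t, a * (a * t) = t := fun t => by rw [← mul_assoc, ha, one_mul]
  have hb' : ∀ t, b * (b * t) = t := fun t => by rw [← mul_assoc, hb, one_mul]
  have hc' : ∀ t, c * (c * t) = t := fun t => by rw [← mul_assoc, hc, one_mul]
  have hd' : ∀ t, d * (d * t) = t := fun t => by rw [← mul_assoc, hd, one_mul]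
  simp only [sub_mul, mul_sub, mul_assoc, hba, hca, hda, hcb, hdb, hdc, hba', hca', hda', hcb', hdb',
    hdc', ha, hb, hc, hd, ha', hb', hc', hd', mul_neg, neg_mul, neg_neg, mul_one]
  abel

def phi (n : ℕ) : Gam n →* alternatingGroup (Fin n) where
  toFun := fun p => ⟨p.1.2, p.2.2⟩
  map_one' := rfl
  map_mul' := fun _ _ => rfl

lemma phi_surj (n : ℕ) : Function.Surjective (phi n) := by
  rintro ⟨σ, hσ⟩
  obtain ⟨g, hg⟩ := exists_lift σ
  exact ⟨⟨(g, σ), ⟨hg, hσ⟩⟩, rfl⟩

lemma zmem (n : ℕ) : ((-1 : (Mn n)ˣ), (1 : Equiv.Perm (Fin n))) ∈ Gam n := by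
  refine ⟨?_, ?_⟩
  · show IsPin ((-1 : (Mn n)ˣ) : Mn n) 1
    refine ⟨fun b => by simp, by simp [sg_one], fun k => by simp [sg_one]⟩
  · show (1 : Equiv.Perm (Fin n)) ∈ alternatingGroup (Fin n)
    exact Subgroup.one_mem _

def zz (n : ℕ) : Gam n := ⟨(-1, 1), zmem n⟩

lemma gam_ext {n : ℕ} {p q : Gam n} (h1 : p.1.1 = q.1.1) (h2 : p.1.2 = q.1.2) : p = q :=
  Subtype.ext (Prod.ext h1 h2)

lemma zz_center (n : ℕ) : zz n ∈ Subgroup.center (Gam n) := by
  rw [Subgroup.mem_center_iff]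
  intro g
  apply gam_ext
  · show g.1.1 * (-1) = (-1) * g.1.1
    simp
  · show g.1.2 * 1 = 1 * g.1.2
    simp

lemma zz_ne_one (n : ℕ) : zz n ≠ 1 := by
  intro h
  have h2 : (((zz n).1.1 : (Mn n)ˣ) : Mn n) 0 0 = (((1 : Gam n).1.1 : (Mn n)ˣ) : Mn n) 0 0 := by
    rw [h]
  change ((-1 : (Mn n)ˣ) : Mn n) 0 0 = ((1 : (Mn n)ˣ) : Mn n) 0 0 at h2
  simp at h2
  exact absurd h2 (by decide)

lemma zz_sq (n : ℕ) : zz n ^ 2 = 1 := by
  apply gam_ext
  · show ((-1 : (Mn n)ˣ)) ^ 2 = 1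
    simp
  · show (1 : Equiv.Perm (Fin n)) ^ 2 = 1
    simp

lemma phi_ker (n : ℕ) : (phi n).ker = Subgroup.zpowers (zz n) := by
  apply le_antisymm
  · intro p hp
    have hp2 : p.1.2 = 1 := by
      have := (MonoidHom.mem_ker).1 hp
      exact congrArg Subtype.val this
    have hpin : IsPin (p.1.1 : Mn n) p.1.2 := p.2.1
    rw [hp2] at hpin
    rcases ker_unit _ hpin with h | h
    · have : p = 1 := gam_ext h hp2
      rw [this]; exact Subgroup.one_mem _
    · have : p = zz n := gam_ext h hp2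
      rw [this]; exact Subgroup.mem_zpowers _
  · rw [Subgroup.zpowers_le]
    exact (MonoidHom.mem_ker).2 (Subtype.ext rfl)

lemma gam_snd_of_fst {n : ℕ} (p : Gam n) (h : p.1.1 = -1) : p.1.2 = 1 := by
  have hpin : IsPin (p.1.1 : Mn n) p.1.2 := p.2.1
  rw [h] at hpin
  exact pin_neg_one (by simpa using hpin)

lemma comm_fst {n : ℕ} (g1 g2 : Gam n) : (g1 * g2 * g1⁻¹ * g2⁻¹ : Gam n).1.1 =
    g1.1.1 * g2.1.1 * (g1.1.1)⁻¹ * (g2.1.1)⁻¹ := rfl

lemma pair_mem {n : ℕ} {i j k l : Fin n} (hij : i ≠ j) (hkl : k ≠ l) :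
    (xgU hij * xgU hkl, Equiv.swap i j * Equiv.swap k l) ∈ Gam n := by
  refine ⟨?_, ?_⟩
  · have a1 : (xgU hij, Equiv.swap i j) ∈ Pin n := isPin_xg hij
    have a2 : (xgU hkl, Equiv.swap k l) ∈ Pin n := isPin_xg hkl
    have a3 := (Pin n).mul_mem a1 a2
    rwa [Prod.mk_mul_mk] at a3
  · show Equiv.swap i j * Equiv.swap k l ∈ alternatingGroup (Fin n)
    rw [Equiv.Perm.mem_alternatingGroup, Equiv.Perm.sign_mul, Equiv.Perm.sign_swap hij,
      Equiv.Perm.sign_swap hkl]
    rfl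

lemma zz_comm {n : ℕ} (i0 i1 i2 i3 : Fin n) (h01 : i0 ≠ i1) (h02 : i0 ≠ i2) (h03 : i0 ≠ i3)
    (h12 : i1 ≠ i2) (h13 : i1 ≠ i3) (h23 : i2 ≠ i3) : zz n ∈ commutator (Gam n) := by
  obtain ⟨g1, hg1⟩ : ∃ g1 : Gam n, g1.1.1 = xgU h01 * xgU h23 := ⟨⟨_, pair_mem h01 h23⟩, rfl⟩
  obtain ⟨g2, hg2⟩ : ∃ g2 : Gam n, g2.1.1 = xgU h02 * xgU h13 := ⟨⟨_, pair_mem h02 h13⟩, rfl⟩
  have hmat : (xg i0 i1 * xg i2 i3) * (xg i0 i2 * xg i1 i3) =
      -((xg i0 i2 * xg i1 i3) * (xg i0 i1 * xg i2 i3)) := by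
    unfold xg
    exact clifford_comm _ _ _ _ (ee_sq _) (ee_sq _) (ee_sq _) (ee_sq _) (ee_anti h01) (ee_anti h02)
      (ee_anti h03) (ee_anti h12) (ee_anti h13) (ee_anti h23)
  have hu : (xgU h01 * xgU h23) * (xgU h02 * xgU h13) =
      -1 * ((xgU h02 * xgU h13) * (xgU h01 * xgU h23)) := by
    apply Units.ext
    simp only [Units.val_mul, Units.val_neg, Units.val_one, neg_mul, one_mul]
    exact hmat
  have hc1 : (g1 * g2 * g1⁻¹ * g2⁻¹ : Gam n).1.1 = -1 := by
    rw [comm_fst, hg1, hg2, hu]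
    simp [mul_assoc]
  have hceq : g1 * g2 * g1⁻¹ * g2⁻¹ = zz n := gam_ext hc1 (gam_snd_of_fst _ hc1)
  have hmem := Subgroup.commutator_mem_commutator (Subgroup.mem_top g1) (Subgroup.mem_top g2)
  rw [commutatorElement_def, hceq] at hmem
  exact hmem

end helpers

/-- For every n ≥ 4 there are a finite group Γ and a central element z of Γ of order 2 lying in the commutator subgroup of Γ such that the quotient of Γ by the (normal) subgroup generated by z is isomorphic to the alternating group on n letters. -/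
theorem result (n : ℕ) (hn : 4 ≤ n) : ∃ (Γ : Type) (_ : Group Γ) (_ : Finite Γ) (z : Γ) (hz : z ∈ Subgroup.center Γ), orderOf z = 2 ∧ z ∈ commutator Γ ∧ ∃ _ : (Subgroup.zpowers z).Normal, Nonempty (Γ ⧸ Subgroup.zpowers z ≃* alternatingGroup (Fin n)) := by
  have hord : orderOf (zz n) = 2 := by
    haveI : Fact (Nat.Prime 2) := ⟨Nat.prime_two⟩
    exact orderOf_eq_prime (zz_sq n) (zz_ne_one n)
  have hnormal : (Subgroup.zpowers (zz n)).Normal := by
    rw [← phi_ker]; infer_instance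
  have hcomm : zz n ∈ commutator (Gam n) := by
    refine zz_comm ⟨0, by omega⟩ ⟨1, by omega⟩ ⟨2, by omega⟩ ⟨3, by omega⟩ ?_ ?_ ?_ ?_ ?_ ?_ <;>
      simp [Fin.ext_iff]
  refine ⟨Gam n, inferInstance, inferInstance, zz n, zz_center n, hord, hcomm, hnormal, ⟨?_⟩⟩
  exact (QuotientGroup.quotientMulEquivOfEq (phi_ker n).symm).trans
    (QuotientGroup.quotientKerEquivOfSurjective (phi n) (phi_surj n))


end Cfsg.Agent.S0891
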