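import Mathlib
import Cfsg.Statements.S0208
import Cfsg.Agent.Lib.helper5.Dihedral

set_option autoImplicit false
open Cfsg

namespace Cfsg.Agent.S0208

/-- If x, y are involutions and xy has odd order, then some element of the subgroup generated by x and y conjugates x to y. -/
theorem result {G : Type*} [Group G] [Finite G] (x y : G) (hx : orderOf x = 2) (hy : orderOf y = 2) (hodd : Odd (orderOf (x * y))) : ∃ d ∈ Subgroup.closure ({x, y} : Set G), d * x * d⁻¹ = y := by
  have hx2 := Cfsg.Agent.Lib.helper5.mul_self_of_orderOf_two hx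
  have hy2 := Cfsg.Agent.Lib.helper5.mul_self_of_orderOf_two hy
  obtain ⟨m, hm⟩ := hodd
  refine ⟨(x * y) ^ (m : ℤ), Cfsg.Agent.Lib.helper5.zpow_mul_mem_closure x y m, ?_⟩
  have h1 : (x * y) ^ (m : ℤ) * x * ((x * y) ^ (m : ℤ))⁻¹ = (x * y) ^ (2 * (m : ℤ)) * x := by
    rw [mul_assoc, ← zpow_neg, Cfsg.Agent.Lib.helper5.mul_zpow_comm x y hx2 hy2, neg_neg,
      ← mul_assoc, ← zpow_add, two_mul]
  rw [h1]
  have h2 : (x * y) ^ (2 * (m : ℤ) + 1) = 1 := by
    have := pow_orderOf_eq_one (x * y)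
    rw [hm] at this
    exact_mod_cast this
  have h3 : (x * y) ^ (2 * (m : ℤ)) = (x * y)⁻¹ := by
    rw [zpow_add, zpow_one] at h2
    exact eq_inv_of_mul_eq_one_left h2
  rw [h3, mul_inv_rev, Cfsg.Agent.Lib.helper5.inv_eq_self_of_mul_self hx2,
    Cfsg.Agent.Lib.helper5.inv_eq_self_of_mul_self hy2, mul_assoc, hx2, mul_one]

end Cfsg.Agent.S0208
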