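import Mathlib
import Cfsg.Statements.S0209
import Cfsg.Agent.Lib.helper5.Dihedral

set_option autoImplicit false
open Cfsg

namespace Cfsg.Agent.S0209

/-- If x, y are involutions whose product has even order n, the element (xy)^(n/2) is an involution that commutes with x and with y. -/
theorem result {G : Type*} [Group G] [Finite G] (x y : G) (hx : orderOf x = 2) (hy : orderOf y = 2) (heven : Even (orderOf (x * y))) : orderOf ((x * y) ^ (orderOf (x * y) / 2)) = 2 ∧ Commute ((x * y) ^ (orderOf (x * y) / 2)) x ∧ Commute ((x * y) ^ (orderOf (x * y) / 2)) y := by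
  have hx2 := Cfsg.Agent.Lib.helper5.mul_self_of_orderOf_two hx
  have hy2 := Cfsg.Agent.Lib.helper5.mul_self_of_orderOf_two hy
  have hpos : 0 < orderOf (x * y) := orderOf_pos (x * y)
  obtain ⟨m, hm⟩ := heven
  have hm0 : m ≠ 0 := by omega
  have hdiv : orderOf (x * y) / 2 = m := by omega
  rw [hdiv]
  have hord : orderOf ((x * y) ^ m) = 2 := by
    rw [orderOf_pow_of_dvd hm0 ⟨2, by omega⟩, hm]
    have : m + m = 2 * m := by ring
    rw [this]
    exact Nat.mul_div_cancel _ (by omega)
  have hz2 := Cfsg.Agent.Lib.helper5.mul_self_of_orderOf_two hord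
  have hzx : Commute ((x * y) ^ m) x := by
    have h1 := Cfsg.Agent.Lib.helper5.mul_zpow_comm x y hx2 hy2 (m : ℤ)
    rw [zpow_neg, zpow_natCast, Cfsg.Agent.Lib.helper5.inv_eq_self_of_mul_self hz2] at h1
    exact h1.symm
  refine ⟨hord, hzx, ?_⟩
  have hzu : Commute ((x * y) ^ m) (x * y) := (Commute.refl (x * y)).pow_left m
  have hy' : y = x * (x * y) := by rw [← mul_assoc, hx2, one_mul]
  have h3 : Commute ((x * y) ^ m) (x * (x * y)) := hzx.mul_right hzu
  rwa [← hy'] at h3

end Cfsg.Agent.S0209
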