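import Mathlib
import Cfsg.Statements.S0213
import Cfsg.Agent.Lib.helper81.CharOrtho
import Cfsg.Agent.S0208
import Cfsg.Agent.S0209

set_option autoImplicit false
open Cfsg

namespace Cfsg.Agent.S0213

open Cfsg.Agent.Lib.helper81

/-- A cyclic subgroup contains at most one involution. -/
theorem involution_unique_in_zpowers {G : Type*} [Group G] [Finite G] (w z z' : G)
    (hz : z ∈ Subgroup.zpowers w) (hz' : z' ∈ Subgroup.zpowers w) (h2 : orderOf z = 2)
    (h2' : orderOf z' = 2) : z = z' := by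
  classical
  haveI : Fintype (Subgroup.zpowers w) := Fintype.ofFinite _
  have hle := IsCyclic.card_pow_eq_one_le (α := Subgroup.zpowers w) (n := 2) (by norm_num)
  by_contra hne
  let a : Subgroup.zpowers w := ⟨z, hz⟩
  let b : Subgroup.zpowers w := ⟨z', hz'⟩
  have ha : a ^ 2 = 1 := Subtype.ext (by show z ^ 2 = 1; rw [← h2]; exact pow_orderOf_eq_one z)
  have hb : b ^ 2 = 1 := Subtype.ext (by show z' ^ 2 = 1; rw [← h2']; exact pow_orderOf_eq_one z')
  have ha1 : a ≠ 1 := by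
    intro h
    have h3 : z = 1 := congrArg Subtype.val h
    rw [h3, orderOf_one] at h2; omega
  have hb1 : b ≠ 1 := by
    intro h
    have h3 : z' = 1 := congrArg Subtype.val h
    rw [h3, orderOf_one] at h2'; omega
  have hab : a ≠ b := fun h => hne (congrArg Subtype.val h)
  have hsub : ({1, a, b} : Finset (Subgroup.zpowers w)) ⊆
      Finset.univ.filter (fun x : Subgroup.zpowers w => x ^ 2 = 1) := by
    intro x hx
    simp only [Finset.mem_insert, Finset.mem_singleton] at hx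
    rw [Finset.mem_filter]
    refine ⟨Finset.mem_univ _, ?_⟩
    rcases hx with rfl | rfl | rfl
    · exact one_pow 2
    · exact ha
    · exact hb
  have hcard : ({1, a, b} : Finset (Subgroup.zpowers w)).card = 3 := by
    rw [Finset.card_insert_of_notMem, Finset.card_insert_of_notMem, Finset.card_singleton]
    · simpa using hab
    · simp only [Finset.mem_insert, Finset.mem_singleton, not_or]
      exact ⟨ha1.symm, hb1.symm⟩
  have := Finset.card_le_card hsub
  omega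

theorem card_filter_conj_le {G : Type*} [Group G] [Fintype G] [DecidableEq G] (C₁ C₂ : Finset G)
    (hC₁ : ∀ a ∈ C₁, ∀ c : G, c * a * c⁻¹ ∈ C₁) (hC₂ : ∀ a ∈ C₂, ∀ c : G, c * a * c⁻¹ ∈ C₂)
    (x z c : G) (hc : c * x * c⁻¹ = z) :
    ((C₁ ×ˢ C₂).filter (fun p => x ∈ Subgroup.zpowers (p.1 * p.2))).card
      ≤ ((C₁ ×ˢ C₂).filter (fun p => z ∈ Subgroup.zpowers (p.1 * p.2))).card := by
  apply Finset.card_le_card_of_injOn (fun p => (c * p.1 * c⁻¹, c * p.2 * c⁻¹))
  · intro p hp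
    have hp' := Finset.mem_filter.mp hp
    obtain ⟨hp𝒫, hpx⟩ := hp'
    obtain ⟨hp1, hp2⟩ := Finset.mem_product.mp hp𝒫
    apply Finset.mem_filter.mpr
    refine ⟨Finset.mem_product.mpr ⟨hC₁ _ hp1 c, hC₂ _ hp2 c⟩, ?_⟩
    obtain ⟨k, hk⟩ := Subgroup.mem_zpowers_iff.mp hpx
    rw [Subgroup.mem_zpowers_iff]
    refine ⟨k, ?_⟩
    have e : c * p.1 * c⁻¹ * (c * p.2 * c⁻¹) = c * (p.1 * p.2) * c⁻¹ := by group
    show (c * p.1 * c⁻¹ * (c * p.2 * c⁻¹)) ^ k = z
    rw [e, conj_zpow, hk, hc]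
  · intro p _ q _ hpq
    have h1 : c * p.1 * c⁻¹ = c * q.1 * c⁻¹ := congrArg Prod.fst hpq
    have h2 : c * p.2 * c⁻¹ = c * q.2 * c⁻¹ := congrArg Prod.snd hpq
    exact Prod.ext (mul_left_cancel (mul_right_cancel h1)) (mul_left_cancel (mul_right_cancel h2))


/-- Thompson Order Formula, two-class case: if every involution of the finite group G is conjugate to exactly one of the non-conjugate involutions x₁, x₂, and nᵢ is the number of pairs (u, v) with u conjugate to x₁, v conjugate to x₂ and xᵢ in the cyclic group generated by uv, then |G| = |C(x₂)| n₁ + |C(x₁)| n₂. -/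
theorem result {G : Type*} [Group G] [Finite G] (x₁ x₂ : G) (h₁ : orderOf x₁ = 2) (h₂ : orderOf x₂ = 2) (hnc : ¬ IsConj x₁ x₂) (hall : ∀ t : G, orderOf t = 2 → IsConj x₁ t ∨ IsConj x₂ t) : Nat.card G = Nat.card (Subgroup.centralizer ({x₂} : Set G)) * Nat.card {p : G × G // IsConj x₁ p.1 ∧ IsConj x₂ p.2 ∧ x₁ ∈ Subgroup.zpowers (p.1 * p.2)} + Nat.card (Subgroup.centralizer ({x₁} : Set G)) * Nat.card {p : G × G // IsConj x₁ p.1 ∧ IsConj x₂ p.2 ∧ x₂ ∈ Subgroup.zpowers (p.1 * p.2)} := by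
  classical
  haveI : Fintype G := Fintype.ofFinite G
  set C₁ : Finset G := Finset.univ.filter (fun a => IsConj x₁ a) with hC₁
  set C₂ : Finset G := Finset.univ.filter (fun a => IsConj x₂ a) with hC₂
  have hmemC₁ : ∀ a, a ∈ C₁ ↔ IsConj x₁ a := fun a => by simp [hC₁]
  have hmemC₂ : ∀ a, a ∈ C₂ ↔ IsConj x₂ a := fun a => by simp [hC₂]
  have hord₁ : ∀ a ∈ C₁, orderOf a = 2 := by
    intro a ha
    obtain ⟨c, hc⟩ := isConj_iff.mp ((hmemC₁ a).mp ha)
    rw [← hc, ← h₁]
    exact (MulAut.conj c).orderOf_eq x₁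
  have hord₂ : ∀ a ∈ C₂, orderOf a = 2 := by
    intro a ha
    obtain ⟨c, hc⟩ := isConj_iff.mp ((hmemC₂ a).mp ha)
    rw [← hc, ← h₂]
    exact (MulAut.conj c).orderOf_eq x₂
  have hcl₁ : ∀ a ∈ C₁, ∀ c : G, c * a * c⁻¹ ∈ C₁ := by
    intro a ha c
    rw [hmemC₁] at ha ⊢
    exact ha.trans (isConj_iff.mpr ⟨c, rfl⟩)
  have hcl₂ : ∀ a ∈ C₂, ∀ c : G, c * a * c⁻¹ ∈ C₂ := by
    intro a ha c
    rw [hmemC₂] at ha ⊢
    exact ha.trans (isConj_iff.mpr ⟨c, rfl⟩)
  set n₁ := ((C₁ ×ˢ C₂).filter (fun p => x₁ ∈ Subgroup.zpowers (p.1 * p.2))).card with hn₁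
  set n₂ := ((C₁ ×ˢ C₂).filter (fun p => x₂ ∈ Subgroup.zpowers (p.1 * p.2))).card with hn₂
  have hN₁ : Nat.card {p : G × G // IsConj x₁ p.1 ∧ IsConj x₂ p.2 ∧
      x₁ ∈ Subgroup.zpowers (p.1 * p.2)} = n₁ := by
    rw [Nat.card_eq_fintype_card, Fintype.card_subtype, hn₁]
    congr 1
    ext p
    simp only [Finset.mem_filter, Finset.mem_univ, true_and, Finset.mem_product, hmemC₁, hmemC₂,
      and_assoc]
  have hN₂ : Nat.card {p : G × G // IsConj x₁ p.1 ∧ IsConj x₂ p.2 ∧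
      x₂ ∈ Subgroup.zpowers (p.1 * p.2)} = n₂ := by
    rw [Nat.card_eq_fintype_card, Fintype.card_subtype, hn₂]
    congr 1
    ext p
    simp only [Finset.mem_filter, Finset.mem_univ, true_and, Finset.mem_product, hmemC₁, hmemC₂,
      and_assoc]
  rw [hN₁, hN₂]
  have hA : ∀ p ∈ C₁ ×ˢ C₂,
      (C₁.filter (fun z => z ∈ Subgroup.zpowers (p.1 * p.2))).card
        + (C₂.filter (fun z => z ∈ Subgroup.zpowers (p.1 * p.2))).card = 1 := by
    intro p hp
    obtain ⟨hp1, hp2⟩ := Finset.mem_product.mp hp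
    have hu := hord₁ _ hp1
    have hv := hord₂ _ hp2
    have heven : Even (orderOf (p.1 * p.2)) := by
      by_contra hodd
      rw [Nat.not_even_iff_odd] at hodd
      obtain ⟨d, -, hd⟩ := Cfsg.Agent.S0208.result p.1 p.2 hu hv hodd
      apply hnc
      have h1 : IsConj p.1 p.2 := isConj_iff.mpr ⟨d, hd⟩
      exact (((hmemC₁ _).mp hp1).trans h1).trans ((hmemC₂ _).mp hp2).symm
    obtain ⟨hz2, -, -⟩ := Cfsg.Agent.S0209.result p.1 p.2 hu hv heven
    set z := (p.1 * p.2) ^ (orderOf (p.1 * p.2) / 2) with hz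
    have hzmem : z ∈ Subgroup.zpowers (p.1 * p.2) :=
      Subgroup.pow_mem _ (Subgroup.mem_zpowers _) _
    have hdisj : Disjoint (C₁.filter (fun z => z ∈ Subgroup.zpowers (p.1 * p.2)))
        (C₂.filter (fun z => z ∈ Subgroup.zpowers (p.1 * p.2))) := by
      rw [Finset.disjoint_left]
      intro a ha1 ha2
      apply hnc
      exact ((hmemC₁ a).mp (Finset.mem_filter.mp ha1).1).trans
        ((hmemC₂ a).mp (Finset.mem_filter.mp ha2).1).symm
    rw [← Finset.card_union_of_disjoint hdisj]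
    have hunion : (C₁.filter (fun z => z ∈ Subgroup.zpowers (p.1 * p.2)))
        ∪ (C₂.filter (fun z => z ∈ Subgroup.zpowers (p.1 * p.2))) = {z} := by
      ext a
      simp only [Finset.mem_union, Finset.mem_filter, Finset.mem_singleton]
      constructor
      · rintro (⟨ha, hm⟩ | ⟨ha, hm⟩)
        · exact involution_unique_in_zpowers _ a z hm hzmem (hord₁ a ha) hz2
        · exact involution_unique_in_zpowers _ a z hm hzmem (hord₂ a ha) hz2
      · rintro rfl
        rcases hall z hz2 with h | h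
        · left; exact ⟨(hmemC₁ _).mpr h, hzmem⟩
        · right; exact ⟨(hmemC₂ _).mpr h, hzmem⟩
    rw [hunion, Finset.card_singleton]
  have hB₁ : ∀ z ∈ C₁, ((C₁ ×ˢ C₂).filter (fun p => z ∈ Subgroup.zpowers (p.1 * p.2))).card = n₁ := by
    intro z hz
    obtain ⟨c, hc⟩ := isConj_iff.mp ((hmemC₁ z).mp hz)
    apply le_antisymm
    · apply card_filter_conj_le C₁ C₂ hcl₁ hcl₂ z x₁ c⁻¹
      rw [← hc]; group
    · exact card_filter_conj_le C₁ C₂ hcl₁ hcl₂ x₁ z c hc
  have hB₂ : ∀ z ∈ C₂, ((C₁ ×ˢ C₂).filter (fun p => z ∈ Subgroup.zpowers (p.1 * p.2))).card = n₂ := by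
    intro z hz
    obtain ⟨c, hc⟩ := isConj_iff.mp ((hmemC₂ z).mp hz)
    apply le_antisymm
    · apply card_filter_conj_le C₁ C₂ hcl₁ hcl₂ z x₂ c⁻¹
      rw [← hc]; group
    · exact card_filter_conj_le C₁ C₂ hcl₁ hcl₂ x₂ z c hc
  have hsum₁ : ∑ p ∈ C₁ ×ˢ C₂, (C₁.filter (fun z => z ∈ Subgroup.zpowers (p.1 * p.2))).card
      = C₁.card * n₁ := by
    simp_rw [Finset.card_filter]
    rw [Finset.sum_comm]
    simp_rw [← Finset.card_filter]
    rw [Finset.sum_congr rfl hB₁, Finset.sum_const, smul_eq_mul]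
  have hsum₂ : ∑ p ∈ C₁ ×ˢ C₂, (C₂.filter (fun z => z ∈ Subgroup.zpowers (p.1 * p.2))).card
      = C₂.card * n₂ := by
    simp_rw [Finset.card_filter]
    rw [Finset.sum_comm]
    simp_rw [← Finset.card_filter]
    rw [Finset.sum_congr rfl hB₂, Finset.sum_const, smul_eq_mul]
  have hcount : C₁.card * C₂.card = C₁.card * n₁ + C₂.card * n₂ := by
    rw [← hsum₁, ← hsum₂, ← Finset.sum_add_distrib, Finset.sum_congr rfl hA, Finset.sum_const,
      smul_eq_mul, mul_one, Finset.card_product]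
  have hidx₁ : C₁.card * Nat.card (Subgroup.centralizer ({x₁} : Set G)) = Nat.card G := by
    have h1 := index_centralizer_eq x₁
    have h2 : Nat.card {y : G // IsConj x₁ y} = C₁.card := by
      rw [Nat.card_eq_fintype_card, Fintype.card_subtype]
    rw [← h2, ← h1, mul_comm]
    exact Subgroup.card_mul_index _
  have hidx₂ : C₂.card * Nat.card (Subgroup.centralizer ({x₂} : Set G)) = Nat.card G := by
    have h1 := index_centralizer_eq x₂
    have h2 : Nat.card {y : G // IsConj x₂ y} = C₂.card := by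
      rw [Nat.card_eq_fintype_card, Fintype.card_subtype]
    rw [← h2, ← h1, mul_comm]
    exact Subgroup.card_mul_index _
  have hNpos : 0 < Nat.card G := Nat.card_pos
  set a₁ := Nat.card (Subgroup.centralizer ({x₁} : Set G)) with ha₁
  set a₂ := Nat.card (Subgroup.centralizer ({x₂} : Set G)) with ha₂
  set N := Nat.card G with hN
  have key : N * N = N * (a₂ * n₁ + a₁ * n₂) := by
    calc N * N = (C₁.card * a₁) * (C₂.card * a₂) := by rw [hidx₁, hidx₂]
      _ = (C₁.card * C₂.card) * (a₁ * a₂) := by ring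
      _ = (C₁.card * n₁ + C₂.card * n₂) * (a₁ * a₂) := by rw [hcount]
      _ = (C₁.card * a₁) * (a₂ * n₁) + (C₂.card * a₂) * (a₁ * n₂) := by ring
      _ = N * (a₂ * n₁ + a₁ * n₂) := by rw [hidx₁, hidx₂]; ring
  exact Nat.eq_of_mul_eq_mul_left hNpos key

end Cfsg.Agent.S0213
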