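import Cfsg.Statements.S0678
import Cfsg.Agent.Lib.helper15.Deg7

set_option autoImplicit false
open Cfsg

namespace Cfsg.Agent.S0678

/-- A non-solvable transitive permutation group on 7 points that does not contain the alternating group is a simple group of order 168. -/
theorem result {α : Type*} [Fintype α] [DecidableEq α] (hα : Fintype.card α = 7) (G : Subgroup (Equiv.Perm α)) [MulAction.IsPretransitive G α] (hG : ¬ Group.IsSolvable G) (hA : ¬ alternatingGroup α ≤ G) : Nat.card G = 168 ∧ IsSimpleGroup G := by
  have hprim : MulAction.IsPreprimitive G α :=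
    MulAction.IsPreprimitive.of_prime_card (by rw [Nat.card_eq_fintype_card, hα]; norm_num)
  apply Cfsg.Agent.Lib.helper15.Deg7.main (Γ := G) (α := α) hα hG
  · intro g hsw
    have h1 : (MulAction.toPerm g : Equiv.Perm α) = (g : Equiv.Perm α) := by
      ext x; rfl
    rw [h1] at hsw
    have h2 := Equiv.Perm.subgroup_eq_top_of_isPreprimitive_of_isSwap_mem hprim
      (g : Equiv.Perm α) hsw g.2
    exact hA (by rw [h2]; exact le_top)
  · intro g h3
    have h1 : (MulAction.toPerm g : Equiv.Perm α) = (g : Equiv.Perm α) := by
      ext x; rfl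
    rw [h1] at h3
    exact hA (Equiv.Perm.alternatingGroup_le_of_isPreprimitive_of_isThreeCycle_mem hprim h3 g.2)

end Cfsg.Agent.S0678
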