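import Cfsg.Statements.S0685
import Cfsg.Agent.Lib.helper15.LinReg

set_option autoImplicit false
open Cfsg

namespace Cfsg.Agent.S0685

open Cfsg.Agent.Lib.helper15.LinReg

/-- In a linear group over the prime field that is regular on non-zero vectors and has no irreducible cyclic normal subgroup, a maximal normal abelian subgroup is properly contained in its centraliser, which is non-abelian. -/
theorem result {p : ℕ} [Fact p.Prime] {V : Type*} [AddCommGroup V] [Module (ZMod p) V] [Finite V] (H : Subgroup (V ≃ₗ[ZMod p] V)) (hreg : ∀ v w : V, v ≠ 0 → w ≠ 0 → ∃! h : H, (h : V ≃ₗ[ZMod p] V) v = w) (hI : ∀ A : Subgroup H, A.Normal → IsCyclic A → ∃ W : Submodule (ZMod p) V, W ≠ ⊥ ∧ W ≠ ⊤ ∧ ∀ a ∈ A, ∀ v ∈ W, ((a : H) : V ≃ₗ[ZMod p] V) v ∈ W) (A : Subgroup H) (hAn : A.Normal) (hAc : IsMulCommutative A) (hAmax : ∀ B : Subgroup H, B.Normal → IsMulCommutative B → A ≤ B → B = A) : A < Subgroup.centralizer (A : Set H) ∧ ¬ IsMulCommutative (Subgroup.centralizer (A : Set H)) := by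
  classical
  have hfinE : Finite (V ≃ₗ[ZMod p] V) :=
    Finite.of_injective (fun e : V ≃ₗ[ZMod p] V => (e : V → V)) DFunLike.coe_injective
  by_cases hV : Nontrivial V
  · obtain ⟨v, hv⟩ := exists_ne (0 : V)
    have htop : (⊤ : Submodule (ZMod p) V) ≠ ⊥ :=
      (Submodule.ne_bot_iff _).mpr ⟨v, trivial, hv⟩
    obtain ⟨W₁, -, hW₁, hinv₁, hmin₁⟩ :=
      exists_minimal_invariant H A ⊤ htop (fun a _ v _ => trivial)
    have hcyc : IsCyclic A := cyclic_of_minimal H hreg A hAc W₁ hW₁ hinv₁ hmin₁
    obtain ⟨W₀, hW₀, hW₀t, hinv₀⟩ := hI A hAn hcyc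
    obtain ⟨W, hWle, hW, hinv, hmin⟩ := exists_minimal_invariant H A W₀ hW₀ hinv₀
    have hWt : W ≠ ⊤ := by
      rintro rfl
      exact hW₀t (top_le_iff.mp hWle)
    have hk := two_mul_finrank_le H hreg A hAn W hW hWt hinv hmin
    have hdvd := card_dvd_of_invariant H hreg A W hinv
    have hH := card_of_reg H hreg
    have hle : A ≤ Subgroup.centralizer (A : Set H) := by
      intro a ha
      rw [Subgroup.mem_centralizer_iff]
      intro b hb
      exact congrArg Subtype.val (isMulCommutative_iff.mp hAc ⟨b, hb⟩ ⟨a, ha⟩)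
    have hlt : A < Subgroup.centralizer (A : Set H) := by
      refine lt_of_le_of_ne hle ?_
      intro heq
      have h1 := card_le_of_cyclic_normal H A
      rw [← heq, hH] at h1
      -- arithmetic
      have hp2 : 2 ≤ p := (Fact.out : p.Prime).two_le
      have hkpos : 0 < Module.finrank (ZMod p) W := by
        rw [Module.finrank_pos_iff]
        obtain ⟨w, hwW, hw⟩ := (Submodule.ne_bot_iff W).mp hW
        exact ⟨⟨⟨w, hwW⟩, 0, fun h => hw (congrArg Subtype.val h)⟩⟩
      set k := Module.finrank (ZMod p) W with hkdef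
      set n := Module.finrank (ZMod p) V with hndef
      set a := Nat.card A with hadef
      have hq : 2 ≤ p ^ k := by
        calc 2 ≤ p := hp2
          _ = p ^ 1 := (pow_one p).symm
          _ ≤ p ^ k := Nat.pow_le_pow_right (by omega) hkpos
      have ha1 : 0 < a := Nat.card_pos
      have ha2 : a ≤ p ^ k - 1 := Nat.le_of_dvd (by omega) hdvd
      have hpn : p ^ k * p ^ k ≤ p ^ n := by
        rw [← pow_add]
        exact Nat.pow_le_pow_right (by omega) (by omega)
      have h3 : p ^ n ≤ a * a + 1 := by omega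
      have h4 : a + 1 ≤ p ^ k := by omega
      nlinarith [Nat.mul_le_mul h4 h4]
    refine ⟨hlt, fun hC => ?_⟩
    have hCn : (Subgroup.centralizer (A : Set H)).Normal := Subgroup.normal_centralizer
    exact hlt.ne (hAmax _ hCn hC hle).symm
  · exfalso
    rw [not_nontrivial_iff_subsingleton] at hV
    have hsub : Subsingleton (V ≃ₗ[ZMod p] V) :=
      ⟨fun e f => LinearEquiv.ext (fun x => Subsingleton.elim _ _)⟩
    have hsubA : Subsingleton A := ⟨fun a b => Subtype.ext (Subtype.ext (Subsingleton.elim _ _))⟩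
    have hcyc : IsCyclic A := isCyclic_of_subsingleton
    obtain ⟨W₀, hW₀, -, -⟩ := hI A hAn hcyc
    apply hW₀
    rw [eq_bot_iff]
    intro x _
    rw [Submodule.mem_bot]
    exact Subsingleton.elim _ _

end Cfsg.Agent.S0685
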