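import Cfsg.Statements.S3783
import Mathlib
import Cfsg.Agent.Lib.helper66.FrobIdentity
import Cfsg.Agent.Lib.helper66.DualHH
import Cfsg.Agent.Lib.helper66.PLengthSeries
import Cfsg.Agent.Lib.helper38.HallHigman2
import Cfsg.Agent.Lib.helper69.CoprimeAut
import Cfsg.Agent.Lib.helper3.PGroupFrattini
import Cfsg.Agent.Lib.helper40.Cores

set_option autoImplicit false
set_option linter.style.haveILetI false
set_option linter.unusedSectionVars false
open Cfsg

namespace Cfsg.Agent.S3783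

open Cfsg.Agent.Lib.helper66 Cfsg.Agent.Lib.helper27

universe u

section rep

variable {G : Type*} [Group G] (H : Subgroup G) [hHn : H.Normal]

/-- The conjugation action of `G` on the abelianization of a normal subgroup. -/
noncomputable def abAut : G →* MulAut (Abelianization ↥H) where
  toFun g := MulEquiv.abelianizationCongr (MulAut.conjNormal g : ↥H ≃* ↥H)
  map_one' := by
    ext a
    obtain ⟨h, rfl⟩ : ∃ h : ↥H, Abelianization.of h = a := QuotientGroup.mk_surjective a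
    simp
  map_mul' := fun g g' => by
    ext a
    obtain ⟨h, rfl⟩ : ∃ h : ↥H, Abelianization.of h = a := QuotientGroup.mk_surjective a
    simp

theorem abAut_of (g : G) (h : ↥H) :
    abAut H g (Abelianization.of h) = Abelianization.of (MulAut.conjNormal g h) :=
  abelianizationCongr_of _ _

theorem abAut_eq_one_of_mem (g : G) (hg : g ∈ H) : abAut H g = 1 := by
  ext a
  obtain ⟨h, rfl⟩ : ∃ h : ↥H, Abelianization.of h = a := QuotientGroup.mk_surjective a
  rw [abAut_of, MulAut.one_apply]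
  have e : MulAut.conjNormal g h = (⟨g, hg⟩ : ↥H) * h * (⟨g, hg⟩ : ↥H)⁻¹ :=
    Subtype.ext (by simp [MulAut.conjNormal_apply])
  rw [e, map_mul, map_mul, map_inv, mul_comm, inv_mul_cancel_left]

/-- The action of `G ⧸ H` on the (additive) abelianization of `H`. -/
noncomputable def qRep : G ⧸ H →* AddMonoid.End (Additive (Abelianization ↥H)) :=
  addRep (QuotientGroup.lift H (abAut H)
    (fun g hg => MonoidHom.mem_ker.mpr (abAut_eq_one_of_mem H g hg)))

theorem qRep_mk_of (g : G) (h : ↥H) :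
    qRep H (QuotientGroup.mk g) (Additive.ofMul (Abelianization.of h))
      = Additive.ofMul (Abelianization.of (MulAut.conjNormal g h)) := by
  unfold qRep
  rw [addRep_apply, QuotientGroup.lift_mk, abAut_of]

theorem mul_pow_mul_inv_mem (x : G) (h : G) (hh : h ∈ H) (m : ℕ) :
    (h * x) ^ m * (x ^ m)⁻¹ ∈ H := by
  induction m with
  | zero => simp
  | succ m ih =>
    have e : (h * x) ^ (m + 1) * (x ^ (m + 1))⁻¹
        = ((h * x) ^ m * (x ^ m)⁻¹) * (x ^ m * h * (x ^ m)⁻¹) := by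
      rw [pow_succ, pow_succ]
      group
    rw [e]
    exact H.mul_mem ih (hHn.conj_mem h hh (x ^ m))

theorem sum_pow_apply (x : G) (h : ↥H) (m : ℕ) :
    (∑ i ∈ Finset.range m, qRep H (QuotientGroup.mk x) ^ i) (Additive.ofMul (Abelianization.of h))
      = Additive.ofMul (Abelianization.of
          (⟨((h : G) * x) ^ m * (x ^ m)⁻¹, mul_pow_mul_inv_mem H x h h.2 m⟩ : ↥H)) := by
  induction m with
  | zero =>
    have e : (⟨((h : G) * x) ^ 0 * (x ^ 0)⁻¹, mul_pow_mul_inv_mem H x h h.2 0⟩ : ↥H) = 1 :=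
      Subtype.ext (by simp)
    rw [e, map_one, Finset.range_zero, Finset.sum_empty]
    rfl
  | succ m ih =>
    rw [Finset.sum_range_succ]
    change (∑ i ∈ Finset.range m, qRep H (QuotientGroup.mk x) ^ i)
        (Additive.ofMul (Abelianization.of h))
      + (qRep H (QuotientGroup.mk x) ^ m) (Additive.ofMul (Abelianization.of h)) = _
    rw [ih, ← map_pow, ← QuotientGroup.mk_pow, qRep_mk_of, ← ofMul_mul, ← map_mul]
    congr 2
    apply Subtype.ext
    simp only [Subgroup.coe_mul, MulAut.conjNormal_apply, pow_succ]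
    group

end rep


open scoped Pointwise in
/-- A `p`-element normalising a normal `p'`-subgroup `K` normalises some Sylow `q`-subgroup
of `K`. -/
theorem exists_invariant_sylow {Γ : Type*} [Group Γ] [Finite Γ] {p : ℕ} [Fact p.Prime]
    (K : Subgroup Γ) [hKn : K.Normal] (hK : (Nat.card K).Coprime p) (x : Γ)
    (hx : IsPGroup p ↥(Subgroup.zpowers x)) (q : ℕ) [Fact q.Prime] :
    ∃ Q : Sylow q ↥K, ∀ k : ↥K, k ∈ (Q : Subgroup ↥K) →
      (⟨x * (k : Γ) * x⁻¹, hKn.conj_mem k k.2 x⟩ : ↥K) ∈ (Q : Subgroup ↥K) := by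
  let f : ↥(Subgroup.zpowers x) →* MulAut ↥K :=
    (MulAut.conjNormal : Γ →* MulAut ↥K).comp (Subgroup.zpowers x).subtype
  letI : MulDistribMulAction ↥(Subgroup.zpowers x) ↥K := MulDistribMulAction.compHom ↥K f
  have hnd : ¬ p ∣ Nat.card (Sylow q ↥K) := by
    intro hdvd
    obtain ⟨S⟩ : Nonempty (Sylow q ↥K) := inferInstance
    have h1 : p ∣ Nat.card ↥K :=
      (hdvd.trans (Sylow.card_dvd_index S)).trans (Subgroup.index_dvd_card _)
    have h2 := Nat.Coprime.eq_one_of_dvd hK.symm h1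
    exact (Fact.out : p.Prime).one_lt.ne' h2
  obtain ⟨Q, hQ⟩ := hx.nonempty_fixed_point_of_prime_not_dvd_card (Sylow q ↥K) hnd
  refine ⟨Q, fun k hk => ?_⟩
  have h1 : (⟨x, Subgroup.mem_zpowers x⟩ : ↥(Subgroup.zpowers x)) • Q = Q := hQ _
  have h2 : (⟨x, Subgroup.mem_zpowers x⟩ : ↥(Subgroup.zpowers x)) • k ∈
      (⟨x, Subgroup.mem_zpowers x⟩ : ↥(Subgroup.zpowers x)) • (Q : Subgroup ↥K) :=
    Subgroup.smul_mem_pointwise_smul k _ _ hk
  have h3 : (⟨x, Subgroup.mem_zpowers x⟩ : ↥(Subgroup.zpowers x)) • (Q : Subgroup ↥K)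
      = (Q : Subgroup ↥K) := congrArg (fun S : Sylow q ↥K => (S : Subgroup ↥K)) h1
  rw [h3] at h2
  exact h2


/-- The exponent of a Sylow `p`-subgroup drops in `G / O_p(G)` when `O_{p'}(G) = 1` and the
Sylow `q`-subgroups (`q ≠ p`) are abelian. -/
theorem exp_drop {G : Type*} [Group G] [Finite G] {p : ℕ} [hp : Fact p.Prime]
    (hG : Cfsg.IsPSolvable p G) (hO : Cfsg.pPrimeCore p G = ⊥)
    (hab : ∀ (q : ℕ) [Fact q.Prime], q ≠ p → ∀ Q : Sylow q G, IsMulCommutative (Q : Subgroup G))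
    (n : ℕ) (hexp : ∀ (P : Sylow p G), ∀ x ∈ (P : Subgroup G), x ^ p ^ (n + 1) = 1) :
    ∀ (P : Sylow p (G ⧸ Cfsg.pCore p G)), ∀ x ∈ (P : Subgroup (G ⧸ Cfsg.pCore p G)),
      x ^ p ^ n = 1 := by
  classical
  set H := Cfsg.pCore p G with hH
  intro Pb xb' hxb'
  obtain ⟨P, rfl⟩ := Sylow.mapSurjective_surjective (QuotientGroup.mk'_surjective H) p Pb
  obtain ⟨x, hxP, rfl⟩ : ∃ x ∈ (P : Subgroup G), QuotientGroup.mk' H x = xb' := hxb'
  by_contra hne
  have hx1 : x ^ p ^ (n + 1) = 1 := hexp P x hxP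
  have hHp : IsPGroup p ↥H := pCore_isPGroup p
  have hHP : H ≤ (P : Subgroup G) := hHp.le_sylow_of_normal P
  have hhx : ∀ h ∈ H, (h * x) ^ p ^ (n + 1) = 1 := fun h hh => hexp P _ (mul_mem (hHP hh) hxP)
  set xb : G ⧸ H := (QuotientGroup.mk x : G ⧸ H) with hxb
  have hne' : ¬ xb ^ p ^ n = 1 := hne
  have hxb1 : xb ^ p ^ (n + 1) = 1 := by
    rw [hxb, ← QuotientGroup.mk_pow, hx1]
    rfl
  have hord : orderOf xb = p ^ (n + 1) := orderOf_eq_prime_pow hne' hxb1
  set yb : G ⧸ H := xb ^ p ^ n with hyb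
  have hyb1 : yb ≠ 1 := hne'
  have hybp : yb ^ p = 1 := by
    rw [hyb, ← pow_mul, ← pow_succ]
    exact hxb1
  have hyord : orderOf yb = p := orderOf_eq_prime hybp hyb1
  have hOp : Cfsg.pCore p (G ⧸ H) = ⊥ := pCore_quotient_pCore p
  have hGb : Cfsg.IsPSolvable p (G ⧸ H) := Cfsg.Agent.Lib.helper38.isPSolvable_quotient H hG
  have hCK := centralizer_pPrimeCore_le_of_isPSolvable hGb hOp
  set K := Cfsg.pPrimeCore p (G ⧸ H) with hK
  have hKcop : (Nat.card K).Coprime p := pPrimeCore_coprime p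
  have hordK : ∀ g ∈ K, (orderOf g).Coprime p := by
    intro g hg
    have h1 : orderOf g ∣ Nat.card K := by
      have := orderOf_dvd_natCard (⟨g, hg⟩ : ↥K)
      rwa [Subgroup.orderOf_mk] at this
    exact Nat.Coprime.coprime_dvd_left h1 hKcop
  have hybK : yb ∉ K := by
    intro hmem
    have h1 := hordK yb hmem
    rw [hyord, Nat.coprime_self] at h1
    exact hp.out.one_lt.ne' h1
  have hxy : Commute xb yb := (Commute.refl xb).pow_right _
  -- `T = C_K(yb)` is proper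
  let T : Subgroup ↥K := (Subgroup.centralizer ({yb} : Set (G ⧸ H))).subgroupOf K
  have hT : T ≠ ⊤ := by
    intro hTtop
    apply hybK
    apply hCK
    rw [Subgroup.mem_centralizer_iff]
    intro k hk
    have hkT : (⟨k, hk⟩ : ↥K) ∈ T := by
      rw [hTtop]
      exact Subgroup.mem_top _
    have h2 := Subgroup.mem_centralizer_iff.mp (Subgroup.mem_subgroupOf.mp hkT) yb
      (Set.mem_singleton yb)
    exact h2.symm
  have hidx : T.index ≠ 1 := fun h => hT (Subgroup.index_eq_one.mp h)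
  obtain ⟨q, hq, hqd⟩ := Nat.exists_prime_and_dvd hidx
  haveI : Fact q.Prime := ⟨hq⟩
  have hxbp : IsPGroup p ↥(Subgroup.zpowers xb) :=
    IsPGroup.of_card (n := n + 1) (by rw [Nat.card_zpowers, hord])
  obtain ⟨Q, hQinv⟩ := exists_invariant_sylow K hKcop xb hxbp q
  have hQT : ¬ (Q : Subgroup ↥K) ≤ T := fun hle =>
    Q.not_dvd_index (hqd.trans (Subgroup.index_dvd_of_le hle))
  have hqp : q ≠ p := by
    intro hqp
    have hQbot : (Q : Subgroup ↥K) = ⊥ := by
      by_contra hne''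
      obtain ⟨k, hk⟩ := IsPGroup.iff_card.mp Q.isPGroup'
      have hk0 : k ≠ 0 := by
        rintro rfl
        rw [pow_zero] at hk
        exact hne'' (Subgroup.card_eq_one.mp hk)
      have h1 : q ∣ Nat.card ↥K :=
        (dvd_pow_self q hk0).trans (hk ▸ Subgroup.card_subgroup_dvd_card _)
      rw [hqp] at h1
      exact hp.out.one_lt.ne' (Nat.Coprime.eq_one_of_dvd hKcop.symm h1)
    exact hQT (hQbot ▸ bot_le)
  set QG : Subgroup (G ⧸ H) := (Q : Subgroup ↥K).map K.subtype with hQG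
  have hQGK : QG ≤ K := Subgroup.map_subtype_le _
  have hQGq : IsPGroup q ↥QG := Q.isPGroup'.map _
  have habb : ∀ a ∈ QG, ∀ b ∈ QG, a * b = b * a := by
    obtain ⟨S, hS⟩ := hQGq.exists_le_sylow
    obtain ⟨S₀, rfl⟩ := Sylow.mapSurjective_surjective (QuotientGroup.mk'_surjective H) q S
    have hcomm : IsMulCommutative ↥(S₀ : Subgroup G) := hab q hqp S₀
    intro a ha b hb
    obtain ⟨a', ha', rfl⟩ : ∃ a' ∈ (S₀ : Subgroup G), QuotientGroup.mk' H a' = a := hS ha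
    obtain ⟨b', hb', rfl⟩ : ∃ b' ∈ (S₀ : Subgroup G), QuotientGroup.mk' H b' = b := hS hb
    have h1 := hcomm.is_comm.comm (⟨a', ha'⟩ : ↥(S₀ : Subgroup G)) ⟨b', hb'⟩
    have h2 : a' * b' = b' * a' := congrArg Subtype.val h1
    rw [← map_mul, ← map_mul, h2]
  have hQGx : ∀ a ∈ QG, xb * a * xb⁻¹ ∈ QG := by
    rintro _ ⟨k, hk, rfl⟩
    exact ⟨_, hQinv k hk, rfl⟩
  have hQGxpow : ∀ (i : ℕ), ∀ a ∈ QG, xb ^ i * a * (xb ^ i)⁻¹ ∈ QG := by
    intro i
    induction i with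
    | zero =>
      intro a ha
      simpa using ha
    | succ i ih =>
      intro a ha
      have h1 := hQGx _ (ih a ha)
      have e : xb ^ (i + 1) * a * (xb ^ (i + 1))⁻¹ = xb * (xb ^ i * a * (xb ^ i)⁻¹) * xb⁻¹ := by
        rw [pow_succ']
        group
      rw [e]
      exact h1
  have hQGy : ∀ a ∈ QG, yb * a * yb⁻¹ ∈ QG := fun a ha => hQGxpow _ a ha
  let N : Subgroup (G ⧸ H) :=
    { carrier := {g | ∃ k ∈ QG, g = k⁻¹ * (yb * k * yb⁻¹)}
      one_mem' := ⟨1, QG.one_mem, by simp⟩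
      mul_mem' := by
        rintro _ _ ⟨k₁, hk₁, rfl⟩ ⟨k₂, hk₂, rfl⟩
        refine ⟨k₁ * k₂, QG.mul_mem hk₁ hk₂, ?_⟩
        have c1 := habb _ (QG.inv_mem hk₂) _ (QG.mul_mem (QG.inv_mem hk₁) (hQGy k₁ hk₁))
        calc k₁⁻¹ * (yb * k₁ * yb⁻¹) * (k₂⁻¹ * (yb * k₂ * yb⁻¹))
            = (k₁⁻¹ * (yb * k₁ * yb⁻¹) * k₂⁻¹) * (yb * k₂ * yb⁻¹) := by group
          _ = (k₂⁻¹ * (k₁⁻¹ * (yb * k₁ * yb⁻¹))) * (yb * k₂ * yb⁻¹) := by rw [c1]
          _ = (k₁ * k₂)⁻¹ * (yb * (k₁ * k₂) * yb⁻¹) := by group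
      inv_mem' := by
        rintro _ ⟨k, hk, rfl⟩
        refine ⟨k⁻¹, QG.inv_mem hk, ?_⟩
        have c1 := habb _ hk _ (hQGy _ (QG.inv_mem hk))
        calc (k⁻¹ * (yb * k * yb⁻¹))⁻¹ = (yb * k⁻¹ * yb⁻¹) * k := by group
          _ = k * (yb * k⁻¹ * yb⁻¹) := c1.symm
          _ = k⁻¹⁻¹ * (yb * k⁻¹ * yb⁻¹) := by rw [inv_inv] }
  have hNmem : ∀ g, g ∈ N ↔ ∃ k ∈ QG, g = k⁻¹ * (yb * k * yb⁻¹) := fun g => Iff.rfl
  have hNQG : N ≤ QG := by
    rintro _ ⟨k, hk, rfl⟩
    exact QG.mul_mem (QG.inv_mem hk) (hQGy k hk)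
  have hNbot : N ≠ ⊥ := by
    intro hbot
    obtain ⟨k, hkQ, hkT⟩ := SetLike.not_le_iff_exists.mp hQT
    apply hkT
    rw [Subgroup.mem_subgroupOf, Subgroup.mem_centralizer_iff]
    intro y hy
    rw [Set.mem_singleton_iff] at hy
    subst hy
    have hmem : (k : G ⧸ H)⁻¹ * (yb * (k : G ⧸ H) * yb⁻¹) ∈ N :=
      (hNmem _).mpr ⟨(k : G ⧸ H), Subgroup.mem_map_of_mem K.subtype hkQ, rfl⟩
    rw [hbot, Subgroup.mem_bot] at hmem
    have h2 : yb * (k : G ⧸ H) * yb⁻¹ = (k : G ⧸ H) := by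
      have := congrArg (fun t => (k : G ⧸ H) * t) hmem
      simpa using this
    have h3 := congrArg (fun t => t * yb) h2
    simpa using h3
  -- `R = ⟨xb⟩` normalises `N`
  have hRpow : ∀ r ∈ Subgroup.zpowers xb, ∃ i : ℕ, xb ^ i = r := by
    intro r hr
    exact (Submonoid.mem_powers_iff _ _).mp (mem_powers_iff_mem_zpowers.mpr hr)
  have hNR : ∀ r ∈ Subgroup.zpowers xb, ∀ g ∈ N, r * g * r⁻¹ ∈ N := by
    intro r hr g hg
    obtain ⟨i, rfl⟩ := hRpow r hr
    obtain ⟨k, hk, rfl⟩ := (hNmem g).mp hg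
    refine (hNmem _).mpr ⟨xb ^ i * k * (xb ^ i)⁻¹, hQGxpow i k hk, ?_⟩
    have hc : Commute (xb ^ i) yb := hxy.pow_left i
    have hc' : yb * xb ^ i = xb ^ i * yb := hc.eq.symm
    have hc'' : (xb ^ i)⁻¹ * yb⁻¹ = yb⁻¹ * (xb ^ i)⁻¹ := by
      rw [← mul_inv_rev, ← mul_inv_rev, hc.eq.symm]
    calc xb ^ i * (k⁻¹ * (yb * k * yb⁻¹)) * (xb ^ i)⁻¹
        = xb ^ i * k⁻¹ * (xb ^ i)⁻¹ * ((xb ^ i * yb) * k * (yb⁻¹ * (xb ^ i)⁻¹)) := by group
      _ = xb ^ i * k⁻¹ * (xb ^ i)⁻¹ * ((yb * xb ^ i) * k * ((xb ^ i)⁻¹ * yb⁻¹)) := by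
        rw [hc', hc'']
      _ = (xb ^ i * k * (xb ^ i)⁻¹)⁻¹ * (yb * (xb ^ i * k * (xb ^ i)⁻¹) * yb⁻¹) := by group
  -- fixed-point-freeness
  have hfpf : ∀ r ∈ Subgroup.zpowers xb, r ≠ 1 → ∀ g ∈ N, r * g * r⁻¹ = g → g = 1 := by
    intro r hr hr1 g hg hfix
    obtain ⟨i, rfl⟩ := hRpow r hr
    have hi0 : i ≠ 0 := by
      rintro rfl
      exact hr1 (pow_zero xb)
    obtain ⟨e, m, hm, him⟩ := Nat.exists_eq_pow_mul_and_not_dvd hi0 p hp.out.one_lt.ne'
    have hen : e ≤ n := by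
      by_contra hlt
      push Not at hlt
      apply hr1
      rw [← orderOf_dvd_iff_pow_eq_one, hord, him]
      exact Dvd.dvd.mul_right (pow_dvd_pow p hlt) m
    have hcg : Commute (xb ^ i) g := by
      have h1 := congrArg (fun t => t * xb ^ i) hfix
      show xb ^ i * g = g * xb ^ i
      simpa using h1
    have hcy : Commute (yb ^ m) g := by
      have h2 : yb ^ m = (xb ^ i) ^ p ^ (n - e) := by
        rw [hyb, ← pow_mul, ← pow_mul, him]
        congr 1
        have : p ^ n = p ^ e * p ^ (n - e) := by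
          rw [← pow_add]
          congr 1
          omega
        rw [this]
        ring
      rw [h2]
      exact hcg.pow_left _
    have hcop : Nat.Coprime m p := ((Nat.Prime.coprime_iff_not_dvd hp.out).mpr hm).symm
    obtain ⟨m', -, hm'⟩ := Nat.exists_mul_mod_eq_one_of_coprime hcop hp.out.one_lt
    have hcy1 : Commute yb g := by
      have h3 : yb = (yb ^ m) ^ m' := by
        rw [← pow_mul, ← pow_mod_orderOf, hyord, hm', pow_one]
      rw [h3]
      exact hcy.pow_left _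
    obtain ⟨k, hk, hgk⟩ := (hNmem g).mp hg
    have hk1 : yb * k * yb⁻¹ = k * g := by
      rw [hgk]
      group
    have key : ∀ j : ℕ, yb ^ j * k * (yb ^ j)⁻¹ = k * g ^ j := by
      intro j
      induction j with
      | zero => simp
      | succ j ih =>
        have hcj : yb ^ j * g * (yb ^ j)⁻¹ = g := by
          have := (hcy1.pow_left j).eq
          rw [this]
          group
        calc yb ^ (j + 1) * k * (yb ^ (j + 1))⁻¹
            = yb ^ j * (yb * k * yb⁻¹) * (yb ^ j)⁻¹ := by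
              rw [pow_succ]
              group
          _ = (yb ^ j * k * (yb ^ j)⁻¹) * (yb ^ j * g * (yb ^ j)⁻¹) := by
              rw [hk1]
              group
          _ = k * g ^ (j + 1) := by
              rw [ih, hcj, pow_succ, mul_assoc]
    have hgp : g ^ p = 1 := by
      have h4 := key p
      rw [hybp] at h4
      simpa using h4.symm
    have hgK : g ∈ K := hQGK (hNQG hg)
    exact Cfsg.Agent.Lib.helper40.eq_one_of_pow_eq_one_of_coprime (k := 1)
      (by rw [pow_one]; exact hgp) (hordK g hgK)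
  -- an element of `N` acting non-trivially
  have hNq : IsPGroup q ↥N := hQGq.to_le hNQG
  have hqN : q ∣ Nat.card ↥N := by
    obtain ⟨c, hc⟩ := IsPGroup.iff_card.mp hNq
    have hc0 : c ≠ 0 := by
      rintro rfl
      rw [pow_zero] at hc
      exact hNbot (Subgroup.card_eq_one.mp hc)
    rw [hc]
    exact dvd_pow_self q hc0
  obtain ⟨ub, hub⟩ := exists_prime_orderOf_dvd_card' q hqN
  obtain ⟨u', hu'⟩ := QuotientGroup.mk_surjective (ub : G ⧸ H)
  have hu'q : u' ^ q ∈ H := by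
    rw [← QuotientGroup.eq_one_iff, QuotientGroup.mk_pow, hu', ← Subgroup.coe_pow, ← hub,
      pow_orderOf_eq_one]
    rfl
  set c := Nat.card ↥H with hc
  obtain ⟨a₀, ha₀⟩ := IsPGroup.iff_card.mp hHp
  set u := u' ^ c with hu
  have huq : u ^ q = 1 := by
    have h1 : (⟨u' ^ q, hu'q⟩ : ↥H) ^ c = 1 := pow_card_eq_one'
    have h2 := congrArg Subtype.val h1
    rw [hu, ← pow_mul, mul_comm, pow_mul]
    simpa using h2
  have humk : (QuotientGroup.mk u : G ⧸ H) = (ub : G ⧸ H) ^ c := by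
    rw [hu, QuotientGroup.mk_pow, hu']
  have humkN : (QuotientGroup.mk u : G ⧸ H) ∈ N := by
    rw [humk]
    exact N.pow_mem ub.2 c
  have humk1 : (QuotientGroup.mk u : G ⧸ H) ≠ 1 := by
    rw [humk]
    intro h1
    have h2 : orderOf (ub : G ⧸ H) ∣ c := orderOf_dvd_of_pow_eq_one h1
    rw [Subgroup.orderOf_coe, hub, hc, ha₀] at h2
    exact hqp ((Nat.prime_dvd_prime_iff_eq hq hp.out).mp (hq.dvd_of_dvd_pow h2))
  have huH : u ∉ H := fun h => humk1 ((QuotientGroup.eq_one_iff u).mpr h)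
  have hCH := Cfsg.Agent.Lib.helper38.centralizer_pCore_le_of_isPSolvable hG hO
  have hβq : (MulAut.conjNormal u : MulAut ↥H) ^ q = 1 := by
    rw [← map_pow, huq, map_one]
  have hβ1 : (MulAut.conjNormal u : MulAut ↥H) ≠ 1 := by
    intro h1
    apply huH
    apply hCH
    rw [Subgroup.mem_centralizer_iff]
    intro h hh
    have h2 := congrArg (fun β : MulAut ↥H => ((β ⟨h, hh⟩ : ↥H) : G)) h1
    simp only [MulAut.conjNormal_apply, MulAut.one_apply] at h2
    have h3 := congrArg (fun t => t * u) h2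
    simpa using h3.symm
  obtain ⟨h₀, hh₀⟩ : ∃ h₀ : ↥H, (MulAut.conjNormal u : MulAut ↥H) h₀ * h₀⁻¹ ∉ frattini ↥H := by
    by_contra hall
    push Not at hall
    exact hβ1 (Cfsg.Agent.Lib.helper69.mulAut_eq_one_of_trivial_mod_frattini (Ne.symm hqp) hHp _
      hβq hall)
  have hρu : qRep H (QuotientGroup.mk u) ≠ 1 := by
    intro h1
    apply hh₀
    have h2 := congrArg (fun φ : AddMonoid.End (Additive (Abelianization ↥H)) =>
      Additive.toMul (φ (Additive.ofMul (Abelianization.of h₀)))) h1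
    simp only [qRep_mk_of] at h2
    have h3 : Abelianization.of ((MulAut.conjNormal u : MulAut ↥H) h₀)
        = Abelianization.of h₀ := h2
    have h4 : (MulAut.conjNormal u : MulAut ↥H) h₀ * h₀⁻¹ ∈ commutator ↥H := by
      rw [← Abelianization.ker_of, MonoidHom.mem_ker, map_mul, map_inv, h3, mul_inv_cancel]
    exact Cfsg.Agent.Lib.helper3.commutator_le_frattini hHp h4
  -- the trace of `⟨xb⟩` vanishes
  have hR : tr (qRep H) (Subgroup.zpowers xb) = 0 := by
    rw [tr_zpowers, hord]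
    ext a
    obtain ⟨h, rfl⟩ : ∃ h : ↥H, Additive.ofMul (Abelianization.of h) = a := by
      obtain ⟨h, hh⟩ := QuotientGroup.mk_surjective (Additive.toMul a)
      exact ⟨h, congrArg Additive.ofMul hh⟩
    rw [hxb, sum_pow_apply]
    have e : (⟨((h : G) * x) ^ p ^ (n + 1) * (x ^ p ^ (n + 1))⁻¹,
        mul_pow_mul_inv_mem H x h h.2 (p ^ (n + 1))⟩ : ↥H) = 1 :=
      Subtype.ext (by simp [hhx h h.2, hx1])
    rw [e, map_one]
    rfl
  have hA : ∀ a : Additive (Abelianization ↥H), c • a = 0 := by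
    intro a
    obtain ⟨h, rfl⟩ : ∃ h : ↥H, Additive.ofMul (Abelianization.of h) = a := by
      obtain ⟨h, hh⟩ := QuotientGroup.mk_surjective (Additive.toMul a)
      exact ⟨h, congrArg Additive.ofMul hh⟩
    rw [← ofMul_pow, ← map_pow, hc, pow_card_eq_one', map_one]
    rfl
  have hcopN : (Nat.card ↥N).Coprime c := by
    obtain ⟨c', hc'⟩ := IsPGroup.iff_card.mp hNq
    rw [hc', hc, ha₀]
    exact Nat.Coprime.pow _ _ ((Nat.coprime_primes hq hp.out).mpr hqp)
  exact hρu (eq_one_of_tr_eq_zero (qRep H) N (Subgroup.zpowers xb) hNR hfpf hA hcopN hR _ humkN)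


theorem hab_quotient {G : Type*} [Group G] [Finite G] {p : ℕ}
    (hab : ∀ (q : ℕ) [Fact q.Prime], q ≠ p → ∀ Q : Sylow q G, IsMulCommutative (Q : Subgroup G))
    (N : Subgroup G) [N.Normal] :
    ∀ (q : ℕ) [Fact q.Prime], q ≠ p → ∀ Q : Sylow q (G ⧸ N),
      IsMulCommutative (Q : Subgroup (G ⧸ N)) := by
  intro q _ hqp Q
  obtain ⟨Q₀, rfl⟩ := Sylow.mapSurjective_surjective (QuotientGroup.mk'_surjective N) q Q
  have hcomm := hab q hqp Q₀
  refine ⟨⟨fun a b => ?_⟩⟩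
  obtain ⟨a', ha', ha⟩ : ∃ a' ∈ (Q₀ : Subgroup G), QuotientGroup.mk' N a' = (a : G ⧸ N) := a.2
  obtain ⟨b', hb', hb⟩ : ∃ b' ∈ (Q₀ : Subgroup G), QuotientGroup.mk' N b' = (b : G ⧸ N) := b.2
  have h1 := hcomm.is_comm.comm (⟨a', ha'⟩ : ↥(Q₀ : Subgroup G)) ⟨b', hb'⟩
  have h2 : a' * b' = b' * a' := congrArg Subtype.val h1
  apply Subtype.ext
  rw [Subgroup.coe_mul, Subgroup.coe_mul, ← ha, ← hb, ← map_mul, ← map_mul, h2]

theorem hexp_quotient {G : Type*} [Group G] [Finite G] {p : ℕ} [Fact p.Prime] (m : ℕ)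
    (hexp : ∀ (P : Sylow p G), ∀ x ∈ (P : Subgroup G), x ^ m = 1) (N : Subgroup G) [N.Normal] :
    ∀ (P : Sylow p (G ⧸ N)), ∀ x ∈ (P : Subgroup (G ⧸ N)), x ^ m = 1 := by
  intro P x hx
  obtain ⟨P₀, rfl⟩ := Sylow.mapSurjective_surjective (QuotientGroup.mk'_surjective N) p P
  obtain ⟨x', hx', rfl⟩ : ∃ x' ∈ (P₀ : Subgroup G), QuotientGroup.mk' N x' = x := hx
  rw [← map_pow, hexp P₀ x' hx', map_one]

theorem main (p : ℕ) [Fact p.Prime] (n : ℕ) :
    ∀ (H : Type u) [Group H] [Finite H], Cfsg.IsPSolvable p H →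
      (∀ (q : ℕ) [Fact q.Prime], q ≠ p → ∀ Q : Sylow q H, IsMulCommutative (Q : Subgroup H)) →
      (∀ (P : Sylow p H), ∀ x ∈ (P : Subgroup H), x ^ p ^ n = 1) →
      Cfsg.PLengthLE p n H := by
  induction n with
  | zero =>
    intro H _ _ hS hab hexp
    refine PLengthLE.zero_of_coprime ?_
    obtain ⟨P⟩ : Nonempty (Sylow p H) := inferInstance
    have hP : (P : Subgroup H) = ⊥ := by
      rw [eq_bot_iff]
      intro x hx
      have := hexp P x hx
      simpa using this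
    have hnd : ¬ p ∣ Nat.card H := fun hd => P.ne_bot_of_dvd_card hd hP
    exact ((Nat.Prime.coprime_iff_not_dvd Fact.out).mpr hnd).symm
  | succ n ih =>
    intro H _ _ hS hab hexp
    have hbot := pPrimeCore_quotient_pPrimeCore (G := H) p
    have hS₁ : Cfsg.IsPSolvable p (H ⧸ Cfsg.pPrimeCore p H) :=
      Cfsg.Agent.Lib.helper38.isPSolvable_quotient _ hS
    have hab₁ := hab_quotient hab (Cfsg.pPrimeCore p H)
    have hexp₁ := hexp_quotient (p ^ (n + 1)) hexp (Cfsg.pPrimeCore p H)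
    have hdrop := exp_drop hS₁ hbot hab₁ n hexp₁
    have hS₂ : Cfsg.IsPSolvable p
        ((H ⧸ Cfsg.pPrimeCore p H) ⧸ Cfsg.pCore p (H ⧸ Cfsg.pPrimeCore p H)) :=
      Cfsg.Agent.Lib.helper38.isPSolvable_quotient _ hS₁
    have hab₂ := hab_quotient hab₁ (Cfsg.pCore p (H ⧸ Cfsg.pPrimeCore p H))
    have h2 : Cfsg.PLengthLE p n
        ((H ⧸ Cfsg.pPrimeCore p H) ⧸ Cfsg.pCore p (H ⧸ Cfsg.pPrimeCore p H)) :=
      ih _ hS₂ hab₂ hdrop
    have h1 : Cfsg.PLengthLE p (1 + n) (H ⧸ Cfsg.pPrimeCore p H) := by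
      refine PLengthLE.of_normal_of_quotient (Cfsg.pCore p (H ⧸ Cfsg.pPrimeCore p H)) ?_ h2
      obtain ⟨e, he⟩ := IsPGroup.iff_card.mp
        (pCore_isPGroup (G := H ⧸ Cfsg.pPrimeCore p H) p)
      exact PLengthLE.one_of_card_eq_pow he
    have h0 : Cfsg.PLengthLE p (0 + (1 + n)) H := by
      refine PLengthLE.of_normal_of_quotient (Cfsg.pPrimeCore p H) ?_ h1
      exact PLengthLE.zero_of_coprime (pPrimeCore_coprime p)
    have e : 0 + (1 + n) = n + 1 := by ring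
    rw [e] at h0
    exact h0

/-- Let G be a finite p-soluble group in which, for every prime q ≠ p, the Sylow q-subgroups are abelian. If the Sylow p-subgroups of G have exponent dividing p^n, then G has p-length at most n. -/
theorem result {G : Type*} [Group G] [Finite G] {p : ℕ} [Fact p.Prime] (hG : Cfsg.IsPSolvable p G) (hab : ∀ (q : ℕ) [Fact q.Prime], q ≠ p → ∀ Q : Sylow q G, IsMulCommutative (Q : Subgroup G)) (n : ℕ) (hexp : ∀ (P : Sylow p G), ∀ x ∈ (P : Subgroup G), x ^ p ^ n = 1) : Cfsg.PLengthLE p n G := by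
  exact main p n G hG hab hexp

end Cfsg.Agent.S3783
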