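import Cfsg.Statements.S0055
import Mathlib.Algebra.BigOperators.Group.Finset.Basic
import Mathlib.Algebra.BigOperators.Group.Finset.Lemmas
import Mathlib.GroupTheory.OrderOfElement
import Mathlib.Tactic.Group

set_option autoImplicit false
open Cfsg

namespace Cfsg.Agent.S0055

open scoped commutatorElement

/-- Conjugation by an element of `A` (normalising `V`) as an endomorphism of `V`. -/
def conjHom {G : Type*} [Group G] (A V : Subgroup G)
    (hAV : A ≤ Subgroup.normalizer (V : Set G)) (a : A) : V →* V where
  toFun v := ⟨(a : G) * v * (a : G)⁻¹, (Subgroup.mem_normalizer_iff.mp (hAV a.2) v).mp v.2⟩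
  map_one' := by
    apply Subtype.ext
    simp
  map_mul' x y := by
    apply Subtype.ext
    simp [mul_assoc]

theorem conjHom_coe {G : Type*} [Group G] (A V : Subgroup G)
    (hAV : A ≤ Subgroup.normalizer (V : Set G)) (a : A) (v : V) :
    ((conjHom A V hAV a v : V) : G) = (a : G) * v * (a : G)⁻¹ := rfl

theorem conjHom_mul {G : Type*} [Group G] (A V : Subgroup G)
    (hAV : A ≤ Subgroup.normalizer (V : Set G)) (a b : A) (v : V) :
    conjHom A V hAV (a * b) v = conjHom A V hAV a (conjHom A V hAV b v) := by
  apply Subtype.ext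
  simp [conjHom_coe, mul_assoc]

open scoped IsMulCommutative in
/-- The norm map `v ↦ ∏_{a ∈ A} a v a⁻¹` on the abelian group `V`. -/
noncomputable def normHom {G : Type*} [Group G] [Finite G] (A V : Subgroup G) [IsMulCommutative V]
    (hAV : A ≤ Subgroup.normalizer (V : Set G)) : V →* V :=
  letI : Fintype A := Fintype.ofFinite A
  ∏ a : A, conjHom A V hAV a

open scoped IsMulCommutative in
theorem normHom_apply {G : Type*} [Group G] [Finite G] (A V : Subgroup G) [IsMulCommutative V]
    (hAV : A ≤ Subgroup.normalizer (V : Set G)) (v : V) :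
    normHom A V hAV v = (letI : Fintype A := Fintype.ofFinite A; ∏ a : A, conjHom A V hAV a v) := by
  unfold normHom
  exact MonoidHom.finsetProd_apply _ _ _

open scoped IsMulCommutative in
/-- The norm of a conjugate is the norm. -/
theorem normHom_conj {G : Type*} [Group G] [Finite G] (A V : Subgroup G) [IsMulCommutative V]
    (hAV : A ≤ Subgroup.normalizer (V : Set G)) (b : A) (v : V) :
    normHom A V hAV (conjHom A V hAV b v) = normHom A V hAV v := by
  letI : Fintype A := Fintype.ofFinite A
  rw [normHom_apply, normHom_apply]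
  calc ∏ a : A, conjHom A V hAV a (conjHom A V hAV b v)
      = ∏ a : A, conjHom A V hAV (a * b) v := by
        refine Finset.prod_congr rfl (fun a _ => ?_)
        rw [conjHom_mul]
    _ = ∏ a : A, conjHom A V hAV a v :=
        Fintype.prod_equiv (Equiv.mulRight b) _ _ (fun a => rfl)

open scoped IsMulCommutative in
/-- The norm is fixed by conjugation. -/
theorem conj_normHom {G : Type*} [Group G] [Finite G] (A V : Subgroup G) [IsMulCommutative V]
    (hAV : A ≤ Subgroup.normalizer (V : Set G)) (b : A) (v : V) :
    conjHom A V hAV b (normHom A V hAV v) = normHom A V hAV v := by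
  letI : Fintype A := Fintype.ofFinite A
  rw [normHom_apply, map_prod]
  calc ∏ a : A, conjHom A V hAV b (conjHom A V hAV a v)
      = ∏ a : A, conjHom A V hAV (b * a) v := by
        refine Finset.prod_congr rfl (fun a _ => ?_)
        rw [conjHom_mul]
    _ = ∏ a : A, conjHom A V hAV a v :=
        Fintype.prod_equiv (Equiv.mulLeft b) _ _ (fun a => rfl)

open scoped IsMulCommutative in
/-- On fixed points the norm is the `|A|`-th power. -/
theorem normHom_of_fixed {G : Type*} [Group G] [Finite G] (A V : Subgroup G) [IsMulCommutative V]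
    (hAV : A ≤ Subgroup.normalizer (V : Set G)) (v : V)
    (hv : (v : G) ∈ Subgroup.centralizer (A : Set G)) :
    normHom A V hAV v = v ^ Nat.card A := by
  letI : Fintype A := Fintype.ofFinite A
  rw [normHom_apply]
  have : ∀ a : A, conjHom A V hAV a v = v := by
    intro a
    apply Subtype.ext
    rw [conjHom_coe]
    have := Subgroup.mem_centralizer_iff.mp hv a a.2
    rw [this, mul_inv_cancel_right]
  rw [Finset.prod_congr rfl (fun a _ => this a), Finset.prod_const, Finset.card_univ,
    Nat.card_eq_fintype_card]

theorem commutator_le_of_le_normalizer {G : Type*} [Group G] (A V : Subgroup G)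
    (hAV : A ≤ Subgroup.normalizer (V : Set G)) : ⁅V, A⁆ ≤ V := by
  rw [Subgroup.commutator_le]
  intro v hv a ha
  have h1 : a * v⁻¹ * a⁻¹ ∈ V := (Subgroup.mem_normalizer_iff.mp (hAV ha) v⁻¹).mp (V.inv_mem hv)
  have h2 : ⁅v, a⁆ = v * (a * v⁻¹ * a⁻¹) := by rw [commutatorElement_def]; group
  rw [h2]
  exact V.mul_mem hv h1

open scoped IsMulCommutative in
/-- The norm kills `⁅V, A⁆`. -/
theorem commutator_le_ker {G : Type*} [Group G] [Finite G] (A V : Subgroup G) [IsMulCommutative V]
    (hAV : A ≤ Subgroup.normalizer (V : Set G)) :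
    ⁅V, A⁆ ≤ (normHom A V hAV).ker.map V.subtype := by
  rw [Subgroup.commutator_le]
  intro v hv a ha
  refine ⟨⟨v, hv⟩ * (conjHom A V hAV ⟨a, ha⟩ ⟨v, hv⟩)⁻¹, ?_, ?_⟩
  · change _ ∈ (normHom A V hAV).ker
    rw [MonoidHom.mem_ker, map_mul, map_inv, normHom_conj, mul_inv_cancel]
  · simp only [Subgroup.coe_subtype, Subgroup.coe_mul, Subgroup.coe_inv, conjHom_coe]
    rw [commutatorElement_def]; group

open scoped IsMulCommutative in
/-- If A normalises an abelian subgroup V of coprime order, then V is the internal direct product of its A-fixed points and its commutator with A: the two meet trivially and generate V. -/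
theorem result {G : Type*} [Group G] [Finite G] (A V : Subgroup G) [IsMulCommutative V]
    (hAV : A ≤ Subgroup.normalizer (V : Set G)) (hcop : (Nat.card A).Coprime (Nat.card V)) :
    (V ⊓ Subgroup.centralizer (A : Set G)) ⊓ ⁅V, A⁆ = ⊥ ∧ (V ⊓ Subgroup.centralizer (A : Set G)) ⊔ ⁅V, A⁆ = V := by
  classical
  letI : Fintype A := Fintype.ofFinite A
  have hcomm_le := commutator_le_of_le_normalizer A V hAV
  constructor
  · rw [eq_bot_iff]
    rintro x ⟨⟨hxV, hxC⟩, hxcomm⟩
    rw [Subgroup.mem_bot]
    obtain ⟨y, hy, hyx⟩ := commutator_le_ker A V hAV hxcomm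
    have hyx' : (y : G) = x := hyx
    have hyC : (y : G) ∈ Subgroup.centralizer (A : Set G) := by rw [hyx']; exact hxC
    have h1 : y ^ Nat.card A = 1 := by
      rw [← normHom_of_fixed A V hAV y hyC]
      exact hy
    have h2 : y ^ Nat.card V = 1 := pow_card_eq_one'
    have h3 : orderOf y ∣ Nat.gcd (Nat.card A) (Nat.card V) :=
      Nat.dvd_gcd (orderOf_dvd_of_pow_eq_one h1) (orderOf_dvd_of_pow_eq_one h2)
    rw [hcop.gcd_eq_one, Nat.dvd_one, orderOf_eq_one_iff] at h3
    rw [← hyx', h3]
    rfl
  · apply le_antisymm
    · exact sup_le inf_le_left hcomm_le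
    · intro v hv
      set w : V := ⟨v, hv⟩ with hw
      -- w ^ |A| = norm(w) * ∏ (w * (a • w)⁻¹)
      have hprod : w ^ Nat.card A =
          normHom A V hAV w * ∏ a : A, (w * (conjHom A V hAV a w)⁻¹) := by
        rw [Finset.prod_mul_distrib, Finset.prod_inv_distrib, ← normHom_apply, Finset.prod_const,
          Finset.card_univ, Nat.card_eq_fintype_card, mul_comm, mul_assoc, inv_mul_cancel, mul_one]
      have hmem : ((w ^ Nat.card A : V) : G) ∈ (V ⊓ Subgroup.centralizer (A : Set G)) ⊔ ⁅V, A⁆ := by
        rw [hprod, Subgroup.coe_mul]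
        apply Subgroup.mul_mem_sup
        · refine ⟨(normHom A V hAV w).2, ?_⟩
          change ((normHom A V hAV w : V) : G) ∈ Subgroup.centralizer (A : Set G)
          rw [Subgroup.mem_centralizer_iff]
          intro a ha
          have := congrArg Subtype.val (conj_normHom A V hAV ⟨a, ha⟩ w)
          rw [conjHom_coe] at this
          have h2 := congrArg (fun t => t * a) this
          simpa [mul_assoc] using h2
        · have : ∀ s : Finset A, ((∏ a ∈ s, (w * (conjHom A V hAV a w)⁻¹) : V) : G) ∈ ⁅V, A⁆ := by
            intro s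
            induction s using Finset.induction_on with
            | empty => simp
            | insert a s ha ih =>
              rw [Finset.prod_insert ha, Subgroup.coe_mul]
              refine Subgroup.mul_mem _ ?_ ih
              have h3 : ((w * (conjHom A V hAV a w)⁻¹ : V) : G) = ⁅v, (a : G)⁆ := by
                simp only [Subgroup.coe_mul, Subgroup.coe_inv, conjHom_coe, hw]
                rw [commutatorElement_def]; group
              rw [h3]
              exact Subgroup.commutator_mem_commutator hv a.2
          exact this Finset.univ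
      have hpow : (powCoprime hcop.symm).symm (w ^ Nat.card A) = w := by
        rw [Equiv.symm_apply_eq]
        rfl
      have hv' : v = ((w ^ Nat.card A : V) : G) ^ ((Nat.card V).gcdB (Nat.card A)) := by
        have h4 := congrArg Subtype.val hpow
        simp only [powCoprime_symm_apply, Subgroup.coe_zpow] at h4
        rw [h4]
      rw [hv']
      exact Subgroup.zpow_mem _ hmem _

end Cfsg.Agent.S0055
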