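import Cfsg.Statements.S0039
-- import your own Cfsg.Agent.* helpers here

set_option autoImplicit false
open Cfsg

namespace Cfsg.Agent.S0039

open scoped Pointwise in
theorem mem_conj_smul {G : Type*} [Group G] (H : Subgroup G) (g x : G) :
    x ∈ MulAut.conj g • H ↔ g⁻¹ * x * g ∈ H := by
  rw [Subgroup.mem_pointwise_smul_iff_inv_smul_mem]
  simp [MulAut.smul_def]

/-- In a finite group that is a semidirect product of a normal subgroup K by a nontrivial subgroup H, H is a Frobenius complement exactly when each nonidentity element of H acts without nonidentity fixed points on K by conjugation. -/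
theorem result {G : Type*} [Group G] [Finite G] (K H : Subgroup G) [K.Normal]
    (hc : Subgroup.IsComplement' K H) (hK : K ≠ ⊥) (hH : H ≠ ⊥) :
    Cfsg.IsFrobeniusComplement H ↔ ∀ h ∈ H, h ≠ 1 → K ⊓ Subgroup.centralizer {h} = ⊥ := by
  have hdisj : ∀ x : G, x ∈ K → x ∈ H → x = 1 := by
    intro x hxK hxH
    have := hc.disjoint
    rw [Subgroup.disjoint_def] at this
    exact this hxK hxH
  constructor
  · rintro ⟨-, -, hF⟩ h hh hne
    rw [Subgroup.eq_bot_iff_forall]
    intro k hk
    obtain ⟨hkK, hkC⟩ := Subgroup.mem_inf.mp hk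
    by_contra hk1
    have hkH : k ∉ H := fun hkH => hk1 (hdisj k hkK hkH)
    have h1 := hF k hkH
    have h2 : h ∈ H ⊓ (open scoped Pointwise in MulAut.conj k • H) := by
      refine Subgroup.mem_inf.mpr ⟨hh, ?_⟩
      rw [mem_conj_smul]
      have : h * k = k * h := Subgroup.mem_centralizer_iff.mp hkC h (Set.mem_singleton h)
      have : k⁻¹ * h * k = h := by rw [mul_assoc, this]; group
      rw [this]; exact hh
    rw [h1] at h2
    exact hne (Subgroup.mem_bot.mp h2)
  · intro hfix
    refine ⟨hH, ?_, ?_⟩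
    · intro htop
      apply hK
      rw [Subgroup.eq_bot_iff_forall]
      intro x hx
      exact hdisj x hx (by rw [htop]; exact Subgroup.mem_top x)
    · intro g hg
      rw [Subgroup.eq_bot_iff_forall]
      intro x hx
      obtain ⟨hxH, hxc⟩ := Subgroup.mem_inf.mp hx
      rw [mem_conj_smul] at hxc
      obtain ⟨⟨k, h'⟩, hkh⟩ := hc.2 g
      have hkh' : (k : G) * (h' : G) = g := hkh
      -- y = k⁻¹ x k ∈ H
      have hy : (k : G)⁻¹ * x * k ∈ H := by
        have : (k : G)⁻¹ * x * k = h' * (g⁻¹ * x * g) * (h' : G)⁻¹ := by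
          rw [← hkh']; group
        rw [this]
        exact H.mul_mem (H.mul_mem h'.2 hxc) (H.inv_mem h'.2)
      -- x⁻¹ * (k⁻¹ x k) ∈ K ∩ H
      have h1 : x⁻¹ * ((k : G)⁻¹ * x * k) ∈ K := by
        have : x⁻¹ * ((k : G)⁻¹ * x * k) = (x⁻¹ * (k : G)⁻¹ * x⁻¹⁻¹) * k := by group
        rw [this]
        exact K.mul_mem (Subgroup.Normal.conj_mem inferInstance _ (K.inv_mem k.2) _) k.2
      have h2 : x⁻¹ * ((k : G)⁻¹ * x * k) ∈ H := H.mul_mem (H.inv_mem hxH) hy
      have h3 := hdisj _ h1 h2
      by_contra hx1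
      have h4 := hfix x hxH hx1
      have h5 : (k : G) ∈ K ⊓ Subgroup.centralizer {x} := by
        refine Subgroup.mem_inf.mpr ⟨k.2, ?_⟩
        refine Subgroup.mem_centralizer_iff.mpr ?_
        intro z hz
        rw [Set.mem_singleton_iff] at hz
        subst hz
        have : (k : G)⁻¹ * z * k = z := by
          have := inv_mul_eq_one.mp h3
          exact this.symm
        calc z * (k : G) = (k : G) * ((k : G)⁻¹ * z * k) := by group
          _ = k * z := by rw [this]
      rw [h4] at h5
      have hk1 : (k : G) = 1 := Subgroup.mem_bot.mp h5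
      apply hg
      rw [← hkh', hk1, one_mul]
      exact h'.2

end Cfsg.Agent.S0039
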