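import Cfsg.Statements.S0068
import Mathlib.GroupTheory.Perm.Cycle.Type
import Mathlib.Tactic.Group

set_option autoImplicit false
open Cfsg

namespace Cfsg.Agent.S0068

/-- An involution acting on a finite normal subgroup `K` without nontrivial fixed points inverts it. -/
theorem inverts {G : Type*} [Group G] [Finite G] (K : Subgroup G) [K.Normal] (s : G)
    (hs2 : s * s = 1) (hfix : K ⊓ Subgroup.centralizer {s} = ⊥) :
    ∀ k ∈ K, s * k * s⁻¹ = k⁻¹ := by
  have hsinv : s⁻¹ = s := inv_eq_of_mul_eq_one_left hs2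
  let f : K → K := fun k =>
    ⟨(k : G)⁻¹ * (s * k * s⁻¹), K.mul_mem (K.inv_mem k.2) (Subgroup.Normal.conj_mem inferInstance _ k.2 s)⟩
  have hinj : Function.Injective f := by
    intro k l hkl
    have h1 : (k : G)⁻¹ * (s * k * s⁻¹) = (l : G)⁻¹ * (s * l * s⁻¹) := congrArg Subtype.val hkl
    have h2 : (l : G) * (k : G)⁻¹ ∈ K ⊓ Subgroup.centralizer {s} := by
      refine ⟨K.mul_mem l.2 (K.inv_mem k.2), ?_⟩
      change (l : G) * (k : G)⁻¹ ∈ Subgroup.centralizer {s}
      rw [Subgroup.mem_centralizer_iff]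
      intro t ht
      rw [Set.mem_singleton_iff] at ht
      subst ht
      have h3 : (l : G) * ((k : G)⁻¹ * (t * k * t⁻¹)) * t * (k : G)⁻¹
          = (l : G) * ((l : G)⁻¹ * (t * l * t⁻¹)) * t * (k : G)⁻¹ := by rw [h1]
      have e1 : (l : G) * ((k : G)⁻¹ * (t * k * t⁻¹)) * t * (k : G)⁻¹ = l * (k : G)⁻¹ * t := by group
      have e2 : (l : G) * ((l : G)⁻¹ * (t * l * t⁻¹)) * t * (k : G)⁻¹ = t * (l * (k : G)⁻¹) := by group
      rw [e1, e2] at h3
      exact h3.symm
    rw [hfix, Subgroup.mem_bot] at h2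
    apply Subtype.ext
    have := congrArg (fun x => x * (k : G)) h2
    simpa using this.symm
  have hsurj : Function.Surjective f := Finite.injective_iff_surjective.mp hinj
  intro k hk
  obtain ⟨m, hm⟩ := hsurj ⟨k, hk⟩
  have hm' : (m : G)⁻¹ * (s * m * s⁻¹) = k := congrArg Subtype.val hm
  rw [← hm']
  have e : s * ((m : G)⁻¹ * (s * m * s⁻¹)) * s⁻¹ = (s * (m : G)⁻¹ * s⁻¹) * ((s * s) * m * (s * s)⁻¹) := by
    group
  rw [e, hs2]
  group

/-- Frobenius complements of even order: if H complements a nontrivial normal subgroup K, each nonidentity element of H has trivial centraliser in K, and H has even order, then H contains a unique involution s, K is abelian, and s inverts every element of K. -/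
theorem result {G : Type*} [Group G] [Finite G] (K H : Subgroup G) [K.Normal]
    (hc : Subgroup.IsComplement' K H) (hK : K ≠ ⊥) (hfpf : ∀ h ∈ H, h ≠ 1 → K ⊓ Subgroup.centralizer {h} = ⊥)
    (heven : 2 ∣ Nat.card H) :
    (∃ s ∈ H, orderOf s = 2 ∧ (∀ t ∈ H, orderOf t = 2 → t = s) ∧ ∀ k ∈ K, s * k * s⁻¹ = k⁻¹) ∧ IsMulCommutative K := by
  haveI : Fact (Nat.Prime 2) := ⟨Nat.prime_two⟩
  obtain ⟨s', hs'⟩ := exists_prime_orderOf_dvd_card' 2 heven
  set s : G := (s' : G) with hsdef
  have hsH : s ∈ H := s'.2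
  have hso : orderOf s = 2 := by rw [hsdef, Subgroup.orderOf_coe]; exact hs'
  have hinv : ∀ t ∈ H, orderOf t = 2 → ∀ k ∈ K, t * k * t⁻¹ = k⁻¹ := by
    intro t ht hto
    have ht2 : t * t = 1 := by
      have := pow_orderOf_eq_one t
      rw [hto, pow_two] at this
      exact this
    have ht1 : t ≠ 1 := by
      rintro rfl
      rw [orderOf_one] at hto
      omega
    exact inverts K t ht2 (hfpf t ht ht1)
  have hs_inv := hinv s hsH hso
  refine ⟨⟨s, hsH, hso, ?_, hs_inv⟩, ?_⟩
  · intro t ht hto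
    have ht_inv := hinv t ht hto
    have hs2 : s * s = 1 := by
      have := pow_orderOf_eq_one s
      rw [hso, pow_two] at this
      exact this
    by_contra hts
    have hne : t * s ≠ 1 := by
      intro h
      apply hts
      have : t = s⁻¹ := eq_inv_of_mul_eq_one_left h
      rw [this]
      exact inv_eq_of_mul_eq_one_left hs2
    have hbot := hfpf (t * s) (H.mul_mem ht hsH) hne
    apply hK
    rw [eq_bot_iff, ← hbot]
    intro k hk
    refine ⟨hk, ?_⟩
    change k ∈ Subgroup.centralizer {t * s}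
    rw [Subgroup.mem_centralizer_iff]
    intro u hu
    rw [Set.mem_singleton_iff] at hu
    subst hu
    have h1 : s * k * s⁻¹ = k⁻¹ := hs_inv k hk
    have h2 : t * k⁻¹ * t⁻¹ = k⁻¹⁻¹ := ht_inv k⁻¹ (K.inv_mem hk)
    have h3 : (t * s) * k * (t * s)⁻¹ = k := by
      calc (t * s) * k * (t * s)⁻¹ = t * (s * k * s⁻¹) * t⁻¹ := by group
        _ = k := by rw [h1, h2, inv_inv]
    have := congrArg (fun x => x * (t * s)) h3
    simpa [mul_assoc] using this
  · refine ⟨⟨fun k l => ?_⟩⟩
    apply Subtype.ext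
    rw [Subgroup.coe_mul, Subgroup.coe_mul]
    have h1 := hs_inv k k.2
    have h2 := hs_inv l l.2
    have h3 := hs_inv (k * l) (K.mul_mem k.2 l.2)
    have h4 : s * ((k : G) * l) * s⁻¹ = (s * k * s⁻¹) * (s * l * s⁻¹) := by group
    rw [h4, h1, h2] at h3
    have h5 : ((k : G)⁻¹ * (l : G)⁻¹)⁻¹ = (((k : G) * l)⁻¹)⁻¹ := congrArg Inv.inv h3
    rw [inv_inv, mul_inv_rev, inv_inv, inv_inv] at h5
    exact h5.symm

end Cfsg.Agent.S0068
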