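import Cfsg.Statements.S0666
import Cfsg.Agent.Lib.helper84.Frobenius
import Cfsg.Agent.Lib.helper15.FrobAct

set_option autoImplicit false
open Cfsg

namespace Cfsg.Agent.S0666

open scoped Pointwise

/-- A Frobenius group acting on a nontrivial abelian group of order prime to that of its kernel, with the kernel acting without nontrivial fixed points, has a complement with a nontrivial fixed point. -/
theorem result {G : Type*} [Group G] [Finite G] (V F : Subgroup G) (hVab : IsMulCommutative V) (hV1 : V ≠ ⊥) (hFV : F ≤ Subgroup.normalizer (V : Set G)) (H : Subgroup ↥F) (hH : Cfsg.IsFrobeniusComplement H) (hcop : (Nat.card V).Coprime (Nat.card (Cfsg.frobeniusKernel H))) (hCK : V ⊓ Subgroup.centralizer (Subtype.val '' Cfsg.frobeniusKernel H : Set G) = ⊥) : V ⊓ Subgroup.centralizer ((H.map F.subtype : Subgroup G) : Set G) ≠ ⊥ := by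
  classical
  intro hCH
  obtain ⟨N, hNset, hNn, hNc⟩ := Cfsg.Agent.Lib.helper84.frobenius_kernel H hH
  let _ : CommGroup V :=
    { (inferInstance : Group V) with mul_comm := isMulCommutative_iff.mp hVab }
  have hnorm : ∀ f : F, ∀ v : G, v ∈ V → (f : G) * v * (f : G)⁻¹ ∈ V := by
    intro f v hv
    exact (Subgroup.mem_normalizer_iff.mp (hFV f.2) v).mp hv
  let φ : F →* MulAut V :=
    { toFun := fun f =>
        { toFun := fun v => ⟨(f : G) * v * (f : G)⁻¹, hnorm f v v.2⟩
          invFun := fun v => ⟨(f : G)⁻¹ * v * (f : G), by simpa using hnorm f⁻¹ v v.2⟩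
          left_inv := fun v => by
            apply Subtype.ext
            simp [mul_assoc]
          right_inv := fun v => by
            apply Subtype.ext
            simp [mul_assoc]
          map_mul' := fun v w => by
            apply Subtype.ext
            simp [mul_assoc] }
      map_one' := by
        ext v
        simp
      map_mul' := fun f g => by
        ext v
        simp [mul_assoc] }
  have hφ : ∀ (f : F) (v : V), ((φ f v : V) : G) = (f : G) * v * (f : G)⁻¹ := fun f v => rfl
  have hcov : ∀ f : F, f ∉ N → ∃ g : F, f ∈ MulAut.conj g • H := by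
    intro f hf
    have hf' : f ∉ Cfsg.frobeniusKernel H := by
      rw [← hNset]
      exact hf
    by_contra hno
    push Not at hno
    exact hf' (Or.inr hno)
  have hfixN : ∀ m : V, (∀ n ∈ N, φ n m = m) → m = 1 := by
    intro m hm
    have hmem : (m : G) ∈ V ⊓ Subgroup.centralizer (Subtype.val '' Cfsg.frobeniusKernel H : Set G) := by
      refine Subgroup.mem_inf.mpr ⟨m.2, ?_⟩
      rw [Subgroup.mem_centralizer_iff]
      rintro y ⟨n, hn, rfl⟩
      have hnN : n ∈ N := by
        have : n ∈ (N : Set F) := by
          rw [hNset]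
          exact hn
        exact this
      have h1 := congrArg Subtype.val (hm n hnN)
      rw [hφ] at h1
      have h2 := congrArg (fun x => x * (n : G)) h1
      simpa [mul_assoc] using h2
    rw [hCK, Subgroup.mem_bot] at hmem
    exact Subtype.ext hmem
  have hfixH : ∀ m : V, (∀ h ∈ H, φ h m = m) → m = 1 := by
    intro m hm
    have hmem : (m : G) ∈ V ⊓ Subgroup.centralizer ((H.map F.subtype : Subgroup G) : Set G) := by
      refine Subgroup.mem_inf.mpr ⟨m.2, ?_⟩
      rw [Subgroup.mem_centralizer_iff]
      rintro y ⟨h, hh, rfl⟩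
      have h1 := congrArg Subtype.val (hm h hh)
      rw [hφ] at h1
      have h2 := congrArg (fun x => x * (h : G)) h1
      simpa [mul_assoc] using h2
    rw [hCH, Subgroup.mem_bot] at hmem
    exact Subtype.ext hmem
  have key := Cfsg.Agent.Lib.helper15.FrobAct.pow_card_kernel_eq_one H N hNc hH.2.2 hcov φ hfixN hfixH
  have hcop' : (Nat.card V).Coprime (Nat.card N) := by
    rw [← hNset] at hcop
    exact hcop
  apply hV1
  rw [eq_bot_iff]
  intro v hv
  rw [Subgroup.mem_bot]
  have h1 : orderOf (⟨v, hv⟩ : V) ∣ Nat.card N := orderOf_dvd_of_pow_eq_one (key ⟨v, hv⟩)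
  have h2 : orderOf (⟨v, hv⟩ : V) ∣ Nat.card V := orderOf_dvd_natCard _
  have h3 : orderOf (⟨v, hv⟩ : V) = 1 := Nat.eq_one_of_dvd_coprimes hcop' h2 h1
  have h4 : (⟨v, hv⟩ : V) = 1 := orderOf_eq_one_iff.mp h3
  exact congrArg Subtype.val h4

end Cfsg.Agent.S0666
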