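import Mathlib
import Cfsg.Statements.S4702
import Cfsg.Agent.Lib.helper16.Sharp3

set_option autoImplicit false
open Cfsg

namespace Cfsg.Agent.S4702

/-- Let G be a triply transitive permutation group on a finite set of odd size m ≥ 3 in which only the identity fixes three or more points. Then m = 2^a + 1 for some a ≥ 1 and G is isomorphic to SL(2, 2^a). -/
theorem result {α : Type*} [Fintype α] [DecidableEq α] (hm : 3 ≤ Fintype.card α) (hodd : Odd (Fintype.card α)) (G : Subgroup (Equiv.Perm α)) (h3 : MulAction.IsMultiplyPretransitive G α 3) (hfix : ∀ g : G, 3 ≤ Nat.card (MulAction.fixedBy α g) → g = 1) : ∃ a : ℕ, 1 ≤ a ∧ Fintype.card α = 2 ^ a + 1 ∧ ∃ (F : Type) (_ : Field F) (_ : Fintype F), Fintype.card F = 2 ^ a ∧ Nonempty (G ≃* Matrix.SpecialLinearGroup (Fin 2) F) := by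
  classical
  have inj3 : ∀ (p0 p1 p2 : α), p0 ≠ p1 → p0 ≠ p2 → p1 ≠ p2 →
      Function.Injective ![p0, p1, p2] := by
    intro p0 p1 p2 h01 h02 h12 i j hij
    fin_cases i <;> fin_cases j <;> simp_all
  have move3 : ∀ (p0 p1 p2 q0 q1 q2 : α), p0 ≠ p1 → p0 ≠ p2 → p1 ≠ p2 → q0 ≠ q1 → q0 ≠ q2 →
      q1 ≠ q2 → ∃ k : G, k • p0 = q0 ∧ k • p1 = q1 ∧ k • p2 = q2 := by
    intro p0 p1 p2 q0 q1 q2 hp01 hp02 hp12 hq01 hq02 hq12
    obtain ⟨k, hk⟩ := h3.exists_smul_eq ⟨![p0, p1, p2], inj3 p0 p1 p2 hp01 hp02 hp12⟩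
      ⟨![q0, q1, q2], inj3 q0 q1 q2 hq01 hq02 hq12⟩
    refine ⟨k, ?_, ?_, ?_⟩
    · exact congrArg (fun e : Fin 3 ↪ α => e 0) hk
    · exact congrArg (fun e : Fin 3 ↪ α => e 1) hk
    · exact congrArg (fun e : Fin 3 ↪ α => e 2) hk
  have fix3 : ∀ (g : G) (p0 p1 p2 : α), p0 ≠ p1 → p0 ≠ p2 → p1 ≠ p2 →
      g • p0 = p0 → g • p1 = p1 → g • p2 = p2 → g = 1 := by
    intro g p0 p1 p2 h01 h02 h12 f0 f1 f2
    apply hfix
    rw [Nat.card_coe_set_eq]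
    have hsub : ({p0, p1, p2} : Set α) ⊆ MulAction.fixedBy α g := by
      intro z hz
      rcases hz with rfl | rfl | rfl
      · exact f0
      · exact f1
      · exact f2
    have h3c : ({p0, p1, p2} : Set α).ncard = 3 :=
      Set.ncard_eq_three.mpr ⟨p0, p1, p2, h01, h02, h12, rfl⟩
    rw [← h3c]
    exact Set.ncard_le_ncard hsub (Set.toFinite _)
  obtain ⟨F, fF, ftF, hcard, hchar, ⟨iso⟩⟩ :=
    Cfsg.Agent.Lib.helper16.sharp3_odd_iso (G := G) move3 fix3 hodd hm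
  obtain ⟨n, -, hn⟩ := FiniteField.card F 2
  obtain ⟨iso2⟩ := Cfsg.Agent.Lib.helper16.sl2_mulEquiv_pgl2 F
  refine ⟨n, n.pos, by omega, F, fF, ftF, hn, ⟨iso.trans iso2.symm⟩⟩

end Cfsg.Agent.S4702
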