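import Cfsg.Statements.S0077
import Cfsg.Agent.Lib.helper2.SylowExtra

set_option autoImplicit false
open Cfsg

namespace Cfsg.Agent.S0077

open Cfsg.Agent.Lib.helper2

open scoped commutatorElement in
/-- If a subgroup Z of the centre of a Sylow p-subgroup P is weakly closed in P, then P meets the derived subgroup of G exactly where it meets the derived subgroup of the normalizer of Z. -/
theorem result {G : Type*} [Group G] [Finite G] {p : ℕ} [Fact p.Prime] (P : Sylow p G) (Z : Subgroup G) (hZ : Z ≤ Subgroup.centralizer (P : Set G)) (hW : Cfsg.IsWeaklyClosed Z P) : commutator G ⊓ (P : Subgroup G) = ⁅Subgroup.normalizer (Z : Set G), Subgroup.normalizer (Z : Set G)⁆ ⊓ (P : Subgroup G) := by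
  obtain ⟨hZP, hclosed⟩ := hW
  apply le_antisymm
  · rw [Subgroup.commutator_inf_eq_focalSubgroup, Subgroup.focalSubgroup_def, Subgroup.closure_le]
    rintro g ⟨hgP, x, hxP, u, rfl⟩
    refine ⟨?_, hgP⟩
    -- y = u x u⁻¹ ∈ P
    have hy : u * x * u⁻¹ ∈ (P : Subgroup G) := by
      have h1 : x⁻¹ * ⁅x, u⁆ ∈ (P : Subgroup G) := Subgroup.mul_mem _ (Subgroup.inv_mem _ hxP) hgP
      have h2 : x⁻¹ * ⁅x, u⁆ = (u * x * u⁻¹)⁻¹ := by
        rw [commutatorElement_def]; group
      rw [h2] at h1
      simpa using Subgroup.inv_mem _ h1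
    set y := u * x * u⁻¹ with hydef
    -- Z and Z^u lie in the centraliser of y
    have hA : Z ≤ Subgroup.centralizer {y} := by
      intro z hz
      rw [Subgroup.mem_centralizer_iff]
      intro w hw
      rw [Set.mem_singleton_iff] at hw
      subst hw
      exact Subgroup.mem_centralizer_iff.mp (hZ hz) _ hy
    have hB : Z.map (MulAut.conj u).toMonoidHom ≤ Subgroup.centralizer {y} := by
      rintro _ ⟨z, hz, rfl⟩
      rw [Subgroup.mem_centralizer_iff]
      intro w hw
      rw [Set.mem_singleton_iff] at hw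
      subst hw
      have hxz : x * z = z * x := Subgroup.mem_centralizer_iff.mp (hZ hz) x hxP
      simp only [MulEquiv.coe_toMonoidHom, MulAut.conj_apply, hydef]
      calc u * x * u⁻¹ * (u * z * u⁻¹) = u * (x * z) * u⁻¹ := by group
        _ = u * (z * x) * u⁻¹ := by rw [hxz]
        _ = u * z * u⁻¹ * (u * x * u⁻¹) := by group
    have hpZ : IsPGroup p Z := P.2.to_le hZP
    obtain ⟨c, hc, v, hv1, hv2⟩ := exists_conj_mem_sylow P (Subgroup.centralizer {y}) Z
      (Z.map (MulAut.conj u).toMonoidHom) hA hB hpZ (hpZ.map _)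
    -- v⁻¹ normalises Z
    have hn1 : v⁻¹ ∈ Subgroup.normalizer (Z : Set G) := by
      apply mem_normalizer_of_map_conj_eq
      apply hclosed
      rintro _ ⟨z, hz, rfl⟩
      simpa using hv1 z hz
    have hn2 : v⁻¹ * c * u ∈ Subgroup.normalizer (Z : Set G) := by
      apply mem_normalizer_of_map_conj_eq
      apply hclosed
      rintro _ ⟨z, hz, rfl⟩
      have := hv2 (u * z * u⁻¹) ⟨z, hz, by simp⟩
      have h3 : (MulAut.conj (v⁻¹ * c * u)).toMonoidHom z = v⁻¹ * (c * (u * z * u⁻¹) * c⁻¹) * v := by
        simp [mul_assoc]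
      rw [h3]
      exact this
    have hn : c * u ∈ Subgroup.normalizer (Z : Set G) := by
      have := Subgroup.mul_mem _ (Subgroup.inv_mem _ hn1) hn2
      simpa [mul_assoc] using this
    have hcy : c * y * c⁻¹ = y := by
      have := Subgroup.mem_centralizer_iff.mp hc y (Set.mem_singleton y)
      rw [← this, mul_inv_cancel_right]
    have hxn : x ∈ Subgroup.normalizer (Z : Set G) := by
      have hxc : x ∈ Subgroup.centralizer (Z : Set G) := by
        rw [Subgroup.mem_centralizer_iff]
        intro z hz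
        exact (Subgroup.mem_centralizer_iff.mp (hZ hz) x hxP).symm
      exact Subgroup.centralizer_le_normalizer _ hxc
    have h3 : ⁅x, u⁆ = ⁅x, c * u⁆ := by
      rw [commutatorElement_def, commutatorElement_def]
      calc x * u * x⁻¹ * u⁻¹ = x * (u * x * u⁻¹)⁻¹ := by group
        _ = x * (c * y * c⁻¹)⁻¹ := by rw [hcy]
        _ = x * (c * u) * x⁻¹ * (c * u)⁻¹ := by rw [hydef]; group
    rw [h3]
    exact Subgroup.commutator_mem_commutator hxn hn
  · refine inf_le_inf_right _ ?_
    rw [commutator_def]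
    exact Subgroup.commutator_mono le_top le_top

end Cfsg.Agent.S0077
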