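import Cfsg.Statements.S4106

set_option autoImplicit false
open Cfsg

namespace Cfsg.Agent.S4106

universe u

lemma orderOf_conj' {G : Type*} [Group G] (g x : G) : orderOf (g * x * g⁻¹) = orderOf x := by
  have := orderOf_injective (MulAut.conj g).toMonoidHom (MulAut.conj g).injective x
  simpa [MulAut.conj_apply] using this

/-- every `p`-element lies in a conjugate of a given Sylow `p`-subgroup -/
lemma exists_conj_mem_sylow {G : Type*} [Group G] [Finite G] {p : ℕ} [Fact p.Prime] (P : Sylow p G)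
    (u : G) (hu : ∃ k : ℕ, orderOf u = p ^ k) : ∃ g y : G, y ∈ P ∧ g * y * g⁻¹ = u := by
  obtain ⟨k, hk⟩ := hu
  have hZ : IsPGroup p (Subgroup.zpowers u) := by
    apply IsPGroup.of_card (n := k)
    rw [Nat.card_zpowers, hk]
  obtain ⟨Q, hQ⟩ := hZ.exists_le_sylow
  obtain ⟨g, hg⟩ := MulAction.exists_smul_eq G P Q
  have h1 : u ∈ (Q : Subgroup G) := hQ (Subgroup.mem_zpowers u)
  rw [← hg, Sylow.coe_subgroup_smul, Subgroup.mem_pointwise_smul_iff_inv_smul_mem] at h1
  have h2 : g⁻¹ * u * g ∈ (P : Subgroup G) := by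
    simpa [MulAut.smul_def, MulAut.conj_apply] using h1
  exact ⟨g, g⁻¹ * u * g, h2, by group⟩

/-- decomposition of an element into its `p'`-part and `p`-part -/
lemma exists_decomp {G : Type*} [Group G] [Finite G] (p : ℕ) (hp : p.Prime) (g : G) :
    ∃ w u : G, g = w * u ∧ w * u = u * w ∧ (∃ k : ℕ, orderOf u = p ^ k) ∧
      orderOf w ∣ orderOf g ∧ ¬ p ∣ orderOf w := by
  have hn : orderOf g ≠ 0 := (orderOf_pos g).ne'
  obtain ⟨a, r, hr, hnr⟩ := Nat.exists_eq_pow_mul_and_not_dvd hn p hp.ne_one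
  have hcop : Nat.Coprime (p ^ a) r :=
    Nat.Coprime.pow_left a ((Nat.Prime.coprime_iff_not_dvd hp).mpr hr)
  have hb := Nat.gcd_eq_gcd_ab (p ^ a) r
  rw [hcop] at hb
  refine ⟨(g ^ (p ^ a)) ^ (Nat.gcdA (p ^ a) r), (g ^ r) ^ (Nat.gcdB (p ^ a) r), ?_, ?_, ?_, ?_, ?_⟩
  · calc g = g ^ (1 : ℤ) := (zpow_one g).symm
      _ = g ^ (((p ^ a : ℕ) : ℤ) * (Nat.gcdA (p ^ a) r) + (r : ℤ) * (Nat.gcdB (p ^ a) r)) := by
          rw [← hb]; simp
      _ = _ := by rw [zpow_add, zpow_mul, zpow_mul, zpow_natCast, zpow_natCast]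
  · exact (((Commute.refl g).pow_pow _ _).zpow_zpow _ _).eq
  · have h1 : ((g ^ r) ^ (Nat.gcdB (p ^ a) r)) ^ (p ^ a) = 1 := by
      rw [← zpow_natCast, ← zpow_mul, mul_comm, zpow_mul, zpow_natCast, ← pow_mul, mul_comm,
        ← hnr, pow_orderOf_eq_one, one_zpow]
    obtain ⟨k, _, hk⟩ := (Nat.dvd_prime_pow hp).mp (orderOf_dvd_of_pow_eq_one h1)
    exact ⟨k, hk⟩
  · have h1 : ((g ^ (p ^ a)) ^ (Nat.gcdA (p ^ a) r)) ^ r = 1 := by
      rw [← zpow_natCast, ← zpow_mul, mul_comm, zpow_mul, zpow_natCast, ← pow_mul,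
        ← hnr, pow_orderOf_eq_one, one_zpow]
    exact (orderOf_dvd_of_pow_eq_one h1).trans (Dvd.intro_left _ hnr.symm)
  · have h1 : ((g ^ (p ^ a)) ^ (Nat.gcdA (p ^ a) r)) ^ r = 1 := by
      rw [← zpow_natCast, ← zpow_mul, mul_comm, zpow_mul, zpow_natCast, ← pow_mul,
        ← hnr, pow_orderOf_eq_one, one_zpow]
    intro hdiv
    exact hr (hdiv.trans (orderOf_dvd_of_pow_eq_one h1))

theorem cover (s : Finset ℕ) : (∀ q ∈ s, q.Prime) → ∀ (G : Type u) [Group G] [Finite G],
    ∃ T : Finset G, T.card ≤ ∏ q ∈ s, q ^ (Nat.card G).factorization q ∧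
      ∀ g : G, (∀ q : ℕ, q.Prime → q ∣ orderOf g → q ∈ s) →
        ∃ t ∈ T, ∃ c : G, c * g * c⁻¹ = t := by
  classical
  induction s using Finset.induction_on with
  | empty =>
    intro _ G _ _
    refine ⟨{1}, by simp, ?_⟩
    intro g hg
    refine ⟨1, by simp, 1, ?_⟩
    have h1 : orderOf g = 1 := by
      by_contra hne
      obtain ⟨q, hq, hqd⟩ := Nat.exists_prime_and_dvd hne
      exact absurd (hg q hq hqd) (by simp)
    rw [orderOf_eq_one_iff] at h1
    simp [h1]
  | insert p s hps ih =>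
    intro hprime G _ _
    have hp : p.Prime := hprime p (Finset.mem_insert_self p s)
    have : Fact p.Prime := ⟨hp⟩
    have ih' := ih (fun q hq => hprime q (Finset.mem_insert_of_mem hq))
    obtain ⟨P⟩ : Nonempty (Sylow p G) := inferInstance
    have hchoice : ∀ u : (P : Subgroup G),
        ∃ T : Finset (Subgroup.centralizer ({(u : G)} : Set G)),
          T.card ≤ ∏ q ∈ s, q ^ (Nat.card (Subgroup.centralizer ({(u : G)} : Set G))).factorization q ∧
          ∀ g : (Subgroup.centralizer ({(u : G)} : Set G)),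
            (∀ q : ℕ, q.Prime → q ∣ orderOf g → q ∈ s) → ∃ t ∈ T, ∃ c, c * g * c⁻¹ = t :=
      fun u => ih' _
    choose T hT1 hT2 using hchoice
    let _ : Fintype (P : Subgroup G) := Fintype.ofFinite _
    refine ⟨Finset.univ.biUnion
      (fun u : (P : Subgroup G) => (T u).image (fun t : Subgroup.centralizer ({(u : G)} : Set G) => (t : G) * (u : G))), ?_, ?_⟩
    · calc _ ≤ ∑ u : (P : Subgroup G), ((T u).image (fun t : Subgroup.centralizer ({(u : G)} : Set G) => (t : G) * (u : G))).card :=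
            Finset.card_biUnion_le
        _ ≤ ∑ _u : (P : Subgroup G), ∏ q ∈ s, q ^ (Nat.card G).factorization q := by
            apply Finset.sum_le_sum
            intro u _
            refine Finset.card_image_le.trans ((hT1 u).trans ?_)
            apply Finset.prod_le_prod (fun i _ => Nat.zero_le _)
            intro q hq
            have hqp : q.Prime := hprime q (Finset.mem_insert_of_mem hq)
            apply Nat.pow_le_pow_right hqp.pos
            exact (Nat.factorization_le_iff_dvd Nat.card_pos.ne' Nat.card_pos.ne').mpr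
              (Subgroup.card_subgroup_dvd_card _) q
        _ = Nat.card (P : Subgroup G) * ∏ q ∈ s, q ^ (Nat.card G).factorization q := by
            simp [Nat.card_eq_fintype_card]
        _ = _ := by rw [Finset.prod_insert hps, Sylow.card_eq_multiplicity]
    · intro g hg
      obtain ⟨w, u0, hgw, hcomm, hu0, hwd, hwp⟩ := exists_decomp p hp g
      obtain ⟨c, y, hyP, hcy⟩ := exists_conj_mem_sylow P u0 hu0
      have hw1c : c⁻¹ * w * c ∈ Subgroup.centralizer ({y} : Set G) := by
        rw [Subgroup.mem_centralizer_iff]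
        intro h hh
        rw [Set.mem_singleton_iff] at hh
        subst hh
        have hy : h = c⁻¹ * u0 * c := by rw [← hcy]; group
        rw [hy]
        calc c⁻¹ * u0 * c * (c⁻¹ * w * c) = c⁻¹ * (u0 * w) * c := by group
          _ = c⁻¹ * (w * u0) * c := by rw [hcomm]
          _ = _ := by group
      have hord : orderOf (⟨c⁻¹ * w * c, hw1c⟩ : Subgroup.centralizer ({y} : Set G)) = orderOf w := by
        have h0 : orderOf (⟨c⁻¹ * w * c, hw1c⟩ : Subgroup.centralizer ({y} : Set G))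
            = orderOf (c⁻¹ * w * c) := Subgroup.orderOf_mk _ hw1c
        rw [h0]
        have := orderOf_conj' c⁻¹ w
        rwa [inv_inv] at this
      obtain ⟨t, ht, d, hd⟩ := hT2 ⟨y, hyP⟩ ⟨c⁻¹ * w * c, hw1c⟩ (by
        intro q hq hqd
        rw [hord] at hqd
        have h1 := hg q hq (hqd.trans hwd)
        rcases Finset.mem_insert.mp h1 with h2 | h2
        · subst h2; exact absurd hqd hwp
        · exact h2)
      refine ⟨(t : G) * y, ?_, (d : G) * c⁻¹, ?_⟩
      · rw [Finset.mem_biUnion]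
        refine ⟨⟨y, hyP⟩, Finset.mem_univ _, ?_⟩
        rw [Finset.mem_image]
        exact ⟨t, ht, rfl⟩
      · have hd' : (d : G) * (c⁻¹ * w * c) * (d : G)⁻¹ = (t : G) := by
          have := congrArg Subtype.val hd
          simpa using this
        have hdy : (d : G) * y = y * (d : G) := by
          have := d.2
          rw [Subgroup.mem_centralizer_iff] at this
          exact (this y (Set.mem_singleton y)).symm
        have hy : y = c⁻¹ * u0 * c := by rw [← hcy]; group
        rw [← hd', hgw]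
        calc (d : G) * c⁻¹ * (w * u0) * ((d : G) * c⁻¹)⁻¹
            = (d : G) * (c⁻¹ * w * c) * (c⁻¹ * u0 * c) * (d : G)⁻¹ := by group
          _ = (d : G) * (c⁻¹ * w * c) * y * (d : G)⁻¹ := by rw [← hy]
          _ = (d : G) * (c⁻¹ * w * c) * (d : G)⁻¹ * ((d : G) * y * (d : G)⁻¹) := by group
          _ = (d : G) * (c⁻¹ * w * c) * (d : G)⁻¹ * y := by rw [hdy]; group

theorem result {G : Type*} [Group G] [Finite G]
    (π : Set ℕ) (hπ : ∀ q ∈ π, q.Prime)
    (m : ℕ) (hm : m ∣ Nat.card G) (hmπ : ∀ q : ℕ, q.Prime → q ∣ m → q ∈ π)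
    (hm' : ∀ q ∈ π, ¬ q ∣ Nat.card G / m) :
    Nat.card {C : ConjClasses G // ∀ q : ℕ, q.Prime → (∃ g : G, ConjClasses.mk g = C ∧ q ∣ orderOf g) → q ∈ π} ≤ m := by
  classical
  have hG0 : Nat.card G ≠ 0 := Nat.card_pos.ne'
  have hm0 : m ≠ 0 := fun h => hG0 (by rw [h] at hm; exact Nat.eq_zero_of_zero_dvd hm)
  have hmk : m * (Nat.card G / m) = Nat.card G := Nat.mul_div_cancel' hm
  have hk0 : Nat.card G / m ≠ 0 := fun h => hG0 (by rw [← hmk, h, mul_zero])
  obtain ⟨T, hT1, hT2⟩ := cover m.primeFactors (fun q hq => Nat.prime_of_mem_primeFactors hq) G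
  have hprod : ∏ q ∈ m.primeFactors, q ^ (Nat.card G).factorization q = m := by
    conv_rhs => rw [← Nat.prod_factorization_pow_eq_self hm0]
    rw [Finsupp.prod, Nat.support_factorization]
    apply Finset.prod_congr rfl
    intro q hq
    have hqp : q.Prime := Nat.prime_of_mem_primeFactors hq
    have hqm : q ∣ m := Nat.dvd_of_mem_primeFactors hq
    have h0 : (Nat.card G / m).factorization q = 0 :=
      Nat.factorization_eq_zero_of_not_dvd (hm' q (hmπ q hqp hqm))
    rw [← hmk, Nat.factorization_mul hm0 hk0]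
    simp [h0]
  rw [hprod] at hT1
  have hex : ∀ C : {C : ConjClasses G // ∀ q : ℕ, q.Prime →
      (∃ g : G, ConjClasses.mk g = C ∧ q ∣ orderOf g) → q ∈ π},
      ∃ t : T, ConjClasses.mk (t : G) = C.1 := by
    rintro ⟨C, hC⟩
    obtain ⟨g, hg⟩ := ConjClasses.mk_surjective C
    obtain ⟨t, ht, c, hc⟩ := hT2 g (by
      intro q hq hqd
      have hqπ : q ∈ π := hC q hq ⟨g, hg, hqd⟩
      have hqG : q ∣ Nat.card G := hqd.trans (orderOf_dvd_natCard g)
      rw [← hmk] at hqG
      rcases (Nat.Prime.dvd_mul hq).mp hqG with h | h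
      · exact Nat.mem_primeFactors.mpr ⟨hq, h, hm0⟩
      · exact absurd h (hm' q hqπ))
    refine ⟨⟨t, ht⟩, ?_⟩
    show ConjClasses.mk t = C
    rw [← hg, ConjClasses.mk_eq_mk_iff_isConj, isConj_comm, isConj_iff]
    exact ⟨c, hc⟩
  choose f hf using hex
  have hinj : Function.Injective f := fun C D h => Subtype.ext (by rw [← hf C, ← hf D, h])
  calc Nat.card _ ≤ Nat.card T := Nat.card_le_card_of_injective f hinj
    _ = T.card := by simp
    _ ≤ m := hT1

end Cfsg.Agent.S4106
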