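import Cfsg.Statements.S4127
import Cfsg.Agent.S4106

set_option autoImplicit false
open Cfsg

namespace Cfsg.Agent.S4127

/-- A finite group is not the union of the conjugates of a proper subgroup. -/
lemma eq_top_of_forall_conj_mem {H : Type*} [Group H] [Finite H] (K : Subgroup H)
    (h : ∀ g : H, ∃ c : H, c⁻¹ * g * c ∈ K) : K = ⊤ := by
  classical
  have := Fintype.ofFinite H
  have := Fintype.ofFinite (H ⧸ K)
  have hB := MulAction.sum_card_fixedBy_eq_card_orbits_mul_card_group H (H ⧸ K)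
  have hsub : Subsingleton (MulAction.orbitRel.Quotient H (H ⧸ K)) :=
    (MulAction.pretransitive_iff_subsingleton_quotient H (H ⧸ K)).mp inferInstance
  have hle : Fintype.card (Quotient (MulAction.orbitRel H (H ⧸ K))) ≤ 1 :=
    Fintype.card_le_one_iff_subsingleton.mpr hsub
  by_contra hne
  obtain ⟨g₀, hg₀⟩ : ∃ g₀ : H, g₀ ∉ K := by
    by_contra hcon
    push Not at hcon
    exact hne (eq_top_iff.mpr fun g _ => hcon g)
  have h1 : ∀ g : H, 1 ≤ Fintype.card (MulAction.fixedBy (H ⧸ K) g) := by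
    intro g
    obtain ⟨c, hc⟩ := h g
    refine Fintype.card_pos_iff.mpr ⟨⟨(c : H ⧸ K), ?_⟩⟩
    rw [MulAction.mem_fixedBy]
    show ((g * c : H) : H ⧸ K) = (c : H ⧸ K)
    rw [QuotientGroup.eq]
    have : (g * c)⁻¹ * c = (c⁻¹ * g * c)⁻¹ := by group
    rw [this]
    exact K.inv_mem hc
  have h2 : 1 < Fintype.card (MulAction.fixedBy (H ⧸ K) (1 : H)) := by
    rw [Fintype.one_lt_card_iff]
    refine ⟨⟨((1 : H) : H ⧸ K), by rw [MulAction.mem_fixedBy, one_smul]⟩,
      ⟨((g₀ : H) : H ⧸ K), by rw [MulAction.mem_fixedBy, one_smul]⟩, ?_⟩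
    intro heq
    have h3 := congrArg Subtype.val heq
    have h4 : ((1 : H) : H ⧸ K) = ((g₀ : H) : H ⧸ K) := h3
    rw [QuotientGroup.eq] at h4
    apply hg₀
    simpa using h4
  have h3 : ∑ _g : H, 1 < ∑ g : H, Fintype.card (MulAction.fixedBy (H ⧸ K) g) :=
    Finset.sum_lt_sum (fun g _ => h1 g) ⟨1, Finset.mem_univ _, h2⟩
  rw [hB] at h3
  simp only [Finset.sum_const, Finset.card_univ, smul_eq_mul, mul_one] at h3
  have h4 : Fintype.card (Quotient (MulAction.orbitRel H (H ⧸ K))) * Fintype.card H ≤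
      1 * Fintype.card H := Nat.mul_le_mul_right _ hle
  omega

/-- A special case of Thompson's `P × Q` lemma, for the inner action of an element `x` of the
normal `p`-subgroup `N`. -/
lemma centralize_of_centralize_fixed {G : Type*} [Group G] [Finite G] (p : ℕ) [Fact p.Prime]
    (N : Subgroup G) [hNn : N.Normal] (hN : IsPGroup p N) (x : G) (hx : x ∈ N) (K : Subgroup G)
    (hK : ∀ k ∈ K, ¬ p ∣ orderOf k)
    (hcent : ∀ n ∈ N, n * x = x * n → ∀ k ∈ K, k * n = n * k) :
    ∀ n ∈ N, ∀ k ∈ K, k * n = n * k := by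
  classical
  have hp : p.Prime := Fact.out
  set M := N ⊓ Subgroup.centralizer (K : Set G) with hM
  by_contra hcon
  push Not at hcon
  obtain ⟨n₀, hn₀N, k₀, hk₀, hne⟩ := hcon
  have hlt : M.subgroupOf N < ⊤ := by
    rw [lt_top_iff_ne_top]
    intro h
    have h1 : (⟨n₀, hn₀N⟩ : N) ∈ M.subgroupOf N := h ▸ Subgroup.mem_top _
    rw [Subgroup.mem_subgroupOf] at h1
    exact hne (Subgroup.mem_centralizer_iff.mp h1.2 k₀ hk₀)
  have : Group.IsNilpotent N := hN.isNilpotent
  have hnc := Group.normalizerCondition_of_isNilpotent (G := N) _ hlt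
  obtain ⟨n, hnnorm, hnM⟩ := SetLike.exists_of_lt hnc
  apply hnM
  rw [Subgroup.mem_subgroupOf]
  refine ⟨n.2, ?_⟩
  show (n : G) ∈ Subgroup.centralizer (K : Set G)
  rw [Subgroup.mem_centralizer_iff]
  intro y hy
  have hxM : x ∈ M := by
    refine ⟨hx, ?_⟩
    show x ∈ Subgroup.centralizer (K : Set G)
    rw [Subgroup.mem_centralizer_iff]
    intro k hk
    exact hcent x hx rfl k hk
  -- the element c
  set c : G := (n : G)⁻¹ * (y * (n : G) * y⁻¹) with hc
  have hcN : c ∈ N := N.mul_mem (N.inv_mem n.2) (hNn.conj_mem _ n.2 y)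
  have hcM : ∀ m ∈ M, c * m = m * c := by
    intro m hm
    have h1 : (n : G) * m * (n : G)⁻¹ ∈ M := by
      have h2 := (Subgroup.mem_normalizer_iff.mp hnnorm ⟨m, hm.1⟩).mp
        (by rw [Subgroup.mem_subgroupOf]; exact hm)
      rw [Subgroup.mem_subgroupOf] at h2
      exact h2
    have h3 : y * ((n : G) * m * (n : G)⁻¹) = ((n : G) * m * (n : G)⁻¹) * y :=
      Subgroup.mem_centralizer_iff.mp h1.2 y hy
    have h4 : y * m = m * y := Subgroup.mem_centralizer_iff.mp hm.2 y hy
    have h5 : y * (n : G) * y⁻¹ * m = (n : G) * m * (n : G)⁻¹ * (y * (n : G) * y⁻¹) := by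
      calc y * (n : G) * y⁻¹ * m = y * (n : G) * (y⁻¹ * (m * y)) * y⁻¹ := by group
        _ = y * (n : G) * (y⁻¹ * (y * m)) * y⁻¹ := by rw [h4]
        _ = (y * ((n : G) * m * (n : G)⁻¹)) * (n : G) * y⁻¹ := by group
        _ = (((n : G) * m * (n : G)⁻¹) * y) * (n : G) * y⁻¹ := by rw [h3]
        _ = (n : G) * m * (n : G)⁻¹ * (y * (n : G) * y⁻¹) := by group
    rw [hc]
    calc (n : G)⁻¹ * (y * (n : G) * y⁻¹) * m = (n : G)⁻¹ * (y * (n : G) * y⁻¹ * m) := by group
      _ = (n : G)⁻¹ * ((n : G) * m * (n : G)⁻¹ * (y * (n : G) * y⁻¹)) := by rw [h5]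
      _ = m * ((n : G)⁻¹ * (y * (n : G) * y⁻¹)) := by group
  have hcx : c * x = x * c := hcM x hxM
  have hyc : y * c = c * y := hcent c hcN hcx y hy
  have hyn : y * (n : G) = (n : G) * c * y := by rw [hc]; group
  have hpow : ∀ i : ℕ, y ^ i * (n : G) = (n : G) * c ^ i * y ^ i := by
    intro i
    induction i with
    | zero => simp
    | succ i ih =>
      have hyci : y * c ^ i = c ^ i * y := (Commute.pow_right (show Commute y c from hyc) i)
      calc y ^ (i + 1) * (n : G) = y * (y ^ i * (n : G)) := by rw [pow_succ']; group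
        _ = y * ((n : G) * c ^ i * y ^ i) := by rw [ih]
        _ = (y * (n : G)) * c ^ i * y ^ i := by group
        _ = (n : G) * c * (y * c ^ i) * y ^ i := by rw [hyn]; group
        _ = (n : G) * c * (c ^ i * y) * y ^ i := by rw [hyci]
        _ = (n : G) * c ^ (i + 1) * y ^ (i + 1) := by rw [pow_succ', pow_succ']; group
  have h6 := hpow (orderOf y)
  rw [pow_orderOf_eq_one, one_mul, mul_one] at h6
  have h7 : c ^ orderOf y = 1 := by
    have : (n : G) * c ^ orderOf y = (n : G) * 1 := by rw [mul_one]; exact h6.symm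
    exact mul_left_cancel this
  obtain ⟨e, he⟩ := (IsPGroup.iff_orderOf.mp hN) ⟨c, hcN⟩
  rw [Subgroup.orderOf_mk] at he
  have h8 : orderOf c ∣ orderOf y := orderOf_dvd_of_pow_eq_one h7
  have he0 : e = 0 := by
    by_contra he0
    apply hK y hy
    exact dvd_trans (dvd_trans (dvd_pow_self p he0) (dvd_of_eq he.symm)) h8
  rw [he0, pow_zero, orderOf_eq_one_iff] at he
  rw [he, mul_one] at hyn
  exact hyn

/-- If every `p'`-element of a finite group has class size prime to `p`, then the group is the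
direct product of a Sylow `p`-subgroup and a normal `p`-complement. -/
lemma lemmaA {H : Type*} [Group H] [Finite H] (p : ℕ) [Fact p.Prime]
    (hA : ∀ y : H, ¬ p ∣ orderOf y → ¬ p ∣ (Subgroup.centralizer ({y} : Set H)).index) :
    ∃ K : Subgroup H, K.Normal ∧ (Nat.card K).Coprime p ∧
      (∃ j : ℕ, Nat.card H = Nat.card K * p ^ j) ∧
      (∀ y : H, ¬ p ∣ orderOf y → y ∈ K) ∧
      (∀ n : H, (∃ e : ℕ, orderOf n = p ^ e) → ∀ k ∈ K, k * n = n * k) := by
  classical
  have hp : p.Prime := Fact.out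
  obtain ⟨P⟩ : Nonempty (Sylow p H) := inferInstance
  set D := Subgroup.centralizer ((P : Subgroup H) : Set H) with hD
  have hconj : ∀ g : H, ∃ c : H, c⁻¹ * g * c ∈ (P : Subgroup H) ⊔ D := by
    intro g
    obtain ⟨w, u, hg, hcomm, ⟨k, hu⟩, hwg, hw⟩ := Cfsg.Agent.S4106.exists_decomp p hp g
    set L := Subgroup.centralizer ({w} : Set H) with hL
    have hLidx : ¬ p ∣ L.index := hA w hw
    have huL : u ∈ L := by
      rw [hL, Subgroup.mem_centralizer_singleton_iff]
      exact hcomm.symm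
    have hZ : IsPGroup p (Subgroup.zpowers (⟨u, huL⟩ : L)) := by
      apply IsPGroup.of_card (n := k)
      rw [Nat.card_zpowers, Subgroup.orderOf_mk, hu]
    obtain ⟨Q, hQ⟩ := hZ.exists_le_sylow
    have hfac : (Nat.card L).factorization p = (Nat.card H).factorization p := by
      rw [← L.card_mul_index, Nat.factorization_mul Nat.card_pos.ne' (Subgroup.index_ne_zero_of_finite),
        Finsupp.add_apply, Nat.factorization_eq_zero_of_not_dvd hLidx, add_zero]
    have hcardQ : Nat.card ((Q : Subgroup L).map L.subtype) = p ^ (Nat.card H).factorization p := by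
      rw [Subgroup.card_map_of_injective L.subtype_injective, Sylow.card_eq_multiplicity, hfac]
    let Q' : Sylow p H := Sylow.ofCard ((Q : Subgroup L).map L.subtype) hcardQ
    obtain ⟨c, hc⟩ := MulAction.exists_smul_eq H P Q'
    have hQ'L : ∀ v ∈ (Q' : Subgroup H), v ∈ L := by
      rintro v ⟨v', -, rfl⟩
      exact v'.2
    have huQ' : u ∈ (Q' : Subgroup H) :=
      ⟨⟨u, huL⟩, hQ (Subgroup.mem_zpowers _), rfl⟩
    have hmemP : ∀ v : H, v ∈ (Q' : Subgroup H) → c⁻¹ * v * c ∈ (P : Subgroup H) := by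
      intro v hv
      rw [← hc, Sylow.coe_subgroup_smul, Subgroup.mem_pointwise_smul_iff_inv_smul_mem] at hv
      simpa [MulAut.smul_def] using hv
    have hmemQ : ∀ v : H, v ∈ (P : Subgroup H) → c * v * c⁻¹ ∈ (Q' : Subgroup H) := by
      intro v hv
      rw [← hc, Sylow.coe_subgroup_smul]
      exact ⟨v, hv, rfl⟩
    refine ⟨c, ?_⟩
    have h1 : c⁻¹ * g * c = (c⁻¹ * w * c) * (c⁻¹ * u * c) := by rw [hg]; group
    rw [h1]
    refine Subgroup.mul_mem _ (Subgroup.mem_sup_right ?_) (Subgroup.mem_sup_left (hmemP u huQ'))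
    rw [hD, Subgroup.mem_centralizer_iff]
    intro v hv
    have h2 : c * v * c⁻¹ ∈ L := hQ'L _ (hmemQ v hv)
    rw [hL, Subgroup.mem_centralizer_singleton_iff] at h2
    calc v * (c⁻¹ * w * c) = c⁻¹ * (c * v * c⁻¹ * w) * c := by group
      _ = c⁻¹ * (w * (c * v * c⁻¹)) * c := by rw [h2]
      _ = c⁻¹ * w * c * v := by group
  have htop : (P : Subgroup H) ⊔ D = ⊤ := eq_top_of_forall_conj_mem _ hconj
  have hPn : (P : Subgroup H).Normal := by
    rw [← Subgroup.normalizer_eq_top_iff, eq_top_iff, ← htop, sup_le_iff]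
    exact ⟨Subgroup.le_normalizer, Subgroup.centralizer_le_normalizer _⟩
  have hDn : D.Normal := Subgroup.normal_centralizer
  obtain ⟨K, hK⟩ := Subgroup.exists_right_complement'_of_coprime (N := (P : Subgroup H))
    P.card_coprime_index
  have hcard : Nat.card (P : Subgroup H) * Nat.card K = Nat.card H := hK.card_mul_card
  obtain ⟨n, hPcard⟩ : ∃ n : ℕ, Nat.card (P : Subgroup H) = p ^ n :=
    ⟨_, Sylow.card_eq_multiplicity P⟩
  have hKcop : (Nat.card K).Coprime p := by
    have h1 : Nat.card K = (P : Subgroup H).index := by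
      have h2 := (P : Subgroup H).card_mul_index
      rw [← hcard] at h2
      exact (Nat.eq_of_mul_eq_mul_left Nat.card_pos h2).symm
    rw [h1]
    exact ((Nat.Prime.coprime_iff_not_dvd hp).mpr P.not_dvd_index).symm
  have hKord : ∀ k ∈ K, ¬ p ∣ orderOf k := by
    intro k hk hdvd
    have h1 : p ∣ Nat.card K := dvd_trans hdvd (Subgroup.orderOf_dvd_natCard K hk)
    have h2 : p ∣ Nat.gcd (Nat.card K) p := Nat.dvd_gcd h1 dvd_rfl
    rw [hKcop] at h2
    exact hp.one_lt.ne' (Nat.dvd_one.mp h2)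
  -- K ≤ D
  have hDidx : D.index ∣ p ^ n := by
    have h1 : D.index = D.relIndex (P : Subgroup H) := by
      rw [← Subgroup.relIndex_top_right, ← htop, sup_comm, Subgroup.relIndex_sup_left]
    rw [h1, ← hPcard]
    exact Subgroup.relIndex_dvd_card _ _
  have hKD : K ≤ D := by
    intro k hk
    have h1 : orderOf (k : H ⧸ D) ∣ orderOf k := orderOf_map_dvd (QuotientGroup.mk' D) k
    have h2 : orderOf (k : H ⧸ D) ∣ p ^ n := by
      refine dvd_trans (orderOf_dvd_natCard _) ?_
      rw [← Subgroup.index_eq_card]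
      exact hDidx
    obtain ⟨e, -, he⟩ := (Nat.dvd_prime_pow hp).mp h2
    have he0 : e = 0 := by
      by_contra he0
      apply hKord k hk
      exact dvd_trans (dvd_trans (dvd_pow_self p he0) (dvd_of_eq he.symm)) h1
    rw [he0, pow_zero, orderOf_eq_one_iff, QuotientGroup.eq_one_iff] at he
    exact he
  have hKn : K.Normal := by
    constructor
    intro k hk g
    obtain ⟨⟨u, k'⟩, hg⟩ := hK.2 g
    have hg' : (u : H) * (k' : H) = g := hg
    have h1 : (k' : H) * k * (k' : H)⁻¹ ∈ K := K.mul_mem (K.mul_mem k'.2 hk) (K.inv_mem k'.2)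
    have h2 : (u : H) * ((k' : H) * k * (k' : H)⁻¹) = ((k' : H) * k * (k' : H)⁻¹) * (u : H) :=
      Subgroup.mem_centralizer_iff.mp (hKD h1) u u.2
    have h3 : g * k * g⁻¹ = (k' : H) * k * (k' : H)⁻¹ := by
      rw [← hg']
      calc (u : H) * (k' : H) * k * ((u : H) * (k' : H))⁻¹
          = ((u : H) * ((k' : H) * k * (k' : H)⁻¹)) * (u : H)⁻¹ := by group
        _ = (((k' : H) * k * (k' : H)⁻¹) * (u : H)) * (u : H)⁻¹ := by rw [h2]
        _ = (k' : H) * k * (k' : H)⁻¹ := by group
    rw [h3]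
    exact h1
  refine ⟨K, hKn, hKcop, ⟨n, by rw [← hcard, hPcard, mul_comm]⟩, ?_, ?_⟩
  · intro y hy
    have h1 : orderOf (y : H ⧸ K) ∣ orderOf y := orderOf_map_dvd (QuotientGroup.mk' K) y
    have h2 : orderOf (y : H ⧸ K) ∣ p ^ n := by
      refine dvd_trans (orderOf_dvd_natCard _) ?_
      rw [← Subgroup.index_eq_card]
      have h3 : Nat.card K * K.index = Nat.card K * Nat.card (P : Subgroup H) := by
        rw [K.card_mul_index, ← hcard, mul_comm]
      rw [Nat.eq_of_mul_eq_mul_left Nat.card_pos h3, hPcard]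
    obtain ⟨e, -, he⟩ := (Nat.dvd_prime_pow hp).mp h2
    have he0 : e = 0 := by
      by_contra he0
      apply hy
      exact dvd_trans (dvd_trans (dvd_pow_self p he0) (dvd_of_eq he.symm)) h1
    rw [he0, pow_zero, orderOf_eq_one_iff, QuotientGroup.eq_one_iff] at he
    exact he
  · rintro m ⟨e, he⟩ k hk
    have hZ : IsPGroup p (Subgroup.zpowers m) := by
      apply IsPGroup.of_card (n := e)
      rw [Nat.card_zpowers, he]
    obtain ⟨P', hP'⟩ := hZ.exists_le_sylow
    obtain ⟨c, hc⟩ := MulAction.exists_smul_eq H P P'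
    have hPP' : P' = P := by rw [← hc]; exact Sylow.smul_eq_of_normal
    have hmP : m ∈ (P : Subgroup H) := hPP' ▸ hP' (Subgroup.mem_zpowers m)
    exact (Subgroup.mem_centralizer_iff.mp (hKD hk) m hmP).symm

theorem result {G : Type*} [Group G] [Finite G] (p : ℕ) [Fact p.Prime]
    (a : ℕ) (hmax : ∀ y : G, ¬ p ^ (a + 1) ∣ (Subgroup.centralizer ({y} : Set G)).index)
    (hx : ∃ x : G, (∃ k : ℕ, orderOf x = p ^ k) ∧ (Subgroup.centralizer ({x} : Set G)).index = p ^ a) :
    Cfsg.HasNormalPComplement p G := by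
  classical
  have hp : p.Prime := Fact.out
  obtain ⟨x, ⟨k, hxo⟩, hxi⟩ := hx
  set C := Subgroup.centralizer ({x} : Set G) with hC
  have hxC : x ∈ C := by rw [hC, Subgroup.mem_centralizer_singleton_iff]
  have hA : ∀ y : C, ¬ p ∣ orderOf y → ¬ p ∣ (Subgroup.centralizer ({y} : Set C)).index := by
    intro y hy hdvd
    apply hmax (x * (y : G))
    have hyx : (y : G) * x = x * (y : G) := Subgroup.mem_centralizer_singleton_iff.mp y.2
    have hyo : ¬ p ∣ orderOf (y : G) := by rw [Subgroup.orderOf_coe]; exact hy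
    have hcop : (orderOf (y : G)).Coprime (orderOf x) := by
      rw [hxo]
      exact Nat.Coprime.pow_right k ((Nat.Prime.coprime_iff_not_dvd hp).mpr hyo).symm
    obtain ⟨r, hr⟩ := exists_pow_eq_self_of_coprime hcop
    have hxpow : x = ((x * (y : G)) ^ orderOf (y : G)) ^ r := by
      have hc : Commute x (y : G) := hyx.symm
      rw [hc.mul_pow, pow_orderOf_eq_one, mul_one, hr]
    have heq : Subgroup.centralizer ({x * (y : G)} : Set G) =
        (Subgroup.centralizer ({y} : Set C)).map C.subtype := by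
      ext g
      rw [Subgroup.mem_centralizer_singleton_iff, Subgroup.mem_map]
      constructor
      · intro hg
        have hgc : Commute g (x * (y : G)) := hg
        have hgx : Commute g x := by
          rw [hxpow]
          exact (hgc.pow_right _).pow_right _
        have hgy : Commute g (y : G) := by
          have h1 : (y : G) = x⁻¹ * (x * (y : G)) := by group
          rw [h1]
          exact hgx.inv_right.mul_right hgc
        have hgC : g ∈ C := by
          rw [hC, Subgroup.mem_centralizer_singleton_iff]; exact hgx.eq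
        refine ⟨⟨g, hgC⟩, ?_, rfl⟩
        rw [Subgroup.mem_centralizer_singleton_iff]
        exact Subtype.ext hgy.eq
      · rintro ⟨g', hg', rfl⟩
        rw [Subgroup.mem_centralizer_singleton_iff] at hg'
        have h0 := congrArg Subtype.val hg'
        have h1 : (g' : G) * (y : G) = (y : G) * (g' : G) := h0
        have h2 : (g' : G) * x = x * (g' : G) := Subgroup.mem_centralizer_singleton_iff.mp g'.2
        show (g' : G) * (x * (y : G)) = x * (y : G) * (g' : G)
        calc (g' : G) * (x * (y : G)) = ((g' : G) * x) * (y : G) := by group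
          _ = x * ((g' : G) * (y : G)) := by rw [h2]; group
          _ = x * (y : G) * (g' : G) := by rw [h1]; group
    rw [heq, Subgroup.index_map_subtype, hxi, pow_succ']
    exact mul_dvd_mul_right hdvd _
  obtain ⟨K', hK'n, hK'cop, ⟨j, hK'card⟩, hK'mem, hK'cent⟩ := lemmaA p hA
  set K₀ : Subgroup G := K'.map C.subtype with hK₀
  have hK₀card : Nat.card K₀ = Nat.card K' := Subgroup.card_map_of_injective C.subtype_injective
  have hK₀C : K₀ ≤ C := by
    rintro _ ⟨k', -, rfl⟩
    exact k'.2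
  have h1 : ∀ y ∈ C, ¬ p ∣ orderOf y → y ∈ K₀ := by
    intro y hy hyo
    refine ⟨⟨y, hy⟩, hK'mem _ ?_, rfl⟩
    rw [Subgroup.orderOf_mk]; exact hyo
  have h3 : ∀ n ∈ C, (∃ e : ℕ, orderOf n = p ^ e) → ∀ k ∈ K₀, k * n = n * k := by
    rintro n hn ⟨e, he⟩ _ ⟨k', hk', rfl⟩
    have h0 := hK'cent ⟨n, hn⟩ ⟨e, by rw [Subgroup.orderOf_mk]; exact he⟩ k' hk'
    have h0' := congrArg Subtype.val h0
    exact h0'
  have hK₀cop : (Nat.card K₀).Coprime p := hK₀card ▸ hK'cop
  have hK₀ord : ∀ k ∈ K₀, ¬ p ∣ orderOf k := by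
    intro k hk hdvd
    have h1 : p ∣ Nat.card K₀ := dvd_trans hdvd (Subgroup.orderOf_dvd_natCard K₀ hk)
    have h2 : p ∣ Nat.gcd (Nat.card K₀) p := Nat.dvd_gcd h1 dvd_rfl
    rw [hK₀cop] at h2
    exact hp.one_lt.ne' (Nat.dvd_one.mp h2)
  -- a Sylow subgroup containing x
  have hZ : IsPGroup p (Subgroup.zpowers x) := by
    apply IsPGroup.of_card (n := k)
    rw [Nat.card_zpowers, hxo]
  obtain ⟨P, hP⟩ := hZ.exists_le_sylow
  have hxP : x ∈ (P : Subgroup G) := hP (Subgroup.mem_zpowers x)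
  have hGcard : Nat.card G = Nat.card K₀ * p ^ (j + a) := by
    rw [← C.card_mul_index, hxi, hK'card, hK₀card, pow_add, mul_assoc]
  have hK₀dvd : ¬ p ∣ Nat.card K₀ := by
    intro hdvd
    have h2 : p ∣ Nat.gcd (Nat.card K₀) p := Nat.dvd_gcd hdvd dvd_rfl
    rw [hK₀cop] at h2
    exact hp.one_lt.ne' (Nat.dvd_one.mp h2)
  have hPcard : Nat.card (P : Subgroup G) = p ^ (j + a) := by
    rw [Sylow.card_eq_multiplicity, hGcard,
      Nat.factorization_mul Nat.card_pos.ne' (pow_ne_zero _ hp.ne_zero), Finsupp.add_apply,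
      Nat.factorization_eq_zero_of_not_dvd hK₀dvd, zero_add, Nat.Prime.factorization_pow hp,
      Finsupp.single_eq_same]
  have hcompl : (P : Subgroup G).IsComplement' K₀ := by
    apply Subgroup.isComplement'_of_coprime
    · rw [hPcard, hGcard, mul_comm]
    · rw [hPcard]
      exact Nat.Coprime.pow_left _ hK₀cop.symm
  -- all conjugates of x lie in P
  have hconjP : ∀ g : G, g * x * g⁻¹ ∈ (P : Subgroup G) := by
    intro g
    obtain ⟨⟨u, k'⟩, hg⟩ := hcompl.2 g
    have hg' : (u : G) * (k' : G) = g := hg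
    have hkx : (k' : G) * x = x * (k' : G) :=
      Subgroup.mem_centralizer_singleton_iff.mp (hK₀C k'.2)
    have h2 : g * x * g⁻¹ = (u : G) * x * (u : G)⁻¹ := by
      rw [← hg']
      calc (u : G) * (k' : G) * x * ((u : G) * (k' : G))⁻¹
          = (u : G) * ((k' : G) * x) * (k' : G)⁻¹ * (u : G)⁻¹ := by group
        _ = (u : G) * (x * (k' : G)) * (k' : G)⁻¹ * (u : G)⁻¹ := by rw [hkx]
        _ = (u : G) * x * (u : G)⁻¹ := by group
    rw [h2]
    exact (P : Subgroup G).mul_mem ((P : Subgroup G).mul_mem u.2 hxP) ((P : Subgroup G).inv_mem u.2)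
  set N := Subgroup.normalClosure ({x} : Set G) with hN
  have hNP : N ≤ (P : Subgroup G) := by
    rw [hN, Subgroup.normalClosure, Subgroup.closure_le]
    intro z hz
    rw [Group.mem_conjugatesOfSet_iff] at hz
    obtain ⟨x', hx', hconj⟩ := hz
    rw [Set.mem_singleton_iff] at hx'
    subst hx'
    obtain ⟨c, hc⟩ := isConj_iff.mp hconj
    rw [← hc]
    exact hconjP c
  have hNp : IsPGroup p N := P.2.to_le hNP
  have hNn : N.Normal := Subgroup.normalClosure_normal
  have hxN : x ∈ N := Subgroup.subset_normalClosure (Set.mem_singleton x)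
  have hcent : ∀ n ∈ N, n * x = x * n → ∀ k ∈ K₀, k * n = n * k := by
    intro n hn hnx k hk
    obtain ⟨e, he⟩ := (IsPGroup.iff_orderOf.mp hNp) ⟨n, hn⟩
    rw [Subgroup.orderOf_mk] at he
    exact h3 n (Subgroup.mem_centralizer_singleton_iff.mpr hnx) ⟨e, he⟩ k hk
  have hKN := centralize_of_centralize_fixed p N hNp x hxN K₀ hK₀ord hcent
  have hK₀n : K₀.Normal := by
    constructor
    intro k hk g
    apply h1
    · rw [hC, Subgroup.mem_centralizer_singleton_iff]
      have h4 : g⁻¹ * x * g⁻¹⁻¹ ∈ N := hNn.conj_mem x hxN g⁻¹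
      have h5 := hKN _ h4 k hk
      calc g * k * g⁻¹ * x = g * (k * (g⁻¹ * x * g⁻¹⁻¹)) * g⁻¹ := by group
        _ = g * ((g⁻¹ * x * g⁻¹⁻¹) * k) * g⁻¹ := by rw [h5]
        _ = x * (g * k * g⁻¹) := by group
    · have h6 : orderOf (g * k * g⁻¹) = orderOf k :=
        orderOf_injective (MulAut.conj g).toMonoidHom (MulAut.conj g).injective k
      rw [h6]
      exact hK₀ord k hk
  exact ⟨P, K₀, hK₀n, hcompl.symm⟩

end Cfsg.Agent.S4127
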