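import Cfsg.Statements.S4134
import Cfsg.Agent.S4127

set_option autoImplicit false
open Cfsg

namespace Cfsg.Agent.S4134

section general
variable {G : Type*} [Group G]

/-- centralizer of a product of commuting elements of coprime orders -/
lemma cent_mul [Finite G] {x y : G} (hc : Commute x y) (hcop : (orderOf x).Coprime (orderOf y)) :
    Subgroup.centralizer ({x * y} : Set G) =
      Subgroup.centralizer ({x} : Set G) ⊓ Subgroup.centralizer ({y} : Set G) := by
  obtain ⟨r, hr⟩ := exists_pow_eq_self_of_coprime hcop.symm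
  have hxpow : x = ((x * y) ^ orderOf y) ^ r := by
    rw [hc.mul_pow, pow_orderOf_eq_one, mul_one, hr]
  ext g
  rw [Subgroup.mem_inf, Subgroup.mem_centralizer_singleton_iff,
    Subgroup.mem_centralizer_singleton_iff, Subgroup.mem_centralizer_singleton_iff]
  constructor
  · intro hg
    have hgc : Commute g (x * y) := hg
    have hgx : Commute g x := by
      rw [hxpow]
      exact (hgc.pow_right _).pow_right _
    have hgy : Commute g y := by
      have h1 : y = x⁻¹ * (x * y) := by group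
      rw [h1]
      exact hgx.inv_right.mul_right hgc
    exact ⟨hgx.eq, hgy.eq⟩
  · rintro ⟨h1, h2⟩
    have hgx : Commute g x := h1
    have hgy : Commute g y := h2
    exact (hgx.mul_right hgy).eq

lemma mem_cent_iff {x g : G} : g ∈ Subgroup.centralizer ({x} : Set G) ↔ g * x = x * g :=
  Subgroup.mem_centralizer_singleton_iff

lemma self_mem_cent (x : G) : x ∈ Subgroup.centralizer ({x} : Set G) := mem_cent_iff.mpr rfl

lemma center_le_cent (x : G) : Subgroup.center G ≤ Subgroup.centralizer ({x} : Set G) :=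
  Subgroup.center_le_centralizer _

lemma not_dvd_prime_pow {q t : ℕ} (hq : q.Prime) (ht : t.Prime) (hqt : q ≠ t) (k : ℕ) :
    ¬ q ∣ t ^ k := by
  intro h
  have h1 := hq.dvd_of_dvd_pow h
  exact hqt ((Nat.prime_dvd_prime_iff_eq hq ht).mp h1)

end general

section avg

lemma avg_prod_mem {M : Type*} [CommGroup M] (Z₀ : Subgroup M) (p : ℕ)
    (g : MulAut M) (hg : g ^ p = 1) (hfg : ∀ m, g m = m → m ∈ Z₀) (m : M) :
    ∏ k ∈ Finset.range p, (g ^ k) m ∈ Z₀ := by
  apply hfg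
  rw [map_prod]
  have h1 : ∀ k, g ((g ^ k) m) = (g ^ (k + 1)) m := by
    intro k
    rw [← MulAut.mul_apply, ← pow_succ']
  simp only [h1]
  have h2 := Finset.prod_range_succ (fun k => (g ^ k) m) p
  have h3 := Finset.prod_range_succ' (fun k => (g ^ k) m) p
  rw [h2] at h3
  simp only [hg, pow_zero, MulAut.one_apply] at h3
  exact (mul_right_cancel h3).symm

/-- averaging: two commuting automorphisms of exponent `p` all of whose relevant products have
their fixed points in `Z₀` force `m ^ p ∈ Z₀` -/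
lemma avg_fix {M : Type*} [CommGroup M] (Z₀ : Subgroup M) (p : ℕ) (hp : 0 < p)
    (x y : MulAut M) (hxy : Commute x y) (hx : x ^ p = 1) (hy : y ^ p = 1)
    (hfx : ∀ k, 0 < k → k < p → ∀ m, (x ^ k) m = m → m ∈ Z₀)
    (hfy : ∀ i, i < p → ∀ m, (x ^ i * y) m = m → m ∈ Z₀) (m : M) : m ^ p ∈ Z₀ := by
  have hD : ∏ i ∈ Finset.range p, ∏ k ∈ Finset.range p, ((x ^ i * y) ^ k) m ∈ Z₀ := by
    apply Subgroup.prod_mem
    intro i hi
    exact avg_prod_mem Z₀ p (x ^ i * y)
      (by rw [(hxy.pow_left i).mul_pow, ← pow_mul, mul_comm i p, pow_mul, hx, one_pow, hy, one_mul])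
      (hfy i (Finset.mem_range.mp hi)) m
  rw [Finset.prod_comm] at hD
  have hk : ∀ k ∈ Finset.range p, k ≠ 0 →
      ∏ i ∈ Finset.range p, ((x ^ i * y) ^ k) m ∈ Z₀ := by
    intro k hk h0
    have e : ∀ i, ((x ^ i * y) ^ k) m = ((x ^ k) ^ i) ((y ^ k) m) := by
      intro i
      rw [(hxy.pow_left i).mul_pow, ← pow_mul, mul_comm i k, pow_mul, MulAut.mul_apply]
    simp only [e]
    exact avg_prod_mem Z₀ p (x ^ k) (by rw [← pow_mul, mul_comm, pow_mul, hx, one_pow])
      (hfx k (Nat.pos_of_ne_zero h0) (Finset.mem_range.mp hk)) _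
  have h0 : ∏ i ∈ Finset.range p, ((x ^ i * y) ^ 0) m = m ^ p := by simp
  have hmem0 : (0 : ℕ) ∈ Finset.range p := Finset.mem_range.mpr hp
  rw [← Finset.mul_prod_erase _ _ hmem0, h0] at hD
  have hrest : ∏ k ∈ (Finset.range p).erase 0, ∏ i ∈ Finset.range p, ((x ^ i * y) ^ k) m ∈ Z₀ := by
    apply Subgroup.prod_mem
    intro k hk'
    exact hk k (Finset.mem_of_mem_erase hk') (Finset.ne_of_mem_erase hk')
  exact (Subgroup.mul_mem_cancel_right Z₀ hrest).mp hD

end avg

section conjaut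
variable {G : Type*} [Group G]

/-- conjugation by a normalizing element as an automorphism of the subgroup -/
def conjAut (D : Subgroup G) (s : G) (hs : ∀ d ∈ D, s * d * s⁻¹ ∈ D)
    (hs' : ∀ d ∈ D, s⁻¹ * d * s ∈ D) : MulAut D where
  toFun d := ⟨s * d * s⁻¹, hs d d.2⟩
  invFun d := ⟨s⁻¹ * d * s, hs' d d.2⟩
  left_inv d := Subtype.ext (by simp [mul_assoc])
  right_inv d := Subtype.ext (by simp [mul_assoc])
  map_mul' a b := Subtype.ext (by simp [mul_assoc])

lemma conjAut_apply (D : Subgroup G) (s : G) (hs : ∀ d ∈ D, s * d * s⁻¹ ∈ D)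
    (hs' : ∀ d ∈ D, s⁻¹ * d * s ∈ D) (d : D) :
    ((conjAut D s hs hs') d : G) = s * d * s⁻¹ := rfl

lemma conjAut_pow_apply (D : Subgroup G) (s : G) (hs : ∀ d ∈ D, s * d * s⁻¹ ∈ D)
    (hs' : ∀ d ∈ D, s⁻¹ * d * s ∈ D) (k : ℕ) (d : D) :
    (((conjAut D s hs hs') ^ k) d : G) = s ^ k * d * (s ^ k)⁻¹ := by
  induction k generalizing d with
  | zero => simp
  | succ k ih =>
    rw [pow_succ, MulAut.mul_apply, ih, conjAut_apply, pow_succ]
    group

/-- Lemma F1 -/
lemma pow_mem_of_two_aut (D : Subgroup G) (habD : ∀ a ∈ D, ∀ b ∈ D, a * b = b * a)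
    (Z₀ : Subgroup G) (p : ℕ) (hp : 0 < p) (s₁ s₂ : G)
    (h1 : ∀ d ∈ D, s₁ * d * s₁⁻¹ ∈ D) (h1' : ∀ d ∈ D, s₁⁻¹ * d * s₁ ∈ D)
    (h2 : ∀ d ∈ D, s₂ * d * s₂⁻¹ ∈ D) (h2' : ∀ d ∈ D, s₂⁻¹ * d * s₂ ∈ D)
    (hcomm : ∀ d ∈ D, s₁ * (s₂ * d * s₂⁻¹) * s₁⁻¹ = s₂ * (s₁ * d * s₁⁻¹) * s₂⁻¹)
    (hp1 : ∀ d ∈ D, s₁ ^ p * d * (s₁ ^ p)⁻¹ = d) (hp2 : ∀ d ∈ D, s₂ ^ p * d * (s₂ ^ p)⁻¹ = d)
    (hfx : ∀ k, 0 < k → k < p → ∀ d ∈ D, s₁ ^ k * d * (s₁ ^ k)⁻¹ = d → d ∈ Z₀)
    (hfy : ∀ i, i < p → ∀ d ∈ D, (s₁ ^ i * s₂) * d * (s₁ ^ i * s₂)⁻¹ = d → d ∈ Z₀) :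
    ∀ d ∈ D, d ^ p ∈ Z₀ := by
  intro d hd
  let _ : CommGroup D :=
    { (inferInstance : Group D) with
      mul_comm := fun a b => Subtype.ext (habD a a.2 b b.2) }
  have key := avg_fix (Z₀.subgroupOf D) p hp (conjAut D s₁ h1 h1') (conjAut D s₂ h2 h2')
    (by
      ext m
      rw [MulAut.mul_apply, MulAut.mul_apply, conjAut_apply, conjAut_apply, conjAut_apply,
        conjAut_apply]
      exact hcomm m m.2)
    (by
      ext m
      rw [conjAut_pow_apply, MulAut.one_apply]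
      exact hp1 m m.2)
    (by
      ext m
      rw [conjAut_pow_apply, MulAut.one_apply]
      exact hp2 m m.2)
    (by
      intro k hk0 hkp m hm
      rw [Subgroup.mem_subgroupOf]
      apply hfx k hk0 hkp m m.2
      have h0 := congrArg Subtype.val hm
      rw [conjAut_pow_apply] at h0
      exact h0)
    (by
      intro i hi m hm
      rw [Subgroup.mem_subgroupOf]
      apply hfy i hi m m.2
      have h0 := congrArg Subtype.val hm
      rw [MulAut.mul_apply, conjAut_pow_apply, conjAut_apply] at h0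
      have h3 : s₁ ^ i * s₂ * (m : G) * (s₁ ^ i * s₂)⁻¹ =
          s₁ ^ i * (s₂ * (m : G) * s₂⁻¹) * (s₁ ^ i)⁻¹ := by group
      rw [h3]
      exact h0)
    ⟨d, hd⟩
  rw [Subgroup.mem_subgroupOf] at key
  exact key

end conjaut

section comm
variable {G : Type*} [Group G]

/-- the commutator map `s ↦ s u s⁻¹ u⁻¹` -/
def cm (u s : G) : G := s * u * s⁻¹ * u⁻¹

lemma cm_mul {u s t : G} (hs : cm u s ∈ Subgroup.center G) (ht : cm u t ∈ Subgroup.center G) :
    cm u (s * t) = cm u s * cm u t := by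
  unfold cm at *
  have h := Subgroup.mem_center_iff.mp ht
  have h' := Subgroup.mem_center_iff.mp hs
  calc s * t * u * (s * t)⁻¹ * u⁻¹ = s * (t * u * t⁻¹ * u⁻¹) * (u * s⁻¹ * u⁻¹) := by group
    _ = (t * u * t⁻¹ * u⁻¹) * s * (u * s⁻¹ * u⁻¹) := by rw [h s]
    _ = (t * u * t⁻¹ * u⁻¹) * (s * u * s⁻¹ * u⁻¹) := by group
    _ = (s * u * s⁻¹ * u⁻¹) * (t * u * t⁻¹ * u⁻¹) := by rw [h (s * u * s⁻¹ * u⁻¹)]

lemma cm_one (u : G) : cm u 1 = 1 := by unfold cm; group

lemma cm_pow {u s : G} (hs : cm u s ∈ Subgroup.center G) (k : ℕ) : cm u (s ^ k) = cm u s ^ k := by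
  induction k with
  | zero => rw [pow_zero, pow_zero, cm_one]
  | succ k ih =>
    have h1 : cm u (s ^ k) ∈ Subgroup.center G := by rw [ih]; exact Subgroup.pow_mem _ hs k
    rw [pow_succ, cm_mul h1 hs, ih, pow_succ]

lemma cm_inv {u s : G} (hs : cm u s ∈ Subgroup.center G)
    (hs' : cm u s⁻¹ ∈ Subgroup.center G) : cm u s⁻¹ = (cm u s)⁻¹ := by
  have h1 := cm_mul hs' hs
  rw [inv_mul_cancel, cm_one] at h1
  exact eq_inv_of_mul_eq_one_left h1.symm

lemma cm_eq_one_iff {u s : G} : cm u s = 1 ↔ s ∈ Subgroup.centralizer ({u} : Set G) := by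
  rw [Subgroup.mem_centralizer_singleton_iff]
  unfold cm
  constructor
  · intro h
    calc s * u = (s * u * s⁻¹ * u⁻¹) * (u * s) := by group
      _ = u * s := by rw [h, one_mul]
  · intro h
    calc s * u * s⁻¹ * u⁻¹ = (s * u) * s⁻¹ * u⁻¹ := by group
      _ = (u * s) * s⁻¹ * u⁻¹ := by rw [h]
      _ = 1 := by group

lemma cm_pow_prime {u s : G} {ℓ : ℕ} (hs : cm u s ∈ Subgroup.center G)
    (hu : u ^ ℓ ∈ Subgroup.center G) : cm u s ^ ℓ = 1 := by
  have h1 : s * u * s⁻¹ = cm u s * u := by unfold cm; group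
  have hc : Commute (cm u s) u := (Subgroup.mem_center_iff.mp hs u).symm
  have h2 : (s * u * s⁻¹) ^ ℓ = s * u ^ ℓ * s⁻¹ := conj_pow
  have h3 : s * u ^ ℓ * s⁻¹ = u ^ ℓ := by
    rw [Subgroup.mem_center_iff.mp hu s]; group
  rw [h1, hc.mul_pow, h3] at h2
  exact mul_eq_right.mp h2

end comm

lemma card_le_fibers {α β : Type*} [Finite α] [Finite β] (f : α → β) (c : ℕ)
    (h : ∀ a₀ : α, Nat.card {a // f a = f a₀} ≤ c) : Nat.card α ≤ Nat.card β * c := by
  classical
  have := Fintype.ofFinite β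
  rw [← Nat.card_congr (Equiv.sigmaFiberEquiv f), Nat.card_sigma]
  calc ∑ b, Nat.card {a // f a = b} ≤ ∑ _b : β, c := by
        apply Finset.sum_le_sum
        intro b _
        by_cases hb : Nonempty {a // f a = b}
        · obtain ⟨⟨a₀, ha₀⟩⟩ := hb
          rw [← ha₀]
          exact h a₀
        · rw [not_nonempty_iff] at hb
          rw [Nat.card_of_isEmpty]
          exact Nat.zero_le _
    _ = Nat.card β * c := by simp [Nat.card_eq_fintype_card]

/-- an element of the "second centre" of a `p`-subgroup -/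
lemma exists_second_center {G : Type*} [Group G] [Finite G] (ℓ : ℕ) [Fact ℓ.Prime]
    (P : Subgroup G) (hP : IsPGroup ℓ P)
    (hZ : ∀ z ∈ P, (∀ s ∈ P, s * z = z * s) → z ∈ Subgroup.center G)
    (hne : ∃ x ∈ P, x ∉ Subgroup.center G) :
    ∃ u ∈ P, u ∉ Subgroup.center G ∧ (∀ s ∈ P, s * u * s⁻¹ * u⁻¹ ∈ Subgroup.center G) ∧
      u ^ ℓ ∈ Subgroup.center G := by
  classical
  have hℓ : ℓ.Prime := Fact.out
  obtain ⟨x, hxP, hxZ⟩ := hne
  have hcen : ∀ z : P, z ∈ Subgroup.center P → (z : G) ∈ Subgroup.center G := by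
    intro z hz
    apply hZ z z.2
    intro s hs
    have h0 := Subgroup.mem_center_iff.mp hz ⟨s, hs⟩
    have h1 := congrArg Subtype.val h0
    exact h1
  have hQp : IsPGroup ℓ (P ⧸ Subgroup.center P) := hP.to_quotient _
  have hQnt : Nontrivial (P ⧸ Subgroup.center P) := by
    refine ⟨⟨(QuotientGroup.mk (⟨x, hxP⟩ : P) : P ⧸ Subgroup.center P), 1, ?_⟩⟩
    intro h
    rw [QuotientGroup.eq_one_iff] at h
    exact hxZ (hcen _ h)
  have hcnt : Nontrivial (Subgroup.center (P ⧸ Subgroup.center P)) := hQp.center_nontrivial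
  have hcp : IsPGroup ℓ (Subgroup.center (P ⧸ Subgroup.center P)) := hQp.to_subgroup _
  have hdvd : ℓ ∣ Nat.card (Subgroup.center (P ⧸ Subgroup.center P)) := by
    obtain ⟨m, hm⟩ := IsPGroup.iff_card.mp hcp
    rw [hm]
    have hm0 : m ≠ 0 := by
      rintro rfl
      rw [pow_zero, Nat.card_eq_one_iff_unique] at hm
      have := hm.1
      exact not_subsingleton (Subgroup.center (P ⧸ Subgroup.center P)) this
    exact dvd_pow_self ℓ hm0
  obtain ⟨c, hc⟩ := exists_prime_orderOf_dvd_card' ℓ hdvd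
  obtain ⟨u, hu⟩ := QuotientGroup.mk_surjective (c : P ⧸ Subgroup.center P)
  have hc1 : (c : P ⧸ Subgroup.center P) ≠ 1 := by
    intro h
    have h1 : c = 1 := Subtype.ext h
    rw [h1, orderOf_one] at hc
    exact hℓ.one_lt.ne hc
  refine ⟨u, u.2, ?_, ?_, ?_⟩
  · intro huZ
    apply hc1
    rw [← hu, QuotientGroup.eq_one_iff, Subgroup.mem_center_iff]
    intro g
    exact Subtype.ext (Subgroup.mem_center_iff.mp huZ g)
  · intro s hs
    have h1 := Subgroup.mem_center_iff.mp c.2 (QuotientGroup.mk (⟨s, hs⟩ : P))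
    rw [← hu] at h1
    have h2 : ((⟨s, hs⟩ : P) * u * (⟨s, hs⟩ : P)⁻¹ * u⁻¹) ∈ Subgroup.center P := by
      rw [← QuotientGroup.eq_one_iff, QuotientGroup.mk_mul, QuotientGroup.mk_mul,
        QuotientGroup.mk_mul, QuotientGroup.mk_inv, QuotientGroup.mk_inv, h1]
      group
    exact hcen _ h2
  · have h1 : (u ^ ℓ) ∈ Subgroup.center P := by
      rw [← QuotientGroup.eq_one_iff, QuotientGroup.mk_pow, hu]
      have h3 := pow_orderOf_eq_one c
      rw [hc] at h3
      have h4 := congrArg Subtype.val h3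
      simpa using h4
    exact hcen _ h1

section two
variable {G : Type*} [Group G] [Finite G] {n : ℕ}

/-- the standing hypothesis: noncentral elements have class size `n` -/
def Two (G : Type*) [Group G] (n : ℕ) : Prop :=
  ∀ x : G, x ∉ Subgroup.center G → (Subgroup.centralizer ({x} : Set G)).index = n

lemma card_cent (h2 : Two G n) {x : G} (hx : x ∉ Subgroup.center G) :
    Nat.card (Subgroup.centralizer ({x} : Set G)) * n = Nat.card G := by
  rw [← h2 x hx]; exact Subgroup.card_mul_index _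

lemma n_pos (h2 : Two G n) {x : G} (hx : x ∉ Subgroup.center G) : 0 < n := by
  rw [← h2 x hx]
  exact Nat.pos_of_ne_zero Subgroup.index_ne_zero_of_finite

lemma card_cent_eq (h2 : Two G n) {x y : G} (hx : x ∉ Subgroup.center G)
    (hy : y ∉ Subgroup.center G) :
    Nat.card (Subgroup.centralizer ({x} : Set G)) = Nat.card (Subgroup.centralizer ({y} : Set G)) := by
  have h1 := card_cent h2 hx
  have h3 := card_cent h2 hy
  exact Nat.eq_of_mul_eq_mul_right (n_pos h2 hx) (h1.trans h3.symm)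

/-- K1 -/
lemma cent_eq_of_le (h2 : Two G n) {x y : G} (hx : x ∉ Subgroup.center G)
    (hy : y ∉ Subgroup.center G)
    (hle : Subgroup.centralizer ({x} : Set G) ≤ Subgroup.centralizer ({y} : Set G)) :
    Subgroup.centralizer ({x} : Set G) = Subgroup.centralizer ({y} : Set G) :=
  Subgroup.eq_of_le_of_card_ge hle (card_cent_eq h2 hx hy).symm.le

/-- K2 -/
lemma cent_le_of_coprime (h2 : Two G n) {x y : G} (hx : x ∉ Subgroup.center G)
    (hc : Commute x y) (hcop : (orderOf x).Coprime (orderOf y)) :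
    Subgroup.centralizer ({x} : Set G) ≤ Subgroup.centralizer ({y} : Set G) := by
  have h1 := cent_mul hc hcop
  have hxy : x * y ∉ Subgroup.center G := by
    intro hmem
    apply hx
    have h3 : Subgroup.centralizer ({x * y} : Set G) = ⊤ := by
      rw [eq_top_iff]
      intro g _
      rw [mem_cent_iff]
      exact (Subgroup.mem_center_iff.mp hmem g)
    rw [Subgroup.mem_center_iff]
    intro g
    have h4 : g ∈ Subgroup.centralizer ({x} : Set G) := by
      have : g ∈ Subgroup.centralizer ({x * y} : Set G) := h3 ▸ Subgroup.mem_top g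
      rw [h1] at this
      exact this.1
    exact mem_cent_iff.mp h4
  have h5 : Subgroup.centralizer ({x * y} : Set G) = Subgroup.centralizer ({x} : Set G) :=
    cent_eq_of_le h2 hxy hx (h1 ▸ inf_le_left)
  rw [← h5, h1]
  exact inf_le_right

/-- Step B -/
lemma abelian_of_commute (h2 : Two G n) {q : ℕ} (hq : q.Prime) {x w : G}
    (hx : x ∉ Subgroup.center G) (hxo : ∃ k : ℕ, orderOf x = q ^ k)
    (hw : w ∉ Subgroup.center G) (hwo : ¬ q ∣ orderOf w) (hc : Commute x w) :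
    ∀ a ∈ Subgroup.centralizer ({x} : Set G), ∀ b ∈ Subgroup.centralizer ({x} : Set G),
      a * b = b * a := by
  obtain ⟨k, hk⟩ := hxo
  have hcopxw : (orderOf x).Coprime (orderOf w) := by
    rw [hk]
    exact Nat.Coprime.pow_left k ((Nat.Prime.coprime_iff_not_dvd hq).mpr hwo)
  have hxw : Subgroup.centralizer ({x} : Set G) ≤ Subgroup.centralizer ({w} : Set G) :=
    cent_le_of_coprime h2 hx hc hcopxw
  intro a ha b hb
  obtain ⟨wb, ub, hb1, hb2, ⟨kb, hb3⟩, hb4, hb5⟩ := Cfsg.Agent.S4106.exists_decomp q hq b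
  have hcopb : (orderOf wb).Coprime (orderOf ub) := by
    rw [hb3]
    exact (Nat.Coprime.pow_left kb ((Nat.Prime.coprime_iff_not_dvd hq).mpr hb5)).symm
  have hcb := cent_mul (show Commute wb ub from hb2) hcopb
  have hxb : x ∈ Subgroup.centralizer ({wb * ub} : Set G) := by
    rw [← hb1, mem_cent_iff]
    exact (mem_cent_iff.mp hb).symm
  rw [hcb] at hxb
  have hxwb : Commute x wb := mem_cent_iff.mp hxb.1
  have hxub : Commute x ub := mem_cent_iff.mp hxb.2
  -- a commutes with wb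
  have h1 : Subgroup.centralizer ({x} : Set G) ≤ Subgroup.centralizer ({wb} : Set G) := by
    apply cent_le_of_coprime h2 hx hxwb
    rw [hk]
    exact Nat.Coprime.pow_left k ((Nat.Prime.coprime_iff_not_dvd hq).mpr hb5)
  -- a commutes with ub
  have h3 : Subgroup.centralizer ({x} : Set G) ≤ Subgroup.centralizer ({ub} : Set G) := by
    have hubw : ub ∈ Subgroup.centralizer ({w} : Set G) := hxw (mem_cent_iff.mpr hxub.symm.eq)
    have hwub : Commute w ub := (mem_cent_iff.mp hubw).symm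
    refine le_trans hxw (cent_le_of_coprime h2 hw hwub ?_)
    rw [hb3]
    exact (Nat.Coprime.pow_left kb ((Nat.Prime.coprime_iff_not_dvd hq).mpr hwo)).symm
  have ha1 : Commute a wb := mem_cent_iff.mp (h1 ha)
  have ha2 : Commute a ub := mem_cent_iff.mp (h3 ha)
  rw [hb1]
  exact (ha1.mul_right ha2).eq

/-- Lemma S: every noncentral centralizer contains a noncentral `ℓ`-element as soon as there is
one in the group. -/
lemma exists_noncentral_pelem (h2 : Two G n) {ℓ : ℕ} [Fact ℓ.Prime] {x g : G}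
    (hx : x ∉ Subgroup.center G) (hxo : ∃ k : ℕ, orderOf x = ℓ ^ k)
    (hg : g ∉ Subgroup.center G) :
    ∃ y ∈ Subgroup.centralizer ({g} : Set G), y ∉ Subgroup.center G ∧
      ∃ k : ℕ, orderOf y = ℓ ^ k := by
  classical
  have hℓ : ℓ.Prime := Fact.out
  obtain ⟨k, hk⟩ := hxo
  set j := (Nat.card (Subgroup.center G)).factorization ℓ with hj
  -- ℓ^(j+1) divides the order of C(x)
  have hdvd : ℓ ^ (j + 1) ∣ Nat.card (Subgroup.centralizer ({x} : Set G)) := by
    have hZle := center_le_cent x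
    have hcard : Nat.card ((Subgroup.center G).subgroupOf (Subgroup.centralizer ({x} : Set G))) =
        Nat.card (Subgroup.center G) :=
      Nat.card_congr (Subgroup.subgroupOfEquivOfLe hZle).toEquiv
    have h1 := ((Subgroup.center G).subgroupOf (Subgroup.centralizer ({x} : Set G))).card_mul_index
    rw [hcard] at h1
    rw [← h1, pow_succ]
    refine mul_dvd_mul (Nat.ordProj_dvd _ _) ?_
    -- ℓ divides the index
    rw [Subgroup.index_eq_card]
    set xb : Subgroup.centralizer ({x} : Set G) ⧸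
        (Subgroup.center G).subgroupOf (Subgroup.centralizer ({x} : Set G)) :=
      QuotientGroup.mk (⟨x, self_mem_cent x⟩ : Subgroup.centralizer ({x} : Set G)) with hxb
    have hxb1 : xb ≠ 1 := by
      intro h
      rw [hxb, QuotientGroup.eq_one_iff, Subgroup.mem_subgroupOf] at h
      exact hx h
    have h3 : orderOf xb ∣ ℓ ^ k := by
      have h4 : orderOf xb ∣ orderOf (⟨x, self_mem_cent x⟩ : Subgroup.centralizer ({x} : Set G)) :=
        orderOf_map_dvd (QuotientGroup.mk' _) _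
      rw [Subgroup.orderOf_mk, hk] at h4
      exact h4
    obtain ⟨i, -, hi⟩ := (Nat.dvd_prime_pow hℓ).mp h3
    have hi0 : i ≠ 0 := by
      rintro rfl
      rw [pow_zero, orderOf_eq_one_iff] at hi
      exact hxb1 hi
    exact dvd_trans (dvd_trans (dvd_pow_self ℓ hi0) (dvd_of_eq hi.symm)) (orderOf_dvd_natCard xb)
  rw [card_cent_eq h2 hx hg] at hdvd
  obtain ⟨K, hK⟩ := Sylow.exists_subgroup_card_pow_prime ℓ hdvd
  by_contra hcon
  push Not at hcon
  have hKZ : K.map (Subgroup.centralizer ({g} : Set G)).subtype ≤ Subgroup.center G := by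
    rintro _ ⟨y, hy, rfl⟩
    by_contra hyZ
    have h1 : orderOf y ∣ ℓ ^ (j + 1) := hK ▸ Subgroup.orderOf_dvd_natCard K hy
    obtain ⟨i, -, hi⟩ := (Nat.dvd_prime_pow hℓ).mp h1
    exact hcon (y : G) y.2 hyZ i (by rw [Subgroup.orderOf_coe]; exact hi)
  have h5 := Subgroup.card_dvd_of_le hKZ
  rw [Subgroup.card_map_of_injective (Subgroup.subtype_injective _), hK] at h5
  exact Nat.pow_succ_factorization_not_dvd Nat.card_pos.ne' hℓ h5

/-- Step E': all centralizers of noncentral elements are abelian. -/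
lemma abelian_cent (h2 : Two G n) {q t : ℕ} [Fact q.Prime] [Fact t.Prime] (hqt : q ≠ t)
    {x₀ y₀ : G} (hx₀ : x₀ ∉ Subgroup.center G) (hx₀o : ∃ k : ℕ, orderOf x₀ = q ^ k)
    (hy₀ : y₀ ∉ Subgroup.center G) (hy₀o : ∃ k : ℕ, orderOf y₀ = t ^ k)
    {g : G} (hg : g ∉ Subgroup.center G) :
    ∀ a ∈ Subgroup.centralizer ({g} : Set G), ∀ b ∈ Subgroup.centralizer ({g} : Set G),
      a * b = b * a := by
  have hq : q.Prime := Fact.out
  have ht : t.Prime := Fact.out
  obtain ⟨x₃, hx₃g, hx₃, hx₃o⟩ := exists_noncentral_pelem h2 hx₀ hx₀o hg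
  obtain ⟨y₃, hy₃g, hy₃, ⟨ky, hy₃o⟩⟩ := exists_noncentral_pelem h2 hy₀ hy₀o hg
  obtain ⟨w, u, hg1, hg2, ⟨ku, hg3⟩, hg4, hg5⟩ := Cfsg.Agent.S4106.exists_decomp q hq g
  have hcop : (orderOf w).Coprime (orderOf u) := by
    rw [hg3]
    exact (Nat.Coprime.pow_left ku ((Nat.Prime.coprime_iff_not_dvd hq).mpr hg5)).symm
  have hcg := cent_mul (show Commute w u from hg2) hcop
  rw [← hg1] at hcg
  by_cases hw : w ∈ Subgroup.center G
  · have hu : u ∉ Subgroup.center G := by
      intro hu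
      apply hg
      rw [hg1]
      exact Subgroup.mul_mem _ hw hu
    have h1 : Subgroup.centralizer ({g} : Set G) = Subgroup.centralizer ({u} : Set G) :=
      cent_eq_of_le h2 hg hu (hcg ▸ inf_le_right)
    rw [h1]
    have hy₃u : y₃ ∈ Subgroup.centralizer ({u} : Set G) := h1 ▸ hy₃g
    have hc : Commute u y₃ := (mem_cent_iff.mp hy₃u).symm
    exact abelian_of_commute h2 hq hu ⟨ku, hg3⟩ hy₃ (by
      rw [hy₃o]; exact not_dvd_prime_pow hq ht hqt ky) hc
  · have h1 : Subgroup.centralizer ({g} : Set G) = Subgroup.centralizer ({w} : Set G) :=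
      cent_eq_of_le h2 hg hw (hcg ▸ inf_le_left)
    have hx₃w : x₃ ∈ Subgroup.centralizer ({w} : Set G) := h1 ▸ hx₃g
    have hc : Commute x₃ w := (mem_cent_iff.mp hx₃w)
    have hab := abelian_of_commute h2 hq hx₃ hx₃o hw hg5 hc
    obtain ⟨kx, hkx⟩ := hx₃o
    have h3 : Subgroup.centralizer ({x₃} : Set G) = Subgroup.centralizer ({w} : Set G) := by
      apply cent_eq_of_le h2 hx₃ hw
      apply cent_le_of_coprime h2 hx₃ hc
      rw [hkx]
      exact Nat.Coprime.pow_left kx ((Nat.Prime.coprime_iff_not_dvd hq).mpr hg5)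
    rw [h1, ← h3]
    exact hab

/-- K3 -/
lemma cent_eq_of_mem (h2 : Two G n)
    (hab : ∀ g : G, g ∉ Subgroup.center G → ∀ a ∈ Subgroup.centralizer ({g} : Set G),
      ∀ b ∈ Subgroup.centralizer ({g} : Set G), a * b = b * a)
    {a b : G} (ha : a ∉ Subgroup.center G) (hb : b ∉ Subgroup.center G)
    (hba : b ∈ Subgroup.centralizer ({a} : Set G)) :
    Subgroup.centralizer ({b} : Set G) = Subgroup.centralizer ({a} : Set G) := by
  refine (cent_eq_of_le h2 ha hb ?_).symm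
  intro c hc
  rw [mem_cent_iff]
  exact hab a ha c hc b hba

lemma conj_not_mem_center {a y : G} (hy : y ∉ Subgroup.center G) :
    a * y * a⁻¹ ∉ Subgroup.center G := by
  intro h
  apply hy
  have h1 : y = a⁻¹ * (a * y * a⁻¹) * a⁻¹⁻¹ := by group
  rw [h1]
  exact (inferInstance : (Subgroup.center G).Normal).conj_mem _ h a⁻¹

/-- N1 -/
lemma conj_mem_cent (h2 : Two G n)
    (hab : ∀ g : G, g ∉ Subgroup.center G → ∀ a ∈ Subgroup.centralizer ({g} : Set G),
      ∀ b ∈ Subgroup.centralizer ({g} : Set G), a * b = b * a)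
    {g y a : G} (hg : g ∉ Subgroup.center G) (hy : y ∉ Subgroup.center G)
    (hyg : y ∈ Subgroup.centralizer ({g} : Set G))
    (hay : a * y * a⁻¹ ∈ Subgroup.centralizer ({g} : Set G)) :
    ∀ d ∈ Subgroup.centralizer ({g} : Set G), a * d * a⁻¹ ∈ Subgroup.centralizer ({g} : Set G) := by
  intro d hd
  have h1 := cent_eq_of_mem h2 hab hg hy hyg
  have h3 := cent_eq_of_mem h2 hab hg (conj_not_mem_center hy) hay
  rw [← h3, mem_cent_iff]
  have hdy : d * y = y * d := by
    have : d ∈ Subgroup.centralizer ({y} : Set G) := h1 ▸ hd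
    exact mem_cent_iff.mp this
  calc a * d * a⁻¹ * (a * y * a⁻¹) = a * (d * y) * a⁻¹ := by group
    _ = a * (y * d) * a⁻¹ := by rw [hdy]
    _ = a * y * a⁻¹ * (a * d * a⁻¹) := by group

/-- Step F: `ℓ ∣ n` implies `ℓ ^ 2 ∤ n`. -/
lemma not_sq_dvd (h2 : Two G n)
    (hab : ∀ g : G, g ∉ Subgroup.center G → ∀ a ∈ Subgroup.centralizer ({g} : Set G),
      ∀ b ∈ Subgroup.centralizer ({g} : Set G), a * b = b * a)
    {q t : ℕ} [Fact q.Prime] [Fact t.Prime] (hqt : q ≠ t)
    {x₀ y₀ : G} (hx₀ : x₀ ∉ Subgroup.center G) (hx₀o : ∃ k : ℕ, orderOf x₀ = q ^ k)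
    (hy₀ : y₀ ∉ Subgroup.center G) (hy₀o : ∃ k : ℕ, orderOf y₀ = t ^ k)
    (ℓ : ℕ) [Fact ℓ.Prime] (hℓn : ℓ ∣ n) : ¬ ℓ ^ 2 ∣ n := by
  classical
  have hℓ : ℓ.Prime := Fact.out
  have hq : q.Prime := Fact.out
  have ht : t.Prime := Fact.out
  intro hsq
  obtain ⟨L⟩ : Nonempty (Sylow ℓ G) := inferInstance
  have hLcent : ∀ g : G, g ∉ Subgroup.center G →
      ¬ (L : Subgroup G) ≤ Subgroup.centralizer ({g} : Set G) := by
    intro g hg hle
    have h1 : (Subgroup.centralizer ({g} : Set G)).index ∣ (L : Subgroup G).index :=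
      Subgroup.index_dvd_of_le hle
    rw [h2 g hg] at h1
    exact L.not_dvd_index (dvd_trans hℓn h1)
  have hZ : ∀ z ∈ (L : Subgroup G), (∀ s ∈ (L : Subgroup G), s * z = z * s) →
      z ∈ Subgroup.center G := by
    intro z hz hs
    by_contra hzZ
    exact hLcent z hzZ (fun s hsL => mem_cent_iff.mpr (hs s hsL))
  have hne : ∃ x ∈ (L : Subgroup G), x ∉ Subgroup.center G := by
    by_contra hcon
    push Not at hcon
    exact hLcent x₀ hx₀ (fun s hsL => center_le_cent x₀ (hcon s hsL))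
  obtain ⟨u, huL, huZ, hucm, huℓ⟩ := exists_second_center ℓ (L : Subgroup G) L.2 hZ hne
  have hDab := hab u huZ
  have hcmZ : ∀ s ∈ (L : Subgroup G), cm u s ∈ Subgroup.center G := hucm
  obtain ⟨s₁, hs₁L, hs₁⟩ : ∃ s₁ ∈ (L : Subgroup G), cm u s₁ ≠ 1 := by
    by_contra hcon
    push Not at hcon
    exact hLcent u huZ (fun s hsL => cm_eq_one_iff.mp (hcon s hsL))
  have hz₁ℓ : cm u s₁ ^ ℓ = 1 := cm_pow_prime (hcmZ s₁ hs₁L) huℓ
  have hz₁ord : orderOf (cm u s₁) = ℓ := orderOf_eq_prime hz₁ℓ hs₁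
  have hnorm : ∀ s ∈ (L : Subgroup G), ∀ d ∈ Subgroup.centralizer ({u} : Set G),
      s * d * s⁻¹ ∈ Subgroup.centralizer ({u} : Set G) := by
    intro s hs d hd
    rw [mem_cent_iff]
    have hz := Subgroup.mem_center_iff.mp (hcmZ s⁻¹ (inv_mem hs))
    have hsu : s⁻¹ * u * s = cm u s⁻¹ * u := by unfold cm; group
    have hdu : d * u = u * d := mem_cent_iff.mp hd
    have hd1 : d * (s⁻¹ * u * s) = (s⁻¹ * u * s) * d := by
      rw [hsu]
      calc d * (cm u s⁻¹ * u) = (d * cm u s⁻¹) * u := by group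
        _ = (cm u s⁻¹ * d) * u := by rw [hz d]
        _ = cm u s⁻¹ * (d * u) := by group
        _ = cm u s⁻¹ * (u * d) := by rw [hdu]
        _ = cm u s⁻¹ * u * d := by group
    calc s * d * s⁻¹ * u = s * (d * (s⁻¹ * u * s)) * s⁻¹ := by group
      _ = s * ((s⁻¹ * u * s) * d) * s⁻¹ := by rw [hd1]
      _ = u * (s * d * s⁻¹) := by group
  have hnorm' : ∀ s ∈ (L : Subgroup G), ∀ d ∈ Subgroup.centralizer ({u} : Set G),
      s⁻¹ * d * s ∈ Subgroup.centralizer ({u} : Set G) := by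
    intro s hs d hd
    have h1 := hnorm s⁻¹ (inv_mem hs) d hd
    rwa [inv_inv] at h1
  by_cases hcase : ∃ s₂ ∈ (L : Subgroup G), cm u s₂ ∉ Subgroup.zpowers (cm u s₁)
  · obtain ⟨s₂, hs₂L, hs₂⟩ := hcase
    have key := pow_mem_of_two_aut (Subgroup.centralizer ({u} : Set G)) hDab (Subgroup.center G)
      ℓ hℓ.pos s₁ s₂ (hnorm s₁ hs₁L) (hnorm' s₁ hs₁L) (hnorm s₂ hs₂L) (hnorm' s₂ hs₂L)
      ?_ ?_ ?_ ?_ ?_
    · obtain ⟨x₃, hx₃D, hx₃, ⟨kx, hx₃o⟩⟩ := exists_noncentral_pelem h2 hx₀ hx₀o huZ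
      obtain ⟨y₃, hy₃D, hy₃, ⟨ky, hy₃o⟩⟩ := exists_noncentral_pelem h2 hy₀ hy₀o huZ
      by_cases hℓq : ℓ = q
      · have hcop : ℓ.Coprime (orderOf y₃) := by
          rw [hy₃o]
          exact Nat.Coprime.pow_right ky ((Nat.coprime_primes hℓ ht).mpr (hℓq ▸ hqt))
        obtain ⟨m, hm⟩ := exists_pow_eq_self_of_coprime hcop
        apply hy₃
        rw [← hm]
        exact Subgroup.pow_mem _ (key y₃ hy₃D) m
      · have hcop : ℓ.Coprime (orderOf x₃) := by
          rw [hx₃o]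
          exact Nat.Coprime.pow_right kx ((Nat.coprime_primes hℓ hq).mpr hℓq)
        obtain ⟨m, hm⟩ := exists_pow_eq_self_of_coprime hcop
        apply hx₃
        rw [← hm]
        exact Subgroup.pow_mem _ (key x₃ hx₃D) m
    · intro d hd
      have ha := Subgroup.mem_center_iff.mp (hcmZ s₁ hs₁L)
      have hcD : s₁⁻¹ * s₂⁻¹ * s₁ * s₂ ∈ Subgroup.centralizer ({u} : Set G) := by
        rw [← cm_eq_one_iff]
        have e1 : cm u (s₁⁻¹ * s₂⁻¹) = cm u s₁⁻¹ * cm u s₂⁻¹ :=
          cm_mul (hcmZ _ (inv_mem hs₁L)) (hcmZ _ (inv_mem hs₂L))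
        have e2 : cm u (s₁⁻¹ * s₂⁻¹ * s₁) = cm u (s₁⁻¹ * s₂⁻¹) * cm u s₁ :=
          cm_mul (hcmZ _ (mul_mem (inv_mem hs₁L) (inv_mem hs₂L))) (hcmZ _ hs₁L)
        have e3 : cm u (s₁⁻¹ * s₂⁻¹ * s₁ * s₂) = cm u (s₁⁻¹ * s₂⁻¹ * s₁) * cm u s₂ :=
          cm_mul (hcmZ _ (mul_mem (mul_mem (inv_mem hs₁L) (inv_mem hs₂L)) hs₁L)) (hcmZ _ hs₂L)
        rw [e3, e2, e1, cm_inv (hcmZ _ hs₁L) (hcmZ _ (inv_mem hs₁L)),
          cm_inv (hcmZ _ hs₂L) (hcmZ _ (inv_mem hs₂L))]
        calc (cm u s₁)⁻¹ * (cm u s₂)⁻¹ * cm u s₁ * cm u s₂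
            = (cm u s₁)⁻¹ * ((cm u s₂)⁻¹ * cm u s₁) * cm u s₂ := by group
          _ = (cm u s₁)⁻¹ * (cm u s₁ * (cm u s₂)⁻¹) * cm u s₂ := by rw [ha (cm u s₂)⁻¹]
          _ = 1 := by group
      have hcd : s₁⁻¹ * s₂⁻¹ * s₁ * s₂ * d = d * (s₁⁻¹ * s₂⁻¹ * s₁ * s₂) := hDab _ hcD d hd
      calc s₁ * (s₂ * d * s₂⁻¹) * s₁⁻¹
          = s₂ * s₁ * (s₁⁻¹ * s₂⁻¹ * s₁ * s₂ * d) * (s₁⁻¹ * s₂⁻¹ * s₁ * s₂)⁻¹ * s₁⁻¹ * s₂⁻¹ := by
            group
        _ = s₂ * s₁ * (d * (s₁⁻¹ * s₂⁻¹ * s₁ * s₂)) * (s₁⁻¹ * s₂⁻¹ * s₁ * s₂)⁻¹ * s₁⁻¹ * s₂⁻¹ := by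
            rw [hcd]
        _ = s₂ * (s₁ * d * s₁⁻¹) * s₂⁻¹ := by group
    · intro d hd
      have h1 : s₁ ^ ℓ ∈ Subgroup.centralizer ({u} : Set G) := by
        rw [← cm_eq_one_iff, cm_pow (hcmZ s₁ hs₁L), hz₁ℓ]
      have h3 : s₁ ^ ℓ * d = d * s₁ ^ ℓ := hDab _ h1 d hd
      rw [h3]; group
    · intro d hd
      have h0 : cm u s₂ ^ ℓ = 1 := cm_pow_prime (hcmZ s₂ hs₂L) huℓ
      have h1 : s₂ ^ ℓ ∈ Subgroup.centralizer ({u} : Set G) := by
        rw [← cm_eq_one_iff, cm_pow (hcmZ s₂ hs₂L), h0]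
      have h3 : s₂ ^ ℓ * d = d * s₂ ^ ℓ := hDab _ h1 d hd
      rw [h3]; group
    · intro k hk0 hkℓ d hd hfix
      by_contra hdZ
      have hCd := cent_eq_of_mem h2 hab huZ hdZ hd
      have h1 : s₁ ^ k ∈ Subgroup.centralizer ({d} : Set G) := by
        rw [mem_cent_iff]
        calc s₁ ^ k * d = (s₁ ^ k * d * (s₁ ^ k)⁻¹) * s₁ ^ k := by group
          _ = d * s₁ ^ k := by rw [hfix]
      rw [hCd, ← cm_eq_one_iff, cm_pow (hcmZ s₁ hs₁L)] at h1
      have h3 : orderOf (cm u s₁) ∣ k := orderOf_dvd_of_pow_eq_one h1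
      rw [hz₁ord] at h3
      exact absurd (Nat.le_of_dvd hk0 h3) (not_le.mpr hkℓ)
    · intro i hi d hd hfix
      by_contra hdZ
      have hCd := cent_eq_of_mem h2 hab huZ hdZ hd
      have h1 : s₁ ^ i * s₂ ∈ Subgroup.centralizer ({d} : Set G) := by
        rw [mem_cent_iff]
        calc s₁ ^ i * s₂ * d = ((s₁ ^ i * s₂) * d * (s₁ ^ i * s₂)⁻¹) * (s₁ ^ i * s₂) := by group
          _ = d * (s₁ ^ i * s₂) := by rw [hfix]
      rw [hCd, ← cm_eq_one_iff,
        cm_mul (by rw [cm_pow (hcmZ s₁ hs₁L)]; exact Subgroup.pow_mem _ (hcmZ s₁ hs₁L) i)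
          (hcmZ s₂ hs₂L), cm_pow (hcmZ s₁ hs₁L)] at h1
      apply hs₂
      have h3 : cm u s₂ = (cm u s₁ ^ i)⁻¹ := eq_inv_of_mul_eq_one_right h1
      rw [h3]
      exact Subgroup.inv_mem _ (Subgroup.pow_mem _ (Subgroup.mem_zpowers _) i)
  · push Not at hcase
    have hcardle : Nat.card (L : Subgroup G) ≤ Nat.card (Subgroup.zpowers (cm u s₁)) *
        Nat.card ((L : Subgroup G) ⊓ Subgroup.centralizer ({u} : Set G) : Subgroup G) := by
      apply card_le_fibers (fun s : (L : Subgroup G) =>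
        (⟨cm u s, hcase s s.2⟩ : Subgroup.zpowers (cm u s₁)))
      intro a₀
      have hmem : ∀ a : {a : (L : Subgroup G) //
          (⟨cm u a, hcase a a.2⟩ : Subgroup.zpowers (cm u s₁)) = ⟨cm u a₀, hcase a₀ a₀.2⟩},
          (a₀ : G)⁻¹ * (a.1 : G) ∈
            ((L : Subgroup G) ⊓ Subgroup.centralizer ({u} : Set G) : Subgroup G) := by
        intro a
        refine Subgroup.mem_inf.mpr
          ⟨(L : Subgroup G).mul_mem ((L : Subgroup G).inv_mem a₀.2) a.1.2, ?_⟩
        have h1 := congrArg Subtype.val a.2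
        have h1' : cm u (a.1 : G) = cm u (a₀ : G) := h1
        rw [← cm_eq_one_iff, cm_mul (hcmZ _ (inv_mem a₀.2)) (hcmZ _ a.1.2),
          cm_inv (hcmZ _ a₀.2) (hcmZ _ (inv_mem a₀.2)), h1', inv_mul_cancel]
      apply Nat.card_le_card_of_injective (fun a => (⟨(a₀ : G)⁻¹ * (a.1 : G), hmem a⟩ :
        ((L : Subgroup G) ⊓ Subgroup.centralizer ({u} : Set G) : Subgroup G)))
      intro a a' haa
      have h1 := congrArg Subtype.val haa
      have h1' : (a₀ : G)⁻¹ * (a.1 : G) = (a₀ : G)⁻¹ * (a'.1 : G) := h1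
      exact Subtype.ext (Subtype.ext (mul_left_cancel h1'))
    rw [Nat.card_zpowers, hz₁ord] at hcardle
    have hLDp : IsPGroup ℓ ((L : Subgroup G) ⊓ Subgroup.centralizer ({u} : Set G) : Subgroup G) :=
      L.2.to_le inf_le_left
    obtain ⟨j, hj⟩ := IsPGroup.iff_card.mp hLDp
    have h5 : ℓ ^ j ∣ Nat.card (Subgroup.centralizer ({u} : Set G)) :=
      hj ▸ Subgroup.card_dvd_of_le inf_le_right
    have h6 : ℓ ^ (j + 2) ∣ Nat.card G := by
      rw [← card_cent h2 huZ, pow_add]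
      exact mul_dvd_mul h5 hsq
    have h7 : j + 2 ≤ (Nat.card G).factorization ℓ :=
      (Nat.Prime.pow_dvd_iff_le_factorization hℓ Nat.card_pos.ne').mp h6
    have h8 : Nat.card (L : Subgroup G) = ℓ ^ (Nat.card G).factorization ℓ :=
      Sylow.card_eq_multiplicity L
    rw [h8, hj] at hcardle
    have h9 : ℓ ^ (j + 2) ≤ ℓ ^ (Nat.card G).factorization ℓ := Nat.pow_le_pow_right hℓ.pos h7
    have h10 : ℓ * ℓ ^ j < ℓ ^ (j + 2) := by
      rw [← pow_succ']
      exact Nat.pow_lt_pow_right hℓ.one_lt (by omega)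
    omega

/-- Step G: all centralizers of noncentral elements are normal. -/
lemma cent_normal (h2 : Two G n)
    (hab : ∀ g : G, g ∉ Subgroup.center G → ∀ a ∈ Subgroup.centralizer ({g} : Set G),
      ∀ b ∈ Subgroup.centralizer ({g} : Set G), a * b = b * a)
    {q t : ℕ} [Fact q.Prime] [Fact t.Prime] (hqt : q ≠ t)
    {x₀ y₀ : G} (hx₀ : x₀ ∉ Subgroup.center G) (hx₀o : ∃ k : ℕ, orderOf x₀ = q ^ k)
    (hy₀ : y₀ ∉ Subgroup.center G) (hy₀o : ∃ k : ℕ, orderOf y₀ = t ^ k)
    {g : G} (hg : g ∉ Subgroup.center G) (a : G) :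
    ∀ d ∈ Subgroup.centralizer ({g} : Set G), a * d * a⁻¹ ∈ Subgroup.centralizer ({g} : Set G) := by
  classical
  have hN : Subgroup.normalizer ((Subgroup.centralizer ({g} : Set G) : Subgroup G) : Set G) = ⊤ := by
    by_contra hne
    have hidx : (Subgroup.normalizer
        ((Subgroup.centralizer ({g} : Set G) : Subgroup G) : Set G)).index ≠ 1 :=
      fun h => hne (Subgroup.index_eq_one.mp h)
    obtain ⟨ℓ, hℓ, hℓdvd⟩ := Nat.exists_prime_and_dvd hidx
    have : Fact ℓ.Prime := ⟨hℓ⟩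
    have hℓn : ℓ ∣ n := by
      rw [← h2 g hg]
      exact dvd_trans hℓdvd (Subgroup.index_dvd_of_le Subgroup.le_normalizer)
    have hsq := not_sq_dvd h2 hab hqt hx₀ hx₀o hy₀ hy₀o ℓ hℓn
    obtain ⟨L'⟩ : Nonempty (Sylow ℓ G) := inferInstance
    have hL' : ∃ x ∈ (L' : Subgroup G), x ∉ Subgroup.center G := by
      by_contra hcon
      push Not at hcon
      have hle : (L' : Subgroup G) ≤ Subgroup.centralizer ({g} : Set G) :=
        fun s hs => center_le_cent g (hcon s hs)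
      have h1 : (Subgroup.centralizer ({g} : Set G)).index ∣ (L' : Subgroup G).index :=
        Subgroup.index_dvd_of_le hle
      rw [h2 g hg] at h1
      exact L'.not_dvd_index (dvd_trans hℓn h1)
    obtain ⟨xℓ, hxℓL, hxℓZ⟩ := hL'
    have hxℓo : ∃ k : ℕ, orderOf xℓ = ℓ ^ k := by
      obtain ⟨k, hk⟩ := (IsPGroup.iff_orderOf.mp L'.2) ⟨xℓ, hxℓL⟩
      exact ⟨k, by rw [← hk, Subgroup.orderOf_mk]⟩
    obtain ⟨y, hyD, hyZ, ⟨ky, hyo⟩⟩ := exists_noncentral_pelem h2 hxℓZ hxℓo hg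
    have hZy : IsPGroup ℓ (Subgroup.zpowers (⟨y, hyD⟩ : Subgroup.centralizer ({g} : Set G))) := by
      apply IsPGroup.of_card (n := ky)
      rw [Nat.card_zpowers, Subgroup.orderOf_mk, hyo]
    obtain ⟨R, hR⟩ := hZy.exists_le_sylow
    set R' : Subgroup G := (R : Subgroup (Subgroup.centralizer ({g} : Set G))).map
      (Subgroup.centralizer ({g} : Set G)).subtype with hR'
    have hR'D : R' ≤ Subgroup.centralizer ({g} : Set G) := by
      rintro _ ⟨r, -, rfl⟩; exact r.2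
    have hyR' : y ∈ R' := ⟨⟨y, hyD⟩, hR (Subgroup.mem_zpowers _), rfl⟩
    have hfacn : n.factorization ℓ = 1 := by
      have hn0 : n ≠ 0 := (n_pos h2 hg).ne'
      have h1 : 1 ≤ n.factorization ℓ :=
        (Nat.Prime.pow_dvd_iff_le_factorization hℓ hn0).mp (by simpa using hℓn)
      have h3 : ¬ 2 ≤ n.factorization ℓ :=
        fun h => hsq ((Nat.Prime.pow_dvd_iff_le_factorization hℓ hn0).mpr h)
      omega
    have hfacD : (Nat.card (Subgroup.centralizer ({g} : Set G))).factorization ℓ + 1 =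
        (Nat.card G).factorization ℓ := by
      rw [← card_cent h2 hg, Nat.factorization_mul Nat.card_pos.ne' (n_pos h2 hg).ne',
        Finsupp.add_apply, hfacn]
    have hcardR' : Nat.card R' =
        ℓ ^ (Nat.card (Subgroup.centralizer ({g} : Set G))).factorization ℓ := by
      rw [hR', Subgroup.card_map_of_injective (Subgroup.subtype_injective _),
        Sylow.card_eq_multiplicity]
    have hdvdG : ℓ ^ ((Nat.card (Subgroup.centralizer ({g} : Set G))).factorization ℓ + 1) ∣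
        Nat.card G := by
      rw [hfacD]; exact Nat.ordProj_dvd _ _
    obtain ⟨K, hKcard, hR'K⟩ := Sylow.exists_subgroup_card_pow_succ hdvdG hcardR'
    have hKp : IsPGroup ℓ K := IsPGroup.of_card hKcard
    have hlt : R'.subgroupOf K < ⊤ := by
      rw [lt_top_iff_ne_top]
      intro h
      have hKR' : K ≤ R' := by
        intro k hk
        have h1 : (⟨k, hk⟩ : K) ∈ R'.subgroupOf K := h ▸ Subgroup.mem_top _
        exact Subgroup.mem_subgroupOf.mp h1
      have h3 := Subgroup.card_le_of_le hKR'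
      rw [hKcard, hcardR'] at h3
      exact absurd h3 (not_le.mpr (Nat.pow_lt_pow_right hℓ.one_lt (Nat.lt_succ_self _)))
    have : Group.IsNilpotent K := hKp.isNilpotent
    have hnc := Group.normalizerCondition_of_isNilpotent (G := K) _ hlt
    obtain ⟨h, hhnorm, hhR⟩ := SetLike.exists_of_lt hnc
    have hy1 : (h : G) * y * (h : G)⁻¹ ∈ R' := by
      have h1 := (Subgroup.mem_normalizer_iff.mp hhnorm ⟨y, hR'K hyR'⟩).mp
        (Subgroup.mem_subgroupOf.mpr hyR')
      exact Subgroup.mem_subgroupOf.mp h1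
    have hy2 : (h : G)⁻¹ * y * (h : G)⁻¹⁻¹ ∈ R' := by
      have h1 := (Subgroup.mem_normalizer_iff.mp (Subgroup.inv_mem _ hhnorm) ⟨y, hR'K hyR'⟩).mp
        (Subgroup.mem_subgroupOf.mpr hyR')
      exact Subgroup.mem_subgroupOf.mp h1
    have hc1 := conj_mem_cent h2 hab hg hyZ hyD (hR'D hy1)
    have hc2 := conj_mem_cent h2 hab hg hyZ hyD (hR'D hy2)
    have hhN : (h : G) ∈ Subgroup.normalizer
        ((Subgroup.centralizer ({g} : Set G) : Subgroup G) : Set G) := by
      rw [Subgroup.mem_normalizer_iff]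
      intro d
      constructor
      · exact hc1 d
      · intro hd
        have h1 := hc2 _ hd
        have e : (h : G)⁻¹ * ((h : G) * d * (h : G)⁻¹) * (h : G)⁻¹⁻¹ = d := by group
        rwa [e] at h1
    have hKN : K ⊓ Subgroup.normalizer
        ((Subgroup.centralizer ({g} : Set G) : Subgroup G) : Set G) = K := by
      refine Subgroup.eq_of_le_of_card_ge inf_le_left ?_
      have hp' : IsPGroup ℓ (K ⊓ Subgroup.normalizer
          ((Subgroup.centralizer ({g} : Set G) : Subgroup G) : Set G) : Subgroup G) :=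
        hKp.to_le inf_le_left
      obtain ⟨j, hj⟩ := IsPGroup.iff_card.mp hp'
      have hR'le : R' ≤ K ⊓ Subgroup.normalizer
          ((Subgroup.centralizer ({g} : Set G) : Subgroup G) : Set G) :=
        le_inf hR'K (le_trans hR'D Subgroup.le_normalizer)
      have hne' : R' ≠ K ⊓ Subgroup.normalizer
          ((Subgroup.centralizer ({g} : Set G) : Subgroup G) : Set G) := by
        intro heq
        apply hhR
        rw [Subgroup.mem_subgroupOf, heq]
        exact ⟨h.2, hhN⟩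
      have hlt' : Nat.card R' < Nat.card (K ⊓ Subgroup.normalizer
          ((Subgroup.centralizer ({g} : Set G) : Subgroup G) : Set G) : Subgroup G) := by
        by_contra hcon
        exact hne' (Subgroup.eq_of_le_of_card_ge hR'le (not_lt.mp hcon))
      rw [hcardR', hj] at hlt'
      have hjlt : (Nat.card (Subgroup.centralizer ({g} : Set G))).factorization ℓ < j :=
        (Nat.pow_lt_pow_iff_right hℓ.one_lt).mp hlt'
      rw [hKcard, hj]
      exact Nat.pow_le_pow_right hℓ.pos (by omega)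
    have hKle : K ≤ Subgroup.normalizer
        ((Subgroup.centralizer ({g} : Set G) : Subgroup G) : Set G) := hKN ▸ inf_le_right
    have hdiv : (Subgroup.normalizer
        ((Subgroup.centralizer ({g} : Set G) : Subgroup G) : Set G)).index ∣ K.index :=
      Subgroup.index_dvd_of_le hKle
    have hKidx : ¬ ℓ ∣ K.index := by
      intro hd
      have h1 := K.card_mul_index
      rw [hKcard, hfacD] at h1
      have h4 : ℓ ^ ((Nat.card G).factorization ℓ) * ℓ ∣
          ℓ ^ ((Nat.card G).factorization ℓ) * K.index := mul_dvd_mul_left _ hd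
      rw [h1, ← pow_succ] at h4
      exact Nat.pow_succ_factorization_not_dvd Nat.card_pos.ne' hℓ h4
    exact hKidx (dvd_trans hℓdvd hdiv)
  intro d hd
  have ha : a ∈ Subgroup.normalizer
      ((Subgroup.centralizer ({g} : Set G) : Subgroup G) : Set G) := hN ▸ Subgroup.mem_top a
  exact (Subgroup.mem_normalizer_iff.mp ha d).mp hd

lemma comm_mem_center (h2 : Two G n)
    (hab : ∀ g : G, g ∉ Subgroup.center G → ∀ a ∈ Subgroup.centralizer ({g} : Set G),
      ∀ b ∈ Subgroup.centralizer ({g} : Set G), a * b = b * a)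
    (hnormal : ∀ g : G, g ∉ Subgroup.center G → ∀ a : G,
      ∀ d ∈ Subgroup.centralizer ({g} : Set G), a * d * a⁻¹ ∈ Subgroup.centralizer ({g} : Set G))
    (a b : G) : a * b * a⁻¹ * b⁻¹ ∈ Subgroup.center G := by
  by_cases ha : a ∈ Subgroup.center G
  · have h1 : a * b * a⁻¹ * b⁻¹ = 1 := by
      rw [← Subgroup.mem_center_iff.mp ha b]; group
    rw [h1]; exact one_mem _
  by_cases hb : b ∈ Subgroup.center G
  · have h1 : a * b * a⁻¹ * b⁻¹ = 1 := by
      rw [Subgroup.mem_center_iff.mp hb a]; group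
    rw [h1]; exact one_mem _
  by_contra hc
  have hca : a * b * a⁻¹ * b⁻¹ ∈ Subgroup.centralizer ({a} : Set G) := by
    have h1 : b * a⁻¹ * b⁻¹ ∈ Subgroup.centralizer ({a} : Set G) :=
      hnormal a ha b a⁻¹ (inv_mem (self_mem_cent a))
    have h3 := mul_mem (self_mem_cent a) h1
    have e : a * (b * a⁻¹ * b⁻¹) = a * b * a⁻¹ * b⁻¹ := by group
    rwa [e] at h3
  have hcb : a * b * a⁻¹ * b⁻¹ ∈ Subgroup.centralizer ({b} : Set G) := by
    have h1 : a * b * a⁻¹ ∈ Subgroup.centralizer ({b} : Set G) :=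
      hnormal b hb a b (self_mem_cent b)
    exact mul_mem h1 (inv_mem (self_mem_cent b))
  have e1 := cent_eq_of_mem h2 hab ha hc hca
  have e2 := cent_eq_of_mem h2 hab hb hc hcb
  have hab' : a ∈ Subgroup.centralizer ({b} : Set G) := by
    rw [← e2, e1]; exact self_mem_cent a
  have h5 : a * b = b * a := mem_cent_iff.mp hab'
  apply hc
  have h6 : a * b * a⁻¹ * b⁻¹ = 1 := by rw [h5]; group
  rw [h6]; exact one_mem _

omit [Finite G] in
lemma commute_of_coprime_of_class_two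
    (hcl : ∀ a b : G, a * b * a⁻¹ * b⁻¹ ∈ Subgroup.center G) {a b : G}
    (hcop : (orderOf a).Coprime (orderOf b)) : a * b = b * a := by
  have h1 : cm b a ^ orderOf b = 1 :=
    cm_pow_prime (hcl a b) (by rw [pow_orderOf_eq_one]; exact one_mem _)
  have h2 : cm a b ^ orderOf a = 1 :=
    cm_pow_prime (hcl b a) (by rw [pow_orderOf_eq_one]; exact one_mem _)
  have h3 : cm a b = (cm b a)⁻¹ := by unfold cm; group
  rw [h3, inv_pow, inv_eq_one] at h2
  have h4 : orderOf (cm b a) ∣ Nat.gcd (orderOf a) (orderOf b) :=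
    Nat.dvd_gcd (orderOf_dvd_of_pow_eq_one h2) (orderOf_dvd_of_pow_eq_one h1)
  rw [hcop] at h4
  have h5 : cm b a = 1 := orderOf_eq_one_iff.mp (Nat.dvd_one.mp h4)
  exact mem_cent_iff.mp (cm_eq_one_iff.mp h5)

/-- there cannot be noncentral elements of prime power order for two different primes -/
lemma no_two_primes (h2 : Two G n) {q t : ℕ} [Fact q.Prime] [Fact t.Prime] (hqt : q ≠ t)
    {x₀ y₀ : G} (hx₀ : x₀ ∉ Subgroup.center G) (hx₀o : ∃ k : ℕ, orderOf x₀ = q ^ k)
    (hy₀ : y₀ ∉ Subgroup.center G) (hy₀o : ∃ k : ℕ, orderOf y₀ = t ^ k) : False := by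
  have hq : q.Prime := Fact.out
  have ht : t.Prime := Fact.out
  have hab : ∀ g : G, g ∉ Subgroup.center G → ∀ a ∈ Subgroup.centralizer ({g} : Set G),
      ∀ b ∈ Subgroup.centralizer ({g} : Set G), a * b = b * a :=
    fun g hg => abelian_cent h2 hqt hx₀ hx₀o hy₀ hy₀o hg
  have hnormal : ∀ g : G, g ∉ Subgroup.center G → ∀ a : G,
      ∀ d ∈ Subgroup.centralizer ({g} : Set G), a * d * a⁻¹ ∈ Subgroup.centralizer ({g} : Set G) :=
    fun g hg a => cent_normal h2 hab hqt hx₀ hx₀o hy₀ hy₀o hg a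
  have hcl := comm_mem_center h2 hab hnormal
  obtain ⟨x₂, hx₂y, hx₂, ⟨kx, hx₂o⟩⟩ := exists_noncentral_pelem h2 hx₀ hx₀o hy₀
  obtain ⟨ky, hy₀o'⟩ := hy₀o
  apply hx₂
  rw [Subgroup.mem_center_iff]
  intro g
  obtain ⟨w, u, hg1, hg2, ⟨ku, hg3⟩, hg4, hg5⟩ := Cfsg.Agent.S4106.exists_decomp q hq g
  have h1 : x₂ * w = w * x₂ := commute_of_coprime_of_class_two hcl (by
    rw [hx₂o]; exact Nat.Coprime.pow_left kx ((Nat.Prime.coprime_iff_not_dvd hq).mpr hg5))
  have h3 : u * y₀ = y₀ * u := commute_of_coprime_of_class_two hcl (by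
    rw [hg3, hy₀o']; exact Nat.Coprime.pow _ _ ((Nat.coprime_primes hq ht).mpr hqt))
  have hu : u ∈ Subgroup.centralizer ({y₀} : Set G) := mem_cent_iff.mpr h3
  have h4 : x₂ * u = u * x₂ := hab y₀ hy₀ x₂ hx₂y u hu
  rw [hg1]
  calc w * u * x₂ = w * (u * x₂) := by group
    _ = w * (x₂ * u) := by rw [h4]
    _ = (w * x₂) * u := by group
    _ = (x₂ * w) * u := by rw [h1]
    _ = x₂ * (w * u) := by group

omit [Finite G] in
lemma conj_mem_cent_of_cm {u s d : G} (hcm : cm u s⁻¹ ∈ Subgroup.center G)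
    (hd : d ∈ Subgroup.centralizer ({u} : Set G)) :
    s * d * s⁻¹ ∈ Subgroup.centralizer ({u} : Set G) := by
  rw [mem_cent_iff]
  have hz := Subgroup.mem_center_iff.mp hcm
  have hsu : s⁻¹ * u * s = cm u s⁻¹ * u := by unfold cm; group
  have hdu : d * u = u * d := mem_cent_iff.mp hd
  have hd1 : d * (s⁻¹ * u * s) = (s⁻¹ * u * s) * d := by
    rw [hsu]
    calc d * (cm u s⁻¹ * u) = (d * cm u s⁻¹) * u := by group
      _ = (cm u s⁻¹ * d) * u := by rw [hz d]
      _ = cm u s⁻¹ * (d * u) := by group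
      _ = cm u s⁻¹ * (u * d) := by rw [hdu]
      _ = cm u s⁻¹ * u * d := by group
  calc s * d * s⁻¹ * u = s * (d * (s⁻¹ * u * s)) * s⁻¹ := by group
    _ = s * ((s⁻¹ * u * s) * d) * s⁻¹ := by rw [hd1]
    _ = u * (s * d * s⁻¹) := by group

/-- a noncentral element has a noncentral element of prime power order among its powers' parts -/
lemma exists_noncentral_primary :
    ∀ (m : ℕ) (g : G), orderOf g = m → g ∉ Subgroup.center G →
      ∃ (ℓ : ℕ) (y : G), ℓ.Prime ∧ y ∉ Subgroup.center G ∧ (∃ k : ℕ, orderOf y = ℓ ^ k) ∧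
        orderOf y ∣ orderOf g := by
  intro m
  induction m using Nat.strong_induction_on with
  | _ m ih =>
    intro g hgm hg
    have hg1 : g ≠ 1 := fun h => hg (h ▸ one_mem _)
    have hm1 : orderOf g ≠ 1 := fun h => hg1 (orderOf_eq_one_iff.mp h)
    obtain ⟨ℓ, hℓ, hℓdvd⟩ := Nat.exists_prime_and_dvd hm1
    obtain ⟨w, u, h1, h2, ⟨k, h3⟩, h4, h5⟩ := Cfsg.Agent.S4106.exists_decomp ℓ hℓ g
    by_cases hu : u ∈ Subgroup.center G
    · have hw : w ∉ Subgroup.center G := fun hw => hg (h1 ▸ mul_mem hw hu)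
      have hlt : orderOf w < m := by
        rw [← hgm]
        refine lt_of_le_of_ne (Nat.le_of_dvd (orderOf_pos g) h4) ?_
        intro heq
        exact h5 (heq ▸ hℓdvd)
      obtain ⟨ℓ', y, hℓ', hy, hyo, hyd⟩ := ih (orderOf w) hlt w rfl hw
      exact ⟨ℓ', y, hℓ', hy, hyo, dvd_trans hyd h4⟩
    · refine ⟨ℓ, u, hℓ, hu, ⟨k, h3⟩, ?_⟩
      apply orderOf_dvd_of_pow_eq_one
      have h6 : u = w⁻¹ * g := by rw [h1]; group
      have hc : Commute w⁻¹ g := by
        have hwg : Commute w g := by rw [h1]; exact (Commute.refl w).mul_right h2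
        exact hwg.inv_left
      have hwp : w ^ orderOf g = 1 := by
        obtain ⟨c, hc'⟩ := h4
        rw [hc', pow_mul, pow_orderOf_eq_one, one_pow]
      rw [h6, hc.mul_pow, pow_orderOf_eq_one, mul_one, inv_pow, hwp, inv_one]

lemma exists_prime_central (h2 : Two G n) (hex : ∃ x : G, x ∉ Subgroup.center G) :
    ∃ p : ℕ, p.Prime ∧ ∀ y : G, ¬ p ∣ orderOf y → y ∈ Subgroup.center G := by
  obtain ⟨g₀, hg₀⟩ := hex
  obtain ⟨q, x₀, hq, hx₀, hx₀o, -⟩ := exists_noncentral_primary (orderOf g₀) g₀ rfl hg₀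
  refine ⟨q, hq, ?_⟩
  intro y hy
  by_contra hyZ
  obtain ⟨t, y₀, ht, hy₀, ⟨k, hy₀o⟩, hyd⟩ := exists_noncentral_primary (orderOf y) y rfl hyZ
  have hqt : q ≠ t := by
    rintro rfl
    have hk0 : k ≠ 0 := by
      rintro rfl
      rw [pow_zero, orderOf_eq_one_iff] at hy₀o
      exact hy₀ (hy₀o ▸ one_mem _)
    exact hy (dvd_trans (hy₀o ▸ dvd_pow_self q hk0) hyd)
  have : Fact q.Prime := ⟨hq⟩
  have : Fact t.Prime := ⟨ht⟩
  exact no_two_primes h2 hqt hx₀ hx₀o hy₀ ⟨k, hy₀o⟩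

/-- the `p`-group part: an abelian normal subgroup with quotient of exponent `p` -/
lemma pgroup_part (h2 : Two G n) (p : ℕ) [Fact p.Prime] (P : Subgroup G) (hP : IsPGroup p P)
    (hZP : ∀ z ∈ P, (∀ s ∈ P, s * z = z * s) → z ∈ Subgroup.center G) :
    ∃ A : Subgroup P, A.Normal ∧ IsMulCommutative A ∧ ∀ y : P, y ^ p ∈ A := by
  classical
  by_cases hPZ : P ≤ Subgroup.center G
  · refine ⟨⊤, inferInstance, ⟨⟨fun a b => ?_⟩⟩, fun y => Subgroup.mem_top _⟩
    exact Subtype.ext (Subtype.ext (Subgroup.mem_center_iff.mp (hPZ b.1.2) a.1.1))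
  · have hne : ∃ x ∈ P, x ∉ Subgroup.center G := by
      by_contra hcon
      push Not at hcon
      exact hPZ hcon
    obtain ⟨u, huP, huZ, hucm, hup⟩ := exists_second_center p P hP hZP hne
    have hcmZ : ∀ s ∈ P, cm u s ∈ Subgroup.center G := hucm
    have hnorm : ∀ s ∈ P, ∀ d ∈ Subgroup.centralizer ({u} : Set G),
        s * d * s⁻¹ ∈ Subgroup.centralizer ({u} : Set G) :=
      fun s hs d hd => conj_mem_cent_of_cm (hcmZ s⁻¹ (inv_mem hs)) hd
    refine ⟨(Subgroup.centralizer ({u} : Set G) ⊓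
      Subgroup.centralizer ((Subgroup.centralizer ({u} : Set G) : Subgroup G) : Set G)).subgroupOf P,
      ?_, ?_, ?_⟩
    · constructor
      intro a ha s
      rw [Subgroup.mem_subgroupOf] at ha ⊢
      show (s : G) * (a : G) * (s : G)⁻¹ ∈ Subgroup.centralizer ({u} : Set G) ⊓
        Subgroup.centralizer ((Subgroup.centralizer ({u} : Set G) : Subgroup G) : Set G)
      have ha' := Subgroup.mem_inf.mp ha
      refine Subgroup.mem_inf.mpr ⟨hnorm s s.2 a ha'.1, ?_⟩
      rw [Subgroup.mem_centralizer_iff]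
      intro c hc
      have h1 : (s : G)⁻¹ * c * (s : G)⁻¹⁻¹ ∈ Subgroup.centralizer ({u} : Set G) :=
        hnorm _ (inv_mem s.2) c hc
      have h3 := Subgroup.mem_centralizer_iff.mp ha'.2 _ h1
      calc c * ((s : G) * (a : G) * (s : G)⁻¹)
          = (s : G) * (((s : G)⁻¹ * c * (s : G)⁻¹⁻¹) * (a : G)) * (s : G)⁻¹ := by group
        _ = (s : G) * ((a : G) * ((s : G)⁻¹ * c * (s : G)⁻¹⁻¹)) * (s : G)⁻¹ := by rw [h3]
        _ = (s : G) * (a : G) * (s : G)⁻¹ * c := by group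
    · refine ⟨⟨fun a b => ?_⟩⟩
      have ha := Subgroup.mem_inf.mp (Subgroup.mem_subgroupOf.mp a.2)
      have hb := Subgroup.mem_inf.mp (Subgroup.mem_subgroupOf.mp b.2)
      have h1 := Subgroup.mem_centralizer_iff.mp ha.2 _ hb.1
      exact Subtype.ext (Subtype.ext h1.symm)
    · intro y
      rw [Subgroup.mem_subgroupOf]
      show (y : G) ^ p ∈ Subgroup.centralizer ({u} : Set G) ⊓
        Subgroup.centralizer ((Subgroup.centralizer ({u} : Set G) : Subgroup G) : Set G)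
      have hypC : (y : G) ^ p ∈ Subgroup.centralizer ({u} : Set G) := by
        rw [← cm_eq_one_iff, cm_pow (hcmZ y y.2)]
        exact cm_pow_prime (hcmZ y y.2) hup
      by_cases hypZ : (y : G) ^ p ∈ Subgroup.center G
      · exact Subgroup.mem_inf.mpr ⟨hypC, Subgroup.center_le_centralizer _ hypZ⟩
      · have hyZ : (y : G) ∉ Subgroup.center G := fun h => hypZ (Subgroup.pow_mem _ h p)
        have hle : Subgroup.centralizer ({(y : G)} : Set G) ≤
            Subgroup.centralizer ({(y : G) ^ p} : Set G) := by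
          intro g hg
          rw [mem_cent_iff] at hg ⊢
          exact (Commute.pow_right (show Commute g (y : G) from hg) p).eq
        have heq := cent_eq_of_le h2 hyZ hypZ hle
        have hyC : (y : G) ∈ Subgroup.centralizer ({u} : Set G) := by
          have h1 : u ∈ Subgroup.centralizer ({(y : G) ^ p} : Set G) :=
            mem_cent_iff.mpr (mem_cent_iff.mp hypC).symm
          rw [← heq] at h1
          exact mem_cent_iff.mpr (mem_cent_iff.mp h1).symm
        have hyu : Commute (y : G) u := mem_cent_iff.mp hyC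
        have hpow : ((y : G) * u) ^ p = (y : G) ^ p * u ^ p := hyu.mul_pow p
        have hyupZ : ((y : G) * u) ^ p ∉ Subgroup.center G := by
          intro hmem
          apply hypZ
          have h4 : (y : G) ^ p = ((y : G) * u) ^ p * (u ^ p)⁻¹ := by rw [hpow]; group
          rw [h4]
          exact mul_mem hmem (inv_mem hup)
        have hyuZ : (y : G) * u ∉ Subgroup.center G := fun h => hyupZ (Subgroup.pow_mem _ h p)
        have hle2 : Subgroup.centralizer ({(y : G) * u} : Set G) ≤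
            Subgroup.centralizer ({(y : G) ^ p} : Set G) := by
          intro g hg
          rw [mem_cent_iff] at hg ⊢
          have h1 : Commute g (((y : G) * u) ^ p) :=
            Commute.pow_right (show Commute g ((y : G) * u) from hg) p
          rw [hpow] at h1
          have h3 : Commute g (u ^ p) := (Subgroup.mem_center_iff.mp hup g)
          have h4 : (y : G) ^ p = ((y : G) ^ p * u ^ p) * (u ^ p)⁻¹ := by group
          rw [h4]
          exact (h1.mul_right h3.inv_right).eq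
        have heq2 := cent_eq_of_le h2 hyuZ hypZ hle2
        have hle3 : Subgroup.centralizer ({(y : G)} : Set G) ≤
            Subgroup.centralizer ({u} : Set G) := by
          intro g hg
          have hg2 : g ∈ Subgroup.centralizer ({(y : G) * u} : Set G) := by
            rw [heq2, ← heq]; exact hg
          have c1 : Commute g (y : G) := mem_cent_iff.mp hg
          have c2 : Commute g ((y : G) * u) := mem_cent_iff.mp hg2
          have h4 : u = (y : G)⁻¹ * ((y : G) * u) := by group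
          rw [mem_cent_iff, h4]
          exact (c1.inv_right.mul_right c2).eq
        have heq3 := cent_eq_of_le h2 hyZ huZ hle3
        have hyZC : (y : G) ∈ Subgroup.centralizer ({u} : Set G) ⊓
            Subgroup.centralizer ((Subgroup.centralizer ({u} : Set G) : Subgroup G) : Set G) := by
          refine Subgroup.mem_inf.mpr ⟨hyC, ?_⟩
          rw [Subgroup.mem_centralizer_iff]
          intro c hc
          have hc' : c ∈ Subgroup.centralizer ({(y : G)} : Set G) := by rw [heq3]; exact hc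
          exact mem_cent_iff.mp hc'
        exact Subgroup.pow_mem _ hyZC p

end two

theorem result {G : Type*} [Group G] [Finite G] (n : ℕ) (hn : 1 < n)
    (h : ∀ x : G, (Subgroup.centralizer ({x} : Set G)).index = 1 ∨ (Subgroup.centralizer ({x} : Set G)).index = n) (hex : ∃ x : G, (Subgroup.centralizer ({x} : Set G)).index = n) :
    ∃ (p : ℕ) (_ : Fact p.Prime) (a : ℕ), n = p ^ a ∧ ∀ P : Sylow p G, (P : Subgroup G).Normal ∧
      (∃ N : Subgroup G, N.Normal ∧ N.IsComplement' (P : Subgroup G) ∧ IsMulCommutative N ∧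
        ∀ x ∈ N, ∀ y ∈ (P : Subgroup G), x * y = y * x) ∧
      ∃ A : Subgroup (P : Subgroup G), A.Normal ∧ IsMulCommutative A ∧ ∀ y : (P : Subgroup G), y ^ p ∈ A := by
  classical
  have hcen : ∀ x : G, x ∈ Subgroup.center G ↔ (Subgroup.centralizer ({x} : Set G)).index = 1 := by
    intro x
    rw [Subgroup.index_eq_one]
    constructor
    · intro hx
      rw [eq_top_iff]
      intro g _
      rw [mem_cent_iff]
      exact Subgroup.mem_center_iff.mp hx g
    · intro hx
      rw [Subgroup.mem_center_iff]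
      intro g
      exact mem_cent_iff.mp (hx ▸ Subgroup.mem_top g)
  have h2 : Two G n := by
    intro x hx
    rcases h x with h1 | h1
    · exact absurd ((hcen x).mpr h1) hx
    · exact h1
  obtain ⟨x₁, hx₁⟩ := hex
  have hx₁Z : x₁ ∉ Subgroup.center G := by
    intro hmem
    rw [(hcen x₁).mp hmem] at hx₁
    omega
  obtain ⟨p, hp, hpc⟩ := exists_prime_central h2 ⟨x₁, hx₁Z⟩
  have : Fact p.Prime := ⟨hp⟩
  obtain ⟨K, hKn, hKcop, ⟨j, hKcard⟩, hKmem, hKcent⟩ := Cfsg.Agent.S4127.lemmaA (H := G) p (by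
    intro y hy
    rw [(hcen y).mp (hpc y hy)]
    exact fun hd => hp.one_lt.ne' (Nat.dvd_one.mp hd))
  have hKdvd : ¬ p ∣ Nat.card K := by
    intro hdvd
    have h3 : p ∣ Nat.gcd (Nat.card K) p := Nat.dvd_gcd hdvd dvd_rfl
    rw [hKcop] at h3
    exact hp.one_lt.ne' (Nat.dvd_one.mp h3)
  have hKord : ∀ k ∈ K, ¬ p ∣ orderOf k := by
    intro k hk hdvd
    exact hKdvd (dvd_trans hdvd (Subgroup.orderOf_dvd_natCard K hk))
  have hKZ : K ≤ Subgroup.center G := fun k hk => hpc k (hKord k hk)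
  have hidxK : K.index = p ^ j := by
    have h1 := K.card_mul_index
    rw [hKcard] at h1
    exact Nat.eq_of_mul_eq_mul_left Nat.card_pos h1
  have hn' : n ∣ p ^ j := by
    rw [← h2 x₁ hx₁Z, ← hidxK]
    exact Subgroup.index_dvd_of_le (le_trans hKZ (center_le_cent x₁))
  obtain ⟨a, -, ha⟩ := (Nat.dvd_prime_pow hp).mp hn'
  refine ⟨p, ⟨hp⟩, a, ha, ?_⟩
  intro P
  have hPcard : Nat.card (P : Subgroup G) = p ^ j := by
    rw [Sylow.card_eq_multiplicity, hKcard,
      Nat.factorization_mul Nat.card_pos.ne' (pow_ne_zero _ hp.ne_zero), Finsupp.add_apply,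
      Nat.factorization_eq_zero_of_not_dvd hKdvd, zero_add, Nat.Prime.factorization_pow hp,
      Finsupp.single_eq_same]
  have hcompl : K.IsComplement' (P : Subgroup G) := by
    apply Subgroup.isComplement'_of_coprime
    · rw [hPcard, hKcard]
    · rw [hPcard]
      exact Nat.Coprime.pow_right _ hKcop
  have hdec : ∀ g : G, ∃ k ∈ K, ∃ u ∈ (P : Subgroup G), g = k * u := by
    intro g
    obtain ⟨⟨k, u⟩, hg⟩ := hcompl.2 g
    exact ⟨k, k.2, u, u.2, hg.symm⟩
  have hPn : (P : Subgroup G).Normal := by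
    constructor
    intro x hx g
    obtain ⟨k, hk, u, hu, rfl⟩ := hdec g
    have hkc := Subgroup.mem_center_iff.mp (hKZ hk)
    have e : k * u * x * (k * u)⁻¹ = u * x * u⁻¹ := by
      calc k * u * x * (k * u)⁻¹ = k * (u * x * u⁻¹) * k⁻¹ := by group
        _ = (u * x * u⁻¹) * k * k⁻¹ := by rw [hkc (u * x * u⁻¹)]
        _ = u * x * u⁻¹ := by group
    rw [e]
    exact mul_mem (mul_mem hu hx) (inv_mem hu)
  have hZP : ∀ z ∈ (P : Subgroup G), (∀ s ∈ (P : Subgroup G), s * z = z * s) →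
      z ∈ Subgroup.center G := by
    intro z _ hs
    rw [Subgroup.mem_center_iff]
    intro g
    obtain ⟨k, hk, u, hu, rfl⟩ := hdec g
    have hkc := Subgroup.mem_center_iff.mp (hKZ hk)
    calc k * u * z = k * (u * z) := by group
      _ = k * (z * u) := by rw [hs u hu]
      _ = (k * z) * u := by group
      _ = (z * k) * u := by rw [← hkc z]
      _ = z * (k * u) := by group
  refine ⟨hPn, ⟨K, hKn, hcompl, ?_, ?_⟩, ?_⟩
  · exact ⟨⟨fun a b => Subtype.ext (Subgroup.mem_center_iff.mp (hKZ b.2) a)⟩⟩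
  · intro x hx y _
    exact (Subgroup.mem_center_iff.mp (hKZ hx) y).symm
  · exact pgroup_part h2 p (P : Subgroup G) P.2 hZP

end Cfsg.Agent.S4134
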