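import Cfsg.Statements.S0434
import Cfsg.Agent.Lib.helper46.M11_K1
import Cfsg.Agent.Lib.helper21.ExcData
import Cfsg.Agent.Lib.helper1.M11_C
import Cfsg.Agent.Lib.helper42.M11_D
import Cfsg.Agent.Lib.helper77.M11_E
import Cfsg.Agent.Lib.helper77.M11_F
import Cfsg.Agent.Lib.helper17.M11_G
import Cfsg.Agent.Lib.helper21.M11Full
import Cfsg.Agent.Lib.helper32.M11_T2
import Cfsg.Agent.Lib.helper73.M11_T3
import Cfsg.Agent.Lib.helper73.OrdTools

set_option autoImplicit false
open Cfsg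

namespace Cfsg.Agent.S0434

/-- The complete list of irreducible characters of a simple group of order `7920`, relative to a
Sylow `11`-subgroup (chain of the pieces K1, EX, C, D, E, F, G, FULL of the S4429 project). -/
theorem m11_full {G : Type*} [Group G] [Fintype G] [Fintype (IrrCharacter G)] [IsSimpleGroup G]
    (hcard : Nat.card G = 7920) :
    ∃ P : Subgroup G, Nat.card P = 11 ∧ Cfsg.Agent.Lib.helper21.M11Full P := by
  haveI : Fact (Nat.Prime 11) := ⟨by norm_num⟩
  haveI : Fact (Nat.Prime 5) := ⟨by norm_num⟩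
  obtain ⟨P⟩ : Nonempty (Sylow 11 G) := inferInstance
  obtain ⟨Q⟩ : Nonempty (Sylow 5 G) := inferInstance
  obtain ⟨hN, hC⟩ := Cfsg.Agent.Lib.helper46.m11_sylow_eleven hcard P
  have hP : Nat.card (P : Subgroup G) = 11 := by
    have h := (Cfsg.Agent.Lib.helper73.OrdTools.sylow_facts (G := G) (p := 11) 1 720
      (by norm_num) (by rw [hcard]; norm_num) (by norm_num) (by norm_num) P).1
    rw [h]; norm_num
  have hQ : Nat.card (Q : Subgroup G) = 5 := by
    have h := (Cfsg.Agent.Lib.helper73.OrdTools.sylow_facts (G := G) (p := 5) 1 1584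
      (by norm_num) (by rw [hcard]; norm_num) (by norm_num) (by norm_num) Q).1
    rw [h]; norm_num
  have hnp : ¬ (Nat.card G).Prime := by rw [hcard]; norm_num
  refine ⟨(P : Subgroup G), hP, ?_⟩
  obtain ⟨ε, b, S, b₀, f₀, hexc⟩ :=
    Cfsg.Agent.Lib.helper21.exceptional_data (p := 11) (e := 5) (by norm_num) (P : Subgroup G)
      hP hC (by rw [hN]) (by norm_num)
  rcases Cfsg.Agent.Lib.helper1.m11_pattern hcard (P : Subgroup G) ε b S b₀ f₀ hexc with
    hI | hII | hIII
  · obtain ⟨hQC, hQN⟩ :=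
      Cfsg.Agent.Lib.helper77.m11_sylow_five_of_patI hcard (P : Subgroup G) hP hI Q
    obtain ⟨l, hnd, hall, hdeg⟩ :=
      Cfsg.Agent.Lib.helper17.m11_list_of_patI hcard (P : Subgroup G) hI (Q : Subgroup G) hQ
        hQC hQN
    exact Cfsg.Agent.Lib.helper21.m11_full_of_list (P : Subgroup G) hI l hnd hall hdeg
  · exact (Cfsg.Agent.Lib.helper77.m11_not_patII hcard (P : Subgroup G) hP hC hN hII).elim
  · exfalso
    obtain ⟨ψ, hdeg, hval⟩ := hIII
    have hnt : Nontrivial (P : Subgroup G) := by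
      rw [← Finite.one_lt_card_iff_nontrivial, hP]; norm_num
    obtain ⟨x, hx⟩ := exists_ne (1 : (P : Subgroup G))
    have hx1 : (x : G) ≠ 1 := fun h => hx (Subtype.ext h)
    have hψ : ψ ≠ Cfsg.Agent.Lib.helper21.trivIrr G := by
      intro h
      rw [h, Cfsg.Agent.Lib.helper21.charDegree_trivIrr] at hdeg
      norm_num at hdeg
    refine Cfsg.Agent.Lib.helper42.irr_apply_ne_degree_of_simple hnp ψ hψ (x : G) hx1 ?_
    rw [hval (x : G) x.2 hx1, Cfsg.Agent.Lib.helper82.irr_one_eq, hdeg]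
    norm_num

/-- Sylow 3-normalisers in a simple group of order 7920 have order 144 (so there are 55 Sylow 3-subgroups). -/
theorem result {G : Type*} [Group G] [Finite G] (hG : Cfsg.IsM11 G) (P : Sylow 3 G) : Nat.card (Subgroup.normalizer ((P : Subgroup G) : Set G)) = 144 := by
  obtain ⟨hsimple, hcard⟩ := hG
  haveI := hsimple
  haveI : Fintype G := Fintype.ofFinite G
  haveI : Fintype (IrrCharacter G) := Fintype.ofFinite _
  obtain ⟨P₁₁, hP₁₁, α₁, α₂, α₃, β, γ₁, γ₂, ψ₁, ψ₂, ψ₃, hfull⟩ := m11_full (G := G) hcard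
  exact Cfsg.Agent.Lib.helper73.m11_sylow_three_normalizer hcard
    (fun z hz => Cfsg.Agent.Lib.helper32.m11_order_three_centralizer hcard P₁₁ hP₁₁
      α₁ α₂ α₃ β γ₁ γ₂ ψ₁ ψ₂ ψ₃ hfull z hz) P

end Cfsg.Agent.S0434
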