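import Cfsg.Statements.S0435
import Cfsg.Agent.Lib.helper92.M11Inv
import Cfsg.Agent.Lib.helper92.M11Chain
import Cfsg.Agent.Lib.helper42.M11_CL
import Cfsg.Agent.Lib.helper73.M11_V
import Cfsg.Agent.Lib.helper20.M11_M4

set_option autoImplicit false
open Cfsg

namespace Cfsg.Agent.S0435

/-- Involution centralisers in a simple group of order 7920 have order 48. -/
theorem result {G : Type*} [Group G] [Finite G] (hG : Cfsg.IsM11 G) (x : G) (hx : orderOf x = 2) : Nat.card (Subgroup.centralizer ({x} : Set G)) = 48 := by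
  classical
  obtain ⟨hs, hc⟩ := hG
  have := hs
  have := Fintype.ofFinite G
  have := Fintype.ofFinite (IrrCharacter G)
  have hnp : ¬ (Nat.card G).Prime := by rw [hc]; norm_num
  have : Fact (Nat.Prime 11) := ⟨by norm_num⟩
  have : Fact (Nat.Prime 5) := ⟨by norm_num⟩
  obtain ⟨P⟩ : Nonempty (Sylow 11 G) := inferInstance
  obtain ⟨Q⟩ : Nonempty (Sylow 5 G) := inferInstance
  obtain ⟨hP, hN, -, hpat, -, -, -, l, hnd, hall, hdeg⟩ :=
    Cfsg.Agent.Lib.helper92.M11Chain.m11_chain hc P Q
  exact Cfsg.Agent.Lib.helper92.M11Inv.card_centralizer_involution hc (P : Subgroup G) hP hN hpat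
    l hnd hall hdeg x hx
    (fun ψ y hd ho => Cfsg.Agent.Lib.helper73.irr_vanish_of_defect_zero ψ 11 1 (by norm_num)
      (by rw [hc]; norm_num) (by rw [hc]; norm_num) (by simpa using hd) y (by rw [ho]))
    (fun ψ => Cfsg.Agent.Lib.helper20.irr_involution_mod_four hnp ψ x
      (by rw [← pow_two, ← hx]; exact pow_orderOf_eq_one x))
    (fun c => Cfsg.Agent.Lib.helper42.class_count_mul x x c)

end Cfsg.Agent.S0435
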