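import Cfsg.Statements.S0357
import Cfsg.Agent.Lib.helper10.Steiner5612

set_option autoImplicit false
open Cfsg

namespace Cfsg.Agent.S0357

open Cfsg.Agent.Lib.helper10

/-- In a Steiner system S(5, 6, 12), the complement of every block is again a block. -/
theorem result {α : Type*} [Fintype α] [DecidableEq α] (hα : Fintype.card α = 12) {B : Set (Finset α)} (hB : Cfsg.IsSteinerSystem 5 6 B) {b : Finset α} (hb : b ∈ B) : bᶜ ∈ B := by
  have h1 : exactN B b ∅ = 1 := s5612_exactN hB hα hb ∅ (Finset.empty_subset b)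
  have hpos : ((blk B).filter fun c => b ∩ c = ∅).Nonempty := by
    rw [← Finset.card_pos]
    rw [exactN] at h1
    omega
  obtain ⟨c, hc⟩ := hpos
  rw [Finset.mem_filter, mem_blk] at hc
  have hsub : c ⊆ bᶜ := by
    intro x hx
    rw [Finset.mem_compl]
    intro hxb
    have : x ∈ b ∩ c := Finset.mem_inter.mpr ⟨hxb, hx⟩
    rw [hc.2] at this
    exact absurd this (Finset.notMem_empty x)
  have hcard : bᶜ.card ≤ c.card := by
    rw [Finset.card_compl, hα, hB.1 b hb, hB.1 c hc.1]
  rw [← Finset.eq_of_subset_of_card_le hsub hcard]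
  exact hc.1

end Cfsg.Agent.S0357
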