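import Cfsg.Statements.S0385
import Cfsg.Agent.Lib.helper33.Dodecads

set_option autoImplicit false
open Cfsg

namespace Cfsg.Agent.S0385

/-- The 6-point intersections of octads with a fixed dodecad form a Steiner system S(5, 6, 12) on the dodecad. -/
theorem result (d : Finset Cfsg.GolayPt) (hd : d ∈ Cfsg.dodecads) : Cfsg.IsSteinerSystem 5 6 {h : Finset {p : Cfsg.GolayPt // p ∈ d} | ∃ o ∈ Cfsg.octads, (o ∩ d).card = 6 ∧ h = Finset.subtype (fun p => p ∈ d) o} := by
  classical
  refine ⟨?_, ?_⟩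
  · rintro b ⟨o, _, h6, rfl⟩
    rw [Finset.card_subtype, Finset.filter_mem_eq_inter]
    exact h6
  · intro s hs
    have hs' : (s.map (Function.Embedding.subtype (fun p => p ∈ d))).card = 5 := by
      rw [Finset.card_map]; exact hs
    have hsd : s.map (Function.Embedding.subtype (fun p => p ∈ d)) ⊆ d := by
      intro x hx
      obtain ⟨y, _, rfl⟩ := Finset.mem_map.1 hx
      exact y.2
    obtain ⟨o, ⟨ho, hso⟩, huniq⟩ := Cfsg.Agent.Lib.helper33.golay_steiner.2 _ hs'
    have h5 : 5 ≤ (o ∩ d).card := by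
      rw [← hs']
      exact Finset.card_le_card (Finset.subset_inter hso hsd)
    have h6 : (o ∩ d).card = 6 := by
      have := Cfsg.Agent.Lib.helper33.octad_inter_dodecad ho hd
      rw [Finset.inter_comm] at this
      omega
    refine ⟨Finset.subtype (fun p => p ∈ d) o, ⟨⟨o, ho, h6, rfl⟩, ?_⟩, ?_⟩
    · intro x hx
      rw [Finset.mem_subtype]
      exact hso (Finset.mem_map_of_mem _ hx)
    · rintro b ⟨⟨o', ho', _, rfl⟩, hsb⟩
      have hso' : s.map (Function.Embedding.subtype (fun p => p ∈ d)) ⊆ o' := by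
        intro x hx
        obtain ⟨y, hy, rfl⟩ := Finset.mem_map.1 hx
        exact Finset.mem_subtype.1 (hsb hy)
      rw [huniq o' ⟨ho', hso'⟩]

end Cfsg.Agent.S0385
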