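import Mathlib
import Cfsg.Statements.S0644
import Cfsg.Agent.Lib.helper74.RegularP
import Cfsg.Agent.Lib.helper3.PGroupFrattini

set_option autoImplicit false
open Cfsg
open scoped commutatorElement

namespace Cfsg.Agent.S0644

open Cfsg.Agent.Lib.helper74

variable {G : Type*} [Group G]

/-- In a finite `p`-group, an element of a non-abelian subgroup `M` lies in a proper subgroup of
`M` containing the derived subgroup of `M`. -/
theorem exists_proper_ge_commutator [Finite G] {p : ℕ} [Fact p.Prime] (hG : IsPGroup p G)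
    (M : Subgroup G) (hM : ⁅M, M⁆ ≠ ⊥) {x : G} (hx : x ∈ M) :
    ∃ L : Subgroup G, L ≤ M ∧ Nat.card L < Nat.card M ∧ x ∈ L ∧ ⁅M, M⁆ ≤ L := by
  have hMp : IsPGroup p M := hG.to_subgroup M
  have hX : Subgroup.zpowers (⟨x, hx⟩ : M) ≠ ⊤ := by
    intro htop
    apply hM
    rw [eq_bot_iff, Subgroup.commutator_le]
    intro u hu v hv
    have hu' : (⟨u, hu⟩ : M) ∈ Subgroup.zpowers (⟨x, hx⟩ : M) := by rw [htop]; trivial
    have hv' : (⟨v, hv⟩ : M) ∈ Subgroup.zpowers (⟨x, hx⟩ : M) := by rw [htop]; trivial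
    obtain ⟨i, hi⟩ := Subgroup.mem_zpowers_iff.mp hu'
    obtain ⟨j, hj⟩ := Subgroup.mem_zpowers_iff.mp hv'
    have hi' : x ^ i = u := by simpa using congrArg Subtype.val hi
    have hj' : x ^ j = v := by simpa using congrArg Subtype.val hj
    rw [Subgroup.mem_bot, ← hi', ← hj', commutatorElement_def]
    group
  obtain ⟨C, hC, hXC⟩ := (eq_top_or_exists_le_coatom _).resolve_left hX
  have hcomm : commutator M ≤ C := Cfsg.Agent.Lib.helper3.commutator_le_coatom hMp hC
  refine ⟨C.map M.subtype, Subgroup.map_subtype_le C, ?_, ?_, ?_⟩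
  · rw [Subgroup.card_subtype]
    exact lt_of_le_of_ne C.card_le_card_group (fun h => hC.1 (Subgroup.eq_top_of_card_eq C h))
  · exact ⟨⟨x, hx⟩, hXC (Subgroup.mem_zpowers _), rfl⟩
  · have h1 : ⁅M, M⁆ = (commutator M).map M.subtype := by
      rw [commutator_def, Subgroup.map_commutator, ← MonoidHom.range_eq_map, Subgroup.range_subtype]
    rw [h1]
    exact Subgroup.map_mono hcomm

/-- If products of two `p ^ n`-th powers of elements of `D` are again such powers, then every element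
of `powerClosure p n D` is a `p ^ n`-th power of an element of `D`. -/
theorem mem_powerClosure_of_mul {p n : ℕ} (D : Subgroup G)
    (h : ∀ x ∈ D, ∀ y ∈ D, ∃ z ∈ D, x ^ p ^ n * y ^ p ^ n = z ^ p ^ n) :
    ∀ c ∈ Cfsg.powerClosure p n D, ∃ e ∈ D, c = e ^ p ^ n := by
  intro c hc
  unfold Cfsg.powerClosure at hc
  induction hc using Subgroup.closure_induction with
  | mem y hy => exact hy
  | one => exact ⟨1, D.one_mem, (one_pow _).symm⟩
  | mul c₁ c₂ _ _ ih₁ ih₂ =>
    obtain ⟨e₁, he₁, rfl⟩ := ih₁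
    obtain ⟨e₂, he₂, rfl⟩ := ih₂
    obtain ⟨z, hz, hz'⟩ := h e₁ he₁ e₂ he₂
    exact ⟨z, hz, hz'⟩
  | inv c _ ih =>
    obtain ⟨e, he, rfl⟩ := ih
    exact ⟨e⁻¹, D.inv_mem he, (inv_pow _ _).symm⟩

/-- In a finite regular `p`-group, the product of two `p ^ n`-th powers of elements of a subgroup `K`
is the `p ^ n`-th power of an element of `K`. -/
theorem regular_pow_mul_pow [Finite G] {p : ℕ} [Fact p.Prime] (hG : Cfsg.IsRegularPGroup p G)
    (n : ℕ) (K : Subgroup G) :
    ∀ a ∈ K, ∀ b ∈ K, ∃ z ∈ K, a ^ p ^ n * b ^ p ^ n = z ^ p ^ n := by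
  induction' hc : Nat.card K using Nat.strong_induction_on with m ih generalizing K
  have : Group.IsNilpotent G := hG.1.isNilpotent
  intro a ha b hb
  have hle : Subgroup.closure ({a, b} : Set G) ≤ K := by
    rw [Subgroup.closure_le]
    rintro z (rfl | rfl) <;> assumption
  have haM : a ∈ Subgroup.closure ({a, b} : Set G) := Subgroup.subset_closure (by simp)
  have hbM : b ∈ Subgroup.closure ({a, b} : Set G) := Subgroup.subset_closure (by simp)
  by_cases hab : ⁅Subgroup.closure ({a, b} : Set G), Subgroup.closure ({a, b} : Set G)⁆ = ⊥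
  · have h1 : ⁅a, b⁆ = 1 := by
      have := Subgroup.commutator_mem_commutator haM hbM
      rwa [hab, Subgroup.mem_bot] at this
    have hcomm : Commute a b := by
      rw [commutatorElement_eq_one_iff_commute] at h1
      exact h1
    exact ⟨a * b, K.mul_mem ha hb, (hcomm.mul_pow _).symm⟩
  · obtain ⟨c, hc', h⟩ := hG.2 a b n
    have hMne : Subgroup.closure ({a, b} : Set G) ≠ ⊥ := by
      rintro h0
      apply hab
      rw [h0, eq_bot_iff, Subgroup.commutator_le]
      intro u hu v hv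
      rw [Subgroup.mem_bot] at hu hv
      simp [hu, hv]
    have hDlt : ⁅Subgroup.closure ({a, b} : Set G), Subgroup.closure ({a, b} : Set G)⁆ <
        Subgroup.closure ({a, b} : Set G) := Group.IsSolvable.commutator_lt_of_ne_bot hMne
    have hMcard : Nat.card (Subgroup.closure ({a, b} : Set G)) ≤ m := by
      rw [← hc]
      exact Subgroup.card_le_of_le hle
    have hDcard : Nat.card (⁅Subgroup.closure ({a, b} : Set G),
        Subgroup.closure ({a, b} : Set G)⁆ : Subgroup G) < m :=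
      lt_of_lt_of_le (card_lt_of_le_of_ne hDlt.le hDlt.ne) hMcard
    have hPD := ih _ hDcard _ rfl
    obtain ⟨e, he, hce⟩ := mem_powerClosure_of_mul _ hPD c⁻¹ (Subgroup.inv_mem _ hc')
    obtain ⟨L, hLM, hLcard, habL, hDL⟩ := exists_proper_ge_commutator hG.1
      (Subgroup.closure ({a, b} : Set G)) hab (Subgroup.mul_mem _ haM hbM)
    have hPL := ih _ (lt_of_lt_of_le hLcard hMcard) L rfl
    obtain ⟨z, hz, hz'⟩ := hPL (a * b) habL e (hDL he)
    refine ⟨z, hle (hLM hz), ?_⟩
    rw [← hz', ← hce, h]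
    group

/-- In a finite regular `p`-group, `powerClosure p n H` is exactly the set of `p ^ n`-th powers. -/
theorem mem_powerClosure_iff [Finite G] {p : ℕ} [Fact p.Prime] (hG : Cfsg.IsRegularPGroup p G)
    (n : ℕ) (H : Subgroup G) (y : G) :
    y ∈ Cfsg.powerClosure p n H ↔ ∃ x ∈ H, y = x ^ p ^ n :=
  ⟨mem_powerClosure_of_mul H (regular_pow_mul_pow hG n H) y,
    fun h => Subgroup.subset_closure h⟩

theorem powerClosure_mono {p n : ℕ} {H K : Subgroup G} (h : H ≤ K) :
    Cfsg.powerClosure p n H ≤ Cfsg.powerClosure p n K := by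
  unfold Cfsg.powerClosure
  apply Subgroup.closure_mono
  rintro y ⟨x, hx, rfl⟩
  exact ⟨x, h hx, rfl⟩

/-- `powerClosure p n ⁅H, H⁆` is normalized by `H`. -/
theorem powerClosure_commutator_conj {p n : ℕ} (H : Subgroup G) {h : G} (hh : h ∈ H) {x : G}
    (hx : x ∈ Cfsg.powerClosure p n ⁅H, H⁆) : h * x * h⁻¹ ∈ Cfsg.powerClosure p n ⁅H, H⁆ := by
  unfold Cfsg.powerClosure at hx ⊢
  induction hx using Subgroup.closure_induction with
  | mem y hy =>
    obtain ⟨u, hu, rfl⟩ := hy
    apply Subgroup.subset_closure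
    refine ⟨h * u * h⁻¹, ?_, (conj_pow).symm⟩
    have hle : ⁅H, H⁆ ≤ H := Subgroup.commutator_le.mpr (fun g₁ h₁ g₂ h₂ =>
      H.mul_mem (H.mul_mem (H.mul_mem h₁ h₂) (H.inv_mem h₁)) (H.inv_mem h₂))
    have e : h * u * h⁻¹ = ⁅h, u⁆ * u := by simp [commutatorElement_def]
    rw [e]
    exact Subgroup.mul_mem _ (Subgroup.commutator_mem_commutator hh (hle hu)) hu
  | one => simp
  | mul c₁ c₂ _ _ ih₁ ih₂ =>
    have e : h * (c₁ * c₂) * h⁻¹ = (h * c₁ * h⁻¹) * (h * c₂ * h⁻¹) := by group
    rw [e]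
    exact Subgroup.mul_mem _ ih₁ ih₂
  | inv c _ ih =>
    have e : h * c⁻¹ * h⁻¹ = (h * c * h⁻¹)⁻¹ := by group
    rw [e]
    exact Subgroup.inv_mem _ ih

/-- In a regular p-group the p^n-th powers of the elements of any subgroup H form a subgroup, whose derived subgroup is contained in the subgroup generated by the p^n-th powers of elements of the derived subgroup of H. -/
theorem result {G : Type*} [Group G] [Finite G] {p : ℕ} [Fact p.Prime] (hG : Cfsg.IsRegularPGroup p G) (H : Subgroup G) (n : ℕ) : {y : G | ∃ x ∈ H, y = x ^ (p ^ n)} = (Cfsg.powerClosure p n H : Set G) ∧ ⁅Cfsg.powerClosure p n H, Cfsg.powerClosure p n H⁆ ≤ Cfsg.powerClosure p n ⁅H, H⁆ := by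
  constructor
  · ext y
    exact (mem_powerClosure_iff hG n H y).symm
  · have hNn : ((Cfsg.powerClosure p n ⁅H, H⁆).subgroupOf H).Normal := by
      refine ⟨fun x hx g => ?_⟩
      rw [Subgroup.mem_subgroupOf] at hx ⊢
      exact powerClosure_commutator_conj H g.2 hx
    -- the `p ^ n`-th power map is a homomorphism modulo `powerClosure p n ⁅H, H⁆`
    let θ : ↥H →* ↥H ⧸ (Cfsg.powerClosure p n ⁅H, H⁆).subgroupOf H :=
      MonoidHom.mk' (fun x => QuotientGroup.mk (x ^ p ^ n)) (by
        intro x y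
        rw [← QuotientGroup.mk_mul, QuotientGroup.eq, Subgroup.mem_subgroupOf]
        obtain ⟨c, hc, h⟩ := hG.2 (x : G) (y : G) n
        have hle : Subgroup.closure ({(x : G), (y : G)} : Set G) ≤ H := by
          rw [Subgroup.closure_le]
          rintro z (rfl | rfl)
          · exact x.2
          · exact y.2
        have hc' : c ∈ Cfsg.powerClosure p n ⁅H, H⁆ :=
          powerClosure_mono (Subgroup.commutator_mono hle hle) hc
        have e : ((((x * y) ^ p ^ n)⁻¹ * (x ^ p ^ n * y ^ p ^ n) : ↥H) : G) = c⁻¹ := by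
          push_cast
          rw [h]
          group
        rw [e]
        exact Subgroup.inv_mem _ hc')
    have hθ : ∀ x : ↥H, θ x = QuotientGroup.mk (x ^ p ^ n) := fun x => rfl
    rw [Subgroup.commutator_le]
    intro g₁ hg₁ g₂ hg₂
    obtain ⟨a, ha, rfl⟩ := (mem_powerClosure_iff hG n H g₁).mp hg₁
    obtain ⟨b, hb, rfl⟩ := (mem_powerClosure_iff hG n H g₂).mp hg₂
    have h1 : θ ⁅(⟨a, ha⟩ : ↥H), (⟨b, hb⟩ : ↥H)⁆ = 1 := by
      rw [hθ, QuotientGroup.eq_one_iff, Subgroup.mem_subgroupOf]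
      apply Subgroup.subset_closure
      exact ⟨⁅a, b⁆, Subgroup.commutator_mem_commutator ha hb, by simp [commutatorElement_def]⟩
    rw [map_commutatorElement, hθ, hθ] at h1
    have h1' : (QuotientGroup.mk' ((Cfsg.powerClosure p n ⁅H, H⁆).subgroupOf H))
        ⁅(⟨a, ha⟩ : ↥H) ^ p ^ n, (⟨b, hb⟩ : ↥H) ^ p ^ n⁆ = 1 := by
      rw [map_commutatorElement]
      exact h1
    have h2 := (QuotientGroup.eq_one_iff _).mp h1'
    rw [Subgroup.mem_subgroupOf] at h2
    simpa [commutatorElement_def] using h2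

end Cfsg.Agent.S0644
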