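import Cfsg.Statements.S3375

set_option autoImplicit false
open Cfsg

namespace Cfsg.Agent.S3375

theorem gamma_sq {H : Type*} [Group H] (γ : MulAut H) (hγ : orderOf γ = 2) (h : H) :
    γ (γ h) = h := by
  have h2 : γ ^ 2 = 1 := by rw [← hγ]; exact pow_orderOf_eq_one γ
  have : (γ ^ 2) h = h := by rw [h2]; rfl
  simpa [pow_two] using this

/-- The map `ψ h = γ h * h⁻¹` lands in the inverted elements. -/
theorem gamma_psi {H : Type*} [Group H] (γ : MulAut H) (hγ : orderOf γ = 2) (h : H) :
    γ (γ h * h⁻¹) = (γ h * h⁻¹)⁻¹ := by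
  rw [map_mul, gamma_sq γ hγ, map_inv]; group

theorem comm_of_inverted {H : Type*} [Group H] (γ : MulAut H) (a b : H)
    (ha : γ a = a⁻¹) (hb : γ b = b⁻¹) (hab : γ (a * b) = (a * b)⁻¹) : a * b = b * a := by
  rw [map_mul, ha, hb, mul_inv_rev] at hab
  have := congrArg (fun x => x⁻¹) hab
  simpa using this.symm

/-- Existence of a `γ`-invariant subgroup of index 2. -/
theorem exists_invariant {H : Type*} [Group H] (γ : MulAut H) (hγ : orderOf γ = 2)
    (M : Subgroup H) (hM : M.index = 2) :
    ∃ A : Subgroup H, A.index = 2 ∧ ∀ a ∈ A, γ a ∈ A := by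
  by_cases hinv : ∀ h, h ∈ M ↔ γ h ∈ M
  · exact ⟨M, hM, fun a ha => (hinv a).1 ha⟩
  · push Not at hinv
    obtain ⟨a, ha⟩ := hinv
    let N : Subgroup H :=
      { carrier := {h | h ∈ M ↔ γ h ∈ M}
        mul_mem' := by
          intro x y hx hy
          simp only [Set.mem_ofPred_eq] at hx hy ⊢
          rw [map_mul, Subgroup.mul_mem_iff_of_index_two hM, Subgroup.mul_mem_iff_of_index_two hM,
            hx, hy]
        one_mem' := by simp
        inv_mem' := by
          intro x hx
          simp only [Set.mem_ofPred_eq] at hx ⊢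
          rw [map_inv, inv_mem_iff, inv_mem_iff, hx] }
    have hNmem : ∀ h, h ∈ N ↔ (h ∈ M ↔ γ h ∈ M) := fun h => Iff.rfl
    refine ⟨N, ?_, ?_⟩
    · rw [Subgroup.index_eq_two_iff]
      refine ⟨a, fun b => ?_⟩
      rw [hNmem, hNmem, map_mul, Subgroup.mul_mem_iff_of_index_two hM,
        Subgroup.mul_mem_iff_of_index_two hM]
      unfold Xor
      tauto
    · intro x hx
      rw [hNmem] at hx ⊢
      rw [gamma_sq γ hγ]
      exact hx.symm

theorem result {H : Type*} [Group H] [Finite H] (γ : MulAut H) (hγ : orderOf γ = 2) :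
    ((∀ h : H, γ h = h → h = 1) → (∀ a b : H, a * b = b * a) ∧ ∀ h : H, γ h = h⁻¹) ∧
    ((Nat.card {h : H // γ h = h} = 2 ∧ ∃ M : Subgroup H, M.index = 2) →
      ∃ A : Subgroup H, A.index = 2 ∧ IsMulCommutative A ∧ (∀ a ∈ A, γ a ∈ A) ∧ ∀ a ∈ A, γ a = a⁻¹) := by
  constructor
  · intro hfpf
    have hinj : Function.Injective (fun h : H => γ h * h⁻¹) := by
      intro a b hab
      simp only at hab
      have h1 : γ (b⁻¹ * a) = b⁻¹ * a := by
        rw [map_mul, map_inv]
        have : (γ b)⁻¹ * (γ a * a⁻¹) * a = (γ b)⁻¹ * (γ b * b⁻¹) * a := by rw [hab]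
        simpa [mul_assoc] using this
      have h2 := hfpf _ h1
      have : a = b := by
        have := congrArg (fun x => b * x) h2
        simpa using this
      exact this
    have hsurj : Function.Surjective (fun h : H => γ h * h⁻¹) := Finite.surjective_of_injective hinj
    have hinvert : ∀ h : H, γ h = h⁻¹ := by
      intro g
      obtain ⟨h, rfl⟩ := hsurj g
      exact gamma_psi γ hγ h
    exact ⟨fun a b => comm_of_inverted γ a b (hinvert a) (hinvert b) (hinvert _), hinvert⟩
  · rintro ⟨hcard, M, hM⟩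
    obtain ⟨A, hA, hAinv⟩ := exists_invariant γ hγ M hM
    -- the fixed subgroup
    let C : Subgroup H := MonoidHom.eqLocus γ.toMonoidHom (MonoidHom.id H)
    have hCmem : ∀ h, h ∈ C ↔ γ h = h := fun h => Iff.rfl
    have hCcard : Nat.card C = 2 := by
      rw [← hcard]; rfl
    have hmemA : ∀ h : H, γ h * h⁻¹ ∈ A := by
      intro h
      rw [Subgroup.mul_mem_iff_of_index_two hA, inv_mem_iff]
      constructor
      · intro hh
        have := hAinv _ hh
        rwa [gamma_sq γ hγ] at this
      · exact hAinv h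
    -- the induced map on the quotient
    let f : H ⧸ C → A := Quotient.lift (fun h : H => (⟨γ h * h⁻¹, hmemA h⟩ : A)) (by
      intro a b hab
      have hab' : a⁻¹ * b ∈ C := QuotientGroup.leftRel_apply.mp hab
      rw [hCmem, map_mul, map_inv] at hab'
      apply Subtype.ext
      simp only
      have : γ a * ((γ a)⁻¹ * γ b) * b⁻¹ = γ a * (a⁻¹ * b) * b⁻¹ := by rw [hab']
      simpa [mul_assoc] using this.symm)
    have hf : ∀ h : H, f (QuotientGroup.mk h) = ⟨γ h * h⁻¹, hmemA h⟩ := fun h => rfl
    have hfinj : Function.Injective f := by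
      intro x y hxy
      induction x using QuotientGroup.induction_on with
      | H a =>
        induction y using QuotientGroup.induction_on with
        | H b =>
          rw [hf, hf] at hxy
          have hxy' : γ a * a⁻¹ = γ b * b⁻¹ := congrArg Subtype.val hxy
          rw [QuotientGroup.eq, hCmem, map_mul, map_inv]
          have : (γ a)⁻¹ * (γ a * a⁻¹) * b = (γ a)⁻¹ * (γ b * b⁻¹) * b := by rw [hxy']
          simpa [mul_assoc] using this.symm
    have hcardeq : Nat.card (H ⧸ C) = Nat.card A := by
      have h1 : Nat.card H = Nat.card (H ⧸ C) * Nat.card C :=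
        Subgroup.card_eq_card_quotient_mul_card_subgroup C
      have h2 : A.index * Nat.card A = Nat.card H := Subgroup.index_mul_card A
      rw [hCcard] at h1
      rw [hA] at h2
      omega
    have hfbij : Function.Bijective f :=
      (Nat.bijective_iff_injective_and_card f).2 ⟨hfinj, hcardeq⟩
    have hinvert : ∀ a ∈ A, γ a = a⁻¹ := by
      intro a ha
      obtain ⟨x, hx⟩ := hfbij.2 ⟨a, ha⟩
      induction x using QuotientGroup.induction_on with
      | H h =>
        rw [hf] at hx
        have hx' : γ h * h⁻¹ = a := congrArg Subtype.val hx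
        rw [← hx']
        exact gamma_psi γ hγ h
    refine ⟨A, hA, ?_, hAinv, hinvert⟩
    rw [isMulCommutative_iff]
    rintro ⟨a, ha⟩ ⟨b, hb⟩
    apply Subtype.ext
    exact comm_of_inverted γ a b (hinvert a ha) (hinvert b hb) (hinvert _ (A.mul_mem ha hb))

end Cfsg.Agent.S3375
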