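-- Statement S0963: θ occurs in χ|N iff the central character of χ on N is induced from θ.
import Cfsg.Statements.S0963
import Cfsg.Agent.Lib.helper84.CliffordSum
import Cfsg.Agent.Lib.helper84.Frobenius

set_option autoImplicit false
open Cfsg

namespace Cfsg.Agent.S0963

open Cfsg.Agent.Lib Cfsg.Agent.Lib.helper82 Cfsg.Agent.Lib.helper84
open scoped ComplexConjugate

/-- Let N be a normal subgroup of the finite group G, χ an irreducible character of G and θ an irreducible character of N. Then θ occurs in the restriction of χ to N if and only if, for every n ∈ N, the central character of χ at n (class size in G times χ n over χ 1) equals the sum of θ m / θ 1 over the elements m of N conjugate in G to n. -/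
theorem result {G : Type*} [Group G] [Fintype G] (N : Subgroup G) [N.Normal] [Fintype N] (χ : Cfsg.IrrCharacter G) (θ : Cfsg.IrrCharacter N) : Cfsg.classInner (fun n : N => (χ : G → ℂ) n) (θ : N → ℂ) ≠ 0 ↔ ∀ n : N, Cfsg.centralChar (χ : G → ℂ) (n : G) = Cfsg.inducedCentralChar N (θ : N → ℂ) (n : G) := by
  classical
  have : Fintype (IrrCharacter N) := Fintype.ofFinite _
  have hχ1 : (χ : G → ℂ) 1 ≠ 0 := helper81.irr_one_ne_zero χ
  have hθ1 : (θ : N → ℂ) 1 ≠ 0 := helper81.irr_one_ne_zero θ
  have hG : (Nat.card G : ℂ) ≠ 0 := by exact_mod_cast Nat.card_pos.ne'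
  have hC : ∀ g : G, (Nat.card (Subgroup.centralizer ({g} : Set G)) : ℂ) ≠ 0 := by
    intro g
    exact_mod_cast Nat.card_pos.ne'
  have hI : (Nat.card (inertia N (θ : N → ℂ)) : ℂ) ≠ 0 := by
    exact_mod_cast Nat.card_pos.ne'
  constructor
  · intro hne n
    have hres : IsCharacter N (fun n : N => (χ : G → ℂ) n) :=
      helper4.isCharacter_restrict N (helper83.isCharacter_of_irr χ.2)
    obtain ⟨e, he⟩ := classInner_isCharacter_nat hres (helper83.isCharacter_of_irr θ.2)
    have he0 : e ≠ 0 := by
      rintro rfl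
      apply hne
      rw [he, Nat.cast_zero]
    have hd := clifford_decomp N χ.2 θ.2 e he he0 n
    have hdeg := clifford_degree N χ.2 θ.2 e he he0
    have hs := sum_cconj_eq N θ.2 n
    have hidx := Subgroup.index_mul_card (inertia N (θ : N → ℂ))
    have hidx' : ((inertia N (θ : N → ℂ)).index : ℂ) * (Nat.card (inertia N (θ : N → ℂ)) : ℂ)
        = (Nat.card G : ℂ) := by exact_mod_cast hidx
    have he0' : (e : ℂ) ≠ 0 := by exact_mod_cast he0
    have hidx0 : ((inertia N (θ : N → ℂ)).index : ℂ) ≠ 0 := by
      intro h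
      rw [h, zero_mul] at hidx'
      exact hG hidx'.symm
    rw [centralChar_eq, inducedCentralChar_eq, hs, hd, hdeg, ← hidx']
    field_simp
  · intro h
    have key : ∀ n : N, (χ : G → ℂ) n
        = (χ : G → ℂ) 1 / ((Nat.card G : ℂ) * (θ : N → ℂ) 1)
          * (∑ x : G, cconj N x (θ : N → ℂ)) n := by
      intro n
      have h1 := h n
      rw [centralChar_eq, inducedCentralChar_eq] at h1
      have hCn := hC (n : G)
      rw [Finset.sum_apply]
      field_simp at h1 ⊢
      linear_combination h1
    have h2 : classInner (fun n : N => (χ : G → ℂ) n) (θ : N → ℂ)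
        = (χ : G → ℂ) 1 / ((Nat.card G : ℂ) * (θ : N → ℂ) 1)
          * classInner (∑ x : G, cconj N x (θ : N → ℂ)) (θ : N → ℂ) := by
      rw [← helper81.classInner_smul_left]
      congr 1
      funext n
      rw [key n]
      rfl
    rw [h2, classInner_sum_cconj N θ.2]
    exact mul_ne_zero (div_ne_zero hχ1 (mul_ne_zero hG hθ1)) hI

end Cfsg.Agent.S0963
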