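import Cfsg.Statements.S0965
import Cfsg.Agent.Lib.helper77.Cover2
import Cfsg.Agent.S0963

set_option autoImplicit false
open Cfsg

namespace Cfsg.Agent.S0965

/-- Let N be a normal subgroup of the finite group G and let B, b be blocks of G and of N relative to a maximal ideal M of the algebraic integers containing the prime p. Then some χ ∈ B has a constituent in b on restriction to N if and only if, for all χ ∈ B, θ ∈ b and n ∈ N, the central character of χ at n is congruent modulo the local ideal at M to the sum of θ m / θ 1 over the elements m ∈ N conjugate in G to n. -/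
theorem result {G : Type*} [Group G] [Fintype G] (p : ℕ) [Fact p.Prime] (M : Ideal Cfsg.AlgInt) (hM : Cfsg.IsPModular p M) (N : Subgroup G) [N.Normal] [Fintype N] (B : Set (Cfsg.IrrCharacter G)) (hB : Cfsg.IsPBlock M B) (b : Set (Cfsg.IrrCharacter N)) (hb : Cfsg.IsPBlock M b) : (∃ χ ∈ B, ∃ θ ∈ b, Cfsg.classInner (fun n : N => (χ : G → ℂ) n) (θ : N → ℂ) ≠ 0) ↔ ∀ χ ∈ B, ∀ θ ∈ b, ∀ n : N, Cfsg.MemLocalIdeal M (Cfsg.centralChar (χ : G → ℂ) (n : G) - Cfsg.inducedCentralChar N (θ : N → ℂ) (n : G)) := by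
  have hMp : M.IsPrime := Cfsg.Agent.Lib.helper20.isPrime_of_isPModular hM
  constructor
  · rintro ⟨χ₀, hχ₀, θ₀, hθ₀, h₀⟩ χ hχ θ hθ n
    have e0 := (Cfsg.Agent.S0963.result N χ₀ θ₀).mp h₀ n
    have e1 : Cfsg.MemLocalIdeal M (Cfsg.centralChar (χ : G → ℂ) (n : G)
        - Cfsg.centralChar (χ₀ : G → ℂ) (n : G)) :=
      Cfsg.Agent.Lib.helper80.sameBlock_of_mem hMp hB hχ hχ₀ (n : G)
    have e2 := Cfsg.Agent.Lib.helper77.memLocalIdeal_inducedCentralChar_sub N hMp
      (Cfsg.Agent.Lib.helper80.sameBlock_of_mem hMp hb hθ₀ hθ) (n : G)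
    have e3 := Cfsg.Agent.Lib.helper20.memLocalIdeal_add hMp e1 e2
    rw [e0] at e3
    have e4 : Cfsg.centralChar (χ : G → ℂ) (n : G) - Cfsg.inducedCentralChar N (θ₀ : N → ℂ) (n : G)
        + (Cfsg.inducedCentralChar N (θ₀ : N → ℂ) (n : G)
          - Cfsg.inducedCentralChar N (θ : N → ℂ) (n : G))
        = Cfsg.centralChar (χ : G → ℂ) (n : G) - Cfsg.inducedCentralChar N (θ : N → ℂ) (n : G) := by
      ring
    rwa [e4] at e3
  · intro hall
    obtain ⟨χ, hχ⟩ := Cfsg.Agent.Lib.helper80.isPBlock_nonempty hMp hB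
    obtain ⟨θ, hθ⟩ := Cfsg.Agent.Lib.helper80.isPBlock_nonempty hMp hb
    obtain ⟨θ', hθ'⟩ := Cfsg.Agent.Lib.helper77.exists_constituent_restrict_top N χ
    have e0 := (Cfsg.Agent.S0963.result N χ θ').mp hθ'
    have hcong : ∀ n : N, Cfsg.MemLocalIdeal M
        (Cfsg.inducedCentralChar N (θ' : N → ℂ) (n : G)
          - Cfsg.inducedCentralChar N (θ : N → ℂ) (n : G)) := by
      intro n
      rw [← e0 n]
      exact hall χ hχ θ hθ n
    have ha := Cfsg.Agent.Lib.helper77.blockCoeff_conj_of_stable N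
      (Cfsg.Agent.Lib.helper77.orbitUnion N b) (Cfsg.Agent.Lib.helper77.orbitUnion_stable N b)
    have hloc := Cfsg.Agent.Lib.helper77.memLocalRing_blockCoeff_of_union hMp _
      (Cfsg.Agent.Lib.helper77.orbitUnion_union_blocks N hMp hb)
    have h1 := Cfsg.Agent.Lib.helper77.memLocalIdeal_om_sub_of_inducedCentralChar N hMp
      (θ : N → ℂ) (θ' : N → ℂ) hcong _ ha hloc
    rw [Cfsg.Agent.Lib.helper80.om_blockCoeff, Cfsg.Agent.Lib.helper80.om_blockCoeff,
      if_pos (Cfsg.Agent.Lib.helper77.subset_orbitUnion N b hθ)] at h1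
    have hmem : θ' ∈ Cfsg.Agent.Lib.helper77.orbitUnion N b := by
      by_contra hcon
      rw [if_neg hcon, zero_sub] at h1
      have h2 := Cfsg.Agent.Lib.helper20.memLocalIdeal_neg h1
      rw [neg_neg] at h2
      exact Cfsg.Agent.Lib.helper20.not_memLocalIdeal_one h2
    obtain ⟨g, hg⟩ := hmem
    refine ⟨χ, hχ, _, hg, ?_⟩
    rw [Cfsg.Agent.Lib.helper77.cjIrr_coe, Cfsg.Agent.Lib.helper82.classInner_restrict_cconj N
      (Cfsg.Agent.Lib.helper4.isClassFunction_of_isIrrCharacter χ.2) g]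
    exact hθ'

end Cfsg.Agent.S0965
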