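import Mathlib
import Cfsg.Statements.S4468
import Cfsg.Agent.Lib.helper82.GlaubPrime
import Cfsg.Agent.Lib.helper82.GlaubSub
import Cfsg.Agent.Lib.helper82.Ramification
import Cfsg.Agent.Lib.helper82.CharDeg
import Cfsg.Agent.Lib.helper82.CharSums
import Cfsg.Agent.Lib.helper20.Schur
import Cfsg.Agent.Lib.helper38.HallHigman2
import Cfsg.Agent.Lib.helper37.CoprimeGen
import Cfsg.Agent.Lib.helper4.SubChar
import Cfsg.Agent.Lib.helper40.Cores
import Cfsg.Agent.Lib.helper83.CharBasic2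

set_option autoImplicit false
set_option linter.unusedSectionVars false
set_option linter.style.haveILetI false
open Cfsg

namespace Cfsg.Agent.S4468

open Cfsg.Agent.Lib Cfsg.Agent.Lib.helper83 Cfsg.Agent.Lib.helper82
open scoped ComplexConjugate
open scoped commutatorElement

universe u

/-! ### Elementary auxiliary facts -/

theorem eq_of_re_eq_of_norm_le (z : ℂ) (d : ℝ) (h1 : z.re = d) (h2 : ‖z‖ ≤ d) : z = (d : ℂ) := by
  have h3 : ‖z‖ ^ 2 = z.re * z.re + z.im * z.im := by
    rw [Complex.sq_norm, Complex.normSq_apply]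
  have h4 : z.im * z.im ≤ 0 := by
    have h5 : ‖z‖ ^ 2 ≤ d ^ 2 := by
      have := norm_nonneg z
      nlinarith
    rw [h3, h1] at h5
    nlinarith
  have h6 : z.im = 0 := mul_self_eq_zero.mp (le_antisymm h4 (mul_self_nonneg _))
  apply Complex.ext
  · simp [h1]
  · simp [h6]

theorem int_aux (p : ℕ) (hp2 : 2 ≤ p) (m : ℕ) (hm : m < p) (k : ℤ) (e : ℤ)
    (he : e = 1 ∨ e = -1 ∨ e = 0) (h : (m : ℤ) = (p : ℤ) * k + e) :
    (e = 1 ∧ m = 1) ∨ (e = -1 ∧ m + 1 = p) ∨ (e = 0 ∧ m = 0) := by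
  have h0 : (0 : ℤ) ≤ m := Int.natCast_nonneg m
  have h1 : (m : ℤ) < p := by exact_mod_cast hm
  have hp' : (2 : ℤ) ≤ p := by exact_mod_cast hp2
  have hk : k = 0 ∨ k = 1 := by
    by_contra hk
    push Not at hk
    rcases lt_or_gt_of_ne hk.1 with h' | h'
    · have h2 : (p : ℤ) * k ≤ (p : ℤ) * (-1) :=
        mul_le_mul_of_nonneg_left (by omega) (by omega)
      rcases he with rfl | rfl | rfl <;> linarith
    · have h3 : (2 : ℤ) ≤ k := by omega
      have h2 : (p : ℤ) * 2 ≤ (p : ℤ) * k := mul_le_mul_of_nonneg_left h3 (by omega)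
      rcases he with rfl | rfl | rfl <;> linarith
  rcases hk with rfl | rfl
  · rcases he with rfl | rfl | rfl
    · left; exact ⟨rfl, by omega⟩
    · exfalso; omega
    · right; right; exact ⟨rfl, by omega⟩
  · rcases he with rfl | rfl | rfl
    · exfalso; omega
    · right; left; exact ⟨rfl, by omega⟩
    · exfalso; omega

theorem relIndex_dvd_index_of_normal'' {G : Type u} [Group G] [Finite G] (I R : Subgroup G)
    [R.Normal] : I.relIndex R ∣ I.index := by
  have h1 : (I ⊓ R).relIndex R * R.index = (I ⊓ R).index :=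
    Subgroup.relIndex_mul_index inf_le_right
  have h2 : (R ⊓ I).relIndex I * I.index = (R ⊓ I).index :=
    Subgroup.relIndex_mul_index inf_le_right
  rw [Subgroup.inf_relIndex_right] at h1
  rw [Subgroup.inf_relIndex_right] at h2
  rw [inf_comm] at h2
  obtain ⟨m, hm⟩ := Subgroup.relIndex_dvd_index_of_normal R I
  have hd : R.relIndex I ≠ 0 := Subgroup.index_ne_zero_of_finite
  refine ⟨m, ?_⟩
  have h3 : R.relIndex I * (I.relIndex R * m) = R.relIndex I * I.index := by
    rw [h2, ← h1, hm]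
    ring
  exact (Nat.eq_of_mul_eq_mul_left (Nat.pos_of_ne_zero hd) h3).symm

/-! ### An invariant character with irreducible restriction to the fixed points -/

section LemmaL

variable {Q : Type u} [Group Q] [Fintype Q] (p : ℕ) [hp : Fact p.Prime]
variable (X : Subgroup (MulAut Q))

theorem lemmaL (hX : Nat.card X = p) (ψ : Q → ℂ) (hψ : IsIrrCharacter Q ψ)
    (hinv : IsInvFun X ψ) (C : Subgroup Q) (hC : ∀ c ∈ C, ∀ σ ∈ X, σ c = c)
    (hψC : IsIrrCharacter C (fun c : C => ψ c)) (a : X) (s : Q) :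
    ψ (s * ((a : MulAut Q) s)⁻¹) = ψ 1 := by
  classical
  haveI : Finite (Q ⋊[X.subtype] X) := Finite.of_equiv _ SemidirectProduct.equivProd.symm
  letI : Fintype (Q ⋊[X.subtype] X) := Fintype.ofFinite _
  let N : Subgroup (Q ⋊[X.subtype] X) :=
    (SemidirectProduct.rightHom : Q ⋊[X.subtype] X →* X).ker
  letI : Fintype N := Fintype.ofFinite _
  have hNr : ∀ n : N, (n : Q ⋊[X.subtype] X).right = 1 := fun n => n.2
  let f : N →* Q :=
    { toFun := fun n => (n : Q ⋊[X.subtype] X).left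
      map_one' := rfl
      map_mul' := fun a b => by
        show ((a : Q ⋊[X.subtype] X) * b).left = _
        rw [SemidirectProduct.mul_left, hNr a]
        simp }
  have hmemN : ∀ g : Q, (SemidirectProduct.inl g : Q ⋊[X.subtype] X) ∈ N := by
    intro g
    show SemidirectProduct.rightHom (SemidirectProduct.inl g : Q ⋊[X.subtype] X) = 1
    simp
  have hf : Function.Surjective f := fun g => ⟨⟨SemidirectProduct.inl g, hmemN g⟩, rfl⟩
  have hϑ : IsIrrCharacter N (fun n => ψ (f n)) := isIrrCharacter_comp_surj f hf hψ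
  have hψcf := helper4.isClassFunction_of_isIrrCharacter hψ
  have hinvN : ∀ x : Q ⋊[X.subtype] X, cconj N x (fun n => ψ (f n)) = fun n => ψ (f n) := by
    intro x
    rw [cconj_eq_iff]
    intro n
    show ψ ((x * (n : Q ⋊[X.subtype] X) * x⁻¹).left) = ψ ((n : Q ⋊[X.subtype] X).left)
    have h1 : (x * (n : Q ⋊[X.subtype] X) * x⁻¹).left =
        x.left * (x.right : MulAut Q) (n : Q ⋊[X.subtype] X).left * x.left⁻¹ := by
      simp [SemidirectProduct.mul_left, SemidirectProduct.mul_right, SemidirectProduct.inv_left,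
        hNr n]
    rw [h1, hψcf, hinv _ x.right.2]
  haveI hXcyc : IsCyclic X := isCyclic_of_prime_card hX
  have hcyc : IsCyclic ((Q ⋊[X.subtype] X) ⧸ N) := by
    let e : (Q ⋊[X.subtype] X) ⧸ N ≃* X :=
      QuotientGroup.quotientKerEquivOfSurjective _ SemidirectProduct.rightHom_surjective
    exact isCyclic_of_surjective e.symm.toMonoidHom e.symm.surjective
  obtain ⟨ξ, hξ, hext⟩ := exists_extension_of_cyclic N hcyc hϑ hinvN
  have hξl : ∀ t : Q, ξ (SemidirectProduct.inl t) = ψ t :=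
    fun t => hext ⟨SemidirectProduct.inl t, hmemN t⟩
  have hcomm : ∀ a b : X, a * b = b * a := fun a b => by
    letI := IsCyclic.commGroup (α := X)
    exact mul_comm a b
  letI : Fintype X := Fintype.ofFinite X
  letI : Fintype C := Fintype.ofFinite C
  -- the product group
  let ι : C × X →* Q ⋊[X.subtype] X :=
    { toFun := fun y => ⟨(y.1 : Q), y.2⟩
      map_one' := by
        apply SemidirectProduct.ext <;> simp
      map_mul' := fun y z => by
        have hz : (y.2 : MulAut Q) (z.1 : Q) = z.1 := hC _ z.1.2 _ y.2.2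
        apply SemidirectProduct.ext
        · simp [hz]
        · simp }
  have hθ : IsCharacter (C × X) (fun y => ξ (ι y)) :=
    helper4.isCharacter_comp ι (helper4.isCharacter_of_isIrrCharacter hξ)
  have hθirr : IsIrrCharacter (C × X) (fun y => ξ (ι y)) := by
    let K : Subgroup (C × X) := (MonoidHom.inl C X).range
    apply helper4.isIrrCharacter_of_restrict_irr K hθ
    let π : K →* C := (MonoidHom.fst C X).comp K.subtype
    have hπ : Function.Surjective π := fun c => ⟨⟨(c, 1), ⟨c, rfl⟩⟩, rfl⟩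
    have h1 := isIrrCharacter_comp_surj π hπ hψC
    have h2 : (fun k : K => ξ (ι (k : C × X))) = fun k : K => ψ ((π k : C) : Q) := by
      funext k
      obtain ⟨c, hc⟩ := k.2
      have h3 : (k : C × X) = (c, 1) := hc.symm
      have h4 : ι (k : C × X) = SemidirectProduct.inl (c : Q) := by
        rw [h3]
        rfl
      have h5 : π k = c := by
        show (k : C × X).1 = c
        rw [h3]
      rw [h4, hξl, h5]
    show IsIrrCharacter K (fun k : K => ξ (ι (k : C × X)))
    rw [h2]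
    exact h1
  have hι1 : ι ((1 : C), a) = SemidirectProduct.inr a := rfl
  have hι2 : ι ((1 : C), a⁻¹) = (SemidirectProduct.inr a)⁻¹ := by
    rw [← map_inv]
    rfl
  have hd1 : ∀ d : C × X, d * ((1 : C), a) * d⁻¹ * ((1 : C), a⁻¹) = 1 := by
    intro d
    apply Prod.ext
    · simp
    · show d.2 * a * d.2⁻¹ * a⁻¹ = 1
      rw [hcomm d.2 a]
      group
  have hcardCX : (Nat.card (C × X) : ℂ) ≠ 0 := by exact_mod_cast Nat.card_pos.ne'
  have hkey1 : ξ (SemidirectProduct.inr a) * ξ (SemidirectProduct.inr a)⁻¹ = ξ 1 * ξ 1 := by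
    have hsum1 : ξ (ι 1) * ∑ x : C × X, ξ (ι (x * ((1 : C), a) * x⁻¹ * ((1 : C), a⁻¹))) =
        (Nat.card (C × X) : ℂ) * ξ (ι ((1 : C), a)) * ξ (ι ((1 : C), a⁻¹)) :=
      helper20.irr_sum_conj_mul (fun y => ξ (ι y)) hθirr ((1 : C), a) ((1 : C), a⁻¹)
    have h1 : ∀ x : C × X, ξ (ι (x * ((1 : C), a) * x⁻¹ * ((1 : C), a⁻¹))) = ξ 1 := by
      intro x
      rw [hd1 x, map_one]
    rw [Finset.sum_congr rfl (fun x _ => h1 x), Finset.sum_const, Finset.card_univ,
      ← Nat.card_eq_fintype_card, nsmul_eq_mul, map_one, hι1, hι2] at hsum1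
    apply mul_left_cancel₀ hcardCX
    rw [← mul_assoc, ← hsum1]
    ring
  have hsum2 := helper20.irr_sum_conj_mul ξ hξ (SemidirectProduct.inr a)
    (SemidirectProduct.inr a)⁻¹
  have hdeg := irr_one_eq_charDegree (⟨ξ, hξ⟩ : IrrCharacter (Q ⋊[X.subtype] X))
  have hdpos := charDegree_pos (⟨ξ, hξ⟩ : IrrCharacter (Q ⋊[X.subtype] X))
  have hdle : ∀ y, ‖ξ y‖ ≤ (charDegree ξ : ℝ) :=
    fun y => irr_norm_le (⟨ξ, hξ⟩ : IrrCharacter (Q ⋊[X.subtype] X)) y
  have hdeg' : ξ 1 = (charDegree ξ : ℂ) := hdeg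
  have hd0 : ξ 1 ≠ 0 := by
    rw [hdeg']
    exact_mod_cast hdpos.ne'
  have hS : ∑ g : Q ⋊[X.subtype] X,
      ξ (g * SemidirectProduct.inr a * g⁻¹ * (SemidirectProduct.inr a)⁻¹) =
      (Nat.card (Q ⋊[X.subtype] X) : ℂ) * ξ 1 := by
    apply mul_left_cancel₀ hd0
    rw [hsum2, mul_assoc, hkey1]
    ring
  have hterm : ∀ g : Q ⋊[X.subtype] X,
      ξ (g * SemidirectProduct.inr a * g⁻¹ * (SemidirectProduct.inr a)⁻¹) = ξ 1 := by
    have hre : ∀ g : Q ⋊[X.subtype] X,
        (ξ (g * SemidirectProduct.inr a * g⁻¹ * (SemidirectProduct.inr a)⁻¹)).re ≤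
          (charDegree ξ : ℝ) := fun g => (Complex.re_le_norm _).trans (hdle _)
    have e1 : ∑ g : Q ⋊[X.subtype] X,
        (ξ (g * SemidirectProduct.inr a * g⁻¹ * (SemidirectProduct.inr a)⁻¹)).re =
        (Nat.card (Q ⋊[X.subtype] X) : ℝ) * (charDegree ξ : ℝ) := by
      rw [← Complex.re_sum, hS, hdeg', ← Nat.cast_mul, Complex.natCast_re, Nat.cast_mul]
    have hsumre : ∑ g : Q ⋊[X.subtype] X, ((charDegree ξ : ℝ) -
        (ξ (g * SemidirectProduct.inr a * g⁻¹ * (SemidirectProduct.inr a)⁻¹)).re) = 0 := by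
      rw [Finset.sum_sub_distrib, e1, Finset.sum_const, Finset.card_univ,
        ← Nat.card_eq_fintype_card, nsmul_eq_mul]
      ring
    have hz := (Finset.sum_eq_zero_iff_of_nonneg (fun g _ => sub_nonneg.mpr (hre g))).mp hsumre
    intro g
    have h1 := hz g (Finset.mem_univ g)
    have h2 : (ξ (g * SemidirectProduct.inr a * g⁻¹ * (SemidirectProduct.inr a)⁻¹)).re =
        (charDegree ξ : ℝ) := by linarith
    rw [hdeg']
    have h3 := eq_of_re_eq_of_norm_le _ _ h2 (hdle _)
    rw [h3]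
    simp
  have hfin := hterm (SemidirectProduct.inl s)
  have hel : (SemidirectProduct.inl s : Q ⋊[X.subtype] X) * SemidirectProduct.inr a *
      (SemidirectProduct.inl s)⁻¹ * (SemidirectProduct.inr a)⁻¹ =
      SemidirectProduct.inl (s * ((a : MulAut Q) s)⁻¹) := by
    apply SemidirectProduct.ext <;> simp
  rw [hel, hξl] at hfin
  have h1 := hξl 1
  rw [map_one] at h1
  rw [hfin, h1]

end LemmaL

/-! ### Constituents of small characters are invariant -/

section ClaimA

variable {Q : Type u} [Group Q] [Fintype Q]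

/-- The stabilizer of a function under automorphisms. -/
def stabFun (ψ : Q → ℂ) : Subgroup (MulAut Q) where
  carrier := {σ | ∀ s, ψ (σ s) = ψ s}
  mul_mem' := by
    intro a b ha hb s
    rw [MulAut.mul_apply, ha, hb]
  one_mem' := fun s => rfl
  inv_mem' := by
    intro a ha s
    have := ha (a⁻¹ s)
    rw [MulAut.apply_inv_self] at this
    exact this.symm

theorem mem_stabFun (ψ : Q → ℂ) (σ : MulAut Q) : σ ∈ stabFun ψ ↔ ∀ s, ψ (σ s) = ψ s := Iff.rfl

theorem invariant_of_small (p : ℕ) [hp : Fact p.Prime] (X : Subgroup (MulAut Q))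
    (hX : Nat.card X = p) [Fintype (IrrCharacter Q)] (N : IrrCharacter Q → ℕ)
    (hN : ∀ (ψ : IrrCharacter Q) (σ : MulAut Q) (_ : σ ∈ X),
      N ⟨fun s => (ψ : Q → ℂ) (σ s), isIrrCharacter_comp_aut σ ψ.2⟩ = N ψ)
    (n : ℕ) (hn : ∑ ψ : IrrCharacter Q, N ψ * charDegree (ψ : Q → ℂ) = n) (hnp : n < p)
    (ψ : IrrCharacter Q) (hψ : N ψ ≠ 0) : IsInvFun X (ψ : Q → ℂ) := by
  classical
  by_contra hni
  letI : Fintype X := Fintype.ofFinite X
  haveI : Fact (Nat.card X).Prime := ⟨by rw [hX]; exact hp.out⟩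
  let g : X → IrrCharacter Q := fun σ =>
    ⟨fun s => (ψ : Q → ℂ) ((σ : MulAut Q) s), isIrrCharacter_comp_aut (σ : MulAut Q) ψ.2⟩
  have hK : (stabFun (ψ : Q → ℂ)).subgroupOf X = ⊥ := by
    rcases Subgroup.eq_bot_or_eq_top_of_prime_card ((stabFun (ψ : Q → ℂ)).subgroupOf X) with h | h
    · exact h
    · exfalso
      apply hni
      have h1 : X ≤ stabFun (ψ : Q → ℂ) := Subgroup.subgroupOf_eq_top.mp h
      intro σ hσ s
      exact h1 hσ s
  have hginj : Function.Injective g := by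
    intro σ τ hστ
    have h1 : ∀ s, (ψ : Q → ℂ) ((σ : MulAut Q) s) = (ψ : Q → ℂ) ((τ : MulAut Q) s) :=
      fun s => congrFun (congrArg Subtype.val hστ) s
    have h2 : σ * τ⁻¹ ∈ (stabFun (ψ : Q → ℂ)).subgroupOf X := by
      rw [Subgroup.mem_subgroupOf, mem_stabFun]
      intro s
      have h3 := h1 ((τ : MulAut Q)⁻¹ s)
      rw [MulAut.apply_inv_self] at h3
      rw [← h3]
      rfl
    rw [hK, Subgroup.mem_bot] at h2
    exact mul_inv_eq_one.mp h2
  have h3 : ∑ σ : X, N (g σ) * charDegree ((g σ : IrrCharacter Q) : Q → ℂ) ≤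
      ∑ ψ' : IrrCharacter Q, N ψ' * charDegree (ψ' : Q → ℂ) := by
    rw [← Finset.sum_image (f := fun ψ' : IrrCharacter Q => N ψ' * charDegree (ψ' : Q → ℂ))
      (s := Finset.univ) (g := g) (fun a _ b _ h => hginj h)]
    exact Finset.sum_le_sum_of_subset (Finset.subset_univ _)
  have h4 : ∀ σ : X, 1 ≤ N (g σ) * charDegree ((g σ : IrrCharacter Q) : Q → ℂ) := by
    intro σ
    have h5 : N (g σ) = N ψ := hN ψ σ σ.2
    have h6 := charDegree_pos (g σ)
    rw [h5]
    exact Nat.mul_pos (Nat.pos_of_ne_zero hψ) h6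
  have h7 : p ≤ ∑ σ : X, N (g σ) * charDegree ((g σ : IrrCharacter Q) : Q → ℂ) := by
    calc p = ∑ _σ : X, 1 := by
          rw [Finset.sum_const, Finset.card_univ, ← Nat.card_eq_fintype_card, hX]
          simp
      _ ≤ _ := Finset.sum_le_sum (fun σ _ => h4 σ)
  omega

end ClaimA

/-! ### Small faithful characters: `p`-subgroups are abelian -/

theorem pgroup_comm {G : Type u} [Group G] [Finite G] (χ : G → ℂ) (hχ : IsCharacter G χ)
    (hfaith : ∀ g : G, χ g = χ 1 → g = 1) (n : ℕ) (hn : charDegree χ = n) (p : ℕ)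
    [hp : Fact p.Prime] (hnp : n + 1 ≤ p) (R : Subgroup G) (hR : IsPGroup p R) :
    ∀ a ∈ R, ∀ b ∈ R, a * b = b * a := by
  classical
  letI : Fintype G := Fintype.ofFinite G
  letI : Fintype R := Fintype.ofFinite _
  letI : Fintype (IrrCharacter R) := Fintype.ofFinite _
  have hθ : IsCharacter R (fun y => χ (R.subtype y)) := helper4.isCharacter_comp R.subtype hχ
  obtain ⟨N, hN1, hN2, hN3⟩ := exists_nat_decomp hθ
  have hχ1 : χ 1 = (n : ℂ) := by rw [isCharacter_one_eq hχ, hn]
  have hsum : ∑ lam : IrrCharacter R, N lam * charDegree (lam : R → ℂ) = n := by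
    have h1 : χ (R.subtype 1) = _ := hN3
    rw [map_one, hχ1] at h1
    exact_mod_cast h1.symm
  have hlin : ∀ lam : IrrCharacter R, N lam ≠ 0 → (lam : R → ℂ) 1 = 1 := by
    intro lam hlam
    have h1 : charDegree (lam : R → ℂ) ≤ n := by
      rw [← hsum]
      calc charDegree (lam : R → ℂ) ≤ N lam * charDegree (lam : R → ℂ) :=
            Nat.le_mul_of_pos_left _ (Nat.pos_of_ne_zero hlam)
        _ ≤ _ := Finset.single_le_sum
            (f := fun l : IrrCharacter R => N l * charDegree (l : R → ℂ))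
            (fun _ _ => Nat.zero_le _) (Finset.mem_univ lam)
    have h2 := irr_degree_dvd_card lam
    obtain ⟨k, hk⟩ := hR.exists_card_eq
    rw [hk] at h2
    obtain ⟨i, -, hi⟩ := (Nat.dvd_prime_pow hp.out).mp h2
    have hi0 : i = 0 := by
      by_contra h0
      have : p ≤ p ^ i := Nat.le_self_pow h0 p
      omega
    rw [irr_one_eq_charDegree, hi, hi0, pow_zero, Nat.cast_one]
  have hc : ∀ c : R, c ∈ commutator R → (c : G) = 1 := by
    intro c hc
    apply hfaith
    have h1 : χ (R.subtype c) = _ := hN2 c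
    have h2 : χ (R.subtype 1) = _ := hN2 1
    rw [map_one] at h2
    show χ (R.subtype c) = χ 1
    rw [h1, h2]
    apply Finset.sum_congr rfl
    intro lam _
    by_cases hlam : N lam = 0
    · rw [hlam]
      simp
    · rw [linear_commutator (isCharacter_of_irr lam.2) (hlin lam hlam) c hc]
  intro a ha b hb
  have h3 := hc ⁅(⟨a, ha⟩ : R), ⟨b, hb⟩⁆ (by
    rw [commutator_def]
    exact Subgroup.commutator_mem_commutator (Subgroup.mem_top _) (Subgroup.mem_top _))
  have h4 : ⁅a, b⁆ = 1 := h3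
  exact commutatorElement_eq_one_iff_mul_comm.mp h4

/-! ### The group-theoretic configuration -/

theorem exists_pair {G : Type u} [Group G] [Finite G] (p : ℕ) [hp : Fact p.Prime]
    (hsolv : IsPSolvable p G) (P : Sylow p G) (hP : ¬ (P : Subgroup G).Normal)
    (hab : ∀ a ∈ (P : Subgroup G), ∀ b ∈ (P : Subgroup G), a * b = b * a) :
    ∃ q : ℕ, q.Prime ∧ ∃ (Q : Subgroup G) (x : G), q ≠ p ∧ IsPGroup q Q ∧
      x ∈ (P : Subgroup G) ∧ x ∈ Subgroup.normalizer (Q : Set G) ∧
      ∃ s ∈ Q, x * s * x⁻¹ ≠ s := by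
  classical
  have hWcop : (Nat.card (pPrimeCore p G)).Coprime p := helper40.pPrimeCore_card_coprime p G
  have hWn : (pPrimeCore p G).Normal := inferInstance
  have hOn : (pCore p (G ⧸ pPrimeCore p G)).Normal := inferInstance
  have hVn : (pPrimePCore p G).Normal := Subgroup.Normal.comap hOn _
  have hpW : ¬ p ∣ Nat.card (pPrimeCore p G) :=
    (Nat.Prime.coprime_iff_not_dvd hp.out).mp hWcop.symm
  -- `P ≤ O_{p',p}(G)`
  have hPV : (P : Subgroup G) ≤ pPrimePCore p G := by
    have h1 : Subgroup.centralizer ((P : Subgroup G) : Set G) ≤ pPrimePCore p G := by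
      apply helper38.centralizer_le_pPrimePCore_of_isPSolvable hsolv (P : Subgroup G)
      intro hdvd
      exact P.not_dvd_index (hdvd.trans (relIndex_dvd_index_of_normal'' _ _))
    intro y hy
    apply h1
    rw [Subgroup.mem_centralizer_iff]
    intro h hh
    exact hab h hh y hy
  -- `P` does not centralize `O_{p'}(G)`
  have hnc : ¬ ∀ x ∈ (P : Subgroup G), ∀ w ∈ pPrimeCore p G, x * w = w * x := by
    intro hcen
    apply hP
    constructor
    intro y hy g
    have hsurj := QuotientGroup.mk'_surjective (pPrimeCore p G)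
    have hO : pCore p (G ⧸ pPrimeCore p G) ≤
        (P : Subgroup G).map (QuotientGroup.mk' (pPrimeCore p G)) := by
      have h1 : IsPGroup p ↥(((P.mapSurjective hsurj : Sylow p (G ⧸ pPrimeCore p G)) :
          Subgroup (G ⧸ pPrimeCore p G)) ⊔ pCore p (G ⧸ pPrimeCore p G)) :=
        IsPGroup.to_sup_of_normal_right (P.mapSurjective hsurj).isPGroup'
          (helper40.pCore_isPGroup p (G ⧸ pPrimeCore p G))
      have h2 := (P.mapSurjective hsurj).is_maximal' h1 le_sup_left
      have h3 : pCore p (G ⧸ pPrimeCore p G) ≤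
          ((P.mapSurjective hsurj : Sylow p (G ⧸ pPrimeCore p G)) :
            Subgroup (G ⧸ pPrimeCore p G)) := le_sup_right.trans (le_of_eq h2)
      rwa [Sylow.coe_mapSurjective] at h3
    have h3 : QuotientGroup.mk' (pPrimeCore p G) (g * y * g⁻¹) ∈
        pCore p (G ⧸ pPrimeCore p G) := by
      have h4 : g * y * g⁻¹ ∈ pPrimePCore p G := hVn.conj_mem y (hPV hy) g
      exact h4
    obtain ⟨y', hy', hyy⟩ := Subgroup.mem_map.mp (hO h3)
    obtain ⟨w, hw, hyw⟩ := (QuotientGroup.mk'_eq_mk' (pPrimeCore p G)).mp hyy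
    obtain ⟨k, hk⟩ := P.isPGroup'.exists_card_eq
    have hpk : ∀ z ∈ (P : Subgroup G), z ^ p ^ k = 1 := by
      intro z hz
      have h5 : (⟨z, hz⟩ : (P : Subgroup G)) ^ Nat.card (P : Subgroup G) = 1 := pow_card_eq_one'
      rw [hk] at h5
      have h6 := congrArg Subtype.val h5
      simpa using h6
    have hwk : w ^ p ^ k = 1 := by
      have h5 : (y' * w) ^ p ^ k = y' ^ p ^ k * w ^ p ^ k :=
        Commute.mul_pow (hcen y' hy' w hw) _
      rw [hyw, conj_pow, hpk y hy, hpk y' hy'] at h5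
      simpa using h5.symm
    have hw1 : w = 1 := helper40.eq_one_of_pow_eq_one_of_coprime hwk
      (helper40.orderOf_coprime_of_mem_pPrimeCore hw)
    rw [← hyw, hw1, mul_one]
    exact hy'
  push Not at hnc
  obtain ⟨x, hx, w, hw, hxw⟩ := hnc
  by_contra hcon
  have hcent : ∀ (q : ℕ) [Fact q.Prime] (Q : Subgroup G), IsPGroup q Q →
      (P : Subgroup G) ≤ Subgroup.normalizer (Q : Set G) →
      Nat.card Q = q ^ (Nat.card (pPrimeCore p G)).factorization q →
      Q ≤ Subgroup.centralizer ((P : Subgroup G) : Set G) := by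
    intro q hq Q hQ hPN hcard s hs
    rw [Subgroup.mem_centralizer_iff]
    intro y hy
    by_contra hne
    by_cases hqp : q = p
    · rw [hqp] at hcard
      rw [Nat.factorization_eq_zero_of_not_dvd hpW, pow_zero] at hcard
      have h2 : s = 1 := by
        have h3 := Subgroup.eq_bot_of_card_eq Q hcard
        rw [h3] at hs
        exact Subgroup.mem_bot.mp hs
      apply hne
      rw [h2]
      simp
    · apply hcon
      refine ⟨q, hq.out, Q, y, hqp, hQ, hy, hPN hy, s, hs, ?_⟩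
      intro h3
      apply hne
      calc y * s = y * s * y⁻¹ * y := by group
        _ = s * y := by rw [h3]
  have hWle : pPrimeCore p G ≤ Subgroup.centralizer ((P : Subgroup G) : Set G) := by
    have hle : pPrimeCore p G ⊓ Subgroup.centralizer ((P : Subgroup G) : Set G) ≤
        pPrimeCore p G := inf_le_left
    have hcard : Nat.card (pPrimeCore p G) ∣
        Nat.card ↥(pPrimeCore p G ⊓ Subgroup.centralizer ((P : Subgroup G) : Set G)) := by
      rw [← Nat.factorization_prime_le_iff_dvd Nat.card_pos.ne' Nat.card_pos.ne']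
      intro q hq
      haveI : Fact q.Prime := ⟨hq⟩
      obtain ⟨Q, hQW, hQ, hPN, hcardQ⟩ := helper37.exists_invariant_sylow p q (P : Subgroup G)
        (pPrimeCore p G) P.isPGroup' hpW (by
          rw [Subgroup.normalizer_eq_top_iff.mpr hWn]
          exact le_top)
      have h1 : Q ≤ pPrimeCore p G ⊓ Subgroup.centralizer ((P : Subgroup G) : Set G) :=
        le_inf hQW (hcent q Q hQ hPN hcardQ)
      have h2 := Subgroup.card_dvd_of_le h1
      rw [hcardQ] at h2
      exact (hq.pow_dvd_iff_le_factorization Nat.card_pos.ne').mp h2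
    have heq := Subgroup.eq_of_le_of_card_ge hle (Nat.le_of_dvd Nat.card_pos hcard)
    rw [← heq]
    exact inf_le_right
  exact hxw ((Subgroup.mem_centralizer_iff.mp (hWle hw)) x hx)

/-! ### The main theorem -/

theorem main {G : Type u} [Group G] [Finite G] (χ : G → ℂ) (hχ : IsCharacter G χ)
    (hfaith : ∀ g : G, χ g = χ 1 → g = 1) (n : ℕ) (hn : charDegree χ = n) (p : ℕ)
    (hp : p.Prime) (hsolv : IsPSolvable p G) (hnp : n + 1 ≤ p) (P : Sylow p G)
    (hP : ¬ (P : Subgroup G).Normal) :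
    n + 1 = p ∧ (∃ k : ℕ, n = 2 ^ k) ∧ IsIrrCharacter G χ := by
  classical
  letI : Fintype G := Fintype.ofFinite G
  haveI : Fact p.Prime := ⟨hp⟩
  have hab := pgroup_comm χ hχ hfaith n hn p hnp (P : Subgroup G) P.isPGroup'
  obtain ⟨q, hq, Q, x, hqp, hQ, hxP, hxN, s₀, hs₀, hxs₀⟩ := exists_pair p hsolv P hP hab
  haveI : Fact q.Prime := ⟨hq⟩
  letI : Fintype Q := Fintype.ofFinite Q
  letI : Fintype (IrrCharacter Q) := Fintype.ofFinite _
  have hnorm : ∀ s ∈ Subgroup.normalizer (Q : Set G), ∀ g ∈ Q, s * g * s⁻¹ ∈ Q :=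
    fun s hs g hg => (Subgroup.mem_normalizer_iff.mp hs g).mp hg
  obtain ⟨c, hc⟩ : ∃ c : ↥(Subgroup.normalizer (Q : Set G)) →* MulAut Q,
      c = conjHom Q (Subgroup.normalizer (Q : Set G)) hnorm := ⟨_, rfl⟩
  have hcapp : ∀ (y : ↥(Subgroup.normalizer (Q : Set G))) (s : Q),
      ((c y s : Q) : G) = (y : G) * s * (y : G)⁻¹ := by
    intro y s
    rw [hc]
    exact conjHom_apply Q _ hnorm y s
  have hα₀ne : c ⟨x, hxN⟩ ≠ 1 := by
    intro h
    apply hxs₀
    have h1 := hcapp ⟨x, hxN⟩ ⟨s₀, hs₀⟩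
    rw [h] at h1
    exact h1.symm
  have hα₀pow : ∃ m : ℕ, orderOf (c ⟨x, hxN⟩) ∣ p ^ m := by
    obtain ⟨m, hm⟩ := P.isPGroup' ⟨x, hxP⟩
    refine ⟨m, orderOf_dvd_of_pow_eq_one ?_⟩
    rw [← map_pow]
    have h1 : (⟨x, hxN⟩ : ↥(Subgroup.normalizer (Q : Set G))) ^ p ^ m = 1 := by
      apply Subtype.ext
      have h2 := congrArg Subtype.val hm
      simpa using h2
    rw [h1, map_one]
  obtain ⟨m, hm⟩ := hα₀pow
  obtain ⟨j, -, hj⟩ := (Nat.dvd_prime_pow hp).mp hm
  have hj0 : j ≠ 0 := by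
    rintro rfl
    rw [pow_zero] at hj
    exact hα₀ne (orderOf_eq_one_iff.mp hj)
  have hpdvd : p ∣ orderOf (c ⟨x, hxN⟩) := by
    rw [hj]
    exact dvd_pow_self p hj0
  have hord0 : orderOf (c ⟨x, hxN⟩) ≠ 0 := by
    rw [hj]
    exact pow_ne_zero _ hp.ne_zero
  obtain ⟨y, hy⟩ : ∃ y : ↥(Subgroup.normalizer (Q : Set G)),
      y = ⟨x, hxN⟩ ^ (orderOf (c ⟨x, hxN⟩) / p) := ⟨_, rfl⟩
  obtain ⟨α, hα⟩ : ∃ α : MulAut Q, α = c y := ⟨_, rfl⟩
  have hαord : orderOf α = p := by
    rw [hα, hy, map_pow]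
    exact orderOf_pow_orderOf_div hord0 hpdvd
  have hαapp : ∀ s : Q, ((α s : Q) : G) = (y : G) * s * (y : G)⁻¹ := by
    intro s
    rw [hα]
    exact hcapp y s
  obtain ⟨X, hXdef⟩ : ∃ X : Subgroup (MulAut Q), X = Subgroup.zpowers α := ⟨_, rfl⟩
  have hX : Nat.card X = p := by rw [hXdef, Nat.card_zpowers, hαord]
  have hαX : α ∈ X := by
    rw [hXdef]
    exact Subgroup.mem_zpowers α
  have hXle : ∀ K : Subgroup (MulAut Q), α ∈ K → X ≤ K := by
    intro K hK
    rw [hXdef]
    exact Subgroup.zpowers_le.mpr hK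
  have hpQ : ¬ p ∣ Nat.card Q := by
    obtain ⟨b, hb⟩ := hQ.exists_card_eq
    rw [hb]
    intro h
    have h1 := (Nat.prime_dvd_prime_iff_eq hp hq).mp (hp.dvd_of_dvd_pow h)
    exact hqp h1.symm
  have hθ : IsCharacter Q (fun s : Q => χ (Q.subtype s)) := helper4.isCharacter_comp Q.subtype hχ
  obtain ⟨N, hN1, hN2, hN3⟩ := exists_nat_decomp hθ
  have hχcf : IsClassFunction G χ := helper4.isClassFunction_of_isCharacter hχ
  have hθinv : ∀ σ ∈ X, ∀ s : Q, χ ((σ s : Q) : G) = χ (s : G) := by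
    have h1 : X ≤ stabFun (fun s : Q => χ (s : G)) := by
      apply hXle
      rw [mem_stabFun]
      intro s
      show χ ((α s : Q) : G) = χ (s : G)
      rw [hαapp, hχcf]
    intro σ hσ s
    exact h1 hσ s
  have hχ1 : χ 1 = (n : ℂ) := by rw [isCharacter_one_eq hχ, hn]
  have hsum : ∑ ψ : IrrCharacter Q, N ψ * charDegree (ψ : Q → ℂ) = n := by
    have h1 : χ (Q.subtype 1) = _ := hN3
    rw [map_one, hχ1] at h1
    exact_mod_cast h1.symm
  have hNinv : ∀ (ψ : IrrCharacter Q) (σ : MulAut Q) (_ : σ ∈ X),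
      N ⟨fun s => (ψ : Q → ℂ) (σ s), isIrrCharacter_comp_aut σ ψ.2⟩ = N ψ := by
    intro ψ σ hσ
    have h1 : classInner (fun s : Q => χ (Q.subtype s)) (fun s => (ψ : Q → ℂ) (σ s)) =
        (N ⟨fun s => (ψ : Q → ℂ) (σ s), isIrrCharacter_comp_aut σ ψ.2⟩ : ℂ) :=
      hN1 ⟨fun s => (ψ : Q → ℂ) (σ s), isIrrCharacter_comp_aut σ ψ.2⟩
    have h2 := hN1 ψ
    have h3 : classInner (fun s : Q => χ (Q.subtype s)) (fun s => (ψ : Q → ℂ) (σ s)) =
        classInner (fun s : Q => χ (Q.subtype s)) (ψ : Q → ℂ) := by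
      rw [← classInner_comp_equiv σ (fun s : Q => χ (Q.subtype s)) (ψ : Q → ℂ)]
      congr 1
      funext s
      exact (hθinv σ hσ s).symm
    rw [h3, h2] at h1
    exact_mod_cast h1.symm
  have hnlt : n < p := by omega
  have hA : ∀ ψ : IrrCharacter Q, N ψ ≠ 0 → IsInvFun X (ψ : Q → ℂ) :=
    fun ψ hψ => invariant_of_small p X hX N hNinv n hsum hnlt ψ hψ
  have hαne : α ≠ 1 := by
    intro h
    rw [h, orderOf_one] at hαord
    exact hp.one_lt.ne hαord
  obtain ⟨s₁, hs₁⟩ : ∃ s₁ : Q, α s₁ ≠ s₁ := by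
    by_contra hall
    push Not at hall
    exact hαne (MulEquiv.ext hall)
  have hc₀ : χ ((α s₁ * s₁⁻¹ : Q) : G) ≠ χ 1 := by
    intro h
    have h1 := hfaith _ h
    apply hs₁
    have h2 : α s₁ * s₁⁻¹ = 1 := OneMemClass.coe_eq_one.mp h1
    exact mul_inv_eq_one.mp h2
  obtain ⟨ψ, hψN, hψc⟩ : ∃ ψ : IrrCharacter Q, N ψ ≠ 0 ∧
      (ψ : Q → ℂ) (α s₁ * s₁⁻¹) ≠ (ψ : Q → ℂ) 1 := by
    by_contra hall
    push Not at hall
    apply hc₀
    have h1 : χ (Q.subtype (α s₁ * s₁⁻¹)) = _ := hN2 (α s₁ * s₁⁻¹)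
    have h2 : χ (Q.subtype 1) = _ := hN2 1
    rw [map_one] at h2
    show χ (Q.subtype (α s₁ * s₁⁻¹)) = χ 1
    rw [h1, h2]
    apply Finset.sum_congr rfl
    intro ψ _
    by_cases hψ : N ψ = 0
    · rw [hψ]
      simp
    · rw [hall ψ hψ]
  have hinv := hA ψ hψN
  letI : Fintype (fixedPts X) := Fintype.ofFinite _
  letI : Fintype (IrrCharacter (fixedPts X)) := Fintype.ofFinite _
  have hjinj : Function.Injective (fixedPts X).subtype := Subgroup.subtype_injective _
  have hCr : ∀ g, g ∈ (fixedPts X).subtype.range ↔ g ∈ fixedPts X := by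
    intro g
    rw [Subgroup.range_subtype]
  obtain ⟨β, ε, hε, hk⟩ := glauberman_prime_exists p X (fixedPts X).subtype hX hpQ hjinj hCr
    (ψ : Q → ℂ) ψ.2 hinv
  have hθC : IsCharacter (fixedPts X) (fun c => (ψ : Q → ℂ) ((fixedPts X).subtype c)) :=
    helper4.isCharacter_comp _ (isCharacter_of_irr ψ.2)
  obtain ⟨M, hM1, hM2, hM3⟩ := exists_nat_decomp hθC
  have hdegψ : charDegree (ψ : Q → ℂ) =
      ∑ β' : IrrCharacter (fixedPts X), M β' * charDegree (β' : fixedPts X → ℂ) := by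
    have h1 : (ψ : Q → ℂ) ((fixedPts X).subtype 1) = _ := hM3
    rw [map_one, irr_one_eq_charDegree] at h1
    exact_mod_cast h1
  have hdegle : charDegree (ψ : Q → ℂ) ≤ n := by
    rw [← hsum]
    calc charDegree (ψ : Q → ℂ) ≤ N ψ * charDegree (ψ : Q → ℂ) :=
          Nat.le_mul_of_pos_left _ (Nat.pos_of_ne_zero hψN)
      _ ≤ _ := Finset.single_le_sum
          (f := fun l : IrrCharacter Q => N l * charDegree (l : Q → ℂ))
          (fun _ _ => Nat.zero_le _) (Finset.mem_univ ψ)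
  have hMle : ∀ β' : IrrCharacter (fixedPts X),
      M β' * charDegree (β' : fixedPts X → ℂ) ≤ charDegree (ψ : Q → ℂ) := by
    intro β'
    rw [hdegψ]
    exact Finset.single_le_sum
      (f := fun l : IrrCharacter (fixedPts X) => M l * charDegree (l : fixedPts X → ℂ))
      (fun _ _ => Nat.zero_le _) (Finset.mem_univ β')
  have hMlt : ∀ β' : IrrCharacter (fixedPts X), M β' < p := by
    intro β'
    have h1 := hMle β'
    have h2 := charDegree_pos β'
    have h3 : M β' ≤ M β' * charDegree (β' : fixedPts X → ℂ) := Nat.le_mul_of_pos_right _ h2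
    omega
  have hMk : ∀ β' : IrrCharacter (fixedPts X), ∃ k : ℤ,
      (M β' : ℤ) = (p : ℤ) * k + if β' = β then ε else 0 := by
    intro β'
    obtain ⟨k, hk'⟩ := hk β'
    refine ⟨k, ?_⟩
    have h2 : ((M β' : ℕ) : ℂ) = (((p : ℤ) * k + if β' = β then ε else 0 : ℤ) : ℂ) :=
      (hM1 β').symm.trans hk'
    exact_mod_cast h2
  have hp2 : 2 ≤ p := hp.two_le
  rcases hε with hε1 | hε1
  · -- the restriction to the fixed points is irreducible: impossible
    exfalso
    have hMβ : M β = 1 := by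
      obtain ⟨k, hk'⟩ := hMk β
      rw [if_pos rfl, hε1] at hk'
      rcases int_aux p hp2 (M β) (hMlt β) k 1 (Or.inl rfl) hk' with h | h | h
      · exact h.2
      · exact absurd h.1 (by norm_num)
      · exact absurd h.1 (by norm_num)
    have hMo : ∀ β' : IrrCharacter (fixedPts X), β' ≠ β → M β' = 0 := by
      intro β' hb
      obtain ⟨k, hk'⟩ := hMk β'
      rw [if_neg hb] at hk'
      rcases int_aux p hp2 (M β') (hMlt β') k 0 (Or.inr (Or.inr rfl)) hk' with h | h | h
      · exact absurd h.1 (by norm_num)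
      · exact absurd h.1 (by norm_num)
      · exact h.2
    have hψC : IsIrrCharacter (fixedPts X) (fun c : fixedPts X => (ψ : Q → ℂ) c) := by
      have h1 : (fun c : fixedPts X => (ψ : Q → ℂ) c) = (β : fixedPts X → ℂ) := by
        funext c
        have h2 : (ψ : Q → ℂ) ((fixedPts X).subtype c) = _ := hM2 c
        rw [Finset.sum_eq_single β (fun β' _ hb => by rw [hMo β' hb]; simp)
          (fun h => absurd (Finset.mem_univ β) h), hMβ] at h2
        simpa using h2
      rw [h1]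
      exact β.2
    have hL := lemmaL p X hX (ψ : Q → ℂ) ψ.2 hinv (fixedPts X) (fun c hc σ hσ => hc σ hσ) hψC
      ⟨α⁻¹, inv_mem hαX⟩ (α s₁)
    apply hψc
    have h3 : ((⟨α⁻¹, inv_mem hαX⟩ : X) : MulAut Q) (α s₁) = s₁ := MulAut.inv_apply_self _ α s₁
    rw [h3] at hL
    exact hL
  · have hMβ : M β + 1 = p := by
      obtain ⟨k, hk'⟩ := hMk β
      rw [if_pos rfl, hε1] at hk'
      rcases int_aux p hp2 (M β) (hMlt β) k (-1) (Or.inr (Or.inl rfl)) hk' with h | h | h
      · exact absurd h.1 (by norm_num)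
      · exact h.2
      · exact absurd h.1 (by norm_num)
    have h1 := hMle β
    have h2 := charDegree_pos β
    have h3 : M β ≤ M β * charDegree (β : fixedPts X → ℂ) := Nat.le_mul_of_pos_right _ h2
    have hdeg : charDegree (ψ : Q → ℂ) = n := by omega
    have hnp1 : n + 1 = p := by omega
    have hNψ : N ψ = 1 := by
      have h4 : N ψ * charDegree (ψ : Q → ℂ) ≤ n := by
        rw [← hsum]
        exact Finset.single_le_sum
          (f := fun l : IrrCharacter Q => N l * charDegree (l : Q → ℂ))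
          (fun _ _ => Nat.zero_le _) (Finset.mem_univ ψ)
      rw [hdeg] at h4
      have hn0 : 0 < n := by omega
      have h5 : N ψ ≤ 1 := by
        by_contra h6
        push Not at h6
        have : 2 * n ≤ N ψ * n := Nat.mul_le_mul_right n h6
        omega
      have := Nat.pos_of_ne_zero hψN
      omega
    have hNo : ∀ ψ' : IrrCharacter Q, ψ' ≠ ψ → N ψ' = 0 := by
      intro ψ' hne
      by_contra h0
      have h4 : ∑ l ∈ ({ψ, ψ'} : Finset (IrrCharacter Q)), N l * charDegree (l : Q → ℂ) ≤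
          ∑ l : IrrCharacter Q, N l * charDegree (l : Q → ℂ) :=
        Finset.sum_le_sum_of_subset (Finset.subset_univ _)
      rw [Finset.sum_pair hne.symm, hsum, hNψ, hdeg] at h4
      have h5 := charDegree_pos ψ'
      have h6 : 0 < N ψ' * charDegree (ψ' : Q → ℂ) := Nat.mul_pos (Nat.pos_of_ne_zero h0) h5
      omega
    have hχQ : IsIrrCharacter Q (fun s : Q => χ s) := by
      have h4 : (fun s : Q => χ s) = (ψ : Q → ℂ) := by
        funext s
        have h5 : χ (Q.subtype s) = _ := hN2 s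
        rw [Finset.sum_eq_single ψ (fun ψ' _ hb => by rw [hNo ψ' hb]; simp)
          (fun h => absurd (Finset.mem_univ ψ) h), hNψ] at h5
        simpa using h5
      rw [h4]
      exact ψ.2
    refine ⟨hnp1, ?_, helper4.isIrrCharacter_of_restrict_irr Q hχ hχQ⟩
    have h7 := irr_degree_dvd_card ψ
    obtain ⟨b, hb⟩ := hQ.exists_card_eq
    rw [hb, hdeg] at h7
    obtain ⟨i, -, hi⟩ := (Nat.dvd_prime_pow hq).mp h7
    by_cases hq2 : q = 2
    · exact ⟨i, by rw [hi, hq2]⟩
    · refine ⟨0, ?_⟩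
      have hqodd : Odd q := hq.odd_of_ne_two hq2
      have hnodd : Odd n := by
        rw [hi]
        exact hqodd.pow
      have hpeven : Even p := by
        rw [← hnp1]
        exact hnodd.add_one
      have hp2' : p = 2 := (Nat.Prime.even_iff hp).mp hpeven
      omega

/-- Let the finite p-solvable group G have a faithful character χ of degree n ≤ p − 1 and suppose that a Sylow p-subgroup of G is not normal. Then n = p − 1, n is a power of 2, and χ is irreducible. -/
theorem result {G : Type*} [Group G] [Finite G] (χ : G → ℂ) (hχ : Cfsg.IsCharacter G χ) (hfaith : ∀ g : G, χ g = χ 1 → g = 1) (n : ℕ) (hn : Cfsg.charDegree χ = n) (p : ℕ) (hp : p.Prime) (hsolv : Cfsg.IsPSolvable p G) (hnp : n + 1 ≤ p) (P : Sylow p G) (hP : ¬ (P : Subgroup G).Normal) : n + 1 = p ∧ (∃ k : ℕ, n = 2 ^ k) ∧ Cfsg.IsIrrCharacter G χ := by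
  exact main χ hχ hfaith n hn p hp hsolv hnp P hP

end Cfsg.Agent.S4468
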