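import Cfsg.Statements.S4657
-- import your own Cfsg.Agent.* helpers here
import Cfsg.Agent.Lib.helper81.Blocks
import Cfsg.Agent.Lib.helper80.BrauerOmega

set_option autoImplicit false
open Cfsg

namespace Cfsg.Agent.S4657

open Cfsg.Agent.Lib

/-- Fix a prime p and a maximal ideal M of the algebraic integers containing p. Every Brauer pair (P, e) of the finite group G is a Brauer pair of exactly one p-block B of G. -/
theorem result {G : Type*} [Group G] [Fintype G] (p : ℕ) [Fact p.Prime] (M : Ideal Cfsg.AlgInt) (hM : Cfsg.IsPModular p M) (P : Subgroup G) (e : Set (Cfsg.IrrCharacter (Subgroup.centralizer (P : Set G)))) (hPe : Cfsg.IsBrauerPair p M P e) : ∃! B : Set (Cfsg.IrrCharacter G), Cfsg.IsBrauerPairOf p M B P e := by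
  classical
  have hMp : M.IsPrime := helper20.isPrime_of_isPModular hM
  obtain ⟨hP, ξ₀, rfl⟩ := hPe
  have hinvP : ∀ B : Set (IrrCharacter G), ∀ u ∈ P, ∀ x : G,
      blockCoeff B (u * x * u⁻¹) = blockCoeff B x := fun B u _ x => helper80.blockCoeff_classFun B x u
  have hinvC : ∀ B : Set (IrrCharacter G), ∀ u ∈ Subgroup.centralizer (P : Set G), ∀ x : G,
      blockCoeff B (u * x * u⁻¹) = blockCoeff B x := fun B u _ x => helper80.blockCoeff_classFun B x u
  have hR : ∀ B : Set (IrrCharacter G), IsPBlock M B → ∀ x, MemLocalRing M (blockCoeff B x) :=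
    fun B hB x => helper81.memLocalRing_blockCoeff' hMp hB x
  have htR : ∀ B : Set (IrrCharacter G), IsPBlock M B →
      MemLocalRing M (brauerOmega P (blockCoeff B) (ξ₀ : Subgroup.centralizer (P : Set G) → ℂ)) :=
    fun B hB => helper80.memLocalRing_brauerOmega hMp P _ (hinvC B) (hR B hB) ξ₀
  have hmul : ∀ B B' : Set (IrrCharacter G), IsPBlock M B → IsPBlock M B' →
      MemLocalIdeal M (brauerOmega P (blockCoeff (B ∩ B')) (ξ₀ : Subgroup.centralizer (P : Set G) → ℂ)
        - brauerOmega P (blockCoeff B) (ξ₀ : Subgroup.centralizer (P : Set G) → ℂ)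
          * brauerOmega P (blockCoeff B') (ξ₀ : Subgroup.centralizer (P : Set G) → ℂ)) := by
    intro B B' hB hB'
    have h := helper80.brauerOmega_conv hM P hP (blockCoeff B) (blockCoeff B') (hinvP B) (hinvP B')
      (hinvC B) (hinvC B') (hR B hB) (hR B' hB') ξ₀
    rw [helper80.brauerOmega_congr P (fun x _ => helper80.conv_blockCoeff B B' x)] at h
    exact h
  have hsum : ∑ B ∈ helper80.blocks M G,
      brauerOmega P (blockCoeff B) (ξ₀ : Subgroup.centralizer (P : Set G) → ℂ) = 1 := by
    rw [← helper80.brauerOmega_sum P (helper80.blocks M G) (fun B => blockCoeff B)]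
    rw [helper80.brauerOmega_congr P (fun x _ => helper80.sum_blocks_blockCoeff hMp x)]
    exact helper80.brauerOmega_delta P _ (helper81.irr_one_ne_zero ξ₀)
  have hex : ∃ B ∈ helper80.blocks M G,
      ¬ MemLocalIdeal M (brauerOmega P (blockCoeff B) (ξ₀ : Subgroup.centralizer (P : Set G) → ℂ)) := by
    by_contra hcon
    push Not at hcon
    have := helper20.memLocalIdeal_sum hMp (helper80.blocks M G) _ hcon
    rw [hsum] at this
    exact helper20.not_memLocalIdeal_one this
  obtain ⟨B, hBmem, htB⟩ := hex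
  have hB : IsPBlock M B := helper80.mem_blocks.mp hBmem
  have htB1 : MemLocalIdeal M
      (brauerOmega P (blockCoeff B) (ξ₀ : Subgroup.centralizer (P : Set G) → ℂ) - 1) := by
    have h1 := hmul B B hB hB
    rw [Set.inter_self] at h1
    by_contra hcon
    have h2 : ¬ MemLocalIdeal M
        (1 - brauerOmega P (blockCoeff B) (ξ₀ : Subgroup.centralizer (P : Set G) → ℂ)) := by
      intro h
      apply hcon
      have := helper20.memLocalIdeal_neg h
      rwa [neg_sub] at this
    have h3 := helper20.not_memLocalIdeal_mul hMp (htR B hB)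
      (helper20.memLocalRing_sub hMp (helper20.memLocalRing_one hMp) (htR B hB)) htB h2
    apply h3
    rw [mul_sub, mul_one]
    exact h1
  refine ⟨B, ⟨⟨hP, ξ₀, rfl⟩, hB, ?_⟩, ?_⟩
  · intro ξ hξ
    have h1 := helper80.memLocalIdeal_brauerOmega_sub hMp P (blockCoeff B) (hinvC B) (hR B hB) ξ ξ₀
      (helper80.sameBlock_symm hMp hξ)
    have := helper20.memLocalIdeal_add hMp h1 htB1
    rwa [sub_add_sub_cancel] at this
  · rintro B' ⟨-, hB', h'⟩
    by_contra hne
    have h1 : MemLocalIdeal M
        (brauerOmega P (blockCoeff B') (ξ₀ : Subgroup.centralizer (P : Set G) → ℂ) - 1) :=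
      h' ξ₀ (helper80.mem_blockOf_self hMp ξ₀)
    have h2 : ¬ MemLocalIdeal M
        (brauerOmega P (blockCoeff B') (ξ₀ : Subgroup.centralizer (P : Set G) → ℂ)) := by
      intro h
      apply helper20.not_memLocalIdeal_one (M := M)
      have := helper20.memLocalIdeal_sub hMp h h1
      rwa [sub_sub_cancel] at this
    have h3 := hmul B' B hB' hB
    have h4 : B' ∩ B = ∅ := by
      by_contra hcon
      obtain ⟨χ, hχ', hχ⟩ := Set.nonempty_iff_ne_empty.mpr hcon
      exact hne (helper80.isPBlock_eq_of_mem hMp hB' hB hχ' hχ)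
    rw [h4, helper80.brauerOmega_congr P (fun x _ => helper80.blockCoeff_empty x),
      helper80.brauerOmega_zero, zero_sub] at h3
    apply helper20.not_memLocalIdeal_mul hMp (htR B' hB') (htR B hB) h2 htB
    have := helper20.memLocalIdeal_neg h3
    rwa [neg_neg] at this

end Cfsg.Agent.S4657
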