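import Cfsg.Statements.S0676
import Cfsg.Agent.Lib.helper15.Neumann

set_option autoImplicit false
open Cfsg

namespace Cfsg.Agent.S0676

/-- A non-solvable transitive permutation group of prime degree `p` whose Sylow `p`-normaliser has even order is triply transitive. -/
theorem result {α : Type*} [Fintype α] [DecidableEq α] {p : ℕ} [Fact p.Prime] (hα : Fintype.card α = p) (G : Subgroup (Equiv.Perm α)) [MulAction.IsPretransitive G α] (hG : ¬ Group.IsSolvable G) (P : Sylow p G) (heven : Even (Nat.card (Subgroup.normalizer ((P : Subgroup G) : Set G)))) : MulAction.IsMultiplyPretransitive G α 3 := by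
  classical
  have hp := (Fact.out : p.Prime)
  obtain ⟨a⟩ : Nonempty α := by
    rw [← Fintype.card_pos_iff, hα]
    exact hp.pos
  have hdvd : p ∣ Nat.card G := by
    have h1 := MulAction.index_stabilizer_of_transitive G a
    rw [Nat.card_eq_fintype_card, hα] at h1
    rw [← h1]
    exact Subgroup.index_dvd_card _
  -- the Sylow subgroup has order p
  have hPcard : Nat.card (P : Subgroup G) = p := by
    obtain ⟨n, hn⟩ := IsPGroup.iff_card.mp P.isPGroup'
    have hn1 : n ≠ 0 := by
      rintro rfl
      rw [pow_zero] at hn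
      exact P.ne_bot_of_dvd_card hdvd ((Subgroup.card_eq_one).mp hn)
    have hn2 : n < 2 := by
      by_contra hge
      push Not at hge
      have h1 : p ^ 2 ∣ Nat.card G :=
        (pow_dvd_pow p hge).trans (hn ▸ Subgroup.card_subgroup_dvd_card _)
      have h2 : Nat.card G ∣ Nat.factorial p := by
        have h3 := Subgroup.card_subgroup_dvd_card G
        rwa [Nat.card_eq_fintype_card (α := Equiv.Perm α), Fintype.card_perm, hα] at h3
      have h4 : p ^ 2 ∣ p * Nat.factorial (p - 1) := by
        rw [Nat.mul_factorial_pred hp.pos.ne']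
        exact h1.trans h2
      rw [pow_two] at h4
      have h5 : p ∣ Nat.factorial (p - 1) := Nat.dvd_of_mul_dvd_mul_left hp.pos h4
      have h6 := (Nat.Prime.dvd_factorial hp).mp h5
      have := hp.pos
      omega
    have hn' : n = 1 := by omega
    rw [hn, hn', pow_one]
  have : Fact (Nat.Prime 2) := ⟨Nat.prime_two⟩
  have hcyc : IsCyclic (P : Subgroup G) := isCyclic_of_prime_card hPcard
  obtain ⟨g, hg⟩ := hcyc.exists_generator
  have hσ : orderOf (g : G) = p := by
    rw [Subgroup.orderOf_coe, orderOf_eq_card_of_forall_mem_zpowers hg, hPcard]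
  obtain ⟨t', ht'⟩ := exists_prime_orderOf_dvd_card' 2 heven.two_dvd
  have ht : orderOf (t' : G) = 2 := by rw [Subgroup.orderOf_coe, ht']
  have hmem : (t' : G) * (g : G) * (t' : G)⁻¹ ∈ (P : Subgroup G) :=
    (Subgroup.mem_normalizer_iff.mp t'.2 (g : G)).mp g.2
  obtain ⟨z, hz⟩ := Subgroup.mem_zpowers_iff.mp (hg ⟨_, hmem⟩)
  have hz' : (g : G) ^ z = (t' : G) * (g : G) * (t' : G)⁻¹ := by
    have := congrArg Subtype.val hz
    simpa using this
  have hk : (t' : G) * (g : G) * (t' : G)⁻¹ = (g : G) ^ (z % (p : ℤ)).toNat := by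
    have h7 := zpow_mod_orderOf (g : G) z
    rw [hσ] at h7
    rw [← hz', ← zpow_natCast, Int.toNat_of_nonneg (Int.emod_nonneg z (by exact_mod_cast hp.pos.ne')),
      h7]
  exact Cfsg.Agent.Lib.helper15.Neumann.three_trans (p := p) hα hG (g : G) (t' : G) hσ ht _ hk

end Cfsg.Agent.S0676
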