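import Mathlib
import Cfsg.Statements.S0912
import Cfsg.Agent.Lib.helper20.NilCentral

set_option autoImplicit false
open Cfsg

namespace Cfsg.Agent.S0912

open Cfsg.Agent.Lib.helper20

theorem result {G : Type*} [Group G] [Finite G] (p : ℕ) [Fact p.Prime] (M : Ideal Cfsg.AlgInt) (hM : Cfsg.IsPModular p M) (B : Set (Cfsg.IrrCharacter G)) (hB : Cfsg.IsPBlock M B) (D : Subgroup G) (hD : Cfsg.IsDefectGroup p M B D) : Cfsg.pCore p G ≤ D := by
  classical
  have : Fintype G := Fintype.ofFinite G
  have hMp := isPrime_of_isPModular hM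
  have hP : IsPGroup p (Cfsg.pCore p G) :=
    Sylow.sSup_of_normal _ (fun _ h => h.2) (fun _ h => h.1)
  have hN : (Cfsg.pCore p G).Normal := Subgroup.sSup_normal _ (fun _ h => h.1)
  obtain ⟨g, hdef, P, rfl⟩ := hD
  obtain ⟨χ₀, hB⟩ := hB
  have hχ₀ : χ₀ ∈ B := by
    rw [hB]
    intro x
    rw [sub_self]
    exact memLocalIdeal_zero hMp
  have hnot := hdef.2.2 χ₀ hχ₀
  have hg : g ∈ Subgroup.centralizer (Cfsg.pCore p G : Set G) := by
    by_contra hg
    exact hnot (memLocalIdeal_centralChar_of_not_mem_centralizer hM (Cfsg.pCore p G) hP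
      (χ₀ : G → ℂ) χ₀.2 g hg)
  have hle : Cfsg.pCore p G ≤ Subgroup.centralizer ({g} : Set G) := by
    intro x hx
    rw [Subgroup.mem_centralizer_iff]
    intro k hk
    rw [Set.mem_singleton_iff] at hk
    subst hk
    exact ((Subgroup.mem_centralizer_iff.mp hg) x hx).symm
  -- the core is a normal `p`-subgroup of the centralizer, hence inside every Sylow subgroup
  have hnorm : ((Cfsg.pCore p G).subgroupOf (Subgroup.centralizer ({g} : Set G))).Normal :=
    hN.subgroupOf _
  have hsub : (Cfsg.pCore p G).subgroupOf (Subgroup.centralizer ({g} : Set G))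
      ≤ (P : Subgroup (Subgroup.centralizer ({g} : Set G))) :=
    (hP.comap_subtype).le_sylow_of_normal P
  intro x hx
  exact ⟨⟨x, hle hx⟩, hsub (Subgroup.mem_subgroupOf.mpr hx), rfl⟩

end Cfsg.Agent.S0912
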