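import Cfsg.Statements.S5059
-- import your own Cfsg.Agent.* helpers here

set_option autoImplicit false
universe u
open Cfsg

namespace Cfsg.Agent.S5059


section helpers

variable {k : Type*} [Field k] {M : Type*} [AddCommGroup M] [Module k M]

/-- a unit `1 + c N` for a square-zero endomorphism `N`. -/
theorem one_add_mul_one_sub {R : Type*} [Ring R] (x : R) (h : x * x = 0) :
    (1 + x) * (1 - x) = 1 ∧ (1 - x) * (1 + x) = 1 := by
  constructor
  · calc (1 + x) * (1 - x) = 1 - x * x := by noncomm_ring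
      _ = 1 := by rw [h, sub_zero]
  · calc (1 - x) * (1 + x) = 1 - x * x := by noncomm_ring
      _ = 1 := by rw [h, sub_zero]

theorem smul_sq_zero (N : M →ₗ[k] M) (hN : N * N = 0) (c : k) : (c • N) * (c • N) = 0 := by
  rw [smul_mul_assoc, mul_smul_comm, hN, smul_zero, smul_zero]

def unitOf (N : M →ₗ[k] M) (hN : N * N = 0) (c : k) : LinearMap.GeneralLinearGroup k M :=
  ⟨1 + c • N, 1 - c • N, (one_add_mul_one_sub _ (smul_sq_zero N hN c)).1,
    (one_add_mul_one_sub _ (smul_sq_zero N hN c)).2⟩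

theorem unitOf_val (N : M →ₗ[k] M) (hN : N * N = 0) (c : k) :
    ((unitOf N hN c : LinearMap.GeneralLinearGroup k M) : M →ₗ[k] M) = 1 + c • N := rfl

theorem range_le_ker_of_sq {N : M →ₗ[k] M} (hN : N * N = 0) : LinearMap.range N ≤ LinearMap.ker N :=
  LinearMap.range_le_ker_iff.mpr hN

theorem prod_zero {G : Subgroup (LinearMap.GeneralLinearGroup k M)} {σ τ τ' : LinearMap.GeneralLinearGroup k M}
    (hσ : Cfsg.IsQuadraticOn σ) (hτ : τ ∈ Cfsg.sameActionClass G σ) (hτ' : τ' ∈ Cfsg.sameActionClass G σ) :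
    ((τ : M →ₗ[k] M) - 1) * ((τ' : M →ₗ[k] M) - 1) = 0 := by
  have h1 : LinearMap.range ((τ' : M →ₗ[k] M) - 1) ≤ LinearMap.ker ((τ : M →ₗ[k] M) - 1) := by
    rw [hτ'.2.2, hτ.2.1]; exact range_le_ker_of_sq hσ.1
  exact LinearMap.range_le_ker_iff.mp h1

theorem val_mul_sub_one {τ τ' : LinearMap.GeneralLinearGroup k M}
    (h : ((τ : M →ₗ[k] M) - 1) * ((τ' : M →ₗ[k] M) - 1) = 0) :
    ((τ * τ' : LinearMap.GeneralLinearGroup k M) : M →ₗ[k] M) - 1 =
      ((τ : M →ₗ[k] M) - 1) + ((τ' : M →ₗ[k] M) - 1) := by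
  rw [Units.val_mul]
  calc (τ : M →ₗ[k] M) * (τ' : M →ₗ[k] M) - 1
      = ((τ : M →ₗ[k] M) - 1) + ((τ' : M →ₗ[k] M) - 1) + ((τ : M →ₗ[k] M) - 1) * ((τ' : M →ₗ[k] M) - 1) := by
        noncomm_ring
    _ = _ := by rw [h, add_zero]

theorem mul_comm_class {G : Subgroup (LinearMap.GeneralLinearGroup k M)} {σ τ τ' : LinearMap.GeneralLinearGroup k M}
    (hσ : Cfsg.IsQuadraticOn σ) (hτ : τ ∈ Cfsg.sameActionClass G σ) (hτ' : τ' ∈ Cfsg.sameActionClass G σ) :
    τ * τ' = τ' * τ := by
  apply Units.ext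
  have h1 := val_mul_sub_one (prod_zero hσ hτ hτ')
  have h2 := val_mul_sub_one (prod_zero hσ hτ' hτ)
  have h3 : ((τ * τ' : LinearMap.GeneralLinearGroup k M) : M →ₗ[k] M) - 1 =
      ((τ' * τ : LinearMap.GeneralLinearGroup k M) : M →ₗ[k] M) - 1 := by
    rw [h1, h2, add_comm]
  exact sub_left_injective h3

variable [FiniteDimensional k M]

theorem mul_mem_class {G : Subgroup (LinearMap.GeneralLinearGroup k M)} {σ τ τ' : LinearMap.GeneralLinearGroup k M}
    (hσ : σ ∈ Cfsg.minimalQuadraticElements G)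
    (hτ : τ ∈ Cfsg.sameActionClass G σ) (hτ' : τ' ∈ Cfsg.sameActionClass G σ) :
    τ * τ' ∈ Cfsg.sameActionClass G σ ∨ τ * τ' = 1 := by
  have hσq : Cfsg.IsQuadraticOn σ := hσ.1.2.1
  obtain ⟨a, ha⟩ : ∃ a, a = (τ : M →ₗ[k] M) - 1 := ⟨_, rfl⟩
  obtain ⟨b, hb⟩ : ∃ b, b = (τ' : M →ₗ[k] M) - 1 := ⟨_, rfl⟩
  have hab : a * b = 0 := by rw [ha, hb]; exact prod_zero hσq hτ hτ'
  have hba : b * a = 0 := by rw [ha, hb]; exact prod_zero hσq hτ' hτ
  have haa : a * a = 0 := by rw [ha]; exact prod_zero hσq hτ hτ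
  have hbb : b * b = 0 := by rw [hb]; exact prod_zero hσq hτ' hτ'
  have hN : ((τ * τ' : LinearMap.GeneralLinearGroup k M) : M →ₗ[k] M) - 1 = a + b := by
    rw [ha, hb]; exact val_mul_sub_one (prod_zero hσq hτ hτ')
  by_cases h0 : a + b = 0
  · right
    apply Units.ext
    have : ((τ * τ' : LinearMap.GeneralLinearGroup k M) : M →ₗ[k] M) - 1 = 0 := by rw [hN, h0]
    rw [Units.val_one]
    exact sub_eq_zero.mp this
  left
  -- membership in quadraticElements
  have hquad : τ * τ' ∈ Cfsg.quadraticElements G := by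
    refine ⟨G.mul_mem hτ.1.1.1 hτ'.1.1.1, ⟨?_, ?_⟩, ?_⟩
    · rw [hN, add_mul, mul_add, mul_add, haa, hab, hba, hbb]; simp
    · rw [hN]; exact h0
    · rintro ρ ⟨c, hc⟩
      rw [hN] at hc
      have h1 : unitOf a haa c ∈ G := hτ.1.1.2.2 ⟨c, by rw [unitOf_val, ha]⟩
      have h2 : unitOf b hbb c ∈ G := hτ'.1.1.2.2 ⟨c, by rw [unitOf_val, hb]⟩
      have h3 : ρ = unitOf a haa c * unitOf b hbb c := by
        apply Units.ext
        rw [hc, Units.val_mul, unitOf_val, unitOf_val]
        have h4 : (c • a) * (c • b) = 0 := by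
          rw [smul_mul_assoc, mul_smul_comm, hab, smul_zero, smul_zero]
        obtain ⟨x, hx⟩ : ∃ x, x = c • a := ⟨_, rfl⟩
        obtain ⟨y, hy⟩ : ∃ y, y = c • b := ⟨_, rfl⟩
        rw [← hx, ← hy] at h4
        rw [smul_add, ← hx, ← hy]
        calc 1 + (x + y) = 1 + x + y + 0 := by abel
          _ = 1 + x + y + x * y := by rw [h4]
          _ = (1 + x) * (1 + y) := by noncomm_ring
      rw [h3]; exact G.mul_mem h1 h2
  have hrange_le : LinearMap.range (a + b) ≤ LinearMap.range ((σ : M →ₗ[k] M) - 1) := by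
    rintro _ ⟨x, rfl⟩
    rw [LinearMap.add_apply]
    refine Submodule.add_mem _ ?_ ?_
    · rw [← hτ.2.2, ← ha]; exact LinearMap.mem_range_self a x
    · rw [← hτ'.2.2, ← hb]; exact LinearMap.mem_range_self b x
  have hrank_ge : Module.finrank k (LinearMap.range ((σ : M →ₗ[k] M) - 1)) ≤
      Module.finrank k (LinearMap.range (a + b)) := by
    have := hσ.2 (τ * τ') hquad
    unfold Cfsg.commutatorRank at this
    rwa [hN] at this
  have hrange : LinearMap.range (a + b) = LinearMap.range ((σ : M →ₗ[k] M) - 1) :=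
    Submodule.eq_of_le_of_finrank_le hrange_le hrank_ge
  have hker_le : LinearMap.ker ((σ : M →ₗ[k] M) - 1) ≤ LinearMap.ker (a + b) := by
    intro x hx
    have h1 : a x = 0 := by
      have : x ∈ LinearMap.ker ((τ : M →ₗ[k] M) - 1) := by rw [hτ.2.1]; exact hx
      rw [ha]; exact this
    have h2 : b x = 0 := by
      have : x ∈ LinearMap.ker ((τ' : M →ₗ[k] M) - 1) := by rw [hτ'.2.1]; exact hx
      rw [hb]; exact this
    rw [LinearMap.mem_ker, LinearMap.add_apply, h1, h2, add_zero]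
  have hker : LinearMap.ker (a + b) = LinearMap.ker ((σ : M →ₗ[k] M) - 1) := by
    refine (Submodule.eq_of_le_of_finrank_le hker_le ?_).symm
    have e1 := LinearMap.finrank_range_add_finrank_ker (a + b)
    have e2 := LinearMap.finrank_range_add_finrank_ker ((σ : M →ₗ[k] M) - 1)
    rw [hrange] at e1
    omega
  refine ⟨⟨hquad, ?_⟩, ?_, ?_⟩
  · intro ρ hρ
    have h1 := hσ.2 ρ hρ
    unfold Cfsg.commutatorRank at h1 ⊢
    rw [hN, hrange]
    exact h1
  · rw [hN]; exact hker
  · rw [hN]; exact hrange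

theorem inv_mem_class {G : Subgroup (LinearMap.GeneralLinearGroup k M)} {σ τ : LinearMap.GeneralLinearGroup k M}
    (hσ : σ ∈ Cfsg.minimalQuadraticElements G)
    (hτ : τ ∈ Cfsg.sameActionClass G σ) :
    τ⁻¹ ∈ Cfsg.sameActionClass G σ := by
  have hσq : Cfsg.IsQuadraticOn σ := hσ.1.2.1
  obtain ⟨a, ha⟩ : ∃ a, a = (τ : M →ₗ[k] M) - 1 := ⟨_, rfl⟩
  have haa : a * a = 0 := by rw [ha]; exact prod_zero hσq hτ hτ
  have hτv : (τ : M →ₗ[k] M) = 1 + a := by rw [ha]; abel
  have hinv : τ⁻¹ = unitOf a haa (-1) := by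
    apply inv_eq_of_mul_eq_one_right
    apply Units.ext
    rw [Units.val_mul, unitOf_val, hτv, Units.val_one]
    calc (1 + a) * (1 + (-1 : k) • a) = 1 - a * a := by
          rw [neg_smul, one_smul]; noncomm_ring
      _ = 1 := by rw [haa, sub_zero]
  have hN : ((τ⁻¹ : LinearMap.GeneralLinearGroup k M) : M →ₗ[k] M) - 1 = -a := by
    rw [hinv, unitOf_val, neg_smul, one_smul]; abel
  have hquad : τ⁻¹ ∈ Cfsg.quadraticElements G := by
    refine ⟨G.inv_mem hτ.1.1.1, ⟨?_, ?_⟩, ?_⟩
    · rw [hN, neg_mul_neg, haa]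
    · rw [hN, neg_ne_zero, ha]; exact hτ.1.1.2.1.2
    · rintro ρ ⟨c, hc⟩
      rw [hN] at hc
      exact hτ.1.1.2.2 ⟨-c, by rw [hc, ← ha, smul_neg, neg_smul]⟩
  refine ⟨⟨hquad, ?_⟩, ?_, ?_⟩
  · intro ρ hρ
    have h1 := hτ.1.2 ρ hρ
    unfold Cfsg.commutatorRank at h1 ⊢
    rw [hN, LinearMap.range_neg, ha]
    exact h1
  · rw [hN, LinearMap.ker_neg, ha]; exact hτ.2.1
  · rw [hN, LinearMap.range_neg, ha]; exact hτ.2.2

/-- the subgroup with carrier `E_σ ∪ {1}` -/
def classSubgroup (G : Subgroup (LinearMap.GeneralLinearGroup k M)) (σ : LinearMap.GeneralLinearGroup k M)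
    (hσ : σ ∈ Cfsg.minimalQuadraticElements G) : Subgroup (LinearMap.GeneralLinearGroup k M) where
  carrier := Cfsg.sameActionClass G σ ∪ {1}
  mul_mem' := by
    rintro x y (hx | hx) (hy | hy)
    · rcases mul_mem_class hσ hx hy with h | h
      · exact Or.inl h
      · exact Or.inr h
    · rw [Set.mem_singleton_iff.mp hy, mul_one]; exact Or.inl hx
    · rw [Set.mem_singleton_iff.mp hx, one_mul]; exact Or.inl hy
    · rw [Set.mem_singleton_iff.mp hx, Set.mem_singleton_iff.mp hy, mul_one]; exact Or.inr rfl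
  one_mem' := Or.inr rfl
  inv_mem' := by
    rintro x (hx | hx)
    · exact Or.inl (inv_mem_class hσ hx)
    · rw [Set.mem_singleton_iff.mp hx, inv_one]; exact Or.inr rfl

theorem sameActionSubgroup_eq (G : Subgroup (LinearMap.GeneralLinearGroup k M)) (σ : LinearMap.GeneralLinearGroup k M)
    (hσ : σ ∈ Cfsg.minimalQuadraticElements G) :
    Cfsg.sameActionSubgroup G σ = classSubgroup G σ hσ := by
  apply le_antisymm
  · exact (Subgroup.closure_le _).mpr Set.subset_union_left
  · rintro x (hx | hx)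
    · exact Subgroup.subset_closure hx
    · rw [Set.mem_singleton_iff.mp hx]; exact Subgroup.one_mem _

end helpers

/-- Let k be a field of characteristic not 2 with k not of order 3, M a finite-dimensional k-vector space and G ≤ GL(M) such that (G, M) is a quadratic pair (M irreducible for G, and G generated by its quadratically acting elements σ whose scalar family 1 + c(σ − 1), c ∈ k, lies in G). Write 𝒬_d for the quadratic elements of G of minimal commutator rank, E(σ) for the subgroup generated by the members of 𝒬_d with the same fixed space and commutator space as σ, and Σ for the set of these subgroups. Then for σ ∈ 𝒬_d the subgroup E(σ) consists exactly of those members together with the identity, it is abelian, and if k has prime characteristic p every element of E(σ) has order dividing p. -/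
theorem result {k : Type u} [Field k] (hk2 : ringChar k ≠ 2) (hk3 : Nat.card k ≠ 3)
    {M : Type u} [AddCommGroup M] [Module k M] [FiniteDimensional k M]
    {G : Subgroup (LinearMap.GeneralLinearGroup k M)} (hG : Cfsg.IsQuadraticPair G)
    {σ : LinearMap.GeneralLinearGroup k M} (hσ : σ ∈ Cfsg.minimalQuadraticElements G) :
    (Cfsg.sameActionSubgroup G σ : Set (LinearMap.GeneralLinearGroup k M)) = Cfsg.sameActionClass G σ ∪ {1} ∧
    IsMulCommutative ↥(Cfsg.sameActionSubgroup G σ) ∧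
    (∀ p : ℕ, p.Prime → ringChar k = p → ∀ x ∈ Cfsg.sameActionSubgroup G σ, x ^ p = 1) := by
  have hσq : Cfsg.IsQuadraticOn σ := hσ.1.2.1
  have heq := sameActionSubgroup_eq G σ hσ
  have hmem : ∀ x, x ∈ Cfsg.sameActionSubgroup G σ ↔ x ∈ Cfsg.sameActionClass G σ ∨ x = 1 := by
    intro x
    rw [heq]
    exact Iff.rfl
  refine ⟨?_, ?_, ?_⟩
  · ext x
    exact hmem x
  · refine ⟨⟨?_⟩⟩
    rintro ⟨x, hx⟩ ⟨y, hy⟩
    apply Subtype.ext
    show x * y = y * x
    rcases (hmem x).mp hx with hx | hx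
    · rcases (hmem y).mp hy with hy | hy
      · exact mul_comm_class hσq hx hy
      · rw [hy, mul_one, one_mul]
    · rw [hx, mul_one, one_mul]
  · intro p hp hchar x hx
    rcases (hmem x).mp hx with hx | hx
    · have hcp : CharP k p := ringChar.of_eq hchar
      obtain ⟨a, ha⟩ : ∃ a, a = (x : M →ₗ[k] M) - 1 := ⟨_, rfl⟩
      have haa : a * a = 0 := by rw [ha]; exact prod_zero hσq hx hx
      have hxv : (x : M →ₗ[k] M) = 1 + a := by rw [ha]; abel
      have hpow : ∀ n : ℕ, (1 + a) ^ n = 1 + (n : k) • a := by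
        intro n
        induction n with
        | zero => simp
        | succ n ih =>
          rw [pow_succ, ih]
          have h4 : ((n : k) • a) * a = 0 := by rw [smul_mul_assoc, haa, smul_zero]
          calc (1 + (n : k) • a) * (1 + a) = 1 + (n : k) • a + a + ((n : k) • a) * a := by noncomm_ring
            _ = 1 + ((n : k) + 1) • a := by rw [h4, add_zero, add_smul, one_smul, add_assoc]
            _ = 1 + ((n + 1 : ℕ) : k) • a := by push_cast; rfl
      apply Units.ext
      rw [Units.val_pow_eq_pow_val, hxv, hpow, CharP.cast_eq_zero k p, zero_smul, add_zero, Units.val_one]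
    · rw [hx, one_pow]

end Cfsg.Agent.S5059
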