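import Cfsg.Statements.S5061
import Cfsg.Agent.Lib.helper85.RankOne
import Cfsg.Agent.Lib.helper85.UniLin

set_option autoImplicit false
open Cfsg

namespace Cfsg.Agent.S5061

/-- Let M be a finite-dimensional vector space over a field k, G ≤ GL(M), and 𝒲 a set of subgroups of G, invariant under conjugation by G, such that any two members of 𝒲 generate a subgroup acting unipotently on M (for some n all products of n endomorphisms g − 1 from it vanish). Then the subgroup generated by all members of 𝒲 acts unipotently on M and is normal in G. -/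
theorem result {k : Type*} [Field k] {M : Type*} [AddCommGroup M] [Module k M] [FiniteDimensional k M]
    {G : Subgroup (LinearMap.GeneralLinearGroup k M)} {W : Set (Subgroup (LinearMap.GeneralLinearGroup k M))} (hWG : ∀ A ∈ W, A ≤ G)
    (hWW : ∀ A ∈ W, ∀ B ∈ W, Cfsg.IsUnipotentOn (A ⊔ B)) (hWconj : ∀ A ∈ W, ∀ g ∈ G, Cfsg.conjBy A g ∈ W) :
    Cfsg.IsUnipotentOn (⨆ A ∈ W, A) ∧ ∀ g ∈ G, Cfsg.conjBy (⨆ A ∈ W, A) g = ⨆ A ∈ W, A := by
  classical
  obtain ⟨D, hD⟩ : ∃ D : Set (LinearMap.GeneralLinearGroup k M), D = {x | ∃ A ∈ W, x ∈ A} := ⟨_, rfl⟩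
  have hconj : ∀ x ∈ D, ∀ y ∈ D, x * y * x⁻¹ ∈ D := by
    intro x hx y hy
    rw [hD] at hx hy ⊢
    obtain ⟨A, hA, hxA⟩ := hx
    obtain ⟨B, hB, hyB⟩ := hy
    exact ⟨Cfsg.conjBy B x, hWconj B hB x (hWG A hA hxA), Lib.helper85.conj_mem_conjBy hyB⟩
  have hinv : ∀ x ∈ D, x⁻¹ ∈ D := by
    intro x hx
    rw [hD] at hx ⊢
    obtain ⟨A, hA, hxA⟩ := hx
    exact ⟨A, hA, A.inv_mem hxA⟩
  have hpair : ∀ x ∈ D, ∀ y ∈ D,
      Lib.helper85.Uni ({x, y} : Set (LinearMap.GeneralLinearGroup k M)) := by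
    intro x hx y hy
    rw [hD] at hx hy
    obtain ⟨A, hA, hxA⟩ := hx
    obtain ⟨B, hB, hyB⟩ := hy
    refine (Lib.helper85.uni_of_isUnipotentOn (hWW A hA B hB)).mono ?_
    intro z hz
    rcases hz with rfl | hz
    · exact (le_sup_left : A ≤ A ⊔ B) hxA
    · rw [Set.mem_singleton_iff] at hz
      subst hz
      exact (le_sup_right : B ≤ A ⊔ B) hyB
  have hU := Lib.helper85.uni_of_pairs hconj hinv hpair
  have hle : (⨆ A ∈ W, A) ≤ Lib.helper85.uStab D :=
    iSup₂_le fun A hA x hx => Lib.helper85.subset_uStab (hD ▸ ⟨A, hA, hx⟩)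
  refine ⟨Lib.helper85.isUnipotentOn_of_le_uStab hU hle, ?_⟩
  have hmono : ∀ g ∈ G, (⨆ A ∈ W, A) ≤ Cfsg.conjBy (⨆ A ∈ W, A) g := by
    intro g hg
    apply iSup₂_le
    intro A hA x hx
    rw [Lib.helper85.mem_conjBy]
    have h1 : Cfsg.conjBy A g⁻¹ ∈ W := hWconj A hA g⁻¹ (G.inv_mem hg)
    have h2 : g⁻¹ * x * g ∈ Cfsg.conjBy A g⁻¹ := by
      rw [Lib.helper85.mem_conjBy]
      simpa [mul_assoc] using hx
    exact (le_iSup₂ (f := fun (A : Subgroup (LinearMap.GeneralLinearGroup k M)) (_ : A ∈ W) => A) _ h1) h2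
  intro g hg
  apply le_antisymm
  · intro x hx
    rw [Lib.helper85.mem_conjBy] at hx
    have := hmono g⁻¹ (G.inv_mem hg) hx
    rw [Lib.helper85.mem_conjBy] at this
    simpa [mul_assoc] using this
  · exact hmono g hg

end Cfsg.Agent.S5061
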