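import Cfsg.Statements.S5124
import Cfsg.Agent.Lib.helper88.Saturated
import Cfsg.Agent.Lib.helper88.Subsystem
import Cfsg.Agent.Lib.helper89.FusionSat
import Cfsg.Agent.Lib.helper89.FusionClosed
import Cfsg.Agent.Lib.helper40.PResidual

set_option autoImplicit false
open Cfsg

namespace Cfsg.Agent.S5124

open Cfsg.Agent.Lib

variable {Ω : Type*} [Group Ω] {S : Subgroup Ω}

/-- Transport of a generator of the hyperfocal subgroup along an isomorphism of the system. -/
theorem gen_transport (F : FusionSystem S) (p : ℕ) {P Q : Subgroup Ω} {e : P ≃* Q}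
    (he : helper88.IsoEquiv F e) (α : F.autGroup P) (hα : α ∈ pResidual p (F.autGroup P)) (x : P) :
    ((e x : Q) : Ω)⁻¹ * ((e ((α : MulAut P) x) : Q) : Ω) ∈ F.hyperfocalSubgroup p := by
  apply Subgroup.subset_closure
  refine ⟨Q, (((MulAut.congr e).toMonoidHom.comp (F.autGroup P).subtype).codRestrict (F.autGroup Q)
    (fun a => he.congr_mem a.2)) α, e x, he.le_right, ?_, ?_⟩
  · exact helper88.pResidual_map_le p _ ⟨α, hα, rfl⟩
  · show _ = ((e x : Q) : Ω)⁻¹ * ((e ((α : MulAut P) (e.symm (e x))) : Q) : Ω)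
    rw [MulEquiv.symm_apply_apply]

theorem hyp_conj_mem (F : FusionSystem S) (p : ℕ) {g : Ω} (hg : g ∈ S) {y : Ω}
    (hy : y ∈ F.hyperfocalSubgroup p) : g * y * g⁻¹ ∈ F.hyperfocalSubgroup p := by
  have h1 : (F.hyperfocalSubgroup p).map (MulAut.conj g).toMonoidHom ≤ F.hyperfocalSubgroup p := by
    unfold FusionSystem.hyperfocalSubgroup
    rw [MonoidHom.map_closure, Subgroup.closure_le]
    rintro _ ⟨_, ⟨P, α, x, hP, hα, rfl⟩, rfl⟩
    obtain ⟨e, he, hex⟩ := helper88.exists_isoEquiv F (F.conj_mem hP hg) rfl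
    have h2 := gen_transport F p he α hα x
    rw [hex, hex] at h2
    have h3 : (MulAut.conj g).toMonoidHom ((x : Ω)⁻¹ * (((α : MulAut P) x : P) : Ω)) =
        (conjHom P g x)⁻¹ * conjHom P g ((α : MulAut P) x) := by
      show g * ((x : Ω)⁻¹ * (((α : MulAut P) x : P) : Ω)) * g⁻¹ =
        (g * (x : Ω) * g⁻¹)⁻¹ * (g * (((α : MulAut P) x : P) : Ω) * g⁻¹)
      group
    rw [SetLike.mem_coe, h3]
    exact h2
  exact h1 ⟨y, hy, rfl⟩

theorem hyp_conj_iff (F : FusionSystem S) (p : ℕ) {g : Ω} (hg : g ∈ S) (y : Ω) :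
    y ∈ F.hyperfocalSubgroup p ↔ g * y * g⁻¹ ∈ F.hyperfocalSubgroup p := by
  refine ⟨hyp_conj_mem F p hg, fun h => ?_⟩
  have h1 := hyp_conj_mem F p (S.inv_mem hg) h
  have h2 : g⁻¹ * (g * y * g⁻¹) * g⁻¹⁻¹ = y := by group
  rw [h2] at h1
  exact h1

/-- In a saturated fusion system over a finite p-group S the hyperfocal subgroup is strongly closed in the system. -/
theorem result {Ω : Type*} [Group Ω] {S : Subgroup Ω} [Finite S] (p : ℕ) [Fact p.Prime] (hS : IsPGroup p S) (F : Cfsg.FusionSystem S) (hF : F.IsSaturated p) : F.StronglyClosed (F.hyperfocalSubgroup p) := by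
  have key : ∀ P : Subgroup Ω, F.Hom P ⊆
      (helper89.preservingSystem F (F.hyperfocalSubgroup p : Set Ω)
        (fun g hg x => hyp_conj_iff F p hg x)).Hom P := by
    refine helper89.saturated_induction F _ hS hF ?_
    intro U hfa hrec _ α hα
    have hUS : U ≤ S := hfa.1
    refine ⟨(helper89.mem_autGroup_iff F hUS α).mp hα, fun x => ?_⟩
    obtain ⟨_, R, hR⟩ := hfa
    haveI : Finite ↥(F.autGroup U) := helper89.finite_autGroup F hUS
    have hidx : ¬ p ∣ ((autInducedBy S U).subgroupOf (F.autGroup U)).index := by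
      rw [← hR]
      exact R.not_dvd_index
    obtain ⟨s, hs, u, hu, hsu⟩ := helper40.exists_mul_pResidual
      ((autInducedBy S U).subgroupOf (F.autGroup U)) hidx ⟨α, hα⟩
    rw [Subgroup.mem_subgroupOf] at hs
    obtain ⟨g, hg, hgs⟩ := (helper89.mem_autInducedBy_iff S U _).mp hs
    have hα' : α = (s : MulAut U) * (u : MulAut U) := congrArg Subtype.val hsu
    have h1 : (x : Ω)⁻¹ * (((u : MulAut U) x : U) : Ω) ∈ F.hyperfocalSubgroup p :=
      Subgroup.subset_closure ⟨U, u, x, hUS, hu, rfl⟩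
    have h2 : (x : Ω) ∈ F.hyperfocalSubgroup p ↔
        (((u : MulAut U) x : U) : Ω) ∈ F.hyperfocalSubgroup p := by
      constructor
      · intro hx
        have h3 : (((u : MulAut U) x : U) : Ω) = (x : Ω) * ((x : Ω)⁻¹ * (((u : MulAut U) x : U) : Ω)) := by
          group
        rw [h3]
        exact Subgroup.mul_mem _ hx h1
      · intro hx
        have h3 : (x : Ω) = (((u : MulAut U) x : U) : Ω) * ((x : Ω)⁻¹ * (((u : MulAut U) x : U) : Ω))⁻¹ := by
          group
        rw [h3]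
        exact Subgroup.mul_mem _ hx (Subgroup.inv_mem _ h1)
    show (x : Ω) ∈ (F.hyperfocalSubgroup p : Set Ω) ↔ ((α x : U) : Ω) ∈ (F.hyperfocalSubgroup p : Set Ω)
    rw [SetLike.mem_coe, SetLike.mem_coe, h2, hα', MulAut.mul_apply, hgs]
    exact hyp_conj_iff F p hg _
  have hle : F.hyperfocalSubgroup p ≤ S := by
    unfold FusionSystem.hyperfocalSubgroup
    rw [Subgroup.closure_le]
    rintro _ ⟨P, α, x, hP, -, rfl⟩
    exact S.mul_mem (S.inv_mem (hP x.2)) (hP ((α : MulAut P) x).2)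
  refine ⟨hle, ?_⟩
  intro R hR φ hφ x
  exact ((key R hφ).2 x).mp (hR x.2)

end Cfsg.Agent.S5124
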