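-- Statement S5120.
import Cfsg.Statements.S5120
import Cfsg.Agent.Lib.helper88.PPowerNormal

set_option autoImplicit false
open Cfsg

namespace Cfsg.Agent.S5120

open Cfsg.FusionSystem Cfsg.Agent.Lib.helper88

/-- Let F be a saturated fusion system over a finite p-group S and T a subgroup of S containing the hyperfocal subgroup of F and normal in S. Then every saturated subsystem of F over T of p-power index is a normal subsystem of F. -/
theorem result {Ω : Type*} [Group Ω] {S : Subgroup Ω} [Finite S] (p : ℕ) [Fact p.Prime] (hS : IsPGroup p S) (F : Cfsg.FusionSystem S) (hF : F.IsSaturated p) (T : Subgroup Ω) (hTS : T ≤ S) (hTn : (T.subgroupOf S).Normal) (hT : F.hyperfocalSubgroup p ≤ T) (E : Cfsg.FusionSystem T) (hEs : E.IsSaturated p) (hEi : E.HasPPowerIndexIn F p) : E.IsNormalIn F p := by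
  have hE := hEi.1
  have hidx := hEi.2.2
  have hTn' : ∀ g ∈ S, ∀ t ∈ T, g * t * g⁻¹ ∈ T := by
    intro g hg t ht
    have h1 := hTn.conj_mem ⟨t, hTS ht⟩ (Subgroup.mem_subgroupOf.mpr ht) ⟨g, hg⟩
    exact Subgroup.mem_subgroupOf.mp h1
  have hTsc := stronglyClosed_of_hyperfocal_le hS F hF hTS hTn' hT
  have hfinT : Finite T := finite_of_le hTS
  have hTp : IsPGroup p T := hS.to_le hTS
  have hinv := autInvariant_of_pPowerIndex hTp F E hEs hE hTS hidx
  exact ⟨⟨hEs, hF, hE, hTsc, hinv, frattini_of_pPowerIndex hS F hF hTsc E hE hinv hidx⟩,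
    extension_of_saturated hS F hF hTsc hT E hEs hE⟩

end Cfsg.Agent.S5120
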