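import Cfsg.Statements.S5159
import Cfsg.Agent.Lib.helper88.Solvable

set_option autoImplicit false
open Cfsg

namespace Cfsg.Agent.S5159

open Cfsg.FusionSystem
open scoped commutatorElement

section aux

variable {Ω : Type*} [Group Ω] {S : Subgroup Ω}

theorem sc_inf (F : FusionSystem S) {A B : Subgroup Ω} (hA : F.StronglyClosed A)
    (hB : F.StronglyClosed B) : F.StronglyClosed (A ⊓ B) :=
  ⟨inf_le_left.trans hA.1, fun R hR φ hφ x =>
    ⟨hA.2 R (hR.trans inf_le_left) φ hφ x, hB.2 R (hR.trans inf_le_right) φ hφ x⟩⟩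

theorem comm_le_self (X : Subgroup Ω) : ⁅X, X⁆ ≤ X := by
  rw [Subgroup.commutator_le]
  intro a ha b hb
  exact X.mul_mem (X.mul_mem (X.mul_mem ha hb) (X.inv_mem ha)) (X.inv_mem hb)

/-- Building a chain from a strict descent step. -/
theorem chain_of_step [Finite S] (F : FusionSystem S)
    (hstep : ∀ X : Subgroup Ω, F.StronglyClosed X → X ≠ ⊥ →
      ∃ X' : Subgroup Ω, F.StronglyClosed X' ∧ X' < X ∧ ⁅X, X⁆ ≤ X') :
    ∀ (c : ℕ) (X : Subgroup Ω), F.StronglyClosed X → Nat.card X = c →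
      ∃ (n : ℕ) (Tc : Fin (n + 1) → Subgroup Ω), Tc 0 = ⊥ ∧ Tc (Fin.last n) = X ∧
        (∀ i, F.StronglyClosed (Tc i)) ∧
        ∀ i : Fin n, ⁅Tc i.succ, Tc i.succ⁆ ≤ Tc (Fin.castSucc i) := by
  intro c
  induction c using Nat.strong_induction_on with
  | _ c ih =>
    intro X hX hc
    rcases eq_or_ne X ⊥ with hX0 | hX0
    · exact ⟨0, fun _ => ⊥, rfl, hX0.symm, fun _ => hX0 ▸ hX, fun i => i.elim0⟩
    · obtain ⟨X', hX', hlt, hcomm⟩ := hstep X hX hX0
      have hcard : Nat.card X' < c := by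
        rw [← hc]
        exact Cfsg.Agent.Lib.helper89.card_lt_of_lt hlt hX.1
      obtain ⟨n, Tc, h0, hl, hsc, hc'⟩ := ih (Nat.card X') hcard X' hX' rfl
      refine ⟨n + 1, Fin.snoc Tc X, ?_, ?_, ?_, ?_⟩
      · have h1 : (0 : Fin (n + 1 + 1)) = Fin.castSucc (0 : Fin (n + 1)) := rfl
        rw [h1, Fin.snoc_castSucc]
        exact h0
      · exact Fin.snoc_last _ _
      · intro i
        refine Fin.lastCases ?_ (fun j => ?_) i
        · rw [Fin.snoc_last]
          exact hX
        · rw [Fin.snoc_castSucc]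
          exact hsc j
      · intro i
        refine Fin.lastCases ?_ (fun j => ?_) i
        · rw [Fin.succ_last, Fin.snoc_last, Fin.snoc_castSucc, hl]
          exact hcomm
        · rw [Fin.succ_castSucc, Fin.snoc_castSucc, Fin.snoc_castSucc]
          exact hc' j

/-- Locating a subgroup in a chain. -/
theorem exists_jump {n : ℕ} (P : Fin (n + 1) → Subgroup Ω) (X : Subgroup Ω)
    (h0 : ¬ X ≤ P 0) (hl : X ≤ P (Fin.last n)) :
    ∃ j : Fin n, ¬ X ≤ P (Fin.castSucc j) ∧ X ≤ P j.succ := by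
  by_contra hcon
  push Not at hcon
  have hall : ∀ i : Fin (n + 1), ¬ X ≤ P i := by
    intro i
    induction i using Fin.induction with
    | zero => exact h0
    | succ i ih => exact hcon i ih
  exact hall _ hl

end aux


/-- Let F be a saturated fusion system over a finite p-group S, E a normal subsystem over T, and D the factor system of F modulo T (read through any homomorphism on S with kernel T). Then F is solvable if and only if E and D are solvable (solvable, for a system over a subgroup S: for every subgroup R other than S that is strongly closed in F, the factor system of F modulo R has a nontrivial subgroup normal in it). -/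
theorem result {Ω : Type*} [Group Ω] {S : Subgroup Ω} [Finite S] (p : ℕ) [Fact p.Prime] (hS : IsPGroup p S) (F : Cfsg.FusionSystem S) (hF : F.IsSaturated p) {T : Subgroup Ω} (E : Cfsg.FusionSystem T) (hE : E.IsNormalIn F p) {Ω' : Type*} [Group Ω'] {S' : Subgroup Ω'} (θ : S →* Ω') (D : Cfsg.FusionSystem S') (hD : F.IsFactorSystem T θ D) : F.IsSolvableSystem ↔ (E.IsSolvableSystem ∧ D.IsSolvableSystem) := by
  obtain ⟨⟨hEsat, -, hsub, hTsc, hinv, hfrat⟩, -⟩ := hE
  have hTS : T ≤ S := hTsc.1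
  have hfinT : Finite T := Cfsg.Agent.Lib.helper89.finite_of_le hTS
  have hpT : IsPGroup p T := hS.to_le hTS
  have hDsat := Cfsg.Agent.Lib.helper88.factorSystem_saturated hS F hF hTsc θ D hD
  have hD' := hD
  obtain ⟨-, hker, hrange, -⟩ := hD'
  have hfinS' : Finite S' := by
    rw [← hrange]
    exact (Set.finite_range θ).to_subtype
  have hpS' : IsPGroup p S' := by
    rw [← hrange]
    exact hS.of_surjective θ.rangeRestrict θ.rangeRestrict_surjective
  constructor
  · intro h
    obtain ⟨n, Tc, hT0, hTl, -, hTsc', hTc⟩ := Cfsg.Agent.Lib.helper88.exists_chain_from hS F hF h _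
      ⊥ (Cfsg.Agent.Lib.helper88.stronglyClosed_bot F) rfl
    constructor
    · intro R hR hne _ E' hE'
      have hp' : IsPGroup p (⊤ : Subgroup (T ⧸ R.subgroupOf T)) :=
        (hpT.to_quotient _).to_subgroup _
      refine Cfsg.Agent.Lib.helper88.core_ne_bot_of_chain hpT E hEsat (fun i => Tc i ⊓ T)
        ?_ ?_ ?_ ?_ hR hne hp' _ E' hE'
      · show Tc 0 ⊓ T = ⊥
        rw [hT0]
        exact bot_inf_eq _
      · show Tc (Fin.last n) ⊓ T = T
        rw [hTl]
        exact inf_eq_right.mpr hTS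
      · intro i
        refine ⟨inf_le_right, fun R' hR' φ hφ x => ⟨?_, ?_⟩⟩
        · exact (hTsc' i).2 R' (hR'.trans inf_le_left) φ (hsub R' hφ) x
        · exact Cfsg.Agent.Lib.helper89.range_le_of_hom E hφ ⟨x, rfl⟩
      · intro i
        show ⁅Tc i.succ ⊓ T, Tc i.succ ⊓ T⁆ ≤ Tc (Fin.castSucc i) ⊓ T
        refine le_inf ?_ ?_
        · exact (Subgroup.commutator_mono inf_le_left inf_le_left).trans (hTc i)
        · exact (Subgroup.commutator_mono inf_le_right inf_le_right).trans (comm_le_self T)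
    · intro R hR hne _ E' hE'
      have hp' : IsPGroup p (⊤ : Subgroup (S' ⧸ R.subgroupOf S')) :=
        (hpS'.to_quotient _).to_subgroup _
      refine Cfsg.Agent.Lib.helper88.core_ne_bot_of_chain hpS' D hDsat
        (fun i => imageAlong θ (Tc i)) ?_ ?_ ?_ ?_ hR hne hp' _ E' hE'
      · show imageAlong θ (Tc 0) = ⊥
        rw [hT0, eq_bot_iff]
        rintro _ ⟨s, hs, rfl⟩
        have h1 : (s : Ω) ∈ (⊥ : Subgroup Ω) := Subgroup.mem_subgroupOf.mp hs
        have hs1 : s = 1 := Subtype.ext (Subgroup.mem_bot.mp h1)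
        rw [hs1, map_one]
        exact Subgroup.one_mem _
      · show imageAlong θ (Tc (Fin.last n)) = S'
        rw [hTl, ← hrange]
        ext y
        constructor
        · rintro ⟨s, -, rfl⟩
          exact ⟨s, rfl⟩
        · rintro ⟨s, rfl⟩
          exact ⟨s, Subgroup.mem_subgroupOf.mpr s.2, rfl⟩
      · intro i
        exact Cfsg.Agent.Lib.helper88.stronglyClosed_imageAlong F θ D hD (hTsc' i)
      · intro i
        show ⁅imageAlong θ (Tc i.succ), imageAlong θ (Tc i.succ)⁆ ≤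
          imageAlong θ (Tc (Fin.castSucc i))
        rw [Subgroup.commutator_le]
        rintro _ ⟨a, ha, rfl⟩ _ ⟨b, hb, rfl⟩
        refine ⟨⁅a, b⁆, ?_, map_commutatorElement θ a b⟩
        rw [SetLike.mem_coe, Subgroup.mem_subgroupOf]
        exact hTc i (Subgroup.commutator_mem_commutator (Subgroup.mem_subgroupOf.mp ha)
          (Subgroup.mem_subgroupOf.mp hb))
  · rintro ⟨hEs, hDs⟩
    obtain ⟨m, U, hU0, hUl, -, hUsc, hUc⟩ := Cfsg.Agent.Lib.helper88.exists_chain_from hpT E hEsat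
      hEs _ ⊥ (Cfsg.Agent.Lib.helper88.stronglyClosed_bot E) rfl
    obtain ⟨k, V, hV0, hVl, -, hVsc, hVc⟩ := Cfsg.Agent.Lib.helper88.exists_chain_from hpS' D
      hDsat hDs _ ⊥ (Cfsg.Agent.Lib.helper88.stronglyClosed_bot D) rfl
    have hstep : ∀ X : Subgroup Ω, F.StronglyClosed X → X ≠ ⊥ →
        ∃ X' : Subgroup Ω, F.StronglyClosed X' ∧ X' < X ∧ ⁅X, X⁆ ≤ X' := by
      intro X hX hX0
      by_cases hXT : X ≤ T
      · obtain ⟨𝓡, h𝓡⟩ : ∃ 𝓡 : Set (Subgroup Ω),
            𝓡 = {R | E.StronglyClosed R ∧ ⁅X, X⁆ ≤ R} := ⟨_, rfl⟩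
        have hmem𝓡 : ∀ R, R ∈ 𝓡 ↔ (E.StronglyClosed R ∧ ⁅X, X⁆ ≤ R) := by
          intro R
          rw [h𝓡]
          rfl
        have hXE : E.StronglyClosed X := ⟨hXT, fun R hR φ hφ x => hX.2 R hR φ (hsub R hφ) x⟩
        have hXmem : X ∈ 𝓡 := (hmem𝓡 X).mpr ⟨hXE, comm_le_self X⟩
        have hX'E : E.StronglyClosed (sInf 𝓡) := by
          refine ⟨(sInf_le hXmem).trans hXT, fun R hR φ hφ x => ?_⟩
          rw [Subgroup.mem_sInf]
          intro R' hR'
          exact ((hmem𝓡 R').mp hR').1.2 R (hR.trans (sInf_le hR')) φ hφ x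
        have hfam : ∀ β ∈ F.autGroup T, ∀ R ∈ 𝓡,
            (R.subgroupOf T).map (T.subtype.comp β.toMonoidHom) ∈ 𝓡 := by
          intro β hβ R hR
          have hR' := (hmem𝓡 R).mp hR
          have hβinv : β⁻¹ ∈ F.autGroup T := (F.autGroup T).inv_mem hβ
          rw [hmem𝓡]
          constructor
          · refine ⟨?_, ?_⟩
            · rintro _ ⟨t, -, rfl⟩
              exact (β t).2
            · intro P hP φ hφ x
              have hPT : P ≤ T := Cfsg.Agent.Lib.helper89.le_of_hom E hφ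
              obtain ⟨χ, hχ, hχeq⟩ := hinv P hPT φ hφ β⁻¹ hβinv
              have hφx : φ x ∈ T := Cfsg.Agent.Lib.helper89.range_le_of_hom E hφ ⟨x, rfl⟩
              have hαx : ((β⁻¹ ⟨x, hPT x.2⟩ : T) : Ω) ∈
                  (P.subgroupOf T).map (T.subtype.comp (β⁻¹).toMonoidHom) :=
                ⟨⟨x, hPT x.2⟩, Subgroup.mem_subgroupOf.mpr x.2, rfl⟩
              have h1 := hχeq x hφx hαx
              have hle : (P.subgroupOf T).map (T.subtype.comp (β⁻¹).toMonoidHom) ≤ R := by
                rintro _ ⟨t, ht, rfl⟩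
                have htP : (t : Ω) ∈ P := Subgroup.mem_subgroupOf.mp ht
                obtain ⟨r, hr, hrt⟩ := hP htP
                have h2 : β r = t := Subtype.ext hrt
                show ((β⁻¹ t : T) : Ω) ∈ R
                rw [← h2, MulAut.inv_apply_self]
                exact Subgroup.mem_subgroupOf.mp hr
              have h4 := hR'.1.2 _ hle χ hχ ⟨_, hαx⟩
              rw [h1] at h4
              refine ⟨β⁻¹ ⟨φ x, hφx⟩, Subgroup.mem_subgroupOf.mpr h4, ?_⟩
              show ((β (β⁻¹ ⟨φ x, hφx⟩) : T) : Ω) = φ x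
              rw [MulAut.apply_inv_self]
          · rw [Subgroup.commutator_le]
            intro a ha b hb
            have hβiF : T.subtype.comp (β⁻¹).toMonoidHom ∈ F.Hom T :=
              (Cfsg.Agent.Lib.helper89.mem_autGroup_iff F hTS β⁻¹).mp hβinv
            have hres := Cfsg.Agent.Lib.helper88.restrict_mem F hXT hβiF
            have ha' := hX.2 X le_rfl _ hres ⟨a, ha⟩
            have hb' := hX.2 X le_rfl _ hres ⟨b, hb⟩
            have hc : ((β⁻¹ ⁅(⟨a, hXT ha⟩ : T), ⟨b, hXT hb⟩⁆ : T) : Ω) ∈ R := by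
              rw [map_commutatorElement]
              exact hR'.2 (Subgroup.commutator_mem_commutator ha' hb')
            refine ⟨β⁻¹ ⁅(⟨a, hXT ha⟩ : T), ⟨b, hXT hb⟩⁆, Subgroup.mem_subgroupOf.mpr hc, ?_⟩
            show ((β (β⁻¹ ⁅(⟨a, hXT ha⟩ : T), ⟨b, hXT hb⟩⁆) : T) : Ω) = ⁅a, b⁆
            rw [MulAut.apply_inv_self]
            rfl
        have hX'F : F.StronglyClosed (sInf 𝓡) := by
          refine ⟨hX'E.1.trans hTS, fun P hP φ hφ x => ?_⟩
          have hPT : P ≤ T := hP.trans hX'E.1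
          obtain ⟨α, hα, φ₀, hφ₀, heq⟩ := hfrat P hPT φ hφ
          have hφ₀x : φ₀ x ∈ T := Cfsg.Agent.Lib.helper89.range_le_of_hom E hφ₀ ⟨x, rfl⟩
          rw [heq x hφ₀x]
          have hy : φ₀ x ∈ sInf 𝓡 := hX'E.2 P hP φ₀ hφ₀ x
          rw [Subgroup.mem_sInf]
          intro R hR
          have h1 := hfam α⁻¹ ((F.autGroup T).inv_mem hα) R hR
          have h2 : φ₀ x ∈ (R.subgroupOf T).map (T.subtype.comp (α⁻¹).toMonoidHom) :=
            (Subgroup.mem_sInf.mp hy) _ h1
          obtain ⟨r, hr, hrx⟩ := h2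
          have h3 : α⁻¹ r = ⟨φ₀ x, hφ₀x⟩ := Subtype.ext hrx
          have h4 : α ⟨φ₀ x, hφ₀x⟩ = r := by rw [← h3, MulAut.apply_inv_self]
          rw [h4]
          exact Subgroup.mem_subgroupOf.mp hr
        obtain ⟨j, hj1, hj2⟩ := exists_jump U X
          (by rw [hU0]; intro h; exact hX0 (le_bot_iff.mp h)) (by rw [hUl]; exact hXT)
        have hR₀ : X ⊓ U (Fin.castSucc j) ∈ 𝓡 := by
          rw [hmem𝓡]
          refine ⟨sc_inf E hXE (hUsc _), le_inf (comm_le_self X) ?_⟩
          exact (Subgroup.commutator_mono hj2 hj2).trans (hUc j)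
        refine ⟨sInf 𝓡, hX'F, ?_, le_sInf (fun R hR => ((hmem𝓡 R).mp hR).2)⟩
        refine lt_of_le_of_ne (sInf_le hXmem) (fun heq => hj1 ?_)
        have h5 : sInf 𝓡 ≤ X ⊓ U (Fin.castSucc j) := sInf_le hR₀
        rw [heq] at h5
        exact h5.trans inf_le_right
      · obtain ⟨j, hj1, hj2⟩ := exists_jump (fun i => preimageAlong θ (V i)) X
          (by
            intro h
            apply hXT
            intro x hx
            obtain ⟨hxS, hxV⟩ := (Cfsg.Agent.Lib.helper87.mem_preimageAlong θ _ x).mp (h hx)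
            rw [hV0, Subgroup.mem_bot] at hxV
            exact (hker _).mp hxV)
          (by
            intro x hx
            rw [Cfsg.Agent.Lib.helper87.mem_preimageAlong]
            refine ⟨hX.1 hx, ?_⟩
            rw [hVl, ← hrange]
            exact ⟨_, rfl⟩)
        refine ⟨X ⊓ preimageAlong θ (V (Fin.castSucc j)), sc_inf F hX
          (Cfsg.Agent.Lib.helper88.stronglyClosed_preimageAlong hS F hF hTsc θ D hD (hVsc _)),
          ?_, ?_⟩
        · exact lt_of_le_of_ne inf_le_left (fun heq => hj1 (inf_eq_left.mp heq))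
        · refine le_inf (comm_le_self X) ?_
          rw [Subgroup.commutator_le]
          intro a ha b hb
          obtain ⟨haS, haV⟩ := (Cfsg.Agent.Lib.helper87.mem_preimageAlong θ _ a).mp (hj2 ha)
          obtain ⟨hbS, hbV⟩ := (Cfsg.Agent.Lib.helper87.mem_preimageAlong θ _ b).mp (hj2 hb)
          rw [Cfsg.Agent.Lib.helper87.mem_preimageAlong]
          have hmem : ⁅a, b⁆ ∈ S :=
            S.mul_mem (S.mul_mem (S.mul_mem haS hbS) (S.inv_mem haS)) (S.inv_mem hbS)
          refine ⟨hmem, ?_⟩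
          have h1 : (⟨⁅a, b⁆, hmem⟩ : S) = ⁅(⟨a, haS⟩ : S), ⟨b, hbS⟩⁆ := rfl
          rw [h1, map_commutatorElement]
          exact hVc j (Subgroup.commutator_mem_commutator haV hbV)
    obtain ⟨n, Tc, hT0, hTl, hTsc', hTc⟩ := chain_of_step F hstep _ S
      ⟨le_rfl, fun R hR φ hφ x => Cfsg.Agent.Lib.helper89.range_le_of_hom F hφ ⟨x, rfl⟩⟩ rfl
    intro R hR hne _ E' hE'
    have hp' : IsPGroup p (⊤ : Subgroup (S ⧸ R.subgroupOf S)) :=
      (hS.to_quotient _).to_subgroup _
    exact Cfsg.Agent.Lib.helper88.core_ne_bot_of_chain hS F hF Tc hT0 hTl hTsc' hTc hR hne hp' _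
      E' hE'

end Cfsg.Agent.S5159
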