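import Cfsg.Statements.S5135
import Cfsg.Agent.Lib.helper87.Factor
import Cfsg.Agent.Lib.helper87.SylowIn2

set_option autoImplicit false
open Cfsg

namespace Cfsg.Agent.S5135

/-- Let G be a finite group, S a Sylow p-subgroup and H a normal subgroup of G. Then the fusion system of G/H on the image SH/H of S is the factor system of the fusion system of G on S modulo S ∩ H, read through the quotient map restricted to S: for each subgroup P' of SH/H, the conjugation maps by elements of G/H defined on P' with values in SH/H are exactly the homomorphisms induced by the conjugation maps by elements of G defined on the full preimage of P' in S with values in S. -/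
theorem result {G : Type*} [Group G] [Finite G] (p : ℕ) [Fact p.Prime] (S : Sylow p G) (H : Subgroup G) [H.Normal] : (Cfsg.groupFusionSystem (S : Subgroup G)).IsFactorSystem ((S : Subgroup G) ⊓ H) ((QuotientGroup.mk' H).comp (S : Subgroup G).subtype) (Cfsg.groupFusionSystem ((S : Subgroup G).map (QuotientGroup.mk' H))) := by
  have hSp : IsPGroup p (S : Subgroup G) := S.isPGroup'
  have hθ : ∀ s : (S : Subgroup G), ((QuotientGroup.mk' H).comp (S : Subgroup G).subtype) s =
      QuotientGroup.mk' H (s : G) := fun s => rfl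
  have hrange : ((QuotientGroup.mk' H).comp (S : Subgroup G).subtype).range =
      (S : Subgroup G).map (QuotientGroup.mk' H) := by
    ext y
    constructor
    · rintro ⟨s, rfl⟩
      exact ⟨s, s.2, rfl⟩
    · rintro ⟨s, hs, rfl⟩
      exact ⟨⟨s, hs⟩, rfl⟩
  refine ⟨inf_le_left, fun s => ?_, hrange, fun P' φ' => ?_⟩
  · rw [hθ, QuotientGroup.mk'_apply, QuotientGroup.eq_one_iff]
    exact ⟨fun h => ⟨s.2, h⟩, fun h => h.2⟩
  · constructor
    · rintro ⟨hP', hφ'S, g', hg'⟩
      refine ⟨hP', ?_⟩
      obtain ⟨g, rfl⟩ := QuotientGroup.mk'_surjective H g'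
      have hPS := Cfsg.Agent.Lib.helper87.preimageAlong_le
        ((QuotientGroup.mk' H).comp (S : Subgroup G).subtype) P'
      have hPP' := Cfsg.Agent.Lib.helper87.preimageAlong_map_mem
        ((QuotientGroup.mk' H).comp (S : Subgroup G).subtype) P'
      -- g P g⁻¹ ≤ S ⊔ H
      have hle : (Cfsg.FusionSystem.preimageAlong ((QuotientGroup.mk' H).comp (S : Subgroup G).subtype) P').map
          (MulAut.conj g).toMonoidHom ≤ (S : Subgroup G) ⊔ H := by
        rintro _ ⟨x, hx, rfl⟩
        have h1 := hφ'S ⟨_, hPP' ⟨x, hx⟩⟩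
        rw [hg'] at h1
        obtain ⟨s, hs, hs'⟩ := h1
        have h2 : QuotientGroup.mk' H s = QuotientGroup.mk' H (g * x * g⁻¹) := by
          rw [hs']
          show QuotientGroup.mk' H g * QuotientGroup.mk' H x * (QuotientGroup.mk' H g)⁻¹ = _
          rw [← map_inv, ← map_mul, ← map_mul]
        have h3 : s⁻¹ * (g * x * g⁻¹) ∈ H := QuotientGroup.eq.mp h2
        have h4 : (MulAut.conj g).toMonoidHom x = s * (s⁻¹ * (g * x * g⁻¹)) := by
          show g * x * g⁻¹ = _
          group
        rw [h4]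
        exact Subgroup.mul_mem _ (Subgroup.mem_sup_left hs) (Subgroup.mem_sup_right h3)
      have hSyl : ∃ R : Sylow p ↥((S : Subgroup G) ⊔ H),
          (R : Subgroup ↥((S : Subgroup G) ⊔ H)) = (S : Subgroup G).subgroupOf ((S : Subgroup G) ⊔ H) :=
        ⟨S.subtype le_sup_left, Sylow.coe_subtype _ _⟩
      obtain ⟨n, hn, hn'⟩ := Cfsg.Agent.Lib.helper87.exists_conj_le_of_sylowIn hSyl hle
        ((hSp.to_le hPS).map _)
      have hn2 : n ∈ (((S : Subgroup G) ⊔ H : Subgroup G) : Set G) := hn
      rw [Subgroup.mul_normal] at hn2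
      obtain ⟨s, hs, h, hh, rfl⟩ := hn2
      have hs' : s ∈ (S : Subgroup G) := hs
      have hh' : h ∈ H := hh
      have hval : ∀ x : ↥(Cfsg.FusionSystem.preimageAlong ((QuotientGroup.mk' H).comp (S : Subgroup G).subtype) P'),
          (h * g) * (x : G) * (h * g)⁻¹ ∈ (S : Subgroup G) := by
        intro x
        have h1 : (MulAut.conj (s * h)).toMonoidHom ((MulAut.conj g).toMonoidHom (x : G)) ∈ (S : Subgroup G) :=
          hn' ⟨_, ⟨x, x.2, rfl⟩, rfl⟩
        have h2 : (h * g) * (x : G) * (h * g)⁻¹ =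
            s⁻¹ * ((MulAut.conj (s * h)).toMonoidHom ((MulAut.conj g).toMonoidHom (x : G))) * s := by
          show _ = s⁻¹ * (s * h * (g * x * g⁻¹) * (s * h)⁻¹) * s
          group
        rw [h2]
        exact Subgroup.mul_mem _ (Subgroup.mul_mem _ (Subgroup.inv_mem _ hs') h1) hs'
      refine ⟨Cfsg.conjHom _ (h * g), ⟨hPS, hval, h * g, fun x => rfl⟩, hPS, hval, hPP', fun x => ?_⟩
      rw [hg']
      show QuotientGroup.mk' H g * QuotientGroup.mk' H (x : G) * (QuotientGroup.mk' H g)⁻¹ =
        QuotientGroup.mk' H ((h * g) * (x : G) * (h * g)⁻¹)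
      have hh1 : QuotientGroup.mk' H h = 1 := by
        rw [QuotientGroup.mk'_apply, QuotientGroup.eq_one_iff]
        exact hh'
      rw [map_mul, map_mul, map_inv, map_mul, hh1, one_mul]
    · rintro ⟨hP', φ, ⟨hPS, hφS, g, hg⟩, hP, hφS', hPP', hind⟩
      have key : ∀ x' : P', ∃ x : ↥(Cfsg.FusionSystem.preimageAlong
          ((QuotientGroup.mk' H).comp (S : Subgroup G).subtype) P'),
          QuotientGroup.mk' H (x : G) = (x' : G ⧸ H) ∧ φ' x' = QuotientGroup.mk' H (φ x) := by
        intro x'
        obtain ⟨s, hs, hs'⟩ := hP' x'.2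
        have hsP : s ∈ Cfsg.FusionSystem.preimageAlong ((QuotientGroup.mk' H).comp (S : Subgroup G).subtype) P' := by
          rw [Cfsg.Agent.Lib.helper87.mem_preimageAlong]
          refine ⟨hs, ?_⟩
          rw [hθ]
          show QuotientGroup.mk' H s ∈ P'
          rw [hs']
          exact x'.2
        refine ⟨⟨s, hsP⟩, hs', ?_⟩
        have h1 := hind ⟨s, hsP⟩
        have h2 : (⟨((QuotientGroup.mk' H).comp (S : Subgroup G).subtype) ⟨s, hP hsP⟩, hPP' ⟨s, hsP⟩⟩ : P') = x' :=
          Subtype.ext hs'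
        rw [h2] at h1
        rw [h1]
        rfl
      refine ⟨hP', fun x' => ?_, QuotientGroup.mk' H g, fun x' => ?_⟩
      · obtain ⟨x, -, hx⟩ := key x'
        rw [hx]
        exact ⟨_, hφS x, rfl⟩
      · obtain ⟨x, hx1, hx⟩ := key x'
        rw [hx, hg, ← hx1, map_mul, map_mul, map_inv]

end Cfsg.Agent.S5135
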