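import Cfsg.Statements.S0432

set_option autoImplicit false
open Cfsg

namespace Cfsg.Agent.S0432

open scoped Pointwise in
/-- Coordinate permutations from the code's group preserve the generating set of the lattice. -/
theorem perm_mem_leechSet (σ : Equiv.Perm Cfsg.GolayPt) (hσ : σ ∈ Cfsg.M24) (x : Cfsg.GolayPt → ℤ)
    (hx : x ∈ Cfsg.leechSet) : (fun i => x (σ i)) ∈ Cfsg.leechSet := by
  obtain ⟨m, h1, h2, h3⟩ := hx
  refine ⟨m, fun i => h1 (σ i), ?_, fun k => ?_⟩
  · rw [Equiv.sum_comp σ x]; exact h2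
  · have hσ' : σ⁻¹ • Cfsg.supports (Cfsg.golayCode : Set (Cfsg.GolayPt → ZMod 2))
        = Cfsg.supports (Cfsg.golayCode : Set (Cfsg.GolayPt → ZMod 2)) :=
      MulAction.mem_stabilizer_iff.mp (inv_mem hσ)
    have h4 := Set.smul_mem_smul_set (a := σ⁻¹) (h3 k)
    rw [hσ'] at h4
    convert h4 using 1
    ext i
    simp only [Finset.mem_filter, Finset.mem_univ, true_and, Finset.mem_inv_smul_finset_iff,
      Equiv.Perm.smul_def]

/-- Coordinate permutations from the code's group preserve the lattice. -/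
theorem result (σ : Equiv.Perm Cfsg.GolayPt) (hσ : σ ∈ Cfsg.M24) (x : Cfsg.GolayPt → ℤ) (hx : x ∈ Cfsg.leechLattice) : (fun i => x (σ i)) ∈ Cfsg.leechLattice := by
  induction hx using AddSubgroup.closure_induction with
  | mem y hy => exact AddSubgroup.subset_closure (perm_mem_leechSet σ hσ y hy)
  | zero => exact Cfsg.leechLattice.zero_mem
  | add y z _ _ hy hz => exact Cfsg.leechLattice.add_mem hy hz
  | neg y _ hy => exact Cfsg.leechLattice.neg_mem hy

end Cfsg.Agent.S0432
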