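import Cfsg.Statements.S0433
import Cfsg.Agent.Lib.helper10.GolayParity

set_option autoImplicit false
open Cfsg

namespace Cfsg.Agent.S0433

open Cfsg.Agent.Lib.helper10 in
/-- Sign changes on the support of a code word preserve the generating set of the lattice. -/
theorem sign_mem_leechSet (c : Finset Cfsg.GolayPt)
    (hc : c ∈ Cfsg.supports (Cfsg.golayCode : Set (Cfsg.GolayPt → ZMod 2)))
    (x : Cfsg.GolayPt → ℤ) (hx : x ∈ Cfsg.leechSet) :
    (fun i => if i ∈ c then -x i else x i) ∈ Cfsg.leechSet := by
  obtain ⟨m, h1, h2, h3⟩ := hx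
  have h1' : ∀ i, x i % 2 = m % 2 := h1
  refine ⟨m, ?_, ?_, ?_⟩
  · intro i
    show (if i ∈ c then -x i else x i) % 2 = m % 2
    have := h1' i
    split_ifs <;> omega
  · -- the sum over `c` vanishes modulo four
    have hsum : ∑ i, (if i ∈ c then -x i else x i) = ∑ i, x i - 2 * ∑ i ∈ c, x i := by
      have h4 : ∑ i ∈ c, x i = ∑ i, (if i ∈ c then x i else 0) := by
        rw [Finset.sum_ite_mem, Finset.univ_inter]
      rw [h4, Finset.mul_sum, ← Finset.sum_sub_distrib]
      apply Finset.sum_congr rfl
      intro i _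
      split_ifs <;> ring
    have hc4 : ∑ i ∈ c, x i ≡ 0 [ZMOD 4] := by
      have h5 : ∑ i ∈ c, x i ≡ ∑ i ∈ c, (m + 2 * (if x i ≡ m + 2 [ZMOD 4] then 1 else 0)) [ZMOD 4] := by
        apply Int.ModEq.sum
        intro i _
        have := h1' i
        show x i % 4 = (m + 2 * (if x i ≡ m + 2 [ZMOD 4] then 1 else 0)) % 4
        split_ifs with h6
        · have h6' : x i % 4 = (m + 2) % 4 := h6
          omega
        · have h6' : ¬ x i % 4 = (m + 2) % 4 := h6
          omega
      have h6 : ∑ i ∈ c, (m + 2 * (if x i ≡ m + 2 [ZMOD 4] then (1 : ℤ) else 0))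
          = (c.card : ℤ) * m + 2 * ((c ∩ Finset.univ.filter fun i => x i ≡ m + 2 [ZMOD 4]).card : ℤ) := by
        have hf : (c.filter fun i => x i ≡ m + 2 [ZMOD 4])
            = c ∩ Finset.univ.filter fun i => x i ≡ m + 2 [ZMOD 4] := by
          ext i
          simp
        rw [Finset.sum_add_distrib, Finset.sum_const, ← Finset.mul_sum, Finset.sum_boole,
          nsmul_eq_mul, hf]
      rw [h6] at h5
      obtain ⟨a, ha⟩ := supports_four_dvd hc
      obtain ⟨b, hb⟩ := supports_even_inter hc (h3 (m + 2))
      rw [ha, hb] at h5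
      have h7 : ((4 * a : ℕ) : ℤ) * m + 2 * ((b + b : ℕ) : ℤ) ≡ 0 [ZMOD 4] := by
        show (((4 * a : ℕ) : ℤ) * m + 2 * ((b + b : ℕ) : ℤ)) % 4 = 0 % 4
        push_cast
        have : (4 * (a : ℤ) * m + 2 * ((b : ℤ) + b)) = 4 * (a * m + b) := by ring
        rw [this]
        simp
      exact h5.trans h7
    rw [hsum]
    have h8 : (∑ i ∈ c, x i) % 4 = 0 := hc4
    have h9 : (∑ i, x i) % 8 = (4 * m) % 8 := h2
    show (∑ i, x i - 2 * ∑ i ∈ c, x i) % 8 = (4 * m) % 8
    omega
  · intro k
    by_cases hcase : m % 2 = 1 ∧ k % 2 = 1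
    · -- odd case: the set is the symmetric difference with `c`
      have hset : (Finset.univ.filter fun i => (if i ∈ c then -x i else x i) ≡ k [ZMOD 4])
          = symmDiff (Finset.univ.filter fun i => x i ≡ k [ZMOD 4]) c := by
        ext i
        rw [Finset.mem_symmDiff]
        simp only [Finset.mem_filter, Finset.mem_univ, true_and]
        have := h1' i
        by_cases hi : i ∈ c
        · simp only [hi, if_true, not_true, and_false, true_and, false_or]
          show (-x i) % 4 = k % 4 ↔ ¬ (x i % 4 = k % 4)
          omega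
        · simp only [hi, if_false, not_false_iff, and_true, false_and, or_false]
      rw [hset]
      exact supports_symmDiff (h3 k) hc
    · have hset : (Finset.univ.filter fun i => (if i ∈ c then -x i else x i) ≡ k [ZMOD 4])
          = (Finset.univ.filter fun i => x i ≡ k [ZMOD 4]) := by
        ext i
        simp only [Finset.mem_filter, Finset.mem_univ, true_and]
        have := h1' i
        by_cases hi : i ∈ c
        · simp only [hi, if_true]
          show (-x i) % 4 = k % 4 ↔ x i % 4 = k % 4
          omega
        · simp only [hi, if_false]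
      rw [hset]
      exact h3 k

/-- Sign changes on the support of a codeword preserve the lattice. -/
theorem result (c : Finset Cfsg.GolayPt) (hc : c ∈ Cfsg.supports (Cfsg.golayCode : Set (Cfsg.GolayPt → ZMod 2))) (x : Cfsg.GolayPt → ℤ) (hx : x ∈ Cfsg.leechLattice) : (fun i => if i ∈ c then -x i else x i) ∈ Cfsg.leechLattice := by
  induction hx using AddSubgroup.closure_induction with
  | mem y hy => exact AddSubgroup.subset_closure (sign_mem_leechSet c hc y hy)
  | zero =>
    have h0 : (fun i => if i ∈ c then -(0 : Cfsg.GolayPt → ℤ) i else (0 : Cfsg.GolayPt → ℤ) i)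
        = 0 := by
      funext i
      simp
    rw [h0]
    exact Cfsg.leechLattice.zero_mem
  | add y z _ _ hy hz =>
    have h0 : (fun i => if i ∈ c then -(y + z) i else (y + z) i)
        = (fun i => if i ∈ c then -y i else y i) + (fun i => if i ∈ c then -z i else z i) := by
      funext i
      by_cases hi : i ∈ c <;> simp [hi, add_comm]
    rw [h0]
    exact Cfsg.leechLattice.add_mem hy hz
  | neg y _ hy =>
    have h0 : (fun i => if i ∈ c then -(-y) i else (-y) i)
        = -(fun i => if i ∈ c then -y i else y i) := by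
      funext i
      by_cases hi : i ∈ c <;> simp [hi]
    rw [h0]
    exact Cfsg.leechLattice.neg_mem hy

end Cfsg.Agent.S0433
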