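import Cfsg.Statements.S1587
import Mathlib

set_option autoImplicit false
open Cfsg

namespace Cfsg.Agent.S1587

open Matrix

theorem bsymm (B : Matrix (Fin 24) (Fin 24) ℤ) (hsymm : B.IsSymm) (u v : Fin 24 → ℤ) :
    u ⬝ᵥ (B *ᵥ v) = v ⬝ᵥ (B *ᵥ u) := by
  rw [Matrix.dotProduct_mulVec, ← Matrix.mulVec_transpose, hsymm.eq, dotProduct_comm]

/-- First step of the characterisation of the rank-24 lattice: in an even lattice without roots, norm-8 vectors congruent modulo 2 are equal, opposite or orthogonal. -/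
theorem result (B : Matrix (Fin 24) (Fin 24) ℤ) (hsymm : B.IsSymm) (hpos : ∀ x : Fin 24 → ℤ, x ≠ 0 → 0 < x ⬝ᵥ (B *ᵥ x)) (heven : ∀ x : Fin 24 → ℤ, (2 : ℤ) ∣ x ⬝ᵥ (B *ᵥ x)) (h2 : ∀ x : Fin 24 → ℤ, x ⬝ᵥ (B *ᵥ x) ≠ 2) (x y : Fin 24 → ℤ) (hx : x ⬝ᵥ (B *ᵥ x) = 8) (hy : y ⬝ᵥ (B *ᵥ y) = 8) (hc : ∀ i, (2 : ℤ) ∣ (x - y) i) : y = x ∨ y = -x ∨ x ⬝ᵥ (B *ᵥ y) = 0 := by
  choose z hz using hc
  have hxz : x = y + (2 : ℤ) • z := by
    funext i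
    have := hz i
    simp only [Pi.sub_apply] at this
    simp only [Pi.add_apply, Pi.smul_apply, smul_eq_mul]
    linarith
  have hyz : y ⬝ᵥ (B *ᵥ z) = z ⬝ᵥ (B *ᵥ y) := bsymm B hsymm y z
  -- expand q(x)
  have e1 : x ⬝ᵥ (B *ᵥ x) = y ⬝ᵥ (B *ᵥ y) + 4 * (z ⬝ᵥ (B *ᵥ y)) + 4 * (z ⬝ᵥ (B *ᵥ z)) := by
    rw [hxz]
    simp only [Matrix.mulVec_add, Matrix.mulVec_smul, dotProduct_add, add_dotProduct,
      dotProduct_smul, smul_dotProduct, smul_eq_mul, hyz]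
    ring
  have e2 : x ⬝ᵥ (B *ᵥ y) = y ⬝ᵥ (B *ᵥ y) + 2 * (z ⬝ᵥ (B *ᵥ y)) := by
    rw [hxz]
    simp only [add_dotProduct, smul_dotProduct, smul_eq_mul]
  have e3 : (y + z) ⬝ᵥ (B *ᵥ (y + z)) = y ⬝ᵥ (B *ᵥ y) + 2 * (z ⬝ᵥ (B *ᵥ y)) + z ⬝ᵥ (B *ᵥ z) := by
    simp only [Matrix.mulVec_add, dotProduct_add, add_dotProduct, hyz]
    ring
  have hzy : z ⬝ᵥ (B *ᵥ y) = - (z ⬝ᵥ (B *ᵥ z)) := by linarith
  have hw : (y + z) ⬝ᵥ (B *ᵥ (y + z)) = 8 - z ⬝ᵥ (B *ᵥ z) := by rw [e3, hy, hzy]; ring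
  have hxy : x ⬝ᵥ (B *ᵥ y) = 8 - 2 * (z ⬝ᵥ (B *ᵥ z)) := by rw [e2, hy, hzy]; ring
  -- nonnegativity
  have hnn : ∀ v : Fin 24 → ℤ, 0 ≤ v ⬝ᵥ (B *ᵥ v) := by
    intro v
    by_cases hv : v = 0
    · subst hv; simp
    · exact (hpos v hv).le
  have hz0 := hnn z
  have hw0 := hnn (y + z)
  obtain ⟨a, ha⟩ := heven z
  have hz2 := h2 z
  have hw2 := h2 (y + z)
  rw [hw] at hw0 hw2
  -- q(z) ∈ {0,4,8}
  have hcases : z ⬝ᵥ (B *ᵥ z) = 0 ∨ z ⬝ᵥ (B *ᵥ z) = 4 ∨ z ⬝ᵥ (B *ᵥ z) = 8 := by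
    rw [ha] at hz0 hz2 hw0 hw2 ⊢
    have h0 : 0 ≤ a := by omega
    have h4 : a ≤ 4 := by omega
    interval_cases a <;> simp_all
  rcases hcases with h | h | h
  · left
    have hz' : z = 0 := by
      by_contra hne
      have := hpos z hne
      omega
    rw [hxz, hz']; simp
  · right; right
    rw [hxy, h]; norm_num
  · right; left
    have hw' : y + z = 0 := by
      by_contra hne
      have := hpos (y + z) hne
      rw [hw, h] at this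
      omega
    have hz' : z = -y := by
      rw [add_comm] at hw'
      exact eq_neg_of_add_eq_zero_left hw'
    rw [hxz, hz']
    funext i
    simp only [Pi.add_apply, Pi.smul_apply, Pi.neg_apply, smul_eq_mul]
    ring

end Cfsg.Agent.S1587
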