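import Cfsg.Statements.S1588
import Cfsg.Agent.Lib.helper93.Pigeon

set_option autoImplicit false
open Matrix
open Cfsg

namespace Cfsg.Agent.S1588

open Cfsg.Agent.Lib.helper93 Matrix

/-- `x - y` is twice a vector iff all its coordinates are even -/
theorem two_smul_iff (x y : Fin 24 → ℤ) :
    (∃ z ∈ (⊤ : AddSubgroup (Fin 24 → ℤ)), x - y = 2 • z) ↔ ∀ i, (2 : ℤ) ∣ (x - y) i := by
  constructor
  · rintro ⟨z, _, h⟩ i
    rw [h]
    simp only [Pi.smul_apply, nsmul_eq_mul, Nat.cast_ofNat]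
    exact dvd_mul_right 2 (z i)
  · intro h
    refine ⟨fun i => (x - y) i / 2, AddSubgroup.mem_top _, ?_⟩
    funext i
    simp only [Pi.smul_apply, nsmul_eq_mul, Nat.cast_ofNat]
    have := h i
    omega

/-- reduction modulo 2 -/
def red (x : Fin 24 → ℤ) : Fin 24 → ZMod 2 := fun i => ((x i : ℤ) : ZMod 2)

theorem red_eq_iff (x y : Fin 24 → ℤ) :
    red x = red y ↔ ∃ z ∈ (⊤ : AddSubgroup (Fin 24 → ℤ)), x - y = 2 • z := by
  rw [two_smul_iff]
  constructor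
  · intro h i
    have h1 := congrFun h i
    unfold red at h1
    rw [← sub_eq_zero, ← Int.cast_sub, ZMod.intCast_zmod_eq_zero_iff_dvd] at h1
    exact h1
  · intro h
    funext i
    unfold red
    rw [← sub_eq_zero, ← Int.cast_sub, ZMod.intCast_zmod_eq_zero_iff_dvd]
    exact h i


/-- Second step of the characterisation: under the vector counts of the rank-24 lattice, the norm-8 vectors fall into congruence classes of exactly 48 modulo twice the lattice. -/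
theorem result (B : Matrix (Fin 24) (Fin 24) ℤ) (hsymm : B.IsSymm) (hpos : ∀ x : Fin 24 → ℤ, x ≠ 0 → 0 < x ⬝ᵥ (B *ᵥ x)) (heven : ∀ x : Fin 24 → ℤ, (2 : ℤ) ∣ x ⬝ᵥ (B *ᵥ x)) (h2 : ∀ x : Fin 24 → ℤ, x ⬝ᵥ (B *ᵥ x) ≠ 2) (h4 : {x : Fin 24 → ℤ | x ⬝ᵥ (B *ᵥ x) = 4}.ncard = 196560) (h6 : {x : Fin 24 → ℤ | x ⬝ᵥ (B *ᵥ x) = 6}.ncard = 16773120) (h8 : {x : Fin 24 → ℤ | x ⬝ᵥ (B *ᵥ x) = 8}.ncard = 398034000) (x : Fin 24 → ℤ) (hx : x ⬝ᵥ (B *ᵥ x) = 8) : {y : Fin 24 → ℤ | y ⬝ᵥ (B *ᵥ y) = 8 ∧ ∀ i, (2 : ℤ) ∣ (x - y) i}.ncard = 48 := by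
  have hmin : ∀ y : Fin 24 → ℤ, y ≠ 0 → 4 ≤ bq B y := by
    intro y hy
    have h1 := hpos y hy
    obtain ⟨k, hk⟩ := heven y
    have h3 := h2 y
    unfold bq
    omega
  have h := pigeon B hsymm (by simp) (⊤ : AddSubgroup (Fin 24 → ℤ)) 4 (by norm_num)
    (fun y _ hy0 => hmin y hy0)
    (fun y _ hq => by
      by_cases hy0 : y = 0
      · exact Or.inl hy0
      · right
        have h1 := hmin y hy0
        obtain ⟨k, hk⟩ := heven y
        unfold bq at h1 hq ⊢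
        omega)
    (by
      have e : {x | x ∈ (⊤ : AddSubgroup (Fin 24 → ℤ)) ∧ bq B x = 4} =
          {x : Fin 24 → ℤ | x ⬝ᵥ (B *ᵥ x) = 4} := by
        ext y
        simp only [Set.mem_ofPred_eq, AddSubgroup.mem_top, true_and, bq]
      rw [e]; exact h4)
    (by
      have e : {x | x ∈ (⊤ : AddSubgroup (Fin 24 → ℤ)) ∧ 2 * bq B x = 3 * 4} =
          {x : Fin 24 → ℤ | x ⬝ᵥ (B *ᵥ x) = 6} := by
        ext y
        simp only [Set.mem_ofPred_eq, AddSubgroup.mem_top, true_and, bq]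
        constructor <;> intro h' <;> omega
      rw [e]; exact h6)
    (by
      have e : {x | x ∈ (⊤ : AddSubgroup (Fin 24 → ℤ)) ∧ bq B x = 2 * 4} =
          {x : Fin 24 → ℤ | x ⬝ᵥ (B *ᵥ x) = 8} := by
        ext y
        simp only [Set.mem_ofPred_eq, AddSubgroup.mem_top, true_and, bq]
        norm_num
      rw [e]; exact h8)
    (Q := Fin 24 → ZMod 2) (by rw [Nat.card_eq_fintype_card, Fintype.card_pi]; simp) red
    (fun x _ y _ => red_eq_iff x y)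
  have h' := h.2 x (AddSubgroup.mem_top x) (by unfold bq; rw [hx]; norm_num)
  have e : {y | y ∈ (⊤ : AddSubgroup (Fin 24 → ℤ)) ∧ bq B y = 2 * 4 ∧
      ∃ z ∈ (⊤ : AddSubgroup (Fin 24 → ℤ)), x - y = 2 • z} =
      {y : Fin 24 → ℤ | y ⬝ᵥ (B *ᵥ y) = 8 ∧ ∀ i, (2 : ℤ) ∣ (x - y) i} := by
    ext y
    simp only [Set.mem_ofPred_eq, AddSubgroup.mem_top, true_and, bq]
    rw [show (2 : ℤ) * 4 = 8 by norm_num]
    constructor
    · rintro ⟨h1, h2'⟩
      exact ⟨h1, (two_smul_iff x y).1 (by simpa using h2')⟩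
    · rintro ⟨h1, h2'⟩
      refine ⟨h1, ?_⟩
      have := (two_smul_iff x y).2 h2'
      simpa using this
  rw [e] at h'
  exact h'

end Cfsg.Agent.S1588
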