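import Cfsg.Statements.S5099
import Cfsg.Agent.Lib.helper89.LocalSat

set_option autoImplicit false
open Cfsg

namespace Cfsg.Agent.S5099

open Cfsg.FusionSystem Cfsg.Agent.Lib.helper89

/-- If F is a saturated fusion system over a finite p-group S and Q is fully centralized in F, then the centralizer system C_F(Q) is a saturated fusion system over C_S(Q). -/
theorem result {Ω : Type*} [Group Ω] {S : Subgroup Ω} [Finite S] (p : ℕ) [Fact p.Prime] (hS : IsPGroup p S) (F : Cfsg.FusionSystem S) (hF : F.IsSaturated p) (Q : Subgroup Ω) (hQ : F.IsFullyCentralized Q) (E : Cfsg.FusionSystem (Cfsg.FusionSystem.centralizerIn S Q)) (hE : F.IsCentralizerSystem Q E) : E.IsSaturated p := by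
  have hrecQ := Cfsg.Agent.Lib.helper88.receptive_of_fullyCentralized hS F hF hQ
  refine localSystem_saturated true hS F hF hQ.1 ?_ ?_ E ?_
  · intro g
    constructor
    · intro hg
      exact ⟨hg.1, (Cfsg.Agent.Lib.helper88.centralizerIn_le_normalizerIn S Q hg).2, fun _ => hg.2⟩
    · rintro ⟨h1, h2⟩
      exact ⟨h1, h2.2 rfl⟩
  · intro Q₁ σ hσ hσr
    have hle : centralizerIn S Q₁ ⊔ Q₁ ≤ extender S Q₁ σ := by
      refine sup_le ?_ (Cfsg.Agent.Lib.helper88.le_extender F hσ)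
      intro g hg
      rw [Cfsg.Agent.Lib.helper88.mem_extender_iff]
      refine ⟨hg.1, (Cfsg.Agent.Lib.helper88.centralizerIn_le_normalizerIn S Q₁ hg).2, 1,
        S.one_mem, fun x hx => ?_⟩
      have h0 : g * (x : Ω) * g⁻¹ = x := by
        have h1 := Subgroup.mem_centralizer_iff.mp hg.2 x x.2
        rw [← h1, mul_inv_cancel_right]
      have h2 : (⟨g * x * g⁻¹, hx⟩ : Q₁) = x := Subtype.ext h0
      rw [h2, one_mul, inv_one, mul_one]
    obtain ⟨ρ, hρ, hρext⟩ := exists_extension F hrecQ hσ hσr (centralizerIn S Q₁ ⊔ Q₁)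
      (fun g hg => (Cfsg.Agent.Lib.helper88.mem_extender_iff _ _ _ g).mp (hle hg))
    refine ⟨centralizerIn S Q₁ ⊔ Q₁, ρ, hρ, ?_, le_sup_right, ?_⟩
    · intro g hg
      exact Subgroup.mem_sup_left ⟨hg.1, hg.2.2 rfl⟩
    · intro x hx hY
      have h1 := hρext x hx hY
      refine ⟨?_, fun _ => h1⟩
      rw [h1, ← hσr]
      exact ⟨⟨x, hx⟩, rfl⟩
  · intro R φ
    rw [hE R]
    constructor
    · rintro ⟨h1, h2, h3, ψ, hψ, hψP, hψQ⟩
      refine ⟨h1, h2, h3, R ⊔ Q, ψ, hψ, le_sup_left, le_sup_right, fun x hx hR => hψP ⟨x, hx⟩,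
        fun q hq hR => ?_⟩
      have h4 : ψ ⟨q, hR⟩ = q := hψQ ⟨q, hq⟩
      exact ⟨by rw [h4]; exact hq, fun _ => h4⟩
    · rintro ⟨h1, h2, h3, R', ψ, hψ, hPR, hQR, hψP, hψQ⟩
      have hle : R ⊔ Q ≤ R' := sup_le hPR hQR
      exact ⟨h1, h2, h3, ψ.comp (Subgroup.inclusion hle),
        Cfsg.Agent.Lib.helper88.restrict_mem F hle hψ, fun x => hψP x x.2 (hPR x.2),
        fun x => (hψQ x x.2 (hQR x.2)).2 rfl⟩

end Cfsg.Agent.S5099
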