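import Cfsg.Statements.S5113
import Cfsg.Agent.Lib.helper89.PPow2
import Cfsg.Agent.Lib.helper3.PGroupFrattini
-- import your own Cfsg.Agent.* helpers here

set_option autoImplicit false
open Cfsg

namespace Cfsg.Agent.S5113

/-- transitivity of `p`-power index. -/
theorem pPowerIndex_trans {Ω : Type*} [Group Ω] {S M T : Subgroup Ω} {p : ℕ}
    {F : Cfsg.FusionSystem S} {E₁ : Cfsg.FusionSystem M} {E : Cfsg.FusionSystem T}
    (h₁ : E₁.HasPPowerIndexIn F p) (h₂ : E.HasPPowerIndexIn E₁ p)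
    (hT : F.hyperfocalSubgroup p ≤ T) (hTM : T ≤ M) : E.HasPPowerIndexIn F p := by
  refine ⟨fun P φ hφ => h₁.1 P (h₂.1 P hφ), hT, ?_⟩
  intro P hPT
  rw [Subgroup.map_le_iff_le_comap]
  unfold Cfsg.pResidual
  rw [Subgroup.closure_le]
  intro α hα
  show (α : MulAut P) ∈ E.autGroup P
  have h1 : (α : MulAut P) ∈ E₁.autGroup P :=
    h₁.2.2 P (hPT.trans hTM) ⟨α, Subgroup.subset_closure hα, rfl⟩
  have hα' : Nat.Coprime (orderOf α) p := hα
  have h2 : (⟨(α : MulAut P), h1⟩ : E₁.autGroup P) ∈ Cfsg.pResidual p (E₁.autGroup P) := by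
    apply Subgroup.subset_closure
    show Nat.Coprime (orderOf (⟨(α : MulAut P), h1⟩ : E₁.autGroup P)) p
    have e : orderOf (⟨(α : MulAut P), h1⟩ : E₁.autGroup P) = orderOf α := by
      rw [← Subgroup.orderOf_coe, ← Subgroup.orderOf_coe]
    rw [e]
    exact hα'
  exact h₂.2.2 P hPT ⟨⟨(α : MulAut P), h1⟩, h2, rfl⟩

/-- existence, by induction on the order of `S`. -/
theorem exists_sub {Ω : Type*} [Group Ω] (p : ℕ) [Fact p.Prime] :
    ∀ (n : ℕ) (S : Subgroup Ω) [Finite S], Nat.card S = n → IsPGroup p S →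
      ∀ (F : Cfsg.FusionSystem S), F.IsSaturated p → ∀ T : Subgroup Ω, T ≤ S →
        F.hyperfocalSubgroup p ≤ T →
          ∃ E : Cfsg.FusionSystem T, E.IsSaturated p ∧ E.HasPPowerIndexIn F p := by
  intro n
  induction n using Nat.strong_induction_on with
  | _ n ih =>
    intro S _ hn hS F hF T hTS hT
    by_cases hTeq : T = S
    · subst hTeq
      exact ⟨F, hF, fun P => Set.Subset.refl _, hT, fun P _ => Subgroup.map_subtype_le _⟩
    · have hne : T.subgroupOf S ≠ ⊤ := by
        intro h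
        apply hTeq
        exact le_antisymm hTS (Subgroup.subgroupOf_eq_top.1 h)
      obtain ⟨M', hM', hTM'⟩ := (eq_top_or_exists_le_coatom (T.subgroupOf S)).resolve_left hne
      obtain ⟨hM'n, hM'idx⟩ := Cfsg.Agent.Lib.helper3.coatom_normal_index hS hM'
      have hidx : Nat.card (S ⧸ M') = p := by
        rw [← Subgroup.index_eq_card]
        exact hM'idx
      have hcyc : IsCyclic (S ⧸ M') := isCyclic_of_prime_card hidx
      let _ : CommGroup (S ⧸ M') := IsCyclic.commGroup
      obtain ⟨M, hMdef⟩ : ∃ M : Subgroup Ω, M = M'.map S.subtype := ⟨_, rfl⟩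
      have hMS : M ≤ S := by
        rw [hMdef]
        exact Subgroup.map_subtype_le _
      have hTM : T ≤ M := by
        intro t ht
        rw [hMdef]
        exact ⟨⟨t, hTS ht⟩, hTM' (Subgroup.mem_subgroupOf.2 ht), rfl⟩
      have hmemM : ∀ s : S, (s : Ω) ∈ M ↔ s ∈ M' := by
        intro s
        rw [hMdef]
        constructor
        · rintro ⟨s', hs', e⟩
          have e' : s' = s := Subtype.ext e
          rwa [← e']
        · intro hs
          exact ⟨s, hs, rfl⟩
      obtain ⟨E₁, hE₁sat, hE₁idx⟩ := Cfsg.Agent.Lib.helper89.PPow.exists_pPower_step hS F hF M hMS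
        (hT.trans hTM) (QuotientGroup.mk' M') hidx (fun s => by
          rw [QuotientGroup.mk'_apply, QuotientGroup.eq_one_iff, hmemM])
        (QuotientGroup.mk'_surjective M')
      have hMlt : Nat.card M < n := by
        rw [← hn]
        refine Cfsg.Agent.Lib.helper89.card_lt_of_lt (lt_of_le_of_ne hMS (fun h => hM'.1 ?_)) le_rfl
        exact eq_top_iff.2 (fun s _ => (hmemM s).1 (h ▸ s.2))
      have hfinM : Finite M := Cfsg.Agent.Lib.helper89.finite_of_le hMS
      have hhypE₁ : E₁.hyperfocalSubgroup p = F.hyperfocalSubgroup p :=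
        Cfsg.Agent.Lib.helper88.hyperfocal_eq_of_pPowerIndex hS hE₁idx
      obtain ⟨E, hEsat, hEidx⟩ := ih (Nat.card M) hMlt M rfl (hS.to_le hMS) E₁ hE₁sat T hTM (by
        rw [hhypE₁]
        exact hT)
      exact ⟨E, hEsat, pPowerIndex_trans hE₁idx hEidx hT hTM⟩

/-- Let F be a saturated fusion system over a finite p-group S and T a subgroup of S containing the hyperfocal subgroup of F. Then there is exactly one saturated fusion system over T that is a subsystem of F of p-power index. -/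
theorem result {Ω : Type*} [Group Ω] {S : Subgroup Ω} [Finite S] (p : ℕ) [Fact p.Prime] (hS : IsPGroup p S) (F : Cfsg.FusionSystem S) (hF : F.IsSaturated p) (T : Subgroup Ω) (hTS : T ≤ S) (hT : F.hyperfocalSubgroup p ≤ T) : ∃ E : Cfsg.FusionSystem T, (E.IsSaturated p ∧ E.HasPPowerIndexIn F p) ∧ ∀ E' : Cfsg.FusionSystem T, E'.IsSaturated p → E'.HasPPowerIndexIn F p → E' = E := by
  obtain ⟨E, hEsat, hEidx⟩ := exists_sub p (Nat.card S) S rfl hS F hF T hTS hT
  refine ⟨E, ⟨hEsat, hEidx⟩, ?_⟩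
  intro E' hE'sat hE'idx
  apply Cfsg.Agent.Lib.helper88.fusionSystem_ext
  intro P
  exact Set.Subset.antisymm
    (Cfsg.Agent.Lib.helper88.subsystem_of_pPowerIndex hS le_rfl hE'sat hE'idx.1 hEidx P)
    (Cfsg.Agent.Lib.helper88.subsystem_of_pPowerIndex hS le_rfl hEsat hEidx.1 hE'idx P)

end Cfsg.Agent.S5113
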