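import Cfsg.Statements.S5293
import Cfsg.Agent.Lib.helper87.CenNormal
import Cfsg.Agent.Lib.helper87.WellPlaced
import Cfsg.Agent.S5082
import Cfsg.Agent.S5097
import Cfsg.Agent.S5099

set_option autoImplicit false
open Cfsg

namespace Cfsg.Agent.S5293

open Cfsg.FusionSystem Cfsg.Agent.Lib.helper88 Cfsg.Agent.Lib.helper87.CenNormal in
/-- If every automorphism in `E` of an `E`-centric subgroup lies in `C_F(⟨g⟩)`, then `E` is contained
in `C_F(⟨g⟩)` (Alperin–Goldschmidt). -/
theorem le_cen_of_aut {Ω : Type*} [Group Ω] {S : Subgroup Ω} [Finite S] {p : ℕ} [Fact p.Prime]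
    (hS : IsPGroup p S) (F : Cfsg.FusionSystem S) {T : Subgroup Ω} (E : Cfsg.FusionSystem T)
    (hEsat : E.IsSaturated p) (hTS : T ≤ S) {g : Ω} (hg : g ∈ Cfsg.FusionSystem.centralizerIn S T)
    (h : ∀ P : Subgroup Ω, E.IsCentric P → ∀ a ∈ E.autGroup P,
      P.subtype.comp a.toMonoidHom ∈ F.centralizerHom (Subgroup.zpowers g) P) :
    ∀ P : Subgroup Ω, E.Hom P ⊆ F.centralizerHom (Subgroup.zpowers g) P := by
  classical
  have hfT : Finite T := finite_of_le hTS
  have hTp : IsPGroup p T := hS.to_le hTS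
  obtain ⟨C, hC⟩ := Cfsg.Agent.S5097.result F (Subgroup.zpowers g)
    (Subgroup.zpowers_le.mpr hg.1)
  have hTU : T ≤ Cfsg.FusionSystem.centralizerIn S (Subgroup.zpowers g) := by
    intro u hu
    refine Subgroup.mem_inf.mpr ⟨hTS hu, ?_⟩
    rw [Subgroup.mem_centralizer_iff]
    intro k hk
    have hk2 : k ∈ Subgroup.centralizer (T : Set Ω) := ((Subgroup.zpowers_le.mpr hg) hk).2
    exact (Subgroup.mem_centralizer_iff.mp hk2 u hu).symm
  have hle : E ≤ infSys E C hTU := by
    refine Cfsg.Agent.S5082.result p hTp E hEsat (infSys E C hTU) ?_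
    intro P hP a ha
    have hPc : E.IsCentric P := by
      rcases hP with rfl | hess
      · exact Cfsg.Agent.Lib.helper87.isCentric_top E
      · exact hess.1
    have hPT : P ≤ T := hPc.1
    rw [mem_autGroup_iff' (infSys E C hTU) hPT]
    refine ⟨(mem_autGroup_iff' E hPT a).mp ha, ?_⟩
    rw [hC P]
    exact h P hPc a ha
  intro P φ hφ
  have h1 := (hle P hφ).2
  rw [hC P] at h1
  exact h1


/-- Let F be a saturated fusion system over a finite p-group S, E a normal subsystem of F over T ≤ S, and C the join of the subgroups X ≤ C_S(T) such that E is contained in the centralizer system C_F(X). Then for the centralizer fusion system C_F(T) over C_S(T), the focal subgroup of C_F(T) is contained in C. -/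
theorem result {Ω : Type*} [Group Ω] {S : Subgroup Ω} [Finite S] (p : ℕ) [Fact p.Prime] (hS : IsPGroup p S)
    (F : Cfsg.FusionSystem S) (hF : F.IsSaturated p)
    {T : Subgroup Ω} (E : Cfsg.FusionSystem T) (hE : E.IsNormalIn F p)
    (C : Subgroup Ω)
    (hC : C = sSup {X : Subgroup Ω | X ≤ Cfsg.FusionSystem.centralizerIn S T ∧ ∀ P : Subgroup Ω, E.Hom P ⊆ F.centralizerHom X P})
    (D : Cfsg.FusionSystem (Cfsg.FusionSystem.centralizerIn S T)) (hD : F.IsCentralizerSystem T D) :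
    D.focalSubgroup ≤ C := by
  classical
  have hEsat := hE.1.1
  have hEinv := hE.1.2.2
  have hT := hEinv.2.1
  have hTS := hT.1
  have hXS : Cfsg.FusionSystem.centralizerIn S T ≤ S := inf_le_left
  have hfX : Finite ↥(Cfsg.FusionSystem.centralizerIn S T) :=
    Cfsg.Agent.Lib.helper88.finite_of_le hXS
  have hXp : IsPGroup p ↥(Cfsg.FusionSystem.centralizerIn S T) := hS.to_le hXS
  -- elements fixed by lifts of all automorphisms of centric subgroups lie in `C`
  have hgood : ∀ g : Ω, g ∈ Cfsg.FusionSystem.centralizerIn S T →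
      (∀ P : Subgroup Ω, E.IsCentric P → ∀ a ∈ E.autGroup P,
        P.subtype.comp a.toMonoidHom ∈ F.centralizerHom (Subgroup.zpowers g) P) → g ∈ C := by
    intro g hg h
    rw [hC]
    have hmem : Subgroup.zpowers g ∈ {X : Subgroup Ω | X ≤ Cfsg.FusionSystem.centralizerIn S T ∧
        ∀ P : Subgroup Ω, E.Hom P ⊆ F.centralizerHom X P} :=
      ⟨Subgroup.zpowers_le.mpr hg, le_cen_of_aut hS F E hEsat hTS hg h⟩
    exact (le_sSup hmem) (Subgroup.mem_zpowers g)
  have hcomm : ∀ x s : Ω, x ∈ Cfsg.FusionSystem.centralizerIn S T →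
      s ∈ Cfsg.FusionSystem.centralizerIn S T → x⁻¹ * (s * x * s⁻¹) ∈ C := by
    intro x s hx hs
    exact hgood _ (mul_mem (inv_mem hx) (mul_mem (mul_mem hs hx) (inv_mem hs)))
      (fun P hPc a ha => Cfsg.Agent.Lib.helper87.CenNormal.fix_of_comm hS F hF E hE hPc ha hx hs)
  have hpp : ∀ (Q : Subgroup Ω), Q ≤ Cfsg.FusionSystem.centralizerIn S T → ∀ χ : MulAut Q,
      χ ∈ D.autGroup Q → ∀ m : ℕ, Nat.Coprime m p → χ ^ m = 1 →
      ∀ c : Q, (c : Ω)⁻¹ * ((χ c : Q) : Ω) ∈ C := by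
    intro Q hQX χ hχ m hm hχm c
    have h1 : Q.subtype.comp χ.toMonoidHom ∈ D.Hom Q :=
      (Cfsg.Agent.Lib.helper88.mem_autGroup_iff' D hQX χ).mp hχ
    rw [hD Q] at h1
    exact hgood _ (hQX (Q.mul_mem (Q.inv_mem c.2) (χ c).2))
      (fun P hPc a ha =>
        Cfsg.Agent.Lib.helper87.CenNormal.fix_of_pprime hS F hF E hE hPc ha hQX h1 hm hχm c)
  -- the subsystem of `D` of maps moving every element by an element of `C`
  let D' : Cfsg.FusionSystem (Cfsg.FusionSystem.centralizerIn S T) :=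
    { Hom := fun Q => {φ | φ ∈ D.Hom Q ∧ ∀ x : Q, (x : Ω)⁻¹ * φ x ∈ C}
      le_of_mem := fun h => D.le_of_mem h.1
      injective_of_mem := fun h => D.injective_of_mem h.1
      conj_mem := by
        intro Q g hQ hg
        exact ⟨D.conj_mem hQ hg, fun x => hcomm x g (hQ x.2) hg⟩
      comp_mem := by
        intro P Q φ ψ hφ hψ h
        refine ⟨D.comp_mem hφ.1 hψ.1 h, fun x => ?_⟩
        have e : (x : Ω)⁻¹ * ψ ⟨φ x, h x⟩
            = ((x : Ω)⁻¹ * φ x) * ((φ x)⁻¹ * ψ ⟨φ x, h x⟩) := by group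
        show (x : Ω)⁻¹ * ψ ⟨φ x, h x⟩ ∈ C
        rw [e]
        exact C.mul_mem (hφ.2 x) (hψ.2 ⟨φ x, h x⟩)
      inv_mem := by
        intro Q φ hφ
        obtain ⟨ψ, hψ, hψe⟩ := D.inv_mem hφ.1
        refine ⟨ψ, ⟨hψ, ?_⟩, hψe⟩
        rintro ⟨y, x, rfl⟩
        rw [hψe]
        have h1 := C.inv_mem (hφ.2 x)
        have e : ((x : Ω)⁻¹ * φ x)⁻¹ = (φ x)⁻¹ * (x : Ω) := by group
        rw [e] at h1
        exact h1 }
  have hD' : ∀ (Q : Subgroup Ω) (φ : Q →* Ω), φ ∈ D'.Hom Q ↔
      (φ ∈ D.Hom Q ∧ ∀ x : Q, (x : Ω)⁻¹ * φ x ∈ C) := fun Q φ => Iff.rfl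
  -- `D` is saturated
  have hfc : F.IsFullyCentralized T := by
    refine ⟨hTS, fun Q hQ => ?_⟩
    have hQT : Q ≤ T := Cfsg.Agent.Lib.helper88.stronglyClosed_isConj_le F hT le_rfl hQ
    have hfT : Finite T := Cfsg.Agent.Lib.helper88.finite_of_le hTS
    have hQeq : Q = T :=
      Subgroup.eq_of_le_of_card_ge hQT (Cfsg.Agent.Lib.helper88.isConj_card F hQ).le
    rw [hQeq]
  have hDsat : D.IsSaturated p := Cfsg.Agent.S5099.result p hS F hF T hfc D hD
  have hle : D ≤ D' := by
    refine Cfsg.Agent.S5082.result p hXp D hDsat D' ?_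
    intro Q hQ
    have hQfn : D.IsFullyNormalized Q := by
      rcases hQ with rfl | hess
      · refine ⟨le_rfl, fun Q' _ => ?_⟩
        have hfN : Finite ↥(Cfsg.FusionSystem.normalizerIn (Cfsg.FusionSystem.centralizerIn S T)
            (Cfsg.FusionSystem.centralizerIn S T)) :=
          Cfsg.Agent.Lib.helper88.finite_of_le (inf_le_left.trans hXS)
        exact Subgroup.card_le_of_le
          (fun y hy => Subgroup.mem_inf.mpr ⟨hy.1, Subgroup.le_normalizer hy.1⟩)
      · exact hess.2.1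
    have hQX : Q ≤ Cfsg.FusionSystem.centralizerIn S T := hQfn.1
    have hfQ : Finite Q := Cfsg.Agent.Lib.helper88.finite_of_le (hQX.trans hXS)
    have hfA : Finite (MulAut Q) :=
      Cfsg.Agent.Lib.helper87.finite_mulAut_of_le (hQX.trans hXS)
    obtain ⟨⟨-, R, hR⟩, -⟩ :=
      Cfsg.Agent.Lib.helper88.fullyAutomized_receptive_of_fullyNormalized hXp D hDsat hQfn
    let H : Subgroup (MulAut Q) :=
      { carrier := {a | ∀ x : Q, (x : Ω)⁻¹ * ((a x : Q) : Ω) ∈ C}
        one_mem' := by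
          intro x
          show (x : Ω)⁻¹ * (x : Ω) ∈ C
          rw [inv_mul_cancel]
          exact C.one_mem
        mul_mem' := by
          intro a b ha hb x
          have e : (x : Ω)⁻¹ * ((a (b x) : Q) : Ω)
              = ((x : Ω)⁻¹ * ((b x : Q) : Ω)) * (((b x : Q) : Ω)⁻¹ * ((a (b x) : Q) : Ω)) := by
            group
          show (x : Ω)⁻¹ * ((a (b x) : Q) : Ω) ∈ C
          rw [e]
          exact C.mul_mem (hb x) (ha (b x))
        inv_mem' := by
          intro a ha x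
          have h1 := C.inv_mem (ha (a⁻¹ x))
          have e1 : a (a⁻¹ x) = x := by
            rw [MulAut.inv_apply, MulEquiv.apply_symm_apply]
          rw [e1] at h1
          have e : (((a⁻¹ x : Q) : Ω)⁻¹ * (x : Ω))⁻¹ = (x : Ω)⁻¹ * ((a⁻¹ x : Q) : Ω) := by group
          rw [e] at h1
          exact h1 }
    have hH : ∀ a : MulAut Q, a ∈ H ↔ ∀ x : Q, (x : Ω)⁻¹ * ((a x : Q) : Ω) ∈ C :=
      fun a => Iff.rfl
    -- `Aut_D(Q) ≤ H`
    have hAH : H.subgroupOf (D.autGroup Q) = ⊤ := by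
      rw [← Subgroup.index_eq_one]
      have hp : p.Prime := Fact.out
      -- the normal closure of the `p'`-elements
      have hNH : Subgroup.normalClosure
          {b : ↥(D.autGroup Q) | ∃ m : ℕ, Nat.Coprime m p ∧ b ^ m = 1}
          ≤ H.subgroupOf (D.autGroup Q) := by
        show Subgroup.closure (Group.conjugatesOfSet
          {b : ↥(D.autGroup Q) | ∃ m : ℕ, Nat.Coprime m p ∧ b ^ m = 1}) ≤ _
        rw [Subgroup.closure_le]
        intro b hb
        obtain ⟨b₀, ⟨m, hm, hb₀⟩, hconj⟩ := Group.mem_conjugatesOfSet_iff.mp hb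
        obtain ⟨c, hc⟩ := isConj_iff.mp hconj
        have hbm : b ^ m = 1 := by
          rw [← hc, conj_pow, hb₀]
          group
        refine Subgroup.mem_subgroupOf.mpr ((hH _).mpr ?_)
        have hbm' : ((b : MulAut Q)) ^ m = 1 := by
          have := congrArg (fun z : ↥(D.autGroup Q) => (z : MulAut Q)) hbm
          simpa using this
        exact hpp Q hQX _ b.2 m hm hbm'
      have hRH : (R : Subgroup ↥(D.autGroup Q)) ≤ H.subgroupOf (D.autGroup Q) := by
        intro b hb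
        rw [hR] at hb
        have hb' : (b : MulAut Q) ∈ Cfsg.autInducedBy (Cfsg.FusionSystem.centralizerIn S T) Q :=
          Subgroup.mem_subgroupOf.mp hb
        obtain ⟨g, hg, hgb⟩ := (Cfsg.Agent.Lib.helper88.mem_autInducedBy_iff _ Q _).mp hb'
        refine Subgroup.mem_subgroupOf.mpr ((hH _).mpr fun x => ?_)
        rw [hgb x]
        exact hcomm x g (hQX x.2) hg
      have hquot : IsPGroup p (↥(D.autGroup Q) ⧸ Subgroup.normalClosure
          {b : ↥(D.autGroup Q) | ∃ m : ℕ, Nat.Coprime m p ∧ b ^ m = 1}) := by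
        intro q
        obtain ⟨b, rfl⟩ := QuotientGroup.mk_surjective q
        obtain ⟨k, m, hm, hkm⟩ := Nat.exists_eq_pow_mul_and_not_dvd
          (orderOf_pos b).ne' p hp.ne_one
        refine ⟨k, ?_⟩
        rw [← QuotientGroup.mk_pow, QuotientGroup.eq_one_iff]
        refine Subgroup.subset_normalClosure ⟨m, ?_, ?_⟩
        · exact ((Nat.Prime.coprime_iff_not_dvd hp).mpr hm).symm
        · rw [← pow_mul, ← hkm, pow_orderOf_eq_one]
      obtain ⟨j, hj⟩ := IsPGroup.iff_card.mp hquot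
      have hidx1 : (H.subgroupOf (D.autGroup Q)).index ∣ p ^ j := by
        have h1 := Subgroup.index_dvd_of_le hNH
        have h2 : (Subgroup.normalClosure
          {b : ↥(D.autGroup Q) | ∃ m : ℕ, Nat.Coprime m p ∧ b ^ m = 1}).index = p ^ j := hj
        rw [h2] at h1
        exact h1
      have hidx2 : (H.subgroupOf (D.autGroup Q)).index ∣ (R : Subgroup ↥(D.autGroup Q)).index :=
        Subgroup.index_dvd_of_le hRH
      obtain ⟨i, -, hi⟩ := (Nat.dvd_prime_pow hp).mp hidx1
      rcases Nat.eq_zero_or_pos i with hi0 | hipos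
      · rw [hi, hi0, pow_zero]
      · exfalso
        have h3 : p ∣ (R : Subgroup ↥(D.autGroup Q)).index :=
          (hi ▸ dvd_pow_self p hipos.ne' : p ∣ (H.subgroupOf (D.autGroup Q)).index).trans hidx2
        exact R.not_dvd_index h3
    intro a ha
    rw [Cfsg.Agent.Lib.helper88.mem_autGroup_iff' D' hQX]
    refine (hD' Q _).mpr ⟨(Cfsg.Agent.Lib.helper88.mem_autGroup_iff' D hQX a).mp ha, ?_⟩
    have h1 : (⟨a, ha⟩ : ↥(D.autGroup Q)) ∈ H.subgroupOf (D.autGroup Q) := by
      rw [hAH]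
      exact Subgroup.mem_top _
    exact (hH a).mp (Subgroup.mem_subgroupOf.mp h1)
  unfold Cfsg.FusionSystem.focalSubgroup
  rw [Subgroup.closure_le]
  rintro y ⟨Q, φ, x, hφ, rfl⟩
  exact ((hD' Q φ).mp (hle Q hφ)).2 x

end Cfsg.Agent.S5293
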