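import Cfsg.Statements.S5411
import Cfsg.Agent.Lib.helper91.MonsterQFacts

set_option autoImplicit false
open Cfsg

namespace Cfsg.Agent.S5411

open Cfsg.Agent.Lib.helper91

/-- the main argument, with the facts on the lattice as a hypothesis -/
theorem main_aux (F : MQFacts) {G : Type*} [Group G] [Finite G] (z : G)
    (Q : Subgroup (Subgroup.centralizer ({z} : Set G))) [Q.Normal] (hM : Cfsg.IsOfMonsterType z Q)
    (s t : G)
    (hsQ : ∃ hsc : s ∈ Subgroup.centralizer ({z} : Set G),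
      (⟨s, hsc⟩ : Subgroup.centralizer ({z} : Set G)) ∈ Q)
    (htQ : ∃ htc : t ∈ Subgroup.centralizer ({z} : Set G),
      (⟨t, htc⟩ : Subgroup.centralizer ({z} : Set G)) ∈ Q)
    (hs2 : orderOf s = 2) (ht2 : orderOf t = 2) (hs : ¬ IsConj z s) (ht : ¬ IsConj z t) :
    ∃ h ∈ Subgroup.centralizer ({z} : Set G), h * s * h⁻¹ = t := by
  obtain ⟨hS, e, ψ, hψ⟩ := hM
  obtain ⟨hsc, hsQ'⟩ := hsQ
  obtain ⟨htc, htQ'⟩ := htQ
  obtain ⟨zQ, hzQ, hzc, hz1, hzall⟩ := mq_center_cases z Q hS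
  have hzz : z ≠ 1 := by
    intro h
    have h2 := hS.1
    rw [h, orderOf_one] at h2
    omega
  -- a non-central involution of `Q`
  have key : ∀ (x : G) (hxc : x ∈ Subgroup.centralizer ({z} : Set G))
      (hxQ : (⟨x, hxc⟩ : Subgroup.centralizer ({z} : Set G)) ∈ Q), x ≠ 1 → x ≠ z → x * x = 1 →
      (⟨⟨x, hxc⟩, hxQ⟩ : Q) ∉ Subgroup.center Q ∧ ∃ y : ↥leechLattice,
        ψ y = QuotientGroup.mk (⟨⟨x, hxc⟩, hxQ⟩ : Q) ∧
        (sqNorm (y : GolayPt → ℤ) = 32 ∨ sqNorm (y : GolayPt → ℤ) = 64) := by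
    intro x hxc hxQ hx1 hxz hxx
    have hnc : (⟨⟨x, hxc⟩, hxQ⟩ : Q) ∉ Subgroup.center Q := by
      intro h
      rcases hzall _ h with h1 | h1
      · exact hx1 (congrArg (fun u : Q => ((u : Subgroup.centralizer ({z} : Set G)) : G)) h1)
      · exact hxz ((congrArg (fun u : Q => ((u : Subgroup.centralizer ({z} : Set G)) : G)) h1).trans hzQ)
    exact ⟨hnc, mq_type Q e ψ F hS hψ _ hnc (Subtype.ext (Subtype.ext hxx))⟩
  have hs1 : s ≠ 1 := by
    intro h
    rw [h, orderOf_one] at hs2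
    omega
  have ht1 : t ≠ 1 := by
    intro h
    rw [h, orderOf_one] at ht2
    omega
  have hsz : s ≠ z := fun h => hs (h ▸ IsConj.refl z)
  have htz : t ≠ z := fun h => ht (h ▸ IsConj.refl z)
  have hss : s * s = 1 := by rw [← pow_two, ← hs2, pow_orderOf_eq_one]
  have htt : t * t = 1 := by rw [← pow_two, ← ht2, pow_orderOf_eq_one]
  have hzsq : z * z = 1 := by rw [← pow_two, ← hS.1, pow_orderOf_eq_one]
  obtain ⟨hsnc, ys, hys, hys'⟩ := key s hsc hsQ' hs1 hsz hss
  obtain ⟨htnc, yt, hyt, hyt'⟩ := key t htc htQ' ht1 htz htt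
  -- a conjugate of `z` in `Q`
  obtain ⟨g, ⟨hwc, hwQ⟩, hwz⟩ := hS.2.2.2.2
  have hw1 : g * z * g⁻¹ ≠ 1 := by
    intro h
    exact hzz (conj_eq_one_iff.mp h)
  have hww : g * z * g⁻¹ * (g * z * g⁻¹) = 1 := by
    have : g * z * g⁻¹ * (g * z * g⁻¹) = g * (z * z) * g⁻¹ := by group
    rw [this, hzsq]
    group
  obtain ⟨hwnc, yw, hyw, hyw'⟩ := key (g * z * g⁻¹) hwc hwQ hw1 hwz hww
  -- an element conjugate to the conjugate of `z` under the centralizer is conjugate to `z`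
  have hnot : ∀ (x : G) (hxc : x ∈ Subgroup.centralizer ({z} : Set G))
      (hxQ : (⟨x, hxc⟩ : Subgroup.centralizer ({z} : Set G)) ∈ Q), ¬ IsConj z x →
      ¬ ∃ h : Subgroup.centralizer ({z} : Set G),
        h * ((⟨⟨g * z * g⁻¹, hwc⟩, hwQ⟩ : Q) : Subgroup.centralizer ({z} : Set G)) * h⁻¹ =
          ((⟨⟨x, hxc⟩, hxQ⟩ : Q) : Subgroup.centralizer ({z} : Set G)) := by
    rintro x hxc hxQ hx ⟨h, hh⟩
    apply hx
    rw [isConj_iff]
    refine ⟨(h : G) * g, ?_⟩
    have h1 : (h : G) * (g * z * g⁻¹) * (h : G)⁻¹ = x := congrArg Subtype.val hh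
    rw [← h1]
    group
  rcases hyw' with hw32 | hw64
  · have hs64 : sqNorm (ys : GolayPt → ℤ) = 64 := by
      rcases hys' with h | h
      · exact absurd (mq_conj_32 Q e ψ F hψ zQ hzall hzc _ _ hsnc yw ys hyw hys hw32 h)
          (hnot s hsc hsQ' hs)
      · exact h
    have ht64 : sqNorm (yt : GolayPt → ℤ) = 64 := by
      rcases hyt' with h | h
      · exact absurd (mq_conj_32 Q e ψ F hψ zQ hzall hzc _ _ htnc yw yt hyw hyt hw32 h)
          (hnot t htc htQ' ht)
      · exact h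
    obtain ⟨h, hh⟩ := mq_conj_64 Q e ψ F hψ zQ hzall hzc _ _ htnc ys yt hys hyt hs64 ht64
    exact ⟨h, h.2, congrArg Subtype.val hh⟩
  · have hs32 : sqNorm (ys : GolayPt → ℤ) = 32 := by
      rcases hys' with h | h
      · exact h
      · exact absurd (mq_conj_64 Q e ψ F hψ zQ hzall hzc _ _ hsnc yw ys hyw hys hw64 h)
          (hnot s hsc hsQ' hs)
    have ht32 : sqNorm (yt : GolayPt → ℤ) = 32 := by
      rcases hyt' with h | h
      · exact h
      · exact absurd (mq_conj_64 Q e ψ F hψ zQ hzall hzc _ _ htnc yw yt hyw hyt hw64 h)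
          (hnot t htc htQ' ht)
    obtain ⟨h, hh⟩ := mq_conj_32 Q e ψ F hψ zQ hzall hzc _ _ htnc ys yt hys hyt hs32 ht32
    exact ⟨h, h.2, congrArg Subtype.val hh⟩


/-- Let G be a finite group of Monster type at the involution z with Q the extraspecial normal subgroup of order 2^25 of C = C_G(z) (so C/Q is identified with the first Conway group with Q modulo its centre the Leech lattice modulo 2, and z is not weakly closed in Q). Then C acts transitively by conjugation on the involutions of Q that are not conjugate to z in G. -/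
theorem result {G : Type*} [Group G] [Finite G] (z : G) (Q : Subgroup (Subgroup.centralizer ({z} : Set G))) [Q.Normal] (hM : Cfsg.IsOfMonsterType z Q) (s t : G) (hsQ : ∃ hsc : s ∈ Subgroup.centralizer ({z} : Set G), (⟨s, hsc⟩ : Subgroup.centralizer ({z} : Set G)) ∈ Q) (htQ : ∃ htc : t ∈ Subgroup.centralizer ({z} : Set G), (⟨t, htc⟩ : Subgroup.centralizer ({z} : Set G)) ∈ Q) (hs2 : orderOf s = 2) (ht2 : orderOf t = 2) (hs : ¬ IsConj z s) (ht : ¬ IsConj z t) : ∃ h ∈ Subgroup.centralizer ({z} : Set G), h * s * h⁻¹ = t := by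
  exact main_aux mqFacts z Q hM s t hsQ htQ hs2 ht2 hs ht

end Cfsg.Agent.S5411
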