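import Cfsg.Statements.S0400
import Cfsg.Agent.Lib.helper93.Co0T4

set_option autoImplicit false
open Cfsg
open Cfsg.Agent.Lib.helper93

namespace Cfsg.Agent.S0400

/-- Automorphisms of the lattice act transitively on vectors of sum of squares 32. -/
theorem result (v w : Cfsg.leechLattice) (hv : Cfsg.sqNorm (v : Cfsg.GolayPt → ℤ) = 32) (hw : Cfsg.sqNorm (w : Cfsg.GolayPt → ℤ) = 32) : ∃ g : Cfsg.Co0, g • v = w := by
  obtain ⟨g, -, hg⟩ := trans_of_descent ⊤ acts4 acts4_snd
    {v : ↥leechLattice | sqNorm (v : GolayPt → ℤ) = 32}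
    (fun g _ v hv => by
      show sqNorm (((g : ↥Co0).1 v : ↥leechLattice) : GolayPt → ℤ) = 32
      rw [g.2.2]
      exact hv)
    (fun v hv => by
      have h : sqNorm (v : GolayPt → ℤ) = 32 := hv
      rw [h]
      norm_num)
    root4 10 (fun v hv => t4_all (v : GolayPt → ℤ) v.2 hv) v w hv hw
  exact ⟨g, hg⟩

end Cfsg.Agent.S0400
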