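import Cfsg.Statements.S1567
import Cfsg.Agent.Lib.helper33.GolayBridge
import Cfsg.Agent.S0362

set_option autoImplicit false
open Cfsg

namespace Cfsg.Agent.S1567

open Finset Cfsg.Agent.Lib.helper33 Cfsg.Agent.Lib.helper94

/-- The set of minimal vectors. -/
def minVecs : Set (Cfsg.GolayPt → ℤ) := {x | x ∈ Cfsg.leechLattice ∧ Cfsg.sqNorm x = 32}

/-- The subgroup generated by the minimal vectors. -/
def Lmin : AddSubgroup (Cfsg.GolayPt → ℤ) := AddSubgroup.closure minVecs

/-- Integer indicator vector of a set of points. -/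
def ind (s : Finset Cfsg.GolayPt) : Cfsg.GolayPt → ℤ := fun i => if i ∈ s then 1 else 0

theorem mem_Lmin_of_leechSet {x : Cfsg.GolayPt → ℤ} (hx : x ∈ Cfsg.leechSet) (hn : Cfsg.sqNorm x = 32) :
    x ∈ Lmin :=
  AddSubgroup.subset_closure ⟨AddSubgroup.subset_closure hx, hn⟩

theorem supp_univ : (Finset.univ : Finset Cfsg.GolayPt) ∈ Cfsg.supports (Cfsg.golayCode : Set (Cfsg.GolayPt → ZMod 2)) :=
  (mem_supports_golay _).2 ⟨1, one_mem_golay, bsupp_one⟩

theorem supp_empty : (∅ : Finset Cfsg.GolayPt) ∈ Cfsg.supports (Cfsg.golayCode : Set (Cfsg.GolayPt → ZMod 2)) :=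
  (mem_supports_golay _).2 ⟨0, Cfsg.golayCode.zero_mem, bsupp_zero⟩

/-- If all coordinates are congruent to `r` modulo 4 then every residue class set is a code support. -/
theorem filter_const_mod4 (u : Cfsg.GolayPt → ℤ) (r : ℤ) (h : ∀ i, u i % 4 = r % 4) (k : ℤ) :
    (Finset.univ.filter fun i => u i ≡ k [ZMOD 4]) ∈ Cfsg.supports (Cfsg.golayCode : Set (Cfsg.GolayPt → ZMod 2)) := by
  by_cases hk : r % 4 = k % 4
  · have : (Finset.univ.filter fun i => u i ≡ k [ZMOD 4]) = Finset.univ := by
      ext i
      rw [Finset.mem_filter]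
      simp only [Finset.mem_univ, true_and, iff_true]
      show u i % 4 = k % 4
      rw [h i, hk]
    rw [this]; exact supp_univ
  · have : (Finset.univ.filter fun i => u i ≡ k [ZMOD 4]) = ∅ := by
      ext i
      rw [Finset.mem_filter]
      simp only [Finset.mem_univ, true_and, Finset.notMem_empty, iff_false]
      show ¬ (u i % 4 = k % 4)
      rw [h i]; exact hk
    rw [this]; exact supp_empty


theorem mem_filter_modEq (u : Cfsg.GolayPt → ℤ) (k : ℤ) (i : Cfsg.GolayPt) :
    i ∈ (Finset.univ.filter fun i => u i ≡ k [ZMOD 4]) ↔ u i % 4 = k % 4 := by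
  rw [Finset.mem_filter]
  simp only [Finset.mem_univ, true_and]
  rfl

theorem sum_single (i : Cfsg.GolayPt) (a : ℤ) : ∑ k, (Pi.single i a : Cfsg.GolayPt → ℤ) k = a := by
  rw [Finset.sum_pi_single']
  simp

/-- The vectors `4 e_i + s e_j` with `s = ±4`, `i ≠ j`, are minimal vectors. -/
theorem pair_mem (i j : Cfsg.GolayPt) (hij : i ≠ j) (s : ℤ) (hs : s = 4 ∨ s = -4) :
    (Pi.single i (4 : ℤ) + Pi.single j s : Cfsg.GolayPt → ℤ) ∈ Lmin := by
  have hcoord : ∀ k, (Pi.single i (4 : ℤ) + Pi.single j s : Cfsg.GolayPt → ℤ) k =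
      (if k = i then 4 else 0) + (if k = j then s else 0) := by
    intro k
    simp only [Pi.add_apply, Pi.single_apply]
  apply mem_Lmin_of_leechSet
  · refine ⟨0, ?_, ?_, ?_⟩
    · intro k
      rw [hcoord]
      show _ % 2 = 0 % 2
      split_ifs <;> rcases hs with rfl | rfl <;> norm_num
    · simp only [Pi.add_apply]
      rw [Finset.sum_add_distrib, sum_single, sum_single]
      show _ % 8 = (4 * 0) % 8
      rcases hs with rfl | rfl <;> norm_num
    · intro k
      apply filter_const_mod4 _ 0
      intro k'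
      rw [hcoord]
      split_ifs <;> rcases hs with rfl | rfl <;> norm_num
  · unfold Cfsg.sqNorm
    have hsq : ∀ k, ((Pi.single i (4 : ℤ) + Pi.single j s : Cfsg.GolayPt → ℤ) k) ^ 2 =
        (Pi.single i (16 : ℤ) : Cfsg.GolayPt → ℤ) k + (Pi.single j (16 : ℤ) : Cfsg.GolayPt → ℤ) k := by
      intro k
      rw [hcoord]
      simp only [Pi.single_apply]
      by_cases h1 : k = i
      · have h2 : k ≠ j := fun h => hij (h1.symm.trans h)
        simp [h1, h2, hij]
      · by_cases h2 : k = j
        · subst h2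
          rcases hs with rfl | rfl <;> simp [h1]
        · simp [h1, h2]
    rw [Finset.sum_congr rfl (fun k _ => hsq k), Finset.sum_add_distrib, sum_single, sum_single]
    norm_num


theorem eight_single_mem (i : Cfsg.GolayPt) : (Pi.single i (8 : ℤ) : Cfsg.GolayPt → ℤ) ∈ Lmin := by
  obtain ⟨j, hj⟩ := exists_ne i
  have h1 := pair_mem i j hj.symm 4 (Or.inl rfl)
  have h2 := pair_mem i j hj.symm (-4) (Or.inr rfl)
  have h := Lmin.add_mem h1 h2
  have e : (Pi.single i (8 : ℤ) : Cfsg.GolayPt → ℤ) =
      (Pi.single i (4 : ℤ) + Pi.single j 4) + (Pi.single i (4 : ℤ) + Pi.single j (-4)) := by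
    funext k
    simp only [Pi.add_apply, Pi.single_apply]
    split_ifs <;> norm_num
  rw [e]; exact h

theorem four_diff_mem (i i0 : Cfsg.GolayPt) :
    (Pi.single i (4 : ℤ) - Pi.single i0 (4 : ℤ) : Cfsg.GolayPt → ℤ) ∈ Lmin := by
  by_cases h : i = i0
  · rw [h, sub_self]; exact Lmin.zero_mem
  · have h1 := pair_mem i i0 h (-4) (Or.inr rfl)
    have e : (Pi.single i (4 : ℤ) - Pi.single i0 (4 : ℤ) : Cfsg.GolayPt → ℤ) =
        Pi.single i (4 : ℤ) + Pi.single i0 (-4) := by
      funext k
      simp only [Pi.add_apply, Pi.sub_apply, Pi.single_apply]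
      split_ifs <;> norm_num
    rw [e]; exact h1

theorem single_mul (i : Cfsg.GolayPt) (a b : ℤ) :
    (Pi.single i (a * b) : Cfsg.GolayPt → ℤ) = a • Pi.single i b := by
  funext k
  simp only [Pi.single_apply, Pi.smul_apply, smul_eq_mul]
  split_ifs <;> simp

/-- Vectors `4 y` with even coordinate sum of `y` are generated by minimal vectors. -/
theorem four_mul_mem (y : Cfsg.GolayPt → ℤ) (hy : (2 : ℤ) ∣ ∑ i, y i) : (fun i => 4 * y i) ∈ Lmin := by
  obtain ⟨t, ht⟩ := hy
  have e : (fun i => 4 * y i) =
      ∑ i, (y i • (Pi.single i (4 : ℤ) - Pi.single (none : Cfsg.GolayPt) (4 : ℤ) : Cfsg.GolayPt → ℤ))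
        + t • (Pi.single (none : Cfsg.GolayPt) (8 : ℤ) : Cfsg.GolayPt → ℤ) := by
    funext k
    simp only [Pi.add_apply, Finset.sum_apply, Pi.smul_apply, Pi.sub_apply, Pi.single_apply, smul_eq_mul,
      mul_sub, Finset.sum_sub_distrib, mul_ite, mul_zero, Finset.sum_ite_eq, Finset.mem_univ, if_true]
    by_cases hk : k = none
    · simp only [hk, if_true]
      rw [← Finset.sum_mul, ht]
      ring
    · simp only [hk, if_false, Finset.sum_const_zero]
      ring
  rw [e]
  refine Lmin.add_mem (AddSubgroup.sum_mem _ fun i _ => ?_) ?_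
  · exact Lmin.zsmul_mem (four_diff_mem i none) _
  · exact Lmin.zsmul_mem (eight_single_mem none) _

theorem sum_ind (S : Finset Cfsg.GolayPt) : ∑ i, ind S i = S.card := by
  simp [ind, Finset.sum_boole]

/-- Twice the indicator vector of an octad is a minimal vector. -/
theorem octad_vec_mem (S : Finset Cfsg.GolayPt)
    (hS : S ∈ Cfsg.supports (Cfsg.golayCode : Set (Cfsg.GolayPt → ZMod 2))) (h8 : S.card = 8) :
    (fun i => 2 * ind S i) ∈ Lmin := by
  apply mem_Lmin_of_leechSet
  · refine ⟨0, ?_, ?_, ?_⟩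
    · intro i
      show (2 * ind S i) % 2 = 0 % 2
      simp
    · rw [← Finset.mul_sum, sum_ind, h8]
      decide
    · intro k
      have hcase : k % 4 = 0 ∨ k % 4 = 2 ∨ (k % 4 ≠ 0 ∧ k % 4 ≠ 2) := by omega
      rcases hcase with h | h | h
      · have : (Finset.univ.filter fun i => 2 * ind S i ≡ k [ZMOD 4]) = Sᶜ := by
          ext i
          rw [mem_filter_modEq, Finset.mem_compl, h]
          unfold ind
          split_ifs with hi <;> simp [hi]
        rw [this]
        rw [mem_supports_golay] at hS ⊢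
        exact compl_mem_supports hS
      · have : (Finset.univ.filter fun i => 2 * ind S i ≡ k [ZMOD 4]) = S := by
          ext i
          rw [mem_filter_modEq, h]
          unfold ind
          split_ifs with hi <;> simp [hi]
        rw [this]; exact hS
      · have : (Finset.univ.filter fun i => 2 * ind S i ≡ k [ZMOD 4]) = ∅ := by
          ext i
          rw [mem_filter_modEq]
          unfold ind
          simp only [Finset.notMem_empty, iff_false]
          split_ifs with hi
          · intro h'; exact h.2 (by rw [← h']; norm_num)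
          · intro h'; exact h.1 (by rw [← h']; norm_num)
        rw [this]; exact supp_empty
  · unfold Cfsg.sqNorm
    have hsq : ∀ i, (2 * ind S i) ^ 2 = 4 * ind S i := by
      intro i
      unfold ind
      split_ifs <;> norm_num
    rw [Finset.sum_congr rfl (fun i _ => hsq i), ← Finset.mul_sum, sum_ind, h8]
    norm_num

theorem ind_symmDiff (S S' : Finset Cfsg.GolayPt) (i : Cfsg.GolayPt) :
    2 * ind (symmDiff S S') i = 2 * ind S i + 2 * ind S' i - 4 * ind (S ∩ S') i := by
  unfold ind
  simp only [Finset.mem_symmDiff, Finset.mem_inter]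
  by_cases h1 : i ∈ S <;> by_cases h2 : i ∈ S' <;> simp [h1, h2]

/-- Twice the indicator vector of any code word support is generated by minimal vectors. -/
theorem code_vec_mem (c : Cfsg.GolayPt → ZMod 2) (hc : c ∈ Cfsg.golayCode) :
    (fun i => 2 * ind (bsupp c) i) ∈ Lmin := by
  have hspan := span_weight_eight Cfsg.golayCode golayPt_card golay_finrank golay_min_weight
  rw [← hspan] at hc
  induction hc using Submodule.span_induction with
  | mem w hw =>
    apply octad_vec_mem
    · exact (mem_supports_golay _).2 ⟨w, hw.1, rfl⟩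
    · rw [← hammingNorm_eq_card_bsupp]; exact hw.2
  | zero =>
    have : (fun i => 2 * ind (bsupp (0 : Cfsg.GolayPt → ZMod 2)) i) = 0 := by
      funext i
      simp [bsupp_zero, ind]
    rw [this]; exact Lmin.zero_mem
  | add x y hx hy ihx ihy =>
    have hxC : x ∈ Cfsg.golayCode := hspan ▸ hx
    have hyC : y ∈ Cfsg.golayCode := hspan ▸ hy
    have heven := even_card_inter_of_dot (Cfsg.Agent.S0362.result x y hxC hyC)
    have h4 : (fun i => 4 * ind (bsupp x ∩ bsupp y) i) ∈ Lmin := by
      apply four_mul_mem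
      rw [sum_ind]
      obtain ⟨r, hr⟩ := heven
      exact ⟨r, by rw [hr]; push_cast; ring⟩
    have e : (fun i => 2 * ind (bsupp (x + y)) i) =
        (fun i => 2 * ind (bsupp x) i) + (fun i => 2 * ind (bsupp y) i)
          - (fun i => 4 * ind (bsupp x ∩ bsupp y) i) := by
      funext i
      rw [bsupp_add]
      simp only [Pi.add_apply, Pi.sub_apply]
      exact ind_symmDiff _ _ i
    rw [e]
    exact Lmin.sub_mem (Lmin.add_mem ihx ihy) h4
  | smul a x hx ih =>
    rcases zmod2_cases a with rfl | rfl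
    · have : (fun i => 2 * ind (bsupp ((0 : ZMod 2) • x)) i) = 0 := by
        funext i
        simp [bsupp_zero, ind]
      rw [this]; exact Lmin.zero_mem
    · rw [one_smul]; exact ih


/-- An even-type vector (all coordinates even, coordinate sum divisible by 8, the coordinates congruent
to 2 modulo 4 forming a code support) is generated by minimal vectors. -/
theorem even_type_mem (v : Cfsg.GolayPt → ℤ) (h1 : ∀ i, v i % 2 = 0) (h2 : (∑ i, v i) % 8 = 0)
    (h3 : (Finset.univ.filter fun i => v i ≡ 2 [ZMOD 4]) ∈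
      Cfsg.supports (Cfsg.golayCode : Set (Cfsg.GolayPt → ZMod 2))) : v ∈ Lmin := by
  obtain ⟨c, hc, hS⟩ := (mem_supports_golay _).1 h3
  have hmem : ∀ i, i ∈ bsupp c ↔ v i % 4 = 2 := by
    intro i
    rw [hS, mem_filter_modEq]
    norm_num
  have hdec : ∀ i, v i = 2 * ind (bsupp c) i + 4 * ((v i - 2 * ind (bsupp c) i) / 4) := by
    intro i
    have := h1 i
    by_cases hi : i ∈ bsupp c
    · have h' := (hmem i).1 hi
      simp only [ind, hi, if_true]
      omega
    · have h' : ¬ v i % 4 = 2 := fun h => hi ((hmem i).2 h)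
      simp only [ind, hi, if_false]
      omega
  have hd4 := doubly_even Cfsg.golayCode golayPt_card golay_finrank
    (fun v hv w hw => Cfsg.Agent.S0362.result v w hv hw) golay_min_weight c hc
  rw [hammingNorm_eq_card_bsupp] at hd4
  have hsum : ∑ i, v i = 2 * ((bsupp c).card : ℤ) + 4 * ∑ i, (v i - 2 * ind (bsupp c) i) / 4 := by
    conv_lhs => rw [Finset.sum_congr rfl (fun i _ => hdec i)]
    rw [Finset.sum_add_distrib, ← Finset.mul_sum, ← Finset.mul_sum, sum_ind]
  have hy : (2 : ℤ) ∣ ∑ i, (v i - 2 * ind (bsupp c) i) / 4 := by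
    obtain ⟨r, hr⟩ := hd4
    rw [hsum, hr] at h2
    push_cast at h2
    omega
  have e : v = (fun i => 2 * ind (bsupp c) i) + (fun i => 4 * ((v i - 2 * ind (bsupp c) i) / 4)) := by
    funext i
    exact hdec i
  rw [e]
  exact Lmin.add_mem (code_vec_mem c hc) (four_mul_mem _ hy)

/-- The minimal vector `(-3, 1, ..., 1)` (with `-3` at the extra point). -/
def w0 : Cfsg.GolayPt → ℤ := fun i => if i = none then -3 else 1

theorem w0_mod4 (i : Cfsg.GolayPt) : w0 i % 4 = 1 := by
  unfold w0
  split_ifs <;> norm_num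

theorem w0_sum : ∑ i, w0 i = 20 := by
  decide +kernel

theorem w0_sqNorm : Cfsg.sqNorm w0 = 32 := by
  decide +kernel

theorem w0_mem : w0 ∈ Lmin := by
  apply mem_Lmin_of_leechSet _ w0_sqNorm
  refine ⟨1, ?_, ?_, ?_⟩
  · intro i
    have := w0_mod4 i
    show w0 i % 2 = 1 % 2
    omega
  · rw [w0_sum]; decide
  · intro k
    exact filter_const_mod4 w0 1 (fun i => by rw [w0_mod4]; norm_num) k

theorem leechSet_le : Cfsg.leechSet ⊆ (Lmin : Set (Cfsg.GolayPt → ℤ)) := by
  intro x hx
  obtain ⟨m, h1, h2, h3⟩ := hx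
  have h1' : ∀ i, x i % 2 = m % 2 := h1
  have h2' : (∑ i, x i) % 8 = (4 * m) % 8 := h2
  rcases Int.emod_two_eq_zero_or_one m with hm | hm
  · -- even type
    apply even_type_mem x
    · intro i; rw [h1' i, hm]
    · omega
    · exact h3 2
  · -- odd type: subtract w0
    have hv : x - w0 ∈ Lmin := by
      apply even_type_mem
      · intro i
        have := w0_mod4 i
        have := h1' i
        simp only [Pi.sub_apply]
        omega
      · simp only [Pi.sub_apply]
        rw [Finset.sum_sub_distrib, w0_sum]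
        omega
      · have : (Finset.univ.filter fun i => (x - w0) i ≡ 2 [ZMOD 4]) =
            (Finset.univ.filter fun i => x i ≡ 3 [ZMOD 4]) := by
          ext i
          rw [mem_filter_modEq, mem_filter_modEq]
          have := w0_mod4 i
          simp only [Pi.sub_apply]
          omega
        rw [this]; exact h3 3
    have := Lmin.add_mem hv w0_mem
    simpa using this

/-- The rank-24 lattice is the additive subgroup generated by its 196560 minimal vectors. -/
theorem result : AddSubgroup.closure {x : Cfsg.GolayPt → ℤ | x ∈ Cfsg.leechLattice ∧ Cfsg.sqNorm x = 32} = Cfsg.leechLattice := by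
  apply le_antisymm
  · rw [AddSubgroup.closure_le]
    exact fun x hx => hx.1
  · show Cfsg.leechLattice ≤ Lmin
    unfold Cfsg.leechLattice
    rw [AddSubgroup.closure_le]
    exact leechSet_le

end Cfsg.Agent.S1567
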