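import Cfsg.Statements.S5592
import Mathlib
import Cfsg.Agent.Lib.helper93.LeechBasic
import Cfsg.Agent.Lib.helper93.LeechGolay

set_option autoImplicit false
open Cfsg

namespace Cfsg.Agent.S5592

/-- In the Leech lattice (integer coordinates, sum of squares equal to 8 times the customary norm, so the shortest non-zero vectors have sum of squares 32): if two distinct vectors of sum of squares at most 64 are congruent modulo twice the lattice, then either they are negatives of each other, or both have sum of squares 64 and they are orthogonal. -/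
theorem result (x y : Cfsg.GolayPt → ℤ) (hx : x ∈ Cfsg.leechLattice) (hy : y ∈ Cfsg.leechLattice) (hxy : x ≠ y) (hxn : Cfsg.sqNorm x ≤ 64) (hyn : Cfsg.sqNorm y ≤ 64) (hc : (∃ z ∈ Cfsg.leechLattice, x - y = 2 • z)) :
    x = -y ∨ (Cfsg.sqNorm x = 64 ∧ Cfsg.sqNorm y = 64 ∧ Cfsg.dotInt x y = 0) := by
  obtain ⟨z, hz, hxyz⟩ := hc
  have hz' : z + y ∈ Cfsg.leechLattice := Cfsg.leechLattice.add_mem hz hy
  have hxy' : x + y = 2 • (z + y) := by
    have : x + y = (x - y) + 2 • y := by rw [two_nsmul]; abel
    rw [this, hxyz, ← nsmul_add]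
  have h0 : z ≠ 0 := by
    rintro rfl
    rw [nsmul_zero] at hxyz
    exact hxy (sub_eq_zero.mp hxyz)
  by_cases h0' : z + y = 0
  · left
    rw [h0', nsmul_zero] at hxy'
    exact eq_neg_of_add_eq_zero_left hxy'
  · right
    have n1 := Cfsg.Agent.Lib.helper93.leech_min_sqNorm z hz h0
    have n2 := Cfsg.Agent.Lib.helper93.leech_min_sqNorm (z + y) hz' h0'
    have hp := Cfsg.Agent.Lib.helper93.sqNorm_parallelogram x y
    have ha := Cfsg.Agent.Lib.helper93.sqNorm_add x y
    rw [hxyz, hxy', Cfsg.Agent.Lib.helper93.sqNorm_two_nsmul,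
      Cfsg.Agent.Lib.helper93.sqNorm_two_nsmul] at hp
    rw [hxy', Cfsg.Agent.Lib.helper93.sqNorm_two_nsmul] at ha
    refine ⟨by omega, by omega, by omega⟩

end Cfsg.Agent.S5592
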