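import Cfsg.Statements.S1590
import Mathlib

set_option autoImplicit false
open Cfsg

namespace Cfsg.Agent.S1590

/-- Parameter space: the six information coordinates. -/
abbrev K : Type := ZMod 3 × ZMod 3 × ZMod 3 × ZMod 3 × ZMod 3 × ZMod 3

/-- The systematic encoder of the length-12 ternary code. -/
def phi : K → Cfsg.ArrayPt → ZMod 3 := fun k p =>
  match k with
  | (a, b, c, d, e, f) =>
    (![![a, e, a + 2 * b + 2 * c + 2 * d + 2 * e],
    ![b, f, 2 * a + b + 2 * c + 2 * d + 2 * f],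
    ![c, a + b + 2 * d + e + f, a + b + c + 2 * e + 2 * f],
    ![d, 2 * a + c + 2 * d + 2 * e + f, 2 * b + c + 2 * d + e + 2 * f]] : Fin 4 → Fin 3 → ZMod 3) p.1 p.2

/-- The scalar `s` attached to the word `phi k`. -/
def sOf : K → ZMod 3 := fun k =>
  match k with
  | (a, b, c, d, _, _) => a + b + c + d

theorem sum_zmod3' {M : Type*} [AddCommMonoid M] (f : ZMod 3 → M) :
    ∑ r : ZMod 3, f r = f 0 + f 1 + f 2 := Fin.sum_univ_three f

/-- The property of the word `phi k` checked for every parameter `k`. -/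
abbrev PhiKey (k : K) : Prop :=
  (∀ i : Fin 4, ∑ r : ZMod 3, phi k (i, r) = -(sOf k)) ∧
    ∀ a b : ZMod 3, ∑ i : Fin 4, phi k (i, ((a • (![0, 1, 1, 1] : Fin 4 → ZMod 3) + b • (![1, 0, 1, 2] : Fin 4 → ZMod 3) : Fin 4 → ZMod 3)) i) = sOf k

set_option maxRecDepth 100000 in
theorem phi_key_00 : ∀ k : ZMod 3 × ZMod 3 × ZMod 3 × ZMod 3, PhiKey (0, 0, k) := by
  decide +kernel

set_option maxRecDepth 100000 in
theorem phi_key_01 : ∀ k : ZMod 3 × ZMod 3 × ZMod 3 × ZMod 3, PhiKey (0, 1, k) := by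
  decide +kernel

set_option maxRecDepth 100000 in
theorem phi_key_02 : ∀ k : ZMod 3 × ZMod 3 × ZMod 3 × ZMod 3, PhiKey (0, 2, k) := by
  decide +kernel

set_option maxRecDepth 100000 in
theorem phi_key_10 : ∀ k : ZMod 3 × ZMod 3 × ZMod 3 × ZMod 3, PhiKey (1, 0, k) := by
  decide +kernel

set_option maxRecDepth 100000 in
theorem phi_key_11 : ∀ k : ZMod 3 × ZMod 3 × ZMod 3 × ZMod 3, PhiKey (1, 1, k) := by
  decide +kernel

set_option maxRecDepth 100000 in
theorem phi_key_12 : ∀ k : ZMod 3 × ZMod 3 × ZMod 3 × ZMod 3, PhiKey (1, 2, k) := by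
  decide +kernel

set_option maxRecDepth 100000 in
theorem phi_key_20 : ∀ k : ZMod 3 × ZMod 3 × ZMod 3 × ZMod 3, PhiKey (2, 0, k) := by
  decide +kernel

set_option maxRecDepth 100000 in
theorem phi_key_21 : ∀ k : ZMod 3 × ZMod 3 × ZMod 3 × ZMod 3, PhiKey (2, 1, k) := by
  decide +kernel

set_option maxRecDepth 100000 in
theorem phi_key_22 : ∀ k : ZMod 3 × ZMod 3 × ZMod 3 × ZMod 3, PhiKey (2, 2, k) := by
  decide +kernel

theorem phi_key : ∀ k : K, (∀ i : Fin 4, ∑ r : ZMod 3, phi k (i, r) = -(sOf k)) ∧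
    ∀ a b : ZMod 3, ∑ i : Fin 4, phi k (i, ((a • (![0, 1, 1, 1] : Fin 4 → ZMod 3) + b • (![1, 0, 1, 2] : Fin 4 → ZMod 3) : Fin 4 → ZMod 3)) i) = sOf k := by
  rintro ⟨a, b, k⟩
  fin_cases a <;> fin_cases b
  · exact phi_key_00 k
  · exact phi_key_01 k
  · exact phi_key_02 k
  · exact phi_key_10 k
  · exact phi_key_11 k
  · exact phi_key_12 k
  · exact phi_key_20 k
  · exact phi_key_21 k
  · exact phi_key_22 k

theorem phi_mem (k : K) : phi k ∈ Cfsg.ternaryGolayCode := by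
  refine ⟨sOf k, (phi_key k).1, fun t ht => ?_⟩
  rw [Cfsg.tetracode, Submodule.mem_span_pair] at ht
  obtain ⟨a, b, rfl⟩ := ht
  exact (phi_key k).2 a b

theorem phi_injective : Function.Injective phi := by
  rintro ⟨a, b, c, d, e, f⟩ ⟨a', b', c', d', e', f'⟩ h
  have h0 : a = a' := congrFun h (0, 0)
  have h1 : b = b' := congrFun h (1, 0)
  have h2 : c = c' := congrFun h (2, 0)
  have h3 : d = d' := congrFun h (3, 0)
  have h4 : e = e' := congrFun h (0, 1)
  have h5 : f = f' := congrFun h (1, 1)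
  rw [h0, h1, h2, h3, h4, h5]

theorem ext12 (x y : Cfsg.ArrayPt → ZMod 3)
    (h00 : x (0, 0) = y (0, 0))
    (h01 : x (0, 1) = y (0, 1))
    (h02 : x (0, 2) = y (0, 2))
    (h10 : x (1, 0) = y (1, 0))
    (h11 : x (1, 1) = y (1, 1))
    (h12 : x (1, 2) = y (1, 2))
    (h20 : x (2, 0) = y (2, 0))
    (h21 : x (2, 1) = y (2, 1))
    (h22 : x (2, 2) = y (2, 2))
    (h30 : x (3, 0) = y (3, 0))
    (h31 : x (3, 1) = y (3, 1))
    (h32 : x (3, 2) = y (3, 2))
    : x = y := by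
  funext p
  obtain ⟨i, r⟩ := p
  fin_cases i <;> fin_cases r <;> assumption

theorem tet_mem (a b : ZMod 3) : (a • (![0, 1, 1, 1] : Fin 4 → ZMod 3) + b • (![1, 0, 1, 2] : Fin 4 → ZMod 3) : Fin 4 → ZMod 3) ∈ Cfsg.tetracode := by
  rw [Cfsg.tetracode, Submodule.mem_span_pair]
  exact ⟨a, b, rfl⟩

theorem eq_phi (x : Cfsg.ArrayPt → ZMod 3) (hx : x ∈ Cfsg.ternaryGolayCode) :
    phi (x (0, 0), x (1, 0), x (2, 0), x (3, 0), x (0, 1), x (1, 1)) = x := by
  obtain ⟨s, hs, hs'⟩ := hx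
  have hc0 := hs 0
  have hc1 := hs 1
  have hc2 := hs 2
  have hc3 := hs 3
  have ht0 : x (0, 0) + x (1, 0) + x (2, 0) + x (3, 0) = s := by
    have := hs' _ (tet_mem 0 0)
    rw [Fin.sum_univ_four] at this
    exact this
  have ht1 : x (0, 1) + x (1, 0) + x (2, 1) + x (3, 2) = s := by
    have := hs' _ (tet_mem 0 1)
    rw [Fin.sum_univ_four] at this
    exact this
  have ht2 : x (0, 2) + x (1, 0) + x (2, 2) + x (3, 1) = s := by
    have := hs' _ (tet_mem 0 2)
    rw [Fin.sum_univ_four] at this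
    exact this
  have ht3 : x (0, 0) + x (1, 1) + x (2, 1) + x (3, 1) = s := by
    have := hs' _ (tet_mem 1 0)
    rw [Fin.sum_univ_four] at this
    exact this
  have ht4 : x (0, 1) + x (1, 1) + x (2, 2) + x (3, 0) = s := by
    have := hs' _ (tet_mem 1 1)
    rw [Fin.sum_univ_four] at this
    exact this
  have ht5 : x (0, 2) + x (1, 1) + x (2, 0) + x (3, 2) = s := by
    have := hs' _ (tet_mem 1 2)
    rw [Fin.sum_univ_four] at this
    exact this
  have ht6 : x (0, 0) + x (1, 2) + x (2, 2) + x (3, 2) = s := by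
    have := hs' _ (tet_mem 2 0)
    rw [Fin.sum_univ_four] at this
    exact this
  have ht7 : x (0, 1) + x (1, 2) + x (2, 0) + x (3, 1) = s := by
    have := hs' _ (tet_mem 2 1)
    rw [Fin.sum_univ_four] at this
    exact this
  have ht8 : x (0, 2) + x (1, 2) + x (2, 1) + x (3, 0) = s := by
    have := hs' _ (tet_mem 2 2)
    rw [Fin.sum_univ_four] at this
    exact this
  rw [sum_zmod3'] at hc0 hc1 hc2 hc3
  have h3 : (3 : ZMod 3) = 0 := by decide
  apply ext12
  · rfl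
  · rfl
  · show x (0, 0) + 2 * x (1, 0) + 2 * x (2, 0) + 2 * x (3, 0) + 2 * x (0, 1) = x (0, 2)
    linear_combination (-1) * hc0 + (-1) * ht0 + ((1) * x (0, 0) + (1) * x (0, 1) + (1) * x (1, 0) + (1) * x (2, 0) + (1) * x (3, 0)) * h3
  · rfl
  · rfl
  · show 2 * x (0, 0) + x (1, 0) + 2 * x (2, 0) + 2 * x (3, 0) + 2 * x (1, 1) = x (1, 2)
    linear_combination (-1) * hc1 + (-1) * ht0 + ((1) * x (0, 0) + (1) * x (1, 0) + (1) * x (1, 1) + (1) * x (2, 0) + (1) * x (3, 0)) * h3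
  · rfl
  · show x (0, 0) + x (1, 0) + 2 * x (3, 0) + x (0, 1) + x (1, 1) = x (2, 1)
    linear_combination (-1) * hc3 + (1) * ht1 + (1) * ht3 + ((-1) * x (2, 1) + (1) * x (3, 0) + (1) * s) * h3
  · show x (0, 0) + x (1, 0) + x (2, 0) + 2 * x (0, 1) + 2 * x (1, 1) = x (2, 2)
    linear_combination (-1) * hc2 + (1) * hc3 + (-1) * ht0 + (-1) * ht1 + (-1) * ht3 + ((1) * x (0, 0) + (1) * x (0, 1) + (1) * x (1, 0) + (1) * x (1, 1) + (1) * x (2, 0) + (1) * x (2, 1) + (-1) * s) * h3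
  · rfl
  · show 2 * x (0, 0) + x (2, 0) + 2 * x (3, 0) + 2 * x (0, 1) + x (1, 1) = x (3, 1)
    linear_combination (1) * hc3 + (1) * ht0 + (-1) * ht1 + (1) * ht3 + ((1) * x (0, 1) + (-1) * x (3, 1)) * h3
  · show 2 * x (1, 0) + x (2, 0) + 2 * x (3, 0) + x (0, 1) + 2 * x (1, 1) = x (3, 2)
    linear_combination (1) * hc3 + (1) * ht0 + (1) * ht1 + (-1) * ht3 + ((1) * x (1, 1) + (-1) * x (3, 2)) * h3

/-- Weight as an explicit sum of twelve indicator terms. -/
def wtN (x : Cfsg.ArrayPt → ZMod 3) : ℕ :=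
    ((if x (0, 0) ≠ 0 then 1 else 0) + (if x (0, 1) ≠ 0 then 1 else 0) + (if x (0, 2) ≠ 0 then 1 else 0)) +
    ((if x (1, 0) ≠ 0 then 1 else 0) + (if x (1, 1) ≠ 0 then 1 else 0) + (if x (1, 2) ≠ 0 then 1 else 0)) +
    ((if x (2, 0) ≠ 0 then 1 else 0) + (if x (2, 1) ≠ 0 then 1 else 0) + (if x (2, 2) ≠ 0 then 1 else 0)) +
    ((if x (3, 0) ≠ 0 then 1 else 0) + (if x (3, 1) ≠ 0 then 1 else 0) + (if x (3, 2) ≠ 0 then 1 else 0))

theorem wt_eq (x : Cfsg.ArrayPt → ZMod 3) : (Cfsg.ternarySupport x).card = wtN x := by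
  simp only [Cfsg.ternarySupport, Finset.card_filter, Fintype.sum_prod_type, Fin.sum_univ_four, sum_zmod3', wtN]

set_option maxRecDepth 100000 in
theorem wtsN : ∀ k : K, wtN (phi k) = 0 ∨ wtN (phi k) = 6 ∨ wtN (phi k) = 9 ∨ wtN (phi k) = 12 := by
  decide +kernel

theorem wts : ∀ k : K, (Cfsg.ternarySupport (phi k)).card = 0 ∨ (Cfsg.ternarySupport (phi k)).card = 6 ∨
    (Cfsg.ternarySupport (phi k)).card = 9 ∨ (Cfsg.ternarySupport (phi k)).card = 12 := by
  intro k; rw [wt_eq]; exact wtsN k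

set_option maxRecDepth 100000 in
theorem cntN6 : (Finset.univ.filter (fun k : K => wtN (phi k) = 6)).card = 264 := by
  decide +kernel

set_option maxRecDepth 100000 in
theorem cntN9 : (Finset.univ.filter (fun k : K => wtN (phi k) = 9)).card = 440 := by
  decide +kernel

set_option maxRecDepth 100000 in
theorem cntN12 : (Finset.univ.filter (fun k : K => wtN (phi k) = 12)).card = 24 := by
  decide +kernel

theorem cnt6 : (Finset.univ.filter (fun k : K => (Cfsg.ternarySupport (phi k)).card = 6)).card = 264 := by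
  simp only [wt_eq]; exact cntN6

theorem cnt9 : (Finset.univ.filter (fun k : K => (Cfsg.ternarySupport (phi k)).card = 9)).card = 440 := by
  simp only [wt_eq]; exact cntN9

theorem cnt12 : (Finset.univ.filter (fun k : K => (Cfsg.ternarySupport (phi k)).card = 12)).card = 24 := by
  simp only [wt_eq]; exact cntN12

theorem card_K : Nat.card K = 729 := by
  rw [Nat.card_eq_fintype_card]
  simp [K, Fintype.card_prod, ZMod.card]

theorem set_eq (n : ℕ) : {x : Cfsg.ArrayPt → ZMod 3 | x ∈ Cfsg.ternaryGolayCode ∧ (Cfsg.ternarySupport x).card = n}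
    = phi '' ↑(Finset.univ.filter (fun k : K => (Cfsg.ternarySupport (phi k)).card = n)) := by
  ext x
  simp only [Set.mem_setOf_eq, Set.mem_image, Finset.coe_filter, Finset.mem_univ, true_and]
  constructor
  · rintro ⟨hx, hn⟩
    refine ⟨_, ?_, eq_phi x hx⟩
    rw [eq_phi x hx]; exact hn
  · rintro ⟨k, hk, rfl⟩
    exact ⟨phi_mem k, hk⟩

theorem ncard_eq (n : ℕ) : {x : Cfsg.ArrayPt → ZMod 3 | x ∈ Cfsg.ternaryGolayCode ∧ (Cfsg.ternarySupport x).card = n}.ncard
    = (Finset.univ.filter (fun k : K => (Cfsg.ternarySupport (phi k)).card = n)).card := by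
  rw [set_eq, Set.ncard_image_of_injective _ phi_injective, Set.ncard_coe_finset]

/-- The length-12 ternary code has 729 words with weight distribution 0^1 6^264 9^440 12^24. -/
theorem result : Nat.card ↥Cfsg.ternaryGolayCode = 729 ∧ (∀ x ∈ Cfsg.ternaryGolayCode, x ≠ 0 → (Cfsg.ternarySupport x).card = 6 ∨ (Cfsg.ternarySupport x).card = 9 ∨ (Cfsg.ternarySupport x).card = 12) ∧ {x : Cfsg.ArrayPt → ZMod 3 | x ∈ Cfsg.ternaryGolayCode ∧ (Cfsg.ternarySupport x).card = 6}.ncard = 264 ∧ {x : Cfsg.ArrayPt → ZMod 3 | x ∈ Cfsg.ternaryGolayCode ∧ (Cfsg.ternarySupport x).card = 9}.ncard = 440 ∧ {x : Cfsg.ArrayPt → ZMod 3 | x ∈ Cfsg.ternaryGolayCode ∧ (Cfsg.ternarySupport x).card = 12}.ncard = 24 := by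
  refine ⟨?_, ?_, ?_, ?_, ?_⟩
  · rw [← card_K]
    symm
    refine Nat.card_congr (Equiv.ofBijective (fun k => (⟨phi k, phi_mem k⟩ : ↥Cfsg.ternaryGolayCode)) ⟨?_, ?_⟩)
    · intro k k' h
      exact phi_injective (congrArg Subtype.val h)
    · rintro ⟨x, hx⟩
      exact ⟨(x (0, 0), x (1, 0), x (2, 0), x (3, 0), x (0, 1), x (1, 1)), Subtype.ext (eq_phi x hx)⟩
  · intro x hx hx0
    have hk := wts (x (0, 0), x (1, 0), x (2, 0), x (3, 0), x (0, 1), x (1, 1))
    rw [eq_phi x hx] at hk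
    rcases hk with h | h | h | h
    · exfalso
      apply hx0
      rw [Finset.card_eq_zero] at h
      funext p
      by_contra hp
      have : p ∈ Cfsg.ternarySupport x := by
        simp only [Cfsg.ternarySupport, Finset.mem_filter, Finset.mem_univ, true_and]
        exact hp
      rw [h] at this
      exact absurd this (Finset.notMem_empty p)
    · exact Or.inl h
    · exact Or.inr (Or.inl h)
    · exact Or.inr (Or.inr h)
  · rw [ncard_eq]; exact cnt6
  · rw [ncard_eq]; exact cnt9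
  · rw [ncard_eq]; exact cnt12

end Cfsg.Agent.S1590
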