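-- Statement S2635 (row 2635).
import Cfsg.Statements.S2635
import Cfsg.Agent.Lib.helper42.Dickson2
import Cfsg.Agent.S0786

set_option autoImplicit false
open Cfsg

namespace Cfsg.Agent.S2635

open Cfsg.Agent.Lib.helper42 Cfsg.Agent.Lib.helper17

theorem two_eq_zero_of_charP {F : Type*} [Field F] [CharP F 2] : (2 : F) = 0 := by
  have := CharP.cast_eq_zero F 2
  exact_mod_cast this

/-- A product of an even number of reflections lies in the subgroup generated by the products of two
reflections. -/
theorem prod_mem_closure {F : Type*} [Field F] {n : ℕ} (Q : QuadraticForm F (Fin n → F)) (k : ℕ) :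
    ∀ vs : List (Fin n → F), (∀ v ∈ vs, Q v ≠ 0) → vs.length = 2 * k →
      (vs.map (reflT Q)).prod ∈ Subgroup.closure {g : ↥(Cfsg.isometryGroup F ⇑Q) |
        ∃ u v : Fin n → F, Q u ≠ 0 ∧ Q v ≠ 0 ∧
          ((g : Matrix.GeneralLinearGroup (Fin n) F) : Matrix (Fin n) (Fin n) F)
            = Cfsg.reflectionMatrix ⇑Q u * Cfsg.reflectionMatrix ⇑Q v} := by
  induction k with
  | zero =>
    intro vs _ hlen
    have : vs = [] := List.length_eq_zero_iff.mp (by omega)
    rw [this]
    simp
  | succ k ih =>
    intro vs hvs hlen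
    match vs, hvs, hlen with
    | a :: b :: rest, hvs, hlen =>
      have ha : Q a ≠ 0 := hvs a (by simp)
      have hb : Q b ≠ 0 := hvs b (by simp)
      have hrest := ih rest (fun v hv => hvs v (by simp [hv])) (by simp at hlen; omega)
      rw [List.map_cons, List.map_cons, List.prod_cons, List.prod_cons, ← mul_assoc]
      refine Subgroup.mul_mem _ (Subgroup.subset_closure ⟨a, b, ha, hb, ?_⟩) hrest
      rw [reflT_eq Q a ha, reflT_eq Q b hb, Subgroup.coe_mul, Units.val_mul, reflectionIsom_coe,
        reflectionIsom_coe]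
    | [], _, hlen => simp at hlen
    | [a], _, hlen => simp at hlen; omega

/-- Let Q be a non-degenerate quadratic form on F^n over a finite field of characteristic two (n ≥ 2, excluding n = 4 over F_2). Then Ω(Q) is generated by the products r_u r_v of two reflections, u and v non-singular. -/
theorem result {F : Type*} [Field F] [Fintype F] [CharP F 2] {n : ℕ} (hn : 2 ≤ n) (h : Fintype.card F ≠ 2 ∨ n ≠ 4) (Q : QuadraticForm F (Fin n → F)) (hQ : (QuadraticMap.polarBilin Q).Nondegenerate) : Cfsg.Omega F ⇑Q = Subgroup.closure {g : ↥(Cfsg.isometryGroup F ⇑Q) | ∃ u v : Fin n → F, Q u ≠ 0 ∧ Q v ≠ 0 ∧ ((g : Matrix.GeneralLinearGroup (Fin n) F) : Matrix (Fin n) (Fin n) F) = Cfsg.reflectionMatrix ⇑Q u * Cfsg.reflectionMatrix ⇑Q v} := by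
  have h2 : (2 : F) = 0 := two_eq_zero_of_charP
  have hgen := Cfsg.Agent.S0786.reflSubgroup_eq_top' Q hQ (by simpa using h)
  apply le_antisymm
  · intro g hg
    rw [mem_Omega_iff_even_rank h2 Q hQ hgen] at hg
    obtain ⟨vs, hvs, hprod⟩ := exists_refl_list Q g (by rw [hgen]; exact Subgroup.mem_top g)
    have hpar := rank_refl_list Q hQ vs hvs
    rw [← hprod] at hpar
    obtain ⟨k, hk⟩ : Even vs.length := by
      rw [Nat.even_iff] at hg ⊢
      omega
    rw [eq_prod_reflT Q g vs hvs hprod]
    exact prod_mem_closure Q k vs hvs (by omega)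
  · rw [Subgroup.closure_le]
    rintro g ⟨u, v, hu, hv, hg⟩
    have : g = reflectionIsom Q u hu * reflectionIsom Q v hv := by
      apply Subtype.ext
      apply Units.ext
      rw [hg, Subgroup.coe_mul, Units.val_mul, reflectionIsom_coe, reflectionIsom_coe]
    rw [this]
    exact refl_mul_refl_mem_commutator h2 Q hQ u v hu hv

end Cfsg.Agent.S2635
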