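import Cfsg.Statements.S2505
import Mathlib
-- import your own Cfsg.Agent.* helpers here

set_option autoImplicit false
open Cfsg

namespace Cfsg.Agent.S2505

/-- the maximal product of positive integers with sum `n` -/
def maxProd : ℕ → ℕ
  | 0 => 1
  | 1 => 1
  | 2 => 2
  | 3 => 3
  | 4 => 4
  | (n + 5) => 3 * maxProd (n + 2)

theorem maxProd_add_five (n : ℕ) : maxProd (n + 5) = 3 * maxProd (n + 2) := by
  rw [maxProd]

theorem maxProd_mono1 : ∀ n, maxProd n ≤ maxProd (n + 1)
  | 0 => by decide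
  | 1 => by decide
  | 2 => by decide
  | 3 => by decide
  | 4 => by decide
  | (n + 5) => by
    have ih := maxProd_mono1 (n + 2)
    have e1 := maxProd_add_five n
    have e2 := maxProd_add_five (n + 1)
    have e3 : n + 5 + 1 = n + 1 + 5 := by omega
    have e4 : n + 1 + 2 = n + 2 + 1 := by omega
    rw [e3, e1, e2, e4]
    omega

theorem maxProd_two : ∀ n, 2 * maxProd n ≤ maxProd (n + 2)
  | 0 => by decide
  | 1 => by decide
  | 2 => by decide
  | 3 => by decide
  | 4 => by decide
  | (n + 5) => by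
    have ih := maxProd_two (n + 2)
    have e1 := maxProd_add_five n
    have e2 := maxProd_add_five (n + 2)
    have e3 : n + 5 + 2 = n + 2 + 5 := by omega
    rw [e3, e1, e2]
    omega

theorem maxProd_three : ∀ n, 3 * maxProd n ≤ maxProd (n + 3)
  | 0 => by decide
  | 1 => by decide
  | 2 => by decide
  | 3 => by decide
  | 4 => by decide
  | (n + 5) => by
    have ih := maxProd_three (n + 2)
    have e1 := maxProd_add_five n
    have e2 := maxProd_add_five (n + 3)
    have e3 : n + 5 + 3 = n + 3 + 5 := by omega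
    have e4 : n + 3 + 2 = n + 2 + 3 := by omega
    rw [e3, e1, e2, e4]
    omega

theorem mul_maxProd_le (j : ℕ) : ∀ m, 1 ≤ j → j * maxProd m ≤ maxProd (m + j) := by
  induction j using Nat.strong_induction_on with
  | _ j ih =>
    intro m hj
    rcases Nat.lt_or_ge j 5 with h5 | h5
    · interval_cases j
      · simpa using maxProd_mono1 m
      · exact maxProd_two m
      · exact maxProd_three m
      · have h1 := maxProd_two m
        have h2 := maxProd_two (m + 2)
        have e : m + 2 + 2 = m + 4 := by omega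
        rw [e] at h2
        omega
    · have h1 := ih (j - 3) (by omega) m (by omega)
      have h2 := maxProd_three (m + (j - 3))
      have e : m + (j - 3) + 3 = m + j := by omega
      rw [e] at h2
      have h3 : j * maxProd m ≤ 3 * ((j - 3) * maxProd m) := by
        rw [← mul_assoc]
        apply Nat.mul_le_mul_right
        omega
      omega

theorem prod_le_maxProd {Ω : Type*} (s : Finset Ω) (f : Ω → ℕ) (hf : ∀ ω ∈ s, 1 ≤ f ω) :
    ∏ ω ∈ s, f ω ≤ maxProd (∑ ω ∈ s, f ω) := by
  classical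
  induction s using Finset.induction_on with
  | empty => simp [maxProd]
  | insert a s ha ih =>
    rw [Finset.prod_insert ha, Finset.sum_insert ha]
    have h1 := ih (fun ω hω => hf ω (Finset.mem_insert_of_mem hω))
    have h2 := mul_maxProd_le (f a) (∑ ω ∈ s, f ω) (hf a (Finset.mem_insert_self a s))
    rw [add_comm]
    exact le_trans (Nat.mul_le_mul_left _ h1) h2

theorem maxProd_three_mul : ∀ k, 1 ≤ k → maxProd (3 * k) = 3 ^ k
  | 0 => by intro h; omega
  | 1 => by intro _; decide
  | (k + 2) => by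
    intro _
    have ih := maxProd_three_mul (k + 1) (by omega)
    have e : 3 * (k + 2) = 3 * k + 1 + 5 := by omega
    have e2 : 3 * k + 1 + 2 = 3 * (k + 1) := by omega
    rw [e, maxProd_add_five, e2, ih, pow_succ 3 (k + 1)]
    ring

theorem maxProd_three_mul_add_one : ∀ k, 1 ≤ k → maxProd (3 * k + 1) = 4 * 3 ^ (k - 1)
  | 0 => by intro h; omega
  | 1 => by intro _; decide
  | (k + 2) => by
    intro _
    have ih := maxProd_three_mul_add_one (k + 1) (by omega)
    have e : 3 * (k + 2) + 1 = 3 * k + 2 + 5 := by omega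
    have e2 : 3 * k + 2 + 2 = 3 * (k + 1) + 1 := by omega
    have e3 : k + 2 - 1 = (k + 1 - 1) + 1 := by omega
    rw [e, maxProd_add_five, e2, ih, e3, pow_succ]
    ring

theorem maxProd_three_mul_add_two : ∀ k, maxProd (3 * k + 2) = 2 * 3 ^ k
  | 0 => by decide
  | (k + 1) => by
    have ih := maxProd_three_mul_add_two k
    have e : 3 * (k + 1) + 2 = 3 * k + 5 := by omega
    rw [e, maxProd_add_five, ih, pow_succ]
    ring

open MulAction in
/-- an abelian permutation group has order at most `maxProd` of the degree -/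
theorem card_le_maxProd {α : Type*} [Fintype α] (A : Subgroup (Equiv.Perm α))
    (hA : IsMulCommutative A) : Nat.card A ≤ maxProd (Fintype.card α) := by
  classical
  let Ω := orbitRel.Quotient A α
  have : Fintype Ω := Fintype.ofFinite Ω
  -- the injection
  let Φ : A → (∀ ω : Ω, orbit A (Quotient.out ω : α)) := fun a ω => ⟨a • (Quotient.out ω : α), mem_orbit _ _⟩
  have hΦ : Function.Injective Φ := by
    intro a b hab
    apply Subtype.ext
    ext y
    have hy : y ∈ orbit A (Quotient.out (Quotient.mk'' y : Ω) : α) := by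
      have h1 : (Quotient.mk'' (Quotient.out (Quotient.mk'' y : Ω) : α) : Ω) = Quotient.mk'' y :=
        Quotient.out_eq' _
      have h2 := Quotient.exact' h1
      exact (orbitRel_apply).mp (Setoid.symm' _ h2)
    obtain ⟨g, hg'⟩ := hy
    have hg : g • (Quotient.out (Quotient.mk'' y : Ω) : α) = y := hg'
    have h3 := congrArg Subtype.val (congrFun hab (Quotient.mk'' y : Ω))
    simp only [Φ] at h3
    have hag : a * g = g * a := hA.is_comm.comm a g
    have hbg : b * g = g * b := hA.is_comm.comm b g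
    calc (a : Equiv.Perm α) y = (a * g) • (Quotient.out (Quotient.mk'' y : Ω) : α) := by
          rw [mul_smul, hg]; rfl
      _ = (g * a) • (Quotient.out (Quotient.mk'' y : Ω) : α) := by rw [hag]
      _ = g • (a • (Quotient.out (Quotient.mk'' y : Ω) : α)) := by rw [mul_smul]
      _ = g • (b • (Quotient.out (Quotient.mk'' y : Ω) : α)) := by rw [h3]
      _ = (g * b) • (Quotient.out (Quotient.mk'' y : Ω) : α) := by rw [mul_smul]
      _ = (b * g) • (Quotient.out (Quotient.mk'' y : Ω) : α) := by rw [hbg]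
      _ = (b : Equiv.Perm α) y := by rw [mul_smul, hg]; rfl
  have h1 : Nat.card A ≤ ∏ ω : Ω, Nat.card (orbit A (Quotient.out ω : α)) := by
    have := Nat.card_le_card_of_injective Φ hΦ
    rwa [Nat.card_pi] at this
  have h2 : ∑ ω : Ω, Nat.card (orbit A (Quotient.out ω : α)) = Fintype.card α := by
    have := Nat.card_congr (selfEquivSigmaOrbits A α)
    rw [Nat.card_sigma, Nat.card_eq_fintype_card] at this
    exact this.symm
  have h3 := prod_le_maxProd (Finset.univ : Finset Ω) (fun ω => Nat.card (orbit A (Quotient.out ω : α)))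
    (fun ω _ => Nat.card_pos_iff.mpr ⟨⟨⟨_, mem_orbit_self _⟩⟩, inferInstance⟩)
  rw [h2] at h3
  exact le_trans h1 h3

/-- existence of an abelian subgroup of a given order in the symmetric group of a given degree -/
def HasAb (n c : ℕ) : Prop :=
  ∃ A : Subgroup (Equiv.Perm (Fin n)), IsMulCommutative A ∧ Nat.card A = c

theorem hasAb_zero : HasAb 0 1 := by
  refine ⟨⊥, ⟨⟨fun a b => ?_⟩⟩, by simp⟩
  apply Subtype.ext
  have ha := Subgroup.mem_bot.mp a.2
  have hb := Subgroup.mem_bot.mp b.2
  simp [ha, hb]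

theorem hasAb_cyclic (n : ℕ) (hn : 2 ≤ n) : HasAb n n := by
  refine ⟨Subgroup.zpowers (finRotate n), inferInstance, ?_⟩
  rw [Nat.card_zpowers, ← Equiv.Perm.lcm_cycleType, cycleType_finRotate_of_le hn]
  simp

theorem hasAb_mul {m l c d : ℕ} (h1 : HasAb m c) (h2 : HasAb l d) : HasAb (m + l) (c * d) := by
  obtain ⟨A, hA, rfl⟩ := h1
  obtain ⟨B, hB, rfl⟩ := h2
  let ψ : Equiv.Perm (Fin m) × Equiv.Perm (Fin l) →* Equiv.Perm (Fin (m + l)) :=
    (Equiv.permCongrHom finSumFinEquiv).toMonoidHom.comp (Equiv.Perm.sumCongrHom (Fin m) (Fin l))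
  have hψ : Function.Injective ψ :=
    (Equiv.permCongrHom finSumFinEquiv).injective.comp Equiv.Perm.sumCongrHom_injective
  refine ⟨(A.prod B).map ψ, ⟨⟨fun x y => ?_⟩⟩, ?_⟩
  · obtain ⟨x, hx⟩ := x
    obtain ⟨y, hy⟩ := y
    obtain ⟨⟨a, b⟩, hab, rfl⟩ := hx
    obtain ⟨⟨a', b'⟩, hab', rfl⟩ := hy
    apply Subtype.ext
    show ψ (a, b) * ψ (a', b') = ψ (a', b') * ψ (a, b)
    rw [← map_mul, ← map_mul]
    congr 1
    have e1 : a * a' = a' * a := by
      have := hA.is_comm.comm ⟨a, hab.1⟩ ⟨a', hab'.1⟩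
      exact congrArg Subtype.val this
    have e2 : b * b' = b' * b := by
      have := hB.is_comm.comm ⟨b, hab.2⟩ ⟨b', hab'.2⟩
      exact congrArg Subtype.val this
    exact Prod.ext e1 e2
  · rw [Subgroup.card_map_of_injective hψ, Nat.card_congr (Subgroup.prodEquiv A B).toEquiv,
      Nat.card_prod]

theorem hasAb_three_mul : ∀ k, HasAb (3 * k) (3 ^ k)
  | 0 => hasAb_zero
  | (k + 1) => by
    have h := hasAb_mul (hasAb_three_mul k) (hasAb_cyclic 3 (by omega))
    have e : 3 * (k + 1) = 3 * k + 3 := by omega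
    rw [e, pow_succ]
    exact h

/-- The largest order of an abelian subgroup of the symmetric group of degree n is 3^k when n = 3k, 4·3^(k−1) when n = 3k + 1, and 2·3^k when n = 3k + 2, for every k ≥ 1. -/
theorem result (k : ℕ) (hk : 1 ≤ k) :
    IsGreatest {c : ℕ | ∃ A : Subgroup (Equiv.Perm (Fin (3 * k))), IsMulCommutative A ∧ Nat.card A = c} (3 ^ k) ∧
    IsGreatest {c : ℕ | ∃ A : Subgroup (Equiv.Perm (Fin (3 * k + 1))), IsMulCommutative A ∧ Nat.card A = c}
      (4 * 3 ^ (k - 1)) ∧
    IsGreatest {c : ℕ | ∃ A : Subgroup (Equiv.Perm (Fin (3 * k + 2))), IsMulCommutative A ∧ Nat.card A = c}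
      (2 * 3 ^ k) := by
  obtain ⟨k', rfl⟩ : ∃ k', k = k' + 1 := ⟨k - 1, by omega⟩
  refine ⟨⟨?_, ?_⟩, ⟨?_, ?_⟩, ⟨?_, ?_⟩⟩
  · exact hasAb_three_mul (k' + 1)
  · rintro c ⟨A, hA, rfl⟩
    have := card_le_maxProd A hA
    rwa [Fintype.card_fin, maxProd_three_mul _ hk] at this
  · have h := hasAb_mul (hasAb_three_mul k') (hasAb_cyclic 4 (by omega))
    have e : 3 * (k' + 1) + 1 = 3 * k' + 4 := by omega
    show HasAb (3 * (k' + 1) + 1) (4 * 3 ^ (k' + 1 - 1))
    rw [e, Nat.add_sub_cancel, mul_comm 4]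
    exact h
  · rintro c ⟨A, hA, rfl⟩
    have := card_le_maxProd A hA
    rwa [Fintype.card_fin, maxProd_three_mul_add_one _ hk] at this
  · have h := hasAb_mul (hasAb_three_mul (k' + 1)) (hasAb_cyclic 2 (by omega))
    show HasAb (3 * (k' + 1) + 2) (2 * 3 ^ (k' + 1))
    rw [mul_comm 2]
    exact h
  · rintro c ⟨A, hA, rfl⟩
    have := card_le_maxProd A hA
    rwa [Fintype.card_fin, maxProd_three_mul_add_two] at this

end Cfsg.Agent.S2505
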