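import Cfsg.Statements.S2504
import Mathlib
import Cfsg.Agent.S2505
-- import your own Cfsg.Agent.* helpers here

set_option autoImplicit false
open Cfsg

namespace Cfsg.Agent.S2504

open Cfsg.Agent.S2505 in
/-- a part of size at least four costs a factor `8/9` -/
theorem mul_maxProd_le_bound (k : ℕ) (hk : 2 ≤ k) (j : ℕ) :
    ∀ m, 4 ≤ j → m + j = 3 * k + 2 → j * maxProd m ≤ 16 * 3 ^ (k - 2) := by
  obtain ⟨k', rfl⟩ : ∃ k', k = k' + 2 := ⟨k - 2, by omega⟩
  simp only [Nat.add_sub_cancel]
  induction j using Nat.strong_induction_on with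
  | _ j ih =>
    intro m hj hm
    rcases Nat.lt_or_ge j 7 with h7 | h7
    · interval_cases j
      · have e : m = 3 * (k' + 1) + 1 := by omega
        rw [e, maxProd_three_mul_add_one _ (by omega), Nat.add_sub_cancel]
        omega
      · have e : m = 3 * (k' + 1) := by omega
        rw [e, maxProd_three_mul _ (by omega), pow_succ]
        omega
      · have e : m = 3 * k' + 2 := by omega
        rw [e, maxProd_three_mul_add_two]
        omega
    · have h1 := ih (j - 3) (by omega) (m + 3) (by omega) (by omega)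
      have h2 := maxProd_three m
      have h3 : j * maxProd m ≤ (j - 3) * (3 * maxProd m) := by
        rw [← mul_assoc]
        apply Nat.mul_le_mul_right
        omega
      exact le_trans h3 (le_trans (Nat.mul_le_mul_left _ h2) h1)

open Cfsg.Agent.S2505 in
/-- the numeric dichotomy for sums `3k+2` -/
theorem numeric {Ω : Type*} [DecidableEq Ω] (s : Finset Ω) (f : Ω → ℕ) (hf : ∀ ω ∈ s, 1 ≤ f ω)
    (k : ℕ) (hk : 2 ≤ k) (hsum : ∑ ω ∈ s, f ω = 3 * k + 2) :
    ∏ ω ∈ s, f ω ≤ 16 * 3 ^ (k - 2) ∨ ∃ ω₀ ∈ s, f ω₀ = 2 ∧ ∀ ω ∈ s, ω ≠ ω₀ → f ω = 3 := by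
  have herase : ∀ ω ∈ s, ∏ x ∈ s.erase ω, f x ≤ maxProd (3 * k + 2 - f ω) := by
    intro ω hω
    have h1 := prod_le_maxProd (s.erase ω) f (fun x hx => hf x (Finset.mem_of_mem_erase hx))
    have h2 := Finset.add_sum_erase s f hω
    have e : ∑ x ∈ s.erase ω, f x = 3 * k + 2 - f ω := by omega
    rwa [e] at h1
  have hk3 : (3 : ℕ) ^ (k - 1) = 3 * 3 ^ (k - 2) := by
    obtain ⟨k', rfl⟩ : ∃ k', k = k' + 2 := ⟨k - 2, by omega⟩
    rw [show k' + 2 - 1 = k' + 1 by omega, Nat.add_sub_cancel, pow_succ, mul_comm]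
  by_cases h1 : ∃ ω ∈ s, f ω = 1
  · left
    obtain ⟨ω, hω, hfω⟩ := h1
    rw [← Finset.mul_prod_erase s f hω, hfω, one_mul]
    have h2 := herase ω hω
    rw [hfω, show 3 * k + 2 - 1 = 3 * k + 1 by omega, maxProd_three_mul_add_one k (by omega)] at h2
    rw [hk3] at h2
    omega
  by_cases h4 : ∃ ω ∈ s, 4 ≤ f ω
  · left
    obtain ⟨ω, hω, hfω⟩ := h4
    rw [← Finset.mul_prod_erase s f hω]
    have h2 := herase ω hω
    have hle : f ω ≤ 3 * k + 2 := by
      rw [← hsum]
      exact Finset.single_le_sum (fun x _ => Nat.zero_le (f x)) hω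
    have h3 := mul_maxProd_le_bound k hk (f ω) (3 * k + 2 - f ω) hfω (by omega)
    exact le_trans (Nat.mul_le_mul_left _ h2) h3
  have h23 : ∀ ω ∈ s, f ω = 2 ∨ f ω = 3 := by
    intro ω hω
    have a1 := hf ω hω
    have a2 : f ω ≠ 1 := fun h => h1 ⟨ω, hω, h⟩
    have a3 : ¬ 4 ≤ f ω := fun h => h4 ⟨ω, hω, h⟩
    omega
  by_cases h22 : ∃ ω₁ ∈ s, ∃ ω₂ ∈ s, ω₁ ≠ ω₂ ∧ f ω₁ = 2 ∧ f ω₂ = 2
  · left
    obtain ⟨ω₁, hω₁, ω₂, hω₂, hne, hf1, hf2⟩ := h22
    have hω₂' : ω₂ ∈ s.erase ω₁ := Finset.mem_erase.mpr ⟨Ne.symm hne, hω₂⟩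
    rw [← Finset.mul_prod_erase s f hω₁, ← Finset.mul_prod_erase (s.erase ω₁) f hω₂', hf1, hf2]
    have h1' := prod_le_maxProd ((s.erase ω₁).erase ω₂) f
      (fun x hx => hf x (Finset.mem_of_mem_erase (Finset.mem_of_mem_erase hx)))
    have h2 := Finset.add_sum_erase s f hω₁
    have h3 := Finset.add_sum_erase (s.erase ω₁) f hω₂'
    have e : ∑ x ∈ (s.erase ω₁).erase ω₂, f x = 3 * (k - 1) + 1 := by omega
    rw [e, maxProd_three_mul_add_one (k - 1) (by omega), show k - 1 - 1 = k - 2 by omega] at h1'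
    omega
  right
  by_cases hex : ∃ ω₀ ∈ s, f ω₀ = 2
  · obtain ⟨ω₀, hω₀, hf0⟩ := hex
    refine ⟨ω₀, hω₀, hf0, ?_⟩
    intro ω hω hne
    rcases h23 ω hω with h | h
    · exact absurd ⟨ω, hω, ω₀, hω₀, hne, h, hf0⟩ h22
    · exact h
  · exfalso
    have hall : ∀ ω ∈ s, f ω = 3 := by
      intro ω hω
      rcases h23 ω hω with h | h
      · exact absurd ⟨ω, hω, h⟩ hex
      · exact h
    rw [Finset.sum_congr rfl hall, Finset.sum_const, smul_eq_mul] at hsum
    omega

open MulAction in
theorem eq_of_smul_out_eq {α : Type*} (A : Subgroup (Equiv.Perm α)) (hA : IsMulCommutative A)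
    (a b : A)
    (h : ∀ ω : orbitRel.Quotient A α, a • (Quotient.out ω : α) = b • (Quotient.out ω : α)) :
    a = b := by
  apply Subtype.ext
  ext y
  have hy : y ∈ orbit A (Quotient.out (Quotient.mk'' y : orbitRel.Quotient A α) : α) := by
    have h1 : (Quotient.mk'' (Quotient.out (Quotient.mk'' y : orbitRel.Quotient A α) : α) :
        orbitRel.Quotient A α) = Quotient.mk'' y := Quotient.out_eq' _
    have h2 := Quotient.exact' h1
    exact (orbitRel_apply).mp (Setoid.symm' _ h2)
  obtain ⟨g, hg'⟩ := hy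
  have hg : g • (Quotient.out (Quotient.mk'' y : orbitRel.Quotient A α) : α) = y := hg'
  have h3 := h (Quotient.mk'' y)
  have hag : a * g = g * a := hA.is_comm.comm a g
  have hbg : b * g = g * b := hA.is_comm.comm b g
  calc (a : Equiv.Perm α) y = (a * g) • (Quotient.out (Quotient.mk'' y : orbitRel.Quotient A α) : α) := by
        rw [mul_smul, hg]; rfl
    _ = (g * a) • (Quotient.out (Quotient.mk'' y : orbitRel.Quotient A α) : α) := by rw [hag]
    _ = g • (a • (Quotient.out (Quotient.mk'' y : orbitRel.Quotient A α) : α)) := by rw [mul_smul]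
    _ = g • (b • (Quotient.out (Quotient.mk'' y : orbitRel.Quotient A α) : α)) := by rw [h3]
    _ = (g * b) • (Quotient.out (Quotient.mk'' y : orbitRel.Quotient A α) : α) := by rw [mul_smul]
    _ = (b * g) • (Quotient.out (Quotient.mk'' y : orbitRel.Quotient A α) : α) := by rw [hbg]
    _ = (b : Equiv.Perm α) y := by rw [mul_smul, hg]; rfl

open MulAction in
/-- an abelian group of even permutations of `3k+2` points has order at most `16 * 3^(k-2)` -/
theorem card_le_of_even {α : Type*} [Fintype α] [DecidableEq α] (A : Subgroup (Equiv.Perm α))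
    (hA : IsMulCommutative A) (heven : A ≤ alternatingGroup α) (k : ℕ) (hk : 2 ≤ k)
    (hcard : Fintype.card α = 3 * k + 2) : Nat.card A ≤ 16 * 3 ^ (k - 2) := by
  classical
  have : Fintype (orbitRel.Quotient A α) := Fintype.ofFinite _
  let f : orbitRel.Quotient A α → ℕ := fun ω => Nat.card (orbit A (Quotient.out ω : α))
  have hf : ∀ ω ∈ (Finset.univ : Finset (orbitRel.Quotient A α)), 1 ≤ f ω :=
    fun ω _ => Nat.card_pos_iff.mpr ⟨⟨⟨_, mem_orbit_self _⟩⟩, inferInstance⟩
  have hsum : ∑ ω : orbitRel.Quotient A α, f ω = 3 * k + 2 := by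
    have := Nat.card_congr (selfEquivSigmaOrbits A α)
    rw [Nat.card_sigma, Nat.card_eq_fintype_card, hcard] at this
    exact this.symm
  have hgen : Nat.card A ≤ ∏ ω : orbitRel.Quotient A α, f ω := by
    have hinj : Function.Injective (fun (a : A) (ω : orbitRel.Quotient A α) =>
        (⟨a • (Quotient.out ω : α), mem_orbit _ _⟩ : orbit A (Quotient.out ω : α))) := by
      intro a b hab
      apply eq_of_smul_out_eq A hA
      intro ω
      exact congrArg Subtype.val (congrFun hab ω)
    have := Nat.card_le_card_of_injective _ hinj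
    rwa [Nat.card_pi] at this
  rcases numeric Finset.univ f hf k hk hsum with h | ⟨ω₀, -, h2, h3⟩
  · exact le_trans hgen h
  · -- the exceptional configuration: one orbit of size two, all others of size three
    have hnormal : ∀ S : Subgroup A, S.Normal := fun S => ⟨fun n hn g => by
      have : g * n * g⁻¹ = n := by
        rw [hA.is_comm.comm g n, mul_assoc, mul_inv_cancel, mul_one]
      rw [this]
      exact hn⟩
    have hfix : ∀ a : A, a • (Quotient.out ω₀ : α) = Quotient.out ω₀ := by
      intro a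
      by_contra hne
      have hb_out : ∀ ω : orbitRel.Quotient A α, ω ≠ ω₀ →
          (a ^ 3) • (Quotient.out ω : α) = Quotient.out ω := by
        intro ω hω
        have hidx : (stabilizer A (Quotient.out ω : α)).index = 3 := by
          rw [index_stabilizer, ← Nat.card_coe_set_eq]
          exact h3 ω (Finset.mem_univ _) hω
        have := hnormal (stabilizer A (Quotient.out ω : α))
        have := Subgroup.pow_index_mem (stabilizer A (Quotient.out ω : α)) a
        rw [hidx] at this
        exact this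
      have ha2 : (a ^ 2) • (Quotient.out ω₀ : α) = Quotient.out ω₀ := by
        have hidx : (stabilizer A (Quotient.out ω₀ : α)).index = 2 := by
          rw [index_stabilizer, ← Nat.card_coe_set_eq]
          exact h2
        have := hnormal (stabilizer A (Quotient.out ω₀ : α))
        have := Subgroup.pow_index_mem (stabilizer A (Quotient.out ω₀ : α)) a
        rw [hidx] at this
        exact this
      have hb_x0 : (a ^ 3) • (Quotient.out ω₀ : α) = a • (Quotient.out ω₀ : α) := by
        rw [pow_succ' a 2, mul_smul, ha2]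
      have hb_ax0 : (a ^ 3) • (a • (Quotient.out ω₀ : α)) = Quotient.out ω₀ := by
        rw [smul_smul, ← pow_succ, pow_succ' a 3, mul_smul, hb_x0, smul_smul, ← pow_two, ha2]
      have hb_other : ∀ y : α, y ≠ (Quotient.out ω₀ : α) → y ≠ a • (Quotient.out ω₀ : α) →
          (a ^ 3) • y = y := by
        intro y hy1 hy2
        have hyorb : y ∈ orbit A (Quotient.out (Quotient.mk'' y : orbitRel.Quotient A α) : α) := by
          have h1 : (Quotient.mk'' (Quotient.out (Quotient.mk'' y : orbitRel.Quotient A α) : α) :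
              orbitRel.Quotient A α) = Quotient.mk'' y := Quotient.out_eq' _
          have h2 := Quotient.exact' h1
          exact (orbitRel_apply).mp (Setoid.symm' _ h2)
        have hω : (Quotient.mk'' y : orbitRel.Quotient A α) ≠ ω₀ := by
          intro h
          rw [h] at hyorb
          -- three distinct points in an orbit of size two
          have hsub : ({(Quotient.out ω₀ : α), a • (Quotient.out ω₀ : α), y} : Finset α) ⊆
              (orbit A (Quotient.out ω₀ : α)).toFinset := by
            intro z hz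
            rw [Set.mem_toFinset]
            simp only [Finset.mem_insert, Finset.mem_singleton] at hz
            rcases hz with rfl | rfl | rfl
            · exact mem_orbit_self _
            · exact mem_orbit _ _
            · exact hyorb
          have hc := Finset.card_le_card hsub
          have hc3 : ({(Quotient.out ω₀ : α), a • (Quotient.out ω₀ : α), y} : Finset α).card = 3 := by
            rw [Finset.card_insert_of_notMem, Finset.card_insert_of_notMem, Finset.card_singleton]
            · simp only [Finset.mem_singleton]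
              exact fun h => hy2 h.symm
            · simp only [Finset.mem_insert, Finset.mem_singleton]
              rintro (h | h)
              · exact hne h.symm
              · exact hy1 h.symm
          have hc2 : (orbit A (Quotient.out ω₀ : α)).toFinset.card = 2 := by
            rw [Set.toFinset_card, ← Nat.card_eq_fintype_card]
            exact h2
          omega
        obtain ⟨g, hg'⟩ := hyorb
        have hg : g • (Quotient.out (Quotient.mk'' y : orbitRel.Quotient A α) : α) = y := hg'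
        rw [← hg, smul_smul, hA.is_comm.comm (a ^ 3) g, mul_smul, hb_out _ hω]
      have hswap : ((a ^ 3 : A) : Equiv.Perm α) =
          Equiv.swap (Quotient.out ω₀ : α) (a • (Quotient.out ω₀ : α)) := by
        ext y
        by_cases hy1 : y = (Quotient.out ω₀ : α)
        · rw [hy1, Equiv.swap_apply_left]
          exact hb_x0
        by_cases hy2 : y = a • (Quotient.out ω₀ : α)
        · rw [hy2, Equiv.swap_apply_right]
          exact hb_ax0
        · rw [Equiv.swap_apply_of_ne_of_ne hy1 hy2]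
          exact hb_other y hy1 hy2
      have hsign : Equiv.Perm.sign ((a ^ 3 : A) : Equiv.Perm α) = 1 :=
        Equiv.Perm.mem_alternatingGroup.mp (heven (a ^ 3).2)
      rw [hswap, Equiv.Perm.sign_swap (Ne.symm hne)] at hsign
      exact absurd hsign (by decide)
    have hinj : Function.Injective (fun (a : A) (ω : {ω : orbitRel.Quotient A α // ω ≠ ω₀}) =>
        (⟨a • (Quotient.out ω.1 : α), mem_orbit _ _⟩ : orbit A (Quotient.out ω.1 : α))) := by
      intro a b hab
      apply eq_of_smul_out_eq A hA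
      intro ω
      by_cases hω : ω = ω₀
      · rw [hω, hfix a, hfix b]
      · exact congrArg Subtype.val (congrFun hab ⟨ω, hω⟩)
    have hle := Nat.card_le_card_of_injective _ hinj
    rw [Nat.card_pi] at hle
    have hprod : ∏ ω : {ω : orbitRel.Quotient A α // ω ≠ ω₀},
        Nat.card (orbit A (Quotient.out ω.1 : α)) =
        3 ^ Fintype.card {ω : orbitRel.Quotient A α // ω ≠ ω₀} := by
      rw [Finset.prod_congr rfl (fun ω _ => h3 ω.1 (Finset.mem_univ _) ω.2), Finset.prod_const,
        Finset.card_univ]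
    have hcnt : Fintype.card {ω : orbitRel.Quotient A α // ω ≠ ω₀} = k := by
      have h5 : ∑ ω : orbitRel.Quotient A α, f ω =
          f ω₀ + ∑ ω ∈ Finset.univ.erase ω₀, f ω :=
        (Finset.add_sum_erase _ _ (Finset.mem_univ ω₀)).symm
      rw [Finset.sum_congr rfl (fun ω hω => h3 ω (Finset.mem_univ _) (Finset.ne_of_mem_erase hω)),
        Finset.sum_const, h2, hsum, Finset.card_erase_of_mem (Finset.mem_univ _),
        Finset.card_univ, smul_eq_mul] at h5
      have h6 : Fintype.card {ω : orbitRel.Quotient A α // ω ≠ ω₀} =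
          Fintype.card (orbitRel.Quotient A α) - 1 := by
        rw [Fintype.card_subtype_compl, Fintype.card_subtype_eq]
      omega
    rw [hprod, hcnt] at hle
    obtain ⟨k', rfl⟩ : ∃ k', k = k' + 2 := ⟨k - 2, by omega⟩
    rw [Nat.add_sub_cancel]
    rw [pow_add] at hle
    omega

/-- existence of an abelian group of even permutations of given degree and order -/
def HasAbEven (n c : ℕ) : Prop :=
  ∃ A : Subgroup (Equiv.Perm (Fin n)), IsMulCommutative A ∧ Nat.card A = c ∧
    A ≤ alternatingGroup (Fin n)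

theorem hasAbEven_zero : HasAbEven 0 1 := by
  refine ⟨⊥, ⟨⟨fun a b => ?_⟩⟩, by simp, bot_le⟩
  apply Subtype.ext
  have ha := Subgroup.mem_bot.mp a.2
  have hb := Subgroup.mem_bot.mp b.2
  simp [ha, hb]

theorem hasAbEven_three : HasAbEven 3 3 := by
  refine ⟨Subgroup.zpowers (finRotate 3), inferInstance, ?_, ?_⟩
  · rw [Nat.card_zpowers, ← Equiv.Perm.lcm_cycleType, cycleType_finRotate_of_le (by omega)]
    simp
  · rw [Subgroup.zpowers_le, Equiv.Perm.mem_alternatingGroup, sign_finRotate]
    decide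

theorem hasAbEven_four : HasAbEven 4 4 := by
  classical
  obtain ⟨P⟩ : Nonempty (Sylow 2 (alternatingGroup (Fin 4))) := inferInstance
  have hcardA : Nat.card (alternatingGroup (Fin 4)) = 12 := by
    have := two_mul_nat_card_alternatingGroup (α := Fin 4)
    rw [Nat.card_perm, Nat.card_fin] at this
    have h24 : Nat.factorial 4 = 24 := by decide
    omega
  have hP : Nat.card P = 2 ^ 2 := by
    obtain ⟨j, hj⟩ := IsPGroup.iff_card.mp P.isPGroup'
    have h1 := (P : Subgroup (alternatingGroup (Fin 4))).card_mul_index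
    have h2 := P.not_dvd_index
    rw [hcardA, hj] at h1
    have hj3 : j ≤ 3 := by
      by_contra hcon
      have : 2 ^ 4 ≤ 2 ^ j := Nat.pow_le_pow_right (by omega) (by omega)
      have hpos : 0 < (P : Subgroup (alternatingGroup (Fin 4))).index := by
        rcases Nat.eq_zero_or_pos (P : Subgroup (alternatingGroup (Fin 4))).index with h | h
        · rw [h] at h1; omega
        · exact h
      nlinarith
    interval_cases j
    · exfalso; apply h2; omega
    · exfalso; apply h2; omega
    · exact hj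
    · omega
  have hcomm : ∀ a b : P, a * b = b * a := fun a b =>
    (IsPGroup.isMulCommutative_of_card_eq_prime_sq (p := 2) hP).is_comm.comm a b
  refine ⟨(P : Subgroup (alternatingGroup (Fin 4))).map (alternatingGroup (Fin 4)).subtype,
    ⟨⟨fun x y => ?_⟩⟩, ?_, Subgroup.map_subtype_le _⟩
  · obtain ⟨x, hx⟩ := x
    obtain ⟨y, hy⟩ := y
    obtain ⟨a, ha, rfl⟩ := hx
    obtain ⟨b, hb, rfl⟩ := hy
    apply Subtype.ext
    show (alternatingGroup (Fin 4)).subtype a * (alternatingGroup (Fin 4)).subtype b =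
      (alternatingGroup (Fin 4)).subtype b * (alternatingGroup (Fin 4)).subtype a
    rw [← map_mul, ← map_mul]
    congr 1
    exact congrArg Subtype.val (hcomm ⟨a, ha⟩ ⟨b, hb⟩)
  · rw [Subgroup.card_map_of_injective (Subgroup.subtype_injective _)]
    exact hP

theorem hasAbEven_mul {m l c d : ℕ} (h1 : HasAbEven m c) (h2 : HasAbEven l d) :
    HasAbEven (m + l) (c * d) := by
  obtain ⟨A, hA, rfl, hAe⟩ := h1
  obtain ⟨B, hB, rfl, hBe⟩ := h2
  let ψ : Equiv.Perm (Fin m) × Equiv.Perm (Fin l) →* Equiv.Perm (Fin (m + l)) :=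
    (Equiv.permCongrHom finSumFinEquiv).toMonoidHom.comp (Equiv.Perm.sumCongrHom (Fin m) (Fin l))
  have hψ : Function.Injective ψ :=
    (Equiv.permCongrHom finSumFinEquiv).injective.comp Equiv.Perm.sumCongrHom_injective
  refine ⟨(A.prod B).map ψ, ⟨⟨fun x y => ?_⟩⟩, ?_, ?_⟩
  · obtain ⟨x, hx⟩ := x
    obtain ⟨y, hy⟩ := y
    obtain ⟨⟨a, b⟩, hab, rfl⟩ := hx
    obtain ⟨⟨a', b'⟩, hab', rfl⟩ := hy
    apply Subtype.ext
    show ψ (a, b) * ψ (a', b') = ψ (a', b') * ψ (a, b)
    rw [← map_mul, ← map_mul]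
    congr 1
    have e1 : a * a' = a' * a := by
      have := hA.is_comm.comm ⟨a, hab.1⟩ ⟨a', hab'.1⟩
      exact congrArg Subtype.val this
    have e2 : b * b' = b' * b := by
      have := hB.is_comm.comm ⟨b, hab.2⟩ ⟨b', hab'.2⟩
      exact congrArg Subtype.val this
    exact Prod.ext e1 e2
  · rw [Subgroup.card_map_of_injective hψ, Nat.card_congr (Subgroup.prodEquiv A B).toEquiv,
      Nat.card_prod]
  · rintro _ ⟨⟨a, b⟩, hab, rfl⟩
    rw [Equiv.Perm.mem_alternatingGroup]
    show Equiv.Perm.sign (finSumFinEquiv.permCongr (Equiv.sumCongr a b)) = 1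
    rw [Equiv.Perm.sign_permCongr, Equiv.Perm.sign_sumCongr,
      Equiv.Perm.mem_alternatingGroup.mp (hAe hab.1), Equiv.Perm.mem_alternatingGroup.mp (hBe hab.2),
      one_mul]

theorem hasAbEven_three_mul : ∀ k, HasAbEven (3 * k) (3 ^ k)
  | 0 => hasAbEven_zero
  | (k + 1) => by
    have h := hasAbEven_mul (hasAbEven_three_mul k) hasAbEven_three
    have e : 3 * (k + 1) = 3 * k + 3 := by omega
    rw [e, pow_succ]
    exact h

theorem toSub {n c : ℕ} (h : HasAbEven n c) :
    ∃ A : Subgroup (alternatingGroup (Fin n)), IsMulCommutative A ∧ Nat.card A = c := by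
  obtain ⟨A, hA, rfl, hAe⟩ := h
  refine ⟨A.subgroupOf (alternatingGroup (Fin n)), ⟨⟨fun x y => ?_⟩⟩,
    Nat.card_congr (Subgroup.subgroupOfEquivOfLe hAe).toEquiv⟩
  apply Subtype.ext
  apply Subtype.ext
  have := hA.is_comm.comm ⟨x.1.1, x.2⟩ ⟨y.1.1, y.2⟩
  show (x.1.1 * y.1.1 : Equiv.Perm (Fin n)) = y.1.1 * x.1.1
  exact congrArg Subtype.val this

/-- an abelian subgroup of the alternating group, as an abelian even subgroup of the symmetric group -/
theorem ofSub {n : ℕ} (A : Subgroup (alternatingGroup (Fin n))) (hA : IsMulCommutative A) :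
    ∃ A' : Subgroup (Equiv.Perm (Fin n)), IsMulCommutative A' ∧ Nat.card A' = Nat.card A ∧
      A' ≤ alternatingGroup (Fin n) := by
  refine ⟨A.map (alternatingGroup (Fin n)).subtype, ⟨⟨fun x y => ?_⟩⟩,
    Subgroup.card_map_of_injective (Subgroup.subtype_injective _), Subgroup.map_subtype_le _⟩
  obtain ⟨x, hx⟩ := x
  obtain ⟨y, hy⟩ := y
  obtain ⟨a, ha, rfl⟩ := hx
  obtain ⟨b, hb, rfl⟩ := hy
  apply Subtype.ext
  show (alternatingGroup (Fin n)).subtype a * (alternatingGroup (Fin n)).subtype b =
    (alternatingGroup (Fin n)).subtype b * (alternatingGroup (Fin n)).subtype a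
  rw [← map_mul, ← map_mul]
  congr 1
  exact congrArg Subtype.val (hA.is_comm.comm ⟨a, ha⟩ ⟨b, hb⟩)

/-- The largest order of an abelian subgroup of the alternating group of degree n is 3^k when n = 3k, 4·3^(k−1) when n = 3k + 1, and 16·3^(k−2) when n = 3k + 2, for every k ≥ 2 (so for all degrees n ≥ 6). -/
theorem result (k : ℕ) (hk : 2 ≤ k) :
    IsGreatest {c : ℕ | ∃ A : Subgroup (alternatingGroup (Fin (3 * k))), IsMulCommutative A ∧ Nat.card A = c} (3 ^ k) ∧
    IsGreatest {c : ℕ | ∃ A : Subgroup (alternatingGroup (Fin (3 * k + 1))), IsMulCommutative A ∧ Nat.card A = c}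
      (4 * 3 ^ (k - 1)) ∧
    IsGreatest {c : ℕ | ∃ A : Subgroup (alternatingGroup (Fin (3 * k + 2))), IsMulCommutative A ∧ Nat.card A = c}
      (16 * 3 ^ (k - 2)) := by
  obtain ⟨k', rfl⟩ : ∃ k', k = k' + 2 := ⟨k - 2, by omega⟩
  refine ⟨⟨?_, ?_⟩, ⟨?_, ?_⟩, ⟨?_, ?_⟩⟩
  · exact toSub (hasAbEven_three_mul (k' + 2))
  · rintro c ⟨A, hA, rfl⟩
    obtain ⟨A', hA', hc, -⟩ := ofSub A hA
    have := Cfsg.Agent.S2505.card_le_maxProd A' hA'
    rwa [Fintype.card_fin, Cfsg.Agent.S2505.maxProd_three_mul _ (by omega), hc] at this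
  · have h := hasAbEven_mul (hasAbEven_three_mul (k' + 1)) hasAbEven_four
    have e : 3 * (k' + 2) + 1 = 3 * (k' + 1) + 4 := by omega
    apply toSub
    show HasAbEven (3 * (k' + 2) + 1) (4 * 3 ^ (k' + 2 - 1))
    rw [e, show k' + 2 - 1 = k' + 1 by omega, mul_comm 4]
    exact h
  · rintro c ⟨A, hA, rfl⟩
    obtain ⟨A', hA', hc, -⟩ := ofSub A hA
    have := Cfsg.Agent.S2505.card_le_maxProd A' hA'
    rwa [Fintype.card_fin, Cfsg.Agent.S2505.maxProd_three_mul_add_one _ (by omega), hc] at this
  · have h := hasAbEven_mul (hasAbEven_mul (hasAbEven_three_mul k') hasAbEven_four) hasAbEven_four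
    have e : 3 * (k' + 2) + 2 = 3 * k' + 4 + 4 := by omega
    apply toSub
    show HasAbEven (3 * (k' + 2) + 2) (16 * 3 ^ (k' + 2 - 2))
    rw [e, Nat.add_sub_cancel, show 16 * 3 ^ k' = 3 ^ k' * 4 * 4 by ring]
    exact h
  · rintro c ⟨A, hA, rfl⟩
    obtain ⟨A', hA', hc, he⟩ := ofSub A hA
    have := card_le_of_even A' hA' he (k' + 2) (by omega) (by rw [Fintype.card_fin])
    rwa [hc] at this

end Cfsg.Agent.S2504
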