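import Cfsg.Statements.S0781
import Cfsg.Agent.Lib.helper17.UEichler

set_option autoImplicit false
open Cfsg

namespace Cfsg.Agent.S0781

/-- In SU_n(q) with n ≥ 4, or n = 3 and q > 2, every element whose matrix is a unitary transvection x ↦ x + c h(x, v) v (v isotropic) is a commutator ⁅B, C⁆ of two elements of SU_n(q). -/
theorem result {F : Type*} [Field F] [Fintype F] {q : ℕ} (hF : Fintype.card F = q ^ 2) (n : ℕ) (hn : 4 ≤ n ∨ (n = 3 ∧ 3 ≤ q)) (A : ↥(Cfsg.SU n F q)) (v : Fin n → F) (c : F) (hv0 : Cfsg.hermForm n F q v v = 0) (hA : ((A : Matrix.SpecialLinearGroup (Fin n) F) : Matrix (Fin n) (Fin n) F) = Cfsg.unitaryTransvection n q v c) : A ∈ commutatorSet ↥(Cfsg.SU n F q) := by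
  open Cfsg.Agent.Lib.helper17 Matrix in
  classical
  have hq2 := two_le_of_card_eq_sq hF
  have hn3 : 3 ≤ n := by rcases hn with h | ⟨h, _⟩ <;> omega
  have hAp : ∀ x y : Fin n → F, hermForm n F q (unitaryTransvection n q v c *ᵥ x)
      (unitaryTransvection n q v c *ᵥ y) = hermForm n F q x y := by
    intro x y
    have := A.2 x y
    rw [← hA]
    exact this
  have hone : ((A : Matrix.SpecialLinearGroup (Fin n) F) : Matrix (Fin n) (Fin n) F) = 1 →
      A ∈ commutatorSet ↥(Cfsg.SU n F q) := by
    intro h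
    have : A = 1 := Subtype.ext (Subtype.ext h)
    rw [this]
    exact one_mem_commutatorSet _
  by_cases hc : c = 0
  · apply hone
    rw [hA, hc]
    simp [unitaryTransvection]
  by_cases hv : v = 0
  · apply hone
    rw [hA, hv]
    unfold unitaryTransvection
    simp
  have hcq : c ^ q = - c := by
    simp only [hermForm_unitaryTransvection hF n v hv0 c] at hAp
    obtain ⟨i, hi⟩ : ∃ i, v i ≠ 0 := by
      by_contra hcon
      push Not at hcon
      exact hv (funext hcon)
    have h1 := hAp (Pi.single i 1) (Pi.single i 1)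
    have e1 : hermForm n F q (Pi.single i 1) v = v i ^ q := hermForm_single_left n q i v
    have e2 : hermForm n F q v (Pi.single i 1) = v i := by
      rw [← hermForm_conj hF, e1, pow_q_pow_q hF]
    rw [e1, e2] at h1
    have h2 : (c ^ q + c) * (v i ^ q * v i) = 0 := by linear_combination h1
    rcases mul_eq_zero.mp h2 with h | h
    · linear_combination h
    · exact absurd h (mul_ne_zero (pow_ne_zero _ hi) hi)
  obtain ⟨z, hzv, hzz⟩ := exists_orth_nonisotropic hF n hn3 v hv
  have hvz : hermForm n F q v z = 0 := by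
    rw [← hermForm_conj hF, hzv, zero_pow (by omega)]
  obtain ⟨ν, hν⟩ : ∃ ν : F, ν = hermForm n F q z z := ⟨_, rfl⟩
  rw [← hν] at hzz
  have hνq : ν ^ q = ν := by rw [hν]; exact hermForm_conj hF n z z
  obtain ⟨α, hα⟩ := exists_pow_q_sub_eq hF (c / ν) (by rw [div_pow, hcq, hνq, neg_div])
  obtain ⟨β, hβ⟩ := exists_trace_eq hF (-ν) (by rw [neg_pow_q hF, hνq])
  obtain ⟨β', hβ'⟩ := exists_trace_eq hF (-(α * α ^ q * ν))
    (by rw [neg_pow_q hF, mul_pow, mul_pow, pow_q_pow_q hF, hνq]; ring)
  have hαzv : hermForm n F q (α • z) v = 0 := by rw [hermForm_smul_left, hzv, mul_zero]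
  have hvαz : hermForm n F q v (α • z) = 0 := by rw [hermForm_smul_right, hvz, mul_zero]
  have hαzz : hermForm n F q (α • z) (α • z) = α * α ^ q * ν := by
    rw [hermForm_smul_left, hermForm_smul_right, ← hν]
    ring
  have hBmem : (⟨eichlerU n q v z β, eichlerU_det n q v z β hv0 hzv hvz⟩ :
      Matrix.SpecialLinearGroup (Fin n) F) ∈ Cfsg.SU n F q := by
    intro u w
    exact eichlerU_preserves hF n v z β hv0 hzv (by rw [← hν]; linear_combination hβ) u w
  have hCmem : (⟨eichlerU n q v (α • z) β', eichlerU_det n q v (α • z) β' hv0 hαzv hvαz⟩ :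
      Matrix.SpecialLinearGroup (Fin n) F) ∈ Cfsg.SU n F q := by
    intro u w
    exact eichlerU_preserves hF n v (α • z) β' hv0 hαzv (by rw [hαzz]; linear_combination hβ') u w
  refine ⟨⟨_, hBmem⟩, ⟨_, hCmem⟩, ?_⟩
  have key : (⟨_, hBmem⟩ : ↥(Cfsg.SU n F q)) * ⟨_, hCmem⟩ = A * ⟨_, hCmem⟩ * ⟨_, hBmem⟩ := by
    apply Subtype.ext
    apply Subtype.ext
    show eichlerU n q v z β * eichlerU n q v (α • z) β' =
      ((A : Matrix.SpecialLinearGroup (Fin n) F) : Matrix (Fin n) (Fin n) F) * eichlerU n q v (α • z) β' *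
        eichlerU n q v z β
    have h0v : hermForm n F q (0 : Fin n → F) v = 0 := hermForm_zero_left n q v
    have h0αzv : hermForm n F q (0 + α • z) v = 0 := by rw [zero_add]; exact hαzv
    rw [hA, ← eichlerU_zero hF, eichlerU_mul hF n v z (α • z) β β' hv0 hzv hαzv,
      eichlerU_mul hF n v 0 (α • z) c β' hv0 h0v hαzv,
      eichlerU_mul hF n v (0 + α • z) z _ β hv0 h0αzv hzv]
    have e1 : z + α • z = 0 + α • z + z := by abel
    have e2 : β + β' - hermForm n F q (α • z) z =
        c + β' - hermForm n F q (α • z) 0 + β - hermForm n F q z (0 + α • z) := by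
      have h3 : hermForm n F q (α • z) 0 = 0 := by
        unfold hermForm
        simp [zero_pow (by omega : q ≠ 0)]
      rw [h3, zero_add, hermForm_smul_left, hermForm_smul_right, ← hν]
      have : α ^ q - α = c / ν := hα
      field_simp at this
      linear_combination this
    rw [e1, e2]
  rw [commutatorElement_def, key]
  group

end Cfsg.Agent.S0781
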