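-- Statement S0006: converse of Hall's theorem (Cfsg.solvable_of_hall_complements).
import Cfsg.Statements.S0006
import Cfsg.Agent.Lib.lead.Hall
import Cfsg.Agent.Lib.helper4.BurnsidePQ

set_option autoImplicit false
open Cfsg

namespace Cfsg.Agent.S0006

universe u

/-- coprime indices multiply -/
theorem index_inf_of_coprime {G : Type*} [Group G] [Finite G] (H K : Subgroup G)
    (h : Nat.Coprime H.index K.index) : (H ⊓ K).index = H.index * K.index := by
  have h1 : H.index ∣ (H ⊓ K).index := Subgroup.index_dvd_of_le inf_le_left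
  have h2 : K.index ∣ (H ⊓ K).index := Subgroup.index_dvd_of_le inf_le_right
  have h3 : H.index * K.index ∣ (H ⊓ K).index := h.mul_dvd_of_dvd_of_dvd h1 h2
  have h4 : (H ⊓ K).index ≤ H.index * K.index := Subgroup.index_inf_le
  have h5 : (H ⊓ K).index ≠ 0 := Subgroup.index_ne_zero_of_finite
  exact le_antisymm h4 (Nat.le_of_dvd (Nat.pos_of_ne_zero h5) h3)

theorem relIndex_of_coprime {G : Type*} [Group G] [Finite G] (H K : Subgroup G)
    (h : Nat.Coprime H.index K.index) : K.relIndex H = K.index := by
  have h1 := index_inf_of_coprime H K h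
  have h2 : (H ⊓ K).relIndex H * H.index = (H ⊓ K).index := Subgroup.relIndex_mul_index inf_le_left
  rw [Subgroup.inf_relIndex_left, h1, mul_comm] at h2
  exact Nat.eq_of_mul_eq_mul_left (Nat.pos_of_ne_zero Subgroup.index_ne_zero_of_finite) h2

/-- two subgroups of coprime index factorise the group -/
theorem prod_of_coprime {G : Type*} [Group G] [Finite G] (K H : Subgroup G)
    (h : Nat.Coprime K.index H.index) : ∀ g : G, ∃ k ∈ K, ∃ h' ∈ H, g = k * h' := by
  have hstab : MulAction.stabilizer K ((1 : G) : G ⧸ H) = H.subgroupOf K := by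
    ext k
    rw [MulAction.mem_stabilizer_iff, Subgroup.mem_subgroupOf]
    show (((k : G) * 1 : G) : G ⧸ H) = ((1 : G) : G ⧸ H) ↔ _
    rw [QuotientGroup.eq]
    simp
  have h1 : (MulAction.orbit K ((1 : G) : G ⧸ H)).ncard = H.index := by
    rw [← MulAction.index_stabilizer, hstab]
    exact relIndex_of_coprime K H h
  have h2 : MulAction.orbit K ((1 : G) : G ⧸ H) = Set.univ := by
    rw [Set.eq_univ_iff_ncard, h1]
    rfl
  intro g
  have hg : ((g : G) : G ⧸ H) ∈ MulAction.orbit K ((1 : G) : G ⧸ H) := by
    rw [h2]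
    trivial
  obtain ⟨k, hk⟩ := hg
  have hk' : (((k : G) * 1 : G) : G ⧸ H) = (g : G ⧸ H) := hk
  rw [QuotientGroup.eq] at hk'
  exact ⟨k, k.2, ((k : G) * 1)⁻¹ * g, hk', by group⟩

/-- the hypothesis of the statement -/
def HasCompl (G : Type u) [Group G] : Prop :=
  ∀ p : ℕ, p.Prime → ∃ H : Subgroup G, H.index = p ^ (Nat.card G).factorization p

theorem exp_eq {G : Type*} [Group G] [Finite G] (H : Subgroup G) {q j : ℕ} (hq : q.Prime)
    (hi : H.index = q ^ j) (hc : (Nat.card H).Coprime q) : (Nat.card G).factorization q = j := by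
  have h1 : Nat.card H * H.index = Nat.card G := H.card_mul_index
  rw [← h1, hi, Nat.factorization_mul Nat.card_pos.ne' (pow_ne_zero _ hq.ne_zero), Finsupp.add_apply,
    Nat.factorization_eq_zero_of_not_dvd (fun hd => hq.ne_one (hc.symm.eq_one_of_dvd hd)), zero_add,
    hq.factorization_pow, Finsupp.single_eq_same]

theorem coprime_card {G : Type*} [Group G] [Finite G] (H : Subgroup G) {q : ℕ} (hq : q.Prime)
    (hi : H.index = q ^ (Nat.card G).factorization q) : (Nat.card H).Coprime q := by
  have h1 : Nat.card H * H.index = Nat.card G := H.card_mul_index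
  rw [hi] at h1
  have h2 : Nat.card H = Nat.card G / q ^ (Nat.card G).factorization q :=
    (Nat.div_eq_of_eq_mul_left (pow_pos hq.pos _) h1.symm).symm
  rw [h2]
  exact (Nat.coprime_ordCompl hq Nat.card_pos.ne').symm

theorem factorization_eq_of_mul_pow {m n p q a : ℕ} (hp : p.Prime) (hpq : q ≠ p) (hm : m ≠ 0)
    (h : m * p ^ a = n) : n.factorization q = m.factorization q := by
  subst h
  rw [Nat.factorization_mul hm (pow_ne_zero _ hp.ne_zero), Finsupp.add_apply, hp.factorization_pow,
    Finsupp.single_apply, if_neg (Ne.symm hpq), add_zero]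

theorem hasCompl_subgroup {G : Type u} [Group G] [Finite G] (h : HasCompl G) {p : ℕ} (hp : p.Prime)
    (H : Subgroup G) (hH : H.index = p ^ (Nat.card G).factorization p) : HasCompl H := by
  intro q hq
  by_cases hqp : q = p
  · subst hqp
    refine ⟨⊤, ?_⟩
    have hc : (Nat.card H).Coprime q := coprime_card H hq hH
    rw [Subgroup.index_top,
      Nat.factorization_eq_zero_of_not_dvd (fun hd => hq.ne_one (hc.symm.eq_one_of_dvd hd)), pow_zero]
  · obtain ⟨K, hK⟩ := h q hq
    refine ⟨K.subgroupOf H, ?_⟩
    have hcop : Nat.Coprime H.index K.index := by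
      rw [hH, hK]
      exact Nat.Coprime.pow _ _ ((Nat.coprime_primes hp hq).mpr (Ne.symm hqp))
    have h1 : (K.subgroupOf H).index = K.index := relIndex_of_coprime H K hcop
    have h2 : Nat.card H * p ^ (Nat.card G).factorization p = Nat.card G := by
      rw [← hH]
      exact H.card_mul_index
    rw [h1, hK, factorization_eq_of_mul_pow hp hqp Nat.card_pos.ne' h2]

theorem hasCompl_quotient {G : Type u} [Group G] [Finite G] (h : HasCompl G) (M : Subgroup G)
    [M.Normal] : HasCompl (G ⧸ M) := by
  intro q hq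
  obtain ⟨K, hK⟩ := h q hq
  have hKc : (Nat.card K).Coprime q := coprime_card K hq hK
  have h1 : (K.map (QuotientGroup.mk' M)).index ∣ K.index :=
    Subgroup.index_map_dvd K (QuotientGroup.mk'_surjective M)
  rw [hK] at h1
  obtain ⟨j, -, hj'⟩ := (Nat.dvd_prime_pow hq).mp h1
  have h2 : Nat.card (K.map (QuotientGroup.mk' M)) ∣ Nat.card K := Subgroup.card_map_dvd K _
  refine ⟨K.map (QuotientGroup.mk' M), ?_⟩
  rw [exp_eq (K.map (QuotientGroup.mk' M)) hq hj' (Nat.Coprime.coprime_dvd_left h2 hKc)]
  exact hj'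

theorem card_lt_of_index {G : Type*} [Group G] [Finite G] (H : Subgroup G) {p : ℕ} (hp : p.Prime)
    (hpn : p ∣ Nat.card G) (hH : H.index = p ^ (Nat.card G).factorization p) :
    Nat.card H < Nat.card G := by
  have hfp : 0 < (Nat.card G).factorization p := hp.factorization_pos_of_dvd Nat.card_pos.ne' hpn
  have h1 : 1 < H.index := by
    rw [hH]
    exact Nat.one_lt_pow hfp.ne' hp.one_lt
  have h2 : Nat.card H * H.index = Nat.card G := H.card_mul_index
  have h3 : 0 < Nat.card H := Nat.card_pos
  nlinarith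

theorem main (n : ℕ) : ∀ (G : Type u) [Group G] [Finite G], Nat.card G = n → HasCompl G →
    Group.IsSolvable G := by
  induction n using Nat.strong_induction_on with
  | _ n ih =>
  intro G _ _ hn h
  have hn0 : n ≠ 0 := by
    rw [← hn]
    exact Nat.card_pos.ne'
  by_cases htwo : ∃ p q : ℕ, p.Prime ∧ q.Prime ∧ ∀ r : ℕ, r.Prime → r ∣ n → r = p ∨ r = q
  · obtain ⟨p, q, hp, hq, hr⟩ := htwo
    by_cases hpq : p = q
    · subst hpq
      have hpow : n = p ^ n.primeFactorsList.length :=
        Nat.eq_prime_pow_of_unique_prime_dvd hn0 (fun {d} hd hdn => (hr d hd hdn).elim id id)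
      exact Cfsg.Agent.Lib.helper4.isSolvable_of_card_eq_prime_pow_mul_prime_pow p p
        n.primeFactorsList.length 0 hp hp (by rw [hn, pow_zero, mul_one]; exact hpow)
    · have hsupp : n.factorization.support ⊆ {p, q} := by
        intro r hr'
        rw [Nat.support_factorization] at hr'
        have := hr r (Nat.prime_of_mem_primeFactors hr') (Nat.dvd_of_mem_primeFactors hr')
        simpa using this
      have hprod := Nat.prod_factorization_pow_eq_self hn0
      rw [Finsupp.prod_of_support_subset _ hsupp _ (fun i _ => pow_zero i),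
        Finset.prod_pair hpq] at hprod
      exact Cfsg.Agent.Lib.helper4.isSolvable_of_card_eq_prime_pow_mul_prime_pow p q _ _ hp hq
        (by rw [hn]; exact hprod.symm)
  · push Not at htwo
    obtain ⟨p, hp, hpn, -, -⟩ := htwo 2 2 Nat.prime_two Nat.prime_two
    obtain ⟨H, hH⟩ := h p hp
    have hHlt : Nat.card H < n := by
      rw [← hn]
      exact card_lt_of_index H hp (by rw [hn]; exact hpn) hH
    have hHsol : Group.IsSolvable H := ih _ hHlt H rfl (hasCompl_subgroup h hp H hH)
    have hHnt : Nontrivial H := by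
      by_contra hnt
      rw [not_nontrivial_iff_subsingleton] at hnt
      have hc1 : Nat.card H = 1 := Nat.card_unique
      have h2 : Nat.card H * H.index = Nat.card G := H.card_mul_index
      rw [hc1, one_mul, hH, hn] at h2
      obtain ⟨r, hr, hrn, hrp, -⟩ := htwo p p hp hp
      rw [← h2] at hrn
      exact hrp ((Nat.prime_dvd_prime_iff_eq hr hp).mp (hr.dvd_of_dvd_pow hrn))
    obtain ⟨q, N₀, hq, hN₀n, hN₀bot, -, hN₀exp⟩ :=
      Cfsg.Agent.Lib.lead.solvable_exists_normal_abelian hHsol hHnt
    obtain ⟨r, hr, hrn, hrp, hrq⟩ := htwo p q hp hq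
    obtain ⟨K, hK⟩ := h r hr
    have hNq : IsPGroup q (N₀.map H.subtype) := by
      rintro ⟨x, hx⟩
      obtain ⟨y, hy, rfl⟩ := hx
      refine ⟨1, ?_⟩
      rw [pow_one]
      apply Subtype.ext
      have h3 : ((y ^ q : H) : G) = ((1 : H) : G) := congrArg Subtype.val (hN₀exp y hy)
      simpa using h3
    have hqf : Fact q.Prime := Fact.mk hq
    have hfix : (MulAction.fixedPoints (N₀.map H.subtype) (G ⧸ K)).Nonempty := by
      apply hNq.nonempty_fixed_point_of_prime_not_dvd_card
      show ¬ q ∣ K.index
      rw [hK]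
      intro hd
      exact hrq ((Nat.prime_dvd_prime_iff_eq hq hr).mp (hq.dvd_of_dvd_pow hd)).symm
    obtain ⟨x, hx⟩ := hfix
    obtain ⟨g, rfl⟩ := QuotientGroup.mk_surjective x
    rw [MulAction.mem_fixedPoints] at hx
    have hNK₁ : N₀.map H.subtype ≤ K.map (MulAut.conj g).toMonoidHom := by
      intro y hy
      have h2 : ((y * g : G) : G ⧸ K) = (g : G ⧸ K) := hx ⟨y, hy⟩
      rw [QuotientGroup.eq] at h2
      refine ⟨((y * g)⁻¹ * g)⁻¹, K.inv_mem h2, ?_⟩
      simp [MulAut.conj_apply]
    have hK₁idx : (K.map (MulAut.conj g).toMonoidHom).index = r ^ (Nat.card G).factorization r := by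
      rw [← hK]
      exact Subgroup.index_map_of_bijective (MulAut.conj g).bijective K
    have hK₁lt : Nat.card (K.map (MulAut.conj g).toMonoidHom) < n := by
      rw [← hn]
      exact card_lt_of_index _ hr (by rw [hn]; exact hrn) hK₁idx
    have hK₁sol : Group.IsSolvable (K.map (MulAut.conj g).toMonoidHom) :=
      ih _ hK₁lt _ rfl (hasCompl_subgroup h hr _ hK₁idx)
    have hcop : Nat.Coprime (K.map (MulAut.conj g).toMonoidHom).index H.index := by
      rw [hK₁idx, hH]
      exact Nat.Coprime.pow _ _ ((Nat.coprime_primes hr hp).mpr hrp)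
    have hprod := prod_of_coprime _ H hcop
    have hMK₁ : Subgroup.normalClosure ((N₀.map H.subtype : Subgroup G) : Set G) ≤
        K.map (MulAut.conj g).toMonoidHom := by
      apply (Subgroup.closure_le _).mpr
      intro x hx
      rw [Group.mem_conjugatesOfSet_iff] at hx
      obtain ⟨a, ha, hax⟩ := hx
      rw [isConj_iff] at hax
      obtain ⟨c, rfl⟩ := hax
      obtain ⟨k, hk, h', hh', rfl⟩ := hprod c
      have h1 : h' * a * h'⁻¹ ∈ N₀.map H.subtype := by
        obtain ⟨a₀, ha₀, rfl⟩ := ha
        exact ⟨⟨h', hh'⟩ * a₀ * ⟨h', hh'⟩⁻¹, hN₀n.conj_mem a₀ ha₀ ⟨h', hh'⟩, by simp⟩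
      have h2 : k * h' * a * (k * h')⁻¹ = k * (h' * a * h'⁻¹) * k⁻¹ := by group
      rw [SetLike.mem_coe, h2]
      exact Subgroup.mul_mem _ (Subgroup.mul_mem _ hk (hNK₁ h1)) (Subgroup.inv_mem _ hk)
    have hMbot : Subgroup.normalClosure ((N₀.map H.subtype : Subgroup G) : Set G) ≠ ⊥ := by
      intro hb
      apply hN₀bot
      have hNM : N₀.map H.subtype ≤ Subgroup.normalClosure ((N₀.map H.subtype : Subgroup G) : Set G) :=
        Subgroup.le_normalClosure
      rw [hb, le_bot_iff] at hNM
      exact (Subgroup.map_eq_bot_iff_of_injective N₀ H.subtype_injective).mp hNM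
    have hMsol : Group.IsSolvable (Subgroup.normalClosure ((N₀.map H.subtype : Subgroup G) : Set G)) :=
      Group.isSolvable_of_isSolvable_injective (Subgroup.inclusion_injective hMK₁)
    have hMn : (Subgroup.normalClosure ((N₀.map H.subtype : Subgroup G) : Set G)).Normal :=
      Subgroup.normalClosure_normal
    have hQlt : Nat.card (G ⧸ Subgroup.normalClosure ((N₀.map H.subtype : Subgroup G) : Set G)) < n := by
      have h2 := Subgroup.card_mul_index (Subgroup.normalClosure ((N₀.map H.subtype : Subgroup G) : Set G))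
      have h3 : 1 < Nat.card (Subgroup.normalClosure ((N₀.map H.subtype : Subgroup G) : Set G)) := by
        rw [Subgroup.one_lt_card_iff_ne_bot]
        exact hMbot
      have h4 : 0 < (Subgroup.normalClosure ((N₀.map H.subtype : Subgroup G) : Set G)).index :=
        Nat.pos_of_ne_zero Subgroup.index_ne_zero_of_finite
      rw [hn] at h2
      show (Subgroup.normalClosure ((N₀.map H.subtype : Subgroup G) : Set G)).index < n
      nlinarith
    have hQsol : Group.IsSolvable (G ⧸ Subgroup.normalClosure ((N₀.map H.subtype : Subgroup G) : Set G)) :=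
      ih _ hQlt _ rfl (hasCompl_quotient h _)
    exact Group.isSolvable_of_ker_le_range
      (Subgroup.normalClosure ((N₀.map H.subtype : Subgroup G) : Set G)).subtype
      (QuotientGroup.mk' (Subgroup.normalClosure ((N₀.map H.subtype : Subgroup G) : Set G)))
      (by rw [QuotientGroup.ker_mk', Subgroup.range_subtype])

/-- Converse of Hall's Theorem: if for every prime p a finite group has a subgroup of index equal to the p-part of the group order (a Hall p-complement), then the group is solvable. -/
theorem result {G : Type*} [Group G] [Finite G]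
    (h : ∀ p : ℕ, p.Prime → ∃ H : Subgroup G, H.index = p ^ (Nat.card G).factorization p) :
    Group.IsSolvable G := by
  exact main _ G rfl h

end Cfsg.Agent.S0006
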