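import Cfsg.Statements.S0007
import Mathlib

set_option autoImplicit false
open Cfsg

namespace Cfsg.Agent.S0007

/-- Subgroups of coprime index: the intersection has index equal to the product of the indices, and every element is a product of an element of the first subgroup and an element of the second. -/
theorem result {G : Type*} [Group G] [Finite G] (H K : Subgroup G)
    (h : H.index.Coprime K.index) :
    (H ⊓ K).index = H.index * K.index ∧ ∀ g : G, ∃ x ∈ H, ∃ y ∈ K, g = x * y := by
  have h1 : (H ⊓ K).index = H.index * K.index := by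
    apply le_antisymm Subgroup.index_inf_le
    exact Nat.le_of_dvd (Nat.pos_of_ne_zero Subgroup.index_ne_zero_of_finite)
      (Nat.Coprime.mul_dvd_of_dvd_of_dvd h (Subgroup.index_dvd_of_le inf_le_left)
        (Subgroup.index_dvd_of_le inf_le_right))
  refine ⟨h1, ?_⟩
  let φ : G ⧸ (H ⊓ K) → (G ⧸ H) × (G ⧸ K) :=
    Quotient.lift (fun g : G => ((g : G ⧸ H), (g : G ⧸ K))) (by
      intro a b hab
      have hab' : a⁻¹ * b ∈ H ⊓ K := QuotientGroup.leftRel_apply.mp hab
      exact Prod.ext (QuotientGroup.eq.mpr hab'.1) (QuotientGroup.eq.mpr hab'.2))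
  have hinj : Function.Injective φ := by
    intro a b
    induction a using QuotientGroup.induction_on with
    | H a =>
    induction b using QuotientGroup.induction_on with
    | H b =>
    intro hab
    have e1 : (a : G ⧸ H) = (b : G ⧸ H) := (Prod.ext_iff.mp hab).1
    have e2 : (a : G ⧸ K) = (b : G ⧸ K) := (Prod.ext_iff.mp hab).2
    exact QuotientGroup.eq.mpr ⟨QuotientGroup.eq.mp e1, QuotientGroup.eq.mp e2⟩
  have hbij := hinj.bijective_of_nat_card_le (by
    rw [Nat.card_prod]
    exact le_of_eq h1.symm)
  intro g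
  obtain ⟨q, hq⟩ := hbij.2 (((1 : G) : G ⧸ H), (g : G ⧸ K))
  induction q using QuotientGroup.induction_on with
  | H x =>
  have e1 : (x : G ⧸ H) = ((1 : G) : G ⧸ H) := (Prod.ext_iff.mp hq).1
  have e2 : (x : G ⧸ K) = (g : G ⧸ K) := (Prod.ext_iff.mp hq).2
  refine ⟨x, ?_, x⁻¹ * g, QuotientGroup.eq.mp e2, by group⟩
  have := QuotientGroup.eq.mp e1
  have h3 := H.inv_mem this
  simpa using h3

end Cfsg.Agent.S0007
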