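import Cfsg.Statements.S0009
import Cfsg.Agent.S4263

set_option autoImplicit false
open Cfsg

namespace Cfsg.Agent.S0009

/-- The Fitting subgroup of a finite group is generated by the p-cores, p ranging over the primes. -/
theorem result {G : Type*} [Group G] [Finite G] :
    Cfsg.fittingSubgroup G = ⨆ p : Nat.Primes, Cfsg.pCore (p : ℕ) G := by
  apply le_antisymm
  · apply sSup_le
    rintro N ⟨hN1, hN2⟩
    haveI := hN1
    refine (Cfsg.Agent.S4263.le_iSup_pCore_of_normal_nilpotent N hN2).trans ?_
    apply iSup_le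
    rintro ⟨p, hp⟩
    exact le_iSup (fun q : Nat.Primes => Cfsg.pCore (q : ℕ) G) ⟨p, Nat.prime_of_mem_primeFactors hp⟩
  · apply iSup_le
    rintro ⟨p, hp⟩
    haveI := Fact.mk hp
    exact Cfsg.Agent.S4263.pCore_le_fittingSubgroup p

end Cfsg.Agent.S0009
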