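import Cfsg.Statements.S0010
import Cfsg.Agent.S4263
import Cfsg.Agent.Lib.helper55.Basic

set_option autoImplicit false
open Cfsg

namespace Cfsg.Agent.S0010

/-- The largest normal p-subgroup of a finite group is the intersection of all its Sylow p-subgroups. -/
theorem result {G : Type*} [Group G] [Finite G] (p : ℕ) [Fact p.Prime] :
    Cfsg.pCore p G = ⨅ P : Sylow p G, (P : Subgroup G) := by
  apply le_antisymm
  · exact le_iInf fun P => Cfsg.Agent.Lib.helper55.pCore_le_sylow P
  · obtain ⟨P₀⟩ : Nonempty (Sylow p G) := inferInstance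
    refine Cfsg.Agent.Lib.helper55.le_pCore (Cfsg.Agent.S4263.iInf_sylow_normal p) ?_
    exact P₀.isPGroup'.to_le (iInf_le _ P₀)

end Cfsg.Agent.S0010
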