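import Cfsg.Statements.S0011
-- import your own Cfsg.Agent.* helpers here

set_option autoImplicit false
open Cfsg

namespace Cfsg.Agent.S0011

/-- If the Frattini quotient of a finite group is nilpotent then the group is nilpotent. -/
theorem result {G : Type*} [Group G] [Finite G]
    (h : Group.IsNilpotent (G ⧸ frattini G)) : Group.IsNilpotent G := by
  have q := (Group.isNilpotent_of_finite_tfae (G := G)).out 0 2
  rw [q]
  intro M hM
  have q' := (Group.isNilpotent_of_finite_tfae (G := G ⧸ frattini G)).out 0 2
  have hnorm := q'.mp h
  let π := QuotientGroup.mk' (frattini G)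
  have hπ : Function.Surjective π := QuotientGroup.mk'_surjective _
  have hΦ : frattini G ≤ M := frattini_le_coatom hM
  have hcm : (M.map π).comap π = M := by
    rw [Subgroup.comap_map_eq, QuotientGroup.ker_mk', sup_eq_left.mpr hΦ]
  have hco : IsCoatom (M.map π) := by
    constructor
    · intro htop
      apply hM.1
      rw [← hcm, htop, Subgroup.comap_top]
    · intro K hK
      have h1 : (M.map π).comap π < K.comap π :=
        (Subgroup.comap_lt_comap_of_surjective hπ).mpr hK
      rw [hcm] at h1
      have h2 := hM.2 _ h1
      exact Subgroup.comap_injective hπ (h2.trans (Subgroup.comap_top π).symm)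
  have hn := hnorm _ hco
  have h3 := hn.comap π
  rw [hcm] at h3
  exact h3

end Cfsg.Agent.S0011
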