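import Cfsg.Statements.S0013
import Cfsg.Agent.Lib.helper24.PFrattini

set_option autoImplicit false
open Cfsg

namespace Cfsg.Agent.S0013

/-- In a finite p-group the Frattini subgroup is the smallest normal subgroup with elementary abelian quotient: it lies below any normal subgroup containing all commutators and all p-th powers. -/
theorem result {G : Type*} [Group G] [Finite G] (p : ℕ) [Fact p.Prime]
    (hG : IsPGroup p G) (N : Subgroup G) [N.Normal] (hcomm : commutator G ≤ N) (hpow : ∀ x : G, x ^ p ∈ N) :
    frattini G ≤ N := by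
  let π := QuotientGroup.mk' N
  have hπ : Function.Surjective π := QuotientGroup.mk'_surjective _
  have hc : ∀ a b : G ⧸ N, a * b = b * a := by
    intro a b
    obtain ⟨x, rfl⟩ := hπ a
    obtain ⟨y, rfl⟩ := hπ b
    rw [← map_mul, ← map_mul]
    apply (QuotientGroup.eq).mpr
    open scoped commutatorElement in
    have h1 : ⁅y⁻¹, x⁻¹⁆ ∈ commutator G := by
      rw [commutator_def]
      exact Subgroup.commutator_mem_commutator (Subgroup.mem_top _) (Subgroup.mem_top _)
    open scoped commutatorElement in
    have h2 : (x * y)⁻¹ * (y * x) = ⁅y⁻¹, x⁻¹⁆ := by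
      rw [commutatorElement_def]; group
    rw [h2]
    exact hcomm h1
  letI : CommGroup (G ⧸ N) := { (inferInstance : Group (G ⧸ N)) with mul_comm := hc }
  have hexp : ∀ a : G ⧸ N, a ^ p = 1 := by
    intro a
    obtain ⟨x, rfl⟩ := hπ a
    rw [← map_pow]
    exact (QuotientGroup.eq_one_iff _).mpr (hpow x)
  have hbot : frattini (G ⧸ N) = ⊥ :=
    Cfsg.Agent.Lib.helper24.frattini_eq_bot_of_elemAb (Fact.out : p.Prime) hexp
  have h1 := frattini_le_comap_frattini_of_surjective hπ
  rw [hbot, MonoidHom.comap_bot, QuotientGroup.ker_mk'] at h1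
  exact h1

end Cfsg.Agent.S0013
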