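import Cfsg.Statements.S0015
import Mathlib
import Cfsg.Agent.Lib.helper1.SZ

set_option autoImplicit false
open Cfsg

namespace Cfsg.Agent.S0015

open scoped commutatorElement Pointwise

theorem exists_step (P : ℕ → Prop) (n : ℕ) (h0 : ¬ P 0) (hn : P n) : ∃ i, ¬ P i ∧ P (i + 1) := by
  induction n with
  | zero => exact absurd hn h0
  | succ n ih =>
    by_cases h : P n
    · exact ih h
    · exact ⟨n, h, hn⟩

/-- iterated commutators with the whole group -/
def chain {G : Type*} [Group G] (C : Subgroup G) : ℕ → Subgroup G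
  | 0 => C
  | n + 1 => ⁅chain C n, ⊤⁆

theorem chain_normal {G : Type*} [Group G] (C : Subgroup G) [hC : C.Normal] (n : ℕ) :
    (chain C n).Normal := by
  induction n with
  | zero => exact hC
  | succ n ih =>
    have := ih
    exact Subgroup.commutator_normal (chain C n) ⊤

theorem chain_le {G : Type*} [Group G] (C : Subgroup G) [hC : C.Normal] (n : ℕ) : chain C n ≤ C := by
  induction n with
  | zero => exact le_rfl
  | succ n ih =>
    have := chain_normal C n
    exact (Subgroup.commutator_le_left (chain C n) ⊤).trans ih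

theorem chain_le_lcs {G : Type*} [Group G] (C : Subgroup G) (n : ℕ) :
    chain C n ≤ (⊤ : Subgroup G).lowerCentralSeries n := by
  induction n with
  | zero => exact le_top
  | succ n ih => exact Subgroup.commutator_mono ih le_rfl

/-- In a finite nilpotent group, an abelian normal subgroup that is maximal among abelian normal subgroups equals its own centralizer. -/
theorem result {G : Type*} [Group G] [Finite G] [Group.IsNilpotent G]
    (N : Subgroup G) [N.Normal] [IsMulCommutative N]
    (hmax : ∀ M : Subgroup G, M.Normal → IsMulCommutative M → N ≤ M → M = N) :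
    Subgroup.centralizer (N : Set G) = N := by
  have hNC : N ≤ Subgroup.centralizer (N : Set G) := by
    intro a ha
    rw [Subgroup.mem_centralizer_iff]
    intro b hb
    exact congrArg Subtype.val (mul_comm' (⟨b, hb⟩ : N) ⟨a, ha⟩)
  apply le_antisymm _ hNC
  by_contra hCN
  obtain ⟨n, hn⟩ := Subgroup.nilpotent_iff_lowerCentralSeries.mp ‹Group.IsNilpotent G›
  obtain ⟨i, hi1, hi2⟩ := exists_step (fun i => chain (Subgroup.centralizer (N : Set G)) i ≤ N) n hCN
    ((chain_le_lcs _ n).trans (hn ▸ bot_le))
  obtain ⟨x, hxD, hxN⟩ := SetLike.not_le_iff_exists.mp hi1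
  have hxC : x ∈ Subgroup.centralizer (N : Set G) := chain_le _ i hxD
  have hcomm : ∀ g : G, g * x * g⁻¹ * x⁻¹ ∈ N := by
    intro g
    have h1 : ⁅x, g⁆ ∈ ⁅chain (Subgroup.centralizer (N : Set G)) i, (⊤ : Subgroup G)⁆ :=
      Subgroup.commutator_mem_commutator hxD (Subgroup.mem_top g)
    have h2 := N.inv_mem (hi2 h1)
    rw [commutatorElement_inv, commutatorElement_def] at h2
    exact h2
  have hMn : (N ⊔ Subgroup.zpowers x).Normal := by
    refine ⟨fun m hm g => ?_⟩
    have hle : MulAut.conj g • (N ⊔ Subgroup.zpowers x) ≤ N ⊔ Subgroup.zpowers x := by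
      rw [Subgroup.smul_sup, Subgroup.Normal.conj_smul_eq_self g N]
      apply sup_le le_sup_left
      have : MulAut.conj g • Subgroup.zpowers x = Subgroup.zpowers (g * x * g⁻¹) := by
        show (Subgroup.zpowers x).map (MulAut.conj g).toMonoidHom = _
        rw [MonoidHom.map_zpowers]; rfl
      rw [this, Subgroup.zpowers_le]
      have e : g * x * g⁻¹ = (g * x * g⁻¹ * x⁻¹) * x := by group
      rw [e]
      exact Subgroup.mul_mem_sup (hcomm g) (Subgroup.mem_zpowers x)
    exact hle (Cfsg.Agent.Lib.helper1.conj_mem_conj_smul hm)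
  have hMc : IsMulCommutative (N ⊔ Subgroup.zpowers x : Subgroup G) := by
    have hz : Subgroup.zpowers x ≤ Subgroup.centralizer (N : Set G) := by
      rw [Subgroup.zpowers_le]; exact hxC
    have hN' : N ≤ Subgroup.centralizer ((Subgroup.zpowers x : Subgroup G) : Set G) :=
      Subgroup.le_centralizer_iff.mp hz
    have hz' : Subgroup.zpowers x ≤
        Subgroup.centralizer ((Subgroup.zpowers x : Subgroup G) : Set G) := by
      rw [Subgroup.zpowers_le, Subgroup.mem_centralizer_iff]
      rintro y ⟨k, rfl⟩
      exact ((Commute.refl x).zpow_left k).eq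
    have h1 : N ⊔ Subgroup.zpowers x ≤ Subgroup.centralizer (N : Set G) := sup_le hNC hz
    have h2 : N ⊔ Subgroup.zpowers x ≤
        Subgroup.centralizer ((Subgroup.zpowers x : Subgroup G) : Set G) := sup_le hN' hz'
    refine ⟨⟨fun a b => Subtype.ext ?_⟩⟩
    have hb1 := h1 b.2
    have hb2 := h2 b.2
    have h3 : N ⊔ Subgroup.zpowers x ≤ Subgroup.centralizer ({(b : G)} : Set G) := by
      apply sup_le
      · intro n hn
        rw [Subgroup.mem_centralizer_iff]
        intro y hy
        rw [Set.mem_singleton_iff] at hy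
        subst hy
        exact ((Subgroup.mem_centralizer_iff.mp hb1) n hn).symm
      · intro n hn
        rw [Subgroup.mem_centralizer_iff]
        intro y hy
        rw [Set.mem_singleton_iff] at hy
        subst hy
        exact ((Subgroup.mem_centralizer_iff.mp hb2) n hn).symm
    have h4 := h3 a.2
    exact ((Subgroup.mem_centralizer_iff.mp h4) b rfl).symm
  have h5 := hmax _ hMn hMc le_sup_left
  apply hxN
  rw [← h5]
  exact Subgroup.mem_sup_right (Subgroup.mem_zpowers x)

end Cfsg.Agent.S0015
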