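import Cfsg.Statements.S0018
import Mathlib
import Cfsg.Agent.Lib.helper60.OddCoreQuot
import Cfsg.Agent.Lib.helper53.PCore

set_option autoImplicit false
open Cfsg

namespace Cfsg.Agent.S0018

/-- A finite solvable group whose Sylow p-subgroups are abelian has p-length one: a Sylow p-subgroup together with the largest normal subgroup of order prime to p generates a normal subgroup. -/
theorem result {G : Type*} [Group G] [Finite G] [Group.IsSolvable G]
    (p : ℕ) [Fact p.Prime] (P : Sylow p G) (hP : IsMulCommutative P) :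
    ((P : Subgroup G) ⊔ Cfsg.pPrimeCore p G).Normal := by
  have hOn : (Cfsg.pPrimeCore p G).Normal := Subgroup.sSup_normal _ (fun _ h => h.1)
  have hsurj := QuotientGroup.mk'_surjective (Cfsg.pPrimeCore p G)
  have h0 := Cfsg.Agent.Lib.helper60.pPrimeCore_quotient_eq_bot p G
  have h1 := Cfsg.Agent.Lib.helper60.centralizer_pCore_le (G := G ⧸ Cfsg.pPrimeCore p G) p h0
  have h2 : Cfsg.pCore p (G ⧸ Cfsg.pPrimeCore p G) ≤
      (P : Subgroup G).map (QuotientGroup.mk' (Cfsg.pPrimeCore p G)) :=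
    Cfsg.Agent.Lib.helper53.pCore_le_sylow (P.mapSurjective hsurj)
  have h3 : (P : Subgroup G).map (QuotientGroup.mk' (Cfsg.pPrimeCore p G)) ≤
      Subgroup.centralizer (Cfsg.pCore p (G ⧸ Cfsg.pPrimeCore p G) : Set (G ⧸ Cfsg.pPrimeCore p G)) := by
    rintro y ⟨x, hx, rfl⟩
    rw [Subgroup.mem_centralizer_iff]
    intro z hz
    obtain ⟨w, hw, rfl⟩ := h2 hz
    have hcomm : w * x = x * w := by
      have := hP.is_comm.comm (⟨w, hw⟩ : P) ⟨x, hx⟩
      exact congrArg Subtype.val this
    rw [← map_mul, ← map_mul, hcomm]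
  have h4 : (P : Subgroup G).map (QuotientGroup.mk' (Cfsg.pPrimeCore p G)) =
      Cfsg.pCore p (G ⧸ Cfsg.pPrimeCore p G) := le_antisymm (h3.trans h1) h2
  have h5 : ((P : Subgroup G).map (QuotientGroup.mk' (Cfsg.pPrimeCore p G))).Normal := by
    rw [h4]; exact Cfsg.Agent.Lib.helper53.pCore_normal p _
  have h6 : (((P : Subgroup G).map (QuotientGroup.mk' (Cfsg.pPrimeCore p G))).comap
      (QuotientGroup.mk' (Cfsg.pPrimeCore p G))).Normal := inferInstance
  rw [Subgroup.comap_map_eq, QuotientGroup.ker_mk'] at h6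
  exact h6

end Cfsg.Agent.S0018
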