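import Mathlib
import Cfsg.Statements.S0019

set_option autoImplicit false
open Cfsg

namespace Cfsg.Agent.S0019

universe u

/-- A nontrivial finite solvable group has a nontrivial normal `p`-subgroup for some prime `p`. -/
theorem exists_normal_pgroup {H : Type u} [Group H] [Finite H] [hs : Group.IsSolvable H]
    [Nontrivial H] : ∃ (p : ℕ) (N : Subgroup H), p.Prime ∧ N.Normal ∧ N ≠ ⊥ ∧ IsPGroup p N := by
  classical
  have hex : ∃ n, derivedSeries H n = ⊥ := (Group.isSolvable_def H).mp hs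
  have hk0 : Nat.find hex ≠ 0 := by
    intro h0
    have := Nat.find_spec hex
    rw [h0, derivedSeries_zero] at this
    exact top_ne_bot this
  obtain ⟨k, hk⟩ := Nat.exists_eq_succ_of_ne_zero hk0
  set A := derivedSeries H k with hA
  have hAn : A.Normal := derivedSeries_normal H k
  have hAne : A ≠ ⊥ := by
    intro h
    have := Nat.find_min' hex h
    omega
  have hAA : ⁅A, A⁆ = ⊥ := by
    have := Nat.find_spec hex
    rw [hk, derivedSeries_succ] at this
    exact this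
  have hcomm : ∀ a ∈ A, ∀ b ∈ A, a * b = b * a := by
    intro a ha b hb
    have h1 := Subgroup.commutator_eq_bot_iff_le_centralizer.mp hAA ha
    exact (h1 b hb).symm
  have hcard : Nat.card A ≠ 1 := by
    intro h
    exact hAne (Subgroup.card_eq_one.mp h)
  set p := (Nat.card A).minFac with hp
  have hpp : p.Prime := Nat.minFac_prime hcard
  have hpd : p ∣ Nat.card A := Nat.minFac_dvd _
  haveI : Fact p.Prime := ⟨hpp⟩
  obtain ⟨x, hx⟩ := exists_prime_orderOf_dvd_card' p hpd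
  let N : Subgroup H :=
    { carrier := {a | a ∈ A ∧ a ^ p = 1}
      mul_mem' := by
        rintro a b ⟨ha, hap⟩ ⟨hb, hbp⟩
        refine ⟨A.mul_mem ha hb, ?_⟩
        have hc : Commute a b := hcomm a ha b hb
        rw [hc.mul_pow, hap, hbp, one_mul]
      one_mem' := ⟨A.one_mem, one_pow _⟩
      inv_mem' := by
        rintro a ⟨ha, hap⟩
        exact ⟨A.inv_mem ha, by rw [inv_pow, hap, inv_one]⟩ }
  refine ⟨p, N, hpp, ?_, ?_, ?_⟩
  · constructor
    rintro a ⟨ha, hap⟩ g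
    refine ⟨hAn.conj_mem a ha g, ?_⟩
    rw [conj_pow, hap, mul_one, mul_inv_cancel]
  · intro hN
    have hxN : (x : H) ∈ N := by
      refine ⟨x.2, ?_⟩
      have : x ^ p = 1 := by rw [← hx]; exact pow_orderOf_eq_one x
      have h2 := congrArg Subtype.val this
      simpa using h2
    rw [hN, Subgroup.mem_bot] at hxN
    have hx1 : x = 1 := Subtype.ext hxN
    rw [hx1, orderOf_one] at hx
    exact hpp.one_lt.ne hx
  · intro g
    refine ⟨1, ?_⟩
    have := g.2.2
    apply Subtype.ext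
    simpa using this

/-- If a `p`-subgroup `N` normalised by `H₁` sits in a group `G = H₁ H₂` with `p ∤ |G : H₂|`,
then every conjugate of `N` lies in `H₂`. -/
theorem conj_mem_of_pgroup {G : Type u} [Group G] [Finite G] (H₁ H₂ : Subgroup G)
    (h12 : ∀ g : G, ∃ x ∈ H₁, ∃ y ∈ H₂, g = x * y) (p : ℕ) [Fact p.Prime]
    (N : Subgroup G) (hN : IsPGroup p N) (hnorm : ∀ h ∈ H₁, ∀ n ∈ N, h * n * h⁻¹ ∈ N)
    (hp : ¬ p ∣ H₂.index) : ∀ g : G, ∀ n ∈ N, g * n * g⁻¹ ∈ H₂ := by
  have hfix := hN.nonempty_fixed_point_of_prime_not_dvd_card (G ⧸ H₂) hp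
  obtain ⟨c, hc⟩ := hfix
  obtain ⟨g, rfl⟩ := QuotientGroup.mk_surjective c
  -- g⁻¹ n g ∈ H₂ for n ∈ N
  have h1 : ∀ n ∈ N, g⁻¹ * n * g ∈ H₂ := by
    intro n hn
    have := hc ⟨n, hn⟩
    have h2 : ((n * g : G) : G ⧸ H₂) = (g : G ⧸ H₂) := this
    rw [QuotientGroup.eq] at h2
    have h3 : (n * g)⁻¹ * g = (g⁻¹ * n⁻¹ * g) := by group
    rw [h3] at h2
    have h4 := H₂.inv_mem h2
    have h5 : (g⁻¹ * n⁻¹ * g)⁻¹ = g⁻¹ * n * g := by group
    rwa [h5] at h4
  obtain ⟨x, hx, y, hy, rfl⟩ := h12 g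
  have hNH : ∀ m ∈ N, m ∈ H₂ := by
    intro m hm
    have h2 := h1 (x * m * x⁻¹) (hnorm x hx m hm)
    have h3 : (x * y)⁻¹ * (x * m * x⁻¹) * (x * y) = y⁻¹ * m * y := by group
    rw [h3] at h2
    have h4 := H₂.mul_mem (H₂.mul_mem hy h2) (H₂.inv_mem hy)
    have h5 : y * (y⁻¹ * m * y) * y⁻¹ = m := by group
    rwa [h5] at h4
  intro g n hn
  obtain ⟨x, hx, y, hy, hg⟩ := h12 g⁻¹
  have hg' : g = y⁻¹ * x⁻¹ := by
    have : g = (g⁻¹)⁻¹ := (inv_inv g).symm
    rw [this, hg]; group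
  have h2 : x⁻¹ * n * x ∈ N := by
    have := hnorm x⁻¹ (H₁.inv_mem hx) n hn
    rwa [inv_inv] at this
  have h3 := hNH _ h2
  have h4 := H₂.mul_mem (H₂.mul_mem (H₂.inv_mem hy) h3) hy
  have h5 : g * n * g⁻¹ = y⁻¹ * (x⁻¹ * n * x) * y := by rw [hg']; group
  rw [h5]; exact h4

theorem main : ∀ (n : ℕ) (G : Type u) [Group G] [Finite G] (H₁ H₂ H₃ : Subgroup G),
    Nat.card G = n → Group.IsSolvable H₁ → Group.IsSolvable H₂ → Group.IsSolvable H₃ →
    (∀ g : G, ∃ x ∈ H₁, ∃ y ∈ H₂, g = x * y) → (∀ g : G, ∃ x ∈ H₁, ∃ y ∈ H₃, g = x * y) →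
    H₂.index.Coprime H₃.index → Group.IsSolvable G := by
  intro n
  induction n using Nat.strong_induction_on with
  | _ n ih =>
  intro G _ _ H₁ H₂ H₃ hn h₁ h₂ h₃ h12 h13 hcop
  by_cases hH1 : H₁ = ⊥
  · -- G = H₂
    have htop : H₂ = ⊤ := by
      rw [eq_top_iff]
      intro g _
      obtain ⟨x, hx, y, hy, rfl⟩ := h12 g
      rw [hH1, Subgroup.mem_bot] at hx
      rw [hx, one_mul]; exact hy
    have hsurj : Function.Surjective H₂.subtype := by
      intro g
      exact ⟨⟨g, htop ▸ Subgroup.mem_top g⟩, rfl⟩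
    exact solvable_of_surjective hsurj
  · haveI : Nontrivial H₁ := (Subgroup.nontrivial_iff_ne_bot H₁).mpr hH1
    obtain ⟨p, N₀, hpp, hN₀n, hN₀ne, hN₀p⟩ := exists_normal_pgroup (H := H₁)
    haveI : Fact p.Prime := ⟨hpp⟩
    set N : Subgroup G := N₀.map H₁.subtype with hNdef
    have hNp : IsPGroup p N := hN₀p.map _
    have hNne : N ≠ ⊥ := by
      intro h
      apply hN₀ne
      rw [eq_bot_iff]
      intro a ha
      have : (a : G) ∈ N := ⟨a, ha, rfl⟩
      rw [h, Subgroup.mem_bot] at this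
      rw [Subgroup.mem_bot]
      exact Subtype.ext this
    have hnorm : ∀ h ∈ H₁, ∀ m ∈ N, h * m * h⁻¹ ∈ N := by
      rintro h hh _ ⟨a, ha, rfl⟩
      exact ⟨⟨h, hh⟩ * a * ⟨h, hh⟩⁻¹, hN₀n.conj_mem a ha ⟨h, hh⟩, rfl⟩
    -- the normal closure M of N lies in H₂ or H₃
    set M : Subgroup G := Subgroup.normalClosure (N : Set G) with hM
    have hMn : M.Normal := Subgroup.normalClosure_normal
    have hMne : M ≠ ⊥ := by
      intro h
      apply hNne
      rw [eq_bot_iff, ← h]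
      exact Subgroup.le_normalClosure
    have hMle : ∀ K : Subgroup G, (∀ g : G, ∀ m ∈ N, g * m * g⁻¹ ∈ K) → M ≤ K := by
      intro K hK
      rw [hM, Subgroup.normalClosure, Subgroup.closure_le]
      intro a ha
      rw [Group.mem_conjugatesOfSet_iff] at ha
      obtain ⟨b, hb, hba⟩ := ha
      rw [isConj_iff] at hba
      obtain ⟨c, rfl⟩ := hba
      exact hK c b hb
    have hMsol : Group.IsSolvable M := by
      have hor : ¬ p ∣ H₂.index ∨ ¬ p ∣ H₃.index := by
        by_contra hcon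
        push_neg at hcon
        have := Nat.dvd_gcd hcon.1 hcon.2
        rw [Nat.Coprime] at hcop
        rw [hcop] at this
        exact hpp.one_lt.ne' (Nat.dvd_one.mp this)
      rcases hor with hp2 | hp3
      · have hle : M ≤ H₂ := hMle H₂ (conj_mem_of_pgroup H₁ H₂ h12 p N hNp hnorm hp2)
        exact solvable_of_solvable_injective (Subgroup.inclusion_injective hle)
      · have hle : M ≤ H₃ := hMle H₃ (conj_mem_of_pgroup H₁ H₃ h13 p N hNp hnorm hp3)
        exact solvable_of_solvable_injective (Subgroup.inclusion_injective hle)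
    -- the quotient
    have hcard : Nat.card (G ⧸ M) < n := by
      rw [← hn, Subgroup.card_eq_card_quotient_mul_card_subgroup M]
      have h1 : 1 < Nat.card M := by
        rw [Nat.one_lt_iff_ne_zero_and_ne_one]
        exact ⟨Nat.card_pos.ne', fun h => hMne (Subgroup.card_eq_one.mp h)⟩
      have h2 : 0 < Nat.card (G ⧸ M) := Nat.card_pos
      nlinarith
    set f : G →* G ⧸ M := QuotientGroup.mk' M with hf
    have hfs : Function.Surjective f := QuotientGroup.mk'_surjective M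
    have hsol : ∀ K : Subgroup G, Group.IsSolvable K → Group.IsSolvable (K.map f) := by
      intro K hK
      exact solvable_of_surjective (f.subgroupMap_surjective K)
    have hfac : ∀ K : Subgroup G, (∀ g : G, ∃ x ∈ H₁, ∃ y ∈ K, g = x * y) →
        ∀ g : G ⧸ M, ∃ x ∈ H₁.map f, ∃ y ∈ K.map f, g = x * y := by
      intro K hK g
      obtain ⟨g, rfl⟩ := hfs g
      obtain ⟨x, hx, y, hy, rfl⟩ := hK g
      exact ⟨f x, ⟨x, hx, rfl⟩, f y, ⟨y, hy, rfl⟩, map_mul f x y⟩
    have hcop' : (H₂.map f).index.Coprime (H₃.map f).index :=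
      Nat.Coprime.of_dvd (Subgroup.index_map_dvd H₂ hfs) (Subgroup.index_map_dvd H₃ hfs) hcop
    have hq : Group.IsSolvable (G ⧸ M) :=
      ih _ hcard (G ⧸ M) (H₁.map f) (H₂.map f) (H₃.map f) rfl (hsol _ h₁) (hsol _ h₂) (hsol _ h₃)
        (hfac _ h12) (hfac _ h13) hcop'
    exact solvable_of_ker_le_range M.subtype f (by simp [hf])

/-- A finite group that factorises as H₁H₂ and as H₁H₃ with all three subgroups solvable and the indices of H₂ and H₃ coprime is solvable. -/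
theorem result {G : Type*} [Group G] [Finite G] (H₁ H₂ H₃ : Subgroup G)
    (h₁ : Group.IsSolvable H₁) (h₂ : Group.IsSolvable H₂) (h₃ : Group.IsSolvable H₃)
    (h12 : ∀ g : G, ∃ x ∈ H₁, ∃ y ∈ H₂, g = x * y) (h13 : ∀ g : G, ∃ x ∈ H₁, ∃ y ∈ H₃, g = x * y)
    (hcop : H₂.index.Coprime H₃.index) : Group.IsSolvable G := by
  exact main (Nat.card G) G H₁ H₂ H₃ rfl h₁ h₂ h₃ h12 h13 hcop

end Cfsg.Agent.S0019
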