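import Cfsg.Statements.S0020
import Cfsg.Agent.Lib.helper1.Hall
import Cfsg.Agent.S0007

set_option autoImplicit false
open Pointwise
open Cfsg

namespace Cfsg.Agent.S0020

theorem exists_hall_compl {G : Type*} [Group G] [Finite G] [Group.IsSolvable G] (q : ℕ) (hq : q.Prime) :
    ∃ H : Subgroup G, H.index = q ^ (Nat.card G).factorization q := by
  have hG0 : Nat.card G ≠ 0 := Nat.card_pos.ne'
  have h1 : Nat.card G = (Nat.card G / q ^ (Nat.card G).factorization q) *
      q ^ (Nat.card G).factorization q := by
    rw [mul_comm]; exact (Nat.ordProj_mul_ordCompl_eq_self (Nat.card G) q).symm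
  have h2 : (Nat.card G / q ^ (Nat.card G).factorization q).Coprime
      (q ^ (Nat.card G).factorization q) :=
    (Nat.Coprime.pow_left _ (Nat.coprime_ordCompl hq hG0)).symm
  obtain ⟨H, hH, _⟩ := (Cfsg.Agent.Lib.helper1.hallProp G _ _ h1 h2).2 ⊥
    (by rw [Subgroup.card_bot]; exact Nat.coprime_one_left _)
  refine ⟨H, ?_⟩
  have h3 := H.card_mul_index
  rw [hH] at h3
  have h4 : 0 < Nat.card G / q ^ (Nat.card G).factorization q := by
    rcases Nat.eq_zero_or_pos (Nat.card G / q ^ (Nat.card G).factorization q) with h | h
    · rw [h, zero_mul] at h1; exact absurd h1 hG0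
    · exact h
  exact Nat.eq_of_mul_eq_mul_left h4 (h3.trans h1)

theorem mul_eq_of_card {G : Type*} [Group G] [Finite G] (H K T : Subgroup G) (hH : H ≤ T) (hK : K ≤ T)
    (hcop : (Nat.card H).Coprime (Nat.card K)) (hcard : Nat.card H * Nat.card K = Nat.card T) :
    (H : Set G) * (K : Set G) = (T : Set G) := by
  apply Set.Subset.antisymm
  · rintro x ⟨h, hh, k, hk, rfl⟩
    exact T.mul_mem (hH hh) (hK hk)
  · intro t ht
    have e1 : Nat.card (H.subgroupOf T) = Nat.card H :=
      Nat.card_congr (Subgroup.subgroupOfEquivOfLe hH).toEquiv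
    have e2 : Nat.card (K.subgroupOf T) = Nat.card K :=
      Nat.card_congr (Subgroup.subgroupOfEquivOfLe hK).toEquiv
    have hc : Subgroup.IsComplement' (H.subgroupOf T) (K.subgroupOf T) :=
      Subgroup.isComplement'_of_coprime (by rw [e1, e2, hcard]) (by rw [e1, e2]; exact hcop)
    have hmem : (⟨t, ht⟩ : T) ∈ ((H.subgroupOf T : Subgroup T) : Set T) * ((K.subgroupOf T : Subgroup T) : Set T) := by
      have := Subgroup.IsComplement.mul_eq hc
      rw [this]; trivial
    obtain ⟨h, hh, k, hk, hhk⟩ := hmem
    refine ⟨h, Subgroup.mem_subgroupOf.mp hh, k, Subgroup.mem_subgroupOf.mp hk, ?_⟩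
    have := congrArg Subtype.val hhk
    simpa using this

/-- A finite solvable group admits a Sylow system: Sylow subgroups, one for each prime, that pairwise permute as sets. -/
theorem result {G : Type*} [Group G] [Finite G] [Group.IsSolvable G] :
    ∃ S : (p : Nat.Primes) → Sylow (p : ℕ) G,
      ∀ p q : Nat.Primes, (S p : Set G) * (S q : Set G) = (S q : Set G) * (S p : Set G) := by
  classical
  have hG0 : Nat.card G ≠ 0 := Nat.card_pos.ne'
  -- Hall complements
  have hex : ∀ q : ℕ, ∃ H : Subgroup G, q.Prime → H.index = q ^ (Nat.card G).factorization q := by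
    intro q
    by_cases hq : q.Prime
    · obtain ⟨H, hH⟩ := exists_hall_compl (G := G) q hq
      exact ⟨H, fun _ => hH⟩
    · exact ⟨⊤, fun h => absurd h hq⟩
  choose K hK using hex
  -- index of intersections
  have hidx : ∀ F : Finset ℕ, (∀ r ∈ F, r.Prime) →
      (F.inf K).index = ∏ r ∈ F, r ^ (Nat.card G).factorization r := by
    intro F
    induction F using Finset.induction_on with
    | empty => intro _; simp
    | insert a F ha ih =>
      intro hF
      have hFp : ∀ r ∈ F, r.Prime := fun r hr => hF r (Finset.mem_insert_of_mem hr)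
      have hap : a.Prime := hF a (Finset.mem_insert_self a F)
      rw [Finset.inf_insert, Finset.prod_insert ha]
      have hcop : (K a).index.Coprime (F.inf K).index := by
        rw [hK a hap, ih hFp]
        apply Nat.Coprime.prod_right
        intro r hr
        apply Nat.Coprime.pow
        exact (Nat.coprime_primes hap (hFp r hr)).mpr (fun h => ha (h ▸ hr))
      rw [(Cfsg.Agent.S0007.result (K a) (F.inf K) hcop).1, hK a hap, ih hFp]
  have hpf : ∀ r ∈ (Nat.card G).primeFactors, r.Prime := fun r hr => Nat.prime_of_mem_primeFactors hr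
  have htot : ∏ r ∈ (Nat.card G).primeFactors, r ^ (Nat.card G).factorization r = Nat.card G :=
    Nat.prod_factorization_pow_eq_self hG0
  have herase : ∀ (F : Finset ℕ) (q : ℕ), q.Prime → (q ∈ F ∨ ¬ q ∣ Nat.card G) →
      q ^ (Nat.card G).factorization q * ∏ r ∈ F.erase q, r ^ (Nat.card G).factorization r =
        ∏ r ∈ F, r ^ (Nat.card G).factorization r := by
    intro F q hq h
    by_cases hqF : q ∈ F
    · exact Finset.mul_prod_erase F (fun r => r ^ (Nat.card G).factorization r) hqF
    · have hnd : ¬ q ∣ Nat.card G := h.resolve_left hqF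
      rw [Finset.erase_eq_of_notMem hqF, Nat.factorization_eq_zero_of_not_dvd hnd, pow_zero, one_mul]
  have hmem : ∀ q : ℕ, q.Prime → (q ∈ (Nat.card G).primeFactors ∨ ¬ q ∣ Nat.card G) := by
    intro q hq
    by_cases h : q ∣ Nat.card G
    · exact Or.inl (Nat.mem_primeFactors.mpr ⟨hq, h, hG0⟩)
    · exact Or.inr h
  have key : ∃ D : ℕ → Subgroup G,
      (∀ p, p.Prime → Nat.card (D p) = p ^ (Nat.card G).factorization p) ∧
      (∀ p q, p.Prime → q.Prime → p ≠ q → (D p : Set G) * (D q : Set G) = (D q : Set G) * (D p : Set G)) := by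
    refine ⟨fun p => ((Nat.card G).primeFactors.erase p).inf K, ?_, ?_⟩
    · intro p hp
      have h1 := hidx ((Nat.card G).primeFactors.erase p) (fun r hr => hpf r (Finset.mem_of_mem_erase hr))
      have h2 := herase (Nat.card G).primeFactors p hp (hmem p hp)
      rw [htot, ← h1] at h2
      have h3 := (((Nat.card G).primeFactors.erase p).inf K : Subgroup G).card_mul_index
      have hpos : 0 < (((Nat.card G).primeFactors.erase p).inf K : Subgroup G).index :=
        Nat.pos_of_ne_zero Subgroup.index_ne_zero_of_finite
      exact Nat.eq_of_mul_eq_mul_right hpos (h3.trans h2.symm)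
    · intro p q hp hq hpq
      have hcard : ∀ p, p.Prime → Nat.card (((Nat.card G).primeFactors.erase p).inf K : Subgroup G) =
          p ^ (Nat.card G).factorization p := by
        intro p hp
        have h1 := hidx ((Nat.card G).primeFactors.erase p) (fun r hr => hpf r (Finset.mem_of_mem_erase hr))
        have h2 := herase (Nat.card G).primeFactors p hp (hmem p hp)
        rw [htot, ← h1] at h2
        have h3 := (((Nat.card G).primeFactors.erase p).inf K : Subgroup G).card_mul_index
        have hpos : 0 < (((Nat.card G).primeFactors.erase p).inf K : Subgroup G).index :=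
          Nat.pos_of_ne_zero Subgroup.index_ne_zero_of_finite
        exact Nat.eq_of_mul_eq_mul_right hpos (h3.trans h2.symm)
      have hT : Nat.card ((((Nat.card G).primeFactors.erase p).erase q).inf K : Subgroup G) =
          p ^ (Nat.card G).factorization p * q ^ (Nat.card G).factorization q := by
        have h1 := hidx (((Nat.card G).primeFactors.erase p).erase q)
          (fun r hr => hpf r (Finset.mem_of_mem_erase (Finset.mem_of_mem_erase hr)))
        have h2 := herase ((Nat.card G).primeFactors.erase p) q hq (by
          rcases hmem q hq with h | h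
          · exact Or.inl (Finset.mem_erase.mpr ⟨fun h' => hpq h'.symm, h⟩)
          · exact Or.inr h)
        have h3 := herase (Nat.card G).primeFactors p hp (hmem p hp)
        rw [htot, ← h2, ← h1] at h3
        have h4 := ((((Nat.card G).primeFactors.erase p).erase q).inf K : Subgroup G).card_mul_index
        have hpos : 0 < ((((Nat.card G).primeFactors.erase p).erase q).inf K : Subgroup G).index :=
          Nat.pos_of_ne_zero Subgroup.index_ne_zero_of_finite
        apply Nat.eq_of_mul_eq_mul_right hpos
        rw [h4, mul_assoc]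
        exact h3.symm
      have hle1 : (((Nat.card G).primeFactors.erase p).inf K : Subgroup G) ≤
          ((((Nat.card G).primeFactors.erase p).erase q).inf K : Subgroup G) :=
        Finset.inf_mono (Finset.erase_subset _ _)
      have hle2 : (((Nat.card G).primeFactors.erase q).inf K : Subgroup G) ≤
          ((((Nat.card G).primeFactors.erase p).erase q).inf K : Subgroup G) :=
        Finset.inf_mono (Finset.erase_subset_erase _ (Finset.erase_subset _ _))
      have hcop : (p ^ (Nat.card G).factorization p).Coprime (q ^ (Nat.card G).factorization q) :=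
        Nat.Coprime.pow _ _ ((Nat.coprime_primes hp hq).mpr hpq)
      show ((((Nat.card G).primeFactors.erase p).inf K : Subgroup G) : Set G) *
        ((((Nat.card G).primeFactors.erase q).inf K : Subgroup G) : Set G) =
        ((((Nat.card G).primeFactors.erase q).inf K : Subgroup G) : Set G) *
        ((((Nat.card G).primeFactors.erase p).inf K : Subgroup G) : Set G)
      rw [mul_eq_of_card _ _ _ hle1 hle2 (by rw [hcard p hp, hcard q hq]; exact hcop)
          (by rw [hcard p hp, hcard q hq, hT]),
        mul_eq_of_card _ _ _ hle2 hle1 (by rw [hcard p hp, hcard q hq]; exact hcop.symm)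
          (by rw [hcard p hp, hcard q hq, hT, mul_comm])]
  obtain ⟨D, hD1, hD2⟩ := key
  refine ⟨fun p => haveI : Fact (p : ℕ).Prime := ⟨p.2⟩
    Sylow.ofCard (D (p : ℕ)) (hD1 p p.2), ?_⟩
  intro p q
  by_cases hpq : p = q
  · subst hpq; rfl
  have hpq' : (p : ℕ) ≠ (q : ℕ) := fun h => hpq (Subtype.ext h)
  exact hD2 p q p.2 q.2 hpq'

end Cfsg.Agent.S0020
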