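import Cfsg.Statements.S0021
import Mathlib
import Cfsg.Agent.S0006

set_option autoImplicit false
open Pointwise
open Cfsg

namespace Cfsg.Agent.S0021

/-- For permuting subgroups the product set is the join. -/
theorem coe_sup_of_mul_comm {G : Type*} [Group G] (H K : Subgroup G)
    (h : (H : Set G) * (K : Set G) = (K : Set G) * (H : Set G)) :
    ((H ⊔ K : Subgroup G) : Set G) = (H : Set G) * (K : Set G) := by
  apply Set.Subset.antisymm
  · let M : Subgroup G :=
      { carrier := (H : Set G) * (K : Set G)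
        one_mem' := ⟨1, H.one_mem, 1, K.one_mem, by simp⟩
        mul_mem' := by
          rintro x y ⟨a, ha, b, hb, rfl⟩ ⟨c, hc, d, hd, rfl⟩
          have h1 : b * c ∈ (K : Set G) * (H : Set G) := ⟨b, hb, c, hc, rfl⟩
          rw [← h] at h1
          obtain ⟨c', hc', b', hb', e⟩ := h1
          have e : c' * b' = b * c := e
          refine ⟨a * c', H.mul_mem ha hc', b' * d, K.mul_mem hb' hd, ?_⟩
          show a * c' * (b' * d) = a * b * (c * d)
          calc a * c' * (b' * d) = a * (c' * b') * d := by group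
            _ = a * (b * c) * d := by rw [e]
            _ = a * b * (c * d) := by group
        inv_mem' := by
          rintro x ⟨a, ha, b, hb, rfl⟩
          have h1 : b⁻¹ * a⁻¹ ∈ (K : Set G) * (H : Set G) :=
            ⟨b⁻¹, K.inv_mem hb, a⁻¹, H.inv_mem ha, rfl⟩
          rw [← h] at h1
          rw [mul_inv_rev]
          exact h1 }
    have hle : H ⊔ K ≤ M :=
      sup_le (fun x hx => ⟨x, hx, 1, K.one_mem, by simp⟩) (fun x hx => ⟨1, H.one_mem, x, hx, by simp⟩)
    exact hle
  · rintro x ⟨a, ha, b, hb, rfl⟩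
    exact Subgroup.mul_mem_sup ha hb

theorem perm_family_aux {G : Type*} [Group G] [Finite G] {ι : Type*} [DecidableEq ι]
    (P : ι → Subgroup G)
    (hP : ∀ i j : ι, (P i : Set G) * (P j : Set G) = (P j : Set G) * (P i : Set G))
    (hcop : ∀ i j : ι, i ≠ j → (Nat.card (P i)).Coprime (Nat.card (P j)))
    (T : Finset ι) :
    (∀ r : ι, ((⨆ q ∈ T, P q : Subgroup G) : Set G) * (P r : Set G) =
        (P r : Set G) * ((⨆ q ∈ T, P q : Subgroup G) : Set G)) ∧
    Nat.card (⨆ q ∈ T, P q : Subgroup G) = ∏ q ∈ T, Nat.card (P q) := by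
  induction T using Finset.induction_on with
  | empty =>
    constructor
    · intro r
      simp
    · simp
  | insert r T hr ih =>
    obtain ⟨ih1, ih2⟩ := ih
    have hsup : (⨆ q ∈ insert r T, P q) = P r ⊔ ⨆ q ∈ T, P q := Finset.iSup_insert _ _ _
    rw [hsup]
    set K : Subgroup G := ⨆ q ∈ T, P q with hK
    have hperm : (P r : Set G) * (K : Set G) = (K : Set G) * (P r : Set G) := (ih1 r).symm
    have hcoe := coe_sup_of_mul_comm (P r) K hperm
    constructor
    · intro t
      rw [hcoe, mul_assoc, ih1 t, ← mul_assoc, hP r t, mul_assoc]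
    · rw [Finset.prod_insert hr]
      apply le_antisymm
      · calc Nat.card (P r ⊔ K : Subgroup G)
            = Nat.card (((P r ⊔ K : Subgroup G) : Set G)) := rfl
          _ = Nat.card ((P r : Set G) * (K : Set G) : Set G) := by rw [hcoe]
          _ ≤ Nat.card (P r : Set G) * Nat.card (K : Set G) := Set.natCard_mul_le
          _ = Nat.card (P r) * ∏ q ∈ T, Nat.card (P q) := by rw [← ih2]; rfl
      · apply Nat.le_of_dvd Nat.card_pos
        apply Nat.Coprime.mul_dvd_of_dvd_of_dvd
        · apply Nat.Coprime.prod_right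
          intro q hq
          apply hcop
          intro h
          apply hr
          rw [h]; exact hq
        · exact Subgroup.card_dvd_of_le le_sup_left
        · rw [← ih2]; exact Subgroup.card_dvd_of_le le_sup_right

/-- A Sylow system gives a `p`-complement for every prime `p`. -/
theorem exists_pComplement {G : Type*} [Group G] [Finite G]
    (S : (p : Nat.Primes) → Sylow (p : ℕ) G)
    (hS : ∀ p q : Nat.Primes, (S p : Set G) * (S q : Set G) = (S q : Set G) * (S p : Set G))
    (p : ℕ) (hp : p.Prime) :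
    ∃ H : Subgroup G, H.index = p ^ (Nat.card G).factorization p := by
  classical
  have hSp : ∀ q : Nat.Primes, ∃ b : ℕ, Nat.card ((S q : Subgroup G)) = (q : ℕ) ^ b := by
    intro q
    haveI : Fact (q : ℕ).Prime := ⟨q.2⟩
    exact (S q).2.exists_card_eq
  have hcop : ∀ i j : Nat.Primes, i ≠ j →
      (Nat.card ((S i : Subgroup G))).Coprime (Nat.card ((S j : Subgroup G))) := by
    intro i j hij
    obtain ⟨a, ha⟩ := hSp i
    obtain ⟨b, hb⟩ := hSp j
    rw [ha, hb]
    apply Nat.Coprime.pow
    apply (Nat.coprime_primes i.2 j.2).mpr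
    intro h
    exact hij (Subtype.ext h)
  set T : Finset Nat.Primes := (((Nat.card G).primeFactors.erase p).subtype Nat.Prime) with hT
  have hmem : ∀ q : Nat.Primes, q ∈ T ↔ (q : ℕ) ≠ p ∧ (q : ℕ) ∈ (Nat.card G).primeFactors :=
    fun q => Finset.mem_subtype.trans Finset.mem_erase
  obtain ⟨-, hcard⟩ := perm_family_aux (fun q : Nat.Primes => (S q : Subgroup G))
    (fun i j => hS i j) hcop T
  set K : Subgroup G := ⨆ q ∈ T, (S q : Subgroup G) with hK
  refine ⟨K, ?_⟩
  have h1 : ¬ p ∣ Nat.card K := by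
    rw [hcard]
    intro hdvd
    obtain ⟨q, hq, hpq⟩ := (Prime.dvd_finsetProd_iff hp.prime _).mp hdvd
    obtain ⟨b, hb⟩ := hSp q
    rw [hb] at hpq
    have h2 : p = (q : ℕ) := (Nat.prime_dvd_prime_iff_eq hp q.2).mp (hp.dvd_of_dvd_pow hpq)
    exact ((hmem q).mp hq).1 h2.symm
  have h2 : ∀ {d : ℕ}, d.Prime → d ∣ K.index → d = p := by
    intro d hd hdvd
    by_contra hne
    have hdG : d ∣ Nat.card G := hdvd.trans (Subgroup.index_dvd_card K)
    have hdT : (⟨d, hd⟩ : Nat.Primes) ∈ T :=
      (hmem ⟨d, hd⟩).mpr ⟨hne, Nat.mem_primeFactors.mpr ⟨hd, hdG, Nat.card_pos.ne'⟩⟩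
    have hle : (S ⟨d, hd⟩ : Subgroup G) ≤ K :=
      le_iSup₂ (f := fun (q : Nat.Primes) (_ : q ∈ T) => (S q : Subgroup G)) _ hdT
    have h3 : K.index ∣ (S ⟨d, hd⟩ : Subgroup G).index := Subgroup.index_dvd_of_le hle
    haveI : Fact d.Prime := ⟨hd⟩
    exact (S ⟨d, hd⟩).not_dvd_index (hdvd.trans h3)
  have h3 : K.index ≠ 0 := Subgroup.index_ne_zero_of_finite
  have h4 := Nat.eq_prime_pow_of_unique_prime_dvd h3 h2
  have h5 : K.index * Nat.card K = Nat.card G := Subgroup.index_mul_card K
  have h6 : (Nat.card G).factorization p = (K.index).factorization p := by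
    rw [← h5, Nat.factorization_mul h3 Nat.card_pos.ne', Finsupp.add_apply,
      Nat.factorization_eq_zero_of_not_dvd h1, add_zero]
  rw [h6]
  generalize K.index.primeFactorsList.length = k at h4
  rw [h4, hp.factorization_pow]
  simp

/-- A finite group with a family of pairwise permuting Sylow subgroups, one for each prime, is solvable (this direction rests on Burnside's two-prime Theorem). -/
theorem result {G : Type*} [Group G] [Finite G]
    (S : (p : Nat.Primes) → Sylow (p : ℕ) G)
    (hS : ∀ p q : Nat.Primes, (S p : Set G) * (S q : Set G) = (S q : Set G) * (S p : Set G)) :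
    Group.IsSolvable G := by
  exact Cfsg.Agent.S0006.result (fun p hp => exists_pComplement S hS p hp)

end Cfsg.Agent.S0021
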