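import Cfsg.Statements.S0030
import Cfsg.Agent.Lib.helper1.Coprime

set_option autoImplicit false
open Cfsg

namespace Cfsg.Agent.S0030

/-- Under coprime action fixed points of a product of two invariant subgroups factor: if K = X Y with X and Y normalised by A then every A-fixed element of K is a product of an A-fixed element of X and an A-fixed element of Y. -/
theorem result {G : Type*} [Group G] [Finite G] (A K : Subgroup G) (hAK : A ≤ Subgroup.normalizer (K : Set G))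
    (hcop : (Nat.card A).Coprime (Nat.card K)) (hsolv : Group.IsSolvable A ∨ Group.IsSolvable K)
    (X Y : Subgroup G) (hX : X ≤ K) (hY : Y ≤ K) (hXA : A ≤ Subgroup.normalizer (X : Set G)) (hYA : A ≤ Subgroup.normalizer (Y : Set G))
    (hXY : ∀ k ∈ K, ∃ x ∈ X, ∃ y ∈ Y, k = x * y) (k : G) (hk : k ∈ K ⊓ Subgroup.centralizer (A : Set G)) :
    ∃ x ∈ X ⊓ Subgroup.centralizer (A : Set G), ∃ y ∈ Y ⊓ Subgroup.centralizer (A : Set G), k = x * y := by
  obtain ⟨hkK, hkC⟩ := hk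
  obtain ⟨x₀, hx₀, y₀, hy₀, hxy⟩ := hXY k hkK
  have hnX : ∀ a ∈ A, ∀ n ∈ X, a * n * a⁻¹ ∈ X := Subgroup.le_normalizer_iff.mp hXA
  have hnY : ∀ a ∈ A, ∀ n ∈ Y, a * n * a⁻¹ ∈ Y := Subgroup.le_normalizer_iff.mp hYA
  have hDA : A ≤ Subgroup.normalizer ((X ⊓ Y : Subgroup G) : Set G) := by
    rw [Subgroup.le_normalizer_iff]
    intro a ha n hn
    exact ⟨hnX a ha n hn.1, hnY a ha n hn.2⟩
  have hDK : X ⊓ Y ≤ K := inf_le_left.trans hX
  obtain ⟨c, hc, hcx⟩ := Cfsg.Agent.Lib.helper1.coset_fixed A (X ⊓ Y) hDA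
    (Nat.Coprime.coprime_dvd_right (Subgroup.card_dvd_of_le hDK) hcop)
    (hsolv.imp id (Cfsg.Agent.Lib.helper1.isSolvable_of_le hDK)) x₀⁻¹ (by
      intro a ha
      rw [inv_inv]
      constructor
      · exact X.mul_mem (hnX a ha _ (X.inv_mem hx₀)) hx₀
      · have hak : a * k = k * a := (Subgroup.mem_centralizer_iff.mp hkC) a ha
        have e : a * x₀⁻¹ * a⁻¹ * x₀ = (a * y₀ * a⁻¹) * y₀⁻¹ := by
          have h1 : x₀⁻¹ = y₀ * k⁻¹ := by rw [hxy]; group
          have h2 : a * k⁻¹ * a⁻¹ = k⁻¹ := by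
            have : a * k⁻¹ = k⁻¹ * a := by
              have := congrArg (fun t => k⁻¹ * t * k⁻¹) hak
              simpa [mul_assoc] using this.symm
            rw [this]; group
          calc a * x₀⁻¹ * a⁻¹ * x₀ = a * (y₀ * k⁻¹) * a⁻¹ * x₀ := by rw [h1]
            _ = (a * y₀ * a⁻¹) * (a * k⁻¹ * a⁻¹) * x₀ := by group
            _ = (a * y₀ * a⁻¹) * k⁻¹ * x₀ := by rw [h2]
            _ = (a * y₀ * a⁻¹) * y₀⁻¹ := by rw [hxy]; group
        rw [e]
        exact Y.mul_mem (hnY a ha _ hy₀) (Y.inv_mem hy₀))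
  rw [inv_inv] at hcx
  have hcX : c ∈ X := by
    have := X.mul_mem hcx.1 (X.inv_mem hx₀)
    simpa using this
  have hcC := hc
  refine ⟨c⁻¹, ⟨X.inv_mem hcX, Subgroup.inv_mem _ hcC⟩, c * k, ⟨?_, Subgroup.mul_mem _ hcC hkC⟩, by group⟩
  have e : c * k = (c * x₀) * y₀ := by rw [hxy]; group
  rw [e]
  exact Y.mul_mem hcx.2 hy₀

end Cfsg.Agent.S0030
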