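import Cfsg.Statements.S0047
import Mathlib.GroupTheory.Subgroup.Centralizer
import Mathlib.GroupTheory.QuotientGroup.Basic
import Mathlib.Tactic.Group

set_option autoImplicit false
open Cfsg

namespace Cfsg.Agent.S0047

open scoped commutatorElement

section
variable {G : Type*} [Group G]

/-- `⁅a₁ b₁, b⁆ = ⁅a₁, b⁆` when `b₁` and `b` commute. -/
theorem comm_mul_left (a₁ b₁ b : G) (h : b₁ * b = b * b₁) : ⁅a₁ * b₁, b⁆ = ⁅a₁, b⁆ := by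
  rw [commutatorElement_def, commutatorElement_def]
  have h' : b₁ * b * b₁⁻¹ = b := by rw [h, mul_inv_cancel_right]
  calc a₁ * b₁ * b * (a₁ * b₁)⁻¹ * b⁻¹ = a₁ * (b₁ * b * b₁⁻¹) * a₁⁻¹ * b⁻¹ := by group
    _ = a₁ * b * a₁⁻¹ * b⁻¹ := by rw [h']

/-- `⁅a₁, b₂ a₂⁆ = ⁅a₁, b₂⁆` when `a₂` and `a₁` commute. -/
theorem comm_mul_right (a₁ b₂ a₂ : G) (h : a₂ * a₁ = a₁ * a₂) : ⁅a₁, b₂ * a₂⁆ = ⁅a₁, b₂⁆ := by
  rw [commutatorElement_def, commutatorElement_def]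
  have h' : a₂ * a₁⁻¹ * a₂⁻¹ = a₁⁻¹ := by
    have : a₂ * a₁⁻¹ = a₁⁻¹ * a₂ := (show Commute a₂ a₁ from h).inv_right
    rw [this, mul_inv_cancel_right]
  calc a₁ * (b₂ * a₂) * a₁⁻¹ * (b₂ * a₂)⁻¹ = a₁ * b₂ * (a₂ * a₁⁻¹ * a₂⁻¹) * b₂⁻¹ := by group
    _ = a₁ * b₂ * a₁⁻¹ * b₂⁻¹ := by rw [h']

theorem conj_comm (g x y : G) : g * ⁅x, y⁆ * g⁻¹ = ⁅g * x * g⁻¹, g * y * g⁻¹⁆ := by
  rw [commutatorElement_def, commutatorElement_def]; group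

end

/-- Itô's key computation. -/
theorem ito_key {G : Type*} [Group G] (A B : Subgroup G)
    [IsMulCommutative A] [IsMulCommutative B] (hAB : ∀ g : G, ∃ a ∈ A, ∃ b ∈ B, g = a * b)
    (a α : G) (ha : a ∈ A) (hα : α ∈ A) (b β : G) (hb : b ∈ B) (hβ : β ∈ B) :
    (α * β) * ⁅a, b⁆ * (α * β)⁻¹ = (β * α) * ⁅a, b⁆ * (β * α)⁻¹ := by
  have cA : ∀ x ∈ A, ∀ y ∈ A, x * y = y * x := fun x hx y hy => setLike_mul_comm hx hy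
  have cB : ∀ x ∈ B, ∀ y ∈ B, x * y = y * x := fun x hx y hy => setLike_mul_comm hx hy
  have conjA : ∀ x ∈ A, ∀ y ∈ A, x * y * x⁻¹ = y := fun x hx y hy => by
    rw [cA x hx y hy, mul_inv_cancel_right]
  have conjB : ∀ x ∈ B, ∀ y ∈ B, x * y * x⁻¹ = y := fun x hx y hy => by
    rw [cB x hx y hy, mul_inv_cancel_right]
  obtain ⟨a₁, ha₁, b₁, hb₁, h1⟩ := hAB (β * a * β⁻¹)
  obtain ⟨a₂', ha₂', b₂', hb₂', h2'⟩ := hAB (α * b * α⁻¹)⁻¹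
  have h2 : α * b * α⁻¹ = b₂'⁻¹ * a₂'⁻¹ := by
    rw [← mul_inv_rev, ← h2', inv_inv]
  have hb₂ : b₂'⁻¹ ∈ B := B.inv_mem hb₂'
  have ha₂ : a₂'⁻¹ ∈ A := A.inv_mem ha₂'
  have lhs : (α * β) * ⁅a, b⁆ * (α * β)⁻¹ = ⁅a₁, b₂'⁻¹⁆ := by
    calc (α * β) * ⁅a, b⁆ * (α * β)⁻¹ = α * (β * ⁅a, b⁆ * β⁻¹) * α⁻¹ := by group
      _ = α * ⁅β * a * β⁻¹, β * b * β⁻¹⁆ * α⁻¹ := by rw [conj_comm]
      _ = α * ⁅a₁ * b₁, b⁆ * α⁻¹ := by rw [conjB β hβ b hb, h1]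
      _ = α * ⁅a₁, b⁆ * α⁻¹ := by rw [comm_mul_left a₁ b₁ b (cB b₁ hb₁ b hb)]
      _ = ⁅α * a₁ * α⁻¹, α * b * α⁻¹⁆ := by rw [conj_comm]
      _ = ⁅a₁, b₂'⁻¹ * a₂'⁻¹⁆ := by rw [conjA α hα a₁ ha₁, h2]
      _ = ⁅a₁, b₂'⁻¹⁆ := comm_mul_right a₁ _ _ (cA _ ha₂ a₁ ha₁)
  have rhs : (β * α) * ⁅a, b⁆ * (β * α)⁻¹ = ⁅a₁, b₂'⁻¹⁆ := by
    calc (β * α) * ⁅a, b⁆ * (β * α)⁻¹ = β * (α * ⁅a, b⁆ * α⁻¹) * β⁻¹ := by group
      _ = β * ⁅α * a * α⁻¹, α * b * α⁻¹⁆ * β⁻¹ := by rw [conj_comm]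
      _ = β * ⁅a, b₂'⁻¹ * a₂'⁻¹⁆ * β⁻¹ := by rw [conjA α hα a ha, h2]
      _ = β * ⁅a, b₂'⁻¹⁆ * β⁻¹ := by rw [comm_mul_right a _ _ (cA _ ha₂ a ha)]
      _ = ⁅β * a * β⁻¹, β * b₂'⁻¹ * β⁻¹⁆ := by rw [conj_comm]
      _ = ⁅a₁ * b₁, b₂'⁻¹⁆ := by rw [conjB β hβ _ hb₂, h1]
      _ = ⁅a₁, b₂'⁻¹⁆ := comm_mul_left a₁ b₁ _ (cB b₁ hb₁ _ hb₂)
  rw [lhs, rhs]

/-- Generators of `⁅A, B⁆` commute. -/
theorem ito_comm {G : Type*} [Group G] (A B : Subgroup G)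
    [IsMulCommutative A] [IsMulCommutative B] (hAB : ∀ g : G, ∃ a ∈ A, ∃ b ∈ B, g = a * b)
    (a α : G) (ha : a ∈ A) (hα : α ∈ A) (b β : G) (hb : b ∈ B) (hβ : β ∈ B) :
    ⁅a, b⁆ * ⁅α, β⁆ = ⁅α, β⁆ * ⁅a, b⁆ := by
  have key := ito_key A B hAB a α⁻¹ ha (A.inv_mem hα) b β⁻¹ hb (B.inv_mem hβ)
  have h3 : ⁅α, β⁆ = (β⁻¹ * α⁻¹)⁻¹ * (α⁻¹ * β⁻¹) := by
    rw [commutatorElement_def]; group
  rw [h3]
  calc ⁅a, b⁆ * ((β⁻¹ * α⁻¹)⁻¹ * (α⁻¹ * β⁻¹))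
      = (β⁻¹ * α⁻¹)⁻¹ * (β⁻¹ * α⁻¹ * ⁅a, b⁆ * (β⁻¹ * α⁻¹)⁻¹) * (α⁻¹ * β⁻¹) := by group
    _ = (β⁻¹ * α⁻¹)⁻¹ * (α⁻¹ * β⁻¹ * ⁅a, b⁆ * (α⁻¹ * β⁻¹)⁻¹) * (α⁻¹ * β⁻¹) := by rw [key]
    _ = (β⁻¹ * α⁻¹)⁻¹ * (α⁻¹ * β⁻¹) * ⁅a, b⁆ := by group

/-- A finite group which is the product AB of two abelian subgroups A and B is solvable. -/
theorem result {G : Type*} [Group G] [Finite G] (A B : Subgroup G)
    [IsMulCommutative A] [IsMulCommutative B] (hAB : ∀ g : G, ∃ a ∈ A, ∃ b ∈ B, g = a * b) :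
    Group.IsSolvable G := by
  have hsup : A ⊔ B = ⊤ := by
    rw [eq_top_iff]
    intro g _
    obtain ⟨a, ha, b, hb, rfl⟩ := hAB g
    exact Subgroup.mul_mem_sup ha hb
  -- T = ⁅A, B⁆ is commutative
  have hTcomm : IsMulCommutative (⁅A, B⁆ : Subgroup G) := by
    rw [Subgroup.commutator_def]
    apply Subgroup.isMulCommutative_closure
    rintro x ⟨a, ha, b, hb, rfl⟩ y ⟨α, hα, β, hβ, rfl⟩
    exact ito_comm A B hAB a α ha hα b β hb hβ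
  -- T is normal
  haveI hTn : (⁅A, B⁆ : Subgroup G).Normal := by
    have h := Subgroup.normal_subgroupOf_commutator_sup (H₁ := A) (H₂ := B)
    rw [hsup] at h
    rw [Subgroup.normal_subgroupOf_iff_le_normalizer le_top, top_le_iff,
      Subgroup.normalizer_eq_top_iff] at h
    exact h
  -- G / T is commutative
  have hquot : IsMulCommutative (G ⧸ (⁅A, B⁆ : Subgroup G)) := by
    refine ⟨⟨fun x y => ?_⟩⟩
    induction x using QuotientGroup.induction_on with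
    | H g =>
    induction y using QuotientGroup.induction_on with
    | H h =>
    obtain ⟨a, ha, b, hb, rfl⟩ := hAB g
    obtain ⟨a', ha', b', hb', rfl⟩ := hAB h
    have cAB : ∀ x ∈ A, ∀ y ∈ B, Commute (x : G ⧸ (⁅A, B⁆ : Subgroup G)) (y : G ⧸ (⁅A, B⁆ : Subgroup G)) := by
      intro x hx y hy
      change (x : G ⧸ (⁅A, B⁆ : Subgroup G)) * y = y * x
      rw [← QuotientGroup.mk_mul, ← QuotientGroup.mk_mul, QuotientGroup.eq]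
      have h1 : ⁅y⁻¹, x⁻¹⁆ ∈ (⁅A, B⁆ : Subgroup G) := by
        have := Subgroup.commutator_mem_commutator (A.inv_mem hx) (B.inv_mem hy)
        have h2 : ⁅y⁻¹, x⁻¹⁆ = ⁅x⁻¹, y⁻¹⁆⁻¹ := by
          rw [commutatorElement_def, commutatorElement_def]; group
        rw [h2]
        exact Subgroup.inv_mem _ this
      have h3 : (x * y)⁻¹ * (y * x) = ⁅y⁻¹, x⁻¹⁆ := by
        rw [commutatorElement_def]; group
      rw [h3]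
      exact h1
    have cAA : ∀ x ∈ A, ∀ y ∈ A, Commute (x : G ⧸ (⁅A, B⁆ : Subgroup G)) (y : G ⧸ (⁅A, B⁆ : Subgroup G)) := by
      intro x hx y hy
      change (x : G ⧸ (⁅A, B⁆ : Subgroup G)) * y = y * x
      rw [← QuotientGroup.mk_mul, ← QuotientGroup.mk_mul, setLike_mul_comm hx hy]
    have cBB : ∀ x ∈ B, ∀ y ∈ B, Commute (x : G ⧸ (⁅A, B⁆ : Subgroup G)) (y : G ⧸ (⁅A, B⁆ : Subgroup G)) := by
      intro x hx y hy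
      change (x : G ⧸ (⁅A, B⁆ : Subgroup G)) * y = y * x
      rw [← QuotientGroup.mk_mul, ← QuotientGroup.mk_mul, setLike_mul_comm hx hy]
    rw [QuotientGroup.mk_mul, QuotientGroup.mk_mul]
    exact ((cAA a ha a' ha').mul_right (cAB a ha b' hb')).mul_left
      (((cAB a' ha' b hb).symm).mul_right (cBB b hb b' hb'))
  have hle : commutator G ≤ (⁅A, B⁆ : Subgroup G) :=
    Subgroup.Normal.quotient_commutative_iff_commutator_le.mp hquot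
  rw [isSolvable_def]
  refine ⟨2, ?_⟩
  rw [derivedSeries_succ, derivedSeries_one, eq_bot_iff]
  refine (Subgroup.commutator_mono hle hle).trans ?_
  rw [le_bot_iff, Subgroup.commutator_eq_bot_iff_le_centralizer]
  exact Subgroup.le_centralizer _

end Cfsg.Agent.S0047
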