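import Cfsg.Statements.S0049
import Mathlib.GroupTheory.SchurZassenhaus

set_option autoImplicit false
open Cfsg

namespace Cfsg.Agent.S0049

/-- A prime divisor of the order of a finite group also divides the index of the Frattini subgroup. -/
theorem result {G : Type*} [Group G] [Finite G] (p : ℕ) (hp : p.Prime) (hdvd : p ∣ Nat.card G) :
    p ∣ (frattini G).index := by
  classical
  haveI : Fact p.Prime := ⟨hp⟩
  by_contra hnd
  obtain ⟨P⟩ : Nonempty (Sylow p (frattini G)) := inferInstance
  have frattini_argument := Sylow.normalizer_sup_eq_top P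
  have normalizer_P := frattini_nongenerating frattini_argument
  haveI P_normal_in_G : (Subgroup.map (frattini G).subtype (P : Subgroup (frattini G))).Normal :=
    Subgroup.normalizer_eq_top_iff.mp normalizer_P
  set Q : Subgroup G := Subgroup.map (frattini G).subtype (P : Subgroup (frattini G)) with hQ
  have hQcard : Nat.card Q = Nat.card P := Subgroup.card_subtype _ _
  have hQidx : Q.index = (P : Subgroup (frattini G)).index * (frattini G).index :=
    Subgroup.index_map_subtype _
  have hnd' : ¬ p ∣ Q.index := by
    rw [hQidx, hp.dvd_mul]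
    push_neg
    exact ⟨P.not_dvd_index, hnd⟩
  obtain ⟨n, hn⟩ := IsPGroup.iff_card.mp P.2
  have hcop : Nat.Coprime (Nat.card Q) Q.index := by
    rw [hQcard, hn]
    exact Nat.Coprime.pow_left _ ((Nat.Prime.coprime_iff_not_dvd hp).mpr hnd')
  obtain ⟨H, hH⟩ := Subgroup.exists_right_complement'_of_coprime hcop
  have h1 : H ⊔ frattini G = ⊤ := by
    rw [eq_top_iff, ← hH.sup_eq_top]
    refine sup_le (le_sup_of_le_right ?_) le_sup_left
    exact Subgroup.map_subtype_le _
  have h2 : H = ⊤ := frattini_nongenerating h1
  rw [h2, Subgroup.isComplement'_top_right] at hH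
  have hQ1 : Nat.card Q = 1 := by rw [hH]; exact Subgroup.card_bot
  have hidx : Q.index = Nat.card G := by
    have := Subgroup.card_mul_index Q
    rw [hQ1, one_mul] at this
    exact this
  exact hnd' (hidx ▸ hdvd)

end Cfsg.Agent.S0049
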