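import Cfsg.Statements.S0050
import Cfsg.Agent.Lib.lead.Hall
import Cfsg.Agent.Lib.helper2.SylowExtra

set_option autoImplicit false
open Cfsg

namespace Cfsg.Agent.S0050

open Cfsg.Agent.Lib.helper2

/-- Frattini argument for Hall subgroups: if L is a solvable normal subgroup and H a subgroup of L of order coprime to its index in L, then L together with the normaliser of H generates the whole group. -/
theorem result {G : Type*} [Group G] [Finite G] (L : Subgroup G) [L.Normal] (hL : Group.IsSolvable L)
    (H : Subgroup G) (hHL : H ≤ L) (hHall : (Nat.card H).Coprime (H.relIndex L)) :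
    L ⊔ Subgroup.normalizer (H : Set G) = ⊤ := by
  classical
  rw [eq_top_iff]
  intro g _
  have hcardH : Nat.card (H.subgroupOf L) = Nat.card H :=
    Nat.card_congr (Subgroup.subgroupOfEquivOfLe hHL).toEquiv
  have hcop : (Nat.card (H.subgroupOf L)).Coprime (H.subgroupOf L).index := by
    rw [hcardH]; exact hHall
  set K : Subgroup G := H.map (MulAut.conj g).toMonoidHom with hK
  have hKL : K ≤ L := by
    rintro _ ⟨h, hh, rfl⟩
    exact (inferInstance : L.Normal).conj_mem h (hHL hh) g
  have hcardK : Nat.card (K.subgroupOf L) = Nat.card (H.subgroupOf L) := by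
    rw [hcardH, Nat.card_congr (Subgroup.subgroupOfEquivOfLe hKL).toEquiv, hK]
    exact Subgroup.card_map_of_injective (MulAut.conj g).injective
  obtain ⟨l, hl⟩ := Cfsg.Agent.Lib.lead.conj_of_coprime_of_isSolvable (H.subgroupOf L)
    (K.subgroupOf L) hcop hcardK
  -- l⁻¹ g normalises H
  have hmap : H.map (MulAut.conj ((l : G)⁻¹ * g)).toMonoidHom = H := by
    apply Subgroup.eq_of_le_of_card_ge
    · rintro _ ⟨h, hh, rfl⟩
      have h1 : (⟨g * h * g⁻¹, hKL ⟨h, hh, rfl⟩⟩ : L) ∈ K.subgroupOf L := by
        rw [Subgroup.mem_subgroupOf]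
        exact ⟨h, hh, rfl⟩
      rw [hl] at h1
      obtain ⟨h', hh', hh'eq⟩ := h1
      replace hh' : (h' : G) ∈ H := Subgroup.mem_subgroupOf.mp hh'
      have h2 : (l : G) * (h' : G) * (l : G)⁻¹ = g * h * g⁻¹ := by
        have := congrArg Subtype.val hh'eq
        simpa using this
      have h3 : (MulAut.conj ((l : G)⁻¹ * g)).toMonoidHom h = (h' : G) := by
        simp only [MulEquiv.coe_toMonoidHom, MulAut.conj_apply, mul_inv_rev, inv_inv]
        calc (l : G)⁻¹ * g * h * (g⁻¹ * (l : G)) = (l : G)⁻¹ * (g * h * g⁻¹) * (l : G) := by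
              simp [mul_assoc]
          _ = (h' : G) := by rw [← h2]; simp [mul_assoc]
      rw [h3]
      exact hh'
    · exact (Subgroup.card_map_of_injective (MulAut.conj ((l : G)⁻¹ * g)).injective).ge
  have hnorm := mem_normalizer_of_map_conj_eq H _ hmap
  have : g = (l : G) * ((l : G)⁻¹ * g) := by simp
  rw [this]
  exact Subgroup.mul_mem_sup l.2 hnorm

end Cfsg.Agent.S0050
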