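import Cfsg.Statements.S0053

set_option autoImplicit false
open Cfsg

namespace Cfsg.Agent.S0053

/-- An abelian minimal normal subgroup N of a finite group is complemented exactly when N is not inside the Frattini subgroup. -/
theorem result {G : Type*} [Group G] [Finite G]
    (N : Subgroup G) [N.Normal] [IsMulCommutative N] (hN : N ≠ ⊥)
    (hmin : ∀ M : Subgroup G, M.Normal → M ≤ N → M = ⊥ ∨ M = N) :
    (∃ H : Subgroup G, Subgroup.IsComplement' N H) ↔ ¬ N ≤ frattini G := by
  constructor
  · rintro ⟨H, hH⟩ hle
    have h1 : H ⊔ frattini G = ⊤ := by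
      rw [eq_top_iff, ← hH.sup_eq_top]
      exact sup_le (le_sup_of_le_right hle) le_sup_left
    have h2 : H = ⊤ := frattini_nongenerating h1
    have h3 := hH.disjoint
    rw [h2, disjoint_top] at h3
    exact hN h3
  · intro hle
    have : ∃ M : Subgroup G, IsCoatom M ∧ ¬ N ≤ M := by
      by_contra hcon
      push_neg at hcon
      apply hle
      unfold frattini Order.radical
      exact le_iInf₂ (fun M hM => hcon M hM)
    obtain ⟨M, hM, hNM⟩ := this
    have hsup : N ⊔ M = ⊤ := by
      apply hM.2
      exact lt_of_le_of_ne le_sup_right (fun h => hNM (h ▸ le_sup_left))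
    have hnormal : (N ⊓ M).Normal := by
      rw [← Subgroup.normalizer_eq_top_iff, eq_top_iff, ← hsup]
      apply sup_le
      · intro n hn
        rw [Subgroup.mem_normalizer_iff]
        intro x
        constructor
        · rintro ⟨hxN, hxM⟩
          have : n * x * n⁻¹ = x := by
            rw [Subgroup.mul_comm_of_mem_isMulCommutative N hn hxN, mul_inv_cancel_right]
          rw [this]; exact ⟨hxN, hxM⟩
        · intro hx
          have hxN : x ∈ N := by
            have := Subgroup.Normal.conj_mem (inferInstance : N.Normal) _ hx.1 n⁻¹
            simpa [mul_assoc] using this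
          have : n * x * n⁻¹ = x := by
            rw [Subgroup.mul_comm_of_mem_isMulCommutative N hn hxN, mul_inv_cancel_right]
          rw [this] at hx; exact hx
      · intro m hm
        rw [Subgroup.mem_normalizer_iff]
        intro x
        constructor
        · rintro ⟨hxN, hxM⟩
          exact ⟨Subgroup.Normal.conj_mem inferInstance _ hxN m,
            M.mul_mem (M.mul_mem hm hxM) (M.inv_mem hm)⟩
        · rintro ⟨hxN, hxM⟩
          constructor
          · have := Subgroup.Normal.conj_mem (inferInstance : N.Normal) _ hxN m⁻¹
            simpa [mul_assoc] using this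
          · have := M.mul_mem (M.mul_mem (M.inv_mem hm) hxM) hm
            simpa [mul_assoc] using this
    rcases hmin (N ⊓ M) hnormal inf_le_left with h | h
    · refine ⟨M, Subgroup.isComplement'_of_disjoint_and_mul_eq_univ (disjoint_iff.mpr h) ?_⟩
      rw [← Subgroup.normal_mul, hsup, Subgroup.coe_top]
    · exact absurd (inf_eq_left.mp h) hNM

end Cfsg.Agent.S0053
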