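import Cfsg.Statements.S0054
import Mathlib.GroupTheory.PGroup
import Mathlib.GroupTheory.Perm.Cycle.Type
import Mathlib.Tactic.Group

set_option autoImplicit false
open Cfsg

namespace Cfsg.Agent.S0054

/-- Any two nonidentity elements of a semiregular normal subgroup of a 2-transitive group are
conjugate in the big group. -/
theorem exists_conj {G : Type*} [Group G]
    {X : Type*} [MulAction G X] (h2 : MulAction.IsMultiplyPretransitive G X 2)
    (N : Subgroup G) [hN : N.Normal] (x₀ : X) (hreg : MulAction.stabilizer N x₀ = ⊥)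
    (n m : G) (hn : n ∈ N) (hm : m ∈ N) (hn1 : n ≠ 1) (hm1 : m ≠ 1) :
    ∃ g : G, g * n * g⁻¹ = m := by
  have key : ∀ k : G, k ∈ N → k • x₀ = x₀ → k = 1 := by
    intro k hk hkx
    have : (⟨k, hk⟩ : N) ∈ MulAction.stabilizer N x₀ := by
      rw [MulAction.mem_stabilizer_iff]
      exact hkx
    rw [hreg, Subgroup.mem_bot] at this
    exact congrArg Subtype.val this
  have hnx : x₀ ≠ n • x₀ := fun h => hn1 (key n hn h.symm)
  have hmx : x₀ ≠ m • x₀ := fun h => hm1 (key m hm h.symm)
  obtain ⟨g, hg1, hg2⟩ := (MulAction.is_two_pretransitive_iff.mp h2) hnx hmx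
  refine ⟨g, ?_⟩
  have hginv : g⁻¹ • x₀ = x₀ := by
    rw [inv_smul_eq_iff]; exact hg1.symm
  have h3 : (m⁻¹ * (g * n * g⁻¹)) • x₀ = x₀ := by
    rw [mul_smul, mul_smul, mul_smul, hginv, hg2, inv_smul_smul]
  have h4 : m⁻¹ * (g * n * g⁻¹) ∈ N := N.mul_mem (N.inv_mem hm) (hN.conj_mem n hn g)
  have h5 := key _ h4 h3
  have := congrArg (fun t => m * t) h5
  simpa using this

/-- A regular normal subgroup of a finite 2-transitive group is elementary abelian: it is commutative and all its elements have order dividing one prime. -/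
theorem result {G : Type*} [Group G] [Finite G]
    {X : Type*} [Nonempty X] [MulAction G X] (h2 : MulAction.IsMultiplyPretransitive G X 2)
    (N : Subgroup G) [N.Normal] (htrans : MulAction.IsPretransitive N X) (hreg : ∀ x : X, MulAction.stabilizer N x = ⊥) :
    IsMulCommutative N ∧ ∃ p : ℕ, p.Prime ∧ ∀ n ∈ N, n ^ p = 1 := by
  classical
  obtain ⟨x₀⟩ : Nonempty X := inferInstance
  have hconj := exists_conj h2 N x₀ (hreg x₀)
  by_cases hbot : N = ⊥
  · subst hbot
    refine ⟨⟨⟨fun a b => ?_⟩⟩, 2, Nat.prime_two, ?_⟩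
    · exact Subsingleton.elim _ _
    · intro n hn
      rw [Subgroup.mem_bot] at hn
      rw [hn, one_pow]
  · have hcard : Nat.card N ≠ 1 := fun h => hbot (Subgroup.card_eq_one.mp h)
    obtain ⟨q, hq, hqdvd⟩ := Nat.exists_prime_and_dvd hcard
    haveI : Fact q.Prime := ⟨hq⟩
    obtain ⟨n₁, hn₁⟩ := exists_prime_orderOf_dvd_card' q hqdvd
    have hn₁1 : (n₁ : G) ≠ 1 := by
      intro h
      have : n₁ = 1 := Subtype.ext h
      rw [this, orderOf_one] at hn₁
      exact hq.one_lt.ne hn₁
    have hn₁q : (n₁ : G) ^ q = 1 := by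
      have := pow_orderOf_eq_one n₁
      rw [hn₁] at this
      exact_mod_cast congrArg Subtype.val this
    have hexp : ∀ n ∈ N, n ^ q = 1 := by
      intro n hn
      by_cases hn1 : n = 1
      · rw [hn1, one_pow]
      · obtain ⟨g, hg⟩ := hconj n₁ n n₁.2 hn hn₁1 hn1
        rw [← hg, conj_pow, hn₁q]
        group
    refine ⟨?_, q, hq, hexp⟩
    -- N is a q-group, so has nontrivial centre
    have hPG : IsPGroup q N := by
      intro n
      refine ⟨1, ?_⟩
      apply Subtype.ext
      rw [pow_one, Subgroup.coe_pow, Subgroup.coe_one]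
      exact hexp n n.2
    haveI : Nontrivial N := (Subgroup.nontrivial_iff_ne_bot N).mpr hbot
    haveI := hPG.center_nontrivial
    obtain ⟨z, hz1⟩ := exists_ne (1 : Subgroup.center N)
    have hzc : ∀ k : N, k * (z : N) = (z : N) * k := fun k => Subgroup.mem_center_iff.mp z.2 k
    have hz1' : ((z : N) : G) ≠ 1 := by
      intro h
      apply hz1
      apply Subtype.ext
      apply Subtype.ext
      exact h
    refine ⟨⟨fun a b => ?_⟩⟩
    -- a is central
    by_cases ha1 : a = 1
    · rw [ha1, one_mul, mul_one]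
    · have ha1' : (a : G) ≠ 1 := fun h => ha1 (Subtype.ext h)
      obtain ⟨g, hg⟩ := hconj ((z : N) : G) a (z : N).2 a.2 hz1' ha1'
      apply Subtype.ext
      rw [Subgroup.coe_mul, Subgroup.coe_mul, ← hg]
      have hb' : g⁻¹ * (b : G) * g ∈ N := by
        have := (inferInstance : N.Normal).conj_mem b b.2 g⁻¹
        simpa using this
      have h6 := congrArg Subtype.val (hzc ⟨_, hb'⟩)
      simp only [Subgroup.coe_mul] at h6
      calc g * ((z : N) : G) * g⁻¹ * (b : G) = g * (((z : N) : G) * (g⁻¹ * b * g)) * g⁻¹ := by group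
        _ = g * ((g⁻¹ * b * g) * ((z : N) : G)) * g⁻¹ := by rw [h6]
        _ = (b : G) * (g * ((z : N) : G) * g⁻¹) := by group

end Cfsg.Agent.S0054
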