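import Cfsg.Statements.S0057
import Cfsg.Agent.Lib.helper1.Coprime
import Cfsg.Agent.S0055

set_option autoImplicit false
open Cfsg

namespace Cfsg.Agent.S0057

open Pointwise
open scoped commutatorElement

/-- Orbit counting: if `T ≤ K` and `C` has the same relative index in both, then `K = T C`. -/
theorem exists_mul_of_relIndex_eq {G : Type*} [Group G] [Finite G] (C T K : Subgroup G)
    (hTK : T ≤ K) (h : C.relIndex T = C.relIndex K) : ∀ k ∈ K, ∃ t ∈ T, t⁻¹ * k ∈ C := by
  intro k hk
  have hstab : ∀ H : Subgroup G, MulAction.stabilizer H ((1 : G) : G ⧸ C) = C.subgroupOf H := by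
    intro H
    ext x
    rw [MulAction.mem_stabilizer_iff, Subgroup.mem_subgroupOf]
    show (((x : G) * 1 : G) : G ⧸ C) = ((1 : G) : G ⧸ C) ↔ _
    rw [QuotientGroup.eq]
    constructor
    · intro hx
      have := C.inv_mem hx
      simpa using this
    · intro hx
      have := C.inv_mem hx
      simpa using this
  have hcard : ∀ H : Subgroup G,
      (MulAction.orbit H ((1 : G) : G ⧸ C)).ncard = C.relIndex H := by
    intro H
    rw [← MulAction.index_stabilizer, hstab]
    rfl
  have hsub : MulAction.orbit T ((1 : G) : G ⧸ C) ⊆ MulAction.orbit K ((1 : G) : G ⧸ C) := by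
    rintro y ⟨t, rfl⟩
    exact ⟨⟨(t : G), hTK t.2⟩, rfl⟩
  have heq : MulAction.orbit T ((1 : G) : G ⧸ C) = MulAction.orbit K ((1 : G) : G ⧸ C) :=
    Set.eq_of_subset_of_ncard_le hsub (by rw [hcard, hcard, h]) (Set.toFinite _)
  have hmem : ((k : G) : G ⧸ C) ∈ MulAction.orbit K ((1 : G) : G ⧸ C) := by
    refine ⟨⟨k, hk⟩, ?_⟩
    show (((k : G) * 1 : G) : G ⧸ C) = _
    rw [mul_one]
  rw [← heq] at hmem
  obtain ⟨t, ht⟩ := hmem
  refine ⟨(t : G), t.2, ?_⟩
  have ht' : (((t : G) * 1 : G) : G ⧸ C) = ((k : G) : G ⧸ C) := ht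
  rw [mul_one, QuotientGroup.eq] at ht'
  exact ht'

/-- A `p`-group `D` with `[D, A] = D`, `A` acting coprimely and `C_D(A)` of index `p` in `D`
has order `p`. -/
theorem card_eq_of_pgroup {G : Type*} [Group G] [Finite G] (A D : Subgroup G)
    (hAD : A ≤ Subgroup.normalizer (D : Set G))
    (hcop : (Nat.card A).Coprime (Nat.card D))
    (p : ℕ) [Fact p.Prime] (hD : IsPGroup p D) (hDA : ⁅D, A⁆ = D)
    (hidx : (Subgroup.centralizer (A : Set G)).relIndex D = p) : Nat.card D = p := by
  have hp : p.Prime := Fact.out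
  set CD : Subgroup G := D ⊓ Subgroup.centralizer (A : Set G) with hCD
  have hCDle : CD ≤ D := inf_le_left
  have hidx' : (CD.subgroupOf D).index = p := by
    have : CD.relIndex D = p := by rw [hCD, Subgroup.inf_relIndex_left]; exact hidx
    exact this
  -- `CD` is normal in `D`
  have hcardD : Nat.card D ≠ 1 := by
    intro h1
    have hdvd : (CD.subgroupOf D).index ∣ Nat.card D := Subgroup.index_dvd_card _
    rw [hidx', h1] at hdvd
    exact hp.one_lt.ne' (Nat.dvd_one.mp hdvd)
  have hminFac : (Nat.card D).minFac = p := by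
    obtain ⟨n, hn⟩ := hD.exists_card_eq
    have hn0 : n ≠ 0 := by
      rintro rfl
      exact hcardD (by simpa using hn)
    rw [hn, hp.pow_minFac hn0]
  have hnormal : (CD.subgroupOf D).Normal :=
    Subgroup.normal_of_index_eq_minFac_card (by rw [hidx', hminFac])
  have hDN : D ≤ Subgroup.normalizer (CD : Set G) :=
    (Subgroup.normal_subgroupOf_iff_le_normalizer hCDle).mp hnormal
  -- three subgroups lemma: `[D, CD] = 1`
  have h1 : ⁅⁅A, CD⁆, D⁆ = ⊥ := by
    have : ⁅A, CD⁆ = ⊥ := by
      rw [Subgroup.commutator_eq_bot_iff_le_centralizer]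
      exact Subgroup.le_centralizer_iff.mp inf_le_right
    rw [this, Subgroup.commutator_bot_left]
  have h2 : ⁅⁅CD, D⁆, A⁆ = ⊥ := by
    rw [Subgroup.commutator_eq_bot_iff_le_centralizer]
    exact (Cfsg.Agent.Lib.helper1.commutator_le_of_le_normalizer hDN).trans inf_le_right
  have h3 : ⁅⁅D, A⁆, CD⁆ = ⊥ := Subgroup.commutator_commutator_eq_bot_of_rotate h1 h2
  rw [hDA, Subgroup.commutator_eq_bot_iff_le_centralizer] at h3
  have hCDcent : CD ≤ Subgroup.centralizer (D : Set G) := Subgroup.le_centralizer_iff.mp h3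
  -- `D` is abelian
  have hker : (QuotientGroup.mk' (CD.subgroupOf D)).ker ≤ Subgroup.center D := by
    rw [QuotientGroup.ker_mk']
    intro x hx
    rw [Subgroup.mem_subgroupOf] at hx
    rw [Subgroup.mem_center_iff]
    intro y
    apply Subtype.ext
    have := (Subgroup.mem_centralizer_iff.mp (hCDcent hx)) (y : G) y.2
    simpa using this
  have hcyc : IsCyclic (D ⧸ CD.subgroupOf D) := by
    apply isCyclic_of_prime_card (p := p)
    rw [← Subgroup.index_eq_card]
    exact hidx'
  haveI : IsMulCommutative D :=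
    (QuotientGroup.mk' (CD.subgroupOf D)).isMulCommutative_of_isCyclic_of_ker_le_center hker
  obtain ⟨hinf, -⟩ := Cfsg.Agent.S0055.result A D hAD hcop
  rw [hDA, inf_of_le_left hCDle] at hinf
  have : CD.relIndex D = p := hidx'
  rw [hinf, Subgroup.relIndex_bot_left] at this
  exact this

/-- Under coprime action, if the centraliser of A in K has prime index p in K then the commutator subgroup [K, A] has order exactly p. -/
theorem result {G : Type*} [Group G] [Finite G] (A K : Subgroup G) (hAK : A ≤ Subgroup.normalizer (K : Set G))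
    (hcop : (Nat.card A).Coprime (Nat.card K)) (hsolv : Group.IsSolvable A ∨ Group.IsSolvable K)
    (p : ℕ) (hp : p.Prime) (hidx : (K ⊓ Subgroup.centralizer (A : Set G)).relIndex K = p) :
    Nat.card (⁅K, A⁆ : Subgroup G) = p := by
  haveI : Fact p.Prime := ⟨hp⟩
  set C : Subgroup G := Subgroup.centralizer (A : Set G) with hC
  have hidxC : C.relIndex K = p := by rw [← Subgroup.inf_relIndex_left]; exact hidx
  -- an `A`-invariant Sylow `p`-subgroup `T` of `K`
  obtain ⟨P, hPA⟩ := Cfsg.Agent.Lib.helper1.exists_invariant_sylow (p := p) A K hAK hcop hsolv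
  set T : Subgroup G := (P : Subgroup K).map K.subtype with hT
  have hTK : T ≤ K := Subgroup.map_subtype_le _
  have hTp : IsPGroup p T := P.2.map _
  -- a power of `p` that is at most `p` and not `1` is `p`
  have key : ∀ H : Subgroup G, H ≤ K → IsPGroup p H → ¬ H ≤ C → C.relIndex H = p := by
    intro H hHK hHp hHC
    have hle : C.relIndex H ≤ p := by
      rw [← hidxC]
      exact Subgroup.relIndex_le_of_le_right hHK (by rw [hidxC]; exact hp.ne_zero)
    have hdvd : C.relIndex H ∣ Nat.card H := Subgroup.relIndex_dvd_card _ _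
    obtain ⟨n, hn⟩ := hHp.exists_card_eq
    rw [hn] at hdvd
    obtain ⟨m, -, hm⟩ := (Nat.dvd_prime_pow hp).mp hdvd
    have hne1 : C.relIndex H ≠ 1 := fun h1 => hHC (Subgroup.relIndex_eq_one.mp h1)
    rw [hm] at hle hne1 ⊢
    rcases m with _ | _ | m
    · simp at hne1
    · simp
    · exfalso
      have : p ^ 2 ≤ p ^ (m + 1 + 1) := Nat.pow_le_pow_right hp.pos (by omega)
      have h2 : p < p ^ 2 := by
        have := hp.one_lt
        nlinarith
      omega
  have hTC : ¬ T ≤ C := by
    intro hle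
    have h1 : (P : Subgroup K) ≤ C.subgroupOf K := by
      intro x hx
      rw [Subgroup.mem_subgroupOf]
      exact hle (Subgroup.mem_map_of_mem _ hx)
    have h2 : (C.subgroupOf K).index ∣ (P : Subgroup K).index := Subgroup.index_dvd_of_le h1
    have h3 : (C.subgroupOf K).index = p := hidxC
    rw [h3] at h2
    exact P.not_dvd_index h2
  have hTidx : C.relIndex T = C.relIndex K := by rw [key T hTK hTp hTC, hidxC]
  have hprod := exists_mul_of_relIndex_eq C T K hTK hTidx
  -- `[K, A] ≤ T`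
  have hcomm_le : ⁅K, A⁆ ≤ T := by
    rw [Subgroup.commutator_le]
    intro k hk a ha
    obtain ⟨t, ht, htk⟩ := hprod k hk
    have hca : a * (t⁻¹ * k) = (t⁻¹ * k) * a := ((Subgroup.mem_centralizer_iff.mp htk) a ha)
    have h1 : a * t⁻¹ * a⁻¹ ∈ T :=
      (Subgroup.mem_normalizer_iff.mp (hPA ha) t⁻¹).mp (T.inv_mem ht)
    have e : ⁅k, a⁆ = t * (a * t⁻¹ * a⁻¹) := by
      rw [commutatorElement_def]
      have e1 : k = t * (t⁻¹ * k) := by group
      have e2 : k * a * k⁻¹ * a⁻¹ = t * ((t⁻¹ * k) * a) * (t⁻¹ * k)⁻¹ * t⁻¹ * a⁻¹ := by group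
      rw [e2, ← hca]
      group
    rw [e]
    exact T.mul_mem ht h1
  -- apply the `p`-group case to `D = [K, A]`
  have hDK : ⁅K, A⁆ ≤ K := Cfsg.Agent.Lib.helper1.commutator_le_of_le_normalizer hAK
  have hDp : IsPGroup p (⁅K, A⁆ : Subgroup G) := hTp.to_le hcomm_le
  have hDA : ⁅⁅K, A⁆, A⁆ = ⁅K, A⁆ :=
    Cfsg.Agent.Lib.helper1.commutator_commutator_eq A K hAK hcop hsolv
  have hDC : ¬ (⁅K, A⁆ : Subgroup G) ≤ C := by
    intro hle
    have h1 : ⁅⁅K, A⁆, A⁆ = ⊥ := Subgroup.commutator_eq_bot_iff_le_centralizer.mpr hle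
    rw [hDA, Subgroup.commutator_eq_bot_iff_le_centralizer] at h1
    have h2 : C.relIndex K = 1 := Subgroup.relIndex_eq_one.mpr h1
    rw [hidxC] at h2
    exact hp.one_lt.ne' h2
  exact card_eq_of_pgroup A ⁅K, A⁆ (Cfsg.Agent.Lib.helper1.right_le_normalizer_commutator hAK)
    (Nat.Coprime.coprime_dvd_right (Subgroup.card_dvd_of_le hDK) hcop) p hDp hDA
    (key _ hDK hDp hDC)

end Cfsg.Agent.S0057
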