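import Cfsg.Statements.S0059
import Cfsg.Agent.Lib.helper1.Coprime

set_option autoImplicit false
open Cfsg

namespace Cfsg.Agent.S0059

open Pointwise

/-- Let a finite group act on a set on which a normal subgroup K of coprime order and index is transitive, with K or the quotient solvable. Then any complement H of K has a fixed point, and any two H-fixed points are interchanged by an element of K centralising H. -/
theorem result {G : Type*} [Group G] [Finite G] {X : Type*} [Nonempty X] [MulAction G X]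
    (K H : Subgroup G) [K.Normal] (hc : Subgroup.IsComplement' K H) (hcop : (Nat.card K).Coprime K.index)
    (hsolv : Group.IsSolvable K ∨ Group.IsSolvable (G ⧸ K)) (htrans : MulAction.IsPretransitive K X) :
    (∃ x : X, ∀ h ∈ H, h • x = x) ∧
    ∀ x y : X, (∀ h ∈ H, h • x = x) → (∀ h ∈ H, h • y = y) → ∃ k ∈ K ⊓ Subgroup.centralizer (H : Set G), k • x = y := by
  have hcop' : (Nat.card H).Coprime (Nat.card K) := by
    rw [← hc.symm.index_eq_card]; exact hcop.symm
  have hs : Group.IsSolvable H ∨ Group.IsSolvable K := by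
    rcases hsolv with h | h
    · exact Or.inr h
    · exact Or.inl (Cfsg.Agent.Lib.helper1.isSolvable_of_mulEquiv hc.symm.QuotientMulEquiv h)
  have hHK : H ≤ Subgroup.normalizer (K : Set G) := Subgroup.le_normalizer_of_normal
  have hKH : K ⊓ H = ⊥ := hc.disjoint.eq_bot
  have hsupKH : K ⊔ H = ⊤ := hc.sup_eq_top
  have htr : ∀ x y : X, ∃ k ∈ K, k • x = y := by
    intro x y
    obtain ⟨k, hk⟩ := MulAction.exists_smul_eq K x y
    exact ⟨(k : G), k.2, hk⟩
  constructor
  · obtain ⟨x₀⟩ := (inferInstance : Nonempty X)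
    obtain ⟨n, hn, hle⟩ := Cfsg.Agent.Lib.helper1.glauberman_exists H K (MulAction.stabilizer G x₀)
      hHK hcop' hs (by
        intro a ha
        obtain ⟨k, hk, hkx⟩ := htr (a • x₀) x₀
        refine ⟨k, hk, ?_⟩
        rw [MulAction.mem_stabilizer_iff, mul_smul]
        exact hkx)
    refine ⟨n⁻¹ • x₀, ?_⟩
    intro h hh
    have h1 : n * h * n⁻¹ ∈ MulAction.stabilizer G x₀ :=
      hle (Cfsg.Agent.Lib.helper1.conj_mem_conj_smul hh)
    rw [MulAction.mem_stabilizer_iff] at h1
    have h2 : h • n⁻¹ • x₀ = n⁻¹ • ((n * h * n⁻¹) • x₀) := by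
      simp only [← mul_smul]
      congr 1
      group
    rw [h2, h1]
  · intro x y hx hy
    obtain ⟨k, hk, hkx⟩ := htr x y
    set S : Subgroup G := MulAction.stabilizer G x with hS
    have hHS : H ≤ S := fun h hh => MulAction.mem_stabilizer_iff.mpr (hx h hh)
    have hH'S : MulAut.conj k⁻¹ • H ≤ S := by
      intro g hg
      rw [Cfsg.Agent.Lib.helper1.mem_conj_smul] at hg
      rw [hS, MulAction.mem_stabilizer_iff]
      have h1 := hy _ hg
      rw [← hkx] at h1
      simp only [← mul_smul] at h1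
      have h2 : g • x = k⁻¹ • ((k⁻¹⁻¹ * g * k⁻¹ * k) • x) := by
        simp only [← mul_smul]
        congr 1
        group
      rw [h2, h1, ← mul_smul, inv_mul_cancel, one_smul]
    have hc' : Subgroup.IsComplement' K (MulAut.conj k⁻¹ • H) :=
      Cfsg.Agent.Lib.helper1.isComplement'_conj_smul hc k⁻¹
    have e1 : (K ⊓ S) ⊔ H = S := Cfsg.Agent.Lib.helper1.inf_sup_eq_of_le hsupKH hHS
    have e2 : (K ⊓ S) ⊔ MulAut.conj k⁻¹ • H = S :=
      Cfsg.Agent.Lib.helper1.inf_sup_eq_of_le hc'.sup_eq_top hH'S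
    have hHN : H ≤ Subgroup.normalizer ((K ⊓ S : Subgroup G) : Set G) := by
      intro h hh
      rw [Subgroup.mem_normalizer_iff]
      intro g
      constructor
      · rintro ⟨hg1, hg2⟩
        exact ⟨(inferInstance : K.Normal).conj_mem g hg1 h,
          S.mul_mem (S.mul_mem (hHS hh) hg2) (S.inv_mem (hHS hh))⟩
      · rintro ⟨hg1, hg2⟩
        refine ⟨?_, ?_⟩
        · have := (inferInstance : K.Normal).conj_mem _ hg1 h⁻¹
          simpa [mul_assoc] using this
        · have := S.mul_mem (S.mul_mem (S.inv_mem (hHS hh)) hg2) (hHS hh)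
          simpa [mul_assoc] using this
    have hd1 : (K ⊓ S) ⊓ H = ⊥ := by
      rw [eq_bot_iff, ← hKH]
      exact inf_le_inf_right _ inf_le_left
    have hd2 : (K ⊓ S) ⊓ MulAut.conj k⁻¹ • H = ⊥ := by
      rw [eq_bot_iff, ← hc'.disjoint.eq_bot]
      exact inf_le_inf_right _ inf_le_left
    have hcopN : (Nat.card (K ⊓ S : Subgroup G)).Coprime (Nat.card H) :=
      Nat.Coprime.coprime_dvd_left (Subgroup.card_dvd_of_le inf_le_left) hcop'.symm
    have hsN : Group.IsSolvable (K ⊓ S : Subgroup G) ∨ Group.IsSolvable H := by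
      rcases hs with h | h
      · exact Or.inr h
      · exact Or.inl (Cfsg.Agent.Lib.helper1.isSolvable_of_le inf_le_left h)
    obtain ⟨n, hn, hne⟩ := Cfsg.Agent.Lib.helper1.sz_conj_internal (K ⊓ S) H (MulAut.conj k⁻¹ • H)
      hHN hd1 hd2 (e1.trans e2.symm) hcopN hsN
    have hknK : k * n ∈ K := K.mul_mem hk hn.1
    have hnorm : MulAut.conj (k * n) • H = H := by
      rw [← Cfsg.Agent.Lib.helper1.conj_smul_conj_smul, hne,
        Cfsg.Agent.Lib.helper1.conj_smul_conj_smul, mul_inv_cancel, map_one, one_smul]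
    refine ⟨k * n, ⟨hknK, ?_⟩, ?_⟩
    · show k * n ∈ Subgroup.centralizer (H : Set G)
      rw [Subgroup.mem_centralizer_iff]
      intro h hh
      have h1 : (k * n) * h * (k * n)⁻¹ ∈ H := by
        have := Cfsg.Agent.Lib.helper1.conj_mem_conj_smul (g := k * n) hh
        rwa [hnorm] at this
      have h2 : (k * n) * h * (k * n)⁻¹ * h⁻¹ ∈ K := by
        have h3 : h * (k * n)⁻¹ * h⁻¹ ∈ K := (inferInstance : K.Normal).conj_mem _ (K.inv_mem hknK) h
        have := K.mul_mem hknK h3
        simpa [mul_assoc] using this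
      have h4 : (k * n) * h * (k * n)⁻¹ * h⁻¹ ∈ K ⊓ H := ⟨h2, H.mul_mem h1 (H.inv_mem hh)⟩
      rw [hKH, Subgroup.mem_bot] at h4
      have h5 := mul_inv_eq_one.mp h4
      have h6 := mul_inv_eq_iff_eq_mul.mp h5
      exact h6.symm
    · have hnS : n ∈ S := hn.2
      rw [hS, MulAction.mem_stabilizer_iff] at hnS
      rw [mul_smul, hnS, hkx]

end Cfsg.Agent.S0059
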