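import Cfsg.Statements.S0060
import Cfsg.Agent.Lib.helper2.SylowExtra
import Mathlib.Data.Fintype.Lattice

set_option autoImplicit false
open Cfsg
open Pointwise

namespace Cfsg.Agent.S0060

open Cfsg.Agent.Lib.helper2

/-- Brodkey's Theorem: in a finite group with abelian Sylow p-subgroups and no nontrivial normal p-subgroup, some conjugate of a Sylow p-subgroup meets it trivially. -/
theorem result {G : Type*} [Group G] [Finite G] (p : ℕ) [Fact p.Prime]
    (S : Sylow p G) (hS : IsMulCommutative S) (hOp : Cfsg.pCore p G = ⊥) :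
    ∃ g : G, (S : Subgroup G) ⊓ MulAut.conj g • (S : Subgroup G) = ⊥ := by
  classical
  have hcomm := sylow_mul_comm_of_isMulCommutative S hS
  -- a pair of Sylow subgroups with minimal intersection
  obtain ⟨⟨S1, S2⟩, hmin⟩ := Finite.exists_min
    (fun q : Sylow p G × Sylow p G => Nat.card ((q.1 : Subgroup G) ⊓ (q.2 : Subgroup G) : Subgroup G))
  simp only at hmin
  set D : Subgroup G := (S1 : Subgroup G) ⊓ (S2 : Subgroup G) with hD
  set N : Subgroup G := Subgroup.normalizer (D : Set G) with hN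
  have hS1N : (S1 : Subgroup G) ≤ N := by
    refine le_trans ?_ (Subgroup.centralizer_le_normalizer _)
    intro s hs
    rw [Subgroup.mem_centralizer_iff]
    intro d hd
    exact hcomm S1 d hd.1 s hs
  have hS2N : (S2 : Subgroup G) ≤ N := by
    refine le_trans ?_ (Subgroup.centralizer_le_normalizer _)
    intro s hs
    rw [Subgroup.mem_centralizer_iff]
    intro d hd
    exact hcomm S2 d hd.2 s hs
  -- D lies in every Sylow subgroup
  have hDR : ∀ R : Sylow p G, D ≤ (R : Subgroup G) := by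
    intro R
    obtain ⟨n, hnN, hn⟩ := exists_conj_mem_of_le_sylow S1 N ((R : Subgroup G) ⊓ N) hS1N inf_le_right
      (R.2.to_le inf_le_left)
    -- R' = n⁻¹ • R
    have hE : ((n⁻¹ • R : Sylow p G) : Subgroup G) ⊓ (S2 : Subgroup G) ≤ D := by
      rintro x ⟨hx1, hx2⟩
      replace hx1 : x ∈ ((n⁻¹ • R : Sylow p G) : Subgroup G) := hx1
      replace hx2 : x ∈ (S2 : Subgroup G) := hx2
      refine ⟨?_, hx2⟩
      change x ∈ (S1 : Subgroup G)
      rw [mem_smul_sylow_iff] at hx1
      simp only [inv_inv] at hx1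
      have hxN : x ∈ N := hS2N hx2
      have h1 : n * x * n⁻¹ ∈ (R : Subgroup G) ⊓ N :=
        ⟨hx1, N.mul_mem (N.mul_mem hnN hxN) (N.inv_mem hnN)⟩
      have := hn _ h1
      simpa [mul_assoc] using this
    have hcard := hmin (n⁻¹ • R, S2)
    simp only at hcard
    have hEq : ((n⁻¹ • R : Sylow p G) : Subgroup G) ⊓ (S2 : Subgroup G) = D :=
      Subgroup.eq_of_le_of_card_ge hE hcard
    intro d hd
    have hd' : n⁻¹ * d * n ∈ D := by
      have hninv : n⁻¹ ∈ N := N.inv_mem hnN
      have := (Subgroup.mem_normalizer_iff.mp hninv d).mp hd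
      simpa using this
    rw [← hEq] at hd'
    have hthis : n⁻¹ * d * n ∈ ((n⁻¹ • R : Sylow p G) : Subgroup G) := hd'.1
    rw [mem_smul_sylow_iff] at hthis
    simpa [mul_assoc] using hthis
  have hDcore : D ≤ sylowCore p G := fun d hd => (mem_sylowCore d).mpr (fun R => hDR R hd)
  have hcore : sylowCore p G ≤ Cfsg.pCore p G :=
    le_sSup ⟨sylowCore_normal p G, sylowCore_isPGroup p G⟩
  have hDbot : D = ⊥ := by
    rw [eq_bot_iff, ← hOp]
    exact hDcore.trans hcore
  obtain ⟨a, ha⟩ := MulAction.exists_smul_eq G S S1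
  obtain ⟨b, hb⟩ := MulAction.exists_smul_eq G S S2
  refine ⟨a⁻¹ * b, ?_⟩
  rw [eq_bot_iff]
  rintro x ⟨hx1, hx2⟩
  replace hx1 : x ∈ (S : Subgroup G) := hx1
  rw [Subgroup.mem_bot]
  have h1 : a * x * a⁻¹ ∈ (S1 : Subgroup G) := by
    rw [← ha, mem_smul_sylow_iff]
    simpa [mul_assoc] using hx1
  have h2 : a * x * a⁻¹ ∈ (S2 : Subgroup G) := by
    rw [← hb, mem_smul_sylow_iff]
    have hx2' : x ∈ (((a⁻¹ * b) • S : Sylow p G) : Subgroup G) := hx2
    rw [mem_smul_sylow_iff] at hx2'
    simpa [mul_assoc] using hx2'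
  have h3 : a * x * a⁻¹ ∈ D := ⟨h1, h2⟩
  rw [hDbot, Subgroup.mem_bot] at h3
  have := congrArg (fun t => a⁻¹ * t * a) h3
  simpa [mul_assoc] using this

end Cfsg.Agent.S0060
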