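import Cfsg.Statements.S0063

set_option autoImplicit false
open Cfsg

namespace Cfsg.Agent.S0063

theorem aux (p : ℕ) [Fact p.Prime] : ∀ (m : ℕ) (G : Type*) [Group G] [Finite G],
    Nat.card G = p ^ m → 1 < m → Group.nilpotencyClass G ≤ m - 1 := by
  intro m
  induction m using Nat.strong_induction_on with
  | _ m ih =>
    intro G _ _ hG hm
    have hp : p.Prime := Fact.out
    have hPG : IsPGroup p G := IsPGroup.of_card hG
    haveI : Group.IsNilpotent G := hPG.isNilpotent
    obtain ⟨k, hk0, hk⟩ := IsPGroup.card_center_eq_prime_pow hG (by omega)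
    have hcard : Nat.card G = Nat.card (G ⧸ Subgroup.center G) * Nat.card (Subgroup.center G) :=
      Subgroup.card_eq_card_quotient_mul_card_subgroup _
    have hkm : k ≤ m := by
      have h1 : p ^ k ∣ p ^ m := by
        rw [← hG, ← hk]; exact Subgroup.card_subgroup_dvd_card _
      exact (Nat.pow_dvd_pow_iff_le_right hp.one_lt).mp h1
    have hq : Nat.card (G ⧸ Subgroup.center G) = p ^ (m - k) := by
      have h2 : p ^ m = Nat.card (G ⧸ Subgroup.center G) * p ^ k := by rw [← hG, ← hk]; exact hcard
      have h3 : p ^ m = p ^ (m - k) * p ^ k := by rw [← pow_add]; congr 1; omega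
      have hpos : 0 < p ^ k := pow_pos hp.pos k
      exact Nat.eq_of_mul_eq_mul_right hpos (h2.symm.trans h3)
    have hclass := Group.nilpotencyClass_quotient_center (G := G)
    by_cases hj : 1 < m - k
    · have := ih (m - k) (by omega) (G ⧸ Subgroup.center G) hq hj
      omega
    · -- quotient is cyclic
      have hcyc : IsCyclic (G ⧸ Subgroup.center G) := by
        have hj' : m - k = 0 ∨ m - k = 1 := by omega
        rcases hj' with h0 | h1
        · rw [h0, pow_zero] at hq
          haveI : Subsingleton (G ⧸ Subgroup.center G) := (Nat.card_eq_one_iff_unique.mp hq).1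
          exact isCyclic_of_subsingleton
        · rw [h1, pow_one] at hq
          exact isCyclic_of_prime_card hq
      have hcomm : ∀ a b : G, a * b = b * a :=
        commutative_of_cyclic_center_quotient (QuotientGroup.mk' (Subgroup.center G))
          (by rw [QuotientGroup.ker_mk'])
      have htop : Subgroup.upperCentralSeries G 1 = ⊤ := by
        rw [Subgroup.upperCentralSeries_one, eq_top_iff]
        intro x _
        rw [Subgroup.mem_center_iff]
        intro g
        exact hcomm g x
      have := (Subgroup.upperCentralSeries_eq_top_iff_nilpotencyClass_le).mp htop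
      omega

/-- A finite group of prime-power order p ^ m with m > 1 is nilpotent of class at most m - 1. -/
theorem result {G : Type*} [Group G] [Finite G] (p m : ℕ) [Fact p.Prime]
    (hG : Nat.card G = p ^ m) (hm : 1 < m) : Group.nilpotencyClass G ≤ m - 1 := by
  exact aux p m G hG hm

end Cfsg.Agent.S0063
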