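import Cfsg.Statements.S0069
import Cfsg.Agent.S0068
import Cfsg.Agent.S0048
import Cfsg.Agent.S0023
import Cfsg.Agent.S0126
import Cfsg.Agent.S0041
import Cfsg.Agent.Lib.helper2.Transfer
import Cfsg.Agent.Lib.helper2.CoprimeAbelian
import Cfsg.Agent.Lib.helper65.Fitting
import Mathlib.GroupTheory.SpecificGroups.ZGroup

set_option autoImplicit false
open Cfsg

namespace Cfsg.Agent.S0069

open Cfsg.Agent.Lib.helper2
open scoped commutatorElement

/-- The fixed-point-free criterion for cyclicity (statement S0041, proved by helper1). -/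
theorem fpf_cyclic {G : Type*} [Group G] [Finite G] (A V : Subgroup G) [IsMulCommutative V]
    (hV : V ≠ ⊥) (hAV : A ≤ Subgroup.normalizer (V : Set G)) (hfpf : ∀ a ∈ A, a ≠ 1 → V ⊓ Subgroup.centralizer {a} = ⊥)
    (hA : IsMulCommutative A ∨ ∃ p q : ℕ, p.Prime ∧ q.Prime ∧ Nat.card A = p * q) : IsCyclic A :=
  Cfsg.Agent.S0041.result A V hV hAV hfpf hA

/-- A group acting fixed-point-freely has order coprime to the group acted on. -/
theorem coprime_card {G : Type*} [Group G] [Finite G] (K H : Subgroup G) [K.Normal]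
    (hfpf : ∀ h ∈ H, h ≠ 1 → K ⊓ Subgroup.centralizer {h} = ⊥) :
    (Nat.card H).Coprime (Nat.card K) := by
  refine Nat.coprime_of_dvd ?_
  intro p hp hpH hpK
  haveI : Fact p.Prime := ⟨hp⟩
  obtain ⟨x, hx⟩ := exists_prime_orderOf_dvd_card' p hpH
  have hx1 : (x : G) ≠ 1 := by
    intro h
    have : x = 1 := Subtype.ext h
    rw [this, orderOf_one] at hx
    exact hp.one_lt.ne hx
  have hxo : orderOf (x : G) = p := by rw [Subgroup.orderOf_coe]; exact hx
  set R : Subgroup G := Subgroup.zpowers (x : G) with hR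
  have hRp : IsPGroup p R := by
    apply IsPGroup.of_card (n := 1)
    rw [hR, Nat.card_zpowers, hxo, pow_one]
  have hRK : R ≤ Subgroup.normalizer (K : Set G) := by
    rw [Subgroup.normalizer_eq_top_iff.mpr inferInstance]
    exact le_top
  letI := conjMulAction K R hRK
  have h1 := hRp.card_modEq_card_fixedPoints (α := K)
  rw [card_fixedPoints_conjMulAction K R hRK] at h1
  have h2 : K ⊓ Subgroup.centralizer (R : Set G) = ⊥ := by
    rw [eq_bot_iff, ← hfpf x x.2 hx1]
    refine inf_le_inf_left K (Subgroup.centralizer_le ?_)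
    intro y hy
    rw [Set.mem_singleton_iff] at hy
    rw [hy]
    exact Subgroup.mem_zpowers _
  rw [h2, Subgroup.card_bot] at h1
  have h3 : Nat.card K % p = 0 := Nat.mod_eq_zero_of_dvd hpK
  have h4 : 1 % p = 1 := Nat.mod_eq_of_lt hp.one_lt
  unfold Nat.ModEq at h1
  omega

/-- An invariant nontrivial abelian subgroup for a solvable group acting coprimely. -/
theorem exists_invariant_abelian {G : Type*} [Group G] [Finite G] (K A : Subgroup G) [K.Normal]
    (hK : K ≠ ⊥) (hcop : (Nat.card A).Coprime (Nat.card K)) (hsolv : Group.IsSolvable A) :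
    ∃ V : Subgroup G, V ≤ K ∧ V ≠ ⊥ ∧ IsMulCommutative V ∧
      A ≤ Subgroup.normalizer (V : Set G) := by
  have hK1 : Nat.card K ≠ 1 := by
    intro h
    exact hK (Subgroup.card_eq_one.mp h)
  obtain ⟨p, hp, hpK⟩ := Nat.exists_prime_and_dvd hK1
  haveI : Fact p.Prime := ⟨hp⟩
  have hAK : A ≤ Subgroup.normalizer (K : Set G) := by
    rw [Subgroup.normalizer_eq_top_iff.mpr inferInstance]
    exact le_top
  obtain ⟨P, hP⟩ := Cfsg.Agent.S0023.result A K hAK hcop (Or.inl hsolv) p
  set P' : Subgroup G := (P : Subgroup K).map K.subtype with hP'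
  refine ⟨P' ⊓ Subgroup.centralizer (P' : Set G), ?_, ?_, ?_, ?_⟩
  · exact inf_le_left.trans (Subgroup.map_subtype_le _)
  · have hPne : (P : Subgroup K) ≠ ⊥ := P.ne_bot_of_dvd_card hpK
    haveI : Nontrivial (P : Subgroup K) := (Subgroup.nontrivial_iff_ne_bot _).mpr hPne
    haveI : Nontrivial (Subgroup.center (P : Subgroup K)) := P.2.center_nontrivial
    obtain ⟨z, hz⟩ := exists_ne (1 : Subgroup.center (P : Subgroup K))
    intro hbot
    have hmem : (((z : (P : Subgroup K)) : K) : G) ∈ P' ⊓ Subgroup.centralizer (P' : Set G) := by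
      refine ⟨⟨((z : (P : Subgroup K)) : K), (z : (P : Subgroup K)).2, rfl⟩, ?_⟩
      change _ ∈ Subgroup.centralizer (P' : Set G)
      rw [Subgroup.mem_centralizer_iff]
      rintro y ⟨y', hy', rfl⟩
      have h1 := Subgroup.mem_center_iff.mp z.2 ⟨y', hy'⟩
      have h2 := congrArg (fun t : (P : Subgroup K) => ((t : K) : G)) h1
      exact h2
    rw [hbot, Subgroup.mem_bot] at hmem
    apply hz
    apply Subtype.ext
    apply Subtype.ext
    apply Subtype.ext
    exact hmem
  · refine ⟨⟨fun a b => ?_⟩⟩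
    apply Subtype.ext
    have h1 := Subgroup.mem_centralizer_iff.mp a.2.2 b b.2.1
    exact h1.symm
  · apply Cfsg.Agent.S0048.le_normalizer_of_forall_conj_mem
    intro a ha v hv
    have haN := hP ha
    rw [Subgroup.mem_normalizer_iff] at haN
    refine ⟨(haN v).mp hv.1, ?_⟩
    change _ ∈ Subgroup.centralizer (P' : Set G)
    rw [Subgroup.mem_centralizer_iff]
    intro y hy
    have hy' : a⁻¹ * y * a ∈ P' := by
      have := (haN (a⁻¹ * y * a)).mpr (by simpa [mul_assoc] using hy)
      exact this
    have h1 := Subgroup.mem_centralizer_iff.mp hv.2 _ hy'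
    have e1 : y * (a * v * a⁻¹) = a * ((a⁻¹ * y * a) * v) * a⁻¹ := by group
    have e2 : a * v * a⁻¹ * y = a * (v * (a⁻¹ * y * a)) * a⁻¹ := by group
    rw [e1, e2, h1]

/-- Sylow subgroups of an odd-order fixed-point-free complement are cyclic. -/
theorem sylow_cyclic {G : Type*} [Group G] [Finite G] (K H : Subgroup G) [K.Normal]
    (hK : K ≠ ⊥) (hfpf : ∀ h ∈ H, h ≠ 1 → K ⊓ Subgroup.centralizer {h} = ⊥)
    (hodd : ¬ 2 ∣ Nat.card H) (p : ℕ) [hp : Fact p.Prime] (P : Sylow p H) :
    IsCyclic (P : Subgroup H) := by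
  by_contra hnc
  have hp2 : p ≠ 2 := by
    rintro rfl
    apply hnc
    obtain ⟨n, hn⟩ := P.2.exists_card_eq
    rcases Nat.eq_zero_or_pos n with h0 | hpos
    · rw [h0, pow_zero] at hn
      haveI : Subsingleton (P : Subgroup H) := (Nat.card_eq_one_iff_unique.mp hn).1
      exact isCyclic_of_subsingleton
    · exfalso
      apply hodd
      have h1 : 2 ∣ Nat.card (P : Subgroup H) := by
        rw [hn]
        exact dvd_pow_self 2 hpos.ne'
      exact h1.trans (Subgroup.card_subgroup_dvd_card _)
  obtain ⟨A₀, -, ⟨hcomm, hexp⟩, hcard⟩ :=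
    Cfsg.Agent.S0126.result (R := (P : Subgroup H)) hp2 P.2 hnc
  set A : Subgroup G := (A₀.map (P : Subgroup H).subtype).map H.subtype with hA
  have hAH : A ≤ H := Subgroup.map_subtype_le _
  have hAcard : Nat.card A = p ^ 2 := by
    rw [hA, Subgroup.card_map_of_injective H.subtype_injective,
      Subgroup.card_map_of_injective (Subgroup.subtype_injective _), hcard]
  haveI : IsMulCommutative A := by
    rw [hA]
    infer_instance
  have hAexp : ∀ a ∈ A, a ^ p = 1 := by
    rintro a ⟨a', ⟨a'', ha'', rfl⟩, rfl⟩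
    have := hexp a'' ha''
    have h2 := congrArg (fun t : (P : Subgroup H) => ((t : H) : G)) this
    simpa using h2
  have hAsolv : Group.IsSolvable A :=
    isSolvable_of_comm (fun a b => mul_comm' a b)
  have hcop : (Nat.card A).Coprime (Nat.card K) :=
    Nat.Coprime.coprime_dvd_left (Subgroup.card_dvd_of_le hAH) (coprime_card K H hfpf)
  obtain ⟨V, hVK, hVne, hVc, hAV⟩ := exists_invariant_abelian K A hK hcop hAsolv
  haveI := hVc
  have hcyc : IsCyclic A := by
    apply fpf_cyclic A V hVne hAV ?_ (Or.inl inferInstance)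
    intro a ha ha1
    rw [eq_bot_iff, ← hfpf a (hAH ha) ha1]
    exact inf_le_inf_right _ hVK
  obtain ⟨g, hg⟩ := IsCyclic.exists_ofOrder_eq_natCard (α := A)
  have hgp : g ^ p = 1 := by
    apply Subtype.ext
    rw [Subgroup.coe_pow]
    exact hAexp g g.2
  have h1 : orderOf g ∣ p := orderOf_dvd_of_pow_eq_one hgp
  rw [hg, hAcard] at h1
  have h2 : p ^ 2 ≤ p := Nat.le_of_dvd hp.out.pos h1
  have h3 : p < p ^ 2 := by
    rw [pow_two]
    exact lt_mul_of_one_lt_left hp.out.pos hp.out.one_lt
  omega

/-- A Frobenius complement has nontrivial centre: if H ≠ 1 complements a nontrivial normal subgroup K and every nonidentity element of H has trivial centraliser in K, then the centre of H is nontrivial. -/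
theorem result {G : Type*} [Group G] [Finite G] (K H : Subgroup G) [K.Normal]
    (hc : Subgroup.IsComplement' K H) (hK : K ≠ ⊥) (hH : H ≠ ⊥) (hfpf : ∀ h ∈ H, h ≠ 1 → K ⊓ Subgroup.centralizer {h} = ⊥) :
    Subgroup.center H ≠ ⊥ := by
  by_cases heven : 2 ∣ Nat.card H
  · obtain ⟨⟨s, hsH, hso, huniq, -⟩, -⟩ := Cfsg.Agent.S0068.result K H hc hK hfpf heven
    intro hbot
    have hmem : (⟨s, hsH⟩ : H) ∈ Subgroup.center H := by
      rw [Subgroup.mem_center_iff]
      intro h
      have h1 : orderOf ((h : G) * s * (h : G)⁻¹) = 2 := by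
        have := orderOf_injective (MulAut.conj (h : G)).toMonoidHom (MulAut.conj (h : G)).injective s
        rw [← hso, ← this]
        rfl
      have h2 := huniq _ (H.mul_mem (H.mul_mem h.2 hsH) (H.inv_mem h.2)) h1
      apply Subtype.ext
      have := congrArg (fun t => t * (h : G)) h2
      simpa using this
    rw [hbot, Subgroup.mem_bot] at hmem
    have : s = 1 := congrArg Subtype.val hmem
    rw [this, orderOf_one] at hso
    omega
  · -- odd case
    haveI : IsZGroup H := by
      rw [isZGroup_iff]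
      intro p hp P
      haveI : Fact p.Prime := ⟨hp⟩
      exact sylow_cyclic K H hK hfpf heven p P
    haveI : Nontrivial H := (Subgroup.nontrivial_iff_ne_bot H).mpr hH
    have hsolvH : Group.IsSolvable H := inferInstance
    obtain ⟨V, hVK, hVne, hVc, hHV⟩ :=
      exists_invariant_abelian K H hK (coprime_card K H hfpf) hsolvH
    haveI := hVc
    set D : Subgroup H := commutator H with hD
    haveI : IsCyclic D := IsZGroup.isCyclic_commutator H
    have hDlt : D < ⊤ := IsZGroup.commutator_lt H
    have hidx : D.index ≠ 1 := fun h => hDlt.ne (Subgroup.index_eq_one.mp h)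
    obtain ⟨r, hr, hrdvd⟩ := Nat.exists_prime_and_dvd hidx
    have hcop := IsZGroup.coprime_commutator_index H
    have hrD : (Nat.card D).Coprime r := Nat.Coprime.coprime_dvd_right hrdvd hcop
    haveI : Fact r.Prime := ⟨hr⟩
    obtain ⟨b, hb⟩ := exists_prime_orderOf_dvd_card' r (hrdvd.trans (Subgroup.index_dvd_card D))
    have hbr : b ^ r = 1 := by rw [← hb]; exact pow_orderOf_eq_one b
    have hDc : ∀ x ∈ D, ∀ y ∈ D, x * y = y * x := by
      intro x hx y hy
      letI : CommGroup D := IsCyclic.commGroup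
      have := mul_comm (⟨x, hx⟩ : D) ⟨y, hy⟩
      exact congrArg Subtype.val this
    have hpq : ∀ x ∈ D, (orderOf x).Prime → b * x = x * b := by
      intro x hx hxo
      set q := orderOf x with hq
      have hconjD : b * x * b⁻¹ ∈ D := Subgroup.Normal.conj_mem inferInstance x hx b
      have h1 : (⟨b * x * b⁻¹, hconjD⟩ : D) ∈ Subgroup.zpowers (⟨x, hx⟩ : D) := by
        apply mem_zpowers_of_pow_eq_one _ _ q hxo.pos
        · rw [Subgroup.orderOf_mk]
        · apply Subtype.ext
          rw [Subgroup.coe_pow]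
          change (b * x * b⁻¹) ^ q = 1
          rw [conj_pow, hq, pow_orderOf_eq_one, mul_one, mul_inv_cancel]
      have h2 : b * x * b⁻¹ ∈ Subgroup.zpowers x := by
        obtain ⟨k, hk⟩ := h1
        refine ⟨k, ?_⟩
        have := congrArg Subtype.val hk
        simpa using this
      have hBQ : Subgroup.zpowers b ≤ Subgroup.normalizer (Subgroup.zpowers x : Set H) :=
        (Subgroup.zpowers_le).mpr (mem_normalizer_zpowers b x h2)
      have hcardQ : Nat.card (Subgroup.zpowers x) = q := Nat.card_zpowers x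
      have hcardB : Nat.card (Subgroup.zpowers b) = r := by rw [Nat.card_zpowers, hb]
      have hdvd : Nat.card (Subgroup.zpowers b ⊔ Subgroup.zpowers x : Subgroup H) ∣ r * q := by
        have := Cfsg.Agent.Lib.helper65.card_sup_dvd_mul hBQ
        rwa [hcardB, hcardQ] at this
      have hqr : q ≠ r := by
        intro h
        have h5 : q ∣ Nat.card D := by
          have := orderOf_dvd_natCard (⟨x, hx⟩ : D)
          rwa [Subgroup.orderOf_mk] at this
        have h6 : r ∣ Nat.gcd (Nat.card D) r := Nat.dvd_gcd (h ▸ h5) dvd_rfl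
        rw [hrD] at h6
        exact hr.one_lt.ne' (Nat.dvd_one.mp h6)
      have hcardA : Nat.card (Subgroup.zpowers b ⊔ Subgroup.zpowers x : Subgroup H) = r * q := by
        apply Nat.dvd_antisymm hdvd
        apply Nat.Coprime.mul_dvd_of_dvd_of_dvd
        · exact (Nat.coprime_primes hr hxo).mpr (Ne.symm hqr)
        · rw [← hcardB]; exact Subgroup.card_dvd_of_le le_sup_left
        · rw [← hcardQ]; exact Subgroup.card_dvd_of_le le_sup_right
      set A : Subgroup G := (Subgroup.zpowers b ⊔ Subgroup.zpowers x).map H.subtype with hA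
      have hAH : A ≤ H := Subgroup.map_subtype_le _
      have hAcard : Nat.card A = r * q := by
        rw [hA, Subgroup.card_map_of_injective H.subtype_injective, hcardA]
      have hcyc : IsCyclic A := by
        apply fpf_cyclic A V hVne (hAH.trans hHV) ?_ (Or.inr ⟨r, q, hr, hxo, hAcard⟩)
        intro a ha ha1
        rw [eq_bot_iff, ← hfpf a (hAH ha) ha1]
        exact inf_le_inf_right _ hVK
      letI : CommGroup A := IsCyclic.commGroup
      have hbA : (b : G) ∈ A :=
        ⟨b, (le_sup_left : Subgroup.zpowers b ≤ _) (Subgroup.mem_zpowers b), rfl⟩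
      have hxA : (x : G) ∈ A :=
        ⟨x, (le_sup_right : Subgroup.zpowers x ≤ _) (Subgroup.mem_zpowers x), rfl⟩
      have h7 := mul_comm (⟨(b : G), hbA⟩ : A) ⟨(x : G), hxA⟩
      have h8 : (b : G) * (x : G) = (x : G) * (b : G) := congrArg (Subtype.val : A → G) h7
      apply Subtype.ext
      exact h8
    have hcent := centralizes_of_prime D hDc b r hbr hrD hpq
    have hbcenter : b ∈ Subgroup.center H := central_of_centralizes b r hbr hrD hcent
    intro hbot
    rw [hbot, Subgroup.mem_bot] at hbcenter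
    rw [hbcenter, orderOf_one] at hb
    exact hr.one_lt.ne hb

end Cfsg.Agent.S0069
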