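import Cfsg.Statements.S0072
import Cfsg.Agent.Lib.helper67.Frobenius

set_option autoImplicit false
open Cfsg

namespace Cfsg.Agent.S0072

open Cfsg.Agent.Lib.helper67 in
/-- A finite group has a normal p-complement if and only if every p-local subgroup (normalizer of a nontrivial p-subgroup) has one. -/
theorem result {G : Type*} [Group G] [Finite G] (p : ℕ) [Fact p.Prime] : Cfsg.HasNormalPComplement p G ↔ ∀ Q : Subgroup G, IsPGroup p Q → Q ≠ ⊥ → Cfsg.HasNormalPComplement p (Subgroup.normalizer (Q : Set G)) := by
  constructor
  · rintro ⟨P, N, hN, hc⟩ Q _ _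
    haveI := hN
    exact ((frobCond_of_normal_complement N P hc).subgroup _).hasNormalPComplement
  · intro h
    have hF : FrobCond p G := by
      intro Q hQ g hg hcop
      by_cases hQbot : Q = ⊥
      · rw [hQbot, Subgroup.mem_centralizer_iff]
        intro q hq
        have : q = 1 := Subgroup.mem_bot.1 hq
        rw [this]; simp
      · obtain ⟨PM, K, hKn, hc⟩ := h Q hQ hQbot
        haveI := hKn
        have hFM : FrobCond p (Subgroup.normalizer (Q : Set G)) := frobCond_of_normal_complement K PM hc
        have hQM : IsPGroup p ((Q.subgroupOf (Subgroup.normalizer (Q : Set G)) : Subgroup _)) :=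
          hQ.comap_of_injective _ (Subgroup.subtype_injective _)
        have hgn : (⟨g, hg⟩ : Subgroup.normalizer (Q : Set G)) ∈
            Subgroup.normalizer ((Q.subgroupOf (Subgroup.normalizer (Q : Set G)) : Subgroup _) : Set _) := by
          rw [Subgroup.mem_normalizer_iff]
          intro y
          rw [Subgroup.mem_subgroupOf, Subgroup.mem_subgroupOf]
          exact (Subgroup.mem_normalizer_iff.1 hg) (y : G)
        have h1 := hFM _ hQM ⟨g, hg⟩ hgn (by rwa [← Subgroup.orderOf_coe])
        rw [Subgroup.mem_centralizer_iff] at h1 ⊢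
        intro q hq
        have h2 := h1 ⟨q, Subgroup.le_normalizer hq⟩ (Subgroup.mem_subgroupOf.2 hq)
        exact congrArg Subtype.val h2
    exact hF.hasNormalPComplement

end Cfsg.Agent.S0072
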