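import Cfsg.Statements.S0073
import Cfsg.Agent.Lib.helper2.Transfer

set_option autoImplicit false
open Cfsg

namespace Cfsg.Agent.S0073

open Cfsg.Agent.Lib.helper2

theorem sq_sub_one_eq (p : ℕ) (hp : 1 ≤ p) : p ^ 2 - p ^ 0 = (p - 1) * (p + 1) := by
  obtain ⟨q, rfl⟩ : ∃ q, p = q + 1 := ⟨p - 1, by omega⟩
  rw [pow_zero, Nat.add_sub_cancel]
  exact Nat.sub_eq_of_eq_add (by ring)

theorem sq_sub_self_eq (p : ℕ) (hp : 1 ≤ p) : p ^ 2 - p ^ 1 = p * (p - 1) := by
  obtain ⟨q, rfl⟩ : ∃ q, p = q + 1 := ⟨p - 1, by omega⟩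
  rw [pow_one, Nat.add_sub_cancel]
  exact Nat.sub_eq_of_eq_add (by ring)

/-- A nonabelian simple group has no normal `p`-complement for a prime `p` dividing its order. -/
theorem no_complement {G : Type*} [Group G] [Finite G] [IsSimpleGroup G]
    (hG : ∃ x y : G, x * y ≠ y * x) (p : ℕ) [Fact p.Prime] (hp : p ∣ Nat.card G) :
    ¬ Cfsg.HasNormalPComplement p G := by
  rintro ⟨P', N, hN, hc⟩
  have hp' : p.Prime := Fact.out
  rcases hN.eq_bot_or_eq_top with h | h
  · rw [h, Subgroup.isComplement'_bot_left] at hc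
    have hPG : IsPGroup p G := by
      have := P'.2
      rw [hc] at this
      exact IsPGroup.of_equiv this Subgroup.topEquiv
    haveI := hPG.center_nontrivial
    have hcen : Subgroup.center G = ⊤ := by
      rcases (Subgroup.normal_of_characteristic (Subgroup.center G)).eq_bot_or_eq_top with h' | h'
      · exact absurd h' (Subgroup.nontrivial_iff_ne_bot _ |>.mp inferInstance)
      · exact h'
    obtain ⟨x, y, hxy⟩ := hG
    apply hxy
    have hy : y ∈ Subgroup.center G := by rw [hcen]; exact Subgroup.mem_top y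
    exact Subgroup.mem_center_iff.mp hy x
  · rw [h, Subgroup.isComplement'_top_left] at hc
    exact P'.ne_bot_of_dvd_card hp hc

/-- For a finite non-abelian simple group, either the cube of the least prime divisor of the order divides the order, or 12 does. -/
theorem result {G : Type*} [Group G] [Finite G] [IsSimpleGroup G] (hG : ∃ x y : G, x * y ≠ y * x) : (Nat.card G).minFac ^ 3 ∣ Nat.card G ∨ 12 ∣ Nat.card G := by
  classical
  have hcard1 : Nat.card G ≠ 1 := by
    intro h
    haveI : Subsingleton G := (Nat.card_eq_one_iff_unique.mp h).1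
    obtain ⟨x, y, hxy⟩ := hG
    exact hxy (Subsingleton.elim _ _)
  set p := (Nat.card G).minFac with hpdef
  have hp : p.Prime := Nat.minFac_prime hcard1
  haveI : Fact p.Prime := ⟨hp⟩
  have hpdvd : p ∣ Nat.card G := Nat.minFac_dvd _
  have hno := no_complement hG p hpdvd
  obtain ⟨P⟩ : Nonempty (Sylow p G) := inferInstance
  obtain ⟨k, hk⟩ := IsPGroup.iff_card.mp P.2
  have hPdvd : Nat.card P ∣ Nat.card G := Subgroup.card_subgroup_dvd_card _
  by_cases h12 : 12 ∣ Nat.card G
  · exact Or.inr h12
  left
  by_cases hk3 : 3 ≤ k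
  · exact (pow_dvd_pow p hk3).trans (hk ▸ hPdvd)
  exfalso
  have hk0 : k ≠ 0 := by
    rintro rfl
    rw [pow_zero] at hk
    exact P.ne_bot_of_dvd_card hpdvd (Subgroup.card_eq_one.mp hk)
  have hk12 : k = 1 ∨ k = 2 := by omega
  rcases hk12 with rfl | rfl
  · rw [pow_one] at hk
    have hcyc : IsCyclic P := isCyclic_of_prime_card hk
    exact hno (hasNormalPComplement_of_normalizer_le_centralizer P
      (IsCyclic.normalizer_le_centralizer hpdef.symm hcyc))
  · have hcomm : IsMulCommutative P := IsPGroup.isMulCommutative_of_card_eq_prime_sq hk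
    apply hno
    apply hasNormalPComplement_of_card P hcomm
    intro r hr hrp hrG d hd hdlt hdvd
    rw [hk] at hd hdlt hdvd
    have hpr : p < r := by
      have : p ≤ r := Nat.minFac_le_of_dvd hr.two_le hrG
      omega
    have hp2 : 2 ≤ p := hp.two_le
    obtain ⟨j, hj, rfl⟩ := (Nat.dvd_prime_pow hp).mp hd
    have hj2 : j < 2 := by
      by_contra hcon
      have : j = 2 := by omega
      subst this
      omega
    have hj01 : j = 0 ∨ j = 1 := by omega
    rcases hj01 with rfl | rfl
    · -- r ∣ p^2 - 1 = (p-1)(p+1)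
      have h1 : p ^ 2 - p ^ 0 = (p - 1) * (p + 1) := sq_sub_one_eq p (by omega)
      rw [h1] at hdvd
      rcases (Nat.Prime.dvd_mul hr).mp hdvd with h | h
      · have := Nat.le_of_dvd (by omega) h
        omega
      · have hle := Nat.le_of_dvd (by omega) h
        have hr' : r = p + 1 := by omega
        -- p and p+1 both prime: p = 2
        have hp2' : p = 2 := by
          rcases hp.eq_two_or_odd with h2 | hodd
          · exact h2
          · exfalso
            have h2r : 2 ∣ r := by omega
            have := (Nat.prime_dvd_prime_iff_eq Nat.prime_two hr).mp h2r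
            omega
        have hr3 : r = 3 := by omega
        apply h12
        have h4 : 4 ∣ Nat.card G := by
          have := hk ▸ hPdvd
          rw [hp2'] at this
          exact this
        have h3 : 3 ∣ Nat.card G := hr3 ▸ hrG
        exact Nat.Coprime.mul_dvd_of_dvd_of_dvd (by decide : Nat.Coprime 4 3) h4 h3
    · -- r ∣ p^2 - p = p (p-1)
      have h1 : p ^ 2 - p ^ 1 = p * (p - 1) := sq_sub_self_eq p (by omega)
      rw [h1] at hdvd
      rcases (Nat.Prime.dvd_mul hr).mp hdvd with h | h
      · exact hrp ((Nat.prime_dvd_prime_iff_eq hr hp).mp h)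
      · have := Nat.le_of_dvd (by omega) h
        omega

end Cfsg.Agent.S0073
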