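import Cfsg.Statements.S0075
import Cfsg.Agent.Lib.helper2.SylowExtra
import Mathlib.Tactic.Group

set_option autoImplicit false
open Cfsg

namespace Cfsg.Agent.S0075

open Cfsg.Agent.Lib.helper2
open scoped commutatorElement

/-- `O^p(G)` is a normal subgroup. -/
theorem pResidual_normal (p : ℕ) (G : Type*) [Group G] : (Cfsg.pResidual p G).Normal := by
  constructor
  intro x hx g
  unfold Cfsg.pResidual at hx ⊢
  induction hx using Subgroup.closure_induction with
  | mem y hy =>
    apply Subgroup.subset_closure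
    change (orderOf (g * y * g⁻¹)).Coprime p
    have : orderOf (g * y * g⁻¹) = orderOf y := (MulAut.conj g).orderOf_eq y
    rw [this]
    exact hy
  | one => simp
  | mul a b _ _ iha ihb =>
    have e : g * (a * b) * g⁻¹ = (g * a * g⁻¹) * (g * b * g⁻¹) := by group
    rw [e]
    exact Subgroup.mul_mem _ iha ihb
  | inv a _ iha =>
    have e : g * a⁻¹ * g⁻¹ = (g * a * g⁻¹)⁻¹ := by group
    rw [e]
    exact Subgroup.inv_mem _ iha

/-- A Sylow `p`-subgroup together with `O^p(G)` generates `G`. -/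
theorem sylow_sup_pResidual {G : Type*} [Group G] [Finite G] {p : ℕ} [Fact p.Prime]
    (T : Sylow p G) : (T : Subgroup G) ⊔ Cfsg.pResidual p G = ⊤ := by
  have hp : p.Prime := Fact.out
  apply eq_top_of_forall_sylow_le
  intro q hq
  by_cases hqp : q = p
  · subst hqp
    exact ⟨T, le_sup_left⟩
  · obtain ⟨Q⟩ : Nonempty (Sylow q G) := inferInstance
    refine ⟨Q, fun y hy => ?_⟩
    apply le_sup_right (a := (T : Subgroup G))
    apply Subgroup.subset_closure
    change (orderOf y).Coprime p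
    obtain ⟨k, hk⟩ := (IsPGroup.iff_orderOf.mp Q.2) ⟨y, hy⟩
    rw [Subgroup.orderOf_mk] at hk
    rw [hk]
    exact Nat.Coprime.pow_left _ ((Nat.coprime_primes hq.out hp).mpr hqp)

open scoped IsMulCommutative in
/-- `O^p(G)` lies in the kernel of the transfer into `T / T*`. -/
theorem pResidual_le_ker {G : Type*} [Group G] [Finite G] {p : ℕ} [Fact p.Prime]
    (T : Sylow p G) : Cfsg.pResidual p G ≤ (T : Subgroup G).transferFocal.ker := by
  have hp : p.Prime := Fact.out
  unfold Cfsg.pResidual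
  rw [Subgroup.closure_le]
  intro g hg
  change (orderOf g).Coprime p at hg
  change g ∈ (T : Subgroup G).transferFocal.ker
  rw [MonoidHom.mem_ker]
  have hQ : IsPGroup p ((T : Subgroup G) ⧸ (T : Subgroup G).focalSubgroupOf) :=
    T.2.to_quotient _
  obtain ⟨k, hk⟩ := (IsPGroup.iff_orderOf.mp hQ) ((T : Subgroup G).transferFocal g)
  have hdvd : orderOf ((T : Subgroup G).transferFocal g) ∣ orderOf g := orderOf_map_dvd _ g
  rw [hk] at hdvd
  have h1 : p ^ k = 1 := by
    have hc : (p ^ k).Coprime (p ^ k) :=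
      Nat.Coprime.coprime_dvd_left hdvd (Nat.Coprime.pow_right k hg)
    exact (Nat.coprime_self _).mp hc
  rw [h1] at hk
  exact orderOf_eq_one_iff.mp hk

/-- For an abelian Sylow p-subgroup T, its intersection with the subgroup generated by the elements of order prime to p is the commutator of T with its normalizer. -/
theorem result {G : Type*} [Group G] [Finite G] {p : ℕ} [Fact p.Prime] (T : Sylow p G) (hT : IsMulCommutative T) : (T : Subgroup G) ⊓ Cfsg.pResidual p G = ⁅(T : Subgroup G), Subgroup.normalizer (T : Set G)⁆ := by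
  haveI hRn := pResidual_normal p G
  apply le_antisymm
  · -- T ⊓ O^p ≤ focal subgroup ≤ ⁅T, N⁆
    have h1 : (T : Subgroup G) ⊓ Cfsg.pResidual p G ≤ (T : Subgroup G).focalSubgroup := by
      rw [← Subgroup.ker_transferFocal_inf_eq_focalSubgroup, inf_comm]
      exact inf_le_inf_right _ (pResidual_le_ker T)
    refine h1.trans ?_
    rw [Subgroup.focalSubgroup_def, Subgroup.closure_le]
    rintro g ⟨hgP, x, hxP, u, rfl⟩
    have hconj : (u⁻¹)⁻¹ * x * u⁻¹ ∈ (T : Subgroup G) := by
      have h1 : x⁻¹ * ⁅x, u⁆ ∈ (T : Subgroup G) := Subgroup.mul_mem _ (Subgroup.inv_mem _ hxP) hgP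
      have h2 : x⁻¹ * ⁅x, u⁆ = (u * x * u⁻¹)⁻¹ := by
        rw [commutatorElement_def]; group
      rw [h2] at h1
      simpa using Subgroup.inv_mem _ h1
    obtain ⟨n, hn, hne⟩ := T.conj_eq_normalizer_conj_of_mem x u⁻¹ hxP hconj
    have h3 : ⁅x, u⁆ = ⁅x, n⁻¹⁆ := by
      rw [commutatorElement_def, commutatorElement_def]
      have : u * x * u⁻¹ = n⁻¹ * x * n := by simpa using hne
      calc x * u * x⁻¹ * u⁻¹ = x * (u * x * u⁻¹)⁻¹ := by group
        _ = x * (n⁻¹ * x * n)⁻¹ := by rw [this]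
        _ = x * n⁻¹ * x⁻¹ * n⁻¹⁻¹ := by group
    rw [h3]
    exact Subgroup.commutator_mem_commutator hxP (Subgroup.inv_mem _ hn)
  · apply le_inf
    · rw [Subgroup.commutator_le]
      intro t ht n hn
      have h1 : n * t⁻¹ * n⁻¹ ∈ (T : Subgroup G) :=
        (Subgroup.mem_normalizer_iff.mp hn t⁻¹).mp (Subgroup.inv_mem _ ht)
      have h2 : ⁅t, n⁆ = t * (n * t⁻¹ * n⁻¹) := by rw [commutatorElement_def]; group
      rw [h2]
      exact Subgroup.mul_mem _ ht h1
    · rw [Subgroup.commutator_le]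
      intro t ht n _
      have hn : n ∈ (((T : Subgroup G) ⊔ Cfsg.pResidual p G : Subgroup G) : Set G) := by
        rw [sylow_sup_pResidual T]; exact Set.mem_univ n
      rw [Subgroup.mul_normal] at hn
      obtain ⟨t', ht', r, hr, rfl⟩ := hn
      have hcomm : t * t' = t' * t := by
        have := hT.is_comm.comm ⟨t, ht⟩ ⟨t', ht'⟩
        exact congrArg Subtype.val this
      have e : ⁅t, t' * r⁆ = t' * ((t * r * t⁻¹) * r⁻¹) * t'⁻¹ := by
        rw [commutatorElement_def]
        calc t * (t' * r) * t⁻¹ * (t' * r)⁻¹ = (t * t') * r * t⁻¹ * r⁻¹ * t'⁻¹ := by group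
          _ = (t' * t) * r * t⁻¹ * r⁻¹ * t'⁻¹ := by rw [hcomm]
          _ = t' * ((t * r * t⁻¹) * r⁻¹) * t'⁻¹ := by group
      rw [e]
      apply hRn.conj_mem
      exact Subgroup.mul_mem _ (hRn.conj_mem r hr t) (Subgroup.inv_mem _ hr)

end Cfsg.Agent.S0075
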