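import Cfsg.Statements.S0076

set_option autoImplicit false
open Cfsg

namespace Cfsg.Agent.S0076

/-- The stabiliser of a subset under conjugation. -/
def conjStab {G : Type*} [Group G] (Y : Set G) : Subgroup G where
  carrier := {n | (fun y => n * y * n⁻¹) '' Y = Y}
  mul_mem' := by
    intro a b ha hb
    simp only [Set.mem_setOf_eq] at *
    have : (fun y => a * b * y * (a * b)⁻¹) = (fun y => a * y * a⁻¹) ∘ (fun y => b * y * b⁻¹) := by
      funext y; simp [mul_assoc]
    rw [this, Set.image_comp, hb, ha]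
  one_mem' := by simp
  inv_mem' := by
    intro a ha
    simp only [Set.mem_setOf_eq] at *
    have : (fun y => a⁻¹ * y * a⁻¹⁻¹) '' ((fun y => a * y * a⁻¹) '' Y) = Y := by
      rw [← Set.image_comp]
      convert Set.image_id Y
      simp [mul_assoc]
    rw [ha] at this
    exact this

theorem mem_conjStab {G : Type*} [Group G] (Y : Set G) (n : G) :
    n ∈ conjStab Y ↔ (fun y => n * y * n⁻¹) '' Y = Y := Iff.rfl

open Pointwise in
/-- Two P-invariant subsets of a Sylow p-subgroup P that are conjugate in G are conjugate under the normalizer of P. -/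
theorem result {G : Type*} [Group G] [Finite G] {p : ℕ} [Fact p.Prime] (P : Sylow p G) (X Y : Set G) (hXP : X ⊆ P) (hYP : Y ⊆ P) (hX : ∀ x ∈ P, (fun y => x * y * x⁻¹) '' X = X) (hY : ∀ x ∈ P, (fun y => x * y * x⁻¹) '' Y = Y) (g : G) (hg : (fun y => g * y * g⁻¹) '' X = Y) : ∃ n ∈ Subgroup.normalizer (P : Set G), (fun y => n * y * n⁻¹) '' X = Y := by
  have h1 : (P : Subgroup G) ≤ conjStab Y := fun x hx => (mem_conjStab Y x).mpr (hY x hx)
  have h2 : ((g • P : Sylow p G) : Subgroup G) ≤ conjStab Y := by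
    intro z hz
    rw [Sylow.coe_subgroup_smul, Subgroup.mem_pointwise_smul_iff_inv_smul_mem] at hz
    rw [mem_conjStab]
    set x := (MulAut.conj g)⁻¹ • z with hx
    have hz' : z = g * x * g⁻¹ := by
      rw [hx]; simp [MulAut.smul_def, MulAut.conj_inv_apply, mul_assoc]
    rw [hz']
    conv_lhs => rw [← hg]
    rw [Set.image_image]
    have : (fun y => g * x * g⁻¹ * (g * y * g⁻¹) * (g * x * g⁻¹)⁻¹)
        = (fun y => g * y * g⁻¹) ∘ (fun y => x * y * x⁻¹) := by
      funext y; simp [mul_assoc]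
    rw [this, Set.image_comp, hX x hz, hg]
  obtain ⟨h, hh⟩ :=
    MulAction.exists_smul_eq (conjStab Y) ((g • P).subtype h2) (P.subtype h1)
  simp_rw [Sylow.smul_subtype, Subgroup.smul_def, smul_smul] at hh
  refine ⟨h * g, Sylow.smul_eq_iff_mem_normalizer.mp (Sylow.subtype_injective hh), ?_⟩
  have hhY := (mem_conjStab Y h).mp h.2
  have : (fun y => (h : G) * g * y * ((h : G) * g)⁻¹)
      = (fun y => (h : G) * y * (h : G)⁻¹) ∘ (fun y => g * y * g⁻¹) := by
    funext y; simp [mul_assoc]
  rw [this, Set.image_comp, hg, hhY]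

end Cfsg.Agent.S0076
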