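import Mathlib
import Cfsg.Statements.S0078
import Cfsg.Agent.S0077
import Cfsg.Agent.Lib.helper67.Tate
import Cfsg.Agent.Lib.helper67.Frobenius

set_option autoImplicit false
open Cfsg

namespace Cfsg.Agent.S0078

/-- In a p-normal group, a Sylow p-subgroup P meets O^p(G) exactly where it meets O^p(V), for any subgroup V containing the normalizer of the centre of P. -/
theorem result {G : Type*} [Group G] [Finite G] {p : ℕ} [Fact p.Prime] (P : Sylow p G) (hn : ∀ Q : Sylow p G, (P : Subgroup G) ⊓ Subgroup.centralizer (P : Set G) ≤ (Q : Subgroup G) → (Q : Subgroup G) ⊓ Subgroup.centralizer (Q : Set G) = (P : Subgroup G) ⊓ Subgroup.centralizer (P : Set G)) (V : Subgroup G) (hV : Subgroup.normalizer (((P : Subgroup G) ⊓ Subgroup.centralizer (P : Set G) : Subgroup G) : Set G) ≤ V) : (P : Subgroup G) ⊓ Cfsg.pResidual p G = (P : Subgroup G) ⊓ (Cfsg.pResidual p V).map V.subtype := by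
  classical
  set Z : Subgroup G := (P : Subgroup G) ⊓ Subgroup.centralizer (P : Set G) with hZdef
  have hZc : Z ≤ Subgroup.centralizer (P : Set G) := inf_le_right
  have hZP : Z ≤ (P : Subgroup G) := inf_le_left
  -- P normalizes Z
  have hPN : (P : Subgroup G) ≤ Subgroup.normalizer (Z : Set G) := by
    intro x hx
    have aux : ∀ y ∈ (P : Subgroup G), ∀ z ∈ Z, y * z * y⁻¹ ∈ Z := by
      intro y hy z hz
      obtain ⟨hzP, hzC⟩ := Subgroup.mem_inf.1 hz
      have h1 : y * z * y⁻¹ = z := by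
        have := Subgroup.mem_centralizer_iff.1 hzC y hy
        rw [this, mul_inv_cancel_right]
      rw [h1]
      exact hz
    rw [Subgroup.mem_normalizer_iff]
    intro z
    refine ⟨aux x hx z, fun h => ?_⟩
    have := aux x⁻¹ ((P : Subgroup G).inv_mem hx) _ h
    simpa [mul_assoc] using this
  -- weak closure from p-normality
  have hW : Cfsg.IsWeaklyClosed Z (P : Subgroup G) := by
    refine ⟨hZP, fun g hg => ?_⟩
    -- Q = g⁻¹ • P
    have hZQ : Z ≤ ((g⁻¹ • P : Sylow p G) : Subgroup G) := by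
      intro z hz
      rw [Cfsg.Agent.Lib.helper67.mem_smul_sylow_iff]
      have h1 : (MulAut.conj g).toMonoidHom z ∈ (P : Subgroup G) :=
        hg (Subgroup.mem_map_of_mem _ hz)
      simpa using h1
    have hQ := hn (g⁻¹ • P) hZQ
    -- Z(Q) = g⁻¹ Z g
    apply le_antisymm
    · rintro _ ⟨z, hz, rfl⟩
      -- g z g⁻¹ ∈ Z: show z ∈ g⁻¹ Z g = Z(Q)... use hQ: Z = Z(Q)
      have hz' : z ∈ ((g⁻¹ • P : Sylow p G) : Subgroup G) ⊓
          Subgroup.centralizer ((g⁻¹ • P : Sylow p G) : Set G) := by rw [hQ]; exact hz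
      obtain ⟨h1, h2⟩ := Subgroup.mem_inf.1 hz'
      have h1' : g * z * g⁻¹ ∈ (P : Subgroup G) := by
        rw [Cfsg.Agent.Lib.helper67.mem_smul_sylow_iff] at h1
        simpa using h1
      refine Subgroup.mem_inf.2 ⟨by simpa using h1', ?_⟩
      rw [Subgroup.mem_centralizer_iff]
      intro y hy
      have hyP : y ∈ (P : Subgroup G) := hy
      have hy' : g⁻¹ * y * g ∈ ((g⁻¹ • P : Sylow p G) : Subgroup G) := by
        rw [Cfsg.Agent.Lib.helper67.mem_smul_sylow_iff]
        have h6 : g⁻¹⁻¹ * (g⁻¹ * y * g) * g⁻¹ = y := by group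
        rw [h6]
        exact hyP
      have h3 := Subgroup.mem_centralizer_iff.1 h2 _ hy'
      have h4 : y * (g * z * g⁻¹) = g * ((g⁻¹ * y * g) * z) * g⁻¹ := by group
      have h5 : (g * z * g⁻¹) * y = g * (z * (g⁻¹ * y * g)) * g⁻¹ := by group
      change y * (g * z * g⁻¹) = (g * z * g⁻¹) * y
      rw [h4, h5, h3]
    · intro z hz
      -- z ∈ Z(P); want z = g w g⁻¹ with w ∈ Z; w = g⁻¹ z g ∈ Z(Q) = Z
      have hw : g⁻¹ * z * g ∈ ((g⁻¹ • P : Sylow p G) : Subgroup G) ⊓
          Subgroup.centralizer ((g⁻¹ • P : Sylow p G) : Set G) := by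
        obtain ⟨hzP, hzC⟩ := Subgroup.mem_inf.1 hz
        refine Subgroup.mem_inf.2 ⟨?_, ?_⟩
        · rw [Cfsg.Agent.Lib.helper67.mem_smul_sylow_iff]
          simpa [mul_assoc] using hzP
        · rw [Subgroup.mem_centralizer_iff]
          intro y hy
          have hy' : g * y * g⁻¹ ∈ (P : Subgroup G) := by
            have hy2 : y ∈ ((g⁻¹ • P : Sylow p G) : Subgroup G) := hy
            rw [Cfsg.Agent.Lib.helper67.mem_smul_sylow_iff] at hy2
            simpa using hy2
          have h3 := Subgroup.mem_centralizer_iff.1 hzC _ hy'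
          have h4 : y * (g⁻¹ * z * g) = g⁻¹ * ((g * y * g⁻¹) * z) * g := by group
          have h5 : (g⁻¹ * z * g) * y = g⁻¹ * (z * (g * y * g⁻¹)) * g := by group
          rw [h4, h5, h3]
      rw [hQ] at hw
      refine ⟨g⁻¹ * z * g, hw, ?_⟩
      simp [mul_assoc]
  have h77 := Cfsg.Agent.S0077.result P Z hZc hW
  have hPV : (P : Subgroup G) ≤ V := hPN.trans hV
  apply Cfsg.Agent.Lib.helper67.tate_general P V hPV
  rw [inf_comm, h77, Subgroup.map_subtype_commutator]
  exact inf_le_left.trans (Subgroup.commutator_mono hV hV)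

end Cfsg.Agent.S0078
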