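import Cfsg.Statements.S0079
import Cfsg.Agent.Lib.helper4.HallCompl
import Cfsg.Agent.S0581

set_option autoImplicit false
open Cfsg

namespace Cfsg.Agent.S0079

/-- A nilpotent Hall subgroup has a normal complement exactly when elements of it that are conjugate in the whole group are already conjugate inside it. -/
theorem result {G : Type*} [Group G] [Finite G] (H : Subgroup G) (hH : Group.IsNilpotent H) (hHall : Nat.Coprime (Nat.card H) H.index) : (∃ N : Subgroup G, N.Normal ∧ N.IsComplement' H) ↔ ∀ x ∈ H, ∀ y ∈ H, (∃ g : G, g * x * g⁻¹ = y) → ∃ h ∈ H, h * x * h⁻¹ = y := by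
  constructor
  · rintro ⟨N, hN, hc⟩ x hx y hy ⟨g, hg⟩
    obtain ⟨⟨a, b⟩, hab, -⟩ := (Subgroup.isComplement_iff_existsUnique.mp hc) g
    have hab' : (a : G) * (b : G) = g := hab
    refine ⟨b, b.2, ?_⟩
    have hdisj : N ⊓ H = ⊥ := hc.disjoint.eq_bot
    have hx' : (b : G) * x * (b : G)⁻¹ ∈ H := H.mul_mem (H.mul_mem b.2 hx) (H.inv_mem b.2)
    have hy' : y = (a : G) * ((b : G) * x * (b : G)⁻¹) * (a : G)⁻¹ := by
      rw [← hg, ← hab']
      group
    have hmemN : y * ((b : G) * x * (b : G)⁻¹)⁻¹ ∈ N := by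
      rw [hy']
      have h2 : (a : G) * ((b : G) * x * (b : G)⁻¹) * (a : G)⁻¹ * ((b : G) * x * (b : G)⁻¹)⁻¹ =
          (a : G) * (((b : G) * x * (b : G)⁻¹) * (a : G)⁻¹ * ((b : G) * x * (b : G)⁻¹)⁻¹) := by
        group
      rw [h2]
      exact N.mul_mem a.2 (hN.conj_mem _ (N.inv_mem a.2) _)
    have hmemH : y * ((b : G) * x * (b : G)⁻¹)⁻¹ ∈ H := H.mul_mem hy (H.inv_mem hx')
    have h1 : y * ((b : G) * x * (b : G)⁻¹)⁻¹ ∈ N ⊓ H := ⟨hmemN, hmemH⟩
    rw [hdisj, Subgroup.mem_bot] at h1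
    exact (mul_inv_eq_one.mp h1).symm
  · intro h
    obtain ⟨K, hKn, hsup, hinf⟩ :=
      Cfsg.Agent.Lib.helper4.exists_normal_compl_of_hall_of_elementary H hHall
        (fun x hx y hy hc => h x hx y hy (isConj_iff.mp hc))
        (fun E p hp hE hcard => by
          obtain ⟨x, hx⟩ := Cfsg.Agent.S0581.result H E hH hHall
            (fun q hq hqE => hqE.trans hcard)
          refine ⟨x⁻¹, ?_⟩
          intro z hz
          obtain ⟨w, hw, rfl⟩ := Subgroup.mem_map.mp hz
          have h1 := hx hw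
          rw [Subgroup.mem_pointwise_smul_iff_inv_smul_mem] at h1
          simpa [MulAut.smul_def, MulAut.conj_apply] using h1)
    refine ⟨K, hKn, ?_⟩
    apply Subgroup.isComplement'_of_disjoint_and_mul_eq_univ (disjoint_iff.mpr hinf)
    rw [← Subgroup.normal_mul, hsup]
    rfl

end Cfsg.Agent.S0079
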