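import Cfsg.Statements.S0080

set_option autoImplicit false
open Cfsg

namespace Cfsg.Agent.S0080

open scoped IsMulCommutative in
/-- When the index of H is prime to the order of H/H', the focal subgroup of H is G' ∩ H, and H/(G' ∩ H) has a normal complement. -/
theorem result {G : Type*} [Group G] [Finite G] (H : Subgroup G) (h : Nat.Coprime H.index (⁅H, H⁆.relIndex H)) : Subgroup.focalSubgroup H = commutator G ⊓ H ∧ ∃ N : Subgroup G, N.Normal ∧ N ⊓ H = commutator G ⊓ H ∧ N ⊔ H = ⊤ := by
  classical
  have hQcard : Nat.card (H ⧸ H.focalSubgroupOf) ∣ ⁅H, H⁆.relIndex H := by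
    have h1 : (H.focalSubgroupOf).index ∣ (commutator H).index :=
      Subgroup.index_dvd_of_le H.commutator_le_focalSubgroupOf
    have h2 : (commutator H).index = ⁅H, H⁆.relIndex H := by
      unfold Subgroup.relIndex
      congr 1
      apply Subgroup.map_injective H.subtype_injective
      rw [Subgroup.map_subtype_commutator, Subgroup.map_subgroupOf_eq_of_le]
      exact Subgroup.commutator_le_self H
    rw [← h2]
    exact h1
  have hcop : (Nat.card (H ⧸ H.focalSubgroupOf)).Coprime H.index :=
    Nat.Coprime.coprime_dvd_left hQcard h.symm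
  have hpow : ∀ x : H, H.transferFocal x = (x : H ⧸ H.focalSubgroupOf) ^ H.index :=
    H.transferFocal_eq_pow
  have hker : H.transferFocal.ker ⊓ H = H.focalSubgroup := by
    ext g
    constructor
    · rintro ⟨hg1, hg2⟩
      have := hpow ⟨g, hg2⟩
      replace hg1 : g ∈ H.transferFocal.ker := hg1
      replace hg2 : g ∈ H := hg2
      rw [MonoidHom.mem_ker] at hg1
      have h1 : ((⟨g, hg2⟩ : H) : H ⧸ H.focalSubgroupOf) ^ H.index = 1 := by
        rw [← this]; exact hg1
      have h2 : ((⟨g, hg2⟩ : H) : H ⧸ H.focalSubgroupOf) = 1 :=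
        (powCoprime hcop).injective (by simpa using h1)
      rw [QuotientGroup.eq_one_iff] at h2
      exact h2
    · intro hg
      have hgH := H.focalSubgroup_le hg
      refine ⟨?_, hgH⟩
      change g ∈ H.transferFocal.ker
      rw [MonoidHom.mem_ker, hpow ⟨g, hgH⟩]
      have : ((⟨g, hgH⟩ : H) : H ⧸ H.focalSubgroupOf) = 1 :=
        (QuotientGroup.eq_one_iff _).mpr hg
      rw [this, one_pow]
  have hfoc : H.focalSubgroup = commutator G ⊓ H := by
    apply le_antisymm
    · exact le_inf H.focalSubgroup_le_commutator H.focalSubgroup_le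
    · rw [← hker]
      exact inf_le_inf_right _ (Abelianization.commutator_subset_ker H.transferFocal)
  refine ⟨hfoc, H.transferFocal.ker, MonoidHom.normal_ker _, hker.trans hfoc, ?_⟩
  rw [eq_top_iff]
  intro g _
  obtain ⟨y, hy⟩ := (powCoprime hcop).surjective (H.transferFocal g)
  obtain ⟨x, rfl⟩ := QuotientGroup.mk_surjective y
  have hx : H.transferFocal x = H.transferFocal g := by
    rw [hpow x]; simpa using hy
  have hmem : g * (x : G)⁻¹ ∈ H.transferFocal.ker := by
    rw [MonoidHom.mem_ker, map_mul, map_inv, hx, mul_inv_cancel]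
  have : g = (g * (x : G)⁻¹) * x := by simp
  rw [this]
  exact Subgroup.mul_mem_sup hmem x.2

end Cfsg.Agent.S0080
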