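import Cfsg.Statements.S0082
import Cfsg.Agent.S0055
import Cfsg.Agent.Lib.helper2.Transfer
import Cfsg.Agent.Lib.helper2.SylowExtra
import Mathlib.GroupTheory.Perm.Cycle.Type

set_option autoImplicit false
open Cfsg

namespace Cfsg.Agent.S0082

open Cfsg.Agent.Lib.helper2
open scoped commutatorElement

/-- In a cyclic group, an element of order `p` lies in the cyclic subgroup generated by any other
element of order `p`. -/
theorem mem_zpowers_of_orderOf_eq {P : Type*} [Group P] [Finite P] [IsCyclic P] {p : ℕ}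
    (hp : p.Prime) (x y : P) (hx : orderOf x = p) (hy : orderOf y = p) :
    y ∈ Subgroup.zpowers x := by
  classical
  letI : Fintype P := Fintype.ofFinite P
  set T := Finset.univ.filter (fun a : P => a ^ p = 1) with hT
  have hTcard : T.card ≤ p := IsCyclic.card_pow_eq_one_le hp.pos
  set U := (Finset.range p).image (fun k => x ^ k) with hU
  have hUcard : U.card = p := by
    rw [hU, Finset.card_image_of_injOn, Finset.card_range]
    intro a ha b hb hab
    apply pow_injOn_Iio_orderOf (x := x)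
    · simpa [hx] using ha
    · simpa [hx] using hb
    · exact hab
  have hxp : x ^ p = 1 := hx ▸ pow_orderOf_eq_one x
  have hyp : y ^ p = 1 := hy ▸ pow_orderOf_eq_one y
  have hUT : U ⊆ T := by
    intro z hz
    obtain ⟨k, -, rfl⟩ := Finset.mem_image.mp hz
    rw [hT, Finset.mem_filter]
    refine ⟨Finset.mem_univ _, ?_⟩
    rw [← pow_mul, mul_comm, pow_mul, hxp, one_pow]
  have hyT : y ∈ T := by
    rw [hT, Finset.mem_filter]
    exact ⟨Finset.mem_univ _, hyp⟩
  have hyU : y ∈ U := by
    by_contra hyU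
    have h1 : (insert y U).card = p + 1 := by rw [Finset.card_insert_of_notMem hyU, hUcard]
    have h2 : insert y U ⊆ T := Finset.insert_subset hyT hUT
    have := Finset.card_le_card h2
    omega
  obtain ⟨k, -, rfl⟩ := Finset.mem_image.mp hyU
  exact Subgroup.npow_mem_zpowers x k

/-- Two subgroups of a cyclic `p`-group which meet trivially: one of them is trivial. -/
theorem eq_bot_or_eq_bot_of_inf_eq_bot {G : Type*} [Group G] [Finite G] {p : ℕ} [Fact p.Prime]
    (P : Subgroup G) (hc : IsCyclic P) (hP : IsPGroup p P) (X Y : Subgroup G) (hX : X ≤ P)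
    (hY : Y ≤ P) (h : X ⊓ Y = ⊥) : X = ⊥ ∨ Y = ⊥ := by
  classical
  have hp : p.Prime := Fact.out
  by_contra hcon
  push_neg at hcon
  obtain ⟨hX0, hY0⟩ := hcon
  have key : ∀ Z : Subgroup G, Z ≤ P → Z ≠ ⊥ → ∃ z ∈ Z, orderOf z = p := by
    intro Z hZ hZ0
    have hZp : IsPGroup p Z := hP.to_le hZ
    obtain ⟨k, hk⟩ := IsPGroup.iff_card.mp hZp
    have hk0 : k ≠ 0 := by
      rintro rfl
      rw [pow_zero] at hk
      exact hZ0 (Subgroup.card_eq_one.mp hk)
    have hdvd : p ∣ Nat.card Z := by rw [hk]; exact dvd_pow_self p hk0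
    obtain ⟨z, hz⟩ := exists_prime_orderOf_dvd_card' p hdvd
    exact ⟨z, z.2, by rw [Subgroup.orderOf_coe]; exact hz⟩
  obtain ⟨x, hxX, hxo⟩ := key X hX hX0
  obtain ⟨y, hyY, hyo⟩ := key Y hY hY0
  have hmem : (⟨y, hY hyY⟩ : P) ∈ Subgroup.zpowers (⟨x, hX hxX⟩ : P) := by
    apply mem_zpowers_of_orderOf_eq hp
    · rw [← Subgroup.orderOf_coe]; exact hxo
    · rw [← Subgroup.orderOf_coe]; exact hyo
  obtain ⟨k, hk⟩ := Subgroup.mem_zpowers_iff.mp hmem
  have hyx : y = x ^ k := by
    have := congrArg Subtype.val hk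
    simpa using this.symm
  have hyX : y ∈ X := by rw [hyx]; exact X.zpow_mem hxX k
  have : y ∈ X ⊓ Y := ⟨hyX, hyY⟩
  rw [h, Subgroup.mem_bot] at this
  rw [this, orderOf_one] at hyo
  exact hp.one_lt.ne hyo

/-- With a cyclic Sylow p-subgroup, either there is a normal p-complement or the elements of order prime to p generate the whole group. -/
theorem result {G : Type*} [Group G] [Finite G] {p : ℕ} [Fact p.Prime] (P : Sylow p G) (hP : IsCyclic P) : Cfsg.HasNormalPComplement p G ∨ Cfsg.pResidual p G = ⊤ := by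
  classical
  have hp : p.Prime := Fact.out
  haveI : IsCyclic (P : Subgroup G) := hP
  have hcomm : IsMulCommutative (P : Subgroup G) := inferInstance
  by_cases hN : Subgroup.normalizer (P : Set G) ≤ Subgroup.centralizer (P : Set G)
  · exact Or.inl (hasNormalPComplement_of_normalizer_le_centralizer P hN)
  right
  -- some r-subgroup R of the normaliser does not centralise P
  have hex : ∃ r : ℕ, r.Prime ∧ r ≠ p ∧ ∃ R : Subgroup G, IsPGroup r R ∧
      R ≤ Subgroup.normalizer (P : Set G) ∧ ¬ R ≤ Subgroup.centralizer (P : Set G) := by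
    by_contra hcon
    push_neg at hcon
    exact hN (normalizer_le_centralizer_of_forall_isPGroup P hcomm
      (fun r hr hrp R hR hRN => hcon r hr hrp R hR hRN))
  obtain ⟨r, hr, hrp, R, hRr, hRN, hRC⟩ := hex
  haveI : Fact r.Prime := ⟨hr⟩
  have hcop : (Nat.card R).Coprime (Nat.card (P : Subgroup G)) :=
    IsPGroup.coprime_card_of_ne r p hrp R (P : Subgroup G) hRr P.2
  obtain ⟨hinf, hsup⟩ := Cfsg.Agent.S0055.result R (P : Subgroup G) hRN hcop
  have hcomm_le := Cfsg.Agent.S0055.commutator_le_of_le_normalizer R (P : Subgroup G) hRN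
  have hPle : (P : Subgroup G) ≤ ⁅(P : Subgroup G), R⁆ := by
    rcases eq_bot_or_eq_bot_of_inf_eq_bot (P : Subgroup G) hP P.2 _ _ inf_le_left hcomm_le hinf
      with h | h
    · rw [h, bot_sup_eq] at hsup
      exact hsup.ge
    · exfalso
      rw [h, sup_bot_eq] at hsup
      apply hRC
      have h5 : (P : Subgroup G) ≤ Subgroup.centralizer (R : Set G) := inf_eq_left.mp hsup
      exact Subgroup.le_centralizer_iff.mp h5
  -- P ≤ O^p(G)
  have hPres : (P : Subgroup G) ≤ Cfsg.pResidual p G := by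
    refine hPle.trans ?_
    rw [Subgroup.commutator_le]
    intro x _ y hy
    have hyo : (orderOf y).Coprime p := by
      obtain ⟨k, hk⟩ := (IsPGroup.iff_orderOf.mp hRr) ⟨y, hy⟩
      rw [Subgroup.orderOf_mk] at hk
      rw [hk]
      exact Nat.Coprime.pow_left _ ((Nat.coprime_primes hr hp).mpr hrp)
    have h1 : x * y * x⁻¹ ∈ Cfsg.pResidual p G := by
      apply Subgroup.subset_closure
      change (orderOf (x * y * x⁻¹)).Coprime p
      have : orderOf (x * y * x⁻¹) = orderOf y := (MulAut.conj x).orderOf_eq y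
      rw [this]
      exact hyo
    have h2 : y⁻¹ ∈ Cfsg.pResidual p G :=
      Subgroup.inv_mem _ (Subgroup.subset_closure hyo)
    have h3 : ⁅x, y⁆ = x * y * x⁻¹ * y⁻¹ := commutatorElement_def x y
    rw [h3]
    exact Subgroup.mul_mem _ h1 h2
  apply eq_top_of_forall_sylow_le
  intro q hq
  by_cases hqp : q = p
  · subst hqp
    exact ⟨P, hPres⟩
  · obtain ⟨Q⟩ : Nonempty (Sylow q G) := inferInstance
    refine ⟨Q, fun y hy => ?_⟩
    apply Subgroup.subset_closure
    change (orderOf y).Coprime p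
    obtain ⟨k, hk⟩ := (IsPGroup.iff_orderOf.mp Q.2) ⟨y, hy⟩
    rw [Subgroup.orderOf_mk] at hk
    rw [hk]
    exact Nat.Coprime.pow_left _ ((Nat.coprime_primes hq.out hp).mpr hqp)

end Cfsg.Agent.S0082
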