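import Cfsg.Statements.S0083
import Cfsg.Agent.Lib.helper2.Transfer

set_option autoImplicit false
open Cfsg

namespace Cfsg.Agent.S0083

open Cfsg.Agent.Lib.helper2

/-- For an abelian Sylow p-subgroup P, a normal p-complement exists exactly when the normalizer of P is an internal direct product of P with some subgroup. -/
theorem result {G : Type*} [Group G] [Finite G] {p : ℕ} [Fact p.Prime] (P : Sylow p G) (hP : IsMulCommutative P) : Cfsg.HasNormalPComplement p G ↔ ∃ Q : Subgroup G, Q ≤ Subgroup.centralizer (P : Set G) ∧ Q ⊓ (P : Subgroup G) = ⊥ ∧ Q ⊔ (P : Subgroup G) = Subgroup.normalizer (P : Set G) := by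
  constructor
  · intro h
    obtain ⟨N, hN, hc⟩ := exists_normal_isComplement'_of_hasNormalPComplement h P
    have hdisj : N ⊓ (P : Subgroup G) = ⊥ := disjoint_iff.mp hc.disjoint
    refine ⟨N ⊓ Subgroup.normalizer (P : Set G), ?_, ?_, ?_⟩
    · rintro q ⟨hqN, hqn⟩
      rw [Subgroup.mem_centralizer_iff]
      intro x hx
      have hx' : x ∈ (P : Subgroup G) := hx
      have h1 : q * x * q⁻¹ * x⁻¹ ∈ N := by
        have := hN.conj_mem _ (N.inv_mem hqN) x
        have h3 := N.mul_mem hqN this
        simpa [mul_assoc] using h3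
      have h2 : q * x * q⁻¹ * x⁻¹ ∈ (P : Subgroup G) := by
        have := (Subgroup.mem_normalizer_iff.mp hqn x).mp hx'
        exact Subgroup.mul_mem _ this (Subgroup.inv_mem _ hx')
      have h3 : q * x * q⁻¹ * x⁻¹ ∈ N ⊓ (P : Subgroup G) := ⟨h1, h2⟩
      rw [hdisj, Subgroup.mem_bot] at h3
      have := congrArg (fun t => t * x * q) h3
      simpa [mul_assoc] using this.symm
    · rw [eq_bot_iff, ← hdisj]
      exact inf_le_inf_right _ inf_le_left
    · apply le_antisymm
      · exact sup_le inf_le_right Subgroup.le_normalizer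
      · intro g hg
        obtain ⟨⟨n, x⟩, hnx⟩ := hc.2 g
        simp only at hnx
        have hn : (n : G) ∈ Subgroup.normalizer ((P : Subgroup G) : Set G) := by
          have : (n : G) = g * (x : G)⁻¹ := by rw [← hnx]; simp
          rw [this]
          exact Subgroup.mul_mem _ hg (Subgroup.inv_mem _ (Subgroup.le_normalizer x.2))
        rw [← hnx]
        exact Subgroup.mul_mem_sup ⟨n.2, hn⟩ x.2
  · rintro ⟨Q, hQc, -, hQP⟩
    apply hasNormalPComplement_of_normalizer_le_centralizer P
    rw [← hQP]
    haveI : IsMulCommutative (P : Subgroup G) := hP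
    exact sup_le hQc (Subgroup.le_centralizer (P : Subgroup G))

end Cfsg.Agent.S0083
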