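import Cfsg.Statements.S0084
import Cfsg.Agent.Lib.helper2.Transfer

set_option autoImplicit false
open Cfsg

namespace Cfsg.Agent.S0084

open Cfsg.Agent.Lib.helper2

/-- A group whose Sylow 2-subgroups are Klein four-groups and whose order is prime to 3 has a normal 2-complement. -/
theorem result {G : Type*} [Group G] [Finite G] (T : Sylow 2 G) (hT : IsKleinFour T) (h3 : ¬ 3 ∣ Nat.card G) : Cfsg.HasNormalPComplement 2 G := by
  have hcomm : IsMulCommutative T :=
    ⟨⟨fun a b => mul_comm_of_exponent_two hT.exponent_two a b⟩⟩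
  have hcard : Nat.card T = 4 := hT.card_four
  apply hasNormalPComplement_of_card T hcomm
  intro r hr hr2 hrG d hd hdlt hdvd
  rw [hcard] at hd hdlt hdvd
  have hd4 : d ≤ 4 := Nat.le_of_dvd (by norm_num) hd
  interval_cases d
  · simp at hd
  · have hdvd' : r ∣ 3 := hdvd
    have : r = 3 := (Nat.prime_dvd_prime_iff_eq hr Nat.prime_three).mp hdvd'
    exact h3 (this ▸ hrG)
  · have hdvd' : r ∣ 2 := hdvd
    have : r = 2 := (Nat.prime_dvd_prime_iff_eq hr Nat.prime_two).mp hdvd'
    exact hr2 this
  · omega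

end Cfsg.Agent.S0084
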