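import Cfsg.Statements.S0085
import Cfsg.Agent.Lib.helper2.Transfer

set_option autoImplicit false
open Cfsg

namespace Cfsg.Agent.S0085

open Cfsg.Agent.Lib.helper2

/-- A group whose Sylow 2-subgroups are elementary abelian of order 8 and whose order is prime to 3 and to 7 has a normal 2-complement. -/
theorem result {G : Type*} [Group G] [Finite G] (T : Sylow 2 G) (h8 : Nat.card T = 8) (he : ∀ x : T, x * x = 1) (h3 : ¬ 3 ∣ Nat.card G) (h7 : ¬ 7 ∣ Nat.card G) : Cfsg.HasNormalPComplement 2 G := by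
  have hcomm : IsMulCommutative T := by
    refine ⟨⟨fun a b => ?_⟩⟩
    have h1 := he (a * b)
    have h2 := he a
    have h3 := he b
    have : a * b = b⁻¹ * a⁻¹ := by
      rw [← mul_inv_rev]; exact eq_inv_of_mul_eq_one_left h1
    rw [this, inv_eq_of_mul_eq_one_left h2, inv_eq_of_mul_eq_one_left h3]
  apply hasNormalPComplement_of_card T hcomm
  intro r hr hr2 hrG d hd hdlt hdvd
  rw [h8] at hd hdlt hdvd
  interval_cases d
  · simp at hd
  · have hdvd' : r ∣ 7 := hdvd
    have : r = 7 := (Nat.prime_dvd_prime_iff_eq hr (by decide)).mp hdvd'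
    exact h7 (this ▸ hrG)
  · have h6 : r ∣ 2 * 3 := hdvd
    rcases (Nat.Prime.dvd_mul hr).mp h6 with h | h
    · exact hr2 ((Nat.prime_dvd_prime_iff_eq hr Nat.prime_two).mp h)
    · have : r = 3 := (Nat.prime_dvd_prime_iff_eq hr Nat.prime_three).mp h
      exact h3 (this ▸ hrG)
  · omega
  · have h4 : r ∣ 2 * 2 := hdvd
    rcases (Nat.Prime.dvd_mul hr).mp h4 with h | h <;>
    exact hr2 ((Nat.prime_dvd_prime_iff_eq hr Nat.prime_two).mp h)
  · omega
  · omega
  · omega

end Cfsg.Agent.S0085
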