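import Cfsg.Statements.S0087
import Cfsg.Agent.S0001

set_option autoImplicit false
open Cfsg

namespace Cfsg.Agent.S0087

open scoped Pointwise IsMulCommutative
open Cfsg.Agent.Lib.helper1

universe u

/-- Fusion control: if the statement holds for all smaller groups, then conjugate elements of an
abelian Hall subgroup central in its normalizer are equal. -/
theorem fusion_of_ih {G : Type u} [Group G] [Finite G]
    (ih : ∀ (C : Type u) [Group C] [Finite C], Nat.card C < Nat.card G → ∀ (H : Subgroup C),
      Nat.Coprime (Nat.card H) H.index →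
      Subgroup.normalizer (H : Set C) ≤ Subgroup.centralizer (H : Set C) →
      ∃ N : Subgroup C, N.Normal ∧ N.IsComplement' H)
    (H : Subgroup G) (hHall : Nat.Coprime (Nat.card H) H.index)
    (h : Subgroup.normalizer (H : Set G) ≤ Subgroup.centralizer (H : Set G))
    (x g : G) (hx : x ∈ H) (hy : g⁻¹ * x * g ∈ H) : g⁻¹ * x * g = x := by
  have hab : ∀ a ∈ H, ∀ b ∈ H, a * b = b * a := by
    intro a ha b hb
    exact (Subgroup.mem_centralizer_iff.mp (h (Subgroup.le_normalizer hb)) a ha)
  set y := g⁻¹ * x * g with hydef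
  set C := Subgroup.centralizer ({y} : Set G) with hCdef
  have hmemC : ∀ c : G, c ∈ C ↔ y * c = c * y := by
    intro c
    rw [hCdef, Subgroup.mem_centralizer_iff]
    simp
  by_cases hCtop : C = ⊤
  · -- y is central
    have h1 : y * g⁻¹ = g⁻¹ * y := (hmemC g⁻¹).mp (by rw [hCtop]; exact Subgroup.mem_top _)
    have h2 : x = g * y * g⁻¹ := by rw [hydef]; group
    rw [h2, mul_assoc, h1, ← mul_assoc, mul_inv_cancel, one_mul]
  · -- proper centralizer
    have hcardC : Nat.card C < Nat.card G := card_lt_of_ne_top hCtop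
    have hHC : H ≤ C := fun a ha => (hmemC a).mpr (hab y hy a ha)
    set H₁ : Subgroup G := MulAut.conj g⁻¹ • H with hH₁
    have hmemH₁ : ∀ a : G, a ∈ H₁ ↔ g * a * g⁻¹ ∈ H := by
      intro a
      rw [hH₁, mem_conj_smul, inv_inv]
    have hyH₁ : y ∈ H₁ := by
      rw [hmemH₁]
      have : g * y * g⁻¹ = x := by rw [hydef]; group
      rw [this]; exact hx
    have hH₁C : H₁ ≤ C := by
      intro a ha
      rw [hmemC]
      have h1 := hab _ ((hmemH₁ y).mp hyH₁) _ ((hmemH₁ a).mp ha)
      -- (g y g⁻¹) (g a g⁻¹) = (g a g⁻¹) (g y g⁻¹)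
      have h2 : g * (y * a) * g⁻¹ = g * (a * y) * g⁻¹ := by
        have e1 : g * (y * a) * g⁻¹ = (g * y * g⁻¹) * (g * a * g⁻¹) := by group
        have e2 : g * (a * y) * g⁻¹ = (g * a * g⁻¹) * (g * y * g⁻¹) := by group
        rw [e1, e2, h1]
      exact mul_left_cancel (mul_right_cancel h2)
    -- pass to C
    set H' : Subgroup C := H.subgroupOf C with hH'
    set H₁' : Subgroup C := H₁.subgroupOf C with hH₁'
    have hcardH' : Nat.card H' = Nat.card H :=
      Nat.card_congr (Subgroup.subgroupOfEquivOfLe hHC).toEquiv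
    have hcardH₁ : Nat.card H₁ = Nat.card H := card_conj_smul _ _
    have hcardH₁' : Nat.card H₁' = Nat.card H := by
      rw [← hcardH₁]
      exact Nat.card_congr (Subgroup.subgroupOfEquivOfLe hH₁C).toEquiv
    have hHall' : Nat.Coprime (Nat.card H') H'.index := by
      rw [hcardH']
      have : H'.index ∣ H.index := Subgroup.relIndex_dvd_index_of_le hHC
      exact Nat.Coprime.coprime_dvd_right this hHall
    have hnc' : Subgroup.normalizer (H' : Set C) ≤ Subgroup.centralizer (H' : Set C) := by
      intro c hc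
      have hc' : (c : G) ∈ Subgroup.normalizer (H : Set G) := by
        apply Subgroup.mem_normalizer_fintype
        intro n hn
        have hn' : (⟨n, hHC hn⟩ : C) ∈ H' := by rw [hH', Subgroup.mem_subgroupOf]; exact hn
        have := (Subgroup.mem_normalizer_iff.mp hc ⟨n, hHC hn⟩).mp hn'
        rw [hH', Subgroup.mem_subgroupOf] at this
        exact this
      have hc'' := h hc'
      rw [Subgroup.mem_centralizer_iff] at hc'' ⊢
      intro a ha
      have ha' : (a : G) ∈ H := Subgroup.mem_subgroupOf.mp ha
      exact Subtype.ext (hc'' (a : G) ha')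
    obtain ⟨K', hK'n, hcompl⟩ := ih C hcardC H' hHall' hnc'
    have hidx : H'.index = Nat.card K' := hcompl.index_eq_card
    have hcompl₁ : K'.IsComplement' H₁' := by
      apply Subgroup.isComplement'_of_coprime
      · rw [hcardH₁', ← hcardH']; exact hcompl.card_mul_card
      · rw [hcardH₁', ← hcardH', ← hidx]; exact hHall'.symm
    have hN : (Nat.card K').Coprime K'.index := by
      rw [hcompl.symm.index_eq_card, ← hidx]; exact hHall'.symm
    have hsolvH' : Group.IsSolvable H' := by
      apply Group.isSolvable_of_comm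
      intro a b
      have ha' : ((a : C) : G) ∈ H := Subgroup.mem_subgroupOf.mp a.2
      have hb' : ((b : C) : G) ∈ H := Subgroup.mem_subgroupOf.mp b.2
      exact Subtype.ext (Subtype.ext (hab _ ha' _ hb'))
    have hsolv : Group.IsSolvable K' ∨ Group.IsSolvable (C ⧸ K') :=
      Or.inr (isSolvable_of_mulEquiv hcompl.symm.QuotientMulEquiv.symm hsolvH')
    obtain ⟨c, hc⟩ := Cfsg.Agent.S0001.result K' hN hsolv H' H₁' hcompl hcompl₁
    -- g * c normalizes H
    have hnorm : g * (c : G) ∈ Subgroup.normalizer (H : Set G) := by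
      apply Subgroup.mem_normalizer_fintype
      intro n hn
      have hn' : (⟨n, hHC hn⟩ : C) ∈ H' := by rw [hH', Subgroup.mem_subgroupOf]; exact hn
      have h1 : c * ⟨n, hHC hn⟩ * c⁻¹ ∈ MulAut.conj c • H' := conj_mem_conj_smul hn'
      rw [hc, hH₁', Subgroup.mem_subgroupOf] at h1
      have h2 : (c : G) * n * (c : G)⁻¹ ∈ H₁ := h1
      rw [hmemH₁] at h2
      have e : g * (c : G) * n * (g * (c : G))⁻¹ = g * ((c : G) * n * (c : G)⁻¹) * g⁻¹ := by group
      rw [SetLike.mem_coe, e]; exact h2
    have hcent := h hnorm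
    rw [Subgroup.mem_centralizer_iff] at hcent
    have h3 : x * (g * (c : G)) = g * (c : G) * x := hcent x hx
    have h4 : y * (c : G) = (c : G) * y := (hmemC (c : G)).mp c.2
    -- y = g⁻¹ x g ; x g c = g c x → g⁻¹ x g c = c x → y c = c x → c y = c x
    have h5 : y * (c : G) = (c : G) * x := by
      rw [hydef]
      calc g⁻¹ * x * g * (c : G) = g⁻¹ * (x * (g * (c : G))) := by group
        _ = g⁻¹ * (g * (c : G) * x) := by rw [h3]
        _ = (c : G) * x := by group
    rw [h4] at h5
    exact mul_left_cancel h5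

theorem hall_central_aux (n : ℕ) : ∀ (G : Type u) [Group G] [Finite G], Nat.card G = n →
    ∀ (H : Subgroup G), Nat.Coprime (Nat.card H) H.index →
      Subgroup.normalizer (H : Set G) ≤ Subgroup.centralizer (H : Set G) →
      ∃ N : Subgroup G, N.Normal ∧ N.IsComplement' H := by
  induction n using Nat.strong_induction_on with
  | _ n IH =>
    intro G _ _ hG H hHall h
    have ih : ∀ (C : Type u) [Group C] [Finite C], Nat.card C < Nat.card G → ∀ (H : Subgroup C),
        Nat.Coprime (Nat.card H) H.index →
        Subgroup.normalizer (H : Set C) ≤ Subgroup.centralizer (H : Set C) →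
        ∃ N : Subgroup C, N.Normal ∧ N.IsComplement' H := by
      intro C _ _ hC H' hH' hn'
      exact IH (Nat.card C) (hG ▸ hC) C rfl H' hH' hn'
    have hfus := fusion_of_ih ih H hHall h
    haveI : IsMulCommutative H :=
      ⟨⟨fun a b => Subtype.ext (h (Subgroup.le_normalizer b.2) a a.2)⟩⟩
    let V : G →* H := MonoidHom.transfer (MonoidHom.id H)
    have hpow : ∀ x : H, V (x : G) = x ^ H.index := by
      intro x
      have key : ∀ (k : ℕ) (g₀ : G), g₀⁻¹ * (x : G) ^ k * g₀ ∈ H →
          g₀⁻¹ * (x : G) ^ k * g₀ = (x : G) ^ k := by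
        intro k g₀ hk
        exact hfus ((x : G) ^ k) g₀ (Subgroup.pow_mem _ x.2 k) hk
      have := MonoidHom.transfer_eq_pow (MonoidHom.id H) (x : G) key
      rw [show V (x : G) = MonoidHom.transfer (MonoidHom.id H) (x : G) from rfl, this]
      ext; simp
    refine ⟨V.ker, inferInstance, ?_⟩
    -- V restricted to H is a bijection
    have hinj : ∀ x : H, V (x : G) = 1 → x = 1 := by
      intro x hx1
      rw [hpow] at hx1
      have := (powCoprime hHall).injective (a₁ := x) (a₂ := 1)
      apply this
      simp [hx1]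
    have hsurj : Function.Surjective V := by
      intro z
      obtain ⟨w, hw⟩ := (powCoprime hHall).surjective z
      refine ⟨(w : G), ?_⟩
      rw [hpow, ← hw]; rfl
    apply Subgroup.isComplement'_of_card_mul_and_disjoint
    · have h1 : V.ker.index = Nat.card H := by
        rw [Subgroup.index_ker, MonoidHom.range_eq_top.mpr hsurj, Subgroup.card_top]
      rw [← h1]; exact Subgroup.card_mul_index V.ker
    · rw [disjoint_iff, eq_bot_iff]
      rintro z ⟨hzk, hzH⟩
      have := hinj ⟨z, hzH⟩ (MonoidHom.mem_ker.mp hzk)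
      rw [Subgroup.mem_bot]
      exact congrArg Subtype.val this

/-- A Hall subgroup that is central in its normalizer has a normal complement. -/
theorem result {G : Type*} [Group G] [Finite G] (H : Subgroup G) (hHall : Nat.Coprime (Nat.card H) H.index) (h : Subgroup.normalizer (H : Set G) ≤ Subgroup.centralizer (H : Set G)) : ∃ N : Subgroup G, N.Normal ∧ N.IsComplement' H :=
  hall_central_aux _ G rfl H hHall h

end Cfsg.Agent.S0087
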