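import Cfsg.Statements.S0090
import Cfsg.Agent.Lib.helper3.TransferCentral
import Cfsg.Agent.Lib.helper3.TransferLemmas

set_option autoImplicit false
open Cfsg

namespace Cfsg.Agent.S0090

open Cfsg.Agent.Lib.helper3
open scoped IsMulCommutative

/-- An abelian normal Hall subgroup A splits as the internal direct product of G' ∩ A and Z(G) ∩ A, and [A, G] = G' ∩ A. -/
theorem result {G : Type*} [Group G] [Finite G] (A : Subgroup G) [A.Normal] (hc : IsMulCommutative A) (hHall : Nat.Coprime (Nat.card A) A.index) : ⁅A, (⊤ : Subgroup G)⁆ = commutator G ⊓ A ∧ (commutator G ⊓ A) ⊓ (Subgroup.center G ⊓ A) = ⊥ ∧ (commutator G ⊓ A) ⊔ (Subgroup.center G ⊓ A) = A := by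
  have hc1 : ⁅A, (⊤ : Subgroup G)⁆ ≤ commutator G ⊓ A :=
    le_inf (by rw [commutator_def]; exact Subgroup.commutator_mono le_top le_rfl)
      (Subgroup.commutator_le_left A ⊤)
  have hd : (commutator G ⊓ A) ⊓ (Subgroup.center G ⊓ A) = ⊥ := by
    rw [eq_bot_iff]
    rintro z ⟨⟨hz', hzA⟩, ⟨hz, _⟩⟩
    rw [Subgroup.mem_bot]
    exact eq_one_of_mem_abelian_hall_of_mem_center_of_mem_commutator A hHall z hzA hz hz'
  have hb : ∀ a ∈ A, ∃ z ∈ Subgroup.center G ⊓ A, ∃ f ∈ ⁅A, (⊤ : Subgroup G)⁆, a = z * f := by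
    intro a ha
    obtain ⟨b, hb⟩ := (powCoprime hHall).surjective ⟨a, ha⟩
    have hb' : (b : G) ^ A.index = a := by
      have := congrArg Subtype.val hb
      simpa using this
    have h1 : ((MonoidHom.transfer (MonoidHom.id A) (b : G) : A) : G) ∈ Subgroup.center G := by
      have := transfer_id_mem_centralizer_normalizer A (b : G)
      rwa [Subgroup.normalizer_eq_top, Subgroup.coe_top, Subgroup.centralizer_univ] at this
    have h2 : ((MonoidHom.transfer (MonoidHom.id A) (b : G) : A) : G)⁻¹ * (b : G) ^ A.index ∈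
        ⁅A, (⊤ : Subgroup G)⁆ :=
      focalSubgroup_le_commutator_top A (transfer_id_inv_mul_pow_mem_focalSubgroup A b)
    refine ⟨_, ⟨h1, (MonoidHom.transfer (MonoidHom.id A) (b : G)).2⟩, _, h2, ?_⟩
    rw [hb']; group
  have he : commutator G ⊓ A ≤ ⁅A, (⊤ : Subgroup G)⁆ := by
    rintro x ⟨hx', hxA⟩
    obtain ⟨z, hz, f, hf, rfl⟩ := hb x hxA
    have hf' : f ∈ commutator G := (hc1 hf).1
    have hz' : z ∈ commutator G := by
      have : z = z * f * f⁻¹ := by group
      rw [this]; exact Subgroup.mul_mem _ hx' (Subgroup.inv_mem _ hf')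
    have hz1 : z ∈ (commutator G ⊓ A) ⊓ (Subgroup.center G ⊓ A) := ⟨⟨hz', hz.2⟩, hz⟩
    rw [hd, Subgroup.mem_bot] at hz1
    rw [hz1, one_mul]; exact hf
  refine ⟨le_antisymm hc1 he, hd, le_antisymm (sup_le inf_le_right inf_le_right) ?_⟩
  intro a ha
  obtain ⟨z, hz, f, hf, rfl⟩ := hb a ha
  have hcomm : z * f = f * z := (Subgroup.mem_center_iff.mp hz.1 f).symm
  rw [hcomm]
  exact Subgroup.mul_mem_sup (hc1 hf) hz

end Cfsg.Agent.S0090
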