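import Cfsg.Statements.S0091

set_option autoImplicit false
open Cfsg

namespace Cfsg.Agent.S0091

open scoped commutatorElement

/-- If a nontrivial Sylow p-subgroup controls its own fusion then it is not contained in the derived subgroup. -/
theorem result {G : Type*} [Group G] [Finite G] {p : ℕ} [Fact p.Prime] (P : Sylow p G) (hp : p ∣ Nat.card G) (h : ∀ x ∈ P, ∀ y ∈ P, (∃ g : G, g * x * g⁻¹ = y) → ∃ z ∈ P, z * x * z⁻¹ = y) : ¬ (P : Subgroup G) ≤ commutator G := by
  intro hle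
  -- focal subgroup theorem
  have hfoc : commutator G ⊓ (P : Subgroup G) = (P : Subgroup G).focalSubgroup :=
    Subgroup.commutator_inf_eq_focalSubgroup P
  have h1 : (P : Subgroup G) ≤ (P : Subgroup G).focalSubgroup := by
    rw [← hfoc]; exact le_inf hle le_rfl
  -- focal subgroup ≤ ⁅P, P⁆
  have h2 : (P : Subgroup G).focalSubgroup ≤ ⁅(P : Subgroup G), (P : Subgroup G)⁆ := by
    rw [Subgroup.focalSubgroup_def, Subgroup.closure_le]
    rintro g ⟨hgP, x, hxP, u, rfl⟩
    -- ⁅x, u⁆ = x * (u * x⁻¹ * u⁻¹)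
    have hx' : x⁻¹ ∈ (P : Subgroup G) := Subgroup.inv_mem _ hxP
    have hconj : u * x⁻¹ * u⁻¹ ∈ (P : Subgroup G) := by
      have e : u * x⁻¹ * u⁻¹ = x⁻¹ * ⁅x, u⁆ := by rw [commutatorElement_def]; group
      rw [e]; exact Subgroup.mul_mem _ hx' hgP
    obtain ⟨z, hzP, hz⟩ := h x⁻¹ hx' (u * x⁻¹ * u⁻¹) hconj ⟨u, rfl⟩
    have e : ⁅x, u⁆ = ⁅x, z⁆ := by
      rw [commutatorElement_def, commutatorElement_def]
      have e1 : x * u * x⁻¹ * u⁻¹ = x * (u * x⁻¹ * u⁻¹) := by group
      have e2 : x * z * x⁻¹ * z⁻¹ = x * (z * x⁻¹ * z⁻¹) := by group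
      rw [e1, e2, hz]
    rw [SetLike.mem_coe, e]
    exact Subgroup.commutator_mem_commutator hxP hzP
  have h3 : (P : Subgroup G) ≤ ⁅(P : Subgroup G), (P : Subgroup G)⁆ := h1.trans h2
  -- P is a nontrivial solvable group
  have hPnt : Nontrivial (P : Subgroup G) := by
    have hne : (P : Subgroup G) ≠ ⊥ := P.ne_bot_of_dvd_card hp
    exact (Subgroup.nontrivial_iff_ne_bot _).mpr hne
  have hnil : Group.IsNilpotent (P : Subgroup G) := P.isPGroup'.isNilpotent
  have hsolv : Group.IsSolvable (P : Subgroup G) := inferInstance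
  have hlt : commutator (P : Subgroup G) < ⊤ := Group.IsSolvable.commutator_lt_top_of_nontrivial _
  have h4 : (commutator (P : Subgroup G)).map (P : Subgroup G).subtype =
      ⁅(P : Subgroup G), (P : Subgroup G)⁆ := Subgroup.map_subtype_commutator _
  have h5 : commutator (P : Subgroup G) = ⊤ := by
    rw [eq_top_iff]
    intro x _
    have hx : (x : G) ∈ ⁅(P : Subgroup G), (P : Subgroup G)⁆ := h3 x.2
    rw [← h4] at hx
    obtain ⟨y, hy, hyx⟩ := hx
    have : y = x := Subtype.ext hyx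
    rw [← this]; exact hy
  exact (ne_of_lt hlt) h5

end Cfsg.Agent.S0091
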