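import Cfsg.Statements.S0092
import Cfsg.Agent.S0001
import Cfsg.Agent.Lib.helper40.PResidual
import Cfsg.Agent.Lib.helper3.SylowLemmas
import Cfsg.Agent.Lib.helper3.TransferLemmas

set_option autoImplicit false
open Cfsg

namespace Cfsg.Agent.S0092

open scoped Pointwise IsMulCommutative
open Cfsg.Agent.Lib.helper1 Cfsg.Agent.Lib.helper3 Cfsg.Agent.Lib.helper40

/-- Ambient Schur–Zassenhaus: a complement to a normal Hall subgroup `Q` of `T`. -/
theorem ambient_sz {G : Type*} [Group G] [Finite G] (Q T : Subgroup G) (hQT : Q ≤ T)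
    (hTn : T ≤ Subgroup.normalizer (Q : Set G))
    (hcop : Nat.Coprime (Nat.card Q) (Q.relIndex T)) :
    ∃ L : Subgroup G, L ≤ T ∧ Q ⊓ L = ⊥ ∧ Q ⊔ L = T ∧ Nat.card L = Q.relIndex T := by
  haveI : (Q.subgroupOf T).Normal := Subgroup.normal_subgroupOf_of_le_normalizer hTn
  have hcard : Nat.card (Q.subgroupOf T) = Nat.card Q :=
    Nat.card_congr (Subgroup.subgroupOfEquivOfLe hQT).toEquiv
  have hcop' : Nat.Coprime (Nat.card (Q.subgroupOf T)) (Q.subgroupOf T).index := by
    rw [hcard]; exact hcop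
  obtain ⟨L', hL'⟩ := Subgroup.exists_right_complement'_of_coprime hcop'
  refine ⟨L'.map T.subtype, Subgroup.map_subtype_le L', ?_, ?_, ?_⟩
  · rw [eq_bot_iff]
    rintro x ⟨hxQ, hxL⟩
    obtain ⟨l, hl, hlx⟩ := Subgroup.mem_map.mp hxL
    have hlQ : l ∈ Q.subgroupOf T := by
      rw [Subgroup.mem_subgroupOf]
      have : T.subtype l = (l : G) := rfl
      rw [← this, hlx]; exact hxQ
    have h1 : l ∈ Q.subgroupOf T ⊓ L' := ⟨hlQ, hl⟩
    rw [hL'.disjoint.eq_bot, Subgroup.mem_bot] at h1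
    rw [Subgroup.mem_bot, ← hlx, h1]; simp
  · have h1 : Q.subgroupOf T ⊔ L' = ⊤ := hL'.sup_eq_top
    have h2 : (Q.subgroupOf T ⊔ L').map T.subtype = T := by
      rw [h1, ← MonoidHom.range_eq_map, Subgroup.range_subtype]
    rw [Subgroup.map_sup, Subgroup.subgroupOf_map_subtype, inf_eq_left.mpr hQT] at h2
    exact h2
  · rw [Subgroup.card_map_of_injective (Subgroup.subtype_injective T)]
    exact hL'.symm.index_eq_card.symm

/-- Any homomorphism from `O^p(G)` to a `p`-group is trivial. -/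
theorem hom_pResidual_eq_one {G : Type*} [Group G] [Finite G] {p : ℕ} [Fact p.Prime]
    {A : Type*} [Group A] (hA : IsPGroup p A) (f : (Cfsg.pResidual p G) →* A)
    (n : Cfsg.pResidual p G) : f n = 1 := by
  obtain ⟨g, hg⟩ := n
  have key : ∀ (g : G) (hg : g ∈ Cfsg.pResidual p G), f ⟨g, hg⟩ = 1 := by
    intro g hg
    unfold Cfsg.pResidual at hg
    induction hg using Subgroup.closure_induction with
    | mem x hx =>
      have hx' : Nat.Coprime (orderOf x) p := hx
      apply eq_one_of_pow_eq_one_of_coprime_pGroup hA hx'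
      rw [← map_pow]
      have : (⟨x, Subgroup.subset_closure hx⟩ : Cfsg.pResidual p G) ^ orderOf x = 1 := by
        apply Subtype.ext
        simp [pow_orderOf_eq_one]
      rw [this, map_one]
    | one => exact map_one f
    | mul x y hx hy ihx ihy =>
      have : (⟨x * y, Subgroup.mul_mem _ hx hy⟩ : Cfsg.pResidual p G) = ⟨x, hx⟩ * ⟨y, hy⟩ := rfl
      rw [this, map_mul, ihx, ihy, one_mul]
    | inv x hx ihx =>
      have : (⟨x⁻¹, Subgroup.inv_mem _ hx⟩ : Cfsg.pResidual p G) = ⟨x, hx⟩⁻¹ := rfl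
      rw [this, map_inv, ihx, inv_one]
  exact key g hg

/-- Claim A: no nontrivial element of the abelian Sylow subgroup `Q` of `N` is centralized by
`N_N(Q)`, when `N` has no nontrivial homomorphism to `Q`. -/
theorem claimA {G : Type*} [Group G] [Finite G] {p : ℕ} [Fact p.Prime] (N : Subgroup G)
    (Q' : Sylow p N) (hab : IsMulCommutative Q')
    (hNp : ∀ f : N →* (Q' : Subgroup N), ∀ n, f n = 1) (L : Subgroup G)
    (hT : Subgroup.normalizer (((Q' : Subgroup N).map N.subtype : Subgroup G) : Set G) ⊓ N ≤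
        (Q' : Subgroup N).map N.subtype ⊔ L)
    (hLn : L ≤ Subgroup.normalizer (((Q' : Subgroup N).map N.subtype : Subgroup G) : Set G))
    (z : G) (hz : z ∈ (Q' : Subgroup N).map N.subtype)
    (hzL : ∀ l ∈ L, z * l = l * z) : z = 1 := by
  set Q : Subgroup G := (Q' : Subgroup N).map N.subtype with hQ
  haveI hab' : IsMulCommutative (Q' : Subgroup N) := hab
  have hQab : ∀ a ∈ Q, ∀ b ∈ Q, a * b = b * a := by
    rintro a ⟨a', ha', rfl⟩ b ⟨b', hb', rfl⟩
    have := hab'.is_comm.comm ⟨a', ha'⟩ ⟨b', hb'⟩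
    have h2 := congrArg (fun x : (Q' : Subgroup N) => ((x : N) : G)) this
    exact h2
  obtain ⟨w, hw, rfl⟩ := hz
  have hwQ : (w : G) ∈ Q := ⟨w, hw, rfl⟩
  have key : ∀ (k : ℕ) (n₀ : N), n₀⁻¹ * w ^ k * n₀ ∈ (Q' : Subgroup N) →
      n₀⁻¹ * w ^ k * n₀ = w ^ k := by
    intro k n₀ hk
    obtain ⟨n, hn, e⟩ := Q'.conj_eq_normalizer_conj_of_mem (w ^ k) n₀ (Subgroup.pow_mem _ hw k) hk
    rw [e]
    have hnG : (n : G) ∈ Subgroup.normalizer (Q : Set G) := by
      apply Subgroup.mem_normalizer_fintype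
      rintro x ⟨q, hq, rfl⟩
      exact ⟨n * q * n⁻¹, (Subgroup.mem_set_normalizer_iff.mp hn q).mp hq, rfl⟩
    have hnT : (n : G) ∈ Q ⊔ L := hT ⟨hnG, n.2⟩
    obtain ⟨q, hq, l, hl, hnql⟩ := mem_sup_normal_left hLn hnT
    have hcomm : (w : G) ^ k * (n : G) = (n : G) * (w : G) ^ k := by
      rw [hnql]
      have h1 : (w : G) ^ k * q = q * (w : G) ^ k := hQab _ (Subgroup.pow_mem _ hwQ k) _ hq
      have h2 : (w : G) ^ k * l = l * (w : G) ^ k := (Commute.pow_left (hzL l hl) k)
      calc (w : G) ^ k * (q * l) = ((w : G) ^ k * q) * l := by group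
        _ = q * ((w : G) ^ k * l) := by rw [h1]; group
        _ = q * l * (w : G) ^ k := by rw [h2]; group
    apply Subtype.ext
    simp only [Subgroup.coe_mul, Subgroup.coe_inv, Subgroup.coe_pow]
    rw [mul_assoc, hcomm, inv_mul_cancel_left]
  have h1 := MonoidHom.transfer_eq_pow (MonoidHom.id (Q' : Subgroup N)) w key
  have h2 : MonoidHom.transfer (MonoidHom.id (Q' : Subgroup N)) w = 1 := hNp _ w
  rw [h2] at h1
  have hcop : Nat.Coprime (Q' : Subgroup N).index p := by
    rw [Nat.coprime_comm]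
    exact (Nat.Prime.coprime_iff_not_dvd Fact.out).mpr Q'.not_dvd_index
  have h3 : (⟨w, hw⟩ : (Q' : Subgroup N)) ^ (Q' : Subgroup N).index = 1 := by
    rw [h1]; rfl
  have h4 := eq_one_of_pow_eq_one_of_coprime_pGroup Q'.isPGroup' hcop _ h3
  have h5 : w = 1 := congrArg Subtype.val h4
  rw [h5]; rfl

/-- If `N` is normal of `p`-power index, has an abelian Sylow `p`-subgroup and no nontrivial
homomorphism onto a `p`-group, then `G` splits over `N`. -/
theorem splits {G : Type*} [Group G] [Finite G] {p : ℕ} [Fact p.Prime] (N : Subgroup G)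
    [N.Normal] (j : ℕ) (hidx : N.index = p ^ j) (Q' : Sylow p N) (hab : IsMulCommutative Q')
    (hNp : ∀ f : N →* (Q' : Subgroup N), ∀ n, f n = 1) :
    ∃ K : Subgroup G, K.IsComplement' N := by
  have hp : p.Prime := Fact.out
  set Q : Subgroup G := (Q' : Subgroup N).map N.subtype with hQ
  set M : Subgroup G := Subgroup.normalizer (Q : Set G) with hM
  have hMN : M ⊔ N = ⊤ := Sylow.normalizer_sup_eq_top Q'
  have hQN : Q ≤ N := Subgroup.map_subtype_le _
  have hQM : Q ≤ M := Subgroup.le_normalizer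
  set T : Subgroup G := M ⊓ N with hT
  have hQT : Q ≤ T := le_inf hQM hQN
  have hTM : T ≤ M := inf_le_left
  have hQsub : Q.subgroupOf N = (Q' : Subgroup N) :=
    Subgroup.comap_map_eq_self_of_injective (Subgroup.subtype_injective N) _
  have hndN : ¬ p ∣ Q.relIndex N := by
    show ¬ p ∣ (Q.subgroupOf N).index
    rw [hQsub]; exact Q'.not_dvd_index
  have hQp : IsPGroup p Q := Q'.isPGroup'.map _
  obtain ⟨a, ha⟩ := (IsPGroup.iff_card).mp hQp
  have hndT : ¬ p ∣ Q.relIndex T := by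
    intro hd
    apply hndN
    have := Subgroup.relIndex_mul_relIndex Q T N hQT inf_le_right
    rw [← this]; exact Dvd.dvd.mul_right hd _
  have hcopT' : Nat.Coprime p (Q.relIndex T) := (Nat.Prime.coprime_iff_not_dvd hp).mpr hndT
  have hcopT : Nat.Coprime (Nat.card Q) (Q.relIndex T) := by
    rw [ha]; exact Nat.Coprime.pow_left a hcopT'
  obtain ⟨L, hLT, hQL, hQLT, hcardL⟩ := ambient_sz Q T hQT hTM hcopT
  have hLM : L ≤ M := hLT.trans hTM
  have hcopL : Nat.Coprime (Nat.card L) p := by rw [hcardL]; exact hcopT'.symm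
  have hcopQL : Nat.Coprime (Nat.card Q) (Nat.card L) := by rw [hcardL]; exact hcopT
  have hA : ∀ z ∈ Q, (∀ l ∈ L, z * l = l * z) → z = 1 := fun z hz hzL =>
    claimA N Q' hab hNp L (by rw [hQLT]) hLM z hz hzL
  have hQab : ∀ a ∈ Q, ∀ b ∈ Q, a * b = b * a := by
    rintro a ⟨a', ha', rfl⟩ b ⟨b', hb', rfl⟩
    have := hab.is_comm.comm ⟨a', ha'⟩ ⟨b', hb'⟩
    have h2 := congrArg (fun x : (Q' : Subgroup N) => ((x : N) : G)) this
    exact h2
  have hQsolv : Group.IsSolvable Q :=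
    Group.isSolvable_of_comm (fun a b => Subtype.ext (hQab _ a.2 _ b.2))
  have hMT : ∀ m ∈ M, MulAut.conj m • T = T := by
    intro m hm
    rw [hT, Subgroup.smul_inf, Subgroup.Normal.conj_smul_eq_self m N,
      Subgroup.conj_smul_eq_self_of_mem hm]
  have hF : ∀ m ∈ M, ∃ q ∈ Q, q⁻¹ * m ∈ Subgroup.normalizer (L : Set G) := by
    intro m hm
    have hmQ : MulAut.conj m • Q = Q := conj_smul_eq_of_mem_normalizer hm
    have hdK : Q ⊓ MulAut.conj m • L = ⊥ := by
      have := congrArg (fun X => MulAut.conj m • X) hQL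
      simp only [Subgroup.smul_inf, Subgroup.smul_bot] at this
      rwa [hmQ] at this
    have hsup : Q ⊔ L = Q ⊔ MulAut.conj m • L := by
      have := congrArg (fun X => MulAut.conj m • X) hQLT
      simp only [Subgroup.smul_sup] at this
      rw [hmQ, hMT m hm] at this
      rw [this, hQLT]
    obtain ⟨q, hq, hqL⟩ :=
      sz_conj_internal Q L (MulAut.conj m • L) hLM hQL hdK hsup hcopQL (Or.inl hQsolv)
    refine ⟨q, hq, ?_⟩
    apply mem_normalizer_of_conj_smul_eq
    rw [map_mul, mul_smul, ← hqL, ← mul_smul, ← map_mul, inv_mul_cancel, map_one, one_smul]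
  set B : Subgroup G := M ⊓ Subgroup.normalizer (L : Set G) with hB
  have hQB : Q ⊓ B = ⊥ := by
    rw [eq_bot_iff]
    rintro x ⟨hxQ, hxM, hxL⟩
    rw [Subgroup.mem_bot]
    apply hA x hxQ
    intro l hl
    have h1 : x * l * x⁻¹ ∈ L := (Subgroup.mem_normalizer_iff.mp hxL l).mp hl
    have h2 : l * x⁻¹ * l⁻¹ ∈ Q :=
      (Subgroup.mem_normalizer_iff.mp (hLM hl) x⁻¹).mp (Subgroup.inv_mem _ hxQ)
    have h3 : x * l * x⁻¹ * l⁻¹ ∈ Q ⊓ L := by
      refine ⟨?_, Subgroup.mul_mem _ h1 (Subgroup.inv_mem _ hl)⟩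
      have := Subgroup.mul_mem _ hxQ h2
      have e : x * (l * x⁻¹ * l⁻¹) = x * l * x⁻¹ * l⁻¹ := by group
      rwa [e] at this
    rw [hQL, Subgroup.mem_bot] at h3
    calc x * l = (x * l * x⁻¹ * l⁻¹) * (l * x) := by group
      _ = l * x := by rw [h3, one_mul]
  have hQBM : Q ⊔ B = M := by
    apply le_antisymm (sup_le hQM inf_le_left)
    intro m hm
    obtain ⟨q, hq, hqm⟩ := hF m hm
    have : m = q * (q⁻¹ * m) := by group
    rw [this]
    exact Subgroup.mul_mem_sup hq
      ⟨Subgroup.mul_mem _ (Subgroup.inv_mem _ (hQM hq)) hm, hqm⟩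
  have hBN : B ⊓ N ≤ L := by
    rintro x ⟨⟨hxM, hxL⟩, hxN⟩
    have hxT : x ∈ Q ⊔ L := by rw [hQLT]; exact ⟨hxM, hxN⟩
    obtain ⟨q, hq, l, hl, rfl⟩ := mem_sup_normal_left hLM hxT
    have hqB : q ∈ Q ⊓ B := by
      refine ⟨hq, hQM hq, ?_⟩
      have : q = q * l * l⁻¹ := by group
      rw [this]
      exact Subgroup.mul_mem _ hxL (Subgroup.inv_mem _ (Subgroup.le_normalizer hl))
    rw [hQB, Subgroup.mem_bot] at hqB
    rw [hqB, one_mul]; exact hl
  have hcardM : Nat.card M = Nat.card B * Nat.card Q := by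
    have h1 := relIndex_inf_eq_of_le_normalizer B Q (inf_le_left : B ≤ M)
    rw [inf_comm, hQB, Subgroup.relIndex_bot_left, sup_comm, hQBM] at h1
    have h2 := card_mul_relIndex_of_le (inf_le_left : B ≤ M)
    rw [← h1] at h2; exact h2.symm
  have hcardT : Nat.card T = Nat.card Q * Nat.card L := by
    rw [hcardL]; exact (card_mul_relIndex_of_le hQT).symm
  have hTrel : T.relIndex M = p ^ j := by
    rw [← hidx, hT, inf_comm, Subgroup.inf_relIndex_right, ← Subgroup.relIndex_sup_right M N, hMN,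
      Subgroup.relIndex_top_right]
  have hcardB : Nat.card B = Nat.card L * p ^ j := by
    have h1 := card_mul_relIndex_of_le hTM
    rw [hTrel, hcardT, hcardM] at h1
    have hQpos : 0 < Nat.card Q := Nat.card_pos
    have h2 : Nat.card Q * (Nat.card L * p ^ j) = Nat.card Q * Nat.card B := by
      rw [← mul_assoc, h1, mul_comm]
    exact (Nat.eq_of_mul_eq_mul_left hQpos h2).symm
  have hdvd : p ^ j ∣ Nat.card B := by rw [hcardB]; exact Dvd.intro_left _ rfl
  obtain ⟨K', hK'⟩ := Sylow.exists_subgroup_card_pow_prime p hdvd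
  set K : Subgroup G := K'.map B.subtype with hK
  have hcardK : Nat.card K = p ^ j := by
    rw [hK, Subgroup.card_map_of_injective (Subgroup.subtype_injective B)]; exact hK'
  have hKB : K ≤ B := Subgroup.map_subtype_le _
  refine ⟨K, Subgroup.isComplement'_of_card_mul_and_disjoint ?_ ?_⟩
  · rw [hcardK, ← hidx, mul_comm]; exact Subgroup.card_mul_index N
  · rw [disjoint_iff, eq_bot_iff]
    rintro x ⟨hxK, hxN⟩
    have hxL : x ∈ L := hBN ⟨hKB hxK, hxN⟩
    have h1 : orderOf x ∣ p ^ j := hcardK ▸ Subgroup.orderOf_dvd_natCard K hxK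
    have h2 : orderOf x ∣ Nat.card L := Subgroup.orderOf_dvd_natCard L hxL
    have h3 : orderOf x = 1 := Nat.eq_one_of_dvd_coprimes (Nat.Coprime.pow_right j hcopL) h2 h1
    exact orderOf_eq_one_iff.mp h3

/-- If the Sylow p-subgroups of O^p(G) are abelian then G splits over O^p(G). -/
theorem result {G : Type*} [Group G] [Finite G] {p : ℕ} [Fact p.Prime] (h : ∀ Q : Sylow p (Cfsg.pResidual p G), IsMulCommutative Q) : ∃ K : Subgroup G, K.IsComplement' (Cfsg.pResidual p G) := by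
  haveI := pResidual_normal p G
  obtain ⟨j, hj⟩ := pResidual_index (p := p) (N := G)
  let Q' : Sylow p (Cfsg.pResidual p G) := default
  exact splits (Cfsg.pResidual p G) j hj Q' (h Q')
    (fun f n => hom_pResidual_eq_one Q'.isPGroup' f n)

end Cfsg.Agent.S0092
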