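import Cfsg.Statements.S0094
import Cfsg.Agent.Lib.helper3.Class2
import Cfsg.Agent.Lib.helper3.PGroupFrattini

set_option autoImplicit false
open Cfsg

namespace Cfsg.Agent.S0094

open scoped commutatorElement
open Cfsg.Agent.Lib.helper3

/-- In a special p-group every central element has order dividing p. -/
theorem result {P : Type*} [Group P] [Finite P] {p : ℕ} [Fact p.Prime] (h : Cfsg.IsSpecial p P) (z : P) (hz : z ∈ Subgroup.center P) : z ^ p = 1 := by
  obtain ⟨hP, hfr, hcomm⟩ := h
  have hc : CommCentral P := by
    intro x y w
    have h1 : ⁅x, y⁆ ∈ commutator P := by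
      rw [commutator_def]
      exact Subgroup.commutator_mem_commutator (Subgroup.mem_top x) (Subgroup.mem_top y)
    rw [hcomm] at h1
    exact (Subgroup.mem_center_iff.mp h1 w).symm
  rw [← hcomm, commutator_eq_closure] at hz
  have key : ∀ g ∈ Subgroup.closure (commutatorSet P), g ^ p = 1 := by
    intro g hg
    induction hg using Subgroup.closure_induction with
    | mem x hx =>
      obtain ⟨a, b, rfl⟩ := hx
      rw [← commutator_pow_left_class2 hc b a p]
      have h2 : a ^ p ∈ Subgroup.center P := by
        rw [← hfr]; exact pow_prime_mem_frattini hP a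
      rw [commutatorElement_eq_one_iff_mul_comm]
      exact (Subgroup.mem_center_iff.mp h2 b).symm
    | one => exact one_pow p
    | mul x y hx hy ihx ihy =>
      have hxc : x ∈ Subgroup.center P := by
        rw [← hcomm, commutator_eq_closure]; exact hx
      have hcm : Commute x y := (Subgroup.mem_center_iff.mp hxc y).symm
      rw [hcm.mul_pow, ihx, ihy, one_mul]
    | inv x _ ihx => rw [inv_pow, ihx, inv_one]
  exact key z hz

end Cfsg.Agent.S0094
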