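import Cfsg.Statements.S0097
import Cfsg.Agent.Lib.helper3.Class2
import Cfsg.Agent.Lib.helper3.PGroupFrattini

set_option autoImplicit false
open Cfsg

namespace Cfsg.Agent.S0097

open scoped commutatorElement
open Cfsg.Agent.Lib.helper3

/-- For odd p and E extraspecial, the subgroup generated by the elements of order dividing p has exponent dividing p and index at most p. -/
theorem result {E : Type*} [Group E] [Finite E] {p : ℕ} [Fact p.Prime] (hp : p ≠ 2) (h : Cfsg.IsExtraspecial p E) : (Subgroup.closure {x : E | x ^ p = 1}).index ≤ p ∧ ∀ g ∈ Subgroup.closure {x : E | x ^ p = 1}, g ^ p = 1 := by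
  obtain ⟨⟨hP, hfr, hcomm⟩, hcard⟩ := h
  have hpp : p.Prime := Fact.out
  have hcm : ∀ x y : E, ⁅x, y⁆ ∈ Subgroup.center E := by
    intro x y
    rw [← hcomm, commutator_def]
    exact Subgroup.commutator_mem_commutator (Subgroup.mem_top x) (Subgroup.mem_top y)
  have hc : CommCentral E := by
    intro x y w
    exact (Subgroup.mem_center_iff.mp (hcm x y) w).symm
  have hzp : ∀ c ∈ Subgroup.center E, c ^ p = 1 := by
    intro c hc'
    have := pow_card_eq_one' (G := Subgroup.center E) (x := ⟨c, hc'⟩)
    rw [hcard] at this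
    exact congrArg Subtype.val this
  have hmul : ∀ x y : E, (x * y) ^ p = x ^ p * y ^ p := by
    intro x y
    exact mul_pow_prime_class2 hc hpp hp x y (hzp _ (hcm y x))
  have hmem : ∀ x : E, x ^ p ∈ Subgroup.center E := by
    intro x
    rw [← hfr]; exact pow_prime_mem_frattini hP x
  let φ : E →* Subgroup.center E :=
    { toFun := fun x => ⟨x ^ p, hmem x⟩
      map_one' := by ext; simp
      map_mul' := by intro x y; ext; simp [hmul x y] }
  have hker : φ.ker ≤ Subgroup.closure {x : E | x ^ p = 1} := by
    intro x hx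
    apply Subgroup.subset_closure
    have : φ x = 1 := MonoidHom.mem_ker.mp hx
    exact congrArg Subtype.val this
  refine ⟨?_, fun g hg => pow_prime_eq_one_of_mem_closure_class2 hc hpp hp g hg⟩
  have h1 : (Subgroup.closure {x : E | x ^ p = 1}).index ∣ φ.ker.index :=
    Subgroup.index_dvd_of_le hker
  have h2 : φ.ker.index = Nat.card φ.range := Subgroup.index_ker φ
  have h3 : Nat.card φ.range ≤ Nat.card (Subgroup.center E) :=
    Subgroup.card_le_card_group φ.range
  have h4 : φ.ker.index ≠ 0 := Subgroup.index_ne_zero_of_finite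
  calc (Subgroup.closure {x : E | x ^ p = 1}).index ≤ φ.ker.index :=
        Nat.le_of_dvd (Nat.pos_of_ne_zero h4) h1
    _ = Nat.card φ.range := h2
    _ ≤ Nat.card (Subgroup.center E) := h3
    _ = p := hcard

end Cfsg.Agent.S0097
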