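import Cfsg.Statements.S0098
import Cfsg.Agent.Lib.helper3.Extraspecial

set_option autoImplicit false
open Cfsg

namespace Cfsg.Agent.S0098

/-- For odd p, extraspecial p-groups of exponent p are determined up to isomorphism by their order. -/
theorem result {E₁ : Type*} {E₂ : Type*} [Group E₁] [Group E₂] [Finite E₁] [Finite E₂] {p : ℕ} [Fact p.Prime] (hp : p ≠ 2) (h₁ : Cfsg.IsExtraspecial p E₁) (h₂ : Cfsg.IsExtraspecial p E₂) (he₁ : Monoid.exponent E₁ = p) (he₂ : Monoid.exponent E₂ = p) (hc : Nat.card E₁ = Nat.card E₂) : Nonempty (E₁ ≃* E₂) := by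
  have hpP : p.Prime := Fact.out
  obtain ⟨z₁, hz₁⟩ := Cfsg.Agent.Lib.helper3.exists_esdata h₁
  obtain ⟨z₂, hz₂⟩ := Cfsg.Agent.Lib.helper3.exists_esdata h₂
  obtain ⟨k₁, x₁, y₁, hb₁, hg₁, hcard₁⟩ := hz₁.exists_symplectic_basis
  obtain ⟨k₂, x₂, y₂, hb₂, hg₂, hcard₂⟩ := hz₂.exists_symplectic_basis
  have hk : k₁ = k₂ := by
    rw [hcard₁, hcard₂] at hc
    have := Nat.pow_right_injective hpP.two_le hc
    omega
  subst hk
  have e₁ : ∀ g : E₁, g ^ p = 1 := fun g => by rw [← he₁]; exact Monoid.pow_exponent_eq_one g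
  have e₂ : ∀ g : E₂, g ^ p = 1 := fun g => by rw [← he₂]; exact Monoid.pow_exponent_eq_one g
  exact Cfsg.Agent.Lib.helper3.mulEquiv_of_symplectic_basis hpP.pos hz₁.central hz₂.central
    hz₁.pow_p_eq_one hz₂.pow_p_eq_one hb₁ hb₂ hg₁ hg₂ hcard₁ hcard₂
    (fun i => ⟨0, by rw [e₁, pow_zero], by rw [e₂, pow_zero]⟩)
    (fun i => ⟨0, by rw [e₁, pow_zero], by rw [e₂, pow_zero]⟩)

end Cfsg.Agent.S0098
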