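import Cfsg.Statements.S0099
import Cfsg.Agent.Lib.helper3.Extraspecial2

set_option autoImplicit false
open Cfsg

namespace Cfsg.Agent.S0099

/-- Among three extraspecial 2-groups of equal order, some two are isomorphic. -/
theorem result {E₁ : Type*} {E₂ : Type*} {E₃ : Type*} [Group E₁] [Group E₂] [Group E₃] [Finite E₁] [Finite E₂] [Finite E₃] (h₁ : Cfsg.IsExtraspecial 2 E₁) (h₂ : Cfsg.IsExtraspecial 2 E₂) (h₃ : Cfsg.IsExtraspecial 2 E₃) (h12 : Nat.card E₁ = Nat.card E₂) (h23 : Nat.card E₂ = Nat.card E₃) : Nonempty (E₁ ≃* E₂) ∨ Nonempty (E₂ ≃* E₃) ∨ Nonempty (E₁ ≃* E₃) := by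
  obtain ⟨z₁, hz₁⟩ := Cfsg.Agent.Lib.helper3.exists_esdata h₁
  obtain ⟨z₂, hz₂⟩ := Cfsg.Agent.Lib.helper3.exists_esdata h₂
  obtain ⟨z₃, hz₃⟩ := Cfsg.Agent.Lib.helper3.exists_esdata h₃
  obtain ⟨k₁, t₁, ht₁⟩ := hz₁.exists_twoType
  obtain ⟨k₂, t₂, ht₂⟩ := hz₂.exists_twoType
  obtain ⟨k₃, t₃, ht₃⟩ := hz₃.exists_twoType
  have e12 : k₁ = k₂ := by
    have h : 2 ^ (2 * k₁ + 1) = 2 ^ (2 * k₂ + 1) := by
      rw [← ht₁.card_eq, ← ht₂.card_eq, h12]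
    have := Nat.pow_right_injective (le_refl 2) h
    omega
  have e23 : k₂ = k₃ := by
    have h : 2 ^ (2 * k₂ + 1) = 2 ^ (2 * k₃ + 1) := by
      rw [← ht₂.card_eq, ← ht₃.card_eq, h23]
    have := Nat.pow_right_injective (le_refl 2) h
    omega
  subst e12 e23
  have ht : t₁ = t₂ ∨ t₂ = t₃ ∨ t₁ = t₃ := by
    cases t₁ <;> cases t₂ <;> cases t₃ <;> simp
  rcases ht with h | h | h
  · subst h
    exact Or.inl (Cfsg.Agent.Lib.helper3.mulEquiv_of_twoType hz₁ hz₂ ht₁ ht₂)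
  · subst h
    exact Or.inr (Or.inl (Cfsg.Agent.Lib.helper3.mulEquiv_of_twoType hz₂ hz₃ ht₂ ht₃))
  · subst h
    exact Or.inr (Or.inr (Cfsg.Agent.Lib.helper3.mulEquiv_of_twoType hz₁ hz₃ ht₁ ht₃))

end Cfsg.Agent.S0099
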