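import Cfsg.Statements.S0102
import Cfsg.Agent.Lib.helper3.TransferLemmas

set_option autoImplicit false
open Cfsg

namespace Cfsg.Agent.S0102

open Cfsg.Agent.Lib.helper3

theorem ker_inf_sylow_eq_bot {G : Type*} {H : Type*} [Group G] [Group H] [Finite G] [Finite H]
    {p : ℕ} [Fact p.Prime] (hcyc : ∀ P : Sylow p G, IsCyclic P) (σ : H →* G)
    (hz : σ.ker ≤ Subgroup.center H) (hH : commutator H = ⊤) (Q : Sylow p H) :
    σ.ker ⊓ (Q : Subgroup H) = ⊥ := by
  -- a Sylow subgroup of G containing the image of Q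
  obtain ⟨P, hP⟩ := (Q.isPGroup'.map σ).exists_le_sylow
  haveI : IsCyclic (P : Subgroup G) := hcyc P
  have hmem : ∀ x : (Q : Subgroup H), σ.comp (Q : Subgroup H).subtype x ∈ (P : Subgroup G) := by
    intro x
    apply hP
    exact ⟨x.1, x.2, rfl⟩
  let f : (Q : Subgroup H) →* (P : Subgroup G) :=
    MonoidHom.codRestrict (σ.comp (Q : Subgroup H).subtype) (P : Subgroup G) hmem
  have hf : f.ker ≤ Subgroup.center (Q : Subgroup H) := by
    intro x hx
    have h1 : f x = 1 := MonoidHom.mem_ker.mp hx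
    have h2 : σ (x : H) = 1 := by
      have := congrArg Subtype.val h1
      simpa [f] using this
    have h3 : (x : H) ∈ Subgroup.center H := hz (MonoidHom.mem_ker.mpr h2)
    rw [Subgroup.mem_center_iff]
    intro y
    ext
    simp only [Subgroup.coe_mul]
    exact Subgroup.mem_center_iff.mp h3 (y : H)
  haveI : IsMulCommutative (Q : Subgroup H) := f.isMulCommutative_of_isCyclic_of_ker_le_center hf
  rw [eq_bot_iff]
  rintro z ⟨hzk, hzQ⟩
  rw [Subgroup.mem_bot]
  have hz' : z ∈ commutator H := by rw [hH]; exact Subgroup.mem_top z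
  exact eq_one_of_mem_abelian_hall_of_mem_center_of_mem_commutator (Q : Subgroup H)
    Q.card_coprime_index z hzQ (hz hzk) hz'

/-- A finite perfect group with cyclic Sylow p-subgroups has no perfect central extension whose kernel has order divisible by p. -/
theorem result {G : Type*} {H : Type*} [Group G] [Group H] [Finite G] [Finite H] (hG : commutator G = ⊤) {p : ℕ} [Fact p.Prime] (hcyc : ∀ P : Sylow p G, IsCyclic P) (σ : H →* G) (hσ : Function.Surjective σ) (hz : σ.ker ≤ Subgroup.center H) (hH : commutator H = ⊤) : ¬ p ∣ Nat.card σ.ker := by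
  intro hdvd
  obtain ⟨x, hx⟩ := exists_prime_orderOf_dvd_card' p hdvd
  have hx' : orderOf (x : H) = p := by
    rw [← hx]; exact Subgroup.orderOf_coe x
  have hpg : IsPGroup p (Subgroup.zpowers (x : H)) := by
    apply IsPGroup.of_card (n := 1)
    rw [Nat.card_zpowers, hx', pow_one]
  obtain ⟨Q, hQ⟩ := hpg.exists_le_sylow
  have h1 : (x : H) ∈ σ.ker ⊓ (Q : Subgroup H) := ⟨x.2, hQ (Subgroup.mem_zpowers _)⟩
  rw [ker_inf_sylow_eq_bot hcyc σ hz hH Q, Subgroup.mem_bot] at h1
  rw [h1, orderOf_one] at hx'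
  exact (Fact.out : p.Prime).one_lt.ne hx'

end Cfsg.Agent.S0102
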