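import Cfsg.Statements.S0104

set_option autoImplicit false
open Cfsg

namespace Cfsg.Agent.S0104

open scoped Pointwise

theorem map_conj_eq_iff {G : Type*} [Group G] (Z : Subgroup G) (g : G) :
    Z.map (MulAut.conj g).toMonoidHom = Z ↔ g ∈ Subgroup.normalizer (Z : Set G) := by
  rw [Subgroup.mem_normalizer_iff_map_conj_eq]
  rfl

theorem mem_map_conj_iff {G : Type*} [Group G] (Z : Subgroup G) (g x : G) :
    x ∈ Z.map (MulAut.conj g).toMonoidHom ↔ g⁻¹ * x * g ∈ Z := by
  constructor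
  · rintro ⟨z, hz, rfl⟩
    simp only [MulEquiv.toMonoidHom_eq_coe, MonoidHom.coe_coe, MulAut.conj_apply]
    have : g⁻¹ * (g * z * g⁻¹) * g = z := by group
    rw [this]; exact hz
  · intro h
    refine ⟨g⁻¹ * x * g, h, ?_⟩
    simp only [MulEquiv.toMonoidHom_eq_coe, MonoidHom.coe_coe, MulAut.conj_apply]
    group

theorem mem_smul_sylow_iff {G : Type*} [Group G] {p : ℕ} (P : Sylow p G) (g x : G) :
    x ∈ (g • P : Sylow p G) ↔ g⁻¹ * x * g ∈ P := by
  have : x ∈ (g • P : Sylow p G) ↔ x ∈ (P : Subgroup G).map (MulAut.conj g).toMonoidHom := by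
    change x ∈ ((g • P : Sylow p G) : Subgroup G) ↔ _
    rw [Sylow.coe_subgroup_smul, Subgroup.pointwise_smul_def]
    rfl
  rw [this, mem_map_conj_iff]
  rfl

/-- A subgroup Z of a Sylow p-subgroup P that is normalized by N_G(P) is weakly closed in P exactly when it is normal in every Sylow p-subgroup containing it. -/
theorem result {G : Type*} [Group G] [Finite G] {p : ℕ} [Fact p.Prime] (P : Sylow p G) (Z : Subgroup G) (hZP : Z ≤ (P : Subgroup G)) (hZN : Subgroup.normalizer (P : Set G) ≤ Subgroup.normalizer (Z : Set G)) : Cfsg.IsWeaklyClosed Z P ↔ ∀ R : Sylow p G, Z ≤ (R : Subgroup G) → (R : Subgroup G) ≤ Subgroup.normalizer (Z : Set G) := by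
  have hPN : (P : Subgroup G) ≤ Subgroup.normalizer (Z : Set G) :=
    le_trans (Subgroup.le_normalizer (H := (P : Subgroup G))) hZN
  constructor
  · rintro ⟨-, hwc⟩ R hZR
    obtain ⟨g, rfl⟩ := MulAction.exists_smul_eq G P R
    -- Z ≤ g • P, so g⁻¹ Z g ≤ P
    have h1 : Z.map (MulAut.conj g⁻¹).toMonoidHom ≤ (P : Subgroup G) := by
      intro x hx
      rw [mem_map_conj_iff] at hx
      have := hZR hx
      have h2 : g⁻¹⁻¹ * x * g⁻¹ ∈ (g • P : Sylow p G) := this
      rw [mem_smul_sylow_iff] at h2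
      have e : g⁻¹ * (g⁻¹⁻¹ * x * g⁻¹) * g = x := by group
      rw [e] at h2
      exact h2
    have h2 := hwc g⁻¹ h1
    rw [map_conj_eq_iff] at h2
    have hg : g ∈ Subgroup.normalizer (Z : Set G) := by
      have := Subgroup.inv_mem _ h2
      simpa using this
    intro r hr
    have hr' : r ∈ (g • P : Sylow p G) := hr
    rw [mem_smul_sylow_iff] at hr'
    have h3 : g⁻¹ * r * g ∈ Subgroup.normalizer (Z : Set G) := hPN hr'
    have e : r = g * (g⁻¹ * r * g) * g⁻¹ := by group
    rw [e]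
    exact Subgroup.mul_mem _ (Subgroup.mul_mem _ hg h3) (Subgroup.inv_mem _ hg)
  · intro hR
    refine ⟨hZP, ?_⟩
    intro g hg
    rw [map_conj_eq_iff]
    -- Z ≤ g⁻¹ • P
    have hZR : Z ≤ ((g⁻¹ • P : Sylow p G) : Subgroup G) := by
      intro z hz
      have : z ∈ (g⁻¹ • P : Sylow p G) := by
        rw [mem_smul_sylow_iff]
        apply hg
        rw [mem_map_conj_iff]
        have e : g⁻¹ * (g⁻¹⁻¹ * z * g⁻¹) * g = z := by group
        rw [e]; exact hz
      exact this
    have hRN := hR (g⁻¹ • P) hZR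
    -- Sylow subgroups of N(Z)
    obtain ⟨m, hm⟩ := MulAction.exists_smul_eq (Subgroup.normalizer (Z : Set G))
      (P.subtype hPN) ((g⁻¹ • P : Sylow p G).subtype hRN)
    rw [Sylow.smul_subtype] at hm
    have hm' := Sylow.subtype_injective hm
    -- (m : G) • P = g⁻¹ • P
    have hm'' : (g * (m : G)) • P = P := by
      rw [mul_smul]
      have : (m : G) • P = g⁻¹ • P := hm'
      rw [this, smul_inv_smul]
    rw [Sylow.smul_eq_iff_mem_normalizer] at hm''
    have h4 : g * (m : G) ∈ Subgroup.normalizer (Z : Set G) := hZN hm''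
    have e : g = g * (m : G) * (m : G)⁻¹ := by group
    rw [e]
    exact Subgroup.mul_mem _ h4 (Subgroup.inv_mem _ m.2)

end Cfsg.Agent.S0104
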