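import Cfsg.Statements.S0105
import Cfsg.Agent.Lib.helper3.TransferCentral

set_option autoImplicit false
open Cfsg

namespace Cfsg.Agent.S0105

open Cfsg.Agent.Lib.helper3
open scoped IsMulCommutative

/-- With an abelian Sylow p-subgroup P, some quotient of G is isomorphic to the part of P central in N_G(P). -/
theorem result {G : Type*} [Group G] [Finite G] {p : ℕ} [Fact p.Prime] (P : Sylow p G) (hP : IsMulCommutative P) : ∃ (N : Subgroup G) (hN : N.Normal), Nonempty (G ⧸ N ≃* ((P : Subgroup G) ⊓ Subgroup.centralizer (Subgroup.normalizer (P : Set G) : Set G) : Subgroup G)) := by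
  haveI hP' : IsMulCommutative (P : Subgroup G) := hP
  set Z₀ := (P : Subgroup G) ⊓ Subgroup.centralizer (Subgroup.normalizer (P : Set G) : Set G)
    with hZ₀
  let V : G →* (P : Subgroup G) := MonoidHom.transfer (MonoidHom.id (P : Subgroup G))
  have hV : ∀ g, ((P : Subgroup G).subtype.comp V) g ∈ Z₀ := fun g =>
    ⟨(V g).2, transfer_id_mem_centralizer_normalizer (P : Subgroup G) g⟩
  let f : G →* Z₀ := MonoidHom.codRestrict ((P : Subgroup G).subtype.comp V) Z₀ hV
  have hpow : ∀ z ∈ Z₀, ((V z : (P : Subgroup G)) : G) = z ^ (P : Subgroup G).index := by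
    intro z hz
    have key : ∀ (k : ℕ) (g₀ : G), g₀⁻¹ * z ^ k * g₀ ∈ (P : Subgroup G) →
        g₀⁻¹ * z ^ k * g₀ = z ^ k := by
      intro k g₀ hk
      have hzk : z ^ k ∈ Z₀ := Subgroup.pow_mem _ hz k
      obtain ⟨n, hn, hn'⟩ := P.conj_eq_normalizer_conj_of_mem (z ^ k) g₀ hzk.1 hk
      rw [hn']
      have := (Subgroup.mem_centralizer_iff.mp hzk.2) n hn
      rw [mul_assoc, ← this, inv_mul_cancel_left]
    have := MonoidHom.transfer_eq_pow (MonoidHom.id (P : Subgroup G)) z key
    exact congrArg Subtype.val this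
  have hsurj : Function.Surjective f := by
    intro z
    have hZp : IsPGroup p Z₀ := P.isPGroup'.to_le inf_le_left
    obtain ⟨w, hw⟩ := (hZp.powEquiv' P.not_dvd_index).surjective z
    refine ⟨(w : G), ?_⟩
    apply Subtype.ext
    have h1 : ((f (w : G) : Z₀) : G) = ((V (w : G) : (P : Subgroup G)) : G) := rfl
    rw [h1, hpow w w.2, ← hw]
    rfl
  exact ⟨f.ker, inferInstance, ⟨QuotientGroup.quotientKerEquivOfSurjective f hsurj⟩⟩

end Cfsg.Agent.S0105
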