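import Cfsg.Statements.S0106
import Cfsg.Agent.S0071
import Cfsg.Agent.Lib.helper3.QuatSylow

set_option autoImplicit false
open Cfsg

namespace Cfsg.Agent.S0106

/-- A finite group with generalized quaternion Sylow 2-subgroups either has a normal 2-complement or has a section isomorphic to SL(2,3). -/
theorem result {G : Type*} [Group G] [Finite G] (T : Sylow 2 G) (n : ℕ) (hn : 1 ≤ n) (hT : Nonempty ((T : Subgroup G) ≃* QuaternionGroup (2 ^ n))) : Cfsg.HasNormalPComplement 2 G ∨ ∃ (H K : Subgroup G) (hK : (K.subgroupOf H).Normal), Nonempty ((H ⧸ K.subgroupOf H) ≃* Matrix.SpecialLinearGroup (Fin 2) (ZMod 3)) := by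
  classical
  have hn0 : (2 : ℕ) ^ n ≠ 0 := pow_ne_zero _ (by norm_num)
  obtain ⟨e⟩ := hT
  have hinv : ∀ x ∈ (T : Subgroup G), ∀ y ∈ (T : Subgroup G), x ^ 2 = 1 → x ≠ 1 → y ^ 2 = 1 →
      y ≠ 1 → x = y := by
    intro x hx y hy hx2 hx1 hy2 hy1
    have h1 := Cfsg.Agent.Lib.helper3.quaternion_involution hn0 (e ⟨x, hx⟩)
      (by rw [← map_pow]
          have : (⟨x, hx⟩ : (T : Subgroup G)) ^ 2 = 1 := Subtype.ext (by push_cast; exact hx2)
          rw [this, map_one])
      (fun h => hx1 (congrArg Subtype.val (e.injective (h.trans (map_one e).symm))))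
    have h2 := Cfsg.Agent.Lib.helper3.quaternion_involution hn0 (e ⟨y, hy⟩)
      (by rw [← map_pow]
          have : (⟨y, hy⟩ : (T : Subgroup G)) ^ 2 = 1 := Subtype.ext (by push_cast; exact hy2)
          rw [this, map_one])
      (fun h => hy1 (congrArg Subtype.val (e.injective (h.trans (map_one e).symm))))
    exact congrArg Subtype.val (e.injective (h1.trans h2.symm))
  by_cases hcomp : ∃ N : Subgroup G, N.Normal ∧ N.IsComplement' (T : Subgroup G)
  · left
    obtain ⟨N, hN, hc⟩ := hcomp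
    exact ⟨T, N, hN, hc⟩
  · right
    rw [Cfsg.Agent.S0071.result T] at hcomp
    push Not at hcomp
    obtain ⟨Q, hQT, g, hgN, hcop, hgC⟩ := hcomp
    exact Cfsg.Agent.Lib.helper3.sl23_section_of_quaternion (T : Subgroup G) T.isPGroup' hinv Q
      hQT g hgN hcop hgC

end Cfsg.Agent.S0106
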