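import Cfsg.Statements.S0107
import Cfsg.Agent.S0111
import Cfsg.Agent.Lib.helper39.Conj
import Cfsg.Agent.Lib.helper59.TwoGroups

set_option autoImplicit false
open Cfsg

namespace Cfsg.Agent.S0107

/-- A finite group with no nontrivial 2-group quotient and dihedral Sylow 2-subgroups of order at least 8 has a single class of involutions. -/
theorem result {G : Type*} [Group G] [Finite G] (T : Sylow 2 G) (n : ℕ) (hn : 2 ≤ n) (hT : Nonempty ((T : Subgroup G) ≃* DihedralGroup (2 ^ n))) (hO : Cfsg.pResidual 2 G = ⊤) (x y : G) (hx : orderOf x = 2) (hy : orderOf y = 2) : ∃ g : G, g * x * g⁻¹ = y := by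
  have : Fact (Nat.Prime 2) := ⟨Nat.prime_two⟩
  -- no normal subgroup of index two
  have hnoM : ¬ ∃ M : Subgroup G, M.Normal ∧ M.index = 2 := by
    rintro ⟨M, hMn, hMi⟩
    have hle : Cfsg.pResidual 2 G ≤ M := by
      unfold Cfsg.pResidual
      rw [Subgroup.closure_le]
      intro g hg
      have hg' : Nat.Coprime (orderOf g) 2 := hg
      have hcard : Nat.card (G ⧸ M) = 2 := by rw [← Subgroup.index_eq_card, hMi]
      have h1 : (QuotientGroup.mk g : G ⧸ M) ^ 2 = 1 := by
        rw [← hcard]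
        exact pow_card_eq_one'
      have h2 : (QuotientGroup.mk g : G ⧸ M) ^ orderOf g = 1 := by
        rw [← QuotientGroup.mk_pow, pow_orderOf_eq_one]
        rfl
      have h3 : orderOf (QuotientGroup.mk g : G ⧸ M) ∣ Nat.gcd (orderOf g) 2 :=
        Nat.dvd_gcd (orderOf_dvd_of_pow_eq_one h2) (orderOf_dvd_of_pow_eq_one h1)
      rw [hg'.gcd_eq_one, Nat.dvd_one, orderOf_eq_one_iff] at h3
      exact (QuotientGroup.eq_one_iff g).mp h3
    rw [hO, top_le_iff] at hle
    rw [hle, Subgroup.index_top] at hMi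
    omega
  obtain ⟨e⟩ := hT
  -- the rotation
  set c' : (T : Subgroup G) := e.symm (DihedralGroup.r 1) with hc'
  have hc'ord : orderOf c' = 2 ^ n := by
    rw [hc', MulEquiv.orderOf_eq, DihedralGroup.orderOf_r_one]
  set c : G := (c' : G) with hcdef
  have hcord : orderOf c = 2 ^ n := by
    rw [hcdef, Subgroup.orderOf_coe, hc'ord]
  have hcT : c ∈ (T : Subgroup G) := c'.2
  have hQT : Subgroup.zpowers c ≤ (T : Subgroup G) := by
    rw [Subgroup.zpowers_le]; exact hcT
  have hTcard : Nat.card (T : Subgroup G) = 2 * 2 ^ n := by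
    rw [Nat.card_congr e.toEquiv, DihedralGroup.nat_card]
  have hQi : (Subgroup.zpowers c).relIndex (T : Subgroup G) = 2 := by
    have h1 := Subgroup.relIndex_mul_relIndex ⊥ (Subgroup.zpowers c) (T : Subgroup G) bot_le hQT
    rw [Subgroup.relIndex_bot_left, Subgroup.relIndex_bot_left] at h1
    rw [Nat.card_zpowers, hcord, hTcard] at h1
    have h3 : 0 < 2 ^ n := by positivity
    nlinarith
  have hcord2 : orderOf c = 2 * 2 ^ (n - 1) := by
    rw [hcord, ← pow_succ']
    congr 1
    omega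
  -- every involution of `T` is conjugate to the central involution
  have key : ∀ u : G, orderOf u = 2 → u ∈ (T : Subgroup G) →
      ∃ g : G, g * u * g⁻¹ = c ^ (2 ^ (n - 1)) := by
    intro u hu huT
    have inQ : ∀ v : G, orderOf v = 2 → v ∈ Subgroup.zpowers c → v = c ^ (2 ^ (n - 1)) := by
      intro v hv hvQ
      have hv2 : v ^ 2 = 1 := by rw [← hv]; exact pow_orderOf_eq_one v
      rcases Cfsg.Agent.Lib.helper59.eq_one_or_eq_pow_of_sq_eq_one hcord2 hvQ hv2 with h | h
      · rw [h, orderOf_one] at hv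
        omega
      · exact h
    by_cases huQ : u ∈ Subgroup.zpowers c
    · exact ⟨1, by rw [one_mul, inv_one, mul_one]; exact inQ u hu huQ⟩
    · rcases Cfsg.Agent.S0111.result T (Subgroup.zpowers c) hQT hQi u hu huT huQ with
        ⟨M, hMn, hMi, -⟩ | ⟨g, hg⟩
      · exact absurd ⟨M, hMn, hMi⟩ hnoM
      · refine ⟨g, inQ _ ?_ hg⟩
        have : g * u * g⁻¹ = MulAut.conj g u := by simp [MulAut.conj_apply]
        rw [this, MulEquiv.orderOf_eq, hu]
  -- every involution of `G` is conjugate into `T`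
  have key2 : ∀ u : G, orderOf u = 2 → ∃ g : G, g * u * g⁻¹ = c ^ (2 ^ (n - 1)) := by
    intro u hu
    have hPu : IsPGroup 2 (Subgroup.zpowers u) := by
      apply IsPGroup.of_card (n := 1)
      rw [Nat.card_zpowers, hu, pow_one]
    obtain ⟨h, -, hle⟩ := (Cfsg.Agent.Lib.helper39.sylow_isSylIn_top T).exists_cj_le hPu le_top
    have h1 : h * u * h⁻¹ ∈ (T : Subgroup G) :=
      hle (Cfsg.Agent.Lib.helper39.conj_mem_cj.mpr (Subgroup.mem_zpowers u))
    have h2 : orderOf (h * u * h⁻¹) = 2 := by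
      have : h * u * h⁻¹ = MulAut.conj h u := by simp [MulAut.conj_apply]
      rw [this, MulEquiv.orderOf_eq, hu]
    obtain ⟨g, hg⟩ := key _ h2 h1
    refine ⟨g * h, ?_⟩
    rw [← hg]
    group
  obtain ⟨g1, hg1⟩ := key2 x hx
  obtain ⟨g2, hg2⟩ := key2 y hy
  refine ⟨g2⁻¹ * g1, ?_⟩
  have : g2⁻¹ * g1 * x * (g2⁻¹ * g1)⁻¹ = g2⁻¹ * (g1 * x * g1⁻¹) * g2 := by group
  rw [this, hg1, ← hg2]
  group

end Cfsg.Agent.S0107
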