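import Cfsg.Statements.S0110
import Cfsg.Agent.Lib.helper3.SylowLemmas
import Cfsg.Agent.Lib.helper3.PGroupNormal
-- import your own Cfsg.Agent.* helpers here

set_option autoImplicit false
open Cfsg

namespace Cfsg.Agent.S0110

open Cfsg.Agent.Lib.helper3
open scoped commutatorElement

theorem card_lt_of_lt {G : Type*} [Group G] [Finite G] {H K : Subgroup G} (h : H < K) :
    Nat.card H < Nat.card K := by
  by_contra hc
  exact h.ne (Subgroup.eq_of_le_of_card_ge h.le (not_lt.mp hc))

/-- The general form: `E` with centre of order `p` and `[G, E] ≤ Z(E)`. -/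
theorem main {G : Type*} [Group G] [Finite G] {p : ℕ} [Fact p.Prime] (hG : IsPGroup p G)
    (E : Subgroup G)
    (hZcard : Nat.card (E ⊓ Subgroup.centralizer (E : Set G) : Subgroup G) = p)
    (h : ⁅(⊤ : Subgroup G), E⁆ ≤ E ⊓ Subgroup.centralizer (E : Set G)) :
    E ⊔ Subgroup.centralizer (E : Set G) = ⊤ := by
  have hp : p.Prime := Fact.out
  have hcomm : ∀ g : G, ∀ e ∈ E, ⁅g, e⁆ ∈ E ⊓ Subgroup.centralizer (E : Set G) :=
    fun g e he => h (Subgroup.commutator_mem_commutator (Subgroup.mem_top g) he)
  have hEconj : ∀ g : G, ∀ e ∈ E, g * e * g⁻¹ ∈ E := by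
    intro g e he
    have e1 : g * e * g⁻¹ = ⁅g, e⁆ * e := by rw [commutatorElement_def]; group
    rw [e1]
    exact E.mul_mem (hcomm g e he).1 he
  have hZn : (E ⊓ Subgroup.centralizer (E : Set G)).Normal := by
    refine ⟨fun z hz g => ⟨hEconj g z hz.1, ?_⟩⟩
    refine Subgroup.mem_centralizer_iff.mpr ?_
    intro e he
    have h1 : g⁻¹ * e * g ∈ E := by
      have := hEconj g⁻¹ e he
      rwa [inv_inv] at this
    have h2 := (Subgroup.mem_centralizer_iff.mp hz.2) _ h1
    calc e * (g * z * g⁻¹) = g * ((g⁻¹ * e * g) * z) * g⁻¹ := by group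
      _ = g * (z * (g⁻¹ * e * g)) * g⁻¹ := by rw [h2]
      _ = g * z * g⁻¹ * e := by group
  -- the centre of `E` is central in `G`
  have hZc : E ⊓ Subgroup.centralizer (E : Set G) ≤ Subgroup.center G := by
    have hne : E ⊓ Subgroup.centralizer (E : Set G) ≠ ⊥ := by
      intro hbot
      rw [hbot, Subgroup.card_bot] at hZcard
      exact hp.one_lt.ne hZcard
    obtain ⟨z, hzZ, hzc, hz1, -⟩ := exists_central_of_normal_ne_bot hG _ hne
    have hne' : (⟨z, hzZ⟩ : (E ⊓ Subgroup.centralizer (E : Set G) : Subgroup G)) ≠ 1 := by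
      intro h1
      exact hz1 (congrArg Subtype.val h1)
    have h1 := zpowers_eq_top_of_prime_card hZcard hne'
    intro w hw
    have h2 : (⟨w, hw⟩ : (E ⊓ Subgroup.centralizer (E : Set G) : Subgroup G)) ∈
        Subgroup.zpowers (⟨z, hzZ⟩ : (E ⊓ Subgroup.centralizer (E : Set G) : Subgroup G)) := by
      rw [h1]; exact Subgroup.mem_top _
    obtain ⟨k, hk⟩ := Subgroup.mem_zpowers_iff.mp h2
    have h3 : z ^ k = w := congrArg Subtype.val hk
    rw [← h3]
    exact (Subgroup.center G).zpow_mem hzc k
  have hcen : ∀ (g e : G), e ∈ E → ∀ x : G, ⁅g, e⁆ * x = x * ⁅g, e⁆ := by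
    intro g e he x
    exact ((Subgroup.mem_center_iff.mp (hZc (hcomm g e he))) x).symm
  -- the step
  have step : ∀ (M : Subgroup G) (e : G), e ∈ E →
      Nat.card M ≤ p * Nat.card (M ⊓ Subgroup.centralizer {e} : Subgroup G) := by
    intro M e he
    let φ : M →* (E ⊓ Subgroup.centralizer (E : Set G) : Subgroup G) :=
      { toFun := fun g => ⟨⁅(g : G), e⁆, hcomm g e he⟩
        map_one' := by
          apply Subtype.ext
          show ⁅(1 : G), e⁆ = 1
          exact commutatorElement_one_left e
        map_mul' := fun a b => by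
          apply Subtype.ext
          show ⁅(a : G) * (b : G), e⁆ = ⁅(a : G), e⁆ * ⁅(b : G), e⁆
          have e1 : ⁅(a : G) * (b : G), e⁆ = (a : G) * ⁅(b : G), e⁆ * (a : G)⁻¹ * ⁅(a : G), e⁆ := by
            simp only [commutatorElement_def]; group
          rw [e1, ← hcen (b : G) e he (a : G), mul_inv_cancel_right, hcen (b : G) e he] }
    have hφ : ∀ g : M, ((φ g : (E ⊓ Subgroup.centralizer (E : Set G) : Subgroup G)) : G) =
        ⁅(g : G), e⁆ := fun g => rfl
    have hker : φ.ker = (M ⊓ Subgroup.centralizer {e}).subgroupOf M := by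
      ext g
      rw [MonoidHom.mem_ker, Subgroup.mem_subgroupOf, Subgroup.mem_inf,
        Subgroup.mem_centralizer_singleton_iff]
      constructor
      · intro h1
        have h2 : ⁅(g : G), e⁆ = 1 := by rw [← hφ, h1]; rfl
        exact ⟨g.2, commutatorElement_eq_one_iff_mul_comm.mp h2⟩
      · rintro ⟨-, h1⟩
        apply Subtype.ext
        rw [hφ]
        exact commutatorElement_eq_one_iff_mul_comm.mpr h1
    have h1 := Subgroup.card_mul_index φ.ker
    rw [Subgroup.index_ker, hker] at h1
    have h2 : Nat.card ((M ⊓ Subgroup.centralizer {e}).subgroupOf M) =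
        Nat.card (M ⊓ Subgroup.centralizer {e} : Subgroup G) :=
      Nat.card_congr (Subgroup.subgroupOfEquivOfLe inf_le_left).toEquiv
    have h3 : Nat.card φ.range ≤ p := by
      rw [← hZcard]
      exact Subgroup.card_le_card_group _
    rw [h2] at h1
    rw [← h1, mul_comm]
    exact Nat.mul_le_mul_right _ h3
  -- the induction
  have key : ∀ (m : ℕ) (K : Subgroup G), Nat.card K = m →
      E ⊓ Subgroup.centralizer (E : Set G) ≤ K → K ≤ E →
      Nat.card G * p ≤ Nat.card K * Nat.card (Subgroup.centralizer (K : Set G)) := by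
    intro m
    induction m using Nat.strong_induction_on with
    | _ m ih =>
    intro K hKm hZK hKE
    by_cases hKZ : K = E ⊓ Subgroup.centralizer (E : Set G)
    · have h1 : Subgroup.centralizer (K : Set G) = ⊤ := by
        rw [Subgroup.centralizer_eq_top_iff_subset, hKZ]
        exact hZc
      rw [h1, Subgroup.card_top, hKZ, hZcard, mul_comm]
    · have hlt : E ⊓ Subgroup.centralizer (E : Set G) < K := lt_of_le_of_ne hZK (Ne.symm hKZ)
      obtain ⟨K₀, ⟨hZK₀, hK₀K⟩, hmax⟩ :=
        (Set.toFinite {K₀ : Subgroup G | E ⊓ Subgroup.centralizer (E : Set G) ≤ K₀ ∧ K₀ < K}).exists_maximal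
          ⟨_, le_rfl, hlt⟩
      obtain ⟨e, heK, heK₀⟩ := SetLike.exists_of_lt hK₀K
      have hsup : K₀ ⊔ Subgroup.zpowers e = K := by
        have hle : K₀ ⊔ Subgroup.zpowers e ≤ K :=
          sup_le hK₀K.le (by rw [Subgroup.zpowers_le]; exact heK)
        by_contra hne
        have h1 := hmax (show E ⊓ Subgroup.centralizer (E : Set G) ≤ K₀ ⊔ Subgroup.zpowers e ∧
          K₀ ⊔ Subgroup.zpowers e < K from ⟨hZK₀.trans le_sup_left, lt_of_le_of_ne hle hne⟩)
          le_sup_left
        exact heK₀ (h1 ((le_sup_right : Subgroup.zpowers e ≤ _) (Subgroup.mem_zpowers e)))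
      have hcard := card_lt_of_lt hK₀K
      have hIH := ih (Nat.card K₀) (hKm ▸ hcard) K₀ rfl hZK₀ (hK₀K.le.trans hKE)
      have hstep := step (Subgroup.centralizer (K₀ : Set G)) e (hKE heK)
      have hle : Subgroup.centralizer (K₀ : Set G) ⊓ Subgroup.centralizer {e} ≤
          Subgroup.centralizer (K : Set G) := by
        intro g hg
        have h1 : K₀ ⊔ Subgroup.zpowers e ≤ Subgroup.centralizer {g} := by
          refine sup_le ?_ ?_
          · intro k hk
            rw [Subgroup.mem_centralizer_singleton_iff]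
            exact (Subgroup.mem_centralizer_iff.mp hg.1) k hk
          · rw [Subgroup.zpowers_le, Subgroup.mem_centralizer_singleton_iff]
            exact (Subgroup.mem_centralizer_singleton_iff.mp hg.2).symm
        rw [Subgroup.mem_centralizer_iff]
        intro k hk
        have h2 : k ∈ Subgroup.centralizer ({g} : Set G) := h1 (by rw [hsup]; exact hk)
        exact Subgroup.mem_centralizer_singleton_iff.mp h2
      have hc2 := Subgroup.card_le_of_le hle
      -- card K₀ * p ≤ card K
      have hmul : Nat.card K₀ * p ≤ Nat.card K := by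
        obtain ⟨a, ha⟩ := IsPGroup.iff_card.mp (hG.to_subgroup K₀)
        obtain ⟨b, hb⟩ := IsPGroup.iff_card.mp (hG.to_subgroup K)
        rw [ha, hb] at hcard ⊢
        have hab : a < b := (Nat.pow_lt_pow_iff_right hp.one_lt).mp hcard
        rw [← pow_succ]
        exact Nat.pow_le_pow_right hp.pos hab
      calc Nat.card G * p ≤ Nat.card K₀ * Nat.card (Subgroup.centralizer (K₀ : Set G)) := hIH
        _ ≤ Nat.card K₀ * (p * Nat.card (Subgroup.centralizer (K₀ : Set G) ⊓
              Subgroup.centralizer {e} : Subgroup G)) := Nat.mul_le_mul_left _ hstep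
        _ ≤ Nat.card K₀ * (p * Nat.card (Subgroup.centralizer (K : Set G))) :=
            Nat.mul_le_mul_left _ (Nat.mul_le_mul_left _ hc2)
        _ = (Nat.card K₀ * p) * Nat.card (Subgroup.centralizer (K : Set G)) := by ring
        _ ≤ Nat.card K * Nat.card (Subgroup.centralizer (K : Set G)) :=
            Nat.mul_le_mul_right _ hmul
  have hfin := key (Nat.card E) E rfl inf_le_left le_rfl
  -- the order of the product
  have hEN : E ≤ Subgroup.normalizer (Subgroup.centralizer (E : Set G) : Set G) :=
    Subgroup.le_normalizer.trans (normalizer_le_normalizer_centralizer E)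
  have hr := relIndex_inf_eq_of_le_normalizer E (Subgroup.centralizer (E : Set G)) hEN
  have c1 := card_mul_relIndex_of_le
    (inf_le_right : E ⊓ Subgroup.centralizer (E : Set G) ≤ Subgroup.centralizer (E : Set G))
  have c2 := card_mul_relIndex_of_le
    (le_sup_left : E ≤ E ⊔ Subgroup.centralizer (E : Set G))
  rw [hZcard, hr] at c1
  have hprod : Nat.card (E ⊔ Subgroup.centralizer (E : Set G) : Subgroup G) * p =
      Nat.card E * Nat.card (Subgroup.centralizer (E : Set G)) := by
    rw [← c2, ← c1]
    ring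
  rw [← hprod] at hfin
  have hle := Nat.le_of_mul_le_mul_right hfin hp.pos
  exact (Subgroup.eq_of_le_of_card_ge le_top (by rw [Subgroup.card_top]; exact hle))

/-- In a p-group G, an extraspecial subgroup E with [G, E] ≤ Z(E) satisfies G = E C_G(E). -/
theorem result {G : Type*} [Group G] [Finite G] {p : ℕ} [Fact p.Prime] (hG : IsPGroup p G) (E : Subgroup G) (hE : Cfsg.IsExtraspecial p E) (h : ⁅(⊤ : Subgroup G), E⁆ ≤ E ⊓ Subgroup.centralizer (E : Set G)) : E ⊔ Subgroup.centralizer (E : Set G) = ⊤ := by
  apply main hG E _ h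
  have hmap : E ⊓ Subgroup.centralizer (E : Set G) = (Subgroup.center E).map E.subtype := by
    ext x
    constructor
    · rintro ⟨hxE, hxC⟩
      refine ⟨⟨x, hxE⟩, ?_, rfl⟩
      refine Subgroup.mem_center_iff.mpr ?_
      intro e
      apply Subtype.ext
      exact (Subgroup.mem_centralizer_iff.mp hxC) e e.2
    · rintro ⟨y, hy, rfl⟩
      refine ⟨y.2, ?_⟩
      refine Subgroup.mem_centralizer_iff.mpr ?_
      intro e he
      have := (Subgroup.mem_center_iff.mp hy) ⟨e, he⟩
      exact congrArg Subtype.val this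
  rw [hmap, Subgroup.card_map_of_injective E.subtype_injective]
  exact hE.2

end Cfsg.Agent.S0110
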