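import Cfsg.Statements.S0114
import Cfsg.Agent.S0115
import Cfsg.Agent.S0113
import Cfsg.Agent.S0646
import Cfsg.Agent.S0127
import Cfsg.Agent.Lib.helper59.TwoGroups

set_option autoImplicit false
open Cfsg
open scoped commutatorElement

namespace Cfsg.Agent.S0114

/-- The central quotient of a 2-group of maximal class is dihedral. -/
theorem result {X : Type*} [Group X] [Finite X] (n : ℕ) (hn : 3 ≤ n) (hX : Nat.card X = 2 ^ n) (hc : Group.nilpotencyClass X = n - 1) : Nonempty (X ⧸ Subgroup.center X ≃* DihedralGroup (2 ^ (n - 2))) := by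
  have hP : IsPGroup 2 X := IsPGroup.of_card hX
  have hnil : Group.IsNilpotent X := hP.isNilpotent
  have hidx4 := Cfsg.Agent.S0115.index_commutator_of_maxClass n hn hX hc
  have hcardX' : Nat.card (commutator X) = 2 ^ (n - 2) := by
    have h2 := Subgroup.card_mul_index (commutator X)
    rw [hX, hidx4] at h2
    have e : 2 ^ n = 2 ^ (n - 2) * 4 := by
      rw [show (4 : ℕ) = 2 ^ 2 by norm_num, ← pow_add]
      congr 1
      omega
    omega
  have hpow2 : 2 ≤ 2 ^ (n - 2) := by
    calc 2 = 2 ^ 1 := by norm_num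
      _ ≤ 2 ^ (n - 2) := Nat.pow_le_pow_right (by norm_num) (by omega)
  -- nonabelian
  have hna : ∃ x y : X, x * y ≠ y * x := by
    by_contra hcon
    push Not at hcon
    have hbot : commutator X = ⊥ := by
      rw [commutator_eq_closure, Subgroup.closure_eq_bot_iff]
      rintro g ⟨x, y, rfl⟩
      rw [Set.mem_singleton_iff, commutatorElement_eq_one_iff_commute]
      exact hcon x y
    rw [hbot, Subgroup.card_bot] at hcardX'
    omega
  obtain ⟨C, hC, hCi⟩ := Cfsg.Agent.S0113.result n hn hX hc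
  obtain ⟨a, b, ha, hb, hcases⟩ := Cfsg.Agent.S0646.result n hn hX C hC hCi hna
  have hYcard : Nat.card (Subgroup.zpowers a) = 2 ^ (n - 1) := by
    rw [Nat.card_zpowers, ha]
  have hYi : (Subgroup.zpowers a).index = 2 := by
    have h2 := Subgroup.card_mul_index (Subgroup.zpowers a)
    rw [hX, hYcard] at h2
    have e : 2 ^ n = 2 ^ (n - 1) * 2 := by
      rw [← pow_succ]
      congr 1
      omega
    have h3 : 0 < 2 ^ (n - 1) := by positivity
    rw [e] at h2
    exact Nat.eq_of_mul_eq_mul_left h3 h2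
  have hYab : ∀ u ∈ Subgroup.zpowers a, ∀ v ∈ Subgroup.zpowers a, u * v = v * u := by
    rintro u ⟨i, rfl⟩ v ⟨j, rfl⟩
    exact ((Commute.refl a).zpow_zpow i j).eq
  have hgen : ∀ w : X, w ∉ Subgroup.zpowers a → Subgroup.closure ({w, a} : Set X) = ⊤ := by
    intro w hw
    apply Cfsg.Agent.S0127.eq_top_of_lt_of_index_prime Nat.prime_two hYi
    refine lt_of_le_of_ne ?_ ?_
    · rw [Subgroup.zpowers_le]
      exact Subgroup.subset_closure (by simp)
    · intro h
      apply hw
      rw [h]
      exact Subgroup.subset_closure (by simp)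
  obtain ⟨-, -, -, -, hcardle⟩ :=
    Cfsg.Agent.S0115.abelian_index_two (Subgroup.zpowers a) hYi hYab b hb
  have hcenY : Subgroup.center X ≤ Subgroup.zpowers a := by
    intro w hw
    by_contra hwY
    obtain ⟨x, y, hxy⟩ := hna
    have h1 := Cfsg.Agent.S0127.comm_mem_of_two_generators (hgen w hwY) ⊥ bot_le
      (by
        rw [Subgroup.mem_bot, commutatorElement_eq_one_iff_commute]
        exact ((Subgroup.mem_center_iff.mp hw) a).symm) x y
    rw [Subgroup.mem_bot, commutatorElement_eq_one_iff_commute] at h1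
    exact hxy h1.eq
  have hcencard : Nat.card (Subgroup.center X) ≤ 2 := by
    rw [inf_eq_left.mpr hcenY, hcardX', hYcard] at hcardle
    have e : 2 ^ (n - 1) = 2 * 2 ^ (n - 2) := by
      rw [← pow_succ']
      congr 1
      omega
    rw [e] at hcardle
    have h3 : 0 < 2 ^ (n - 2) := by positivity
    exact Nat.le_of_mul_le_mul_right hcardle h3
  have hXnt : Nontrivial X := by
    obtain ⟨x, y, hxy⟩ := hna
    exact ⟨⟨x * y, y * x, hxy⟩⟩
  have hcennt : Nontrivial (Subgroup.center X) := hP.center_nontrivial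
  have hcencard2 : Nat.card (Subgroup.center X) = 2 := by
    have := Finite.one_lt_card_iff_nontrivial.mpr hcennt
    omega
  have ha2 : orderOf a = 2 * 2 ^ (n - 2) := by
    rw [ha, ← pow_succ']
    congr 1
    omega
  -- the central involution
  have hz : a ^ (2 ^ (n - 2)) ∈ Subgroup.center X := by
    obtain ⟨⟨w, hw⟩, hw1⟩ := exists_ne (1 : Subgroup.center X)
    have hw2 : w ^ 2 = 1 := by
      have h1 : (⟨w, hw⟩ : Subgroup.center X) ^ 2 = 1 := by
        rw [← hcencard2]
        exact pow_card_eq_one'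
      exact congrArg Subtype.val h1
    rcases Cfsg.Agent.Lib.helper59.eq_one_or_eq_pow_of_sq_eq_one ha2 (hcenY hw) hw2 with h | h
    · exfalso
      apply hw1
      exact Subtype.ext h
    · rw [← h]
      exact hw
  have hz2 : (a ^ (2 ^ (n - 2))) ^ 2 = 1 := by
    rw [← pow_mul, mul_comm, ← ha2]
    exact pow_orderOf_eq_one a
  -- exclude the modular case
  have hnotmod : ¬ (4 ≤ n ∧ b ^ 2 = 1 ∧ b * a * b⁻¹ = a ^ (1 + 2 ^ (n - 2))) := by
    rintro ⟨hn4, -, hrel⟩
    have hcomm : ⁅b, a⁆ = a ^ (2 ^ (n - 2)) := by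
      rw [commutatorElement_def, hrel, pow_add, pow_one]
      group
    have hWc : Subgroup.zpowers (a ^ (2 ^ (n - 2))) ≤ Subgroup.center X := by
      rw [Subgroup.zpowers_le]
      exact hz
    have hall := Cfsg.Agent.S0127.comm_mem_of_two_generators (hgen b hb)
      (Subgroup.zpowers (a ^ (2 ^ (n - 2)))) hWc (by rw [hcomm]; exact Subgroup.mem_zpowers _)
    have hle : commutator X ≤ Subgroup.zpowers (a ^ (2 ^ (n - 2))) := by
      rw [commutator_eq_closure, Subgroup.closure_le]
      rintro g ⟨x, y, rfl⟩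
      exact hall x y
    have h1 := Subgroup.card_le_of_le hle
    rw [hcardX', Nat.card_zpowers] at h1
    have h2 : orderOf (a ^ (2 ^ (n - 2))) ≤ 2 :=
      Nat.le_of_dvd (by norm_num) (orderOf_dvd_of_pow_eq_one hz2)
    have h3 : 2 ^ 2 ≤ 2 ^ (n - 2) := Nat.pow_le_pow_right (by norm_num) (by omega)
    omega
  -- the quotient
  have hcardQ : Nat.card (X ⧸ Subgroup.center X) = 2 * 2 ^ (n - 2) := by
    have h2 := Subgroup.card_mul_index (Subgroup.center X)
    rw [hX, hcencard2, Subgroup.index_eq_card] at h2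
    have e : 2 ^ n = 2 * (2 * 2 ^ (n - 2)) := by
      rw [← pow_succ', ← pow_succ']
      congr 1
      omega
    omega
  have hord : orderOf (QuotientGroup.mk a : X ⧸ Subgroup.center X) = 2 ^ (n - 2) := by
    have h1 : (Subgroup.map (QuotientGroup.mk' (Subgroup.center X)) (Subgroup.zpowers a)).index
        = 2 := by
      rw [Subgroup.index_map_eq _ (QuotientGroup.mk'_surjective _)
        (by rw [QuotientGroup.ker_mk']; exact hcenY)]
      exact hYi
    rw [MonoidHom.map_zpowers] at h1
    have h2 := Subgroup.card_mul_index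
      (Subgroup.zpowers (QuotientGroup.mk' (Subgroup.center X) a))
    rw [h1, hcardQ, Nat.card_zpowers] at h2
    have h3 : orderOf (QuotientGroup.mk' (Subgroup.center X) a) = 2 ^ (n - 2) := by omega
    exact h3
  have hbnot : (QuotientGroup.mk b : X ⧸ Subgroup.center X) ∉
      Subgroup.zpowers (QuotientGroup.mk a : X ⧸ Subgroup.center X) := by
    rintro ⟨i, hi⟩
    apply hb
    have h1 : ((a ^ i : X) : X ⧸ Subgroup.center X) = (b : X ⧸ Subgroup.center X) := by
      rw [← hi]
      rfl
    have h2 : (a ^ i)⁻¹ * b ∈ Subgroup.center X := QuotientGroup.eq.mp h1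
    have h3 : (a ^ i) * ((a ^ i)⁻¹ * b) ∈ Subgroup.zpowers a :=
      Subgroup.mul_mem _ (Subgroup.zpow_mem_zpowers a i) (hcenY h2)
    rwa [mul_inv_cancel_left] at h3
  have hbsq : (QuotientGroup.mk b : X ⧸ Subgroup.center X) ^ 2 = 1 := by
    have h1 : b ^ 2 ∈ Subgroup.center X := by
      rcases hcases with ⟨h, -⟩ | ⟨h, -⟩ | h | ⟨-, h, -⟩
      · rw [h]; exact Subgroup.one_mem _
      · rw [h]; exact hz
      · exact absurd h hnotmod
      · rw [h]; exact Subgroup.one_mem _
    exact (QuotientGroup.eq_one_iff (b ^ 2)).mpr h1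
  have hrelQ : (QuotientGroup.mk b : X ⧸ Subgroup.center X) * (QuotientGroup.mk a) *
      (QuotientGroup.mk b)⁻¹ = (QuotientGroup.mk a)⁻¹ := by
    have key : ∀ t : X, b * a * b⁻¹ = t → t * a ∈ Subgroup.center X →
        (QuotientGroup.mk b : X ⧸ Subgroup.center X) * (QuotientGroup.mk a) *
          (QuotientGroup.mk b)⁻¹ = (QuotientGroup.mk a)⁻¹ := by
      intro t ht htc
      have h1 : ((t * a : X) : X ⧸ Subgroup.center X) = 1 := (QuotientGroup.eq_one_iff _).mpr htc
      have h2 : (QuotientGroup.mk b : X ⧸ Subgroup.center X) * (QuotientGroup.mk a) *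
          (QuotientGroup.mk b)⁻¹ = ((t : X) : X ⧸ Subgroup.center X) := by
        rw [← ht]
        rfl
      rw [h2]
      exact eq_inv_of_mul_eq_one_left h1
    rcases hcases with ⟨-, h⟩ | ⟨-, h⟩ | h | ⟨-, -, h⟩
    · exact key _ h (by rw [inv_mul_cancel]; exact Subgroup.one_mem _)
    · exact key _ h (by rw [inv_mul_cancel]; exact Subgroup.one_mem _)
    · exact absurd h hnotmod
    · refine key _ h ?_
      rw [← pow_succ, Nat.sub_add_cancel (by omega)]
      exact hz
  exact Cfsg.Agent.Lib.helper59.dihedral_equiv_of_rel (2 ^ (n - 2)) _ _ hord hcardQ hbnot hbsq hrelQ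

end Cfsg.Agent.S0114
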