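import Cfsg.Statements.S0116
import Cfsg.Agent.Lib.helper39.Alperin
import Cfsg.Agent.Lib.helper39.Functor
-- import your own Cfsg.Agent.* helpers here

set_option autoImplicit false
open Cfsg

namespace Cfsg.Agent.S0116

open Cfsg.Agent.Lib.helper39

section aux

variable {G : Type*} [Group G]

/-- The tame intersections `P ⊓ Q` of the fixed Sylow subgroup `P` with other Sylow subgroups. -/
def tame (p : ℕ) (P : Sylow p G) : Set (Subgroup G) :=
  {U | ∃ Q : Sylow p G, U = (P : Subgroup G) ⊓ (Q : Subgroup G) ∧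
    ¬ p ∣ ((P : Subgroup G) ⊓ Subgroup.normalizer (U : Set G)).relIndex
      (Subgroup.normalizer (U : Set G)) ∧
    ¬ p ∣ ((Q : Subgroup G) ⊓ Subgroup.normalizer (U : Set G)).relIndex
      (Subgroup.normalizer (U : Set G))}

theorem cj_top (g : G) : cj g (⊤ : Subgroup G) = ⊤ := by
  ext x
  rw [mem_cj]
  simp

theorem isSylIn_top_cj {p : ℕ} {R : Subgroup G} (hR : IsSylIn p R ⊤) (g : G) :
    IsSylIn p (cj g R) ⊤ := by
  have := hR.conj g
  rwa [cj_top] at this

theorem lt_of_le_of_card_lt [Finite G] {A B : Subgroup G} (h : A ≤ B)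
    (hc : Nat.card A < Nat.card B) : A < B := by
  refine lt_of_le_of_ne h ?_
  intro hAB
  rw [hAB] at hc
  exact lt_irrefl _ hc

variable [Finite G] {p : ℕ} [Fact p.Prime]

theorem card_eq_of_isSylIn_top (P : Sylow p G) {R : Subgroup G} (hR : IsSylIn p R ⊤) :
    Nat.card R = Nat.card (P : Subgroup G) := by
  obtain ⟨k, -, hk⟩ := hR.exists_cj_eq (sylow_isSylIn_top P)
  rw [← hk, card_cj]

/-- Every Sylow subgroup `R` is carried to `P` by a chain through tame intersections which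
starts at `R ⊓ P`. -/
theorem main (P : Sylow p G) :
    ∀ R : Subgroup G, IsSylIn p R ⊤ → ∃ g : G, rc g R = (P : Subgroup G) ∧
      Dec (tame p P) (R ⊓ (P : Subgroup G)) g := by
  intro R
  generalize hd : Nat.card (P : Subgroup G) - Nat.card (R ⊓ (P : Subgroup G) : Subgroup G) = d
  induction d using Nat.strong_induction_on generalizing R with
  | _ d ih =>
  intro hR
  have hPp : IsPGroup p (P : Subgroup G) := P.2
  by_cases hRP : R = (P : Subgroup G)
  · subst hRP
    exact ⟨1, rc_one _, Dec.one _ _⟩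
  have hcardR : Nat.card R = Nat.card (P : Subgroup G) := card_eq_of_isSylIn_top P hR
  have hDP : R ⊓ (P : Subgroup G) < (P : Subgroup G) := by
    refine lt_of_le_of_ne inf_le_right ?_
    intro h
    have hPR : (P : Subgroup G) ≤ R := by rw [← h]; exact inf_le_left
    exact hRP (Subgroup.eq_of_le_of_card_ge hPR (le_of_eq hcardR)).symm
  have hcD : Nat.card (R ⊓ (P : Subgroup G) : Subgroup G) < Nat.card (P : Subgroup G) :=
    card_lt_card_of_lt hDP
  -- the induction hypothesis in a convenient form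
  have IH : ∀ S : Subgroup G, IsSylIn p S ⊤ →
      Nat.card (R ⊓ (P : Subgroup G) : Subgroup G) < Nat.card (S ⊓ (P : Subgroup G) : Subgroup G) →
      ∃ g : G, rc g S = (P : Subgroup G) ∧ Dec (tame p P) (S ⊓ (P : Subgroup G)) g := by
    intro S hS hlt
    have h1 : Nat.card (S ⊓ (P : Subgroup G) : Subgroup G) ≤ Nat.card (P : Subgroup G) :=
      Subgroup.card_le_of_le inf_le_right
    exact ih (Nat.card (P : Subgroup G) - Nat.card (S ⊓ (P : Subgroup G) : Subgroup G))
      (by omega) S rfl hS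
  -- composition
  have comp : ∀ (R' : Subgroup G) (x : G), Dec (tame p P) (R' ⊓ (P : Subgroup G)) x →
      rc x (R' ⊓ (P : Subgroup G)) ≤ (P : Subgroup G) →
      (∃ y : G, rc y (rc x R') = (P : Subgroup G) ∧
        Dec (tame p P) (rc x R' ⊓ (P : Subgroup G)) y) →
      ∃ g : G, rc g R' = (P : Subgroup G) ∧ Dec (tame p P) (R' ⊓ (P : Subgroup G)) g := by
    rintro R' x hx hxP ⟨y, hy1, hy2⟩
    refine ⟨x * y, by rw [rc_mul, hy1], hx.mul (hy2.mono (le_inf (cj_le_cj.mpr inf_le_left) hxP))⟩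
  -- Step B
  have stepB : ∀ R' : Subgroup G, IsSylIn p R' ⊤ →
      Nat.card (R' ⊓ (P : Subgroup G) : Subgroup G) = Nat.card (R ⊓ (P : Subgroup G) : Subgroup G) →
      IsSylIn p ((P : Subgroup G) ⊓ Subgroup.normalizer ((R' ⊓ (P : Subgroup G) : Subgroup G) : Set G))
        (Subgroup.normalizer ((R' ⊓ (P : Subgroup G) : Subgroup G) : Set G)) →
      ∃ g : G, rc g R' = (P : Subgroup G) ∧ Dec (tame p P) (R' ⊓ (P : Subgroup G)) g := by
    intro R' hR' hcard hsyl
    have hR'p : IsPGroup p R' := hR'.2.1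
    have hcardR' : Nat.card R' = Nat.card (P : Subgroup G) := card_eq_of_isSylIn_top P hR'
    have hD'R' : R' ⊓ (P : Subgroup G) < R' :=
      lt_of_le_of_card_lt inf_le_left (by rw [hcard, hcardR']; exact hcD)
    have hlt := lt_inf_normalizer_of_lt hR'p hD'R'
    have hclt := card_lt_card_of_lt hlt
    -- finishing lemma
    have finish : ∀ x : G, Dec (tame p P) (R' ⊓ (P : Subgroup G)) x →
        rc x (R' ⊓ Subgroup.normalizer ((R' ⊓ (P : Subgroup G) : Subgroup G) : Set G)) ≤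
          (P : Subgroup G) →
        ∃ g : G, rc g R' = (P : Subgroup G) ∧ Dec (tame p P) (R' ⊓ (P : Subgroup G)) g := by
      intro x hx hxP
      refine comp R' x hx (le_trans (cj_le_cj.mpr hlt.le) hxP) ?_
      refine IH (rc x R') (isSylIn_top_cj hR' _) ?_
      have h1 : rc x (R' ⊓ Subgroup.normalizer ((R' ⊓ (P : Subgroup G) : Subgroup G) : Set G)) ≤
          rc x R' ⊓ (P : Subgroup G) := le_inf (cj_le_cj.mpr inf_le_left) hxP
      have h2 := Subgroup.card_le_of_le h1
      rw [rc_card] at h2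
      omega
    obtain ⟨T, hT, hNT⟩ := exists_isSylIn_ge (hR'p.to_le inf_le_left)
      (inf_le_right : R' ⊓ Subgroup.normalizer ((R' ⊓ (P : Subgroup G) : Subgroup G) : Set G) ≤
        Subgroup.normalizer ((R' ⊓ (P : Subgroup G) : Subgroup G) : Set G))
    obtain ⟨U, hU, hTU⟩ := exists_isSylIn_ge hT.2.1 (le_top : T ≤ ⊤)
    obtain ⟨k, hk, hkT⟩ := hT.exists_cj_eq hsyl
    have hD'U : R' ⊓ (P : Subgroup G) ≤ U ⊓ (P : Subgroup G) :=
      le_inf (le_trans hlt.le (le_trans hNT hTU)) inf_le_right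
    by_cases hUP : U ⊓ (P : Subgroup G) = R' ⊓ (P : Subgroup G)
    · -- tame intersection
      have hmem : R' ⊓ (P : Subgroup G) ∈ tame p P := by
        have hUidx : ¬ p ∣ U.index := by
          have := hU.2.2
          rwa [Subgroup.relIndex_top_right] at this
        refine ⟨hU.2.1.toSylow hUidx, ?_, hsyl.2.2, ?_⟩
        · rw [IsPGroup.toSylow_coe, ← hUP, inf_comm]
        · rw [IsPGroup.toSylow_coe]
          have : U ⊓ Subgroup.normalizer ((R' ⊓ (P : Subgroup G) : Subgroup G) : Set G) = T :=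
            hT.eq_of_le (hU.2.1.to_le inf_le_left) (le_inf hTU hT.1) inf_le_right
          rw [this]
          exact hT.2.2
      have hw : k⁻¹ ∈ Subgroup.normalizer ((R' ⊓ (P : Subgroup G) : Subgroup G) : Set G) :=
        inv_mem hk
      refine finish k⁻¹ (Dec.single hmem hw le_rfl) ?_
      have h1 : rc k⁻¹ T = (P : Subgroup G) ⊓
          Subgroup.normalizer ((R' ⊓ (P : Subgroup G) : Subgroup G) : Set G) := by
        show cj k⁻¹⁻¹ T = _
        rw [inv_inv]
        exact hkT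
      exact le_trans (cj_le_cj.mpr hNT) (le_trans (le_of_eq h1) inf_le_left)
    · have hltU : R' ⊓ (P : Subgroup G) < U ⊓ (P : Subgroup G) :=
        lt_of_le_of_ne hD'U (Ne.symm hUP)
      have hcU := card_lt_card_of_lt hltU
      obtain ⟨u, hu1, hu2⟩ := IH U hU (by rw [← hcard]; exact hcU)
      refine finish u (hu2.mono hD'U) ?_
      exact le_trans (cj_le_cj.mpr (le_trans hNT hTU)) (le_of_eq hu1)
  -- Step A
  have hltP := lt_inf_normalizer_of_lt hPp hDP
  have hcltP := card_lt_card_of_lt hltP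
  obtain ⟨S₀, hS₀, hle⟩ := exists_isSylIn_ge (hPp.to_le inf_le_left)
    (inf_le_right : (P : Subgroup G) ⊓ Subgroup.normalizer ((R ⊓ (P : Subgroup G) : Subgroup G) : Set G) ≤
      Subgroup.normalizer ((R ⊓ (P : Subgroup G) : Subgroup G) : Set G))
  obtain ⟨S, hS, hS₀S⟩ := exists_isSylIn_ge hS₀.2.1 (le_top : S₀ ≤ ⊤)
  have hNS : (P : Subgroup G) ⊓ Subgroup.normalizer ((R ⊓ (P : Subgroup G) : Subgroup G) : Set G) ≤
      S ⊓ (P : Subgroup G) := le_inf (le_trans hle hS₀S) inf_le_left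
  have hDS : R ⊓ (P : Subgroup G) ≤ S ⊓ (P : Subgroup G) := le_trans hltP.le hNS
  have hcS := Subgroup.card_le_of_le hNS
  obtain ⟨u, hu1, hu2⟩ := IH S hS (by omega)
  have huD : rc u (R ⊓ (P : Subgroup G)) ≤ (P : Subgroup G) :=
    le_trans (cj_le_cj.mpr (le_trans hDS inf_le_left)) (le_of_eq hu1)
  refine comp R u (hu2.mono hDS) huD ?_
  have hle2 : rc u (R ⊓ (P : Subgroup G)) ≤ rc u R ⊓ (P : Subgroup G) :=
    le_inf (cj_le_cj.mpr inf_le_left) huD
  have hc2 := Subgroup.card_le_of_le hle2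
  rw [rc_card] at hc2
  by_cases hc : Nat.card (rc u R ⊓ (P : Subgroup G) : Subgroup G) =
      Nat.card (R ⊓ (P : Subgroup G) : Subgroup G)
  · have heq : rc u (R ⊓ (P : Subgroup G)) = rc u R ⊓ (P : Subgroup G) :=
      Subgroup.eq_of_le_of_card_ge hle2 (by rw [rc_card, hc])
    refine stepB (rc u R) (isSylIn_top_cj hR _) hc ?_
    rw [← heq]
    have hN : Subgroup.normalizer ((rc u (R ⊓ (P : Subgroup G)) : Subgroup G) : Set G) =
        rc u (Subgroup.normalizer ((R ⊓ (P : Subgroup G) : Subgroup G) : Set G)) :=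
      (cj_normalizer _ _).symm
    rw [hN]
    have h1 : IsSylIn p (rc u S₀)
        (rc u (Subgroup.normalizer ((R ⊓ (P : Subgroup G) : Subgroup G) : Set G))) := hS₀.conj _
    have h2 : rc u S₀ ≤ (P : Subgroup G) ⊓
        rc u (Subgroup.normalizer ((R ⊓ (P : Subgroup G) : Subgroup G) : Set G)) :=
      le_inf (le_trans (cj_le_cj.mpr hS₀S) (le_of_eq hu1)) h1.1
    have h3 := h1.eq_of_le (hPp.to_le inf_le_left) h2 inf_le_right
    rw [h3]
    exact h1
  · exact IH (rc u R) (isSylIn_top_cj hR _) (by omega)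

end aux

/-- The Alperin fusion Theorem states that conjugation between subsets of a Sylow p-subgroup P factors through normalizers of tame intersections P ∩ Q_i with other Sylow p-subgroups, carrying the subset along step by step. -/
theorem result {G : Type*} [Group G] [Finite G] {p : ℕ} [Fact p.Prime] (P : Sylow p G) (A : Set G) (g : G) (hA : A ⊆ (P : Set G)) (hAg : (fun a => g⁻¹ * a * g) '' A ⊆ (P : Set G)) : ∃ (n : ℕ) (Q : Fin n → Sylow p G) (x : Fin n → G), (List.ofFn x).prod = g ∧ (∀ i : Fin n, x i ∈ Subgroup.normalizer ((((P : Subgroup G) ⊓ (Q i : Subgroup G)) : Subgroup G) : Set G) ∧ ¬ p ∣ ((P : Subgroup G) ⊓ Subgroup.normalizer ((((P : Subgroup G) ⊓ (Q i : Subgroup G)) : Subgroup G) : Set G)).relIndex (Subgroup.normalizer ((((P : Subgroup G) ⊓ (Q i : Subgroup G)) : Subgroup G) : Set G)) ∧ ¬ p ∣ ((Q i : Subgroup G) ⊓ Subgroup.normalizer ((((P : Subgroup G) ⊓ (Q i : Subgroup G)) : Subgroup G) : Set G)).relIndex (Subgroup.normalizer ((((P : Subgroup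 G) ⊓ (Q i : Subgroup G)) : Subgroup G) : Set G))) ∧ (∀ h : 0 < n, A ⊆ (((P : Subgroup G) ⊓ (Q ⟨0, h⟩ : Subgroup G) : Subgroup G) : Set G)) ∧ ∀ i : Fin n, ∀ h : i.val + 1 < n, (fun a => (((List.ofFn x).take (i.val + 1)).prod)⁻¹ * a * ((List.ofFn x).take (i.val + 1)).prod) '' A ⊆ (((P : Subgroup G) ⊓ (Q ⟨i.val + 1, h⟩ : Subgroup G) : Subgroup G) : Set G) := by
  classical
  have hR : IsSylIn p (cj g (P : Subgroup G)) ⊤ := isSylIn_top_cj (sylow_isSylIn_top P) g
  obtain ⟨h, hh1, hh2⟩ := main P (cj g (P : Subgroup G)) hR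
  have hg1 : rc g (cj g (P : Subgroup G)) = (P : Subgroup G) := cj_inv_cj g _
  have hN : h⁻¹ * g ∈ Subgroup.normalizer ((P : Subgroup G) : Set G) := by
    have h1 : rc (h⁻¹ * g) (P : Subgroup G) = (P : Subgroup G) := by
      rw [rc_mul]
      have : rc h⁻¹ (P : Subgroup G) = cj g (P : Subgroup G) := by
        have h5 := congrArg (rc h⁻¹) hh1
        rw [rc_inv_rc] at h5
        exact h5.symm
      rw [this, hg1]
    have h2 : (h⁻¹ * g)⁻¹ ∈ Subgroup.normalizer ((P : Subgroup G) : Set G) := cj_eq_self_iff.mp h1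
    simpa using inv_mem h2
  have hPmem : (P : Subgroup G) ∈ tame p P := by
    have hinf : (P : Subgroup G) ⊓ Subgroup.normalizer ((P : Subgroup G) : Set G) = (P : Subgroup G) :=
      inf_eq_left.mpr Subgroup.le_normalizer
    have hnd : ¬ p ∣ (P : Subgroup G).relIndex (Subgroup.normalizer ((P : Subgroup G) : Set G)) := by
      intro hdvd
      apply P.not_dvd_index
      rw [← Subgroup.relIndex_mul_index (Subgroup.le_normalizer (H := (P : Subgroup G)))]
      exact Dvd.dvd.mul_right hdvd _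
    refine ⟨P, (inf_idem _).symm, ?_, ?_⟩
    · rw [hinf]; exact hnd
    · rw [hinf]; exact hnd
  have hdec : Dec (tame p P) (cj g (P : Subgroup G) ⊓ (P : Subgroup G)) g := by
    have h3 : Dec (tame p P) (rc h (cj g (P : Subgroup G) ⊓ (P : Subgroup G))) (h⁻¹ * g) :=
      Dec.single hPmem hN (le_trans (cj_le_cj.mpr inf_le_left) (le_of_eq hh1))
    have := hh2.mul h3
    rwa [mul_inv_cancel_left] at this
  have hA' : Subgroup.closure A ≤ cj g (P : Subgroup G) ⊓ (P : Subgroup G) := by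
    rw [Subgroup.closure_le]
    intro a ha
    refine ⟨?_, hA ha⟩
    exact mem_cj.mpr (hAg ⟨a, ha, rfl⟩)
  obtain ⟨n, T, x, hx, hT, hxN, h0, hstep⟩ := (hdec.mono hA').toFamily
  simp only [tame, Set.mem_ofPred_eq] at hT
  choose Q hQ1 hQ2 hQ3 using hT
  refine ⟨n, Q, x, hx, ?_, ?_, ?_⟩
  · intro i
    rw [← hQ1 i]
    exact ⟨hxN i, hQ2 i, hQ3 i⟩
  · intro h
    rw [← hQ1]
    exact h0 h
  · intro i h
    rw [← hQ1]
    exact hstep i h

end Cfsg.Agent.S0116
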