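import Cfsg.Statements.S0118
import Cfsg.Agent.Lib.helper67.ZJeGT
import Cfsg.Agent.Lib.helper67.NoSL2Stable
import Cfsg.Agent.Lib.helper39.SecFusion

set_option autoImplicit false
open Cfsg

namespace Cfsg.Agent.S0118

/-- Glauberman's ZJ-Theorem, in the case of groups with no section isomorphic to SL(2,p), p odd: conjugation of subsets of a Sylow p-subgroup P inside P is always induced from the normalizer of Z(J(P)). -/
theorem result {G : Type*} [Group G] [Finite G] {p : ℕ} [Fact p.Prime] (hp : p ≠ 2) (hfree : ¬ ∃ (H K : Subgroup G) (hK : (K.subgroupOf H).Normal), Nonempty ((H ⧸ K.subgroupOf H) ≃* Matrix.SpecialLinearGroup (Fin 2) (ZMod p))) (P : Sylow p G) (A : Set G) (hA : A ⊆ (P : Set G)) (g : G) (hAg : (fun a => g⁻¹ * a * g) '' A ⊆ (P : Set G)) : ∃ n ∈ Subgroup.normalizer (Cfsg.centerThompsonOf p (P : Subgroup G) : Set G), ∀ a ∈ A, n⁻¹ * a * n = g⁻¹ * a * g := by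
  have hpp : p.Prime := Fact.out
  have hcs := Cfsg.Agent.Lib.helper39.controlsStrongFusion_of_normal_sections
    (Cfsg.Agent.Lib.helper67.isCharPFunctor_zjeFunctor p)
    (fun X _ => Cfsg.Agent.Lib.helper39.Sec G X)
    (fun X _ H hX => hX.sub H) (fun X _ N _ hX => hX.quot N)
    (by
      intro X _ _ hX hcon
      obtain ⟨T⟩ : Nonempty (Sylow p X) := inferInstance
      refine ⟨T, ?_⟩
      rw [Cfsg.Agent.Lib.helper67.inducedFunctor_zjeFunctor]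
      exact Cfsg.Agent.Lib.helper67.centerThompsonOf_normal hp hcon
        (fun V _ hV => Cfsg.Agent.Lib.helper67.isPStableOn_of_noSL2 p hp
          (Cfsg.Agent.Lib.helper67.noSL2Section_of_sec hfree hX) V hV) T)
    G (Cfsg.Agent.Lib.helper39.Sec.refl G) P
  rw [Cfsg.Agent.Lib.helper67.inducedFunctor_zjeFunctor] at hcs
  obtain ⟨T, hUT, hT⟩ := hcs
  obtain ⟨U, hU⟩ : ∃ U : Subgroup G, U = Cfsg.centerThompsonOf p (P : Subgroup G) := ⟨_, rfl⟩
  rw [← hU] at hUT hT ⊢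
  have hUP : U ≤ (P : Subgroup G) := by
    rw [hU, Cfsg.Agent.Lib.helper67.centerThompsonOf_eq_zJ]
    exact Cfsg.Agent.Lib.helper67.zJ_le p _
  obtain ⟨x, hx⟩ := MulAction.exists_smul_eq G P T
  have hmemT : ∀ y : G, y ∈ (P : Subgroup G) → x * y * x⁻¹ ∈ (T : Subgroup G) := by
    intro y hy
    rw [← hx, Sylow.coe_subgroup_smul]
    exact ⟨y, hy, rfl⟩
  -- `x` normalizes `U`
  have hxU : x ∈ Subgroup.normalizer (U : Set G) := by
    obtain ⟨-, h1⟩ := hT (U : Set G) hUT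
    obtain ⟨m, hm, hmU⟩ := h1 x (by
      rintro _ ⟨u, hu, rfl⟩
      exact hmemT u (hUP hu))
    have h2 : m⁻¹ * x ∈ Subgroup.centralizer (U : Set G) := by
      rw [Subgroup.mem_centralizer_iff]
      intro u hu
      have h3 := hmU u hu
      have h4 : m⁻¹ * x * u = m⁻¹ * (x * u * x⁻¹) * x := by group
      rw [h4, h3]
      group
    have h5 : x = m * (m⁻¹ * x) := by group
    rw [h5]
    exact Subgroup.mul_mem _ hm (Subgroup.centralizer_le_normalizer _ h2)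
  -- transport the fusion to `T`
  obtain ⟨-, h1⟩ := hT ((fun a => x * a * x⁻¹) '' A) (by
    rintro _ ⟨a, ha, rfl⟩
    exact hmemT a (hA ha))
  obtain ⟨m, hm, hmA⟩ := h1 (x * g⁻¹ * x⁻¹) (by
    rintro _ ⟨_, ⟨a, ha, rfl⟩, rfl⟩
    have h2 : g⁻¹ * a * g ∈ (P : Subgroup G) := hAg ⟨a, ha, rfl⟩
    have h3 := hmemT _ h2
    have h4 : x * g⁻¹ * x⁻¹ * (x * a * x⁻¹) * (x * g⁻¹ * x⁻¹)⁻¹ = x * (g⁻¹ * a * g) * x⁻¹ := by
      group
    show x * g⁻¹ * x⁻¹ * (x * a * x⁻¹) * (x * g⁻¹ * x⁻¹)⁻¹ ∈ (T : Subgroup G)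
    rw [h4]
    exact h3)
  refine ⟨x⁻¹ * m⁻¹ * x, ?_, ?_⟩
  · exact Subgroup.mul_mem _ (Subgroup.mul_mem _ (Subgroup.inv_mem _ hxU) (Subgroup.inv_mem _ hm))
      hxU
  · intro a ha
    have h2 := hmA (x * a * x⁻¹) ⟨a, ha, rfl⟩
    have h3 : (x⁻¹ * m⁻¹ * x)⁻¹ * a * (x⁻¹ * m⁻¹ * x) = x⁻¹ * (m * (x * a * x⁻¹) * m⁻¹) * x := by
      group
    rw [h3, ← h2]
    group

end Cfsg.Agent.S0118
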