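import Cfsg.Statements.S0119
import Cfsg.Agent.Lib.helper3.Class2
import Cfsg.Agent.Lib.helper3.PGroupFrattini
import Cfsg.Agent.Lib.helper3.PGroupNormal

set_option autoImplicit false
open Cfsg
open scoped commutatorElement

namespace Cfsg.Agent.S0119

section aux

variable {G : Type*} [Group G]

theorem comm_mul_central_left (u w z : G) (hz : z ∈ Subgroup.center G) : ⁅u * z, w⁆ = ⁅u, w⁆ := by
  have c : ∀ g, g * z = z * g := Subgroup.mem_center_iff.mp hz
  have h1 : z * w * z⁻¹ = w := by rw [← c w, mul_inv_cancel_right]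
  calc ⁅u * z, w⁆ = u * (z * w * z⁻¹) * u⁻¹ * w⁻¹ := by rw [commutatorElement_def]; group
    _ = ⁅u, w⁆ := by rw [h1, commutatorElement_def]

theorem comm_mul_central_right (u v z : G) (hz : z ∈ Subgroup.center G) : ⁅u, v * z⁆ = ⁅u, v⁆ := by
  have c : ∀ g, g * z = z * g := Subgroup.mem_center_iff.mp hz
  have h1 : z * u⁻¹ * z⁻¹ = u⁻¹ := by rw [← c u⁻¹, mul_inv_cancel_right]
  calc ⁅u, v * z⁆ = u * v * (z * u⁻¹ * z⁻¹) * v⁻¹ := by rw [commutatorElement_def]; group
    _ = ⁅u, v⁆ := by rw [h1, commutatorElement_def]

/-- The second centre centralizes the derived subgroup. -/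
theorem commute_of_mem_upperCentralSeries_two (x : G) (hx : x ∈ Subgroup.upperCentralSeries G 2)
    (y : G) (hy : y ∈ commutator G) : x * y = y * x := by
  have hxc : ∀ u : G, ⁅x, u⁆ ∈ Subgroup.center G := by
    intro u
    have := Subgroup.mem_upperCentralSeries_succ_iff.mp hx u
    rwa [Subgroup.upperCentralSeries_one] at this
  have hconj : ∀ u : G, x * u * x⁻¹ = u * ⁅x, u⁆ := by
    intro u
    have c := Subgroup.mem_center_iff.mp (hxc u) u
    rw [c, commutatorElement_def]
    group
  have hle : commutator G ≤ Subgroup.centralizer {x} := by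
    rw [commutator_eq_closure, Subgroup.closure_le]
    rintro g ⟨u, v, rfl⟩
    rw [SetLike.mem_coe, Subgroup.mem_centralizer_singleton_iff]
    have h1 : x * ⁅u, v⁆ * x⁻¹ = ⁅x * u * x⁻¹, x * v * x⁻¹⁆ := by
      simp only [commutatorElement_def]; group
    rw [hconj u, hconj v, comm_mul_central_left _ _ _ (hxc u),
      comm_mul_central_right _ _ _ (hxc v)] at h1
    symm
    calc x * ⁅u, v⁆ = (x * ⁅u, v⁆ * x⁻¹) * x := by group
      _ = ⁅u, v⁆ * x := by rw [h1]
  exact (Subgroup.mem_centralizer_singleton_iff.mp (hle hy)).symm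

/-- A subgroup generated by pairwise commuting elements is commutative. -/
theorem isMulCommutative_closure (S : Set G) (hS : ∀ s ∈ S, ∀ t ∈ S, s * t = t * s) :
    IsMulCommutative (Subgroup.closure S) := by
  have h1 : ∀ s ∈ S, Subgroup.closure S ≤ Subgroup.centralizer {s} := by
    intro s hs
    rw [Subgroup.closure_le]
    intro t ht
    rw [SetLike.mem_coe, Subgroup.mem_centralizer_singleton_iff]
    exact hS t ht s hs
  have h2 : ∀ x ∈ Subgroup.closure S, Subgroup.closure S ≤ Subgroup.centralizer {x} := by
    intro x hx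
    rw [Subgroup.closure_le]
    intro t ht
    rw [SetLike.mem_coe, Subgroup.mem_centralizer_singleton_iff]
    exact (Subgroup.mem_centralizer_singleton_iff.mp (h1 t ht hx)).symm
  refine ⟨⟨fun a b => Subtype.ext ?_⟩⟩
  exact (Subgroup.mem_centralizer_singleton_iff.mp (h2 a.1 a.2 b.2)).symm

end aux

open Cfsg.Agent.Lib.helper3 in
theorem main {G : Type*} [Group G] [Finite G] {p : ℕ} [Fact p.Prime] (hG : IsPGroup p G) (A : Subgroup (MulAut G)) (hA : Nat.Coprime (Nat.card A) p) (hGA : Subgroup.closure {x : G | ∃ g : G, ∃ a ∈ A, x = g⁻¹ * a g} = ⊤) (hchar : ∀ H : Subgroup G, H.Characteristic → IsMulCommutative H → ∀ a ∈ A, ∀ h ∈ H, a h = h) : Cfsg.IsSpecial p G ∧ (∀ g : G, (g ∈ Subgroup.center G ↔ ∀ a ∈ A, a g = g)) := by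
  have hp : p.Prime := Fact.out
  -- Step 1: characteristic abelian subgroups are central
  have hcen : ∀ H : Subgroup G, H.Characteristic → IsMulCommutative H →
      H ≤ Subgroup.center G := by
    intro H hHc hHab h hh
    have hHn : H.Normal := Subgroup.normal_of_characteristic H
    have hle : Subgroup.closure {x : G | ∃ g : G, ∃ a ∈ A, x = g⁻¹ * a g} ≤
        Subgroup.centralizer {h} := by
      rw [Subgroup.closure_le]
      rintro x ⟨g, a, ha, rfl⟩
      rw [SetLike.mem_coe, Subgroup.mem_centralizer_singleton_iff]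
      have h1 : a (g * h * g⁻¹) = g * h * g⁻¹ :=
        hchar H hHc hHab a ha _ (hHn.conj_mem h hh g)
      have h2 : a h = h := hchar H hHc hHab a ha h hh
      rw [map_mul, map_mul, map_inv, h2] at h1
      symm
      calc h * (g⁻¹ * a g) = g⁻¹ * (g * h * g⁻¹) * a g := by group
        _ = g⁻¹ * (a g * h * (a g)⁻¹) * a g := by rw [h1]
        _ = g⁻¹ * a g * h := by group
    rw [hGA] at hle
    rw [Subgroup.mem_center_iff]
    intro g
    exact Subgroup.mem_centralizer_singleton_iff.mp (hle (Subgroup.mem_top g))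
  -- Step 2: class at most two
  have hK : Subgroup.upperCentralSeries G 2 ⊓ commutator G ≤ Subgroup.center G := by
    apply hcen _ inferInstance
    refine ⟨⟨fun a b => Subtype.ext ?_⟩⟩
    exact commute_of_mem_upperCentralSeries_two a.1 a.2.1 b.1 b.2.2
  have hcomm_le : commutator G ≤ Subgroup.center G := by
    by_contra hcon
    have hNn : ((commutator G).map (QuotientGroup.mk' (Subgroup.center G))).Normal :=
      Subgroup.Normal.map inferInstance _ (QuotientGroup.mk'_surjective _)
    have hNne : (commutator G).map (QuotientGroup.mk' (Subgroup.center G)) ≠ ⊥ := by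
      intro h
      rw [Subgroup.map_eq_bot_iff, QuotientGroup.ker_mk'] at h
      exact hcon h
    obtain ⟨z, hzN, hzc, hz1, -⟩ := exists_central_of_normal_ne_bot
      (hG.to_quotient (Subgroup.center G)) _ hNne
    obtain ⟨c, hc, rfl⟩ := hzN
    apply hz1
    apply (QuotientGroup.eq_one_iff c).mpr
    apply hK
    refine Subgroup.mem_inf.mpr ⟨?_, hc⟩
    show c ∈ Subgroup.upperCentralSeries G (1 + 1)
    rw [Subgroup.mem_upperCentralSeries_succ_iff]
    intro y
    rw [Subgroup.upperCentralSeries_one]
    apply (QuotientGroup.eq_one_iff _).mp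
    have h2 : ((⁅c, y⁆ : G) : G ⧸ Subgroup.center G) =
        ⁅QuotientGroup.mk' (Subgroup.center G) c, QuotientGroup.mk' (Subgroup.center G) y⁆ :=
      map_commutatorElement (QuotientGroup.mk' (Subgroup.center G)) c y
    rw [h2, commutatorElement_eq_one_iff_commute]
    exact ((Subgroup.mem_center_iff.mp hzc) _).symm
  -- Step 3: fixed points lie in the derived subgroup
  have hAfin : Finite A := Nat.finite_of_card_ne_zero (by
    intro h0
    rw [h0, Nat.coprime_zero_left] at hA
    exact hp.one_lt.ne' hA)
  have hfix_comm : ∀ c : G, (∀ a ∈ A, a c = c) → c ∈ commutator G := by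
    intro c hc
    classical
    let _ : Fintype A := Fintype.ofFinite A
    let N : G →* Abelianization G :=
      ∏ a : A, (Abelianization.of).comp ((a : MulAut G).toMonoidHom)
    have hN : ∀ g, N g = ∏ a : A, Abelianization.of ((a : MulAut G) g) := by
      intro g
      simp only [N, MonoidHom.finsetProd_apply]
      rfl
    have hinv : ∀ (a₀ : MulAut G), a₀ ∈ A → ∀ g, N (a₀ g) = N g := by
      intro a₀ ha₀ g
      rw [hN, hN]
      exact (Fintype.prod_equiv (Equiv.mulRight (⟨a₀, ha₀⟩ : A))
        (fun a => Abelianization.of ((a : MulAut G) (a₀ g)))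
        (fun a => Abelianization.of ((a : MulAut G) g)) (fun a => rfl))
    have hker : N.ker = ⊤ := by
      rw [eq_top_iff, ← hGA, Subgroup.closure_le]
      rintro x ⟨g, a, ha, rfl⟩
      rw [SetLike.mem_coe, MonoidHom.mem_ker, map_mul, map_inv, hinv a ha, inv_mul_cancel]
    have h1 : N c = 1 := by
      have : c ∈ N.ker := by rw [hker]; exact Subgroup.mem_top c
      exact this
    have h2 : N c = Abelianization.of c ^ Nat.card A := by
      rw [hN, Finset.prod_congr rfl (fun a _ => by rw [hc a a.2]), Finset.prod_const,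
        Finset.card_univ, Nat.card_eq_fintype_card]
    have hPab : IsPGroup p (Abelianization G) := hG.to_quotient _
    obtain ⟨k, hk⟩ := hPab (Abelianization.of c)
    have hd1 : orderOf (Abelianization.of c) ∣ Nat.card A :=
      orderOf_dvd_of_pow_eq_one (by rw [← h2, h1])
    have hd2 : orderOf (Abelianization.of c) ∣ p ^ k := orderOf_dvd_of_pow_eq_one hk
    have hd3 := Nat.dvd_gcd hd1 hd2
    have hcop : Nat.gcd (Nat.card A) (p ^ k) = 1 := Nat.Coprime.pow_right k hA
    rw [hcop, Nat.dvd_one, orderOf_eq_one_iff] at hd3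
    have : c ∈ (Abelianization.of (G := G)).ker := hd3
    rwa [Abelianization.ker_of] at this
  have hcenfix : ∀ g : G, g ∈ Subgroup.center G → ∀ a ∈ A, a g = g := fun g hg a ha =>
    hchar (Subgroup.center G) inferInstance inferInstance a ha g hg
  have hcomm_eq : commutator G = Subgroup.center G :=
    le_antisymm hcomm_le (fun g hg => hfix_comm g (hcenfix g hg))
  -- Step 4: the central quotient has exponent p
  have hcc : CommCentral G := by
    intro x y z
    have h1 : ⁅x, y⁆ ∈ Subgroup.center G := hcomm_le (by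
      rw [commutator_def]
      exact Subgroup.commutator_mem_commutator (Subgroup.mem_top x) (Subgroup.mem_top y))
    exact ((Subgroup.mem_center_iff.mp h1) z).symm
  have hex : ∃ e : ℕ, ∀ x : G, x ^ (p ^ e) ∈ Subgroup.center G := by
    obtain ⟨k, hk⟩ := (IsPGroup.iff_card.mp hG)
    refine ⟨k, fun x => ?_⟩
    rw [← hk, pow_card_eq_one']
    exact Subgroup.one_mem _
  classical
  have hpow : ∀ x : G, x ^ p ∈ Subgroup.center G := by
    have hmin : ∀ m : ℕ, m < Nat.find hex → ¬ ∀ x : G, x ^ (p ^ m) ∈ Subgroup.center G :=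
      fun m hm => Nat.find_min hex hm
    have hspec := Nat.find_spec hex
    generalize Nat.find hex = e at hmin hspec
    rcases Nat.lt_or_ge e 2 with he | he
    · intro x
      interval_cases e
      · have := hspec x
        rw [pow_zero, pow_one] at this
        exact Subgroup.pow_mem _ this p
      · have := hspec x
        rwa [pow_one] at this
    · exfalso
      apply hmin (e - 1) (by omega)
      have hab : IsMulCommutative (Subgroup.closure {y : G | ∃ x : G, y = x ^ (p ^ (e - 1))}) := by
        apply isMulCommutative_closure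
        rintro s ⟨x, rfl⟩ t ⟨y, rfl⟩
        have h1 : ⁅x ^ (p ^ (e - 1)), y ^ (p ^ (e - 1))⁆ = 1 := by
          rw [commutator_pow_left_class2 hcc, ← commutatorElement_inv,
            commutator_pow_left_class2 hcc, ← inv_pow, ← pow_mul, inv_pow,
            ← commutator_pow_left_class2 hcc]
          have h2 : y ^ (p ^ (e - 1) * p ^ (e - 1)) ∈ Subgroup.center G := by
            have e1 : p ^ (e - 1) * p ^ (e - 1) = p ^ e * p ^ (e - 2) := by
              rw [← pow_add, ← pow_add]
              congr 1
              omega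
            rw [e1, pow_mul]
            exact Subgroup.pow_mem _ (hspec y) _
          have h3 : ⁅y ^ (p ^ (e - 1) * p ^ (e - 1)), x⁆ = 1 := by
            rw [commutatorElement_eq_one_iff_commute]
            exact ((Subgroup.mem_center_iff.mp h2) x).symm
          rw [h3, inv_one]
        exact (commutatorElement_eq_one_iff_commute.mp h1).eq
      have hch : (Subgroup.closure {y : G | ∃ x : G, y = x ^ (p ^ (e - 1))}).Characteristic := by
        rw [Subgroup.characteristic_iff_map_le]
        intro φ
        rw [MonoidHom.map_closure, Subgroup.closure_le]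
        rintro _ ⟨_, ⟨x, rfl⟩, rfl⟩
        apply Subgroup.subset_closure
        exact ⟨φ x, map_pow φ x _⟩
      intro x
      exact hcen _ hch hab (Subgroup.subset_closure ⟨x, rfl⟩)
  have hfrat : frattini G = Subgroup.center G := by
    apply le_antisymm
    · exact frattini_le_of_pow_mem_of_commutator_le (p := p) _ hpow hcomm_le
    · rw [← hcomm_eq]
      exact commutator_le_frattini hG
  refine ⟨⟨hG, hfrat, hcomm_eq⟩, fun g => ⟨hcenfix g, fun h => ?_⟩⟩
  exact hcomm_le (hfix_comm g h)

/-- If a p'-group A of automorphisms of a p-group G satisfies G = [G, A] and acts trivially on every characteristic abelian subgroup, then G is special with centre equal to the fixed points of A. -/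
theorem result {G : Type*} [Group G] [Finite G] {p : ℕ} [Fact p.Prime] (hG : IsPGroup p G) (A : Subgroup (MulAut G)) (hA : Nat.Coprime (Nat.card A) p) (hGA : Subgroup.closure {x : G | ∃ g : G, ∃ a ∈ A, x = g⁻¹ * a g} = ⊤) (hchar : ∀ H : Subgroup G, H.Characteristic → IsMulCommutative H → ∀ a ∈ A, ∀ h ∈ H, a h = h) : Cfsg.IsSpecial p G ∧ (∀ g : G, (g ∈ Subgroup.center G ↔ ∀ a ∈ A, a g = g)) := by
  exact main hG A hA hGA hchar

end Cfsg.Agent.S0119
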