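import Cfsg.Statements.S0120
import Cfsg.Agent.S1443

set_option autoImplicit false
open Cfsg

namespace Cfsg.Agent.S0120

/-- For odd p, a p'-automorphism of a p-group acting trivially on the elements of order dividing p is trivial. -/
theorem result {G : Type*} [Group G] [Finite G] {p : ℕ} [Fact p.Prime] (hp : p ≠ 2) (hG : IsPGroup p G) (a : MulAut G) (ha : Nat.Coprime (orderOf a) p) (h : ∀ x : G, x ^ p = 1 → a x = x) : a = 1 := by
  classical
  let Z : Subgroup (MulAut G) := Subgroup.zpowers a
  let φ : Z →* MulAut G := Z.subtype
  let K := G ⋊[φ] Z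
  let az : Z := ⟨a, Subgroup.mem_zpowers a⟩
  have : Finite (MulAut G) := MulEquiv.finite_left
  have : Finite Z := inferInstance
  have : Finite K := Finite.of_equiv (G × Z) SemidirectProduct.equivProd.symm
  let a' : K := SemidirectProduct.inr az
  have hinl : Function.Injective (SemidirectProduct.inl : G →* K) := SemidirectProduct.inl_injective
  have hinr : Function.Injective (SemidirectProduct.inr : Z →* K) := SemidirectProduct.inr_injective
  have horder : orderOf a' = orderOf a := by
    have h1 : orderOf a' = orderOf az := orderOf_injective _ hinr az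
    have h2 : orderOf az = orderOf a := (orderOf_injective Z.subtype Z.subtype_injective az).symm
    rw [h1, h2]
  have hcop : (orderOf a').Coprime p := by rw [horder]; exact ha
  let P : Subgroup K := (SemidirectProduct.inl : G →* K).range
  have hP : IsPGroup p P := by
    exact hG.of_surjective (SemidirectProduct.inl : G →* K).rangeRestrict
      (SemidirectProduct.inl : G →* K).rangeRestrict_surjective
  have hcomm : ∀ n : G, a' * SemidirectProduct.inl n = SemidirectProduct.inl (a n) * a' := by
    intro n
    have := SemidirectProduct.inl_aut (φ := φ) az n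
    have h2 : (SemidirectProduct.inl (a n) : K) = a' * SemidirectProduct.inl n * a'⁻¹ := by
      have h3 : φ az n = a n := rfl
      rw [← h3, this]
      simp [a']
    rw [h2, inv_mul_cancel_right]
  have hnorm : a' ∈ Subgroup.normalizer (P : Set K) := by
    rw [Subgroup.mem_normalizer_iff]
    intro x
    constructor
    · rintro ⟨n, rfl⟩
      refine ⟨a n, ?_⟩
      rw [hcomm n, mul_inv_cancel_right]
    · rintro ⟨m, hm⟩
      refine ⟨a⁻¹ m, ?_⟩
      have h4 := hcomm (a⁻¹ m)
      have h5 : a (a⁻¹ m) = m := by simp
      rw [h5, hm, inv_mul_cancel_right] at h4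
      exact mul_left_cancel h4
  have key := Cfsg.Agent.S1443.main p hp a' hcop (Nat.card P) P ⊥ rfl hP hnorm bot_le
    (by
      intro e he f hf
      rw [Subgroup.mem_bot] at he hf
      rw [he, hf])
    (by
      intro e he
      rw [Subgroup.mem_bot] at he
      rw [he, one_pow])
    (by
      intro x hx hxp
      obtain ⟨n, rfl⟩ := (Subgroup.mem_inf.mp hx).1
      have hn : n ^ p = 1 := by
        apply hinl
        rw [map_pow, hxp, map_one]
      rw [hcomm n, h n hn])
  ext n
  have h6 := key (SemidirectProduct.inl n) ⟨n, rfl⟩
  rw [hcomm n] at h6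
  have h7 : (SemidirectProduct.inl (a n) : K) = SemidirectProduct.inl n := mul_right_cancel h6
  have := hinl h7
  simpa using this

end Cfsg.Agent.S0120
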