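import Cfsg.Statements.S0124
import Mathlib.Data.Nat.Choose.Dvd
-- import your own Cfsg.Agent.* helpers here

set_option autoImplicit false
open Cfsg

namespace Cfsg.Agent.S0124

open scoped commutatorElement

section collect

variable {R : Type*} [Group R]

/-- Move a central element to the left. -/
theorem central_left {z : R} (hz : ∀ w : R, z * w = w * z) (w t : R) :
    w * (z * t) = z * (w * t) := by
  rw [← mul_assoc, ← hz w, mul_assoc]

theorem central_pow {z : R} (hz : ∀ w : R, z * w = w * z) (k : ℕ) (w : R) :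
    z ^ k * w = w * z ^ k :=
  (Commute.pow_left (hz w) k).eq

/-- If `u c = d c u` with `d` central then `u c ^ m = d ^ m c ^ m u`. -/
theorem rel_pow_right {u c d : R} (hd : ∀ w : R, d * w = w * d) (h : u * c = d * c * u) (m : ℕ) :
    u * c ^ m = d ^ m * c ^ m * u := by
  induction m with
  | zero => simp
  | succ m ih =>
    calc u * c ^ (m + 1) = (u * c ^ m) * c := by rw [pow_succ, mul_assoc]
      _ = d ^ m * c ^ m * (u * c) := by rw [ih]; simp only [mul_assoc]
      _ = d ^ m * c ^ m * (d * c * u) := by rw [h]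
      _ = d ^ (m + 1) * c ^ (m + 1) * u := by
        rw [pow_succ, pow_succ]
        simp only [mul_assoc]
        rw [central_left hd (c ^ m)]

/-- If `u c = d c u` with `d` central then `u ^ i c = d ^ i c u ^ i`. -/
theorem rel_pow_left {u c d : R} (hd : ∀ w : R, d * w = w * d) (h : u * c = d * c * u) (i : ℕ) :
    u ^ i * c = d ^ i * c * u ^ i := by
  induction i with
  | zero => simp
  | succ i ih =>
    calc u ^ (i + 1) * c = u * (u ^ i * c) := by rw [pow_succ', mul_assoc]
      _ = u * (d ^ i * c * u ^ i) := by rw [ih]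
      _ = d ^ i * (u * c) * u ^ i := by
        simp only [mul_assoc]
        rw [central_left (central_pow hd i) u]
      _ = d ^ i * (d * c * u) * u ^ i := by rw [h]
      _ = d ^ (i + 1) * c * u ^ (i + 1) := by
        rw [pow_succ, pow_succ']
        simp only [mul_assoc]

theorem choose_two_succ (j : ℕ) : (j + 1).choose 2 = j.choose 2 + j := by
  rw [Nat.choose_succ_succ', Nat.choose_one_right, add_comm]

theorem choose_three_succ (j : ℕ) : (j + 1).choose 3 = j.choose 3 + j.choose 2 := by
  rw [Nat.choose_succ_succ', add_comm]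

/-- `y ^ j x = b ^ C(j,2) c ^ j x y ^ j` when `y x = c x y`, `y c = b c y`, `b` central. -/
theorem rel_pow_swap {x y c b : R} (hb : ∀ w : R, b * w = w * b) (hyx : y * x = c * x * y)
    (hyc : y * c = b * c * y) (j : ℕ) :
    y ^ j * x = b ^ (j.choose 2) * c ^ j * x * y ^ j := by
  induction j with
  | zero => simp
  | succ j ih =>
    have hG := rel_pow_right hb hyc j
    calc y ^ (j + 1) * x = y * (y ^ j * x) := by rw [pow_succ', mul_assoc]
      _ = y * (b ^ (j.choose 2) * c ^ j * x * y ^ j) := by rw [ih]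
      _ = b ^ (j.choose 2) * (y * c ^ j) * x * y ^ j := by
        simp only [mul_assoc]
        rw [central_left (central_pow hb _) y]
      _ = b ^ (j.choose 2) * (b ^ j * c ^ j * y) * x * y ^ j := by rw [hG]
      _ = b ^ (j.choose 2 + j) * c ^ j * (y * x) * y ^ j := by
        rw [pow_add]
        simp only [mul_assoc]
      _ = b ^ (j.choose 2 + j) * c ^ j * (c * x * y) * y ^ j := by rw [hyx]
      _ = b ^ ((j + 1).choose 2) * c ^ (j + 1) * x * y ^ (j + 1) := by
        rw [choose_two_succ, pow_succ c, pow_succ' y]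
        simp only [mul_assoc]

/-- The collection formula in class three. -/
theorem collect {x y c a b : R} (ha : ∀ w : R, a * w = w * a) (hb : ∀ w : R, b * w = w * b)
    (hyx : y * x = c * x * y) (hxc : x * c = a * c * x) (hyc : y * c = b * c * y) (n : ℕ) :
    (x * y) ^ n * a ^ ((n + 1).choose 3) = b ^ (n.choose 3) * x ^ n * c ^ (n.choose 2) * y ^ n := by
  induction n with
  | zero => simp [Nat.choose]
  | succ n ih =>
    have hL3 := rel_pow_swap hb hyx hyc n
    have hG := rel_pow_right ha hxc (n.choose 2 + n)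
    have e1 : (n + 1 + 1).choose 3 = (n + 1).choose 3 + (n.choose 2 + n) := by
      rw [choose_three_succ (n + 1), choose_two_succ]
    calc (x * y) ^ (n + 1) * a ^ ((n + 1 + 1).choose 3)
        = ((x * y) ^ n * a ^ ((n + 1).choose 3)) * (x * y) * a ^ (n.choose 2 + n) := by
          rw [e1, pow_succ, pow_add]
          simp only [mul_assoc]
          rw [central_left (central_pow ha _) y, central_left (central_pow ha _) x]
      _ = (b ^ (n.choose 3) * x ^ n * c ^ (n.choose 2) * y ^ n) * (x * y) * a ^ (n.choose 2 + n) := by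
          rw [ih]
      _ = b ^ (n.choose 3) * x ^ n * c ^ (n.choose 2) * (y ^ n * x) * y * a ^ (n.choose 2 + n) := by
          simp only [mul_assoc]
      _ = b ^ (n.choose 3) * x ^ n * c ^ (n.choose 2) * (b ^ (n.choose 2) * c ^ n * x * y ^ n) * y *
            a ^ (n.choose 2 + n) := by rw [hL3]
      _ = b ^ (n.choose 3 + n.choose 2) * x ^ n * (a ^ (n.choose 2 + n) * c ^ (n.choose 2 + n) * x) *
            y ^ (n + 1) := by
          rw [pow_add b, pow_add c, pow_succ y]
          simp only [mul_assoc]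
          rw [central_left (central_pow hb _) (c ^ (n.choose 2)),
            central_left (central_pow hb _) (x ^ n)]
          rw [← central_pow ha (n.choose 2 + n) y, central_left (central_pow ha _) (y ^ n),
            central_left (central_pow ha _) x, central_left (central_pow ha _) (c ^ n),
            central_left (central_pow ha _) (c ^ (n.choose 2))]
      _ = b ^ (n.choose 3 + n.choose 2) * x ^ n * (x * c ^ (n.choose 2 + n)) * y ^ (n + 1) := by
          rw [hG]
      _ = b ^ ((n + 1).choose 3) * x ^ (n + 1) * c ^ ((n + 1).choose 2) * y ^ (n + 1) := by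
          rw [choose_three_succ, choose_two_succ, pow_succ x]
          simp only [mul_assoc]

end collect

section class3

variable {R : Type*} [Group R]

/-- Triple commutators are central in class at most three. -/
theorem triple_central (hcl : ⁅⁅commutator R, (⊤ : Subgroup R)⁆, (⊤ : Subgroup R)⁆ = ⊥)
    (u v w t : R) : ⁅⁅u, v⁆, w⁆ * t = t * ⁅⁅u, v⁆, w⁆ := by
  have h1 : ⁅u, v⁆ ∈ commutator R := by
    rw [commutator_def]
    exact Subgroup.commutator_mem_commutator (Subgroup.mem_top u) (Subgroup.mem_top v)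
  have h2 : ⁅⁅u, v⁆, w⁆ ∈ ⁅commutator R, (⊤ : Subgroup R)⁆ :=
    Subgroup.commutator_mem_commutator h1 (Subgroup.mem_top w)
  have h3 : ⁅⁅⁅u, v⁆, w⁆, t⁆ ∈ ⁅⁅commutator R, (⊤ : Subgroup R)⁆, (⊤ : Subgroup R)⁆ :=
    Subgroup.commutator_mem_commutator h2 (Subgroup.mem_top t)
  rw [hcl, Subgroup.mem_bot] at h3
  exact commutatorElement_eq_one_iff_mul_comm.mp h3

theorem triple_central' (hcl : ⁅⁅commutator R, (⊤ : Subgroup R)⁆, (⊤ : Subgroup R)⁆ = ⊥)
    (u v w t : R) : ⁅w, ⁅u, v⁆⁆ * t = t * ⁅w, ⁅u, v⁆⁆ := by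
  rw [← commutatorElement_inv ⁅u, v⁆ w]
  have h : Commute ⁅⁅u, v⁆, w⁆ t := triple_central hcl u v w t
  exact h.inv_left.eq

/-- The collection formula for `x`, `y` in a group of class at most three. -/
theorem collect3 (hcl : ⁅⁅commutator R, (⊤ : Subgroup R)⁆, (⊤ : Subgroup R)⁆ = ⊥) (x y : R)
    (n : ℕ) :
    (x * y) ^ n * ⁅x, ⁅y, x⁆⁆ ^ ((n + 1).choose 3) =
      ⁅y, ⁅y, x⁆⁆ ^ (n.choose 3) * x ^ n * ⁅y, x⁆ ^ (n.choose 2) * y ^ n := by
  apply collect (triple_central' hcl y x x) (triple_central' hcl y x y)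
  · rw [commutatorElement_def]; group
  · rw [commutatorElement_def x ⁅y, x⁆]; group
  · rw [commutatorElement_def y ⁅y, x⁆]; group

/-- In class at most three, for a prime `p > 3`, the product of two elements of order dividing `p`
has order dividing `p`. -/
theorem mul_pow_eq_one {p : ℕ} (hpP : p.Prime) (hp : 3 < p)
    (hcl : ⁅⁅commutator R, (⊤ : Subgroup R)⁆, (⊤ : Subgroup R)⁆ = ⊥) (x y : R)
    (hx : x ^ p = 1) (hy : y ^ p = 1) : (x * y) ^ p = 1 := by
  have ha := triple_central' hcl y x x
  have hb := triple_central' hcl y x y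
  have hxc : x * ⁅y, x⁆ = ⁅x, ⁅y, x⁆⁆ * ⁅y, x⁆ * x := by
    rw [commutatorElement_def x]; group
  have hyc : y * ⁅y, x⁆ = ⁅y, ⁅y, x⁆⁆ * ⁅y, x⁆ * y := by
    rw [commutatorElement_def y ⁅y, x⁆]; group
  have hyx : y * x = ⁅y, x⁆ * x * y := by
    rw [commutatorElement_def]; group
  have hap : ⁅x, ⁅y, x⁆⁆ ^ p = 1 := by
    have h1 := rel_pow_left ha hxc p
    rw [hx, one_mul, mul_one] at h1
    exact (mul_eq_right.mp h1.symm)
  have hbp : ⁅y, ⁅y, x⁆⁆ ^ p = 1 := by
    have h1 := rel_pow_left hb hyc p
    rw [hy, one_mul, mul_one] at h1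
    exact (mul_eq_right.mp h1.symm)
  have hd2 : p ∣ p.choose 2 := hpP.dvd_choose_self (by norm_num) (by omega)
  have hd3 : p ∣ p.choose 3 := hpP.dvd_choose_self (by norm_num) hp
  have hd3' : p ∣ (p + 1).choose 3 := by
    rw [choose_three_succ]
    exact dvd_add hd3 hd2
  have hcp : ⁅y, x⁆ ^ p = 1 := by
    have h1 := rel_pow_swap hb hyx hyc p
    rw [hy, one_mul, mul_one] at h1
    obtain ⟨k, hk⟩ := hd2
    rw [hk, pow_mul, hbp, one_pow, one_mul] at h1
    exact (mul_eq_right.mp h1.symm)
  have hF := collect3 hcl x y p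
  obtain ⟨k2, hk2⟩ := hd2
  obtain ⟨k3, hk3⟩ := hd3
  obtain ⟨k3', hk3'⟩ := hd3'
  rw [hk2, hk3, hk3', pow_mul, pow_mul, pow_mul, hap, hbp, hcp, hx, hy] at hF
  simpa using hF

end class3

/-- For p > 3, in a p-group of class at most three the elements of order dividing p generate a subgroup of exponent dividing p. -/
theorem result {R : Type*} [Group R] [Finite R] {p : ℕ} [Fact p.Prime] (hp : 3 < p) (hR : IsPGroup p R) (hcl : ⁅⁅commutator R, (⊤ : Subgroup R)⁆, (⊤ : Subgroup R)⁆ = ⊥) (g : R) (hg : g ∈ Subgroup.closure {x : R | x ^ p = 1}) : g ^ p = 1 := by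
  have _hR := hR
  have hpP : p.Prime := Fact.out
  induction hg using Subgroup.closure_induction with
  | mem x hx => exact hx
  | one => exact one_pow p
  | mul x y _ _ hx hy => exact mul_pow_eq_one hpP hp hcl x y hx hy
  | inv x _ hx => rw [inv_pow, hx, inv_one]

end Cfsg.Agent.S0124
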