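import Cfsg.Statements.S0123
import Cfsg.Agent.S0124
import Cfsg.Agent.Lib.helper3.Class2
-- import your own Cfsg.Agent.* helpers here

set_option autoImplicit false
open Cfsg

namespace Cfsg.Agent.S0123

open Cfsg.Agent.Lib.helper3
open scoped commutatorElement

/-- For a p-group of small class relative to p (class ≤ 2 with p odd, or class ≤ 3 with p > 3) whose derived subgroup is generated by elements of order dividing p, the p-th power map is multiplicative. -/
theorem result {R : Type*} [Group R] [Finite R] {p : ℕ} [Fact p.Prime] (hR : IsPGroup p R) (hcl : (p ≠ 2 ∧ ⁅commutator R, (⊤ : Subgroup R)⁆ = ⊥) ∨ (3 < p ∧ ⁅⁅commutator R, (⊤ : Subgroup R)⁆, (⊤ : Subgroup R)⁆ = ⊥)) (hder : commutator R ≤ Subgroup.closure {x : R | x ^ p = 1}) (x y : R) : (x * y) ^ p = x ^ p * y ^ p := by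
  have hpP : p.Prime := Fact.out
  have hcm : ∀ u v : R, ⁅u, v⁆ ∈ commutator R := by
    intro u v
    rw [commutator_def]
    exact Subgroup.commutator_mem_commutator (Subgroup.mem_top u) (Subgroup.mem_top v)
  rcases hcl with ⟨hp2, h2⟩ | ⟨hp3, h3⟩
  · have hcc := commCentral_of_class2 h2
    apply mul_pow_prime_class2 hcc hpP hp2 x y
    exact pow_prime_eq_one_of_mem_closure_class2 hcc hpP hp2 _ (hder (hcm y x))
  · have hexp : ∀ u v : R, ⁅u, v⁆ ^ p = 1 := fun u v =>
      Cfsg.Agent.S0124.result hp3 hR h3 _ (hder (hcm u v))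
    have hd2 : p ∣ p.choose 2 := hpP.dvd_choose_self (by norm_num) (by omega)
    have hd3 : p ∣ p.choose 3 := hpP.dvd_choose_self (by norm_num) hp3
    have hd3' : p ∣ (p + 1).choose 3 := by
      rw [Cfsg.Agent.S0124.choose_three_succ]
      exact dvd_add hd3 hd2
    have hF := Cfsg.Agent.S0124.collect3 h3 x y p
    obtain ⟨k2, hk2⟩ := hd2
    obtain ⟨k3, hk3⟩ := hd3
    obtain ⟨k3', hk3'⟩ := hd3'
    rw [hk2, hk3, hk3', pow_mul, pow_mul, pow_mul, hexp, hexp, hexp] at hF
    simpa using hF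

end Cfsg.Agent.S0123
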