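import Cfsg.Statements.S0125
import Cfsg.Agent.Lib.helper3.SylowLemmas

set_option autoImplicit false
open Cfsg

namespace Cfsg.Agent.S0125

open Cfsg.Agent.Lib.helper3

theorem le_normalizer_map_subtype {G : Type*} [Group G] (C : Subgroup G) (K : Subgroup C)
    (hK : K.Normal) : C ≤ Subgroup.normalizer ((K.map C.subtype : Subgroup G) : Set G) := by
  intro c hc
  rw [Subgroup.mem_normalizer_iff]
  intro h
  constructor
  · intro hh
    obtain ⟨k, hk, hkh⟩ := Subgroup.mem_map.mp hh
    rw [Subgroup.mem_map]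
    refine ⟨⟨c, hc⟩ * k * ⟨c, hc⟩⁻¹, hK.conj_mem k hk ⟨c, hc⟩, ?_⟩
    rw [← hkh]; rfl
  · intro hh
    obtain ⟨k, hk, hkeq⟩ := Subgroup.mem_map.mp hh
    rw [Subgroup.mem_map]
    refine ⟨⟨c, hc⟩⁻¹ * k * ⟨c, hc⟩, ?_, ?_⟩
    · have := hK.conj_mem k hk ⟨c, hc⟩⁻¹
      simpa using this
    · have e : C.subtype (⟨c, hc⟩⁻¹ * k * ⟨c, hc⟩) = c⁻¹ * (C.subtype k) * c := rfl
      rw [e, hkeq]; group

/-- The centralizer of a self-centralizing normal subgroup A of a Sylow p-subgroup is the direct product of A with a normal p'-subgroup. -/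
theorem result {G : Type*} [Group G] [Finite G] {p : ℕ} [Fact p.Prime] (R : Sylow p G) (A : Subgroup G) (hAR : A ≤ (R : Subgroup G)) (hAn : (R : Subgroup G) ≤ Subgroup.normalizer (A : Set G)) (hC : (R : Subgroup G) ⊓ Subgroup.centralizer (A : Set G) = A) : ∃ H : Subgroup G, H ≤ Subgroup.centralizer (A : Set G) ∧ Nat.Coprime (Nat.card H) p ∧ Subgroup.centralizer (A : Set G) ≤ Subgroup.normalizer (H : Set G) ∧ H ⊓ A = ⊥ ∧ H ⊔ A = Subgroup.centralizer (A : Set G) := by
  set C := Subgroup.centralizer (A : Set G) with hCdef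
  have hAC : A ≤ C := by rw [← hC]; exact inf_le_right
  have hRC : (R : Subgroup G) ≤ Subgroup.normalizer (C : Set G) :=
    hAn.trans (normalizer_le_normalizer_centralizer A)
  have hnd : ¬ p ∣ A.relIndex C := by
    have := not_dvd_relIndex_inf_sylow R C hRC
    rwa [hC] at this
  set A' : Subgroup C := A.subgroupOf C with hA'
  have hA'p : IsPGroup p A' := (R.isPGroup'.to_le hAR).comap_subtype
  have hidx : ¬ p ∣ A'.index := hnd
  let P' : Sylow p C := hA'p.toSylow hidx
  have hP'mem : ∀ c : C, c ∈ P' ↔ (c : G) ∈ A := fun c => Iff.rfl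
  have hP : Subgroup.normalizer (P' : Set C) ≤ Subgroup.centralizer (P' : Set C) := by
    intro c _
    rw [Subgroup.mem_centralizer_iff]
    intro a ha
    have ha' : (a : G) ∈ A := (hP'mem a).mp ha
    have hc : (c : G) ∈ Subgroup.centralizer (A : Set G) := c.2
    rw [Subgroup.mem_centralizer_iff] at hc
    ext
    simp only [Subgroup.coe_mul]
    exact hc (a : G) ha'
  have hcompl := MonoidHom.ker_transferSylow_isComplement' P' hP
  have hndK := MonoidHom.not_dvd_card_ker_transferSylow P' hP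
  set K := (MonoidHom.transferSylow P' hP).ker with hK
  have hKn : K.Normal := by rw [hK]; infer_instance
  refine ⟨K.map C.subtype, ?_, ?_, ?_, ?_, ?_⟩
  · exact Subgroup.map_subtype_le K
  · rw [Subgroup.card_map_of_injective (Subgroup.subtype_injective C)]
    exact ((Nat.Prime.coprime_iff_not_dvd Fact.out).mpr hndK).symm
  · exact le_normalizer_map_subtype C K hKn
  · rw [eq_bot_iff]
    rintro x ⟨hxK, hxA⟩
    obtain ⟨k, hk, hkx⟩ := Subgroup.mem_map.mp hxK
    have hxA' : (k : G) ∈ A := by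
      have : C.subtype k = (k : G) := rfl
      rw [← this, hkx]; exact hxA
    have h1 : k ∈ K ⊓ (P' : Subgroup C) := ⟨hk, (hP'mem k).mpr hxA'⟩
    rw [hcompl.disjoint.eq_bot, Subgroup.mem_bot] at h1
    rw [Subgroup.mem_bot, ← hkx, h1]; simp
  · have h1 : K ⊔ (P' : Subgroup C) = ⊤ := hcompl.sup_eq_top
    have h2 : (K ⊔ (P' : Subgroup C)).map C.subtype = C := by
      rw [h1, ← MonoidHom.range_eq_map, Subgroup.range_subtype]
    rw [Subgroup.map_sup] at h2
    have h3 : (P' : Subgroup C).map C.subtype = A := by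
      have : (P' : Subgroup C) = A.subgroupOf C := rfl
      rw [this, Subgroup.subgroupOf_map_subtype, inf_eq_left.mpr hAC]
    rw [h3] at h2
    exact h2

end Cfsg.Agent.S0125
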