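import Cfsg.Statements.S0128
import Cfsg.Agent.Lib.helper3.ElemAb
import Cfsg.Agent.S0124
import Cfsg.Agent.S0126

set_option autoImplicit false
open Cfsg

namespace Cfsg.Agent.S0128

universe u

open Cfsg.Agent.Lib.helper3 in
/-- For `p > 3`, in a `p`-group of rank at most two, a product of two elements of order dividing
`p` has order dividing `p`: a minimal counterexample is generated by two such elements, hence is
the product of two normal subgroups of order at most `p ^ 3`, so has class at most three. -/
theorem main (p : ℕ) [Fact p.Prime] (hp : 3 < p) : ∀ (n : ℕ) (R : Type u) [Group R] [Finite R],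
    Nat.card R = n → IsPGroup p R →
    (∀ E : Subgroup R, Cfsg.IsElementaryAbelian p E → Nat.card E ≤ p ^ 2) →
    ∀ x y : R, x ^ p = 1 → y ^ p = 1 → (x * y) ^ p = 1 := by
  intro n
  induction n using Nat.strong_induction_on with
  | _ n ih =>
  intro R _ _ hn hR hrk x y hx hy
  have hpP : p.Prime := Fact.out
  have hp2 : p ≠ 2 := by omega
  by_cases hK : Subgroup.closure ({x, y} : Set R) = ⊤
  swap
  · -- proper subgroup
    have hxK : x ∈ Subgroup.closure ({x, y} : Set R) := Subgroup.subset_closure (by simp)
    have hyK : y ∈ Subgroup.closure ({x, y} : Set R) := Subgroup.subset_closure (by simp)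
    have hcard : Nat.card (Subgroup.closure ({x, y} : Set R)) < n := by
      rw [← hn]
      exact lt_of_le_of_ne (Subgroup.card_le_card_group _)
        (fun h => hK (Subgroup.eq_top_of_card_eq _ h))
    have h1 := ih _ hcard (Subgroup.closure ({x, y} : Set R)) rfl (hR.to_subgroup _)
      (rank_subgroup _ hrk) ⟨x, hxK⟩ ⟨y, hyK⟩ (Subtype.ext hx) (Subtype.ext hy)
    exact congrArg Subtype.val h1
  · by_cases hxy : x * y = y * x
    · have hc : Commute x y := hxy
      rw [hc.mul_pow, hx, hy, one_mul]
    · -- maximal subgroups
      have key : ∀ v : R, v ^ p = 1 → Subgroup.zpowers v ≠ ⊤ →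
          v ∈ Subgroup.upperCentralSeries R 3 := by
        intro v hv hvtop
        obtain ⟨M, hM, hle⟩ := (eq_top_or_exists_le_coatom _).resolve_left hvtop
        obtain ⟨hMn, hMi⟩ := coatom_normal_index hR hM
        have hvM : v ∈ M := hle (Subgroup.mem_zpowers v)
        have hcardM : Nat.card M < n := by
          rw [← hn, ← Subgroup.card_mul_index M, hMi]
          have h1 := hpP.one_lt
          have h2 : 0 < Nat.card M := Nat.card_pos
          nlinarith
        let S : Set R := {u | u ∈ M ∧ u ^ p = 1}
        have hS : ∀ g u : R, u ∈ S → g * u * g⁻¹ ∈ S := by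
          rintro g u ⟨huM, hup⟩
          refine ⟨hMn.conj_mem u huM g, ?_⟩
          rw [conj_pow, hup]
          group
        have hUn : (Subgroup.closure S).Normal :=
          Cfsg.Agent.S0126.normal_closure_of_conj_invariant S hS
        have hUM : Subgroup.closure S ≤ M := (Subgroup.closure_le _).mpr (fun u hu => hu.1)
        have hUp : ∀ u ∈ Subgroup.closure S, u ^ p = 1 := by
          intro u hu
          induction hu using Subgroup.closure_induction with
          | mem s hs => exact hs.2
          | one => exact one_pow p
          | mul a b ha hb iha ihb =>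
            have h1 := ih _ hcardM M rfl (hR.to_subgroup _) (rank_subgroup _ hrk)
              ⟨a, hUM ha⟩ ⟨b, hUM hb⟩ (Subtype.ext iha) (Subtype.ext ihb)
            exact congrArg Subtype.val h1
          | inv a _ iha => rw [inv_pow, iha, inv_one]
        have hUcard : Nat.card (Subgroup.closure S) ≤ p ^ 3 :=
          card_le_of_exponent_of_rank hp2 (fun u => Subtype.ext (hUp u.1 u.2))
            (rank_subgroup _ hrk)
        exact le_upperCentralSeries_of_card_le p 3 R hR _ hUn hUcard
          (Subgroup.subset_closure ⟨hvM, hv⟩)
      have hxtop : Subgroup.zpowers x ≠ ⊤ := by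
        intro h
        apply hxy
        have : y ∈ Subgroup.zpowers x := h ▸ Subgroup.mem_top y
        obtain ⟨i, rfl⟩ := Subgroup.mem_zpowers_iff.mp this
        exact (Commute.zpow_right (Commute.refl x) i).eq
      have hytop : Subgroup.zpowers y ≠ ⊤ := by
        intro h
        apply hxy
        have : x ∈ Subgroup.zpowers y := h ▸ Subgroup.mem_top x
        obtain ⟨i, rfl⟩ := Subgroup.mem_zpowers_iff.mp this
        exact (Commute.zpow_left (Commute.refl y) i).eq
      have hZ3 : Subgroup.upperCentralSeries R 3 = ⊤ := by
        rw [eq_top_iff, ← hK, Subgroup.closure_le]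
        rintro v (rfl | rfl)
        · exact key v hx hxtop
        · exact key v hy hytop
      have hlcs := Subgroup.lowerCentralSeries_eq_bot_iff_upperCentralSeries_eq_top.mpr hZ3
      have hcl : ⁅⁅commutator R, (⊤ : Subgroup R)⁆, (⊤ : Subgroup R)⁆ = ⊥ := by
        rw [← Subgroup.top_lowerCentralSeries_one, ← Subgroup.lowerCentralSeries_succ,
          ← Subgroup.lowerCentralSeries_succ]
        exact hlcs
      exact Cfsg.Agent.S0124.mul_pow_eq_one hpP hp hcl x y hx hy

/-- For p > 3, in a p-group of p-rank at most 2 the elements of order dividing p generate a subgroup of exponent dividing p. -/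
theorem result {R : Type*} [Group R] [Finite R] {p : ℕ} [Fact p.Prime] (hp : 3 < p) (hR : IsPGroup p R) (hrk : ∀ E : Subgroup R, Cfsg.IsElementaryAbelian p E → Nat.card E ≤ p ^ 2) (g : R) (hg : g ∈ Subgroup.closure {x : R | x ^ p = 1}) : g ^ p = 1 := by
  induction hg using Subgroup.closure_induction with
  | mem x hx => exact hx
  | one => exact one_pow p
  | mul x y _ _ hx hy => exact main p hp (Nat.card R) R rfl hR hrk x y hx hy
  | inv x _ hx => rw [inv_pow, hx, inv_one]

end Cfsg.Agent.S0128
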