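import Cfsg.Statements.S0129
import Cfsg.Agent.Lib.helper38.PGroupNormal

set_option autoImplicit false
open Cfsg

namespace Cfsg.Agent.S0129

open Subgroup

/-- If `f : H → S` separates the cosets of `K` in `H`, then `|H : H ∩ K| ≤ |S|`. -/
theorem relIndex_le_of_sep {G : Type*} [Group G] [Finite G] (H K : Subgroup G) {S : Type*}
    [Finite S] (f : H → S) (hf : ∀ h h' : H, f h = f h' → (h : G)⁻¹ * h' ∈ K) :
    K.relIndex H ≤ Nat.card S := by
  show Nat.card (↥H ⧸ K.subgroupOf H) ≤ Nat.card S
  apply Nat.card_le_card_of_injective (fun q => f (Quotient.out q))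
  intro q q' h
  have h1 := hf _ _ h
  rw [← QuotientGroup.out_eq' q, ← QuotientGroup.out_eq' q']
  exact QuotientGroup.eq.mpr (by simpa [Subgroup.mem_subgroupOf] using h1)

/-- In a finite `p`-group, a normal subgroup of order at most `p ^ n` has centralizer of index
at most `p ^ (n (n - 1) / 2)`. -/
theorem index_centralizer_le_pow {G : Type*} [Group G] [Finite G] {p : ℕ} [hp : Fact p.Prime]
    (hG : IsPGroup p G) :
    ∀ (n : ℕ) (N : Subgroup G), N.Normal → Nat.card N ≤ p ^ n →
      (centralizer (N : Set G)).index ≤ p ^ (n * (n - 1) / 2) := by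
  have hpos := hp.out.pos
  have hbotc : centralizer (((⊥ : Subgroup G)) : Set G) = ⊤ := by
    rw [Subgroup.centralizer_eq_top_iff_subset]
    intro x hx
    have : x = 1 := by simpa using hx
    rw [this]
    exact Subgroup.one_mem _
  intro n
  induction n with
  | zero =>
    intro N hN hc
    have h1 : N = ⊥ := Subgroup.eq_bot_of_card_le N (by simpa using hc)
    subst h1
    rw [hbotc, Subgroup.index_top]
    exact Nat.one_le_pow _ _ hpos
  | succ n ih =>
    intro N hN hc
    have := hN
    by_cases hNb : N = ⊥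
    · subst hNb
      rw [hbotc, Subgroup.index_top]
      exact Nat.one_le_pow _ _ hpos
    let 𝒜 : Set (Subgroup G) := {M | M.Normal ∧ M < N}
    have hbot : (⊥ : Subgroup G) ∈ 𝒜 := ⟨inferInstance, bot_lt_iff_ne_bot.mpr hNb⟩
    obtain ⟨M, -, hMmax⟩ := (Set.toFinite 𝒜).exists_le_maximal hbot
    obtain ⟨hMn, hMN⟩ := hMmax.prop
    have := hMn
    obtain ⟨x, hxN, hxM, hxc⟩ :=
      Cfsg.Agent.Lib.helper38.exists_central_mod_of_normal hG M N (not_le_of_gt hMN)
    have hxB : x ∈ M ⊔ zpowers x := (le_sup_right : zpowers x ≤ _) (mem_zpowers x)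
    have hsup_le : M ⊔ zpowers x ≤ N := sup_le hMN.le (by rw [zpowers_le]; exact hxN)
    have hsupN : (M ⊔ zpowers x).Normal := by
      constructor
      intro n hn g
      have h1 : (M ⊔ zpowers x).map (MulAut.conj g).toMonoidHom ≤ M ⊔ zpowers x := by
        rw [Subgroup.map_sup]
        apply sup_le
        · intro y hy
          obtain ⟨a, ha, rfl⟩ := hy
          exact (le_sup_left : M ≤ _) (hMn.conj_mem a ha g)
        · rw [MonoidHom.map_zpowers, zpowers_le]
          show g * x * g⁻¹ ∈ M ⊔ zpowers x
          have h2 : g * x * g⁻¹ = x * (x⁻¹ * (g * x * g⁻¹)) := by group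
          rw [h2]
          exact mul_mem hxB ((le_sup_left : M ≤ _) (hxc g))
      exact h1 ⟨n, hn, rfl⟩
    have hNeq : M ⊔ zpowers x = N := by
      by_contra hne
      have hlt : M ⊔ zpowers x < N := lt_of_le_of_ne hsup_le hne
      have h3 : M ⊔ zpowers x ≤ M := hMmax.le_of_ge ⟨hsupN, hlt⟩ le_sup_left
      exact hxM (h3 hxB)
    -- `|M| ≤ p ^ n`
    have hMcard : Nat.card M ≤ p ^ n := by
      obtain ⟨j, hj⟩ := IsPGroup.iff_card.mp (hG.to_subgroup M)
      have hlt : Nat.card M < Nat.card N := by
        by_contra hge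
        push Not at hge
        exact (ne_of_lt hMN) (Subgroup.eq_of_le_of_card_ge hMN.le hge)
      rw [hj] at hlt ⊢
      have h4 : p ^ j < p ^ (n + 1) := lt_of_lt_of_le hlt hc
      have h5 : j < n + 1 := (Nat.pow_lt_pow_iff_right hp.out.one_lt).mp h4
      exact Nat.pow_le_pow_right hpos (by omega)
    have ihM := ih M hMn hMcard
    have hcent : centralizer (N : Set G) = centralizer (M : Set G) ⊓ centralizer ({x} : Set G) := by
      apply le_antisymm
      · apply le_inf
        · exact Subgroup.centralizer_le hMN.le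
        · apply Subgroup.centralizer_le
          rw [Set.singleton_subset_iff]
          exact hxN
      · intro c hc
        obtain ⟨hc1, hc2⟩ := Subgroup.mem_inf.mp hc
        rw [mem_centralizer_singleton_iff] at hc2
        have h6 : N ≤ centralizer ({c} : Set G) := by
          rw [← hNeq]
          apply sup_le
          · intro m hm
            rw [mem_centralizer_singleton_iff]
            exact hc1 m hm
          · rw [zpowers_le, mem_centralizer_singleton_iff]
            exact hc2.symm
        rw [mem_centralizer_iff]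
        intro y hy
        have h7 := h6 hy
        rw [mem_centralizer_singleton_iff] at h7
        exact h7
    have hrel : (centralizer ({x} : Set G)).relIndex (centralizer (M : Set G)) ≤ Nat.card M := by
      apply relIndex_le_of_sep _ _
        (fun c => (⟨x⁻¹ * ((c : G) * x * (c : G)⁻¹), hxc c⟩ : M))
      intro c c' h
      have h8 : x⁻¹ * ((c : G) * x * (c : G)⁻¹) = x⁻¹ * ((c' : G) * x * (c' : G)⁻¹) :=
        congrArg Subtype.val h
      have h9 : (c : G) * x * (c : G)⁻¹ = (c' : G) * x * (c' : G)⁻¹ := mul_left_cancel h8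
      rw [mem_centralizer_singleton_iff]
      calc (c : G)⁻¹ * (c' : G) * x = (c : G)⁻¹ * ((c' : G) * x * (c' : G)⁻¹) * (c' : G) := by group
        _ = (c : G)⁻¹ * ((c : G) * x * (c : G)⁻¹) * (c' : G) := by rw [h9]
        _ = x * ((c : G)⁻¹ * (c' : G)) := by group
    rw [hcent, ← Subgroup.relIndex_mul_index (inf_le_left : centralizer (M : Set G) ⊓
      centralizer ({x} : Set G) ≤ centralizer (M : Set G)), Subgroup.inf_relIndex_left,
      Nat.triangle_succ, pow_add, mul_comm]
    exact Nat.mul_le_mul ihM (le_trans hrel hMcard)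

/-- The order of a p-group is bounded by p^(a(a+1)/2) when it has a maximal normal abelian subgroup of order p^a. -/
theorem result {G : Type*} [Group G] [Finite G] {p : ℕ} [Fact p.Prime] (hG : IsPGroup p G) (A : Subgroup G) [A.Normal] (hA : IsMulCommutative A) (hmax : ∀ B : Subgroup G, B.Normal → IsMulCommutative B → A ≤ B → B = A) (a : ℕ) (ha : Nat.card A = p ^ a) : Nat.card G ≤ p ^ (a * (a + 1) / 2) := by
  have hp := (Fact.out : p.Prime)
  have hAc : ∀ a ∈ A, ∀ b ∈ A, a * b = b * a := by
    intro a ha b hb
    have := hA.is_comm.comm (⟨a, ha⟩ : A) ⟨b, hb⟩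
    exact congrArg Subtype.val this
  have hAn : A.Normal := inferInstance
  -- `C_G(A) ≤ A`
  have hCA : centralizer (A : Set G) ≤ A := by
    by_contra hCA
    obtain ⟨x, hxC, hxA, hxc⟩ :=
      Cfsg.Agent.Lib.helper38.exists_central_mod_of_normal hG A (centralizer (A : Set G)) hCA
    rw [mem_centralizer_iff] at hxC
    set B := A ⊔ zpowers x with hB
    have hxB : x ∈ B := (le_sup_right : zpowers x ≤ B) (mem_zpowers x)
    have hAB : A ≤ B := le_sup_left
    have hT : B ≤ centralizer (A : Set G) ⊓ centralizer ({x} : Set G) := by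
      apply sup_le
      · intro a ha
        refine Subgroup.mem_inf.mpr ⟨?_, ?_⟩
        · rw [mem_centralizer_iff]; intro a' ha'; exact hAc a' ha' a ha
        · rw [mem_centralizer_singleton_iff]; exact hxC a ha
      · rw [zpowers_le]
        refine Subgroup.mem_inf.mpr ⟨?_, ?_⟩
        · rw [mem_centralizer_iff]; exact hxC
        · rw [mem_centralizer_singleton_iff]
    have hBc : ∀ b ∈ B, ∀ b' ∈ B, b * b' = b' * b := by
      intro b hb b' hb'
      obtain ⟨h1, h2⟩ := Subgroup.mem_inf.mp (hT hb)
      rw [mem_centralizer_iff] at h1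
      rw [mem_centralizer_singleton_iff] at h2
      have h3 : B ≤ centralizer ({b} : Set G) := by
        apply sup_le
        · intro a ha
          rw [mem_centralizer_singleton_iff]
          exact h1 a ha
        · rw [zpowers_le, mem_centralizer_singleton_iff]
          exact h2.symm
      have h4 := h3 hb'
      rw [mem_centralizer_singleton_iff] at h4
      exact h4.symm
    have hBn : B.Normal := by
      constructor
      intro n hn g
      have h1 : B.map (MulAut.conj g).toMonoidHom ≤ B := by
        rw [hB, Subgroup.map_sup]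
        apply sup_le
        · intro y hy
          obtain ⟨a, ha, rfl⟩ := hy
          exact hAB (hAn.conj_mem a ha g)
        · rw [MonoidHom.map_zpowers, zpowers_le]
          show g * x * g⁻¹ ∈ A ⊔ zpowers x
          have h2 : g * x * g⁻¹ = x * (x⁻¹ * (g * x * g⁻¹)) := by group
          rw [h2]
          exact mul_mem hxB (hAB (hxc g))
      exact h1 ⟨n, hn, rfl⟩
    have hBcomm : IsMulCommutative B := ⟨⟨fun u v => Subtype.ext (hBc u u.2 v v.2)⟩⟩
    have hBA : B = A := hmax B hBn hBcomm hAB
    exact hxA (hBA ▸ hxB)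
  have hidx := index_centralizer_le_pow hG a A hAn (le_of_eq ha)
  have hcardC : Nat.card (centralizer (A : Set G)) ≤ p ^ a := by
    rw [← ha]
    exact Subgroup.card_le_of_le hCA
  rw [← Subgroup.card_mul_index (centralizer (A : Set G))]
  have e : a * (a + 1) / 2 = a + a * (a - 1) / 2 := by
    have := Nat.triangle_succ a
    rw [Nat.add_sub_cancel, mul_comm] at this
    omega
  rw [e, pow_add]
  exact Nat.mul_le_mul hcardC hidx

end Cfsg.Agent.S0129
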