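import Cfsg.Statements.S0130
import Cfsg.Agent.Lib.helper3.ElemAb

set_option autoImplicit false
open Cfsg
open scoped commutatorElement

namespace Cfsg.Agent.S0130

universe u

open Cfsg.Agent.Lib.helper3 in
/-- Alperin's lemma, inductive core: if a normal abelian subgroup `E` of exponent dividing
`q = p ^ n ≠ 2` of a `p`-group `P` is centralized by an element `x ∉ E` with `x ^ q = 1`, then
there is such an element `y` with `[y, P] ≤ E`. -/
theorem exists_central_mod (p : ℕ) [Fact p.Prime] (k : ℕ) (hk2 : p ^ k ≠ 2) :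
    ∀ (n : ℕ) (P : Type u) [Group P] [Finite P], Nat.card P = n → IsPGroup p P →
    ∀ (E : Subgroup P), E.Normal → (∀ a ∈ E, ∀ b ∈ E, a * b = b * a) →
    (∀ a ∈ E, a ^ p ^ k = 1) →
    ∀ x : P, x ∉ E → x ^ p ^ k = 1 → (∀ e ∈ E, x * e = e * x) →
    ∃ y : P, y ∉ E ∧ y ^ p ^ k = 1 ∧ (∀ e ∈ E, y * e = e * y) ∧ ∀ g : P, ⁅y, g⁆ ∈ E := by
  intro n
  induction n using Nat.strong_induction_on with
  | _ n ih =>
  intro P _ _ hn hP E hEn hEc hEp x hxE hxp hxc
  have hpP : p.Prime := Fact.out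
  have hchoose : p ∣ (p ^ k).choose 2 := Nat.Prime.dvd_choose_pow hpP (by norm_num) (Ne.symm hk2)
  by_cases htop : E ⊔ Subgroup.zpowers x = ⊤
  · refine ⟨x, hxE, hxp, hxc, fun g => ?_⟩
    have hle : E ⊔ Subgroup.zpowers x ≤ Subgroup.centralizer {x} := by
      refine sup_le ?_ ?_
      · intro e he
        rw [Subgroup.mem_centralizer_singleton_iff]
        exact (hxc e he).symm
      · rw [Subgroup.zpowers_le, Subgroup.mem_centralizer_singleton_iff]
    have hg : g ∈ Subgroup.centralizer {x} := hle (htop ▸ Subgroup.mem_top g)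
    rw [Subgroup.mem_centralizer_singleton_iff] at hg
    have h1 : ⁅x, g⁆ = 1 := by
      rw [commutatorElement_eq_one_iff_commute]
      exact hg.symm
    rw [h1]
    exact E.one_mem
  · obtain ⟨M, hM, hle⟩ := (eq_top_or_exists_le_coatom _).resolve_left htop
    obtain ⟨hMn, hMi⟩ := coatom_normal_index hP hM
    have hEM : E ≤ M := le_sup_left.trans hle
    have hxM : x ∈ M := hle (Subgroup.mem_sup_right (Subgroup.mem_zpowers x))
    have hcardM : Nat.card M < n := by
      rw [← hn, ← Subgroup.card_mul_index M, hMi]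
      have h1 := hpP.one_lt
      have h2 : 0 < Nat.card M := Nat.card_pos
      nlinarith
    obtain ⟨y₀', h1, h2, h3, h4⟩ := ih _ hcardM M rfl (hP.to_subgroup M) (E.subgroupOf M)
      inferInstance
      (fun a ha b hb => Subtype.ext (hEc a (Subgroup.mem_subgroupOf.mp ha) b
        (Subgroup.mem_subgroupOf.mp hb)))
      (fun a ha => Subtype.ext (hEp a (Subgroup.mem_subgroupOf.mp ha)))
      ⟨x, hxM⟩ (fun h => hxE (Subgroup.mem_subgroupOf.mp h)) (Subtype.ext hxp)
      (fun e he => Subtype.ext (hxc e (Subgroup.mem_subgroupOf.mp he)))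
    obtain ⟨y₀, hy₀M⟩ := y₀'
    have hy₀E : y₀ ∉ E := fun h => h1 (Subgroup.mem_subgroupOf.mpr h)
    have hy₀p : y₀ ^ p ^ k = 1 := congrArg Subtype.val h2
    have hy₀c : ∀ e ∈ E, y₀ * e = e * y₀ := fun e he =>
      congrArg Subtype.val (h3 ⟨e, hEM he⟩ (Subgroup.mem_subgroupOf.mpr he))
    have hy₀m : ∀ m ∈ M, ⁅y₀, m⁆ ∈ E := fun m hm =>
      Subgroup.mem_subgroupOf.mp (h4 ⟨m, hm⟩)
    let S : Set P := (E : Set P) ∪ {u | ∃ g : P, u = g * y₀ * g⁻¹}
    have hS : ∀ g x : P, x ∈ S → g * x * g⁻¹ ∈ S := by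
      rintro g x (hx | ⟨k, rfl⟩)
      · exact Or.inl (hEn.conj_mem x hx g)
      · refine Or.inr ⟨g * k, ?_⟩
        group
    have hDn : (Subgroup.closure S).Normal :=
      Cfsg.Agent.S0126.normal_closure_of_conj_invariant S hS
    have hSprop : ∀ s ∈ S, s ∈ M ∧ (∀ e ∈ E, s * e = e * s) ∧ (∀ m ∈ M, ⁅s, m⁆ ∈ E) := by
      rintro s (hs | ⟨g, rfl⟩)
      · refine ⟨hEM hs, fun e he => hEc s hs e he, fun m hm => ?_⟩
        have e1 : ⁅s, m⁆ = s * (m * s⁻¹ * m⁻¹) := by rw [commutatorElement_def]; group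
        rw [e1]
        exact E.mul_mem hs (hEn.conj_mem _ (E.inv_mem hs) m)
      · refine ⟨hMn.conj_mem _ hy₀M g, fun e he => ?_, fun m hm => ?_⟩
        · have h5 := hy₀c (g⁻¹ * e * g) (by
            have := hEn.conj_mem e he g⁻¹
            rwa [inv_inv] at this)
          calc g * y₀ * g⁻¹ * e = g * (y₀ * (g⁻¹ * e * g)) * g⁻¹ := by group
            _ = g * ((g⁻¹ * e * g) * y₀) * g⁻¹ := by rw [h5]
            _ = e * (g * y₀ * g⁻¹) := by group
        · have h5 := hy₀m (g⁻¹ * m * g) (by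
            have := hMn.conj_mem m hm g⁻¹
            rwa [inv_inv] at this)
          have e1 : ⁅g * y₀ * g⁻¹, m⁆ = g * ⁅y₀, g⁻¹ * m * g⁆ * g⁻¹ := by
            simp only [commutatorElement_def]
            group
          rw [e1]
          exact hEn.conj_mem _ h5 g
    have hDM : Subgroup.closure S ≤ M :=
      (Subgroup.closure_le _).mpr (fun s hs => (hSprop s hs).1)
    have hDc : ∀ d ∈ Subgroup.closure S, ∀ e ∈ E, d * e = e * d := by
      intro d hd e he
      have hle : Subgroup.closure S ≤ Subgroup.centralizer {e} := by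
        rw [Subgroup.closure_le]
        intro s hs
        rw [SetLike.mem_coe, Subgroup.mem_centralizer_singleton_iff]
        exact (hSprop s hs).2.1 e he
      exact Subgroup.mem_centralizer_singleton_iff.mp (hle hd)
    have hDcomm : ∀ d ∈ Subgroup.closure S, ∀ m ∈ M, ⁅d, m⁆ ∈ E := by
      intro d hd m hm
      induction hd using Subgroup.closure_induction with
      | mem s hs => exact (hSprop s hs).2.2 m hm
      | one =>
        rw [commutatorElement_one_left]
        exact E.one_mem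
      | mul a b _ _ iha ihb =>
        have e1 : ⁅a * b, m⁆ = a * ⁅b, m⁆ * a⁻¹ * ⁅a, m⁆ := by
          simp only [commutatorElement_def]
          group
        rw [e1]
        exact E.mul_mem (hEn.conj_mem _ ihb a) iha
      | inv a _ iha =>
        have e1 : ⁅a⁻¹, m⁆ = a⁻¹ * ⁅a, m⁆⁻¹ * a⁻¹⁻¹ := by
          simp only [commutatorElement_def]
          group
        rw [e1]
        exact hEn.conj_mem _ (E.inv_mem iha) a⁻¹
    -- the power formula in `D`
    have hpow : ∀ a ∈ Subgroup.closure S, ∀ b ∈ Subgroup.closure S, ∀ j : ℕ,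
        (a * b) ^ j = a ^ j * b ^ j * ⁅b, a⁆ ^ (j.choose 2) ∧ ⁅b ^ j, a⁆ = ⁅b, a⁆ ^ j := by
      intro a ha b hb j
      have hcE : ⁅b, a⁆ ∈ E := hDcomm b hb a (hDM ha)
      have hc : b * a = ⁅b, a⁆ * a * b := by
        rw [commutatorElement_def]
        group
      have hca : Commute ⁅b, a⁆ a := (hDc a ha _ hcE).symm
      have hcb : Commute ⁅b, a⁆ b := (hDc b hb _ hcE).symm
      refine ⟨Cfsg.Agent.Lib.helper66.mul_pow_of_central_comm hc hca hcb j, ?_⟩
      have h5 := Cfsg.Agent.Lib.helper66.pow_mul_of_central_comm hc hcb j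
      rw [commutatorElement_def, h5]
      group
    -- the subgroup `F` of elements of `D` whose `p`-th power lies in `E`
    let F : Subgroup P :=
      { carrier := {d | d ∈ Subgroup.closure S ∧ d ^ p ∈ E}
        mul_mem' := by
          rintro a b ⟨ha, hap⟩ ⟨hb, hbp⟩
          refine ⟨Subgroup.mul_mem _ ha hb, ?_⟩
          rw [(hpow a ha b hb p).1]
          exact E.mul_mem (E.mul_mem hap hbp) (E.pow_mem (hDcomm b hb a (hDM ha)) _)
        one_mem' := ⟨Subgroup.one_mem _, by rw [one_pow]; exact E.one_mem⟩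
        inv_mem' := by
          rintro a ⟨ha, hap⟩
          refine ⟨Subgroup.inv_mem _ ha, ?_⟩
          rw [inv_pow]
          exact E.inv_mem hap }
    have hFmem : ∀ d : P, d ∈ F ↔ d ∈ Subgroup.closure S ∧ d ^ p ∈ E := fun d => Iff.rfl
    -- commutators in `F` have order dividing `p`
    have hFcomm : ∀ a ∈ F, ∀ b ∈ F, ⁅b, a⁆ ^ p = 1 := by
      intro a ha b hb
      rw [← (hpow a ha.1 b hb.1 p).2, commutatorElement_eq_one_iff_commute]
      exact (hDc a ha.1 _ hb.2).symm
    have hFq : ∀ a ∈ F, ∀ b ∈ F, (a * b) ^ p ^ k = a ^ p ^ k * b ^ p ^ k := by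
      intro a ha b hb
      rw [(hpow a ha.1 b hb.1 (p ^ k)).1]
      obtain ⟨t, ht⟩ := hchoose
      rw [ht, pow_mul, hFcomm a ha b hb, one_pow, mul_one]
    let Ω : Subgroup P :=
      { carrier := {d | d ∈ F ∧ d ^ p ^ k = 1}
        mul_mem' := by
          rintro a b ⟨ha, hap⟩ ⟨hb, hbp⟩
          refine ⟨F.mul_mem ha hb, ?_⟩
          rw [hFq a ha b hb, hap, hbp, one_mul]
        one_mem' := ⟨F.one_mem, one_pow _⟩
        inv_mem' := by
          rintro a ⟨ha, hap⟩
          refine ⟨F.inv_mem ha, ?_⟩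
          rw [inv_pow, hap, inv_one] }
    have hΩmem : ∀ d : P, d ∈ Ω ↔ d ∈ F ∧ d ^ p ^ k = 1 := fun d => Iff.rfl
    have hΩn : Ω.Normal := by
      refine ⟨fun d hd g => ?_⟩
      rw [hΩmem, hFmem] at hd ⊢
      refine ⟨⟨hDn.conj_mem d hd.1.1 g, ?_⟩, ?_⟩
      · rw [conj_pow]
        exact hEn.conj_mem _ hd.1.2 g
      · rw [conj_pow, hd.2]
        group
    have hEΩ : E ≤ Ω := by
      intro e he
      exact ⟨⟨Subgroup.subset_closure (Or.inl he), E.pow_mem he p⟩, hEp e he⟩
    -- an element of `Ω` outside `E`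
    have hex : ∃ j : ℕ, y₀ ^ p ^ j ∈ E := ⟨k, by rw [hy₀p]; exact E.one_mem⟩
    classical
    have hmin : ∀ m : ℕ, m < Nat.find hex → ¬ y₀ ^ p ^ m ∈ E := fun m hm => Nat.find_min hex hm
    have hspec := Nat.find_spec hex
    have hjk : Nat.find hex ≤ k := Nat.find_le (by rw [hy₀p]; exact E.one_mem)
    generalize Nat.find hex = j at hmin hspec hjk
    have hj0 : j ≠ 0 := by
      rintro rfl
      rw [pow_zero, pow_one] at hspec
      exact hy₀E hspec
    have hy₀D : y₀ ∈ Subgroup.closure S := Subgroup.subset_closure (Or.inr ⟨1, by group⟩)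
    have hy₁D : y₀ ^ p ^ (j - 1) ∈ Subgroup.closure S := Subgroup.pow_mem _ hy₀D _
    have hy₁Ω : y₀ ^ p ^ (j - 1) ∈ Ω := by
      refine ⟨⟨hy₁D, ?_⟩, ?_⟩
      · rw [← pow_mul, ← pow_succ, Nat.sub_add_cancel (Nat.pos_of_ne_zero hj0)]
        exact hspec
      · rw [← pow_mul, mul_comm, pow_mul, hy₀p, one_pow]
    have hEΩ' : E < Ω := by
      refine lt_of_le_of_ne hEΩ ?_
      intro heq
      apply hmin (j - 1) (by omega)
      rw [heq]
      exact hy₁Ω
    obtain ⟨y, hyΩ, hyE, -, hyc⟩ := exists_mem_not_mem_of_normal_lt hP E Ω hEΩ'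
    exact ⟨y, hyE, hyΩ.2, hDc y hyΩ.1.1, hyc⟩

/-- Let A be an abelian normal subgroup of a finite p-group G, maximal among abelian normal subgroups of exponent dividing p^n, where p^n ≠ 2. Then every element of C_G(A) of order dividing p^n lies in A. -/
theorem result {G : Type*} [Group G] [Finite G] {p : ℕ} [Fact p.Prime] (hG : IsPGroup p G) (n : ℕ) (hn : p ^ n ≠ 2) (A : Subgroup G) [A.Normal] (hA : IsMulCommutative A) (hAe : ∀ a ∈ A, a ^ p ^ n = 1) (hmax : ∀ B : Subgroup G, B.Normal → IsMulCommutative B → (∀ b ∈ B, b ^ p ^ n = 1) → A ≤ B → B = A) (x : G) (hx : x ∈ Subgroup.centralizer (A : Set G)) (hxn : x ^ p ^ n = 1) : x ∈ A := by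
  by_contra hxA
  have hAn : A.Normal := inferInstance
  have hAc : ∀ a ∈ A, ∀ b ∈ A, a * b = b * a := fun a ha b hb =>
    congrArg Subtype.val (hA.is_comm.comm (⟨a, ha⟩ : A) ⟨b, hb⟩)
  have hxc : ∀ e ∈ A, x * e = e * x := fun e he =>
    ((Subgroup.mem_centralizer_iff.mp hx) e he).symm
  obtain ⟨y, hyA, hyp, hyc, hyg⟩ := exists_central_mod p n hn (Nat.card G) G rfl hG A hAn hAc hAe
    x hxA hxn hxc
  -- the subgroup `A ⊔ ⟨y⟩`
  have hB : Cfsg.IsElementaryAbelian (p ^ n) (A ⊔ Subgroup.zpowers y) :=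
    Cfsg.Agent.Lib.helper3.isElementaryAbelian_sup_zpowers (p ^ n) A ⟨hA, hAe⟩ y hyp hyc
  have hBn : (A ⊔ Subgroup.zpowers y).Normal := by
    refine ⟨fun n hn g => ?_⟩
    have hle : A ⊔ Subgroup.zpowers y ≤
        (A ⊔ Subgroup.zpowers y).comap (MulAut.conj g).toMonoidHom := by
      refine sup_le ?_ ?_
      · intro z hz
        rw [Subgroup.mem_comap]
        show g * z * g⁻¹ ∈ _
        exact Subgroup.mem_sup_left (hAn.conj_mem z hz g)
      · rw [Subgroup.zpowers_le, Subgroup.mem_comap]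
        show g * y * g⁻¹ ∈ _
        have e : g * y * g⁻¹ = ⁅y, g⁆⁻¹ * y := by
          rw [commutatorElement_def]
          group
        rw [e]
        exact Subgroup.mul_mem _ (Subgroup.mem_sup_left (A.inv_mem (hyg g)))
          (Subgroup.mem_sup_right (Subgroup.mem_zpowers y))
    exact hle hn
  have heq := hmax _ hBn hB.1 hB.2 le_sup_left
  apply hyA
  rw [← heq]
  exact Subgroup.mem_sup_right (Subgroup.mem_zpowers y)

end Cfsg.Agent.S0130
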