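import Cfsg.Statements.S0136
import Cfsg.Agent.Lib.helper4.CharTheory

set_option autoImplicit false
open Cfsg

namespace Cfsg.Agent.S0136

/-- Two elements of a finite group are conjugate if and only if no irreducible complex character separates them. -/
theorem result {G : Type*} [Group G] [Finite G] (g h : G) : IsConj g h ↔ ∀ χ : Cfsg.IrrCharacter G, (χ : G → ℂ) g = (χ : G → ℂ) h := by
  have := Fintype.ofFinite (Cfsg.IrrCharacter G)
  constructor
  · intro hgh χ
    exact Cfsg.Agent.Lib.helper4.IsClassFunction_eq_of_isConj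
      (Cfsg.Agent.Lib.helper4.isClassFunction_of_isIrrCharacter χ.2) hgh
  · intro hχ
    by_contra hgh
    have h0 := Cfsg.Agent.Lib.helper4.sum_irr_mul_conj_of_not_isConj hgh
    simp only [hχ] at h0
    rw [Cfsg.Agent.Lib.helper4.sum_irr_mul_conj_of_isConj (IsConj.refl h)] at h0
    have hpos : 0 < Nat.card (Subgroup.centralizer ({h} : Set G)) := Nat.card_pos
    exact hpos.ne' (by exact_mod_cast h0)

end Cfsg.Agent.S0136
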