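import Cfsg.Statements.S0157
import Cfsg.Agent.Lib.helper19.Burnside
import Cfsg.Agent.Lib.helper5.Irr
import Cfsg.Agent.Lib.helper84.Brauer

set_option autoImplicit false
open Cfsg

namespace Cfsg.Agent.S0157

open Cfsg.Agent.Lib.helper83 Cfsg.Agent.Lib.helper84
open scoped ComplexConjugate

/-- The character of a permutation representation counts fixed points. -/
theorem ofMulAction_character {G X : Type*} [Group G] [MulAction G X] [Finite X] (g : G) :
    (Representation.ofMulAction ℂ G X).character g = (Nat.card (MulAction.fixedBy X g) : ℂ) := by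
  classical
  have := Fintype.ofFinite X
  unfold Representation.character
  rw [LinearMap.trace_eq_matrix_trace ℂ (MonoidAlgebra.basis X ℂ), Matrix.trace]
  have h : ∀ i : X, (LinearMap.toMatrix (MonoidAlgebra.basis X ℂ) (MonoidAlgebra.basis X ℂ)
      (Representation.ofMulAction ℂ G X g)).diag i = if g • i = i then 1 else 0 := by
    intro i
    simp only [Matrix.diag, LinearMap.toMatrix_apply, MonoidAlgebra.basis_apply,
      Representation.ofMulAction_single]
    change (MonoidAlgebra.single (g • i) (1 : ℂ)).coeff i = _
    rw [MonoidAlgebra.coeff_single, Finsupp.single_apply]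
  simp only [h]
  rw [Finset.sum_boole]
  show _ = (Nat.card {x : X // g • x = x} : ℂ)
  rw [Nat.card_eq_fintype_card, Fintype.card_subtype]

theorem natCast_mul_pred (n : ℕ) : ((n * (n - 1) : ℕ) : ℂ) = (n : ℂ) * ((n : ℂ) - 1) := by
  cases n with
  | zero => simp
  | succ m => push_cast; simp

/-- For a transitive action of a finite group on a finite set with at least two points: the action is 2-transitive if and only if the function sending g to (number of fixed points of g) − 1 is an irreducible character. -/
theorem result {G : Type*} [Group G] [Finite G] (X : Type*) [MulAction G X] [Finite X] [MulAction.IsPretransitive G X] (hX : 2 ≤ Nat.card X) : Cfsg.IsIrrCharacter G (fun g => (Nat.card (MulAction.fixedBy X g) : ℂ) - 1) ↔ MulAction.IsMultiplyPretransitive G X 2 := by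
  classical
  have := Fintype.ofFinite G
  have := Fintype.ofFinite X
  have hXne : Nonempty X := by
    have h0 : 0 < Nat.card X := by omega
    exact (Nat.card_pos_iff.1 h0).1
  obtain ⟨a, b, hab⟩ : ∃ a b : X, a ≠ b := by
    have h1 : 1 < Nat.card X := by omega
    rw [Nat.card_eq_fintype_card] at h1
    exact Fintype.exists_pair_of_one_lt_card h1
  have hπchar : IsCharacter G (fun g : G => (Nat.card (MulAction.fixedBy X g) : ℂ)) := by
    have h := Cfsg.Agent.Lib.helper5.isCharacter_of_rep (Representation.ofMulAction ℂ G X)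
    have e : (Representation.ofMulAction ℂ G X).character =
        fun g : G => (Nat.card (MulAction.fixedBy X g) : ℂ) := funext ofMulAction_character
    rwa [e] at h
  have hG0 : (Nat.card G : ℂ) ≠ 0 := by exact_mod_cast Nat.card_pos.ne'
  have hB1 : ∑ g : G, (Nat.card (MulAction.fixedBy X g) : ℂ) = (Nat.card G : ℂ) := by
    have h := Cfsg.Agent.Lib.helper19.sum_card_fixedBy_of_pretransitive (K := G) (X := X)
    rw [Nat.card_eq_fintype_card, ← h]
    push_cast
    rfl
  have hnorm : classInner (fun g : G => (Nat.card (MulAction.fixedBy X g) : ℂ) - 1)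
      (fun g : G => (Nat.card (MulAction.fixedBy X g) : ℂ) - 1) =
      (Nat.card G : ℂ)⁻¹ * ((∑ g : G, Nat.card (MulAction.fixedBy X g) *
        (Nat.card (MulAction.fixedBy X g) - 1) : ℕ) : ℂ) := by
    rw [classInner_def]
    congr 1
    have h1 : ∀ g : G, ((Nat.card (MulAction.fixedBy X g) : ℂ) - 1) *
        conj ((Nat.card (MulAction.fixedBy X g) : ℂ) - 1) =
        ((Nat.card (MulAction.fixedBy X g) * (Nat.card (MulAction.fixedBy X g) - 1) : ℕ) : ℂ)
          - (Nat.card (MulAction.fixedBy X g) : ℂ) + 1 := by
      intro g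
      rw [natCast_mul_pred, map_sub, Complex.conj_natCast, map_one]
      ring
    rw [Finset.sum_congr rfl (fun g _ => h1 g), Finset.sum_add_distrib, Finset.sum_sub_distrib,
      hB1]
    simp [Nat.card_eq_fintype_card]
  constructor
  · intro hirr
    have h1 := classInner_irr (⟨_, hirr⟩ : IrrCharacter G) ⟨_, hirr⟩
    rw [if_pos rfl] at h1
    rw [hnorm] at h1
    have h2 : ((∑ g : G, Nat.card (MulAction.fixedBy X g) *
        (Nat.card (MulAction.fixedBy X g) - 1) : ℕ) : ℂ) = (Nat.card G : ℂ) := by
      field_simp at h1
      exact h1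
    have h3 : ∑ g : G, Nat.card (MulAction.fixedBy X g) *
        (Nat.card (MulAction.fixedBy X g) - 1) = Nat.card G := by exact_mod_cast h2
    have : Fintype (MulAction.orbitRel.Quotient G (Fin 2 ↪ X)) := Fintype.ofFinite _
    have hB := MulAction.sum_card_fixedBy_eq_card_orbits_mul_card_group G (Fin 2 ↪ X)
    have h4 : ∑ g : G, Fintype.card (MulAction.fixedBy (Fin 2 ↪ X) g) = Nat.card G := by
      rw [← h3]
      refine Finset.sum_congr rfl fun g _ => ?_
      rw [← Cfsg.Agent.Lib.helper19.card_fixedBy_emb, Nat.card_eq_fintype_card]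
    rw [h4, Nat.card_eq_fintype_card] at hB
    have h5 : Fintype.card (Quotient (MulAction.orbitRel G (Fin 2 ↪ X))) = 1 := by
      have hpos : 0 < Fintype.card G := Fintype.card_pos
      have h7 : 1 * Fintype.card G =
          Fintype.card (Quotient (MulAction.orbitRel G (Fin 2 ↪ X))) * Fintype.card G := by
        rw [one_mul]; exact hB
      exact (Nat.eq_of_mul_eq_mul_right hpos h7).symm
    have h6 : Subsingleton (MulAction.orbitRel.Quotient G (Fin 2 ↪ X)) :=
      Fintype.card_le_one_iff_subsingleton.1 (le_of_eq h5)
    exact (MulAction.pretransitive_iff_subsingleton_quotient G (Fin 2 ↪ X)).2 h6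
  · intro h2
    have hB2 := Cfsg.Agent.Lib.helper19.sum_card_fixedBy_two_of_pretransitive h2 hab
    rw [hB2, ← Nat.card_eq_fintype_card, inv_mul_cancel₀ hG0] at hnorm
    apply isIrrCharacter_of_norm_one _ _ _ hnorm
    · -- positivity of the degree
      have hfix : Nat.card (MulAction.fixedBy X (1 : G)) = Nat.card X := by
        have e : MulAction.fixedBy X (1 : G) = Set.univ := by
          ext x; simp
        rw [e, Nat.card_coe_set_eq, Set.ncard_univ]
      show 0 < ((Nat.card (MulAction.fixedBy X (1 : G)) : ℂ) - 1).re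
      rw [hfix]
      have h2' : (2 : ℝ) ≤ (Nat.card X : ℝ) := by exact_mod_cast hX
      rw [Complex.sub_re, Complex.natCast_re, Complex.one_re]
      linarith
    · -- class function
      intro g h
      have := isClassFunction_of_isCharacter hπchar g h
      show (Nat.card (MulAction.fixedBy X (h * g * h⁻¹)) : ℂ) - 1 = _
      rw [this]
    · intro χ
      obtain ⟨n, hn⟩ := classInner_isCharacter_nat hπchar (isCharacter_of_irr χ.2)
      have h1 := classInner_sub_left (fun g : G => (Nat.card (MulAction.fixedBy X g) : ℂ))
        (fun _ => (1 : ℂ)) (χ : G → ℂ)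
      have h3 := classInner_irr (trivIrr G) χ
      have h3' : classInner (fun _ : G => (1 : ℂ)) (χ : G → ℂ) = if trivIrr G = χ then 1 else 0 :=
        h3
      rw [h1, hn, h3']
      by_cases hχ : trivIrr G = χ
      · rw [if_pos hχ]; exact ⟨(n : ℤ) - 1, by push_cast; rfl⟩
      · rw [if_neg hχ]; exact ⟨(n : ℤ), by push_cast; ring⟩

end Cfsg.Agent.S0157
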