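import Cfsg.Statements.S0158
import Cfsg.Agent.Lib.helper78.FrobSchur
import Cfsg.Agent.Lib.helper4.RepBasic

set_option autoImplicit false
open Cfsg

namespace Cfsg.Agent.S0158

/-- The Frobenius–Schur indicator of an irreducible complex representation of a finite group — the average over s of the character at s * s — is 0, 1 or −1, and it vanishes exactly when some character value is not real. -/
theorem result {G : Type*} [Group G] [Fintype G] {V : Type*} [AddCommGroup V] [Module ℂ V] [FiniteDimensional ℂ V] (ρ : Representation ℂ G V) [ρ.IsIrreducible] : ((Nat.card G : ℂ)⁻¹ * ∑ s : G, ρ.character (s * s) = 0 ∨ (Nat.card G : ℂ)⁻¹ * ∑ s : G, ρ.character (s * s) = 1 ∨ (Nat.card G : ℂ)⁻¹ * ∑ s : G, ρ.character (s * s) = -1) ∧ ((Nat.card G : ℂ)⁻¹ * ∑ s : G, ρ.character (s * s) = 0 ↔ ∃ s : G, (ρ.character s).im ≠ 0) := by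
  obtain ⟨n, ρ', hρ', hχ⟩ := Cfsg.Agent.Lib.helper4.isIrrCharacter_of_rep ρ
  rw [← hχ]
  refine ⟨Cfsg.Agent.Lib.helper78.fs_indicator_values ρ' hρ', ?_⟩
  rcases Cfsg.Agent.Lib.helper78.fs_trichotomy ρ' hρ' with ⟨hbot, h0⟩ | ⟨hreal, -, c, hc, -, hν⟩
  · refine ⟨fun _ => ?_, fun _ => h0⟩
    by_contra hno
    push Not at hno
    have hreal : ∀ g : G, (starRingEnd ℂ) (ρ'.character g) = ρ'.character g := fun g =>
      Complex.conj_eq_iff_im.mpr (hno g)
    have h1 := Cfsg.Agent.Lib.helper78.finrank_fsForms_of_real ρ' hρ' hreal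
    rw [hbot] at h1
    simp at h1
  · have hne : (Nat.card G : ℂ)⁻¹ * ∑ g : G, ρ'.character (g * g) ≠ 0 := by
      rw [hν]
      rcases hc with rfl | rfl <;> norm_num
    refine ⟨fun h => absurd h hne, ?_⟩
    rintro ⟨s, hs⟩
    exact absurd (Complex.conj_eq_iff_im.mp (hreal s)) hs

end Cfsg.Agent.S0158
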