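import Cfsg.Statements.S0159
import Cfsg.Agent.Lib.helper83.CharBasic

set_option autoImplicit false
open Cfsg

namespace Cfsg.Agent.S0159

open Cfsg.Agent.Lib.helper83
open scoped ComplexConjugate

/-- The number of solutions of s * s = 1 in a finite group equals the sum, over the irreducible characters χ, of (the average over s of χ (s * s)) times χ 1. -/
theorem result {G : Type*} [Group G] [Fintype G] : (Nat.card {s : G // s * s = 1} : ℂ) = ∑ᶠ χ : Cfsg.IrrCharacter G, ((Nat.card G : ℂ)⁻¹ * ∑ s : G, (χ : G → ℂ) (s * s)) * (χ : G → ℂ) 1 := by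
  classical
  have := Fintype.ofFinite (Cfsg.IrrCharacter G)
  rw [finsum_eq_sum_of_fintype]
  -- the square-root counting function
  set f : G → ℂ := fun g => ∑ s : G, if s * s = g then (1 : ℂ) else 0 with hf
  have hfcf : IsClassFunction G f := by
    intro g y
    simp only [hf]
    refine (Fintype.sum_bijective (fun s : G => y * s * y⁻¹) (MulAut.conj y).bijective _ _
      fun s => ?_).symm
    have : (y * s * y⁻¹) * (y * s * y⁻¹) = y * g * y⁻¹ ↔ s * s = g := by
      constructor
      · intro h
        have h' : y * (s * s) * y⁻¹ = y * g * y⁻¹ := by rw [← h]; group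
        exact mul_left_cancel (mul_right_cancel h')
      · intro h
        rw [← h]; group
    rw [if_congr this rfl rfl]
  have hexp := classFunction_expansion f hfcf 1
  have hf1 : f 1 = (Nat.card {s : G // s * s = 1} : ℂ) := by
    simp only [hf]
    rw [Finset.sum_boole, Nat.card_eq_fintype_card, Fintype.card_subtype]
  rw [← hf1, hexp]
  refine Finset.sum_congr rfl fun χ _ => ?_
  congr 2
  -- ∑ x, f x * conj (χ x) = ∑ s, χ (s * s)
  have h1 : ∑ x : G, f x * conj ((χ : G → ℂ) x) = ∑ s : G, conj ((χ : G → ℂ) (s * s)) := by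
    simp only [hf, Finset.sum_mul]
    rw [Finset.sum_comm]
    refine Finset.sum_congr rfl fun s _ => ?_
    simp [ite_mul]
  rw [h1]
  refine Fintype.sum_bijective (fun s : G => s⁻¹) (Equiv.inv G).bijective _ _ fun s => ?_
  rw [← irr_inv]
  group

end Cfsg.Agent.S0159
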