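import Cfsg.Statements.S0160
import Cfsg.Agent.Lib.helper84.Brauer

set_option autoImplicit false
open Cfsg

namespace Cfsg.Agent.S0160

open Cfsg.Agent.Lib.helper83 Cfsg.Agent.Lib.helper84

/-- A finite group has as many real-valued irreducible complex characters as conjugacy classes closed under taking inverses. -/
theorem result {G : Type*} [Group G] [Finite G] : Nat.card {χ : Cfsg.IrrCharacter G // ∀ g : G, ((χ : G → ℂ) g).im = 0} = Nat.card {C : ConjClasses G // ∀ g : G, ConjClasses.mk g = C → IsConj g g⁻¹} := by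
  classical
  let T : IrrCharacter G → IrrCharacter G :=
    fun χ => ⟨fun g => (χ : G → ℂ) g⁻¹, irr_comp_inv χ⟩
  have hP : ∀ g : G, (∀ x : G, ConjClasses.mk x = ConjClasses.mk g → IsConj x x⁻¹) ↔
      IsConj g g⁻¹ := by
    intro g
    constructor
    · intro h; exact h g rfl
    · intro h x hx
      have hxg : IsConj x g := ConjClasses.mk_eq_mk_iff_isConj.1 hx
      have hinv : IsConj g⁻¹ x⁻¹ := by
        obtain ⟨c, hc⟩ := isConj_iff.1 hxg
        refine isConj_iff.2 ⟨c⁻¹, ?_⟩
        rw [← hc]; group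
      exact (hxg.trans h).trans hinv
  have h := card_irr_fixed_eq (G := G) (fun g => g⁻¹) T (fun χ g => rfl)
    (fun C => ∀ g : G, ConjClasses.mk g = C → IsConj g g⁻¹) hP
  rw [← h]
  apply Nat.card_congr
  apply Equiv.subtypeEquivRight
  intro χ
  constructor
  · intro hre
    apply Subtype.ext
    funext g
    show (χ : G → ℂ) g⁻¹ = (χ : G → ℂ) g
    rw [irr_inv]
    exact Complex.conj_eq_iff_im.2 (hre g)
  · intro hT g
    have : (χ : G → ℂ) g⁻¹ = (χ : G → ℂ) g := congrFun (congrArg Subtype.val hT) g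
    rw [irr_inv] at this
    exact Complex.conj_eq_iff_im.1 this

end Cfsg.Agent.S0160
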