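import Cfsg.Statements.S0161
import Cfsg.Agent.Lib.helper83.CharBasic
import Cfsg.Agent.Lib.helper83.CharBasic2
import Cfsg.Agent.Lib.helper82.CharInt

set_option autoImplicit false
open Cfsg

namespace Cfsg.Agent.S0161

open Cfsg.Agent.Lib.helper83
open scoped ComplexConjugate

/-- A sum of algebraic integers over a finite set with a fixed-point-free involution preserving
the summand is twice an algebraic integer. -/
theorem sum_pairs_two_mul {α : Type*} [DecidableEq α] (σ : α → α) (F : α → ℂ) :
    ∀ (k : ℕ) (S : Finset α), S.card = k → (∀ x ∈ S, σ x ∈ S) → (∀ x ∈ S, σ (σ x) = x) →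
      (∀ x ∈ S, σ x ≠ x) → (∀ x ∈ S, F (σ x) = F x) → (∀ x ∈ S, IsIntegral ℤ (F x)) →
      ∃ b : ℂ, IsIntegral ℤ b ∧ ∑ x ∈ S, F x = 2 * b := by
  intro k
  induction k using Nat.strong_induction_on with
  | _ k ih =>
    intro S hk hσS hσσ hne hF hint
    rcases S.eq_empty_or_nonempty with hS | ⟨x, hx⟩
    · exact ⟨0, isIntegral_zero, by simp [hS]⟩
    · set S' := (S.erase x).erase (σ x) with hS'
      have hσx : σ x ∈ S.erase x := Finset.mem_erase.2 ⟨hne x hx, hσS x hx⟩
      have hmem' : ∀ y, y ∈ S' ↔ y ≠ σ x ∧ y ≠ x ∧ y ∈ S := by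
        intro y; simp [hS', Finset.mem_erase]
      have hcard : S'.card < k := by
        rw [hS', Finset.card_erase_of_mem hσx, Finset.card_erase_of_mem hx, hk]
        have : 0 < S.card := Finset.card_pos.2 ⟨x, hx⟩
        omega
      obtain ⟨b, hb, hsum⟩ := ih S'.card hcard S' rfl
        (by
          intro y hy
          rw [hmem'] at hy ⊢
          refine ⟨?_, ?_, hσS y hy.2.2⟩
          · intro h
            apply hy.2.1
            have := congrArg σ h
            rw [hσσ y hy.2.2, hσσ x hx] at this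
            exact this
          · intro h
            apply hy.1
            have := congrArg σ h
            rw [hσσ y hy.2.2] at this
            exact this)
        (fun y hy => hσσ y ((hmem' y).1 hy).2.2)
        (fun y hy => hne y ((hmem' y).1 hy).2.2)
        (fun y hy => hF y ((hmem' y).1 hy).2.2)
        (fun y hy => hint y ((hmem' y).1 hy).2.2)
      refine ⟨F x + b, (hint x hx).add hb, ?_⟩
      rw [← Finset.add_sum_erase S F hx, ← Finset.add_sum_erase (S.erase x) F hσx, ← hS', hsum,
        hF x hx]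
      ring

/-- In a finite group of odd order, a real-valued irreducible complex character is the trivial character. -/
theorem result {G : Type*} [Group G] [Finite G] (hodd : Odd (Nat.card G)) (χ : Cfsg.IrrCharacter G) (hreal : ∀ g : G, ((χ : G → ℂ) g).im = 0) : (χ : G → ℂ) = fun _ => 1 := by
  classical
  have := Fintype.ofFinite G
  by_contra hne
  have hχ : χ ≠ trivIrr G := by
    intro h
    apply hne
    rw [h]
    rfl
  have hconj : ∀ g : G, conj ((χ : G → ℂ) g) = (χ : G → ℂ) g := fun g =>
    Complex.conj_eq_iff_im.2 (hreal g)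
  have h1 : ∑ g : G, (χ : G → ℂ) g = 0 := irr_sum_eq_zero χ hχ
  have h2 : ∑ g : G, (χ : G → ℂ) g * (χ : G → ℂ) g = (Nat.card G : ℂ) := by
    have := irr_orthogonality' χ χ
    rw [if_pos rfl] at this
    rw [← this]
    refine Finset.sum_congr rfl fun g _ => ?_
    rw [hconj]
  have hint : ∀ g : G, IsIntegral ℤ ((χ : G → ℂ) g) := by
    intro g
    obtain ⟨n, ρ, -, h⟩ := χ.2
    rw [← h]
    exact Cfsg.Agent.Lib.helper82.isIntegral_char ρ g
  have hinv : ∀ g : G, (χ : G → ℂ) g⁻¹ = (χ : G → ℂ) g := fun g => by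
    rw [irr_inv, hconj]
  obtain ⟨n, hn, hn1⟩ := irr_exists_degree χ
  -- pairing on the non-identity elements
  obtain ⟨b, hb, hsum⟩ := sum_pairs_two_mul (fun g : G => g⁻¹)
    (fun g => (χ : G → ℂ) g * (χ : G → ℂ) g + (χ : G → ℂ) g) _
    ((Finset.univ : Finset G).erase 1) rfl
    (by
      intro g hg
      simp only [Finset.mem_erase, Finset.mem_univ, and_true, ne_eq, inv_eq_one] at hg ⊢
      exact hg)
    (fun g _ => inv_inv g)
    (by
      intro g hg h
      simp only [Finset.mem_erase, Finset.mem_univ, and_true, ne_eq] at hg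
      apply hg
      have h2' : g ^ 2 = 1 := by
        rw [pow_two]
        nth_rewrite 1 [← h]
        exact inv_mul_cancel g
      have hd1 : orderOf g ∣ 2 := orderOf_dvd_of_pow_eq_one h2'
      have hd2 : orderOf g ∣ Nat.card G := orderOf_dvd_natCard g
      have hcop : Nat.Coprime (Nat.card G) 2 := Nat.Coprime.symm (Nat.coprime_two_left.2 hodd)
      have : orderOf g = 1 := Nat.eq_one_of_dvd_coprimes hcop hd2 hd1
      exact orderOf_eq_one_iff.1 this)
    (fun g _ => by simp only [hinv])
    (fun g _ => ((hint g).mul (hint g)).add (hint g))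
  have htotal : ∑ g ∈ (Finset.univ : Finset G).erase 1,
      ((χ : G → ℂ) g * (χ : G → ℂ) g + (χ : G → ℂ) g) =
      (Nat.card G : ℂ) - ((n : ℂ) * n + n) := by
    have htot : ∑ g : G, ((χ : G → ℂ) g * (χ : G → ℂ) g + (χ : G → ℂ) g) = (Nat.card G : ℂ) := by
      rw [Finset.sum_add_distrib, h1, h2, add_zero]
    have := Finset.add_sum_erase (Finset.univ : Finset G)
      (fun g => (χ : G → ℂ) g * (χ : G → ℂ) g + (χ : G → ℂ) g) (Finset.mem_univ 1)
    beta_reduce at this
    rw [htot, hn1] at this
    linear_combination this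
  rw [htotal] at hsum
  -- b is a rational algebraic integer
  have hbq : b = algebraMap ℚ ℂ ((((Nat.card G : ℤ) - ((n : ℤ) * n + n) : ℤ) : ℚ) / 2) := by
    have : b = ((Nat.card G : ℂ) - ((n : ℂ) * n + n)) / 2 := by
      rw [hsum]; ring
    rw [this]
    push_cast
    simp
  rw [hbq, isIntegral_algebraMap_iff (algebraMap ℚ ℂ).injective] at hb
  obtain ⟨y, hy⟩ := IsIntegrallyClosed.isIntegral_iff.mp hb
  have hy' : ((Nat.card G : ℤ) - ((n : ℤ) * n + n) : ℤ) = 2 * y := by
    have : (algebraMap ℤ ℚ y) = (y : ℚ) := rfl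
    rw [this] at hy
    have h3 : ((((Nat.card G : ℤ) - ((n : ℤ) * n + n) : ℤ)) : ℚ) = 2 * (y : ℚ) := by
      rw [hy]; ring
    exact_mod_cast h3
  obtain ⟨k, hk⟩ := hodd
  have heven : Even ((n : ℤ) * n + n) := by
    have : (n : ℤ) * n + n = n * (n + 1) := by ring
    rw [this]
    exact Int.even_mul_succ_self n
  obtain ⟨j, hj⟩ := heven
  have : (Nat.card G : ℤ) = 2 * k + 1 := by exact_mod_cast hk
  omega

end Cfsg.Agent.S0161
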