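import Cfsg.Statements.S0162
import Cfsg.Agent.S0161
import Cfsg.Agent.Lib.helper82.CharQuot
import Cfsg.Agent.Lib.helper84.Brauer

set_option autoImplicit false
open Cfsg

namespace Cfsg.Agent.S0162

open Cfsg.Agent.Lib.helper83 Cfsg.Agent.Lib.helper84

theorem zmod16_aux (x : ZMod 16) :
    ((2 * x + 1) ^ 2 - 1) + ((2 * x + 1) ^ 2 - 1) = 0 := by
  revert x; decide

/-- If a finite group has odd order, its order is congruent to its number of conjugacy classes modulo 16. -/
theorem result {G : Type*} [Group G] [Finite G] (hodd : Odd (Nat.card G)) : Nat.card G ≡ Nat.card (ConjClasses G) [MOD 16] := by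
  classical
  have := Fintype.ofFinite G
  have := Fintype.ofFinite (IrrCharacter G)
  let T : IrrCharacter G → IrrCharacter G :=
    fun χ => ⟨fun g => (χ : G → ℂ) g⁻¹, irr_comp_inv χ⟩
  have hTT : ∀ χ, T (T χ) = χ := by
    intro χ
    apply Subtype.ext
    funext g
    show (χ : G → ℂ) g⁻¹⁻¹ = _
    rw [inv_inv]
  have hdeg : ∀ χ, charDegree (T χ : G → ℂ) = charDegree (χ : G → ℂ) := by
    intro χ
    show charDegree (fun g => (χ : G → ℂ) g⁻¹) = _
    simp [charDegree]
  have hsum : ∑ χ : IrrCharacter G, (charDegree (χ : G → ℂ)) ^ 2 = Nat.card G := by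
    rw [← sum_charDegree_sq (G := G), finsum_eq_sum_of_fintype]
  have hk : Nat.card (IrrCharacter G) = Nat.card (ConjClasses G) := card_irr_eq_card_conjClasses
  have hoddχ : ∀ χ : IrrCharacter G, Odd (charDegree (χ : G → ℂ)) := fun χ =>
    Odd.of_dvd_nat hodd (Cfsg.Agent.Lib.helper82.irr_degree_dvd_card χ)
  have key : ∑ χ : IrrCharacter G, ((((charDegree (χ : G → ℂ)) ^ 2 : ℕ) : ZMod 16) - 1) = 0 := by
    apply Finset.sum_involution (fun χ _ => T χ)
    · intro χ _
      rw [hdeg]
      obtain ⟨m, hm⟩ := hoddχ χ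
      rw [hm]
      have := zmod16_aux (m : ZMod 16)
      push_cast
      exact this
    · intro χ _ hne hfix
      apply hne
      have hreal : ∀ g : G, ((χ : G → ℂ) g).im = 0 := by
        intro g
        have h1 : (χ : G → ℂ) g⁻¹ = (χ : G → ℂ) g := congrFun (congrArg Subtype.val hfix) g
        rw [irr_inv] at h1
        exact Complex.conj_eq_iff_im.1 h1
      have h1 := Cfsg.Agent.S0161.result hodd χ hreal
      have hd : charDegree (χ : G → ℂ) = 1 := by
        rw [h1]; simp [charDegree]
      rw [hd]; simp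
    · intro χ _; exact Finset.mem_univ _
    · intro χ _; exact hTT χ
  rw [Finset.sum_sub_distrib, ← Nat.cast_sum, hsum, Finset.sum_const, Finset.card_univ,
    ← Nat.card_eq_fintype_card, hk, nsmul_eq_mul, mul_one, sub_eq_zero] at key
  exact (ZMod.natCast_eq_natCast_iff _ _ _).1 key

end Cfsg.Agent.S0162
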