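import Mathlib
import Cfsg.Statements.S0166
import Cfsg.Agent.Lib.helper5.KReal
import Cfsg.Agent.Lib.helper4.BrauerInd
import Cfsg.Agent.Lib.helper4.RepEquiv

set_option autoImplicit false
open Cfsg

namespace Cfsg.Agent.S0166

open Cfsg.Agent.Lib.helper5 in
theorem kreal_list {G : Type*} [Group G] [Fintype G] (K : Subfield ℂ)
    (hroot : ∀ z : ℂ, z ^ Monoid.exponent G = 1 → z ∈ K)
    (l : List ((E : Subgroup G) × ((E →* ℂˣ) × ℤ))) :
    ∃ ψp ψm : G → ℂ, KReal K G ψp ∧ KReal K G ψm ∧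
      (l.map fun t => (t.2.2 : ℂ) • Cfsg.indFun t.1 (fun e => (t.2.1 e : ℂ))).sum + ψm = ψp := by
  induction l with
  | nil => exact ⟨0, 0, KReal.zero, KReal.zero, by simp⟩
  | cons t l ih =>
    obtain ⟨ψp, ψm, hp, hm, hsum⟩ := ih
    have hθ : KReal K G (Cfsg.indFun t.1 (fun e => (t.2.1 e : ℂ))) := by
      apply kreal_indFun
      intro e
      apply hroot
      have he : e ^ Monoid.exponent G = 1 :=
        Subtype.ext (by rw [Subgroup.coe_pow]; exact Monoid.pow_exponent_eq_one _)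
      rw [← Units.val_pow_eq_pow_val, ← map_pow, he, map_one, Units.val_one]
    obtain ⟨k, hk | hk⟩ := Int.eq_nat_or_neg t.2.2
    · refine ⟨(fun g => (k : ℂ) * Cfsg.indFun t.1 (fun e => (t.2.1 e : ℂ)) g) + ψp, ψm,
        (hθ.nsmul k).add hp, hm, ?_⟩
      rw [List.map_cons, List.sum_cons, add_assoc, hsum, hk]
      congr 1
    · refine ⟨ψp, (fun g => (k : ℂ) * Cfsg.indFun t.1 (fun e => (t.2.1 e : ℂ)) g) + ψm,
        hp, (hθ.nsmul k).add hm, ?_⟩
      rw [List.map_cons, List.sum_cons, ← hsum, hk]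
      funext g
      simp only [Pi.add_apply, Pi.smul_apply, smul_eq_mul]
      push_cast
      ring

/-- Brauer's splitting field Theorem: a complex representation of a finite group of exponent m is equivalent to a representation by matrices with entries in ℚ adjoined exp(2πi/m). -/
theorem result {G : Type*} [Group G] [Finite G] (n : ℕ) (ρ : Representation ℂ G (Fin n → ℂ)) : ∃ σ : Representation ℂ G (Fin n → ℂ), Nonempty (ρ.Equiv σ) ∧ ∀ g : G, ∀ i j : Fin n, LinearMap.toMatrix' (σ g) i j ∈ Algebra.adjoin ℚ ({Complex.exp (2 * Real.pi * Complex.I / (Monoid.exponent G : ℂ))} : Set ℂ) := by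
  classical
  have := Fintype.ofFinite G
  obtain ⟨m, hm⟩ : ∃ m : ℕ, m = Monoid.exponent G := ⟨_, rfl⟩
  have hm0 : m ≠ 0 := by rw [hm]; exact Monoid.exponent_ne_zero_of_finite
  rw [← hm]
  obtain ⟨ζ, hζ⟩ : ∃ ζ : ℂ, ζ = Complex.exp (2 * Real.pi * Complex.I / (m : ℂ)) := ⟨_, rfl⟩
  rw [← hζ]
  have hprim : IsPrimitiveRoot ζ m := by rw [hζ]; exact Complex.isPrimitiveRoot_exp m hm0
  have hint : IsIntegral ℚ ζ := by
    refine ⟨Polynomial.X ^ m - 1, Polynomial.monic_X_pow_sub_C 1 hm0, ?_⟩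
    simp [hprim.pow_eq_one]
  obtain ⟨K, hK⟩ : ∃ K : Subfield ℂ, K = (IntermediateField.adjoin ℚ ({ζ} : Set ℂ)).toSubfield :=
    ⟨_, rfl⟩
  have hζK : ζ ∈ K := by
    rw [hK]
    exact IntermediateField.mem_adjoin_simple_self ℚ ζ
  have hroot : ∀ z : ℂ, z ^ Monoid.exponent G = 1 → z ∈ K := by
    intro z hz
    rw [← hm] at hz
    have : NeZero m := ⟨hm0⟩
    obtain ⟨k, -, rfl⟩ := hprim.eq_pow_of_pow_eq_one hz
    exact pow_mem hζK k
  have hKadj : ∀ x : ℂ, x ∈ K → x ∈ Algebra.adjoin ℚ ({ζ} : Set ℂ) := by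
    intro x hx
    rw [← IntermediateField.adjoin_simple_toSubalgebra_of_isAlgebraic hint.isAlgebraic]
    rw [hK] at hx
    exact hx
  -- the character of ρ is afforded over K
  have hχ : IsCharacter G ρ.character := ⟨n, ρ, rfl⟩
  obtain ⟨l, -, hl⟩ := Cfsg.Agent.Lib.helper4.brauer_induction ρ.character hχ
  obtain ⟨ψp, ψm, hp, hmm, hsum⟩ := kreal_list K hroot l
  have hreal : Cfsg.Agent.Lib.helper5.KReal K G ρ.character := by
    apply Cfsg.Agent.Lib.helper5.kreal_of_sub hp hmm _ hχ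
    rw [hl]
    exact hsum.symm
  obtain ⟨d, R, hR⟩ := hreal
  have hd : d = n := by
    have h1 := hR 1
    rw [map_one, Matrix.trace_one, Fintype.card_fin, Representation.char_one,
      Module.finrank_fin_fun] at h1
    exact_mod_cast h1
  subst hd
  let σ : Representation ℂ G (Fin d → ℂ) :=
    { toFun := fun g => Matrix.toLin' ((R g).map K.subtype)
      map_one' := by
        rw [map_one, Matrix.map_one _ (map_zero _) (map_one _), Matrix.toLin'_one]; rfl
      map_mul' := fun a b => by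
        rw [map_mul, Matrix.map_mul, Matrix.toLin'_mul]; rfl }
  refine ⟨σ, ?_, ?_⟩
  · apply Cfsg.Agent.Lib.helper4.nonempty_equiv_of_character_eq
    funext g
    rw [← hR g]
    show _ = LinearMap.trace ℂ (Fin d → ℂ) (Matrix.toLin' ((R g).map K.subtype))
    rw [Cfsg.Agent.Lib.helper5.trace_toLin'_eq]
    simp [Matrix.trace]
  · intro g i j
    apply hKadj
    show LinearMap.toMatrix' (Matrix.toLin' ((R g).map K.subtype)) i j ∈ K
    rw [LinearMap.toMatrix'_toLin']
    exact (R g i j).2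

end Cfsg.Agent.S0166
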