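import Cfsg.Statements.S0167
import Cfsg.Agent.Lib.helper4.CharDecomp
import Cfsg.Agent.Lib.helper82.CharSums

set_option autoImplicit false
open Cfsg

namespace Cfsg.Agent.S0167

open scoped ComplexConjugate

/-- The number of ways of writing `x` as a commutator. -/
noncomputable def commCount {G : Type*} [Group G] [Fintype G] [DecidableEq G] (x : G) : ℂ :=
  ∑ a : G, ∑ b : G, if a * b * a⁻¹ * b⁻¹ = x then (1 : ℂ) else 0

theorem commCount_classFun {G : Type*} [Group G] [Fintype G] [DecidableEq G] :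
    Cfsg.IsClassFunction G (commCount (G := G)) := by
  intro x h
  unfold commCount
  apply Fintype.sum_equiv (MulAut.conj h⁻¹).toEquiv
  intro a
  apply Fintype.sum_equiv (MulAut.conj h⁻¹).toEquiv
  intro b
  have : (a * b * a⁻¹ * b⁻¹ = h * x * h⁻¹) ↔
      ((MulAut.conj h⁻¹).toEquiv a * (MulAut.conj h⁻¹).toEquiv b *
        ((MulAut.conj h⁻¹).toEquiv a)⁻¹ * ((MulAut.conj h⁻¹).toEquiv b)⁻¹ = x) := by
    simp only [MulEquiv.toEquiv_eq_coe, MulEquiv.coe_toEquiv, MulAut.conj_apply, inv_inv]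
    constructor
    · intro hh
      have : h⁻¹ * a * h * (h⁻¹ * b * h) * (h⁻¹ * a * h)⁻¹ * (h⁻¹ * b * h)⁻¹ =
          h⁻¹ * (a * b * a⁻¹ * b⁻¹) * h := by group
      rw [this, hh]; group
    · intro hh
      have : h⁻¹ * a * h * (h⁻¹ * b * h) * (h⁻¹ * a * h)⁻¹ * (h⁻¹ * b * h)⁻¹ =
          h⁻¹ * (a * b * a⁻¹ * b⁻¹) * h := by group
      rw [this] at hh
      rw [← hh]; group
  simp only [this]

theorem sum_commCount_mul {G : Type*} [Group G] [Fintype G] [DecidableEq G] (F : G → ℂ) :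
    ∑ x : G, commCount x * F x = ∑ a : G, ∑ b : G, F (a * b * a⁻¹ * b⁻¹) := by
  unfold commCount
  simp only [Finset.sum_mul]
  rw [Finset.sum_comm]
  apply Finset.sum_congr rfl
  intro a _
  rw [Finset.sum_comm]
  apply Finset.sum_congr rfl
  intro b _
  simp

theorem classInner_commCount {G : Type*} [Group G] [Fintype G] [DecidableEq G]
    (χ : Cfsg.IrrCharacter G) :
    Cfsg.classInner (commCount (G := G)) (χ : G → ℂ) = (Nat.card G : ℂ) / (χ : G → ℂ) 1 := by
  obtain ⟨χ, n, ρ, hρ, rfl⟩ := χ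
  have := hρ
  have hV := Cfsg.Agent.Lib.helper4.nontrivial_of_isIrreducible ρ
  have hn0 : ((Module.finrank ℂ (Fin n → ℂ) : ℕ) : ℂ) ≠ 0 := by
    exact_mod_cast (Module.finrank_pos (R := ℂ) (M := Fin n → ℂ)).ne'
  have hG0 : (Nat.card G : ℂ) ≠ 0 := Cfsg.Agent.Lib.helper4.card_ne_zero_complex
  unfold Cfsg.classInner
  show (Nat.card G : ℂ)⁻¹ * ∑ g : G, commCount g * conj (ρ.character g) =
    (Nat.card G : ℂ) / ρ.character 1
  rw [sum_commCount_mul]
  have h1 : ∑ a : G, ∑ b : G, conj (ρ.character (a * b * a⁻¹ * b⁻¹)) =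
      conj (LinearMap.trace ℂ _ (∑ a : G, ∑ b : G, ρ (a * b * a⁻¹ * b⁻¹))) := by
    simp only [map_sum]
    rfl
  rw [h1, Cfsg.Agent.Lib.helper82.sum_commutator_rep ρ, map_smul, smul_eq_mul,
    Representation.char_one]
  have h2 : LinearMap.trace ℂ (Fin n → ℂ) (1 : Module.End ℂ (Fin n → ℂ)) =
      (Module.finrank ℂ (Fin n → ℂ) : ℂ) := LinearMap.trace_one ℂ _
  rw [h2]
  simp only [map_mul, map_pow, map_div₀, Complex.conj_natCast]
  field_simp

theorem commCount_eq {G : Type*} [Group G] [Fintype G] [DecidableEq G]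
    [Fintype (Cfsg.IrrCharacter G)] (g : G) :
    commCount g = (Nat.card G : ℂ) * ∑ χ : Cfsg.IrrCharacter G, (χ : G → ℂ) g / (χ : G → ℂ) 1 := by
  have h := congrFun (Cfsg.Agent.Lib.helper4.classFunction_eq_sum_irr
    (commCount_classFun (G := G))) g
  rw [h, Finset.mul_sum]
  simp only [Finset.sum_apply, Pi.smul_apply, smul_eq_mul, classInner_commCount]
  apply Finset.sum_congr rfl
  intro χ _
  ring

/-- An element g of a finite group is a commutator if and only if the sum over the irreducible characters χ of χ g / χ 1 is nonzero. -/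
theorem result {G : Type*} [Group G] [Finite G] (g : G) : (∃ a b : G, g = a * b * a⁻¹ * b⁻¹) ↔ ∑ᶠ χ : Cfsg.IrrCharacter G, (χ : G → ℂ) g / (χ : G → ℂ) 1 ≠ 0 := by
  classical
  have := Fintype.ofFinite G
  have := Fintype.ofFinite (Cfsg.IrrCharacter G)
  rw [finsum_eq_sum_of_fintype]
  have hG0 : (Nat.card G : ℂ) ≠ 0 := Cfsg.Agent.Lib.helper4.card_ne_zero_complex
  have hcount := commCount_eq g
  constructor
  · rintro ⟨a, b, rfl⟩ hzero
    rw [hzero, mul_zero] at hcount
    unfold commCount at hcount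
    have hnn : ∀ a' ∈ (Finset.univ : Finset G), (0 : ℝ) ≤ ∑ b' : G,
        (if a' * b' * a'⁻¹ * b'⁻¹ = a * b * a⁻¹ * b⁻¹ then (1 : ℝ) else 0) :=
      fun a' _ => Finset.sum_nonneg fun b' _ => by split_ifs <;> norm_num
    have hreal : ∑ a' : G, ∑ b' : G,
        (if a' * b' * a'⁻¹ * b'⁻¹ = a * b * a⁻¹ * b⁻¹ then (1 : ℝ) else 0) = 0 := by
      have h2 : ((∑ a' : G, ∑ b' : G,
          (if a' * b' * a'⁻¹ * b'⁻¹ = a * b * a⁻¹ * b⁻¹ then (1 : ℝ) else 0) : ℝ) : ℂ) = 0 := by
        rw [← hcount]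
        push_cast
        apply Finset.sum_congr rfl
        intro x _
        apply Finset.sum_congr rfl
        intro y _
        split_ifs <;> simp
      exact_mod_cast h2
    have h3 := (Finset.sum_eq_zero_iff_of_nonneg hnn).mp hreal a (Finset.mem_univ a)
    have h4 := (Finset.sum_eq_zero_iff_of_nonneg
      (fun b' _ => by split_ifs <;> norm_num)).mp h3 b (Finset.mem_univ b)
    simp at h4
  · intro hne
    by_contra hcon
    push Not at hcon
    apply hne
    have hzero : commCount g = 0 := by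
      unfold commCount
      apply Finset.sum_eq_zero
      intro a _
      apply Finset.sum_eq_zero
      intro b _
      rw [if_neg]
      exact fun h => hcon a b h.symm
    rw [hzero] at hcount
    rcases mul_eq_zero.mp hcount.symm with h | h
    · exact absurd h hG0
    · exact h

end Cfsg.Agent.S0167
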