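import Cfsg.Statements.S0168
import Cfsg.Agent.Lib.helper4.CharDecomp

set_option autoImplicit false
open Cfsg

namespace Cfsg.Agent.S0168

/-- The Burnside–Brauer Theorem. Let χ be the character of a faithful complex representation of a finite group, taking m distinct values. Then every irreducible character has nonzero inner product with χ ^ i for some i < m. -/
theorem result {G : Type*} [Group G] [Fintype G] {V : Type*} [AddCommGroup V] [Module ℂ V] [FiniteDimensional ℂ V] (ρ : Representation ℂ G V) (hfaithful : Function.Injective ρ) (ψ : G → ℂ) (hψ : Cfsg.IsIrrCharacter G ψ) : ∃ i : ℕ, i < Nat.card (Set.range ρ.character) ∧ Cfsg.classInner (fun g => ρ.character g ^ i) ψ ≠ 0 := by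
  classical
  by_contra hcon
  push Not at hcon
  set χ := ρ.character with hχ
  let s : Finset ℂ := Finset.univ.image χ
  have hcard : Nat.card (Set.range χ) = s.card := by
    have : Set.range χ = (s : Set ℂ) := by simp [s]
    rw [this, Nat.card_coe_set_eq, Set.ncard_coe_finset]
  rw [hcard] at hcon
  let B : ℂ → ℂ := fun a => ∑ g ∈ Finset.univ.filter (fun g => χ g = a), (starRingEnd ℂ) (ψ g)
  have hsum : ∀ j : ℕ, j < s.card → ∑ a ∈ s, a ^ j * B a = 0 := by
    intro j hj
    have h := hcon j hj
    unfold Cfsg.classInner at h
    rcases mul_eq_zero.mp h with h1 | h1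
    · exact absurd h1 (inv_ne_zero Cfsg.Agent.Lib.helper4.card_ne_zero_complex)
    · rw [← h1, ← Finset.sum_fiberwise_of_maps_to (s := Finset.univ) (t := s) (g := χ)
        (fun g _ => Finset.mem_image_of_mem χ (Finset.mem_univ g))]
      apply Finset.sum_congr rfl
      intro a _
      simp only [B]
      rw [Finset.mul_sum]
      apply Finset.sum_congr rfl
      intro g hg
      rw [(Finset.mem_filter.mp hg).2]
  let e : Fin s.card ≃ s := s.equivFin.symm
  let v : Fin s.card → ℂ := fun i => (e i : ℂ)
  have hv : Function.Injective v := fun i j h => e.injective (Subtype.ext h)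
  have hdet : (Matrix.vandermonde v).det ≠ 0 := Matrix.det_vandermonde_ne_zero_iff.mpr hv
  have hvec : Matrix.vecMul (fun i => B (v i)) (Matrix.vandermonde v) = 0 := by
    funext j
    simp only [Matrix.vecMul, dotProduct, Matrix.vandermonde_apply, Pi.zero_apply]
    have h1 := hsum j j.2
    rw [← Finset.sum_coe_sort s, ← Equiv.sum_comp e] at h1
    rw [← h1]
    apply Finset.sum_congr rfl
    intro i _
    simp only [v]
    ring
  have hB := Matrix.eq_zero_of_vecMul_eq_zero hdet hvec
  have h1mem : χ 1 ∈ s := Finset.mem_image_of_mem χ (Finset.mem_univ 1)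
  have hB1 : B (χ 1) = 0 := by
    have := congrFun hB (e.symm ⟨χ 1, h1mem⟩)
    simpa [v] using this
  have hfilter : Finset.univ.filter (fun g => χ g = χ 1) = {1} := by
    ext g
    simp only [Finset.mem_filter, Finset.mem_univ, true_and, Finset.mem_singleton]
    constructor
    · intro hg
      have h2 : χ g = (Module.finrank ℂ V : ℂ) := by rw [hg, hχ, Representation.char_one]
      have h3 := (Cfsg.Agent.Lib.helper4.char_eq_finrank_iff ρ g).mp h2
      apply hfaithful
      rw [h3, map_one]
      rfl
    · rintro rfl
      rfl
  simp only [B, hfilter, Finset.sum_singleton] at hB1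
  have := Cfsg.Agent.Lib.helper4.irr_degree_ne_zero hψ
  exact this (by simpa using hB1)

end Cfsg.Agent.S0168
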