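import Cfsg.Statements.S0172
import Mathlib

set_option autoImplicit false
open Cfsg

namespace Cfsg.Agent.S0172

theorem card_split {α : Type*} [Finite α] (P Q : α → Prop) :
    Nat.card {a // P a} = Nat.card {a // P a ∧ Q a} + Nat.card {a // P a ∧ ¬ Q a} := by
  classical
  have := Fintype.ofFinite α
  simp only [Nat.card_eq_fintype_card, Fintype.card_subtype]
  rw [← Finset.filter_filter, ← Finset.filter_filter,
    Finset.card_filter_add_card_filter_not]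

/-- Counting commuting pairs with nontrivial first component. -/
theorem comm_card_split (G : Type*) [Group G] [Finite G] :
    Nat.card (ConjClasses G) * Nat.card G =
      Nat.card G + Nat.card {p : G × G // Commute p.1 p.2 ∧ p.1 ≠ 1} := by
  rw [← card_comm_eq_card_conjClasses_mul_card,
    card_split (fun p : G × G => Commute p.1 p.2) (fun p => p.1 = 1)]
  congr 1
  refine Nat.card_congr ⟨fun p => p.1.2, fun y => ⟨(1, y), Commute.one_left y, rfl⟩, ?_, ?_⟩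
  · rintro ⟨⟨x, y⟩, hc, hx⟩
    simp only at hx
    subst hx
    rfl
  · intro y; rfl

section
variable {G : Type*} [Group G] (K H : Subgroup G) [hKn : K.Normal]

theorem exists_mul (hKH' : K ⊔ H = ⊤) (g : G) : ∃ k ∈ K, ∃ h ∈ H, k * h = g := by
  have hg : g ∈ K ⊔ H := by rw [hKH']; trivial
  rw [← SetLike.mem_coe, Subgroup.normal_mul] at hg
  obtain ⟨k, hk, h, hh, rfl⟩ := Set.mem_mul.1 hg
  exact ⟨k, hk, h, hh, rfl⟩

theorem exists_conj [Finite G]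
    (hfpf : ∀ h ∈ H, h ≠ 1 → ∀ k ∈ K, h * k = k * h → k = 1)
    {h : G} (hh : h ∈ H) (hne : h ≠ 1) {k : G} (hk : k ∈ K) :
    ∃ u ∈ K, u * h * u⁻¹ = k * h := by
  let f : K → K := fun u => ⟨u * h * (u : G)⁻¹ * h⁻¹, by
    have h1 : h * (u : G)⁻¹ * h⁻¹ ∈ K := hKn.conj_mem _ (K.inv_mem u.2) h
    have h2 := K.mul_mem u.2 h1
    have e : (u : G) * (h * (u : G)⁻¹ * h⁻¹) = u * h * (u : G)⁻¹ * h⁻¹ := by group
    rw [← e]; exact h2⟩
  have hinj : Function.Injective f := by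
    intro u v huv
    have h1 : (u : G) * h * (u : G)⁻¹ * h⁻¹ = v * h * (v : G)⁻¹ * h⁻¹ := congrArg Subtype.val huv
    have h3 : (u : G) * h * (u : G)⁻¹ = v * h * (v : G)⁻¹ := mul_right_cancel h1
    have h2 : h * ((v : G)⁻¹ * u) = ((v : G)⁻¹ * u) * h := by
      calc h * ((v : G)⁻¹ * u) = (v : G)⁻¹ * (v * h * (v : G)⁻¹) * u := by group
        _ = (v : G)⁻¹ * (u * h * (u : G)⁻¹) * u := by rw [h3]
        _ = _ := by group
    have h4 := hfpf h hh hne _ (K.mul_mem (K.inv_mem v.2) u.2) h2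
    apply Subtype.ext
    exact (inv_mul_eq_one.1 h4).symm
  obtain ⟨u, hu⟩ := (Finite.injective_iff_surjective.1 hinj) ⟨k, hk⟩
  refine ⟨u, u.2, ?_⟩
  have e : (u : G) * h * (u : G)⁻¹ * h⁻¹ = k := congrArg Subtype.val hu
  rw [← e]; group

theorem exists_conj_of_not_mem [Finite G] (hKH' : K ⊔ H = ⊤)
    (hfpf : ∀ h ∈ H, h ≠ 1 → ∀ k ∈ K, h * k = k * h → k = 1)
    {x : G} (hx : x ∉ K) : ∃ u ∈ K, ∃ h ∈ H, h ≠ 1 ∧ u * h * u⁻¹ = x := by
  obtain ⟨k, hk, h, hh, rfl⟩ := exists_mul K H hKH' x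
  have hne : h ≠ 1 := by
    rintro rfl
    exact hx (by simpa using hk)
  obtain ⟨u, hu, e⟩ := exists_conj K H hfpf hh hne hk
  exact ⟨u, hu, h, hh, hne, e⟩

theorem mem_H_of_commute (hKH : K ⊓ H = ⊥) (hKH' : K ⊔ H = ⊤)
    (hfpf : ∀ h ∈ H, h ≠ 1 → ∀ k ∈ K, h * k = k * h → k = 1)
    {h : G} (hh : h ∈ H) (hne : h ≠ 1) {y : G} (hy : Commute h y) : y ∈ H := by
  obtain ⟨k, hk, h', hh', rfl⟩ := exists_mul K H hKH' y
  have hyeq : h * (k * h') = k * h' * h := hy.eq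
  have hk' : k = h * (k * h') * h⁻¹ * h'⁻¹ := by rw [hyeq]; group
  have e : (h * k * h⁻¹)⁻¹ * k = h * h' * h⁻¹ * h'⁻¹ := by
    calc (h * k * h⁻¹)⁻¹ * k = (h * k * h⁻¹)⁻¹ * (h * (k * h') * h⁻¹ * h'⁻¹) := by rw [← hk']
      _ = _ := by group
  have m1 : (h * k * h⁻¹)⁻¹ * k ∈ K := K.mul_mem (K.inv_mem (hKn.conj_mem k hk h)) hk
  have m2 : h * h' * h⁻¹ * h'⁻¹ ∈ H :=
    H.mul_mem (H.mul_mem (H.mul_mem hh hh') (H.inv_mem hh)) (H.inv_mem hh')
  have m3 : (h * k * h⁻¹)⁻¹ * k ∈ K ⊓ H := ⟨m1, e ▸ m2⟩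
  rw [hKH, Subgroup.mem_bot] at m3
  have hc : h * k = k * h := by
    have e2 : h * k * h⁻¹ = k := inv_mul_eq_one.1 m3
    calc h * k = (h * k * h⁻¹) * h := by group
      _ = k * h := by rw [e2]
  have hk1 := hfpf h hh hne k hk hc
  subst hk1
  simpa using hh'

theorem mem_K_of_commute [Finite G] (hKH' : K ⊔ H = ⊤)
    (hfpf : ∀ h ∈ H, h ≠ 1 → ∀ k ∈ K, h * k = k * h → k = 1)
    {x : G} (hx : x ∈ K) (hne : x ≠ 1) {y : G} (hy : Commute x y) : y ∈ K := by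
  by_contra hyK
  obtain ⟨u, hu, h, hh, hne', rfl⟩ := exists_conj_of_not_mem K H hKH' hfpf hyK
  have hyeq : x * (u * h * u⁻¹) = u * h * u⁻¹ * x := hy.eq
  have hc : h * (u⁻¹ * x * u) = (u⁻¹ * x * u) * h := by
    calc h * (u⁻¹ * x * u) = u⁻¹ * (u * h * u⁻¹ * x) * u := by group
      _ = u⁻¹ * (x * (u * h * u⁻¹)) * u := by rw [hyeq]
      _ = _ := by group
  have hm : u⁻¹ * x * u ∈ K := by
    have := hKn.conj_mem x hx u⁻¹
    simpa using this
  have h1 := hfpf h hh hne' _ hm hc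
  apply hne
  calc x = u * (u⁻¹ * x * u) * u⁻¹ := by group
    _ = 1 := by rw [h1]; group

/-- The commuting pairs of `G` with first component in `K \ 1` are those of `K`. -/
theorem card_pairs_K [Finite G] (hKH' : K ⊔ H = ⊤)
    (hfpf : ∀ h ∈ H, h ≠ 1 → ∀ k ∈ K, h * k = k * h → k = 1) :
    Nat.card {p : G × G // (Commute p.1 p.2 ∧ p.1 ≠ 1) ∧ p.1 ∈ K} =
      Nat.card {q : K × K // Commute q.1 q.2 ∧ q.1 ≠ 1} := by
  symm
  let f : {q : K × K // Commute q.1 q.2 ∧ q.1 ≠ 1} →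
      {p : G × G // (Commute p.1 p.2 ∧ p.1 ≠ 1) ∧ p.1 ∈ K} := fun q =>
    ⟨((q.1.1 : G), (q.1.2 : G)), ⟨by
      have := q.2.1
      show (q.1.1 : G) * (q.1.2 : G) = (q.1.2 : G) * (q.1.1 : G)
      have h2 := congrArg Subtype.val this.eq
      simpa using h2, fun h => q.2.2 (Subtype.ext h)⟩, q.1.1.2⟩
  apply Nat.card_congr (Equiv.ofBijective f ⟨?_, ?_⟩)
  · rintro ⟨⟨a, b⟩, ha⟩ ⟨⟨c, d⟩, hc⟩ hfe
    have h1 := congrArg Subtype.val hfe
    simp only [f, Prod.mk.injEq] at h1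
    apply Subtype.ext
    exact Prod.ext (Subtype.ext h1.1) (Subtype.ext h1.2)
  · rintro ⟨⟨x, y⟩, ⟨hc, hx1⟩, hxK⟩
    simp only at hc hx1 hxK
    have hyK : y ∈ K := mem_K_of_commute K H hKH' hfpf hxK hx1 hc
    refine ⟨⟨(⟨x, hxK⟩, ⟨y, hyK⟩), ?_, ?_⟩, rfl⟩
    · show (⟨x, hxK⟩ : K) * ⟨y, hyK⟩ = ⟨y, hyK⟩ * ⟨x, hxK⟩
      exact Subtype.ext hc.eq
    · intro h
      exact hx1 (congrArg Subtype.val h)

/-- The commuting pairs of `G` with first component outside `K` are parametrised by `K` and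
the commuting pairs of `H` with nontrivial first component. -/
theorem card_pairs_H [Finite G] (hKH : K ⊓ H = ⊥) (hKH' : K ⊔ H = ⊤)
    (hfpf : ∀ h ∈ H, h ≠ 1 → ∀ k ∈ K, h * k = k * h → k = 1) :
    Nat.card {p : G × G // (Commute p.1 p.2 ∧ p.1 ≠ 1) ∧ p.1 ∉ K} =
      Nat.card K * Nat.card {q : H × H // Commute q.1 q.2 ∧ q.1 ≠ 1} := by
  rw [← Nat.card_prod]
  symm
  have hnotK : ∀ (u : G) (h : G), h ∈ H → h ≠ 1 → u * h * u⁻¹ ∉ K := by
    intro u h hh hne hm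
    have h1 : u⁻¹ * (u * h * u⁻¹) * u⁻¹⁻¹ ∈ K := hKn.conj_mem _ hm u⁻¹
    have e : u⁻¹ * (u * h * u⁻¹) * u⁻¹⁻¹ = h := by group
    rw [e] at h1
    have : h ∈ K ⊓ H := ⟨h1, hh⟩
    rw [hKH, Subgroup.mem_bot] at this
    exact hne this
  let f : K × {q : H × H // Commute q.1 q.2 ∧ q.1 ≠ 1} →
      {p : G × G // (Commute p.1 p.2 ∧ p.1 ≠ 1) ∧ p.1 ∉ K} := fun z =>
    ⟨((z.1 : G) * (z.2.1.1 : G) * (z.1 : G)⁻¹, (z.1 : G) * (z.2.1.2 : G) * (z.1 : G)⁻¹), ⟨by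
      have h2 := congrArg Subtype.val z.2.2.1.eq
      have h3 : (z.2.1.1 : G) * (z.2.1.2 : G) = (z.2.1.2 : G) * (z.2.1.1 : G) := by simpa using h2
      show (z.1 : G) * (z.2.1.1 : G) * (z.1 : G)⁻¹ * ((z.1 : G) * (z.2.1.2 : G) * (z.1 : G)⁻¹) =
        (z.1 : G) * (z.2.1.2 : G) * (z.1 : G)⁻¹ * ((z.1 : G) * (z.2.1.1 : G) * (z.1 : G)⁻¹)
      calc (z.1 : G) * (z.2.1.1 : G) * (z.1 : G)⁻¹ * ((z.1 : G) * (z.2.1.2 : G) * (z.1 : G)⁻¹)
          = (z.1 : G) * ((z.2.1.1 : G) * (z.2.1.2 : G)) * (z.1 : G)⁻¹ := by group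
        _ = (z.1 : G) * ((z.2.1.2 : G) * (z.2.1.1 : G)) * (z.1 : G)⁻¹ := by rw [h3]
        _ = _ := by group, by
      intro h
      have h1 : (z.1 : G) * (z.2.1.1 : G) * (z.1 : G)⁻¹ = 1 := h
      have h2 : (z.2.1.1 : G) = 1 := by
        calc (z.2.1.1 : G) = (z.1 : G)⁻¹ * ((z.1 : G) * (z.2.1.1 : G) * (z.1 : G)⁻¹) * (z.1 : G) := by
              group
          _ = 1 := by rw [h1]; group
      exact z.2.2.2 (Subtype.ext h2)⟩,
      hnotK _ _ z.2.1.1.2 (fun h => z.2.2.2 (Subtype.ext h))⟩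
  apply Nat.card_congr (Equiv.ofBijective f ⟨?_, ?_⟩)
  · rintro ⟨u, ⟨⟨a, b⟩, hab, ha1⟩⟩ ⟨v, ⟨⟨c, d⟩, hcd, hc1⟩⟩ hfe
    have h1 := congrArg Subtype.val hfe
    simp only [f, Prod.mk.injEq] at h1
    obtain ⟨e1, e2⟩ := h1
    simp only at ha1 hc1
    have ha1' : (a : G) ≠ 1 := fun h => ha1 (Subtype.ext h)
    -- a = c
    have hac : (a : G) = c := by
      have m1 : (u : G) * a * (u : G)⁻¹ * (a : G)⁻¹ ∈ K := by
        have h1 : (a : G) * (u : G)⁻¹ * (a : G)⁻¹ ∈ K := hKn.conj_mem _ (K.inv_mem u.2) a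
        have h2 := K.mul_mem u.2 h1
        have e : (u : G) * ((a : G) * (u : G)⁻¹ * (a : G)⁻¹) = u * a * (u : G)⁻¹ * (a : G)⁻¹ := by
          group
        rw [← e]; exact h2
      have m2 : (v : G) * c * (v : G)⁻¹ * (c : G)⁻¹ ∈ K := by
        have h1 : (c : G) * (v : G)⁻¹ * (c : G)⁻¹ ∈ K := hKn.conj_mem _ (K.inv_mem v.2) c
        have h2 := K.mul_mem v.2 h1
        have e : (v : G) * ((c : G) * (v : G)⁻¹ * (c : G)⁻¹) = v * c * (v : G)⁻¹ * (c : G)⁻¹ := by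
          group
        rw [← e]; exact h2
      have e3 : (a : G) * (c : G)⁻¹ =
          ((u : G) * a * (u : G)⁻¹ * (a : G)⁻¹)⁻¹ * ((v : G) * c * (v : G)⁻¹ * (c : G)⁻¹) := by
        rw [← e1]; group
      have m3 : (a : G) * (c : G)⁻¹ ∈ K ⊓ H :=
        ⟨e3 ▸ K.mul_mem (K.inv_mem m1) m2, H.mul_mem a.2 (H.inv_mem c.2)⟩
      rw [hKH, Subgroup.mem_bot] at m3
      exact mul_inv_eq_one.1 m3
    have hac' : a = c := Subtype.ext hac
    subst hac'
    -- u = v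
    have huv : (u : G) = v := by
      have h2 : (a : G) * ((v : G)⁻¹ * u) = ((v : G)⁻¹ * u) * a := by
        calc (a : G) * ((v : G)⁻¹ * u) = (v : G)⁻¹ * (v * a * (v : G)⁻¹) * u := by group
          _ = (v : G)⁻¹ * (u * a * (u : G)⁻¹) * u := by rw [e1]
          _ = _ := by group
      have h4 := hfpf a a.2 ha1' _ (K.mul_mem (K.inv_mem v.2) u.2) h2
      exact (inv_mul_eq_one.1 h4).symm
    have huv' : u = v := Subtype.ext huv
    subst huv'
    have hbd : (b : G) = d := by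
      have := mul_right_cancel e2
      exact mul_left_cancel this
    have hbd' : b = d := Subtype.ext hbd
    subst hbd'
    rfl
  · rintro ⟨⟨x, y⟩, ⟨hc, hx1⟩, hxK⟩
    simp only at hc hx1 hxK
    obtain ⟨u, hu, h, hh, hne, rfl⟩ := exists_conj_of_not_mem K H hKH' hfpf hxK
    have hceq : u * h * u⁻¹ * y = y * (u * h * u⁻¹) := hc.eq
    have hc' : Commute h (u⁻¹ * y * u) := by
      show h * (u⁻¹ * y * u) = u⁻¹ * y * u * h
      calc h * (u⁻¹ * y * u) = u⁻¹ * (u * h * u⁻¹ * y) * u := by group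
        _ = u⁻¹ * (y * (u * h * u⁻¹)) * u := by rw [hceq]
        _ = _ := by group
    have hyH : u⁻¹ * y * u ∈ H := mem_H_of_commute K H hKH hKH' hfpf hh hne hc'
    refine ⟨⟨⟨u, hu⟩, ⟨(⟨h, hh⟩, ⟨u⁻¹ * y * u, hyH⟩), ?_, ?_⟩⟩, ?_⟩
    · show (⟨h, hh⟩ : H) * ⟨u⁻¹ * y * u, hyH⟩ = ⟨u⁻¹ * y * u, hyH⟩ * ⟨h, hh⟩
      exact Subtype.ext hc'.eq
    · intro h'
      exact hne (congrArg Subtype.val h')
    · apply Subtype.ext
      simp only [f]
      refine Prod.ext rfl ?_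
      show u * (u⁻¹ * y * u) * u⁻¹ = y
      group

end

/-- Class number of a Frobenius group: if G = K H with K normal, K ⊓ H trivial and no non-identity element of H commuting with a non-identity element of K, then |H| * k(G) + 1 = |H| * k(H) + k(K), where k denotes the number of conjugacy classes. -/
theorem result {G : Type*} [Group G] [Finite G] (K H : Subgroup G) [K.Normal] (hKH : K ⊓ H = ⊥) (hKH' : K ⊔ H = ⊤) (hfpf : ∀ h ∈ H, h ≠ 1 → ∀ k ∈ K, h * k = k * h → k = 1) : Nat.card H * Nat.card (ConjClasses G) + 1 = Nat.card H * Nat.card (ConjClasses H) + Nat.card (ConjClasses K) := by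
  have hcompl : Subgroup.IsComplement' K H := by
    apply Subgroup.isComplement'_of_disjoint_and_mul_eq_univ (disjoint_iff.2 hKH)
    rw [← Subgroup.normal_mul, hKH']
    rfl
  have hcard : Nat.card K * Nat.card H = Nat.card G := hcompl.card_mul_card
  have hG := comm_card_split G
  have hK := comm_card_split K
  have hH := comm_card_split H
  rw [card_split (fun p : G × G => Commute p.1 p.2 ∧ p.1 ≠ 1) (fun p => p.1 ∈ K),
    card_pairs_K K H hKH' hfpf, card_pairs_H K H hKH hKH' hfpf] at hG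
  have hKpos : 0 < Nat.card K := Nat.card_pos
  -- arithmetic
  set a := Nat.card {q : K × K // Commute q.1 q.2 ∧ q.1 ≠ 1}
  set b := Nat.card {q : H × H // Commute q.1 q.2 ∧ q.1 ≠ 1}
  set kG := Nat.card (ConjClasses G)
  set kK := Nat.card (ConjClasses K)
  set kH := Nat.card (ConjClasses H)
  set nK := Nat.card K
  set nH := Nat.card H
  rw [← hcard] at hG
  apply Nat.eq_of_mul_eq_mul_left hKpos
  nlinarith [hG, hK, hH]

end Cfsg.Agent.S0172
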