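import Cfsg.Statements.S0173
import Cfsg.Agent.Lib.helper84.Brauer

set_option autoImplicit false
open Cfsg

namespace Cfsg.Agent.S0173

open Cfsg.Agent.Lib.helper83 Cfsg.Agent.Lib.helper84

/-- Brauer's permutation lemma for a single automorphism: the number of conjugacy classes mapped to themselves equals the number of irreducible complex characters χ with χ ∘ α = χ. -/
theorem result {G : Type*} [Group G] [Finite G] (α : G ≃* G) : Nat.card {C : ConjClasses G // ConjClasses.map α.toMonoidHom C = C} = Nat.card {χ : Cfsg.IrrCharacter G // (χ : G → ℂ) ∘ α = (χ : G → ℂ)} := by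
  classical
  let T : IrrCharacter G → IrrCharacter G :=
    fun χ => ⟨fun g => (χ : G → ℂ) (α g), irr_comp_mulEquiv α χ⟩
  have hP : ∀ g : G, ConjClasses.map α.toMonoidHom (ConjClasses.mk g) = ConjClasses.mk g ↔
      IsConj g (α g) := by
    intro g
    show ConjClasses.mk (α g) = ConjClasses.mk g ↔ _
    constructor
    · intro h
      exact (ConjClasses.mk_eq_mk_iff_isConj.1 h).symm
    · intro h
      exact ConjClasses.mk_eq_mk_iff_isConj.2 h.symm
  have h := card_irr_fixed_eq (G := G) (fun g => α g) T (fun χ g => rfl)
    (fun C => ConjClasses.map α.toMonoidHom C = C) hP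
  rw [← h]
  apply Nat.card_congr
  apply Equiv.subtypeEquivRight
  intro χ
  constructor
  · intro hT
    have := congrArg Subtype.val hT
    exact this
  · intro hT
    apply Subtype.ext
    exact hT

end Cfsg.Agent.S0173
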