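import Cfsg.Statements.S0171
import Cfsg.Agent.S0172
import Cfsg.Agent.S0173
import Cfsg.Agent.Lib.helper4.Induction
import Cfsg.Agent.Lib.helper84.Brauer

set_option autoImplicit false
open Cfsg

namespace Cfsg.Agent.S0171

open Cfsg.Agent.Lib.helper83 Cfsg.Agent.Lib.helper84
open scoped ComplexConjugate

section
variable {G : Type*} [Group G] (K H : Subgroup G) [hKn : K.Normal]

/-- No nontrivial class of `K` is fixed by conjugation with a nontrivial element of `H`. -/
theorem fixed_class [Finite G] (hKH : K ⊓ H = ⊥) (hKH' : K ⊔ H = ⊤)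
    (hfpf : ∀ h ∈ H, h ≠ 1 → ∀ k ∈ K, h * k = k * h → k = 1) {h : G} (hh : h ∈ H) (hne : h ≠ 1)
    (C : ConjClasses K)
    (hC : ConjClasses.map (MulAut.conjNormal h : K ≃* K).toMonoidHom C = C) :
    C = ConjClasses.mk 1 := by
  obtain ⟨k, rfl⟩ := ConjClasses.mk_surjective C
  have h1 : IsConj ((MulAut.conjNormal h : K ≃* K) k) k := ConjClasses.mk_eq_mk_iff_isConj.1 hC
  obtain ⟨u, hu⟩ := isConj_iff.1 h1
  have hu' : (u : G) * (h * k * h⁻¹) * (u : G)⁻¹ = k := by
    have := congrArg Subtype.val hu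
    simpa [MulAut.conjNormal_apply] using this
  by_contra hk
  have hk1 : (k : G) ≠ 1 := fun e => hk (by rw [show k = 1 from Subtype.ext e])
  have hcomm : Commute (k : G) ((u : G) * h) := by
    show (k : G) * ((u : G) * h) = (u : G) * h * k
    calc (k : G) * ((u : G) * h)
        = ((u : G) * (h * k * h⁻¹) * (u : G)⁻¹) * ((u : G) * h) := by rw [hu']
      _ = _ := by group
  have hm := Cfsg.Agent.S0172.mem_K_of_commute K H hKH' hfpf k.2 hk1 hcomm
  have hhK : h ∈ K := by
    have := K.mul_mem (K.inv_mem u.2) hm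
    simpa using this
  have : h ∈ K ⊓ H := ⟨hhK, hh⟩
  rw [hKH, Subgroup.mem_bot] at this
  exact hne this

/-- An irreducible character of `K` fixed by a nontrivial element of `H` is trivial. -/
theorem twist_ne [Finite G] (hKH : K ⊓ H = ⊥) (hKH' : K ⊔ H = ⊤)
    (hfpf : ∀ h ∈ H, h ≠ 1 → ∀ k ∈ K, h * k = k * h → k = 1) {h : G} (hh : h ∈ H) (hne : h ≠ 1)
    (τ : IrrCharacter K)
    (hτ : (τ : K → ℂ) ∘ (MulAut.conjNormal h : K ≃* K) = (τ : K → ℂ)) :
    (τ : K → ℂ) = fun _ => 1 := by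
  have hB := Cfsg.Agent.S0173.result (MulAut.conjNormal h : K ≃* K)
  have h1 : Nat.card {C : ConjClasses K //
      ConjClasses.map (MulAut.conjNormal h : K ≃* K).toMonoidHom C = C} = 1 := by
    rw [Nat.card_eq_one_iff_unique]
    refine ⟨⟨fun a b => Subtype.ext ?_⟩, ⟨⟨ConjClasses.mk 1, ?_⟩⟩⟩
    · rw [fixed_class K H hKH hKH' hfpf hh hne a.1 a.2,
        fixed_class K H hKH hKH' hfpf hh hne b.1 b.2]
    · show ConjClasses.mk ((MulAut.conjNormal h : K ≃* K) 1) = ConjClasses.mk 1
      rw [map_one]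
  rw [h1] at hB
  have hsub := (Nat.card_eq_one_iff_unique.1 hB.symm).1
  have e : (⟨τ, hτ⟩ : {χ : IrrCharacter K //
      (χ : K → ℂ) ∘ (MulAut.conjNormal h : K ≃* K) = (χ : K → ℂ)}) =
      ⟨trivIrr K, by funext k; rfl⟩ := Subsingleton.elim _ _
  have := congrArg (fun x => (x.1 : K → ℂ)) e
  exact this

end

/-- Let G = K H with K normal, K ⊓ H trivial, and no non-identity element of H commuting with a non-identity element of K (a Frobenius group with kernel K and complement H). Then every non-principal irreducible character of K induces to an irreducible character of G. -/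
theorem result {G : Type*} [Group G] [Fintype G] (K H : Subgroup G) [K.Normal] (hKH : K ⊓ H = ⊥) (hKH' : K ⊔ H = ⊤) (hfpf : ∀ h ∈ H, h ≠ 1 → ∀ k ∈ K, h * k = k * h → k = 1) (τ : K → ℂ) (hτ : Cfsg.IsIrrCharacter K τ) (hτ1 : τ ≠ fun _ => 1) : Cfsg.IsIrrCharacter G (Cfsg.indFun K τ) := by
  classical
  have := Fintype.ofFinite K
  have := Fintype.ofFinite H
  have hcompl : Subgroup.IsComplement' K H := by
    apply Subgroup.isComplement'_of_disjoint_and_mul_eq_univ (disjoint_iff.2 hKH)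
    rw [← Subgroup.normal_mul, hKH']
    rfl
  have hK0 : (Nat.card K : ℂ) ≠ 0 := by exact_mod_cast Nat.card_pos.ne'
  have hchar : IsCharacter G (indFun K τ) :=
    Cfsg.Agent.Lib.helper4.isCharacter_indFun K (isCharacter_of_irr hτ)
  apply isIrrCharacter_of_isCharacter_norm_one hchar
  rw [frobenius_reciprocity K τ _ (isClassFunction_of_isCharacter hchar)]
  have hres : ∀ k : K, indFun K τ (k : G) =
      ∑ h : H, τ ((MulAut.conjNormal (h : G)⁻¹ : K ≃* K) k) := by
    intro k
    rw [Cfsg.Agent.Lib.helper4.indFun_apply]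
    have h1 : ∀ x : G, extendByZero K τ (x⁻¹ * k * x) =
        τ ((MulAut.conjNormal x⁻¹ : K ≃* K) k) := by
      intro x
      have e : x⁻¹ * (k : G) * x = (((MulAut.conjNormal x⁻¹ : K ≃* K) k : K) : G) := by
        simp [MulAut.conjNormal_apply]
      rw [e, Cfsg.Agent.Lib.helper4.extendByZero_apply_coe]
    simp_rw [h1]
    have hbij : Function.Bijective (fun p : K × H => (p.1 : G) * (p.2 : G)) := hcompl
    rw [← Fintype.sum_bijective _ hbij (fun p : K × H =>
      τ ((MulAut.conjNormal ((p.1 : G) * (p.2 : G))⁻¹ : K ≃* K) k)) _ (fun p => rfl),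
      Fintype.sum_prod_type]
    have h2 : ∀ (u : K) (h : H), τ ((MulAut.conjNormal ((u : G) * (h : G))⁻¹ : K ≃* K) k) =
        τ ((MulAut.conjNormal (h : G)⁻¹ : K ≃* K) k) := by
      intro u h
      have hcl := irr_conj ⟨_, irr_comp_mulEquiv (MulAut.conjNormal (h : G)⁻¹ : K ≃* K) ⟨τ, hτ⟩⟩
        k u⁻¹
      have e : (MulAut.conjNormal ((u : G) * (h : G))⁻¹ : K ≃* K) k =
          (MulAut.conjNormal (h : G)⁻¹ : K ≃* K) (u⁻¹ * k * u⁻¹⁻¹) := by
        apply Subtype.ext
        simp only [MulAut.conjNormal_apply, Subgroup.coe_mul, Subgroup.coe_inv]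
        group
      rw [e]
      exact hcl
    simp_rw [h2]
    rw [Finset.sum_const, Finset.card_univ, nsmul_eq_mul, ← Nat.card_eq_fintype_card, ← mul_assoc,
      inv_mul_cancel₀ hK0, one_mul]
  rw [classInner_def]
  simp_rw [hres, map_sum, Finset.mul_sum]
  rw [Finset.sum_comm]
  have hterm : ∀ h : H, ∑ k : K, (Nat.card K : ℂ)⁻¹ *
      (τ k * conj (τ ((MulAut.conjNormal (h : G)⁻¹ : K ≃* K) k))) = if h = 1 then 1 else 0 := by
    intro h
    have hci := classInner_irr (⟨τ, hτ⟩ : IrrCharacter K)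
      ⟨_, irr_comp_mulEquiv (MulAut.conjNormal (h : G)⁻¹ : K ≃* K) ⟨τ, hτ⟩⟩
    rw [classInner_def, Finset.mul_sum] at hci
    rw [hci]
    by_cases h1 : h = 1
    · subst h1
      rw [if_pos rfl, if_pos]
      apply Subtype.ext
      funext k
      simp
    · rw [if_neg h1, if_neg]
      intro e
      have e' : (τ ∘ (MulAut.conjNormal (h : G)⁻¹ : K ≃* K)) = τ :=
        (congrArg Subtype.val e).symm
      have hne : (h : G)⁻¹ ≠ 1 := by
        intro h'
        apply h1
        apply Subtype.ext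
        simpa using h'
      exact hτ1 (twist_ne K H hKH hKH' hfpf (H.inv_mem h.2) hne ⟨τ, hτ⟩ e')
  simp_rw [hterm]
  simp

end Cfsg.Agent.S0171
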