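import Mathlib
import Cfsg.Statements.S0175
import Cfsg.Agent.Lib.helper4.Induction
import Cfsg.Agent.Lib.helper4.Regular
import Cfsg.Agent.Lib.helper4.Burnside2

set_option autoImplicit false
open Cfsg

namespace Cfsg.Agent.S0175

open Cfsg.Agent.Lib.helper4

/-- The `m`-th derived subgroup lies in the kernel of (the character) `χ`. -/
def InKer {G : Type*} [Group G] (χ : G → ℂ) (m : ℕ) : Prop :=
  ∀ g ∈ derivedSeries G m, χ g = χ 1

theorem inKer_mono {G : Type*} [Group G] {χ : G → ℂ} {m n : ℕ} (h : m ≤ n) (hm : InKer χ m) :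
    InKer χ n := fun g hg => hm g (derivedSeries_antitone G h hg)

theorem taketa_step {G : Type*} [Group G] [Fintype G]
    (hM : ∀ χ : G → ℂ, Cfsg.IsIrrCharacter G χ → ∃ (H : Subgroup G) (lam : H →* ℂˣ),
      χ = Cfsg.indFun H (fun h => (lam h : ℂ))) :
    ∀ (d : ℕ) (χ : G → ℂ), Cfsg.IsIrrCharacter G χ → χ 1 = d → ∃ m, InKer χ m := by
  classical
  haveI : Fintype (IrrCharacter G) := Fintype.ofFinite _
  intro d
  induction d using Nat.strong_induction_on with
  | _ d ih =>
    intro χ hχ hd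
    obtain ⟨H, lam, hχH⟩ := hM χ hχ
    haveI : Fintype H := Fintype.ofFinite H
    have hdeg : χ 1 = (H.index : ℂ) := by rw [hχH, indFun_one]; simp
    have hidx : H.index = d := by exact_mod_cast (hdeg.symm.trans hd)
    set π := Cfsg.indFun H (fun _ : H => (1:ℂ)) with hπ
    have hπchar : IsCharacter G π := isCharacter_indFun H isCharacter_one
    have hn : ∀ ψ : IrrCharacter G, ∃ n : ℕ, classInner π ψ = n :=
      fun ψ => exists_nat_classInner_irr hπchar ψ.2
    choose nn hnn using hn
    have hπsum : π = ∑ ψ : IrrCharacter G, (nn ψ : ℂ) • (ψ : G → ℂ) := by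
      conv_lhs => rw [classFunction_eq_sum_irr (isClassFunction_of_isCharacter hπchar)]
      exact Finset.sum_congr rfl (fun ψ _ => by rw [hnn ψ])
    have he : ∀ ψ : IrrCharacter G, ∃ e : ℕ, 0 < e ∧ (ψ : G → ℂ) 1 = e :=
      fun ψ => exists_pos_nat_degree ψ.2
    choose ee hee0 hee using he
    have hdsum : d = ∑ ψ : IrrCharacter G, nn ψ * ee ψ := by
      have h1 : π 1 = (d : ℂ) := by rw [hπ, indFun_one, hidx]; simp
      rw [hπsum] at h1
      simp only [Finset.sum_apply, Pi.smul_apply, smul_eq_mul, hee] at h1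
      exact_mod_cast h1.symm
    let t : IrrCharacter G := ⟨fun _ => 1, isIrrCharacter_one⟩
    have hnt : nn t = 1 := by
      have h1 := hnn t
      rw [hπ, frobenius_reciprocity H _ (isClassFunction_of_isIrrCharacter t.2)] at h1
      have h2 : classInner (fun _ : H => (1:ℂ)) (fun h : H => (t : G → ℂ) h) = 1 :=
        classInner_irr_self (isIrrCharacter_one (G := H))
      rw [h2] at h1
      exact_mod_cast h1.symm
    have het : ee t = 1 := by
      have h1 := hee t
      have h2 : (t : G → ℂ) 1 = 1 := rfl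
      rw [h2] at h1
      exact_mod_cast h1.symm
    have hlt : ∀ ψ : IrrCharacter G, nn ψ ≠ 0 → ψ ≠ t → ee ψ < d := by
      intro ψ hψ hψt
      have hsub : ({t, ψ} : Finset (IrrCharacter G)) ⊆ Finset.univ := Finset.subset_univ _
      have h1 := Finset.sum_le_sum_of_subset (f := fun ψ => nn ψ * ee ψ) hsub
      rw [← hdsum, Finset.sum_pair (Ne.symm hψt), hnt, het] at h1
      have h2 : 1 ≤ nn ψ := Nat.pos_of_ne_zero hψ
      have h3 : ee ψ ≤ nn ψ * ee ψ := Nat.le_mul_of_pos_left _ h2
      omega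
    have hker : ∀ ψ : IrrCharacter G, ∃ m, nn ψ ≠ 0 → InKer (ψ : G → ℂ) m := by
      intro ψ
      by_cases hψt : ψ = t
      · refine ⟨0, fun _ g _ => ?_⟩
        rw [hψt]
      · by_cases hψ0 : nn ψ = 0
        · exact ⟨0, fun h => absurd hψ0 h⟩
        · obtain ⟨m, hm⟩ := ih (ee ψ) (hlt ψ hψ0 hψt) ψ ψ.2 (hee ψ)
          exact ⟨m, fun _ => hm⟩
    choose mm hmm using hker
    set m := Finset.univ.sup mm with hm
    have hπg : ∀ g ∈ derivedSeries G m, π g = π 1 := by
      intro g hg
      rw [hπsum]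
      simp only [Finset.sum_apply, Pi.smul_apply, smul_eq_mul]
      refine Finset.sum_congr rfl (fun ψ _ => ?_)
      by_cases hψ0 : nn ψ = 0
      · rw [hψ0]; simp
      · rw [inKer_mono (Finset.le_sup (Finset.mem_univ ψ)) (hmm ψ hψ0) g hg]
    have hA : (Nat.card H : ℂ) ≠ 0 := by
      exact_mod_cast (Nat.card_pos (α := H)).ne'
    have hmH : ∀ g ∈ derivedSeries G m, g ∈ H := by
      intro g hg
      have h1 := hπg g hg
      rw [hπ, indFun_apply, indFun_apply] at h1
      have h2 := mul_left_cancel₀ (inv_ne_zero hA) h1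
      have h3 : ∀ y : G, Cfsg.extendByZero H (fun _ : H => (1:ℂ)) y = if y ∈ H then 1 else 0 := by
        intro y
        by_cases hy : y ∈ H
        · rw [extendByZero_apply_mem H _ hy, if_pos hy]
        · rw [extendByZero_apply_of_not_mem H _ hy, if_neg hy]
      simp only [h3] at h2
      rw [Finset.sum_boole, Finset.sum_boole] at h2
      have h4 : (Finset.univ.filter (fun x : G => x⁻¹ * g * x ∈ H)).card
          = (Finset.univ.filter (fun x : G => x⁻¹ * 1 * x ∈ H)).card := by exact_mod_cast h2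
      have h5 : Finset.univ.filter (fun x : G => x⁻¹ * 1 * x ∈ H) = Finset.univ := by
        rw [Finset.filter_eq_self]
        intro x _
        have : x⁻¹ * 1 * x = 1 := by group
        rw [this]; exact H.one_mem
      rw [h5, Finset.card_univ] at h4
      have h6 := (Finset.card_eq_iff_eq_univ _).mp h4
      have h7 : (1 : G) ∈ Finset.univ.filter (fun x : G => x⁻¹ * g * x ∈ H) := by
        rw [h6]; exact Finset.mem_univ _
      have h8 := (Finset.mem_filter.mp h7).2
      simpa using h8
    have hK : derivedSeries G (m + 1) ≤ lam.ker.map H.subtype := by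
      rw [derivedSeries_succ, Subgroup.commutator_le]
      intro a ha b hb
      have haH := hmH a ha
      have hbH := hmH b hb
      refine ⟨(⟨a, haH⟩ : H) * ⟨b, hbH⟩ * (⟨a, haH⟩ : H)⁻¹ * (⟨b, hbH⟩ : H)⁻¹, ?_, rfl⟩
      rw [SetLike.mem_coe, MonoidHom.mem_ker, map_mul, map_mul, map_mul, map_inv, map_inv]
      rw [mul_right_comm (lam ⟨a, haH⟩) (lam ⟨b, hbH⟩) (lam ⟨a, haH⟩)⁻¹, mul_inv_cancel, one_mul,
        mul_inv_cancel]
    refine ⟨m + 1, fun g hg => ?_⟩
    rw [hχH, indFun_apply, indFun_apply]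
    congr 1
    refine Finset.sum_congr rfl (fun x _ => ?_)
    have hx : x⁻¹ * g * x ∈ derivedSeries G (m + 1) := by
      have hnorm : (derivedSeries G (m + 1)).Normal := inferInstance
      have := hnorm.conj_mem g hg x⁻¹
      rwa [inv_inv] at this
    obtain ⟨k, hk, hkx⟩ := hK hx
    have hk1 : lam k = 1 := hk
    have e1 : x⁻¹ * g * x = (k : G) := hkx.symm
    have e2 : x⁻¹ * 1 * x = ((1 : H) : G) := by simp
    rw [e1, e2, extendByZero_apply_coe, extendByZero_apply_coe, hk1, map_one]


/-- Taketa's Theorem on M-groups: if every irreducible complex character of a finite group is induced from a linear character (a homomorphism to ℂˣ) of some subgroup, the group is solvable. -/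
theorem result {G : Type*} [Group G] [Fintype G] (hM : ∀ χ : G → ℂ, Cfsg.IsIrrCharacter G χ → ∃ (H : Subgroup G) (lam : H →* ℂˣ), χ = Cfsg.indFun H (fun h => (lam h : ℂ))) : Group.IsSolvable G := by
  classical
  haveI : Fintype (IrrCharacter G) := Fintype.ofFinite _
  have hstep := taketa_step hM
  have hk : ∀ χ : IrrCharacter G, ∃ m, InKer (χ : G → ℂ) m := by
    intro χ
    obtain ⟨e, -, he⟩ := exists_pos_nat_degree χ.2
    exact hstep e χ χ.2 he
  choose mm hmm using hk
  rw [Group.isSolvable_def]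
  refine ⟨Finset.univ.sup mm, ?_⟩
  rw [eq_bot_iff]
  intro g hg
  rw [Subgroup.mem_bot]
  by_contra hg1
  have h1 := sum_irr_degree_mul g
  rw [if_neg hg1] at h1
  have h2 := sum_irr_degree_mul (1 : G)
  rw [if_pos rfl] at h2
  have h3 : ∑ χ : IrrCharacter G, (χ : G → ℂ) 1 * (χ : G → ℂ) g
      = ∑ χ : IrrCharacter G, (χ : G → ℂ) 1 * (χ : G → ℂ) 1 :=
    Finset.sum_congr rfl (fun χ _ => by
      rw [inKer_mono (Finset.le_sup (Finset.mem_univ χ)) (hmm χ) g hg])
  rw [h1, h2] at h3
  have hc : (Nat.card G : ℂ) ≠ 0 := by exact_mod_cast (Nat.card_pos (α := G)).ne'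
  exact hc h3.symm

end Cfsg.Agent.S0175
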