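import Mathlib
import Cfsg.Statements.S0176
import Cfsg.Agent.Lib.helper82.CliffordCorr
import Cfsg.Agent.Lib.helper82.Ito
import Cfsg.Agent.Lib.helper81.CharBasic

set_option autoImplicit false
open Cfsg

namespace Cfsg.Agent.S0176

set_option linter.style.haveILetI false

open Cfsg.Agent.Lib

universe u

/-- Induction from the full group is the identity on class functions. -/
theorem indFun_top {G : Type u} [Group G] [Fintype G] (φ : G → ℂ)
    (hφ : Cfsg.IsClassFunction G φ) :
    Cfsg.indFun (⊤ : Subgroup G) (fun h => φ h) = φ := by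
  funext g
  rw [helper4.indFun_apply]
  have h1 : ∀ x : G, Cfsg.extendByZero (⊤ : Subgroup G) (fun h => φ h) (x⁻¹ * g * x) = φ g := by
    intro x
    rw [helper4.extendByZero_apply_mem _ _ (Subgroup.mem_top _)]
    have := hφ g x⁻¹
    rw [inv_inv] at this
    exact this
  rw [Finset.sum_congr rfl (fun x _ => h1 x), Finset.sum_const, Finset.card_univ,
    nsmul_eq_mul, Subgroup.card_top, Nat.card_eq_fintype_card]
  have hne : (Fintype.card G : ℂ) ≠ 0 := by
    exact_mod_cast Fintype.card_ne_zero
  rw [← mul_assoc, inv_mul_cancel₀ hne, one_mul]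

/-- Induction only depends on the subgroup up to equality. -/
theorem indFun_congr_subgroup {G : Type u} [Group G] [Fintype G] (A B : Subgroup G) (h : A = B)
    (f : A → ℂ) (g : B → ℂ)
    (hfg : ∀ (x : G) (ha : x ∈ A) (hb : x ∈ B), f ⟨x, ha⟩ = g ⟨x, hb⟩) :
    Cfsg.indFun A f = Cfsg.indFun B g := by
  subst h
  congr 1
  funext x
  exact hfg x.1 x.2 x.2

/-- Key step: a nonlinear irreducible character of a nilpotent group is induced from a proper
subgroup. -/
theorem step {G : Type u} [Group G] [Fintype G] [Group.IsNilpotent G] (χ : G → ℂ)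
    (hχ : Cfsg.IsIrrCharacter G χ) (h1 : χ 1 ≠ 1) :
    ∃ T : Subgroup G, T ≠ ⊤ ∧ ∃ ψ : T → ℂ, Cfsg.IsIrrCharacter T ψ ∧ Cfsg.indFun T ψ = χ := by
  classical
  obtain ⟨n, ρ, hirr, hρχ⟩ := hχ
  haveI := hirr
  have hχ : Cfsg.IsIrrCharacter G χ := ⟨n, ρ, hirr, hρχ⟩
  let f : G →* (Module.End ℂ (Fin n → ℂ))ˣ := MonoidHom.toHomUnits ρ
  have hf : ∀ g, ((f g : (Module.End ℂ (Fin n → ℂ))ˣ) : Module.End ℂ (Fin n → ℂ)) = ρ g :=
    fun g => MonoidHom.coe_toHomUnits ρ g
  let Z : Subgroup G := (Subgroup.center (Module.End ℂ (Fin n → ℂ))ˣ).comap f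
  haveI hZn : Z.Normal := Subgroup.normal_comap f
  have hZmem : ∀ z ∈ Z, ∀ u, Commute (f z) u := by
    intro z hz u
    have := Subgroup.mem_center_iff.1 (Subgroup.mem_comap.1 hz) u
    exact this.symm
  have hZscal : ∀ g : G, (∃ c : ℂ, ρ g = c • (1 : Module.End ℂ (Fin n → ℂ))) → g ∈ Z := by
    rintro g ⟨c, hc⟩
    refine Subgroup.mem_comap.2 (Subgroup.mem_center_iff.2 (fun u => ?_))
    apply Units.ext
    rw [Units.val_mul, Units.val_mul, hf, hc, mul_smul_comm, smul_mul_assoc, mul_one, one_mul]
  have hZtop : Z ≠ ⊤ := by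
    intro htop
    have hscal : ∀ a ∈ (⊤ : Subgroup G), ∃ c : ℂ, ρ a = c • (1 : Module.End ℂ (Fin n → ℂ)) := by
      intro a _
      have ha : a ∈ Z := htop ▸ Subgroup.mem_top a
      obtain ⟨c, hc⟩ := helper81.schur_exists_scalar ρ (ρ a) (fun g => by
        have := hZmem a ha (f g)
        have h2 := congrArg Units.val this.eq
        rw [Units.val_mul, Units.val_mul, hf, hf] at h2
        exact h2)
      exact ⟨c, hc⟩
    have hdvd := helper82.finrank_dvd_index_of_scalar ρ ⊤ hscal
    rw [Subgroup.index_top, Nat.dvd_one] at hdvd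
    apply h1
    rw [← hρχ, Representation.char_one, hdvd]
    simp
  haveI : Nontrivial (G ⧸ Z) :=
    not_subsingleton_iff_nontrivial.1
      (fun h => hZtop (QuotientGroup.subgroup_eq_top_of_subsingleton Z h))
  obtain ⟨q, hqc, hq1⟩ : ∃ q : G ⧸ Z, q ∈ Subgroup.center (G ⧸ Z) ∧ q ≠ 1 := by
    have := Group.IsNilpotent.center_ne_bot (G := G ⧸ Z)
    rw [Ne, Subgroup.eq_bot_iff_forall] at this
    push Not at this
    exact this
  let x : G := q.out
  have hx : (QuotientGroup.mk x : G ⧸ Z) = q := QuotientGroup.out_eq' q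
  let A : Subgroup G := (Subgroup.zpowers q).comap (QuotientGroup.mk' Z)
  haveI hAn : A.Normal := by
    haveI : (Subgroup.zpowers q).Normal := ⟨fun y hy g => by
      have hyc : y ∈ Subgroup.center (G ⧸ Z) := (Subgroup.zpowers_le.2 hqc) hy
      have := Subgroup.mem_center_iff.1 hyc g
      rw [this, mul_inv_cancel_right]
      exact hy⟩
    exact Subgroup.normal_comap _
  have hxA : x ∈ A :=
    Subgroup.mem_comap.2 (by rw [QuotientGroup.mk'_apply, hx]; exact Subgroup.mem_zpowers q)
  have hxZ : x ∉ Z := fun h => hq1 (by rw [← hx]; exact (QuotientGroup.eq_one_iff x).2 h)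
  have hAcomm : ∀ a ∈ A, ∀ b ∈ A, Commute (f a) (f b) := by
    have key : ∀ a ∈ A, ∃ (i : ℤ) (z : G), z ∈ Z ∧ a = x ^ i * z := by
      intro a ha
      obtain ⟨i, hi⟩ := Subgroup.mem_zpowers_iff.1 (Subgroup.mem_comap.1 ha)
      refine ⟨i, (x ^ i)⁻¹ * a, ?_, by group⟩
      rw [← QuotientGroup.eq, QuotientGroup.mk_zpow, hx, hi]
      rfl
    intro a ha b hb
    obtain ⟨i, z, hz, rfl⟩ := key a ha
    obtain ⟨j, z', hz', rfl⟩ := key b hb
    rw [map_mul, map_mul, map_zpow, map_zpow]
    have h1 : Commute (f x ^ i) (f x ^ j * f z') :=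
      ((Commute.refl (f x)).zpow_zpow i j).mul_right (hZmem z' hz' _).symm
    exact h1.mul_left (hZmem z hz _)
  haveI : Fintype A := Fintype.ofFinite A
  haveI : Fintype (Cfsg.IrrCharacter A) := Fintype.ofFinite _
  obtain ⟨θ, hθ, e, he, he0⟩ := helper82.exists_constituent_restrict A hχ
  by_cases hT : helper82.inertia A θ = ⊤
  · exfalso
    have hinv : ∀ g : G, helper82.cconj A g θ = θ := fun g =>
      (helper82.mem_inertia A θ g).mp (hT ▸ Subgroup.mem_top g)
    have hval := helper82.clifford_invariant A hχ hθ hinv e he he0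
    have he' : (e : ℂ) ≠ 0 := by exact_mod_cast he0
    have hθ1 : θ 1 = 1 := by
      refine (helper82.irr_linear_iff hθ).2 (fun c hc => ?_)
      have hker : c ∈ (f.comp A.subtype).ker := by
        have hle : commutator A ≤ (f.comp A.subtype).ker := by
          rw [commutator_def, Subgroup.commutator_le]
          intro a _ b _
          rw [MonoidHom.mem_ker, map_commutatorElement, commutatorElement_eq_one_iff_commute]
          exact hAcomm a a.2 b b.2
        exact hle hc
      have hρc : ρ (c : G) = 1 := by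
        have := MonoidHom.mem_ker.1 hker
        have h2 := congrArg Units.val this
        rw [MonoidHom.comp_apply, hf] at h2
        simpa using h2
      have hχc : χ (c : G) = χ 1 := by
        rw [← hρχ]
        simp [Representation.character, hρc]
      have h3 := hval c
      have h4 := hval 1
      rw [hχc] at h3
      rw [Subgroup.coe_one] at h4
      exact mul_left_cancel₀ he' (h3.symm.trans h4)
    obtain ⟨lam, hlam⟩ := helper82.exists_hom_of_linear (helper83.isCharacter_of_irr hθ) hθ1
    have hscal : ∀ a ∈ A, ∃ c : ℂ, ρ a = c • (1 : Module.End ℂ (Fin n → ℂ)) := by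
      intro a ha
      refine ⟨(lam ⟨a, ha⟩ : ℂ), ?_⟩
      have hfa : (lam ⟨a, ha⟩ : ℂ) ≠ 0 := Units.ne_zero _
      have hpow : (lam ⟨a, ha⟩ : ℂ) ^ orderOf a = 1 := by
        have h1 : (⟨a, ha⟩ : A) ^ orderOf a = 1 := by
          apply Subtype.ext
          simp [pow_orderOf_eq_one]
        have h2 : lam ⟨a, ha⟩ ^ orderOf a = 1 := by rw [← map_pow, h1, map_one]
        have h3 := congrArg (fun u : ℂˣ => (u : ℂ)) h2
        simpa using h3
      have h1 : ((lam ⟨a, ha⟩ : ℂ)⁻¹ • ρ a) = 1 := by
        apply helper82.eq_one_of_trace_eq_finrank _ (orderOf a) (orderOf_pos a)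
        · rw [smul_pow, helper82.rep_pow_orderOf, inv_pow, hpow, inv_one, one_smul]
        · rw [map_smul, smul_eq_mul]
          have h2 : ρ.character a = e * θ ⟨a, ha⟩ := by rw [hρχ]; exact hval ⟨a, ha⟩
          have h3 : ρ.character 1 = e * θ 1 := by rw [hρχ]; exact hval 1
          rw [hθ1, mul_one, Representation.char_one] at h3
          have h4 : LinearMap.trace ℂ (Fin n → ℂ) (ρ a) = ρ.character a := rfl
          rw [h4, h2, hlam, h3]
          field_simp
      rw [← h1, smul_smul, mul_inv_cancel₀ hfa, one_smul]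
    exact hxZ (hZscal x (hscal x hxA))
  · refine ⟨helper82.inertia A θ, hT, ?_⟩
    have hAT : A ≤ helper82.inertia A θ :=
      helper82.le_inertia A (helper4.isClassFunction_of_isIrrCharacter hθ)
    haveI : Fintype (helper82.inertia A θ) := Fintype.ofFinite _
    obtain ⟨ψ, hψ, hind, -⟩ := helper82.clifford_corr_surj A (helper82.inertia A θ) hAT hθ rfl hχ
        (by rw [he]; exact_mod_cast he0)
    exact ⟨ψ, hψ, hind⟩

theorem aux : ∀ (n : ℕ) (G : Type u) [Group G] [Fintype G] [Group.IsNilpotent G],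
    Nat.card G ≤ n → ∀ χ : G → ℂ, Cfsg.IsIrrCharacter G χ →
    ∃ (H : Subgroup G) (lam : H →* ℂˣ), χ = Cfsg.indFun H (fun h => (lam h : ℂ)) := by
  intro n
  induction n with
  | zero =>
    intro G _ _ _ hcard
    exact absurd hcard (by have := Nat.card_pos (α := G); omega)
  | succ n ih =>
    intro G _ _ _ hcard χ hχ
    classical
    by_cases h1 : χ 1 = 1
    · obtain ⟨lam, hlam⟩ := helper82.exists_hom_of_linear (helper83.isCharacter_of_irr hχ) h1
      refine ⟨⊤, lam.comp (⊤ : Subgroup G).subtype, ?_⟩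
      have := indFun_top χ (helper4.isClassFunction_of_isIrrCharacter hχ)
      rw [← this]
      congr 1
      funext h
      exact hlam h
    · obtain ⟨T, hT, ψ, hψ, hind⟩ := step χ hχ h1
      haveI : Fintype T := Fintype.ofFinite T
      have hTcard : Nat.card T ≤ n := by
        have hlt : Nat.card T < Nat.card G :=
          lt_of_not_ge (fun h => hT (Subgroup.eq_top_of_le_card _ h))
        omega
      obtain ⟨H', lam, hlam⟩ := ih T hTcard ψ hψ
      have hle : H'.map T.subtype ≤ T := Subgroup.map_subtype_le H'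
      let e : H' ≃* H'.map T.subtype := H'.equivMapOfInjective T.subtype T.subtype_injective
      refine ⟨H'.map T.subtype, lam.comp e.symm.toMonoidHom, ?_⟩
      rw [← hind, hlam, ← helper4.indFun_trans (H'.map T.subtype) T hle]
      congr 1
      apply indFun_congr_subgroup
      · exact (Subgroup.comap_map_eq_self_of_injective T.subtype_injective H').symm
      · intro y ha hb
        show ((lam ⟨y, ha⟩ : ℂˣ) : ℂ) = ((lam (e.symm ⟨(y : G), _⟩) : ℂˣ) : ℂ)
        congr 2
        rw [MulEquiv.eq_symm_apply]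
        exact Subtype.ext rfl

/-- A finite nilpotent group is an M-group: each irreducible complex character is induced from a homomorphism of some subgroup into ℂˣ. -/
theorem result {G : Type*} [Group G] [Fintype G] [Group.IsNilpotent G] (χ : G → ℂ) (hχ : Cfsg.IsIrrCharacter G χ) : ∃ (H : Subgroup G) (lam : H →* ℂˣ), χ = Cfsg.indFun H (fun h => (lam h : ℂ)) := by
  exact aux (Nat.card G) G le_rfl χ hχ

end Cfsg.Agent.S0176
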