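import Mathlib
import Cfsg.Statements.S0177
import Cfsg.Agent.Lib.helper4.Induction
import Cfsg.Agent.Lib.helper82.CharQuot

set_option autoImplicit false
open Cfsg

namespace Cfsg.Agent.S0177

open Cfsg.Agent.Lib.helper4

/-- Integer combinations of functions induced from linear characters of cyclic subgroups. -/
def Good {G : Type*} [Group G] [Fintype G] (f : G → ℂ) : Prop :=
  ∃ l : List ((A : Subgroup G) × ((A →* ℂˣ) × ℤ)), (∀ t ∈ l, IsCyclic t.1) ∧
    f = (l.map fun t => (t.2.2 : ℂ) • Cfsg.indFun t.1 (fun a => (t.2.1 a : ℂ))).sum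

theorem good_zero {G : Type*} [Group G] [Fintype G] : Good (0 : G → ℂ) :=
  ⟨[], by simp, by simp⟩

theorem good_add {G : Type*} [Group G] [Fintype G] {f g : G → ℂ} (hf : Good f) (hg : Good g) :
    Good (f + g) := by
  obtain ⟨l₁, h₁, rfl⟩ := hf
  obtain ⟨l₂, h₂, rfl⟩ := hg
  refine ⟨l₁ ++ l₂, ?_, ?_⟩
  · intro t ht
    rcases List.mem_append.mp ht with h | h
    · exact h₁ t h
    · exact h₂ t h
  · rw [List.map_append, List.sum_append]

theorem good_zsmul {G : Type*} [Group G] [Fintype G] (n : ℤ) {f : G → ℂ} (hf : Good f) :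
    Good ((n : ℂ) • f) := by
  obtain ⟨l, h, rfl⟩ := hf
  refine ⟨l.map (fun t => ⟨t.1, (t.2.1, n * t.2.2)⟩), ?_, ?_⟩
  · intro t ht
    obtain ⟨s, hs, rfl⟩ := List.mem_map.mp ht
    exact h s hs
  · rw [List.map_map, List.smul_sum, List.map_map]
    congr 1
    apply List.map_congr_left
    intro t _
    simp only [Function.comp_apply]
    rw [smul_smul]
    push_cast
    rfl

theorem good_sub {G : Type*} [Group G] [Fintype G] {f g : G → ℂ} (hf : Good f) (hg : Good g) :
    Good (f - g) := by
  have h := good_add hf (good_zsmul (-1) hg)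
  have e : f - g = f + ((-1 : ℤ) : ℂ) • g := by
    ext x; simp [sub_eq_add_neg]
  rw [e]; exact h

theorem good_sum {G : Type*} [Group G] [Fintype G] {ι : Type*} (s : Finset ι) (φ : ι → G → ℂ)
    (h : ∀ i ∈ s, Good (φ i)) : Good (∑ i ∈ s, φ i) := by
  classical
  induction s using Finset.induction_on with
  | empty => simpa using good_zero
  | insert a s ha ih =>
    rw [Finset.sum_insert ha]
    exact good_add (h a (Finset.mem_insert_self a s))
      (ih (fun i hi => h i (Finset.mem_insert_of_mem hi)))

theorem good_ind {G : Type*} [Group G] [Fintype G] (A : Subgroup G) (hA : IsCyclic A)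
    (f : A →* ℂˣ) : Good (Cfsg.indFun A (fun a => (f a : ℂ))) :=
  ⟨[⟨A, (f, 1)⟩], by simpa using hA, by simp⟩

/-- The restriction of a character to a cyclic subgroup is a sum of linear characters. -/
theorem restrict_eq_list {G : Type*} [Group G] [Fintype G] (A : Subgroup G) [IsCyclic A]
    {χ : G → ℂ} (hχ : IsCharacter G χ) :
    ∃ l : List (A →* ℂˣ),
      (fun a : A => χ a) = (l.map (fun f => (fun a : A => (f a : ℂ)))).sum := by
  obtain ⟨l, hl⟩ := exists_list_irr_of_isCharacter (isCharacter_restrict A hχ)
  have hlin : ∀ ψ : IrrCharacter A, ∃ f : A →* ℂˣ, (ψ : A → ℂ) = fun a => (f a : ℂ) := by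
    intro ψ
    obtain ⟨n, ρ, hirr, hψ⟩ := ψ.2
    haveI := hirr
    haveI : IsMulCommutative A := IsCyclic.isMulCommutative
    have h1 : (ψ : A → ℂ) 1 = 1 := by
      rw [← hψ, Representation.char_one]
      have := Representation.IsIrreducible.finrank_eq_one_of_isMulCommutative ρ
      rw [this, Nat.cast_one]
    obtain ⟨f, hf⟩ := Cfsg.Agent.Lib.helper82.exists_hom_of_linear
      (isCharacter_of_isIrrCharacter ψ.2) h1
    exact ⟨f, funext hf⟩
  choose F hF using hlin
  refine ⟨l.map F, ?_⟩
  rw [hl]
  clear hl
  induction l with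
  | nil => rfl
  | cons ψ l ih =>
    have e1 : (List.map (fun χ => (χ : A → ℂ)) (ψ :: l)).sum
        = (ψ : A → ℂ) + (List.map (fun χ => (χ : A → ℂ)) l).sum := by
      rw [List.map_cons, List.sum_cons]
    rw [List.map_cons, List.map_cons, List.sum_cons, ← ih, ← hF ψ]
    exact e1

open Classical in
/-- Number of `x` with `⟨x⁻¹ g x⟩ = A`. -/
noncomputable def cntEq {G : Type*} [Group G] [Fintype G] (A : Subgroup G) (g : G) : ℕ :=
  (Finset.univ.filter (fun x : G => Subgroup.zpowers (x⁻¹ * g * x) = A)).card

open Classical in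
/-- Number of `x` with `x⁻¹ g x ∈ A`. -/
noncomputable def cntMem {G : Type*} [Group G] [Fintype G] (A : Subgroup G) (g : G) : ℕ :=
  (Finset.univ.filter (fun x : G => x⁻¹ * g * x ∈ A)).card

theorem good_psi {G : Type*} [Group G] [Fintype G] (A : Subgroup G) [IsCyclic A] {χ : G → ℂ}
    (hχ : IsCharacter G χ) : Good (fun g => χ g * (cntMem A g : ℂ)) := by
  classical
  obtain ⟨l, hl⟩ := restrict_eq_list A hχ
  have h1 : Good ((l.map (fun f => Cfsg.indFun A (fun a : A => (f a : ℂ)))).sum) := by
    clear hl
    induction l with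
    | nil => simpa using good_zero
    | cons f l ih =>
      rw [List.map_cons, List.sum_cons]
      exact good_add (good_ind A inferInstance f) ih
  have h2' : ∀ l' : List (A →* ℂˣ),
      (l'.map (fun f => Cfsg.indFun A (fun a : A => (f a : ℂ)))).sum
        = Cfsg.indFun A ((l'.map (fun f => (fun a : A => (f a : ℂ)))).sum) := by
    intro l'
    induction l' with
    | nil => simp [indFun_zero]
    | cons f l' ih =>
      rw [List.map_cons, List.sum_cons, List.map_cons, List.sum_cons, indFun_add, ih]
  have h2 : (l.map (fun f => Cfsg.indFun A (fun a : A => (f a : ℂ)))).sum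
      = Cfsg.indFun A (fun a : A => χ a) := by
    rw [hl]; exact h2' l
  have h3 : (fun g => χ g * (cntMem A g : ℂ))
      = ((Nat.card A : ℤ) : ℂ) • Cfsg.indFun A (fun a : A => χ a) := by
    funext g
    rw [Pi.smul_apply, indFun_apply, smul_eq_mul]
    have hA : (Nat.card A : ℂ) ≠ 0 := by exact_mod_cast (Nat.card_pos (α := A)).ne'
    have h4 : ∑ x : G, Cfsg.extendByZero A (fun a : A => χ a) (x⁻¹ * g * x)
        = χ g * (cntMem A g : ℂ) := by
      unfold cntMem
      rw [Finset.card_filter, Nat.cast_sum, Finset.mul_sum]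
      refine Finset.sum_congr rfl (fun x _ => ?_)
      by_cases hx : x⁻¹ * g * x ∈ A
      · rw [extendByZero_apply_mem A _ hx, if_pos hx]
        have := isClassFunction_of_isCharacter hχ g x⁻¹
        rw [inv_inv] at this
        simp [this]
      · rw [extendByZero_apply_of_not_mem A _ hx, if_neg hx]; simp
    rw [h4]
    push_cast
    field_simp
  rw [h3, ← h2]
  exact good_zsmul _ h1

open Classical in
theorem cntMem_eq_sum {G : Type*} [Group G] [Fintype G] [Fintype (Subgroup G)]
    (A : Subgroup G) (g : G) :
    cntMem A g = ∑ B ∈ Finset.univ.filter (fun B : Subgroup G => B ≤ A), cntEq B g := by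
  classical
  unfold cntMem cntEq
  rw [Finset.card_eq_sum_card_fiberwise (f := fun x : G => Subgroup.zpowers (x⁻¹ * g * x))
    (t := Finset.univ.filter (fun B : Subgroup G => B ≤ A))]
  · refine Finset.sum_congr rfl (fun B hB => ?_)
    congr 1
    ext x
    simp only [Finset.mem_filter, Finset.mem_univ, true_and]
    constructor
    · exact fun h => h.2
    · intro h
      refine ⟨?_, h⟩
      have hB' := (Finset.mem_filter.mp hB).2
      apply hB'
      rw [← h]; exact Subgroup.mem_zpowers _
  · intro x hx
    have hx' := (Finset.mem_filter.mp hx).2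
    exact Finset.mem_filter.mpr ⟨Finset.mem_univ _, by rw [Subgroup.zpowers_le]; exact hx'⟩

theorem card_eq_sum_cntEq {G : Type*} [Group G] [Fintype G] [Fintype (Subgroup G)] (g : G) :
    Fintype.card G = ∑ B : Subgroup G, cntEq B g := by
  classical
  unfold cntEq
  rw [← Finset.card_univ (α := G)]
  exact Finset.card_eq_sum_card_fiberwise
    (f := fun x : G => Subgroup.zpowers (x⁻¹ * g * x)) (fun x _ => Finset.mem_univ _)

theorem good_phi {G : Type*} [Group G] [Fintype G] {χ : G → ℂ} (hχ : IsCharacter G χ) :
    ∀ (n : ℕ) (A : Subgroup G), Nat.card A = n → Good (fun g => χ g * (cntEq A g : ℂ)) := by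
  classical
  haveI : Fintype (Subgroup G) := Fintype.ofFinite _
  intro n
  induction n using Nat.strong_induction_on with
  | _ n ih =>
    intro A hA
    by_cases hcyc : IsCyclic A
    · have h1 := good_psi A hχ
      have h2 : (fun g => χ g * (cntMem A g : ℂ)) = (fun g => χ g * (cntEq A g : ℂ))
          + ∑ B ∈ Finset.univ.filter (fun B : Subgroup G => B < A),
              (fun g => χ g * (cntEq B g : ℂ)) := by
        funext g
        rw [cntMem_eq_sum A g]
        have hsplit : Finset.univ.filter (fun B : Subgroup G => B ≤ A)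
            = insert A (Finset.univ.filter (fun B : Subgroup G => B < A)) := by
          ext B
          simp only [Finset.mem_filter, Finset.mem_univ, true_and, Finset.mem_insert]
          rw [le_iff_eq_or_lt]
        rw [hsplit, Finset.sum_insert (by simp)]
        simp only [Pi.add_apply, Finset.sum_apply]
        push_cast
        rw [mul_add, Finset.mul_sum]
      have h3 : (fun g => χ g * (cntEq A g : ℂ)) = (fun g => χ g * (cntMem A g : ℂ))
          - ∑ B ∈ Finset.univ.filter (fun B : Subgroup G => B < A),
              (fun g => χ g * (cntEq B g : ℂ)) := by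
        rw [h2]; simp
      rw [h3]
      apply good_sub h1
      apply good_sum
      intro B hB
      have hBA : B < A := (Finset.mem_filter.mp hB).2
      have hlt : Nat.card B < n := by
        rw [← hA]
        exact lt_of_not_ge (fun h => hBA.ne (Subgroup.eq_of_le_of_card_ge hBA.le h))
      exact ih _ hlt B rfl
    · have h0 : (fun g => χ g * (cntEq A g : ℂ)) = 0 := by
        funext g
        have : cntEq A g = 0 := by
          unfold cntEq
          rw [Finset.card_eq_zero, Finset.filter_eq_empty_iff]
          intro x _ hx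
          apply hcyc
          rw [← hx]
          infer_instance
        rw [this]; simp
      rw [h0]; exact good_zero


/-- The Artin induction Theorem: for a character χ of a finite group, |G| • χ is a ℤ-linear combination of functions induced from homomorphisms of cyclic subgroups into ℂˣ. -/
theorem result {G : Type*} [Group G] [Fintype G] (χ : G → ℂ) (hχ : Cfsg.IsCharacter G χ) : ∃ l : List ((A : Subgroup G) × ((A →* ℂˣ) × ℤ)), (∀ t ∈ l, IsCyclic t.1) ∧ (Nat.card G : ℂ) • χ = (l.map fun t => (t.2.2 : ℂ) • Cfsg.indFun t.1 (fun a => (t.2.1 a : ℂ))).sum := by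
  classical
  haveI : Fintype (Subgroup G) := Fintype.ofFinite _
  have h1 : (Nat.card G : ℂ) • χ = ∑ B : Subgroup G, (fun g => χ g * (cntEq B g : ℂ)) := by
    funext g
    rw [Pi.smul_apply, smul_eq_mul, Finset.sum_apply, ← Finset.mul_sum, Nat.card_eq_fintype_card,
      card_eq_sum_cntEq g]
    push_cast
    ring
  have h2 : Good ((Nat.card G : ℂ) • χ) := by
    rw [h1]
    exact good_sum _ _ (fun B _ => good_phi hχ _ B rfl)
  exact h2

end Cfsg.Agent.S0177
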