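import Mathlib
import Cfsg.Statements.S0178
import Cfsg.Agent.Lib.helper5.Rep
import Cfsg.Agent.Lib.helper5.CommEig

set_option autoImplicit false
open Cfsg

namespace Cfsg.Agent.S0178

/-- The degree of an irreducible complex representation of a finite group is at most the index of any abelian subgroup. -/
theorem result {G : Type*} [Group G] [Finite G] {V : Type*} [AddCommGroup V] [Module ℂ V] [FiniteDimensional ℂ V] (ρ : Representation ℂ G V) [ρ.IsIrreducible] (A : Subgroup G) (hA : ∀ a ∈ A, ∀ b ∈ A, a * b = b * a) : Module.finrank ℂ V ≤ A.index := by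
  classical
  have hnt : Nontrivial V := Cfsg.Agent.Lib.helper5.irr_nontrivial ρ
  obtain ⟨v, hv0, hv⟩ := Cfsg.Agent.Lib.helper5.exists_common_eigenvector
    (Set.range (fun a : A => ρ (a : G))) (by
      rintro _ ⟨a, rfl⟩ _ ⟨b, rfl⟩
      show ρ a * ρ b = ρ b * ρ a
      rw [← map_mul, ← map_mul, hA a a.2 b b.2])
  have hv' : ∀ a ∈ A, ∃ c : ℂ, ρ a v = c • v := fun a ha => hv _ ⟨⟨a, ha⟩, rfl⟩
  have := Fintype.ofFinite (G ⧸ A)
  let b : G ⧸ A → V := fun q => ρ (Quotient.out q) v
  let W : Submodule ℂ V := Submodule.span ℂ (Set.range b)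
  have hWinv : ∀ g w, w ∈ W → ρ g w ∈ W := by
    intro g w hw
    induction hw using Submodule.span_induction with
    | mem x hx =>
      obtain ⟨q, rfl⟩ := hx
      set q' : G ⧸ A := QuotientGroup.mk (g * Quotient.out q) with hq'
      have hmem : (Quotient.out q')⁻¹ * (g * Quotient.out q) ∈ A :=
        QuotientGroup.eq.1 (Quotient.out_eq' q')
      obtain ⟨c, hc⟩ := hv' _ hmem
      have h1 : ρ g (b q) = c • b q' := by
        calc ρ g (ρ (Quotient.out q) v)
            = ρ (Quotient.out q' * ((Quotient.out q')⁻¹ * (g * Quotient.out q))) v := by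
              rw [mul_inv_cancel_left, map_mul]; rfl
          _ = ρ (Quotient.out q') (ρ ((Quotient.out q')⁻¹ * (g * Quotient.out q)) v) := by
              rw [map_mul]; rfl
          _ = c • ρ (Quotient.out q') v := by rw [hc, map_smul]
      rw [h1]
      exact Submodule.smul_mem _ _ (Submodule.subset_span ⟨q', rfl⟩)
    | zero => simp
    | add x y _ _ hx hy => rw [map_add]; exact Submodule.add_mem _ hx hy
    | smul c x _ hx => rw [map_smul]; exact Submodule.smul_mem _ _ hx
  have hW : W = ⊤ := by
    rcases Cfsg.Agent.Lib.helper5.irr_submodule_eq_bot_or_top ρ W hWinv with h | h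
    · exfalso
      have h1 : b (QuotientGroup.mk 1) ∈ W := Submodule.subset_span ⟨_, rfl⟩
      rw [h, Submodule.mem_bot] at h1
      apply hv0
      have h2 : v = ρ (Quotient.out (QuotientGroup.mk (1 : G) : G ⧸ A))⁻¹
          (b (QuotientGroup.mk (1 : G))) := by
        show v = ρ (Quotient.out (QuotientGroup.mk (1 : G) : G ⧸ A))⁻¹
          (ρ (Quotient.out (QuotientGroup.mk (1 : G) : G ⧸ A)) v)
        rw [← Module.End.mul_apply, ← map_mul, inv_mul_cancel, map_one, Module.End.one_apply]
      rw [h2, h1, map_zero]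
    · exact h
  calc Module.finrank ℂ V = Module.finrank ℂ (⊤ : Submodule ℂ V) := (finrank_top ℂ V).symm
    _ = Module.finrank ℂ W := by rw [hW]
    _ ≤ Fintype.card (G ⧸ A) := finrank_range_le_card b
    _ = A.index := by rw [Subgroup.index_eq_card, Nat.card_eq_fintype_card]

end Cfsg.Agent.S0178
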