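import Mathlib
import Cfsg.Statements.S0179
import Cfsg.Agent.Lib.helper81.CharOrtho
import Cfsg.Agent.Lib.helper5.Irr

set_option autoImplicit false
open Cfsg

namespace Cfsg.Agent.S0179

open Cfsg.Agent.Lib.helper81 Cfsg.Agent.Lib.helper5
open scoped ComplexConjugate

/-- Sum over `G` of a function constant on left cosets of `H`. -/
theorem sum_eq_card_mul_sum_transversal {G : Type*} [Group G] [Fintype G] (H : Subgroup G)
    (S : Set G) (hS : Subgroup.IsComplement S (H : Set G)) [Fintype S] (F : G → ℂ)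
    (hF : ∀ g : G, ∀ z ∈ H, F (g * z) = F g) :
    ∑ g : G, F g = (Nat.card H : ℂ) * ∑ s : S, F s := by
  classical
  haveI : Fintype H := Fintype.ofFinite H
  have hS' : Function.Bijective fun x : S × (H : Set G) => x.1.1 * x.2.1 := hS
  rw [← (Equiv.ofBijective _ hS').sum_comp]
  rw [Fintype.sum_prod_type]
  simp only [Equiv.ofBijective_apply]
  rw [Finset.mul_sum]
  refine Finset.sum_congr rfl (fun s _ => ?_)
  have h1 : ∀ z : (H : Set G), F ((s : G) * (z : G)) = F s := fun z => hF s z z.2
  rw [Finset.sum_congr rfl (fun z _ => h1 z)]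
  rw [Finset.sum_const, Finset.card_univ, nsmul_eq_mul]
  congr 1
  rw [Nat.card_eq_fintype_card]
  rfl


/-- The degree of an irreducible complex representation of a finite group divides the index of the centre. -/
theorem result {G : Type*} [Group G] [Finite G] {V : Type*} [AddCommGroup V] [Module ℂ V] [FiniteDimensional ℂ V] (ρ : Representation ℂ G V) [ρ.IsIrreducible] : Module.finrank ℂ V ∣ (Subgroup.center G).index := by
  classical
  haveI : Fintype G := Fintype.ofFinite G
  have hd_pos : 0 < Module.finrank ℂ V := finrank_pos_of_irreducible ρ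
  have hχ1 : ρ.character 1 = (Module.finrank ℂ V : ℂ) := Representation.char_one ρ
  have hne1 : ρ.character 1 ≠ 0 := char_one_ne_zero ρ
  -- scalars
  have hsc : ∀ z : G, z ∈ Subgroup.center G → ∃ c : ℂ, ρ z = c • LinearMap.id := by
    intro z hz
    apply schur_exists_scalar ρ (ρ z)
    intro g
    have h1 : g * z = z * g := Subgroup.mem_center_iff.mp hz g
    show ρ z * ρ g = ρ g * ρ z
    rw [← map_mul, ← map_mul, h1]
  choose! lam hlam using hsc
  have hχz : ∀ z ∈ Subgroup.center G, ∀ g : G,
      ρ.character (z * g) = lam z * ρ.character g := by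
    intro z hz g
    unfold Representation.character
    rw [map_mul, hlam z hz, smul_mul_assoc, map_smul, smul_eq_mul]
    rfl
  have hlaminv : ∀ z ∈ Subgroup.center G, lam z⁻¹ * lam z = 1 := by
    intro z hz
    have h1 := hχz z⁻¹ (inv_mem hz) z
    have h2 := hχz z hz 1
    rw [inv_mul_cancel] at h1
    rw [mul_one] at h2
    rw [h2, ← mul_assoc] at h1
    have h3 : (1 : ℂ) * ρ.character 1 = lam z⁻¹ * lam z * ρ.character 1 := by
      rw [one_mul]; exact h1
    exact (mul_right_cancel₀ hne1 h3).symm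
  -- orthogonality
  have hcard : (Nat.card G : ℂ) ≠ 0 := by
    have : 0 < Nat.card G := Nat.card_pos
    exact_mod_cast this.ne'
  have horth : ∑ x : G, ρ.character x⁻¹ * ρ.character x = (Nat.card G : ℂ) := by
    have h1 := irr_classInner_self
      (⟨ρ.character, isIrrCharacter_of_irreducible ρ⟩ : IrrCharacter G)
    unfold classInner at h1
    have h2 : ∑ g : G, ρ.character g * conj (ρ.character g) = (Nat.card G : ℂ) := by
      have h3 : (Nat.card G : ℂ)⁻¹ * ∑ g : G, ρ.character g * conj (ρ.character g) = 1 := h1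
      field_simp at h3
      exact h3
    rw [← h2]
    refine Finset.sum_congr rfl (fun x _ => ?_)
    rw [char_inv ρ x, mul_comm]
  -- the ring of values
  set O : Subalgebra ℤ ℂ := Algebra.adjoin ℤ (Set.range ρ.character) with hO
  have hOfg : (Subalgebra.toSubmodule O).FG :=
    fg_adjoin_of_finite (Set.finite_range _)
      (by rintro _ ⟨g, rfl⟩; exact isIntegral_char ρ g)
  haveI : Module.Finite ℤ O := Module.Finite.iff_fg.mpr hOfg
  haveI : IsNoetherian ℤ (G → O) := isNoetherian_of_isNoetherianRing_of_finite ℤ (G → O)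
  have hmemO : ∀ g : G, ρ.character g ∈ O := fun g => Algebra.subset_adjoin ⟨g, rfl⟩
  let M₀ : Submodule ℤ (G → O) :=
    { carrier := {m | (∀ g h : G, m (h * g * h⁻¹) = m g) ∧
        ∀ z ∈ Subgroup.center G, ∀ g : G, (m (z * g) : ℂ) = lam z⁻¹ * (m g : ℂ)}
      add_mem' := by
        rintro m₁ m₂ ⟨h1, h1'⟩ ⟨h2, h2'⟩
        refine ⟨fun g h => ?_, fun z hz g => ?_⟩
        · simp [h1 g h, h2 g h]
        · simp [h1' z hz g, h2' z hz g, mul_add]
      zero_mem' := ⟨fun g h => rfl, fun z hz g => by simp⟩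
      smul_mem' := by
        rintro c m ⟨h1, h1'⟩
        refine ⟨fun g h => ?_, fun z hz g => ?_⟩
        · simp [h1 g h]
        · simp [h1' z hz g]; ring }
  let ω₀ : (G → O) →ₗ[ℤ] ℂ :=
    { toFun := fun m => ∑ g : G, (m g : ℂ) * ρ.character g
      map_add' := by intro m₁ m₂; simp [add_mul, Finset.sum_add_distrib]
      map_smul' := by intro c m; simp [Finset.mul_sum, mul_assoc] }
  have hω₀ : ∀ m : G → O, ω₀ m = ∑ g : G, (m g : ℂ) * ρ.character g := fun m => rfl
  obtain ⟨S, hS, -⟩ := Subgroup.exists_isComplement_left (Subgroup.center G) (1 : G)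
  haveI : Fintype S := Fintype.ofFinite S
  have hZne : (Nat.card (Subgroup.center G) : ℂ) ≠ 0 := by
    have : 0 < Nat.card (Subgroup.center G) := Nat.card_pos
    exact_mod_cast this.ne'
  have hidx : (Nat.card (Subgroup.center G) : ℂ) * ((Subgroup.center G).index : ℂ)
      = (Nat.card G : ℂ) := by
    exact_mod_cast (Subgroup.center G).card_mul_index
  have hint : IsIntegral ℤ (((Subgroup.center G).index : ℂ) / (Module.finrank ℂ V : ℂ)) := by
    refine isIntegral_of_smul_mem_submodule (M₀.map ω₀) ?_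
      ((IsNoetherian.noetherian M₀).map ω₀) _ ?_
    · -- nonzero
      intro hbot
      let a₀ : G → O := fun x => ⟨ρ.character x⁻¹, hmemO x⁻¹⟩
      have ha₀ : a₀ ∈ M₀ := by
        refine ⟨fun g h => ?_, fun z hz g => ?_⟩
        · apply Subtype.ext
          show ρ.character (h * g * h⁻¹)⁻¹ = ρ.character g⁻¹
          have : (h * g * h⁻¹)⁻¹ = h * g⁻¹ * h⁻¹ := by group
          rw [this, Representation.char_conj]
        · show ρ.character (z * g)⁻¹ = lam z⁻¹ * ρ.character g⁻¹
          have h1 : g⁻¹ * z⁻¹ = z⁻¹ * g⁻¹ := Subgroup.mem_center_iff.mp (inv_mem hz) g⁻¹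
          rw [mul_inv_rev, h1, hχz z⁻¹ (inv_mem hz)]
      have h1 : ω₀ a₀ ∈ M₀.map ω₀ := Submodule.mem_map_of_mem ha₀
      rw [hbot, Submodule.mem_bot, hω₀] at h1
      exact hcard (horth ▸ h1)
    · rintro _ ⟨m, hm, rfl⟩
      obtain ⟨hm1, hm2⟩ := hm
      let m' : G → O := fun u => ∑ s : S, (⟨ρ.character (s : G)⁻¹, hmemO _⟩ : O) * m ((s : G)⁻¹ * u)
      have hmcl : IsClassFunction G (fun x => (m x : ℂ)) := by
        intro g h
        show (m (h * g * h⁻¹) : ℂ) = m g
        rw [hm1 g h]
      have hacl : IsClassFunction G (fun x => ρ.character x⁻¹) := by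
        intro g h
        show ρ.character (h * g * h⁻¹)⁻¹ = ρ.character g⁻¹
        have : (h * g * h⁻¹)⁻¹ = h * g⁻¹ * h⁻¹ := by group
        rw [this, Representation.char_conj]
      have key : ∀ u : G, (Nat.card (Subgroup.center G) : ℂ) * (m' u : ℂ)
          = conv (fun x => ρ.character x⁻¹) (fun x => (m x : ℂ)) u := by
        intro u
        unfold conv
        rw [sum_eq_card_mul_sum_transversal (Subgroup.center G) S hS
          (fun x => ρ.character x⁻¹ * (m (x⁻¹ * u) : ℂ))]
        · congr 1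
          show ((∑ s : S, (⟨ρ.character (s : G)⁻¹, hmemO _⟩ : O) * m ((s : G)⁻¹ * u) : O) : ℂ) = _
          push_cast
          rfl
        · intro g z hz
          show ρ.character (g * z)⁻¹ * (m ((g * z)⁻¹ * u) : ℂ) = ρ.character g⁻¹ * (m (g⁻¹ * u) : ℂ)
          have hz' : z⁻¹ ∈ Subgroup.center G := inv_mem hz
          have e1 : (g * z)⁻¹ = z⁻¹ * g⁻¹ := by group
          have e2 : (g * z)⁻¹ * u = z⁻¹ * (g⁻¹ * u) := by group
          rw [e2, e1, hχz z⁻¹ hz', hm2 z⁻¹ hz', inv_inv]
          have := hlaminv z hz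
          linear_combination (ρ.character g⁻¹ * (m (g⁻¹ * u) : ℂ)) * this
      have hconvcl := conv_classFun hacl hmcl
      have hm' : m' ∈ M₀ := by
        refine ⟨fun g h => ?_, fun z hz g => ?_⟩
        · apply Subtype.ext
          apply mul_left_cancel₀ hZne
          rw [key, key]
          exact hconvcl g h
        · apply mul_left_cancel₀ hZne
          rw [key, ← mul_assoc, mul_comm _ (lam z⁻¹), mul_assoc, key]
          unfold conv
          rw [Finset.mul_sum]
          refine Finset.sum_congr rfl (fun x _ => ?_)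
          have e : x⁻¹ * (z * g) = z * (x⁻¹ * g) := by
            have h1 : x⁻¹ * z = z * x⁻¹ := Subgroup.mem_center_iff.mp hz x⁻¹
            rw [← mul_assoc, h1, mul_assoc]
          show ρ.character x⁻¹ * (m (x⁻¹ * (z * g)) : ℂ) = lam z⁻¹ * (ρ.character x⁻¹ * (m (x⁻¹ * g) : ℂ))
          rw [e, hm2 z hz]
          ring
      refine ⟨m', hm', ?_⟩
      have h1 : (Nat.card (Subgroup.center G) : ℂ) * ω₀ m'
          = (Nat.card G : ℂ) * ω₀ m / ρ.character 1 := by
        rw [hω₀, Finset.mul_sum]
        have h2 := sum_conv_mul_char ρ hacl hmcl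
        rw [horth] at h2
        rw [hω₀, ← h2]
        refine Finset.sum_congr rfl (fun u _ => ?_)
        rw [← mul_assoc, key]
      rw [hχ1] at h1
      have hd : (Module.finrank ℂ V : ℂ) ≠ 0 := by exact_mod_cast hd_pos.ne'
      show ω₀ m' = (((Subgroup.center G).index : ℂ) / (Module.finrank ℂ V : ℂ)) • ω₀ m
      rw [smul_eq_mul]
      apply mul_left_cancel₀ hZne
      rw [h1, ← hidx]
      field_simp
  exact dvd_of_isIntegral_div hd_pos.ne' hint

end Cfsg.Agent.S0179
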