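import Mathlib
import Cfsg.Statements.S0180
import Cfsg.Agent.Lib.helper4.FinOrder
import Cfsg.Agent.Lib.helper4.CharTheory

set_option autoImplicit false
open Cfsg

namespace Cfsg.Agent.S0180

open Cfsg.Agent.Lib.helper4 Polynomial

theorem trace_of_eigenbasis {V : Type*} [AddCommGroup V] [Module ℂ V] {ι : Type} [Fintype ι]
    (b : Module.Basis ι ℂ V) (f : V →ₗ[ℂ] V) (ν : ι → ℂ) (h : ∀ i, f (b i) = ν i • b i) :
    LinearMap.trace ℂ V f = ∑ i, ν i := by
  classical
  rw [LinearMap.trace_eq_matrix_trace ℂ b, Matrix.trace]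
  refine Finset.sum_congr rfl (fun i _ => ?_)
  rw [Matrix.diag_apply, LinearMap.toMatrix_apply, h i]
  simp

/-- Galois conjugation of character values: the value at `g ^ m` is the image of the value
at `g` under the automorphism `ζ ↦ ζ ^ m`. -/
theorem galois_char {G : Type*} [Group G] [Finite G] {V : Type*} [AddCommGroup V] [Module ℂ V]
    [FiniteDimensional ℂ V] (ρ : Representation ℂ G V) (n : ℕ) [NeZero n]
    (hn : ∀ g : G, g ^ n = 1) (K : Type) [Field K] [Algebra ℚ K] (ζ : K)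
    (hζ : IsPrimitiveRoot ζ n) (φ : K →ₐ[ℚ] ℂ) (g : G) :
    ∃ x : K, ∀ (σ : K ≃ₐ[ℚ] K) (m : ℕ), σ ζ = ζ ^ m → φ (σ x) = ρ.character (g ^ m) := by
  classical
  obtain ⟨ι, hι, b, μ, h1, h2, h3, h4, h5⟩ := exists_eigenbasis ρ g
  have hζ' : IsPrimitiveRoot (φ ζ) n := hζ.map_of_injective φ.toRingHom.injective
  have hμn : ∀ i, μ i ^ n = 1 := by
    intro i
    have hdvd : orderOf g ∣ n := orderOf_dvd_of_pow_eq_one (hn g)
    obtain ⟨c, hc⟩ := hdvd
    rw [hc, pow_mul, h1 i, one_pow]
  have hex : ∀ i, ∃ a : ℕ, (φ ζ) ^ a = μ i := by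
    intro i
    obtain ⟨a, -, ha⟩ := hζ'.eq_pow_of_pow_eq_one (hμn i)
    exact ⟨a, ha⟩
  choose a ha using hex
  have hpow : ∀ (k : ℕ) (i : ι), (ρ g ^ k) (b i) = (μ i ^ k) • b i := by
    intro k i
    induction k with
    | zero => rw [pow_zero, Module.End.one_apply, pow_zero, one_smul]
    | succ k ih =>
      rw [pow_succ, Module.End.mul_apply, h2 i, map_smul, ih, smul_smul, pow_succ']
  refine ⟨∑ i, ζ ^ a i, ?_⟩
  intro σ m hσ
  rw [map_sum, map_sum]
  unfold Representation.character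
  rw [trace_of_eigenbasis b (ρ (g ^ m)) (fun i => μ i ^ m)
    (fun i => by rw [map_pow]; exact hpow m i)]
  refine Finset.sum_congr rfl (fun i _ => ?_)
  rw [map_pow, hσ, map_pow, map_pow, ← ha i, ← pow_mul, ← pow_mul, mul_comm]


/-- Every irreducible complex character of a finite group takes only rational values if and only if g is conjugate to g ^ m for every element g and every m coprime to the group order. -/
theorem result {G : Type*} [Group G] [Finite G] : (∀ χ : Cfsg.IrrCharacter G, ∀ g : G, ∃ q : ℚ, (χ : G → ℂ) g = (q : ℂ)) ↔ ∀ m : ℕ, m.Coprime (Nat.card G) → ∀ g : G, IsConj g (g ^ m) := by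
  classical
  haveI : Fintype (IrrCharacter G) := Fintype.ofFinite _
  set n := Nat.card G with hn
  haveI : NeZero n := ⟨Nat.card_pos.ne'⟩
  have hne : NeZero ((n : ℕ) : ℚ) := ⟨by exact_mod_cast NeZero.ne n⟩
  have hcyc : IsCyclotomicExtension {n} ℚ (CyclotomicField n ℚ) := by
    have h0 := CyclotomicField.isCyclotomicExtension n ℚ
    have e : (CyclotomicField.algebra n ℚ) = DivisionRing.toRatAlgebra := Subsingleton.elim _ _
    rw [e] at h0
    exact h0
  have hgal : IsGalois ℚ (CyclotomicField n ℚ) := IsCyclotomicExtension.isGalois {n} ℚ _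
  have hζ : IsPrimitiveRoot (IsCyclotomicExtension.zeta n ℚ (CyclotomicField n ℚ)) n :=
    IsCyclotomicExtension.zeta_spec n ℚ _
  have hfd : FiniteDimensional ℚ (CyclotomicField n ℚ) :=
    IsCyclotomicExtension.finiteDimensional {n} ℚ _
  obtain ⟨φ⟩ : Nonempty ((CyclotomicField n ℚ) →ₐ[ℚ] ℂ) := ⟨IsAlgClosed.lift⟩
  have hirr : Irreducible (cyclotomic n ℚ) := cyclotomic.irreducible_rat (NeZero.pos n)
  have hpown : ∀ g : G, g ^ n = 1 := fun g => pow_card_eq_one'
  have hgc : ∀ (χ : IrrCharacter G) (g : G), ∃ x : CyclotomicField n ℚ,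
      ∀ (σ : (CyclotomicField n ℚ) ≃ₐ[ℚ] (CyclotomicField n ℚ)) (m : ℕ),
        σ (IsCyclotomicExtension.zeta n ℚ (CyclotomicField n ℚ))
          = (IsCyclotomicExtension.zeta n ℚ (CyclotomicField n ℚ)) ^ m →
        φ (σ x) = (χ : G → ℂ) (g ^ m) := by
    intro χ g
    obtain ⟨k, ρ, hρ, hχ⟩ := χ.2
    rw [← hχ]
    exact galois_char ρ n hpown _ _ hζ φ g
  constructor
  · intro hrat m hm g
    by_contra hnc
    have h0 := sum_irr_mul_conj_of_not_isConj hnc
    have h1 := sum_irr_mul_conj_of_isConj (IsConj.refl g)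
    have hμ : IsPrimitiveRoot ((IsCyclotomicExtension.zeta n ℚ (CyclotomicField n ℚ)) ^ m) n :=
      hζ.pow_of_coprime m hm
    have heq : ∀ χ : IrrCharacter G, (χ : G → ℂ) (g ^ m) = (χ : G → ℂ) g := by
      intro χ
      obtain ⟨x, hx⟩ := hgc χ g
      obtain ⟨q, hq⟩ := hrat χ g
      have hx1 := hx AlgEquiv.refl 1 (by simp)
      rw [pow_one] at hx1
      have hxq : x = (q : CyclotomicField n ℚ) := by
        apply φ.toRingHom.injective
        show φ x = φ (q : CyclotomicField n ℚ)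
        rw [map_ratCast, ← hq]
        exact hx1
      have hx2 := hx (IsCyclotomicExtension.fromZetaAut hμ hirr) m
        (IsCyclotomicExtension.fromZetaAut_spec hμ hirr)
      rw [← hx2, hxq, map_ratCast, map_ratCast, hq]
    rw [Finset.sum_congr rfl (fun χ _ => by rw [heq χ])] at h0
    rw [h1] at h0
    have hpos : 0 < Nat.card (Subgroup.centralizer ({g} : Set G)) := Nat.card_pos
    have : (Nat.card (Subgroup.centralizer ({g} : Set G)) : ℂ) ≠ 0 := by exact_mod_cast hpos.ne'
    exact this h0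
  · intro hconj χ g
    obtain ⟨x, hx⟩ := hgc χ g
    have hx1 := hx AlgEquiv.refl 1 (by simp)
    rw [pow_one] at hx1
    have hfix : ∀ σ : (CyclotomicField n ℚ) ≃ₐ[ℚ] (CyclotomicField n ℚ), σ x = x := by
      intro σ
      have hσ : IsPrimitiveRoot (σ (IsCyclotomicExtension.zeta n ℚ (CyclotomicField n ℚ))) n :=
        hζ.map_of_injective σ.injective
      obtain ⟨i, hi, hiζ⟩ := hζ.eq_pow_of_pow_eq_one hσ.pow_eq_one
      have hcop : i.Coprime n := by
        rw [← hiζ] at hσ
        exact (hζ.pow_iff_coprime (NeZero.pos n) i).mp hσ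
      apply φ.toRingHom.injective
      show φ (σ x) = φ x
      rw [hx σ i hiζ.symm]
      have hx1' : φ x = (χ : G → ℂ) g := hx1
      rw [hx1']
      exact (IsClassFunction_eq_of_isConj (isClassFunction_of_isIrrCharacter χ.2)
        (hconj i hcop g)).symm
    have hbot := (IsGalois.mem_bot_iff_fixed (F := ℚ) (E := CyclotomicField n ℚ) x).mpr hfix
    rw [IntermediateField.mem_bot] at hbot
    obtain ⟨q, hq⟩ := hbot
    refine ⟨q, ?_⟩
    have hx1' : φ x = (χ : G → ℂ) g := hx1
    rw [← hx1', ← hq]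
    simp

end Cfsg.Agent.S0180
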