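import Mathlib
import Cfsg.Statements.S0181

set_option autoImplicit false
open Cfsg

namespace Cfsg.Agent.S0181

theorem submodule_eq_bot_or_top {G V : Type*} [Monoid G] [AddCommGroup V] [Module ℂ V]
    (ρ : Representation ℂ G V) [ρ.IsIrreducible] (W : Submodule ℂ V)
    (hW : ∀ g v, v ∈ W → ρ g v ∈ W) : W = ⊥ ∨ W = ⊤ := by
  have h := IsSimpleOrder.eq_bot_or_eq_top (⟨W, fun g v hv => hW g v hv⟩ : Subrepresentation ρ)
  rcases h with h | h
  · left; exact congrArg Subrepresentation.toSubmodule h
  · right; exact congrArg Subrepresentation.toSubmodule h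


/-- Let H be a normal subgroup of a finite group G and ρ an irreducible complex representation whose kernel does not contain H. If g commutes with no non-identity element of H, then the character of ρ vanishes at g. -/
theorem result {G : Type*} [Group G] [Finite G] {V : Type*} [AddCommGroup V] [Module ℂ V] [FiniteDimensional ℂ V] (ρ : Representation ℂ G V) [ρ.IsIrreducible] (H : Subgroup G) [H.Normal] (hker : ∃ h ∈ H, ρ h ≠ LinearMap.id) (g : G) (hg : ∀ h ∈ H, h * g = g * h → h = 1) : ρ.character g = 0 := by
  classical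
  have := Fintype.ofFinite H
  have hnorm : H.Normal := inferInstance
  let W : Submodule ℂ V :=
    { carrier := {v | ∀ h ∈ H, ρ h v = v}
      add_mem' := fun {a b} ha hb h hh => by rw [map_add, ha h hh, hb h hh]
      zero_mem' := fun h hh => map_zero _
      smul_mem' := fun c v hv h hh => by rw [map_smul, hv h hh] }
  have hW : ∀ k v, v ∈ W → ρ k v ∈ W := by
    intro k v hv h hh
    have h1 : k⁻¹ * h * k ∈ H := by
      have := hnorm.conj_mem h hh k⁻¹
      simpa using this
    have h2 := hv _ h1
    calc ρ h (ρ k v) = ρ (k * (k⁻¹ * h * k)) v := by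
          rw [← Module.End.mul_apply, ← map_mul]; congr 2; group
      _ = ρ k (ρ (k⁻¹ * h * k) v) := by rw [map_mul]; rfl
      _ = ρ k v := by rw [h2]
  have hbot : W = ⊥ := by
    rcases submodule_eq_bot_or_top ρ W hW with h | h
    · exact h
    · exfalso
      obtain ⟨h0, hh0, hne⟩ := hker
      apply hne
      ext v
      have : v ∈ W := by rw [h]; trivial
      exact this h0 hh0
  let S : V →ₗ[ℂ] V := ∑ h : H, ρ (h : G)
  have hS : S = 0 := by
    ext v
    have : S v ∈ W := by
      intro k hk
      show ρ k (S v) = S v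
      simp only [S, LinearMap.sum_apply, map_sum]
      apply Fintype.sum_equiv (Equiv.mulLeft (⟨k, hk⟩ : H))
      intro h
      simp [map_mul]
    rw [hbot] at this
    simpa using this
  have hconj : ∀ h : H, ρ.character (g * h) = ρ.character g := by
    let φ : H → H := fun k => ⟨g⁻¹ * k * g * (k : G)⁻¹,
      H.mul_mem (by have := hnorm.conj_mem k k.2 g⁻¹; simpa using this) (H.inv_mem k.2)⟩
    have hφ : Function.Injective φ := by
      intro k k' hkk
      have h1 : g⁻¹ * k * g * (k : G)⁻¹ = g⁻¹ * k' * g * (k' : G)⁻¹ := congrArg Subtype.val hkk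
      have h3 : (k : G) * g * (k : G)⁻¹ = k' * g * (k' : G)⁻¹ := by
        have := congrArg (fun z => g * z) h1
        simpa [mul_assoc] using this
      have h2 : ((k' : G)⁻¹ * k) * g = g * ((k' : G)⁻¹ * k) := by
        calc ((k' : G)⁻¹ * k) * g = (k' : G)⁻¹ * (k * g * (k : G)⁻¹) * k := by group
          _ = (k' : G)⁻¹ * (k' * g * (k' : G)⁻¹) * k := by rw [h3]
          _ = g * ((k' : G)⁻¹ * k) := by group
      have h4 := hg _ (H.mul_mem (H.inv_mem k'.2) k.2) h2
      apply Subtype.ext
      exact (inv_mul_eq_one.1 h4).symm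
    have hsurj := Finite.surjective_of_injective hφ
    intro h
    obtain ⟨k, hk⟩ := hsurj h
    have h1 : g * h = k * g * (k : G)⁻¹ := by
      rw [← hk]
      show g * (g⁻¹ * k * g * (k : G)⁻¹) = _
      group
    rw [h1, Representation.char_conj]
  have hsum : ∑ h : H, ρ.character (g * h) = 0 := by
    have : ∑ h : H, ρ.character (g * h) = LinearMap.trace ℂ V (ρ g * S) := by
      simp only [S, Finset.mul_sum, map_sum, Representation.character, map_mul]
    rw [this, hS, mul_zero, map_zero]
  rw [Finset.sum_congr rfl (fun h _ => hconj h), Finset.sum_const, Finset.card_univ,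
    nsmul_eq_mul] at hsum
  rcases mul_eq_zero.1 hsum with h | h
  · exfalso
    have : Fintype.card H ≠ 0 := Fintype.card_ne_zero
    exact this (by exact_mod_cast h)
  · exact h

end Cfsg.Agent.S0181
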