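import Mathlib
import Cfsg.Statements.S0184
import Cfsg.Agent.Lib.helper81.CharBasic
import Cfsg.Agent.Lib.helper5.Irr
import Cfsg.Agent.Lib.helper38.PGroupNormal

set_option autoImplicit false
open Cfsg

namespace Cfsg.Agent.S0184

open Cfsg.Agent.Lib.helper81 Cfsg.Agent.Lib.helper5

/-- In a nontrivial finite `p`-group with cyclic centre there is a central element of order
`p` lying in every nontrivial normal subgroup. -/
theorem exists_z0 {G : Type*} [Group G] [Finite G] [Nontrivial G] (p : ℕ) [Fact p.Prime]
    (hG : IsPGroup p G) (hc : IsCyclic (Subgroup.center G)) :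
    ∃ z₀ : G, z₀ ≠ 1 ∧ z₀ ∈ Subgroup.center G ∧
      ∀ N : Subgroup G, N.Normal → N ≠ ⊥ → z₀ ∈ N := by
  classical
  have hp : p.Prime := Fact.out
  have hA : ∀ N : Subgroup G, N.Normal → N ≠ ⊥ →
      ∃ y ∈ N, y ∈ Subgroup.center G ∧ y ≠ 1 ∧ y ^ p = 1 := by
    intro N hN hN0
    haveI := hN
    obtain ⟨z, hzN, hz1, hzc⟩ :=
      Cfsg.Agent.Lib.helper38.exists_central_of_normal_ne_bot hG N hN0
    have hex : ∃ k : ℕ, z ^ p ^ k = 1 := hG z
    have hk0 : Nat.find hex ≠ 0 := by
      intro h0
      have := Nat.find_spec hex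
      rw [h0, pow_zero, pow_one] at this
      exact hz1 this
    obtain ⟨k, hk⟩ := Nat.exists_eq_succ_of_ne_zero hk0
    refine ⟨z ^ p ^ k, N.pow_mem hzN _, ?_, ?_, ?_⟩
    · apply Subgroup.pow_mem
      rw [Subgroup.mem_center_iff]
      intro g
      have := hzc g
      calc g * z = g * z * g⁻¹ * g := by group
        _ = z * g := by rw [this]
    · intro h
      have := Nat.find_min hex (m := k) (by omega)
      exact this h
    · rw [← pow_mul, ← pow_succ, ← Nat.succ_eq_add_one, ← hk]
      exact Nat.find_spec hex
  obtain ⟨z₀, -, hz₀c, hz₀1, hz₀p⟩ := hA ⊤ inferInstance top_ne_bot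
  refine ⟨z₀, hz₀1, hz₀c, ?_⟩
  intro N hN hN0
  obtain ⟨y, hyN, hyc, hy1, hyp⟩ := hA N hN hN0
  haveI := hc
  haveI : Fintype (Subgroup.center G) := Fintype.ofFinite _
  let y' : Subgroup.center G := ⟨y, hyc⟩
  let z' : Subgroup.center G := ⟨z₀, hz₀c⟩
  have hy'p : y' ^ p = 1 := Subtype.ext hyp
  have hy'1 : y' ≠ 1 := fun h => hy1 (congrArg Subtype.val h)
  have hz'p : z' ^ p = 1 := Subtype.ext hz₀p
  have hord : orderOf y' = p := orderOf_eq_prime hy'p hy'1
  have hle := IsCyclic.card_pow_eq_one_le (α := Subgroup.center G) hp.pos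
  have hsub : (Finset.range p).image (fun i => y' ^ i)
      ⊆ Finset.univ.filter (fun a : Subgroup.center G => a ^ p = 1) := by
    intro a ha
    rw [Finset.mem_image] at ha
    obtain ⟨i, -, rfl⟩ := ha
    rw [Finset.mem_filter]
    refine ⟨Finset.mem_univ _, ?_⟩
    rw [← pow_mul, mul_comm, pow_mul, hy'p, one_pow]
  have hcard : ((Finset.range p).image (fun i => y' ^ i)).card = p := by
    rw [Finset.card_image_of_injOn, Finset.card_range]
    intro i hi j hj hij
    apply pow_injOn_Iio_orderOf (x := y')
    · rw [hord]; exact Finset.mem_range.mp hi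
    · rw [hord]; exact Finset.mem_range.mp hj
    · exact hij
  have heq := Finset.eq_of_subset_of_card_le hsub (by rw [hcard]; exact hle)
  have hz'mem : z' ∈ (Finset.range p).image (fun i => y' ^ i) := by
    rw [heq, Finset.mem_filter]; exact ⟨Finset.mem_univ _, hz'p⟩
  rw [Finset.mem_image] at hz'mem
  obtain ⟨i, -, hi⟩ := hz'mem
  have h3 : z₀ = y ^ i := by
    have := congrArg Subtype.val hi
    simpa [y', z'] using this.symm
  rw [h3]
  exact N.pow_mem hyN i


/-- A finite p-group admits a faithful irreducible complex representation if and only if its centre is cyclic. -/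
theorem result {G : Type*} [Group G] [Finite G] (p : ℕ) [Fact p.Prime] (hG : IsPGroup p G) : (∃ (n : ℕ) (ρ : Representation ℂ G (Fin n → ℂ)), ρ.IsIrreducible ∧ Function.Injective ρ) ↔ IsCyclic (Subgroup.center G) := by
  constructor
  · rintro ⟨n, ρ, hirr, hinj⟩
    haveI := hirr
    have hn : 0 < n := by
      have := finrank_pos_of_irreducible ρ
      simpa using this
    have hsc : ∀ z : G, z ∈ Subgroup.center G → ∃ c : ℂ, ρ z = c • LinearMap.id := by
      intro z hz
      apply schur_exists_scalar ρ (ρ z)
      intro g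
      have h1 : g * z = z * g := Subgroup.mem_center_iff.mp hz g
      show ρ z * ρ g = ρ g * ρ z
      rw [← map_mul, ← map_mul, h1]
    choose! lam hlam using hsc
    have hinj_smul : ∀ c c' : ℂ,
        c • (LinearMap.id : (Fin n → ℂ) →ₗ[ℂ] (Fin n → ℂ)) = c' • LinearMap.id → c = c' := by
      intro c c' h
      have := congrArg (fun T : (Fin n → ℂ) →ₗ[ℂ] (Fin n → ℂ) => T (fun _ => (1:ℂ)) ⟨0, hn⟩) h
      simpa using this
    let f : Subgroup.center G →* ℂ :=
      { toFun := fun z => lam z
        map_one' := by
          apply hinj_smul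
          show lam (1 : G) • _ = _
          rw [← hlam 1 (one_mem _), map_one, one_smul]; rfl
        map_mul' := by
          intro a b
          apply hinj_smul
          show lam ((a : G) * (b : G)) • _ = _
          rw [← hlam _ (mul_mem a.2 b.2), map_mul, hlam a a.2, hlam b b.2, smul_mul_smul_comm]
          rfl }
    have hf : Function.Injective f := by
      intro a b hab
      apply Subtype.ext
      apply hinj
      rw [hlam a a.2, hlam b b.2]
      rw [show lam (a : G) = lam (b : G) from hab]
    exact isCyclic_of_injective_ringHom f hf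
  · intro hcyc
    classical
    by_cases hsub : Subsingleton G
    · refine ⟨1, Representation.trivial ℂ G (Fin 1 → ℂ), ?_, fun a b _ => Subsingleton.elim a b⟩
      apply irreducible_of_forall_submodule
      intro W _
      have h1 : Module.finrank ℂ W ≤ 1 := by
        have := Submodule.finrank_le W
        simpa using this
      rcases Nat.le_one_iff_eq_zero_or_eq_one.mp h1 with h0 | h0
      · left; exact Submodule.finrank_eq_zero.mp h0
      · right
        apply Submodule.eq_top_of_finrank_eq
        rw [h0]; simp
    · have hnt : Nontrivial G := not_subsingleton_iff_nontrivial.mp hsub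
      obtain ⟨z₀, hz₀1, hz₀c, hz₀⟩ := exists_z0 p hG hcyc
      let ρ := Representation.ofMulAction ℂ G G
      let U : Submodule ℂ (MonoidAlgebra ℂ G) :=
        { carrier := {v | ρ z₀ v = v}
          add_mem' := fun {x y} hx hy => by
            show ρ z₀ (x + y) = x + y
            rw [map_add, show ρ z₀ x = x from hx, show ρ z₀ y = y from hy]
          zero_mem' := by show ρ z₀ 0 = 0; rw [map_zero]
          smul_mem' := fun c x hx => by
            show ρ z₀ (c • x) = c • x
            rw [map_smul, show ρ z₀ x = x from hx] }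
      have hU : ∀ g v, v ∈ U → ρ g v ∈ U := by
        intro g v hv
        show ρ z₀ (ρ g v) = ρ g v
        have h1 : g * z₀ = z₀ * g := Subgroup.mem_center_iff.mp hz₀c g
        rw [← Module.End.mul_apply, ← map_mul, ← h1, map_mul, Module.End.mul_apply,
          show ρ z₀ v = v from hv]
      obtain ⟨U', hU'inv, hinf, hsup⟩ := exists_invariant_compl ρ U hU
      have hU'0 : U' ≠ ⊥ := by
        intro h0
        rw [h0, sup_bot_eq] at hsup
        have h1 : MonoidAlgebra.single (1 : G) (1 : ℂ) ∈ U := by rw [hsup]; trivial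
        have h2 : ρ z₀ (MonoidAlgebra.single (1 : G) (1 : ℂ)) = MonoidAlgebra.single (1 : G) (1 : ℂ) := h1
        rw [Representation.ofMulAction_single] at h2
        simp only [smul_eq_mul, mul_one] at h2
        exact hz₀1 (MonoidAlgebra.single_left_injective one_ne_zero h2)
      obtain ⟨W, hWU', hW0, hWinv, hWmin⟩ := exists_minimal_invariant ρ U' hU'0 hU'inv
      have hirr := subRep_irreducible ρ W hW0 hWinv hWmin
      let e := (Module.finBasis ℂ W).equivFun
      refine ⟨Module.finrank ℂ W, transport (subRep ρ W hWinv) e,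
        transport_irreducible (subRep ρ W hWinv) e, ?_⟩
      have hker : (transport (subRep ρ W hWinv) e).ker = ⊥ := by
        by_contra hne
        have hz := hz₀ _ (MonoidHom.normal_ker _) hne
        rw [MonoidHom.mem_ker] at hz
        apply hW0
        rw [eq_bot_iff, ← hinf]
        refine le_inf ?_ hWU'
        intro w hw
        show ρ z₀ w = w
        have h1 := congrArg (fun T : (Fin (Module.finrank ℂ W) → ℂ) →ₗ[ℂ] (Fin (Module.finrank ℂ W) → ℂ) => T (e ⟨w, hw⟩)) hz
        simp only [transport_apply, LinearEquiv.symm_apply_apply, Module.End.one_apply] at h1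
        have h2 := e.injective h1
        have h3 := congrArg Subtype.val h2
        rw [subRep_apply] at h3
        exact h3
      exact (MonoidHom.ker_eq_bot_iff _).mp hker

end Cfsg.Agent.S0184
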