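import Mathlib
import Cfsg.Statements.S0185
import Cfsg.Agent.Lib.helper5.Abelian
import Cfsg.Agent.Lib.helper82.CharInt

set_option autoImplicit false
open Cfsg

namespace Cfsg.Agent.S0185

/-- If a finite group has a faithful complex representation of degree less than the smallest prime dividing its order, the group is abelian. -/
theorem result {G : Type*} [Group G] [Finite G] {V : Type*} [AddCommGroup V] [Module ℂ V] [FiniteDimensional ℂ V] (ρ : Representation ℂ G V) (hfaithful : Function.Injective ρ) (hdeg : ∀ p : ℕ, p.Prime → p ∣ Nat.card G → Module.finrank ℂ V < p) (a b : G) : a * b = b * a := by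
  apply hfaithful
  apply Cfsg.Agent.Lib.helper5.rep_comm_of_minimal_finrank_one ρ
  intro W hW0 hWinv hWmin
  have hirr := Cfsg.Agent.Lib.helper5.subRep_irreducible ρ W hW0 hWinv hWmin
  have hdvd := Cfsg.Agent.Lib.helper82.finrank_dvd_card (Cfsg.Agent.Lib.helper5.subRep ρ W hWinv)
  by_contra hne
  obtain ⟨p, hp, hpd⟩ := Nat.exists_prime_and_dvd hne
  have h1 := hdeg p hp (hpd.trans hdvd)
  have hnt : Nontrivial W := Submodule.nontrivial_iff_ne_bot.2 hW0
  have hpos : 0 < Module.finrank ℂ W := Module.finrank_pos
  have h2 : p ≤ Module.finrank ℂ W := Nat.le_of_dvd hpos hpd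
  have h3 : Module.finrank ℂ W ≤ Module.finrank ℂ V := Submodule.finrank_le W
  omega

end Cfsg.Agent.S0185
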