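import Mathlib
import Cfsg.Statements.S0186
import Cfsg.Agent.Lib.helper5.Abelian
import Cfsg.Agent.Lib.helper82.CharInt
import Cfsg.Agent.Lib.helper83.CharBasic2

set_option autoImplicit false
open Cfsg

namespace Cfsg.Agent.S0186

/-- Let G be a finite simple group of order n and p a prime dividing n. If G has more than n / p^2 conjugacy classes, then every Sylow p-subgroup of G is abelian. -/
theorem result {G : Type*} [Group G] [Finite G] [IsSimpleGroup G] (p : ℕ) [Fact p.Prime] (hp : p ∣ Nat.card G) (hmany : Nat.card G < p ^ 2 * Nat.card (ConjClasses G)) (P : Sylow p G) (a b : G) (ha : a ∈ P) (hb : b ∈ P) : a * b = b * a := by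
  classical
  by_cases hp2 : p ^ 2 ∣ Nat.card G
  swap
  · obtain ⟨k, hk⟩ := P.2.exists_card_eq
    have hdvd : Nat.card (P : Subgroup G) ∣ Nat.card G := Subgroup.card_subgroup_dvd_card _
    have hk1 : k ≤ 1 := by
      by_contra hcon
      apply hp2
      have h1 : p ^ 2 ∣ p ^ k := pow_dvd_pow p (by omega)
      exact h1.trans (hk ▸ hdvd)
    have hcyc : IsCyclic (P : Subgroup G) := by
      interval_cases k
      · rw [pow_zero] at hk
        have : Subsingleton (P : Subgroup G) := (Nat.card_eq_one_iff_unique.1 hk).1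
        exact isCyclic_of_subsingleton
      · rw [pow_one] at hk
        exact isCyclic_of_prime_card hk
    have hc := (IsCyclic.isMulCommutative (α := (P : Subgroup G))).is_comm.comm ⟨a, ha⟩ ⟨b, hb⟩
    exact congrArg Subtype.val hc
  · have hfin : Finite (IrrCharacter G) := Cfsg.Agent.Lib.helper83.irr_finite
    have := Fintype.ofFinite (IrrCharacter G)
    have hsum := Cfsg.Agent.Lib.helper83.sum_charDegree_sq (G := G)
    rw [finsum_eq_sum_of_fintype] at hsum
    have hk := Cfsg.Agent.Lib.helper83.card_irr_eq_card_conjClasses (G := G)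
    have hkc : Nat.card (IrrCharacter G) = Fintype.card (IrrCharacter G) :=
      Nat.card_eq_fintype_card
    rw [← hk, hkc] at hmany
    have htd : charDegree (Cfsg.Agent.Lib.helper83.trivIrr G : G → ℂ) = 1 := by
      simp [Cfsg.charDegree]
    obtain ⟨χ, hχne, hχlt⟩ : ∃ χ : IrrCharacter G, χ ≠ Cfsg.Agent.Lib.helper83.trivIrr G ∧
        charDegree (χ : G → ℂ) < p := by
      by_contra hcon
      push Not at hcon
      have h1 : ∑ χ : IrrCharacter G, charDegree (χ : G → ℂ) ^ 2 =
          charDegree (Cfsg.Agent.Lib.helper83.trivIrr G : G → ℂ) ^ 2 +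
            ∑ χ ∈ Finset.univ.erase (Cfsg.Agent.Lib.helper83.trivIrr G),
              charDegree (χ : G → ℂ) ^ 2 :=
        (Finset.add_sum_erase _ _ (Finset.mem_univ _)).symm
      have h2 : (Finset.univ.erase (Cfsg.Agent.Lib.helper83.trivIrr G)).card • p ^ 2 ≤
          ∑ χ ∈ Finset.univ.erase (Cfsg.Agent.Lib.helper83.trivIrr G),
            charDegree (χ : G → ℂ) ^ 2 := by
        apply Finset.card_nsmul_le_sum
        intro χ hχ
        have := hcon χ (Finset.ne_of_mem_erase hχ)
        exact Nat.pow_le_pow_left this 2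
      rw [Finset.card_erase_of_mem (Finset.mem_univ _), Finset.card_univ, smul_eq_mul] at h2
      rw [htd] at h1
      obtain ⟨q, hq⟩ := hp2
      have hqk : q < Fintype.card (IrrCharacter G) := by
        rw [hq] at hmany
        exact lt_of_mul_lt_mul_left hmany (Nat.zero_le _)
      have h3 : q * p ^ 2 ≤ (Fintype.card (IrrCharacter G) - 1) * p ^ 2 :=
        Nat.mul_le_mul_right _ (by omega)
      have h4 : p ^ 2 * q = q * p ^ 2 := mul_comm _ _
      have hpos : 0 < Nat.card G := Nat.card_pos
      omega
    obtain ⟨n, ρ, hirr, hρχ⟩ := χ.2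
    have hn : charDegree (χ : G → ℂ) = n := by
      have h1 := Cfsg.Agent.Lib.helper82.charDegree_char ρ
      rw [hρχ] at h1
      simpa using h1
    have hker : ∀ g : G, ρ g = 1 → g = 1 := by
      rcases (MonoidHom.normal_ker ρ).eq_bot_or_eq_top with hK | hK
      · intro g hg
        have h1 : g ∈ MonoidHom.ker ρ := MonoidHom.mem_ker.2 hg
        rw [hK] at h1
        exact Subgroup.mem_bot.1 h1
      · exfalso
        apply hχne
        have hall : ∀ g : G, ρ g = 1 := fun g => MonoidHom.mem_ker.1 (by rw [hK]; trivial)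
        have hnt := Cfsg.Agent.Lib.helper5.irr_nontrivial ρ
        obtain ⟨v, hv⟩ := exists_ne (0 : Fin n → ℂ)
        obtain ⟨hid, hdim⟩ := Cfsg.Agent.Lib.helper5.irr_trivial_of_fixed ρ v hv
          (fun g => by rw [hall g]; rfl)
        apply Subtype.ext
        rw [← hρχ]
        funext g
        show LinearMap.trace ℂ _ (ρ g) = 1
        rw [hid g, LinearMap.trace_id, hdim, Nat.cast_one]
    let ρ' : Representation ℂ (P : Subgroup G) (Fin n → ℂ) := ρ.comp (P : Subgroup G).subtype
    have hcomm := Cfsg.Agent.Lib.helper5.rep_comm_of_minimal_finrank_one ρ' (by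
      intro W hW0 hWinv hWmin
      have hirrW := Cfsg.Agent.Lib.helper5.subRep_irreducible ρ' W hW0 hWinv hWmin
      have hdvd := Cfsg.Agent.Lib.helper82.finrank_dvd_card
        (Cfsg.Agent.Lib.helper5.subRep ρ' W hWinv)
      obtain ⟨k, hk⟩ := P.2.exists_card_eq
      rw [hk] at hdvd
      obtain ⟨j, hj, hj'⟩ := (Nat.dvd_prime_pow (Fact.out)).1 hdvd
      have h3 : Module.finrank ℂ W ≤ n := by
        have := Submodule.finrank_le W
        simpa using this
      rcases Nat.eq_zero_or_pos j with h0 | h0
      · rw [hj', h0, pow_zero]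
      · exfalso
        have : p ≤ p ^ j := Nat.le_self_pow (by omega) p
        omega) ⟨a, ha⟩ ⟨b, hb⟩
    have hab : ρ (a * b) = ρ (b * a) := hcomm
    have h5 : ρ (a * b * (b * a)⁻¹) = 1 := by
      rw [map_mul, hab, ← map_mul, mul_inv_cancel, map_one]
    have h6 := hker _ h5
    exact mul_inv_eq_one.1 h6

end Cfsg.Agent.S0186
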