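import Mathlib
import Cfsg.Statements.S0187
import Cfsg.Agent.Lib.helper5.Irr

set_option autoImplicit false
open Cfsg

namespace Cfsg.Agent.S0187

/-- A finite group is commutative if and only if every irreducible complex character has degree 1. -/
theorem result {G : Type*} [Group G] [Finite G] : (∀ a b : G, a * b = b * a) ↔ ∀ χ : Cfsg.IrrCharacter G, (χ : G → ℂ) 1 = 1 := by
  constructor
  · intro hcomm χ
    obtain ⟨n, ρ, hirr, hχ⟩ := χ.2
    have : IsMulCommutative G := ⟨⟨hcomm⟩⟩
    rw [← hχ, Representation.char_one]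
    have := Representation.IsIrreducible.finrank_eq_one_of_isMulCommutative ρ
    rw [this, Nat.cast_one]
  · intro h a b
    classical
    let ρ := Representation.ofMulAction ℂ G G
    let U : Submodule ℂ (MonoidAlgebra ℂ G) :=
      { carrier := {v | ∀ a b : G, ρ (a * b) v = ρ (b * a) v}
        add_mem' := fun {x y} hx hy a b => by rw [map_add, map_add, hx a b, hy a b]
        zero_mem' := fun a b => by rw [map_zero, map_zero]
        smul_mem' := fun c x hx a b => by rw [map_smul, map_smul, hx a b] }
    have hU : ∀ g v, v ∈ U → ρ g v ∈ U := by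
      intro k v hv a b
      have := hv (k⁻¹ * a * k) (k⁻¹ * b * k)
      calc ρ (a * b) (ρ k v) = ρ k (ρ ((k⁻¹ * a * k) * (k⁻¹ * b * k)) v) := by
            rw [← Module.End.mul_apply, ← Module.End.mul_apply, ← map_mul, ← map_mul]
            congr 2; group
        _ = ρ k (ρ ((k⁻¹ * b * k) * (k⁻¹ * a * k)) v) := by rw [this]
        _ = ρ (b * a) (ρ k v) := by
            rw [← Module.End.mul_apply, ← Module.End.mul_apply, ← map_mul, ← map_mul]
            congr 2; group
    have hUtop : U = ⊤ := by
      apply Cfsg.Agent.Lib.helper5.eq_top_of_contains_minimal ρ U hU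
      intro W hW0 hWinv hWmin
      have := Cfsg.Agent.Lib.helper5.subRep_irreducible ρ W hW0 hWinv hWmin
      have hirr := Cfsg.Agent.Lib.helper5.isIrrCharacter_of_irreducible
        (Cfsg.Agent.Lib.helper5.subRep ρ W hWinv)
      have h1 : (Cfsg.Agent.Lib.helper5.subRep ρ W hWinv).character 1 = 1 := h ⟨_, hirr⟩
      rw [Representation.char_one] at h1
      have hfr : Module.finrank ℂ W = 1 := by exact_mod_cast h1
      obtain ⟨w0, hw0, hspan⟩ := finrank_eq_one_iff'.1 hfr
      have hsc : ∀ g : G, ∃ c : ℂ, ρ g (w0 : MonoidAlgebra ℂ G) = c • (w0 : MonoidAlgebra ℂ G) := by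
        intro g
        obtain ⟨c, hc⟩ := hspan (Cfsg.Agent.Lib.helper5.subRep ρ W hWinv g w0)
        exact ⟨c, by rw [← Cfsg.Agent.Lib.helper5.subRep_apply ρ W hWinv g w0, ← hc]; rfl⟩
      intro w hw a b
      obtain ⟨c, hc⟩ := hspan ⟨w, hw⟩
      have hw' : w = c • (w0 : MonoidAlgebra ℂ G) := by rw [← Submodule.coe_smul, hc]
      obtain ⟨ca, hca⟩ := hsc a
      obtain ⟨cb, hcb⟩ := hsc b
      have e1 : ρ (a * b) (w0 : MonoidAlgebra ℂ G) = (ca * cb) • (w0 : MonoidAlgebra ℂ G) := by
        rw [map_mul, Module.End.mul_apply, hcb, map_smul, hca, smul_smul, mul_comm]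
      have e2 : ρ (b * a) (w0 : MonoidAlgebra ℂ G) = (ca * cb) • (w0 : MonoidAlgebra ℂ G) := by
        rw [map_mul, Module.End.mul_apply, hca, map_smul, hcb, smul_smul]
      rw [hw', map_smul, map_smul, e1, e2]
    have h1 : MonoidAlgebra.single (1 : G) (1 : ℂ) ∈ U := by rw [hUtop]; trivial
    have h2 := h1 a b
    rw [Representation.ofMulAction_single, Representation.ofMulAction_single] at h2
    simp only [smul_eq_mul, mul_one] at h2
    exact MonoidAlgebra.single_left_injective one_ne_zero h2

end Cfsg.Agent.S0187
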