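import Mathlib
import Cfsg.Statements.S0188
import Cfsg.Agent.Lib.helper4.CharDecomp
import Cfsg.Agent.Lib.helper83.CharBasic2

set_option autoImplicit false
open Cfsg

namespace Cfsg.Agent.S0188

open scoped ComplexConjugate

theorem prod_irr {G : Type*} [Group G] [Finite G] {H : Type*} [Group H] [Finite H]
    (φ : G → ℂ) (ψ : H → ℂ) (hφ : Cfsg.IsIrrCharacter G φ) (hψ : Cfsg.IsIrrCharacter H ψ) :
    Cfsg.IsIrrCharacter (G × H) (fun x => φ x.1 * ψ x.2) := by
  classical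
  have := Fintype.ofFinite G
  have := Fintype.ofFinite H
  have h1 : Cfsg.IsCharacter (G × H) (fun x => φ x.1) :=
    Cfsg.Agent.Lib.helper4.isCharacter_comp (MonoidHom.fst G H)
      (Cfsg.Agent.Lib.helper4.isCharacter_of_isIrrCharacter hφ)
  have h2 : Cfsg.IsCharacter (G × H) (fun x => ψ x.2) :=
    Cfsg.Agent.Lib.helper4.isCharacter_comp (MonoidHom.snd G H)
      (Cfsg.Agent.Lib.helper4.isCharacter_of_isIrrCharacter hψ)
  have h3 : Cfsg.IsCharacter (G × H) (fun x => φ x.1 * ψ x.2) :=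
    Cfsg.Agent.Lib.helper4.isCharacter_mul h1 h2
  apply Cfsg.Agent.Lib.helper4.isIrrCharacter_of_isCharacter_of_norm_one h3
  have e1 := Cfsg.Agent.Lib.helper4.classInner_irr_self hφ
  have e2 := Cfsg.Agent.Lib.helper4.classInner_irr_self hψ
  unfold Cfsg.classInner at e1 e2 ⊢
  rw [Nat.card_prod, Fintype.sum_prod_type]
  have h4 : ∑ g : G, ∑ h : H, (φ g * ψ h) * conj (φ g * ψ h) =
      (∑ g : G, φ g * conj (φ g)) * (∑ h : H, ψ h * conj (ψ h)) := by
    rw [Finset.sum_mul_sum]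
    apply Finset.sum_congr rfl
    intro g _
    apply Finset.sum_congr rfl
    intro h _
    rw [map_mul]
    ring
  rw [h4]
  push_cast
  rw [mul_inv, mul_mul_mul_comm, e1, e2, one_mul]

theorem prod_inj {G : Type*} [Group G] [Finite G] {H : Type*} [Group H] [Finite H]
    (φ φ' : G → ℂ) (ψ ψ' : H → ℂ) (hφ : Cfsg.IsIrrCharacter G φ)
    (hφ' : Cfsg.IsIrrCharacter G φ') (hψ : Cfsg.IsIrrCharacter H ψ)
    (hψ' : Cfsg.IsIrrCharacter H ψ')
    (h : (fun x : G × H => φ x.1 * ψ x.2) = fun x : G × H => φ' x.1 * ψ' x.2) : φ = φ' := by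
  classical
  have := Fintype.ofFinite G
  by_contra hne
  have h0 := Cfsg.Agent.Lib.helper4.classInner_irr_ne hφ hφ' hne
  have hψ1 : ψ 1 ≠ 0 := Cfsg.Agent.Lib.helper4.irr_degree_ne_zero hψ
  have hψ'1 : ψ' 1 ≠ 0 := Cfsg.Agent.Lib.helper4.irr_degree_ne_zero hψ'
  have h1 : ∀ g : G, φ g * ψ 1 = φ' g * ψ' 1 := fun g => congrFun h (g, 1)
  have h2 : φ = (ψ' 1 / ψ 1) • φ' := by
    funext g
    have := h1 g
    simp only [Pi.smul_apply, smul_eq_mul]
    field_simp
    rw [this]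
    ring
  rw [h2, Cfsg.Agent.Lib.helper4.classInner_smul_left,
    Cfsg.Agent.Lib.helper4.classInner_irr_self hφ'] at h0
  simp at h0
  rcases h0 with h0 | h0
  · exact hψ'1 h0
  · exact hψ1 h0


/-- The irreducible complex characters of G × H are precisely the functions (g, h) ↦ φ g * ψ h with φ, ψ irreducible characters of G and H. -/
theorem result {G : Type*} [Group G] [Finite G] {H : Type*} [Group H] [Finite H] (θ : G × H → ℂ) : Cfsg.IsIrrCharacter (G × H) θ ↔ ∃ (φ : G → ℂ) (ψ : H → ℂ), Cfsg.IsIrrCharacter G φ ∧ Cfsg.IsIrrCharacter H ψ ∧ θ = fun x => φ x.1 * ψ x.2 := by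
  classical
  constructor
  swap
  · rintro ⟨φ, ψ, hφ, hψ, rfl⟩
    exact prod_irr φ ψ hφ hψ
  intro hθ
  have hfG : Fintype (IrrCharacter G) := Fintype.ofFinite _
  have hfH : Fintype (IrrCharacter H) := Fintype.ofFinite _
  have hfGH : Fintype (IrrCharacter (G × H)) := Fintype.ofFinite _
  let F : IrrCharacter G × IrrCharacter H → IrrCharacter (G × H) :=
    fun p => ⟨fun x => (p.1 : G → ℂ) x.1 * (p.2 : H → ℂ) x.2, prod_irr _ _ p.1.2 p.2.2⟩
  have hFinj : Function.Injective F := by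
    rintro ⟨φ, ψ⟩ ⟨φ', ψ'⟩ h
    have h1 : (fun x : G × H => (φ : G → ℂ) x.1 * (ψ : H → ℂ) x.2) =
        fun x : G × H => (φ' : G → ℂ) x.1 * (ψ' : H → ℂ) x.2 := congrArg Subtype.val h
    have h2 := prod_inj _ _ _ _ φ.2 φ'.2 ψ.2 ψ'.2 h1
    have h3 : (fun x : H × G => (ψ : H → ℂ) x.1 * (φ : G → ℂ) x.2) =
        fun x : H × G => (ψ' : H → ℂ) x.1 * (φ' : G → ℂ) x.2 := by
      funext x
      have := congrFun h1 (x.2, x.1)
      simp only at this
      rw [mul_comm, this, mul_comm]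
    have h4 := prod_inj _ _ _ _ ψ.2 ψ'.2 φ.2 φ'.2 h3
    exact Prod.ext (Subtype.ext h2) (Subtype.ext h4)
  have hdeg : ∀ p : IrrCharacter G × IrrCharacter H,
      charDegree ((F p : IrrCharacter (G × H)) : G × H → ℂ) =
        charDegree (p.1 : G → ℂ) * charDegree (p.2 : H → ℂ) := by
    intro p
    have h1 := Cfsg.Agent.Lib.helper83.irr_one_eq_charDegree p.1
    have h2 := Cfsg.Agent.Lib.helper83.irr_one_eq_charDegree p.2
    have h3 := Cfsg.Agent.Lib.helper83.irr_one_eq_charDegree (F p)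
    have h4 : ((F p : IrrCharacter (G × H)) : G × H → ℂ) 1 =
        (p.1 : G → ℂ) 1 * (p.2 : H → ℂ) 1 := rfl
    rw [h4, h1, h2] at h3
    exact_mod_cast h3.symm
  have hsG := Cfsg.Agent.Lib.helper83.sum_charDegree_sq (G := G)
  have hsH := Cfsg.Agent.Lib.helper83.sum_charDegree_sq (G := H)
  have hsGH := Cfsg.Agent.Lib.helper83.sum_charDegree_sq (G := G × H)
  rw [finsum_eq_sum_of_fintype] at hsG hsH hsGH
  rw [Nat.card_prod] at hsGH
  by_contra hcon
  have hθF : (⟨θ, hθ⟩ : IrrCharacter (G × H)) ∉ Finset.univ.image F := by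
    intro hmem
    obtain ⟨p, _, hp⟩ := Finset.mem_image.1 hmem
    apply hcon
    exact ⟨p.1, p.2, p.1.2, p.2.2, (congrArg Subtype.val hp).symm⟩
  have h1 : ∑ η ∈ insert (⟨θ, hθ⟩ : IrrCharacter (G × H)) (Finset.univ.image F),
      charDegree (η : G × H → ℂ) ^ 2 ≤ ∑ η : IrrCharacter (G × H),
        charDegree (η : G × H → ℂ) ^ 2 :=
    Finset.sum_le_sum_of_subset (Finset.subset_univ _)
  rw [Finset.sum_insert hθF, Finset.sum_image (fun x _ y _ h => hFinj h), hsGH] at h1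
  have h2 : ∑ p : IrrCharacter G × IrrCharacter H,
      charDegree ((F p : IrrCharacter (G × H)) : G × H → ℂ) ^ 2 = Nat.card G * Nat.card H := by
    rw [← hsG, ← hsH, Finset.sum_mul_sum, Fintype.sum_prod_type]
    apply Finset.sum_congr rfl
    intro φ _
    apply Finset.sum_congr rfl
    intro ψ _
    rw [hdeg]
    ring
  rw [h2] at h1
  have h3 := Cfsg.Agent.Lib.helper83.charDegree_pos (⟨θ, hθ⟩ : IrrCharacter (G × H))
  have h4 : 0 < charDegree θ ^ 2 := by positivity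
  have h5 : charDegree θ ^ 2 + Nat.card G * Nat.card H ≤ Nat.card G * Nat.card H := h1
  linarith

end Cfsg.Agent.S0188
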