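import Mathlib
import Cfsg.Statements.S0189

set_option autoImplicit false
open Cfsg

namespace Cfsg.Agent.S0189

/-- If a complex character of a finite group vanishes at every non-identity element of a Sylow p-subgroup P, then |P| divides its degree. -/
theorem result {G : Type*} [Group G] [Finite G] (p : ℕ) [Fact p.Prime] (P : Sylow p G) (χ : G → ℂ) (hχ : Cfsg.IsCharacter G χ) (hvan : ∀ g : G, g ∈ P → g ≠ 1 → χ g = 0) : ∃ k : ℕ, χ 1 = (Nat.card P : ℂ) * k := by
  classical
  obtain ⟨n, ρ, rfl⟩ := hχ
  have := Fintype.ofFinite (P : Subgroup G)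
  let ρ' : Representation ℂ (P : Subgroup G) (Fin n → ℂ) := ρ.comp (P : Subgroup G).subtype
  have hne : (Nat.card (P : Subgroup G) : ℂ) ≠ 0 := by
    exact_mod_cast (Nat.card_pos (α := (P : Subgroup G))).ne'
  have hinv : Invertible (Nat.card (P : Subgroup G) : ℂ) := invertibleOfNonzero hne
  have h := Representation.card_inv_mul_sum_char_eq_finrank ρ'
  refine ⟨Module.finrank ℂ (Representation.invariants ρ'), ?_⟩
  rw [← h]
  have hsum : ∑ g : (P : Subgroup G), ρ'.character g = ρ.character 1 := by
    rw [Finset.sum_eq_single (1 : (P : Subgroup G))]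
    · rfl
    · intro g _ hg
      exact hvan g g.2 (fun h => hg (Subtype.ext h))
    · intro h; exact absurd (Finset.mem_univ _) h
  rw [hsum, ← mul_assoc]
  show ρ.character 1 = (Nat.card (P : Subgroup G) : ℂ) * (Nat.card (P : Subgroup G) : ℂ)⁻¹ * _
  rw [mul_inv_cancel₀ hne, one_mul]

end Cfsg.Agent.S0189
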