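import Mathlib
import Cfsg.Statements.S0190

set_option autoImplicit false
open Cfsg

namespace Cfsg.Agent.S0190

/-- For a transitive action of a finite group on X, the permutation character g ↦ (number of fixed points of g) is the function induced from the principal character of the stabilizer of any point. -/
theorem result {G : Type*} [Group G] [Fintype G] (X : Type*) [MulAction G X] [Finite X] [MulAction.IsPretransitive G X] (x : X) : (fun g : G => (Nat.card (MulAction.fixedBy X g) : ℂ)) = Cfsg.indFun (MulAction.stabilizer G x) (fun _ => 1) := by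
  classical
  funext g
  have := Fintype.ofFinite X
  set H := MulAction.stabilizer G x with hH
  have hext : ∀ z : G, Cfsg.extendByZero H (fun _ => (1 : ℂ)) z = if z ∈ H then 1 else 0 := by
    intro z
    unfold Cfsg.extendByZero
    split_ifs with hz
    · exact (Subtype.val_injective.extend_apply (fun _ : H => (1 : ℂ)) (0 : G → ℂ) (⟨z, hz⟩ : H))
    · apply Function.extend_apply'
      rintro ⟨a, rfl⟩; exact hz a.2
  have hfib : ∀ z : X, (Finset.univ.filter (fun y : G => y • x = z)).card = Nat.card H := by
    intro z
    obtain ⟨y0, hy0⟩ := MulAction.exists_smul_eq G x z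
    rw [← Fintype.card_subtype, ← Nat.card_eq_fintype_card]
    apply Nat.card_congr
    exact {
      toFun := fun y => ⟨y0⁻¹ * y.1, by
        rw [MulAction.mem_stabilizer_iff, mul_smul, y.2, ← hy0, inv_smul_smul]⟩
      invFun := fun h => ⟨y0 * h.1, by
        rw [mul_smul, MulAction.mem_stabilizer_iff.1 h.2, hy0]⟩
      left_inv := fun y => by ext; simp
      right_inv := fun h => by ext; simp }
  have hmem : ∀ y : G, y⁻¹ * g * y ∈ H ↔ y • x ∈ MulAction.fixedBy X g := by
    intro y
    rw [MulAction.mem_stabilizer_iff, MulAction.mem_fixedBy, mul_smul, mul_smul, inv_smul_eq_iff]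
  have key : (Finset.univ.filter (fun y : G => y⁻¹ * g * y ∈ H)).card =
      Nat.card (MulAction.fixedBy X g) * Nat.card H := by
    rw [Finset.card_eq_sum_card_fiberwise (f := fun y : G => y • x)
      (t := (MulAction.fixedBy X g).toFinset)]
    · have hz : ∀ z ∈ (MulAction.fixedBy X g).toFinset,
          (Finset.filter (fun y : G => y • x = z)
            (Finset.univ.filter (fun y : G => y⁻¹ * g * y ∈ H))).card = Nat.card H := by
        intro z hz
        rw [← hfib z, Finset.filter_filter]
        congr 1
        ext y
        simp only [Finset.mem_filter, Finset.mem_univ, true_and, and_iff_right_iff_imp]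
        intro hy
        rw [hmem, hy]
        simpa using hz
      rw [Finset.sum_congr rfl hz, Finset.sum_const, smul_eq_mul, Set.toFinset_card,
        Nat.card_eq_fintype_card, Nat.card_eq_fintype_card]
    · intro y hy
      simpa [hmem] using hy
  have hne : (Nat.card H : ℂ) ≠ 0 := by
    exact_mod_cast (Nat.card_pos (α := H)).ne'
  show (Nat.card (MulAction.fixedBy X g) : ℂ) =
    (Nat.card H : ℂ)⁻¹ * ∑ y : G, Cfsg.extendByZero H (fun _ => (1 : ℂ)) (y⁻¹ * g * y)
  simp only [hext]
  rw [Finset.sum_boole, key]
  push_cast
  field_simp

end Cfsg.Agent.S0190
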