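import Cfsg.Statements.S4574
import Cfsg.Agent.Lib.helper79.CycloNorm
import Cfsg.Agent.Lib.helper83.CharBasic

set_option autoImplicit false
open Cfsg

namespace Cfsg.Agent.S4574

open scoped ComplexConjugate
open Polynomial Cfsg.Agent.Lib.helper79 Cfsg.Agent.Lib.helper83

/-- Burnside-type estimate: for a character `χ` of degree `n`, on the set `T` of
elements where `χ` neither vanishes nor has absolute value `n`, the sum of `|χ|²` is at least
`#T`. -/
theorem burnside_sum {G : Type*} [Group G] [Fintype G] {n : ℕ}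
    (ρ : Representation ℂ G (Fin n → ℂ)) (T : Finset G)
    (hT : ∀ g, g ∈ T ↔ (¬ ‖ρ.character g‖ = (n : ℝ) ∧ ¬ ρ.character g = 0)) :
    (T.card : ℝ) ≤ ∑ g ∈ T, ‖ρ.character g‖ ^ 2 := by
  classical
  set N := Fintype.card G with hNdef
  have hNpos : 0 < N := Fintype.card_pos
  have hζ : IsPrimitiveRoot (Complex.exp (2 * Real.pi * Complex.I / (N : ℕ))) N :=
    Complex.isPrimitiveRoot_exp _ hNpos.ne'
  set ζ := Complex.exp (2 * Real.pi * Complex.I / (N : ℕ)) with hζdef
  have hFex : ∀ g : G, ∃ F : ℤ[X], ∀ k : ℕ, ρ.character (g ^ k) = aeval (ζ ^ k) F :=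
    fun g => character_pow_eq_aeval ρ g N hNpos (pow_card_eq_one) ζ hζ
  choose F hF using hFex
  have hF1 : ∀ g : G, ρ.character g = aeval ζ (F g) := by
    intro g
    have := hF g 1
    simpa using this
  -- vanishing is invariant under coprime powers
  have hV : ∀ (g : G) (k : ℕ), k.Coprime N → (ρ.character (g ^ k) = 0 ↔ ρ.character g = 0) := by
    intro g k hk
    rw [hF g k, hF1 g]
    exact aeval_primitiveRoot_eq_zero_iff hNpos (hζ.pow_of_coprime k hk) hζ (F g)
  -- the polynomial expressing |χ|² - n²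
  have hinv : ∀ (g : G) (k : ℕ), aeval (ζ ^ k) ((F g).comp (X ^ (N - 1))) =
      conj (ρ.character (g ^ k)) := by
    intro g k
    rw [aeval_comp, map_pow, aeval_X, ← pow_mul, ← hF g (k * (N - 1)), pow_mul,
      ← character_inv ρ (g ^ k)]
    congr 1
    apply eq_inv_of_mul_eq_one_left
    rw [← pow_succ, Nat.sub_add_cancel hNpos, ← pow_mul, mul_comm, pow_mul, pow_card_eq_one,
      one_pow]
  have hE : ∀ (g : G) (k : ℕ),
      aeval (ζ ^ k) (F g * (F g).comp (X ^ (N - 1)) - C ((n : ℤ) ^ 2)) =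
        ((‖ρ.character (g ^ k)‖ ^ 2 - (n : ℝ) ^ 2 : ℝ) : ℂ) := by
    intro g k
    rw [map_sub, map_mul, hinv g k, ← hF g k, Complex.mul_conj, Complex.normSq_eq_norm_sq]
    simp
  have hZ : ∀ (g : G) (k : ℕ), k.Coprime N →
      (‖ρ.character (g ^ k)‖ = (n : ℝ) ↔ ‖ρ.character g‖ = (n : ℝ)) := by
    intro g k hk
    have h1 : ∀ j : ℕ, (‖ρ.character (g ^ j)‖ = (n : ℝ) ↔
        aeval (ζ ^ j) (F g * (F g).comp (X ^ (N - 1)) - C ((n : ℤ) ^ 2)) = 0) := by
      intro j
      rw [hE g j, Complex.ofReal_eq_zero, sub_eq_zero]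
      constructor
      · intro h; rw [h]
      · intro h
        exact (sq_eq_sq₀ (norm_nonneg _) (Nat.cast_nonneg n)).mp h
    have h2 := h1 1
    rw [pow_one, pow_one] at h2
    rw [h1 k, h2]
    exact aeval_primitiveRoot_eq_zero_iff hNpos (hζ.pow_of_coprime k hk) hζ _
  -- the index set of coprime exponents
  set U := (Finset.range N).filter (fun k => k.Coprime N) with hUdef
  have hUne : U.Nonempty := by
    rcases Nat.lt_or_ge 1 N with h1 | h1
    · exact ⟨1, Finset.mem_filter.mpr ⟨Finset.mem_range.mpr h1, Nat.coprime_one_left N⟩⟩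
    · have hN1 : N = 1 := le_antisymm h1 hNpos
      exact ⟨0, Finset.mem_filter.mpr ⟨Finset.mem_range.mpr hNpos, by
        rw [hN1]; exact Nat.coprime_one_right 0⟩⟩
  have hUpos : (0 : ℝ) < U.card := by exact_mod_cast Finset.card_pos.mpr hUne
  -- Burnside's estimate for one element
  have hB : ∀ g : G, ρ.character g ≠ 0 → (U.card : ℝ) ≤ ∑ k ∈ U, ‖ρ.character (g ^ k)‖ ^ 2 := by
    intro g hg
    have h1 : aeval ζ (F g) ≠ 0 := by rw [← hF1 g]; exact hg
    have h2 := one_le_prod_norm_aeval_primitiveRoots hNpos hζ (F g) h1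
    have h3 := card_le_sum_sq_of_one_le_prod (primitiveRoots N ℂ) (fun ξ => ‖aeval ξ (F g)‖)
      (fun _ _ => norm_nonneg _) h2
    have h4 := sum_primitiveRoots_eq_sum_coprime hNpos hζ (fun ξ => ‖aeval ξ (F g)‖ ^ 2)
    have h5 := sum_primitiveRoots_eq_sum_coprime hNpos hζ (fun _ => (1 : ℝ))
    simp only [Finset.sum_const, nsmul_eq_mul, mul_one] at h5
    rw [← hUdef] at h4 h5
    have h6 : ∑ k ∈ U, ‖ρ.character (g ^ k)‖ ^ 2 =
        ∑ ξ ∈ primitiveRoots N ℂ, ‖aeval ξ (F g)‖ ^ 2 := by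
      rw [← h4]
      exact Finset.sum_congr rfl (fun k _ => by rw [hF g k])
    rw [h5, h6]
    exact h3
  -- double counting
  have h1 : ∀ k ∈ U, ∑ g ∈ T, ‖ρ.character (g ^ k)‖ ^ 2 = ∑ g ∈ T, ‖ρ.character g‖ ^ 2 := by
    intro k hk
    have hkc : k.Coprime N := (Finset.mem_filter.mp hk).2
    have hcop : (Nat.card G).Coprime k := by
      rw [Nat.card_eq_fintype_card]; exact hkc.symm
    refine Finset.sum_equiv (powCoprime hcop) ?_ ?_
    · intro g
      rw [hT, hT, powCoprime_apply, hZ g k hkc, hV g k hkc]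
    · intro g _
      rw [powCoprime_apply]
  have h2 : (U.card : ℝ) * ∑ g ∈ T, ‖ρ.character g‖ ^ 2 =
      ∑ g ∈ T, ∑ k ∈ U, ‖ρ.character (g ^ k)‖ ^ 2 := by
    rw [Finset.sum_comm, Finset.sum_congr rfl h1, Finset.sum_const, nsmul_eq_mul]
  have h3 : (U.card : ℝ) * T.card ≤ ∑ g ∈ T, ∑ k ∈ U, ‖ρ.character (g ^ k)‖ ^ 2 := by
    have : (U.card : ℝ) * T.card = ∑ g ∈ T, (U.card : ℝ) := by
      rw [Finset.sum_const, nsmul_eq_mul, mul_comm]
    rw [this]
    exact Finset.sum_le_sum (fun g hg => hB g ((hT g).mp hg).2)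
  rw [← h2] at h3
  exact le_of_mul_le_mul_left h3 hUpos

/-- For χ ∈ Irr(G): #{g : χ(g) = 0} ≥ (χ(1)² − 1)·#Z(χ), with equality if the absolute value of χ takes only the values 0, 1, χ(1). -/
theorem result {G : Type*} [Group G] [Fintype G] [DecidableEq G] (χ : G → ℂ) (hχ : Cfsg.IsIrrCharacter G χ) : (Cfsg.charDegree χ ^ 2 - 1) * (Finset.univ.filter (fun g : G => ‖χ g‖ = (Cfsg.charDegree χ : ℝ))).card ≤ (Finset.univ.filter (fun g : G => χ g = 0)).card ∧ ((∀ g : G, ‖χ g‖ = 0 ∨ ‖χ g‖ = 1 ∨ ‖χ g‖ = (Cfsg.charDegree χ : ℝ)) → (Cfsg.charDegree χ ^ 2 - 1) * (Finset.univ.filter (fun g : G => ‖χ g‖ = (Cfsg.charDegree χ : ℝ))).card = (Finset.univ.filter (fun g : G => χ g = 0)).card) := by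
  classical
  have hpos : 0 < Cfsg.charDegree χ := charDegree_pos ⟨χ, hχ⟩
  have horth := irr_orthogonality' (⟨χ, hχ⟩ : IrrCharacter G) ⟨χ, hχ⟩
  obtain ⟨n, ρ, hρ, rfl⟩ := hχ
  have hdn : Cfsg.charDegree ρ.character = n := by
    simp [Cfsg.charDegree, Representation.char_one]
  rw [hdn] at hpos ⊢
  simp only [if_true] at horth
  -- (A) ∑ |χ|² = |G|
  have hA : ∑ g : G, ‖ρ.character g‖ ^ 2 = (Fintype.card G : ℝ) := by
    have h1 : ∑ g : G, ρ.character g * conj (ρ.character g) =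
        ((∑ g : G, ‖ρ.character g‖ ^ 2 : ℝ) : ℂ) := by
      rw [Complex.ofReal_sum]
      apply Finset.sum_congr rfl
      intro g _
      rw [Complex.mul_conj, Complex.normSq_eq_norm_sq]
    rw [h1, Nat.card_eq_fintype_card] at horth
    exact_mod_cast horth
  set Zs := Finset.univ.filter (fun g : G => ‖ρ.character g‖ = (n : ℝ)) with hZs
  set Vs := Finset.univ.filter (fun g : G => ρ.character g = 0) with hVs
  set Ts := Finset.univ.filter (fun g : G => ¬ ‖ρ.character g‖ = (n : ℝ) ∧ ¬ ρ.character g = 0)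
    with hTs
  have hTmem : ∀ g, g ∈ Ts ↔ (¬ ‖ρ.character g‖ = (n : ℝ) ∧ ¬ ρ.character g = 0) := by
    intro g; simp [hTs]
  have hB := burnside_sum ρ Ts hTmem
  -- partition of the group
  have hnpos : (0 : ℝ) < n := by exact_mod_cast hpos
  have hdisj : ∀ g : G, ρ.character g = 0 → ¬ ‖ρ.character g‖ = (n : ℝ) := by
    intro g hg h
    rw [hg, norm_zero] at h
    exact hnpos.ne h
  have hsplit : ∀ f : G → ℝ, ∑ g : G, f g = ∑ g ∈ Zs, f g + ∑ g ∈ Vs, f g + ∑ g ∈ Ts, f g := by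
    intro f
    have h1 := Finset.sum_filter_add_sum_filter_not (Finset.univ : Finset G)
      (fun g : G => ‖ρ.character g‖ = (n : ℝ)) f
    have h2 := Finset.sum_filter_add_sum_filter_not
      ((Finset.univ : Finset G).filter (fun g : G => ¬ ‖ρ.character g‖ = (n : ℝ)))
      (fun g : G => ρ.character g = 0) f
    have h3 : ((Finset.univ : Finset G).filter (fun g : G => ¬ ‖ρ.character g‖ = (n : ℝ))).filter
        (fun g : G => ρ.character g = 0) = Vs := by
      ext g
      simp only [Finset.mem_filter, Finset.mem_univ, true_and, hVs]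
      exact ⟨fun h => h.2, fun h => ⟨hdisj g h, h⟩⟩
    have h4 : ((Finset.univ : Finset G).filter (fun g : G => ¬ ‖ρ.character g‖ = (n : ℝ))).filter
        (fun g : G => ¬ ρ.character g = 0) = Ts := by
      ext g
      simp only [Finset.mem_filter, Finset.mem_univ, true_and, hTs]
    rw [h3, h4] at h2
    rw [← h1, ← h2, hZs]
    ring
  have hcard : (Fintype.card G : ℝ) = Zs.card + Vs.card + Ts.card := by
    have := hsplit (fun _ => (1 : ℝ))
    simpa using this
  have hsum := hsplit (fun g => ‖ρ.character g‖ ^ 2)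
  have hZsum : ∑ g ∈ Zs, ‖ρ.character g‖ ^ 2 = (n : ℝ) ^ 2 * Zs.card := by
    rw [Finset.sum_congr rfl (fun g hg => by rw [(Finset.mem_filter.mp hg).2]), Finset.sum_const,
      nsmul_eq_mul, mul_comm]
  have hVsum : ∑ g ∈ Vs, ‖ρ.character g‖ ^ 2 = 0 := by
    apply Finset.sum_eq_zero
    intro g hg
    rw [(Finset.mem_filter.mp hg).2]
    simp
  rw [hA, hZsum, hVsum, add_zero] at hsum
  have hkey : ∀ z v : ℕ, n ^ 2 * z ≤ z + v → (n ^ 2 - 1) * z ≤ v := by
    intro z v h
    have h1 : (n ^ 2 - 1) * z + z = n ^ 2 * z := by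
      have h2 : 1 ≤ n ^ 2 := Nat.one_le_pow _ _ hpos
      calc (n ^ 2 - 1) * z + z = (n ^ 2 - 1 + 1) * z := by ring
        _ = n ^ 2 * z := by rw [Nat.sub_add_cancel h2]
    omega
  have hkey' : ∀ z v : ℕ, n ^ 2 * z = z + v → (n ^ 2 - 1) * z = v := by
    intro z v h
    have h1 : (n ^ 2 - 1) * z + z = n ^ 2 * z := by
      have h2 : 1 ≤ n ^ 2 := Nat.one_le_pow _ _ hpos
      calc (n ^ 2 - 1) * z + z = (n ^ 2 - 1 + 1) * z := by ring
        _ = n ^ 2 * z := by rw [Nat.sub_add_cancel h2]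
    omega
  constructor
  · apply hkey
    have : ((n ^ 2 * Zs.card : ℕ) : ℝ) ≤ ((Zs.card + Vs.card : ℕ) : ℝ) := by
      push_cast
      linarith
    exact_mod_cast this
  · intro h01
    apply hkey'
    have hTsum : ∑ g ∈ Ts, ‖ρ.character g‖ ^ 2 = Ts.card := by
      rw [Finset.sum_congr rfl (fun g hg => ?_), Finset.sum_const, nsmul_eq_mul, mul_one]
      have hg' := (hTmem g).mp hg
      rcases h01 g with h | h | h
      · exact absurd (norm_eq_zero.mp h) hg'.2
      · rw [h, one_pow]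
      · exact absurd h hg'.1
    have : ((n ^ 2 * Zs.card : ℕ) : ℝ) = ((Zs.card + Vs.card : ℕ) : ℝ) := by
      push_cast
      linarith
    exact_mod_cast this

end Cfsg.Agent.S4574
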