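import Mathlib
import Cfsg.Statements.S0191
import Cfsg.Agent.S4574
import Cfsg.Agent.Lib.helper5.Irr
import Cfsg.Agent.Lib.helper82.CharInt

set_option autoImplicit false
open Cfsg

namespace Cfsg.Agent.S0191

/-- An irreducible complex representation of a finite group of degree greater than 1 has a character that vanishes somewhere. -/
theorem result {G : Type*} [Group G] [Finite G] {V : Type*} [AddCommGroup V] [Module ℂ V] [FiniteDimensional ℂ V] (ρ : Representation ℂ G V) [ρ.IsIrreducible] (hdeg : 1 < Module.finrank ℂ V) : ∃ g : G, ρ.character g = 0 := by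
  classical
  have := Fintype.ofFinite G
  have hirr := Cfsg.Agent.Lib.helper5.isIrrCharacter_of_irreducible ρ
  obtain ⟨h1, _⟩ := Cfsg.Agent.S4574.result ρ.character hirr
  have hd : Cfsg.charDegree ρ.character = Module.finrank ℂ V :=
    Cfsg.Agent.Lib.helper82.charDegree_char ρ
  rw [hd] at h1
  have hmem : (1 : G) ∈ Finset.univ.filter
      (fun g : G => ‖ρ.character g‖ = (Module.finrank ℂ V : ℝ)) := by
    simp [Representation.char_one]
  have hcard : 1 ≤ (Finset.univ.filter
      (fun g : G => ‖ρ.character g‖ = (Module.finrank ℂ V : ℝ))).card :=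
    Finset.card_pos.2 ⟨1, hmem⟩
  have hsq : 3 ≤ Module.finrank ℂ V ^ 2 - 1 := by
    have h4 : 4 ≤ Module.finrank ℂ V ^ 2 := by nlinarith
    omega
  have hz : 0 < (Finset.univ.filter (fun g : G => ρ.character g = 0)).card := by
    calc 0 < 3 * 1 := by norm_num
      _ ≤ (Module.finrank ℂ V ^ 2 - 1) * (Finset.univ.filter
          (fun g : G => ‖ρ.character g‖ = (Module.finrank ℂ V : ℝ))).card :=
        Nat.mul_le_mul hsq hcard
      _ ≤ _ := h1
  obtain ⟨g, hg⟩ := Finset.card_pos.1 hz
  exact ⟨g, (Finset.mem_filter.1 hg).2⟩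

end Cfsg.Agent.S0191
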