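import Mathlib
import Cfsg.Statements.S0192
import Cfsg.Agent.Lib.helper5.Rep

set_option autoImplicit false
open Cfsg

namespace Cfsg.Agent.S0192

/-- Brauer's generation criterion. Let G be a finite simple group, H₁ and H₂ subgroups, and χ a non-principal irreducible character. If the multiplicity of the principal character in χ restricted to H₁ ⊓ H₂ is less than the sum of the corresponding multiplicities for H₁ and H₂, then H₁ and H₂ do not generate G. -/
theorem result {G : Type*} [Group G] [Fintype G] [IsSimpleGroup G] (H₁ H₂ : Subgroup G) [Fintype H₁] [Fintype H₂] [Fintype ↥(H₁ ⊓ H₂)] (χ : G → ℂ) (hχ : Cfsg.IsIrrCharacter G χ) (hχ1 : χ ≠ fun _ => 1) (hlt : (Cfsg.classInner (fun x : ↥(H₁ ⊓ H₂) => χ x) (fun _ => 1)).re < (Cfsg.classInner (fun x : H₁ => χ x) (fun _ => 1)).re + (Cfsg.classInner (fun x : H₂ => χ x) (fun _ => 1)).re) : H₁ ⊔ H₂ ≠ ⊤ := by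
  classical
  obtain ⟨n, ρ, hirr, rfl⟩ := hχ
  intro htop
  rw [Cfsg.Agent.Lib.helper5.classInner_one_eq_finrank, Cfsg.Agent.Lib.helper5.classInner_one_eq_finrank,
    Cfsg.Agent.Lib.helper5.classInner_one_eq_finrank] at hlt
  simp only [Complex.natCast_re] at hlt
  set I1 := Representation.invariants (ρ.comp H₁.subtype) with hI1
  set I2 := Representation.invariants (ρ.comp H₂.subtype) with hI2
  set I12 := Representation.invariants (ρ.comp (H₁ ⊓ H₂).subtype) with hI12
  have hlt' : Module.finrank ℂ I12 < Module.finrank ℂ I1 + Module.finrank ℂ I2 := by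
    exact_mod_cast hlt
  have hle : I1 ⊔ I2 ≤ I12 := by
    apply sup_le
    · intro v hv k
      exact hv ⟨k, k.2.1⟩
    · intro v hv k
      exact hv ⟨k, k.2.2⟩
  have h1 := Submodule.finrank_sup_add_finrank_inf_eq I1 I2
  have h2 := Submodule.finrank_mono hle
  have hpos : 0 < Module.finrank ℂ (I1 ⊓ I2 : Submodule ℂ (Fin n → ℂ)) := by omega
  obtain ⟨v, hv, hv0⟩ : ∃ v ∈ I1 ⊓ I2, v ≠ 0 := by
    by_contra hcon
    push_neg at hcon
    have : (I1 ⊓ I2 : Submodule ℂ (Fin n → ℂ)) = ⊥ := by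
      rw [eq_bot_iff]
      intro w hw
      rw [Submodule.mem_bot]
      exact hcon w hw
    rw [this, finrank_bot] at hpos
    exact lt_irrefl _ hpos
  let S : Subgroup G :=
    { carrier := {g | ρ g v = v}
      mul_mem' := fun {a b} ha hb => by
        show ρ (a * b) v = v
        rw [map_mul, Module.End.mul_apply, hb, ha]
      one_mem' := by
        show ρ 1 v = v
        rw [map_one, Module.End.one_apply]
      inv_mem' := fun {a} ha => by
        show ρ a⁻¹ v = v
        have ha' : ρ a v = v := ha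
        calc ρ a⁻¹ v = ρ a⁻¹ (ρ a v) := by rw [ha']
          _ = ρ (a⁻¹ * a) v := by rw [map_mul, Module.End.mul_apply]
          _ = v := by rw [inv_mul_cancel, map_one, Module.End.one_apply] }
  have hS : H₁ ⊔ H₂ ≤ S :=
    sup_le (fun g hg => hv.1 ⟨g, hg⟩) (fun g hg => hv.2 ⟨g, hg⟩)
  have hfix : ∀ g : G, ρ g v = v := by
    intro g
    have hg : g ∈ H₁ ⊔ H₂ := by rw [htop]; trivial
    exact hS hg
  obtain ⟨hid, hdim⟩ := Cfsg.Agent.Lib.helper5.irr_trivial_of_fixed ρ v hv0 hfix
  apply hχ1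
  funext g
  show LinearMap.trace ℂ (Fin n → ℂ) (ρ g) = 1
  rw [hid g, LinearMap.trace_id, hdim, Nat.cast_one]

end Cfsg.Agent.S0192
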