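import Mathlib
import Cfsg.Statements.S0194
import Cfsg.Agent.S0193
import Cfsg.Agent.S0161

set_option autoImplicit false
open scoped ComplexConjugate
open Cfsg

namespace Cfsg.Agent.S0194

open scoped ComplexConjugate

theorem indFun_conj {G : Type*} [Group G] [Fintype G] (H : Subgroup G) (θ : H → ℂ) (g : G) :
    Cfsg.indFun H (fun h => conj (θ h)) g = conj (Cfsg.indFun H θ g) := by
  rw [Cfsg.Agent.Lib.helper4.indFun_apply, Cfsg.Agent.Lib.helper4.indFun_apply, map_mul,
    map_inv₀, Complex.conj_natCast, map_sum]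
  congr 1
  apply Finset.sum_congr rfl
  intro x _
  by_cases hy : x⁻¹ * g * x ∈ H
  · rw [Cfsg.Agent.Lib.helper4.extendByZero_apply_mem H _ hy,
      Cfsg.Agent.Lib.helper4.extendByZero_apply_mem H _ hy]
  · rw [Cfsg.Agent.Lib.helper4.extendByZero_apply_of_not_mem H _ hy,
      Cfsg.Agent.Lib.helper4.extendByZero_apply_of_not_mem H _ hy, map_zero]

theorem isIrr_conj {H : Type*} [Group H] [Fintype H] {θ : H → ℂ}
    (hθ : Cfsg.IsIrrCharacter H θ) : Cfsg.IsIrrCharacter H (fun h => conj (θ h)) := by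
  apply Cfsg.Agent.Lib.helper4.isIrrCharacter_of_isCharacter_of_norm_one
    (Cfsg.Agent.Lib.helper4.isCharacter_conj
      (Cfsg.Agent.Lib.helper4.isCharacter_of_isIrrCharacter hθ))
  have h1 := Cfsg.Agent.Lib.helper4.classInner_irr_self hθ
  unfold Cfsg.classInner at h1 ⊢
  rw [← h1]
  congr 1
  apply Finset.sum_congr rfl
  intro g _
  simp [mul_comm]

theorem no_conj_twist {G : Type*} [Group G] [Fintype G] (hodd : Odd (Nat.card G))
    (H : Subgroup G) [hN : H.Normal] (θ : H → ℂ) (hθ : Cfsg.IsIrrCharacter H θ)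
    (hθ1 : θ ≠ fun _ => 1) (g : G)
    (hg : ∀ h : H, θ ⟨g * h * g⁻¹, hN.conj_mem h h.2 g⟩ = conj (θ h)) : False := by
  apply hθ1
  have hmem : ∀ (k : ℕ) (h : H), g ^ k * (h : G) * (g ^ k)⁻¹ ∈ H :=
    fun k h => hN.conj_mem h h.2 (g ^ k)
  have hT2 : ∀ (k : ℕ) (h : H), θ ⟨g ^ (2 * k) * h * (g ^ (2 * k))⁻¹, hmem (2 * k) h⟩ = θ h := by
    intro k
    induction k with
    | zero =>
      intro h
      congr 1
      apply Subtype.ext
      simp
    | succ k ih =>
      intro h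
      have h1 := hg ⟨g ^ (2 * k) * h * (g ^ (2 * k))⁻¹, hmem (2 * k) h⟩
      have h2 := hg ⟨g * (g ^ (2 * k) * h * (g ^ (2 * k))⁻¹) * g⁻¹,
        hN.conj_mem _ (hmem (2 * k) h) g⟩
      rw [h1, Complex.conj_conj, ih h] at h2
      rw [← h2]
      congr 1
      apply Subtype.ext
      show g ^ (2 * (k + 1)) * (h : G) * (g ^ (2 * (k + 1)))⁻¹ =
        g * (g * (g ^ (2 * k) * (h : G) * (g ^ (2 * k))⁻¹) * g⁻¹) * g⁻¹
      have : 2 * (k + 1) = 1 + (1 + 2 * k) := by ring
      rw [this, pow_add, pow_add, pow_one]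
      group
  have hoddg : Odd (orderOf g) := Odd.of_dvd_nat hodd (orderOf_dvd_natCard g)
  obtain ⟨j, hj⟩ := hoddg
  have hgj : g ^ (2 * j) = g⁻¹ := by
    have h1 : g ^ (2 * j + 1) = 1 := by rw [← hj]; exact pow_orderOf_eq_one g
    rw [pow_succ] at h1
    exact eq_inv_of_mul_eq_one_left h1
  have hreal : ∀ h : H, (θ h).im = 0 := by
    intro h
    rw [← Complex.conj_eq_iff_im, ← hg h]
    have h1 := hT2 j ⟨g * h * g⁻¹, hN.conj_mem h h.2 g⟩
    rw [← h1]
    congr 1
    apply Subtype.ext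
    show g ^ (2 * j) * (g * (h : G) * g⁻¹) * (g ^ (2 * j))⁻¹ = (h : G)
    rw [hgj]
    group
  have hoddH : Odd (Nat.card H) := Odd.of_dvd_nat hodd (Subgroup.card_subgroup_dvd_card H)
  exact Cfsg.Agent.S0161.result hoddH ⟨θ, hθ⟩ hreal


/-- Let G have odd order, H be a normal subgroup and θ a non-principal irreducible character of H. Then the function induced from θ is orthogonal to its complex conjugate. -/
theorem result {G : Type*} [Group G] [Fintype G] (hodd : Odd (Nat.card G)) (H : Subgroup G) [H.Normal] (θ : H → ℂ) (hθ : Cfsg.IsIrrCharacter H θ) (hθ1 : θ ≠ fun _ => 1) : Cfsg.classInner (fun g => conj (Cfsg.indFun H θ g)) (Cfsg.indFun H θ) = 0 := by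
  classical
  have := Fintype.ofFinite H
  have hN : H.Normal := inferInstance
  have hθb_irr : Cfsg.IsIrrCharacter H (fun h => conj (θ h)) := isIrr_conj hθ
  have hconj : (fun g => conj (Cfsg.indFun H θ g)) = Cfsg.indFun H (fun h => conj (θ h)) := by
    funext g
    exact (indFun_conj H θ g).symm
  rw [hconj, Cfsg.Agent.Lib.helper4.frobenius_reciprocity H _
    (Cfsg.Agent.Lib.helper4.isClassFunction_indFun H θ),
    Cfsg.Agent.S0193.main_count H θ hθ _ hθb_irr]
  have hempty : IsEmpty {g : G // ∀ h : H, θ ⟨g * h * g⁻¹, hN.conj_mem h h.2 g⟩ =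
      conj (θ h)} := by
    constructor
    rintro ⟨g, hg⟩
    exact no_conj_twist hodd H θ hθ hθ1 g hg
  rw [@Nat.card_of_isEmpty _ hempty]
  simp

end Cfsg.Agent.S0194
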