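import Mathlib
import Cfsg.Statements.S0196

set_option autoImplicit false
open Cfsg

namespace Cfsg.Agent.S0196

theorem card_ne {A : Type*} [Finite A] (a0 : A) : Nat.card {a : A // a ≠ a0} = Nat.card A - 1 := by
  classical
  have := Fintype.ofFinite A
  rw [Nat.card_eq_fintype_card, Nat.card_eq_fintype_card]
  exact Set.card_ne_eq a0


/-- Let A be a subgroup of a finite group G that equals the centralizer of each of its non-identity elements, and let N be its normalizer. Then the index of A in N divides |A| − 1 (N/A permutes the non-identity elements of A in orbits of full length). -/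
theorem result {G : Type*} [Group G] [Finite G] (A : Subgroup G) (hA : ∀ x ∈ A, x ≠ 1 → Subgroup.centralizer ({x} : Set G) = A) : (A.subgroupOf (Subgroup.normalizer (A : Set G))).index ∣ Nat.card A - 1 := by
  classical
  set N := Subgroup.normalizer (A : Set G) with hN
  let X := {a : A // a ≠ 1}
  letI : MulAction N X :=
    { smul := fun n a => ⟨⟨(n : G) * a.1 * (n : G)⁻¹,
          (Subgroup.mem_normalizer_iff.1 n.2 _).1 a.1.2⟩, fun h => a.2 (by
          have h' : (n : G) * a.1 * (n : G)⁻¹ = 1 := congrArg Subtype.val h
          apply Subtype.ext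
          show (a.1 : G) = 1
          have : (a.1 : G) = (n : G)⁻¹ * ((n : G) * a.1 * (n : G)⁻¹) * n := by group
          rw [this, h']; group)⟩
      one_smul := fun a => by
        apply Subtype.ext; apply Subtype.ext
        show ((1 : N) : G) * a.1 * ((1 : N) : G)⁻¹ = a.1
        simp
      mul_smul := fun m n a => by
        apply Subtype.ext; apply Subtype.ext
        show ((m * n : N) : G) * a.1 * ((m * n : N) : G)⁻¹ =
          (m : G) * ((n : G) * a.1 * (n : G)⁻¹) * (m : G)⁻¹
        simp [mul_assoc] }
  have hsmul : ∀ (n : N) (x : X), ((n • x : X).1 : G) = (n : G) * x.1 * (n : G)⁻¹ :=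
    fun n x => rfl
  have hstab : ∀ x : X, MulAction.stabilizer N x = A.subgroupOf N := by
    intro x
    ext n
    rw [MulAction.mem_stabilizer_iff, Subgroup.mem_subgroupOf]
    have hx := hA x.1.1 x.1.2 (fun h => x.2 (Subtype.ext h))
    rw [← hx, Subgroup.mem_centralizer_iff]
    constructor
    · intro h y hy
      rw [Set.mem_singleton_iff] at hy; subst hy
      have h' : (n : G) * x.1 * (n : G)⁻¹ = x.1 := by rw [← hsmul, h]
      calc (x.1 : G) * n = ((n : G) * x.1 * (n : G)⁻¹) * n := by rw [h']
        _ = n * x.1 := by group
    · intro h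
      apply Subtype.ext; apply Subtype.ext
      rw [hsmul]
      have := h x.1 rfl
      rw [← this]; group
  rw [← card_ne (1 : A)]
  have e := MulAction.selfEquivSigmaOrbitsQuotientStabilizer' N X (φ := Quotient.out)
    Quotient.out_eq'
  have hfin : Finite X := inferInstance
  have := Fintype.ofFinite (Quotient (MulAction.orbitRel N X))
  show _ ∣ Nat.card X
  rw [Nat.card_congr e, Nat.card_sigma]
  apply Finset.dvd_sum
  intro ω _
  rw [← Subgroup.index_eq_card, hstab]

end Cfsg.Agent.S0196
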