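import Cfsg.Statements.S0197
import Cfsg.Agent.Lib.helper81.S0197Defs
import Cfsg.Agent.Lib.helper81.S0197PII
import Cfsg.Agent.Lib.helper72.S0197GL
import Cfsg.Agent.Lib.helper46.S0197GD
import Cfsg.Agent.Lib.helper25.S0197GD45
import Cfsg.Agent.Lib.helper32.S0197VAL
import Cfsg.Agent.Lib.helper61.S0197ORTH
import Cfsg.Agent.Lib.helper61.S0197CLS
import Cfsg.Agent.Lib.helper65.S0197PB
import Cfsg.Agent.Lib.helper27.S0197PI
import Cfsg.Agent.Lib.helper27.S0197FIN
import Cfsg.Agent.Lib.helper83.CharBasic2
import Cfsg.Agent.Lib.helper21.PrimeTICor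

/-!
# S0197: a simple group with an involution centralizer `GL(2,3)` has order 5616 or 7920

Split project (helper81); pieces: GL (helper72), GD1-3 (helper46), GD4-5 (helper25), EIG/VAL
(helper32), ORTH/CLS (helper61), PB (helper65), PI/FIN (helper27), PII + assembly (helper81).
See `tools/S0197_SPEC.md` for the paper proof.
-/

set_option autoImplicit false
open Cfsg

namespace Cfsg.Agent.S0197

open Cfsg.Agent.Lib.helper81.S0197

universe u

/-- Assembly of the group side. -/
theorem gdata_of_glfacts {G : Type u} [Group G] [Finite G] [IsSimpleGroup G] (t : G)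
    (ht : orderOf t = 2) {H : Type*} [Group H] (z0 w0 : H) (hH : GLFacts H z0 w0)
    (e : Subgroup.centralizer ({t} : Set G) ≃* H) :
    ∃ z w : G, GData G t z w := by
  obtain ⟨h1, h2, h3, h4, h5, h6, h7, h8⟩ := Cfsg.Agent.Lib.helper46.S0197.gd_basic t ht z0 w0 hH e
  obtain ⟨c1, c2, c3⟩ := Cfsg.Agent.Lib.helper46.S0197.gd_conj t ht z0 w0 hH e
  obtain ⟨hP, h32⟩ := Cfsg.Agent.Lib.helper46.S0197.gd_sylow t ht z0 w0 hH e
  have hfus := Cfsg.Agent.Lib.helper25.S0197.gd_fusion t ht z0 w0 hH e hP
  refine ⟨((e.symm z0 : Subgroup.centralizer ({t} : Set G)) : G),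
    ((e.symm w0 : Subgroup.centralizer ({t} : Set G)) : G),
    { z4 := h1, w3 := h2, ord_z := h3, ord_w := h4, cent_t := h5, cent_z := h6, cent_y := h7,
      cent_w := h8, conj_z := c1, nconj_z := c2, conj_w := c3, count_z := ?_,
      count_y := Cfsg.Agent.Lib.helper25.S0197.gd_count t ht z0 w0 hH e hfus, not32 := h32 }⟩
  -- `u v = z` with `u, v` involutions: `u` inverts `z`
  intro u v hu hv huv
  apply c2
  have hu2 : u * u = 1 := by
    obtain ⟨c, hc⟩ := isConj_iff.mp hu
    rw [← hc]
    have : t * t = 1 := by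
      have := pow_orderOf_eq_one t
      rw [ht, pow_two] at this
      exact this
    calc c * t * c⁻¹ * (c * t * c⁻¹) = c * (t * t) * c⁻¹ := by group
      _ = 1 := by rw [this]; group
  have hv2 : v * v = 1 := by
    obtain ⟨c, hc⟩ := isConj_iff.mp hv
    rw [← hc]
    have : t * t = 1 := by
      have := pow_orderOf_eq_one t
      rw [ht, pow_two] at this
      exact this
    calc c * t * c⁻¹ * (c * t * c⁻¹) = c * (t * t) * c⁻¹ := by group
      _ = 1 := by rw [this]; group
  rw [isConj_iff]
  refine ⟨u, ?_⟩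
  rw [← huv]
  have hui : u⁻¹ = u := inv_eq_of_mul_eq_one_left hu2
  have hvi : v⁻¹ = v := inv_eq_of_mul_eq_one_left hv2
  rw [mul_inv_rev, hui, hvi]
  calc u * (u * v) * u = (u * u) * v * u := by group
    _ = v * u := by rw [hu2, one_mul]

/-- The pattern lemma. -/
theorem pattern_of_arith {ι : Type*} [Fintype ι] {χ0 : ι} {T Y W a b f : ι → ℤ} {g : ℤ}
    (h : Arith ι χ0 T Y W a b f g) : Pattern ι χ0 T Y W a b := by
  obtain ⟨i4, i5, h45, hb4, hb5, hb, hT, hY, hW, ha⟩ := Cfsg.Agent.Lib.helper65.S0197.pat_b h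
  by_cases ha4 : a i4 = 0
  · exact pat_caseII h i4 i5 h45 hb4 hb5 hb hT hY hW ha ha4
  · exact (Cfsg.Agent.Lib.helper27.S0197.pat_caseI h i4 i5 h45 hb4 hb5 hb hT hY hW ha ha4).elim

/-- If a finite simple group has an involution whose centralizer is isomorphic to the general linear group GL(2, 3), then the group has order 5616 or 7920. -/
theorem result {G : Type*} [Group G] [Finite G] [IsSimpleGroup G] (t : G) (ht : orderOf t = 2) (e : Subgroup.centralizer ({t} : Set G) ≃* Matrix.GeneralLinearGroup (Fin 2) (ZMod 3)) : Nat.card G = 5616 ∨ Nat.card G = 7920 := by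
  classical
  obtain ⟨z0, w0, hH⟩ := Cfsg.Agent.Lib.helper72.S0197.glfacts_gl23
  obtain ⟨z, w, hG⟩ := gdata_of_glfacts t ht z0 w0 hH e
  letI : Fintype G := Fintype.ofFinite G
  letI : Fintype (IrrCharacter G) := Fintype.ofFinite _
  obtain ⟨s, hs, hval⟩ := Cfsg.Agent.Lib.helper32.S0197.values_of_gdata ht hG
  choose T Y W a b hT hY hW hz hc1 hc2 hc3 using hval
  obtain ⟨h1, h2, h3, h4, h5, h6⟩ := Cfsg.Agent.Lib.helper61.S0197.sums_sq ht hG s hs T Y W a b hT hY hW hz
  obtain ⟨k1, k2, k3, k4, k5, k6, k7, k8, k9⟩ := Cfsg.Agent.Lib.helper61.S0197.sums_cross ht hG s hs T Y W a b hT hY hW hz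
  obtain ⟨d1, d2, d3, d4, d5⟩ := Cfsg.Agent.Lib.helper61.S0197.sums_deg ht hG s hs T Y W a b hT hY hW hz
  obtain ⟨c1, c2⟩ := Cfsg.Agent.Lib.helper61.S0197.class_eqs ht hG s hs T Y a b hT hY hz
  have hnp : ¬ (Nat.card G).Prime := by
    intro hp
    have hdvd : Nat.card (Subgroup.centralizer ({t} : Set G)) ∣ Nat.card G :=
      Subgroup.card_subgroup_dvd_card _
    rw [hG.cent_t] at hdvd
    rcases (Nat.dvd_prime hp).mp hdvd with h | h
    · omega
    · rw [← h] at hp; exact absurd hp (by norm_num)
  have htriv : ∀ x : G, ((Cfsg.Agent.Lib.helper83.trivIrr G : IrrCharacter G) : G → ℂ) x = 1 :=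
    fun x => Cfsg.Agent.Lib.helper83.trivIrr_apply x
  have hab0 := int_add_mul_eq_zero hs (a (Cfsg.Agent.Lib.helper83.trivIrr G) - 1)
    (b (Cfsg.Agent.Lib.helper83.trivIrr G)) (by
      have := hz (Cfsg.Agent.Lib.helper83.trivIrr G)
      rw [htriv] at this
      push_cast
      linear_combination -this)
  have harith : Arith (IrrCharacter G) (Cfsg.Agent.Lib.helper83.trivIrr G) T Y W a b
      (fun χ => (charDegree (χ : G → ℂ) : ℤ)) ((Nat.card G : ℕ) : ℤ) :=
    { f_pos := fun χ => by
        have := Cfsg.Agent.Lib.helper83.charDegree_pos χ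
        exact_mod_cast this
      f_one := fun χ hχ => by
        by_contra hne
        have h1' : (χ : G → ℂ) ≠ fun _ => 1 := by
          intro hh
          apply hne
          apply Subtype.ext
          rw [hh]
          funext x
          exact (htriv x).symm
        have := Cfsg.Agent.Lib.helper21.one_lt_charDegree_of_simple hnp χ h1'
        have h2' : charDegree (χ : G → ℂ) = 1 := by exact_mod_cast hχ
        omega
      T0 := by
        have := hT (Cfsg.Agent.Lib.helper83.trivIrr G)
        rw [htriv] at this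
        exact_mod_cast this.symm
      Y0 := by
        have := hY (Cfsg.Agent.Lib.helper83.trivIrr G)
        rw [htriv] at this
        exact_mod_cast this.symm
      W0 := by
        have := hW (Cfsg.Agent.Lib.helper83.trivIrr G)
        rw [htriv] at this
        exact_mod_cast this.symm
      a0 := by have := hab0.1; omega
      b0 := hab0.2
      f0 := by
        have h1' := Cfsg.Agent.Lib.helper83.irr_one_eq_charDegree (Cfsg.Agent.Lib.helper83.trivIrr G)
        rw [htriv] at h1'
        have : charDegree ((Cfsg.Agent.Lib.helper83.trivIrr G : IrrCharacter G) : G → ℂ) = 1 := by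
          exact_mod_cast h1'.symm
        show ((charDegree ((Cfsg.Agent.Lib.helper83.trivIrr G : IrrCharacter G) : G → ℂ) : ℕ) : ℤ) = 1
        rw [this]; rfl
      cYa := hc1
      cTY := hc2
      cWT := hc3
      sTT := h1
      sYY := h2
      sWW := h3
      saa := h4
      sbb := h5
      sTY := k1
      sTW := k2
      sTa := k3
      sTb := k4
      sYW := k5
      sYa := k6
      sYb := k7
      sWa := k8
      sWb := k9
      sab := h6
      sfT := d1
      sfY := d2
      sfW := d3
      sfa := d4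
      sfb := d5
      cz := c1
      cy := c2
      g32 := by
        intro h32
        exact hG.not32 (by exact_mod_cast h32) }
  have hpat := pattern_of_arith harith
  have hfin := Cfsg.Agent.Lib.helper27.S0197.card_of_pattern harith hpat
  rcases hfin with h | h
  · left; exact_mod_cast h
  · right; exact_mod_cast h

end Cfsg.Agent.S0197
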