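import Mathlib
import Cfsg.Statements.S0206
import Cfsg.Agent.Lib.helper5.Dihedral

set_option autoImplicit false
open Cfsg

namespace Cfsg.Agent.S0206

/-- Two distinct involutions x, y of a finite group generate a subgroup isomorphic to the dihedral group of order 2·|xy|. -/
theorem result {G : Type*} [Group G] [Finite G] (x y : G) (hx : orderOf x = 2) (hy : orderOf y = 2) (hxy : x ≠ y) : Nonempty (↥(Subgroup.closure ({x, y} : Set G)) ≃* DihedralGroup (orderOf (x * y))) := by
  have hx2 := Cfsg.Agent.Lib.helper5.mul_self_of_orderOf_two hx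
  have hy2 := Cfsg.Agent.Lib.helper5.mul_self_of_orderOf_two hy
  have hx1 := Cfsg.Agent.Lib.helper5.ne_one_of_orderOf_two hx
  have hy1 := Cfsg.Agent.Lib.helper5.ne_one_of_orderOf_two hy
  have hinj := Cfsg.Agent.Lib.helper5.dihedralHom_injective x y hx2 hy2 hx1 hy1
  have hrange := Cfsg.Agent.Lib.helper5.dihedralHom_range x y hx2 hy2 (orderOf (x * y))
    (pow_orderOf_eq_one _)
  refine ⟨MulEquiv.symm ?_⟩
  exact (MonoidHom.ofInjective hinj).trans (MulEquiv.subgroupCongr hrange)

end Cfsg.Agent.S0206
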