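import Mathlib
import Cfsg.Statements.S0210
import Cfsg.Agent.Lib.helper5.Dihedral

set_option autoImplicit false
open Cfsg

namespace Cfsg.Agent.S0210

/-- If x, y are involutions whose product has even order, no element of the subgroup generated by x and y conjugates x to y. -/
theorem result {G : Type*} [Group G] [Finite G] (x y : G) (hx : orderOf x = 2) (hy : orderOf y = 2) (heven : Even (orderOf (x * y))) (d : G) (hd : d ∈ Subgroup.closure ({x, y} : Set G)) : d * x * d⁻¹ ≠ y := by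
  have hx2 := Cfsg.Agent.Lib.helper5.mul_self_of_orderOf_two hx
  have hy2 := Cfsg.Agent.Lib.helper5.mul_self_of_orderOf_two hy
  obtain ⟨k, hk⟩ := Cfsg.Agent.Lib.helper5.conj_of_mem_closure_pair hx2 hy2 d hd
  intro h
  rw [hk] at h
  -- y = (x*y)⁻¹ * x
  have hy' : y = (x * y) ^ (-1 : ℤ) * x := by
    rw [zpow_neg, zpow_one, mul_inv_rev, Cfsg.Agent.Lib.helper5.inv_eq_self_of_mul_self hx2,
      Cfsg.Agent.Lib.helper5.inv_eq_self_of_mul_self hy2, mul_assoc, hx2, mul_one]
  have h2 : (x * y) ^ (2 * k) = (x * y) ^ (-1 : ℤ) := by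
    have h3 : (x * y) ^ (2 * k) * x = (x * y) ^ (-1 : ℤ) * x := by rw [← hy']; exact h
    exact mul_right_cancel h3
  have h4 : (x * y) ^ (2 * k + 1) = 1 := by
    rw [zpow_add, h2, zpow_neg, zpow_one, inv_mul_cancel]
  have h5 := (orderOf_dvd_iff_zpow_eq_one).2 h4
  obtain ⟨m, hm⟩ := heven
  rw [hm] at h5
  obtain ⟨c, hc⟩ := h5
  push_cast at hc
  have h6 : (2 : ℤ) ∣ 2 * k + 1 := ⟨m * c, by rw [hc]; ring⟩
  omega

end Cfsg.Agent.S0210
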