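import Mathlib
import Cfsg.Statements.S0211
import Cfsg.Agent.Lib.helper5.Dihedral

set_option autoImplicit false
open Cfsg

namespace Cfsg.Agent.S0211

/-- Let x, y be involutions with xy of even order n and z = (xy)^(n/2). Then xz is conjugate to x by an element of the subgroup generated by x, y if and only if 4 divides n. -/
theorem result {G : Type*} [Group G] [Finite G] (x y : G) (hx : orderOf x = 2) (hy : orderOf y = 2) (heven : Even (orderOf (x * y))) : (∃ d ∈ Subgroup.closure ({x, y} : Set G), d * x * d⁻¹ = x * (x * y) ^ (orderOf (x * y) / 2)) ↔ 4 ∣ orderOf (x * y) := by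
  have hx2 := Cfsg.Agent.Lib.helper5.mul_self_of_orderOf_two hx
  have hy2 := Cfsg.Agent.Lib.helper5.mul_self_of_orderOf_two hy
  have hpos : 0 < orderOf (x * y) := orderOf_pos (x * y)
  obtain ⟨m, hm⟩ := heven
  have hdiv : orderOf (x * y) / 2 = m := by omega
  rw [hdiv]
  have hxz : x * (x * y) ^ m = (x * y) ^ (-(m : ℤ)) * x := by
    rw [← Cfsg.Agent.Lib.helper5.mul_zpow_comm x y hx2 hy2, zpow_natCast]
  rw [hxz]
  constructor
  · rintro ⟨d, hd, hdx⟩
    obtain ⟨k, hk⟩ := Cfsg.Agent.Lib.helper5.conj_of_mem_closure_pair hx2 hy2 d hd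
    rw [hk] at hdx
    have h2 : (x * y) ^ (2 * k) = (x * y) ^ (-(m : ℤ)) := mul_right_cancel hdx
    have h4 : (x * y) ^ (2 * k + m) = 1 := by
      rw [zpow_add, h2, zpow_neg, inv_mul_cancel]
    have h5 := (orderOf_dvd_iff_zpow_eq_one).2 h4
    rw [hm] at h5
    obtain ⟨c, hc⟩ := h5
    push_cast at hc
    have h6 : (2 : ℤ) ∣ (m : ℤ) := ⟨m * c - k, by linarith⟩
    have h7 : 2 ∣ m := by exact_mod_cast h6
    obtain ⟨j, hj⟩ := h7
    exact ⟨j, by omega⟩
  · rintro ⟨j, hj⟩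
    refine ⟨(x * y) ^ (-(j : ℤ)), Cfsg.Agent.Lib.helper5.zpow_mul_mem_closure x y _, ?_⟩
    rw [Cfsg.Agent.Lib.helper5.zpow_conj_x x y hx2 hy2]
    have hmj : (m : ℤ) = 2 * j := by omega
    rw [hmj]
    congr 2
    ring

end Cfsg.Agent.S0211
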