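import Mathlib
import Cfsg.Statements.S0212
import Cfsg.Agent.Lib.helper81.CharOrtho

set_option autoImplicit false
open Cfsg

namespace Cfsg.Agent.S0212

open Cfsg.Agent.Lib.helper81

theorem bf_arith (m n N S : ℕ) (hmn : m * n = N) (hm2 : m * m ≤ m + S)
    (hS : S * (2 * n ^ 2) ≤ (N - 1) * (N - 1)) (hbig : 2 * n ^ 2 < N) (hnpos : 0 < n) : False := by
  have hNpos : 0 < N := by omega
  have e1 : (m : ℤ) * n = N := by exact_mod_cast hmn
  have e2 : (m : ℤ) * m ≤ m + S := by exact_mod_cast hm2
  have e3 : (S : ℤ) * (2 * n ^ 2) ≤ (N - 1) * (N - 1) := by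
    have h1 : ((N - 1 : ℕ) : ℤ) = (N : ℤ) - 1 := Nat.cast_pred hNpos
    rw [← h1]
    exact_mod_cast hS
  have e4 : 2 * (n : ℤ) ^ 2 < N := by exact_mod_cast hbig
  have e5 : (1 : ℤ) ≤ n := by exact_mod_cast hnpos
  have e6 : (1 : ℤ) ≤ N := by exact_mod_cast hNpos
  have e7 : (0 : ℤ) ≤ m := by positivity
  have e8 : (0 : ℤ) ≤ S := by positivity
  have e9 : 2 * (N : ℤ) ^ 2 ≤ 2 * n * N + (N - 1) * (N - 1) := by
    have h1 : 2 * (n : ℤ) ^ 2 * (m * m) ≤ 2 * (n : ℤ) ^ 2 * (m + S) :=
      mul_le_mul_of_nonneg_left e2 (by positivity)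
    have h2 : 2 * (N : ℤ) ^ 2 = 2 * (n : ℤ) ^ 2 * (m * m) := by rw [← e1]; ring
    have h3 : 2 * (n : ℤ) ^ 2 * (m + S) = 2 * n * N + S * (2 * n ^ 2) := by rw [← e1]; ring
    linarith
  have e10 : 2 * (n : ℤ) * N < N * N := by
    have h1 : 2 * (n : ℤ) ≤ 2 * n ^ 2 := by nlinarith
    have h2 : 2 * (n : ℤ) < N := by linarith
    exact mul_lt_mul_of_pos_right h2 (by linarith)
  have e11 : ((N : ℤ) - 1) * (N - 1) < N * N := by nlinarith
  have e12 : 2 * (N : ℤ) ^ 2 = N * N + N * N := by ring
  linarith

/-- Brauer–Fowler counting: if `|G| > 2 n ^ 2` with `n = |C(t)|` for an involution `t`, then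
some nontrivial element has a centralizer of index at most `2 n ^ 2`. -/
theorem exists_small_class {G : Type*} [Group G] [Finite G] (t : G) (ht : orderOf t = 2)
    (hbig : 2 * (Nat.card (Subgroup.centralizer ({t} : Set G))) ^ 2 < Nat.card G) :
    ∃ x : G, x ≠ 1 ∧ Nat.card G ≤ Nat.card (Subgroup.centralizer ({x} : Set G)) *
      (2 * (Nat.card (Subgroup.centralizer ({t} : Set G))) ^ 2) := by
  classical
  haveI : Fintype G := Fintype.ofFinite G
  by_contra hcon
  push Not at hcon
  set n := Nat.card (Subgroup.centralizer ({t} : Set G)) with hn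
  set N := Nat.card G with hN
  have htt : t * t = 1 := by
    have := pow_orderOf_eq_one t
    rw [ht, pow_two] at this
    exact this
  let I : Finset G := Finset.univ.filter (fun a => IsConj t a)
  have hI2 : ∀ a ∈ I, a * a = 1 := by
    intro a ha
    obtain ⟨c, hc⟩ := isConj_iff.mp (Finset.mem_filter.mp ha).2
    rw [← hc]
    calc c * t * c⁻¹ * (c * t * c⁻¹) = c * (t * t) * c⁻¹ := by group
      _ = 1 := by rw [htt]; group
  have hmn : I.card * n = N := by
    have h1 := index_centralizer_eq t
    have h2 : Nat.card {y : G // IsConj t y} = I.card := by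
      rw [Nat.card_eq_fintype_card, Fintype.card_subtype]
    rw [← h2, ← h1, mul_comm]
    exact Subgroup.card_mul_index _
  let F : G → Finset (G × G) := fun x => (I ×ˢ I).filter (fun p => p.1 * p.2 = x)
  have hsum : I.card * I.card = ∑ x : G, (F x).card := by
    rw [← Finset.card_product]
    exact Finset.card_eq_sum_card_fiberwise (fun p _ => Finset.mem_univ _)
  have hF1 : (F 1).card ≤ I.card := by
    apply Finset.card_le_card_of_injOn (fun p => p.1)
    · intro p hp
      exact (Finset.mem_product.mp (Finset.mem_filter.mp hp).1).1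
    · intro p hp q hq hpq
      have h1 : p.1 * p.2 = 1 := (Finset.mem_filter.mp hp).2
      have h2 : q.1 * q.2 = 1 := (Finset.mem_filter.mp hq).2
      have h3 : p.1 = q.1 := hpq
      apply Prod.ext h3
      have e1 : p.2 = p.1⁻¹ := eq_inv_of_mul_eq_one_right h1
      have e2 : q.2 = q.1⁻¹ := eq_inv_of_mul_eq_one_right h2
      rw [e1, e2, h3]
  have hFx : ∀ x : G, (F x).card ≤ Nat.card (Subgroup.centralizer ({x} : Set G)) := by
    intro x
    rcases Finset.eq_empty_or_nonempty (F x) with hemp | ⟨p₀, hp₀⟩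
    · rw [hemp]; simp
    · have hinv : ∀ p ∈ F x, p.1 * x * p.1⁻¹ = x⁻¹ := by
        intro p hp
        have hp' := Finset.mem_filter.mp hp
        have ha := hI2 _ (Finset.mem_product.mp hp'.1).1
        have hb := hI2 _ (Finset.mem_product.mp hp'.1).2
        have hx : p.1 * p.2 = x := hp'.2
        have ha' : p.1⁻¹ = p.1 := inv_eq_of_mul_eq_one_left ha
        have hb' : p.2⁻¹ = p.2 := inv_eq_of_mul_eq_one_left hb
        rw [← hx, mul_inv_rev, ha', hb']
        calc p.1 * (p.1 * p.2) * p.1 = (p.1 * p.1) * p.2 * p.1 := by group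
          _ = p.2 * p.1 := by rw [ha, one_mul]
      have hmem : ∀ p ∈ F x, p₀.1⁻¹ * p.1 ∈ Subgroup.centralizer ({x} : Set G) := by
        intro p hp
        rw [Subgroup.mem_centralizer_singleton_iff]
        have h1 := hinv p hp
        have h2 := hinv p₀ hp₀
        have h3 : p.1 * x = x⁻¹ * p.1 := by
          rw [← h1]; group
        have h4 : p₀.1⁻¹ * x⁻¹ = x * p₀.1⁻¹ := by
          rw [← h2]; group
        calc p₀.1⁻¹ * p.1 * x = p₀.1⁻¹ * (p.1 * x) := by group
          _ = p₀.1⁻¹ * (x⁻¹ * p.1) := by rw [h3]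
          _ = (p₀.1⁻¹ * x⁻¹) * p.1 := by group
          _ = x * p₀.1⁻¹ * p.1 := by rw [h4]
          _ = x * (p₀.1⁻¹ * p.1) := by group
      have hinj : Function.Injective (fun p : F x =>
          (⟨p₀.1⁻¹ * p.1.1, hmem p.1 p.2⟩ : Subgroup.centralizer ({x} : Set G))) := by
        intro p q hpq
        have h1 : p₀.1⁻¹ * p.1.1 = p₀.1⁻¹ * q.1.1 := congrArg Subtype.val hpq
        have h2 : p.1.1 = q.1.1 := mul_left_cancel h1
        have hp : p.1.1 * p.1.2 = x := (Finset.mem_filter.mp p.2).2
        have hq : q.1.1 * q.1.2 = x := (Finset.mem_filter.mp q.2).2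
        have h3 : p.1.2 = q.1.2 := by
          have h4 : q.1.1 * p.1.2 = q.1.1 * q.1.2 := by rw [hq, ← h2, hp]
          exact mul_left_cancel h4
        exact Subtype.ext (Prod.ext h2 h3)
      have := Nat.card_le_card_of_injective _ hinj
      rwa [Nat.card_eq_fintype_card, Fintype.card_coe] at this
  have hsplit : ∑ x : G, (F x).card = (F 1).card + ∑ x ∈ Finset.univ.erase (1 : G), (F x).card := by
    exact (Finset.add_sum_erase Finset.univ (fun x => (F x).card) (Finset.mem_univ (1 : G))).symm
  have hS : (∑ x ∈ Finset.univ.erase (1 : G), (F x).card) * (2 * n ^ 2) ≤ (N - 1) * (N - 1) := by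
    rw [Finset.sum_mul]
    have h1 : ∀ x ∈ Finset.univ.erase (1 : G), (F x).card * (2 * n ^ 2) ≤ N - 1 := by
      intro x hx
      have hx1 : x ≠ 1 := Finset.ne_of_mem_erase hx
      have h2 := hcon x hx1
      have h3 := Nat.mul_le_mul_right (2 * n ^ 2) (hFx x)
      omega
    have h2 := Finset.sum_le_card_nsmul _ _ _ h1
    rw [Finset.card_erase_of_mem (Finset.mem_univ _), Finset.card_univ,
      ← Nat.card_eq_fintype_card, smul_eq_mul] at h2
    exact h2
  have hNpos : 0 < N := Nat.card_pos
  have hm2 : I.card * I.card ≤ I.card + ∑ x ∈ Finset.univ.erase (1 : G), (F x).card := by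
    rw [hsum, hsplit]
    exact Nat.add_le_add_right hF1 _
  have hnpos : 0 < n := Nat.card_pos
  exact bf_arith _ n N _ hmn hm2 hS hbig hnpos


/-- The Brauer–Fowler bound: if G is a finite simple group and t an involution of G whose centralizer has order n, then |G| ≤ (2n^2)!. -/
theorem result {G : Type*} [Group G] [Finite G] [IsSimpleGroup G] (t : G) (ht : orderOf t = 2) : Nat.card G ≤ Nat.factorial (2 * (Nat.card (Subgroup.centralizer ({t} : Set G))) ^ 2) := by
  classical
  set n := Nat.card (Subgroup.centralizer ({t} : Set G)) with hn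
  by_cases hbig : 2 * n ^ 2 < Nat.card G
  · obtain ⟨x, hx1, hx⟩ := exists_small_class t ht hbig
    set H := Subgroup.centralizer ({x} : Set G) with hH
    have hidx : H.index ≤ 2 * n ^ 2 := by
      have h1 := H.card_mul_index
      have hpos : 0 < Nat.card H := Nat.card_pos
      rw [← h1] at hx
      exact Nat.le_of_mul_le_mul_left hx hpos
    have hker := (MonoidHom.normal_ker (MulAction.toPermHom G (G ⧸ H))).eq_bot_or_eq_top
    rcases hker with hbot | htop
    · have hinj : Function.Injective (MulAction.toPermHom G (G ⧸ H)) :=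
        (MonoidHom.ker_eq_bot_iff _).mp hbot
      have h1 := Nat.card_le_card_of_injective _ hinj
      rw [Nat.card_perm] at h1
      have h2 : Nat.card (G ⧸ H) = H.index := rfl
      rw [h2] at h1
      exact h1.trans (Nat.factorial_le hidx)
    · exfalso
      rw [← Subgroup.normalCore_eq_ker] at htop
      have hHtop : H = ⊤ := top_le_iff.mp (htop ▸ H.normalCore_le)
      have hxc : x ∈ Subgroup.center G := by
        rw [Subgroup.mem_center_iff]
        intro g
        have : g ∈ H := by rw [hHtop]; trivial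
        exact Subgroup.mem_centralizer_singleton_iff.mp this
      have hcne : Subgroup.center G ≠ ⊥ := by
        intro h
        rw [h, Subgroup.mem_bot] at hxc
        exact hx1 hxc
      have hctop : Subgroup.center G = ⊤ :=
        ((inferInstance : (Subgroup.center G).Normal).eq_bot_or_eq_top).resolve_left hcne
      have hCt : Subgroup.centralizer ({t} : Set G) = ⊤ := by
        rw [eq_top_iff]
        intro g _
        rw [Subgroup.mem_centralizer_singleton_iff]
        have ht' : t ∈ Subgroup.center G := by rw [hctop]; trivial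
        exact Subgroup.mem_center_iff.mp ht' g
      have hnN : n = Nat.card G := by
        rw [hn, hCt, Subgroup.card_top]
      have hNpos : 0 < Nat.card G := Nat.card_pos
      rw [← hnN] at hbig
      nlinarith
  · have h1 : Nat.card G ≤ 2 * n ^ 2 := not_lt.mp hbig
    exact h1.trans (Nat.self_le_factorial _)

end Cfsg.Agent.S0212
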