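import Cfsg.Statements.S0214
import Cfsg.Agent.Lib.helper24.StrEmb

set_option autoImplicit false
open Cfsg

namespace Cfsg.Agent.S0214

/-- Let H be a proper subgroup of the finite group G and P a nontrivial Sylow 2-subgroup of H. Then H is strongly embedded in G if and only if N_G(X) ≤ H for every nontrivial subgroup X of P. -/
theorem result {G : Type*} [Group G] [Finite G] (H : Subgroup G) (hH : H ≠ ⊤) (P : Sylow 2 ↥H) (hP : (P : Subgroup ↥H) ≠ ⊥) : Cfsg.IsStronglyEmbedded H ↔ (∀ X : Subgroup ↥H, X ≤ (P : Subgroup ↥H) → X ≠ ⊥ → Subgroup.normalizer ((X.map H.subtype : Subgroup G) : Set G) ≤ H) := by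
  constructor
  · rintro ⟨-, -, hodd⟩ X hXP hX1 g hg
    by_contra hgH
    have h1 := hodd g hgH
    set XG := X.map H.subtype with hXG
    have hXGH : XG ≤ H := Subgroup.map_subtype_le X
    have hle : XG ≤ H ⊓ H.map (MulAut.conj g).toMonoidHom := by
      intro x hx
      refine Subgroup.mem_inf.mpr ⟨hXGH hx, ?_⟩
      rw [Cfsg.Agent.Lib.helper24.mem_map_conj]
      apply hXGH
      have := (Subgroup.mem_normalizer_iff.mp hg) (g⁻¹ * x * g)
      rw [this]
      have e : g * (g⁻¹ * x * g) * g⁻¹ = x := by group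
      rwa [e]
    have hXp : IsPGroup 2 X := P.isPGroup'.to_le hXP
    have hXGp : IsPGroup 2 XG := hXp.map _
    have hcard := Subgroup.card_dvd_of_le hle
    have h2 : 2 ∣ Nat.card XG := by
      rcases hXGp.card_eq_or_dvd with h | h
      · exfalso
        have : XG = ⊥ := Subgroup.card_eq_one.mp h
        exact hX1 ((Subgroup.map_eq_bot_iff_of_injective X H.subtype_injective).mp this)
      · exact h
    have h3 := even_iff_two_dvd.mpr (h2.trans hcard)
    exact (Nat.not_odd_iff_even.mpr h3) h1
  · intro hN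
    refine ⟨hH, ?_, ?_⟩
    · have h2 : 2 ∣ Nat.card (P : Subgroup H) := by
        rcases P.isPGroup'.card_eq_or_dvd with h | h
        · exact absurd (Subgroup.card_eq_one.mp h) hP
        · exact h
      exact even_iff_two_dvd.mpr (h2.trans (Subgroup.card_subgroup_dvd_card _))
    · intro g hg
      have hN' := fun T hTH hT hT1 =>
        Cfsg.Agent.Lib.helper24.normalizer_le_of_sylow_hyp H P hN T hTH hT hT1
      have := Cfsg.Agent.Lib.helper24.not_dvd_card_inter_conj H P hN' g hg
      exact Nat.not_even_iff_odd.mp (fun h => this (even_iff_two_dvd.mp h))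

end Cfsg.Agent.S0214
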