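import Mathlib
import Cfsg.Statements.S0216
import Cfsg.Agent.Lib.helper5.SylowAux

set_option autoImplicit false
open Cfsg

namespace Cfsg.Agent.S0216

/-- For an involution u in a Sylow 2-subgroup P of a finite group G, the following are equivalent: no G-conjugate of u other than u lies in P; every commutator of u with an element of G has odd order. -/
theorem result {G : Type*} [Group G] [Finite G] (P : Sylow 2 G) (u : G) (hu : orderOf u = 2) (huP : u ∈ P) : (∀ g : G, g * u * g⁻¹ ∈ P → g * u * g⁻¹ = u) ↔ (∀ g : G, Odd (orderOf (u * g * u⁻¹ * g⁻¹))) := by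
  have hu2 := Cfsg.Agent.Lib.helper5.mul_self_of_orderOf_two hu
  have huinv := Cfsg.Agent.Lib.helper5.inv_eq_self_of_mul_self hu2
  constructor
  · intro hiso g
    by_contra hodd
    have heven : Even (orderOf (u * g * u⁻¹ * g⁻¹)) := Nat.not_odd_iff_even.1 hodd
    have hv2 : (g * u * g⁻¹) * (g * u * g⁻¹) = 1 := by
      calc g * u * g⁻¹ * (g * u * g⁻¹) = g * (u * u) * g⁻¹ := by group
        _ = 1 := by rw [hu2]; group
    have huv : u * g * u⁻¹ * g⁻¹ = u * (g * u * g⁻¹) := by rw [huinv]; group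
    rw [huv] at heven
    obtain ⟨d, hne, hd2, hS⟩ :=
      Cfsg.Agent.Lib.helper5.exists_conj_two_group_of_even hu2 hv2 heven
    obtain ⟨k, hk⟩ := Cfsg.Agent.Lib.helper5.exists_conj_mem_sylow P _ hS
    have h1 := hk u (Subgroup.subset_closure (by simp))
    have h2 := hk (d * (g * u * g⁻¹) * d⁻¹) (Subgroup.subset_closure (by simp))
    have h3 := hiso k⁻¹ (by rw [inv_inv]; exact h1)
    rw [inv_inv] at h3
    have h4 : (k⁻¹ * d * g) * u * (k⁻¹ * d * g)⁻¹ = k⁻¹ * (d * (g * u * g⁻¹) * d⁻¹) * k := by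
      group
    have h5 := hiso (k⁻¹ * d * g) (by rw [h4]; exact h2)
    rw [h4] at h5
    apply hne
    have h6 : k⁻¹ * (d * (g * u * g⁻¹) * d⁻¹) * k = k⁻¹ * u * k := by rw [h5, h3]
    have h7 := congrArg (fun z => k * z * k⁻¹) h6
    simpa [mul_assoc] using h7
  · intro hodd g hg
    have h1 : u * g * u⁻¹ * g⁻¹ ∈ (P : Subgroup G) := by
      have : u * g * u⁻¹ * g⁻¹ = u * (g * u * g⁻¹)⁻¹ := by group
      rw [this]
      exact (P : Subgroup G).mul_mem huP ((P : Subgroup G).inv_mem hg)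
    obtain ⟨j, hj⟩ := P.2 ⟨_, h1⟩
    have hj' : (u * g * u⁻¹ * g⁻¹) ^ (2 ^ j) = 1 := congrArg Subtype.val hj
    have hdvd := orderOf_dvd_of_pow_eq_one hj'
    have hcop : Nat.Coprime (orderOf (u * g * u⁻¹ * g⁻¹)) (2 ^ j) :=
      Nat.Coprime.pow_right j (Nat.coprime_two_right.2 (hodd g))
    have h1' : orderOf (u * g * u⁻¹ * g⁻¹) = 1 := Nat.Coprime.eq_one_of_dvd hcop hdvd
    rw [orderOf_eq_one_iff] at h1'
    have : g * u * g⁻¹ = (u * g * u⁻¹ * g⁻¹)⁻¹ * u := by group
    rw [this, h1', inv_one, one_mul]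

end Cfsg.Agent.S0216
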