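import Mathlib
import Cfsg.Statements.S0218

set_option autoImplicit false
open Cfsg

namespace Cfsg.Agent.S0218

theorem aux (N : ℕ) [NeZero N] (x : QuaternionGroup N) :
    orderOf x = 2 ↔ x = QuaternionGroup.a (N : ZMod (2 * N)) := by
  have hN : 0 < N := NeZero.pos N
  constructor
  · intro h
    cases x with
    | a i =>
      have h2 : (QuaternionGroup.a i) ^ 2 = 1 := by rw [← h]; exact pow_orderOf_eq_one _
      have h1 : QuaternionGroup.a i ≠ 1 := by
        intro h0
        rw [h0, orderOf_one] at h
        omega
      rw [pow_two, QuaternionGroup.a_mul_a, QuaternionGroup.one_def] at h2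
      have h3 : i + i = 0 := QuaternionGroup.a.inj h2
      have h4 : i ≠ 0 := fun h0 => h1 (by rw [h0, QuaternionGroup.a_zero])
      congr 1
      have hlt : i.val < 2 * N := ZMod.val_lt i
      have hv0 : i.val ≠ 0 := fun h0 => h4 ((ZMod.val_eq_zero i).1 h0)
      have hv : (i.val + i.val) % (2 * N) = 0 := by
        rw [← ZMod.val_add, h3, ZMod.val_zero]
      have hv2 : i.val = N := by
        obtain ⟨c, hc⟩ := Nat.dvd_of_mod_eq_zero hv
        have hc1 : c < 2 := by
          by_contra hcc
          have : 2 * N * 2 ≤ 2 * N * c := Nat.mul_le_mul_left _ (by omega)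
          omega
        have hc0 : c ≠ 0 := by
          rintro rfl
          omega
        have : c = 1 := by omega
        subst this
        omega
      rw [← ZMod.natCast_zmod_val i, hv2]
    | xa i => rw [QuaternionGroup.orderOf_xa] at h; omega
  · rintro rfl
    have : Fact (Nat.Prime 2) := ⟨Nat.prime_two⟩
    apply orderOf_eq_prime
    · rw [pow_two, QuaternionGroup.a_mul_a, ← Nat.cast_add, ← two_mul, ZMod.natCast_self,
        QuaternionGroup.a_zero]
    · intro h
      rw [QuaternionGroup.one_def] at h
      have h3 := QuaternionGroup.a.inj h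
      have h4 : ((N : ZMod (2 * N))).val = N := ZMod.val_natCast_of_lt (by omega)
      rw [h3, ZMod.val_zero] at h4
      omega


/-- The generalized quaternion group of order 2^(n+3) contains exactly one element of order 2. -/
theorem result (n : ℕ) : Nat.card {x : QuaternionGroup (2 ^ (n + 1)) // orderOf x = 2} = 1 := by
  have : NeZero (2 ^ (n + 1)) := ⟨by positivity⟩
  rw [Nat.card_eq_one_iff_unique]
  refine ⟨⟨fun x y => Subtype.ext ?_⟩, ⟨⟨_, (aux _ _).2 rfl⟩⟩⟩
  rw [(aux _ _).1 x.2, (aux _ _).1 y.2]

end Cfsg.Agent.S0218
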