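import Mathlib
import Cfsg.Statements.S0219

set_option autoImplicit false
open Cfsg

namespace Cfsg.Agent.S0219

/-- If a finite group has even order and a cyclic Sylow 2-subgroup, then it has a subgroup of index 2 (consider the parity of permutations in the regular representation). -/
theorem result {G : Type*} [Group G] [Finite G] (heven : Even (Nat.card G)) (T : Sylow 2 G) (hT : IsCyclic (T : Subgroup G)) : ∃ H : Subgroup G, H.index = 2 := by
  have h2G : 2 ∣ Nat.card G := even_iff_two_dvd.1 heven
  have hp : (Nat.card G).minFac = 2 := (Nat.minFac_eq_two_iff _).2 h2G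
  have hcomp := IsCyclic.isComplement' hp hT
  set K := (MonoidHom.transferSylow T (IsCyclic.normalizer_le_centralizer hp hT)).ker with hK
  have hKn : K.Normal := MonoidHom.normal_ker _
  have hidx : K.index = Nat.card T := hcomp.symm.index_eq_card
  obtain ⟨k, hk⟩ := T.2.exists_card_eq
  have h2T : 2 ∣ Nat.card T := T.dvd_card_of_dvd_card h2G
  have hk1 : 1 ≤ k := by
    rcases Nat.eq_zero_or_pos k with h0 | h0
    · rw [h0, pow_zero] at hk
      rw [hk] at h2T
      omega
    · exact h0
  have hQ : Nat.card (G ⧸ K) = 2 ^ k := by rw [← Subgroup.index_eq_card, hidx, hk]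
  obtain ⟨H, hH⟩ := Sylow.exists_subgroup_card_pow_prime 2 (G := G ⧸ K) (n := k - 1)
    (by rw [hQ]; exact pow_dvd_pow 2 (by omega))
  refine ⟨H.comap (QuotientGroup.mk' K), ?_⟩
  rw [Subgroup.index_comap_of_surjective _ (QuotientGroup.mk'_surjective K)]
  have h4 := H.card_mul_index
  rw [hH, hQ] at h4
  have h3 : 2 ^ k = 2 ^ (k - 1) * 2 := by
    rw [← pow_succ]; congr 1; omega
  rw [h3] at h4
  exact Nat.eq_of_mul_eq_mul_left (by positivity) h4

end Cfsg.Agent.S0219
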