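import Cfsg.Statements.S0221
import Cfsg.Agent.S0111
import Cfsg.Agent.Lib.helper6.E8
import Cfsg.Agent.Lib.helper6.Inv
import Cfsg.Agent.Lib.helper26.Basic
import Cfsg.Agent.Lib.helper54.SylowAux

set_option autoImplicit false
open Cfsg

namespace Cfsg.Agent.S0221

open Cfsg.Agent.Lib.helper6

/-- reduction by conjugation -/
theorem conj_red {G : Type*} [Group G] (x g : G)
    (h : ∃ E : Subgroup G, E ≤ Subgroup.centralizer ({g * x * g⁻¹} : Set G) ∧ Nat.card E = 8 ∧
      ∀ e ∈ E, e ^ 2 = 1) :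
    ∃ E : Subgroup G, E ≤ Subgroup.centralizer ({x} : Set G) ∧ Nat.card E = 8 ∧
      ∀ e ∈ E, e ^ 2 = 1 := by
  obtain ⟨E, hEc, hE8, hEe⟩ := h
  refine ⟨E.map (MulAut.conj g⁻¹).toMonoidHom, ?_, ?_, ?_⟩
  · rintro _ ⟨e, he, rfl⟩
    have h1 := mem_centralizer_singleton.mp (hEc he)
    rw [mem_centralizer_singleton]
    simp only [MulEquiv.coe_toMonoidHom, MulAut.conj_apply, inv_inv]
    calc x * (g⁻¹ * e * g) = g⁻¹ * (g * x * g⁻¹ * e) * g := by group
      _ = g⁻¹ * (e * (g * x * g⁻¹)) * g := by rw [h1]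
      _ = g⁻¹ * e * g * x := by group
  · rw [Subgroup.card_map_of_injective (MulAut.conj g⁻¹).injective]; exact hE8
  · rintro _ ⟨e, he, rfl⟩
    rw [← map_pow, hEe e he, map_one]

/-- Let G be a finite group with no subgroup of index 2 whose 2-rank is at least 3 (it contains an elementary abelian subgroup of order 8). Then the centralizer of every involution of G also contains an elementary abelian subgroup of order 8. -/
theorem result {G : Type*} [Group G] [Finite G] (hno : ∀ H : Subgroup G, H.index ≠ 2) (hrank : ∃ E : Subgroup G, Nat.card E = 8 ∧ ∀ e ∈ E, e ^ 2 = 1) (x : G) (hx : orderOf x = 2) : ∃ E : Subgroup G, E ≤ Subgroup.centralizer ({x} : Set G) ∧ Nat.card E = 8 ∧ ∀ e ∈ E, e ^ 2 = 1 := by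
  classical
  have : Fact (Nat.Prime 2) := ⟨Nat.prime_two⟩
  obtain ⟨E₀, hE₀, hexp₀⟩ := hrank
  have hE₀p : IsPGroup 2 E₀ := IsPGroup.of_card (n := 3) (by rw [hE₀]; rfl)
  obtain ⟨T, hET⟩ := hE₀p.exists_le_sylow
  -- a central involution `z` of `T`
  have hTne : (T : Subgroup G) ≠ ⊥ := by
    intro h
    have h1 : Nat.card E₀ ≤ Nat.card (⊥ : Subgroup G) := Subgroup.card_le_of_le (h ▸ hET)
    rw [Subgroup.card_bot] at h1
    omega
  obtain ⟨z, hzT, hz2, hzc⟩ :=
    Cfsg.Agent.Lib.helper54.exists_central_orderOf_eq_prime T.isPGroup' hTne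
  have hzsq : z ^ 2 = 1 := inv_sq hz2
  have hz1 : z ≠ 1 := inv_ne_one hz2
  have hzz : z * z = 1 := by rw [← sq, hzsq]
  -- pass to the group `T`
  have h4 : 4 ∣ Nat.card {t : (T : Subgroup G) // t ^ 2 = 1} := by
    apply four_dvd_card_sq_eq_one (E₀.subgroupOf T)
    · rw [Nat.card_congr (Subgroup.subgroupOfEquivOfLe hET).toEquiv]; exact hE₀
    · intro e he
      apply Subtype.ext
      have h1 := hexp₀ e.1 (Subgroup.mem_subgroupOf.mp he)
      simpa using h1
  obtain ⟨t', ht2', ht1', htz', hconj'⟩ := exists_normal_four_data (P := (T : Subgroup G))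
    T.isPGroup' ⟨z, hzT⟩ (fun g => Subtype.ext (hzc g.1 g.2)) (Subtype.ext (by simpa using hzsq))
    (fun h => hz1 (congrArg Subtype.val h)) h4
  obtain ⟨t, htT⟩ := t'
  have ht2 : t ^ 2 = 1 := by simpa using congrArg Subtype.val ht2'
  have ht1 : t ≠ 1 := fun h => ht1' (Subtype.ext h)
  have htz : t ≠ z := fun h => htz' (Subtype.ext h)
  have hconj : ∀ g ∈ T, g * t * g⁻¹ = t ∨ g * t * g⁻¹ = t * z := by
    intro g hg
    rcases hconj' ⟨g, hg⟩ with h | h
    · left; simpa using congrArg Subtype.val h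
    · right; simpa using congrArg Subtype.val h
  have htzc : t * z = z * t := hzc t htT
  have htzne : t * z ≠ t := fun h => hz1 (by simpa using h)
  have hcomm_iff : ∀ g : G, t * g = g * t ↔ g * t * g⁻¹ = t := by
    intro g
    constructor
    · intro h; rw [← h]; group
    · intro h
      have h1 : t * g = g * t * g⁻¹ * g := by rw [h]
      rw [h1]; group
  -- the key coset property of `C_T(t)`
  have K : ∀ a ∈ T, ∀ b ∈ T, ¬ (t * a = a * t) →
      Xor (t * (b * a) = (b * a) * t) (t * b = b * t) := by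
    intro a ha b hb hat
    rw [hcomm_iff] at hat
    have ha' : a * t * a⁻¹ = t * z := (hconj a ha).resolve_left hat
    have hbz : b * z * b⁻¹ = z := by rw [hzc b hb]; group
    have h1 : (b * a) * t * (b * a)⁻¹ = (b * t * b⁻¹) * z := by
      calc (b * a) * t * (b * a)⁻¹ = b * (a * t * a⁻¹) * b⁻¹ := by group
        _ = b * (t * z) * b⁻¹ := by rw [ha']
        _ = (b * t * b⁻¹) * (b * z * b⁻¹) := by group
        _ = (b * t * b⁻¹) * z := by rw [hbz]
    rw [hcomm_iff, hcomm_iff, h1]
    rcases hconj b hb with h | h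
    · right
      rw [h]
      exact ⟨rfl, htzne⟩
    · left
      rw [h]
      exact ⟨by rw [mul_assoc, hzz, mul_one], htzne⟩
  -- the normal four-group `U`
  have hzexp : ∀ u ∈ Subgroup.zpowers z, u ^ 2 = 1 := by
    intro u hu
    rcases mem_zpowers_of_sq hzsq hu with h | h
    · rw [h]; simp
    · rw [h]; exact hzsq
  have htnz : t ∉ Subgroup.zpowers z := by
    intro h
    rcases mem_zpowers_of_sq hzsq h with h | h
    · exact ht1 h
    · exact htz h
  have hzt_comm : ∀ u ∈ Subgroup.zpowers z, u * t = t * u := by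
    intro u hu
    rcases mem_zpowers_of_sq hzsq hu with h | h
    · rw [h]; simp
    · rw [h]; exact htzc.symm
  obtain ⟨hUcard, hUexp⟩ := sup_zpowers_card (Subgroup.zpowers z) hzexp t ht2 htnz hzt_comm
  have hU4 : Nat.card ↥(Subgroup.zpowers z ⊔ Subgroup.zpowers t) = 4 := by
    rw [hUcard, Nat.card_zpowers, hz2]
  have hUcent : ∀ y ∈ T, y * t = t * y →
      Subgroup.zpowers z ⊔ Subgroup.zpowers t ≤ Subgroup.centralizer {y} := by
    intro y hy hyt
    apply sup_le
    · rw [Subgroup.zpowers_le, mem_centralizer_singleton]; exact hzc y hy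
    · rw [Subgroup.zpowers_le, mem_centralizer_singleton]; exact hyt
  -- Claim A: involutions of `C_T(t)` centralize an `E_8`
  have claimA : ∀ y : G, orderOf y = 2 → y ∈ T → y * t = t * y →
      ∃ E : Subgroup G, E ≤ Subgroup.centralizer ({y} : Set G) ∧ Nat.card E = 8 ∧
        ∀ e ∈ E, e ^ 2 = 1 := by
    intro y hy hyT hyt
    have hy2 : y ^ 2 = 1 := inv_sq hy
    have hUy := hUcent y hyT hyt
    have hUy' : ∀ u ∈ Subgroup.zpowers z ⊔ Subgroup.zpowers t, u * y = y * u :=
      fun u hu => (mem_centralizer_singleton.mp (hUy hu)).symm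
    by_cases hyU : y ∈ Subgroup.zpowers z ⊔ Subgroup.zpowers t
    · by_cases hUE : Subgroup.zpowers z ⊔ Subgroup.zpowers t ≤ E₀
      · refine ⟨E₀, ?_, hE₀, hexp₀⟩
        intro e he
        rw [mem_centralizer_singleton]
        exact comm_of_exp_two E₀ hexp₀ (hUE hyU) he
      · have hD4 : 4 ≤ Nat.card ↥(E₀ ⊓ Subgroup.centralizer {t}) := by
          by_cases hall : E₀ ≤ Subgroup.centralizer {t}
          · rw [inf_eq_left.mpr hall, hE₀]; norm_num
          · obtain ⟨a, haE, hat⟩ := SetLike.not_le_iff_exists.mp hall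
            rw [mem_centralizer_singleton] at hat
            have hidx : ((E₀ ⊓ Subgroup.centralizer {t}).subgroupOf E₀).index = 2 := by
              rw [Subgroup.index_eq_two_iff]
              refine ⟨⟨a, haE⟩, fun b => ?_⟩
              have hK := K a (hET haE) b.1 (hET b.2) hat
              simp only [Subgroup.mem_subgroupOf, Subgroup.mem_inf, mem_centralizer_singleton,
                Subgroup.coe_mul]
              rcases hK with ⟨h1, h2⟩ | ⟨h1, h2⟩
              · left
                exact ⟨⟨E₀.mul_mem b.2 haE, h1⟩, fun h => h2 h.2⟩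
              · right
                exact ⟨⟨b.2, h1⟩, fun h => h2 h.2⟩
            have h1 := Subgroup.card_mul_index ((E₀ ⊓ Subgroup.centralizer {t}).subgroupOf E₀)
            rw [hidx, hE₀, Nat.card_congr (Subgroup.subgroupOfEquivOfLe
              (inf_le_left : E₀ ⊓ Subgroup.centralizer {t} ≤ E₀)).toEquiv] at h1
            omega
        have hDU : ¬ E₀ ⊓ Subgroup.centralizer {t} ≤ Subgroup.zpowers z ⊔ Subgroup.zpowers t := by
          intro hle
          have h1 : E₀ ⊓ Subgroup.centralizer {t} = Subgroup.zpowers z ⊔ Subgroup.zpowers t :=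
            Subgroup.eq_of_le_of_card_ge hle (by rw [hU4]; exact hD4)
          exact hUE (h1 ▸ inf_le_left)
        obtain ⟨d, hdD, hdU⟩ := SetLike.not_le_iff_exists.mp hDU
        have hdE : d ∈ E₀ := hdD.1
        have hdt : t * d = d * t := mem_centralizer_singleton.mp hdD.2
        have hdT : d ∈ T := hET hdE
        have hUd := hUcent d hdT hdt.symm
        obtain ⟨hc8, hexp8⟩ := sup_zpowers_card (Subgroup.zpowers z ⊔ Subgroup.zpowers t) hUexp d
          (hexp₀ d hdE) hdU (fun u hu => (mem_centralizer_singleton.mp (hUd hu)).symm)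
        refine ⟨(Subgroup.zpowers z ⊔ Subgroup.zpowers t) ⊔ Subgroup.zpowers d, ?_,
          by rw [hc8, hU4], hexp8⟩
        apply sup_le hUy
        rw [Subgroup.zpowers_le, mem_centralizer_singleton]
        exact (mem_centralizer_singleton.mp (hUd hyU)).symm
    · obtain ⟨hc8, hexp8⟩ := sup_zpowers_card (Subgroup.zpowers z ⊔ Subgroup.zpowers t) hUexp y
        hy2 hyU hUy'
      refine ⟨(Subgroup.zpowers z ⊔ Subgroup.zpowers t) ⊔ Subgroup.zpowers y, ?_,
        by rw [hc8, hU4], hexp8⟩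
      apply sup_le hUy
      rw [Subgroup.zpowers_le, mem_centralizer_singleton]
  -- Claim B: every involution of `T` is conjugate into `C_T(t)` (Thompson transfer)
  have claimB : ∀ y : G, orderOf y = 2 → y ∈ T →
      ∃ g : G, g * y * g⁻¹ ∈ T ∧ (g * y * g⁻¹) * t = t * (g * y * g⁻¹) := by
    intro y hy hyT
    by_cases hyt : y * t = t * y
    · exact ⟨1, by simpa using hyT, by simpa using hyt⟩
    · have hyt' : ¬ (t * y = y * t) := fun h => hyt h.symm
      have hrel : ((T : Subgroup G) ⊓ Subgroup.centralizer {t}).relIndex (T : Subgroup G) = 2 := by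
        rw [Subgroup.relIndex, Subgroup.index_eq_two_iff]
        refine ⟨⟨y, hyT⟩, fun b => ?_⟩
        have hK := K y hyT b.1 b.2 hyt'
        simp only [Subgroup.mem_subgroupOf, Subgroup.mem_inf, mem_centralizer_singleton,
          Subgroup.coe_mul]
        rcases hK with ⟨h1, h2⟩ | ⟨h1, h2⟩
        · left
          exact ⟨⟨(T : Subgroup G).mul_mem b.2 hyT, h1⟩, fun h => h2 h.2⟩
        · right
          exact ⟨⟨b.2, h1⟩, fun h => h2 h.2⟩
      have hyM : y ∉ (T : Subgroup G) ⊓ Subgroup.centralizer {t} := by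
        intro h
        exact hyt' (mem_centralizer_singleton.mp h.2)
      rcases Cfsg.Agent.S0111.result T ((T : Subgroup G) ⊓ Subgroup.centralizer {t}) inf_le_left
        hrel y hy hyT hyM with ⟨N, _, hN, _⟩ | ⟨g, hg⟩
      · exact absurd hN (hno N)
      · exact ⟨g, hg.1, (mem_centralizer_singleton.mp hg.2).symm⟩
  -- conclusion
  obtain ⟨g₁, hg₁⟩ := Cfsg.Agent.Lib.helper26.exists_conj_mem_sylow T x
    ⟨1, by rw [pow_one]; exact inv_sq hx⟩
  obtain ⟨g₂, hg₂T, hg₂t⟩ := claimB (g₁ * x * g₁⁻¹) (orderOf_conj_two hx g₁) hg₁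
  exact conj_red x g₁ (conj_red (g₁ * x * g₁⁻¹) g₂
    (claimA _ (orderOf_conj_two (orderOf_conj_two hx g₁) g₂) hg₂T hg₂t))

end Cfsg.Agent.S0221
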