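import Cfsg.Statements.S0223
import Cfsg.Agent.Lib.helper6.Inv

set_option autoImplicit false
open Cfsg

namespace Cfsg.Agent.S0223

open Cfsg.Agent.Lib.helper6

theorem key {G : Type*} [Group G] [Finite G] (H : Subgroup G) (h : Cfsg.IsStronglyEmbedded H)
    (g s : G) (hs : orderOf s = 2) (hsH : s ∈ H) (hs' : g⁻¹ * s * g ∈ H) : g ∈ H := by
  by_contra hg
  have hodd := h.2.2 g hg
  have hmem : s ∈ H ⊓ H.map (MulAut.conj g).toMonoidHom :=
    ⟨hsH, (mem_map_conj_iff' H g s).2 hs'⟩
  exact (Nat.not_even_iff_odd.2 hodd) (even_card_of_mem_involution _ hs hmem)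

/-- Let H be a proper subgroup of even order of the finite group G. Then H is strongly embedded if and only if (i) C_G(t) ≤ H for every involution t of H and (ii) H controls fusion of its involutions: involutions of H conjugate in G are conjugate in H. -/
theorem result {G : Type*} [Group G] [Finite G] (H : Subgroup G) (hH : H ≠ ⊤) (heven : Even (Nat.card H)) : Cfsg.IsStronglyEmbedded H ↔ ((∀ t ∈ H, orderOf t = 2 → Subgroup.centralizer ({t} : Set G) ≤ H) ∧ (∀ t ∈ H, ∀ s ∈ H, orderOf t = 2 → orderOf s = 2 → IsConj t s → ∃ h ∈ H, h * t * h⁻¹ = s)) := by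
  constructor
  · intro h
    refine ⟨?_, ?_⟩
    · intro t htH ht c hc
      rw [Subgroup.mem_centralizer_iff] at hc
      have h1 := hc t rfl
      apply key H h c t ht htH
      have : c⁻¹ * t * c = t := by
        rw [mul_assoc, h1]; group
      rw [this]; exact htH
    · intro t htH s hsH ht hs hconj
      obtain ⟨c, hc⟩ := isConj_iff.1 hconj
      refine ⟨c, ?_, hc⟩
      apply key H h c s hs hsH
      rw [← hc]
      have : c⁻¹ * (c * t * c⁻¹) * c = t := by group
      rw [this]; exact htH
  · rintro ⟨h1, h2⟩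
    refine ⟨hH, heven, ?_⟩
    intro g hg
    by_contra hodd
    rw [Nat.not_odd_iff_even] at hodd
    obtain ⟨s, hsmem, hs⟩ := exists_involution_mem_of_even _ hodd
    obtain ⟨hsH, hsmap⟩ := Subgroup.mem_inf.1 hsmem
    rw [mem_map_conj_iff] at hsmap
    obtain ⟨t, htH, hts⟩ := hsmap
    have ht : orderOf t = 2 := by
      have := orderOf_conj_two hs g⁻¹
      rw [← hts] at this
      have e : g⁻¹ * (g * t * g⁻¹) * g⁻¹⁻¹ = t := by group
      rw [e] at this; exact this
    obtain ⟨h, hhH, hh⟩ := h2 t htH s hsH ht hs (isConj_iff.2 ⟨g, hts⟩)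
    have hcen : h⁻¹ * g ∈ Subgroup.centralizer ({t} : Set G) := by
      rw [Subgroup.mem_centralizer_iff]
      intro x hx
      rw [Set.mem_singleton_iff] at hx
      subst hx
      have e1 : g * x * g⁻¹ = h * x * h⁻¹ := by rw [hts, hh]
      have e2 : x * (h⁻¹ * g) = h⁻¹ * (h * x * h⁻¹) * g := by group
      rw [e2, ← e1]; group
    have := h1 t htH ht hcen
    apply hg
    have e3 : g = h * (h⁻¹ * g) := by group
    rw [e3]
    exact H.mul_mem hhH this

end Cfsg.Agent.S0223
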