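import Cfsg.Statements.S0224
import Cfsg.Agent.Lib.helper6.Inv

set_option autoImplicit false
open Cfsg

namespace Cfsg.Agent.S0224

open Cfsg.Agent.Lib.helper6

theorem key {G : Type*} [Group G] [Finite G] (H : Subgroup G) (h : Cfsg.IsStronglyEmbedded H)
    (g s : G) (hs : orderOf s = 2) (hsH : s ∈ H) (hs' : g⁻¹ * s * g ∈ H) : g ∈ H := by
  by_contra hg
  have hodd := h.2.2 g hg
  have hmem : s ∈ H ⊓ H.map (MulAut.conj g).toMonoidHom :=
    ⟨hsH, (mem_map_conj_iff' H g s).2 hs'⟩
  exact (Nat.not_even_iff_odd.2 hodd) (even_card_of_mem_involution _ hs hmem)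

theorem fix_iff {G : Type*} [Group G] (H : Subgroup G) (t g : G) :
    t • (g : G ⧸ H) = (g : G ⧸ H) ↔ g⁻¹ * t * g ∈ H := by
  rw [MulAction.Quotient.smul_mk, QuotientGroup.eq]
  constructor
  · intro h
    have := H.inv_mem h
    have e : ((t • g)⁻¹ * g)⁻¹ = g⁻¹ * t * g := by
      simp [smul_eq_mul, mul_assoc]
    rw [e] at this; exact this
  · intro h
    have := H.inv_mem h
    have e : (g⁻¹ * t * g)⁻¹ = (t • g)⁻¹ * g := by
      simp [smul_eq_mul, mul_assoc]
    rw [e] at this; exact this

/-- Let H be a proper subgroup of even order of the finite group G. Then H is strongly embedded if and only if each involution of H fixes exactly one point (namely the coset H) in the action of G on the cosets of H. -/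
theorem result {G : Type*} [Group G] [Finite G] (H : Subgroup G) (hH : H ≠ ⊤) (heven : Even (Nat.card H)) : Cfsg.IsStronglyEmbedded H ↔ ∀ t ∈ H, orderOf t = 2 → Nat.card {c : G ⧸ H // t • c = c} = 1 := by
  constructor
  · intro h t htH ht
    rw [Nat.card_eq_one_iff_unique]
    refine ⟨⟨?_⟩, ⟨⟨((1 : G) : G ⧸ H), ?_⟩⟩⟩
    · rintro ⟨a, ha⟩ ⟨b, hb⟩
      have aux : ∀ c : G ⧸ H, t • c = c → c = ((1 : G) : G ⧸ H) := by
        intro c hc
        induction c using QuotientGroup.induction_on with
        | H g =>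
          rw [fix_iff] at hc
          have hg := key H h g t ht htH hc
          rw [eq_comm, QuotientGroup.eq]
          simpa using hg
      apply Subtype.ext
      show a = b
      rw [aux a ha, aux b hb]
    · rw [fix_iff]; simpa using htH
  · intro h
    refine ⟨hH, heven, ?_⟩
    intro g hg
    by_contra hodd
    rw [Nat.not_odd_iff_even] at hodd
    obtain ⟨s, hsmem, hs⟩ := exists_involution_mem_of_even _ hodd
    obtain ⟨hsH, hsmap⟩ := Subgroup.mem_inf.1 hsmem
    rw [mem_map_conj_iff'] at hsmap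
    have hcard := h s hsH hs
    rw [Nat.card_eq_one_iff_unique] at hcard
    obtain ⟨hsub, -⟩ := hcard
    have h1 : s • ((1 : G) : G ⧸ H) = ((1 : G) : G ⧸ H) := by
      rw [fix_iff]; simpa using hsH
    have h2 : s • ((g : G) : G ⧸ H) = ((g : G) : G ⧸ H) := by
      rw [fix_iff]; exact hsmap
    have h3 := @Subsingleton.elim _ hsub ⟨_, h1⟩ ⟨_, h2⟩
    have h4 : ((1 : G) : G ⧸ H) = ((g : G) : G ⧸ H) := congrArg Subtype.val h3
    rw [QuotientGroup.eq] at h4
    apply hg
    simpa using h4

end Cfsg.Agent.S0224
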