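import Cfsg.Statements.S0226
import Cfsg.Agent.Lib.helper6.Inv

set_option autoImplicit false
open Cfsg

namespace Cfsg.Agent.S0226

open Cfsg.Agent.Lib.helper6

/-- A finite group of even order has an odd number of involutions. -/
theorem result {G : Type*} [Group G] [Finite G] (heven : Even (Nat.card G)) : Odd (Nat.card {t : G // orderOf t = 2}) := by
  classical
  haveI : Fintype G := Fintype.ofFinite G
  haveI : Fact (Nat.Prime 2) := ⟨Nat.prime_two⟩
  let f : Function.End G := fun g => g⁻¹
  have hf : f ^ 2 ^ 1 = 1 := by
    funext g
    show (f * f ^ 1) g = g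
    rw [pow_one]
    show (g⁻¹)⁻¹ = g
    simp
  have h1 := Equiv.Perm.card_fixedPoints_modEq (p := 2) (n := 1) hf
  -- fixed points are 1 together with the involutions
  have e : Function.fixedPoints f ≃ Option {t : G // orderOf t = 2} :=
    { toFun := fun x => if h : (x : G) = 1 then none else some ⟨x, by
        have hx : (x : G)⁻¹ = x := x.2
        exact orderOf_two_of_inv_eq hx h⟩
      invFun := fun o => match o with
        | none => ⟨1, by simp [Function.IsFixedPt, f, Function.fixedPoints]⟩
        | some t => ⟨t.1, by
            show (t.1 : G)⁻¹ = t.1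
            exact inv_eq_self t.2⟩
      left_inv := by
        intro x
        by_cases h : (x : G) = 1
        · simp [h]; exact Subtype.ext h.symm
        · simp [h]
      right_inv := by
        intro o
        cases o with
        | none => simp
        | some t =>
          have : (t.1 : G) ≠ 1 := inv_ne_one t.2
          simp [this] }
  have h2 : Fintype.card (Function.fixedPoints f) = Nat.card {t : G // orderOf t = 2} + 1 := by
    rw [Fintype.card_congr e, Fintype.card_option, Nat.card_eq_fintype_card]
  rw [h2, ← Nat.card_eq_fintype_card] at h1
  have h3 : Even (Nat.card {t : G // orderOf t = 2} + 1) := by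
    rw [Nat.even_iff] at heven ⊢
    have h1' : Nat.card G % 2 = (Nat.card {t : G // orderOf t = 2} + 1) % 2 := h1
    rw [← h1', heven]
  rcases Nat.even_or_odd (Nat.card {t : G // orderOf t = 2}) with h | h
  · exfalso
    rw [Nat.even_add_one] at h3
    exact h3 h
  · exact h

end Cfsg.Agent.S0226
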