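import Cfsg.Statements.S0229
import Cfsg.Agent.Lib.helper6.Dihedral

set_option autoImplicit false
open Cfsg

namespace Cfsg.Agent.S0229

open Cfsg.Agent.Lib.helper6

/-- Let t be an involution of a Sylow 2-subgroup S of a finite group G, conjugate in G to no other element of S, and let s be an involution of G not conjugate to t. Then the order of st is twice an odd number. -/
theorem result {G : Type*} [Group G] [Finite G] (S : Sylow 2 G) (t : G) (ht : orderOf t = 2) (htS : t ∈ S) (hiso : ∀ g : G, g * t * g⁻¹ ∈ S → g * t * g⁻¹ = t) (s : G) (hs : orderOf s = 2) (hns : ¬ IsConj s t) : orderOf (s * t) % 4 = 2 := by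
  haveI : Fact (Nat.Prime 2) := ⟨Nat.prime_two⟩
  rcases Nat.even_or_odd (orderOf (s * t)) with he | ho
  swap
  · exact absurd (isConj_of_odd_orderOf_mul hs ht ho) hns
  obtain ⟨k, hk⟩ := he
  have hk0 : 0 < k := by
    have := orderOf_pos (s * t)
    omega
  have hk2 : orderOf (s * t) = 2 * k := by rw [hk]; ring
  rcases Nat.even_or_odd k with hke | hko
  swap
  · obtain ⟨j, hj⟩ := hko
    rw [hk2, hj]; omega
  exfalso
  obtain ⟨m, hm⟩ := hke
  obtain ⟨hz, hzs, hzt⟩ := central_involution_of_even hs ht hk2 hk0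
  -- t' = (s*t)^m * t * ((s*t)^m)⁻¹ = (s*t)^k * t
  have hconj := conj_by_pow (inv_right_inverts hs ht) m
  have hmk : 2 * m = k := by omega
  rw [hmk] at hconj
  -- t and z * t commute and are involutions
  have hzt2 : orderOf ((s * t) ^ k * t) = 2 := by
    rw [← hconj]; exact orderOf_conj_two ht _
  have hcomm : Commute t ((s * t) ^ k * t) := by
    show t * ((s * t) ^ k * t) = (s * t) ^ k * t * t
    rw [← mul_assoc, hzt.eq]
  obtain ⟨P, htP, htP'⟩ := exists_sylow_of_commute ht hzt2 hcomm
  obtain ⟨g, hg⟩ := MulAction.exists_smul_eq G P S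
  have h1 : g * t * g⁻¹ ∈ S := by
    rw [← hg]
    have : g * t * g⁻¹ = MulAut.conj g • t := by simp [MulAut.conj_apply]
    rw [this]
    exact Subgroup.smul_mem_pointwise_smul _ _ _ htP
  have h2 : g * ((s * t) ^ k * t) * g⁻¹ ∈ S := by
    rw [← hg]
    have : g * ((s * t) ^ k * t) * g⁻¹ = MulAut.conj g • ((s * t) ^ k * t) := by
      simp [MulAut.conj_apply]
    rw [this]
    exact Subgroup.smul_mem_pointwise_smul _ _ _ htP'
  have h3 := hiso g h1
  have h4 : g * ((s * t) ^ k * t) * g⁻¹ = (g * (s * t) ^ m) * t * (g * (s * t) ^ m)⁻¹ := by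
    rw [← hconj]; group
  rw [h4] at h2
  have h5 := hiso _ h2
  have h5' : g * ((s * t) ^ k * t) * g⁻¹ = g * t * g⁻¹ := (h4.trans h5).trans h3.symm
  have h6 : (s * t) ^ k * t = t := by
    have h8 := mul_right_cancel h5'
    exact mul_left_cancel h8
  have h7 : (s * t) ^ k = 1 := by
    have := congrArg (fun x => x * t⁻¹) h6
    simpa using this
  exact inv_ne_one hz h7

end Cfsg.Agent.S0229
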