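import Cfsg.Statements.S0230
import Cfsg.Agent.Lib.helper6.Dihedral

set_option autoImplicit false
open Cfsg

namespace Cfsg.Agent.S0230

open Cfsg.Agent.Lib.helper6

/-- Let G be a finite group with two non-conjugate involutions, and let t be an involution whose centralizer has maximal order among centralizers of involutions. Then |G| < |C_G(t)|^3. -/
theorem result {G : Type*} [Group G] [Finite G] (s t : G) (hs : orderOf s = 2) (ht : orderOf t = 2) (hnc : ¬ IsConj s t) (hmax : ∀ u : G, orderOf u = 2 → Nat.card (Subgroup.centralizer ({u} : Set G)) ≤ Nat.card (Subgroup.centralizer ({t} : Set G))) : Nat.card G < Nat.card (Subgroup.centralizer ({t} : Set G)) ^ 3 := by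
  classical
  set c := Nat.card (Subgroup.centralizer ({t} : Set G)) with hc
  have hcpos : 0 < c := Nat.card_pos
  -- for each conjugate v of t pick an involution commuting with s and v
  have hex : ∀ v : {v : G // IsConj t v}, ∃ z : G, orderOf z = 2 ∧ Commute z s ∧ Commute z v.1 := by
    intro v
    obtain ⟨g, hg⟩ := isConj_iff.1 v.2
    have hv : orderOf v.1 = 2 := by rw [← hg]; exact orderOf_conj_two ht g
    have hnv : ¬ IsConj s v.1 := fun h => hnc (h.trans v.2.symm)
    exact exists_central_involution_of_not_isConj hs hv hnv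
  choose z hz using hex
  haveI : Fintype {z : G // orderOf z = 2 ∧ Commute z s} := Fintype.ofFinite _
  let f : {v : G // IsConj t v} →
      (Σ z : {z : G // orderOf z = 2 ∧ Commute z s}, Subgroup.centralizer ({z.1} : Set G)) :=
    fun v => ⟨⟨z v, (hz v).1, (hz v).2.1⟩, ⟨v.1, by
      rw [Subgroup.mem_centralizer_singleton_iff]
      exact (hz v).2.2.eq.symm⟩⟩
  have hf : Function.Injective f := by
    intro v w hvw
    have := congrArg (fun p : (Σ z : {z : G // orderOf z = 2 ∧ Commute z s},
      Subgroup.centralizer ({z.1} : Set G)) => (p.2 : G)) hvw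
    exact Subtype.ext this
  have h1 : Nat.card {v : G // IsConj t v} ≤
      Nat.card (Σ z : {z : G // orderOf z = 2 ∧ Commute z s},
        Subgroup.centralizer ({z.1} : Set G)) :=
    Nat.card_le_card_of_injective f hf
  rw [Nat.card_sigma] at h1
  have h2 : ∑ a : {z : G // orderOf z = 2 ∧ Commute z s},
      Nat.card (Subgroup.centralizer ({a.1} : Set G)) ≤
      Fintype.card {z : G // orderOf z = 2 ∧ Commute z s} * c := by
    have := Finset.sum_le_card_nsmul (Finset.univ : Finset {z : G // orderOf z = 2 ∧ Commute z s})
      (fun a => Nat.card (Subgroup.centralizer ({a.1} : Set G))) c (fun a _ => hmax a.1 a.2.1)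
    simpa using this
  have h3 := card_comm_involutions_add_one_le s
  rw [Nat.card_eq_fintype_card] at h3
  have h4 := hmax s hs
  have h5 := card_conj_mul_card_centralizer t
  rw [← hc] at h5
  have h6 : Fintype.card {z : G // orderOf z = 2 ∧ Commute z s} + 1 ≤ c := le_trans h3 h4
  have h7 : Nat.card {v : G // IsConj t v} ≤ (c - 1) * c :=
    le_trans h1 (le_trans h2 (Nat.mul_le_mul_right c (by omega)))
  rw [← h5]
  calc Nat.card {v : G // IsConj t v} * c ≤ (c - 1) * c * c := Nat.mul_le_mul_right c h7
    _ < c * c * c := by
      apply Nat.mul_lt_mul_of_pos_right _ hcpos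
      apply Nat.mul_lt_mul_of_pos_right _ hcpos
      omega
    _ = c ^ 3 := by ring

end Cfsg.Agent.S0230
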