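import Cfsg.Statements.S0231
import Cfsg.Agent.Lib.helper6.Dihedral

set_option autoImplicit false
open scoped Pointwise
open Cfsg

namespace Cfsg.Agent.S0231

open Cfsg.Agent.Lib.helper6

open scoped Pointwise

theorem mem_conj_smul_iff {G : Type*} [Group G] (H : Subgroup G) (g x : G) :
    x ∈ MulAut.conj g • H ↔ g⁻¹ * x * g ∈ H := by
  rw [Subgroup.mem_pointwise_smul_iff_inv_smul_mem]
  simp [MulAut.smul_def, MulAut.conj_symm_apply]

theorem mem_smul_sylow_iff {G : Type*} [Group G] (P : Sylow 2 G) (g x : G) :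
    x ∈ (g • P : Sylow 2 G) ↔ g⁻¹ * x * g ∈ P :=
  mem_conj_smul_iff (P : Subgroup G) g x

theorem ti_all {G : Type*} [Group G] [Finite G] (T : Sylow 2 G)
    (hTI : ∀ g : G, MulAut.conj g • (T : Subgroup G) ≠ T → MulAut.conj g • (T : Subgroup G) ⊓ T = ⊥)
    (P Q : Sylow 2 G) (x : G) (hx : x ≠ 1) (hxP : x ∈ P) (hxQ : x ∈ Q) : P = Q := by
  haveI : Fact (Nat.Prime 2) := ⟨Nat.prime_two⟩
  obtain ⟨a, rfl⟩ := MulAction.exists_smul_eq G T P
  obtain ⟨b, rfl⟩ := MulAction.exists_smul_eq G T Q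
  by_contra hne
  have h1 : MulAut.conj (a⁻¹ * b) • (T : Subgroup G) ≠ T := by
    intro h
    apply hne
    have h2 : (a⁻¹ * b) • T = T := Sylow.ext h
    rw [mul_smul] at h2
    exact (inv_smul_eq_iff.1 h2).symm
  have h3 := hTI _ h1
  rw [mem_smul_sylow_iff] at hxP hxQ
  have h4 : a⁻¹ * x * a ∈ MulAut.conj (a⁻¹ * b) • (T : Subgroup G) ⊓ T := by
    refine ⟨?_, hxP⟩
    show a⁻¹ * x * a ∈ MulAut.conj (a⁻¹ * b) • (T : Subgroup G)
    rw [mem_conj_smul_iff]
    have : (a⁻¹ * b)⁻¹ * (a⁻¹ * x * a) * (a⁻¹ * b) = b⁻¹ * x * b := by group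
    rw [this]; exact hxQ
  rw [h3, Subgroup.mem_bot] at h4
  apply hx
  have : x = a * (a⁻¹ * x * a) * a⁻¹ := by group
  rw [this, h4]; group

/-- Let T be a Sylow 2-subgroup of the finite group G which is not normal and which intersects every other Sylow 2-subgroup trivially. Then G has a single conjugacy class of involutions. -/
theorem result {G : Type*} [Group G] [Finite G] (T : Sylow 2 G) (hnn : ¬ (T : Subgroup G).Normal) (hTI : ∀ g : G, MulAut.conj g • (T : Subgroup G) ≠ T → MulAut.conj g • (T : Subgroup G) ⊓ T = ⊥) (s t : G) (hs : orderOf s = 2) (ht : orderOf t = 2) : IsConj s t := by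
  haveI : Fact (Nat.Prime 2) := ⟨Nat.prime_two⟩
  by_contra hns
  -- non-conjugate involutions lie in a common Sylow 2-subgroup
  have key : ∀ u v : G, orderOf u = 2 → orderOf v = 2 → ¬ IsConj u v →
      ∃ P : Sylow 2 G, u ∈ P ∧ v ∈ P := by
    intro u v hu hv huv
    obtain ⟨z, hz, hzu, hzv⟩ := exists_central_involution_of_not_isConj hu hv huv
    obtain ⟨P₁, hzP₁, huP₁⟩ := exists_sylow_of_commute hz hu hzu
    obtain ⟨P₂, hzP₂, hvP₂⟩ := exists_sylow_of_commute hz hv hzv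
    have := ti_all T hTI P₁ P₂ z (inv_ne_one hz) hzP₁ hzP₂
    subst this
    exact ⟨P₁, huP₁, hvP₂⟩
  obtain ⟨P, hsP, htP⟩ := key s t hs ht hns
  have hex : ∃ c : G, c • P ≠ P := by
    by_contra hall
    push Not at hall
    apply hnn
    have hPn : Subgroup.normalizer ((P : Subgroup G) : Set G) = ⊤ := by
      rw [eq_top_iff]
      intro c _
      exact Sylow.smul_eq_iff_mem_normalizer.1 (hall c)
    have hPnormal : (P : Subgroup G).Normal := Subgroup.normalizer_eq_top_iff.1 hPn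
    obtain ⟨a, ha⟩ := MulAction.exists_smul_eq G P T
    rw [hall a] at ha
    rw [← ha]; exact hPnormal
  obtain ⟨c, hc⟩ := hex
  have hs' : orderOf (c * s * c⁻¹) = 2 := orderOf_conj_two hs c
  have hs'Q : c * s * c⁻¹ ∈ (c • P : Sylow 2 G) := by
    rw [mem_smul_sylow_iff]
    have : c⁻¹ * (c * s * c⁻¹) * c = s := by group
    rw [this]; exact hsP
  have hns' : ¬ IsConj (c * s * c⁻¹) t := fun h => hns ((isConj_iff.2 ⟨c, rfl⟩).trans h)
  obtain ⟨P', hs'P', htP'⟩ := key _ t hs' ht hns'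
  have e1 := ti_all T hTI P' P t (inv_ne_one ht) htP' htP
  have e2 := ti_all T hTI P' (c • P) _ (inv_ne_one hs') hs'P' hs'Q
  exact hc (e2.symm.trans e1)

end Cfsg.Agent.S0231
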