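import Cfsg.Statements.S0232
import Cfsg.Agent.Lib.helper6.BrauerFowler
import Cfsg.Agent.Lib.helper6.IndexTwo

set_option autoImplicit false
open Cfsg

namespace Cfsg.Agent.S0232

open Cfsg.Agent.Lib.helper6

universe u

theorem of_index_two {G : Type*} [Group G] [Finite G] (H : Subgroup G) (h : H.index = 2)
    (hgt : 2 < Nat.card G) : H ≠ ⊤ ∧ Nat.card G < Nat.card H ^ 3 := by
  have h1 := Subgroup.card_mul_index H
  rw [h] at h1
  refine ⟨fun ht => by rw [ht, Subgroup.index_top] at h; omega, ?_⟩
  have h2 : 2 ≤ Nat.card H := by omega
  rw [← h1]
  have h3 : 2 * 2 ≤ Nat.card H * Nat.card H := Nat.mul_le_mul h2 h2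
  nlinarith [h3, h2]

theorem aux : ∀ (n : ℕ) (G : Type u) [Group G] [Finite G], Nat.card G = n → Even n → 2 < n →
    ∃ H : Subgroup G, H ≠ ⊤ ∧ Nat.card G < (Nat.card H) ^ 3 := by
  intro n
  induction n using Nat.strong_induction_on with
  | _ n ih =>
    intro G _ _ hn heven hgt
    haveI : Fact (Nat.Prime 2) := ⟨Nat.prime_two⟩
    have hevenG : Even (Nat.card G) := hn ▸ heven
    have hgtG : 2 < Nat.card G := hn ▸ hgt
    by_cases hcz : ∃ z : G, orderOf z = 2 ∧ z ∈ Subgroup.center G
    · obtain ⟨z, hz2, hz⟩ := hcz
      have hNnormal : (Subgroup.zpowers z).Normal := by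
        constructor
        intro a ha g
        have hac : a ∈ Subgroup.center G := (Subgroup.zpowers_le.2 hz) ha
        have : g * a * g⁻¹ = a := by
          rw [(Subgroup.mem_center_iff.1 hac g)]; group
        rw [this]; exact ha
      have hNcard : Nat.card (Subgroup.zpowers z) = 2 := by rw [Nat.card_zpowers, hz2]
      have hGQ := Subgroup.card_eq_card_quotient_mul_card_subgroup (Subgroup.zpowers z)
      rw [hNcard] at hGQ
      have hQpos : 0 < Nat.card (G ⧸ Subgroup.zpowers z) := Nat.card_pos
      rcases Nat.even_or_odd (Nat.card (G ⧸ Subgroup.zpowers z)) with hQe | hQo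
      · by_cases hQ2 : Nat.card (G ⧸ Subgroup.zpowers z) = 2
        · refine ⟨Subgroup.zpowers z, ?_, ?_⟩
          · intro htop
            rw [htop, Subgroup.card_top] at hNcard
            omega
          · rw [hNcard, hGQ, hQ2]; norm_num
        · have hQgt : 2 < Nat.card (G ⧸ Subgroup.zpowers z) := by
            obtain ⟨k, hk⟩ := hQe
            omega
          obtain ⟨K, hK, hKlt⟩ := ih (Nat.card (G ⧸ Subgroup.zpowers z)) (by omega)
            (G ⧸ Subgroup.zpowers z) rfl hQe hQgt
          have hsurj : Function.Surjective (QuotientGroup.mk' (Subgroup.zpowers z)) :=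
            QuotientGroup.mk'_surjective _
          refine ⟨K.comap (QuotientGroup.mk' (Subgroup.zpowers z)), ?_, ?_⟩
          · intro htop
            apply hK
            apply Subgroup.comap_injective hsurj
            rw [htop, Subgroup.comap_top]
          · have hidx := Subgroup.index_comap_of_surjective K hsurj
            have h1 := Subgroup.card_mul_index (K.comap (QuotientGroup.mk' (Subgroup.zpowers z)))
            have h2 := Subgroup.card_mul_index K
            rw [hidx] at h1
            have hKidx : 0 < K.index := Nat.pos_of_ne_zero Subgroup.index_ne_zero_of_finite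
            have h3 : Nat.card (K.comap (QuotientGroup.mk' (Subgroup.zpowers z))) =
                2 * Nat.card K := by
              have : Nat.card (K.comap (QuotientGroup.mk' (Subgroup.zpowers z))) * K.index =
                  2 * Nat.card K * K.index := by
                rw [h1, hGQ, ← h2]; ring
              exact Nat.eq_of_mul_eq_mul_right hKidx this
            rw [h3, hGQ]
            have hKpos : 0 < Nat.card K := Nat.card_pos
            nlinarith [hKlt, hKpos]
      · -- |G| = 2 * odd: Sylow 2-subgroup of order 2 is cyclic
        obtain ⟨T⟩ : Nonempty (Sylow 2 G) := inferInstance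
        have hTcard := T.card_eq_multiplicity
        have hfac : (Nat.card G).factorization 2 = 1 := by
          rw [hGQ, Nat.factorization_mul hQpos.ne' (by norm_num)]
          have h0 : (Nat.card (G ⧸ Subgroup.zpowers z)).factorization 2 = 0 :=
            Nat.factorization_eq_zero_of_not_dvd (fun h => (Nat.not_even_iff_odd.2 hQo)
              (even_iff_two_dvd.2 h))
          simp [h0, Nat.prime_two.factorization_self]
        rw [hfac, pow_one] at hTcard
        have hTcyc : IsCyclic T := isCyclic_of_prime_card hTcard
        obtain ⟨H, hH⟩ := exists_index_two_of_cyclic_sylow T hTcyc hevenG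
        exact ⟨H, of_index_two H hH hgtG⟩
    · have hcen : ∀ t : G, orderOf t = 2 → t ∉ Subgroup.center G :=
        fun t ht htc => hcz ⟨t, ht, htc⟩
      haveI := nontrivial_of_even_card hevenG
      obtain ⟨H, hH, hmin⟩ := exists_min_index (G := G)
      by_cases h2 : H.index = 2
      · exact ⟨H, of_index_two H h2 hgtG⟩
      have hb : 3 ≤ H.index := three_le_index_of_ne_two H hH h2
      have hcore := brauer_fowler_core H.index hb hmin hcen
      refine ⟨H, hH, ?_⟩
      by_contra hcon
      push Not at hcon
      have hHb := Subgroup.card_mul_index H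
      have hHpos : 0 < Nat.card H := Nat.card_pos
      -- m ≥ b
      obtain ⟨t, ht⟩ := exists_involution_of_even hevenG
      have hCne : Subgroup.centralizer ({t} : Set G) ≠ ⊤ := by
        intro h
        apply hcen t ht
        rw [Subgroup.mem_center_iff]
        intro g
        have : g ∈ Subgroup.centralizer ({t} : Set G) := h ▸ Subgroup.mem_top g
        rw [Subgroup.mem_centralizer_singleton_iff] at this
        exact this
      have hbC := hmin _ hCne
      have hconj := card_conj_mul_card_centralizer t
      have hCidx := Subgroup.card_mul_index (Subgroup.centralizer ({t} : Set G))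
      have hCpos : 0 < Nat.card (Subgroup.centralizer ({t} : Set G)) := Nat.card_pos
      have hconjcard : Nat.card {v : G // IsConj t v} =
          (Subgroup.centralizer ({t} : Set G)).index := by
        have : Nat.card (Subgroup.centralizer ({t} : Set G)) * Nat.card {v : G // IsConj t v} =
            Nat.card (Subgroup.centralizer ({t} : Set G)) *
              (Subgroup.centralizer ({t} : Set G)).index := by
          rw [hCidx, mul_comm, hconj]
        exact Nat.eq_of_mul_eq_mul_left hCpos this
      have hmge : Nat.card {v : G // IsConj t v} ≤ Nat.card {t : G // orderOf t = 2} := by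
        apply Nat.card_le_card_of_injective
          (fun v : {v : G // IsConj t v} => (⟨v.1, by
            obtain ⟨g, hg⟩ := isConj_iff.1 v.2
            rw [← hg]; exact orderOf_conj_two ht g⟩ : {t : G // orderOf t = 2}))
        intro v w hvw
        have h' : v.1 = w.1 := congrArg (fun x : {t : G // orderOf t = 2} => x.1) hvw
        exact Subtype.ext h'
      have hbm : H.index ≤ Nat.card {t : G // orderOf t = 2} := by
        rw [hconjcard] at hmge
        exact le_trans hbC hmge
      -- arithmetic
      have hhh : Nat.card H * Nat.card H ≤ H.index := by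
        have : Nat.card H * (Nat.card H * Nat.card H) ≤ Nat.card H * H.index := by
          rw [hHb]
          calc Nat.card H * (Nat.card H * Nat.card H) = Nat.card H ^ 3 := by ring
            _ ≤ Nat.card G := hcon
        exact Nat.le_of_mul_le_mul_left this hHpos
      have hh1 : Nat.card H ≤ H.index :=
        le_trans (Nat.le_mul_of_pos_left _ hHpos) hhh
      have e2 : Nat.card G ≤ H.index * Nat.card {t : G // orderOf t = 2} := by
        rw [← hHb]
        calc Nat.card H * H.index ≤ H.index * H.index := Nat.mul_le_mul_right _ hh1
          _ ≤ H.index * Nat.card {t : G // orderOf t = 2} := Nat.mul_le_mul_left _ hbm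
      have e1 : Nat.card G * Nat.card G ≤
          H.index * (Nat.card {t : G // orderOf t = 2} * Nat.card {t : G // orderOf t = 2}) := by
        rw [← hHb]
        calc Nat.card H * H.index * (Nat.card H * H.index)
            = (Nat.card H * Nat.card H) * (H.index * H.index) := by ring
          _ ≤ H.index * (H.index * H.index) := Nat.mul_le_mul_right _ hhh
          _ ≤ H.index * (Nat.card {t : G // orderOf t = 2} * Nat.card {t : G // orderOf t = 2}) :=
            Nat.mul_le_mul_left _ (Nat.mul_le_mul hbm hbm)
      have e3 : Nat.card G * Nat.card {t : G // orderOf t = 2} ≤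
          H.index * Nat.card {t : G // orderOf t = 2} * Nat.card {t : G // orderOf t = 2} :=
        Nat.mul_le_mul_right _ e2
      have hGpos : 0 < Nat.card G := Nat.card_pos
      nlinarith [e1, e3, hcore, hGpos]

/-- A finite group G of even order greater than 2 has a proper subgroup H with |G| < |H|^3. -/
theorem result {G : Type*} [Group G] [Finite G] (heven : Even (Nat.card G)) (hgt : 2 < Nat.card G) : ∃ H : Subgroup G, H ≠ ⊤ ∧ Nat.card G < (Nat.card H) ^ 3 := by
  exact aux _ G rfl heven hgt

end Cfsg.Agent.S0232
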