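import Cfsg.Statements.S0234
import Cfsg.Agent.Lib.helper6.BrauerFowler
import Cfsg.Agent.Lib.helper11.SmallSimple
import Cfsg.Agent.Lib.helper21.SimpleIndex

set_option autoImplicit false
open Cfsg

namespace Cfsg.Agent.S0234

open Cfsg.Agent.Lib.helper6

theorem card_inv_A5' :
    Fintype.card {t : alternatingGroup (Fin 5) // t ^ 2 = 1 ∧ t ≠ 1} = 15 := by
  decide +kernel

theorem card_inv_A5 : Nat.card {t : alternatingGroup (Fin 5) // orderOf t = 2} = 15 := by
  rw [← card_inv_A5', ← Nat.card_eq_fintype_card]
  exact Nat.card_congr (Equiv.subtypeEquivRight (fun t => orderOf_two_iff))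

/-- In a finite simple group G of even order greater than 2, the number n of involutions satisfies 3n < |G|. -/
theorem result {G : Type*} [Group G] [Finite G] [IsSimpleGroup G] (heven : Even (Nat.card G)) (hgt : 2 < Nat.card G) : 3 * Nat.card {t : G // orderOf t = 2} < Nat.card G := by
  classical
  -- G is not cyclic, hence not commutative
  have hncyc : ¬ IsCyclic G := by
    intro h
    have hp := Cfsg.Agent.Lib.helper11.prime_card_of_simple_of_isCyclic h
    have : Nat.card G = 2 := (Nat.Prime.even_iff hp).1 heven
    omega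
  have hncomm : ¬ ∀ a b : G, a * b = b * a :=
    fun h => hncyc (Cfsg.Agent.Lib.helper11.isCyclic_of_simple_of_comm h)
  have hcen : ∀ t : G, orderOf t = 2 → t ∉ Subgroup.center G := by
    intro t ht htc
    rcases (inferInstance : (Subgroup.center G).Normal).eq_bot_or_eq_top with h | h
    · rw [h, Subgroup.mem_bot] at htc
      exact inv_ne_one ht htc
    · apply hncomm
      intro a b
      have : a ∈ Subgroup.center G := h ▸ Subgroup.mem_top a
      exact (Subgroup.mem_center_iff.1 this b).symm
  obtain ⟨H, hH, hmin⟩ := exists_min_index (G := G)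
  have h2n := Cfsg.Agent.Lib.helper21.two_mul_card_dvd_factorial_index_of_simple hncomm H hH
  have hb : 3 ≤ H.index := by
    apply three_le_index_of_ne_two H hH
    intro h2
    rw [h2] at h2n
    have := Nat.le_of_dvd (by norm_num) h2n
    norm_num [Nat.factorial] at this
    omega
  have hcore := brauer_fowler_core H.index hb hmin hcen
  by_contra hcon
  push Not at hcon
  have hb5 : H.index ≤ 5 := by
    by_contra h6
    push Not at h6
    have e1 : Nat.card G * Nat.card G ≤
        3 * Nat.card {t : G // orderOf t = 2} * (3 * Nat.card {t : G // orderOf t = 2}) :=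
      Nat.mul_le_mul hcon hcon
    have e2 : Nat.card G * Nat.card {t : G // orderOf t = 2} ≤
        3 * Nat.card {t : G // orderOf t = 2} * Nat.card {t : G // orderOf t = 2} :=
      Nat.mul_le_mul_right _ hcon
    have e3 : 6 * Nat.card {t : G // orderOf t = 2} ^ 2 ≤
        H.index * Nat.card {t : G // orderOf t = 2} ^ 2 := Nat.mul_le_mul_right _ h6
    nlinarith [e1, e2, e3]
  have hn60 : Nat.card G ≤ 60 := by
    have h1 : (H.index).factorial ∣ (5).factorial := Nat.factorial_dvd_factorial hb5
    have h2 : 2 * Nat.card G ∣ 120 := h2n.trans h1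
    have := Nat.le_of_dvd (by norm_num) h2
    omega
  have hn : Nat.card G = 60 :=
    Cfsg.Agent.Lib.helper11.card_eq_sixty_of_le_hundred hncyc (by omega)
  obtain ⟨e⟩ := Cfsg.Agent.Lib.helper11.nonempty_mulEquiv_alternatingGroup_five hn
  have hm : Nat.card {t : G // orderOf t = 2} =
      Nat.card {t : alternatingGroup (Fin 5) // orderOf t = 2} :=
    Nat.card_congr (e.toEquiv.subtypeEquiv (fun t => by
      rw [← MulEquiv.orderOf_eq e t]; rfl))
  rw [hm, card_inv_A5] at hcon
  omega

end Cfsg.Agent.S0234
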