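import Cfsg.Statements.S0239
import Cfsg.Agent.Lib.helper6.Inv

set_option autoImplicit false
open Cfsg

namespace Cfsg.Agent.S0239

open Cfsg.Agent.Lib.helper6

/-- If some nontrivial element x of a finite group G is conjugate to x⁻¹, then |G| is even. -/
theorem result {G : Type*} [Group G] [Finite G] (x : G) (hx : x ≠ 1) (hreal : IsConj x x⁻¹) : Even (Nat.card G) := by
  by_contra hodd
  rw [Nat.not_even_iff_odd] at hodd
  obtain ⟨c, hc⟩ := isConj_iff.1 hreal
  have hn : Odd (orderOf c) := hodd.of_dvd_nat (orderOf_dvd_natCard c)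
  have h1 := inverts_pow_odd hc hn
  rw [pow_orderOf_eq_one] at h1
  have h2 : x = x⁻¹ := by simpa using h1
  have h3 : orderOf x = 2 := orderOf_two_of_inv_eq h2.symm hx
  exact not_involution_of_odd hodd x h3

end Cfsg.Agent.S0239
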