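import Cfsg.Statements.S0240
import Cfsg.Agent.Lib.helper6.Inv

set_option autoImplicit false
open Cfsg

namespace Cfsg.Agent.S0240

open Cfsg.Agent.Lib.helper6

/-- Let G be a finite group with n involutions and H a subgroup with |H|·(n+1) > |G|. Then some nontrivial h ∈ H is strongly real in G: an involution t of G satisfies t h t⁻¹ = h⁻¹. -/
theorem result {G : Type*} [Group G] [Finite G] (H : Subgroup G) (hH : Nat.card G < Nat.card H * (Nat.card {t : G // orderOf t = 2} + 1)) : ∃ h : G, h ∈ H ∧ h ≠ 1 ∧ ∃ t : G, orderOf t = 2 ∧ t * h * t⁻¹ = h⁻¹ := by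
  classical
  let f : Option {t : G // orderOf t = 2} → G ⧸ H := fun o =>
    match o with
    | none => ((1 : G) : G ⧸ H)
    | some t => ((t.1 : G) : G ⧸ H)
  have hcard : Nat.card (G ⧸ H) < Nat.card (Option {t : G // orderOf t = 2}) := by
    rw [Finite.card_option]
    have h1 := Subgroup.card_mul_index H
    rw [← h1] at hH
    have : H.index = Nat.card (G ⧸ H) := rfl
    rw [← this]
    exact lt_of_mul_lt_mul_left hH (Nat.zero_le _)
  haveI : Fintype (G ⧸ H) := Fintype.ofFinite _
  haveI : Fintype (Option {t : G // orderOf t = 2}) := Fintype.ofFinite _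
  rw [Nat.card_eq_fintype_card, Nat.card_eq_fintype_card] at hcard
  obtain ⟨a, b, hab, hfab⟩ := Fintype.exists_ne_map_eq_of_card_lt f hcard
  cases a with
  | none =>
    cases b with
    | none => exact absurd rfl hab
    | some t =>
      have h1 : ((1 : G) : G ⧸ H) = ((t.1 : G) : G ⧸ H) := hfab
      rw [QuotientGroup.eq] at h1
      refine ⟨t.1, by simpa using h1, inv_ne_one t.2, t.1, t.2, ?_⟩
      rw [inv_eq_self t.2, inv_mul_self' t.2, one_mul]
  | some s =>
    cases b with
    | none =>
      have h1 : ((s.1 : G) : G ⧸ H) = ((1 : G) : G ⧸ H) := hfab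
      rw [eq_comm, QuotientGroup.eq] at h1
      refine ⟨s.1, by simpa using h1, inv_ne_one s.2, s.1, s.2, ?_⟩
      rw [inv_eq_self s.2, inv_mul_self' s.2, one_mul]
    | some t =>
      have h1 : ((s.1 : G) : G ⧸ H) = ((t.1 : G) : G ⧸ H) := hfab
      rw [QuotientGroup.eq] at h1
      refine ⟨s.1⁻¹ * t.1, h1, ?_, s.1, s.2, ?_⟩
      · intro h
        apply hab
        have : s.1 = t.1 := by
          have e : t.1 = s.1 * (s.1⁻¹ * t.1) := by group
          rw [e, h, mul_one]
        rw [Subtype.ext this]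
      · rw [mul_inv_rev, inv_inv, inv_eq_self s.2, inv_eq_self t.2]
        have e : s.1 * (s.1 * t.1) * s.1 = (s.1 * s.1) * t.1 * s.1 := by group
        rw [e, inv_mul_self' s.2, one_mul]

end Cfsg.Agent.S0240
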