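import Cfsg.Statements.S0241
import Cfsg.Agent.Lib.helper6.Inv

set_option autoImplicit false
open Cfsg

namespace Cfsg.Agent.S0241

open Cfsg.Agent.Lib.helper6

/-- If x ≠ 1 is conjugate to x⁻¹ in a finite group G and |C_G(x)| is odd, then some involution t satisfies t x t⁻¹ = x⁻¹. -/
theorem result {G : Type*} [Group G] [Finite G] (x : G) (hx : x ≠ 1) (hreal : IsConj x x⁻¹) (hodd : Odd (Nat.card (Subgroup.centralizer ({x} : Set G)))) : ∃ t : G, orderOf t = 2 ∧ t * x * t⁻¹ = x⁻¹ := by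
  obtain ⟨c, hc⟩ := isConj_iff.1 hreal
  have hn0 : orderOf c ≠ 0 := (orderOf_pos c).ne'
  obtain ⟨a, m, hm, hn⟩ := Nat.exists_eq_two_pow_mul_odd hn0
  have ht := inverts_pow_odd hc hm
  -- t = c ^ m
  have hpow : (c ^ m) ^ (2 ^ a) = 1 := by
    rw [← pow_mul, mul_comm, ← hn, pow_orderOf_eq_one]
  -- (c^m)^2 centralizes x
  have hcomm : Commute ((c ^ m) ^ 2) x := commute_sq_of_inverts ht
  have hmem : (c ^ m) ^ 2 ∈ Subgroup.centralizer ({x} : Set G) := by
    rw [Subgroup.mem_centralizer_singleton_iff]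
    exact hcomm.eq
  have hsq : (c ^ m) ^ 2 = 1 := by
    have h1 : orderOf (⟨(c ^ m) ^ 2, hmem⟩ : Subgroup.centralizer ({x} : Set G)) ∣
        Nat.card (Subgroup.centralizer ({x} : Set G)) := orderOf_dvd_natCard _
    rw [Subgroup.orderOf_mk] at h1
    have h2 : orderOf ((c ^ m) ^ 2) ∣ 2 ^ a := by
      apply orderOf_dvd_of_pow_eq_one
      rw [← pow_mul, mul_comm, pow_mul, hpow, one_pow]
    have h3 : Nat.Coprime (2 ^ a) (Nat.card (Subgroup.centralizer ({x} : Set G))) :=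
      Nat.Coprime.pow_left a (Nat.coprime_two_left.2 hodd)
    have h4 : orderOf ((c ^ m) ^ 2) = 1 := Nat.eq_one_of_dvd_coprimes h3 h2 h1
    exact orderOf_eq_one_iff.1 h4
  have hne : c ^ m ≠ 1 := by
    intro h
    rw [h] at ht
    have h2 : x = x⁻¹ := by simpa using ht
    have h3 : orderOf x = 2 := orderOf_two_of_inv_eq h2.symm hx
    have hxmem : x ∈ Subgroup.centralizer ({x} : Set G) := by
      rw [Subgroup.mem_centralizer_singleton_iff]
    have h4 := even_card_of_mem_involution _ h3 hxmem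
    exact (Nat.not_even_iff_odd.2 hodd) h4
  exact ⟨c ^ m, orderOf_two_iff.2 ⟨hsq, hne⟩, ht⟩

end Cfsg.Agent.S0241
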