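import Cfsg.Statements.S0244
import Mathlib

set_option autoImplicit false
open Cfsg

namespace Cfsg.Agent.S0244

theorem det_eq {R : Type*} [CommRing R] (A : Matrix (Fin 1 ⊕ Fin 1) (Fin 1 ⊕ Fin 1) R) :
    A.det = A (Sum.inl 0) (Sum.inl 0) * A (Sum.inr 0) (Sum.inr 0) -
      A (Sum.inl 0) (Sum.inr 0) * A (Sum.inr 0) (Sum.inl 0) := by
  rw [← Matrix.det_reindex_self finSumFinEquiv A, Matrix.det_fin_two]
  rfl

/-- Sp_2 = SL_2: a matrix on Fin 1 ⊕ Fin 1 lies in Mathlib's symplectic group iff its determinant is 1. -/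
theorem result {R : Type*} [CommRing R] (A : Matrix (Fin 1 ⊕ Fin 1) (Fin 1 ⊕ Fin 1) R) : A ∈ Matrix.symplecticGroup (Fin 1) R ↔ A.det = 1 := by
  rw [SymplecticGroup.mem_iff, det_eq]
  have hJ : ∀ i j : Fin 1 ⊕ Fin 1, (A * Matrix.J (Fin 1) R * A.transpose) i j =
      - (A i (Sum.inl 0) * A j (Sum.inr 0)) + A i (Sum.inr 0) * A j (Sum.inl 0) := by
    intro i j
    simp [Matrix.mul_apply, Matrix.J, Matrix.fromBlocks, Matrix.one_apply]
    ring
  constructor
  · intro h
    have h1 := congrFun (congrFun h (Sum.inl 0)) (Sum.inr 0)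
    rw [hJ] at h1
    simp [Matrix.J, Matrix.fromBlocks] at h1
    linear_combination -h1
  · intro h
    ext i j
    rw [hJ]
    rcases i with i | i <;> rcases j with j | j <;>
      (have hi : i = 0 := Subsingleton.elim _ _; have hj : j = 0 := Subsingleton.elim _ _; subst hi hj) <;>
      simp [Matrix.J, Matrix.fromBlocks]
    · ring
    · linear_combination -h
    · linear_combination h
    · ring

end Cfsg.Agent.S0244
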