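import Cfsg.Statements.S0247
import Cfsg.Agent.S0245
import Cfsg.Agent.Lib.helper6.PermMod

set_option autoImplicit false
open Cfsg

namespace Cfsg.Agent.S0247

open Matrix Cfsg.Agent.Lib.helper6

/-- a symplectic basis of (even-weight vectors of `F_2^6`) / (all-ones vector), as columns -/
def Cm : Matrix (Fin 6) (Fin 2 ⊕ Fin 2) (ZMod 2) :=
  Matrix.of fun i => Sum.elim ![![1,1,0,0,0,0] i, ![0,0,0,1,1,0] i]
    ![![0,1,1,0,0,0] i, ![0,0,0,0,1,1] i]

/-- the coordinate functionals -/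
def Bm : Matrix (Fin 2 ⊕ Fin 2) (Fin 6) (ZMod 2) :=
  Matrix.of (Sum.elim ![![0,1,1,0,0,0], ![0,0,0,0,1,1]] ![![1,1,0,0,0,0], ![0,0,0,1,1,0]])

def av : Fin 6 → ZMod 2 := ![0,0,0,1,1,1]
def uv : Fin 6 → ZMod 2 := ![1,1,1,0,0,0]

theorem hB : Bm *ᵥ 1 = 0 := by decide
theorem hC : 1 ᵥ* Cm = 0 := by decide
theorem hBC : Bm * Cm = 1 := by decide
theorem hCB : Cm * Bm = 1 + vecMulVec 1 av + vecMulVec uv 1 := by decide
theorem hCC : Cmᵀ * Cm = J (Fin 2) (ZMod 2) := by decide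
theorem h11 : (1 : Fin 6 → ZMod 2) ⬝ᵥ 1 = 0 := by decide

/-- `S_6 → M_4(F_2)` -/
def rho0 : Equiv.Perm (Fin 6) →* Matrix (Fin 2 ⊕ Fin 2) (Fin 2 ⊕ Fin 2) (ZMod 2) :=
  permModHom Bm Cm av uv hB hC hBC hCB

theorem rho0_mem (σ : Equiv.Perm (Fin 6)) : rho0 σ ∈ symplecticGroup (Fin 2) (ZMod 2) := by
  rw [SymplecticGroup.mem_iff', ← hCC]
  exact permMod_form Bm Cm av uv hC hCB h11 σ

/-- a 3-cycle -/
def c3 : Equiv.Perm (Fin 6) := Equiv.swap 0 1 * Equiv.swap 1 2

theorem rho0_c3 : rho0 c3 ≠ 1 := by decide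

theorem c3_mem : c3 ∈ alternatingGroup (Fin 6) := by
  rw [Equiv.Perm.mem_alternatingGroup]; decide

theorem charP_two {F : Type*} [Field F] [Fintype F] (hF : Fintype.card F = 2) : CharP F 2 := by
  obtain ⟨n, hp, hn⟩ := FiniteField.card F (ringChar F)
  have : ringChar F ∣ 2 := by rw [← hF, hn]; exact dvd_pow_self _ n.ne_zero
  have h2 : ringChar F = 2 := (Nat.prime_dvd_prime_iff_eq hp Nat.prime_two).mp this
  rw [← h2]; exact ringChar.charP F

/-- Sp_4(2) is isomorphic to the symmetric group S_6. -/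
theorem result {F : Type*} [Field F] [Fintype F] (hF : Fintype.card F = 2) : Nonempty (Matrix.symplecticGroup (Fin 2) F ≃* Equiv.Perm (Fin 6)) := by
  have : CharP F 2 := charP_two hF
  let c : ZMod 2 →+* F := ZMod.castHom (dvd_refl 2) F
  have hc : Function.Injective c := c.injective
  let ρ : Equiv.Perm (Fin 6) →* symplecticGroup (Fin 2) F :=
    MonoidHom.codRestrict ((c.mapMatrix : _ →+* _).toMonoidHom.comp rho0)
      (symplecticGroup (Fin 2) F) (fun σ => by
        have := SymplecticGroup.map_mem (rho0_mem σ) c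
        simpa using this)
  have hρ : ∀ σ, ((ρ σ : symplecticGroup (Fin 2) F) : Matrix _ _ F) = (rho0 σ).map c := fun σ => rfl
  have hinj : Function.Injective ρ := by
    rw [← MonoidHom.ker_eq_bot_iff]
    by_contra hne
    have hnt : Nontrivial ρ.ker := (Subgroup.nontrivial_iff_ne_bot _).mpr hne
    have hle := Equiv.Perm.alternatingGroup_le_of_normal (α := Fin 6) (by simp) hnt
    have h1 : ρ c3 = 1 := MonoidHom.mem_ker.mp (hle c3_mem)
    have h2 : (rho0 c3).map c = 1 := by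
      rw [← hρ, h1]; rfl
    apply rho0_c3
    have h3 : (rho0 c3).map c = (1 : Matrix (Fin 2 ⊕ Fin 2) (Fin 2 ⊕ Fin 2) (ZMod 2)).map c := by
      rw [h2]; simp
    exact Matrix.map_injective hc h3
  have hcard : Nat.card (symplecticGroup (Fin 2) F) ≤ Nat.card (Equiv.Perm (Fin 6)) := by
    rw [Cfsg.Agent.S0245.result hF 2, Nat.card_eq_fintype_card, Fintype.card_perm]
    simp [Finset.prod_range_succ, Nat.factorial]
  obtain ⟨e⟩ := nonempty_mulEquiv_of_injective_of_card ρ hinj hcard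
  exact ⟨e.symm⟩

end Cfsg.Agent.S0247
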