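import Cfsg.Statements.S0250
import Cfsg.Agent.Lib.helper6.PSLPerm

set_option autoImplicit false
open Cfsg

namespace Cfsg.Agent.S0250

open Cfsg.Agent.Lib.helper6

/-- SL_2(2) is isomorphic to S_3. -/
theorem result {F : Type*} [Field F] [Fintype F] (hF : Fintype.card F = 2) : Nonempty (Matrix.SpecialLinearGroup (Fin 2) F ≃* Equiv.Perm (Fin 3)) := by
  classical
  have hc : Subgroup.center (Matrix.SpecialLinearGroup (Fin 2) F) = ⊥ := by
    rw [← Subgroup.card_eq_one, card_center_SL 2 (by norm_num), hF]
    rfl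
  obtain ⟨f, hf⟩ := exists_injective_SL_perm (F := F) (n := 3) (by rw [hF]) hc
  have hcard : Nat.card (Matrix.SpecialLinearGroup (Fin 2) F) = 6 := by
    have h := card_SL (F := F) 2 (by norm_num)
    rw [hF, Fin.prod_univ_two] at h
    norm_num at h
    rw [Nat.card_eq_fintype_card]
    omega
  have hbij : Function.Bijective f := by
    rw [Nat.bijective_iff_injective_and_card]
    refine ⟨hf, ?_⟩
    rw [hcard, Nat.card_perm, Nat.card_eq_fintype_card, Fintype.card_fin]
    rfl
  exact ⟨MulEquiv.ofBijective f hbij⟩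

end Cfsg.Agent.S0250
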