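import Cfsg.Statements.S0251
import Cfsg.Agent.Lib.helper6.PSLPerm

set_option autoImplicit false
open Cfsg

namespace Cfsg.Agent.S0251

open Cfsg.Agent.Lib.helper6

/-- PSL_2(3) is isomorphic to A_4. -/
theorem result {F : Type*} [Field F] [Fintype F] (hF : Fintype.card F = 3) : Nonempty (Matrix.ProjectiveSpecialLinearGroup (Fin 2) F ≃* alternatingGroup (Fin 4)) := by
  classical
  obtain ⟨f, hf⟩ := exists_injective_PSL_perm (F := F) (n := 4) (by rw [hF])
  have hcard : Nat.card (Matrix.ProjectiveSpecialLinearGroup (Fin 2) F) = 12 := by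
    have h := card_PSL (F := F) 2 (by norm_num)
    rw [hF, Fin.prod_univ_two] at h
    norm_num at h
    rw [Nat.card_eq_fintype_card]
    omega
  exact nonempty_mulEquiv_alternatingGroup_of_injective_of_card f hf (by rw [hcard]; rfl)

end Cfsg.Agent.S0251
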