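import Cfsg.Statements.S0255
import Cfsg.Agent.Lib.helper6.AffPerm
import Cfsg.Agent.Lib.helper6.PermMod
import Cfsg.Agent.Lib.helper6.PSLPerm
import Cfsg.Agent.Lib.helper45.SLGen

set_option autoImplicit false
open Cfsg

namespace Cfsg.Agent.S0255

open Matrix Cfsg.Agent.Lib.helper6
open scoped LinearAlgebra.Projectivization

/-- `F_2^3` -/
abbrev V := Fin 3 → ZMod 2

instance fact7 : Fact (Nat.Prime 7) := ⟨by norm_num⟩

/-- representatives of the points of the projective line over `F_7`, labelled by `F_2^3 = F_8`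
(`x ↦ α^x`, `∞ ↦ 0`) -/
def pt (v : V) : Fin 2 → ZMod 7 :=
  ![![![![1,0], ![2,1]], ![![1,1], ![4,1]]], ![![![0,1], ![6,1]], ![![3,1], ![5,1]]]]
    (v 0) (v 1) (v 2)

def fT (v : V) : V := ![v 2, v 0 + v 2, v 1]
def fT' (v : V) : V := ![v 0 + v 2, 1 + v 0, v 1]

theorem pt_ne (v : V) : pt v ≠ 0 := by
  revert v; decide

theorem pt_inj : ∀ v w : V, (∃ a : ZMod 7, a • pt w = pt v) → v = w := by decide

theorem pt_T : ∀ v : V, ∃ a : ZMod 7, a • pt (fT v)
    = (1 + Matrix.single 0 1 1 : Matrix (Fin 2) (Fin 2) (ZMod 7)) *ᵥ pt v := by decide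

theorem pt_T' : ∀ v : V, ∃ a : ZMod 7, a • pt (fT' v)
    = (1 + Matrix.single 1 0 1 : Matrix (Fin 2) (Fin 2) (ZMod 7)) *ᵥ pt v := by decide

theorem fT_aff : ∀ u v w : V, fT (u + v + w) = fT u + fT v + fT w := by decide
theorem fT'_aff : ∀ u v w : V, fT' (u + v + w) = fT' u + fT' v + fT' w := by decide

theorem fT_ne : fT (Pi.single 0 1) + fT 0 ≠ Pi.single 0 1 := by decide

/-- the labelling of the projective line -/
def e0 (v : V) : ℙ (ZMod 7) (Fin 2 → ZMod 7) := Projectivization.mk (ZMod 7) (pt v) (pt_ne v)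

theorem e0_bijective : Function.Bijective e0 := by
  have hinj : Function.Injective e0 := by
    intro v w h
    rw [e0, e0, Projectivization.mk_eq_mk_iff'] at h
    exact pt_inj v w h
  rw [Nat.bijective_iff_injective_and_card]
  refine ⟨hinj, ?_⟩
  rw [card_projLine, Nat.card_eq_fintype_card]
  simp [ZMod.card]

/-- the labelling as an equivalence -/
noncomputable def eV : V ≃ ℙ (ZMod 7) (Fin 2 → ZMod 7) := Equiv.ofBijective e0 e0_bijective

theorem eV_apply (v : V) : eV v = e0 v := rfl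

/-- the action of `SL_2(7)` on `F_2^3` -/
noncomputable def rho : SpecialLinearGroup (Fin 2) (ZMod 7) →* Equiv.Perm V :=
  (eV.symm.permCongrHom).toMonoidHom.comp
    (MulAction.toPermHom (SpecialLinearGroup (Fin 2) (ZMod 7)) (ℙ (ZMod 7) (Fin 2 → ZMod 7)))

theorem rho_apply (g : SpecialLinearGroup (Fin 2) (ZMod 7)) (v : V) :
    rho g v = eV.symm (g • eV v) := rfl

theorem rho_eq_of (g : SpecialLinearGroup (Fin 2) (ZMod 7)) (f : V → V)
    (h : ∀ v : V, ∃ a : ZMod 7, a • pt (f v) = g.1 *ᵥ pt v) (v : V) : rho g v = f v := by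
  rw [rho_apply, Equiv.symm_apply_eq, eV_apply, eV_apply, e0, e0, Projectivization.smul_mk,
    Projectivization.mk_eq_mk_iff']
  obtain ⟨a, ha⟩ := h v
  exact ⟨a, by rw [ha]; rfl⟩

theorem rho_T (v : V) : rho (SpecialLinearGroup.transvection (show (0 : Fin 2) ≠ 1 by decide) 1) v
    = fT v := rho_eq_of _ fT pt_T v

theorem rho_T' (v : V) : rho (SpecialLinearGroup.transvection (show (1 : Fin 2) ≠ 0 by decide) 1) v
    = fT' v := rho_eq_of _ fT' pt_T' v

theorem rho_mem (g : SpecialLinearGroup (Fin 2) (ZMod 7)) : rho g ∈ affSubgroup V := by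
  have htop : (affSubgroup V).comap rho = ⊤ := by
    apply Cfsg.Agent.Lib.helper45.eq_top_of_transvection_mem
    intro i j hij a
    rw [← ZMod.natCast_zmod_val a, transvection_natCast]
    apply Subgroup.pow_mem
    rw [Subgroup.mem_comap, mem_affSubgroup]
    intro u v w
    fin_cases i <;> fin_cases j
    · exact absurd rfl hij
    · rw [rho_T, rho_T, rho_T, rho_T]; exact fT_aff u v w
    · rw [rho_T', rho_T', rho_T', rho_T']; exact fT'_aff u v w
    · exact absurd rfl hij
  have : g ∈ (affSubgroup V).comap rho := by rw [htop]; trivial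
  exact this

/-- the action of `PSL_2(7)` on `F_2^3` -/
noncomputable def rho' : ProjectiveSpecialLinearGroup (Fin 2) (ZMod 7) →* Equiv.Perm V :=
  (eV.symm.permCongrHom).toMonoidHom.comp Projectivization.PSLAction.toPermHom

theorem rho'_mk (g : SpecialLinearGroup (Fin 2) (ZMod 7)) :
    rho' (QuotientGroup.mk g) = rho g := rfl

theorem rho'_mem (x : ProjectiveSpecialLinearGroup (Fin 2) (ZMod 7)) :
    rho' x ∈ affSubgroup V := by
  obtain ⟨g, rfl⟩ := QuotientGroup.mk_surjective x
  rw [rho'_mk]; exact rho_mem g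

/-- `PSL_2(7) → M_3(F_2)` -/
noncomputable def phi0 : ProjectiveSpecialLinearGroup (Fin 2) (ZMod 7) →*
    Matrix (Fin 3) (Fin 3) (ZMod 2) :=
  ((LinearMap.toMatrixAlgEquiv' (R := ZMod 2) (n := Fin 3)).toMulEquiv.toMonoidHom.comp
    (linPart V)).comp (rho'.codRestrict (affSubgroup V) rho'_mem)

/-- `PSL_2(7) → GL_3(2)` -/
noncomputable def phi : ProjectiveSpecialLinearGroup (Fin 2) (ZMod 7) →*
    GL (Fin 3) (ZMod 2) := phi0.toHomUnits

theorem phi_injective : Function.Injective phi := by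
  have : IsSimpleGroup (ProjectiveSpecialLinearGroup (Fin 2) (ZMod 7)) :=
    Matrix.ProjectiveSpecialLinearGroup.rank_two_simple (by
      rw [Nat.card_eq_fintype_card, ZMod.card]; norm_num)
  rw [← MonoidHom.ker_eq_bot_iff]
  rcases phi.normal_ker.eq_bot_or_eq_top with h | h
  · exact h
  · exfalso
    set T := SpecialLinearGroup.transvection (F := ZMod 7) (show (0 : Fin 2) ≠ 1 by decide) 1
    have h1 : (QuotientGroup.mk T : ProjectiveSpecialLinearGroup (Fin 2) (ZMod 7)) ∈ phi.ker := by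
      rw [h]; trivial
    rw [MonoidHom.mem_ker] at h1
    have h2 : phi0 (QuotientGroup.mk T) = 1 := by
      have := congrArg Units.val h1
      exact this
    have h3 : linPart V (rho'.codRestrict (affSubgroup V) rho'_mem (QuotientGroup.mk T)) = 1 := by
      apply (LinearMap.toMatrixAlgEquiv' (R := ZMod 2) (n := Fin 3)).injective
      rw [map_one]
      exact h2
    have h4 := congrArg (fun L : Module.End (ZMod 2) V => L (Pi.single 0 1)) h3
    simp only [linPart_apply, MonoidHom.codRestrict_apply, rho'_mk, Module.End.one_apply] at h4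
    rw [rho_T, rho_T] at h4
    exact fT_ne h4

theorem card_psl27 : Nat.card (ProjectiveSpecialLinearGroup (Fin 2) (ZMod 7)) = 168 := by
  have h := card_PSL (F := ZMod 7) 2 (by norm_num)
  simp [Fin.prod_univ_two, ZMod.card] at h
  rw [Nat.card_eq_fintype_card]
  omega

theorem card_gl32 : Nat.card (GL (Fin 3) (ZMod 2)) = 168 := by
  rw [Matrix.card_GL_field]
  simp [ZMod.card, Fin.prod_univ_three]

theorem card_sl32 : Nat.card (SpecialLinearGroup (Fin 3) (ZMod 2)) = 168 := by
  have h := card_SL (F := ZMod 2) 3 (by norm_num)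
  simp [Fin.prod_univ_three, ZMod.card] at h
  rw [Nat.card_eq_fintype_card]
  omega

theorem card_psl32 : Nat.card (ProjectiveSpecialLinearGroup (Fin 3) (ZMod 2)) = 168 := by
  have h := card_PSL (F := ZMod 2) 3 (by norm_num)
  simp [Fin.prod_univ_three, ZMod.card] at h
  rw [Nat.card_eq_fintype_card]
  omega

theorem main : Nonempty (ProjectiveSpecialLinearGroup (Fin 2) (ZMod 7) ≃*
    ProjectiveSpecialLinearGroup (Fin 3) (ZMod 2)) := by
  obtain ⟨e1⟩ := nonempty_mulEquiv_of_injective_of_card phi phi_injective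
    (by rw [card_psl27, card_gl32])
  obtain ⟨e2⟩ := nonempty_mulEquiv_of_injective_of_card
    (SpecialLinearGroup.toGL (n := Fin 3) (R := ZMod 2)) SpecialLinearGroup.toGL_injective
    (by rw [card_sl32, card_gl32])
  obtain ⟨e3⟩ := nonempty_mulEquiv_of_surjective_of_card
    (QuotientGroup.mk' (Subgroup.center (SpecialLinearGroup (Fin 3) (ZMod 2))))
    (QuotientGroup.mk'_surjective _) (by rw [card_sl32]; exact card_psl32.ge)
  exact ⟨e1.trans (e2.symm.trans e3)⟩

/-- PSL_2(7) is isomorphic to PSL_3(2). -/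
theorem result {F K : Type*} [Field F] [Fintype F] [Field K] [Fintype K] (hF : Fintype.card F = 7) (hK : Fintype.card K = 2) : Nonempty (Matrix.ProjectiveSpecialLinearGroup (Fin 2) F ≃* Matrix.ProjectiveSpecialLinearGroup (Fin 3) K) := by
  obtain ⟨e⟩ := main
  have eF : ZMod 7 ≃+* F := ZMod.ringEquivOfPrime F (by norm_num) hF
  have eK : ZMod 2 ≃+* K := ZMod.ringEquivOfPrime K (by norm_num) hK
  exact ⟨(pslCongr eF.symm).trans (e.trans (pslCongr eK))⟩

end Cfsg.Agent.S0255
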