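import Cfsg.Statements.S0257
import Cfsg.Agent.S0261
import Cfsg.Agent.Lib.helper7.CardSL

set_option autoImplicit false
open Cfsg

namespace Cfsg.Agent.S0257

open Matrix Cfsg.Agent.Lib.helper7

set_option maxRecDepth 100000 in
lemma card_pow_four_zmod :
    Fintype.card {g : Matrix.SpecialLinearGroup (Fin 2) (ZMod 3) // g ^ 4 = 1} = 8 := by
  decide

lemma quaternion_pow_four : ∀ y : QuaternionGroup 2, y ^ 4 = 1 := by
  decide

/-- The isomorphism of special linear groups induced by a ring isomorphism. -/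
def slEquiv {R S : Type*} [CommRing R] [CommRing S] (e : R ≃+* S) :
    Matrix.SpecialLinearGroup (Fin 2) R ≃* Matrix.SpecialLinearGroup (Fin 2) S where
  toFun := Matrix.SpecialLinearGroup.map e.toRingHom
  invFun := Matrix.SpecialLinearGroup.map e.symm.toRingHom
  left_inv g := by
    apply Subtype.ext
    ext i j
    show e.symm.toRingHom (e.toRingHom ((g : Matrix (Fin 2) (Fin 2) R) i j)) = _
    simp
  right_inv g := by
    apply Subtype.ext
    ext i j
    show e.toRingHom (e.symm.toRingHom ((g : Matrix (Fin 2) (Fin 2) S) i j)) = _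
    simp
  map_mul' g h := map_mul _ g h

/-- SL_2(3) has a normal subgroup of index 3 isomorphic to the quaternion group of order 8, and its centre has order 2. -/
theorem result {F : Type*} [Field F] [Fintype F] (hF : Fintype.card F = 3) : (∃ Q : Subgroup (Matrix.SpecialLinearGroup (Fin 2) F), Q.Normal ∧ Q.index = 3 ∧ Nonempty (Q ≃* QuaternionGroup 2)) ∧ Nat.card (Subgroup.center (Matrix.SpecialLinearGroup (Fin 2) F)) = 2 := by
  classical
  have hcharP : CharP F 3 :=
    (CharP.charP_iff_prime_eq_zero Nat.prime_three).2 (hF ▸ Nat.cast_card_eq_zero F)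
  have h2 : (2 : F) ≠ 0 := by
    intro h
    have h3 : ((2 : ℕ) : F) = 0 := by exact_mod_cast h
    rw [CharP.cast_eq_zero_iff F 3] at h3
    omega
  refine ⟨?_, card_center_SL2 h2⟩
  have hodd : Odd (Fintype.card F) := by
    rw [hF]
    decide
  have hG : Nat.card (Matrix.SpecialLinearGroup (Fin 2) F) = 24 := by
    rw [card_SL2 hF]
    norm_num
  obtain ⟨P⟩ : Nonempty (Sylow 2 (Matrix.SpecialLinearGroup (Fin 2) F)) := inferInstance
  obtain ⟨k, hk, ⟨ε⟩⟩ := Cfsg.Agent.S0261.result hodd P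
  have hne : NeZero (2 ^ k) := ⟨by positivity⟩
  have hcardP : Nat.card (P : Subgroup (Matrix.SpecialLinearGroup (Fin 2) F)) = 4 * 2 ^ k := by
    rw [Nat.card_congr ε.toEquiv, Nat.card_eq_fintype_card, QuaternionGroup.card]
  have hdvd : 4 * 2 ^ k ∣ 24 := by
    rw [← hcardP, ← hG]
    exact Subgroup.card_subgroup_dvd_card _
  have hk1 : k = 1 := by
    by_contra hne1
    have hk2 : 2 ≤ k := by omega
    obtain ⟨j, rfl⟩ : ∃ j, k = j + 2 := ⟨k - 2, by omega⟩
    have : 16 ∣ 24 := by
      refine Dvd.dvd.trans ?_ hdvd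
      exact ⟨2 ^ j, by ring⟩
    omega
  subst hk1
  have hcardP8 : Nat.card (P : Subgroup (Matrix.SpecialLinearGroup (Fin 2) F)) = 8 := by
    rw [hcardP]
    norm_num
  -- the set of elements of exponent 4
  let e := slEquiv (ZMod.ringEquivOfPrime F Nat.prime_three hF).symm
  have hT : Nat.card {g : Matrix.SpecialLinearGroup (Fin 2) F // g ^ 4 = 1} = 8 := by
    rw [← card_pow_four_zmod, ← Nat.card_eq_fintype_card]
    apply Nat.card_congr
    refine Equiv.subtypeEquiv e.toEquiv ?_
    intro g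
    constructor
    · intro h
      show e g ^ 4 = 1
      rw [← map_pow, h, map_one]
    · intro h
      have h' : e g ^ 4 = 1 := h
      rw [← map_pow] at h'
      exact e.injective (by rw [h', map_one])
  have hε : Nonempty ((P : Subgroup (Matrix.SpecialLinearGroup (Fin 2) F)) ≃* QuaternionGroup 2) := by
    have h : Nonempty ((P : Subgroup (Matrix.SpecialLinearGroup (Fin 2) F)) ≃*
        QuaternionGroup (2 ^ 1)) := ⟨ε⟩
    rw [pow_one] at h
    exact h
  obtain ⟨ε'⟩ := hε
  have hPT : ((P : Subgroup (Matrix.SpecialLinearGroup (Fin 2) F)) :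
      Set (Matrix.SpecialLinearGroup (Fin 2) F)) ⊆ {g | g ^ 4 = 1} := by
    intro x hx
    have h1 := quaternion_pow_four (ε' ⟨x, hx⟩)
    rw [← map_pow] at h1
    have h3 : (⟨x, hx⟩ : (P : Subgroup (Matrix.SpecialLinearGroup (Fin 2) F))) ^ 4 = 1 :=
      ε'.injective (by rw [h1, map_one])
    exact congrArg Subtype.val h3
  have hfin : ({g : Matrix.SpecialLinearGroup (Fin 2) F | g ^ 4 = 1}).Finite := Set.toFinite _
  have hPeq : ((P : Subgroup (Matrix.SpecialLinearGroup (Fin 2) F)) :
      Set (Matrix.SpecialLinearGroup (Fin 2) F)) = {g | g ^ 4 = 1} := by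
    apply Set.eq_of_subset_of_ncard_le hPT _ hfin
    rw [← Nat.card_coe_set_eq, ← Nat.card_coe_set_eq]
    have h8 : Nat.card ({g : Matrix.SpecialLinearGroup (Fin 2) F | g ^ 4 = 1} :
        Set (Matrix.SpecialLinearGroup (Fin 2) F)) = 8 := hT
    rw [h8]
    exact le_of_eq hcardP8.symm
  refine ⟨P, ⟨?_⟩, ?_, ⟨ε'⟩⟩
  · intro x hx g
    have hx' : x ^ 4 = 1 := hPT hx
    have : g * x * g⁻¹ ∈ ((P : Subgroup (Matrix.SpecialLinearGroup (Fin 2) F)) :
        Set (Matrix.SpecialLinearGroup (Fin 2) F)) := by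
      rw [hPeq]
      show (g * x * g⁻¹) ^ 4 = 1
      rw [conj_pow, hx', mul_one, mul_inv_cancel]
    exact this
  · have h := Subgroup.card_mul_index (P : Subgroup (Matrix.SpecialLinearGroup (Fin 2) F))
    rw [hcardP8, hG] at h
    omega

end Cfsg.Agent.S0257
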