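import Cfsg.Statements.S0263
import Mathlib

set_option autoImplicit false
open Cfsg

namespace Cfsg.Agent.S0263

/-- A Sylow p-subgroup of GL_n(q), p the characteristic, has order q^(n(n-1)/2). -/
theorem result {F : Type*} [Field F] [Fintype F] {q : ℕ} (hF : Fintype.card F = q) (p : ℕ) [Fact p.Prime] [CharP F p] (n : ℕ) (P : Sylow p (Matrix.GeneralLinearGroup (Fin n) F)) : Nat.card P = q ^ (n * (n - 1) / 2) := by
  have hp : p.Prime := Fact.out
  obtain ⟨f, -, hq⟩ := FiniteField.card F p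
  rw [hF] at hq
  have hcard : Nat.card (Matrix.GeneralLinearGroup (Fin n) F)
      = q ^ (n * (n - 1) / 2) * ∏ i ∈ Finset.range n, (q ^ (n - i) - 1) := by
    rw [Matrix.card_GL_field, hF, Fin.prod_univ_eq_prod_range (fun i => q ^ n - q ^ i) n,
      ← Finset.sum_range_id, ← Finset.prod_pow_eq_pow_sum, ← Finset.prod_mul_distrib]
    apply Finset.prod_congr rfl
    intro i hi
    have hi' : i < n := Finset.mem_range.1 hi
    rw [Nat.mul_sub, mul_one, ← pow_add]
    congr 2
    omega
  have hM : ¬ p ∣ ∏ i ∈ Finset.range n, (q ^ (n - i) - 1) := by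
    rw [Prime.dvd_finsetProd_iff hp.prime]
    rintro ⟨i, hi, hdvd⟩
    have hi' : i < n := Finset.mem_range.1 hi
    have h1 : p ∣ q ^ (n - i) := by
      rw [hq, ← pow_mul]
      apply dvd_pow_self
      have : 0 < (f : ℕ) := f.pos
      have : 0 < n - i := by omega
      positivity
    have hpos : 0 < q ^ (n - i) := by
      rw [hq]
      exact pow_pos (pow_pos hp.pos _) _
    have h2 : p ∣ q ^ (n - i) - (q ^ (n - i) - 1) := Nat.dvd_sub h1 hdvd
    have h3 : q ^ (n - i) - (q ^ (n - i) - 1) = 1 := by omega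
    rw [h3] at h2
    exact hp.one_lt.ne' (Nat.dvd_one.1 h2)
  have hM0 : ∏ i ∈ Finset.range n, (q ^ (n - i) - 1) ≠ 0 := by
    intro h
    apply hM
    rw [h]
    exact dvd_zero p
  have hq0 : q ^ (n * (n - 1) / 2) ≠ 0 := by
    rw [hq]
    exact pow_ne_zero _ (pow_ne_zero _ hp.ne_zero)
  rw [Sylow.card_eq_multiplicity, hcard, Nat.factorization_mul hq0 hM0]
  simp only [Finsupp.coe_add, Pi.add_apply]
  rw [Nat.factorization_eq_zero_of_not_dvd hM, add_zero]
  rw [hq, ← pow_mul, Nat.Prime.factorization_pow hp]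
  simp

end Cfsg.Agent.S0263
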