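import Cfsg.Statements.S0272
import Cfsg.Agent.Lib.helper7.GL2
import Cfsg.Agent.S0263

set_option autoImplicit false
open Cfsg

namespace Cfsg.Agent.S0272

open Matrix Cfsg.Agent.Lib.helper7 in
/-- The normaliser in GL_2(q) of a Sylow p-subgroup, p the characteristic, has order q (q-1)^2. -/
theorem result {F : Type*} [Field F] [Fintype F] {q : ℕ} (hF : Fintype.card F = q) (p : ℕ) [Fact p.Prime] [CharP F p] (P : Sylow p (Matrix.GeneralLinearGroup (Fin 2) F)) : Nat.card (Subgroup.normalizer ((P : Subgroup (Matrix.GeneralLinearGroup (Fin 2) F)) : Set (Matrix.GeneralLinearGroup (Fin 2) F))) = q * (q - 1) ^ 2 := by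
  classical
  have hcardP : Nat.card P = q := by
    have := Cfsg.Agent.S0263.result hF p 2 P
    simpa using this
  have hU : Nat.card (unipU : Subgroup (GL (Fin 2) F))
      = p ^ (Nat.card (GL (Fin 2) F)).factorization p := by
    rw [card_unipU, Nat.card_eq_fintype_card, hF, ← hcardP, Sylow.card_eq_multiplicity]
  let P0 : Sylow p (GL (Fin 2) F) := Sylow.ofCard unipU hU
  have hP0 : (P0 : Subgroup (GL (Fin 2) F)) = unipU := rfl
  have hidx : (Subgroup.normalizer ((P : Subgroup (GL (Fin 2) F)) : Set (GL (Fin 2) F))).index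
      = (Subgroup.normalizer ((P0 : Subgroup (GL (Fin 2) F)) : Set (GL (Fin 2) F))).index := by
    exact (Sylow.card_eq_index_normalizer P).symm.trans (Sylow.card_eq_index_normalizer P0)
  have h1 := Subgroup.card_mul_index
    (Subgroup.normalizer ((P : Subgroup (GL (Fin 2) F)) : Set (GL (Fin 2) F)))
  have h2 := Subgroup.card_mul_index
    (Subgroup.normalizer ((P0 : Subgroup (GL (Fin 2) F)) : Set (GL (Fin 2) F)))
  have hpos : 0 < (Subgroup.normalizer
      ((P0 : Subgroup (GL (Fin 2) F)) : Set (GL (Fin 2) F))).index :=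
    Nat.pos_of_ne_zero Subgroup.index_ne_zero_of_finite
  have heq : Nat.card (Subgroup.normalizer ((P : Subgroup (GL (Fin 2) F)) : Set (GL (Fin 2) F)))
      = Nat.card (Subgroup.normalizer ((P0 : Subgroup (GL (Fin 2) F)) : Set (GL (Fin 2) F))) := by
    apply Nat.eq_of_mul_eq_mul_right hpos
    rw [h2, ← hidx, h1]
  rw [heq, hP0]
  have hB : Nat.card (Subgroup.normalizer
      ((unipU : Subgroup (GL (Fin 2) F)) : Set (GL (Fin 2) F)))
      = Nat.card {g : GL (Fin 2) F // g.val 1 0 = 0} :=
    Nat.card_congr (Equiv.subtypeEquivRight (fun g => mem_normalizer_unipU_iff g))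
  rw [hB, card_borel, hF]

end Cfsg.Agent.S0272
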