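import Cfsg.Statements.S0259
import Cfsg.Agent.S0263
import Cfsg.Agent.Lib.helper7.GL2

set_option autoImplicit false
open Cfsg

namespace Cfsg.Agent.S0259

open Matrix Cfsg.Agent.Lib.helper7 in
/-- Distinct Sylow p-subgroups of GL_2(q), p the characteristic, intersect trivially. -/
theorem result {F : Type*} [Field F] [Fintype F] (p : ℕ) [Fact p.Prime] [CharP F p] (P Q : Sylow p (Matrix.GeneralLinearGroup (Fin 2) F)) (h : P ≠ Q) : (P : Subgroup (Matrix.GeneralLinearGroup (Fin 2) F)) ⊓ (Q : Subgroup (Matrix.GeneralLinearGroup (Fin 2) F)) = ⊥ := by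
  classical
  have hcardP : Nat.card P = Fintype.card F := by
    have := Cfsg.Agent.S0263.result (F := F) rfl p 2 P
    simpa using this
  have hU : Nat.card (unipU : Subgroup (GL (Fin 2) F))
      = p ^ (Nat.card (GL (Fin 2) F)).factorization p := by
    rw [card_unipU, Nat.card_eq_fintype_card, ← hcardP, Sylow.card_eq_multiplicity]
  let P0 : Sylow p (GL (Fin 2) F) := Sylow.ofCard unipU hU
  have hP0 : (P0 : Subgroup (GL (Fin 2) F)) = unipU := rfl
  obtain ⟨g, hg⟩ := MulAction.exists_smul_eq (GL (Fin 2) F) P0 P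
  obtain ⟨g2, hg2⟩ := MulAction.exists_smul_eq (GL (Fin 2) F) P0 Q
  have hmem : ∀ (k x : GL (Fin 2) F),
      x ∈ ((k • P0 : Sylow p (GL (Fin 2) F)) : Subgroup (GL (Fin 2) F))
        ↔ k⁻¹ * x * k ∈ (unipU : Subgroup (GL (Fin 2) F)) := by
    intro k x
    rw [Sylow.coe_subgroup_smul, Subgroup.mem_pointwise_smul_iff_inv_smul_mem, hP0]
    simp [MulAut.smul_def]
  rw [eq_bot_iff]
  intro x hx
  rw [Subgroup.mem_bot]
  by_contra hx1
  have hxP : x ∈ (P : Subgroup (GL (Fin 2) F)) := hx.1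
  have hxQ : x ∈ (Q : Subgroup (GL (Fin 2) F)) := hx.2
  rw [← hg, hmem] at hxP
  rw [← hg2, hmem] at hxQ
  obtain ⟨b, hb⟩ := (mem_unipU_iff _).1 hxP
  obtain ⟨c, hc⟩ := (mem_unipU_iff _).1 hxQ
  have hc0 : c ≠ 0 := by
    rintro rfl
    apply hx1
    have h1 : uGL (0 : F) = 1 := by
      apply Units.ext
      rw [uGL_val, uMat_zero]
      rfl
    rw [h1] at hc
    have : x = g2 * (g2⁻¹ * x * g2) * g2⁻¹ := by group
    rw [this, hc]
    group
  have hk : (g2⁻¹ * g) * uGL b = uGL c * (g2⁻¹ * g) := by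
    rw [← hb, ← hc]
    group
  have hk10 : (g2⁻¹ * g).val 1 0 = 0 := by
    have h2 := congrArg (fun M : GL (Fin 2) F => M.val 0 0) hk
    simp only [Units.val_mul, uGL_val] at h2
    rw [mul_uMat, uMat_mul'] at h2
    simp only [Matrix.of_apply, Matrix.cons_val', Matrix.cons_val_zero] at h2
    have h3 : c * (g2⁻¹.val * g.val) 1 0 = 0 := by linear_combination -h2
    rcases mul_eq_zero.1 h3 with h4 | h4
    · exact absurd h4 hc0
    · rw [Units.val_mul]
      exact h4
  have hnorm := (mem_normalizer_unipU_iff (g2⁻¹ * g)).2 hk10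
  apply h
  rw [← hg, ← hg2]
  have h5 : (g2⁻¹ * g) • P0 = P0 := Sylow.smul_eq_iff_mem_normalizer.2 hnorm
  calc g • P0 = g2 • ((g2⁻¹ * g) • P0) := by rw [← mul_smul, mul_inv_cancel_left]
    _ = g2 • P0 := by rw [h5]

end Cfsg.Agent.S0259
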