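import Cfsg.Statements.S0260
import Cfsg.Agent.Lib.helper7.CardSL

set_option autoImplicit false
open Cfsg

namespace Cfsg.Agent.S0260

open Matrix Cfsg.Agent.Lib.helper7

section

variable {F : Type*} [Field F]

/-- Upper unitriangular matrices. -/
def tU (c : F) : Matrix.SpecialLinearGroup (Fin 2) F :=
  Matrix.SpecialLinearGroup.transvection (zero_ne_one : (0 : Fin 2) ≠ 1) c

/-- Lower unitriangular matrices. -/
def tL (c : F) : Matrix.SpecialLinearGroup (Fin 2) F :=
  Matrix.SpecialLinearGroup.transvection (one_ne_zero : (1 : Fin 2) ≠ 0) c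

lemma tU_coe (c : F) : (tU c : Matrix (Fin 2) (Fin 2) F) = !![1, c; 0, 1] := by
  ext i j
  fin_cases i <;> fin_cases j <;>
    simp [tU, Matrix.SpecialLinearGroup.transvection_coe, Matrix.single_apply]

lemma tL_coe (c : F) : (tL c : Matrix (Fin 2) (Fin 2) F) = !![1, 0; c, 1] := by
  ext i j
  fin_cases i <;> fin_cases j <;>
    simp [tL, Matrix.SpecialLinearGroup.transvection_coe, Matrix.single_apply]

/-- The hom `c ↦ tU c`. -/
def tUHom : Multiplicative F →* Matrix.SpecialLinearGroup (Fin 2) F where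
  toFun c := tU (Multiplicative.toAdd c)
  map_one' := Matrix.SpecialLinearGroup.transvection_coeff_zero _
  map_mul' _ _ := Matrix.SpecialLinearGroup.transvection_add _ _ _

/-- The group of upper unitriangular matrices. -/
def Up : Subgroup (Matrix.SpecialLinearGroup (Fin 2) F) := (tUHom (F := F)).range

lemma mem_Up_iff (g : Matrix.SpecialLinearGroup (Fin 2) F) :
    g ∈ (Up : Subgroup (Matrix.SpecialLinearGroup (Fin 2) F)) ↔ ∃ c : F, g = tU c := by
  constructor
  · rintro ⟨c, rfl⟩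
    exact ⟨Multiplicative.toAdd c, rfl⟩
  · rintro ⟨c, rfl⟩
    exact ⟨Multiplicative.ofAdd c, rfl⟩

lemma tU_injective : Function.Injective (tU : F → Matrix.SpecialLinearGroup (Fin 2) F) := by
  intro a b h
  have h1 := congrArg (fun g : Matrix.SpecialLinearGroup (Fin 2) F =>
    (g : Matrix (Fin 2) (Fin 2) F) 0 1) h
  simpa [tU_coe] using h1

lemma card_Up [Finite F] :
    Nat.card (Up : Subgroup (Matrix.SpecialLinearGroup (Fin 2) F)) = Nat.card F := by
  have hinj : Function.Injective (tUHom (F := F)) := by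
    intro a b h
    exact Multiplicative.toAdd.injective (tU_injective h)
  rw [Up, ← Nat.card_congr (MonoidHom.ofInjective hinj).toEquiv]
  rfl

/-- Upper triangular matrices normalise `Up`. -/
lemma conj_tU (k : Matrix.SpecialLinearGroup (Fin 2) F)
    (hk : (k : Matrix (Fin 2) (Fin 2) F) 1 0 = 0) (c : F) :
    k * tU c * k⁻¹ = tU (c * (k : Matrix (Fin 2) (Fin 2) F) 0 0 ^ 2) := by
  rw [mul_inv_eq_iff_eq_mul]
  have hdet := k.det_coe
  rw [Matrix.det_fin_two, hk, mul_zero, sub_zero] at hdet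
  apply Subtype.ext
  rw [Matrix.SpecialLinearGroup.coe_mul, Matrix.SpecialLinearGroup.coe_mul, tU_coe, tU_coe]
  ext i j
  fin_cases i <;> fin_cases j
  · simp [Matrix.mul_apply, Fin.sum_univ_two, hk]
  · simp [Matrix.mul_apply, Fin.sum_univ_two]
    linear_combination (-(c * (k : Matrix (Fin 2) (Fin 2) F) 0 0)) * hdet
  · simp [Matrix.mul_apply, Fin.sum_univ_two, hk]
  · simp [Matrix.mul_apply, Fin.sum_univ_two, hk]

/-- The key identity: a lower unitriangular matrix is conjugate to an upper one. -/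
lemma tL_conj (k : Matrix.SpecialLinearGroup (Fin 2) F)
    (hk : (k : Matrix (Fin 2) (Fin 2) F) 1 0 ≠ 0) (c : F) :
    tL c = (tU (-(k : Matrix (Fin 2) (Fin 2) F) 0 0 / (k : Matrix (Fin 2) (Fin 2) F) 1 0) * k)
      * tU (-c / (k : Matrix (Fin 2) (Fin 2) F) 1 0 ^ 2)
      * (tU (-(k : Matrix (Fin 2) (Fin 2) F) 0 0 / (k : Matrix (Fin 2) (Fin 2) F) 1 0) * k)⁻¹ := by
  rw [eq_mul_inv_iff_mul_eq]
  have hdet := k.det_coe
  rw [Matrix.det_fin_two] at hdet
  set k00 := (k : Matrix (Fin 2) (Fin 2) F) 0 0 with hk00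
  set k01 := (k : Matrix (Fin 2) (Fin 2) F) 0 1 with hk01
  set k10 := (k : Matrix (Fin 2) (Fin 2) F) 1 0 with hk10
  set k11 := (k : Matrix (Fin 2) (Fin 2) F) 1 1 with hk11
  have hkm : (k : Matrix (Fin 2) (Fin 2) F) = !![k00, k01; k10, k11] := by
    ext i j
    fin_cases i <;> fin_cases j <;> rfl
  have hW : ((tU (-k00 / k10) * k : Matrix.SpecialLinearGroup (Fin 2) F) :
      Matrix (Fin 2) (Fin 2) F) = !![0, k01 + (-k00 / k10) * k11; k10, k11] := by
    rw [Matrix.SpecialLinearGroup.coe_mul, tU_coe, hkm]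
    ext i j
    fin_cases i <;> fin_cases j
    · simp [Matrix.mul_apply, Fin.sum_univ_two]
      field_simp
      ring
    · simp [Matrix.mul_apply, Fin.sum_univ_two]
    · simp [Matrix.mul_apply, Fin.sum_univ_two]
    · simp [Matrix.mul_apply, Fin.sum_univ_two]
  apply Subtype.ext
  have e1 : ((tL c * (tU (-k00 / k10) * k) : Matrix.SpecialLinearGroup (Fin 2) F) :
      Matrix (Fin 2) (Fin 2) F) = (tL c : Matrix (Fin 2) (Fin 2) F)
        * ((tU (-k00 / k10) * k : Matrix.SpecialLinearGroup (Fin 2) F) :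
          Matrix (Fin 2) (Fin 2) F) := Matrix.SpecialLinearGroup.coe_mul _ _
  have e2 : ((tU (-k00 / k10) * k * tU (-c / k10 ^ 2) : Matrix.SpecialLinearGroup (Fin 2) F) :
      Matrix (Fin 2) (Fin 2) F) = ((tU (-k00 / k10) * k : Matrix.SpecialLinearGroup (Fin 2) F) :
          Matrix (Fin 2) (Fin 2) F) * (tU (-c / k10 ^ 2) : Matrix (Fin 2) (Fin 2) F) :=
    Matrix.SpecialLinearGroup.coe_mul _ _
  rw [e1, e2, hW, tL_coe, tU_coe]
  ext i j
  fin_cases i <;> fin_cases j
  · simp [Matrix.mul_apply, Fin.sum_univ_two]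
  · simp [Matrix.mul_apply, Fin.sum_univ_two]
  · simp [Matrix.mul_apply, Fin.sum_univ_two]
  · simp [Matrix.mul_apply, Fin.sum_univ_two]
    field_simp
    linear_combination (-c) * hdet

end

/-- Any two distinct Sylow p-subgroups of SL_2(q), p the characteristic, generate SL_2(q). -/
theorem result {F : Type*} [Field F] [Fintype F] (p : ℕ) [Fact p.Prime] [CharP F p] (P Q : Sylow p (Matrix.SpecialLinearGroup (Fin 2) F)) (h : P ≠ Q) : (P : Subgroup (Matrix.SpecialLinearGroup (Fin 2) F)) ⊔ (Q : Subgroup (Matrix.SpecialLinearGroup (Fin 2) F)) = ⊤ := by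
  classical
  have hp : p.Prime := Fact.out
  obtain ⟨n, hn⟩ : ∃ n : ℕ, Fintype.card F = p ^ n := by
    obtain ⟨n, -, hn⟩ := FiniteField.card F p
    exact ⟨n, hn⟩
  have hq2 : 2 ≤ Fintype.card F := Fintype.one_lt_card
  have hn0 : n ≠ 0 := by
    rintro rfl
    rw [pow_zero] at hn
    omega
  have hcard := card_SL2 (F := F) rfl
  have hU : Nat.card (Up : Subgroup (Matrix.SpecialLinearGroup (Fin 2) F))
      = p ^ (Nat.card (Matrix.SpecialLinearGroup (Fin 2) F)).factorization p := by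
    rw [card_Up, Nat.card_eq_fintype_card, hcard]
    have h1 : Fintype.card F ^ 2 - 1 ≠ 0 := by
      have : 4 ≤ Fintype.card F ^ 2 := by nlinarith
      omega
    have h2 : ¬ p ∣ Fintype.card F ^ 2 - 1 := by
      intro hdvd
      have h3 : p ∣ Fintype.card F ^ 2 := by
        rw [hn, ← pow_mul]
        exact dvd_pow_self p (by omega)
      have h4 : p ∣ 1 := by
        have h5 : Fintype.card F ^ 2 = (Fintype.card F ^ 2 - 1) + 1 := by omega
        rw [h5] at h3
        exact (Nat.dvd_add_right hdvd).1 h3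
      exact hp.one_lt.ne' (Nat.dvd_one.1 h4)
    rw [Nat.factorization_mul (by omega) h1, Finsupp.add_apply,
      Nat.factorization_eq_zero_of_not_dvd h2, add_zero]
    nth_rewrite 2 [hn]
    rw [hp.factorization_pow, Finsupp.single_eq_same, hn]
  let P0 : Sylow p (Matrix.SpecialLinearGroup (Fin 2) F) := Sylow.ofCard Up hU
  have hP0 : (P0 : Subgroup (Matrix.SpecialLinearGroup (Fin 2) F)) = Up := rfl
  obtain ⟨g, hg⟩ := MulAction.exists_smul_eq (Matrix.SpecialLinearGroup (Fin 2) F) P0 P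
  obtain ⟨g2, hg2⟩ := MulAction.exists_smul_eq (Matrix.SpecialLinearGroup (Fin 2) F) P0 Q
  have hmem : ∀ (k x : Matrix.SpecialLinearGroup (Fin 2) F),
      x ∈ ((k • P0 : Sylow p (Matrix.SpecialLinearGroup (Fin 2) F)) :
        Subgroup (Matrix.SpecialLinearGroup (Fin 2) F))
        ↔ k⁻¹ * x * k ∈ (Up : Subgroup (Matrix.SpecialLinearGroup (Fin 2) F)) := by
    intro k x
    rw [Sylow.coe_subgroup_smul, Subgroup.mem_pointwise_smul_iff_inv_smul_mem, hP0]
    simp [MulAut.smul_def]
  set k := g⁻¹ * g2 with hk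
  -- `k` is not upper triangular
  have hk10 : (k : Matrix (Fin 2) (Fin 2) F) 1 0 ≠ 0 := by
    intro h0
    apply h
    have hnorm : ∀ (k' : Matrix.SpecialLinearGroup (Fin 2) F),
        (k' : Matrix (Fin 2) (Fin 2) F) 1 0 = 0 → ∀ x ∈ (Up : Subgroup (Matrix.SpecialLinearGroup (Fin 2) F)),
          k' * x * k'⁻¹ ∈ (Up : Subgroup (Matrix.SpecialLinearGroup (Fin 2) F)) := by
      intro k' hk' x hx
      obtain ⟨c, rfl⟩ := (mem_Up_iff x).1 hx
      rw [conj_tU k' hk']
      exact (mem_Up_iff _).2 ⟨_, rfl⟩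
    have hkinv : ((k⁻¹ : Matrix.SpecialLinearGroup (Fin 2) F) : Matrix (Fin 2) (Fin 2) F) 1 0 = 0 := by
      rw [Matrix.SpecialLinearGroup.SL2_inv_expl]
      simp [h0]
    have h5 : k • P0 = P0 := by
      rw [Sylow.smul_eq_iff_mem_normalizer]
      show k ∈ Subgroup.normalizer ((Up : Subgroup (Matrix.SpecialLinearGroup (Fin 2) F)) :
        Set (Matrix.SpecialLinearGroup (Fin 2) F))
      rw [Subgroup.mem_set_normalizer_iff]
      intro x
      simp only [SetLike.mem_coe]
      constructor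
      · exact hnorm k h0 x
      · intro hx
        have := hnorm k⁻¹ hkinv _ hx
        simpa [mul_assoc] using this
    rw [← hg, ← hg2]
    calc g • P0 = g • (k • P0) := by rw [h5]
      _ = g2 • P0 := by rw [← mul_smul, hk, mul_inv_cancel_left]
  -- all conjugates by `g` of elements of SL_2 lie in the join
  have hall : ∀ A : Matrix.SpecialLinearGroup (Fin 2) F,
      g * A * g⁻¹ ∈ (P : Subgroup (Matrix.SpecialLinearGroup (Fin 2) F)) ⊔
        (Q : Subgroup (Matrix.SpecialLinearGroup (Fin 2) F)) := by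
    have hUP : ∀ c : F, g * tU c * g⁻¹ ∈ (P : Subgroup (Matrix.SpecialLinearGroup (Fin 2) F)) := by
      intro c
      rw [← hg, hmem]
      have : g⁻¹ * (g * tU c * g⁻¹) * g = tU c := by group
      rw [this]
      exact (mem_Up_iff _).2 ⟨c, rfl⟩
    have hUQ : ∀ c : F, g * (k * tU c * k⁻¹) * g⁻¹
        ∈ (Q : Subgroup (Matrix.SpecialLinearGroup (Fin 2) F)) := by
      intro c
      rw [← hg2, hmem]
      have : g2⁻¹ * (g * (k * tU c * k⁻¹) * g⁻¹) * g2 = tU c := by
        rw [hk]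
        group
      rw [this]
      exact (mem_Up_iff _).2 ⟨c, rfl⟩
    intro A
    refine Matrix.SL2.transvection_induction
      (fun A => g * A * g⁻¹ ∈ (P : Subgroup (Matrix.SpecialLinearGroup (Fin 2) F)) ⊔
        (Q : Subgroup (Matrix.SpecialLinearGroup (Fin 2) F))) ?_ ?_ A
    · intro i j hij c
      fin_cases i <;> fin_cases j
      · exact absurd rfl hij
      · exact Subgroup.mem_sup_left (hUP c)
      · show g * tL c * g⁻¹ ∈ _
        rw [tL_conj k hk10 c]
        set t := -(k : Matrix (Fin 2) (Fin 2) F) 0 0 / (k : Matrix (Fin 2) (Fin 2) F) 1 0 with ht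
        set b := -c / (k : Matrix (Fin 2) (Fin 2) F) 1 0 ^ 2 with hb
        have e : g * (tU t * k * tU b * (tU t * k)⁻¹) * g⁻¹
            = (g * tU t * g⁻¹) * (g * (k * tU b * k⁻¹) * g⁻¹) * (g * tU t * g⁻¹)⁻¹ := by group
        rw [e]
        exact mul_mem (mul_mem (Subgroup.mem_sup_left (hUP t)) (Subgroup.mem_sup_right (hUQ b)))
          (inv_mem (Subgroup.mem_sup_left (hUP t)))
      · exact absurd rfl hij
    · intro A B hA hB
      have e : g * (A * B) * g⁻¹ = (g * A * g⁻¹) * (g * B * g⁻¹) := by group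
      rw [e]
      exact mul_mem hA hB
  rw [eq_top_iff]
  intro x _
  have := hall (g⁻¹ * x * g)
  have e : g * (g⁻¹ * x * g) * g⁻¹ = x := by group
  rwa [e] at this

end Cfsg.Agent.S0260
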