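import Cfsg.Statements.S0262
import Mathlib

set_option autoImplicit false
open Cfsg

namespace Cfsg.Agent.S0262

open Matrix

section aux

variable {K : Type*} [Field K]

/-- A 2×2 matrix of determinant 1 that fixes a nonzero vector and has finite order `m`
invertible in `K` is the identity. -/
lemma eq_one_of_fix (A : Matrix (Fin 2) (Fin 2) K) (hdet : A.det = 1) (m : ℕ) (hm : (m : K) ≠ 0)
    (hA : A ^ m = 1) (v : Fin 2 → K) (hv : v ≠ 0) (hAv : A *ᵥ v = v) : A = 1 := by
  have hd : (A - 1).det = 0 := by
    rw [← Matrix.exists_mulVec_eq_zero_iff]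
    exact ⟨v, hv, by rw [Matrix.sub_mulVec, hAv, Matrix.one_mulVec, sub_self]⟩
  rw [det_fin_two] at hd hdet
  simp only [Matrix.sub_apply, one_apply_eq, one_apply_ne, ne_eq, zero_ne_one, not_false_eq_true,
    one_ne_zero, sub_zero] at hd
  have htr : A 0 0 + A 1 1 - 2 = 0 := by linear_combination hdet - hd
  have hN : (A - 1) * (A - 1) = 0 := by
    ext i j
    fin_cases i <;> fin_cases j <;>
      simp [Matrix.mul_apply, Fin.sum_univ_two, Matrix.sub_apply, Matrix.one_apply]
    · linear_combination A 0 0 * htr - hdet
    · linear_combination A 0 1 * htr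
    · linear_combination A 1 0 * htr
    · linear_combination A 1 1 * htr - hdet
  have hpow : ∀ k : ℕ, A ^ k = 1 + k • (A - 1) := by
    intro k
    induction k with
    | zero => simp
    | succ k ih =>
      have hA1 : A = 1 + (A - 1) := by abel
      rw [pow_succ, ih]
      nth_rewrite 2 [hA1]
      rw [mul_add, mul_one, add_mul, one_mul, smul_mul_assoc, hN, smul_zero, add_zero, succ_nsmul]
      abel
  have h1 : m • (A - 1) = 0 := by
    have := hpow m
    rw [hA] at this
    exact (add_eq_left.1 this.symm)
  rw [← Nat.cast_smul_eq_nsmul K] at h1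
  rcases smul_eq_zero.1 h1 with h | h
  · exact absurd h hm
  · exact sub_eq_zero.1 h

end aux

/-- For an odd prime r different from the characteristic, the Sylow r-subgroups of SL_2(q) are cyclic. -/
theorem result {F : Type*} [Field F] [Fintype F] (p : ℕ) [Fact p.Prime] [CharP F p] (r : ℕ) [Fact r.Prime] (hr : r ≠ 2) (hrp : r ≠ p) (R : Sylow r (Matrix.SpecialLinearGroup (Fin 2) F)) : IsCyclic (R : Subgroup (Matrix.SpecialLinearGroup (Fin 2) F)) := by
  classical
  have hrprime : r.Prime := Fact.out
  have hpprime : p.Prime := Fact.out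
  let K := AlgebraicClosure F
  have hcharK : CharP K p := charP_of_injective_algebraMap (algebraMap F K).injective p
  let M : ↥(R : Subgroup (SpecialLinearGroup (Fin 2) F)) →* Matrix (Fin 2) (Fin 2) K :=
    (SpecialLinearGroup.coeMonoidHom).comp
      ((SpecialLinearGroup.map (algebraMap F K)).comp (Subgroup.subtype _))
  have hMdef : ∀ g : ↥(R : Subgroup (SpecialLinearGroup (Fin 2) F)),
      M g = (g.1.1).map (algebraMap F K) := fun g => rfl
  have hMinj : Function.Injective M := by
    intro g h hgh
    rw [hMdef, hMdef] at hgh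
    have := Matrix.map_injective (algebraMap F K).injective hgh
    exact Subtype.ext (Subtype.ext this)
  have hMdet : ∀ g, (M g).det = 1 := by
    intro g
    exact (SpecialLinearGroup.map (algebraMap F K) g.1).2
  obtain ⟨n, hn⟩ := (IsPGroup.iff_card (p := r)).1 R.isPGroup'
  have hpowR : ∀ g, M g ^ (r ^ n) = 1 := by
    intro g
    rw [← map_pow, ← hn, pow_card_eq_one', map_one]
  have hrK : ((r ^ n : ℕ) : K) ≠ 0 := by
    intro h
    rw [CharP.cast_eq_zero_iff K p] at h
    have := (Nat.prime_dvd_prime_iff_eq hpprime hrprime).1 (hpprime.dvd_of_dvd_pow h)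
    exact hrp this.symm
  have hodd : Odd (r ^ n) := (hrprime.odd_of_ne_two hr).pow
  by_cases htriv : Subsingleton ↥(R : Subgroup (SpecialLinearGroup (Fin 2) F))
  · exact isCyclic_of_subsingleton
  · have hnt : Nontrivial ↥(R : Subgroup (SpecialLinearGroup (Fin 2) F)) :=
      not_subsingleton_iff_nontrivial.1 htriv
    have hc : Nontrivial (Subgroup.center ↥(R : Subgroup (SpecialLinearGroup (Fin 2) F))) :=
      IsPGroup.center_nontrivial R.isPGroup'
    obtain ⟨⟨z, hz⟩, hz1⟩ := exists_ne (1 : Subgroup.center ↥(R : Subgroup (SpecialLinearGroup (Fin 2) F)))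
    have hz1' : z ≠ 1 := fun h => hz1 (Subtype.ext h)
    obtain ⟨l, hl⟩ := Module.End.exists_eigenvalue (Matrix.toLin' (M z))
    obtain ⟨v, hv⟩ := hl.exists_hasEigenvector
    have hv0 : v ≠ 0 := hv.2
    have hzv : M z *ᵥ v = l • v := by
      rw [← Matrix.toLin'_apply]
      exact hv.apply_eq_smul
    -- z is not scalar
    have hns : M z ≠ l • (1 : Matrix (Fin 2) (Fin 2) K) := by
      intro hzl
      have h1 : l ^ 2 = 1 := by
        have := hMdet z
        rw [hzl, det_smul, det_one, mul_one] at this
        simpa using this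
      have h2 : l ^ (r ^ n) = 1 := by
        have := hpowR z
        rw [hzl, smul_pow, one_pow] at this
        have h3 := congrFun (congrFun this 0) 0
        simpa using h3
      obtain ⟨k, hk⟩ := hodd
      rw [hk, pow_succ, pow_mul, h1, one_pow, one_mul] at h2
      apply hz1'
      apply hMinj
      rw [hzl, h2, one_smul, map_one]
    -- every element of R maps v into K v
    have hex : ∀ g : ↥(R : Subgroup (SpecialLinearGroup (Fin 2) F)), ∃ c : K, M g *ᵥ v = c • v := by
      intro g
      by_contra hcon
      push Not at hcon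
      have hcomm : M z * M g = M g * M z := by
        rw [← map_mul, ← map_mul]
        congr 1
        exact (Subgroup.mem_center_iff.1 hz g).symm
      have hzu : M z *ᵥ (M g *ᵥ v) = l • (M g *ᵥ v) := by
        rw [Matrix.mulVec_mulVec, hcomm, ← Matrix.mulVec_mulVec, hzv, Matrix.mulVec_smul]
      have hli : LinearIndependent K ![v, M g *ᵥ v] :=
        (LinearIndependent.pair_iff' hv0).2 (fun a h => hcon a h.symm)
      let b := basisOfLinearIndependentOfCardEqFinrank hli (by simp)
      have hb : ∀ i, b i = ![v, M g *ᵥ v] i := fun i => by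
        simp [b]
      apply hns
      apply Matrix.toLin'.injective
      apply b.ext
      intro i
      rw [hb]
      fin_cases i
      · show Matrix.toLin' (M z) v = Matrix.toLin' (l • (1 : Matrix (Fin 2) (Fin 2) K)) v
        rw [Matrix.toLin'_apply, Matrix.toLin'_apply, Matrix.smul_mulVec, Matrix.one_mulVec]
        exact hzv
      · show Matrix.toLin' (M z) (M g *ᵥ v)
          = Matrix.toLin' (l • (1 : Matrix (Fin 2) (Fin 2) K)) (M g *ᵥ v)
        rw [Matrix.toLin'_apply, Matrix.toLin'_apply, Matrix.smul_mulVec, Matrix.one_mulVec]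
        exact hzu
    choose χ hχ using hex
    have hinjv : Function.Injective (fun c : K => c • v) := smul_left_injective K hv0
    let f : ↥(R : Subgroup (SpecialLinearGroup (Fin 2) F)) →* K :=
      { toFun := χ
        map_one' := by
          apply hinjv
          show χ 1 • v = (1 : K) • v
          rw [← hχ 1, map_one, one_smul, Matrix.one_mulVec]
        map_mul' := by
          intro g h
          apply hinjv
          show χ (g * h) • v = (χ g * χ h) • v
          rw [← hχ (g * h), map_mul, ← Matrix.mulVec_mulVec, hχ h, Matrix.mulVec_smul, hχ g,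
            smul_smul, mul_comm] }
    apply isCyclic_of_injective_ringHom f
    rw [injective_iff_map_eq_one]
    intro g hg
    have hg' : χ g = 1 := hg
    have hfix : M g *ᵥ v = v := by rw [hχ g, hg', one_smul]
    have := eq_one_of_fix (M g) (hMdet g) (r ^ n) hrK (hpowR g) v hv0 hfix
    apply hMinj
    rw [this, map_one]

end Cfsg.Agent.S0262
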