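import Cfsg.Statements.S0264
import Mathlib

set_option autoImplicit false
open Cfsg

namespace Cfsg.Agent.S0264

open Matrix

section aux

variable {F : Type*} [Field F] {N : Type*} [Fintype N] [DecidableEq N]

/-- The diagonal element of `GL` with entry `c` at `i` and `1` elsewhere. -/
noncomputable def dg (i : N) (c : F) (hc : c ≠ 0) : GL N F :=
  ⟨diagonal (Function.update 1 i c), diagonal (Function.update 1 i c⁻¹), by
    rw [diagonal_mul_diagonal, ← diagonal_one]
    congr 1
    ext k
    by_cases hk : k = i
    · subst hk; simp [hc]
    · simp [hk], by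
    rw [diagonal_mul_diagonal, ← diagonal_one]
    congr 1
    ext k
    by_cases hk : k = i
    · subst hk; simp [hc]
    · simp [hk]⟩

/-- The permutation matrix of a transposition, as an element of `GL`. -/
def sw (i j : N) : GL N F :=
  ⟨(Equiv.swap i j).toPEquiv.toMatrix, (Equiv.swap i j).toPEquiv.toMatrix, by
    rw [← PEquiv.toMatrix_trans, ← Equiv.toPEquiv_trans]
    simp, by
    rw [← PEquiv.toMatrix_trans, ← Equiv.toPEquiv_trans]
    simp⟩

open scoped commutatorElement

lemma comm_dg_transvection {i j : N} (hij : i ≠ j) (c : F) (hc : c ≠ 0) (b : F) :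
    ⁅dg i c hc, SpecialLinearGroup.toGL (SpecialLinearGroup.transvection hij b)⁆
      = SpecialLinearGroup.toGL (SpecialLinearGroup.transvection hij ((c - 1) * b)) := by
  rw [commutatorElement_def, ← map_inv, SpecialLinearGroup.transvection_inv]
  apply Units.ext
  show diagonal (Function.update 1 i c) * (1 + single i j b) * diagonal (Function.update 1 i c⁻¹)
      * (1 + single i j (-b)) = 1 + single i j ((c - 1) * b)
  have h1 : diagonal (Function.update 1 i c) * (1 + single i j b)
      * diagonal (Function.update 1 i c⁻¹) = (1 + single i j (c * b) : Matrix N N F) := by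
    ext k l
    rw [mul_diagonal, diagonal_mul]
    simp only [Matrix.add_apply, one_apply, single_apply, Function.update_apply, Pi.one_apply]
    by_cases hkl : k = l
    · subst hkl
      have hne : ¬ (i = k ∧ j = k) := fun ⟨h1, h2⟩ => hij (h1.trans h2.symm)
      by_cases hk : k = i
      · subst hk
        simp [hij.symm, hc]
      · simp [hne, hk]
    · by_cases h2 : i = k ∧ j = l
      · obtain ⟨rfl, rfl⟩ := h2
        simp [hkl, hij.symm]
      · simp [hkl, h2]
  rw [h1]
  calc (1 + single i j (c * b)) * (1 + single i j (-b))
      = 1 + single i j (c * b) + single i j (-b)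
          + single i j (c * b) * single i j (-b) := by
        simp only [mul_add, add_mul, mul_one, one_mul]
        abel
    _ = 1 + single i j ((c - 1) * b) := by
        rw [single_mul_single_of_ne _ _ _ _ hij.symm, add_zero, add_assoc, ← single_add]
        congr 2
        ring

lemma comm_transvection_transvection {i j k : N} (hij : i ≠ j) (hik : i ≠ k) (hkj : k ≠ j) (a : F) :
    ⁅SpecialLinearGroup.transvection hik a, SpecialLinearGroup.transvection hkj (1 : F)⁆
      = SpecialLinearGroup.transvection hij a := by
  rw [commutatorElement_def, SpecialLinearGroup.transvection_inv,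
    SpecialLinearGroup.transvection_inv]
  apply Subtype.ext
  simp [SpecialLinearGroup.transvection_coe, mul_add, add_mul,
    single_mul_single_of_ne _ _ _ _ hij.symm, single_mul_single_of_ne _ _ _ _ hik.symm,
    single_mul_single_of_ne _ _ _ _ hkj.symm, single_mul_single_of_ne _ _ _ _ hkj,
    single_mul_single_of_ne _ _ _ _ hik, single_mul_single_of_ne _ _ _ _ hij]
  rw [← single_neg, ← single_neg, ← single_neg]
  abel

lemma comm_dg_sw {i j : N} (hij : i ≠ j) (c : F) (hc : c ≠ 0) :
    ⁅dg i c hc, (sw i j : GL N F)⁆
      = SpecialLinearGroup.toGL (SpecialLinearGroup.diag2n hij c hc) := by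
  rw [commutatorElement_def]
  apply Units.ext
  show diagonal (Function.update 1 i c) * (Equiv.swap i j).toPEquiv.toMatrix
      * diagonal (Function.update 1 i c⁻¹) * (Equiv.swap i j).toPEquiv.toMatrix
      = diagonal (fun k ↦ if k = i then c else if k = j then c⁻¹ else 1)
  rw [mul_assoc (diagonal (Function.update 1 i c)), mul_assoc (diagonal (Function.update 1 i c)),
    PEquiv.toMatrix_toPEquiv_mul, PEquiv.mul_toMatrix_toPEquiv, submatrix_submatrix,
    Equiv.symm_swap]
  simp only [Function.id_comp, Function.comp_id]
  rw [submatrix_diagonal_equiv, diagonal_mul_diagonal]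
  congr 1
  ext k
  by_cases hk : k = i
  · subst hk
    simp [hij.symm]
  · by_cases hkj : k = j
    · subst hkj
      simp [hk]
    · simp [hk, hkj, Equiv.swap_apply_of_ne_of_ne hk hkj]

end aux

/-- GL_n(F)' = SL_n(F) (as the kernel of det), for every field F and every n, except n = 2 over the field of two elements. -/
theorem result {F : Type*} [Field F] (n : ℕ) (h : n = 2 → ∃ a : F, a ≠ 0 ∧ a ≠ 1) : commutator (Matrix.GeneralLinearGroup (Fin n) F) = (Matrix.GeneralLinearGroup.det : Matrix.GeneralLinearGroup (Fin n) F →* Fˣ).ker := by
  apply le_antisymm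
  · exact Abelianization.commutator_subset_ker _
  · intro g hg
    rw [MonoidHom.mem_ker] at hg
    obtain ⟨s, rfl⟩ : ∃ s : SpecialLinearGroup (Fin n) F, SpecialLinearGroup.toGL s = g := by
      refine ⟨⟨(g : Matrix (Fin n) (Fin n) F), ?_⟩, ?_⟩
      · have := congrArg (fun u : Fˣ => (u : F)) hg
        simpa using this
      · apply Units.ext
        rfl
    clear hg
    obtain rfl | rfl | hn : n = 0 ∨ n = 1 ∨ 2 ≤ n := by omega
    · have : s = 1 := Subtype.ext (Subsingleton.elim _ _)
      rw [this, map_one]
      exact one_mem _
    · have : s = 1 := by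
        apply Subtype.ext
        have hd := s.det_coe
        rw [det_fin_one] at hd
        ext i j
        fin_cases i
        fin_cases j
        simpa using hd
      rw [this, map_one]
      exact one_mem _
    · have hnt : Nontrivial (Fin n) := Fin.nontrivial_iff_two_le.2 hn
      refine SpecialLinearGroup.diagonal_transvection_induction'
        (fun s => SpecialLinearGroup.toGL s ∈ commutator (GL (Fin n) F)) s ?_ ?_ ?_
      · intro i j hij c hc
        show SpecialLinearGroup.toGL (SpecialLinearGroup.diag2n hij c hc) ∈ _
        rw [← comm_dg_sw hij c hc]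
        exact Subgroup.commutator_mem_commutator (Subgroup.mem_top _) (Subgroup.mem_top _)
      · intro i j hij a
        show SpecialLinearGroup.toGL (SpecialLinearGroup.transvection hij a) ∈ _
        by_cases hF : ∃ c : F, c ≠ 0 ∧ c ≠ 1
        · obtain ⟨c, hc0, hc1⟩ := hF
          have hc1' : c - 1 ≠ 0 := sub_ne_zero.2 hc1
          have : SpecialLinearGroup.transvection hij a
              = SpecialLinearGroup.transvection hij ((c - 1) * (a / (c - 1))) := by
            congr 1
            field_simp
          rw [this, ← comm_dg_transvection hij c hc0]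
          exact Subgroup.commutator_mem_commutator (Subgroup.mem_top _) (Subgroup.mem_top _)
        · have hn2 : n ≠ 2 := fun h2 => hF (h h2)
          obtain ⟨k, hk⟩ : ∃ k : Fin n, k ∉ ({i, j} : Finset (Fin n)) := by
            by_contra hcon
            push Not at hcon
            have h1 : (Finset.univ : Finset (Fin n)) ⊆ {i, j} := fun k _ => hcon k
            have h2 := Finset.card_le_card h1
            rw [Finset.card_univ, Fintype.card_fin] at h2
            have h3 : ({i, j} : Finset (Fin n)).card ≤ 2 := Finset.card_le_two
            omega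
          simp only [Finset.mem_insert, Finset.mem_singleton, not_or] at hk
          have hik : i ≠ k := fun h => hk.1 h.symm
          have hkj : k ≠ j := hk.2
          rw [← comm_transvection_transvection hij hik hkj a, map_commutatorElement]
          exact Subgroup.commutator_mem_commutator (Subgroup.mem_top _) (Subgroup.mem_top _)
      · intro A B hA hB
        show SpecialLinearGroup.toGL (A * B) ∈ _
        rw [map_mul]
        exact mul_mem hA hB

end Cfsg.Agent.S0264
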