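import Cfsg.Statements.S0266
import Cfsg.Agent.Lib.helper7.ProjLine

set_option autoImplicit false
open scoped MatrixGroups
open Cfsg

namespace Cfsg.Agent.S0266

open Cfsg.Agent.Lib.helper7 in
/-- PGL_2(F) is sharply 3-transitive on the projective line: it is 3-transitive and the stabiliser of three distinct points is trivial. -/
theorem result {F : Type*} [Field F] : MulAction.IsMultiplyPretransitive (Matrix.ProjGenLinGroup (Fin 2) F) (Projectivization F (Fin 2 → F)) 3 ∧ ∀ (g : Matrix.ProjGenLinGroup (Fin 2) F) (a b c : Projectivization F (Fin 2 → F)), a ≠ b → a ≠ c → b ≠ c → g • a = a → g • b = b → g • c = c → g = 1 := by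
  constructor
  · rw [MulAction.isMultiplyPretransitive_iff]
    intro x y
    obtain ⟨gx, hx1, hx2, hx3⟩ := exists_gl_smul_std (x 0) (x 1) (x 2)
      (x.injective.ne (by decide)) (x.injective.ne (by decide)) (x.injective.ne (by decide))
    obtain ⟨gy, hy1, hy2, hy3⟩ := exists_gl_smul_std (y 0) (y 1) (y 2)
      (y.injective.ne (by decide)) (y.injective.ne (by decide)) (y.injective.ne (by decide))
    refine ⟨Matrix.ProjGenLinGroup.mk gy * (Matrix.ProjGenLinGroup.mk gx)⁻¹, ?_⟩
    ext i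
    rw [Function.Embedding.smul_apply, mul_smul]
    fin_cases i
    · show Matrix.ProjGenLinGroup.mk gy • (Matrix.ProjGenLinGroup.mk gx)⁻¹ • x 0 = y 0
      rw [inv_smul_eq_iff.2 hx1.symm, hy1]
    · show Matrix.ProjGenLinGroup.mk gy • (Matrix.ProjGenLinGroup.mk gx)⁻¹ • x 1 = y 1
      rw [inv_smul_eq_iff.2 hx2.symm, hy2]
    · show Matrix.ProjGenLinGroup.mk gy • (Matrix.ProjGenLinGroup.mk gx)⁻¹ • x 2 = y 2
      rw [inv_smul_eq_iff.2 hx3.symm, hy3]
  · intro g a b c hab hac hbc ha hb hc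
    obtain ⟨h, h1, h2, h3⟩ := exists_gl_smul_std a b c hab hac hbc
    have key : (Matrix.ProjGenLinGroup.mk h)⁻¹ * g * Matrix.ProjGenLinGroup.mk h = 1 := by
      apply eq_one_of_fix_std
      · rw [mul_smul, mul_smul, h1, ha, inv_smul_eq_iff, h1]
      · rw [mul_smul, mul_smul, h2, hb, inv_smul_eq_iff, h2]
      · rw [mul_smul, mul_smul, h3, hc, inv_smul_eq_iff, h3]
    calc g = Matrix.ProjGenLinGroup.mk h * ((Matrix.ProjGenLinGroup.mk h)⁻¹ * g
          * Matrix.ProjGenLinGroup.mk h) * (Matrix.ProjGenLinGroup.mk h)⁻¹ := by group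
      _ = 1 := by rw [key]; group

end Cfsg.Agent.S0266
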