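import Cfsg.Statements.S0267
import Cfsg.Agent.Lib.helper7.ProjLine

set_option autoImplicit false
open Cfsg

namespace Cfsg.Agent.S0267

open Matrix Projectivization Cfsg.Agent.Lib.helper7
open scoped LinearAlgebra.Projectivization

section aux

variable {F : Type*} [Field F]

lemma sl_smul_eq (S : Matrix.SpecialLinearGroup (Fin 2) F) (p : ℙ F (Fin 2 → F)) :
    S • p = (Matrix.ProjGenLinGroup.mk (Matrix.SpecialLinearGroup.toGL S) :
      Matrix.ProjGenLinGroup (Fin 2) F) • p := by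
  induction p using Projectivization.ind with | _ v hv => rfl

lemma sl_smul_mk_eq_iff (S : Matrix.SpecialLinearGroup (Fin 2) F) (v w : Fin 2 → F) (hv : v ≠ 0)
    (hw : w ≠ 0) : S • mk F v hv = mk F w hw ↔ ∃ t : F, t • w = S.1 *ᵥ v := by
  rw [sl_smul_eq, mk_smul_mk_eq_iff]
  rfl

lemma inj3 {α : Type*} (a b c : α) (hab : a ≠ b) (hac : a ≠ c) (hbc : b ≠ c) :
    Function.Injective ![a, b, c] := by
  intro i j h
  fin_cases i <;> fin_cases j <;> simp_all

lemma p1_ne_p2 : (p1 : ℙ F (Fin 2 → F)) ≠ p2 := by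
  intro h
  rw [p1, p2, mk_eq_mk_iff'] at h
  obtain ⟨t, ht⟩ := h
  have := congrFun ht 0
  simp [e1, e2] at this

lemma p1_ne_mk (a : F) (h : (![a, 1] : Fin 2 → F) ≠ 0) : (p1 : ℙ F (Fin 2 → F)) ≠ mk F ![a, 1] h := by
  intro h
  rw [p1, mk_eq_mk_iff'] at h
  obtain ⟨t, ht⟩ := h
  have h0 := congrFun ht 0
  have h1 := congrFun ht 1
  simp [e1] at h0 h1
  rw [h1] at h0
  simp at h0

lemma p2_ne_mk (a : F) (ha : a ≠ 0) (h : (![a, 1] : Fin 2 → F) ≠ 0) :
    (p2 : ℙ F (Fin 2 → F)) ≠ mk F ![a, 1] h := by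
  intro h
  rw [p2, mk_eq_mk_iff'] at h
  obtain ⟨t, ht⟩ := h
  have h0 := congrFun ht 0
  have h1 := congrFun ht 1
  simp [e2] at h0 h1
  rcases h0 with h0 | h0
  · rw [h0] at h1
    simp at h1
  · exact ha h0

end aux

/-- SL_2(q) is 3-transitive on the q+1 points of the projective line if and only if q is even. -/
theorem result {F : Type*} [Field F] [Fintype F] : MulAction.IsMultiplyPretransitive (Matrix.SpecialLinearGroup (Fin 2) F) (Projectivization F (Fin 2 → F)) 3 ↔ ringChar F = 2 := by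
  constructor
  · intro H
    by_contra hchar
    obtain ⟨a, ha⟩ := FiniteField.exists_nonsquare hchar
    have ha0 : a ≠ 0 := by
      rintro rfl
      exact ha ⟨0, by simp⟩
    have hva : (![a, 1] : Fin 2 → F) ≠ 0 := fun h => by
      have := congrFun h 1
      simp at this
    have hv1 : (![1, 1] : Fin 2 → F) ≠ 0 := fun h => by
      have := congrFun h 1
      simp at this
    let x : Fin 3 ↪ ℙ F (Fin 2 → F) :=
      ⟨![p1, p2, mk F ![1, 1] hv1], inj3 _ _ _ p1_ne_p2 (p1_ne_mk 1 hv1) (p2_ne_mk 1 one_ne_zero hv1)⟩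
    let y : Fin 3 ↪ ℙ F (Fin 2 → F) :=
      ⟨![p1, p2, mk F ![a, 1] hva], inj3 _ _ _ p1_ne_p2 (p1_ne_mk a hva) (p2_ne_mk a ha0 hva)⟩
    obtain ⟨g, hg⟩ := (MulAction.isMultiplyPretransitive_iff.1 H) x y
    have h0 : g • (p1 : ℙ F (Fin 2 → F)) = p1 := by
      have := DFunLike.congr_fun hg 0
      rw [Function.Embedding.smul_apply] at this
      exact this
    have h1 : g • (p2 : ℙ F (Fin 2 → F)) = p2 := by
      have := DFunLike.congr_fun hg 1
      rw [Function.Embedding.smul_apply] at this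
      exact this
    have h2 : g • mk F ![1, 1] hv1 = mk F ![a, 1] hva := by
      have := DFunLike.congr_fun hg 2
      rw [Function.Embedding.smul_apply] at this
      exact this
    rw [p1, sl_smul_mk_eq_iff] at h0
    rw [p2, sl_smul_mk_eq_iff] at h1
    rw [sl_smul_mk_eq_iff] at h2
    obtain ⟨t1, ht1⟩ := h0
    obtain ⟨t2, ht2⟩ := h1
    obtain ⟨t3, ht3⟩ := h2
    rw [mulVec_e1] at ht1
    rw [mulVec_e2] at ht2
    have hv : (![1, 1] : Fin 2 → F) = e12 := rfl
    rw [hv, mulVec_e12] at ht3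
    have a2 := congrFun ht1 1
    have b1 := congrFun ht2 0
    have c1 := congrFun ht3 0
    have c2 := congrFun ht3 1
    simp [e1, e2] at a2 b1 c1 c2
    have hdet := g.det_coe
    rw [det_fin_two, ← a2, ← b1] at hdet
    rw [← a2] at c2
    rw [← b1] at c1
    simp at hdet c1 c2
    have ht3 : t3 ≠ 0 := by
      rintro rfl
      rw [← c2] at hdet
      simp at hdet
    apply ha
    refine ⟨t3⁻¹, ?_⟩
    have : t3 * a * t3 = 1 := by rw [c1, c2]; exact hdet
    field_simp
    linear_combination this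
  · intro hchar
    rw [MulAction.isMultiplyPretransitive_iff]
    intro x y
    obtain ⟨gx, hx1, hx2, hx3⟩ := exists_gl_smul_std (x 0) (x 1) (x 2)
      (x.injective.ne (by decide)) (x.injective.ne (by decide)) (x.injective.ne (by decide))
    obtain ⟨gy, hy1, hy2, hy3⟩ := exists_gl_smul_std (y 0) (y 1) (y 2)
      (y.injective.ne (by decide)) (y.injective.ne (by decide)) (y.injective.ne (by decide))
    obtain ⟨s, hs⟩ := FiniteField.isSquare_of_char_two hchar ((gy * gx⁻¹ : GL (Fin 2) F).val.det)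
    have hdet0 := Matrix.GeneralLinearGroup.det_ne_zero (gy * gx⁻¹ : GL (Fin 2) F)
    have hs0 : s ≠ 0 := by
      rintro rfl
      rw [mul_zero] at hs
      exact hdet0 hs
    let S : Matrix.SpecialLinearGroup (Fin 2) F :=
      ⟨s⁻¹ • (gy * gx⁻¹ : GL (Fin 2) F).val, by
        rw [det_smul, hs]
        simp
        field_simp⟩
    have hS : (Matrix.ProjGenLinGroup.mk (Matrix.SpecialLinearGroup.toGL S) :
        Matrix.ProjGenLinGroup (Fin 2) F)
        = Matrix.ProjGenLinGroup.mk gy * (Matrix.ProjGenLinGroup.mk gx)⁻¹ := by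
      have h1 : Matrix.SpecialLinearGroup.toGL S
          = Matrix.GeneralLinearGroup.scalar (Fin 2) (Units.mk0 s⁻¹ (inv_ne_zero hs0))
            * (gy * gx⁻¹) := by
        apply Units.ext
        show s⁻¹ • (gy * gx⁻¹ : GL (Fin 2) F).val
          = (Matrix.GeneralLinearGroup.scalar (Fin 2) (Units.mk0 s⁻¹ (inv_ne_zero hs0))).val
            * (gy * gx⁻¹ : GL (Fin 2) F).val
        rw [Matrix.GeneralLinearGroup.coe_scalar, Units.val_mk0,
          Matrix.scalar_apply, ← Matrix.smul_eq_diagonal_mul]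
      rw [h1, map_mul, Matrix.ProjGenLinGroup.mk_scalar, one_mul, map_mul, map_inv]
    refine ⟨S, ?_⟩
    ext i
    rw [Function.Embedding.smul_apply, sl_smul_eq, hS, mul_smul]
    fin_cases i
    · show Matrix.ProjGenLinGroup.mk gy • (Matrix.ProjGenLinGroup.mk gx)⁻¹ • x 0 = y 0
      rw [inv_smul_eq_iff.2 hx1.symm, hy1]
    · show Matrix.ProjGenLinGroup.mk gy • (Matrix.ProjGenLinGroup.mk gx)⁻¹ • x 1 = y 1
      rw [inv_smul_eq_iff.2 hx2.symm, hy2]
    · show Matrix.ProjGenLinGroup.mk gy • (Matrix.ProjGenLinGroup.mk gx)⁻¹ • x 2 = y 2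
      rw [inv_smul_eq_iff.2 hx3.symm, hy3]

end Cfsg.Agent.S0267
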