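import Cfsg.Statements.S0273
import Cfsg.Agent.Lib.helper7.GL2
import Cfsg.Agent.S0263

set_option autoImplicit false
open Cfsg

namespace Cfsg.Agent.S0273

open Matrix Cfsg.Agent.Lib.helper7 in
/-- In GL_2(q) the centraliser of a non-trivial element of a Sylow p-subgroup (p the characteristic) has order q (q-1): the Sylow subgroup times the scalars. -/
theorem result {F : Type*} [Field F] [Fintype F] {q : ℕ} (hF : Fintype.card F = q) (p : ℕ) [Fact p.Prime] [CharP F p] (P : Sylow p (Matrix.GeneralLinearGroup (Fin 2) F)) (a : Matrix.GeneralLinearGroup (Fin 2) F) (ha : a ∈ P) (ha1 : a ≠ 1) : Nat.card (Subgroup.centralizer ({a} : Set (Matrix.GeneralLinearGroup (Fin 2) F))) = q * (q - 1) := by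
  classical
  have hcardP : Nat.card P = q := by
    have := Cfsg.Agent.S0263.result hF p 2 P
    simpa using this
  have hU : Nat.card (unipU : Subgroup (GL (Fin 2) F))
      = p ^ (Nat.card (GL (Fin 2) F)).factorization p := by
    rw [card_unipU, Nat.card_eq_fintype_card, hF, ← hcardP, Sylow.card_eq_multiplicity]
  let P0 : Sylow p (GL (Fin 2) F) := Sylow.ofCard unipU hU
  have hP0 : (P0 : Subgroup (GL (Fin 2) F)) = unipU := rfl
  obtain ⟨g, hg⟩ := MulAction.exists_smul_eq (GL (Fin 2) F) P0 P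
  have ha' : a ∈ ((g • P0 : Sylow p (GL (Fin 2) F)) : Subgroup (GL (Fin 2) F)) := by
    rw [hg]; exact ha
  rw [Sylow.coe_subgroup_smul, Subgroup.mem_smul_pointwise_iff_exists] at ha'
  obtain ⟨u, hu, hua⟩ := ha'
  rw [hP0, mem_unipU_iff] at hu
  obtain ⟨b, rfl⟩ := hu
  have hua' : a = g * uGL b * g⁻¹ := by
    rw [← hua]; rfl
  have hb : b ≠ 0 := by
    rintro rfl
    apply ha1
    rw [hua']
    have : uGL (0 : F) = 1 := Units.ext uMat_zero
    rw [this]
    group
  have hcong : Nat.card (Subgroup.centralizer ({a} : Set (GL (Fin 2) F)))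
      = Nat.card (Subgroup.centralizer ({uGL b} : Set (GL (Fin 2) F))) := by
    refine Nat.card_congr (Equiv.subtypeEquiv (MulAut.conj g⁻¹).toEquiv (fun x => ?_))
    simp only [Subgroup.mem_centralizer_iff, Set.mem_singleton_iff, forall_eq, MulEquiv.toEquiv_eq_coe,
      EquivLike.coe_coe, MulAut.conj_apply, inv_inv]
    rw [hua']
    constructor
    · intro h
      calc uGL b * (g⁻¹ * x * g) = g⁻¹ * (g * uGL b * g⁻¹ * x) * g := by group
        _ = g⁻¹ * (x * (g * uGL b * g⁻¹)) * g := by rw [h]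
        _ = g⁻¹ * x * g * uGL b := by group
    · intro h
      calc g * uGL b * g⁻¹ * x = g * (uGL b * (g⁻¹ * x * g)) * g⁻¹ := by group
        _ = g * (g⁻¹ * x * g * uGL b) * g⁻¹ := by rw [h]
        _ = x * (g * uGL b * g⁻¹) := by group
  rw [hcong]
  have hC : Nat.card (Subgroup.centralizer ({uGL b} : Set (GL (Fin 2) F)))
      = Nat.card {g : GL (Fin 2) F // g.val 1 0 = 0 ∧ g.val 0 0 = g.val 1 1} :=
    Nat.card_congr (Equiv.subtypeEquivRight (fun g => mem_centralizer_uGL_iff b hb g))
  rw [hC, card_cent, hF]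

end Cfsg.Agent.S0273
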