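import Mathlib
import Cfsg.Statements.S0275
import Cfsg.Agent.S0261
import Cfsg.Agent.Lib.helper13.SylowTwo
import Cfsg.Agent.Lib.helper46.DicksonSylow
import Cfsg.Agent.Lib.helper46.QuatSubgroup

set_option autoImplicit false
open Cfsg

namespace Cfsg.Agent.S0275

/-- If p is odd and H is a subgroup of SL_2(q), q a power of p, with more than one Sylow p-subgroup, then the Sylow 2-subgroups of H are generalised quaternion. -/
theorem result {F : Type*} [Field F] [Fintype F] (p : ℕ) [Fact p.Prime] [CharP F p] (hp : p ≠ 2) (H : Subgroup (Matrix.SpecialLinearGroup (Fin 2) F)) (hH : 1 < Nat.card (Sylow p H)) (S : Sylow 2 H) : ∃ k : ℕ, 1 ≤ k ∧ Nonempty ((S : Subgroup H) ≃* QuaternionGroup (2 ^ k)) := by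
  classical
  have hpp : p.Prime := Fact.out
  -- `F` has odd order
  have hodd : Odd (Fintype.card F) := by
    obtain ⟨n, -, hn⟩ := FiniteField.card F p
    rw [hn]
    exact (hpp.odd_of_ne_two hp).pow
  -- a Sylow 2-subgroup of `SL₂(F)` containing the image of `S`
  have hS' : IsPGroup 2 ((S : Subgroup H).map H.subtype) := S.isPGroup'.map _
  obtain ⟨P, hP⟩ := hS'.exists_le_sylow
  obtain ⟨k₀, hk₀, ⟨e⟩⟩ := Cfsg.Agent.S0261.result hodd P
  let f : (S : Subgroup H) →* (P : Subgroup (Matrix.SpecialLinearGroup (Fin 2) F)) :=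
    MonoidHom.codRestrict (H.subtype.comp (S : Subgroup H).subtype)
      (P : Subgroup (Matrix.SpecialLinearGroup (Fin 2) F))
      (fun s => hP (Subgroup.mem_map_of_mem _ s.2))
  have hf : Function.Injective f := by
    intro x y hxy
    have h0 : ((f x : (P : Subgroup (Matrix.SpecialLinearGroup (Fin 2) F))) :
        Matrix.SpecialLinearGroup (Fin 2) F) = (f y : (P : Subgroup
          (Matrix.SpecialLinearGroup (Fin 2) F))) := by rw [hxy]
    have h1 : ((x : H) : Matrix.SpecialLinearGroup (Fin 2) F) = ((y : H) :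
        Matrix.SpecialLinearGroup (Fin 2) F) := h0
    exact Subtype.ext (Subtype.ext h1)
  have hψ : Function.Injective (e.toMonoidHom.comp f) := e.injective.comp hf
  -- `S` is not abelian
  have hnonab : ¬ ∀ x y : (S : Subgroup H), x * y = y * x := by
    intro hab
    obtain ⟨φ, hinj, hφ⟩ := Cfsg.Agent.Lib.helper46.dk_exists_hom_of_sylow p hp H hH
    obtain ⟨Q, hQ, x, hx, y, hy, hxy⟩ := Cfsg.Agent.Lib.helper13.exists_noncomm_two_subgroup_SL2 p hp
    have hT : ∀ s ∈ (S : Subgroup H), ∀ t ∈ (S : Subgroup H), s * t = t * s := by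
      intro s hs t ht
      exact congrArg Subtype.val (hab ⟨s, hs⟩ ⟨t, ht⟩)
    have hQr : Q.map φ ≤ H.subtype.range := by
      rintro _ ⟨q, -, rfl⟩
      exact ⟨⟨φ q, hφ q⟩, rfl⟩
    have hcomm := Cfsg.Agent.Lib.helper13.comm_of_isPGroup_le_range H.subtype S hT (Q.map φ)
      (hQ.map φ) hQr (φ x) (Subgroup.mem_map_of_mem _ hx) (φ y) (Subgroup.mem_map_of_mem _ hy)
    apply hxy
    apply hinj
    rw [map_mul, map_mul]
    exact hcomm
  have : NeZero (2 ^ k₀) := ⟨pow_ne_zero _ two_ne_zero⟩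
  obtain ⟨m, hm, ⟨e'⟩⟩ := Cfsg.Agent.Lib.helper46.quat_of_embedding (2 ^ k₀) (e.toMonoidHom.comp f)
    hψ hnonab
  -- `m` is a power of two
  have : NeZero m := ⟨by omega⟩
  have hcard : Nat.card (S : Subgroup H) = 4 * m := by
    rw [Nat.card_congr e'.toEquiv, Nat.card_eq_fintype_card, QuaternionGroup.card]
  obtain ⟨j, hj⟩ := IsPGroup.iff_card.mp S.isPGroup'
  have hdvd : m ∣ 2 ^ j := by
    rw [← hj, hcard]
    exact Dvd.intro_left 4 rfl
  obtain ⟨k, -, rfl⟩ := (Nat.dvd_prime_pow Nat.prime_two).mp hdvd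
  refine ⟨k, ?_, ⟨e'⟩⟩
  by_contra hk
  have : k = 0 := by omega
  subst this
  norm_num at hm

end Cfsg.Agent.S0275
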