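import Cfsg.Statements.S0276
import Cfsg.Agent.Lib.helper7.CardSL

set_option autoImplicit false
open Cfsg

namespace Cfsg.Agent.S0276

open Matrix

/-- If `2` is not a square in `F` and `g ^ 4` is central in `SL_2(F)`, then so is `g ^ 2`. -/
lemma sq_mem_center {F : Type*} [Field F] (hns : ¬ IsSquare (2 : F))
    (g : SpecialLinearGroup (Fin 2) F)
    (hg : g ^ 4 ∈ Subgroup.center (SpecialLinearGroup (Fin 2) F)) :
    g ^ 2 ∈ Subgroup.center (SpecialLinearGroup (Fin 2) F) := by
  rw [Matrix.SpecialLinearGroup.mem_center_iff] at hg ⊢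
  obtain ⟨r, hr, hrA⟩ := hg
  have hdet : g.1 0 0 * g.1 1 1 - g.1 0 1 * g.1 1 0 = 1 := by
    have := g.det_coe
    rwa [det_fin_two] at this
  have hB : (g ^ 2).1 = g.1 * g.1 := by
    rw [Matrix.SpecialLinearGroup.coe_pow, sq]
  have h4 : (g ^ 4).1 = (g.1 * g.1) * (g.1 * g.1) := by
    rw [Matrix.SpecialLinearGroup.coe_pow]
    simp [pow_succ, mul_assoc]
  have hCH : g.1 * g.1 = (g.1 0 0 + g.1 1 1) • g.1 - 1 := by
    ext i j
    fin_cases i <;> fin_cases j <;>
      simp [Matrix.mul_apply, Fin.sum_univ_two]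
    · linear_combination -hdet
    · ring
    · ring
    · linear_combination -hdet
  rw [h4, hCH] at hrA
  rw [hB, hCH]
  have e00 := congrFun (congrFun hrA 0) 0
  have e01 := congrFun (congrFun hrA 0) 1
  have e10 := congrFun (congrFun hrA 1) 0
  have e11 := congrFun (congrFun hrA 1) 1
  simp [Matrix.mul_apply, Fin.sum_univ_two] at e00 e01 e10 e11
  set a := g.1 0 0
  set b := g.1 0 1
  set c := g.1 1 0
  set d := g.1 1 1
  by_cases ht : a + d = 0
  · refine ⟨-1, by simp, ?_⟩
    rw [ht]
    ext i j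
    fin_cases i <;> fin_cases j <;> simp
  · have ht2 : (a + d) ^ 2 - 2 ≠ 0 := by
      intro h
      apply hns
      exact ⟨a + d, by linear_combination -h⟩
    have hne : (a + d) * ((a + d) ^ 2 - 2) ≠ 0 := mul_ne_zero ht ht2
    have hb : b = 0 := by
      have : (a + d) * ((a + d) ^ 2 - 2) * b = 0 := by linear_combination -e01
      rcases mul_eq_zero.1 this with h | h
      · exact absurd h hne
      · exact h
    have hc : c = 0 := by
      have : (a + d) * ((a + d) ^ 2 - 2) * c = 0 := by linear_combination -e10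
      rcases mul_eq_zero.1 this with h | h
      · exact absurd h hne
      · exact h
    have had : a = d := by
      have : (a + d) * ((a + d) ^ 2 - 2) * (a - d) = 0 := by linear_combination e11 - e00
      rcases mul_eq_zero.1 this with h | h
      · exact absurd h hne
      · linear_combination h
    refine ⟨1, by simp, ?_⟩
    rw [hb, hc, ← had] at hdet
    ext i j
    fin_cases i <;> fin_cases j <;> simp
    · show (1 : F) = (a + d) * a - 1
      rw [← had]
      linear_combination (-2 : F) * hdet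
    · right; exact hb
    · right; exact hc
    · show (1 : F) = (a + d) * d - 1
      rw [← had]
      linear_combination (-2 : F) * hdet

/-- For q = 3 or 5 mod 8 the Sylow 2-subgroups of PSL_2(q) are elementary abelian of order 4. -/
theorem result {F : Type*} [Field F] [Fintype F] {q : ℕ} (hF : Fintype.card F = q) (hq : q % 8 = 3 ∨ q % 8 = 5) (P : Sylow 2 (Matrix.ProjectiveSpecialLinearGroup (Fin 2) F)) : IsKleinFour (P : Subgroup (Matrix.ProjectiveSpecialLinearGroup (Fin 2) F)) := by
  classical
  have hns : ¬ IsSquare (2 : F) := by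
    rw [FiniteField.isSquare_two_iff, hF]
    omega
  have h2 : (2 : F) ≠ 0 := by
    apply Ring.two_ne_zero
    intro h
    have := (FiniteField.even_card_iff_char_two).1 h
    rw [hF] at this
    omega
  have hcardG := Cfsg.Agent.Lib.helper7.two_mul_card_PSL2 hF h2
  -- card P = 4
  have hcard : Nat.card (P : Subgroup (Matrix.ProjectiveSpecialLinearGroup (Fin 2) F)) = 4 := by
    obtain ⟨m, hm, hG⟩ : ∃ m : ℕ, ¬ 2 ∣ m ∧
        Nat.card (Matrix.ProjectiveSpecialLinearGroup (Fin 2) F) = 4 * m := by
      rcases hq with hq | hq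
      · obtain ⟨k, rfl⟩ : ∃ k, q = 8 * k + 3 := ⟨q / 8, by omega⟩
        refine ⟨(8 * k + 3) * (8 * k ^ 2 + 6 * k + 1), ?_, ?_⟩
        · rw [Nat.Prime.dvd_mul Nat.prime_two]
          omega
        · have : (8 * k + 3) ^ 2 - 1 = 8 * (8 * k ^ 2 + 6 * k + 1) := by
            have : (8 * k + 3) ^ 2 = 8 * (8 * k ^ 2 + 6 * k + 1) + 1 := by ring
            omega
          rw [this] at hcardG
          have h' : 2 * Nat.card (Matrix.ProjectiveSpecialLinearGroup (Fin 2) F)
              = 2 * (4 * ((8 * k + 3) * (8 * k ^ 2 + 6 * k + 1))) := by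
            rw [hcardG]; ring
          exact Nat.eq_of_mul_eq_mul_left (by norm_num) h'
      · obtain ⟨k, rfl⟩ : ∃ k, q = 8 * k + 5 := ⟨q / 8, by omega⟩
        refine ⟨(8 * k + 5) * (8 * k ^ 2 + 10 * k + 3), ?_, ?_⟩
        · rw [Nat.Prime.dvd_mul Nat.prime_two]
          omega
        · have : (8 * k + 5) ^ 2 - 1 = 8 * (8 * k ^ 2 + 10 * k + 3) := by
            have : (8 * k + 5) ^ 2 = 8 * (8 * k ^ 2 + 10 * k + 3) + 1 := by ring
            omega
          rw [this] at hcardG
          have h' : 2 * Nat.card (Matrix.ProjectiveSpecialLinearGroup (Fin 2) F)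
              = 2 * (4 * ((8 * k + 5) * (8 * k ^ 2 + 10 * k + 3))) := by
            rw [hcardG]; ring
          exact Nat.eq_of_mul_eq_mul_left (by norm_num) h'
    have hm0 : m ≠ 0 := by
      rintro rfl
      exact hm (dvd_zero 2)
    rw [Sylow.card_eq_multiplicity, hG, Nat.factorization_mul (by norm_num) hm0]
    simp only [Finsupp.coe_add, Pi.add_apply]
    rw [Nat.factorization_eq_zero_of_not_dvd hm, add_zero]
    have h4 : (4 : ℕ) = 2 ^ 2 := by norm_num
    rw [h4, Nat.Prime.factorization_pow Nat.prime_two]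
    simp
  have hfin : Finite (P : Subgroup (Matrix.ProjectiveSpecialLinearGroup (Fin 2) F)) :=
    Nat.finite_of_card_ne_zero (by rw [hcard]; norm_num)
  -- every element squares to one
  have hsq : ∀ x : (P : Subgroup (Matrix.ProjectiveSpecialLinearGroup (Fin 2) F)), x ^ 2 = 1 := by
    rintro ⟨y, hy⟩
    have hx4 : (⟨y, hy⟩ : (P : Subgroup (Matrix.ProjectiveSpecialLinearGroup (Fin 2) F))) ^ 4 = 1 := by
      rw [← hcard]
      exact pow_card_eq_one'
    have hy4 : y ^ 4 = 1 := by
      have := congrArg Subtype.val hx4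
      simpa using this
    obtain ⟨g, rfl⟩ := QuotientGroup.mk_surjective y
    rw [← QuotientGroup.mk_pow, QuotientGroup.eq_one_iff] at hy4
    have hg2 := sq_mem_center hns g hy4
    apply Subtype.ext
    show (QuotientGroup.mk g : Matrix.ProjectiveSpecialLinearGroup (Fin 2) F) ^ 2 = 1
    rw [← QuotientGroup.mk_pow, QuotientGroup.eq_one_iff]
    exact hg2
  refine ⟨hcard, ?_⟩
  have hdvd : Monoid.exponent (P : Subgroup (Matrix.ProjectiveSpecialLinearGroup (Fin 2) F)) ∣ 2 :=
    Monoid.exponent_dvd_of_forall_pow_eq_one hsq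
  rcases (Nat.dvd_prime Nat.prime_two).1 hdvd with h | h
  · exfalso
    rw [Monoid.exp_eq_one_iff] at h
    have := Nat.card_of_subsingleton (1 : (P : Subgroup (Matrix.ProjectiveSpecialLinearGroup (Fin 2) F)))
    omega
  · exact h

end Cfsg.Agent.S0276
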