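import Cfsg.Statements.S0281
import Cfsg.Agent.Lib.helper7.SUCenter
import Cfsg.Agent.Lib.helper7.CardSL

set_option autoImplicit false
open Cfsg

namespace Cfsg.Agent.S0281

open Matrix Cfsg.Agent.Lib.helper7

section

variable {F : Type*} [Field F] [Fintype F] {q : ℕ}

/-- A field with `q` elements embeds in a field with `q ^ 2` elements. -/
lemma exists_ringHom {K : Type*} [Field K] [Fintype K] (hF : Fintype.card F = q ^ 2)
    (hK : Fintype.card K = q) : Nonempty (K →+* F) := by
  obtain ⟨p, hpK, n, hp, hn⟩ := FiniteField.card' K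
  obtain ⟨p', hpF, n', hp', hn'⟩ := FiniteField.card' F
  have h : Fintype.card F = Fintype.card K ^ 2 := by rw [hF, hK]
  have hpp : p' = p := by
    rw [hn, hn', ← pow_mul] at h
    have h1 : p' ∣ p ^ ((n : ℕ) * 2) := by
      rw [← h]
      exact dvd_pow_self p' n'.ne_zero
    exact (Nat.prime_dvd_prime_iff_eq hp' hp).1 (hp'.dvd_of_dvd_pow h1)
  subst hpp
  have := Fact.mk hp
  let _ : Algebra (ZMod p') K := ZMod.algebra _ _
  let _ : Algebra (ZMod p') F := ZMod.algebra _ _
  have hfK : p' ^ Module.finrank (ZMod p') K = Fintype.card K :=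
    FiniteField.pow_finrank_eq_card p' K
  have hfF : p' ^ Module.finrank (ZMod p') F = Fintype.card F :=
    FiniteField.pow_finrank_eq_card p' F
  have hdvd : Module.finrank (ZMod p') K ∣ Module.finrank (ZMod p') F := by
    rw [h, ← hfK, ← pow_mul] at hfF
    have := Nat.pow_right_injective hp.two_le hfF
    rw [this]
    exact dvd_mul_right _ _
  obtain ⟨f⟩ := FiniteField.nonempty_algHom_of_finrank_dvd (F := ZMod p') (K := K) (L := F) hdvd
  exact ⟨f.toRingHom⟩

/-- The matrix criterion for isometries. -/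
lemma isIsom_of_eq (σ : F →+* F) (hσ : ∀ x, σ x = x ^ q) (n : ℕ)
    (M : Matrix (Fin n) (Fin n) F) (h : Mᵀ * M.map σ = 1) : IsIsom n q M := by
  intro u v
  have hh : ∀ x y : Fin n → F, hermForm n F q x y = x ⬝ᵥ (fun i => σ (y i)) := by
    intro x y
    unfold hermForm dotProduct
    simp [hσ]
  rw [hh, hh]
  have h1 : (fun i => σ ((M *ᵥ v) i)) = M.map σ *ᵥ (fun i => σ (v i)) := by
    funext i
    exact RingHom.map_mulVec σ M v i
  rw [h1, ← Matrix.vecMul_transpose, ← Matrix.dotProduct_mulVec, Matrix.mulVec_mulVec, h,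
    Matrix.one_mulVec]

omit [Fintype F] in
lemma sl2_J (B : Matrix (Fin 2) (Fin 2) F) (h : B.det = 1) :
    Bᵀ * !![0, 1; -1, 0] * B = !![0, 1; -1, 0] := by
  rw [Matrix.det_fin_two] at h
  ext i j
  fin_cases i <;> fin_cases j
  · simp [Matrix.mul_apply, Fin.sum_univ_two]
    ring
  · simp [Matrix.mul_apply, Fin.sum_univ_two]
    linear_combination h
  · simp [Matrix.mul_apply, Fin.sum_univ_two]
    linear_combination -h
  · simp [Matrix.mul_apply, Fin.sum_univ_two]
    ring

/-- A basis of isotropic vectors for the Hermitian form with anti-Hermitian Gram matrix. -/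
lemma exists_P (hF : Fintype.card F = q ^ 2) (σ : F →+* F) (hσ : ∀ x, σ x = x ^ q) :
    ∃ (P : Matrix (Fin 2) (Fin 2) F) (μ : F), μ ≠ 0 ∧ Pᵀ * P.map σ = μ • !![0, 1; -1, 0] := by
  classical
  have hq := two_le_of_card_sq hF
  have hm1 : (-1 : F) ^ q = -1 := by rw [frob_neg_all hF, one_pow]
  have hcard := card_norm_fiber hF (-1 : F) (neg_ne_zero.2 one_ne_zero) hm1
  have h1 : 1 < (Finset.univ.filter (fun x : F => x * x ^ q = -1)).card := by
    rw [hcard]
    omega
  obtain ⟨α, hα, α', hα', hne⟩ := Finset.one_lt_card.1 h1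
  rw [Finset.mem_filter] at hα hα'
  have hα := hα.2
  have hα' := hα'.2
  obtain ⟨ε, hε1, hε2⟩ := exists_norm_one_sq_ne_one hF
  have hε0 : ε ≠ 0 := by
    rintro rfl
    simp at hε1
  have hε : ε ^ q ≠ ε := by
    intro h
    apply hε2
    rw [h] at hε1
    exact eq_inv_of_mul_eq_one_left hε1
  set μ := ε - ε ^ q with hμ
  have hμ0 : μ ≠ 0 := sub_ne_zero.2 (Ne.symm hε)
  have hμq : μ ^ q = -μ := by
    rw [hμ, frob_sub_all hF, frob_frob hF]
    ring
  set ν := 1 + α * α' ^ q with hν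
  have hν0 : ν ≠ 0 := by
    intro h
    apply hne
    have : α' * ν = α' - α := by
      rw [hν]
      linear_combination α * hα'
    rw [h, mul_zero] at this
    exact (sub_eq_zero.1 this.symm).symm
  have hνq : ν ^ q = 1 + α ^ q * α' := by
    rw [hν, frob_add_all hF, one_pow, mul_pow, frob_frob hF]
  have hνq0 : ν ^ q ≠ 0 := pow_ne_zero _ hν0
  set c := -μ / ν ^ q with hc
  have hc1 : c * ν ^ q = -μ := by
    rw [hc]
    field_simp
  have hc2 : c ^ q * ν = μ := by
    rw [hc, div_pow, frob_frob hF, frob_neg_all hF, hμq]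
    field_simp
  refine ⟨!![1, c; α, c * α'], μ, hμ0, ?_⟩
  ext i j
  fin_cases i <;> fin_cases j
  · simp [Matrix.mul_apply, Fin.sum_univ_two, hσ]
    linear_combination hα
  · simp [Matrix.mul_apply, Fin.sum_univ_two, hσ]
    rw [mul_pow]
    linear_combination hc2
  · simp [Matrix.mul_apply, Fin.sum_univ_two, hσ]
    rw [hνq] at hc1
    linear_combination hc1
  · simp [Matrix.mul_apply, Fin.sum_univ_two, hσ]
    rw [mul_pow]
    linear_combination (c * c ^ q) * hα'

end

/-- SU_2(q) is isomorphic to SL_2(q). -/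
theorem result {F K : Type*} [Field F] [Fintype F] [Field K] [Fintype K] {q : ℕ} (hF : Fintype.card F = q ^ 2) (hK : Fintype.card K = q) : Nonempty (Cfsg.SU 2 F q ≃* Matrix.SpecialLinearGroup (Fin 2) K) := by
  classical
  have hq := two_le_of_card_sq hF
  obtain ⟨σ, hσ⟩ := exists_frobHom hF
  obtain ⟨φ⟩ := exists_ringHom (K := K) hF hK
  have hφσ : ∀ k, σ (φ k) = φ k := by
    intro k
    rw [hσ, ← map_pow, ← hK, FiniteField.pow_card]
  obtain ⟨P, μ, hμ, hP⟩ := exists_P hF σ hσ
  have hdetP : P.det ≠ 0 := by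
    intro h0
    have h1 := congrArg Matrix.det hP
    rw [Matrix.det_mul, Matrix.det_transpose, h0, zero_mul, Matrix.det_smul, Matrix.det_fin_two] at h1
    simp at h1
    exact hμ ((pow_eq_zero_iff two_ne_zero).1 h1.symm)
  have hPP : P * P⁻¹ = 1 := Matrix.mul_nonsing_inv P (isUnit_iff_ne_zero.2 hdetP)
  have hPP' : P⁻¹ * P = 1 := Matrix.nonsing_inv_mul P (isUnit_iff_ne_zero.2 hdetP)
  have hmapdet : ∀ A : Matrix.SpecialLinearGroup (Fin 2) K,
      ((A : Matrix (Fin 2) (Fin 2) K).map φ).det = 1 := by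
    intro A
    have h := RingHom.map_det φ (A : Matrix (Fin 2) (Fin 2) K)
    rw [A.2, map_one] at h
    exact h.symm
  have hdet : ∀ A : Matrix.SpecialLinearGroup (Fin 2) K,
      (P * (A : Matrix (Fin 2) (Fin 2) K).map φ * P⁻¹).det = 1 := by
    intro A
    rw [Matrix.det_mul, Matrix.det_mul, hmapdet, mul_one, ← Matrix.det_mul, hPP, Matrix.det_one]
  have hiso : ∀ A : Matrix.SpecialLinearGroup (Fin 2) K,
      IsIsom 2 q (P * (A : Matrix (Fin 2) (Fin 2) K).map φ * P⁻¹) := by
    intro A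
    apply isIsom_of_eq σ hσ
    set A' := (A : Matrix (Fin 2) (Fin 2) K).map φ with hA'
    have hA'σ : A'.map σ = A' := by
      ext i j
      simp [hA', hφσ]
    calc (P * A' * P⁻¹)ᵀ * (P * A' * P⁻¹).map σ
        = P⁻¹ᵀ * (A'ᵀ * (Pᵀ * P.map σ) * A') * P⁻¹.map σ := by
          rw [Matrix.transpose_mul, Matrix.transpose_mul, Matrix.map_mul, Matrix.map_mul, hA'σ]
          simp only [Matrix.mul_assoc]
      _ = P⁻¹ᵀ * (μ • (A'ᵀ * !![0, 1; -1, 0] * A')) * P⁻¹.map σ := by
          rw [hP]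
          simp only [Matrix.mul_smul, Matrix.smul_mul]
      _ = P⁻¹ᵀ * (μ • !![0, 1; -1, 0]) * P⁻¹.map σ := by
          rw [sl2_J A' (hmapdet A)]
      _ = P⁻¹ᵀ * (Pᵀ * P.map σ) * P⁻¹.map σ := by rw [hP]
      _ = (P * P⁻¹)ᵀ * (P * P⁻¹).map σ := by
          rw [Matrix.transpose_mul, Matrix.map_mul]
          simp only [Matrix.mul_assoc]
      _ = 1 := by
          rw [hPP]
          simp
  let Φ : Matrix.SpecialLinearGroup (Fin 2) K →* Cfsg.SU 2 F q :=
    { toFun := fun A => ⟨⟨P * (A : Matrix (Fin 2) (Fin 2) K).map φ * P⁻¹, hdet A⟩,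
        (mem_SU_iff 2 _).2 (hiso A)⟩
      map_one' := by
        apply Subtype.ext
        apply Subtype.ext
        show P * ((1 : Matrix.SpecialLinearGroup (Fin 2) K) : Matrix (Fin 2) (Fin 2) K).map φ * P⁻¹ = 1
        rw [Matrix.SpecialLinearGroup.coe_one, Matrix.map_one _ (map_zero φ) (map_one φ),
          Matrix.mul_one, hPP]
      map_mul' := by
        intro A B
        apply Subtype.ext
        apply Subtype.ext
        show P * ((A * B : Matrix.SpecialLinearGroup (Fin 2) K) : Matrix (Fin 2) (Fin 2) K).map φ * P⁻¹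
          = (P * (A : Matrix (Fin 2) (Fin 2) K).map φ * P⁻¹)
            * (P * (B : Matrix (Fin 2) (Fin 2) K).map φ * P⁻¹)
        rw [Matrix.SpecialLinearGroup.coe_mul, Matrix.map_mul]
        calc P * ((A : Matrix (Fin 2) (Fin 2) K).map φ * (B : Matrix (Fin 2) (Fin 2) K).map φ) * P⁻¹
            = P * (A : Matrix (Fin 2) (Fin 2) K).map φ * (1 : Matrix (Fin 2) (Fin 2) F)
              * (B : Matrix (Fin 2) (Fin 2) K).map φ * P⁻¹ := by
              rw [Matrix.mul_one]
              simp only [Matrix.mul_assoc]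
          _ = _ := by
              rw [← hPP']
              simp only [Matrix.mul_assoc] }
  have hinj : Function.Injective Φ := by
    intro A B h
    have h1 : P * (A : Matrix (Fin 2) (Fin 2) K).map φ * P⁻¹
        = P * (B : Matrix (Fin 2) (Fin 2) K).map φ * P⁻¹ :=
      congrArg (fun g : Cfsg.SU 2 F q => ((g.1 : Matrix.SpecialLinearGroup (Fin 2) F) :
        Matrix (Fin 2) (Fin 2) F)) h
    have h2 : (A : Matrix (Fin 2) (Fin 2) K).map φ = (B : Matrix (Fin 2) (Fin 2) K).map φ := by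
      have h3 : P⁻¹ * (P * (A : Matrix (Fin 2) (Fin 2) K).map φ * P⁻¹) * P
          = P⁻¹ * (P * (B : Matrix (Fin 2) (Fin 2) K).map φ * P⁻¹) * P := by rw [h1]
      have e : ∀ X : Matrix (Fin 2) (Fin 2) F, P⁻¹ * (P * X * P⁻¹) * P = X := by
        intro X
        calc P⁻¹ * (P * X * P⁻¹) * P = (P⁻¹ * P) * X * (P⁻¹ * P) := by
              simp only [Matrix.mul_assoc]
          _ = X := by rw [hPP', Matrix.one_mul, Matrix.mul_one]
      rw [e, e] at h3
      exact h3
    apply Subtype.ext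
    ext i j
    have h4 := congrFun (congrFun h2 i) j
    simp only [Matrix.map_apply] at h4
    exact φ.injective h4
  have hcard : Nat.card (Cfsg.SU 2 F q) ≤ Nat.card (Matrix.SpecialLinearGroup (Fin 2) K) := by
    have h1 := card_SU hF 2 (by norm_num)
    have h2 := card_SL2 hK
    rw [h2]
    have h3 : q ^ (2 * (2 - 1) / 2) * ∏ i ∈ Finset.range 2,
        (if Even i then q ^ (i + 1) + 1 else q ^ (i + 1) - 1) = (q + 1) * (q * (q ^ 2 - 1)) := by
      rw [Finset.prod_range_succ, Finset.prod_range_one]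
      simp
      ring
    rw [h3] at h1
    exact le_of_eq (Nat.eq_of_mul_eq_mul_left (by omega) h1)
  exact ⟨(MulEquiv.ofBijective Φ (hinj.bijective_of_nat_card_le hcard)).symm⟩

end Cfsg.Agent.S0281
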