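import Cfsg.Statements.S0285
import Cfsg.Agent.Lib.helper7.Herm

set_option autoImplicit false
open Cfsg

namespace Cfsg.Agent.S0285

open Cfsg.Agent.Lib.helper7

/-- The standard Hermitian form on F^n, |F| = q^2, has exactly (q^n - (-1)^n)(q^(n-1) + (-1)^n) non-zero isotropic vectors; counting the zero vector too: -/
theorem result {F : Type*} [Field F] [Fintype F] {q : ℕ} (hF : Fintype.card F = q ^ 2) (n : ℕ) : Nat.card {v : Fin n → F // Cfsg.hermForm n F q v v = 0} = (if Even n then (q ^ n - 1) * (q ^ (n - 1) + 1) else (q ^ n + 1) * (q ^ (n - 1) - 1)) + 1 := by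
  classical
  have hq := two_le_of_card_sq hF
  have h := card_herm_eq hF n (0 : F) (zero_pow (by omega))
  rw [if_pos rfl] at h
  have h' : Nat.card {v : Fin n → F // Cfsg.hermForm n F q v v = 0} = (hermCount q n).2 := h
  rw [h']
  cases n with
  | zero => simp [hermCount_zero]
  | succ m =>
    have hc := (hermCount_closed q hq m).2
    have hpos : 1 ≤ q ^ (m + 1) := Nat.one_le_pow _ _ (by omega)
    have hpos' : 1 ≤ q ^ m := Nat.one_le_pow _ _ (by omega)
    simp only [Nat.add_sub_cancel]
    rcases Nat.even_or_odd m with hm | hm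
    · have hne : ¬ Even (m + 1) := by
        rw [Nat.not_even_iff_odd]; exact hm.add_one
      rw [if_neg hne]
      rw [hm.neg_one_pow] at hc
      have : (((q ^ (m + 1) + 1) * (q ^ m - 1) + 1 : ℕ) : ℤ)
          = (q : ℤ) ^ (2 * m + 1) - 1 * (q : ℤ) ^ (m + 1) + 1 * (q : ℤ) ^ m := by
        push_cast [Nat.cast_sub hpos']
        ring
      rw [← this] at hc
      exact_mod_cast hc
    · have he : Even (m + 1) := hm.add_one
      rw [if_pos he]
      rw [hm.neg_one_pow] at hc
      have : (((q ^ (m + 1) - 1) * (q ^ m + 1) + 1 : ℕ) : ℤ)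
          = (q : ℤ) ^ (2 * m + 1) - (-1) * (q : ℤ) ^ (m + 1) + (-1) * (q : ℤ) ^ m := by
        push_cast [Nat.cast_sub hpos]
        ring
      rw [← this] at hc
      exact_mod_cast hc

end Cfsg.Agent.S0285
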