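import Cfsg.Statements.S0296
import Cfsg.Agent.S0786
import Cfsg.Agent.Lib.helper49.Forms
import Cfsg.Agent.Lib.helper42.FormsNondeg
import Cfsg.Agent.Lib.helper7.OmegaSimple

set_option autoImplicit false
open Cfsg

namespace Cfsg.Agent.S0296

/-- PΩ^+_{2m}(q) is simple for m at least 4. -/
theorem result {F : Type*} [Field F] [Fintype F] (m : ℕ) (hm : 4 ≤ m) : IsSimpleGroup (Cfsg.POmega F (Cfsg.quadFormPlus m F)) := by
  have hQ := Cfsg.Agent.Lib.helper42.plusForm_nondegenerate (F := F) m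
  have hcard : Fintype.card (Fin m ⊕ Fin m) = m + m := by simp
  exact Cfsg.Agent.Lib.helper7.RootElt.isSimpleGroup_POmega (Cfsg.Agent.Lib.helper49.plusForm m F) hQ
    (by rw [hcard]; omega)
    (Cfsg.Agent.S0786.reflSubgroup_eq_top' _ hQ (Or.inr (by rw [hcard]; omega)))

end Cfsg.Agent.S0296
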