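import Cfsg.Statements.S0298
import Cfsg.Agent.S0286
import Cfsg.Agent.S0264
import Cfsg.Agent.Lib.helper7.CardSL

set_option autoImplicit false
open Cfsg

namespace Cfsg.Agent.S0298

open Matrix
open scoped commutatorElement

variable {F : Type*} [Field F]

/-- index type of the 3-dimensional space -/
abbrev I3 : Type := Unit ⊕ (Fin 1 ⊕ Fin 1)

/-- the trace-zero matrix attached to a vector -/
def toM (v : I3 → F) : Matrix (Fin 2) (Fin 2) F :=
  !![v (.inl ()), v (.inr (.inl 0)); v (.inr (.inr 0)), - v (.inl ())]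

/-- the vector attached to a matrix -/
def ofM (M : Matrix (Fin 2) (Fin 2) F) : I3 → F :=
  Sum.elim (fun _ => M 0 0) (Sum.elim (fun _ => M 0 1) (fun _ => M 1 0))

lemma ofM_toM (v : I3 → F) : ofM (toM v) = v := by
  funext i
  rcases i with ⟨⟩ | i | i
  · simp [ofM, toM]
  · have : i = 0 := Subsingleton.elim _ _
    subst this; simp [ofM, toM]
  · have : i = 0 := Subsingleton.elim _ _
    subst this; simp [ofM, toM]

lemma toM_ofM (M : Matrix (Fin 2) (Fin 2) F) (h : M.trace = 0) : toM (ofM M) = M := by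
  rw [Matrix.trace_fin_two] at h
  ext i j
  fin_cases i <;> fin_cases j <;> simp [ofM, toM]
  linear_combination (-1 : F) * h

lemma trace_toM (v : I3 → F) : (toM v).trace = 0 := by
  rw [Matrix.trace_fin_two]; simp [toM]

lemma det_toM (v : I3 → F) : (toM v).det = - Cfsg.quadFormOdd 1 F v := by
  rw [Matrix.det_fin_two]
  simp [toM, Cfsg.quadFormOdd]
  ring

lemma toM_add (v w : I3 → F) : toM (v + w) = toM v + toM w := by
  ext i j
  fin_cases i <;> fin_cases j <;> simp [toM]
  ring

lemma toM_smul (c : F) (v : I3 → F) : toM (c • v) = c • toM v := by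
  ext i j
  fin_cases i <;> fin_cases j <;> simp [toM]

lemma ofM_add (M N : Matrix (Fin 2) (Fin 2) F) : ofM (M + N) = ofM M + ofM N := by
  funext i
  rcases i with ⟨⟩ | i | i <;> simp [ofM]

lemma ofM_smul (c : F) (M : Matrix (Fin 2) (Fin 2) F) : ofM (c • M) = c • ofM M := by
  funext i
  rcases i with ⟨⟩ | i | i <;> simp [ofM]

lemma trace_conj (g : GL (Fin 2) F) (M : Matrix (Fin 2) (Fin 2) F) :
    (g.1 * M * (g⁻¹).1).trace = M.trace :=
  Matrix.trace_units_conj g M

/-- the conjugation action on the 3-space -/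
def L (g : GL (Fin 2) F) : (I3 → F) →ₗ[F] (I3 → F) where
  toFun v := ofM (g.1 * toM v * (g⁻¹).1)
  map_add' v w := by rw [toM_add, mul_add, add_mul, ofM_add]
  map_smul' c v := by
    rw [toM_smul, Matrix.mul_smul, Matrix.smul_mul, ofM_smul]; rfl

lemma toM_L (g : GL (Fin 2) F) (v : I3 → F) : toM (L g v) = g.1 * toM v * (g⁻¹).1 := by
  show toM (ofM _) = _
  rw [toM_ofM]
  rw [trace_conj, trace_toM]

lemma L_one : L (1 : GL (Fin 2) F) = LinearMap.id := by
  apply LinearMap.ext
  intro v
  show ofM _ = v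
  simp [ofM_toM]

lemma L_mul (g h : GL (Fin 2) F) : L (g * h) = (L g).comp (L h) := by
  apply LinearMap.ext
  intro v
  show ofM _ = ofM (g.1 * toM (L h v) * (g⁻¹).1)
  rw [toM_L]
  simp [mul_assoc]

lemma Q_L (g : GL (Fin 2) F) (v : I3 → F) :
    Cfsg.quadFormOdd 1 F (L g v) = Cfsg.quadFormOdd 1 F v := by
  have h1 := det_toM (L g v)
  rw [toM_L, Matrix.det_units_conj, det_toM] at h1
  exact neg_injective h1.symm

/-- the matrix version -/
def rho0 : GL (Fin 2) F →* Matrix I3 I3 F where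
  toFun g := LinearMap.toMatrix' (L g)
  map_one' := by rw [L_one, LinearMap.toMatrix'_id]
  map_mul' g h := by rw [L_mul, LinearMap.toMatrix'_comp]

/-- the homomorphism to `GL_3` -/
def rho : GL (Fin 2) F →* GL I3 F := rho0.toHomUnits

lemma rho_mulVec (g : GL (Fin 2) F) (v : I3 → F) : (rho g).1 *ᵥ v = L g v := by
  show LinearMap.toMatrix' (L g) *ᵥ v = _
  rw [LinearMap.toMatrix'_mulVec]

lemma rho_mem (g : GL (Fin 2) F) : rho g ∈ Cfsg.isometryGroup F (Cfsg.quadFormOdd 1 F) := by
  rw [Cfsg.Agent.Lib.helper50.mem_isometryGroup_iff]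
  intro u
  rw [rho_mulVec, Q_L]

/-- the homomorphism to the isometry group -/
def rhoO : GL (Fin 2) F →* Cfsg.isometryGroup F (Cfsg.quadFormOdd 1 F) :=
  rho.codRestrict _ rho_mem

lemma rhoO_eq_one_iff (g : GL (Fin 2) F) :
    rhoO g = 1 ↔ ∀ v : I3 → F, g.1 * toM v = toM v * g.1 := by
  have h1 : rhoO g = 1 ↔ L g = LinearMap.id := by
    rw [Subtype.ext_iff, Units.ext_iff]
    show LinearMap.toMatrix' (L g) = 1 ↔ _
    rw [← LinearMap.toMatrix'_id]
    exact LinearMap.toMatrix'.injective.eq_iff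
  rw [h1]
  constructor
  · intro h v
    have h2 := toM_L g v
    rw [h] at h2
    have h3 : toM v * g.1 = g.1 * toM v * (g⁻¹).1 * g.1 := by rw [← h2]; rfl
    rw [h3, mul_assoc, ← Units.val_mul, inv_mul_cancel, Units.val_one, mul_one]
  · intro h
    apply LinearMap.ext; intro v
    show ofM (g.1 * toM v * (g⁻¹).1) = v
    rw [h v, mul_assoc, ← Units.val_mul, mul_inv_cancel, Units.val_one, mul_one, ofM_toM]

lemma ker_rhoO : (rhoO : GL (Fin 2) F →* _).ker = Subgroup.center (GL (Fin 2) F) := by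
  ext g
  rw [MonoidHom.mem_ker, rhoO_eq_one_iff,
    Matrix.GeneralLinearGroup.mem_center_iff_val_mem_range_scalar]
  constructor
  · intro h
    apply Matrix.mem_range_scalar_of_commute_single
    intro i j hij
    have h0 : (Matrix.single i j (1 : F)).trace = 0 := Matrix.trace_single_eq_of_ne _ _ _ hij
    have h1 := h (ofM (Matrix.single i j (1 : F)))
    rw [toM_ofM _ h0] at h1
    exact h1.symm
  · rintro ⟨a, ha⟩ v
    rw [← ha]
    exact (Matrix.scalar_commute a (fun _ => Commute.all _ _) _).eq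

lemma card_center_GL2 [Fintype F] :
    Nat.card (Subgroup.center (GL (Fin 2) F)) = Fintype.card F - 1 := by
  classical
  rw [Matrix.GeneralLinearGroup.center_eq_range_scalar]
  have hinj : Function.Injective
      (Matrix.GeneralLinearGroup.scalar (Fin 2) : Fˣ →* GL (Fin 2) F) := by
    intro a b hab
    have := congrArg (fun g : GL (Fin 2) F => g.1 0 0) hab
    simpa [Matrix.GeneralLinearGroup.coe_scalar, Units.ext_iff] using this
  rw [← Nat.card_congr (MonoidHom.ofInjective hinj).toEquiv, Nat.card_eq_fintype_card,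
    Fintype.card_units]

lemma card_range_rhoO [Fintype F] :
    Nat.card (rhoO : GL (Fin 2) F →* _).range =
      Fintype.card F * (Fintype.card F ^ 2 - 1) := by
  classical
  have h1 : Nat.card (rhoO : GL (Fin 2) F →* _).range * (Fintype.card F - 1)
      = Nat.card (GL (Fin 2) F) := by
    rw [← Subgroup.index_ker, ← card_center_GL2, ← ker_rhoO, mul_comm]
    exact Subgroup.card_mul_index _
  rw [Matrix.card_GL_field, Fin.prod_univ_two] at h1
  have hq : 2 ≤ Fintype.card F := Fintype.one_lt_card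
  have h2 : Fintype.card F ^ 2 - Fintype.card F ^ ((1 : Fin 2) : ℕ)
      = Fintype.card F * (Fintype.card F - 1) := by
    simp only [Fin.val_one, pow_one]
    rw [Nat.mul_sub, mul_one, sq]
  have h3 : Fintype.card F ^ 2 - Fintype.card F ^ ((0 : Fin 2) : ℕ)
      = Fintype.card F ^ 2 - 1 := by simp
  rw [h2, h3] at h1
  have hpos : 0 < Fintype.card F - 1 := by omega
  apply Nat.eq_of_mul_eq_mul_right hpos
  rw [h1]; ring

/-- the isometry `-1` -/
def negO : Cfsg.isometryGroup F (Cfsg.quadFormOdd 1 F) :=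
  ⟨-1, by
    rw [Cfsg.Agent.Lib.helper50.mem_isometryGroup_iff]
    intro u
    rw [Units.val_neg, Units.val_one, Matrix.neg_mulVec, Matrix.one_mulVec]
    simp [Cfsg.quadFormOdd]⟩

lemma negO_comm (w : Cfsg.isometryGroup F (Cfsg.quadFormOdd 1 F)) : negO * w = w * negO := by
  apply Subtype.ext
  apply Units.ext
  show (-1 : GL I3 F).1 * w.1.1 = w.1.1 * (-1 : GL I3 F).1
  simp

lemma negO_mul_self : (negO : Cfsg.isometryGroup F (Cfsg.quadFormOdd 1 F)) * negO = 1 := by
  apply Subtype.ext
  apply Units.ext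
  show (-1 : GL I3 F).1 * (-1 : GL I3 F).1 = 1
  simp

lemma negO_not_mem (h2 : (2 : F) ≠ 0) : negO ∉ (rhoO : GL (Fin 2) F →* _).range := by
  rintro ⟨g, hg⟩
  have hL : ∀ v : I3 → F, L g v = - v := by
    intro v
    rw [← rho_mulVec]
    have : (rho g).1 = -1 := by
      have h : (rho g).1 = (-1 : GL I3 F).1 :=
        congrArg (fun x : Cfsg.isometryGroup F (Cfsg.quadFormOdd 1 F) => (x.1 : GL I3 F).1) hg
      rw [h]; simp
    rw [this, Matrix.neg_mulVec, Matrix.one_mulVec]
  have hM : ∀ M : Matrix (Fin 2) (Fin 2) F, M.trace = 0 → g.1 * M = - (M * g.1) := by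
    intro M hM
    have h1 := toM_L g (ofM M)
    rw [hL, toM_ofM M hM] at h1
    have h3 : toM (-(ofM M)) = - M := by
      have : -(ofM M) = (-1 : F) • ofM M := by simp
      rw [this, toM_smul, toM_ofM M hM]; simp
    rw [h3] at h1
    have h4 : -M * g.1 = g.1 * M * (g⁻¹).1 * g.1 := by rw [h1]
    rw [mul_assoc, ← Units.val_mul, inv_mul_cancel, Units.val_one, mul_one] at h4
    rw [← h4]; simp
  have e1 := hM !![0, 1; 0, 0] (by simp [Matrix.trace_fin_two])
  have e2 := hM !![0, 0; 1, 0] (by simp [Matrix.trace_fin_two])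
  have e3 := hM !![1, 0; 0, -1] (by simp [Matrix.trace_fin_two])
  have a10 : g.1 1 0 = 0 := by
    have := congrFun (congrFun e1 1) 1
    simpa [Matrix.mul_apply, Fin.sum_univ_two, Matrix.vecMul, dotProduct] using this
  have a01 : g.1 0 1 = 0 := by
    have := congrFun (congrFun e2 0) 0
    simpa [Matrix.mul_apply, Fin.sum_univ_two, Matrix.vecMul, dotProduct] using this
  have a00 : g.1 0 0 = 0 := by
    have := congrFun (congrFun e3 0) 0
    simp [Matrix.mul_apply, Fin.sum_univ_two, Matrix.vecMul, dotProduct] at this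
    have h5 : (2 : F) * g.1 0 0 = 0 := by linear_combination this
    rcases mul_eq_zero.mp h5 with h | h
    · exact absurd h h2
    · exact h
  have h6 : (g.1 * (g⁻¹).1) 0 0 = 1 := by
    rw [← Units.val_mul, mul_inv_cancel]; simp
  rw [Matrix.mul_apply, Fin.sum_univ_two, a00, a01] at h6
  simp at h6

lemma index_range_rhoO [Fintype F] (hodd : Odd (Fintype.card F)) :
    (rhoO : GL (Fin 2) F →* _).range.index = 2 := by
  have h1 := Subgroup.card_mul_index (rhoO : GL (Fin 2) F →* _).range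
  rw [card_range_rhoO, Cfsg.Agent.S0286.result rfl hodd 1] at h1
  have hq : 2 ≤ Fintype.card F := Fintype.one_lt_card
  have hpos : 0 < Fintype.card F * (Fintype.card F ^ 2 - 1) := by
    have : 4 ≤ Fintype.card F ^ 2 := by nlinarith
    apply Nat.mul_pos <;> omega
  apply Nat.eq_of_mul_eq_mul_left hpos
  rw [h1]
  simp [Finset.prod_range_one]
  ring

lemma mem_or_neg_mem [Fintype F] (hodd : Odd (Fintype.card F)) (h2 : (2 : F) ≠ 0)
    (x : Cfsg.isometryGroup F (Cfsg.quadFormOdd 1 F)) :
    x ∈ (rhoO : GL (Fin 2) F →* _).range ∨ negO * x ∈ (rhoO : GL (Fin 2) F →* _).range := by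
  by_cases hx : x ∈ (rhoO : GL (Fin 2) F →* _).range
  · exact Or.inl hx
  · right
    rw [Subgroup.mul_mem_iff_of_index_two (index_range_rhoO hodd)]
    exact ⟨fun h => absurd h (negO_not_mem h2), fun h => absurd h hx⟩

lemma comm_central_left {G : Type*} [Group G] (z a b : G) (hz : ∀ w, z * w = w * z) :
    ⁅z * a, b⁆ = ⁅a, b⁆ := by
  rw [commutatorElement_def, commutatorElement_def, _root_.mul_inv_rev]
  have h1 : z⁻¹ * b⁻¹ = b⁻¹ * z⁻¹ := by rw [← _root_.mul_inv_rev, ← _root_.mul_inv_rev, hz]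
  calc z * a * b * (a⁻¹ * z⁻¹) * b⁻¹ = z * (a * b * a⁻¹ * b⁻¹) * z⁻¹ := by
        simp only [mul_assoc, h1]
    _ = _ := by rw [hz, mul_inv_cancel_right]

lemma comm_central_right {G : Type*} [Group G] (z a b : G) (hz : ∀ w, z * w = w * z) :
    ⁅a, z * b⁆ = ⁅a, b⁆ := by
  rw [commutatorElement_def, commutatorElement_def, _root_.mul_inv_rev]
  calc a * (z * b) * a⁻¹ * (b⁻¹ * z⁻¹) = z * (a * b * a⁻¹ * b⁻¹) * z⁻¹ := by
        rw [← mul_assoc a z b, ← hz a]; simp only [mul_assoc]
    _ = _ := by rw [hz, mul_inv_cancel_right]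

lemma commutator_le_map [Fintype F] (hodd : Odd (Fintype.card F)) (h2 : (2 : F) ≠ 0) :
    commutator (Cfsg.isometryGroup F (Cfsg.quadFormOdd 1 F)) ≤
      (Matrix.GeneralLinearGroup.det : GL (Fin 2) F →* Fˣ).ker.map rhoO := by
  rw [commutator_def, Subgroup.commutator_le]
  intro x _ y _
  have key : ∀ g h : GL (Fin 2) F, ⁅rhoO g, rhoO h⁆ ∈
      (Matrix.GeneralLinearGroup.det : GL (Fin 2) F →* Fˣ).ker.map rhoO := by
    intro g h
    rw [← map_commutatorElement]
    refine Subgroup.mem_map_of_mem _ ?_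
    rw [MonoidHom.mem_ker, map_commutatorElement]
    exact commutatorElement_eq_one_iff_commute.mpr (Commute.all _ _)
  have hx : ∃ g, x = rhoO g ∨ x = negO * rhoO g := by
    rcases mem_or_neg_mem hodd h2 x with ⟨g, hg⟩ | ⟨g, hg⟩
    · exact ⟨g, Or.inl hg.symm⟩
    · exact ⟨g, Or.inr (by rw [hg, ← mul_assoc, negO_mul_self, one_mul])⟩
  have hy : ∃ g, y = rhoO g ∨ y = negO * rhoO g := by
    rcases mem_or_neg_mem hodd h2 y with ⟨g, hg⟩ | ⟨g, hg⟩
    · exact ⟨g, Or.inl hg.symm⟩
    · exact ⟨g, Or.inr (by rw [hg, ← mul_assoc, negO_mul_self, one_mul])⟩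
  obtain ⟨g, hg⟩ := hx
  obtain ⟨h, hh⟩ := hy
  have e : ⁅x, y⁆ = ⁅rhoO g, rhoO h⁆ := by
    rcases hg with rfl | rfl <;> rcases hh with rfl | rfl
    · rfl
    · rw [comm_central_right _ _ _ negO_comm]
    · rw [comm_central_left _ _ _ negO_comm]
    · rw [comm_central_right _ _ _ negO_comm, comm_central_left _ _ _ negO_comm]
  rw [e]
  exact key g h

lemma map_le_commutator (hF : ∃ a : F, a ≠ 0 ∧ a ≠ 1) :
    (Matrix.GeneralLinearGroup.det : GL (Fin 2) F →* Fˣ).ker.map rhoO ≤
      commutator (Cfsg.isometryGroup F (Cfsg.quadFormOdd 1 F)) := by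
  rw [← Cfsg.Agent.S0264.result 2 (fun _ => hF), commutator_def, Subgroup.map_commutator,
    commutator_def]
  exact Subgroup.commutator_mono le_top le_top

lemma mem_center_of_quasi_commute (h2 : (2 : F) ≠ 0) (g : SpecialLinearGroup (Fin 2) F)
    (H : ∀ h : SpecialLinearGroup (Fin 2) F,
      g * h * g⁻¹ * h⁻¹ ∈ Subgroup.center (SpecialLinearGroup (Fin 2) F)) :
    g ∈ Subgroup.center (SpecialLinearGroup (Fin 2) F) := by
  have key : ∀ h : SpecialLinearGroup (Fin 2) F, ∃ r : F, r ^ 2 = 1 ∧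
      r • (h.1 * g.1) = g.1 * h.1 := by
    intro h
    obtain ⟨r, hr1, hr2⟩ := Matrix.SpecialLinearGroup.mem_center_iff.mp (H h)
    refine ⟨r, by simpa using hr1, ?_⟩
    have e : (g * h * g⁻¹ * h⁻¹) * (h * g) = g * h := by group
    have e' : (g * h * g⁻¹ * h⁻¹).1 * (h.1 * g.1) = g.1 * h.1 := congrArg Subtype.val e
    rw [← hr2] at e'
    rw [← e']
    simp [Matrix.smul_eq_diagonal_mul]
  have hdet : g.1 0 0 * g.1 1 1 - g.1 0 1 * g.1 1 0 = 1 := by
    have := g.2
    rwa [Matrix.det_fin_two] at this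
  obtain ⟨r, hr1, hr⟩ := key ⟨!![1, 1; 0, 1], by simp [Matrix.det_fin_two]⟩
  obtain ⟨r', hr1', hr'⟩ := key ⟨!![1, 0; 1, 1], by simp [Matrix.det_fin_two]⟩
  have a1 := congrFun (congrFun hr 1) 0
  have a2 := congrFun (congrFun hr 0) 0
  have a3 := congrFun (congrFun hr 0) 1
  rw [Matrix.smul_apply, Matrix.mul_apply, Matrix.mul_apply, Fin.sum_univ_two,
    Fin.sum_univ_two] at a1 a2 a3
  simp at a1 a2 a3
  have b1 := congrFun (congrFun hr' 0) 1
  have b2 := congrFun (congrFun hr' 0) 0
  rw [Matrix.smul_apply, Matrix.mul_apply, Matrix.mul_apply, Fin.sum_univ_two,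
    Fin.sum_univ_two] at b1 b2
  simp at b1 b2
  have hr : r = 1 := by
    have h3 : (r - 1) * (r + 1) = 0 := by linear_combination hr1
    rcases mul_eq_zero.mp h3 with h | h
    · linear_combination h
    · exfalso
      have hrm : r = -1 := by linear_combination h
      rw [hrm] at a1 a2
      have hc : g.1 1 0 = 0 := by
        have : (2 : F) * g.1 1 0 = 0 := by linear_combination -a1
        rcases mul_eq_zero.mp this with h | h
        · exact absurd h h2
        · exact h
      rw [hc] at a2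
      have ha : g.1 0 0 = 0 := by
        have : (2 : F) * g.1 0 0 = 0 := by linear_combination -a2
        rcases mul_eq_zero.mp this with h | h
        · exact absurd h h2
        · exact h
      rw [ha, hc] at hdet
      simp at hdet
  have hr' : r' = 1 := by
    have h3 : (r' - 1) * (r' + 1) = 0 := by linear_combination hr1'
    rcases mul_eq_zero.mp h3 with h | h
    · linear_combination h
    · exfalso
      have hrm : r' = -1 := by linear_combination h
      rw [hrm] at b1 b2
      have hb : g.1 0 1 = 0 := by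
        have : (2 : F) * g.1 0 1 = 0 := by linear_combination -b1
        rcases mul_eq_zero.mp this with h | h
        · exact absurd h h2
        · exact h
      rw [hb] at b2
      have ha : g.1 0 0 = 0 := by
        have : (2 : F) * g.1 0 0 = 0 := by linear_combination -b2
        rcases mul_eq_zero.mp this with h | h
        · exact absurd h h2
        · exact h
      rw [ha, hb] at hdet
      simp at hdet
  rw [hr] at a2 a3
  rw [hr'] at b2
  have hc : g.1 1 0 = 0 := by linear_combination a2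
  have hd : g.1 1 1 = g.1 0 0 := by linear_combination a3
  have hb : g.1 0 1 = 0 := by linear_combination -b2
  rw [Matrix.SpecialLinearGroup.mem_center_iff]
  refine ⟨g.1 0 0, ?_, ?_⟩
  · rw [hd, hb] at hdet
    simp only [Fintype.card_fin]
    linear_combination hdet
  · ext i j
    fin_cases i <;> fin_cases j <;> simp [hc, hd, hb]

/-- PΩ_3(q) is isomorphic to PSL_2(q) for q odd. -/
theorem result {F : Type*} [Field F] [Fintype F] (hodd : Odd (Fintype.card F)) : Nonempty (Cfsg.POmega F (Cfsg.quadFormOdd 1 F) ≃* Matrix.ProjectiveSpecialLinearGroup (Fin 2) F) := by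
  classical
  have h2 : (2 : F) ≠ 0 := by
    apply Ring.two_ne_zero
    intro hchar
    have := FiniteField.even_card_of_char_two hchar
    rcases hodd with ⟨t, ht⟩
    omega
  have hF : ∃ a : F, a ≠ 0 ∧ a ≠ 1 :=
    ⟨-1, by simp, fun h => h2 (by linear_combination -h)⟩
  have hΩ : commutator (Cfsg.isometryGroup F (Cfsg.quadFormOdd 1 F)) =
      (Matrix.GeneralLinearGroup.det : GL (Fin 2) F →* Fˣ).ker.map rhoO :=
    le_antisymm (commutator_le_map hodd h2) (map_le_commutator hF)
  have hmem : ∀ g : SpecialLinearGroup (Fin 2) F,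
      (rhoO.comp SpecialLinearGroup.toGL) g ∈
        commutator (Cfsg.isometryGroup F (Cfsg.quadFormOdd 1 F)) := by
    intro g
    rw [hΩ]
    refine Subgroup.mem_map_of_mem _ ?_
    rw [MonoidHom.mem_ker]
    ext
    simp
  let φ : SpecialLinearGroup (Fin 2) F →*
      commutator (Cfsg.isometryGroup F (Cfsg.quadFormOdd 1 F)) :=
    (rhoO.comp SpecialLinearGroup.toGL).codRestrict _ hmem
  have hφ : ∀ g, (φ g).1 = rhoO (SpecialLinearGroup.toGL g) := fun g => rfl
  have hsurj : Function.Surjective φ := by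
    rintro ⟨x, hx⟩
    have hx' : x ∈ (Matrix.GeneralLinearGroup.det : GL (Fin 2) F →* Fˣ).ker.map rhoO :=
      hΩ ▸ hx
    obtain ⟨g, hg, rfl⟩ := hx'
    have hdet : g.1.det = 1 := by
      have := congrArg Units.val (MonoidHom.mem_ker.mp hg)
      simpa using this
    refine ⟨(⟨g.1, hdet⟩ : SpecialLinearGroup (Fin 2) F), ?_⟩
    apply Subtype.ext
    show rhoO (SpecialLinearGroup.toGL (⟨g.1, hdet⟩ : SpecialLinearGroup (Fin 2) F)) = rhoO g
    congr 1
    exact Units.ext rfl
  have hker : φ.ker = Subgroup.center (SpecialLinearGroup (Fin 2) F) := by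
    ext g
    rw [MonoidHom.mem_ker, ← SpecialLinearGroup.toGL_mem_center_iff, ← ker_rhoO,
      MonoidHom.mem_ker, Subtype.ext_iff, hφ]
    rfl
  have e1 : Matrix.ProjectiveSpecialLinearGroup (Fin 2) F ≃*
      commutator (Cfsg.isometryGroup F (Cfsg.quadFormOdd 1 F)) :=
    (QuotientGroup.quotientMulEquivOfEq hker.symm).trans
      (QuotientGroup.quotientKerEquivOfSurjective φ hsurj)
  have hcenter : Subgroup.center (commutator (Cfsg.isometryGroup F (Cfsg.quadFormOdd 1 F)))
      = ⊥ := by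
    rw [eq_bot_iff]
    intro z hz
    obtain ⟨g, rfl⟩ := hsurj z
    rw [Subgroup.mem_bot, ← MonoidHom.mem_ker, hker]
    apply mem_center_of_quasi_commute h2
    intro h
    rw [← hker, MonoidHom.mem_ker, map_mul, map_mul, map_mul, map_inv, map_inv]
    have := Subgroup.mem_center_iff.mp hz (φ h)
    rw [mul_inv_eq_one, mul_inv_eq_iff_eq_mul, this]
  exact ⟨((QuotientGroup.quotientMulEquivOfEq hcenter).trans QuotientGroup.quotientBot).trans
    e1.symm⟩

end Cfsg.Agent.S0298
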