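import Cfsg.Statements.S0299
import Cfsg.Agent.S0287
import Cfsg.Agent.S0264
import Cfsg.Agent.S0298
import Cfsg.Agent.Lib.helper7.CardSL

set_option autoImplicit false
open Cfsg

namespace Cfsg.Agent.S0299

open Matrix
open scoped commutatorElement

variable {F : Type*} [Field F]

/-- index type of the 4-dimensional space -/
abbrev I4 : Type := Fin 2 ⊕ Fin 2

/-- the 2x2 matrix attached to a vector -/
def toM (v : I4 → F) : Matrix (Fin 2) (Fin 2) F :=
  !![v (.inl 0), v (.inl 1); - v (.inr 1), v (.inr 0)]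

/-- the vector attached to a matrix -/
def ofM (M : Matrix (Fin 2) (Fin 2) F) : I4 → F :=
  Sum.elim ![M 0 0, M 0 1] ![M 1 1, - M 1 0]

lemma ofM_toM (v : I4 → F) : ofM (toM v) = v := by
  funext i
  rcases i with i | i <;> fin_cases i <;> simp [ofM, toM]

lemma toM_ofM (M : Matrix (Fin 2) (Fin 2) F) : toM (ofM M) = M := by
  ext i j
  fin_cases i <;> fin_cases j <;> simp [ofM, toM]

lemma det_toM (v : I4 → F) : (toM v).det = Cfsg.quadFormPlus 2 F v := by
  rw [Matrix.det_fin_two]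
  simp [toM, Cfsg.quadFormPlus, Fin.sum_univ_two]

lemma toM_add (v w : I4 → F) : toM (v + w) = toM v + toM w := by
  ext i j
  fin_cases i <;> fin_cases j <;> simp [toM]
  ring

lemma toM_smul (c : F) (v : I4 → F) : toM (c • v) = c • toM v := by
  ext i j
  fin_cases i <;> fin_cases j <;> simp [toM]

lemma ofM_add (M N : Matrix (Fin 2) (Fin 2) F) : ofM (M + N) = ofM M + ofM N := by
  funext i
  rcases i with i | i <;> fin_cases i <;> simp [ofM]
  ring

lemma ofM_smul (c : F) (M : Matrix (Fin 2) (Fin 2) F) : ofM (c • M) = c • ofM M := by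
  funext i
  rcases i with i | i <;> fin_cases i <;> simp [ofM]

/-- the action `M ↦ g M h⁻¹` on the 4-space -/
def L (g h : GL (Fin 2) F) : (I4 → F) →ₗ[F] (I4 → F) where
  toFun v := ofM (g.1 * toM v * (h⁻¹).1)
  map_add' v w := by rw [toM_add, mul_add, add_mul, ofM_add]
  map_smul' c v := by
    rw [toM_smul, Matrix.mul_smul, Matrix.smul_mul, ofM_smul]; rfl

lemma toM_L (g h : GL (Fin 2) F) (v : I4 → F) : toM (L g h v) = g.1 * toM v * (h⁻¹).1 := by
  show toM (ofM _) = _
  rw [toM_ofM]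

lemma L_one : L (1 : GL (Fin 2) F) 1 = LinearMap.id := by
  apply LinearMap.ext
  intro v
  show ofM _ = v
  simp [ofM_toM]

lemma L_mul (g g' h h' : GL (Fin 2) F) : L (g * g') (h * h') = (L g h).comp (L g' h') := by
  apply LinearMap.ext
  intro v
  show ofM _ = ofM (g.1 * toM (L g' h' v) * (h⁻¹).1)
  rw [toM_L]
  simp [mul_assoc]

lemma Q_L (g h : GL (Fin 2) F) (hgh : g.1.det = h.1.det) (v : I4 → F) :
    Cfsg.quadFormPlus 2 F (L g h v) = Cfsg.quadFormPlus 2 F v := by
  rw [← det_toM, toM_L, Matrix.det_mul, Matrix.det_mul, det_toM, hgh]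
  have : h.1.det * (h⁻¹).1.det = 1 := by
    rw [← Matrix.det_mul, ← Units.val_mul, mul_inv_cancel, Units.val_one, Matrix.det_one]
  linear_combination (Cfsg.quadFormPlus 2 F v) * this

/-- the matrix version -/
def R0 : GL (Fin 2) F × GL (Fin 2) F →* Matrix I4 I4 F where
  toFun p := LinearMap.toMatrix' (L p.1 p.2)
  map_one' := by
    show LinearMap.toMatrix' (L 1 1) = 1
    rw [L_one, LinearMap.toMatrix'_id]
  map_mul' p p' := by
    show LinearMap.toMatrix' (L (p.1 * p'.1) (p.2 * p'.2)) = _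
    rw [L_mul, LinearMap.toMatrix'_comp]

/-- the homomorphism to `GL_4` -/
def R : GL (Fin 2) F × GL (Fin 2) F →* GL I4 F := R0.toHomUnits

lemma R_mulVec (p : GL (Fin 2) F × GL (Fin 2) F) (v : I4 → F) :
    (R p).1 *ᵥ v = L p.1 p.2 v := by
  show LinearMap.toMatrix' (L p.1 p.2) *ᵥ v = _
  rw [LinearMap.toMatrix'_mulVec]

/-- pairs of matrices with equal determinant -/
def H : Subgroup (GL (Fin 2) F × GL (Fin 2) F) where
  carrier := {p | p.1.1.det = p.2.1.det}
  mul_mem' := by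
    intro a b ha hb
    replace ha : a.1.1.det = a.2.1.det := ha
    replace hb : b.1.1.det = b.2.1.det := hb
    show (a.1.1 * b.1.1).det = (a.2.1 * b.2.1).det
    rw [Matrix.det_mul, Matrix.det_mul, ha, hb]
  one_mem' := rfl
  inv_mem' := by
    intro a ha
    replace ha : a.1.1.det = a.2.1.det := ha
    show ((a.1)⁻¹).1.det = ((a.2)⁻¹).1.det
    have h1 : a.1.1.det * ((a.1)⁻¹).1.det = 1 := by
      rw [← Matrix.det_mul, ← Units.val_mul, mul_inv_cancel, Units.val_one, Matrix.det_one]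
    have h2 : a.2.1.det * ((a.2)⁻¹).1.det = 1 := by
      rw [← Matrix.det_mul, ← Units.val_mul, mul_inv_cancel, Units.val_one, Matrix.det_one]
    have h3 : a.1.1.det ≠ 0 := fun h => by rw [h, zero_mul] at h1; exact zero_ne_one h1
    apply mul_left_cancel₀ h3
    rw [h1, ha, h2]

lemma mem_H (p : GL (Fin 2) F × GL (Fin 2) F) : p ∈ (H : Subgroup _) ↔ p.1.1.det = p.2.1.det :=
  Iff.rfl

lemma R_mem (p : (H : Subgroup (GL (Fin 2) F × GL (Fin 2) F))) :
    R p.1 ∈ Cfsg.isometryGroup F (Cfsg.quadFormPlus 2 F) := by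
  rw [Cfsg.Agent.Lib.helper50.mem_isometryGroup_iff]
  intro u
  rw [R_mulVec, Q_L _ _ p.2]

/-- the homomorphism to the isometry group -/
def rhoH : (H : Subgroup (GL (Fin 2) F × GL (Fin 2) F)) →*
    Cfsg.isometryGroup F (Cfsg.quadFormPlus 2 F) :=
  (R.comp (H : Subgroup (GL (Fin 2) F × GL (Fin 2) F)).subtype).codRestrict _ R_mem

lemma rhoH_mulVec (p : (H : Subgroup (GL (Fin 2) F × GL (Fin 2) F))) (v : I4 → F) :
    (rhoH p).1.1 *ᵥ v = L p.1.1 p.1.2 v := R_mulVec p.1 v

lemma rhoH_eq_one_iff (p : (H : Subgroup (GL (Fin 2) F × GL (Fin 2) F))) :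
    rhoH p = 1 ↔ ∀ M : Matrix (Fin 2) (Fin 2) F, p.1.1.1 * M = M * p.1.2.1 := by
  have h1 : rhoH p = 1 ↔ L p.1.1 p.1.2 = LinearMap.id := by
    rw [Subtype.ext_iff, Units.ext_iff]
    show LinearMap.toMatrix' (L p.1.1 p.1.2) = 1 ↔ _
    rw [← LinearMap.toMatrix'_id]
    exact LinearMap.toMatrix'.injective.eq_iff
  rw [h1]
  constructor
  · intro h M
    have h2 := toM_L p.1.1 p.1.2 (ofM M)
    rw [h, toM_ofM] at h2
    have h2' : M = p.1.1.1 * M * (p.1.2⁻¹).1 := by
      rw [← h2]; exact (toM_ofM M).symm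
    have h3 : M * p.1.2.1 = p.1.1.1 * M * (p.1.2⁻¹).1 * p.1.2.1 := by rw [← h2']
    rw [h3, mul_assoc, ← Units.val_mul, inv_mul_cancel, Units.val_one, mul_one]
  · intro h
    apply LinearMap.ext; intro v
    show ofM (p.1.1.1 * toM v * (p.1.2⁻¹).1) = v
    rw [h (toM v), mul_assoc, ← Units.val_mul, mul_inv_cancel, Units.val_one, mul_one, ofM_toM]

/-- the diagonal embedding of the scalars -/
def Δ : Fˣ →* (H : Subgroup (GL (Fin 2) F × GL (Fin 2) F)) :=
  ((GeneralLinearGroup.scalar (Fin 2)).prod (GeneralLinearGroup.scalar (Fin 2))).codRestrict _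
    (fun _ => rfl)

lemma Δ_injective : Function.Injective (Δ : Fˣ →* (H : Subgroup (GL (Fin 2) F × GL (Fin 2) F))) := by
  intro a b hab
  have h : (GeneralLinearGroup.scalar (Fin 2) a).1 (0 : Fin 2) 0
      = (GeneralLinearGroup.scalar (Fin 2) b).1 (0 : Fin 2) 0 :=
    congrArg (fun p : (H : Subgroup (GL (Fin 2) F × GL (Fin 2) F)) => p.1.1.1 0 0) hab
  simpa [Matrix.GeneralLinearGroup.coe_scalar, Units.ext_iff] using h

lemma ker_rhoH : (rhoH : (H : Subgroup (GL (Fin 2) F × GL (Fin 2) F)) →* _).ker = Δ.range := by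
  ext p
  constructor
  · intro hp
    rw [MonoidHom.mem_ker, rhoH_eq_one_iff] at hp
    have h1 : p.1.1.1 = p.1.2.1 := by simpa using hp 1
    have hc : p.1.1 ∈ Subgroup.center (GL (Fin 2) F) := by
      rw [Matrix.GeneralLinearGroup.mem_center_iff_val_mem_range_scalar]
      apply Matrix.mem_range_scalar_of_commute_single
      intro i j hij
      have := hp (Matrix.single i j 1)
      rw [← h1] at this
      exact this.symm
    rw [Matrix.GeneralLinearGroup.center_eq_range_scalar] at hc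
    obtain ⟨a, ha⟩ := hc
    refine ⟨a, ?_⟩
    apply Subtype.ext
    apply Prod.ext
    · exact ha
    · show GeneralLinearGroup.scalar (Fin 2) a = p.1.2
      rw [ha]
      exact Units.ext h1
  · rintro ⟨a, rfl⟩
    rw [MonoidHom.mem_ker, rhoH_eq_one_iff]
    intro M
    show (GeneralLinearGroup.scalar (Fin 2) a).1 * M = M * (GeneralLinearGroup.scalar (Fin 2) a).1
    rw [Matrix.GeneralLinearGroup.coe_scalar]
    exact (Matrix.scalar_commute _ (fun _ => Commute.all _ _) _).eq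

lemma card_ker_rhoH [Fintype F] :
    Nat.card (rhoH : (H : Subgroup (GL (Fin 2) F × GL (Fin 2) F)) →* _).ker
      = Fintype.card F - 1 := by
  classical
  rw [ker_rhoH, ← Nat.card_congr (MonoidHom.ofInjective Δ_injective).toEquiv,
    Nat.card_eq_fintype_card, Fintype.card_units]

/-- the quotient of determinants -/
def δ : GL (Fin 2) F × GL (Fin 2) F →* Fˣ :=
  (GeneralLinearGroup.det.comp (MonoidHom.fst _ _)) /
    (GeneralLinearGroup.det.comp (MonoidHom.snd _ _))

lemma H_eq_ker : (H : Subgroup (GL (Fin 2) F × GL (Fin 2) F)) = δ.ker := by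
  ext p
  rw [MonoidHom.mem_ker, mem_H]
  show _ ↔ GeneralLinearGroup.det p.1 / GeneralLinearGroup.det p.2 = 1
  rw [div_eq_one, Units.ext_iff]
  rfl

lemma δ_surjective : Function.Surjective (δ : GL (Fin 2) F × GL (Fin 2) F →* Fˣ) := by
  intro u
  obtain ⟨g, hg⟩ := Cfsg.Agent.Lib.helper7.det_GL_surjective (F := F) 2 u
  refine ⟨(g, 1), ?_⟩
  show GeneralLinearGroup.det g / GeneralLinearGroup.det (1 : GL (Fin 2) F) = u
  rw [map_one, div_one, hg]

lemma card_H [Fintype F] :
    Nat.card (H : Subgroup (GL (Fin 2) F × GL (Fin 2) F)) * (Fintype.card F - 1)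
      = Nat.card (GL (Fin 2) F) ^ 2 := by
  classical
  have h1 := Subgroup.card_mul_index (δ : GL (Fin 2) F × GL (Fin 2) F →* Fˣ).ker
  rw [Subgroup.index_ker, MonoidHom.range_eq_top.mpr δ_surjective, Subgroup.card_top,
    ← H_eq_ker, Nat.card_prod, Nat.card_eq_fintype_card (α := Fˣ), Fintype.card_units] at h1
  rw [h1, sq]

lemma card_range_rhoH [Fintype F] :
    Nat.card (rhoH : (H : Subgroup (GL (Fin 2) F × GL (Fin 2) F)) →* _).range =
      (Fintype.card F * (Fintype.card F ^ 2 - 1)) ^ 2 := by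
  classical
  have h1 : Nat.card (rhoH : (H : Subgroup (GL (Fin 2) F × GL (Fin 2) F)) →* _).range
      * (Fintype.card F - 1) = Nat.card (H : Subgroup (GL (Fin 2) F × GL (Fin 2) F)) := by
    rw [← Subgroup.index_ker, ← card_ker_rhoH, mul_comm]
    exact Subgroup.card_mul_index _
  have h2 := card_H (F := F)
  rw [← h1, Matrix.card_GL_field, Fin.prod_univ_two] at h2
  have hq : 2 ≤ Fintype.card F := Fintype.one_lt_card
  have h3 : Fintype.card F ^ 2 - Fintype.card F ^ ((1 : Fin 2) : ℕ)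
      = Fintype.card F * (Fintype.card F - 1) := by
    simp only [Fin.val_one, pow_one]
    rw [Nat.mul_sub, mul_one, sq]
  have h4 : Fintype.card F ^ 2 - Fintype.card F ^ ((0 : Fin 2) : ℕ)
      = Fintype.card F ^ 2 - 1 := by simp
  rw [h3, h4] at h2
  have hpos : 0 < (Fintype.card F - 1) ^ 2 := by
    have : 0 < Fintype.card F - 1 := by omega
    positivity
  apply Nat.eq_of_mul_eq_mul_right hpos
  rw [sq (Fintype.card F - 1), ← mul_assoc, h2]
  ring

lemma index_range_rhoH [Fintype F] :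
    (rhoH : (H : Subgroup (GL (Fin 2) F × GL (Fin 2) F)) →* _).range.index = 2 := by
  have h1 := Subgroup.card_mul_index
    (rhoH : (H : Subgroup (GL (Fin 2) F × GL (Fin 2) F)) →* _).range
  rw [card_range_rhoH, Cfsg.Agent.S0287.result rfl 2 (by norm_num)] at h1
  have hq : 2 ≤ Fintype.card F := Fintype.one_lt_card
  have hpos : 0 < (Fintype.card F * (Fintype.card F ^ 2 - 1)) ^ 2 := by
    have : 4 ≤ Fintype.card F ^ 2 := by nlinarith
    have : 0 < Fintype.card F * (Fintype.card F ^ 2 - 1) := by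
      apply Nat.mul_pos <;> omega
    positivity
  apply Nat.eq_of_mul_eq_mul_left hpos
  rw [h1]
  simp
  ring

lemma adj_add (A B : Matrix (Fin 2) (Fin 2) F) :
    adjugate (A + B) = adjugate A + adjugate B := by
  rw [adjugate_fin_two, adjugate_fin_two, adjugate_fin_two]
  ext i j
  fin_cases i <;> fin_cases j <;> simp <;> ring

lemma adj_smul (c : F) (A : Matrix (Fin 2) (Fin 2) F) :
    adjugate (c • A) = c • adjugate A := by
  rw [adjugate_fin_two, adjugate_fin_two]
  ext i j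
  fin_cases i <;> fin_cases j <;> simp

lemma adj_adj (A : Matrix (Fin 2) (Fin 2) F) : adjugate (adjugate A) = A := by
  rw [adjugate_fin_two, adjugate_fin_two]
  ext i j
  fin_cases i <;> fin_cases j <;> simp

/-- the adjugate map on the 4-space -/
def Lσ : (I4 → F) →ₗ[F] (I4 → F) where
  toFun v := ofM (adjugate (toM v))
  map_add' v w := by rw [toM_add, adj_add, ofM_add]
  map_smul' c v := by rw [toM_smul, adj_smul, ofM_smul]; rfl

lemma toM_Lσ (v : I4 → F) : toM (Lσ v) = adjugate (toM v) := by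
  show toM (ofM _) = _
  rw [toM_ofM]

lemma Lσ_comp : (Lσ : (I4 → F) →ₗ[F] (I4 → F)).comp Lσ = LinearMap.id := by
  apply LinearMap.ext; intro v
  show ofM (adjugate (toM (Lσ v))) = v
  rw [toM_Lσ, adj_adj, ofM_toM]

lemma σ_mul_self : LinearMap.toMatrix' (Lσ : (I4 → F) →ₗ[F] (I4 → F)) * LinearMap.toMatrix' Lσ
    = 1 := by
  rw [← LinearMap.toMatrix'_comp, Lσ_comp, LinearMap.toMatrix'_id]

/-- the isometry induced by the adjugate -/
def σ : Cfsg.isometryGroup F (Cfsg.quadFormPlus 2 F) :=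
  ⟨⟨LinearMap.toMatrix' Lσ, LinearMap.toMatrix' Lσ, σ_mul_self, σ_mul_self⟩, by
    rw [Cfsg.Agent.Lib.helper50.mem_isometryGroup_iff]
    intro u
    show Cfsg.quadFormPlus 2 F (LinearMap.toMatrix' Lσ *ᵥ u) = _
    rw [LinearMap.toMatrix'_mulVec, ← det_toM, toM_Lσ, Matrix.det_adjugate, det_toM]
    simp⟩

lemma σ_mul_σ : (σ : Cfsg.isometryGroup F (Cfsg.quadFormPlus 2 F)) * σ = 1 := by
  apply Subtype.ext
  apply Units.ext
  exact σ_mul_self

lemma adj_unit (g : GL (Fin 2) F) : adjugate g.1 = g.1.det • (g⁻¹).1 := by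
  have h1 : (g⁻¹).1 * (g.1 * adjugate g.1) = adjugate g.1 := by
    rw [← mul_assoc, ← Units.val_mul, inv_mul_cancel, Units.val_one, one_mul]
  rw [← h1, Matrix.mul_adjugate, Matrix.mul_smul, mul_one]

lemma adj_conj (g h : GL (Fin 2) F) (hgh : g.1.det = h.1.det) (M : Matrix (Fin 2) (Fin 2) F) :
    adjugate (g.1 * M * (h⁻¹).1) = h.1 * adjugate M * (g⁻¹).1 := by
  have : h.1.det * (h⁻¹).1.det = 1 := by
    rw [← Matrix.det_mul, ← Units.val_mul, mul_inv_cancel, Units.val_one, Matrix.det_one]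
  rw [Matrix.adjugate_mul_distrib, Matrix.adjugate_mul_distrib, adj_unit g, adj_unit h⁻¹, inv_inv,
    Matrix.mul_smul, Matrix.smul_mul, Matrix.mul_smul, smul_smul, hgh, mul_comm, this, one_smul,
    mul_assoc]

/-- swapping the two factors -/
def swapH (p : (H : Subgroup (GL (Fin 2) F × GL (Fin 2) F))) :
    (H : Subgroup (GL (Fin 2) F × GL (Fin 2) F)) :=
  ⟨(p.1.2, p.1.1), p.2.symm⟩

lemma σ_mul_rhoH (p : (H : Subgroup (GL (Fin 2) F × GL (Fin 2) F))) :
    σ * rhoH p = rhoH (swapH p) * σ := by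
  apply Subtype.ext
  apply Units.ext
  show LinearMap.toMatrix' Lσ * LinearMap.toMatrix' (L p.1.1 p.1.2)
    = LinearMap.toMatrix' (L p.1.2 p.1.1) * LinearMap.toMatrix' Lσ
  rw [← LinearMap.toMatrix'_comp, ← LinearMap.toMatrix'_comp]
  congr 1
  apply LinearMap.ext; intro v
  show ofM (adjugate (toM (L p.1.1 p.1.2 v))) = ofM (p.1.2.1 * toM (Lσ v) * (p.1.1⁻¹).1)
  rw [toM_L, toM_Lσ, adj_conj _ _ p.2]

lemma σ_not_mem : (σ : Cfsg.isometryGroup F (Cfsg.quadFormPlus 2 F)) ∉
    (rhoH : (H : Subgroup (GL (Fin 2) F × GL (Fin 2) F)) →* _).range := by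
  rintro ⟨p, hp⟩
  have hL : L p.1.1 p.1.2 = Lσ := by
    have h1 : LinearMap.toMatrix' (L p.1.1 p.1.2) = LinearMap.toMatrix' (Lσ : (I4 → F) →ₗ[F] _) :=
      congrArg (fun x : Cfsg.isometryGroup F (Cfsg.quadFormPlus 2 F) => (x.1 : GL I4 F).1) hp
    exact LinearMap.toMatrix'.injective h1
  have hM : ∀ M : Matrix (Fin 2) (Fin 2) F, p.1.1.1 * M = adjugate M * p.1.2.1 := by
    intro M
    have h2 := toM_L p.1.1 p.1.2 (ofM M)
    rw [hL, toM_Lσ, toM_ofM] at h2
    rw [h2, mul_assoc, ← Units.val_mul, inv_mul_cancel, Units.val_one, mul_one]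
  have h1 : p.1.1.1 = p.1.2.1 := by simpa using hM 1
  rw [← h1] at hM
  have e1 := hM !![1, 0; 0, 0]
  have e2 := hM !![0, 1; 0, 0]
  have e3 := hM !![0, 0; 1, 0]
  rw [adjugate_fin_two] at e1 e2 e3
  have a00 : p.1.1.1 0 0 = 0 := by
    have := congrFun (congrFun e1 0) 0
    simpa [Matrix.mul_apply, Fin.sum_univ_two, Matrix.vecMul, dotProduct] using this
  have a10 : p.1.1.1 1 0 = 0 := by
    have := congrFun (congrFun e2 0) 0
    simpa [Matrix.mul_apply, Fin.sum_univ_two, Matrix.vecMul, dotProduct] using this.symm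
  have a01 : p.1.1.1 0 1 = 0 := by
    have := congrFun (congrFun e3 0) 0
    simpa [Matrix.mul_apply, Fin.sum_univ_two, Matrix.vecMul, dotProduct] using this
  have h6 : (p.1.1.1 * (p.1.1⁻¹).1) 0 0 = 1 := by
    rw [← Units.val_mul, mul_inv_cancel]; simp
  rw [Matrix.mul_apply, Fin.sum_univ_two, a00, a01] at h6
  simp at h6

lemma cover [Fintype F] (x : Cfsg.isometryGroup F (Cfsg.quadFormPlus 2 F)) :
    ∃ p : (H : Subgroup (GL (Fin 2) F × GL (Fin 2) F)), x = rhoH p ∨ x = σ * rhoH p := by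
  by_cases hx : x ∈ (rhoH : (H : Subgroup (GL (Fin 2) F × GL (Fin 2) F)) →* _).range
  · obtain ⟨p, hp⟩ := hx
    exact ⟨p, Or.inl hp.symm⟩
  · have : σ * x ∈ (rhoH : (H : Subgroup (GL (Fin 2) F × GL (Fin 2) F)) →* _).range := by
      rw [Subgroup.mul_mem_iff_of_index_two index_range_rhoH]
      exact ⟨fun h => absurd h σ_not_mem, fun h => absurd h hx⟩
    obtain ⟨p, hp⟩ := this
    exact ⟨p, Or.inr (by rw [hp, ← mul_assoc, σ_mul_σ, one_mul])⟩

/-- if `G = N ∪ σN`, `S` is normal, contains `[N,N]` and `[σ,N]`, then `[G,G] ≤ S`. -/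
lemma commutator_le_of_cover {G : Type*} [Group G] (N S : Subgroup G) [S.Normal] (τ : G)
    (hcover : ∀ x : G, ∃ n ∈ N, x = n ∨ x = τ * n)
    (hNN : ∀ a ∈ N, ∀ b ∈ N, ⁅a, b⁆ ∈ S) (hτ : ∀ a ∈ N, ⁅τ, a⁆ ∈ S) :
    commutator G ≤ S := by
  have hc : ∀ a b : G, ⁅a, b⁆ ∈ S →
      Commute (QuotientGroup.mk' S a) (QuotientGroup.mk' S b) := by
    intro a b h
    rw [← commutatorElement_eq_one_iff_commute, ← map_commutatorElement]
    exact (QuotientGroup.eq_one_iff _).mpr h
  have key : ∀ x y : G, Commute (QuotientGroup.mk' S x) (QuotientGroup.mk' S y) := by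
    intro x y
    obtain ⟨n, hn, hx⟩ := hcover x
    obtain ⟨m, hm, hy⟩ := hcover y
    have hnm := hc n m (hNN n hn m hm)
    have hτn := hc τ n (hτ n hn)
    have hτm := hc τ m (hτ m hm)
    rcases hx with rfl | rfl <;> rcases hy with rfl | rfl
    · exact hnm
    · rw [map_mul]; exact hτn.symm.mul_right hnm
    · rw [map_mul]; exact hτm.mul_left hnm
    · rw [map_mul, map_mul]
      exact ((Commute.refl _).mul_right hτm).mul_left (hτn.symm.mul_right hnm)
  rw [commutator_def, Subgroup.commutator_le]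
  intro x _ y _
  rw [← QuotientGroup.eq_one_iff, ← QuotientGroup.mk'_apply, map_commutatorElement,
    commutatorElement_eq_one_iff_commute]
  exact key x y

/-- the embedding of `SL_2 × SL_2` -/
def ιH : SpecialLinearGroup (Fin 2) F × SpecialLinearGroup (Fin 2) F →*
    (H : Subgroup (GL (Fin 2) F × GL (Fin 2) F)) :=
  (MonoidHom.prodMap SpecialLinearGroup.toGL SpecialLinearGroup.toGL).codRestrict _
    (fun p => by
      show p.1.1.det = p.2.1.det
      rw [p.1.2, p.2.2])

lemma mem_range_ιH (p : (H : Subgroup (GL (Fin 2) F × GL (Fin 2) F))) (h : p.1.1.1.det = 1) :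
    p ∈ (ιH : _ →* (H : Subgroup (GL (Fin 2) F × GL (Fin 2) F))).range := by
  have h' : p.1.2.1.det = 1 := by rw [← p.2, h]
  refine ⟨(⟨p.1.1.1, h⟩, ⟨p.1.2.1, h'⟩), ?_⟩
  apply Subtype.ext
  apply Prod.ext
  · exact Units.ext rfl
  · exact Units.ext rfl

lemma det_comm_GL (g g' : GL (Fin 2) F) : (⁅g, g'⁆ : GL (Fin 2) F).1.det = 1 := by
  have h1 : GeneralLinearGroup.det ⁅g, g'⁆ = 1 := by
    rw [map_commutatorElement]
    exact commutatorElement_eq_one_iff_commute.mpr (Commute.all _ _)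
  rw [← Matrix.GeneralLinearGroup.val_det_apply, h1]
  rfl

/-- the homomorphism from `SL_2 × SL_2` to the isometry group -/
def ψ₀ : SpecialLinearGroup (Fin 2) F × SpecialLinearGroup (Fin 2) F →*
    Cfsg.isometryGroup F (Cfsg.quadFormPlus 2 F) :=
  rhoH.comp ιH

lemma comm_le_range :
    ⁅(rhoH : (H : Subgroup (GL (Fin 2) F × GL (Fin 2) F)) →* _).range,
      (rhoH : (H : Subgroup (GL (Fin 2) F × GL (Fin 2) F)) →* _).range⁆ ≤
      (ψ₀ : _ →* Cfsg.isometryGroup F (Cfsg.quadFormPlus 2 F)).range := by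
  rw [Subgroup.commutator_le]
  rintro _ ⟨p, rfl⟩ _ ⟨p', rfl⟩
  rw [← map_commutatorElement]
  obtain ⟨s, hs⟩ := mem_range_ιH ⁅p, p'⁆ (det_comm_GL p.1.1 p'.1.1)
  exact ⟨s, by rw [← hs]; rfl⟩

lemma σ_comm_mem (p : (H : Subgroup (GL (Fin 2) F × GL (Fin 2) F))) :
    ⁅(σ : Cfsg.isometryGroup F (Cfsg.quadFormPlus 2 F)), rhoH p⁆ ∈
      (ψ₀ : _ →* Cfsg.isometryGroup F (Cfsg.quadFormPlus 2 F)).range := by
  have h1 : ⁅(σ : Cfsg.isometryGroup F (Cfsg.quadFormPlus 2 F)), rhoH p⁆
      = rhoH (swapH p * p⁻¹) := by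
    rw [commutatorElement_def, σ_mul_rhoH, mul_assoc (rhoH (swapH p)), mul_inv_cancel, mul_one,
      map_mul, map_inv]
  rw [h1]
  have hdet : (swapH p * p⁻¹).1.1.1.det = 1 := by
    show (p.1.2.1 * (p.1.1⁻¹).1).det = 1
    rw [Matrix.det_mul, ← p.2, ← Matrix.det_mul, ← Units.val_mul, mul_inv_cancel, Units.val_one,
      Matrix.det_one]
  obtain ⟨s, hs⟩ := mem_range_ιH _ hdet
  exact ⟨s, by rw [← hs]; rfl⟩

lemma range_le_comm (hF : ∃ a : F, a ≠ 0 ∧ a ≠ 1) :
    (ψ₀ : _ →* Cfsg.isometryGroup F (Cfsg.quadFormPlus 2 F)).range ≤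
    ⁅(rhoH : (H : Subgroup (GL (Fin 2) F × GL (Fin 2) F)) →* _).range,
      (rhoH : (H : Subgroup (GL (Fin 2) F × GL (Fin 2) F)) →* _).range⁆ := by
  obtain ⟨c, hc0, hc1⟩ := hF
  have hc1' : c - 1 ≠ 0 := sub_ne_zero.2 hc1
  -- the first factor
  have h1 : ∀ s : SpecialLinearGroup (Fin 2) F, ψ₀ (s, 1) ∈
      ⁅(rhoH : (H : Subgroup (GL (Fin 2) F × GL (Fin 2) F)) →* _).range,
        (rhoH : (H : Subgroup (GL (Fin 2) F × GL (Fin 2) F)) →* _).range⁆ := by
    intro s
    refine SL2.transvection_induction (fun s => ψ₀ (s, 1) ∈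
      ⁅(rhoH : (H : Subgroup (GL (Fin 2) F × GL (Fin 2) F)) →* _).range,
        (rhoH : (H : Subgroup (GL (Fin 2) F × GL (Fin 2) F)) →* _).range⁆) ?_ ?_ s
    · intro i j hij a
      let D : (H : Subgroup (GL (Fin 2) F × GL (Fin 2) F)) :=
        ⟨(Cfsg.Agent.S0264.dg i c hc0, Cfsg.Agent.S0264.dg i c hc0), rfl⟩
      have e : ιH (SpecialLinearGroup.transvection hij a, 1)
          = ⁅D, ιH (SpecialLinearGroup.transvection hij (a / (c - 1)), 1)⁆ := by
        apply Subtype.ext
        apply Prod.ext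
        · show SpecialLinearGroup.toGL (SpecialLinearGroup.transvection hij a)
            = ⁅Cfsg.Agent.S0264.dg i c hc0,
                SpecialLinearGroup.toGL (SpecialLinearGroup.transvection hij (a / (c - 1)))⁆
          rw [Cfsg.Agent.S0264.comm_dg_transvection hij c hc0]
          congr 2
          field_simp
        · show SpecialLinearGroup.toGL (1 : SpecialLinearGroup (Fin 2) F)
            = ⁅Cfsg.Agent.S0264.dg i c hc0, SpecialLinearGroup.toGL 1⁆
          rw [map_one, commutatorElement_one_right]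
      show rhoH (ιH (SpecialLinearGroup.transvection hij a, 1)) ∈ _
      rw [e, map_commutatorElement]
      exact Subgroup.commutator_mem_commutator ⟨_, rfl⟩ ⟨_, rfl⟩
    · intro A B hA hB
      have : ((A * B, 1) : SpecialLinearGroup (Fin 2) F × SpecialLinearGroup (Fin 2) F)
          = (A, 1) * (B, 1) := by simp
      show ψ₀ (A * B, 1) ∈ _
      rw [this, map_mul]
      exact mul_mem hA hB
  have h2 : ∀ s : SpecialLinearGroup (Fin 2) F, ψ₀ (1, s) ∈
      ⁅(rhoH : (H : Subgroup (GL (Fin 2) F × GL (Fin 2) F)) →* _).range,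
        (rhoH : (H : Subgroup (GL (Fin 2) F × GL (Fin 2) F)) →* _).range⁆ := by
    intro s
    refine SL2.transvection_induction (fun s => ψ₀ (1, s) ∈
      ⁅(rhoH : (H : Subgroup (GL (Fin 2) F × GL (Fin 2) F)) →* _).range,
        (rhoH : (H : Subgroup (GL (Fin 2) F × GL (Fin 2) F)) →* _).range⁆) ?_ ?_ s
    · intro i j hij a
      let D : (H : Subgroup (GL (Fin 2) F × GL (Fin 2) F)) :=
        ⟨(Cfsg.Agent.S0264.dg i c hc0, Cfsg.Agent.S0264.dg i c hc0), rfl⟩
      have e : ιH (1, SpecialLinearGroup.transvection hij a)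
          = ⁅D, ιH (1, SpecialLinearGroup.transvection hij (a / (c - 1)))⁆ := by
        apply Subtype.ext
        apply Prod.ext
        · show SpecialLinearGroup.toGL (1 : SpecialLinearGroup (Fin 2) F)
            = ⁅Cfsg.Agent.S0264.dg i c hc0, SpecialLinearGroup.toGL 1⁆
          rw [map_one, commutatorElement_one_right]
        · show SpecialLinearGroup.toGL (SpecialLinearGroup.transvection hij a)
            = ⁅Cfsg.Agent.S0264.dg i c hc0,
                SpecialLinearGroup.toGL (SpecialLinearGroup.transvection hij (a / (c - 1)))⁆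
          rw [Cfsg.Agent.S0264.comm_dg_transvection hij c hc0]
          congr 2
          field_simp
      show rhoH (ιH (1, SpecialLinearGroup.transvection hij a)) ∈ _
      rw [e, map_commutatorElement]
      exact Subgroup.commutator_mem_commutator ⟨_, rfl⟩ ⟨_, rfl⟩
    · intro A B hA hB
      have : ((1, A * B) : SpecialLinearGroup (Fin 2) F × SpecialLinearGroup (Fin 2) F)
          = (1, A) * (1, B) := by simp
      show ψ₀ (1, A * B) ∈ _
      rw [this, map_mul]
      exact mul_mem hA hB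
  rintro _ ⟨⟨s, t⟩, rfl⟩
  have : ((s, t) : SpecialLinearGroup (Fin 2) F × SpecialLinearGroup (Fin 2) F)
      = (s, 1) * (1, t) := by simp
  rw [this, map_mul]
  exact mul_mem (h1 s) (h2 t)

lemma commutator_eq_range [Fintype F] (hF : ∃ a : F, a ≠ 0 ∧ a ≠ 1) :
    commutator (Cfsg.isometryGroup F (Cfsg.quadFormPlus 2 F)) =
      (ψ₀ : _ →* Cfsg.isometryGroup F (Cfsg.quadFormPlus 2 F)).range := by
  have hN : (rhoH : (H : Subgroup (GL (Fin 2) F × GL (Fin 2) F)) →* _).range.Normal :=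
    Subgroup.normal_of_index_eq_two index_range_rhoH
  have hNN : ⁅(rhoH : (H : Subgroup (GL (Fin 2) F × GL (Fin 2) F)) →* _).range,
      (rhoH : (H : Subgroup (GL (Fin 2) F × GL (Fin 2) F)) →* _).range⁆
      = (ψ₀ : _ →* Cfsg.isometryGroup F (Cfsg.quadFormPlus 2 F)).range :=
    le_antisymm comm_le_range (range_le_comm hF)
  apply le_antisymm
  · rw [← hNN]
    apply commutator_le_of_cover
      (rhoH : (H : Subgroup (GL (Fin 2) F × GL (Fin 2) F)) →* _).range _ σ
    · intro x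
      obtain ⟨p, hp⟩ := cover x
      exact ⟨rhoH p, ⟨p, rfl⟩, hp⟩
    · intro a ha b hb
      exact Subgroup.commutator_mem_commutator ha hb
    · rintro _ ⟨p, rfl⟩
      rw [hNN]
      exact σ_comm_mem p
  · rw [← hNN, commutator_def]
    exact Subgroup.commutator_mono le_top le_top

/-- PΩ^+_4(q) is isomorphic to PSL_2(q) x PSL_2(q) for q at least 3. -/
theorem result {F : Type*} [Field F] [Fintype F] (hF : 3 ≤ Fintype.card F) : Nonempty (Cfsg.POmega F (Cfsg.quadFormPlus 2 F) ≃* Matrix.ProjectiveSpecialLinearGroup (Fin 2) F × Matrix.ProjectiveSpecialLinearGroup (Fin 2) F) := by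
  classical
  have hF' : ∃ a : F, a ≠ 0 ∧ a ≠ 1 := by
    by_contra hcon
    push Not at hcon
    have h1 : (Finset.univ : Finset F) ⊆ {0, 1} := fun a _ => by
      by_cases h0 : a = 0
      · simp [h0]
      · simp [hcon a h0]
    have h2 := Finset.card_le_card h1
    have h3 : ({0, 1} : Finset F).card ≤ 2 := Finset.card_le_two
    rw [Finset.card_univ] at h2
    omega
  have hΩ := commutator_eq_range hF'
  let ψ : SpecialLinearGroup (Fin 2) F × SpecialLinearGroup (Fin 2) F →*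
      commutator (Cfsg.isometryGroup F (Cfsg.quadFormPlus 2 F)) :=
    ψ₀.codRestrict _ (fun p => by rw [hΩ]; exact ⟨p, rfl⟩)
  have hsurj : Function.Surjective ψ := by
    rintro ⟨x, hx⟩
    have hx' : x ∈ (ψ₀ : _ →* Cfsg.isometryGroup F (Cfsg.quadFormPlus 2 F)).range := hΩ ▸ hx
    obtain ⟨p, rfl⟩ := hx'
    exact ⟨p, Subtype.ext rfl⟩
  have hk1 : ∀ s : SpecialLinearGroup (Fin 2) F, ψ (s, 1) = 1 → s = 1 := by
    intro s hs
    have h1 : rhoH (ιH (s, 1)) = 1 := congrArg Subtype.val hs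
    rw [rhoH_eq_one_iff] at h1
    have h2 : s.1 * 1 = 1 * (1 : Matrix (Fin 2) (Fin 2) F) := h1 1
    apply Subtype.ext
    simpa using h2
  have hk2 : ∀ s : SpecialLinearGroup (Fin 2) F, ψ (1, s) = 1 → s = 1 := by
    intro s hs
    have h1 : rhoH (ιH (1, s)) = 1 := congrArg Subtype.val hs
    rw [rhoH_eq_one_iff] at h1
    have h2 : (1 : Matrix (Fin 2) (Fin 2) F) * 1 = 1 * s.1 := h1 1
    apply Subtype.ext
    simpa using h2.symm
  let f₁ : SpecialLinearGroup (Fin 2) F × SpecialLinearGroup (Fin 2) F →*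
      Cfsg.POmega F (Cfsg.quadFormPlus 2 F) :=
    (QuotientGroup.mk' (Subgroup.center
      (commutator (Cfsg.isometryGroup F (Cfsg.quadFormPlus 2 F))))).comp ψ
  have hf₁ : Function.Surjective f₁ := (QuotientGroup.mk'_surjective _).comp hsurj
  have hker₁ : f₁.ker = (Subgroup.center (SpecialLinearGroup (Fin 2) F)).prod
      (Subgroup.center (SpecialLinearGroup (Fin 2) F)) := by
    ext p
    rw [MonoidHom.mem_ker]
    show QuotientGroup.mk' _ (ψ p) = 1 ↔ _
    rw [QuotientGroup.mk'_apply, QuotientGroup.eq_one_iff, Subgroup.mem_center_iff,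
      Subgroup.mem_prod, Subgroup.mem_center_iff, Subgroup.mem_center_iff]
    constructor
    · intro h
      obtain ⟨s, t⟩ := p
      constructor
      · intro s'
        have h1 := h (ψ (s', 1))
        rw [← map_mul, ← map_mul] at h1
        have h2 : ψ (s' * s * (s * s')⁻¹, 1) = 1 := by
          have : ((s' * s * (s * s')⁻¹, 1) :
              SpecialLinearGroup (Fin 2) F × SpecialLinearGroup (Fin 2) F)
              = ((s', 1) * (s, t)) * ((s, t) * (s', 1))⁻¹ := by
            apply Prod.ext <;> simp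
          rw [this, map_mul, map_inv, h1, mul_inv_cancel]
        exact mul_inv_eq_one.mp (hk1 _ h2)
      · intro t'
        have h1 := h (ψ (1, t'))
        rw [← map_mul, ← map_mul] at h1
        have h2 : ψ (1, t' * t * (t * t')⁻¹) = 1 := by
          have : ((1, t' * t * (t * t')⁻¹) :
              SpecialLinearGroup (Fin 2) F × SpecialLinearGroup (Fin 2) F)
              = ((1, t') * (s, t)) * ((s, t) * (1, t'))⁻¹ := by
            apply Prod.ext <;> simp
          rw [this, map_mul, map_inv, h1, mul_inv_cancel]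
        exact mul_inv_eq_one.mp (hk2 _ h2)
    · rintro ⟨h1, h2⟩ g
      obtain ⟨q, rfl⟩ := hsurj g
      rw [← map_mul, ← map_mul]
      congr 1
      exact Prod.ext (h1 q.1) (h2 q.2)
  let f₂ : SpecialLinearGroup (Fin 2) F × SpecialLinearGroup (Fin 2) F →*
      Matrix.ProjectiveSpecialLinearGroup (Fin 2) F × Matrix.ProjectiveSpecialLinearGroup (Fin 2) F :=
    MonoidHom.prodMap (QuotientGroup.mk' (Subgroup.center (SpecialLinearGroup (Fin 2) F)))
      (QuotientGroup.mk' (Subgroup.center (SpecialLinearGroup (Fin 2) F)))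
  have hf₂ : Function.Surjective f₂ :=
    Function.Surjective.prodMap (QuotientGroup.mk'_surjective _) (QuotientGroup.mk'_surjective _)
  have hker₂ : f₂.ker = (Subgroup.center (SpecialLinearGroup (Fin 2) F)).prod
      (Subgroup.center (SpecialLinearGroup (Fin 2) F)) := by
    rw [MonoidHom.ker_prodMap, QuotientGroup.ker_mk']
  exact ⟨(QuotientGroup.quotientKerEquivOfSurjective f₁ hf₁).symm.trans
    ((QuotientGroup.quotientMulEquivOfEq (hker₁.trans hker₂.symm)).trans
      (QuotientGroup.quotientKerEquivOfSurjective f₂ hf₂))⟩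

end Cfsg.Agent.S0299
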