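import Cfsg.Statements.S0300
import Cfsg.Agent.S0288
import Cfsg.Agent.S0299
import Cfsg.Agent.Lib.helper7.CardSL
import Cfsg.Agent.Lib.helper7.Herm
import Cfsg.Agent.Lib.helper50.QuadExt

set_option autoImplicit false
open Cfsg

namespace Cfsg.Agent.S0300

open Matrix
open scoped commutatorElement

/-- index type of the 4-dimensional space -/
abbrev I4 : Type := (Fin 1 ⊕ Fin 1) ⊕ Fin 2

/-- the field-theoretic data: an embedding `F → K`, the Frobenius of `K` over `F`, and the two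
conjugate roots of the anisotropic quadratic. -/
structure Dat (F K : Type*) [Field F] [Field K] (a b : F) where
  /-- the embedding -/
  i : F →+* K
  /-- the Frobenius -/
  σ : K →+* K
  /-- first root -/
  α : K
  /-- second root -/
  β : K
  hne : α ≠ β
  hsum : α + β = - i a
  hprod : α * β = i b
  hσi : ∀ x, σ (i x) = i x
  hσα : σ α = β
  hσβ : σ β = α
  hσσ : ∀ z, σ (σ z) = z
  hfix : ∀ z, σ z = z → ∃ x, i x = z

lemma exists_dat {F K : Type*} [Field F] [Fintype F] [Field K] [Fintype K]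
    (hK : Fintype.card K = Fintype.card F ^ 2) (a b : F)
    (hab : ∀ z₁ z₂ : F, z₁ ^ 2 + a * z₁ * z₂ + b * z₂ ^ 2 = 0 → z₁ = 0 ∧ z₂ = 0) :
    Nonempty (Dat F K a b) := by
  obtain ⟨i⟩ := Cfsg.Agent.Lib.helper50.exists_ringHom_of_card_sq (F := F) (K := K) rfl hK
  obtain ⟨σ, hσ⟩ := Cfsg.Agent.Lib.helper50.exists_frob (F := F) (K := K) hK
  obtain ⟨α, β, hne, hsum, hprod⟩ :=
    Cfsg.Agent.Lib.helper50.exists_roots_of_anisotropic hK i a b hab
  refine ⟨⟨i, σ, α, β, hne, hsum, hprod, ?_, ?_, ?_, ?_, ?_⟩⟩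
  · intro x
    rw [hσ, Cfsg.Agent.Lib.helper50.frob_fixed]
  · rw [hσ]
    exact Cfsg.Agent.Lib.helper50.conj_root hK i a b hab α β hsum hprod
  · rw [hσ]
    exact Cfsg.Agent.Lib.helper50.conj_root hK i a b hab β α (by rw [add_comm, hsum])
      (by rw [mul_comm, hprod])
  · intro z
    rw [hσ, hσ]
    exact Cfsg.Agent.Lib.helper7.frob_frob hK z
  · intro z hz
    rw [hσ] at hz
    exact Cfsg.Agent.Lib.helper50.mem_range_of_pow_card_eq i z hz

section model

variable {F K : Type*} [Field F] [Field K] {a b : F} (D : Dat F K a b)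

/-- the Hermitian matrix attached to a vector -/
def toH (v : I4 → F) : Matrix (Fin 2) (Fin 2) K :=
  !![D.i (v (.inl (.inl 0))), D.i (v (.inr 0)) - D.i (v (.inr 1)) * D.α;
     D.i (v (.inr 0)) - D.i (v (.inr 1)) * D.β, - D.i (v (.inl (.inr 0)))]

lemma toH_add (v w : I4 → F) : toH D (v + w) = toH D v + toH D w := by
  ext i j
  fin_cases i <;> fin_cases j <;> simp [toH] <;> ring

lemma toH_smul (c : F) (v : I4 → F) : toH D (c • v) = D.i c • toH D v := by
  ext i j
  fin_cases i <;> fin_cases j <;> simp [toH] <;> ring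

lemma det_toH (v : I4 → F) : (toH D v).det = - D.i (Cfsg.quadFormMinus 1 F a b v) := by
  rw [Matrix.det_fin_two]
  simp only [toH, Cfsg.quadFormMinus, Matrix.of_apply, Matrix.cons_val', Matrix.cons_val_zero,
    Matrix.cons_val_one, Matrix.cons_val_fin_one, Finset.univ_unique, Fin.default_eq_zero,
    Finset.sum_singleton, map_add, map_mul, map_pow]
  linear_combination (D.i (v (.inr 0)) * D.i (v (.inr 1))) * D.hsum
    - (D.i (v (.inr 1))) ^ 2 * D.hprod

lemma sub_ne (D : Dat F K a b) : D.β - D.α ≠ 0 := sub_ne_zero.mpr (Ne.symm D.hne)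

lemma toH_injective : Function.Injective (toH D) := by
  intro v w h
  have h00 := congrFun (congrFun h 0) 0
  have h01 := congrFun (congrFun h 0) 1
  have h10 := congrFun (congrFun h 1) 0
  have h11 := congrFun (congrFun h 1) 1
  simp only [toH, Matrix.of_apply, Matrix.cons_val', Matrix.cons_val_zero,
    Matrix.cons_val_one, Matrix.cons_val_fin_one] at h00 h01 h10 h11
  have hinj := D.i.injective
  have e2 : D.i (v (.inr 1)) = D.i (w (.inr 1)) := by
    have : (D.i (v (.inr 1)) - D.i (w (.inr 1))) * (D.β - D.α) = 0 := by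
      linear_combination h01 - h10
    rcases mul_eq_zero.mp this with h | h
    · exact sub_eq_zero.mp h
    · exact absurd h (sub_ne D)
  have e1 : D.i (v (.inr 0)) = D.i (w (.inr 0)) := by
    rw [e2] at h01
    linear_combination h01
  funext k
  rcases k with (k | k) | k
  · have : k = 0 := Subsingleton.elim _ _
    subst this; exact hinj h00
  · have : k = 0 := Subsingleton.elim _ _
    subst this; exact hinj (neg_injective h11)
  · fin_cases k
    · exact hinj e1
    · exact hinj e2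

/-- conjugate transpose -/
def star (M : Matrix (Fin 2) (Fin 2) K) : Matrix (Fin 2) (Fin 2) K := (M.map D.σ)ᵀ

lemma star_apply (M : Matrix (Fin 2) (Fin 2) K) (i j : Fin 2) : star D M i j = D.σ (M j i) := rfl

lemma star_mul (M N : Matrix (Fin 2) (Fin 2) K) : star D (M * N) = star D N * star D M := by
  unfold star
  rw [Matrix.map_mul, Matrix.transpose_mul]

lemma star_one : star D (1 : Matrix (Fin 2) (Fin 2) K) = 1 := by
  ext i j
  rw [star_apply]
  fin_cases i <;> fin_cases j <;> simp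

lemma star_star (M : Matrix (Fin 2) (Fin 2) K) : star D (star D M) = M := by
  ext i j
  rw [star_apply, star_apply, D.hσσ]

lemma star_toH (v : I4 → F) : star D (toH D v) = toH D v := by
  ext i j
  rw [star_apply]
  fin_cases i <;> fin_cases j <;>
    simp [toH, D.hσi, D.hσα, D.hσβ]

lemma det_star (M : Matrix (Fin 2) (Fin 2) K) : (star D M).det = D.σ M.det := by
  unfold star
  rw [Matrix.det_transpose]
  exact (RingHom.map_det D.σ M).symm

lemma exists_of_star_eq (M : Matrix (Fin 2) (Fin 2) K) (hM : star D M = M) :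
    ∃ v, toH D v = M := by
  have h00 : D.σ (M 0 0) = M 0 0 := by rw [← star_apply, hM]
  have h11 : D.σ (M 1 1) = M 1 1 := by rw [← star_apply, hM]
  have h01 : D.σ (M 0 1) = M 1 0 := by rw [← star_apply, hM]
  have h10 : D.σ (M 1 0) = M 0 1 := by rw [← star_apply, hM]
  have hne := sub_ne D
  have hne' : D.α - D.β ≠ 0 := sub_ne_zero.mpr D.hne
  obtain ⟨x, hx⟩ := D.hfix (M 0 0) h00
  obtain ⟨y, hy⟩ := D.hfix (- M 1 1) (by rw [map_neg, h11])
  obtain ⟨z₁, hz₁⟩ := D.hfix ((D.β * M 0 1 - D.α * M 1 0) / (D.β - D.α)) (by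
    rw [map_div₀, map_sub, map_sub, map_mul, map_mul, D.hσα, D.hσβ, h01, h10]
    field_simp
    ring)
  obtain ⟨z₂, hz₂⟩ := D.hfix ((M 0 1 - M 1 0) / (D.β - D.α)) (by
    rw [map_div₀, map_sub, map_sub, D.hσα, D.hσβ, h01, h10]
    field_simp
    ring)
  refine ⟨Sum.elim (Sum.elim (fun _ => x) (fun _ => y)) ![z₁, z₂], ?_⟩
  ext i j
  fin_cases i <;> fin_cases j
  · simp [toH, hx]
  · simp [toH, hz₁, hz₂]
    field_simp
    ring
  · simp [toH, hz₁, hz₂]
    field_simp
    ring
  · simp [toH, hy]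

/-- the inverse of `toH` -/
noncomputable def ofH (M : Matrix (Fin 2) (Fin 2) K) : I4 → F :=
  Function.invFun (toH D) M

lemma ofH_toH (v : I4 → F) : ofH D (toH D v) = v :=
  Function.leftInverse_invFun (toH_injective D) v

lemma toH_ofH (M : Matrix (Fin 2) (Fin 2) K) (hM : star D M = M) : toH D (ofH D M) = M :=
  Function.invFun_eq (exists_of_star_eq D M hM)

lemma star_conj (g M : Matrix (Fin 2) (Fin 2) K) (hM : star D M = M) :
    star D (g * M * star D g) = g * M * star D g := by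
  rw [star_mul, star_mul, star_star, hM, mul_assoc]

/-- the action `H ↦ g H g^*` on the 4-space -/
noncomputable def L (g : GL (Fin 2) K) : (I4 → F) →ₗ[F] (I4 → F) where
  toFun v := ofH D (g.1 * toH D v * star D g.1)
  map_add' v w := by
    apply toH_injective D
    rw [toH_ofH _ _ (star_conj D _ _ (star_toH D _)), toH_add D (ofH D _) (ofH D _),
      toH_ofH _ _ (star_conj D _ _ (star_toH D _)),
      toH_ofH _ _ (star_conj D _ _ (star_toH D _)), toH_add, mul_add, add_mul]
  map_smul' c v := by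
    apply toH_injective D
    rw [RingHom.id_apply, toH_ofH _ _ (star_conj D _ _ (star_toH D _)), toH_smul D c (ofH D _),
      toH_ofH _ _ (star_conj D _ _ (star_toH D _)), toH_smul, Matrix.mul_smul, Matrix.smul_mul]

lemma toH_L (g : GL (Fin 2) K) (v : I4 → F) :
    toH D (L D g v) = g.1 * toH D v * star D g.1 :=
  toH_ofH _ _ (star_conj D _ _ (star_toH D _))

lemma L_one : L D (1 : GL (Fin 2) K) = LinearMap.id := by
  apply LinearMap.ext
  intro v
  apply toH_injective D
  rw [toH_L]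
  simp [star_one]

lemma L_mul (g h : GL (Fin 2) K) : L D (g * h) = (L D g).comp (L D h) := by
  apply LinearMap.ext
  intro v
  apply toH_injective D
  rw [LinearMap.comp_apply, toH_L, toH_L, toH_L, Units.val_mul, star_mul]
  simp only [mul_assoc]

lemma Q_L (g : GL (Fin 2) K) (hg : g.1.det * D.σ g.1.det = 1) (v : I4 → F) :
    Cfsg.quadFormMinus 1 F a b (L D g v) = Cfsg.quadFormMinus 1 F a b v := by
  apply D.i.injective
  apply neg_injective
  rw [← det_toH, ← det_toH, toH_L, Matrix.det_mul, Matrix.det_mul, det_star]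
  linear_combination (toH D v).det * hg

/-- the matrix version -/
noncomputable def R0 : GL (Fin 2) K →* Matrix I4 I4 F where
  toFun g := LinearMap.toMatrix' (L D g)
  map_one' := by rw [L_one, LinearMap.toMatrix'_id]
  map_mul' g h := by rw [L_mul, LinearMap.toMatrix'_comp]

/-- the homomorphism to `GL_4(F)` -/
noncomputable def R : GL (Fin 2) K →* GL I4 F := (R0 D).toHomUnits

lemma R_mulVec (g : GL (Fin 2) K) (v : I4 → F) : (R D g).1 *ᵥ v = L D g v := by
  show LinearMap.toMatrix' (L D g) *ᵥ v = _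
  rw [LinearMap.toMatrix'_mulVec]

/-- matrices whose determinant has norm one -/
def G₁ : Subgroup (GL (Fin 2) K) where
  carrier := {g | g.1.det * D.σ g.1.det = 1}
  mul_mem' := by
    intro g h hg hh
    replace hg : g.1.det * D.σ g.1.det = 1 := hg
    replace hh : h.1.det * D.σ h.1.det = 1 := hh
    show (g.1 * h.1).det * D.σ (g.1 * h.1).det = 1
    rw [Matrix.det_mul, map_mul]
    calc g.1.det * h.1.det * (D.σ g.1.det * D.σ h.1.det)
        = (g.1.det * D.σ g.1.det) * (h.1.det * D.σ h.1.det) := by ring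
      _ = 1 := by rw [hg, hh, one_mul]
  one_mem' := by
    show (1 : Matrix (Fin 2) (Fin 2) K).det * D.σ (1 : Matrix (Fin 2) (Fin 2) K).det = 1
    simp
  inv_mem' := by
    intro g hg
    replace hg : g.1.det * D.σ g.1.det = 1 := hg
    show (g⁻¹).1.det * D.σ (g⁻¹).1.det = 1
    have h1 : g.1.det * (g⁻¹).1.det = 1 := by
      rw [← Matrix.det_mul, ← Units.val_mul, mul_inv_cancel, Units.val_one, Matrix.det_one]
    have h2 : D.σ g.1.det * D.σ (g⁻¹).1.det = 1 := by rw [← map_mul, h1, map_one]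
    have h3 : g.1.det * D.σ g.1.det ≠ 0 := by rw [hg]; exact one_ne_zero
    apply mul_left_cancel₀ h3
    calc g.1.det * D.σ g.1.det * ((g⁻¹).1.det * D.σ (g⁻¹).1.det)
        = (g.1.det * (g⁻¹).1.det) * (D.σ g.1.det * D.σ (g⁻¹).1.det) := by ring
      _ = 1 := by rw [h1, h2, one_mul]
      _ = _ := by rw [mul_one, hg]

lemma mem_G₁ (g : GL (Fin 2) K) : g ∈ G₁ D ↔ g.1.det * D.σ g.1.det = 1 := Iff.rfl

lemma R_mem (g : G₁ D) : R D g.1 ∈ Cfsg.isometryGroup F (Cfsg.quadFormMinus 1 F a b) := by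
  rw [Cfsg.Agent.Lib.helper50.mem_isometryGroup_iff]
  intro u
  rw [R_mulVec, Q_L D _ g.2]

/-- the homomorphism to the isometry group -/
noncomputable def rho₁ : G₁ D →* Cfsg.isometryGroup F (Cfsg.quadFormMinus 1 F a b) :=
  ((R D).comp (G₁ D).subtype).codRestrict _ (R_mem D)

lemma rho₁_eq_one_iff (g : G₁ D) :
    rho₁ D g = 1 ↔ ∀ v : I4 → F, g.1.1 * toH D v * star D g.1.1 = toH D v := by
  have h1 : rho₁ D g = 1 ↔ L D g.1 = LinearMap.id := by
    rw [Subtype.ext_iff, Units.ext_iff]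
    show LinearMap.toMatrix' (L D g.1) = 1 ↔ _
    rw [← LinearMap.toMatrix'_id]
    exact LinearMap.toMatrix'.injective.eq_iff
  rw [h1]
  constructor
  · intro h v
    rw [← toH_L, h]
    rfl
  · intro h
    apply LinearMap.ext
    intro v
    apply toH_injective D
    rw [toH_L, h]
    rfl

/-- units of norm one -/
def U₁ : Subgroup Kˣ where
  carrier := {u | u.1 * D.σ u.1 = 1}
  mul_mem' := by
    intro g h hg hh
    replace hg : g.1 * D.σ g.1 = 1 := hg
    replace hh : h.1 * D.σ h.1 = 1 := hh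
    show (g.1 * h.1) * D.σ (g.1 * h.1) = 1
    rw [map_mul]
    calc g.1 * h.1 * (D.σ g.1 * D.σ h.1)
        = (g.1 * D.σ g.1) * (h.1 * D.σ h.1) := by ring
      _ = 1 := by rw [hg, hh, one_mul]
  one_mem' := by
    show (1 : K) * D.σ 1 = 1
    simp
  inv_mem' := by
    intro g hg
    replace hg : g.1 * D.σ g.1 = 1 := hg
    show (g⁻¹).1 * D.σ (g⁻¹).1 = 1
    have h1 : g.1 * (g⁻¹).1 = 1 := by rw [← Units.val_mul, mul_inv_cancel, Units.val_one]
    have h2 : D.σ g.1 * D.σ (g⁻¹).1 = 1 := by rw [← map_mul, h1, map_one]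
    have h3 : g.1 * D.σ g.1 ≠ 0 := by rw [hg]; exact one_ne_zero
    apply mul_left_cancel₀ h3
    calc g.1 * D.σ g.1 * ((g⁻¹).1 * D.σ (g⁻¹).1)
        = (g.1 * (g⁻¹).1) * (D.σ g.1 * D.σ (g⁻¹).1) := by ring
      _ = 1 := by rw [h1, h2, one_mul]
      _ = _ := by rw [mul_one, hg]

lemma mem_U₁ (u : Kˣ) : u ∈ U₁ D ↔ u.1 * D.σ u.1 = 1 := Iff.rfl

/-- the scalar matrices of norm one -/
def Δ : U₁ D →* G₁ D :=
  ((GeneralLinearGroup.scalar (Fin 2)).comp (U₁ D).subtype).codRestrict _ (fun u => by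
    have hu : u.1.1 * D.σ u.1.1 = 1 := u.2
    show (GeneralLinearGroup.scalar (Fin 2) u.1).1.det
      * D.σ (GeneralLinearGroup.scalar (Fin 2) u.1).1.det = 1
    rw [Matrix.GeneralLinearGroup.coe_scalar]
    simp only [Matrix.scalar_apply, Matrix.det_diagonal, Fin.prod_univ_two, map_mul]
    calc u.1.1 * u.1.1 * (D.σ u.1.1 * D.σ u.1.1) = (u.1.1 * D.σ u.1.1) * (u.1.1 * D.σ u.1.1) := by
          ring
      _ = 1 := by rw [hu, one_mul])

lemma Δ_injective : Function.Injective (Δ D) := by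
  intro u u' h
  have h1 : (GeneralLinearGroup.scalar (Fin 2) u.1).1 (0 : Fin 2) 0
      = (GeneralLinearGroup.scalar (Fin 2) u'.1).1 (0 : Fin 2) 0 :=
    congrArg (fun p : G₁ D => p.1.1 0 0) h
  apply Subtype.ext
  apply Units.ext
  simpa [Matrix.GeneralLinearGroup.coe_scalar] using h1

/-- the vector mapping to the identity matrix -/
def vOne : I4 → F := Sum.elim (Sum.elim (fun _ => 1) (fun _ => -1)) ![0, 0]

lemma toH_vOne : toH D (vOne : I4 → F) = 1 := by
  ext i j
  fin_cases i <;> fin_cases j <;> simp [toH, vOne]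

/-- the vector mapping to `E₁₁` -/
def vE : I4 → F := Sum.elim (Sum.elim (fun _ => 1) (fun _ => 0)) ![0, 0]

lemma toH_vE : toH D (vE : I4 → F) = !![1, 0; 0, 0] := by
  ext i j
  fin_cases i <;> fin_cases j <;> simp [toH, vE]

/-- the vector mapping to the swap matrix -/
def vS : I4 → F := Sum.elim (Sum.elim (fun _ => 0) (fun _ => 0)) ![1, 0]

lemma toH_vS : toH D (vS : I4 → F) = !![0, 1; 1, 0] := by
  ext i j
  fin_cases i <;> fin_cases j <;> simp [toH, vS]

/-- the vector mapping to the twisted swap matrix -/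
def vT : I4 → F := Sum.elim (Sum.elim (fun _ => 0) (fun _ => 0)) ![0, 1]

lemma toH_vT : toH D (vT : I4 → F) = !![0, - D.α; - D.β, 0] := by
  ext i j
  fin_cases i <;> fin_cases j <;> simp [toH, vT]

lemma ker_rho₁ : (rho₁ D).ker = (Δ D).range := by
  ext g
  constructor
  · intro hg
    rw [MonoidHom.mem_ker, rho₁_eq_one_iff] at hg
    have h1 : g.1.1 * star D g.1.1 = 1 := by
      have := hg vOne
      rwa [toH_vOne, mul_one] at this
    have hcomm : ∀ v : I4 → F, g.1.1 * toH D v = toH D v * g.1.1 := by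
      intro v
      have h2 : star D g.1.1 * g.1.1 = 1 := mul_eq_one_comm.mp h1
      calc g.1.1 * toH D v = g.1.1 * toH D v * (star D g.1.1 * g.1.1) := by rw [h2, mul_one]
        _ = (g.1.1 * toH D v * star D g.1.1) * g.1.1 := by simp only [mul_assoc]
        _ = toH D v * g.1.1 := by rw [hg v]
    have e1 := hcomm vE
    have e2 := hcomm vS
    rw [toH_vE] at e1
    rw [toH_vS] at e2
    have a10 : g.1.1 1 0 = 0 := by
      have := congrFun (congrFun e1 1) 0
      simpa [Matrix.mul_apply, Fin.sum_univ_two, Matrix.vecMul, dotProduct] using this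
    have a01 : g.1.1 0 1 = 0 := by
      have := congrFun (congrFun e1 0) 1
      simpa [Matrix.mul_apply, Fin.sum_univ_two, Matrix.vecMul, dotProduct] using this.symm
    have a11 : g.1.1 1 1 = g.1.1 0 0 := by
      have := congrFun (congrFun e2 1) 0
      simpa [Matrix.mul_apply, Fin.sum_univ_two, Matrix.vecMul, dotProduct] using this
    have hN : g.1.1 0 0 * D.σ (g.1.1 0 0) = 1 := by
      have := congrFun (congrFun h1 0) 0
      rw [Matrix.mul_apply, Fin.sum_univ_two, star_apply, star_apply, a01] at this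
      simpa using this
    have hu : g.1.1 0 0 ≠ 0 := by
      intro h
      rw [h, zero_mul] at hN
      exact zero_ne_one hN
    refine ⟨⟨Units.mk0 _ hu, hN⟩, ?_⟩
    apply Subtype.ext
    apply Units.ext
    show (GeneralLinearGroup.scalar (Fin 2) (Units.mk0 _ hu)).1 = g.1.1
    rw [Matrix.GeneralLinearGroup.coe_scalar]
    ext i j
    fin_cases i <;> fin_cases j <;> simp [a10, a01, a11]
  · rintro ⟨u, rfl⟩
    rw [MonoidHom.mem_ker, rho₁_eq_one_iff]
    intro v
    have hu : u.1.1 * D.σ u.1.1 = 1 := u.2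
    show (GeneralLinearGroup.scalar (Fin 2) u.1).1 * toH D v
      * star D (GeneralLinearGroup.scalar (Fin 2) u.1).1 = toH D v
    rw [Matrix.GeneralLinearGroup.coe_scalar]
    have hs : star D (Matrix.scalar (Fin 2) u.1.1) = Matrix.scalar (Fin 2) (D.σ u.1.1) := by
      ext i j
      rw [star_apply]
      fin_cases i <;> fin_cases j <;> simp
    rw [hs]
    ext i j
    simp only [Matrix.scalar_apply, Matrix.diagonal_mul, Matrix.mul_diagonal]
    linear_combination (toH D v i j) * hu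

/-- the determinant on `G₁` -/
def d₁ : G₁ D →* U₁ D :=
  (GeneralLinearGroup.det.comp (G₁ D).subtype).codRestrict _ (fun g => by
    show (GeneralLinearGroup.det g.1 : K) * D.σ (GeneralLinearGroup.det g.1 : K) = 1
    rw [GeneralLinearGroup.val_det_apply]
    exact g.2)

lemma d₁_surjective : Function.Surjective (d₁ D) := by
  intro u
  obtain ⟨g, hg⟩ := Cfsg.Agent.Lib.helper7.det_GL_surjective (F := K) 2 u.1
  have hg' : g ∈ G₁ D := by
    rw [mem_G₁, ← GeneralLinearGroup.val_det_apply, hg]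
    exact u.2
  exact ⟨⟨g, hg'⟩, Subtype.ext hg⟩

/-- the embedding of `SL_2(K)` -/
def ι₁ : SpecialLinearGroup (Fin 2) K →* G₁ D :=
  (SpecialLinearGroup.toGL).codRestrict _ (fun s => by
    show s.1.det * D.σ s.1.det = 1
    rw [s.2]
    simp)

lemma ι₁_injective : Function.Injective (ι₁ D) := by
  intro s t h
  apply Subtype.ext
  exact congrArg (fun p : G₁ D => p.1.1) h

lemma mem_range_ι₁ (g : G₁ D) (h : g.1.1.det = 1) : g ∈ (ι₁ D).range :=
  ⟨⟨g.1.1, h⟩, Subtype.ext (Units.ext rfl)⟩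

lemma range_ι₁ : (ι₁ D).range = (d₁ D).ker := by
  ext g
  rw [MonoidHom.mem_ker]
  constructor
  · rintro ⟨s, rfl⟩
    apply Subtype.ext
    apply Units.ext
    show (GeneralLinearGroup.det (SpecialLinearGroup.toGL s) : K) = 1
    rw [GeneralLinearGroup.val_det_apply]
    exact s.2
  · intro h
    have hdet : g.1.1.det = 1 := by
      have h2 : (GeneralLinearGroup.det g.1 : K) = 1 :=
        congrArg (fun u : U₁ D => (u.1 : K)) h
      rw [← GeneralLinearGroup.val_det_apply]
      exact h2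
    exact mem_range_ι₁ D g hdet

lemma card_G₁ :
    Nat.card (G₁ D) = Nat.card (SpecialLinearGroup (Fin 2) K) * Nat.card (U₁ D) := by
  have h1 := Subgroup.card_mul_index (d₁ D).ker
  rw [Subgroup.index_ker, MonoidHom.range_eq_top.mpr (d₁_surjective D), Subgroup.card_top,
    ← range_ι₁, ← Nat.card_congr (MonoidHom.ofInjective (ι₁_injective D)).toEquiv] at h1
  exact h1.symm

lemma card_range_rho₁ [Finite K] :
    Nat.card (rho₁ D).range = Nat.card (SpecialLinearGroup (Fin 2) K) := by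
  have h1 := Subgroup.card_mul_index (rho₁ D).ker
  rw [Subgroup.index_ker, ker_rho₁,
    ← Nat.card_congr (MonoidHom.ofInjective (Δ_injective D)).toEquiv, card_G₁, mul_comm] at h1
  have hpos : 0 < Nat.card (U₁ D) := Nat.card_pos
  exact Nat.eq_of_mul_eq_mul_right hpos h1

lemma index_range_rho₁ [Fintype F] [Fintype K] (hK : Fintype.card K = Fintype.card F ^ 2)
    (hab : ∀ z₁ z₂ : F, z₁ ^ 2 + a * z₁ * z₂ + b * z₂ ^ 2 = 0 → z₁ = 0 ∧ z₂ = 0) :
    (rho₁ D).range.index = 2 := by
  have h1 := Subgroup.card_mul_index (rho₁ D).range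
  have hGO : Nat.card (Cfsg.isometryGroup F (Cfsg.quadFormMinus 1 F a b)) = _ :=
    Cfsg.Agent.S0288.result rfl 2 (by norm_num) a b hab
  rw [card_range_rho₁, Cfsg.Agent.Lib.helper7.card_SL2 hK, hGO] at h1
  have hq : 2 ≤ Fintype.card F := Fintype.one_lt_card
  have ht : 4 ≤ Fintype.card F ^ 2 := by nlinarith
  obtain ⟨s, hs⟩ : ∃ s, Fintype.card F ^ 2 = s + 1 := ⟨Fintype.card F ^ 2 - 1, by omega⟩
  have e1 : (Fintype.card F ^ 2) ^ 2 - 1 = (s + 2) * s := by
    rw [hs]
    apply Nat.sub_eq_of_eq_add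
    ring
  have e2 : Fintype.card F ^ 2 - 1 = s := by omega
  simp only [Finset.prod_range_one, Nat.reduceSub, mul_one, zero_add] at h1
  rw [e1, e2, hs] at h1
  have hpos : 0 < (s + 1) * ((s + 2) * s) := by
    have : 0 < s := by omega
    positivity
  apply Nat.eq_of_mul_eq_mul_left hpos
  rw [h1]
  ring

/-- the adjugate map in coordinates -/
def Lσ : (I4 → F) →ₗ[F] (I4 → F) where
  toFun v := Sum.elim (Sum.elim (fun _ => - v (.inl (.inr 0))) (fun _ => - v (.inl (.inl 0))))
    (fun k => - v (.inr k))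
  map_add' v w := by
    funext k
    rcases k with (k | k) | k <;> simp <;> ring
  map_smul' c v := by
    funext k
    rcases k with (k | k) | k <;> simp

lemma toH_Lσ (v : I4 → F) : toH D (Lσ v) = adjugate (toH D v) := by
  rw [adjugate_fin_two]
  ext i j
  fin_cases i <;> fin_cases j <;> simp [toH, Lσ] <;> ring

lemma Lσ_comp : (Lσ : (I4 → F) →ₗ[F] (I4 → F)).comp Lσ = LinearMap.id := by
  apply LinearMap.ext
  intro v
  funext k
  rcases k with (k | k) | k
  · have : k = 0 := Subsingleton.elim _ _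
    subst this; simp [Lσ]
  · have : k = 0 := Subsingleton.elim _ _
    subst this; simp [Lσ]
  · simp [Lσ]

lemma σ_mul_self : LinearMap.toMatrix' (Lσ : (I4 → F) →ₗ[F] (I4 → F)) * LinearMap.toMatrix' Lσ
    = 1 := by
  rw [← LinearMap.toMatrix'_comp, Lσ_comp, LinearMap.toMatrix'_id]

/-- the isometry induced by the adjugate -/
def σ₀ (D : Dat F K a b) : Cfsg.isometryGroup F (Cfsg.quadFormMinus 1 F a b) :=
  ⟨⟨LinearMap.toMatrix' Lσ, LinearMap.toMatrix' Lσ, σ_mul_self, σ_mul_self⟩, by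
    rw [Cfsg.Agent.Lib.helper50.mem_isometryGroup_iff]
    intro u
    show Cfsg.quadFormMinus 1 F a b (LinearMap.toMatrix' Lσ *ᵥ u) = _
    rw [LinearMap.toMatrix'_mulVec]
    apply D.i.injective
    apply neg_injective
    rw [← det_toH, ← det_toH, toH_Lσ, Matrix.det_adjugate]
    simp⟩

lemma σ₀_mul_σ₀ : σ₀ D * σ₀ D = 1 := by
  apply Subtype.ext
  apply Units.ext
  exact σ_mul_self

/-- conjugate transpose on `GL_2(K)` -/
def starGL (g : GL (Fin 2) K) : GL (Fin 2) K :=
  ⟨star D g.1, star D (g⁻¹).1, by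
    rw [← star_mul, ← Units.val_mul, inv_mul_cancel, Units.val_one, star_one], by
    rw [← star_mul, ← Units.val_mul, mul_inv_cancel, Units.val_one, star_one]⟩

/-- the twist `g ↦ (g^*)⁻¹` on `G₁` -/
def tw (g : G₁ D) : G₁ D :=
  ⟨starGL D (g⁻¹).1, by
    have h := (g⁻¹).2
    rw [mem_G₁] at h
    show (star D ((g⁻¹ : G₁ D).1).1).det * D.σ (star D ((g⁻¹ : G₁ D).1).1).det = 1
    rw [det_star, D.hσσ, mul_comm]
    exact h⟩

lemma σ₀_mul_rho₁ (g : G₁ D) : σ₀ D * rho₁ D g = rho₁ D (tw D g) * σ₀ D := by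
  apply Subtype.ext
  apply Units.ext
  show LinearMap.toMatrix' Lσ * LinearMap.toMatrix' (L D g.1)
    = LinearMap.toMatrix' (L D (tw D g).1) * LinearMap.toMatrix' Lσ
  rw [← LinearMap.toMatrix'_comp, ← LinearMap.toMatrix'_comp]
  congr 1
  apply LinearMap.ext
  intro v
  apply toH_injective D
  rw [LinearMap.comp_apply, LinearMap.comp_apply, toH_Lσ, toH_L, toH_L, toH_Lσ]
  show adjugate (g.1.1 * toH D v * star D g.1.1)
    = star D ((g⁻¹ : G₁ D).1).1 * adjugate (toH D v) * star D (star D ((g⁻¹ : G₁ D).1).1)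
  have hg : g.1.1.det * D.σ g.1.1.det = 1 := g.2
  have h1 : adjugate (star D g.1.1) = D.σ g.1.1.det • star D ((g⁻¹ : G₁ D).1).1 := by
    have := Cfsg.Agent.S0299.adj_unit (starGL D g.1)
    rw [show (starGL D g.1).1 = star D g.1.1 from rfl, det_star] at this
    exact this
  rw [star_star, Matrix.adjugate_mul_distrib, Matrix.adjugate_mul_distrib, h1,
    Cfsg.Agent.S0299.adj_unit g.1, Matrix.mul_smul, Matrix.smul_mul, Matrix.mul_smul, smul_smul,
    mul_comm, hg, one_smul, mul_assoc]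
  rfl

lemma σ₀_not_mem : σ₀ D ∉ (rho₁ D).range := by
  rintro ⟨g, hg⟩
  have hL : L D g.1 = Lσ := by
    have h1 : LinearMap.toMatrix' (L D g.1) = LinearMap.toMatrix' (Lσ : (I4 → F) →ₗ[F] _) :=
      congrArg (fun x : Cfsg.isometryGroup F (Cfsg.quadFormMinus 1 F a b) => (x.1 : GL I4 F).1) hg
    exact LinearMap.toMatrix'.injective h1
  have hM : ∀ v : I4 → F, g.1.1 * toH D v * star D g.1.1 = adjugate (toH D v) := by
    intro v
    rw [← toH_L, hL, toH_Lσ]
  have h1 : g.1.1 * star D g.1.1 = 1 := by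
    have := hM vOne
    rwa [toH_vOne, mul_one, Matrix.adjugate_one] at this
  have hcomm : ∀ v : I4 → F, g.1.1 * toH D v = adjugate (toH D v) * g.1.1 := by
    intro v
    have h2 : star D g.1.1 * g.1.1 = 1 := mul_eq_one_comm.mp h1
    calc g.1.1 * toH D v = g.1.1 * toH D v * (star D g.1.1 * g.1.1) := by rw [h2, mul_one]
      _ = (g.1.1 * toH D v * star D g.1.1) * g.1.1 := by simp only [mul_assoc]
      _ = adjugate (toH D v) * g.1.1 := by rw [hM v]
  have e1 := hcomm vE
  have e2 := hcomm vS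
  have e3 := hcomm vT
  rw [toH_vE, adjugate_fin_two] at e1
  rw [toH_vS, adjugate_fin_two] at e2
  rw [toH_vT, adjugate_fin_two] at e3
  have a00 : g.1.1 0 0 = 0 := by
    have := congrFun (congrFun e1 0) 0
    simpa [Matrix.mul_apply, Fin.sum_univ_two, Matrix.vecMul, dotProduct] using this
  have hbc : g.1.1 0 1 = - g.1.1 1 0 := by
    have := congrFun (congrFun e2 0) 0
    simpa [Matrix.mul_apply, Fin.sum_univ_two, Matrix.vecMul, dotProduct] using this
  have a01 : g.1.1 0 1 = 0 := by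
    have := congrFun (congrFun e3 0) 0
    simp [Matrix.mul_apply, Fin.sum_univ_two, Matrix.vecMul, dotProduct] at this
    have h3 : g.1.1 0 1 * (D.β - D.α) = 0 := by
      rw [hbc] at this ⊢
      linear_combination -this
    rcases mul_eq_zero.mp h3 with h | h
    · exact h
    · exact absurd h (sub_ne D)
  have h6 := congrFun (congrFun h1 0) 0
  rw [Matrix.mul_apply, Fin.sum_univ_two, a00, a01] at h6
  simp at h6

lemma cover [Fintype F] [Fintype K] (hK : Fintype.card K = Fintype.card F ^ 2)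
    (hab : ∀ z₁ z₂ : F, z₁ ^ 2 + a * z₁ * z₂ + b * z₂ ^ 2 = 0 → z₁ = 0 ∧ z₂ = 0)
    (x : Cfsg.isometryGroup F (Cfsg.quadFormMinus 1 F a b)) :
    ∃ g : G₁ D, x = rho₁ D g ∨ x = σ₀ D * rho₁ D g := by
  by_cases hx : x ∈ (rho₁ D).range
  · obtain ⟨p, hp⟩ := hx
    exact ⟨p, Or.inl hp.symm⟩
  · have : σ₀ D * x ∈ (rho₁ D).range := by
      rw [Subgroup.mul_mem_iff_of_index_two (index_range_rho₁ D hK hab)]
      exact ⟨fun h => absurd h (σ₀_not_mem D), fun h => absurd h hx⟩
    obtain ⟨p, hp⟩ := this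
    exact ⟨p, Or.inr (by rw [hp, ← mul_assoc, σ₀_mul_σ₀, one_mul])⟩

/-- the homomorphism from `SL_2(K)` to the isometry group -/
noncomputable def ψ₀ : SpecialLinearGroup (Fin 2) K →*
    Cfsg.isometryGroup F (Cfsg.quadFormMinus 1 F a b) :=
  (rho₁ D).comp (ι₁ D)

lemma comm_le_range : ⁅(rho₁ D).range, (rho₁ D).range⁆ ≤ (ψ₀ D).range := by
  rw [Subgroup.commutator_le]
  rintro _ ⟨p, rfl⟩ _ ⟨p', rfl⟩
  rw [← map_commutatorElement]
  obtain ⟨s, hs⟩ := mem_range_ι₁ D ⁅p, p'⁆ (Cfsg.Agent.S0299.det_comm_GL p.1 p'.1)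
  exact ⟨s, by rw [← hs]; rfl⟩

lemma σ₀_comm_mem (g : G₁ D) : ⁅σ₀ D, rho₁ D g⁆ ∈ (ψ₀ D).range := by
  have h1 : ⁅σ₀ D, rho₁ D g⁆ = rho₁ D (tw D g * g⁻¹) := by
    rw [commutatorElement_def, σ₀_mul_rho₁, mul_assoc (rho₁ D (tw D g)), mul_inv_cancel, mul_one,
      map_mul, map_inv]
  rw [h1]
  have hdet : (tw D g * g⁻¹).1.1.det = 1 := by
    have h := (g⁻¹).2
    rw [mem_G₁] at h
    show (star D ((g⁻¹ : G₁ D).1).1 * ((g⁻¹ : G₁ D).1).1).det = 1
    rw [Matrix.det_mul, det_star, mul_comm]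
    exact h
  obtain ⟨s, hs⟩ := mem_range_ι₁ D _ hdet
  exact ⟨s, by rw [← hs]; rfl⟩

lemma range_le_comm (hc : ∃ c : K, c ≠ 0 ∧ c ^ 2 ≠ 1) :
    (ψ₀ D).range ≤ ⁅(rho₁ D).range, (rho₁ D).range⁆ := by
  obtain ⟨c, hc0, hc1⟩ := hc
  rintro _ ⟨s, rfl⟩
  have hs : s ∈ commutator (SpecialLinearGroup (Fin 2) K) := by
    rw [SL2.commutator_eq_top hc0 hc1]
    exact Subgroup.mem_top _
  have h1 : ψ₀ D s ∈ (commutator (SpecialLinearGroup (Fin 2) K)).map (ψ₀ D) :=
    Subgroup.mem_map_of_mem _ hs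
  rw [commutator_def, Subgroup.map_commutator] at h1
  refine Subgroup.commutator_mono ?_ ?_ h1
  · rintro _ ⟨t, -, rfl⟩
    exact ⟨ι₁ D t, rfl⟩
  · rintro _ ⟨t, -, rfl⟩
    exact ⟨ι₁ D t, rfl⟩

lemma commutator_eq_range [Fintype F] [Fintype K] (hK : Fintype.card K = Fintype.card F ^ 2)
    (hab : ∀ z₁ z₂ : F, z₁ ^ 2 + a * z₁ * z₂ + b * z₂ ^ 2 = 0 → z₁ = 0 ∧ z₂ = 0)
    (hc : ∃ c : K, c ≠ 0 ∧ c ^ 2 ≠ 1) :
    commutator (Cfsg.isometryGroup F (Cfsg.quadFormMinus 1 F a b)) = (ψ₀ D).range := by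
  have hN : (rho₁ D).range.Normal :=
    Subgroup.normal_of_index_eq_two (index_range_rho₁ D hK hab)
  have hNN : ⁅(rho₁ D).range, (rho₁ D).range⁆ = (ψ₀ D).range :=
    le_antisymm (comm_le_range D) (range_le_comm D hc)
  apply le_antisymm
  · rw [← hNN]
    apply Cfsg.Agent.S0299.commutator_le_of_cover (rho₁ D).range _ (σ₀ D)
    · intro x
      obtain ⟨p, hp⟩ := cover D hK hab x
      exact ⟨rho₁ D p, ⟨p, rfl⟩, hp⟩
    · intro a ha b hb
      exact Subgroup.commutator_mem_commutator ha hb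
    · rintro _ ⟨p, rfl⟩
      rw [hNN]
      exact σ₀_comm_mem D p
  · rw [← hNN, commutator_def]
    exact Subgroup.commutator_mono le_top le_top

end model

lemma mem_center_of_quasi_commute {K : Type*} [Field K] (g : SpecialLinearGroup (Fin 2) K)
    (H : ∀ h : SpecialLinearGroup (Fin 2) K,
      g * h * g⁻¹ * h⁻¹ ∈ Subgroup.center (SpecialLinearGroup (Fin 2) K)) :
    g ∈ Subgroup.center (SpecialLinearGroup (Fin 2) K) := by
  by_cases h2 : (2 : K) = 0
  swap
  · exact Cfsg.Agent.S0298.mem_center_of_quasi_commute h2 g H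
  have key : ∀ h : SpecialLinearGroup (Fin 2) K, h.1 * g.1 = g.1 * h.1 := by
    intro h
    obtain ⟨r, hr1, hr2⟩ := Matrix.SpecialLinearGroup.mem_center_iff.mp (H h)
    have hr1' : r ^ 2 = 1 := by simpa using hr1
    have hr : r = 1 := by
      have h3 : (r - 1) ^ 2 = 0 := by linear_combination hr1' - r * h2 + h2
      have h4 : r - 1 = 0 := by simpa using h3
      linear_combination h4
    have e : (g * h * g⁻¹ * h⁻¹) * (h * g) = g * h := by group
    have e' : (g * h * g⁻¹ * h⁻¹).1 * (h.1 * g.1) = g.1 * h.1 := congrArg Subtype.val e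
    rw [← hr2, hr] at e'
    rw [← e']
    simp
  have hdet : g.1 0 0 * g.1 1 1 - g.1 0 1 * g.1 1 0 = 1 := by
    have := g.2
    rwa [Matrix.det_fin_two] at this
  have hr := key ⟨!![1, 1; 0, 1], by simp [Matrix.det_fin_two]⟩
  have hr' := key ⟨!![1, 0; 1, 1], by simp [Matrix.det_fin_two]⟩
  have a2 := congrFun (congrFun hr 0) 0
  have a3 := congrFun (congrFun hr 0) 1
  rw [Matrix.mul_apply, Matrix.mul_apply, Fin.sum_univ_two, Fin.sum_univ_two] at a2 a3
  simp at a2 a3
  have b2 := congrFun (congrFun hr' 0) 0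
  rw [Matrix.mul_apply, Matrix.mul_apply, Fin.sum_univ_two, Fin.sum_univ_two] at b2
  simp at b2
  have hc : g.1 1 0 = 0 := a2
  have hd : g.1 1 1 = g.1 0 0 := by linear_combination a3
  have hb : g.1 0 1 = 0 := b2
  rw [Matrix.SpecialLinearGroup.mem_center_iff]
  refine ⟨g.1 0 0, ?_, ?_⟩
  · rw [hd, hb] at hdet
    simp only [Fintype.card_fin]
    linear_combination hdet
  · ext i j
    fin_cases i <;> fin_cases j <;> simp [hc, hd, hb]

/-- PΩ^-_4(q) is isomorphic to PSL_2(q^2). -/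
theorem result {F K : Type*} [Field F] [Fintype F] [Field K] [Fintype K] {q : ℕ} (hF : Fintype.card F = q) (hK : Fintype.card K = q ^ 2) (a b : F) (hab : ∀ z₁ z₂ : F, z₁ ^ 2 + a * z₁ * z₂ + b * z₂ ^ 2 = 0 → z₁ = 0 ∧ z₂ = 0) : Nonempty (Cfsg.POmega F (Cfsg.quadFormMinus 1 F a b) ≃* Matrix.ProjectiveSpecialLinearGroup (Fin 2) K) := by
  classical
  subst hF
  obtain ⟨D⟩ := exists_dat hK a b hab
  have hc : ∃ c : K, c ≠ 0 ∧ c ^ 2 ≠ 1 := by
    by_contra hcon
    push Not at hcon
    have h1 : (Finset.univ : Finset K) ⊆ {0, 1, -1} := fun c _ => by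
      by_cases h0 : c = 0
      · simp [h0]
      · have h2 := hcon c h0
        have h3 : (c - 1) * (c + 1) = 0 := by linear_combination h2
        rcases mul_eq_zero.mp h3 with h | h
        · have : c = 1 := by linear_combination h
          simp [this]
        · have : c = -1 := by linear_combination h
          simp [this]
    have h2 := Finset.card_le_card h1
    have h3 : ({0, 1, -1} : Finset K).card ≤ 3 := Finset.card_le_three
    rw [Finset.card_univ, hK] at h2
    have hq : 2 ≤ Fintype.card F := Fintype.one_lt_card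
    nlinarith
  have hΩ := commutator_eq_range D hK hab hc
  let ψ : SpecialLinearGroup (Fin 2) K →*
      commutator (Cfsg.isometryGroup F (Cfsg.quadFormMinus 1 F a b)) :=
    (ψ₀ D).codRestrict _ (fun p => by rw [hΩ]; exact ⟨p, rfl⟩)
  have hsurj : Function.Surjective ψ := by
    rintro ⟨x, hx⟩
    have hx' : x ∈ (ψ₀ D).range := hΩ ▸ hx
    obtain ⟨p, rfl⟩ := hx'
    exact ⟨p, Subtype.ext rfl⟩
  have hkψ : ∀ s : SpecialLinearGroup (Fin 2) K, ψ s = 1 →
      s ∈ Subgroup.center (SpecialLinearGroup (Fin 2) K) := by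
    intro s hs
    have h1 : rho₁ D (ι₁ D s) = 1 := congrArg Subtype.val hs
    rw [← MonoidHom.mem_ker, ker_rho₁] at h1
    obtain ⟨u, hu⟩ := h1
    have h2 : (GeneralLinearGroup.scalar (Fin 2) u.1).1 = s.1 :=
      congrArg (fun p : G₁ D => p.1.1) hu
    rw [Matrix.GeneralLinearGroup.coe_scalar] at h2
    rw [Matrix.SpecialLinearGroup.mem_center_iff]
    refine ⟨u.1.1, ?_, h2⟩
    have h3 := s.2
    rw [← h2] at h3
    simpa [Matrix.det_diagonal, Fin.prod_univ_two, sq] using h3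
  let f₁ : SpecialLinearGroup (Fin 2) K →* Cfsg.POmega F (Cfsg.quadFormMinus 1 F a b) :=
    (QuotientGroup.mk' (Subgroup.center
      (commutator (Cfsg.isometryGroup F (Cfsg.quadFormMinus 1 F a b))))).comp ψ
  have hf₁ : Function.Surjective f₁ := (QuotientGroup.mk'_surjective _).comp hsurj
  have hker₁ : f₁.ker = Subgroup.center (SpecialLinearGroup (Fin 2) K) := by
    ext p
    rw [MonoidHom.mem_ker]
    show QuotientGroup.mk' _ (ψ p) = 1 ↔ _
    rw [QuotientGroup.mk'_apply, QuotientGroup.eq_one_iff]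
    constructor
    · intro h
      apply mem_center_of_quasi_commute
      intro s
      apply hkψ
      rw [map_mul, map_mul, map_mul, map_inv, map_inv]
      have := Subgroup.mem_center_iff.mp h (ψ s)
      rw [mul_inv_eq_one, mul_inv_eq_iff_eq_mul, this]
    · intro h
      rw [Subgroup.mem_center_iff] at h ⊢
      intro g
      obtain ⟨t, rfl⟩ := hsurj g
      rw [← map_mul, ← map_mul, h t]
  exact ⟨(QuotientGroup.quotientKerEquivOfSurjective f₁ hf₁).symm.trans
    (QuotientGroup.quotientMulEquivOfEq hker₁)⟩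

end Cfsg.Agent.S0300
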