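import Cfsg.Statements.S0302
import Cfsg.Agent.S0287
import Cfsg.Agent.S0248
import Cfsg.Agent.S0299
import Cfsg.Agent.Lib.helper7.Klein
import Cfsg.Agent.Lib.helper7.CardSL

set_option autoImplicit false
set_option linter.unusedSimpArgs false
open Cfsg

namespace Cfsg.Agent.S0302

open Matrix Cfsg.Agent.Lib.helper7.Klein
open scoped commutatorElement

variable {F : Type*} [Field F]

/-- index type of the 6-dimensional space -/
abbrev I6 : Type := Fin 3 ⊕ Fin 3

/-- the action of `(λ, g)`: `M ↦ λ g M gᵀ` -/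
def L (p : Fˣ × GL (Fin 4) F) : (I6 → F) →ₗ[F] (I6 → F) := p.1.1 • Λ p.2.1

lemma toA_L (p : Fˣ × GL (Fin 4) F) (v : I6 → F) :
    toA (L p v) = p.1.1 • (p.2.1 * toA v * p.2.1ᵀ) := by
  show toA (p.1.1 • Λ p.2.1 v) = _
  rw [toA_smul, toA_Λ]

lemma L_one : L (1 : Fˣ × GL (Fin 4) F) = LinearMap.id := by
  apply LinearMap.ext
  intro v
  apply toA_injective
  rw [toA_L]
  simp

lemma L_mul (p p' : Fˣ × GL (Fin 4) F) : L (p * p') = (L p).comp (L p') := by
  apply LinearMap.ext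
  intro v
  apply toA_injective
  rw [LinearMap.comp_apply, toA_L, toA_L, toA_L]
  show (p.1.1 * p'.1.1) • (p.2.1 * p'.2.1 * toA v * (p.2.1 * p'.2.1)ᵀ) = _
  rw [Matrix.transpose_mul, Matrix.mul_smul, Matrix.smul_mul, smul_smul]
  simp only [mul_assoc]

lemma Q_L (p : Fˣ × GL (Fin 4) F) (hp : p.1.1 ^ 2 * p.2.1.det = 1) (v : I6 → F) :
    Cfsg.quadFormPlus 3 F (L p v) = Cfsg.quadFormPlus 3 F v := by
  show ∑ i : Fin 3, (L p v) (.inl i) * (L p v) (.inr i) = ∑ i : Fin 3, v (.inl i) * v (.inr i)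
  have h := Q_Λ p.2.1 v
  calc ∑ i : Fin 3, (L p v) (.inl i) * (L p v) (.inr i)
      = p.1.1 ^ 2 * ∑ i : Fin 3, Λ p.2.1 v (.inl i) * Λ p.2.1 v (.inr i) := by
        rw [Finset.mul_sum]
        apply Finset.sum_congr rfl
        intro i _
        show (p.1.1 * Λ p.2.1 v (.inl i)) * (p.1.1 * Λ p.2.1 v (.inr i)) = _
        ring
    _ = _ := by rw [h, ← mul_assoc, hp, one_mul]

/-- the matrix version -/
def R0 : Fˣ × GL (Fin 4) F →* Matrix I6 I6 F where
  toFun p := LinearMap.toMatrix' (L p)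
  map_one' := by rw [L_one, LinearMap.toMatrix'_id]
  map_mul' p p' := by rw [L_mul, LinearMap.toMatrix'_comp]

/-- the homomorphism to `GL_6` -/
def R : Fˣ × GL (Fin 4) F →* GL I6 F := R0.toHomUnits

lemma R_mulVec (p : Fˣ × GL (Fin 4) F) (v : I6 → F) : (R p).1 *ᵥ v = L p v := by
  show LinearMap.toMatrix' (L p) *ᵥ v = _
  rw [LinearMap.toMatrix'_mulVec]

/-- the multiplier character -/
def δ : Fˣ × GL (Fin 4) F →* Fˣ :=
  ((MonoidHom.fst _ _) ^ 2) * (GeneralLinearGroup.det.comp (MonoidHom.snd _ _))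

lemma δ_apply (p : Fˣ × GL (Fin 4) F) : δ p = p.1 ^ 2 * GeneralLinearGroup.det p.2 := rfl

/-- the pairs `(λ, g)` with `λ² det g = 1` -/
def Gt : Subgroup (Fˣ × GL (Fin 4) F) := δ.ker

lemma mem_Gt (p : Fˣ × GL (Fin 4) F) : p ∈ (Gt : Subgroup _) ↔ p.1.1 ^ 2 * p.2.1.det = 1 := by
  show δ p = 1 ↔ _
  rw [δ_apply, Units.ext_iff]
  rfl

lemma R_mem (p : (Gt : Subgroup (Fˣ × GL (Fin 4) F))) :
    R p.1 ∈ Cfsg.isometryGroup F (Cfsg.quadFormPlus 3 F) := by
  rw [Cfsg.Agent.Lib.helper50.mem_isometryGroup_iff]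
  intro u
  rw [R_mulVec, Q_L _ ((mem_Gt _).mp p.2)]

/-- the homomorphism to the isometry group -/
def rhoT : (Gt : Subgroup (Fˣ × GL (Fin 4) F)) →* Cfsg.isometryGroup F (Cfsg.quadFormPlus 3 F) :=
  (R.comp (Gt : Subgroup (Fˣ × GL (Fin 4) F)).subtype).codRestrict _ R_mem

lemma rhoT_eq_one_iff (p : (Gt : Subgroup (Fˣ × GL (Fin 4) F))) :
    rhoT p = 1 ↔ ∀ M : Matrix (Fin 4) (Fin 4) F, IsAlt M →
      p.1.1.1 • (p.1.2.1 * M * p.1.2.1ᵀ) = M := by
  have h1 : rhoT p = 1 ↔ L p.1 = LinearMap.id := by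
    rw [Subtype.ext_iff, Units.ext_iff]
    show LinearMap.toMatrix' (L p.1) = 1 ↔ _
    rw [← LinearMap.toMatrix'_id]
    exact LinearMap.toMatrix'.injective.eq_iff
  rw [h1]
  constructor
  · intro h M hM
    have h2 := toA_L p.1 (ofA M)
    rw [h, toA_ofA M hM] at h2
    rw [← h2]
    exact toA_ofA M hM
  · intro h
    apply LinearMap.ext
    intro v
    apply toA_injective
    rw [toA_L, h _ (isAlt_toA v)]
    rfl

lemma exists_third : ∀ k i : Fin 4, k ≠ i → ∃ j : Fin 4, i ≠ j ∧ k ≠ j := by decide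

lemma scalar_of_fix (lam : F) (g : Matrix (Fin 4) (Fin 4) F)
    (h : ∀ i j : Fin 4, i ≠ j →
      lam • (g * (El i j : Matrix (Fin 4) (Fin 4) F) * gᵀ) = El i j) :
    ∃ c : F, lam * c ^ 2 = 1 ∧ g = Matrix.scalar (Fin 4) c := by
  have hent : ∀ i j : Fin 4, i ≠ j → ∀ k l : Fin 4,
      lam * (g k i * g l j - g k j * g l i) = (El i j : Matrix (Fin 4) (Fin 4) F) k l := by
    intro i j hij k l
    have := congrFun (congrFun (h i j hij) k) l
    rwa [Matrix.smul_apply, conj_El_apply, smul_eq_mul] at this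
  have hoff : ∀ k i : Fin 4, k ≠ i → g k i = 0 := by
    intro k i hki
    obtain ⟨j, hij, hkj⟩ := exists_third k i hki
    have e1 := hent i j hij i j
    have e2 := hent i j hij k j
    have e3 := hent i j hij k i
    have v1 : (El i j : Matrix (Fin 4) (Fin 4) F) i j = 1 := by
      simp [El, Matrix.single_apply, hij, hij.symm]
    have v2 : (El i j : Matrix (Fin 4) (Fin 4) F) k j = 0 := by
      simp [El, Matrix.single_apply, hki, hki.symm, hkj, hkj.symm]
    have v3 : (El i j : Matrix (Fin 4) (Fin 4) F) k i = 0 := by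
      simp [El, Matrix.single_apply, hki, hki.symm, hkj, hkj.symm]
    rw [v1] at e1
    rw [v2] at e2
    rw [v3] at e3
    linear_combination -(g k i) * e1 + (g i i) * e2 - (g j i) * e3
  have hdiag : ∀ i j : Fin 4, i ≠ j → lam * g i i * g j j = 1 := by
    intro i j hij
    have e1 := hent i j hij i j
    have v1 : (El i j : Matrix (Fin 4) (Fin 4) F) i j = 1 := by
      simp [El, Matrix.single_apply, hij, hij.symm]
    rw [v1, hoff i j hij] at e1
    linear_combination e1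
  have d01 := hdiag 0 1 (by decide)
  have d02 := hdiag 0 2 (by decide)
  have d12 := hdiag 1 2 (by decide)
  have d03 := hdiag 0 3 (by decide)
  have hl0 : lam * g 0 0 ≠ 0 := by
    intro h0
    rw [h0, zero_mul] at d01
    exact zero_ne_one d01
  have hl2 : lam * g 2 2 ≠ 0 := by
    intro h0
    have : lam * g 0 0 * g 2 2 = (lam * g 2 2) * g 0 0 := by ring
    rw [this, h0, zero_mul] at d02
    exact zero_ne_one d02
  have e12 : g 1 1 = g 2 2 := by
    apply mul_left_cancel₀ hl0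
    rw [d01, d02]
  have e32 : g 3 3 = g 2 2 := by
    apply mul_left_cancel₀ hl0
    rw [d03, d02]
  have e01 : g 0 0 = g 1 1 := by
    apply mul_left_cancel₀ hl2
    linear_combination d02 - d12
  refine ⟨g 0 0, ?_, ?_⟩
  · rw [e01] at d01 ⊢
    linear_combination d01
  · ext i j
    by_cases hij : i = j
    · subst hij
      fin_cases i <;> simp [e01, e12, e32]
    · rw [hoff i j hij]
      simp [Matrix.diagonal_apply_ne _ hij]

/-- the scalars `(c⁻², c)` -/
def Δ : Fˣ →* (Gt : Subgroup (Fˣ × GL (Fin 4) F)) :=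
  (((MonoidHom.id Fˣ)⁻¹ ^ 2).prod (GeneralLinearGroup.scalar (Fin 4))).codRestrict _ (fun c => by
    rw [mem_Gt]
    show ((c⁻¹ ^ 2 : Fˣ) : F) ^ 2 * (GeneralLinearGroup.scalar (Fin 4) c).1.det = 1
    rw [Matrix.GeneralLinearGroup.coe_scalar]
    simp only [Matrix.scalar_apply, Matrix.det_diagonal, Fin.prod_univ_four, Units.val_pow_eq_pow_val,
      Units.val_inv_eq_inv_val]
    have hc : (c : F) ≠ 0 := c.ne_zero
    field_simp)

lemma Δ_fst (c : Fˣ) : (Δ c).1.1 = c⁻¹ ^ 2 := rfl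

lemma Δ_snd (c : Fˣ) : (Δ c).1.2 = GeneralLinearGroup.scalar (Fin 4) c := rfl

lemma Δ_injective : Function.Injective (Δ : Fˣ →* (Gt : Subgroup (Fˣ × GL (Fin 4) F))) := by
  intro a b hab
  have h : (GeneralLinearGroup.scalar (Fin 4) a).1 (0 : Fin 4) 0
      = (GeneralLinearGroup.scalar (Fin 4) b).1 (0 : Fin 4) 0 :=
    congrArg (fun p : (Gt : Subgroup (Fˣ × GL (Fin 4) F)) => p.1.2.1 0 0) hab
  apply Units.ext
  simpa [Matrix.GeneralLinearGroup.coe_scalar] using h

lemma ker_rhoT : (rhoT : (Gt : Subgroup (Fˣ × GL (Fin 4) F)) →* _).ker = Δ.range := by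
  ext p
  constructor
  · intro hp
    rw [MonoidHom.mem_ker, rhoT_eq_one_iff] at hp
    obtain ⟨c, hc1, hc2⟩ := scalar_of_fix p.1.1.1 p.1.2.1 (fun i j _ => hp _ (isAlt_El i j))
    have hc0 : c ≠ 0 := by
      rintro rfl
      simp at hc1
    refine ⟨Units.mk0 c hc0, ?_⟩
    apply Subtype.ext
    apply Prod.ext
    · rw [Δ_fst]
      apply Units.ext
      simp only [Units.val_pow_eq_pow_val, Units.val_inv_eq_inv_val, Units.val_mk0]
      field_simp
      linear_combination -hc1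
    · rw [Δ_snd]
      apply Units.ext
      rw [Matrix.GeneralLinearGroup.coe_scalar, hc2]
      rfl
  · rintro ⟨c, rfl⟩
    rw [MonoidHom.mem_ker, rhoT_eq_one_iff]
    intro M _
    rw [Δ_fst, Δ_snd, Matrix.GeneralLinearGroup.coe_scalar]
    have hc : (c : F) ≠ 0 := c.ne_zero
    ext i j
    simp only [Matrix.scalar_apply, Matrix.diagonal_transpose, Matrix.diagonal_mul,
      Matrix.mul_diagonal, Matrix.smul_apply, smul_eq_mul, Units.val_pow_eq_pow_val,
      Units.val_inv_eq_inv_val]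
    field_simp

lemma card_ker_rhoT [Fintype F] :
    Nat.card (rhoT : (Gt : Subgroup (Fˣ × GL (Fin 4) F)) →* _).ker = Fintype.card F - 1 := by
  classical
  rw [ker_rhoT, ← Nat.card_congr (MonoidHom.ofInjective Δ_injective).toEquiv,
    Nat.card_eq_fintype_card, Fintype.card_units]

lemma δ_surjective : Function.Surjective (δ : Fˣ × GL (Fin 4) F →* Fˣ) := by
  intro u
  obtain ⟨g, hg⟩ := Cfsg.Agent.Lib.helper7.det_GL_surjective (F := F) 4 u
  refine ⟨(1, g), ?_⟩
  rw [δ_apply, one_pow, one_mul, hg]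

lemma card_Gt [Fintype F] :
    Nat.card (Gt : Subgroup (Fˣ × GL (Fin 4) F)) = Nat.card (GL (Fin 4) F) := by
  classical
  have h1 := Subgroup.card_mul_index (δ : Fˣ × GL (Fin 4) F →* Fˣ).ker
  rw [Subgroup.index_ker, MonoidHom.range_eq_top.mpr δ_surjective, Subgroup.card_top,
    Nat.card_prod, mul_comm (Nat.card Fˣ)] at h1
  have hpos : 0 < Nat.card Fˣ := Nat.card_pos
  exact Nat.eq_of_mul_eq_mul_right hpos h1

lemma card_range_rhoT [Fintype F] :
    Nat.card (rhoT : (Gt : Subgroup (Fˣ × GL (Fin 4) F)) →* _).range =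
      Fintype.card F ^ 6 * (Fintype.card F ^ 2 - 1) * (Fintype.card F ^ 3 - 1)
        * (Fintype.card F ^ 4 - 1) := by
  classical
  have h1 : Nat.card (rhoT : (Gt : Subgroup (Fˣ × GL (Fin 4) F)) →* _).range
      * (Fintype.card F - 1) = Nat.card (GL (Fin 4) F) := by
    rw [← Subgroup.index_ker, ← card_ker_rhoT, mul_comm, ← card_Gt]
    exact Subgroup.card_mul_index _
  rw [Matrix.card_GL_field, Fin.prod_univ_four] at h1
  have hq : 2 ≤ Fintype.card F := Fintype.one_lt_card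
  obtain ⟨t, ht⟩ : ∃ t, Fintype.card F = t + 1 := ⟨Fintype.card F - 1, by omega⟩
  have h0 : Fintype.card F ^ 4 - Fintype.card F ^ ((0 : Fin 4) : ℕ) = Fintype.card F ^ 4 - 1 := by
    simp
  have h1' : Fintype.card F ^ 4 - Fintype.card F ^ ((1 : Fin 4) : ℕ)
      = Fintype.card F * (Fintype.card F ^ 3 - 1) := by
    simp only [Fin.val_one, pow_one]
    rw [Nat.mul_sub, mul_one]
    ring_nf
  have h2 : Fintype.card F ^ 4 - Fintype.card F ^ ((2 : Fin 4) : ℕ)
      = Fintype.card F ^ 2 * (Fintype.card F ^ 2 - 1) := by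
    simp only [Fin.val_two]
    rw [Nat.mul_sub, mul_one]
    ring_nf
  have h3 : Fintype.card F ^ 4 - Fintype.card F ^ ((3 : Fin 4) : ℕ)
      = Fintype.card F ^ 3 * (Fintype.card F - 1) := by
    have : ((3 : Fin 4) : ℕ) = 3 := rfl
    rw [this, Nat.mul_sub, mul_one]
    ring_nf
  rw [h0, h1', h2, h3] at h1
  have hpos : 0 < Fintype.card F - 1 := by omega
  apply Nat.eq_of_mul_eq_mul_right hpos
  rw [h1]
  ring

lemma index_range_rhoT [Fintype F] :
    (rhoT : (Gt : Subgroup (Fˣ × GL (Fin 4) F)) →* _).range.index = 2 := by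
  have h1 := Subgroup.card_mul_index
    (rhoT : (Gt : Subgroup (Fˣ × GL (Fin 4) F)) →* _).range
  rw [card_range_rhoT, Cfsg.Agent.S0287.result rfl 3 (by norm_num)] at h1
  have hq : 2 ≤ Fintype.card F := Fintype.one_lt_card
  have hpos : 0 < Fintype.card F ^ 6 * (Fintype.card F ^ 2 - 1) * (Fintype.card F ^ 3 - 1)
        * (Fintype.card F ^ 4 - 1) := by
    have h2 : 4 ≤ Fintype.card F ^ 2 := by nlinarith
    have h3 : 8 ≤ Fintype.card F ^ 3 := by
      calc 8 = 2 ^ 3 := by norm_num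
        _ ≤ Fintype.card F ^ 3 := Nat.pow_le_pow_left hq 3
    have h4 : 16 ≤ Fintype.card F ^ 4 := by
      calc 16 = 2 ^ 4 := by norm_num
        _ ≤ Fintype.card F ^ 4 := Nat.pow_le_pow_left hq 4
    have h6 : 0 < Fintype.card F ^ 6 := by positivity
    have a2 : 0 < Fintype.card F ^ 2 - 1 := by omega
    have a3 : 0 < Fintype.card F ^ 3 - 1 := by omega
    have a4 : 0 < Fintype.card F ^ 4 - 1 := by omega
    positivity
  apply Nat.eq_of_mul_eq_mul_left hpos
  rw [h1]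
  simp [Finset.prod_range_succ]
  ring

/-- the duality in coordinates: swap of the two triples -/
def Lσ : (I6 → F) →ₗ[F] (I6 → F) := LinearMap.funLeft F F Sum.swap

lemma Lσ_apply (v : I6 → F) : Lσ v = v ∘ Sum.swap := rfl

lemma toA_Lσ (v : I6 → F) : toA (Lσ v) = st (toA v) := by
  rw [Lσ_apply, st_toA]

lemma Lσ_comp : (Lσ : (I6 → F) →ₗ[F] (I6 → F)).comp Lσ = LinearMap.id := by
  apply LinearMap.ext
  intro v
  funext k
  rcases k with k | k <;> rfl

lemma σ_mul_self : LinearMap.toMatrix' (Lσ : (I6 → F) →ₗ[F] (I6 → F)) * LinearMap.toMatrix' Lσ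
    = 1 := by
  rw [← LinearMap.toMatrix'_comp, Lσ_comp, LinearMap.toMatrix'_id]

/-- the isometry induced by the duality -/
def σ : Cfsg.isometryGroup F (Cfsg.quadFormPlus 3 F) :=
  ⟨⟨LinearMap.toMatrix' Lσ, LinearMap.toMatrix' Lσ, σ_mul_self, σ_mul_self⟩, by
    rw [Cfsg.Agent.Lib.helper50.mem_isometryGroup_iff]
    intro u
    show Cfsg.quadFormPlus 3 F (LinearMap.toMatrix' Lσ *ᵥ u) = _
    rw [LinearMap.toMatrix'_mulVec]
    show ∑ i : Fin 3, u (.inr i) * u (.inl i) = ∑ i : Fin 3, u (.inl i) * u (.inr i)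
    apply Finset.sum_congr rfl
    intro i _
    ring⟩

lemma σ_mul_σ : (σ : Cfsg.isometryGroup F (Cfsg.quadFormPlus 3 F)) * σ = 1 := by
  apply Subtype.ext
  apply Units.ext
  exact σ_mul_self

/-- inverse transpose on `GL_4` -/
def trInv (g : GL (Fin 4) F) : GL (Fin 4) F :=
  ⟨(g⁻¹).1ᵀ, g.1ᵀ, by
    rw [← Matrix.transpose_mul, ← Units.val_mul, mul_inv_cancel, Units.val_one,
      Matrix.transpose_one], by
    rw [← Matrix.transpose_mul, ← Units.val_mul, inv_mul_cancel, Units.val_one,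
      Matrix.transpose_one]⟩

lemma det_mul_det_inv (g : GL (Fin 4) F) : g.1.det * (g⁻¹).1.det = 1 := by
  rw [← Matrix.det_mul, ← Units.val_mul, mul_inv_cancel, Units.val_one, Matrix.det_one]

/-- the twist `(λ, g) ↦ (λ det g, g⁻ᵀ)` -/
def tw (p : (Gt : Subgroup (Fˣ × GL (Fin 4) F))) : (Gt : Subgroup (Fˣ × GL (Fin 4) F)) :=
  ⟨(p.1.1 * GeneralLinearGroup.det p.1.2, trInv p.1.2), by
    have hp := (mem_Gt _).mp p.2
    rw [mem_Gt]
    show (p.1.1.1 * p.1.2.1.det) ^ 2 * ((p.1.2⁻¹).1ᵀ).det = 1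
    rw [Matrix.det_transpose]
    have h := det_mul_det_inv p.1.2
    calc (p.1.1.1 * p.1.2.1.det) ^ 2 * (p.1.2⁻¹).1.det
        = (p.1.1.1 ^ 2 * p.1.2.1.det) * (p.1.2.1.det * (p.1.2⁻¹).1.det) := by ring
      _ = 1 := by rw [hp, h, one_mul]⟩

lemma st_smul (c : F) (M : Matrix (Fin 4) (Fin 4) F) : st (c • M) = c • st M := by
  ext i j
  fin_cases i <;> fin_cases j <;> simp [st]

lemma st_conj' (g : GL (Fin 4) F) (v : I6 → F) :
    st (g.1 * toA v * g.1ᵀ) = g.1.det • ((g⁻¹).1ᵀ * st (toA v) * (g⁻¹).1) := by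
  have h := st_conj g.1 v
  have h1 : (g⁻¹).1ᵀ * g.1ᵀ = 1 := by
    rw [← Matrix.transpose_mul, ← Units.val_mul, mul_inv_cancel, Units.val_one,
      Matrix.transpose_one]
  have h2 : g.1 * (g⁻¹).1 = 1 := by
    rw [← Units.val_mul, mul_inv_cancel, Units.val_one]
  calc st (g.1 * toA v * g.1ᵀ)
      = ((g⁻¹).1ᵀ * g.1ᵀ) * st (g.1 * toA v * g.1ᵀ) * (g.1 * (g⁻¹).1) := by
        rw [h1, h2, one_mul, mul_one]
    _ = (g⁻¹).1ᵀ * (g.1ᵀ * st (g.1 * toA v * g.1ᵀ) * g.1) * (g⁻¹).1 := by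
        simp only [mul_assoc]
    _ = _ := by rw [h, Matrix.mul_smul, Matrix.smul_mul]

lemma σ_mul_rhoT (p : (Gt : Subgroup (Fˣ × GL (Fin 4) F))) :
    σ * rhoT p = rhoT (tw p) * σ := by
  apply Subtype.ext
  apply Units.ext
  show LinearMap.toMatrix' Lσ * LinearMap.toMatrix' (L p.1)
    = LinearMap.toMatrix' (L (tw p).1) * LinearMap.toMatrix' Lσ
  rw [← LinearMap.toMatrix'_comp, ← LinearMap.toMatrix'_comp]
  congr 1
  apply LinearMap.ext
  intro v
  apply toA_injective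
  rw [LinearMap.comp_apply, LinearMap.comp_apply, toA_Lσ, toA_L, toA_L, toA_Lσ, st_smul,
    st_conj', smul_smul]
  show _ = (p.1.1.1 * p.1.2.1.det) • ((p.1.2⁻¹).1ᵀ * st (toA v) * ((p.1.2⁻¹).1ᵀ)ᵀ)
  rw [Matrix.transpose_transpose]

lemma σ_not_mem : (σ : Cfsg.isometryGroup F (Cfsg.quadFormPlus 3 F)) ∉
    (rhoT : (Gt : Subgroup (Fˣ × GL (Fin 4) F)) →* _).range := by
  rintro ⟨p, hp⟩
  have hL : L p.1 = Lσ := by
    have h1 : LinearMap.toMatrix' (L p.1) = LinearMap.toMatrix' (Lσ : (I6 → F) →ₗ[F] _) :=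
      congrArg (fun x : Cfsg.isometryGroup F (Cfsg.quadFormPlus 3 F) => (x.1 : GL I6 F).1) hp
    exact LinearMap.toMatrix'.injective h1
  have hM : ∀ M : Matrix (Fin 4) (Fin 4) F, IsAlt M →
      p.1.1.1 • (p.1.2.1 * M * p.1.2.1ᵀ) = st M := by
    intro M hM
    have h2 := toA_L p.1 (ofA M)
    rw [hL, toA_Lσ, toA_ofA M hM] at h2
    exact h2.symm
  have hent : ∀ i j k l : Fin 4,
      p.1.1.1 * (p.1.2.1 * (El i j : Matrix (Fin 4) (Fin 4) F) * p.1.2.1ᵀ) k l
        = st (El i j : Matrix (Fin 4) (Fin 4) F) k l := by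
    intro i j k l
    have := congrFun (congrFun (hM _ (isAlt_El i j)) k) l
    rwa [Matrix.smul_apply, smul_eq_mul] at this
  -- the first column of `g` vanishes
  have hst : ∀ (i j k l : Fin 4) (c : F),
      st (El i j : Matrix (Fin 4) (Fin 4) F) k l = c →
      p.1.1.1 * (p.1.2.1 * (El i j : Matrix (Fin 4) (Fin 4) F) * p.1.2.1ᵀ) k l = c := by
    intro i j k l c hc
    rw [hent, hc]
  have c0 : p.1.2.1 0 0 = 0 := by
    have t := three_term p.1.2.1 0 1 0 2 3
    have e1 := hst 0 1 2 3 1 (by simp [st, El, Matrix.single_apply])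
    have e2 := hst 0 1 0 3 0 (by simp [st, El, Matrix.single_apply])
    have e3 := hst 0 1 0 2 0 (by simp [st, El, Matrix.single_apply])
    linear_combination (p.1.1.1) * t - (p.1.2.1 0 0) * e1 + (p.1.2.1 2 0) * e2
      - (p.1.2.1 3 0) * e3
  have c1 : p.1.2.1 1 0 = 0 := by
    have t := three_term p.1.2.1 0 1 1 2 3
    have e1 := hst 0 1 2 3 1 (by simp [st, El, Matrix.single_apply])
    have e2 := hst 0 1 1 3 0 (by simp [st, El, Matrix.single_apply])
    have e3 := hst 0 1 1 2 0 (by simp [st, El, Matrix.single_apply])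
    linear_combination (p.1.1.1) * t - (p.1.2.1 1 0) * e1 + (p.1.2.1 2 0) * e2
      - (p.1.2.1 3 0) * e3
  have c2 : p.1.2.1 2 0 = 0 := by
    have t := three_term p.1.2.1 0 2 2 1 3
    have e1 := hst 0 2 1 3 (-1) (by simp [st, El, Matrix.single_apply])
    have e2 := hst 0 2 2 3 0 (by simp [st, El, Matrix.single_apply])
    have e3 := hst 0 2 2 1 0 (by simp [st, El, Matrix.single_apply])
    linear_combination (-p.1.1.1) * t + (p.1.2.1 2 0) * e1 - (p.1.2.1 1 0) * e2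
      + (p.1.2.1 3 0) * e3
  have c3 : p.1.2.1 3 0 = 0 := by
    have t := three_term p.1.2.1 0 3 3 1 2
    have e1 := hst 0 3 1 2 1 (by simp [st, El, Matrix.single_apply])
    have e2 := hst 0 3 3 2 0 (by simp [st, El, Matrix.single_apply])
    have e3 := hst 0 3 3 1 0 (by simp [st, El, Matrix.single_apply])
    linear_combination (p.1.1.1) * t - (p.1.2.1 3 0) * e1 + (p.1.2.1 1 0) * e2
      - (p.1.2.1 2 0) * e3
  have h6 : ((p.1.2⁻¹).1 * p.1.2.1) 0 0 = 1 := by
    rw [← Units.val_mul, inv_mul_cancel]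
    simp
  rw [Matrix.mul_apply, Fin.sum_univ_four, c0, c1, c2, c3] at h6
  simp at h6

lemma cover [Fintype F] (x : Cfsg.isometryGroup F (Cfsg.quadFormPlus 3 F)) :
    ∃ p : (Gt : Subgroup (Fˣ × GL (Fin 4) F)), x = rhoT p ∨ x = σ * rhoT p := by
  by_cases hx : x ∈ (rhoT : (Gt : Subgroup (Fˣ × GL (Fin 4) F)) →* _).range
  · obtain ⟨p, hp⟩ := hx
    exact ⟨p, Or.inl hp.symm⟩
  · have : σ * x ∈ (rhoT : (Gt : Subgroup (Fˣ × GL (Fin 4) F)) →* _).range := by
      rw [Subgroup.mul_mem_iff_of_index_two index_range_rhoT]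
      exact ⟨fun h => absurd h σ_not_mem, fun h => absurd h hx⟩
    obtain ⟨p, hp⟩ := this
    exact ⟨p, Or.inr (by rw [hp, ← mul_assoc, σ_mul_σ, one_mul])⟩

/-- the embedding of `SL_4` -/
def ιT : SpecialLinearGroup (Fin 4) F →* (Gt : Subgroup (Fˣ × GL (Fin 4) F)) :=
  ((1 : SpecialLinearGroup (Fin 4) F →* Fˣ).prod SpecialLinearGroup.toGL).codRestrict _
    (fun s => by
      rw [mem_Gt]
      show ((1 : Fˣ) : F) ^ 2 * s.1.det = 1
      rw [s.2]
      simp)

/-- the homomorphism from `SL_4` to the isometry group -/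
def ψ₀ : SpecialLinearGroup (Fin 4) F →* Cfsg.isometryGroup F (Cfsg.quadFormPlus 3 F) :=
  rhoT.comp ιT

lemma mem_range_of_sq (p : (Gt : Subgroup (Fˣ × GL (Fin 4) F))) (c : Fˣ) (hc : p.1.1 = c ^ 2) :
    rhoT p ∈ (ψ₀ : _ →* Cfsg.isometryGroup F (Cfsg.quadFormPlus 3 F)).range := by
  have hk : rhoT (Δ c) = 1 := by
    rw [← MonoidHom.mem_ker, ker_rhoT]
    exact ⟨c, rfl⟩
  have h1 : rhoT p = rhoT (p * Δ c) := by rw [map_mul, hk, mul_one]
  have hp := (mem_Gt _).mp p.2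
  have hdet : (p.1.2.1 * (GeneralLinearGroup.scalar (Fin 4) c).1).det = 1 := by
    rw [Matrix.det_mul, Matrix.GeneralLinearGroup.coe_scalar]
    simp only [Matrix.scalar_apply, Matrix.det_diagonal, Fin.prod_univ_four]
    have hc' : p.1.1.1 = (c : F) ^ 2 := by rw [hc]; simp
    rw [hc'] at hp
    linear_combination hp
  refine ⟨⟨p.1.2.1 * (GeneralLinearGroup.scalar (Fin 4) c).1, hdet⟩, ?_⟩
  rw [h1]
  show rhoT (ιT _) = _
  congr 1
  apply Subtype.ext
  apply Prod.ext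
  · show (1 : Fˣ) = p.1.1 * (c⁻¹ ^ 2)
    rw [hc]
    simp
  · exact Units.ext rfl

lemma comm_le_range :
    ⁅(rhoT : (Gt : Subgroup (Fˣ × GL (Fin 4) F)) →* _).range,
      (rhoT : (Gt : Subgroup (Fˣ × GL (Fin 4) F)) →* _).range⁆ ≤
      (ψ₀ : _ →* Cfsg.isometryGroup F (Cfsg.quadFormPlus 3 F)).range := by
  rw [Subgroup.commutator_le]
  rintro _ ⟨p, rfl⟩ _ ⟨p', rfl⟩
  rw [← map_commutatorElement]
  apply mem_range_of_sq _ 1
  show ⁅p.1.1, p'.1.1⁆ = 1 ^ 2
  rw [one_pow]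
  exact commutatorElement_eq_one_iff_commute.mpr (Commute.all _ _)

lemma σ_comm_mem (p : (Gt : Subgroup (Fˣ × GL (Fin 4) F))) :
    ⁅(σ : Cfsg.isometryGroup F (Cfsg.quadFormPlus 3 F)), rhoT p⁆ ∈
      (ψ₀ : _ →* Cfsg.isometryGroup F (Cfsg.quadFormPlus 3 F)).range := by
  have h1 : ⁅(σ : Cfsg.isometryGroup F (Cfsg.quadFormPlus 3 F)), rhoT p⁆
      = rhoT (tw p * p⁻¹) := by
    rw [commutatorElement_def, σ_mul_rhoT, mul_assoc (rhoT (tw p)), mul_inv_cancel, mul_one,
      map_mul, map_inv]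
  rw [h1]
  apply mem_range_of_sq _ (p.1.1⁻¹)
  show p.1.1 * GeneralLinearGroup.det p.1.2 * p.1.1⁻¹ = p.1.1⁻¹ ^ 2
  have hp : p.1.1 ^ 2 * GeneralLinearGroup.det p.1.2 = 1 := p.2
  have h2 : GeneralLinearGroup.det p.1.2 = p.1.1⁻¹ ^ 2 := by
    rw [inv_pow, eq_inv_iff_mul_eq_one, mul_comm]
    exact hp
  rw [mul_comm, ← mul_assoc, inv_mul_cancel, one_mul, h2]

lemma range_le_comm :
    (ψ₀ : _ →* Cfsg.isometryGroup F (Cfsg.quadFormPlus 3 F)).range ≤
    ⁅(rhoT : (Gt : Subgroup (Fˣ × GL (Fin 4) F)) →* _).range,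
      (rhoT : (Gt : Subgroup (Fˣ × GL (Fin 4) F)) →* _).range⁆ := by
  rintro _ ⟨s, rfl⟩
  have hs : s ∈ commutator (SpecialLinearGroup (Fin 4) F) := by
    rw [Cfsg.Agent.S0248.result 4 (by norm_num)]
    exact Subgroup.mem_top _
  have h1 : ψ₀ s ∈ (commutator (SpecialLinearGroup (Fin 4) F)).map ψ₀ :=
    Subgroup.mem_map_of_mem _ hs
  rw [commutator_def, Subgroup.map_commutator] at h1
  refine Subgroup.commutator_mono ?_ ?_ h1
  · rintro _ ⟨t, -, rfl⟩
    exact ⟨ιT t, rfl⟩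
  · rintro _ ⟨t, -, rfl⟩
    exact ⟨ιT t, rfl⟩

lemma commutator_eq_range [Fintype F] :
    commutator (Cfsg.isometryGroup F (Cfsg.quadFormPlus 3 F)) =
      (ψ₀ : _ →* Cfsg.isometryGroup F (Cfsg.quadFormPlus 3 F)).range := by
  have hN : (rhoT : (Gt : Subgroup (Fˣ × GL (Fin 4) F)) →* _).range.Normal :=
    Subgroup.normal_of_index_eq_two index_range_rhoT
  have hNN : ⁅(rhoT : (Gt : Subgroup (Fˣ × GL (Fin 4) F)) →* _).range,
      (rhoT : (Gt : Subgroup (Fˣ × GL (Fin 4) F)) →* _).range⁆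
      = (ψ₀ : _ →* Cfsg.isometryGroup F (Cfsg.quadFormPlus 3 F)).range :=
    le_antisymm comm_le_range range_le_comm
  apply le_antisymm
  · rw [← hNN]
    apply Cfsg.Agent.S0299.commutator_le_of_cover
      (rhoT : (Gt : Subgroup (Fˣ × GL (Fin 4) F)) →* _).range _ σ
    · intro x
      obtain ⟨p, hp⟩ := cover x
      exact ⟨rhoT p, ⟨p, rfl⟩, hp⟩
    · intro a ha b hb
      exact Subgroup.commutator_mem_commutator ha hb
    · rintro _ ⟨p, rfl⟩
      rw [hNN]
      exact σ_comm_mem p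
  · rw [← hNN, commutator_def]
    exact Subgroup.commutator_mono le_top le_top

/-- if `A (1 + N) A⁻¹ = r (1 + N)` with `N² = 0` and `N` has a zero diagonal entry, then `r = 1` -/
lemma eq_one_of_conj_eq_smul {n : Type*} [Fintype n] [DecidableEq n] (A B N : Matrix n n F) (r : F)
    (hBA : B * A = 1) (hAB : A * B = 1) (hN : N * N = 0) (i : n) (hi : N i i = 0)
    (h : A * (1 + N) * B = r • (1 + N)) : r = 1 := by
  have h1 : A * N * B = (r - 1) • (1 : Matrix n n F) + r • N := by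
    have : A * (1 + N) * B = 1 + A * N * B := by
      rw [mul_add, add_mul, mul_one, hAB]
    rw [this] at h
    rw [sub_smul, one_smul, smul_add] at *
    rw [← sub_eq_iff_eq_add'] at h
    rw [← h]
    abel
  have h2 : (A * N * B) * (A * N * B) = 0 := by
    calc (A * N * B) * (A * N * B) = A * N * (B * A) * N * B := by simp only [mul_assoc]
      _ = A * (N * N) * B := by rw [hBA, mul_one]; simp only [mul_assoc]
      _ = 0 := by rw [hN]; simp
  rw [h1] at h2
  have h3 : ((r - 1) • (1 : Matrix n n F) + r • N) * ((r - 1) • (1 : Matrix n n F) + r • N)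
      = ((r - 1) ^ 2) • (1 : Matrix n n F) + (2 * r * (r - 1)) • N := by
    simp only [add_mul, mul_add, Matrix.smul_mul, Matrix.mul_smul, mul_one, one_mul, hN, smul_smul,
      smul_zero, add_zero]
    have e1 : (r - 1) * (r - 1) = (r - 1) ^ 2 := by ring
    have e2 : (r - 1) * r + r * (r - 1) = 2 * r * (r - 1) := by ring
    rw [e1, add_assoc, ← add_smul, e2]
  rw [h3] at h2
  have h4 := congrFun (congrFun h2 i) i
  simp only [Matrix.add_apply, Matrix.smul_apply, Matrix.one_apply_eq, hi, smul_eq_mul, mul_one,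
    mul_zero, add_zero, Matrix.zero_apply] at h4
  have h5 : r - 1 = 0 := by simpa using h4
  linear_combination h5

lemma mem_center_of_quasi_commute {n : Type*} [Fintype n] [DecidableEq n]
    (s : SpecialLinearGroup n F)
    (H : ∀ t : SpecialLinearGroup n F,
      s * t * s⁻¹ * t⁻¹ ∈ Subgroup.center (SpecialLinearGroup n F)) :
    s ∈ Subgroup.center (SpecialLinearGroup n F) := by
  rw [← SpecialLinearGroup.toGL_mem_center_iff,
    Matrix.GeneralLinearGroup.mem_center_iff_val_mem_range_scalar]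
  apply Matrix.mem_range_scalar_of_commute_transvectionStruct
  intro t
  obtain ⟨r, -, hr2⟩ := Matrix.SpecialLinearGroup.mem_center_iff.mp
    (H (SpecialLinearGroup.transvection t.hij t.c))
  have hT : (SpecialLinearGroup.transvection t.hij t.c : SpecialLinearGroup n F).1
      = 1 + Matrix.single t.i t.j t.c := rfl
  have e : (s * SpecialLinearGroup.transvection t.hij t.c * s⁻¹
      * (SpecialLinearGroup.transvection t.hij t.c)⁻¹) * SpecialLinearGroup.transvection t.hij t.c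
      = s * SpecialLinearGroup.transvection t.hij t.c * s⁻¹ := by group
  have e' : (s * SpecialLinearGroup.transvection t.hij t.c * s⁻¹
      * (SpecialLinearGroup.transvection t.hij t.c)⁻¹).1 * (1 + Matrix.single t.i t.j t.c)
      = s.1 * (1 + Matrix.single t.i t.j t.c) * (s⁻¹).1 := congrArg Subtype.val e
  rw [← hr2] at e'
  have hss : s.1 * (s⁻¹).1 = 1 := by
    have := congrArg Subtype.val (mul_inv_cancel s)
    exact this
  have hss' : (s⁻¹).1 * s.1 = 1 := by
    have := congrArg Subtype.val (inv_mul_cancel s)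
    exact this
  have hr : r = 1 := by
    apply eq_one_of_conj_eq_smul s.1 (s⁻¹).1 (Matrix.single t.i t.j t.c) r hss' hss
      (Matrix.single_mul_single_of_ne _ _ _ _ t.hij.symm _) t.i
      (by simp [Matrix.single_apply, t.hij.symm])
    rw [← e', Matrix.smul_eq_diagonal_mul]
    rfl
  rw [hr] at e'
  have e2 : (1 + Matrix.single t.i t.j t.c) * s.1 = s.1 * (1 + Matrix.single t.i t.j t.c) := by
    have h3 : (1 + Matrix.single t.i t.j t.c : Matrix n n F)
        = s.1 * (1 + Matrix.single t.i t.j t.c) * (s⁻¹).1 := by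
      rw [← e']
      simp
    calc (1 + Matrix.single t.i t.j t.c) * s.1
        = s.1 * (1 + Matrix.single t.i t.j t.c) * ((s⁻¹).1 * s.1) := by
          rw [← mul_assoc, ← h3]
      _ = _ := by rw [hss', mul_one]
  exact e2

/-- PΩ^+_6(q) is isomorphic to PSL_4(q). -/
theorem result {F : Type*} [Field F] [Fintype F] : Nonempty (Cfsg.POmega F (Cfsg.quadFormPlus 3 F) ≃* Matrix.ProjectiveSpecialLinearGroup (Fin 4) F) := by
  classical
  have hΩ := commutator_eq_range (F := F)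
  let ψ : SpecialLinearGroup (Fin 4) F →*
      commutator (Cfsg.isometryGroup F (Cfsg.quadFormPlus 3 F)) :=
    ψ₀.codRestrict _ (fun p => by rw [hΩ]; exact ⟨p, rfl⟩)
  have hsurj : Function.Surjective ψ := by
    rintro ⟨x, hx⟩
    have hx' : x ∈ (ψ₀ : _ →* Cfsg.isometryGroup F (Cfsg.quadFormPlus 3 F)).range := hΩ ▸ hx
    obtain ⟨p, rfl⟩ := hx'
    exact ⟨p, Subtype.ext rfl⟩
  have hkψ : ∀ s : SpecialLinearGroup (Fin 4) F, ψ s = 1 →
      s ∈ Subgroup.center (SpecialLinearGroup (Fin 4) F) := by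
    intro s hs
    have h1 : rhoT (ιT s) = 1 := congrArg Subtype.val hs
    rw [← MonoidHom.mem_ker, ker_rhoT] at h1
    obtain ⟨u, hu⟩ := h1
    have h2 : GeneralLinearGroup.scalar (Fin 4) u = SpecialLinearGroup.toGL s :=
      congrArg (fun p : (Gt : Subgroup (Fˣ × GL (Fin 4) F)) => p.1.2) hu
    rw [← SpecialLinearGroup.toGL_mem_center_iff,
      Matrix.GeneralLinearGroup.center_eq_range_scalar]
    exact ⟨u, h2⟩
  let f₁ : SpecialLinearGroup (Fin 4) F →* Cfsg.POmega F (Cfsg.quadFormPlus 3 F) :=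
    (QuotientGroup.mk' (Subgroup.center
      (commutator (Cfsg.isometryGroup F (Cfsg.quadFormPlus 3 F))))).comp ψ
  have hf₁ : Function.Surjective f₁ := (QuotientGroup.mk'_surjective _).comp hsurj
  have hker₁ : f₁.ker = Subgroup.center (SpecialLinearGroup (Fin 4) F) := by
    ext p
    rw [MonoidHom.mem_ker]
    show QuotientGroup.mk' _ (ψ p) = 1 ↔ _
    rw [QuotientGroup.mk'_apply, QuotientGroup.eq_one_iff]
    constructor
    · intro h
      apply mem_center_of_quasi_commute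
      intro s
      apply hkψ
      rw [map_mul, map_mul, map_mul, map_inv, map_inv]
      have := Subgroup.mem_center_iff.mp h (ψ s)
      rw [mul_inv_eq_one, mul_inv_eq_iff_eq_mul, this]
    · intro h
      rw [Subgroup.mem_center_iff] at h ⊢
      intro g
      obtain ⟨t, rfl⟩ := hsurj g
      rw [← map_mul, ← map_mul, h t]
  exact ⟨(QuotientGroup.quotientKerEquivOfSurjective f₁ hf₁).symm.trans
    (QuotientGroup.quotientMulEquivOfEq hker₁)⟩

end Cfsg.Agent.S0302
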