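import Cfsg.Statements.S0301
import Cfsg.Agent.S0286
import Cfsg.Agent.S0245
import Cfsg.Agent.S0246
import Cfsg.Agent.S0269
import Cfsg.Agent.S0302
import Cfsg.Agent.Lib.helper7.Klein
import Cfsg.Agent.Lib.helper7.Sp

set_option autoImplicit false
set_option linter.unusedSimpArgs false
open Cfsg

namespace Cfsg.Agent.S0301

open Matrix Cfsg.Agent.Lib.helper7.Klein Cfsg.Agent.S0302
open scoped commutatorElement

variable {F : Type*} [Field F]

/-- index type of the 5-dimensional space -/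
abbrev I5 : Type := Unit ⊕ (Fin 2 ⊕ Fin 2)

/-- the embedding of the 5-space into the 6-space -/
def emb : (I5 → F) →ₗ[F] (I6 → F) where
  toFun v := Sum.elim ![v (.inr (.inl 0)), v (.inl ()), v (.inr (.inl 1))]
    ![v (.inr (.inr 0)), v (.inl ()), v (.inr (.inr 1))]
  map_add' v w := by
    funext k
    rcases k with k | k <;> fin_cases k <;> simp
  map_smul' c v := by
    funext k
    rcases k with k | k <;> fin_cases k <;> simp

/-- the projection of the 6-space onto the 5-space -/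
def prj : (I6 → F) →ₗ[F] (I5 → F) where
  toFun w := Sum.elim (fun _ => w (.inl 1))
    (Sum.elim ![w (.inl 0), w (.inl 2)] ![w (.inr 0), w (.inr 2)])
  map_add' v w := by
    funext k
    rcases k with k | k | k
    · simp
    · fin_cases k <;> simp
    · fin_cases k <;> simp
  map_smul' c v := by
    funext k
    rcases k with k | k | k
    · simp
    · fin_cases k <;> simp
    · fin_cases k <;> simp

/-- the 5-dimensional subspace -/
def InW (w : I6 → F) : Prop := w (.inl 1) = w (.inr 1)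

lemma prj_emb (v : I5 → F) : prj (emb v) = v := by
  funext k
  rcases k with k | k | k
  · rfl
  · fin_cases k <;> rfl
  · fin_cases k <;> rfl

lemma inW_emb (v : I5 → F) : InW (emb v) := rfl

lemma emb_prj (w : I6 → F) (hw : InW w) : emb (prj w) = w := by
  funext k
  rcases k with k | k <;> fin_cases k
  · rfl
  · rfl
  · rfl
  · rfl
  · exact hw
  · rfl

lemma emb_injective : Function.Injective (emb : (I5 → F) →ₗ[F] (I6 → F)) := by
  intro v w h
  rw [← prj_emb v, h, prj_emb]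

lemma Q_emb (v : I5 → F) : Cfsg.quadFormPlus 3 F (emb v) = Cfsg.quadFormOdd 2 F v := by
  simp [Cfsg.quadFormPlus, Cfsg.quadFormOdd, emb, Fin.sum_univ_three, Fin.sum_univ_two]
  ring

/-- the polar form of the hyperbolic form on the 6-space -/
def β (w w' : I6 → F) : F := ∑ i : Fin 3, (w (.inl i) * w' (.inr i) + w' (.inl i) * w (.inr i))

lemma β_eq (w w' : I6 → F) : β w w' =
    Cfsg.quadFormPlus 3 F (w + w') - Cfsg.quadFormPlus 3 F w - Cfsg.quadFormPlus 3 F w' := by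
  simp [β, Cfsg.quadFormPlus, Fin.sum_univ_three]
  ring

/-- the vector of the symplectic form -/
def vJ : I6 → F := Sum.elim ![0, -1, 0] ![0, 1, 0]

lemma β_vJ (w : I6 → F) : β w vJ = w (.inl 1) - w (.inr 1) := by
  simp [β, vJ, Fin.sum_univ_three]
  ring

/-- the symplectic form -/
def J₁ : Matrix (Fin 4) (Fin 4) F := toA vJ

lemma J₁_ne : (J₁ : Matrix (Fin 4) (Fin 4) F) ≠ 0 := by
  intro h
  have := congrFun (congrFun h 0) 2
  simp [J₁, toA, vJ] at this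

lemma β_L (p : Fˣ × GL (Fin 4) F) (hp : p.1.1 ^ 2 * p.2.1.det = 1) (w w' : I6 → F) :
    β (L p w) (L p w') = β w w' := by
  rw [β_eq, β_eq, ← map_add, Q_L p hp, Q_L p hp, Q_L p hp]

lemma L_vJ (p : Fˣ × GL (Fin 4) F) (μ : F) (hμ : p.2.1 * J₁ * p.2.1ᵀ = μ • J₁) :
    L p vJ = (p.1.1 * μ) • vJ := by
  apply toA_injective
  rw [toA_L, toA_smul]
  show p.1.1 • (p.2.1 * J₁ * p.2.1ᵀ) = (p.1.1 * μ) • J₁
  rw [hμ, smul_smul]

lemma inW_L (p : Fˣ × GL (Fin 4) F) (hp : p.1.1 ^ 2 * p.2.1.det = 1) (μ : Fˣ)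
    (hμ : p.2.1 * J₁ * p.2.1ᵀ = μ.1 • J₁) (w : I6 → F) (hw : InW w) : InW (L p w) := by
  have h1 := β_L p hp w vJ
  rw [L_vJ p μ.1 hμ, β_vJ] at h1
  have h2 : β (L p w) ((p.1.1 * μ.1) • vJ) = (p.1.1 * μ.1) * β (L p w) vJ := by
    simp only [β, Pi.smul_apply, smul_eq_mul, Finset.mul_sum]
    apply Finset.sum_congr rfl
    intro i _
    ring
  rw [h2, β_vJ] at h1
  have hw' : w (.inl 1) - w (.inr 1) = 0 := sub_eq_zero.mpr hw
  rw [hw'] at h1
  have hne : (p.1.1 * μ.1 : F) ≠ 0 := mul_ne_zero p.1.ne_zero μ.ne_zero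
  rcases mul_eq_zero.mp h1 with h | h
  · exact absurd h hne
  · exact sub_eq_zero.mp h

/-- the pairs `(λ, g)` with `λ² det g = 1` and `g` a symplectic similitude -/
def G5 : Subgroup (Fˣ × GL (Fin 4) F) where
  carrier := {p | p.1.1 ^ 2 * p.2.1.det = 1 ∧ ∃ μ : Fˣ, p.2.1 * J₁ * p.2.1ᵀ = μ.1 • J₁}
  mul_mem' := by
    rintro p p' ⟨h1, μ, hμ⟩ ⟨h1', μ', hμ'⟩
    refine ⟨(mem_Gt _).mp (mul_mem ((mem_Gt p).mpr h1) ((mem_Gt p').mpr h1')), μ * μ', ?_⟩
    show (p.2.1 * p'.2.1) * J₁ * (p.2.1 * p'.2.1)ᵀ = (μ.1 * μ'.1) • J₁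
    rw [Matrix.transpose_mul]
    calc p.2.1 * p'.2.1 * J₁ * (p'.2.1ᵀ * p.2.1ᵀ)
        = p.2.1 * (p'.2.1 * J₁ * p'.2.1ᵀ) * p.2.1ᵀ := by simp only [mul_assoc]
      _ = _ := by rw [hμ', Matrix.mul_smul, Matrix.smul_mul, hμ, smul_smul, mul_comm]
  one_mem' := ⟨(mem_Gt _).mp (one_mem _), 1, by
    show (1 : Matrix (Fin 4) (Fin 4) F) * J₁ * (1 : Matrix (Fin 4) (Fin 4) F)ᵀ = (1 : F) • J₁
    simp⟩
  inv_mem' := by
    rintro p ⟨h1, μ, hμ⟩
    refine ⟨(mem_Gt _).mp (inv_mem ((mem_Gt p).mpr h1)), μ⁻¹, ?_⟩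
    show (p.2⁻¹).1 * J₁ * (p.2⁻¹).1ᵀ = (μ⁻¹).1 • J₁
    have h2 : (p.2⁻¹).1 * p.2.1 = 1 := by rw [← Units.val_mul, inv_mul_cancel, Units.val_one]
    have h3 : p.2.1ᵀ * (p.2⁻¹).1ᵀ = 1 := by
      rw [← Matrix.transpose_mul, h2, Matrix.transpose_one]
    have h4 : (p.2⁻¹).1 * (p.2.1 * J₁ * p.2.1ᵀ) * (p.2⁻¹).1ᵀ = J₁ := by
      calc (p.2⁻¹).1 * (p.2.1 * J₁ * p.2.1ᵀ) * (p.2⁻¹).1ᵀ
          = ((p.2⁻¹).1 * p.2.1) * J₁ * (p.2.1ᵀ * (p.2⁻¹).1ᵀ) := by simp only [mul_assoc]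
        _ = J₁ := by rw [h2, h3, one_mul, mul_one]
    rw [hμ, Matrix.mul_smul, Matrix.smul_mul] at h4
    have : (μ⁻¹).1 * μ.1 = 1 := by rw [← Units.val_mul, inv_mul_cancel, Units.val_one]
    calc (p.2⁻¹).1 * J₁ * (p.2⁻¹).1ᵀ
        = ((μ⁻¹).1 * μ.1) • ((p.2⁻¹).1 * J₁ * (p.2⁻¹).1ᵀ) := by rw [this, one_smul]
      _ = (μ⁻¹).1 • (μ.1 • ((p.2⁻¹).1 * J₁ * (p.2⁻¹).1ᵀ)) := by rw [smul_smul]
      _ = _ := by rw [h4]

lemma mem_G5 (p : Fˣ × GL (Fin 4) F) : p ∈ (G5 : Subgroup _) ↔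
    p.1.1 ^ 2 * p.2.1.det = 1 ∧ ∃ μ : Fˣ, p.2.1 * J₁ * p.2.1ᵀ = μ.1 • J₁ := Iff.rfl

lemma inW_L' (p : (G5 : Subgroup (Fˣ × GL (Fin 4) F))) (w : I6 → F) (hw : InW w) :
    InW (L p.1 w) := by
  obtain ⟨h1, μ, hμ⟩ := p.2
  exact inW_L p.1 h1 μ hμ w hw

/-- the action on the 5-space -/
def L5 (p : Fˣ × GL (Fin 4) F) : (I5 → F) →ₗ[F] (I5 → F) := prj.comp ((L p).comp emb)

lemma emb_L5 (p : (G5 : Subgroup (Fˣ × GL (Fin 4) F))) (v : I5 → F) :
    emb (L5 p.1 v) = L p.1 (emb v) :=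
  emb_prj _ (inW_L' p _ (inW_emb v))

lemma L5_one : L5 (1 : Fˣ × GL (Fin 4) F) = LinearMap.id := by
  apply LinearMap.ext
  intro v
  show prj (L 1 (emb v)) = v
  rw [L_one]
  exact prj_emb v

lemma L5_mul (p p' : (G5 : Subgroup (Fˣ × GL (Fin 4) F))) :
    L5 (p.1 * p'.1) = (L5 p.1).comp (L5 p'.1) := by
  apply LinearMap.ext
  intro v
  show prj (L (p.1 * p'.1) (emb v)) = prj (L p.1 (emb (L5 p'.1 v)))
  rw [emb_L5, Cfsg.Agent.S0302.L_mul]
  rfl

lemma Q_L5 (p : (G5 : Subgroup (Fˣ × GL (Fin 4) F))) (v : I5 → F) :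
    Cfsg.quadFormOdd 2 F (L5 p.1 v) = Cfsg.quadFormOdd 2 F v := by
  rw [← Q_emb, emb_L5, Q_L _ p.2.1, Q_emb]

/-- the matrix version -/
def R0 : (G5 : Subgroup (Fˣ × GL (Fin 4) F)) →* Matrix I5 I5 F where
  toFun p := LinearMap.toMatrix' (L5 p.1)
  map_one' := by
    show LinearMap.toMatrix' (L5 1) = 1
    rw [L5_one, LinearMap.toMatrix'_id]
  map_mul' p p' := by
    show LinearMap.toMatrix' (L5 (p.1 * p'.1)) = _
    rw [L5_mul, LinearMap.toMatrix'_comp]

/-- the homomorphism to the isometry group -/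
def rho5 : (G5 : Subgroup (Fˣ × GL (Fin 4) F)) →* Cfsg.isometryGroup F (Cfsg.quadFormOdd 2 F) :=
  (R0.toHomUnits).codRestrict _ (fun p => by
    rw [Cfsg.Agent.Lib.helper50.mem_isometryGroup_iff]
    intro u
    show Cfsg.quadFormOdd 2 F (LinearMap.toMatrix' (L5 p.1) *ᵥ u) = _
    rw [LinearMap.toMatrix'_mulVec, Q_L5])

lemma rho5_eq_one_iff (p : (G5 : Subgroup (Fˣ × GL (Fin 4) F))) :
    rho5 p = 1 ↔ ∀ w : I6 → F, InW w → L p.1 w = w := by
  have h1 : rho5 p = 1 ↔ L5 p.1 = LinearMap.id := by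
    rw [Subtype.ext_iff, Units.ext_iff]
    show LinearMap.toMatrix' (L5 p.1) = 1 ↔ _
    rw [← LinearMap.toMatrix'_id]
    exact LinearMap.toMatrix'.injective.eq_iff
  rw [h1]
  constructor
  · intro h w hw
    have h2 := emb_L5 p (prj w)
    rw [h, LinearMap.id_apply, emb_prj w hw] at h2
    exact h2.symm
  · intro h
    apply LinearMap.ext
    intro v
    apply emb_injective
    rw [emb_L5, h _ (inW_emb v)]
    rfl

lemma exists_third' : ∀ k i : Fin 4, k ≠ i →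
    ∃ j : Fin 4, (i.val + j.val) % 2 = 1 ∧ i ≠ j ∧ k ≠ j := by decide

lemma scalar_of_fix_W (lam : F) (g : Matrix (Fin 4) (Fin 4) F)
    (h : ∀ i j : Fin 4, (i.val + j.val) % 2 = 1 →
      lam • (g * (El i j : Matrix (Fin 4) (Fin 4) F) * gᵀ) = El i j)
    (h' : lam • (g * ((El 0 2 : Matrix (Fin 4) (Fin 4) F) - El 1 3) * gᵀ) = El 0 2 - El 1 3) :
    ∃ c : F, lam * c ^ 2 = 1 ∧ g = Matrix.scalar (Fin 4) c := by
  have hent : ∀ i j : Fin 4, (i.val + j.val) % 2 = 1 → ∀ k l : Fin 4,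
      lam * (g k i * g l j - g k j * g l i) = (El i j : Matrix (Fin 4) (Fin 4) F) k l := by
    intro i j hij k l
    have := congrFun (congrFun (h i j hij) k) l
    rwa [Matrix.smul_apply, conj_El_apply, smul_eq_mul] at this
  have hoff : ∀ k i : Fin 4, k ≠ i → g k i = 0 := by
    intro k i hki
    obtain ⟨j, hodd, hij, hkj⟩ := exists_third' k i hki
    have e1 := hent i j hodd i j
    have e2 := hent i j hodd k j
    have e3 := hent i j hodd k i
    have v1 : (El i j : Matrix (Fin 4) (Fin 4) F) i j = 1 := by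
      simp [El, Matrix.single_apply, hij, hij.symm]
    have v2 : (El i j : Matrix (Fin 4) (Fin 4) F) k j = 0 := by
      simp [El, Matrix.single_apply, hki, hki.symm, hkj, hkj.symm]
    have v3 : (El i j : Matrix (Fin 4) (Fin 4) F) k i = 0 := by
      simp [El, Matrix.single_apply, hki, hki.symm, hkj, hkj.symm]
    rw [v1] at e1
    rw [v2] at e2
    rw [v3] at e3
    linear_combination -(g k i) * e1 + (g i i) * e2 - (g j i) * e3
  have hdiag : ∀ i j : Fin 4, (i.val + j.val) % 2 = 1 → lam * g i i * g j j = 1 := by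
    intro i j hodd
    have hij : i ≠ j := by
      rintro rfl
      omega
    have e1 := hent i j hodd i j
    have v1 : (El i j : Matrix (Fin 4) (Fin 4) F) i j = 1 := by
      simp [El, Matrix.single_apply, hij, hij.symm]
    rw [v1, hoff i j hij] at e1
    linear_combination e1
  have d01 := hdiag 0 1 (by decide)
  have d03 := hdiag 0 3 (by decide)
  have d12 := hdiag 1 2 (by decide)
  have d02 : lam * g 0 0 * g 2 2 = 1 := by
    have := congrFun (congrFun h' 0) 2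
    rw [Matrix.smul_apply, Matrix.mul_sub, Matrix.sub_mul, Matrix.sub_apply, conj_El_apply,
      conj_El_apply, smul_eq_mul, hoff 0 2 (by decide), hoff 0 1 (by decide),
      hoff 0 3 (by decide)] at this
    simp [El, Matrix.single_apply] at this
    linear_combination this
  have hl0 : lam * g 0 0 ≠ 0 := by
    intro h0
    rw [h0, zero_mul] at d01
    exact zero_ne_one d01
  have hl1 : lam * g 1 1 ≠ 0 := by
    intro h0
    have : lam * g 0 0 * g 1 1 = (lam * g 1 1) * g 0 0 := by ring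
    rw [this, h0, zero_mul] at d01
    exact zero_ne_one d01
  have e13 : g 1 1 = g 3 3 := by
    apply mul_left_cancel₀ hl0
    rw [d01, d03]
  have e02 : g 0 0 = g 2 2 := by
    apply mul_left_cancel₀ hl1
    linear_combination d01 - d12
  have e01 : g 0 0 = g 1 1 := by
    apply mul_left_cancel₀ hl0
    rw [d01, e02]
    rw [e02] at d02
    linear_combination d02
  refine ⟨g 0 0, ?_, ?_⟩
  · rw [e01] at d01 ⊢
    linear_combination d01
  · ext i j
    by_cases hij : i = j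
    · subst hij
      fin_cases i
      · simp
      · simp [e01]
      · simp [e02]
      · simp
        exact (e01.trans e13).symm
    · rw [hoff i j hij]
      simp [Matrix.diagonal_apply_ne _ hij]

lemma inW_ofA (M : Matrix (Fin 4) (Fin 4) F) (h : M 0 2 + M 1 3 = 0) : InW (ofA M) := by
  show M 0 2 = - M 1 3
  linear_combination h

lemma scalar_of_rho5 (p : (G5 : Subgroup (Fˣ × GL (Fin 4) F))) (hp : rho5 p = 1) :
    ∃ c : F, p.1.1.1 * c ^ 2 = 1 ∧ p.1.2.1 = Matrix.scalar (Fin 4) c := by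
  rw [rho5_eq_one_iff] at hp
  have hM : ∀ M : Matrix (Fin 4) (Fin 4) F, IsAlt M → M 0 2 + M 1 3 = 0 →
      p.1.1.1 • (p.1.2.1 * M * p.1.2.1ᵀ) = M := by
    intro M hM h
    have h2 := toA_L p.1 (ofA M)
    rw [hp _ (inW_ofA M h), toA_ofA M hM] at h2
    exact h2.symm
  apply scalar_of_fix_W
  · intro i j hodd
    apply hM _ (isAlt_El i j)
    fin_cases i <;> fin_cases j <;> simp [El, Matrix.single_apply] at hodd ⊢
  · apply hM
    · constructor
      · intro k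
        have h1 := (isAlt_El (R := F) 0 2).1 k
        have h2 := (isAlt_El (R := F) 1 3).1 k
        rw [Matrix.sub_apply, h1, h2, sub_zero]
      · intro k l
        have h1 := (isAlt_El (R := F) 0 2).2 k l
        have h2 := (isAlt_El (R := F) 1 3).2 k l
        rw [Matrix.sub_apply, Matrix.sub_apply, h1, h2]
        ring
    · simp [El, Matrix.single_apply]

/-- the identification of index types -/
def e4 : Fin 2 ⊕ Fin 2 ≃ Fin 4 where
  toFun := Sum.elim ![0, 1] ![2, 3]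
  invFun := ![.inl 0, .inl 1, .inr 0, .inr 1]
  left_inv := by
    rintro (i | i) <;> fin_cases i <;> rfl
  right_inv := by
    intro i
    fin_cases i <;> rfl

lemma J₁_eq : (J₁ : Matrix (Fin 4) (Fin 4) F) = (J (Fin 2) F).submatrix e4.symm e4.symm := by
  ext i j
  fin_cases i <;> fin_cases j <;> simp [J₁, toA, vJ, J, e4]

/-- the symplectic group inside `GL₄` -/
def gS : symplecticGroup (Fin 2) F →* GL (Fin 4) F :=
  (((Matrix.reindexAlgEquiv F F e4).toMonoidHom :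
      Matrix (Fin 2 ⊕ Fin 2) (Fin 2 ⊕ Fin 2) F →* Matrix (Fin 4) (Fin 4) F).comp
    (symplecticGroup (Fin 2) F).subtype).toHomUnits

lemma gS_val (s : symplecticGroup (Fin 2) F) : (gS s).1 = s.1.submatrix e4.symm e4.symm := rfl

lemma gS_J (s : symplecticGroup (Fin 2) F) : (gS s).1 * J₁ * (gS s).1ᵀ = J₁ := by
  rw [gS_val, J₁_eq, Matrix.transpose_submatrix, Matrix.submatrix_mul_equiv,
    Matrix.submatrix_mul_equiv, SymplecticGroup.mem_iff.mp s.2]

lemma gS_det (s : symplecticGroup (Fin 2) F) : (gS s).1.det = 1 := by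
  rw [gS_val, Matrix.det_submatrix_equiv_self]
  exact SymplecticGroup.det_eq_one s.2

/-- the symplectic group inside `G5` -/
def jS : symplecticGroup (Fin 2) F →* (G5 : Subgroup (Fˣ × GL (Fin 4) F)) :=
  (MonoidHom.prod 1 gS).codRestrict G5 (fun s => by
    rw [mem_G5]
    refine ⟨?_, 1, ?_⟩
    · show (1 : F) ^ 2 * (gS s).1.det = 1
      rw [gS_det]
      ring
    · show (gS s).1 * J₁ * (gS s).1ᵀ = (1 : F) • J₁
      rw [gS_J, one_smul])

/-- signs in the field -/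
def sgnF : ℤˣ →* Fˣ := Units.map (Int.castRingHom F).toMonoidHom

lemma sgnF_sq (ε : ℤˣ) : ((sgnF ε : Fˣ) : F) ^ 2 = 1 := by
  rcases Int.units_eq_one_or ε with rfl | rfl
  · simp [sgnF]
  · simp [sgnF]

/-- signs times the symplectic group inside `G5` -/
def j₂ : ℤˣ × symplecticGroup (Fin 2) F →* (G5 : Subgroup (Fˣ × GL (Fin 4) F)) :=
  (MonoidHom.prodMap sgnF gS).codRestrict G5 (fun p => by
    rw [mem_G5]
    refine ⟨?_, 1, ?_⟩
    · show ((sgnF p.1 : Fˣ) : F) ^ 2 * (gS p.2).1.det = 1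
      rw [gS_det, sgnF_sq]
      ring
    · show (gS p.2).1 * J₁ * (gS p.2).1ᵀ = (1 : F) • J₁
      rw [gS_J, one_smul])

lemma j₂_one (s : symplecticGroup (Fin 2) F) : j₂ (1, s) = jS s := by
  apply Subtype.ext
  apply Prod.ext
  · show sgnF 1 = 1
    rw [map_one]
  · rfl

lemma j₂_fst (p : ℤˣ × symplecticGroup (Fin 2) F) : (j₂ p).1.1 = sgnF p.1 := rfl
lemma j₂_snd (p : ℤˣ × symplecticGroup (Fin 2) F) : (j₂ p).1.2 = gS p.2 := rfl

/-- preimage of a symplectic `4 × 4` matrix -/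
lemma exists_gS (g : GL (Fin 4) F) (hg : g.1 * J₁ * g.1ᵀ = J₁) :
    ∃ s : symplecticGroup (Fin 2) F, gS s = g := by
  refine ⟨⟨g.1.submatrix e4 e4, ?_⟩, ?_⟩
  · rw [SymplecticGroup.mem_iff]
    have h1 : (J (Fin 2) F) = (J₁ : Matrix (Fin 4) (Fin 4) F).submatrix e4 e4 := by
      rw [J₁_eq]
      simp
    rw [h1, Matrix.transpose_submatrix, Matrix.submatrix_mul_equiv, Matrix.submatrix_mul_equiv, hg]
  · apply Units.ext
    rw [gS_val]
    simp

lemma mem_range_jS (x : (G5 : Subgroup (Fˣ × GL (Fin 4) F))) (h1 : x.1.1 = 1)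
    (h2 : x.1.2.1 * J₁ * x.1.2.1ᵀ = J₁) : x ∈ (jS : _ →* (G5 : Subgroup (Fˣ × GL (Fin 4) F))).range := by
  obtain ⟨s, hs⟩ := exists_gS x.1.2 h2
  refine ⟨s, ?_⟩
  apply Subtype.ext
  apply Prod.ext
  · exact h1.symm
  · exact hs

lemma mem_range_j₂ (x : (G5 : Subgroup (Fˣ × GL (Fin 4) F)))
    (h2 : x.1.2.1 * J₁ * x.1.2.1ᵀ = J₁) : x ∈ (j₂ : _ →* (G5 : Subgroup (Fˣ × GL (Fin 4) F))).range := by
  obtain ⟨s, hs⟩ := exists_gS x.1.2 h2
  have hx := x.2.1
  have hdet : x.1.2.1.det = 1 := by rw [← hs]; exact gS_det s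
  rw [hdet, mul_one] at hx
  have h3 : (x.1.1.1 - 1) * (x.1.1.1 + 1) = 0 := by linear_combination hx
  rcases mul_eq_zero.mp h3 with h | h
  · refine ⟨(1, s), ?_⟩
    apply Subtype.ext
    apply Prod.ext
    · apply Units.ext
      show ((sgnF 1 : Fˣ) : F) = x.1.1.1
      rw [map_one]
      simp
      linear_combination -h
    · exact hs
  · refine ⟨(-1, s), ?_⟩
    apply Subtype.ext
    apply Prod.ext
    · apply Units.ext
      show ((sgnF (-1) : Fˣ) : F) = x.1.1.1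
      simp [sgnF]
      linear_combination -h
    · exact hs

lemma gS_injective : Function.Injective (gS : symplecticGroup (Fin 2) F →* GL (Fin 4) F) := by
  intro s t h
  apply Subtype.ext
  have h1 : (gS s).1 = (gS t).1 := congrArg Units.val h
  rw [gS_val, gS_val] at h1
  ext i j
  have := congrFun (congrFun h1 (e4 i)) (e4 j)
  simpa using this

/-- the homomorphism from signs times `Sp₄` -/
def ρ' : ℤˣ × symplecticGroup (Fin 2) F →* Cfsg.isometryGroup F (Cfsg.quadFormOdd 2 F) :=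
  rho5.comp j₂

/-- minus the identity -/
def negS : symplecticGroup (Fin 2) F := ⟨-1, SymplecticGroup.neg_mem (one_mem _)⟩

lemma gS_negS : (gS (negS : symplecticGroup (Fin 2) F)).1 = -1 := by
  rw [gS_val]
  show (-1 : Matrix (Fin 2 ⊕ Fin 2) (Fin 2 ⊕ Fin 2) F).submatrix e4.symm e4.symm = -1
  ext i j
  simp [Matrix.one_apply]

lemma negS_ne (hF : (2 : F) ≠ 0) : (negS : symplecticGroup (Fin 2) F) ≠ 1 := by
  intro h
  have h1 : (-1 : Matrix (Fin 2 ⊕ Fin 2) (Fin 2 ⊕ Fin 2) F) = 1 := congrArg Subtype.val h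
  have h2 := congrFun (congrFun h1 (.inl 0)) (.inl 0)
  simp at h2
  apply hF
  linear_combination -h2

lemma ρ'_eq_one_iff (hF : (2 : F) ≠ 0) (p : ℤˣ × symplecticGroup (Fin 2) F) :
    ρ' p = 1 ↔ p = (1, 1) ∨ p = (1, negS) := by
  constructor
  · intro h
    obtain ⟨c, hc1, hc2⟩ := scalar_of_rho5 (j₂ p) h
    have hc2' : (gS p.2).1 = Matrix.scalar (Fin 4) c := hc2
    have hc1' : ((sgnF p.1 : Fˣ) : F) * c ^ 2 = 1 := hc1
    have hJ := gS_J p.2
    rw [hc2'] at hJ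
    have hcc : c ^ 2 = 1 := by
      have := congrFun (congrFun hJ 0) 2
      simp [J₁, toA, vJ, Matrix.mul_apply, Fin.sum_univ_four, Matrix.diagonal_apply] at this
      linear_combination this
    have hε : p.1 = 1 := by
      rcases Int.units_eq_one_or p.1 with h1 | h1
      · exact h1
      · exfalso
        rw [h1, hcc] at hc1'
        simp [sgnF] at hc1'
        apply hF
        linear_combination -hc1'
    have h3 : (c - 1) * (c + 1) = 0 := by linear_combination hcc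
    rcases mul_eq_zero.mp h3 with h4 | h4
    · left
      have hc : c = 1 := by linear_combination h4
      apply Prod.ext hε
      apply gS_injective
      apply Units.ext
      show (gS p.2).1 = (gS 1).1
      rw [hc2', hc, map_one]
      simp
    · right
      have hc : c = -1 := by linear_combination h4
      apply Prod.ext hε
      apply gS_injective
      apply Units.ext
      show (gS p.2).1 = (gS negS).1
      rw [hc2', hc, gS_negS]
      ext i j
      simp only [Matrix.scalar_apply, Matrix.diagonal_apply, Matrix.neg_apply, Matrix.one_apply]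
      split_ifs <;> simp
  · rintro (rfl | rfl)
    · exact map_one _
    · show rho5 (j₂ (1, negS)) = 1
      rw [rho5_eq_one_iff]
      intro w _
      apply toA_injective
      rw [toA_L]
      show ((sgnF 1 : Fˣ) : F) • ((gS negS).1 * toA w * (gS negS).1ᵀ) = toA w
      rw [map_one, gS_negS]
      simp

lemma card_ker_ρ' (hF : (2 : F) ≠ 0) :
    Nat.card (ρ' : ℤˣ × symplecticGroup (Fin 2) F →* _).ker = 2 := by
  rw [Nat.card_eq_two_iff]
  refine ⟨⟨(1, 1), (ρ'_eq_one_iff hF _).mpr (Or.inl rfl)⟩,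
    ⟨(1, negS), (ρ'_eq_one_iff hF _).mpr (Or.inr rfl)⟩, ?_, ?_⟩
  · intro h
    have h1 : ((1 : ℤˣ), (1 : symplecticGroup (Fin 2) F)) = (1, negS) := congrArg Subtype.val h
    exact negS_ne hF (congrArg Prod.snd h1).symm
  · rw [Set.eq_univ_iff_forall]
    intro x
    rcases (ρ'_eq_one_iff hF x.1).mp x.2 with h | h
    · left
      exact Subtype.ext h
    · right
      exact Subtype.ext h

lemma card_range_ρ' [Fintype F] (hF : (2 : F) ≠ 0) :
    Nat.card (ρ' : ℤˣ × symplecticGroup (Fin 2) F →* _).range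
      = Nat.card (symplecticGroup (Fin 2) F) := by
  have h1 := Subgroup.card_mul_index (ρ' : ℤˣ × symplecticGroup (Fin 2) F →* _).ker
  rw [Subgroup.index_ker, card_ker_ρ' hF, Nat.card_prod, Nat.card_eq_fintype_card (α := ℤˣ),
    Fintype.card_units_int] at h1
  omega

lemma index_range_ρ' [Fintype F] (hodd : Odd (Fintype.card F)) (hF : (2 : F) ≠ 0) :
    (ρ' : ℤˣ × symplecticGroup (Fin 2) F →* _).range.index = 2 := by
  have h1 := Subgroup.card_mul_index (ρ' : ℤˣ × symplecticGroup (Fin 2) F →* _).range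
  rw [card_range_ρ' hF, Cfsg.Agent.S0286.result rfl hodd 2, Cfsg.Agent.S0245.result rfl 2] at h1
  have hpos : 0 < Nat.card (symplecticGroup (Fin 2) F) := Nat.card_pos
  rw [Cfsg.Agent.S0245.result rfl 2] at hpos
  apply Nat.eq_of_mul_eq_mul_left hpos
  rw [h1]
  ring

/-- similitudes with multiplier -/
def Sim (x : GL (Fin 4) F) (μ : Fˣ) : Prop := x.1 * J₁ * x.1ᵀ = μ.1 • J₁

lemma sim_mul {x y : GL (Fin 4) F} {μ μ' : Fˣ} (hx : Sim x μ) (hy : Sim y μ') :
    Sim (x * y) (μ * μ') := by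
  show (x.1 * y.1) * J₁ * (x.1 * y.1)ᵀ = (μ.1 * μ'.1) • J₁
  rw [Matrix.transpose_mul]
  calc x.1 * y.1 * J₁ * (y.1ᵀ * x.1ᵀ)
      = x.1 * (y.1 * J₁ * y.1ᵀ) * x.1ᵀ := by simp only [mul_assoc]
    _ = _ := by
      have hx' : x.1 * J₁ * x.1ᵀ = μ.1 • J₁ := hx
      have hy' : y.1 * J₁ * y.1ᵀ = μ'.1 • J₁ := hy
      rw [hy', Matrix.mul_smul, Matrix.smul_mul, hx', smul_smul, mul_comm]

lemma sim_inv {x : GL (Fin 4) F} {μ : Fˣ} (hx : Sim x μ) : Sim x⁻¹ μ⁻¹ := by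
  show (x⁻¹).1 * J₁ * (x⁻¹).1ᵀ = (μ⁻¹).1 • J₁
  have hμ : x.1 * J₁ * x.1ᵀ = μ.1 • J₁ := hx
  have h2 : (x⁻¹).1 * x.1 = 1 := by rw [← Units.val_mul, inv_mul_cancel, Units.val_one]
  have h3 : x.1ᵀ * (x⁻¹).1ᵀ = 1 := by
    rw [← Matrix.transpose_mul, h2, Matrix.transpose_one]
  have h4 : (x⁻¹).1 * (x.1 * J₁ * x.1ᵀ) * (x⁻¹).1ᵀ = J₁ := by
    calc (x⁻¹).1 * (x.1 * J₁ * x.1ᵀ) * (x⁻¹).1ᵀ
        = ((x⁻¹).1 * x.1) * J₁ * (x.1ᵀ * (x⁻¹).1ᵀ) := by simp only [mul_assoc]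
      _ = J₁ := by rw [h2, h3, one_mul, mul_one]
  rw [hμ, Matrix.mul_smul, Matrix.smul_mul] at h4
  have : (μ⁻¹).1 * μ.1 = 1 := by rw [← Units.val_mul, inv_mul_cancel, Units.val_one]
  calc (x⁻¹).1 * J₁ * (x⁻¹).1ᵀ
      = ((μ⁻¹).1 * μ.1) • ((x⁻¹).1 * J₁ * (x⁻¹).1ᵀ) := by rw [this, one_smul]
    _ = (μ⁻¹).1 • (μ.1 • ((x⁻¹).1 * J₁ * (x⁻¹).1ᵀ)) := by rw [smul_smul]
    _ = _ := by rw [h4]

lemma sim_gS (s : symplecticGroup (Fin 2) F) : Sim (gS s) 1 := by
  show (gS s).1 * J₁ * (gS s).1ᵀ = (1 : F) • J₁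
  rw [gS_J, one_smul]

/-- the diagonal matrices `diag(c, c, 1, 1)` -/
def dgM : F →* Matrix (Fin 4) (Fin 4) F where
  toFun c := Matrix.diagonal ![c, c, 1, 1]
  map_one' := by
    ext i j
    fin_cases i <;> fin_cases j <;> simp
  map_mul' a b := by
    rw [Matrix.diagonal_mul_diagonal]
    congr 1
    funext i
    fin_cases i <;> simp

/-- the diagonal matrices `diag(c, c, 1, 1)` as units -/
def dg : Fˣ →* GL (Fin 4) F := Units.map dgM

lemma dg_val (ν : Fˣ) : (dg ν).1 = Matrix.diagonal ![ν.1, ν.1, 1, 1] := rfl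

lemma sim_dg (ν : Fˣ) : Sim (dg ν) ν := by
  show (dg ν).1 * J₁ * (dg ν).1ᵀ = ν.1 • J₁
  rw [dg_val, Matrix.diagonal_transpose]
  ext i j
  rw [Matrix.mul_diagonal, Matrix.diagonal_mul]
  fin_cases i <;> fin_cases j <;> simp [J₁, toA, vJ]

lemma det_dg (ν : Fˣ) : (dg ν).1.det = ν.1 ^ 2 := by
  rw [dg_val, Matrix.det_diagonal, Fin.prod_univ_four]
  simp
  ring

/-- the coset representative upstairs -/
def t₀ (ν : Fˣ) : (G5 : Subgroup (Fˣ × GL (Fin 4) F)) :=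
  ⟨(ν⁻¹, dg ν), by
    rw [mem_G5]
    refine ⟨?_, ν, sim_dg ν⟩
    show (ν⁻¹).1 ^ 2 * (dg ν).1.det = 1
    rw [det_dg, ← mul_pow, ← Units.val_mul, inv_mul_cancel, Units.val_one, one_pow]⟩

lemma t₀_not_mem (ν : Fˣ) (hν : ∀ c : F, c * c ≠ ν.1) :
    rho5 (t₀ ν) ∉ (ρ' : ℤˣ × symplecticGroup (Fin 2) F →* _).range := by
  rintro ⟨p, hp⟩
  have h1 : rho5 (t₀ ν * (j₂ p)⁻¹) = 1 := by
    rw [map_mul, map_inv, mul_inv_eq_one]
    exact hp.symm
  obtain ⟨c, -, hc⟩ := scalar_of_rho5 _ h1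
  have hc' : (dg ν * (gS p.2)⁻¹).1 = Matrix.scalar (Fin 4) c := hc
  have h2 : (dg ν).1 = c • (gS p.2).1 := by
    have : dg ν = (dg ν * (gS p.2)⁻¹) * gS p.2 := by group
    rw [this, Units.val_mul, hc', Matrix.smul_eq_diagonal_mul]
    rfl
  have h3 := sim_dg ν
  have h3' : (dg ν).1 * J₁ * (dg ν).1ᵀ = ν.1 • J₁ := h3
  rw [h2, Matrix.transpose_smul, Matrix.smul_mul, Matrix.smul_mul, Matrix.mul_smul, gS_J,
    smul_smul] at h3'
  have h4 := congrFun (congrFun h3' 0) 2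
  simp [J₁, toA, vJ] at h4
  exact hν c h4

lemma cover5 [Fintype F] (hodd : Odd (Fintype.card F)) (hF : (2 : F) ≠ 0) (ν : Fˣ)
    (hν : ∀ c : F, c * c ≠ ν.1) (x : Cfsg.isometryGroup F (Cfsg.quadFormOdd 2 F)) :
    ∃ n ∈ (ρ' : ℤˣ × symplecticGroup (Fin 2) F →* _).range, x = n ∨ x = rho5 (t₀ ν) * n := by
  by_cases hx : x ∈ (ρ' : ℤˣ × symplecticGroup (Fin 2) F →* _).range
  · exact ⟨x, hx, Or.inl rfl⟩
  · have : (rho5 (t₀ ν))⁻¹ * x ∈ (ρ' : ℤˣ × symplecticGroup (Fin 2) F →* _).range := by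
      rw [Subgroup.mul_mem_iff_of_index_two (index_range_ρ' hodd hF), inv_mem_iff]
      exact ⟨fun h => absurd h (t₀_not_mem ν hν), fun h => absurd h hx⟩
    exact ⟨_, this, Or.inr (by rw [mul_inv_cancel_left])⟩

/-- the homomorphism from `Sp₄` -/
def ψ₀ : symplecticGroup (Fin 2) F →* Cfsg.isometryGroup F (Cfsg.quadFormOdd 2 F) :=
  rho5.comp jS

lemma comm_le_range5 :
    ⁅(ρ' : ℤˣ × symplecticGroup (Fin 2) F →* _).range,
      (ρ' : ℤˣ × symplecticGroup (Fin 2) F →* _).range⁆ ≤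
      (ψ₀ : _ →* Cfsg.isometryGroup F (Cfsg.quadFormOdd 2 F)).range := by
  rw [Subgroup.commutator_le]
  rintro _ ⟨p, rfl⟩ _ ⟨p', rfl⟩
  rw [← map_commutatorElement]
  refine ⟨⁅p.2, p'.2⁆, ?_⟩
  show rho5 (jS ⁅p.2, p'.2⁆) = rho5 (j₂ ⁅p, p'⁆)
  rw [← j₂_one]
  congr 2
  apply Prod.ext
  · show (1 : ℤˣ) = ⁅p.1, p'.1⁆
    exact (commutatorElement_eq_one_iff_commute.mpr (Commute.all _ _)).symm
  · rfl

lemma τ_comm_mem (ν : Fˣ) (p : ℤˣ × symplecticGroup (Fin 2) F) :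
    ⁅rho5 (t₀ ν), ρ' p⁆ ∈ (ψ₀ : _ →* Cfsg.isometryGroup F (Cfsg.quadFormOdd 2 F)).range := by
  have h1 : ⁅rho5 (t₀ ν), ρ' p⁆ = rho5 ⁅t₀ ν, j₂ p⁆ := by
    rw [map_commutatorElement]
    rfl
  rw [h1]
  have h2 : ⁅t₀ ν, j₂ p⁆ ∈ (jS : _ →* (G5 : Subgroup (Fˣ × GL (Fin 4) F))).range := by
    apply mem_range_jS
    · show ⁅ν⁻¹, sgnF p.1⁆ = 1
      exact commutatorElement_eq_one_iff_commute.mpr (Commute.all _ _)
    · have h3 : Sim (dg ν * gS p.2 * (dg ν)⁻¹ * (gS p.2)⁻¹) (ν * 1 * ν⁻¹ * 1⁻¹) :=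
        sim_mul (sim_mul (sim_mul (sim_dg ν) (sim_gS p.2)) (sim_inv (sim_dg ν)))
          (sim_inv (sim_gS p.2))
      have h4 : ν * 1 * ν⁻¹ * 1⁻¹ = 1 := by simp
      rw [h4] at h3
      have h5 : (dg ν * gS p.2 * (dg ν)⁻¹ * (gS p.2)⁻¹).1 * J₁
          * (dg ν * gS p.2 * (dg ν)⁻¹ * (gS p.2)⁻¹).1ᵀ = (1 : F) • J₁ := h3
      rw [one_smul] at h5
      exact h5
  obtain ⟨s, hs⟩ := h2
  exact ⟨s, by show rho5 (jS s) = _; rw [hs]⟩

lemma range_le_comm5 [Fintype F] (hq : 3 ≤ Fintype.card F) :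
    (ψ₀ : _ →* Cfsg.isometryGroup F (Cfsg.quadFormOdd 2 F)).range ≤
    ⁅(ρ' : ℤˣ × symplecticGroup (Fin 2) F →* _).range,
      (ρ' : ℤˣ × symplecticGroup (Fin 2) F →* _).range⁆ := by
  rintro _ ⟨s, rfl⟩
  have hs : s ∈ commutator (symplecticGroup (Fin 2) F) := by
    rw [Cfsg.Agent.S0269.result 2 (Or.inr (Or.inl ⟨rfl, hq⟩))]
    exact Subgroup.mem_top _
  have h1 : ψ₀ s ∈ (commutator (symplecticGroup (Fin 2) F)).map ψ₀ :=
    Subgroup.mem_map_of_mem _ hs
  rw [commutator_def, Subgroup.map_commutator] at h1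
  refine Subgroup.commutator_mono ?_ ?_ h1
  · rintro _ ⟨t, -, rfl⟩
    exact ⟨(1, t), by show rho5 (j₂ (1, t)) = rho5 (jS t); rw [j₂_one]⟩
  · rintro _ ⟨t, -, rfl⟩
    exact ⟨(1, t), by show rho5 (j₂ (1, t)) = rho5 (jS t); rw [j₂_one]⟩

lemma commutator_eq_range5 [Fintype F] (hodd : Odd (Fintype.card F)) (hF : (2 : F) ≠ 0)
    (hq : 3 ≤ Fintype.card F) :
    commutator (Cfsg.isometryGroup F (Cfsg.quadFormOdd 2 F)) =
      (ψ₀ : _ →* Cfsg.isometryGroup F (Cfsg.quadFormOdd 2 F)).range := by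
  have hN : (ρ' : ℤˣ × symplecticGroup (Fin 2) F →* _).range.Normal :=
    Subgroup.normal_of_index_eq_two (index_range_ρ' hodd hF)
  have hNN : ⁅(ρ' : ℤˣ × symplecticGroup (Fin 2) F →* _).range,
      (ρ' : ℤˣ × symplecticGroup (Fin 2) F →* _).range⁆
      = (ψ₀ : _ →* Cfsg.isometryGroup F (Cfsg.quadFormOdd 2 F)).range :=
    le_antisymm comm_le_range5 (range_le_comm5 hq)
  obtain ⟨ν, hν⟩ : ∃ ν : Fˣ, ∀ c : F, c * c ≠ ν.1 := by
    have hchar : ringChar F ≠ 2 := by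
      intro hchar
      have := FiniteField.even_card_of_char_two hchar
      rcases hodd with ⟨t, ht⟩
      omega
    obtain ⟨a, ha⟩ := FiniteField.exists_nonsquare hchar
    have ha0 : a ≠ 0 := by
      rintro rfl
      exact ha ⟨0, by simp⟩
    refine ⟨Units.mk0 a ha0, ?_⟩
    intro c hc
    exact ha ⟨c, hc.symm⟩
  apply le_antisymm
  · rw [← hNN]
    apply Cfsg.Agent.S0299.commutator_le_of_cover
      (ρ' : ℤˣ × symplecticGroup (Fin 2) F →* _).range _ (rho5 (t₀ ν))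
    · exact cover5 hodd hF ν hν
    · intro a ha b hb
      exact Subgroup.commutator_mem_commutator ha hb
    · rintro _ ⟨p, rfl⟩
      rw [hNN]
      exact τ_comm_mem ν p
  · rw [← hNN, commutator_def]
    exact Subgroup.commutator_mono le_top le_top

/-- matrices of central elements of the symplectic group are scalar -/
lemma scalar_of_mem_center (z : symplecticGroup (Fin 2) F)
    (hz : z ∈ Subgroup.center (symplecticGroup (Fin 2) F)) :
    z.1 = z.1 (.inl 0) (.inl 0) • (1 : Matrix (Fin 2 ⊕ Fin 2) (Fin 2 ⊕ Fin 2) F) := by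
  apply Cfsg.Agent.S0246.scalar_of_commute
  intro u
  have h := Subgroup.mem_center_iff.mp hz
    ⟨Cfsg.Agent.Lib.helper7.sympTransv u 1, Cfsg.Agent.Lib.helper7.sympTransv_mem u 1⟩
  exact congrArg Subtype.val h

lemma mem_center_of_scalar (s : symplecticGroup (Fin 2) F) (c : F)
    (hs : s.1 = c • (1 : Matrix (Fin 2 ⊕ Fin 2) (Fin 2 ⊕ Fin 2) F)) :
    s ∈ Subgroup.center (symplecticGroup (Fin 2) F) := by
  rw [Subgroup.mem_center_iff]
  intro g
  apply Subtype.ext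
  show g.1 * s.1 = s.1 * g.1
  rw [hs]
  simp

lemma sp_mem_center_of_quasi_commute (hF : (2 : F) ≠ 0) (s : symplecticGroup (Fin 2) F)
    (H : ∀ t : symplecticGroup (Fin 2) F,
      s * t * s⁻¹ * t⁻¹ ∈ Subgroup.center (symplecticGroup (Fin 2) F)) :
    s ∈ Subgroup.center (symplecticGroup (Fin 2) F) := by
  have hcomm : ∀ u : Fin 2 ⊕ Fin 2 → F, Cfsg.Agent.Lib.helper7.sympTransv u 1 * s.1
      = s.1 * Cfsg.Agent.Lib.helper7.sympTransv u 1 := by
    intro u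
    set T : symplecticGroup (Fin 2) F :=
      ⟨Cfsg.Agent.Lib.helper7.sympTransv u 1, Cfsg.Agent.Lib.helper7.sympTransv_mem u 1⟩ with hT
    have hz := scalar_of_mem_center _ (H T)
    set r : F := (s * T * s⁻¹ * T⁻¹).1 (.inl 0) (.inl 0) with hr
    have e : (s * T * s⁻¹ * T⁻¹) * T = s * T * s⁻¹ := by group
    have e' : (s * T * s⁻¹ * T⁻¹).1 * T.1 = s.1 * T.1 * (s⁻¹).1 := congrArg Subtype.val e
    rw [hz, Matrix.smul_mul, Matrix.one_mul] at e'
    have hss : s.1 * (s⁻¹).1 = 1 := congrArg Subtype.val (mul_inv_cancel s)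
    have hss' : (s⁻¹).1 * s.1 = 1 := congrArg Subtype.val (inv_mul_cancel s)
    have htr : Matrix.trace T.1 = 4 := by
      show Matrix.trace (Cfsg.Agent.Lib.helper7.sympTransv u 1) = 4
      rw [Cfsg.Agent.Lib.helper7.sympTransv, Matrix.trace_add, Matrix.trace_smul,
        Matrix.trace_vecMulVec, dotProduct_comm, Cfsg.Agent.Lib.helper7.J_mulVec_dotProduct_self,
        Matrix.trace_one]
      simp
    have h1 : Matrix.trace (r • T.1) = Matrix.trace T.1 := by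
      rw [e', Matrix.trace_mul_cycle, hss', Matrix.one_mul]
    rw [Matrix.trace_smul, htr, smul_eq_mul] at h1
    have h4 : (4 : F) ≠ 0 := by
      have : (4 : F) = 2 * 2 := by norm_num
      rw [this]
      exact mul_ne_zero hF hF
    have hr1 : r = 1 := by
      apply mul_right_cancel₀ h4
      rw [h1, one_mul]
    rw [hr1, one_smul] at e'
    calc T.1 * s.1 = s.1 * T.1 * ((s⁻¹).1 * s.1) := by rw [← mul_assoc, ← e']
      _ = s.1 * T.1 := by rw [hss', mul_one]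
  exact mem_center_of_scalar s _ (Cfsg.Agent.S0246.scalar_of_commute s.1 hcomm (.inl 0))

/-- PΩ_5(q) is isomorphic to PSp_4(q) for q odd. -/
theorem result {F : Type*} [Field F] [Fintype F] (hodd : Odd (Fintype.card F)) : Nonempty (Cfsg.POmega F (Cfsg.quadFormOdd 2 F) ≃* Cfsg.PSp 2 F) := by
  classical
  have hF : (2 : F) ≠ 0 := by
    apply Ring.two_ne_zero
    intro hchar
    have := FiniteField.even_card_of_char_two hchar
    rcases hodd with ⟨t, ht⟩
    omega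
  have hq : 3 ≤ Fintype.card F := by
    have h1 : 1 < Fintype.card F := Fintype.one_lt_card
    rcases hodd with ⟨t, ht⟩
    omega
  have hΩ := commutator_eq_range5 hodd hF hq
  let ψ : symplecticGroup (Fin 2) F →*
      commutator (Cfsg.isometryGroup F (Cfsg.quadFormOdd 2 F)) :=
    ψ₀.codRestrict _ (fun p => by rw [hΩ]; exact ⟨p, rfl⟩)
  have hsurj : Function.Surjective ψ := by
    rintro ⟨x, hx⟩
    have hx' : x ∈ (ψ₀ : _ →* Cfsg.isometryGroup F (Cfsg.quadFormOdd 2 F)).range := hΩ ▸ hx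
    obtain ⟨p, rfl⟩ := hx'
    exact ⟨p, Subtype.ext rfl⟩
  have hkψ : ∀ s : symplecticGroup (Fin 2) F, ψ s = 1 →
      s ∈ Subgroup.center (symplecticGroup (Fin 2) F) := by
    intro s hs
    have h1 : rho5 (jS s) = 1 := congrArg Subtype.val hs
    obtain ⟨c, -, hc⟩ := scalar_of_rho5 _ h1
    have hc' : (gS s).1 = Matrix.scalar (Fin 4) c := hc
    apply mem_center_of_scalar s c
    rw [gS_val] at hc'
    ext i j
    have := congrFun (congrFun hc' (e4 i)) (e4 j)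
    simpa [Matrix.one_apply, Matrix.diagonal_apply] using this
  let f₁ : symplecticGroup (Fin 2) F →* Cfsg.POmega F (Cfsg.quadFormOdd 2 F) :=
    (QuotientGroup.mk' (Subgroup.center
      (commutator (Cfsg.isometryGroup F (Cfsg.quadFormOdd 2 F))))).comp ψ
  have hf₁ : Function.Surjective f₁ := (QuotientGroup.mk'_surjective _).comp hsurj
  have hker₁ : f₁.ker = Subgroup.center (symplecticGroup (Fin 2) F) := by
    ext p
    rw [MonoidHom.mem_ker]
    show QuotientGroup.mk' _ (ψ p) = 1 ↔ _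
    rw [QuotientGroup.mk'_apply, QuotientGroup.eq_one_iff]
    constructor
    · intro h
      apply sp_mem_center_of_quasi_commute hF
      intro s
      apply hkψ
      rw [map_mul, map_mul, map_mul, map_inv, map_inv]
      have := Subgroup.mem_center_iff.mp h (ψ s)
      rw [mul_inv_eq_one, mul_inv_eq_iff_eq_mul, this]
    · intro h
      rw [Subgroup.mem_center_iff] at h ⊢
      intro g
      obtain ⟨t, rfl⟩ := hsurj g
      rw [← map_mul, ← map_mul, h t]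
  exact ⟨(QuotientGroup.quotientKerEquivOfSurjective f₁ hf₁).symm.trans
    (QuotientGroup.quotientMulEquivOfEq hker₁)⟩

end Cfsg.Agent.S0301
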