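import Cfsg.Statements.S0303
import Cfsg.Agent.S0288
import Cfsg.Agent.S0302
import Cfsg.Agent.Lib.helper7.Klein
import Cfsg.Agent.Lib.helper7.ResScal
import Cfsg.Agent.Lib.helper7.SU
import Cfsg.Agent.Lib.helper99.USimple

set_option autoImplicit false
set_option linter.unusedSimpArgs false
set_option linter.unusedSectionVars false
open Cfsg

namespace Cfsg.Agent.S0303

open Matrix Cfsg.Agent.Lib.helper7.Klein Cfsg.Agent.Lib.helper7.ResScal
open Cfsg.Agent.S0302 (I6 L toA_L L_one Q_L Gt mem_Gt rhoT Lσ Lσ_apply toA_Lσ trInv st_smul st_conj')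
open Cfsg.Agent.Lib.helper7 (IsIsom)
open scoped commutatorElement

/-- index type of the 6-dimensional space over `F` -/
abbrev Jm : Type := (Fin 2 ⊕ Fin 2) ⊕ Fin 2

section model

variable {F K : Type*} [Field F] [Field K] {a b : F} (D : QD F K a b)

/-- the real points: `x ↦ (x, σ x)` -/
def ext (x : Fin 3 → K) : I6 → K := Sum.elim x (fun j => D.σ (x j))

lemma ext_add (x y : Fin 3 → K) : ext D (x + y) = ext D x + ext D y := by
  funext k
  rcases k with k | k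
  · rfl
  · show D.σ (x k + y k) = D.σ (x k) + D.σ (y k)
    rw [map_add]

lemma ext_smul (c : F) (x : Fin 3 → K) : ext D (D.i c • x) = D.i c • ext D x := by
  funext k
  rcases k with k | k
  · rfl
  · show D.σ (D.i c * x k) = D.i c * D.σ (x k)
    rw [map_mul, D.hσi]

lemma ext_injective : Function.Injective (ext D) := by
  intro x y h
  funext j
  exact congrFun h (.inl j)

lemma Q_ext (x : Fin 3 → K) : Cfsg.quadFormPlus 3 K (ext D x) = hσ D x x := rfl

/-- the real subspace -/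
def InW (w : I6 → K) : Prop := ∀ j, w (.inr j) = D.σ (w (.inl j))

lemma inW_ext (x : Fin 3 → K) : InW D (ext D x) := fun _ => rfl

lemma ext_of_inW (w : I6 → K) (hw : InW D w) : ext D (fun j => w (.inl j)) = w := by
  funext k
  rcases k with k | k
  · rfl
  · exact (hw k).symm

/-- the semilinear involution -/
def θ (w : I6 → K) : I6 → K := fun k => D.σ (w (Sum.swap k))

lemma inW_iff (w : I6 → K) : InW D w ↔ θ D w = w := by
  constructor
  · intro h
    funext k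
    rcases k with k | k
    · show D.σ (w (.inr k)) = w (.inl k)
      rw [h k, D.hσσ]
    · show D.σ (w (.inl k)) = w (.inr k)
      rw [h k]
  · intro h j
    have := congrFun h (.inr j)
    exact this.symm

lemma toA_θ (w : I6 → K) : toA (θ D w) = (st (toA w)).map D.σ := by
  rw [st_toA]
  ext i j
  fin_cases i <;> fin_cases j <;> simp [toA, θ]

lemma map_map_σ (M : Matrix (Fin 4) (Fin 4) K) : (M.map D.σ).map D.σ = M := by
  ext i j
  simp [D.hσσ]

/-- the key commutation: for unitary `g` and suitable `λ`, the action commutes with `θ` -/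
lemma θ_L (p : Kˣ × GL (Fin 4) K) (hN : p.1.1 * D.σ p.1.1 = 1)
    (hdet : p.1.1 ^ 2 * p.2.1.det = 1) (hU : p.2.1ᵀ * p.2.1.map D.σ = 1) (w : I6 → K) :
    θ D (L p w) = L p (θ D w) := by
  apply toA_injective
  rw [toA_θ, toA_L, toA_L, toA_θ, st_smul, st_conj', smul_smul]
  have h1 : (p.2⁻¹).1ᵀ = p.2.1.map D.σ := by
    have h2 : (p.2⁻¹).1ᵀ * p.2.1ᵀ = 1 := by
      rw [← Matrix.transpose_mul, ← Units.val_mul, mul_inv_cancel, Units.val_one,
        Matrix.transpose_one]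
    calc (p.2⁻¹).1ᵀ = (p.2⁻¹).1ᵀ * (p.2.1ᵀ * p.2.1.map D.σ) := by rw [hU, mul_one]
      _ = p.2.1.map D.σ := by rw [← mul_assoc, h2, one_mul]
  have h3 : (p.2⁻¹).1 = (p.2.1.map D.σ)ᵀ := by
    rw [← h1, Matrix.transpose_transpose]
  have hlam : D.σ p.1.1 * D.σ p.2.1.det = p.1.1 := by
    have e2 : D.σ p.1.1 ^ 2 * D.σ p.2.1.det = 1 := by
      rw [← map_pow, ← map_mul, hdet, map_one]
    linear_combination (- D.σ p.1.1 * D.σ p.2.1.det) * hN + (p.1.1 : K) * e2
  rw [h1, h3]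
  have h4 : ((p.1.1 * p.2.1.det) • (p.2.1.map D.σ * st (toA w) * (p.2.1.map D.σ)ᵀ)).map D.σ
      = (D.σ p.1.1 * D.σ p.2.1.det) • (p.2.1 * (st (toA w)).map D.σ * p.2.1ᵀ) := by
    ext i j
    simp only [Matrix.map_apply, Matrix.smul_apply, smul_eq_mul, map_mul, Matrix.mul_apply,
      map_sum, Matrix.transpose_apply, D.hσσ]
  rw [h4, hlam]

lemma inW_L (p : Kˣ × GL (Fin 4) K) (hN : p.1.1 * D.σ p.1.1 = 1)
    (hdet : p.1.1 ^ 2 * p.2.1.det = 1) (hU : p.2.1ᵀ * p.2.1.map D.σ = 1) (w : I6 → K)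
    (hw : InW D w) : InW D (L p w) := by
  rw [inW_iff] at hw ⊢
  rw [θ_L D p hN hdet hU, hw]

end model

section groups

variable {F K : Type*} [Field F] [Field K] [Fintype K] {a b : F} (D : QD F K a b) (q : ℕ)

/-- units of norm one -/
def U₁ : Subgroup Kˣ where
  carrier := {u | u.1 * D.σ u.1 = 1}
  mul_mem' := by
    intro g h hg hh
    replace hg : g.1 * D.σ g.1 = 1 := hg
    replace hh : h.1 * D.σ h.1 = 1 := hh
    show (g.1 * h.1) * D.σ (g.1 * h.1) = 1
    rw [map_mul]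
    calc g.1 * h.1 * (D.σ g.1 * D.σ h.1)
        = (g.1 * D.σ g.1) * (h.1 * D.σ h.1) := by ring
      _ = 1 := by rw [hg, hh, one_mul]
  one_mem' := by
    show (1 : K) * D.σ 1 = 1
    simp
  inv_mem' := by
    intro g hg
    replace hg : g.1 * D.σ g.1 = 1 := hg
    show (g⁻¹).1 * D.σ (g⁻¹).1 = 1
    have h1 : g.1 * (g⁻¹).1 = 1 := by rw [← Units.val_mul, mul_inv_cancel, Units.val_one]
    have h2 : D.σ g.1 * D.σ (g⁻¹).1 = 1 := by rw [← map_mul, h1, map_one]
    have h3 : g.1 * D.σ g.1 ≠ 0 := by rw [hg]; exact one_ne_zero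
    apply mul_left_cancel₀ h3
    calc g.1 * D.σ g.1 * ((g⁻¹).1 * D.σ (g⁻¹).1)
        = (g.1 * (g⁻¹).1) * (D.σ g.1 * D.σ (g⁻¹).1) := by ring
      _ = 1 := by rw [h1, h2, one_mul]
      _ = _ := by rw [mul_one, hg]

lemma mem_U₁ (u : Kˣ) : u ∈ U₁ D ↔ u.1 * D.σ u.1 = 1 := Iff.rfl

/-- the pairs `(λ, g)` with `λ` of norm one, `g` unitary and `λ² det g = 1` -/
def Gu : Subgroup (Kˣ × GL (Fin 4) K) := ((U₁ D).prod (Cfsg.GU 4 K q)) ⊓ Gt

lemma mem_Gu (p : Kˣ × GL (Fin 4) K) : p ∈ Gu D q ↔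
    (p.1.1 * D.σ p.1.1 = 1 ∧ IsIsom 4 q p.2.1) ∧ p.1.1 ^ 2 * p.2.1.det = 1 := by
  rw [Gu, Subgroup.mem_inf, Subgroup.mem_prod, mem_Gt]
  rfl

variable {q}

lemma isIsom_hU (hq : q ≠ 0) (hσq : ∀ z, D.σ z = z ^ q) {M : Matrix (Fin 4) (Fin 4) K}
    (hM : IsIsom 4 q M) : Mᵀ * M.map D.σ = 1 := by
  have h := Cfsg.Agent.Lib.helper7.IsIsom.transpose_mul_map hq hM
  have h2 : (D.σ : K → K) = fun x => x ^ q := funext hσq
  rw [h2]
  exact h

lemma isIsom_of_hU (hσq : ∀ z, D.σ z = z ^ q) {M : Matrix (Fin 4) (Fin 4) K}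
    (hM : Mᵀ * M.map D.σ = 1) : IsIsom 4 q M := by
  intro u v
  have h1 : ∀ x y : Fin 4 → K, Cfsg.hermForm 4 K q x y = x ⬝ᵥ (fun j => D.σ (y j)) := by
    intro x y
    rw [Cfsg.hermForm, dotProduct]
    apply Finset.sum_congr rfl
    intro j _
    rw [hσq]
  rw [h1, h1]
  have h2 : (fun j => D.σ ((M *ᵥ v) j)) = M.map D.σ *ᵥ (fun j => D.σ (v j)) := by
    funext j
    simp only [Matrix.mulVec, dotProduct, map_sum, map_mul, Matrix.map_apply]
  rw [h2, Matrix.dotProduct_mulVec, Matrix.vecMul_mulVec, ← Matrix.dotProduct_mulVec,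
    hM, Matrix.one_mulVec]

variable (hq : q ≠ 0) (hσq : ∀ z, D.σ z = z ^ q) (T : SemiEquiv D Jm (Fin 3))
  (hQ : ∀ v, D.i (Cfsg.quadFormMinus 2 F a b v) = hσ D (T.toFun v) (T.toFun v))

/-- the embedding of the `F`-space into the `K`-space -/
def E (v : Jm → F) : I6 → K := ext D (T.toFun v)

lemma E_add (v w : Jm → F) : E D T (v + w) = E D T v + E D T w := by
  rw [E, T.map_add, ext_add]
  rfl

lemma E_smul (c : F) (v : Jm → F) : E D T (c • v) = D.i c • E D T v := by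
  rw [E, T.map_smul, ext_smul]
  rfl

lemma E_injective : Function.Injective (E D T) := by
  intro v w h
  exact T.injective (ext_injective D h)

include hQ in
lemma Q_E (v : Jm → F) :
    Cfsg.quadFormPlus 3 K (E D T v) = D.i (Cfsg.quadFormMinus 2 F a b v) := by
  rw [hQ]
  rfl

lemma exists_E (x : Fin 3 → K) : ∃ v, E D T v = ext D x :=
  ⟨T.invFun x, by rw [E, T.right_inv]⟩

/-- the `F`-linear action -/
def L6 (p : Kˣ × GL (Fin 4) K) : (Jm → F) →ₗ[F] (Jm → F) where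
  toFun v := T.invFun (fun j => L p (E D T v) (.inl j))
  map_add' v w := by
    apply T.injective
    rw [T.right_inv, T.map_add, T.right_inv, T.right_inv]
    funext j
    rw [E_add, map_add]
    rfl
  map_smul' c v := by
    apply T.injective
    rw [T.right_inv, RingHom.id_apply, T.map_smul, T.right_inv]
    funext j
    rw [E_smul, map_smul]
    rfl

include hq hσq in
lemma E_L6 (p : Gu D q) (v : Jm → F) : E D T (L6 D T p.1 v) = L p.1 (E D T v) := by
  obtain ⟨⟨hN, hI⟩, hdet⟩ := (mem_Gu D q p.1).mp p.2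
  show ext D (T.toFun (T.invFun _)) = _
  rw [T.right_inv]
  exact ext_of_inW D _ (inW_L D p.1 hN hdet (isIsom_hU D hq hσq hI) _ (inW_ext D _))

include hq hσq in
lemma L6_one : L6 D T (1 : Kˣ × GL (Fin 4) K) = LinearMap.id := by
  apply LinearMap.ext
  intro v
  apply E_injective D T
  have h := E_L6 D hq hσq T (1 : Gu D q) v
  rw [show ((1 : Gu D q) : Kˣ × GL (Fin 4) K) = 1 from rfl, L_one] at h
  exact h

include hq hσq in
lemma L6_mul (p p' : Gu D q) :
    L6 D T (p.1 * p'.1) = (L6 D T p.1).comp (L6 D T p'.1) := by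
  apply LinearMap.ext
  intro v
  apply E_injective D T
  have h := E_L6 D hq hσq T (p * p') v
  rw [show ((p * p' : Gu D q) : Kˣ × GL (Fin 4) K) = p.1 * p'.1 from rfl] at h
  rw [h, LinearMap.comp_apply, E_L6 D hq hσq T p, E_L6 D hq hσq T p', Cfsg.Agent.S0302.L_mul]
  rfl

include hq hσq hQ in
lemma Q_L6 (p : Gu D q) (v : Jm → F) :
    Cfsg.quadFormMinus 2 F a b (L6 D T p.1 v) = Cfsg.quadFormMinus 2 F a b v := by
  apply D.i.injective
  rw [← Q_E D T hQ, E_L6 D hq hσq T p, Q_L p.1 ((mem_Gu D q p.1).mp p.2).2, Q_E D T hQ]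

/-- the matrix version -/
def R6 : Gu D q →* Matrix Jm Jm F where
  toFun p := LinearMap.toMatrix' (L6 D T p.1)
  map_one' := by
    show LinearMap.toMatrix' (L6 D T 1) = 1
    rw [L6_one D hq hσq T, LinearMap.toMatrix'_id]
  map_mul' p p' := by
    show LinearMap.toMatrix' (L6 D T (p.1 * p'.1)) = _
    rw [L6_mul D hq hσq T, LinearMap.toMatrix'_comp]

/-- the homomorphism to the isometry group -/
def rho6 : Gu D q →* Cfsg.isometryGroup F (Cfsg.quadFormMinus 2 F a b) :=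
  ((R6 D hq hσq T).toHomUnits).codRestrict _ (fun p => by
    rw [Cfsg.Agent.Lib.helper50.mem_isometryGroup_iff]
    intro u
    show Cfsg.quadFormMinus 2 F a b (LinearMap.toMatrix' (L6 D T p.1) *ᵥ u) = _
    rw [LinearMap.toMatrix'_mulVec, Q_L6 D hq hσq T hQ])

/-- every vector of the `K`-space is a combination of two real points -/
lemma span_ext (A B : (I6 → K) →ₗ[K] (I6 → K)) (h : ∀ x, A (ext D x) = B (ext D x)) : A = B := by
  apply LinearMap.ext
  intro w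
  have hw : w = ext D (fun j => w (.inl j) - D.α * ((w (.inl j) - D.σ (w (.inr j))) * δ D))
      + D.α • ext D (fun j => (w (.inl j) - D.σ (w (.inr j))) * δ D) := by
    funext k
    rcases k with k | k
    · show w (.inl k) = w (.inl k) - D.α * ((w (.inl k) - D.σ (w (.inr k))) * δ D)
        + D.α * ((w (.inl k) - D.σ (w (.inr k))) * δ D)
      ring
    · show w (.inr k) = D.σ (w (.inl k) - D.α * ((w (.inl k) - D.σ (w (.inr k))) * δ D))
        + D.α * D.σ ((w (.inl k) - D.σ (w (.inr k))) * δ D)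
      simp only [map_sub, map_mul, D.hσσ, D.hσα, σ_δ]
      linear_combination (D.σ (w (.inl k)) - w (.inr k)) * hδ D
  rw [hw, map_add, map_add, map_smul, map_smul, h, h]

include hq hσq in
lemma rho6_eq_one_iff (p : Gu D q) :
    rho6 D hq hσq T hQ p = 1 ↔ L p.1 = LinearMap.id := by
  have h1 : rho6 D hq hσq T hQ p = 1 ↔ L6 D T p.1 = LinearMap.id := by
    rw [Subtype.ext_iff, Units.ext_iff]
    show LinearMap.toMatrix' (L6 D T p.1) = 1 ↔ _
    rw [← LinearMap.toMatrix'_id]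
    exact LinearMap.toMatrix'.injective.eq_iff
  rw [h1]
  constructor
  · intro h
    apply span_ext D
    intro x
    obtain ⟨v, hv⟩ := exists_E D T x
    have h2 := E_L6 D hq hσq T p v
    rw [h, LinearMap.id_apply, hv] at h2
    rw [← h2]
    rfl
  · intro h
    apply LinearMap.ext
    intro v
    apply E_injective D T
    rw [E_L6 D hq hσq T p, h]
    rfl

end groups

section kernel

variable {F K : Type*} [Field F] [Field K] [Fintype K] {a b : F} (D : QD F K a b) {q : ℕ}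
variable (hq : q ≠ 0) (hσq : ∀ z, D.σ z = z ^ q) (T : SemiEquiv D Jm (Fin 3))
  (hQ : ∀ v, D.i (Cfsg.quadFormMinus 2 F a b v) = hσ D (T.toFun v) (T.toFun v))

omit [Fintype K] in
lemma rhoT_eq_one_iff' (x : (Gt : Subgroup (Kˣ × GL (Fin 4) K))) :
    rhoT x = 1 ↔ L x.1 = LinearMap.id := by
  rw [Subtype.ext_iff, Units.ext_iff]
  show LinearMap.toMatrix' (L x.1) = 1 ↔ _
  rw [← LinearMap.toMatrix'_id]
  exact LinearMap.toMatrix'.injective.eq_iff

include hσq in
lemma norm_pow (c : K) (hc : c * D.σ c = 1) : c * c ^ q = 1 := by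
  rw [← hσq]
  exact hc

/-- the scalars `(c⁻², c)` with `c` of norm one -/
def Δu : U₁ D →* Gu D q :=
  (((Gt : Subgroup (Kˣ × GL (Fin 4) K)).subtype.comp Cfsg.Agent.S0302.Δ).comp
    (U₁ D).subtype).codRestrict (Gu D q) (fun c => by
    refine Subgroup.mem_inf.mpr ⟨Subgroup.mem_prod.mpr ⟨?_, ?_⟩, (Cfsg.Agent.S0302.Δ c.1).2⟩
    · exact pow_mem (inv_mem c.2) 2
    · show IsIsom 4 q (GeneralLinearGroup.scalar (Fin 4) c.1).1
      rw [Matrix.GeneralLinearGroup.coe_scalar, Matrix.scalar_apply]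
      exact Cfsg.Agent.Lib.helper7.diagonal_isIsom 4 _ (fun _ => norm_pow D hσq _ c.2))

lemma Δu_val (c : U₁ D) : (Δu D hσq c).1 = (Cfsg.Agent.S0302.Δ c.1).1 := rfl

lemma Δu_injective : Function.Injective (Δu D hσq : U₁ D →* Gu D q) := by
  intro c c' h
  apply Subtype.ext
  apply Cfsg.Agent.S0302.Δ_injective
  apply Subtype.ext
  exact congrArg (fun x : Gu D q => x.1) h

include hq in
lemma ker_rho6 : (rho6 D hq hσq T hQ).ker = (Δu D hσq).range := by
  ext p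
  rw [MonoidHom.mem_ker, rho6_eq_one_iff D hq hσq T hQ]
  obtain ⟨⟨hN, hI⟩, hdet⟩ := (mem_Gu D q p.1).mp p.2
  constructor
  · intro h
    have h1 : rhoT (⟨p.1, (mem_Gt p.1).mpr hdet⟩ : (Gt : Subgroup (Kˣ × GL (Fin 4) K))) = 1 :=
      (rhoT_eq_one_iff' _).mpr h
    rw [← MonoidHom.mem_ker, Cfsg.Agent.S0302.ker_rhoT] at h1
    obtain ⟨c, hc⟩ := h1
    have hc' : (Cfsg.Agent.S0302.Δ c).1 = p.1 := congrArg Subtype.val hc
    have hsc : p.1.2.1 = Matrix.scalar (Fin 4) c.1 := by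
      rw [← hc', Cfsg.Agent.S0302.Δ_snd, Matrix.GeneralLinearGroup.coe_scalar]
    have hU := isIsom_hU D hq hσq hI
    rw [hsc] at hU
    have hcn : c.1 * D.σ c.1 = 1 := by
      have := congrFun (congrFun hU 0) 0
      simpa [Matrix.mul_apply, Fin.sum_univ_four, Matrix.diagonal_apply] using this
    refine ⟨⟨c, hcn⟩, ?_⟩
    apply Subtype.ext
    rw [Δu_val]
    exact hc'
  · rintro ⟨c, rfl⟩
    rw [Δu_val]
    have h1 : rhoT (Cfsg.Agent.S0302.Δ c.1) = 1 := by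
      rw [← MonoidHom.mem_ker, Cfsg.Agent.S0302.ker_rhoT]
      exact ⟨c.1, rfl⟩
    exact (rhoT_eq_one_iff' _).mp h1

/-- the first component -/
def du : Gu D q →* U₁ D :=
  ((MonoidHom.fst _ _).comp (Gu D q).subtype).codRestrict (U₁ D)
    (fun p => ((mem_Gu D q p.1).mp p.2).1.1)

/-- the diagonal matrices `diag(c, c, 1, 1)` -/
def dgM : K →* Matrix (Fin 4) (Fin 4) K where
  toFun c := Matrix.diagonal ![c, c, 1, 1]
  map_one' := by
    ext i j
    fin_cases i <;> fin_cases j <;> simp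
  map_mul' a b := by
    rw [Matrix.diagonal_mul_diagonal]
    congr 1
    funext i
    fin_cases i <;> simp

/-- the diagonal matrices `diag(c, c, 1, 1)` as units -/
def dg : Kˣ →* GL (Fin 4) K := Units.map dgM

omit [Fintype K] in
lemma dg_val (ν : Kˣ) : (dg ν).1 = Matrix.diagonal ![ν.1, ν.1, 1, 1] := rfl

omit [Fintype K] in
lemma det_dg (ν : Kˣ) : (dg ν).1.det = ν.1 ^ 2 := by
  rw [dg_val, Matrix.det_diagonal, Fin.prod_univ_four]
  simp
  ring

include hσq in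
lemma du_surjective : Function.Surjective (du D : Gu D q →* U₁ D) := by
  intro u
  have hu' : (u.1⁻¹).1 * D.σ (u.1⁻¹).1 = 1 := (inv_mem u.2 : u.1⁻¹ ∈ U₁ D)
  have hmem : ((u.1, dg u.1⁻¹) : Kˣ × GL (Fin 4) K) ∈ Gu D q := by
    rw [mem_Gu]
    refine ⟨⟨u.2, ?_⟩, ?_⟩
    · show IsIsom 4 q (dg u.1⁻¹).1
      rw [dg_val]
      apply Cfsg.Agent.Lib.helper7.diagonal_isIsom
      intro i
      fin_cases i
      · exact norm_pow D hσq _ hu'
      · exact norm_pow D hσq _ hu'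
      · simp
      · simp
    · show u.1.1 ^ 2 * (dg u.1⁻¹).1.det = 1
      rw [det_dg, ← mul_pow, ← Units.val_mul, mul_inv_cancel, Units.val_one, one_pow]
  exact ⟨⟨_, hmem⟩, Subtype.ext rfl⟩

/-- the embedding of `SU₄` -/
def ι₀ : Cfsg.SU 4 K q →* Gu D q :=
  ((MonoidHom.prod (1 : SpecialLinearGroup (Fin 4) K →* Kˣ) SpecialLinearGroup.toGL).comp
    (Cfsg.SU 4 K q).subtype).codRestrict (Gu D q) (fun s => by
    rw [mem_Gu]
    refine ⟨⟨?_, ?_⟩, ?_⟩
    · show (1 : K) * D.σ 1 = 1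
      simp
    · exact s.2
    · show (1 : K) ^ 2 * (s.1 : Matrix (Fin 4) (Fin 4) K).det = 1
      rw [s.1.2]
      simp)

lemma ι₀_injective : Function.Injective (ι₀ D : Cfsg.SU 4 K q →* Gu D q) := by
  intro s t h
  apply Subtype.ext
  apply Subtype.ext
  exact congrArg (fun p : Gu D q => p.1.2.1) h

lemma mem_range_ι₀ (p : Gu D q) (h : p.1.1 = 1) : p ∈ (ι₀ D : Cfsg.SU 4 K q →* Gu D q).range := by
  obtain ⟨⟨hN, hI⟩, hdet⟩ := (mem_Gu D q p.1).mp p.2
  have hd : p.1.2.1.det = 1 := by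
    rw [h] at hdet
    simpa using hdet
  refine ⟨⟨⟨p.1.2.1, hd⟩, hI⟩, ?_⟩
  apply Subtype.ext
  apply Prod.ext
  · exact h.symm
  · exact Units.ext rfl

lemma range_ι₀ : (ι₀ D : Cfsg.SU 4 K q →* Gu D q).range = (du D).ker := by
  ext p
  rw [MonoidHom.mem_ker]
  constructor
  · rintro ⟨s, rfl⟩
    exact Subtype.ext rfl
  · intro h
    exact mem_range_ι₀ D p (congrArg Subtype.val h)

include hσq in
lemma card_Gu : Nat.card (Gu D q) = Nat.card (Cfsg.SU 4 K q) * Nat.card (U₁ D) := by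
  have h1 := Subgroup.card_mul_index (du D : Gu D q →* U₁ D).ker
  rw [Subgroup.index_ker, MonoidHom.range_eq_top.mpr (du_surjective D hσq), Subgroup.card_top,
    ← range_ι₀, ← Nat.card_congr (MonoidHom.ofInjective (ι₀_injective D)).toEquiv] at h1
  exact h1.symm

include hq in
lemma card_range_rho6 :
    Nat.card (rho6 D hq hσq T hQ).range = Nat.card (Cfsg.SU 4 K q) := by
  have h1 := Subgroup.card_mul_index (rho6 D hq hσq T hQ).ker
  rw [Subgroup.index_ker, ker_rho6 D hq hσq T hQ,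
    ← Nat.card_congr (MonoidHom.ofInjective (Δu_injective D hσq)).toEquiv, card_Gu D hσq,
    mul_comm] at h1
  have hpos : 0 < Nat.card (U₁ D) := Nat.card_pos
  exact Nat.eq_of_mul_eq_mul_right hpos h1

end kernel

section index

variable {F K : Type*} [Field F] [Fintype F] [Field K] [Fintype K] {a b : F} (D : QD F K a b)
variable (hq : Fintype.card F ≠ 0) (hσq : ∀ z, D.σ z = z ^ Fintype.card F)
  (T : SemiEquiv D Jm (Fin 3))
  (hQ : ∀ v, D.i (Cfsg.quadFormMinus 2 F a b v) = hσ D (T.toFun v) (T.toFun v))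

lemma index_range_rho6 (hK : Fintype.card K = Fintype.card F ^ 2)
    (hab : ∀ z₁ z₂ : F, z₁ ^ 2 + a * z₁ * z₂ + b * z₂ ^ 2 = 0 → z₁ = 0 ∧ z₂ = 0) :
    (rho6 D hq hσq T hQ).range.index = 2 := by
  have h1 := Subgroup.card_mul_index (rho6 D hq hσq T hQ).range
  have hGO : Nat.card (Cfsg.isometryGroup F (Cfsg.quadFormMinus 2 F a b)) = _ :=
    Cfsg.Agent.S0288.result rfl 3 (by norm_num) a b hab
  have hSU := Cfsg.Agent.Lib.helper7.card_SU hK 4 (by norm_num)
  rw [card_range_rho6 D hq hσq T hQ, hGO] at h1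
  simp [Finset.prod_range_succ] at h1 hSU
  rw [if_neg (by decide : ¬ Even 3)] at hSU
  have hq2 : 2 ≤ Fintype.card F := Fintype.one_lt_card
  have hpos : 0 < (Fintype.card F + 1) * Nat.card ↥(SU 4 K (Fintype.card F)) :=
    Nat.mul_pos (by omega) Nat.card_pos
  apply Nat.eq_of_mul_eq_mul_left hpos
  calc (Fintype.card F + 1) * Nat.card ↥(SU 4 K (Fintype.card F))
        * (rho6 D hq hσq T hQ).range.index
      = (Fintype.card F + 1) * (Nat.card ↥(SU 4 K (Fintype.card F))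
        * (rho6 D hq hσq T hQ).range.index) := by ring
    _ = (Fintype.card F ^ 6 * ((Fintype.card F + 1) * (Fintype.card F ^ 2 - 1)
        * (Fintype.card F ^ 3 + 1) * (Fintype.card F ^ 4 - 1))) * 2 := by
      rw [h1]
      ring
    _ = _ := by rw [hSU]


/-- conjugation on the `F`-space -/
def τL : (Jm → F) →ₗ[F] (Jm → F) where
  toFun v := T.invFun (fun j => D.σ (T.toFun v j))
  map_add' v w := by
    apply T.injective
    rw [T.right_inv, T.map_add v w, T.map_add (T.invFun _) (T.invFun _), T.right_inv, T.right_inv]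
    funext j
    simp only [Pi.add_apply, map_add]
  map_smul' c v := by
    apply T.injective
    rw [T.right_inv, RingHom.id_apply, T.map_smul c v, T.map_smul c (T.invFun _), T.right_inv]
    funext j
    show D.σ (D.i c * T.toFun v j) = D.i c * D.σ (T.toFun v j)
    rw [map_mul, D.hσi]

lemma E_τL (v : Jm → F) : E D T (τL D T v) = Lσ (E D T v) := by
  show ext D (T.toFun (T.invFun _)) = _
  rw [T.right_inv]
  funext k
  rcases k with k | k
  · rfl
  · show D.σ (D.σ (T.toFun v k)) = T.toFun v k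
    rw [D.hσσ]

lemma τL_comp : (τL D T).comp (τL D T) = LinearMap.id := by
  apply LinearMap.ext
  intro v
  apply E_injective D T
  rw [LinearMap.comp_apply, E_τL, E_τL]
  funext k
  rcases k with k | k <;> rfl

lemma τ_mul_self : LinearMap.toMatrix' (τL D T) * LinearMap.toMatrix' (τL D T) = 1 := by
  rw [← LinearMap.toMatrix'_comp, τL_comp, LinearMap.toMatrix'_id]

/-- the isometry induced by conjugation -/
def τ : Cfsg.isometryGroup F (Cfsg.quadFormMinus 2 F a b) :=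
  ⟨⟨LinearMap.toMatrix' (τL D T), LinearMap.toMatrix' (τL D T), τ_mul_self D T, τ_mul_self D T⟩, by
    rw [Cfsg.Agent.Lib.helper50.mem_isometryGroup_iff]
    intro u
    show Cfsg.quadFormMinus 2 F a b (LinearMap.toMatrix' (τL D T) *ᵥ u) = _
    rw [LinearMap.toMatrix'_mulVec]
    apply D.i.injective
    rw [← Q_E D T hQ, E_τL, ← Q_E D T hQ]
    show ∑ i : Fin 3, E D T u (.inr i) * E D T u (.inl i)
      = ∑ i : Fin 3, E D T u (.inl i) * E D T u (.inr i)
    apply Finset.sum_congr rfl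
    intro i _
    ring⟩

lemma τ_mul_τ : τ D T hQ * τ D T hQ = 1 := by
  apply Subtype.ext
  apply Units.ext
  exact τ_mul_self D T

lemma Lσ_L (x : (Gt : Subgroup (Kˣ × GL (Fin 4) K))) (w : I6 → K) :
    Lσ (L x.1 w) = L (Cfsg.Agent.S0302.tw x).1 (Lσ w) := by
  apply toA_injective
  rw [toA_Lσ, toA_L, toA_L, toA_Lσ, st_smul, st_conj', smul_smul]
  show _ = (x.1.1.1 * x.1.2.1.det) • ((x.1.2⁻¹).1ᵀ * st (toA w) * ((x.1.2⁻¹).1ᵀ)ᵀ)
  rw [Matrix.transpose_transpose]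

/-- the twist on `Gu` -/
def twu (p : Gu D (Fintype.card F)) : Gu D (Fintype.card F) :=
  ⟨(Cfsg.Agent.S0302.tw ⟨p.1, (mem_Gt p.1).mpr ((mem_Gu D _ p.1).mp p.2).2⟩).1, by
    obtain ⟨⟨hN, hI⟩, hdet⟩ := (mem_Gu D _ p.1).mp p.2
    have hU := isIsom_hU D hq hσq hI
    rw [mem_Gu]
    refine ⟨⟨?_, ?_⟩, (mem_Gt _).mp (Cfsg.Agent.S0302.tw ⟨p.1, (mem_Gt p.1).mpr hdet⟩).2⟩
    · show (p.1.1.1 * p.1.2.1.det) * D.σ (p.1.1.1 * p.1.2.1.det) = 1
      have e3 : D.σ p.1.1.1 ^ 2 * D.σ p.1.2.1.det = 1 := by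
        rw [← map_pow, ← map_mul, hdet, map_one]
      have hd : p.1.2.1.det * D.σ p.1.2.1.det = 1 := by
        have h5 : (p.1.1.1 * D.σ p.1.1.1) ^ 2 * (p.1.2.1.det * D.σ p.1.2.1.det) = 1 := by
          linear_combination (D.σ p.1.1.1 ^ 2 * D.σ p.1.2.1.det) * hdet + e3
        rw [hN] at h5
        simpa using h5
      rw [map_mul]
      linear_combination (p.1.2.1.det * D.σ p.1.2.1.det) * hN + hd
    · show IsIsom 4 (Fintype.card F) (p.1.2⁻¹).1ᵀ
      have h1 : (p.1.2⁻¹).1ᵀ = p.1.2.1.map D.σ := by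
        have h2 : (p.1.2⁻¹).1ᵀ * p.1.2.1ᵀ = 1 := by
          rw [← Matrix.transpose_mul, ← Units.val_mul, mul_inv_cancel, Units.val_one,
            Matrix.transpose_one]
        calc (p.1.2⁻¹).1ᵀ = (p.1.2⁻¹).1ᵀ * (p.1.2.1ᵀ * p.1.2.1.map D.σ) := by rw [hU, mul_one]
          _ = p.1.2.1.map D.σ := by rw [← mul_assoc, h2, one_mul]
      rw [h1]
      apply isIsom_of_hU D hσq
      rw [map_map_σ]
      have h3 : p.1.2.1.map D.σ * p.1.2.1ᵀ = 1 := mul_eq_one_comm.mp hU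
      have h4 : p.1.2.1 * (p.1.2.1.map D.σ)ᵀ = 1 := by
        have := congrArg Matrix.transpose h3
        rwa [Matrix.transpose_mul, Matrix.transpose_transpose, Matrix.transpose_one] at this
      exact mul_eq_one_comm.mp h4⟩

lemma τ_mul_rho6 (p : Gu D (Fintype.card F)) :
    τ D T hQ * rho6 D hq hσq T hQ p = rho6 D hq hσq T hQ (twu D hq hσq p) * τ D T hQ := by
  apply Subtype.ext
  apply Units.ext
  show LinearMap.toMatrix' (τL D T) * LinearMap.toMatrix' (L6 D T p.1)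
    = LinearMap.toMatrix' (L6 D T (twu D hq hσq p).1) * LinearMap.toMatrix' (τL D T)
  rw [← LinearMap.toMatrix'_comp, ← LinearMap.toMatrix'_comp]
  congr 1
  apply LinearMap.ext
  intro v
  apply E_injective D T
  rw [LinearMap.comp_apply, LinearMap.comp_apply, E_τL, E_L6 D hq hσq T p,
    E_L6 D hq hσq T (twu D hq hσq p), E_τL]
  exact Lσ_L ⟨p.1, (mem_Gt p.1).mpr ((mem_Gu D _ p.1).mp p.2).2⟩ _

lemma τ_not_mem : τ D T hQ ∉ (rho6 D hq hσq T hQ).range := by
  rintro ⟨p, hp⟩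
  have hL : L6 D T p.1 = τL D T := by
    have h1 : LinearMap.toMatrix' (L6 D T p.1) = LinearMap.toMatrix' (τL D T) :=
      congrArg (fun x : Cfsg.isometryGroup F (Cfsg.quadFormMinus 2 F a b) =>
        (x.1 : GL Jm F).1) hp
    exact LinearMap.toMatrix'.injective h1
  have hL' : L p.1 = (Lσ : (I6 → K) →ₗ[K] (I6 → K)) := by
    apply span_ext D
    intro x
    obtain ⟨v, hv⟩ := exists_E D T x
    rw [← hv, ← E_L6 D hq hσq T p, hL, E_τL]
  apply Cfsg.Agent.S0302.σ_not_mem (F := K)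
  refine ⟨⟨p.1, (mem_Gt p.1).mpr ((mem_Gu D _ p.1).mp p.2).2⟩, ?_⟩
  apply Subtype.ext
  apply Units.ext
  show LinearMap.toMatrix' (L p.1) = LinearMap.toMatrix' Lσ
  rw [hL']

lemma cover6 (hK : Fintype.card K = Fintype.card F ^ 2)
    (hab : ∀ z₁ z₂ : F, z₁ ^ 2 + a * z₁ * z₂ + b * z₂ ^ 2 = 0 → z₁ = 0 ∧ z₂ = 0)
    (x : Cfsg.isometryGroup F (Cfsg.quadFormMinus 2 F a b)) :
    ∃ n ∈ (rho6 D hq hσq T hQ).range, x = n ∨ x = τ D T hQ * n := by
  by_cases hx : x ∈ (rho6 D hq hσq T hQ).range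
  · exact ⟨x, hx, Or.inl rfl⟩
  · have : τ D T hQ * x ∈ (rho6 D hq hσq T hQ).range := by
      rw [Subgroup.mul_mem_iff_of_index_two (index_range_rho6 D hq hσq T hQ hK hab)]
      exact ⟨fun h => absurd h (τ_not_mem D hq hσq T hQ), fun h => absurd h hx⟩
    exact ⟨_, this, Or.inr (by rw [← mul_assoc, τ_mul_τ, one_mul])⟩

/-- the homomorphism from `SU₄` -/
def ψ₀ : Cfsg.SU 4 K (Fintype.card F) →* Cfsg.isometryGroup F (Cfsg.quadFormMinus 2 F a b) :=
  (rho6 D hq hσq T hQ).comp (ι₀ D)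

lemma mem_range_of (x : Gu D (Fintype.card F)) (c : U₁ D) (hc : x.1.1 = c.1⁻¹ ^ 2) :
    rho6 D hq hσq T hQ x ∈ (ψ₀ D hq hσq T hQ).range := by
  have h1 : rho6 D hq hσq T hQ (Δu D hσq c) = 1 := by
    rw [← MonoidHom.mem_ker, ker_rho6 D hq hσq T hQ]
    exact ⟨c, rfl⟩
  have h2 : x * (Δu D hσq c)⁻¹ ∈ (ι₀ D : Cfsg.SU 4 K (Fintype.card F) →* _).range := by
    apply mem_range_ι₀
    show x.1.1 * ((c.1⁻¹ ^ 2 : Kˣ))⁻¹ = 1
    rw [hc, mul_inv_cancel]
  obtain ⟨s, hs⟩ := h2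
  refine ⟨s, ?_⟩
  show rho6 D hq hσq T hQ (ι₀ D s) = _
  rw [hs, map_mul, map_inv, h1, inv_one, mul_one]

lemma comm_le_range6 :
    ⁅(rho6 D hq hσq T hQ).range, (rho6 D hq hσq T hQ).range⁆ ≤ (ψ₀ D hq hσq T hQ).range := by
  rw [Subgroup.commutator_le]
  rintro _ ⟨p, rfl⟩ _ ⟨p', rfl⟩
  rw [← map_commutatorElement]
  apply mem_range_of D hq hσq T hQ _ 1
  show ⁅p.1.1, p'.1.1⁆ = (1 : Kˣ)⁻¹ ^ 2
  rw [inv_one, one_pow]
  exact commutatorElement_eq_one_iff_commute.mpr (Commute.all _ _)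

lemma τ_comm_mem6 (p : Gu D (Fintype.card F)) :
    ⁅τ D T hQ, rho6 D hq hσq T hQ p⁆ ∈ (ψ₀ D hq hσq T hQ).range := by
  have h1 : ⁅τ D T hQ, rho6 D hq hσq T hQ p⁆
      = rho6 D hq hσq T hQ (twu D hq hσq p * p⁻¹) := by
    rw [commutatorElement_def, τ_mul_rho6, mul_assoc (rho6 D hq hσq T hQ (twu D hq hσq p)),
      mul_inv_cancel, mul_one, map_mul, map_inv]
  rw [h1]
  obtain ⟨⟨hN, hI⟩, hdet⟩ := (mem_Gu D _ p.1).mp p.2
  apply mem_range_of D hq hσq T hQ _ ⟨p.1.1, hN⟩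
  show p.1.1 * GeneralLinearGroup.det p.1.2 * p.1.1⁻¹ = p.1.1⁻¹ ^ 2
  have hp : p.1.1 ^ 2 * GeneralLinearGroup.det p.1.2 = 1 := by
    apply Units.ext
    exact hdet
  have h2 : GeneralLinearGroup.det p.1.2 = p.1.1⁻¹ ^ 2 := by
    rw [inv_pow, eq_inv_iff_mul_eq_one, mul_comm]
    exact hp
  rw [mul_comm, ← mul_assoc, inv_mul_cancel, one_mul, h2]

lemma range_le_comm6 (hK : Fintype.card K = Fintype.card F ^ 2) :
    (ψ₀ D hq hσq T hQ).range ≤
    ⁅(rho6 D hq hσq T hQ).range, (rho6 D hq hσq T hQ).range⁆ := by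
  rintro _ ⟨s, rfl⟩
  have hs : s ∈ commutator (Cfsg.SU 4 K (Fintype.card F)) := by
    rw [Cfsg.Agent.Lib.helper99.su_perfect hK 4 (by norm_num) (by omega)]
    exact Subgroup.mem_top _
  have h1 : ψ₀ D hq hσq T hQ s ∈ (commutator (Cfsg.SU 4 K (Fintype.card F))).map
      (ψ₀ D hq hσq T hQ) := Subgroup.mem_map_of_mem _ hs
  rw [commutator_def, Subgroup.map_commutator] at h1
  refine Subgroup.commutator_mono ?_ ?_ h1
  · rintro _ ⟨t, -, rfl⟩
    exact ⟨ι₀ D t, rfl⟩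
  · rintro _ ⟨t, -, rfl⟩
    exact ⟨ι₀ D t, rfl⟩

lemma commutator_eq_range6 (hK : Fintype.card K = Fintype.card F ^ 2)
    (hab : ∀ z₁ z₂ : F, z₁ ^ 2 + a * z₁ * z₂ + b * z₂ ^ 2 = 0 → z₁ = 0 ∧ z₂ = 0) :
    commutator (Cfsg.isometryGroup F (Cfsg.quadFormMinus 2 F a b)) =
      (ψ₀ D hq hσq T hQ).range := by
  have hN : (rho6 D hq hσq T hQ).range.Normal :=
    Subgroup.normal_of_index_eq_two (index_range_rho6 D hq hσq T hQ hK hab)
  have hNN : ⁅(rho6 D hq hσq T hQ).range, (rho6 D hq hσq T hQ).range⁆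
      = (ψ₀ D hq hσq T hQ).range :=
    le_antisymm (comm_le_range6 D hq hσq T hQ) (range_le_comm6 D hq hσq T hQ hK)
  apply le_antisymm
  · rw [← hNN]
    apply Cfsg.Agent.S0299.commutator_le_of_cover (rho6 D hq hσq T hQ).range _ (τ D T hQ)
    · exact cover6 D hq hσq T hQ hK hab
    · intro x hx y hy
      exact Subgroup.commutator_mem_commutator hx hy
    · rintro _ ⟨p, rfl⟩
      rw [hNN]
      exact τ_comm_mem6 D hq hσq T hQ p
  · rw [← hNN, commutator_def]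
    exact Subgroup.commutator_mono le_top le_top

end index

lemma su_mem_center_of_quasi_commute {K : Type*} [Field K] [Fintype K] {q : ℕ}
    (hK : Fintype.card K = q ^ 2) (s : Cfsg.SU 4 K q)
    (H : ∀ t : Cfsg.SU 4 K q, s * t * s⁻¹ * t⁻¹ ∈ Subgroup.center (Cfsg.SU 4 K q)) :
    s ∈ Subgroup.center (Cfsg.SU 4 K q) := by
  have hsN : s ∈ (Subgroup.center (Cfsg.SU 4 K q ⧸ Subgroup.center (Cfsg.SU 4 K q))).comap
      (QuotientGroup.mk' (Subgroup.center (Cfsg.SU 4 K q))) := by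
    show QuotientGroup.mk' (Subgroup.center (Cfsg.SU 4 K q)) s ∈ Subgroup.center _
    rw [Subgroup.mem_center_iff]
    intro y
    obtain ⟨t, rfl⟩ := QuotientGroup.mk'_surjective (Subgroup.center (Cfsg.SU 4 K q)) y
    have h1 : QuotientGroup.mk' (Subgroup.center (Cfsg.SU 4 K q)) (s * t * s⁻¹ * t⁻¹) = 1 :=
      (QuotientGroup.eq_one_iff _).mpr (H t)
    rw [map_mul, map_mul, map_mul, map_inv, map_inv, mul_inv_eq_one, mul_inv_eq_iff_eq_mul] at h1
    exact h1.symm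
  by_cases hN : (Subgroup.center (Cfsg.SU 4 K q ⧸ Subgroup.center (Cfsg.SU 4 K q))).comap
      (QuotientGroup.mk' (Subgroup.center (Cfsg.SU 4 K q))) ≤ Subgroup.center (Cfsg.SU 4 K q)
  · exact hN hsN
  · have htop := Cfsg.Agent.Lib.helper99.su_normal hK 4 (by norm_num) (by omega) _ hN
    have hcomm : commutator (Cfsg.SU 4 K q) ≤ Subgroup.center (Cfsg.SU 4 K q) := by
      rw [commutator_def, Subgroup.commutator_le]
      intro x _ y _
      have hx : x ∈ (Subgroup.center (Cfsg.SU 4 K q ⧸ Subgroup.center (Cfsg.SU 4 K q))).comap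
          (QuotientGroup.mk' (Subgroup.center (Cfsg.SU 4 K q))) := by
        rw [htop]
        exact Subgroup.mem_top x
      have hx' : QuotientGroup.mk' (Subgroup.center (Cfsg.SU 4 K q)) x ∈ Subgroup.center _ := hx
      rw [← QuotientGroup.eq_one_iff, ← QuotientGroup.mk'_apply, map_commutatorElement,
        commutatorElement_eq_one_iff_commute]
      exact (Subgroup.mem_center_iff.mp hx' (QuotientGroup.mk' _ y)).symm
    rw [Cfsg.Agent.Lib.helper99.su_perfect hK 4 (by norm_num) (by omega)] at hcomm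
    exact hcomm (Subgroup.mem_top s)

/-- PΩ^-_6(q) is isomorphic to PSU_4(q). -/
theorem result {F K : Type*} [Field F] [Fintype F] [Field K] [Fintype K] {q : ℕ} (hF : Fintype.card F = q) (hK : Fintype.card K = q ^ 2) (a b : F) (hab : ∀ z₁ z₂ : F, z₁ ^ 2 + a * z₁ * z₂ + b * z₂ ^ 2 = 0 → z₁ = 0 ∧ z₂ = 0) : Nonempty (Cfsg.POmega F (Cfsg.quadFormMinus 2 F a b) ≃* Cfsg.PSU 4 K q) := by
  classical
  subst hF
  obtain ⟨D, hσq⟩ := exists_qd (F := F) (K := K) hK a b hab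
  obtain ⟨c, hc⟩ := exists_norm_neg_one hK D hσq
  have hq : Fintype.card F ≠ 0 := Fintype.card_ne_zero
  let e : Fin 1 ⊕ Fin 1 ≃ Fin 2 := finSumFinEquiv
  have hcard : Fintype.card ((Fin 1 ⊕ Fin 1) ⊕ Unit) = 3 := by simp
  let eι : (Fin 1 ⊕ Fin 1) ⊕ Unit ≃ Fin 3 := Fintype.equivFinOfCardEq hcard
  let T : SemiEquiv D Jm (Fin 3) :=
    ((Tpair D c hc (Fin 1)).sum (Tone D)).reindex
      (Equiv.sumCongr (Equiv.sumCongr e e) (Equiv.refl (Fin 2))) eι
  have hQ : ∀ v, D.i (Cfsg.quadFormMinus 2 F a b v) = hσ D (T.toFun v) (T.toFun v) := by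
    intro v
    rw [hσ_reindex, hσ_sum, hσ_Tpair, hσ_Tone, Cfsg.quadFormMinus, ← Equiv.sum_comp e, map_add]
    rfl
  have hΩ := commutator_eq_range6 D hq hσq T hQ hK hab
  let ψ : Cfsg.SU 4 K (Fintype.card F) →*
      commutator (Cfsg.isometryGroup F (Cfsg.quadFormMinus 2 F a b)) :=
    (ψ₀ D hq hσq T hQ).codRestrict _ (fun p => by rw [hΩ]; exact ⟨p, rfl⟩)
  have hsurj : Function.Surjective ψ := by
    rintro ⟨x, hx⟩
    have hx' : x ∈ (ψ₀ D hq hσq T hQ).range := hΩ ▸ hx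
    obtain ⟨p, rfl⟩ := hx'
    exact ⟨p, Subtype.ext rfl⟩
  have hkψ : ∀ s : Cfsg.SU 4 K (Fintype.card F), ψ s = 1 →
      s ∈ Subgroup.center (Cfsg.SU 4 K (Fintype.card F)) := by
    intro s hs
    have h1 : rho6 D hq hσq T hQ (ι₀ D s) = 1 := congrArg Subtype.val hs
    rw [← MonoidHom.mem_ker, ker_rho6 D hq hσq T hQ] at h1
    obtain ⟨u, hu⟩ := h1
    have h2 : GeneralLinearGroup.scalar (Fin 4) u.1 = SpecialLinearGroup.toGL s.1 :=
      congrArg (fun p : Gu D (Fintype.card F) => p.1.2) hu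
    have h3 : (s.1 : Matrix (Fin 4) (Fin 4) K) = Matrix.scalar (Fin 4) (u.1 : K) := by
      have := congrArg (fun g : GL (Fin 4) K => g.1) h2
      rw [Matrix.GeneralLinearGroup.coe_scalar] at this
      exact this.symm
    rw [Subgroup.mem_center_iff]
    intro g
    apply Subtype.ext
    apply Subtype.ext
    show (g.1 : Matrix (Fin 4) (Fin 4) K) * (s.1 : Matrix (Fin 4) (Fin 4) K)
      = (s.1 : Matrix (Fin 4) (Fin 4) K) * (g.1 : Matrix (Fin 4) (Fin 4) K)
    rw [h3]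
    exact ((Matrix.scalar_commute _ (fun _ => Commute.all _ _) _).eq).symm
  let f₁ : Cfsg.SU 4 K (Fintype.card F) →* Cfsg.POmega F (Cfsg.quadFormMinus 2 F a b) :=
    (QuotientGroup.mk' (Subgroup.center
      (commutator (Cfsg.isometryGroup F (Cfsg.quadFormMinus 2 F a b))))).comp ψ
  have hf₁ : Function.Surjective f₁ := (QuotientGroup.mk'_surjective _).comp hsurj
  have hker₁ : f₁.ker = Subgroup.center (Cfsg.SU 4 K (Fintype.card F)) := by
    ext p
    rw [MonoidHom.mem_ker]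
    show QuotientGroup.mk' _ (ψ p) = 1 ↔ _
    rw [QuotientGroup.mk'_apply, QuotientGroup.eq_one_iff]
    constructor
    · intro h
      apply su_mem_center_of_quasi_commute hK
      intro s
      apply hkψ
      rw [map_mul, map_mul, map_mul, map_inv, map_inv]
      have := Subgroup.mem_center_iff.mp h (ψ s)
      rw [mul_inv_eq_one, mul_inv_eq_iff_eq_mul, this]
    · intro h
      rw [Subgroup.mem_center_iff] at h ⊢
      intro g
      obtain ⟨t, rfl⟩ := hsurj g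
      rw [← map_mul, ← map_mul, h t]
  exact ⟨(QuotientGroup.quotientKerEquivOfSurjective f₁ hf₁).symm.trans
    (QuotientGroup.quotientMulEquivOfEq hker₁)⟩

end Cfsg.Agent.S0303
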