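import Cfsg.Statements.S0304
import Cfsg.Agent.Lib.helper50.QuadMat

set_option autoImplicit false
open Cfsg

namespace Cfsg.Agent.S0304

open Matrix Cfsg.Agent.Lib.helper50

section
variable (m : ℕ) (F : Type*) [Field F]

/-- half-Gram matrix of the hyperbolic part -/
def Nh : Matrix (Fin m ⊕ Fin m) (Fin m ⊕ Fin m) F := fromBlocks 0 1 0 0

/-- matrix of the odd-dimensional form -/
def Mo : Matrix (Unit ⊕ (Fin m ⊕ Fin m)) (Unit ⊕ (Fin m ⊕ Fin m)) F := fromBlocks 1 0 0 (Nh m F)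

theorem quadFormOdd_eq (v : Unit ⊕ (Fin m ⊕ Fin m) → F) :
    Cfsg.quadFormOdd m F v = qf (Mo m F) v := by
  unfold Cfsg.quadFormOdd qf Mo Nh
  simp [dotProduct, mulVec, Fintype.sum_sum_type, Matrix.one_apply]
  ring

theorem Nh_add_transpose [CharP F 2] : Nh m F + (Nh m F)ᵀ = J (Fin m) F := by
  unfold Nh J
  rw [fromBlocks_transpose, fromBlocks_add]
  have h : (-1 : Matrix (Fin m) (Fin m) F) = 1 := by
    ext i j
    rw [Matrix.neg_apply, CharTwo.neg_eq]
  simp [h]

end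

section
variable {R : Type*} [CommRing R] {I J' : Type*} [Fintype I] [DecidableEq I] [Fintype J']
  [DecidableEq J']

theorem isAlt_iff (S : Matrix I I R) : IsAlt S ↔ (∀ i, S i i = 0) ∧ S + Sᵀ = 0 := by
  unfold IsAlt
  refine and_congr Iff.rfl ?_
  constructor
  · intro h; ext i j; simpa using h i j
  · intro h i j
    have := congrFun (congrFun h i) j
    simpa using this

theorem isAlt_fromBlocks (P : Matrix I I R) (Q : Matrix I J' R) (T : Matrix J' I R)
    (S : Matrix J' J' R) :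
    IsAlt (fromBlocks P Q T S) ↔ IsAlt P ∧ IsAlt S ∧ Q + Tᵀ = 0 := by
  rw [isAlt_iff, isAlt_iff, isAlt_iff, fromBlocks_transpose, fromBlocks_add]
  rw [← fromBlocks_zero, fromBlocks_inj]
  simp only [Sum.forall, fromBlocks_apply₁₁, fromBlocks_apply₂₂]
  constructor
  · rintro ⟨⟨h1, h2⟩, h3, h4, h5, h6⟩
    exact ⟨⟨h1, h3⟩, ⟨h2, h6⟩, h4⟩
  · rintro ⟨⟨h1, h3⟩, ⟨h2, h6⟩, h4⟩
    refine ⟨⟨h1, h2⟩, h3, h4, ?_, h6⟩
    have := congrArg Matrix.transpose h4
    rw [transpose_add, transpose_transpose, transpose_zero, add_comm] at this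
    exact this

end


theorem add_self_mat {F : Type*} [Field F] [CharP F 2] {I K : Type*} (X : Matrix I K F) :
    X + X = 0 := by
  ext i j
  simp only [Matrix.add_apply, Matrix.zero_apply]
  exact CharTwo.add_self_eq_zero _

theorem Nh_diag (m : ℕ) (F : Type*) [Field F] (j : Fin m ⊕ Fin m) : Nh m F j j = 0 := by
  rcases j with j | j <;> simp [Nh]

theorem key (m : ℕ) (F : Type*) [Field F] [CharP F 2] (a : Matrix Unit Unit F)
    (r : Matrix Unit (Fin m ⊕ Fin m) F)
    (c : Matrix (Fin m ⊕ Fin m) Unit F) (A : Matrix (Fin m ⊕ Fin m) (Fin m ⊕ Fin m) F) :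
    IsAlt ((fromBlocks a r c A)ᵀ * Mo m F * fromBlocks a r c A - Mo m F) ↔
    (a = 1 ∧ c = 0 ∧ A ∈ symplecticGroup (Fin m) F ∧
      ∀ j, r () j ^ 2 = (Aᵀ * Nh m F * A) j j) := by
  have e : (fromBlocks a r c A)ᵀ * Mo m F * fromBlocks a r c A - Mo m F
      = fromBlocks (aᵀ * a + cᵀ * Nh m F * c - 1) (aᵀ * r + cᵀ * Nh m F * A)
          (rᵀ * a + Aᵀ * Nh m F * c) (rᵀ * r + Aᵀ * Nh m F * A - Nh m F) := by
    unfold Mo
    rw [fromBlocks_transpose, fromBlocks_multiply, fromBlocks_multiply]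
    rw [sub_eq_add_neg, fromBlocks_neg, fromBlocks_add]
    simp [sub_eq_add_neg]
  rw [e, isAlt_fromBlocks, isAlt_iff, isAlt_iff]
  have hrr : ∀ j, (rᵀ * r) j j = r () j ^ 2 := by
    intro j
    simp [Matrix.mul_apply, sq]
  constructor
  · rintro ⟨⟨hP, -⟩, ⟨hS1, hS2⟩, hQ⟩
    have hJ : Aᵀ * J (Fin m) F * A = J (Fin m) F := by
      rw [← Nh_add_transpose]
      have h2 : rᵀ * r + rᵀ * r = 0 := add_self_mat _
      simp only [transpose_sub, transpose_add, transpose_mul, transpose_transpose] at hS2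
      rw [Matrix.mul_add, Matrix.add_mul]
      have h3 : Aᵀ * Nh m F * A + Aᵀ * (Nh m F)ᵀ * A - (Nh m F + (Nh m F)ᵀ) = 0 := by
        have h4 : Aᵀ * Nh m F * A + Aᵀ * (Nh m F)ᵀ * A - (Nh m F + (Nh m F)ᵀ)
            = (rᵀ * r + Aᵀ * Nh m F * A - Nh m F + (rᵀ * r + Aᵀ * ((Nh m F)ᵀ * A) - (Nh m F)ᵀ))
              - (rᵀ * r + rᵀ * r) := by
          simp only [Matrix.mul_assoc]
          abel
        rw [h4, hS2, h2, sub_zero]
      exact sub_eq_zero.1 h3
    have hA : A ∈ symplecticGroup (Fin m) F := SymplecticGroup.mem_iff'.2 hJ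
    have hc : c = 0 := by
      have h2 : aᵀ * r + aᵀ * r = 0 := add_self_mat _
      simp only [transpose_add, transpose_mul, transpose_transpose] at hQ
      have h3 : cᵀ * J (Fin m) F * A = 0 := by
        rw [← Nh_add_transpose, Matrix.mul_add, Matrix.add_mul]
        have h4 : cᵀ * Nh m F * A + cᵀ * (Nh m F)ᵀ * A
            = (aᵀ * r + cᵀ * Nh m F * A + (aᵀ * r + cᵀ * ((Nh m F)ᵀ * A))) - (aᵀ * r + aᵀ * r) := by
          simp only [Matrix.mul_assoc]
          abel
        rw [h4, hQ, h2, sub_zero]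
      have h4 : cᵀ * J (Fin m) F = 0 := by
        have := congrArg (fun X => X * A⁻¹) h3
        simp only [Matrix.zero_mul] at this
        rwa [Matrix.mul_assoc, Matrix.mul_nonsing_inv A (SymplecticGroup.symplectic_det hA),
          Matrix.mul_one] at this
      have h5 : cᵀ = 0 := by
        have := congrArg (fun X => X * J (Fin m) F) h4
        simp only [Matrix.zero_mul] at this
        rw [Matrix.mul_assoc, J_squared, Matrix.mul_neg, Matrix.mul_one, neg_eq_zero] at this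
        exact this
      have := congrArg Matrix.transpose h5
      simpa using this
    have ha : a = 1 := by
      have h1 := hP ()
      rw [hc] at h1
      simp [Matrix.mul_apply] at h1
      have h2 : (a () () - 1) ^ 2 = 0 := by
        have h2' : (2 : F) = 0 := CharTwo.two_eq_zero
        linear_combination h1 - (a () () - 1) * h2'
      have h3 : a () () = 1 := sub_eq_zero.1 (pow_eq_zero_iff (two_ne_zero)|>.1 h2)
      ext i j
      cases i; cases j
      simp [h3]
    refine ⟨ha, hc, hA, fun j => ?_⟩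
    have h1 := hS1 j
    rw [Matrix.sub_apply, Matrix.add_apply, hrr, Nh_diag, sub_zero] at h1
    have h2 := CharTwo.add_self_eq_zero ((Aᵀ * Nh m F * A) j j)
    linear_combination h1 - h2
  · rintro ⟨rfl, rfl, hA, hr⟩
    have hJ := SymplecticGroup.mem_iff'.1 hA
    refine ⟨⟨?_, ?_⟩, ⟨fun j => ?_, ?_⟩, ?_⟩
    · intro i; simp
    · simp
    · rw [Matrix.sub_apply, Matrix.add_apply, hrr, Nh_diag, sub_zero, hr]
      exact CharTwo.add_self_eq_zero _
    · simp only [transpose_sub, transpose_add, transpose_mul, transpose_transpose]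
      have h2 : rᵀ * r + rᵀ * r = 0 := add_self_mat _
      rw [← Nh_add_transpose, Matrix.mul_add, Matrix.add_mul] at hJ
      have h3 : rᵀ * r + Aᵀ * Nh m F * A - Nh m F + (rᵀ * r + Aᵀ * ((Nh m F)ᵀ * A) - (Nh m F)ᵀ)
          = (rᵀ * r + rᵀ * r) + ((Aᵀ * Nh m F * A + Aᵀ * (Nh m F)ᵀ * A) - (Nh m F + (Nh m F)ᵀ)) := by
        simp only [Matrix.mul_assoc]
        abel
      rw [h3, h2, hJ, sub_self, add_zero]
    · simp only [transpose_one, Matrix.one_mul, transpose_zero, Matrix.zero_mul, Matrix.mul_zero,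
        add_zero, Matrix.mul_one, transpose_transpose]
      exact add_self_mat _


theorem facts (m : ℕ) (F : Type*) [Field F] [CharP F 2] (g : GL (Unit ⊕ (Fin m ⊕ Fin m)) F) :
    g ∈ Cfsg.isometryGroup F (Cfsg.quadFormOdd m F) ↔
    (g.1.toBlocks₁₁ = 1 ∧ g.1.toBlocks₂₁ = 0 ∧ g.1.toBlocks₂₂ ∈ symplecticGroup (Fin m) F ∧
      ∀ j, g.1.toBlocks₁₂ () j ^ 2 = (g.1.toBlocks₂₂ᵀ * Nh m F * g.1.toBlocks₂₂) j j) := by
  have e : Cfsg.quadFormOdd m F = qf (Mo m F) := funext (quadFormOdd_eq m F)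
  rw [e, mem_isometryGroup_qf_iff, ← key]
  rw [fromBlocks_toBlocks]

/-- In characteristic 2, O_{2m+1}(q) is isomorphic to Sp_{2m}(q). -/
theorem result {F : Type*} [Field F] [Fintype F] [CharP F 2] (m : ℕ) : Nonempty (Cfsg.isometryGroup F (Cfsg.quadFormOdd m F) ≃* Matrix.symplecticGroup (Fin m) F) := by
  classical
  have hmul : ∀ g h : GL (Unit ⊕ (Fin m ⊕ Fin m)) F, g.1.toBlocks₂₁ = 0 →
      (g * h).1.toBlocks₂₂ = g.1.toBlocks₂₂ * h.1.toBlocks₂₂ := by
    intro g h hg
    rw [Units.val_mul]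
    conv_lhs => rw [← fromBlocks_toBlocks g.1, ← fromBlocks_toBlocks h.1, fromBlocks_multiply,
      toBlocks_fromBlocks₂₂, hg, Matrix.zero_mul, zero_add]
  let φ : Cfsg.isometryGroup F (Cfsg.quadFormOdd m F) →* Matrix.symplecticGroup (Fin m) F :=
    { toFun := fun g => ⟨g.1.1.toBlocks₂₂, ((facts m F g.1).1 g.2).2.2.1⟩
      map_one' := by
        apply Subtype.ext
        show (1 : Matrix _ _ F).toBlocks₂₂ = 1
        rw [← fromBlocks_one, toBlocks_fromBlocks₂₂]
      map_mul' := fun g h => by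
        apply Subtype.ext
        exact hmul g.1 h.1 ((facts m F g.1).1 g.2).2.1 }
  refine ⟨MulEquiv.ofBijective φ ⟨?_, ?_⟩⟩
  · intro g h hgh
    have h1 : g.1.1.toBlocks₂₂ = h.1.1.toBlocks₂₂ := congrArg Subtype.val hgh
    obtain ⟨g11, g21, -, g12⟩ := (facts m F g.1).1 g.2
    obtain ⟨h11, h21, -, h12⟩ := (facts m F h.1).1 h.2
    apply Subtype.ext; apply Units.ext
    rw [← fromBlocks_toBlocks g.1.1, ← fromBlocks_toBlocks h.1.1, g11, h11, g21, h21, h1]
    congr 1
    ext i j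
    cases i
    have := g12 j
    rw [h1, ← h12 j] at this
    exact frobenius_inj F 2 this
  · rintro ⟨A, hA⟩
    have hsurj : Function.Surjective (frobenius F 2) :=
      Finite.surjective_of_injective (frobenius_inj F 2)
    choose r hr using fun j => hsurj ((Aᵀ * Nh m F * A) j j)
    have hu : IsUnit (fromBlocks (1 : Matrix Unit Unit F) (Matrix.of fun _ j => r j) 0 A) := by
      rw [isUnit_fromBlocks_zero₂₁]
      exact ⟨isUnit_one, (Matrix.isUnit_iff_isUnit_det _).2 (SymplecticGroup.symplectic_det hA)⟩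
    obtain ⟨g, hg⟩ := hu
    have hmem : g ∈ Cfsg.isometryGroup F (Cfsg.quadFormOdd m F) := by
      rw [facts, hg]
      simp only [toBlocks_fromBlocks₁₁, toBlocks_fromBlocks₂₁, toBlocks_fromBlocks₂₂,
        toBlocks_fromBlocks₁₂]
      exact ⟨trivial, trivial, hA, fun j => hr j⟩
    refine ⟨⟨g, hmem⟩, ?_⟩
    apply Subtype.ext
    show g.1.toBlocks₂₂ = A
    rw [hg, toBlocks_fromBlocks₂₂]

end Cfsg.Agent.S0304
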