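import Cfsg.Statements.S0305
import Mathlib

set_option autoImplicit false
open Cfsg

namespace Cfsg.Agent.S0305

open Matrix

section aux

variable {F : Type*} [Field F]

/-- "Diagonal" 2×2 matrix on the index type `Fin 1 ⊕ Fin 1`. -/
def dM (a b : F) : Matrix (Fin 1 ⊕ Fin 1) (Fin 1 ⊕ Fin 1) F :=
  fromBlocks (diagonal fun _ => a) 0 0 (diagonal fun _ => b)

/-- "Anti-diagonal" 2×2 matrix on the index type `Fin 1 ⊕ Fin 1`. -/
def sM (a b : F) : Matrix (Fin 1 ⊕ Fin 1) (Fin 1 ⊕ Fin 1) F :=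
  fromBlocks 0 (diagonal fun _ => a) (diagonal fun _ => b) 0

lemma dM_mul_dM (a b a' b' : F) : dM a b * dM a' b' = dM (a * a') (b * b') := by
  simp only [dM, fromBlocks_multiply, Matrix.zero_mul, Matrix.mul_zero, zero_add, add_zero,
    diagonal_mul_diagonal]

lemma dM_mul_sM (a b a' b' : F) : dM a b * sM a' b' = sM (a * a') (b * b') := by
  simp only [dM, sM, fromBlocks_multiply, Matrix.zero_mul, Matrix.mul_zero, zero_add, add_zero,
    diagonal_mul_diagonal]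

lemma sM_mul_dM (a b a' b' : F) : sM a b * dM a' b' = sM (a * b') (b * a') := by
  simp only [dM, sM, fromBlocks_multiply, Matrix.zero_mul, Matrix.mul_zero, zero_add, add_zero,
    diagonal_mul_diagonal]

lemma sM_mul_sM (a b a' b' : F) : sM a b * sM a' b' = dM (a * b') (b * a') := by
  simp only [dM, sM, fromBlocks_multiply, Matrix.zero_mul, Matrix.mul_zero, zero_add, add_zero,
    diagonal_mul_diagonal]

lemma dM_one : dM (1 : F) 1 = 1 := by
  simp [dM]

lemma dM_apply_inl_inl (a b : F) : dM a b (Sum.inl 0) (Sum.inl 0) = a := by simp [dM]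
lemma dM_apply_inl_inr (a b : F) : dM a b (Sum.inl 0) (Sum.inr 0) = 0 := by simp [dM]
lemma dM_apply_inr_inl (a b : F) : dM a b (Sum.inr 0) (Sum.inl 0) = 0 := by simp [dM]
lemma dM_apply_inr_inr (a b : F) : dM a b (Sum.inr 0) (Sum.inr 0) = b := by simp [dM]
lemma sM_apply_inl_inl (a b : F) : sM a b (Sum.inl 0) (Sum.inl 0) = 0 := by simp [sM]
lemma sM_apply_inl_inr (a b : F) : sM a b (Sum.inl 0) (Sum.inr 0) = a := by simp [sM]
lemma sM_apply_inr_inl (a b : F) : sM a b (Sum.inr 0) (Sum.inl 0) = b := by simp [sM]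
lemma sM_apply_inr_inr (a b : F) : sM a b (Sum.inr 0) (Sum.inr 0) = 0 := by simp [sM]

/-- every matrix on `Fin 1 ⊕ Fin 1` is determined by its four entries -/
lemma ext4 {M N : Matrix (Fin 1 ⊕ Fin 1) (Fin 1 ⊕ Fin 1) F}
    (h1 : M (Sum.inl 0) (Sum.inl 0) = N (Sum.inl 0) (Sum.inl 0))
    (h2 : M (Sum.inl 0) (Sum.inr 0) = N (Sum.inl 0) (Sum.inr 0))
    (h3 : M (Sum.inr 0) (Sum.inl 0) = N (Sum.inr 0) (Sum.inl 0))
    (h4 : M (Sum.inr 0) (Sum.inr 0) = N (Sum.inr 0) (Sum.inr 0)) : M = N := by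
  ext i j
  rcases i with i | i <;> rcases j with j | j <;>
    (have hi : i = 0 := Subsingleton.elim _ _; have hj : j = 0 := Subsingleton.elim _ _; subst hi hj)
  · exact h1
  · exact h2
  · exact h3
  · exact h4

/-- diagonal element of `GL` -/
def dG (a : Fˣ) : GL (Fin 1 ⊕ Fin 1) F :=
  ⟨dM (a : F) ((a⁻¹ : Fˣ) : F), dM ((a⁻¹ : Fˣ) : F) (a : F), by
    rw [dM_mul_dM]; simp [dM_one], by
    rw [dM_mul_dM]; simp [dM_one]⟩

/-- anti-diagonal element of `GL` -/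
def sG (a : Fˣ) : GL (Fin 1 ⊕ Fin 1) F :=
  ⟨sM (a : F) ((a⁻¹ : Fˣ) : F), sM (a : F) ((a⁻¹ : Fˣ) : F), by
    rw [sM_mul_sM]; simp [dM_one], by
    rw [sM_mul_sM]; simp [dM_one]⟩

lemma dG_mul_dG (a b : Fˣ) : dG a * dG b = dG (a * b) := by
  apply Units.ext
  show dM (a : F) ((a⁻¹ : Fˣ) : F) * dM (b : F) ((b⁻¹ : Fˣ) : F)
    = dM ((a * b : Fˣ) : F) (((a * b)⁻¹ : Fˣ) : F)
  rw [dM_mul_dM]
  simp [mul_comm]

lemma dG_mul_sG (a b : Fˣ) : dG a * sG b = sG (a * b) := by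
  apply Units.ext
  show dM (a : F) ((a⁻¹ : Fˣ) : F) * sM (b : F) ((b⁻¹ : Fˣ) : F)
    = sM ((a * b : Fˣ) : F) (((a * b)⁻¹ : Fˣ) : F)
  rw [dM_mul_sM]
  simp [mul_comm]

lemma sG_mul_dG (a b : Fˣ) : sG a * dG b = sG (a * b⁻¹) := by
  apply Units.ext
  show sM (a : F) ((a⁻¹ : Fˣ) : F) * dM (b : F) ((b⁻¹ : Fˣ) : F)
    = sM ((a * b⁻¹ : Fˣ) : F) (((a * b⁻¹)⁻¹ : Fˣ) : F)
  rw [sM_mul_dM]
  simp [mul_comm]

lemma sG_mul_sG (a b : Fˣ) : sG a * sG b = dG (a * b⁻¹) := by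
  apply Units.ext
  show sM (a : F) ((a⁻¹ : Fˣ) : F) * sM (b : F) ((b⁻¹ : Fˣ) : F)
    = dM ((a * b⁻¹ : Fˣ) : F) (((a * b⁻¹)⁻¹ : Fˣ) : F)
  rw [sM_mul_sM]
  simp [mul_comm]

lemma mem_iso_iff (g : GL (Fin 1 ⊕ Fin 1) F) :
    g ∈ Cfsg.isometryGroup F (Cfsg.quadFormPlus 1 F) ↔
      ∀ u : Fin 1 ⊕ Fin 1 → F,
        (g.val *ᵥ u) (Sum.inl 0) * (g.val *ᵥ u) (Sum.inr 0)
          = u (Sum.inl 0) * u (Sum.inr 0) := by
  constructor
  · intro h u
    have := h u u
    simpa [Cfsg.quadFormPlus] using this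
  · intro h u v
    have := h u
    simpa [Cfsg.quadFormPlus] using this

lemma mulVec_inl (M : Matrix (Fin 1 ⊕ Fin 1) (Fin 1 ⊕ Fin 1) F) (u : Fin 1 ⊕ Fin 1 → F) :
    (M *ᵥ u) (Sum.inl 0) = M (Sum.inl 0) (Sum.inl 0) * u (Sum.inl 0)
      + M (Sum.inl 0) (Sum.inr 0) * u (Sum.inr 0) := by
  simp [Matrix.mulVec, dotProduct, Fintype.sum_sum_type]

lemma mulVec_inr (M : Matrix (Fin 1 ⊕ Fin 1) (Fin 1 ⊕ Fin 1) F) (u : Fin 1 ⊕ Fin 1 → F) :
    (M *ᵥ u) (Sum.inr 0) = M (Sum.inr 0) (Sum.inl 0) * u (Sum.inl 0)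
      + M (Sum.inr 0) (Sum.inr 0) * u (Sum.inr 0) := by
  simp [Matrix.mulVec, dotProduct, Fintype.sum_sum_type]

lemma dG_mem (a : Fˣ) : dG a ∈ Cfsg.isometryGroup F (Cfsg.quadFormPlus 1 F) := by
  rw [mem_iso_iff]
  intro u
  show (dM (a : F) ((a⁻¹ : Fˣ) : F) *ᵥ u) (Sum.inl 0) * (dM (a : F) ((a⁻¹ : Fˣ) : F) *ᵥ u) (Sum.inr 0) = _
  rw [mulVec_inl, mulVec_inr, dM_apply_inl_inl, dM_apply_inl_inr, dM_apply_inr_inl,
    dM_apply_inr_inr]
  have : (a : F) * ((a⁻¹ : Fˣ) : F) = 1 := by simp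
  linear_combination (u (Sum.inl 0) * u (Sum.inr 0)) * this

lemma sG_mem (a : Fˣ) : sG a ∈ Cfsg.isometryGroup F (Cfsg.quadFormPlus 1 F) := by
  rw [mem_iso_iff]
  intro u
  show (sM (a : F) ((a⁻¹ : Fˣ) : F) *ᵥ u) (Sum.inl 0) * (sM (a : F) ((a⁻¹ : Fˣ) : F) *ᵥ u) (Sum.inr 0) = _
  rw [mulVec_inl, mulVec_inr, sM_apply_inl_inl, sM_apply_inl_inr, sM_apply_inr_inl,
    sM_apply_inr_inr]
  have : (a : F) * ((a⁻¹ : Fˣ) : F) = 1 := by simp
  linear_combination (u (Sum.inl 0) * u (Sum.inr 0)) * this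

lemma mem_cases (g : GL (Fin 1 ⊕ Fin 1) F)
    (hg : g ∈ Cfsg.isometryGroup F (Cfsg.quadFormPlus 1 F)) :
    (∃ a : Fˣ, g = dG a) ∨ (∃ a : Fˣ, g = sG a) := by
  rw [mem_iso_iff] at hg
  set M : Matrix (Fin 1 ⊕ Fin 1) (Fin 1 ⊕ Fin 1) F := g.val with hM
  have h1 := hg (Sum.elim (fun _ => 1) (fun _ => 0))
  have h2 := hg (Sum.elim (fun _ => 0) (fun _ => 1))
  have h3 := hg (Sum.elim (fun _ => 1) (fun _ => 1))
  rw [mulVec_inl, mulVec_inr] at h1 h2 h3
  simp only [Sum.elim_inl, Sum.elim_inr, mul_one, mul_zero, add_zero, zero_add] at h1 h2 h3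
  set a := M (Sum.inl 0) (Sum.inl 0)
  set b := M (Sum.inl 0) (Sum.inr 0)
  set c := M (Sum.inr 0) (Sum.inl 0)
  set d := M (Sum.inr 0) (Sum.inr 0)
  have h4 : a * d + b * c = 1 := by linear_combination h3 - h1 - h2
  by_cases ha : a = 0
  · right
    have hbc : b * c = 1 := by rw [ha] at h4; linear_combination h4
    have hb : b ≠ 0 := left_ne_zero_of_mul_eq_one hbc
    have hd : d = 0 := by
      rcases mul_eq_zero.1 h2 with h | h
      · exact absurd h hb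
      · exact h
    refine ⟨Units.mk0 b hb, ?_⟩
    apply Units.ext
    show M = sM ((Units.mk0 b hb : Fˣ) : F) (((Units.mk0 b hb)⁻¹ : Fˣ) : F)
    apply ext4
    · rw [sM_apply_inl_inl]; exact ha
    · rw [sM_apply_inl_inr]; rfl
    · rw [sM_apply_inr_inl]
      show c = _
      simp only [Units.val_inv_eq_inv_val, Units.val_mk0]
      exact eq_inv_of_mul_eq_one_right hbc
    · rw [sM_apply_inr_inr]; exact hd
  · left
    have hc : c = 0 := by
      rcases mul_eq_zero.1 h1 with h | h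
      · exact absurd h ha
      · exact h
    have had : a * d = 1 := by rw [hc] at h4; linear_combination h4
    have hd : d ≠ 0 := right_ne_zero_of_mul_eq_one had
    have hb : b = 0 := by
      rcases mul_eq_zero.1 h2 with h | h
      · exact h
      · exact absurd h hd
    refine ⟨Units.mk0 a ha, ?_⟩
    apply Units.ext
    show M = dM ((Units.mk0 a ha : Fˣ) : F) (((Units.mk0 a ha)⁻¹ : Fˣ) : F)
    apply ext4
    · rw [dM_apply_inl_inl]; rfl
    · rw [dM_apply_inl_inr]; exact hb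
    · rw [dM_apply_inr_inl]; exact hc
    · rw [dM_apply_inr_inr]
      show d = _
      simp only [Units.val_inv_eq_inv_val, Units.val_mk0]
      exact eq_inv_of_mul_eq_one_right had

lemma dG_injective : Function.Injective (dG : Fˣ → GL (Fin 1 ⊕ Fin 1) F) := by
  intro a b hab
  have := congrArg (fun g : GL (Fin 1 ⊕ Fin 1) F => g.val (Sum.inl 0) (Sum.inl 0)) hab
  simp only [dG, dM_apply_inl_inl] at this
  exact Units.ext this

lemma sG_injective : Function.Injective (sG : Fˣ → GL (Fin 1 ⊕ Fin 1) F) := by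
  intro a b hab
  have := congrArg (fun g : GL (Fin 1 ⊕ Fin 1) F => g.val (Sum.inl 0) (Sum.inr 0)) hab
  simp only [sG, sM_apply_inl_inr] at this
  exact Units.ext this

lemma dG_ne_sG (a b : Fˣ) : dG a ≠ sG b := by
  intro hab
  have := congrArg (fun g : GL (Fin 1 ⊕ Fin 1) F => g.val (Sum.inl 0) (Sum.inl 0)) hab
  simp only [dG, sG, dM_apply_inl_inl, sM_apply_inl_inl] at this
  exact a.ne_zero this

/-- The general statement: given an isomorphism of `Multiplicative (ZMod n)` with `Fˣ`. -/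
theorem main (n : ℕ) (E : Multiplicative (ZMod n) ≃* Fˣ) :
    Nonempty (Cfsg.isometryGroup F (Cfsg.quadFormPlus 1 F) ≃* DihedralGroup n) := by
  let e : ZMod n → Fˣ := fun i => E (Multiplicative.ofAdd i)
  have he_add : ∀ i j, e (i + j) = e i * e j := fun i j => by
    show E (Multiplicative.ofAdd (i + j)) = _
    rw [ofAdd_add, map_mul]
  have he_sub : ∀ i j, e (i - j) = e i * (e j)⁻¹ := fun i j => by
    show E (Multiplicative.ofAdd (i - j)) = _
    rw [ofAdd_sub, map_div, div_eq_mul_inv]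
  have he_inj : Function.Injective e := fun i j hij => by
    have := E.injective hij
    exact Multiplicative.ofAdd.injective this
  have he_surj : Function.Surjective e := fun a => by
    obtain ⟨x, hx⟩ := E.surjective a
    exact ⟨Multiplicative.toAdd x, hx⟩
  let f : DihedralGroup n → Cfsg.isometryGroup F (Cfsg.quadFormPlus 1 F) := fun x =>
    match x with
    | DihedralGroup.r i => ⟨dG (e i), dG_mem _⟩
    | DihedralGroup.sr i => ⟨sG (e i)⁻¹, sG_mem _⟩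
  have hf_mul : ∀ x y, f (x * y) = f x * f y := by
    intro x y
    rcases x with i | i <;> rcases y with j | j
    · show (⟨dG (e (i + j)), dG_mem _⟩ : Cfsg.isometryGroup F (Cfsg.quadFormPlus 1 F)) = _
      apply Subtype.ext
      show dG (e (i + j)) = dG (e i) * dG (e j)
      rw [dG_mul_dG, he_add]
    · show (⟨sG (e (j - i))⁻¹, sG_mem _⟩ : Cfsg.isometryGroup F (Cfsg.quadFormPlus 1 F)) = _
      apply Subtype.ext
      show sG (e (j - i))⁻¹ = dG (e i) * sG (e j)⁻¹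
      rw [dG_mul_sG, he_sub]
      congr 1 <;> simp [mul_comm]
    · show (⟨sG (e (i + j))⁻¹, sG_mem _⟩ : Cfsg.isometryGroup F (Cfsg.quadFormPlus 1 F)) = _
      apply Subtype.ext
      show sG (e (i + j))⁻¹ = sG (e i)⁻¹ * dG (e j)
      rw [sG_mul_dG, he_add]
      congr 1 <;> simp [mul_comm]
    · show (⟨dG (e (j - i)), dG_mem _⟩ : Cfsg.isometryGroup F (Cfsg.quadFormPlus 1 F)) = _
      apply Subtype.ext
      show dG (e (j - i)) = sG (e i)⁻¹ * sG (e j)⁻¹
      rw [sG_mul_sG, he_sub]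
      congr 1 <;> simp [mul_comm]
  have hf_inj : Function.Injective f := by
    intro x y hxy
    have hxy' := congrArg Subtype.val hxy
    rcases x with i | i <;> rcases y with j | j
    · have : dG (e i) = dG (e j) := hxy'
      rw [he_inj (dG_injective this)]
    · have : dG (e i) = sG (e j)⁻¹ := hxy'
      exact absurd this (dG_ne_sG _ _)
    · have : sG (e i)⁻¹ = dG (e j) := hxy'
      exact absurd this.symm (dG_ne_sG _ _)
    · have : sG (e i)⁻¹ = sG (e j)⁻¹ := hxy'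
      rw [he_inj (inv_injective (sG_injective this))]
  have hf_surj : Function.Surjective f := by
    rintro ⟨g, hg⟩
    rcases mem_cases g hg with ⟨a, rfl⟩ | ⟨a, rfl⟩
    · obtain ⟨i, hi⟩ := he_surj a
      refine ⟨DihedralGroup.r i, ?_⟩
      apply Subtype.ext
      show dG (e i) = dG a
      rw [hi]
    · obtain ⟨i, hi⟩ := he_surj a⁻¹
      refine ⟨DihedralGroup.sr i, ?_⟩
      apply Subtype.ext
      show sG (e i)⁻¹ = sG a
      rw [hi, inv_inv]
  exact ⟨(MulEquiv.ofBijective (MonoidHom.mk' f hf_mul) ⟨hf_inj, hf_surj⟩).symm⟩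

end aux

/-- GO^+_2(q) is dihedral of order 2(q-1). -/
theorem result {F : Type*} [Field F] [Fintype F] {q : ℕ} (hF : Fintype.card F = q) : Nonempty (Cfsg.isometryGroup F (Cfsg.quadFormPlus 1 F) ≃* DihedralGroup (q - 1)) := by
  have hn : Nat.card Fˣ = q - 1 := by
    rw [Nat.card_units, Nat.card_eq_fintype_card, hF]
  rw [← hn]
  exact main (Nat.card Fˣ) (zmodCyclicMulEquiv (inferInstance : IsCyclic Fˣ))

end Cfsg.Agent.S0305
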