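import Cfsg.Statements.S0306
import Cfsg.Agent.S0288
import Cfsg.Agent.Lib.helper50.IsoReindex
import Cfsg.Agent.Lib.helper59.TwoGroups

set_option autoImplicit false
open Cfsg

namespace Cfsg.Agent.S0306

open Matrix Cfsg.Agent.Lib.helper50

section
variable {F : Type*} [Field F]

/-- the binary form on `Fin 2` -/
def Q2 (a b : F) (v : Fin 2 → F) : F := v 0 ^ 2 + a * v 0 * v 1 + b * v 1 ^ 2

/-- the matrix of multiplication by `s - α t` -/
def rotMat (a b s t : F) : Matrix (Fin 2) (Fin 2) F := !![s, -(b * t); t, s + a * t]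

theorem rotMat_mul (a b s t s' t' : F) :
    rotMat a b s t * rotMat a b s' t'
      = rotMat a b (s * s' - b * t * t') (s * t' + t * s' + a * t * t') := by
  ext i j
  fin_cases i <;> fin_cases j <;> simp [rotMat, Matrix.mul_apply, Fin.sum_univ_two] <;> ring

theorem rotMat_one (a b : F) : rotMat a b 1 0 = 1 := by
  ext i j
  fin_cases i <;> fin_cases j <;> simp [rotMat]

theorem Q2_rotMat (a b s t : F) (v : Fin 2 → F) :
    Q2 a b (rotMat a b s t *ᵥ v) = (s ^ 2 + a * s * t + b * t ^ 2) * Q2 a b v := by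
  simp [Q2, rotMat, Matrix.mulVec, dotProduct, Fin.sum_univ_two]
  ring

/-- the rotation as an invertible matrix -/
def rotGL (a b s t : F) (h : s ^ 2 + a * s * t + b * t ^ 2 = 1) : GL (Fin 2) F :=
  ⟨rotMat a b s t, rotMat a b (s + a * t) (-t), by
    rw [rotMat_mul, ← rotMat_one a b]
    congr 1
    · linear_combination h
    · ring, by
    rw [rotMat_mul, ← rotMat_one a b]
    congr 1
    · linear_combination h
    · ring⟩

/-- the group of rotations -/
def Rot (a b : F) : Subgroup (GL (Fin 2) F) where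
  carrier := {g | ∃ s t, s ^ 2 + a * s * t + b * t ^ 2 = 1 ∧
    (g : Matrix (Fin 2) (Fin 2) F) = rotMat a b s t}
  mul_mem' := by
    rintro g g' ⟨s, t, h, hg⟩ ⟨s', t', h', hg'⟩
    refine ⟨s * s' - b * t * t', s * t' + t * s' + a * t * t', ?_, ?_⟩
    · linear_combination (s' ^ 2 + a * s' * t' + b * t' ^ 2) * h + h'
    · rw [Units.val_mul, hg, hg', rotMat_mul]
  one_mem' := ⟨1, 0, by ring, by rw [Units.val_one, rotMat_one]⟩
  inv_mem' := by
    rintro g ⟨s, t, h, hg⟩
    refine ⟨s + a * t, -t, by linear_combination h, ?_⟩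
    have : g = rotGL a b s t h := Units.ext hg
    rw [this]
    rfl

theorem rotGL_mem (a b s t : F) (h : s ^ 2 + a * s * t + b * t ^ 2 = 1) :
    rotGL a b s t h ∈ Rot a b := ⟨s, t, h, rfl⟩

theorem Rot_le (a b : F) : Rot a b ≤ Cfsg.isometryGroup F (Q2 a b) := by
  rintro g ⟨s, t, h, hg⟩
  rw [mem_isometryGroup_iff]
  intro u
  rw [hg, Q2_rotMat, h, one_mul]

/-- the embedding of the rotations into the quadratic extension -/
def rotHom {K : Type*} [Field K] (a b : F) (i : F →+* K) (α : K)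
    (hα : α * α + i a * α + i b = 0) : Rot a b →* K where
  toFun g := i (((g : GL (Fin 2) F) : Matrix (Fin 2) (Fin 2) F) 0 0)
    - α * i (((g : GL (Fin 2) F) : Matrix (Fin 2) (Fin 2) F) 1 0)
  map_one' := by simp
  map_mul' := by
    rintro ⟨g, s, t, h, hg⟩ ⟨g', s', t', h', hg'⟩
    simp only [Subgroup.coe_mul, Units.val_mul, hg, hg', rotMat_mul]
    simp only [rotMat, Matrix.of_apply, Matrix.cons_val', Matrix.cons_val_zero,
      Matrix.cons_val_one, Matrix.cons_val_fin_one, map_sub, map_add, map_mul]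
    linear_combination (-(i t * i t')) * hα

theorem lin_indep {K : Type*} [Field K] (a b : F)
    (hab : ∀ z₁ z₂ : F, z₁ ^ 2 + a * z₁ * z₂ + b * z₂ ^ 2 = 0 → z₁ = 0 ∧ z₂ = 0)
    (i : F →+* K) (α : K) (hα : α * α + i a * α + i b = 0) (s t : F) (h : i s = α * i t) :
    s = 0 ∧ t = 0 := by
  apply hab
  apply i.injective
  simp only [map_add, map_mul, map_pow, map_zero]
  rw [h]
  linear_combination (i t) ^ 2 * hα

theorem coord_inj {K : Type*} [Field K] (a b : F)
    (hab : ∀ z₁ z₂ : F, z₁ ^ 2 + a * z₁ * z₂ + b * z₂ ^ 2 = 0 → z₁ = 0 ∧ z₂ = 0)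
    (i : F →+* K) (α : K) (hα : α * α + i a * α + i b = 0) (s t s' t' : F)
    (h : i s - α * i t = i s' - α * i t') : s = s' ∧ t = t' := by
  have := lin_indep a b hab i α hα (s - s') (t - t') (by
    simp only [map_sub]
    linear_combination h)
  exact ⟨sub_eq_zero.1 this.1, sub_eq_zero.1 this.2⟩

theorem rotHom_injective {K : Type*} [Field K] (a b : F)
    (hab : ∀ z₁ z₂ : F, z₁ ^ 2 + a * z₁ * z₂ + b * z₂ ^ 2 = 0 → z₁ = 0 ∧ z₂ = 0)
    (i : F →+* K) (α : K) (hα : α * α + i a * α + i b = 0) :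
    Function.Injective (rotHom a b i α hα) := by
  rintro ⟨g, s, t, h, hg⟩ ⟨g', s', t', h', hg'⟩ heq
  apply Subtype.ext
  apply Units.ext
  simp only [rotHom, MonoidHom.coe_mk, OneHom.coe_mk, hg, hg'] at heq
  simp only [rotMat, Matrix.of_apply, Matrix.cons_val', Matrix.cons_val_zero,
      Matrix.cons_val_one, Matrix.cons_val_fin_one] at heq
  obtain ⟨rfl, rfl⟩ := coord_inj a b hab i α hα s t s' t' heq
  simp only
  rw [hg, hg']

end


section
variable {F : Type*} [Field F]

/-- the reflection matrix -/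
def reflMat (a : F) : Matrix (Fin 2) (Fin 2) F := !![1, a; 0, -1]

theorem reflMat_mul_self (a : F) : reflMat a * reflMat a = 1 := by
  ext i j
  fin_cases i <;> fin_cases j <;> simp [reflMat, Matrix.mul_apply, Fin.sum_univ_two]

theorem reflMat_conj (a b s t : F) :
    reflMat a * rotMat a b s t * reflMat a = rotMat a b (s + a * t) (-t) := by
  ext i j
  fin_cases i <;> fin_cases j <;>
    simp [reflMat, rotMat, Matrix.mul_apply, Fin.sum_univ_two] <;> ring

theorem Q2_reflMat (a b : F) (v : Fin 2 → F) : Q2 a b (reflMat a *ᵥ v) = Q2 a b v := by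
  simp [Q2, reflMat, Matrix.mulVec, dotProduct, Fin.sum_univ_two]
  ring

/-- the reflection as an invertible matrix -/
def reflGL (a : F) : GL (Fin 2) F :=
  ⟨reflMat a, reflMat a, reflMat_mul_self a, reflMat_mul_self a⟩

theorem reflGL_mem (a b : F) : reflGL a ∈ Cfsg.isometryGroup F (Q2 a b) := by
  rw [mem_isometryGroup_iff]
  intro u
  exact Q2_reflMat a b u

end

section
variable {F : Type*} [Field F] [Fintype F]

theorem card_Rot (a b : F)
    (hab : ∀ z₁ z₂ : F, z₁ ^ 2 + a * z₁ * z₂ + b * z₂ ^ 2 = 0 → z₁ = 0 ∧ z₂ = 0) :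
    Nat.card (Rot a b) = Fintype.card F + 1 ∧ IsCyclic (Rot a b) := by
  classical
  obtain ⟨K, _, _, hK, ⟨i⟩⟩ := exists_quadExt F
  obtain ⟨σ, hσ⟩ := exists_frob (F := F) hK
  obtain ⟨α, β, hαβ, hsum, hprod⟩ := exists_roots_of_anisotropic hK i a b hab
  have hαq : α ^ Fintype.card F = β := conj_root hK i a b hab α β hsum hprod
  have hα : α * α + i a * α + i b = 0 := by linear_combination α * hsum - hprod
  have hnorm : ∀ s t : F, (i s - α * i t) * (i s - α * i t) ^ Fintype.card F
      = i (s ^ 2 + a * s * t + b * t ^ 2) := by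
    intro s t
    have h1 : (i s - α * i t) ^ Fintype.card F = i s - β * i t := by
      rw [← hσ, map_sub, map_mul, hσ, hσ, hσ, frob_fixed, frob_fixed, hαq]
    rw [h1]
    simp only [map_add, map_mul, map_pow]
    linear_combination (-(i s * i t)) * hsum + (i t) ^ 2 * hprod
  have hinj := rotHom_injective a b hab i α hα
  have hcyc : IsCyclic (Rot a b) := isCyclic_of_subgroup_isDomain (rotHom a b i α hα) hinj
  refine ⟨?_, hcyc⟩
  have hbij : Function.Bijective (fun p : F × F => i p.1 - α * i p.2) := by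
    rw [Fintype.bijective_iff_injective_and_card]
    refine ⟨?_, by rw [Fintype.card_prod, hK, sq]⟩
    rintro ⟨s, t⟩ ⟨s', t'⟩ h
    obtain ⟨rfl, rfl⟩ := coord_inj a b hab i α hα s t s' t' h
    rfl
  let f : Rot a b → {u : K // u * u ^ Fintype.card F = 1} := fun g => ⟨rotHom a b i α hα g, by
    obtain ⟨g, s, t, h, hg⟩ := g
    simp only [rotHom, MonoidHom.coe_mk, OneHom.coe_mk, hg]
    simp only [rotMat, Matrix.of_apply, Matrix.cons_val', Matrix.cons_val_zero,
      Matrix.cons_val_one, Matrix.cons_val_fin_one]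
    rw [hnorm, h, map_one]⟩
  have hf : Function.Bijective f := by
    constructor
    · intro g g' h
      exact hinj (congrArg Subtype.val h)
    · rintro ⟨u, hu⟩
      obtain ⟨⟨s, t⟩, hst⟩ := hbij.2 u
      simp only at hst
      have h1 : s ^ 2 + a * s * t + b * t ^ 2 = 1 := by
        apply i.injective
        rw [← hnorm, hst, hu, map_one]
      refine ⟨⟨rotGL a b s t h1, rotGL_mem a b s t h1⟩, ?_⟩
      apply Subtype.ext
      simp only [f, rotHom, MonoidHom.coe_mk, OneHom.coe_mk, rotGL, rotMat, Matrix.of_apply,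
        Matrix.cons_val', Matrix.cons_val_zero, Matrix.cons_val_one, Matrix.cons_val_fin_one]
      exact hst
  rw [Nat.card_congr (Equiv.ofBijective f hf), Nat.card_eq_fintype_card, Fintype.card_subtype]
  exact Cfsg.Agent.Lib.helper7.card_norm_fiber hK 1 one_ne_zero (one_pow _)

theorem main (a b : F)
    (hab : ∀ z₁ z₂ : F, z₁ ^ 2 + a * z₁ * z₂ + b * z₂ ^ 2 = 0 → z₁ = 0 ∧ z₂ = 0)
    (hcard : Nat.card (Cfsg.isometryGroup F (Q2 a b)) = 2 * (Fintype.card F + 1)) :
    Nonempty (Cfsg.isometryGroup F (Q2 a b) ≃* DihedralGroup (Fintype.card F + 1)) := by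
  classical
  obtain ⟨hcR, hcyc⟩ := card_Rot a b hab
  obtain ⟨r, hr⟩ := hcyc.exists_generator
  have hord : orderOf r = Fintype.card F + 1 := by
    rw [orderOf_eq_card_of_forall_mem_zpowers hr, hcR]
  obtain ⟨r0, hr0mem⟩ := r
  have hr0mem' := hr0mem
  obtain ⟨s, t, hst, hr0⟩ := hr0mem'
  rw [Subgroup.orderOf_mk] at hord
  let c : Cfsg.isometryGroup F (Q2 a b) := ⟨r0, Rot_le a b hr0mem⟩
  let x : Cfsg.isometryGroup F (Q2 a b) := ⟨reflGL a, reflGL_mem a b⟩
  have hc : orderOf c = Fintype.card F + 1 := by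
    rw [Subgroup.orderOf_mk, hord]
  have hxx : x * x = 1 := by
    apply Subtype.ext
    apply Units.ext
    exact reflMat_mul_self a
  have hx2 : x ^ 2 = 1 := by rw [sq, hxx]
  have hxinv : x⁻¹ = x := inv_eq_of_mul_eq_one_left hxx
  have hrel : x * c * x⁻¹ = c⁻¹ := by
    rw [hxinv]
    apply eq_inv_of_mul_eq_one_left
    apply Subtype.ext
    apply Units.ext
    change reflMat a * (r0 : Matrix (Fin 2) (Fin 2) F) * reflMat a
      * (r0 : Matrix (Fin 2) (Fin 2) F) = 1
    rw [hr0, reflMat_conj, rotMat_mul, ← rotMat_one a b]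
    congr 1
    · linear_combination hst
    · ring
  have hx : x ∉ Subgroup.zpowers c := by
    intro hmem
    obtain ⟨k, hk⟩ := Subgroup.mem_zpowers_iff.1 hmem
    have h1 : (reflGL a : GL (Fin 2) F) = r0 ^ k := by
      have := congrArg (fun g : Cfsg.isometryGroup F (Q2 a b) => (g : GL (Fin 2) F)) hk
      simpa [c, x] using this.symm
    have h2 : (reflGL a : GL (Fin 2) F) ∈ Rot a b := by
      rw [h1]
      exact Subgroup.zpow_mem _ hr0mem k
    obtain ⟨s', t', h', heq⟩ := h2
    have h00 := congrFun (congrFun heq 0) 0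
    have h01 := congrFun (congrFun heq 0) 1
    have h10 := congrFun (congrFun heq 1) 0
    have h11 := congrFun (congrFun heq 1) 1
    simp [reflGL, reflMat, rotMat] at h00 h01 h10 h11
    have hdisc := Cfsg.Agent.S0288.disc_ne_zero a b hab
    apply hdisc
    subst h10
    subst h00
    have ha0 : a = 0 := by rw [h01]; ring
    have h2' : (1 : F) + 1 = 0 := by linear_combination -h11
    rw [ha0]
    linear_combination (b + b) * h2'
  exact Cfsg.Agent.Lib.helper59.dihedral_equiv_of_rel (Fintype.card F + 1) c x hc hcard hx hx2 hrel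

end

/-- GO^-_2(q) is dihedral of order 2(q+1). -/
theorem result {F : Type*} [Field F] [Fintype F] {q : ℕ} (hF : Fintype.card F = q) (a b : F) (hab : ∀ z₁ z₂ : F, z₁ ^ 2 + a * z₁ * z₂ + b * z₂ ^ 2 = 0 → z₁ = 0 ∧ z₂ = 0) : Nonempty (Cfsg.isometryGroup F (Cfsg.quadFormMinus 0 F a b) ≃* DihedralGroup (q + 1)) := by
  classical
  subst hF
  let e : (Fin 0 ⊕ Fin 0) ⊕ Fin 2 ≃ Fin 2 := Equiv.emptySum _ _
  have hQ : (fun v : Fin 2 → F => Cfsg.quadFormMinus 0 F a b (v ∘ e)) = Q2 a b := by
    funext v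
    simp [Cfsg.quadFormMinus, Q2, e]
  have e1 : Cfsg.isometryGroup F (Cfsg.quadFormMinus 0 F a b) ≃* Cfsg.isometryGroup F (Q2 a b) :=
    (isometryGroupReindex e _).trans (MulEquiv.subgroupCongr (by rw [hQ]))
  have hcard : Nat.card (Cfsg.isometryGroup F (Q2 a b)) = 2 * (Fintype.card F + 1) := by
    rw [← Nat.card_congr e1.toEquiv]
    have := Cfsg.Agent.S0288.result (F := F) rfl 1 le_rfl a b hab
    simpa using this
  obtain ⟨e2⟩ := main a b hab hcard
  exact ⟨e1.trans e2⟩

end Cfsg.Agent.S0306
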