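import Cfsg.Statements.S0307
import Mathlib

set_option autoImplicit false
open Cfsg

namespace Cfsg.Agent.S0307

theorem cyclic_equiv_zmod {Q : Type*} [Group Q] [hQ : IsCyclic Q] {d : ℕ} (h : Nat.card Q = d) :
    Nonempty (Q ≃* Multiplicative (ZMod d)) := by
  subst h
  exact ⟨(zmodCyclicMulEquiv hQ).symm⟩

/-- PSL_n(q) is normal in PGL_n(q) with cyclic quotient of order gcd(n, q-1): the image of the natural map PSL_n → PGL_n is the kernel of a surjective homomorphism onto the cyclic group of that order. -/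
theorem result {F : Type*} [Field F] [Fintype F] {q : ℕ} (hF : Fintype.card F = q) (n : ℕ) (hn : 1 ≤ n) : ∃ g : Matrix.ProjGenLinGroup (Fin n) F →* Multiplicative (ZMod (Nat.gcd n (q - 1))), Function.Surjective g ∧ g.ker = (Matrix.ProjectiveSpecialLinearGroup.toPGL : Matrix.ProjectiveSpecialLinearGroup (Fin n) F →* Matrix.ProjGenLinGroup (Fin n) F).range := by
  classical
  have : NeZero n := ⟨by omega⟩
  let K : Subgroup Fˣ := (powMonoidHom n : Fˣ →* Fˣ).range
  have hidx : K.index = Nat.gcd n (q - 1) := by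
    rw [IsCyclic.index_powMonoidHom_range, Nat.card_eq_fintype_card, Fintype.card_units, hF,
      Nat.gcd_comm]
  have : IsCyclic (Fˣ ⧸ K) :=
    isCyclic_of_surjective (QuotientGroup.mk' K) (QuotientGroup.mk'_surjective K)
  have hcard : Nat.card (Fˣ ⧸ K) = Nat.gcd n (q - 1) := by rw [← hidx]; rfl
  obtain ⟨e⟩ := cyclic_equiv_zmod hcard
  let f : GL (Fin n) F →* Multiplicative (ZMod (Nat.gcd n (q - 1))) :=
    e.toMonoidHom.comp ((QuotientGroup.mk' K).comp Matrix.GeneralLinearGroup.det)
  have hfapp : ∀ A : GL (Fin n) F, f A = e (QuotientGroup.mk' K (Matrix.GeneralLinearGroup.det A)) :=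
    fun A => rfl
  have hf1 : ∀ A : GL (Fin n) F, f A = 1 ↔ Matrix.GeneralLinearGroup.det A ∈ K := by
    intro A
    rw [hfapp, MulEquiv.map_eq_one_iff, QuotientGroup.mk'_apply, QuotientGroup.eq_one_iff]
  have hf : f.comp (Matrix.GeneralLinearGroup.scalar (Fin n)) = 1 := by
    ext u
    have : f (Matrix.GeneralLinearGroup.scalar (Fin n) u) = 1 := by
      rw [hf1, Matrix.GeneralLinearGroup.det_scalar, Fintype.card_fin]
      exact ⟨u, rfl⟩
    simpa using congrArg (fun z => (Multiplicative.toAdd z)) this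
  refine ⟨Matrix.ProjGenLinGroup.lift f hf, ?_, ?_⟩
  · intro z
    obtain ⟨w, rfl⟩ := e.surjective z
    obtain ⟨u, rfl⟩ := QuotientGroup.mk'_surjective K w
    obtain ⟨A, rfl⟩ := Matrix.GeneralLinearGroup.det_surjective (n := Fin n) u
    exact ⟨Matrix.ProjGenLinGroup.mk A, rfl⟩
  · ext x
    induction x using Matrix.ProjGenLinGroup.induction_on with
    | mk A =>
    rw [MonoidHom.mem_ker, Matrix.ProjGenLinGroup.lift_mk, MonoidHom.mem_range, hf1]
    constructor
    · rintro ⟨u, hu⟩
      have hu' : u ^ n = Matrix.GeneralLinearGroup.det A := hu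
      have hdet : Matrix.GeneralLinearGroup.det (A * Matrix.GeneralLinearGroup.scalar (Fin n) u⁻¹) = 1 := by
        rw [map_mul, Matrix.GeneralLinearGroup.det_scalar, Fintype.card_fin, ← hu', inv_pow,
          mul_inv_cancel]
      have hdet' : ((A * Matrix.GeneralLinearGroup.scalar (Fin n) u⁻¹ : GL (Fin n) F) :
          Matrix (Fin n) (Fin n) F).det = 1 := by
        have := congrArg Units.val hdet
        simpa using this
      let X : Matrix.SpecialLinearGroup (Fin n) F := ⟨_, hdet'⟩
      refine ⟨(QuotientGroup.mk X : Matrix.ProjectiveSpecialLinearGroup (Fin n) F), ?_⟩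
      show Matrix.ProjGenLinGroup.mk (Matrix.SpecialLinearGroup.toGL X) = _
      rw [Matrix.ProjGenLinGroup.mk_eq_mk_iff]
      refine ⟨u, ?_⟩
      have hXe : Matrix.SpecialLinearGroup.toGL X = A * Matrix.GeneralLinearGroup.scalar (Fin n) u⁻¹ :=
        Units.ext rfl
      rw [hXe, mul_assoc, ← map_mul, inv_mul_cancel, map_one, mul_one]
    · rintro ⟨X, hX⟩
      induction X using QuotientGroup.induction_on with
      | H X =>
      have hX' : Matrix.ProjGenLinGroup.mk (Matrix.SpecialLinearGroup.toGL X) = Matrix.ProjGenLinGroup.mk A := hX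
      rw [Matrix.ProjGenLinGroup.mk_eq_mk_iff] at hX'
      clear hX
      rename' hX' => hX
      obtain ⟨u, hu⟩ := hX
      rw [← hu, map_mul, Matrix.GeneralLinearGroup.det_scalar, Fintype.card_fin]
      have h1 : Matrix.GeneralLinearGroup.det (Matrix.SpecialLinearGroup.toGL X) = 1 := by
        apply Units.ext
        simp
      rw [h1, one_mul]
      exact ⟨u, rfl⟩

end Cfsg.Agent.S0307
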