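import Cfsg.Statements.S0317
import Cfsg.Agent.Lib.helper8.BNPairParabolic

set_option autoImplicit false
open Cfsg

namespace Cfsg.Agent.S0317

/-- The distinguished generators of the Weyl group of a (B,N)-pair are a minimal generating set: none of the
representatives lies in the subgroup generated by the remaining ones together with `B ⊓ N`. -/
theorem result {G : Type*} [Group G] (P : Cfsg.BNPair G) {s : G}
    (hs : s ∈ P.S) : s ∉ Subgroup.closure (P.S \ {s}) ⊔ (P.B ⊓ P.N) := by
  intro h
  have hJ : P.S \ {s} ⊆ P.S := Set.sdiff_subset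
  obtain ⟨L, hL, hR⟩ := Cfsg.Agent.Lib.helper8.exists_word_of_mem P hJ h
  have h1 : L.prod ∈ P.parabolic (P.S \ {s}) :=
    (le_sup_right : Subgroup.closure _ ≤ P.parabolic (P.S \ {s}))
      (Cfsg.Agent.Lib.helper8.word_prod_mem_closure hL)
  have h2 : s ∈ P.parabolic (P.S \ {s}) := by
    have e : s = L.prod * (L.prod⁻¹ * s) := by group
    have h2' := Subgroup.mul_mem _ h1 (Cfsg.Agent.Lib.helper8.B_le_parabolic P (P.S \ {s}) hR.2.2)
    rwa [← e] at h2'
  have h3 := Cfsg.Agent.Lib.helper8.mem_of_mem_parabolic P hJ hs h2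
  exact h3.2 rfl

end Cfsg.Agent.S0317
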