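import Cfsg.Statements.S0320
import Cfsg.Agent.Lib.helper8.BNPairExchange
import Cfsg.Agent.Lib.helper24.CoxExchange

set_option autoImplicit false
open Cfsg

namespace Cfsg.Agent.S0320

/-- The Weyl group `W = N / (B ⊓ N)` of a (B,N)-pair, with its distinguished involutions, is a Coxeter system. -/
theorem result {G : Type*} [Group G] (P : Cfsg.BNPair G)
    [hN : ((P.B ⊓ P.N).subgroupOf P.N).Normal] :
    ∃ (M : CoxeterMatrix P.S) (cs : CoxeterSystem M (P.N ⧸ (P.B ⊓ P.N).subgroupOf P.N)),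
      ∀ s : P.S, cs.simple s = QuotientGroup.mk (⟨(s : G), P.subset s.2⟩ : P.N) := by
  classical
  have hSN : ∀ s : P.S, (s : G) ∈ P.N := fun s => P.subset s.2
  -- equality in the quotient
  have hmk : ∀ (n n' : P.N), (QuotientGroup.mk n : P.N ⧸ (P.B ⊓ P.N).subgroupOf P.N)
      = QuotientGroup.mk n' ↔ Cfsg.Agent.Lib.helper8.R P (n : G) (n' : G) := by
    intro n n'
    rw [QuotientGroup.eq, Subgroup.mem_subgroupOf]
    constructor
    · intro h
      exact ⟨n.2, n'.2, by simpa using h.1⟩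
    · intro h
      exact ⟨by simpa using h.2.2, by simpa using P.N.mul_mem (P.N.inv_mem n.2) n'.2⟩
  obtain ⟨σ, hσdef⟩ : ∃ σ : P.S → P.N ⧸ (P.B ⊓ P.N).subgroupOf P.N,
      ∀ s : P.S, σ s = QuotientGroup.mk (⟨(s : G), P.subset s.2⟩ : P.N) := ⟨_, fun _ => rfl⟩
  have hσ : ∀ s, σ s * σ s = 1 := by
    intro s
    rw [hσdef, ← QuotientGroup.mk_mul, ← QuotientGroup.mk_one, hmk]
    exact Cfsg.Agent.Lib.helper8.R_sq P s.2
  -- value words
  have hvw : ∀ ω : List P.S, ∀ x ∈ ω.map (fun s : P.S => (s : G)), x ∈ P.S := by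
    intro ω x hx
    obtain ⟨s, _, rfl⟩ := List.mem_map.1 hx
    exact s.2
  have hmem : ∀ ω : List P.S, (ω.map (fun s : P.S => (s : G))).prod ∈ P.N := fun ω =>
    Cfsg.Agent.Lib.helper8.word_prod_mem_N P (le_refl _) (hvw ω)
  have hwp : ∀ ω : List P.S, Cfsg.Agent.Lib.helper24.Cox.wp σ ω
      = QuotientGroup.mk (⟨(ω.map (fun s : P.S => (s : G))).prod, hmem ω⟩ : P.N) := by
    intro ω
    induction ω with
    | nil =>
      rw [Cfsg.Agent.Lib.helper24.Cox.wp_nil, ← QuotientGroup.mk_one]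
      congr 1
    | cons a ω ih =>
      rw [Cfsg.Agent.Lib.helper24.Cox.wp_cons, ih, hσdef, ← QuotientGroup.mk_mul]
      congr 1
  -- the descent predicate
  obtain ⟨D, hDdef⟩ : ∃ D : P.S → (P.N ⧸ (P.B ⊓ P.N).subgroupOf P.N) → Prop,
      ∀ s w, D s w ↔ ∃ n : P.N, (QuotientGroup.mk n : P.N ⧸ (P.B ⊓ P.N).subgroupOf P.N) = w ∧
        ¬ Cfsg.Agent.Lib.helper8.Ps P (s : G) (n : G) := ⟨_, fun _ _ => Iff.rfl⟩
  have hex : ∀ s (ω : List P.S), D s (Cfsg.Agent.Lib.helper24.Cox.wp σ ω) →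
      ∃ u₂ b u₃, ω = u₂ ++ b :: u₃ ∧ Cfsg.Agent.Lib.helper24.Cox.wp σ (u₂ ++ u₃)
        = σ s * Cfsg.Agent.Lib.helper24.Cox.wp σ ω := by
    intro s ω hD
    rw [hDdef] at hD
    obtain ⟨n, hn, hnP⟩ := hD
    rw [hwp, hmk] at hn
    have hnot : ¬ Cfsg.Agent.Lib.helper8.Ps P (s : G) (ω.map (fun s : P.S => (s : G))).prod := by
      intro hp
      exact hnP (Cfsg.Agent.Lib.helper8.Ps_congr P s.2 (hn.symm P) hp)
    obtain ⟨i, hi, hR⟩ := Cfsg.Agent.Lib.helper8.exchange P s.2 _ (hvw ω) hnot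
    rw [List.length_map] at hi
    refine ⟨ω.take i, ω[i], ω.drop (i + 1), ?_, ?_⟩
    · rw [List.getElem_cons_drop, List.take_append_drop]
    · rw [hwp, hwp, hσdef, ← QuotientGroup.mk_mul, hmk]
      have e : ((ω.take i ++ ω.drop (i + 1)).map (fun s : P.S => (s : G)))
          = (ω.map (fun s : P.S => (s : G))).eraseIdx i := by
        rw [List.eraseIdx_eq_take_drop_succ, List.map_append, List.map_take, List.map_drop]
      simp only [e]
      exact hR
  have hD : ∀ s w, D s w ∨ D s (σ s * w) := by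
    intro s w
    obtain ⟨n, rfl⟩ := QuotientGroup.mk_surjective w
    by_cases hp : Cfsg.Agent.Lib.helper8.Ps P (s : G) (n : G)
    · right
      rw [hDdef]
      refine ⟨⟨(s : G), P.subset s.2⟩ * n, ?_, ?_⟩
      · rw [QuotientGroup.mk_mul, hσdef]
      · intro hp2
        exact Cfsg.Agent.Lib.helper8.not_Ps_both P s.2 n.2 hp hp2
    · left
      rw [hDdef]
      exact ⟨n, rfl, hp⟩
  -- the Coxeter matrix
  let M : CoxeterMatrix P.S :=
    { M := Matrix.of fun s s' => orderOf (σ s * σ s')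
      isSymm := by
        ext s s'
        simp only [Matrix.transpose_apply, Matrix.of_apply]
        have hinv : ∀ t, (σ t)⁻¹ = σ t := fun t => inv_eq_of_mul_eq_one_right (hσ t)
        have e : σ s' * σ s = (σ s * σ s')⁻¹ := by rw [mul_inv_rev, hinv, hinv]
        rw [e, orderOf_inv]
      diagonal := by
        intro s
        simp only [Matrix.of_apply]
        rw [hσ, orderOf_one]
      off_diagonal := by
        intro s s' hne h
        simp only [Matrix.of_apply] at h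
        rw [orderOf_eq_one_iff] at h
        apply hne
        have h2 : σ s = σ s' := by
          have h3 : (σ s)⁻¹ = σ s' := inv_eq_of_mul_eq_one_right h
          have h4 : (σ s)⁻¹ = σ s := inv_eq_of_mul_eq_one_right (hσ s)
          rw [← h4, h3]
        rw [hσdef, hσdef, hmk] at h2
        exact Subtype.ext (P.inj s s.2 s' s'.2 h2.2.2) }
  have hMdef : ∀ s s', M s s' = orderOf (σ s * σ s') := fun _ _ => rfl
  have hlift : CoxeterMatrix.IsLiftable M σ := by
    intro s s'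
    rw [hMdef]; exact pow_orderOf_eq_one _
  have hbr : ∀ s s' k, (σ s * σ s') ^ k = 1 →
      (M.toCoxeterSystem.simple s * M.toCoxeterSystem.simple s') ^ k = 1 := by
    intro s s' k hk
    obtain ⟨j, rfl⟩ := orderOf_dvd_of_pow_eq_one hk
    rw [← hMdef, pow_mul, M.toCoxeterSystem.simple_mul_simple_pow, one_pow]
  have hkey := Cfsg.Agent.Lib.helper24.Cox.word_problem σ M.toCoxeterSystem.simple hσ
    (fun s => M.toCoxeterSystem.simple_mul_simple_self s) D hex hD hbr
  have hφw : ∀ ω : List P.S, M.toCoxeterSystem.lift ⟨σ, hlift⟩ (M.toCoxeterSystem.wordProd ω)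
      = Cfsg.Agent.Lib.helper24.Cox.wp σ ω := by
    intro ω
    induction ω with
    | nil => simp
    | cons a ω ih =>
      rw [CoxeterSystem.wordProd_cons, map_mul, ih, CoxeterSystem.lift_apply_simple,
        Cfsg.Agent.Lib.helper24.Cox.wp_cons]
  have hinj : Function.Injective (M.toCoxeterSystem.lift ⟨σ, hlift⟩) := by
    rw [injective_iff_map_eq_one]
    intro x hx
    obtain ⟨ω, rfl⟩ := M.toCoxeterSystem.wordProd_surjective x
    rw [hφw] at hx
    exact hkey ω hx
  have hsurj : Function.Surjective (M.toCoxeterSystem.lift ⟨σ, hlift⟩) := by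
    intro w
    obtain ⟨n, rfl⟩ := QuotientGroup.mk_surjective w
    obtain ⟨L, hL, hR⟩ := Cfsg.Agent.Lib.helper8.exists_word P n.2
    refine ⟨M.toCoxeterSystem.wordProd (L.pmap (fun x hx => (⟨x, hx⟩ : P.S)) hL), ?_⟩
    rw [hφw, hwp, hmk]
    have e : ((L.pmap (fun x hx => (⟨x, hx⟩ : P.S)) hL).map (fun s : P.S => (s : G))) = L := by
      rw [List.map_pmap]
      simp
    simp only [e]
    exact hR
  have hbij : Function.Bijective (M.toCoxeterSystem.lift ⟨σ, hlift⟩) := ⟨hinj, hsurj⟩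
  refine ⟨M, ⟨(MulEquiv.ofBijective (M.toCoxeterSystem.lift ⟨σ, hlift⟩) hbij).symm⟩, ?_⟩
  intro s
  rw [← hσdef]
  exact M.toCoxeterSystem.lift_apply_simple hlift s

end Cfsg.Agent.S0320
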