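import Cfsg.Statements.S0322
import Cfsg.Agent.Lib.helper8.BNPairParabolic

set_option autoImplicit false
open Cfsg

namespace Cfsg.Agent.S0322

/-- A group with a (B,N)-pair of rank one acts doubly transitively on the left cosets of `B`. -/
theorem result {G : Type*} [Group G] (P : Cfsg.BNPair G) (h : P.rank = 1) : MulAction.IsMultiplyPretransitive G (G ⧸ P.B) 2 := by
  have hS : ∃ s, P.S = {s} := by
    have h1 : P.S.ncard = 1 := by
      rw [← Nat.card_coe_set_eq]; exact h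
    exact Set.ncard_eq_one.1 h1
  obtain ⟨s, hSs⟩ := hS
  have hs : s ∈ P.S := by rw [hSs]; rfl
  have hall : ∀ g : G, g ∈ P.B ∨ g ∈ Cfsg.Agent.Lib.helper8.dc P s := by
    intro g
    rw [← Cfsg.Agent.Lib.helper8.mem_parabolic_singleton P hs g, ← hSs,
      Cfsg.Agent.Lib.helper8.parabolic_S]
    trivial
  rw [MulAction.is_two_pretransitive_iff]
  intro a b c d hab hcd
  induction a using QuotientGroup.induction_on with
  | H x =>
  induction b using QuotientGroup.induction_on with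
  | H y =>
  induction c using QuotientGroup.induction_on with
  | H z =>
  induction d using QuotientGroup.induction_on with
  | H w =>
  have h1 : x⁻¹ * y ∉ P.B := fun hh => hab (QuotientGroup.eq.2 hh)
  have h2 : z⁻¹ * w ∉ P.B := fun hh => hcd (QuotientGroup.eq.2 hh)
  have h3 := (hall (x⁻¹ * y)).resolve_left h1
  have h4 := (hall (z⁻¹ * w)).resolve_left h2
  obtain ⟨b1, hb1, b2, hb2, e1⟩ := (Cfsg.Agent.Lib.helper8.mem_dc_iff P).1 h3
  obtain ⟨b3, hb3, b4, hb4, e2⟩ := (Cfsg.Agent.Lib.helper8.mem_dc_iff P).1 h4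
  refine ⟨z * b3 * b1⁻¹ * x⁻¹, ?_, ?_⟩
  · change ((z * b3 * b1⁻¹ * x⁻¹ * x : G) : G ⧸ P.B) = (z : G ⧸ P.B)
    rw [QuotientGroup.eq]
    have e : (z * b3 * b1⁻¹ * x⁻¹ * x)⁻¹ * z = b1 * b3⁻¹ := by group
    rw [e]
    exact P.B.mul_mem hb1 (P.B.inv_mem hb3)
  · change ((z * b3 * b1⁻¹ * x⁻¹ * y : G) : G ⧸ P.B) = (w : G ⧸ P.B)
    rw [QuotientGroup.eq]
    have e : (z * b3 * b1⁻¹ * x⁻¹ * y)⁻¹ * w = (x⁻¹ * y)⁻¹ * b1 * b3⁻¹ * (z⁻¹ * w) := by group
    rw [e, e1, e2]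
    have e' : (b1 * s * b2)⁻¹ * b1 * b3⁻¹ * (b3 * s * b4) = b2⁻¹ * b4 := by group
    rw [e']
    exact P.B.mul_mem (P.B.inv_mem hb2) hb4

end Cfsg.Agent.S0322
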