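import Cfsg.Statements.S0323
import Mathlib

set_option autoImplicit false
open scoped Pointwise
open Cfsg

namespace Cfsg.Agent.S0323

/-- A doubly transitive action on a set with at least three points yields a (B,N)-pair of rank one:
`B` is the stabiliser of a point `x`, `N` the setwise stabiliser of a pair `{x, y}`. -/
theorem result {G Ω : Type*} [Group G] [MulAction G Ω]
    (h2 : MulAction.IsMultiplyPretransitive G Ω 2) {x y z : Ω} (hxy : x ≠ y) (hyz : y ≠ z) (hxz : x ≠ z) :
    ∃ P : Cfsg.BNPair G, P.B = MulAction.stabilizer G x ∧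
      P.N = MulAction.stabilizer G ({x, y} : Set Ω) ∧ P.rank = 1 := by
  rw [MulAction.is_two_pretransitive_iff] at h2
  obtain ⟨s, hsx, hsy⟩ := h2 hxy hxy.symm
  obtain ⟨b0, hb0x, hb0y⟩ := h2 hxy hxz
  have hsix : s⁻¹ • y = x := by rw [← hsx]; simp
  have hsiy : s⁻¹ • x = y := by rw [← hsy]; simp
  -- elements of N
  have hN : ∀ n : G, n ∈ MulAction.stabilizer G ({x, y} : Set Ω) →
      (n • x = x ∧ n • y = y) ∨ (n • x = y ∧ n • y = x) := by
    intro n hn
    rw [MulAction.mem_stabilizer_iff] at hn
    have h1 : n • x ∈ ({x, y} : Set Ω) := by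
      rw [← hn]; exact Set.smul_mem_smul_set (by simp)
    have h2' : n • y ∈ ({x, y} : Set Ω) := by
      rw [← hn]; exact Set.smul_mem_smul_set (by simp)
    have hne : n • x ≠ n • y := fun h => hxy (by simpa using h)
    simp only [Set.mem_insert_iff, Set.mem_singleton_iff] at h1 h2'
    rcases h1 with h1 | h1 <;> rcases h2' with h2' | h2'
    · exact absurd (h1.trans h2'.symm) hne
    · exact Or.inl ⟨h1, h2'⟩
    · exact Or.inr ⟨h1, h2'⟩
    · exact absurd (h1.trans h2'.symm) hne
  have hsN : s ∈ MulAction.stabilizer G ({x, y} : Set Ω) := by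
    rw [MulAction.mem_stabilizer_iff, Set.smul_set_insert, Set.smul_set_singleton, hsx, hsy,
      Set.pair_comm]
  -- Bruhat decomposition
  have hall : ∀ g : G, g ∈ MulAction.stabilizer G x ∨
      ∃ b ∈ MulAction.stabilizer G x, ∃ b' ∈ MulAction.stabilizer G x, g = b * s * b' := by
    intro g
    by_cases hg : g • x = x
    · exact Or.inl hg
    · right
      obtain ⟨b, hbx, hby⟩ := h2 hxy (Ne.symm hg)
      refine ⟨b, hbx, (b * s)⁻¹ * g, ?_, by group⟩
      rw [MulAction.mem_stabilizer_iff, mul_smul, ← hby, mul_inv_rev, mul_smul, inv_smul_smul, hsix]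
  have hdc : ∀ g a : G, g ∈ DoubleCoset.doubleCoset a (MulAction.stabilizer G x : Set G)
      (MulAction.stabilizer G x) ↔ ∃ u ∈ MulAction.stabilizer G x, ∃ v ∈ MulAction.stabilizer G x,
        g = u * a * v := fun g a => DoubleCoset.mem_doubleCoset
  refine ⟨{ B := MulAction.stabilizer G x
            N := MulAction.stabilizer G ({x, y} : Set Ω)
            S := {s}
            sup_eq_top := ?_
            conj_mem := ?_
            subset := ?_
            sq_mem := ?_
            inj := ?_
            closure_sup := ?_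
            mul_mem_union := ?_
            conj_ne := ?_ }, rfl, rfl, ?_⟩
  · rw [eq_top_iff]
    intro g _
    rcases hall g with h | ⟨b, hb, b', hb', rfl⟩
    · exact Subgroup.mem_sup_left h
    · exact Subgroup.mul_mem _ (Subgroup.mul_mem _ (Subgroup.mem_sup_left hb)
        (Subgroup.mem_sup_right hsN)) (Subgroup.mem_sup_left hb')
  · rintro n hn t ⟨htB', htN'⟩
    have htB : t • x = x := htB'
    have htN : t ∈ MulAction.stabilizer G ({x, y} : Set Ω) := htN'
    have hty : t • y = y := by
      rcases hN t htN with h | h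
      · exact h.2
      · exact absurd (htB.symm.trans h.1) hxy
    rw [MulAction.mem_stabilizer_iff, mul_smul, mul_smul]
    rcases hN n⁻¹ (Subgroup.inv_mem _ hn) with h | h
    · rw [h.1, htB]
      have := congrArg (fun w => n • w) h.1
      simp only [smul_inv_smul] at this
      exact this.symm
    · rw [h.1, hty]
      have := congrArg (fun w => n • w) h.1
      simp only [smul_inv_smul] at this
      exact this.symm
  · intro s' hs'
    rw [Set.mem_singleton_iff] at hs'
    rw [hs']; exact hsN
  · intro s' hs'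
    rw [Set.mem_singleton_iff] at hs'
    rw [hs', MulAction.mem_stabilizer_iff, mul_smul, hsx, hsy]
  · intro s1 hs1 s2 hs2 _
    rw [Set.mem_singleton_iff] at hs1 hs2
    rw [hs1, hs2]
  · apply le_antisymm
    · apply sup_le _ inf_le_right
      rw [Subgroup.closure_le, Set.singleton_subset_iff]
      exact hsN
    · intro n hn
      rcases hN n hn with h | h
      · exact Subgroup.mem_sup_right ⟨h.1, hn⟩
      · have e : n = s * (s⁻¹ * n) := by group
        rw [e]
        refine Subgroup.mul_mem _ (Subgroup.mem_sup_left (Subgroup.subset_closure rfl))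
          (Subgroup.mem_sup_right ⟨?_, Subgroup.mul_mem _ (Subgroup.inv_mem _ hsN) hn⟩)
        show (s⁻¹ * n) • x = x
        rw [mul_smul, h.1, hsix]
  · intro s' hs' n hn b hb
    rw [Set.mem_singleton_iff] at hs'
    subst hs'
    rw [Set.mem_union, hdc, hdc]
    rcases hN n hn with h | h
    · -- n ∈ B
      have hnB : n ∈ MulAction.stabilizer G x := h.1
      rcases hall (s' * b * n) with hg | ⟨b1, hb1, b2, hb2, e⟩
      · right
        exact ⟨s' * b * n * n⁻¹, Subgroup.mul_mem _ hg (Subgroup.inv_mem _ hnB), 1,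
          Subgroup.one_mem _, by group⟩
      · left
        exact ⟨b1, hb1, n⁻¹ * b2, Subgroup.mul_mem _ (Subgroup.inv_mem _ hnB) hb2, by rw [e]; group⟩
    · -- s n ∈ B
      have hsnB : s' * n ∈ MulAction.stabilizer G x := by
        rw [MulAction.mem_stabilizer_iff, mul_smul, h.1, hsy]
      have hsinB : s'⁻¹ * n ∈ MulAction.stabilizer G x := by
        rw [MulAction.mem_stabilizer_iff, mul_smul, h.1, hsix]
      rcases hall (s' * b * n) with hg | ⟨b1, hb1, b2, hb2, e⟩
      · left
        exact ⟨s' * b * n * (s' * n)⁻¹, Subgroup.mul_mem _ hg (Subgroup.inv_mem _ hsnB), 1,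
          Subgroup.one_mem _, by group⟩
      · right
        exact ⟨b1, hb1, (s'⁻¹ * n)⁻¹ * b2, Subgroup.mul_mem _ (Subgroup.inv_mem _ hsinB) hb2,
          by rw [e]; group⟩
  · intro s' hs'
    rw [Set.mem_singleton_iff] at hs'
    subst hs'
    intro heq
    have hmem : s' * b0 * s' ∈ (fun b : G => s' * b * s') '' (MulAction.stabilizer G x : Set G) :=
      ⟨b0, hb0x, rfl⟩
    rw [heq] at hmem
    have h1 : (s' * b0 * s') • x = x := hmem
    rw [mul_smul, mul_smul, hsx, hb0y] at h1
    have h3 : z = y := by
      have := congrArg (fun w => s'⁻¹ • w) h1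
      simp only [inv_smul_smul] at this
      rw [this, hsiy]
    exact hyz h3.symm
  · unfold Cfsg.BNPair.rank
    simp

end Cfsg.Agent.S0323
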