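import Cfsg.Statements.S0328
import Cfsg.Agent.Lib.helper8.SzStab

set_option autoImplicit false
open Cfsg

namespace Cfsg.Agent.S0328

/-- The stabiliser in the Suzuki group of the two ovoid points spanned by `(1,0,0,0)` and `(0,0,0,1)` is
isomorphic to the multiplicative group of the field (cyclic of order `q - 1`). -/
theorem result {F : Type*} [Field F] [Fintype F] {m : ℕ} (hm : 1 ≤ m)
    (hF : Fintype.card F = 2 ^ (2 * m + 1)) :
    Nonempty (↥(MulAction.stabilizer (Cfsg.Sz F m) (Cfsg.suzukiPointInfinity F) ⊓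
        MulAction.stabilizer (Cfsg.Sz F m) (Cfsg.suzukiPointZero F)) ≃* Fˣ) := by
  classical
  have h := Cfsg.Agent.Lib.helper8.szHyp_of_card hF
  have hmem : ∀ z : Fˣ, (⟨Cfsg.Agent.Lib.helper8.sD m z, Cfsg.Agent.Lib.helper8.sD_mem h z⟩ : Cfsg.Sz F m) ∈
      MulAction.stabilizer (Cfsg.Sz F m) (Cfsg.suzukiPointInfinity F) ⊓
        MulAction.stabilizer (Cfsg.Sz F m) (Cfsg.suzukiPointZero F) := by
    intro z
    refine ⟨?_, ?_⟩
    · show Cfsg.Agent.Lib.helper8.sD m z • Cfsg.suzukiPointInfinity F = Cfsg.suzukiPointInfinity F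
      rw [← Cfsg.Agent.Lib.helper8.pinf_eq]; exact Cfsg.Agent.Lib.helper8.sD_pinf m z
    · show Cfsg.Agent.Lib.helper8.sD m z • Cfsg.suzukiPointZero F = Cfsg.suzukiPointZero F
      rw [← Cfsg.Agent.Lib.helper8.paff_zero_eq m]; exact Cfsg.Agent.Lib.helper8.sD_paff_zero h z
  let φ : Fˣ →* ↥(MulAction.stabilizer (Cfsg.Sz F m) (Cfsg.suzukiPointInfinity F) ⊓
        MulAction.stabilizer (Cfsg.Sz F m) (Cfsg.suzukiPointZero F)) :=
    { toFun := fun z => ⟨⟨Cfsg.Agent.Lib.helper8.sD m z, Cfsg.Agent.Lib.helper8.sD_mem h z⟩, hmem z⟩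
      map_one' := Subtype.ext (Subtype.ext (Cfsg.Agent.Lib.helper8.sD_one m))
      map_mul' := fun z w => Subtype.ext (Subtype.ext (Cfsg.Agent.Lib.helper8.sD_mul m z w)) }
  have hbij : Function.Bijective φ := by
    constructor
    · intro z w hzw
      have : Cfsg.Agent.Lib.helper8.sD m z = Cfsg.Agent.Lib.helper8.sD m w :=
        congrArg (fun x : ↥(MulAction.stabilizer (Cfsg.Sz F m) (Cfsg.suzukiPointInfinity F) ⊓
          MulAction.stabilizer (Cfsg.Sz F m) (Cfsg.suzukiPointZero F)) => (x.1.1)) hzw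
      exact Cfsg.Agent.Lib.helper8.sD_inj m this
    · rintro ⟨⟨g, hg⟩, hg1, hg2⟩
      have h1 : g • (Cfsg.Agent.Lib.helper8.pinf : Projectivization F (Fin 4 → F)) = Cfsg.Agent.Lib.helper8.pinf := hg1
      have h2 : g • Cfsg.Agent.Lib.helper8.paff m (0 : F) 0 = Cfsg.Agent.Lib.helper8.paff m 0 0 := by
        rw [Cfsg.Agent.Lib.helper8.paff_zero_eq m]; exact hg2
      obtain ⟨z, hz⟩ := Cfsg.Agent.Lib.helper8.two_point_stab hm hF hg h1 h2
      exact ⟨z, Subtype.ext (Subtype.ext hz.symm)⟩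
  exact ⟨(MulEquiv.ofBijective φ hbij).symm⟩

end Cfsg.Agent.S0328
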