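import Cfsg.Statements.S0332
import Cfsg.Agent.Lib.helper8.SzFpf

set_option autoImplicit false
open Cfsg

namespace Cfsg.Agent.S0332

/-- The Suzuki group is a CN-group: every non-identity element has nilpotent centraliser. -/
theorem result {F : Type*} [Field F] [Fintype F] {m : ℕ} (hm : 1 ≤ m)
    (hF : Fintype.card F = 2 ^ (2 * m + 1)) : Cfsg.IsCNGroup (Cfsg.Sz F m) := by
  classical
  have h := Cfsg.Agent.Lib.helper8.szHyp_of_card hF
  have : Fact (Nat.Prime 2) := ⟨Nat.prime_two⟩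
  intro g hg1
  have cyc_nil : IsCyclic ↥(Subgroup.centralizer ({g} : Set ↥(Cfsg.Sz F m))) →
      Group.IsNilpotent ↥(Subgroup.centralizer ({g} : Set ↥(Cfsg.Sz F m))) := by
    intro hc
    exact @CommGroup.isNilpotent _ IsCyclic.commGroup
  by_cases hfpf : Cfsg.Agent.Lib.helper8.IsFpf m g.1
  · exact cyc_nil (Cfsg.Agent.Lib.helper8.cent_cyclic_fpf hm hF g hfpf)
  · unfold Cfsg.Agent.Lib.helper8.IsFpf at hfpf
    push Not at hfpf
    obtain ⟨p, hp, hfix⟩ := hfpf
    rcases Cfsg.Agent.Lib.helper8.fix_classify hm hF g.2 (fun e => hg1 (Subtype.ext e)) hp hfix with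
      ⟨k, hk, a, b, hab, e⟩ | ⟨k, hk, z, hz, e⟩
    · have hpg : IsPGroup 2 ↥(Subgroup.centralizer ({g} : Set ↥(Cfsg.Sz F m))) := by
        intro c
        refine ⟨2, ?_⟩
        have hc : c.1 * g = g * c.1 := (Subgroup.mem_centralizer_iff.1 c.2 g rfl).symm
        have hc' : c.1.1 * g.1 = g.1 * c.1.1 := congrArg Subtype.val hc
        have hkc : k * c.1.1 * k⁻¹ ∈ Cfsg.Sz F m := mul_mem (mul_mem hk c.1.2) (inv_mem hk)
        obtain ⟨c', d', e2⟩ := Cfsg.Agent.Lib.helper8.cent_sT hm hF hab hkc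
          (by rw [← e]; exact (Cfsg.Agent.Lib.helper8.conj_comm hc' k).symm)
        have e1 : (k * c.1.1 * k⁻¹) ^ 4 = 1 := by
          rw [e2, Cfsg.Agent.Lib.helper8.sT_pow_four h]
        rw [conj_pow] at e1
        have e3 : c.1.1 ^ 4 = 1 := Cfsg.Agent.Lib.helper8.eq_one_of_conj_eq_one e1
        apply Subtype.ext
        apply Subtype.ext
        simpa using e3
      exact hpg.isNilpotent
    · exact cyc_nil (Cfsg.Agent.Lib.helper8.cent_cyclic_torus hm hF g hk hz e)

end Cfsg.Agent.S0332
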