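import Cfsg.Statements.S0339
import Mathlib
import Cfsg.Agent.Lib.helper75.Zassenhaus

set_option autoImplicit false
open Cfsg

namespace Cfsg.Agent.S0339

/-- A non-trivial normal subgroup of a Zassenhaus group is itself a Zassenhaus group on the same set. -/
theorem result {G Ω : Type*} [Group G] [MulAction G Ω] [Finite Ω]
    (hZ : Cfsg.IsZassenhausGroup G Ω) (N : Subgroup G) [N.Normal] (hN : N ≠ ⊥) :
    Cfsg.IsZassenhausGroup N Ω := by
  obtain ⟨hfaith, h2t, h3fix, ⟨g0, hg0, a0, b0, hab0, hga, hgb⟩, hreg⟩ := hZ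
  haveI := hfaith
  haveI : Finite G := Finite.of_injective _ (MulAction.toPerm_injective (α := G) (β := Ω))
  have h2 : ∀ {a b c d : Ω}, a ≠ b → c ≠ d → ∃ g : G, g • a = c ∧ g • b = d :=
    fun {a b c d} hab hcd => (MulAction.is_two_pretransitive_iff.mp h2t) hab hcd
  have hΩ : ∃ a b : Ω, a ≠ b := ⟨a0, b0, hab0⟩
  have hthird : ∃ c : Ω, c ≠ a0 ∧ c ≠ b0 := by
    by_contra hcon
    push_neg at hcon
    apply hg0
    apply FaithfulSMul.eq_of_smul_eq_smul (α := Ω)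
    intro c
    rw [one_smul]
    by_cases hc : c = a0
    · rw [hc, hga]
    · rw [hcon c hc, hgb]
  have hΩ3 : ∀ a b : Ω, ∃ c : Ω, c ≠ a ∧ c ≠ b := by
    intro a b
    by_cases hab : a = b
    · subst hab
      by_cases h : a = a0
      · exact ⟨b0, by rw [h]; exact Ne.symm hab0, by rw [h]; exact Ne.symm hab0⟩
      · exact ⟨a0, Ne.symm h, Ne.symm h⟩
    · obtain ⟨c, hca, hcb⟩ := hthird
      obtain ⟨g, hg1, hg2⟩ := h2 hab0 hab
      refine ⟨g • c, ?_, ?_⟩
      · rw [← hg1]; exact fun h => hca (smul_left_cancel _ h)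
      · rw [← hg2]; exact fun h => hcb (smul_left_cancel _ h)
  obtain ⟨m, hm, hm1, α, β, hαβ, hmα, hmβ⟩ := Cfsg.Agent.Lib.helper75.zass_exists_two_fixed h2 hΩ hreg N hN
  have hN2 : ∀ {a b c d : Ω}, a ≠ b → c ≠ d → ∃ x ∈ N, x • a = c ∧ x • b = d :=
    Cfsg.Agent.Lib.helper75.zass_normal_two_transitive h2 h3fix hΩ3 N hN m hm hm1 α β hαβ hmα hmβ
  refine ⟨?_, ?_, ?_, ?_, ?_⟩
  · constructor
    intro x y h
    apply Subtype.ext
    exact FaithfulSMul.eq_of_smul_eq_smul (α := Ω) h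
  · rw [MulAction.is_two_pretransitive_iff]
    intro a b c d hab hcd
    obtain ⟨x, hx, hxa, hxb⟩ := hN2 hab hcd
    exact ⟨⟨x, hx⟩, hxa, hxb⟩
  · intro g a b c hab hbc hac ha hb hc
    apply Subtype.ext
    exact h3fix g a b c hab hbc hac ha hb hc
  · exact ⟨⟨m, hm⟩, fun h => hm1 (congrArg Subtype.val h), α, β, hαβ, hmα, hmβ⟩
  · intro M hMn hMt
    by_contra hcon
    push_neg at hcon
    apply Cfsg.Agent.Lib.helper75.zass_no_regular_normal h3fix hΩ hreg N hN2 (M.map N.subtype)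
    · intro x hx
      obtain ⟨y, hy, rfl⟩ := Subgroup.mem_map.mp hx
      exact y.2
    · intro n hn x hx
      obtain ⟨y, hy, rfl⟩ := Subgroup.mem_map.mp hx
      exact Subgroup.mem_map.mpr ⟨⟨n, hn⟩ * y * ⟨n, hn⟩⁻¹, hMn.conj_mem y hy ⟨n, hn⟩, by simp⟩
    · intro a c
      obtain ⟨k, hk⟩ := hMt.exists_smul_eq a c
      exact ⟨((k : N) : G), Subgroup.mem_map.mpr ⟨k, k.2, rfl⟩, hk⟩
    · intro x hx a hxa
      obtain ⟨y, hy, rfl⟩ := Subgroup.mem_map.mp hx
      have hmem : (⟨y, hy⟩ : M) ∈ MulAction.stabilizer M a := by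
        rw [MulAction.mem_stabilizer_iff]; exact hxa
      rw [hcon a, Subgroup.mem_bot] at hmem
      have hy1 : y = 1 := congrArg Subtype.val hmem
      rw [hy1]; simp

end Cfsg.Agent.S0339
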