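import Cfsg.Statements.S0338
import Mathlib
import Cfsg.Agent.Lib.helper75.Zassenhaus
import Cfsg.Agent.S0339

set_option autoImplicit false
open Cfsg

namespace Cfsg.Agent.S0338

/-- A Zassenhaus group of odd degree is a simple group. -/
theorem result {G Ω : Type*} [Group G] [MulAction G Ω] [Fintype Ω]
    (hZ : Cfsg.IsZassenhausGroup G Ω) (hodd : Odd (Fintype.card Ω)) : IsSimpleGroup G := by
  have hZ' := hZ
  obtain ⟨hfaith, h2t, h3fix, ⟨g0, hg0, a0, b0, hab0, hga, hgb⟩, hreg⟩ := hZ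
  haveI := hfaith
  haveI : Finite G := Finite.of_injective _ (MulAction.toPerm_injective (α := G) (β := Ω))
  haveI : Nontrivial G := ⟨⟨g0, 1, hg0⟩⟩
  refine IsSimpleGroup.mk ?_
  intro N hNn
  by_cases hN : N = ⊥
  · left; exact hN
  · right
    haveI := hNn
    have hZN := Cfsg.Agent.S0339.result hZ' N hN
    have hN2 : ∀ {a b c d : Ω}, a ≠ b → c ≠ d → ∃ x ∈ N, x • a = c ∧ x • b = d := by
      intro a b c d hab hcd
      obtain ⟨x, hxa, hxb⟩ := (MulAction.is_two_pretransitive_iff.mp hZN.2.1) hab hcd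
      exact ⟨x, x.2, hxa, hxb⟩
    exact Cfsg.Agent.Lib.helper75.zass_odd_normal_eq_top h3fix hodd a0 b0 hab0 N hN2

end Cfsg.Agent.S0338
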