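import Mathlib
import Cfsg.Statements.S0738

set_option autoImplicit false
open Cfsg

namespace Cfsg.Agent.S0738

/-- Let a finite Zassenhaus group of degree `n + 1` have two-point stabilisers of order `d` with `2d ≥ n - 1`. Then a normal subgroup of a point stabiliser acting regularly on the remaining points is elementary abelian, and the degree is a prime power plus one. -/
theorem result {G Ω : Type*} [Group G] [Finite G] [MulAction G Ω] [Fintype Ω] (hZ : Cfsg.IsZassenhausGroup G Ω) {a b : Ω} (hab : a ≠ b) (hd : Fintype.card Ω - 2 ≤ 2 * Nat.card ↥(MulAction.stabilizer G a ⊓ MulAction.stabilizer G b)) (F : Subgroup G) (hFle : F ≤ MulAction.stabilizer G a) (hFn : (F.subgroupOf (MulAction.stabilizer G a)).Normal) (hreg : ∀ y z : Ω, y ≠ a → z ≠ a → ∃! u : F, (u : G) • y = z) : IsMulCommutative F ∧ ∃ p f : ℕ, p.Prime ∧ (∀ u ∈ F, u ^ p = 1) ∧ Fintype.card Ω = p ^ f + 1 := by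
  classical
  obtain ⟨-, -, h3fix, -, -⟩ := hZ
  set H := MulAction.stabilizer G a ⊓ MulAction.stabilizer G b with hH
  set d := Nat.card H with hd'
  have hHa : ∀ h ∈ H, h • a = a := fun h hh => MulAction.mem_stabilizer_iff.mp hh.1
  have hHb : ∀ h ∈ H, h • b = b := fun h hh => MulAction.mem_stabilizer_iff.mp hh.2
  have hFa : ∀ u ∈ F, u • a = a := fun u hu => MulAction.mem_stabilizer_iff.mp (hFle hu)
  -- Step 1
  have hconj : ∀ h ∈ H, ∀ u ∈ F, h * u * h⁻¹ ∈ F := by
    intro h hh u hu
    have := hFn.conj_mem ⟨u, hFle hu⟩ (Subgroup.mem_subgroupOf.mpr hu) ⟨h, hh.1⟩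
    exact Subgroup.mem_subgroupOf.mp this
  -- Step 2
  have hub : ∀ u ∈ F, u ≠ 1 → u • b ≠ b := by
    intro u hu hu1 hfix
    obtain ⟨w, -, huniq⟩ := hreg b b hab.symm hab.symm
    have h1 := huniq ⟨u, hu⟩ hfix
    have h2 := huniq 1 (one_smul _ _)
    exact hu1 (congrArg Subtype.val (h1.trans h2.symm))
  have hsemi : ∀ h ∈ H, ∀ u ∈ F, u ≠ 1 → h * u * h⁻¹ = u → h = 1 := by
    intro h hh u hu hu1 hc
    have hcomm : h * u = u * h := by
      calc h * u = (h * u * h⁻¹) * h := by group
        _ = u * h := by rw [hc]
    apply h3fix h a b (u • b) hab (Ne.symm (hub u hu hu1)) ?_ (hHa h hh) (hHb h hh)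
    · rw [← mul_smul, hcomm, mul_smul, hHb h hh]
    · intro h'
      have : u • a = u • b := by rw [hFa u hu]; exact h'
      exact hab (MulAction.injective u this)
  have hinjconj : ∀ w ∈ F, w ≠ 1 → ∀ h ∈ H, ∀ h' ∈ H, h * w * h⁻¹ = h' * w * h'⁻¹ → h = h' := by
    intro w hw hw1 h hh h' hh' e
    have h1 : (h'⁻¹ * h) * w * (h'⁻¹ * h)⁻¹ = w := by
      calc (h'⁻¹ * h) * w * (h'⁻¹ * h)⁻¹ = h'⁻¹ * (h * w * h⁻¹) * h' := by group
        _ = h'⁻¹ * (h' * w * h'⁻¹) * h' := by rw [e]
        _ = w := by group
    have h2 := hsemi _ (H.mul_mem (H.inv_mem hh') hh) w hw hw1 h1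
    exact (inv_mul_eq_one.mp h2).symm
  -- Step 3
  have hcardF : Nat.card F + 1 = Fintype.card Ω := by
    have hmem : ∀ u : F, (u : G) • b ∈ Finset.univ.erase a := by
      intro u
      refine Finset.mem_erase.mpr ⟨?_, Finset.mem_univ _⟩
      intro h'
      have : (u : G) • b = (u : G) • a := by rw [hFa u u.2]; exact h'
      exact hab (MulAction.injective (u : G) this).symm
    have hbij : Function.Bijective (fun u : F => (⟨(u : G) • b, hmem u⟩ : ↥(Finset.univ.erase a))) := by
      constructor
      · intro u u' e
        have e' : (u : G) • b = (u' : G) • b := congrArg Subtype.val e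
        obtain ⟨w, -, huniq⟩ := hreg b ((u' : G) • b) hab.symm (Finset.mem_erase.mp (hmem u')).1
        exact (huniq u e').trans (huniq u' rfl).symm
      · rintro ⟨z, hz⟩
        obtain ⟨w, hw, -⟩ := hreg b z hab.symm (Finset.mem_erase.mp hz).1
        exact ⟨w, Subtype.ext hw⟩
    rw [Nat.card_congr (Equiv.ofBijective _ hbij), Nat.card_eq_fintype_card, Fintype.card_coe,
      Finset.card_erase_of_mem (Finset.mem_univ a), Finset.card_univ]
    have : 0 < Fintype.card Ω := Fintype.card_pos_iff.mpr ⟨a⟩
    omega
  have hle : Nat.card F ≤ 2 * d + 1 := by omega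
  -- Step 5
  have hL : ∀ K : Subgroup G, K ≤ F → (∀ h ∈ H, ∀ u ∈ K, h * u * h⁻¹ ∈ K) → K ≠ ⊥ → K = F := by
    intro K hKF hKinv hKne
    obtain ⟨⟨u, huK⟩, hu1⟩ := (Subgroup.ne_bot_iff_exists_ne_one.mp hKne)
    have hu1' : u ≠ 1 := fun e => hu1 (Subtype.ext e)
    let φ : Option H → K := fun o => match o with
      | none => 1
      | some h => ⟨(h : G) * u * (h : G)⁻¹, hKinv h h.2 u huK⟩
    have hφ : Function.Injective φ := by
      intro x y hxy
      have hxy' : (φ x : G) = (φ y : G) := congrArg Subtype.val hxy
      rcases x with _ | x <;> rcases y with _ | y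
      · rfl
      · exfalso
        change (1 : G) = (y : G) * u * (y : G)⁻¹ at hxy'
        exact hu1' (conj_eq_one_iff.mp hxy'.symm)
      · exfalso
        change (x : G) * u * (x : G)⁻¹ = 1 at hxy'
        exact hu1' (conj_eq_one_iff.mp hxy')
      · change (x : G) * u * (x : G)⁻¹ = (y : G) * u * (y : G)⁻¹ at hxy'
        have := hinjconj u (hKF huK) hu1' x x.2 y y.2 hxy'
        rw [Subtype.ext this]
    have hcard : d + 1 ≤ Nat.card K := by
      have := Nat.card_le_card_of_injective φ hφ
      rwa [Finite.card_option] at this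
    have hdvd : Nat.card K ∣ Nat.card F := Subgroup.card_dvd_of_le hKF
    obtain ⟨j, hj⟩ := hdvd
    have hFpos : 0 < Nat.card F := Nat.card_pos
    have hj1 : j = 1 := by
      rcases j with _ | _ | j
      · omega
      · rfl
      · exfalso
        have : Nat.card K * (j + 1 + 1) ≥ Nat.card K * 2 := Nat.mul_le_mul_left _ (by omega)
        omega
    exact Subgroup.eq_of_le_of_card_ge hKF (by rw [hj, hj1, mul_one])
  by_cases hFbot : F = ⊥
  · have hF1 : ∀ x ∈ F, x = 1 := (Subgroup.eq_bot_iff_forall F).mp hFbot
    refine ⟨⟨⟨fun x y => ?_⟩⟩, 2, 0, Nat.prime_two, ?_, ?_⟩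
    · apply Subtype.ext
      simp [hF1 x x.2, hF1 y y.2]
    · intro u hu; rw [hF1 u hu]; simp
    · have : Nat.card F = 1 := by
        have h1 : ¬ (1 < Nat.card F) := fun h => ((Subgroup.one_lt_card_iff_ne_bot _).mp h) hFbot
        have h2 : 0 < Nat.card F := Nat.card_pos
        omega
      omega
  · have hFcard1 : 1 < Nat.card F := (Subgroup.one_lt_card_iff_ne_bot _).mpr hFbot
    obtain ⟨p, hp, hpdvd⟩ := Nat.exists_prime_and_dvd (ne_of_gt hFcard1)
    haveI : Fact p.Prime := ⟨hp⟩
    obtain ⟨u0, hu0⟩ := exists_prime_orderOf_dvd_card' p hpdvd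
    set u : G := (u0 : G) with hu
    have huF : u ∈ F := u0.2
    have hou : orderOf u = p := by rw [hu, Subgroup.orderOf_coe]; exact hu0
    have hup : u ^ p = 1 := by rw [← hou]; exact pow_orderOf_eq_one u
    have hu1 : u ≠ 1 := by
      intro e
      rw [e, orderOf_one] at hou
      exact hp.one_lt.ne hou
    have hcomm : ∀ x ∈ F, ∀ y ∈ F, x * y = y * x := by
      by_cases hall : ∀ v ∈ F, v ^ p = 1
      · have hPG : IsPGroup p F := fun g =>
          ⟨1, by rw [pow_one]; exact Subtype.ext (by simpa using hall g g.2)⟩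
        haveI : Nontrivial F := (Subgroup.nontrivial_iff_ne_bot F).mpr hFbot
        haveI := hPG.center_nontrivial
        obtain ⟨⟨z, hz⟩, hne⟩ := exists_ne (1 : Subgroup.center F)
        have hz1 : z ≠ 1 := fun h => hne (Subtype.ext h)
        let K : Subgroup G := F ⊓ Subgroup.centralizer (F : Set G)
        have hK : K = F := by
          apply hL K inf_le_left
          · intro h hh w hw
            have hw := Subgroup.mem_inf.mp hw
            refine Subgroup.mem_inf.mpr ⟨hconj h hh w hw.1, ?_⟩
            rw [Subgroup.mem_centralizer_iff]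
            intro y hy
            have hy' : h⁻¹ * y * h ∈ F := by
              have := hconj h⁻¹ (H.inv_mem hh) y hy
              simpa using this
            have h1 := Subgroup.mem_centralizer_iff.mp hw.2 _ hy'
            calc y * (h * w * h⁻¹) = h * ((h⁻¹ * y * h) * w) * h⁻¹ := by group
              _ = h * (w * (h⁻¹ * y * h)) * h⁻¹ := by rw [h1]
              _ = h * w * h⁻¹ * y := by group
          · intro hbot
            have hzK : (z : G) ∈ K := by
              refine Subgroup.mem_inf.mpr ⟨z.2, ?_⟩
              rw [Subgroup.mem_centralizer_iff]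
              intro y hy
              have := Subgroup.mem_center_iff.mp hz ⟨y, hy⟩
              exact congrArg Subtype.val this
            rw [hbot] at hzK
            exact hz1 (Subtype.ext (Subgroup.mem_bot.mp hzK))
        intro x hx y hy
        have hxK : x ∈ K := hK ▸ hx
        exact (Subgroup.mem_centralizer_iff.mp (Subgroup.mem_inf.mp hxK).2 y hy).symm
      · push Not at hall
        obtain ⟨v, hvF, hvp⟩ := hall
        have hv1 : v ≠ 1 := by
          intro e; rw [e, one_pow] at hvp; exact hvp rfl
        let ψ : Option (H ⊕ H) → F := fun o => match o with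
          | none => 1
          | some (Sum.inl h) => ⟨(h : G) * u * (h : G)⁻¹, hconj h h.2 u huF⟩
          | some (Sum.inr h) => ⟨(h : G) * v * (h : G)⁻¹, hconj h h.2 v hvF⟩
        have huv : ∀ h h' : H, (h : G) * u * (h : G)⁻¹ ≠ (h' : G) * v * (h' : G)⁻¹ := by
          intro h h' e
          have e2 := congrArg (· ^ p) e
          simp only [conj_pow, hup, mul_one, mul_inv_cancel] at e2
          exact hvp (conj_eq_one_iff.mp e2.symm)
        have hψ : Function.Injective ψ := by
          intro x y hxy
          have hxy' : (ψ x : G) = (ψ y : G) := congrArg Subtype.val hxy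
          rcases x with _ | x | x <;> rcases y with _ | y | y
          · rfl
          · exfalso
            change (1 : G) = (y : G) * u * (y : G)⁻¹ at hxy'
            exact hu1 (conj_eq_one_iff.mp hxy'.symm)
          · exfalso
            change (1 : G) = (y : G) * v * (y : G)⁻¹ at hxy'
            exact hv1 (conj_eq_one_iff.mp hxy'.symm)
          · exfalso
            change (x : G) * u * (x : G)⁻¹ = 1 at hxy'
            exact hu1 (conj_eq_one_iff.mp hxy')
          · change (x : G) * u * (x : G)⁻¹ = (y : G) * u * (y : G)⁻¹ at hxy'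
            have := hinjconj u huF hu1 x x.2 y y.2 hxy'
            rw [Subtype.ext this]
          · exfalso
            change (x : G) * u * (x : G)⁻¹ = (y : G) * v * (y : G)⁻¹ at hxy'
            exact huv x y hxy'
          · exfalso
            change (x : G) * v * (x : G)⁻¹ = 1 at hxy'
            exact hv1 (conj_eq_one_iff.mp hxy')
          · exfalso
            change (x : G) * v * (x : G)⁻¹ = (y : G) * u * (y : G)⁻¹ at hxy'
            exact huv y x hxy'.symm
          · change (x : G) * v * (x : G)⁻¹ = (y : G) * v * (y : G)⁻¹ at hxy'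
            have := hinjconj v hvF hv1 x x.2 y y.2 hxy'
            rw [Subtype.ext this]
        have hcardO : Nat.card (Option (H ⊕ H)) = 2 * d + 1 := by
          rw [Finite.card_option, Nat.card_sum]; omega
        have hbij : Function.Bijective ψ :=
          hψ.bijective_of_nat_card_le (by rw [hcardO]; exact hle)
        have hcardF2 : Nat.card F = 2 * d + 1 := by
          rw [← Nat.card_congr (Equiv.ofBijective ψ hbij), hcardO]
        obtain ⟨o, ho⟩ := hbij.2 ⟨u⁻¹, F.inv_mem huF⟩
        have ho' : (ψ o : G) = u⁻¹ := congrArg Subtype.val ho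
        rcases o with _ | h | h
        · exfalso
          change (1 : G) = u⁻¹ at ho'
          exact hu1 (inv_eq_one.mp ho'.symm)
        · change (h : G) * u * (h : G)⁻¹ = u⁻¹ at ho'
          have hh2 : (h : G) * h = 1 := by
            apply hsemi _ (H.mul_mem h.2 h.2) u huF hu1
            calc (h : G) * h * u * ((h : G) * h)⁻¹
                = h * (h * u * (h : G)⁻¹) * (h : G)⁻¹ := by group
              _ = h * u⁻¹ * (h : G)⁻¹ := by rw [ho']
              _ = (h * u * (h : G)⁻¹)⁻¹ := by group
              _ = u := by rw [ho', inv_inv]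
          have hhne : (h : G) ≠ 1 := by
            intro h1
            rw [h1] at ho'
            simp only [one_mul, inv_one, mul_one] at ho'
            have hsq : u ^ 2 = 1 := by
              rw [pow_two]; nth_rewrite 2 [ho']; exact mul_inv_cancel u
            have h2 : p ∣ 2 := hou ▸ orderOf_dvd_of_pow_eq_one hsq
            have h3 : p ∣ 2 * d + 1 := hcardF2 ▸ hpdvd
            have hp2 : p = 2 := (Nat.prime_dvd_prime_iff_eq hp Nat.prime_two).mp h2
            rw [hp2] at h3
            omega
          let φ : F →* F :=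
            { toFun := fun w => ⟨(h : G) * w * (h : G)⁻¹, hconj h h.2 w w.2⟩
              map_one' := by apply Subtype.ext; simp
              map_mul' := by intro x y; apply Subtype.ext; simp }
          have hfpf : MonoidHom.FixedPointFree φ := by
            intro w hw
            by_contra hw1
            have : (h : G) = 1 :=
              hsemi h h.2 w w.2 (fun e => hw1 (Subtype.ext e)) (congrArg Subtype.val hw)
            exact hhne this
          have hinvol : Function.Involutive φ := by
            intro w
            apply Subtype.ext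
            change (h : G) * ((h : G) * w * (h : G)⁻¹) * (h : G)⁻¹ = w
            calc (h : G) * ((h : G) * w * (h : G)⁻¹) * (h : G)⁻¹
                = ((h : G) * h) * w * ((h : G) * h)⁻¹ := by group
              _ = w := by rw [hh2]; simp
          intro x hx y hy
          have := hfpf.commute_all_of_involutive hinvol ⟨x, hx⟩ ⟨y, hy⟩
          exact congrArg Subtype.val this.eq
        · exfalso
          change (h : G) * v * (h : G)⁻¹ = u⁻¹ at ho'
          have h1 : ((h : G) * v * (h : G)⁻¹) ^ p = 1 := by rw [ho', inv_pow, hup, inv_one]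
          rw [conj_pow] at h1
          exact hvp (conj_eq_one_iff.mp h1)
    -- Step 7
    let K : Subgroup G :=
      { carrier := {w | w ∈ F ∧ w ^ p = 1}
        mul_mem' := by
          intro x y hx hy
          refine ⟨F.mul_mem hx.1 hy.1, ?_⟩
          have hc : Commute x y := hcomm x hx.1 y hy.1
          rw [hc.mul_pow, hx.2, hy.2, one_mul]
        one_mem' := ⟨F.one_mem, one_pow _⟩
        inv_mem' := by
          intro x hx
          exact ⟨F.inv_mem hx.1, by rw [inv_pow, hx.2, inv_one]⟩ }
    have hK : K = F := by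
      apply hL K (fun w hw => hw.1)
      · intro h hh w hw
        exact ⟨hconj h hh w hw.1, by rw [conj_pow, hw.2]; simp⟩
      · intro hbot
        have huK : u ∈ K := ⟨huF, hup⟩
        rw [hbot] at huK
        exact hu1 (Subgroup.mem_bot.mp huK)
    have hexp : ∀ w ∈ F, w ^ p = 1 := fun w hw => (hK ▸ hw : w ∈ K).2
    have hPG : IsPGroup p F := fun g =>
      ⟨1, by rw [pow_one]; exact Subtype.ext (by simpa using hexp g g.2)⟩
    obtain ⟨f, hf⟩ := IsPGroup.iff_card.mp hPG
    exact ⟨⟨⟨fun x y => Subtype.ext (hcomm x x.2 y y.2)⟩⟩, p, f, hp, hexp, by omega⟩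

end Cfsg.Agent.S0738
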