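import Mathlib
import Cfsg.Statements.S0344
import Cfsg.Agent.S0738
import Cfsg.Agent.S0741
import Cfsg.Agent.Lib.helper16.ZassAbKer
import Cfsg.Agent.Lib.helper16.PP1Zass
import Cfsg.Agent.Lib.helper16.ZassEven
-- import your own Cfsg.Agent.* helpers here

set_option autoImplicit false
open Cfsg

namespace Cfsg.Agent.S0344

/-- A finite simple Zassenhaus group with a two-point stabiliser of even order is isomorphic to `PSL₂(F)` for a finite
field `F` with more than three elements. -/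
theorem result {G Ω : Type*} [Group G] [Finite G] [MulAction G Ω] [Finite Ω]
    (hZ : Cfsg.IsZassenhausGroup G Ω) [IsSimpleGroup G]
    {a b : Ω} (hab : a ≠ b) (heven : Even (Nat.card ↥(MulAction.stabilizer G a ⊓ MulAction.stabilizer G b))) :
    ∃ (F : Type) (_ : Field F) (_ : Fintype F), 3 < Fintype.card F ∧ Nonempty (G ≃* Matrix.ProjectiveSpecialLinearGroup (Fin 2) F) := by
  classical
  haveI : Fintype Ω := Fintype.ofFinite Ω
  obtain ⟨H, hHa, hHcard, hHfix⟩ := Cfsg.Agent.Lib.helper16.ZassAb.exists_kernel hZ hab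
  obtain ⟨hFn, hreg⟩ := Cfsg.Agent.Lib.helper16.ZassAb.kernel_reg hZ H hHa hHcard hHfix
  have h741 := Cfsg.Agent.S0741.result hZ hab heven
  obtain ⟨hcommF, -⟩ := Cfsg.Agent.S0738.result hZ hab h741 H hHa hFn hreg
  have hHcomm : ∀ u ∈ H, ∀ v ∈ H, u * v = v * u := fun u hu v hv =>
    congrArg Subtype.val (mul_comm' (⟨u, hu⟩ : H) ⟨v, hv⟩)
  rcases Cfsg.Agent.Lib.helper16.PP1.zass_ab_result' hZ hab H hHa hHcard hHfix hHcomm with
    ⟨hd, -, -⟩ | ⟨hd, K, fK, ftK, hchar, hcardK, hiso⟩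
  · exact (Cfsg.Agent.Lib.helper16.ZassEven.simple_not_sharp hZ hab H hHa hHcard hHfix hd
      heven).elim
  · refine ⟨K, fK, ftK, ?_, hiso⟩
    have hdpos : 0 < Nat.card ↥(MulAction.stabilizer G a ⊓ MulAction.stabilizer G b) :=
      Nat.card_pos
    obtain ⟨m, hm⟩ := heven
    omega

end Cfsg.Agent.S0344
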