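import Mathlib
import Cfsg.Statements.S0345
import Cfsg.Agent.S0738
import Cfsg.Agent.S0741
import Cfsg.Agent.Lib.helper16.ZassAbKer
import Cfsg.Agent.Lib.helper16.PP1Zass
import Cfsg.Agent.Lib.helper16.ZassEven
-- import your own Cfsg.Agent.* helpers here

set_option autoImplicit false
open Cfsg

namespace Cfsg.Agent.S0345

/-- In a finite simple Zassenhaus group the stabiliser `H` of two points `a ≠ b` is cyclic, and some involution
interchanging `a` and `b` inverts every element of `H`. -/
theorem result {G Ω : Type*} [Group G] [Finite G] [MulAction G Ω] [Finite Ω]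
    (hZ : Cfsg.IsZassenhausGroup G Ω) [IsSimpleGroup G]
    {a b : Ω} (hab : a ≠ b) :
    IsCyclic ↥(MulAction.stabilizer G a ⊓ MulAction.stabilizer G b) ∧
      ∃ v : G, orderOf v = 2 ∧ v • a = b ∧ v • b = a ∧ ∀ h ∈ MulAction.stabilizer G a ⊓ MulAction.stabilizer G b, v * h * v⁻¹ = h⁻¹ := by
  classical
  haveI : Fintype Ω := Fintype.ofFinite Ω
  rcases Nat.even_or_odd
    (Nat.card ↥(MulAction.stabilizer G a ⊓ MulAction.stabilizer G b)) with heven | hodd
  · obtain ⟨H, hHa, hHcard, hHfix⟩ := Cfsg.Agent.Lib.helper16.ZassAb.exists_kernel hZ hab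
    obtain ⟨hFn, hreg⟩ := Cfsg.Agent.Lib.helper16.ZassAb.kernel_reg hZ H hHa hHcard hHfix
    have h741 := Cfsg.Agent.S0741.result hZ hab heven
    obtain ⟨hcommF, -⟩ := Cfsg.Agent.S0738.result hZ hab h741 H hHa hFn hreg
    have hHcomm : ∀ u ∈ H, ∀ v ∈ H, u * v = v * u := fun u hu v hv =>
      congrArg Subtype.val (mul_comm' (⟨u, hu⟩ : H) ⟨v, hv⟩)
    rcases Cfsg.Agent.Lib.helper16.PP1.zass_ab_result' hZ hab H hHa hHcard hHfix hHcomm with
      ⟨hd, -, -⟩ | ⟨hd, -⟩
    · exact (Cfsg.Agent.Lib.helper16.ZassEven.simple_not_sharp hZ hab H hHa hHcard hHfix hd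
        heven).elim
    · obtain ⟨t, ht2, hta, htb, hinv⟩ :=
        Cfsg.Agent.Lib.helper16.ZassAb.swaps_all hZ hab H hHa hHcard hHfix hHcomm hd
      have hKcomm : ∀ k ∈ MulAction.stabilizer G a ⊓ MulAction.stabilizer G b,
          ∀ k' ∈ MulAction.stabilizer G a ⊓ MulAction.stabilizer G b, k * k' = k' * k := by
        intro k hk k' hk'
        have h1 := hinv (k * k') (Subgroup.mul_mem _ hk hk')
        have h2 : t * (k * k') * t⁻¹ = (t * k * t⁻¹) * (t * k' * t⁻¹) := by group
        rw [h2, hinv k hk, hinv k' hk', mul_inv_rev] at h1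
        have h3 : (k⁻¹ * k'⁻¹)⁻¹ = (k'⁻¹ * k⁻¹)⁻¹ := by rw [h1]
        rw [mul_inv_rev, mul_inv_rev, inv_inv, inv_inv] at h3
        exact h3.symm
      obtain ⟨F, fF, ftF, P, -, -, hPinj, hPa, -, hP0, -, hact, -⟩ :=
        Cfsg.Agent.Lib.helper16.ZassAb.zass_coords hZ hab H hHa hHcard hHfix hHcomm hd hKcomm
      have hmemK : ∀ k : ↥(MulAction.stabilizer G a ⊓ MulAction.stabilizer G b),
          (k : G) • a = a ∧ (k : G) • b = b := by
        intro k
        have h := k.2
        rw [Subgroup.mem_inf, MulAction.mem_stabilizer_iff, MulAction.mem_stabilizer_iff] at h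
        exact h
      have hex : ∀ k : ↥(MulAction.stabilizer G a ⊓ MulAction.stabilizer G b),
          ∃ κ : F, ∀ z, (k : G) • P z = P (κ * z) := by
        intro k
        obtain ⟨κ, -, -, h⟩ := hact (k : G) (hmemK k).1 (hmemK k).2
        exact ⟨κ, h⟩
      choose θ hθ using hex
      have hθmul : ∀ k k', θ (k * k') = θ k * θ k' := by
        intro k k'
        apply hPinj.comp (mul_left_injective₀ (one_ne_zero (α := F)))
        show P (θ (k * k') * 1) = P (θ k * θ k' * 1)
        rw [← hθ (k * k') 1, Subgroup.coe_mul, mul_smul, hθ k' 1, hθ k, mul_one, mul_one]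
      have hθone : θ 1 = 1 := by
        apply hPinj.comp (mul_left_injective₀ (one_ne_zero (α := F)))
        show P (θ 1 * 1) = P (1 * 1)
        rw [← hθ 1 1, Subgroup.coe_one, one_smul, one_mul]
      have hθinj : Function.Injective θ := by
        intro k k' h
        have hfix : ∀ z, ((k : G)⁻¹ * (k' : G)) • P z = P z := by
          intro z
          rw [mul_smul, hθ k' z, ← h, ← hθ k z, inv_smul_smul]
        have h01 : P 0 ≠ P 1 := fun h' => zero_ne_one (hPinj h')
        have h1 : (k : G)⁻¹ * (k' : G) = 1 := by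
          apply hZ.2.2.1 _ a (P 0) (P 1) (Ne.symm (hPa 0)) h01 (Ne.symm (hPa 1))
          · rw [mul_smul, (hmemK k').1, inv_smul_eq_iff, (hmemK k).1]
          · exact hfix 0
          · exact hfix 1
        exact Subtype.ext (inv_mul_eq_one.mp h1)
      refine ⟨isCyclic_of_injective_ringHom
        ({ toFun := θ, map_one' := hθone, map_mul' := hθmul } :
          ↥(MulAction.stabilizer G a ⊓ MulAction.stabilizer G b) →* F) hθinj, t, ?_, hta, htb,
        hinv⟩
      apply orderOf_eq_prime
      · rw [pow_two]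
        exact ht2
      · intro h1
        rw [h1, one_smul] at hta
        exact hab hta
  · obtain ⟨hcyc, -, hswap⟩ := Cfsg.Agent.Lib.helper16.ZassSimple.simple_struct hZ hab hodd
    obtain ⟨g, hga, hgb⟩ := Cfsg.Agent.Lib.helper19.zass_two_trans hZ hab (Ne.symm hab)
    exact ⟨hcyc, g, Cfsg.Agent.Lib.helper16.ZassSimple.swap_orderOf hZ hab hodd hga hgb, hga,
      hgb, hswap g hga hgb⟩

end Cfsg.Agent.S0345
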