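import Mathlib
import Cfsg.Statements.S0346
import Cfsg.Agent.S0738
import Cfsg.Agent.S0741
import Cfsg.Agent.Lib.helper16.FeitG
import Cfsg.Agent.Lib.helper16.ZassAbKer
-- import your own Cfsg.Agent.* helpers here

set_option autoImplicit false
open Cfsg

namespace Cfsg.Agent.S0346

/-- The number of points of a finite simple Zassenhaus group is `p^k + 1` for some prime power `p^k` (the regular normal
subgroup of a point stabiliser is a `p`-group). -/
theorem result {G Ω : Type*} [Group G] [Finite G] [MulAction G Ω] [Fintype Ω]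
    (hZ : Cfsg.IsZassenhausGroup G Ω) [IsSimpleGroup G] :
    IsPrimePow (Fintype.card Ω - 1) := by
  classical
  have hN3 : 3 ≤ Fintype.card Ω := by
    have h3 := Cfsg.Agent.Lib.helper19.zass_three_le_card hZ (Ω := Ω)
    rwa [Nat.card_eq_fintype_card] at h3
  haveI : Nontrivial Ω := Fintype.one_lt_card_iff_nontrivial.mp (by omega)
  obtain ⟨a, b, hab⟩ := exists_pair_ne Ω
  obtain ⟨H, hHa, hHcard, hHfix⟩ := Cfsg.Agent.Lib.helper16.ZassAb.exists_kernel hZ hab
  obtain ⟨hFn, hreg⟩ := Cfsg.Agent.Lib.helper16.ZassAb.kernel_reg hZ H hHa hHcard hHfix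
  have key : Fintype.card Ω - 2 ≤
      2 * Nat.card ↥(MulAction.stabilizer G a ⊓ MulAction.stabilizer G b) ∨ IsPGroup 2 H := by
    rcases Nat.even_or_odd
      (Nat.card ↥(MulAction.stabilizer G a ⊓ MulAction.stabilizer G b)) with he | ho
    · exact Or.inl (Cfsg.Agent.S0741.result hZ hab he)
    · obtain ⟨h, hh⟩ : ∃ h, Fintype.card Ω = h + 1 := ⟨Fintype.card Ω - 1, by omega⟩
      rcases Cfsg.Agent.Lib.helper16.Feit.feit_general (Nat.card G) G rfl hZ hab h _ hh rfl ho
        H hHa hHcard hHfix with h1 | ⟨h2, -, -⟩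
      · left
        omega
      · exact Or.inr h2
  rcases key with h1 | h2
  · obtain ⟨-, p, f, hp, -, hcard⟩ := Cfsg.Agent.S0738.result hZ hab h1 H hHa hFn hreg
    rw [hcard, Nat.add_sub_cancel]
    have hf : f ≠ 0 := by
      intro hf0
      rw [hf0, pow_zero] at hcard
      omega
    exact ⟨p, f, hp.prime, Nat.pos_of_ne_zero hf, rfl⟩
  · obtain ⟨k, hk⟩ := IsPGroup.iff_card.mp h2
    have hcard : Fintype.card Ω - 1 = 2 ^ k := by omega
    rw [hcard]
    have hk0 : k ≠ 0 := by
      intro hk0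
      rw [hk0, pow_zero] at hcard
      omega
    exact ⟨2, k, Nat.prime_two.prime, Nat.pos_of_ne_zero hk0, rfl⟩

end Cfsg.Agent.S0346
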