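import Cfsg.Statements.S0375
import Cfsg.Agent.S5622
import Cfsg.Agent.S5624
import Cfsg.Agent.S0358
import Cfsg.Agent.S0363
import Cfsg.Agent.S0407

set_option autoImplicit false
open Cfsg

namespace Cfsg.Agent.S0375

/-- A doubly even self-dual binary code of length 24 with no words of weight 4 is equivalent to the length-24 code built from the squares modulo 23. -/
theorem result (C : Submodule (ZMod 2) (Fin 24 → ZMod 2)) (hdim : Module.finrank (ZMod 2) C = 12) (horth : ∀ v ∈ C, ∀ w ∈ C, ∑ i, v i * w i = 0) (h4 : ∀ w ∈ C, 4 ∣ hammingNorm w) (hno4 : ∀ w ∈ C, hammingNorm w ≠ 4) : ∃ e : Fin 24 ≃ Cfsg.GolayPt, ∀ w : Cfsg.GolayPt → ZMod 2, w ∈ Cfsg.golayCode ↔ (fun i => w (e i)) ∈ C := by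
  classical
  have hmin : ∀ w ∈ C, w ≠ 0 → 8 ≤ hammingNorm w := by
    intro w hw hw0
    have h1 := h4 w hw
    have h2 := hno4 w hw
    have h3 : hammingNorm w ≠ 0 := hammingNorm_ne_zero_iff.mpr hw0
    obtain ⟨k, hk⟩ := h1
    omega
  have hS := (Cfsg.Agent.S5622.result C hdim horth hmin).2
  have hS' := Cfsg.Agent.S0363.result
  obtain ⟨e, he⟩ := Cfsg.Agent.S0407.result (by simp) (by simp [Cfsg.GolayPt]) hS hS'
  refine ⟨e, ?_⟩
  have hle : C ≤ Submodule.map
      (LinearEquiv.funCongrLeft (ZMod 2) (ZMod 2) e).toLinearMap Cfsg.golayCode := by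
    rw [← Cfsg.Agent.S5624.result C hdim horth hmin]
    rw [Submodule.span_le]
    rintro c ⟨hc, hc8⟩
    have hsup : Cfsg.support₂ c ∈ Cfsg.wordsOfWeight (C : Set (Fin 24 → ZMod 2)) 8 :=
      ⟨⟨c, hc, rfl⟩, hc8⟩
    have himg : (Cfsg.support₂ c).image e ∈ Cfsg.octads := by
      rw [← he]
      exact ⟨_, hsup, rfl⟩
    obtain ⟨⟨g, hg, hgs⟩, -⟩ := himg
    refine ⟨g, hg, ?_⟩
    funext i
    have h1 : (e i ∈ Cfsg.support₂ g) ↔ (i ∈ Cfsg.support₂ c) := by
      rw [hgs, Finset.mem_image]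
      constructor
      · rintro ⟨a, ha, hae⟩
        exact e.injective hae ▸ ha
      · intro h
        exact ⟨i, h, rfl⟩
    simp only [Cfsg.support₂, Finset.mem_filter, Finset.mem_univ, true_and] at h1
    show g (e i) = c i
    have key : ∀ a b : ZMod 2, (a ≠ 0 ↔ b ≠ 0) → a = b := by decide
    exact key _ _ h1
  have heq : C = Submodule.map
      (LinearEquiv.funCongrLeft (ZMod 2) (ZMod 2) e).toLinearMap Cfsg.golayCode := by
    apply Submodule.eq_of_le_of_finrank_eq hle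
    rw [hdim, LinearEquiv.finrank_map_eq, Cfsg.Agent.S0358.result]
  intro w
  rw [heq]
  constructor
  · intro hw
    exact ⟨w, hw, rfl⟩
  · rintro ⟨w', hw', h⟩
    have : w' = w := (LinearEquiv.funCongrLeft (ZMod 2) (ZMod 2) e).injective h
    exact this ▸ hw'

end Cfsg.Agent.S0375
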