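import Cfsg.Statements.S0386
import Cfsg.Agent.Lib.helper33.Dodecads

set_option autoImplicit false
open Cfsg

namespace Cfsg.Agent.S0386

/-- For a fixed dodecad, 132 octads meet it in 6 points, 132 in 2 points and 495 in 4 points. -/
theorem result (d : Finset Cfsg.GolayPt) (hd : d ∈ Cfsg.dodecads) : {o : Finset Cfsg.GolayPt | o ∈ Cfsg.octads ∧ (o ∩ d).card = 6}.ncard = 132 ∧ {o : Finset Cfsg.GolayPt | o ∈ Cfsg.octads ∧ (o ∩ d).card = 2}.ncard = 132 ∧ {o : Finset Cfsg.GolayPt | o ∈ Cfsg.octads ∧ (o ∩ d).card = 4}.ncard = 495 := by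
  classical
  have key : ∀ k : ℕ, {o : Finset Cfsg.GolayPt | o ∈ Cfsg.octads ∧ (o ∩ d).card = k}.ncard =
      (Cfsg.Agent.Lib.helper33.octF.filter (fun o => (d ∩ o).card = k)).card := by
    intro k
    rw [← Set.ncard_coe_finset]
    congr 1
    ext o
    simp only [Set.mem_ofPred_eq, Finset.coe_filter, Cfsg.Agent.Lib.helper33.mem_octF,
      Finset.inter_comm]
  rw [key, key, key]
  exact ⟨Cfsg.Agent.Lib.helper33.card_octads_meet6 hd,
    Cfsg.Agent.Lib.helper33.card_octads_meet2 hd, Cfsg.Agent.Lib.helper33.card_octads_meet4 hd⟩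

end Cfsg.Agent.S0386
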