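import Cfsg.Statements.S0401
import Cfsg.Agent.Lib.helper93.Co0Norm48

set_option autoImplicit false
open Cfsg
open Cfsg.Agent.Lib.helper93

namespace Cfsg.Agent.S0401

/-- Automorphisms of the lattice act transitively on vectors of sum of squares 48. -/
theorem result (v w : Cfsg.leechLattice) (hv : Cfsg.sqNorm (v : Cfsg.GolayPt → ℤ) = 48) (hw : Cfsg.sqNorm (w : Cfsg.GolayPt → ℤ) = 48) : ∃ g : Cfsg.Co0, g • v = w := by
  obtain ⟨g1, h1⟩ := mem_orb48 v hv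
  obtain ⟨g2, h2⟩ := mem_orb48 w hw
  refine ⟨g2 * g1⁻¹, ?_⟩
  show (g2 * g1⁻¹).1 v = w
  rw [co_mul_apply, ← h1, ← h2]
  exact congrArg g2.1 (g1.1.symm_apply_apply u0S)

end Cfsg.Agent.S0401
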