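import Cfsg.Statements.S0420
import Cfsg.Agent.S0387
import Cfsg.Agent.S0388
import Cfsg.Agent.S0411
import Cfsg.Agent.Lib.helper9.AutTransport
import Cfsg.Agent.Lib.helper73.M11U_Core

set_option autoImplicit false
open scoped Pointwise
open Cfsg

namespace Cfsg.Agent.S0420

/-- Simple groups of order 7920 are all isomorphic to the concrete smallest Mathieu group. -/
theorem result {G : Type*} [Group G] [Finite G] (hG : Cfsg.IsM11 G) (d : Finset Cfsg.GolayPt) (hd : d ∈ Cfsg.dodecads) (p : Cfsg.GolayPt) (hp : p ∈ d) : Nonempty (G ≃* ↥(MulAction.stabilizer Cfsg.M24 d ⊓ MulAction.stabilizer Cfsg.M24 p)) := by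
  have hM : Cfsg.IsM11 ↥(MulAction.stabilizer Cfsg.M24 d ⊓ MulAction.stabilizer Cfsg.M24 p) :=
    ⟨Cfsg.Agent.S0388.result d hd p hp, Cfsg.Agent.S0387.result d hd p hp⟩
  obtain ⟨α, hαF, hαD, B, hα, hB, ⟨e₁⟩⟩ := Cfsg.Agent.Lib.helper73.M11U.m11_steiner hG
  obtain ⟨β, hβF, hβD, B', hβ, hB', ⟨e₂⟩⟩ := Cfsg.Agent.Lib.helper73.M11U.m11_steiner hM
  obtain ⟨e, he⟩ := Cfsg.Agent.S0411.result hα hβ hB hB'
  exact ⟨(e₁.trans (Cfsg.Agent.Lib.helper9.autCongr e he)).trans e₂.symm⟩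

end Cfsg.Agent.S0420
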