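import Cfsg.Statements.S0427
import Cfsg.Agent.Lib.helper10.Steiner3622

set_option autoImplicit false
open Cfsg

namespace Cfsg.Agent.S0427

theorem adj_iff {α : Type*} {B : Set (Finset α)} (hB : Cfsg.IsSteinerSystem 3 6 B) (b c : B) :
    (Cfsg.blockGraph B).Adj b c ↔ Disjoint (b : Finset α) (c : Finset α) := by
  rw [Cfsg.blockGraph, SimpleGraph.fromRel_adj]
  constructor
  · rintro ⟨-, h | h⟩
    · exact h
    · exact h.symm
  · intro h
    refine ⟨?_, Or.inl h⟩
    rintro rfl
    have h6 := hB.1 b.1 b.2
    rw [disjoint_self, Finset.bot_eq_empty] at h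
    rw [h] at h6
    simp at h6

/-- The block graph (adjacent = disjoint) of an S(3, 6, 22) is strongly regular with parameters (77, 16, 0, 4). -/
theorem result {α : Type*} [Fintype α] (hα : Fintype.card α = 22) {B : Set (Finset α)} (hB : Cfsg.IsSteinerSystem 3 6 B) [Fintype B] [DecidableRel (Cfsg.blockGraph B).Adj] : (Cfsg.blockGraph B).IsSRGWith 77 16 0 4 := by
  classical
  have hadj := adj_iff hB
  have hcn : ∀ v w : B, Fintype.card ((Cfsg.blockGraph B).commonNeighbors v w)
      = ((Cfsg.Agent.Lib.helper10.blk B).filter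
          fun d => Disjoint (v : Finset α) d ∧ Disjoint (w : Finset α) d).card := by
    intro v w
    rw [← Cfsg.Agent.Lib.helper10.card_filter_blocks B
      (fun d => Disjoint (v : Finset α) d ∧ Disjoint (w : Finset α) d)]
    refine Fintype.card_of_subtype _ fun x => ?_
    rw [Finset.mem_filter, SimpleGraph.mem_commonNeighbors, hadj, hadj]
    simp
  refine ⟨?_, ?_, ?_, ?_⟩
  · rw [Cfsg.Agent.Lib.helper10.card_blocks_eq, Cfsg.Agent.Lib.helper10.s3622_card_blk hB hα]
  · intro v
    rw [← SimpleGraph.card_neighborFinset_eq_degree, SimpleGraph.neighborFinset_eq_filter]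
    have : (Finset.univ.filter ((Cfsg.blockGraph B).Adj v))
        = Finset.univ.filter (fun c : B => Disjoint (v : Finset α) (c : Finset α)) := by
      ext c
      simp [hadj]
    rw [this, Cfsg.Agent.Lib.helper10.card_filter_blocks B (fun d => Disjoint (v : Finset α) d),
      Cfsg.Agent.Lib.helper10.s3622_card_disjoint hB hα v.2]
  · intro v w hvw
    rw [hcn]
    have hne : (v : Finset α) ≠ w := fun h => hvw.ne (Subtype.ext h)
    exact (Cfsg.Agent.Lib.helper10.s3622_card_disjoint_two hB hα v.2 w.2 hne).1 ((hadj v w).mp hvw)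
  · intro v w hvw hnadj
    rw [hcn]
    have hne : (v : Finset α) ≠ w := fun h => hvw (Subtype.ext h)
    exact (Cfsg.Agent.Lib.helper10.s3622_card_disjoint_two hB hα v.2 w.2 hne).2
      (fun h => hnadj ((hadj v w).mpr h))

end Cfsg.Agent.S0427
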