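import Cfsg.Statements.S0436
import Cfsg.Agent.Lib.helper10.Invol

set_option autoImplicit false
open Cfsg

namespace Cfsg.Agent.S0436

open Cfsg.Agent.Lib.helper10 in
/-- Core word computation: involutions `a b e`, `a`, `b` commuting, `e` commuting with `a * b`,
each of `e * a`, `e * b` squaring or cubing to one, and `a ≠ b`: then `e` commutes with both. -/
theorem core {G : Type*} [Group G] {a b e : G} (ha2 : a * a = 1) (hb2 : b * b = 1)
    (he2 : e * e = 1) (hea : (e * a) ^ 2 = 1 ∨ (e * a) ^ 3 = 1)
    (heb : (e * b) ^ 2 = 1 ∨ (e * b) ^ 3 = 1) (hab : a ≠ b)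
    (h : Commute e (a * b)) : Commute e a ∧ Commute e b := by
  have key1 : Commute e a → Commute e a ∧ Commute e b := by
    intro h1
    refine ⟨h1, ?_⟩
    have h2 : Commute e (a⁻¹ * (a * b)) := h1.inv_right.mul_right h
    simpa using h2
  have key2 : Commute e b → Commute e a ∧ Commute e b := by
    intro h1
    refine ⟨?_, h1⟩
    have h2 : Commute e (a * b * b⁻¹) := h.mul_right h1.inv_right
    simpa using h2
  rcases hea with hea | hea
  · exact key1 (commute_of_invol_sq he2 ha2 hea)
  rcases heb with heb | heb
  · exact key2 (commute_of_invol_sq he2 hb2 heb)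
  exfalso
  apply hab
  have h1 : e * a * e = a * e * a := braid_of_invol_cube he2 ha2 hea
  have h2 : e * b * e = b * e * b := braid_of_invol_cube he2 hb2 heb
  -- from `e * (a * b) = a * b * e`
  have h3 : a * e * a = b * e * b := by
    have h4 : e * (a * b) = a * b * e := h.eq
    have h5 : a * (e * (a * b)) * b = a * (a * b * e) * b := by rw [h4]
    calc a * e * a = a * (e * (a * b)) * b := by
          simp only [mul_assoc, hb2, mul_one]
      _ = a * (a * b * e) * b := h5
      _ = b * e * b := by
          simp only [mul_assoc, mul_self_cancel_left' ha2]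
  have h6 : e * a * e = e * b * e := by rw [h1, h2, h3]
  have h7 : e * a = e * b := mul_right_cancel h6
  exact mul_left_cancel h7

/-- For distinct commuting members a, b of a set of 3-transpositions E, a member e of E centralises the product a * b if and only if it centralises both a and b. -/
theorem result {G : Type*} [Group G] {E : Set G} (hE : Cfsg.IsThreeTranspositionSet E) {a b e : G} (ha : a ∈ E) (hb : b ∈ E) (he : e ∈ E) (hab : a ≠ b) (hcomm : Commute a b) : Commute e (a * b) ↔ (Commute e a ∧ Commute e b) := by
  obtain ⟨hord, hprod⟩ := hE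
  constructor
  · intro h
    exact core (Cfsg.Agent.Lib.helper10.mul_self_of_orderOf_two (hord a ha))
      (Cfsg.Agent.Lib.helper10.mul_self_of_orderOf_two (hord b hb))
      (Cfsg.Agent.Lib.helper10.mul_self_of_orderOf_two (hord e he))
      (hprod e he a ha) (hprod e he b hb) hab h
  · rintro ⟨h1, h2⟩
    exact h1.mul_right h2

end Cfsg.Agent.S0436
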