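import Cfsg.Statements.S0437
import Cfsg.Agent.Lib.helper10.Invol
import Cfsg.Agent.S0436

set_option autoImplicit false
open Cfsg

namespace Cfsg.Agent.S0437

open Cfsg.Agent.Lib.helper10 in
/-- The case where `e` commutes with none of `a`, `b`, `c` is impossible: it forces `c = e`. -/
theorem all_braid_absurd {G : Type*} [Group G] {a b c e : G} (ha2 : a * a = 1) (hb2 : b * b = 1)
    (hc2 : c * c = 1) (he2 : e * e = 1)
    (hea : e * a * e = a * e * a) (heb : e * b * e = b * e * b) (hec : e * c * e = c * e * c)
    (h₁ : Commute a b) (h₂ : Commute a c) (h₃ : Commute b c)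
    (h : Commute e (a * b * c)) : c = e := by
  have hab : a * b = b * a := h₁.eq
  have hac : a * c = c * a := h₂.eq
  have hbc : b * c = c * b := h₃.eq
  -- `c * e * c = b * a * e * a * b`
  have h1 : c * e * c = b * (a * e * a) * b := by
    have h4 : e * (a * b * c) = a * b * c * e := h.eq
    have h5 : b * (a * (e * (a * b * c))) * c = b * (a * (a * b * c * e)) * c := by rw [h4]
    calc c * e * c = b * (a * (a * b * c * e)) * c := by
          simp only [mul_assoc, mul_self_cancel_left' ha2, mul_self_cancel_left' hb2]
      _ = b * (a * (e * (a * b * c))) * c := h5.symm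
      _ = b * (a * e * a) * b := by
          simp only [mul_assoc, hc2, mul_one]
  -- hence `e * c * e = (e * b * e) * a * (e * b * e)`
  have h2 : e * c * e = e * b * e * a * (e * b * e) := by
    rw [hec, h1, ← hea, heb]
    have hba : b * a * b = a := by rw [← hab, mul_assoc, hb2, mul_one]
    calc b * (e * a * e) * b = (b * e * b) * (b * a * b) * (b * e * b) := by
          simp only [mul_assoc, mul_self_cancel_left' hb2]
      _ = b * e * b * a * (b * e * b) := by rw [hba]
  -- cancel the outer `e`s
  have h3 : c = b * e * a * e * b := by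
    have h6 : e * (e * c * e) * e = e * (e * b * e * a * (e * b * e)) * e := by rw [h2]
    simp only [mul_assoc, mul_self_cancel_left' he2, he2, mul_one] at h6
    simpa only [mul_assoc] using h6
  -- so `c = (a b) e (a b)`
  have h4 : c = a * b * e * (a * b) := by
    rw [h3]
    calc b * e * a * e * b = b * (e * a * e) * b := by simp only [mul_assoc]
      _ = b * (a * e * a) * b := by rw [hea]
      _ = (b * a) * e * (a * b) := by simp only [mul_assoc]
      _ = a * b * e * (a * b) := by rw [← hab]
  -- conjugating by `a * b`, which commutes with `c`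
  have habab : a * b * (a * b) = 1 := by
    calc a * b * (a * b) = a * (b * a) * b := by simp only [mul_assoc]
      _ = a * (a * b) * b := by rw [hab]
      _ = 1 := by simp only [mul_assoc, mul_self_cancel_left' ha2, hb2]
  have hcab : a * b * c = c * (a * b) := (h₂.mul_left h₃).eq
  have h5 : a * b * c * (a * b) = c := by
    rw [hcab, mul_assoc, habab, mul_one]
  have h6 : a * b * c * (a * b) = e := by
    calc a * b * c * (a * b) = a * b * (a * b * e * (a * b)) * (a * b) := by rw [← h4]
      _ = (a * b * (a * b)) * e * (a * b * (a * b)) := by simp only [mul_assoc]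
      _ = e := by rw [habab, one_mul, mul_one]
  rw [← h5, h6]

/-- For three distinct, pairwise commuting members a, b, c of a set of 3-transpositions E, a member e of E centralises a * b * c if and only if it centralises each of a, b and c. -/
theorem result {G : Type*} [Group G] {E : Set G} (hE : Cfsg.IsThreeTranspositionSet E) {a b c e : G} (ha : a ∈ E) (hb : b ∈ E) (hc : c ∈ E) (he : e ∈ E) (hab : a ≠ b) (hac : a ≠ c) (hbc : b ≠ c) (h₁ : Commute a b) (h₂ : Commute a c) (h₃ : Commute b c) : Commute e (a * b * c) ↔ (Commute e a ∧ Commute e b ∧ Commute e c) := by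
  obtain ⟨hord, hprod⟩ := hE
  have ha2 : a * a = 1 := Cfsg.Agent.Lib.helper10.mul_self_of_orderOf_two (hord a ha)
  have hb2 : b * b = 1 := Cfsg.Agent.Lib.helper10.mul_self_of_orderOf_two (hord b hb)
  have hc2 : c * c = 1 := Cfsg.Agent.Lib.helper10.mul_self_of_orderOf_two (hord c hc)
  have he2 : e * e = 1 := Cfsg.Agent.Lib.helper10.mul_self_of_orderOf_two (hord e he)
  constructor
  · intro h
    -- if `e` commutes with one of them, reduce to the two-element statement
    have casea : Commute e a → Commute e a ∧ Commute e b ∧ Commute e c := by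
      intro h1
      have h2 : Commute e (b * c) := by
        have h3 : Commute e (a⁻¹ * (a * b * c)) := h1.inv_right.mul_right h
        have h4 : a⁻¹ * (a * b * c) = b * c := by group
        rwa [h4] at h3
      exact ⟨h1, Cfsg.Agent.S0436.core hb2 hc2 he2 (hprod e he b hb) (hprod e he c hc) hbc h2⟩
    have caseb : Commute e b → Commute e a ∧ Commute e b ∧ Commute e c := by
      intro h1
      have h2 : Commute e (a * c) := by
        have h3 : Commute e (b⁻¹ * (a * b * c)) := h1.inv_right.mul_right h
        have h4 : b⁻¹ * (a * b * c) = a * c := by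
          rw [h₁.eq]; group
        rwa [h4] at h3
      have h5 := Cfsg.Agent.S0436.core ha2 hc2 he2 (hprod e he a ha) (hprod e he c hc) hac h2
      exact ⟨h5.1, h1, h5.2⟩
    have casec : Commute e c → Commute e a ∧ Commute e b ∧ Commute e c := by
      intro h1
      have h2 : Commute e (a * b) := by
        have h3 : Commute e (a * b * c * c⁻¹) := h.mul_right h1.inv_right
        have h4 : a * b * c * c⁻¹ = a * b := by group
        rwa [h4] at h3
      have h5 := Cfsg.Agent.S0436.core ha2 hb2 he2 (hprod e he a ha) (hprod e he b hb) hab h2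
      exact ⟨h5.1, h5.2, h1⟩
    rcases hprod e he a ha with hea | hea
    · exact casea (Cfsg.Agent.Lib.helper10.commute_of_invol_sq he2 ha2 hea)
    rcases hprod e he b hb with heb | heb
    · exact caseb (Cfsg.Agent.Lib.helper10.commute_of_invol_sq he2 hb2 heb)
    rcases hprod e he c hc with hec | hec
    · exact casec (Cfsg.Agent.Lib.helper10.commute_of_invol_sq he2 hc2 hec)
    have hce : c = e := all_braid_absurd ha2 hb2 hc2 he2
      (Cfsg.Agent.Lib.helper10.braid_of_invol_cube he2 ha2 hea)
      (Cfsg.Agent.Lib.helper10.braid_of_invol_cube he2 hb2 heb)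
      (Cfsg.Agent.Lib.helper10.braid_of_invol_cube he2 hc2 hec) h₁ h₂ h₃ h
    exact casec (hce ▸ Commute.refl c)
  · rintro ⟨h1, h2, h3⟩
    exact (h1.mul_right h2).mul_right h3

end Cfsg.Agent.S0437
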