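import Cfsg.Statements.S0439

set_option autoImplicit false
open Cfsg

namespace Cfsg.Agent.S0439

/-- Two swaps sharing exactly one point: the product cubes to one. -/
theorem swap_cube {α : Type*} [DecidableEq α] {a b c : α} (hab : a ≠ b) (hac : a ≠ c)
    (hbc : b ≠ c) : (Equiv.swap a b * Equiv.swap a c) ^ 3 = 1 := by
  have h1 : Equiv.swap a b * Equiv.swap c a * Equiv.swap a b = Equiv.swap b c :=
    Equiv.swap_mul_swap_mul_swap hac.symm hbc.symm
  have h2 : Equiv.swap a c * Equiv.swap b a * Equiv.swap a c = Equiv.swap c b :=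
    Equiv.swap_mul_swap_mul_swap hab.symm hbc
  rw [Equiv.swap_comm c a] at h1
  rw [Equiv.swap_comm b a, Equiv.swap_comm c b] at h2
  calc (Equiv.swap a b * Equiv.swap a c) ^ 3
      = (Equiv.swap a b * Equiv.swap a c * Equiv.swap a b) *
          (Equiv.swap a c * Equiv.swap a b * Equiv.swap a c) := by
        rw [pow_succ, pow_succ, pow_one]; simp only [mul_assoc]
    _ = 1 := by rw [h1, h2, Equiv.swap_mul_self]

/-- The product of two swaps squares or cubes to one. -/
theorem swap_mul_swap_sq_or_cube {α : Type*} [DecidableEq α] {a b c d : α} (hab : a ≠ b)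
    (hcd : c ≠ d) :
    (Equiv.swap a b * Equiv.swap c d) ^ 2 = 1 ∨ (Equiv.swap a b * Equiv.swap c d) ^ 3 = 1 := by
  by_cases hca : c = a
  · subst hca
    by_cases hdb : d = b
    · subst hdb
      left
      rw [Equiv.swap_mul_self, one_pow]
    · right
      exact swap_cube hab hcd (Ne.symm hdb)
  by_cases hcb : c = b
  · subst hcb
    by_cases hda : d = a
    · subst hda
      left
      rw [Equiv.swap_comm d c, Equiv.swap_mul_self, one_pow]
    · right
      rw [Equiv.swap_comm a c]
      exact swap_cube (Ne.symm hab) hcd (Ne.symm hda)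
  by_cases hda : d = a
  · subst hda
    right
    rw [Equiv.swap_comm c d]
    exact swap_cube hab (Ne.symm hcd) (Ne.symm hcb)
  by_cases hdb : d = b
  · subst hdb
    right
    rw [Equiv.swap_comm c d, Equiv.swap_comm a d]
    exact swap_cube (Ne.symm hab) (Ne.symm hcd) (Ne.symm hca)
  left
  have hdisj : Equiv.Perm.Disjoint (Equiv.swap a b) (Equiv.swap c d) := by
    apply Equiv.Perm.disjoint_swap_swap
    simp only [List.nodup_cons, List.mem_cons, List.not_mem_nil, or_false, not_or,
      List.nodup_nil, and_true, not_false_eq_true]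
    exact ⟨⟨hab, Ne.symm hca, Ne.symm hda⟩, ⟨Ne.symm hcb, Ne.symm hdb⟩, hcd⟩
  have hc : Commute (Equiv.swap a b) (Equiv.swap c d) := hdisj.commute
  rw [hc.mul_pow, pow_two, pow_two, Equiv.swap_mul_self, Equiv.swap_mul_self, one_mul]

/-- In the symmetric group of degree n ≥ 2, the set of transpositions is a conjugacy class of 3-transpositions which generates the group. -/
theorem result (n : ℕ) (hn : 2 ≤ n) : Cfsg.IsThreeTranspositionClass {σ : Equiv.Perm (Fin n) | σ.IsSwap} := by
  refine ⟨⟨?_, ?_⟩, ?_, ?_⟩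
  · intro d hd
    exact Equiv.Perm.IsSwap.orderOf hd
  · rintro d ⟨a, b, hab, rfl⟩ e ⟨c, d', hcd, rfl⟩
    exact swap_mul_swap_sq_or_cube hab hcd
  · have h01 : (⟨0, by omega⟩ : Fin n) ≠ ⟨1, by omega⟩ := by
      intro h
      have := congrArg Fin.val h
      simp at this
    refine ⟨Equiv.swap ⟨0, by omega⟩ ⟨1, by omega⟩, ⟨_, _, h01, rfl⟩, ?_⟩
    ext σ
    show σ.IsSwap ↔ IsConj _ σ
    constructor
    · rintro ⟨a, b, hab, rfl⟩
      exact Equiv.Perm.isConj_swap h01 hab
    · intro h
      rw [isConj_iff] at h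
      obtain ⟨c, hc⟩ := h
      rw [← hc]
      refine ⟨c ⟨0, by omega⟩, c ⟨1, by omega⟩, fun h => h01 (c.injective h), ?_⟩
      rw [Equiv.swap_apply_apply]
  · exact Equiv.Perm.closure_isSwap

end Cfsg.Agent.S0439
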