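import Cfsg.Statements.S0440
import Cfsg.Agent.Lib.helper10.SpTwoTransv

set_option autoImplicit false
open Cfsg

namespace Cfsg.Agent.S0440

open Cfsg.Agent.Lib.helper10 Cfsg.Agent.Lib.helper17

/-- In the symplectic group in dimension 2n ≥ 2 over the field with two elements, the elements g for which g - 1 has rank one (the symplectic transvections) form a conjugacy class of 3-transpositions generating the group. -/
theorem result (n : ℕ) (hn : 1 ≤ n) : Cfsg.IsThreeTranspositionClass {g : Matrix.symplecticGroup (Fin n) (ZMod 2) | ((g : Matrix (Fin n ⊕ Fin n) (Fin n ⊕ Fin n) (ZMod 2)) - 1).rank = 1} := by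
  have hmem : ∀ w : Fin n ⊕ Fin n → ZMod 2, w ≠ 0 →
      tv2 n w ∈ {g : Matrix.symplecticGroup (Fin n) (ZMod 2) |
        ((g : Matrix (Fin n ⊕ Fin n) (Fin n ⊕ Fin n) (ZMod 2)) - 1).rank = 1} :=
    fun w hw => tv2_rank n w hw
  have hex : ∀ g ∈ {g : Matrix.symplecticGroup (Fin n) (ZMod 2) |
      ((g : Matrix (Fin n ⊕ Fin n) (Fin n ⊕ Fin n) (ZMod 2)) - 1).rank = 1},
      ∃ w, w ≠ 0 ∧ g = tv2 n w := fun g hg => exists_tv2_of_rank n hg
  have hne1 : ∀ w : Fin n ⊕ Fin n → ZMod 2, w ≠ 0 → tv2 n w ≠ 1 := by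
    intro w hw h1
    have := tv2_rank n w hw
    rw [h1, Submonoid.coe_one, sub_self, Matrix.rank_zero] at this
    exact zero_ne_one this
  refine ⟨⟨?_, ?_⟩, ?_, ?_⟩
  · intro d hd
    obtain ⟨w, hw, rfl⟩ := hex d hd
    exact orderOf_eq_prime (by rw [pow_two, tv2_mul_self]) (hne1 w hw)
  · intro d hd e he
    obtain ⟨u, hu, rfl⟩ := hex d hd
    obtain ⟨w, hw, rfl⟩ := hex e he
    rcases zmod2_cases (sympForm n (ZMod 2) u w) with h | h
    · left
      rw [pow_two, mul_assoc, ← mul_assoc (tv2 n w), ← tv2_comm n u w h, mul_assoc, tv2_mul_self,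
        mul_one, tv2_mul_self]
    · right
      exact tv2_cube n u w h
  · have he0 : (Pi.single (Sum.inl ⟨0, hn⟩) 1 : Fin n ⊕ Fin n → ZMod 2) ≠ 0 := by
      intro h
      have := congrFun h (Sum.inl ⟨0, hn⟩)
      simp at this
    refine ⟨tv2 n (Pi.single (Sum.inl ⟨0, hn⟩) 1), hmem _ he0, ?_⟩
    ext g
    show _ ↔ IsConj _ g
    rw [isConj_iff]
    constructor
    · intro hg
      obtain ⟨w, hw, rfl⟩ := hex g hg
      obtain ⟨A, -, hA⟩ := transv_transitive_vectors n _ w he0 hw
      exact ⟨A, by rw [tv2_conj, hA]⟩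
    · rintro ⟨c, rfl⟩
      rw [tv2_conj]
      apply hmem
      intro h0
      obtain ⟨y, hy⟩ := exists_sympForm_ne_zero n _ he0
      have := sympForm_mulVec_of_mem n c.2 (Pi.single (Sum.inl ⟨0, hn⟩) 1) y
      rw [h0, sympForm_zero_left] at this
      exact hy this.symm
  · rw [eq_top_iff, ← transvSubgroup_eq_top n (F := ZMod 2), transvSubgroup, Subgroup.closure_le]
    rintro A ⟨w, c, hA⟩
    rcases zmod2_cases c with rfl | rfl
    · have : A = 1 := Subtype.ext (by rw [hA]; simp [sympTransvection])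
      rw [this]; exact Subgroup.one_mem _
    · by_cases hw : w = 0
      · have : A = 1 := Subtype.ext (by rw [hA, hw]; simp [sympTransvection])
        rw [this]; exact Subgroup.one_mem _
      · have : A = tv2 n w := Subtype.ext hA
        rw [this]; exact Subgroup.subset_closure (hmem w hw)

end Cfsg.Agent.S0440
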