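import Cfsg.Statements.S0442
import Mathlib

set_option autoImplicit false
open Cfsg

namespace Cfsg.Agent.S0442

/-- A standard trick for producing elements of an involution centraliser: for an involution a and an element g, let b be the conjugate g⁻¹ * a * g. If a * b has odd order 2m + 1 then g * (a * b) ^ m commutes with a; if a * b has even order 2m then (a * b) ^ m and (a * (g * a * g⁻¹)) ^ m commute with a. -/
theorem result {G : Type*} [Group G] (a g : G) (ha : orderOf a = 2) : (∀ m : ℕ, orderOf (a * (g⁻¹ * a * g)) = 2 * m + 1 → Commute (g * (a * (g⁻¹ * a * g)) ^ m) a) ∧ (∀ m : ℕ, orderOf (a * (g⁻¹ * a * g)) = 2 * m → Commute ((a * (g⁻¹ * a * g)) ^ m) a ∧ Commute ((a * (g * a * g⁻¹)) ^ m) a) := by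
  have ha2 : a * a = 1 := by rw [← pow_two, ← ha, pow_orderOf_eq_one]
  have hainv : a⁻¹ = a := inv_eq_of_mul_eq_one_right ha2
  -- b := g⁻¹ * a * g is an involution
  have hb2 : (g⁻¹ * a * g) * (g⁻¹ * a * g) = 1 := by
    calc (g⁻¹ * a * g) * (g⁻¹ * a * g) = g⁻¹ * (a * a) * g := by group
      _ = 1 := by rw [ha2]; group
  have hbinv : (g⁻¹ * a * g)⁻¹ = g⁻¹ * a * g := inv_eq_of_mul_eq_one_right hb2
  have hc2 : (g * a * g⁻¹) * (g * a * g⁻¹) = 1 := by
    calc (g * a * g⁻¹) * (g * a * g⁻¹) = g * (a * a) * g⁻¹ := by group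
      _ = 1 := by rw [ha2]; group
  have hcinv : (g * a * g⁻¹)⁻¹ = g * a * g⁻¹ := inv_eq_of_mul_eq_one_right hc2
  -- general fact: for involutions `u v`, `u * (u * v) ^ m * u = ((u * v) ^ m)⁻¹`
  have cp : ∀ (u v : G), u⁻¹ = u → v⁻¹ = v → ∀ m : ℕ,
      u * (u * v) ^ m * u⁻¹ = ((u * v) ^ m)⁻¹ := by
    intro u v hu hv m
    rw [← conj_pow, ← inv_pow]
    congr 1
    have huu : u * u = 1 := by
      nth_rewrite 1 [← hu]
      exact inv_mul_cancel u
    rw [mul_inv_rev, hv, ← mul_assoc, huu, one_mul]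
  constructor
  · intro m hm
    have hz : (a * (g⁻¹ * a * g)) ^ (2 * m + 1) = 1 := by rw [← hm]; exact pow_orderOf_eq_one _
    have h5 : a * g = g * (g⁻¹ * a * g) := by group
    generalize g⁻¹ * a * g = b at hbinv hz h5 ⊢
    -- `(a*b)^m * a = b * (a*b)^m`
    have h1 : a * (a * b) ^ m * a⁻¹ = ((a * b) ^ m)⁻¹ := cp a b hainv hbinv m
    have h2 : ((a * b) ^ m)⁻¹ = (a * b) ^ (m + 1) := by
      apply inv_eq_of_mul_eq_one_right
      rw [← pow_add]
      have : m + (m + 1) = 2 * m + 1 := by ring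
      rw [this, hz]
    have h3 : a * (a * b) ^ m * a = (a * b) * (a * b) ^ m := by
      rw [hainv] at h1
      rw [h1, h2, pow_succ']
    -- so `b * (a*b)^m = (a*b)^m * a`
    have h4 : b * (a * b) ^ m = (a * b) ^ m * a := by
      have : a * (a * (a * b) ^ m * a) = a * ((a * b) * (a * b) ^ m) := by rw [h3]
      simp only [← mul_assoc, ha2, one_mul] at this
      exact this.symm
    show (g * (a * b) ^ m) * a = a * (g * (a * b) ^ m)
    calc (g * (a * b) ^ m) * a = g * ((a * b) ^ m * a) := mul_assoc _ _ _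
      _ = g * (b * (a * b) ^ m) := by rw [h4]
      _ = (g * b) * (a * b) ^ m := (mul_assoc _ _ _).symm
      _ = (a * g) * (a * b) ^ m := by rw [h5]
      _ = a * (g * (a * b) ^ m) := mul_assoc _ _ _
  · intro m hm
    have key : ∀ v : G, v⁻¹ = v → (a * v) ^ (2 * m) = 1 → Commute ((a * v) ^ m) a := by
      intro v hv hz
      have h1 : a * (a * v) ^ m * a⁻¹ = ((a * v) ^ m)⁻¹ := cp a v hainv hv m
      have h2 : ((a * v) ^ m)⁻¹ = (a * v) ^ m := by
        apply inv_eq_of_mul_eq_one_right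
        rw [← pow_add]
        have : m + m = 2 * m := by ring
        rw [this, hz]
      rw [h2] at h1
      show (a * v) ^ m * a = a * (a * v) ^ m
      have : a * (a * v) ^ m * a⁻¹ * a = (a * v) ^ m * a := by rw [h1]
      rw [← this]; group
    refine ⟨key _ hbinv (by rw [← hm]; exact pow_orderOf_eq_one _), key _ hcinv ?_⟩
    -- `a * (g a g⁻¹)` is conjugate to the inverse of `a * (g⁻¹ a g)`
    have hconj : a * (g * a * g⁻¹) = g * (a * (g⁻¹ * a * g))⁻¹ * g⁻¹ := by
      rw [mul_inv_rev, hbinv, hainv]; group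
    rw [hconj, conj_pow, inv_pow, ← hm, pow_orderOf_eq_one]
    group

end Cfsg.Agent.S0442
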