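import Cfsg.Statements.S0445
import Mathlib

set_option autoImplicit false
open Cfsg

namespace Cfsg.Agent.S0445

open Matrix

/-- The elementary matrix `E₀₁`. -/
def E5 : Matrix (Fin 5) (Fin 5) (ZMod 2) := Matrix.single 0 1 1

theorem comm_iff (g : Matrix (Fin 5) (Fin 5) (ZMod 2)) :
    E5 * g = g * E5 ↔
      (g 1 1 = g 0 0 ∧ (∀ j, j ≠ 1 → g 1 j = 0) ∧ (∀ i, i ≠ 0 → g i 0 = 0)) := by
  unfold E5
  constructor
  · intro h
    have key : ∀ i j : Fin 5, ((Matrix.single 0 1 1 : Matrix (Fin 5) (Fin 5) (ZMod 2)) * g) i j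
        = (g * (Matrix.single 0 1 1 : Matrix (Fin 5) (Fin 5) (ZMod 2))) i j :=
      fun i j => by rw [h]
    refine ⟨?_, ?_, ?_⟩
    · have := key 0 1
      rw [Matrix.single_mul_apply_same, Matrix.mul_single_apply_same] at this
      simpa using this
    · intro j hj
      have := key 0 j
      rw [Matrix.single_mul_apply_same, Matrix.mul_single_apply_of_ne (hbj := hj)] at this
      simpa using this
    · intro i hi
      have := key i 1
      rw [Matrix.single_mul_apply_of_ne (h := hi), Matrix.mul_single_apply_same] at this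
      simpa using this.symm
  · rintro ⟨h1, h2, h3⟩
    ext i j
    by_cases hi : i = 0
    · subst hi
      rw [Matrix.single_mul_apply_same]
      by_cases hj : j = 1
      · subst hj
        rw [Matrix.mul_single_apply_same]; simp [h1]
      · rw [Matrix.mul_single_apply_of_ne (hbj := hj), h2 j hj]; simp
    · rw [Matrix.single_mul_apply_of_ne (h := hi)]
      by_cases hj : j = 1
      · subst hj
        rw [Matrix.mul_single_apply_same, h3 i hi]; simp
      · rw [Matrix.mul_single_apply_of_ne (hbj := hj)]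

theorem det_of_col_zero {n : ℕ} (A : Matrix (Fin (n + 1)) (Fin (n + 1)) (ZMod 2))
    (h : ∀ i : Fin n, A i.succ 0 = 0) :
    A.det = A 0 0 * (A.submatrix Fin.succ Fin.succ).det := by
  rw [Matrix.det_succ_column_zero, Fin.sum_univ_succ]
  simp [h]

theorem det_of_row_zero {n : ℕ} (A : Matrix (Fin (n + 1)) (Fin (n + 1)) (ZMod 2))
    (h : ∀ j : Fin n, A 0 j.succ = 0) :
    A.det = A 0 0 * (A.submatrix Fin.succ Fin.succ).det := by
  rw [Matrix.det_succ_row_zero, Fin.sum_univ_succ]
  simp [h]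

/-- Determinant of a matrix of the centraliser shape. -/
theorem det_shape (g : Matrix (Fin 5) (Fin 5) (ZMod 2))
    (h2 : ∀ j, j ≠ 1 → g 1 j = 0) (h3 : ∀ i, i ≠ 0 → g i 0 = 0) :
    g.det = g 0 0 * (g 1 1 * (g.submatrix (fun i : Fin 3 => i.succ.succ)
      (fun i : Fin 3 => i.succ.succ)).det) := by
  rw [det_of_col_zero g (fun i => h3 _ (Fin.succ_ne_zero i))]
  rw [det_of_row_zero (g.submatrix Fin.succ Fin.succ)
    (fun j => h2 _ (by
      intro h
      have := congrArg Fin.val h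
      simp at this))]
  rfl

theorem fin5_cases {P : Fin 5 → Prop} (h0 : P 0) (h1 : P 1) (h2 : ∀ i : Fin 3, P i.succ.succ) :
    ∀ i, P i := by
  intro i
  refine Fin.cases h0 (fun i => ?_) i
  refine Fin.cases h1 (fun i => ?_) i
  exact h2 i

/-- The matrix of centraliser shape with the given free entries. -/
def shape (r : Fin 4 → ZMod 2) (c : Fin 3 → ZMod 2) (h : Matrix (Fin 3) (Fin 3) (ZMod 2)) :
    Matrix (Fin 5) (Fin 5) (ZMod 2) :=
  Matrix.of (Fin.cons (Fin.cons 1 r)
    (Fin.cons (Fin.cons 0 (Fin.cons 1 0)) (fun i : Fin 3 => Fin.cons 0 (Fin.cons (c i) (h i)))))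

theorem zmod2_prod {a b d : ZMod 2} (h : a * (b * d) = 1) : a = 1 ∧ b = 1 ∧ d = 1 := by
  revert a b d; decide

theorem shape_spec (r : Fin 4 → ZMod 2) (c : Fin 3 → ZMod 2)
    (h : Matrix (Fin 3) (Fin 3) (ZMod 2)) (hh : h.det = 1) :
    (shape r c h).det = 1 ∧ E5 * shape r c h = shape r c h * E5 := by
  have h2 : ∀ j, j ≠ 1 → shape r c h 1 j = 0 := by
    intro j
    refine fin5_cases (P := fun j => j ≠ 1 → shape r c h 1 j = 0) ?_ ?_ ?_ j
    · intro _; rfl
    · intro hj; exact absurd rfl hj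
    · intro j _; rfl
  have h3 : ∀ i, i ≠ 0 → shape r c h i 0 = 0 := by
    intro i
    refine fin5_cases (P := fun i => i ≠ 0 → shape r c h i 0 = 0) ?_ ?_ ?_ i
    · intro hi; exact absurd rfl hi
    · intro _; rfl
    · intro i _; rfl
  refine ⟨?_, (comm_iff _).mpr ⟨rfl, h2, h3⟩⟩
  rw [det_shape _ h2 h3]
  have h4 : (shape r c h).submatrix (fun i : Fin 3 => i.succ.succ) (fun i : Fin 3 => i.succ.succ)
      = h := by
    ext i j; rfl
  rw [h4, hh]
  rfl

theorem cent_spec (g : Matrix (Fin 5) (Fin 5) (ZMod 2)) (hg : g.det = 1 ∧ E5 * g = g * E5) :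
    g 0 0 = 1 ∧ g 1 1 = 1 ∧ (∀ j, j ≠ 1 → g 1 j = 0) ∧ (∀ i, i ≠ 0 → g i 0 = 0) ∧
      (g.submatrix (fun i : Fin 3 => i.succ.succ) (fun i : Fin 3 => i.succ.succ)).det = 1 := by
  obtain ⟨hdet, hcomm⟩ := hg
  obtain ⟨h1, h2, h3⟩ := (comm_iff g).mp hcomm
  rw [det_shape g h2 h3] at hdet
  obtain ⟨ha, hb, hd⟩ := zmod2_prod hdet
  exact ⟨ha, hb, h2, h3, hd⟩

/-- The centraliser shape, parametrised. -/
def centEquiv : {g : Matrix (Fin 5) (Fin 5) (ZMod 2) // g.det = 1 ∧ E5 * g = g * E5} ≃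
    (Fin 4 → ZMod 2) × (Fin 3 → ZMod 2) ×
      {h : Matrix (Fin 3) (Fin 3) (ZMod 2) // h.det = 1} where
  toFun g := (fun j => g.1 0 j.succ, fun i => g.1 i.succ.succ 1,
    ⟨g.1.submatrix (fun i : Fin 3 => i.succ.succ) (fun i : Fin 3 => i.succ.succ),
      (cent_spec g.1 g.2).2.2.2.2⟩)
  invFun p := ⟨shape p.1 p.2.1 p.2.2.1, shape_spec p.1 p.2.1 p.2.2.1 p.2.2.2⟩
  left_inv g := by
    obtain ⟨g, hg⟩ := g
    obtain ⟨h00, h11, h2, h3, -⟩ := cent_spec g hg
    apply Subtype.ext
    ext i j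
    refine fin5_cases (P := fun i => shape _ _ _ i j = g i j) ?_ ?_ ?_ i
    · refine Fin.cases ?_ (fun j => ?_) j
      · exact h00.symm
      · rfl
    · refine fin5_cases (P := fun j => shape _ _ _ 1 j = g 1 j) ?_ ?_ ?_ j
      · exact (h2 0 (by decide)).symm
      · exact h11.symm
      · intro j
        exact (h2 _ (by
          intro h
          have := congrArg Fin.val h
          simp at this)).symm
    · intro i
      refine fin5_cases (P := fun j => shape _ _ _ i.succ.succ j = g i.succ.succ j) ?_ ?_ ?_ j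
      · exact (h3 _ (Fin.succ_ne_zero _)).symm
      · rfl
      · intro j; rfl
  right_inv p := by
    obtain ⟨r, c, h, hh⟩ := p
    rfl

theorem mem_cent_iff (s : Matrix.SpecialLinearGroup (Fin 5) (ZMod 2))
    (hs : (s : Matrix (Fin 5) (Fin 5) (ZMod 2)) = Matrix.transvection 0 1 1)
    (x : Matrix.SpecialLinearGroup (Fin 5) (ZMod 2)) :
    x ∈ Subgroup.centralizer ({s} : Set (Matrix.SpecialLinearGroup (Fin 5) (ZMod 2))) ↔
      E5 * x.1 = x.1 * E5 := by
  rw [Subgroup.mem_centralizer_iff]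
  simp only [Set.mem_singleton_iff, forall_eq]
  have key : (↑(s * x) : Matrix (Fin 5) (Fin 5) (ZMod 2)) = ↑(x * s) ↔ E5 * x.1 = x.1 * E5 := by
    rw [Matrix.SpecialLinearGroup.coe_mul, Matrix.SpecialLinearGroup.coe_mul, hs,
      Matrix.transvection, add_mul, mul_add, one_mul, mul_one, add_right_inj]
    rfl
  constructor
  · intro h
    exact key.mp (by rw [h])
  · intro h
    exact Subtype.ext (key.mpr h)

/-- The centraliser as a subtype of matrices. -/
def centEquiv0 (s : Matrix.SpecialLinearGroup (Fin 5) (ZMod 2))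
    (hs : (s : Matrix (Fin 5) (Fin 5) (ZMod 2)) = Matrix.transvection 0 1 1) :
    Subgroup.centralizer ({s} : Set (Matrix.SpecialLinearGroup (Fin 5) (ZMod 2))) ≃
      {g : Matrix (Fin 5) (Fin 5) (ZMod 2) // g.det = 1 ∧ E5 * g = g * E5} where
  toFun x := ⟨x.1.1, x.1.2, (mem_cent_iff s hs x.1).mp x.2⟩
  invFun g := ⟨⟨g.1, g.2.1⟩, (mem_cent_iff s hs ⟨g.1, g.2.1⟩).mpr g.2.2⟩
  left_inv _ := rfl
  right_inv _ := rfl

/-- Matrices of determinant one over the field with two elements are the invertible ones. -/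
noncomputable def slEquivGL : {h : Matrix (Fin 3) (Fin 3) (ZMod 2) // h.det = 1} ≃ GL (Fin 3) (ZMod 2) where
  toFun h := Matrix.GeneralLinearGroup.mk'' h.1 (by rw [h.2]; exact isUnit_one)
  invFun u := ⟨u.1, by
    have h1 : IsUnit (u.1 : Matrix (Fin 3) (Fin 3) (ZMod 2)).det :=
      (Matrix.isUnit_iff_isUnit_det _).mp u.isUnit
    have h2 : ∀ a : ZMod 2, IsUnit a → a = 1 := by decide
    exact h2 _ h1⟩
  left_inv h := by
    apply Subtype.ext
    rfl
  right_inv u := by
    apply Units.ext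
    rfl

theorem card_sl3 : Nat.card {h : Matrix (Fin 3) (Fin 3) (ZMod 2) // h.det = 1} = 168 := by
  rw [Nat.card_congr slEquivGL, Matrix.card_GL_field]
  simp [Fin.prod_univ_succ, ZMod.card]

/-- In the special linear group of dimension 5 over the field with two elements, the centraliser of a transvection has order 21504 = 2 ^ 7 · 168 (it is an extension of an extraspecial group of order 2 ^ 7 by the simple group of order 168). -/
theorem result (s : Matrix.SpecialLinearGroup (Fin 5) (ZMod 2)) (hs : (s : Matrix (Fin 5) (Fin 5) (ZMod 2)) = Matrix.transvection 0 1 1) : Nat.card (Subgroup.centralizer ({s} : Set (Matrix.SpecialLinearGroup (Fin 5) (ZMod 2)))) = 21504 := by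
  rw [Nat.card_congr (centEquiv0 s hs), Nat.card_congr centEquiv, Nat.card_prod, Nat.card_prod,
    card_sl3]
  simp

end Cfsg.Agent.S0445
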