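import Cfsg.Statements.S0446

set_option autoImplicit false
open Cfsg

namespace Cfsg.Agent.S0446

/-- Every finite group of even order contains a 2-central involution, i.e. an element of order 2 in the centre of some Sylow 2-subgroup. -/
theorem result {G : Type*} [Group G] [Finite G] (h : Even (Nat.card G)) : ∃ t : G, Cfsg.IsTwoCentralInvolution t := by
  have : Fact (Nat.Prime 2) := ⟨Nat.prime_two⟩
  obtain ⟨P⟩ : Nonempty (Sylow 2 G) := inferInstance
  have h2 : 2 ∣ Nat.card G := even_iff_two_dvd.mp h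
  have hP2 : 2 ∣ Nat.card P := P.dvd_card_of_dvd_card h2
  have hPn : Nontrivial P := by
    rw [← Finite.one_lt_card_iff_nontrivial]
    exact lt_of_lt_of_le one_lt_two (Nat.le_of_dvd Nat.card_pos hP2)
  have hcn : Nontrivial (Subgroup.center P) := IsPGroup.center_nontrivial P.isPGroup'
  have hcp : IsPGroup 2 (Subgroup.center P) := P.isPGroup'.to_subgroup _
  obtain ⟨n, hn0, hn⟩ := hcp.nontrivial_iff_card.mp hcn
  have h2c : 2 ∣ Nat.card (Subgroup.center P) := by rw [hn]; exact dvd_pow_self 2 (ne_of_gt hn0)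
  obtain ⟨z, hz⟩ := exists_prime_orderOf_dvd_card' 2 h2c
  refine ⟨((z : P) : G), ?_, P, (z : P).2, ?_⟩
  · rw [Subgroup.orderOf_coe, Subgroup.orderOf_coe]; exact hz
  · intro x hx
    have h3 := z.2
    rw [Subgroup.mem_center_iff] at h3
    exact congrArg Subtype.val (h3 ⟨x, hx⟩)

end Cfsg.Agent.S0446
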