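import Cfsg.Statements.S0447
import Mathlib
import Cfsg.Agent.S0891
-- import your own Cfsg.Agent.* helpers here

set_option autoImplicit false
open Cfsg

namespace Cfsg.Agent.S0447

section helpers

open Equiv

section dih
variable {G : Type*} [Group G] (m : ℕ) [NeZero m] (A R : G)

lemma pow_val_add (hR : R ^ m = 1) (i j : ZMod m) : R ^ (i + j).val = R ^ i.val * R ^ j.val := by
  rw [ZMod.val_add, ← pow_add, ← pow_eq_pow_mod (i.val + j.val) hR]

lemma conj_pow (hA : A * A = 1) (hAR : A * R * A = R⁻¹) (k : ℕ) : A * R ^ k * A = (R ^ k)⁻¹ := by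
  induction k with
  | zero => simpa using hA
  | succ k ih =>
    calc A * R ^ (k + 1) * A = (A * R ^ k * A) * (A * R * A) := by
          rw [pow_succ]
          calc A * (R ^ k * R) * A = A * R ^ k * (1 * (R * A)) := by group
            _ = A * R ^ k * ((A * A) * (R * A)) := by rw [hA]
            _ = _ := by group
      _ = (R ^ (k + 1))⁻¹ := by rw [ih, hAR, pow_succ', mul_inv_rev]

/-- The homomorphism from the dihedral group determined by a reflection and a rotation. -/
def dihHom (hA : A * A = 1) (hR : R ^ m = 1) (hAR : A * R * A = R⁻¹) : DihedralGroup m →* G where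
  toFun := fun d => match d with
    | DihedralGroup.r i => R ^ i.val
    | DihedralGroup.sr i => A * R ^ i.val
  map_one' := by
    show R ^ (0 : ZMod m).val = 1
    simp
  map_mul' := by
    rintro (i | i) (j | j)
    · show R ^ (i + j).val = R ^ i.val * R ^ j.val
      exact pow_val_add m R hR i j
    · show A * R ^ (j - i).val = R ^ i.val * (A * R ^ j.val)
      have h1 := pow_val_add m R hR i (j - i)
      rw [add_sub_cancel] at h1
      have h2 := conj_pow A R hA hAR i.val
      have h3 : R ^ i.val * A = A * (R ^ i.val)⁻¹ := by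
        rw [← h2]
        calc R ^ i.val * A = (A * A) * (R ^ i.val * A) := by rw [hA, one_mul]
          _ = _ := by group
      rw [← mul_assoc, h3, h1]; group
    · show A * R ^ (i + j).val = A * R ^ i.val * R ^ j.val
      rw [pow_val_add m R hR i j, mul_assoc]
    · show R ^ (j - i).val = A * R ^ i.val * (A * R ^ j.val)
      have h1 := pow_val_add m R hR i (j - i)
      rw [add_sub_cancel] at h1
      have h2 := conj_pow A R hA hAR i.val
      rw [← mul_assoc, h2, h1]; group

lemma dihHom_r (hA : A * A = 1) (hR : R ^ m = 1) (hAR : A * R * A = R⁻¹) (i : ZMod m) :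
    dihHom m A R hA hR hAR (DihedralGroup.r i) = R ^ i.val := rfl

lemma dihHom_sr (hA : A * A = 1) (hR : R ^ m = 1) (hAR : A * R * A = R⁻¹) (i : ZMod m) :
    dihHom m A R hA hR hAR (DihedralGroup.sr i) = A * R ^ i.val := rfl

end dih

open scoped IsMulCommutative in
/-- Transfer argument: a homomorphic section over a subgroup of odd index splits a centre of order 2. -/
lemma complement_of_section {H P D : Type*} [Group H] [Finite H] [Group P] [Group D]
    (π : H →* P) (hπ : Function.Surjective π) (hker : π.ker = Subgroup.center H)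
    (hZ : Nat.card (Subgroup.center H) = 2)
    (ι : D →* P) (hι : Function.Injective ι) (s : D →* H) (hs : ∀ d, π (s d) = ι d)
    (hodd : Odd (ι.range.index)) :
    ∃ L : Subgroup H, (Subgroup.center H).IsComplement' L := by
  classical
  obtain ⟨z, hz1, hzuniq⟩ := (Nat.card_eq_two_iff' (1 : Subgroup.center H)).1 hZ
  have hzz : z * z = 1 := by
    by_contra h
    have h2 := hzuniq (z * z) h
    exact hz1 (by simpa using h2)
  let T : Subgroup H := ι.range.comap π
  have hTidx : T.index = ι.range.index := Subgroup.index_comap_of_surjective _ hπ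
  let δ : T →* D := ((MonoidHom.ofInjective hι).symm.toMonoidHom).comp (π.subgroupComap ι.range)
  have hδ : ∀ t : T, ι (δ t) = π t := by
    intro t
    have h1 := (MonoidHom.ofInjective hι).apply_symm_apply (π.subgroupComap ι.range t)
    have h2 := congrArg Subtype.val h1
    rw [MonoidHom.ofInjective_apply] at h2
    exact h2
  have hmem : ∀ t : T, (t : H) * (s (δ t))⁻¹ ∈ Subgroup.center H := by
    intro t
    rw [← hker, MonoidHom.mem_ker, map_mul, map_inv, hs, hδ, mul_inv_cancel]
  let ϕ : T →* Subgroup.center H :=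
    { toFun := fun t => ⟨(t : H) * (s (δ t))⁻¹, hmem t⟩
      map_one' := by
        apply Subtype.ext
        simp
      map_mul' := fun t t' => by
        apply Subtype.ext
        have hc := hmem t'
        rw [Subgroup.mem_center_iff] at hc
        show ((t * t' : T) : H) * (s (δ (t * t')))⁻¹ =
          ((t : H) * (s (δ t))⁻¹) * ((t' : H) * (s (δ t'))⁻¹)
        rw [map_mul, map_mul, mul_inv_rev, Subgroup.coe_mul]
        calc (t : H) * t' * ((s (δ t'))⁻¹ * (s (δ t))⁻¹)
            = t * ((t' * (s (δ t'))⁻¹) * (s (δ t))⁻¹) := by group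
          _ = t * ((s (δ t))⁻¹ * (t' * (s (δ t'))⁻¹)) := by rw [hc]
          _ = _ := by group }
  let τ := MonoidHom.transfer ϕ
  have hz2 : (z : H) ^ 2 = 1 := by
    rw [pow_two]; exact congrArg Subtype.val hzz
  have hpow : (z : H) ^ T.index = z := by
    rw [hTidx]
    obtain ⟨k, hk⟩ := hodd
    rw [hk, pow_succ, pow_mul, hz2, one_pow, one_mul]
  have hτz : τ (z : H) = z := by
    have key : ∀ (k : ℕ) (g₀ : H), g₀⁻¹ * (z : H) ^ k * g₀ ∈ T →
        g₀⁻¹ * (z : H) ^ k * g₀ = (z : H) ^ k := by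
      intro k g₀ _
      have hzc : (z : H) ^ k ∈ Subgroup.center H := Subgroup.pow_mem _ z.2 k
      rw [Subgroup.mem_center_iff] at hzc
      rw [mul_assoc, ← hzc g₀, inv_mul_cancel_left]
    have h1 := MonoidHom.transfer_eq_pow ϕ (z : H) key
    show MonoidHom.transfer ϕ (z : H) = z
    rw [h1]
    apply Subtype.ext
    have hδ1 : δ ⟨(z : H) ^ T.index, MonoidHom.transfer_eq_pow_aux (z : H) key⟩ = 1 := by
      apply hι
      rw [hδ, map_one]
      show π ((z : H) ^ T.index) = 1
      rw [hpow]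
      have : (z : H) ∈ π.ker := by rw [hker]; exact z.2
      exact this
    show ((z : H) ^ T.index) * (s (δ ⟨(z : H) ^ T.index, _⟩))⁻¹ = z
    rw [hδ1, map_one, inv_one, mul_one, hpow]
  have hzL : (z : H) ∉ τ.ker := fun h => hz1 (by
    rw [MonoidHom.mem_ker, hτz] at h; exact h)
  have hdisj : Disjoint (Subgroup.center H) τ.ker := by
    rw [Subgroup.disjoint_def]
    intro g hgZ hgL
    by_contra hne
    have h2 : (⟨g, hgZ⟩ : Subgroup.center H) = z :=
      hzuniq _ (fun h => hne (congrArg Subtype.val h))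
    apply hzL
    rw [← h2]; exact hgL
  have hcard : Nat.card (Subgroup.center H) * Nat.card τ.ker = Nat.card H := by
    have hrange : Nat.card τ.range = 2 := by
      have htop : τ.range = ⊤ := by
        rw [eq_top_iff]
        intro y _
        by_cases hy : y = 1
        · rw [hy]; exact Subgroup.one_mem _
        · rw [hzuniq y hy]; exact ⟨z, hτz⟩
      rw [htop, Subgroup.card_top]; exact hZ
    have h1 := Subgroup.card_mul_index τ.ker
    rw [Subgroup.index_ker, hrange] at h1
    rw [hZ, mul_comm]; exact h1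
  exact ⟨τ.ker, Subgroup.isComplement'_of_card_mul_and_disjoint hcard hdisj⟩

lemma cycleType_dbl {α : Type*} [Fintype α] [DecidableEq α] {i j k l : α} (hij : i ≠ j)
    (hkl : k ≠ l) (hik : i ≠ k) (hil : i ≠ l) (hjk : j ≠ k) (hjl : j ≠ l) :
    (swap i j * swap k l).cycleType = {2, 2} := by
  have h1 : (swap i j).cycleType = {2} := by
    rw [(Equiv.Perm.isCycle_swap hij).cycleType, Equiv.Perm.card_support_swap hij]
  have h2 : (swap k l).cycleType = {2} := by
    rw [(Equiv.Perm.isCycle_swap hkl).cycleType, Equiv.Perm.card_support_swap hkl]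
  have hd : Equiv.Perm.Disjoint (swap i j) (swap k l) := by
    intro x
    by_cases hx : x = i ∨ x = j
    · right
      rcases hx with rfl | rfl
      · exact swap_apply_of_ne_of_ne hik hil
      · exact swap_apply_of_ne_of_ne hjk hjl
    · left
      push Not at hx
      exact swap_apply_of_ne_of_ne hx.1 hx.2
  rw [hd.cycleType_mul, h1, h2]
  rfl

lemma key_step {n : ℕ} {H : Type} [Group H] [Finite H]
    (hZ : Nat.card (Subgroup.center H) = 2)
    (hns : ∀ L : Subgroup H, ¬ (Subgroup.center H).IsComplement' L)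
    (π : H →* alternatingGroup (Fin n)) (hπ : Function.Surjective π)
    (hker : π.ker = Subgroup.center H)
    (hstar : ∀ h : H, ((π h : alternatingGroup (Fin n)) : Perm (Fin n)).cycleType = {2, 2} →
      h * h = 1)
    (m : ℕ) [NeZero m] (a' b' : Perm (Fin n)) (ha : a' ∈ alternatingGroup (Fin n))
    (hb : b' ∈ alternatingGroup (Fin n))
    (hta : a'.cycleType = {2, 2}) (htb : b'.cycleType = {2, 2})
    (hm : (m = 2 ∧ (a' * b').cycleType = {2, 2}) ∨
      (m = 4 ∧ ((a' * b') * (a' * b')).cycleType = {2, 2}))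
    (haa : a' * a' = 1) (hbb : b' * b' = 1) (hRm : (a' * b') ^ m = 1)
    (hinj1 : ∀ i : ZMod m, (a' * b') ^ i.val = 1 → i = 0)
    (hinj2 : ∀ i : ZMod m, a' * (a' * b') ^ i.val ≠ 1)
    (hodd : ∃ k, Odd k ∧ Nat.card (alternatingGroup (Fin n)) = 2 * m * k) : False := by
  obtain ⟨a, hpa⟩ := hπ ⟨a', ha⟩
  obtain ⟨b, hpb⟩ := hπ ⟨b', hb⟩
  have ha2 : a * a = 1 := hstar a (by rw [hpa]; exact hta)
  have hb2 : b * b = 1 := hstar b (by rw [hpb]; exact htb)
  have hR : (a * b) ^ m = 1 := by
    rcases hm with ⟨rfl, h⟩ | ⟨rfl, h⟩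
    · rw [pow_two]
      exact hstar (a * b) (by rw [map_mul, hpa, hpb]; exact h)
    · have h1 := hstar ((a * b) * (a * b)) (by rw [map_mul, map_mul, hpa, hpb]; exact h)
      calc (a * b) ^ 4 = ((a * b) * (a * b)) * ((a * b) * (a * b)) := by
            rw [show (4 : ℕ) = 2 + 2 from rfl, pow_add, pow_two]
        _ = 1 := h1
  have hinv : ∀ {K : Type} [Group K] (u v : K), u * u = 1 → v * v = 1 →
      u * (u * v) * u = (u * v)⁻¹ := by
    intro K _ u v hu hv
    have h1 : u⁻¹ = u := inv_eq_of_mul_eq_one_left hu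
    have h2 : v⁻¹ = v := inv_eq_of_mul_eq_one_left hv
    rw [← mul_assoc, hu, one_mul, mul_inv_rev, h1, h2]
  have hAR : a * (a * b) * a = (a * b)⁻¹ := hinv a b ha2 hb2
  have hA'2 : (⟨a', ha⟩ : alternatingGroup (Fin n)) * ⟨a', ha⟩ = 1 := Subtype.ext haa
  have hB'2 : (⟨b', hb⟩ : alternatingGroup (Fin n)) * ⟨b', hb⟩ = 1 := Subtype.ext hbb
  have hR' : ((⟨a', ha⟩ : alternatingGroup (Fin n)) * ⟨b', hb⟩) ^ m = 1 := Subtype.ext hRm
  have hAR' := hinv (⟨a', ha⟩ : alternatingGroup (Fin n)) ⟨b', hb⟩ hA'2 hB'2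
  let s := dihHom m a (a * b) ha2 hR hAR
  let ι := dihHom m (⟨a', ha⟩ : alternatingGroup (Fin n))
    ((⟨a', ha⟩ : alternatingGroup (Fin n)) * ⟨b', hb⟩) hA'2 hR' hAR'
  have hs : ∀ d, π (s d) = ι d := by
    rintro (i | i)
    · show π ((a * b) ^ i.val) = ((⟨a', ha⟩ : alternatingGroup (Fin n)) * ⟨b', hb⟩) ^ i.val
      rw [map_pow, map_mul, hpa, hpb]
    · show π (a * (a * b) ^ i.val) =
        (⟨a', ha⟩ : alternatingGroup (Fin n)) * ((⟨a', ha⟩ : alternatingGroup (Fin n)) * ⟨b', hb⟩) ^ i.val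
      rw [map_mul, map_pow, map_mul, hpa, hpb]
  have hι : Function.Injective ι := by
    rw [injective_iff_map_eq_one]
    rintro (i | i) hd
    · have h1 : ((⟨a', ha⟩ : alternatingGroup (Fin n)) * ⟨b', hb⟩) ^ i.val = 1 := hd
      have h2 : (a' * b') ^ i.val = 1 := congrArg Subtype.val h1
      rw [hinj1 i h2]; rfl
    · exfalso
      have h1 : (⟨a', ha⟩ : alternatingGroup (Fin n)) *
          ((⟨a', ha⟩ : alternatingGroup (Fin n)) * ⟨b', hb⟩) ^ i.val = 1 := hd
      have h2 : a' * (a' * b') ^ i.val = 1 := congrArg Subtype.val h1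
      exact hinj2 i h2
  have hidx : Odd ι.range.index := by
    obtain ⟨k, hk, hcard⟩ := hodd
    have h1 : Nat.card ι.range = 2 * m := by
      rw [← Nat.card_congr (MonoidHom.ofInjective hι).toEquiv, DihedralGroup.nat_card]
    have h2 := Subgroup.card_mul_index ι.range
    rw [h1, hcard] at h2
    have hpos : 0 < 2 * m := by
      have := Nat.pos_of_ne_zero (NeZero.ne m)
      omega
    have h3 : ι.range.index = k := Nat.eq_of_mul_eq_mul_left hpos h2
    rw [h3]; exact hk
  obtain ⟨L, hL⟩ := complement_of_section π hπ hker hZ ι hι s hs hidx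
  exact hns L hL

lemma card_alt (n : ℕ) (hn : 2 ≤ n) : Nat.card (alternatingGroup (Fin n)) = n.factorial / 2 := by
  haveI : Nontrivial (Fin n) := Fin.nontrivial_iff_two_le.2 hn
  rw [nat_card_alternatingGroup, Nat.card_eq_fintype_card, Fintype.card_fin]

lemma mem_alt_dbl {n : ℕ} {i j k l : Fin n} (hij : i ≠ j) (hkl : k ≠ l) :
    swap i j * swap k l ∈ alternatingGroup (Fin n) := by
  rw [Equiv.Perm.mem_alternatingGroup, Equiv.Perm.sign_mul, Equiv.Perm.sign_swap hij,
    Equiv.Perm.sign_swap hkl]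
  rfl

lemma data_exists (n : ℕ) (h4 : 4 ≤ n) (h7 : n ≤ 7) :
    ∃ (m : ℕ) (_ : NeZero m) (a' b' : Perm (Fin n)), a' ∈ alternatingGroup (Fin n) ∧
      b' ∈ alternatingGroup (Fin n) ∧ a'.cycleType = {2, 2} ∧ b'.cycleType = {2, 2} ∧
      ((m = 2 ∧ (a' * b').cycleType = {2, 2}) ∨
        (m = 4 ∧ ((a' * b') * (a' * b')).cycleType = {2, 2})) ∧
      a' * a' = 1 ∧ b' * b' = 1 ∧ (a' * b') ^ m = 1 ∧
      (∀ i : ZMod m, (a' * b') ^ i.val = 1 → i = 0) ∧
      (∀ i : ZMod m, a' * (a' * b') ^ i.val ≠ 1) ∧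
      ∃ k, Odd k ∧ Nat.card (alternatingGroup (Fin n)) = 2 * m * k := by
  interval_cases n
  · refine ⟨2, ⟨by norm_num⟩, swap 0 1 * swap 2 3, swap 0 2 * swap 1 3,
      mem_alt_dbl (by decide) (by decide), mem_alt_dbl (by decide) (by decide),
      cycleType_dbl (by decide) (by decide) (by decide) (by decide) (by decide) (by decide),
      cycleType_dbl (by decide) (by decide) (by decide) (by decide) (by decide) (by decide),
      Or.inl ⟨rfl, ?_⟩, by decide, by decide, by decide, by decide, by decide, 3, by decide, ?_⟩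
    · have h : swap (0 : Fin 4) 1 * swap 2 3 * (swap 0 2 * swap 1 3) = swap 0 3 * swap 1 2 := by
        decide
      rw [h]
      exact cycleType_dbl (by decide) (by decide) (by decide) (by decide) (by decide) (by decide)
    · rw [card_alt 4 (by norm_num)]; rfl
  · refine ⟨2, ⟨by norm_num⟩, swap 0 1 * swap 2 3, swap 0 2 * swap 1 3,
      mem_alt_dbl (by decide) (by decide), mem_alt_dbl (by decide) (by decide),
      cycleType_dbl (by decide) (by decide) (by decide) (by decide) (by decide) (by decide),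
      cycleType_dbl (by decide) (by decide) (by decide) (by decide) (by decide) (by decide),
      Or.inl ⟨rfl, ?_⟩, by decide, by decide, by decide, by decide, by decide, 15, by decide, ?_⟩
    · have h : swap (0 : Fin 5) 1 * swap 2 3 * (swap 0 2 * swap 1 3) = swap 0 3 * swap 1 2 := by
        decide
      rw [h]
      exact cycleType_dbl (by decide) (by decide) (by decide) (by decide) (by decide) (by decide)
    · rw [card_alt 5 (by norm_num)]; rfl
  · refine ⟨4, ⟨by norm_num⟩, swap 0 1 * swap 2 3, swap 0 2 * swap 4 5,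
      mem_alt_dbl (by decide) (by decide), mem_alt_dbl (by decide) (by decide),
      cycleType_dbl (by decide) (by decide) (by decide) (by decide) (by decide) (by decide),
      cycleType_dbl (by decide) (by decide) (by decide) (by decide) (by decide) (by decide),
      Or.inr ⟨rfl, ?_⟩, by decide, by decide, by decide, by decide, by decide, 45, by decide, ?_⟩
    · have h : (swap (0 : Fin 6) 1 * swap 2 3 * (swap 0 2 * swap 4 5)) *
          (swap (0 : Fin 6) 1 * swap 2 3 * (swap 0 2 * swap 4 5)) = swap 0 2 * swap 1 3 := by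
        decide
      rw [h]
      exact cycleType_dbl (by decide) (by decide) (by decide) (by decide) (by decide) (by decide)
    · rw [card_alt 6 (by norm_num)]; rfl
  · refine ⟨4, ⟨by norm_num⟩, swap 0 1 * swap 2 3, swap 0 2 * swap 4 5,
      mem_alt_dbl (by decide) (by decide), mem_alt_dbl (by decide) (by decide),
      cycleType_dbl (by decide) (by decide) (by decide) (by decide) (by decide) (by decide),
      cycleType_dbl (by decide) (by decide) (by decide) (by decide) (by decide) (by decide),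
      Or.inr ⟨rfl, ?_⟩, by decide, by decide, by decide, by decide, by decide, 315, by decide, ?_⟩
    · have h : (swap (0 : Fin 7) 1 * swap 2 3 * (swap 0 2 * swap 4 5)) *
          (swap (0 : Fin 7) 1 * swap 2 3 * (swap 0 2 * swap 4 5)) = swap 0 2 * swap 1 3 := by
        decide
      rw [h]
      exact cycleType_dbl (by decide) (by decide) (by decide) (by decide) (by decide) (by decide)
    · rw [card_alt 7 (by norm_num)]; rfl

lemma invol_mem_center (n : ℕ) (hn : n ≤ 7) (H : Type) [Group H] [Finite H]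
    (hcov : Cfsg.IsNonsplitDoubleCover H (alternatingGroup (Fin n))) (x : H)
    (hx : orderOf x = 2) : x ∈ Subgroup.center H := by
  by_contra hxZ
  obtain ⟨hZ, ⟨e⟩, hns⟩ := hcov
  let π : H →* alternatingGroup (Fin n) :=
    e.toMonoidHom.comp (QuotientGroup.mk' (Subgroup.center H))
  have hπ : Function.Surjective π := e.surjective.comp (QuotientGroup.mk'_surjective _)
  have hker : π.ker = Subgroup.center H := by
    ext g
    rw [MonoidHom.mem_ker]
    show e (QuotientGroup.mk' _ g) = 1 ↔ _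
    rw [EmbeddingLike.map_eq_one_iff]
    exact QuotientGroup.eq_one_iff g
  have hx2 : x * x = 1 := by
    rw [← pow_two, ← hx]; exact pow_orderOf_eq_one x
  have hcsq : ∀ c ∈ Subgroup.center H, c * c = 1 := by
    intro c hc
    obtain ⟨z, hz1, hzuniq⟩ := (Nat.card_eq_two_iff' (1 : Subgroup.center H)).1 hZ
    have hzz : z * z = 1 := by
      by_contra h
      have h2 := hzuniq (z * z) h
      exact hz1 (by simpa using h2)
    by_cases h1 : (⟨c, hc⟩ : Subgroup.center H) = 1
    · have h2 : c = 1 := congrArg Subtype.val h1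
      rw [h2, one_mul]
    · have h2 := hzuniq _ h1
      have h3 : c = z := congrArg Subtype.val h2
      rw [h3]; exact congrArg Subtype.val hzz
  obtain ⟨σ, hσdef⟩ : ∃ σ : Perm (Fin n), σ = ((π x : alternatingGroup (Fin n)) : Perm (Fin n)) :=
    ⟨_, rfl⟩
  have hσ1 : σ ≠ 1 := by
    intro h
    apply hxZ
    rw [← hker, MonoidHom.mem_ker]
    apply Subtype.ext
    rw [← hσdef, h]; rfl
  have hσ2 : σ * σ = 1 := by
    have h1 : π x * π x = 1 := by rw [← map_mul, hx2, map_one]
    rw [hσdef]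
    exact congrArg Subtype.val h1
  haveI : Fact (Nat.Prime 2) := ⟨Nat.prime_two⟩
  have hσord : orderOf σ = 2 := orderOf_eq_prime (by rw [pow_two]; exact hσ2) hσ1
  obtain ⟨j, hj⟩ := Equiv.Perm.cycleType_prime_order (σ := σ) (by rw [hσord]; exact Nat.prime_two)
  rw [hσord] at hj
  have hsign : Equiv.Perm.sign σ = 1 := by
    rw [hσdef]; exact Equiv.Perm.mem_alternatingGroup.1 (π x).2
  have hsum := Equiv.Perm.sum_cycleType_le σ
  rw [hj, Multiset.sum_replicate, Fintype.card_fin, smul_eq_mul] at hsum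
  have hpar : Even (j + 1) := by
    rw [Equiv.Perm.sign_of_cycleType, hj, Multiset.sum_replicate, Multiset.card_replicate,
      smul_eq_mul] at hsign
    by_contra hodd
    rw [Nat.not_even_iff_odd] at hodd
    have hodd' : Odd ((j + 1) * 2 + (j + 1)) := by
      obtain ⟨t, ht⟩ := hodd
      exact ⟨3 * t + 1, by omega⟩
    rw [Odd.neg_one_pow hodd'] at hsign
    exact absurd hsign (by decide)
  have hj1 : j = 1 := by
    obtain ⟨t, ht⟩ := hpar
    omega
  subst hj1
  have hσt : σ.cycleType = {2, 2} := by rw [hj]; rfl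
  have hn4 : 4 ≤ n := by omega
  have hstar : ∀ h : H, ((π h : alternatingGroup (Fin n)) : Perm (Fin n)).cycleType = {2, 2} →
      h * h = 1 := by
    intro h hh
    have hconj : IsConj σ ((π h : alternatingGroup (Fin n)) : Perm (Fin n)) :=
      Equiv.Perm.isConj_iff_cycleType_eq.2 (by rw [hσt, hh])
    obtain ⟨g, hg⟩ := isConj_iff.1 hconj
    obtain ⟨g', hg'A, hg'⟩ : ∃ g' : Perm (Fin n), g' ∈ alternatingGroup (Fin n) ∧
        g' * σ * g'⁻¹ = ((π h : alternatingGroup (Fin n)) : Perm (Fin n)) := by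
      rcases Int.units_eq_one_or (Equiv.Perm.sign g) with hs | hs
      · exact ⟨g, Equiv.Perm.mem_alternatingGroup.2 hs, hg⟩
      · obtain ⟨i, hi⟩ : ∃ i, σ i ≠ i := by
          by_contra hcon
          push Not at hcon
          exact hσ1 (Equiv.ext hcon)
        have hsw : σ * swap i (σ i) * σ⁻¹ = swap i (σ i) := by
          rw [← Equiv.swap_apply_apply]
          have h1 : σ (σ i) = i := by
            have h2 := congrArg (fun f : Perm (Fin n) => f i) hσ2
            simpa using h2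
          rw [h1, Equiv.swap_comm]
        refine ⟨g * swap i (σ i), ?_, ?_⟩
        · rw [Equiv.Perm.mem_alternatingGroup, Equiv.Perm.sign_mul, hs,
            Equiv.Perm.sign_swap (Ne.symm hi)]
          rfl
        · rw [← hg]
          have h4 : σ * swap i (σ i) = swap i (σ i) * σ := by
            calc σ * swap i (σ i) = (σ * swap i (σ i) * σ⁻¹) * σ := by group
              _ = swap i (σ i) * σ := by rw [hsw]
          have h3 : swap i (σ i) * σ * (swap i (σ i))⁻¹ = σ := by
            rw [← h4]; group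
          calc g * swap i (σ i) * σ * (g * swap i (σ i))⁻¹
              = g * (swap i (σ i) * σ * (swap i (σ i))⁻¹) * g⁻¹ := by group
            _ = g * σ * g⁻¹ := by rw [h3]
    obtain ⟨γ, hγ⟩ := hπ ⟨g', hg'A⟩
    have hπu : π (γ * x * γ⁻¹) = π h := by
      apply Subtype.ext
      rw [map_mul, map_mul, map_inv, hγ, ← hg', hσdef]
      rfl
    obtain ⟨u, hu⟩ : ∃ u : H, u = γ * x * γ⁻¹ := ⟨_, rfl⟩
    rw [← hu] at hπu
    have hζ : u⁻¹ * h ∈ Subgroup.center H := by
      rw [← hker, MonoidHom.mem_ker, map_mul, map_inv, hπu, inv_mul_cancel]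
    have hζ2 := hcsq _ hζ
    have hcomm := Subgroup.mem_center_iff.1 hζ
    have hu2 : u * u = 1 := by
      rw [hu]
      calc γ * x * γ⁻¹ * (γ * x * γ⁻¹) = γ * (x * x) * γ⁻¹ := by group
        _ = 1 := by rw [hx2]; group
    have hh' : h = u * (u⁻¹ * h) := by group
    rw [hh']
    calc u * (u⁻¹ * h) * (u * (u⁻¹ * h)) = u * ((u⁻¹ * h) * u) * (u⁻¹ * h) := by group
      _ = u * (u * (u⁻¹ * h)) * (u⁻¹ * h) := by rw [← hcomm u]
      _ = (u * u) * ((u⁻¹ * h) * (u⁻¹ * h)) := by group
      _ = 1 := by rw [hu2, hζ2, one_mul]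
  obtain ⟨m, hm, a', b', ha, hb, hta, htb, hmm, haa, hbb, hRm, hinj1, hinj2, hodd⟩ :=
    data_exists n hn4 hn
  exact key_step hZ hns π hπ hker hstar m a' b' ha hb hta htb hmm haa hbb hRm hinj1 hinj2 hodd

lemma comm_central_left {G : Type*} [Group G] {c : G} (hc : c ∈ Subgroup.center G) (a b : G) :
    (c * a) * b * (c * a)⁻¹ * b⁻¹ = a * b * a⁻¹ * b⁻¹ := by
  have h := Subgroup.mem_center_iff.1 hc
  calc (c * a) * b * (c * a)⁻¹ * b⁻¹ = c * ((a * b * a⁻¹) * c⁻¹) * b⁻¹ := by group
    _ = c * (c⁻¹ * (a * b * a⁻¹)) * b⁻¹ := by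
        have h2 : (a * b * a⁻¹) * c⁻¹ = c⁻¹ * (a * b * a⁻¹) := by
          have h3 := h (c⁻¹ * (a * b * a⁻¹) * c⁻¹)
          calc (a * b * a⁻¹) * c⁻¹ = c * (c⁻¹ * (a * b * a⁻¹) * c⁻¹) := by group
            _ = (c⁻¹ * (a * b * a⁻¹) * c⁻¹) * c := by rw [h3]
            _ = c⁻¹ * (a * b * a⁻¹) := by group
        rw [h2]
    _ = a * b * a⁻¹ * b⁻¹ := by group

lemma comm_central_right {G : Type*} [Group G] {c : G} (hc : c ∈ Subgroup.center G) (a b : G) :
    a * (c * b) * a⁻¹ * (c * b)⁻¹ = a * b * a⁻¹ * b⁻¹ := by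
  have h := Subgroup.mem_center_iff.1 hc
  have h2 : a * c = c * a := h a
  calc a * (c * b) * a⁻¹ * (c * b)⁻¹ = (a * c) * (b * a⁻¹ * b⁻¹) * c⁻¹ := by group
    _ = c * ((a * b * a⁻¹ * b⁻¹) * c⁻¹) := by rw [h2]; group
    _ = c * (c⁻¹ * (a * b * a⁻¹ * b⁻¹)) := by
        have h3 : (a * b * a⁻¹ * b⁻¹) * c⁻¹ = c⁻¹ * (a * b * a⁻¹ * b⁻¹) := by
          have h4 := h (c⁻¹ * (a * b * a⁻¹ * b⁻¹) * c⁻¹)
          calc (a * b * a⁻¹ * b⁻¹) * c⁻¹ = c * (c⁻¹ * (a * b * a⁻¹ * b⁻¹) * c⁻¹) := by group
            _ = (c⁻¹ * (a * b * a⁻¹ * b⁻¹) * c⁻¹) * c := by rw [h4]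
            _ = c⁻¹ * (a * b * a⁻¹ * b⁻¹) := by group
        rw [h3]
    _ = a * b * a⁻¹ * b⁻¹ := by group

lemma commutator_le_of_complement {G : Type*} [Group G] (L : Subgroup G)
    (hL : (Subgroup.center G).IsComplement' L) : commutator G ≤ L := by
  rw [commutator_eq_closure, Subgroup.closure_le]
  rintro g ⟨g1, g2, rfl⟩
  obtain ⟨⟨c1, l1⟩, h1, -⟩ := hL.existsUnique g1
  obtain ⟨⟨c2, l2⟩, h2, -⟩ := hL.existsUnique g2
  simp only at h1 h2
  rw [commutatorElement_def, ← h1, ← h2, comm_central_left c1.2, comm_central_right c2.2]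
  exact L.mul_mem (L.mul_mem (L.mul_mem l1.2 l2.2) (L.inv_mem l1.2)) (L.inv_mem l2.2)

lemma four_anti {A : Type*} [Ring A] (x1 x2 x3 x4 : A) (h1 : x1 * x1 = -1) (h2 : x2 * x2 = -1)
    (h3 : x3 * x3 = -1) (h4 : x4 * x4 = -1) (h12 : x2 * x1 = -(x1 * x2))
    (h13 : x3 * x1 = -(x1 * x3)) (h14 : x4 * x1 = -(x1 * x4)) (h23 : x3 * x2 = -(x2 * x3))
    (h24 : x4 * x2 = -(x2 * x4)) (h34 : x4 * x3 = -(x3 * x4)) :
    (x1 * x2 * (x3 * x4)) * (x1 * x2 * (x3 * x4)) = 1 := by
  have h12' : ∀ t, x2 * (x1 * t) = -(x1 * (x2 * t)) := fun t => by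
    rw [← mul_assoc, h12, neg_mul, mul_assoc]
  have h13' : ∀ t, x3 * (x1 * t) = -(x1 * (x3 * t)) := fun t => by
    rw [← mul_assoc, h13, neg_mul, mul_assoc]
  have h14' : ∀ t, x4 * (x1 * t) = -(x1 * (x4 * t)) := fun t => by
    rw [← mul_assoc, h14, neg_mul, mul_assoc]
  have h23' : ∀ t, x3 * (x2 * t) = -(x2 * (x3 * t)) := fun t => by
    rw [← mul_assoc, h23, neg_mul, mul_assoc]
  have h24' : ∀ t, x4 * (x2 * t) = -(x2 * (x4 * t)) := fun t => by
    rw [← mul_assoc, h24, neg_mul, mul_assoc]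
  have h34' : ∀ t, x4 * (x3 * t) = -(x3 * (x4 * t)) := fun t => by
    rw [← mul_assoc, h34, neg_mul, mul_assoc]
  have h1' : ∀ t, x1 * (x1 * t) = -t := fun t => by rw [← mul_assoc, h1, neg_mul, one_mul]
  have h2' : ∀ t, x2 * (x2 * t) = -t := fun t => by rw [← mul_assoc, h2, neg_mul, one_mul]
  have h3' : ∀ t, x3 * (x3 * t) = -t := fun t => by rw [← mul_assoc, h3, neg_mul, one_mul]
  simp only [mul_assoc, h12, h13, h14, h23, h24, h34, h12', h13', h14', h23', h24', h34', h1, h2,
    h3, h4, h1', h2', h3', mul_neg, neg_mul, neg_neg, mul_one]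

open Cfsg.Agent.S0891 in
lemma xg_anti {n : ℕ} {i j k l : Fin n} (hik : i ≠ k) (hil : i ≠ l) (hjk : j ≠ k) (hjl : j ≠ l) :
    xg k l * xg i j = -(xg i j * xg k l) := by
  unfold xg
  simp only [sub_mul, mul_sub]
  rw [ee_anti (Ne.symm hik), ee_anti (Ne.symm hil), ee_anti (Ne.symm hjk), ee_anti (Ne.symm hjl)]
  abel

open Cfsg.Agent.S0891 in
lemma part2 : ∃ (H : Type) (_ : Group H) (_ : Finite H),
    Cfsg.IsNonsplitDoubleCover H (alternatingGroup (Fin 8)) ∧
      ∃ x y : H, x ≠ y ∧ orderOf x = 2 ∧ orderOf y = 2 := by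
  have hcen : Subgroup.center (Gam 8) = Subgroup.zpowers (zz 8) := by
    apply le_antisymm
    · intro g hg
      rw [← phi_ker, MonoidHom.mem_ker]
      have h1 : phi 8 g ∈ Subgroup.center (alternatingGroup (Fin 8)) := by
        rw [Subgroup.mem_center_iff]
        intro y
        obtain ⟨h, rfl⟩ := phi_surj 8 y
        rw [← map_mul, ← map_mul, (Subgroup.mem_center_iff.1 hg) h]
      rw [alternatingGroup.center_eq_bot (by simp)] at h1
      exact h1
    · rw [Subgroup.zpowers_le]; exact zz_center 8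
  haveI : Fact (Nat.Prime 2) := ⟨Nat.prime_two⟩
  have hord : orderOf (zz 8) = 2 := orderOf_eq_prime (zz_sq 8) (zz_ne_one 8)
  have h01 : (0 : Fin 8) ≠ 1 := by decide
  have h23 : (2 : Fin 8) ≠ 3 := by decide
  have h45 : (4 : Fin 8) ≠ 5 := by decide
  have h67 : (6 : Fin 8) ≠ 7 := by decide
  obtain ⟨g1, hg1a, hg1b⟩ : ∃ g1 : Gam 8, g1.1.1 = xgU h01 * xgU h23 ∧
      g1.1.2 = swap 0 1 * swap 2 3 := ⟨⟨_, pair_mem h01 h23⟩, rfl, rfl⟩
  obtain ⟨g2, hg2a, hg2b⟩ : ∃ g2 : Gam 8, g2.1.1 = xgU h45 * xgU h67 ∧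
      g2.1.2 = swap 4 5 * swap 6 7 := ⟨⟨_, pair_mem h45 h67⟩, rfl, rfl⟩
  have hfst : ∀ p q : Gam 8, (p * q).1.1 = p.1.1 * q.1.1 := fun _ _ => rfl
  have hsnd : ∀ p q : Gam 8, (p * q).1.2 = p.1.2 * q.1.2 := fun _ _ => rfl
  have hgsq : (g1 * g2) * (g1 * g2) = 1 := by
    apply gam_ext
    · rw [hfst, hfst, hg1a, hg2a]
      apply Units.ext
      show (xg 0 1 * xg 2 3 * (xg 4 5 * xg 6 7)) * (xg 0 1 * xg 2 3 * (xg 4 5 * xg 6 7)) = (1 : Mn 8)
      exact four_anti _ _ _ _ (xg_sq h01) (xg_sq h23) (xg_sq h45) (xg_sq h67)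
        (xg_anti (by decide) (by decide) (by decide) (by decide))
        (xg_anti (by decide) (by decide) (by decide) (by decide))
        (xg_anti (by decide) (by decide) (by decide) (by decide))
        (xg_anti (by decide) (by decide) (by decide) (by decide))
        (xg_anti (by decide) (by decide) (by decide) (by decide))
        (xg_anti (by decide) (by decide) (by decide) (by decide))
    · rw [hsnd, hsnd, hg1b, hg2b]
      show _ = (1 : Perm (Fin 8))
      decide
  have hgne : (g1 * g2).1.2 ≠ 1 := by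
    rw [hsnd, hg1b, hg2b]
    decide
  have hg1 : g1 * g2 ≠ 1 := by
    intro h
    apply hgne
    rw [h]; rfl
  have hgord : orderOf (g1 * g2) = 2 := orderOf_eq_prime (by rw [pow_two]; exact hgsq) hg1
  refine ⟨Gam 8, inferInstance, inferInstance, ⟨?_, ?_, ?_⟩, zz 8, g1 * g2, ?_, hord, hgord⟩
  · rw [hcen, Nat.card_zpowers, hord]
  · exact ⟨(QuotientGroup.quotientMulEquivOfEq (hcen.trans (phi_ker 8).symm)).trans
      (QuotientGroup.quotientKerEquivOfSurjective (phi 8) (phi_surj 8))⟩
  · intro L hL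
    have h1 : zz 8 ∈ L := commutator_le_of_complement L hL
      (zz_comm (0 : Fin 8) 1 2 3 (by decide) (by decide) (by decide) (by decide) (by decide)
        (by decide))
    have h2 := hL.disjoint
    rw [Subgroup.disjoint_def] at h2
    exact zz_ne_one 8 (h2 (zz_center 8) h1)
  · intro h
    apply hgne
    rw [← h]; rfl

end helpers

/-- Involutions in double covers of alternating groups: for n ≤ 7, a finite non-split double cover of the alternating group of degree n has exactly one element of order 2 (the central one); for degree 8 there is a non-split double cover with two distinct involutions. -/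
theorem result : (∀ (n : ℕ) (H : Type) (_ : Group H) (_ : Finite H), n ≤ 7 → Cfsg.IsNonsplitDoubleCover H (alternatingGroup (Fin n)) → ∀ x y : H, orderOf x = 2 → orderOf y = 2 → x = y) ∧ ∃ (H : Type) (_ : Group H) (_ : Finite H), Cfsg.IsNonsplitDoubleCover H (alternatingGroup (Fin 8)) ∧ ∃ x y : H, x ≠ y ∧ orderOf x = 2 ∧ orderOf y = 2 := by
  refine ⟨fun n H _ _ hn hcov x y hx hy => ?_, part2⟩
  have hxz := invol_mem_center n hn H hcov x hx
  have hyz := invol_mem_center n hn H hcov y hy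
  obtain ⟨z, hz1, hzuniq⟩ := (Nat.card_eq_two_iff' (1 : Subgroup.center H)).1 hcov.1
  have hx1 : (⟨x, hxz⟩ : Subgroup.center H) ≠ 1 := by
    intro h
    have h2 : x = 1 := congrArg Subtype.val h
    rw [h2] at hx; simp at hx
  have hy1 : (⟨y, hyz⟩ : Subgroup.center H) ≠ 1 := by
    intro h
    have h2 : y = 1 := congrArg Subtype.val h
    rw [h2] at hy; simp at hy
  have h3 := (hzuniq _ hx1).trans (hzuniq _ hy1).symm
  exact congrArg Subtype.val h3


end Cfsg.Agent.S0447
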