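import Cfsg.Statements.S0459
import Cfsg.Agent.Lib.helper10.RuCert
import Cfsg.Agent.Lib.helper10.TtCert
import Cfsg.Agent.Lib.helper10.RuTtData

set_option autoImplicit false
open Cfsg

namespace Cfsg.Agent.S0459

open Cfsg.Agent.Lib.helper10 MulAction

theorem rt_hmono : ∀ i, i + 1 < 1755 → rtIota i < rtIota (i + 1) := fun i hi =>
  Nat.blt_eq.mp (allBelow_sound rt_iota i (by omega))

theorem iota_lt (i : ℕ) (hi : i < 1755) : rtIota i < 4060 := by
  rcases Nat.lt_or_ge i 1754 with h | h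
  · exact lt_trans (code_lt rtIota rt_hmono 1754 i h (by norm_num)) rt_iota_last
  · have : i = 1754 := by omega
    rw [this]
    exact rt_iota_last

/-- The embedding of the 1755 points of the Tits group among the 4060 points. -/
def iotaF (i : Fin 1755) : Fin 4060 := ⟨rtIota i, iota_lt i i.2⟩

theorem iotaF_inj : Function.Injective iotaF := by
  intro a b h
  exact code_inj rtIota rt_hmono a b (congrArg Fin.val h)

/-- The graph subgroup relating the two actions of the Tits group. -/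
def D : Subgroup (Equiv.Perm (Fin 1755) × Equiv.Perm (Fin 4060)) :=
  Subgroup.closure {(ttL0.S.L 0, rtS.L 0), (ttL0.S.L 2, rtS.L 2)}

theorem D_equiv : ∀ d ∈ D, ∀ i : Fin 1755, d.2 (iotaF i) = iotaF (d.1 i) := by
  intro d hd
  induction hd using Subgroup.closure_induction with
  | mem d hd =>
    rcases hd with rfl | rfl
    · intro i
      apply Fin.ext
      show ((rtS.L 0 (iotaF i) : Fin 4060) : ℕ) = rtIota ((ttL0.S.L 0 i : Fin 1755) : ℕ)
      rw [rtS.hact, ttL0.S.hact]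
      have h := allBelow_sound rt_equiv i i.2
      simp only [Bool.and_eq_true] at h
      exact Nat.eq_of_beq_eq_true h.1
    · intro i
      apply Fin.ext
      show ((rtS.L 2 (iotaF i) : Fin 4060) : ℕ) = rtIota ((ttL0.S.L 2 i : Fin 1755) : ℕ)
      rw [rtS.hact, ttL0.S.hact]
      have h := allBelow_sound rt_equiv i i.2
      simp only [Bool.and_eq_true] at h
      exact Nat.eq_of_beq_eq_true h.2
  | one => intro i; rfl
  | mul a b _ _ ha hb =>
    intro i
    show a.2 (b.2 (iotaF i)) = iotaF (a.1 (b.1 i))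
    rw [hb i, ha]
  | inv a _ ha =>
    intro i
    show a.2⁻¹ (iotaF i) = iotaF (a.1⁻¹ i)
    rw [Equiv.Perm.inv_eq_iff_eq, ha]
    congr 1
    exact (Equiv.apply_symm_apply a.1 i).symm

theorem D_mem : ∀ d ∈ D, d.2 ∈ rtS.H := by
  intro d hd
  induction hd using Subgroup.closure_induction with
  | mem d hd =>
    rcases hd with rfl | rfl
    · exact rtS.L_mem _
    · exact rtS.L_mem _
  | one => exact Subgroup.one_mem _
  | mul a b _ _ ha hb => exact Subgroup.mul_mem _ ha hb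
  | inv a _ ha => exact Subgroup.inv_mem _ ha

theorem rt_le : rtS.H ≤ ruL1.S.H :=
  chkNest_spec (L := rtLvl) (fun x hx => allBelow_sound rt_nest x hx)

theorem ker1 : ∀ τ : Equiv.Perm (Fin 4060), ((1 : Equiv.Perm (Fin 1755)), τ) ∈ D → τ = 1 := by
  intro τ h
  have h1 : τ ∈ ruL1.S.H := rt_le (D_mem _ h)
  have h2 : τ ∈ ruL0.S.H := ru_cert.2.2.2.2.1 h1
  apply ru_hR τ h2
  intro x hx
  rw [← rt_pairs_fst] at hx
  obtain ⟨p, hp, hpx⟩ := List.mem_map.mp hx
  rcases rt_pairs p hp with h0 | ⟨hlt, hio⟩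
  · have hx0 : x = ⟨ruL0.b, ru_hb⟩ := Fin.ext (by rw [← hpx, h0]; rfl)
    rw [hx0]
    exact ru_cert.2.2.2.2.2 τ h1
  · have hx1 : x = iotaF ⟨p.2, hlt⟩ := Fin.ext (by rw [← hpx]; exact hio.symm)
    rw [hx1]
    exact D_equiv _ h ⟨p.2, hlt⟩

theorem ker2 : ∀ σ : Equiv.Perm (Fin 1755), (σ, (1 : Equiv.Perm (Fin 4060))) ∈ D → σ = 1 := by
  intro σ h
  ext i
  have h1 : iotaF i = iotaF (σ i) := D_equiv _ h i
  rw [← iotaF_inj h1]
  rfl

theorem iso : Nonempty (ttL0.S.H ≃* rtS.H) := by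
  obtain ⟨e⟩ := equiv_of_pairs (ttL0.S.L 0) (ttL0.S.L 2) (rtS.L 0) (rtS.L 2) ker1 ker2
  have e1 : ttL0.S.H = Subgroup.closure {ttL0.S.L 0, ttL0.S.L 2} := ttL0.S.H_eq_closure_pair rfl
  have e2 : rtS.H = Subgroup.closure {rtS.L 0, rtS.L 2} := rtS.H_eq_closure_pair rfl
  exact ⟨(MulEquiv.subgroupCongr e1).trans (e.trans (MulEquiv.subgroupCongr e2).symm)⟩

/-- The Rudvalis group exists as a transitive permutation group of degree 4060: simple of order 145926144000, with point stabiliser of order 35942400 containing a simple subgroup of order 17971200 (the order of the Tits group). -/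
theorem result : ∃ H : Subgroup (Equiv.Perm (Fin 4060)), Cfsg.IsRu H ∧ MulAction.IsPretransitive H (Fin 4060) ∧ Nat.card (MulAction.stabilizer H (0 : Fin 4060)) = 35942400 ∧ ∃ T : Subgroup (MulAction.stabilizer H (0 : Fin 4060)), Cfsg.IsTits T := by
  obtain ⟨hsimp, hcard, htr, hstab, hle, hfix⟩ := ru_cert
  refine ⟨ruL0.S.H, ⟨hsimp, hcard.trans (by norm_num)⟩, htr, hstab, ?_⟩
  let φ : ↥(stabilizer ruL0.S.H (0 : Fin 4060)) →* Equiv.Perm (Fin 4060) :=
    (Subgroup.subtype ruL0.S.H).comp (Subgroup.subtype _)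
  have hφ : Function.Injective φ :=
    (Subgroup.subtype_injective _).comp (Subgroup.subtype_injective _)
  have hrange : rtS.H ≤ φ.range := by
    intro τ hτ
    have h1 : τ ∈ ruL1.S.H := rt_le hτ
    have h2 : τ ∈ ruL0.S.H := hle h1
    have h3 : (⟨τ, h2⟩ : ruL0.S.H) ∈ stabilizer ruL0.S.H (0 : Fin 4060) := by
      rw [mem_stabilizer_iff]
      exact hfix τ h1
    exact ⟨⟨⟨τ, h2⟩, h3⟩, rfl⟩
  obtain ⟨e⟩ := iso
  obtain ⟨hs', hc', -⟩ := tt_cert
  let e2 : ↥(rtS.H.comap φ) ≃* ↥rtS.H :=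
    (Subgroup.equivMapOfInjective _ φ hφ).trans
      (MulEquiv.subgroupCongr (Subgroup.map_comap_eq_self hrange))
  refine ⟨rtS.H.comap φ, ?_, ?_⟩
  · exact (e2.trans e.symm).isSimpleGroup
  · rw [Nat.card_congr (e2.trans e.symm).toEquiv, hc']

end Cfsg.Agent.S0459
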