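import Cfsg.Statements.S0462
import Cfsg.Agent.Lib.helper35.SpHe

set_option autoImplicit false
set_option maxRecDepth 100000
open Cfsg

namespace Cfsg.Agent.S0462

open Cfsg.Agent.Lib.helper35 Cfsg.Spor

/-- every element of the group maps the 2058 points to themselves -/
theorem rho_lt (ρ : He →* Equiv.Perm ℕ)
    (hρ : ∀ l, l < 7 → ∀ c, ρ (S1695.φ l) c = sig Hea.D l c) :
    ∀ g : He, ∀ c, c < 2058 ↔ ρ g c < 2058 := by
  let S : Subgroup He :=
    { carrier := {g | ∀ c, c < 2058 ↔ ρ g c < 2058}
      mul_mem' := by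
        intro a b ha hb c
        rw [map_mul, Equiv.Perm.mul_apply, hb c, ha (ρ b c)]
      one_mem' := by
        intro c
        rw [map_one, Equiv.Perm.one_apply]
      inv_mem' := by
        intro a ha c
        rw [ha (ρ a⁻¹ c), ← Equiv.Perm.mul_apply, ← map_mul, mul_inv_cancel, map_one,
          Equiv.Perm.one_apply] }
  have hS : S = ⊤ := by
    rw [eq_top_iff, ← S1695.LS_top]
    unfold LS
    rw [Subgroup.closure_le]
    rintro _ ⟨l, hl, rfl⟩
    have hl7 : l < 7 := by revert l; decide
    intro c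
    show c < 2058 ↔ ρ (S1695.φ l) c < 2058
    rw [hρ l hl7]
    constructor
    · intro hc
      exact sig_lt Hea.inv_ok l hc
    · intro h
      by_contra hc
      rw [sig_ge Hea.D l (show Hea.D.n ≤ c from Nat.le_of_not_lt hc)] at h
      exact hc h
  intro g
  have : g ∈ S := by rw [hS]; exact Subgroup.mem_top g
  exact this

/-- the permutations of `Fin 2058` of the group elements -/
def permFin (ρ : He →* Equiv.Perm ℕ) (hlt : ∀ g : He, ∀ c, c < 2058 ↔ ρ g c < 2058) :
    He →* Equiv.Perm (Fin 2058) where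
  toFun g :=
    { toFun := fun c => ⟨ρ g c.1, (hlt g c.1).1 c.2⟩
      invFun := fun c => ⟨ρ g⁻¹ c.1, (hlt g⁻¹ c.1).1 c.2⟩
      left_inv := by
        intro c
        apply Fin.ext
        show ρ g⁻¹ (ρ g c.1) = c.1
        rw [← Equiv.Perm.mul_apply, ← map_mul, inv_mul_cancel, map_one, Equiv.Perm.one_apply]
      right_inv := by
        intro c
        apply Fin.ext
        show ρ g (ρ g⁻¹ c.1) = c.1
        rw [← Equiv.Perm.mul_apply, ← map_mul, mul_inv_cancel, map_one, Equiv.Perm.one_apply] }
  map_one' := by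
    ext c
    show ρ 1 c.1 = c.1
    rw [map_one, Equiv.Perm.one_apply]
  map_mul' := by
    intro a b
    ext c
    show ρ (a * b) c.1 = ρ a (ρ b c.1)
    rw [map_mul, Equiv.Perm.mul_apply]

/-- The Held group exists as a transitive permutation group of degree 2058: simple of order 4030387200, with point stabiliser containing, with index 2, a copy of the 4-dimensional symplectic group over the field with four elements. -/
theorem result : ∃ H : Subgroup (Equiv.Perm (Fin 2058)), Cfsg.IsHe H ∧ MulAction.IsPretransitive H (Fin 2058) ∧ ∃ (F : Type) (_ : Field F) (_ : Fintype F), Fintype.card F = 4 ∧ ∃ N : Subgroup (MulAction.stabilizer H (0 : Fin 2058)), N.index = 2 ∧ Nonempty (N ≃* Matrix.symplecticGroup (Fin 2) F) := by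
  obtain ⟨cG, -, hidx, ρ, hρ, hstab, htr, hbase⟩ := S1695.order_facts
  have hlt := rho_lt ρ hρ
  have hinj : Function.Injective (permFin ρ hlt) := by
    rw [injective_iff_map_eq_one]
    intro g hg
    apply hbase
    intro b hb
    have hb' : b < 2058 := by revert b; decide
    have := congrArg (fun p : Equiv.Perm (Fin 2058) => (p ⟨b, hb'⟩ : ℕ)) hg
    exact this
  let e : He ≃* (permFin ρ hlt).range := MonoidHom.ofInjective hinj
  have he : ∀ g : He, ∀ c : Fin 2058, ((e g : Equiv.Perm (Fin 2058)) c : ℕ) = ρ g c.1 :=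
    fun g c => rfl
  have hsimple : IsSimpleGroup He := S1695.main_aux.1
  have hcardR : Nat.card (permFin ρ hlt).range = 4030387200 := by
    rw [← Nat.card_congr e.toEquiv]; exact cG
  have htrans : MulAction.IsPretransitive (permFin ρ hlt).range (Fin 2058) := by
    refine ⟨fun x y => ?_⟩
    obtain ⟨a, ha⟩ := htr x.1 x.2
    obtain ⟨b, hb⟩ := htr y.1 y.2
    refine ⟨e (b * a⁻¹), ?_⟩
    apply Fin.ext
    show ρ (b * a⁻¹) x.1 = y.1
    rw [← ha, ← Equiv.Perm.mul_apply, ← map_mul, inv_mul_cancel_right, hb]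
  refine ⟨(permFin ρ hlt).range, ⟨?_, hcardR⟩, htrans, SpF.F4, inferInstance, inferInstance,
    SpF.F4.card, ?_⟩
  · have : Nontrivial (permFin ρ hlt).range := e.toEquiv.symm.nontrivial
    exact IsSimpleGroup.isSimpleGroup_of_surjective e.toMonoidHom e.surjective
  · obtain ⟨Nhe, hle, hcard, ⟨f⟩⟩ := SpHe.he_facts
    have hfinR : Finite (permFin ρ hlt).range :=
      Nat.finite_of_card_ne_zero (by rw [hcardR]; norm_num)
    have hN1 : Nhe.map e.toMonoidHom ≤
        MulAction.stabilizer (permFin ρ hlt).range (0 : Fin 2058) := by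
      rintro _ ⟨g, hg, rfl⟩
      rw [MulAction.mem_stabilizer_iff]
      apply Fin.ext
      show ρ g 0 = 0
      exact (hstab g).2 (hle hg)
    have hS0 : Nat.card (MulAction.stabilizer (permFin ρ hlt).range (0 : Fin 2058)) = 1958400 := by
      have h1 := Subgroup.card_mul_index
        (MulAction.stabilizer (permFin ρ hlt).range (0 : Fin 2058))
      rw [MulAction.index_stabilizer_of_transitive, Nat.card_fin, hcardR] at h1
      omega
    have hcN1 : Nat.card (Nhe.map e.toMonoidHom) = 979200 := by
      rw [← Nat.card_congr (Nhe.equivMapOfInjective e.toMonoidHom e.injective).toEquiv, hcard]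
    have hrel : (Nhe.map e.toMonoidHom).relIndex
        (MulAction.stabilizer (permFin ρ hlt).range (0 : Fin 2058)) = 2 := by
      have := S1695.card_step hN1
      rw [hcN1, hS0] at this
      omega
    exact ⟨(Nhe.map e.toMonoidHom).subgroupOf _, hrel,
      ⟨((Subgroup.subgroupOfEquivOfLe hN1).trans
        (Nhe.equivMapOfInjective e.toMonoidHom e.injective).symm).trans f⟩⟩

end Cfsg.Agent.S0462
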