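import Cfsg.Statements.S1696
import Cfsg.Agent.Lib.helper35.CosetPrim
import Cfsg.Agent.Lib.helper35.Fi22aChecks
import Cfsg.Agent.Lib.helper35.Fi22bChecks
import Cfsg.Agent.Lib.helper35.Fi22U1
import Cfsg.Agent.Lib.helper35.Fi22U2
import Cfsg.Agent.Lib.helper35.Fi22U3
import Cfsg.Agent.Lib.helper35.Fi22U4
import Cfsg.Agent.Lib.helper35.Fi22U5
import Cfsg.Agent.Lib.helper35.Fi22U6
import Cfsg.Agent.Lib.helper35.Fi22U7
import Cfsg.Agent.Lib.helper35.Fi22U8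
import Cfsg.Agent.Lib.helper35.Fi22Low
import Cfsg.Agent.Lib.helper35.Fi22Tid

set_option autoImplicit false
set_option maxRecDepth 100000
open Cfsg

namespace Cfsg.Agent.S1696

open Cfsg.Agent.Lib.helper35 Cfsg.Spor

/-- numbering of the generators -/
def gen : ℕ → Fi22.Gen
  | 0 => .a | 1 => .b | 2 => .c | 3 => .d | 4 => .e | 5 => .f | 6 => .g | 7 => .h | _ => .i

def code : Fi22.Gen → ℕ
  | .a => 0 | .b => 1 | .c => 2 | .d => 3 | .e => 4 | .f => 5 | .g => 6 | .h => 7 | .i => 8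

/-- generators of the centraliser of `a` -/
def ysA : List (FreeGroup Fi22.Gen) :=
  [Fi22.a, Fi22.c, Fi22.d, Fi22.e, Fi22.f, Fi22.g, Fi22.h, Fi22.i,
    (Fi22.a * Fi22.b * Fi22.c * Fi22.d * Fi22.e * Fi22.h) ^ 5]

def ysB : List (FreeGroup Fi22.Gen) :=
  [Fi22.b, Fi22.c, Fi22.d, Fi22.e, Fi22.f, Fi22.g, Fi22.h, Fi22.i]

theorem pres : Pres Fi22.edges gen code 9 where
  node := by intro x; cases x <;> decide
  gen_code := by intro x; cases x <;> rfl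
  code_lt := by intro x; cases x <;> decide
  code_gen := by intro i hi; interval_cases i <;> rfl

theorem relWA_eq : Fi22a.relW = relWords Fi22.edges Fi22.extra gen code 9 := by decide +kernel

theorem subWA_eq : Fi22a.subW = ysA.map (wordOf code) := by decide +kernel

theorem relWB_eq : Fi22b.relW = relWords Fi22.edges Fi22.extra gen code 9 := by decide +kernel

theorem subWB_eq : Fi22b.subW = ysB.map (wordOf code) := by decide +kernel

theorem checksA : Checks Fi22.edges Fi22.extra gen code 9 Fi22a.C Fi22a.D Fi22a.relW Fi22a.subW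
    Fi22a.orbs ysA where
  pres := pres
  relW_eq := relWA_eq
  subW_eq := subWA_eq
  cK := rfl
  rows := Fi22a.rows_all
  fin := Fi22a.fin_all
  cM := by decide
  live0 := by decide +kernel
  cnt := Fi22a.cnt0
  rev := Fi22a.rev_ok
  wr := Fi22a.wr_ok
  ws := Fi22a.ws_ok
  dK := rfl
  dn := by decide
  inv := Fi22a.inv_ok
  rel := Fi22a.rel_ok
  sub := Fi22a.sub_ok
  letters := Fi22a.letters_ok
  tile := Fi22a.tile_ok
  pos := Fi22a.pos_ok
  orb := Fi22a.orb_ok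

theorem checksB : Checks Fi22.edges Fi22.extra gen code 9 Fi22b.C Fi22b.D Fi22b.relW Fi22b.subW
    Fi22b.orbs ysB where
  pres := pres
  relW_eq := relWB_eq
  subW_eq := subWB_eq
  cK := rfl
  rows := Fi22b.rows_all
  fin := Fi22b.fin_all
  cM := by decide
  live0 := by decide +kernel
  cnt := Fi22b.cnt0
  rev := Fi22b.rev_ok
  wr := Fi22b.wr_ok
  ws := Fi22b.ws_ok
  dK := rfl
  dn := by decide
  inv := Fi22b.inv_ok
  rel := Fi22b.rel_ok
  sub := Fi22b.sub_ok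
  letters := Fi22b.letters_ok
  tile := Fi22b.tile_ok
  pos := Fi22b.pos_ok
  orb := Fi22b.orb_ok

/-- the generators of the presented group, by letter -/
def φ : ℕ → Fi22 := sG Fi22.edges Fi22.extra gen

theorem hsq : ∀ l, φ l * φ l = 1 := fun l => sG_sq pres l

theorem hrelW : ∀ w ∈ Fi22a.relW, wprod φ w = 1 := by
  intro w hw
  rw [relWA_eq] at hw
  exact relWords_one pres w hw

theorem LS_top : LS φ [0, 1, 2, 3, 4, 5, 6, 7, 8] = ⊤ := by
  rw [eq_top_iff, ← PresentedGroup.closure_range_of]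
  unfold LS
  apply Subgroup.closure_mono
  rintro _ ⟨x, rfl⟩
  refine ⟨code x, by cases x <;> decide, ?_⟩
  show PresentedGroup.of x = PresentedGroup.mk _ (FreeGroup.of (gen (code x)))
  rw [pres.gen_code]
  rfl

theorem map_closure_eq_LS (ys : List (FreeGroup Fi22.Gen)) (S : List ℕ)
    (h : ys = S.map (fun l => FreeGroup.of (gen l))) :
    (Subgroup.closure {y | y ∈ ys}).map
      (PresentedGroup.mk (coxRelators Fi22.edges ∪ {r | r ∈ Fi22.extra})) = LS φ S := by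
  rw [MonoidHom.map_closure]
  unfold LS
  congr 1
  ext x
  simp only [Set.mem_image, Set.mem_ofPred_eq]
  constructor
  · rintro ⟨y, hy, rfl⟩
    rw [h, List.mem_map] at hy
    obtain ⟨l, hl, rfl⟩ := hy
    exact ⟨l, hl, rfl⟩
  · rintro ⟨l, hl, rfl⟩
    exact ⟨FreeGroup.of (gen l), by rw [h]; exact List.mem_map_of_mem hl, rfl⟩

/-- the centraliser of `a`, of index 3510 -/
def HA : Subgroup Fi22 := (Subgroup.closure {y | y ∈ ysA}).map
    (PresentedGroup.mk (coxRelators Fi22.edges ∪ {r | r ∈ Fi22.extra}))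

theorem HB_eq : (Subgroup.closure {y | y ∈ ysB}).map
    (PresentedGroup.mk (coxRelators Fi22.edges ∪ {r | r ∈ Fi22.extra})) =
      LS φ [1, 2, 3, 4, 5, 6, 7, 8] :=
  map_closure_eq_LS ysB [1, 2, 3, 4, 5, 6, 7, 8] rfl

theorem card_step {Γ : Type*} [Group Γ] {L' L : Subgroup Γ} (h : L' ≤ L) :
    Nat.card L' * L'.relIndex L = Nat.card L := by
  have := Subgroup.relIndex_mul_relIndex ⊥ L' L bot_le h
  rwa [Subgroup.relIndex_bot_left, Subgroup.relIndex_bot_left] at this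

theorem card_le_step {Γ : Type*} [Group Γ] {L' L : Subgroup Γ} (h : L' ≤ L) {a b : ℕ}
    (h1 : Nat.card L' ≠ 0 ∧ Nat.card L' ≤ a) (h2 : L'.relIndex L ≠ 0 ∧ L'.relIndex L ≤ b) :
    Nat.card L ≠ 0 ∧ Nat.card L ≤ a * b := by
  rw [← card_step h]
  exact ⟨Nat.mul_ne_zero h1.1 h2.1, Nat.mul_le_mul h1.2 h2.2⟩

theorem card_ge_step {Γ : Type*} [Group Γ] {L' L : Subgroup Γ} (h : L' ≤ L) {a b : ℕ}
    (h1 : a ≤ Nat.card L') (h2 : b ≤ L'.relIndex L) : a * b ≤ Nat.card L := by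
  rw [← card_step h]
  exact Nat.mul_le_mul h1 h2

theorem relIndex_ne_zero_of_le {Γ : Type*} [Group Γ] (L' : Subgroup Γ) {L M : Subgroup Γ}
    (hLM : L ≤ M) (hM : Nat.card M ≠ 0) : L'.relIndex L ≠ 0 := by
  have : Finite M := Nat.finite_of_card_ne_zero hM
  have : Finite L := Finite.of_injective (Subgroup.inclusion hLM) (Subgroup.inclusion_injective hLM)
  exact Subgroup.index_ne_zero_of_finite

theorem exact_step {Γ : Type*} [Group Γ] {L' L : Subgroup Γ} (h : L' ≤ L) {a b : ℕ}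
    (h1 : a ≤ Nat.card L') (h2 : b ≤ L'.relIndex L) (hc : Nat.card L = a * b) (ha : 0 < a)
    (hb : 0 < b) : Nat.card L' = a ∧ L'.relIndex L = b :=
  mul_eq_both h1 h2 (by rw [card_step h, hc]) ha hb

/-- the order of the group, the maximality of the two subgroups and the triviality of normal
subgroups contained in the centraliser of `a` -/
theorem order_facts :
    Nat.card Fi22 = 64561751654400 ∧
    (∀ L : Subgroup Fi22, HA ≤ L → L = HA ∨ L = ⊤) ∧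
    HA.index = 3510 ∧
    (∀ N : Subgroup Fi22, N.Normal → N ≤ HA → N = ⊥) ∧
    ∃ ρ1 : Fi22 →* Equiv.Perm ℕ, (∀ l, l < 9 → ∀ c, ρ1 (φ l) c = sig Fi22a.D l c) ∧
      (∀ a, ρ1 a 0 = 0 ↔ a ∈ HA) := by
  obtain ⟨ρ1, hρ1, hstab1, htr1, hlt1, hidx1, htree1, -⟩ :=
    CoxIndex.main2 checksA {y | y ∈ ysA} (fun y => Iff.rfl)
  obtain ⟨ρ2, hρ2, hstab2, htr2, hlt2, hidx2, htree2, -⟩ :=
    CoxIndex.main2 checksB {y | y ∈ ysB} (fun y => Iff.rfl)
  change ∀ a, ρ1 a 0 = 0 ↔ a ∈ HA at hstab1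
  change HA.index = Fi22a.D.n at hidx1
  change ∀ o ∈ Fi22a.orbs, ∀ c, o.1 ≤ c → c < o.1 + o.2.1 → ∃ a ∈ HA, ρ1 a o.1 = c at htree1
  rw [HB_eq] at hstab2 hidx2 htree2
  have hρ1' : ∀ l, l < Fi22a.D.K → ∀ c, ρ1 (φ l) c = sig Fi22a.D l c := hρ1
  have hn1 : Fi22a.D.n = 3510 := rfl
  have hn2 : Fi22b.D.n = 14080 := rfl
  rw [hn1] at hidx1 htr1 hlt1
  rw [hn2] at hidx2 htr2 hlt2
  -- upper bounds along the chain b..i > b..h > b..g > b..f > b..e > bcd > bc > b > 1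
  have u1 : (LS φ [1, 2, 3, 4, 5, 6, 7]).relIndex (LS φ [1, 2, 3, 4, 5, 6, 7, 8]) ≠ 0 ∧
      (LS φ [1, 2, 3, 4, 5, 6, 7]).relIndex (LS φ [1, 2, 3, 4, 5, 6, 7, 8]) ≤ 3159 :=
    Fi22U1.bound φ hsq hrelW
  have u2 : (LS φ [1, 2, 3, 4, 5, 6]).relIndex (LS φ [1, 2, 3, 4, 5, 6, 7]) ≠ 0 ∧
      (LS φ [1, 2, 3, 4, 5, 6]).relIndex (LS φ [1, 2, 3, 4, 5, 6, 7]) ≤ 288 :=
    Fi22U2.bound φ hsq hrelW
  have u3 : (LS φ [1, 2, 3, 4, 5]).relIndex (LS φ [1, 2, 3, 4, 5, 6]) ≠ 0 ∧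
      (LS φ [1, 2, 3, 4, 5]).relIndex (LS φ [1, 2, 3, 4, 5, 6]) ≤ 7 :=
    Fi22U3.bound φ hsq hrelW
  have u4 : (LS φ [1, 2, 3, 4]).relIndex (LS φ [1, 2, 3, 4, 5]) ≠ 0 ∧
      (LS φ [1, 2, 3, 4]).relIndex (LS φ [1, 2, 3, 4, 5]) ≤ 6 :=
    Fi22U4.bound φ hsq hrelW
  have u5 : (LS φ [1, 2, 3]).relIndex (LS φ [1, 2, 3, 4]) ≠ 0 ∧
      (LS φ [1, 2, 3]).relIndex (LS φ [1, 2, 3, 4]) ≤ 5 :=
    Fi22U5.bound φ hsq hrelW
  have u6 : (LS φ [1, 2]).relIndex (LS φ [1, 2, 3]) ≠ 0 ∧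
      (LS φ [1, 2]).relIndex (LS φ [1, 2, 3]) ≤ 4 :=
    Fi22U6.bound φ hsq hrelW
  have u7 : (LS φ [1]).relIndex (LS φ [1, 2]) ≠ 0 ∧
      (LS φ [1]).relIndex (LS φ [1, 2]) ≤ 3 :=
    Fi22U7.bound φ hsq hrelW
  have u8 : (LS φ []).relIndex (LS φ [1]) ≠ 0 ∧
      (LS φ []).relIndex (LS φ [1]) ≤ 2 :=
    Fi22U8.bound φ hsq hrelW
  have k8 : Nat.card (LS φ []) ≠ 0 ∧ Nat.card (LS φ []) ≤ 1 := by
    rw [LS_nil, Subgroup.card_bot]; exact ⟨one_ne_zero, le_refl 1⟩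
  have k7 := card_le_step (LS_mono φ (S := [1]) (T := []) (by decide)) k8 u8
  have k6 := card_le_step (LS_mono φ (S := [1, 2]) (T := [1]) (by decide)) k7 u7
  have k5 := card_le_step (LS_mono φ (S := [1, 2, 3]) (T := [1, 2]) (by decide)) k6 u6
  have k4 := card_le_step (LS_mono φ (S := [1, 2, 3, 4]) (T := [1, 2, 3]) (by decide)) k5 u5
  have k3 := card_le_step (LS_mono φ (S := [1, 2, 3, 4, 5]) (T := [1, 2, 3, 4]) (by decide)) k4 u4
  have k2 := card_le_step (LS_mono φ (S := [1, 2, 3, 4, 5, 6]) (T := [1, 2, 3, 4, 5]) (by decide))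
    k3 u3
  have k1 := card_le_step (LS_mono φ (S := [1, 2, 3, 4, 5, 6, 7]) (T := [1, 2, 3, 4, 5, 6])
    (by decide)) k2 u2
  have k0 := card_le_step (LS_mono φ (S := [1, 2, 3, 4, 5, 6, 7, 8]) (T := [1, 2, 3, 4, 5, 6, 7])
    (by decide)) k1 u1
  have hH0 : Nat.card (LS φ [1, 2, 3, 4, 5, 6, 7, 8]) ≠ 0 := k0.1
  have hHle : Nat.card (LS φ [1, 2, 3, 4, 5, 6, 7, 8]) ≤ 4585351680 := by
    have := k0.2
    norm_num at this
    exact this
  -- the chain b..i > c..i > d..i > defgh > defg > efg > fg > g > 1, with orbits on 3510 points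
  have i1 : LS φ [2, 3, 4, 5, 6, 7, 8] ≤ LS φ [1, 2, 3, 4, 5, 6, 7, 8] := LS_mono φ (by decide)
  have i2 : LS φ [3, 4, 5, 6, 7, 8] ≤ LS φ [2, 3, 4, 5, 6, 7, 8] := LS_mono φ (by decide)
  have i3 : LS φ [3, 4, 5, 6, 7] ≤ LS φ [3, 4, 5, 6, 7, 8] := LS_mono φ (by decide)
  have i4 : LS φ [3, 4, 5, 6] ≤ LS φ [3, 4, 5, 6, 7] := LS_mono φ (by decide)
  have i5 : LS φ [4, 5, 6] ≤ LS φ [3, 4, 5, 6] := LS_mono φ (by decide)
  have i6 : LS φ [5, 6] ≤ LS φ [4, 5, 6] := LS_mono φ (by decide)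
  have i7 : LS φ [6] ≤ LS φ [5, 6] := LS_mono φ (by decide)
  have i8 : LS φ [] ≤ LS φ [6] := LS_mono φ (by decide)
  have j1 : LS φ [1, 2, 3, 4, 5, 6, 7, 8] ≤ LS φ [1, 2, 3, 4, 5, 6, 7, 8] := le_refl _
  have j2 := i1.trans j1
  have j3 := i2.trans j2
  have j4 := i3.trans j3
  have j5 := i4.trans j4
  have j6 := i5.trans j5
  have j7 := i6.trans j6
  have j8 := i7.trans j7
  have f1 := relIndex_ne_zero_of_le (LS φ [2, 3, 4, 5, 6, 7, 8]) j1 hH0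
  have f2 := relIndex_ne_zero_of_le (LS φ [3, 4, 5, 6, 7, 8]) j2 hH0
  have f3 := relIndex_ne_zero_of_le (LS φ [3, 4, 5, 6, 7]) j3 hH0
  have f4 := relIndex_ne_zero_of_le (LS φ [3, 4, 5, 6]) j4 hH0
  have f5 := relIndex_ne_zero_of_le (LS φ [4, 5, 6]) j5 hH0
  have f6 := relIndex_ne_zero_of_le (LS φ [5, 6]) j6 hH0
  have f7 := relIndex_ne_zero_of_le (LS φ [6]) j7 hH0
  have f8 := relIndex_ne_zero_of_le (LS φ []) j8 hH0
  obtain ⟨l1, fx1, O1, hO1c, hO1⟩ :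
      3159 ≤ (LS φ [2, 3, 4, 5, 6, 7, 8]).relIndex (LS φ [1, 2, 3, 4, 5, 6, 7, 8]) ∧
      (∀ a ∈ LS φ [2, 3, 4, 5, 6, 7, 8], ρ1 a 0 = 0) ∧
      ∃ O : Finset ℕ, O.card = 3159 ∧ ∀ c ∈ O, ∃ a ∈ LS φ [1, 2, 3, 4, 5, 6, 7, 8], ρ1 a 0 = c :=
    Fi22Low.low1 ρ1 φ hρ1' f1
  obtain ⟨l2, fx2, O2, hO2c, hO2⟩ :
      288 ≤ (LS φ [3, 4, 5, 6, 7, 8]).relIndex (LS φ [2, 3, 4, 5, 6, 7, 8]) ∧
      (∀ a ∈ LS φ [3, 4, 5, 6, 7, 8], ρ1 a 1 = 1) ∧
      ∃ O : Finset ℕ, O.card = 288 ∧ ∀ c ∈ O, ∃ a ∈ LS φ [2, 3, 4, 5, 6, 7, 8], ρ1 a 1 = c :=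
    Fi22Low.low2 ρ1 φ hρ1' f2
  obtain ⟨l3, fx3, O3, hO3c, hO3⟩ :
      7 ≤ (LS φ [3, 4, 5, 6, 7]).relIndex (LS φ [3, 4, 5, 6, 7, 8]) ∧
      (∀ a ∈ LS φ [3, 4, 5, 6, 7], ρ1 a 226 = 226) ∧
      ∃ O : Finset ℕ, O.card = 7 ∧ ∀ c ∈ O, ∃ a ∈ LS φ [3, 4, 5, 6, 7, 8], ρ1 a 226 = c :=
    Fi22Low.low3 ρ1 φ hρ1' f3
  obtain ⟨l4, fx4, O4, hO4c, hO4⟩ :
      6 ≤ (LS φ [3, 4, 5, 6]).relIndex (LS φ [3, 4, 5, 6, 7]) ∧
      (∀ a ∈ LS φ [3, 4, 5, 6], ρ1 a 337 = 337) ∧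
      ∃ O : Finset ℕ, O.card = 6 ∧ ∀ c ∈ O, ∃ a ∈ LS φ [3, 4, 5, 6, 7], ρ1 a 337 = c :=
    Fi22Low.low4 ρ1 φ hρ1' f4
  obtain ⟨l5, fx5, O5, hO5c, hO5⟩ :
      5 ≤ (LS φ [4, 5, 6]).relIndex (LS φ [3, 4, 5, 6]) ∧
      (∀ a ∈ LS φ [4, 5, 6], ρ1 a 3 = 3) ∧
      ∃ O : Finset ℕ, O.card = 5 ∧ ∀ c ∈ O, ∃ a ∈ LS φ [3, 4, 5, 6], ρ1 a 3 = c :=
    Fi22Low.low5 ρ1 φ hρ1' f5
  obtain ⟨l6, fx6, O6, hO6c, hO6⟩ :
      4 ≤ (LS φ [5, 6]).relIndex (LS φ [4, 5, 6]) ∧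
      (∀ a ∈ LS φ [5, 6], ρ1 a 5 = 5) ∧
      ∃ O : Finset ℕ, O.card = 4 ∧ ∀ c ∈ O, ∃ a ∈ LS φ [4, 5, 6], ρ1 a 5 = c :=
    Fi22Low.low6 ρ1 φ hρ1' f6
  obtain ⟨l7, fx7, O7, hO7c, hO7⟩ :
      3 ≤ (LS φ [6]).relIndex (LS φ [5, 6]) ∧
      (∀ a ∈ LS φ [6], ρ1 a 7 = 7) ∧
      ∃ O : Finset ℕ, O.card = 3 ∧ ∀ c ∈ O, ∃ a ∈ LS φ [5, 6], ρ1 a 7 = c :=
    Fi22Low.low7 ρ1 φ hρ1' f7
  obtain ⟨l8, fx8, O8, hO8c, hO8⟩ :
      2 ≤ (LS φ []).relIndex (LS φ [6]) ∧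
      (∀ a ∈ LS φ [], ρ1 a 11 = 11) ∧
      ∃ O : Finset ℕ, O.card = 2 ∧ ∀ c ∈ O, ∃ a ∈ LS φ [6], ρ1 a 11 = c :=
    Fi22Low.low8 ρ1 φ hρ1' f8
  -- lower bounds for the orders
  have g8 : 1 ≤ Nat.card (LS φ []) := by rw [LS_nil, Subgroup.card_bot]
  have g7 := card_ge_step i8 g8 l8
  have g6 := card_ge_step i7 g7 l7
  have g5 := card_ge_step i6 g6 l6
  have g4 := card_ge_step i5 g5 l5
  have g3 := card_ge_step i4 g4 l4
  have g2 := card_ge_step i3 g3 l3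
  have g1 := card_ge_step i2 g2 l2
  have g0 := card_ge_step i1 g1 l1
  have cH : Nat.card (LS φ [1, 2, 3, 4, 5, 6, 7, 8]) = 4585351680 := by
    have : (1 * 2 * 3 * 4 * 5 * 6 * 7 * 288 * 3159 : ℕ) = 4585351680 := by norm_num
    rw [this] at g0
    exact le_antisymm hHle g0
  -- exact indices
  obtain ⟨c1, r1⟩ := exact_step i1 g1 l1 (by rw [cH]) (by norm_num) (by norm_num)
  obtain ⟨c2, r2⟩ := exact_step i2 g2 l2 (by rw [c1]) (by norm_num) (by norm_num)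
  obtain ⟨c3, r3⟩ := exact_step i3 g3 l3 (by rw [c2]) (by norm_num) (by norm_num)
  obtain ⟨c4, r4⟩ := exact_step i4 g4 l4 (by rw [c3]) (by norm_num) (by norm_num)
  obtain ⟨c5, r5⟩ := exact_step i5 g5 l5 (by rw [c4]) (by norm_num) (by norm_num)
  obtain ⟨c6, r6⟩ := exact_step i6 g6 l6 (by rw [c5]) (by norm_num) (by norm_num)
  obtain ⟨c7, r7⟩ := exact_step i7 g7 l7 (by rw [c6]) (by norm_num) (by norm_num)
  obtain ⟨c8, r8⟩ := exact_step i8 g8 l8 (by rw [c7]) (by norm_num) (by norm_num)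
  have cG : Nat.card Fi22 = 64561751654400 := by
    have := Subgroup.card_mul_index (LS φ [1, 2, 3, 4, 5, 6, 7, 8])
    rw [cH, hidx2] at this
    exact this.symm
  -- maximality
  have hmax1 : ∀ L : Subgroup Fi22, HA ≤ L → L = HA ∨ L = ⊤ :=
    maximal_of_orbits _ ρ1 3510 Fi22a.orbs hstab1 hlt1 hidx1 (by norm_num) Fi22a.tile_ok htree1
      (by decide +kernel)
  have hmax2 : ∀ L : Subgroup Fi22, LS φ [1, 2, 3, 4, 5, 6, 7, 8] ≤ L →
      L = LS φ [1, 2, 3, 4, 5, 6, 7, 8] ∨ L = ⊤ :=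
    maximal_of_orbits _ ρ2 14080 Fi22b.orbs hstab2 hlt2 hidx2 (by norm_num) Fi22b.tile_ok htree2
      (by decide +kernel)
  refine ⟨cG, hmax1, hidx1, ?_, ρ1, hρ1, hstab1⟩
  -- normal subgroups inside the centraliser of `a`
  intro N hN hN1
  have hN2 : N ≤ LS φ [1, 2, 3, 4, 5, 6, 7, 8] := by
    by_contra hcon
    have htop : LS φ [1, 2, 3, 4, 5, 6, 7, 8] ⊔ N = ⊤ := by
      rcases hmax2 _ le_sup_left with h | h
      · exact absurd (h ▸ le_sup_right) hcon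
      · exact h
    have hall : ∀ c ∈ Finset.range 3510, ∃ a ∈ LS φ [1, 2, 3, 4, 5, 6, 7, 8], ρ1 a 0 = c := by
      intro c hc
      obtain ⟨g, hg⟩ := htr1 c (Finset.mem_range.1 hc)
      have hg' : g ∈ LS φ [1, 2, 3, 4, 5, 6, 7, 8] ⊔ N := by rw [htop]; trivial
      obtain ⟨y, hy, z, hz, rfl⟩ := Subgroup.mem_sup_of_normal_right.1 hg'
      refine ⟨y, hy, ?_⟩
      rw [map_mul, Equiv.Perm.mul_apply, (hstab1 z).2 (hN1 hz)] at hg
      exact hg
    have := le_relIndex_of_orbit ρ1 _ _ f1 0 fx1 (Finset.range 3510) hall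
    rw [Finset.card_range, r1] at this
    norm_num at this
  rw [eq_bot_iff]
  intro g hg
  have hfix1 : ∀ c, c < 3510 → ρ1 g c = c := by
    intro c hc
    obtain ⟨a, rfl⟩ := htr1 c hc
    have h1 : a⁻¹ * g * a⁻¹⁻¹ ∈ N := hN.conj_mem g hg a⁻¹
    have h2 := (hstab1 _).2 (hN1 h1)
    simp only [map_mul, map_inv, inv_inv, Equiv.Perm.mul_apply] at h2
    rw [Equiv.Perm.inv_eq_iff_eq] at h2
    exact h2
  have e0 : g ∈ LS φ [1, 2, 3, 4, 5, 6, 7, 8] := hN2 hg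
  have e1 : g ∈ LS φ [2, 3, 4, 5, 6, 7, 8] :=
    stab_eq_of_orbit ρ1 _ _ i1 f1 _ fx1 O1 hO1 (by rw [hO1c, r1]) g e0 (hfix1 _ (by norm_num))
  have e2 : g ∈ LS φ [3, 4, 5, 6, 7, 8] :=
    stab_eq_of_orbit ρ1 _ _ i2 f2 _ fx2 O2 hO2 (by rw [hO2c, r2]) g e1 (hfix1 _ (by norm_num))
  have e3 : g ∈ LS φ [3, 4, 5, 6, 7] :=
    stab_eq_of_orbit ρ1 _ _ i3 f3 _ fx3 O3 hO3 (by rw [hO3c, r3]) g e2 (hfix1 _ (by norm_num))
  have e4 : g ∈ LS φ [3, 4, 5, 6] :=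
    stab_eq_of_orbit ρ1 _ _ i4 f4 _ fx4 O4 hO4 (by rw [hO4c, r4]) g e3 (hfix1 _ (by norm_num))
  have e5 : g ∈ LS φ [4, 5, 6] :=
    stab_eq_of_orbit ρ1 _ _ i5 f5 _ fx5 O5 hO5 (by rw [hO5c, r5]) g e4 (hfix1 _ (by norm_num))
  have e6 : g ∈ LS φ [5, 6] :=
    stab_eq_of_orbit ρ1 _ _ i6 f6 _ fx6 O6 hO6 (by rw [hO6c, r6]) g e5 (hfix1 _ (by norm_num))
  have e7 : g ∈ LS φ [6] :=
    stab_eq_of_orbit ρ1 _ _ i7 f7 _ fx7 O7 hO7 (by rw [hO7c, r7]) g e6 (hfix1 _ (by norm_num))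
  have e8 : g ∈ LS φ [] :=
    stab_eq_of_orbit ρ1 _ _ i8 f8 _ fx8 O8 hO8 (by rw [hO8c, r8]) g e7 (hfix1 _ (by norm_num))
  rwa [LS_nil] at e8

/-- neighbours in the diagram are conjugate -/
theorem mem_of_edge (N : Subgroup Fi22) (hN : N.Normal) (i j : ℕ)
    (hw : [i, j, i, j, i, j] ∈ Fi22a.relW) (hi : φ i ∈ N) : φ j ∈ N := by
  have h := hrelW _ hw
  simp only [wprod, List.map, List.prod_cons, List.prod_nil, mul_one] at h
  have e1 : φ i * φ j * φ i * φ j * φ i = φ j := by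
    calc φ i * φ j * φ i * φ j * φ i = φ i * φ j * φ i * φ j * φ i * (φ j * φ j) := by
          rw [hsq, mul_one]
      _ = (φ i * (φ j * (φ i * (φ j * (φ i * φ j))))) * φ j := by simp only [mul_assoc]
      _ = φ j := by rw [h, one_mul]
  have hi' : (φ i)⁻¹ = φ i := inv_eq_of_mul_eq_one_left (hsq i)
  have hj' : (φ j)⁻¹ = φ j := inv_eq_of_mul_eq_one_left (hsq j)
  have e : (φ i * φ j) * φ i * (φ i * φ j)⁻¹ = φ j := by
    rw [mul_inv_rev, hi', hj', ← mul_assoc]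
    exact e1
  rw [← e]
  exact hN.conj_mem _ hi _

/-- the normal closure of `a` is the whole group -/
theorem normalClosure_a :
    Subgroup.normalClosure ((Subgroup.zpowers (φ 0) : Subgroup Fi22) : Set Fi22) = ⊤ := by
  have hN : (Subgroup.normalClosure ((Subgroup.zpowers (φ 0) : Subgroup Fi22) : Set Fi22)).Normal :=
    Subgroup.normalClosure_normal
  have h0 : φ 0 ∈ Subgroup.normalClosure ((Subgroup.zpowers (φ 0) : Subgroup Fi22) : Set Fi22) :=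
    Subgroup.subset_normalClosure (Subgroup.mem_zpowers (φ 0))
  have h1 := mem_of_edge _ hN 0 1 (by decide +kernel) h0
  have h2 := mem_of_edge _ hN 1 2 (by decide +kernel) h1
  have h3 := mem_of_edge _ hN 2 3 (by decide +kernel) h2
  have h4 := mem_of_edge _ hN 3 4 (by decide +kernel) h3
  have h5 := mem_of_edge _ hN 4 5 (by decide +kernel) h4
  have h6 := mem_of_edge _ hN 5 6 (by decide +kernel) h5
  have h7 := mem_of_edge _ hN 3 7 (by decide +kernel) h3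
  have h8 := mem_of_edge _ hN 7 8 (by decide +kernel) h7
  rw [eq_top_iff, ← LS_top]
  unfold LS
  rw [Subgroup.closure_le]
  rintro _ ⟨l, hl, rfl⟩
  simp only [List.mem_cons, List.not_mem_nil, or_false] at hl
  rcases hl with rfl | rfl | rfl | rfl | rfl | rfl | rfl | rfl | rfl
  · exact h0
  · exact h1
  · exact h2
  · exact h3
  · exact h4
  · exact h5
  · exact h6
  · exact h7
  · exact h8

/-- images of the generators in the abelianisation -/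
def ab (l : ℕ) : Abelianization Fi22 := Abelianization.of (φ l)

theorem ab_sq (l : ℕ) : ab l * ab l = 1 := by
  unfold ab
  rw [← map_mul, hsq, map_one]

theorem ab_edge (i j : ℕ) (hw : [i, j, i, j, i, j] ∈ Fi22a.relW) : ab i = ab j := by
  have h := congrArg (Abelianization.of (G := Fi22)) (hrelW _ hw)
  simp only [wprod, List.map, List.prod_cons, List.prod_nil, mul_one, map_mul, map_one] at h
  change ab i * (ab j * (ab i * (ab j * (ab i * ab j)))) = 1 at h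
  have h' : ab i * ab j = 1 := by
    calc ab i * ab j = ab i * ab j * ((ab i * ab i) * (ab j * ab j)) := by
          rw [ab_sq, ab_sq, mul_one, mul_one]
      _ = ab i * (ab j * (ab i * (ab j * (ab i * ab j)))) := by
          simp only [mul_assoc, mul_left_comm (ab j) (ab i)]
      _ = 1 := h
  calc ab i = ab i * (ab j * ab j) := by rw [ab_sq, mul_one]
    _ = ab i * ab j * ab j := by rw [mul_assoc]
    _ = ab j := by rw [h', one_mul]

theorem perfect : commutator Fi22 = ⊤ := by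
  have e01 : ab 0 = ab 1 := ab_edge 0 1 (by decide +kernel)
  have e12 : ab 1 = ab 2 := ab_edge 1 2 (by decide +kernel)
  have e23 : ab 2 = ab 3 := ab_edge 2 3 (by decide +kernel)
  have e34 : ab 3 = ab 4 := ab_edge 3 4 (by decide +kernel)
  have e45 : ab 4 = ab 5 := ab_edge 4 5 (by decide +kernel)
  have e56 : ab 5 = ab 6 := ab_edge 5 6 (by decide +kernel)
  have e37 : ab 3 = ab 7 := ab_edge 3 7 (by decide +kernel)
  have e78 : ab 7 = ab 8 := ab_edge 7 8 (by decide +kernel)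
  have h1 : ab 1 = ab 0 := e01.symm
  have h2 : ab 2 = ab 0 := e12.symm.trans h1
  have h3 : ab 3 = ab 0 := e23.symm.trans h2
  have h4 : ab 4 = ab 0 := e34.symm.trans h3
  have h5 : ab 5 = ab 0 := e45.symm.trans h4
  have h6 : ab 6 = ab 0 := e56.symm.trans h5
  have h7 : ab 7 = ab 0 := e37.symm.trans h3
  have h8 : ab 8 = ab 0 := e78.symm.trans h7
  -- (abcdefh)^9 = 1
  have h0 : ab 0 = 1 := by
    have h := congrArg (Abelianization.of (G := Fi22))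
      (hrelW ([0, 1, 2, 3, 4, 5, 7] ++ [0, 1, 2, 3, 4, 5, 7] ++ [0, 1, 2, 3, 4, 5, 7] ++
        [0, 1, 2, 3, 4, 5, 7] ++ [0, 1, 2, 3, 4, 5, 7] ++ [0, 1, 2, 3, 4, 5, 7] ++
        [0, 1, 2, 3, 4, 5, 7] ++ [0, 1, 2, 3, 4, 5, 7] ++ [0, 1, 2, 3, 4, 5, 7]) (by decide +kernel))
    simp only [wprod_append, map_mul, map_one] at h
    have hw : Abelianization.of (wprod φ [0, 1, 2, 3, 4, 5, 7]) = ab 0 := by
      simp only [wprod, List.map, List.prod_cons, List.prod_nil, mul_one, map_mul]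
      change ab 0 * (ab 1 * (ab 2 * (ab 3 * (ab 4 * (ab 5 * ab 7))))) = ab 0
      rw [h1, h2, h3, h4, h5, h7, ab_sq, mul_one, ab_sq, mul_one, ab_sq, mul_one]
    rw [hw] at h
    rw [ab_sq, one_mul, ab_sq, one_mul, ab_sq, one_mul, ab_sq, one_mul] at h
    exact h
  have hmem : ∀ l ∈ [0, 1, 2, 3, 4, 5, 6, 7, 8], φ l ∈ commutator Fi22 := by
    intro l hl
    have hab : ab l = 1 := by
      simp only [List.mem_cons, List.not_mem_nil, or_false] at hl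
      rcases hl with rfl | rfl | rfl | rfl | rfl | rfl | rfl | rfl | rfl
      · exact h0
      · exact h1.trans h0
      · exact h2.trans h0
      · exact h3.trans h0
      · exact h4.trans h0
      · exact h5.trans h0
      · exact h6.trans h0
      · exact h7.trans h0
      · exact h8.trans h0
    rw [← Abelianization.ker_of Fi22]
    exact MonoidHom.mem_ker.2 hab
  rw [eq_top_iff, ← LS_top]
  unfold LS
  rw [Subgroup.closure_le]
  rintro _ ⟨l, hl, rfl⟩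
  exact hmem l hl

theorem mk_uw : PresentedGroup.mk (coxRelators Fi22.edges ∪ {r | r ∈ Fi22.extra})
    ((Fi22.a * Fi22.b * Fi22.c * Fi22.d * Fi22.e * Fi22.h) ^ 5) = wprod φ Fi22Tid.uw := by
  rw [map_pow, map_mul, map_mul, map_mul, map_mul, map_mul]
  change (φ 0 * φ 1 * φ 2 * φ 3 * φ 4 * φ 7) ^ 5 = wprod φ Fi22Tid.uw
  simp only [wprod, Fi22Tid.uw, List.map, List.prod_cons, List.prod_nil, mul_one, pow_succ,
    pow_zero, one_mul, mul_assoc]

theorem comm_of_rel (i j : ℕ) (hw : [i, j, i, j] ∈ Fi22a.relW) : φ j * φ i = φ i * φ j := by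
  have h := hrelW _ hw
  simp only [wprod, List.map, List.prod_cons, List.prod_nil, mul_one] at h
  calc φ j * φ i = (φ i * φ i) * (φ j * φ i) * (φ j * φ j) := by
        rw [hsq, hsq, one_mul, mul_one]
    _ = φ i * (φ i * (φ j * (φ i * φ j))) * φ j := by simp only [mul_assoc]
    _ = φ i * φ j := by rw [h, mul_one]

theorem main_aux : IsSimpleGroup Fi22 ∧ Nat.card Fi22 = 64561751654400 := by
  obtain ⟨cG, hmax1, hidx1, hN, ρ1, hρ1, hstab1⟩ := order_facts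
  have hfinG : Finite Fi22 := Nat.finite_of_card_ne_zero (by rw [cG]; norm_num)
  have hntG : Nontrivial Fi22 := by
    rw [← Finite.one_lt_card_iff_nontrivial, cG]; norm_num
  have hcoreA : HA.normalCore = ⊥ :=
    hN _ (Subgroup.normalCore_normal HA) (Subgroup.normalCore_le _)
  have hinj : Function.Injective ρ1 := by
    rw [injective_iff_map_eq_one]
    intro g hg
    have hmem : g ∈ HA.normalCore := by
      intro b
      apply (hstab1 _).1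
      rw [map_mul, map_mul, hg, mul_one, ← map_mul, mul_inv_cancel, map_one]
      rfl
    rw [hcoreA] at hmem
    exact Subgroup.mem_bot.1 hmem
  have hρ1' : ∀ l, l < Fi22a.D.K → ∀ c, ρ1 (φ l) c = sig Fi22a.D l c := hρ1
  -- (abcdeh)^5 commutes with a
  have hu : wprod φ Fi22Tid.uw * φ 0 = φ 0 * wprod φ Fi22Tid.uw := by
    have h1 := wprod_eq_of_actP ρ1 hinj φ hsq Fi22a.D Fi22a.inv_ok hρ1'
      (Fi22Tid.uw ++ 0 :: Fi22Tid.uw.reverse) [0] (by decide) (by decide) Fi22Tid.tid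
    rw [wprod_append, wprod_cons, wprod_cons, wprod_nil, mul_one, wprod_reverse φ hsq,
      ← mul_assoc, mul_inv_eq_iff_eq_mul] at h1
    exact h1
  have hcomm : ∀ h ∈ HA, h * φ 0 = φ 0 * h := by
    intro h hh
    have hle : HA ≤ Subgroup.centralizer ({φ 0} : Set Fi22) := by
      unfold HA
      rw [MonoidHom.map_closure, Subgroup.closure_le]
      rintro _ ⟨y, hy, rfl⟩
      rw [SetLike.mem_coe, Subgroup.mem_centralizer_iff]
      intro x hx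
      rw [Set.mem_singleton_iff] at hx
      subst hx
      have hy' : y ∈ ysA := hy
      simp only [ysA, List.mem_cons, List.not_mem_nil, or_false] at hy'
      rcases hy' with rfl | rfl | rfl | rfl | rfl | rfl | rfl | rfl | rfl
      · rfl
      · exact (comm_of_rel 0 2 (by decide +kernel)).symm
      · exact (comm_of_rel 0 3 (by decide +kernel)).symm
      · exact (comm_of_rel 0 4 (by decide +kernel)).symm
      · exact (comm_of_rel 0 5 (by decide +kernel)).symm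
      · exact (comm_of_rel 0 6 (by decide +kernel)).symm
      · exact (comm_of_rel 0 7 (by decide +kernel)).symm
      · exact (comm_of_rel 0 8 (by decide +kernel)).symm
      · rw [mk_uw]
        exact hu.symm
    have := Subgroup.mem_centralizer_iff.1 (hle hh) (φ 0) rfl
    exact this.symm
  have hAH : ∀ h ∈ HA, ∀ a ∈ Subgroup.zpowers (φ 0), h * a * h⁻¹ ∈ Subgroup.zpowers (φ 0) := by
    intro h hh a ha
    have hc : Commute h (φ 0) := hcomm h hh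
    obtain ⟨k, hk⟩ := Subgroup.mem_zpowers_iff.1 ha
    have e : h * a * h⁻¹ = a := by
      rw [← hk, (hc.zpow_right k).eq, mul_inv_cancel_right]
    rw [e]
    exact ha
  refine ⟨simple_of_iwasawa HA (Subgroup.zpowers (φ 0)) hmax1 ?_ ?_ hAH normalClosure_a
    perfect, cG⟩
  · intro h
    rw [h, Subgroup.index_top] at hidx1
    norm_num at hidx1
  · intro g hg
    have hmem : g ∈ HA.normalCore := hg
    rw [hcoreA] at hmem
    exact Subgroup.mem_bot.1 hmem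


/-- The presented Fischer group Fi22 is simple of the expected order (that is, it is a simple group of the order of the Fischer group Fi₂₂). -/
theorem result : Cfsg.IsFi22 Cfsg.Spor.Fi22 := by
  exact main_aux

end Cfsg.Agent.S1696
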