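import Cfsg.Statements.S1684
import Cfsg.Agent.S1696
import Cfsg.Agent.Lib.helper35.U6T

set_option autoImplicit false
set_option maxRecDepth 100000
open Cfsg

namespace Cfsg.Agent.S1684

open Cfsg.Agent.Lib.helper35 Cfsg.Spor Cfsg.Agent.Lib.helper35.SpF Cfsg.Agent.Lib.helper35.U6F
  Cfsg.Agent.Lib.helper35.U6T

local notation "φ" => S1696.φ
local notation "HA" => S1696.HA

/-- the facts about the permutation representation of `Fi₂₂` on the 3510 cosets of `HA` -/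
structure Rep (ρ : Fi22 →* Equiv.Perm ℕ) : Prop where
  gen : ∀ l, l < Fi22a.D.K → ∀ c, ρ (φ l) c = sig Fi22a.D l c
  stab : ∀ g, ρ g 0 = 0 ↔ g ∈ HA
  lt : ∀ g c, c < 3510 → ρ g c < 3510
  faith : ∀ g : Fi22, (∀ c, c < 3510 → ρ g c = c) → g = 1
  tree1 : ∀ c, 1 ≤ c → c < 2817 → ∃ g ∈ HA, ρ g 1 = c
  tree2 : ∀ c, 2817 ≤ c → c < 3510 → ∃ g ∈ HA, ρ g 2817 = c
  orb1 : ∀ g ∈ HA, ∀ c, (1 ≤ c ∧ c < 2817) ↔ (1 ≤ ρ g c ∧ ρ g c < 2817)
  orb2 : ∀ g ∈ HA, ∀ c, (2817 ≤ c ∧ c < 3510) ↔ (2817 ≤ ρ g c ∧ ρ g c < 3510)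

theorem rho_mul (ρ : Fi22 →* Equiv.Perm ℕ) (a b : Fi22) (c : ℕ) : ρ (a * b) c = ρ a (ρ b c) := by
  rw [map_mul, Equiv.Perm.mul_apply]

theorem exists_rep : ∃ ρ : Fi22 →* Equiv.Perm ℕ, Rep ρ := by
  obtain ⟨ρ, hρ, hstab, htr, hlt0, -, htree, horb⟩ :=
    CoxIndex.main2 S1696.checksA {y | y ∈ S1696.ysA} (fun y => Iff.rfl)
  change ∀ a, ρ a 0 = 0 ↔ a ∈ HA at hstab
  change ∀ o ∈ Fi22a.orbs, ∀ c, o.1 ≤ c → c < o.1 + o.2.1 → ∃ a ∈ HA, ρ a o.1 = c at htree
  change ∀ o ∈ Fi22a.orbs, ∀ a ∈ HA, ∀ c,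
    (o.1 ≤ c ∧ c < o.1 + o.2.1) ↔ (o.1 ≤ ρ a c ∧ ρ a c < o.1 + o.2.1) at horb
  obtain ⟨-, -, -, hN, -⟩ := S1696.order_facts
  have hn : Fi22a.D.n = 3510 := rfl
  rw [hn] at htr hlt0
  have hlt : ∀ g c, c < 3510 → ρ g c < 3510 := by
    intro g c hc
    obtain ⟨b, hb⟩ := htr c hc
    rw [← hb, ← rho_mul]
    exact hlt0 _
  have hfaith : ∀ g : Fi22, (∀ c, c < 3510 → ρ g c = c) → g = 1 := by
    intro g hg
    have hmem : g ∈ Subgroup.normalCore S1696.HA := by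
      intro b
      apply (hstab _).1
      rw [rho_mul ρ (b * g) b⁻¹ 0, rho_mul ρ b g (ρ b⁻¹ 0), hg _ (hlt _ _ (by norm_num)),
        ← rho_mul ρ b b⁻¹ 0, mul_inv_cancel, map_one ρ]
      rfl
    rw [hN _ (Subgroup.normalCore_normal HA) (Subgroup.normalCore_le _)] at hmem
    exact Subgroup.mem_bot.1 hmem
  have m1 : ((1, 2816, [1]) : ℕ × ℕ × List ℕ) ∈ Fi22a.orbs := by decide
  have m2 : ((2817, 693, [1, 0, 2, 1]) : ℕ × ℕ × List ℕ) ∈ Fi22a.orbs := by decide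
  exact ⟨ρ, ⟨hρ, hstab, hlt, hfaith,
    fun c h1 h2 => htree _ m1 c h1 (by show c < 1 + 2816; omega),
    fun c h1 h2 => htree _ m2 c h1 (by show c < 2817 + 693; omega),
    fun g hg c => horb _ m1 g hg c,
    fun g hg c => horb _ m2 g hg c⟩⟩

section Rep

variable {ρ : Fi22 →* Equiv.Perm ℕ}

theorem hinj (R : Rep ρ) : Function.Injective ρ := by
  rw [injective_iff_map_eq_one]
  intro g hg
  apply R.faith
  intro c _
  rw [hg]
  rfl

theorem ev (R : Rep ρ) (w : List ℕ) (hw : ∀ l ∈ w, l < Fi22a.D.K) (c : ℕ) (hc : c < Fi22a.D.n) :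
    ρ (wprod φ w.reverse) c = actP Fi22a.D w c := by
  rw [rho_wprod ρ φ Fi22a.D R.gen w hw, ← (actP_eq Fi22a.inv_ok w hw c hc).1]

theorem weq (R : Rep ρ) (u v : List ℕ) (hu : ∀ l ∈ u, l < Fi22a.D.K)
    (hv : ∀ l ∈ v, l < Fi22a.D.K)
    (h : allRange (fun c => Nat.beq (actP Fi22a.D u c) (actP Fi22a.D v c)) 0 Fi22a.D.n = true) :
    wprod φ u = wprod φ v :=
  wprod_eq_of_actP ρ (hinj R) φ S1696.hsq Fi22a.D Fi22a.inv_ok R.gen u v hu hv h

theorem mem_HA_of_mem {y : FreeGroup Fi22.Gen} (hy : y ∈ S1696.ysA) :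
    PresentedGroup.mk (coxRelators Fi22.edges ∪ {r | r ∈ Fi22.extra}) y ∈ HA :=
  Subgroup.mem_map_of_mem _ (Subgroup.subset_closure hy)

theorem letters_HA : ∀ l ∈ [0, 2, 3, 4, 5, 6, 7, 8], φ l ∈ HA := by
  intro l hl
  simp only [List.mem_cons, List.not_mem_nil, or_false] at hl
  rcases hl with rfl | rfl | rfl | rfl | rfl | rfl | rfl | rfl
  · exact mem_HA_of_mem (y := Fi22.a) (by simp [S1696.ysA])
  · exact mem_HA_of_mem (y := Fi22.c) (by simp [S1696.ysA])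
  · exact mem_HA_of_mem (y := Fi22.d) (by simp [S1696.ysA])
  · exact mem_HA_of_mem (y := Fi22.e) (by simp [S1696.ysA])
  · exact mem_HA_of_mem (y := Fi22.f) (by simp [S1696.ysA])
  · exact mem_HA_of_mem (y := Fi22.g) (by simp [S1696.ysA])
  · exact mem_HA_of_mem (y := Fi22.h) (by simp [S1696.ysA])
  · exact mem_HA_of_mem (y := Fi22.i) (by simp [S1696.ysA])

/-- `HA` centralises `a` -/
theorem HA_comm (R : Rep ρ) : ∀ g ∈ HA, g * φ 0 = φ 0 * g := by
  have hu : wprod φ Fi22Tid.uw * φ 0 = φ 0 * wprod φ Fi22Tid.uw := by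
    have h1 := weq R (Fi22Tid.uw ++ 0 :: Fi22Tid.uw.reverse) [0] (by decide) (by decide)
      Fi22Tid.tid
    rw [wprod_append, wprod_cons, wprod_cons, wprod_nil, mul_one, wprod_reverse φ S1696.hsq,
      ← mul_assoc, mul_inv_eq_iff_eq_mul] at h1
    exact h1
  have hle : HA ≤ Subgroup.centralizer ({φ 0} : Set Fi22) := by
    unfold S1696.HA
    rw [MonoidHom.map_closure, Subgroup.closure_le]
    rintro _ ⟨y, hy, rfl⟩
    rw [SetLike.mem_coe, Subgroup.mem_centralizer_iff]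
    intro x hx
    rw [Set.mem_singleton_iff] at hx
    subst hx
    have hy' : y ∈ S1696.ysA := hy
    simp only [S1696.ysA, List.mem_cons, List.not_mem_nil, or_false] at hy'
    rcases hy' with rfl | rfl | rfl | rfl | rfl | rfl | rfl | rfl | rfl
    · rfl
    · exact (S1696.comm_of_rel 0 2 (by decide +kernel)).symm
    · exact (S1696.comm_of_rel 0 3 (by decide +kernel)).symm
    · exact (S1696.comm_of_rel 0 4 (by decide +kernel)).symm
    · exact (S1696.comm_of_rel 0 5 (by decide +kernel)).symm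
    · exact (S1696.comm_of_rel 0 6 (by decide +kernel)).symm
    · exact (S1696.comm_of_rel 0 7 (by decide +kernel)).symm
    · exact (S1696.comm_of_rel 0 8 (by decide +kernel)).symm
    · rw [S1696.mk_uw]
      exact hu.symm
  intro g hg
  exact (Subgroup.mem_centralizer_iff.1 (hle hg) (φ 0) rfl).symm

/-- words conjugating `a` to the generators `c, …, i` -/
def gwL : ℕ → List ℕ
  | 2 => [1, 2, 0, 1]
  | 3 => [2, 3, 1, 2, 0, 1]
  | 4 => [3, 4, 2, 3, 1, 2, 0, 1]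
  | 5 => [4, 5, 3, 4, 2, 3, 1, 2, 0, 1]
  | 6 => [5, 6, 4, 5, 3, 4, 2, 3, 1, 2, 0, 1]
  | 7 => [3, 7, 2, 3, 1, 2, 0, 1]
  | _ => [7, 8, 3, 7, 2, 3, 1, 2, 0, 1]

theorem gwL_lt : ∀ l ∈ [2, 3, 4, 5, 6, 7, 8], ∀ x ∈ gwL l, x < Fi22a.D.K := by decide

theorem conjL : ∀ l ∈ [2, 3, 4, 5, 6, 7, 8],
    allRange (fun c => Nat.beq (actP Fi22a.D [l] c)
      (actP Fi22a.D (gwL l ++ 0 :: (gwL l).reverse) c)) 0 Fi22a.D.n = true := by decide +kernel

theorem ptL : ∀ l ∈ [2, 3, 4, 5, 6, 7, 8],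
    2817 ≤ actP Fi22a.D (gwL l).reverse 0 ∧ actP Fi22a.D (gwL l).reverse 0 < 3510 := by
  decide +kernel

theorem pt2 : actP Fi22a.D (gwL 2).reverse 0 = 2817 := by decide +kernel

theorem ptr : (2817 ≤ actP Fi22a.D gw1.reverse 0 ∧ actP Fi22a.D gw1.reverse 0 < 3510) ∧
    (2817 ≤ actP Fi22a.D gw2.reverse 0 ∧ actP Fi22a.D gw2.reverse 0 < 3510) := by
  decide +kernel

theorem xchk : allRange (fun c => Nat.beq (actP Fi22a.D Fi22Tid.uw c)
    (actP Fi22a.D (0 :: (rw1 ++ 2 :: (rw2 ++ [4, 7]))) c)) 0 Fi22a.D.n = true := by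
  decide +kernel

/-- the only points of the large orbit fixed by `d, …, i` are `1` and `2` -/
theorem fixchk : allRange (fun q => decide ((sig Fi22a.D 3 q = q ∧ sig Fi22a.D 4 q = q ∧
    sig Fi22a.D 5 q = q ∧ sig Fi22a.D 6 q = q ∧ sig Fi22a.D 7 q = q ∧ sig Fi22a.D 8 q = q) →
      (q = 1 ∨ q = 2))) 1 2816 = true := by decide +kernel

theorem fix2 : ∀ l ∈ [3, 4, 5, 6, 7, 8], sig Fi22a.D l 2 = 2 := by decide +kernel

theorem a12 : sig Fi22a.D 0 1 = 2 ∧ sig Fi22a.D 0 (sig Fi22a.D 1 0) ≠ sig Fi22a.D 1 (sig Fi22a.D 0 0) := by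
  decide +kernel

/-- the word `(c d e f g h i)^9` -/
def w63 : List ℕ :=
  [2, 3, 4, 5, 6, 7, 8] ++ [2, 3, 4, 5, 6, 7, 8] ++ [2, 3, 4, 5, 6, 7, 8] ++
    [2, 3, 4, 5, 6, 7, 8] ++ [2, 3, 4, 5, 6, 7, 8] ++ [2, 3, 4, 5, 6, 7, 8] ++
    [2, 3, 4, 5, 6, 7, 8] ++ [2, 3, 4, 5, 6, 7, 8] ++ [2, 3, 4, 5, 6, 7, 8]

theorem chk63 : allRange (fun c => Nat.beq (actP Fi22a.D w63 c) (actP Fi22a.D [] c)) 0
    Fi22a.D.n = true := by decide +kernel

/-- the first part of a word for `a` -/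
def wA : List ℕ := [2, 3, 2, 4, 3, 2, 5, 4, 3, 2, 7, 3, 2, 4, 3, 5, 4, 7, 3, 2]

/-- the second part of a word for `a` -/
def wB : List ℕ := [5, 4, 3, 2, 7, 3, 4, 5]

theorem chkR1 : allRange (fun c => Nat.beq (actP Fi22a.D [0] c)
    (actP Fi22a.D (wA ++ (rw2 ++ (wB ++ rw2))) c)) 0 Fi22a.D.n = true := by decide +kernel

theorem rw_rev : rw1.reverse = rw1 ∧ rw2.reverse = rw2 ∧ actP Fi22a.D rw1 0 = 0 ∧
    actP Fi22a.D rw2 0 = 0 := by decide +kernel

theorem rw_lt : (∀ l ∈ rw1, l < Fi22a.D.K) ∧ (∀ l ∈ rw2, l < Fi22a.D.K) ∧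
    (∀ l ∈ gw1, l < Fi22a.D.K) ∧ (∀ l ∈ gw2, l < Fi22a.D.K) := by decide

/-- the two further reflections lie in `HA` -/
theorem r_mem (R : Rep ρ) : wprod φ rw1 ∈ HA ∧ wprod φ rw2 ∈ HA := by
  obtain ⟨e1, e2, z1, z2⟩ := rw_rev
  constructor
  · apply (R.stab _).1
    have h := ev R rw1 rw_lt.1 0 (by decide)
    rw [e1, z1] at h
    exact h
  · apply (R.stab _).1
    have h := ev R rw2 rw_lt.2.1 0 (by decide)
    rw [e2, z2] at h
    exact h

/-- an element fixing the point of a conjugate of `a` commutes with the conjugate -/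
theorem comm_of_fix (R : Rep ρ) (gw : List ℕ) (hgw : ∀ l ∈ gw, l < Fi22a.D.K) (h : Fi22)
    (hfix : ρ h (actP Fi22a.D gw.reverse 0) = actP Fi22a.D gw.reverse 0) :
    h * wprod φ (gw ++ 0 :: gw.reverse) = wprod φ (gw ++ 0 :: gw.reverse) * h := by
  have e1 : wprod φ (gw ++ 0 :: gw.reverse) = wprod φ gw * φ 0 * (wprod φ gw)⁻¹ := by
    rw [wprod_append, wprod_cons, wprod_reverse φ S1696.hsq, mul_assoc]
  have e2 : ρ (wprod φ gw) 0 = actP Fi22a.D gw.reverse 0 := by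
    have h0 := ev R gw.reverse (fun l hl => hgw l (List.mem_reverse.1 hl)) 0 (by decide)
    rw [List.reverse_reverse] at h0
    exact h0
  have h1 : (wprod φ gw)⁻¹ * h * wprod φ gw ∈ HA := by
    apply (R.stab _).1
    rw [rho_mul ρ ((wprod φ gw)⁻¹ * h) (wprod φ gw) 0, rho_mul ρ (wprod φ gw)⁻¹ h, e2, hfix,
      ← e2, ← rho_mul ρ (wprod φ gw)⁻¹ (wprod φ gw) 0, inv_mul_cancel, map_one ρ]
    rfl
  have h2 := HA_comm R _ h1
  rw [e1]
  calc h * (wprod φ gw * φ 0 * (wprod φ gw)⁻¹)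
      = wprod φ gw * ((wprod φ gw)⁻¹ * h * wprod φ gw * φ 0) * (wprod φ gw)⁻¹ := by group
    _ = wprod φ gw * (φ 0 * ((wprod φ gw)⁻¹ * h * wprod φ gw)) * (wprod φ gw)⁻¹ := by rw [h2]
    _ = wprod φ gw * φ 0 * (wprod φ gw)⁻¹ * h := by group

theorem conj_eq (R : Rep ρ) : ∀ l ∈ [2, 3, 4, 5, 6, 7, 8],
    wprod φ (gwL l ++ 0 :: (gwL l).reverse) = φ l := by
  intro l hl
  have hlK : l < Fi22a.D.K := by
    simp only [List.mem_cons, List.not_mem_nil, or_false] at hl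
    rcases hl with rfl | rfl | rfl | rfl | rfl | rfl | rfl <;> decide
  have h := weq R [l] (gwL l ++ 0 :: (gwL l).reverse)
    (by intro x hx; rw [List.mem_singleton] at hx; rw [hx]; exact hlK)
    (by
      intro x hx
      rcases List.mem_append.1 hx with h1 | h1
      · exact gwL_lt l hl x h1
      · rcases List.mem_cons.1 h1 with h2 | h2
        · rw [h2]; decide
        · exact gwL_lt l hl x (List.mem_reverse.1 h2))
    (conjL l hl)
  rw [wprod_cons, wprod_nil, mul_one] at h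
  exact h.symm

/-- `(abcdeh)^5` is the product of six commuting conjugates of `a` -/
theorem xid (R : Rep ρ) : wprod φ Fi22Tid.uw =
    φ 0 * (wprod φ rw1 * (φ 2 * (wprod φ rw2 * (φ 4 * φ 7)))) := by
  have h := weq R Fi22Tid.uw (0 :: (rw1 ++ 2 :: (rw2 ++ [4, 7]))) (by decide) (by decide) xchk
  rw [wprod_cons, wprod_append, wprod_cons, wprod_append, wprod_cons, wprod_cons, wprod_nil,
    mul_one] at h
  exact h

/-- an element of `HA` fixing the 693 points is central in `HA` -/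
theorem central_of_fix (R : Rep ρ) (h : Fi22) (hh : h ∈ HA)
    (hfix : ∀ p, 2817 ≤ p → p < 3510 → ρ h p = p) : ∀ g ∈ HA, g * h = h * g := by
  have hl : ∀ l ∈ [2, 3, 4, 5, 6, 7, 8], Commute h (φ l) := by
    intro l hl
    have hpt := ptL l hl
    have h1 := comm_of_fix R (gwL l) (gwL_lt l hl) h (hfix _ hpt.1 hpt.2)
    rw [conj_eq R l hl] at h1
    exact h1
  have hr1 : Commute h (wprod φ rw1) :=
    comm_of_fix R gw1 rw_lt.2.2.1 h (hfix _ ptr.1.1 ptr.1.2)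
  have hr2 : Commute h (wprod φ rw2) :=
    comm_of_fix R gw2 rw_lt.2.2.2 h (hfix _ ptr.2.1 ptr.2.2)
  have h0 : Commute h (φ 0) := HA_comm R h hh
  have hx : Commute h (wprod φ Fi22Tid.uw) := by
    rw [xid R]
    exact h0.mul_right (hr1.mul_right ((hl 2 (by decide)).mul_right
      (hr2.mul_right ((hl 4 (by decide)).mul_right (hl 7 (by decide))))))
  have hle : HA ≤ Subgroup.centralizer ({h} : Set Fi22) := by
    unfold S1696.HA
    rw [MonoidHom.map_closure, Subgroup.closure_le]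
    rintro _ ⟨y, hy, rfl⟩
    rw [SetLike.mem_coe, Subgroup.mem_centralizer_iff]
    intro x hx'
    rw [Set.mem_singleton_iff] at hx'
    subst hx'
    have hy' : y ∈ S1696.ysA := hy
    simp only [S1696.ysA, List.mem_cons, List.not_mem_nil, or_false] at hy'
    rcases hy' with rfl | rfl | rfl | rfl | rfl | rfl | rfl | rfl | rfl
    · exact h0
    · exact hl 2 (by decide)
    · exact hl 3 (by decide)
    · exact hl 4 (by decide)
    · exact hl 5 (by decide)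
    · exact hl 6 (by decide)
    · exact hl 7 (by decide)
    · exact hl 8 (by decide)
    · rw [S1696.mk_uw]
      exact hx
  intro g hg
  exact (Subgroup.mem_centralizer_iff.1 (hle hg) h rfl).symm

/-- an element of `HA` fixing the 693 points and the point `2` is trivial -/
theorem eq_one_of_fix (R : Rep ρ) (h : Fi22) (hh : h ∈ HA)
    (hfix : ∀ p, 2817 ≤ p → p < 3510 → ρ h p = p) (h2 : ρ h 2 = 2) : h = 1 := by
  have hcen := central_of_fix R h hh hfix
  apply R.faith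
  intro c hc
  rcases Nat.eq_zero_or_pos c with rfl | hpos
  · exact (R.stab h).2 hh
  by_cases hc2 : c < 2817
  · obtain ⟨k, hk, hkc⟩ := R.tree1 c hpos hc2
    obtain ⟨k2, hk2, e2⟩ := R.tree1 2 (by norm_num) (by norm_num)
    have e3 : c = ρ (k * k2⁻¹) 2 := by
      rw [rho_mul ρ k k2⁻¹ 2]
      have : ρ k2⁻¹ 2 = 1 := by
        rw [← e2, ← rho_mul ρ k2⁻¹ k2 1, inv_mul_cancel, map_one ρ]
        rfl
      rw [this, hkc]
    have hm : k * k2⁻¹ ∈ HA := Subgroup.mul_mem _ hk (Subgroup.inv_mem _ hk2)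
    have e4 : ρ h (ρ (k * k2⁻¹) 2) = ρ (k * k2⁻¹) 2 := by
      rw [← rho_mul ρ h (k * k2⁻¹) 2, ← hcen _ hm, rho_mul ρ (k * k2⁻¹) h 2, h2]
    rw [e3]
    exact e4
  · exact hfix c (by omega) hc

theorem sig_fix0 (p : ℕ) (hp1 : 2817 ≤ p) (hp2 : p < 3510) : sig Fi22a.D 0 p = p := by
  have h := allRange_spec eqv0 p hp1 (by omega)
  have h1 := nbeq_iff.1 h
  rw [(actP_eq Fi22a.inv_ok [0] (by decide) p hp2).1] at h1
  exact h1

/-- an element of `HA` fixing the 693 points is `1` or `a` -/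
theorem K_sub (R : Rep ρ) (h : Fi22) (hh : h ∈ HA)
    (hfix : ∀ p, 2817 ≤ p → p < 3510 → ρ h p = p) : h = 1 ∨ h = φ 0 := by
  have hcen := central_of_fix R h hh hfix
  have hq : 1 ≤ ρ h 2 ∧ ρ h 2 < 2817 := (R.orb1 h hh 2).1 ⟨by norm_num, by norm_num⟩
  have hfx : ∀ l ∈ [3, 4, 5, 6, 7, 8], sig Fi22a.D l (ρ h 2) = ρ h 2 := by
    intro l hl
    have hlK : l < Fi22a.D.K := by
      simp only [List.mem_cons, List.not_mem_nil, or_false] at hl
      rcases hl with rfl | rfl | rfl | rfl | rfl | rfl <;> decide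
    have hlHA : φ l ∈ HA := letters_HA l (by
      simp only [List.mem_cons, List.not_mem_nil, or_false] at hl ⊢
      omega)
    have e1 : ρ (φ l) 2 = 2 := by rw [R.gen l hlK]; exact fix2 l hl
    rw [← R.gen l hlK (ρ h 2), ← rho_mul ρ (φ l) h 2, hcen _ hlHA, rho_mul ρ h (φ l) 2, e1]
  have key : ρ h 2 = 1 ∨ ρ h 2 = 2 := by
    have h1 := allRange_spec fixchk (ρ h 2) hq.1 (by omega)
    exact of_decide_eq_true h1 ⟨hfx 3 (by decide), hfx 4 (by decide), hfx 5 (by decide),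
      hfx 6 (by decide), hfx 7 (by decide), hfx 8 (by decide)⟩
  rcases key with h1 | h2
  · right
    have hh' : φ 0 * h ∈ HA := Subgroup.mul_mem _ (letters_HA 0 (by decide)) hh
    have hfix' : ∀ p, 2817 ≤ p → p < 3510 → ρ (φ 0 * h) p = p := by
      intro p hp1 hp2
      rw [rho_mul ρ (φ 0) h p, hfix p hp1 hp2, R.gen 0 (by decide)]
      exact sig_fix0 p hp1 hp2
    have h2' : ρ (φ 0 * h) 2 = 2 := by
      rw [rho_mul ρ (φ 0) h 2, h1, R.gen 0 (by decide)]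
      exact a12.1
    have h3 := eq_one_of_fix R (φ 0 * h) hh' hfix' h2'
    calc h = (φ 0 * φ 0) * h := by rw [S1696.hsq, one_mul]
      _ = φ 0 * (φ 0 * h) := mul_assoc _ _ _
      _ = φ 0 := by rw [h3, mul_one]
  · left
    exact eq_one_of_fix R h hh hfix h2

/-- the centraliser of `a` is `HA` -/
theorem centralizer_a (R : Rep ρ) : Subgroup.centralizer ({φ 0} : Set Fi22) = HA := by
  obtain ⟨-, hmax, -, -, -⟩ := S1696.order_facts
  have hle : HA ≤ Subgroup.centralizer ({φ 0} : Set Fi22) := by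
    intro g hg
    rw [Subgroup.mem_centralizer_iff]
    intro x hx
    rw [Set.mem_singleton_iff] at hx
    subst hx
    exact (HA_comm R g hg).symm
  rcases hmax _ hle with h | h
  · exact h
  · exfalso
    have hb : φ 1 ∈ Subgroup.centralizer ({φ 0} : Set Fi22) := by
      rw [h]
      exact Subgroup.mem_top _
    have hc : φ 0 * φ 1 = φ 1 * φ 0 := Subgroup.mem_centralizer_iff.1 hb (φ 0) rfl
    have e1 : ρ (φ 0 * φ 1) 0 = ρ (φ 1 * φ 0) 0 := by rw [hc]
    rw [rho_mul ρ (φ 0) (φ 1) 0, rho_mul ρ (φ 1) (φ 0) 0, R.gen 1 (by decide) 0,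
      R.gen 0 (by decide) 0, R.gen 0 (by decide) (sig Fi22a.D 1 0),
      R.gen 1 (by decide) (sig Fi22a.D 0 0)] at e1
    exact a12.2 e1

/-- a central element of `HA` fixes the 693 points -/
theorem center_fix (R : Rep ρ) (z : Fi22) (hcen : ∀ g ∈ HA, g * z = z * g) :
    ∀ p, 2817 ≤ p → p < 3510 → ρ z p = p := by
  have hC := centralizer_a R
  have e1 : wprod φ (gwL 2) * φ 0 * (wprod φ (gwL 2))⁻¹ = φ 2 := by
    rw [← conj_eq R 2 (by decide), wprod_append, wprod_cons, wprod_reverse φ S1696.hsq, mul_assoc]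
  have e2 : ρ (wprod φ (gwL 2)) 0 = 2817 := by
    have h0 := ev R (gwL 2).reverse (by decide) 0 (by decide)
    rw [List.reverse_reverse] at h0
    rw [h0]
    exact pt2
  have hc2 : φ 2 * z = z * φ 2 := hcen _ (letters_HA 2 (by decide))
  have h1 : (wprod φ (gwL 2))⁻¹ * z * wprod φ (gwL 2) ∈
      Subgroup.centralizer ({φ 0} : Set Fi22) := by
    rw [Subgroup.mem_centralizer_iff]
    intro x hx
    rw [Set.mem_singleton_iff] at hx
    subst hx
    rw [← e1] at hc2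
    calc φ 0 * ((wprod φ (gwL 2))⁻¹ * z * wprod φ (gwL 2))
        = (wprod φ (gwL 2))⁻¹ * (wprod φ (gwL 2) * φ 0 * (wprod φ (gwL 2))⁻¹ * z) *
            wprod φ (gwL 2) := by group
      _ = (wprod φ (gwL 2))⁻¹ * (z * (wprod φ (gwL 2) * φ 0 * (wprod φ (gwL 2))⁻¹)) *
            wprod φ (gwL 2) := by rw [hc2]
      _ = (wprod φ (gwL 2))⁻¹ * z * wprod φ (gwL 2) * φ 0 := by group
  rw [hC] at h1
  have h2 : ρ ((wprod φ (gwL 2))⁻¹ * z * wprod φ (gwL 2)) 0 = 0 := (R.stab _).2 h1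
  have h3 : ρ z 2817 = 2817 := by
    rw [rho_mul ρ ((wprod φ (gwL 2))⁻¹ * z) (wprod φ (gwL 2)) 0, e2,
      rho_mul ρ (wprod φ (gwL 2))⁻¹ z 2817] at h2
    have h4 := congrArg (ρ (wprod φ (gwL 2))) h2
    rw [← rho_mul ρ (wprod φ (gwL 2)) (wprod φ (gwL 2))⁻¹ (ρ z 2817), mul_inv_cancel, map_one ρ,
      e2] at h4
    exact h4
  intro p hp1 hp2
  obtain ⟨k, hk, hkp⟩ := R.tree2 p hp1 hp2
  rw [← hkp, ← rho_mul ρ z k 2817, ← hcen k hk, rho_mul ρ k z 2817, h3]

/-! ### The unitary matrices -/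

/-- the matrix `A` acts on the isotropic points as `g` acts on the 693 points -/
def Eqv (ρ : Fi22 →* Equiv.Perm ℕ) (g : Fi22) (A : SU6) : Prop :=
  ∀ p, 2817 ≤ p → p < 3510 → ∃ μ : F4, μ ≠ 0 ∧ A • toW (vt p) = μ • toW (vt (ρ g p))

theorem Eqv_one : Eqv ρ 1 1 := fun p _ _ =>
  ⟨1, one_ne_zero, by rw [one_smul, one_smul, map_one ρ]; rfl⟩

theorem Eqv_mul (R : Rep ρ) {g g' : Fi22} {A A' : SU6} (hg' : g' ∈ HA) (h : Eqv ρ g A)
    (h' : Eqv ρ g' A') : Eqv ρ (g * g') (A * A') := by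
  intro p hp1 hp2
  obtain ⟨μ', hμ', e'⟩ := h' p hp1 hp2
  have hr := (R.orb2 g' hg' p).1 ⟨hp1, hp2⟩
  obtain ⟨μ, hμ, e⟩ := h (ρ g' p) hr.1 hr.2
  refine ⟨μ' * μ, mul_ne_zero hμ' hμ, ?_⟩
  rw [mul_smul A A', e', smul_smul', e, smul_smul, rho_mul ρ g g' p]

theorem Eqv_inv (R : Rep ρ) {g : Fi22} {A : SU6} (hg : g ∈ HA) (h : Eqv ρ g A) :
    Eqv ρ g⁻¹ A⁻¹ := by
  intro p hp1 hp2
  have hr := (R.orb2 g⁻¹ (Subgroup.inv_mem _ hg) p).1 ⟨hp1, hp2⟩
  obtain ⟨μ, hμ, e⟩ := h (ρ g⁻¹ p) hr.1 hr.2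
  have e1 : ρ g (ρ g⁻¹ p) = p := by
    rw [← rho_mul ρ g g⁻¹ p, mul_inv_cancel, map_one ρ]
    rfl
  rw [e1] at e
  refine ⟨μ⁻¹, inv_ne_zero hμ, ?_⟩
  have e2 : A⁻¹ • (μ • toW (vt p)) = toW (vt (ρ g⁻¹ p)) := by rw [← e, inv_smul_smul]
  rw [smul_smul'] at e2
  calc A⁻¹ • toW (vt p) = μ⁻¹ • (μ • (A⁻¹ • toW (vt p))) := by
        rw [smul_smul, inv_mul_cancel₀ hμ, one_smul]
    _ = μ⁻¹ • toW (vt (ρ g⁻¹ p)) := by rw [e2]

theorem vt_iso' (p : ℕ) (hp1 : 2817 ≤ p) (hp2 : p < 3510) :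
    hf (toW (vt p)) (toW (vt p)) = 0 ∧ vt p ≠ zero6 := by
  have h := of_decide_eq_true (allRange_spec vt_iso p hp1 (by omega))
  exact ⟨(hf_toW _ _).trans h.1, h.2⟩

theorem complete_W (v : W) (hv : hf v v = 0) (hv0 : v ≠ 0) :
    ∃ μ : F4, ∃ p, 2817 ≤ p ∧ p < 3510 ∧ v = μ • toW (vt p) := by
  have h1 : hf6 (ofW v) (ofW v) = F4.o := by
    rw [← hf_eq]
    exact hv
  have h2 : ofW v ≠ zero6 := by
    intro h
    apply hv0
    rw [← toW_ofW v, h, toW_zero6]
  obtain ⟨a, b, c⟩ := complete (ofW v) h1 h2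
  obtain ⟨μ, -, e⟩ := pe_spec c
  rw [toW_ofW] at e
  exact ⟨μ, _, a, b, e⟩

/-- two matrices acting as the same element differ by an element fixing all isotropic points -/
theorem Eqv_unique {g : Fi22} {A B : SU6} (hA : Eqv ρ g A) (hB : Eqv ρ g B) : A⁻¹ * B ∈ Zp := by
  rw [mem_Zp]
  intro v hv
  by_cases hv0 : v = 0
  · exact ⟨1, by rw [hv0, U6F.smul_zero', smul_zero]⟩
  obtain ⟨μ0, p, hp1, hp2, rfl⟩ := complete_W v hv hv0
  obtain ⟨μ, hμ, e⟩ := hA p hp1 hp2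
  obtain ⟨ν, -, e'⟩ := hB p hp1 hp2
  have e2 : A⁻¹ • toW (vt (ρ g p)) = μ⁻¹ • toW (vt p) := by
    have h1 : A⁻¹ • (μ • toW (vt (ρ g p))) = toW (vt p) := by rw [← e, inv_smul_smul]
    rw [smul_smul'] at h1
    calc A⁻¹ • toW (vt (ρ g p)) = μ⁻¹ • (μ • (A⁻¹ • toW (vt (ρ g p)))) := by
          rw [smul_smul, inv_mul_cancel₀ hμ, one_smul]
      _ = μ⁻¹ • toW (vt p) := by rw [h1]
  refine ⟨ν * μ⁻¹, ?_⟩
  calc (A⁻¹ * B) • (μ0 • toW (vt p)) = A⁻¹ • (B • (μ0 • toW (vt p))) := mul_smul _ _ _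
    _ = A⁻¹ • (μ0 • (ν • toW (vt (ρ g p)))) := by rw [smul_smul', e']
    _ = μ0 • (ν • (A⁻¹ • toW (vt (ρ g p)))) := by rw [smul_smul', smul_smul']
    _ = μ0 • (ν • (μ⁻¹ • toW (vt p))) := by rw [e2]
    _ = (ν * μ⁻¹) • (μ0 • toW (vt p)) := by
      simp only [smul_smul]
      congr 1
      ring

/-- the transvection of `v` and a word acting in the same way -/
theorem Eqv_word (R : Rep ρ) (v : V6) (hv : hf (toW v) (toW v) = 0) (w : List ℕ)
    (hw : ∀ l ∈ w, l < Fi22a.D.K) (h : allRange (eqvB v w) 2817 693 = true) :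
    Eqv ρ (wprod φ w.reverse) (tsu (toW v) hv) := by
  intro p hp1 hp2
  have h1 := allRange_spec h p hp1 (by omega)
  obtain ⟨μ, hμ, e⟩ := pe_spec h1
  refine ⟨μ, hμ, ?_⟩
  rw [tsu_smul_toW, e, ev R w hw p hp2]

theorem Eqv_letter (R : Rep ρ) (l : ℕ) (hl : l < 9) (h : allRange (eqvB (vgen l) [l]) 2817 693 = true) :
    ∃ A : SU6, Eqv ρ (φ l) A := by
  have hv : hf (toW (vgen l)) (toW (vgen l)) = 0 := (hf_toW _ _).trans (vgen_iso l hl)
  have h1 := Eqv_word R (vgen l) hv [l]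
    (by intro x hx; rw [List.mem_singleton] at hx; rw [hx]; exact hl) h
  rw [List.reverse_singleton, wprod_cons, wprod_nil, mul_one] at h1
  exact ⟨_, h1⟩

theorem Eqv_a (R : Rep ρ) : Eqv ρ (φ 0) 1 := by
  intro p hp1 hp2
  refine ⟨1, one_ne_zero, ?_⟩
  rw [one_smul, one_smul, R.gen 0 (by decide), sig_fix0 p hp1 hp2]

/-- every element of `HA` acts on the 693 points as a unitary matrix -/
theorem exists_mat (R : Rep ρ) : ∀ g ∈ HA, ∃ A : SU6, Eqv ρ g A := by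
  let S : Subgroup Fi22 :=
    { carrier := {g | g ∈ HA ∧ ∃ A : SU6, Eqv ρ g A}
      mul_mem' := by
        rintro a b ⟨ha, A, hA⟩ ⟨hb, B, hB⟩
        exact ⟨Subgroup.mul_mem _ ha hb, A * B, Eqv_mul R hb hA hB⟩
      one_mem' := ⟨Subgroup.one_mem _, 1, Eqv_one⟩
      inv_mem' := by
        rintro a ⟨ha, A, hA⟩
        exact ⟨Subgroup.inv_mem _ ha, A⁻¹, Eqv_inv R ha hA⟩ }
  have m0 : φ 0 ∈ S := ⟨letters_HA 0 (by decide), 1, Eqv_a R⟩
  have m2 : φ 2 ∈ S := ⟨letters_HA 2 (by decide), Eqv_letter R 2 (by decide) eqv2⟩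
  have m3 : φ 3 ∈ S := ⟨letters_HA 3 (by decide), Eqv_letter R 3 (by decide) eqv3⟩
  have m4 : φ 4 ∈ S := ⟨letters_HA 4 (by decide), Eqv_letter R 4 (by decide) eqv4⟩
  have m5 : φ 5 ∈ S := ⟨letters_HA 5 (by decide), Eqv_letter R 5 (by decide) eqv5⟩
  have m6 : φ 6 ∈ S := ⟨letters_HA 6 (by decide), Eqv_letter R 6 (by decide) eqv6⟩
  have m7 : φ 7 ∈ S := ⟨letters_HA 7 (by decide), Eqv_letter R 7 (by decide) eqv7⟩
  have m8 : φ 8 ∈ S := ⟨letters_HA 8 (by decide), Eqv_letter R 8 (by decide) eqv8⟩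
  have mr1 : wprod φ rw1 ∈ S := by
    refine ⟨(r_mem R).1, ?_⟩
    have h1 := Eqv_word R u1 ((hf_toW _ _).trans u_iso.1) rw1 rw_lt.1 eqvr1
    rw [rw_rev.1] at h1
    exact ⟨_, h1⟩
  have mr2 : wprod φ rw2 ∈ S := by
    refine ⟨(r_mem R).2, ?_⟩
    have h1 := Eqv_word R u2 ((hf_toW _ _).trans u_iso.2) rw2 rw_lt.2.1 eqvr2
    rw [rw_rev.2.1] at h1
    exact ⟨_, h1⟩
  have hle : HA ≤ S := by
    unfold S1696.HA
    rw [MonoidHom.map_closure, Subgroup.closure_le]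
    rintro _ ⟨y, hy, rfl⟩
    have hy' : y ∈ S1696.ysA := hy
    simp only [S1696.ysA, List.mem_cons, List.not_mem_nil, or_false] at hy'
    rcases hy' with rfl | rfl | rfl | rfl | rfl | rfl | rfl | rfl | rfl
    · exact m0
    · exact m2
    · exact m3
    · exact m4
    · exact m5
    · exact m6
    · exact m7
    · exact m8
    · rw [SetLike.mem_coe, S1696.mk_uw, xid R]
      exact S.mul_mem m0 (S.mul_mem mr1 (S.mul_mem m2 (S.mul_mem mr2 (S.mul_mem m4 m7))))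
  intro g hg
  exact (hle hg).2

theorem smul6_o : ∀ x : V6, smul6 F4.o x = zero6 := by decide +kernel

theorem smul6_i : ∀ x : V6, smul6 F4.i x = x := by decide +kernel

/-- two points with proportional vectors are equal -/
theorem proj_inj (p q : ℕ) (hp1 : 2817 ≤ p) (hp2 : p < 3510) (hq1 : 2817 ≤ q) (hq2 : q < 3510)
    (c : F4) (h : toW (vt q) = c • toW (vt p)) : q = p := by
  have hp := allRange_spec it_vt p hp1 (by omega)
  have hq := allRange_spec it_vt q hq1 (by omega)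
  simp only [Bool.and_eq_true, nbeq_iff] at hp hq
  have e : vt q = smul6 c (vt p) := toW_injective (by rw [h, toW_smul6])
  have hq0 := hq.1.1
  rw [e] at hq0
  cases c with
  | o =>
    exfalso
    rw [smul6_o] at e
    exact (vt_iso' q hq1 hq2).2 e
  | i =>
    rw [smul6_i] at hq0
    exact hq0.symm.trans hp.1.1
  | w => exact hq0.symm.trans hp.1.2
  | v => exact hq0.symm.trans hp.2

/-! ### No subgroup of index two -/

open Classical in
/-- the generators of `Fi₂₂` lying in `HA`, as elements of `HA` -/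
noncomputable def φH (l : ℕ) : ↥HA := if h : φ l ∈ HA then ⟨φ l, h⟩ else 1

theorem φH_coe {l : ℕ} (h : φ l ∈ HA) : ((φH l : ↥HA) : Fi22) = φ l := by
  unfold φH
  rw [dif_pos h]

theorem coe_wprod (w : List ℕ) (hw : ∀ l ∈ w, φ l ∈ HA) :
    ((wprod φH w : ↥HA) : Fi22) = wprod φ w := by
  induction w with
  | nil => rw [wprod_nil, wprod_nil]; rfl
  | cons l w ih =>
    rw [wprod_cons, wprod_cons, Subgroup.coe_mul, φH_coe (hw l List.mem_cons_self),
      ih (fun x hx => hw x (List.mem_cons_of_mem _ hx))]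

theorem wprod_const {G : Type*} [Group G] (f : ℕ → G) (ε : G) (w : List ℕ)
    (h : ∀ l ∈ w, f l = ε) : wprod f w = ε ^ w.length := by
  induction w with
  | nil => rw [wprod_nil, List.length_nil, pow_zero]
  | cons l w ih =>
    rw [wprod_cons, h l List.mem_cons_self, ih (fun x hx => h x (List.mem_cons_of_mem _ hx)),
      List.length_cons, pow_succ']

theorem eq_of_braid {Q : Type*} [Group Q] (hpow : ∀ x : Q, x * x = 1) (a b : Q)
    (h : a * (b * (a * (b * (a * b)))) = 1) : a = b := by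
  have hab : a * b * (a * b) = 1 := hpow (a * b)
  have h3 : a * b = 1 := by
    calc a * b = (a * b * (a * b)) * (a * b) := by rw [hab, one_mul]
      _ = a * (b * (a * (b * (a * b)))) := by simp only [mul_assoc]
      _ = 1 := h
  calc a = a * (b * b) := by rw [hpow b, mul_one]
    _ = a * b * b := by rw [mul_assoc]
    _ = b := by rw [h3, one_mul]

theorem mem_letters {l : ℕ} (hl : l ∈ [2, 3, 4, 5, 6, 7, 8]) : φ l ∈ HA :=
  letters_HA l (by
    simp only [List.mem_cons, List.not_mem_nil, or_false] at hl ⊢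
    omega)

/-- a subgroup of index 2 of `HA` contains `a` -/
theorem a_mem_of_index_two (R : Rep ρ) (L : Subgroup ↥HA) (hL : L.index = 2) :
    (⟨φ 0, letters_HA 0 (by decide)⟩ : ↥HA) ∈ L := by
  have hN : L.Normal := Subgroup.normal_of_index_eq_two hL
  have hcard : Nat.card (↥HA ⧸ L) = 2 := hL
  have hpow : ∀ x : ↥HA ⧸ L, x * x = 1 := by
    intro x
    have h := pow_card_eq_one' (G := ↥HA ⧸ L) (x := x)
    rw [hcard, pow_two] at h
    exact h
  have edge : ∀ i j, [i, j, i, j, i, j] ∈ Fi22a.relW →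
      (∀ l ∈ [i, j, i, j, i, j], l ∈ [2, 3, 4, 5, 6, 7, 8]) →
      QuotientGroup.mk' L (φH j) = QuotientGroup.mk' L (φH i) := by
    intro i j hw hS
    have h1 : wprod φH [i, j, i, j, i, j] = 1 := by
      apply Subtype.ext
      rw [coe_wprod _ (fun l hl => mem_letters (hS l hl)), S1696.hrelW _ hw]
      rfl
    have h2 := congrArg (QuotientGroup.mk' L) h1
    rw [← wprod_map (QuotientGroup.mk' L) φH, map_one] at h2
    simp only [wprod, List.map, List.prod_cons, List.prod_nil, mul_one] at h2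
    exact (eq_of_braid hpow _ _ h2).symm
  have h3 := edge 2 3 (by decide +kernel) (by decide)
  have h4 := (edge 3 4 (by decide +kernel) (by decide)).trans h3
  have h5 := (edge 4 5 (by decide +kernel) (by decide)).trans h4
  have h6 := (edge 5 6 (by decide +kernel) (by decide)).trans h5
  have h7 := (edge 3 7 (by decide +kernel) (by decide)).trans h3
  have h8 := (edge 7 8 (by decide +kernel) (by decide)).trans h7
  have hall : ∀ l ∈ [2, 3, 4, 5, 6, 7, 8],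
      QuotientGroup.mk' L (φH l) = QuotientGroup.mk' L (φH 2) := by
    intro l hl
    simp only [List.mem_cons, List.not_mem_nil, or_false] at hl
    rcases hl with rfl | rfl | rfl | rfl | rfl | rfl | rfl
    · rfl
    · exact h3
    · exact h4
    · exact h5
    · exact h6
    · exact h7
    · exact h8
  -- `(cdefghi)^9 = 1`
  have he : QuotientGroup.mk' L (φH 2) = 1 := by
    have h1 : wprod φH w63 = 1 := by
      apply Subtype.ext
      rw [coe_wprod _ (fun l hl => mem_letters (by revert l; decide)),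
        weq R w63 [] (by decide) (by decide) chk63, wprod_nil]
      rfl
    have h2 := congrArg (QuotientGroup.mk' L) h1
    rw [← wprod_map (QuotientGroup.mk' L) φH, map_one,
      wprod_const _ (QuotientGroup.mk' L (φH 2)) w63
        (fun l hl => hall l (by revert l; decide))] at h2
    have h63 : w63.length = 2 * 31 + 1 := by decide
    rw [h63, pow_succ, pow_mul, pow_two, hpow, one_pow, one_mul] at h2
    exact h2
  have hone : ∀ w : List ℕ, (∀ l ∈ w, l ∈ [2, 3, 4, 5, 6, 7, 8]) →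
      QuotientGroup.mk' L (wprod φH w) = 1 := by
    intro w hw
    rw [← wprod_map (QuotientGroup.mk' L) φH,
      wprod_const _ (1 : ↥HA ⧸ L) w (fun l hl => (hall l (hw l hl)).trans he), one_pow]
  -- `a` as a word in `c, …, i` and two copies of another reflection
  have hr2 := (r_mem R).2
  have ha : (⟨φ 0, letters_HA 0 (by decide)⟩ : ↥HA) =
      wprod φH wA * (⟨wprod φ rw2, hr2⟩ * (wprod φH wB * ⟨wprod φ rw2, hr2⟩)) := by
    apply Subtype.ext
    rw [Subgroup.coe_mul, Subgroup.coe_mul, Subgroup.coe_mul,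
      coe_wprod wA (fun l hl => mem_letters (by revert l; decide)),
      coe_wprod wB (fun l hl => mem_letters (by revert l; decide))]
    have h := weq R [0] (wA ++ (rw2 ++ (wB ++ rw2))) (by decide) (by decide) chkR1
    rw [wprod_cons, wprod_nil, mul_one, wprod_append, wprod_append, wprod_append] at h
    exact h
  rw [← QuotientGroup.eq_one_iff, ha]
  have e : ((wprod φH wA * (⟨wprod φ rw2, hr2⟩ * (wprod φH wB * ⟨wprod φ rw2, hr2⟩)) : ↥HA) :
      ↥HA ⧸ L) = QuotientGroup.mk' L (wprod φH wA) * (QuotientGroup.mk' L ⟨wprod φ rw2, hr2⟩ *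
        (QuotientGroup.mk' L (wprod φH wB) * QuotientGroup.mk' L ⟨wprod φ rw2, hr2⟩)) := rfl
  rw [e, hone wA (by decide), hone wB (by decide), one_mul, one_mul]
  exact hpow _

/-! ### The double cover -/

theorem main : IsNonsplitDoubleCover ↥HA (Cfsg.PSU 6 F4 2) := by
  obtain ⟨ρ, R⟩ := exists_rep
  obtain ⟨cG, -, hidx, -, -⟩ := S1696.order_facts
  have cH : Nat.card ↥HA = 18393661440 := by
    have h := Subgroup.card_mul_index HA
    rw [hidx, cG] at h
    omega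
  have hfinH : Finite ↥HA := Nat.finite_of_card_ne_zero (by rw [cH]; norm_num)
  -- the matrices
  have hex : ∀ h : ↥HA, ∃ A : SU6, Eqv ρ h.1 A := fun h => exists_mat R h.1 h.2
  choose Am hAm using hex
  let θ : ↥HA →* SU6 ⧸ Zp := MonoidHom.mk' (fun h => (QuotientGroup.mk (Am h) : SU6 ⧸ Zp)) (by
    intro h h'
    rw [← QuotientGroup.mk_mul, QuotientGroup.eq]
    exact Eqv_unique (hAm (h * h')) (Eqv_mul R h'.2 (hAm h) (hAm h')))
  have hθ : ∀ h : ↥HA, θ h = (QuotientGroup.mk (Am h) : SU6 ⧸ Zp) := fun h => rfl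
  -- the central involution
  obtain ⟨a', ha'⟩ : ∃ a' : ↥HA, (a' : Fi22) = φ 0 := ⟨⟨φ 0, letters_HA 0 (by decide)⟩, rfl⟩
  have ha1 : a' ≠ 1 := by
    intro h
    have h1 : φ 0 = 1 := by rw [← ha', h]; rfl
    have h2 : ρ (φ 0) 1 = 1 := by rw [h1, map_one ρ]; rfl
    rw [R.gen 0 (by decide), a12.1] at h2
    norm_num at h2
  have ha2 : a' * a' = 1 := by
    apply Subtype.ext
    rw [Subgroup.coe_mul, ha']
    exact S1696.hsq 0
  have hac : ∀ h : ↥HA, h * a' = a' * h := by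
    intro h
    apply Subtype.ext
    rw [Subgroup.coe_mul, Subgroup.coe_mul, ha']
    exact HA_comm R h.1 h.2
  -- the kernel
  have hker1 : ∀ h : ↥HA, θ h = 1 → h = 1 ∨ h = a' := by
    intro h hh
    rw [hθ, QuotientGroup.eq_one_iff] at hh
    have hfix : ∀ p, 2817 ≤ p → p < 3510 → ρ h.1 p = p := by
      intro p hp1 hp2
      obtain ⟨μ, hμ, e⟩ := hAm h p hp1 hp2
      have hv := vt_iso' p hp1 hp2
      obtain ⟨μ', e'⟩ := mem_Zp.1 hh (toW (vt p)) hv.1
      have hr := (R.orb2 h.1 h.2 p).1 ⟨hp1, hp2⟩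
      have e3 : toW (vt (ρ h.1 p)) = (μ⁻¹ * μ') • toW (vt p) := by
        rw [mul_smul, ← e', e, smul_smul, inv_mul_cancel₀ hμ, one_smul]
      exact proj_inj p (ρ h.1 p) hp1 hp2 hr.1 hr.2 _ e3
    rcases K_sub R h.1 h.2 hfix with h1 | h1
    · left
      exact Subtype.ext h1
    · right
      exact Subtype.ext (h1.trans ha'.symm)
  have hker2 : θ a' = 1 := by
    rw [hθ, QuotientGroup.eq_one_iff]
    have h := Eqv_unique (Eqv_a R) (by rw [← ha']; exact hAm a')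
    rw [inv_one, one_mul] at h
    exact h
  have hker : θ.ker = Subgroup.zpowers a' := by
    apply le_antisymm
    · intro h hh
      rcases hker1 h (MonoidHom.mem_ker.1 hh) with h1 | h1
      · rw [h1]
        exact Subgroup.one_mem _
      · rw [h1]
        exact Subgroup.mem_zpowers a'
    · rw [Subgroup.zpowers_le]
      exact MonoidHom.mem_ker.2 hker2
  have hZcard : Nat.card (Subgroup.zpowers a') = 2 := by
    rw [Nat.card_zpowers]
    exact orderOf_eq_prime (by rw [pow_two]; exact ha2) ha1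
  -- the centre
  have hcen : Subgroup.center ↥HA = θ.ker := by
    apply le_antisymm
    · intro z hz
      have hz' : ∀ g ∈ HA, g * z.1 = z.1 * g := by
        intro g hg
        have h := Subgroup.mem_center_iff.1 hz ⟨g, hg⟩
        exact congrArg Subtype.val h
      rcases K_sub R z.1 z.2 (center_fix R z.1 hz') with h1 | h1
      · have : z = 1 := Subtype.ext h1
        rw [this]
        exact Subgroup.one_mem _
      · have : z = a' := Subtype.ext (h1.trans ha'.symm)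
        rw [this]
        exact MonoidHom.mem_ker.2 hker2
    · rw [hker, Subgroup.zpowers_le, Subgroup.mem_center_iff]
      exact hac
  -- counting
  have hq : Nat.card (↥HA ⧸ θ.ker) = 9196830720 := by
    have h := Subgroup.card_eq_card_quotient_mul_card_subgroup θ.ker
    rw [hker] at h
    rw [hZcard, cH] at h
    rw [hker]
    omega
  have hbij : Function.Bijective (QuotientGroup.kerLift θ) :=
    (QuotientGroup.kerLift_injective θ).bijective_of_nat_card_le (by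
      rw [hq]
      exact card_quot_Zp_le)
  have hZc : Zp = Subgroup.center SU6 := by
    have h := Nat.card_congr (Equiv.ofBijective _ hbij)
    rw [hq] at h
    exact Zp_eq_center (le_of_eq h)
  refine ⟨?_, ⟨?_⟩, ?_⟩
  · rw [hcen, hker]
    exact hZcard
  · exact (QuotientGroup.quotientMulEquivOfEq hcen).trans
      ((MulEquiv.ofBijective (QuotientGroup.kerLift θ) hbij).trans
        (QuotientGroup.quotientMulEquivOfEq hZc))
  · intro L hL
    have hidx2 : L.index = 2 := by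
      rw [hL.index_eq_card, hcen, hker]
      exact hZcard
    have h1 := a_mem_of_index_two R L hidx2
    have h2 : (⟨φ 0, letters_HA 0 (by decide)⟩ : ↥HA) = a' := Subtype.ext ha'.symm
    rw [h2] at h1
    have h3 : a' ∈ Subgroup.center ↥HA := Subgroup.mem_center_iff.2 hac
    exact ha1 (Subgroup.disjoint_def.1 hL.disjoint h3 h1)

end Rep

theorem main' (H : Subgroup Fi22) (hH : H = HA) :
    ∃ (K : Type) (_ : Field K) (_ : Fintype K), Fintype.card K = 4 ∧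
      Cfsg.IsNonsplitDoubleCover ↥H (Cfsg.PSU 6 K 2) := by
  subst hH
  exact ⟨F4, inferInstance, inferInstance, F4.card, main⟩

/-- In the presented Fischer group Fi₂₂, the subgroup generated by the images of a, c, d, e, f, g, h, i and (abcdeh)^5 is a non-split double cover of PSU(6, 2) (realised over a field with four elements). -/
theorem result : ∃ (K : Type) (_ : Field K) (_ : Fintype K), Fintype.card K = 4 ∧ Cfsg.IsNonsplitDoubleCover (((Subgroup.closure ({Cfsg.Spor.Fi22.a, Cfsg.Spor.Fi22.c, Cfsg.Spor.Fi22.d, Cfsg.Spor.Fi22.e, Cfsg.Spor.Fi22.f, Cfsg.Spor.Fi22.g, Cfsg.Spor.Fi22.h, Cfsg.Spor.Fi22.i, (Cfsg.Spor.Fi22.a * Cfsg.Spor.Fi22.b * Cfsg.Spor.Fi22.c * Cfsg.Spor.Fi22.d * Cfsg.Spor.Fi22.e * Cfsg.Spor.Fi22.h) ^ 5} : Set (FreeGroup Cfsg.Spor.Fi22.Gen))).map (PresentedGroup.mk (Cfsg.Spor.coxRelators Cfsg.Spor.Fi22.edges ∪ {r | r ∈ Cfsg.Spor.Fi22.extra})))) (Cfsg.PSU 6 K 2) := by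
  have hset : ({Cfsg.Spor.Fi22.a, Cfsg.Spor.Fi22.c, Cfsg.Spor.Fi22.d, Cfsg.Spor.Fi22.e,
      Cfsg.Spor.Fi22.f, Cfsg.Spor.Fi22.g, Cfsg.Spor.Fi22.h, Cfsg.Spor.Fi22.i,
      (Cfsg.Spor.Fi22.a * Cfsg.Spor.Fi22.b * Cfsg.Spor.Fi22.c * Cfsg.Spor.Fi22.d *
        Cfsg.Spor.Fi22.e * Cfsg.Spor.Fi22.h) ^ 5} :
      Set (FreeGroup Cfsg.Spor.Fi22.Gen)) = {y | y ∈ S1696.ysA} := by
    ext y
    simp [S1696.ysA]
  exact main' _ (by rw [hset]; rfl)

end Cfsg.Agent.S1684
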