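import Cfsg.Statements.S0471
import Cfsg.Agent.S1684

set_option autoImplicit false
set_option maxRecDepth 100000
open Cfsg

namespace Cfsg.Agent.S0471

open Cfsg.Agent.Lib.helper35 Cfsg.Spor Cfsg.Agent.Lib.helper35.SpF

local notation "φ" => S1696.φ
local notation "HA" => S1696.HA

/-- conjugating by an element of the point stabiliser, on either side, does not change the
order of `z * z^g` -/
theorem conj_invariance {Γ : Type*} [Group Γ] (ρ : Γ →* Equiv.Perm ℕ) (H : Subgroup Γ) (z : Γ)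
    (hstab : ∀ a, ρ a 0 = 0 ↔ a ∈ H) (hcent : ∀ h ∈ H, h * z = z * h)
    (g g' a : Γ) (ha : a ∈ H) (hpt : ρ (a * g') 0 = ρ g 0) (k : ℕ)
    (hk : (z * (g' * z * g'⁻¹)) ^ k = 1) : (z * (g * z * g⁻¹)) ^ k = 1 := by
  have h0 : ρ (g⁻¹ * (a * g')) 0 = 0 := by
    rw [ρ.map_mul g⁻¹ (a * g'), Equiv.Perm.mul_apply, hpt, ← Equiv.Perm.mul_apply, ← ρ.map_mul,
      inv_mul_cancel, ρ.map_one]
    rfl
  have hh : (g⁻¹ * (a * g')) * z = z * (g⁻¹ * (a * g')) := hcent _ ((hstab _).1 h0)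
  have hz' : (g⁻¹ * (a * g'))⁻¹ * z * (g⁻¹ * (a * g')) = z := by
    rw [mul_assoc, ← hh, ← mul_assoc, inv_mul_cancel, one_mul]
  have e1 : g * z * g⁻¹ = a * (g' * z * g'⁻¹) * a⁻¹ := by
    calc g * z * g⁻¹
        = a * g' * ((g⁻¹ * (a * g'))⁻¹ * z * (g⁻¹ * (a * g'))) * g'⁻¹ * a⁻¹ := by group
      _ = a * (g' * z * g'⁻¹) * a⁻¹ := by rw [hz']; group
  have haz : z * a = a * z := (hcent a ha).symm
  have e2 : z * (g * z * g⁻¹) = a * (z * (g' * z * g'⁻¹)) * a⁻¹ := by
    rw [e1]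
    calc z * (a * (g' * z * g'⁻¹) * a⁻¹) = (z * a) * (g' * z * g'⁻¹) * a⁻¹ := by group
      _ = (a * z) * (g' * z * g'⁻¹) * a⁻¹ := by rw [haz]
      _ = a * (z * (g' * z * g'⁻¹)) * a⁻¹ := by group
  rw [e2, conj_pow, hk, mul_one, mul_inv_cancel]

/-- the centralisers of conjugate elements are isomorphic -/
theorem centralizer_conj_equiv {Γ : Type*} [Group Γ] (z x : Γ) :
    Nonempty (↥(Subgroup.centralizer ({z} : Set Γ)) ≃*
      ↥(Subgroup.centralizer ({x * z * x⁻¹} : Set Γ))) := by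
  refine ⟨{ toFun := fun h => ⟨x * h.1 * x⁻¹, ?_⟩
            invFun := fun c => ⟨x⁻¹ * c.1 * x, ?_⟩
            left_inv := ?_
            right_inv := ?_
            map_mul' := ?_ }⟩
  · rw [Subgroup.mem_centralizer_iff]
    intro w hw
    rw [Set.mem_singleton_iff] at hw
    rw [hw]
    have hz : z * h.1 = h.1 * z := Subgroup.mem_centralizer_iff.1 h.2 z (Set.mem_singleton z)
    calc x * z * x⁻¹ * (x * h.1 * x⁻¹) = x * (z * h.1) * x⁻¹ := by group
      _ = x * (h.1 * z) * x⁻¹ := by rw [hz]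
      _ = x * h.1 * x⁻¹ * (x * z * x⁻¹) := by group
  · rw [Subgroup.mem_centralizer_iff]
    intro w hw
    rw [Set.mem_singleton_iff] at hw
    rw [hw]
    have hc : x * z * x⁻¹ * c.1 = c.1 * (x * z * x⁻¹) :=
      Subgroup.mem_centralizer_iff.1 c.2 _ (Set.mem_singleton _)
    calc z * (x⁻¹ * c.1 * x) = x⁻¹ * (x * z * x⁻¹ * c.1) * x := by group
      _ = x⁻¹ * (c.1 * (x * z * x⁻¹)) * x := by rw [hc]
      _ = x⁻¹ * c.1 * x * z := by group
  · intro h
    apply Subtype.ext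
    show x⁻¹ * (x * h.1 * x⁻¹) * x = h.1
    group
  · intro c
    apply Subtype.ext
    show x * (x⁻¹ * c.1 * x) * x⁻¹ = c.1
    group
  · intro a b
    apply Subtype.ext
    show x * (a.1 * b.1) * x⁻¹ = x * a.1 * x⁻¹ * (x * b.1 * x⁻¹)
    group

/-- non-split double covers along an isomorphism -/
theorem cover_of_equiv {H₁ H₂ K : Type*} [Group H₁] [Group H₂] [Group K] (e : H₁ ≃* H₂)
    (h : IsNonsplitDoubleCover H₁ K)
    (hno : ∀ L : Subgroup H₁, L.index = 2 → ∃ z ∈ Subgroup.center H₁, z ≠ 1 ∧ z ∈ L) :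
    IsNonsplitDoubleCover H₂ K := by
  obtain ⟨hc, ⟨f⟩, -⟩ := h
  have hmap : (Subgroup.center H₁).map (e : H₁ →* H₂) = Subgroup.center H₂ := by
    ext y
    constructor
    · rintro ⟨x, hx, rfl⟩
      rw [Subgroup.mem_center_iff]
      intro g
      obtain ⟨g', rfl⟩ := e.surjective g
      have hx' := Subgroup.mem_center_iff.1 hx g'
      show e g' * e x = e x * e g'
      rw [← map_mul, ← map_mul, hx']
    · intro hy
      refine ⟨e.symm y, ?_, e.apply_symm_apply y⟩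
      rw [SetLike.mem_coe, Subgroup.mem_center_iff]
      intro g
      apply e.injective
      rw [map_mul, map_mul, e.apply_symm_apply]
      exact Subgroup.mem_center_iff.1 hy (e g)
  have hc2 : Nat.card (Subgroup.center H₂) = 2 := by
    rw [← hc, ← hmap]
    exact Nat.card_congr (e.subgroupMap (Subgroup.center H₁)).symm.toEquiv
  refine ⟨hc2,
    ⟨(QuotientGroup.congr (Subgroup.center H₁) (Subgroup.center H₂) e hmap).symm.trans f⟩, ?_⟩
  intro L hL
  obtain ⟨z, hz, hz1, hzL⟩ := hno (L.comap (e : H₁ →* H₂)) (by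
    rw [Subgroup.index_comap_of_surjective L e.surjective, hL.index_eq_card, hc2])
  have hez : e z ∈ Subgroup.center H₂ := by
    rw [← hmap]
    exact ⟨z, hz, rfl⟩
  have h1 : e z = 1 := Subgroup.disjoint_def.1 hL.disjoint hez hzL
  exact hz1 (e.injective (by rw [h1, map_one]))

theorem conj_sq {Γ : Type*} [Group Γ] (a b : Γ) (hb : b * b = 1) :
    (a * b * a⁻¹) * (a * b * a⁻¹) = 1 := by
  calc (a * b * a⁻¹) * (a * b * a⁻¹) = a * (b * b) * a⁻¹ := by group
    _ = 1 := by rw [hb]; group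

theorem s1 : sig Fi22a.D 1 0 = 1 := by decide +kernel

/-- the facts about the presented group `Fi₂₂` and its involution `a` -/
theorem facts :
    φ 0 ≠ 1 ∧ Subgroup.centralizer ({φ 0} : Set Fi22) = HA ∧
    (∀ g : Fi22, (φ 0 * (g * φ 0 * g⁻¹)) ^ 2 = 1 ∨ (φ 0 * (g * φ 0 * g⁻¹)) ^ 3 = 1) ∧
    IsNonsplitDoubleCover ↥HA (Cfsg.PSU 6 F4 2) ∧
    (∀ L : Subgroup ↥HA, L.index = 2 → ∃ z ∈ Subgroup.center ↥HA, z ≠ 1 ∧ z ∈ L) := by
  obtain ⟨ρ, R⟩ := S1684.exists_rep
  have hz1 : φ 0 ≠ 1 := by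
    intro h1
    have h2 : ρ (φ 0) 1 = 1 := by rw [h1, map_one ρ]; rfl
    rw [R.gen 0 (by decide), S1684.a12.1] at h2
    norm_num at h2
  have hC := S1684.centralizer_a R
  have hcent := S1684.HA_comm R
  -- `(a a^b)^3 = 1`
  have id1 : (φ 0 * (φ 1 * φ 0 * (φ 1)⁻¹)) ^ 3 = 1 := by
    have hr := S1696.hrelW [0, 1, 0, 1, 0, 1] (by decide +kernel)
    simp only [wprod, List.map, List.prod_cons, List.prod_nil, mul_one] at hr
    have hinv : (φ 1)⁻¹ = φ 1 := inv_eq_of_mul_eq_one_left (S1696.hsq 1)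
    rw [hinv, pow_three]
    calc φ 0 * (φ 1 * φ 0 * φ 1) * (φ 0 * (φ 1 * φ 0 * φ 1) * (φ 0 * (φ 1 * φ 0 * φ 1)))
        = (φ 0 * (φ 1 * (φ 0 * (φ 1 * (φ 0 * φ 1))))) *
            (φ 0 * (φ 1 * (φ 0 * (φ 1 * (φ 0 * φ 1))))) := by simp only [mul_assoc]
      _ = 1 := by rw [hr, one_mul]
  -- `(a c)^2 = 1`
  have e1 : wprod φ (S1684.gwL 2) * φ 0 * (wprod φ (S1684.gwL 2))⁻¹ = φ 2 := by
    rw [← S1684.conj_eq R 2 (by decide), wprod_append, wprod_cons, wprod_reverse φ S1696.hsq,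
      mul_assoc]
  have e2 : ρ (wprod φ (S1684.gwL 2)) 0 = 2817 := by
    have h0 := S1684.ev R (S1684.gwL 2).reverse (by decide) 0 (by decide)
    rw [List.reverse_reverse] at h0
    rw [h0]
    exact S1684.pt2
  have id2 : (φ 0 * (wprod φ (S1684.gwL 2) * φ 0 * (wprod φ (S1684.gwL 2))⁻¹)) ^ 2 = 1 := by
    rw [e1, pow_two]
    have hr := S1696.hrelW [0, 2, 0, 2] (by decide +kernel)
    simp only [wprod, List.map, List.prod_cons, List.prod_nil, mul_one] at hr
    rw [mul_assoc]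
    exact hr
  refine ⟨hz1, hC, ?_, S1684.main, ?_⟩
  · intro g
    have hc := R.lt g 0 (by norm_num)
    rcases Nat.lt_or_ge (ρ g 0) 1 with h0 | h1
    · left
      have hg : g ∈ HA := (R.stab g).1 (by omega)
      have e : g * φ 0 * g⁻¹ = φ 0 := by rw [hcent g hg, mul_inv_cancel_right]
      rw [e, S1696.hsq, one_pow]
    · rcases Nat.lt_or_ge (ρ g 0) 2817 with h2 | h2
      · right
        obtain ⟨a, ha, hac⟩ := R.tree1 (ρ g 0) h1 h2
        refine conj_invariance ρ HA (φ 0) R.stab hcent g (φ 1) a ha ?_ 3 id1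
        rw [S1684.rho_mul ρ a (φ 1) 0, R.gen 1 (by decide), s1]
        exact hac
      · left
        obtain ⟨a, ha, hac⟩ := R.tree2 (ρ g 0) h2 hc
        refine conj_invariance ρ HA (φ 0) R.stab hcent g (wprod φ (S1684.gwL 2)) a ha ?_ 2 id2
        rw [S1684.rho_mul ρ a (wprod φ (S1684.gwL 2)) 0, e2]
        exact hac
  · intro L hL
    refine ⟨⟨φ 0, S1684.letters_HA 0 (by decide)⟩, ?_, ?_, S1684.a_mem_of_index_two R L hL⟩
    · rw [Subgroup.mem_center_iff]
      intro h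
      apply Subtype.ext
      exact hcent h.1 h.2
    · intro h
      exact hz1 (congrArg Subtype.val h)

theorem main' (K : Subgroup Fi22) (hK : K = HA) :
    IsNonsplitDoubleCover ↥K (Cfsg.PSU 6 F4 2) ∧
      ∀ L : Subgroup ↥K, L.index = 2 → ∃ z ∈ Subgroup.center ↥K, z ≠ 1 ∧ z ∈ L := by
  subst hK
  exact ⟨facts.2.2.2.1, facts.2.2.2.2⟩

/-- The Fischer group of order 64561751654400 exists as a 3-transposition group: a simple group of that order generated by a conjugacy class of 3510 3-transpositions, the centraliser of each being a non-split double cover of PSU(6, 2). -/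
theorem result : ∃ (G : Type) (_ : Group G) (_ : Finite G), Cfsg.IsFi22 G ∧ ∃ D : Set G, Cfsg.IsThreeTranspositionClass D ∧ Nat.card D = 3510 ∧ ∀ d ∈ D, ∃ (F : Type) (_ : Field F) (_ : Fintype F), Fintype.card F = 4 ∧ Cfsg.IsNonsplitDoubleCover (Subgroup.centralizer ({d} : Set G)) (Cfsg.PSU 6 F 2) := by
  obtain ⟨hz1, hC, key, -, -⟩ := facts
  obtain ⟨cG, -, hidx, -, -⟩ := S1696.order_facts
  have hzz : φ 0 * φ 0 = 1 := S1696.hsq 0
  have hfin : Finite Fi22 := Nat.finite_of_card_ne_zero (by rw [cG]; norm_num)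
  have hcent : ∀ h ∈ HA, h * φ 0 = φ 0 * h := by
    intro h hh
    rw [← hC] at hh
    exact (Subgroup.mem_centralizer_iff.1 hh (φ 0) (Set.mem_singleton _)).symm
  have hD : ∀ d ∈ conjugatesOf (φ 0), ∃ x : Fi22, x * φ 0 * x⁻¹ = d :=
    fun d hd => isConj_iff.1 hd
  refine ⟨Fi22, inferInstance, hfin, S1696.result, conjugatesOf (φ 0),
    ⟨⟨?_, ?_⟩, ⟨φ 0, mem_conjugatesOf_self, rfl⟩, ?_⟩, ?_, ?_⟩
  · -- involutions
    intro d hd
    obtain ⟨x, rfl⟩ := hD d hd
    refine orderOf_eq_prime ?_ ?_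
    · rw [pow_two]
      exact conj_sq x (φ 0) hzz
    · intro h
      apply hz1
      have e : φ 0 = x⁻¹ * (x * φ 0 * x⁻¹) * x := by group
      rw [e, h]
      group
  · -- 3-transpositions
    intro d hd e he
    obtain ⟨x, rfl⟩ := hD d hd
    obtain ⟨y, rfl⟩ := hD e he
    have e1 : x * φ 0 * x⁻¹ * (y * φ 0 * y⁻¹) =
        x * (φ 0 * ((x⁻¹ * y) * φ 0 * (x⁻¹ * y)⁻¹)) * x⁻¹ := by group
    rw [e1, conj_pow, conj_pow]
    rcases key (x⁻¹ * y) with h | h
    · left
      rw [h, mul_one, mul_inv_cancel]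
    · right
      rw [h, mul_one, mul_inv_cancel]
  · -- generation
    have h1 : Subgroup.normalClosure ({φ 0} : Set Fi22) = ⊤ := by
      rw [eq_top_iff, ← S1696.normalClosure_a]
      apply Subgroup.normalClosure_le_normal
      intro x hx
      exact (Subgroup.zpowers_le.2
        (Subgroup.subset_normalClosure (Set.mem_singleton (φ 0)))) hx
    have h2 : Group.conjugatesOfSet ({φ 0} : Set Fi22) = conjugatesOf (φ 0) := by
      ext b
      rw [Group.mem_conjugatesOfSet_iff]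
      constructor
      · rintro ⟨a, ha, hab⟩
        rw [Set.mem_singleton_iff] at ha
        rw [ha] at hab
        exact hab
      · intro h
        exact ⟨φ 0, Set.mem_singleton _, h⟩
    rw [← h2]
    exact h1
  · -- the size of the class
    have hb : Nat.card (Fi22 ⧸ HA) = Nat.card (conjugatesOf (φ 0)) := by
      refine Nat.card_eq_of_bijective
        (fun q => Quotient.liftOn' q
          (fun g => (⟨g * φ 0 * g⁻¹, isConj_iff.2 ⟨g, rfl⟩⟩ : conjugatesOf (φ 0)))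
          (by
            intro x y hxy
            rw [QuotientGroup.leftRel_apply] at hxy
            apply Subtype.ext
            show x * φ 0 * x⁻¹ = y * φ 0 * y⁻¹
            have h := hcent _ hxy
            calc x * φ 0 * x⁻¹ = x * (φ 0 * (x⁻¹ * y)) * y⁻¹ := by group
              _ = x * ((x⁻¹ * y) * φ 0) * y⁻¹ := by rw [h]
              _ = y * φ 0 * y⁻¹ := by group)) ⟨?_, ?_⟩
      · intro q₁ q₂
        refine Quotient.inductionOn₂' q₁ q₂ (fun x y h => ?_)
        have h' : x * φ 0 * x⁻¹ = y * φ 0 * y⁻¹ := congrArg Subtype.val h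
        apply Quotient.sound'
        rw [QuotientGroup.leftRel_apply, ← hC, Subgroup.mem_centralizer_iff]
        intro w hw
        rw [Set.mem_singleton_iff] at hw
        rw [hw]
        calc φ 0 * (x⁻¹ * y) = x⁻¹ * (x * φ 0 * x⁻¹) * y := by group
          _ = x⁻¹ * (y * φ 0 * y⁻¹) * y := by rw [h']
          _ = x⁻¹ * y * φ 0 := by group
      · rintro ⟨d, hd⟩
        obtain ⟨x, rfl⟩ := hD d hd
        exact ⟨Quotient.mk'' x, rfl⟩
    rw [← hb]
    exact hidx
  · -- the centralisers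
    intro d hd
    obtain ⟨x, rfl⟩ := hD d hd
    obtain ⟨e⟩ := centralizer_conj_equiv (φ 0) x
    obtain ⟨h1, h2⟩ := main' (Subgroup.centralizer {φ 0}) hC
    exact ⟨F4, inferInstance, inferInstance, F4.card, cover_of_equiv e h1 h2⟩

end Cfsg.Agent.S0471
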