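import Cfsg.Statements.S1697
import Cfsg.Agent.Lib.helper35.CosetBase
import Cfsg.Agent.Lib.helper35.Fi23aChecks
import Cfsg.Agent.Lib.helper35.Fi23U1
import Cfsg.Agent.Lib.helper35.Fi23U2
import Cfsg.Agent.Lib.helper35.Fi23U3
import Cfsg.Agent.Lib.helper35.Fi23U4
import Cfsg.Agent.Lib.helper35.Fi23U5
import Cfsg.Agent.Lib.helper35.Fi23U6
import Cfsg.Agent.Lib.helper35.Fi23U7
import Cfsg.Agent.Lib.helper35.Fi23U8
import Cfsg.Agent.Lib.helper35.Fi23U9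
import Cfsg.Agent.Lib.helper35.Fi23Low

set_option autoImplicit false
set_option maxRecDepth 100000
open Cfsg

namespace Cfsg.Agent.S1697

open Cfsg.Agent.Lib.helper35 Cfsg.Spor

/-- numbering of the generators -/
def gen : ℕ → Fi23.Gen
  | 0 => .a | 1 => .b | 2 => .c | 3 => .d | 4 => .e | 5 => .f | 6 => .g | 7 => .j | 8 => .h | _ => .i

def code : Fi23.Gen → ℕ
  | .a => 0 | .b => 1 | .c => 2 | .d => 3 | .e => 4 | .f => 5 | .g => 6 | .j => 7 | .h => 8 | .i => 9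

/-- the generators of the subgroup of index 31671 -/
def ys : List (FreeGroup Fi23.Gen) :=
  [Fi23.a, Fi23.b, Fi23.c, Fi23.d, Fi23.e, Fi23.f, Fi23.g, Fi23.h, Fi23.i]

theorem pres : Pres Fi23.edges gen code 10 where
  node := by intro x; cases x <;> decide
  gen_code := by intro x; cases x <;> rfl
  code_lt := by intro x; cases x <;> decide
  code_gen := by intro i hi; interval_cases i <;> rfl

theorem relW_eq : Fi23a.relW = relWords Fi23.edges Fi23.extra gen code 10 := by decide +kernel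

theorem subW_eq : Fi23a.subW = ys.map (wordOf code) := by decide +kernel

theorem checks : Checks Fi23.edges Fi23.extra gen code 10 Fi23a.C Fi23a.D Fi23a.relW Fi23a.subW
    Fi23a.orbs ys where
  pres := pres
  relW_eq := relW_eq
  subW_eq := subW_eq
  cK := rfl
  rows := Fi23a.rows_all
  fin := Fi23a.fin_all
  cM := by decide
  live0 := by decide +kernel
  cnt := Fi23a.cnt0
  rev := Fi23a.rev_ok
  wr := Fi23a.wr_ok
  ws := Fi23a.ws_ok
  dK := rfl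
  dn := by decide
  inv := Fi23a.inv_ok
  rel := Fi23a.rel_ok
  sub := Fi23a.sub_ok
  letters := Fi23a.letters_ok
  tile := Fi23a.tile_ok
  pos := Fi23a.pos_ok
  orb := Fi23a.orb_ok

/-- the generators of the presented group, by letter -/
def φ : ℕ → Fi23 := sG Fi23.edges Fi23.extra gen

theorem hsq : ∀ l, φ l * φ l = 1 := fun l => sG_sq pres l

theorem hrelW : ∀ w ∈ Fi23a.relW, wprod φ w = 1 := by
  intro w hw
  rw [relW_eq] at hw
  exact relWords_one pres w hw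

theorem LS_top : LS φ [0, 1, 2, 3, 4, 5, 6, 7, 8, 9] = ⊤ := by
  rw [eq_top_iff, ← PresentedGroup.closure_range_of]
  unfold LS
  apply Subgroup.closure_mono
  rintro _ ⟨x, rfl⟩
  refine ⟨code x, by cases x <;> decide, ?_⟩
  show PresentedGroup.of x = PresentedGroup.mk _ (FreeGroup.of (gen (code x)))
  rw [pres.gen_code]
  rfl

theorem map_closure_eq_LS (ys : List (FreeGroup Fi23.Gen)) (S : List ℕ)
    (h : ys = S.map (fun l => FreeGroup.of (gen l))) :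
    (Subgroup.closure {y | y ∈ ys}).map
      (PresentedGroup.mk (coxRelators Fi23.edges ∪ {r | r ∈ Fi23.extra})) = LS φ S := by
  rw [MonoidHom.map_closure]
  unfold LS
  congr 1
  ext x
  simp only [Set.mem_image, Set.mem_ofPred_eq]
  constructor
  · rintro ⟨y, hy, rfl⟩
    rw [h, List.mem_map] at hy
    obtain ⟨l, hl, rfl⟩ := hy
    exact ⟨l, hl, rfl⟩
  · rintro ⟨l, hl, rfl⟩
    exact ⟨FreeGroup.of (gen l), by rw [h]; exact List.mem_map_of_mem hl, rfl⟩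

theorem H_eq : (Subgroup.closure {y | y ∈ ys}).map
    (PresentedGroup.mk (coxRelators Fi23.edges ∪ {r | r ∈ Fi23.extra})) =
      LS φ [0, 1, 2, 3, 4, 5, 6, 8, 9] :=
  map_closure_eq_LS ys [0, 1, 2, 3, 4, 5, 6, 8, 9] rfl

theorem card_step {Γ : Type*} [Group Γ] {L' L : Subgroup Γ} (h : L' ≤ L) :
    Nat.card L' * L'.relIndex L = Nat.card L := by
  have := Subgroup.relIndex_mul_relIndex ⊥ L' L bot_le h
  rwa [Subgroup.relIndex_bot_left, Subgroup.relIndex_bot_left] at this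

theorem card_le_step {Γ : Type*} [Group Γ] {L' L : Subgroup Γ} (h : L' ≤ L) {a b : ℕ}
    (h1 : Nat.card L' ≠ 0 ∧ Nat.card L' ≤ a) (h2 : L'.relIndex L ≠ 0 ∧ L'.relIndex L ≤ b) :
    Nat.card L ≠ 0 ∧ Nat.card L ≤ a * b := by
  rw [← card_step h]
  exact ⟨Nat.mul_ne_zero h1.1 h2.1, Nat.mul_le_mul h1.2 h2.2⟩

theorem card_ge_step {Γ : Type*} [Group Γ] {L' L : Subgroup Γ} (h : L' ≤ L) {a b : ℕ}
    (h1 : a ≤ Nat.card L') (h2 : b ≤ L'.relIndex L) : a * b ≤ Nat.card L := by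
  rw [← card_step h]
  exact Nat.mul_le_mul h1 h2

theorem relIndex_ne_zero_of_le {Γ : Type*} [Group Γ] (L' : Subgroup Γ) {L M : Subgroup Γ}
    (hLM : L ≤ M) (hM : Nat.card M ≠ 0) : L'.relIndex L ≠ 0 := by
  have : Finite M := Nat.finite_of_card_ne_zero hM
  have : Finite L := Finite.of_injective (Subgroup.inclusion hLM) (Subgroup.inclusion_injective hLM)
  exact Subgroup.index_ne_zero_of_finite

theorem exact_step {Γ : Type*} [Group Γ] {L' L : Subgroup Γ} (h : L' ≤ L) {a b : ℕ}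
    (h1 : a ≤ Nat.card L') (h2 : b ≤ L'.relIndex L) (hc : Nat.card L = a * b) (ha : 0 < a)
    (hb : 0 < b) : Nat.card L' = a ∧ L'.relIndex L = b :=
  mul_eq_both h1 h2 (by rw [card_step h, hc]) ha hb

/-- the order of the group, the maximality of the subgroup `⟨a, …, i⟩`, and a base of the
permutation representation on its cosets -/
theorem order_facts :
    Nat.card Fi23 = 4089470473293004800 ∧
    (∀ L : Subgroup Fi23, LS φ [0, 1, 2, 3, 4, 5, 6, 8, 9] ≤ L →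
      L = LS φ [0, 1, 2, 3, 4, 5, 6, 8, 9] ∨ L = ⊤) ∧
    (LS φ [0, 1, 2, 3, 4, 5, 6, 8, 9]).index = 31671 ∧
    ∃ ρ : Fi23 →* Equiv.Perm ℕ, (∀ l, l < 10 → ∀ c, ρ (φ l) c = sig Fi23a.D l c) ∧
      (∀ a, ρ a 0 = 0 ↔ a ∈ LS φ [0, 1, 2, 3, 4, 5, 6, 8, 9]) ∧
      (∀ c, c < 31671 → ∃ a, ρ a 0 = c) ∧
      (∀ g : Fi23, (∀ b ∈ [0, 1, 2, 3, 312, 438, 4, 5, 6, 8], ρ g b = b) → g = 1) := by
  obtain ⟨ρ, hρ, hstab, htr, hlt, hidx, htree, -⟩ :=
    CoxIndex.main2 checks {y | y ∈ ys} (fun y => Iff.rfl)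
  rw [H_eq] at hstab hidx htree
  have hρ' : ∀ l, l < Fi23a.D.K → ∀ c, ρ (φ l) c = sig Fi23a.D l c := hρ
  have hn : Fi23a.D.n = 31671 := rfl
  rw [hn] at hidx htr hlt
  -- upper bounds along the chain a..i > b..i > b..h > b..g > b..f > b..e > bcd > bc > b > 1
  have u1 : (LS φ [1, 2, 3, 4, 5, 6, 8, 9]).relIndex (LS φ [0, 1, 2, 3, 4, 5, 6, 8, 9]) ≠ 0 ∧
      (LS φ [1, 2, 3, 4, 5, 6, 8, 9]).relIndex (LS φ [0, 1, 2, 3, 4, 5, 6, 8, 9]) ≤ 14080 :=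
    Fi23U1.bound φ hsq hrelW
  have u2 : (LS φ [1, 2, 3, 4, 5, 6, 8]).relIndex (LS φ [1, 2, 3, 4, 5, 6, 8, 9]) ≠ 0 ∧
      (LS φ [1, 2, 3, 4, 5, 6, 8]).relIndex (LS φ [1, 2, 3, 4, 5, 6, 8, 9]) ≤ 3159 :=
    Fi23U2.bound φ hsq hrelW
  have u3 : (LS φ [1, 2, 3, 4, 5, 6]).relIndex (LS φ [1, 2, 3, 4, 5, 6, 8]) ≠ 0 ∧
      (LS φ [1, 2, 3, 4, 5, 6]).relIndex (LS φ [1, 2, 3, 4, 5, 6, 8]) ≤ 576 :=
    Fi23U3.bound φ hsq hrelW
  have u4 : (LS φ [1, 2, 3, 4, 5]).relIndex (LS φ [1, 2, 3, 4, 5, 6]) ≠ 0 ∧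
      (LS φ [1, 2, 3, 4, 5]).relIndex (LS φ [1, 2, 3, 4, 5, 6]) ≤ 7 :=
    Fi23U4.bound φ hsq hrelW
  have u5 : (LS φ [1, 2, 3, 4]).relIndex (LS φ [1, 2, 3, 4, 5]) ≠ 0 ∧
      (LS φ [1, 2, 3, 4]).relIndex (LS φ [1, 2, 3, 4, 5]) ≤ 6 :=
    Fi23U5.bound φ hsq hrelW
  have u6 : (LS φ [1, 2, 3]).relIndex (LS φ [1, 2, 3, 4]) ≠ 0 ∧
      (LS φ [1, 2, 3]).relIndex (LS φ [1, 2, 3, 4]) ≤ 5 :=
    Fi23U6.bound φ hsq hrelW
  have u7 : (LS φ [1, 2]).relIndex (LS φ [1, 2, 3]) ≠ 0 ∧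
      (LS φ [1, 2]).relIndex (LS φ [1, 2, 3]) ≤ 4 :=
    Fi23U7.bound φ hsq hrelW
  have u8 : (LS φ [1]).relIndex (LS φ [1, 2]) ≠ 0 ∧
      (LS φ [1]).relIndex (LS φ [1, 2]) ≤ 3 :=
    Fi23U8.bound φ hsq hrelW
  have u9 : (LS φ []).relIndex (LS φ [1]) ≠ 0 ∧
      (LS φ []).relIndex (LS φ [1]) ≤ 2 :=
    Fi23U9.bound φ hsq hrelW
  have k9 : Nat.card (LS φ []) ≠ 0 ∧ Nat.card (LS φ []) ≤ 1 := by
    rw [LS_nil, Subgroup.card_bot]; exact ⟨one_ne_zero, le_refl 1⟩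
  have k8 := card_le_step (LS_mono φ (S := [1]) (T := []) (by decide)) k9 u9
  have k7 := card_le_step (LS_mono φ (S := [1, 2]) (T := [1]) (by decide)) k8 u8
  have k6 := card_le_step (LS_mono φ (S := [1, 2, 3]) (T := [1, 2]) (by decide)) k7 u7
  have k5 := card_le_step (LS_mono φ (S := [1, 2, 3, 4]) (T := [1, 2, 3]) (by decide)) k6 u6
  have k4 := card_le_step (LS_mono φ (S := [1, 2, 3, 4, 5]) (T := [1, 2, 3, 4]) (by decide)) k5 u5
  have k3 := card_le_step (LS_mono φ (S := [1, 2, 3, 4, 5, 6]) (T := [1, 2, 3, 4, 5]) (by decide))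
    k4 u4
  have k2 := card_le_step (LS_mono φ (S := [1, 2, 3, 4, 5, 6, 8]) (T := [1, 2, 3, 4, 5, 6])
    (by decide)) k3 u3
  have k1 := card_le_step (LS_mono φ (S := [1, 2, 3, 4, 5, 6, 8, 9]) (T := [1, 2, 3, 4, 5, 6, 8])
    (by decide)) k2 u2
  have k0 := card_le_step (LS_mono φ (S := [0, 1, 2, 3, 4, 5, 6, 8, 9])
    (T := [1, 2, 3, 4, 5, 6, 8, 9]) (by decide)) k1 u1
  have hH0 : Nat.card (LS φ [0, 1, 2, 3, 4, 5, 6, 8, 9]) ≠ 0 := k0.1
  have hHle : Nat.card (LS φ [0, 1, 2, 3, 4, 5, 6, 8, 9]) ≤ 129123503308800 := by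
    have := k0.2
    norm_num at this
    exact this
  -- the chain a..i > abcdefhi > abcdehi > abcdhi > abcdh > abcd > abc > ab > a > 1, with orbits
  have i1 : LS φ [0, 1, 2, 3, 4, 5, 8, 9] ≤ LS φ [0, 1, 2, 3, 4, 5, 6, 8, 9] :=
    LS_mono φ (by decide)
  have i2 : LS φ [0, 1, 2, 3, 4, 8, 9] ≤ LS φ [0, 1, 2, 3, 4, 5, 8, 9] := LS_mono φ (by decide)
  have i3 : LS φ [0, 1, 2, 3, 8, 9] ≤ LS φ [0, 1, 2, 3, 4, 8, 9] := LS_mono φ (by decide)
  have i4 : LS φ [0, 1, 2, 3, 8] ≤ LS φ [0, 1, 2, 3, 8, 9] := LS_mono φ (by decide)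
  have i5 : LS φ [0, 1, 2, 3] ≤ LS φ [0, 1, 2, 3, 8] := LS_mono φ (by decide)
  have i6 : LS φ [0, 1, 2] ≤ LS φ [0, 1, 2, 3] := LS_mono φ (by decide)
  have i7 : LS φ [0, 1] ≤ LS φ [0, 1, 2] := LS_mono φ (by decide)
  have i8 : LS φ [0] ≤ LS φ [0, 1] := LS_mono φ (by decide)
  have i9 : LS φ [] ≤ LS φ [0] := LS_mono φ (by decide)
  have j1 : LS φ [0, 1, 2, 3, 4, 5, 6, 8, 9] ≤ LS φ [0, 1, 2, 3, 4, 5, 6, 8, 9] := le_refl _
  have j2 := i1.trans j1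
  have j3 := i2.trans j2
  have j4 := i3.trans j3
  have j5 := i4.trans j4
  have j6 := i5.trans j5
  have j7 := i6.trans j6
  have j8 := i7.trans j7
  have j9 := i8.trans j8
  have f1 := relIndex_ne_zero_of_le (LS φ [0, 1, 2, 3, 4, 5, 8, 9]) j1 hH0
  have f2 := relIndex_ne_zero_of_le (LS φ [0, 1, 2, 3, 4, 8, 9]) j2 hH0
  have f3 := relIndex_ne_zero_of_le (LS φ [0, 1, 2, 3, 8, 9]) j3 hH0
  have f4 := relIndex_ne_zero_of_le (LS φ [0, 1, 2, 3, 8]) j4 hH0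
  have f5 := relIndex_ne_zero_of_le (LS φ [0, 1, 2, 3]) j5 hH0
  have f6 := relIndex_ne_zero_of_le (LS φ [0, 1, 2]) j6 hH0
  have f7 := relIndex_ne_zero_of_le (LS φ [0, 1]) j7 hH0
  have f8 := relIndex_ne_zero_of_le (LS φ [0]) j8 hH0
  have f9 := relIndex_ne_zero_of_le (LS φ []) j9 hH0
  obtain ⟨l1, fx1, O1, hO1c, hO1⟩ :
      28160 ≤ (LS φ [0, 1, 2, 3, 4, 5, 8, 9]).relIndex (LS φ [0, 1, 2, 3, 4, 5, 6, 8, 9]) ∧
      (∀ a ∈ LS φ [0, 1, 2, 3, 4, 5, 8, 9], ρ a 1 = 1) ∧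
      ∃ O : Finset ℕ, O.card = 28160 ∧
        ∀ c ∈ O, ∃ a ∈ LS φ [0, 1, 2, 3, 4, 5, 6, 8, 9], ρ a 1 = c :=
    Fi23Low.low1 ρ φ hρ' f1
  obtain ⟨l2, fx2, O2, hO2c, hO2⟩ :
      3159 ≤ (LS φ [0, 1, 2, 3, 4, 8, 9]).relIndex (LS φ [0, 1, 2, 3, 4, 5, 8, 9]) ∧
      (∀ a ∈ LS φ [0, 1, 2, 3, 4, 8, 9], ρ a 2 = 2) ∧
      ∃ O : Finset ℕ, O.card = 3159 ∧ ∀ c ∈ O, ∃ a ∈ LS φ [0, 1, 2, 3, 4, 5, 8, 9], ρ a 2 = c :=
    Fi23Low.low2 ρ φ hρ' f2
  obtain ⟨l3, fx3, O3, hO3c, hO3⟩ :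
      288 ≤ (LS φ [0, 1, 2, 3, 8, 9]).relIndex (LS φ [0, 1, 2, 3, 4, 8, 9]) ∧
      (∀ a ∈ LS φ [0, 1, 2, 3, 8, 9], ρ a 3 = 3) ∧
      ∃ O : Finset ℕ, O.card = 288 ∧ ∀ c ∈ O, ∃ a ∈ LS φ [0, 1, 2, 3, 4, 8, 9], ρ a 3 = c :=
    Fi23Low.low3 ρ φ hρ' f3
  obtain ⟨l4, fx4, O4, hO4c, hO4⟩ :
      7 ≤ (LS φ [0, 1, 2, 3, 8]).relIndex (LS φ [0, 1, 2, 3, 8, 9]) ∧
      (∀ a ∈ LS φ [0, 1, 2, 3, 8], ρ a 312 = 312) ∧
      ∃ O : Finset ℕ, O.card = 7 ∧ ∀ c ∈ O, ∃ a ∈ LS φ [0, 1, 2, 3, 8, 9], ρ a 312 = c :=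
    Fi23Low.low4 ρ φ hρ' f4
  obtain ⟨l5, fx5, O5, hO5c, hO5⟩ :
      6 ≤ (LS φ [0, 1, 2, 3]).relIndex (LS φ [0, 1, 2, 3, 8]) ∧
      (∀ a ∈ LS φ [0, 1, 2, 3], ρ a 438 = 438) ∧
      ∃ O : Finset ℕ, O.card = 6 ∧ ∀ c ∈ O, ∃ a ∈ LS φ [0, 1, 2, 3, 8], ρ a 438 = c :=
    Fi23Low.low5 ρ φ hρ' f5
  obtain ⟨l6, fx6, O6, hO6c, hO6⟩ :
      5 ≤ (LS φ [0, 1, 2]).relIndex (LS φ [0, 1, 2, 3]) ∧
      (∀ a ∈ LS φ [0, 1, 2], ρ a 4 = 4) ∧
      ∃ O : Finset ℕ, O.card = 5 ∧ ∀ c ∈ O, ∃ a ∈ LS φ [0, 1, 2, 3], ρ a 4 = c :=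
    Fi23Low.low6 ρ φ hρ' f6
  obtain ⟨l7, fx7, O7, hO7c, hO7⟩ :
      4 ≤ (LS φ [0, 1]).relIndex (LS φ [0, 1, 2]) ∧
      (∀ a ∈ LS φ [0, 1], ρ a 5 = 5) ∧
      ∃ O : Finset ℕ, O.card = 4 ∧ ∀ c ∈ O, ∃ a ∈ LS φ [0, 1, 2], ρ a 5 = c :=
    Fi23Low.low7 ρ φ hρ' f7
  obtain ⟨l8, fx8, O8, hO8c, hO8⟩ :
      3 ≤ (LS φ [0]).relIndex (LS φ [0, 1]) ∧
      (∀ a ∈ LS φ [0], ρ a 6 = 6) ∧
      ∃ O : Finset ℕ, O.card = 3 ∧ ∀ c ∈ O, ∃ a ∈ LS φ [0, 1], ρ a 6 = c :=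
    Fi23Low.low8 ρ φ hρ' f8
  obtain ⟨l9, fx9, O9, hO9c, hO9⟩ :
      2 ≤ (LS φ []).relIndex (LS φ [0]) ∧
      (∀ a ∈ LS φ [], ρ a 8 = 8) ∧
      ∃ O : Finset ℕ, O.card = 2 ∧ ∀ c ∈ O, ∃ a ∈ LS φ [0], ρ a 8 = c :=
    Fi23Low.low9 ρ φ hρ' f9
  -- lower bounds for the orders
  have g9 : 1 ≤ Nat.card (LS φ []) := by rw [LS_nil, Subgroup.card_bot]
  have g8 := card_ge_step i9 g9 l9
  have g7 := card_ge_step i8 g8 l8
  have g6 := card_ge_step i7 g7 l7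
  have g5 := card_ge_step i6 g6 l6
  have g4 := card_ge_step i5 g5 l5
  have g3 := card_ge_step i4 g4 l4
  have g2 := card_ge_step i3 g3 l3
  have g1 := card_ge_step i2 g2 l2
  have g0 := card_ge_step i1 g1 l1
  have cH : Nat.card (LS φ [0, 1, 2, 3, 4, 5, 6, 8, 9]) = 129123503308800 := by
    have : (1 * 2 * 3 * 4 * 5 * 6 * 7 * 288 * 3159 * 28160 : ℕ) = 129123503308800 := by norm_num
    rw [this] at g0
    exact le_antisymm hHle g0
  -- exact indices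
  obtain ⟨c1, r1⟩ := exact_step i1 g1 l1 (by rw [cH]) (by norm_num) (by norm_num)
  obtain ⟨c2, r2⟩ := exact_step i2 g2 l2 (by rw [c1]) (by norm_num) (by norm_num)
  obtain ⟨c3, r3⟩ := exact_step i3 g3 l3 (by rw [c2]) (by norm_num) (by norm_num)
  obtain ⟨c4, r4⟩ := exact_step i4 g4 l4 (by rw [c3]) (by norm_num) (by norm_num)
  obtain ⟨c5, r5⟩ := exact_step i5 g5 l5 (by rw [c4]) (by norm_num) (by norm_num)
  obtain ⟨c6, r6⟩ := exact_step i6 g6 l6 (by rw [c5]) (by norm_num) (by norm_num)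
  obtain ⟨c7, r7⟩ := exact_step i7 g7 l7 (by rw [c6]) (by norm_num) (by norm_num)
  obtain ⟨c8, r8⟩ := exact_step i8 g8 l8 (by rw [c7]) (by norm_num) (by norm_num)
  obtain ⟨c9, r9⟩ := exact_step i9 g9 l9 (by rw [c8]) (by norm_num) (by norm_num)
  have cG : Nat.card Fi23 = 4089470473293004800 := by
    have := Subgroup.card_mul_index (LS φ [0, 1, 2, 3, 4, 5, 6, 8, 9])
    rw [cH, hidx] at this
    exact this.symm
  -- maximality
  have hmax : ∀ L : Subgroup Fi23, LS φ [0, 1, 2, 3, 4, 5, 6, 8, 9] ≤ L →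
      L = LS φ [0, 1, 2, 3, 4, 5, 6, 8, 9] ∨ L = ⊤ :=
    maximal_of_orbits _ ρ 31671 Fi23a.orbs hstab hlt hidx (by norm_num) Fi23a.tile_ok htree
      (by decide +kernel)
  refine ⟨cG, hmax, hidx, ρ, hρ, hstab, htr, ?_⟩
  -- the base
  intro g hg
  have e0 : g ∈ LS φ [0, 1, 2, 3, 4, 5, 6, 8, 9] := (hstab g).1 (hg 0 (by simp))
  have e1 : g ∈ LS φ [0, 1, 2, 3, 4, 5, 8, 9] :=
    stab_eq_of_orbit ρ _ _ i1 f1 _ fx1 O1 hO1 (by rw [hO1c, r1]) g e0 (hg 1 (by simp))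
  have e2 : g ∈ LS φ [0, 1, 2, 3, 4, 8, 9] :=
    stab_eq_of_orbit ρ _ _ i2 f2 _ fx2 O2 hO2 (by rw [hO2c, r2]) g e1 (hg 2 (by simp))
  have e3 : g ∈ LS φ [0, 1, 2, 3, 8, 9] :=
    stab_eq_of_orbit ρ _ _ i3 f3 _ fx3 O3 hO3 (by rw [hO3c, r3]) g e2 (hg 3 (by simp))
  have e4 : g ∈ LS φ [0, 1, 2, 3, 8] :=
    stab_eq_of_orbit ρ _ _ i4 f4 _ fx4 O4 hO4 (by rw [hO4c, r4]) g e3 (hg 312 (by simp))
  have e5 : g ∈ LS φ [0, 1, 2, 3] :=
    stab_eq_of_orbit ρ _ _ i5 f5 _ fx5 O5 hO5 (by rw [hO5c, r5]) g e4 (hg 438 (by simp))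
  have e6 : g ∈ LS φ [0, 1, 2] :=
    stab_eq_of_orbit ρ _ _ i6 f6 _ fx6 O6 hO6 (by rw [hO6c, r6]) g e5 (hg 4 (by simp))
  have e7 : g ∈ LS φ [0, 1] :=
    stab_eq_of_orbit ρ _ _ i7 f7 _ fx7 O7 hO7 (by rw [hO7c, r7]) g e6 (hg 5 (by simp))
  have e8 : g ∈ LS φ [0] :=
    stab_eq_of_orbit ρ _ _ i8 f8 _ fx8 O8 hO8 (by rw [hO8c, r8]) g e7 (hg 6 (by simp))
  have e9 : g ∈ LS φ [] :=
    stab_eq_of_orbit ρ _ _ i9 f9 _ fx9 O9 hO9 (by rw [hO9c, r9]) g e8 (hg 8 (by simp))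
  rw [LS_nil] at e9
  exact Subgroup.mem_bot.1 e9

/-- neighbours in the diagram are conjugate -/
theorem mem_of_edge (N : Subgroup Fi23) (hN : N.Normal) (i j : ℕ)
    (hw : [i, j, i, j, i, j] ∈ Fi23a.relW) (hi : φ i ∈ N) : φ j ∈ N := by
  have h := hrelW _ hw
  simp only [wprod, List.map, List.prod_cons, List.prod_nil, mul_one] at h
  have e1 : φ i * φ j * φ i * φ j * φ i = φ j := by
    calc φ i * φ j * φ i * φ j * φ i = φ i * φ j * φ i * φ j * φ i * (φ j * φ j) := by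
          rw [hsq, mul_one]
      _ = (φ i * (φ j * (φ i * (φ j * (φ i * φ j))))) * φ j := by simp only [mul_assoc]
      _ = φ j := by rw [h, one_mul]
  have hi' : (φ i)⁻¹ = φ i := inv_eq_of_mul_eq_one_left (hsq i)
  have hj' : (φ j)⁻¹ = φ j := inv_eq_of_mul_eq_one_left (hsq j)
  have e : (φ i * φ j) * φ i * (φ i * φ j)⁻¹ = φ j := by
    rw [mul_inv_rev, hi', hj', ← mul_assoc]
    exact e1
  rw [← e]
  exact hN.conj_mem _ hi _

/-- a word conjugating `a` to the central involution of `⟨a, …, i⟩` -/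
def ww : List ℕ :=
  [7, 6, 5, 4, 3, 2, 1, 0, 8, 3, 2, 4, 3, 5, 4, 6, 5, 7, 6, 8, 3, 2, 4, 3, 5, 4, 8, 3, 2, 1]

/-- the word of the central involution of `⟨a, …, i⟩` -/
def zw : List ℕ := ww ++ 0 :: ww.reverse

/-- the central involution of `⟨a, …, i⟩` -/
def z : Fi23 := wprod φ zw

theorem z_eq : z = wprod φ ww * φ 0 * (wprod φ ww)⁻¹ := by
  unfold z zw
  rw [wprod_append, wprod_cons, wprod_reverse φ hsq, mul_assoc]

/-- the normal closure of `z` is the whole group -/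
theorem normalClosure_z :
    Subgroup.normalClosure ((Subgroup.zpowers z : Subgroup Fi23) : Set Fi23) = ⊤ := by
  have hN : (Subgroup.normalClosure ((Subgroup.zpowers z : Subgroup Fi23) : Set Fi23)).Normal :=
    Subgroup.normalClosure_normal
  have hz : z ∈ Subgroup.normalClosure ((Subgroup.zpowers z : Subgroup Fi23) : Set Fi23) :=
    Subgroup.subset_normalClosure (Subgroup.mem_zpowers z)
  have h0 : φ 0 ∈ Subgroup.normalClosure ((Subgroup.zpowers z : Subgroup Fi23) : Set Fi23) := by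
    have h := hN.conj_mem z hz (wprod φ ww)⁻¹
    have e : (wprod φ ww)⁻¹ * z * (wprod φ ww)⁻¹⁻¹ = φ 0 := by
      rw [z_eq]
      group
    rw [e] at h
    exact h
  have h1 := mem_of_edge _ hN 0 1 (by decide +kernel) h0
  have h2 := mem_of_edge _ hN 1 2 (by decide +kernel) h1
  have h3 := mem_of_edge _ hN 2 3 (by decide +kernel) h2
  have h4 := mem_of_edge _ hN 3 4 (by decide +kernel) h3
  have h5 := mem_of_edge _ hN 4 5 (by decide +kernel) h4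
  have h6 := mem_of_edge _ hN 5 6 (by decide +kernel) h5
  have h7 := mem_of_edge _ hN 6 7 (by decide +kernel) h6
  have h8 := mem_of_edge _ hN 3 8 (by decide +kernel) h3
  have h9 := mem_of_edge _ hN 8 9 (by decide +kernel) h8
  rw [eq_top_iff, ← LS_top]
  unfold LS
  rw [Subgroup.closure_le]
  rintro _ ⟨l, hl, rfl⟩
  simp only [List.mem_cons, List.not_mem_nil, or_false] at hl
  rcases hl with rfl | rfl | rfl | rfl | rfl | rfl | rfl | rfl | rfl | rfl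
  · exact h0
  · exact h1
  · exact h2
  · exact h3
  · exact h4
  · exact h5
  · exact h6
  · exact h7
  · exact h8
  · exact h9

/-- images of the generators in the abelianisation -/
def ab (l : ℕ) : Abelianization Fi23 := Abelianization.of (φ l)

theorem ab_sq (l : ℕ) : ab l * ab l = 1 := by
  unfold ab
  rw [← map_mul, hsq, map_one]

theorem ab_edge (i j : ℕ) (hw : [i, j, i, j, i, j] ∈ Fi23a.relW) : ab i = ab j := by
  have h := congrArg (Abelianization.of (G := Fi23)) (hrelW _ hw)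
  simp only [wprod, List.map, List.prod_cons, List.prod_nil, mul_one, map_mul, map_one] at h
  change ab i * (ab j * (ab i * (ab j * (ab i * ab j)))) = 1 at h
  have h' : ab i * ab j = 1 := by
    calc ab i * ab j = ab i * ab j * ((ab i * ab i) * (ab j * ab j)) := by
          rw [ab_sq, ab_sq, mul_one, mul_one]
      _ = ab i * (ab j * (ab i * (ab j * (ab i * ab j)))) := by
          simp only [mul_assoc, mul_left_comm (ab j) (ab i)]
      _ = 1 := h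
  calc ab i = ab i * (ab j * ab j) := by rw [ab_sq, mul_one]
    _ = ab i * ab j * ab j := by rw [mul_assoc]
    _ = ab j := by rw [h', one_mul]

theorem perfect : commutator Fi23 = ⊤ := by
  have e01 : ab 0 = ab 1 := ab_edge 0 1 (by decide +kernel)
  have e12 : ab 1 = ab 2 := ab_edge 1 2 (by decide +kernel)
  have e23 : ab 2 = ab 3 := ab_edge 2 3 (by decide +kernel)
  have e34 : ab 3 = ab 4 := ab_edge 3 4 (by decide +kernel)
  have e45 : ab 4 = ab 5 := ab_edge 4 5 (by decide +kernel)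
  have e56 : ab 5 = ab 6 := ab_edge 5 6 (by decide +kernel)
  have e67 : ab 6 = ab 7 := ab_edge 6 7 (by decide +kernel)
  have e38 : ab 3 = ab 8 := ab_edge 3 8 (by decide +kernel)
  have e89 : ab 8 = ab 9 := ab_edge 8 9 (by decide +kernel)
  have h1 : ab 1 = ab 0 := e01.symm
  have h2 : ab 2 = ab 0 := e12.symm.trans h1
  have h3 : ab 3 = ab 0 := e23.symm.trans h2
  have h4 : ab 4 = ab 0 := e34.symm.trans h3
  have h5 : ab 5 = ab 0 := e45.symm.trans h4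
  have h6 : ab 6 = ab 0 := e56.symm.trans h5
  have h7 : ab 7 = ab 0 := e67.symm.trans h6
  have h8 : ab 8 = ab 0 := e38.symm.trans h3
  have h9 : ab 9 = ab 0 := e89.symm.trans h8
  -- (abcdefh)^9 = 1
  have h0 : ab 0 = 1 := by
    have h := congrArg (Abelianization.of (G := Fi23))
      (hrelW ([0, 1, 2, 3, 4, 5, 8] ++ [0, 1, 2, 3, 4, 5, 8] ++ [0, 1, 2, 3, 4, 5, 8] ++
        [0, 1, 2, 3, 4, 5, 8] ++ [0, 1, 2, 3, 4, 5, 8] ++ [0, 1, 2, 3, 4, 5, 8] ++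
        [0, 1, 2, 3, 4, 5, 8] ++ [0, 1, 2, 3, 4, 5, 8] ++ [0, 1, 2, 3, 4, 5, 8]) (by decide +kernel))
    simp only [wprod_append, map_mul, map_one] at h
    have hw : Abelianization.of (wprod φ [0, 1, 2, 3, 4, 5, 8]) = ab 0 := by
      simp only [wprod, List.map, List.prod_cons, List.prod_nil, mul_one, map_mul]
      change ab 0 * (ab 1 * (ab 2 * (ab 3 * (ab 4 * (ab 5 * ab 8))))) = ab 0
      rw [h1, h2, h3, h4, h5, h8, ab_sq, mul_one, ab_sq, mul_one, ab_sq, mul_one]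
    rw [hw] at h
    rw [ab_sq, one_mul, ab_sq, one_mul, ab_sq, one_mul, ab_sq, one_mul] at h
    exact h
  have hmem : ∀ l ∈ [0, 1, 2, 3, 4, 5, 6, 7, 8, 9], φ l ∈ commutator Fi23 := by
    intro l hl
    have hab : ab l = 1 := by
      simp only [List.mem_cons, List.not_mem_nil, or_false] at hl
      rcases hl with rfl | rfl | rfl | rfl | rfl | rfl | rfl | rfl | rfl | rfl
      · exact h0
      · exact h1.trans h0
      · exact h2.trans h0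
      · exact h3.trans h0
      · exact h4.trans h0
      · exact h5.trans h0
      · exact h6.trans h0
      · exact h7.trans h0
      · exact h8.trans h0
      · exact h9.trans h0
    rw [← Abelianization.ker_of Fi23]
    exact MonoidHom.mem_ker.2 hab
  rw [eq_top_iff, ← LS_top]
  unfold LS
  rw [Subgroup.closure_le]
  rintro _ ⟨l, hl, rfl⟩
  exact hmem l hl

theorem main_aux : IsSimpleGroup Fi23 ∧ Nat.card Fi23 = 4089470473293004800 := by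
  obtain ⟨cG, hmax, hidx, ρ, hρ, hstab, htr, hbase⟩ := order_facts
  have hfinG : Finite Fi23 := Nat.finite_of_card_ne_zero (by rw [cG]; norm_num)
  have hntG : Nontrivial Fi23 := by
    rw [← Finite.one_lt_card_iff_nontrivial, cG]; norm_num
  have hρ' : ∀ l, l < Fi23a.D.K → ∀ c, ρ (φ l) c = sig Fi23a.D l c := hρ
  -- z is centralised by a, ..., i
  have zc : ∀ x : ℕ, (∀ l ∈ x :: (zw ++ [x]), l < Fi23a.D.K) →
      (∀ b ∈ [0, 1, 2, 3, 312, 438, 4, 5, 6, 8],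
        actP Fi23a.D (zw ++ (x :: (zw ++ [x])).reverse) b = b) → φ x * z * φ x = z := by
    intro x hl h
    have h1 := wprod_eq_of_base ρ φ hsq Fi23a.D Fi23a.inv_ok hρ' _ (by decide) hbase
      (x :: (zw ++ [x])) zw hl (by decide) h
    rw [wprod_cons, wprod_append, wprod_cons, wprod_nil, mul_one] at h1
    rw [mul_assoc]
    exact h1
  have hz : ∀ x ∈ [0, 1, 2, 3, 4, 5, 6, 8, 9], φ x * z * φ x = z ∨ φ x * z * φ x = z⁻¹ := by
    intro x hx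
    simp only [List.mem_cons, List.not_mem_nil, or_false] at hx
    rcases hx with rfl | rfl | rfl | rfl | rfl | rfl | rfl | rfl | rfl
    · exact Or.inl (zc 0 (by decide) (by decide +kernel))
    · exact Or.inl (zc 1 (by decide) (by decide +kernel))
    · exact Or.inl (zc 2 (by decide) (by decide +kernel))
    · exact Or.inl (zc 3 (by decide) (by decide +kernel))
    · exact Or.inl (zc 4 (by decide) (by decide +kernel))
    · exact Or.inl (zc 5 (by decide) (by decide +kernel))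
    · exact Or.inl (zc 6 (by decide) (by decide +kernel))
    · exact Or.inl (zc 8 (by decide) (by decide +kernel))
    · exact Or.inl (zc 9 (by decide) (by decide +kernel))
  have hAH := zpowers_normalized φ hsq [0, 1, 2, 3, 4, 5, 6, 8, 9] z hz
  refine ⟨simple_of_iwasawa (LS φ [0, 1, 2, 3, 4, 5, 6, 8, 9]) (Subgroup.zpowers z) hmax ?_ ?_ hAH
    normalClosure_z perfect, cG⟩
  · intro h
    rw [h, Subgroup.index_top] at hidx
    norm_num at hidx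
  · intro g hg
    apply hbase
    have hfix : ∀ c, c < 31671 → ρ g c = c := by
      intro c hc
      obtain ⟨a, rfl⟩ := htr c hc
      have h2 := (hstab _).2 (hg a⁻¹)
      simp only [map_mul, map_inv, inv_inv, Equiv.Perm.mul_apply] at h2
      rw [Equiv.Perm.inv_eq_iff_eq] at h2
      exact h2
    intro b hb
    simp only [List.mem_cons, List.not_mem_nil, or_false] at hb
    rcases hb with rfl | rfl | rfl | rfl | rfl | rfl | rfl | rfl | rfl | rfl <;>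
      exact hfix _ (by norm_num)


/-- The presented Fischer group Fi23 is simple of the expected order (that is, it is a simple group of the order of the Fischer group Fi₂₃). -/
theorem result : Cfsg.IsFi23 Cfsg.Spor.Fi23 := by
  exact main_aux

end Cfsg.Agent.S1697
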