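import Cfsg.Statements.S1688
import Cfsg.Agent.S1696
import Cfsg.Agent.S1697

set_option autoImplicit false
set_option maxRecDepth 100000
open Cfsg

namespace Cfsg.Agent.S1688

open Cfsg.Agent.Lib.helper35 Cfsg.Spor

local notation "HH" => LS S1697.φ [0, 1, 2, 3, 4, 5, 6, 8, 9]

/-- the generators of `⟨a, …, i⟩`, by letter of `Fi₂₃` (the other letters go to `1`) -/
def φH (l : ℕ) : ↥HH :=
  ⟨restr S1697.φ [0, 1, 2, 3, 4, 5, 6, 8, 9] l, restr_mem S1697.φ _ l⟩

theorem φH_sq (l : ℕ) : φH l * φH l = 1 := by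
  apply Subtype.ext
  exact restr_sq S1697.φ S1697.hsq _ l

theorem coe_wprod (w : List ℕ) (h : ∀ l ∈ w, l ∈ [0, 1, 2, 3, 4, 5, 6, 8, 9]) :
    ((wprod φH w : ↥HH) : Fi23) = wprod S1697.φ w := by
  rw [← wprod_restr S1697.φ [0, 1, 2, 3, 4, 5, 6, 8, 9] w h]
  exact (wprod_map (Subgroup.subtype HH) φH w).symm

theorem wprod_comp {Γ : Type*} [Group Γ] (φ : ℕ → Γ) (t : ℕ → ℕ) (w : List ℕ) :
    wprod (fun l => φ (t l)) w = wprod φ (w.map t) := by
  induction w with
  | nil => rfl
  | cons l w ih => rw [List.map_cons, wprod_cons, wprod_cons, ih]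

/-- the generators `φH l` generate `⟨a, …, i⟩` -/
theorem gens_top :
    Subgroup.closure {x : ↥HH | ∃ l ∈ [0, 1, 2, 3, 4, 5, 6, 8, 9], x = φH l} = ⊤ := by
  have h : Subgroup.closure
      {x : ↥HH | ∃ l ∈ [0, 1, 2, 3, 4, 5, 6, 8, 9], (x : Fi23) = S1697.φ l} = ⊤ :=
    Subgroup.closure_closure_coe_preimage
      (k := {x : Fi23 | ∃ l ∈ [0, 1, 2, 3, 4, 5, 6, 8, 9], x = S1697.φ l})
  rw [← h]
  congr 1
  ext x
  constructor
  · rintro ⟨l, hl, rfl⟩
    refine ⟨l, hl, ?_⟩
    show restr S1697.φ [0, 1, 2, 3, 4, 5, 6, 8, 9] l = S1697.φ l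
    unfold restr
    rw [if_pos hl]
  · rintro ⟨l, hl, h⟩
    refine ⟨l, hl, Subtype.ext ?_⟩
    rw [h]
    show S1697.φ l = restr S1697.φ [0, 1, 2, 3, 4, 5, 6, 8, 9] l
    unfold restr
    rw [if_pos hl]

/-- the letter of `Fi₂₃` of a letter of `Fi₂₂` -/
def τ (l : ℕ) : ℕ := if l < 7 then l else if l = 7 then 8 else 9

theorem τ_mem (l : ℕ) : τ l ∈ [0, 1, 2, 3, 4, 5, 6, 8, 9] := by
  unfold τ
  split_ifs with h1 h2
  · interval_cases l <;> decide
  · decide
  · decide

/-- the word `(b c d e f g h)^9` in the letters of `Fi₂₃` -/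
def u9 : List ℕ :=
  [1, 2, 3, 4, 5, 6, 8] ++ [1, 2, 3, 4, 5, 6, 8] ++ [1, 2, 3, 4, 5, 6, 8] ++
    [1, 2, 3, 4, 5, 6, 8] ++ [1, 2, 3, 4, 5, 6, 8] ++ [1, 2, 3, 4, 5, 6, 8] ++
    [1, 2, 3, 4, 5, 6, 8] ++ [1, 2, 3, 4, 5, 6, 8] ++ [1, 2, 3, 4, 5, 6, 8]

/-- the relators of `Fi₂₂` are relators of `Fi₂₃`, but for `(b c d e f g h)^9` -/
theorem rel_cases : ∀ w ∈ relWords Fi22.edges Fi22.extra S1696.gen S1696.code 9,
    w.map τ ∈ Fi23a.relW ∨ w.map τ = u9 := by
  rw [← S1696.relWA_eq]
  decide +kernel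

theorem eq_of_braid {Q : Type*} [Group Q] (hpow : ∀ x : Q, x * x = 1) (a b : Q)
    (h : a * (b * (a * (b * (a * b)))) = 1) : a = b := by
  have hab : a * b * (a * b) = 1 := hpow (a * b)
  have h3 : a * b = 1 := by
    calc a * b = (a * b * (a * b)) * (a * b) := by rw [hab, one_mul]
      _ = a * (b * (a * (b * (a * b)))) := by simp only [mul_assoc]
      _ = 1 := h
  calc a = a * (b * b) := by rw [hpow b, mul_one]
    _ = a * b * b := by rw [mul_assoc]
    _ = b := by rw [h3, one_mul]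

/-- `⟨a, …, i⟩` has no subgroup of index 2 -/
theorem no_index_two (L : Subgroup ↥HH) (hL : L.index = 2) : False := by
  have hN : L.Normal := Subgroup.normal_of_index_eq_two hL
  have hcard : Nat.card (↥HH ⧸ L) = 2 := hL
  have hpow : ∀ x : ↥HH ⧸ L, x * x = 1 := by
    intro x
    have h := pow_card_eq_one' (G := ↥HH ⧸ L) (x := x)
    rw [hcard, pow_two] at h
    exact h
  have edge : ∀ i j, [i, j, i, j, i, j] ∈ Fi23a.relW →
      (∀ l ∈ [i, j, i, j, i, j], l ∈ [0, 1, 2, 3, 4, 5, 6, 8, 9]) →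
      QuotientGroup.mk' L (φH j) = QuotientGroup.mk' L (φH i) := by
    intro i j hw hS
    have h1 : wprod φH [i, j, i, j, i, j] = 1 := by
      apply Subtype.ext
      rw [coe_wprod _ hS, S1697.hrelW _ hw]
      rfl
    have h2 := congrArg (QuotientGroup.mk' L) h1
    rw [← wprod_map (QuotientGroup.mk' L) φH, map_one] at h2
    simp only [wprod, List.map, List.prod_cons, List.prod_nil, mul_one] at h2
    exact (eq_of_braid hpow _ _ h2).symm
  have h1 := edge 0 1 (by decide +kernel) (by decide)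
  have h2 := (edge 1 2 (by decide +kernel) (by decide)).trans h1
  have h3 := (edge 2 3 (by decide +kernel) (by decide)).trans h2
  have h4 := (edge 3 4 (by decide +kernel) (by decide)).trans h3
  have h5 := (edge 4 5 (by decide +kernel) (by decide)).trans h4
  have h6 := (edge 5 6 (by decide +kernel) (by decide)).trans h5
  have h8 := (edge 3 8 (by decide +kernel) (by decide)).trans h3
  have h9 := (edge 8 9 (by decide +kernel) (by decide)).trans h8
  have ha2 : QuotientGroup.mk' L (φH 0) * QuotientGroup.mk' L (φH 0) = 1 := hpow _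
  -- (abcdefh)^9 = 1
  have h0 : QuotientGroup.mk' L (φH 0) = 1 := by
    have h7 : wprod φH ([0, 1, 2, 3, 4, 5, 8] ++ [0, 1, 2, 3, 4, 5, 8] ++ [0, 1, 2, 3, 4, 5, 8] ++
        [0, 1, 2, 3, 4, 5, 8] ++ [0, 1, 2, 3, 4, 5, 8] ++ [0, 1, 2, 3, 4, 5, 8] ++
        [0, 1, 2, 3, 4, 5, 8] ++ [0, 1, 2, 3, 4, 5, 8] ++ [0, 1, 2, 3, 4, 5, 8]) = 1 := by
      apply Subtype.ext
      rw [coe_wprod _ (by decide), S1697.hrelW _ (by decide +kernel)]
      rfl
    have h := congrArg (QuotientGroup.mk' L) h7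
    simp only [wprod_append, map_mul, map_one] at h
    have hw : QuotientGroup.mk' L (wprod φH [0, 1, 2, 3, 4, 5, 8]) =
        QuotientGroup.mk' L (φH 0) := by
      simp only [wprod, List.map, List.prod_cons, List.prod_nil, mul_one, map_mul]
      rw [h1, h2, h3, h4, h5, h8, ha2, mul_one, ha2, mul_one, ha2, mul_one]
    rw [hw] at h
    rw [ha2, one_mul, ha2, one_mul, ha2, one_mul, ha2, one_mul] at h
    exact h
  have hLtop : L = ⊤ := by
    rw [eq_top_iff, ← gens_top, Subgroup.closure_le]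
    rintro _ ⟨l, hl, rfl⟩
    have hl1 : QuotientGroup.mk' L (φH l) = 1 := by
      simp only [List.mem_cons, List.not_mem_nil, or_false] at hl
      rcases hl with rfl | rfl | rfl | rfl | rfl | rfl | rfl | rfl | rfl
      · exact h0
      · exact h1.trans h0
      · exact h2.trans h0
      · exact h3.trans h0
      · exact h4.trans h0
      · exact h5.trans h0
      · exact h6.trans h0
      · exact h8.trans h0
      · exact h9.trans h0
    rw [QuotientGroup.mk'_apply, QuotientGroup.eq_one_iff] at hl1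
    exact hl1
  rw [hLtop, Subgroup.index_top] at hL
  norm_num at hL

theorem conj_sq {Γ : Type*} [Group Γ] (a b : Γ) (hb : b * b = 1) :
    (a * b * a⁻¹) * (a * b * a⁻¹) = 1 := by
  calc (a * b * a⁻¹) * (a * b * a⁻¹) = a * (b * b) * a⁻¹ := by group
    _ = 1 := by rw [hb]; group

theorem main : IsNonsplitDoubleCover ↥HH Fi22 := by
  obtain ⟨cG, -, hidx, ρ, hρ, -, -, hbase⟩ := S1697.order_facts
  obtain ⟨hs22, c22⟩ := S1696.main_aux
  have hρ' : ∀ l, l < Fi23a.D.K → ∀ c, ρ (S1697.φ l) c = sig Fi23a.D l c := hρ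
  -- the order of the subgroup
  have cH : Nat.card ↥HH = 129123503308800 := by
    have h := Subgroup.card_mul_index HH
    rw [hidx, cG] at h
    omega
  have hfinH : Finite ↥HH := Nat.finite_of_card_ne_zero (by rw [cH]; norm_num)
  have hfin22 : Finite Fi22 := Nat.finite_of_card_ne_zero (by rw [c22]; norm_num)
  -- the central involution
  have hu9 : wprod S1697.φ u9 = S1697.z :=
    wprod_eq_of_base ρ S1697.φ S1697.hsq Fi23a.D Fi23a.inv_ok hρ' _ (by decide) hbase
      u9 S1697.zw (by decide) (by decide) (by decide +kernel)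
  have hz1 : S1697.z ≠ 1 := by
    intro h
    have h2 : ρ S1697.z 1 = 1 := by rw [h, ρ.map_one]; rfl
    have h3 := rho_wprod ρ S1697.φ Fi23a.D hρ' S1697.zw.reverse (by decide) 1
    rw [List.reverse_reverse, ← (actP_eq Fi23a.inv_ok _ (by decide) 1 (by decide)).1] at h3
    have h4 : actP Fi23a.D S1697.zw.reverse 1 ≠ 1 := by decide +kernel
    exact h4 (h3.symm.trans h2)
  have hzz : S1697.z * S1697.z = 1 := by
    rw [S1697.z_eq]
    exact conj_sq _ _ (S1697.hsq 0)
  have zc : ∀ x : ℕ, (∀ l ∈ x :: (S1697.zw ++ [x]), l < Fi23a.D.K) →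
      (∀ b ∈ [0, 1, 2, 3, 312, 438, 4, 5, 6, 8],
        actP Fi23a.D (S1697.zw ++ (x :: (S1697.zw ++ [x])).reverse) b = b) →
      S1697.φ x * S1697.z * S1697.φ x = S1697.z := by
    intro x hl h
    have h1 := wprod_eq_of_base ρ S1697.φ S1697.hsq Fi23a.D Fi23a.inv_ok hρ' _ (by decide) hbase
      (x :: (S1697.zw ++ [x])) S1697.zw hl (by decide) h
    rw [wprod_cons, wprod_append, wprod_cons, wprod_nil, mul_one] at h1
    rw [mul_assoc]
    exact h1
  have hcomm : ∀ x ∈ [0, 1, 2, 3, 4, 5, 6, 8, 9],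
      S1697.φ x * S1697.z = S1697.z * S1697.φ x := by
    intro x hx
    have h : S1697.φ x * S1697.z * S1697.φ x = S1697.z := by
      simp only [List.mem_cons, List.not_mem_nil, or_false] at hx
      rcases hx with rfl | rfl | rfl | rfl | rfl | rfl | rfl | rfl | rfl
      · exact zc 0 (by decide) (by decide +kernel)
      · exact zc 1 (by decide) (by decide +kernel)
      · exact zc 2 (by decide) (by decide +kernel)
      · exact zc 3 (by decide) (by decide +kernel)
      · exact zc 4 (by decide) (by decide +kernel)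
      · exact zc 5 (by decide) (by decide +kernel)
      · exact zc 6 (by decide) (by decide +kernel)
      · exact zc 8 (by decide) (by decide +kernel)
      · exact zc 9 (by decide) (by decide +kernel)
    calc S1697.φ x * S1697.z = S1697.φ x * S1697.z * (S1697.φ x * S1697.φ x) := by
          rw [S1697.hsq, mul_one]
      _ = (S1697.φ x * S1697.z * S1697.φ x) * S1697.φ x := by simp only [mul_assoc]
      _ = S1697.z * S1697.φ x := by rw [h]
  have hcent : ∀ h ∈ HH, h * S1697.z = S1697.z * h := by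
    have hle : HH ≤ Subgroup.centralizer {S1697.z} := by
      unfold LS
      rw [Subgroup.closure_le]
      rintro _ ⟨l, hl, rfl⟩
      rw [SetLike.mem_coe, Subgroup.mem_centralizer_iff]
      intro y hy
      rw [Set.mem_singleton_iff] at hy
      rw [hy]
      exact (hcomm l hl).symm
    intro h hh
    exact (Subgroup.mem_centralizer_iff.1 (hle hh) S1697.z (Set.mem_singleton _)).symm
  -- the central involution as an element of the subgroup
  obtain ⟨zH, hzHval⟩ : ∃ zH : ↥HH, (zH : Fi23) = S1697.z :=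
    ⟨wprod φH u9, by rw [coe_wprod u9 (by decide), hu9]⟩
  have hzH1 : zH ≠ 1 := by
    intro h
    apply hz1
    rw [← hzHval, h]
    rfl
  have hzH2 : zH * zH = 1 := by
    apply Subtype.ext
    rw [Subgroup.coe_mul, hzHval]
    exact hzz
  have hzHc : ∀ h : ↥HH, h * zH = zH * h := by
    intro h
    apply Subtype.ext
    rw [Subgroup.coe_mul, Subgroup.coe_mul, hzHval]
    exact hcent h h.2
  have hZn : (Subgroup.zpowers zH).Normal := by
    refine ⟨fun n hn g => ?_⟩
    obtain ⟨k, rfl⟩ := Subgroup.mem_zpowers_iff.1 hn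
    have hc : Commute g zH := hzHc g
    have e : g * zH ^ k * g⁻¹ = zH ^ k := by
      rw [(hc.zpow_right k).eq, mul_inv_cancel_right]
    rw [e]
    exact Subgroup.zpow_mem_zpowers zH k
  have hZcard : Nat.card (Subgroup.zpowers zH) = 2 := by
    rw [Nat.card_zpowers]
    exact orderOf_eq_prime (by rw [pow_two]; exact hzH2) hzH1
  have hQcard : Nat.card (↥HH ⧸ Subgroup.zpowers zH) = 64561751654400 := by
    have h := Subgroup.card_eq_card_quotient_mul_card_subgroup (Subgroup.zpowers zH)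
    rw [hZcard, cH] at h
    omega
  -- the homomorphism from the presented group `Fi₂₂`
  have hψsq : ∀ l, QuotientGroup.mk' (Subgroup.zpowers zH) (φH (τ l)) *
      QuotientGroup.mk' (Subgroup.zpowers zH) (φH (τ l)) = 1 := by
    intro l
    rw [← map_mul, φH_sq, map_one]
  have hrel : ∀ w ∈ relWords Fi22.edges Fi22.extra S1696.gen S1696.code 9,
      wprod (fun l => QuotientGroup.mk' (Subgroup.zpowers zH) (φH (τ l))) w = 1 := by
    intro w hw
    rw [wprod_map (QuotientGroup.mk' (Subgroup.zpowers zH)) (fun l => φH (τ l)) w,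
      wprod_comp φH τ w, QuotientGroup.mk'_apply, QuotientGroup.eq_one_iff]
    have hmem : ∀ l ∈ w.map τ, l ∈ [0, 1, 2, 3, 4, 5, 6, 8, 9] := by
      intro l hl
      obtain ⟨l', -, rfl⟩ := List.mem_map.1 hl
      exact τ_mem l'
    rcases rel_cases w hw with h | h
    · have e : wprod φH (w.map τ) = 1 := by
        apply Subtype.ext
        rw [coe_wprod _ hmem, S1697.hrelW _ h]
        rfl
      rw [e]
      exact Subgroup.one_mem _
    · have e : wprod φH (w.map τ) = zH := by
        apply Subtype.ext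
        rw [coe_wprod _ hmem, h, hzHval]
        exact hu9
      rw [e]
      exact Subgroup.mem_zpowers zH
  obtain ⟨f, hf⟩ := exists_hom S1696.pres
    (fun l => QuotientGroup.mk' (Subgroup.zpowers zH) (φH (τ l))) hψsq hrel
  have hsurj : Function.Surjective f := by
    rw [← MonoidHom.range_eq_top, eq_top_iff]
    have e1 : (⊤ : Subgroup (↥HH ⧸ Subgroup.zpowers zH)) =
        (⊤ : Subgroup ↥HH).map (QuotientGroup.mk' (Subgroup.zpowers zH)) := by
      rw [← MonoidHom.range_eq_map,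
        MonoidHom.range_eq_top.2 (QuotientGroup.mk'_surjective (Subgroup.zpowers zH))]
    rw [e1, ← gens_top, MonoidHom.map_closure, Subgroup.closure_le]
    rintro _ ⟨x, ⟨l, hl, rfl⟩, rfl⟩
    obtain ⟨i, hi, rfl⟩ : ∃ i, i < 9 ∧ τ i = l := by
      simp only [List.mem_cons, List.not_mem_nil, or_false] at hl
      rcases hl with rfl | rfl | rfl | rfl | rfl | rfl | rfl | rfl | rfl
      · exact ⟨0, by norm_num, by decide⟩
      · exact ⟨1, by norm_num, by decide⟩
      · exact ⟨2, by norm_num, by decide⟩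
      · exact ⟨3, by norm_num, by decide⟩
      · exact ⟨4, by norm_num, by decide⟩
      · exact ⟨5, by norm_num, by decide⟩
      · exact ⟨6, by norm_num, by decide⟩
      · exact ⟨7, by norm_num, by decide⟩
      · exact ⟨8, by norm_num, by decide⟩
    exact ⟨_, hf i hi⟩
  have hbij : Function.Bijective f :=
    hsurj.bijective_of_nat_card_le (le_of_eq (by rw [c22, hQcard]))
  obtain ⟨e, -⟩ : ∃ e : Fi22 ≃* (↥HH ⧸ Subgroup.zpowers zH), ∀ x, e x = f x :=
    ⟨MulEquiv.ofBijective f hbij, fun x => rfl⟩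
  have : IsSimpleGroup Fi22 := hs22
  have hsQ : IsSimpleGroup (↥HH ⧸ Subgroup.zpowers zH) := e.symm.isSimpleGroup
  -- the centre
  have hcenQ : Subgroup.center ↥HH ≤ Subgroup.zpowers zH := by
    intro x hx
    have h1 : QuotientGroup.mk' (Subgroup.zpowers zH) x ∈
        Subgroup.center (↥HH ⧸ Subgroup.zpowers zH) := by
      rw [Subgroup.mem_center_iff]
      intro y
      obtain ⟨y', rfl⟩ := QuotientGroup.mk'_surjective (Subgroup.zpowers zH) y
      rw [← map_mul, ← map_mul, Subgroup.mem_center_iff.1 hx y']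
    rcases Subgroup.Normal.eq_bot_or_eq_top
      (inferInstance : (Subgroup.center (↥HH ⧸ Subgroup.zpowers zH)).Normal) with hbot | htop
    · rw [hbot, Subgroup.mem_bot, QuotientGroup.mk'_apply, QuotientGroup.eq_one_iff] at h1
      exact h1
    · exfalso
      have hcommQ : ∀ a b : ↥HH ⧸ Subgroup.zpowers zH, a * b = b * a := by
        intro a b
        have hb : b ∈ Subgroup.center (↥HH ⧸ Subgroup.zpowers zH) := by
          rw [htop]
          exact Subgroup.mem_top b
        exact Subgroup.mem_center_iff.1 hb a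
      have hcomm22 : ∀ a b : Fi22, a * b = b * a := by
        intro a b
        apply e.injective
        rw [map_mul, map_mul]
        exact hcommQ _ _
      have hc : commutator Fi22 = ⊥ := by
        rw [commutator_def, eq_bot_iff, Subgroup.commutator_le]
        intro a _ b _
        rw [Subgroup.mem_bot, commutatorElement_def, hcomm22 a b]
        group
      rw [S1696.perfect] at hc
      have h1 : ∀ a : Fi22, a = 1 := by
        intro a
        have ha : a ∈ (⊤ : Subgroup Fi22) := Subgroup.mem_top a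
        rw [hc] at ha
        exact Subgroup.mem_bot.1 ha
      obtain ⟨a, b, hab⟩ := exists_pair_ne Fi22
      exact hab ((h1 a).trans (h1 b).symm)
  have hcen : Subgroup.center ↥HH = Subgroup.zpowers zH :=
    le_antisymm hcenQ (by
      rw [Subgroup.zpowers_le]
      exact Subgroup.mem_center_iff.2 hzHc)
  refine ⟨?_, ?_, ?_⟩
  · rw [hcen]
    exact hZcard
  · exact ⟨(QuotientGroup.quotientMulEquivOfEq hcen).trans e.symm⟩
  · intro L hL
    have hidx2 : L.index = 2 := by
      rw [hL.index_eq_card, hcen]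
      exact hZcard
    exact no_index_two L hidx2

theorem main' (K : Subgroup Fi23) (hK : K = HH) : IsNonsplitDoubleCover ↥K Fi22 := by
  subst hK
  exact main

/-- In the presented Fischer group Fi₂₃, the subgroup generated by the images of a, …, i is a non-split double cover of the presented Fischer group Fi₂₂. -/
theorem result : Cfsg.IsNonsplitDoubleCover (((Subgroup.closure ({Cfsg.Spor.Fi23.a, Cfsg.Spor.Fi23.b, Cfsg.Spor.Fi23.c, Cfsg.Spor.Fi23.d, Cfsg.Spor.Fi23.e, Cfsg.Spor.Fi23.f, Cfsg.Spor.Fi23.g, Cfsg.Spor.Fi23.h, Cfsg.Spor.Fi23.i} : Set (FreeGroup Cfsg.Spor.Fi23.Gen))).map (PresentedGroup.mk (Cfsg.Spor.coxRelators Cfsg.Spor.Fi23.edges ∪ {r | r ∈ Cfsg.Spor.Fi23.extra})))) Cfsg.Spor.Fi22 := by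
  apply main'
  have hS : ({Cfsg.Spor.Fi23.a, Cfsg.Spor.Fi23.b, Cfsg.Spor.Fi23.c, Cfsg.Spor.Fi23.d, Cfsg.Spor.Fi23.e, Cfsg.Spor.Fi23.f, Cfsg.Spor.Fi23.g, Cfsg.Spor.Fi23.h, Cfsg.Spor.Fi23.i} : Set (FreeGroup Cfsg.Spor.Fi23.Gen)) = {y | y ∈ S1697.ys} := by
    ext y
    show y ∈ ({Cfsg.Spor.Fi23.a, Cfsg.Spor.Fi23.b, Cfsg.Spor.Fi23.c, Cfsg.Spor.Fi23.d, Cfsg.Spor.Fi23.e, Cfsg.Spor.Fi23.f, Cfsg.Spor.Fi23.g, Cfsg.Spor.Fi23.h, Cfsg.Spor.Fi23.i} : Set (FreeGroup Cfsg.Spor.Fi23.Gen)) ↔ y ∈ S1697.ys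
    simp only [S1697.ys, Set.mem_insert_iff, Set.mem_singleton_iff, List.mem_cons, List.not_mem_nil, or_false]
  rw [hS]
  exact S1697.H_eq

end Cfsg.Agent.S1688
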