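import Cfsg.Statements.S0472
import Cfsg.Agent.S1688

set_option autoImplicit false
set_option maxRecDepth 100000
open Cfsg

namespace Cfsg.Agent.S0472

open Cfsg.Agent.Lib.helper35 Cfsg.Spor

local notation "HH" => LS S1697.φ [0, 1, 2, 3, 4, 5, 6, 8, 9]

/-- conjugating by an element of the point stabiliser, on either side, does not change the
order of `z * z^g` -/
theorem conj_invariance {Γ : Type*} [Group Γ] (ρ : Γ →* Equiv.Perm ℕ) (H : Subgroup Γ) (z : Γ)
    (hstab : ∀ a, ρ a 0 = 0 ↔ a ∈ H) (hcent : ∀ h ∈ H, h * z = z * h)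
    (g g' a : Γ) (ha : a ∈ H) (hpt : ρ (a * g') 0 = ρ g 0) (k : ℕ)
    (hk : (z * (g' * z * g'⁻¹)) ^ k = 1) : (z * (g * z * g⁻¹)) ^ k = 1 := by
  have h0 : ρ (g⁻¹ * (a * g')) 0 = 0 := by
    rw [ρ.map_mul g⁻¹ (a * g'), Equiv.Perm.mul_apply, hpt, ← Equiv.Perm.mul_apply, ← ρ.map_mul,
      inv_mul_cancel, ρ.map_one]
    rfl
  have hh : (g⁻¹ * (a * g')) * z = z * (g⁻¹ * (a * g')) := hcent _ ((hstab _).1 h0)
  have hz' : (g⁻¹ * (a * g'))⁻¹ * z * (g⁻¹ * (a * g')) = z := by
    rw [mul_assoc, ← hh, ← mul_assoc, inv_mul_cancel, one_mul]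
  have e1 : g * z * g⁻¹ = a * (g' * z * g'⁻¹) * a⁻¹ := by
    calc g * z * g⁻¹
        = a * g' * ((g⁻¹ * (a * g'))⁻¹ * z * (g⁻¹ * (a * g'))) * g'⁻¹ * a⁻¹ := by group
      _ = a * (g' * z * g'⁻¹) * a⁻¹ := by rw [hz']; group
  have haz : z * a = a * z := (hcent a ha).symm
  have e2 : z * (g * z * g⁻¹) = a * (z * (g' * z * g'⁻¹)) * a⁻¹ := by
    rw [e1]
    calc z * (a * (g' * z * g'⁻¹) * a⁻¹) = (z * a) * (g' * z * g'⁻¹) * a⁻¹ := by group
      _ = (a * z) * (g' * z * g'⁻¹) * a⁻¹ := by rw [haz]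
      _ = a * (z * (g' * z * g'⁻¹)) * a⁻¹ := by group
  rw [e2, conj_pow, hk, mul_one, mul_inv_cancel]

/-- the centralisers of conjugate elements are isomorphic -/
theorem centralizer_conj_equiv {Γ : Type*} [Group Γ] (z x : Γ) :
    Nonempty (↥(Subgroup.centralizer ({z} : Set Γ)) ≃*
      ↥(Subgroup.centralizer ({x * z * x⁻¹} : Set Γ))) := by
  refine ⟨{ toFun := fun h => ⟨x * h.1 * x⁻¹, ?_⟩
            invFun := fun c => ⟨x⁻¹ * c.1 * x, ?_⟩
            left_inv := ?_
            right_inv := ?_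
            map_mul' := ?_ }⟩
  · rw [Subgroup.mem_centralizer_iff]
    intro w hw
    rw [Set.mem_singleton_iff] at hw
    rw [hw]
    have hz : z * h.1 = h.1 * z := Subgroup.mem_centralizer_iff.1 h.2 z (Set.mem_singleton z)
    calc x * z * x⁻¹ * (x * h.1 * x⁻¹) = x * (z * h.1) * x⁻¹ := by group
      _ = x * (h.1 * z) * x⁻¹ := by rw [hz]
      _ = x * h.1 * x⁻¹ * (x * z * x⁻¹) := by group
  · rw [Subgroup.mem_centralizer_iff]
    intro w hw
    rw [Set.mem_singleton_iff] at hw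
    rw [hw]
    have hc : x * z * x⁻¹ * c.1 = c.1 * (x * z * x⁻¹) :=
      Subgroup.mem_centralizer_iff.1 c.2 _ (Set.mem_singleton _)
    calc z * (x⁻¹ * c.1 * x) = x⁻¹ * (x * z * x⁻¹ * c.1) * x := by group
      _ = x⁻¹ * (c.1 * (x * z * x⁻¹)) * x := by rw [hc]
      _ = x⁻¹ * c.1 * x * z := by group
  · intro h
    apply Subtype.ext
    show x⁻¹ * (x * h.1 * x⁻¹) * x = h.1
    group
  · intro c
    apply Subtype.ext
    show x * (x⁻¹ * c.1 * x) * x⁻¹ = c.1
    group
  · intro a b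
    apply Subtype.ext
    show x * (a.1 * b.1) * x⁻¹ = x * a.1 * x⁻¹ * (x * b.1 * x⁻¹)
    group

/-- non-split double covers along an isomorphism -/
theorem cover_of_equiv {H₁ H₂ K : Type*} [Group H₁] [Group H₂] [Group K] (e : H₁ ≃* H₂)
    (h : IsNonsplitDoubleCover H₁ K) (hno : ∀ L : Subgroup H₁, L.index = 2 → False) :
    IsNonsplitDoubleCover H₂ K := by
  obtain ⟨hc, ⟨f⟩, -⟩ := h
  have hmap : (Subgroup.center H₁).map (e : H₁ →* H₂) = Subgroup.center H₂ := by
    ext y
    constructor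
    · rintro ⟨x, hx, rfl⟩
      rw [Subgroup.mem_center_iff]
      intro g
      obtain ⟨g', rfl⟩ := e.surjective g
      have hx' := Subgroup.mem_center_iff.1 hx g'
      show e g' * e x = e x * e g'
      rw [← map_mul, ← map_mul, hx']
    · intro hy
      refine ⟨e.symm y, ?_, e.apply_symm_apply y⟩
      rw [SetLike.mem_coe, Subgroup.mem_center_iff]
      intro g
      apply e.injective
      rw [map_mul, map_mul, e.apply_symm_apply]
      exact Subgroup.mem_center_iff.1 hy (e g)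
  have hc2 : Nat.card (Subgroup.center H₂) = 2 := by
    rw [← hc, ← hmap]
    exact Nat.card_congr (e.subgroupMap (Subgroup.center H₁)).symm.toEquiv
  refine ⟨hc2,
    ⟨(QuotientGroup.congr (Subgroup.center H₁) (Subgroup.center H₂) e hmap).symm.trans f⟩, ?_⟩
  intro L hL
  apply hno (L.comap (e : H₁ →* H₂))
  rw [Subgroup.index_comap_of_surjective L e.surjective, hL.index_eq_card, hc2]

theorem main' (K : Subgroup Fi23) (hK : K = HH) :
    IsNonsplitDoubleCover ↥K Fi22 ∧ ∀ L : Subgroup ↥K, L.index = 2 → False := by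
  subst hK
  exact ⟨S1688.main, S1688.no_index_two⟩

/-- the facts about the presented group `Fi₂₃` and its involution `z` -/
theorem facts :
    Nat.card Fi23 = 4089470473293004800 ∧ (LS S1697.φ [0, 1, 2, 3, 4, 5, 6, 8, 9]).index = 31671 ∧
    S1697.z ≠ 1 ∧ S1697.z * S1697.z = 1 ∧
    Subgroup.centralizer {S1697.z} = HH ∧
    ∀ g : Fi23, (S1697.z * (g * S1697.z * g⁻¹)) ^ 2 = 1 ∨
      (S1697.z * (g * S1697.z * g⁻¹)) ^ 3 = 1 := by
  obtain ⟨ρ, hρ, hstab, htr, hlt, hidx, htree, -⟩ :=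
    CoxIndex.main2 S1697.checks {y | y ∈ S1697.ys} (fun y => Iff.rfl)
  rw [S1697.H_eq] at hstab hidx htree
  have hn : Fi23a.D.n = 31671 := rfl
  rw [hn] at hidx hlt
  obtain ⟨cG, hmax, -, ρ₂, hρ₂, -, -, hbase₂⟩ := S1697.order_facts
  have hρ' : ∀ l, l < Fi23a.D.K → ∀ c, ρ (S1697.φ l) c = sig Fi23a.D l c := hρ
  -- the two representations agree
  have hρeq : ρ₂ = ρ := by
    refine MonoidHom.eq_of_eqOn_dense
      (s := {x | ∃ l ∈ [0, 1, 2, 3, 4, 5, 6, 7, 8, 9], x = S1697.φ l}) S1697.LS_top ?_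
    rintro _ ⟨l, hl, rfl⟩
    have hl10 : l < 10 := by
      simp only [List.mem_cons, List.not_mem_nil, or_false] at hl
      omega
    ext c
    rw [hρ₂ l hl10 c]
    exact (hρ l hl10 c).symm
  have hbase : ∀ g : Fi23, (∀ b ∈ [0, 1, 2, 3, 312, 438, 4, 5, 6, 8], ρ g b = b) → g = 1 := by
    rw [← hρeq]
    exact hbase₂
  -- the involution
  have hz1 : S1697.z ≠ 1 := by
    intro h
    have h2 : ρ S1697.z 1 = 1 := by rw [h, ρ.map_one]; rfl
    have h3 := rho_wprod ρ S1697.φ Fi23a.D hρ' S1697.zw.reverse (by decide) 1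
    rw [List.reverse_reverse, ← (actP_eq Fi23a.inv_ok _ (by decide) 1 (by decide)).1] at h3
    have h4 : actP Fi23a.D S1697.zw.reverse 1 ≠ 1 := by decide +kernel
    exact h4 (h3.symm.trans h2)
  have hzz : S1697.z * S1697.z = 1 := by
    rw [S1697.z_eq]
    exact S1688.conj_sq _ _ (S1697.hsq 0)
  have zc : ∀ x : ℕ, (∀ l ∈ x :: (S1697.zw ++ [x]), l < Fi23a.D.K) →
      (∀ b ∈ [0, 1, 2, 3, 312, 438, 4, 5, 6, 8],
        actP Fi23a.D (S1697.zw ++ (x :: (S1697.zw ++ [x])).reverse) b = b) →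
      S1697.φ x * S1697.z * S1697.φ x = S1697.z := by
    intro x hl h
    have h1 := wprod_eq_of_base ρ S1697.φ S1697.hsq Fi23a.D Fi23a.inv_ok hρ' _ (by decide) hbase
      (x :: (S1697.zw ++ [x])) S1697.zw hl (by decide) h
    rw [wprod_cons, wprod_append, wprod_cons, wprod_nil, mul_one] at h1
    rw [mul_assoc]
    exact h1
  have hcomm : ∀ x ∈ [0, 1, 2, 3, 4, 5, 6, 8, 9],
      S1697.φ x * S1697.z = S1697.z * S1697.φ x := by
    intro x hx
    have h : S1697.φ x * S1697.z * S1697.φ x = S1697.z := by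
      simp only [List.mem_cons, List.not_mem_nil, or_false] at hx
      rcases hx with rfl | rfl | rfl | rfl | rfl | rfl | rfl | rfl | rfl
      · exact zc 0 (by decide) (by decide +kernel)
      · exact zc 1 (by decide) (by decide +kernel)
      · exact zc 2 (by decide) (by decide +kernel)
      · exact zc 3 (by decide) (by decide +kernel)
      · exact zc 4 (by decide) (by decide +kernel)
      · exact zc 5 (by decide) (by decide +kernel)
      · exact zc 6 (by decide) (by decide +kernel)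
      · exact zc 8 (by decide) (by decide +kernel)
      · exact zc 9 (by decide) (by decide +kernel)
    calc S1697.φ x * S1697.z = S1697.φ x * S1697.z * (S1697.φ x * S1697.φ x) := by
          rw [S1697.hsq, mul_one]
      _ = (S1697.φ x * S1697.z * S1697.φ x) * S1697.φ x := by simp only [mul_assoc]
      _ = S1697.z * S1697.φ x := by rw [h]
  have hle : HH ≤ Subgroup.centralizer {S1697.z} := by
    unfold LS
    rw [Subgroup.closure_le]
    rintro _ ⟨l, hl, rfl⟩
    rw [SetLike.mem_coe, Subgroup.mem_centralizer_iff]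
    intro y hy
    rw [Set.mem_singleton_iff] at hy
    rw [hy]
    exact (hcomm l hl).symm
  have hcent : ∀ h ∈ HH, h * S1697.z = S1697.z * h := by
    intro h hh
    exact (Subgroup.mem_centralizer_iff.1 (hle hh) S1697.z (Set.mem_singleton _)).symm
  -- the centraliser
  have hC : Subgroup.centralizer {S1697.z} = HH := by
    rcases hmax _ hle with h | h
    · exact h
    · exfalso
      have hzc : ∀ g : Fi23, g * S1697.z = S1697.z * g := by
        intro g
        have hg : g ∈ Subgroup.centralizer {S1697.z} := by rw [h]; exact Subgroup.mem_top g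
        exact (Subgroup.mem_centralizer_iff.1 hg S1697.z (Set.mem_singleton _)).symm
      have hN : (Subgroup.zpowers S1697.z).Normal := by
        refine ⟨fun n hn g => ?_⟩
        obtain ⟨k, rfl⟩ := Subgroup.mem_zpowers_iff.1 hn
        have hc : Commute g S1697.z := hzc g
        have e : g * S1697.z ^ k * g⁻¹ = S1697.z ^ k := by
          rw [(hc.zpow_right k).eq, mul_inv_cancel_right]
        rw [e]
        exact Subgroup.zpow_mem_zpowers _ k
      have h1 := S1697.normalClosure_z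
      rw [Subgroup.normalClosure_eq_self] at h1
      have h2 : Nat.card (Subgroup.zpowers S1697.z) = Nat.card Fi23 := by
        rw [h1, Subgroup.card_top]
      rw [Nat.card_zpowers, orderOf_eq_prime (by rw [pow_two]; exact hzz) hz1, cG] at h2
      norm_num at h2
  -- the two other orbits of the centraliser
  have s7 : ρ (S1697.φ 7) 0 = 1 := by
    rw [hρ' 7 (by decide) 0]
    decide +kernel
  have hg2 : ρ (wprod S1697.φ [7, 6, 5, 4, 3, 8, 2, 3, 4, 5, 6, 7]) 0 = 28161 := by
    have h := rho_wprod ρ S1697.φ Fi23a.D hρ' [7, 6, 5, 4, 3, 2, 8, 3, 4, 5, 6, 7] (by decide) 0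
    rw [← (actP_eq Fi23a.inv_ok _ (by decide) 0 (by decide)).1] at h
    have h' : actP Fi23a.D [7, 6, 5, 4, 3, 2, 8, 3, 4, 5, 6, 7] 0 = 28161 := by decide +kernel
    rw [h'] at h
    exact h
  have id1 : (S1697.z * (S1697.φ 7 * S1697.z * (S1697.φ 7)⁻¹)) ^ 3 = 1 := by
    have h := wprod_eq_of_base ρ S1697.φ S1697.hsq Fi23a.D Fi23a.inv_ok hρ' _ (by decide) hbase
      ((S1697.zw ++ 7 :: (S1697.zw ++ [7])) ++ (S1697.zw ++ 7 :: (S1697.zw ++ [7])) ++
        (S1697.zw ++ 7 :: (S1697.zw ++ [7]))) [] (by decide) (by decide) (by decide +kernel)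
    have hA : wprod S1697.φ (S1697.zw ++ 7 :: (S1697.zw ++ [7])) =
        wprod S1697.φ S1697.zw * (S1697.φ 7 * wprod S1697.φ S1697.zw * (S1697.φ 7)⁻¹) := by
      rw [wprod_append, wprod_cons, wprod_append, wprod_cons, wprod_nil, mul_one,
        inv_eq_of_mul_eq_one_left (S1697.hsq 7), mul_assoc (S1697.φ 7)]
    rw [wprod_append, wprod_append, hA, wprod_nil] at h
    rw [pow_three']
    exact h
  have id2 : (S1697.z * (wprod S1697.φ [7, 6, 5, 4, 3, 8, 2, 3, 4, 5, 6, 7] * S1697.z *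
      (wprod S1697.φ [7, 6, 5, 4, 3, 8, 2, 3, 4, 5, 6, 7])⁻¹)) ^ 2 = 1 := by
    have h := wprod_eq_of_base ρ S1697.φ S1697.hsq Fi23a.D Fi23a.inv_ok hρ' _ (by decide) hbase
      ((S1697.zw ++ ([7, 6, 5, 4, 3, 8, 2, 3, 4, 5, 6, 7] ++
          (S1697.zw ++ [7, 6, 5, 4, 3, 2, 8, 3, 4, 5, 6, 7]))) ++
        (S1697.zw ++ ([7, 6, 5, 4, 3, 8, 2, 3, 4, 5, 6, 7] ++
          (S1697.zw ++ [7, 6, 5, 4, 3, 2, 8, 3, 4, 5, 6, 7]))))
      [] (by decide) (by decide) (by decide +kernel)
    have hinv : wprod S1697.φ [7, 6, 5, 4, 3, 2, 8, 3, 4, 5, 6, 7] =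
        (wprod S1697.φ [7, 6, 5, 4, 3, 8, 2, 3, 4, 5, 6, 7])⁻¹ :=
      wprod_reverse S1697.φ S1697.hsq [7, 6, 5, 4, 3, 8, 2, 3, 4, 5, 6, 7]
    have hA : wprod S1697.φ (S1697.zw ++ ([7, 6, 5, 4, 3, 8, 2, 3, 4, 5, 6, 7] ++
          (S1697.zw ++ [7, 6, 5, 4, 3, 2, 8, 3, 4, 5, 6, 7]))) =
        wprod S1697.φ S1697.zw * (wprod S1697.φ [7, 6, 5, 4, 3, 8, 2, 3, 4, 5, 6, 7] *
          wprod S1697.φ S1697.zw * (wprod S1697.φ [7, 6, 5, 4, 3, 8, 2, 3, 4, 5, 6, 7])⁻¹) := by
      rw [wprod_append, wprod_append, wprod_append, hinv,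
        mul_assoc (wprod S1697.φ [7, 6, 5, 4, 3, 8, 2, 3, 4, 5, 6, 7])]
    rw [wprod_append, hA, wprod_nil] at h
    rw [pow_two]
    exact h
  -- the products of two conjugates
  have key : ∀ g : Fi23, (S1697.z * (g * S1697.z * g⁻¹)) ^ 2 = 1 ∨
      (S1697.z * (g * S1697.z * g⁻¹)) ^ 3 = 1 := by
    intro g
    have hc := hlt g
    rcases Nat.lt_or_ge (ρ g 0) 1 with h0 | h1
    · left
      have hg : g ∈ HH := (hstab g).1 (by omega)
      have e : g * S1697.z * g⁻¹ = S1697.z := by rw [hcent g hg, mul_inv_cancel_right]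
      rw [e, hzz, one_pow]
    · rcases Nat.lt_or_ge (ρ g 0) 28161 with h2 | h2
      · right
        obtain ⟨a, ha, hac⟩ := htree (1, 28160, [7]) (by decide) (ρ g 0) h1
          (by show ρ g 0 < 1 + 28160; omega)
        refine conj_invariance ρ HH S1697.z hstab hcent g (S1697.φ 7) a ha ?_ 3 id1
        rw [ρ.map_mul, Equiv.Perm.mul_apply, s7]
        exact hac
      · left
        obtain ⟨a, ha, hac⟩ := htree (28161, 3510, [7, 6, 5, 4, 3, 2, 8, 3, 4, 5, 6, 7])
          (by decide) (ρ g 0) h2 (by show ρ g 0 < 28161 + 3510; omega)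
        refine conj_invariance ρ HH S1697.z hstab hcent g
          (wprod S1697.φ [7, 6, 5, 4, 3, 8, 2, 3, 4, 5, 6, 7]) a ha ?_ 2 id2
        rw [ρ.map_mul, Equiv.Perm.mul_apply, hg2]
        exact hac
  exact ⟨cG, hidx, hz1, hzz, hC, key⟩

/-- The Fischer group of order 4089470473293004800 exists as a 3-transposition group: a simple group of that order generated by a conjugacy class of 31671 3-transpositions, the centraliser of each being a non-split double cover of a simple group of order 64561751654400. -/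
theorem result : ∃ (G : Type) (_ : Group G) (_ : Finite G), Cfsg.IsFi23 G ∧ ∃ D : Set G, Cfsg.IsThreeTranspositionClass D ∧ Nat.card D = 31671 ∧ ∀ d ∈ D, ∃ (K : Type) (_ : Group K), Cfsg.IsFi22 K ∧ Cfsg.IsNonsplitDoubleCover (Subgroup.centralizer ({d} : Set G)) K := by
  obtain ⟨cG, hidx, hz1, hzz, hC, key⟩ := facts
  have hfin : Finite Fi23 := Nat.finite_of_card_ne_zero (by rw [cG]; norm_num)
  have hcent : ∀ h ∈ HH, h * S1697.z = S1697.z * h := by
    intro h hh
    rw [← hC] at hh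
    exact (Subgroup.mem_centralizer_iff.1 hh S1697.z (Set.mem_singleton _)).symm
  have hD : ∀ d ∈ conjugatesOf S1697.z, ∃ x : Fi23, x * S1697.z * x⁻¹ = d :=
    fun d hd => isConj_iff.1 hd
  refine ⟨Fi23, inferInstance, hfin, S1697.result, conjugatesOf S1697.z,
    ⟨⟨?_, ?_⟩, ⟨S1697.z, mem_conjugatesOf_self, rfl⟩, ?_⟩, ?_, ?_⟩
  · -- involutions
    intro d hd
    obtain ⟨x, rfl⟩ := hD d hd
    refine orderOf_eq_prime ?_ ?_
    · rw [pow_two]
      exact S1688.conj_sq x S1697.z hzz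
    · intro h
      apply hz1
      have e : S1697.z = x⁻¹ * (x * S1697.z * x⁻¹) * x := by group
      rw [e, h]
      group
  · -- 3-transpositions
    intro d hd e he
    obtain ⟨x, rfl⟩ := hD d hd
    obtain ⟨y, rfl⟩ := hD e he
    have e1 : x * S1697.z * x⁻¹ * (y * S1697.z * y⁻¹) =
        x * (S1697.z * ((x⁻¹ * y) * S1697.z * (x⁻¹ * y)⁻¹)) * x⁻¹ := by group
    rw [e1, conj_pow, conj_pow]
    rcases key (x⁻¹ * y) with h | h
    · left
      rw [h, mul_one, mul_inv_cancel]
    · right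
      rw [h, mul_one, mul_inv_cancel]
  · -- generation
    have h1 : Subgroup.normalClosure ({S1697.z} : Set Fi23) = ⊤ := by
      rw [eq_top_iff, ← S1697.normalClosure_z]
      apply Subgroup.normalClosure_le_normal
      intro x hx
      exact (Subgroup.zpowers_le.2
        (Subgroup.subset_normalClosure (Set.mem_singleton S1697.z))) hx
    have h2 : Group.conjugatesOfSet ({S1697.z} : Set Fi23) = conjugatesOf S1697.z := by
      ext b
      rw [Group.mem_conjugatesOfSet_iff]
      constructor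
      · rintro ⟨a, ha, hab⟩
        rw [Set.mem_singleton_iff] at ha
        rw [ha] at hab
        exact hab
      · intro h
        exact ⟨S1697.z, Set.mem_singleton _, h⟩
    rw [← h2]
    exact h1
  · -- the size of the class
    have hb : Nat.card (Fi23 ⧸ HH) = Nat.card (conjugatesOf S1697.z) := by
      refine Nat.card_eq_of_bijective
        (fun q => Quotient.liftOn' q
          (fun g => (⟨g * S1697.z * g⁻¹, isConj_iff.2 ⟨g, rfl⟩⟩ : conjugatesOf S1697.z))
          (by
            intro x y hxy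
            rw [QuotientGroup.leftRel_apply] at hxy
            apply Subtype.ext
            show x * S1697.z * x⁻¹ = y * S1697.z * y⁻¹
            have h := hcent _ hxy
            calc x * S1697.z * x⁻¹ = x * (S1697.z * (x⁻¹ * y)) * y⁻¹ := by group
              _ = x * ((x⁻¹ * y) * S1697.z) * y⁻¹ := by rw [h]
              _ = y * S1697.z * y⁻¹ := by group)) ⟨?_, ?_⟩
      · intro q₁ q₂
        refine Quotient.inductionOn₂' q₁ q₂ (fun x y h => ?_)
        have h' : x * S1697.z * x⁻¹ = y * S1697.z * y⁻¹ := congrArg Subtype.val h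
        apply Quotient.sound'
        rw [QuotientGroup.leftRel_apply, ← hC, Subgroup.mem_centralizer_iff]
        intro w hw
        rw [Set.mem_singleton_iff] at hw
        rw [hw]
        calc S1697.z * (x⁻¹ * y) = x⁻¹ * (x * S1697.z * x⁻¹) * y := by group
          _ = x⁻¹ * (y * S1697.z * y⁻¹) * y := by rw [h']
          _ = x⁻¹ * y * S1697.z := by group
      · rintro ⟨d, hd⟩
        obtain ⟨x, rfl⟩ := hD d hd
        exact ⟨Quotient.mk'' x, rfl⟩
    rw [← hb]
    exact hidx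
  · -- the centralisers
    intro d hd
    obtain ⟨x, rfl⟩ := hD d hd
    obtain ⟨e⟩ := centralizer_conj_equiv S1697.z x
    obtain ⟨h1, h2⟩ := main' (Subgroup.centralizer {S1697.z}) hC
    exact ⟨Fi22, inferInstance, S1696.result, cover_of_equiv e h1 h2⟩

end Cfsg.Agent.S0472
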