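import Cfsg.Statements.S0478
import Cfsg.Agent.Lib.helper10.U9Cert

set_option autoImplicit false
open Cfsg

namespace Cfsg.Agent.S0478

open scoped Matrix
open Cfsg.Agent.Lib.helper10

/-- The special linear group. -/
abbrev G0 : Type := Matrix.SpecialLinearGroup (Fin 9) F4

/-- The special unitary group. -/
abbrev GU : Type := ↥(Cfsg.SU 9 F4 2)

/-- The permutations of the points. -/
abbrev PP : Type := Equiv.Perm (Fin 6156)

/-- The matrix of an element of the special unitary group. -/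
def mat : GU →* Matrix (Fin 9) (Fin 9) F4 :=
  (Cfsg.slToMat 9 F4).comp (Subgroup.subtype (Cfsg.SU 9 F4 2))

theorem mat_inj : Function.Injective mat := by
  intro g h e
  have e' : ((g : G0) : Matrix (Fin 9) (Fin 9) F4) = ((h : G0) : Matrix (Fin 9) (Fin 9) F4) := e
  exact Subtype.ext (Subtype.ext e')

theorem mem_SU (M : Matrix (Fin 9) (Fin 9) F4) (hdet : M.det = 1)
    (h : Mᵀ * M.map (fun x => x ^ 2) = 1) : (⟨M, hdet⟩ : G0) ∈ Cfsg.SU 9 F4 2 := by
  show ∀ u v, Cfsg.hermForm 9 F4 2 (M *ᵥ u) (M *ᵥ v) = Cfsg.hermForm 9 F4 2 u v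
  intro u v
  exact herm_of M h u v

theorem detO : (Mc u9Oc).det = 1 := by
  rw [u9_O, Matrix.det_smul, Matrix.det_one, Fintype.card_fin, mul_one]
  rfl

theorem unitO : (Mc u9Oc)ᵀ * (Mc u9Oc).map (fun x => x ^ 2) = 1 := by
  rw [u9_O, Matrix.smul_one_eq_diagonal, Matrix.diagonal_transpose,
    Matrix.diagonal_map (by rfl), Matrix.diagonal_mul_diagonal, ← Matrix.diagonal_one]
  congr 1

/-- The generators. -/
def gA : GU := ⟨⟨Mc u9Ac, u9_detA⟩, mem_SU _ u9_detA u9_unitA⟩

def gB : GU := ⟨⟨Mc u9Bc, u9_detB⟩, mem_SU _ u9_detB u9_unitB⟩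

def gO : GU := ⟨⟨Mc u9Oc, detO⟩, mem_SU _ detO unitO⟩

theorem mat_gA : mat gA = Mc u9Ac := rfl

theorem mat_gB : mat gB = Mc u9Bc := rfl

theorem mat_gO : mat gO = Mc u9Oc := rfl

def gx : GU × PP := (gA, j3L0.S.L 0)

def gy : GU × PP := (gB, j3L0.S.L 2)

def gz : GU × PP := (gO, 1)

/-- The group generated by the pairs of a matrix and its permutation. -/
def D : Subgroup (GU × PP) := Subgroup.closure {gx, gy, gz}

/-- The pairs of a matrix and a permutation compatible on the subgroups of the certificate. -/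
def T : Submonoid (GU × PP) where
  carrier := {d | ∀ i : Fin 6156, ∀ v ∈ u9W i, mat d.1 *ᵥ v ∈ u9W (d.2 i)}
  mul_mem' := by
    intro d1 d2 h1 h2 i v hv
    have h3 := h1 (d2.2 i) _ (h2 i v hv)
    rw [Matrix.mulVec_mulVec, ← map_mul] at h3
    exact h3
  one_mem' := by
    intro i v hv
    show mat 1 *ᵥ v ∈ u9W i
    rw [map_one, Matrix.one_mulVec]
    exact hv

theorem gx_mem : gx ∈ T := fun i v hv => u9_mapA i v hv

theorem gy_mem : gy ∈ T := fun i v hv => u9_mapB i v hv

theorem gz_mem : gz ∈ T := fun i v hv => u9_mapO i v hv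

theorem gA_pow : gA ^ 17 = 1 := by
  apply mat_inj
  rw [map_pow, map_one]
  exact u9_powA

theorem gB_pow : gB ^ 19 = 1 := by
  apply mat_inj
  rw [map_pow, map_one]
  exact u9_powB

theorem gx_pow : gx ^ 17 = 1 := Prod.ext gA_pow u9_permA

theorem gy_pow : gy ^ 19 = 1 := Prod.ext gB_pow u9_permB

theorem gO_pow : gO ^ 3 = 1 := by
  apply mat_inj
  rw [map_pow, map_one, mat_gO, u9_O, smul_pow, one_pow]
  exact one_smul _ _

theorem gz_pow : gz ^ 3 = 1 := Prod.ext gO_pow (one_pow 3)

theorem gx_in : gx ∈ D := Subgroup.subset_closure (by simp)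

theorem gy_in : gy ∈ D := Subgroup.subset_closure (by simp)

theorem gz_in : gz ∈ D := Subgroup.subset_closure (by simp)

theorem inv_mem_T (s : GU × PP) (n : ℕ) (hs : s ∈ T) (hp : s ^ (n + 1) = 1) : s⁻¹ ∈ T := by
  have h : s⁻¹ = s ^ n := inv_eq_of_mul_eq_one_left (by rw [← pow_succ]; exact hp)
  rw [h]
  exact T.pow_mem hs n

theorem D_le_T : ∀ d ∈ D, d ∈ T := by
  intro d hd
  have h1 : d ∈ (Subgroup.closure ({gx, gy, gz} : Set (GU × PP))).toSubmonoid := hd
  rw [Subgroup.closure_toSubmonoid] at h1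
  refine (Submonoid.closure_le.mpr ?_) h1
  rintro s (hs | hs)
  · rcases hs with rfl | rfl | rfl
    · exact gx_mem
    · exact gy_mem
    · exact gz_mem
  · have hs' : s⁻¹ ∈ ({gx, gy, gz} : Set (GU × PP)) := hs
    rw [← inv_inv s]
    rcases hs' with h | h | h
    · rw [h]
      exact inv_mem_T gx 16 gx_mem gx_pow
    · rw [h]
      exact inv_mem_T gy 18 gy_mem gy_pow
    · rw [h]
      exact inv_mem_T gz 2 gz_mem gz_pow

theorem map_snd_D : D.map (MonoidHom.snd GU PP) = j3L0.S.H := by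
  apply le_antisymm
  · rw [Subgroup.map_le_iff_le_comap, D, Subgroup.closure_le]
    rintro s (rfl | rfl | rfl)
    · exact j3L0.S.L_mem 0
    · exact j3L0.S.L_mem 2
    · exact j3L0.S.H.one_mem
  · rw [j3L0.S.H_eq_closure_pair rfl, Subgroup.closure_le]
    rintro s (rfl | rfl)
    · exact Subgroup.mem_map.mpr ⟨gx, gx_in, rfl⟩
    · exact Subgroup.mem_map.mpr ⟨gy, gy_in, rfl⟩

theorem simple_snd : IsSimpleGroup (D.map (MonoidHom.snd GU PP)) := by
  rw [map_snd_D]
  exact j3_cert.1

theorem fst_one : ∀ σ : PP, ((1 : GU), σ) ∈ D → σ = 1 := by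
  have := simple_snd
  apply fst_one_trivial D (j3L0.S.L 0)
  · rw [map_snd_D]
    exact j3L0.S.L_mem 0
  · intro h
    have h2 := D_le_T _ h
    apply u9_sep
    intro v hv
    have h3 : mat 1 *ᵥ v ∈ u9W (j3L0.S.L 0 ⟨1, by norm_num⟩) := h2 ⟨1, by norm_num⟩ v hv
    rw [map_one, Matrix.one_mulVec] at h3
    exact h3

theorem scalar_of_mem (g : GU) (h : (g, (1 : PP)) ∈ D) : ∃ c : F4, mat g = c • 1 :=
  u9_scalar (mat g) (fun i v hv => D_le_T _ h i v hv)

theorem central_of_mem (g : GU) (h : (g, (1 : PP)) ∈ D) (g' : GU) : g' * g = g * g' := by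
  obtain ⟨c, hc⟩ := scalar_of_mem g h
  apply mat_inj
  rw [map_mul, map_mul, hc, Matrix.mul_smul, Matrix.smul_mul, mul_one, one_mul]

theorem center_snd (σ : PP) (hσ : σ ∈ D.map (MonoidHom.snd GU PP))
    (hcomm : ∀ τ ∈ D.map (MonoidHom.snd GU PP), τ * σ = σ * τ) : σ = 1 := by
  rw [map_snd_D] at hσ hcomm
  have := j3_cert.1
  exact center_trivial_of_simple j3L0.S.H (by rw [j3_cert.2.1]; norm_num) σ hσ hcomm

theorem mem_iff_zpowers (g : GU) : (g, (1 : PP)) ∈ D ↔ g ∈ Subgroup.zpowers gO := by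
  constructor
  · intro h
    obtain ⟨c, hc⟩ := scalar_of_mem g h
    have hdet : (mat g).det = 1 := (g : G0).2
    cases c
    · exfalso
      rw [hc, Matrix.det_smul, Matrix.det_one, Fintype.card_fin] at hdet
      exact absurd hdet (by decide)
    · have h2 : g = 1 := mat_inj (by rw [hc, map_one]; exact one_smul _ _)
      rw [h2]
      exact Subgroup.one_mem _
    · have h2 : g = gO := mat_inj (by rw [hc, mat_gO]; exact u9_O.symm)
      rw [h2]
      exact Subgroup.mem_zpowers _
    · have h2 : g = gO ^ 2 := mat_inj (by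
        rw [hc, map_pow, mat_gO, u9_O, smul_pow, one_pow]
        rfl)
      rw [h2]
      exact Subgroup.pow_mem _ (Subgroup.mem_zpowers _) 2
  · intro h
    have hle : Subgroup.zpowers gO ≤ D.comap (MonoidHom.inl GU PP) := by
      rw [Subgroup.zpowers_le]
      exact gz_in
    exact hle h

theorem gO_ne : gO ≠ 1 := by
  intro h
  have h2 := congrArg mat h
  rw [map_one, mat_gO, u9_O] at h2
  have h3 := congrFun (congrFun h2 0) 0
  revert h3
  simp

theorem order_gO : orderOf gO = 3 := by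
  have : Fact (Nat.Prime 3) := ⟨by norm_num⟩
  exact orderOf_eq_prime gO_pow gO_ne

/-- A triple cover of Janko's third group inside a unitary group: for a field F with four elements, the special unitary group of dimension 9 (with respect to the form with q = 2) has a subgroup whose centre has order 3 and whose quotient by its centre is simple of order 50232960. -/
theorem result : ∃ (F : Type) (_ : Field F) (_ : Fintype F), Fintype.card F = 4 ∧ ∃ H : Subgroup (Cfsg.SU 9 F 2), Nat.card (Subgroup.center H) = 3 ∧ Cfsg.IsJ3 (H ⧸ Subgroup.center H) := by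
  obtain ⟨⟨iso⟩, hcen⟩ := center_quot_of_graph D fst_one central_of_mem center_snd
  have := simple_snd
  refine ⟨F4, F4.instFieldF4, F4.instFintypeF4, F4.card_eq, D.map (MonoidHom.fst GU PP), ?_, ?_, ?_⟩
  · rw [card_center_of_graph D (Subgroup.zpowers gO) mem_iff_zpowers hcen, Nat.card_zpowers]
    exact order_gO
  · exact iso.isSimpleGroup
  · rw [Nat.card_congr iso.toEquiv, map_snd_D, j3_cert.2.1]

end Cfsg.Agent.S0478
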