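import Cfsg.Statements.S0481
import Mathlib

set_option autoImplicit false
open Cfsg

namespace Cfsg.Agent.S0481

/-- Large extraspecial subgroups: let z be an involution of a finite group G whose centraliser C contains a normal 2-subgroup Q with centre of order 2 and all squares central, such that every element of G centralising Q lies in Q. Then C contains a Sylow 2-subgroup of G, and any involution of G whose centraliser contains a Sylow 2-subgroup of G is conjugate to z. -/
theorem result {G : Type*} [Group G] [Finite G] (z : G) (hz : orderOf z = 2) (Q : Subgroup G) (hQC : Q ≤ Subgroup.centralizer ({z} : Set G)) (hQn : ∀ g ∈ Subgroup.centralizer ({z} : Set G), ∀ q ∈ Q, g * q * g⁻¹ ∈ Q) (hQ2 : IsPGroup 2 Q) (hZ : Nat.card (Subgroup.center Q) = 2) (hsq : ∀ x : Q, x ^ 2 ∈ Subgroup.center Q) (hlarge : Subgroup.centralizer (Q : Set G) ≤ Q) : (∃ P : Sylow 2 G, (P : Subgroup G) ≤ Subgroup.centralizer ({z} : Set G)) ∧ ∀ u : G, orderOf u = 2 → (∃ P : Sylow 2 G, (P : Subgroup G) ≤ Subgroup.centralizer ({u} : Set G)) → IsConj z u := by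
  haveI : Fact (Nat.Prime 2) := ⟨Nat.prime_two⟩
  have hz1 : z ≠ 1 := by
    intro h
    rw [h, orderOf_one] at hz
    omega
  have hzcent : z ∈ Subgroup.centralizer (Q : Set G) := by
    rw [Subgroup.mem_centralizer_iff]
    intro q hq
    have := hQC hq
    rw [Subgroup.mem_centralizer_iff] at this
    exact (this z (Set.mem_singleton z)).symm
  have hzQ : z ∈ Q := hlarge hzcent
  have hzc : (⟨z, hzQ⟩ : Q) ∈ Subgroup.center Q := by
    rw [Subgroup.mem_center_iff]
    intro q
    apply Subtype.ext
    have := hQC q.2
    rw [Subgroup.mem_centralizer_iff] at this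
    exact (this z (Set.mem_singleton z)).symm
  have hcen : ∀ w : Q, w ∈ Subgroup.center Q → w = 1 ∨ (w : G) = z := by
    intro w hw
    by_contra hcon
    push_neg at hcon
    obtain ⟨y, -, hy⟩ := (Nat.card_eq_two_iff' (1 : Subgroup.center Q)).mp hZ
    have h1 : (⟨⟨z, hzQ⟩, hzc⟩ : Subgroup.center Q) = y := by
      apply hy
      intro h
      apply hz1
      have := congrArg (fun t : Subgroup.center Q => ((t : Q) : G)) h
      simpa using this
    have h2 : (⟨w, hw⟩ : Subgroup.center Q) = y := by
      apply hy
      intro h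
      apply hcon.1
      have := congrArg (fun t : Subgroup.center Q => (t : Q)) h
      simpa using this
    apply hcon.2
    have := congrArg (fun t : Subgroup.center Q => ((t : Q) : G)) (h2.trans h1.symm)
    simpa using this
  -- central elements of a Sylow 2-subgroup containing Q
  have key : ∀ S : Sylow 2 G, Q ≤ (S : Subgroup G) → ∀ w ∈ (S : Subgroup G),
      (∀ s ∈ (S : Subgroup G), s * w = w * s) → w = 1 ∨ w = z := by
    intro S hQS w hwS hw
    have hwc : w ∈ Subgroup.centralizer (Q : Set G) := by
      rw [Subgroup.mem_centralizer_iff]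
      intro q hq
      exact hw q (hQS hq)
    have hwQ : w ∈ Q := hlarge hwc
    have hwcen : (⟨w, hwQ⟩ : Q) ∈ Subgroup.center Q := by
      rw [Subgroup.mem_center_iff]
      intro q
      apply Subtype.ext
      exact hw q (hQS q.2)
    rcases hcen ⟨w, hwQ⟩ hwcen with h | h
    · left
      have := congrArg (fun t : Q => (t : G)) h
      simpa using this
    · right
      exact h
  obtain ⟨S, hQS⟩ := hQ2.exists_le_sylow
  have hzS : z ∈ (S : Subgroup G) := hQS hzQ
  have hzcS : ∀ s ∈ (S : Subgroup G), s * z = z * s := by
    haveI : Nontrivial (S : Subgroup G) := ⟨⟨⟨z, hzS⟩, 1, fun h => hz1 (congrArg Subtype.val h)⟩⟩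
    haveI := S.isPGroup'.center_nontrivial
    obtain ⟨w, hw⟩ := exists_ne (1 : Subgroup.center (S : Subgroup G))
    have hw1 : ((w : (S : Subgroup G)) : G) ≠ 1 := by
      intro h
      apply hw
      apply Subtype.ext
      apply Subtype.ext
      exact h
    have hwc : ∀ s ∈ (S : Subgroup G), s * ((w : (S : Subgroup G)) : G) = ((w : (S : Subgroup G)) : G) * s := by
      intro s hs
      have := Subgroup.mem_center_iff.mp w.2 ⟨s, hs⟩
      exact congrArg Subtype.val this
    rcases key S hQS _ (w : (S : Subgroup G)).2 hwc with h | h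
    · exact absurd h hw1
    · rw [← h]; exact hwc
  refine ⟨⟨S, ?_⟩, ?_⟩
  · intro s hs
    rw [Subgroup.mem_centralizer_iff]
    intro y hy
    rw [Set.mem_singleton_iff] at hy
    rw [hy]
    exact (hzcS s hs).symm
  · intro u hu ⟨P, hP⟩
    have hu1 : u ≠ 1 := by
      intro h
      rw [h, orderOf_one] at hu
      omega
    have hPu : ∀ x ∈ (P : Subgroup G), x * u = u * x := by
      intro x hx
      have := hP hx
      rw [Subgroup.mem_centralizer_iff] at this
      exact (this u (Set.mem_singleton u)).symm
    -- u lies in P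
    have huP : u ∈ (P : Subgroup G) := by
      have h2 : IsPGroup 2 (Subgroup.zpowers u) := by
        apply IsPGroup.of_card (n := 1)
        rw [Nat.card_zpowers, hu, pow_one]
      have hnorm : Subgroup.zpowers u ≤ Subgroup.normalizer ((P : Subgroup G) : Set G) := by
        rw [Subgroup.zpowers_le, Subgroup.mem_normalizer_iff]
        intro h
        constructor
        · intro hh
          have : u * h * u⁻¹ = h := by
            rw [← hPu h hh]; group
          rw [this]; exact hh
        · intro hh
          have h3 := hPu _ hh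
          have : h = u * h * u⁻¹ := by
            calc h = u⁻¹ * ((u * h * u⁻¹) * u) := by group
              _ = u⁻¹ * (u * (u * h * u⁻¹)) := by rw [h3]
              _ = u * h * u⁻¹ := by group
          rw [this]; exact hh
      have h3 : IsPGroup 2 ((Subgroup.zpowers u ⊔ (P : Subgroup G) : Subgroup G)) :=
        h2.to_sup_of_normal_right' P.isPGroup' hnorm
      have h4 := P.is_maximal' h3 le_sup_right
      rw [← h4]
      exact Subgroup.mem_sup_left (Subgroup.mem_zpowers u)
    obtain ⟨g, hg⟩ := MulAction.exists_smul_eq G S P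
    have hmem : ∀ x, x ∈ (P : Subgroup G) ↔ g⁻¹ * x * g ∈ (S : Subgroup G) := by
      intro x
      rw [← hg, Sylow.coe_subgroup_smul, Subgroup.mem_pointwise_smul_iff_inv_smul_mem]
      simp [MulAut.smul_def]
    have hw : g⁻¹ * u * g = 1 ∨ g⁻¹ * u * g = z := by
      apply key S hQS _ ((hmem u).mp huP)
      intro s hs
      have hs' : g * s * g⁻¹ ∈ (P : Subgroup G) := by
        rw [hmem]
        have : g⁻¹ * (g * s * g⁻¹) * g = s := by group
        rw [this]; exact hs
      have h3 := hPu _ hs'
      calc s * (g⁻¹ * u * g) = g⁻¹ * ((g * s * g⁻¹) * u) * g := by group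
        _ = g⁻¹ * (u * (g * s * g⁻¹)) * g := by rw [h3]
        _ = g⁻¹ * u * g * s := by group
    rcases hw with h | h
    · exfalso
      apply hu1
      calc u = g * (g⁻¹ * u * g) * g⁻¹ := by group
        _ = 1 := by rw [h]; group
    · rw [isConj_iff]
      refine ⟨g, ?_⟩
      rw [← h]; group

end Cfsg.Agent.S0481
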