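import Cfsg.Statements.S0498
import Cfsg.Agent.Lib.helper18.L2pAct
import Cfsg.Agent.Lib.helper6.SLCard

set_option autoImplicit false
open Cfsg

namespace Cfsg.Agent.S0498

/-- A simple group of order 660, respectively 1092, is isomorphic to the projective special linear group of dimension 2
over the field with 11, respectively 13, elements. -/
theorem result {G : Type*} [Group G] [Finite G] [IsSimpleGroup G] (p : ℕ)
    (hp : p = 11 ∨ p = 13) (h : 2 * Nat.card G = p * (p ^ 2 - 1)) {F : Type*} [Field F] [Fintype F]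
    (hF : Fintype.card F = p) : Nonempty (G ≃* Matrix.ProjectiveSpecialLinearGroup (Fin 2) F) := by
  have h4 : 4 ≤ Nat.card F := by
    rw [Nat.card_eq_fintype_card, hF]; rcases hp with rfl | rfl <;> norm_num
  have : IsSimpleGroup (Matrix.ProjectiveSpecialLinearGroup (Fin 2) F) :=
    Matrix.ProjectiveSpecialLinearGroup.rank_two_simple h4
  have h1 := Cfsg.Agent.Lib.helper6.card_PSL (F := F) 2 (by norm_num)
  rw [hF, Fin.prod_univ_two] at h1
  rcases hp with rfl | rfl
  · have hc : 2 * Nat.card (Matrix.ProjectiveSpecialLinearGroup (Fin 2) F) = 11 * (11 ^ 2 - 1) := by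
      norm_num at h1
      omega
    exact Cfsg.Agent.Lib.helper18.nonempty_equiv_of_facts Cfsg.Agent.Lib.helper18.facts_11 h hc
  · have hc : 2 * Nat.card (Matrix.ProjectiveSpecialLinearGroup (Fin 2) F) = 13 * (13 ^ 2 - 1) := by
      norm_num at h1
      omega
    exact Cfsg.Agent.Lib.helper18.nonempty_equiv_of_facts Cfsg.Agent.Lib.helper18.facts_13 h hc

end Cfsg.Agent.S0498
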