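import Cfsg.Statements.S0502
import Cfsg.Agent.Lib.helper11.FourGroup

set_option autoImplicit false
open Cfsg

namespace Cfsg.Agent.S0502

/-- If a finite 2-group has a normal elementary abelian subgroup of order at least 8, then any two of its Klein
four-subgroups are joined by a chain of Klein four-subgroups with consecutive members commuting elementwise. -/
theorem result {P : Type*} [Group P] [Finite P] (hP : IsPGroup 2 P)
    (E : Subgroup P) [E.Normal] (hE : IsMulCommutative E) (hE2 : ∀ e ∈ E, e ^ 2 = 1) (hE8 : 8 ≤ Nat.card E) :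
    Cfsg.IsFourConnected P := by
  classical
  have hp2 : Fact (Nat.Prime 2) := ⟨Nat.prime_two⟩
  have hEcomm : ∀ x ∈ E, ∀ y ∈ E, x * y = y * x := by
    intro x hx y hy
    have := hE.is_comm.comm (⟨x, hx⟩ : E) ⟨y, hy⟩
    exact congrArg Subtype.val this
  have hEsq : ∀ x ∈ E, x * x = 1 := fun x hx => by
    rw [← pow_two]; exact hE2 x hx
  -- a nonidentity central element of `P` inside `E`
  obtain ⟨e, heE, hecen, he1⟩ : ∃ e ∈ E, (∀ g : P, g * e = e * g) ∧ e ≠ 1 := by
    letI : MulAction P E := MulAction.compHom E (MulAut.conjNormal (H := E))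
    have hsmul : ∀ (g : P) (x : E), ((g • x : E) : P) = g * (x : P) * g⁻¹ := fun g x => rfl
    have h2 : 2 ∣ Nat.card E := by
      obtain ⟨n, hn⟩ := IsPGroup.iff_card.mp (hP.to_subgroup E)
      rw [hn] at hE8 ⊢
      rcases n with _ | n
      · norm_num at hE8
      · exact dvd_pow_self 2 (Nat.succ_ne_zero n)
    have h1fix : (1 : E) ∈ MulAction.fixedPoints P E := by
      intro g
      apply Subtype.ext
      rw [hsmul]
      simp
    obtain ⟨b, hb, hb1⟩ := hP.exists_fixed_point_of_prime_dvd_card_of_fixed_point E h2 h1fix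
    refine ⟨b, b.2, ?_, ?_⟩
    · intro g
      have := congrArg Subtype.val (hb g)
      rw [hsmul] at this
      calc g * (b : P) = (g * (b : P) * g⁻¹) * g := by group
        _ = (b : P) * g := by rw [this]
    · intro h
      apply hb1
      apply Subtype.ext
      exact h.symm
  have hee : e * e = 1 := hEsq e heE
  -- every Klein four-subgroup is joined to one inside `E`
  have hkey : ∀ U : Subgroup P, IsKleinFour U → ∃ W : Subgroup P, IsKleinFour W ∧ W ≤ E ∧
      Relation.ReflTransGen
        (fun A B : Subgroup P => IsKleinFour A ∧ IsKleinFour B ∧ ∀ a ∈ A, ∀ b ∈ B, a * b = b * a) U W ∧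
      Relation.ReflTransGen
        (fun A B : Subgroup P => IsKleinFour A ∧ IsKleinFour B ∧ ∀ a ∈ A, ∀ b ∈ B, a * b = b * a) W U := by
    intro U hU
    obtain ⟨a, haU, ha1, hae⟩ := Cfsg.Agent.Lib.helper11.exists_mem_isKleinFour_ne hU e
    have haa : a * a = 1 := Cfsg.Agent.Lib.helper11.mul_self_of_mem_isKleinFour hU haU
    have hae' : a * e = e * a := hecen a
    have hA1 : IsKleinFour (Cfsg.Agent.Lib.helper11.fourSubgroup a e haa hee hae') :=
      Cfsg.Agent.Lib.helper11.isKleinFour_fourSubgroup a e haa hee hae' ha1 he1 hae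
    have hUA1 : ∀ u ∈ U, ∀ x ∈ Cfsg.Agent.Lib.helper11.fourSubgroup a e haa hee hae',
        u * x = x * u := by
      intro u hu x hx
      have hua : u * a = a * u := Cfsg.Agent.Lib.helper11.mul_comm_of_mem_isKleinFour hU hu haU
      rcases hx with rfl | rfl | rfl | rfl
      · simp
      · exact hua
      · exact hecen u
      · rw [← mul_assoc, hua, mul_assoc, hecen u, mul_assoc]
    have h3 := Cfsg.Agent.Lib.helper11.three_le_card_centralizer_of_involution E hEcomm hEsq hE8 a haa
    obtain ⟨c', hc', hc1', hce'⟩ :=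
      Cfsg.Agent.Lib.helper11.exists_mem_ne_of_three_le_card _ h3 (⟨e, heE⟩ : E)
    obtain ⟨c, hcE⟩ := c'
    have hca : a * c = c * a := by
      rw [Subgroup.mem_subgroupOf, Subgroup.mem_centralizer_iff] at hc'
      exact (hc' a (Set.mem_singleton a))
    have hc1 : c ≠ 1 := fun h => hc1' (Subtype.ext h)
    have hce : c ≠ e := fun h => hce' (Subtype.ext h)
    have hcc : c * c = 1 := hEsq c hcE
    have hec : e * c = c * e := (hecen c).symm
    have hW : IsKleinFour (Cfsg.Agent.Lib.helper11.fourSubgroup e c hee hcc hec) :=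
      Cfsg.Agent.Lib.helper11.isKleinFour_fourSubgroup e c hee hcc hec he1 hc1 (Ne.symm hce)
    have hWE : Cfsg.Agent.Lib.helper11.fourSubgroup e c hee hcc hec ≤ E := by
      rintro x (rfl | rfl | rfl | rfl)
      · exact E.one_mem
      · exact heE
      · exact hcE
      · exact E.mul_mem heE hcE
    have hA1W : ∀ x ∈ Cfsg.Agent.Lib.helper11.fourSubgroup a e haa hee hae',
        ∀ w ∈ Cfsg.Agent.Lib.helper11.fourSubgroup e c hee hcc hec, x * w = w * x := by
      have h_a : ∀ w ∈ Cfsg.Agent.Lib.helper11.fourSubgroup e c hee hcc hec, a * w = w * a := by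
        rintro w (rfl | rfl | rfl | rfl)
        · simp
        · exact hae'
        · exact hca
        · rw [← mul_assoc, hae', mul_assoc, hca, mul_assoc]
      have h_e : ∀ w : P, e * w = w * e := fun w => (hecen w).symm
      rintro x (rfl | rfl | rfl | rfl) w hw
      · simp
      · exact h_a w hw
      · exact h_e w
      · rw [mul_assoc, h_e w, ← mul_assoc, h_a w hw, mul_assoc]
    refine ⟨_, hW, hWE, ?_, ?_⟩
    · exact (Relation.ReflTransGen.single ⟨hU, hA1, hUA1⟩).tail ⟨hA1, hW, hA1W⟩
    · exact (Relation.ReflTransGen.single ⟨hW, hA1, fun w hw x hx => (hA1W x hx w hw).symm⟩).tail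
        ⟨hA1, hU, fun x hx u hu => (hUA1 u hu x hx).symm⟩
  intro U V hU hV
  obtain ⟨W1, hW1, hW1E, h1, -⟩ := hkey U hU
  obtain ⟨W2, hW2, hW2E, -, h2⟩ := hkey V hV
  exact (h1.tail ⟨hW1, hW2, fun a ha b hb => hEcomm a (hW1E ha) b (hW2E hb)⟩).trans h2

end Cfsg.Agent.S0502
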