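import Cfsg.Statements.S0505
import Cfsg.Agent.Lib.helper54.AxB
import Cfsg.Agent.Lib.helper28.PCores

set_option autoImplicit false
open Cfsg

namespace Cfsg.Agent.S0505

/-- A finite solvable group with trivial odd core has characteristic `2`. -/
theorem char_two_of_solvable {C : Type*} [Group C] [Finite C] [Group.IsSolvable C]
    (h : Cfsg.oddCore C = ⊥) :
    Subgroup.centralizer (Cfsg.pCore 2 C : Set C) ≤ Cfsg.pCore 2 C := by
  haveI : Fact (Nat.Prime 2) := ⟨Nat.prime_two⟩
  have hF := Cfsg.Agent.Lib.helper28.fittingSubgroup_eq_pCore_of_pPrimeCore_eq_bot (p := 2) h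
  rw [← hF, Cfsg.Agent.Lib.helper28.centralizer_fittingSubgroup_le_iff,
    Cfsg.Agent.Lib.helper28.layer_eq_bot_iff]
  rintro K ⟨-, hperf, hsimple⟩
  by_cases hK : Nontrivial K
  · have h1 := Group.IsSolvable.commutator_lt_top_of_nontrivial (G := K)
    rw [hperf.commutator_eq_top] at h1
    exact lt_irrefl _ h1
  · rw [not_nontrivial_iff_subsingleton] at hK
    haveI := hsimple.toNontrivial
    exact not_subsingleton (K ⧸ Subgroup.center K) inferInstance

/-- A nontrivial `2`-subgroup has a central involution. -/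
theorem exists_central_involution {G : Type*} [Group G] [Finite G] (T : Subgroup G)
    (hT : IsPGroup 2 T) (hne : T ≠ ⊥) :
    ∃ z ∈ T, orderOf z = 2 ∧ ∀ x ∈ T, x * z = z * x := by
  haveI : Fact (Nat.Prime 2) := ⟨Nat.prime_two⟩
  haveI : Nontrivial T := (Subgroup.nontrivial_iff_ne_bot T).mpr hne
  haveI : Nontrivial (Subgroup.center T) := hT.center_nontrivial
  have h2 : 2 ∣ Nat.card (Subgroup.center T) := by
    obtain ⟨k, hk⟩ := IsPGroup.iff_card.mp (hT.to_subgroup (Subgroup.center T))
    have hk0 : k ≠ 0 := by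
      intro h0
      rw [h0, pow_zero] at hk
      have := Finite.one_lt_card (α := Subgroup.center T)
      omega
    rw [hk]
    exact dvd_pow_self 2 hk0
  obtain ⟨c, hc⟩ := exists_prime_orderOf_dvd_card' 2 h2
  refine ⟨((c : T) : G), (c : T).2, ?_, ?_⟩
  · rw [Subgroup.orderOf_coe, Subgroup.orderOf_coe, hc]
  · intro x hx
    have := Subgroup.mem_center_iff.mp c.2 ⟨x, hx⟩
    exact congrArg Subtype.val this

/-- Let G be a finite group of even order in which the centralizer of every involution is solvable and has trivial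
core (no nontrivial normal subgroup of odd order). Then G is of characteristic 2 type. -/
theorem result {G : Type*} [Group G] [Finite G]
    (h2 : Even (Nat.card G))
    (hs : ∀ t : G, orderOf t = 2 → Group.IsSolvable (Subgroup.centralizer ({t} : Set G)))
    (hc : ∀ t : G, orderOf t = 2 → Cfsg.oddCore (Subgroup.centralizer ({t} : Set G)) = ⊥) :
    Cfsg.IsCharacteristicTwoType G := by
  haveI : Fact (Nat.Prime 2) := ⟨Nat.prime_two⟩
  refine ⟨h2, ?_⟩
  intro T hT hTne
  obtain ⟨z, hzT, hz2, hzc⟩ := exists_central_involution T hT hTne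
  haveI := hs z hz2
  have hY : Cfsg.Agent.Lib.helper54.CharPIn 2 (Subgroup.centralizer ({z} : Set G)) :=
    (Cfsg.Agent.Lib.helper54.charPIn_iff _).mpr (char_two_of_solvable (hc z hz2))
  have hTY : T ≤ Subgroup.centralizer ({z} : Set G) := by
    intro x hx
    rw [Subgroup.mem_centralizer_iff]
    intro y hy
    rw [Set.mem_singleton_iff] at hy
    subst hy
    exact (hzc x hx).symm
  have h1 := hY.inf_normalizer hTY hT
  rw [inf_comm] at h1
  have h3 : Cfsg.Agent.Lib.helper54.CharPIn 2 (Subgroup.normalizer (T : Set G)) :=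
    Cfsg.Agent.Lib.helper54.charPIn_of_centralizer (P := T) (z := z) Subgroup.le_normalizer
      le_rfl hT hzT h1
  exact (Cfsg.Agent.Lib.helper54.charPIn_iff _).mp h3

end Cfsg.Agent.S0505
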