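import Cfsg.Statements.S0519
import Cfsg.Agent.S0126
import Cfsg.Agent.Lib.helper59.NormalAbelianCyclic

set_option autoImplicit false
open Cfsg

namespace Cfsg.Agent.S0519

open Subgroup Cfsg.Agent.Lib.helper59

/-- Let P be a finite p-group in which every abelian normal subgroup is cyclic, but which has a non-cyclic abelian
subgroup. Then p = 2 and P is generalized quaternion, dihedral of order at least 16, or quasi-dihedral. -/
theorem result {P : Type*} [Group P] [Finite P] (p : ℕ) [Fact p.Prime]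
    (hP : IsPGroup p P) (hn : ∀ A : Subgroup P, A.Normal → IsMulCommutative A → IsCyclic A)
    (hm : ∃ B : Subgroup P, IsMulCommutative B ∧ ¬ IsCyclic B) :
    p = 2 ∧ ((∃ n : ℕ, Nonempty (P ≃* QuaternionGroup n)) ∨ (∃ n : ℕ, 8 ≤ n ∧ Nonempty (P ≃* DihedralGroup n)) ∨
      Cfsg.IsQuasiDihedral P) := by
  obtain ⟨B, -, hBnc⟩ := hm
  have hnc : ¬ IsCyclic P := fun h => hBnc (Subgroup.isCyclic B)
  have hp2 : p = 2 := by
    by_contra hp
    obtain ⟨A, hAn, ⟨hAc, hAe⟩, hAcard⟩ := Cfsg.Agent.S0126.result hp hP hnc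
    have hcyc := hn A hAn hAc
    obtain ⟨g, hg⟩ := (Subgroup.isCyclic_iff_exists_zpowers_eq_top A).mp hcyc
    have hgA : g ∈ A := hg ▸ mem_zpowers g
    have hpP : p.Prime := Fact.out
    have hle : Nat.card A ≤ p := by
      rw [← hg, Nat.card_zpowers]
      exact Nat.le_of_dvd hpP.pos (orderOf_dvd_of_pow_eq_one (hAe g hgA))
    rw [hAcard] at hle
    have := hpP.one_lt
    nlinarith
  subst hp2
  refine ⟨rfl, ?_⟩
  have hn' : ∀ A : Subgroup P, A.Normal → (∀ a ∈ A, ∀ b ∈ A, a * b = b * a) → IsCyclic ↥A := by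
    intro A hAn hAc
    exact hn A hAn ⟨⟨fun a b => Subtype.ext (hAc a.1 a.2 b.1 b.2)⟩⟩
  obtain ⟨n, a, b, ha, hcard, hb, h | ⟨hn1, hb2, hinv⟩ | ⟨hn1, hb2, hsd⟩⟩ :=
    rel_of_normal_abelian_cyclic hP hn' hnc
  · left
    exact ⟨2 ^ (n + 1), quaternion_equiv_of_rel (2 ^ (n + 1)) a b (by rw [ha]; ring)
      (by rw [hcard]; ring) hb h.1 h.2⟩
  · right; left
    refine ⟨2 ^ (n + 2), ?_, dihedral_equiv_of_rel (2 ^ (n + 2)) a b ha (by rw [hcard]; ring)
      hb hb2 hinv⟩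
    calc 8 = 2 ^ 3 := by norm_num
      _ ≤ 2 ^ (n + 2) := Nat.pow_le_pow_right (by norm_num) (by omega)
  · right; right
    refine ⟨n + 2, by omega, hcard, a, b, ha, ?_, hsd⟩
    exact orderOf_eq_prime hb2 (fun h => hb (h ▸ one_mem _))

end Cfsg.Agent.S0519
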