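import Cfsg.Statements.S0521
import Cfsg.Agent.Lib.helper62.CyclicDerived

set_option autoImplicit false
open Cfsg

namespace Cfsg.Agent.S0521

open Cfsg.Agent.Lib.helper62 in
open scoped commutatorElement in
/-- Let X be a finite solvable group of odd order, p a prime and S a Sylow p-subgroup of X whose commutator subgroup is
cyclic. Then the product of the largest normal subgroup of X of order prime to p with S is a normal subgroup of X. -/
theorem result {X : Type*} [Group X] [Finite X] [Group.IsSolvable X]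
    (hX : Odd (Nat.card X)) (p : ℕ) [Fact p.Prime] (S : Sylow p X) (hS : IsCyclic (commutator (S : Subgroup X))) :
    (Cfsg.pPrimeCore p X ⊔ (S : Subgroup X)).Normal := by
  by_cases hp2 : p = 2
  · subst hp2
    have h1 : (⊤ : Subgroup X) ≤ Cfsg.pPrimeCore 2 X := by
      apply Cfsg.Agent.Lib.helper40.le_pPrimeCore ⊤ inferInstance
      rw [Subgroup.card_top]
      exact (Nat.coprime_two_right).mpr hX
    have h2 : Cfsg.pPrimeCore 2 X ⊔ (S : Subgroup X) = ⊤ := top_le_iff.mp (h1.trans le_sup_left)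
    rw [h2]; infer_instance
  · have hKn : (Cfsg.pPrimeCore p X).Normal := Cfsg.Agent.Lib.helper40.pPrimeCore_normal' p X
    have hO := Cfsg.Agent.Lib.helper60.pPrimeCore_quotient_eq_bot p X
    have hoddY : Odd (Nat.card (X ⧸ Cfsg.pPrimeCore p X)) :=
      hX.of_dvd_nat (Subgroup.card_quotient_dvd_card _)
    obtain ⟨T, hT⟩ : ∃ T : Sylow p (X ⧸ Cfsg.pPrimeCore p X), (T : Subgroup (X ⧸ Cfsg.pPrimeCore p X)) =
        (S : Subgroup X).map (QuotientGroup.mk' (Cfsg.pPrimeCore p X)) :=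
      ⟨S.mapSurjective (QuotientGroup.mk'_surjective _), Sylow.coe_mapSurjective _ _⟩
    obtain ⟨g, hg⟩ := IsCyclic.exists_generator (α := ↥(commutator ↥(S : Subgroup X)))
    obtain ⟨c, hc⟩ : ∃ c : X, c = ((g : ↥(S : Subgroup X)) : X) := ⟨_, rfl⟩
    have hcS : c ∈ S := by rw [hc]; exact (g : ↥(S : Subgroup X)).2
    have hmem : ∀ z : ↥(S : Subgroup X), z ∈ commutator ↥(S : Subgroup X) →
        (z : X) ∈ Subgroup.zpowers c := by
      intro z hz
      obtain ⟨k, hk⟩ := Subgroup.mem_zpowers_iff.mp (hg ⟨z, hz⟩)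
      refine Subgroup.mem_zpowers_iff.mpr ⟨k, ?_⟩
      have h3 := congrArg (fun w : ↥(commutator ↥(S : Subgroup X)) => ((w : ↥(S : Subgroup X)) : X)) hk
      simp only [Subgroup.coe_zpow] at h3
      rw [hc]; exact h3
    have h1 : ∀ x ∈ S, ∀ y ∈ S, x * y * x⁻¹ * y⁻¹ ∈ Subgroup.zpowers c := by
      intro x hx y hy
      have h2 : ⁅(⟨x, hx⟩ : ↥(S : Subgroup X)), ⟨y, hy⟩⁆ ∈ commutator ↥(S : Subgroup X) := by
        rw [commutator_def]
        exact Subgroup.commutator_mem_commutator (Subgroup.mem_top _) (Subgroup.mem_top _)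
      exact hmem _ h2
    have h2 : ∀ a ∈ S, a * c * a⁻¹ ∈ Subgroup.zpowers c := by
      intro a ha
      have hn : (commutator ↥(S : Subgroup X)).Normal := inferInstance
      have h3 := hn.conj_mem (g : ↥(S : Subgroup X)) g.2 ⟨a, ha⟩
      have h4 := hmem _ h3
      have e : a * c * a⁻¹ =
          (((⟨a, ha⟩ : ↥(S : Subgroup X)) * (g : ↥(S : Subgroup X)) * (⟨a, ha⟩ : ↥(S : Subgroup X))⁻¹ :
            ↥(S : Subgroup X)) : X) := by
        rw [hc]; rfl
      rw [e]; exact h4
    have key := sylow_le_pCore_of_cyclic_commutator hoddY p hp2 hO T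
      (QuotientGroup.mk' (Cfsg.pPrimeCore p X) c)
      (by
        show _ ∈ (T : Subgroup (X ⧸ Cfsg.pPrimeCore p X))
        rw [hT]; exact Subgroup.mem_map_of_mem _ hcS)
      (by
        intro x' hx' y' hy'
        have hx'' : x' ∈ (T : Subgroup (X ⧸ Cfsg.pPrimeCore p X)) := hx'
        have hy'' : y' ∈ (T : Subgroup (X ⧸ Cfsg.pPrimeCore p X)) := hy'
        rw [hT] at hx'' hy''
        obtain ⟨x, hx, rfl⟩ := hx''
        obtain ⟨y, hy, rfl⟩ := hy''
        have h3 := Subgroup.mem_map_of_mem (QuotientGroup.mk' (Cfsg.pPrimeCore p X)) (h1 x hx y hy)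
        rw [MonoidHom.map_zpowers] at h3
        simpa using h3)
      (by
        intro a' ha'
        have ha'' : a' ∈ (T : Subgroup (X ⧸ Cfsg.pPrimeCore p X)) := ha'
        rw [hT] at ha''
        obtain ⟨a, ha, rfl⟩ := ha''
        have h3 := Subgroup.mem_map_of_mem (QuotientGroup.mk' (Cfsg.pPrimeCore p X)) (h2 a ha)
        rw [MonoidHom.map_zpowers] at h3
        simpa using h3)
    have hTeq : Cfsg.pCore p (X ⧸ Cfsg.pPrimeCore p X) = (T : Subgroup (X ⧸ Cfsg.pPrimeCore p X)) :=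
      T.is_maximal' (Cfsg.Agent.Lib.helper40.pCore_isPGroup p _) key
    have hTn : (T : Subgroup (X ⧸ Cfsg.pPrimeCore p X)).Normal := by
      rw [← hTeq]; exact Cfsg.Agent.Lib.helper40.pCore_normal' p _
    have e : Cfsg.pPrimeCore p X ⊔ (S : Subgroup X) =
        (T : Subgroup (X ⧸ Cfsg.pPrimeCore p X)).comap (QuotientGroup.mk' (Cfsg.pPrimeCore p X)) := by
      rw [hT, Subgroup.comap_map_eq, QuotientGroup.ker_mk', sup_comm]
    rw [e]
    exact hTn.comap _

end Cfsg.Agent.S0521
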