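import Cfsg.Statements.S0522
import Cfsg.Agent.Lib.helper29.Trans4
import Cfsg.Agent.Lib.helper29.PSolv
import Cfsg.Agent.Lib.helper38.HallHigman2
import Cfsg.Agent.Lib.helper26.Basic

set_option autoImplicit false
open Cfsg

namespace Cfsg.Agent.S0522

/-- Transitivity Theorem (odd-order setting). Let X be a finite group of odd order in which the normalizer of every
nontrivial p-subgroup is solvable, P a Sylow p-subgroup, and B an abelian subgroup of P, normalized by P, with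
C_P(B) = B and containing an elementary abelian subgroup of order p^3. Then for every prime q ≠ p, any two q-subgroups
that are maximal among the q-subgroups normalized by B are conjugate by an element of the centralizer of B. -/
theorem result {X : Type*} [Group X] [Finite X] (hX : Odd (Nat.card X)) (p : ℕ)
    [Fact p.Prime] (hloc : ∀ T : Subgroup X, IsPGroup p T → T ≠ ⊥ → Group.IsSolvable (Subgroup.normalizer (T : Set X)))
    (P : Sylow p X) (B : Subgroup X) (hBP : B ≤ (P : Subgroup X))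
    (hBn : ∀ x ∈ (P : Subgroup X), ∀ b ∈ B, x * b * x⁻¹ ∈ B) (hBa : IsMulCommutative B)
    (hBc : (P : Subgroup X) ⊓ Subgroup.centralizer (B : Set X) = B)
    (hB3 : ∃ E : Subgroup X, E ≤ B ∧ (∀ e ∈ E, e ^ p = 1) ∧ p ^ 3 ≤ Nat.card E)
    (q : ℕ) [Fact q.Prime] (hqp : q ≠ p) (Q₁ Q₂ : Subgroup X)
    (h₁ : IsPGroup q Q₁ ∧ B ≤ Subgroup.normalizer (Q₁ : Set X) ∧
      ∀ R : Subgroup X, IsPGroup q R → B ≤ Subgroup.normalizer (R : Set X) → Q₁ ≤ R → R = Q₁)
    (h₂ : IsPGroup q Q₂ ∧ B ≤ Subgroup.normalizer (Q₂ : Set X) ∧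
      ∀ R : Subgroup X, IsPGroup q R → B ≤ Subgroup.normalizer (R : Set X) → Q₂ ≤ R → R = Q₂) :
    ∃ c ∈ Subgroup.centralizer (B : Set X), Q₂ = Q₁.map (MulAut.conj c).toMonoidHom := by
  obtain ⟨E₁, hE₁B, hE₁p, hE₁card⟩ := hB3
  have hp : p.Prime := Fact.out
  have hq : q.Prime := Fact.out
  have hBp : IsPGroup p B := P.isPGroup'.to_le hBP
  have hp2 : p ≠ 2 := by
    intro hp2
    have hE₁ne : E₁ ≠ ⊥ := by
      intro h
      rw [h, Subgroup.card_bot] at hE₁card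
      have : 1 < p ^ 3 := Nat.one_lt_pow (by norm_num) hp.one_lt
      omega
    have h2 : p ∣ Nat.card E₁ := Cfsg.Agent.Lib.helper29.prime_dvd_card_of_exponent hp hE₁p hE₁ne
    have h3 : p ∣ Nat.card X := h2.trans (Subgroup.card_subgroup_dvd_card E₁)
    rw [hp2] at h3
    exact (Nat.not_even_iff_odd.mpr hX) (even_iff_two_dvd.mpr h3)
  have hloc' : ∀ T : Subgroup X, IsPGroup p T → T ≠ ⊥ →
      Cfsg.IsPConstrained p ↥(Subgroup.normalizer (T : Set X)) := fun T hT hne =>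
    Cfsg.Agent.Lib.helper38.isPConstrained_of_isPSolvable
      (Cfsg.Agent.Lib.helper29.isPSolvable_of_isSolvable p (hloc T hT hne))
  have hBc' : ∀ a ∈ B, ∀ b ∈ B, a * b = b * a := by
    intro a ha b hb
    have h1 := hBa.is_comm.comm (⟨a, ha⟩ : B) ⟨b, hb⟩
    exact congrArg Subtype.val h1
  have hPN : (P : Subgroup X) ≤ Subgroup.normalizer (B : Set X) := by
    rw [Subgroup.le_normalizer_iff]
    exact hBn
  have hBfull : ∀ x ∈ Subgroup.centralizer (B : Set X), IsPGroup p (Subgroup.zpowers x) → x ∈ B := by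
    intro x hx hxp
    have hxN : Subgroup.zpowers x ≤ Subgroup.normalizer (B : Set X) :=
      ((Subgroup.zpowers_le).mpr hx).trans (Subgroup.centralizer_le_normalizer _)
    have hYp : IsPGroup p (Subgroup.zpowers x ⊔ B : Subgroup X) :=
      IsPGroup.to_sup_of_normal_right' hxp hBp hxN
    have hYN : Subgroup.zpowers x ⊔ B ≤ Subgroup.normalizer (B : Set X) :=
      sup_le hxN Subgroup.le_normalizer
    obtain ⟨m, hm, hmY⟩ := Cfsg.Agent.Lib.helper26.exists_conj_le_sylow_of_le P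
      (Subgroup.normalizer (B : Set X)) hPN _ hYN hYp
    have h1 : m * x * m⁻¹ ∈ (P : Subgroup X) :=
      hmY x (le_sup_left (a := Subgroup.zpowers x) (Subgroup.mem_zpowers x))
    have h2 : m * x * m⁻¹ ∈ Subgroup.centralizer (B : Set X) := by
      rw [Subgroup.mem_centralizer_iff]
      intro b hb
      have hb' : m⁻¹ * b * m ∈ B := by
        have := (Subgroup.mem_normalizer_iff.mp (inv_mem hm) b).mp hb
        simpa using this
      have h3 := (Subgroup.mem_centralizer_iff.mp hx) _ hb'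
      calc b * (m * x * m⁻¹) = m * ((m⁻¹ * b * m) * x) * m⁻¹ := by group
        _ = m * (x * (m⁻¹ * b * m)) * m⁻¹ := by rw [h3]
        _ = m * x * m⁻¹ * b := by group
    have h4 : m * x * m⁻¹ ∈ B := by
      rw [← hBc]
      exact ⟨h1, h2⟩
    have h5 := (Subgroup.mem_normalizer_iff.mp (inv_mem hm) _).mp h4
    have e : m⁻¹ * (m * x * m⁻¹) * m⁻¹⁻¹ = x := by group
    rwa [e] at h5
  have hQ₁ : Q₁ ∈ Cfsg.maxInvSubgroups ⊤ B {q} := by
    refine ⟨(Cfsg.Agent.Lib.helper29.mem_invSubgroups_top hq).mpr ⟨h₁.1, h₁.2.1⟩, fun R hR hle => ?_⟩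
    obtain ⟨hRq, hRB⟩ := (Cfsg.Agent.Lib.helper29.mem_invSubgroups_top hq).mp hR
    exact h₁.2.2 R hRq hRB hle
  have hQ₂ : Q₂ ∈ Cfsg.maxInvSubgroups ⊤ B {q} := by
    refine ⟨(Cfsg.Agent.Lib.helper29.mem_invSubgroups_top hq).mpr ⟨h₂.1, h₂.2.1⟩, fun R hR hle => ?_⟩
    obtain ⟨hRq, hRB⟩ := (Cfsg.Agent.Lib.helper29.mem_invSubgroups_top hq).mp hR
    exact h₂.2.2 R hRq hRB hle
  have hcard2 : p ^ 2 < Nat.card E₁ :=
    lt_of_lt_of_le (Nat.pow_lt_pow_right hp.one_lt (by norm_num)) hE₁card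
  have key := Cfsg.Agent.Lib.helper29.kConj_of_pConstrained hloc' (Or.inl hp2) hBp hBc' hE₁B hE₁p
    hcard2 hBfull hqp _ Q₁ Q₂ hQ₁ hQ₂ rfl
  obtain ⟨k, hk, hkQ⟩ := (Cfsg.Agent.Lib.helper29.kConj_iff_map _ _ _).mp key
  exact ⟨k, Cfsg.Agent.Lib.helper29.piCoreOf_le _ _ hk, hkQ⟩

end Cfsg.Agent.S0522
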