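import Cfsg.Statements.S0529
import Mathlib
import Cfsg.Agent.Lib.helper12.Supersolvable

set_option autoImplicit false
open Cfsg

namespace Cfsg.Agent.S0529

open Cfsg.Agent.Lib.helper12 Cfsg.Agent.Lib.helper11

universe u

/-- A nontrivial finite supersolvable group has a normal subgroup whose order is the largest
prime divisor of the group order. -/
theorem exists_normal_largest_prime : ∀ (n : ℕ) (G : Type u) [Group G] [Finite G] [Nontrivial G],
    Nat.card G = n → Cfsg.IsSupersolvable G →
    ∃ N : Subgroup G, N.Normal ∧ (Nat.card N).Prime ∧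
      ∀ q : ℕ, q.Prime → q ∣ Nat.card G → q ≤ Nat.card N := by
  intro n
  induction n using Nat.strong_induction_on with
  | _ n ih =>
    intro G _ _ _ hn hG
    obtain ⟨N₀, hN₀n, hN₀p⟩ := exists_normal_prime_card hG
    by_cases hall : ∀ q : ℕ, q.Prime → q ∣ Nat.card G → q ≤ Nat.card N₀
    · exact ⟨N₀, hN₀n, hN₀p, hall⟩
    · push Not at hall
      obtain ⟨q, hq, hqd, hqlt⟩ := hall
      set q₀ := Nat.card N₀ with hq₀
      have hcard : Nat.card (G ⧸ N₀) * q₀ = Nat.card G := card_quotient_mul_card N₀
      have hqQ : q ∣ Nat.card (G ⧸ N₀) := by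
        rw [← hcard] at hqd
        rcases (Nat.Prime.dvd_mul hq).mp hqd with h | h
        · exact h
        · have := (Nat.prime_dvd_prime_iff_eq hq hN₀p).mp h
          omega
      have hQnt : Nontrivial (G ⧸ N₀) := by
        rw [← Finite.one_lt_card_iff_nontrivial]
        have h1 : 0 < Nat.card (G ⧸ N₀) := Nat.card_pos
        have h2 := Nat.le_of_dvd h1 hqQ
        have h3 := hq.two_le
        omega
      have hN₀bot : N₀ ≠ ⊥ := by
        intro h
        rw [hq₀, h, Subgroup.card_bot] at hN₀p
        exact Nat.not_prime_one hN₀p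
      have hlt : Nat.card (G ⧸ N₀) < n := hn ▸ card_quotient_lt N₀ hN₀bot
      obtain ⟨N', hN'n, hN'p, hN'l⟩ := ih _ hlt (G ⧸ N₀) rfl (isSupersolvable_quotient hG N₀)
      set p := Nat.card N' with hp
      have hqp : q ≤ p := hN'l q hq hqQ
      have hq₀p : q₀ < p := lt_of_lt_of_le hqlt hqp
      set L := N'.comap (QuotientGroup.mk' N₀) with hL
      have hLn : L.Normal := hN'n.comap _
      have hLc : Nat.card L = p * q₀ := card_comap_mk' N₀ N'
      have hfact : Fact p.Prime := ⟨hN'p⟩
      obtain ⟨P⟩ : Nonempty (Sylow p L) := inferInstance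
      have hpq₀ : ¬ p ∣ q₀ := fun h => absurd (Nat.le_of_dvd hN₀p.pos h) (not_le.mpr hq₀p)
      have hPc : Nat.card P = p := by
        rw [Sylow.card_eq_multiplicity, hLc, Nat.factorization_mul hN'p.ne_zero hN₀p.ne_zero,
          Finsupp.add_apply, Nat.Prime.factorization_self hN'p,
          Nat.factorization_eq_zero_of_not_dvd hpq₀, pow_one]
      have hPi : (P : Subgroup L).index = q₀ := by
        have := Subgroup.card_mul_index (P : Subgroup L)
        rw [hPc, hLc] at this
        exact Nat.eq_of_mul_eq_mul_left hN'p.pos this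
      have h1 : Nat.card (Sylow p L) ∣ q₀ := hPi ▸ Sylow.card_dvd_index P
      have h2 : Nat.card (Sylow p L) ≡ 1 [MOD p] := card_sylow_modEq_one p L
      have h3 : Nat.card (Sylow p L) = 1 := by
        rcases (Nat.dvd_prime hN₀p).mp h1 with h | h
        · exact h
        · rw [h] at h2
          unfold Nat.ModEq at h2
          rw [Nat.mod_eq_of_lt hq₀p, Nat.mod_eq_of_lt hN'p.one_lt] at h2
          have := hN₀p.one_lt
          omega
      have hsub : Subsingleton (Sylow p L) := (Nat.card_eq_one_iff_unique.mp h3).1
      have hchar : (P : Subgroup L).Characteristic := Sylow.characteristic_of_subsingleton P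
      refine ⟨(P : Subgroup L).map L.subtype, ConjAct.normal_of_characteristic_of_normal, ?_, ?_⟩
      · rw [Subgroup.card_map_of_injective (Subgroup.subtype_injective _), hPc]; exact hN'p
      · intro r hr hrd
        rw [Subgroup.card_map_of_injective (Subgroup.subtype_injective _), hPc]
        rw [← hcard] at hrd
        rcases (Nat.Prime.dvd_mul hr).mp hrd with h | h
        · exact hN'l r hr h
        · have := (Nat.prime_dvd_prime_iff_eq hr hN₀p).mp h
          omega

theorem chain_of_supersolvable : ∀ (n : ℕ) (G : Type u) [Group G] [Finite G], Nat.card G = n →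
    Cfsg.IsSupersolvable G →
    ∃ (n : ℕ) (H : Fin (n + 1) → Subgroup G), H 0 = ⊥ ∧ H (Fin.last n) = ⊤ ∧
      (∀ i, (H i).Normal) ∧
      (∀ i : Fin n, H i.castSucc ≤ H i.succ ∧ ((H i.castSucc).relIndex (H i.succ)).Prime) ∧
      ∀ i j : Fin n, i ≤ j →
        (H j.castSucc).relIndex (H j.succ) ≤ (H i.castSucc).relIndex (H i.succ) := by
  intro n
  induction n using Nat.strong_induction_on with
  | _ n ih =>
    intro G _ _ hn hG
    by_cases hG1 : Nontrivial G
    · obtain ⟨N, hNn, hNp, hlarge⟩ := exists_normal_largest_prime _ G rfl hG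
      set p := Nat.card N with hp
      have hNbot : N ≠ ⊥ := by
        intro h
        rw [hp, h, Subgroup.card_bot] at hNp
        exact Nat.not_prime_one hNp
      have hlt : Nat.card (G ⧸ N) < n := hn ▸ card_quotient_lt N hNbot
      obtain ⟨m, H', h0, hl, hnorm, hstep, hmono⟩ :=
        ih _ hlt (G ⧸ N) rfl (isSupersolvable_quotient hG N)
      have hsurj : Function.Surjective (QuotientGroup.mk' N) := QuotientGroup.mk'_surjective N
      have hbig : ∀ j : Fin m, (H' j.castSucc).relIndex (H' j.succ) ≤ p := by
        intro j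
        apply hlarge _ (hstep j).2
        have h1 : (H' j.castSucc).relIndex (H' j.succ) ∣ Nat.card (H' j.succ) :=
          Subgroup.relIndex_dvd_card _ _
        have h2 : Nat.card (H' j.succ) ∣ Nat.card (G ⧸ N) := Subgroup.card_subgroup_dvd_card _
        have h3 : Nat.card (G ⧸ N) ∣ Nat.card G := ⟨_, (card_quotient_mul_card N).symm⟩
        exact h1.trans (h2.trans h3)
      let H : Fin (m + 1 + 1) → Subgroup G :=
        Fin.cons ⊥ (fun i => (H' i).comap (QuotientGroup.mk' N))
      have hH0 : H 0 = ⊥ := rfl
      have hHs : ∀ i : Fin (m + 1), H i.succ = (H' i).comap (QuotientGroup.mk' N) := fun i => rfl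
      have hr0 : (H (0 : Fin (m + 1)).castSucc).relIndex (H (0 : Fin (m + 1)).succ) = p := by
        rw [Fin.castSucc_zero, hH0, hHs, h0, MonoidHom.comap_bot, QuotientGroup.ker_mk',
          Subgroup.relIndex_bot_left]
      have hrs : ∀ j : Fin m, (H j.succ.castSucc).relIndex (H j.succ.succ)
          = (H' j.castSucc).relIndex (H' j.succ) := by
        intro j
        rw [← Fin.succ_castSucc, hHs, hHs, Subgroup.relIndex_comap,
          Subgroup.map_comap_eq_self_of_surjective hsurj]
      refine ⟨m + 1, H, hH0, ?_, ?_, ?_, ?_⟩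
      · rw [← Fin.succ_last, hHs, hl, Subgroup.comap_top]
      · intro i
        refine Fin.cases ?_ (fun j => ?_) i
        · rw [hH0]; infer_instance
        · rw [hHs]; exact (hnorm j).comap _
      · intro i
        refine Fin.cases ?_ (fun j => ?_) i
        · refine ⟨?_, ?_⟩
          · rw [Fin.castSucc_zero, hH0]; exact bot_le
          · rw [hr0]; exact hNp
        · refine ⟨?_, ?_⟩
          · rw [← Fin.succ_castSucc, hHs, hHs]; exact Subgroup.comap_mono (hstep j).1
          · rw [hrs]; exact (hstep j).2
      · intro i j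
        refine Fin.cases ?_ (fun j' => ?_) j
        · intro hij
          have : i = 0 := Fin.le_zero_iff.mp hij
          rw [this]
        · refine Fin.cases ?_ (fun i' => ?_) i
          · intro _
            rw [hr0, hrs]; exact hbig j'
          · intro hij
            rw [hrs, hrs]
            exact hmono i' j' (Fin.succ_le_succ_iff.mp hij)
    · rw [not_nontrivial_iff_subsingleton] at hG1
      refine ⟨0, fun _ => ⊥, rfl, Subsingleton.elim _ _, fun _ => inferInstance,
        fun i => i.elim0, fun i => i.elim0⟩

/-- A finite supersolvable group has a chain of normal subgroups, from the trivial subgroup to the whole group, in which every step has prime index and the primes occurring are non-increasing as one goes up the chain. -/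
theorem result {G : Type*} [Group G] [Finite G] (hG : Cfsg.IsSupersolvable G) : ∃ (n : ℕ) (H : Fin (n + 1) → Subgroup G), H 0 = ⊥ ∧ H (Fin.last n) = ⊤ ∧ (∀ i, (H i).Normal) ∧ (∀ i : Fin n, H i.castSucc ≤ H i.succ ∧ ((H i.castSucc).relIndex (H i.succ)).Prime) ∧ ∀ i j : Fin n, i ≤ j → (H j.castSucc).relIndex (H j.succ) ≤ (H i.castSucc).relIndex (H i.succ) := by
  exact chain_of_supersolvable _ G rfl hG

end Cfsg.Agent.S0529
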