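import Cfsg.Statements.S0530
import Mathlib
import Cfsg.Agent.Lib.helper12.Supersolvable
import Cfsg.Agent.Lib.helper12.PGroupCentral

set_option autoImplicit false
open Cfsg

namespace Cfsg.Agent.S0530

open Cfsg.Agent.Lib.helper12 Cfsg.Agent.Lib.helper11

universe u

theorem isSupersolvable_of_isCyclic {G : Type*} [Group G] [IsCyclic G] :
    Cfsg.IsSupersolvable G := by
  rw [isSupersolvable_iff_chain]
  obtain ⟨g, hg⟩ := (isCyclic_iff_exists_zpowers_eq_top (α := G)).mp inferInstance
  exact Relation.ReflTransGen.single ⟨inferInstance, inferInstance, g, by rw [bot_sup_eq, hg]⟩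

theorem conj_eq_of_commute {G : Type*} [Group G] {g t z : G}
    (hu : z * (t⁻¹ * g) = (t⁻¹ * g) * z) : g * z * g⁻¹ = t * z * t⁻¹ := by
  calc g * z * g⁻¹ = t * ((t⁻¹ * g) * z) * g⁻¹ := by group
    _ = t * (z * (t⁻¹ * g)) * g⁻¹ := by rw [hu]
    _ = t * z * t⁻¹ := by group

/-- If a nontrivial normal `p`-subgroup has index at most 2 then the group has a normal subgroup
of order `p`. -/
theorem exists_normal_card_prime_of_index_le_two {G : Type*} [Group G] [Finite G] {p : ℕ}
    [Fact p.Prime] (P : Subgroup G) [P.Normal] (hP : IsPGroup p P) (hPne : P ≠ ⊥)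
    (hidx : P.index = 1 ∨ P.index = 2) : ∃ N : Subgroup G, N.Normal ∧ Nat.card N = p := by
  obtain ⟨N, hNP, hNne, hNn, hmin⟩ := exists_minimal_normal_le P hPne
  have hNp : IsPGroup p N := hP.to_le hNP
  have hcent : P ≤ Subgroup.centralizer (N : Set G) :=
    le_centralizer_of_minimal_normal_pgroup P N hP hNp hNne hmin
  have hc : ∀ u ∈ P, ∀ v ∈ N, v * u = u * v :=
    fun u hu v hv => (Subgroup.mem_centralizer_iff.mp (hcent hu)) v hv
  obtain ⟨⟨x, hxN⟩, hx1⟩ := (Subgroup.ne_bot_iff_exists_ne_one).mp hNne
  have hx1' : x ≠ 1 := fun h => hx1 (Subtype.ext h)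
  have key : ∃ g ∈ N, g ≠ 1 ∧ (Subgroup.zpowers g).Normal := by
    rcases hidx with h1 | h2
    · have hPtop : P = ⊤ := Subgroup.index_eq_one.mp h1
      refine ⟨x, hxN, hx1', ?_⟩
      constructor
      intro y hy g
      have : g * y * g⁻¹ = y := by
        obtain ⟨k, rfl⟩ := Subgroup.mem_zpowers_iff.mp hy
        have hg : g ∈ P := hPtop ▸ Subgroup.mem_top g
        have := hc g hg (x ^ k) (N.zpow_mem hxN k)
        rw [← this]; group
      rw [this]; exact hy
    · obtain ⟨t, ht⟩ : ∃ t, t ∉ P := by
        by_contra hcon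
        push Not at hcon
        have : P = ⊤ := (Subgroup.eq_top_iff' P).mpr hcon
        rw [this, Subgroup.index_top] at h2
        omega
      have ht2 : t * t ∈ P := by
        have := Subgroup.sq_mem_of_index_two h2 t
        rwa [sq] at this
      have hcover : ∀ g : G, g ∈ P ∨ t⁻¹ * g ∈ P := by
        intro g
        by_cases hg : g ∈ P
        · exact Or.inl hg
        · right
          rw [Subgroup.mul_mem_iff_of_index_two h2]
          constructor
          · intro h; exact absurd (P.inv_mem_iff.mp h) ht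
          · intro h; exact absurd h hg
      set y := t * x * t⁻¹ with hy
      have hyN : y ∈ N := hNn.conj_mem x hxN t
      by_cases hw : x * y = 1
      · refine ⟨x, hxN, hx1', ?_⟩
        have hyx : t * x * t⁻¹ = x⁻¹ := (eq_inv_of_mul_eq_one_right hw)
        constructor
        intro z hz g
        obtain ⟨k, rfl⟩ := Subgroup.mem_zpowers_iff.mp hz
        rcases hcover g with hg | hg
        · have := hc g hg (x ^ k) (N.zpow_mem hxN k)
          have e : g * x ^ k * g⁻¹ = x ^ k := by rw [← this]; group
          rw [e]; exact hz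
        · have hu := hc (t⁻¹ * g) hg (x ^ k) (N.zpow_mem hxN k)
          rw [conj_eq_of_commute hu, ← conj_zpow, hyx]
          exact Subgroup.zpow_mem _ (Subgroup.inv_mem _ (Subgroup.mem_zpowers x)) k
      · refine ⟨x * y, N.mul_mem hxN hyN, hw, ?_⟩
        have htw : t * (x * y) * t⁻¹ = x * y := by
          have h1 : t * y * t⁻¹ = x := by
            have := hc (t * t) ht2 x hxN
            rw [hy]
            calc t * (t * x * t⁻¹) * t⁻¹ = (t * t) * x * (t * t)⁻¹ := by group
              _ = x * (t * t) * (t * t)⁻¹ := by rw [this]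
              _ = x := by group
          calc t * (x * y) * t⁻¹ = (t * x * t⁻¹) * (t * y * t⁻¹) := by group
            _ = y * x := by rw [h1]
            _ = x * y := hc x (hNP hxN) y hyN
        constructor
        intro z hz g
        obtain ⟨k, rfl⟩ := Subgroup.mem_zpowers_iff.mp hz
        have hwN : (x * y) ^ k ∈ N := N.zpow_mem (N.mul_mem hxN hyN) k
        have htk : t * (x * y) ^ k * t⁻¹ = (x * y) ^ k := by rw [← conj_zpow, htw]
        rcases hcover g with hg | hg
        · have := hc g hg _ hwN
          have e : g * (x * y) ^ k * g⁻¹ = (x * y) ^ k := by rw [← this]; group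
          rw [e]; exact hz
        · have hu := hc (t⁻¹ * g) hg _ hwN
          rw [conj_eq_of_commute hu, htk]; exact hz
  obtain ⟨g, hgN, hg1, hgn⟩ := key
  obtain ⟨N', hN'n, hN'p, hN'le⟩ := exists_normal_prime_card_of_normal_zpowers g hg1 hgn
  refine ⟨N', hN'n, ?_⟩
  have hle : N' ≤ P := hN'le.trans ((Subgroup.zpowers_le.mpr hgN).trans hNP)
  obtain ⟨k, hk⟩ := IsPGroup.iff_card.mp (hP.to_le hle)
  rw [hk] at hN'p ⊢
  have hk1 : k = 1 := (hN'p.pow_eq_iff.mp rfl).2
  rw [hk1, pow_one]

theorem ss_of_card (p : ℕ) (hp : p.Prime) : ∀ (n : ℕ) (G : Type u) [Group G] [Finite G],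
    Nat.card G = 2 * p ^ n → Cfsg.IsSupersolvable G := by
  have hfact : Fact p.Prime := ⟨hp⟩
  intro n
  induction n with
  | zero =>
    intro G _ _ hG
    rw [pow_zero, mul_one] at hG
    have : Fact (Nat.Prime 2) := ⟨Nat.prime_two⟩
    have : IsCyclic G := isCyclic_of_prime_card (p := 2) hG
    exact isSupersolvable_of_isCyclic
  | succ n ih =>
    intro G _ _ hG
    have hex : ∃ P : Subgroup G, P.Normal ∧ IsPGroup p P ∧ P ≠ ⊥ ∧ (P.index = 1 ∨ P.index = 2) := by
      by_cases hp2 : p = 2
      · refine ⟨⊤, inferInstance, ?_, ?_, Or.inl Subgroup.index_top⟩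
        · have : IsPGroup p G := IsPGroup.of_card (n := n + 2) (by rw [hG, hp2]; ring)
          exact this.to_subgroup ⊤
        · intro h
          have h1 : Nat.card (⊤ : Subgroup G) = Nat.card G := Subgroup.card_top
          rw [h, Subgroup.card_bot, hG] at h1
          have : 0 < p ^ (n + 1) := pow_pos hp.pos _
          omega
      · obtain ⟨P⟩ : Nonempty (Sylow p G) := inferInstance
        have hnd : ¬ p ∣ 2 := fun h => hp2 ((Nat.prime_dvd_prime_iff_eq hp Nat.prime_two).mp h)
        have hPc : Nat.card P = p ^ (n + 1) := by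
          rw [Sylow.card_eq_multiplicity, hG,
            Nat.factorization_mul two_ne_zero (pow_ne_zero _ hp.ne_zero),
            Nat.factorization_pow, Finsupp.add_apply, Finsupp.smul_apply,
            Nat.Prime.factorization_self hp, Nat.factorization_eq_zero_of_not_dvd hnd]
          simp
        have hPi : (P : Subgroup G).index = 2 := by
          have := Subgroup.card_mul_index (P : Subgroup G)
          rw [hPc, hG, mul_comm] at this
          exact Nat.eq_of_mul_eq_mul_right (pow_pos hp.pos _) this
        refine ⟨P, Subgroup.normal_of_index_eq_two hPi, P.isPGroup', ?_, Or.inr hPi⟩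
        intro h
        rw [h, Subgroup.card_bot] at hPc
        have : 1 < p ^ (n + 1) := Nat.one_lt_pow (Nat.succ_ne_zero n) hp.one_lt
        omega
    obtain ⟨P, hPn, hPp, hPne, hPi⟩ := hex
    obtain ⟨N, hNn, hNc⟩ := exists_normal_card_prime_of_index_le_two P hPp hPne hPi
    have hcyc : IsCyclic N := isCyclic_of_prime_card (p := p) hNc
    have hq : Nat.card (G ⧸ N) = 2 * p ^ n := by
      have := card_quotient_mul_card N
      rw [hNc, hG, pow_succ, ← mul_assoc] at this
      exact Nat.eq_of_mul_eq_mul_right hp.pos this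
    exact isSupersolvable_of_quotient N (ih (G ⧸ N) hq)

/-- A finite group whose order is twice a prime power is supersolvable. -/
theorem result {G : Type*} [Group G] [Finite G] (p n : ℕ) (hp : p.Prime) (hG : Nat.card G = 2 * p ^ n) : Cfsg.IsSupersolvable G := by
  exact ss_of_card p hp n G hG

end Cfsg.Agent.S0530
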