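import Cfsg.Statements.S0531
import Mathlib
import Cfsg.Agent.Lib.helper12.Supersolvable
import Cfsg.Agent.Lib.lead.Hall

set_option autoImplicit false
open Cfsg

namespace Cfsg.Agent.S0531

open Cfsg.Agent.Lib.helper12 Cfsg.Agent.Lib.helper11

universe u

theorem clt_of_supersolvable : ∀ (n : ℕ) (G : Type u) [Group G] [Finite G], Nat.card G = n →
    Cfsg.IsSupersolvable G → Cfsg.HasSubgroupOfEveryOrder G := by
  intro n
  induction n using Nat.strong_induction_on with
  | _ n ih =>
    intro G _ _ hn hG d hd
    by_cases hG1 : Nontrivial G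
    · obtain ⟨N, hNn, hNp⟩ := exists_normal_prime_card hG
      set p := Nat.card N with hp
      have hQ : Cfsg.IsSupersolvable (G ⧸ N) := isSupersolvable_quotient hG N
      have hNbot : N ≠ ⊥ := by
        intro h
        rw [hp, h, Subgroup.card_bot] at hNp
        exact Nat.not_prime_one hNp
      have hlt : Nat.card (G ⧸ N) < n := hn ▸ card_quotient_lt N hNbot
      have ihQ := ih _ hlt (G ⧸ N) rfl hQ
      have hcard : Nat.card (G ⧸ N) * p = Nat.card G := card_quotient_mul_card N
      by_cases hpd : p ∣ d
      · obtain ⟨e, rfl⟩ := hpd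
        have he : e ∣ Nat.card (G ⧸ N) := by
          rw [← hcard, mul_comm (Nat.card (G ⧸ N)) p] at hd
          exact Nat.dvd_of_mul_dvd_mul_left hNp.pos hd
        obtain ⟨H', hH'⟩ := ihQ e he
        exact ⟨H'.comap (QuotientGroup.mk' N), by rw [card_comap_mk', hH', mul_comm]⟩
      · have hcop : Nat.Coprime d p :=
          Nat.Coprime.symm ((Nat.Prime.coprime_iff_not_dvd hNp).mpr hpd)
        have hdq : d ∣ Nat.card (G ⧸ N) := by
          rw [← hcard] at hd
          exact hcop.dvd_of_dvd_mul_right hd
        obtain ⟨H', hH'⟩ := ihQ d hdq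
        have hHc : Nat.card (H'.comap (QuotientGroup.mk' N)) = d * p := by
          rw [card_comap_mk', hH']
        have hsol : Group.IsSolvable G := isSolvable_of_isSupersolvable hG
        obtain ⟨T, hT⟩ := Cfsg.Agent.Lib.lead.exists_subgroup_card_eq_of_isSolvable
          (G := (H'.comap (QuotientGroup.mk' N))) hHc hcop
        exact ⟨T.map (H'.comap (QuotientGroup.mk' N)).subtype, by
          rw [Subgroup.card_map_of_injective (Subgroup.subtype_injective _), hT]⟩
    · rw [not_nontrivial_iff_subsingleton] at hG1
      have h1 : Nat.card G = 1 := Nat.card_eq_one_iff_unique.mpr ⟨hG1, ⟨1⟩⟩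
      rw [h1] at hd
      exact ⟨⊥, by rw [Subgroup.card_bot]; exact (Nat.dvd_one.mp hd).symm⟩

/-- A finite supersolvable group has a subgroup of each order dividing its order. -/
theorem result {G : Type*} [Group G] [Finite G] (hG : Cfsg.IsSupersolvable G) : Cfsg.HasSubgroupOfEveryOrder G := by
  exact clt_of_supersolvable _ G rfl hG

end Cfsg.Agent.S0531
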