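import Cfsg.Statements.S0532
import Mathlib
import Cfsg.Agent.S0544
import Cfsg.Agent.Lib.helper12.Conj

set_option autoImplicit false
open Pointwise
open Cfsg

namespace Cfsg.Agent.S0532

open Cfsg.Agent.Lib.helper12

theorem hasSubgroupOfEveryOrder_of_mulEquiv {A B : Type*} [Group A] [Group B] (e : A ≃* B)
    (hA : Cfsg.HasSubgroupOfEveryOrder A) : Cfsg.HasSubgroupOfEveryOrder B := by
  intro d hd
  rw [← Nat.card_congr e.toEquiv] at hd
  obtain ⟨K, hK⟩ := hA d hd
  exact ⟨K.map e.toMonoidHom, by
    rw [Subgroup.card_map_of_injective (f := e.toMonoidHom) e.injective]; exact hK⟩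

/-- The hypothesis "every subgroup satisfies the converse of Lagrange" passes to subgroups. -/
theorem hyp_subgroup {G : Type*} [Group G] (h : ∀ H : Subgroup G, Cfsg.HasSubgroupOfEveryOrder H)
    (M : Subgroup G) : ∀ H' : Subgroup M, Cfsg.HasSubgroupOfEveryOrder H' := by
  intro H'
  exact hasSubgroupOfEveryOrder_of_mulEquiv
    (Subgroup.equivMapOfInjective H' M.subtype M.subtype_injective).symm (h (H'.map M.subtype))

theorem main.{u} : ∀ (n : ℕ) (G : Type u) [Group G] [Finite G], Nat.card G = n →
    (∀ H : Subgroup G, Cfsg.HasSubgroupOfEveryOrder H) → ∀ (p : ℕ) [Fact p.Prime],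
    (∀ q : ℕ, q.Prime → q ∣ Nat.card G → q ≤ p) → ∀ P : Sylow p G, (P : Subgroup G).Normal := by
  intro n
  induction n using Nat.strong_induction_on with
  | _ n ih =>
  intro G _ _ hn h p _ hmax P
  by_cases h1 : Nat.card G = 1
  · have hsub : Subsingleton G := (Nat.card_eq_one_iff_unique.mp h1).1
    have hP : (P : Subgroup G) = ⊤ := Subsingleton.elim _ _
    rw [hP]; infer_instance
  · set q := (Nat.card G).minFac with hq
    have hqp : q.Prime := Nat.minFac_prime h1
    have hqdvd : q ∣ Nat.card G := Nat.minFac_dvd _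
    obtain ⟨K, hK⟩ := h ⊤ (Nat.card G / q)
      (by rw [Subgroup.card_top]; exact Nat.div_dvd_of_dvd hqdvd)
    set M : Subgroup G := K.map (⊤ : Subgroup G).subtype with hM
    have hMcard : Nat.card M = Nat.card G / q := by rw [hM, Subgroup.card_subtype]; exact hK
    have hMidx : M.index = q := by
      have h3 := Subgroup.card_mul_index M
      rw [hMcard] at h3
      have hpos : 0 < Nat.card G / q :=
        Nat.div_pos (Nat.le_of_dvd Nat.card_pos hqdvd) hqp.pos
      have h2 : Nat.card G / q * q = Nat.card G := Nat.div_mul_cancel hqdvd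
      exact Nat.eq_of_mul_eq_mul_left hpos (h3.trans h2.symm)
    have hMn : M.Normal := Subgroup.normal_of_index_eq_minFac_card hMidx
    by_cases hqp' : q = p
    · have hG : IsPGroup p G := by
        apply IsPGroup.of_card (n := (Nat.card G).primeFactorsList.length)
        apply Nat.eq_prime_pow_of_unique_prime_dvd Nat.card_pos.ne'
        intro d hd hdd
        exact le_antisymm (hmax d hd hdd) (hqp' ▸ Nat.minFac_le_of_dvd hd.two_le hdd)
      have hP : (P : Subgroup G) = ⊤ := (P.is_maximal' (hG.to_subgroup ⊤) le_top).symm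
      rw [hP]; infer_instance
    · have hPM : (P : Subgroup G) ≤ M := by
        intro x hx
        apply Cfsg.Agent.S0544.mem_of_mem_normalizer_of_coprime M x
          (by rw [Subgroup.normalizer_eq_top]; trivial)
        obtain ⟨k, hk⟩ := (IsPGroup.iff_orderOf.mp P.isPGroup') ⟨x, hx⟩
        have hk' : orderOf x = p ^ k := by
          rw [← hk]; exact (Subgroup.orderOf_mk x hx).symm
        rw [hk', hMidx]
        exact Nat.Coprime.pow_left k ((Nat.coprime_primes Fact.out hqp).mpr (Ne.symm hqp'))
      have hMlt : Nat.card M < Nat.card G := by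
        rw [hMcard]; exact Nat.div_lt_self Nat.card_pos hqp.one_lt
      have hMmax : ∀ r : ℕ, r.Prime → r ∣ Nat.card M → r ≤ p :=
        fun r hr hrd => hmax r hr (hrd.trans (Subgroup.card_subgroup_dvd_card M))
      have hP'n : ((P.subtype hPM : Sylow p M) : Subgroup M).Normal :=
        ih (Nat.card M) (hn ▸ hMlt) M rfl (hyp_subgroup h M) p hMmax _
      apply Subgroup.Normal.of_conjugate_fixed
      intro g
      have hgPM : ((g • P : Sylow p G) : Subgroup G) ≤ M := by
        rw [Sylow.coe_subgroup_smul]
        have := conj_smul_mono g hPM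
        rwa [Subgroup.Normal.conj_smul_eq_self g M] at this
      obtain ⟨m, hm⟩ := MulAction.exists_smul_eq M (P.subtype hPM) ((g • P).subtype hgPM)
      rw [Sylow.smul_eq_of_normal (h := hP'n)] at hm
      have h2 : (P : Subgroup G).subgroupOf M
          = ((g • P : Sylow p G) : Subgroup G).subgroupOf M := by
        have := congrArg (fun Q : Sylow p M => (Q : Subgroup M)) hm
        simpa using this
      have h3 := congrArg (Subgroup.map M.subtype) h2
      rw [Subgroup.subgroupOf_map_subtype, Subgroup.subgroupOf_map_subtype,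
        inf_of_le_left hPM, inf_of_le_left hgPM] at h3
      rw [← Sylow.coe_subgroup_smul]; exact h3.symm

/-- If each subgroup of a finite group satisfies the converse of Lagrange's theorem, then a Sylow subgroup for the largest prime dividing the group order is normal. -/
theorem result {G : Type*} [Group G] [Finite G] (h : ∀ H : Subgroup G, Cfsg.HasSubgroupOfEveryOrder H) (p : ℕ) [Fact p.Prime] (hdvd : p ∣ Nat.card G) (hmax : ∀ q : ℕ, q.Prime → q ∣ Nat.card G → q ≤ p) (P : Sylow p G) : (P : Subgroup G).Normal := by
  have _ := hdvd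
  exact main _ G rfl h p hmax P

end Cfsg.Agent.S0532
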