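import Cfsg.Statements.S0582
import Cfsg.Agent.S0524
import Cfsg.Agent.S0531
import Cfsg.Agent.S0532
import Cfsg.Agent.S0581
import Cfsg.Agent.S0048
import Cfsg.Agent.Lib.lead.Hall
import Cfsg.Agent.Lib.helper11.Supersolvable

set_option autoImplicit false
open Pointwise
open Cfsg

namespace Cfsg.Agent.S0582

/-- Supersolvability passes to homomorphic images. -/
theorem isSupersolvable_of_surjective {A B : Type*} [Group A] [Group B] (f : A →* B)
    (hf : Function.Surjective f) (hA : Cfsg.IsSupersolvable A) : Cfsg.IsSupersolvable B := by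
  rw [Cfsg.Agent.Lib.helper11.isSupersolvable_iff_chain] at hA ⊢
  have h := Relation.ReflTransGen.lift (r := Cfsg.Agent.Lib.helper11.SSStep)
    (p := Cfsg.Agent.Lib.helper11.SSStep)
    (Subgroup.map f) (fun K L hKL => ?_) _ _ hA
  · simp only [Function.onFun] at h
    rw [Subgroup.map_bot, Subgroup.map_top_of_surjective _ hf] at h
    exact h
  · obtain ⟨hK, hL, g, hg⟩ := hKL
    refine ⟨hK.map _ hf, hL.map _ hf, f g, ?_⟩
    rw [hg, Subgroup.map_sup, MonoidHom.map_zpowers]

/-- In a supersolvable group the Sylow subgroup for the largest prime is normal. -/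
theorem sylow_normal_of_largest {A : Type*} [Group A] [Finite A] (hA : Cfsg.IsSupersolvable A)
    (p : ℕ) [Fact p.Prime] (hdvd : p ∣ Nat.card A)
    (hmax : ∀ q : ℕ, q.Prime → q ∣ Nat.card A → q ≤ p) (P : Sylow p A) :
    (P : Subgroup A).Normal :=
  Cfsg.Agent.S0532.result
    (fun L => Cfsg.Agent.S0531.result ((Cfsg.Agent.S0524.result hA L ⊥).1)) p hdvd hmax P

/-- A conjugate of a supersolvable subgroup is supersolvable. -/
theorem isSupersolvable_conj {G : Type*} [Group G] (H : Subgroup G)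
    (hH : Cfsg.IsSupersolvable H) (g : G) :
    Cfsg.IsSupersolvable (MulAut.conj g • H : Subgroup G) := by
  rw [Cfsg.Agent.S0581.conj_smul_eq_map]
  exact isSupersolvable_of_surjective
    (H.equivMapOfInjective _ (MulAut.conj g).injective).toMonoidHom
    (H.equivMapOfInjective _ (MulAut.conj g).injective).surjective hH

/-- Conjugation carries normalizers to normalizers. -/
theorem conj_le_normalizer_conj {G : Type*} [Group G] (H P : Subgroup G)
    (hHP : H ≤ Subgroup.normalizer (P : Set G)) (g : G) :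
    (MulAut.conj g • H : Subgroup G) ≤
      Subgroup.normalizer ((MulAut.conj g • P : Subgroup G) : Set G) := by
  intro a ha
  rw [Cfsg.Agent.S0581.mem_conj_smul] at ha
  rw [Subgroup.mem_normalizer_iff]
  intro x
  rw [Cfsg.Agent.S0581.mem_conj_smul, Cfsg.Agent.S0581.mem_conj_smul]
  have h1 := Subgroup.mem_normalizer_iff.mp (hHP ha) (g⁻¹ * x * g)
  have e : g⁻¹ * a * g * (g⁻¹ * x * g) * (g⁻¹ * a * g)⁻¹ = g⁻¹ * (a * x * a⁻¹) * g := by group
  rw [e] at h1
  exact h1

theorem conj_le_conj {G : Type*} [Group G] (H P : Subgroup G) (hPH : P ≤ H) (g : G) :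
    (MulAut.conj g • P : Subgroup G) ≤ MulAut.conj g • H := by
  intro a ha
  rw [Cfsg.Agent.S0581.mem_conj_smul] at ha ⊢
  exact hPH ha

/-- The reduction step: both subgroups contain and normalize a common nontrivial subgroup. -/
theorem core.{u} {G : Type u} [Group G] [Finite G]
    (ih : ∀ (G' : Type u) [Group G'] [Finite G'], Nat.card G' < Nat.card G →
      ∀ (H' K' : Subgroup G'), Cfsg.IsSupersolvable H' → Cfsg.IsSupersolvable K' →
        Nat.card H' = Nat.card K' → (Nat.card H').Coprime H'.index →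
        ∃ x : G', MulAut.conj x • H' = K')
    (H K P : Subgroup G) (hH : Cfsg.IsSupersolvable H) (hK : Cfsg.IsSupersolvable K)
    (hcard : Nat.card H = Nat.card K) (hHall : (Nat.card H).Coprime H.index)
    (hPH : P ≤ H) (hPK : P ≤ K) (hHN : H ≤ Subgroup.normalizer (P : Set G))
    (hKN : K ≤ Subgroup.normalizer (P : Set G)) (hP : P ≠ ⊥) :
    ∃ x : G, MulAut.conj x • H = K := by
  set N : Subgroup G := Subgroup.normalizer (P : Set G) with hN
  haveI hP₁n : (P.subgroupOf N).Normal := Subgroup.normal_in_normalizer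
  set P₁ : Subgroup N := P.subgroupOf N with hP₁
  set π : N →* N ⧸ P₁ := QuotientGroup.mk' P₁ with hπ
  have hπs : Function.Surjective π := QuotientGroup.mk'_surjective P₁
  set H₁ : Subgroup N := H.subgroupOf N with hH₁
  set K₁ : Subgroup N := K.subgroupOf N with hK₁
  set Hb : Subgroup (N ⧸ P₁) := H₁.map π with hHb
  set Kb : Subgroup (N ⧸ P₁) := K₁.map π with hKb
  have hPH₁ : P₁ ≤ H₁ := fun x hx => hPH hx
  have hPK₁ : P₁ ≤ K₁ := fun x hx => hPK hx
  have hcomapH : Hb.comap π = H₁ := by
    rw [hHb, Subgroup.comap_map_eq, hπ, QuotientGroup.ker_mk']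
    exact sup_eq_left.mpr hPH₁
  have hcomapK : Kb.comap π = K₁ := by
    rw [hKb, Subgroup.comap_map_eq, hπ, QuotientGroup.ker_mk']
    exact sup_eq_left.mpr hPK₁
  have hcH₁ : Nat.card H₁ = Nat.card H :=
    Nat.card_congr (Subgroup.subgroupOfEquivOfLe hHN).toEquiv
  have hcK₁ : Nat.card K₁ = Nat.card K :=
    Nat.card_congr (Subgroup.subgroupOfEquivOfLe hKN).toEquiv
  have hcHb : Nat.card H = Nat.card Hb * Nat.card P₁ := by
    rw [← hcH₁, ← hcomapH]
    exact Cfsg.Agent.Lib.lead.card_comap_mk' P₁ Hb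
  have hcKb : Nat.card K = Nat.card Kb * Nat.card P₁ := by
    rw [← hcK₁, ← hcomapK]
    exact Cfsg.Agent.Lib.lead.card_comap_mk' P₁ Kb
  have hcb : Nat.card Hb = Nat.card Kb := by
    rw [hcHb, hcKb] at hcard
    exact Nat.eq_of_mul_eq_mul_right Nat.card_pos hcard
  have hHbss : Cfsg.IsSupersolvable Hb :=
    isSupersolvable_of_surjective
      ((π.subgroupMap H₁).comp (Subgroup.subgroupOfEquivOfLe hHN).symm.toMonoidHom)
      ((MonoidHom.subgroupMap_surjective π H₁).comp
        (Subgroup.subgroupOfEquivOfLe hHN).symm.surjective) hH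
  have hKbss : Cfsg.IsSupersolvable Kb :=
    isSupersolvable_of_surjective
      ((π.subgroupMap K₁).comp (Subgroup.subgroupOfEquivOfLe hKN).symm.toMonoidHom)
      ((MonoidHom.subgroupMap_surjective π K₁).comp
        (Subgroup.subgroupOfEquivOfLe hKN).symm.surjective) hK
  have hHbHall : (Nat.card Hb).Coprime Hb.index := by
    have h1 : Nat.card Hb ∣ Nat.card H := ⟨_, hcHb⟩
    have h2 : Hb.index ∣ H.index := by
      rw [← Subgroup.index_comap_of_surjective Hb hπs, hcomapH]
      exact Subgroup.relIndex_dvd_index_of_le hHN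
    exact Nat.Coprime.of_dvd h1 h2 hHall
  have hlt : Nat.card (N ⧸ P₁) < Nat.card G := by
    have h1 := Subgroup.card_eq_card_quotient_mul_card_subgroup P₁
    have h2 : Nat.card P₁ = Nat.card P :=
      Nat.card_congr (Subgroup.subgroupOfEquivOfLe (Subgroup.le_normalizer)).toEquiv
    have h3 : 1 < Nat.card P := (Subgroup.one_lt_card_iff_ne_bot P).mpr hP
    have h4 : Nat.card N ≤ Nat.card G := Subgroup.card_le_card_group N
    have h5 : 0 < Nat.card (N ⧸ P₁) := Nat.card_pos
    rw [h2] at h1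
    nlinarith
  obtain ⟨xb, hxb⟩ := ih (N ⧸ P₁) hlt Hb Kb hHbss hKbss hcb hHbHall
  obtain ⟨x, rfl⟩ := hπs xb
  refine ⟨(x : G), ?_⟩
  have hle : (MulAut.conj (x : G) • H : Subgroup G) ≤ K := by
    intro a ha
    rw [Cfsg.Agent.S0581.mem_conj_smul] at ha
    have hhN : (x : G)⁻¹ * a * (x : G) ∈ N := hHN ha
    have haN : a ∈ N := by
      have h1 : (x : G) * ((x : G)⁻¹ * a * (x : G)) * (x : G)⁻¹ ∈ N :=
        N.mul_mem (N.mul_mem x.2 hhN) (N.inv_mem x.2)
      have e : (x : G) * ((x : G)⁻¹ * a * (x : G)) * (x : G)⁻¹ = a := by group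
      rwa [e] at h1
    have h1 : π ⟨(x : G)⁻¹ * a * (x : G), hhN⟩ ∈ Hb :=
      Subgroup.mem_map_of_mem π (show (⟨(x : G)⁻¹ * a * (x : G), hhN⟩ : N) ∈ H₁ from ha)
    have h2 : π ⟨a, haN⟩ ∈ (MulAut.conj (π x) • Hb : Subgroup (N ⧸ P₁)) := by
      rw [Cfsg.Agent.S0581.mem_conj_smul]
      have e : (π x)⁻¹ * π ⟨a, haN⟩ * π x = π ⟨(x : G)⁻¹ * a * (x : G), hhN⟩ := by
        rw [← map_inv, ← map_mul, ← map_mul]
        rfl
      rw [e]
      exact h1
    rw [hxb] at h2
    have h3 : (⟨a, haN⟩ : N) ∈ Kb.comap π := h2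
    rw [hcomapK] at h3
    exact h3
  exact Subgroup.eq_of_le_of_card_ge hle (by rw [Cfsg.Agent.S0581.card_conj]; exact hcard.ge)

theorem main.{u} : ∀ (n : ℕ) (G : Type u) [Group G] [Finite G], Nat.card G = n →
    ∀ (H K : Subgroup G), Cfsg.IsSupersolvable H → Cfsg.IsSupersolvable K →
      Nat.card H = Nat.card K → (Nat.card H).Coprime H.index →
      ∃ x : G, MulAut.conj x • H = K := by
  intro n
  induction n using Nat.strong_induction_on with
  | _ n ih =>
    intro G _ _ hn H K hH hK hcard hHall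
    by_cases hbot : H = ⊥
    · have hKbot : K = ⊥ := by
        rw [← Subgroup.card_eq_one] at hbot ⊢
        rw [← hcard]
        exact hbot
      exact ⟨1, by rw [hbot, hKbot, Subgroup.smul_bot]⟩
    have hne1 : Nat.card H ≠ 1 := fun h => hbot (Subgroup.card_eq_one.mp h)
    have hnonempty : (Nat.card H).primeFactors.Nonempty :=
      Nat.nonempty_primeFactors.mpr (by have := Nat.card_pos (α := H); omega)
    set p := (Nat.card H).primeFactors.max' hnonempty with hp_def
    have hpmem : p ∈ (Nat.card H).primeFactors := Finset.max'_mem _ hnonempty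
    have hpp : p.Prime := Nat.prime_of_mem_primeFactors hpmem
    have hpd : p ∣ Nat.card H := Nat.dvd_of_mem_primeFactors hpmem
    have hmax : ∀ q : ℕ, q.Prime → q ∣ Nat.card H → q ≤ p := fun q hq hqd =>
      Finset.le_max' _ q (Nat.mem_primeFactors.mpr ⟨hq, hqd, Nat.card_pos.ne'⟩)
    haveI : Fact p.Prime := ⟨hpp⟩
    obtain ⟨S⟩ : Nonempty (Sylow p H) := inferInstance
    obtain ⟨T⟩ : Nonempty (Sylow p K) := inferInstance
    have hSn : (S : Subgroup H).Normal := sylow_normal_of_largest hH p hpd hmax S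
    have hTn : (T : Subgroup K).Normal :=
      sylow_normal_of_largest hK p (hcard ▸ hpd) (fun q hq hqd => hmax q hq (hcard ▸ hqd)) T
    have hidxK : K.index = H.index := by
      have h1 := Subgroup.card_mul_index K
      have h2 := Subgroup.card_mul_index H
      rw [← hcard, ← h2] at h1
      exact Nat.eq_of_mul_eq_mul_left Nat.card_pos h1
    have hSp : IsPGroup p ((S : Subgroup H).map H.subtype) := S.2.map _
    have hSidx : ¬ p ∣ ((S : Subgroup H).map H.subtype).index := by
      rw [Subgroup.index_map_subtype]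
      intro hdvd
      rcases (Nat.Prime.dvd_mul hpp).mp hdvd with h | h
      · exact S.not_dvd_index h
      · have h3 := Nat.dvd_gcd hpd h
        rw [hHall] at h3
        exact hpp.one_lt.ne' (Nat.dvd_one.mp h3)
    have hTp : IsPGroup p ((T : Subgroup K).map K.subtype) := T.2.map _
    have hTidx : ¬ p ∣ ((T : Subgroup K).map K.subtype).index := by
      rw [Subgroup.index_map_subtype]
      intro hdvd
      rcases (Nat.Prime.dvd_mul hpp).mp hdvd with h | h
      · exact T.not_dvd_index h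
      · rw [hidxK] at h
        have h3 := Nat.dvd_gcd hpd h
        rw [hHall] at h3
        exact hpp.one_lt.ne' (Nat.dvd_one.mp h3)
    let P : Sylow p G := hSp.toSylow hSidx
    let Q : Sylow p G := hTp.toSylow hTidx
    have hPH : (P : Subgroup G) ≤ H := Subgroup.map_subtype_le _
    have hQK : (Q : Subgroup G) ≤ K := Subgroup.map_subtype_le _
    have hHP : H ≤ Subgroup.normalizer ((P : Subgroup G) : Set G) := by
      apply Cfsg.Agent.S0048.le_normalizer_of_forall_conj_mem
      rintro k hk x ⟨x', hx', rfl⟩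
      exact ⟨⟨k, hk⟩ * x' * ⟨k, hk⟩⁻¹, hSn.conj_mem x' hx' ⟨k, hk⟩, rfl⟩
    have hKQ : K ≤ Subgroup.normalizer ((Q : Subgroup G) : Set G) := by
      apply Cfsg.Agent.S0048.le_normalizer_of_forall_conj_mem
      rintro k hk x ⟨x', hx', rfl⟩
      exact ⟨⟨k, hk⟩ * x' * ⟨k, hk⟩⁻¹, hTn.conj_mem x' hx' ⟨k, hk⟩, rfl⟩
    obtain ⟨g, hg⟩ := MulAction.exists_smul_eq G P Q
    have hg' : (MulAut.conj g • (P : Subgroup G) : Subgroup G) = (Q : Subgroup G) := by
      rw [← hg, Sylow.coe_subgroup_smul]
    have hQne : (Q : Subgroup G) ≠ ⊥ :=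
      Sylow.ne_bot_of_dvd_card Q (hpd.trans (Subgroup.card_subgroup_dvd_card H))
    have hQH' : (Q : Subgroup G) ≤ MulAut.conj g • H := by
      rw [← hg']
      exact conj_le_conj H P hPH g
    have hH'Q : (MulAut.conj g • H : Subgroup G) ≤
        Subgroup.normalizer ((Q : Subgroup G) : Set G) := by
      rw [← hg']
      exact conj_le_normalizer_conj H P hHP g
    obtain ⟨x, hx⟩ := core
      (fun G' _ _ hlt H' K' h1 h2 h3 h4 => ih (Nat.card G') (hn ▸ hlt) G' rfl H' K' h1 h2 h3 h4)
      (MulAut.conj g • H) K (Q : Subgroup G) (isSupersolvable_conj H hH g) hK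
      (by rw [Cfsg.Agent.S0581.card_conj]; exact hcard)
      (by rw [Cfsg.Agent.S0581.card_conj, Cfsg.Agent.S0581.index_conj]; exact hHall)
      hQH' hQK hH'Q hKQ hQne
    refine ⟨x * g, ?_⟩
    rw [map_mul, mul_smul]
    exact hx

/-- Let H and K be supersolvable subgroups of a finite group G of the same order, that order being coprime to their index. Then H and K are conjugate in G. -/
theorem result {G : Type*} [Group G] [Finite G] (H K : Subgroup G) (hH : Cfsg.IsSupersolvable H) (hK : Cfsg.IsSupersolvable K) (hcard : Nat.card H = Nat.card K) (hHall : (Nat.card H).Coprime H.index) : ∃ x : G, MulAut.conj x • H = K := by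
  exact main _ G rfl H K hH hK hcard hHall

end Cfsg.Agent.S0582
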