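import Cfsg.Statements.S0533
import Cfsg.Agent.S0532
import Cfsg.Agent.S0582
import Cfsg.Agent.Lib.lead.Hall
import Cfsg.Agent.Lib.helper11.Supersolvable
import Cfsg.Agent.Lib.helper12.Supersolvable
import Cfsg.Agent.Lib.helper12.MinNormal
import Cfsg.Agent.Lib.helper12.Conj
import Cfsg.Agent.Lib.helper12.SylowNormal
import Cfsg.Agent.Lib.helper65.Fitting

set_option autoImplicit false
open Cfsg
open scoped Pointwise
open scoped commutatorElement

namespace Cfsg.Agent.S0533

/-- In a finite supersolvable group every nontrivial normal subgroup contains a normal subgroup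
of prime order. -/
theorem exists_normal_prime_card_le {X : Type*} [Group X] [Finite X]
    (hX : Cfsg.IsSupersolvable X) (M : Subgroup X) [hM : M.Normal] (hne : M ≠ ⊥) :
    ∃ E : Subgroup X, E.Normal ∧ (Nat.card E).Prime ∧ E ≤ M := by
  rw [Cfsg.Agent.Lib.helper11.isSupersolvable_iff_chain] at hX
  have key : ∀ L, Relation.ReflTransGen Cfsg.Agent.Lib.helper11.SSStep (⊥ : Subgroup X) L →
      M ⊓ L = ⊥ ∨ ∃ c : X, c ≠ 1 ∧ (Subgroup.zpowers c).Normal ∧ Subgroup.zpowers c ≤ M := by
    intro L hL
    induction hL with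
    | refl => left; exact inf_bot_eq _
    | @tail K L _ hstep ih =>
      rcases ih with ih | ih
      · by_cases hML : M ⊓ L = ⊥
        · exact Or.inl hML
        · right
          obtain ⟨hKn, hLn, g, hg⟩ := hstep
          haveI := hKn
          haveI := hLn
          set C : Subgroup X := M ⊓ L with hC
          have hCn : C.Normal := Subgroup.normal_inf_normal M L
          let f : C →* X ⧸ K := (QuotientGroup.mk' K).comp C.subtype
          have hf : Function.Injective f := by
            rw [injective_iff_map_eq_one]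
            intro x hx
            have h1 : (x : X) ∈ K := by
              have h0 : QuotientGroup.mk' K (x : X) = 1 := hx
              exact (QuotientGroup.eq_one_iff _).mp h0
            have h2 : (x : X) ∈ M ⊓ K := ⟨x.2.1, h1⟩
            rw [ih] at h2
            exact Subtype.ext (Subgroup.mem_bot.mp h2)
          have hrange : ∀ x : C, f x ∈ Subgroup.zpowers (QuotientGroup.mk' K g) := by
            intro x
            have hx' : (x : X) ∈ K ⊔ Subgroup.zpowers g := by rw [← hg]; exact x.2.2
            have h3 : (QuotientGroup.mk' K) (x : X) ∈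
                (K ⊔ Subgroup.zpowers g).map (QuotientGroup.mk' K) :=
              Subgroup.mem_map_of_mem _ hx'
            rw [Subgroup.map_sup, MonoidHom.map_zpowers, QuotientGroup.map_mk'_self,
              bot_sup_eq] at h3
            exact h3
          let f' : C →* Subgroup.zpowers (QuotientGroup.mk' K g) := f.codRestrict _ hrange
          have hf' : Function.Injective f' := fun a b hab => hf (congrArg Subtype.val hab)
          haveI : IsCyclic C := isCyclic_of_injective f' hf'
          obtain ⟨c, hcC⟩ := (Subgroup.isCyclic_iff_exists_zpowers_eq_top C).mp inferInstance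
          refine ⟨c, ?_, ?_, ?_⟩
          · intro h1
            apply hML
            rw [← hcC, h1, Subgroup.zpowers_one_eq_bot]
          · rw [hcC]; exact hCn
          · rw [hcC]; exact inf_le_left
      · exact Or.inr ih
  rcases key ⊤ hX with h | ⟨c, hc1, hcn, hcM⟩
  · rw [inf_top_eq] at h; exact absurd h hne
  · obtain ⟨N, h1, h2, h3⟩ :=
      Cfsg.Agent.Lib.helper12.exists_normal_prime_card_of_normal_zpowers c hc1 hcn
    exact ⟨N, h1, h2, h3.trans hcM⟩

/-- `X ⊔ V` is normal when `V` is normal, `X` lies in a subgroup `U` with `[U, P] ≤ V`, and `X`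
is normalized by a subgroup `L` with `P ⊔ L = ⊤`. -/
theorem normal_sup_of {G : Type*} [Group G] [Finite G] (U V P L X : Subgroup G) [hV : V.Normal]
    (hXU : X ≤ U) (hUP : ⁅U, P⁆ ≤ V) (hLX : L ≤ Subgroup.normalizer (X : Set G))
    (hPL : P ⊔ L = ⊤) : (X ⊔ V).Normal := by
  have hUP' : ⁅P, U⁆ ≤ V := by rw [Subgroup.commutator_comm]; exact hUP
  have hnorm : Subgroup.normalizer ((X ⊔ V : Subgroup G) : Set G) = ⊤ := by
    rw [eq_top_iff, ← hPL]
    apply sup_le
    · intro x hx
      apply Cfsg.Agent.Lib.helper12.mem_normalizer_of_conj_smul_le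
      rw [Cfsg.Agent.Lib.helper12.conj_smul_sup]
      apply sup_le
      · intro y hy
        rw [Cfsg.Agent.Lib.helper12.mem_conj_smul_iff] at hy
        have hdU : x⁻¹ * y * x ∈ U := hXU hy
        have hcomm : ⁅x, x⁻¹ * y * x⁆ ∈ V :=
          hUP' (Subgroup.commutator_mem_commutator hx hdU)
        have e : y = ⁅x, x⁻¹ * y * x⁆ * (x⁻¹ * y * x) := by
          rw [commutatorElement_def]; group
        rw [e]
        exact Subgroup.mul_mem _ (Subgroup.mem_sup_right hcomm) (Subgroup.mem_sup_left hy)
      · rw [Subgroup.Normal.conj_smul_eq_self x V]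
        exact le_sup_right
    · intro l hl
      apply Cfsg.Agent.Lib.helper12.mem_normalizer_of_conj_smul_le
      rw [Cfsg.Agent.Lib.helper12.conj_smul_sup]
      apply sup_le
      · rw [Cfsg.Agent.Lib.helper12.mem_normalizer_iff_conj_smul_eq.mp (hLX hl)]
        exact le_sup_left
      · rw [Subgroup.Normal.conj_smul_eq_self l V]
        exact le_sup_right
  exact Subgroup.normalizer_eq_top_iff.mp hnorm

/-- A normal Sylow subgroup is contained in every subgroup whose order it divides. -/
theorem le_of_card_dvd_of_normal_sylow {G : Type*} [Group G] [Finite G] {p : ℕ} [Fact p.Prime]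
    (P : Sylow p G) [hP : (P : Subgroup G).Normal] (L : Subgroup G)
    (hdvd : Nat.card (P : Subgroup G) ∣ Nat.card L) : (P : Subgroup G) ≤ L := by
  have h1 : Nat.card ((P : Subgroup G) ⊓ L : Subgroup G) * ((P : Subgroup G) ⊓ L).relIndex L
      = Nat.card L := Cfsg.Agent.Lib.helper12.card_mul_relIndex inf_le_right
  rw [Subgroup.inf_relIndex_right] at h1
  have h2 : (P : Subgroup G).relIndex L ∣ (P : Subgroup G).index :=
    Subgroup.relIndex_dvd_index_of_normal _ _
  have h3 : (Nat.card (P : Subgroup G)).Coprime ((P : Subgroup G).relIndex L) :=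
    Nat.Coprime.coprime_dvd_right h2 P.card_coprime_index
  have h4 : Nat.card (P : Subgroup G) ∣ Nat.card ((P : Subgroup G) ⊓ L : Subgroup G) := by
    rw [← h1] at hdvd
    exact h3.dvd_of_dvd_mul_right hdvd
  have h5 : (P : Subgroup G) ⊓ L = P :=
    Subgroup.eq_of_le_of_card_ge inf_le_left (Nat.le_of_dvd Nat.card_pos h4)
  rw [← h5]; exact inf_le_right

/-- The hereditary converse-of-Lagrange hypothesis passes to the quotient by a normal Sylow
subgroup. -/
theorem hyp_quotient {G : Type*} [Group G] [Finite G]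
    (h : ∀ H : Subgroup G, Cfsg.HasSubgroupOfEveryOrder H)
    {p : ℕ} [Fact p.Prime] (P : Sylow p G) [hP : (P : Subgroup G).Normal] :
    ∀ Hb : Subgroup (G ⧸ (P : Subgroup G)), Cfsg.HasSubgroupOfEveryOrder Hb := by
  intro Hb d hd
  set π := QuotientGroup.mk' (P : Subgroup G) with hπ
  set H : Subgroup G := Hb.comap π with hH
  have hcH : Nat.card H = Nat.card Hb * Nat.card (P : Subgroup G) :=
    Cfsg.Agent.Lib.lead.card_comap_mk' _ Hb
  obtain ⟨L₀, hL₀⟩ := h H (d * Nat.card (P : Subgroup G))
    (by rw [hcH]; exact Nat.mul_dvd_mul_right hd _)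
  set L : Subgroup G := L₀.map H.subtype with hL
  have hcL : Nat.card L = d * Nat.card (P : Subgroup G) := by
    rw [hL, Subgroup.card_map_of_injective H.subtype_injective]; exact hL₀
  have hLH : L ≤ H := Subgroup.map_subtype_le _
  have hPL : (P : Subgroup G) ≤ L :=
    le_of_card_dvd_of_normal_sylow P L (by rw [hcL]; exact dvd_mul_left _ _)
  set Lb : Subgroup (G ⧸ (P : Subgroup G)) := L.map π with hLb
  have hcomap : Lb.comap π = L := by
    rw [hLb, Subgroup.comap_map_eq, hπ, QuotientGroup.ker_mk']
    exact sup_eq_left.mpr hPL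
  have hcLb : Nat.card Lb = d := by
    have h1 := Cfsg.Agent.Lib.lead.card_comap_mk' (P : Subgroup G) Lb
    rw [hcomap, hcL] at h1
    exact (Nat.eq_of_mul_eq_mul_right Nat.card_pos h1).symm
  have hLbHb : Lb ≤ Hb := by
    rw [hLb, Subgroup.map_le_iff_le_comap]; exact hLH
  exact ⟨Lb.subgroupOf Hb, by
    rw [Nat.card_congr (Subgroup.subgroupOfEquivOfLe hLbHb).toEquiv]; exact hcLb⟩

/-- A group with a normal `p`-subgroup `P`, supersolvable quotient `G ⧸ P`, and all `P`-central
chief factors below `P` of order `p`, is supersolvable. -/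
theorem isSupersolvable_of_chief.{u} {p : ℕ} [hp : Fact p.Prime] :
    ∀ (n : ℕ) (G : Type u) [Group G] [Finite G] (P : Subgroup G) [P.Normal],
    IsPGroup p P → Nat.card P = n → Cfsg.IsSupersolvable (G ⧸ P) →
    (∀ V U : Subgroup G, V.Normal → U.Normal → V < U → U ≤ P → ⁅U, P⁆ ≤ V →
      (∀ M : Subgroup G, M.Normal → V ≤ M → M ≤ U → M = V ∨ M = U) → V.relIndex U = p) →
    Cfsg.IsSupersolvable G := by
  intro n
  induction n using Nat.strong_induction_on with
  | _ n ih =>
    intro G _ _ P hPn hPp hcard hquot hCF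
    by_cases hbot : P = ⊥
    · subst hbot
      exact Cfsg.Agent.Lib.helper12.isSupersolvable_of_quotient (⊥ : Subgroup G) hquot
    -- the centre of `P`, as a normal subgroup of `G`
    set Z : Subgroup G := P ⊓ Subgroup.centralizer (P : Set G) with hZ
    have hZn : Z.Normal := Subgroup.normal_inf_normal _ _
    have hZne : Z ≠ ⊥ := by
      haveI : Nontrivial P := (Subgroup.nontrivial_iff_ne_bot P).mpr hbot
      haveI : Nontrivial (Subgroup.center P) := hPp.center_nontrivial
      obtain ⟨z, hz⟩ := exists_ne (1 : Subgroup.center P)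
      intro hZbot
      have hzZ : ((z : P) : G) ∈ Z := by
        refine ⟨(z : P).2, Subgroup.mem_centralizer_iff.mpr ?_⟩
        intro x hx
        have h1 := (Subgroup.mem_center_iff.mp z.2) ⟨x, hx⟩
        exact congrArg Subtype.val h1
      rw [hZbot, Subgroup.mem_bot] at hzZ
      apply hz
      apply Subtype.ext
      apply Subtype.ext
      exact hzZ
    obtain ⟨N, hNZ, hNne, hNn, hNmin⟩ :=
      Cfsg.Agent.Lib.helper12.exists_minimal_normal_le Z hZne
    haveI := hNn
    have hNP : N ≤ P := hNZ.trans inf_le_left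
    have hNC : N ≤ Subgroup.centralizer (P : Set G) := hNZ.trans inf_le_right
    have hcN : Nat.card N = p := by
      have h1 := hCF ⊥ N inferInstance hNn (bot_lt_iff_ne_bot.mpr hNne) hNP
        (by rw [Subgroup.commutator_eq_bot_iff_le_centralizer.mpr hNC])
        (fun M hM _ hMN => hNmin M hM hMN)
      rwa [Subgroup.relIndex_bot_left] at h1
    haveI : IsCyclic N := isCyclic_of_prime_card hcN
    set π := QuotientGroup.mk' N with hπ
    have hπs : Function.Surjective π := QuotientGroup.mk'_surjective N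
    set Pb : Subgroup (G ⧸ N) := P.map π with hPb
    haveI hPbn : Pb.Normal := hPn.map π hπs
    have hPbp : IsPGroup p Pb := hPp.map π
    have hcomapP : Pb.comap π = P := by
      rw [hPb, Subgroup.comap_map_eq, hπ, QuotientGroup.ker_mk']
      exact sup_eq_left.mpr hNP
    have hcPb : Nat.card P = Nat.card Pb * Nat.card N := by
      have h1 := Cfsg.Agent.Lib.lead.card_comap_mk' N Pb
      rwa [hcomapP] at h1
    have hlt : Nat.card Pb < n := by
      rw [← hcard, hcPb, hcN]
      have h1 : 0 < Nat.card Pb := Nat.card_pos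
      have h2 := hp.out.one_lt
      nlinarith
    have hquot' : Cfsg.IsSupersolvable ((G ⧸ N) ⧸ Pb) := by
      let e := QuotientGroup.quotientQuotientEquivQuotient N P hNP
      exact Cfsg.Agent.S0582.isSupersolvable_of_surjective e.symm.toMonoidHom e.symm.surjective hquot
    have hCF' : ∀ Vb Ub : Subgroup (G ⧸ N), Vb.Normal → Ub.Normal → Vb < Ub → Ub ≤ Pb →
        ⁅Ub, Pb⁆ ≤ Vb →
        (∀ M : Subgroup (G ⧸ N), M.Normal → Vb ≤ M → M ≤ Ub → M = Vb ∨ M = Ub) →
        Vb.relIndex Ub = p := by
      intro Vb Ub hVb hUb hVU hUP hcomm hchief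
      have hmapU : (Ub.comap π).map π = Ub := Subgroup.map_comap_eq_self_of_surjective hπs Ub
      have hmapV : (Vb.comap π).map π = Vb := Subgroup.map_comap_eq_self_of_surjective hπs Vb
      have h1 := hCF (Vb.comap π) (Ub.comap π) (hVb.comap π) (hUb.comap π)
        ((Subgroup.comap_lt_comap_of_surjective hπs).mpr hVU)
        (by rw [← hcomapP]; exact Subgroup.comap_mono hUP)
        (by
          rw [Subgroup.commutator_le]
          intro u hu x hx
          have h2 : ⁅π u, π x⁆ ∈ ⁅Ub, Pb⁆ :=
            Subgroup.commutator_mem_commutator hu (Subgroup.mem_map_of_mem π hx)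
          rw [← map_commutatorElement] at h2
          exact hcomm h2)
        (by
          intro M hM hVM hMU
          have hNM : N ≤ M := by
            refine le_trans ?_ hVM
            intro x hx
            have h3 : π x = 1 := (QuotientGroup.eq_one_iff x).mpr hx
            show π x ∈ Vb
            rw [h3]; exact Vb.one_mem
          have hcm : (M.map π).comap π = M := by
            rw [Subgroup.comap_map_eq, hπ, QuotientGroup.ker_mk']
            exact sup_eq_left.mpr hNM
          rcases hchief (M.map π) (hM.map π hπs)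
            (by rw [← hmapV]; exact Subgroup.map_mono hVM)
            (by rw [← hmapU]; exact Subgroup.map_mono hMU) with h4 | h4
          · left; rw [← hcm, h4]
          · right; rw [← hcm, h4])
      rw [Subgroup.relIndex_comap, hmapU] at h1
      exact h1
    have hss : Cfsg.IsSupersolvable (G ⧸ N) :=
      ih (Nat.card Pb) hlt (G ⧸ N) Pb hPbp rfl hquot' hCF'
    exact Cfsg.Agent.Lib.helper12.isSupersolvable_of_quotient N hss

/-- The key step: under the hereditary converse-of-Lagrange hypothesis (and supersolvability of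
all smaller groups with that hypothesis), a `P`-central chief factor below a normal Sylow
`p`-subgroup `P` has order `p`. -/
theorem chief_index.{u} {G : Type u} [Group G] [Finite G]
    (h : ∀ H : Subgroup G, Cfsg.HasSubgroupOfEveryOrder H)
    (ih : ∀ (G' : Type u) [Group G'] [Finite G'], Nat.card G' < Nat.card G →
      (∀ H : Subgroup G', Cfsg.HasSubgroupOfEveryOrder H) → Cfsg.IsSupersolvable G')
    {p : ℕ} [hp : Fact p.Prime] (P : Sylow p G) [hPn : (P : Subgroup G).Normal] (K : Subgroup G)
    (hK : Subgroup.IsComplement' (P : Subgroup G) K)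
    (V U : Subgroup G) [hVn : V.Normal] [hUn : U.Normal] (hVU : V < U) (hUP : U ≤ P)
    (hcomm : ⁅U, (P : Subgroup G)⁆ ≤ V)
    (hchief : ∀ M : Subgroup G, M.Normal → V ≤ M → M ≤ U → M = V ∨ M = U) :
    V.relIndex U = p := by
  have hpp := hp.out
  have hcPK : Nat.card (P : Subgroup G) * Nat.card K = Nat.card G := hK.card_mul_card
  have hKidx : Nat.card K = (P : Subgroup G).index := by
    have h1 := Subgroup.card_mul_index (P : Subgroup G)
    rw [← hcPK] at h1
    exact (Nat.eq_of_mul_eq_mul_left Nat.card_pos h1).symm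
  have hpK : ¬ p ∣ Nat.card K := by rw [hKidx]; exact P.not_dvd_index
  have hcopK : (p : ℕ).Coprime (Nat.card K) := (Nat.Prime.coprime_iff_not_dvd hpp).mpr hpK
  have hUp : IsPGroup p U := P.2.to_le hUP
  obtain ⟨j, hj⟩ := IsPGroup.iff_card.mp hUp
  have hcVU : Nat.card V * V.relIndex U = Nat.card U :=
    Cfsg.Agent.Lib.helper12.card_mul_relIndex hVU.le
  set a := Nat.card V with ha
  set r := V.relIndex U with hr
  have hapos : 0 < a := Nat.card_pos
  have hkpos : 0 < Nat.card K := Nat.card_pos
  have hr1 : r ≠ 1 := by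
    intro h1
    rw [h1, mul_one] at hcVU
    exact hVU.ne (Subgroup.eq_of_le_of_card_ge hVU.le (by rw [← ha, hcVU]))
  have hrdvd : r ∣ p ^ j := by rw [← hj, ← hcVU]; exact dvd_mul_left _ _
  obtain ⟨i, -, hi⟩ := (Nat.dvd_prime_pow hpp).mp hrdvd
  have hi0 : i ≠ 0 := by
    rintro rfl
    exact hr1 (by rw [hi, pow_zero])
  have hpr : p ∣ r := by rw [hi]; exact dvd_pow_self p hi0
  by_cases hrp : r = p
  · exact hrp
  have hplt : p < r := by
    have h1 : p ≤ r := Nat.le_of_dvd (by rw [hi]; exact pow_pos hpp.pos i) hpr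
    omega
  -- the subgroup `H = U K`
  set H : Subgroup G := U ⊔ K with hH
  have hKU : K ≤ Subgroup.normalizer (U : Set G) := by
    rw [Subgroup.normalizer_eq_top]; exact le_top
  have hcH1 : Nat.card H ∣ Nat.card K * Nat.card U := by
    have h1 := Cfsg.Agent.Lib.helper65.card_sup_dvd_mul (H := K) (N := U) hKU
    rwa [sup_comm] at h1
  have hcopUK : (Nat.card U).Coprime (Nat.card K) := by
    rw [hj]; exact Nat.Coprime.pow_left j hcopK
  have hcH2 : Nat.card U * Nat.card K ∣ Nat.card H :=
    Nat.Coprime.mul_dvd_of_dvd_of_dvd hcopUK (Subgroup.card_dvd_of_le le_sup_left)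
      (Subgroup.card_dvd_of_le le_sup_right)
  have hcH : Nat.card H = Nat.card U * Nat.card K :=
    Nat.dvd_antisymm (by rw [mul_comm]; exact hcH1) hcH2
  have hd : p * a * Nat.card K ∣ Nat.card H := by
    rw [hcH, ← hcVU]
    apply Nat.mul_dvd_mul_right
    rw [mul_comm p a]
    exact Nat.mul_dvd_mul_left a hpr
  obtain ⟨L₀, hL₀⟩ := h H (p * a * Nat.card K) hd
  set L : Subgroup G := L₀.map H.subtype with hL
  have hcL : Nat.card L = p * a * Nat.card K := by
    rw [hL, Subgroup.card_map_of_injective H.subtype_injective]; exact hL₀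
  have hLH : L ≤ H := Subgroup.map_subtype_le _
  -- `D = L ⊓ U` has order at least `p a`
  have hUH : U.relIndex H = Nat.card K := by
    have h1 := Cfsg.Agent.Lib.helper12.card_mul_relIndex (le_sup_left : U ≤ H)
    rw [hcH] at h1
    exact Nat.eq_of_mul_eq_mul_left Nat.card_pos h1
  have hDrel : (L ⊓ U).relIndex L ∣ Nat.card K := by
    rw [Subgroup.inf_relIndex_left, ← Subgroup.relIndex_sup_right L U, ← hUH,
      ← Subgroup.relIndex_mul_relIndex U (L ⊔ U) H le_sup_right (sup_le hLH le_sup_left)]
    exact dvd_mul_right _ _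
  have hcD : Nat.card (L ⊓ U : Subgroup G) * (L ⊓ U).relIndex L = Nat.card L :=
    Cfsg.Agent.Lib.helper12.card_mul_relIndex inf_le_left
  have hcDge : p * a ≤ Nat.card (L ⊓ U : Subgroup G) := by
    obtain ⟨t, ht⟩ := hDrel
    have hrelpos : 0 < (L ⊓ U).relIndex L := by
      rcases Nat.eq_zero_or_pos ((L ⊓ U).relIndex L) with h0 | h0
      · rw [h0, zero_mul] at ht; omega
      · exact h0
    have htpos : 0 < t := by
      rcases Nat.eq_zero_or_pos t with h0 | h0
      · rw [h0, mul_zero] at ht; omega
      · exact h0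
    rw [hcL, ht] at hcD
    have h2 : Nat.card (L ⊓ U : Subgroup G) * (L ⊓ U).relIndex L
        = (p * a * t) * (L ⊓ U).relIndex L := by rw [hcD]; ring
    have h3 := Nat.eq_of_mul_eq_mul_right hrelpos h2
    rw [h3]
    exact Nat.le_mul_of_pos_right _ htpos
  have hcW : Nat.card (L ⊓ V : Subgroup G) ≤ a := Subgroup.card_le_of_le inf_le_right
  have hplt' : a < p * a := by
    have := hpp.one_lt
    nlinarith
  -- `P ⊔ L = ⊤`
  have hPL : (P : Subgroup G) ⊔ L = ⊤ := by
    apply Subgroup.eq_top_of_le_card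
    apply Nat.le_of_dvd Nat.card_pos
    rw [← hcPK]
    apply Nat.Coprime.mul_dvd_of_dvd_of_dvd
    · obtain ⟨m, hm⟩ := IsPGroup.iff_card.mp P.2
      rw [hm]; exact Nat.Coprime.pow_left m hcopK
    · exact Subgroup.card_dvd_of_le le_sup_left
    · exact dvd_trans (by rw [hcL]; exact dvd_mul_left _ _) (Subgroup.card_dvd_of_le le_sup_right)
  -- `L` is a proper subgroup, hence supersolvable
  have hLlt : Nat.card L < Nat.card G := by
    have h1 : Nat.card U ≤ Nat.card (P : Subgroup G) := Subgroup.card_le_of_le hUP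
    have h2 : p * a < Nat.card U := by
      rw [← hcVU, mul_comm p a]
      exact Nat.mul_lt_mul_of_pos_left hplt hapos
    rw [hcL, ← hcPK]
    nlinarith
  have hLss : Cfsg.IsSupersolvable L := ih L hLlt (Cfsg.Agent.S0532.hyp_subgroup h L)
  -- inside `L`
  set D₁ : Subgroup L := U.subgroupOf L with hD₁
  set W₁ : Subgroup L := V.subgroupOf L with hW₁
  have hWD : W₁ ≤ D₁ := fun x hx => hVU.le hx
  have hcD₁ : Nat.card D₁ = Nat.card (L ⊓ U : Subgroup G) := by
    rw [hD₁, ← Subgroup.inf_subgroupOf_left U L]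
    exact Nat.card_congr (Subgroup.subgroupOfEquivOfLe inf_le_left).toEquiv
  have hcW₁ : Nat.card W₁ = Nat.card (L ⊓ V : Subgroup G) := by
    rw [hW₁, ← Subgroup.inf_subgroupOf_left V L]
    exact Nat.card_congr (Subgroup.subgroupOfEquivOfLe inf_le_left).toEquiv
  have hWDne : ¬ D₁ ≤ W₁ := by
    intro hle
    have h1 := Subgroup.card_le_of_le hle
    rw [hcD₁, hcW₁] at h1
    omega
  set πL := QuotientGroup.mk' W₁ with hπL
  have hπLs : Function.Surjective πL := QuotientGroup.mk'_surjective W₁
  have hQss : Cfsg.IsSupersolvable (L ⧸ W₁) :=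
    Cfsg.Agent.Lib.helper11.isSupersolvable_quotient hLss W₁
  set Mb : Subgroup (L ⧸ W₁) := D₁.map πL with hMb
  haveI hMbn : Mb.Normal := Subgroup.Normal.map inferInstance πL hπLs
  have hMbne : Mb ≠ ⊥ := by
    intro hbot
    rw [hMb, Subgroup.map_eq_bot_iff, hπL, QuotientGroup.ker_mk'] at hbot
    exact hWDne hbot
  obtain ⟨Eb, hEbn, hEbp, hEbM⟩ := exists_normal_prime_card_le hQss Mb hMbne
  set E₁ : Subgroup L := Eb.comap πL with hE₁
  have hE₁n : E₁.Normal := hEbn.comap πL
  have hcE₁ : Nat.card E₁ = Nat.card Eb * Nat.card W₁ :=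
    Cfsg.Agent.Lib.lead.card_comap_mk' W₁ Eb
  have hW₁E₁ : W₁ ≤ E₁ := by
    intro x hx
    have h3 : πL x = 1 := (QuotientGroup.eq_one_iff x).mpr hx
    show πL x ∈ Eb
    rw [h3]; exact Eb.one_mem
  have hE₁D₁ : E₁ ≤ D₁ := by
    have h1 : E₁ ≤ Mb.comap πL := Subgroup.comap_mono hEbM
    rw [hMb, Subgroup.comap_map_eq, hπL, QuotientGroup.ker_mk', sup_eq_left.mpr hWD] at h1
    exact h1
  set E : Subgroup G := E₁.map L.subtype with hE
  have hEL : E ≤ L := Subgroup.map_subtype_le _
  have hEU : E ≤ U := by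
    rintro _ ⟨x, hx, rfl⟩
    exact hE₁D₁ hx
  have hcE : Nat.card E = Nat.card Eb * Nat.card (L ⊓ V : Subgroup G) := by
    rw [hE, Subgroup.card_map_of_injective L.subtype_injective, hcE₁, hcW₁]
  have hWE : L ⊓ V ≤ E := by
    intro x hx
    exact ⟨⟨x, hx.1⟩, hW₁E₁ (show (⟨x, hx.1⟩ : L) ∈ V.subgroupOf L from hx.2), rfl⟩
  -- the prime is `p`
  have hEbp' : Nat.card Eb = p := by
    have hEp : IsPGroup p E := hUp.to_le hEU
    obtain ⟨m, hm⟩ := IsPGroup.iff_card.mp hEp
    have h1 : Nat.card Eb ∣ p ^ m := by rw [← hm, hcE]; exact dvd_mul_right _ _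
    exact (Nat.prime_dvd_prime_iff_eq hEbp hpp).mp (hEbp.dvd_of_dvd_pow h1)
  have hLE : L ≤ Subgroup.normalizer (E : Set G) := by
    have h1 : E.subgroupOf L = E₁ := by
      rw [hE]
      exact Subgroup.comap_map_eq_self_of_injective L.subtype_injective E₁
    exact (Subgroup.normal_subgroupOf_iff_le_normalizer hEL).mp (h1 ▸ hE₁n)
  have hEVn : (E ⊔ V).Normal := normal_sup_of U V (P : Subgroup G) L E hEU hcomm hLE hPL
  rcases hchief (E ⊔ V) hEVn le_sup_right (sup_le hEU hVU.le) with h1 | h1
  · exfalso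
    have h2 : E ≤ L ⊓ V := le_inf hEL (by rw [← h1]; exact le_sup_left)
    have h3 := Subgroup.card_le_of_le h2
    rw [hcE, hEbp'] at h3
    have h4 : 0 < Nat.card (L ⊓ V : Subgroup G) := Nat.card_pos
    have := hpp.one_lt
    nlinarith
  · have h2 : V ⊓ E = L ⊓ V := by
      apply le_antisymm
      · exact le_inf (inf_le_right.trans hEL) inf_le_left
      · exact le_inf inf_le_right hWE
    have h3 : V.relIndex U = (L ⊓ V).relIndex E := by
      rw [← h1, Subgroup.relIndex_sup_right E V, ← Subgroup.inf_relIndex_right V E, h2]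
    have h4 : Nat.card (L ⊓ V : Subgroup G) * (L ⊓ V).relIndex E = Nat.card E :=
      Cfsg.Agent.Lib.helper12.card_mul_relIndex hWE
    rw [hcE, hEbp', mul_comm] at h4
    rw [hr, h3]
    exact Nat.eq_of_mul_eq_mul_right Nat.card_pos h4

theorem main.{u} : ∀ (n : ℕ) (G : Type u) [Group G] [Finite G], Nat.card G = n →
    (∀ H : Subgroup G, Cfsg.HasSubgroupOfEveryOrder H) → Cfsg.IsSupersolvable G := by
  intro n
  induction n using Nat.strong_induction_on with
  | _ n ih =>
    intro G _ _ hn h
    by_cases h1 : Nat.card G = 1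
    · haveI : Subsingleton G := (Nat.card_eq_one_iff_unique.mp h1).1
      exact ⟨0, fun _ => ⊥, rfl, Subsingleton.elim _ _, fun _ => inferInstance,
        fun i => i.elim0⟩
    have hnonempty : (Nat.card G).primeFactors.Nonempty :=
      Nat.nonempty_primeFactors.mpr (by have := Nat.card_pos (α := G); omega)
    set p := (Nat.card G).primeFactors.max' hnonempty with hp_def
    have hpmem : p ∈ (Nat.card G).primeFactors := Finset.max'_mem _ hnonempty
    have hpp : p.Prime := Nat.prime_of_mem_primeFactors hpmem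
    have hpd : p ∣ Nat.card G := Nat.dvd_of_mem_primeFactors hpmem
    have hmax : ∀ q : ℕ, q.Prime → q ∣ Nat.card G → q ≤ p := fun q hq hqd =>
      Finset.le_max' _ q (Nat.mem_primeFactors.mpr ⟨hq, hqd, Nat.card_pos.ne'⟩)
    haveI : Fact p.Prime := ⟨hpp⟩
    obtain ⟨P⟩ : Nonempty (Sylow p G) := inferInstance
    haveI hPn : (P : Subgroup G).Normal := Cfsg.Agent.S0532.result h p hpd hmax P
    have hPne : (P : Subgroup G) ≠ ⊥ := Sylow.ne_bot_of_dvd_card P hpd
    have hquot : Cfsg.IsSupersolvable (G ⧸ (P : Subgroup G)) :=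
      ih _ (hn ▸ Cfsg.Agent.Lib.helper12.card_quotient_lt _ hPne) _ rfl (hyp_quotient h P)
    obtain ⟨K, hK⟩ := Subgroup.exists_right_complement'_of_coprime P.card_coprime_index
    exact isSupersolvable_of_chief (p := p) _ G (P : Subgroup G) P.2 rfl hquot
      (fun V U hV hU hVU hUP hcomm hchief => by
        haveI := hV
        haveI := hU
        exact chief_index h (fun G' _ _ hlt h' => ih _ (hn ▸ hlt) G' rfl h') P K hK V U hVU hUP
          hcomm hchief)

/-- If every subgroup of a finite group has subgroups of all orders dividing its order, then the group is supersolvable. -/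
theorem result {G : Type*} [Group G] [Finite G] (h : ∀ H : Subgroup G, Cfsg.HasSubgroupOfEveryOrder H) : Cfsg.IsSupersolvable G := by
  exact main _ G rfl h

end Cfsg.Agent.S0533
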