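import Cfsg.Statements.S0534
import Mathlib
import Cfsg.Agent.S0531
import Cfsg.Agent.Lib.helper12.Supersolvable
import Cfsg.Agent.Lib.lead.Hall

set_option autoImplicit false
open Cfsg

namespace Cfsg.Agent.S0534

open Cfsg.Agent.Lib.helper12 Cfsg.Agent.Lib.helper11

universe u

/-- Finite abelian groups are supersolvable. -/
theorem isSupersolvable_of_commGroup : ∀ (n : ℕ) (A : Type u) [CommGroup A] [Finite A],
    Nat.card A = n → Cfsg.IsSupersolvable A := by
  intro n
  induction n using Nat.strong_induction_on with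
  | _ n ih =>
    intro A _ _ hn
    by_cases hA1 : Nontrivial A
    · obtain ⟨g, hg⟩ := exists_ne (1 : A)
      have hNbot : Subgroup.zpowers g ≠ ⊥ := Subgroup.zpowers_ne_bot.mpr hg
      have hlt : Nat.card (A ⧸ Subgroup.zpowers g) < n := hn ▸ card_quotient_lt _ hNbot
      exact isSupersolvable_of_quotient (Subgroup.zpowers g)
        (ih _ hlt (A ⧸ Subgroup.zpowers g) rfl)
    · rw [not_nontrivial_iff_subsingleton] at hA1
      exact ⟨0, fun _ => ⊥, rfl, Subsingleton.elim _ _, fun _ => inferInstance, fun i => i.elim0⟩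

theorem numeric (g a : ℕ) (hg0 : g ≠ 0) (ha0 : a ≠ 0)
    (hA : ∀ p : ℕ, p.Prime → p ∣ a → p ∣ g)
    (hexp : ∀ p : ℕ, p.Prime → p ∣ g → a.factorization p + 1 = g.factorization p) :
    ∀ d : ℕ, d ∣ g * a →
      ∃ m b n : ℕ, d = m * b ∧ b ∣ a ∧ g = m * n ∧ m.Coprime n ∧ m ∣ d ∧ b ∣ d := by
  intro d
  induction d using Nat.recOnPosPrimePosCoprime with
  | prime_pow p e hp he =>
    intro hd
    have hpg : p ∣ g := by
      have : p ∣ g * a := (dvd_pow_self p he.ne').trans hd
      rcases (Nat.Prime.dvd_mul hp).mp this with h | h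
      · exact h
      · exact hA p hp h
    have h1 := hexp p hp hpg
    have h2 : e ≤ (g * a).factorization p :=
      (hp.pow_dvd_iff_le_factorization (mul_ne_zero hg0 ha0)).mp hd
    rw [Nat.factorization_mul hg0 ha0, Finsupp.add_apply] at h2
    by_cases hle : e ≤ a.factorization p
    · exact ⟨1, p ^ e, g, by ring, (hp.pow_dvd_iff_le_factorization ha0).mpr hle, by ring,
        Nat.coprime_one_left g, one_dvd _, dvd_rfl⟩
    · push Not at hle
      refine ⟨p ^ g.factorization p, p ^ (e - g.factorization p), g / p ^ g.factorization p,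
        ?_, ?_, ?_, ?_, ?_, ?_⟩
      · rw [← pow_add]; congr 1; omega
      · exact (hp.pow_dvd_iff_le_factorization ha0).mpr (by omega)
      · exact (Nat.ordProj_mul_ordCompl_eq_self g p).symm
      · exact Nat.Coprime.pow_left _ (Nat.coprime_ordCompl hp hg0)
      · exact pow_dvd_pow p (by omega)
      · exact pow_dvd_pow p (by omega)
  | zero => intro hd; exact absurd (zero_dvd_iff.mp hd) (mul_ne_zero hg0 ha0)
  | one =>
    intro _
    exact ⟨1, 1, g, rfl, one_dvd _, (one_mul g).symm, Nat.coprime_one_left g, dvd_rfl, dvd_rfl⟩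
  | coprime d₁ d₂ h1 h2 hcop ih1 ih2 =>
    intro hd
    obtain ⟨m₁, b₁, n₁, e1, hb1, hg1, hc1, hm1d, hb1d⟩ := ih1 ((dvd_mul_right d₁ d₂).trans hd)
    obtain ⟨m₂, b₂, n₂, e2, hb2, hg2, hc2, hm2d, hb2d⟩ := ih2 ((dvd_mul_left d₂ d₁).trans hd)
    have hmm : m₁.Coprime m₂ :=
      Nat.Coprime.coprime_dvd_left hm1d (Nat.Coprime.coprime_dvd_right hm2d hcop)
    have hbb : b₁.Coprime b₂ :=
      Nat.Coprime.coprime_dvd_left hb1d (Nat.Coprime.coprime_dvd_right hb2d hcop)
    have hm2n1 : m₂ ∣ n₁ := by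
      have : m₂ ∣ m₁ * n₁ := hg1 ▸ ⟨n₂, hg2⟩
      exact hmm.symm.dvd_of_dvd_mul_left this
    obtain ⟨n', hn'⟩ := hm2n1
    have hn2 : n₂ = m₁ * n' := by
      have hm2pos : 0 < m₂ := Nat.pos_of_ne_zero (by
        rintro rfl
        rw [zero_mul] at hg2
        exact hg0 hg2)
      have : m₂ * n₂ = m₂ * (m₁ * n') := by rw [← hg2, hg1, hn']; ring
      exact Nat.eq_of_mul_eq_mul_left hm2pos this
    refine ⟨m₁ * m₂, b₁ * b₂, n', ?_, ?_, ?_, ?_, ?_, ?_⟩
    · rw [e1, e2]; ring
    · exact hbb.mul_dvd_of_dvd_of_dvd hb1 hb2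
    · rw [hg1, hn']; ring
    · apply Nat.Coprime.mul_left
      · exact Nat.Coprime.coprime_dvd_right ⟨m₂, by rw [hn']; ring⟩ hc1
      · exact Nat.Coprime.coprime_dvd_right ⟨m₁, by rw [hn2]; ring⟩ hc2
    · exact mul_dvd_mul hm1d hm2d
    · exact mul_dvd_mul hb1d hb2d

/-- Let G be a finite solvable group and A a finite abelian group such that every prime dividing the order of A divides the order of G and, for each prime p dividing the order of G, the exponent of p in the order of A is one less than its exponent in the order of G. Then G × A has a subgroup of every order dividing its order. -/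
theorem result {G A : Type*} [Group G] [CommGroup A] [Finite G] [Finite A] [Group.IsSolvable G] (hA : ∀ p : ℕ, p.Prime → p ∣ Nat.card A → p ∣ Nat.card G) (hexp : ∀ p : ℕ, p.Prime → p ∣ Nat.card G → (Nat.card A).factorization p + 1 = (Nat.card G).factorization p) : Cfsg.HasSubgroupOfEveryOrder (G × A) := by
  intro d hd
  rw [Nat.card_prod] at hd
  obtain ⟨m, b, n, hdmb, hba, hgmn, hcop, -, -⟩ := numeric (Nat.card G) (Nat.card A)
    Nat.card_pos.ne' Nat.card_pos.ne' hA hexp d hd
  obtain ⟨H, hH⟩ := Cfsg.Agent.Lib.lead.exists_subgroup_card_eq_of_isSolvable hgmn hcop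
  obtain ⟨B, hB⟩ := Cfsg.Agent.S0531.clt_of_supersolvable _ A rfl
    (isSupersolvable_of_commGroup _ A rfl) b hba
  refine ⟨H.prod B, ?_⟩
  rw [Nat.card_congr (Subgroup.prodEquiv H B).toEquiv, Nat.card_prod, hH, hB, hdmb]

end Cfsg.Agent.S0534
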