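import Cfsg.Statements.S0535
import Cfsg.Agent.S0003
import Cfsg.Agent.S0006

set_option autoImplicit false
open Cfsg

namespace Cfsg.Agent.S0535

/-- Suppose that for every nontrivial subgroup H of a finite group and every prime p dividing the order of H there is a proper subgroup of H whose index in H is a power of p. Then the group is solvable. -/
theorem result {G : Type*} [Group G] [Finite G] (h : ∀ H : Subgroup G, H ≠ ⊥ → ∀ p : ℕ, p.Prime → p ∣ Nat.card H → ∃ K : Subgroup H, K ≠ ⊤ ∧ ∃ k : ℕ, K.index = p ^ k) : Group.IsSolvable G := by
  have key : ∀ n : ℕ, ∀ H : Subgroup G, Nat.card H = n → Group.IsSolvable H := by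
    intro n
    induction n using Nat.strong_induction_on with
    | _ n ih =>
      intro H hHn
      by_cases hbot : H = ⊥
      · subst hbot
        infer_instance
      apply Cfsg.Agent.S0006.result
      intro p hp
      by_cases hdvd : p ∣ Nat.card H
      · obtain ⟨K, hKtop, k, hk⟩ := h H hbot p hp hdvd
        -- K is solvable by induction
        have hKcard : Nat.card (K.map H.subtype) = Nat.card K :=
          Subgroup.card_map_of_injective H.subtype_injective
        have hKlt : Nat.card K < Nat.card H := by
          by_contra hge
          push_neg at hge
          exact hKtop (Subgroup.eq_top_of_le_card _ hge)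
        have hsolv' : Group.IsSolvable (K.map H.subtype) :=
          ih _ (by rw [hKcard, ← hHn]; exact hKlt) _ rfl
        haveI : Group.IsSolvable K :=
          solvable_of_solvable_injective
            (f := (K.equivMapOfInjective H.subtype H.subtype_injective).toMonoidHom)
            (K.equivMapOfInjective H.subtype H.subtype_injective).injective
        -- Hall p-complement of K
        have hKne : Nat.card K ≠ 0 := Nat.card_pos.ne'
        set c := (Nat.card K).factorization p with hc
        set m := Nat.card K / p ^ c with hm
        have hmc : Nat.card K = m * p ^ c := by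
          rw [hm, hc]
          exact (Nat.div_mul_cancel (Nat.ordProj_dvd _ _)).symm
        have hcop : m.Coprime (p ^ c) := by
          rw [hm, hc]
          exact ((Nat.coprime_ordCompl hp hKne).symm).pow_right _
        obtain ⟨L₀, hL₀⟩ := Cfsg.Agent.S0003.result (G := K) m (p ^ c) hmc hcop
        refine ⟨L₀.map K.subtype, ?_⟩
        have hLcard : Nat.card (L₀.map K.subtype) = m := by
          rw [Subgroup.card_map_of_injective K.subtype_injective, hL₀]
        have h1 := Subgroup.card_mul_index (L₀.map K.subtype)
        have h2 := Subgroup.card_mul_index K
        rw [hLcard] at h1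
        rw [hk, hmc] at h2
        have hmpos : 0 < m := by
          rcases Nat.eq_zero_or_pos m with h0 | h0
          · rw [h0, zero_mul] at hmc
            exact absurd hmc hKne
          · exact h0
        have h3 : (L₀.map K.subtype).index = p ^ c * p ^ k := by
          apply Nat.eq_of_mul_eq_mul_left hmpos
          rw [h1, ← h2, mul_assoc]
        have h4 : (Nat.card H).factorization p = c + k := by
          have h5 : Nat.card H = Nat.card K * p ^ k := by rw [← hk]; exact (Subgroup.card_mul_index K).symm
          rw [h5, Nat.factorization_mul hKne (pow_ne_zero k hp.ne_zero), Finsupp.add_apply,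
            Nat.Prime.factorization_pow hp, Finsupp.single_eq_same]
        rw [h3, h4, pow_add]
      · refine ⟨⊤, ?_⟩
        rw [Subgroup.index_top, Nat.factorization_eq_zero_of_not_dvd hdvd, pow_zero]
  have htop := key _ (⊤ : Subgroup G) rfl
  exact solvable_of_solvable_injective (f := (Subgroup.topEquiv (G := G)).symm.toMonoidHom)
    (Subgroup.topEquiv (G := G)).symm.injective

end Cfsg.Agent.S0535
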