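import Cfsg.Statements.S0537
import Cfsg.Agent.S0536
import Cfsg.Agent.S0048
import Cfsg.Agent.Lib.helper2.Schmidt
import Cfsg.Agent.Lib.helper2.SylowExtra
import Cfsg.Agent.Lib.helper2.CoprimeAbelian
import Cfsg.Agent.Lib.helper65.Fitting

set_option autoImplicit false
open Cfsg

namespace Cfsg.Agent.S0537

open Cfsg.Agent.Lib.helper2

/-- A commutative (in the `IsMulCommutative` sense) group is nilpotent. -/
theorem isNilpotent_of_isMulCommutative {H : Type*} [Group H] (h : IsMulCommutative H) :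
    Group.IsNilpotent H := by
  letI : CommGroup H := { (inferInstance : Group H) with mul_comm := fun a b => h.is_comm.comm a b }
  infer_instance

/-- A finite nilpotent group which is not of prime power order and all of whose proper subgroups
are abelian is abelian. -/
theorem comm_of_nilpotent {G : Type*} [Group G] [Finite G] [Group.IsNilpotent G]
    (hnp : ¬ ∃ p : ℕ, p.Prime ∧ IsPGroup p G)
    (h : ∀ H : Subgroup G, H ≠ ⊤ → IsMulCommutative H) : IsMulCommutative G := by
  have hSyl : ∀ (p : ℕ) [Fact p.Prime] (P : Sylow p G), (P : Subgroup G) ≠ ⊤ := by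
    intro p hp P htop
    apply hnp
    refine ⟨p, hp.out, ?_⟩
    intro g
    have hg : g ∈ (P : Subgroup G) := by rw [htop]; exact Subgroup.mem_top g
    obtain ⟨k, hk⟩ := P.2 ⟨g, hg⟩
    exact ⟨k, congrArg Subtype.val hk⟩
  have hcentral : ∀ (p : ℕ) [Fact p.Prime] (P : Sylow p G), (P : Subgroup G) ≤ Subgroup.center G := by
    intro p hp P x hx
    have htop : Subgroup.centralizer ({x} : Set G) = ⊤ := by
      apply eq_top_of_forall_sylow_le
      intro r hr
      by_cases hrp : r = p
      · subst hrp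
        refine ⟨P, ?_⟩
        intro y hy
        rw [Subgroup.mem_centralizer_iff]
        intro z hz
        rw [Set.mem_singleton_iff] at hz
        subst hz
        have hc := (h (P : Subgroup G) (hSyl r P)).is_comm.comm ⟨z, hx⟩ ⟨y, hy⟩
        exact congrArg Subtype.val hc
      · obtain ⟨R⟩ : Nonempty (Sylow r G) := inferInstance
        refine ⟨R, ?_⟩
        intro y hy
        rw [Subgroup.mem_centralizer_iff]
        intro z hz
        rw [Set.mem_singleton_iff] at hz
        subst hz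
        exact (commute_of_isNilpotent_of_isPGroup (Ne.symm hrp) (P : Subgroup G) (R : Subgroup G)
          P.2 R.2 hx hy).eq
    rw [Subgroup.mem_center_iff]
    intro g
    have hg : g ∈ Subgroup.centralizer ({x} : Set G) := by rw [htop]; exact Subgroup.mem_top g
    rw [Subgroup.mem_centralizer_iff] at hg
    exact (hg x (Set.mem_singleton x)).symm
  have hcenter : Subgroup.center G = ⊤ := by
    apply eq_top_of_forall_sylow_le
    intro r hr
    obtain ⟨R⟩ : Nonempty (Sylow r G) := inferInstance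
    exact ⟨R, hcentral r R⟩
  refine ⟨⟨fun a b => ?_⟩⟩
  have ha : a ∈ Subgroup.center G := by rw [hcenter]; exact Subgroup.mem_top a
  rw [Subgroup.mem_center_iff] at ha
  exact (ha b).symm

/-- A finite non-abelian group in which every proper subgroup is abelian is either of prime-power order, or is generated by a cyclic Sylow p-subgroup and a normal Sylow q-subgroup that is elementary abelian, for distinct primes p and q. -/
theorem result {G : Type*} [Group G] [Finite G] (hna : ¬ IsMulCommutative G) (h : ∀ H : Subgroup G, H ≠ ⊤ → IsMulCommutative H) : (∃ p : ℕ, p.Prime ∧ IsPGroup p G) ∨ ∃ p q : ℕ, p.Prime ∧ q.Prime ∧ p ≠ q ∧ ∃ (P : Sylow p G) (Q : Sylow q G), IsCyclic P ∧ (Q : Subgroup G).Normal ∧ Cfsg.IsElementaryAbelian q (Q : Subgroup G) ∧ (P : Subgroup G) ⊔ Q = ⊤ := by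
  by_cases hpg : ∃ p : ℕ, p.Prime ∧ IsPGroup p G
  · exact Or.inl hpg
  right
  have hnn : ¬ Group.IsNilpotent G := by
    intro hn
    exact hna (comm_of_nilpotent hpg h)
  have hG : Cfsg.IsMinimalNonNilpotent G :=
    ⟨hnn, fun H hH => isNilpotent_of_isMulCommutative (h H hH)⟩
  obtain ⟨p, q, hp, hq, hpq, P, Q, hPc, hQn, hPQ, hPn, hcard⟩ :=
    Cfsg.Agent.S0536.structure_aux hG
  haveI : Fact p.Prime := ⟨hp⟩
  haveI : Fact q.Prime := ⟨hq⟩
  haveI := hQn
  refine ⟨p, q, hp, hq, hpq, P, Q, hPc, hQn, ?_, hPQ⟩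
  have hQtop : (Q : Subgroup G) ≠ ⊤ := by
    intro htop
    apply hpg
    refine ⟨q, hq, ?_⟩
    intro g
    have hg : g ∈ (Q : Subgroup G) := by rw [htop]; exact Subgroup.mem_top g
    obtain ⟨k, hk⟩ := Q.2 ⟨g, hg⟩
    exact ⟨k, congrArg Subtype.val hk⟩
  have hQc : IsMulCommutative (Q : Subgroup G) := h _ hQtop
  have hQcomm : ∀ x ∈ (Q : Subgroup G), ∀ y ∈ (Q : Subgroup G), x * y = y * x := by
    intro x hx y hy
    exact congrArg Subtype.val (hQc.is_comm.comm ⟨x, hx⟩ ⟨y, hy⟩)
  refine ⟨hQc, ?_⟩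
  -- Ω = elements of Q killed by q
  let Ω : Subgroup G :=
    { carrier := {x | x ∈ (Q : Subgroup G) ∧ x ^ q = 1}
      mul_mem' := by
        rintro a b ⟨ha, ha'⟩ ⟨hb, hb'⟩
        refine ⟨(Q : Subgroup G).mul_mem ha hb, ?_⟩
        rw [(show Commute a b from hQcomm a ha b hb).mul_pow, ha', hb', one_mul]
      one_mem' := ⟨(Q : Subgroup G).one_mem, one_pow q⟩
      inv_mem' := by
        rintro a ⟨ha, ha'⟩
        exact ⟨(Q : Subgroup G).inv_mem ha, by rw [inv_pow, ha', inv_one]⟩ }
  have hΩQ : Ω ≤ (Q : Subgroup G) := fun x hx => hx.1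
  have hPΩ : (P : Subgroup G) ≤ Subgroup.normalizer (Ω : Set G) := by
    apply Cfsg.Agent.S0048.le_normalizer_of_forall_conj_mem
    intro a _ x hx
    refine ⟨Subgroup.Normal.conj_mem hQn x hx.1 a, ?_⟩
    rw [conj_pow, hx.2, mul_one, mul_inv_cancel]
  intro a ha
  by_cases htop : (P : Subgroup G) ⊔ Ω = ⊤
  · have h3 := Cfsg.Agent.Lib.helper65.card_sup_dvd_mul hPΩ
    rw [htop, Subgroup.card_top, hcard] at h3
    have h4 : Nat.card (Q : Subgroup G) ∣ Nat.card Ω :=
      Nat.dvd_of_mul_dvd_mul_left Nat.card_pos h3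
    have h5 : Nat.card (Q : Subgroup G) ≤ Nat.card Ω := Nat.le_of_dvd Nat.card_pos h4
    have h6 : Ω = (Q : Subgroup G) := Subgroup.eq_of_le_of_card_ge hΩQ h5
    have h7 : a ∈ Ω := by rw [h6]; exact ha
    exact h7.2
  · exfalso
    have hLc : IsMulCommutative ((P : Subgroup G) ⊔ Ω : Subgroup G) := h _ htop
    have hbx : ∀ b ∈ (P : Subgroup G), ∀ x ∈ Ω, b * x = x * b := by
      intro b hb x hx
      exact congrArg Subtype.val (hLc.is_comm.comm
        ⟨b, (le_sup_left : (P : Subgroup G) ≤ (P : Subgroup G) ⊔ Ω) hb⟩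
        ⟨x, (le_sup_right : Ω ≤ (P : Subgroup G) ⊔ Ω) hx⟩)
    apply hPn
    rw [← Subgroup.normalizer_eq_top_iff, eq_top_iff, ← hPQ]
    refine sup_le Subgroup.le_normalizer ?_
    refine le_trans ?_ (Subgroup.centralizer_le_normalizer (s := ((P : Subgroup G) : Set G)))
    intro y hy
    rw [Subgroup.mem_centralizer_iff]
    intro b hb
    have hcop : (Nat.card (Q : Subgroup G)).Coprime (Nat.card (P : Subgroup G)) := by
      obtain ⟨a', ha'⟩ := P.2.exists_card_eq
      obtain ⟨b', hb'⟩ := Q.2.exists_card_eq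
      rw [ha', hb']
      exact Nat.Coprime.pow b' a' ((Nat.coprime_primes hq hp).mpr (Ne.symm hpq))
    have hbr : b ^ Nat.card (P : Subgroup G) = 1 := by
      have h8 := pow_card_eq_one' (G := (P : Subgroup G)) (x := ⟨b, hb⟩)
      exact congrArg Subtype.val h8
    have hcent := centralizes_of_prime (Q : Subgroup G) hQcomm b (Nat.card (P : Subgroup G))
      hbr hcop (by
        intro x hx hxo
        apply hbx b hb x
        refine ⟨hx, ?_⟩
        obtain ⟨k, hk⟩ := Q.2 ⟨x, hx⟩
        have hk' : x ^ q ^ k = 1 := congrArg Subtype.val hk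
        have hdvd : orderOf x ∣ q ^ k := orderOf_dvd_of_pow_eq_one hk'
        have h9 : orderOf x = q :=
          (Nat.prime_dvd_prime_iff_eq hxo hq).mp (hxo.dvd_of_dvd_pow hdvd)
        rw [← h9]
        exact pow_orderOf_eq_one x)
    exact hcent y hy

end Cfsg.Agent.S0537
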