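import Cfsg.Statements.S0541
import Mathlib
import Cfsg.Agent.S0540
import Cfsg.Agent.Lib.helper12.Fin

set_option autoImplicit false
open Pointwise
open Cfsg

namespace Cfsg.Agent.S0541

open Cfsg.Agent.Lib.helper12

/-- Let Z and Y be subgroups of a finite group G and p a prime. Suppose that for every g in G the subgroup generated by the conjugates of g Z g⁻¹ under Y is a p-group. Then there is a Sylow p-subgroup P of G such that Y normalizes the subgroup generated by all conjugates of Z contained in P. -/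
theorem result {G : Type*} [Group G] [Finite G] (p : ℕ) [Fact p.Prime] (Z Y : Subgroup G) (h : ∀ g : G, IsPGroup p ↥(⨆ y ∈ Y, MulAut.conj (y * g) • Z)) : ∃ P : Sylow p G, Y ≤ Subgroup.normalizer ((⨆ g ∈ {g : G | MulAut.conj g • Z ≤ (P : Subgroup G)}, MulAut.conj g • Z : Subgroup G) : Set G) := by
  classical
  let conjs : Subgroup G → Set (Subgroup G) :=
    fun Q => {B | (∃ g : G, B = MulAut.conj g • Z) ∧ B ≤ Q}
  let 𝒬 : Set (Subgroup G) := {Q | IsPGroup p Q ∧ Y ≤ Subgroup.normalizer (Q : Set G)}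
  have h𝒬 : 𝒬.Nonempty :=
    ⟨⊥, IsPGroup.of_bot, by rw [Subgroup.normalizer_eq_top]; exact le_top⟩
  obtain ⟨Q, ⟨hQp, hQY⟩, hQmax⟩ :=
    Set.exists_max_image 𝒬 (fun Q => (conjs Q).ncard) (Set.toFinite 𝒬) h𝒬
  obtain ⟨P, hQP⟩ := hQp.exists_le_sylow
  refine ⟨P, ?_⟩
  have claim : ∀ g : G, MulAut.conj g • Z ≤ (P : Subgroup G) → MulAut.conj g • Z ≤ Q := by
    by_contra hcon
    push Not at hcon
    obtain ⟨g₁, hg₁P, hg₁Q⟩ := hcon
    let T := conjs (P : Subgroup G)
    let T₀ := conjs Q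
    have hT₀T : T₀ ⊂ T :=
      ⟨fun B hB => ⟨hB.1, hB.2.trans hQP⟩, fun h => hg₁Q (h ⟨⟨g₁, rfl⟩, hg₁P⟩).2⟩
    have : Group.IsNilpotent (P : Subgroup G) := P.isPGroup'.isNilpotent
    have hTconj : ∀ B ∈ T, ∀ v ∈ (P : Subgroup G), MulAut.conj v • B ∈ T := by
      rintro B ⟨⟨g, rfl⟩, hB⟩ v hv
      exact ⟨⟨v * g, by rw [conj_mul_smul]⟩, Subgroup.conj_smul_le_of_le hB ⟨v, hv⟩⟩
    obtain ⟨X, hXT, hXT₀, hXN⟩ := Cfsg.Agent.S0540.rel_exists_normalizing (P : Subgroup G) T T₀
      (fun B hB => hB.2) (fun B _ => isSubnormal_of_isNilpotent _) hTconj hT₀T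
    set J := sSup T₀ with hJ
    obtain ⟨⟨g₀, rfl⟩, hXP⟩ := hXT
    have hXQ : ¬ MulAut.conj g₀ • Z ≤ Q := fun h => hXT₀ ⟨⟨g₀, rfl⟩, h⟩
    have hJQ : J ≤ Q := sSup_le fun B hB => hB.2
    have hJp : IsPGroup p J := hQp.to_le hJQ
    have hYJ : Y ≤ Subgroup.normalizer (J : Set G) := by
      intro y hy
      apply mem_normalizer_of_conj_smul_le
      have hyQ : MulAut.conj y • Q = Q := mem_normalizer_iff_conj_smul_eq.mp (hQY hy)
      have h1 : J ≤ MulAut.conj y⁻¹ • J := by
        refine sSup_le fun B hB => ?_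
        obtain ⟨⟨g, rfl⟩, hBQ⟩ := hB
        have hmem : MulAut.conj y • MulAut.conj g • Z ∈ T₀ :=
          ⟨⟨y * g, by rw [conj_mul_smul]⟩, by rw [← hyQ]; exact conj_smul_mono y hBQ⟩
        have h' := conj_smul_mono y⁻¹ (le_sSup hmem)
        rwa [conj_inv_smul_conj_smul] at h'
      have h2 := conj_smul_mono y h1
      rwa [conj_smul_conj_inv_smul] at h2
    set R : Subgroup G := ⨆ y ∈ Y, MulAut.conj (y * g₀) • Z with hR
    have hRp : IsPGroup p R := h g₀
    have hYR : Y ≤ Subgroup.normalizer (R : Set G) := by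
      intro y hy
      apply mem_normalizer_of_conj_smul_le
      have h1 : R ≤ MulAut.conj y⁻¹ • R := by
        refine iSup₂_le fun y' hy' => ?_
        have hle : MulAut.conj y • MulAut.conj (y' * g₀) • Z ≤ R := by
          rw [← conj_mul_smul, ← mul_assoc]
          exact le_iSup₂ (f := fun y (_ : y ∈ Y) => MulAut.conj (y * g₀) • Z) (y * y')
            (Y.mul_mem hy hy')
        have h' := conj_smul_mono y⁻¹ hle
        rwa [conj_inv_smul_conj_smul] at h'
      have h2 := conj_smul_mono y h1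
      rwa [conj_smul_conj_inv_smul] at h2
    have hRJ : R ≤ Subgroup.normalizer (J : Set G) := by
      refine iSup₂_le fun y hy => ?_
      rw [conj_mul_smul]
      have h1 := Cfsg.Agent.S0538.conj_smul_le_normalizer y hXN
      rwa [mem_normalizer_iff_conj_smul_eq.mp (hYJ hy)] at h1
    have hQ'p : IsPGroup p (J ⊔ R : Subgroup G) := hJp.to_sup_of_normal_left' hRp hRJ
    have hQ'Y : Y ≤ Subgroup.normalizer ((J ⊔ R : Subgroup G) : Set G) := by
      intro y hy
      rw [mem_normalizer_iff_conj_smul_eq, conj_smul_sup,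
        mem_normalizer_iff_conj_smul_eq.mp (hYJ hy), mem_normalizer_iff_conj_smul_eq.mp (hYR hy)]
    have hle := hQmax (J ⊔ R) ⟨hQ'p, hQ'Y⟩
    have hXR : MulAut.conj g₀ • Z ≤ R := by
      have h0 := le_iSup₂ (f := fun y (_ : y ∈ Y) => MulAut.conj (y * g₀) • Z) 1 Y.one_mem
      simp only [one_mul] at h0
      exact h0
    have hlt : (conjs Q).ncard < (conjs (J ⊔ R)).ncard := by
      apply Set.ncard_lt_ncard _ (Set.toFinite _)
      exact ⟨fun B hB => ⟨hB.1, (le_sSup hB).trans le_sup_left⟩,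
        fun hsub => hXQ (hsub ⟨⟨g₀, rfl⟩, hXR.trans le_sup_right⟩).2⟩
    have hle' : (conjs (J ⊔ R)).ncard ≤ (conjs Q).ncard := hle
    omega
  intro y hy
  apply mem_normalizer_of_conj_smul_le
  set W : Subgroup G :=
    ⨆ g ∈ {g : G | MulAut.conj g • Z ≤ (P : Subgroup G)}, MulAut.conj g • Z with hW
  have hyQ : MulAut.conj y • Q = Q := mem_normalizer_iff_conj_smul_eq.mp (hQY hy)
  have h1 : W ≤ MulAut.conj y⁻¹ • W := by
    refine iSup₂_le fun g hg => ?_
    have hgQ := claim g hg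
    have hle : MulAut.conj y • MulAut.conj g • Z ≤ W := by
      rw [← conj_mul_smul]
      refine le_iSup₂ (f := fun g (_ : g ∈ {g : G | MulAut.conj g • Z ≤ (P : Subgroup G)}) =>
        MulAut.conj g • Z) (y * g) ?_
      show MulAut.conj (y * g) • Z ≤ (P : Subgroup G)
      rw [conj_mul_smul]
      calc MulAut.conj y • MulAut.conj g • Z ≤ MulAut.conj y • Q := conj_smul_mono y hgQ
        _ = Q := hyQ
        _ ≤ P := hQP
    have h' := conj_smul_mono y⁻¹ hle
    rwa [conj_inv_smul_conj_smul] at h'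
  have h2 := conj_smul_mono y h1
  rwa [conj_smul_conj_inv_smul] at h2

end Cfsg.Agent.S0541
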