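import Cfsg.Statements.S0546
import Mathlib
import Cfsg.Agent.S0545

set_option autoImplicit false
open Cfsg

namespace Cfsg.Agent.S0546

open scoped commutatorElement

/-- The normal closure of a system normalizer of a finite solvable group is the whole group. -/
theorem result {G : Type*} [Group G] [Finite G] [Group.IsSolvable G] (K : Nat.Primes → Subgroup G) (hK : Cfsg.IsComplementSystem K) : Subgroup.normalClosure ((Cfsg.systemNormalizer K : Subgroup G) : Set G) = ⊤ := by
  by_contra hne
  set D := Cfsg.systemNormalizer K with hD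
  set C := Subgroup.normalClosure (D : Set G) with hC
  have : C.Normal := Subgroup.normalClosure_normal
  have : Nontrivial (G ⧸ C) := QuotientGroup.nontrivial_iff.mpr hne
  have hlt : commutator (G ⧸ C) < ⊤ := Group.IsSolvable.commutator_lt_top_of_nontrivial (G ⧸ C)
  set M : Subgroup G := (commutator (G ⧸ C)).comap (QuotientGroup.mk' C) with hM
  have : M.Normal := inferInstance
  have hCM : C ≤ M := by
    intro x hx
    show QuotientGroup.mk' C x ∈ commutator (G ⧸ C)
    have : QuotientGroup.mk' C x = 1 := (QuotientGroup.eq_one_iff x).mpr hx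
    rw [this]; exact Subgroup.one_mem _
  have hMtop : M ≠ ⊤ := by
    intro h
    apply hlt.ne
    rw [← Subgroup.map_comap_eq_self_of_surjective (QuotientGroup.mk'_surjective C)
      (commutator (G ⧸ C)), ← hM, h, ← MonoidHom.range_eq_map,
      MonoidHom.range_eq_top.mpr (QuotientGroup.mk'_surjective C)]
  have hcomm : ∀ a b : G ⧸ M, a * b = b * a := by
    intro a b
    obtain ⟨x, rfl⟩ := QuotientGroup.mk'_surjective M a
    obtain ⟨y, rfl⟩ := QuotientGroup.mk'_surjective M b
    rw [← map_mul, ← map_mul]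
    apply (QuotientGroup.eq).mpr
    show QuotientGroup.mk' C ((x * y)⁻¹ * (y * x)) ∈ commutator (G ⧸ C)
    have : (x * y)⁻¹ * (y * x) = ⁅y⁻¹, x⁻¹⁆ := by rw [commutatorElement_def]; group
    rw [this, map_commutatorElement]
    exact Subgroup.commutator_mem_commutator (Subgroup.mem_top _) (Subgroup.mem_top _)
  obtain ⟨-, h2⟩ := Cfsg.Agent.S0545.result K hK M
  have h3 : (Cfsg.systemNormalizer K).map (QuotientGroup.mk' M) = ⊥ := by
    rw [eq_bot_iff]
    rintro y ⟨x, hx, rfl⟩
    rw [Subgroup.mem_bot]
    exact (QuotientGroup.eq_one_iff x).mpr (hCM (Subgroup.subset_normalClosure hx))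
  have h4 : Cfsg.systemNormalizer (fun p => (K p).map (QuotientGroup.mk' M)) = ⊤ := by
    rw [eq_top_iff]
    intro y _
    show y ∈ ⨅ p : Nat.Primes, Subgroup.normalizer
      (((K p).map (QuotientGroup.mk' M) : Subgroup (G ⧸ M)) : Set (G ⧸ M))
    rw [Subgroup.mem_iInf]
    intro p
    rw [Subgroup.mem_normalizer_iff]
    intro h
    rw [hcomm y h, mul_inv_cancel_right]
  rw [h3, h4] at h2
  apply hMtop
  rw [eq_top_iff]
  intro x _
  have : QuotientGroup.mk' M x ∈ (⊤ : Subgroup (G ⧸ M)) := Subgroup.mem_top _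
  rw [h2, Subgroup.mem_bot] at this
  exact (QuotientGroup.eq_one_iff x).mp this

end Cfsg.Agent.S0546
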