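import Cfsg.Statements.S0548
import Mathlib
import Cfsg.Agent.Lib.helper65.MinNormal
-- import your own Cfsg.Agent.* helpers here

set_option autoImplicit false
open Cfsg

namespace Cfsg.Agent.S0548

open Cfsg.Agent.Lib.helper65

/-- Let a finite solvable group G act faithfully and primitively on a set, let M be a minimal normal subgroup and H the stabilizer of a point. Then H is a complement to M, no non-identity element of H centralizes M, and the only subgroups of M normalized by H are the trivial subgroup and M. -/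
theorem result {G : Type*} [Group G] [Finite G] [Group.IsSolvable G] {Ω : Type*} [MulAction G Ω] [FaithfulSMul G Ω] (hprim : MulAction.IsPreprimitive G Ω) (M : Subgroup G) [M.Normal] (hM : M ≠ ⊥) (hmin : ∀ K : Subgroup G, K.Normal → K ≤ M → K = ⊥ ∨ K = M) (ω : Ω) : Subgroup.IsComplement' M (MulAction.stabilizer G ω) ∧ MulAction.stabilizer G ω ⊓ Subgroup.centralizer (M : Set G) = ⊥ ∧ ∀ K : Subgroup G, K ≤ M → MulAction.stabilizer G ω ≤ Subgroup.normalizer (K : Set G) → K = ⊥ ∨ K = M := by
  classical
  have hMs : Group.IsSolvable M := inferInstance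
  obtain ⟨p, hp, hcomm, hexp, hpg⟩ := minNormal_solvable_elementary M inferInstance hMs hM hmin
  have htr : MulAction.IsPretransitive M Ω := by
    apply MulAction.IsQuasiPreprimitive.isPretransitive_of_normal
    intro hfix
    apply hM
    rw [eq_bot_iff]
    intro m hm
    rw [Subgroup.mem_bot]
    apply FaithfulSMul.eq_of_smul_eq_smul (α := Ω)
    intro ω
    rw [one_smul]
    have : ω ∈ MulAction.fixedPoints M Ω := by
      rw [hfix]
      trivial
    exact this ⟨m, hm⟩
  have hMH : M ⊓ MulAction.stabilizer G ω = ⊥ := by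
    rw [eq_bot_iff]
    intro m hm
    rw [Subgroup.mem_bot]
    apply FaithfulSMul.eq_of_smul_eq_smul (α := Ω)
    intro x
    obtain ⟨n, rfl⟩ := MulAction.exists_smul_eq M ω x
    rw [one_smul]
    have h1 : m * (n : G) = (n : G) * m := hcomm _ hm.1 _ n.2
    have h2 : m • ω = ω := MulAction.mem_stabilizer_iff.mp hm.2
    calc m • (n • ω) = (m * (n : G)) • ω := by rw [mul_smul]; rfl
      _ = ((n : G) * m) • ω := by rw [h1]
      _ = n • (m • ω) := by rw [mul_smul]; rfl
      _ = n • ω := by rw [h2]
  have hdecomp : ∀ g : G, ∃ n ∈ M, ∃ h ∈ MulAction.stabilizer G ω, n * h = g := by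
    intro g
    obtain ⟨n, hn⟩ := MulAction.exists_smul_eq M (g • ω) ω
    refine ⟨(n : G)⁻¹, M.inv_mem n.2, (n : G) * g, ?_, by group⟩
    rw [MulAction.mem_stabilizer_iff, mul_smul]
    exact hn
  have hsup : M ⊔ MulAction.stabilizer G ω = ⊤ := by
    rw [eq_top_iff]
    intro g _
    obtain ⟨n, hn, h, hh, rfl⟩ := hdecomp g
    exact Subgroup.mul_mem _ (Subgroup.mem_sup_left hn) (Subgroup.mem_sup_right hh)
  refine ⟨?_, ?_, ?_⟩
  · apply Subgroup.isComplement'_of_disjoint_and_mul_eq_univ (disjoint_iff.mpr hMH)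
    rw [Set.eq_univ_iff_forall]
    intro g
    obtain ⟨n, hn, h, hh, rfl⟩ := hdecomp g
    exact Set.mul_mem_mul hn hh
  · rw [eq_bot_iff]
    intro h hh
    rw [Subgroup.mem_bot]
    apply FaithfulSMul.eq_of_smul_eq_smul (α := Ω)
    intro x
    obtain ⟨n, rfl⟩ := MulAction.exists_smul_eq M ω x
    rw [one_smul]
    have h1 : (n : G) * h = h * (n : G) := Subgroup.mem_centralizer_iff.mp hh.2 n n.2
    have h2 : h • ω = ω := MulAction.mem_stabilizer_iff.mp hh.1
    calc h • (n • ω) = (h * (n : G)) • ω := by rw [mul_smul]; rfl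
      _ = ((n : G) * h) • ω := by rw [h1]
      _ = n • (h • ω) := by rw [mul_smul]; rfl
      _ = n • ω := by rw [h2]
  · intro K hKM hHK
    apply hmin K ?_ hKM
    rw [← Subgroup.normalizer_eq_top_iff, eq_top_iff, ← hsup]
    apply sup_le ?_ hHK
    rw [Subgroup.le_normalizer_iff]
    intro m hm k hk
    have : m * k * m⁻¹ = k := by
      rw [hcomm m hm k (hKM hk)]
      group
    rw [this]
    exact hk

end Cfsg.Agent.S0548
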