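import Cfsg.Statements.S0549
import Mathlib
import Cfsg.Agent.Lib.helper12.Conj

set_option autoImplicit false
open Pointwise
open Cfsg

namespace Cfsg.Agent.S0549

open Cfsg.Agent.Lib.helper12

variable {G : Type*} [Group G]

/-- A nontrivial normal subgroup supplements a core-free maximal subgroup. -/
theorem sup_eq_top_of_normal (U : Subgroup G) (hU : IsCoatom U) (hcore : U.normalCore = ⊥)
    (M : Subgroup G) [M.Normal] (hM : M ≠ ⊥) : M ⊔ U = ⊤ := by
  have hnle : ¬ M ≤ U := by
    intro hle
    have : M ≤ U.normalCore := Subgroup.normal_le_normalCore.mpr hle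
    rw [hcore, le_bot_iff] at this
    exact hM this
  by_contra hne
  have hlt : U < M ⊔ U := lt_of_le_of_ne le_sup_right (fun h => hnle (h ▸ le_sup_left))
  exact hne (hU.2 _ hlt)

/-- A normal subgroup contained in a core-free subgroup is trivial. -/
theorem eq_bot_of_normal_of_le (U : Subgroup G) (hcore : U.normalCore = ⊥)
    (M : Subgroup G) [M.Normal] (hM : M ≤ U) : M = ⊥ := by
  have : M ≤ U.normalCore := Subgroup.normal_le_normalCore.mpr hM
  rwa [hcore, le_bot_iff] at this

/-- The centralizer of a nontrivial normal subgroup meets a core-free maximal subgroup trivially. -/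
theorem centralizer_inf_eq_bot (U : Subgroup G) (hU : IsCoatom U) (hcore : U.normalCore = ⊥)
    (N : Subgroup G) [N.Normal] (hN : N ≠ ⊥) : Subgroup.centralizer (N : Set G) ⊓ U = ⊥ := by
  set C := Subgroup.centralizer (N : Set G) with hC
  have hNU : N ⊔ U = ⊤ := sup_eq_top_of_normal U hU hcore N hN
  have hnorm : (C ⊓ U).Normal := by
    rw [← Subgroup.normalizer_eq_top_iff, eq_top_iff, ← hNU]
    refine sup_le ?_ ?_
    · intro n hn
      rw [Subgroup.mem_normalizer_iff]
      intro x
      have key : x ∈ C → n * x * n⁻¹ = x := by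
        intro hx
        have := (Subgroup.mem_centralizer_iff.mp hx) n hn
        rw [this, mul_inv_cancel_right]
      constructor
      · intro hx
        rw [key hx.1]; exact hx
      · intro hx
        have h2 : n * x * n⁻¹ ∈ C := hx.1
        have h3 : x ∈ C := by
          have := (inferInstance : C.Normal).conj_mem _ h2 n⁻¹
          simpa [mul_assoc] using this
        rw [key h3] at hx; exact hx
    · intro u hu
      rw [Subgroup.mem_normalizer_iff]
      intro x
      constructor
      · intro hx
        exact ⟨(inferInstance : C.Normal).conj_mem _ hx.1 u, U.mul_mem (U.mul_mem hu hx.2) (U.inv_mem hu)⟩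
      · intro hx
        refine ⟨?_, ?_⟩
        · have := (inferInstance : C.Normal).conj_mem _ hx.1 u⁻¹
          simpa [mul_assoc] using this
        · have := U.mul_mem (U.mul_mem (U.inv_mem hu) hx.2) hu
          simpa [mul_assoc] using this
  exact eq_bot_of_normal_of_le U hcore (C ⊓ U) inf_le_right

/-- Let U be a maximal subgroup of a finite group G whose normal core is trivial, and N a nontrivial normal subgroup with centralizer C. Then C ∩ U = 1, and either C = 1 or C is a minimal normal subgroup of G. -/
theorem result {G : Type*} [Group G] [Finite G] (U : Subgroup G) (hU : IsCoatom U) (hcore : U.normalCore = ⊥) (N : Subgroup G) [N.Normal] (hN : N ≠ ⊥) : Subgroup.centralizer (N : Set G) ⊓ U = ⊥ ∧ (Subgroup.centralizer (N : Set G) = ⊥ ∨ (Subgroup.centralizer (N : Set G) ≠ ⊥ ∧ ∀ K : Subgroup G, K.Normal → K ≤ Subgroup.centralizer (N : Set G) → K = ⊥ ∨ K = Subgroup.centralizer (N : Set G))) := by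
  have h1 := centralizer_inf_eq_bot U hU hcore N hN
  refine ⟨h1, ?_⟩
  by_cases hC : Subgroup.centralizer (N : Set G) = ⊥
  · exact Or.inl hC
  · refine Or.inr ⟨hC, ?_⟩
    intro K hK hKC
    by_cases hKb : K = ⊥
    · exact Or.inl hKb
    · right
      refine le_antisymm hKC ?_
      intro c hc
      have hKU : K ⊔ U = ⊤ := sup_eq_top_of_normal U hU hcore K hKb
      have hc' : c ∈ ((K ⊔ U : Subgroup G) : Set G) := by rw [hKU]; trivial
      rw [Subgroup.normal_mul] at hc'
      obtain ⟨k, hk, u, hu, hku⟩ := hc'
      have hku' : k * u = c := hku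
      have hu' : u ∈ Subgroup.centralizer (N : Set G) ⊓ U := by
        refine ⟨?_, hu⟩
        have : u = k⁻¹ * c := by rw [← hku']; group
        rw [this]
        exact Subgroup.mul_mem _ (Subgroup.inv_mem _ (hKC hk)) hc
      rw [h1, Subgroup.mem_bot] at hu'
      rw [← hku', hu', mul_one]
      exact hk

end Cfsg.Agent.S0549
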