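import Cfsg.Statements.S0550
import Mathlib
import Cfsg.Agent.S0549

set_option autoImplicit false
open Pointwise
open Cfsg

namespace Cfsg.Agent.S0550

variable {G : Type*} [Group G]

/-- If `U` is a complement of the normal subgroup `B` and `A ∩ B = 1`, then `A ≅ AB ∩ U`. -/
theorem iso_inf_of_complement (A B U : Subgroup G) [B.Normal] (hAB : A ⊓ B = ⊥) (hBU : B ⊓ U = ⊥)
    (hsup : B ⊔ U = ⊤) : Nonempty (A ≃* ↥((A ⊔ B) ⊓ U)) := by
  set D := (A ⊔ B) ⊓ U with hD
  let f := QuotientGroup.mk' B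
  let fA : A →* G ⧸ B := f.comp A.subtype
  let fD : D →* G ⧸ B := f.comp D.subtype
  have hfA : Function.Injective fA := by
    rw [← MonoidHom.ker_eq_bot_iff, eq_bot_iff]
    intro x hx
    rw [MonoidHom.mem_ker] at hx
    have hxB : (x : G) ∈ B := (QuotientGroup.eq_one_iff _).mp hx
    have : (x : G) ∈ A ⊓ B := ⟨x.2, hxB⟩
    rw [hAB, Subgroup.mem_bot] at this
    rw [Subgroup.mem_bot]; exact Subtype.ext this
  have hfD : Function.Injective fD := by
    rw [← MonoidHom.ker_eq_bot_iff, eq_bot_iff]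
    intro x hx
    rw [MonoidHom.mem_ker] at hx
    have hxB : (x : G) ∈ B := (QuotientGroup.eq_one_iff _).mp hx
    have : (x : G) ∈ B ⊓ U := ⟨hxB, x.2.2⟩
    rw [hBU, Subgroup.mem_bot] at this
    rw [Subgroup.mem_bot]; exact Subtype.ext this
  have hrange : fA.range = fD.range := by
    ext y
    constructor
    · rintro ⟨a, rfl⟩
      have h1 : (a : G) ∈ ((B ⊔ U : Subgroup G) : Set G) := by rw [hsup]; trivial
      rw [Subgroup.normal_mul] at h1
      obtain ⟨b, hb, u, hu, hbu⟩ := h1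
      have hbu' : b * u = (a : G) := hbu
      have hu2 : u = b⁻¹ * (a : G) := by rw [← hbu']; group
      have huD : u ∈ D := by
        refine ⟨?_, hu⟩
        rw [hu2]
        exact Subgroup.mul_mem _ (Subgroup.inv_mem _ ((le_sup_right : B ≤ A ⊔ B) hb))
          ((le_sup_left : A ≤ A ⊔ B) a.2)
      refine ⟨⟨u, huD⟩, ?_⟩
      show (QuotientGroup.mk u : G ⧸ B) = QuotientGroup.mk (a : G)
      rw [QuotientGroup.eq, ← hbu']
      have : u⁻¹ * (b * u) = u⁻¹ * b * u⁻¹⁻¹ := by group
      rw [this]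
      exact (inferInstance : B.Normal).conj_mem b hb u⁻¹
    · rintro ⟨d, rfl⟩
      have h1 : (d : G) ∈ ((A ⊔ B : Subgroup G) : Set G) := d.2.1
      rw [Subgroup.mul_normal] at h1
      obtain ⟨a, ha, b, hb, hab⟩ := h1
      have hab' : a * b = (d : G) := hab
      refine ⟨⟨a, ha⟩, ?_⟩
      show (QuotientGroup.mk a : G ⧸ B) = QuotientGroup.mk (d : G)
      rw [QuotientGroup.eq, ← hab']
      have : a⁻¹ * (a * b) = b := by group
      rw [this]
      exact hb
  exact ⟨(MonoidHom.ofInjective hfA).trans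
    ((MulEquiv.subgroupCongr hrange).trans (MonoidHom.ofInjective hfD).symm)⟩

/-- Let U be a maximal subgroup with trivial normal core in a finite group G, and A ≠ B two minimal normal subgroups. Then A is the centralizer of B and B that of A, U complements each of them, A and B are non-abelian, and A, B and (A ⊔ B) ∩ U are pairwise isomorphic. -/
theorem result {G : Type*} [Group G] [Finite G] (U : Subgroup G) (hU : IsCoatom U) (hcore : U.normalCore = ⊥) (A B : Subgroup G) [A.Normal] [B.Normal] (hA : A ≠ ⊥) (hB : B ≠ ⊥) (hAmin : ∀ K : Subgroup G, K.Normal → K ≤ A → K = ⊥ ∨ K = A) (hBmin : ∀ K : Subgroup G, K.Normal → K ≤ B → K = ⊥ ∨ K = B) (hAB : A ≠ B) : Subgroup.centralizer (B : Set G) = A ∧ Subgroup.centralizer (A : Set G) = B ∧ Subgroup.IsComplement' A U ∧ Subgroup.IsComplement' B U ∧ ¬ IsMulCommutative A ∧ Nonempty (A ≃* B) ∧ Nonempty (A ≃* ↥((A ⊔ B) ⊓ U)) := by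
  have hAn : A.Normal := inferInstance
  have hBn : B.Normal := inferInstance
  have hinf : A ⊓ B = ⊥ := by
    rcases hAmin (A ⊓ B) inferInstance inf_le_left with h | h
    · exact h
    · exfalso
      have hle : A ≤ B := by rw [← h]; exact inf_le_right
      rcases hBmin A hAn hle with h' | h'
      · exact hA h'
      · exact hAB h'
  have hcomm : ∀ a ∈ A, ∀ b ∈ B, Commute a b :=
    fun a ha b hb => Subgroup.commute_of_normal_of_disjoint A B hAn hBn (disjoint_iff.mpr hinf) a b ha hb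
  have hA_le : A ≤ Subgroup.centralizer (B : Set G) := by
    intro a ha
    rw [Subgroup.mem_centralizer_iff]
    intro b hb
    exact ((hcomm a ha b hb).eq).symm
  have hB_le : B ≤ Subgroup.centralizer (A : Set G) := by
    intro b hb
    rw [Subgroup.mem_centralizer_iff]
    intro a ha
    exact (hcomm a ha b hb).eq
  obtain ⟨hCBU, hCB⟩ := Cfsg.Agent.S0549.result U hU hcore B hB
  obtain ⟨hCAU, hCA⟩ := Cfsg.Agent.S0549.result U hU hcore A hA
  have hCB_eq : Subgroup.centralizer (B : Set G) = A := by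
    rcases hCB with h | ⟨-, h⟩
    · exfalso; rw [h, le_bot_iff] at hA_le; exact hA hA_le
    · rcases h A hAn hA_le with h' | h'
      · exact absurd h' hA
      · exact h'.symm
  have hCA_eq : Subgroup.centralizer (A : Set G) = B := by
    rcases hCA with h | ⟨-, h⟩
    · exfalso; rw [h, le_bot_iff] at hB_le; exact hB hB_le
    · rcases h B hBn hB_le with h' | h'
      · exact absurd h' hB
      · exact h'.symm
  have hAU : A ⊓ U = ⊥ := by rw [← hCB_eq]; exact hCBU
  have hBU : B ⊓ U = ⊥ := by rw [← hCA_eq]; exact hCAU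
  have hAUs : A ⊔ U = ⊤ := Cfsg.Agent.S0549.sup_eq_top_of_normal U hU hcore A hA
  have hBUs : B ⊔ U = ⊤ := Cfsg.Agent.S0549.sup_eq_top_of_normal U hU hcore B hB
  have hcompA : Subgroup.IsComplement' A U := by
    apply Subgroup.isComplement'_of_disjoint_and_mul_eq_univ (disjoint_iff.mpr hAU)
    rw [← Subgroup.normal_mul, hAUs]; rfl
  have hcompB : Subgroup.IsComplement' B U := by
    apply Subgroup.isComplement'_of_disjoint_and_mul_eq_univ (disjoint_iff.mpr hBU)
    rw [← Subgroup.normal_mul, hBUs]; rfl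
  have hnc : ¬ IsMulCommutative A := by
    intro hc
    have : A ≤ Subgroup.centralizer (A : Set G) := Subgroup.le_centralizer_iff_isMulCommutative.mpr hc
    rw [hCA_eq] at this
    have h2 : A ≤ A ⊓ B := le_inf le_rfl this
    rw [hinf, le_bot_iff] at h2
    exact hA h2
  obtain ⟨e1⟩ := iso_inf_of_complement A B U hinf hBU hBUs
  have hinf' : B ⊓ A = ⊥ := by rw [inf_comm]; exact hinf
  obtain ⟨e2⟩ := iso_inf_of_complement B A U hinf' hAU hAUs
  have hsup : B ⊔ A = A ⊔ B := sup_comm _ _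
  have e3 : ↥((B ⊔ A) ⊓ U) ≃* ↥((A ⊔ B) ⊓ U) := MulEquiv.subgroupCongr (by rw [hsup])
  exact ⟨hCB_eq, hCA_eq, hcompA, hcompB, hnc, ⟨e1.trans (e3.symm.trans e2.symm)⟩, ⟨e1⟩⟩

end Cfsg.Agent.S0550
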