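import Cfsg.Statements.S0551
import Mathlib
import Cfsg.Agent.S0549
import Cfsg.Agent.S0538
import Cfsg.Agent.Lib.helper12.Conj
import Cfsg.Agent.Lib.helper12.MinNormal
import Cfsg.Agent.Lib.helper12.PGroupCentral
import Cfsg.Agent.Lib.helper12.SylowNormal

set_option autoImplicit false
open Pointwise
open Cfsg

namespace Cfsg.Agent.S0551

open Cfsg.Agent.Lib.helper12

/-- In a finite solvable group all core-free maximal subgroups are conjugate. -/
theorem result {G : Type*} [Group G] [Finite G] [Group.IsSolvable G] (U V : Subgroup G) (hU : IsCoatom U) (hV : IsCoatom V) (hUc : U.normalCore = ⊥) (hVc : V.normalCore = ⊥) : ∃ g : G, MulAut.conj g • U = V := by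
  have hnt : Nontrivial G := by
    by_contra h
    rw [not_nontrivial_iff_subsingleton] at h
    exact hU.1 (Subsingleton.elim _ _)
  obtain ⟨N, hNne, hNn, hNmin⟩ := exists_minimal_normal (G := G)
  obtain ⟨p, hp, hNp⟩ := minimal_normal_isPGroup N hNne hNmin
  have hpF : Fact p.Prime := ⟨hp⟩
  have hNcomm := minimal_normal_isMulCommutative N hNne hNmin
  have hCN : Subgroup.centralizer (N : Set G) = N := by
    obtain ⟨-, hC⟩ := Cfsg.Agent.S0549.result U hU hUc N hNne
    have hNC : N ≤ Subgroup.centralizer (N : Set G) :=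
      Subgroup.le_centralizer_iff_isMulCommutative.mpr hNcomm
    rcases hC with h | ⟨-, h⟩
    · exfalso; rw [h, le_bot_iff] at hNC; exact hNne hNC
    · rcases h N hNn hNC with h' | h'
      · exact absurd h' hNne
      · exact h'.symm
  have hNU : N ⊓ U = ⊥ := by
    have := (Cfsg.Agent.S0549.result U hU hUc N hNne).1
    rwa [hCN] at this
  have hNV : N ⊓ V = ⊥ := by
    have := (Cfsg.Agent.S0549.result V hV hVc N hNne).1
    rwa [hCN] at this
  have hNUs : N ⊔ U = ⊤ := Cfsg.Agent.S0549.sup_eq_top_of_normal U hU hUc N hNne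
  have hNVs : N ⊔ V = ⊤ := Cfsg.Agent.S0549.sup_eq_top_of_normal V hV hVc N hNne
  by_cases hNtop : N = ⊤
  · refine ⟨1, ?_⟩
    have hU0 : U = ⊥ := by rw [hNtop, top_inf_eq] at hNU; exact hNU
    have hV0 : V = ⊥ := by rw [hNtop, top_inf_eq] at hNV; exact hNV
    rw [hU0, hV0]; simp
  · have hntQ : Nontrivial (G ⧸ N) := nontrivial_quotient_of_ne_top N hNtop
    obtain ⟨L', hL'ne, hL'n, hL'min⟩ := exists_minimal_normal (G := G ⧸ N)
    obtain ⟨q, hq, hL'q⟩ := minimal_normal_isPGroup L' hL'ne hL'min
    have hqF : Fact q.Prime := ⟨hq⟩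
    set L := L'.comap (QuotientGroup.mk' N) with hL
    have hLn : L.Normal := hL'n.comap _
    have hNL : N ≤ L := by
      have := Subgroup.ker_le_comap (QuotientGroup.mk' N) L'
      rwa [QuotientGroup.ker_mk'] at this
    have hLneN : L ≠ N := by
      intro h
      apply hL'ne
      have h1 : L' = L.map (QuotientGroup.mk' N) :=
        (Subgroup.map_comap_eq_self_of_surjective (QuotientGroup.mk'_surjective N) L').symm
      rw [h1, h, eq_bot_iff]
      rintro _ ⟨x, hx, rfl⟩
      exact (QuotientGroup.eq_one_iff x).mpr hx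
    have hqp : q ≠ p := by
      rintro rfl
      have hLp : IsPGroup q L :=
        hL'q.comap_of_ker_isPGroup (QuotientGroup.mk' N) (by rw [QuotientGroup.ker_mk']; exact hNp)
      have := le_centralizer_of_minimal_normal_pgroup L N hLp hNp hNne hNmin
      rw [hCN] at this
      exact hLneN (le_antisymm this hNL)
    have key : ∀ W : Subgroup G, IsCoatom W → W.normalCore = ⊥ → N ⊓ W = ⊥ → N ⊔ W = ⊤ →
        (∃ Q : Sylow q L, (Q : Subgroup L) = (L ⊓ W).subgroupOf L) ∧
          Subgroup.normalizer ((L ⊓ W : Subgroup G) : Set G) = W := by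
      intro W hW hWc hNW hNWs
      set X := L ⊓ W with hX
      have hXN : X ⊓ N = ⊥ := by
        rw [eq_bot_iff, ← hNW]; exact fun x hx => ⟨hx.2, hx.1.2⟩
      have hLX : X ⊔ N = L := by
        apply le_antisymm (sup_le inf_le_left hNL)
        intro l hl
        have hmem : l ∈ ((N ⊔ W : Subgroup G) : Set G) := by rw [hNWs]; trivial
        rw [Subgroup.normal_mul] at hmem
        obtain ⟨n, hn, w, hw, hnw⟩ := hmem
        have hnw' : n * w = l := hnw
        have hwL : w ∈ L := by
          have : w = n⁻¹ * l := by rw [← hnw']; group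
          rw [this]; exact L.mul_mem (L.inv_mem (hNL hn)) hl
        rw [← hnw']
        exact Subgroup.mul_mem _ ((le_sup_right : N ≤ X ⊔ N) hn)
          ((le_sup_left : X ≤ X ⊔ N) ⟨hwL, hw⟩)
      have hXq : IsPGroup q X := by
        intro x
        obtain ⟨k, hk⟩ := hL'q ⟨QuotientGroup.mk' N (x : G), x.2.1⟩
        refine ⟨k, ?_⟩
        have h1 : QuotientGroup.mk' N ((x : G) ^ q ^ k) = 1 := by
          rw [map_pow]; exact congrArg Subtype.val hk
        have h2 : (x : G) ^ q ^ k ∈ N := (QuotientGroup.eq_one_iff _).mp h1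
        have h3 : (x : G) ^ q ^ k ∈ X ⊓ N := ⟨X.pow_mem x.2 _, h2⟩
        rw [hXN, Subgroup.mem_bot] at h3
        exact Subtype.ext h3
      have hidx : X.relIndex L = Nat.card N := by
        have h1 := relIndex_eq_relIndex_sup_of_normal X N
        rw [hLX] at h1
        rw [← h1, ← Subgroup.inf_relIndex_right, hXN, Subgroup.relIndex_bot_left]
      have hqidx : ¬ q ∣ (X.subgroupOf L).index := by
        show ¬ q ∣ X.relIndex L
        rw [hidx]
        obtain ⟨a, ha⟩ := IsPGroup.iff_card.mp hNp
        rw [ha]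
        intro hd
        exact hqp ((Nat.prime_dvd_prime_iff_eq hq hp).mp (hq.dvd_of_dvd_pow hd))
      refine ⟨⟨(hXq.comap_subtype (K := L)).toSylow hqidx, rfl⟩, ?_⟩
      have hXne : X ≠ ⊥ := by
        intro h; rw [h, bot_sup_eq] at hLX; exact hLneN hLX.symm
      have hWX : W ≤ Subgroup.normalizer (X : Set G) := by
        intro w hw
        rw [mem_normalizer_iff_conj_smul_eq, Subgroup.smul_inf, Subgroup.Normal.conj_smul_eq_self,
          Subgroup.conj_smul_eq_self_of_mem hw]
      by_contra hne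
      have hlt : W < Subgroup.normalizer (X : Set G) := lt_of_le_of_ne hWX (Ne.symm hne)
      have htop := hW.2 _ hlt
      have hXn : X.Normal := Subgroup.normalizer_eq_top_iff.mp htop
      exact hXne (Cfsg.Agent.S0549.eq_bot_of_normal_of_le W hWc X inf_le_right)
    obtain ⟨⟨QU, hQU⟩, hNU'⟩ := key U hU hUc hNU hNUs
    obtain ⟨⟨QV, hQV⟩, hNV'⟩ := key V hV hVc hNV hNVs
    obtain ⟨g, hg⟩ := MulAction.exists_smul_eq L QU QV
    refine ⟨(g : G), ?_⟩
    have h1 : MulAut.conj (g : G) • (L ⊓ U) = L ⊓ V := by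
      have h2 : (MulAut.conj g • (QU : Subgroup L)) = (QV : Subgroup L) := by rw [← hg]; rfl
      rw [hQU, hQV, Subgroup.conj_smul_subgroupOf inf_le_left g] at h2
      have h3 := congrArg (Subgroup.map L.subtype) h2
      rw [Subgroup.subgroupOf_map_subtype, Subgroup.subgroupOf_map_subtype] at h3
      rwa [inf_of_le_left (Subgroup.conj_smul_le_of_le inf_le_left g),
        inf_of_le_left inf_le_left] at h3
    have h1' : MulAut.conj (g : G)⁻¹ • (L ⊓ V) = L ⊓ U := by
      rw [← h1, conj_inv_smul_conj_smul]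
    have h4 : MulAut.conj (g : G) • U ≤ V := by
      have := Cfsg.Agent.S0538.conj_smul_le_normalizer (g : G) hNU'.ge
      rwa [h1, hNV'] at this
    have h6 : MulAut.conj (g : G)⁻¹ • V ≤ U := by
      have := Cfsg.Agent.S0538.conj_smul_le_normalizer (g : G)⁻¹ hNV'.ge
      rwa [h1', hNU'] at this
    apply le_antisymm h4
    have := conj_smul_mono (g : G) h6
    rwa [conj_smul_conj_inv_smul] at this

end Cfsg.Agent.S0551
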