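import Cfsg.Statements.S0552
import Mathlib
import Cfsg.Agent.S0044

set_option autoImplicit false
open Cfsg

namespace Cfsg.Agent.S0552

/-- Let σ be an automorphism of a finite solvable group G fixing every element of the Fitting subgroup. If σ is not the identity then the order of σ and the order of G have a common prime factor. -/
theorem result {G : Type*} [Group G] [Finite G] [Group.IsSolvable G] (σ : G ≃* G) (hσ : ∀ x ∈ Cfsg.fittingSubgroup G, σ x = x) (hne : σ ≠ MulEquiv.refl G) : ¬ (orderOf σ).Coprime (Nat.card G) := by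
  intro hcop
  have hFn : (Cfsg.fittingSubgroup G).Normal := Subgroup.sSup_normal _ (fun H hH => hH.1)
  have hCF := Cfsg.Agent.S0044.result (G := G)
  have hz : ∀ g : G, g⁻¹ * σ g ∈ Cfsg.fittingSubgroup G := by
    intro g
    apply hCF
    rw [Subgroup.mem_centralizer_iff]
    intro x hx
    have hy : g * x * g⁻¹ ∈ Cfsg.fittingSubgroup G := hFn.conj_mem x hx g
    have h1 := hσ _ hy
    rw [map_mul, map_mul, map_inv, hσ x hx] at h1
    calc x * (g⁻¹ * σ g) = g⁻¹ * (g * x * g⁻¹) * σ g := by group
      _ = g⁻¹ * (σ g * x * (σ g)⁻¹) * σ g := by rw [h1]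
      _ = g⁻¹ * σ g * x := by group
  have hpow : ∀ (k : ℕ) (g : G), (σ ^ k) g = g * (g⁻¹ * σ g) ^ k := by
    intro k
    induction k with
    | zero => intro g; simp
    | succ k ih =>
      intro g
      rw [pow_succ', MulAut.mul_apply, ih g, map_mul, map_pow, hσ _ (hz g), pow_succ',
        ← mul_assoc, mul_inv_cancel_left]
  have hone : σ ^ Nat.card G = 1 := by
    ext g
    rw [hpow, pow_card_eq_one', mul_one]
    rfl
  have hdvd : orderOf σ ∣ Nat.card G := orderOf_dvd_of_pow_eq_one hone
  have h1 : orderOf σ = 1 := Nat.Coprime.eq_one_of_dvd hcop hdvd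
  exact hne (orderOf_eq_one_iff.mp h1)

end Cfsg.Agent.S0552
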