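import Cfsg.Statements.S0553
import Mathlib
import Cfsg.Agent.Lib.helper12.Conj
import Cfsg.Agent.Lib.helper12.MinNormal

set_option autoImplicit false
open Pointwise
open Cfsg

namespace Cfsg.Agent.S0553

open Cfsg.Agent.Lib.helper12

theorem main.{u} : ∀ (n : ℕ) (G : Type u) [Group G] [Finite G] [Group.IsSolvable G] [Nontrivial G],
    Nat.card G = n →
    (∀ M : Subgroup G, IsCoatom M → (Nat.card M).Coprime M.index) →
    ∃ p : ℕ, p.Prime ∧ p ∣ Nat.card G ∧ ∀ P : Sylow p G, (P : Subgroup G).Normal := by
  intro n
  induction n using Nat.strong_induction_on with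
  | _ n ih =>
  intro G _ _ _ _ hn h
  obtain ⟨N, hNne, hNn, hNmin⟩ := exists_minimal_normal (G := G)
  obtain ⟨p, hp, hNp⟩ := minimal_normal_isPGroup N hNne hNmin
  have hNcomm := minimal_normal_comm N hNne hNmin
  haveI : Fact p.Prime := ⟨hp⟩
  have hpN : p ∣ Nat.card N := dvd_card_of_isPGroup_of_ne_bot hNp hNne
  have hpG : p ∣ Nat.card G := hpN.trans (Subgroup.card_subgroup_dvd_card N)
  by_cases hNtop : N = ⊤
  · refine ⟨p, hp, hpG, fun P => ?_⟩
    have hP : (P : Subgroup G) = ⊤ := by
      have hG : IsPGroup p (⊤ : Subgroup G) := hNtop ▸ hNp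
      exact (P.is_maximal' hG le_top).symm
    rw [hP]; infer_instance
  · haveI : Nontrivial (G ⧸ N) := nontrivial_quotient_of_ne_top N hNtop
    have hcard : Nat.card (G ⧸ N) < Nat.card G := card_quotient_lt N hNne
    have hQ : ∀ M' : Subgroup (G ⧸ N), IsCoatom M' → (Nat.card M').Coprime M'.index := by
      intro M' hM'
      have hM := Subgroup.isCoatom_comap_of_surjective (QuotientGroup.mk'_surjective N) hM'
      have hcop := h _ hM
      rw [Subgroup.index_comap_of_surjective _ (QuotientGroup.mk'_surjective N)] at hcop
      have hdvd : Nat.card M' ∣ Nat.card (M'.comap (QuotientGroup.mk' N)) := by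
        have := Subgroup.card_map_dvd (M'.comap (QuotientGroup.mk' N)) (QuotientGroup.mk' N)
        rwa [Subgroup.map_comap_eq_self_of_surjective (QuotientGroup.mk'_surjective N)] at this
      exact Nat.Coprime.coprime_dvd_left hdvd hcop
    obtain ⟨r, hr, hrQ, hrN⟩ := ih (Nat.card (G ⧸ N)) (hn ▸ hcard) (G ⧸ N) rfl hQ
    haveI : Fact r.Prime := ⟨hr⟩
    have hrG : r ∣ Nat.card G := hrQ.trans ⟨Nat.card N, (card_quotient_mul_card N).symm⟩
    obtain ⟨R₀⟩ : Nonempty (Sylow r G) := inferInstance
    have hRn : ((R₀ : Subgroup G) ⊔ N).Normal := by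
      have h1 : ((R₀.mapSurjective (QuotientGroup.mk'_surjective N) : Sylow r (G ⧸ N)) :
          Subgroup (G ⧸ N)).Normal := hrN _
      have h2 := h1.comap (QuotientGroup.mk' N)
      rwa [Sylow.coe_mapSurjective, Subgroup.comap_map_eq, QuotientGroup.ker_mk'] at h2
    by_cases hrp : r = p
    · subst hrp
      have hNR : N ≤ R₀ := hNp.le_sylow_of_normal R₀
      rw [sup_of_le_left hNR] at hRn
      exact ⟨r, hr, hrG, fun P => all_sylow_normal_of_normal R₀ hRn P⟩
    · have hfrat : Subgroup.normalizer ((R₀ : Subgroup G) : Set G) ⊔ ((R₀ : Subgroup G) ⊔ N) = ⊤ :=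
        Sylow.normalizer_sup_eq_top' R₀ le_sup_left
      have hfrat2 : Subgroup.normalizer ((R₀ : Subgroup G) : Set G) ⊔ N = ⊤ := by
        rw [← hfrat, ← sup_assoc, sup_of_le_left Subgroup.le_normalizer]
      by_cases hNR : Subgroup.normalizer ((R₀ : Subgroup G) : Set G) = ⊤
      · exact ⟨r, hr, hrG, fun P => all_sylow_normal_of_normal R₀
          (Subgroup.normalizer_eq_top_iff.mp hNR) P⟩
      · obtain ⟨M, hM, hle⟩ := (eq_top_or_exists_le_coatom _).resolve_left hNR
        have hMN : M ⊔ N = ⊤ := top_le_iff.mp (hfrat2 ▸ sup_le_sup_right hle N)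
        have hinfn : (N ⊓ M).Normal := by
          rw [← Subgroup.normalizer_eq_top_iff, eq_top_iff, ← hMN]
          refine sup_le ?_ ?_
          · intro m hm
            rw [mem_normalizer_iff_conj_smul_eq, Subgroup.smul_inf,
              Subgroup.Normal.conj_smul_eq_self, Subgroup.conj_smul_eq_self_of_mem hm]
          · rw [Subgroup.le_normalizer_iff]
            intro a ha x hx
            have : a * x * a⁻¹ = x := by
              rw [hNcomm a ha x hx.1, mul_inv_cancel_right]
            rw [this]; exact hx
        have hinf : N ⊓ M = ⊥ := by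
          rcases hNmin (N ⊓ M) hinfn inf_le_left with h' | h'
          · exact h'
          · exfalso
            have hNM : N ≤ M := by rw [← h']; exact inf_le_right
            rw [sup_of_le_left hNM] at hMN
            exact hM.1 hMN
        have hcompl : Subgroup.IsComplement' N M := by
          apply Subgroup.isComplement'_of_disjoint_and_mul_eq_univ (disjoint_iff.mpr hinf)
          rw [← Subgroup.normal_mul, sup_comm, hMN]; rfl
        have hcardMN : Nat.card N * Nat.card M = Nat.card G := hcompl.card_mul_card
        have hidx : M.index = Nat.card N := by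
          have h1 : Nat.card M * M.index = Nat.card G := Subgroup.card_mul_index M
          have hpos : 0 < Nat.card M := Nat.card_pos
          have : Nat.card M * M.index = Nat.card M * Nat.card N := by
            rw [h1, ← hcardMN, mul_comm]
          exact Nat.eq_of_mul_eq_mul_left hpos this
        have hcop := h M hM
        rw [hidx] at hcop
        have hpM : ¬ p ∣ Nat.card M := by
          intro hd
          have := Nat.dvd_gcd hd hpN
          rw [hcop.gcd_eq_one] at this
          exact hp.one_lt.ne' (Nat.dvd_one.mp this)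
        refine ⟨p, hp, hpG, fun P => ?_⟩
        have hNP : N ≤ P := hNp.le_sylow_of_normal P
        have hPeq : N = (P : Subgroup G) := by
          apply Subgroup.eq_of_le_of_card_ge hNP
          obtain ⟨a, ha⟩ := IsPGroup.iff_card.mp P.isPGroup'
          have h1 : Nat.card (P : Subgroup G) ∣ Nat.card N * Nat.card M := by
            rw [hcardMN]; exact Subgroup.card_subgroup_dvd_card _
          have h2 : (Nat.card (P : Subgroup G)).Coprime (Nat.card M) := by
            rw [ha]
            exact Nat.Coprime.pow_left a ((Nat.Prime.coprime_iff_not_dvd hp).mpr hpM)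
          exact Nat.le_of_dvd Nat.card_pos (h2.dvd_of_dvd_mul_right h1)
        rw [← hPeq]; exact hNn

/-- Let G be a nontrivial finite solvable group in which every maximal subgroup has order coprime to its index. Then for some prime p dividing the order of G the Sylow p-subgroups of G are normal. -/
theorem result {G : Type*} [Group G] [Finite G] [Group.IsSolvable G] [Nontrivial G] (h : ∀ M : Subgroup G, IsCoatom M → (Nat.card M).Coprime M.index) : ∃ p : ℕ, p.Prime ∧ p ∣ Nat.card G ∧ ∀ P : Sylow p G, (P : Subgroup G).Normal := by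
  exact main _ G rfl h

end Cfsg.Agent.S0553
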