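import Cfsg.Statements.S0554
import Mathlib
import Cfsg.Agent.Lib.helper12.Conj
import Cfsg.Agent.Lib.helper12.MinNormal

set_option autoImplicit false
open Pointwise
open Cfsg

namespace Cfsg.Agent.S0554

open Cfsg.Agent.Lib.helper12

/-- An element of a normal subgroup to the right of an ordered product can be absorbed into
any factor. -/
theorem absorb {G : Type*} [Group G] (N : Subgroup G) [hN : N.Normal] :
    ∀ (t : ℕ) (s : Fin t → G) (j : Fin t) (n : G), n ∈ N →
      ∃ n' ∈ N, (List.ofFn s).prod * n = (List.ofFn (Function.update s j (s j * n'))).prod := by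
  intro t
  induction t with
  | zero => intro s j; exact j.elim0
  | succ t ih =>
    intro s j n hn
    refine Fin.cases ?_ (fun j' => ?_) j
    · refine ⟨(List.ofFn fun i => s i.succ).prod * n * ((List.ofFn fun i => s i.succ).prod)⁻¹,
        hN.conj_mem n hn _, ?_⟩
      rw [List.ofFn_succ, List.ofFn_succ, List.prod_cons, List.prod_cons, Function.update_self]
      have : (fun i : Fin t => Function.update s 0
          (s 0 * ((List.ofFn fun i => s i.succ).prod * n * ((List.ofFn fun i => s i.succ).prod)⁻¹))
          i.succ) = fun i => s i.succ := by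
        funext i
        rw [Function.update_of_ne (Fin.succ_ne_zero i)]
      rw [this]
      group
    · obtain ⟨n', hn', he⟩ := ih (fun i => s i.succ) j' n hn
      refine ⟨n', hn', ?_⟩
      rw [List.ofFn_succ, List.ofFn_succ, List.prod_cons, List.prod_cons, mul_assoc, he]
      have h0 : Function.update s j'.succ (s j'.succ * n') 0 = s 0 :=
        Function.update_of_ne (Fin.succ_ne_zero j').symm _ _
      have : (fun i : Fin t => Function.update s j'.succ (s j'.succ * n') i.succ)
          = Function.update (fun i => s i.succ) j' (s j'.succ * n') := by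
        funext i
        by_cases hij : i = j'
        · subst hij
          rw [Function.update_self, Function.update_self]
        · rw [Function.update_of_ne hij, Function.update_of_ne (fun h => hij (Fin.succ_inj.mp h))]
      rw [h0, this]

theorem main.{u} : ∀ (n : ℕ) (G : Type u) [Group G] [Finite G] [Group.IsSolvable G],
    Nat.card G = n → ∀ (t : ℕ) (p : Fin t → ℕ) (_ : ∀ i, (p i).Prime)
    (_ : ∀ q : ℕ, q.Prime → q ∣ Nat.card G → ∃ i, p i = q) (S : (i : Fin t) → Sylow (p i) G),
    ∀ g : G, ∃ s : (i : Fin t) → G, (∀ i, s i ∈ (S i : Subgroup G)) ∧ g = (List.ofFn s).prod := by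
  intro n
  induction n using Nat.strong_induction_on with
  | _ n ih =>
    intro G _ _ _ hn t p hp hall S g
    by_cases hG : Nontrivial G
    · obtain ⟨N, hNne, hNn, hmin⟩ := exists_minimal_normal (G := G)
      obtain ⟨q, hq, hNq⟩ := minimal_normal_isPGroup N hNne hmin
      have hfq : Fact q.Prime := ⟨hq⟩
      have hqd : q ∣ Nat.card G :=
        (dvd_card_of_isPGroup_of_ne_bot hNq hNne).trans (Subgroup.card_subgroup_dvd_card N)
      obtain ⟨j, rfl⟩ := hall q hq hqd
      have hNS : N ≤ S j := by
        obtain ⟨P, hP⟩ := hNq.exists_le_sylow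
        obtain ⟨x, hx⟩ := MulAction.exists_smul_eq G P (S j)
        rw [← hx, Sylow.coe_subgroup_smul]
        have h2 := conj_smul_mono x hP
        rw [Subgroup.Normal.conj_smul_eq_self x N] at h2
        exact h2
      have hπ : Function.Surjective (QuotientGroup.mk' N) := QuotientGroup.mk'_surjective N
      have hfact : ∀ i, Fact (p i).Prime := fun i => ⟨hp i⟩
      have hlt : Nat.card (G ⧸ N) < n := hn ▸ card_quotient_lt N hNne
      have hall' : ∀ q : ℕ, q.Prime → q ∣ Nat.card (G ⧸ N) → ∃ i, p i = q :=
        fun q hq hqd => hall q hq (hqd.trans ⟨_, (card_quotient_mul_card N).symm⟩)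
      obtain ⟨s', hs', hg'⟩ := ih _ hlt (G ⧸ N) rfl t p hp hall'
        (fun i => (S i).mapSurjective hπ) (QuotientGroup.mk' N g)
      have hlift : ∀ i, ∃ x ∈ (S i : Subgroup G), QuotientGroup.mk' N x = s' i := by
        intro i
        have := hs' i
        rw [Sylow.coe_mapSurjective] at this
        exact this
      choose s hs hss using hlift
      have hprod : QuotientGroup.mk' N ((List.ofFn s).prod) = QuotientGroup.mk' N g := by
        rw [map_list_prod, List.map_ofFn, hg']
        have : (⇑(QuotientGroup.mk' N) ∘ s) = s' := funext hss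
        rw [this]
      have hn₀N : ((List.ofFn s).prod)⁻¹ * g ∈ N := QuotientGroup.eq.mp hprod
      obtain ⟨n', hn', he⟩ := absorb N t s j _ hn₀N
      refine ⟨Function.update s j (s j * n'), ?_, ?_⟩
      · intro i
        by_cases hij : i = j
        · subst hij
          rw [Function.update_self]
          exact (S i : Subgroup G).mul_mem (hs i) (hNS hn')
        · rw [Function.update_of_ne hij]; exact hs i
      · rw [← he]; group
    · rw [not_nontrivial_iff_subsingleton] at hG
      refine ⟨fun _ => 1, fun i => Subgroup.one_mem _, ?_⟩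
      rw [List.prod_eq_one]
      · exact Subsingleton.elim _ _
      · intro x hx
        obtain ⟨i, rfl⟩ := List.mem_ofFn.mp hx
        rfl

/-- Let G be a finite solvable group and let S assign to each of t distinct primes, including every prime divisor of the order of G, a Sylow subgroup of G. Then every element of G is a product s_0 s_1 ⋯ s_(t-1) with s_i in S i, the factors taken in the given order. -/
theorem result {G : Type*} [Group G] [Finite G] [Group.IsSolvable G] (t : ℕ) (p : Fin t → ℕ) (hp : ∀ i, (p i).Prime) (hinj : Function.Injective p) (hall : ∀ q : ℕ, q.Prime → q ∣ Nat.card G → ∃ i, p i = q) (S : (i : Fin t) → Sylow (p i) G) : ∀ g : G, ∃ s : (i : Fin t) → G, (∀ i, s i ∈ (S i : Subgroup G)) ∧ g = (List.ofFn s).prod := by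
  have _ := hinj
  exact main _ G rfl t p hp hall S

end Cfsg.Agent.S0554
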