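import Cfsg.Statements.S0555
import Mathlib
import Cfsg.Agent.Lib.helper11.Supersolvable

set_option autoImplicit false
open Cfsg

namespace Cfsg.Agent.S0555

open scoped commutatorElement

/-- Let i ≥ 1. If in the derived series of a group the quotient of the i-th term by the (i+1)-st and the quotient of the (i+1)-st by the (i+2)-nd are both cyclic, then the (i+1)-st and (i+2)-nd terms coincide. -/
theorem result {G : Type*} [Group G] (i : ℕ) (hi : 1 ≤ i) (h₁ : IsCyclic (↥(derivedSeries G i) ⧸ (derivedSeries G (i + 1)).subgroupOf (derivedSeries G i))) (h₂ : IsCyclic (↥(derivedSeries G (i + 1)) ⧸ (derivedSeries G (i + 2)).subgroupOf (derivedSeries G (i + 1)))) : derivedSeries G (i + 1) = derivedSeries G (i + 2) := by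
  have hAn : (derivedSeries G (i + 1)).Normal := derivedSeries_normal G (i + 1)
  have hBn : (derivedSeries G (i + 2)).Normal := derivedSeries_normal G (i + 2)
  have hBA : derivedSeries G (i + 2) ≤ derivedSeries G (i + 1) :=
    derivedSeries_antitone G (by omega)
  have hAT : derivedSeries G (i + 1) ≤ derivedSeries G i := derivedSeries_antitone G (by omega)
  have hT1 : derivedSeries G i ≤ commutator G := by
    rw [← derivedSeries_one G]; exact derivedSeries_antitone G hi
  apply le_antisymm _ hBA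
  obtain ⟨c, hc⟩ := IsCyclic.exists_generator
    (α := ↥(derivedSeries G (i + 1)) ⧸ (derivedSeries G (i + 2)).subgroupOf (derivedSeries G (i + 1)))
  obtain ⟨a₀, rfl⟩ := QuotientGroup.mk_surjective c
  set π := QuotientGroup.mk' (derivedSeries G (i + 2)) with hπ
  have hπs : Function.Surjective π := QuotientGroup.mk'_surjective _
  have hAgen : ∀ a ∈ derivedSeries G (i + 1), ∃ m : ℤ, π a = (π (a₀ : G)) ^ m := by
    intro a ha
    obtain ⟨m, hm⟩ := Subgroup.mem_zpowers_iff.mp (hc (QuotientGroup.mk ⟨a, ha⟩))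
    refine ⟨m, ?_⟩
    rw [← QuotientGroup.mk_zpow] at hm
    have h3 := QuotientGroup.eq.mp hm
    rw [Subgroup.mem_subgroupOf] at h3
    rw [← map_zpow]
    symm
    have h4 : ((a₀ : G) ^ m)⁻¹ * a ∈ derivedSeries G (i + 2) := h3
    exact QuotientGroup.eq.mpr h4
  have hnorm : (Subgroup.zpowers (π (a₀ : G))).Normal := by
    have : Subgroup.zpowers (π (a₀ : G)) = (derivedSeries G (i + 1)).map π := by
      apply le_antisymm
      · rw [Subgroup.zpowers_le]; exact Subgroup.mem_map_of_mem π a₀.2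
      · rintro _ ⟨a, ha, rfl⟩
        obtain ⟨m, hm⟩ := hAgen a ha
        rw [hm]; exact Subgroup.zpow_mem _ (Subgroup.mem_zpowers _) m
    rw [this]; exact hAn.map π hπs
  have hcomm : ∀ t ∈ derivedSeries G i, ∀ a ∈ derivedSeries G (i + 1), Commute (π t) (π a) := by
    intro t ht a ha
    have htc : π t ∈ commutator (G ⧸ derivedSeries G (i + 2)) := by
      have h1 : t ∈ ⁅(⊤ : Subgroup G), (⊤ : Subgroup G)⁆ := by
        rw [← commutator_def]; exact hT1 ht
      rw [commutator_def]
      have h2 := Subgroup.mem_map_of_mem π h1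
      rw [Subgroup.map_commutator] at h2
      exact Subgroup.commutator_mono le_top le_top h2
    have h0 := Cfsg.Agent.Lib.helper11.commutator_commute_of_normal_zpowers _ hnorm _ htc
    obtain ⟨m, hm⟩ := hAgen a ha
    rw [hm]
    exact Commute.zpow_right h0 m
  obtain ⟨d, hd⟩ := IsCyclic.exists_generator
    (α := ↥(derivedSeries G i) ⧸ (derivedSeries G (i + 1)).subgroupOf (derivedSeries G i))
  obtain ⟨x₀, rfl⟩ := QuotientGroup.mk_surjective d
  have hTgen : ∀ t ∈ derivedSeries G i, ∃ m : ℤ, ∃ a ∈ derivedSeries G (i + 1),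
      t = (x₀ : G) ^ m * a := by
    intro t ht
    obtain ⟨m, hm⟩ := Subgroup.mem_zpowers_iff.mp (hd (QuotientGroup.mk ⟨t, ht⟩))
    rw [← QuotientGroup.mk_zpow] at hm
    have h3 := QuotientGroup.eq.mp hm
    rw [Subgroup.mem_subgroupOf] at h3
    have h4 : ((x₀ : G) ^ m)⁻¹ * t ∈ derivedSeries G (i + 1) := h3
    exact ⟨m, ((x₀ : G) ^ m)⁻¹ * t, h4, by group⟩
  have hTcomm : ∀ t₁ ∈ derivedSeries G i, ∀ t₂ ∈ derivedSeries G i, Commute (π t₁) (π t₂) := by
    intro t₁ ht₁ t₂ ht₂
    obtain ⟨m, a₁, ha₁, rfl⟩ := hTgen t₁ ht₁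
    obtain ⟨n, a₂, ha₂, rfl⟩ := hTgen t₂ ht₂
    rw [map_mul, map_mul, map_zpow, map_zpow]
    have hX1 : Commute (π (x₀ : G)) (π a₁) := hcomm _ x₀.2 a₁ ha₁
    have hX2 : Commute (π (x₀ : G)) (π a₂) := hcomm _ x₀.2 a₂ ha₂
    have h12 : Commute (π a₁) (π a₂) := hcomm a₁ (hAT ha₁) a₂ ha₂
    apply Commute.mul_left
    · apply Commute.mul_right
      · exact Commute.zpow_zpow_self _ m n
      · exact Commute.zpow_left hX2 m
    · apply Commute.mul_right
      · exact (Commute.zpow_left hX1 n).symm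
      · exact h12
  rw [derivedSeries_succ G i, Subgroup.commutator_le]
  intro t₁ ht₁ t₂ ht₂
  have h5 := hTcomm t₁ ht₁ t₂ ht₂
  rw [← QuotientGroup.eq_one_iff (N := derivedSeries G (i + 2))]
  show π ⁅t₁, t₂⁆ = 1
  rw [map_commutatorElement, commutatorElement_eq_one_iff_commute]
  exact h5

end Cfsg.Agent.S0555
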