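import Mathlib
import Cfsg.Statements.S0556
import Cfsg.Agent.Lib.helper67.Frobenius
import Cfsg.Agent.Lib.helper1.SZ

set_option autoImplicit false
open Cfsg

namespace Cfsg.Agent.S0556

open scoped Pointwise commutatorElement
open Cfsg.Agent.Lib.helper67 Cfsg.Agent.Lib.helper1

/-- In a TI situation, anything normalizing a nontrivial subgroup of `A` lies in `A`. -/
theorem mem_of_normalizes {G : Type*} [Group G] (A : Subgroup G)
    (hTI : ∀ g : G, g ∉ A → A ⊓ MulAut.conj g • A = ⊥) (D : Subgroup G) (hD : D ≠ ⊥)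
    (hDA : D ≤ A) (y : G) (hy : y ∈ Subgroup.normalizer (D : Set G)) : y ∈ A := by
  by_contra hyA
  apply hD
  rw [eq_bot_iff, ← hTI y hyA]
  intro x hx
  refine Subgroup.mem_inf.2 ⟨hDA hx, ?_⟩
  rw [mem_conj_smul]
  apply hDA
  have h1 : y⁻¹ ∈ Subgroup.normalizer (D : Set G) := inv_mem hy
  have h2 := (Subgroup.mem_normalizer_iff.1 h1 x).1 hx
  simpa using h2

/-- Sylow subgroups of a TI subgroup are Sylow in the whole group. -/
theorem exists_sylow_le {G : Type*} [Group G] [Finite G] (A : Subgroup G)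
    (hTI : ∀ g : G, g ∉ A → A ⊓ MulAut.conj g • A = ⊥) (p : ℕ) [Fact p.Prime]
    (hp : p ∣ Nat.card A) : ∃ P : Sylow p G, (P : Subgroup G) ≤ A := by
  obtain ⟨Q⟩ : Nonempty (Sylow p A) := inferInstance
  set Q' : Subgroup G := (Q : Subgroup A).map A.subtype with hQ'
  have hQ'A : Q' ≤ A := Subgroup.map_subtype_le _
  have hQ'p : IsPGroup p Q' := Q.2.map _
  have hQ'ne : Q' ≠ ⊥ := by
    intro h
    have h1 : (Q : Subgroup A) = ⊥ := by
      rw [hQ'] at h
      exact (Subgroup.map_eq_bot_iff_of_injective _ (Subgroup.subtype_injective A)).1 h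
    exact Q.ne_bot_of_dvd_card hp h1
  obtain ⟨P, hP⟩ := hQ'p.exists_le_sylow
  refine ⟨P, ?_⟩
  by_cases hne : Q' = (P : Subgroup G)
  · rw [← hne]; exact hQ'A
  exfalso
  obtain ⟨y, hyP, hyN, hyQ⟩ := exists_normalizer_not_mem (P : Subgroup G) P.2 Q' hP hne
  have hyA : y ∈ A := mem_of_normalizes A hTI Q' hQ'ne hQ'A y hyN
  -- D = Q' ⊔ zpowers y is a p-subgroup of A
  set D : Subgroup G := Q' ⊔ Subgroup.zpowers y with hD
  have hDP : D ≤ (P : Subgroup G) := sup_le hP ((Subgroup.zpowers_le).2 hyP)
  have hDA : D ≤ A := sup_le hQ'A ((Subgroup.zpowers_le).2 hyA)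
  have hDp : IsPGroup p D := P.2.to_le hDP
  have hDp' : IsPGroup p (D.subgroupOf A) :=
    hDp.comap_of_injective A.subtype (Subgroup.subtype_injective A)
  have hQD : (Q : Subgroup A) ≤ D.subgroupOf A := by
    intro a ha
    rw [Subgroup.mem_subgroupOf]
    exact (le_sup_left : Q' ≤ D) ⟨a, ha, rfl⟩
  have hDQ : D.subgroupOf A = (Q : Subgroup A) := Q.is_maximal' hDp' hQD
  apply hyQ
  have hy1 : (⟨y, hyA⟩ : A) ∈ D.subgroupOf A := by
    rw [Subgroup.mem_subgroupOf]
    exact (le_sup_right : Subgroup.zpowers y ≤ D) (Subgroup.mem_zpowers y)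
  rw [hDQ] at hy1
  exact ⟨⟨y, hyA⟩, hy1, rfl⟩

/-- Burnside: for each prime dividing `|A|`, a normal `p`-complement of index `|A|_p`. -/
theorem exists_normal_pcompl {G : Type*} [Group G] [Finite G] (A : Subgroup G)
    [IsMulCommutative A]
    (hTI : ∀ g : G, g ∉ A → A ⊓ MulAut.conj g • A = ⊥) (p : ℕ) (hpp : p.Prime)
    (hp : p ∣ Nat.card A) : ∃ K : Subgroup G, K.Normal ∧
      K.index = p ^ (Nat.card A).factorization p ∧ ¬ p ∣ Nat.card K := by
  haveI : Fact p.Prime := ⟨hpp⟩
  obtain ⟨P, hPA⟩ := exists_sylow_le A hTI p hp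
  have hPne : (P : Subgroup G) ≠ ⊥ :=
    P.ne_bot_of_dvd_card (hp.trans (Subgroup.card_subgroup_dvd_card A))
  have hP : Subgroup.normalizer (P : Set G) ≤ Subgroup.centralizer (P : Set G) := by
    intro y hy
    have hyA : y ∈ A := mem_of_normalizes A hTI (P : Subgroup G) hPne hPA y hy
    rw [Subgroup.mem_centralizer_iff]
    intro x hx
    have := mul_comm' (⟨x, hPA hx⟩ : A) ⟨y, hyA⟩
    exact congrArg Subtype.val this
  have hc := MonoidHom.ker_transferSylow_isComplement' P hP
  refine ⟨(MonoidHom.transferSylow P hP).ker, inferInstance, ?_,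
    MonoidHom.not_dvd_card_ker_transferSylow P hP⟩
  rw [hc.symm.index_eq_card, P.card_eq_multiplicity]
  congr 1
  have hA0 : Nat.card A ≠ 0 := Nat.card_pos.ne'
  have hG0 : Nat.card G ≠ 0 := Nat.card_pos.ne'
  apply le_antisymm
  · have h1 : Nat.card (P : Subgroup G) ∣ Nat.card A := Subgroup.card_dvd_of_le hPA
    rw [P.card_eq_multiplicity] at h1
    exact (hpp.pow_dvd_iff_le_factorization hA0).1 h1
  · exact (Nat.factorization_le_iff_dvd hA0 hG0).2 (Subgroup.card_subgroup_dvd_card A) p

/-- An abelian TI subgroup has a normal complement, of coprime order. -/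
theorem exists_normal_complement_of_TI {G : Type*} [Group G] [Finite G] (A : Subgroup G)
    [IsMulCommutative A]
    (hTI : ∀ g : G, g ∉ A → A ⊓ MulAut.conj g • A = ⊥) :
    ∃ N : Subgroup G, N.Normal ∧ N.IsComplement' A ∧ (Nat.card N).Coprime (Nat.card A) := by
  classical
  have hA0 : Nat.card A ≠ 0 := Nat.card_pos.ne'
  have hex : ∀ p : (Nat.card A).primeFactors, ∃ K : Subgroup G, K.Normal ∧
      K.index = (p : ℕ) ^ (Nat.card A).factorization p ∧ ¬ (p : ℕ) ∣ Nat.card K := by
    intro p
    have hp := Nat.mem_primeFactors.1 p.2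
    exact exists_normal_pcompl A hTI p hp.1 hp.2.1
  choose K hKn hKi hKp using hex
  set N : Subgroup G := ⨅ p, K p with hN
  haveI : N.Normal := Subgroup.normal_iInf_normal hKn
  have hNK : ∀ p, N ≤ K p := fun p => iInf_le K p
  have hidx : N.index ≤ Nat.card A := by
    calc N.index ≤ ∏ p, (K p).index := Subgroup.index_iInf_le K
      _ = ∏ p : (Nat.card A).primeFactors, (p : ℕ) ^ (Nat.card A).factorization p := by
        simp only [hKi]
      _ = ∏ p ∈ (Nat.card A).primeFactors, p ^ (Nat.card A).factorization p :=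
        Finset.prod_coe_sort (Nat.card A).primeFactors
          (fun p => p ^ (Nat.card A).factorization p)
      _ = Nat.card A := by
        have := Nat.prod_factorization_pow_eq_self hA0
        rw [Finsupp.prod, Nat.support_factorization] at this
        exact this
  have hdisj : Disjoint N A := by
    rw [Subgroup.disjoint_def]
    intro x hxN hxA
    by_contra hx1
    have ho : orderOf x ≠ 1 := fun h => hx1 (orderOf_eq_one_iff.1 h)
    obtain ⟨p, hpp, hpd⟩ := Nat.exists_prime_and_dvd ho
    have hoA : orderOf x ∣ Nat.card A := by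
      have := orderOf_dvd_natCard (⟨x, hxA⟩ : A)
      rwa [Subgroup.orderOf_mk] at this
    have hpA : p ∈ (Nat.card A).primeFactors :=
      Nat.mem_primeFactors.2 ⟨hpp, hpd.trans hoA, hA0⟩
    have hoK : orderOf x ∣ Nat.card (K ⟨p, hpA⟩) := by
      have := orderOf_dvd_natCard (⟨x, hNK ⟨p, hpA⟩ hxN⟩ : K ⟨p, hpA⟩)
      rwa [Subgroup.orderOf_mk] at this
    exact hKp ⟨p, hpA⟩ (hpd.trans hoK)
  have hcard : Nat.card N * Nat.card A = Nat.card G := by
    apply le_antisymm
    · have hinj := Subgroup.mul_injective_of_disjoint hdisj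
      have := Nat.card_le_card_of_injective _ hinj
      rwa [Nat.card_prod] at this
    · rw [← N.card_mul_index]
      exact Nat.mul_le_mul_left _ hidx
  refine ⟨N, inferInstance, Subgroup.isComplement'_of_card_mul_and_disjoint hcard hdisj, ?_⟩
  by_contra hcop
  obtain ⟨p, hpp, hpN, hpA⟩ := Nat.Prime.not_coprime_iff_dvd.1 hcop
  have hpA' : p ∈ (Nat.card A).primeFactors := Nat.mem_primeFactors.2 ⟨hpp, hpA, hA0⟩
  exact hKp ⟨p, hpA'⟩ (hpN.trans (Subgroup.card_dvd_of_le (hNK ⟨p, hpA'⟩)))

/-- `G' ≤ N` when `N` is a normal complement of an abelian subgroup. -/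
theorem commutator_le_of_complement {G : Type*} [Group G] (N A : Subgroup G) [N.Normal]
    [IsMulCommutative A] (hc : N.IsComplement' A) : commutator G ≤ N := by
  have key : ∀ g : G, ∃ a ∈ A, (QuotientGroup.mk g : G ⧸ N) = QuotientGroup.mk a := by
    intro g
    obtain ⟨⟨⟨n, hn⟩, ⟨a, ha⟩⟩, rfl⟩ := hc.2 g
    refine ⟨a, ha, ?_⟩
    change ((n * a : G) : G ⧸ N) = _
    rw [QuotientGroup.mk_mul, (QuotientGroup.eq_one_iff n).2 hn, one_mul]
  rw [commutator_def, Subgroup.commutator_le]
  intro x _ y _
  obtain ⟨a, ha, hxa⟩ := key x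
  obtain ⟨b, hb, hyb⟩ := key y
  rw [← QuotientGroup.eq_one_iff]
  have hab : a * b = b * a := congrArg Subtype.val (mul_comm' (⟨a, ha⟩ : A) ⟨b, hb⟩)
  have h1 : ((⁅x, y⁆ : G) : G ⧸ N) = ((⁅a, b⁆ : G) : G ⧸ N) := by
    simp only [commutatorElement_def, QuotientGroup.mk_mul, QuotientGroup.mk_inv, hxa, hyb]
  rw [h1, commutatorElement_def, hab]
  simp

/-- The normalizer of `R` normalizes the centre of `R`. -/
theorem normalizer_le_normalizer_center {G : Type*} [Group G] (R : Subgroup G) :
    Subgroup.normalizer (R : Set G) ≤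
      Subgroup.normalizer ((R ⊓ Subgroup.centralizer (R : Set G) : Subgroup G) : Set G) := by
  have aux : ∀ b ∈ Subgroup.normalizer (R : Set G), ∀ x ∈ R ⊓ Subgroup.centralizer (R : Set G),
      b * x * b⁻¹ ∈ R ⊓ Subgroup.centralizer (R : Set G) := by
    intro b hb x hx
    obtain ⟨hxR, hxC⟩ := Subgroup.mem_inf.1 hx
    refine Subgroup.mem_inf.2 ⟨(Subgroup.mem_normalizer_iff.1 hb x).1 hxR, ?_⟩
    rw [Subgroup.mem_centralizer_iff]
    intro y hy
    have hb' : b⁻¹ ∈ Subgroup.normalizer (R : Set G) := inv_mem hb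
    have hy' : b⁻¹ * y * b ∈ R := by
      have := (Subgroup.mem_normalizer_iff.1 hb' y).1 hy
      simpa using this
    have h1 := Subgroup.mem_centralizer_iff.1 hxC _ hy'
    calc y * (b * x * b⁻¹) = b * ((b⁻¹ * y * b) * x) * b⁻¹ := by group
      _ = b * (x * (b⁻¹ * y * b)) * b⁻¹ := by rw [h1]
      _ = b * x * b⁻¹ * y := by group
  intro b hb
  rw [Subgroup.mem_normalizer_iff]
  intro x
  refine ⟨aux b hb x, fun h => ?_⟩
  have := aux b⁻¹ (inv_mem hb) _ h
  simpa [mul_assoc] using this

/-- A maximal abelian TI subgroup: the group is metabelian. -/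
theorem derived_two_of_TI_coatom {G : Type*} [Group G] [Finite G] (A : Subgroup G)
    [IsMulCommutative A] (hA : IsCoatom A)
    (hTI : ∀ g : G, g ∉ A → A ⊓ MulAut.conj g • A = ⊥) : derivedSeries G 2 = ⊥ := by
  obtain ⟨N, hNn, hc, hcop⟩ := exists_normal_complement_of_TI A hTI
  haveI := hNn
  have hGN : commutator G ≤ N := commutator_le_of_complement N A hc
  have hNA : N ⊓ A = ⊥ := disjoint_iff.1 hc.disjoint
  have hNN : ⁅N, N⁆ = ⊥ := by
    by_cases hN1 : N = ⊥
    · rw [hN1]; exact Subgroup.commutator_bot_left ⊥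
    have hcardN : Nat.card N ≠ 1 := fun h => hN1 (Subgroup.card_eq_one.1 h)
    obtain ⟨r, hr, hrN⟩ := Nat.exists_prime_and_dvd hcardN
    haveI : Fact r.Prime := ⟨hr⟩
    obtain ⟨R₀⟩ : Nonempty (Sylow r N) := inferInstance
    set R : Subgroup G := (R₀ : Subgroup N).map N.subtype with hR
    have hRN : R ≤ N := Subgroup.map_subtype_le _
    have hRp : IsPGroup r R := R₀.2.map _
    have hRne : R ≠ ⊥ := by
      intro h
      have h1 : (R₀ : Subgroup N) = ⊥ := by
        rw [hR] at h
        exact (Subgroup.map_eq_bot_iff_of_injective _ (Subgroup.subtype_injective N)).1 h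
      exact R₀.ne_bot_of_dvd_card hrN h1
    have hfrat : Subgroup.normalizer (R : Set G) ⊔ N = ⊤ := R₀.normalizer_sup_eq_top
    set M : Subgroup G := Subgroup.normalizer (R : Set G) with hM
    have hidxM : (N.subgroupOf M).index = Nat.card A := by
      change N.relIndex M = _
      rw [← Subgroup.relIndex_sup_right, hfrat, Subgroup.relIndex_top_right]
      exact hc.symm.index_eq_card
    have hcopM : (Nat.card (N.subgroupOf M)).Coprime (N.subgroupOf M).index := by
      rw [hidxM]
      have hdvd : Nat.card (N.subgroupOf M) ∣ Nat.card N := by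
        rw [← Subgroup.card_map_of_injective (Subgroup.subtype_injective M),
          Subgroup.subgroupOf_map_subtype]
        exact Subgroup.card_dvd_of_le inf_le_left
      exact Nat.Coprime.coprime_dvd_left hdvd hcop
    obtain ⟨B₀, hB₀⟩ := Subgroup.exists_right_complement'_of_coprime hcopM
    set B : Subgroup G := B₀.map M.subtype with hB
    have hBM : B ≤ M := Subgroup.map_subtype_le _
    have hNB : N ⊓ B = ⊥ := by
      rw [eq_bot_iff]
      rintro x ⟨hxN, b, hb, rfl⟩
      have hb1 : b ∈ N.subgroupOf M ⊓ B₀ := ⟨hxN, hb⟩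
      rw [disjoint_iff.1 hB₀.disjoint, Subgroup.mem_bot] at hb1
      rw [hb1]
      exact Subgroup.mem_bot.2 rfl
    have hsupB : N ⊔ B = ⊤ := by
      have h1 : (N ⊓ M) ⊔ B = M := by
        have := congrArg (Subgroup.map M.subtype) hB₀.sup_eq_top
        rwa [Subgroup.map_sup, Subgroup.subgroupOf_map_subtype, ← MonoidHom.range_eq_map,
          Subgroup.range_subtype] at this
      rw [eq_top_iff, ← hfrat]
      refine sup_le ?_ le_sup_left
      rw [← h1]
      exact sup_le (inf_le_left.trans le_sup_left) le_sup_right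
    obtain ⟨n, hn, hnA⟩ := sz_conj_internal N A B Subgroup.le_normalizer_of_normal hNA hNB
      (hc.sup_eq_top.trans hsupB.symm) hcop (Or.inr (Group.isSolvable_of_comm mul_comm'))
    set C : Subgroup G := R ⊓ Subgroup.centralizer (R : Set G) with hC
    have hCne : C ≠ ⊥ := by
      haveI : Nontrivial R := (Subgroup.nontrivial_iff_ne_bot R).2 hRne
      have hcen : Nontrivial (Subgroup.center R) := hRp.center_nontrivial
      obtain ⟨z, hz⟩ := exists_ne (1 : Subgroup.center R)
      intro hbot
      apply hz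
      have hzC : ((z : R) : G) ∈ C := by
        refine Subgroup.mem_inf.2 ⟨(z : R).2, ?_⟩
        rw [Subgroup.mem_centralizer_iff]
        intro y hy
        have := Subgroup.mem_center_iff.1 z.2 ⟨y, hy⟩
        exact congrArg Subtype.val this
      rw [hbot, Subgroup.mem_bot] at hzC
      exact Subtype.ext (Subtype.ext hzC)
    have hCN : C ≤ N := inf_le_left.trans hRN
    have hBC : B ≤ Subgroup.normalizer (C : Set G) :=
      hBM.trans (normalizer_le_normalizer_center R)
    have hL : C ⊔ B = ⊤ := by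
      by_contra hLne
      set L : Subgroup G := C ⊔ B with hLdef
      have hAL' : A ≤ MulAut.conj n⁻¹ • L := by
        intro a ha
        rw [mem_conj_smul]
        have h1 : n * a * n⁻¹ ∈ B := by rw [← hnA]; exact conj_mem_conj_smul ha
        simpa using (le_sup_right : B ≤ L) h1
      rcases hA.le_iff.1 hAL' with h | h
      · apply hLne
        rw [eq_top_iff]
        intro g _
        have h1 : n⁻¹ * g * n ∈ MulAut.conj n⁻¹ • L := by rw [h]; trivial
        rw [mem_conj_smul] at h1
        simpa [mul_assoc] using h1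
      · apply hCne
        rw [eq_bot_iff, ← hNB]
        intro c hc'
        refine Subgroup.mem_inf.2 ⟨hCN hc', ?_⟩
        rw [← hnA, mem_conj_smul]
        have h1 : n⁻¹ * c * n ∈ MulAut.conj n⁻¹ • L := by
          rw [mem_conj_smul]
          simpa [mul_assoc] using (le_sup_left : C ≤ L) hc'
        rw [h] at h1
        exact h1
    have hNC : N ≤ C := by
      intro g hg
      obtain ⟨c, hc', b, hb, rfl⟩ := mem_sup_normal_left (N := C) (H := B) hBC
        (hL ▸ Subgroup.mem_top g)
      have hb1 : b ∈ N ⊓ B := by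
        refine Subgroup.mem_inf.2 ⟨?_, hb⟩
        have := N.mul_mem (N.inv_mem (hCN hc')) hg
        simpa using this
      rw [hNB, Subgroup.mem_bot] at hb1
      rw [hb1, mul_one]
      exact hc'
    rw [Subgroup.commutator_eq_bot_iff_le_centralizer]
    intro x hx
    rw [Subgroup.mem_centralizer_iff]
    intro y hy
    have hyR : y ∈ R := (Subgroup.mem_inf.1 (hNC hy)).1
    have hxc : x ∈ Subgroup.centralizer (R : Set G) := (Subgroup.mem_inf.1 (hNC hx)).2
    exact Subgroup.mem_centralizer_iff.1 hxc y hyR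
  rw [show (2 : ℕ) = 1 + 1 from rfl, derivedSeries_succ, eq_bot_iff, ← hNN, derivedSeries_one]
  exact Subgroup.commutator_mono hGN hGN

/-- If a finite group has a maximal subgroup that is abelian, then the third term of its derived series is trivial (so the group is solvable of derived length at most three). -/
theorem result {G : Type*} [Group G] [Finite G] (A : Subgroup G) (hA : IsCoatom A) [IsMulCommutative A] : derivedSeries G 3 = ⊥ := by
  have hAA : ⁅A, A⁆ = ⊥ := by
    rw [Subgroup.commutator_eq_bot_iff_le_centralizer]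
    intro x hx
    rw [Subgroup.mem_centralizer_iff]
    intro y hy
    exact congrArg Subtype.val (mul_comm' (⟨y, hy⟩ : A) ⟨x, hx⟩)
  by_cases hn : A.Normal
  · haveI := hn
    have hGA : commutator G ≤ A := by
      obtain ⟨g, hg⟩ : ∃ g : G, g ∉ A := by
        by_contra h
        exact hA.1 (eq_top_iff.2 fun x _ => by_contra fun hx => h ⟨x, hx⟩)
      have htop : A ⊔ Subgroup.zpowers g = ⊤ := by
        rcases hA.le_iff.1 (le_sup_left : A ≤ A ⊔ Subgroup.zpowers g) with h | h
        · exact h
        · exfalso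
          apply hg
          rw [← h]
          exact (le_sup_right : Subgroup.zpowers g ≤ _) (Subgroup.mem_zpowers g)
      have key : ∀ x : G, ∃ k : ℤ, (QuotientGroup.mk x : G ⧸ A) = (QuotientGroup.mk g) ^ k := by
        intro x
        obtain ⟨a, ha, z, hz, rfl⟩ := mem_sup_normal_left (N := A) (H := Subgroup.zpowers g)
          Subgroup.le_normalizer_of_normal (htop ▸ Subgroup.mem_top x)
        obtain ⟨k, rfl⟩ := Subgroup.mem_zpowers_iff.1 hz
        refine ⟨k, ?_⟩
        rw [QuotientGroup.mk_mul, (QuotientGroup.eq_one_iff a).2 ha, one_mul,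
          QuotientGroup.mk_zpow]
      rw [commutator_def, Subgroup.commutator_le]
      intro x _ y _
      obtain ⟨i, hi⟩ := key x
      obtain ⟨j, hj⟩ := key y
      rw [← QuotientGroup.eq_one_iff]
      have h1 : ((⁅x, y⁆ : G) : G ⧸ A) =
          ⁅(QuotientGroup.mk g : G ⧸ A) ^ i, (QuotientGroup.mk g : G ⧸ A) ^ j⁆ := by
        simp only [commutatorElement_def, QuotientGroup.mk_mul, QuotientGroup.mk_inv, hi, hj]
      rw [h1, commutatorElement_eq_one_iff_commute]
      exact (Commute.refl _).zpow_zpow i j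
    rw [show (3 : ℕ) = 1 + 1 + 1 from rfl, derivedSeries_succ, derivedSeries_succ,
      derivedSeries_one]
    have h2 : ⁅commutator G, commutator G⁆ = ⊥ := by
      rw [eq_bot_iff, ← hAA]
      exact Subgroup.commutator_mono hGA hGA
    rw [h2]
    exact Subgroup.commutator_bot_left ⊥
  · have hNA : Subgroup.normalizer (A : Set G) = A := by
      rcases hA.le_iff.1 (Subgroup.le_normalizer : A ≤ Subgroup.normalizer (A : Set G)) with h | h
      · exact absurd (Subgroup.normalizer_eq_top_iff.1 h) hn
      · exact h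
    set Z : Subgroup G := Subgroup.center G with hZ
    have hZA : Z ≤ A := by
      intro z hz
      rw [← hNA, Subgroup.mem_normalizer_iff]
      intro x
      have h1 : z * x * z⁻¹ = x := by
        rw [hZ, Subgroup.mem_center_iff] at hz
        rw [← hz x]
        group
      rw [h1]
    have hTI0 : ∀ g : G, g ∉ A → A ⊓ MulAut.conj g • A ≤ Z := by
      intro g hg x hx
      obtain ⟨hxA, hxg⟩ := Subgroup.mem_inf.1 hx
      have h1 : A ≤ Subgroup.centralizer ({x} : Set G) := by
        intro a ha
        rw [Subgroup.mem_centralizer_singleton_iff]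
        exact congrArg Subtype.val (mul_comm' (⟨a, ha⟩ : A) ⟨x, hxA⟩)
      have h2 : MulAut.conj g • A ≤ Subgroup.centralizer ({x} : Set G) := by
        intro a ha
        rw [mem_conj_smul] at ha hxg
        rw [Subgroup.mem_centralizer_singleton_iff]
        have h0 : (g⁻¹ * a * g) * (g⁻¹ * x * g) = (g⁻¹ * x * g) * (g⁻¹ * a * g) :=
          congrArg Subtype.val (mul_comm' (⟨_, ha⟩ : A) ⟨_, hxg⟩)
        have h3 : a * x = g * ((g⁻¹ * a * g) * (g⁻¹ * x * g)) * g⁻¹ := by group
        rw [h3, h0]
        group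
      have h3 : A ⊔ MulAut.conj g • A = ⊤ := by
        rcases hA.le_iff.1 (le_sup_left : A ≤ A ⊔ MulAut.conj g • A) with h | h
        · exact h
        · exfalso
          apply hg
          have hle : MulAut.conj g • A ≤ A := by
            have h5 : MulAut.conj g • A ≤ A ⊔ MulAut.conj g • A := le_sup_right
            rwa [h] at h5
          have heq : MulAut.conj g • A = A :=
            Subgroup.eq_of_le_of_card_ge hle (by rw [card_conj_smul])
          have := mem_normalizer_of_conj_smul_eq heq
          rwa [hNA] at this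
      have h4 : Subgroup.centralizer ({x} : Set G) = ⊤ :=
        top_le_iff.1 (h3 ▸ sup_le h1 h2)
      rw [hZ, Subgroup.mem_center_iff]
      intro y
      have h5 : y ∈ Subgroup.centralizer ({x} : Set G) := h4 ▸ Subgroup.mem_top y
      rw [Subgroup.mem_centralizer_singleton_iff] at h5
      exact h5
    set π : G →* G ⧸ Z := QuotientGroup.mk' Z with hπ
    have hπs : Function.Surjective π := QuotientGroup.mk'_surjective Z
    have hker : π.ker = Z := QuotientGroup.ker_mk' Z
    set Ā : Subgroup (G ⧸ Z) := A.map π with hĀ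
    have hcomap : Ā.comap π = A := by
      rw [hĀ, Subgroup.comap_map_eq, hker, sup_eq_left.2 hZA]
    have hĀco : IsCoatom Ā := by
      constructor
      · intro h
        apply hA.1
        rw [← hcomap, h, Subgroup.comap_top]
      · intro B hB
        have h1 : A < B.comap π := by
          rw [← hcomap]
          exact (Subgroup.comap_lt_comap_of_surjective hπs).2 hB
        have h2 := hA.2 _ h1
        rw [← Subgroup.map_comap_eq_self_of_surjective hπs B, h2,
          Subgroup.map_top_of_surjective π hπs]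
    have hĀTI : ∀ g : G ⧸ Z, g ∉ Ā → Ā ⊓ MulAut.conj g • Ā = ⊥ := by
      intro gbar hg
      obtain ⟨g, rfl⟩ := hπs gbar
      have hgA : g ∉ A := fun h => hg ⟨g, h, rfl⟩
      rw [eq_bot_iff]
      intro xbar hx
      obtain ⟨hx1, hx2⟩ := Subgroup.mem_inf.1 hx
      obtain ⟨a, ha, rfl⟩ := hx1
      rw [mem_conj_smul] at hx2
      have h1 : g⁻¹ * a * g ∈ A := by
        rw [← hcomap, Subgroup.mem_comap]
        simpa using hx2
      have h2 : a ∈ A ⊓ MulAut.conj g • A := Subgroup.mem_inf.2 ⟨ha, mem_conj_smul.2 h1⟩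
      have h3 : a ∈ Z := hTI0 g hgA h2
      rw [Subgroup.mem_bot]
      exact (QuotientGroup.eq_one_iff a).2 h3
    have hD := derived_two_of_TI_coatom Ā hĀco hĀTI
    have h2 : derivedSeries G 2 ≤ Z := by
      have h3 := map_derivedSeries_eq hπs 2
      rw [hD] at h3
      rw [← hker]
      exact (Subgroup.map_eq_bot_iff _).1 h3
    rw [show (3 : ℕ) = 2 + 1 from rfl, derivedSeries_succ,
      Subgroup.commutator_eq_bot_iff_le_centralizer]
    exact h2.trans (Subgroup.center_le_centralizer _)

end Cfsg.Agent.S0556
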