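import Cfsg.Statements.S0557
import Mathlib

set_option autoImplicit false
open Cfsg

namespace Cfsg.Agent.S0557

open scoped commutatorElement

theorem mono_focal {G : Type*} [Group G] (K : Subgroup G) (A' : Subgroup K) (B : Subgroup G)
    (h : A'.map K.subtype ≤ B) :
    (Subgroup.focalSubgroup A').map K.subtype ≤ Subgroup.focalSubgroup B := by
  rw [Subgroup.focalSubgroup_def, MonoidHom.map_closure, Subgroup.focalSubgroup_def]
  apply Subgroup.closure_mono
  rintro _ ⟨g, ⟨hg, x, hx, u, rfl⟩, rfl⟩
  refine ⟨h (Subgroup.mem_map_of_mem _ hg), (x : G), h (Subgroup.mem_map_of_mem _ hx), (u : G), ?_⟩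
  simp [commutatorElement_def]

theorem iter_mono {G : Type*} [Group G] (K : Subgroup G) :
    ∀ (j : ℕ) (A' : Subgroup K) (B : Subgroup G), A'.map K.subtype ≤ B →
      ((fun X : Subgroup K => Subgroup.focalSubgroup X)^[j] A').map K.subtype
        ≤ (fun X : Subgroup G => Subgroup.focalSubgroup X)^[j] B := by
  intro j
  induction j with
  | zero => intro A' B h; exact h
  | succ j ih =>
    intro A' B h
    rw [Function.iterate_succ_apply, Function.iterate_succ_apply]
    exact ih _ _ (mono_focal K A' B h)

theorem orderOf_conj_eq {G : Type*} [Group G] (g y : G) : orderOf (g * y * g⁻¹) = orderOf y := by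
  rw [← MulAut.conj_apply]
  exact orderOf_injective (MulAut.conj g).toMonoidHom (MulAut.conj g).injective y

theorem main.{u} : ∀ (n : ℕ) (G : Type u) [Group G] [Finite G] (H : Subgroup G),
    (Nat.card H).Coprime H.index →
    (fun K : Subgroup G => Subgroup.focalSubgroup K)^[n] H = ⊥ →
    ∃ N : Subgroup G, N.Normal ∧ Subgroup.IsComplement' N H := by
  intro n
  induction n with
  | zero =>
    intro G _ _ H _ hfoc
    rw [Function.iterate_zero, id] at hfoc
    subst hfoc
    exact ⟨⊤, inferInstance, Subgroup.isComplement'_top_bot⟩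
  | succ n ih =>
    intro G _ _ H hHall hfoc
    rw [Function.iterate_succ_apply] at hfoc
    have hQdvd : Nat.card (H ⧸ H.focalSubgroupOf) ∣ Nat.card H :=
      Subgroup.card_quotient_dvd_card _
    have hQcop : (Nat.card (H ⧸ H.focalSubgroupOf)).Coprime H.index :=
      Nat.Coprime.coprime_dvd_left hQdvd hHall
    have hpow_inj : ∀ q : H ⧸ H.focalSubgroupOf, q ^ H.index = 1 → q = 1 := by
      intro q hq
      apply (powCoprime hQcop).injective
      rw [powCoprime_apply, powCoprime_apply, hq, one_pow]
    have hpow_surj : ∀ q : H ⧸ H.focalSubgroupOf, ∃ q₀ : H ⧸ H.focalSubgroupOf,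
        q₀ ^ H.index = q := fun q => (powCoprime hQcop).surjective q
    have hVsurj : Function.Surjective H.transferFocal := by
      intro q
      obtain ⟨q₀, rfl⟩ := hpow_surj q
      obtain ⟨x, rfl⟩ := QuotientGroup.mk'_surjective _ q₀
      exact ⟨x, H.transferFocal_eq_pow x⟩
    set K₁ := H.transferFocal.ker with hK₁
    have hK₁H : K₁ ⊓ H = H.focalSubgroup := by
      ext x
      constructor
      · rintro ⟨hx1, hx2⟩
        have h1 : H.transferFocal x = 1 := hx1
        have h2 := H.transferFocal_eq_pow ⟨x, hx2⟩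
        have h3 : ((⟨x, hx2⟩ : H) : H ⧸ H.focalSubgroupOf) = 1 := hpow_inj _ (h2 ▸ h1)
        have h4 : (⟨x, hx2⟩ : H) ∈ H.focalSubgroupOf := (QuotientGroup.eq_one_iff _).mp h3
        exact Subgroup.mem_subgroupOf.mp h4
      · intro hx
        have hx2 : x ∈ H := H.focalSubgroup_le hx
        refine ⟨?_, hx2⟩
        show H.transferFocal x = 1
        have h2 := H.transferFocal_eq_pow ⟨x, hx2⟩
        have h3 : ((⟨x, hx2⟩ : H) : H ⧸ H.focalSubgroupOf) = 1 :=
          (QuotientGroup.eq_one_iff _).mpr (Subgroup.mem_subgroupOf.mpr hx)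
        rw [h3, one_pow] at h2
        exact h2
    have hfle : H.focalSubgroup ≤ K₁ := hK₁H ▸ inf_le_left
    have hcardQ : K₁.index = Nat.card (H ⧸ H.focalSubgroupOf) := by
      rw [Subgroup.index_eq_card]
      exact Nat.card_congr (QuotientGroup.quotientKerEquivOfSurjective H.transferFocal hVsurj).toEquiv
    set f := Nat.card H.focalSubgroup with hf
    have hfpos : 0 < f := Nat.card_pos
    have hf' : Nat.card H.focalSubgroupOf = f :=
      Nat.card_congr (Subgroup.subgroupOfEquivOfLe H.focalSubgroup_le).toEquiv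
    have hH : Nat.card (H ⧸ H.focalSubgroupOf) * f = Nat.card H := by
      rw [← hf', ← Subgroup.index_eq_card, Subgroup.index_mul_card]
    have hG1 : Nat.card K₁ * Nat.card (H ⧸ H.focalSubgroupOf) = Nat.card G := by
      rw [← hcardQ]; exact Subgroup.card_mul_index K₁
    have hG2 : Nat.card H * H.index = Nat.card G := Subgroup.card_mul_index H
    have hK₁card : Nat.card K₁ = f * H.index := by
      have hQpos : 0 < Nat.card (H ⧸ H.focalSubgroupOf) := Nat.card_pos
      apply Nat.eq_of_mul_eq_mul_right hQpos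
      rw [hG1, ← hG2, ← hH]; ring
    set H₁ := H.focalSubgroup.subgroupOf K₁ with hH₁
    have hH₁card : Nat.card H₁ = f :=
      Nat.card_congr (Subgroup.subgroupOfEquivOfLe hfle).toEquiv
    have hH₁idx : H₁.index = H.index := by
      have := Subgroup.card_mul_index H₁
      rw [hH₁card, hK₁card] at this
      exact Nat.eq_of_mul_eq_mul_left hfpos this
    have hfdvd : f ∣ Nat.card H := Subgroup.card_dvd_of_le H.focalSubgroup_le
    have hH₁Hall : (Nat.card H₁).Coprime H₁.index := by
      rw [hH₁card, hH₁idx]; exact Nat.Coprime.coprime_dvd_left hfdvd hHall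
    have hH₁foc : (fun X : Subgroup K₁ => Subgroup.focalSubgroup X)^[n] H₁ = ⊥ := by
      have h1 := iter_mono K₁ n H₁ H.focalSubgroup
        (by rw [hH₁, Subgroup.subgroupOf_map_subtype]; exact inf_le_left)
      rw [hfoc, le_bot_iff] at h1
      exact (Subgroup.map_eq_bot_iff_of_injective _ K₁.subtype_injective).mp h1
    obtain ⟨N', hN'n, hN'c⟩ := ih K₁ H₁ hH₁Hall hH₁foc
    have hN'card : Nat.card N' = H.index := by
      have := hN'c.card_mul_card
      rw [hH₁card, hK₁card, mul_comm] at this
      exact Nat.eq_of_mul_eq_mul_left hfpos this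
    have hN'idx : N'.index = f := by
      have := Subgroup.card_mul_index N'
      rw [hN'card, hK₁card, mul_comm] at this
      exact Nat.eq_of_mul_eq_mul_right (Nat.pos_of_ne_zero Subgroup.index_ne_zero_of_finite) this
    have hNnorm : (N'.map K₁.subtype).Normal := by
      constructor
      intro y hy g
      obtain ⟨y', hy', rfl⟩ := hy
      have hz : g * (y' : G) * g⁻¹ ∈ K₁ :=
        (inferInstance : K₁.Normal).conj_mem _ y'.2 g
      refine ⟨⟨g * (y' : G) * g⁻¹, hz⟩, ?_, rfl⟩
      have ho : orderOf (⟨g * (y' : G) * g⁻¹, hz⟩ : K₁) = orderOf y' := by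
        rw [← Subgroup.orderOf_coe, ← Subgroup.orderOf_coe]
        exact orderOf_conj_eq g (y' : G)
      have h1 : orderOf (QuotientGroup.mk' N' (⟨g * (y' : G) * g⁻¹, hz⟩ : K₁))
          ∣ orderOf (⟨g * (y' : G) * g⁻¹, hz⟩ : K₁) := orderOf_map_dvd _ _
      have h2 : orderOf (⟨g * (y' : G) * g⁻¹, hz⟩ : K₁) ∣ Nat.card N' := by
        rw [ho, ← Subgroup.orderOf_mk y' hy']
        exact orderOf_dvd_natCard _
      have h3 : orderOf (QuotientGroup.mk' N' (⟨g * (y' : G) * g⁻¹, hz⟩ : K₁)) ∣ N'.index := by
        rw [Subgroup.index_eq_card]; exact orderOf_dvd_natCard _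
      have hcop : (Nat.card N').Coprime N'.index := by
        rw [hN'card, hN'idx]; exact (Nat.Coprime.coprime_dvd_left hfdvd hHall).symm
      have h4 : orderOf (QuotientGroup.mk' N' (⟨g * (y' : G) * g⁻¹, hz⟩ : K₁)) = 1 :=
        Nat.eq_one_of_dvd_coprimes hcop (h1.trans h2) h3
      exact (QuotientGroup.eq_one_iff _).mp (orderOf_eq_one_iff.mp h4)
    have hNcard : Nat.card (N'.map K₁.subtype) = H.index := by
      rw [Subgroup.card_map_of_injective K₁.subtype_injective, hN'card]
    refine ⟨N'.map K₁.subtype, hNnorm, Subgroup.isComplement'_of_coprime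
      (by rw [hNcard, mul_comm]; exact hG2) (by rw [hNcard]; exact hHall.symm)⟩

/-- Let H be a subgroup of a finite group G with order coprime to its index. If iterating the focal-subgroup construction starting from H reaches the trivial subgroup after finitely many steps, then H has a normal complement in G. -/
theorem result {G : Type*} [Group G] [Finite G] (H : Subgroup G) (hHall : (Nat.card H).Coprime H.index) (n : ℕ) (hfoc : (fun K : Subgroup G => Subgroup.focalSubgroup K)^[n] H = ⊥) : ∃ N : Subgroup G, N.Normal ∧ Subgroup.IsComplement' N H := by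
  exact main n G H hHall hfoc

end Cfsg.Agent.S0557
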