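import Cfsg.Statements.S0558
import Cfsg.Agent.Lib.helper67.Frobenius
import Cfsg.Agent.Lib.helper97.PNilp2
import Cfsg.Agent.Lib.helper97.PNilp3

set_option autoImplicit false
open Cfsg

namespace Cfsg.Agent.S0558

open Cfsg.Agent.Lib.helper97 Cfsg.Agent.Lib.helper67 in
/-- Under the hypothesis, each Sylow subgroup of `H` is normal in `H`. -/
theorem sylow_normal {G : Type*} [Group G] [Finite G] (H : Subgroup G)
    (hnorm : ∀ p : ℕ, p.Prime → p ∣ Nat.card H → ∀ P : Sylow p H,
      Subgroup.normalizer (((P : Subgroup H).map H.subtype : Subgroup G) : Set G) = H)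
    (p : ℕ) (hp : p.Prime) (hpH : p ∣ Nat.card H) (P : Sylow p H) : (P : Subgroup H).Normal := by
  constructor
  intro z hz h
  have hh : (h : G) ∈ Subgroup.normalizer (((P : Subgroup H).map H.subtype : Subgroup G) : Set G) := by
    rw [hnorm p hp hpH P]; exact h.2
  have h1 := (Subgroup.mem_normalizer_iff.mp hh (z : G)).mp ⟨z, hz, rfl⟩
  obtain ⟨w, hw, hwe⟩ := h1
  have : w = h * z * h⁻¹ := Subtype.ext (by simpa using hwe)
  rw [← this]; exact hw

open Cfsg.Agent.Lib.helper97 Cfsg.Agent.Lib.helper67 in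
/-- Under the hypothesis, each Sylow subgroup of `H` is a Sylow subgroup of `G`. -/
theorem sylow_of_sylow {G : Type*} [Group G] [Finite G] (H : Subgroup G)
    (hnorm : ∀ p : ℕ, p.Prime → p ∣ Nat.card H → ∀ P : Sylow p H,
      Subgroup.normalizer (((P : Subgroup H).map H.subtype : Subgroup G) : Set G) = H)
    (p : ℕ) [hp : Fact p.Prime] (hpH : p ∣ Nat.card H) (P : Sylow p H) :
    ∃ P' : Sylow p G, (P' : Subgroup G) = (P : Subgroup H).map H.subtype := by
  have hPhat : IsPGroup p ((P : Subgroup H).map H.subtype) := P.isPGroup'.map H.subtype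
  obtain ⟨P', hP'⟩ := hPhat.exists_le_sylow
  refine ⟨P', ?_⟩
  by_contra hne
  obtain ⟨u, huP', huN, hunot⟩ := exists_normalizer_not_mem (P' : Subgroup G) P'.isPGroup'
    ((P : Subgroup H).map H.subtype) hP' (fun h => hne h.symm)
  rw [hnorm p hp.out hpH P] at huN
  have hT : IsPGroup p (((P' : Subgroup G) ⊓ H).subgroupOf H) :=
    (P'.isPGroup'.to_le inf_le_left).comap_subtype
  have hPT : (P : Subgroup H) ≤ ((P' : Subgroup G) ⊓ H).subgroupOf H := by
    intro z hz
    rw [Subgroup.mem_subgroupOf]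
    exact ⟨hP' ⟨z, hz, rfl⟩, z.2⟩
  have hTP := P.is_maximal' hT hPT
  have : (⟨u, huN⟩ : H) ∈ ((P' : Subgroup G) ⊓ H).subgroupOf H := by
    rw [Subgroup.mem_subgroupOf]; exact ⟨huP', huN⟩
  rw [hTP] at this
  exact hunot ⟨⟨u, huN⟩, this, rfl⟩

open Cfsg.Agent.Lib.helper97 Cfsg.Agent.Lib.helper67 in
/-- Elements of Sylow subgroups of `H` for different primes commute. -/
theorem sylow_commute {G : Type*} [Group G] [Finite G] (H : Subgroup G)
    (hnorm : ∀ p : ℕ, p.Prime → p ∣ Nat.card H → ∀ P : Sylow p H,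
      Subgroup.normalizer (((P : Subgroup H).map H.subtype : Subgroup G) : Set G) = H)
    (p q : ℕ) [hp : Fact p.Prime] [hq : Fact q.Prime] (hpH : p ∣ Nat.card H) (hqH : q ∣ Nat.card H)
    (hpq : q ≠ p) (P : Sylow p H) (R : Sylow q H) (x y : H) (hx : x ∈ R) (hy : y ∈ P) :
    Commute x y :=
  Subgroup.commute_of_normal_of_disjoint _ _ (sylow_normal H hnorm q hq.out hqH R)
    (sylow_normal H hnorm p hp.out hpH P)
    (IsPGroup.disjoint_of_ne q p hpq _ _ R.isPGroup' P.isPGroup') x y hx hy

open Cfsg.Agent.Lib.helper97 Cfsg.Agent.Lib.helper67 in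
/-- Every element of `H` is a product of an element of the Sylow `p`-subgroup `P` of `H` and an
element centralizing `P`. -/
theorem decomp {G : Type*} [Group G] [Finite G] (H : Subgroup G)
    (hnorm : ∀ p : ℕ, p.Prime → p ∣ Nat.card H → ∀ P : Sylow p H,
      Subgroup.normalizer (((P : Subgroup H).map H.subtype : Subgroup G) : Set G) = H)
    (p : ℕ) [hp : Fact p.Prime] (hpH : p ∣ Nat.card H) (P : Sylow p H) (h : H) :
    ∃ u ∈ (P : Subgroup H), ∃ z : H, (∀ w ∈ (P : Subgroup H), Commute z w) ∧ h = u * z := by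
  have hPn : (P : Subgroup H).Normal := sylow_normal H hnorm p hp.out hpH P
  have hmem : h ∈ (P : Subgroup H) ⊔ Subgroup.centralizer ((P : Subgroup H) : Set H) := by
    apply mem_of_forall_prime_pow_mem _ _ h rfl
    rintro z hz ⟨q, k, hq, hzo⟩
    by_cases hk : k = 0
    · subst hk
      rw [pow_zero, orderOf_eq_one_iff] at hzo
      rw [hzo]; exact Subgroup.one_mem _
    have hqH : q ∣ Nat.card H := by
      have h1 : q ∣ orderOf z := by rw [hzo]; exact dvd_pow_self q hk
      exact h1.trans (orderOf_dvd_natCard z)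
    have : Fact q.Prime := ⟨hq⟩
    have hzq : IsPGroup q (Subgroup.zpowers z) := by
      apply IsPGroup.of_card (n := k)
      rw [Nat.card_zpowers, hzo]
    obtain ⟨R, hR⟩ := hzq.exists_le_sylow
    have hzR : z ∈ (R : Subgroup H) := hR (Subgroup.mem_zpowers z)
    by_cases hqp : q = p
    · subst hqp
      have := Sylow.unique_of_normal P hPn
      have : R = P := Subsingleton.elim R P
      rw [this] at hzR
      exact Subgroup.mem_sup_left hzR
    · apply Subgroup.mem_sup_right
      rw [Subgroup.mem_centralizer_iff]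
      intro w hw
      exact (sylow_commute H hnorm p q hpH hqH hqp P R z w hzR hw).eq.symm
  rw [← SetLike.mem_coe, Subgroup.normal_mul] at hmem
  obtain ⟨u, hu, z, hz, huz⟩ := Set.mem_mul.mp hmem
  refine ⟨u, hu, z, fun w hw => ?_, huz.symm⟩
  rw [SetLike.mem_coe, Subgroup.mem_centralizer_iff] at hz
  exact (hz w hw).symm

open Cfsg.Agent.Lib.helper97 Cfsg.Agent.Lib.helper67 in
/-- Frobenius' condition for each prime dividing `|H|`. -/
theorem frob {G : Type*} [Group G] [Finite G] (H : Subgroup G)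
    (hnot : ∀ p : ℕ, p.Prime → ∀ P : Sylow p G, (P : Subgroup G) ≠ H)
    (hnorm : ∀ p : ℕ, p.Prime → p ∣ Nat.card H → ∀ P : Sylow p H,
      Subgroup.normalizer (((P : Subgroup H).map H.subtype : Subgroup G) : Set G) = H)
    (p : ℕ) [hp : Fact p.Prime] (hpH : p ∣ Nat.card H) : FrobCond p G := by
  have P : Sylow p H := default
  obtain ⟨P', hP'⟩ := sylow_of_sylow H hnorm p hpH P
  -- another prime
  obtain ⟨q, hq, hqH, hqp⟩ : ∃ q : ℕ, q.Prime ∧ q ∣ Nat.card H ∧ q ≠ p := by
    by_contra hcon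
    push Not at hcon
    have hpow := Nat.eq_prime_pow_of_unique_prime_dvd (n := Nat.card H) (p := p)
      Nat.card_pos.ne' (fun {d} hd hdvd => hcon d hd hdvd)
    have hHp : IsPGroup p H := IsPGroup.of_card hpow
    have htop : (⊤ : Subgroup H) = P := P.is_maximal' (IsPGroup.of_surjective hHp
      (Subgroup.topEquiv (G := H)).symm.toMonoidHom (Subgroup.topEquiv (G := H)).symm.surjective) le_top
    apply hnot p hp.out P'
    rw [hP', ← htop, ← MonoidHom.range_eq_map, Subgroup.range_subtype]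
  have : Fact q.Prime := ⟨hq⟩
  have R : Sylow q H := default
  obtain ⟨R', hR'⟩ := sylow_of_sylow H hnorm q hqH R
  apply frobCond_of_sylow P'
  intro Q hQP g hgN hcop
  rw [hP'] at hQP
  -- R̂ centralizes Q
  have hRC : (R' : Subgroup G) ≤ Subgroup.centralizer (Q : Set G) := by
    rw [hR']
    rintro _ ⟨w, hw, rfl⟩
    rw [Subgroup.mem_centralizer_iff]
    intro a ha
    obtain ⟨a', ha', rfl⟩ := hQP ha
    have := (sylow_commute H hnorm p q hpH hqH hqp P R w a' hw ha').eq
    have h2 := congrArg (Subtype.val) this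
    simpa using h2.symm
  have hgC : ∀ c ∈ Subgroup.centralizer (Q : Set G), g * c * g⁻¹ ∈ Subgroup.centralizer (Q : Set G) := by
    intro c hc
    rw [Subgroup.mem_centralizer_iff] at hc ⊢
    intro a ha
    have ha' : g⁻¹ * a * g ∈ Q := (Subgroup.mem_normalizer_iff''.mp hgN a).mp ha
    have h1 := hc _ ha'
    calc a * (g * c * g⁻¹) = g * ((g⁻¹ * a * g) * c) * g⁻¹ := by group
      _ = g * (c * (g⁻¹ * a * g)) * g⁻¹ := by rw [h1]
      _ = g * c * g⁻¹ * a := by group
  obtain ⟨c, hc, hcg⟩ := frattini_elt (Subgroup.centralizer (Q : Set G)) R' hRC g hgC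
  rw [hR', hnorm q hq hqH R] at hcg
  obtain ⟨u, hu, z, hz, huz⟩ := decomp H hnorm p hpH P ⟨c * g, hcg⟩
  have huz' : c * g = (u : G) * (z : G) := by
    have := congrArg (Subtype.val) huz
    simpa using this
  have hzC : (z : G) ∈ Subgroup.centralizer (Q : Set G) := by
    rw [Subgroup.mem_centralizer_iff]
    intro a ha
    obtain ⟨a', ha', rfl⟩ := hQP ha
    have := (hz a' ha').eq
    have h2 := congrArg (Subtype.val) this
    simpa using h2.symm
  have hCN : Subgroup.centralizer (Q : Set G) ≤ Subgroup.normalizer (Q : Set G) :=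
    Subgroup.centralizer_le_normalizer _
  have huN : (u : G) ∈ Subgroup.normalizer (Q : Set G) := by
    have e : (u : G) = c * g * (z : G)⁻¹ := by rw [huz']; group
    rw [e]
    exact Subgroup.mul_mem _ (Subgroup.mul_mem _ (hCN hc) hgN) (Subgroup.inv_mem _ (hCN hzC))
  have hunorm : ∀ c' ∈ Subgroup.centralizer (Q : Set G),
      (u : G)⁻¹ * c' * (u : G) ∈ Subgroup.centralizer (Q : Set G) := by
    intro c' hc'
    rw [Subgroup.mem_centralizer_iff] at hc' ⊢
    intro a ha
    have ha' : (u : G) * a * (u : G)⁻¹ ∈ Q := (Subgroup.mem_normalizer_iff.mp huN a).mp ha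
    have h1 := hc' _ ha'
    calc a * ((u : G)⁻¹ * c' * (u : G)) = (u : G)⁻¹ * (((u : G) * a * (u : G)⁻¹) * c') * (u : G) := by group
      _ = (u : G)⁻¹ * (c' * ((u : G) * a * (u : G)⁻¹)) * (u : G) := by rw [h1]
      _ = (u : G)⁻¹ * c' * (u : G) * a := by group
  have hgu : (u : G)⁻¹ * g ∈ Subgroup.centralizer (Q : Set G) := by
    have e : (u : G)⁻¹ * g = ((u : G)⁻¹ * c⁻¹ * (u : G)) * (z : G) := by
      have : g = c⁻¹ * ((u : G) * (z : G)) := by rw [← huz']; group
      rw [this]; group
    rw [e]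
    exact Subgroup.mul_mem _ (hunorm _ (Subgroup.inv_mem _ hc)) hzC
  have hup : ∃ k : ℕ, (u : G) ^ p ^ k = 1 := by
    obtain ⟨k, hk⟩ := P.isPGroup' ⟨u, hu⟩
    refine ⟨k, ?_⟩
    have := congrArg (fun t : (P : Subgroup H) => ((t : H) : G)) hk
    simpa using this
  have huC := mem_of_pprime_congr (Subgroup.centralizer (Q : Set G)) g (u : G) hunorm hgu hcop hup
  have e : g = (u : G) * ((u : G)⁻¹ * g) := by group
  rw [e]
  exact Subgroup.mul_mem _ huC hgu

/-- Let H be a subgroup of a finite group G that is not a Sylow subgroup of G for any prime, and suppose that for every prime p dividing the order of H and every Sylow p-subgroup P of H the normalizer of P in G is exactly H. Then some normal subgroup of G is a complement to H. -/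
theorem result {G : Type*} [Group G] [Finite G] (H : Subgroup G) (hnot : ∀ p : ℕ, p.Prime → ∀ P : Sylow p G, (P : Subgroup G) ≠ H) (hnorm : ∀ p : ℕ, p.Prime → p ∣ Nat.card H → ∀ P : Sylow p H, Subgroup.normalizer (((P : Subgroup H).map H.subtype : Subgroup G) : Set G) = H) : ∃ N : Subgroup G, N.Normal ∧ Subgroup.IsComplement' N H := by
  classical
  -- for each prime divisor of |H| a normal complement of the Sylow subgroup
  have hex : ∀ i : (Nat.card H).primeFactors, ∃ K : Subgroup G, K.Normal ∧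
      K.index = (i : ℕ) ^ (Nat.card H).factorization i ∧ ∀ g ∈ K, (orderOf g).Coprime i := by
    intro i
    have hip : (i : ℕ).Prime := Nat.prime_of_mem_primeFactors i.2
    have hiH : (i : ℕ) ∣ Nat.card H := Nat.dvd_of_mem_primeFactors i.2
    have : Fact (i : ℕ).Prime := ⟨hip⟩
    have hF := frob H hnot hnorm (i : ℕ) hiH
    have P : Sylow (i : ℕ) H := default
    obtain ⟨P', hP'⟩ := sylow_of_sylow H hnorm (i : ℕ) hiH P
    obtain ⟨K, hKn, hKc⟩ := hF.exists_normal_complement P'
    refine ⟨K, hKn, ?_, ?_⟩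
    · have h1 := hKc.card_mul_card
      have h2 := K.card_mul_index
      have h3 : K.index = Nat.card (P' : Subgroup G) :=
        Nat.eq_of_mul_eq_mul_left Nat.card_pos (h2.trans h1.symm)
      rw [h3, hP', Subgroup.card_map_of_injective H.subtype_injective, P.card_eq_multiplicity]
    · intro g hg
      have := hKn
      exact (Cfsg.Agent.Lib.helper67.mem_iff_coprime_of_isComplement' K P' hKc g).mp hg
  choose K hKn hKidx hKcop using hex
  refine ⟨⨅ i, K i, Subgroup.normal_iInf_normal hKn, ?_⟩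
  have hdisj : Disjoint (⨅ i, K i) H := by
    rw [Subgroup.disjoint_def]
    intro x hxN hxH
    by_contra hx1
    have ho : orderOf x ≠ 1 := fun h => hx1 (orderOf_eq_one_iff.mp h)
    obtain ⟨r, hr, hrx⟩ := Nat.exists_prime_and_dvd ho
    have hrH : r ∣ Nat.card H := by
      have h1 : orderOf (⟨x, hxH⟩ : H) ∣ Nat.card H := orderOf_dvd_natCard _
      rw [Subgroup.orderOf_mk] at h1
      exact hrx.trans h1
    have hri : r ∈ (Nat.card H).primeFactors :=
      Nat.mem_primeFactors.mpr ⟨hr, hrH, Nat.card_pos.ne'⟩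
    have h2 := hKcop ⟨r, hri⟩ x ((Subgroup.mem_iInf.mp hxN) ⟨r, hri⟩)
    have h3 : r ∣ Nat.gcd (orderOf x) r := Nat.dvd_gcd hrx dvd_rfl
    rw [h2] at h3
    exact hr.one_lt.ne' (Nat.dvd_one.mp h3)
  have hle1 : (⨅ i, K i).index ≤ Nat.card H := by
    calc (⨅ i, K i).index ≤ ∏ i, (K i).index := Subgroup.index_iInf_le K
      _ = ∏ i : (Nat.card H).primeFactors, (i : ℕ) ^ (Nat.card H).factorization i :=
        Finset.prod_congr rfl (fun i _ => hKidx i)
      _ = Nat.card H := (Nat.prod_primeFactors_coe_pow_factorization Nat.card_pos.ne').symm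
  have hle2 : Nat.card H ≤ (⨅ i, K i).index := by
    have : (⨅ i, K i).Normal := Subgroup.normal_iInf_normal hKn
    have h1 : (⨅ i, K i).relIndex H ∣ (⨅ i, K i).index := Subgroup.relIndex_dvd_index_of_normal _ _
    have h2 : (⨅ i, K i).relIndex H = Nat.card H := by
      rw [← Subgroup.inf_relIndex_right, hdisj.eq_bot, Subgroup.relIndex_bot_left]
    rw [h2] at h1
    exact Nat.le_of_dvd (Nat.pos_of_ne_zero Subgroup.index_ne_zero_of_finite) h1
  have hidx : (⨅ i, K i).index = Nat.card H := le_antisymm hle1 hle2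
  apply Subgroup.isComplement'_of_card_mul_and_disjoint _ hdisj
  have hfin := Subgroup.card_mul_index (⨅ i, K i)
  rw [hidx] at hfin
  exact hfin

end Cfsg.Agent.S0558
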