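import Cfsg.Statements.S0567
import Mathlib

set_option autoImplicit false
open Cfsg
open scoped commutatorElement

namespace Cfsg.Agent.S0567

variable {G : Type*} [Group G]

theorem iter_mono {H K : Subgroup G} (hHK : H ≤ K) (m : ℕ) :
    (fun L : Subgroup G => ⁅L, H⁆)^[m] ⊤ ≤ (fun L : Subgroup G => ⁅L, K⁆)^[m] ⊤ := by
  induction m with
  | zero => exact le_rfl
  | succ m ih =>
    rw [Function.iterate_succ_apply', Function.iterate_succ_apply']
    exact Subgroup.commutator_mono ih hHK

theorem iter_antitone (H : Subgroup G) (m : ℕ) :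
    (fun L : Subgroup G => ⁅L, H⁆)^[m + 1] ⊤ ≤ (fun L : Subgroup G => ⁅L, H⁆)^[m] ⊤ := by
  induction m with
  | zero => exact le_top
  | succ m ih =>
    have e1 : (fun L : Subgroup G => ⁅L, H⁆)^[m + 1 + 1] ⊤
        = ⁅(fun L : Subgroup G => ⁅L, H⁆)^[m + 1] ⊤, H⁆ := Function.iterate_succ_apply' _ _ _
    have e2 : (fun L : Subgroup G => ⁅L, H⁆)^[m + 1] ⊤
        = ⁅(fun L : Subgroup G => ⁅L, H⁆)^[m] ⊤, H⁆ := Function.iterate_succ_apply' _ _ _
    rw [e1]
    calc ⁅(fun L : Subgroup G => ⁅L, H⁆)^[m + 1] ⊤, H⁆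
        ≤ ⁅(fun L : Subgroup G => ⁅L, H⁆)^[m] ⊤, H⁆ := Subgroup.commutator_mono ih le_rfl
      _ = (fun L : Subgroup G => ⁅L, H⁆)^[m + 1] ⊤ := e2.symm

theorem le_normalizer_sup_commutator (H K : Subgroup G) :
    H ⊔ K ≤ Subgroup.normalizer ((H ⊔ ⁅K, H⁆ : Subgroup G) : Set G) := by
  refine sup_le ?_ ?_
  · rw [Subgroup.le_normalizer_iff]
    intro h hh k hk
    have hk' : k ∈ Subgroup.closure ((H : Set G) ∪ (⁅K, H⁆ : Subgroup G)) := by
      rwa [← Subgroup.sup_eq_closure]
    clear hk
    induction hk' using Subgroup.closure_induction with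
    | mem y hy =>
      rcases hy with hy | hy
      · exact (le_sup_left : H ≤ H ⊔ ⁅K, H⁆) (H.mul_mem (H.mul_mem hh hy) (H.inv_mem hh))
      · have := (Subgroup.le_normalizer_iff.mp
          (Subgroup.normalizer_commutator_ge_right (H₁ := K) (H₂ := H))) h hh y hy
        exact (le_sup_right : ⁅K, H⁆ ≤ H ⊔ ⁅K, H⁆) this
    | one => simp
    | mul y z _ _ ihy ihz =>
      have : h * (y * z) * h⁻¹ = (h * y * h⁻¹) * (h * z * h⁻¹) := by group
      rw [this]
      exact Subgroup.mul_mem _ ihy ihz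
    | inv y _ ihy =>
      have : h * y⁻¹ * h⁻¹ = (h * y * h⁻¹)⁻¹ := by group
      rw [this]
      exact Subgroup.inv_mem _ ihy
  · rw [Subgroup.le_normalizer_iff]
    intro x hx k hk
    have hk' : k ∈ Subgroup.closure ((H : Set G) ∪ (⁅K, H⁆ : Subgroup G)) := by
      rwa [← Subgroup.sup_eq_closure]
    clear hk
    induction hk' using Subgroup.closure_induction with
    | mem y hy =>
      rcases hy with hy | hy
      · have h1 : x * y * x⁻¹ = ⁅x, y⁆ * y := by
          rw [commutatorElement_def]; group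
        rw [h1]
        exact Subgroup.mul_mem _
          ((le_sup_right : ⁅K, H⁆ ≤ H ⊔ ⁅K, H⁆) (Subgroup.commutator_mem_commutator hx hy))
          ((le_sup_left : H ≤ H ⊔ ⁅K, H⁆) hy)
      · have := (Subgroup.le_normalizer_iff.mp
          (Subgroup.normalizer_commutator_ge_left (H₁ := K) (H₂ := H))) x hx y hy
        exact (le_sup_right : ⁅K, H⁆ ≤ H ⊔ ⁅K, H⁆) this
    | one => simp
    | mul y z _ _ ihy ihz =>
      have : x * (y * z) * x⁻¹ = (x * y * x⁻¹) * (x * z * x⁻¹) := by group
      rw [this]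
      exact Subgroup.mul_mem _ ihy ihz
    | inv y _ ihy =>
      have : x * y⁻¹ * x⁻¹ = (x * y * x⁻¹)⁻¹ := by group
      rw [this]
      exact Subgroup.inv_mem _ ihy

/-- A subgroup H of a group G is subnormal exactly when, for some m, the subgroup obtained from G by taking the commutator with H m times in succession is contained in H. -/
theorem result {G : Type*} [Group G] (H : Subgroup G) : H.IsSubnormal ↔ ∃ m : ℕ, (fun K : Subgroup G => ⁅K, H⁆)^[m] ⊤ ≤ H := by
  constructor
  · intro hH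
    induction hH with
    | top => exact ⟨0, le_rfl⟩
    | step H K hle hK hN ih =>
      obtain ⟨m, hm⟩ := ih
      refine ⟨m + 1, ?_⟩
      rw [Function.iterate_succ_apply']
      have h1 : (fun L : Subgroup G => ⁅L, H⁆)^[m] ⊤ ≤ K := (iter_mono hle m).trans hm
      have h2 : ⁅K, H⁆ ≤ H := by
        rw [← Subgroup.le_normalizer_iff_commutator_le_right]
        exact (Subgroup.normal_subgroupOf_iff_le_normalizer hle).mp hN
      exact (Subgroup.commutator_mono h1 le_rfl).trans h2
  · rintro ⟨m, hm⟩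
    have key : ∀ i : ℕ, (H ⊔ (fun K : Subgroup G => ⁅K, H⁆)^[i] ⊤).IsSubnormal := by
      intro i
      induction i with
      | zero =>
        have : H ⊔ (fun K : Subgroup G => ⁅K, H⁆)^[0] ⊤ = ⊤ := by simp
        rw [this]; exact Subgroup.IsSubnormal.top
      | succ i ih =>
        have hle : H ⊔ (fun K : Subgroup G => ⁅K, H⁆)^[i + 1] ⊤
            ≤ H ⊔ (fun K : Subgroup G => ⁅K, H⁆)^[i] ⊤ :=
          sup_le_sup_left (iter_antitone H i) H
        refine Subgroup.IsSubnormal.step _ _ hle ih ?_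
        rw [Subgroup.normal_subgroupOf_iff_le_normalizer hle, Function.iterate_succ_apply']
        exact le_normalizer_sup_commutator H _
    have := key m
    rwa [sup_of_le_left hm] at this

end Cfsg.Agent.S0567
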