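import Cfsg.Statements.S0568
import Mathlib
import Cfsg.Agent.S0545
import Cfsg.Agent.S0544
import Cfsg.Agent.Lib.helper12.HallTools
import Cfsg.Agent.Lib.helper12.MinNormal
import Cfsg.Agent.Lib.helper12.PGroupCentral

set_option autoImplicit false
open Cfsg

namespace Cfsg.Agent.S0568

open Cfsg.Agent.Lib.helper12
open scoped commutatorElement

/-- A central minimal normal subgroup lies in every system normalizer. -/
theorem core_central {G : Type*} [Group G] [Finite G] [Group.IsSolvable G]
    (K : Nat.Primes → Subgroup G) (hK : Cfsg.IsComplementSystem K) (B : Subgroup G) [B.Normal]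
    (hBne : B ≠ ⊥) (hmin : ∀ L : Subgroup G, L.Normal → L ≤ B → L = ⊥ ∨ L = B)
    (hcent : B ≤ Subgroup.center G) : B ≤ Cfsg.systemNormalizer K := by
  obtain ⟨p, hp, hBp⟩ := minimal_normal_isPGroup B hBne hmin
  have hfp : Fact p.Prime := ⟨hp⟩
  show B ≤ ⨅ q : Nat.Primes, Subgroup.normalizer (K q : Set G)
  apply le_iInf
  intro q
  by_cases hqp : (q : ℕ) = p
  · intro b hb
    rw [Subgroup.mem_normalizer_iff]
    intro x
    have hbc := Subgroup.mem_center_iff.mp (hcent hb)
    have : b * x * b⁻¹ = x := by rw [← hbc x]; group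
    rw [this]
  · have hle : B ≤ K q := by
      apply le_of_normal_of_coprime_card_index
      obtain ⟨k, hk⟩ := IsPGroup.iff_card.mp hBp
      rw [hk, hK q]
      apply Nat.Coprime.pow
      exact (Nat.coprime_primes hp q.2).mpr (fun h => hqp h.symm)
    exact hle.trans Subgroup.le_normalizer

/-- A non-central minimal normal subgroup meets every system normalizer trivially. -/
theorem core_eccentric {G : Type*} [Group G] [Finite G] [Group.IsSolvable G]
    (K : Nat.Primes → Subgroup G) (hK : Cfsg.IsComplementSystem K) (B : Subgroup G) [hBn : B.Normal]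
    (hBne : B ≠ ⊥) (hmin : ∀ L : Subgroup G, L.Normal → L ≤ B → L = ⊥ ∨ L = B)
    (hnc : ¬ B ≤ Subgroup.center G) : B ⊓ Cfsg.systemNormalizer K = ⊥ := by
  obtain ⟨p, hp, hBp⟩ := minimal_normal_isPGroup B hBne hmin
  have hfp : Fact p.Prime := ⟨hp⟩
  set C := Subgroup.centralizer (B : Set G) with hC
  have hCn : C.Normal := Subgroup.normal_centralizer
  have hCtop : C ≠ ⊤ := by
    intro h
    apply hnc
    intro b hb
    rw [Subgroup.mem_center_iff]
    intro g
    have hg : g ∈ C := h ▸ Subgroup.mem_top g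
    exact (Subgroup.mem_centralizer_iff.mp hg b hb).symm
  have hQnt : Nontrivial (G ⧸ C) := nontrivial_quotient_of_ne_top C hCtop
  obtain ⟨Mbar, hMne, hMn, hMmin⟩ := exists_minimal_normal (G := G ⧸ C)
  obtain ⟨q, hq, hMq⟩ := minimal_normal_isPGroup Mbar hMne hMmin
  have hfq : Fact q.Prime := ⟨hq⟩
  set M := Mbar.comap (QuotientGroup.mk' C) with hM
  have hMnorm : M.Normal := hMn.comap _
  have hsurj : Function.Surjective (QuotientGroup.mk' C) := QuotientGroup.mk'_surjective C
  have hMC : ¬ M ≤ C := by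
    intro h
    apply hMne
    rw [eq_bot_iff, ← Subgroup.map_comap_eq_self_of_surjective hsurj Mbar, ← hM]
    calc M.map (QuotientGroup.mk' C) ≤ C.map (QuotientGroup.mk' C) := Subgroup.map_mono h
      _ = ⊥ := QuotientGroup.map_mk'_self C
  have hrel : ∃ b, C.relIndex M = q ^ b := by
    obtain ⟨b, hb⟩ := IsPGroup.iff_card.mp hMq
    refine ⟨b, ?_⟩
    have h1 : ((⊥ : Subgroup (G ⧸ C)).comap (QuotientGroup.mk' C)).relIndex M = q ^ b := by
      rw [Subgroup.relIndex_comap, hM, Subgroup.map_comap_eq_self_of_surjective hsurj,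
        Subgroup.relIndex_bot_left, hb]
    rwa [MonoidHom.comap_bot, QuotientGroup.ker_mk'] at h1
  have hY : B ⊓ Subgroup.centralizer (M : Set G) = ⊥ := by
    have : (Subgroup.centralizer (M : Set G)).Normal := Subgroup.normal_centralizer
    rcases hmin (B ⊓ Subgroup.centralizer (M : Set G)) inferInstance inf_le_left with h | h
    · exact h
    · exfalso
      apply hMC
      have h1 : B ≤ Subgroup.centralizer (M : Set G) := by rw [← h]; exact inf_le_right
      exact Subgroup.le_centralizer_iff.mp h1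
  have hkey : ∀ (S : Subgroup G), M ≤ S ⊔ C → ∀ x ∈ B, (∀ s ∈ S, s * x = x * s) → x = 1 := by
    intro S hMS x hxB hxS
    have hx : x ∈ B ⊓ Subgroup.centralizer (M : Set G) := by
      refine ⟨hxB, ?_⟩
      show x ∈ Subgroup.centralizer (M : Set G)
      rw [Subgroup.mem_centralizer_iff]
      intro m hm
      have hle : S ⊔ C ≤ Subgroup.centralizer ({x} : Set G) := by
        apply sup_le
        · intro s hs
          rw [Subgroup.mem_centralizer_iff]
          intro y hy
          rw [Set.mem_singleton_iff] at hy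
          rw [hy]; exact (hxS s hs).symm
        · intro c hc
          rw [Subgroup.mem_centralizer_iff]
          intro y hy
          rw [Set.mem_singleton_iff] at hy
          rw [hy]; exact Subgroup.mem_centralizer_iff.mp hc x hxB
      have h2 := Subgroup.mem_centralizer_iff.mp (hle (hMS hm)) x (Set.mem_singleton x)
      exact h2.symm
    rw [hY, Subgroup.mem_bot] at hx
    exact hx
  have hqp : q ≠ p := by
    rintro rfl
    obtain ⟨P₀⟩ : Nonempty (Sylow q G) := inferInstance
    have hMle : M ≤ (P₀ : Subgroup G) ⊔ C := by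
      apply le_sup_of_coprime_relIndex_index
      obtain ⟨b, hb⟩ := hrel
      rw [hb]
      exact Nat.Coprime.pow_left _ ((Nat.Prime.coprime_iff_not_dvd hq).mpr P₀.not_dvd_index)
    obtain ⟨x, hxB, hx1, hxP⟩ := exists_central_of_normal_pgroup (P₀ : Subgroup G) B
      P₀.isPGroup' hBp hBne
    exact hx1 (hkey _ hMle x hxB hxP)
  have hMle : M ≤ K ⟨p, hp⟩ ⊔ C := by
    apply le_sup_of_coprime_relIndex_index
    obtain ⟨b, hb⟩ := hrel
    rw [hb, hK ⟨p, hp⟩]
    apply Nat.Coprime.pow
    exact (Nat.coprime_primes hq hp).mpr hqp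
  have hBK : B ⊓ K ⟨p, hp⟩ = ⊥ := by
    apply Disjoint.eq_bot
    apply Subgroup.disjoint_of_coprime_natCard
    obtain ⟨k, hk⟩ := IsPGroup.iff_card.mp hBp
    rw [hk]
    exact Nat.Coprime.pow_left _ ((Nat.Prime.coprime_iff_not_dvd hp).mpr
      (Cfsg.Agent.S0544.not_dvd_card_of_isComplementSystem hK ⟨p, hp⟩))
  rw [eq_bot_iff]
  rintro x ⟨hxB, hxD⟩
  rw [Subgroup.mem_bot]
  apply hkey (K ⟨p, hp⟩) hMle x hxB
  intro k hk
  have hxN : x ∈ Subgroup.normalizer (K ⟨p, hp⟩ : Set G) :=
    (iInf_le (fun q : Nat.Primes => Subgroup.normalizer (K q : Set G)) ⟨p, hp⟩) hxD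
  have h1 : x⁻¹ * k * x ∈ K ⟨p, hp⟩ := by
    have := (Subgroup.mem_normalizer_iff.mp (Subgroup.inv_mem _ hxN) k).mp hk
    simpa using this
  have hz : k⁻¹ * (x⁻¹ * k * x) ∈ B ⊓ K ⟨p, hp⟩ := by
    refine ⟨?_, Subgroup.mul_mem _ (Subgroup.inv_mem _ hk) h1⟩
    have : k⁻¹ * (x⁻¹ * k * x) = (k⁻¹ * x⁻¹ * k⁻¹⁻¹) * x := by group
    rw [this]
    exact B.mul_mem (hBn.conj_mem _ (B.inv_mem hxB) _) hxB
  rw [hBK, Subgroup.mem_bot] at hz
  calc k * x = x * (k * (k⁻¹ * (x⁻¹ * k * x))) := by group
    _ = x * k := by rw [hz, mul_one]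

/-- Let D be the system normalizer of a Hall complement system of a finite solvable group G, and let A < B be normal subgroups with no normal subgroup of G strictly between them (a chief factor). If G centralizes B modulo A then B ≤ A ⊔ D (D covers the factor); otherwise B ∩ D ≤ A (D avoids it). -/
theorem result {G : Type*} [Group G] [Finite G] [Group.IsSolvable G] (K : Nat.Primes → Subgroup G) (hK : Cfsg.IsComplementSystem K) (A B : Subgroup G) [A.Normal] [B.Normal] (hAB : A < B) (hchief : ∀ N : Subgroup G, N.Normal → A ≤ N → N ≤ B → N = A ∨ N = B) : (⁅B, (⊤ : Subgroup G)⁆ ≤ A → B ≤ A ⊔ Cfsg.systemNormalizer K) ∧ (¬ ⁅B, (⊤ : Subgroup G)⁆ ≤ A → B ⊓ Cfsg.systemNormalizer K ≤ A) := by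
  have hπs : Function.Surjective (QuotientGroup.mk' A) := QuotientGroup.mk'_surjective A
  obtain ⟨hCS, hD⟩ := Cfsg.Agent.S0545.result K hK A
  have hB'n : (B.map (QuotientGroup.mk' A)).Normal :=
    (inferInstance : B.Normal).map (QuotientGroup.mk' A) hπs
  have hcm : (B.map (QuotientGroup.mk' A)).comap (QuotientGroup.mk' A) = B := by
    rw [Subgroup.comap_map_eq, QuotientGroup.ker_mk']; exact sup_eq_left.mpr hAB.le
  have hB'ne : B.map (QuotientGroup.mk' A) ≠ ⊥ := by
    intro h
    have : B = A := by rw [← hcm, h, MonoidHom.comap_bot, QuotientGroup.ker_mk']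
    exact hAB.ne this.symm
  have hker : ∀ L : Subgroup (G ⧸ A), A ≤ L.comap (QuotientGroup.mk' A) := by
    intro L x hx
    show QuotientGroup.mk' A x ∈ L
    have : QuotientGroup.mk' A x = 1 := (QuotientGroup.eq_one_iff x).mpr hx
    rw [this]; exact L.one_mem
  have hB'min : ∀ L : Subgroup (G ⧸ A), L.Normal → L ≤ B.map (QuotientGroup.mk' A) →
      L = ⊥ ∨ L = B.map (QuotientGroup.mk' A) := by
    intro L hL hLB
    have h1 := hchief (L.comap (QuotientGroup.mk' A)) (hL.comap _) (hker L)
      (by rw [← hcm]; exact Subgroup.comap_mono hLB)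
    rcases h1 with h | h
    · left
      rw [← Subgroup.map_comap_eq_self_of_surjective hπs L, h, QuotientGroup.map_mk'_self]
    · right
      rw [← Subgroup.map_comap_eq_self_of_surjective hπs L, h]
  have hcent_iff : B.map (QuotientGroup.mk' A) ≤ Subgroup.center (G ⧸ A)
      ↔ ⁅B, (⊤ : Subgroup G)⁆ ≤ A := by
    constructor
    · intro h
      rw [Subgroup.commutator_le]
      intro b hb g _
      rw [← QuotientGroup.eq_one_iff (N := A)]
      show QuotientGroup.mk' A ⁅b, g⁆ = 1
      rw [map_commutatorElement, commutatorElement_eq_one_iff_commute]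
      have := Subgroup.mem_center_iff.mp (h (Subgroup.mem_map_of_mem _ hb)) (QuotientGroup.mk' A g)
      exact this.symm
    · intro h
      rintro _ ⟨b, hb, rfl⟩
      rw [Subgroup.mem_center_iff]
      intro y
      obtain ⟨g, rfl⟩ := hπs y
      have h1 : ⁅b, g⁆ ∈ A := h (Subgroup.commutator_mem_commutator hb (Subgroup.mem_top g))
      have h2 : QuotientGroup.mk' A ⁅b, g⁆ = 1 := (QuotientGroup.eq_one_iff _).mpr h1
      rw [map_commutatorElement, commutatorElement_eq_one_iff_commute] at h2
      exact h2.symm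
  constructor
  · intro h
    have h1 := core_central _ hCS (B.map (QuotientGroup.mk' A)) hB'ne hB'min (hcent_iff.mpr h)
    rw [hD] at h1
    have h2 := Subgroup.comap_mono (f := QuotientGroup.mk' A) h1
    rw [hcm, Subgroup.comap_map_eq, QuotientGroup.ker_mk'] at h2
    rw [sup_comm]; exact h2
  · intro h
    have h1 := core_eccentric _ hCS (B.map (QuotientGroup.mk' A)) hB'ne hB'min
      (fun hc => h (hcent_iff.mp hc))
    rw [hD] at h1
    intro x hx
    have h2 : QuotientGroup.mk' A x ∈ B.map (QuotientGroup.mk' A) ⊓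
        (Cfsg.systemNormalizer K).map (QuotientGroup.mk' A) :=
      ⟨Subgroup.mem_map_of_mem _ hx.1, Subgroup.mem_map_of_mem _ hx.2⟩
    rw [h1, Subgroup.mem_bot] at h2
    exact (QuotientGroup.eq_one_iff x).mp h2

end Cfsg.Agent.S0568
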