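import Cfsg.Statements.S0569
import Mathlib
import Cfsg.Agent.Lib.helper12.Carter

set_option autoImplicit false
open Pointwise
open Cfsg

namespace Cfsg.Agent.S0569

open Cfsg.Agent.Lib.helper12

/-- In a finite solvable group: each nilpotent self-normalizing subgroup contains the system normalizer of some Hall complement system, and the system normalizer of any Hall complement system lies in some nilpotent self-normalizing subgroup. -/
theorem result {G : Type*} [Group G] [Finite G] [Group.IsSolvable G] : (∀ C : Subgroup G, Cfsg.IsCarterSubgroup C → ∃ K : Nat.Primes → Subgroup G, Cfsg.IsComplementSystem K ∧ Cfsg.systemNormalizer K ≤ C) ∧ ∀ K : Nat.Primes → Subgroup G, Cfsg.IsComplementSystem K → ∃ C : Subgroup G, Cfsg.IsCarterSubgroup C ∧ Cfsg.systemNormalizer K ≤ C := by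
  constructor
  · intro C hC
    obtain ⟨K₀, hK₀⟩ := exists_isComplementSystem (G := G)
    obtain ⟨C₀, hC₀, hD₀, -⟩ := exists_carter_of_isComplementSystem _ G rfl K₀ hK₀
    obtain ⟨g, hg⟩ := carter_conj _ G rfl C₀ C hC₀ hC
    refine ⟨fun q => MulAut.conj g • K₀ q, ?_, ?_⟩
    · intro q
      show (MulAut.conj g • K₀ q).index = _
      rw [Cfsg.Agent.S0561.index_conj_smul, hK₀ q]
    · intro x hx
      rw [hg, mem_conj_smul_iff]
      apply hD₀
      show g⁻¹ * x * g ∈ ⨅ q : Nat.Primes, Subgroup.normalizer (K₀ q : Set G)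
      rw [Subgroup.mem_iInf]
      intro q
      have h1 : x ∈ Subgroup.normalizer ((MulAut.conj g • K₀ q : Subgroup G) : Set G) :=
        (iInf_le (fun q : Nat.Primes =>
          Subgroup.normalizer ((MulAut.conj g • K₀ q : Subgroup G) : Set G)) q) hx
      rw [mem_normalizer_iff_conj_smul_eq] at h1 ⊢
      have h2 := congrArg (fun A => MulAut.conj g⁻¹ • A) h1
      rw [← conj_mul_smul, ← conj_mul_smul, conj_inv_smul_conj_smul] at h2
      exact h2
  · intro K hK
    obtain ⟨C, hC, hD, -⟩ := exists_carter_of_isComplementSystem _ G rfl K hK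
    exact ⟨C, hC, hD⟩

end Cfsg.Agent.S0569
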