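import Cfsg.Statements.S0570
import Mathlib
import Cfsg.Agent.Lib.helper12.Carter2

set_option autoImplicit false
open Pointwise
open Cfsg

namespace Cfsg.Agent.S0570

open Cfsg.Agent.Lib.helper12

/-- Let G be a finite group with a nilpotent normal subgroup F such that G modulo F is nilpotent (nilpotent length at most two). Then a subgroup of G is a Carter subgroup if and only if it is the system normalizer of some Hall complement system. -/
theorem result {G : Type*} [Group G] [Finite G] (F : Subgroup G) [F.Normal] (hF : Group.IsNilpotent F) (hGF : Group.IsNilpotent (G ⧸ F)) (C : Subgroup G) : Cfsg.IsCarterSubgroup C ↔ ∃ K : Nat.Primes → Subgroup G, Cfsg.IsComplementSystem K ∧ C = Cfsg.systemNormalizer K := by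
  have hsolF : Group.IsSolvable F := inferInstance
  have hsolQ : Group.IsSolvable (G ⧸ F) := inferInstance
  have hsol : Group.IsSolvable G :=
    Group.isSolvable_of_ker_le_range F.subtype (QuotientGroup.mk' F)
      (by rw [QuotientGroup.ker_mk', Subgroup.range_subtype])
  have key : ∀ K : Nat.Primes → Subgroup G, Cfsg.IsComplementSystem K →
      Cfsg.IsCarterSubgroup (Cfsg.systemNormalizer K) := by
    intro K hK
    obtain ⟨C', hC', hD, hE⟩ := exists_carter_of_isComplementSystem _ G rfl K hK
    have h1 := carter_le_systemNormalizer_of_nilpotent_by_nilpotent F hF hGF K hK C' hC' hE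
    have h2 : Cfsg.systemNormalizer K = C' := le_antisymm hD h1
    rw [h2]; exact hC'
  constructor
  · intro hC
    obtain ⟨K₀, hK₀⟩ := exists_isComplementSystem (G := G)
    obtain ⟨g, hg⟩ := carter_conj _ G rfl _ C (key K₀ hK₀) hC
    exact ⟨fun q => MulAut.conj g • K₀ q, isComplementSystem_conj hK₀ g,
      by rw [systemNormalizer_conj, hg]⟩
  · rintro ⟨K, hK, rfl⟩
    exact key K hK

end Cfsg.Agent.S0570
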