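import Cfsg.Statements.S0572
import Mathlib

set_option autoImplicit false
open Cfsg
open scoped commutatorElement

namespace Cfsg.Agent.S0572

theorem comm_of_mem {G : Type*} [Group G] (A : Subgroup G) [IsMulCommutative A] {a b : G}
    (ha : a ∈ A) (hb : b ∈ A) : a * b = b * a :=
  congrArg Subtype.val (mul_comm' (⟨a, ha⟩ : A) ⟨b, hb⟩)

/-- reverse factorization -/
theorem rev_fact {G : Type*} [Group G] (A B : Subgroup G)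
    (hAB : ∀ g : G, ∃ a ∈ A, ∃ b ∈ B, g = a * b) (g : G) : ∃ b ∈ B, ∃ a ∈ A, g = b * a := by
  obtain ⟨a, ha, b, hb, h⟩ := hAB g⁻¹
  refine ⟨b⁻¹, B.inv_mem hb, a⁻¹, A.inv_mem ha, ?_⟩
  rw [← mul_inv_rev, ← h, inv_inv]

/-- conjugating `⁅a, b⁆` by an element of `B` gives a commutator `⁅a', b⁆` with the same `b`. -/
theorem conjB {G : Type*} [Group G] (A B : Subgroup G) [IsMulCommutative A] [IsMulCommutative B]
    (hAB : ∀ g : G, ∃ a ∈ A, ∃ b ∈ B, g = a * b) {a b₁ : G} (_ha : a ∈ A) (hb₁ : b₁ ∈ B) :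
    ∃ a₃ ∈ A, ∀ b ∈ B, b₁ * ⁅a, b⁆ * b₁⁻¹ = ⁅a₃, b⁆ := by
  obtain ⟨a₃, ha₃, b₃, hb₃, h⟩ := hAB (b₁ * a * b₁⁻¹)
  refine ⟨a₃, ha₃, fun b hb => ?_⟩
  have h1 : b₁ * ⁅a, b⁆ * b₁⁻¹ = ⁅b₁ * a * b₁⁻¹, b₁ * b * b₁⁻¹⁆ := by
    simp only [commutatorElement_def]; group
  have h2 : b₁ * b * b₁⁻¹ = b := by
    rw [comm_of_mem B hb₁ hb]; group
  rw [h1, h2, h]
  simp only [commutatorElement_def]
  have h3 : b₃ * b = b * b₃ := comm_of_mem B hb₃ hb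
  calc a₃ * b₃ * b * (a₃ * b₃)⁻¹ * b⁻¹ = a₃ * (b₃ * b) * b₃⁻¹ * a₃⁻¹ * b⁻¹ := by group
    _ = a₃ * (b * b₃) * b₃⁻¹ * a₃⁻¹ * b⁻¹ := by rw [h3]
    _ = a₃ * b * a₃⁻¹ * b⁻¹ := by group

/-- conjugating `⁅a, b⁆` by an element of `A` gives a commutator `⁅a, b'⁆` with the same `a`. -/
theorem conjA {G : Type*} [Group G] (A B : Subgroup G) [IsMulCommutative A] [IsMulCommutative B]
    (hAB : ∀ g : G, ∃ a ∈ A, ∃ b ∈ B, g = a * b) {a₁ b : G} (ha₁ : a₁ ∈ A) (hb : b ∈ B) :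
    ∃ b₂ ∈ B, ∀ a ∈ A, a₁ * ⁅a, b⁆ * a₁⁻¹ = ⁅a, b₂⁆ := by
  obtain ⟨b₂, hb₂, a₂, ha₂, h⟩ := rev_fact A B hAB (a₁ * b * a₁⁻¹)
  refine ⟨b₂, hb₂, fun a ha => ?_⟩
  have h1 : a₁ * ⁅a, b⁆ * a₁⁻¹ = ⁅a₁ * a * a₁⁻¹, a₁ * b * a₁⁻¹⁆ := by
    simp only [commutatorElement_def]; group
  have h2 : a₁ * a * a₁⁻¹ = a := by
    rw [comm_of_mem A ha₁ ha]; group
  rw [h1, h2, h]
  simp only [commutatorElement_def]
  have h3 : a₂ * a⁻¹ = a⁻¹ * a₂ := comm_of_mem A ha₂ (A.inv_mem ha)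
  calc a * (b₂ * a₂) * a⁻¹ * (b₂ * a₂)⁻¹ = a * b₂ * (a₂ * a⁻¹) * a₂⁻¹ * b₂⁻¹ := by group
    _ = a * b₂ * (a⁻¹ * a₂) * a₂⁻¹ * b₂⁻¹ := by rw [h3]
    _ = a * b₂ * a⁻¹ * b₂⁻¹ := by group

/-- Key step of Itô's theorem: commutators `⁅a, b⁆`, `⁅a₁, b₁⁆` commute. -/
theorem comm_comm {G : Type*} [Group G] (A B : Subgroup G) [IsMulCommutative A] [IsMulCommutative B]
    (hAB : ∀ g : G, ∃ a ∈ A, ∃ b ∈ B, g = a * b) {a b a₁ b₁ : G} (ha : a ∈ A) (hb : b ∈ B)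
    (ha₁ : a₁ ∈ A) (hb₁ : b₁ ∈ B) : ⁅a₁, b₁⁆ * ⁅a, b⁆ = ⁅a, b⁆ * ⁅a₁, b₁⁆ := by
  -- use a₁⁻¹, b₁⁻¹
  have ha₁' : a₁⁻¹ ∈ A := A.inv_mem ha₁
  have hb₁' : b₁⁻¹ ∈ B := B.inv_mem hb₁
  obtain ⟨a₃, ha₃, h3⟩ := conjB A B hAB ha hb₁'
  obtain ⟨b₂, hb₂, h2⟩ := conjA A B hAB ha₁' hb
  -- (a₁⁻¹ b₁⁻¹) • ⁅a,b⁆ = ⁅a₃, b₂⁆ = (b₁⁻¹ a₁⁻¹) • ⁅a,b⁆
  have e1 : a₁⁻¹ * (b₁⁻¹ * ⁅a, b⁆ * b₁⁻¹⁻¹) * a₁⁻¹⁻¹ = ⁅a₃, b₂⁆ := by
    rw [h3 b hb, h2 a₃ ha₃]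
  have e2 : b₁⁻¹ * (a₁⁻¹ * ⁅a, b⁆ * a₁⁻¹⁻¹) * b₁⁻¹⁻¹ = ⁅a₃, b₂⁆ := by
    rw [h2 a ha, h3 b₂ hb₂]
  have e3 : a₁⁻¹ * (b₁⁻¹ * ⁅a, b⁆ * b₁⁻¹⁻¹) * a₁⁻¹⁻¹ = b₁⁻¹ * (a₁⁻¹ * ⁅a, b⁆ * a₁⁻¹⁻¹) * b₁⁻¹⁻¹ :=
    e1.trans e2.symm
  generalize ⁅a, b⁆ = c at e3 ⊢
  simp only [commutatorElement_def]
  have e4 : a₁ * b₁ * a₁⁻¹ * b₁⁻¹ * c = a₁ * b₁ * (a₁⁻¹ * (b₁⁻¹ * c * b₁⁻¹⁻¹) * a₁⁻¹⁻¹) * a₁⁻¹ * b₁⁻¹ := by
    group
  rw [e4, e3]; group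

/-- Itô: if `G = AB` with `A`, `B` abelian then the derived subgroup is abelian. -/
theorem ito {G : Type*} [Group G] (A B : Subgroup G) [IsMulCommutative A] [IsMulCommutative B]
    (hAB : ∀ g : G, ∃ a ∈ A, ∃ b ∈ B, g = a * b) :
    ∀ x ∈ commutator G, ∀ y ∈ commutator G, x * y = y * x := by
  classical
  set S : Set G := {c | ∃ a ∈ A, ∃ b ∈ B, c = ⁅a, b⁆} with hS
  -- S is invariant under conjugation
  have hSA : ∀ a₁ ∈ A, ∀ c ∈ S, a₁ * c * a₁⁻¹ ∈ S := by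
    rintro a₁ ha₁ c ⟨a, ha, b, hb, rfl⟩
    obtain ⟨b₂, hb₂, h2⟩ := conjA A B hAB ha₁ hb
    exact ⟨a, ha, b₂, hb₂, h2 a ha⟩
  have hSB : ∀ b₁ ∈ B, ∀ c ∈ S, b₁ * c * b₁⁻¹ ∈ S := by
    rintro b₁ hb₁ c ⟨a, ha, b, hb, rfl⟩
    obtain ⟨a₃, ha₃, h3⟩ := conjB A B hAB ha hb₁
    exact ⟨a₃, ha₃, b, hb, h3 b hb⟩
  have hSG : ∀ g : G, ∀ c ∈ S, g * c * g⁻¹ ∈ S := by
    intro g c hc
    obtain ⟨a, ha, b, hb, rfl⟩ := hAB g
    have := hSA a ha _ (hSB b hb c hc)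
    have e : a * b * c * (a * b)⁻¹ = a * (b * c * b⁻¹) * a⁻¹ := by group
    rw [e]; exact this
  set N : Subgroup G := Subgroup.closure S with hN
  have hNn : N.Normal := by
    constructor
    intro n hn g
    induction hn using Subgroup.closure_induction with
    | mem x hx => exact Subgroup.subset_closure (hSG g x hx)
    | one => simp
    | mul x y _ _ hx hy =>
      have e : g * (x * y) * g⁻¹ = (g * x * g⁻¹) * (g * y * g⁻¹) := by group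
      rw [e]; exact N.mul_mem hx hy
    | inv x _ hx =>
      have e : g * x⁻¹ * g⁻¹ = (g * x * g⁻¹)⁻¹ := by group
      rw [e]; exact N.inv_mem hx
  -- S is pairwise commuting
  have hScomm : S ⊆ Subgroup.centralizer S := by
    rintro c ⟨a, ha, b, hb, rfl⟩
    rw [SetLike.mem_coe, Subgroup.mem_centralizer_iff]
    rintro d ⟨a₁, ha₁, b₁, hb₁, rfl⟩
    exact comm_comm A B hAB ha hb ha₁ hb₁
  have hNcomm : N ≤ Subgroup.centralizer (N : Set G) := by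
    have h1 : N ≤ Subgroup.centralizer S := by
      rw [hN, Subgroup.closure_le]; exact hScomm
    have h2 : N ≤ Subgroup.centralizer (Subgroup.centralizer S : Set G) :=
      Subgroup.closure_le_centralizer_centralizer S
    refine h2.trans ?_
    exact Subgroup.centralizer_le h1
  -- G' ≤ N
  have hGN : commutator G ≤ N := by
    rw [commutator_def, Subgroup.commutator_le]
    intro g _ h _
    -- work in the quotient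
    have hcomm : ∀ a ∈ A, ∀ b ∈ B, (QuotientGroup.mk a : G ⧸ N) * QuotientGroup.mk b
        = QuotientGroup.mk b * QuotientGroup.mk a := by
      intro a ha b hb
      rw [← QuotientGroup.mk_mul, ← QuotientGroup.mk_mul, QuotientGroup.eq]
      have : (a * b)⁻¹ * (b * a) = (a * b)⁻¹ * ⁅a, b⁆⁻¹ * (a * b) := by
        simp only [commutatorElement_def]; group
      rw [this]
      have hmem : ⁅a, b⁆⁻¹ ∈ N := N.inv_mem (Subgroup.subset_closure ⟨a, ha, b, hb, rfl⟩)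
      have := hNn.conj_mem _ hmem (a * b)⁻¹
      simpa using this
    obtain ⟨a₁, ha₁, b₁, hb₁, rfl⟩ := hAB g
    obtain ⟨a₂, ha₂, b₂, hb₂, rfl⟩ := hAB h
    have hq : (QuotientGroup.mk ⁅a₁ * b₁, a₂ * b₂⁆ : G ⧸ N) = 1 := by
      simp only [commutatorElement_def, QuotientGroup.mk_mul, QuotientGroup.mk_inv]
      have c1 := hcomm a₁ ha₁ b₁ hb₁
      have c2 := hcomm a₁ ha₁ b₂ hb₂
      have c3 := hcomm a₂ ha₂ b₁ hb₁
      have c4 := hcomm a₂ ha₂ b₂ hb₂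
      have c5 : (QuotientGroup.mk a₁ : G ⧸ N) * QuotientGroup.mk a₂
          = QuotientGroup.mk a₂ * QuotientGroup.mk a₁ := by
        rw [← QuotientGroup.mk_mul, ← QuotientGroup.mk_mul, comm_of_mem A ha₁ ha₂]
      have c6 : (QuotientGroup.mk b₁ : G ⧸ N) * QuotientGroup.mk b₂
          = QuotientGroup.mk b₂ * QuotientGroup.mk b₁ := by
        rw [← QuotientGroup.mk_mul, ← QuotientGroup.mk_mul, comm_of_mem B hb₁ hb₂]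
      generalize (QuotientGroup.mk a₁ : G ⧸ N) = x at *
      generalize (QuotientGroup.mk b₁ : G ⧸ N) = y at *
      generalize (QuotientGroup.mk a₂ : G ⧸ N) = z at *
      generalize (QuotientGroup.mk b₂ : G ⧸ N) = w at *
      calc x * y * (z * w) * (x * y)⁻¹ * (z * w)⁻¹
          = x * (y * z) * w * y⁻¹ * x⁻¹ * w⁻¹ * z⁻¹ := by group
        _ = x * (z * y) * w * y⁻¹ * x⁻¹ * w⁻¹ * z⁻¹ := by rw [c3]
        _ = (x * z) * (y * w) * y⁻¹ * x⁻¹ * w⁻¹ * z⁻¹ := by group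
        _ = (z * x) * (w * y) * y⁻¹ * x⁻¹ * w⁻¹ * z⁻¹ := by rw [c5, c6]
        _ = z * (x * w) * x⁻¹ * w⁻¹ * z⁻¹ := by group
        _ = z * (w * x) * x⁻¹ * w⁻¹ * z⁻¹ := by rw [c2]
        _ = 1 := by group
    exact (QuotientGroup.eq_one_iff _).mp hq
  intro x hx y hy
  have hx' := hNcomm (hGN hx)
  rw [Subgroup.mem_centralizer_iff] at hx'
  exact (hx' y (hGN hy)).symm

/-- Itô's Theorem: if a group G is the product AB of two abelian subgroups, then the commutator subgroup of G is abelian, i.e. the second term of the derived series is trivial. -/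
theorem result {G : Type*} [Group G] (A B : Subgroup G) [IsMulCommutative A] [IsMulCommutative B] (hAB : ∀ g : G, ∃ a ∈ A, ∃ b ∈ B, g = a * b) : derivedSeries G 2 = ⊥ := by
  have h := ito A B hAB
  rw [derivedSeries_succ, derivedSeries_one, Subgroup.commutator_eq_bot_iff_le_centralizer]
  intro x hx
  rw [Subgroup.mem_centralizer_iff]
  intro y hy
  exact h y hy x hx

end Cfsg.Agent.S0572
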