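import Cfsg.Statements.S0573
import Mathlib
import Cfsg.Agent.S0572
import Cfsg.Agent.Lib.helper13.Basic

set_option autoImplicit false
open Cfsg
open scoped commutatorElement

namespace Cfsg.Agent.S0573

open Cfsg.Agent.Lib.helper13

/-- If `b * a = a'' * b''` then `b ⁅a, g⁆ b⁻¹ = ⁅a'', g⁆` for all `g`. -/
theorem keyK {G : Type*} [Group G] (A B : Subgroup G) [IsMulCommutative A] [IsMulCommutative B]
    (hAB : ∀ g : G, ∃ a ∈ A, ∃ b ∈ B, g = a * b) {a b a'' b'' : G} (ha : a ∈ A) (hb : b ∈ B)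
    (ha'' : a'' ∈ A) (hb'' : b'' ∈ B) (h : b * a = a'' * b'') (g : G) :
    b * ⁅a, g⁆ * b⁻¹ = ⁅a'', g⁆ := by
  obtain ⟨y, hy, x, hx, rfl⟩ := Cfsg.Agent.S0572.rev_fact A B hAB g
  have h1 : ∀ c ∈ A, ⁅c, y * x⁆ = ⁅c, y⁆ := by
    intro c hc
    have e : x * c⁻¹ = c⁻¹ * x := comm_of_mem_of_isMulCommutative A hx (A.inv_mem hc)
    simp only [commutatorElement_def]
    calc c * (y * x) * c⁻¹ * (y * x)⁻¹ = c * y * (x * c⁻¹) * x⁻¹ * y⁻¹ := by group
      _ = c * y * (c⁻¹ * x) * x⁻¹ * y⁻¹ := by rw [e]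
      _ = c * y * c⁻¹ * y⁻¹ := by group
  rw [h1 a ha, h1 a'' ha'']
  have e1 : b * y⁻¹ = y⁻¹ * b := comm_of_mem_of_isMulCommutative B hb (B.inv_mem hy)
  have e2 : b'' * y = y * b'' := comm_of_mem_of_isMulCommutative B hb'' hy
  simp only [commutatorElement_def]
  calc b * (a * y * a⁻¹ * y⁻¹) * b⁻¹ = (b * a) * y * (b * a)⁻¹ * (b * y⁻¹) * b⁻¹ := by group
    _ = (a'' * b'') * y * (a'' * b'')⁻¹ * (y⁻¹ * b) * b⁻¹ := by rw [h, e1]
    _ = a'' * (b'' * y) * b''⁻¹ * a''⁻¹ * y⁻¹ := by group
    _ = a'' * (y * b'') * b''⁻¹ * a''⁻¹ * y⁻¹ := by rw [e2]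
    _ = a'' * y * a''⁻¹ * y⁻¹ := by group

/-- The counting step. -/
theorem count {G : Type*} [Group G] [Finite G] (A B : Subgroup G) [IsMulCommutative A]
    [IsMulCommutative B] (hAB : ∀ g : G, ∃ a ∈ A, ∃ b ∈ B, g = a * b) (N : Subgroup G) [N.Normal]
    (hsemi : ∀ g : G, (∃ n ∈ N, n ≠ 1 ∧ g * n = n * g) → g ∈ Subgroup.centralizer (N : Set G))
    (a : G) (ha : a ∈ A) (haC : a ∉ Subgroup.centralizer (N : Set G)) :
    ((fun (g : G) (n : N) => g * (n : G) * g⁻¹) '' (B : Set G)).ncard
      < ((fun (g : G) (n : N) => g * (n : G) * g⁻¹) '' (A : Set G)).ncard := by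
  classical
  set φ : G → (N → G) := fun (g : G) (n : N) => g * (n : G) * g⁻¹ with hφ
  have hφC : ∀ g g' : G, φ g = φ g' → g'⁻¹ * g ∈ Subgroup.centralizer (N : Set G) := by
    intro g g' h
    rw [Subgroup.mem_centralizer_iff]
    intro n hn
    have := congrFun h ⟨n, hn⟩
    simp only [hφ] at this
    calc n * (g'⁻¹ * g) = g'⁻¹ * (g' * n * g'⁻¹) * g := by group
      _ = g'⁻¹ * (g * n * g⁻¹) * g := by rw [this]
      _ = g'⁻¹ * g * n := by group
  have hCφ : ∀ g g' : G, g'⁻¹ * g ∈ Subgroup.centralizer (N : Set G) → φ g = φ g' := by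
    intro g g' h
    rw [Subgroup.mem_centralizer_iff] at h
    funext n
    simp only [hφ]
    have := h n n.2
    calc g * (n : G) * g⁻¹ = g' * (g'⁻¹ * g * n) * g⁻¹ := by group
      _ = g' * (n * (g'⁻¹ * g)) * g⁻¹ := by rw [this]
      _ = g' * n * g'⁻¹ := by group
  -- there is n ∈ N with ⁅a, n⁆ ≠ 1
  have hexn : ∃ n ∈ N, ⁅a, n⁆ ≠ 1 := by
    by_contra hcon
    push Not at hcon
    apply haC
    rw [Subgroup.mem_centralizer_iff]
    intro n hn
    have := hcon n hn
    rw [commutatorElement_eq_one_iff_mul_comm] at this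
    exact this.symm
  obtain ⟨n₀, hn₀, hn₀1⟩ := hexn
  have hcommN : ∀ c : G, ∀ n ∈ N, ⁅c, n⁆ ∈ N := by
    intro c n hn
    have h1 : c * n * c⁻¹ ∈ N := (inferInstance : N.Normal).conj_mem n hn c
    have : ⁅c, n⁆ = (c * n * c⁻¹) * n⁻¹ := by simp only [commutatorElement_def]
    rw [this]
    exact N.mul_mem h1 (N.inv_mem hn)
  have key : ∀ t ∈ φ '' (B : Set G), ∃ a'' ∈ A, ∃ b ∈ B, ∃ b'' ∈ B, φ b = t ∧ b * a = a'' * b'' := by
    rintro t ⟨b, hb, rfl⟩
    obtain ⟨a'', ha'', b'', hb'', h⟩ := hAB (b * a)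
    exact ⟨a'', ha'', b, hb, b'', hb'', rfl, h⟩
  choose! Fa hFa Fb hFb Fb'' hFb'' hFφ hFmul using key
  have hle : (φ '' (B : Set G)).ncard ≤ ((φ '' (A : Set G)) \ {φ 1}).ncard := by
    apply Set.ncard_le_ncard_of_injOn (fun t => φ (Fa t))
    · intro t ht
      have h1 := hFa t ht
      have h2 := hFb t ht
      have h3 := hFb'' t ht
      have h5 := hFmul t ht
      refine ⟨⟨Fa t, h1, rfl⟩, ?_⟩
      intro heq
      rw [Set.mem_singleton_iff] at heq
      have hC := hφC _ _ heq
      rw [inv_one, one_mul, Subgroup.mem_centralizer_iff] at hC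
      apply hn₀1
      have hk := keyK A B hAB ha h2 h1 h3 h5 n₀
      have : ⁅Fa t, n₀⁆ = 1 := by
        rw [commutatorElement_eq_one_iff_mul_comm]
        exact (hC n₀ hn₀).symm
      rw [this] at hk
      have : ⁅a, n₀⁆ = (Fb t)⁻¹ * (Fb t * ⁅a, n₀⁆ * (Fb t)⁻¹) * Fb t := by group
      rw [this, hk]; group
    · intro t1 ht1 t2 ht2 heq
      have h1 := hFa t1 ht1
      have h2 := hFb t1 ht1
      have h3 := hFb'' t1 ht1
      have h4 := hFφ t1 ht1
      have h5 := hFmul t1 ht1
      have k1 := hFa t2 ht2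
      have k2 := hFb t2 ht2
      have k3 := hFb'' t2 ht2
      have k4 := hFφ t2 ht2
      have k5 := hFmul t2 ht2
      simp only at heq
      have hC := hφC _ _ heq
      have e1 := keyK A B hAB ha h2 h1 h3 h5 n₀
      have e2 := keyK A B hAB ha k2 k1 k3 k5 n₀
      -- ⁅Fa t1, n₀⁆ = ⁅Fa t2, n₀⁆
      have e3 : ⁅Fa t1, n₀⁆ = ⁅Fa t2, n₀⁆ := by
        have := congrFun heq ⟨n₀, hn₀⟩
        simp only [hφ] at this
        simp only [commutatorElement_def]
        rw [this]
      rw [← e1, ← e2] at e3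
      have hm : ⁅a, n₀⁆ ∈ N := hcommN a n₀ hn₀
      have hmem : (Fb t2)⁻¹ * Fb t1 ∈ Subgroup.centralizer (N : Set G) := by
        apply hsemi
        refine ⟨⁅a, n₀⁆, hm, hn₀1, ?_⟩
        calc (Fb t2)⁻¹ * Fb t1 * ⁅a, n₀⁆ = (Fb t2)⁻¹ * (Fb t1 * ⁅a, n₀⁆ * (Fb t1)⁻¹) * Fb t1 := by
              group
          _ = (Fb t2)⁻¹ * (Fb t2 * ⁅a, n₀⁆ * (Fb t2)⁻¹) * Fb t1 := by rw [e3]
          _ = ⁅a, n₀⁆ * ((Fb t2)⁻¹ * Fb t1) := by group
      have := hCφ _ _ hmem
      rw [h4, k4] at this
      exact this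
  have hlt : ((φ '' (A : Set G)) \ {φ 1}).ncard < (φ '' (A : Set G)).ncard :=
    Set.ncard_sdiff_singleton_lt_of_mem ⟨1, A.one_mem, rfl⟩
  exact lt_of_le_of_lt hle hlt

/-- If `A` centralizes the minimal normal subgroup `N` and the centre is trivial then `N ≤ A`. -/
theorem le_of_le_centralizer {G : Type*} [Group G] (A B : Subgroup G) [IsMulCommutative A]
    [IsMulCommutative B] (hAB : ∀ g : G, ∃ a ∈ A, ∃ b ∈ B, g = a * b)
    (hZ : Subgroup.center G = ⊥) (N : Subgroup G)
    (hA : A ≤ Subgroup.centralizer (N : Set G)) : N ≤ A := by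
  intro n hn
  obtain ⟨a, ha, b, hb, h⟩ := hAB n
  have hbc : b ∈ Subgroup.center G := by
    rw [Subgroup.mem_center_iff]
    intro g
    obtain ⟨a', ha', b', hb', rfl⟩ := hAB g
    have hb_eq : b = a⁻¹ * n := by rw [h]; group
    have e1 : a' * b = b * a' := by
      have c1 : n * a' = a' * n := by
        have := hA ha'
        rw [Subgroup.mem_centralizer_iff] at this
        exact this n hn
      have c2 : a' * a⁻¹ = a⁻¹ * a' := comm_of_mem_of_isMulCommutative A ha' (A.inv_mem ha)
      rw [hb_eq]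
      calc a' * (a⁻¹ * n) = (a' * a⁻¹) * n := by group
        _ = a⁻¹ * (a' * n) := by rw [c2]; group
        _ = a⁻¹ * (n * a') := by rw [c1]
        _ = a⁻¹ * n * a' := by group
    have e2 : b' * b = b * b' := comm_of_mem_of_isMulCommutative B hb' hb
    calc a' * b' * b = a' * (b' * b) := by group
      _ = a' * (b * b') := by rw [e2]
      _ = (a' * b) * b' := by group
      _ = b * a' * b' := by rw [e1]
      _ = b * (a' * b') := by group
  rw [hZ, Subgroup.mem_bot] at hbc
  rw [h, hbc, mul_one]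
  exact ha

/-- If a nontrivial finite group G is the product AB of abelian subgroups A and B, then some nontrivial normal subgroup of G is contained in A or in B. -/
theorem result {G : Type*} [Group G] [Finite G] [Nontrivial G] (A B : Subgroup G) [IsMulCommutative A] [IsMulCommutative B] (hAB : ∀ g : G, ∃ a ∈ A, ∃ b ∈ B, g = a * b) : ∃ N : Subgroup G, N.Normal ∧ N ≠ ⊥ ∧ (N ≤ A ∨ N ≤ B) := by
  classical
  have hBA : ∀ g : G, ∃ b ∈ B, ∃ a ∈ A, g = b * a := Cfsg.Agent.S0572.rev_fact A B hAB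
  by_cases hZ : Subgroup.center G = ⊥
  · -- centre trivial
    have hG' := Cfsg.Agent.S0572.ito A B hAB
    obtain ⟨N, hNn, hN0, hNmin⟩ := exists_minimal_normal (G := G)
    have := hNn
    -- N ≤ G'
    have hNG' : N ≤ commutator G := by
      have hinf : (N ⊓ commutator G).Normal := inferInstance
      rcases hNmin _ hinf inf_le_left with h | h
      · exfalso
        apply hN0
        rw [eq_bot_iff]
        intro n hn
        have hnc : n ∈ Subgroup.center G := by
          rw [Subgroup.mem_center_iff]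
          intro g
          have h1 : ⁅n, g⁆ ∈ N ⊓ commutator G := by
            refine ⟨?_, ?_⟩
            · have : ⁅n, g⁆ = n * (g * n⁻¹ * g⁻¹) := by
                simp only [commutatorElement_def]; group
              rw [this]
              exact N.mul_mem hn (hNn.conj_mem _ (N.inv_mem hn) g)
            · rw [commutator_def]
              exact Subgroup.commutator_mem_commutator (Subgroup.mem_top n) (Subgroup.mem_top g)
          rw [h, Subgroup.mem_bot, commutatorElement_eq_one_iff_mul_comm] at h1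
          exact h1.symm
        rw [hZ] at hnc
        exact hnc
      · rw [← h]; exact inf_le_right
    -- G' ≤ C
    have hG'C : commutator G ≤ Subgroup.centralizer (N : Set G) := by
      intro x hx
      rw [Subgroup.mem_centralizer_iff]
      intro n hn
      exact hG' n (hNG' hn) x hx
    -- semiregularity
    have hsemi : ∀ g : G, (∃ n ∈ N, n ≠ 1 ∧ g * n = n * g) →
        g ∈ Subgroup.centralizer (N : Set G) := by
      rintro g ⟨n, hn, hn1, hgn⟩
      set F : Subgroup G := N ⊓ Subgroup.centralizer {g} with hF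
      have hFn : F.Normal := by
        constructor
        intro x hx h
        obtain ⟨hxN, hxg⟩ := Subgroup.mem_inf.mp hx
        refine Subgroup.mem_inf.mpr ⟨hNn.conj_mem x hxN h, ?_⟩
        rw [Subgroup.mem_centralizer_iff] at hxg ⊢
        intro y hy
        rw [Set.mem_singleton_iff] at hy
        subst hy
        have hxy : y * x = x * y := hxg y rfl
        -- c = y⁻¹ h⁻¹ y h ∈ G' centralizes x
        have hc : ⁅y⁻¹, h⁻¹⁆ ∈ commutator G := by
          rw [commutator_def]
          exact Subgroup.commutator_mem_commutator (Subgroup.mem_top _) (Subgroup.mem_top _)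
        have hcx := hG'C hc
        rw [Subgroup.mem_centralizer_iff] at hcx
        have hcx' := hcx x hxN
        simp only [commutatorElement_def] at hcx'
        calc y * (h * x * h⁻¹) = h * y * ((y⁻¹ * h⁻¹ * y⁻¹⁻¹ * h⁻¹⁻¹) * x) * h⁻¹ := by group
          _ = h * y * (x * (y⁻¹ * h⁻¹ * y⁻¹⁻¹ * h⁻¹⁻¹)) * h⁻¹ := by rw [hcx']
          _ = h * (y * x) * y⁻¹ * h⁻¹ * y := by group
          _ = h * (x * y) * y⁻¹ * h⁻¹ * y := by rw [hxy]
          _ = h * x * h⁻¹ * y := by group
      have hnF : n ∈ F := by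
        refine Subgroup.mem_inf.mpr ⟨hn, ?_⟩
        rw [Subgroup.mem_centralizer_iff]
        intro y hy
        rw [Set.mem_singleton_iff] at hy
        subst hy
        exact hgn
      rcases hNmin F hFn inf_le_left with h | h
      · exfalso
        rw [h, Subgroup.mem_bot] at hnF
        exact hn1 hnF
      · rw [Subgroup.mem_centralizer_iff]
        intro m hm
        have hmF : m ∈ F := by rw [h]; exact hm
        have := (Subgroup.mem_inf.mp hmF).2
        rw [Subgroup.mem_centralizer_iff] at this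
        exact (this g rfl).symm
    by_cases hAC : A ≤ Subgroup.centralizer (N : Set G)
    · exact ⟨N, hNn, hN0, Or.inl (le_of_le_centralizer A B hAB hZ N hAC)⟩
    · by_cases hBC : B ≤ Subgroup.centralizer (N : Set G)
      · exact ⟨N, hNn, hN0, Or.inr (le_of_le_centralizer B A hBA hZ N hBC)⟩
      · exfalso
        obtain ⟨a, ha, haC⟩ := SetLike.not_le_iff_exists.mp hAC
        obtain ⟨b, hb, hbC⟩ := SetLike.not_le_iff_exists.mp hBC
        have h1 := count A B hAB N hsemi a ha haC
        have h2 := count B A hBA N hsemi b hb hbC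
        exact lt_asymm h1 h2
  · -- centre nontrivial
    obtain ⟨z, hz, hz1⟩ : ∃ z : G, z ∈ Subgroup.center G ∧ z ≠ 1 := by
      by_contra hcon
      apply hZ
      rw [eq_bot_iff]
      intro z hz
      by_contra hz1
      exact hcon ⟨z, hz, hz1⟩
    rw [Subgroup.mem_center_iff] at hz
    obtain ⟨a, ha, b, hb, hzab⟩ := hAB z
    have hac : a ∈ Subgroup.center G := by
      rw [Subgroup.mem_center_iff]
      intro g
      obtain ⟨a', ha', b', hb', rfl⟩ := hAB g
      have ha_eq : a = z * b⁻¹ := by rw [hzab]; group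
      have e1 : a' * a = a * a' := comm_of_mem_of_isMulCommutative A ha' ha
      have e2 : b' * a = a * b' := by
        have c2 : b' * b⁻¹ = b⁻¹ * b' := comm_of_mem_of_isMulCommutative B hb' (B.inv_mem hb)
        rw [ha_eq]
        calc b' * (z * b⁻¹) = (b' * z) * b⁻¹ := by group
          _ = (z * b') * b⁻¹ := by rw [hz b']
          _ = z * (b' * b⁻¹) := by group
          _ = z * (b⁻¹ * b') := by rw [c2]
          _ = z * b⁻¹ * b' := by group
      calc a' * b' * a = a' * (b' * a) := by group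
        _ = a' * (a * b') := by rw [e2]
        _ = (a' * a) * b' := by group
        _ = a * a' * b' := by rw [e1]
        _ = a * (a' * b') := by group
    have hbc : b ∈ Subgroup.center G := by
      have : b = a⁻¹ * z := by rw [hzab]; group
      rw [this]
      exact Subgroup.mul_mem _ (Subgroup.inv_mem _ hac) (Subgroup.mem_center_iff.mpr hz)
    have hnormal : ∀ K : Subgroup G, K ≤ Subgroup.center G → K.Normal := by
      intro K hK
      constructor
      intro n hn g
      have := hK hn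
      rw [Subgroup.mem_center_iff] at this
      have e : g * n * g⁻¹ = n := by rw [this g]; group
      rw [e]; exact hn
    by_cases ha1 : a = 1
    · have hb1 : b ≠ 1 := by
        intro hb1
        apply hz1
        rw [hzab, ha1, hb1, one_mul]
      refine ⟨B ⊓ Subgroup.center G, hnormal _ inf_le_right, ?_, Or.inr inf_le_left⟩
      intro h
      have : b ∈ B ⊓ Subgroup.center G := ⟨hb, hbc⟩
      rw [h, Subgroup.mem_bot] at this
      exact hb1 this
    · refine ⟨A ⊓ Subgroup.center G, hnormal _ inf_le_right, ?_, Or.inl inf_le_left⟩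
      intro h
      have : a ∈ A ⊓ Subgroup.center G := ⟨ha, hac⟩
      rw [h, Subgroup.mem_bot] at this
      exact ha1 this

end Cfsg.Agent.S0573
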