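import Cfsg.Statements.S0575
import Mathlib

set_option autoImplicit false
open Cfsg

namespace Cfsg.Agent.S0575

/-- If H is a normal subgroup of a finite group G, then the Frattini subgroup of H, viewed in G, lies in the Frattini subgroup of G. -/
theorem result {G : Type*} [Group G] [Finite G] (H : Subgroup G) [H.Normal] : (frattini ↥H).map H.subtype ≤ frattini G := by
  classical
  have hFn : ((frattini ↥H).map H.subtype).Normal := inferInstance
  have hFH : (frattini ↥H).map H.subtype ≤ H := Subgroup.map_subtype_le _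
  rw [frattini, Order.radical]
  refine le_iInf₂ ?_
  intro M hM
  by_contra hFM
  have hsup : (frattini ↥H).map H.subtype ⊔ M = ⊤ := by
    by_contra hne
    have h1 : M < (frattini ↥H).map H.subtype ⊔ M := by
      refine lt_of_le_of_ne le_sup_right ?_
      intro heq
      apply hFM
      rw [heq]
      exact le_sup_left
    exact hne (hM.2 _ h1)
  have hK : M.subgroupOf H = ⊤ := by
    apply frattini_nongenerating
    rw [eq_top_iff]
    rintro ⟨h, hh⟩ _
    have hg : h ∈ (frattini ↥H).map H.subtype ⊔ M := by rw [hsup]; trivial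
    rw [← SetLike.mem_coe, Subgroup.normal_mul] at hg
    obtain ⟨f, hf, m, hm, hfm⟩ := hg
    have hfH : f ∈ H := hFH hf
    have hmH : m ∈ H := by
      have : m = f⁻¹ * h := by rw [← hfm]; group
      rw [this]
      exact H.mul_mem (H.inv_mem hfH) hh
    have hfF : (⟨f, hfH⟩ : H) ∈ frattini ↥H := by
      obtain ⟨x, hx, hxf⟩ := hf
      have : x = ⟨f, hfH⟩ := Subtype.ext hxf
      rw [← this]; exact hx
    have : (⟨h, hh⟩ : H) = ⟨m, hmH⟩ * (⟨m, hmH⟩⁻¹ * ⟨f, hfH⟩ * ⟨m, hmH⟩) := by
      apply Subtype.ext
      simp only [Subgroup.coe_mul, Subgroup.coe_inv]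
      rw [← hfm]; group
    rw [this]
    apply Subgroup.mul_mem
    · apply Subgroup.mem_sup_left
      rw [Subgroup.mem_subgroupOf]
      exact hm
    · apply Subgroup.mem_sup_right
      have hn : (frattini ↥H).Normal := inferInstance
      have := hn.conj_mem _ hfF (⟨m, hmH⟩⁻¹)
      simpa using this
  rw [Subgroup.subgroupOf_eq_top] at hK
  exact hFM (hFH.trans hK)

end Cfsg.Agent.S0575
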