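import Cfsg.Statements.S0576
import Mathlib

set_option autoImplicit false
open Cfsg

namespace Cfsg.Agent.S0576

/-- Let H be a normal subgroup of a finite group G with H contained in the Frattini subgroup of G. Then the group of inner automorphisms of H is contained in the Frattini subgroup of the automorphism group of H. -/
theorem result {G : Type*} [Group G] [Finite G] (H : Subgroup G) [H.Normal] (hH : H ≤ frattini G) : (MulAut.conj : ↥H →* MulAut ↥H).range ≤ frattini (MulAut ↥H) := by
  classical
  rw [frattini, Order.radical]
  refine le_iInf₂ ?_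
  intro M hM
  -- the conjugation action of `G` on `H`
  let ρ : G →* MulAut ↥H := MulAut.conjNormal
  have hρ : ∀ h : ↥H, ρ (h : G) = MulAut.conj h := fun h => MulAut.conjNormal_val
  by_cases hIM : (MulAut.conj : ↥H →* MulAut ↥H).range ≤ M
  · exact hIM
  · have hsup : (MulAut.conj : ↥H →* MulAut ↥H).range ⊔ M = ⊤ := by
      by_contra hne
      have h1 : M < (MulAut.conj : ↥H →* MulAut ↥H).range ⊔ M := by
        refine lt_of_le_of_ne le_sup_right ?_
        intro heq
        apply hIM
        rw [heq]
        exact le_sup_left
      exact hne (hM.2 _ h1)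
    -- the range of conj is normal
    haveI hnorm : ((MulAut.conj : ↥H →* MulAut ↥H).range).Normal := by
      constructor
      intro x hx g
      obtain ⟨h, rfl⟩ := hx
      refine ⟨g h, ?_⟩
      ext y
      simp [MulAut.conj_apply, map_mul, map_inv]
    have hK : M.comap ρ = ⊤ := by
      apply frattini_nongenerating
      rw [eq_top_iff]
      intro g _
      have hg : ρ g ∈ (MulAut.conj : ↥H →* MulAut ↥H).range ⊔ M := by
        rw [hsup]; trivial
      rw [← SetLike.mem_coe, Subgroup.normal_mul] at hg
      obtain ⟨x, hx, m, hm, hxm⟩ := hg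
      obtain ⟨h, rfl⟩ := hx
      have hm' : ρ ((h : G)⁻¹ * g) ∈ M := by
        have : ρ ((h : G)⁻¹ * g) = m := by
          rw [map_mul, map_inv, hρ, ← hxm]
          simp
        rw [this]; exact hm
      have hgk : g = ((h : G)⁻¹ * g) * (g⁻¹ * (h : G) * g) := by group
      rw [hgk]
      apply Subgroup.mul_mem
      · exact Subgroup.mem_sup_left (Subgroup.mem_comap.mpr hm')
      · apply Subgroup.mem_sup_right
        apply hH
        have := (inferInstance : H.Normal).conj_mem (h : G) h.2 g⁻¹
        simpa using this
    rintro x ⟨h, rfl⟩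
    have : (h : G) ∈ M.comap ρ := by rw [hK]; trivial
    rw [Subgroup.mem_comap, hρ] at this
    exact this

end Cfsg.Agent.S0576
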