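import Cfsg.Statements.S0577
import Cfsg.Agent.S0536
import Cfsg.Agent.S0029
import Cfsg.Agent.S0012
import Cfsg.Agent.Lib.helper2.Schmidt

set_option autoImplicit false
open Cfsg

namespace Cfsg.Agent.S0577

open Cfsg.Agent.Lib.helper2
open scoped commutatorElement

/-- Elements of a `p`-subgroup of a group with a cyclic Sylow `p`-subgroup commute. -/
theorem commute_of_cyclic_sylow {G : Type*} [Group G] [Finite G] {p : ℕ} [Fact p.Prime]
    (P : Sylow p G) (hP : IsCyclic P) (A : Subgroup G) (hA : IsPGroup p A) :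
    ∀ x ∈ A, ∀ y ∈ A, x * y = y * x := by
  obtain ⟨P₁, hP₁⟩ := hA.exists_le_sylow
  haveI : IsCyclic P₁ := (Sylow.equiv P P₁).isCyclic.mp hP
  letI : CommGroup P₁ := IsCyclic.commGroup
  intro x hx y hy
  have h := mul_comm (⟨x, hP₁ hx⟩ : P₁) ⟨y, hP₁ hy⟩
  exact congrArg Subtype.val h

/-- Let G be a finite minimal non-nilpotent group and Q a normal Sylow q-subgroup of G, and let D be the commutator subgroup of Q regarded in G (a normal subgroup). Then G modulo D is non-abelian and all its proper subgroups are abelian. -/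
theorem result {G : Type*} [Group G] [Finite G] (hG : Cfsg.IsMinimalNonNilpotent G) (q : ℕ) [Fact q.Prime] (hq : q ∣ Nat.card G) (Q : Sylow q G) (hQ : (Q : Subgroup G).Normal) (D : Subgroup G) [D.Normal] (hD : D = (commutator ↥(Q : Subgroup G)).map (Q : Subgroup G).subtype) : ¬ IsMulCommutative (G ⧸ D) ∧ ∀ K : Subgroup (G ⧸ D), K ≠ ⊤ → IsMulCommutative K := by
  obtain ⟨p, q₀, hp, hq₀, hpq₀, P, Q₀, hPc, hQ₀n, hPQ₀, hPn, hcard⟩ :=
    Cfsg.Agent.S0536.structure_aux hG
  haveI : Fact p.Prime := ⟨hp⟩
  haveI : Fact q₀.Prime := ⟨hq₀⟩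
  -- q ≠ p
  have hqp : q ≠ p := by
    rintro rfl
    haveI : Unique (Sylow q G) := Sylow.unique_of_normal Q hQ
    apply hPn
    rw [Subsingleton.elim P Q]
    exact hQ
  -- q = q₀
  have hqq₀ : q = q₀ := by
    obtain ⟨a, ha⟩ := P.2.exists_card_eq
    obtain ⟨b, hb⟩ := Q₀.2.exists_card_eq
    rw [hcard, ha, hb] at hq
    have hqprime : q.Prime := Fact.out
    rcases (Nat.Prime.dvd_mul hqprime).mp hq with h | h
    · exact absurd ((Nat.prime_dvd_prime_iff_eq hqprime hp).mp (hqprime.dvd_of_dvd_pow h)) hqp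
    · exact (Nat.prime_dvd_prime_iff_eq hqprime hq₀).mp (hqprime.dvd_of_dvd_pow h)
  subst hqq₀
  have hQQ₀ : Q₀ = Q := by
    haveI : Unique (Sylow q G) := Sylow.unique_of_normal Q hQ
    exact Subsingleton.elim _ _
  subst hQQ₀
  have hpq : p ≠ q := hpq₀
  have hDQ : D ≤ (Q₀ : Subgroup G) := by
    rw [hD]
    exact Subgroup.map_subtype_le _
  -- commutators of elements of Q lie in D
  have hQD : ∀ x ∈ (Q₀ : Subgroup G), ∀ y ∈ (Q₀ : Subgroup G), x * y * x⁻¹ * y⁻¹ ∈ D := by
    intro x hx y hy
    rw [hD]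
    refine ⟨⁅(⟨x, hx⟩ : (Q₀ : Subgroup G)), ⟨y, hy⟩⁆, ?_, ?_⟩
    · exact Subgroup.commutator_mem_commutator (Subgroup.mem_top _) (Subgroup.mem_top _)
    · rw [commutatorElement_def]
      rfl
  have hmk_comm : ∀ x y : G, x * y * x⁻¹ * y⁻¹ ∈ D →
      (QuotientGroup.mk' D) x * (QuotientGroup.mk' D) y =
        (QuotientGroup.mk' D) y * (QuotientGroup.mk' D) x := by
    intro x y h
    have h1 : (QuotientGroup.mk' D) (x * y * x⁻¹ * y⁻¹) = 1 := by
      rw [← MonoidHom.mem_ker, QuotientGroup.ker_mk']
      exact h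
    rw [map_mul, map_mul, map_mul, map_inv, map_inv] at h1
    have h2 := congrArg (fun t => t * (QuotientGroup.mk' D) y * (QuotientGroup.mk' D) x) h1
    simpa [mul_assoc] using h2
  constructor
  · -- G ⧸ D is not abelian
    intro hcomm
    apply hPn
    have hcomD : ∀ x y : G, x * y * x⁻¹ * y⁻¹ ∈ D := by
      intro x y
      rw [← QuotientGroup.ker_mk' D, MonoidHom.mem_ker]
      rw [map_mul, map_mul, map_mul, map_inv, map_inv]
      have h1 := hcomm.is_comm.comm ((QuotientGroup.mk' D) x) ((QuotientGroup.mk' D) y)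
      rw [h1]
      simp
    have hAK : (P : Subgroup G) ≤ Subgroup.normalizer ((Q₀ : Subgroup G) : Set G) := by
      rw [Subgroup.normalizer_eq_top_iff.mpr hQ]
      exact le_top
    have hcop : (Nat.card (P : Subgroup G)).Coprime (Nat.card (frattini (Q₀ : Subgroup G))) := by
      obtain ⟨a, ha⟩ := P.2.exists_card_eq
      obtain ⟨b, hb⟩ := Q₀.2.exists_card_eq
      have h1 : Nat.card (frattini (Q₀ : Subgroup G)) ∣ q ^ b := by
        rw [← hb]
        exact Subgroup.card_subgroup_dvd_card _
      rw [ha]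
      exact Nat.Coprime.coprime_dvd_right h1
        (Nat.Coprime.pow a b ((Nat.coprime_primes hp hq₀).mpr hpq))
    have hfr : commutator (Q₀ : Subgroup G) ≤ frattini (Q₀ : Subgroup G) :=
      (Cfsg.Agent.S0012.result q Q₀.2).1
    have htriv : ∀ a ∈ (P : Subgroup G), ∀ k ∈ (Q₀ : Subgroup G),
        a * k * a⁻¹ * k⁻¹ ∈ (frattini (Q₀ : Subgroup G)).map (Q₀ : Subgroup G).subtype := by
      intro a _ k _
      have h1 := hcomD a k
      rw [hD] at h1
      exact Subgroup.map_mono hfr h1
    have hcent := Cfsg.Agent.S0029.result (P : Subgroup G) (Q₀ : Subgroup G) hAK hcop htriv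
    rw [← Subgroup.normalizer_eq_top_iff, eq_top_iff, ← hPQ₀]
    refine sup_le Subgroup.le_normalizer ?_
    refine le_trans ?_ (Subgroup.centralizer_le_normalizer (s := ((P : Subgroup G) : Set G)))
    intro y hy
    rw [Subgroup.mem_centralizer_iff]
    intro x hx
    have h2 := Subgroup.mem_centralizer_iff.mp (hcent hx) y hy
    exact h2.symm
  · intro Kb hKb
    set π := QuotientGroup.mk' D with hπ
    have hπs : Function.Surjective π := QuotientGroup.mk'_surjective D
    set K : Subgroup G := Kb.comap π with hK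
    have hKtop : K ≠ ⊤ := by
      intro h
      apply hKb
      rw [← Subgroup.map_comap_eq_self_of_surjective hπs Kb, ← hK, h]
      exact Subgroup.map_top_of_surjective _ hπs
    have hKnil : Group.IsNilpotent K := hG.2 K hKtop
    obtain ⟨S⟩ : Nonempty (Sylow p K) := inferInstance
    set Kp : Subgroup G := (S : Subgroup K).map K.subtype with hKp
    set Kq : Subgroup G := K ⊓ (Q₀ : Subgroup G) with hKq
    have hKpK : Kp ≤ K := Subgroup.map_subtype_le _
    have hKqK : Kq ≤ K := inf_le_left
    have hKpp : IsPGroup p Kp := S.2.map K.subtype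
    have hKqq : IsPGroup q Kq := Q₀.2.to_le inf_le_right
    -- K = Kp ⊔ Kq
    have hsup : K ≤ Kp ⊔ Kq := by
      rw [← Subgroup.relIndex_eq_one]
      have h1 : (Kp ⊔ Kq).relIndex K ∣ Kq.relIndex K :=
        Subgroup.relIndex_dvd_of_le_left K le_sup_right
      have h2 : Kq.relIndex K = (Q₀ : Subgroup G).relIndex K := by
        rw [hKq, inf_comm]
        exact Subgroup.inf_relIndex_right _ _
      have h3 : (Q₀ : Subgroup G).relIndex K ∣ (Q₀ : Subgroup G).index :=
        Subgroup.relIndex_dvd_index_of_normal _ _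
      have h4 : (Q₀ : Subgroup G).index = Nat.card (P : Subgroup G) := by
        have h5 := Subgroup.card_mul_index (Q₀ : Subgroup G)
        rw [hcard, mul_comm (Nat.card (P : Subgroup G))] at h5
        exact Nat.eq_of_mul_eq_mul_left Nat.card_pos h5
      obtain ⟨a, ha⟩ := P.2.exists_card_eq
      have h6 : (Kp ⊔ Kq).relIndex K ∣ p ^ a := by
        rw [← ha, ← h4]
        exact h1.trans (h2 ▸ h3)
      obtain ⟨j, -, hj⟩ := (Nat.dvd_prime_pow hp).mp h6
      have h7 : (Kp ⊔ Kq).relIndex K ∣ Kp.relIndex K :=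
        Subgroup.relIndex_dvd_of_le_left K le_sup_left
      have h8 : Kp.relIndex K = (S : Subgroup K).index := by
        rw [Subgroup.relIndex, hKp]
        congr 1
        exact Subgroup.comap_map_eq_self_of_injective K.subtype_injective _
      rw [h8, hj] at h7
      rcases Nat.eq_zero_or_pos j with h0 | hpos
      · rw [hj, h0, pow_zero]
      · exfalso
        exact S.not_dvd_index ((dvd_pow_self p hpos.ne').trans h7)
    -- pairwise commutation modulo D
    have hpp : ∀ x ∈ Kp, ∀ y ∈ Kp, π x * π y = π y * π x := by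
      intro x hx y hy
      have := commute_of_cyclic_sylow P hPc Kp hKpp x hx y hy
      rw [← map_mul, ← map_mul, this]
    have hpq' : ∀ x ∈ Kp, ∀ y ∈ Kq, π x * π y = π y * π x := by
      intro x hx y hy
      have := commute_of_le_isNilpotent K hKnil hpq Kp Kq hKpK hKqK hKpp hKqq x hx y hy
      rw [← map_mul, ← map_mul, this]
    have hqq : ∀ x ∈ Kq, ∀ y ∈ Kq, π x * π y = π y * π x := by
      intro x hx y hy
      exact hmk_comm x y (hQD x hx.2 y hy.2)
    -- step A
    have stepA : ∀ x : G, (x ∈ Kp ∨ x ∈ Kq) → ∀ y ∈ K, π x * π y = π y * π x := by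
      intro x hx y hy
      have hle : Kp ⊔ Kq ≤ (Subgroup.centralizer {π x}).comap π := by
        refine sup_le ?_ ?_
        · intro z hz
          rw [Subgroup.mem_comap, Subgroup.mem_centralizer_iff]
          intro h hh
          rw [Set.mem_singleton_iff] at hh
          rw [hh]
          rcases hx with hx | hx
          · exact hpp x hx z hz
          · exact (hpq' z hz x hx).symm
        · intro z hz
          rw [Subgroup.mem_comap, Subgroup.mem_centralizer_iff]
          intro h hh
          rw [Set.mem_singleton_iff] at hh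
          rw [hh]
          rcases hx with hx | hx
          · exact hpq' x hx z hz
          · exact hqq x hx z hz
      have h1 := hle (hsup hy)
      rw [Subgroup.mem_comap, Subgroup.mem_centralizer_iff] at h1
      exact h1 (π x) (Set.mem_singleton _)
    have stepB : ∀ x ∈ K, ∀ y ∈ K, π x * π y = π y * π x := by
      intro x hx y hy
      have hle : Kp ⊔ Kq ≤ (Subgroup.centralizer {π y}).comap π := by
        refine sup_le ?_ ?_
        · intro z hz
          rw [Subgroup.mem_comap, Subgroup.mem_centralizer_iff]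
          intro h hh
          rw [Set.mem_singleton_iff] at hh
          rw [hh]
          exact (stepA z (Or.inl hz) y hy).symm
        · intro z hz
          rw [Subgroup.mem_comap, Subgroup.mem_centralizer_iff]
          intro h hh
          rw [Set.mem_singleton_iff] at hh
          rw [hh]
          exact (stepA z (Or.inr hz) y hy).symm
      have h1 := hle (hsup hx)
      rw [Subgroup.mem_comap, Subgroup.mem_centralizer_iff] at h1
      exact (h1 (π y) (Set.mem_singleton _)).symm
    refine ⟨⟨fun a b => ?_⟩⟩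
    obtain ⟨a', ha'⟩ := hπs (a : G ⧸ D)
    obtain ⟨b', hb'⟩ := hπs (b : G ⧸ D)
    have haK : a' ∈ K := by rw [hK, Subgroup.mem_comap, ha']; exact a.2
    have hbK : b' ∈ K := by rw [hK, Subgroup.mem_comap, hb']; exact b.2
    have h1 := stepB a' haK b' hbK
    rw [ha', hb'] at h1
    exact Subtype.ext h1

end Cfsg.Agent.S0577
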