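import Cfsg.Statements.S0578
import Mathlib
import Cfsg.Agent.Lib.helper13.Basic

set_option autoImplicit false
open Cfsg

namespace Cfsg.Agent.S0578

open Cfsg.Agent.Lib.helper13

/-- The hypothesis passes to subgroups. -/
theorem inherit {G : Type*} [Group G]
    (h : ∀ A : Subgroup G, IsMulCommutative A →
      Subgroup.normalizer (A : Set G) = Subgroup.centralizer (A : Set G)) (H : Subgroup G) :
    ∀ B : Subgroup H, IsMulCommutative B →
      Subgroup.normalizer (B : Set H) = Subgroup.centralizer (B : Set H) := by
  intro B hB
  have hB' : IsMulCommutative (B.map H.subtype) := by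
    apply isMulCommutative_of_forall_comm
    rintro _ ⟨x, hx, rfl⟩ _ ⟨y, hy, rfl⟩
    have := comm_of_mem_of_isMulCommutative B hx hy
    exact congrArg Subtype.val this
  have h1 := h _ hB'
  have hle : B.map H.subtype ≤ H := Subgroup.map_subtype_le _
  have h2 := Subgroup.subgroupOf_normalizer_eq hle
  have h3 : (B.map H.subtype).subgroupOf H = B :=
    Subgroup.comap_map_eq_self_of_injective H.subtype_injective B
  rw [h3] at h2
  rw [← h2, h1]
  ext x
  rw [Subgroup.mem_subgroupOf, Subgroup.mem_centralizer_iff, Subgroup.mem_centralizer_iff]
  constructor
  · intro hx b hb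
    apply Subtype.ext
    exact hx b ⟨b, hb, rfl⟩
  · rintro hx _ ⟨b, hb, rfl⟩
    exact congrArg Subtype.val (hx b hb)

/-- A group generated by a central subgroup and an abelian subgroup is abelian. -/
theorem comm_of_central_sup {G : Type*} [Group G] (Z P : Subgroup G)
    (hZ : Z ≤ Subgroup.center G) (hP : IsMulCommutative P) (hsup : Z ⊔ P = ⊤) :
    IsMulCommutative G := by
  have hPc : P ≤ Subgroup.centralizer (P : Set G) := Subgroup.le_centralizer P
  have hZc : Z ≤ Subgroup.centralizer (P : Set G) := hZ.trans (Subgroup.center_le_centralizer _)
  have h1 : (⊤ : Subgroup G) ≤ Subgroup.centralizer (P : Set G) := by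
    rw [← hsup]; exact sup_le hZc hPc
  have h2 : P ≤ Subgroup.center G := by
    intro x hx
    rw [Subgroup.mem_center_iff]
    intro g
    have := h1 (Subgroup.mem_top g)
    rw [Subgroup.mem_centralizer_iff] at this
    exact (this x hx).symm
  have h3 : (⊤ : Subgroup G) ≤ Subgroup.center G := by
    rw [← hsup]; exact sup_le hZ h2
  constructor
  constructor
  intro a b
  have := h3 (Subgroup.mem_top b)
  rw [Subgroup.mem_center_iff] at this
  exact this a

universe u

theorem aux : ∀ (n : ℕ) (G : Type u) [Group G] [Finite G], Nat.card G = n →
    (∀ A : Subgroup G, IsMulCommutative A →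
      Subgroup.normalizer (A : Set G) = Subgroup.centralizer (A : Set G)) →
    IsMulCommutative G := by
  intro n
  induction n using Nat.strong_induction_on with
  | _ n ih =>
    intro G _ _ hn h
    classical
    -- proper subgroups are abelian
    have hprop : ∀ H : Subgroup G, H ≠ ⊤ → IsMulCommutative H := by
      intro H hH
      have hlt : Nat.card H < n := by
        rw [← hn]
        by_contra hge
        exact hH (Subgroup.eq_top_of_le_card H (not_lt.mp hge))
      exact ih _ hlt ↥H rfl (inherit h H)
    -- normal abelian subgroups are central
    have hcentral : ∀ N : Subgroup G, N.Normal → IsMulCommutative N → N ≤ Subgroup.center G := by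
      intro N hN hNc x hx
      have h1 := h N hNc
      rw [Subgroup.normalizer_eq_top_iff.mpr hN] at h1
      rw [Subgroup.mem_center_iff]
      intro g
      have : g ∈ Subgroup.centralizer (N : Set G) := by rw [← h1]; trivial
      rw [Subgroup.mem_centralizer_iff] at this
      exact (this x hx).symm
    by_cases htriv : Subsingleton G
    · exact ⟨⟨fun a b => Subsingleton.elim _ _⟩⟩
    · rw [not_subsingleton_iff_nontrivial] at htriv
      have hcard : 1 < Nat.card G := Finite.one_lt_card
      obtain ⟨p, hp, hpdvd⟩ := Nat.exists_prime_and_dvd (ne_of_gt hcard)
      have : Fact p.Prime := ⟨hp⟩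
      obtain ⟨P⟩ : Nonempty (Sylow p G) := Sylow.nonempty
      by_cases hPtop : (P : Subgroup G) = ⊤
      · -- G is a p-group
        have hGp : IsPGroup p G := by
          have := P.isPGroup'
          rw [hPtop] at this
          exact this.of_equiv Subgroup.topEquiv
        have : Group.IsNilpotent G := hGp.isNilpotent
        obtain ⟨M, hM⟩ : ∃ M : Subgroup G, IsCoatom M := by
          have := (eq_top_or_exists_le_coatom (⊥ : Subgroup G)).resolve_left bot_ne_top
          obtain ⟨M, hM, _⟩ := this
          exact ⟨M, hM⟩
        have hMn : M.Normal := Subgroup.NormalizerCondition.normal_of_coatom M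
          Group.normalizerCondition_of_isNilpotent hM
        have hMc : IsMulCommutative M := hprop M hM.1
        have hMZ := hcentral M hMn hMc
        obtain ⟨x, hx⟩ : ∃ x : G, x ∉ M := by
          by_contra hcon
          push Not at hcon
          exact hM.1 (eq_top_iff.mpr fun g _ => hcon g)
        have hsup : M ⊔ Subgroup.zpowers x = ⊤ := by
          apply hM.2
          refine lt_of_le_of_ne le_sup_left ?_
          intro heq
          apply hx
          rw [heq]
          exact Subgroup.mem_sup_right (Subgroup.mem_zpowers x)
        have hzc : IsMulCommutative (Subgroup.zpowers x) := by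
          apply isMulCommutative_of_forall_comm
          intro a ha b hb
          obtain ⟨i, rfl⟩ := Subgroup.mem_zpowers_iff.mp ha
          obtain ⟨j, rfl⟩ := Subgroup.mem_zpowers_iff.mp hb
          rw [← zpow_add, ← zpow_add, add_comm]
        exact comm_of_central_sup M (Subgroup.zpowers x) hMZ hzc hsup
      · -- P proper, hence abelian; Burnside transfer
        have hPc : IsMulCommutative (P : Subgroup G) := hprop _ hPtop
        have hNC : Subgroup.normalizer ((P : Subgroup G) : Set G)
            ≤ Subgroup.centralizer ((P : Subgroup G) : Set G) := (h _ hPc).le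
        have hcompl := MonoidHom.ker_transferSylow_isComplement' P hNC
        set N := (MonoidHom.transferSylow P hNC).ker with hN
        have hNn : N.Normal := inferInstance
        have hNtop : N ≠ ⊤ := by
          intro htop
          have h1 := hcompl.card_mul_card
          rw [htop, Subgroup.card_top] at h1
          have hPcard : Nat.card (P : Subgroup G) = 1 := by
            have hpos : 0 < Nat.card G := Nat.card_pos
            nlinarith
          have hdvd : p ∣ Nat.card (P : Subgroup G) := by
            rw [P.card_eq_multiplicity]
            exact dvd_pow_self p (hp.factorization_pos_of_dvd (by positivity) hpdvd).ne'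
          rw [hPcard] at hdvd
          exact hp.one_lt.ne' (Nat.dvd_one.mp hdvd)
        have hNc : IsMulCommutative N := hprop N hNtop
        have hNZ := hcentral N hNn hNc
        exact comm_of_central_sup N (P : Subgroup G) hNZ hPc hcompl.sup_eq_top

/-- If in a finite group the normalizer of each abelian subgroup coincides with its centralizer, then the group is abelian. -/
theorem result {G : Type*} [Group G] [Finite G] (h : ∀ A : Subgroup G, IsMulCommutative A → Subgroup.normalizer (A : Set G) = Subgroup.centralizer (A : Set G)) : IsMulCommutative G := by
  exact aux (Nat.card G) G rfl h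

end Cfsg.Agent.S0578
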