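import Cfsg.Statements.S0584
import Cfsg.Agent.S0070

set_option autoImplicit false
open Cfsg

namespace Cfsg.Agent.S0584

/-- Let B ≤ A be normal subgroups of a finite group G with B contained in the Frattini subgroup of G. If A modulo B is nilpotent then A is nilpotent. -/
theorem result {G : Type*} [Group G] [Finite G] (A B : Subgroup G) [A.Normal] [B.Normal] (hBA : B ≤ A) (hB : B ≤ frattini G) (h : Group.IsNilpotent (↥A ⧸ B.subgroupOf A)) : Group.IsNilpotent A := by
  apply Cfsg.Agent.S0070.isNilpotent_of_map_mk_isNilpotent A B hBA hB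
  have hker : ∀ x ∈ B.subgroupOf A, ((QuotientGroup.mk' B).subgroupMap A) x = 1 := by
    intro x hx
    apply Subtype.ext
    change (QuotientGroup.mk' B) (x : G) = 1
    rw [← MonoidHom.mem_ker, QuotientGroup.ker_mk']
    exact hx
  let φ : (↥A ⧸ B.subgroupOf A) →* A.map (QuotientGroup.mk' B) :=
    QuotientGroup.lift (B.subgroupOf A) ((QuotientGroup.mk' B).subgroupMap A) hker
  have hφ : Function.Surjective φ := by
    intro y
    obtain ⟨x, hx⟩ := MonoidHom.subgroupMap_surjective (QuotientGroup.mk' B) A y
    exact ⟨QuotientGroup.mk x, by rw [← hx]; rfl⟩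
  exact Group.nilpotent_of_surjective φ hφ

end Cfsg.Agent.S0584
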