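import Cfsg.Statements.S0585
import Mathlib
import Cfsg.Agent.Lib.helper13.Basic

set_option autoImplicit false
open Cfsg

namespace Cfsg.Agent.S0585

open Cfsg.Agent.Lib.helper13

/-- If the Frattini subgroup of a finite group G is trivial, then every abelian normal subgroup of G has a complement in G. -/
theorem result {G : Type*} [Group G] [Finite G] (hΦ : frattini G = ⊥) (A : Subgroup G) [A.Normal] [IsMulCommutative A] : ∃ H : Subgroup G, Subgroup.IsComplement' A H := by
  classical
  obtain ⟨H, hH, hHmin⟩ := exists_minimal_of_wellFoundedLT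
    (fun H : Subgroup G => A ⊔ H = ⊤) ⟨⊤, sup_top_eq A⟩
  have hH' : ∀ g : G, ∃ a ∈ A, ∃ h ∈ H, g = a * h := by
    intro g
    have hg : g ∈ A ⊔ H := by rw [hH]; trivial
    rw [← SetLike.mem_coe, Subgroup.normal_mul] at hg
    obtain ⟨a, ha, h, hh, rfl⟩ := hg
    exact ⟨a, ha, h, hh, rfl⟩
  refine ⟨H, Subgroup.isComplement'_of_disjoint_and_mul_eq_univ ?_ ?_⟩
  · rw [disjoint_iff]
    by_contra hD
    have hDn : (A ⊓ H).Normal := by
      constructor
      intro d hd g
      obtain ⟨hdA, hdH⟩ := Subgroup.mem_inf.mp hd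
      obtain ⟨a, ha, h, hh, rfl⟩ := hH' g
      have h1 : h * d * h⁻¹ ∈ A := (inferInstance : A.Normal).conj_mem d hdA h
      have h2 : h * d * h⁻¹ ∈ H := H.mul_mem (H.mul_mem hh hdH) (H.inv_mem hh)
      have e : a * h * d * (a * h)⁻¹ = h * d * h⁻¹ := by
        have c := comm_of_mem_of_isMulCommutative A ha h1
        calc a * h * d * (a * h)⁻¹ = (a * (h * d * h⁻¹)) * a⁻¹ := by group
          _ = ((h * d * h⁻¹) * a) * a⁻¹ := by rw [c]
          _ = h * d * h⁻¹ := by group
      rw [e]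
      exact Subgroup.mem_inf.mpr ⟨h1, h2⟩
    -- pick d ∈ A ⊓ H, d ≠ 1
    obtain ⟨d, hd, hd1⟩ : ∃ d : G, d ∈ A ⊓ H ∧ d ≠ 1 := by
      by_contra hcon
      apply hD
      rw [eq_bot_iff]
      intro z hz
      by_contra hz1
      exact hcon ⟨z, hz, hz1⟩
    have hdΦ : d ∉ frattini G := by
      rw [hΦ, Subgroup.mem_bot]; exact hd1
    obtain ⟨M, hMco, hdM⟩ : ∃ M : Subgroup G, IsCoatom M ∧ d ∉ M := by
      by_contra hcon
      push Not at hcon
      apply hdΦ
      rw [frattini, Order.radical]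
      simp only [Subgroup.mem_iInf]
      intro M hM
      exact hcon M hM
    have hsup : (A ⊓ H) ⊔ M = ⊤ := by
      by_contra hne
      have h1 : M < (A ⊓ H) ⊔ M := by
        refine lt_of_le_of_ne le_sup_right ?_
        intro heq
        apply hdM
        rw [heq]
        exact Subgroup.mem_sup_left hd
      exact hne (hMco.2 _ h1)
    have hP : A ⊔ (H ⊓ M) = ⊤ := by
      rw [eq_top_iff]
      intro g _
      obtain ⟨a, ha, h, hh, rfl⟩ := hH' g
      have hg : h ∈ (A ⊓ H) ⊔ M := by rw [hsup]; trivial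
      rw [← SetLike.mem_coe, Subgroup.normal_mul] at hg
      obtain ⟨x, hx, m, hm, rfl⟩ := hg
      obtain ⟨hxA, hxH⟩ := Subgroup.mem_inf.mp hx
      have hmH : m ∈ H := by
        have : m = x⁻¹ * (x * m) := by group
        rw [this]
        exact H.mul_mem (H.inv_mem hxH) hh
      have e : a * (x * m) = (a * x) * m := by group
      rw [e]
      exact Subgroup.mul_mem _ (Subgroup.mem_sup_left (A.mul_mem ha hxA))
        (Subgroup.mem_sup_right (Subgroup.mem_inf.mpr ⟨hmH, hm⟩))
    have hle : H ≤ H ⊓ M := hHmin hP inf_le_left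
    exact hdM ((hle (Subgroup.mem_inf.mp hd).2).2)
  · rw [← Subgroup.normal_mul, hH]; rfl

end Cfsg.Agent.S0585
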