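import Cfsg.Statements.S0586
import Mathlib
import Cfsg.Agent.S0583
import Cfsg.Agent.S0585
import Cfsg.Agent.Lib.helper13.Basic

set_option autoImplicit false
open Cfsg

namespace Cfsg.Agent.S0586

open Cfsg.Agent.Lib.helper13

/-- If the Frattini subgroup of a finite group G is trivial, then the Fitting subgroup of G equals the join of all abelian minimal normal subgroups of G. -/
theorem result {G : Type*} [Group G] [Finite G] (hΦ : frattini G = ⊥) : Cfsg.fittingSubgroup G = sSup {N : Subgroup G | N.Normal ∧ N ≠ ⊥ ∧ IsMulCommutative N ∧ ∀ K : Subgroup G, K.Normal → K ≤ N → K = ⊥ ∨ K = N} := by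
  classical
  set 𝒮 : Set (Subgroup G) := {N : Subgroup G | N.Normal ∧ N ≠ ⊥ ∧ IsMulCommutative N ∧
    ∀ K : Subgroup G, K.Normal → K ≤ N → K = ⊥ ∨ K = N} with h𝒮
  set S : Subgroup G := sSup 𝒮 with hS
  apply le_antisymm
  · -- every normal nilpotent subgroup lies in S
    unfold Cfsg.fittingSubgroup
    apply sSup_le
    rintro N ⟨hNn, hNnil⟩
    have hSn : S.Normal := sSup_normal 𝒮 (fun N hN => hN.1)
    -- N centralizes S
    have hNS : N ≤ Subgroup.centralizer (S : Set G) := by
      rw [Subgroup.le_centralizer_iff]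
      apply sSup_le
      rintro M ⟨hMn, hM0, hMc, hMmin⟩
      rw [Subgroup.le_centralizer_iff]
      have := hMn
      exact Cfsg.Agent.S0583.nilpotent_normal_le_centralizer M hM0 hMmin N hNn hNnil
    -- S is abelian
    have hSS : S ≤ Subgroup.centralizer (S : Set G) := by
      apply sSup_le
      rintro M₁ ⟨hM₁n, hM₁0, hM₁c, hM₁min⟩
      rw [Subgroup.le_centralizer_iff]
      apply sSup_le
      rintro M₂ ⟨hM₂n, hM₂0, hM₂c, hM₂min⟩
      rw [Subgroup.le_centralizer_iff]
      have := hM₂n
      have := hM₁c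
      exact Cfsg.Agent.S0583.nilpotent_normal_le_centralizer M₂ hM₂0 hM₂min M₁ hM₁n
        (isNilpotent_of_isMulCommutative M₁)
    have hScomm : IsMulCommutative S := Subgroup.le_centralizer_iff_isMulCommutative.mp hSS
    have := hSn
    obtain ⟨H, hH⟩ := Cfsg.Agent.S0585.result hΦ S
    have hdisj : S ⊓ H = ⊥ := disjoint_iff.mp hH.disjoint
    have hSH : ∀ g : G, ∃ s ∈ S, ∃ h ∈ H, g = s * h := by
      intro g
      have hg : g ∈ S ⊔ H := by rw [hH.sup_eq_top]; trivial
      rw [← SetLike.mem_coe, Subgroup.normal_mul] at hg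
      obtain ⟨a, ha, h, hh, rfl⟩ := hg
      exact ⟨a, ha, h, hh, rfl⟩
    have hTn : (S ⊔ N).Normal := by
      have := hNn
      infer_instance
    have hTS : S ⊔ N ≤ Subgroup.centralizer (S : Set G) := sup_le hSS hNS
    set R : Subgroup G := (S ⊔ N) ⊓ H with hR
    have hRn : R.Normal := by
      constructor
      intro r hr g
      obtain ⟨hrT, hrH⟩ := Subgroup.mem_inf.mp hr
      obtain ⟨s, hs, h, hh, rfl⟩ := hSH g
      have h1 : h * r * h⁻¹ ∈ S ⊔ N := hTn.conj_mem r hrT h
      have h2 : h * r * h⁻¹ ∈ H := H.mul_mem (H.mul_mem hh hrH) (H.inv_mem hh)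
      have c := hTS h1
      rw [Subgroup.mem_centralizer_iff] at c
      have c' := c s hs
      have e : s * h * r * (s * h)⁻¹ = h * r * h⁻¹ := by
        calc s * h * r * (s * h)⁻¹ = (s * (h * r * h⁻¹)) * s⁻¹ := by group
          _ = ((h * r * h⁻¹) * s) * s⁻¹ := by rw [c']
          _ = h * r * h⁻¹ := by group
      rw [e]
      exact Subgroup.mem_inf.mpr ⟨h1, h2⟩
    have hR0 : R = ⊥ := by
      by_contra hRne
      obtain ⟨M, hMn, hM0, hMR, hMmin⟩ := exists_minimal_normal_le R hRn hRne
      have := hMn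
      -- S ⊔ N centralizes M
      have h1 : N ≤ Subgroup.centralizer (M : Set G) :=
        Cfsg.Agent.S0583.nilpotent_normal_le_centralizer M hM0 hMmin N hNn hNnil
      have h2 : S ≤ Subgroup.centralizer (M : Set G) :=
        Cfsg.Agent.S0583.nilpotent_normal_le_centralizer M hM0 hMmin S hSn
          (isNilpotent_of_isMulCommutative S)
      have h3 : M ≤ Subgroup.centralizer (M : Set G) :=
        (hMR.trans inf_le_left).trans (sup_le h2 h1)
      have hMc : IsMulCommutative M := Subgroup.le_centralizer_iff_isMulCommutative.mp h3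
      have hMS : M ≤ S := le_sSup ⟨hMn, hM0, hMc, hMmin⟩
      have hMH : M ≤ H := hMR.trans inf_le_right
      have : M ≤ S ⊓ H := le_inf hMS hMH
      rw [hdisj, le_bot_iff] at this
      exact hM0 this
    intro x hx
    obtain ⟨s, hs, h, hh, rfl⟩ := hSH x
    have hhT : h ∈ S ⊔ N := by
      have : h = s⁻¹ * (s * h) := by group
      rw [this]
      exact Subgroup.mul_mem _ (Subgroup.mem_sup_left (S.inv_mem hs))
        (Subgroup.mem_sup_right hx)
    have hhR : h ∈ R := Subgroup.mem_inf.mpr ⟨hhT, hh⟩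
    rw [hR0, Subgroup.mem_bot] at hhR
    rw [hhR, mul_one]
    exact hs
  · apply sSup_le
    rintro N ⟨hNn, hN0, hNc, hNmin⟩
    unfold Cfsg.fittingSubgroup
    have := hNc
    exact le_sSup ⟨hNn, isNilpotent_of_isMulCommutative N⟩

end Cfsg.Agent.S0586
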