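import Cfsg.Statements.S0587
import Mathlib
import Cfsg.Agent.Lib.helper13.Basic
import Cfsg.Agent.Lib.helper13.Thompson

set_option autoImplicit false
open Cfsg

namespace Cfsg.Agent.S0587

open Cfsg.Agent.Lib.helper13
open scoped Pointwise

theorem result {G : Type*} [Group G] [Finite G] (p : ℕ) [Fact p.Prime] (hL : Cfsg.pCore p G ≠ ⊥) (M : Subgroup G) (hM : IsCoatom M) (hcore : M.normalCore = ⊥) : Cfsg.IsElementaryAbelian p (Cfsg.pCore p G) ∧ Subgroup.IsComplement' (Cfsg.pCore p G) M ∧ (∀ K : Subgroup G, K.Normal → K ≤ Cfsg.pCore p G → K = ⊥ ∨ K = Cfsg.pCore p G) ∧ Subgroup.centralizer ((Cfsg.pCore p G : Subgroup G) : Set G) = Cfsg.pCore p G ∧ ∀ (q : ℕ) [Fact q.Prime], Cfsg.pCore q ↥M ≠ ⊥ → Nat.card (Cfsg.pCore p G) % q = 1 % q ∧ q ≠ p := by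
  have hp : p.Prime := Fact.out
  have hLn : (Cfsg.pCore p G).Normal := Subgroup.sSup_normal _ (fun _ h => h.1)
  have hLp : IsPGroup p (Cfsg.pCore p G) :=
    Sylow.sSup_of_normal _ (fun _ h => h.2) (fun _ h => h.1)
  have hLmax : ∀ K : Subgroup G, K.Normal → IsPGroup p K → K ≤ Cfsg.pCore p G :=
    fun K hK hKp => le_sSup ⟨hK, hKp⟩
  set L := Cfsg.pCore p G with hLdef
  set Z := L ⊓ Subgroup.centralizer (L : Set G) with hZ
  have hZn : Z.Normal := inferInstance
  have hZp : IsPGroup p Z := hLp.to_le inf_le_left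
  have hZne : Z ≠ ⊥ := by
    have hnt : Nontrivial L := (Subgroup.nontrivial_iff_ne_bot L).mpr hL
    have hc := hLp.center_nontrivial
    obtain ⟨z, hz⟩ := exists_ne (1 : Subgroup.center L)
    intro hZbot
    apply hz
    have h1 : ((z : L) : G) ∈ Z := by
      refine Subgroup.mem_inf.mpr ⟨(z : L).2, ?_⟩
      rw [Subgroup.mem_centralizer_iff]
      intro l hl
      have := (Subgroup.mem_center_iff.mp z.2) ⟨l, hl⟩
      exact congrArg Subtype.val this
    rw [hZbot, Subgroup.mem_bot] at h1
    apply Subtype.ext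
    apply Subtype.ext
    exact h1
  let E : Subgroup G :=
    { carrier := {x | x ∈ Z ∧ x ^ p = 1}
      one_mem' := ⟨Subgroup.one_mem _, one_pow p⟩
      mul_mem' := by
        rintro a b ⟨ha, hap⟩ ⟨hb, hbp⟩
        refine ⟨Subgroup.mul_mem _ ha hb, ?_⟩
        have hcomm : Commute a b :=
          (Subgroup.mem_centralizer_iff.mp (Subgroup.mem_inf.mp hb).2) a (Subgroup.mem_inf.mp ha).1
        rw [hcomm.mul_pow, hap, hbp, one_mul]
      inv_mem' := by
        rintro a ⟨ha, hap⟩
        exact ⟨Subgroup.inv_mem _ ha, by rw [inv_pow, hap, inv_one]⟩ }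
  have hEmem : ∀ x, x ∈ E ↔ x ∈ Z ∧ x ^ p = 1 := fun x => Iff.rfl
  have hEn : E.Normal := by
    constructor
    intro x hx g
    rw [hEmem] at hx ⊢
    refine ⟨hZn.conj_mem x hx.1 g, ?_⟩
    rw [conj_pow, hx.2]; group
  have hEne : E ≠ ⊥ := by
    have hnt : Nontrivial Z := (Subgroup.nontrivial_iff_ne_bot Z).mpr hZne
    obtain ⟨n, hn0, hn⟩ := (hZp.nontrivial_iff_card).mp hnt
    have hdvd : p ∣ Nat.card Z := by rw [hn]; exact dvd_pow_self p (by omega)
    obtain ⟨x, hx⟩ := exists_prime_orderOf_dvd_card' p hdvd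
    intro hE
    have h1 : (x : G) ∈ E := by
      rw [hEmem]
      refine ⟨x.2, ?_⟩
      have := pow_orderOf_eq_one x
      rw [hx] at this
      exact congrArg Subtype.val this
    rw [hE, Subgroup.mem_bot] at h1
    have h2 : x = 1 := Subtype.ext h1
    rw [h2, orderOf_one] at hx
    exact hp.one_lt.ne hx
  obtain ⟨N, hNn, hNne, hNE, hNmin⟩ := exists_minimal_normal_le E hEn hEne
  have hNZ : N ≤ Z := fun x hx => ((hEmem x).mp (hNE hx)).1
  have hNL : N ≤ L := hNZ.trans inf_le_left
  have hLcN : L ≤ Subgroup.centralizer (N : Set G) := by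
    rw [Subgroup.le_centralizer_iff]; exact hNZ.trans inf_le_right
  have hNC : N ≤ Subgroup.centralizer (N : Set G) := hNL.trans hLcN
  have hNab : ∀ a ∈ N, ∀ b ∈ N, a * b = b * a := by
    intro a ha b hb
    exact (Subgroup.mem_centralizer_iff.mp (hNC hb) a ha)
  have hNM : ¬ N ≤ M := by
    intro h
    apply hNne
    have h1 : N ≤ M.normalCore := Subgroup.normal_le_normalCore.mpr h
    rw [hcore] at h1
    exact eq_bot_iff.mpr h1
  have hsup : N ⊔ M = ⊤ := by
    apply hM.2
    apply lt_of_le_of_ne le_sup_right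
    intro h
    apply hNM
    rw [h]; exact le_sup_left
  have hnormal_of : ∀ D : Subgroup G, N ≤ Subgroup.normalizer (D : Set G) →
      M ≤ Subgroup.normalizer (D : Set G) → D.Normal := by
    intro D h1 h2
    rw [← Subgroup.normalizer_eq_top_iff]
    exact top_le_iff.mp (hsup ▸ sup_le h1 h2)
  have hcoreD : ∀ D : Subgroup G, D ≤ M → N ≤ Subgroup.normalizer (D : Set G) →
      M ≤ Subgroup.normalizer (D : Set G) → D = ⊥ := by
    intro D hDM h1 h2
    have hDn : D.Normal := hnormal_of D h1 h2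
    have h3 : D ≤ M.normalCore := Subgroup.normal_le_normalCore.mpr hDM
    rw [hcore] at h3
    exact eq_bot_iff.mpr h3
  have hinf : N ⊓ M = ⊥ := by
    apply hcoreD _ inf_le_right
    · rw [Subgroup.le_normalizer_iff]
      intro n hn x hx
      have h1 : n * x * n⁻¹ = x := by
        rw [hNab n hn x (Subgroup.mem_inf.mp hx).1]; group
      rw [h1]; exact hx
    · rw [Subgroup.le_normalizer_iff]
      intro m hm x hx
      exact Subgroup.mem_inf.mpr ⟨hNn.conj_mem x (Subgroup.mem_inf.mp hx).1 m,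
        M.mul_mem (M.mul_mem hm (Subgroup.mem_inf.mp hx).2) (M.inv_mem hm)⟩
  have hCn : (Subgroup.centralizer (N : Set G)).Normal := inferInstance
  have hCM : Subgroup.centralizer (N : Set G) ⊓ M = ⊥ := by
    apply hcoreD _ inf_le_right
    · rw [Subgroup.le_normalizer_iff]
      intro n hn c hc
      have h1 : n * c * n⁻¹ = c := by
        rw [(Subgroup.mem_centralizer_iff.mp (Subgroup.mem_inf.mp hc).1) n hn]; group
      rw [h1]; exact hc
    · rw [Subgroup.le_normalizer_iff]
      intro m hm c hc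
      exact Subgroup.mem_inf.mpr ⟨hCn.conj_mem c (Subgroup.mem_inf.mp hc).1 m,
        M.mul_mem (M.mul_mem hm (Subgroup.mem_inf.mp hc).2) (M.inv_mem hm)⟩
  have hCN : Subgroup.centralizer (N : Set G) = N := by
    apply le_antisymm _ hNC
    intro c hc
    have h1 : c ∈ N ⊔ M := by rw [hsup]; trivial
    rw [← SetLike.mem_coe, Subgroup.normal_mul] at h1
    obtain ⟨n, hn, m, hm, rfl⟩ := h1
    have hmC : m ∈ Subgroup.centralizer (N : Set G) := by
      have h2 : m = n⁻¹ * (n * m) := by group
      rw [h2]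
      exact Subgroup.mul_mem _ (Subgroup.inv_mem _ (hNC hn)) hc
    have h3 : m ∈ Subgroup.centralizer (N : Set G) ⊓ M := Subgroup.mem_inf.mpr ⟨hmC, hm⟩
    rw [hCM, Subgroup.mem_bot] at h3
    change n * m ∈ N
    rw [h3, mul_one]; exact hn
  have hLN : L = N := le_antisymm (hLcN.trans hCN.le) hNL
  rw [hLN]
  have hNp : IsPGroup p N := hLp.to_le hNL
  refine ⟨?_, ?_, hNmin, hCN, ?_⟩
  · rw [isElementaryAbelian_iff]
    exact ⟨hNab, fun a ha => ((hEmem a).mp (hNE ha)).2⟩
  · apply Subgroup.isComplement'_of_disjoint_and_mul_eq_univ (disjoint_iff.mpr hinf)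
    rw [← Subgroup.normal_mul, hsup, Subgroup.coe_top]
  · intro q hq hQ
    have hQ₀n : (Cfsg.pCore q ↥M).Normal := Subgroup.sSup_normal _ (fun _ h => h.1)
    have hQ₀q : IsPGroup q (Cfsg.pCore q ↥M) :=
      Sylow.sSup_of_normal _ (fun _ h => h.2) (fun _ h => h.1)
    set Q := (Cfsg.pCore q ↥M).map M.subtype with hQdef
    have hQM : Q ≤ M := Subgroup.map_subtype_le _
    have hQq : IsPGroup q Q := hQ₀q.map _
    have hQne : Q ≠ ⊥ := by
      intro h
      apply hQ
      exact (Subgroup.map_eq_bot_iff_of_injective _ M.subtype_injective).mp h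
    have hMQ : ∀ m ∈ M, ∀ y ∈ Q, m * y * m⁻¹ ∈ Q := by
      rintro m hm _ ⟨y, hy, rfl⟩
      exact ⟨⟨m, hm⟩ * y * ⟨m, hm⟩⁻¹, hQ₀n.conj_mem y hy ⟨m, hm⟩, rfl⟩
    have hQN : Q ⊓ N = ⊥ := by
      rw [eq_bot_iff, ← hinf]
      exact le_inf inf_le_right (inf_le_left.trans hQM)
    have hQN' : ¬ Q ≤ N := by
      intro h
      apply hQne
      rw [eq_bot_iff, ← hQN]
      exact le_inf le_rfl h
    constructor
    · -- counting
      set D := N ⊓ Subgroup.centralizer (Q : Set G) with hD
      have hDn : D.Normal := by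
        apply hnormal_of
        · rw [Subgroup.le_normalizer_iff]
          intro n hn x hx
          have h1 : n * x * n⁻¹ = x := by
            rw [hNab n hn x (Subgroup.mem_inf.mp hx).1]; group
          rw [h1]; exact hx
        · rw [Subgroup.le_normalizer_iff]
          intro m hm x hx
          refine Subgroup.mem_inf.mpr ⟨hNn.conj_mem x (Subgroup.mem_inf.mp hx).1 m, ?_⟩
          rw [Subgroup.mem_centralizer_iff]
          intro y hy
          have h1 : m⁻¹ * y * m⁻¹⁻¹ ∈ Q := hMQ m⁻¹ (M.inv_mem hm) y hy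
          have h2 := (Subgroup.mem_centralizer_iff.mp (Subgroup.mem_inf.mp hx).2) _ h1
          calc y * (m * x * m⁻¹) = m * ((m⁻¹ * y * m⁻¹⁻¹) * x) * m⁻¹ := by group
            _ = m * (x * (m⁻¹ * y * m⁻¹⁻¹)) * m⁻¹ := by rw [h2]
            _ = m * x * m⁻¹ * y := by group
      have hD0 : D = ⊥ := by
        rcases hNmin D hDn inf_le_left with h | h
        · exact h
        · exfalso
          apply hQN'
          have h1 : N ≤ Subgroup.centralizer (Q : Set G) := by
            rw [← h]; exact inf_le_right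
          rw [Subgroup.le_centralizer_iff] at h1
          exact h1.trans hCN.le
      let _ : MulAction ↥Q ↥N :=
        MulAction.compHom ↥N ((MulAut.conjNormal (H := N)).comp Q.subtype)
      have hmod := hQq.card_modEq_card_fixedPoints ↥N
      have hfix : Nat.card (MulAction.fixedPoints ↥Q ↥N) = 1 := by
        rw [Nat.card_eq_one_iff_unique]
        refine ⟨⟨?_⟩, ⟨⟨1, ?_⟩⟩⟩
        · rintro ⟨x, hx⟩ ⟨y, hy⟩
          have key : ∀ z : ↥N, z ∈ MulAction.fixedPoints ↥Q ↥N → z = 1 := by
            intro z hz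
            have h1 : (z : G) ∈ D := by
              refine Subgroup.mem_inf.mpr ⟨z.2, ?_⟩
              rw [Subgroup.mem_centralizer_iff]
              intro w hw
              have h2 := hz ⟨w, hw⟩
              have h3 : w * (z : G) * w⁻¹ = z := congrArg Subtype.val h2
              calc w * (z : G) = (w * z * w⁻¹) * w := by group
                _ = z * w := by rw [h3]
            rw [hD0, Subgroup.mem_bot] at h1
            exact Subtype.ext h1
          apply Subtype.ext
          exact (key x hx).trans (key y hy).symm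
        · intro w
          apply Subtype.ext
          change (w : G) * ((1 : ↥N) : G) * (w : G)⁻¹ = ((1 : ↥N) : G)
          rw [Subgroup.coe_one]; group
      rw [hfix] at hmod
      exact hmod
    · intro hqp
      have hQp : IsPGroup p Q := hqp ▸ hQq
      have hNQp : IsPGroup p (N ⊔ Q : Subgroup G) := hNp.to_sup_of_normal_left hQp
      have hNQn : (N ⊔ Q).Normal := by
        apply hnormal_of
        · exact le_sup_left.trans Subgroup.le_normalizer
        · rw [Subgroup.le_normalizer_iff]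
          intro m hm x hx
          rw [← SetLike.mem_coe, Subgroup.normal_mul] at hx
          obtain ⟨n, hn, y, hy, rfl⟩ := hx
          have h1 : m * (n * y) * m⁻¹ = (m * n * m⁻¹) * (m * y * m⁻¹) := by group
          rw [h1]
          exact Subgroup.mul_mem _ (Subgroup.mem_sup_left (hNn.conj_mem n hn m))
            (Subgroup.mem_sup_right (hMQ m hm y hy))
      have h2 : N ⊔ Q ≤ L := hLmax _ hNQn hNQp
      rw [hLN] at h2
      exact hQN' (le_sup_right.trans h2)

end Cfsg.Agent.S0587
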