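import Cfsg.Statements.S0588
import Mathlib

set_option autoImplicit false
open Cfsg

namespace Cfsg.Agent.S0588

/-- If a subgroup H of a finite group G contains the centralizer of every non-identity element of H, then the order of H is coprime to its index. -/
theorem result {G : Type*} [Group G] [Finite G] (H : Subgroup G) (h : ∀ x ∈ H, x ≠ 1 → Subgroup.centralizer ({x} : Set G) ≤ H) : (Nat.card H).Coprime H.index := by
  classical
  by_contra hnc
  obtain ⟨p, hp, hpH, hpi⟩ := Nat.Prime.not_coprime_iff_dvd.mp hnc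
  haveI : Fact p.Prime := ⟨hp⟩
  -- element of order p in H
  obtain ⟨x, hx⟩ := exists_prime_orderOf_dvd_card' (G := H) p hpH
  have hx1 : (x : G) ≠ 1 := by
    intro h1
    have : x = 1 := Subtype.ext h1
    rw [this, orderOf_one] at hx
    exact hp.one_lt.ne hx
  have hxG : orderOf (x : G) = p := by
    rw [Subgroup.orderOf_coe]; exact hx
  have hPx : IsPGroup p (Subgroup.zpowers (x : G)) := by
    apply IsPGroup.of_card (n := 1)
    rw [Nat.card_zpowers, hxG, pow_one]
  obtain ⟨S, hS⟩ := hPx.exists_le_sylow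
  have hxS : (x : G) ∈ (S : Subgroup G) := hS (Subgroup.mem_zpowers _)
  haveI : Nontrivial (S : Subgroup G) := ⟨⟨⟨(x : G), hxS⟩, 1, fun h1 => hx1 (congrArg Subtype.val h1)⟩⟩
  haveI := IsPGroup.center_nontrivial S.isPGroup'
  obtain ⟨⟨z, hzc⟩, hz1⟩ := exists_ne (1 : Subgroup.center (S : Subgroup G))
  have hz1' : (z : G) ≠ 1 := by
    intro h1
    apply hz1
    apply Subtype.ext
    apply Subtype.ext
    exact h1
  rw [Subgroup.mem_center_iff] at hzc
  have hzS : ∀ s ∈ (S : Subgroup G), s * (z : G) = z * s := by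
    intro s hs
    exact congrArg Subtype.val (hzc ⟨s, hs⟩)
  have hzH : (z : G) ∈ H := by
    apply h x x.2 hx1
    rw [Subgroup.mem_centralizer_iff]
    intro y hy
    rw [Set.mem_singleton_iff] at hy
    subst hy
    exact hzS _ hxS
  have hSH : (S : Subgroup G) ≤ H := by
    intro s hs
    apply h z hzH hz1'
    rw [Subgroup.mem_centralizer_iff]
    intro y hy
    rw [Set.mem_singleton_iff] at hy
    subst hy
    exact (hzS s hs).symm
  have hdvd : H.index ∣ (S : Subgroup G).index := Subgroup.index_dvd_of_le hSH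
  exact S.not_dvd_index (hpi.trans hdvd)

end Cfsg.Agent.S0588
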