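import Cfsg.Statements.S0589
import Mathlib
import Cfsg.Agent.Lib.helper13.FixCount

set_option autoImplicit false
open Cfsg

namespace Cfsg.Agent.S0589

open Cfsg.Agent.Lib.helper13
open scoped Pointwise

theorem smul_mk_eq_iff {G : Type*} [Group G] (H : Subgroup G) (g a : G) :
    g • (a : G ⧸ H) = (a : G ⧸ H) ↔ a⁻¹ * g * a ∈ H := by
  rw [MulAction.Quotient.smul_mk, smul_eq_mul, QuotientGroup.eq]
  constructor
  · intro h
    have := H.inv_mem h
    have h2 : ((g * a)⁻¹ * a)⁻¹ = a⁻¹ * g * a := by group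
    rwa [h2] at this
  · intro h
    have := H.inv_mem h
    have h2 : (a⁻¹ * g * a)⁻¹ = (g * a)⁻¹ * a := by group
    rwa [h2] at this

/-- In a group with a TI subgroup `H`, a nonidentity element fixes at most one coset of `H`. -/
theorem fix_unique {G : Type*} [Group G] (H : Subgroup G)
    (hTI : ∀ g : G, g ∉ H → H ⊓ (MulAut.conj g • H) = ⊥) (g : G) (hg : g ≠ 1)
    (x y : G ⧸ H) (hx : g • x = x) (hy : g • y = y) : x = y := by
  induction x using QuotientGroup.induction_on with
  | H a =>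
    induction y using QuotientGroup.induction_on with
    | H b =>
      rw [smul_mk_eq_iff] at hx hy
      rw [QuotientGroup.eq]
      by_contra hc
      have h1 := hTI _ hc
      have h2 : a⁻¹ * g * a ∈ MulAut.conj (a⁻¹ * b) • H := by
        rw [Subgroup.mem_pointwise_smul_iff_inv_smul_mem, MulAut.smul_def, ← map_inv,
          MulAut.conj_apply]
        have : (a⁻¹ * b)⁻¹ * (a⁻¹ * g * a) * (a⁻¹ * b)⁻¹⁻¹ = b⁻¹ * g * b := by group
        rw [this]; exact hy
      have h3 : a⁻¹ * g * a ∈ H ⊓ (MulAut.conj (a⁻¹ * b) • H) := Subgroup.mem_inf.mpr ⟨hx, h2⟩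
      rw [h1, Subgroup.mem_bot] at h3
      apply hg
      have : g = a * (a⁻¹ * g * a) * a⁻¹ := by group
      rw [this, h3]; group

theorem result {G : Type*} [Group G] [Finite G] (H : Subgroup G) (hH : Cfsg.IsFrobeniusComplement H) (L : Subgroup G) (hL : Nat.card L ∣ Nat.card H) : ∃ x : G, L ≤ MulAut.conj x • H := by
  have hTI := hH.2.2
  have hmodH : Nat.card (G ⧸ H) ≡ 1 [MOD Nat.card H] := by
    apply card_modEq_one_of_fixed_point H (G ⧸ H) ((1 : G) : G ⧸ H)
    · intro k
      change (k : G) • (((1 : G) : G ⧸ H)) = ((1 : G) : G ⧸ H)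
      rw [smul_mk_eq_iff]
      have : (1 : G)⁻¹ * (k : G) * 1 = k := by group
      rw [this]; exact k.2
    · intro k hk x y hx hy
      have hk' : (k : G) ≠ 1 := fun h => hk (Subtype.ext h)
      exact fix_unique H hTI k hk' x y hx hy
  have hmodL : Nat.card (G ⧸ H) ≡ 1 [MOD Nat.card L] := Nat.ModEq.of_dvd hL hmodH
  obtain ⟨x, hx⟩ := exists_fixed_point_of_card_modEq_one L (G ⧸ H)
    (fun k hk x y hx hy => fix_unique H hTI k (fun h => hk (Subtype.ext h)) x y hx hy) hmodL
  induction x using QuotientGroup.induction_on with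
  | H a =>
    refine ⟨a, fun l hl => ?_⟩
    have h1 : l • (a : G ⧸ H) = (a : G ⧸ H) := hx ⟨l, hl⟩
    rw [smul_mk_eq_iff] at h1
    rw [Subgroup.mem_pointwise_smul_iff_inv_smul_mem, MulAut.smul_def, ← map_inv,
      MulAut.conj_apply, inv_inv]
    exact h1

end Cfsg.Agent.S0589
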