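import Cfsg.Statements.S0590
import Mathlib
import Cfsg.Agent.Lib.helper13.Basic

set_option autoImplicit false
open Cfsg
open scoped commutatorElement

namespace Cfsg.Agent.S0590

open Cfsg.Agent.Lib.helper13

/-- Under quadratic action, `⁅v, a⁆` lies in `V` and is centralized by `H`. -/
theorem quad_comm {G : Type*} [Group G] (V H : Subgroup G)
    (hHV : H ≤ Subgroup.normalizer (V : Set G)) (hq : ⁅⁅V, H⁆, H⁆ = ⊥) {a v : G} (ha : a ∈ H)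
    (hv : v ∈ V) : ⁅v, a⁆ ∈ V ∧ ∀ b ∈ H, b * ⁅v, a⁆ = ⁅v, a⁆ * b := by
  constructor
  · have h1 : a * v⁻¹ * a⁻¹ ∈ V := (Subgroup.le_normalizer_iff.mp hHV) a ha v⁻¹ (V.inv_mem hv)
    have : ⁅v, a⁆ = v * (a * v⁻¹ * a⁻¹) := by simp only [commutatorElement_def]; group
    rw [this]
    exact V.mul_mem hv h1
  · have h1 : ⁅v, a⁆ ∈ ⁅V, H⁆ := Subgroup.commutator_mem_commutator hv ha
    have h2 := (Subgroup.commutator_eq_bot_iff_le_centralizer.mp hq) h1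
    rw [Subgroup.mem_centralizer_iff] at h2
    exact h2

/-- Conjugation formula: `a v a⁻¹ = ⁅v, a⁆⁻¹ v`. -/
theorem conj_eq {G : Type*} [Group G] (a v : G) : a * v * a⁻¹ = ⁅v, a⁆⁻¹ * v := by
  simp only [commutatorElement_def]; group

theorem conj_pow {G : Type*} [Group G] (V H : Subgroup G)
    (hHV : H ≤ Subgroup.normalizer (V : Set G)) (hq : ⁅⁅V, H⁆, H⁆ = ⊥) {a v : G} (ha : a ∈ H)
    (hv : v ∈ V) (n : ℕ) : a ^ n * v * (a ^ n)⁻¹ = (⁅v, a⁆⁻¹) ^ n * v := by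
  obtain ⟨_, hc⟩ := quad_comm V H hHV hq ha hv
  have h1 : Commute a ⁅v, a⁆ := hc a ha
  induction n with
  | zero => simp
  | succ n ih =>
    have hcn : a * (⁅v, a⁆⁻¹) ^ n * a⁻¹ = (⁅v, a⁆⁻¹) ^ n := by
      rw [(h1.inv_right.pow_right n).eq]; group
    calc a ^ (n + 1) * v * (a ^ (n + 1))⁻¹ = a * (a ^ n * v * (a ^ n)⁻¹) * a⁻¹ := by
          rw [pow_succ']; group
      _ = a * ((⁅v, a⁆⁻¹) ^ n * v) * a⁻¹ := by rw [ih]
      _ = (a * (⁅v, a⁆⁻¹) ^ n * a⁻¹) * (a * v * a⁻¹) := by group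
      _ = (⁅v, a⁆⁻¹) ^ n * (⁅v, a⁆⁻¹ * v) := by rw [hcn, conj_eq a v]
      _ = (⁅v, a⁆⁻¹) ^ (n + 1) * v := by rw [pow_succ]; group

/-- Quadratic action on an elementary abelian p-group forces the acting group modulo the kernel of the action to be elementary abelian. -/
theorem result {G : Type*} [Group G] [Finite G] {p : ℕ} [Fact p.Prime] (V H : Subgroup G) (hV : Cfsg.IsElementaryAbelian p V) (hHV : H ≤ Subgroup.normalizer (V : Set G)) (hq : ⁅⁅V, H⁆, H⁆ = ⊥) : ⁅H, H⁆ ≤ Subgroup.centralizer (V : Set G) ∧ ∀ a ∈ H, a ^ p ∈ Subgroup.centralizer (V : Set G) := by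
  obtain ⟨hVc, hVp⟩ := hV
  have := hVc
  have hnorm := Subgroup.le_normalizer_iff.mp hHV
  constructor
  · -- (ab) v (ab)⁻¹ = (ba) v (ba)⁻¹
    have key : ∀ a ∈ H, ∀ b ∈ H, ∀ v ∈ V, (a * b) * v * (a * b)⁻¹ = (b * a) * v * (b * a)⁻¹ := by
      intro a ha b hb v hv
      obtain ⟨hcaV, hca⟩ := quad_comm V H hHV hq ha hv
      obtain ⟨hcbV, hcb⟩ := quad_comm V H hHV hq hb hv
      have e1 : a * ⁅v, b⁆⁻¹ * a⁻¹ = ⁅v, b⁆⁻¹ := by
        have h1 : Commute a ⁅v, b⁆ := hcb a ha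
        rw [h1.inv_right.eq]; group
      have e2 : b * ⁅v, a⁆⁻¹ * b⁻¹ = ⁅v, a⁆⁻¹ := by
        have h1 : Commute b ⁅v, a⁆ := hca b hb
        rw [h1.inv_right.eq]; group
      have e3 : ⁅v, b⁆⁻¹ * ⁅v, a⁆⁻¹ = ⁅v, a⁆⁻¹ * ⁅v, b⁆⁻¹ :=
        comm_of_mem_of_isMulCommutative V (V.inv_mem hcbV) (V.inv_mem hcaV)
      calc (a * b) * v * (a * b)⁻¹ = a * (b * v * b⁻¹) * a⁻¹ := by group
        _ = a * (⁅v, b⁆⁻¹ * v) * a⁻¹ := by rw [conj_eq b v]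
        _ = (a * ⁅v, b⁆⁻¹ * a⁻¹) * (a * v * a⁻¹) := by group
        _ = ⁅v, b⁆⁻¹ * (⁅v, a⁆⁻¹ * v) := by rw [e1, conj_eq a v]
        _ = (⁅v, b⁆⁻¹ * ⁅v, a⁆⁻¹) * v := by group
        _ = (⁅v, a⁆⁻¹ * ⁅v, b⁆⁻¹) * v := by rw [e3]
        _ = (b * ⁅v, a⁆⁻¹ * b⁻¹) * (⁅v, b⁆⁻¹ * v) := by rw [e2]; group
        _ = (b * ⁅v, a⁆⁻¹ * b⁻¹) * (b * v * b⁻¹) := by rw [conj_eq b v]
        _ = b * (⁅v, a⁆⁻¹ * v) * b⁻¹ := by group
        _ = b * (a * v * a⁻¹) * b⁻¹ := by rw [conj_eq a v]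
        _ = (b * a) * v * (b * a)⁻¹ := by group
    rw [Subgroup.commutator_le]
    intro a ha b hb
    rw [Subgroup.mem_centralizer_iff]
    intro v hv
    -- v' = (b a)⁻¹ v (b a) ∈ V
    have hv' : (b * a)⁻¹ * v * (b * a)⁻¹⁻¹ ∈ V :=
      hnorm _ (H.inv_mem (H.mul_mem hb ha)) v hv
    have := key a ha b hb _ hv'
    have e : (b * a) * ((b * a)⁻¹ * v * (b * a)⁻¹⁻¹) * (b * a)⁻¹ = v := by group
    rw [e] at this
    simp only [commutatorElement_def]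
    calc v * (a * b * a⁻¹ * b⁻¹)
        = (a * b * ((b * a)⁻¹ * v * (b * a)⁻¹⁻¹) * (a * b)⁻¹) * (a * b * a⁻¹ * b⁻¹) := by rw [this]
      _ = a * b * a⁻¹ * b⁻¹ * v := by group
  · intro a ha
    rw [Subgroup.mem_centralizer_iff]
    intro v hv
    have h1 := conj_pow V H hHV hq ha hv p
    obtain ⟨hcV, _⟩ := quad_comm V H hHV hq ha hv
    have h2 : (⁅v, a⁆⁻¹) ^ p = 1 := hVp _ (V.inv_mem hcV)
    rw [h2, one_mul] at h1
    calc v * a ^ p = (a ^ p * v * (a ^ p)⁻¹) * a ^ p := by rw [h1]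
      _ = a ^ p * v := by group

end Cfsg.Agent.S0590
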