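import Cfsg.Statements.S0591
import Mathlib
import Cfsg.Agent.S0590
import Cfsg.Agent.Lib.helper13.Basic

set_option autoImplicit false
open Cfsg
open scoped commutatorElement

namespace Cfsg.Agent.S0591

open Cfsg.Agent.Lib.helper13

/-- For a quadratically acting element a on an elementary abelian p-group V, the fixed points C_V(a) have order at least the square root of the order of V. -/
theorem result {G : Type*} [Group G] [Finite G] {p : ℕ} [Fact p.Prime] (V : Subgroup G) (hV : Cfsg.IsElementaryAbelian p V) (a : G) (ha : a ∈ Subgroup.normalizer (V : Set G)) (hq : ⁅⁅V, Subgroup.zpowers a⁆, Subgroup.zpowers a⁆ = ⊥) : Nat.card V ≤ Nat.card ↥(V ⊓ Subgroup.centralizer (Subgroup.zpowers a : Set G)) ^ 2 := by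
  classical
  obtain ⟨hVc, hVp⟩ := hV
  have := hVc
  set H := Subgroup.zpowers a with hH
  have hHV : H ≤ Subgroup.normalizer (V : Set G) := by
    rw [hH, Subgroup.zpowers_le]; exact ha
  have haH : a ∈ H := Subgroup.mem_zpowers a
  have hnorm := Subgroup.le_normalizer_iff.mp hHV
  set W : Subgroup G := V ⊓ Subgroup.centralizer (H : Set G) with hW
  -- the homomorphism v ↦ ⁅v, a⁆
  let φ : V →* G := MonoidHom.mk' (fun v => ⁅(v : G), a⁆) (by
    intro v w
    have h1 : ⁅(w : G), a⁆ ∈ V := (Cfsg.Agent.S0590.quad_comm V H hHV hq haH w.2).1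
    have h2 : a * (v : G)⁻¹ * a⁻¹ ∈ V := hnorm a haH _ (V.inv_mem v.2)
    have c := comm_of_mem_of_isMulCommutative V h1 h2
    simp only [Subgroup.coe_mul]
    calc ⁅(v : G) * w, a⁆ = v * ⁅(w : G), a⁆ * (a * (v : G)⁻¹ * a⁻¹) := by
          simp only [commutatorElement_def]; group
      _ = v * (⁅(w : G), a⁆ * (a * (v : G)⁻¹ * a⁻¹)) := by group
      _ = v * ((a * (v : G)⁻¹ * a⁻¹) * ⁅(w : G), a⁆) := by rw [c]
      _ = ⁅(v : G), a⁆ * ⁅(w : G), a⁆ := by simp only [commutatorElement_def]; group)
  have hφ : ∀ v : V, φ v = ⁅(v : G), a⁆ := fun v => rfl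
  -- range ≤ W
  have hrange : Nat.card φ.range ≤ Nat.card W := by
    apply Nat.card_le_card_of_injective (fun x : φ.range => (⟨x.1, by
      obtain ⟨v, hv⟩ := x.2
      rw [← hv, hφ]
      obtain ⟨h1, h2⟩ := Cfsg.Agent.S0590.quad_comm V H hHV hq haH v.2
      refine Subgroup.mem_inf.mpr ⟨h1, ?_⟩
      rw [Subgroup.mem_centralizer_iff]
      exact h2⟩ : W))
    intro x y hxy
    apply Subtype.ext
    exact congrArg (fun w : W => (w : G)) hxy
  have hker : Nat.card φ.ker ≤ Nat.card W := by
    apply Nat.card_le_card_of_injective (fun x : φ.ker => (⟨(x.1 : G), by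
      have hx := x.2
      rw [MonoidHom.mem_ker, hφ, commutatorElement_eq_one_iff_mul_comm] at hx
      refine Subgroup.mem_inf.mpr ⟨x.1.2, ?_⟩
      rw [Subgroup.mem_centralizer_iff]
      intro b hb
      obtain ⟨k, rfl⟩ := Subgroup.mem_zpowers_iff.mp hb
      have hc : Commute a (x.1 : G) := hx.symm
      exact (hc.zpow_left k).eq⟩ : W))
    intro x y hxy
    apply Subtype.ext
    apply Subtype.ext
    exact congrArg (fun w : W => (w : G)) hxy
  have hcard : Nat.card V = Nat.card φ.range * Nat.card φ.ker := by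
    rw [Subgroup.card_eq_card_quotient_mul_card_subgroup φ.ker]
    congr 1
    exact Nat.card_congr (QuotientGroup.quotientKerEquivRange φ).toEquiv
  rw [hcard, pow_two]
  exact Nat.mul_le_mul hrange hker

end Cfsg.Agent.S0591
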