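import Cfsg.Statements.S0593
import Mathlib
import Cfsg.Agent.Lib.helper13.QuadLin
import Cfsg.Agent.Lib.helper13.SylowTwo
import Cfsg.Agent.S0274

set_option autoImplicit false
open Cfsg

namespace Cfsg.Agent.S0593

open Cfsg.Agent.Lib.helper13

/-- The statement, given Dickson's theorem for `SL₂` over finite fields of characteristic `p`. -/
theorem result_of_dickson {G : Type*} [Group G] [Finite G] {p : ℕ} [Fact p.Prime] (hp : p ≠ 2)
    (hD : ∀ (F : Type) [Field F] [Fintype F] [CharP F p]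
      (R : Subgroup (Matrix.SpecialLinearGroup (Fin 2) F)), 1 < Nat.card (Sylow p R) →
      ∃ K₀ : Subgroup (Matrix.SpecialLinearGroup (Fin 2) F), K₀ ≤ R ∧
        Nonempty (K₀ ≃* Matrix.SpecialLinearGroup (Fin 2) (ZMod p)))
    (V H : Subgroup G) (hV : Cfsg.IsElementaryAbelian p V)
    (hHV : H ≤ Subgroup.normalizer (V : Set G)) (hf : H ⊓ Subgroup.centralizer (V : Set G) = ⊥)
    (a b : G) (hab : H = Subgroup.closure {a, b})
    (ha : ⁅⁅V, Subgroup.zpowers a⁆, Subgroup.zpowers a⁆ = ⊥)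
    (hb : ⁅⁅V, Subgroup.zpowers b⁆, Subgroup.zpowers b⁆ = ⊥) (hnp : ¬ IsPGroup p H)
    (T : Sylow 2 H) : ¬ IsMulCommutative T := by
  intro hTc
  have haH : a ∈ H := by rw [hab]; exact Subgroup.subset_closure (by simp)
  have hbH : b ∈ H := by rw [hab]; exact Subgroup.subset_closure (by simp)
  have hgen : Subgroup.closure {(⟨a, haH⟩ : H), ⟨b, hbH⟩} = (⊤ : Subgroup H) := by
    apply Subgroup.map_injective H.subtype_injective
    rw [MonoidHom.map_closure, ← MonoidHom.range_eq_map, Subgroup.range_subtype, Set.image_pair]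
    exact hab.symm
  obtain ⟨K, _, _, _, φ, hφ⟩ := exists_hom_SL2_of_quadratic_pair V H hV hHV hf a b hab ha hb hnp
  have hR : φ.range = Subgroup.closure {φ ⟨a, haH⟩, φ ⟨b, hbH⟩} := by
    rw [MonoidHom.range_eq_map, ← hgen, MonoidHom.map_closure, Set.image_pair]
  have hSp : ∀ s ∈ ({φ ⟨a, haH⟩, φ ⟨b, hbH⟩} : Set (Matrix.SpecialLinearGroup (Fin 2) K)),
      s ^ p = 1 := by
    rintro s (rfl | rfl)
    · rw [← map_pow]
      have h1 : (⟨a, haH⟩ : H) ^ p = 1 :=
        Subtype.ext (pow_eq_one_of_quadratic V H hV hHV hf a haH ha)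
      rw [h1, map_one]
    · rw [← map_pow]
      have h1 : (⟨b, hbH⟩ : H) ^ p = 1 :=
        Subtype.ext (pow_eq_one_of_quadratic V H hV hHV hf b hbH hb)
      rw [h1, map_one]
  have hsyl : 1 < Nat.card (Sylow p φ.range) :=
    one_lt_card_sylow_of_closure φ.range _ hR hSp hφ
  obtain ⟨K₀, hK₀R, ⟨e⟩⟩ := hD K φ.range hsyl
  obtain ⟨Q, hQ2, x, hx, y, hy, hxy⟩ := exists_noncomm_two_subgroup_SL2 p hp
  have hQ' : IsPGroup 2 ((Q.comap e.toMonoidHom).map K₀.subtype) :=
    (hQ2.comap_of_injective e.toMonoidHom e.injective).map _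
  have hQ'R : (Q.comap e.toMonoidHom).map K₀.subtype ≤ φ.range :=
    (Subgroup.map_subtype_le _).trans hK₀R
  have hcomm := comm_of_isPGroup_le_range φ T
    (fun s hs t ht => congrArg Subtype.val (mul_comm' (⟨s, hs⟩ : T) ⟨t, ht⟩)) _ hQ' hQ'R
  have hx' : ((e.symm x : K₀) : Matrix.SpecialLinearGroup (Fin 2) K) ∈
      (Q.comap e.toMonoidHom).map K₀.subtype := by
    refine ⟨e.symm x, ?_, rfl⟩
    show e (e.symm x) ∈ Q
    rw [e.apply_symm_apply]; exact hx
  have hy' : ((e.symm y : K₀) : Matrix.SpecialLinearGroup (Fin 2) K) ∈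
      (Q.comap e.toMonoidHom).map K₀.subtype := by
    refine ⟨e.symm y, ?_, rfl⟩
    show e (e.symm y) ∈ Q
    rw [e.apply_symm_apply]; exact hy
  have h1 := hcomm _ hx' _ hy'
  have h2 : e.symm x * e.symm y = e.symm y * e.symm x := Subtype.ext h1
  apply hxy
  have h3 := congrArg e h2
  rwa [map_mul, map_mul, e.apply_symm_apply, e.apply_symm_apply] at h3

/-- For odd p, a faithful group on an elementary abelian p-group generated by two quadratically acting elements is a p-group or has non-abelian Sylow 2-subgroups. -/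
theorem result {G : Type*} [Group G] [Finite G] {p : ℕ} [Fact p.Prime] (hp : p ≠ 2) (V H : Subgroup G) (hV : Cfsg.IsElementaryAbelian p V) (hHV : H ≤ Subgroup.normalizer (V : Set G)) (hf : H ⊓ Subgroup.centralizer (V : Set G) = ⊥) (a b : G) (hab : H = Subgroup.closure {a, b}) (ha : ⁅⁅V, Subgroup.zpowers a⁆, Subgroup.zpowers a⁆ = ⊥) (hb : ⁅⁅V, Subgroup.zpowers b⁆, Subgroup.zpowers b⁆ = ⊥) (hnp : ¬ IsPGroup p H) (T : Sylow 2 H) : ¬ IsMulCommutative T :=
  result_of_dickson hp (fun F _ _ _ R hR => Cfsg.Agent.S0274.result p hp R hR) V H hV hHV hf a b hab ha hb hnp T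

end Cfsg.Agent.S0593
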