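import Cfsg.Statements.S0595
import Mathlib
import Cfsg.Agent.S0593
import Cfsg.Agent.S0274
import Cfsg.Agent.S0199
import Cfsg.Agent.Lib.helper40.Cores

set_option autoImplicit false
open Cfsg

namespace Cfsg.Agent.S0595

open Cfsg.Agent.Lib.helper13

theorem map_conj_eq_of_mem_normalizer {G : Type*} [Group G] (V : Subgroup G) (g : G)
    (hg : g ∈ Subgroup.normalizer (V : Set G)) : V.map (MulAut.conj g).toMonoidHom = V := by
  rw [Subgroup.mem_normalizer_iff] at hg
  apply le_antisymm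
  · rintro x ⟨v, hv, rfl⟩
    exact (hg v).mp hv
  · intro x hx
    refine ⟨g⁻¹ * x * g, ?_, ?_⟩
    · rw [SetLike.mem_coe, hg]
      have h1 : g * (g⁻¹ * x * g) * g⁻¹ = x := by group
      rw [h1]; exact hx
    · show g * (g⁻¹ * x * g) * g⁻¹ = x
      group

/-- The statement, given Dickson's theorem for `SL₂` over finite fields of characteristic `p`. -/
theorem result_of_dickson {G : Type*} [Group G] [Finite G] {p : ℕ} [Fact p.Prime] (hp : p ≠ 2)
    (hD : ∀ (F : Type) [Field F] [Fintype F] [CharP F p]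
      (R : Subgroup (Matrix.SpecialLinearGroup (Fin 2) F)), 1 < Nat.card (Sylow p R) →
      ∃ K₀ : Subgroup (Matrix.SpecialLinearGroup (Fin 2) F), K₀ ≤ R ∧
        Nonempty (K₀ ≃* Matrix.SpecialLinearGroup (Fin 2) (ZMod p)))
    (V H : Subgroup G) (hV : Cfsg.IsElementaryAbelian p V)
    (hHV : H ≤ Subgroup.normalizer (V : Set G)) (hf : H ⊓ Subgroup.centralizer (V : Set G) = ⊥)
    (a : G) (haH : a ∈ H) (hq : ⁅⁅V, Subgroup.zpowers a⁆, Subgroup.zpowers a⁆ = ⊥)
    (hna : a ∉ (Cfsg.pCore p H).map H.subtype) (T : Sylow 2 H) : ¬ IsMulCommutative T := by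
  intro hTc
  have hap : a ^ p = 1 := pow_eq_one_of_quadratic V H hV hHV hf a haH hq
  have hX : IsPGroup p (Subgroup.zpowers (⟨a, haH⟩ : H)) := by
    rintro ⟨g, hg⟩
    obtain ⟨j, rfl⟩ := Subgroup.mem_zpowers_iff.mp hg
    refine ⟨1, ?_⟩
    apply Subtype.ext
    apply Subtype.ext
    simp only [pow_one, Subgroup.coe_pow, Subgroup.coe_zpow, Subgroup.coe_one]
    rw [← zpow_natCast, ← zpow_mul, mul_comm, zpow_mul, zpow_natCast, hap, one_zpow]
  -- Baer–Suzuki
  have hex : ∃ g : H, ¬ IsPGroup p ↥(Subgroup.zpowers (⟨a, haH⟩ : H) ⊔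
      (Subgroup.zpowers (⟨a, haH⟩ : H)).map (MulAut.conj g).toMonoidHom) := by
    by_contra hcon
    push Not at hcon
    obtain ⟨N, hNn, hNp, hXN⟩ := Cfsg.Agent.S0199.result _ hX hcon
    have h1 : N ≤ Cfsg.pCore p H := Cfsg.Agent.Lib.helper40.le_pCore N hNn hNp
    exact hna ⟨⟨a, haH⟩, h1 (hXN (Subgroup.mem_zpowers _)), rfl⟩
  obtain ⟨g, hg⟩ := hex
  -- the subgroup generated by `a` and its conjugate
  have hbH : (g : G) * a * (g : G)⁻¹ ∈ H := H.mul_mem (H.mul_mem g.2 haH) (H.inv_mem g.2)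
  have hH₁ : Subgroup.closure {a, (g : G) * a * (g : G)⁻¹} ≤ H := by
    rw [Subgroup.closure_le]
    rintro x (rfl | rfl)
    · exact haH
    · exact hbH
  have hmap : (Subgroup.zpowers (⟨a, haH⟩ : H) ⊔
      (Subgroup.zpowers (⟨a, haH⟩ : H)).map (MulAut.conj g).toMonoidHom).map H.subtype =
      Subgroup.closure {a, (g : G) * a * (g : G)⁻¹} := by
    rw [Subgroup.map_sup, MonoidHom.map_zpowers, MonoidHom.map_zpowers, MonoidHom.map_zpowers,
      Subgroup.zpowers_eq_closure, Subgroup.zpowers_eq_closure, ← Subgroup.closure_union]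
    rfl
  have hnp : ¬ IsPGroup p ↥(Subgroup.closure {a, (g : G) * a * (g : G)⁻¹}) := by
    intro h
    apply hg
    intro z
    have h1 : ((z : H) : G) ∈ Subgroup.closure {a, (g : G) * a * (g : G)⁻¹} := by
      rw [← hmap]
      exact ⟨z, z.2, rfl⟩
    obtain ⟨k, hk⟩ := h ⟨_, h1⟩
    refine ⟨k, ?_⟩
    apply Subtype.ext
    apply Subtype.ext
    have h2 := congrArg Subtype.val hk
    simp only [Subgroup.coe_pow, Subgroup.coe_one] at h2 ⊢
    exact h2
  have hb : ⁅⁅V, Subgroup.zpowers ((g : G) * a * (g : G)⁻¹)⁆,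
      Subgroup.zpowers ((g : G) * a * (g : G)⁻¹)⁆ = ⊥ := by
    have h1 := congrArg (Subgroup.map (MulAut.conj (g : G)).toMonoidHom) hq
    rw [Subgroup.map_commutator, Subgroup.map_commutator, MonoidHom.map_zpowers,
      map_conj_eq_of_mem_normalizer V g (hHV g.2), Subgroup.map_bot] at h1
    exact h1
  obtain ⟨T₁⟩ : Nonempty (Sylow 2 ↥(Subgroup.closure {a, (g : G) * a * (g : G)⁻¹})) := inferInstance
  apply Cfsg.Agent.S0593.result_of_dickson hp hD V _ hV (hH₁.trans hHV)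
    (by
      rw [eq_bot_iff, ← hf]
      exact inf_le_inf_right _ hH₁) a _ rfl hq hb hnp T₁
  -- `T₁` is commutative because `T` is
  have hQp : IsPGroup 2 ((T₁ : Subgroup _).map (Subgroup.inclusion hH₁)) := T₁.2.map _
  have hcomm := comm_of_isPGroup_le_range (MonoidHom.id H) T
    (fun s hs t ht => congrArg Subtype.val (mul_comm' (⟨s, hs⟩ : T) ⟨t, ht⟩)) _ hQp
    (by
      intro x _
      exact ⟨x, rfl⟩)
  refine ⟨⟨fun x y => ?_⟩⟩
  have h1 := hcomm (Subgroup.inclusion hH₁ x) ⟨x, x.2, rfl⟩ (Subgroup.inclusion hH₁ y) ⟨y, y.2, rfl⟩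
  apply Subtype.ext
  apply Subtype.ext
  have h2 := congrArg (fun z : H => (z : G)) h1
  exact h2

/-- For odd p, a faithful action on an elementary abelian p-group that is not p-stable forces non-abelian Sylow 2-subgroups. -/
theorem result {G : Type*} [Group G] [Finite G] {p : ℕ} [Fact p.Prime] (hp : p ≠ 2) (V H : Subgroup G) (hV : Cfsg.IsElementaryAbelian p V) (hHV : H ≤ Subgroup.normalizer (V : Set G)) (hf : H ⊓ Subgroup.centralizer (V : Set G) = ⊥) (a : G) (haH : a ∈ H) (hq : ⁅⁅V, Subgroup.zpowers a⁆, Subgroup.zpowers a⁆ = ⊥) (hna : a ∉ (Cfsg.pCore p H).map H.subtype) (T : Sylow 2 H) : ¬ IsMulCommutative T :=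
  result_of_dickson hp (fun _ _ _ _ R hR => Cfsg.Agent.S0274.result p hp R hR) V H hV hHV hf a haH hq hna T

end Cfsg.Agent.S0595
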