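import Cfsg.Statements.S0594
import Mathlib
import Cfsg.Agent.Lib.helper13.SL2Section
import Cfsg.Agent.S0595

set_option autoImplicit false
open Cfsg

namespace Cfsg.Agent.S0594

open Cfsg.Agent.Lib.helper13
open scoped commutatorElement

/-- For odd p, two quadratic generators of a faithful group that is not a p-group, one of which acts nontrivially on a normal subgroup of order prime to p, force p = 3 and a section isomorphic to SL(2,3). -/
theorem result {G : Type*} [Group G] [Finite G] {p : ℕ} [Fact p.Prime] (hp : p ≠ 2) (V H : Subgroup G) (hV : Cfsg.IsElementaryAbelian p V) (hHV : H ≤ Subgroup.normalizer (V : Set G)) (hf : H ⊓ Subgroup.centralizer (V : Set G) = ⊥) (a b : G) (hab : H = Subgroup.closure {a, b}) (ha : ⁅⁅V, Subgroup.zpowers a⁆, Subgroup.zpowers a⁆ = ⊥) (hb : ⁅⁅V, Subgroup.zpowers b⁆, Subgroup.zpowers b⁆ = ⊥) (hnp : ¬ IsPGroup p H) (Q : Subgroup G) (hQH : Q ≤ H) (hQn : H ≤ Subgroup.normalizer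 (Q : Set G)) (hQ : (Nat.card Q).Coprime p) (hQa : ⁅Q, Subgroup.zpowers a⁆ ≠ ⊥) : p = 3 ∧ ∃ (K L : Subgroup G) (hL : (L.subgroupOf K).Normal), K ≤ H ∧ Nonempty ((K ⧸ L.subgroupOf K) ≃* Matrix.SpecialLinearGroup (Fin 2) (ZMod 3)) := by
  have haH : a ∈ H := by rw [hab]; exact Subgroup.subset_closure (by simp)
  -- an element of `Q` not commuting with `a`
  have hex : ∃ q ∈ Q, q * a * q⁻¹ ≠ a := by
    by_contra hcon
    push Not at hcon
    apply hQa
    rw [Subgroup.commutator_eq_bot_iff_le_centralizer]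
    intro q hq
    rw [Subgroup.mem_centralizer_iff]
    intro z hz
    obtain ⟨k, rfl⟩ := Subgroup.mem_zpowers_iff.mp hz
    have h1 : Commute q a := by
      have h2 := hcon q hq
      show q * a = a * q
      calc q * a = q * a * q⁻¹ * q := by group
        _ = a * q := by rw [h2]
    exact (h1.zpow_right k).eq.symm
  obtain ⟨q, hqQ, hqa⟩ := hex
  have hqH : q ∈ H := hQH hqQ
  have hbH : q * a * q⁻¹ ∈ H := H.mul_mem (H.mul_mem hqH haH) (H.inv_mem hqH)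
  have hH₁ : Subgroup.closure {a, q * a * q⁻¹} ≤ H := by
    rw [Subgroup.closure_le]
    rintro x (rfl | rfl)
    · exact haH
    · exact hbH
  have hb' : ⁅⁅V, Subgroup.zpowers (q * a * q⁻¹)⁆, Subgroup.zpowers (q * a * q⁻¹)⁆ = ⊥ := by
    have h1 := congrArg (Subgroup.map (MulAut.conj q).toMonoidHom) ha
    rw [Subgroup.map_commutator, Subgroup.map_commutator, MonoidHom.map_zpowers,
      Cfsg.Agent.S0595.map_conj_eq_of_mem_normalizer V q (hHV hqH), Subgroup.map_bot] at h1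
    exact h1
  -- the element `a⁻¹ * (q a q⁻¹)` of `Q`
  have hxQ : a⁻¹ * (q * a * q⁻¹) ∈ Q := by
    have h1 : a⁻¹ ∈ Subgroup.normalizer (Q : Set G) := Subgroup.inv_mem _ (hQn haH)
    have h2 := (Subgroup.mem_normalizer_iff.mp h1 q).mp hqQ
    rw [inv_inv] at h2
    have h3 := Q.mul_mem h2 (Q.inv_mem hqQ)
    have h4 : a⁻¹ * (q * a * q⁻¹) = a⁻¹ * q * a * q⁻¹ := by group
    rw [h4]; exact h3
  have hxH₁ : a⁻¹ * (q * a * q⁻¹) ∈ Subgroup.closure {a, q * a * q⁻¹} :=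
    Subgroup.mul_mem _ (Subgroup.inv_mem _ (Subgroup.subset_closure (by simp)))
      (Subgroup.subset_closure (by simp))
  have hx1 : a⁻¹ * (q * a * q⁻¹) ≠ 1 := by
    intro h
    apply hqa
    rw [inv_mul_eq_one] at h
    exact h.symm
  have hnp₁ : ¬ IsPGroup p ↥(Subgroup.closure {a, q * a * q⁻¹}) := by
    intro h
    obtain ⟨k, hk⟩ := h ⟨_, hxH₁⟩
    have h1 : (a⁻¹ * (q * a * q⁻¹)) ^ p ^ k = 1 := congrArg Subtype.val hk
    have h2 : (a⁻¹ * (q * a * q⁻¹)) ^ Nat.card Q = 1 := by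
      have h3 := pow_card_eq_one' (G := Q) (x := ⟨_, hxQ⟩)
      exact congrArg Subtype.val h3
    have h4 : a⁻¹ * (q * a * q⁻¹) ∈ (⊥ : Subgroup G) :=
      mem_of_pow_mem_of_coprime ⊥ _ (Nat.card Q) (p ^ k) (Nat.Coprime.pow_right k hQ)
        (Subgroup.mem_bot.mpr h2) (Subgroup.mem_bot.mpr h1)
    exact hx1 (Subgroup.mem_bot.mp h4)
  obtain ⟨K, _, φ, K₀, hK₀, ⟨e⟩⟩ := exists_copy_SL2_of_quadratic_pair hp V
    (Subgroup.closure {a, q * a * q⁻¹}) hV (hH₁.trans hHV)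
    (by
      rw [eq_bot_iff, ← hf]
      exact inf_le_inf_right _ hH₁) a (q * a * q⁻¹) rfl ha hb' hnp₁
  -- commutators of the group generated by `a` and `q a q⁻¹` lie in `Q`
  have hQ'n : (Q.subgroupOf H).Normal := (Subgroup.normal_subgroupOf_iff_le_normalizer hQH).mpr hQn
  have hsub : Subgroup.closure {a, q * a * q⁻¹} ≤
      ((Subgroup.zpowers (QuotientGroup.mk' (Q.subgroupOf H) ⟨a, haH⟩)).comap
        (QuotientGroup.mk' (Q.subgroupOf H))).map H.subtype := by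
    rw [Subgroup.closure_le]
    rintro z (rfl | rfl)
    · exact ⟨⟨z, haH⟩, Subgroup.mem_zpowers _, rfl⟩
    · refine ⟨⟨q * a * q⁻¹, hbH⟩, ?_, rfl⟩
      show QuotientGroup.mk' (Q.subgroupOf H) ⟨q * a * q⁻¹, hbH⟩ ∈
        Subgroup.zpowers (QuotientGroup.mk' (Q.subgroupOf H) ⟨a, haH⟩)
      have h1 : (⟨q * a * q⁻¹, hbH⟩ : H) = ⟨q, hqH⟩ * ⟨a, haH⟩ * ⟨q, hqH⟩⁻¹ := rfl
      have h2 : QuotientGroup.mk' (Q.subgroupOf H) ⟨q, hqH⟩ = 1 :=
        (QuotientGroup.eq_one_iff _).mpr (Subgroup.mem_subgroupOf.mpr hqQ)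
      rw [h1, map_mul, map_mul, map_inv, h2, one_mul, inv_one, mul_one]
      exact Subgroup.mem_zpowers _
  have hcommQ : ∀ h₁ h₂ : G, h₁ ∈ Subgroup.closure {a, q * a * q⁻¹} →
      h₂ ∈ Subgroup.closure {a, q * a * q⁻¹} → ⁅h₁, h₂⁆ ∈ Q := by
    intro h₁ h₂ hh₁ hh₂
    obtain ⟨c₁, hc₁, rfl⟩ := hsub hh₁
    obtain ⟨c₂, hc₂, rfl⟩ := hsub hh₂
    have h1 : QuotientGroup.mk' (Q.subgroupOf H) ⁅c₁, c₂⁆ = 1 := by
      rw [map_commutatorElement, commutatorElement_eq_one_iff_commute]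
      obtain ⟨i, hi⟩ := Subgroup.mem_zpowers_iff.mp hc₁
      obtain ⟨j, hj⟩ := Subgroup.mem_zpowers_iff.mp hc₂
      rw [← hi, ← hj]
      exact ((Commute.refl _).zpow_right j).zpow_left i
    have h2 : ⁅c₁, c₂⁆ ∈ Q.subgroupOf H := (QuotientGroup.eq_one_iff _).mp h1
    exact Subgroup.mem_subgroupOf.mp h2
  have hcomm : ∀ x y : Matrix.SpecialLinearGroup (Fin 2) (ZMod p), ⁅x, y⁆ ^ Nat.card Q = 1 := by
    intro x y
    obtain ⟨h₁, hh₁⟩ := hK₀ (e.symm x).2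
    obtain ⟨h₂, hh₂⟩ := hK₀ (e.symm y).2
    have h1 : ((⁅h₁, h₂⁆ : ↥(Subgroup.closure {a, q * a * q⁻¹})) : G) ∈ Q :=
      hcommQ _ _ h₁.2 h₂.2
    have h2 : (⁅h₁, h₂⁆ : ↥(Subgroup.closure {a, q * a * q⁻¹})) ^ Nat.card Q = 1 := by
      apply Subtype.ext
      have h3 := pow_card_eq_one' (G := Q) (x := ⟨_, h1⟩)
      have h4 := congrArg (fun z : Q => (z : G)) h3
      simp only [Subgroup.coe_pow, Subgroup.coe_one] at h4 ⊢
      exact h4
    have h3 : (⁅e.symm x, e.symm y⁆ : ↥K₀) ^ Nat.card Q = 1 := by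
      apply Subtype.ext
      have h4 : ((⁅e.symm x, e.symm y⁆ : ↥K₀) : Matrix.SpecialLinearGroup (Fin 2) K) =
          φ ⁅h₁, h₂⁆ := by
        rw [map_commutatorElement, hh₁, hh₂]
        rfl
      rw [Subgroup.coe_pow, h4, ← map_pow, h2, map_one]
      rfl
    have h5 := congrArg e h3
    rwa [map_pow, map_commutatorElement, e.apply_symm_apply, e.apply_symm_apply, map_one] at h5
  have hp3 : p = 3 := eq_three_of_forall_comm_pow p hp (Nat.card Q) hQ hcomm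
  refine ⟨hp3, ?_⟩
  obtain ⟨K', L, hL, hK'H, ⟨e'⟩⟩ := exists_section_of_le_range _ φ K₀ hK₀
  have e3 : Nonempty (Matrix.SpecialLinearGroup (Fin 2) (ZMod p) ≃*
      Matrix.SpecialLinearGroup (Fin 2) (ZMod 3)) := by
    subst hp3
    exact ⟨MulEquiv.refl _⟩
  obtain ⟨e3⟩ := e3
  exact ⟨K', L, hL, hK'H.trans hH₁, ⟨(e'.trans e).trans e3⟩⟩

end Cfsg.Agent.S0594
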