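import Cfsg.Statements.S0596
import Mathlib
import Cfsg.Agent.Lib.helper13.SL2Section
import Cfsg.Agent.S0595
import Cfsg.Agent.S0199
import Cfsg.Agent.Lib.helper40.Cores
import Cfsg.Agent.Lib.helper38.HallHigman2

set_option autoImplicit false
open Cfsg

namespace Cfsg.Agent.S0596

open Cfsg.Agent.Lib.helper13

/-- For odd p, a p-separable group with a faithful action on an elementary abelian p-group that is not p-stable has p = 3 and involves SL(2,3). -/
theorem result {G : Type*} [Group G] [Finite G] {p : ℕ} [Fact p.Prime] (hp : p ≠ 2) (V H : Subgroup G) (hV : Cfsg.IsElementaryAbelian p V) (hHV : H ≤ Subgroup.normalizer (V : Set G)) (hf : H ⊓ Subgroup.centralizer (V : Set G) = ⊥) (hsep : Cfsg.IsPSolvable p H) (a : G) (haH : a ∈ H) (hq : ⁅⁅V, Subgroup.zpowers a⁆, Subgroup.zpowers a⁆ = ⊥) (hna : a ∉ (Cfsg.pCore p H).map H.subtype) : p = 3 ∧ ∃ (K L : Subgroup G) (hL : (L.subgroupOf K).Normal), K ≤ H ∧ Nonempty ((K ⧸ L.subgroupOf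 K) ≃* Matrix.SpecialLinearGroup (Fin 2) (ZMod 3)) := by
  have hap : a ^ p = 1 := pow_eq_one_of_quadratic V H hV hHV hf a haH hq
  have hX : IsPGroup p (Subgroup.zpowers (⟨a, haH⟩ : H)) := by
    rintro ⟨g, hg⟩
    obtain ⟨j, rfl⟩ := Subgroup.mem_zpowers_iff.mp hg
    refine ⟨1, ?_⟩
    apply Subtype.ext
    apply Subtype.ext
    simp only [pow_one, Subgroup.coe_pow, Subgroup.coe_zpow, Subgroup.coe_one]
    rw [← zpow_natCast, ← zpow_mul, mul_comm, zpow_mul, zpow_natCast, hap, one_zpow]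
  -- Baer–Suzuki
  have hex : ∃ g : H, ¬ IsPGroup p ↥(Subgroup.zpowers (⟨a, haH⟩ : H) ⊔
      (Subgroup.zpowers (⟨a, haH⟩ : H)).map (MulAut.conj g).toMonoidHom) := by
    by_contra hcon
    push Not at hcon
    obtain ⟨N, hNn, hNp, hXN⟩ := Cfsg.Agent.S0199.result _ hX hcon
    have h1 : N ≤ Cfsg.pCore p H := Cfsg.Agent.Lib.helper40.le_pCore N hNn hNp
    exact hna ⟨⟨a, haH⟩, h1 (hXN (Subgroup.mem_zpowers _)), rfl⟩
  obtain ⟨g, hg⟩ := hex
  -- the subgroup generated by `a` and its conjugate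
  have hbH : (g : G) * a * (g : G)⁻¹ ∈ H := H.mul_mem (H.mul_mem g.2 haH) (H.inv_mem g.2)
  have hH₁ : Subgroup.closure {a, (g : G) * a * (g : G)⁻¹} ≤ H := by
    rw [Subgroup.closure_le]
    rintro x (rfl | rfl)
    · exact haH
    · exact hbH
  have hmap : (Subgroup.zpowers (⟨a, haH⟩ : H) ⊔
      (Subgroup.zpowers (⟨a, haH⟩ : H)).map (MulAut.conj g).toMonoidHom).map H.subtype =
      Subgroup.closure {a, (g : G) * a * (g : G)⁻¹} := by
    rw [Subgroup.map_sup, MonoidHom.map_zpowers, MonoidHom.map_zpowers, MonoidHom.map_zpowers,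
      Subgroup.zpowers_eq_closure, Subgroup.zpowers_eq_closure, ← Subgroup.closure_union]
    rfl
  have hnp : ¬ IsPGroup p ↥(Subgroup.closure {a, (g : G) * a * (g : G)⁻¹}) := by
    intro h
    apply hg
    intro z
    have h1 : ((z : H) : G) ∈ Subgroup.closure {a, (g : G) * a * (g : G)⁻¹} := by
      rw [← hmap]
      exact ⟨z, z.2, rfl⟩
    obtain ⟨k, hk⟩ := h ⟨_, h1⟩
    refine ⟨k, ?_⟩
    apply Subtype.ext
    apply Subtype.ext
    have h2 := congrArg Subtype.val hk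
    simp only [Subgroup.coe_pow, Subgroup.coe_one] at h2 ⊢
    exact h2
  have hb : ⁅⁅V, Subgroup.zpowers ((g : G) * a * (g : G)⁻¹)⁆,
      Subgroup.zpowers ((g : G) * a * (g : G)⁻¹)⁆ = ⊥ := by
    have h1 := congrArg (Subgroup.map (MulAut.conj (g : G)).toMonoidHom) hq
    rw [Subgroup.map_commutator, Subgroup.map_commutator, MonoidHom.map_zpowers,
      Cfsg.Agent.S0595.map_conj_eq_of_mem_normalizer V g (hHV g.2), Subgroup.map_bot] at h1
    exact h1
  obtain ⟨K, _, φ, K₀, hK₀, ⟨e⟩⟩ := exists_copy_SL2_of_quadratic_pair hp V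
    (Subgroup.closure {a, (g : G) * a * (g : G)⁻¹}) hV (hH₁.trans hHV)
    (by
      rw [eq_bot_iff, ← hf]
      exact inf_le_inf_right _ hH₁) a _ rfl hq hb hnp
  -- `p`-solvability passes to `SL₂(p)`
  have hS₁ : Cfsg.IsPSolvable p ↥(Subgroup.closure {a, (g : G) * a * (g : G)⁻¹}) := by
    have h1 : Cfsg.IsPSolvable p
        ↥((Subgroup.closure {a, (g : G) * a * (g : G)⁻¹}).subgroupOf H) :=
      Cfsg.Agent.Lib.helper38.isPSolvable_subgroup _ hsep
    exact Cfsg.Agent.Lib.helper38.isPSolvable_of_surjective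
      (Subgroup.subgroupOfEquivOfLe hH₁).toMonoidHom (Subgroup.subgroupOfEquivOfLe hH₁).surjective h1
  have hS₂ : Cfsg.IsPSolvable p ↥φ.range :=
    Cfsg.Agent.Lib.helper38.isPSolvable_of_surjective φ.rangeRestrict φ.rangeRestrict_surjective hS₁
  have hS₃ : Cfsg.IsPSolvable p ↥(K₀.subgroupOf φ.range) :=
    Cfsg.Agent.Lib.helper38.isPSolvable_subgroup _ hS₂
  have hS₄ : Cfsg.IsPSolvable p ↥K₀ :=
    Cfsg.Agent.Lib.helper38.isPSolvable_of_surjective
      (Subgroup.subgroupOfEquivOfLe hK₀).toMonoidHom (Subgroup.subgroupOfEquivOfLe hK₀).surjective hS₃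
  have hS₅ : Cfsg.IsPSolvable p (Matrix.SpecialLinearGroup (Fin 2) (ZMod p)) :=
    Cfsg.Agent.Lib.helper38.isPSolvable_of_surjective e.toMonoidHom e.surjective hS₄
  have hp3 : p = 3 := eq_three_of_isPSolvable_SL2 p hp hS₅
  refine ⟨hp3, ?_⟩
  obtain ⟨K', L, hL, hK'H, ⟨e'⟩⟩ := exists_section_of_le_range _ φ K₀ hK₀
  have e3 : Nonempty (Matrix.SpecialLinearGroup (Fin 2) (ZMod p) ≃*
      Matrix.SpecialLinearGroup (Fin 2) (ZMod 3)) := by
    subst hp3
    exact ⟨MulEquiv.refl _⟩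
  obtain ⟨e3⟩ := e3
  exact ⟨K', L, hL, hK'H.trans hH₁, ⟨(e'.trans e).trans e3⟩⟩

end Cfsg.Agent.S0596
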