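import Cfsg.Statements.S0597
import Mathlib
import Cfsg.Agent.Lib.helper13.Thompson
import Cfsg.Agent.Lib.helper27.Radical
import Cfsg.Agent.Lib.helper29.Zipper
import Cfsg.Agent.Lib.helper53.Comm

set_option autoImplicit false
open Cfsg

namespace Cfsg.Agent.S0597

open Cfsg.Agent.Lib.helper13
open scoped commutatorElement

/-- The elements centralizing `W` and acting trivially on `V` modulo `W`. -/
def stab {G : Type*} [Group G] (V W : Subgroup G) : Subgroup G where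
  carrier := {g | g ∈ Subgroup.centralizer (W : Set G) ∧ ∀ v ∈ V, g * v * g⁻¹ * v⁻¹ ∈ W}
  one_mem' := ⟨Subgroup.one_mem _, fun v _ => by
    have : (1 : G) * v * 1⁻¹ * v⁻¹ = 1 := by group
    rw [this]; exact W.one_mem⟩
  mul_mem' := by
    rintro g h ⟨hg, hgV⟩ ⟨hh, hhV⟩
    refine ⟨Subgroup.mul_mem _ hg hh, fun v hv => ?_⟩
    have h1 := hhV v hv
    have h2 := (Subgroup.mem_centralizer_iff.mp hg) _ h1
    have h3 : g * h * v * (g * h)⁻¹ * v⁻¹ = (g * (h * v * h⁻¹ * v⁻¹)) * g⁻¹ * (g * v * g⁻¹ * v⁻¹) := by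
      group
    rw [h3, ← h2]
    have h4 : h * v * h⁻¹ * v⁻¹ * g * g⁻¹ = h * v * h⁻¹ * v⁻¹ := by group
    rw [h4]
    exact W.mul_mem h1 (hgV v hv)
  inv_mem' := by
    rintro g ⟨hg, hgV⟩
    refine ⟨Subgroup.inv_mem _ hg, fun v hv => ?_⟩
    have h1 := hgV v hv
    have h2 := (Subgroup.mem_centralizer_iff.mp hg) _ (W.inv_mem h1)
    have h3 : g⁻¹ * v * g⁻¹⁻¹ * v⁻¹ = g⁻¹ * ((g * v * g⁻¹ * v⁻¹)⁻¹ * g) := by group
    rw [h3, h2]
    have h4 : g⁻¹ * (g * (g * v * g⁻¹ * v⁻¹)⁻¹) = (g * v * g⁻¹ * v⁻¹)⁻¹ := by group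
    rw [h4]
    exact W.inv_mem h1

theorem mem_stab {G : Type*} [Group G] (V W : Subgroup G) (g : G) :
    g ∈ stab V W ↔ g ∈ Subgroup.centralizer (W : Set G) ∧ ∀ v ∈ V, g * v * g⁻¹ * v⁻¹ ∈ W :=
  Iff.rfl

theorem pow_conj_of_mem_stab {G : Type*} [Group G] (V W : Subgroup G) (g : G) (hg : g ∈ stab V W)
    (v : G) (hv : v ∈ V) (k : ℕ) :
    g ^ k * v * (g ^ k)⁻¹ = (g * v * g⁻¹ * v⁻¹) ^ k * v := by
  obtain ⟨hgC, hgV⟩ := hg
  have hw := hgV v hv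
  have hcomm : (g * v * g⁻¹ * v⁻¹) * g = g * (g * v * g⁻¹ * v⁻¹) :=
    (Subgroup.mem_centralizer_iff.mp hgC) _ hw
  induction k with
  | zero => group
  | succ k ih =>
    have hc2 : g * (g * v * g⁻¹ * v⁻¹) ^ k = (g * v * g⁻¹ * v⁻¹) ^ k * g := by
      have : Commute g (g * v * g⁻¹ * v⁻¹) := hcomm.symm
      exact (this.pow_right k).eq
    calc g ^ (k + 1) * v * (g ^ (k + 1))⁻¹ = g * (g ^ k * v * (g ^ k)⁻¹) * g⁻¹ := by
          rw [pow_succ']; group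
      _ = g * ((g * v * g⁻¹ * v⁻¹) ^ k * v) * g⁻¹ := by rw [ih]
      _ = (g * (g * v * g⁻¹ * v⁻¹) ^ k) * v * g⁻¹ := by group
      _ = ((g * v * g⁻¹ * v⁻¹) ^ k * g) * v * g⁻¹ := by rw [hc2]
      _ = (g * v * g⁻¹ * v⁻¹) ^ k * (g * v * g⁻¹ * v⁻¹) * v := by group
      _ = (g * v * g⁻¹ * v⁻¹) ^ (k + 1) * v := by rw [pow_succ]

theorem result {G : Type*} [Group G] [Finite G] {p : ℕ} [Fact p.Prime] (V H : Subgroup G) (hV : Cfsg.IsElementaryAbelian p V) (hHV : H ≤ Subgroup.normalizer (V : Set G)) (hf : H ⊓ Subgroup.centralizer (V : Set G) = ⊥) (E₁ E₂ : Subgroup G) (h₁ : E₁ ≤ H) (h₂ : E₂ ≤ H) (hs₁ : (E₁.subgroupOf H).IsSubnormal) (hs₂ : (E₂.subgroupOf H).IsSubnormal) (hc : ⁅⁅V, E₁⁆, E₂⁆ = ⊥) : ⁅E₁, E₂⁆ ≤ (Cfsg.pCore p H).map H.subtype := by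
  set W := ⁅V, E₁⁆ with hW
  have hE₁V : E₁ ≤ Subgroup.normalizer (V : Set G) := h₁.trans hHV
  have hE₂V : E₂ ≤ Subgroup.normalizer (V : Set G) := h₂.trans hHV
  have hWV : W ≤ V := Cfsg.Agent.Lib.helper53.commutator_le_left_of_le_normalizer hE₁V
  have hE₁W : E₁ ≤ Subgroup.normalizer (W : Set G) :=
    Cfsg.Agent.Lib.helper53.le_normalizer_commutator_right V E₁
  have hE₂W : E₂ ≤ Subgroup.centralizer (W : Set G) := by
    rw [Subgroup.le_centralizer_iff]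
    exact Subgroup.commutator_eq_bot_iff_le_centralizer.mp hc
  have hVp := ((isElementaryAbelian_iff V).mp hV).2
  -- D ≤ stab V W
  have hD : ⁅E₁, E₂⁆ ≤ stab V W := by
    rw [Subgroup.commutator_le]
    intro x hx y hy
    have hyC := Subgroup.mem_centralizer_iff.mp (hE₂W hy)
    have hxW : ∀ w ∈ W, x * w * x⁻¹ ∈ W := fun w hw =>
      (Subgroup.mem_normalizer_iff.mp (hE₁W hx) w).mp hw
    have hxW' : ∀ w ∈ W, x⁻¹ * w * x ∈ W := by
      intro w hw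
      have := (Subgroup.mem_normalizer_iff.mp (hE₁W (E₁.inv_mem hx)) w).mp hw
      rwa [inv_inv] at this
    have hxP : ∀ x ∈ E₁, ∀ v ∈ V, x * v * x⁻¹ * v⁻¹ ∈ W := by
      intro x hx v hv
      have h1 : ⁅x, v⁆ ∈ ⁅E₁, V⁆ := Subgroup.commutator_mem_commutator hx hv
      rw [Subgroup.commutator_comm] at h1
      exact h1
    rw [mem_stab]
    constructor
    · -- commutator centralizes W
      rw [Subgroup.mem_centralizer_iff]
      intro w hw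
      have h1 := hyC w hw
      have h2 := hyC _ (hxW' w hw)
      have h3 : w * y⁻¹ = y⁻¹ * w := by
        calc w * y⁻¹ = y⁻¹ * (y * w) * y⁻¹ := by group
          _ = y⁻¹ * (w * y) * y⁻¹ := by rw [h1]
          _ = y⁻¹ * w := by group
      rw [commutatorElement_def]
      calc w * (x * y * x⁻¹ * y⁻¹) = x * ((x⁻¹ * w * x) * y) * x⁻¹ * y⁻¹ := by group
        _ = x * (y * (x⁻¹ * w * x)) * x⁻¹ * y⁻¹ := by rw [h2]
        _ = x * y * x⁻¹ * (w * y⁻¹) := by group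
        _ = x * y * x⁻¹ * (y⁻¹ * w) := by rw [h3]
        _ = x * y * x⁻¹ * y⁻¹ * w := by group
    · intro v hv
      have hv₁ : y⁻¹ * v * y ∈ V := by
        have := (Subgroup.mem_normalizer_iff.mp (hE₂V (E₂.inv_mem hy)) v).mp hv
        rwa [inv_inv] at this
      have hw₁ : x⁻¹ * (y⁻¹ * v * y) * x * (y⁻¹ * v * y)⁻¹ ∈ W := by
        have := hxP x⁻¹ (E₁.inv_mem hx) _ hv₁
        rwa [inv_inv] at this
      have hyw := hyC _ hw₁
      have e : ⁅x, y⁆ * v * ⁅x, y⁆⁻¹ * v⁻¹ =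
          (x * (x⁻¹ * (y⁻¹ * v * y) * x * (y⁻¹ * v * y)⁻¹) * x⁻¹) * (x * v * x⁻¹ * v⁻¹) := by
        calc ⁅x, y⁆ * v * ⁅x, y⁆⁻¹ * v⁻¹
            = x * ((y * (x⁻¹ * (y⁻¹ * v * y) * x * (y⁻¹ * v * y)⁻¹)) * y⁻¹) * v * x⁻¹ * v⁻¹ := by
              rw [commutatorElement_def]; group
          _ = x * (((x⁻¹ * (y⁻¹ * v * y) * x * (y⁻¹ * v * y)⁻¹) * y) * y⁻¹) * v * x⁻¹ * v⁻¹ := by
              rw [hyw]
          _ = (x * (x⁻¹ * (y⁻¹ * v * y) * x * (y⁻¹ * v * y)⁻¹) * x⁻¹) * (x * v * x⁻¹ * v⁻¹) := by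
              group
      rw [e]
      exact W.mul_mem (hxW _ hw₁) (hxP x hx v hv)
  have hDH : ⁅E₁, E₂⁆ ≤ H := by
    rw [Subgroup.commutator_le]
    intro x hx y hy
    rw [commutatorElement_def]
    exact H.mul_mem (H.mul_mem (H.mul_mem (h₁ hx) (h₂ hy)) (H.inv_mem (h₁ hx))) (H.inv_mem (h₂ hy))
  -- D is a p-group
  have hDp : IsPGroup p (⁅E₁, E₂⁆ : Subgroup G) := by
    intro d
    refine ⟨1, ?_⟩
    apply Subtype.ext
    rw [pow_one, Subgroup.coe_pow, Subgroup.coe_one]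
    have hdS := hD d.2
    have h1 : (d : G) ^ p ∈ H ⊓ Subgroup.centralizer (V : Set G) := by
      refine Subgroup.mem_inf.mpr ⟨H.pow_mem (hDH d.2) p, ?_⟩
      rw [Subgroup.mem_centralizer_iff]
      intro v hv
      have h2 := pow_conj_of_mem_stab V W d hdS v hv p
      have h3 : ((d : G) * v * (d : G)⁻¹ * v⁻¹) ^ p = 1 := hVp _ (hWV (hdS.2 v hv))
      rw [h3, one_mul] at h2
      generalize (d : G) ^ p = q at h2 ⊢
      calc v * q = (q * v * q⁻¹) * q := by rw [h2]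
        _ = q * v := by group
    rw [hf, Subgroup.mem_bot] at h1
    exact h1
  -- D is subnormal in H
  have hsn₁ : Cfsg.Agent.Lib.helper29.SNChain E₁ H :=
    Cfsg.Agent.Lib.helper29.snChain_iff.mpr ⟨h₁, hs₁⟩
  have hsn₂ : Cfsg.Agent.Lib.helper29.SNChain E₂ H :=
    Cfsg.Agent.Lib.helper29.snChain_iff.mpr ⟨h₂, hs₂⟩
  have hsn := hsn₁.sup hsn₂
  have hDE : ⁅E₁, E₂⁆ ≤ E₁ ⊔ E₂ := by
    rw [Subgroup.commutator_le]
    intro x hx y hy
    rw [commutatorElement_def]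
    have hx' : x ∈ E₁ ⊔ E₂ := Subgroup.mem_sup_left hx
    have hy' : y ∈ E₁ ⊔ E₂ := Subgroup.mem_sup_right hy
    exact Subgroup.mul_mem _ (Subgroup.mul_mem _ (Subgroup.mul_mem _ hx' hy')
      (Subgroup.inv_mem _ hx')) (Subgroup.inv_mem _ hy')
  have hDn : Cfsg.Agent.Lib.helper29.SNChain (⁅E₁, E₂⁆ : Subgroup G) (E₁ ⊔ E₂) :=
    Cfsg.Agent.Lib.helper29.SNChain.of_normal hDE
      (sup_le (Cfsg.Agent.Lib.helper53.le_normalizer_commutator_left E₁ E₂)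
        (Cfsg.Agent.Lib.helper53.le_normalizer_commutator_right E₁ E₂))
  have hDsn := (Cfsg.Agent.Lib.helper29.snChain_iff.mp (hDn.trans hsn)).2
  exact Cfsg.Agent.Lib.helper27.le_map_pCore_of_subnormal hDH hDsn hDp

end Cfsg.Agent.S0597
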