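import Cfsg.Statements.S0600
import Mathlib
import Cfsg.Agent.Lib.helper13.PCoreAct

set_option autoImplicit false
open Cfsg

namespace Cfsg.Agent.S0600

open Cfsg.Agent.Lib.helper13

theorem pCore_quot_eq_bot {G : Type*} [Group G] [Finite G] {p : ℕ} [Fact p.Prime] (C : Subgroup G)
    [C.Normal]
    (h : ∀ D : Subgroup G, D.Normal → C ≤ D → (∃ k : ℕ, C.relIndex D = p ^ k) → D = C) :
    Cfsg.pCore p (G ⧸ C) = ⊥ := by
  have hOn : (Cfsg.pCore p (G ⧸ C)).Normal := Subgroup.sSup_normal _ (fun _ h => h.1)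
  have hOp : IsPGroup p (Cfsg.pCore p (G ⧸ C)) :=
    Sylow.sSup_of_normal _ (fun _ h => h.2) (fun _ h => h.1)
  set O := Cfsg.pCore p (G ⧸ C) with hO
  have hDn : (O.comap (QuotientGroup.mk' C)).Normal := hOn.comap _
  have hCD : C ≤ O.comap (QuotientGroup.mk' C) := by
    intro c hc
    rw [Subgroup.mem_comap]
    have : (QuotientGroup.mk' C) c = 1 := by
      rw [QuotientGroup.mk'_apply, QuotientGroup.eq_one_iff]; exact hc
    rw [this]; exact O.one_mem
  have hmap : (O.comap (QuotientGroup.mk' C)).map (QuotientGroup.mk' C) = O :=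
    Subgroup.map_comap_eq_self_of_surjective (QuotientGroup.mk'_surjective C) O
  have hidx : ∃ k : ℕ, C.relIndex (O.comap (QuotientGroup.mk' C)) = p ^ k := by
    obtain ⟨k, hk⟩ := IsPGroup.iff_card.mp hOp
    refine ⟨k, ?_⟩
    have h1 : ((⊥ : Subgroup (G ⧸ C)).comap (QuotientGroup.mk' C)).relIndex
        (O.comap (QuotientGroup.mk' C)) = p ^ k := by
      rw [Subgroup.relIndex_comap, hmap, Subgroup.relIndex_bot_left, hk]
    have h2 : (⊥ : Subgroup (G ⧸ C)).comap (QuotientGroup.mk' C) = C := by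
      ext x
      rw [Subgroup.mem_comap, Subgroup.mem_bot, QuotientGroup.mk'_apply, QuotientGroup.eq_one_iff]
    rwa [h2] at h1
  have hD := h _ hDn hCD hidx
  rw [← hmap, hD]
  exact QuotientGroup.map_mk'_self C

theorem result {G : Type*} [Group G] [Finite G] {p : ℕ} [Fact p.Prime] (V : Subgroup G) [V.Normal] (hV : Cfsg.IsElementaryAbelian p V) (hgen : V = ⨆ S : Sylow p G, V ⊓ Subgroup.centralizer ((S : Subgroup G) : Set G)) : Cfsg.pCore p (G ⧸ Subgroup.centralizer (V : Set G)) = ⊥ := by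
  apply pCore_quot_eq_bot
  intro D hDn hCD hidx
  exact eq_centralizer_of_relIndex_pow V
    (fun S => V ⊓ Subgroup.centralizer ((S : Subgroup G) : Set G)) (fun S => inf_le_right) hgen D hCD hidx

end Cfsg.Agent.S0600
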