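import Cfsg.Statements.S0609
import Mathlib
import Cfsg.Agent.Lib.helper13.ThompsonQuot
import Cfsg.Agent.Lib.helper13.SylowIn
import Cfsg.Agent.Lib.helper40.Cores
import Cfsg.Agent.S0601

set_option autoImplicit false
open Cfsg

namespace Cfsg.Agent.S0609

open Cfsg.Agent.Lib.helper13
open scoped Pointwise

theorem pPrimeCore_quot_eq_bot (p : ℕ) (G : Type*) [Group G] [Finite G] :
    Cfsg.pPrimeCore p (G ⧸ Cfsg.pPrimeCore p G) = ⊥ := by
  set N := Cfsg.pPrimeCore p G with hN
  set O := Cfsg.pPrimeCore p (G ⧸ N) with hO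
  have hmap : (O.comap (QuotientGroup.mk' N)).map (QuotientGroup.mk' N) = O :=
    Subgroup.map_comap_eq_self_of_surjective (QuotientGroup.mk'_surjective N) O
  have hNK : N ≤ O.comap (QuotientGroup.mk' N) := by
    intro c hc
    rw [Subgroup.mem_comap]
    have : (QuotientGroup.mk' N) c = 1 := by
      rw [QuotientGroup.mk'_apply, QuotientGroup.eq_one_iff]; exact hc
    rw [this]; exact O.one_mem
  have h1 : ((⊥ : Subgroup (G ⧸ N)).comap (QuotientGroup.mk' N)).relIndex
      (O.comap (QuotientGroup.mk' N)) = Nat.card O := by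
    rw [Subgroup.relIndex_comap, hmap, Subgroup.relIndex_bot_left]
  have h2 : (⊥ : Subgroup (G ⧸ N)).comap (QuotientGroup.mk' N) = N := by
    ext x
    rw [Subgroup.mem_comap, Subgroup.mem_bot, QuotientGroup.mk'_apply, QuotientGroup.eq_one_iff]
  rw [h2] at h1
  have h3 := relIndex_mul_card_of_le hNK
  rw [h1] at h3
  have hc1 : (Nat.card O).Coprime p := Cfsg.Agent.Lib.helper40.pPrimeCore_card_coprime p (G ⧸ N)
  have hc2 : (Nat.card N).Coprime p := Cfsg.Agent.Lib.helper40.pPrimeCore_card_coprime p G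
  have hc3 : (Nat.card (O.comap (QuotientGroup.mk' N))).Coprime p := by
    rw [← h3]; exact Nat.Coprime.mul_left hc1 hc2
  have hKn : (O.comap (QuotientGroup.mk' N)).Normal := Subgroup.Normal.comap inferInstance _
  have hKN : O.comap (QuotientGroup.mk' N) ≤ N :=
    Cfsg.Agent.Lib.helper40.le_pPrimeCore _ hKn hc3
  rw [← hmap, eq_bot_iff]
  refine (Subgroup.map_mono hKN).trans ?_
  rw [QuotientGroup.map_mk'_self]

theorem result {G : Type*} [Group G] [Finite G] {p : ℕ} [Fact p.Prime] : Cfsg.IsThompsonFactorizable p G ↔ Cfsg.IsThompsonFactorizable p (G ⧸ Cfsg.pPrimeCore p G) := by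
  set N := Cfsg.pPrimeCore p G with hN
  have hNc : (Nat.card N).Coprime p := Cfsg.Agent.Lib.helper40.pPrimeCore_card_coprime p G
  have hsurj : Function.Surjective (QuotientGroup.mk' N) := QuotientGroup.mk'_surjective N
  have hinj : ∀ S : Sylow p G, Set.InjOn (QuotientGroup.mk' N) ((S : Subgroup G) : Set G) := by
    intro S s hs t ht hst
    have h1 : s⁻¹ * t ∈ N := by
      rw [← QuotientGroup.eq]; exact hst
    have h2 := eq_one_of_mem_pGroup_of_mem_coprime hNc S.isPGroup'
      ((S : Subgroup G).mul_mem ((S : Subgroup G).inv_mem hs) ht) h1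
    exact inv_mul_eq_one.mp h2
  have hker : ∀ x : G, (QuotientGroup.mk' N) x = 1 ↔ x ∈ N := by
    intro x
    rw [QuotientGroup.mk'_apply, QuotientGroup.eq_one_iff]
  constructor
  · intro hTF Sb gb
    obtain ⟨S, rfl⟩ := Sylow.mapSurjective_surjective hsurj p Sb
    obtain ⟨g, rfl⟩ := hsurj gb
    obtain ⟨x, hx, c, hc, n, hn, rfl⟩ := hTF S g
    refine ⟨1, Subgroup.one_mem _, (QuotientGroup.mk' N) c, ?_, (QuotientGroup.mk' N) n, ?_, ?_⟩
    · rw [Sylow.coe_mapSurjective, omegaOne_center_map_of_injOn _ _ (hinj S),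
        Subgroup.mem_centralizer_iff]
      rintro _ ⟨w, hw, rfl⟩
      rw [← map_mul, ← map_mul, (Subgroup.mem_centralizer_iff.mp hc) w hw]
    · rw [Sylow.coe_mapSurjective, thompsonSubgroupOf_map_of_injOn _ _ (hinj S)]
      exact Subgroup.le_normalizer_map _ (Subgroup.mem_map_of_mem _ hn)
    · rw [map_mul, map_mul, (hker x).mpr hx]
  · intro hTF S g
    obtain ⟨xb, hxb, cb, hcb, nb, hnb, hg⟩ := hTF (S.mapSurjective hsurj) ((QuotientGroup.mk' N) g)
    rw [pPrimeCore_quot_eq_bot, Subgroup.mem_bot] at hxb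
    subst hxb
    obtain ⟨c', rfl⟩ := hsurj cb
    obtain ⟨n', rfl⟩ := hsurj nb
    rw [Sylow.coe_mapSurjective, omegaOne_center_map_of_injOn _ _ (hinj S)] at hcb
    rw [Sylow.coe_mapSurjective, thompsonSubgroupOf_map_of_injOn _ _ (hinj S)] at hnb
    set Z := Cfsg.omegaOne p ((S : Subgroup G) ⊓ Subgroup.centralizer ((S : Subgroup G) : Set G))
      with hZ
    set J := Cfsg.thompsonSubgroupOf p (S : Subgroup G) with hJ
    have hZp : IsPGroup p Z :=
      S.isPGroup'.to_le ((Cfsg.Agent.S0601.omegaOne_le p _).trans inf_le_left)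
    have hJp : IsPGroup p J := S.isPGroup'.to_le (thompsonSubgroupOf_le_self _)
    -- c' centralizes Z modulo N
    have hc1 : ∀ z ∈ Z, c' * z * c'⁻¹ * z⁻¹ ∈ N := by
      intro z hz
      rw [← hker]
      have h1 := (Subgroup.mem_centralizer_iff.mp hcb) _ (Subgroup.mem_map_of_mem _ hz)
      rw [map_mul, map_mul, map_mul, map_inv, map_inv, ← h1]
      group
    obtain ⟨y, hy, a, ha, rfl⟩ := exists_mul_centralizer_of_commutator_mem N Z hNc hZp c' hc1
    -- n' normalizes J modulo N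
    have hn1 : ∀ x ∈ J, n' * x * n'⁻¹ ∈ J ⊔ N := by
      intro x hx
      have h1 := (Subgroup.mem_normalizer_iff.mp hnb _).mp (Subgroup.mem_map_of_mem _ hx)
      obtain ⟨j, hj, hj'⟩ := h1
      have h2 : j⁻¹ * (n' * x * n'⁻¹) ∈ N := by
        rw [← hker, map_mul, map_inv, hj', map_mul, map_mul, map_inv]
        group
      have h3 : n' * x * n'⁻¹ = j * (j⁻¹ * (n' * x * n'⁻¹)) := by group
      rw [h3]
      exact Subgroup.mul_mem _ (Subgroup.mem_sup_left hj) (Subgroup.mem_sup_right h2)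
    obtain ⟨y', hy', b, hb, rfl⟩ := exists_mul_normalizer_of_conj_mem_sup N J hNc hJp n' hn1
    have hx0 : g * (y * a * (y' * b))⁻¹ ∈ N := by
      rw [← hker, map_mul, hg, one_mul, ← map_mul, ← map_mul, mul_inv_cancel, map_one]
    have hNn : N.Normal := inferInstance
    refine ⟨g * (y * a * (y' * b))⁻¹ * y * (a * y' * a⁻¹), ?_, a, ha, b, hb, by group⟩
    exact N.mul_mem (N.mul_mem hx0 hy) (hNn.conj_mem y' hy' a)

end Cfsg.Agent.S0609
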