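import Cfsg.Statements.S0615
import Mathlib
import Cfsg.Agent.S0597
import Cfsg.Agent.Lib.helper13.Thompson
import Cfsg.Agent.Lib.helper13.Count
import Cfsg.Agent.Lib.helper27.Radical
import Cfsg.Agent.Lib.helper27.PLocal
import Cfsg.Agent.Lib.helper29.Zipper
import Cfsg.Agent.Lib.helper53.Comm

set_option autoImplicit false
open Cfsg

namespace Cfsg.Agent.S0615

open Cfsg.Agent.Lib.helper13 Cfsg.Agent.Lib.helper29 Cfsg.Agent.Lib.helper53
open scoped commutatorElement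

variable {G : Type*} [Group G]

/-- Irreducibility of `Y` on `[V, Y]`, as in the statement. -/
def Irr (V Y : Subgroup G) : Prop :=
  ∀ U : Subgroup G, U ≤ ⁅V, Y⁆ → Y ≤ Subgroup.normalizer (U : Set G) → U = ⊥ ∨ U = ⁅V, Y⁆

/-- No nontrivial subnormal `p`-subgroup. -/
def HP (p : ℕ) (E : Subgroup G) : Prop :=
  ∀ R : Subgroup G, SNChain R E → IsPGroup p R → R = ⊥

theorem exists_proper_normal {S H : Subgroup G} (h : SNChain S H) (hne : S ≠ H) :
    ∃ M : Subgroup G, S ≤ M ∧ M ≤ H ∧ M ≠ H ∧ H ≤ Subgroup.normalizer (M : Set G) := by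
  induction h with
  | refl H => exact absurd rfl hne
  | step S K H hSK hKS hK ih =>
    by_cases hKH : K = H
    · subst hKH
      exact ⟨S, le_rfl, hSK, hne, hKS⟩
    · obtain ⟨M, h1, h2, h3, h4⟩ := ih hKH
      exact ⟨M, hSK.trans h1, h2, h3, h4⟩

theorem conj_mul_inv_mem {V Y : Subgroup G} {r v : G} (hr : r ∈ Y) (hv : v ∈ V) :
    r * v * r⁻¹ * v⁻¹ ∈ ⁅V, Y⁆ := by
  have h1 : ⁅r, v⁆ ∈ ⁅Y, V⁆ := Subgroup.commutator_mem_commutator hr hv
  rw [Subgroup.commutator_comm] at h1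
  exact h1

theorem isPGroup_of_stab [Finite G] {p : ℕ} [Fact p.Prime] {V W R : Subgroup G}
    (hV : Cfsg.IsElementaryAbelian p V) (hWV : W ≤ V)
    (hRW : R ≤ Subgroup.centralizer (W : Set G))
    (hRV : ∀ r ∈ R, ∀ v ∈ V, r * v * r⁻¹ * v⁻¹ ∈ W)
    (hf : R ⊓ Subgroup.centralizer (V : Set G) = ⊥) : IsPGroup p R := by
  have hVp := ((isElementaryAbelian_iff V).mp hV).2
  intro d
  refine ⟨1, ?_⟩
  apply Subtype.ext
  rw [pow_one, Subgroup.coe_pow, Subgroup.coe_one]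
  have hdS : (d : G) ∈ Cfsg.Agent.S0597.stab V W := ⟨hRW d.2, hRV d d.2⟩
  have h1 : (d : G) ^ p ∈ R ⊓ Subgroup.centralizer (V : Set G) := by
    refine Subgroup.mem_inf.mpr ⟨R.pow_mem d.2 p, ?_⟩
    rw [Subgroup.mem_centralizer_iff]
    intro v hv
    have h2 := Cfsg.Agent.S0597.pow_conj_of_mem_stab V W d hdS v hv p
    have h3 : ((d : G) * v * (d : G)⁻¹ * v⁻¹) ^ p = 1 := hVp _ (hWV (hdS.2 v hv))
    rw [h3, one_mul] at h2
    generalize (d : G) ^ p = q at h2 ⊢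
    calc v * q = (q * v * q⁻¹) * q := by rw [h2]
      _ = q * v := by group
  rw [hf, Subgroup.mem_bot] at h1
  exact h1

theorem mem_normalizer_centralizer [Finite G] {A : Subgroup G} {g : G}
    (hg : g ∈ Subgroup.normalizer (A : Set G)) :
    g ∈ Subgroup.normalizer ((Subgroup.centralizer (A : Set G) : Subgroup G) : Set G) := by
  apply mem_normalizer_of_conj_le
  rw [conj_le_iff]
  intro h hh
  rw [Subgroup.mem_centralizer_iff] at hh ⊢
  intro a ha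
  have ha' : g⁻¹ * a * g ∈ A := by
    have := (Subgroup.mem_normalizer_iff.mp (Subgroup.inv_mem _ hg) a).mp ha
    rwa [inv_inv] at this
  have h1 := hh _ ha'
  calc a * (g * h * g⁻¹) = g * ((g⁻¹ * a * g) * h) * g⁻¹ := by group
    _ = g * (h * (g⁻¹ * a * g)) * g⁻¹ := by rw [h1]
    _ = g * h * g⁻¹ * a := by group

theorem mem_normalizer_inf {A B : Subgroup G} {g : G}
    (hA : g ∈ Subgroup.normalizer (A : Set G)) (hB : g ∈ Subgroup.normalizer (B : Set G)) :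
    g ∈ Subgroup.normalizer ((A ⊓ B : Subgroup G) : Set G) := by
  rw [Subgroup.mem_normalizer_iff] at hA hB ⊢
  intro h
  rw [Subgroup.mem_inf, Subgroup.mem_inf, hA h, hB h]

theorem le_normalizer_of_abelian {p : ℕ} {V A B : Subgroup G}
    (hV : Cfsg.IsElementaryAbelian p V) (hA : A ≤ V) (hB : B ≤ V) :
    A ≤ Subgroup.normalizer (B : Set G) := by
  have hc := ((isElementaryAbelian_iff V).mp hV).1
  intro a ha
  apply Subgroup.centralizer_le_normalizer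
  rw [Subgroup.mem_centralizer_iff]
  intro b hb
  exact hc b (hB hb) a (hA ha)

theorem irr_conj {V Y : Subgroup G} (h : Irr V Y) {e : G}
    (he : e ∈ Subgroup.normalizer (V : Set G)) :
    Irr V (Y.map (MulAut.conj e).toMonoidHom) := by
  have hcomm : ⁅V, Y.map (MulAut.conj e).toMonoidHom⁆ =
      (⁅V, Y⁆).map (MulAut.conj e).toMonoidHom := by
    rw [Subgroup.map_commutator, conj_eq_self_of_mem_normalizer he]
  intro U hU hYU
  rw [hcomm] at hU ⊢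
  have h1 : U.map (MulAut.conj e⁻¹).toMonoidHom ≤ ⁅V, Y⁆ := le_conj_iff.mp hU
  have h2 : Y ≤ Subgroup.normalizer
      ((U.map (MulAut.conj e⁻¹).toMonoidHom : Subgroup G) : Set G) := by
    rw [normalizer_conj, le_conj_iff, inv_inv]
    exact hYU
  rcases h _ h1 h2 with h3 | h3
  · left
    rwa [Subgroup.map_eq_bot_iff_of_injective _ (MulAut.conj e⁻¹).injective] at h3
  · right
    rw [← h3, conj_conj, mul_inv_cancel, conj_one]

theorem snChain_inf {S H : Subgroup G} (h : SNChain S H) (L : Subgroup G) (hL : L ≤ H) :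
    SNChain (S ⊓ L) L := by
  induction h with
  | refl H => rw [inf_of_le_right hL]; exact SNChain.refl L
  | step S K H hSK hKS hK ih =>
    refine SNChain.step _ (K ⊓ L) L (inf_le_inf_right L hSK) ?_ (ih hL)
    intro k hk
    exact mem_normalizer_inf (hKS (Subgroup.mem_inf.mp hk).1)
      (Subgroup.le_normalizer (Subgroup.mem_inf.mp hk).2)

theorem snChain_of_le {S H L : Subgroup G} (h : SNChain S H) (hSL : S ≤ L) (hL : L ≤ H) :
    SNChain S L := by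
  have := snChain_inf h L hL
  rwa [inf_of_le_left hSL] at this

theorem lemN {V X Y : Subgroup G}
    (hYV : Y ≤ Subgroup.normalizer (V : Set G))
    (hX : Irr V X) (hne : ¬ ⁅V, X⁆ ≤ ⁅V, Y⁆)
    (hN : X ≤ Subgroup.normalizer ((⁅V, Y⁆ : Subgroup G) : Set G)) :
    ⁅V, X⁆ ⊓ ⁅V, Y⁆ = ⊥ ∧ ⁅⁅V, Y⁆, X⁆ = ⊥ := by
  have h1 : ⁅V, X⁆ ⊓ ⁅V, Y⁆ = ⊥ := by
    rcases hX (⁅V, X⁆ ⊓ ⁅V, Y⁆) inf_le_left
      (fun x hx => mem_normalizer_inf (le_normalizer_commutator_right V X hx) (hN hx)) with h | h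
    · exact h
    · exact absurd (inf_eq_left.mp h) hne
  refine ⟨h1, ?_⟩
  rw [eq_bot_iff, ← h1]
  refine le_inf ?_ ?_
  · exact Subgroup.commutator_mono (commutator_le_left_of_le_normalizer hYV) le_rfl
  · exact commutator_le_left_of_le_normalizer hN

theorem good_case [Finite G] {p : ℕ} [Fact p.Prime] (V E X Y : Subgroup G)
    (hV : Cfsg.IsElementaryAbelian p V)
    (hEV : E ≤ Subgroup.normalizer (V : Set G))
    (hf : E ⊓ Subgroup.centralizer (V : Set G) = ⊥)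
    (hsX : SNChain X E) (hsY : SNChain Y E) (hP : HP p E) (hX : Irr V X)
    (hne : ¬ ⁅V, X⁆ ≤ ⁅V, Y⁆)
    (hN : X ≤ Subgroup.normalizer ((⁅V, Y⁆ : Subgroup G) : Set G)) :
    ⁅Y, X⁆ = ⊥ ∧ ⁅V, X⁆ ⊓ ⁅V, Y⁆ = ⊥ := by
  obtain ⟨h1, h2⟩ := lemN (hsY.le.trans hEV) hX hne hN
  refine ⟨?_, h1⟩
  have h3 := Cfsg.Agent.S0597.result V E hV hEV hf Y X hsY.le hsX.le
    (snChain_iff.mp hsY).2 (snChain_iff.mp hsX).2 h2
  have h4 : (Cfsg.pCore p E).map E.subtype = ⊥ := by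
    apply hP
    · exact SNChain.of_normal (Subgroup.map_subtype_le _)
        (Cfsg.Agent.Lib.helper27.le_normalizer_map_subtype_of_characteristic E (Cfsg.pCore p E))
    · exact Cfsg.Agent.Lib.helper27.map_pCore_isPGroup p E
  rw [h4] at h3
  exact eq_bot_iff.mpr h3

theorem step2 [Finite G] {p : ℕ} [Fact p.Prime] (V E : Subgroup G)
    (hEV : E ≤ Subgroup.normalizer (V : Set G))
    (hf : E ⊓ Subgroup.centralizer (V : Set G) = ⊥) (hP : HP p E)
    (IH : ∀ L Y₁ Y₂ : Subgroup G, Nat.card L < Nat.card E →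
      L ≤ Subgroup.normalizer (V : Set G) → L ⊓ Subgroup.centralizer (V : Set G) = ⊥ →
      L = Y₁ ⊔ Y₂ → SNChain Y₁ L → SNChain Y₂ L → HP p L → Irr V Y₁ → Irr V Y₂ →
      ¬ ⁅V, Y₁⁆ ≤ ⁅V, Y₂⁆ → ¬ ⁅V, Y₂⁆ ≤ ⁅V, Y₁⁆ → 2 < Nat.card Y₁ → 2 < Nat.card Y₂ →
      ⁅Y₁, Y₂⁆ = ⊥ ∧ ⁅V, Y₁⁆ ⊓ ⁅V, Y₂⁆ = ⊥)
    (Y : Subgroup G) (hY : SNChain Y E) (hYE : Y ≠ E) (hirr : Irr V Y) (hc : 2 < Nat.card Y)
    (e : G) (he : e ∈ E)
    (hmove : e ∉ Subgroup.normalizer ((⁅V, Y⁆ : Subgroup G) : Set G)) :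
    ⁅V, Y⁆ ⊓ (⁅V, Y⁆).map (MulAut.conj e).toMonoidHom = ⊥ ∧
      Y ≤ Subgroup.centralizer
        (((⁅V, Y⁆).map (MulAut.conj e).toMonoidHom : Subgroup G) : Set G) := by
  have heV : e ∈ Subgroup.normalizer (V : Set G) := hEV he
  have hcomm : ⁅V, Y.map (MulAut.conj e).toMonoidHom⁆ =
      (⁅V, Y⁆).map (MulAut.conj e).toMonoidHom := by
    rw [Subgroup.map_commutator, conj_eq_self_of_mem_normalizer heV]
  obtain ⟨M, hYM, hME, hMne, hEM⟩ := exists_proper_normal hY hYE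
  have hYeM : Y.map (MulAut.conj e).toMonoidHom ≤ M := by
    rw [conj_le_iff]
    intro x hx
    exact (Subgroup.mem_normalizer_iff.mp (hEM he) x).mp (hYM hx)
  have hLM : Y ⊔ Y.map (MulAut.conj e).toMonoidHom ≤ M := sup_le hYM hYeM
  have hLE : Y ⊔ Y.map (MulAut.conj e).toMonoidHom ≤ E := hLM.trans hME
  have hcard : Nat.card (Y ⊔ Y.map (MulAut.conj e).toMonoidHom : Subgroup G) < Nat.card E :=
    card_lt_card_of_lt (lt_of_le_of_lt hLM (lt_of_le_of_ne hME hMne))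
  have hYe : SNChain (Y.map (MulAut.conj e).toMonoidHom) E := by
    have h1 := hY.conj e
    rw [Subgroup.conj_smul_eq_self_of_mem he] at h1
    exact h1
  have hL : SNChain (Y ⊔ Y.map (MulAut.conj e).toMonoidHom) E := hY.sup hYe
  have hPL : HP p (Y ⊔ Y.map (MulAut.conj e).toMonoidHom) :=
    fun R hR hRp => hP R (hR.trans hL) hRp
  have hcardV : Nat.card ((⁅V, Y⁆).map (MulAut.conj e).toMonoidHom : Subgroup G) =
      Nat.card (⁅V, Y⁆ : Subgroup G) :=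
    Subgroup.card_map_of_injective (MulAut.conj e).injective
  have hne : (⁅V, Y⁆).map (MulAut.conj e).toMonoidHom ≠ ⁅V, Y⁆ :=
    fun h => hmove (mem_normalizer_of_conj_eq_self h)
  obtain ⟨h1, h2⟩ := IH _ Y (Y.map (MulAut.conj e).toMonoidHom) hcard (hLE.trans hEV)
    (by rw [eq_bot_iff, ← hf]; exact inf_le_inf_right _ hLE) rfl
    (snChain_of_le hY le_sup_left hLE) (snChain_of_le hYe le_sup_right hLE) hPL hirr
    (irr_conj hirr heV)
    (by
      rw [hcomm]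
      intro hle
      exact hne (Subgroup.eq_of_le_of_card_ge hle hcardV.le).symm)
    (by
      rw [hcomm]
      intro hle
      exact hne (Subgroup.eq_of_le_of_card_ge hle hcardV.ge))
    hc (by rw [Subgroup.card_map_of_injective (MulAut.conj e).injective]; exact hc)
  have hYeV : Y.map (MulAut.conj e).toMonoidHom ≤ Subgroup.normalizer (V : Set G) :=
    hYe.le.trans hEV
  have hYN : Y ≤ Subgroup.normalizer
      ((⁅V, Y.map (MulAut.conj e).toMonoidHom⁆ : Subgroup G) : Set G) := by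
    intro y hy
    refine mem_normalizer_commutator (hEV (hY.le hy)) ?_
    exact Subgroup.centralizer_le_normalizer _
      (Subgroup.commutator_eq_bot_iff_le_centralizer.mp h1 hy)
  rw [← hcomm]
  refine ⟨h2, ?_⟩
  rw [← commutator_eq_bot_iff_le_centralizer', eq_bot_iff, ← h2]
  refine le_inf ?_ ?_
  · exact Subgroup.commutator_mono (commutator_le_left_of_le_normalizer hYeV) le_rfl
  · exact commutator_le_left_of_le_normalizer hYN

theorem bad_case [Finite G] {p : ℕ} [Fact p.Prime] (V E E₁ E₂ : Subgroup G)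
    (hV : Cfsg.IsElementaryAbelian p V)
    (hEV : E ≤ Subgroup.normalizer (V : Set G))
    (hf : E ⊓ Subgroup.centralizer (V : Set G) = ⊥)
    (hs₁ : SNChain E₁ E) (hs₂ : SNChain E₂ E) (hP : HP p E)
    (hirr₁ : Irr V E₁) (hirr₂ : Irr V E₂)
    (h12 : ¬ ⁅V, E₁⁆ ≤ ⁅V, E₂⁆) (h21 : ¬ ⁅V, E₂⁆ ≤ ⁅V, E₁⁆)
    (hc₁ : 2 < Nat.card E₁) (hc₂ : 2 < Nat.card E₂)
    (IH : ∀ L Y₁ Y₂ : Subgroup G, Nat.card L < Nat.card E →
      L ≤ Subgroup.normalizer (V : Set G) → L ⊓ Subgroup.centralizer (V : Set G) = ⊥ →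
      L = Y₁ ⊔ Y₂ → SNChain Y₁ L → SNChain Y₂ L → HP p L → Irr V Y₁ → Irr V Y₂ →
      ¬ ⁅V, Y₁⁆ ≤ ⁅V, Y₂⁆ → ¬ ⁅V, Y₂⁆ ≤ ⁅V, Y₁⁆ → 2 < Nat.card Y₁ → 2 < Nat.card Y₂ →
      ⁅Y₁, Y₂⁆ = ⊥ ∧ ⁅V, Y₁⁆ ⊓ ⁅V, Y₂⁆ = ⊥)
    (hN1 : ¬ E₁ ≤ Subgroup.normalizer ((⁅V, E₂⁆ : Subgroup G) : Set G))
    (hN2 : ¬ E₂ ≤ Subgroup.normalizer ((⁅V, E₁⁆ : Subgroup G) : Set G)) : False := by
  have hE₁V := hs₁.le.trans hEV
  have hE₂V := hs₂.le.trans hEV
  have hV₁V : ⁅V, E₁⁆ ≤ V := commutator_le_left_of_le_normalizer hE₁V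
  have hV₂V : ⁅V, E₂⁆ ≤ V := commutator_le_left_of_le_normalizer hE₂V
  have hE₁V₁ : E₁ ≤ Subgroup.normalizer ((⁅V, E₁⁆ : Subgroup G) : Set G) :=
    le_normalizer_commutator_right V E₁
  have hE₂V₂ : E₂ ≤ Subgroup.normalizer ((⁅V, E₂⁆ : Subgroup G) : Set G) :=
    le_normalizer_commutator_right V E₂
  have hE₁ne : E₁ ≠ E := by
    intro h
    apply h21
    exact Subgroup.commutator_mono le_rfl (h ▸ hs₂.le)
  have hE₂ne : E₂ ≠ E := by
    intro h
    apply h12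
    exact Subgroup.commutator_mono le_rfl (h ▸ hs₁.le)
  obtain ⟨x, hx1, hxN⟩ := SetLike.not_le_iff_exists.mp hN1
  obtain ⟨y, hy2, hyN⟩ := SetLike.not_le_iff_exists.mp hN2
  generalize hV₁ : (⁅V, E₁⁆ : Subgroup G) = V₁ at *
  generalize hV₂ : (⁅V, E₂⁆ : Subgroup G) = V₂ at *
  -- step2 facts
  have S2 : ∀ e ∈ E₁, e ∉ Subgroup.normalizer (V₂ : Set G) →
      V₂ ⊓ V₂.map (MulAut.conj e).toMonoidHom = ⊥ ∧
      E₂ ≤ Subgroup.centralizer ((V₂.map (MulAut.conj e).toMonoidHom : Subgroup G) : Set G) := by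
    intro e he hm
    have := step2 V E hEV hf hP IH E₂ hs₂ hE₂ne hirr₂ hc₂ e (hs₁.le he) (by rw [hV₂]; exact hm)
    rw [hV₂] at this
    exact this
  have S1 : V₁ ⊓ V₁.map (MulAut.conj y).toMonoidHom = ⊥ := by
    have := step2 V E hEV hf hP IH E₁ hs₁ hE₁ne hirr₁ hc₁ y (hs₂.le hy2) (by rw [hV₁]; exact hyN)
    rw [hV₁] at this
    exact this.1
  have hmem₁ : ∀ r ∈ E₁, ∀ v ∈ V, r * v * r⁻¹ * v⁻¹ ∈ V₁ := by
    intro r hr v hv
    rw [← hV₁]; exact conj_mul_inv_mem hr hv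
  have hmem₂ : ∀ r ∈ E₂, ∀ v ∈ V, r * v * r⁻¹ * v⁻¹ ∈ V₂ := by
    intro r hr v hv
    rw [← hV₂]; exact conj_mul_inv_mem hr hv
  -- images inside V₁ ⊔ V₂
  have F1 : ∀ e ∈ E₁, V₂.map (MulAut.conj e).toMonoidHom ≤ V₁ ⊔ V₂ := by
    intro e he
    rw [conj_le_iff]
    intro v hv
    have h1 : e * v * e⁻¹ = (e * v * e⁻¹ * v⁻¹) * v := by group
    rw [h1]
    exact Subgroup.mul_mem_sup (hmem₁ e he v (hV₂V hv)) hv
  have F1' : V₁.map (MulAut.conj y).toMonoidHom ≤ V₁ ⊔ V₂ := by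
    rw [conj_le_iff]
    intro v hv
    have h1 : y * v * y⁻¹ = (y * v * y⁻¹ * v⁻¹) * v := by group
    rw [h1, sup_comm]
    exact Subgroup.mul_mem_sup (hmem₂ y hy2 v (hV₁V hv)) hv
  have hWV : V₁ ⊔ V₂ ≤ V := sup_le hV₁V hV₂V
  have hab : ∀ A B : Subgroup G, A ≤ V → B ≤ V → A ≤ Subgroup.normalizer (B : Set G) :=
    fun A B hA hB => le_normalizer_of_abelian hV hA hB
  -- counting
  have c1 := card_sup_mul_card_inf V₁ V₂ (hab _ _ hV₁V hV₂V)
  have c2 := card_sup_mul_card_inf V₂ (V₂.map (MulAut.conj x).toMonoidHom)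
    (hab _ _ hV₂V ((F1 x hx1).trans hWV))
  have c3 := card_sup_mul_card_inf V₁ (V₁.map (MulAut.conj y).toMonoidHom)
    (hab _ _ hV₁V (F1'.trans hWV))
  rw [(S2 x hx1 hxN).1, Subgroup.card_bot, mul_one,
    Subgroup.card_map_of_injective (MulAut.conj x).injective] at c2
  rw [S1, Subgroup.card_bot, mul_one,
    Subgroup.card_map_of_injective (MulAut.conj y).injective] at c3
  have c4 : Nat.card (V₂ ⊔ V₂.map (MulAut.conj x).toMonoidHom : Subgroup G) ≤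
      Nat.card (V₁ ⊔ V₂ : Subgroup G) :=
    Subgroup.card_le_of_le (sup_le le_sup_right (F1 x hx1))
  have c5 : Nat.card (V₁ ⊔ V₁.map (MulAut.conj y).toMonoidHom : Subgroup G) ≤
      Nat.card (V₁ ⊔ V₂ : Subgroup G) :=
    Subgroup.card_le_of_le (sup_le le_sup_left F1')
  have ha : 0 < Nat.card V₁ := Nat.card_pos
  have hb : 0 < Nat.card V₂ := Nat.card_pos
  have hd : 0 < Nat.card (V₁ ⊓ V₂ : Subgroup G) := Nat.card_pos
  rw [c2] at c4
  rw [c3] at c5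
  -- arithmetic: s * d = a * b, b * b ≤ s, a * a ≤ s
  have hd1c : Nat.card (V₁ ⊓ V₂ : Subgroup G) = 1 ∧ Nat.card V₁ = Nat.card V₂ := by
    generalize Nat.card V₁ = a at *
    generalize Nat.card V₂ = b at *
    generalize Nat.card (V₁ ⊓ V₂ : Subgroup G) = d at *
    generalize Nat.card (V₁ ⊔ V₂ : Subgroup G) = s at *
    have e1 : b * (b * d) ≤ b * a := by
      calc b * (b * d) = b * b * d := by ring
        _ ≤ s * d := Nat.mul_le_mul_right d c4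
        _ = a * b := c1
        _ = b * a := by ring
    have e2 : b * d ≤ a := Nat.le_of_mul_le_mul_left e1 hb
    have e3 : a * (a * d) ≤ a * b := by
      calc a * (a * d) = a * a * d := by ring
        _ ≤ s * d := Nat.mul_le_mul_right d c5
        _ = a * b := c1
    have e4 : a * d ≤ b := Nat.le_of_mul_le_mul_left e3 ha
    have e5 : a * (d * d) ≤ a * 1 := by
      calc a * (d * d) = a * d * d := by ring
        _ ≤ b * d := Nat.mul_le_mul_right d e4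
        _ ≤ a := e2
        _ = a * 1 := by ring
    have e6 : d * d ≤ 1 := Nat.le_of_mul_le_mul_left e5 ha
    have e7 : d = 1 := by nlinarith
    subst e7
    constructor
    · rfl
    · omega
  obtain ⟨hd1', hab'⟩ := hd1c
  have hd1 : V₁ ⊓ V₂ = ⊥ := Subgroup.card_eq_one.mp hd1'
  rw [hd1', mul_one] at c1
  -- moved images generate V₁ ⊔ V₂
  have F2 : ∀ e ∈ E₁, e ∉ Subgroup.normalizer (V₂ : Set G) →
      V₂ ⊔ V₂.map (MulAut.conj e).toMonoidHom = V₁ ⊔ V₂ := by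
    intro e he hm
    apply Subgroup.eq_of_le_of_card_ge (sup_le le_sup_right (F1 e he))
    have c6 := card_sup_mul_card_inf V₂ (V₂.map (MulAut.conj e).toMonoidHom)
      (hab _ _ hV₂V ((F1 e he).trans hWV))
    rw [(S2 e he hm).1, Subgroup.card_bot, mul_one,
      Subgroup.card_map_of_injective (MulAut.conj e).injective] at c6
    rw [c6, c1, hab']
  have F3 : V₂ ⊓ Subgroup.centralizer (E₂ : Set G) = ⊥ := by
    have hnorm : E₂ ≤ Subgroup.normalizer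
        ((V₂ ⊓ Subgroup.centralizer (E₂ : Set G) : Subgroup G) : Set G) := by
      intro g hg
      apply mem_normalizer_of_conj_le
      rw [conj_le_iff]
      intro h hh
      have hh2 := (Subgroup.mem_inf.mp hh).2
      have h1 : g * h * g⁻¹ = h := by
        have := Subgroup.mem_centralizer_iff.mp hh2 g hg
        rw [this]; group
      rw [h1]; exact hh
    have hirr₂' := hirr₂
    unfold Irr at hirr₂'
    rw [hV₂] at hirr₂'
    rcases hirr₂' _ inf_le_left hnorm with h | h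
    · exact h
    · exfalso
      have hV₂C : V₂ ≤ Subgroup.centralizer (E₂ : Set G) := inf_eq_left.mp h
      have hE₂C : E₂ ≤ Subgroup.centralizer (V₂ : Set G) :=
        Subgroup.le_centralizer_iff.mp hV₂C
      have hpg : IsPGroup p E₂ := isPGroup_of_stab hV hV₂V hE₂C hmem₂
        (by rw [eq_bot_iff, ← hf]; exact inf_le_inf_right _ hs₂.le)
      have := hP E₂ hs₂ hpg
      rw [this, Subgroup.card_bot] at hc₂
      omega
  have F4 : ∀ e ∈ E₁, e ∉ Subgroup.normalizer (V₂ : Set G) → ∀ e' ∈ E₁,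
      e' ∉ Subgroup.normalizer (V₂ : Set G) →
      V₂.map (MulAut.conj e').toMonoidHom ≤ V₂.map (MulAut.conj e).toMonoidHom := by
    intro e he hm e' he' hm' t ht
    have htW : t ∈ V₂ ⊔ V₂.map (MulAut.conj e).toMonoidHom := by
      rw [F2 e he hm]; exact F1 e' he' ht
    rw [mem_sup_of_le_normalizer (hab _ _ ((F1 e he).trans hWV) hV₂V)] at htW
    obtain ⟨w, hw, z, hz, rfl⟩ := htW
    have hwC : w ∈ V₂ ⊓ Subgroup.centralizer (E₂ : Set G) := by
      refine Subgroup.mem_inf.mpr ⟨hw, ?_⟩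
      rw [Subgroup.mem_centralizer_iff]
      intro g hg
      have h1 := Subgroup.mem_centralizer_iff.mp ((S2 e he hm).2 hg) z hz
      have h2 := Subgroup.mem_centralizer_iff.mp ((S2 e' he' hm').2 hg) (w * z) ht
      calc g * w = g * (w * z) * z⁻¹ := by group
        _ = w * z * g * z⁻¹ := by rw [h2]
        _ = w * (z * g) * z⁻¹ := by group
        _ = w * (g * z) * z⁻¹ := by rw [h1]
        _ = w * g := by group
    rw [F3, Subgroup.mem_bot] at hwC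
    rw [hwC, one_mul]
    exact hz
  have hR : E₁ ⊓ Subgroup.centralizer (V₁ : Set G) = ⊥ := by
    apply hP
    · refine (SNChain.of_normal inf_le_left ?_).trans hs₁
      intro g hg
      exact mem_normalizer_inf (Subgroup.le_normalizer hg)
        (mem_normalizer_centralizer (hE₁V₁ hg))
    · exact isPGroup_of_stab hV hV₁V inf_le_right
        (fun r hr v hv => hmem₁ r (Subgroup.mem_inf.mp hr).1 v hv)
        (by rw [eq_bot_iff, ← hf]; exact inf_le_inf_right _ (inf_le_left.trans hs₁.le))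
  have hV1x : V₁ ⊓ V₂.map (MulAut.conj x).toMonoidHom = ⊥ := by
    rw [eq_bot_iff]
    intro u hu
    obtain ⟨hu1, hu2⟩ := Subgroup.mem_inf.mp hu
    rw [mem_conj_iff] at hu2
    have hu1' : x⁻¹ * u * x ∈ V₁ := by
      have := (Subgroup.mem_normalizer_iff.mp (hE₁V₁ (E₁.inv_mem hx1)) u).mp hu1
      rwa [inv_inv] at this
    have h1 : x⁻¹ * u * x ∈ V₁ ⊓ V₂ := Subgroup.mem_inf.mpr ⟨hu1', hu2⟩
    rw [hd1, Subgroup.mem_bot] at h1
    rw [Subgroup.mem_bot]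
    calc u = x * (x⁻¹ * u * x) * x⁻¹ := by group
      _ = 1 := by rw [h1]; group
  have F5 : ∀ e ∈ E₁, e ∈ Subgroup.normalizer (V₂ : Set G) → e = 1 := by
    intro e he hen
    have hcent : ∀ (Q : Subgroup G), Q ≤ V → V₁ ⊓ Q = ⊥ →
        e ∈ Subgroup.normalizer (Q : Set G) → ∀ v ∈ Q, e * v = v * e := by
      intro Q hQV hQ heQ v hv
      have h1 : e * v * e⁻¹ * v⁻¹ ∈ V₁ ⊓ Q := by
        refine Subgroup.mem_inf.mpr ⟨hmem₁ e he v (hQV hv), ?_⟩
        exact Q.mul_mem ((Subgroup.mem_normalizer_iff.mp heQ v).mp hv) (Q.inv_mem hv)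
      rw [hQ, Subgroup.mem_bot] at h1
      calc e * v = (e * v * e⁻¹ * v⁻¹) * v * e := by group
        _ = v * e := by rw [h1, one_mul]
    have h2 : ∀ v ∈ V₂, e * v = v * e := hcent V₂ hV₂V hd1 hen
    have hex : e * x ∉ Subgroup.normalizer (V₂ : Set G) := by
      intro h
      apply hxN
      have := Subgroup.mul_mem _ (Subgroup.inv_mem _ hen) h
      rwa [inv_mul_cancel_left] at this
    have h3 : V₂.map (MulAut.conj (e * x)).toMonoidHom = V₂.map (MulAut.conj x).toMonoidHom :=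
      le_antisymm (F4 x hx1 hxN (e * x) (E₁.mul_mem he hx1) hex)
        (F4 (e * x) (E₁.mul_mem he hx1) hex x hx1 hxN)
    have h4 : e ∈ Subgroup.normalizer
        ((V₂.map (MulAut.conj x).toMonoidHom : Subgroup G) : Set G) := by
      apply mem_normalizer_of_conj_eq_self
      rw [conj_conj]; exact h3
    have h5 : ∀ v ∈ V₂.map (MulAut.conj x).toMonoidHom, e * v = v * e :=
      hcent _ ((F1 x hx1).trans hWV) hV1x h4
    have h6 : e ∈ E₁ ⊓ Subgroup.centralizer (V₁ : Set G) := by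
      refine Subgroup.mem_inf.mpr ⟨he, ?_⟩
      rw [Subgroup.mem_centralizer_iff]
      intro v hv
      have hvW : v ∈ V₂ ⊔ V₂.map (MulAut.conj x).toMonoidHom := by
        rw [F2 x hx1 hxN]; exact Subgroup.mem_sup_left hv
      rw [mem_sup_of_le_normalizer (hab _ _ ((F1 x hx1).trans hWV) hV₂V)] at hvW
      obtain ⟨w, hw, z, hz, rfl⟩ := hvW
      calc w * z * e = w * (z * e) := by group
        _ = w * (e * z) := by rw [h5 z hz]
        _ = (w * e) * z := by group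
        _ = (e * w) * z := by rw [h2 w hw]
        _ = e * (w * z) := by group
    rw [hR, Subgroup.mem_bot] at h6
    exact h6
  have F6 : ∀ e ∈ E₁, e = 1 ∨ e = x := by
    intro e he
    by_cases hen : e ∈ Subgroup.normalizer (V₂ : Set G)
    · left; exact F5 e he hen
    · right
      have h1 : V₂.map (MulAut.conj e).toMonoidHom = V₂.map (MulAut.conj x).toMonoidHom :=
        le_antisymm (F4 x hx1 hxN e he hen) (F4 e he hen x hx1 hxN)
      have h2 : x⁻¹ * e ∈ Subgroup.normalizer (V₂ : Set G) := by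
        apply mem_normalizer_of_conj_eq_self
        rw [← conj_conj, h1, conj_conj, inv_mul_cancel, conj_one]
      have h3 := F5 _ (E₁.mul_mem (E₁.inv_mem hx1) he) h2
      calc e = x * (x⁻¹ * e) := by group
        _ = x := by rw [h3, mul_one]
  have hx1' : x ≠ 1 := by
    rintro rfl
    exact hxN (Subgroup.one_mem _)
  have hsub : (E₁ : Set G) ⊆ {1, x} := by
    intro e he
    rcases F6 e he with h | h
    · left; exact h
    · right; exact h
  have hcard : Nat.card E₁ ≤ 2 := by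
    have h1 : Nat.card E₁ = (E₁ : Set G).ncard := Nat.card_coe_set_eq (E₁ : Set G)
    rw [h1]
    calc (E₁ : Set G).ncard ≤ ({1, x} : Set G).ncard := Set.ncard_le_ncard hsub (Set.toFinite _)
      _ = 2 := Set.ncard_pair hx1'.symm
  omega

theorem aux [Finite G] {p : ℕ} [Fact p.Prime] (V : Subgroup G)
    (hV : Cfsg.IsElementaryAbelian p V) :
    ∀ (n : ℕ) (E E₁ E₂ : Subgroup G), Nat.card E ≤ n →
      E ≤ Subgroup.normalizer (V : Set G) → E ⊓ Subgroup.centralizer (V : Set G) = ⊥ →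
      E = E₁ ⊔ E₂ → SNChain E₁ E → SNChain E₂ E → HP p E → Irr V E₁ → Irr V E₂ →
      ¬ ⁅V, E₁⁆ ≤ ⁅V, E₂⁆ → ¬ ⁅V, E₂⁆ ≤ ⁅V, E₁⁆ → 2 < Nat.card E₁ → 2 < Nat.card E₂ →
      ⁅E₁, E₂⁆ = ⊥ ∧ ⁅V, E₁⁆ ⊓ ⁅V, E₂⁆ = ⊥ := by
  intro n
  induction n with
  | zero =>
    intro E E₁ E₂ hn
    have := Nat.card_pos (α := E)
    omega
  | succ n ih =>
    intro E E₁ E₂ hn hEV hf hgen hs₁ hs₂ hP hirr₁ hirr₂ h12 h21 hc₁ hc₂
    by_cases hN1 : E₁ ≤ Subgroup.normalizer ((⁅V, E₂⁆ : Subgroup G) : Set G)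
    · obtain ⟨h1, h2⟩ := good_case V E E₁ E₂ hV hEV hf hs₁ hs₂ hP hirr₁ h12 hN1
      exact ⟨by rw [Subgroup.commutator_comm]; exact h1, h2⟩
    by_cases hN2 : E₂ ≤ Subgroup.normalizer ((⁅V, E₁⁆ : Subgroup G) : Set G)
    · obtain ⟨h1, h2⟩ := good_case V E E₂ E₁ hV hEV hf hs₂ hs₁ hP hirr₂ h21 hN2
      exact ⟨h1, by rw [inf_comm]; exact h2⟩
    exact (bad_case V E E₁ E₂ hV hEV hf hs₁ hs₂ hP hirr₁ hirr₂ h12 h21 hc₁ hc₂
      (fun L Y₁ Y₂ hL => ih L Y₁ Y₂ (by omega)) hN1 hN2).elim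

theorem result {G : Type*} [Group G] [Finite G] {p : ℕ} [Fact p.Prime] (V E E₁ E₂ : Subgroup G) (hV : Cfsg.IsElementaryAbelian p V) (hEV : E ≤ Subgroup.normalizer (V : Set G)) (hf : E ⊓ Subgroup.centralizer (V : Set G) = ⊥) (hgen : E = E₁ ⊔ E₂) (hs₁ : (E₁.subgroupOf E).IsSubnormal) (hs₂ : (E₂.subgroupOf E).IsSubnormal) (hOp : Cfsg.pCore p ↥E = ⊥) (hirr₁ : (∀ U : Subgroup G, U ≤ ⁅V, E₁⁆ → E₁ ≤ Subgroup.normalizer (U : Set G) → U = ⊥ ∨ U = ⁅V, E₁⁆)) (hirr₂ : (∀ U : Subgroup G, U ≤ ⁅V, E₂⁆ → E₂ ≤ Subgroup.normalizer (U : Set G) → U = ⊥ ∨ U = ⁅V, E₂⁆)) (h12 : ¬ ⁅V, E₁⁆ ≤ ⁅V, E₂⁆) (h21 : ¬ ⁅V, E₂⁆ ≤ ⁅V, E₁⁆) (hc₁ : 2 < Nat.card E₁) (hc₂ : 2 < Nat.card E₂) : ⁅E₁, E₂⁆ = ⊥ ∧ E₁ ⊓ E₂ = ⊥ ∧ ⁅V, E₁⁆ ⊓ ⁅V, E₂⁆ = ⊥ ∧ ⁅V, E⁆ = ⁅V, E₁⁆ ⊔ ⁅V, E₂⁆ := by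
  have hE₁E : E₁ ≤ E := by rw [hgen]; exact le_sup_left
  have hE₂E : E₂ ≤ E := by rw [hgen]; exact le_sup_right
  have hsn₁ : SNChain E₁ E := snChain_iff.mpr ⟨hE₁E, hs₁⟩
  have hsn₂ : SNChain E₂ E := snChain_iff.mpr ⟨hE₂E, hs₂⟩
  have hP : HP p E := by
    intro R hR hRp
    have h1 := Cfsg.Agent.Lib.helper27.le_map_pCore_of_subnormal hR.le (snChain_iff.mp hR).2 hRp
    rw [hOp, Subgroup.map_bot] at h1
    exact eq_bot_iff.mpr h1
  obtain ⟨h1, h2⟩ := aux V hV (Nat.card E) E E₁ E₂ le_rfl hEV hf hgen hsn₁ hsn₂ hP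
    hirr₁ hirr₂ h12 h21 hc₁ hc₂
  refine ⟨h1, ?_, h2, ?_⟩
  · rw [eq_bot_iff, ← hf]
    refine le_inf (inf_le_left.trans hE₁E) ?_
    rw [← commutator_eq_bot_iff_le_centralizer', eq_bot_iff, ← h2]
    exact le_inf (Subgroup.commutator_mono le_rfl inf_le_left)
      (Subgroup.commutator_mono le_rfl inf_le_right)
  · apply le_antisymm
    · rw [hgen]
      exact commutator_sup_le
        (sup_le (commutator_le_left_of_le_normalizer (hE₁E.trans hEV))
          (commutator_le_left_of_le_normalizer (hE₂E.trans hEV))) le_sup_left le_sup_right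
    · exact sup_le (Subgroup.commutator_mono le_rfl hE₁E) (Subgroup.commutator_mono le_rfl hE₂E)

end Cfsg.Agent.S0615
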