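import Cfsg.Statements.S0619
import Mathlib
import Cfsg.Agent.S0606
import Cfsg.Agent.S0610
import Cfsg.Agent.Lib.helper13.Thompson
import Cfsg.Agent.Lib.helper13.Count
import Cfsg.Agent.Lib.helper13.FaithModel
import Cfsg.Agent.Lib.helper40.Cores

set_option autoImplicit false
open Cfsg

namespace Cfsg.Agent.S0619

open Cfsg.Agent.Lib.helper13
open scoped commutatorElement

/-- Exactness: a maximal elementary abelian subgroup offends exactly on `V`. -/
theorem exact_offender {G : Type*} [Group G] [Finite G] {p : ℕ} [Fact p.Prime]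
    (hsep : Cfsg.IsPSolvable p G) (V : Subgroup G) [V.Normal]
    (hV : Cfsg.IsElementaryAbelian p V)
    (hO : Cfsg.pCore p (G ⧸ Subgroup.centralizer (V : Set G)) = ⊥)
    (A : Subgroup G) (hA : A ∈ Cfsg.maxElementaryAbelianSubgroups p G) :
    Nat.card A * Nat.card ↥(V ⊓ Subgroup.centralizer (A : Set G)) =
      Nat.card V * Nat.card ↥(A ⊓ Subgroup.centralizer (V : Set G)) := by
  have hfin := fm_finite V
  have hJn : (Cfsg.thompsonSubgroup p G).Normal := by
    have := thompsonSubgroup_characteristic p G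
    infer_instance
  by_cases hA' : A.map (fmPi V) = ⊥
  · have hAC : A ≤ Subgroup.centralizer (V : Set G) := by
      rw [← fmPi_ker V]
      intro a ha
      rw [MonoidHom.mem_ker]
      have : fmPi V a ∈ A.map (fmPi V) := Subgroup.mem_map_of_mem _ ha
      rw [hA', Subgroup.mem_bot] at this
      exact this
    have h1 : V ⊓ Subgroup.centralizer (A : Set G) = V :=
      inf_of_le_left (Subgroup.le_centralizer_iff.mp hAC)
    have h2 : A ⊓ Subgroup.centralizer (V : Set G) = A := inf_of_le_left hAC
    rw [h1, h2, mul_comm]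
  · have hbo : ∀ B ∈ Cfsg.maxElementaryAbelianSubgroups p G, Cfsg.IsBestOffenderOn p V B :=
      fun B hB => Cfsg.Agent.S0606.result V hV B hB
    have hle : A.map (fmPi V) ≤ (Cfsg.thompsonSubgroup p G).map (fmPi V) :=
      Subgroup.map_mono (le_thompsonSubgroup hA)
    have hH1 : (Cfsg.thompsonSubgroup p G).map (fmPi V) ≠ ⊥ := by
      intro h
      rw [h, le_bot_iff] at hle
      exact hA' hle
    have key := Cfsg.Agent.S0610.result (fmV V) ((Cfsg.thompsonSubgroup p G).map (fmPi V))
      (fmV_elemAb V hV) (fm_hHV V _) (fm_faithful V _)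
      (fm_hS1 V hsep hO (Cfsg.thompsonSubgroup p G))
      (fm_hS3 V (Cfsg.maxElementaryAbelianSubgroups p G) hbo) hH1
      (A.map (fmPi V)) hle (isBestOffenderOn_map V (hbo A hA)) hA'
    rw [card_fmV_inf_centralizer, card_fmV] at key
    rw [← key, ← card_map_fmPi V A]
    ring

theorem result {G : Type*} [Group G] [Finite G] {p : ℕ} [Fact p.Prime] (hsep : Cfsg.IsPSolvable p G) (V : Subgroup G) [V.Normal] (hV : Cfsg.IsElementaryAbelian p V) (hO : Cfsg.pCore p (G ⧸ Subgroup.centralizer (V : Set G)) = ⊥) : ⁅Cfsg.omegaOne p (Cfsg.centerThompsonOf p (Subgroup.centralizer (V : Set G))), Cfsg.thompsonSubgroup p G⁆ ≤ V := by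
  have hVab := ((isElementaryAbelian_iff V).mp hV).1
  have hVC : V ≤ Subgroup.centralizer (V : Set G) := by
    intro v hv
    rw [Subgroup.mem_centralizer_iff]
    intro w hw
    exact hVab w hw v hv
  -- every maximal elementary abelian subgroup yields a replacement inside `C_G(V)`
  have key : ∀ A ∈ Cfsg.maxElementaryAbelianSubgroups p G,
      Cfsg.omegaOne p (Cfsg.centerThompsonOf p (Subgroup.centralizer (V : Set G))) ≤
        (A ⊓ Subgroup.centralizer (V : Set G)) ⊔ V := by
    intro A hA
    have hAab := ((isElementaryAbelian_iff A).mp hA.1).1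
    have hex := exact_offender hsep V hV hO A hA
    have hcen : V ≤ Subgroup.centralizer
        ((A ⊓ Subgroup.centralizer (V : Set G) : Subgroup G) : Set G) :=
      Subgroup.le_centralizer_iff.mp inf_le_right
    have hel : Cfsg.IsElementaryAbelian p ((A ⊓ Subgroup.centralizer (V : Set G)) ⊔ V) :=
      elemAb_sup (elemAb_mono hA.1 inf_le_left) hV hcen
    have hinf : (A ⊓ Subgroup.centralizer (V : Set G)) ⊓ V =
        V ⊓ Subgroup.centralizer (A : Set G) := by
      apply le_antisymm
      · intro x hx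
        obtain ⟨hx1, hxV⟩ := Subgroup.mem_inf.mp hx
        obtain ⟨hxA, -⟩ := Subgroup.mem_inf.mp hx1
        refine Subgroup.mem_inf.mpr ⟨hxV, ?_⟩
        rw [Subgroup.mem_centralizer_iff]
        intro a ha
        exact hAab a ha x hxA
      · have h1 : V ⊓ Subgroup.centralizer (A : Set G) ≤ A :=
          le_of_mem_max_of_le_centralizer hA (elemAb_mono hV inf_le_left) inf_le_right
        exact le_inf (le_inf h1 (inf_le_left.trans hVC)) inf_le_left
    have hcard : Nat.card ↥((A ⊓ Subgroup.centralizer (V : Set G)) ⊔ V) = Nat.card A := by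
      have c1 := card_sup_mul_card_inf (A ⊓ Subgroup.centralizer (V : Set G)) V
        (by
          intro x _
          have : (Subgroup.normalizer (V : Set G)) = ⊤ := Subgroup.normalizer_eq_top_iff.mpr inferInstance
          rw [this]; exact Subgroup.mem_top x)
      rw [hinf] at c1
      have hpos : 0 < Nat.card ↥(V ⊓ Subgroup.centralizer (A : Set G)) := Nat.card_pos
      refine Nat.eq_of_mul_eq_mul_right hpos ?_
      rw [c1, hex, mul_comm]
    have hmax : (A ⊓ Subgroup.centralizer (V : Set G)) ⊔ V ∈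
        Cfsg.maxElementaryAbelianSubgroups p G := mem_max_of_card_le hA hel hcard.ge
    have hleC : (A ⊓ Subgroup.centralizer (V : Set G)) ⊔ V ≤ Subgroup.centralizer (V : Set G) :=
      sup_le inf_le_right hVC
    have hJ : (A ⊓ Subgroup.centralizer (V : Set G)) ⊔ V ≤
        Cfsg.thompsonSubgroupOf p (Subgroup.centralizer (V : Set G)) :=
      le_thompsonSubgroupOf hmax hleC
    unfold Cfsg.omegaOne
    rw [Subgroup.closure_le]
    rintro z ⟨hz, hzp⟩
    unfold Cfsg.centerThompsonOf at hz
    obtain ⟨-, hzc⟩ := Subgroup.mem_inf.mp hz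
    rw [Subgroup.mem_centralizer_iff] at hzc
    exact mem_of_mem_max_of_commute hmax hzp (fun a ha => hzc a (hJ ha))
  -- the elements moving `Ω₁(Z(J(C)))` into `V` form a subgroup
  let T : Subgroup G :=
    { carrier := {g | ∀ z ∈ Cfsg.omegaOne p (Cfsg.centerThompsonOf p
        (Subgroup.centralizer (V : Set G))), ⁅z, g⁆ ∈ V}
      mul_mem' := by
        intro g h hg hh z hz
        have e : ⁅z, g * h⁆ = ⁅z, g⁆ * (g * ⁅z, h⁆ * g⁻¹) := by
          simp only [commutatorElement_def]; group
        rw [e]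
        exact V.mul_mem (hg z hz) (Subgroup.Normal.conj_mem inferInstance _ (hh z hz) g)
      one_mem' := by
        intro z _
        have e : ⁅z, (1 : G)⁆ = 1 := by rw [commutatorElement_def]; group
        rw [e]; exact V.one_mem
      inv_mem' := by
        intro g hg z hz
        have e : ⁅z, g⁻¹⁆ = g⁻¹ * ⁅z, g⁆⁻¹ * g⁻¹⁻¹ := by
          simp only [commutatorElement_def]; group
        rw [e]
        exact Subgroup.Normal.conj_mem inferInstance _ (V.inv_mem (hg z hz)) g⁻¹ }
  have hT : Cfsg.thompsonSubgroup p G ≤ T := by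
    unfold Cfsg.thompsonSubgroup
    apply sSup_le
    intro A hA a ha z hz
    have hAab := ((isElementaryAbelian_iff A).mp hA.1).1
    have hz' := key A hA hz
    obtain ⟨x, hx, v, hv, rfl⟩ := Cfsg.Agent.Lib.helper40.exists_mul_of_mem_sup_of_commute
      (fun x hx v hv => (Subgroup.mem_centralizer_iff.mp (Subgroup.mem_inf.mp hx).2 v hv).symm) hz'
    have hxa : x * a = a * x := hAab x (Subgroup.mem_inf.mp hx).1 a ha
    have e : ⁅x * v, a⁆ = x * (v * (a * v⁻¹ * a⁻¹)) * x⁻¹ := by
      rw [commutatorElement_def]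
      calc x * v * a * (x * v)⁻¹ * a⁻¹ = x * v * a * v⁻¹ * (x⁻¹ * a⁻¹) := by group
        _ = x * v * a * v⁻¹ * (a * x)⁻¹ := by group
        _ = x * v * a * v⁻¹ * (x * a)⁻¹ := by rw [hxa]
        _ = x * (v * (a * v⁻¹ * a⁻¹)) * x⁻¹ := by group
    rw [e]
    exact Subgroup.Normal.conj_mem inferInstance _
      (V.mul_mem hv (Subgroup.Normal.conj_mem inferInstance _ (V.inv_mem hv) a)) x
  rw [Subgroup.commutator_le]
  intro z hz g hg
  exact hT hg z hz

end Cfsg.Agent.S0619
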