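import Cfsg.Statements.S0626
import Cfsg.Statements.S0626
import Cfsg.Agent.Lib.helper14.QuadStable

set_option autoImplicit false
open Cfsg

namespace Cfsg.Agent.S0626

open Cfsg.Agent.Lib.helper14

/-- For odd p, groups whose Sylow 2-subgroups are abelian are p-stable in the action sense. -/
theorem result {G : Type*} [Group G] [Finite G] {p : ℕ} [Fact p.Prime] (hp : p ≠ 2) (hab : ∀ T : Sylow 2 G, IsMulCommutative T) : Cfsg.IsActionPStable p G := by
  refine isActionPStable_of_noSection p hp
    (noSL2Section_of_abelian_two p hp (abelian_two_of_sylow hab)) (fun S => ?_)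
  apply noSL2Section_of_abelian_two p hp
  intro Q hQ x hx y hy
  have h1 : IsPGroup 2 (Q.map (Subgroup.normalizer
      (Cfsg.thompsonSubgroupOf p (S : Subgroup G) : Set G)).subtype) := hQ.map _
  exact Subtype.ext (abelian_two_of_sylow hab _ h1 (x : G) (Subgroup.mem_map_of_mem _ hx) (y : G)
    (Subgroup.mem_map_of_mem _ hy))

end Cfsg.Agent.S0626
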