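import Cfsg.Statements.S0627
import Cfsg.Statements.S0627
import Cfsg.Agent.S0624
import Cfsg.Agent.S0625
import Cfsg.Agent.Lib.helper14.PConstrained2
import Cfsg.Agent.Lib.helper38.HallHigman

set_option autoImplicit false
open Cfsg

namespace Cfsg.Agent.S0627

open Cfsg.Agent.Lib.helper14 Cfsg.Agent.Lib.helper40

/-- In a p-separable group with p at least 5, the normalizer of W(S) supplements the largest normal subgroup of order prime to p. -/
theorem result {G : Type*} [Group G] [Finite G] {p : ℕ} [Fact p.Prime] (hp : 5 ≤ p) (hsep : Cfsg.IsPSolvable p G) (S : Sylow p G) : Cfsg.pPrimeCore p G ⊔ Subgroup.normalizer (((Cfsg.stableNormalClosure p ↥(S : Subgroup G)).map (S : Subgroup G).subtype) : Set G) = ⊤ := by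
  classical
  have hNcop : (Nat.card (Cfsg.pPrimeCore p G)).Coprime p := pPrimeCore_card_coprime p G
  have hsepQ : Cfsg.IsPSolvable p (G ⧸ Cfsg.pPrimeCore p G) :=
    Cfsg.Agent.Lib.helper38.isPSolvable_quotient _ hsep
  have hst : Cfsg.IsActionPStable p (G ⧸ Cfsg.pPrimeCore p G) := Cfsg.Agent.S0625.result hp hsepQ
  have hcore : Cfsg.pPrimeCore p (G ⧸ Cfsg.pPrimeCore p G) = ⊥ := pPrimeCore_quotient_pPrimeCore p
  have hc := Cfsg.Agent.Lib.helper38.centralizer_pCore_le_of_isPSolvable hsepQ hcore
  have hsurj : Function.Surjective (QuotientGroup.mk' (Cfsg.pPrimeCore p G)) :=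
    QuotientGroup.mk'_surjective _
  have hS : IsPGroup p ↥(S : Subgroup G) := S.isPGroup'
  have hnorm := Cfsg.Agent.S0624.result hst hc (S.mapSurjective hsurj)
  -- the isomorphism of `S` with its image
  have hinj : Function.Injective
      ((QuotientGroup.mk' (Cfsg.pPrimeCore p G)).subgroupMap (S : Subgroup G)) := by
    rw [injective_iff_map_eq_one]
    intro x hx
    have h1 : QuotientGroup.mk' (Cfsg.pPrimeCore p G) (x : G) = 1 := congrArg Subtype.val hx
    have h2 : (x : G) ∈ Cfsg.pPrimeCore p G := (QuotientGroup.eq_one_iff _).mp h1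
    apply Subtype.ext
    exact Cfsg.Agent.Lib.helper55.eq_one_of_mem_of_coprime hS x.2
      (Nat.Coprime.coprime_dvd_left (Subgroup.orderOf_dvd_natCard _ h2) hNcop)
  let η : ↥(S : Subgroup G) ≃* ↥((S : Subgroup G).map (QuotientGroup.mk' (Cfsg.pPrimeCore p G))) :=
    MulEquiv.ofBijective _
      ⟨hinj, MonoidHom.subgroupMap_surjective (QuotientGroup.mk' (Cfsg.pPrimeCore p G)) _⟩
  have hmap : ((Cfsg.stableNormalClosure p ↥(S : Subgroup G)).map (S : Subgroup G).subtype).map
      (QuotientGroup.mk' (Cfsg.pPrimeCore p G)) =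
      (Cfsg.stableNormalClosure p
        ↥((S : Subgroup G).map (QuotientGroup.mk' (Cfsg.pPrimeCore p G)))).map
        ((S : Subgroup G).map (QuotientGroup.mk' (Cfsg.pPrimeCore p G))).subtype := by
    rw [← stableNormalClosure_map hS η, Subgroup.map_map, Subgroup.map_map]
    rfl
  have hnorm' : (((Cfsg.stableNormalClosure p ↥(S : Subgroup G)).map
      (S : Subgroup G).subtype).map (QuotientGroup.mk' (Cfsg.pPrimeCore p G))).Normal := by
    rw [hmap]
    exact hnorm
  have hWp : IsPGroup p ((Cfsg.stableNormalClosure p ↥(S : Subgroup G)).map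
      (S : Subgroup G).subtype) :=
    (hS.to_subgroup (Cfsg.stableNormalClosure p ↥(S : Subgroup G))).map _
  have h3 := map_normalizer_of_coprime (Cfsg.pPrimeCore p G) hNcop
    ((Cfsg.stableNormalClosure p ↥(S : Subgroup G)).map (S : Subgroup G).subtype) hWp
  rw [Subgroup.normalizer_eq_top_iff.mpr hnorm'] at h3
  have h4 := QuotientGroup.comap_map_mk' (Cfsg.pPrimeCore p G)
    (Subgroup.normalizer (((Cfsg.stableNormalClosure p ↥(S : Subgroup G)).map
      (S : Subgroup G).subtype : Subgroup G) : Set G))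
  rw [h3, Subgroup.comap_top] at h4
  exact h4.symm

end Cfsg.Agent.S0627
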