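import Cfsg.Statements.S0629
import Cfsg.Agent.Lib.helper14.PConstrained

set_option autoImplicit false
open Cfsg

namespace Cfsg.Agent.S0629

/-- A group in which the centralizer of a Sylow p-subgroup of O_{p',p}(G) is p-solvable is p-constrained. -/
theorem result {G : Type*} [Group G] [Finite G] {p : ℕ} [Fact p.Prime] (P : Sylow p ↥(Cfsg.pPrimePCore p G)) (hsol : Cfsg.IsPSolvable p ↥(Subgroup.centralizer (((P : Subgroup ↥(Cfsg.pPrimePCore p G)).map (Cfsg.pPrimePCore p G).subtype : Subgroup G) : Set G))) : Cfsg.IsPConstrained p G := by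
  have hKn := Cfsg.Agent.Lib.helper38.pPrimePCore_normal p G
  have hmain := Cfsg.Agent.Lib.helper14.centralizer_le_pPrimePCore_of_isPSolvable P hsol
  intro Q
  obtain ⟨g, hg⟩ := MulAction.exists_smul_eq (↥(Cfsg.pPrimePCore p G)) P Q
  intro c hc
  have h1 : (g : G)⁻¹ * c * (g : G) ∈ Subgroup.centralizer
      (((P : Subgroup ↥(Cfsg.pPrimePCore p G)).map (Cfsg.pPrimePCore p G).subtype : Subgroup G) :
        Set G) := by
    rw [Subgroup.mem_centralizer_iff]
    rintro _ ⟨y, hy, rfl⟩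
    have hyQ : g * y * g⁻¹ ∈ (Q : Subgroup ↥(Cfsg.pPrimePCore p G)) := by
      rw [← hg, Sylow.coe_subgroup_smul]
      have := Subgroup.smul_mem_pointwise_smul y (MulAut.conj g) (P : Subgroup ↥(Cfsg.pPrimePCore p G)) hy
      simpa [MulAut.smul_def] using this
    have hyQ' : ((g * y * g⁻¹ : ↥(Cfsg.pPrimePCore p G)) : G) ∈
        ((Q : Subgroup ↥(Cfsg.pPrimePCore p G)).map (Cfsg.pPrimePCore p G).subtype : Subgroup G) :=
      ⟨_, hyQ, rfl⟩
    have h2 := Subgroup.mem_centralizer_iff.mp hc _ hyQ'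
    simp only [Subgroup.coe_mul, Subgroup.coe_inv, Subgroup.coe_subtype] at h2 ⊢
    have h3 : (g : G) * (y : G) * (g : G)⁻¹ * c = c * ((g : G) * (y : G) * (g : G)⁻¹) := h2
    calc (y : G) * ((g : G)⁻¹ * c * (g : G))
        = (g : G)⁻¹ * ((g : G) * (y : G) * (g : G)⁻¹ * c) * (g : G) := by group
      _ = (g : G)⁻¹ * (c * ((g : G) * (y : G) * (g : G)⁻¹)) * (g : G) := by rw [h3]
      _ = (g : G)⁻¹ * c * (g : G) * (y : G) := by group
  have h4 := hmain h1
  have h5 := hKn.conj_mem _ h4 (g : G)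
  have h6 : (g : G) * ((g : G)⁻¹ * c * (g : G)) * (g : G)⁻¹ = c := by group
  rw [h6] at h5
  exact h5

end Cfsg.Agent.S0629
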