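import Cfsg.Statements.S0632
import Cfsg.Agent.Lib.helper14.PConstrained2

set_option autoImplicit false
open Cfsg

namespace Cfsg.Agent.S0632

open Cfsg.Agent.Lib.helper14 Cfsg.Agent.Lib.helper40

section aux

variable {G : Type*} [Group G]

/-- the conclusion of the `p`-stability condition for the pair `(A, P)` -/
def Concl (p : ℕ) (A P : Subgroup G) : Prop :=
  (A.subgroupOf (Subgroup.normalizer (P : Set G))).map
      (QuotientGroup.mk' ((Subgroup.centralizer (P : Set G)).subgroupOf
        (Subgroup.normalizer (P : Set G)))) ≤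
    Cfsg.pCore p (↥(Subgroup.normalizer (P : Set G)) ⧸
      (Subgroup.centralizer (P : Set G)).subgroupOf (Subgroup.normalizer (P : Set G)))

/-- restriction of the quotient map to normalizers -/
def psi (N : Subgroup G) [N.Normal] (P : Subgroup G) :
    ↥(Subgroup.normalizer (P : Set G)) →*
      ↥(Subgroup.normalizer ((P.map (QuotientGroup.mk' N) : Subgroup (G ⧸ N)) : Set (G ⧸ N))) :=
  ((QuotientGroup.mk' N).comp (Subgroup.normalizer (P : Set G)).subtype).codRestrict _
    (fun x => Subgroup.le_normalizer_map _ ⟨x, x.2, rfl⟩)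

theorem psi_coe (N : Subgroup G) [N.Normal] (P : Subgroup G)
    (x : ↥(Subgroup.normalizer (P : Set G))) :
    ((psi N P x : ↥(Subgroup.normalizer ((P.map (QuotientGroup.mk' N) : Subgroup (G ⧸ N)) :
      Set (G ⧸ N)))) : G ⧸ N) = (QuotientGroup.mk' N) (x : G) := rfl

theorem psi_le (N : Subgroup G) [N.Normal] (P : Subgroup G) :
    (Subgroup.centralizer (P : Set G)).subgroupOf (Subgroup.normalizer (P : Set G)) ≤
      ((Subgroup.centralizer ((P.map (QuotientGroup.mk' N) : Subgroup (G ⧸ N)) :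
          Set (G ⧸ N))).subgroupOf
        (Subgroup.normalizer ((P.map (QuotientGroup.mk' N) : Subgroup (G ⧸ N)) :
          Set (G ⧸ N)))).comap (psi N P) := by
  intro x hx
  rw [Subgroup.mem_comap, Subgroup.mem_subgroupOf, psi_coe]
  rw [Subgroup.mem_subgroupOf] at hx
  rw [Subgroup.mem_centralizer_iff]
  rintro _ ⟨u, hu, rfl⟩
  rw [← map_mul, ← map_mul, Subgroup.mem_centralizer_iff.mp hx u hu]

/-- the induced map `N_G(P)/C_G(P) → N_Ḡ(P̄)/C_Ḡ(P̄)` -/
def phi (N : Subgroup G) [N.Normal] (P : Subgroup G) :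
    ↥(Subgroup.normalizer (P : Set G)) ⧸
        (Subgroup.centralizer (P : Set G)).subgroupOf (Subgroup.normalizer (P : Set G)) →*
      ↥(Subgroup.normalizer ((P.map (QuotientGroup.mk' N) : Subgroup (G ⧸ N)) : Set (G ⧸ N))) ⧸
        (Subgroup.centralizer ((P.map (QuotientGroup.mk' N) : Subgroup (G ⧸ N)) :
          Set (G ⧸ N))).subgroupOf
        (Subgroup.normalizer ((P.map (QuotientGroup.mk' N) : Subgroup (G ⧸ N)) : Set (G ⧸ N))) :=
  QuotientGroup.map _ _ (psi N P) (psi_le N P)

theorem phi_mk (N : Subgroup G) [N.Normal] (P : Subgroup G)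
    (x : ↥(Subgroup.normalizer (P : Set G))) :
    phi N P (QuotientGroup.mk x) = QuotientGroup.mk (psi N P x) := rfl

variable [Finite G] {p : ℕ} [Fact p.Prime]

theorem psi_surjective (N : Subgroup G) [N.Normal] (hN : (Nat.card N).Coprime p) (P : Subgroup G)
    (hP : IsPGroup p P) : Function.Surjective (psi N P) := by
  intro y
  have hy : (y : G ⧸ N) ∈ (Subgroup.normalizer (P : Set G)).map (QuotientGroup.mk' N) := by
    rw [map_normalizer_of_coprime N hN P hP]; exact y.2
  obtain ⟨x, hx, hxy⟩ := hy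
  exact ⟨⟨x, hx⟩, Subtype.ext hxy⟩

theorem phi_surjective (N : Subgroup G) [N.Normal] (hN : (Nat.card N).Coprime p) (P : Subgroup G)
    (hP : IsPGroup p P) : Function.Surjective (phi N P) := by
  intro q
  obtain ⟨y, rfl⟩ := QuotientGroup.mk_surjective q
  obtain ⟨x, rfl⟩ := psi_surjective N hN P hP y
  exact ⟨QuotientGroup.mk x, rfl⟩

theorem phi_injective (N : Subgroup G) [N.Normal] (hN : (Nat.card N).Coprime p) (P : Subgroup G)
    (hP : IsPGroup p P) : Function.Injective (phi N P) := by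
  rw [injective_iff_map_eq_one]
  intro q hq
  obtain ⟨x, rfl⟩ := QuotientGroup.mk_surjective q
  rw [phi_mk, QuotientGroup.eq_one_iff, Subgroup.mem_subgroupOf, psi_coe,
    Subgroup.mem_centralizer_iff] at hq
  rw [QuotientGroup.eq_one_iff, Subgroup.mem_subgroupOf, Subgroup.mem_centralizer_iff]
  intro u hu
  have hcomm := hq _ ⟨u, hu, rfl⟩
  have h1 : (x : G) * u * (x : G)⁻¹ ∈ P := (Subgroup.mem_normalizer_iff.mp x.2 u).mp hu
  have h2 : (x : G) * u * (x : G)⁻¹ * u⁻¹ ∈ P := P.mul_mem h1 (P.inv_mem hu)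
  have h3 : (x : G) * u * (x : G)⁻¹ * u⁻¹ ∈ N := by
    rw [← QuotientGroup.eq_one_iff, ← QuotientGroup.mk'_apply]
    simp only [map_mul, map_inv]
    rw [← hcomm]
    group
  have h4 := Cfsg.Agent.Lib.helper38.eq_one_of_mem_pgroup_of_mem_coprime hP hN h2 h3
  calc u * (x : G) = ((x : G) * u * (x : G)⁻¹ * u⁻¹)⁻¹ * ((x : G) * u) := by group
    _ = (x : G) * u := by rw [h4]; group

theorem concl_forward (N : Subgroup G) [N.Normal] (hN : (Nat.card N).Coprime p) (P A : Subgroup G)
    (hP : IsPGroup p P) (hAN : A ≤ Subgroup.normalizer (P : Set G)) (key : Concl p A P) :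
    Concl p (A.map (QuotientGroup.mk' N)) (P.map (QuotientGroup.mk' N)) := by
  have hDn : ((Cfsg.pCore p (↥(Subgroup.normalizer (P : Set G)) ⧸
      (Subgroup.centralizer (P : Set G)).subgroupOf (Subgroup.normalizer (P : Set G)))).map
        (phi N P)).Normal := (pCore_normal' p _).map _ (phi_surjective N hN P hP)
  have hDp : IsPGroup p ↥((Cfsg.pCore p (↥(Subgroup.normalizer (P : Set G)) ⧸
      (Subgroup.centralizer (P : Set G)).subgroupOf (Subgroup.normalizer (P : Set G)))).map
        (phi N P)) := (pCore_isPGroup p _).map _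
  have hDle := le_pCore _ hDn hDp
  rintro _ ⟨y, hy, rfl⟩
  obtain ⟨a, ha, hay⟩ := Subgroup.mem_subgroupOf.mp hy
  apply hDle
  refine ⟨QuotientGroup.mk ⟨a, hAN ha⟩, ?_, ?_⟩
  · apply key
    exact ⟨⟨a, hAN ha⟩, Subgroup.mem_subgroupOf.mpr ha, rfl⟩
  · rw [phi_mk]
    have : psi N P ⟨a, hAN ha⟩ = y := Subtype.ext hay
    rw [this]
    rfl

theorem concl_forward' (N : Subgroup G) [N.Normal] (hN : (Nat.card N).Coprime p) (P A : Subgroup G)
    (hP : IsPGroup p P) (hAN : A ≤ Subgroup.normalizer (P : Set G)) (key : Concl p A P)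
    (Pb Ab : Subgroup (G ⧸ N)) (hPb : P.map (QuotientGroup.mk' N) = Pb)
    (hAb : A.map (QuotientGroup.mk' N) = Ab) : Concl p Ab Pb := by
  subst hPb
  subst hAb
  exact concl_forward N hN P A hP hAN key

theorem concl_backward (N : Subgroup G) [N.Normal] (hN : (Nat.card N).Coprime p) (P A : Subgroup G)
    (hP : IsPGroup p P)
    (keyBar : Concl p (A.map (QuotientGroup.mk' N)) (P.map (QuotientGroup.mk' N))) :
    Concl p A P := by
  have hDn : ((Cfsg.pCore p (↥(Subgroup.normalizer ((P.map (QuotientGroup.mk' N) : Subgroup (G ⧸ N)) :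
      Set (G ⧸ N))) ⧸ (Subgroup.centralizer ((P.map (QuotientGroup.mk' N) : Subgroup (G ⧸ N)) :
          Set (G ⧸ N))).subgroupOf
        (Subgroup.normalizer ((P.map (QuotientGroup.mk' N) : Subgroup (G ⧸ N)) : Set (G ⧸ N))))).comap
        (phi N P)).Normal := by
    have := pCore_normal' p (↥(Subgroup.normalizer ((P.map (QuotientGroup.mk' N) : Subgroup (G ⧸ N)) :
      Set (G ⧸ N))) ⧸ (Subgroup.centralizer ((P.map (QuotientGroup.mk' N) : Subgroup (G ⧸ N)) :
          Set (G ⧸ N))).subgroupOf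
        (Subgroup.normalizer ((P.map (QuotientGroup.mk' N) : Subgroup (G ⧸ N)) : Set (G ⧸ N))))
    infer_instance
  have hDp : IsPGroup p ↥((Cfsg.pCore p (↥(Subgroup.normalizer ((P.map (QuotientGroup.mk' N) :
      Subgroup (G ⧸ N)) : Set (G ⧸ N))) ⧸ (Subgroup.centralizer ((P.map (QuotientGroup.mk' N) :
          Subgroup (G ⧸ N)) : Set (G ⧸ N))).subgroupOf
        (Subgroup.normalizer ((P.map (QuotientGroup.mk' N) : Subgroup (G ⧸ N)) : Set (G ⧸ N))))).comap
        (phi N P)) :=
    (pCore_isPGroup p _).comap_of_injective (phi N P) (phi_injective N hN P hP)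
  have hDle := le_pCore _ hDn hDp
  rintro _ ⟨x, hx, rfl⟩
  apply hDle
  rw [Subgroup.mem_comap]
  apply keyBar
  refine ⟨psi N P x, ?_, rfl⟩
  apply Subgroup.mem_subgroupOf.mpr
  rw [psi_coe]
  exact ⟨(x : G), Subgroup.mem_subgroupOf.mp hx, rfl⟩

theorem exists_pgroup_sup (K₀ K : Subgroup G) (hK₀K : K₀ ≤ K) (h : ∃ n : ℕ, K₀.relIndex K = p ^ n) :
    ∃ T : Subgroup G, IsPGroup p T ∧ T ≤ K ∧ K ≤ K₀ ⊔ T := by
  obtain ⟨PK⟩ : Nonempty (Sylow p ↥K) := inferInstance
  exact ⟨(PK : Subgroup ↥K).map K.subtype, PK.isPGroup'.map _, Subgroup.map_subtype_le _,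
    le_sup_sylow_of_relIndex K₀ K hK₀K h PK⟩

end aux

/-- For a group with a nontrivial normal p-subgroup, p-stability passes to and from the quotient by the largest normal subgroup of order prime to p. -/
theorem result {G : Type*} [Group G] [Finite G] {p : ℕ} [Fact p.Prime] (hO : Cfsg.pCore p G ≠ ⊥) : Cfsg.IsPStable p G ↔ Cfsg.IsPStable p (G ⧸ Cfsg.pPrimeCore p G) := by
  have hNn := pPrimeCore_normal' p G
  have hNcop : (Nat.card (Cfsg.pPrimeCore p G)).Coprime p := pPrimeCore_card_coprime p G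
  have hcoreBar : Cfsg.pPrimeCore p (G ⧸ Cfsg.pPrimeCore p G) = ⊥ := pPrimeCore_quotient_pPrimeCore p
  have hkermap : ∀ K : Subgroup G, K ≤ Cfsg.pPrimeCore p G →
      K.map (QuotientGroup.mk' (Cfsg.pPrimeCore p G)) = ⊥ := by
    intro K hK
    rw [Subgroup.map_eq_bot_iff, QuotientGroup.ker_mk']
    exact hK
  constructor
  · intro hG
    refine ⟨hG.1, ?_, ?_⟩
    · intro h
      apply hO
      have h1 : (Cfsg.pCore p G).map (QuotientGroup.mk' (Cfsg.pPrimeCore p G)) ≤
          Cfsg.pCore p (G ⧸ Cfsg.pPrimeCore p G) :=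
        le_pCore _ ((pCore_normal' p G).map _ (QuotientGroup.mk'_surjective _))
          ((pCore_isPGroup p G).map _)
      rw [h] at h1
      rw [eq_bot_iff]
      intro x hx
      have h2 : (QuotientGroup.mk' (Cfsg.pPrimeCore p G)) x = 1 := Subgroup.mem_bot.mp (h1 ⟨x, hx, rfl⟩)
      have hxN : x ∈ Cfsg.pPrimeCore p G := by
        rw [QuotientGroup.mk'_apply, QuotientGroup.eq_one_iff] at h2; exact h2
      exact Subgroup.mem_bot.mpr (Cfsg.Agent.Lib.helper38.eq_one_of_mem_pgroup_of_mem_coprime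
        (pCore_isPGroup p G) hNcop hx hxN)
    · intro Ab Pb hAb hPb hAPb hPble hsupnb hqb
      have hPbn : Pb.Normal := by
        rw [hcoreBar, bot_sup_eq] at hsupnb; exact hsupnb
      have hPble' : Pb ≤ Cfsg.pCore p (G ⧸ Cfsg.pPrimeCore p G) := by
        rwa [pPrimePCore_eq_pCore_of p hcoreBar] at hPble
      have hLn : (Pb.comap (QuotientGroup.mk' (Cfsg.pPrimeCore p G))).Normal := inferInstance
      have hNL : Cfsg.pPrimeCore p G ≤ Pb.comap (QuotientGroup.mk' (Cfsg.pPrimeCore p G)) :=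
        le_comap_mk'_self _ _
      obtain ⟨P, hPp, hPL, hLle⟩ := exists_pgroup_sup (p := p) (Cfsg.pPrimeCore p G)
        (Pb.comap (QuotientGroup.mk' (Cfsg.pPrimeCore p G))) hNL (by
          rw [← card_map_mk', Subgroup.map_comap_eq_self_of_surjective (QuotientGroup.mk'_surjective _)]
          exact IsPGroup.iff_card.mp hPb)
      have hPmap : P.map (QuotientGroup.mk' (Cfsg.pPrimeCore p G)) = Pb := by
        apply le_antisymm
        · rw [Subgroup.map_le_iff_le_comap]; exact hPL
        · have h1 : Pb = (Pb.comap (QuotientGroup.mk' (Cfsg.pPrimeCore p G))).map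
              (QuotientGroup.mk' (Cfsg.pPrimeCore p G)) :=
            (Subgroup.map_comap_eq_self_of_surjective (QuotientGroup.mk'_surjective _) Pb).symm
          rw [h1]
          refine (Subgroup.map_mono hLle).trans ?_
          rw [Subgroup.map_sup, hkermap _ le_rfl, bot_sup_eq]
      have hNPmap : (Subgroup.normalizer (P : Set G)).map (QuotientGroup.mk' (Cfsg.pPrimeCore p G)) = ⊤ := by
        rw [map_normalizer_of_coprime _ hNcop P hPp, hPmap, Subgroup.normalizer_eq_top_iff.mpr hPbn]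
      obtain ⟨A, hAp, hAY, hY₁le⟩ := exists_pgroup_sup (p := p)
        (Cfsg.pPrimeCore p G ⊓ (Subgroup.normalizer (P : Set G) ⊓
          Ab.comap (QuotientGroup.mk' (Cfsg.pPrimeCore p G))))
        (Subgroup.normalizer (P : Set G) ⊓ Ab.comap (QuotientGroup.mk' (Cfsg.pPrimeCore p G)))
        inf_le_right (by
          rw [Subgroup.inf_relIndex_right, ← card_map_mk']
          exact IsPGroup.iff_card.mp (hAb.to_le (by
            rw [Subgroup.map_le_iff_le_comap]; exact inf_le_right)))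
      have hAmap : A.map (QuotientGroup.mk' (Cfsg.pPrimeCore p G)) = Ab := by
        apply le_antisymm
        · rw [Subgroup.map_le_iff_le_comap]; exact hAY.trans inf_le_right
        · intro y hy
          have hy' : y ∈ (Subgroup.normalizer (P : Set G)).map
              (QuotientGroup.mk' (Cfsg.pPrimeCore p G)) := by rw [hNPmap]; trivial
          obtain ⟨x, hx, rfl⟩ := hy'
          have hxY : x ∈ Subgroup.normalizer (P : Set G) ⊓
              Ab.comap (QuotientGroup.mk' (Cfsg.pPrimeCore p G)) := ⟨hx, hy⟩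
          have h1 := Subgroup.map_mono (f := QuotientGroup.mk' (Cfsg.pPrimeCore p G)) hY₁le
            ⟨x, hxY, rfl⟩
          rw [Subgroup.map_sup, hkermap _ inf_le_left, bot_sup_eq] at h1
          exact h1
      have hAN : A ≤ Subgroup.normalizer (P : Set G) := hAY.trans inf_le_left
      have hAP : ∀ a ∈ A, ∀ x ∈ P, a * x * a⁻¹ ∈ P :=
        fun a ha x hx => (Subgroup.mem_normalizer_iff.mp (hAN ha) x).mp hx
      have hPle : P ≤ Cfsg.pPrimePCore p G := by
        intro x hx
        show (QuotientGroup.mk' (Cfsg.pPrimeCore p G)) x ∈ Cfsg.pCore p (G ⧸ Cfsg.pPrimeCore p G)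
        exact hPble' (hPL hx)
      have hsupn : (Cfsg.pPrimeCore p G ⊔ P).Normal := by
        have : Cfsg.pPrimeCore p G ⊔ P = Pb.comap (QuotientGroup.mk' (Cfsg.pPrimeCore p G)) :=
          le_antisymm (sup_le hNL hPL) hLle
        rw [this]; exact hLn
      have hq : ⁅⁅P, A⁆, A⁆ = ⊥ := by
        rw [eq_bot_iff]
        intro x hx
        rw [Subgroup.mem_bot]
        have h1 : ⁅P, A⁆ ≤ P := by
          rw [Subgroup.commutator_le]
          intro u hu a ha
          rw [commutatorElement_def]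
          have h := hAP a ha u⁻¹ (P.inv_mem hu)
          have e : u * a * u⁻¹ * a⁻¹ = u * (a * u⁻¹ * a⁻¹) := by group
          rw [e]; exact P.mul_mem hu h
        have h2 : ⁅⁅P, A⁆, A⁆ ≤ P := (Subgroup.commutator_mono h1 le_rfl).trans h1
        have h3 : (QuotientGroup.mk' (Cfsg.pPrimeCore p G)) x ∈ ⁅⁅Pb, Ab⁆, Ab⁆ := by
          rw [← hPmap, ← hAmap, ← Subgroup.map_commutator, ← Subgroup.map_commutator]
          exact ⟨x, hx, rfl⟩
        rw [hqb] at h3
        have hxN : x ∈ Cfsg.pPrimeCore p G := by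
          have h4 := Subgroup.mem_bot.mp h3
          rw [QuotientGroup.mk'_apply, QuotientGroup.eq_one_iff] at h4; exact h4
        exact Cfsg.Agent.Lib.helper38.eq_one_of_mem_pgroup_of_mem_coprime hPp hNcop (h2 hx) hxN
      have key := hG.2.2 A P hAp hPp hAP hPle hsupn hq
      exact concl_forward' _ hNcop P A hPp hAN key Pb Ab hPmap hAmap
  · intro hbar
    refine ⟨hbar.1, hO, ?_⟩
    intro A P hA hP hAP hPle hsupn hq
    have keyBar := hbar.2.2 (A.map (QuotientGroup.mk' (Cfsg.pPrimeCore p G)))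
      (P.map (QuotientGroup.mk' (Cfsg.pPrimeCore p G))) (hA.map _) (hP.map _)
      (by
        rintro _ ⟨a, ha, rfl⟩ _ ⟨x, hx, rfl⟩
        exact ⟨a * x * a⁻¹, hAP a ha x hx, by simp⟩)
      (by
        rw [pPrimePCore_eq_pCore_of p hcoreBar, Subgroup.map_le_iff_le_comap]
        exact hPle)
      (by
        rw [hcoreBar, bot_sup_eq]
        have : P.map (QuotientGroup.mk' (Cfsg.pPrimeCore p G)) =
            (Cfsg.pPrimeCore p G ⊔ P).map (QuotientGroup.mk' (Cfsg.pPrimeCore p G)) := by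
          rw [Subgroup.map_sup, hkermap _ le_rfl, bot_sup_eq]
        rw [this]
        exact hsupn.map _ (QuotientGroup.mk'_surjective _))
      (by
        rw [← Subgroup.map_commutator, ← Subgroup.map_commutator, hq, Subgroup.map_bot])
    exact concl_backward _ hNcop P A hP keyBar

end Cfsg.Agent.S0632
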