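import Cfsg.Statements.S0633
import Cfsg.Agent.Lib.helper38.HHBMain

set_option autoImplicit false
open Cfsg

namespace Cfsg.Agent.S0633

/-- Theorem B of Hall and Higman on the minimal polynomial of a p-element of order p^n in a p-solvable linear group on a nonzero vector space in characteristic p with no nontrivial normal p-subgroup: its degree is p^n, except when some p^n₀ - 1 (n₀ ≤ n) is a power of a prime q for which the Sylow q-subgroups are non-abelian, in which case the degree is at least p^(n-n₀)(p^n₀ - 1). -/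
theorem result {F : Type*} [Field F] {p : ℕ} [Fact p.Prime] [CharP F p] {V : Type*} [AddCommGroup V] [Module F V] [FiniteDimensional F V] [Nontrivial V] (H : Subgroup (V ≃ₗ[F] V)) [Finite H] (hsol : Cfsg.IsPSolvable p H) (hOp : Cfsg.pCore p H = ⊥) (x : V ≃ₗ[F] V) (hx : x ∈ H) (n : ℕ) (hn : orderOf x = p ^ n) (r : ℕ) (hr : minpoly F (x : Module.End F V) = (Polynomial.X - 1) ^ r) : r = p ^ n ∨ ∃ n₀ q m : ℕ, 1 ≤ n₀ ∧ n₀ ≤ n ∧ q.Prime ∧ 1 ≤ m ∧ p ^ n₀ - 1 = q ^ m ∧ (∀ Q : Sylow q H, ¬ IsMulCommutative Q) ∧ p ^ (n - n₀) * (p ^ n₀ - 1) ≤ r := by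
  classical
  have hp : p.Prime := Fact.out
  have hxpow : x ^ p ^ n = 1 := by rw [← hn]; exact pow_orderOf_eq_one x
  obtain ⟨ρ, hρ⟩ : ∃ ρ : H →* Module.End F V,
      ∀ g : H, ρ g = ((g : V ≃ₗ[F] V) : Module.End F V) :=
    ⟨(LinearEquiv.automorphismGroup.toLinearMapMonoidHom).comp H.subtype, fun g => rfl⟩
  have hinj : Function.Injective ρ := by
    intro a b hab
    rw [hρ, hρ] at hab
    exact Subtype.ext (LinearEquiv.toLinearMap_injective hab)
  have hρx : ρ ⟨x, hx⟩ = (x : Module.End F V) := hρ ⟨x, hx⟩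
  have hs : ((x : Module.End F V) - 1) ^ r = 0 := by
    have h1 := minpoly.aeval F (x : Module.End F V)
    rw [hr] at h1
    simpa using h1
  have hdeg : ∀ k : ℕ, ((Polynomial.X - 1 : Polynomial F) ^ k).natDegree = k := by
    intro k
    have h1 : (Polynomial.X - 1 : Polynomial F) = Polynomial.X - Polynomial.C 1 := by
      rw [Polynomial.C_1]
    rw [h1, Polynomial.natDegree_pow, Polynomial.natDegree_X_sub_C, mul_one]
  have hle : r ≤ p ^ n := by
    have h1 : minpoly F (x : Module.End F V) ∣ (Polynomial.X - 1) ^ (p ^ n) := by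
      apply minpoly.dvd
      rw [map_pow, map_sub, Polynomial.aeval_X, map_one,
        Cfsg.Agent.Lib.helper38.HHB.sub_one_pow_char_pow p _ n, ← hρx, ← map_pow]
      have e : (⟨x, hx⟩ : H) ^ p ^ n = 1 := Subtype.ext (by simpa using hxpow)
      rw [e, map_one, sub_self]
    rw [hr] at h1
    have h2 := Polynomial.natDegree_le_of_dvd h1 (pow_ne_zero _ (Polynomial.X_sub_C_ne_zero 1))
    rw [hdeg] at h2
    have h3 := hdeg (p ^ n)
    have h4 : ((Polynomial.X - Polynomial.C 1 : Polynomial F) ^ p ^ n).natDegree = p ^ n := by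
      rw [Polynomial.C_1]; exact h3
    omega
  rcases Nat.eq_zero_or_pos n with hn0 | hnpos
  · left
    subst hn0
    rw [pow_zero] at hle ⊢
    rcases Nat.eq_zero_or_pos r with hr0 | hrpos
    · exfalso
      rw [hr0, pow_zero] at hs
      exact one_ne_zero hs
    · omega
  · have hordH : orderOf (⟨x, hx⟩ : H) = p ^ n := by
      rw [← hn]
      exact Subgroup.orderOf_mk x hx
    have hs' : (ρ ⟨x, hx⟩ - 1) ^ r = 0 := by rw [hρx]; exact hs
    rcases Cfsg.Agent.Lib.helper38.HHB.theoremB_rep ρ hinj hsol hOp ⟨x, hx⟩ n hnpos hordH r hs'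
      with h | ⟨n₀, q, m, h1, h2, hq, hqp, h3, h4, h5, h6⟩
    · left
      omega
    · right
      exact ⟨n₀, q, m, h1, h2, hq, h3, h4, h5, h6⟩

end Cfsg.Agent.S0633
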