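import Cfsg.Statements.S0635
import Cfsg.Agent.Lib.helper14.PConstrained

set_option autoImplicit false
open Cfsg

namespace Cfsg.Agent.S0635

open Cfsg.Agent.Lib.helper14 Cfsg.Agent.Lib.helper40 in
theorem upperCentral_le_upperP {G : Type*} [Group G] [Finite G] {p : ℕ} [Fact p.Prime]
    (hsol : Cfsg.IsPSolvable p G) (S : Sylow p G) (k : ℕ) :
    (Subgroup.upperCentralSeries ↥(S : Subgroup G) k).map (S : Subgroup G).subtype ≤
      (Cfsg.upperPSeries p G (2 * k)).1 := by
  induction k with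
  | zero =>
    simp [Cfsg.upperPSeries]
  | succ k ih =>
    have h2 : 2 * (k + 1) = 2 * k + 2 := by ring
    rw [h2]
    rintro _ ⟨z, hz, rfl⟩
    rw [upperPSeries_even_succ]
    show (QuotientGroup.mk' (Cfsg.upperPSeries p G (2 * k + 1)).1) (z : G) ∈
      Cfsg.pCore p (G ⧸ (Cfsg.upperPSeries p G (2 * k + 1)).1)
    apply centralizer_upperPSeries_le hsol k
    rw [Subgroup.mem_centralizer_iff]
    intro y hy
    have hyS : y ∈ (S : Subgroup G).map (QuotientGroup.mk' (Cfsg.upperPSeries p G (2 * k + 1)).1) := by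
      have := Cfsg.Agent.Lib.helper55.pCore_le_sylow
        (S.mapSurjective (QuotientGroup.mk'_surjective (Cfsg.upperPSeries p G (2 * k + 1)).1)) hy
      simpa using this
    obtain ⟨s, hs, rfl⟩ := hyS
    have h1 := (Subgroup.mem_upperCentralSeries_succ_iff.mp hz) ⟨s, hs⟩
    have h3 : (z : G) * s * (z : G)⁻¹ * s⁻¹ ∈ (Cfsg.upperPSeries p G (2 * k)).1 :=
      ih ⟨_, h1, rfl⟩
    have h4 : (z : G) * s * (z : G)⁻¹ * s⁻¹ ∈ (Cfsg.upperPSeries p G (2 * k + 1)).1 := by
      rw [upperPSeries_odd]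
      exact le_comap_mk'_self _ _ h3
    have h5 : (QuotientGroup.mk' (Cfsg.upperPSeries p G (2 * k + 1)).1)
        ((z : G) * s * (z : G)⁻¹ * s⁻¹) = 1 := by
      rw [QuotientGroup.mk'_apply, QuotientGroup.eq_one_iff]; exact h4
    simp only [map_mul, map_inv] at h5
    generalize (QuotientGroup.mk' (Cfsg.upperPSeries p G (2 * k + 1)).1) (z : G) = a at h5 ⊢
    generalize (QuotientGroup.mk' (Cfsg.upperPSeries p G (2 * k + 1)).1) s = b at h5 ⊢
    calc b * a = (a * b * a⁻¹ * b⁻¹)⁻¹ * (a * b) := by group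
      _ = a * b := by rw [h5]; group

/-- The p-length of a p-soluble group is at most the nilpotency class of its Sylow p-subgroups. -/
theorem result {G : Type*} [Group G] [Finite G] {p : ℕ} [Fact p.Prime] (hsol : Cfsg.IsPSolvable p G) (S : Sylow p G) : Cfsg.PLengthLE p (Group.nilpotencyClass ↥(S : Subgroup G)) G := by
  have hnil : Group.IsNilpotent ↥(S : Subgroup G) := S.isPGroup'.isNilpotent
  have h1 := upperCentral_le_upperP hsol S (Group.nilpotencyClass ↥(S : Subgroup G))
  rw [Subgroup.upperCentralSeries_nilpotencyClass, ← MonoidHom.range_eq_map, Subgroup.range_subtype] at h1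
  unfold Cfsg.PLengthLE
  generalize Group.nilpotencyClass ↥(S : Subgroup G) = c at h1
  rw [Cfsg.Agent.Lib.helper14.upperPSeries_odd]
  have h2 : ¬ p ∣ (Cfsg.upperPSeries p G (2 * c)).1.index := fun h =>
    S.not_dvd_index (dvd_trans h (Subgroup.index_dvd_of_le h1))
  have h3 : (Nat.card ((⊤ : Subgroup (G ⧸ (Cfsg.upperPSeries p G (2 * c)).1)))).Coprime p := by
    rw [Subgroup.card_top, ← Subgroup.index_eq_card]
    exact ((Nat.Prime.coprime_iff_not_dvd Fact.out).mpr h2).symm
  have h4 := Cfsg.Agent.Lib.helper40.le_pPrimeCore _ Subgroup.normal_top h3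
  rw [top_le_iff.mp h4]
  exact Subgroup.comap_top _

end Cfsg.Agent.S0635
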