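-- Statement S0640: prime divisors of |Aut(R)| for p-groups R of rank at most 2 (p odd).
import Cfsg.Statements.S0640
import Cfsg.Agent.Lib.helper30.RankTwo
import Cfsg.Agent.Lib.helper69.CoprimeAut
import Cfsg.Agent.Lib.helper26.PRank
import Cfsg.Agent.Lib.helper1.Coprime

set_option autoImplicit false
open Cfsg

namespace Cfsg.Agent.S0640

open scoped commutatorElement
open Cfsg.Agent.Lib.helper1 Cfsg.Agent.Lib.helper30 Cfsg.Agent.Lib.helper69 Cfsg.Agent.Lib.helper26

/-- internal form: a `q`-element of `N_G(R)` not centralizing the rank ≤ 2 `p`-subgroup `R`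
forces `q ∣ p ^ 2 - 1`. -/
theorem internal {G : Type*} [Group G] [Finite G] (p q : ℕ) [Fact p.Prime] [Fact q.Prime] (hp : p ≠ 2)
    (hpq : p ≠ q) (R : Subgroup G) (hR : IsPGroup p R) (hr : Cfsg.PRankLE p 2 R) (a : G)
    (ha : a ∈ Subgroup.normalizer (R : Set G)) (haq : a ^ q = 1) (hna : ¬ ∀ r ∈ R, a * r = r * a) :
    q ∣ p ^ 2 - 1 := by
  obtain ⟨B, hBR, hNB, hexp, hidx, hcent⟩ := exists_small_section p hp R hR hr
  have haB : a ∈ Subgroup.normalizer (B : Set G) := hNB ha
  have hpp : p.Prime := Fact.out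
  have hqq : q.Prime := Fact.out
  have hcop : (orderOf a).Coprime p := by
    have h1 : orderOf a ∣ q := orderOf_dvd_of_pow_eq_one haq
    have h2 : q.Coprime p := (Nat.coprime_primes hqq hpp).mpr (Ne.symm hpq)
    exact Nat.Coprime.coprime_dvd_left h1 h2
  obtain ⟨e, he⟩ : ∃ e : MulAut B, e = conjEquivOfMemNormalizer B a haB := ⟨_, rfl⟩
  obtain ⟨β, hβ⟩ : ∃ β : MulAut (Abelianization ↥B), β = MulEquiv.abelianizationCongr e := ⟨_, rfl⟩
  have hpow : ∀ n : ℕ, ∀ b : B, (((e ^ n : MulAut B) b : B) : G) = a ^ n * b * (a ^ n)⁻¹ := by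
    intro n
    induction n with
    | zero => intro b; simp
    | succ n ih =>
      intro b
      rw [pow_succ, MulAut.mul_apply, ih, pow_succ, he, coe_conjEquivOfMemNormalizer]
      group
  have hβpow : ∀ n : ℕ, ∀ b : B,
      (β ^ n) (Abelianization.of b) = Abelianization.of ((e ^ n : MulAut B) b) := by
    intro n
    induction n with
    | zero => intro b; simp
    | succ n ih =>
      intro b
      rw [pow_succ, MulAut.mul_apply, hβ, abelianizationCongr_of, ← hβ, ih, pow_succ,
        MulAut.mul_apply]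
  have hβq : β ^ q = 1 := by
    apply MulEquiv.ext
    intro v
    obtain ⟨b, rfl⟩ := QuotientGroup.mk_surjective v
    show (β ^ q) (Abelianization.of b) = Abelianization.of b
    rw [hβpow]
    congr 1
    apply Subtype.ext
    rw [hpow, haq]
    simp
  have hβne : β ≠ 1 := by
    intro h1
    apply hna
    apply hcent a ha hcop
    intro u hu
    have h0 : β (Abelianization.of ⟨u, hu⟩) = Abelianization.of (⟨u, hu⟩ : B) := by rw [h1]; rfl
    rw [hβ, abelianizationCongr_of] at h0
    have h2 : (e ⟨u, hu⟩) * (⟨u, hu⟩ : B)⁻¹ ∈ commutator B := by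
      rw [← Abelianization.ker_of, MonoidHom.mem_ker, map_mul, h0, map_inv, mul_inv_cancel]
    have h3 : (((e ⟨u, hu⟩) * (⟨u, hu⟩ : B)⁻¹ : B) : G) ∈ ⁅B, B⁆ := by
      rw [← Subgroup.map_subtype_commutator]
      exact ⟨_, h2, rfl⟩
    rw [he] at h3
    exact h3
  have hBp : IsPGroup p B := hR.to_le hBR
  have hQ : IsPGroup p (Abelianization ↥B) := IsPGroup.to_quotient hBp (commutator B)
  have hd : (frattini (Abelianization ↥B)).index ∣ p ^ 2 := by
    have h1 : (frattini (Abelianization ↥B)).index ∣ Nat.card (Abelianization ↥B) :=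
      Subgroup.index_dvd_card _
    have h2 : Nat.card (Abelianization ↥B) = (⁅B, B⁆).relIndex B := by
      have h3 : Nat.card (Abelianization ↥B) = (commutator B).index := (Subgroup.index_eq_card _).symm
      rw [h3, Subgroup.relIndex]
      congr 1
      rw [← Subgroup.map_subtype_commutator]
      exact (Subgroup.comap_map_eq_self_of_injective B.subtype_injective _).symm
    rw [h2] at h1
    exact h1.trans hidx
  obtain ⟨i, hi, hdvd⟩ := exists_dvd_pow_sub_one_of_mulAut hpq hQ 2 hd β hβq hβne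
  rw [Finset.mem_Icc] at hi
  have hi' : i = 1 ∨ i = 2 := by omega
  rcases hi' with rfl | rfl
  · have h1 : p ^ 1 - 1 ∣ p ^ 2 - 1 := Nat.pow_sub_one_dvd_pow_sub_one p (by norm_num : 1 ∣ 2)
    exact hdvd.trans h1
  · exact hdvd

/-- For odd p, a prime q ≠ p dividing the order of the automorphism group of a p-group of rank at most 2 divides p² - 1 and is less than p. -/
theorem result {R : Type*} [Group R] [Finite R] {p : ℕ} [Fact p.Prime] (hp : p ≠ 2) (hR : IsPGroup p R) (hrk : Cfsg.PRankLE p 2 R) (q : ℕ) (hq : q.Prime) (hqp : q ≠ p) (hdvd : q ∣ Nat.card (MulAut R)) : q ∣ p ^ 2 - 1 ∧ q < p := by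
  haveI : Fact q.Prime := ⟨hq⟩
  have hpp : p.Prime := Fact.out
  obtain ⟨α, hα⟩ := exists_prime_orderOf_dvd_card' q hdvd
  haveI : Finite (R ⋊[MonoidHom.id (MulAut R)] MulAut R) :=
    Finite.of_equiv _ SemidirectProduct.equivProd.symm
  have hinj : Function.Injective (SemidirectProduct.inl : R →* R ⋊[MonoidHom.id (MulAut R)] MulAut R) :=
    SemidirectProduct.inl_injective
  have hR' : IsPGroup p (SemidirectProduct.inl : R →* R ⋊[MonoidHom.id (MulAut R)] MulAut R).range :=
    hR.of_equiv (MonoidHom.ofInjective hinj)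
  have hr' : Cfsg.PRankLE p 2 (SemidirectProduct.inl : R →* R ⋊[MonoidHom.id (MulAut R)] MulAut R).range :=
    (prankLE_congr (MonoidHom.ofInjective hinj)).mp hrk
  have hconj : ∀ r : R, (SemidirectProduct.inr α : R ⋊[MonoidHom.id (MulAut R)] MulAut R) *
      SemidirectProduct.inl r * (SemidirectProduct.inr α)⁻¹ = SemidirectProduct.inl (α r) := by
    intro r
    rw [← map_inv, ← SemidirectProduct.inl_aut]
    rfl
  have ha : (SemidirectProduct.inr α : R ⋊[MonoidHom.id (MulAut R)] MulAut R) ∈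
      Subgroup.normalizer ((SemidirectProduct.inl : R →* R ⋊[MonoidHom.id (MulAut R)] MulAut R).range : Set _) := by
    haveI : (SemidirectProduct.inl : R →* R ⋊[MonoidHom.id (MulAut R)] MulAut R).range.Normal := by
      rw [SemidirectProduct.range_inl_eq_ker_rightHom]; infer_instance
    rw [Subgroup.normalizer_eq_top]
    exact Subgroup.mem_top _
  have haq : (SemidirectProduct.inr α : R ⋊[MonoidHom.id (MulAut R)] MulAut R) ^ q = 1 := by
    rw [← map_pow, ← hα, pow_orderOf_eq_one, map_one]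
  have hna : ¬ ∀ r ∈ (SemidirectProduct.inl : R →* R ⋊[MonoidHom.id (MulAut R)] MulAut R).range,
      (SemidirectProduct.inr α : R ⋊[MonoidHom.id (MulAut R)] MulAut R) * r =
        r * SemidirectProduct.inr α := by
    intro hall
    have h1 : α = 1 := by
      apply MulEquiv.ext
      intro r
      have h2 := hall (SemidirectProduct.inl r) ⟨r, rfl⟩
      have h3 := hconj r
      rw [h2, mul_inv_cancel_right] at h3
      exact (hinj h3).symm
    rw [h1, orderOf_one] at hα
    exact hq.one_lt.ne hα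
  have h1 : q ∣ p ^ 2 - 1 := internal p q hp (Ne.symm hqp) _ hR' hr' _ ha haq hna
  refine ⟨h1, ?_⟩
  have h2 : p ^ 2 - 1 = (p - 1) * (p + 1) := by
    have h3 : 1 ≤ p := hpp.one_lt.le
    obtain ⟨k, rfl⟩ : ∃ k, p = k + 1 := ⟨p - 1, by omega⟩
    simp only [Nat.add_sub_cancel]
    have : (k + 1) ^ 2 = k * (k + 1 + 1) + 1 := by ring
    rw [this, Nat.add_sub_cancel]
  rw [h2] at h1
  rcases (Nat.Prime.dvd_mul hq).mp h1 with h3 | h3
  · have h4 : q ≤ p - 1 := Nat.le_of_dvd (by have := hpp.two_le; omega) h3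
    have := hpp.two_le
    omega
  · have h4 : q ≤ p + 1 := Nat.le_of_dvd (by omega) h3
    by_contra hlt
    have h5 : q = p + 1 := by omega
    -- p odd, so p + 1 even and prime => p + 1 = 2
    have hodd : Odd p := hpp.odd_of_ne_two hp
    have heven : Even (p + 1) := hodd.add_one
    rw [← h5] at heven
    have h6 : q = 2 := (Nat.Prime.even_iff hq).mp heven
    have := hpp.two_le
    omega

end Cfsg.Agent.S0640
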