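import Cfsg.Statements.S0642
import Cfsg.Agent.Lib.helper14.PowerGen

set_option autoImplicit false
open Cfsg

namespace Cfsg.Agent.S0642

open scoped commutatorElement

/-- Among finite 2-groups the regular ones are exactly the abelian ones. -/
theorem result {G : Type*} [Group G] [Finite G] (hG : IsPGroup 2 G) : Cfsg.IsRegularPGroup 2 G ↔ ∀ a b : G, a * b = b * a := by
  constructor
  · intro hreg
    have : Fact (Nat.Prime 2) := ⟨Nat.prime_two⟩
    have hD : commutator G ≤ Subgroup.closure {y : G | ∃ x ∈ commutator G, y = x ^ 2} := by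
      rw [commutator_eq_closure, Subgroup.closure_le]
      rintro _ ⟨g, h, rfl⟩
      obtain ⟨c, hc, hab⟩ := hreg.2 (g⁻¹ * h⁻¹ * g) g⁻¹ 1
      have hc' : c = ⁅g, h⁆ := by
        have : c = ((g⁻¹ * h⁻¹ * g) ^ 2 ^ 1 * g⁻¹ ^ 2 ^ 1)⁻¹ * ((g⁻¹ * h⁻¹ * g) * g⁻¹) ^ 2 ^ 1 := by
          rw [hab]; group
        rw [this, commutatorElement_def]
        simp only [pow_one, pow_two]
        group
      rw [← hc', ← commutator_eq_closure]
      have hmono : Cfsg.powerClosure 2 1 ⁅Subgroup.closure ({g⁻¹ * h⁻¹ * g, g⁻¹} : Set G), Subgroup.closure ({g⁻¹ * h⁻¹ * g, g⁻¹} : Set G)⁆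
          ≤ Subgroup.closure {y : G | ∃ x ∈ commutator G, y = x ^ 2} := by
        unfold Cfsg.powerClosure
        apply Subgroup.closure_mono
        rintro y ⟨x, hx, rfl⟩
        refine ⟨x, ?_, by rw [pow_one]⟩
        rw [commutator_def]
        exact Subgroup.commutator_mono le_top le_top hx
      exact hmono hc
    have hbot : commutator G = ⊥ :=
      Cfsg.Agent.Lib.helper14.eq_bot_of_le_closure_pow (commutator G) (hG.to_subgroup _) hD
    intro a b
    have hab : ⁅a, b⁆ ∈ commutator G := by
      rw [commutator_def]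
      exact Subgroup.commutator_mem_commutator (Subgroup.mem_top a) (Subgroup.mem_top b)
    rw [hbot, Subgroup.mem_bot, commutatorElement_eq_one_iff_mul_comm] at hab
    exact hab
  · intro hcomm
    refine ⟨hG, fun a b n => ⟨1, one_mem _, ?_⟩⟩
    have : Commute a b := hcomm a b
    rw [mul_one, this.mul_pow]

end Cfsg.Agent.S0642
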