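import Cfsg.Statements.S0645
import Cfsg.Agent.S0127
import Cfsg.Agent.Lib.helper59.PairOrderP

set_option autoImplicit false
open Cfsg

namespace Cfsg.Agent.S0645

open Subgroup Cfsg.Agent.Lib.helper3 Cfsg.Agent.Lib.helper59

/-- `(1 + q j) ^ i ≡ 1 + i q j` modulo `q ^ 2`. -/
theorem one_add_pow_sub (q j : ℤ) (i : ℕ) :
    q ^ 2 ∣ (1 + q * j) ^ i - (1 + i * (q * j)) := by
  induction i with
  | zero => simp
  | succ i ih =>
    obtain ⟨t, ht⟩ := ih
    refine ⟨t * (1 + q * j) + i * j ^ 2, ?_⟩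
    have h1 : (1 + q * j) ^ (i + 1) = (1 + q * j) ^ i * (1 + q * j) := pow_succ _ _
    have h2 : (1 + q * j) ^ i = q ^ 2 * t + (1 + i * (q * j)) := by linarith
    rw [h1, h2]; push_cast; ring

/-- Classification of p-groups with a cyclic maximal subgroup, odd p: a non-abelian one of order p^n has generators a of order p^(n-1) and b of order p, b outside the cyclic subgroup generated by a, with b a b⁻¹ = a^(1 + p^(n-2)). -/
theorem result {G : Type*} [Group G] [Finite G] {p : ℕ} [Fact p.Prime] (hp : p ≠ 2) (n : ℕ) (hn : 3 ≤ n) (hG : Nat.card G = p ^ n) (C : Subgroup G) (hC : IsCyclic C) (hCi : C.index = p) (hna : ∃ x y : G, x * y ≠ y * x) : ∃ a b : G, orderOf a = p ^ (n - 1) ∧ orderOf b = p ∧ b ∉ Subgroup.zpowers a ∧ b * a * b⁻¹ = a ^ (1 + p ^ (n - 2)) := by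
  have hpP : p.Prime := Fact.out
  have hR : IsPGroup p G := IsPGroup.of_card hG
  have hnc : ¬ IsCyclic G := by
    intro h
    obtain ⟨x, y, hxy⟩ := hna
    exact hxy ((IsCyclic.isMulCommutative (α := G)).is_comm.comm x y)
  obtain ⟨⟨hΩc, hΩe⟩, hΩcard⟩ := Cfsg.Agent.S0127.result hp hR hnc C hC hCi
  have hCco : IsCoatom C := Cfsg.Agent.S0127.isCoatom_of_index_prime hpP hCi
  obtain ⟨hCn, -⟩ := coatom_normal_index hR hCco
  obtain ⟨a, ha⟩ := (Subgroup.isCyclic_iff_exists_zpowers_eq_top C).mp hC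
  have haC : a ∈ C := by rw [← ha]; exact Subgroup.mem_zpowers a
  have hord : orderOf a = p ^ (n - 1) := by
    have h1 := Subgroup.card_mul_index C
    rw [hCi, hG, ← ha, Nat.card_zpowers] at h1
    have e : p ^ n = p ^ (n - 1) * p := by rw [← pow_succ]; congr 1; omega
    rw [e] at h1
    exact Nat.eq_of_mul_eq_mul_right hpP.pos h1
  have hapow : a ^ (p ^ (n - 1)) = 1 := by rw [← hord]; exact pow_orderOf_eq_one a
  -- an element of order p outside C
  have hΩC : ¬ Subgroup.closure {x : G | x ^ p = 1} ≤ C := by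
    intro hle
    have : IsCyclic ↥(Subgroup.closure {x : G | x ^ p = 1}) := Subgroup.isCyclic_of_le hle
    exact not_isCyclic_of_card_sq_of_exp _ hΩcard hΩe this
  obtain ⟨b₀, hb₀Ω, hb₀C⟩ := SetLike.not_le_iff_exists.mp hΩC
  have hb₀p : b₀ ^ p = 1 := hΩe b₀ hb₀Ω
  -- the action of b₀ on C
  have hbab : b₀ * a * b₀⁻¹ ∈ Subgroup.zpowers a := by rw [ha]; exact hCn.conj_mem a haC b₀
  rw [← (isOfFinOrder_of_finite a).mem_powers_iff_mem_zpowers] at hbab
  obtain ⟨k, hk⟩ := hbab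
  have hk' : a ^ k = b₀ * a * b₀⁻¹ := hk
  have hiter : ∀ i : ℕ, b₀ ^ i * a * (b₀ ^ i)⁻¹ = a ^ (k ^ i) := by
    intro i
    induction i with
    | zero => simp
    | succ i ih =>
      have e : b₀ ^ (i + 1) * a * (b₀ ^ (i + 1))⁻¹ = b₀ * (b₀ ^ i * a * (b₀ ^ i)⁻¹) * b₀⁻¹ := by
        rw [pow_succ']; group
      rw [e, ih, ← conj_pow, ← hk', ← pow_mul, ← pow_succ']
  have hkp : a ^ (k ^ p) = a ^ 1 := by
    rw [← hiter p, hb₀p]; simp
  have hmod : k ^ p ≡ 1 [MOD p ^ (n - 1)] := by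
    rw [← hord]
    exact pow_eq_pow_iff_modEq.mp hkp
  obtain ⟨hd1, -⟩ := Cfsg.Agent.S0127.nt hpP hp (by omega) hmod
  have hpz : (p : ℤ) ≠ 0 := by exact_mod_cast hpP.ne_zero
  have hd3 : (p : ℤ) ^ (n - 2) ∣ (k : ℤ) - 1 := by
    have e : (p : ℤ) ^ (n - 1) = p * p ^ (n - 2) := by rw [← pow_succ']; congr 1; omega
    rw [e] at hd1
    exact (mul_dvd_mul_iff_left hpz).mp hd1
  obtain ⟨j, hj⟩ := hd3
  have hkj : (k : ℤ) = 1 + (p : ℤ) ^ (n - 2) * j := by linarith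
  have hordZ : ((orderOf a : ℕ) : ℤ) = (p : ℤ) * (p : ℤ) ^ (n - 2) := by
    rw [hord]; push_cast; rw [← pow_succ']; congr 1; omega
  -- closure {b₀, a} = ⊤
  have hgen : Subgroup.closure ({b₀, a} : Set G) = ⊤ := by
    apply Cfsg.Agent.S0127.eq_top_of_lt_of_index_prime hpP hCi
    have hle : C ≤ Subgroup.closure ({b₀, a} : Set G) := by
      rw [← ha, Subgroup.zpowers_le]
      exact Subgroup.subset_closure (by simp)
    refine lt_of_le_of_ne hle ?_
    intro heq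
    apply hb₀C
    rw [heq]
    exact Subgroup.subset_closure (by simp)
  -- p does not divide j
  have hpj : ¬ (p : ℤ) ∣ j := by
    rintro ⟨j', rfl⟩
    have h1 : b₀ * a * b₀⁻¹ = a := by
      rw [← hk', ← zpow_natCast, hkj, zpow_add, zpow_one]
      have h2 : a ^ ((p : ℤ) ^ (n - 2) * ((p : ℤ) * j')) = 1 := by
        apply orderOf_dvd_iff_zpow_eq_one.mp
        rw [hordZ]
        exact ⟨j', by ring⟩
      rw [h2, mul_one]
    have h3 : b₀ * a = a * b₀ := by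
      calc b₀ * a = (b₀ * a * b₀⁻¹) * b₀ := by group
        _ = a * b₀ := by rw [h1]
    have hcomm := (closure_comm_pow 0 ({b₀, a} : Set G) (by
      intro x hx y hy
      rcases hx with rfl | hx
      · rcases hy with rfl | hy
        · rfl
        · rw [Set.mem_singleton_iff.mp hy]; exact h3
      · rw [Set.mem_singleton_iff.mp hx]
        rcases hy with rfl | hy
        · exact h3.symm
        · rw [Set.mem_singleton_iff.mp hy]) (by intro x _; exact pow_zero x)).1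
    obtain ⟨x, y, hxy⟩ := hna
    exact hxy (hcomm x (hgen ▸ Subgroup.mem_top x) y (hgen ▸ Subgroup.mem_top y))
  -- an inverse of j modulo p
  have hcop : IsCoprime (p : ℤ) j :=
    (Nat.prime_iff_prime_int.mp hpP).coprime_iff_not_dvd.mpr hpj
  obtain ⟨u, v, huv⟩ := hcop
  obtain ⟨i, hi⟩ : ∃ i : ℕ, (i : ℤ) = v % (p : ℤ) :=
    ⟨(v % (p : ℤ)).toNat, Int.toNat_of_nonneg (Int.emod_nonneg v hpz)⟩
  have hij : (p : ℤ) ∣ (i : ℤ) * j - 1 := by
    refine ⟨-(v / (p : ℤ)) * j - u, ?_⟩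
    have h1 := Int.emod_add_mul_ediv v (p : ℤ)
    rw [hi]
    have h2 : v % (p : ℤ) = v - (p : ℤ) * (v / (p : ℤ)) := by linarith
    rw [h2]
    linear_combination huv
  obtain ⟨w, hw⟩ := hij
  refine ⟨a, b₀ ^ i, hord, ?_, ?_, ?_⟩
  · -- order p
    have hbC : b₀ ^ i ∉ C := by
      intro hcon
      apply hb₀C
      have h1 : b₀ = (b₀ ^ i) ^ j * (b₀ ^ p) ^ (-w) := by
        rw [← zpow_natCast b₀ i, ← zpow_natCast b₀ p, ← zpow_mul, ← zpow_mul, ← zpow_add]
        have e : (i : ℤ) * j + (p : ℤ) * -w = 1 := by linarith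
        rw [e, zpow_one]
      rw [h1, hb₀p, one_zpow, mul_one]
      exact zpow_mem hcon j
    apply orderOf_eq_prime
    · rw [← pow_mul, mul_comm, pow_mul, hb₀p, one_pow]
    · intro h1
      exact hbC (h1 ▸ one_mem _)
  · -- outside
    rw [ha]
    intro hcon
    apply hb₀C
    have h1 : b₀ = (b₀ ^ i) ^ j * (b₀ ^ p) ^ (-w) := by
      rw [← zpow_natCast b₀ i, ← zpow_natCast b₀ p, ← zpow_mul, ← zpow_mul, ← zpow_add]
      have e : (i : ℤ) * j + (p : ℤ) * -w = 1 := by linarith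
      rw [e, zpow_one]
    rw [h1, hb₀p, one_zpow, mul_one]
    exact zpow_mem hcon j
  · rw [hiter i, ← zpow_natCast a (k ^ i), ← zpow_natCast a (1 + p ^ (n - 2))]
    apply orderOf_dvd_sub_iff_zpow_eq_zpow.mp
    rw [hordZ]
    push_cast
    rw [hkj]
    obtain ⟨t, ht⟩ := one_add_pow_sub ((p : ℤ) ^ (n - 2)) j i
    have hq : (p : ℤ) ^ (n - 2) = p * p ^ (n - 3) := by rw [← pow_succ']; congr 1; omega
    refine ⟨(p : ℤ) ^ (n - 3) * t + w, ?_⟩
    have h5 : (1 + (p : ℤ) ^ (n - 2) * j) ^ i =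
        ((p : ℤ) ^ (n - 2)) ^ 2 * t + (1 + i * ((p : ℤ) ^ (n - 2) * j)) := by linarith
    rw [h5]
    have h6 : (i : ℤ) * j = 1 + p * w := by linarith
    have h7 : ((p : ℤ) ^ (n - 2)) ^ 2 * t + (1 + i * ((p : ℤ) ^ (n - 2) * j)) - (1 + (p : ℤ) ^ (n - 2))
        = (p : ℤ) ^ (n - 2) * ((p : ℤ) ^ (n - 2) * t) + (p : ℤ) ^ (n - 2) * ((i : ℤ) * j - 1) := by ring
    rw [h7, h6]
    nth_rewrite 2 [hq]
    ring

end Cfsg.Agent.S0645
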