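import Cfsg.Statements.S0652
import Cfsg.Agent.S0651

set_option autoImplicit false
open Cfsg

namespace Cfsg.Agent.S0652

/-- For odd p and D normal in the p-group S, the elementary abelian subgroups of D of largest order satisfy the replacement property for class-2 normal subgroups of S. -/
theorem result {S : Type*} [Group S] [Finite S] {p : ℕ} [Fact p.Prime] (hS : IsPGroup p S) (hp : p ≠ 2) (D : Subgroup S) [D.Normal] : ∀ (B : Subgroup S) [B.Normal], ⁅⁅B, B⁆, B⁆ = ⊥ → (∃ U ∈ (Set.image (fun A : Subgroup ↥D => A.map D.subtype) (Cfsg.maxElementaryAbelianSubgroups p ↥D)), ⁅B, B⁆ ≤ U ∧ ¬ B ≤ U) → ∃ A ∈ (Set.image (fun A : Subgroup ↥D => A.map D.subtype) (Cfsg.maxElementaryAbelianSubgroups p ↥D)), ⁅B, B⁆ ≤ A ∧ ¬ B ≤ A ∧ B ≤ Subgroup.normalizer (A : Set S) := by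
  intro B _ _ hU
  apply Cfsg.Agent.S0651.replacement_of_stable hS hp _ _ _ B hU
  · rintro A ⟨A₀, hA₀, rfl⟩
    have := hA₀.1.1
    infer_instance
  · rintro A ⟨A₀, hA₀, rfl⟩ b hcomm hcard hexp
    have hle := Cfsg.Agent.S0651.star_le D (A₀.map D.subtype) (Subgroup.map_subtype_le A₀) b
    have hexpA : Monoid.exponent ↥(A₀.map D.subtype) ∣ p := by
      apply Monoid.exponent_dvd_of_forall_pow_eq_one
      rintro ⟨x, hx⟩
      obtain ⟨a₀, ha₀, rfl⟩ := hx
      have h1 := hA₀.1.2 a₀ ha₀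
      apply Subtype.ext
      have h2 := congrArg Subtype.val h1
      simpa using h2
    have hexp' := hexp.trans hexpA
    refine ⟨((A₀.map D.subtype ⊓ (A₀.map D.subtype).map (MulAut.conj (b⁻¹)).toMonoidHom) ⊔
      Subgroup.closure {g : S | ∃ a ∈ A₀.map D.subtype, g = a * b⁻¹ * a⁻¹ * b}).subgroupOf D, ⟨⟨?_, ?_⟩, ?_⟩, ?_⟩
    · have := hcomm
      infer_instance
    · intro a ha
      rw [Subgroup.mem_subgroupOf] at ha
      have h1 := Monoid.exponent_dvd_iff_forall_pow_eq_one.mp hexp' ⟨(a : S), ha⟩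
      have h2 : (a : S) ^ p = 1 := by
        have h3 := congrArg Subtype.val h1
        rwa [Subgroup.coe_pow, Subgroup.coe_one] at h3
      apply Subtype.ext
      rw [Subgroup.coe_pow, Subgroup.coe_one]
      exact h2
    · intro B' hB'
      have e1 : Nat.card ↥(((A₀.map D.subtype ⊓ (A₀.map D.subtype).map (MulAut.conj (b⁻¹)).toMonoidHom) ⊔
          Subgroup.closure {g : S | ∃ a ∈ A₀.map D.subtype, g = a * b⁻¹ * a⁻¹ * b}).subgroupOf D) =
          Nat.card ↥((A₀.map D.subtype ⊓ (A₀.map D.subtype).map (MulAut.conj (b⁻¹)).toMonoidHom) ⊔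
          Subgroup.closure {g : S | ∃ a ∈ A₀.map D.subtype, g = a * b⁻¹ * a⁻¹ * b}) :=
        Nat.card_congr (Subgroup.subgroupOfEquivOfLe hle).toEquiv
      have e2 : Nat.card ↥(A₀.map D.subtype) = Nat.card ↥A₀ :=
        Subgroup.card_map_of_injective D.subtype_injective
      rw [e1, hcard, e2]
      exact hA₀.2 B' hB'
    · exact Subgroup.map_subgroupOf_eq_of_le hle

end Cfsg.Agent.S0652
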