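import Cfsg.Statements.S0656
import Cfsg.Agent.Lib.helper11.QuadSection
import Cfsg.Agent.Lib.helper91.BaerSuzuki

set_option autoImplicit false
open Cfsg

namespace Cfsg.Agent.S0656

/-- For odd p, a faithful group on an elementary abelian p-group with no nontrivial normal p-subgroup in which some nontrivial p-element acts quadratically has a section isomorphic to SL(2, p). -/
theorem result {G : Type*} [Group G] [Finite G] {p : ℕ} [Fact p.Prime] (hp : p ≠ 2) (V H : Subgroup G) (hV : Cfsg.IsElementaryAbelian p V) (hHV : H ≤ Subgroup.normalizer (V : Set G)) (hf : H ⊓ Subgroup.centralizer (V : Set G) = ⊥) (hO : Cfsg.pCore p ↥H = ⊥) (x : G) (hxH : x ∈ H) (hx1 : x ≠ 1) (hxp : ∃ k : ℕ, orderOf x = p ^ k) (hq : ⁅⁅V, Subgroup.zpowers x⁆, Subgroup.zpowers x⁆ = ⊥) : ∃ (K L : Subgroup G) (hL : (L.subgroupOf K).Normal), K ≤ H ∧ Nonempty ((K ⧸ L.subgroupOf K) ≃* Matrix.SpecialLinearGroup (Fin 2) (ZMod p)) := by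
  classical
  -- Baer–Suzuki: some conjugate of `x` generates a non-`p`-group with `x`
  have hBS : ∃ h ∈ H, ¬ IsPGroup p (Subgroup.closure ({x, h * x * h⁻¹} : Set G)) := by
    by_contra hall
    push Not at hall
    let x' : ↥H := ⟨x, hxH⟩
    let X : Set ↥H := {y | ∃ g : ↥H, y = g * x' * g⁻¹}
    have hconj : ∀ g : ↥H, ∀ y ∈ X, g * y * g⁻¹ ∈ X := by
      rintro g y ⟨k, rfl⟩
      exact ⟨g * k, by group⟩
    have h2 : ∀ y ∈ X, ∀ y' ∈ X, IsPGroup p (Subgroup.closure ({y, y'} : Set ↥H)) := by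
      rintro y ⟨g, rfl⟩ y' ⟨g', rfl⟩
      have hk : ((g⁻¹ * g' : ↥H) : G) ∈ H := (g⁻¹ * g').2
      have hp1 := (hall _ hk).map (MulAut.conj (g : G)).toMonoidHom
      have hp2 : IsPGroup p (Subgroup.closure
          ({(g : G) * x * (g : G)⁻¹, (g' : G) * x * (g' : G)⁻¹} : Set G)) := by
        refine hp1.to_le ?_
        rw [Subgroup.closure_le]
        intro w hw
        rcases hw with rfl | rfl
        · exact ⟨x, Subgroup.subset_closure (by simp), rfl⟩
        · refine ⟨((g⁻¹ * g' : ↥H) : G) * x * ((g⁻¹ * g' : ↥H) : G)⁻¹,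
            Subgroup.subset_closure (by simp), ?_⟩
          show (g : G) * (((g⁻¹ * g' : ↥H) : G) * x * ((g⁻¹ * g' : ↥H) : G)⁻¹) * (g : G)⁻¹ = _
          simp only [Subgroup.coe_mul, Subgroup.coe_inv]
          group
      -- pull back along the inclusion
      have hmap : (Subgroup.closure ({g * x' * g⁻¹, g' * x' * g'⁻¹} : Set ↥H)).map H.subtype =
          Subgroup.closure ({(g : G) * x * (g : G)⁻¹, (g' : G) * x * (g' : G)⁻¹} : Set G) := by
        rw [MonoidHom.map_closure]
        congr 1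
        ext w
        simp [x', Set.image_pair]
      rw [← hmap] at hp2
      intro z
      obtain ⟨n, hn⟩ := hp2 ⟨(z : ↥H), ⟨z, z.2, rfl⟩⟩
      refine ⟨n, ?_⟩
      have hn' := congrArg Subtype.val hn
      apply Subtype.ext
      apply Subtype.ext
      simpa using hn'
    have hpg := Cfsg.Agent.Lib.helper91.baer_suzuki X hconj h2
    have hnorm := Cfsg.Agent.Lib.helper91.closure_normal_of_conj X hconj
    have hle : Subgroup.closure X ≤ Cfsg.pCore p ↥H := le_sSup ⟨hnorm, hpg⟩
    rw [hO] at hle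
    have hx' : x' ∈ Subgroup.closure X := Subgroup.subset_closure ⟨1, by simp⟩
    have := (Subgroup.mem_bot).mp (hle hx')
    exact hx1 (congrArg Subtype.val this)
  obtain ⟨h, hhH, hnotp⟩ := hBS
  have hcl : Subgroup.closure ({x, h * x * h⁻¹} : Set G) ≤ H := by
    rw [Subgroup.closure_le]
    intro w hw
    rcases hw with rfl | rfl
    · exact hxH
    · exact H.mul_mem (H.mul_mem hhH hxH) (H.inv_mem hhH)
  -- the conjugate acts quadratically
  have hqb : ⁅⁅V, Subgroup.zpowers (h * x * h⁻¹)⁆, Subgroup.zpowers (h * x * h⁻¹)⁆ = ⊥ := by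
    have hVmap : V.map (MulAut.conj h).toMonoidHom = V := by
      have hn := hHV hhH
      rw [Subgroup.mem_normalizer_iff] at hn
      apply le_antisymm
      · rintro _ ⟨v, hv, rfl⟩
        exact (hn v).mp hv
      · intro v hv
        refine ⟨h⁻¹ * v * h, ?_, ?_⟩
        · have := (hn (h⁻¹ * v * h)).mpr (by
            have : h * (h⁻¹ * v * h) * h⁻¹ = v := by group
            rw [this]; exact hv)
          exact this
        · show h * (h⁻¹ * v * h) * h⁻¹ = v
          group
    have hZmap : (Subgroup.zpowers x).map (MulAut.conj h).toMonoidHom =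
        Subgroup.zpowers (h * x * h⁻¹) := by
      rw [MonoidHom.map_zpowers]; rfl
    rw [← hVmap, ← hZmap, ← Subgroup.map_commutator, ← Subgroup.map_commutator, hq,
      Subgroup.map_bot]
  -- a non-`p`-element
  have hnp : ∃ g ∈ Subgroup.closure ({x, h * x * h⁻¹} : Set G), ∀ k : ℕ,
      g ^ (p ^ k) ∉ Subgroup.centralizer (V : Set G) := by
    unfold IsPGroup at hnotp
    push Not at hnotp
    obtain ⟨g, hg⟩ := hnotp
    refine ⟨g, g.2, fun k hk => ?_⟩
    have h1 : (g : G) ^ (p ^ k) ∈ H ⊓ Subgroup.centralizer (V : Set G) :=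
      ⟨H.pow_mem (hcl g.2) _, hk⟩
    rw [hf, Subgroup.mem_bot] at h1
    apply hg k
    apply Subtype.ext
    simpa using h1
  have hVc : ∀ u ∈ V, ∀ v ∈ V, u * v = v * u := by
    intro u hu v hv
    haveI := hV.1
    have := mul_comm' (⟨u, hu⟩ : ↥V) ⟨v, hv⟩
    exact congrArg Subtype.val this
  obtain ⟨K, L, hL, hK, hiso⟩ :=
    Cfsg.Agent.Lib.helper11.QuadPair.exists_sl2p_section_of_quadratic_pair hp V
      (Subgroup.closure ({x, h * x * h⁻¹} : Set G)) hVc hV.2 (hcl.trans hHV) x (h * x * h⁻¹)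
      (Subgroup.subset_closure (by simp)) (Subgroup.subset_closure (by simp)) rfl hq hqb hnp
  exact ⟨K, L, hL, hK.trans hcl, hiso⟩

end Cfsg.Agent.S0656
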