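import Cfsg.Statements.S0657
import Cfsg.Agent.Lib.helper14.QuadStable
import Cfsg.Agent.Lib.helper11.QuadSection
import Cfsg.Agent.Lib.helper11.QuadSection2
import Cfsg.Agent.Lib.helper73.Frattini
import Cfsg.Agent.Lib.helper55.Basic
import Cfsg.Agent.S0029

set_option autoImplicit false
open Cfsg

namespace Cfsg.Agent.S0657

open scoped commutatorElement

/-- a section of a subgroup gives a section of the group -/
theorem section_of_subgroup {X : Type*} [Group X] (N : Subgroup X) {S : Type*} [Group S]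
    (K L : Subgroup ↥N) [hL : (L.subgroupOf K).Normal] (e : (↥K ⧸ L.subgroupOf K) ≃* S) :
    ∃ (K' L' : Subgroup X) (_ : (L'.subgroupOf K').Normal),
      Nonempty ((↥K' ⧸ L'.subgroupOf K') ≃* S) := by
  let ι : ↥K ≃* ↥(K.map N.subtype) := K.equivMapOfInjective N.subtype (Subgroup.subtype_injective N)
  let ψ : ↥(K.map N.subtype) →* S :=
    (e.toMonoidHom.comp (QuotientGroup.mk' (L.subgroupOf K))).comp ι.symm.toMonoidHom
  have hψ : Function.Surjective ψ := by
    intro s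
    obtain ⟨q, rfl⟩ := e.surjective s
    obtain ⟨k, rfl⟩ := QuotientGroup.mk'_surjective _ q
    exact ⟨ι k, by simp [ψ]⟩
  obtain ⟨L', hL', he⟩ := Cfsg.Agent.Lib.helper11.QuadPair.exists_section_of_surjective
    (K.map N.subtype) ψ hψ
  exact ⟨K.map N.subtype, L', hL', he⟩

/-- a section of a quotient gives a section of the group -/
theorem section_of_quotient {G : Type*} [Group G] (M : Subgroup G) [M.Normal] {S : Type*} [Group S]
    (K L : Subgroup (G ⧸ M)) [hL : (L.subgroupOf K).Normal] (e : (↥K ⧸ L.subgroupOf K) ≃* S) :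
    ∃ (K' L' : Subgroup G) (_ : (L'.subgroupOf K').Normal),
      Nonempty ((↥K' ⧸ L'.subgroupOf K') ≃* S) := by
  let π := QuotientGroup.mk' M
  let ψ₀ : ↥(K.comap π) →* ↥K := (π.comp (K.comap π).subtype).codRestrict K (fun k => k.2)
  have hψ₀ : Function.Surjective ψ₀ := by
    rintro ⟨y, hy⟩
    obtain ⟨x, rfl⟩ := QuotientGroup.mk'_surjective M y
    exact ⟨⟨x, hy⟩, rfl⟩
  let ψ : ↥(K.comap π) →* S :=
    (e.toMonoidHom.comp (QuotientGroup.mk' (L.subgroupOf K))).comp ψ₀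
  have hψ : Function.Surjective ψ := by
    intro s
    obtain ⟨q, rfl⟩ := e.surjective s
    obtain ⟨k, rfl⟩ := QuotientGroup.mk'_surjective _ q
    obtain ⟨x, rfl⟩ := hψ₀ k
    exact ⟨x, rfl⟩
  obtain ⟨L', hL', he⟩ := Cfsg.Agent.Lib.helper11.QuadPair.exists_section_of_surjective
    (K.comap π) ψ hψ
  exact ⟨K.comap π, L', hL', he⟩

/-- the core: if a quadratic element of `N_X(P)` does not lie in `O_p(N_X(P)/C_X(P))`, then
`N_X(P)` has a section `SL₂(p)`. -/
theorem section_of_quadratic {X : Type*} [Group X] [Finite X] {p : ℕ} [Fact p.Prime] (hp : p ≠ 2)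
    (P : Subgroup X) (hP : IsPGroup p P) (N : Subgroup X) (hPN : P ≤ N)
    [hUn : (P.subgroupOf N).Normal]
    [hCn : ((Subgroup.centralizer (P : Set X)).subgroupOf N).Normal] (a : ↥N)
    (hq : ⁅⁅P, Subgroup.zpowers (a : X)⁆, Subgroup.zpowers (a : X)⁆ = ⊥)
    (hnot : QuotientGroup.mk' ((Subgroup.centralizer (P : Set X)).subgroupOf N) a ∉
      Cfsg.pCore p _) :
    ∃ (K L : Subgroup ↥N) (_ : (L.subgroupOf K).Normal),
      Nonempty ((↥K ⧸ L.subgroupOf K) ≃* Matrix.SpecialLinearGroup (Fin 2) (ZMod p)) := by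
  classical
  set C : Subgroup ↥N := (Subgroup.centralizer (P : Set X)).subgroupOf N with hC
  set U : Subgroup ↥N := P.subgroupOf N with hU
  set W : Subgroup ↥N := (frattini ↥U).map U.subtype with hW
  have hWn : W.Normal := ConjAct.normal_of_characteristic_of_normal
  have hUp : IsPGroup p ↥U := hP.comap_of_injective N.subtype (Subgroup.subtype_injective N) |>.to_le le_rfl
  obtain ⟨n, hn⟩ := IsPGroup.iff_card.mp hUp
  have hNU : ∀ y : ↥N, y ∈ Subgroup.normalizer (U : Set ↥N) := fun y => by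
    rw [Subgroup.normalizer_eq_top]; exact Subgroup.mem_top y
  have hNW : ∀ y : ↥N, y ∈ Subgroup.normalizer (W : Set ↥N) := fun y => by
    rw [Subgroup.normalizer_eq_top]; exact Subgroup.mem_top y
  have hcomm : ∀ u ∈ U, ∀ v ∈ U, u * v * u⁻¹ * v⁻¹ ∈ W := by
    intro u hu v hv
    exact ⟨(⟨u, hu⟩ : ↥U) * ⟨v, hv⟩ * (⟨u, hu⟩ : ↥U)⁻¹ * (⟨v, hv⟩ : ↥U)⁻¹,
      Cfsg.Agent.Lib.helper73.commutator_mem_frattini hn _ _, rfl⟩
  have hexp : ∀ u ∈ U, u ^ p ∈ W := by
    intro u hu
    exact ⟨(⟨u, hu⟩ : ↥U) ^ p, Cfsg.Agent.Lib.helper73.pow_mem_frattini hn _, rfl⟩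
  -- quadratic action of `a`
  have hqa1 : ∀ u : ↥N, u ∈ U →
      a * (a * u * a⁻¹ * u⁻¹) * a⁻¹ * (a * u * a⁻¹ * u⁻¹)⁻¹ = 1 := by
    intro u hu
    apply Subtype.ext
    have huP : (u : X) ∈ P := hu
    have := Cfsg.Agent.Lib.helper14.quad_elem_of_commutator P ⊥ (a : X) hq.le (u : X) huP
    exact Subgroup.mem_bot.mp this
  have hnotp : ¬ (∀ gb : ↥N ⧸ C, IsPGroup p (Subgroup.closure
      ({QuotientGroup.mk' C a, gb * QuotientGroup.mk' C a * gb⁻¹} : Set (↥N ⧸ C)))) := by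
    intro h
    exact hnot (Cfsg.Agent.Lib.helper14.mem_pCore_of_forall_isPGroup p _ h)
  push Not at hnotp
  obtain ⟨gb, hgb⟩ := hnotp
  obtain ⟨g, rfl⟩ := QuotientGroup.mk'_surjective C gb
  have hqb : ∀ u ∈ U, (g * a * g⁻¹) * ((g * a * g⁻¹) * u * (g * a * g⁻¹)⁻¹ * u⁻¹) *
      (g * a * g⁻¹)⁻¹ * ((g * a * g⁻¹) * u * (g * a * g⁻¹)⁻¹ * u⁻¹)⁻¹ ∈ W := by
    intro u hu
    have hu' : g⁻¹ * u * g ∈ U := by
      have := hUn.conj_mem u hu g⁻¹
      rwa [inv_inv] at this
    have e : (g * a * g⁻¹) * ((g * a * g⁻¹) * u * (g * a * g⁻¹)⁻¹ * u⁻¹) *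
        (g * a * g⁻¹)⁻¹ * ((g * a * g⁻¹) * u * (g * a * g⁻¹)⁻¹ * u⁻¹)⁻¹ =
        g * (a * (a * (g⁻¹ * u * g) * a⁻¹ * (g⁻¹ * u * g)⁻¹) * a⁻¹ *
          (a * (g⁻¹ * u * g) * a⁻¹ * (g⁻¹ * u * g)⁻¹)⁻¹) * g⁻¹ := by group
    rw [e, hqa1 _ hu']
    simp
  obtain ⟨K, L, hL, -, ⟨e⟩⟩ := Cfsg.Agent.Lib.helper11.QuadPair.exists_sl2_section_of_quad_pair p hp U W
    (Subgroup.map_subtype_le _) (fun y _ => hNW y) hcomm hexp a (g * a * g⁻¹)
    (hNU _) (hNW _) (hNU _) (hNW _)
    (fun u hu => by rw [hqa1 u hu]; exact Subgroup.one_mem _) hqb (by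
      rintro ⟨k, hk⟩
      apply hgb
      have himg : Subgroup.closure ({QuotientGroup.mk' C a,
          QuotientGroup.mk' C g * QuotientGroup.mk' C a * (QuotientGroup.mk' C g)⁻¹} :
            Set (↥N ⧸ C)) =
          (Subgroup.closure ({a, g * a * g⁻¹} : Set ↥N)).map (QuotientGroup.mk' C) := by
        rw [MonoidHom.map_closure, Set.image_pair]
        simp
      rw [himg]
      rintro ⟨y, hy⟩
      obtain ⟨h, hh, rfl⟩ := Subgroup.mem_map.mp hy
      -- `h₁ = h ^ p ^ k` acts trivially on `U/W`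
      obtain ⟨j, m, hm, hjm⟩ := Nat.exists_eq_pow_mul_and_not_dvd
        (orderOf_pos (h ^ p ^ k)).ne' p (Fact.out : p.Prime).ne_one
      refine ⟨k + j, ?_⟩
      apply Subtype.ext
      show (QuotientGroup.mk' C h) ^ p ^ (k + j) = 1
      rw [← map_pow]
      refine (QuotientGroup.eq_one_iff _).mpr ?_
      -- the kernel of the action on `U/W`
      let Ker : Subgroup ↥N :=
        { carrier := {x | ∀ u ∈ U, x * u * x⁻¹ * u⁻¹ ∈ W}
          one_mem' := fun u _ => by simp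
          mul_mem' := fun {x y} hx hy u hu => by
            have h1 := hy u hu
            have h2 := hx u hu
            have h3 := hWn.conj_mem _ h1 x
            have e : x * y * u * (x * y)⁻¹ * u⁻¹ =
                (x * (y * u * y⁻¹ * u⁻¹) * x⁻¹) * (x * u * x⁻¹ * u⁻¹) := by group
            rw [e]
            exact Subgroup.mul_mem _ h3 h2
          inv_mem' := fun {x} hx u hu => by
            have hu' : x⁻¹ * u * x ∈ U := by
              have := hUn.conj_mem u hu x⁻¹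
              rwa [inv_inv] at this
            have h1 := hx _ hu'
            have e : x⁻¹ * u * x⁻¹⁻¹ * u⁻¹ = (x * (x⁻¹ * u * x) * x⁻¹ * (x⁻¹ * u * x)⁻¹)⁻¹ := by
              group
            rw [e]
            exact Subgroup.inv_mem _ h1 }
      have h1 : h ^ p ^ k ∈ Ker := fun u hu => hk h hh u hu
      have hcop : (orderOf ((h ^ p ^ k) ^ p ^ j)).Coprime p := by
        rw [orderOf_pow' _ (pow_pos (Fact.out : p.Prime).pos j).ne', hjm,
          Nat.gcd_eq_right (Dvd.intro _ rfl), Nat.mul_div_cancel_left _ (pow_pos (Fact.out : p.Prime).pos j)]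
        exact (Nat.Prime.coprime_iff_not_dvd (Fact.out : p.Prime)).mpr hm |>.symm
      have h2 : Subgroup.zpowers ((h ^ p ^ k) ^ p ^ j) ≤ Subgroup.centralizer (U : Set ↥N) := by
        apply Cfsg.Agent.S0029.result
        · intro y _; exact hNU y
        · rw [Nat.card_zpowers]
          obtain ⟨i, hi⟩ := IsPGroup.iff_card.mp (hUp.to_subgroup (frattini ↥U))
          rw [hi]
          exact Nat.Coprime.pow_right i hcop
        · intro x hx u hu
          have hxK : x ∈ Ker := by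
            have : Subgroup.zpowers ((h ^ p ^ k) ^ p ^ j) ≤ Ker :=
              Subgroup.zpowers_le.mpr (Subgroup.pow_mem _ h1 _)
            exact this hx
          exact hxK u hu
      have h3 := h2 (Subgroup.mem_zpowers _)
      rw [pow_add, pow_mul]
      show ((((h ^ p ^ k) ^ p ^ j : ↥N)) : X) ∈ Subgroup.centralizer (P : Set X)
      rw [Subgroup.mem_centralizer_iff]
      intro x hx
      have hxN : x ∈ N := hPN hx
      have := Subgroup.mem_centralizer_iff.mp h3 ⟨x, hxN⟩ hx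
      exact congrArg Subtype.val this)
  exact ⟨K, L, hL, ⟨e⟩⟩

/-- For odd p, a group that fails to be p-stable modulo its largest normal subgroup of order prime to p, and whose upper p-series does not stop there, has a section isomorphic to SL(2, p). -/
theorem result {G : Type*} [Group G] [Finite G] {p : ℕ} [Fact p.Prime] (hp : p ≠ 2) (hO : Cfsg.pPrimeCore p G < Cfsg.pPrimePCore p G) (hns : ¬ Cfsg.IsPStable p (G ⧸ Cfsg.pPrimeCore p G)) : ∃ (K L : Subgroup G) (hL : (L.subgroupOf K).Normal), K ≤ ⊤ ∧ Nonempty ((K ⧸ L.subgroupOf K) ≃* Matrix.SpecialLinearGroup (Fin 2) (ZMod p)) := by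
  classical
  suffices key : ∃ (K L : Subgroup (G ⧸ Cfsg.pPrimeCore p G)) (_ : (L.subgroupOf K).Normal),
      Nonempty ((↥K ⧸ L.subgroupOf K) ≃* Matrix.SpecialLinearGroup (Fin 2) (ZMod p)) by
    obtain ⟨K, L, hL, ⟨e⟩⟩ := key
    obtain ⟨K', L', hL', he⟩ := section_of_quotient (Cfsg.pPrimeCore p G) K L e
    exact ⟨K', L', hL', le_top, he⟩
  by_contra hno
  apply hns
  refine ⟨(Fact.out : p.Prime).odd_of_ne_two hp, ?_, ?_⟩
  · intro hbot
    have : Cfsg.pPrimePCore p G = Cfsg.pPrimeCore p G := by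
      unfold Cfsg.pPrimePCore
      rw [hbot, MonoidHom.comap_bot, QuotientGroup.ker_mk']
    rw [this] at hO
    exact lt_irrefl _ hO
  · intro A P hA hP hAP hPle hnorm hquad
    rintro _ ⟨a, haA, rfl⟩
    by_contra hnot
    apply hno
    have haA' : (a : G ⧸ Cfsg.pPrimeCore p G) ∈ A := haA
    have hq : ⁅⁅P, Subgroup.zpowers (a : G ⧸ Cfsg.pPrimeCore p G)⁆,
        Subgroup.zpowers (a : G ⧸ Cfsg.pPrimeCore p G)⁆ = ⊥ := by
      apply le_bot_iff.mp
      rw [← hquad]
      have hz : Subgroup.zpowers (a : G ⧸ Cfsg.pPrimeCore p G) ≤ A := Subgroup.zpowers_le.mpr haA'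
      exact Subgroup.commutator_mono (Subgroup.commutator_mono le_rfl hz) hz
    haveI : (P.subgroupOf (Subgroup.normalizer (P : Set (G ⧸ Cfsg.pPrimeCore p G)))).Normal :=
      Subgroup.normal_in_normalizer
    obtain ⟨K, L, hL, ⟨e⟩⟩ := section_of_quadratic hp P hP _ Subgroup.le_normalizer a hq hnot
    exact section_of_subgroup _ K L e

end Cfsg.Agent.S0657
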