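import Cfsg.Statements.S0658
import Cfsg.Agent.Lib.helper14.ZJ2

set_option autoImplicit false
open Cfsg

namespace Cfsg.Agent.S0658

open Cfsg.Agent.Lib.helper14 Cfsg.Agent.Lib.helper40 Cfsg.Agent.Lib.helper53

section aux

variable {G : Type*} [Group G] [Finite G] {p : ℕ} [Fact p.Prime]

omit [Finite G] [Fact p.Prime] in
theorem sylow_smul_coe (m : G) (P : Sylow p G) :
    ((m • P : Sylow p G) : Subgroup G) = (P : Subgroup G).map (MulAut.conj m).toMonoidHom := by
  rw [Sylow.coe_subgroup_smul]; rfl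

/-- every local subgroup normalizes `Z(J(R))` for each of its Sylow `p`-subgroups `R` -/
theorem le_normalizer_zjE_of_local (hp : p ≠ 2)
    (hloc : ∀ Q : Subgroup G, IsPGroup p Q → Q ≠ ⊥ →
      Cfsg.pPrimeCore p ↥(Subgroup.normalizer (Q : Set G)) = ⊥ ∧
      Cfsg.IsPConstrained p ↥(Subgroup.normalizer (Q : Set G)) ∧
      Cfsg.IsPStable p ↥(Subgroup.normalizer (Q : Set G)))
    (Q : Subgroup G) (hQ : IsPGroup p Q) (hQ1 : Q ≠ ⊥)
    (R' : Sylow p ↥(Subgroup.normalizer (Q : Set G))) :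
    Subgroup.normalizer (Q : Set G) ≤ Subgroup.normalizer
      (zjE 0 ((R' : Subgroup ↥(Subgroup.normalizer (Q : Set G))).map
        (Subgroup.normalizer (Q : Set G)).subtype) : Set G) := by
  obtain ⟨h1, h2, h3⟩ := hloc Q hQ hQ1
  have hn := zjE_normal_of_isPStable hp 0 h1 h2 h3 R'
  rw [zjE_map_of_injective (Subgroup.subtype_injective _)]
  intro g hg
  have : (⟨g, hg⟩ : ↥(Subgroup.normalizer (Q : Set G))) ∈ Subgroup.normalizer
      ((zjE 0 (R' : Subgroup ↥(Subgroup.normalizer (Q : Set G))) :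
        Subgroup ↥(Subgroup.normalizer (Q : Set G))) : Set ↥(Subgroup.normalizer (Q : Set G))) := by
    rw [Subgroup.normalizer_eq_top_iff.mpr hn]; trivial
  exact Subgroup.le_normalizer_map (Subgroup.normalizer (Q : Set G)).subtype ⟨_, this, rfl⟩

/-- `p`-subgroups of `M` lie in `M`-conjugates of the Sylow `p`-subgroup `P ≤ M` -/
theorem exists_conj_ge (P : Sylow p G) (M : Subgroup G) (hPM : (P : Subgroup G) ≤ M)
    (X : Subgroup G) (hX : IsPGroup p X) (hXM : X ≤ M) :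
    ∃ m ∈ M, X ≤ ((m • P : Sylow p G) : Subgroup G) := by
  obtain ⟨g, hg⟩ := exists_le_conj_sylow (hX.comap_subtype (K := M)) (P.subtype hPM)
  refine ⟨g, g.2, ?_⟩
  rw [sylow_smul_coe]
  intro x hx
  have h1 : (⟨x, hXM hx⟩ : ↥M) ∈ X.subgroupOf M := Subgroup.mem_subgroupOf.mpr hx
  obtain ⟨y, hy, hyx⟩ := hg h1
  rw [Sylow.coe_subtype] at hy
  refine ⟨(y : G), Subgroup.mem_subgroupOf.mp hy, ?_⟩
  have := congrArg Subtype.val hyx
  simpa using this

theorem main (hp : p ≠ 2)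
    (hloc : ∀ Q : Subgroup G, IsPGroup p Q → Q ≠ ⊥ →
      Cfsg.pPrimeCore p ↥(Subgroup.normalizer (Q : Set G)) = ⊥ ∧
      Cfsg.IsPConstrained p ↥(Subgroup.normalizer (Q : Set G)) ∧
      Cfsg.IsPStable p ↥(Subgroup.normalizer (Q : Set G)))
    (P : Sylow p G) :
    ∀ (P' : Sylow p G) (Q : Subgroup G),
      (∃ m ∈ Subgroup.normalizer (zjE 0 (P : Subgroup G) : Set G), P' = m • P) →
      Q ≤ (P' : Subgroup G) → Q ≠ ⊥ →
      Subgroup.normalizer (Q : Set G) ≤ Subgroup.normalizer (zjE 0 (P : Subgroup G) : Set G) := by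
  -- basic facts on `M = N(Z(J(P)))` and the `M`-conjugates of `P`
  have hPM : (P : Subgroup G) ≤ Subgroup.normalizer (zjE 0 (P : Subgroup G) : Set G) :=
    Subgroup.le_normalizer.trans (normalizer_le_normalizer_zjE 0 _)
  have hconjM : ∀ P' : Sylow p G,
      (∃ m ∈ Subgroup.normalizer (zjE 0 (P : Subgroup G) : Set G), P' = m • P) →
      (P' : Subgroup G) ≤ Subgroup.normalizer (zjE 0 (P : Subgroup G) : Set G) := by
    rintro P' ⟨m, hm, rfl⟩
    rw [sylow_smul_coe]
    rintro _ ⟨x, hx, rfl⟩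
    show m * x * m⁻¹ ∈ _
    exact Subgroup.mul_mem _ (Subgroup.mul_mem _ hm (hPM hx)) (Subgroup.inv_mem _ hm)
  have hconjZ : ∀ P' : Sylow p G,
      (∃ m ∈ Subgroup.normalizer (zjE 0 (P : Subgroup G) : Set G), P' = m • P) →
      zjE 0 (P' : Subgroup G) = zjE 0 (P : Subgroup G) := by
    rintro P' ⟨m, hm, rfl⟩
    rw [sylow_smul_coe, zjE_conj]
    exact Subgroup.mem_normalizer_iff_map_conj_eq.mp hm
  by_contra hcon
  have hne : Nonempty {x : Sylow p G × Subgroup G //
      (∃ m ∈ Subgroup.normalizer (zjE 0 (P : Subgroup G) : Set G), x.1 = m • P) ∧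
      x.2 ≤ (x.1 : Subgroup G) ∧ x.2 ≠ ⊥ ∧
      ¬ Subgroup.normalizer (x.2 : Set G) ≤ Subgroup.normalizer (zjE 0 (P : Subgroup G) : Set G)} := by
    by_contra hempty
    apply hcon
    intro P' Q h1 h2 h3
    by_contra h4
    exact hempty ⟨⟨(P', Q), h1, h2, h3, h4⟩⟩
  obtain ⟨⟨⟨P', Q⟩, hP'mem, hQP', hQ1, hbad⟩, hmax⟩ := Finite.exists_max
    (fun x : {x : Sylow p G × Subgroup G //
      (∃ m ∈ Subgroup.normalizer (zjE 0 (P : Subgroup G) : Set G), x.1 = m • P) ∧
      x.2 ≤ (x.1 : Subgroup G) ∧ x.2 ≠ ⊥ ∧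
      ¬ Subgroup.normalizer (x.2 : Set G) ≤ Subgroup.normalizer (zjE 0 (P : Subgroup G) : Set G)} =>
      Nat.card ↥((x.1.1 : Subgroup G) ⊓ Subgroup.normalizer (x.1.2 : Set G)))
  simp only at hP'mem hQP' hQ1 hbad hmax
  -- (**)
  have hstar2 : ∀ (P'' : Sylow p G) (Q' : Subgroup G),
      (∃ m ∈ Subgroup.normalizer (zjE 0 (P : Subgroup G) : Set G), P'' = m • P) →
      Q' ≤ (P'' : Subgroup G) → Q' ≠ ⊥ →
      Nat.card ↥((P' : Subgroup G) ⊓ Subgroup.normalizer (Q : Set G)) <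
        Nat.card ↥((P'' : Subgroup G) ⊓ Subgroup.normalizer (Q' : Set G)) →
      Subgroup.normalizer (Q' : Set G) ≤ Subgroup.normalizer (zjE 0 (P : Subgroup G) : Set G) := by
    intro P'' Q' h1 h2 h3 h4
    by_contra h5
    have := hmax ⟨(P'', Q'), h1, h2, h3, h5⟩
    simp only at this
    omega
  -- (***)
  have hstar3 : ∀ Q' : Subgroup G, IsPGroup p Q' →
      Q' ≤ Subgroup.normalizer (zjE 0 (P : Subgroup G) : Set G) →
      Nat.card ↥((P' : Subgroup G) ⊓ Subgroup.normalizer (Q : Set G)) < Nat.card ↥Q' →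
      Subgroup.normalizer (Q' : Set G) ≤ Subgroup.normalizer (zjE 0 (P : Subgroup G) : Set G) := by
    intro Q' hQ'p hQ'M hlt
    obtain ⟨m, hm, hQ'le⟩ := exists_conj_ge P _ hPM Q' hQ'p hQ'M
    apply hstar2 (m • P) Q' ⟨m, hm, rfl⟩ hQ'le
    · rintro rfl
      rw [Subgroup.card_bot] at hlt
      have : 0 < Nat.card ↥((P' : Subgroup G) ⊓ Subgroup.normalizer (Q : Set G)) := Nat.card_pos
      omega
    · exact lt_of_lt_of_le hlt (Subgroup.card_le_of_le (le_inf hQ'le Subgroup.le_normalizer))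
  have hP'M := hconjM P' hP'mem
  have hQp : IsPGroup p ↥Q := P'.isPGroup'.to_le hQP'
  have hQR₀ : Q ≤ (P' : Subgroup G) ⊓ Subgroup.normalizer (Q : Set G) :=
    le_inf hQP' Subgroup.le_normalizer
  obtain ⟨R', hR'⟩ := ((P'.isPGroup'.to_le (inf_le_left :
    (P' : Subgroup G) ⊓ Subgroup.normalizer (Q : Set G) ≤ P')).comap_subtype
      (K := Subgroup.normalizer (Q : Set G))).exists_le_sylow
  have hA := le_normalizer_zjE_of_local hp hloc Q hQp hQ1 R'
  have hRp : IsPGroup p ↥((R' : Subgroup ↥(Subgroup.normalizer (Q : Set G))).map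
      (Subgroup.normalizer (Q : Set G)).subtype) := R'.isPGroup'.map _
  have hR₀R : (P' : Subgroup G) ⊓ Subgroup.normalizer (Q : Set G) ≤
      (R' : Subgroup ↥(Subgroup.normalizer (Q : Set G))).map
        (Subgroup.normalizer (Q : Set G)).subtype := by
    intro x hx
    exact ⟨⟨x, hx.2⟩, hR' (Subgroup.mem_subgroupOf.mpr hx), rfl⟩
  have hRH : (R' : Subgroup ↥(Subgroup.normalizer (Q : Set G))).map
      (Subgroup.normalizer (Q : Set G)).subtype ≤ Subgroup.normalizer (Q : Set G) :=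
    Subgroup.map_subtype_le _
  have hRmax : ∀ P'' : Sylow p G, (R' : Subgroup ↥(Subgroup.normalizer (Q : Set G))).map
      (Subgroup.normalizer (Q : Set G)).subtype ≤ P'' →
      (P'' : Subgroup G) ⊓ Subgroup.normalizer (Q : Set G) ≤
        (R' : Subgroup ↥(Subgroup.normalizer (Q : Set G))).map
          (Subgroup.normalizer (Q : Set G)).subtype := by
    intro P'' hRP''
    have h1 : IsPGroup p ↥(((P'' : Subgroup G) ⊓ Subgroup.normalizer (Q : Set G)).subgroupOf
        (Subgroup.normalizer (Q : Set G))) :=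
      (P''.isPGroup'.to_le inf_le_left).comap_subtype
    have h2 : (R' : Subgroup ↥(Subgroup.normalizer (Q : Set G))) ≤
        ((P'' : Subgroup G) ⊓ Subgroup.normalizer (Q : Set G)).subgroupOf
          (Subgroup.normalizer (Q : Set G)) := by
      intro x hx
      rw [Subgroup.mem_subgroupOf]
      exact ⟨hRP'' ⟨x, hx, rfl⟩, x.2⟩
    have h3 := R'.is_maximal' h1 h2
    intro x hx
    refine ⟨⟨x, hx.2⟩, ?_, rfl⟩
    have : (⟨x, hx.2⟩ : ↥(Subgroup.normalizer (Q : Set G))) ∈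
        ((P'' : Subgroup G) ⊓ Subgroup.normalizer (Q : Set G)).subgroupOf
          (Subgroup.normalizer (Q : Set G)) := Subgroup.mem_subgroupOf.mpr hx
    rw [h3] at this
    exact this
  generalize hRdef : (R' : Subgroup ↥(Subgroup.normalizer (Q : Set G))).map
      (Subgroup.normalizer (Q : Set G)).subtype = R at hA hRp hR₀R hRH hRmax
  -- Step 2: `R ≤ M`
  have hRM : R ≤ Subgroup.normalizer (zjE 0 (P : Subgroup G) : Set G) := by
    by_contra hRM
    have hlt : R ⊓ Subgroup.normalizer (zjE 0 (P : Subgroup G) : Set G) < R :=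
      lt_of_le_of_ne inf_le_left (fun h => hRM (h ▸ inf_le_right))
    obtain ⟨x, hxR, hxnot, hxN⟩ := exists_mem_normalizer_not_mem hRp hlt
    have hxM : x ∉ Subgroup.normalizer (zjE 0 (P : Subgroup G) : Set G) := fun h => hxnot ⟨hxR, h⟩
    have hR₀le : (P' : Subgroup G) ⊓ Subgroup.normalizer (Q : Set G) ≤
        R ⊓ Subgroup.normalizer (zjE 0 (P : Subgroup G) : Set G) :=
      le_inf hR₀R (inf_le_left.trans hP'M)
    by_cases hcard : Nat.card ↥((P' : Subgroup G) ⊓ Subgroup.normalizer (Q : Set G)) <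
        Nat.card ↥(R ⊓ Subgroup.normalizer (zjE 0 (P : Subgroup G) : Set G))
    · exact hxM (hstar3 _ (hRp.to_le inf_le_left) inf_le_right hcard hxN)
    · have heq := Subgroup.eq_of_le_of_card_ge hR₀le (not_lt.mp hcard)
      rw [← heq] at hxN
      have hR₀lt : (P' : Subgroup G) ⊓ Subgroup.normalizer (Q : Set G) < (P' : Subgroup G) := by
        refine lt_of_le_of_ne inf_le_left ?_
        intro h
        have hP'R : (P' : Subgroup G) ≤ R := h ▸ hR₀R
        have := P'.is_maximal' hRp hP'R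
        exact hRM (this ▸ hP'M)
      obtain ⟨y, hyP', hynot, hyN⟩ := exists_mem_normalizer_not_mem P'.isPGroup' hR₀lt
      have hgt : Nat.card ↥((P' : Subgroup G) ⊓ Subgroup.normalizer (Q : Set G)) <
          Nat.card ↥((P' : Subgroup G) ⊓ Subgroup.normalizer
            (((P' : Subgroup G) ⊓ Subgroup.normalizer (Q : Set G) : Subgroup G) : Set G)) := by
        apply card_lt_of_lt'
        refine lt_of_le_of_ne (le_inf inf_le_left Subgroup.le_normalizer) ?_
        intro h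
        apply hynot
        rw [h]
        exact ⟨hyP', hyN⟩
      have := hstar2 P' _ hP'mem inf_le_left (ne_bot_of_le_ne_bot hQ1 hQR₀) hgt
      exact hxM (this hxN)
  -- Step 3
  obtain ⟨m, hm, hRP''⟩ := exists_conj_ge P _ hPM R hRp hRM
  have hP''mem : ∃ m' ∈ Subgroup.normalizer (zjE 0 (P : Subgroup G) : Set G), (m • P : Sylow p G) = m' • P :=
    ⟨m, hm, rfl⟩
  have hr : Nat.card ↥((P' : Subgroup G) ⊓ Subgroup.normalizer (Q : Set G)) ≤ Nat.card ↥R :=
    Subgroup.card_le_of_le hR₀R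
  -- Step 4
  have hZR1 : zjE 0 R ≠ ⊥ := zjE_zero_ne_bot hRp (ne_bot_of_le_ne_bot hQ1 (hQR₀.trans hR₀R))
  have hZRR : zjE 0 R ≤ R := zjE_le 0 R
  by_cases hRP : R = ((m • P : Sylow p G) : Subgroup G)
  · rw [hRP, hconjZ _ hP''mem] at hA
    exact hbad hA
  · have hRlt : R < ((m • P : Sylow p G) : Subgroup G) := lt_of_le_of_ne hRP'' hRP
    obtain ⟨y, hyP'', hynot, hyN⟩ := exists_mem_normalizer_not_mem (m • P : Sylow p G).isPGroup' hRlt
    have hyZ : y ∈ Subgroup.normalizer (zjE 0 R : Set G) := normalizer_le_normalizer_zjE 0 R hyN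
    have hgt : Nat.card ↥((P' : Subgroup G) ⊓ Subgroup.normalizer (Q : Set G)) <
        Nat.card ↥(((m • P : Sylow p G) : Subgroup G) ⊓ Subgroup.normalizer (zjE 0 R : Set G)) := by
      have hlt2 : R < ((m • P : Sylow p G) : Subgroup G) ⊓ Subgroup.normalizer (zjE 0 R : Set G) :=
        lt_of_le_of_ne (le_inf hRP'' (Subgroup.le_normalizer.trans (normalizer_le_normalizer_zjE 0 R)))
          (fun h => hynot (h ▸ ⟨hyP'', hyZ⟩))
      exact lt_of_le_of_lt hr (card_lt_of_lt' hlt2)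
    have := hstar2 (m • P) (zjE 0 R) hP''mem (hZRR.trans hRP'') hZR1 hgt
    exact hbad (hA.trans this)

end aux

/-- In a group of characteristic p type all of whose p-locals are p-stable (p odd), the normalizer of Z(J(P)) contains the normalizer of every nontrivial subgroup of the Sylow p-subgroup P. -/
theorem result {G : Type*} [Group G] [Finite G] {p : ℕ} [Fact p.Prime] (hp : p ≠ 2) (hloc : ∀ Q : Subgroup G, IsPGroup p Q → Q ≠ ⊥ → Cfsg.pPrimeCore p ↥(Subgroup.normalizer (Q : Set G)) = ⊥ ∧ Cfsg.IsPConstrained p ↥(Subgroup.normalizer (Q : Set G)) ∧ Cfsg.IsPStable p ↥(Subgroup.normalizer (Q : Set G))) (P : Sylow p G) (Q : Subgroup G) (hQP : Q ≤ (P : Subgroup G)) (hQ1 : Q ≠ ⊥) : Subgroup.normalizer (Q : Set G) ≤ Subgroup.normalizer (Cfsg.centerThompsonAOf ((P : Subgroup G)) : Set G) := by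
  rw [Cfsg.Agent.Lib.helper14.centerThompsonAOf_eq_zjE]
  exact main hp hloc P P Q ⟨1, Subgroup.one_mem _, (one_smul G P).symm⟩ hQP hQ1

end Cfsg.Agent.S0658
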