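import Cfsg.Statements.S0660
import Cfsg.Agent.Lib.helper15.Maschke

set_option autoImplicit false
open Cfsg

namespace Cfsg.Agent.S0660

/-- Under a coprime action on an abelian group, an invariant subgroup that is complemented admits an invariant complement. -/
theorem result {G : Type*} [Group G] [Finite G] (V A U : Subgroup G) (hVab : IsMulCommutative V) (hAV : A ≤ Subgroup.normalizer (V : Set G)) (hcop : (Nat.card A).Coprime (Nat.card V)) (hUV : U ≤ V) (hAU : A ≤ Subgroup.normalizer (U : Set G)) (W : Subgroup G) (hWV : W ≤ V) (hUW : U ⊓ W = ⊥) (hUWV : U ⊔ W = V) : ∃ W' : Subgroup G, W' ≤ V ∧ A ≤ Subgroup.normalizer (W' : Set G) ∧ U ⊓ W' = ⊥ ∧ U ⊔ W' = V := by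
  classical
  let _ : CommGroup ↥V := { (inferInstance : Group ↥V) with mul_comm := fun a b => mul_comm' a b }
  let φ : ↥A →* MulAut ↥V := V.normalizerMonoidHom.comp (Subgroup.inclusion hAV)
  have hφ : ∀ (a : ↥A) (v : ↥V), ((φ a v : ↥V) : G) = (a : G) * (v : G) * (a : G)⁻¹ :=
    fun a v => rfl
  have hcop' : (Nat.card ↥A).Coprime (Nat.card ↥V) := hcop
  have hU' : ∀ (a : ↥A) (u : ↥V), u ∈ U.subgroupOf V → φ a u ∈ U.subgroupOf V := by
    intro a u hu
    rw [Subgroup.mem_subgroupOf] at hu ⊢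
    rw [hφ]
    exact (Subgroup.mem_normalizer_iff.mp (hAU a.2) _).mp hu
  have h1 : U.subgroupOf V ⊓ W.subgroupOf V = ⊥ := by
    rw [eq_bot_iff]
    intro x hx
    obtain ⟨hx1, hx2⟩ := Subgroup.mem_inf.mp hx
    rw [Subgroup.mem_subgroupOf] at hx1 hx2
    have hx3 : (x : G) ∈ U ⊓ W := ⟨hx1, hx2⟩
    rw [hUW, Subgroup.mem_bot] at hx3
    rw [Subgroup.mem_bot]
    exact Subtype.ext hx3
  have h2 : U.subgroupOf V ⊔ W.subgroupOf V = ⊤ := by
    rw [← Subgroup.subgroupOf_sup hUV hWV, hUWV, Subgroup.subgroupOf_self]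
  obtain ⟨W', hW'inv, hW'1, hW'2⟩ :=
    Cfsg.Agent.Lib.helper15.Maschke.comm_case φ hcop' (U.subgroupOf V) (W.subgroupOf V) hU' h1 h2
  have hmapU : (U.subgroupOf V).map V.subtype = U := Subgroup.map_subgroupOf_eq_of_le hUV
  have hconj : ∀ a ∈ A, ∀ x ∈ W'.map V.subtype, a * x * a⁻¹ ∈ W'.map V.subtype := by
    rintro a ha x ⟨w, hw, rfl⟩
    exact ⟨φ ⟨a, ha⟩ w, hW'inv ⟨a, ha⟩ w hw, hφ ⟨a, ha⟩ w⟩
  refine ⟨W'.map V.subtype, ?_, ?_, ?_, ?_⟩
  · rintro x ⟨w, -, rfl⟩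
    exact w.2
  · intro a ha
    rw [Subgroup.mem_normalizer_iff]
    intro x
    refine ⟨fun hx => hconj a ha x hx, fun hx => ?_⟩
    have := hconj a⁻¹ (A.inv_mem ha) _ hx
    simpa [mul_assoc] using this
  · rw [← hmapU, ← Subgroup.map_inf_eq _ _ _ V.subtype_injective, hW'1, Subgroup.map_bot]
  · rw [← hmapU, ← Subgroup.map_sup, hW'2, ← MonoidHom.range_eq_map, Subgroup.range_subtype]

end Cfsg.Agent.S0660
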