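import Cfsg.Statements.S0661
-- import your own Cfsg.Agent.* helpers here
import Cfsg.Agent.Lib.helper36.CoprimeLift
import Cfsg.Agent.Lib.helper36.CharP
import Cfsg.Agent.Lib.helper54.AxB
import Cfsg.Agent.Lib.helper27.PLocal

set_option autoImplicit false
open Cfsg

namespace Cfsg.Agent.S0661

/-- If, modulo the largest normal subgroup of order prime to p, the largest normal p-subgroup contains its centralizer, then for every p-subgroup P the p'-core of N_G(P) is just O_p'(G) ∩ N_G(P). -/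
theorem result {G : Type*} [Group G] [Finite G] {p : ℕ} [Fact p.Prime] (hc : Subgroup.centralizer (Cfsg.pCore p (G ⧸ Cfsg.pPrimeCore p G) : Set (G ⧸ Cfsg.pPrimeCore p G)) ≤ Cfsg.pCore p (G ⧸ Cfsg.pPrimeCore p G)) (P : Subgroup G) (hP : IsPGroup p P) : (Cfsg.pPrimeCore p ↥(Subgroup.normalizer (P : Set G))).map (Subgroup.normalizer (P : Set G)).subtype = Cfsg.pPrimeCore p G ⊓ Subgroup.normalizer (P : Set G) := by
  have hOc : (Nat.card (Cfsg.pPrimeCore p G)).Coprime p :=
    Cfsg.Agent.Lib.helper27.pPrimeCore_coprime p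
  apply le_antisymm
  · -- `O_{p'}(N_G(P)) ≤ O_{p'}(G) ∩ N_G(P)`
    refine le_inf ?_ (Subgroup.map_subtype_le _)
    have hXN : (Cfsg.pPrimeCore p ↥(Subgroup.normalizer (P : Set G))).map
        (Subgroup.normalizer (P : Set G)).subtype ≤ Subgroup.normalizer (P : Set G) :=
      Subgroup.map_subtype_le _
    have hXc : (Nat.card ((Cfsg.pPrimeCore p ↥(Subgroup.normalizer (P : Set G))).map
        (Subgroup.normalizer (P : Set G)).subtype : Subgroup G)).Coprime p :=
      Cfsg.Agent.Lib.helper27.map_pPrimeCore_coprime p _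
    have hNX : Subgroup.normalizer (P : Set G) ≤ Subgroup.normalizer
        (((Cfsg.pPrimeCore p ↥(Subgroup.normalizer (P : Set G))).map
          (Subgroup.normalizer (P : Set G)).subtype : Subgroup G) : Set G) :=
      Cfsg.Agent.Lib.helper27.le_normalizer_map_subtype_of_characteristic _ _
    generalize ((Cfsg.pPrimeCore p ↥(Subgroup.normalizer (P : Set G))).map
        (Subgroup.normalizer (P : Set G)).subtype : Subgroup G) = X at hXN hXc hNX ⊢
    -- work in the quotient
    have hPbar : IsPGroup p (P.map (QuotientGroup.mk' (Cfsg.pPrimeCore p G))) := hP.map _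
    have hchar := Cfsg.Agent.Lib.helper54.CharPIn.inf_normalizer
      (Cfsg.Agent.Lib.helper54.charPIn_top hc) le_top hPbar
    rw [top_inf_eq] at hchar
    obtain ⟨W, hWN, hNW, hWp, hcen⟩ := hchar
    have hlift := Cfsg.Agent.Lib.helper36.normalizer_map_mk_le (Cfsg.pPrimeCore p G) hOc P hP
    have hXbarN : X.map (QuotientGroup.mk' (Cfsg.pPrimeCore p G)) ≤ Subgroup.normalizer
        ((P.map (QuotientGroup.mk' (Cfsg.pPrimeCore p G)) : Subgroup (G ⧸ Cfsg.pPrimeCore p G)) :
          Set (G ⧸ Cfsg.pPrimeCore p G)) :=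
      (Subgroup.map_mono hXN).trans (Subgroup.le_normalizer_map _)
    have hNXbar : Subgroup.normalizer
        ((P.map (QuotientGroup.mk' (Cfsg.pPrimeCore p G)) : Subgroup (G ⧸ Cfsg.pPrimeCore p G)) :
          Set (G ⧸ Cfsg.pPrimeCore p G)) ≤ Subgroup.normalizer
        ((X.map (QuotientGroup.mk' (Cfsg.pPrimeCore p G)) : Subgroup (G ⧸ Cfsg.pPrimeCore p G)) :
          Set (G ⧸ Cfsg.pPrimeCore p G)) :=
      hlift.trans ((Subgroup.map_mono hNX).trans (Subgroup.le_normalizer_map _))
    have hXbarc : (Nat.card (X.map (QuotientGroup.mk' (Cfsg.pPrimeCore p G)) :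
        Subgroup (G ⧸ Cfsg.pPrimeCore p G))).Coprime p :=
      Nat.Coprime.coprime_dvd_left (Subgroup.card_map_dvd _ _) hXc
    have hdisj : X.map (QuotientGroup.mk' (Cfsg.pPrimeCore p G)) ⊓ W = ⊥ := by
      rw [inf_comm]
      exact Cfsg.Agent.Lib.helper28.inf_eq_bot_of_isPGroup_of_coprime hWp hXbarc
    have hcomm : X.map (QuotientGroup.mk' (Cfsg.pPrimeCore p G)) ≤
        Subgroup.centralizer (W : Set (G ⧸ Cfsg.pPrimeCore p G)) :=
      Cfsg.Agent.Lib.helper36.le_centralizer_of_normalize_of_inf_eq_bot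
        (hXbarN.trans hNW) (hWN.trans hNXbar) hdisj
    have hXW : X.map (QuotientGroup.mk' (Cfsg.pPrimeCore p G)) ≤ W :=
      (le_inf hXbarN hcomm).trans hcen
    have hbot : X.map (QuotientGroup.mk' (Cfsg.pPrimeCore p G)) = ⊥ := by
      rw [eq_bot_iff, ← hdisj]
      exact le_inf le_rfl hXW
    have hker := (Subgroup.map_eq_bot_iff X).mp hbot
    rwa [QuotientGroup.ker_mk'] at hker
  · -- `O_{p'}(G) ∩ N_G(P) ≤ O_{p'}(N_G(P))`
    apply Cfsg.Agent.Lib.helper27.le_map_pPrimeCore_of_normal inf_le_right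
    · refine le_trans ?_ Subgroup.inf_normalizer_le_normalizer_inf
      refine le_inf ?_ Subgroup.le_normalizer
      have h1 : Subgroup.normalizer ((Cfsg.pPrimeCore p G : Subgroup G) : Set G) = ⊤ :=
        Subgroup.normalizer_eq_top _
      rw [h1]
      exact le_top
    · exact Nat.Coprime.coprime_dvd_left (Subgroup.card_dvd_of_le inf_le_left) hOc

end Cfsg.Agent.S0661
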