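import Cfsg.Statements.S0662
import Cfsg.Agent.Lib.helper15.MaxClass

set_option autoImplicit false
open Cfsg

namespace Cfsg.Agent.S0662

/-- In a p-group of maximal class of order at least p³ the normal subgroups of index at least p² are exactly the terms of the lower central series, and there are exactly p + 1 normal subgroups of index p. -/
theorem result {G : Type*} [Group G] [Finite G] {p : ℕ} [Fact p.Prime] (n : ℕ) (hG : Nat.card G = p ^ n) (hcl : Group.nilpotencyClass G = n - 1) (hn : 3 ≤ n) : (∀ (N : Subgroup G) [N.Normal] (r : ℕ), 2 ≤ r → N.index = p ^ r → N = (⊤ : Subgroup G).lowerCentralSeries (r - 1)) ∧ Nat.card {N : Subgroup G // N.Normal ∧ N.index = p} = p + 1 := by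
  have hp : p.Prime := Fact.out
  have hnil : Group.IsNilpotent G := (IsPGroup.of_card hG).isNilpotent
  have hM := fun k hk1 hk =>
    Cfsg.Agent.Lib.helper15.MaxClass.index_lcs_of_maxClass (G := G) hG hcl hn k hk1 hk
  constructor
  · intro N _ r hr hNidx
    have hrn : r ≤ n := by
      have h1 : p ^ r ∣ p ^ n := by
        rw [← hNidx, ← hG]
        exact Subgroup.index_dvd_card N
      exact (Nat.pow_dvd_pow_iff_le_right hp.one_lt).mp h1
    have hQ : Nat.card (G ⧸ N) = p ^ r := by
      rw [← Subgroup.index_eq_card]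
      exact hNidx
    have hB := Cfsg.Agent.Lib.helper15.MaxClass.lcs_eq_bot_of_card (G := G ⧸ N) hQ hr
    have hle : (⊤ : Subgroup G).lowerCentralSeries (r - 1) ≤ N := by
      intro x hx
      have h1 : QuotientGroup.mk' N x ∈
          ((⊤ : Subgroup G).lowerCentralSeries (r - 1)).map (QuotientGroup.mk' N) :=
        Subgroup.mem_map_of_mem _ hx
      rw [Subgroup.map_lowerCentralSeries, ← MonoidHom.range_eq_map,
        MonoidHom.range_eq_top.mpr (QuotientGroup.mk'_surjective N), hB, Subgroup.mem_bot] at h1
      rw [← QuotientGroup.ker_mk' N, MonoidHom.mem_ker]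
      exact h1
    have hidx := hM (r - 1) (by omega) (by omega)
    have h1 := Subgroup.relIndex_mul_index hle
    rw [hidx, hNidx, show r - 1 + 1 = r by omega] at h1
    have h2 : ((⊤ : Subgroup G).lowerCentralSeries (r - 1)).relIndex N = 1 :=
      Nat.eq_of_mul_eq_mul_right (pow_pos hp.pos r) (by rw [h1, one_mul])
    exact le_antisymm (Subgroup.relIndex_eq_one.mp h2) hle
  · rw [Cfsg.Agent.Lib.helper15.MaxClass.card_normal_index_p]
    apply Cfsg.Agent.Lib.helper15.MaxClass.card_index_p_subgroups
    · rw [← Subgroup.index_eq_card]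
      exact hM 1 le_rfl (by omega)
    · intro hcyc
      have h1 := Cfsg.Agent.Lib.helper15.MaxClass.commutator_eq_bot_of_isCyclic hcyc
      have h2 : (⊤ : Subgroup G).lowerCentralSeries 1 = ⊥ := h1
      rw [Subgroup.lowerCentralSeries_eq_bot_iff_nilpotencyClass_le, hcl] at h2
      omega

end Cfsg.Agent.S0662
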