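import Cfsg.Statements.S0663
import Cfsg.Agent.Lib.helper3.SylowLemmas

set_option autoImplicit false
open Cfsg
open scoped commutatorElement

namespace Cfsg.Agent.S0663

section basics

variable {L : Type*} [Group L]

theorem le_normalizer_of_conj_mem {G X : Subgroup L}
    (h : ∀ g ∈ G, ∀ x ∈ X, g * x * g⁻¹ ∈ X) : G ≤ Subgroup.normalizer (X : Set L) := by
  intro g hg
  rw [Subgroup.mem_normalizer_iff]
  intro x
  constructor
  · exact h g hg x
  · intro hx
    have h1 := h g⁻¹ (G.inv_mem hg) _ hx
    rw [inv_inv] at h1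
    have e : g⁻¹ * (g * x * g⁻¹) * g = x := by group
    rwa [e] at h1

theorem conj_mem_of_le_normalizer {G X : Subgroup L} (h : G ≤ Subgroup.normalizer (X : Set L))
    {g x : L} (hg : g ∈ G) (hx : x ∈ X) : g * x * g⁻¹ ∈ X :=
  (Subgroup.mem_normalizer_iff.mp (h hg) x).mp hx

theorem commutator_le_self {H G : Subgroup L} (h : G ≤ Subgroup.normalizer (H : Set L)) :
    ⁅H, G⁆ ≤ H := by
  rw [Subgroup.commutator_le]
  intro a ha g hg
  have e : ⁅a, g⁆ = a * (g * a⁻¹ * g⁻¹) := by rw [commutatorElement_def]; group
  rw [e]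
  exact H.mul_mem ha (conj_mem_of_le_normalizer h hg (H.inv_mem ha))

theorem le_normalizer_commutator {H G : Subgroup L} (h : G ≤ Subgroup.normalizer (H : Set L)) :
    G ≤ Subgroup.normalizer ((⁅H, G⁆ : Subgroup L) : Set L) := by
  apply le_normalizer_of_conj_mem
  intro g hg x hx
  have hx' : x ∈ Subgroup.closure { z | ∃ a ∈ H, ∃ b ∈ G, ⁅a, b⁆ = z } := by
    rw [← Subgroup.commutator_def]; exact hx
  suffices hgoal : g * x * g⁻¹ ∈ Subgroup.closure { z | ∃ a ∈ H, ∃ b ∈ G, ⁅a, b⁆ = z } by
    rw [← Subgroup.commutator_def] at hgoal; exact hgoal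
  clear hx
  induction hx' using Subgroup.closure_induction with
  | mem y hy =>
    obtain ⟨a, ha, b, hb, rfl⟩ := hy
    apply Subgroup.subset_closure
    refine ⟨g * a * g⁻¹, conj_mem_of_le_normalizer h hg ha, g * b * g⁻¹,
      G.mul_mem (G.mul_mem hg hb) (G.inv_mem hg), ?_⟩
    simp only [commutatorElement_def]
    group
  | one =>
    rw [mul_one, mul_inv_cancel]
    exact Subgroup.one_mem _
  | mul a b _ _ iha ihb =>
    have e : g * (a * b) * g⁻¹ = (g * a * g⁻¹) * (g * b * g⁻¹) := by group
    rw [e]
    exact Subgroup.mul_mem _ iha ihb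
  | inv a _ iha =>
    have e : g * a⁻¹ * g⁻¹ = (g * a * g⁻¹)⁻¹ := by group
    rw [e]
    exact Subgroup.inv_mem _ iha

theorem iter_succ (N G : Subgroup L) (i : ℕ) :
    Cfsg.iterCommutator N G (i + 1) = ⁅Cfsg.iterCommutator N G i, G⁆ := rfl

theorem iter_zero (N G : Subgroup L) : Cfsg.iterCommutator N G 0 = N := rfl

theorem iter_inv (N G : Subgroup L) (hGN : G ≤ Subgroup.normalizer (N : Set L)) :
    ∀ i, G ≤ Subgroup.normalizer (Cfsg.iterCommutator N G i : Set L)
  | 0 => hGN
  | i + 1 => by
    show G ≤ Subgroup.normalizer ((⁅Cfsg.iterCommutator N G i, G⁆ : Subgroup L) : Set L)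
    exact le_normalizer_commutator (iter_inv N G hGN i)

theorem iter_succ_le (N G : Subgroup L) (hGN : G ≤ Subgroup.normalizer (N : Set L)) (i : ℕ) :
    Cfsg.iterCommutator N G (i + 1) ≤ Cfsg.iterCommutator N G i := by
  rw [iter_succ]
  exact commutator_le_self (iter_inv N G hGN i)

theorem iter_antitone (N G : Subgroup L) (hGN : G ≤ Subgroup.normalizer (N : Set L)) :
    Antitone (Cfsg.iterCommutator N G) :=
  antitone_nat_of_succ_le (iter_succ_le N G hGN)

theorem iter_le (N G : Subgroup L) (hGN : G ≤ Subgroup.normalizer (N : Set L)) (i : ℕ) :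
    Cfsg.iterCommutator N G i ≤ N :=
  iter_antitone N G hGN (Nat.zero_le i)

theorem iter_mono_right (N G K : Subgroup L) (hGK : G ≤ K) :
    ∀ i, Cfsg.iterCommutator N G i ≤ Cfsg.iterCommutator N K i
  | 0 => le_rfl
  | i + 1 => by
    rw [iter_succ, iter_succ]
    exact Subgroup.commutator_mono (iter_mono_right N G K hGK i) hGK

variable [Finite L] {p : ℕ} [Fact p.Prime]

/-- A `p`-group acting on a nontrivial `p`-group: the commutator is a proper subgroup. -/
theorem commutator_lt_of_pgroup {H G : Subgroup L} (hH : IsPGroup p H) (hG : IsPGroup p G)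
    (h : G ≤ Subgroup.normalizer (H : Set L)) (hne : H ≠ ⊥) : ⁅H, G⁆ < H := by
  refine lt_of_le_of_ne (commutator_le_self h) ?_
  intro heq
  have hK : IsPGroup p (H ⊔ G : Subgroup L) := hH.to_sup_of_normal_left' hG h
  have hnil : Group.IsNilpotent (H ⊔ G : Subgroup L) := hK.isNilpotent
  obtain ⟨c, hc⟩ := (Subgroup.isNilpotent_iff_lowerCentralSeries _).mp hnil
  have hle : ∀ j, H ≤ (H ⊔ G).lowerCentralSeries j := by
    intro j
    induction j with
    | zero => exact le_sup_left
    | succ j ih =>
      calc H = ⁅H, G⁆ := heq.symm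
        _ ≤ ⁅(H ⊔ G).lowerCentralSeries j, H ⊔ G⁆ := Subgroup.commutator_mono ih le_sup_right
        _ = (H ⊔ G).lowerCentralSeries (j + 1) := (Subgroup.lowerCentralSeries_succ _ j).symm
  have := hle c
  rw [hc] at this
  exact hne (le_bot_iff.mp this)

theorem card_mul_le_of_lt {A B : Subgroup L} (hB : IsPGroup p B) (h : A < B) :
    Nat.card A * p ≤ Nat.card B := by
  have hpP : p.Prime := Fact.out
  obtain ⟨b, hb⟩ := IsPGroup.iff_card.mp hB
  have hdvd : Nat.card A ∣ Nat.card B := Subgroup.card_dvd_of_le h.le
  rw [hb] at hdvd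
  obtain ⟨a, hab, ha⟩ := (Nat.dvd_prime_pow hpP).mp hdvd
  have hne : a ≠ b := by
    rintro rfl
    exact h.ne (Subgroup.eq_of_le_of_card_ge h.le (by rw [ha, hb]))
  rw [ha, hb, ← pow_succ]
  exact Nat.pow_le_pow_right hpP.pos (by omega)

end basics

section main

variable {L : Type*} [Group L] [Finite L] {p : ℕ} [Fact p.Prime]

theorem cards_upper (N G : Subgroup L) (hN : IsPGroup p N) (hG : IsPGroup p G)
    (hGN : G ≤ Subgroup.normalizer (N : Set L)) (n : ℕ) (hn : Nat.card N = p ^ n) :
    ∀ i ≤ n, Nat.card (Cfsg.iterCommutator N G i) ≤ p ^ (n - i) := by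
  have hpP : p.Prime := Fact.out
  intro i
  induction i with
  | zero =>
    intro _
    rw [iter_zero, hn]
    exact le_rfl
  | succ i ih =>
    intro hi
    have h1 := ih (by omega)
    by_cases hb : Cfsg.iterCommutator N G i = ⊥
    · have h2 : Cfsg.iterCommutator N G (i + 1) = ⊥ := by
        have := iter_succ_le N G hGN i
        rw [hb] at this
        exact le_bot_iff.mp this
      rw [h2, Subgroup.card_bot]
      exact Nat.one_le_pow _ _ hpP.pos
    · have h2 : Cfsg.iterCommutator N G (i + 1) < Cfsg.iterCommutator N G i := by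
        rw [iter_succ]
        exact commutator_lt_of_pgroup (hN.to_le (iter_le N G hGN i)) hG (iter_inv N G hGN i) hb
      have h3 := card_mul_le_of_lt (hN.to_le (iter_le N G hGN i)) h2
      have e : p ^ (n - i) = p ^ (n - (i + 1)) * p := by
        rw [← pow_succ]
        congr 1
        omega
      rw [e] at h1
      exact Nat.le_of_mul_le_mul_right (h3.trans h1) hpP.pos

theorem cards_of_chain (N G : Subgroup L) (hN : IsPGroup p N) (hG : IsPGroup p G)
    (hGN : G ≤ Subgroup.normalizer (N : Set L)) (n : ℕ) (hn : Nat.card N = p ^ n)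
    (h : Cfsg.iterCommutator N G (n - 1) ≠ ⊥ ∨ n = 0) :
    ∀ i ≤ n, Nat.card (Cfsg.iterCommutator N G i) = p ^ (n - i) := by
  have hpP : p.Prime := Fact.out
  have hup := cards_upper N G hN hG hGN n hn
  rcases Nat.eq_zero_or_pos n with h0 | hpos
  · intro i hi
    have : i = 0 := by omega
    subst this
    rw [iter_zero, hn, Nat.sub_zero]
  · have hne : Cfsg.iterCommutator N G (n - 1) ≠ ⊥ := by
      rcases h with h | h
      · exact h
      · omega
    have hlow : ∀ j, j ≤ n - 1 → p ^ (j + 1) ≤ Nat.card (Cfsg.iterCommutator N G (n - 1 - j)) := by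
      intro j
      induction j with
      | zero =>
        intro _
        obtain ⟨a, ha⟩ := IsPGroup.iff_card.mp (hN.to_le (iter_le N G hGN (n - 1)))
        have ha0 : a ≠ 0 := by
          rintro rfl
          rw [pow_zero] at ha
          exact hne (Subgroup.card_eq_one.mp ha)
        show p ^ (0 + 1) ≤ Nat.card (Cfsg.iterCommutator N G (n - 1 - 0))
        rw [Nat.sub_zero, ha]
        exact Nat.pow_le_pow_right hpP.pos (by omega)
      | succ j ih =>
        intro hj
        have h1 := ih (by omega)
        have hne' : Cfsg.iterCommutator N G (n - 1 - (j + 1)) ≠ ⊥ := by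
          intro hb
          have := iter_antitone N G hGN (show n - 1 - (j + 1) ≤ n - 1 by omega)
          rw [hb] at this
          exact hne (le_bot_iff.mp this)
        have h2 : Cfsg.iterCommutator N G (n - 1 - (j + 1) + 1) <
            Cfsg.iterCommutator N G (n - 1 - (j + 1)) := by
          rw [iter_succ]
          exact commutator_lt_of_pgroup (hN.to_le (iter_le N G hGN _)) hG (iter_inv N G hGN _) hne'
        have h3 := card_mul_le_of_lt (hN.to_le (iter_le N G hGN _)) h2
        rw [show n - 1 - (j + 1) + 1 = n - 1 - j by omega] at h3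
        calc p ^ (j + 1 + 1) = p ^ (j + 1) * p := pow_succ _ _
          _ ≤ Nat.card (Cfsg.iterCommutator N G (n - 1 - j)) * p := Nat.mul_le_mul_right _ h1
          _ ≤ _ := h3
    intro i hi
    rcases Nat.lt_or_ge i n with hlt | hge
    · have h1 := hlow (n - 1 - i) (by omega)
      rw [show n - 1 - (n - 1 - i) = i by omega, show n - 1 - i + 1 = n - i by omega] at h1
      exact le_antisymm (hup i hi) h1
    · have : i = n := by omega
      subst this
      have h1 := hup i le_rfl
      rw [Nat.sub_self, pow_zero] at h1 ⊢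
      exact le_antisymm h1 Nat.card_pos

theorem cards_of_uniserial (N G : Subgroup L) (hGN : G ≤ Subgroup.normalizer (N : Set L))
    (n : ℕ) (hn : Nat.card N = p ^ n)
    (hU : ∀ H : Subgroup L, H ≤ N → G ≤ Subgroup.normalizer (H : Set L) → H ≠ ⊥ →
      (⁅H, G⁆).relIndex H = p) :
    ∀ i ≤ n, Nat.card (Cfsg.iterCommutator N G i) = p ^ (n - i) := by
  have hpP : p.Prime := Fact.out
  intro i
  induction i with
  | zero =>
    intro _
    rw [iter_zero, hn]
    rfl
  | succ i ih =>
    intro hi
    have h1 := ih (by omega)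
    have hne : Cfsg.iterCommutator N G i ≠ ⊥ := by
      intro hb
      rw [hb, Subgroup.card_bot] at h1
      have : 1 < p ^ (n - i) := Nat.one_lt_pow (by omega) hpP.one_lt
      omega
    have h2 := hU _ (iter_le N G hGN i) (iter_inv N G hGN i) hne
    have h3 := Cfsg.Agent.Lib.helper3.card_mul_relIndex_of_le (iter_succ_le N G hGN i)
    rw [iter_succ, h2, h1] at h3
    have e : p ^ (n - i) = p ^ (n - (i + 1)) * p := by
      rw [← pow_succ]
      congr 1
      omega
    rw [e] at h3
    rw [iter_succ]
    exact Nat.eq_of_mul_eq_mul_right hpP.pos h3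

theorem structure_of_cards (N G : Subgroup L) (hN : IsPGroup p N) (hG : IsPGroup p G)
    (hGN : G ≤ Subgroup.normalizer (N : Set L)) (n : ℕ) (hn : Nat.card N = p ^ n)
    (hc : ∀ i ≤ n, Nat.card (Cfsg.iterCommutator N G i) = p ^ (n - i)) :
    (∀ H : Subgroup L, H ≤ N → G ≤ Subgroup.normalizer (H : Set L) →
      (∃ i ≤ n, H = Cfsg.iterCommutator N G i) ∧ N ≤ Subgroup.normalizer (H : Set L)) ∧
    (∀ H : Subgroup L, H ≤ N → G ≤ Subgroup.normalizer (H : Set L) → H ≠ ⊥ →
      (⁅H, G⁆).relIndex H = p) := by
  have hpP : p.Prime := Fact.out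
  have hKN : N ⊔ G ≤ Subgroup.normalizer (N : Set L) := sup_le Subgroup.le_normalizer hGN
  have hK : IsPGroup p (N ⊔ G : Subgroup L) := hN.to_sup_of_normal_left' hG hGN
  have hMN : ∀ i ≤ n, Cfsg.iterCommutator N G i = Cfsg.iterCommutator N (N ⊔ G) i := by
    intro i hi
    apply Subgroup.eq_of_le_of_card_ge (iter_mono_right N G (N ⊔ G) le_sup_right i)
    rw [hc i hi]
    exact cards_upper N (N ⊔ G) hN hK hKN n hn i hi
  have hKinv : ∀ i ≤ n, N ⊔ G ≤ Subgroup.normalizer (Cfsg.iterCommutator N G i : Set L) := by
    intro i hi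
    rw [hMN i hi]
    exact iter_inv N (N ⊔ G) hKN i
  have hstep : ∀ i, i < n → ⁅Cfsg.iterCommutator N G i, N ⊔ G⁆ =
      Cfsg.iterCommutator N G (i + 1) := by
    intro i hi
    rw [hMN i (by omega), hMN (i + 1) (by omega), iter_succ]
  have hbot : Cfsg.iterCommutator N G n = ⊥ := by
    apply Subgroup.card_eq_one.mp
    rw [hc n le_rfl, Nat.sub_self, pow_zero]
  -- the key induction
  have key : ∀ d i, i + d = n → ∀ H : Subgroup L, G ≤ Subgroup.normalizer (H : Set L) →
      H ≤ Cfsg.iterCommutator N G i → (i < n → ¬ H ≤ Cfsg.iterCommutator N G (i + 1)) →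
      H = Cfsg.iterCommutator N G i := by
    intro d
    induction d with
    | zero =>
      intro i hi H _ hH _
      have : i = n := by omega
      subst this
      rw [hbot] at hH ⊢
      exact le_bot_iff.mp hH
    | succ d ih =>
      intro i hi H hHG hH hH1
      have hin : i < n := by omega
      have hH1' := hH1 hin
      have hPi : IsPGroup p (Cfsg.iterCommutator N G i) := hN.to_le (iter_le N G hGN i)
      have hcard1 : Nat.card (Cfsg.iterCommutator N G i) =
          Nat.card (Cfsg.iterCommutator N G (i + 1)) * p := by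
        rw [hc i (by omega), hc (i + 1) (by omega), ← pow_succ]
        congr 1
        omega
      -- (a)
      have hsup : H ⊔ Cfsg.iterCommutator N G (i + 1) = Cfsg.iterCommutator N G i := by
        have hle : H ⊔ Cfsg.iterCommutator N G (i + 1) ≤ Cfsg.iterCommutator N G i :=
          sup_le hH (iter_succ_le N G hGN i)
        have hlt : Cfsg.iterCommutator N G (i + 1) < H ⊔ Cfsg.iterCommutator N G (i + 1) := by
          refine lt_of_le_of_ne le_sup_right ?_
          intro heq
          apply hH1'
          rw [heq]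
          exact le_sup_left
        have h3 := card_mul_le_of_lt (hPi.to_le hle) hlt
        exact Subgroup.eq_of_le_of_card_ge hle (by rw [hcard1]; exact h3)
      -- (b)
      have hHG' : ⁅H, G⁆ = Cfsg.iterCommutator N G (i + 1) := by
        apply ih (i + 1) (by omega) _ (le_normalizer_commutator hHG)
        · rw [iter_succ]
          exact Subgroup.commutator_mono hH le_rfl
        · intro hi2 hcon
          -- the subgroup of elements of `N_i` whose commutators with `G` lie in `N_{i+2}`
          have hinv2 := hKinv (i + 1 + 1) (by omega)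
          let X : Subgroup L :=
            { carrier := {x | x ∈ Cfsg.iterCommutator N G i ∧
                ∀ g ∈ G, ⁅x, g⁆ ∈ Cfsg.iterCommutator N G (i + 1 + 1)}
              mul_mem' := by
                rintro x y ⟨hx, hxg⟩ ⟨hy, hyg⟩
                refine ⟨Subgroup.mul_mem _ hx hy, fun g hg => ?_⟩
                have e1 : ⁅x * y, g⁆ = x * ⁅y, g⁆ * x⁻¹ * ⁅x, g⁆ := by
                  simp only [commutatorElement_def]
                  group
                rw [e1]
                refine Subgroup.mul_mem _ ?_ (hxg g hg)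
                exact conj_mem_of_le_normalizer hinv2
                  (Subgroup.mem_sup_left (iter_le N G hGN i hx)) (hyg g hg)
              one_mem' := by
                refine ⟨Subgroup.one_mem _, fun g _ => ?_⟩
                rw [commutatorElement_one_left]
                exact Subgroup.one_mem _
              inv_mem' := by
                rintro x ⟨hx, hxg⟩
                refine ⟨Subgroup.inv_mem _ hx, fun g hg => ?_⟩
                have e1 : ⁅x⁻¹, g⁆ = x⁻¹ * ⁅x, g⁆⁻¹ * x⁻¹⁻¹ := by
                  simp only [commutatorElement_def]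
                  group
                rw [e1]
                exact conj_mem_of_le_normalizer hinv2
                  (Subgroup.mem_sup_left (iter_le N G hGN i (Subgroup.inv_mem _ hx)))
                  (Subgroup.inv_mem _ (hxg g hg)) }
          have hHX : H ≤ X := fun x hx =>
            ⟨hH hx, fun g hg => hcon (Subgroup.commutator_mem_commutator hx hg)⟩
          have hNX : Cfsg.iterCommutator N G (i + 1) ≤ X := fun x hx =>
            ⟨iter_succ_le N G hGN i hx, fun g hg => by
              rw [iter_succ N G (i + 1)]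
              exact Subgroup.commutator_mem_commutator hx hg⟩
          have hall : Cfsg.iterCommutator N G i ≤ X := by
            rw [← hsup]
            exact sup_le hHX hNX
          have hle2 : Cfsg.iterCommutator N G (i + 1) ≤ Cfsg.iterCommutator N G (i + 1 + 1) := by
            rw [iter_succ N G i, Subgroup.commutator_le]
            intro x hx g hg
            exact (hall hx).2 g hg
          have h5 := Subgroup.card_le_of_le hle2
          rw [hc (i + 1) (by omega), hc (i + 1 + 1) (by omega)] at h5
          have h6 : n - (i + 1 + 1) < n - (i + 1) := by omega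
          have h7 := Nat.pow_lt_pow_right hpP.one_lt h6
          omega
      -- (c)
      have hle3 : Cfsg.iterCommutator N G (i + 1) ≤ H := by
        rw [← hHG']
        exact commutator_le_self hHG
      rw [← hsup]
      exact (sup_eq_left.mpr hle3).symm
  have hex : ∀ H : Subgroup L, H ≤ N → G ≤ Subgroup.normalizer (H : Set L) →
      ∃ i ≤ n, H = Cfsg.iterCommutator N G i := by
    intro H hHN hHG
    classical
    have h0 : H ≤ Cfsg.iterCommutator N G 0 := hHN
    refine ⟨Nat.findGreatest (fun i => H ≤ Cfsg.iterCommutator N G i) n, Nat.findGreatest_le n, ?_⟩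
    have hspec : H ≤ Cfsg.iterCommutator N G
        (Nat.findGreatest (fun i => H ≤ Cfsg.iterCommutator N G i) n) :=
      Nat.findGreatest_spec (P := fun i => H ≤ Cfsg.iterCommutator N G i) (Nat.zero_le n) h0
    have hgr : ∀ k, Nat.findGreatest (fun i => H ≤ Cfsg.iterCommutator N G i) n < k → k ≤ n →
        ¬ H ≤ Cfsg.iterCommutator N G k := fun k hk hkn =>
      Nat.findGreatest_is_greatest (P := fun i => H ≤ Cfsg.iterCommutator N G i) hk hkn
    have hle := Nat.findGreatest_le (P := fun i => H ≤ Cfsg.iterCommutator N G i) n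
    generalize Nat.findGreatest (fun i => H ≤ Cfsg.iterCommutator N G i) n = i at hspec hgr hle
    exact key (n - i) i (by omega) H hHG hspec (fun hi => hgr (i + 1) (by omega) (by omega))
  refine ⟨fun H hHN hHG => ⟨hex H hHN hHG, ?_⟩, fun H hHN hHG hne => ?_⟩
  · obtain ⟨i, hi, rfl⟩ := hex H hHN hHG
    exact le_sup_left.trans (hKinv i hi)
  · obtain ⟨i, hi, rfl⟩ := hex H hHN hHG
    have hin : i < n := by
      rcases Nat.lt_or_ge i n with h | h
      · exact h
      · have : i = n := by omega
        subst this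
        exact absurd hbot hne
    have h3 := Cfsg.Agent.Lib.helper3.card_mul_relIndex_of_le (iter_succ_le N G hGN i)
    rw [hc i hi, hc (i + 1) (by omega)] at h3
    have e : p ^ (n - i) = p ^ (n - (i + 1)) * p := by
      rw [← pow_succ]
      congr 1
      omega
    rw [e] at h3
    rw [← iter_succ]
    exact Nat.eq_of_mul_eq_mul_left (pow_pos hpP.pos _) h3

end main

/-- A finite p-group G acting on a p-group N of order p^n acts uniserially iff the chain N > [N,G] > [N,G,G] > … has a nontrivial n-th term; then the n+1 terms of the chain are exactly the G-invariant subgroups of N, each normal in N. -/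
theorem result {L : Type*} [Group L] [Finite L] {p : ℕ} [Fact p.Prime] (N G : Subgroup L) (hN : IsPGroup p N) (hG : IsPGroup p G) (hGN : G ≤ Subgroup.normalizer (N : Set L)) (n : ℕ) (hn : Nat.card N = p ^ n) : ((∀ H : Subgroup L, H ≤ N → G ≤ Subgroup.normalizer (H : Set L) → H ≠ ⊥ → (⁅H, G⁆).relIndex H = p) ↔ Cfsg.iterCommutator N G (n - 1) ≠ ⊥ ∨ n = 0) ∧ ((∀ H : Subgroup L, H ≤ N → G ≤ Subgroup.normalizer (H : Set L) → H ≠ ⊥ → (⁅H, G⁆).relIndex H = p) → ∀ H : Subgroup L, H ≤ N → G ≤ Subgroup.normalizer (H : Set L) → (∃ i ≤ n, H = Cfsg.iterCommutator N G i) ∧ N ≤ Subgroup.normalizer (H : Set L)) := by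
  have hpP : p.Prime := Fact.out
  refine ⟨⟨fun hU => ?_, fun hch => ?_⟩, fun hU => ?_⟩
  · have hc := cards_of_uniserial N G hGN n hn hU
    rcases Nat.eq_zero_or_pos n with h0 | hpos
    · exact Or.inr h0
    · left
      intro hb
      have h1 := hc (n - 1) (by omega)
      rw [hb, Subgroup.card_bot, show n - (n - 1) = 1 by omega, pow_one] at h1
      exact hpP.one_lt.ne h1
  · exact (structure_of_cards N G hN hG hGN n hn (cards_of_chain N G hN hG hGN n hn hch)).2
  · exact (structure_of_cards N G hN hG hGN n hn (cards_of_uniserial N G hGN n hn hU)).1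

end Cfsg.Agent.S0663
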