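import Cfsg.Statements.S0668
import Cfsg.Agent.Lib.helper15.PermMod

set_option autoImplicit false
open Cfsg

namespace Cfsg.Agent.S0668

/-- The equivariant linear maps between the permutation modules of two finite `G`-sets form a space whose dimension is the number of `G`-orbits on the product of the two sets. -/
theorem result {G : Type*} [Group G] {K : Type*} [Field K] {Ω₁ Ω₂ : Type*} [Fintype Ω₁] [Fintype Ω₂] [MulAction G Ω₁] [MulAction G Ω₂] : Module.finrank K ((Cfsg.permRep K G Ω₁).linHom (Cfsg.permRep K G Ω₂)).invariants = Nat.card (MulAction.orbitRel.Quotient G (Ω₁ × Ω₂)) := by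
  classical
  have hfin : Finite (MulAction.orbitRel.Quotient G (Ω₁ × Ω₂)) := Quotient.finite _
  have hft : Fintype (MulAction.orbitRel.Quotient G (Ω₁ × Ω₂)) := Fintype.ofFinite _
  let T : (MulAction.orbitRel.Quotient G (Ω₁ × Ω₂) → K) →ₗ[K] ((Ω₁ → K) →ₗ[K] (Ω₂ → K)) :=
    { toFun := fun φ =>
        { toFun := fun v y => ∑ x, φ (Quotient.mk'' (x, y)) * v x
          map_add' := by
            intro v w
            funext y
            simp only [Pi.add_apply, mul_add, Finset.sum_add_distrib]
          map_smul' := by
            intro a v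
            funext y
            simp only [Pi.smul_apply, smul_eq_mul, RingHom.id_apply, Finset.mul_sum]
            apply Finset.sum_congr rfl
            intro x _
            ring }
      map_add' := by
        intro φ ψ
        refine LinearMap.ext fun v => ?_
        funext y
        change ∑ x, (φ + ψ) (Quotient.mk'' (x, y)) * v x =
          ∑ x, φ (Quotient.mk'' (x, y)) * v x + ∑ x, ψ (Quotient.mk'' (x, y)) * v x
        simp only [Pi.add_apply, add_mul, Finset.sum_add_distrib]
      map_smul' := by
        intro a φ
        refine LinearMap.ext fun v => ?_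
        funext y
        change ∑ x, (a • φ) (Quotient.mk'' (x, y)) * v x =
          a * ∑ x, φ (Quotient.mk'' (x, y)) * v x
        simp only [Pi.smul_apply, smul_eq_mul, Finset.mul_sum, mul_assoc] }
  have hT : ∀ φ v y, T φ v y = ∑ x, φ (Quotient.mk'' (x, y)) * v x := fun _ _ _ => rfl
  have hTδ : ∀ φ x y, T φ (fun j => if x = j then 1 else 0) y = φ (Quotient.mk'' (x, y)) := by
    intro φ x y
    rw [hT]
    simp
  have hinj : Function.Injective T := by
    intro φ ψ hφψ
    funext q
    induction q using Quotient.inductionOn' with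
    | h xy =>
      obtain ⟨x, y⟩ := xy
      rw [← hTδ φ, ← hTδ ψ, hφψ]
  have hmem : ∀ f : (Ω₁ → K) →ₗ[K] (Ω₂ → K),
      f ∈ ((Cfsg.permRep K G Ω₁).linHom (Cfsg.permRep K G Ω₂)).invariants ↔
        (Cfsg.permRep K G Ω₁).IsIntertwiningMap (Cfsg.permRep K G Ω₂) f := fun f =>
    Representation.mem_linHom_invariants_iff_isIntertwining f
  have hrange : LinearMap.range T =
      ((Cfsg.permRep K G Ω₁).linHom (Cfsg.permRep K G Ω₂)).invariants := by
    apply le_antisymm
    · rintro _ ⟨φ, rfl⟩
      rw [hmem]
      constructor
      intro g v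
      funext y
      rw [Cfsg.Agent.Lib.helper15.PermMod.permRep_apply, hT, hT]
      symm
      apply Fintype.sum_equiv (MulAction.toPerm g)
      intro x
      rw [Cfsg.Agent.Lib.helper15.PermMod.permRep_apply, MulAction.toPerm_apply, inv_smul_smul]
      congr 2
      apply Quotient.sound'
      rw [MulAction.orbitRel_apply]
      refine ⟨g⁻¹, ?_⟩
      change (g⁻¹ • g • x, g⁻¹ • y) = (x, g⁻¹ • y)
      rw [inv_smul_smul]
    · intro f hf
      rw [hmem] at hf
      have hfinv : ∀ (g : G) (x : Ω₁) (y : Ω₂),
          f (fun j => if g • x = j then 1 else 0) (g • y) = f (fun j => if x = j then 1 else 0) y := by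
        intro g x y
        have h1 := hf.isIntertwining g (fun j => if x = j then 1 else 0)
        have h2 : Cfsg.permRep K G Ω₁ g (fun j => if x = j then (1 : K) else 0) =
            fun j => if g • x = j then 1 else 0 := by
          funext j
          rw [Cfsg.Agent.Lib.helper15.PermMod.permRep_apply]
          simp only [eq_inv_smul_iff]
        rw [← h2, h1, Cfsg.Agent.Lib.helper15.PermMod.permRep_apply, inv_smul_smul]
      refine ⟨fun q => f (fun j => if q.out.1 = j then 1 else 0) q.out.2, ?_⟩
      refine LinearMap.ext fun v => ?_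
      funext y
      rw [hT, LinearMap.pi_apply_eq_sum_univ f v]
      simp only [Finset.sum_apply, Pi.smul_apply, smul_eq_mul]
      apply Finset.sum_congr rfl
      intro x _
      rw [mul_comm]
      congr 1
      have h3 := Quotient.mk_out' (s₁ := MulAction.orbitRel G (Ω₁ × Ω₂)) (x, y)
      rw [MulAction.orbitRel_apply] at h3
      obtain ⟨g, hg⟩ := h3
      have h4 : (Quotient.mk'' (x, y) : MulAction.orbitRel.Quotient G (Ω₁ × Ω₂)).out = (g • x, g • y) :=
        hg.symm
      rw [h4]
      exact hfinv g x y
  rw [← hrange, LinearMap.finrank_range_of_inj hinj, Module.finrank_fintype_fun_eq_card,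
    Nat.card_eq_fintype_card]

end Cfsg.Agent.S0668
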