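import Cfsg.Statements.S0669
import Mathlib

set_option autoImplicit false
open Cfsg

namespace Cfsg.Agent.S0669

/-- The rank of a transitive action: orbits on ordered pairs correspond to orbits of a point stabiliser. -/
theorem result {G : Type*} [Group G] {Ω : Type*} [Finite Ω] [MulAction G Ω] [MulAction.IsPretransitive G Ω] (a : Ω) : Nat.card (MulAction.orbitRel.Quotient G (Ω × Ω)) = Nat.card (MulAction.orbitRel.Quotient (MulAction.stabilizer G a) Ω) := by
  symm
  let Φ : MulAction.orbitRel.Quotient (MulAction.stabilizer G a) Ω →
      MulAction.orbitRel.Quotient G (Ω × Ω) :=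
    Quotient.map' (fun b => (a, b)) (by
      intro b b' h
      change (a, b) ∈ MulAction.orbit G (a, b')
      obtain ⟨s, hs⟩ := h
      have hs' : (s : G) • b' = b := hs
      refine ⟨(s : G), ?_⟩
      change ((s : G) • a, (s : G) • b') = (a, b)
      rw [hs', s.2])
  apply Nat.card_eq_of_bijective Φ
  constructor
  · intro q q' h
    induction q using Quotient.inductionOn' with
    | _ b =>
    induction q' using Quotient.inductionOn' with
    | _ b' =>
    have h' : (a, b) ∈ MulAction.orbit G (a, b') := Quotient.exact' h
    obtain ⟨g, hg⟩ := h'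
    apply Quotient.sound'
    change b ∈ MulAction.orbit (MulAction.stabilizer G a) b'
    have h1 : g • a = a := congrArg Prod.fst hg
    have h2 : g • b' = b := congrArg Prod.snd hg
    exact ⟨⟨g, h1⟩, h2⟩
  · intro q
    induction q using Quotient.inductionOn' with
    | _ xy =>
    obtain ⟨x, y⟩ := xy
    obtain ⟨g, hg⟩ := MulAction.exists_smul_eq G x a
    refine ⟨Quotient.mk'' (g • y), ?_⟩
    apply Quotient.sound'
    change (a, g • y) ∈ MulAction.orbit G (x, y)
    refine ⟨g, ?_⟩
    change (g • x, g • y) = (a, g • y)
    rw [hg]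

end Cfsg.Agent.S0669
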