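import Cfsg.Statements.S0677
import Cfsg.Agent.Lib.helper15.IndexP
import Cfsg.Agent.S0676

set_option autoImplicit false
open Cfsg

namespace Cfsg.Agent.S0677

/-- In a transitive permutation group of prime degree `p` whose Sylow `p`-normaliser has even order, the point stabilisers are the only subgroups of index `p`. -/
theorem result {α : Type*} [Fintype α] [DecidableEq α] {p : ℕ} [Fact p.Prime] (hα : Fintype.card α = p) (G : Subgroup (Equiv.Perm α)) [MulAction.IsPretransitive G α] (P : Sylow p G) (heven : Even (Nat.card (Subgroup.normalizer ((P : Subgroup G) : Set G)))) (H : Subgroup G) (hH : H.index = p) : ∃ a : α, H = MulAction.stabilizer G a := by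
  have hα' : Nat.card α = p := by rw [Nat.card_eq_fintype_card, hα]
  have hp := (Fact.out : p.Prime)
  by_cases hsolv : Group.IsSolvable G
  · exact Cfsg.Agent.Lib.helper15.IndexP.pointstab_of_solvable (Γ := G) hα hsolv H hH
  · have h3 := Cfsg.Agent.S0676.result hα G hsolv P heven
    have hp2 : ¬ p ^ 2 ∣ Nat.card G :=
      Cfsg.Agent.Lib.helper21.not_prime_sq_dvd_card_of_faithful (Γ := G) (α := α) hα'
    have hp3 : 3 ≤ p := by
      by_contra hlt
      have hp2' : p = 2 := by
        have := hp.two_le
        omega
      apply hsolv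
      have hcard : Nat.card (Equiv.Perm α) = 2 := by
        rw [Nat.card_eq_fintype_card, Fintype.card_perm, hα, hp2']
        rfl
      have : Fact (Nat.Prime 2) := ⟨Nat.prime_two⟩
      have hcyc : IsCyclic (Equiv.Perm α) := isCyclic_of_prime_card hcard
      exact Group.isSolvable_of_comm
        (fun a b => Subtype.ext (mul_comm' (a : Equiv.Perm α) (b : Equiv.Perm α)))
    have h2 : MulAction.IsMultiplyPretransitive G α 2 :=
      MulAction.isMultiplyPretransitive_of_le (n := 3) (by norm_num) (by rw [hα']; exact hp3)
    have h2' : ∀ {a b c d : α}, a ≠ b → c ≠ d → ∃ g : G, g • a = c ∧ g • b = d :=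
      MulAction.is_two_pretransitive_iff.mp h2
    apply Cfsg.Agent.Lib.helper15.IndexP.pointstab_of_three_trans (Γ := G) hα hp2 _ _ H hH
    · intro a x x' hx hx'
      exact h2' (a := a) (b := x) (c := a) (d := x') (Ne.symm hx) (Ne.symm hx')
    · intro a x y x' y' hx hy hxy hx' hy' hxy'
      exact Cfsg.Agent.Lib.helper15.IndexP.three_elem h3 a x y x' y' hx hy hxy hx' hy' hxy'

end Cfsg.Agent.S0677
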