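import Cfsg.Statements.S0679
import Cfsg.Agent.Lib.helper34.Deg11Spec
import Cfsg.Agent.Lib.helper63.Deg11T
import Cfsg.Agent.Lib.helper63.Deg11P4
import Cfsg.Agent.Lib.helper72.Deg11L
import Cfsg.Agent.Lib.helper72.Deg11KI
import Cfsg.Agent.Lib.helper91.Deg11C
import Cfsg.Agent.Lib.helper91.Deg11D
import Cfsg.Agent.Lib.helper42.Deg11J
import Cfsg.Agent.Lib.helper42.Deg11S
import Cfsg.Agent.Lib.helper20.Deg11C0
import Cfsg.Agent.Lib.helper20.Deg11F

set_option autoImplicit false
open Cfsg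

namespace Cfsg.Agent.S0679

open Cfsg.Agent.Lib.helper34
open Cfsg.Agent.Lib.helper20 Cfsg.Agent.Lib.helper42 Cfsg.Agent.Lib.helper63 Cfsg.Agent.Lib.helper72 Cfsg.Agent.Lib.helper91

theorem kapQ_left_dx (k : Equiv.Perm GolayPt) (hk : k ∈ F11) : kapQ (dx * k) = kapQ k := by
  unfold kapQ
  apply kap11_add (pfun k) (pfun (dx * k)) (fun t ht => pfun_lt_of_mem_F11 hk ht)
  intro t ht
  have h1 : pfun (dx * k) t = xp 1 (pfun k t) := (dx_prep.mul (prep_pfun k)).pfun_eq (by omega)
  rw [h1, xp_eq, if_pos (pfun_lt_of_mem_F11 hk ht)]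

theorem kapQ_left_dh (k : Equiv.Perm GolayPt) (hk : k ∈ F11) : kapQ (dh * k) = kapQ k := by
  unfold kapQ
  apply kap11_dbl (pfun k) (pfun (dh * k)) (fun t ht => pfun_lt_of_mem_F11 hk ht)
  intro t ht
  have h1 : pfun (dh * k) t = hfn (pfun k t) := (dh_prep.mul (prep_pfun k)).pfun_eq (by omega)
  rw [h1, hfn_eq, if_pos (pfun_lt_of_mem_F11 hk ht)]

theorem kapQ_right_dx (k : Equiv.Perm GolayPt) : kapQ (k * dx) = kapQ k := by
  unfold kapQ
  apply kap11_shift (pfun k) (pfun (k * dx))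
  intro t ht
  have h1 : pfun (k * dx) t = pfun k (xp 1 t) := ((prep_pfun k).mul dx_prep).pfun_eq (by omega)
  rw [h1, xp_eq, if_pos ht]

theorem kapQ_inv : ∀ n ∈ d11N, ∀ p ∈ Subgroup.zpowers dx, ∀ k ∈ F11, kapQ (n * k * p) = kapQ k := by
  have h := deg11_inv_of_gens F11
    {g | ∃ p ∈ [(dxtab, dxinv), (dhtab, dhinv)], g = tperm p.1 p.2} {dx}
    (by
      rintro g ⟨p, hp, rfl⟩
      rcases List.mem_cons.mp hp with rfl | hp
      · exact dx_mem_F11
      · rw [List.mem_singleton.mp hp]; exact dh_mem_F11)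
    (by
      intro g hg
      rw [Set.mem_singleton_iff.mp hg]; exact dx_mem_F11)
    kapQ
    (by
      rintro g ⟨p, hp, rfl⟩ k hk
      rcases List.mem_cons.mp hp with rfl | hp
      · exact kapQ_left_dx k hk
      · rw [List.mem_singleton.mp hp]; exact kapQ_left_dh k hk)
    (by
      intro g hg k _
      rw [Set.mem_singleton_iff.mp hg]; exact kapQ_right_dx k)
  intro n hn p hp k hk
  exact h n hn p (by rw [← Subgroup.zpowers_eq_closure]; exact hp) k hk

theorem d11N_le_F11 : d11N ≤ F11 := by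
  apply genSub_le
  intro p hp
  rcases List.mem_cons.mp hp with rfl | hp
  · exact dx_mem_F11
  · rw [List.mem_singleton.mp hp]; exact dh_mem_F11

theorem d11_dec : ∀ k ∈ F11, k ∈ d11N ∨ ∃ j < 32989, ∃ n ∈ d11N, ∃ p ∈ Subgroup.zpowers dx,
    k = n * rOf (d11rec j) * p := by
  obtain ⟨hv, hrF, hinj, hne, hyP, -⟩ :=
    rep_facts d11spec d11rec 32989 d11_all'
  have hPN : Subgroup.zpowers dx ≤ d11N := by
    rw [Subgroup.zpowers_le]; exact dx_mem_d11N
  have hcard : Nat.card d11N + 32989 * (Nat.card d11N * Nat.card (Subgroup.zpowers dx)) =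
      Nat.card F11 := by
    rw [d11N_card, card_zpowers_dx, deg11_card_F11]
  exact deg11_dcos_complete F11 d11N (Subgroup.zpowers dx) d11N_le_F11 hPN kapQ kapQ_inv 32989
    (fun j => rOf (d11rec j)) hrF hinj hne
    (fun j hj => deg11_dcos_free dx (rOf (d11rec j)) d11N dx_order d11N_ord (hyP j hj)) hcard

theorem b1_mem_L1 : tperm d11b1 d11b1i ∈ d11L1 :=
  genSub_mem (gens := [(dxtab, dxinv), (d11b1, d11b1i)]) (p := (d11b1, d11b1i)) (by simp)

theorem b2_mem_L2 : tperm d11b2 d11b2i ∈ d11L2 :=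
  genSub_mem (gens := [(dxtab, dxinv), (d11b2, d11b2i)]) (p := (d11b2, d11b2i)) (by simp)

theorem d11_main (K : Subgroup (Equiv.Perm GolayPt)) (hK : K ≤ F11) (hx : dx ∈ K)
    (hns : ¬ K ≤ d11N) :
    (∃ σ ∈ K, mfix σ = 8) ∨ K = d11L1 ∨ K = d11L2 ∨ K = d11M1 ∨ K = d11M2 := by
  obtain ⟨hv, -, -, -, -, hty⟩ :=
    rep_facts d11spec d11rec 32989 d11_all'
  refine deg11_logic dx dh d11N d11L1 d11L2 d11M1 d11M2 K (∃ σ ∈ K, mfix σ = 8) 32989
    (fun j => rOf (d11rec j)) dx_order hx d11N_norm (fun k hk => d11_dec k (hK hk)) ?_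
    d11L1_le_M1 d11L2_le_M2 ?_ d11N_L1 d11N_L2 ?_ ?_ dx_mem_d11L1 dx_mem_d11L2 hns
  · intro j hj hy
    rcases hty j hj with ⟨_, hs⟩ | hw
    · exact Or.inr (d11_special j hs (hv j hj) K hx hy)
    · exact Or.inl (hw K hx hy)
  · intro h1 h2
    exact d11_w12 K hx (h1 b1_mem_L1) (h2 b2_mem_L2)
  · intro hh h1
    apply genSub_le
    intro p hp
    rcases List.mem_cons.mp hp with rfl | hp
    · exact hx
    · rw [List.mem_singleton.mp hp]
      show tperm d11b2 d11b2i ∈ K
      rw [d11_b2_conj]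
      exact K.mul_mem (K.mul_mem hh (h1 b1_mem_L1)) (K.inv_mem hh)
  · intro hh h2
    apply genSub_le
    intro p hp
    rcases List.mem_cons.mp hp with rfl | hp
    · exact hx
    · rw [List.mem_singleton.mp hp]
      show tperm d11b1 d11b1i ∈ K
      have e : tperm d11b1 d11b1i = dh⁻¹ * tperm d11b2 d11b2i * dh := by
        rw [d11_b2_conj]; group
      rw [e]
      exact K.mul_mem (K.mul_mem (K.inv_mem hh) (h2 b2_mem_L2)) hh

theorem d11N_solvable_of_le (K : Subgroup (Equiv.Perm GolayPt)) (hle : K ≤ d11N) :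
    Group.IsSolvable K := by
  have hsol : Group.IsSolvable (Subgroup.closure ({dx, dh} : Set (Equiv.Perm GolayPt))) :=
    deg11_solvable dx dh (d11N_norm dh dh_mem_d11N)
      (by
        have := d11N_norm dh⁻¹ (d11N.inv_mem dh_mem_d11N)
        rwa [inv_inv] at this)
  have hle2 : K ≤ Subgroup.closure ({dx, dh} : Set (Equiv.Perm GolayPt)) := by
    refine hle.trans (genSub_le ?_)
    intro p hp
    rcases List.mem_cons.mp hp with rfl | hp
    · exact Subgroup.subset_closure (by simp [dx])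
    · rw [List.mem_singleton.mp hp]; exact Subgroup.subset_closure (by simp [dh])
  exact Group.isSolvable_of_isSolvable_injective (Subgroup.inclusion_injective hle2)


/-- A non-solvable transitive permutation group on 11 points that does not contain the alternating group is either sharply 4-transitive (of order 7920) or isomorphic to the projective special linear group of degree 2 over the field with 11 elements. -/
theorem result {α : Type*} [Fintype α] [DecidableEq α] (hα : Fintype.card α = 11) (G : Subgroup (Equiv.Perm α)) [MulAction.IsPretransitive G α] (hG : ¬ Group.IsSolvable G) (hA : ¬ alternatingGroup α ≤ G) : (MulAction.IsMultiplyPretransitive G α 4 ∧ ∀ x : Fin 4 ↪ α, MulAction.stabilizer G x = ⊥) ∨ Nonempty (G ≃* Matrix.ProjectiveSpecialLinearGroup (Fin 2) (ZMod 11)) := by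
  obtain ⟨K, φ, e, hK, hdK, heq⟩ := deg11_transport hα G dx dx_mem_F11 dx_order
  have hns : ¬ K ≤ d11N := by
    intro hle
    apply hG
    have := d11N_solvable_of_le K hle
    exact Group.isSolvable_of_isSolvable_injective (f := e.toMonoidHom) e.injective
  rcases d11_main K hK hdK hns with ⟨σ, hσ, h8⟩ | h | h | h | h
  · exact absurd (deg11_alt_le hα G K φ e hK heq σ hσ h8) hA
  · subst h
    exact Or.inr ⟨e.trans d11L1_iso.some⟩
  · subst h
    exact Or.inr ⟨e.trans d11L2_iso.some⟩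
  · subst h
    exact Or.inl (deg11_sharp4 hα G d11M1 φ e hK heq d11M1_card d11M1_fix)
  · subst h
    exact Or.inl (deg11_sharp4 hα G d11M2 φ e hK heq d11M2_card d11M2_fix)

end Cfsg.Agent.S0679
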