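import Cfsg.Statements.S0680
import Cfsg.Agent.Lib.helper15.Sharp2

set_option autoImplicit false
open Cfsg

namespace Cfsg.Agent.S0680

open Cfsg.Agent.Lib.helper15.Sharp2

/-- A finite sharply doubly transitive permutation group has degree a prime power `p ^ j`; a Sylow `p`-subgroup is normal, elementary abelian and regular, and consists of the identity together with the elements without fixed points. (Frobenius' Theorem is not needed.) -/
theorem result {α : Type*} [Fintype α] [DecidableEq α] (G : Subgroup (Equiv.Perm α)) [MulAction.IsMultiplyPretransitive G α 2] (hsharp : ∀ x : Fin 2 ↪ α, MulAction.stabilizer G x = ⊥) (h2 : 2 ≤ Fintype.card α) : ∃ p j : ℕ, p.Prime ∧ 1 ≤ j ∧ Fintype.card α = p ^ j ∧ ∀ (hp : Fact p.Prime) (P : Sylow p G), (P : Subgroup G).Normal ∧ IsMulCommutative (P : Subgroup G) ∧ (∀ x ∈ (P : Subgroup G), x ^ p = 1) ∧ MulAction.IsPretransitive (P : Subgroup G) α ∧ (∀ a : α, MulAction.stabilizer (P : Subgroup G) a = ⊥) ∧ ∀ g : G, g ∈ (P : Subgroup G) ↔ g = 1 ∨ ∀ a : α, g • a ≠ a := by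
  have h2t : ∀ a b c d : α, a ≠ b → c ≠ d → ∃ g : G, g • a = c ∧ g • b = d := by
    intro a b c d hab hcd
    exact (MulAction.is_two_pretransitive_iff (G := G) (α := α)).mp inferInstance hab hcd
  have hsh : ∀ (g : G) (a b : α), a ≠ b → g • a = a → g • b = b → g = 1 := by
    intro g a b hab ha hb
    have : g ∈ MulAction.stabilizer G (Function.Embedding.embFinTwo hab) := by
      rw [MulAction.mem_stabilizer_iff]
      ext i
      fin_cases i
      · exact ha
      · exact hb
    rw [hsharp, Subgroup.mem_bot] at this
    exact this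
  obtain ⟨p, N, hp, hpn, hNn, hmem, hcomm, hexp, hcard⟩ := main h2t hsh h2
  have := Fact.mk hp
  have hPN : IsPGroup p N := fun g => ⟨1, Subtype.ext (by simpa using hexp g g.2)⟩
  obtain ⟨j, hj⟩ := IsPGroup.iff_card.mp hPN
  refine ⟨p, j, hp, ?_, by rw [← hcard, hj], ?_⟩
  · by_contra hj0
    have hj0' : j = 0 := by omega
    rw [hj0', pow_zero, hcard] at hj
    omega
  · intro hp' P
    have hPeq : N = (P : Subgroup G) := by
      apply le_antisymm
      · exact IsPGroup.le_sylow_of_normal hPN P
      · intro y hy
        rw [hmem]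
        by_cases hy1 : y = 1
        · exact Or.inl hy1
        · right
          obtain ⟨k, hk⟩ := P.isPGroup' ⟨y, hy⟩
          have hk' : y ^ (p ^ k) = 1 := congrArg Subtype.val hk
          exact fpf_of_pow hsh p hpn y hy1 k hk'
    subst hPeq
    have hfree : ∀ n : (P : Subgroup G), ∀ a : α, n • a = a → n = 1 := by
      intro n a ha
      rcases (hmem n).mp n.2 with h | h
      · exact Subtype.ext h
      · exact absurd ha (h a)
    refine ⟨hNn, isMulCommutative_iff.mpr (fun y z => Subtype.ext (hcomm y y.2 z z.2)), hexp, ?_, ?_,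
      hmem⟩
    · refine ⟨fun a b => ?_⟩
      have hbij : Function.Bijective (fun n : (P : Subgroup G) => n • a) := by
        apply Function.Injective.bijective_of_nat_card_le
        · intro n m hnm
          have hnm' : n • a = m • a := hnm
          have h1 : (m⁻¹ * n) • a = a := by
            rw [mul_smul, hnm', inv_smul_smul]
          exact (inv_mul_eq_one.mp (hfree _ a h1)).symm
        · rw [hcard, Nat.card_eq_fintype_card]
      exact hbij.2 b
    · intro a
      rw [eq_bot_iff]
      intro n hn
      rw [Subgroup.mem_bot]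
      exact hfree n a hn

end Cfsg.Agent.S0680
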