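import Cfsg.Statements.S0683
import Cfsg.Agent.Lib.helper15.Sharp2NF

set_option autoImplicit false
open Cfsg

namespace Cfsg.Agent.S0683

/-- A finite sharply doubly transitive permutation group is the affine group of a near-field: the permuted set carries a near-field structure for which the group consists exactly of the maps `x ↦ x * a + b` with `a ≠ 0`. -/
theorem result {α : Type*} [Fintype α] [DecidableEq α] (H : Subgroup (Equiv.Perm α)) [MulAction.IsMultiplyPretransitive H α 2] (hsharp : ∀ x : Fin 2 ↪ α, MulAction.stabilizer H x = ⊥) (h2 : 2 ≤ Fintype.card α) : ∃ _ : Cfsg.NearField α, ∀ σ : Equiv.Perm α, σ ∈ H ↔ ∃ a b : α, a ≠ 0 ∧ ∀ x : α, σ x = x * a + b := by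
  have h2t : ∀ a b c d : α, a ≠ b → c ≠ d → ∃ g : H, g • a = c ∧ g • b = d := by
    intro a b c d hab hcd
    exact (MulAction.is_two_pretransitive_iff (G := H) (α := α)).mp inferInstance hab hcd
  have hsh : ∀ (g : H) (a b : α), a ≠ b → g • a = a → g • b = b → g = 1 := by
    intro g a b hab ha hb
    have : g ∈ MulAction.stabilizer H (Function.Embedding.embFinTwo hab) := by
      rw [MulAction.mem_stabilizer_iff]
      ext i
      fin_cases i
      · exact ha
      · exact hb
    rw [hsharp, Subgroup.mem_bot] at this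
    exact this
  obtain ⟨nf, h1, h2'⟩ := Cfsg.Agent.Lib.helper15.Sharp2NF.exists_nearField h2t hsh h2
  refine ⟨nf, fun σ => ⟨fun hσ => ?_, ?_⟩⟩
  · obtain ⟨a, b, ha, hab⟩ := h1 ⟨σ, hσ⟩
    exact ⟨a, b, ha, hab⟩
  · rintro ⟨a, b, ha, hab⟩
    obtain ⟨g, hg⟩ := h2' a b ha
    have : σ = (g : Equiv.Perm α) := Equiv.ext (fun x => by
      rw [hab x]
      exact (hg x).symm)
    rw [this]
    exact g.2

end Cfsg.Agent.S0683
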