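import Cfsg.Statements.S0684
import Cfsg.Agent.Lib.helper15.LinReg

set_option autoImplicit false
open Cfsg

namespace Cfsg.Agent.S0684

open Cfsg.Agent.Lib.helper15.LinReg

/-- Point stabiliser of a sharply doubly transitive group not of semilinear type: a maximal normal abelian subgroup `A` of a linear group `H` that is regular on non-zero vectors and has no irreducible cyclic normal subgroup is cyclic and reducible, and the order of `A` divides `p ^ k - 1` for `k` the dimension of a minimal `A`-invariant subspace. -/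
theorem result {p : ℕ} [Fact p.Prime] {V : Type*} [AddCommGroup V] [Module (ZMod p) V] [Finite V] (H : Subgroup (V ≃ₗ[ZMod p] V)) (hreg : ∀ v w : V, v ≠ 0 → w ≠ 0 → ∃! h : H, (h : V ≃ₗ[ZMod p] V) v = w) (hI : ∀ A : Subgroup H, A.Normal → IsCyclic A → ∃ W : Submodule (ZMod p) V, W ≠ ⊥ ∧ W ≠ ⊤ ∧ ∀ a ∈ A, ∀ v ∈ W, ((a : H) : V ≃ₗ[ZMod p] V) v ∈ W) (A : Subgroup H) (hAn : A.Normal) (hAc : IsMulCommutative A) (hAmax : ∀ B : Subgroup H, B.Normal → IsMulCommutative B → A ≤ B → B = A) : IsCyclic A ∧ ∃ W : Submodule (ZMod p) V, W ≠ ⊥ ∧ W ≠ ⊤ ∧ (∀ a ∈ A, ∀ v ∈ W, ((a : H) : V ≃ₗ[ZMod p] V) v ∈ W) ∧ (∀ W' : Submodule (ZMod p) V, W' ≤ W → (∀ a ∈ A, ∀ v ∈ W', ((a : H) : V ≃ₗ[ZMod p] V) v ∈ W') → W' = ⊥ ∨ W' = W) ∧ Nat.card A ∣ p ^ Module.finrank (ZMod p) W - 1 := by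
  classical
  by_cases hV : Nontrivial V
  · obtain ⟨v, hv⟩ := exists_ne (0 : V)
    have htop : (⊤ : Submodule (ZMod p) V) ≠ ⊥ :=
      (Submodule.ne_bot_iff _).mpr ⟨v, trivial, hv⟩
    obtain ⟨W₁, -, hW₁, hinv₁, hmin₁⟩ :=
      exists_minimal_invariant H A ⊤ htop (fun a _ v _ => trivial)
    have hcyc : IsCyclic A := cyclic_of_minimal H hreg A hAc W₁ hW₁ hinv₁ hmin₁
    obtain ⟨W₀, hW₀, hW₀t, hinv₀⟩ := hI A hAn hcyc
    obtain ⟨W, hWle, hW, hinv, hmin⟩ := exists_minimal_invariant H A W₀ hW₀ hinv₀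
    refine ⟨hcyc, W, hW, ?_, hinv, hmin, card_dvd_of_invariant H hreg A W hinv⟩
    rintro rfl
    exact hW₀t (top_le_iff.mp hWle)
  · exfalso
    rw [not_nontrivial_iff_subsingleton] at hV
    have hsub : Subsingleton (V ≃ₗ[ZMod p] V) :=
      ⟨fun e f => LinearEquiv.ext (fun x => Subsingleton.elim _ _)⟩
    have hsubA : Subsingleton A := ⟨fun a b => Subtype.ext (Subtype.ext (Subsingleton.elim _ _))⟩
    have hcyc : IsCyclic A := isCyclic_of_subsingleton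
    obtain ⟨W₀, hW₀, -, -⟩ := hI A hAn hcyc
    apply hW₀
    rw [eq_bot_iff]
    intro x _
    rw [Submodule.mem_bot]
    exact Subsingleton.elim _ _

end Cfsg.Agent.S0684
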