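import Cfsg.Statements.S0686
import Cfsg.Agent.S0690
import Cfsg.Agent.Lib.helper15.LinReg
import Cfsg.Agent.Lib.helper62.FrobExtract
import Cfsg.Agent.Lib.helper78.ZasMinNA

set_option autoImplicit false
open Cfsg

namespace Cfsg.Agent.S0686

/-- In a linear group over the prime field that is regular on non-zero vectors and has no irreducible cyclic normal subgroup, let `A` be a maximal normal abelian subgroup and `N` a normal subgroup centralising `A` that is minimal among non-abelian normal subgroups centralising `A`. Then `N` is quaternion of order 8 or isomorphic to `SL(2,5)`. -/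
theorem result {p : ℕ} [Fact p.Prime] {V : Type*} [AddCommGroup V] [Module (ZMod p) V] [Finite V] (H : Subgroup (V ≃ₗ[ZMod p] V)) (hreg : ∀ v w : V, v ≠ 0 → w ≠ 0 → ∃! h : H, (h : V ≃ₗ[ZMod p] V) v = w) (hI : ∀ A : Subgroup H, A.Normal → IsCyclic A → ∃ W : Submodule (ZMod p) V, W ≠ ⊥ ∧ W ≠ ⊤ ∧ ∀ a ∈ A, ∀ v ∈ W, ((a : H) : V ≃ₗ[ZMod p] V) v ∈ W) (A : Subgroup H) (hAn : A.Normal) (hAc : IsMulCommutative A) (hAmax : ∀ B : Subgroup H, B.Normal → IsMulCommutative B → A ≤ B → B = A) (N : Subgroup H) (hNn : N.Normal) (hNle : N ≤ Subgroup.centralizer (A : Set H)) (hNna : ¬ IsMulCommutative N) (hNmin : ∀ M : Subgroup H, M.Normal → M ≤ N → ¬ IsMulCommutative M → M = N) : Nonempty (N ≃* QuaternionGroup 2) ∨ Nonempty (N ≃* Matrix.SpecialLinearGroup (Fin 2) (ZMod 5)) := by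
  classical
  have hfinE : Finite (V ≃ₗ[ZMod p] V) :=
    Finite.of_injective (fun e : V ≃ₗ[ZMod p] V => (e : V → V)) DFunLike.coe_injective
  -- `V` is nontrivial
  obtain ⟨W₀, hW₀b, hW₀t, -⟩ := hI ⊥ inferInstance inferInstance
  have hnt : Nontrivial V := by
    by_contra hn
    rw [not_nontrivial_iff_subsingleton] at hn
    exact hW₀b (Submodule.eq_bot_of_subsingleton)
  have hcardH : Nat.card H = p ^ Module.finrank (ZMod p) V - 1 :=
    Cfsg.Agent.Lib.helper15.LinReg.card_of_reg H hreg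
  have hfd : Module.Finite (ZMod p) V := Module.Finite.of_finite
  have hd : 0 < Module.finrank (ZMod p) V := Module.finrank_pos
  have hpp : p.Prime := Fact.out
  have hpH : ¬ p ∣ Nat.card H := by
    rw [hcardH]
    intro hdvd
    have h1 : p ∣ p ^ Module.finrank (ZMod p) V := dvd_pow_self p hd.ne'
    have h2 : 1 ≤ p ^ Module.finrank (ZMod p) V := Nat.one_le_pow _ _ hpp.pos
    have h3 : p ∣ 1 := by
      have := Nat.dvd_sub h1 hdvd
      rwa [Nat.sub_sub_self h2] at this
    exact hpp.one_lt.ne' (Nat.dvd_one.mp h3)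
  have hfpf : Cfsg.Agent.Lib.helper62.FrobExtract.HasFpfMod H :=
    ⟨p, inferInstance, V, inferInstance, inferInstance, hpH,
    inferInstance, hnt,
    fun x => by rw [← Nat.cast_smul_eq_nsmul (ZMod p), ZMod.natCast_self, zero_smul],
    fun a ha x hx => by
      by_contra hx0
      exact ha (Cfsg.Agent.Lib.helper15.LinReg.free_of_reg H hreg a x hx0 hx)⟩
  exact Cfsg.Agent.Lib.helper78.ZasF.q8_or_sl25
    (fun K _ _ G h1 h2 h3 => Cfsg.Agent.S0690.result G h1 h2 h3) hfpf A hAn hAc hAmax N hNn hNle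
    hNna hNmin

end Cfsg.Agent.S0686
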