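import Cfsg.Statements.S0687
import Cfsg.Agent.Lib.helper25.RegLin
-- import your own Cfsg.Agent.* helpers here

set_option autoImplicit false
open Cfsg

namespace Cfsg.Agent.S0687

/-- In a linear group over the prime field that is regular on non-zero vectors and has no irreducible cyclic normal subgroup, a normal subgroup `N` minimal among the non-abelian normal subgroups centralising a maximal normal abelian subgroup `A` is irreducible on `V`, and its centraliser is `A`. -/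
theorem result {p : ℕ} [Fact p.Prime] {V : Type*} [AddCommGroup V] [Module (ZMod p) V] [Finite V] (H : Subgroup (V ≃ₗ[ZMod p] V)) (hreg : ∀ v w : V, v ≠ 0 → w ≠ 0 → ∃! h : H, (h : V ≃ₗ[ZMod p] V) v = w) (hI : ∀ A : Subgroup H, A.Normal → IsCyclic A → ∃ W : Submodule (ZMod p) V, W ≠ ⊥ ∧ W ≠ ⊤ ∧ ∀ a ∈ A, ∀ v ∈ W, ((a : H) : V ≃ₗ[ZMod p] V) v ∈ W) (A : Subgroup H) (hAn : A.Normal) (hAc : IsMulCommutative A) (hAmax : ∀ B : Subgroup H, B.Normal → IsMulCommutative B → A ≤ B → B = A) (N : Subgroup H) (hNn : N.Normal) (hNle : N ≤ Subgroup.centralizer (A : Set H)) (hNna : ¬ IsMulCommutative N) (hNmin : ∀ M : Subgroup H, M.Normal → M ≤ N → ¬ IsMulCommutative M → M = N) : (∀ W : Submodule (ZMod p) V, (∀ n ∈ N, ∀ v ∈ W, ((n : H) : V ≃ₗ[ZMod p] V) v ∈ W) → W = ⊥ ∨ W = ⊤) ∧ Subgroup.centralizer (N : Set H) = A := by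
  have hreg' : ∀ v w : V, v ≠ 0 → w ≠ 0 → ∃ h : H, (h : V ≃ₗ[ZMod p] V) v = w :=
    fun v w hv hw => (hreg v w hv hw).exists
  have hNna' : ¬ ∀ a b : H, a ∈ N → b ∈ N → a * b = b * a := by
    intro h
    apply hNna
    exact ⟨⟨fun a b => Subtype.ext (h a.1 b.1 a.2 b.2)⟩⟩
  have hirr := Cfsg.Agent.Lib.helper25.RegLin.irreducible_of_normal H hreg' N hNn hNna'
  refine ⟨hirr, ?_⟩
  apply hAmax
  · have := hNn
    infer_instance
  · refine ⟨⟨fun a b => ?_⟩⟩
    apply Subtype.ext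
    have key : ∀ c : H, c ∈ Subgroup.centralizer (N : Set H) →
        ∀ s ∈ {f : Module.End (ZMod p) V | ∃ n ∈ N, f = Cfsg.Agent.Lib.helper25.RegLin.toEnd H n},
          s * Cfsg.Agent.Lib.helper25.RegLin.toEnd H c
            = Cfsg.Agent.Lib.helper25.RegLin.toEnd H c * s := by
      intro c hc s hs
      obtain ⟨n, hn, rfl⟩ := hs
      rw [Subgroup.mem_centralizer_iff] at hc
      rw [← Cfsg.Agent.Lib.helper25.RegLin.toEnd_mul, ← Cfsg.Agent.Lib.helper25.RegLin.toEnd_mul,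
        hc n hn]
    have h1 := Cfsg.Agent.Lib.helper25.RegLin.commutant_comm
      {f : Module.End (ZMod p) V | ∃ n ∈ N, f = Cfsg.Agent.Lib.helper25.RegLin.toEnd H n}
      (fun W hW => hirr W (fun n hn v hv => hW _ ⟨n, hn, rfl⟩ v hv))
      (Cfsg.Agent.Lib.helper25.RegLin.toEnd H a.1) (Cfsg.Agent.Lib.helper25.RegLin.toEnd H b.1)
      (key a.1 a.2) (key b.1 b.2)
    rw [← Cfsg.Agent.Lib.helper25.RegLin.toEnd_mul, ← Cfsg.Agent.Lib.helper25.RegLin.toEnd_mul] at h1
    exact Cfsg.Agent.Lib.helper25.RegLin.toEnd_injective H h1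
  · intro a ha
    rw [Subgroup.mem_centralizer_iff]
    intro n hn
    have h2 := hNle hn
    rw [Subgroup.mem_centralizer_iff] at h2
    exact (h2 a ha).symm

end Cfsg.Agent.S0687
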