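import Cfsg.Statements.S0691
import Cfsg.Agent.Lib.helper15.RegGL2

set_option autoImplicit false
open Cfsg

namespace Cfsg.Agent.S0691

open Cfsg.Agent.Lib.helper15.RegGL2

/-- generators as `(g00, g01, g10, g11)` with entries reduced mod 5 -/
def gens : List (ℕ × ℕ × ℕ × ℕ) := [(2, 0, 0, 3), (0, 4, 1, 0), (1, 2, 1, 3)]

/-- inverses of the generators -/
def ginvs : List (ℕ × ℕ × ℕ × ℕ) := [(3, 0, 0, 2), (0, 1, 4, 0), (3, 3, 4, 1)]

/-- certificate table: row `a`, column `b` holds `(f1, f2, rank, generator index)` for the group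
element with first column `(a, b)` and second column `(f1, f2)` -/
def tbl : List (List (ℕ × ℕ × ℕ × ℕ)) := [
  [(0, 0, 0, 0), (4, 0, 1, 1), (2, 0, 2, 0), (3, 0, 2, 1), (1, 0, 3, 1)],
  [(0, 1, 0, 0), (2, 3, 1, 2), (1, 3, 3, 2), (4, 3, 3, 2), (3, 3, 3, 1)],
  [(0, 3, 1, 0), (2, 4, 4, 2), (1, 4, 2, 0), (4, 4, 2, 2), (3, 4, 4, 2)],
  [(0, 2, 3, 0), (2, 1, 3, 2), (1, 1, 3, 0), (4, 1, 3, 2), (3, 1, 2, 2)],
  [(0, 4, 2, 0), (2, 2, 2, 2), (1, 2, 4, 2), (4, 2, 4, 2), (3, 2, 3, 2)]]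

theorem chk : chkAll 5 gens ginvs tbl = true := by decide +kernel

theorem matOf_eq (a b c d : ZMod 5) (g : ℕ × ℕ × ℕ × ℕ) (h1 : a = (g.1 : ZMod 5))
    (h2 : b = (g.2.1 : ZMod 5)) (h3 : c = (g.2.2.1 : ZMod 5)) (h4 : d = (g.2.2.2 : ZMod 5)) :
    !![a, b; c, d] = matOf 5 g := by
  subst h1 h2 h3 h4
  rfl


/-- An exceptional sharply doubly transitive group of degree 5^2: the listed matrices generate a subgroup of GL(2,5) of order 24 acting regularly on the non-zero vectors. -/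
theorem result (A : Matrix.GeneralLinearGroup (Fin 2) (ZMod 5)) (B : Matrix.GeneralLinearGroup (Fin 2) (ZMod 5)) (C : Matrix.GeneralLinearGroup (Fin 2) (ZMod 5)) (hA : (A : Matrix (Fin 2) (Fin 2) (ZMod 5)) = !![2, 0; 0, -2]) (hB : (B : Matrix (Fin 2) (Fin 2) (ZMod 5)) = !![0, -1; 1, 0]) (hC : (C : Matrix (Fin 2) (Fin 2) (ZMod 5)) = !![1, 2; 1, -2]) : Nat.card (Subgroup.closure ({A, B, C} : Set (Matrix.GeneralLinearGroup (Fin 2) (ZMod 5)))) = 24 ∧ ∀ v w : Fin 2 → ZMod 5, v ≠ 0 → w ≠ 0 → ∃! h : Subgroup.closure ({A, B, C} : Set (Matrix.GeneralLinearGroup (Fin 2) (ZMod 5))), Matrix.mulVec ((h : Matrix.GeneralLinearGroup (Fin 2) (ZMod 5)) : Matrix (Fin 2) (Fin 2) (ZMod 5)) v = w := by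
  have : Fact (Nat.Prime 5) := ⟨by norm_num⟩
  have h := regular_of_cert 5 ({A, B, C} : Set (Matrix.GeneralLinearGroup (Fin 2) (ZMod 5))) gens ginvs tbl ?_ ?_ chk
  · exact h
  · intro g hg
    simp only [Set.mem_insert_iff, Set.mem_singleton_iff] at hg
    rcases hg with rfl | rfl | rfl
    · exact ⟨(2, 0, 0, 3), by simp [gens], by rw [hA]; exact matOf_eq _ _ _ _ _ (by decide) (by decide) (by decide) (by decide)⟩
    · exact ⟨(0, 4, 1, 0), by simp [gens], by rw [hB]; exact matOf_eq _ _ _ _ _ (by decide) (by decide) (by decide) (by decide)⟩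
    · exact ⟨(1, 2, 1, 3), by simp [gens], by rw [hC]; exact matOf_eq _ _ _ _ _ (by decide) (by decide) (by decide) (by decide)⟩
  · intro e he
    simp only [gens, List.mem_cons, List.not_mem_nil, or_false] at he
    rcases he with rfl | rfl | rfl
    · exact ⟨A, by simp, by rw [hA]; exact matOf_eq _ _ _ _ _ (by decide) (by decide) (by decide) (by decide)⟩
    · exact ⟨B, by simp, by rw [hB]; exact matOf_eq _ _ _ _ _ (by decide) (by decide) (by decide) (by decide)⟩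
    · exact ⟨C, by simp, by rw [hC]; exact matOf_eq _ _ _ _ _ (by decide) (by decide) (by decide) (by decide)⟩

end Cfsg.Agent.S0691
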