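import Cfsg.Statements.S0692
import Cfsg.Agent.Lib.helper15.RegGL2

set_option autoImplicit false
open Cfsg

namespace Cfsg.Agent.S0692

open Cfsg.Agent.Lib.helper15.RegGL2

/-- generators as `(g00, g01, g10, g11)` with entries reduced mod 11 -/
def gens : List (ℕ × ℕ × ℕ × ℕ) := [(0, 10, 1, 0), (2, 4, 1, 8)]

/-- inverses of the generators -/
def ginvs : List (ℕ × ℕ × ℕ × ℕ) := [(0, 1, 10, 0), (8, 7, 10, 2)]

/-- certificate table: row `a`, column `b` holds `(f1, f2, rank, generator index)` for the group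
element with first column `(a, b)` and second column `(f1, f2)` -/
def tbl : List (List (ℕ × ℕ × ℕ × ℕ)) := [
  [(0, 0, 0, 0), (10, 0, 1, 0), (5, 7, 4, 0), (7, 10, 8, 0), (8, 1, 7, 0), (2, 7, 6, 1), (9, 4, 8, 1), (3, 10, 9, 0), (4, 1, 10, 0), (6, 4, 6, 0), (1, 0, 3, 0)],
  [(0, 1, 0, 0), (1, 2, 5, 1), (10, 10, 6, 0), (7, 0, 7, 1), (4, 6, 10, 0), (6, 9, 9, 0), (5, 9, 8, 1), (3, 0, 10, 1), (9, 7, 3, 1), (8, 7, 4, 1), (2, 10, 4, 1)],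
  [(7, 6, 7, 0), (4, 8, 1, 1), (2, 8, 12, 1), (3, 5, 10, 1), (1, 8, 6, 0), (6, 10, 10, 1), (5, 10, 7, 1), (0, 6, 7, 1), (9, 9, 9, 1), (8, 9, 11, 1), (10, 1, 5, 0)],
  [(10, 4, 10, 1), (4, 9, 4, 1), (2, 9, 10, 1), (3, 7, 8, 1), (1, 9, 3, 0), (9, 8, 11, 0), (6, 5, 7, 0), (8, 8, 9, 0), (7, 8, 11, 1), (5, 8, 9, 1), (0, 4, 6, 1)],
  [(1, 3, 10, 0), (0, 3, 7, 1), (5, 0, 8, 1), (3, 8, 10, 0), (4, 7, 12, 1), (2, 0, 6, 1), (10, 7, 11, 1), (7, 7, 12, 1), (9, 10, 2, 0), (8, 10, 5, 0), (6, 7, 12, 0)],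
  [(7, 9, 5, 1), (2, 5, 9, 1), (1, 5, 8, 1), (6, 6, 8, 0), (4, 10, 11, 1), (5, 3, 7, 1), (3, 6, 6, 1), (0, 9, 5, 1), (8, 2, 10, 0), (10, 5, 9, 1), (9, 5, 8, 0)],
  [(4, 2, 7, 1), (2, 6, 10, 0), (1, 6, 7, 1), (3, 9, 11, 1), (0, 2, 3, 1), (8, 5, 4, 1), (6, 8, 5, 1), (7, 1, 10, 1), (5, 5, 6, 0), (10, 6, 6, 1), (9, 6, 7, 1)],
  [(10, 8, 8, 0), (5, 4, 11, 0), (3, 1, 3, 0), (2, 1, 4, 0), (4, 4, 12, 0), (1, 4, 9, 1), (9, 0, 4, 1), (7, 4, 11, 1), (8, 3, 12, 0), (6, 0, 6, 1), (0, 8, 9, 1)],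
  [(1, 7, 9, 0), (0, 7, 8, 1), (6, 3, 11, 1), (4, 3, 9, 1), (3, 3, 11, 0), (5, 6, 5, 0), (2, 3, 12, 1), (10, 2, 5, 0), (8, 4, 10, 1), (9, 2, 8, 1), (7, 2, 2, 1)],
  [(4, 5, 5, 0), (1, 10, 7, 0), (3, 2, 9, 1), (2, 2, 11, 1), (0, 5, 5, 1), (6, 1, 9, 1), (5, 1, 8, 1), (10, 3, 4, 0), (8, 6, 12, 1), (9, 3, 10, 1), (7, 3, 3, 1)],
  [(0, 10, 2, 0), (9, 1, 6, 1), (3, 4, 2, 1), (2, 4, 5, 1), (8, 0, 8, 1), (6, 2, 6, 1), (5, 2, 7, 0), (7, 5, 12, 0), (4, 0, 9, 1), (1, 1, 8, 0), (10, 9, 7, 1)]]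

theorem chk : chkAll 11 gens ginvs tbl = true := by decide +kernel

theorem matOf_eq (a b c d : ZMod 11) (g : ℕ × ℕ × ℕ × ℕ) (h1 : a = (g.1 : ZMod 11))
    (h2 : b = (g.2.1 : ZMod 11)) (h3 : c = (g.2.2.1 : ZMod 11)) (h4 : d = (g.2.2.2 : ZMod 11)) :
    !![a, b; c, d] = matOf 11 g := by
  subst h1 h2 h3 h4
  rfl


/-- An exceptional sharply doubly transitive group of degree 11^2: the listed matrices generate a subgroup of GL(2,11) of order 120 acting regularly on the non-zero vectors. -/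
theorem result (A : Matrix.GeneralLinearGroup (Fin 2) (ZMod 11)) (B : Matrix.GeneralLinearGroup (Fin 2) (ZMod 11)) (hA : (A : Matrix (Fin 2) (Fin 2) (ZMod 11)) = !![0, -1; 1, 0]) (hB : (B : Matrix (Fin 2) (Fin 2) (ZMod 11)) = !![2, 4; 1, -3]) : Nat.card (Subgroup.closure ({A, B} : Set (Matrix.GeneralLinearGroup (Fin 2) (ZMod 11)))) = 120 ∧ ∀ v w : Fin 2 → ZMod 11, v ≠ 0 → w ≠ 0 → ∃! h : Subgroup.closure ({A, B} : Set (Matrix.GeneralLinearGroup (Fin 2) (ZMod 11))), Matrix.mulVec ((h : Matrix.GeneralLinearGroup (Fin 2) (ZMod 11)) : Matrix (Fin 2) (Fin 2) (ZMod 11)) v = w := by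
  have : Fact (Nat.Prime 11) := ⟨by norm_num⟩
  have h := regular_of_cert 11 ({A, B} : Set (Matrix.GeneralLinearGroup (Fin 2) (ZMod 11))) gens ginvs tbl ?_ ?_ chk
  · exact h
  · intro g hg
    simp only [Set.mem_insert_iff, Set.mem_singleton_iff] at hg
    rcases hg with rfl | rfl
    · exact ⟨(0, 10, 1, 0), by simp [gens], by rw [hA]; exact matOf_eq _ _ _ _ _ (by decide) (by decide) (by decide) (by decide)⟩
    · exact ⟨(2, 4, 1, 8), by simp [gens], by rw [hB]; exact matOf_eq _ _ _ _ _ (by decide) (by decide) (by decide) (by decide)⟩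
  · intro e he
    simp only [gens, List.mem_cons, List.not_mem_nil, or_false] at he
    rcases he with rfl | rfl
    · exact ⟨A, by simp, by rw [hA]; exact matOf_eq _ _ _ _ _ (by decide) (by decide) (by decide) (by decide)⟩
    · exact ⟨B, by simp, by rw [hB]; exact matOf_eq _ _ _ _ _ (by decide) (by decide) (by decide) (by decide)⟩

end Cfsg.Agent.S0692
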