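import Cfsg.Statements.S0693
import Cfsg.Agent.Lib.helper15.RegGL2

set_option autoImplicit false
open Cfsg

namespace Cfsg.Agent.S0693

open Cfsg.Agent.Lib.helper15.RegGL2

/-- generators as `(g00, g01, g10, g11)` with entries reduced mod 59 -/
def gens : List (ℕ × ℕ × ℕ × ℕ) := [(0, 58, 1, 0), (9, 15, 49, 49), (4, 0, 0, 4)]

/-- inverses of the generators -/
def ginvs : List (ℕ × ℕ × ℕ × ℕ) := [(0, 1, 58, 0), (49, 44, 10, 9), (15, 0, 0, 15)]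

/-- row 0 of the certificate table -/
def r0 : List (ℕ × ℕ × ℕ × ℕ) := [(0, 0, 0, 0), (58, 0, 1, 0), (57, 0, 18, 2), (56, 0, 26, 2), (55, 0, 2, 2), (54, 0, 4, 2), (53, 0, 14, 2), (52, 0, 10, 2), (51, 0, 19, 2), (50, 0, 22, 2), (49, 0, 21, 2), (48, 0, 30, 2), (47, 0, 27, 2), (46, 0, 11, 2), (45, 0, 27, 2), (44, 0, 29, 2), (43, 0, 3, 2), (42, 0, 21, 2), (41, 0, 10, 2), (40, 0, 20, 2), (39, 0, 5, 2), (38, 0, 6, 2), (37, 0, 14, 2), (36, 0, 25, 2), (35, 0, 15, 2), (34, 0, 7, 2), (33, 0, 24, 2), (32, 0, 18, 2), (31, 0, 11, 2), (30, 0, 15, 2), (29, 0, 17, 2), (28, 0, 13, 2), (27, 0, 20, 2), (26, 0, 26, 2), (25, 0, 9, 2), (24, 0, 13, 2), (23, 0, 23, 2), (22, 0, 16, 2), (21, 0, 8, 2), (20, 0, 7, 2), (19, 0, 22, 2), (18, 0, 8, 2), (17, 0, 23, 2), (16, 0, 5, 2), (15, 0, 31, 2), (14, 0, 25, 2), (13, 0, 9, 2), (12, 0, 29, 2), (11, 0, 28, 2), (10,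 0, 19, 2), (9, 0, 24, 2), (8, 0, 17, 2), (7, 0, 12, 2), (6, 0, 12, 2), (5, 0, 6, 2), (4, 0, 4, 2), (3, 0, 28, 2), (2, 0, 16, 2), (1, 0, 3, 0)]

/-- row 1 of the certificate table -/
def r1 : List (ℕ × ℕ × ℕ × ℕ) := [(0, 1, 0, 0), (54, 31, 14, 2), (2, 8, 20, 2), (30, 58, 34, 2), (29, 58, 4, 1), (5, 45, 7, 2), (18, 16, 35, 2), (21, 48, 32, 2), (8, 58, 32, 2), (47, 58, 34, 2), (45, 23, 21, 2), (38, 26, 23, 2), (41, 12, 9, 2), (13, 21, 12, 2), (36, 39, 27, 2), (46, 58, 21, 2), (56, 18, 26, 2), (33, 39, 29, 2), (6, 16, 34, 2), (23, 40, 3, 2), (53, 25, 30, 2), (7, 48, 33, 2), (22, 58, 16, 2), (19, 40, 6, 2), (32, 58, 34, 2), (28, 12, 9, 2), (26, 9, 30, 2), (27, 38, 20, 2), (25, 12, 5, 2), (4, 58, 6, 0), (3, 58, 32, 2), (58, 5, 16, 2), (24, 58, 33, 2), (17, 39, 31, 2), (48, 58, 35, 2), (35, 14, 17, 2), (14, 39, 28, 2), (52, 5, 12, 2), (11,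 26, 24, 2), (39, 49, 37, 2), (51, 56, 27, 2), (12, 12, 14, 2), (49, 56, 22, 2), (43, 46, 34, 2), (44, 37, 35, 2), (10, 23, 20, 2), (15, 58, 19, 2), (9, 58, 36, 2), (34, 58, 33, 2), (42, 56, 25, 2), (50, 42, 14, 2), (40, 56, 29, 2), (37, 5, 12, 2), (20, 25, 33, 2), (1, 31, 15, 2), (55, 52, 21, 2), (16, 18, 25, 2), (57, 53, 19, 2), (31, 5, 13, 2)]

/-- row 2 of the certificate table -/
def r2 : List (ℕ × ℕ × ℕ × ℕ) := [(0, 2, 17, 2), (6, 57, 20, 2), (49, 3, 31, 2), (57, 10, 29, 2), (4, 16, 8, 2), (48, 57, 17, 2), (1, 57, 21, 2), (34, 19, 19, 2), (58, 57, 21, 2), (37, 57, 19, 2), (10, 31, 24, 2), (11, 28, 30, 2), (36, 32, 19, 2), (28, 19, 12, 2), (42, 37, 16, 2), (45, 10, 25, 2), (16, 57, 18, 2), (22, 52, 12, 2), (35, 57, 18, 2), (19, 39, 25, 2), (31, 46, 34, 2), (43, 53, 11, 2), (17, 52, 11, 2), (24, 24, 27, 2), (23, 24, 26, 2), (39,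 53, 10, 2), (26, 42, 29, 2), (27, 33, 22, 2), (13, 19, 15, 2), (29, 15, 19, 2), (33, 57, 34, 2), (20, 46, 37, 2), (53, 36, 14, 2), (30, 57, 36, 2), (7, 19, 17, 2), (18, 57, 20, 2), (12, 32, 22, 2), (9, 57, 21, 2), (46, 21, 20, 2), (25, 53, 9, 2), (47, 50, 18, 2), (41, 25, 27, 2), (14, 37, 20, 2), (21, 53, 13, 2), (44, 57, 30, 2), (15, 10, 25, 2), (38, 21, 19, 2), (40, 50, 17, 2), (5, 57, 19, 2), (2, 3, 28, 2), (56, 24, 22, 2), (51, 45, 34, 2), (52, 18, 14, 2), (32, 36, 13, 2), (54, 17, 36, 2), (55, 47, 35, 2), (50, 24, 22, 2), (3, 10, 30, 2), (8, 57, 23, 2)]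

/-- row 3 of the certificate table -/
def r3 : List (ℕ × ℕ × ℕ × ℕ) := [(0, 3, 25, 2), (41, 16, 26, 2), (35, 50, 23, 2), (44, 34, 10, 2), (21, 26, 29, 2), (36, 36, 10, 2), (6, 24, 16, 2), (7, 56, 12, 1), (29, 50, 18, 2), (31, 56, 30, 2), (57, 2, 31, 2), (11, 20, 30, 2), (28, 56, 29, 2), (37, 56, 30, 2), (14, 52, 31, 2), (15, 17, 32, 2), (25, 36, 34, 2), (30, 10, 16, 2), (54, 48, 31, 2), (19, 27, 26, 2), (45, 56, 15, 2), (4, 26, 28, 2), (22, 55, 16, 2), (27, 56, 32, 2), (24, 56, 28, 2), (16, 36, 30, 2), (43, 56, 29, 2), (23, 56, 30, 2), (12, 56, 31, 2), (8, 50, 21, 2), (17, 10, 17, 2), (9, 56, 28, 2), (32, 8, 39, 2), (55, 19, 19, 2), (56, 15, 12, 2), (2, 50, 25, 2), (5, 36, 5, 2), (13, 56, 29, 2), (52, 15, 8, 2), (39, 4, 8, 2), (51, 58, 27, 2), (1, 16, 29, 2), (49, 58, 23, 2), (26, 56, 31, 2), (3, 34, 11, 2), (20, 56, 17, 2), (46,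 42, 13, 2), (47, 38, 17, 2), (50, 54, 22, 2), (42, 58, 24, 2), (48, 54, 21, 2), (40, 58, 25, 2), (38, 15, 8, 2), (53, 41, 15, 2), (18, 48, 30, 2), (33, 19, 20, 2), (34, 15, 9, 2), (10, 2, 28, 2), (58, 29, 33, 2)]

/-- row 4 of the certificate table -/
def r4 : List (ℕ × ℕ × ℕ × ℕ) := [(0, 4, 1, 2), (7, 55, 22, 2), (12, 55, 33, 2), (40, 33, 21, 2), (39, 6, 15, 2), (47, 13, 27, 2), (55, 20, 17, 2), (1, 55, 20, 2), (8, 32, 21, 2), (14, 38, 30, 2), (37, 55, 34, 2), (36, 55, 8, 0), (2, 55, 35, 2), (24, 5, 35, 2), (9, 38, 32, 2), (18, 55, 34, 2), (57, 55, 5, 2), (33, 42, 4, 2), (15, 55, 36, 2), (50, 47, 26, 2), (20, 3, 8, 2), (35, 41, 31, 2), (22, 56, 18, 2), (23, 50, 15, 2), (13, 5, 36, 2), (28, 15, 34, 2), (56, 38, 29, 2), (42, 47, 30, 2), (25, 15, 33, 2), (29, 55, 17, 2), (31, 20, 13, 2), (30, 20, 13, 2), (32, 55, 33, 2), (17, 42, 7,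 2), (44, 45, 25, 2), (21, 41, 34, 2), (11, 55, 6, 1), (10, 55, 35, 2), (38, 19, 38, 2), (4, 6, 16, 2), (3, 33, 22, 2), (53, 48, 10, 2), (27, 47, 28, 2), (43, 31, 22, 2), (34, 45, 24, 2), (45, 36, 31, 2), (48, 48, 15, 2), (5, 13, 26, 2), (46, 48, 10, 2), (49, 34, 21, 2), (19, 47, 23, 2), (51, 35, 20, 2), (52, 25, 13, 2), (41, 48, 6, 2), (54, 7, 35, 2), (6, 20, 14, 2), (26, 38, 28, 2), (16, 55, 7, 2), (58, 30, 7, 1)]

/-- row 5 of the certificate table -/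
def r5 : List (ℕ × ℕ × ℕ × ℕ) := [(0, 5, 3, 2), (28, 1, 12, 2), (42, 54, 37, 2), (11, 18, 31, 2), (52, 54, 36, 2), (34, 37, 17, 2), (6, 46, 15, 2), (22, 1, 12, 2), (24, 25, 15, 2), (33, 44, 28, 2), (10, 40, 23, 2), (3, 18, 30, 2), (12, 45, 33, 2), (55, 12, 27, 2), (14, 33, 17, 2), (32, 54, 37, 2), (53, 54, 24, 2), (17, 13, 23, 2), (18, 9, 11, 2), (23, 44, 32, 2), (27, 54, 7, 2), (44, 31, 29, 2), (7, 1, 8, 2), (19, 44, 30, 2), (8, 25, 15, 2), (25, 48, 10, 2), (47, 18, 32, 2), (20, 54, 9, 2), (1, 1, 17, 2), (41, 7, 36, 2), (31, 21, 9, 1), (30, 21, 8, 0), (15, 54, 35, 2), (9, 44, 25, 2), (5, 37, 18, 2), (46, 4, 35, 2), (56, 23, 6, 2), (54, 25, 19, 2), (38, 53, 8, 1), (39, 24, 24, 2), (40, 54, 35, 2), (29, 7, 33, 2), (2, 54, 36, 2), (43, 8, 9, 2), (21, 31, 28, 2), (58, 54, 8, 2), (35, 4, 36, 2), (26, 18, 34, 2), (50, 56, 23, 2), (49, 29,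 22, 2), (48, 56, 24, 2), (51, 54, 19, 2), (4, 54, 38, 2), (16, 54, 22, 2), (37, 25, 16, 2), (13, 12, 26, 2), (36, 23, 9, 2), (57, 11, 20, 2), (45, 54, 10, 2)]

/-- row 6 of the certificate table -/
def r6 : List (ℕ × ℕ × ℕ × ℕ) := [(0, 6, 13, 2), (34, 20, 30, 2), (23, 32, 14, 2), (18, 53, 16, 2), (11, 41, 7, 2), (5, 16, 23, 2), (29, 9, 27, 2), (51, 38, 36, 2), (42, 52, 16, 2), (53, 30, 25, 2), (13, 13, 23, 2), (4, 41, 9, 2), (12, 48, 33, 2), (10, 13, 22, 2), (14, 53, 26, 2), (26, 53, 13, 2), (58, 41, 35, 2), (45, 30, 21, 2), (3, 53, 17, 2), (19, 8, 25, 2), (55, 4, 15, 2), (43, 57, 15, 2), (22, 40, 18, 2), (2, 32, 13, 2), (56, 53, 17, 2), (39, 57, 11, 2), (15, 53, 15, 2), (52, 53, 15, 2), (28, 45, 15, 2), (6, 9, 24, 2), (30, 34, 20, 2), (40, 53, 30, 2), (50, 13, 18, 2), (33, 25, 26, 2), (1, 20, 33, 2), (35, 17, 30, 2), (49, 37, 15,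 2), (41, 49, 10, 2), (38, 54, 10, 0), (25, 57, 8, 2), (31, 53, 32, 2), (37, 49, 9, 2), (8, 52, 12, 2), (21, 57, 13, 2), (44, 51, 32, 2), (17, 30, 21, 2), (54, 53, 16, 2), (47, 23, 31, 2), (48, 53, 14, 2), (36, 37, 18, 2), (32, 13, 18, 2), (7, 38, 37, 2), (27, 53, 17, 2), (9, 30, 26, 2), (46, 53, 14, 2), (20, 4, 16, 2), (24, 53, 19, 2), (57, 58, 21, 2), (16, 41, 34, 2)]

/-- row 7 of the certificate table -/
def r7 : List (ℕ × ℕ × ℕ × ℕ) := [(0, 7, 9, 2), (54, 37, 9, 2), (41, 52, 15, 2), (44, 38, 9, 2), (34, 52, 14, 2), (5, 4, 39, 2), (6, 27, 14, 2), (24, 40, 23, 2), (42, 53, 14, 2), (9, 39, 26, 2), (23, 35, 21, 2), (20, 43, 30, 2), (12, 30, 29, 2), (13, 23, 15, 2), (14, 56, 29, 2), (43, 44, 12, 2), (39, 37, 37, 2), (22, 57, 13, 2), (30, 5, 32, 2), (57, 25, 14, 2), (11, 43, 29, 2), (33, 52, 14, 2), (17, 57, 10, 2), (10, 35, 21, 2),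 (7, 40, 24, 2), (51, 25, 18, 2), (28, 52, 15, 2), (46, 52, 28, 2), (26, 52, 13, 2), (49, 41, 13, 2), (18, 5, 33, 2), (31, 10, 30, 2), (32, 29, 21, 2), (21, 52, 12, 2), (4, 52, 16, 2), (35, 20, 16, 2), (36, 52, 25, 2), (37, 48, 17, 2), (53, 8, 34, 2), (16, 37, 36, 2), (52, 35, 25, 2), (2, 52, 13, 2), (8, 53, 15, 2), (15, 44, 15, 2), (3, 38, 7, 2), (45, 17, 28, 2), (27, 52, 30, 2), (50, 52, 13, 2), (58, 38, 34, 2), (29, 41, 12, 2), (47, 52, 14, 2), (25, 25, 23, 2), (40, 35, 22, 2), (38, 8, 35, 2), (1, 37, 11, 2), (55, 58, 23, 2), (56, 52, 12, 1), (19, 25, 18, 2), (48, 38, 31, 2)]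

/-- row 8 of the certificate table -/
def r8 : List (ℕ × ℕ × ℕ × ℕ) := [(0, 8, 18, 2), (3, 40, 26, 2), (14, 51, 35, 2), (1, 40, 26, 2), (24, 51, 21, 2), (5, 51, 19, 2), (21, 7, 38, 2), (34, 25, 20, 2), (19, 12, 32, 2), (29, 31, 13, 2), (35, 26, 15, 2), (42, 23, 18, 2), (51, 40, 30, 2), (22, 51, 19, 2), (2, 51, 37, 2), (20, 51, 20, 2), (16, 5, 9, 2), (17, 38, 26, 2), (28, 17, 18, 2), (8, 12, 29, 2), (15, 51, 18, 2), (6, 7, 35, 2), (13, 51, 21, 2), (47, 37, 23, 2), (4, 51, 22, 2), (54, 35, 12, 2), (48, 10, 23, 2), (27, 3, 35, 2), (18, 17, 20, 2), (9, 31, 12, 2), (36, 51, 22, 2), (31, 13, 15, 2), (55, 51, 22, 2), (37, 37, 28, 2), (7, 25, 21, 2), (10, 26, 14, 2), (30, 51, 20, 2), (33, 37, 27, 2), (41, 35, 10, 2), (39, 9, 37, 2), (40, 6, 25, 2), (38, 35, 11, 2), (11, 23, 19, 2), (43, 11, 36, 2), (44, 53, 31, 2), (45, 50, 30, 2), (46, 41,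 28, 2), (23, 37, 23, 2), (26, 10, 20, 2), (49, 14, 23, 2), (56, 30, 21, 2), (12, 40, 31, 2), (53, 17, 13, 2), (52, 17, 16, 2), (25, 35, 14, 2), (32, 51, 24, 2), (50, 30, 17, 2), (57, 1, 20, 2), (58, 51, 31, 2)]

/-- row 9 of the certificate table -/
def r9 : List (ℕ × ℕ × ℕ × ℕ) := [(0, 9, 21, 2), (17, 50, 11, 2), (35, 56, 23, 2), (5, 48, 22, 2), (12, 19, 24, 2), (3, 48, 25, 2), (46, 32, 19, 2), (7, 47, 12, 2), (29, 56, 19, 2), (14, 43, 6, 2), (22, 50, 28, 2), (19, 50, 27, 2), (4, 19, 25, 2), (13, 50, 24, 2), (9, 43, 7, 2), (49, 49, 6, 0), (48, 49, 26, 2), (1, 50, 13, 2), (18, 13, 12, 2), (11, 50, 25, 2), (20, 8, 38, 2), (21, 50, 37, 2), (10, 50, 26, 2), (23, 55, 13, 2), (28, 32, 14, 2), (36, 50, 27, 2), (32, 44, 18, 2), (34, 50, 26, 2), (24, 32, 17, 2), (8, 56, 20, 2), (53, 6, 27, 2), (51, 30, 13, 2), (26, 44, 17, 2), (33, 1, 26,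 2), (27, 50, 24, 2), (2, 56, 21, 2), (25, 50, 25, 2), (37, 24, 35, 2), (55, 45, 33, 2), (52, 50, 26, 2), (47, 57, 15, 2), (41, 5, 11, 2), (42, 38, 27, 2), (50, 45, 8, 2), (54, 26, 26, 2), (45, 51, 28, 2), (6, 32, 21, 2), (40, 57, 16, 2), (16, 49, 30, 2), (15, 49, 1, 1), (43, 45, 5, 2), (31, 30, 12, 2), (39, 50, 25, 2), (30, 6, 24, 2), (44, 26, 27, 2), (38, 45, 33, 2), (56, 28, 29, 2), (57, 22, 22, 2), (58, 12, 33, 2)]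

/-- row 10 of the certificate table -/
def r10 : List (ℕ × ℕ × ℕ × ℕ) := [(0, 10, 20, 2), (3, 42, 22, 2), (56, 2, 29, 2), (1, 42, 25, 2), (25, 49, 22, 2), (30, 49, 23, 2), (22, 36, 15, 2), (18, 29, 13, 2), (45, 49, 24, 2), (10, 15, 2, 1), (9, 15, 5, 1), (33, 8, 19, 2), (12, 33, 32, 2), (53, 46, 23, 2), (44, 2, 25, 2), (49, 50, 3, 0), (48, 50, 28, 2), (17, 47, 25, 2), (7, 29, 12, 2), (19, 48, 8, 1), (20, 21, 11, 2), (21, 49, 21, 2), (6, 36, 18, 2), (58, 14, 21, 2), (24, 31, 17, 2), (4, 49, 20, 2), (51, 24, 15, 2), (27, 16, 22, 2), (28, 7, 30, 2), (42, 3, 16, 2), (5, 49, 24, 2), (57, 49, 21, 2), (47, 49, 37, 2), (11, 8, 23, 2), (34, 26, 39, 2), (52, 36, 22, 2), (36, 18, 28, 2), (41, 53, 11, 2), (46, 29, 16, 2), (39, 58, 38, 2), (54, 49, 24, 2), (37, 53, 8, 2), (29, 3, 17, 2), (43, 49, 33, 2), (14, 2, 25, 2), (8, 49, 22, 2), (38, 29,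 14, 2), (32, 49, 39, 2), (16, 50, 28, 2), (15, 50, 4, 1), (50, 37, 27, 2), (26, 24, 14, 2), (35, 36, 20, 2), (13, 46, 22, 2), (40, 49, 26, 2), (55, 22, 33, 2), (2, 2, 30, 2), (31, 49, 23, 2), (23, 14, 20, 2)]

/-- row 11 of the certificate table -/
def r11 : List (ℕ × ℕ × ℕ × ℕ) := [(0, 11, 29, 2), (1, 34, 34, 2), (2, 5, 19, 2), (5, 50, 23, 2), (11, 46, 11, 2), (3, 50, 24, 2), (6, 48, 13, 2), (21, 58, 31, 2), (49, 26, 21, 2), (10, 16, 31, 2), (9, 16, 29, 2), (4, 46, 14, 2), (12, 53, 31, 2), (39, 14, 5, 1), (38, 14, 9, 2), (15, 41, 17, 2), (16, 8, 37, 2), (32, 27, 31, 2), (54, 56, 28, 2), (19, 49, 10, 1), (56, 48, 31, 2), (7, 58, 34, 2), (22, 29, 20, 2), (51, 17, 20, 2), (44, 48, 35, 2), (25, 54, 12, 2), (58, 21, 25, 2), (30, 26, 23, 2), (57, 48, 31, 2), (29, 48, 30, 2), (27, 26, 25, 2), (31, 36, 13, 2), (17, 27, 32, 2), (35, 48, 33,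 2), (47, 48, 19, 2), (33, 48, 32, 2), (42, 16, 27, 2), (37, 52, 18, 2), (14, 14, 10, 2), (13, 14, 5, 1), (45, 48, 30, 2), (53, 55, 8, 2), (36, 16, 24, 2), (52, 39, 30, 2), (24, 48, 33, 2), (40, 48, 32, 2), (48, 55, 12, 2), (34, 48, 17, 2), (46, 55, 13, 2), (8, 26, 22, 2), (50, 40, 26, 2), (23, 17, 17, 2), (43, 39, 29, 2), (41, 55, 8, 2), (18, 56, 32, 2), (55, 23, 7, 0), (20, 48, 33, 2), (28, 48, 29, 2), (26, 21, 26, 2)]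

/-- row 12 of the certificate table -/
def r12 : List (ℕ × ℕ × ℕ × ℕ) := [(0, 12, 26, 2), (1, 9, 33, 2), (9, 40, 18, 2), (21, 47, 18, 2), (46, 5, 27, 2), (41, 26, 35, 2), (36, 47, 29, 2), (7, 50, 14, 2), (22, 23, 24, 2), (2, 40, 17, 2), (10, 32, 40, 2), (11, 34, 18, 2), (58, 18, 11, 2), (39, 15, 32, 2), (43, 17, 20, 2), (23, 39, 23, 2), (25, 45, 30, 2), (17, 49, 27, 2), (47, 1, 13, 2), (50, 55, 25, 2), (26, 26, 11, 2), (3, 47, 16, 2), (8, 23, 26, 2), (15, 39, 22, 2), (24, 37, 17, 2), (16, 45, 29, 2), (20, 26, 6, 2), (42, 55, 26, 2), (28, 47, 13, 2), (29, 43, 17, 2), (52, 47, 30, 2), (34, 1, 9, 2), (57, 23, 19, 2), (49, 47, 33, 2), (31, 1, 9, 2), (35, 46, 16, 2), (6, 47, 31, 2), (37, 47, 29, 2), (38, 16, 9, 2), (13, 15, 31, 2), (51, 8, 32, 2), (5, 26, 31, 2), (27, 55, 28, 2), (14, 17, 21, 2), (44, 21, 31, 2), (54, 47, 30, 2), (4, 5,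 30, 2), (18, 1, 10, 2), (53, 47, 30, 2), (33, 47, 31, 2), (19, 55, 24, 2), (40, 8, 29, 2), (30, 47, 31, 2), (48, 47, 32, 2), (45, 47, 32, 2), (55, 57, 34, 2), (56, 31, 32, 2), (32, 23, 22, 2), (12, 18, 12, 2)]

/-- row 13 of the certificate table -/
def r13 : List (ℕ × ℕ × ℕ × ℕ) := [(0, 13, 10, 2), (1, 15, 20, 2), (38, 38, 20, 2), (17, 46, 10, 2), (11, 48, 12, 2), (55, 35, 37, 2), (6, 54, 17, 2), (7, 27, 27, 2), (18, 46, 29, 2), (27, 6, 18, 2), (30, 38, 15, 2), (4, 48, 13, 2), (54, 4, 27, 2), (53, 49, 24, 2), (48, 20, 6, 1), (47, 20, 32, 2), (44, 35, 12, 2), (3, 46, 12, 2), (8, 46, 27, 2), (57, 31, 12, 2), (31, 57, 35, 2), (58, 46, 13, 2), (25, 43, 34, 2), (52, 46, 16, 2), (40, 30, 11, 2), (22, 43, 33, 2), (26, 45, 30, 2), (9, 6, 18, 2), (28, 8, 15, 2), (34, 46, 12, 2), (10, 38, 15, 2), (20, 57, 36, 2), (37, 34, 9, 2), (33, 40, 28,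 2), (29, 46, 14, 2), (35, 47, 18, 2), (39, 46, 13, 2), (32, 34, 13, 2), (2, 38, 19, 2), (36, 46, 14, 2), (24, 30, 10, 2), (41, 9, 12, 2), (42, 5, 23, 2), (43, 58, 36, 2), (16, 35, 10, 2), (45, 46, 40, 2), (49, 6, 23, 2), (15, 20, 31, 2), (14, 20, 4, 1), (46, 6, 22, 2), (50, 46, 23, 2), (51, 37, 22, 2), (23, 46, 14, 2), (13, 49, 21, 2), (12, 4, 30, 2), (5, 35, 34, 2), (56, 22, 29, 2), (19, 31, 15, 2), (21, 46, 11, 2)]

/-- row 14 of the certificate table -/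
def r14 : List (ℕ × ℕ × ℕ × ℕ) := [(0, 14, 26, 2), (36, 10, 21, 2), (49, 15, 26, 2), (3, 20, 14, 2), (23, 45, 28, 2), (5, 58, 9, 2), (29, 17, 22, 2), (42, 45, 29, 2), (9, 45, 27, 2), (8, 45, 29, 2), (10, 8, 23, 2), (11, 40, 33, 2), (12, 54, 31, 2), (13, 45, 39, 2), (48, 21, 11, 2), (15, 37, 34, 2), (25, 47, 31, 2), (47, 16, 22, 2), (18, 19, 10, 1), (32, 15, 24, 2), (46, 11, 5, 0), (45, 11, 9, 2), (40, 27, 14, 2), (4, 45, 30, 2), (24, 1, 16, 2), (16, 47, 28, 2), (26, 46, 28, 2), (30, 29, 28, 2), (28, 53, 17, 2), (6, 17, 20, 2), (27, 29, 29, 2), (31, 34, 15, 2), (19, 15, 21, 2), (54, 45, 14, 2), (44, 55, 26, 2), (41, 45, 26, 2), (1, 10, 20, 2), (57, 17, 18, 2), (55, 50, 31, 2), (58, 23, 25, 2), (22, 27, 17, 2), (35, 45, 28, 2), (7, 45, 30, 2), (50, 50, 7, 2), (34, 55, 27, 2), (21, 11, 10, 2), (20, 11, 5, 1), (17, 16, 23, 2), (14, 21,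 8, 2), (2, 15, 28, 2), (43, 50, 6, 2), (51, 57, 36, 2), (56, 45, 32, 2), (53, 45, 27, 2), (33, 45, 16, 2), (38, 50, 31, 2), (52, 45, 30, 2), (37, 17, 19, 2), (39, 23, 29, 2)]

/-- row 15 of the certificate table -/
def r15 : List (ℕ × ℕ × ℕ × ℕ) := [(0, 15, 28, 2), (22, 44, 32, 2), (2, 44, 31, 2), (25, 3, 8, 2), (14, 34, 25, 2), (28, 21, 29, 2), (8, 44, 33, 2), (21, 3, 4, 2), (6, 44, 32, 2), (33, 54, 27, 2), (57, 14, 26, 2), (11, 24, 34, 2), (38, 44, 32, 2), (24, 16, 11, 2), (4, 34, 24, 2), (43, 52, 13, 2), (16, 26, 6, 2), (56, 44, 33, 2), (18, 20, 11, 2), (23, 54, 28, 2), (46, 12, 32, 2), (7, 3, 8, 2), (1, 44, 34, 2), (19, 54, 30, 2), (13, 16, 11, 2), (3, 3, 13, 2), (32, 50, 19, 2), (40, 14, 24, 2), (5, 21, 32, 2), (29, 28, 18, 2), (30, 2, 19, 2), (34, 4, 34, 2), (26, 50, 20, 2), (9, 54, 26, 2), (31, 4, 33, 2), (35, 44, 15, 2), (36,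 17, 29, 2), (45, 44, 31, 2), (12, 44, 34, 2), (47, 36, 23, 2), (27, 14, 21, 2), (48, 44, 18, 2), (42, 40, 13, 2), (15, 52, 14, 2), (52, 16, 12, 2), (37, 44, 33, 2), (20, 12, 31, 2), (39, 36, 22, 2), (41, 44, 20, 2), (50, 10, 2, 0), (49, 10, 5, 0), (51, 39, 19, 2), (44, 16, 15, 2), (53, 33, 16, 2), (54, 27, 36, 2), (55, 41, 33, 2), (17, 44, 35, 2), (10, 14, 28, 2), (58, 13, 20, 2)]

/-- row 16 of the certificate table -/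
def r16 : List (ℕ × ℕ × ℕ × ℕ) := [(0, 16, 2, 2), (13, 43, 35, 2), (6, 21, 14, 2), (3, 26, 32, 2), (28, 43, 23, 2), (51, 43, 6, 2), (2, 21, 14, 2), (15, 15, 16, 2), (48, 43, 34, 2), (14, 50, 5, 2), (10, 43, 34, 2), (20, 52, 27, 2), (42, 14, 22, 2), (1, 43, 37, 2), (9, 50, 8, 2), (7, 15, 11, 2), (38, 24, 16, 2), (23, 11, 27, 2), (58, 3, 26, 2), (19, 18, 22, 2), (11, 52, 28, 2), (21, 12, 9, 2), (25, 46, 35, 2), (17, 11, 24, 2), (43, 21, 18, 2), (22, 46, 32, 2), (44, 43, 7, 2), (27, 22, 21, 2), (4, 43, 21, 2), (29, 47, 19, 2), (40, 43, 36, 2), (31, 41, 14, 2), (32, 10, 22, 2), (33, 23, 16, 2), (34, 17, 10, 0), (46, 15, 7, 2), (56, 34, 31, 2), (52, 20, 37, 2), (16, 24, 17, 2), (39, 28, 36, 2), (30, 43, 35, 2), (53, 1, 35, 2), (12, 14, 23, 2), (24, 21, 15, 2), (26, 43, 9, 2), (47, 34, 30, 2), (35, 15, 11, 2), (45, 34, 29, 2), (8, 43, 36,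 2), (50, 11, 31, 2), (49, 11, 29, 2), (5, 43, 8, 2), (37, 20, 36, 2), (41, 1, 34, 2), (54, 6, 23, 2), (55, 2, 8, 2), (36, 34, 33, 2), (57, 43, 18, 2), (18, 3, 25, 2)]

/-- row 17 of the certificate table -/
def r17 : List (ℕ × ℕ × ℕ × ℕ) := [(0, 17, 20, 2), (3, 49, 23, 2), (22, 14, 18, 2), (1, 49, 24, 2), (12, 27, 25, 2), (5, 2, 37, 2), (7, 8, 13, 2), (6, 8, 16, 2), (36, 11, 16, 2), (21, 42, 24, 2), (56, 29, 14, 2), (43, 36, 25, 2), (4, 27, 29, 2), (54, 42, 24, 2), (14, 7, 28, 2), (19, 42, 10, 2), (45, 12, 24, 2), (33, 55, 5, 2), (18, 42, 23, 2), (15, 42, 12, 2), (20, 42, 36, 2), (9, 42, 26, 2), (2, 14, 19, 2), (23, 15, 25, 2), (24, 6, 34, 2), (25, 16, 10, 1), (26, 57, 27, 2), (48, 27, 29, 2), (37, 31, 23, 2), (29, 35, 21, 2), (53, 14, 22, 2), (41, 8, 18, 2), (35, 42, 27, 2), (17, 55, 6, 2), (34, 18, 11, 2), (32, 42, 25, 2), (8, 11,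 17, 2), (28, 31, 26, 2), (51, 42, 23, 2), (58, 26, 32, 2), (40, 39, 26, 2), (31, 8, 20, 2), (55, 26, 4, 2), (11, 36, 26, 2), (44, 3, 32, 2), (16, 12, 21, 2), (46, 56, 11, 2), (49, 42, 26, 2), (27, 27, 34, 2), (47, 42, 24, 2), (50, 58, 12, 2), (38, 42, 25, 2), (57, 37, 12, 2), (30, 14, 20, 2), (13, 42, 25, 2), (42, 26, 7, 2), (10, 29, 15, 2), (52, 37, 11, 2), (39, 26, 32, 2)]

/-- row 18 of the certificate table -/
def r18 : List (ℕ × ℕ × ℕ × ℕ) := [(0, 18, 9, 2), (47, 12, 11, 2), (34, 41, 28, 2), (43, 1, 26, 2), (11, 53, 11, 2), (52, 29, 34, 2), (10, 37, 10, 2), (7, 2, 14, 2), (24, 38, 8, 2), (54, 41, 12, 2), (6, 37, 9, 2), (4, 53, 9, 2), (33, 5, 32, 2), (50, 41, 13, 2), (14, 35, 28, 2), (15, 48, 19, 2), (58, 53, 36, 2), (51, 31, 17, 2), (28, 27, 23, 2), (45, 41, 11, 0), (44, 41, 12, 2), (35, 55, 32, 2), (38, 41, 11, 2), (23, 10, 27,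 2), (8, 38, 12, 2), (25, 17, 11, 2), (26, 41, 39, 2), (41, 31, 21, 2), (18, 27, 20, 2), (49, 52, 14, 2), (39, 39, 19, 2), (31, 43, 16, 2), (37, 39, 14, 2), (12, 5, 34, 2), (2, 41, 26, 2), (21, 55, 33, 2), (36, 26, 29, 2), (32, 39, 14, 2), (22, 41, 13, 2), (30, 39, 18, 2), (40, 16, 22, 2), (27, 31, 22, 2), (42, 41, 22, 2), (3, 1, 29, 2), (20, 41, 10, 2), (19, 41, 9, 1), (46, 51, 26, 2), (1, 12, 12, 2), (56, 5, 31, 2), (29, 52, 11, 2), (13, 41, 15, 2), (17, 31, 17, 2), (5, 29, 35, 2), (53, 56, 17, 2), (9, 41, 13, 2), (55, 44, 35, 2), (48, 5, 30, 2), (57, 24, 21, 2), (16, 53, 33, 2)]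

/-- row 19 of the certificate table -/
def r19 : List (ℕ × ℕ × ℕ × ℕ) := [(0, 19, 19, 2), (3, 51, 24, 2), (9, 47, 15, 2), (1, 51, 28, 2), (26, 3, 23, 2), (5, 40, 35, 2), (6, 31, 33, 2), (24, 52, 22, 2), (53, 40, 26, 2), (2, 47, 16, 2), (10, 54, 25, 2), (11, 45, 31, 2), (51, 51, 33, 2), (29, 24, 11, 2), (32, 22, 14, 2), (45, 27, 22, 2), (16, 30, 36, 2), (20, 40, 23, 2), (43, 40, 23, 2), (23, 58, 4, 2), (17, 40, 25, 2), (21, 4, 38, 2), (22, 53, 20, 2), (19, 58, 5, 2), (7, 52, 25, 2), (52, 2, 19, 2), (4, 3, 20, 2), (56, 40, 23, 2), (37, 33, 19, 2), (13, 24, 10, 2), (35, 33, 17, 2), (46, 2, 12, 2), (14, 22, 13, 2), (33, 46, 27, 2), (34, 40, 22, 2), (30, 33, 18, 2), (36, 29, 26, 2), (28, 33, 21, 2), (38, 34, 10, 2), (57, 40, 22, 2), (58, 36, 3, 2), (41, 14, 10, 0), (42, 44, 11, 2), (18, 40, 24, 2), (54, 36, 31, 2), (15, 27, 23, 2), (31,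 2, 15, 2), (55, 9, 24, 2), (49, 40, 9, 1), (48, 40, 11, 1), (50, 48, 24, 2), (12, 51, 28, 2), (25, 2, 17, 2), (8, 40, 24, 2), (44, 36, 31, 2), (47, 9, 25, 2), (27, 40, 25, 2), (39, 40, 24, 2), (40, 36, 6, 2)]

/-- row 20 of the certificate table -/
def r20 : List (ℕ × ℕ × ℕ × ℕ) := [(0, 20, 4, 2), (10, 39, 38, 2), (6, 25, 10, 2), (55, 39, 9, 2), (53, 4, 13, 2), (35, 39, 25, 2), (2, 25, 9, 2), (22, 16, 37, 2), (50, 39, 38, 2), (9, 52, 24, 2), (1, 39, 36, 2), (45, 13, 6, 1), (44, 13, 32, 2), (13, 36, 12, 2), (36, 58, 26, 2), (23, 47, 24, 2), (31, 39, 37, 2), (33, 58, 33, 2), (20, 30, 19, 2), (19, 57, 23, 2), (18, 30, 18, 2), (49, 39, 8, 2), (7, 16, 36, 2), (15, 47, 25, 2), (24, 7, 16, 2), (58, 6, 30, 2), (47, 33, 7, 2), (27, 39, 20, 2), (29, 4, 13, 2), (28, 4, 9, 2), (39, 41, 20, 2), (16, 39, 39, 2), (37, 41, 16, 2), (17, 58, 31, 2),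 (34, 35, 9, 2), (5, 39, 23, 2), (14, 58, 29, 2), (32, 41, 16, 2), (38, 37, 25, 2), (30, 41, 17, 2), (40, 42, 24, 2), (41, 15, 11, 2), (42, 39, 36, 2), (52, 48, 27, 2), (12, 13, 31, 2), (11, 13, 4, 0), (57, 28, 34, 2), (26, 33, 10, 2), (48, 3, 34, 2), (21, 39, 10, 2), (8, 39, 37, 2), (51, 44, 21, 2), (43, 48, 28, 2), (4, 4, 18, 2), (54, 32, 10, 2), (3, 39, 11, 2), (56, 14, 18, 2), (46, 28, 37, 2), (25, 6, 29, 2)]

/-- row 21 of the certificate table -/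
def r21 : List (ℕ × ℕ × ℕ × ℕ) := [(0, 21, 5, 2), (33, 11, 25, 2), (38, 46, 21, 2), (44, 52, 5, 2), (40, 38, 39, 2), (6, 38, 9, 1), (5, 38, 11, 0), (51, 53, 35, 2), (24, 41, 11, 2), (14, 55, 34, 2), (30, 46, 17, 2), (45, 14, 11, 2), (43, 38, 10, 2), (21, 2, 20, 2), (9, 55, 32, 2), (15, 12, 35, 2), (35, 16, 14, 2), (17, 51, 24, 2), (18, 22, 10, 2), (25, 38, 11, 2), (22, 38, 26, 2), (13, 2, 19, 2), (20, 38, 24, 2), (32, 38, 38, 2), (8, 41, 10, 2), (19, 38, 9, 2), (56, 55, 30, 2), (27, 58, 22, 2), (29, 5, 9, 0), (28, 5, 8, 1), (10, 46, 17, 2), (54, 15, 29, 2), (23, 38, 39, 2), (1, 11, 26, 2), (34, 30, 26, 2), (16, 16, 19, 2), (36, 31, 25, 2), (37, 28, 17, 2), (2, 46, 18, 2), (39, 10, 11, 2), (4, 38, 37, 2), (55, 24, 31, 2), (42, 50, 25, 2), (12, 38, 12, 2), (3, 52, 7, 2), (11, 14, 8, 2), (46, 1, 12, 2), (47, 56, 19, 2), (58, 52, 33, 2),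 (49, 38, 21, 2), (50, 38, 37, 2), (7, 53, 38, 2), (52, 26, 13, 2), (57, 16, 14, 2), (31, 15, 28, 2), (41, 24, 30, 2), (26, 55, 27, 2), (53, 16, 10, 2), (48, 52, 32, 2)]

/-- row 22 of the certificate table -/
def r22 : List (ℕ × ℕ × ℕ × ℕ) := [(0, 22, 13, 2), (54, 52, 13, 2), (2, 9, 18, 2), (3, 13, 30, 2), (4, 10, 33, 2), (34, 54, 16, 2), (10, 41, 7, 2), (11, 37, 18, 2), (22, 33, 28, 2), (35, 37, 32, 2), (6, 41, 8, 2), (7, 37, 16, 2), (12, 37, 29, 2), (25, 32, 11, 2), (42, 57, 19, 2), (15, 45, 32, 2), (39, 52, 38, 2), (28, 28, 27, 2), (20, 32, 15, 2), (26, 28, 22, 2), (18, 32, 13, 2), (31, 37, 18, 2), (8, 33, 27, 2), (47, 51, 25, 2), (24, 47, 19, 2), (13, 32, 12, 2), (19, 28, 18, 2), (45, 19, 14, 2), (17, 28, 22, 2), (48, 37, 17, 2), (30, 23, 34, 2), (21, 37, 20, 2), (32, 16, 21, 2), (37, 51, 29, 2), (5, 54, 19, 2), (9, 37, 34, 2),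 (49, 53, 16, 2), (33, 51, 26, 2), (38, 39, 27, 2), (16, 52, 35, 2), (53, 37, 19, 2), (41, 21, 14, 2), (14, 57, 18, 2), (46, 34, 34, 2), (44, 58, 33, 2), (27, 19, 17, 2), (43, 34, 33, 2), (23, 51, 25, 2), (29, 37, 19, 2), (36, 53, 17, 2), (50, 49, 25, 2), (51, 46, 20, 2), (57, 42, 9, 2), (40, 37, 17, 2), (1, 52, 11, 2), (56, 37, 17, 2), (55, 37, 18, 2), (52, 42, 10, 2), (58, 37, 16, 2)]

/-- row 23 of the certificate table -/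
def r23 : List (ℕ × ℕ × ℕ × ℕ) := [(0, 23, 24, 2), (20, 14, 29, 2), (27, 12, 19, 2), (23, 5, 6, 2), (4, 11, 7, 1), (36, 56, 7, 2), (22, 49, 16, 2), (7, 36, 25, 2), (8, 30, 21, 2), (9, 25, 26, 2), (41, 36, 28, 2), (43, 42, 27, 2), (12, 6, 32, 2), (13, 39, 13, 2), (49, 1, 21, 2), (42, 36, 26, 2), (25, 56, 32, 2), (48, 8, 18, 2), (33, 36, 30, 2), (30, 36, 27, 2), (1, 14, 26, 2), (28, 36, 26, 2), (6, 49, 17, 2), (3, 5, 9, 2), (57, 35, 27, 2), (16, 56, 32, 2), (26, 16, 12, 2), (2, 12, 22, 2), (21, 36, 24, 2), (29, 22, 34, 2), (19, 36, 25, 2), (31, 48, 14, 2), (53, 57, 15, 2), (18, 36, 28, 2), (34, 36, 37, 2), (52, 49, 18, 2), (5, 56, 8, 2), (51, 12, 24, 2), (38, 27, 37, 2), (47, 44, 24, 2), (58, 40, 4, 2), (10, 36, 27, 2), (15, 36, 28, 2), (11, 42, 23, 2), (54, 40, 29, 2), (45, 55, 29, 2), (46, 7, 15, 2), (39, 44, 25, 2), (17, 8, 19, 2),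 (14, 1, 20, 2), (55, 36, 12, 2), (37, 12, 26, 2), (35, 49, 20, 2), (32, 57, 12, 2), (44, 40, 29, 2), (50, 36, 14, 2), (56, 32, 31, 2), (24, 35, 26, 2), (40, 40, 5, 2)]

/-- row 24 of the certificate table -/
def r24 : List (ℕ × ℕ × ℕ × ℕ) := [(0, 24, 14, 2), (45, 35, 14, 2), (2, 18, 21, 2), (9, 2, 22, 2), (18, 21, 31, 2), (55, 46, 36, 2), (42, 35, 31, 2), (39, 35, 17, 2), (33, 10, 15, 2), (3, 2, 22, 2), (23, 52, 19, 2), (11, 33, 32, 2), (13, 35, 17, 2), (12, 35, 18, 2), (14, 41, 27, 2), (15, 35, 15, 2), (44, 46, 8, 2), (17, 32, 26, 2), (4, 21, 34, 2), (26, 30, 19, 2), (20, 5, 24, 2), (43, 16, 16, 2), (22, 9, 31, 2), (10, 52, 19, 2), (57, 36, 28, 2), (54, 51, 16, 2), (19, 30, 16, 2), (28, 34, 9, 0), (27, 34, 8, 1), (29, 42, 19, 2), (46, 19, 11, 2), (49, 35, 18, 2), (50, 31, 17, 2), (8, 10, 14, 2), (34, 39, 11, 2), (36, 2, 27, 2), (35,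 2, 26, 2), (47, 35, 18, 2), (41, 51, 9, 2), (7, 35, 15, 2), (52, 52, 24, 2), (38, 51, 12, 2), (6, 35, 33, 2), (21, 16, 17, 2), (16, 46, 10, 2), (1, 35, 16, 2), (30, 19, 10, 2), (37, 35, 20, 2), (48, 15, 34, 2), (31, 35, 16, 2), (32, 31, 13, 2), (51, 55, 22, 2), (40, 52, 23, 2), (53, 3, 16, 2), (25, 51, 14, 2), (5, 46, 35, 2), (56, 35, 27, 2), (24, 36, 25, 2), (58, 27, 33, 2)]

/-- row 25 of the certificate table -/
def r25 : List (ℕ × ℕ × ℕ × ℕ) := [(0, 25, 6, 2), (1, 48, 36, 2), (40, 7, 18, 2), (44, 56, 9, 2), (14, 44, 26, 2), (22, 5, 15, 2), (39, 1, 30, 2), (7, 4, 13, 2), (34, 7, 22, 2), (9, 27, 25, 2), (33, 34, 40, 2), (11, 47, 20, 2), (58, 31, 6, 2), (13, 29, 11, 2), (4, 44, 27, 2), (55, 31, 34, 2), (42, 34, 11, 0), (41, 34, 12, 2), (18, 2, 27, 2), (19, 34, 22, 2), (24, 34, 10, 2), (29, 34, 27, 2), (5, 5, 20, 2), (23, 34, 38, 2),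 (20, 34, 12, 2), (52, 8, 20, 2), (26, 6, 26, 2), (28, 35, 10, 1), (27, 35, 7, 1), (21, 34, 25, 2), (30, 53, 18, 2), (31, 45, 14, 2), (37, 46, 12, 2), (10, 34, 39, 2), (8, 7, 19, 2), (51, 5, 15, 2), (56, 43, 35, 2), (32, 46, 11, 2), (38, 40, 12, 2), (6, 1, 29, 2), (2, 7, 18, 2), (17, 34, 10, 2), (16, 34, 9, 1), (46, 37, 31, 2), (3, 56, 12, 2), (47, 43, 31, 2), (43, 37, 32, 2), (45, 43, 28, 2), (54, 34, 11, 2), (49, 55, 23, 2), (50, 23, 26, 2), (35, 5, 11, 2), (25, 8, 21, 2), (57, 20, 10, 2), (48, 34, 13, 2), (15, 31, 33, 2), (36, 43, 33, 2), (53, 20, 9, 2), (12, 31, 8, 2)]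

/-- row 26 of the certificate table -/
def r26 : List (ℕ × ℕ × ℕ × ℕ) := [(0, 26, 23, 2), (20, 17, 32, 2), (2, 30, 37, 2), (40, 55, 20, 2), (17, 17, 8, 2), (15, 9, 26, 2), (34, 33, 27, 2), (7, 21, 13, 2), (22, 37, 29, 2), (58, 33, 27, 2), (51, 11, 21, 2), (11, 35, 31, 2), (12, 49, 30, 2), (19, 33, 26, 2), (14, 54, 15, 2), (5, 9, 27, 2), (36, 33, 13, 2), (4, 17, 3, 2), (54, 12, 35, 2), (13, 33, 28, 2), (1, 17, 28, 2), (48, 1, 27, 2), (8, 37, 26, 2), (23, 18, 29, 2), (49, 8, 15, 2), (25, 10, 40, 2), (47, 39, 8, 2), (27, 57, 24, 2), (37, 40, 23, 2), (32, 11, 23, 2), (35, 40, 16, 2), (31, 33, 26, 2), (29, 11, 25, 2), (39, 12, 7, 2), (6, 33, 28, 2), (30, 40, 19, 2), (16, 33, 15, 2), (28, 40, 21, 2), (55, 3, 29, 2), (33, 12, 10, 2), (3, 55, 19, 2), (41, 33, 39, 2), (57, 33, 30, 2), (43, 15, 6, 2), (50, 27, 18, 2), (46, 33, 27, 2), (45,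 33, 29, 2), (26, 39, 9, 2), (21, 1, 24, 2), (24, 8, 14, 2), (44, 27, 17, 2), (10, 11, 22, 2), (52, 31, 14, 2), (53, 44, 14, 2), (18, 12, 35, 2), (38, 3, 28, 2), (56, 16, 28, 2), (42, 33, 28, 2), (9, 33, 29, 2)]

/-- row 27 of the certificate table -/
def r27 : List (ℕ × ℕ × ℕ × ℕ) := [(0, 27, 17, 2), (1, 24, 34, 2), (23, 53, 11, 2), (51, 32, 36, 2), (4, 32, 33, 2), (5, 15, 36, 2), (46, 50, 19, 2), (30, 32, 22, 2), (8, 55, 23, 2), (15, 26, 18, 2), (10, 47, 38, 2), (32, 17, 33, 2), (36, 57, 20, 2), (25, 37, 10, 2), (44, 19, 22, 2), (9, 26, 21, 2), (49, 32, 23, 2), (17, 35, 24, 2), (20, 37, 15, 2), (37, 14, 14, 2), (18, 37, 17, 2), (21, 23, 37, 2), (43, 32, 22, 2), (2, 53, 12, 2), (28, 50, 15, 2), (13, 37, 13, 2), (48, 29, 26, 2), (42, 11, 31, 2), (24, 50, 16, 2), (45, 29, 26, 2), (7, 32, 24, 2), (41, 18, 23, 2), (11, 17, 30, 2), (57,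 32, 23, 2), (35, 31, 9, 1), (34, 31, 8, 0), (12, 57, 21, 2), (19, 14, 13, 2), (58, 32, 21, 2), (39, 32, 20, 2), (40, 3, 22, 2), (31, 18, 20, 2), (27, 11, 32, 2), (22, 32, 20, 2), (14, 19, 23, 2), (29, 29, 31, 2), (6, 50, 17, 2), (55, 17, 29, 2), (26, 29, 22, 2), (16, 32, 21, 2), (50, 25, 25, 2), (3, 32, 38, 2), (52, 13, 31, 2), (53, 7, 18, 2), (54, 39, 8, 2), (47, 17, 29, 2), (56, 36, 29, 2), (33, 32, 21, 2), (38, 32, 22, 2)]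

/-- row 28 of the certificate table -/
def r28 : List (ℕ × ℕ × ℕ × ℕ) := [(0, 28, 10, 2), (54, 58, 13, 2), (13, 20, 34, 2), (3, 9, 29, 2), (39, 30, 10, 2), (38, 30, 9, 0), (6, 40, 31, 2), (49, 31, 31, 2), (46, 31, 16, 2), (29, 51, 14, 2), (10, 57, 22, 2), (23, 31, 14, 2), (58, 34, 10, 2), (2, 20, 33, 2), (25, 31, 13, 2), (55, 34, 35, 2), (18, 31, 15, 2), (51, 41, 15, 2), (16, 31, 17, 2), (57, 46, 13, 2), (20, 16, 40, 2), (44, 54, 30, 2), (22, 21, 17, 2), (11, 31, 15, 2), (24, 49, 15, 2), (14, 31, 15, 2), (26, 31, 26, 2), (41, 41, 24, 2), (37, 42, 24, 2), (9, 51, 11, 2), (30, 15, 18, 2), (42, 22, 23, 2), (50, 35, 15, 2), (40, 22, 22, 2), (35, 32, 6, 1), (34, 32, 7, 1), (36, 38, 27, 2), (28, 42, 25, 2), (5, 30, 8, 0), (4, 30, 12, 2), (33, 22, 22, 2), (27, 41, 19, 2), (31, 22, 26, 2), (43, 55, 24, 2), (21, 54, 31, 2), (53, 31, 16, 2),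 (8, 31, 14, 2), (47, 31, 13, 2), (48, 2, 30, 2), (7, 31, 29, 2), (32, 35, 16, 2), (17, 41, 19, 2), (52, 33, 16, 2), (45, 31, 14, 2), (1, 58, 16, 2), (15, 34, 32, 2), (56, 47, 30, 2), (19, 46, 14, 2), (12, 34, 8, 2)]

/-- row 29 of the certificate table -/
def r29 : List (ℕ × ℕ × ℕ × ℕ) := [(0, 29, 14, 2), (1, 3, 33, 2), (2, 33, 35, 2), (49, 17, 18, 2), (39, 31, 14, 2), (38, 31, 10, 1), (25, 30, 21, 2), (54, 18, 34, 2), (8, 36, 19, 2), (53, 53, 28, 2), (10, 5, 22, 2), (33, 27, 26, 2), (12, 52, 31, 2), (21, 10, 16, 2), (30, 27, 30, 2), (57, 30, 20, 2), (16, 40, 34, 2), (45, 53, 23, 2), (20, 39, 20, 2), (26, 35, 18, 2), (18, 39, 17, 2), (13, 10, 14, 2), (36, 30, 35, 2), (23, 19, 26, 2), (40, 46, 8, 2), (6, 30, 19, 2), (19, 35, 17, 2), (27, 7, 21, 2), (44, 30, 19, 2), (32, 14, 28, 2), (14, 27, 27, 2), (51, 50, 10, 2), (29, 14, 29, 2),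 (11, 27, 26, 2), (34, 38, 28, 2), (42, 30, 18, 2), (22, 30, 33, 2), (37, 11, 20, 2), (5, 31, 7, 1), (4, 31, 12, 2), (24, 46, 9, 2), (52, 10, 13, 2), (35, 30, 20, 2), (47, 30, 18, 2), (28, 30, 17, 2), (17, 53, 19, 2), (46, 25, 15, 2), (43, 30, 19, 2), (48, 30, 30, 2), (3, 17, 15, 2), (56, 51, 19, 2), (31, 50, 11, 2), (41, 10, 12, 2), (9, 53, 23, 2), (7, 18, 35, 2), (55, 30, 17, 2), (50, 51, 20, 2), (15, 30, 18, 2), (58, 55, 5, 0)]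

/-- row 30 of the certificate table -/
def r30 : List (ℕ × ℕ × ℕ × ℕ) := [(0, 30, 16, 2), (1, 4, 7, 0), (44, 29, 20, 2), (9, 8, 18, 2), (4, 29, 17, 2), (52, 41, 33, 2), (50, 6, 25, 2), (18, 49, 14, 2), (28, 9, 13, 2), (3, 8, 21, 2), (56, 42, 17, 2), (11, 29, 29, 2), (16, 29, 18, 2), (13, 34, 13, 2), (42, 6, 21, 2), (31, 29, 19, 2), (12, 29, 16, 2), (24, 29, 18, 2), (7, 49, 11, 2), (35, 13, 11, 2), (55, 28, 10, 2), (54, 28, 9, 1), (22, 48, 18, 2), (37, 29, 35, 2), (17, 29, 20, 2), (25, 21, 26, 2), (48, 32, 24, 2), (30, 45, 27, 2), (8, 9, 12, 2), (45, 32, 29, 2), (27, 45, 30, 2), (15, 29, 20, 2), (32, 52, 23, 2), (40, 24, 15, 2), (53, 29, 17, 2), (19, 13, 10, 2), (36, 40, 28, 2), (23, 29, 33, 2), (46, 49, 16, 2), (41, 20, 19, 2), (33, 24, 19, 2), (39, 20, 18, 2), (14, 6, 21, 2), (43, 19, 35, 2), (2, 29, 22, 2), (29, 32, 28, 2), (38,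 49, 18, 2), (47, 7, 29, 2), (26, 32, 24, 2), (49, 54, 24, 2), (6, 6, 26, 2), (51, 23, 21, 2), (5, 41, 36, 2), (34, 29, 19, 2), (21, 28, 8, 1), (20, 28, 12, 2), (10, 42, 16, 2), (57, 26, 33, 2), (58, 56, 34, 2)]

/-- row 31 of the certificate table -/
def r31 : List (ℕ × ℕ × ℕ × ℕ) := [(0, 31, 12, 2), (47, 25, 6, 2), (40, 13, 15, 2), (3, 12, 32, 2), (44, 25, 34, 2), (58, 1, 14, 2), (14, 28, 16, 2), (7, 26, 14, 2), (42, 18, 17, 2), (27, 24, 14, 2), (52, 28, 31, 2), (11, 57, 31, 2), (12, 28, 13, 2), (51, 28, 16, 2), (6, 28, 18, 2), (38, 5, 29, 2), (16, 4, 22, 2), (28, 37, 24, 2), (32, 18, 21, 2), (26, 37, 20, 2), (55, 29, 14, 2), (54, 29, 10, 0), (31, 17, 23, 2), (23, 21, 25, 2), (25, 27, 9, 1), (24, 27, 8, 1), (19, 37, 20, 2), (9, 24, 17, 2), (17, 37, 25, 2), (29, 44, 20, 2), (50, 8, 13, 2), (22, 17, 26, 2), (18, 18, 22, 2), (33, 28,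 25, 2), (45, 28, 16, 2), (35, 10, 17, 2), (48, 28, 14, 2), (37, 38, 19, 2), (15, 5, 32, 2), (39, 43, 38, 2), (2, 13, 11, 2), (43, 28, 15, 2), (8, 18, 17, 2), (41, 28, 13, 2), (4, 25, 33, 2), (34, 28, 15, 2), (57, 39, 35, 2), (1, 25, 8, 2), (36, 28, 12, 2), (49, 2, 24, 2), (30, 8, 12, 2), (13, 28, 14, 2), (10, 28, 29, 2), (53, 19, 29, 2), (21, 29, 7, 0), (20, 29, 12, 2), (56, 50, 30, 2), (46, 39, 36, 2), (5, 1, 15, 2)]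

/-- row 32 of the certificate table -/
def r32 : List (ℕ × ℕ × ℕ × ℕ) := [(0, 32, 19, 2), (21, 27, 21, 2), (26, 27, 23, 2), (3, 23, 31, 2), (12, 42, 27, 2), (5, 20, 10, 2), (6, 52, 16, 2), (7, 46, 29, 2), (56, 27, 36, 2), (9, 34, 27, 2), (43, 27, 23, 2), (33, 30, 24, 2), (4, 42, 27, 2), (53, 9, 19, 2), (30, 30, 29, 2), (45, 40, 21, 2), (37, 27, 22, 2), (32, 48, 30, 2), (28, 41, 22, 2), (19, 56, 24, 2), (20, 27, 20, 2), (1, 27, 19, 2), (40, 45, 15, 2), (47, 2, 22, 2), (25, 28, 10, 0), (24, 28, 7, 1), (2, 27, 21, 2), (48, 42, 32, 2), (18, 41, 21, 2), (52, 27, 22, 2), (14, 30, 28, 2), (35, 9, 14, 2), (17, 48, 33, 2), (11, 30, 24, 2), (46, 22, 11, 2), (31, 9, 17, 2), (57, 6, 14, 2), (16, 27, 23, 2), (38, 36, 38, 2), (41, 22, 15, 2), (22, 45, 16, 2), (39, 22, 13, 2), (42, 24, 26, 2), (10, 27, 25, 2), (50, 33, 19, 2), (15, 40, 24, 2), (34,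 22, 12, 2), (23, 2, 18, 2), (27, 42, 31, 2), (49, 12, 36, 2), (44, 33, 20, 2), (51, 4, 21, 2), (29, 27, 20, 2), (13, 9, 21, 2), (54, 44, 37, 2), (55, 27, 32, 2), (8, 27, 38, 2), (36, 6, 13, 2), (58, 35, 32, 2)]

/-- row 33 of the certificate table -/
def r33 : List (ℕ × ℕ × ℕ × ℕ) := [(0, 33, 25, 2), (50, 26, 27, 2), (17, 26, 26, 2), (3, 43, 30, 2), (21, 56, 30, 2), (41, 47, 33, 2), (6, 15, 15, 2), (7, 28, 16, 2), (49, 48, 20, 2), (15, 32, 19, 2), (35, 51, 16, 2), (38, 58, 26, 2), (33, 20, 7, 2), (14, 26, 31, 2), (13, 26, 29, 2), (9, 32, 20, 2), (16, 44, 8, 2), (2, 26, 28, 2), (18, 26, 38, 2), (56, 4, 21, 2), (26, 47, 8, 2), (4, 56, 27, 2), (31, 19, 19, 2), (43, 26, 13, 2), (29, 19, 17, 2), (53, 26, 27, 2), (20, 47, 9, 2), (30, 48, 27, 2), (28, 26, 26, 2), (24, 19, 18, 2), (27, 48, 25, 2), (22, 19, 21, 2), (32, 2, 22, 2), (12, 20,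 10, 2), (34, 49, 38, 2), (10, 51, 13, 2), (36, 41, 27, 2), (51, 22, 28, 2), (11, 58, 25, 2), (58, 42, 30, 2), (46, 26, 29, 2), (5, 47, 33, 2), (55, 42, 5, 2), (23, 26, 15, 2), (54, 50, 28, 2), (45, 5, 13, 2), (40, 26, 28, 2), (47, 10, 32, 2), (48, 24, 33, 2), (8, 48, 23, 2), (1, 26, 29, 2), (37, 22, 27, 2), (52, 38, 14, 2), (25, 26, 25, 2), (44, 50, 24, 2), (42, 42, 6, 2), (19, 4, 22, 2), (57, 29, 35, 2), (39, 42, 30, 2)]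

/-- row 34 of the certificate table -/
def r34 : List (ℕ × ℕ × ℕ × ℕ) := [(0, 34, 8, 2), (47, 28, 10, 2), (6, 39, 7, 2), (23, 16, 31, 2), (44, 28, 35, 2), (11, 25, 11, 2), (2, 39, 11, 2), (34, 51, 19, 2), (24, 54, 13, 2), (9, 36, 28, 2), (10, 4, 21, 2), (5, 25, 9, 2), (14, 16, 30, 2), (16, 22, 34, 2), (12, 16, 29, 2), (56, 3, 10, 2), (13, 22, 33, 2), (43, 25, 11, 1), (42, 25, 12, 2), (57, 52, 16, 2), (53, 58, 31, 2), (21, 19, 10, 2), (27, 13, 13, 2), (3, 16, 33, 2), (8, 54, 13, 2), (51, 52, 21, 2), (49, 25, 37, 2), (22, 13, 10, 2), (28, 14, 16, 2), (29, 6, 20, 2), (38, 25, 27, 2), (32, 24, 9, 1), (31, 24, 8, 1), (33, 53, 27, 2), (7, 51, 22, 2), (39, 25, 10, 2), (36, 25, 38, 2), (54, 54, 18, 2), (30, 25, 25, 2), (35, 25, 12, 2), (40, 25, 21, 2), (41, 57, 25, 2), (18, 25, 14, 2), (17, 25, 12, 0), (4, 28, 32, 2), (55, 15, 25, 2), (46,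 30, 13, 2), (1, 28, 8, 2), (48, 12, 18, 2), (26, 25, 39, 2), (50, 32, 26, 2), (25, 52, 20, 2), (52, 55, 15, 2), (20, 58, 32, 2), (37, 54, 17, 2), (45, 15, 28, 2), (15, 3, 11, 2), (19, 52, 16, 2), (58, 11, 34, 2)]

/-- row 35 of the certificate table -/
def r35 : List (ℕ × ℕ × ℕ × ℕ) := [(0, 35, 12, 2), (1, 32, 32, 2), (35, 23, 27, 2), (3, 24, 28, 2), (54, 13, 37, 2), (34, 8, 12, 2), (6, 56, 18, 2), (19, 7, 21, 2), (8, 4, 20, 2), (27, 28, 15, 2), (28, 24, 18, 2), (11, 44, 32, 2), (22, 24, 18, 2), (29, 40, 8, 2), (58, 24, 17, 2), (43, 13, 12, 2), (38, 43, 15, 2), (53, 24, 31, 2), (21, 8, 10, 2), (7, 7, 26, 2), (52, 24, 17, 2), (18, 8, 11, 2), (12, 24, 16, 2), (24, 57, 28, 2), (23, 57, 25, 2), (25, 20, 13, 2), (51, 49, 16, 2), (9, 28, 16, 2), (10, 24, 16, 2), (13, 40, 9, 2), (30, 17, 17, 2), (32, 25, 6, 1), (31, 25, 7, 0), (40, 29, 18,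 2), (5, 8, 14, 2), (2, 23, 26, 2), (49, 7, 17, 2), (37, 50, 33, 2), (16, 43, 18, 2), (39, 54, 26, 2), (33, 29, 17, 2), (55, 38, 32, 2), (42, 27, 24, 2), (15, 13, 10, 2), (44, 24, 15, 2), (45, 18, 29, 2), (47, 24, 17, 2), (46, 24, 15, 2), (48, 26, 31, 2), (36, 7, 21, 2), (56, 57, 24, 2), (26, 49, 13, 2), (20, 24, 19, 2), (17, 24, 33, 2), (4, 13, 34, 2), (41, 38, 33, 2), (50, 57, 24, 2), (57, 41, 19, 2), (14, 24, 16, 2)]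

/-- row 36 of the certificate table -/
def r36 : List (ℕ × ℕ × ℕ × ℕ) := [(0, 36, 22, 2), (19, 19, 7, 2), (35, 24, 28, 2), (3, 27, 29, 2), (9, 23, 12, 2), (15, 19, 27, 2), (27, 2, 14, 2), (24, 10, 22, 2), (22, 47, 24, 2), (4, 23, 14, 2), (45, 58, 18, 2), (42, 51, 17, 2), (20, 15, 23, 2), (13, 52, 13, 2), (14, 4, 27, 2), (5, 19, 31, 2), (48, 17, 25, 2), (44, 23, 26, 2), (49, 23, 25, 2), (1, 19, 2, 2), (12, 15, 26, 2), (21, 32, 39, 2), (8, 47, 22, 2), (54, 3, 6, 2), (7, 10, 20, 2), (25, 23, 38, 2), (41, 23, 26, 2), (6, 2, 13, 2), (28, 11, 13, 2), (40, 23, 27, 2), (30, 37, 36, 2), (38, 23, 26, 2), (57, 47, 20, 2), (33, 43, 14, 2), (43, 3, 34, 2), (2, 24, 25, 2), (56, 54, 7, 2), (53, 10, 15, 2), (31, 23, 27, 2), (58, 45, 28, 2), (29, 23, 29, 2), (26, 23, 28, 2), (11, 51, 16, 2), (34, 3, 34, 2), (17, 23, 28, 2), (10, 58, 19, 2), (46, 20,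 12, 2), (47, 53, 30, 2), (16, 17, 26, 2), (18, 23, 27, 2), (50, 34, 28, 2), (51, 29, 23, 2), (52, 23, 25, 2), (37, 10, 18, 2), (23, 3, 9, 2), (55, 48, 5, 1), (36, 54, 8, 2), (32, 47, 21, 2), (39, 45, 27, 2)]

/-- row 37 of the certificate table -/
def r37 : List (ℕ × ℕ × ℕ × ℕ) := [(0, 37, 15, 2), (1, 22, 16, 2), (7, 17, 12, 2), (4, 22, 17, 2), (3, 22, 15, 2), (58, 7, 9, 2), (19, 22, 19, 2), (2, 17, 11, 2), (8, 13, 22, 2), (9, 10, 27, 2), (23, 6, 18, 2), (30, 22, 21, 2), (36, 8, 23, 2), (16, 25, 35, 2), (32, 40, 15, 2), (15, 1, 35, 2), (13, 25, 32, 2), (45, 2, 20, 2), (18, 38, 12, 2), (6, 22, 17, 2), (43, 7, 37, 2), (21, 20, 25, 2), (26, 8, 28, 2), (10, 6, 14, 2), (50, 22, 32, 2), (54, 5, 17, 2), (22, 8, 27, 2), (27, 43, 23, 2), (38, 22, 18, 2), (29, 36, 32, 2), (11, 22, 19, 2), (42, 31, 24, 2), (14, 40, 16, 2), (40, 31, 20, 2), (46,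 27, 10, 2), (35, 12, 17, 2), (12, 8, 23, 2), (51, 26, 29, 2), (28, 22, 16, 2), (41, 27, 15, 2), (33, 31, 20, 2), (39, 27, 17, 2), (31, 31, 25, 2), (20, 7, 36, 2), (44, 14, 33, 2), (17, 2, 17, 2), (34, 27, 13, 2), (47, 22, 28, 2), (52, 22, 18, 2), (53, 18, 10, 2), (24, 22, 34, 2), (37, 26, 26, 2), (48, 22, 19, 2), (49, 18, 9, 2), (25, 5, 18, 2), (55, 49, 34, 2), (56, 46, 28, 2), (57, 50, 20, 2), (5, 7, 11, 2)]

/-- row 38 of the certificate table -/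
def r38 : List (ℕ × ℕ × ℕ × ℕ) := [(0, 38, 7, 2), (11, 7, 34, 2), (6, 43, 12, 2), (33, 4, 29, 2), (18, 35, 32, 2), (28, 44, 30, 2), (2, 43, 12, 2), (7, 33, 15, 2), (52, 6, 36, 2), (9, 21, 37, 2), (10, 21, 20, 2), (1, 7, 31, 2), (12, 3, 17, 2), (13, 58, 14, 2), (48, 45, 10, 2), (56, 7, 9, 2), (47, 21, 10, 2), (17, 9, 27, 2), (4, 35, 33, 2), (55, 21, 39, 2), (20, 49, 9, 2), (57, 13, 20, 2), (22, 31, 19, 2), (23, 28, 26, 2), (43, 43, 17, 2), (25, 29, 24, 2), (58, 48, 24, 2), (36, 21, 38, 2), (5, 44, 31, 2), (49, 13, 15, 2), (31, 54, 6, 1), (30, 54, 10, 1), (32, 1, 20, 2), (3, 4, 28, 2), (40, 21, 11, 2), (51, 18, 12, 2), (27, 21, 36, 2), (39, 21, 26, 2), (46, 57, 21, 2), (37, 21, 24, 2), (34, 21, 13, 2), (41, 37, 12, 2), (42, 8, 25, 2), (24, 43, 16, 2), (44, 47, 33, 2), (50, 4, 30, 2), (38, 57, 18, 2), (16, 21, 8, 2), (14, 45, 9, 2), (29,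 13, 15, 2), (45, 4, 32, 2), (35, 18, 9, 2), (8, 6, 37, 2), (54, 21, 9, 0), (53, 21, 11, 1), (19, 21, 40, 2), (15, 7, 7, 2), (21, 13, 19, 2), (26, 48, 27, 2)]

/-- row 39 of the certificate table -/
def r39 : List (ℕ × ℕ × ℕ × ℕ) := [(0, 39, 6, 2), (34, 53, 31, 2), (13, 31, 35, 2), (3, 45, 16, 2), (56, 20, 9, 2), (5, 27, 8, 2), (55, 55, 16, 2), (16, 11, 30, 2), (8, 15, 19, 2), (51, 20, 35, 2), (38, 20, 12, 2), (11, 56, 32, 2), (33, 26, 8, 2), (2, 31, 36, 2), (48, 46, 6, 0), (47, 46, 33, 2), (7, 11, 29, 2), (17, 20, 36, 2), (18, 44, 13, 2), (19, 17, 26, 2), (29, 18, 19, 2), (21, 22, 23, 2), (27, 18, 14, 2), (45, 1, 27, 2), (54, 20, 25, 2), (25, 24, 11, 2), (42, 1, 29, 2), (22, 18, 14, 2), (43, 20, 37, 2), (20, 18, 18, 2), (31, 55, 11, 2), (30, 55, 11, 2), (32, 20, 19, 2), (12, 26, 9, 2), (1, 53, 32, 2), (35, 52, 18, 2), (44, 12, 23,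 2), (52, 43, 34, 2), (10, 20, 10, 2), (41, 29, 20, 2), (40, 2, 24, 2), (39, 29, 17, 2), (26, 1, 31, 2), (28, 20, 39, 2), (36, 12, 26, 2), (23, 1, 28, 2), (46, 23, 14, 2), (15, 46, 30, 2), (14, 46, 8, 1), (58, 20, 38, 2), (50, 7, 25, 2), (9, 20, 37, 2), (37, 43, 38, 2), (57, 34, 11, 2), (24, 20, 23, 2), (6, 55, 15, 2), (4, 20, 7, 2), (53, 34, 8, 2), (49, 20, 39, 2)]

/-- row 40 of the certificate table -/
def r40 : List (ℕ × ℕ × ℕ × ℕ) := [(0, 40, 21, 2), (19, 23, 4, 2), (20, 19, 25, 2), (32, 19, 23, 2), (12, 50, 23, 2), (15, 23, 29, 2), (51, 19, 22, 2), (34, 57, 15, 2), (47, 8, 30, 2), (9, 11, 26, 2), (11, 19, 9, 1), (10, 19, 11, 1), (4, 50, 26, 2), (28, 57, 13, 2), (44, 32, 24, 2), (5, 23, 29, 2), (41, 19, 23, 2), (17, 15, 9, 2), (18, 45, 11, 1), (1, 23, 5, 2), (2, 19, 24, 2), (21, 25, 12, 2), (31, 26, 23, 2), (23, 30, 28, 2), (29,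 26, 16, 2), (25, 19, 22, 2), (26, 13, 29, 2), (45, 37, 15, 2), (13, 57, 14, 2), (24, 26, 19, 2), (46, 35, 12, 2), (22, 26, 21, 2), (3, 19, 25, 2), (55, 56, 22, 2), (7, 57, 17, 2), (52, 7, 23, 2), (40, 1, 3, 2), (37, 6, 18, 2), (38, 55, 39, 2), (42, 19, 27, 2), (36, 1, 6, 2), (16, 19, 21, 2), (39, 19, 25, 2), (43, 29, 34, 2), (14, 32, 20, 2), (27, 37, 16, 2), (30, 35, 9, 2), (8, 8, 31, 2), (48, 14, 33, 2), (49, 5, 23, 2), (57, 12, 18, 2), (6, 19, 24, 2), (35, 7, 24, 2), (53, 28, 31, 2), (54, 19, 34, 2), (33, 56, 21, 2), (58, 8, 26, 2), (50, 12, 17, 2), (56, 8, 26, 2)]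

/-- row 41 of the certificate table -/
def r41 : List (ℕ × ℕ × ℕ × ℕ) := [(0, 41, 7, 2), (43, 6, 35, 2), (2, 35, 19, 2), (11, 54, 32, 2), (4, 15, 37, 2), (50, 18, 12, 2), (6, 3, 15, 2), (54, 30, 33, 2), (42, 28, 19, 2), (46, 18, 13, 2), (30, 7, 13, 2), (3, 54, 29, 2), (58, 47, 10, 2), (13, 8, 28, 2), (40, 18, 11, 1), (39, 18, 12, 2), (56, 58, 27, 2), (17, 18, 23, 2), (32, 28, 20, 2), (19, 43, 24, 2), (29, 20, 16, 2), (37, 18, 11, 2), (27, 20, 16, 2), (23, 33, 27, 2), (38, 4, 31, 2), (57, 18, 28, 2), (47, 54, 36, 2), (22, 20, 12, 2), (28, 16, 14, 2), (20, 20, 21, 2), (10, 7, 12, 2), (41, 32, 22, 2), (18, 28, 23, 2), (33, 18, 39, 2), (34, 42, 13, 2), (51, 21, 11, 2), (36, 49, 26, 2), (21, 18, 13, 2), (24, 4, 30, 2), (15, 18, 14, 2), (14, 18, 12, 1), (31, 32, 21, 2), (8, 28, 19, 2), (1, 6, 34, 2), (44, 11, 21, 2), (45, 24, 27, 2), (9,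 18, 11, 2), (26, 54, 34, 2), (55, 6, 7, 2), (53, 22, 11, 2), (5, 18, 10, 2), (35, 21, 10, 2), (52, 57, 12, 2), (49, 22, 8, 2), (7, 30, 32, 2), (48, 6, 9, 2), (16, 58, 28, 2), (25, 18, 26, 2), (12, 47, 13, 2)]

/-- row 42 of the certificate table -/
def r42 : List (ℕ × ℕ × ℕ × ℕ) := [(0, 42, 22, 2), (20, 33, 30, 2), (7, 22, 13, 2), (49, 30, 17, 2), (17, 33, 5, 2), (46, 17, 24, 2), (29, 45, 22, 2), (2, 22, 10, 2), (21, 17, 26, 2), (9, 1, 10, 2), (12, 17, 26, 2), (32, 32, 32, 2), (10, 17, 24, 2), (13, 3, 12, 2), (43, 47, 23, 2), (15, 56, 34, 2), (48, 23, 24, 2), (4, 33, 6, 2), (28, 51, 18, 2), (19, 20, 24, 2), (1, 33, 30, 2), (8, 17, 25, 2), (31, 28, 24, 2), (51, 48, 19, 2), (27, 17, 23, 2), (25, 41, 13, 2), (42, 4, 4, 2), (24, 17, 25, 2), (18, 51, 16, 2), (6, 45, 24, 2), (30, 24, 19, 2), (22, 28, 25, 2), (11, 32, 31, 2), (33, 2, 29,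 2), (34, 43, 11, 1), (35, 53, 32, 2), (36, 44, 27, 2), (57, 45, 17, 2), (50, 17, 28, 2), (39, 17, 35, 2), (44, 17, 10, 2), (41, 17, 23, 2), (26, 4, 7, 2), (14, 47, 22, 2), (40, 17, 12, 2), (45, 52, 30, 2), (5, 17, 22, 2), (55, 32, 27, 2), (16, 23, 27, 2), (3, 30, 16, 2), (38, 17, 26, 2), (23, 48, 18, 2), (53, 51, 14, 2), (52, 51, 15, 2), (54, 57, 35, 2), (47, 32, 27, 2), (58, 10, 25, 2), (37, 45, 20, 2), (56, 10, 21, 2)]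

/-- row 43 of the certificate table -/
def r43 : List (ℕ × ℕ × ℕ × ℕ) := [(0, 43, 4, 2), (41, 56, 27, 2), (2, 16, 17, 2), (23, 25, 35, 2), (4, 57, 6, 2), (5, 53, 21, 2), (18, 58, 32, 2), (22, 39, 38, 2), (54, 16, 10, 2), (10, 48, 27, 2), (9, 48, 29, 2), (51, 16, 37, 2), (14, 25, 31, 2), (24, 44, 9, 2), (12, 25, 28, 2), (33, 16, 7, 2), (35, 38, 17, 2), (47, 45, 21, 2), (6, 58, 36, 2), (29, 16, 33, 2), (20, 31, 38, 2), (43, 35, 15, 2), (7, 39, 35, 2), (3, 25, 33, 2), (13, 44, 9, 2), (25, 42, 12, 0), (26, 36, 14, 2), (27, 49, 24, 2), (28, 18, 16, 2), (19, 16, 35, 2), (30, 12, 17, 2), (55, 16, 23, 2), (32, 37, 22, 2), (15, 16, 5, 2), (37, 13, 34, 2), (16, 38, 16, 2), (42, 48, 26, 2), (34, 13, 33, 2), (38, 47, 11, 2), (48, 7, 30, 2), (40, 41, 23, 2), (1, 56, 28, 2), (36, 48, 25, 2), (21, 35, 18, 2), (52, 44, 13, 2), (50, 9, 6, 2), (58,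 16, 35, 2), (17, 45, 24, 2), (39, 7, 29, 2), (49, 16, 34, 2), (45, 9, 7, 2), (11, 16, 36, 2), (44, 44, 14, 2), (57, 38, 12, 2), (8, 16, 8, 2), (31, 16, 21, 2), (56, 33, 30, 2), (53, 38, 12, 2), (46, 16, 37, 2)]

/-- row 44 of the certificate table -/
def r44 : List (ℕ × ℕ × ℕ × ℕ) := [(0, 44, 30, 2), (1, 46, 18, 2), (49, 45, 26, 2), (42, 15, 33, 2), (4, 18, 35, 2), (5, 32, 38, 2), (6, 26, 14, 2), (15, 43, 13, 2), (8, 20, 20, 2), (10, 49, 3, 0), (9, 49, 4, 0), (18, 15, 18, 2), (20, 23, 24, 2), (39, 47, 29, 2), (22, 15, 34, 2), (7, 43, 14, 2), (44, 7, 12, 2), (17, 19, 11, 2), (11, 15, 20, 2), (32, 45, 23, 2), (12, 23, 25, 2), (47, 15, 32, 2), (14, 15, 33, 2), (23, 42, 27, 2), (24, 15, 14, 2), (28, 55, 35, 2), (50, 5, 28, 2), (33, 9, 18, 2), (25, 55, 32, 2), (29, 57, 21, 2), (30, 31, 19, 2), (54, 38, 30, 2), (19, 45, 22, 2), (27, 9, 21,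 2), (56, 56, 11, 2), (46, 43, 9, 2), (40, 5, 32, 2), (58, 15, 36, 2), (52, 56, 6, 2), (13, 47, 33, 2), (36, 5, 30, 2), (41, 39, 13, 2), (3, 15, 31, 2), (43, 33, 8, 2), (16, 7, 15, 2), (55, 25, 26, 2), (35, 43, 9, 2), (21, 15, 34, 2), (48, 35, 32, 2), (2, 45, 24, 2), (26, 5, 25, 2), (53, 15, 30, 2), (38, 56, 6, 2), (51, 15, 32, 2), (31, 38, 31, 2), (45, 25, 27, 2), (34, 56, 10, 2), (57, 15, 31, 2), (37, 15, 34, 2)]

/-- row 45 of the certificate table -/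
def r45 : List (ℕ × ℕ × ℕ × ℕ) := [(0, 45, 24, 2), (20, 36, 28, 2), (22, 42, 17, 2), (7, 14, 28, 2), (21, 9, 33, 2), (26, 14, 14, 2), (6, 14, 27, 2), (3, 14, 30, 2), (8, 2, 38, 2), (16, 9, 4, 2), (57, 44, 26, 2), (45, 38, 10, 2), (42, 43, 21, 2), (39, 48, 7, 1), (38, 48, 8, 2), (25, 4, 25, 2), (9, 9, 9, 2), (52, 14, 29, 2), (24, 14, 29, 2), (37, 32, 15, 2), (1, 36, 27, 2), (4, 9, 29, 2), (2, 42, 20, 2), (58, 49, 18, 2), (18, 14, 28, 2), (15, 4, 28, 2), (5, 14, 16, 2), (40, 44, 23, 2), (28, 25, 14, 2), (32, 30, 27, 2), (53, 42, 22, 2), (31, 6, 15, 2), (29, 30, 30, 2), (33, 13, 30, 2), (43, 12, 30, 2), (35, 58, 15, 2), (55, 14, 28, 2), (19, 32, 16, 2), (14, 48, 11, 2), (13, 48, 7, 0), (27, 44, 22, 2), (41, 40, 12, 1), (12, 43, 20, 2), (34, 12, 29, 2), (44, 22, 32, 2), (11, 38, 9, 2), (46, 14, 40, 2), (47, 5, 29, 2), (48, 19, 31, 2),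 (49, 51, 25, 2), (51, 14, 31, 2), (50, 14, 29, 2), (17, 14, 27, 2), (30, 42, 24, 2), (54, 1, 7, 2), (36, 14, 30, 2), (56, 39, 16, 2), (10, 44, 24, 2), (23, 49, 19, 2)]

/-- row 46 of the certificate table -/
def r46 : List (ℕ × ℕ × ℕ × ℕ) := [(0, 46, 8, 2), (38, 13, 13, 2), (40, 28, 13, 2), (3, 37, 28, 2), (54, 24, 36, 2), (47, 55, 28, 2), (46, 10, 23, 2), (36, 13, 12, 2), (8, 22, 20, 2), (9, 13, 24, 2), (13, 53, 24, 2), (45, 39, 6, 1), (44, 39, 33, 2), (10, 53, 21, 2), (14, 13, 40, 2), (43, 24, 8, 2), (16, 1, 38, 2), (17, 54, 25, 2), (18, 50, 14, 2), (35, 29, 12, 2), (23, 13, 13, 2), (57, 21, 17, 2), (27, 25, 12, 2), (20, 13, 11, 2), (24, 12, 16, 2), (30, 13, 12, 2), (26, 19, 27, 2), (22, 25, 11, 2), (39, 2, 34, 2), (49, 21, 17, 2), (25, 13, 14, 2), (31, 51, 13, 2), (50, 53, 20, 2), (33, 14, 28, 2), (37, 16, 31, 2), (19, 29, 9, 2),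 (7, 13, 14, 2), (34, 16, 32, 2), (1, 13, 15, 2), (28, 2, 33, 2), (2, 28, 14, 2), (51, 13, 29, 2), (56, 13, 13, 2), (15, 24, 10, 2), (12, 39, 30, 2), (11, 39, 8, 1), (6, 10, 22, 2), (5, 55, 29, 2), (55, 11, 11, 2), (29, 21, 13, 2), (32, 53, 20, 2), (41, 13, 27, 2), (52, 32, 29, 2), (53, 5, 15, 2), (4, 24, 35, 2), (48, 11, 14, 2), (42, 13, 12, 2), (21, 21, 22, 2), (58, 44, 22, 2)]

/-- row 47 of the certificate table -/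
def r47 : List (ℕ × ℕ × ℕ × ℕ) := [(0, 47, 28, 2), (47, 41, 10, 2), (27, 36, 20, 2), (3, 28, 30, 2), (4, 2, 36, 2), (14, 12, 30, 2), (11, 12, 34, 2), (29, 12, 30, 2), (19, 51, 31, 2), (40, 4, 26, 2), (26, 12, 29, 2), (6, 12, 32, 2), (41, 58, 12, 2), (55, 54, 28, 2), (5, 12, 32, 2), (15, 38, 33, 2), (45, 42, 23, 2), (32, 4, 30, 2), (54, 33, 33, 2), (8, 51, 30, 2), (46, 44, 33, 2), (21, 43, 11, 2), (22, 12, 29, 2), (53, 12, 32, 2), (24, 13, 17, 2), (28, 58, 7, 2), (10, 12, 31, 2), (2, 36, 21, 2), (25, 58, 7, 2), (7, 12, 28, 2), (30, 16, 18, 2), (31, 12, 12, 2), (17, 4, 28, 2), (39, 33, 8, 2), (43, 14, 27, 2), (35, 22, 19, 2), (44, 20, 24, 2), (51, 36, 24, 2), (56, 12, 18, 2), (33, 33, 9, 2), (9, 4, 23, 2), (12, 58, 11, 2), (42, 10, 25, 2), (34, 14, 31, 2), (36, 20, 25, 2), (16, 42, 22, 2), (20, 44, 30, 2), (1, 41, 13, 2), (48, 25, 16,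 2), (49, 27, 38, 2), (57, 19, 19, 2), (37, 36, 22, 2), (52, 9, 12, 2), (23, 12, 31, 2), (18, 33, 33, 2), (13, 54, 29, 2), (38, 12, 16, 2), (50, 19, 16, 2), (58, 50, 35, 2)]

/-- row 48 of the certificate table -/
def r48 : List (ℕ × ℕ × ℕ × ℕ) := [(0, 48, 27, 2), (33, 38, 24, 2), (31, 11, 31, 2), (39, 11, 31, 2), (4, 36, 5, 0), (41, 3, 31, 2), (18, 4, 10, 2), (16, 20, 31, 2), (36, 42, 19, 2), (9, 19, 28, 2), (51, 33, 20, 2), (13, 4, 11, 2), (25, 11, 19, 2), (11, 4, 14, 2), (19, 11, 34, 2), (35, 11, 31, 2), (7, 20, 28, 2), (23, 43, 26, 2), (6, 4, 10, 2), (14, 11, 32, 2), (46, 45, 7, 1), (45, 45, 12, 2), (22, 7, 17, 2), (17, 43, 25, 2), (26, 11, 30, 2), (12, 11, 17, 2), (24, 11, 32, 2), (42, 32, 30, 2), (28, 23, 15, 2), (32, 33, 27, 2), (30, 11, 30, 2), (2, 11, 32, 2), (29, 33, 25, 2), (1, 38, 23, 2), (34, 5, 10, 2), (15, 11, 33, 2),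 (8, 42, 18, 2), (37, 30, 18, 2), (52, 1, 32, 2), (3, 11, 33, 2), (40, 10, 12, 1), (5, 3, 30, 2), (27, 32, 33, 2), (43, 51, 35, 2), (44, 18, 19, 2), (21, 45, 7, 2), (20, 45, 3, 1), (47, 6, 33, 2), (55, 13, 12, 2), (50, 43, 27, 2), (49, 43, 29, 2), (10, 33, 23, 2), (38, 1, 33, 2), (53, 11, 14, 2), (56, 9, 22, 2), (48, 13, 13, 2), (54, 9, 21, 2), (57, 54, 18, 2), (58, 25, 32, 2)]

/-- row 49 of the certificate table -/
def r49 : List (ℕ × ℕ × ℕ × ℕ) := [(0, 49, 18, 2), (36, 45, 22, 2), (28, 10, 25, 2), (57, 57, 32, 2), (4, 37, 35, 2), (19, 10, 24, 2), (46, 13, 24, 2), (24, 23, 18, 2), (33, 35, 12, 2), (9, 22, 25, 2), (44, 9, 2, 1), (43, 9, 30, 2), (27, 10, 37, 2), (21, 30, 16, 2), (51, 10, 24, 2), (45, 57, 23, 2), (16, 10, 34, 2), (30, 56, 15, 2), (22, 6, 10, 2), (5, 10, 22, 2), (20, 1, 37, 2), (13, 30, 18, 2), (18, 6, 9, 2), (23, 41,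 26, 2), (7, 23, 20, 2), (25, 33, 38, 2), (48, 51, 22, 2), (12, 10, 39, 2), (2, 10, 23, 2), (54, 10, 23, 2), (17, 56, 14, 2), (31, 52, 32, 2), (32, 43, 24, 2), (8, 35, 13, 2), (55, 10, 22, 2), (35, 28, 19, 2), (1, 45, 19, 2), (53, 23, 16, 2), (38, 10, 21, 2), (39, 38, 9, 2), (40, 11, 10, 1), (52, 30, 14, 2), (42, 12, 23, 2), (11, 9, 30, 2), (10, 9, 5, 0), (15, 57, 27, 2), (6, 13, 21, 2), (47, 26, 30, 2), (26, 51, 21, 2), (50, 44, 3, 1), (49, 44, 4, 1), (14, 10, 22, 2), (41, 30, 11, 2), (37, 23, 17, 2), (29, 10, 21, 2), (34, 10, 23, 2), (58, 17, 23, 2), (3, 57, 27, 2), (56, 17, 24, 2)]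

/-- row 50 of the certificate table -/
def r50 : List (ℕ × ℕ × ℕ × ℕ) := [(0, 50, 23, 2), (1, 47, 35, 2), (2, 37, 20, 2), (3, 31, 31, 2), (21, 14, 31, 2), (15, 33, 25, 2), (29, 53, 26, 2), (20, 9, 23, 2), (28, 29, 14, 2), (16, 14, 7, 2), (44, 10, 3, 1), (43, 10, 28, 2), (19, 2, 18, 2), (53, 27, 19, 2), (14, 8, 30, 2), (5, 33, 28, 2), (9, 14, 6, 2), (17, 21, 25, 2), (18, 54, 12, 2), (12, 2, 17, 2), (7, 9, 25, 2), (4, 14, 31, 2), (22, 35, 33, 2), (34, 9, 27, 2), (57, 3, 23, 2), (32, 9, 26, 2), (26, 58, 28, 2), (33, 15, 19, 2), (8, 29, 11, 2), (6, 53, 25, 2), (51, 3, 18, 2), (35, 27, 15, 2), (25, 9, 27, 2), (27, 15, 20, 2), (23, 9, 29, 2), (31, 27, 16, 2), (36, 4, 11, 2), (49, 9, 24, 2), (38, 9, 36, 2), (39, 51, 36, 2), (48, 9, 27, 2), (41, 46, 14, 2), (58, 9, 11, 2), (11, 10, 28, 2), (10, 10, 4, 0), (50, 16, 5, 2), (46, 9, 24, 2), (55,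 40, 26, 2), (40, 9, 25, 2), (37, 9, 26, 2), (45, 16, 8, 2), (30, 3, 21, 2), (52, 12, 13, 2), (13, 27, 17, 2), (56, 11, 23, 2), (47, 40, 22, 2), (54, 11, 24, 2), (24, 3, 25, 2), (42, 9, 13, 2)]

/-- row 51 of the certificate table -/
def r51 : List (ℕ × ℕ × ℕ × ℕ) := [(0, 51, 16, 2), (1, 8, 32, 2), (2, 58, 22, 2), (9, 29, 19, 2), (27, 8, 22, 2), (34, 24, 16, 2), (7, 42, 14, 2), (6, 42, 15, 2), (47, 19, 29, 2), (3, 29, 20, 2), (10, 45, 21, 2), (33, 49, 22, 2), (36, 22, 21, 2), (13, 18, 30, 2), (14, 9, 28, 2), (15, 6, 33, 2), (16, 48, 35, 2), (48, 36, 17, 2), (21, 24, 9, 2), (19, 53, 23, 2), (20, 50, 36, 2), (18, 24, 12, 2), (26, 22, 25, 2), (29, 8, 22, 2), (49, 33, 12, 2), (52, 34, 19, 2), (22, 22, 30, 2), (4, 8, 20, 2), (28, 46, 17, 2), (23, 8, 20, 2), (50, 28, 10, 2), (41, 42, 18, 2), (32, 56, 37, 2), (11, 49, 21, 2), (5, 24, 14, 2),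 (55, 8, 21, 2), (12, 22, 25, 2), (46, 8, 23, 2), (53, 52, 37, 2), (44, 8, 20, 2), (51, 47, 31, 2), (31, 42, 16, 2), (42, 21, 24, 2), (43, 54, 7, 2), (39, 8, 21, 2), (57, 8, 35, 2), (37, 8, 21, 2), (8, 19, 32, 2), (17, 36, 20, 2), (24, 33, 13, 2), (30, 28, 11, 2), (40, 47, 30, 2), (25, 34, 22, 2), (38, 52, 36, 2), (54, 8, 19, 2), (35, 8, 19, 2), (58, 19, 28, 2), (45, 8, 37, 2), (56, 19, 28, 2)]

/-- row 52 of the certificate table -/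
def r52 : List (ℕ × ℕ × ℕ × ℕ) := [(0, 52, 11, 2), (11, 21, 33, 2), (40, 34, 16, 2), (3, 7, 12, 0), (4, 1, 21, 2), (58, 22, 13, 2), (21, 51, 37, 2), (19, 24, 24, 2), (34, 34, 21, 2), (12, 7, 13, 2), (30, 18, 10, 2), (1, 21, 32, 2), (9, 7, 11, 2), (32, 7, 28, 2), (14, 42, 29, 2), (56, 21, 5, 2), (44, 15, 13, 2), (51, 6, 13, 2), (57, 7, 15, 2), (7, 24, 23, 2), (43, 22, 38, 2), (6, 51, 36, 2), (22, 11, 19, 2), (23, 7, 24, 2), (24, 39, 18, 2), (55, 7, 14, 2), (38, 7, 14, 2), (27, 30, 23, 2), (28, 49, 28, 2), (41, 54, 35, 2), (10, 18, 14, 2), (33, 7, 15, 2), (13, 7, 30, 2), (31, 7, 17, 2), (8, 34, 20, 2), (52, 19, 22, 2), (49, 24, 19, 2), (42, 2, 12, 2), (26, 7, 15, 2), (48, 16, 31, 2), (2, 34, 16, 2), (29, 54, 34, 2), (37, 2, 11, 2), (20, 22, 35, 2), (16, 15, 14, 2), (45, 3, 31, 2), (46, 36, 13, 2), (47, 29, 30, 2), (39, 16, 28, 2), (36,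 24, 19, 2), (50, 20, 24, 2), (17, 6, 16, 2), (35, 19, 25, 2), (53, 32, 16, 2), (54, 55, 37, 2), (25, 7, 12, 2), (15, 21, 7, 2), (18, 7, 13, 2), (5, 22, 11, 2)]

/-- row 53 of the certificate table -/
def r53 : List (ℕ × ℕ × ℕ × ℕ) := [(0, 53, 11, 2), (43, 18, 36, 2), (2, 1, 19, 2), (35, 6, 17, 2), (39, 55, 14, 2), (13, 6, 16, 2), (50, 29, 24, 2), (32, 6, 15, 2), (52, 21, 35, 2), (27, 46, 16, 2), (23, 22, 16, 2), (11, 6, 14, 2), (12, 36, 30, 2), (5, 6, 18, 2), (42, 29, 23, 2), (15, 8, 31, 2), (38, 2, 11, 2), (51, 7, 14, 2), (22, 10, 7, 2), (28, 6, 30, 2), (34, 2, 10, 2), (21, 5, 12, 0), (18, 10, 8, 2), (10, 22, 17, 2), (24, 42, 32, 2), (58, 39, 31, 2), (26, 34, 28, 2), (9, 46, 20, 2), (19, 6, 32, 2), (29, 25, 18, 2), (53, 50, 26, 2), (31, 14, 17, 2), (7, 6, 17, 2), (44, 6, 16, 2), (20, 2, 9, 2), (3, 6, 15, 2), (57, 27, 15, 2), (37,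 19, 16, 2), (16, 2, 13, 2), (4, 55, 17, 2), (40, 51, 23, 2), (56, 6, 16, 2), (14, 29, 23, 2), (1, 18, 33, 2), (33, 6, 15, 2), (45, 6, 27, 2), (49, 46, 20, 2), (47, 11, 31, 2), (55, 18, 11, 2), (46, 46, 25, 2), (6, 29, 27, 2), (17, 7, 15, 2), (8, 21, 34, 2), (30, 50, 25, 2), (54, 43, 25, 2), (48, 18, 9, 2), (41, 6, 14, 2), (36, 27, 12, 2), (25, 39, 32, 2)]

/-- row 54 of the certificate table -/
def r54 : List (ℕ × ℕ × ℕ × ℕ) := [(0, 54, 5, 2), (14, 5, 8, 2), (2, 48, 18, 2), (23, 36, 7, 2), (46, 47, 28, 2), (22, 34, 18, 2), (43, 5, 24, 2), (55, 5, 36, 2), (8, 5, 18, 2), (11, 3, 22, 2), (10, 30, 23, 2), (9, 3, 25, 2), (33, 41, 36, 2), (24, 55, 37, 2), (1, 5, 6, 2), (38, 28, 30, 2), (16, 51, 7, 2), (57, 5, 34, 2), (30, 52, 35, 2), (19, 5, 35, 2), (20, 35, 22, 2), (21, 6, 10, 1), (5, 34, 17, 2), (3, 36, 8, 2), (13, 55, 33, 2), (54, 22,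 16, 2), (50, 15, 27, 2), (44, 5, 37, 2), (29, 38, 10, 0), (28, 38, 7, 1), (18, 52, 34, 2), (58, 58, 15, 2), (39, 5, 11, 2), (12, 41, 34, 2), (34, 11, 12, 2), (51, 34, 13, 2), (40, 15, 28, 2), (52, 58, 10, 2), (15, 28, 31, 2), (32, 5, 9, 2), (36, 15, 30, 2), (41, 50, 13, 2), (42, 46, 24, 2), (6, 5, 22, 2), (27, 5, 38, 2), (45, 26, 15, 2), (4, 47, 29, 2), (47, 14, 31, 2), (56, 41, 32, 2), (49, 19, 25, 2), (26, 15, 26, 2), (35, 34, 13, 2), (37, 58, 10, 2), (53, 13, 17, 2), (25, 22, 19, 2), (7, 5, 38, 2), (48, 41, 29, 2), (17, 5, 36, 2), (31, 58, 14, 2)]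

/-- row 55 of the certificate table -/
def r55 : List (ℕ × ℕ × ℕ × ℕ) := [(0, 55, 3, 2), (1, 29, 5, 1), (43, 4, 9, 2), (33, 21, 30, 2), (53, 39, 16, 2), (5, 52, 37, 2), (18, 11, 8, 2), (7, 34, 15, 2), (8, 24, 21, 2), (40, 12, 25, 2), (10, 25, 22, 2), (13, 11, 12, 2), (54, 46, 28, 2), (11, 11, 13, 2), (14, 23, 29, 2), (25, 14, 26, 2), (16, 28, 20, 2), (32, 12, 26, 2), (6, 11, 8, 2), (56, 26, 20, 2), (55, 53, 14, 2), (21, 40, 40, 2), (49, 4, 34, 2), (48, 4, 4, 1), (38, 18, 32, 2), (15, 14, 27, 2), (42, 17, 5, 2), (27, 4, 33, 2), (29, 39, 11, 2), (28, 39, 11, 2), (30, 4, 16, 2), (34, 44, 31, 2), (17, 12, 28, 2), (3, 21, 27, 2), (31, 44, 35, 2), (46, 54, 34, 2), (36, 9, 13, 2), (37, 3, 16, 2), (24, 18, 33, 2), (39, 56, 10, 2), (9, 12, 24, 2), (44, 4, 34, 2), (26, 17, 6, 2), (2, 4, 7, 2), (41, 4, 36, 2), (50, 21, 34, 2), (35, 54, 37, 2),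 (57, 4, 36, 2), (23, 4, 6, 0), (22, 4, 32, 2), (45, 21, 32, 2), (51, 27, 23, 2), (58, 4, 22, 2), (4, 39, 15, 2), (12, 46, 29, 2), (20, 53, 17, 2), (19, 26, 23, 2), (47, 4, 35, 2), (52, 4, 20, 2)]

/-- row 56 of the certificate table -/
def r56 : List (ℕ × ℕ × ℕ × ℕ) := [(0, 56, 27, 2), (1, 30, 35, 2), (49, 57, 30, 2), (25, 44, 11, 2), (26, 40, 22, 2), (41, 11, 32, 2), (6, 18, 16, 2), (21, 44, 6, 2), (19, 1, 27, 2), (11, 5, 23, 2), (17, 1, 22, 2), (9, 5, 24, 2), (12, 21, 15, 2), (13, 17, 11, 2), (39, 3, 15, 2), (56, 25, 9, 2), (33, 3, 29, 2), (10, 1, 25, 2), (58, 43, 27, 2), (8, 1, 29, 2), (20, 55, 10, 2), (7, 44, 6, 2), (46, 3, 27, 2), (54, 23, 7, 2), (57, 9, 23, 2), (3, 44, 10, 2), (4, 40, 21, 2), (27, 51, 37, 2), (50, 3, 30, 2), (42, 49, 15, 2), (51, 9, 19, 2), (47, 3, 33, 2), (36, 3, 28, 2), (16, 3, 31, 2), (43, 23, 32, 2), (35,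 3, 28, 2), (32, 3, 30, 2), (37, 4, 17, 2), (55, 33, 26, 2), (14, 3, 17, 2), (40, 32, 24, 2), (5, 11, 29, 2), (29, 49, 18, 2), (34, 23, 32, 2), (44, 42, 34, 2), (45, 7, 29, 2), (22, 3, 29, 2), (31, 3, 31, 2), (48, 39, 32, 2), (2, 57, 29, 2), (28, 3, 31, 2), (30, 9, 20, 2), (52, 3, 11, 1), (53, 35, 18, 2), (23, 23, 8, 2), (38, 33, 30, 2), (15, 25, 12, 2), (24, 9, 21, 2), (18, 43, 28, 2)]

/-- row 57 of the certificate table -/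
def r57 : List (ℕ × ℕ × ℕ × ℕ) := [(0, 57, 15, 2), (51, 2, 21, 2), (56, 49, 28, 2), (9, 35, 20, 2), (4, 12, 34, 2), (5, 42, 35, 2), (27, 23, 11, 2), (7, 41, 16, 2), (8, 14, 36, 2), (3, 35, 24, 2), (57, 56, 30, 2), (54, 2, 20, 2), (19, 9, 19, 2), (21, 38, 21, 2), (44, 49, 27, 2), (15, 2, 31, 2), (38, 6, 15, 2), (45, 22, 19, 2), (18, 34, 29, 2), (12, 9, 16, 2), (34, 6, 11, 2), (13, 38, 18, 2), (50, 2, 19, 2), (47, 27, 20, 2), (41, 2, 22, 2), (52, 40, 15, 2), (29, 2, 34, 2), (6, 23, 12, 2), (39, 13, 35, 2), (26, 2, 36, 2), (30, 44, 21, 2), (46, 40, 13, 2), (32, 26, 20, 2), (33, 17, 27, 2), (20, 6, 8, 2), (36, 35, 24, 2), (35, 35, 29, 2), (42, 7, 9, 2), (16, 6, 13, 2), (28, 13, 36, 2), (40, 20, 23, 2), (24, 2, 20, 2), (37, 7, 10, 2), (43, 2, 18, 2), (14, 49, 27, 2), (17, 22, 18, 2), (31, 40, 14, 2), (23, 27, 21, 2), (48, 31, 32, 2), (49,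 28, 22, 2), (22, 2, 21, 2), (1, 2, 19, 2), (25, 40, 17, 2), (58, 2, 20, 2), (11, 2, 19, 2), (55, 43, 6, 2), (2, 49, 31, 2), (10, 56, 29, 2), (53, 2, 18, 2)]

/-- row 58 of the certificate table -/
def r58 : List (ℕ × ℕ × ℕ × ℕ) := [(0, 58, 2, 0), (28, 54, 15, 2), (2, 6, 20, 2), (43, 41, 27, 2), (4, 7, 19, 2), (58, 28, 13, 2), (39, 34, 31, 2), (22, 54, 10, 2), (19, 3, 27, 2), (9, 17, 12, 2), (17, 3, 23, 2), (25, 1, 35, 2), (50, 1, 34, 2), (44, 1, 21, 2), (49, 36, 22, 2), (15, 22, 33, 2), (16, 13, 36, 2), (10, 3, 24, 2), (47, 47, 12, 2), (8, 3, 25, 2), (20, 10, 39, 2), (48, 33, 26, 2), (7, 54, 10, 2), (45, 20, 26, 2), (24, 45, 15, 2), (11, 1, 33, 2), (42, 20, 33, 2), (35, 1, 31, 2), (1, 54, 14, 2), (56, 1, 34, 2), (55, 1, 8, 0), (34, 47, 7, 2), (32, 21, 21, 2), (33, 50, 28, 2), (31, 47, 7, 2), (27, 1, 33, 2), (40, 19, 4, 2), (37, 1,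 15, 2), (52, 11, 34, 2), (6, 34, 32, 2), (36, 19, 5, 2), (53, 43, 36, 2), (26, 20, 31, 2), (3, 41, 28, 2), (13, 1, 19, 2), (23, 20, 29, 2), (46, 38, 14, 2), (18, 47, 11, 2), (21, 33, 25, 2), (14, 36, 19, 2), (12, 1, 32, 2), (51, 1, 32, 2), (38, 11, 30, 2), (41, 43, 33, 2), (54, 14, 9, 2), (30, 1, 6, 1), (29, 1, 35, 2), (57, 51, 22, 2), (5, 28, 16, 2)]

/-- certificate table: row `a`, column `b` holds `(f1, f2, rank, generator index)` for the group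
element with first column `(a, b)` and second column `(f1, f2)` -/
def tbl : List (List (ℕ × ℕ × ℕ × ℕ)) := [r0, r1, r2, r3, r4, r5, r6, r7, r8, r9, r10, r11, r12, r13, r14, r15, r16, r17, r18, r19, r20, r21, r22, r23, r24, r25, r26, r27, r28, r29, r30, r31, r32, r33, r34, r35, r36, r37, r38, r39, r40, r41, r42, r43, r44, r45, r46, r47, r48, r49, r50, r51, r52, r53, r54, r55, r56, r57, r58]

theorem chk : chkAll 59 gens ginvs tbl = true := by decide +kernel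

theorem matOf_eq (a b c d : ZMod 59) (g : ℕ × ℕ × ℕ × ℕ) (h1 : a = (g.1 : ZMod 59))
    (h2 : b = (g.2.1 : ZMod 59)) (h3 : c = (g.2.2.1 : ZMod 59)) (h4 : d = (g.2.2.2 : ZMod 59)) :
    !![a, b; c, d] = matOf 59 g := by
  subst h1 h2 h3 h4
  rfl


/-- An exceptional sharply doubly transitive group of degree 59^2: the listed matrices generate a subgroup of GL(2,59) of order 3480 acting regularly on the non-zero vectors. -/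
theorem result (A : Matrix.GeneralLinearGroup (Fin 2) (ZMod 59)) (B : Matrix.GeneralLinearGroup (Fin 2) (ZMod 59)) (C : Matrix.GeneralLinearGroup (Fin 2) (ZMod 59)) (hA : (A : Matrix (Fin 2) (Fin 2) (ZMod 59)) = !![0, -1; 1, 0]) (hB : (B : Matrix (Fin 2) (Fin 2) (ZMod 59)) = !![9, 15; -10, -10]) (hC : (C : Matrix (Fin 2) (Fin 2) (ZMod 59)) = !![4, 0; 0, 4]) : Nat.card (Subgroup.closure ({A, B, C} : Set (Matrix.GeneralLinearGroup (Fin 2) (ZMod 59)))) = 3480 ∧ ∀ v w : Fin 2 → ZMod 59, v ≠ 0 → w ≠ 0 → ∃! h : Subgroup.closure ({A, B, C} : Set (Matrix.GeneralLinearGroup (Fin 2) (ZMod 59))), Matrix.mulVec ((h : Matrix.GeneralLinearGroup (Fin 2) (ZMod 59)) : Matrix (Fin 2) (Fin 2) (ZMod 59)) v = w := by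
  have : Fact (Nat.Prime 59) := ⟨by norm_num⟩
  have h := regular_of_cert 59 ({A, B, C} : Set (Matrix.GeneralLinearGroup (Fin 2) (ZMod 59))) gens ginvs tbl ?_ ?_ chk
  · exact h
  · intro g hg
    simp only [Set.mem_insert_iff, Set.mem_singleton_iff] at hg
    rcases hg with rfl | rfl | rfl
    · exact ⟨(0, 58, 1, 0), by simp [gens], by rw [hA]; exact matOf_eq _ _ _ _ _ (by decide) (by decide) (by decide) (by decide)⟩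
    · exact ⟨(9, 15, 49, 49), by simp [gens], by rw [hB]; exact matOf_eq _ _ _ _ _ (by decide) (by decide) (by decide) (by decide)⟩
    · exact ⟨(4, 0, 0, 4), by simp [gens], by rw [hC]; exact matOf_eq _ _ _ _ _ (by decide) (by decide) (by decide) (by decide)⟩
  · intro e he
    simp only [gens, List.mem_cons, List.not_mem_nil, or_false] at he
    rcases he with rfl | rfl | rfl
    · exact ⟨A, by simp, by rw [hA]; exact matOf_eq _ _ _ _ _ (by decide) (by decide) (by decide) (by decide)⟩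
    · exact ⟨B, by simp, by rw [hB]; exact matOf_eq _ _ _ _ _ (by decide) (by decide) (by decide) (by decide)⟩
    · exact ⟨C, by simp, by rw [hC]; exact matOf_eq _ _ _ _ _ (by decide) (by decide) (by decide) (by decide)⟩

end Cfsg.Agent.S0693
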