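import Mathlib
import Cfsg.Statements.S0699
import Cfsg.Agent.S0698

set_option autoImplicit false
open Cfsg

namespace Cfsg.Agent.S0699

open Equiv

variable {α : Type*} [Fintype α] [DecidableEq α]

omit [Fintype α] [DecidableEq α] in
theorem odd_pow_swap (s : Perm α) (a b : α) (h1 : s a = b) (h2 : s b = a) (m : ℕ) (hm : Odd m) :
    (s ^ m) a = b ∧ (s ^ m) b = a := by
  obtain ⟨j, rfl⟩ := hm
  have ha : (s ^ 2) a = a := by rw [pow_two, Perm.mul_apply, h1, h2]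
  have hb : (s ^ 2) b = b := by rw [pow_two, Perm.mul_apply, h2, h1]
  constructor
  · rw [pow_succ, pow_mul, Perm.mul_apply, h1]
    exact Perm.pow_apply_eq_self_of_apply_eq_self hb j
  · rw [pow_succ, pow_mul, Perm.mul_apply, h2]
    exact Perm.pow_apply_eq_self_of_apply_eq_self ha j

omit [DecidableEq α] in
/-- A 2-element has a fixed point on a set of odd size. -/
theorem two_elt_fixed (s : Perm α) (e : ℕ) (hs : s ^ (2 ^ e) = 1) (hodd : Odd (Fintype.card α)) :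
    ∃ c, s c = c := by
  have h1 : orderOf s ∣ 2 ^ e := orderOf_dvd_of_pow_eq_one hs
  obtain ⟨k, -, hk⟩ := (Nat.dvd_prime_pow Nat.prime_two).mp h1
  have hP : IsPGroup 2 (Subgroup.zpowers s) := by
    apply IsPGroup.of_card (n := k)
    rw [Nat.card_zpowers, hk]
  have hne : ¬ 2 ∣ Nat.card α := by
    rw [Nat.card_eq_fintype_card]
    exact hodd.not_two_dvd_nat
  obtain ⟨c, hc⟩ := hP.nonempty_fixed_point_of_prime_not_dvd_card α hne
  refine ⟨c, ?_⟩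
  have := hc ⟨s, Subgroup.mem_zpowers s⟩
  exact this

omit [DecidableEq α] in
/-- A 2-group acting on an invariant set of odd size has a fixed point there. -/
theorem P1 (T : Subgroup (Perm α)) (hT : IsPGroup 2 T) (Δ : Set α)
    (hΔ : ∀ t ∈ T, ∀ x ∈ Δ, t x ∈ Δ) (hodd : Odd (Nat.card Δ)) :
    ∃ x ∈ Δ, ∀ t ∈ T, t x = x := by
  let S : SubMulAction T α := { carrier := Δ, smul_mem' := fun t x hx => hΔ t.1 t.2 x hx }
  have hne : ¬ 2 ∣ Nat.card S := by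
    have : Nat.card S = Nat.card Δ := rfl
    rw [this]
    exact hodd.not_two_dvd_nat
  obtain ⟨c, hc⟩ := hT.nonempty_fixed_point_of_prime_not_dvd_card S hne
  refine ⟨c.1, c.2, ?_⟩
  intro t ht
  have := hc ⟨t, ht⟩
  exact congrArg Subtype.val this

omit [DecidableEq α] in
/-- A 2-group acting on an invariant set with exactly one fixed point: the set has odd size. -/
theorem P2 (T : Subgroup (Perm α)) (hT : IsPGroup 2 T) (Δ : Set α)
    (hΔ : ∀ t ∈ T, ∀ x ∈ Δ, t x ∈ Δ) (c : α) (hcΔ : c ∈ Δ) (hc : ∀ t ∈ T, t c = c)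
    (huniq : ∀ x ∈ Δ, (∀ t ∈ T, t x = x) → x = c) : Odd (Nat.card Δ) := by
  let S : SubMulAction T α := { carrier := Δ, smul_mem' := fun t x hx => hΔ t.1 t.2 x hx }
  have h1 := hT.card_modEq_card_fixedPoints (α := S)
  have h2 : Nat.card (MulAction.fixedPoints T S) = 1 := by
    rw [Nat.card_eq_one_iff_unique]
    refine ⟨⟨?_⟩, ⟨⟨⟨c, hcΔ⟩, ?_⟩⟩⟩
    · intro x y
      apply Subtype.ext
      apply Subtype.ext
      have hx : ∀ t ∈ T, t x.1.1 = x.1.1 := fun t ht => congrArg Subtype.val (x.2 ⟨t, ht⟩)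
      have hy : ∀ t ∈ T, t y.1.1 = y.1.1 := fun t ht => congrArg Subtype.val (y.2 ⟨t, ht⟩)
      rw [huniq _ x.1.2 hx, huniq _ y.1.2 hy]
    · intro t
      apply Subtype.ext
      exact hc t.1 t.2
  rw [h2] at h1
  have h3 : Nat.card S = Nat.card Δ := rfl
  rw [h3] at h1
  rw [Nat.odd_iff]
  exact h1


omit [Fintype α] [DecidableEq α] in
theorem inv_app (g : Perm α) (x : α) : g⁻¹ (g x) = x := g.symm_apply_apply x

omit [Fintype α] [DecidableEq α] in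
theorem app_inv (g : Perm α) (x : α) : g (g⁻¹ x) = x := g.apply_symm_apply x

/-- Step A: every pair can be swapped inside `N` while fixing a prescribed third point. -/
theorem stepA (G N : Subgroup (Perm α))
    (hnorm : ∀ g ∈ G, ∀ x ∈ N, g * x * g⁻¹ ∈ N) (hodd : Odd (Fintype.card α))
    (hG3 : ∀ a b c a' b' c' : α, a ≠ b → a ≠ c → b ≠ c → a' ≠ b' → a' ≠ c' → b' ≠ c' →
      ∃ g ∈ G, g a = a' ∧ g b = b' ∧ g c = c')
    (hN2 : ∀ a b a' b' : α, a ≠ b → a' ≠ b' → ∃ s ∈ N, s a = a' ∧ s b = b')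
    (a b : α) (hab : a ≠ b) :
    ∀ x y z : α, x ≠ y → x ≠ z → y ≠ z → ∃ s ∈ N, s x = y ∧ s y = x ∧ s z = z := by
  obtain ⟨s₀, hs₀N, h1, h2⟩ := hN2 a b b a hab (Ne.symm hab)
  have ho : orderOf s₀ ≠ 0 := (orderOf_pos s₀).ne'
  obtain ⟨e, m, hm, hem⟩ := Nat.exists_eq_two_pow_mul_odd ho
  have hsm := odd_pow_swap s₀ a b h1 h2 m hm
  have hpow : (s₀ ^ m) ^ (2 ^ e) = 1 := by
    rw [← pow_mul, mul_comm, ← hem, pow_orderOf_eq_one]
  obtain ⟨c₀, hc₀⟩ := two_elt_fixed (s₀ ^ m) e hpow hodd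
  have hc₀a : a ≠ c₀ := by
    intro h
    rw [← h, hsm.1] at hc₀
    exact hab hc₀.symm
  have hc₀b : b ≠ c₀ := by
    intro h
    rw [← h, hsm.2] at hc₀
    exact hab hc₀
  intro x y z hxy hxz hyz
  obtain ⟨g, hg, g1, g2, g3⟩ := hG3 a b c₀ x y z hab hc₀a hc₀b hxy hxz hyz
  refine ⟨g * s₀ ^ m * g⁻¹, hnorm g hg _ (pow_mem hs₀N m), ?_, ?_, ?_⟩
  · rw [Perm.mul_apply, Perm.mul_apply]
    nth_rewrite 1 [← g1]
    rw [inv_app, hsm.1, g2]
  · rw [Perm.mul_apply, Perm.mul_apply]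
    nth_rewrite 1 [← g2]
    rw [inv_app, hsm.2, g1]
  · rw [Perm.mul_apply, Perm.mul_apply]
    nth_rewrite 1 [← g3]
    rw [inv_app, hc₀, g3]

/-- Step B: the two-point stabiliser in `N` is transitive on the remaining points. -/
theorem stepB (G N : Subgroup (Perm α))
    (hnorm : ∀ g ∈ G, ∀ x ∈ N, g * x * g⁻¹ ∈ N) (hodd : Odd (Fintype.card α))
    (hG3 : ∀ a b c a' b' c' : α, a ≠ b → a ≠ c → b ≠ c → a' ≠ b' → a' ≠ c' → b' ≠ c' →
      ∃ g ∈ G, g a = a' ∧ g b = b' ∧ g c = c')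
    (hN2 : ∀ a b a' b' : α, a ≠ b → a' ≠ b' → ∃ s ∈ N, s a = a' ∧ s b = b')
    (a b : α) (hab : a ≠ b) :
    ∃ c₀, c₀ ≠ a ∧ c₀ ≠ b ∧ ∀ c, c ≠ a → c ≠ b → ∃ κ ∈ N, κ a = a ∧ κ b = b ∧ κ c₀ = c := by
  have hA := stepA G N hnorm hodd hG3 hN2 a b hab
  -- the pointwise stabiliser `K` and the setwise stabiliser `X₂`
  obtain ⟨K, hK⟩ : ∃ K : Subgroup (Perm α), ∀ κ, κ ∈ K ↔ κ ∈ N ∧ κ a = a ∧ κ b = b :=
    ⟨N ⊓ MulAction.stabilizer (Perm α) a ⊓ MulAction.stabilizer (Perm α) b, by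
      intro κ
      simp only [Subgroup.mem_inf, MulAction.mem_stabilizer_iff, Perm.smul_def, and_assoc]⟩
  obtain ⟨X₂, hX⟩ : ∃ X₂ : Subgroup (Perm α),
      ∀ x, x ∈ X₂ ↔ x ∈ N ∧ ((x a = a ∧ x b = b) ∨ (x a = b ∧ x b = a)) := by
    refine ⟨{ carrier := {x | x ∈ N ∧ ((x a = a ∧ x b = b) ∨ (x a = b ∧ x b = a))}
              mul_mem' := ?_
              one_mem' := ?_
              inv_mem' := ?_ }, fun x => Iff.rfl⟩
    · rintro x y ⟨hx, hx'⟩ ⟨hy, hy'⟩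
      refine ⟨mul_mem hx hy, ?_⟩
      simp only [Perm.mul_apply]
      grind
    · exact ⟨one_mem _, Or.inl ⟨rfl, rfl⟩⟩
    · rintro x ⟨hx, hx'⟩
      refine ⟨inv_mem hx, ?_⟩
      have e1 := inv_app x a
      have e2 := inv_app x b
      grind
  have hKX : K ≤ X₂ := fun κ hκ =>
    (hX κ).mpr ⟨((hK κ).mp hκ).1, Or.inl ((hK κ).mp hκ).2⟩
  -- a swapping element
  obtain ⟨s₁, hs₁N, hs₁a, hs₁b⟩ := hN2 a b b a hab (Ne.symm hab)
  have hs₁X : s₁ ∈ X₂ := (hX s₁).mpr ⟨hs₁N, Or.inr ⟨hs₁a, hs₁b⟩⟩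
  -- `|X₂| = 2 |K|`
  have hcard : Nat.card X₂ = 2 * Nat.card K := by
    have hidx : (K.subgroupOf X₂).index = 2 := by
      rw [Subgroup.index_eq_two_iff]
      refine ⟨⟨s₁, hs₁X⟩, fun x => ?_⟩
      rw [Subgroup.mem_subgroupOf, Subgroup.mem_subgroupOf, hK, hK]
      have hx := (hX x.1).mp x.2
      have hxs : (x : Perm α) * s₁ ∈ N := mul_mem hx.1 hs₁N
      simp only [Subgroup.coe_mul, Perm.mul_apply, hs₁a, hs₁b]
      unfold Xor
      grind
    have h1 := Subgroup.card_mul_index (K.subgroupOf X₂)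
    rw [hidx, Nat.card_congr (Subgroup.subgroupOfEquivOfLe hKX).toEquiv] at h1
    omega
  have hKpos : Nat.card K ≠ 0 := Nat.card_pos.ne'
  -- a Sylow 2-subgroup of `X₂`
  have : Fact (Nat.Prime 2) := ⟨Nat.prime_two⟩
  obtain ⟨T⟩ : Nonempty (Sylow 2 X₂) := inferInstance
  obtain ⟨T', hT'def⟩ : ∃ T' : Subgroup (Perm α), T' = (T : Subgroup X₂).map X₂.subtype :=
    ⟨_, rfl⟩
  have hT'P : IsPGroup 2 T' := by
    rw [hT'def]
    exact T.isPGroup'.map _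
  have hT'X : T' ≤ X₂ := by
    rw [hT'def]
    exact Subgroup.map_subtype_le _
  have hT'card : Nat.card T' = 2 ^ ((Nat.card K).factorization 2 + 1) := by
    rw [hT'def, Subgroup.card_map_of_injective X₂.subtype_injective, Sylow.card_eq_multiplicity,
      hcard, Nat.factorization_mul (by norm_num) hKpos, Finsupp.add_apply,
      Nat.Prime.factorization_self Nat.prime_two, add_comm]
  have hbig : ∀ H : Subgroup (Perm α), Nat.card H = Nat.card K → ¬ T' ≤ H := by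
    intro H hH hle
    have h1 := Subgroup.card_dvd_of_le hle
    rw [hT'card, hH] at h1
    exact Nat.pow_succ_factorization_not_dvd hKpos Nat.prime_two h1
  obtain ⟨τ, hτT, hτK⟩ : ∃ τ ∈ T', τ ∉ K := by
    by_contra hcon
    apply hbig K rfl
    intro t ht
    by_contra htK
    exact hcon ⟨t, ht, htK⟩
  have hτX := (hX τ).mp (hT'X hτT)
  have hτ : τ a = b ∧ τ b = a := by
    rcases hτX.2 with h | h
    · exact absurd ((hK τ).mpr ⟨hτX.1, h⟩) hτK
    · exact h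
  -- the fixed point of `T'`
  have hne2 : ¬ 2 ∣ Nat.card α := by
    rw [Nat.card_eq_fintype_card]
    exact hodd.not_two_dvd_nat
  obtain ⟨c₀, hc₀'⟩ := hT'P.nonempty_fixed_point_of_prime_not_dvd_card α hne2
  have hc₀ : ∀ t ∈ T', t c₀ = c₀ := fun t ht => hc₀' ⟨t, ht⟩
  have hc₀a : c₀ ≠ a := by
    intro h
    have h1 := hc₀ τ hτT
    rw [h, hτ.1] at h1
    exact hab h1.symm
  have hc₀b : c₀ ≠ b := by
    intro h
    have h1 := hc₀ τ hτT
    rw [h, hτ.2] at h1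
    exact hab h1
  have huniq : ∀ z, (∀ t ∈ T', t z = z) → z = c₀ := by
    intro z hz
    by_contra hzc
    obtain ⟨x, hxN, hxa, hxb⟩ := hN2 a b z c₀ hab hzc
    apply hbig (K.map (MulAut.conj x).toMonoidHom)
      (Subgroup.card_map_of_injective (MulAut.conj x).injective)
    intro t ht
    rw [Subgroup.mem_map_equiv, MulAut.conj_symm_apply, hK]
    refine ⟨mul_mem (mul_mem (inv_mem hxN) ((hX t).mp (hT'X ht)).1) hxN, ?_, ?_⟩
    · rw [Perm.mul_apply, Perm.mul_apply, hxa, hz t ht, Perm.inv_eq_iff_eq, hxa]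
    · rw [Perm.mul_apply, Perm.mul_apply, hxb, hc₀ t ht, Perm.inv_eq_iff_eq, hxb]
  -- `X₂` preserves the `K`-orbits
  have h3d : ∀ x ∈ X₂, ∀ c, c ≠ a → c ≠ b → ∃ κ ∈ K, κ c = x c := by
    intro x hx c hca hcb
    rcases ((hX x).mp hx).2 with h | h
    · exact ⟨x, (hK x).mpr ⟨((hX x).mp hx).1, h⟩, rfl⟩
    · obtain ⟨s, hsN, hsa, hsb, hsc⟩ := hA a b c hab (Ne.symm hca) (Ne.symm hcb)
      have e1 : s⁻¹ a = b := by rw [Perm.inv_eq_iff_eq, hsb]
      have e2 : s⁻¹ b = a := by rw [Perm.inv_eq_iff_eq, hsa]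
      have e3 : s⁻¹ c = c := by rw [Perm.inv_eq_iff_eq, hsc]
      refine ⟨x * s⁻¹, (hK _).mpr ⟨mul_mem ((hX x).mp hx).1 (inv_mem hsN), ?_, ?_⟩, ?_⟩
      · rw [Perm.mul_apply, e1, h.2]
      · rw [Perm.mul_apply, e2, h.1]
      · rw [Perm.mul_apply, e3]
  -- the `K`-orbits
  obtain ⟨Δ, hΔ⟩ : ∃ Δ : α → Set α, ∀ c z, z ∈ Δ c ↔ ∃ κ ∈ K, κ c = z :=
    ⟨fun c => {z | ∃ κ ∈ K, κ c = z}, fun c z => Iff.rfl⟩
  have hΔinv : ∀ c, c ≠ a → c ≠ b → ∀ t ∈ T', ∀ z ∈ Δ c, t z ∈ Δ c := by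
    intro c hca hcb t ht z hz
    obtain ⟨κ, hκ, hκz⟩ := (hΔ c z).mp hz
    obtain ⟨κ', hκ', e⟩ := h3d (t * κ) (mul_mem (hT'X ht) (hKX hκ)) c hca hcb
    exact (hΔ c _).mpr ⟨κ', hκ', by rw [e, Perm.mul_apply, hκz]⟩
  have hΔcard : ∀ c, c ≠ a → c ≠ b → Nat.card (Δ c) = Nat.card (Δ c₀) := by
    intro c hca hcb
    obtain ⟨h, hhG, ha', hb', hc'⟩ := hG3 a b c₀ a b c hab (Ne.symm hc₀a) (Ne.symm hc₀b) hab
      (Ne.symm hca) (Ne.symm hcb)
    have ha'' : h⁻¹ a = a := by rw [Perm.inv_eq_iff_eq, ha']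
    have hb'' : h⁻¹ b = b := by rw [Perm.inv_eq_iff_eq, hb']
    have himg : Δ c = (fun z => h z) '' Δ c₀ := by
      ext z
      constructor
      · intro hz
        obtain ⟨κ, hκ, hκz⟩ := (hΔ c z).mp hz
        have hκ' := (hK κ).mp hκ
        refine ⟨(h⁻¹ * κ * h) c₀, (hΔ c₀ _).mpr ⟨h⁻¹ * κ * h, ?_, rfl⟩, ?_⟩
        · rw [hK]
          have h1 := hnorm h⁻¹ (inv_mem hhG) κ hκ'.1
          rw [inv_inv] at h1
          refine ⟨h1, ?_, ?_⟩
          · rw [Perm.mul_apply, Perm.mul_apply, ha', hκ'.2.1, ha'']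
          · rw [Perm.mul_apply, Perm.mul_apply, hb', hκ'.2.2, hb'']
        · show h ((h⁻¹ * κ * h) c₀) = z
          rw [Perm.mul_apply, Perm.mul_apply, app_inv, hc', hκz]
      · rintro ⟨w, hw, rfl⟩
        obtain ⟨κ, hκ, hκw⟩ := (hΔ c₀ w).mp hw
        have hκ' := (hK κ).mp hκ
        refine (hΔ c _).mpr ⟨h * κ * h⁻¹, ?_, ?_⟩
        · rw [hK]
          refine ⟨hnorm h hhG κ hκ'.1, ?_, ?_⟩
          · rw [Perm.mul_apply, Perm.mul_apply, ha'', hκ'.2.1, ha']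
          · rw [Perm.mul_apply, Perm.mul_apply, hb'', hκ'.2.2, hb']
        · rw [Perm.mul_apply, Perm.mul_apply, ← hc', inv_app, hκw]
    rw [himg]
    exact Nat.card_image_of_injective h.injective _
  have hodd₀ : Odd (Nat.card (Δ c₀)) :=
    P2 T' hT'P (Δ c₀) (hΔinv c₀ hc₀a hc₀b) c₀ ((hΔ c₀ c₀).mpr ⟨1, one_mem K, rfl⟩) hc₀
      (fun z _ hz => huniq z hz)
  refine ⟨c₀, hc₀a, hc₀b, fun c hca hcb => ?_⟩
  have hoddc : Odd (Nat.card (Δ c)) := by
    rw [hΔcard c hca hcb]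
    exact hodd₀
  obtain ⟨z, hzΔ, hz⟩ := P1 T' hT'P (Δ c) (hΔinv c hca hcb) hoddc
  obtain ⟨κ, hκ, hκz⟩ := (hΔ c z).mp hzΔ
  have hzc := huniq z hz
  have hκ' := (hK κ).mp hκ
  refine ⟨κ⁻¹, inv_mem hκ'.1, ?_, ?_, ?_⟩
  · rw [Perm.inv_eq_iff_eq, hκ'.2.1]
  · rw [Perm.inv_eq_iff_eq, hκ'.2.2]
  · rw [Perm.inv_eq_iff_eq, hκz, hzc]


/-- Wagner's theorem, elementwise form for subgroups of `Perm α`. -/
theorem core (G N : Subgroup (Perm α))
    (hnorm : ∀ g ∈ G, ∀ x ∈ N, g * x * g⁻¹ ∈ N) (hodd : Odd (Fintype.card α))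
    (hG3 : ∀ a b c a' b' c' : α, a ≠ b → a ≠ c → b ≠ c → a' ≠ b' → a' ≠ c' → b' ≠ c' →
      ∃ g ∈ G, g a = a' ∧ g b = b' ∧ g c = c')
    (hN2 : ∀ a b a' b' : α, a ≠ b → a' ≠ b' → ∃ s ∈ N, s a = a' ∧ s b = b') :
    ∀ a b c a' b' c' : α, a ≠ b → a ≠ c → b ≠ c → a' ≠ b' → a' ≠ c' → b' ≠ c' →
      ∃ s ∈ N, s a = a' ∧ s b = b' ∧ s c = c' := by
  intro a b c a' b' c' hab hac hbc hab' hac' hbc'
  obtain ⟨n₁, hn₁, e1, e2⟩ := hN2 a b a' b' hab hab'
  obtain ⟨c₀, hc₀a, hc₀b, hB⟩ := stepB G N hnorm hodd hG3 hN2 a' b' hab'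
  have hu1 : n₁ c ≠ a' := by
    intro h
    rw [← e1] at h
    exact hac (n₁.injective h).symm
  have hu2 : n₁ c ≠ b' := by
    intro h
    rw [← e2] at h
    exact hbc (n₁.injective h).symm
  obtain ⟨κ₁, hκ₁, f1, f2, f3⟩ := hB (n₁ c) hu1 hu2
  obtain ⟨κ₂, hκ₂, g1, g2, g3⟩ := hB c' (Ne.symm hac') (Ne.symm hbc')
  have i1 : κ₁⁻¹ a' = a' := by rw [Perm.inv_eq_iff_eq, f1]
  have i2 : κ₁⁻¹ b' = b' := by rw [Perm.inv_eq_iff_eq, f2]
  have i3 : κ₁⁻¹ (n₁ c) = c₀ := by rw [Perm.inv_eq_iff_eq, f3]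
  refine ⟨κ₂ * κ₁⁻¹ * n₁, mul_mem (mul_mem hκ₂ (inv_mem hκ₁)) hn₁, ?_, ?_, ?_⟩
  · rw [Perm.mul_apply, Perm.mul_apply, e1, i1, g1]
  · rw [Perm.mul_apply, Perm.mul_apply, e2, i2, g2]
  · rw [Perm.mul_apply, Perm.mul_apply, i3, g3]

omit [Fintype α] [DecidableEq α] in
theorem emb3 {a b c : α} (hab : a ≠ b) (hac : a ≠ c) (hbc : b ≠ c) :
    ∃ x : Fin 3 ↪ α, x 0 = a ∧ x 1 = b ∧ x 2 = c :=
  ⟨⟨![a, b, c], by
    intro i j h
    fin_cases i <;> fin_cases j <;> simp_all⟩, rfl, rfl, rfl⟩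

omit [Fintype α] [DecidableEq α] in
theorem emb2 {a b : α} (hab : a ≠ b) :
    ∃ x : Fin 2 ↪ α, x 0 = a ∧ x 1 = b :=
  ⟨⟨![a, b], by
    intro i j h
    fin_cases i <;> fin_cases j <;> simp_all⟩, rfl, rfl⟩

/-- Wagner's Theorem: a non-trivial normal subgroup of a triply transitive permutation group of odd degree at least 5 is triply transitive. -/
theorem result {α : Type*} [Fintype α] [DecidableEq α] (G : Subgroup (Equiv.Perm α)) (hodd : Odd (Fintype.card α)) (h5 : 5 ≤ Fintype.card α) (hG : MulAction.IsMultiplyPretransitive G α 3) (N : Subgroup G) [N.Normal] (hN : N ≠ ⊥) : MulAction.IsMultiplyPretransitive N α 3 := by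
  have hnorm : ∀ g ∈ G, ∀ x ∈ N.map G.subtype, g * x * g⁻¹ ∈ N.map G.subtype := by
    intro g hg x hx
    obtain ⟨n, hn, rfl⟩ := Subgroup.mem_map.mp hx
    exact Subgroup.mem_map.mpr ⟨⟨g, hg⟩ * n * ⟨g, hg⟩⁻¹,
      Subgroup.Normal.conj_mem inferInstance n hn ⟨g, hg⟩, rfl⟩
  have hG3 : ∀ a b c a' b' c' : α, a ≠ b → a ≠ c → b ≠ c → a' ≠ b' → a' ≠ c' → b' ≠ c' →
      ∃ g ∈ G, g a = a' ∧ g b = b' ∧ g c = c' := by
    intro a b c a' b' c' hab hac hbc hab' hac' hbc'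
    obtain ⟨x, x0, x1, x2⟩ := emb3 hab hac hbc
    obtain ⟨y, y0, y1, y2⟩ := emb3 hab' hac' hbc'
    obtain ⟨g, hg⟩ := MulAction.exists_smul_eq G x y
    refine ⟨g, g.2, ?_, ?_, ?_⟩
    · have h := congrArg (fun f : Fin 3 ↪ α => f 0) hg
      simp only [Function.Embedding.smul_apply, Subgroup.smul_def, Perm.smul_def, x0, y0] at h
      exact h
    · have h := congrArg (fun f : Fin 3 ↪ α => f 1) hg
      simp only [Function.Embedding.smul_apply, Subgroup.smul_def, Perm.smul_def, x1, y1] at h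
      exact h
    · have h := congrArg (fun f : Fin 3 ↪ α => f 2) hg
      simp only [Function.Embedding.smul_apply, Subgroup.smul_def, Perm.smul_def, x2, y2] at h
      exact h
  have hN2 : ∀ a b a' b' : α, a ≠ b → a' ≠ b' →
      ∃ s ∈ N.map G.subtype, s a = a' ∧ s b = b' := by
    rcases Cfsg.Agent.S0698.result G (k := 3) (by norm_num) (by omega) hG N hN with h2 | ⟨-, hcomm, hsq⟩
    · intro a b a' b' hab hab'
      obtain ⟨x, x0, x1⟩ := emb2 hab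
      obtain ⟨y, y0, y1⟩ := emb2 hab'
      have h2' : MulAction.IsMultiplyPretransitive N α 2 := h2
      obtain ⟨g, hg⟩ := MulAction.exists_smul_eq N x y
      refine ⟨((g : G) : Perm α), Subgroup.mem_map.mpr ⟨g, g.2, rfl⟩, ?_, ?_⟩
      · have h := congrArg (fun f : Fin 2 ↪ α => f 0) hg
        simp only [Function.Embedding.smul_apply, Subgroup.smul_def, Perm.smul_def, x0, y0] at h
        exact h
      · have h := congrArg (fun f : Fin 2 ↪ α => f 1) hg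
        simp only [Function.Embedding.smul_apply, Subgroup.smul_def, Perm.smul_def, x1, y1] at h
        exact h
    · exfalso
      -- an involution of `N` with a fixed point, and a conjugate not commuting with it
      obtain ⟨n, hnN, hn1⟩ : ∃ n ∈ N, n ≠ 1 := by
        by_contra hcon
        apply hN
        rw [Subgroup.eq_bot_iff_forall]
        intro n hn
        by_contra hne
        exact hcon ⟨n, hn, hne⟩
      have hs2 : (n : Perm α) ^ (2 ^ 1) = 1 := by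
        have := hsq n hnN
        rw [pow_one, ← Subgroup.coe_pow, this, Subgroup.coe_one]
      obtain ⟨c, hc⟩ := two_elt_fixed (n : Perm α) 1 hs2 hodd
      obtain ⟨a, ha⟩ : ∃ a, (n : Perm α) a ≠ a := by
        by_contra hcon
        apply hn1
        apply Subtype.ext
        apply Equiv.ext
        intro x
        by_contra hx
        exact hcon ⟨x, hx⟩
      have hac : a ≠ c := fun h => ha (h ▸ hc)
      have hbc : (n : Perm α) a ≠ c := by
        intro h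
        rw [← hc] at h
        exact hac ((n : Perm α).injective h)
      obtain ⟨g, hg, g1, g2, g3⟩ := hG3 c a ((n : Perm α) a) a ((n : Perm α) a) c (Ne.symm hac)
        (Ne.symm hbc) (Ne.symm ha) (Ne.symm ha) hac hbc
      have hconj : (⟨g, hg⟩ : G) * n * (⟨g, hg⟩ : G)⁻¹ ∈ N :=
        Subgroup.Normal.conj_mem inferInstance n hnN ⟨g, hg⟩
      have hcm := hcomm.is_comm.comm (⟨n, hnN⟩ : N) ⟨_, hconj⟩
      have hcm' := congrArg (fun z : N => ((z : G) : Perm α) a) hcm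
      simp only [Subgroup.coe_mul, Subgroup.coe_inv, Perm.mul_apply] at hcm'
      have k1 : g⁻¹ a = c := by rw [Perm.inv_eq_iff_eq, g1]
      have k2 : g⁻¹ ((n : Perm α) a) = a := by rw [Perm.inv_eq_iff_eq, g2]
      rw [k1, hc, g1, k2, g3] at hcm'
      exact hbc hcm'
  have key := core G (N.map G.subtype) hnorm hodd hG3 hN2
  rw [MulAction.isMultiplyPretransitive_iff]
  intro x y
  obtain ⟨s, hs, s0, s1, s2⟩ := key (x 0) (x 1) (x 2) (y 0) (y 1) (y 2)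
    (x.injective.ne (by decide)) (x.injective.ne (by decide)) (x.injective.ne (by decide))
    (y.injective.ne (by decide)) (y.injective.ne (by decide)) (y.injective.ne (by decide))
  obtain ⟨n, hn, rfl⟩ := Subgroup.mem_map.mp hs
  refine ⟨⟨n, hn⟩, ?_⟩
  ext i
  simp only [Function.Embedding.smul_apply, Subgroup.smul_def, Perm.smul_def]
  fin_cases i
  · exact s0
  · exact s1
  · exact s2

end Cfsg.Agent.S0699
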