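import Cfsg.Statements.S0701

set_option autoImplicit false
open Cfsg

namespace Cfsg.Agent.S0701

theorem regular_eq {α : Type*} (G : Subgroup (Equiv.Perm α)) (a : α)
    (h : MulAction.stabilizer G a = ⊥) (g k : G) (hgk : g • a = k • a) : g = k := by
  have : k⁻¹ * g ∈ MulAction.stabilizer G a := by
    rw [MulAction.mem_stabilizer_iff, mul_smul, hgk, inv_smul_smul]
  rw [h, Subgroup.mem_bot] at this
  have := congrArg (fun x => k * x) this
  simpa using this

/-- The centraliser in the full symmetric group of a transitive permutation group `G` is semiregular, and it is transitive if and only if `G` is regular. -/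
theorem result {α : Type*} (G : Subgroup (Equiv.Perm α)) [MulAction.IsPretransitive G α] : (∀ c ∈ Subgroup.centralizer (G : Set (Equiv.Perm α)), ∀ a : α, c a = a → c = 1) ∧ (MulAction.IsPretransitive (Subgroup.centralizer (G : Set (Equiv.Perm α))) α ↔ ∀ a : α, MulAction.stabilizer G a = ⊥) := by
  refine ⟨?_, ?_, ?_⟩
  · intro c hc a hca
    ext b
    obtain ⟨g, rfl⟩ := MulAction.exists_smul_eq G a b
    have h1 := Subgroup.mem_centralizer_iff.mp hc g.1 g.2
    have : c (g.1 a) = g.1 (c a) := by
      have := congrArg (fun f : Equiv.Perm α => f a) h1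
      simpa using this.symm
    change c (g.1 a) = g.1 a
    rw [this, hca]
  · intro hC a
    rw [eq_bot_iff]
    intro g hg
    rw [Subgroup.mem_bot]
    rw [MulAction.mem_stabilizer_iff] at hg
    apply Subtype.ext
    ext b
    obtain ⟨c, rfl⟩ := MulAction.exists_smul_eq (Subgroup.centralizer (G : Set (Equiv.Perm α))) a b
    have h1 := Subgroup.mem_centralizer_iff.mp c.2 g.1 g.2
    have h2 : g.1 (c.1 a) = c.1 (g.1 a) := by
      have := congrArg (fun f : Equiv.Perm α => f a) h1
      simpa using this
    have h3 : g.1 a = a := hg
    change g.1 (c.1 a) = c.1 a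
    rw [h2, h3]
  · intro hreg
    refine ⟨fun a b => ?_⟩
    have hex : ∀ (u x : α), ∃ g : G, g • u = x := fun u x => MulAction.exists_smul_eq G u x
    let γ : α → α → G := fun u x => Classical.choose (hex u x)
    have hγ : ∀ u x, γ u x • u = x := fun u x => Classical.choose_spec (hex u x)
    have hγ' : ∀ (u : α) (k : G), γ u (k • u) = k := fun u k =>
      regular_eq G u (hreg u) _ _ (hγ u (k • u))
    let c : Equiv.Perm α :=
      { toFun := fun x => γ a x • b
        invFun := fun x => γ b x • a
        left_inv := by
          intro x
          simp only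
          rw [hγ' b, hγ]
        right_inv := by
          intro x
          simp only
          rw [hγ' a, hγ] }
    have hc : c ∈ Subgroup.centralizer (G : Set (Equiv.Perm α)) := by
      rw [Subgroup.mem_centralizer_iff]
      intro k hk
      ext x
      change k (γ a x • b) = γ a (k x) • b
      have : γ a (k x) = ⟨k, hk⟩ * γ a x := by
        apply regular_eq G a (hreg a)
        rw [hγ, mul_smul, hγ]
        rfl
      rw [this, mul_smul]
      rfl
    refine ⟨⟨c, hc⟩, ?_⟩
    change γ a a • b = b
    have : γ a a = 1 := by
      apply regular_eq G a (hreg a)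
      rw [hγ, one_smul]
    rw [this, one_smul]

end Cfsg.Agent.S0701
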