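import Cfsg.Statements.S0702
import Mathlib

set_option autoImplicit false
open Cfsg

namespace Cfsg.Agent.S0702

/-- For a transitive permutation group `G` on a finite set, the centraliser of `G` in the symmetric group is isomorphic to `N_G(G_ω)/G_ω`, and its orbit of `ω` is the set of fixed points of `G_ω`. -/
theorem result {α : Type*} [Finite α] (G : Subgroup (Equiv.Perm α)) [MulAction.IsPretransitive G α] (a : α) : Nonempty (Subgroup.centralizer (G : Set (Equiv.Perm α)) ≃* Subgroup.normalizer ((MulAction.stabilizer G a : Subgroup G) : Set G) ⧸ (MulAction.stabilizer G a).subgroupOf (Subgroup.normalizer ((MulAction.stabilizer G a : Subgroup G) : Set G))) ∧ MulAction.orbit (Subgroup.centralizer (G : Set (Equiv.Perm α))) a = MulAction.fixedPoints (MulAction.stabilizer G a) α := by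
  classical
  have hsm : ∀ (g : G) (x : α), g • x = (g : Equiv.Perm α) x := fun _ _ => rfl
  have hex : ∀ x : α, ∃ g : G, g • a = x := fun x => MulAction.exists_smul_eq G a x
  choose γ hγ using hex
  have hwd : ∀ (n : G), n ∈ Subgroup.normalizer ((MulAction.stabilizer G a : Subgroup G) : Set G) →
      ∀ g : G, (γ (g • a) * n⁻¹) • a = (g * n⁻¹) • a := by
    intro n hn g
    have hs : g⁻¹ * γ (g • a) ∈ MulAction.stabilizer G a := by
      rw [MulAction.mem_stabilizer_iff, mul_smul, hγ, inv_smul_smul]
    have hs' : n * (g⁻¹ * γ (g • a)) * n⁻¹ ∈ MulAction.stabilizer G a :=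
      (Subgroup.mem_normalizer_iff.mp hn _).mp hs
    rw [MulAction.mem_stabilizer_iff] at hs'
    calc (γ (g • a) * n⁻¹) • a = (g * n⁻¹ * (n * (g⁻¹ * γ (g • a)) * n⁻¹)) • a := by
          congr 1
          group
      _ = (g * n⁻¹) • a := by rw [mul_smul, hs']
  -- elements of the centraliser commute with the action
  have hCcomm : ∀ c ∈ Subgroup.centralizer (G : Set (Equiv.Perm α)), ∀ (g : G) (x : α),
      c (g • x) = g • c x := by
    intro c hc g x
    have h1 := Subgroup.mem_centralizer_iff.mp hc g.1 g.2
    have h2 := congrArg (fun f : Equiv.Perm α => f x) h1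
    exact h2.symm
  have hCeq : ∀ c ∈ Subgroup.centralizer (G : Set (Equiv.Perm α)),
      ∀ c' ∈ Subgroup.centralizer (G : Set (Equiv.Perm α)), c a = c' a → c = c' := by
    intro c hc c' hc' h
    ext x
    obtain ⟨g, rfl⟩ := MulAction.exists_smul_eq G a x
    rw [hCcomm c hc, hCcomm c' hc', h]
  have hnorm : ∀ n : G, (∀ s ∈ MulAction.stabilizer G a, n * s * n⁻¹ ∈ MulAction.stabilizer G a) →
      n ∈ Subgroup.normalizer ((MulAction.stabilizer G a : Subgroup G) : Set G) := by
    intro n hn
    have hinj : Function.Injective (fun s : MulAction.stabilizer G a =>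
        (⟨n * s * n⁻¹, hn s s.2⟩ : MulAction.stabilizer G a)) := by
      intro s t hst
      have h1 : n * (s : G) * n⁻¹ = n * (t : G) * n⁻¹ := congrArg Subtype.val hst
      apply Subtype.ext
      have h2 := congrArg (fun x => n⁻¹ * x * n) h1
      simpa [mul_assoc] using h2
    have hsurj := Finite.injective_iff_surjective.mp hinj
    rw [Subgroup.mem_normalizer_iff]
    intro h
    refine ⟨fun hh => hn h hh, fun hh => ?_⟩
    obtain ⟨s, hs⟩ := hsurj ⟨n * h * n⁻¹, hh⟩
    have h1 : n * (s : G) * n⁻¹ = n * h * n⁻¹ := congrArg Subtype.val hs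
    have h2 := congrArg (fun x => n⁻¹ * x * n) h1
    have h3 : (s : G) = h := by simpa [mul_assoc] using h2
    rw [← h3]
    exact s.2
  let cfun : G → α → α := fun n x => (γ x * n⁻¹) • a
  have hc_apply : ∀ n ∈ Subgroup.normalizer ((MulAction.stabilizer G a : Subgroup G) : Set G),
      ∀ g : G, cfun n (g • a) = (g * n⁻¹) • a := fun n hn g => hwd n hn g
  let cperm : Subgroup.normalizer ((MulAction.stabilizer G a : Subgroup G) : Set G) →
      Equiv.Perm α := fun n =>
    { toFun := cfun n
      invFun := cfun (n : G)⁻¹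
      left_inv := by
        intro x
        obtain ⟨g, rfl⟩ := MulAction.exists_smul_eq G a x
        rw [hc_apply n n.2, hc_apply _ (inv_mem n.2)]
        simp
      right_inv := by
        intro x
        obtain ⟨g, rfl⟩ := MulAction.exists_smul_eq G a x
        rw [hc_apply _ (inv_mem n.2), hc_apply n n.2]
        simp }
  have hcperm : ∀ (n : Subgroup.normalizer ((MulAction.stabilizer G a : Subgroup G) : Set G))
      (g : G), cperm n (g • a) = (g * (n : G)⁻¹) • a := fun n g => hc_apply n n.2 g
  have hcmem : ∀ n : Subgroup.normalizer ((MulAction.stabilizer G a : Subgroup G) : Set G),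
      cperm n ∈ Subgroup.centralizer (G : Set (Equiv.Perm α)) := by
    intro n
    rw [Subgroup.mem_centralizer_iff]
    intro h hh
    ext x
    obtain ⟨g, rfl⟩ := MulAction.exists_smul_eq G a x
    change h (cperm n (g • a)) = cperm n (h (g • a))
    have e1 : h (g • a) = ((⟨h, hh⟩ : G) * g) • a := by
      rw [mul_smul]
      rfl
    rw [e1, hcperm, hcperm, mul_assoc, mul_smul]
    rfl
  let ψ : Subgroup.normalizer ((MulAction.stabilizer G a : Subgroup G) : Set G) →*
      Subgroup.centralizer (G : Set (Equiv.Perm α)) :=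
    { toFun := fun n => ⟨cperm n, hcmem n⟩
      map_one' := by
        apply Subtype.ext
        ext x
        obtain ⟨g, rfl⟩ := MulAction.exists_smul_eq G a x
        change cperm 1 (g • a) = g • a
        rw [hcperm]
        simp
      map_mul' := by
        intro n m
        apply Subtype.ext
        ext x
        obtain ⟨g, rfl⟩ := MulAction.exists_smul_eq G a x
        change cperm (n * m) (g • a) = cperm n (cperm m (g • a))
        rw [hcperm, hcperm, hcperm]
        simp [mul_assoc] }
  have hψ : ∀ n, ((ψ n : Subgroup.centralizer (G : Set (Equiv.Perm α))) : Equiv.Perm α) = cperm n :=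
    fun n => rfl
  have hcperm_a : ∀ (n : Subgroup.normalizer ((MulAction.stabilizer G a : Subgroup G) : Set G)),
      cperm n a = (n : G)⁻¹ • a := by
    intro n
    have := hcperm n 1
    rwa [one_smul, one_mul] at this
  -- fixed points give normalising elements
  have hfixnorm : ∀ g₀ : G, (∀ s ∈ MulAction.stabilizer G a, s • (g₀ • a) = g₀ • a) →
      g₀⁻¹ ∈ Subgroup.normalizer ((MulAction.stabilizer G a : Subgroup G) : Set G) := by
    intro g₀ h
    apply hnorm
    intro s hs
    rw [MulAction.mem_stabilizer_iff, mul_smul, mul_smul, inv_inv, h s hs, inv_smul_smul]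
  have hsurj : Function.Surjective ψ := by
    rintro ⟨c, hc⟩
    obtain ⟨g₀, hg₀⟩ := MulAction.exists_smul_eq G a (c a)
    have hn : g₀⁻¹ ∈ Subgroup.normalizer ((MulAction.stabilizer G a : Subgroup G) : Set G) := by
      apply hfixnorm
      intro s hs
      rw [MulAction.mem_stabilizer_iff] at hs
      rw [hg₀, ← hCcomm c hc, hs]
    refine ⟨⟨g₀⁻¹, hn⟩, ?_⟩
    apply Subtype.ext
    apply hCeq _ (hcmem _) c hc
    rw [hcperm_a]
    simp [hg₀]
  have hker : ψ.ker = (MulAction.stabilizer G a).subgroupOf
      (Subgroup.normalizer ((MulAction.stabilizer G a : Subgroup G) : Set G)) := by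
    ext n
    rw [MonoidHom.mem_ker, Subgroup.mem_subgroupOf, MulAction.mem_stabilizer_iff]
    constructor
    · intro h
      have h1 : cperm n a = a := by
        have := congrArg (fun c : Subgroup.centralizer (G : Set (Equiv.Perm α)) =>
          (c : Equiv.Perm α) a) h
        exact this
      rw [hcperm_a] at h1
      exact (inv_smul_eq_iff.mp h1).symm
    · intro h
      apply Subtype.ext
      apply hCeq _ (hcmem _) _ (one_mem _)
      rw [hcperm_a]
      exact inv_smul_eq_iff.mpr h.symm
  refine ⟨⟨((QuotientGroup.quotientMulEquivOfEq hker).symm.trans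
    (QuotientGroup.quotientKerEquivOfSurjective ψ hsurj)).symm⟩, ?_⟩
  ext b
  constructor
  · rintro ⟨c, rfl⟩
    rw [MulAction.mem_fixedPoints]
    intro s
    change (s : G) • ((c : Equiv.Perm α) a) = (c : Equiv.Perm α) a
    rw [← hCcomm c.1 c.2, s.2]
  · intro hb
    rw [MulAction.mem_fixedPoints] at hb
    obtain ⟨g₀, rfl⟩ := MulAction.exists_smul_eq G a b
    have hn : g₀⁻¹ ∈ Subgroup.normalizer ((MulAction.stabilizer G a : Subgroup G) : Set G) := by
      apply hfixnorm
      intro s hs
      exact hb ⟨s, hs⟩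
    refine ⟨ψ ⟨g₀⁻¹, hn⟩, ?_⟩
    change cperm ⟨g₀⁻¹, hn⟩ a = g₀ • a
    rw [hcperm_a]
    simp

end Cfsg.Agent.S0702
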