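import Cfsg.Statements.S0703
import Mathlib

set_option autoImplicit false
open Cfsg

namespace Cfsg.Agent.S0703

/-- An abelian transitive minimal normal subgroup `M` of a permutation group on a finite set is self-centralising in the symmetric group, regular, elementary abelian, and is the unique minimal normal subgroup. -/
theorem result {α : Type*} [Finite α] (G : Subgroup (Equiv.Perm α)) (M : Subgroup G) [M.Normal] (hM : M ≠ ⊥) (hmin : ∀ L : Subgroup G, L.Normal → L ≤ M → L = ⊥ ∨ L = M) (hab : IsMulCommutative M) (htrans : MulAction.IsPretransitive M α) : Subgroup.centralizer ((M.map G.subtype : Subgroup (Equiv.Perm α)) : Set (Equiv.Perm α)) = M.map G.subtype ∧ (∀ a : α, MulAction.stabilizer M a = ⊥) ∧ (∃ p : ℕ, p.Prime ∧ ∀ m ∈ M, m ^ p = 1) ∧ ∀ L : Subgroup G, L.Normal → L ≠ ⊥ → (∀ L' : Subgroup G, L'.Normal → L' ≤ L → L' = ⊥ ∨ L' = L) → L = M := by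
  have hcomm : ∀ m n : M, m * n = n * m := isMulCommutative_iff.mp hab
  have hsmul : ∀ (m : M) (a : α), m • a = ((m : G) : Equiv.Perm α) a := fun _ _ => rfl
  -- regularity
  have hreg : ∀ a : α, MulAction.stabilizer M a = ⊥ := by
    intro a
    rw [eq_bot_iff]
    intro m hm
    rw [MulAction.mem_stabilizer_iff] at hm
    rw [Subgroup.mem_bot]
    apply Subtype.ext
    apply Subtype.ext
    ext b
    obtain ⟨n, rfl⟩ := MulAction.exists_smul_eq M a b
    change m • (n • a) = n • a
    rw [← mul_smul, hcomm, mul_smul, hm]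
  -- a point
  have hne : Nonempty α := by
    by_contra hne
    rw [not_nonempty_iff] at hne
    apply hM
    rw [eq_bot_iff]
    intro m _
    rw [Subgroup.mem_bot]
    apply Subtype.ext
    ext b
    exact (hne.false b).elim
  obtain ⟨a⟩ := hne
  have himg : (M.map G.subtype : Subgroup (Equiv.Perm α)) ≤
      Subgroup.centralizer ((M.map G.subtype : Subgroup (Equiv.Perm α)) : Set (Equiv.Perm α)) := by
    intro x hx
    rw [Subgroup.mem_centralizer_iff]
    intro y hy
    obtain ⟨m, hm, rfl⟩ := Subgroup.mem_map.mp hx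
    obtain ⟨n, hn, rfl⟩ := Subgroup.mem_map.mp hy
    have := hcomm ⟨n, hn⟩ ⟨m, hm⟩
    have h2 : n * m = m * n := congrArg Subtype.val this
    rw [← map_mul, ← map_mul, h2]
  have hcent : Subgroup.centralizer ((M.map G.subtype : Subgroup (Equiv.Perm α)) : Set (Equiv.Perm α))
      = M.map G.subtype := by
    apply le_antisymm _ himg
    intro c hc
    obtain ⟨m, hm⟩ := MulAction.exists_smul_eq M a (c a)
    have hmmem : ((m : G) : Equiv.Perm α) ∈ (M.map G.subtype : Subgroup (Equiv.Perm α)) :=
      Subgroup.mem_map.mpr ⟨m, m.2, rfl⟩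
    have hd : ((m : G) : Equiv.Perm α)⁻¹ * c ∈
        Subgroup.centralizer ((M.map G.subtype : Subgroup (Equiv.Perm α)) : Set (Equiv.Perm α)) :=
      mul_mem (inv_mem (himg hmmem)) hc
    have hda : (((m : G) : Equiv.Perm α)⁻¹ * c) a = a := by
      rw [Equiv.Perm.mul_apply, ← hm, hsmul, Equiv.Perm.inv_eq_iff_eq]
    have hd1 : ((m : G) : Equiv.Perm α)⁻¹ * c = 1 := by
      ext b
      obtain ⟨n, rfl⟩ := MulAction.exists_smul_eq M a b
      have hn : ((n : G) : Equiv.Perm α) ∈ (M.map G.subtype : Subgroup (Equiv.Perm α)) :=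
        Subgroup.mem_map.mpr ⟨n, n.2, rfl⟩
      have h1 := Subgroup.mem_centralizer_iff.mp hd _ hn
      have h2 := congrArg (fun f : Equiv.Perm α => f a) h1
      simp only [Equiv.Perm.mul_apply] at h2
      have hda' : ((m : G) : Equiv.Perm α)⁻¹ (c a) = a := hda
      rw [hsmul, Equiv.Perm.one_apply, Equiv.Perm.mul_apply, ← h2, hda']
    have hc' : c = ((m : G) : Equiv.Perm α) := by
      have := congrArg (fun x => ((m : G) : Equiv.Perm α) * x) hd1
      simpa using this
    rw [hc']
    exact hmmem
  refine ⟨hcent, hreg, ?_, ?_⟩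
  · -- elementary abelian
    have hMnt : Nontrivial M := by
      rw [Subgroup.nontrivial_iff_ne_bot]
      exact hM
    have hcard : 1 < Nat.card M := Finite.one_lt_card
    obtain ⟨p, hp, hpd⟩ := Nat.exists_prime_and_dvd (ne_of_gt hcard)
    refine ⟨p, hp, ?_⟩
    have := Fact.mk hp
    obtain ⟨x, hx⟩ := exists_prime_orderOf_dvd_card' p hpd
    let L : Subgroup G :=
      { carrier := {g | g ∈ M ∧ g ^ p = 1}
        one_mem' := ⟨one_mem _, one_pow _⟩
        mul_mem' := by
          rintro g h ⟨hg, hgp⟩ ⟨hh, hhp⟩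
          refine ⟨mul_mem hg hh, ?_⟩
          have hc : Commute g h := congrArg Subtype.val (hcomm ⟨g, hg⟩ ⟨h, hh⟩)
          rw [hc.mul_pow, hgp, hhp, one_mul]
        inv_mem' := by
          rintro g ⟨hg, hgp⟩
          exact ⟨inv_mem hg, by rw [inv_pow, hgp, inv_one]⟩ }
    have hLn : L.Normal := by
      constructor
      intro n hn g
      obtain ⟨hn1, hn2⟩ := hn
      refine ⟨‹M.Normal›.conj_mem n hn1 g, ?_⟩
      rw [conj_pow, hn2, mul_one, mul_inv_cancel]
    have hLM : L ≤ M := fun g hg => hg.1
    have hLne : L ≠ ⊥ := by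
      intro h
      have hxL : (x : G) ∈ L := by
        refine ⟨x.2, ?_⟩
        have := pow_orderOf_eq_one x
        rw [hx] at this
        exact_mod_cast congrArg Subtype.val this
      rw [h, Subgroup.mem_bot] at hxL
      have hx1 : x = 1 := Subtype.ext hxL
      rw [hx1, orderOf_one] at hx
      exact hp.one_lt.ne hx
    rcases hmin L hLn hLM with h | h
    · exact absurd h hLne
    · intro m hm
      rw [← h] at hm
      exact hm.2
  · -- uniqueness
    intro L hLn hLne hLmin
    have := hLn
    have hLMn : (L ⊓ M).Normal := inferInstance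
    rcases hLmin (L ⊓ M) hLMn inf_le_left with h | h
    · exfalso
      apply hLne
      rw [eq_bot_iff]
      intro l hl
      rw [Subgroup.mem_bot]
      have hlc : (l : Equiv.Perm α) ∈
          Subgroup.centralizer ((M.map G.subtype : Subgroup (Equiv.Perm α)) : Set (Equiv.Perm α)) := by
        rw [Subgroup.mem_centralizer_iff]
        intro y hy
        obtain ⟨m, hm, rfl⟩ := Subgroup.mem_map.mp hy
        have hcm : l * m * l⁻¹ * m⁻¹ ∈ L ⊓ M := by
          refine Subgroup.mem_inf.mpr ⟨?_, ?_⟩
          · have : l * m * l⁻¹ * m⁻¹ = l * (m * l⁻¹ * m⁻¹) := by group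
            rw [this]
            exact mul_mem hl (hLn.conj_mem _ (inv_mem hl) m)
          · exact mul_mem (‹M.Normal›.conj_mem m hm l) (inv_mem hm)
        rw [h, Subgroup.mem_bot] at hcm
        have hlm : l * m = m * l := by
          have := congrArg (fun x => x * m * l) hcm
          simpa [mul_assoc] using this
        have := congrArg (fun x : G => (x : Equiv.Perm α)) hlm
        simpa using this.symm
      rw [hcent] at hlc
      obtain ⟨m, hm, hml⟩ := Subgroup.mem_map.mp hlc
      have hml' : m = l := Subtype.ext hml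
      have : l ∈ L ⊓ M := Subgroup.mem_inf.mpr ⟨hl, hml' ▸ hm⟩
      rw [h, Subgroup.mem_bot] at this
      exact this
    · have hLM : L ≤ M := by
        rw [← h]
        exact inf_le_right
      rcases hmin L hLn hLM with h' | h'
      · exact absurd h' hLne
      · exact h'

end Cfsg.Agent.S0703
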