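import Mathlib
import Cfsg.Statements.S0704

set_option autoImplicit false
open Cfsg

namespace Cfsg.Agent.S0704

open MulAction

lemma disj {G : Type*} [Group G] (L M : Subgroup G) [L.Normal] [M.Normal] (hL : L ≠ ⊥)
    (hLmin : ∀ L' : Subgroup G, L'.Normal → L' ≤ L → L' = ⊥ ∨ L' = L)
    (hMmin : ∀ L' : Subgroup G, L'.Normal → L' ≤ M → L' = ⊥ ∨ L' = M) (hne : L ≠ M) :
    Disjoint L M := by
  rw [disjoint_iff]
  rcases hLmin (L ⊓ M) inferInstance inf_le_left with h | h
  · exact h
  · have hLM : L ≤ M := by rw [← h]; exact inf_le_right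
    rcases hMmin L inferInstance hLM with h' | h'
    · exact absurd h' hL
    · exact absurd h' hne

lemma semireg {α : Type*} (S : Set (Equiv.Perm α)) (htr : ∀ a x : α, ∃ τ ∈ S, τ a = x)
    (σ : Equiv.Perm α) (hσ : ∀ τ ∈ S, τ * σ = σ * τ) (a : α) (ha : σ a = a) : σ = 1 := by
  ext x
  obtain ⟨τ, hτ, rfl⟩ := htr a x
  have h := congrArg (fun f : Equiv.Perm α => f a) (hσ τ hτ)
  simp only [Equiv.Perm.coe_mul, Function.comp_apply] at h
  rw [← h, ha]; rfl

lemma centr {α : Type*} (A B : Subgroup (Equiv.Perm α)) [Nonempty α]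
    (htrA : ∀ a x : α, ∃ τ ∈ A, τ a = x) (htrB : ∀ a x : α, ∃ τ ∈ B, τ a = x)
    (hc : ∀ σ ∈ A, ∀ τ ∈ B, σ * τ = τ * σ) :
    Subgroup.centralizer (A : Set (Equiv.Perm α)) = B := by
  apply le_antisymm
  · intro σ hσ
    rw [Subgroup.mem_centralizer_iff] at hσ
    obtain ⟨a⟩ : Nonempty α := inferInstance
    obtain ⟨ν, hν, hνa⟩ := htrB a (σ a)
    have h1 : ν⁻¹ * σ = 1 := by
      apply semireg (A : Set (Equiv.Perm α)) htrA _ _ a
      · rw [Equiv.Perm.mul_apply, ← hνa]
        exact ν.symm_apply_apply a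
      · intro τ' hτ'
        have e1 := hσ τ' hτ'
        have e2 := hc τ' hτ' ν hν
        have e3 : τ' * ν⁻¹ = ν⁻¹ * τ' := by
          rw [eq_inv_mul_iff_mul_eq, ← mul_assoc, ← e2, mul_assoc, mul_inv_cancel, mul_one]
        rw [← mul_assoc, e3, mul_assoc, e1, mul_assoc]
    have h2 : σ = ν := by
      rw [inv_mul_eq_one] at h1; exact h1.symm
    rw [h2]; exact hν
  · intro τ hτ
    rw [Subgroup.mem_centralizer_iff]
    intro σ hσ
    exact hc σ hσ τ hτ

/-- Two distinct transitive minimal normal subgroups `M`, `N` of a permutation group are regular, non-abelian, isomorphic, each other's centraliser in the symmetric group, and the only minimal normal subgroups. -/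
theorem result {α : Type*} (G : Subgroup (Equiv.Perm α)) (M N : Subgroup G) [M.Normal] [N.Normal] (hM : M ≠ ⊥) (hN : N ≠ ⊥) (hMmin : ∀ L : Subgroup G, L.Normal → L ≤ M → L = ⊥ ∨ L = M) (hNmin : ∀ L : Subgroup G, L.Normal → L ≤ N → L = ⊥ ∨ L = N) (hMN : M ≠ N) (hMt : MulAction.IsPretransitive M α) (hNt : MulAction.IsPretransitive N α) : (∀ a : α, MulAction.stabilizer M a = ⊥) ∧ (∀ a : α, MulAction.stabilizer N a = ⊥) ∧ ¬ IsMulCommutative M ∧ Nonempty (M ≃* N) ∧ Subgroup.centralizer ((M.map G.subtype : Subgroup (Equiv.Perm α)) : Set (Equiv.Perm α)) = N.map G.subtype ∧ Subgroup.centralizer ((N.map G.subtype : Subgroup (Equiv.Perm α)) : Set (Equiv.Perm α)) = M.map G.subtype ∧ ∀ L : Subgroup G, L.Normal → L ≠ ⊥ → (∀ L' : Subgroup G, L'.Normal → L' ≤ L → L' = ⊥ ∨ L' = L) → L = M ∨ L = N := by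
  have hMNd : Disjoint M N := disj M N hM hMmin hNmin hMN
  have hcomm : ∀ m ∈ M, ∀ n ∈ N, m * n = n * m := fun m hm n hn =>
    Subgroup.commute_of_normal_of_disjoint M N inferInstance inferInstance hMNd m n hm hn
  have hne : Nonempty α := by
    obtain ⟨m, hm1⟩ := (Subgroup.ne_bot_iff_exists_ne_one.mp hM)
    by_contra hcon
    rw [not_nonempty_iff] at hcon
    apply hm1
    apply Subtype.ext
    apply Subtype.ext
    ext x
    exact hcon.elim x
  have htrM : ∀ a x : α, ∃ τ ∈ (M.map G.subtype : Subgroup (Equiv.Perm α)), τ a = x := by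
    intro a x
    obtain ⟨m, hm⟩ := hMt.exists_smul_eq a x
    exact ⟨((m : G) : Equiv.Perm α), ⟨(m : G), m.2, rfl⟩, hm⟩
  have htrN : ∀ a x : α, ∃ τ ∈ (N.map G.subtype : Subgroup (Equiv.Perm α)), τ a = x := by
    intro a x
    obtain ⟨n, hn⟩ := hNt.exists_smul_eq a x
    exact ⟨((n : G) : Equiv.Perm α), ⟨(n : G), n.2, rfl⟩, hn⟩
  have hcMN : ∀ σ ∈ (M.map G.subtype : Subgroup (Equiv.Perm α)),
      ∀ τ ∈ (N.map G.subtype : Subgroup (Equiv.Perm α)), σ * τ = τ * σ := by
    rintro _ ⟨m, hm, rfl⟩ _ ⟨n, hn, rfl⟩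
    exact congrArg Subtype.val (hcomm m hm n hn)
  have hcNM : ∀ σ ∈ (N.map G.subtype : Subgroup (Equiv.Perm α)),
      ∀ τ ∈ (M.map G.subtype : Subgroup (Equiv.Perm α)), σ * τ = τ * σ :=
    fun σ hσ τ hτ => (hcMN τ hτ σ hσ).symm
  have hCM := centr _ _ htrM htrN hcMN
  have hCN := centr _ _ htrN htrM hcNM
  have hregM : ∀ a : α, ∀ m ∈ M, (m : Equiv.Perm α) a = a → m = 1 := by
    intro a m hm hma
    apply Subtype.ext
    exact semireg _ htrN _ (fun τ hτ => (hcMN _ ⟨m, hm, rfl⟩ τ hτ).symm) a hma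
  have hregN : ∀ a : α, ∀ n ∈ N, (n : Equiv.Perm α) a = a → n = 1 := by
    intro a n hn hna
    apply Subtype.ext
    exact semireg _ htrM _ (fun τ hτ => (hcNM _ ⟨n, hn, rfl⟩ τ hτ).symm) a hna
  have hstM : ∀ a : α, MulAction.stabilizer M a = ⊥ := by
    intro a
    rw [eq_bot_iff]
    intro m hm
    rw [Subgroup.mem_bot]
    exact Subtype.ext (hregM a (m : G) m.2 hm)
  have hstN : ∀ a : α, MulAction.stabilizer N a = ⊥ := by
    intro a
    rw [eq_bot_iff]
    intro n hn
    rw [Subgroup.mem_bot]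
    exact Subtype.ext (hregN a (n : G) n.2 hn)
  have hle_of_centr : ∀ L : Subgroup G,
      (∀ l ∈ L, ∀ m ∈ M, l * m = m * l) → L ≤ N := by
    intro L hL l hl
    have h1 : (l : Equiv.Perm α) ∈
        Subgroup.centralizer ((M.map G.subtype : Subgroup (Equiv.Perm α)) : Set (Equiv.Perm α)) := by
      rw [Subgroup.mem_centralizer_iff]
      rintro _ ⟨m, hm, rfl⟩
      exact (congrArg Subtype.val (hL l hl m hm)).symm
    rw [hCM] at h1
    obtain ⟨n, hn, hnl⟩ := h1
    have : n = l := Subtype.ext hnl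
    rw [← this]; exact hn
  refine ⟨hstM, hstN, ?_, ?_, hCM, hCN, ?_⟩
  · intro hcM
    have hMleN : M ≤ N := by
      apply hle_of_centr
      intro l hl m hm
      have := hcM.is_comm.comm (⟨l, hl⟩ : M) ⟨m, hm⟩
      exact congrArg Subtype.val this
    rcases hNmin M inferInstance hMleN with h | h
    · exact hM h
    · exact hMN h
  · obtain ⟨a⟩ := hne
    have hex : ∀ m : M, ∃ n : N, n • (m • a) = a := fun m => hNt.exists_smul_eq (m • a) a
    choose φ hφ using hex
    have huniq : ∀ (n n' : N) (y : α), n • y = n' • y → n = n' := by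
      intro n n' y h
      have h1 : (n'⁻¹ * n) ∈ MulAction.stabilizer N y := by
        rw [MulAction.mem_stabilizer_iff, mul_smul, h, inv_smul_smul]
      rw [hstN y, Subgroup.mem_bot] at h1
      exact (inv_mul_eq_one.mp h1).symm
    have huniqM : ∀ (m m' : M) (y : α), m • y = m' • y → m = m' := by
      intro m m' y h
      have h1 : (m'⁻¹ * m) ∈ MulAction.stabilizer M y := by
        rw [MulAction.mem_stabilizer_iff, mul_smul, h, inv_smul_smul]
      rw [hstM y, Subgroup.mem_bot] at h1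
      exact (inv_mul_eq_one.mp h1).symm
    have hsw : ∀ (m : M) (n : N) (x : α), m • n • x = n • m • x := by
      intro m n x
      have := hcomm (m : G) m.2 (n : G) n.2
      show ((m : G) : Equiv.Perm α) (((n : G) : Equiv.Perm α) x) =
        ((n : G) : Equiv.Perm α) (((m : G) : Equiv.Perm α) x)
      have h2 := congrArg (fun g : G => (g : Equiv.Perm α) x) this
      exact h2
    have hmul : ∀ m1 m2 : M, φ (m1 * m2) = φ m1 * φ m2 := by
      intro m1 m2
      apply huniq _ _ ((m1 * m2) • a)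
      rw [hφ, mul_smul, mul_smul, ← hsw m1 (φ m2), hφ m2, hφ m1]
    let f : M →* N := MonoidHom.mk' φ hmul
    refine ⟨MulEquiv.ofBijective f ⟨?_, ?_⟩⟩
    · intro m m' h
      have h' : φ m = φ m' := h
      apply huniqM _ _ a
      have e1 := hφ m
      have e2 := hφ m'
      rw [h'] at e1
      exact MulAction.injective (φ m') (e1.trans e2.symm)
    · intro n
      obtain ⟨m, hm⟩ := hMt.exists_smul_eq a (n⁻¹ • a)
      refine ⟨m, ?_⟩
      show φ m = n
      apply huniq _ _ (m • a)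
      rw [hφ, hm, smul_inv_smul]
  · intro L hLn hL hLmin
    by_cases hLM : L = M
    · left; exact hLM
    · right
      have hd : Disjoint L M := disj L M hL hLmin hMmin hLM
      have hLN : L ≤ N := by
        apply hle_of_centr
        intro l hl m hm
        exact Subgroup.commute_of_normal_of_disjoint L M hLn inferInstance hd l m hl hm
      rcases hNmin L hLn hLN with h | h
      · exact absurd h hL
      · exact h

end Cfsg.Agent.S0704
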