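import Mathlib
import Cfsg.Statements.S0705

set_option autoImplicit false
open scoped Pointwise
open Cfsg

namespace Cfsg.Agent.S0705

lemma lemA {α : Type*} [Fintype α] [DecidableEq α] (G : Subgroup (Equiv.Perm α)) {k : ℕ}
    (hgen : ∀ s : Finset α, s.card = k + 1 → ∀ σ : Equiv.Perm ↥s,
      ∃ g ∈ G, ∀ x : ↥s, g (x : α) = σ x)
    (s : Finset α) (hs : s.card = k + 1) (e1 e2 : Fin k ↪ α) (h1 : ∀ i, e1 i ∈ s)
    (h2 : ∀ i, e2 i ∈ s) :
    ∃ g ∈ G, (∀ i, g (e1 i) = e2 i) ∧ ∀ z ∈ s, g z ∈ s := by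
  let f1 : Fin k ↪ s :=
    ⟨fun i => ⟨e1 i, h1 i⟩, fun i j h => e1.injective (congrArg Subtype.val h)⟩
  let f2 : Fin k ↪ s :=
    ⟨fun i => ⟨e2 i, h2 i⟩, fun i j h => e2.injective (congrArg Subtype.val h)⟩
  obtain ⟨σ, hσ⟩ := (Equiv.Perm.isMultiplyPretransitive s k).exists_smul_eq f1 f2
  obtain ⟨g, hg, hgs⟩ := hgen s hs σ
  refine ⟨g, hg, fun i => ?_, fun z hz => ?_⟩
  · rw [hgs ⟨e1 i, h1 i⟩]
    have h3 : (σ • f1) i = f2 i := by rw [hσ]
    have h4 : σ (f1 i) = f2 i := h3
    exact congrArg Subtype.val h4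
  · rw [hgs ⟨z, hz⟩]; exact (σ ⟨z, hz⟩).2

lemma main {α : Type*} [Fintype α] [DecidableEq α] (G : Subgroup (Equiv.Perm α)) {k : ℕ}
    (hk : k < Fintype.card α)
    (hgen : ∀ s : Finset α, s.card = k + 1 → ∀ σ : Equiv.Perm ↥s,
      ∃ g ∈ G, ∀ x : ↥s, g (x : α) = σ x) (d : ℕ) :
    ∀ e1 e2 : Fin k ↪ α, ((Finset.univ.map e2) \ (Finset.univ.map e1)).card = d →
      ∃ g ∈ G, ∀ i, g (e1 i) = e2 i := by
  induction d with
  | zero =>
    intro e1 e2 hd
    have hsub : Finset.univ.map e2 ⊆ Finset.univ.map e1 := by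
      rw [← Finset.sdiff_eq_empty_iff_subset]; exact Finset.card_eq_zero.mp hd
    have hc1 : (Finset.univ.map e1).card = k := by simp
    have hc2 : (Finset.univ.map e2).card = k := by simp
    have heq : Finset.univ.map e2 = Finset.univ.map e1 :=
      Finset.eq_of_subset_of_card_le hsub (by rw [hc1, hc2])
    obtain ⟨b, hb⟩ : ∃ b, b ∉ Finset.univ.map e1 := by
      by_contra hcon
      push Not at hcon
      have : Finset.univ.map e1 = Finset.univ := Finset.eq_univ_iff_forall.mpr hcon
      rw [this, Finset.card_univ] at hc1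
      omega
    obtain ⟨g, hg, hg1, -⟩ := lemA G hgen (insert b (Finset.univ.map e1))
      (by rw [Finset.card_insert_of_notMem hb, hc1]) e1 e2
      (fun i => Finset.mem_insert_of_mem (by simp))
      (fun i => Finset.mem_insert_of_mem (by rw [← heq]; simp))
    exact ⟨g, hg, hg1⟩
  | succ d ih =>
    intro e1 e2 hd
    have hc1 : (Finset.univ.map e1).card = k := by simp
    have hc2 : (Finset.univ.map e2).card = k := by simp
    obtain ⟨y, hy⟩ : ((Finset.univ.map e2) \ (Finset.univ.map e1)).Nonempty := by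
      rw [← Finset.card_pos]; omega
    have hd' : ((Finset.univ.map e1) \ (Finset.univ.map e2)).card = d + 1 := by
      rw [← hd]; exact Finset.card_sdiff_comm (by rw [hc1, hc2])
    obtain ⟨x, hx⟩ : ((Finset.univ.map e1) \ (Finset.univ.map e2)).Nonempty := by
      rw [← Finset.card_pos]; omega
    rw [Finset.mem_sdiff] at hx hy
    have hxy : x ≠ y := by rintro rfl; exact hx.2 hy.1
    let e1' : Fin k ↪ α := e1.trans (Equiv.swap x y).toEmbedding
    have hmem1 : ∀ z, z ∈ Finset.univ.map e1' ↔ Equiv.swap x y z ∈ Finset.univ.map e1 := by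
      intro z
      simp only [Finset.mem_map, Finset.mem_univ, true_and, e1', Function.Embedding.trans_apply,
        Equiv.coe_toEmbedding]
      constructor
      · rintro ⟨i, rfl⟩; exact ⟨i, by simp⟩
      · rintro ⟨i, hi⟩; exact ⟨i, by rw [hi]; simp⟩
    have hd2 : ((Finset.univ.map e2) \ (Finset.univ.map e1')).card = d := by
      have : (Finset.univ.map e2) \ (Finset.univ.map e1') =
          ((Finset.univ.map e2) \ (Finset.univ.map e1)).erase y := by
        ext z
        rw [Finset.mem_sdiff, hmem1, Finset.mem_erase, Finset.mem_sdiff]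
        by_cases hzy : z = y
        · subst hzy; simp [hx.1]
        · by_cases hzx : z = x
          · subst hzx; simp [hx.2]
          · rw [Equiv.swap_apply_of_ne_of_ne hzx hzy]; simp [hzy]
      rw [this, Finset.card_erase_of_mem (Finset.mem_sdiff.mpr hy), hd]; rfl
    obtain ⟨g2, hg2, h2⟩ := ih e1' e2 hd2
    obtain ⟨g1, hg1, h1, -⟩ := lemA G hgen (insert y (Finset.univ.map e1))
      (by rw [Finset.card_insert_of_notMem hy.2, hc1]) e1 e1'
      (fun i => Finset.mem_insert_of_mem (by simp))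
      (fun i => by
        show Equiv.swap x y (e1 i) ∈ _
        by_cases h : e1 i = x
        · rw [h, Equiv.swap_apply_left]; exact Finset.mem_insert_self _ _
        · have h' : e1 i ≠ y := by
            intro h'; exact hy.2 (by rw [← h']; simp)
          rw [Equiv.swap_apply_of_ne_of_ne h h']; exact Finset.mem_insert_of_mem (by simp))
    exact ⟨g2 * g1, G.mul_mem hg2 hg1, fun i => by rw [Equiv.Perm.mul_apply, h1]; exact h2 i⟩

/-- A generously `k`-transitive permutation group (every `(k+1)`-subset has its full symmetric group induced by the setwise stabiliser) of degree greater than `k` is `k`-transitive, and for a `k`-subset the setwise and pointwise stabilisers have the same orbits outside it. -/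
theorem result {α : Type*} [Fintype α] [DecidableEq α] (G : Subgroup (Equiv.Perm α)) {k : ℕ} (hk : k < Fintype.card α) (hgen : ∀ s : Finset α, s.card = k + 1 → ∀ σ : Equiv.Perm ↥s, ∃ g ∈ G, ∀ x : ↥s, g (x : α) = σ x) : MulAction.IsMultiplyPretransitive G α k ∧ ∀ s : Finset α, s.card = k → ∀ a b : α, a ∉ s → b ∉ s → (∃ g ∈ G, g • s = s ∧ g a = b) → ∃ g ∈ G, (∀ x ∈ s, g x = x) ∧ g a = b := by
  refine ⟨?_, ?_⟩
  · refine ⟨fun e1 e2 => ?_⟩
    obtain ⟨g, hg, h⟩ := main G hk hgen _ e1 e2 rfl
    refine ⟨⟨g, hg⟩, ?_⟩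
    ext i
    exact h i
  · intro s hs a b ha hb ⟨g, hg, hgs, hgab⟩
    let e : Fin k ↪ α :=
      (s.equivFinOfCardEq hs).symm.toEmbedding.trans (Function.Embedding.subtype _)
    have he : ∀ i, e i ∈ s := fun i => ((s.equivFinOfCardEq hs).symm i).2
    have hes : ∀ x ∈ s, ∃ i, e i = x := fun x hx =>
      ⟨s.equivFinOfCardEq hs ⟨x, hx⟩, by simp [e]⟩
    have hgmem : ∀ x ∈ s, g x ∈ s := by
      intro x hx
      have : g • x ∈ g • s := Finset.smul_mem_smul_finset hx
      rw [hgs] at this
      exact this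
    obtain ⟨h, hh, h1, h2⟩ := lemA G hgen (insert b s)
      (by rw [Finset.card_insert_of_notMem hb, hs]) (e.trans g.toEmbedding) e
      (fun i => Finset.mem_insert_of_mem (hgmem _ (he i)))
      (fun i => Finset.mem_insert_of_mem (he i))
    have hfix : ∀ x ∈ s, h (g x) = x := by
      intro x hx
      obtain ⟨i, rfl⟩ := hes x hx
      exact h1 i
    have hbb : h b = b := by
      have := h2 b (Finset.mem_insert_self _ _)
      rcases Finset.mem_insert.mp this with h3 | h3
      · exact h3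
      · exfalso
        have h4 := hfix _ h3
        have h5 : g (h b) = b := h.injective h4
        exact hb (h5 ▸ hgmem _ h3)
    refine ⟨h * g, G.mul_mem hh hg, fun x hx => ?_, ?_⟩
    · rw [Equiv.Perm.mul_apply]; exact hfix x hx
    · rw [Equiv.Perm.mul_apply, hgab, hbb]

end Cfsg.Agent.S0705
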