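import Mathlib
import Cfsg.Statements.S0706
import Cfsg.Agent.S0705

set_option autoImplicit false
open Cfsg

namespace Cfsg.Agent.S0706

lemma fixed_in_invariant {G α : Type*} [Group G] [MulAction G α] (p : ℕ) [Fact p.Prime]
    (Q : Subgroup G) (hQ : IsPGroup p Q) (O : Set α)
    (hO : ∀ q ∈ Q, ∀ x ∈ O, q • x ∈ O) (hcard : ¬ p ∣ Nat.card O) :
    ∃ δ ∈ O, ∀ q ∈ Q, q • δ = δ := by
  let S : SubMulAction Q α := ⟨O, fun q x hx => hO q q.2 x hx⟩
  have hc : ¬ p ∣ Nat.card S := hcard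
  obtain ⟨⟨δ, hδ⟩, hfix⟩ := hQ.nonempty_fixed_point_of_prime_not_dvd_card S hc
  refine ⟨δ, hδ, fun q hq => ?_⟩
  have := hfix ⟨q, hq⟩
  exact congrArg Subtype.val this

open scoped Pointwise in
lemma core {G α : Type*} [Group G] [Finite G] [MulAction G α] [Fintype α] [DecidableEq α]
    {k p : ℕ} (hp : p.Prime) (Γ Γ1 : Finset α) (hsub : Γ1 ⊆ Γ) (h1 : Γ1.card = p)
    (hk : Γ.card = k)
    (F1 : MulAction.IsMultiplyPretransitive G α k)
    (F2 : ∀ g : G, (∀ y ∈ Γ, g • y ∈ Γ) → ∀ z, z ∉ Γ →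
      ∃ h ∈ fixingSubgroup G (Γ : Set α), h • z = g • z)
    (c : G) (hc0 : ∀ y ∈ Γ, y ∉ Γ1 → c • y = y) (hc1 : ∀ y, c • y ∈ Γ1 ↔ y ∈ Γ1)
    (hcp : ∀ y ∈ Γ1, c ^ p • y = y) (hcne : ∃ y ∈ Γ1, c • y ≠ y)
    (f : Fin p → α) (hf : ∀ i, f i ∉ Γ)
    (hdist : ∀ i j, i ≠ j → f j ∉ MulAction.orbit (fixingSubgroup G (Γ : Set α)) (f i)) :
    ∃ i, p ∣ Nat.card (MulAction.orbit (fixingSubgroup G (Γ : Set α)) (f i)) := by
  classical
  by_contra hcon
  push Not at hcon
  haveI : Fact p.Prime := ⟨hp⟩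
  set H := fixingSubgroup G (Γ : Set α) with hH
  set S1 : Subgroup G :=
    fixingSubgroup G ((Γ \ Γ1 : Finset α) : Set α) ⊓ MulAction.stabilizer G (Γ1 : Set α) with hS1
  have memS1 : ∀ g : G, g ∈ S1 ↔
      (∀ y ∈ Γ, y ∉ Γ1 → g • y = y) ∧ ∀ y, g • y ∈ Γ1 ↔ y ∈ Γ1 := by
    intro g
    rw [hS1, Subgroup.mem_inf, mem_fixingSubgroup_iff, MulAction.mem_stabilizer_set]
    simp [Finset.mem_sdiff]
  have memH : ∀ g : G, g ∈ H ↔ ∀ y ∈ Γ, g • y = y := by
    intro g; rw [hH, mem_fixingSubgroup_iff]; simp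
  have hHS1 : H ≤ S1 := by
    intro g hg
    rw [memH] at hg; rw [memS1]
    refine ⟨fun y hy _ => hg y hy, fun y => ?_⟩
    constructor
    · intro h
      have h3 := hg _ (hsub h)
      have h2 : g • y = y := (MulAction.injective g) h3
      rw [← h2]; exact h
    · intro h; rw [hg y (hsub h)]; exact h
  have S1Γ : ∀ g ∈ S1, ∀ y ∈ Γ, g • y ∈ Γ := by
    intro g hg y hy
    rw [memS1] at hg
    by_cases hy1 : y ∈ Γ1
    · exact hsub ((hg.2 y).mpr hy1)
    · rw [hg.1 y hy hy1]; exact hy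
  have hcS1 : c ∈ S1 := (memS1 c).mpr ⟨hc0, hc1⟩
  haveI hN : (H.subgroupOf S1).Normal := by
    constructor
    intro n hn g
    rw [Subgroup.mem_subgroupOf] at hn ⊢
    rw [memH] at hn ⊢
    intro y hy
    simp only [Subgroup.coe_mul, Subgroup.coe_inv, mul_smul]
    have h3 : (g : G)⁻¹ • y ∈ Γ := S1Γ _ (S1.inv_mem g.2) y hy
    rw [hn _ h3, smul_inv_smul]
  have hpidx : p ∣ Nat.card (S1 ⧸ H.subgroupOf S1) := by
    have ho : orderOf (QuotientGroup.mk (s := H.subgroupOf S1) ⟨c, hcS1⟩) = p := by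
      apply orderOf_eq_prime
      · rw [← QuotientGroup.mk_pow, QuotientGroup.eq_one_iff, Subgroup.mem_subgroupOf, memH]
        intro y hy
        simp only [Subgroup.coe_pow]
        by_cases hy1 : y ∈ Γ1
        · exact hcp y hy1
        · have h3 : c • y = y := hc0 y hy hy1
          exact MulAction.mem_stabilizer_iff.mp
            ((MulAction.stabilizer G y).pow_mem (MulAction.mem_stabilizer_iff.mpr h3) p)
      · rw [Ne, QuotientGroup.eq_one_iff, Subgroup.mem_subgroupOf, memH]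
        intro hall
        obtain ⟨y, hy, hne⟩ := hcne
        exact hne (hall y (hsub hy))
    rw [← ho]; exact orderOf_dvd_natCard _
  obtain ⟨Q⟩ := (inferInstance : Nonempty (Sylow p S1))
  have hQcard : Nat.card Q = p ^ (Nat.card S1).factorization p := Q.card_eq_multiplicity
  set Q' : Subgroup G := (Q : Subgroup S1).map S1.subtype with hQ'
  have hQ'card : Nat.card Q' = Nat.card Q :=
    Subgroup.card_map_of_injective (Subgroup.subtype_injective S1)
  have hQ'le : Q' ≤ S1 := by rw [hQ']; exact Subgroup.map_subtype_le _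
  have hQ'p : IsPGroup p Q' := Q.isPGroup'.map S1.subtype
  have orbit_notin : ∀ i, ∀ z ∈ MulAction.orbit H (f i), z ∉ Γ := by
    intro i z hz hmem
    obtain ⟨h0, rfl⟩ := MulAction.mem_orbit_iff.mp hz
    have hmem : (h0 : G) • f i ∈ Γ := hmem
    have h3 := (memH _).mp (H.inv_mem h0.2) _ hmem
    have h4 : ((h0 : G))⁻¹ • ((h0 : G) • f i) = f i := inv_smul_smul _ _
    have h5 : ((h0 : G))⁻¹ • ((h0 : G) • f i) = (h0 : G) • f i := h3
    rw [h4] at h5
    exact hf i (h5 ▸ hmem)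
  have hfixed : ∀ i, ∃ δ ∈ MulAction.orbit H (f i), ∀ q ∈ Q', q • δ = δ := by
    intro i
    apply fixed_in_invariant p Q' hQ'p _ ?_ (hcon i)
    intro q hq z hz
    have hzΓ : z ∉ Γ := orbit_notin i z hz
    obtain ⟨h, hh, hhz⟩ := F2 q (S1Γ q (hQ'le hq)) z hzΓ
    rw [← hhz]
    obtain ⟨h0, rfl⟩ := MulAction.mem_orbit_iff.mp hz
    refine MulAction.mem_orbit_iff.mpr ⟨⟨h, hh⟩ * h0, ?_⟩
    rw [mul_smul]
    rfl
  choose δ hδO hδfix using hfixed
  have hδinj : Function.Injective δ := by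
    intro i j hij
    by_contra hne
    have e1 := MulAction.orbit_eq_iff.mpr (hδO i)
    have e2 := MulAction.orbit_eq_iff.mpr (hδO j)
    rw [hij] at e1
    have e3 : MulAction.orbit H (f i) = MulAction.orbit H (f j) := by rw [← e1, ← e2]
    exact hdist i j hne (e3 ▸ MulAction.mem_orbit_self (f j))
  have hpk : p ≤ k := by rw [← h1, ← hk]; exact Finset.card_le_card hsub
  set Γ' : Finset α := (Γ \ Γ1) ∪ Finset.univ.image δ with hΓ'
  have hΓ'card : Γ'.card = k := by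
    rw [hΓ', Finset.card_union_of_disjoint, Finset.card_sdiff_of_subset hsub,
      Finset.card_image_of_injective _ hδinj, hk, h1, Finset.card_univ, Fintype.card_fin]
    · omega
    · rw [Finset.disjoint_left]
      intro z hz hz2
      obtain ⟨i, -, rfl⟩ := Finset.mem_image.mp hz2
      exact orbit_notin i _ (hδO i) (Finset.mem_sdiff.mp hz).1
  let e1 : Fin k ↪ α :=
    (Γ.equivFinOfCardEq hk).symm.toEmbedding.trans (Function.Embedding.subtype _)
  let e2 : Fin k ↪ α :=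
    (Γ'.equivFinOfCardEq hΓ'card).symm.toEmbedding.trans (Function.Embedding.subtype _)
  obtain ⟨x, hx⟩ := F1.exists_smul_eq e1 e2
  have hxΓ : ∀ y ∈ Γ, x • y ∈ Γ' := by
    intro y hy
    have h3 : (x • e1) (Γ.equivFinOfCardEq hk ⟨y, hy⟩) = e2 (Γ.equivFinOfCardEq hk ⟨y, hy⟩) := by
      rw [hx]
    have h4 : (x • e1) (Γ.equivFinOfCardEq hk ⟨y, hy⟩) = x • y := by
      simp [e1]
    rw [← h4, h3]
    exact ((Γ'.equivFinOfCardEq hΓ'card).symm _).2
  have hQ'fix : ∀ q ∈ Q', ∀ z ∈ Γ', q • z = z := by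
    intro q hq z hz
    rw [hΓ', Finset.mem_union] at hz
    rcases hz with hz | hz
    · rw [Finset.mem_sdiff] at hz
      exact ((memS1 q).mp (hQ'le hq)).1 z hz.1 hz.2
    · obtain ⟨i, -, rfl⟩ := Finset.mem_image.mp hz
      exact hδfix i q hq
  have hconj : Q'.map (MulAut.conj x⁻¹).toMonoidHom ≤ H := by
    rintro _ ⟨q, hq, rfl⟩
    rw [memH]
    intro y hy
    simp only [MulEquiv.coe_toMonoidHom, MulAut.conj_apply, inv_inv, mul_smul]
    rw [hQ'fix q hq _ (hxΓ y hy), inv_smul_smul]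
  have hdvd : Nat.card Q' ∣ Nat.card H := by
    have h3 := Subgroup.card_dvd_of_le hconj
    rwa [Subgroup.card_map_of_injective (MulAut.conj x⁻¹).injective] at h3
  rw [hQ'card, hQcard] at hdvd
  have hS1card : Nat.card S1 = Nat.card (S1 ⧸ H.subgroupOf S1) * Nat.card H := by
    rw [Subgroup.card_eq_card_quotient_mul_card_subgroup (H.subgroupOf S1),
      Nat.card_congr (Subgroup.subgroupOfEquivOfLe hHS1).toEquiv]
  have hHne : Nat.card H ≠ 0 := Nat.card_pos.ne'
  have hqne : Nat.card (S1 ⧸ H.subgroupOf S1) ≠ 0 := Nat.card_pos.ne'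
  have h5 := (Nat.Prime.pow_dvd_iff_le_factorization hp hHne).mp hdvd
  rw [hS1card, Nat.factorization_mul hqne hHne] at h5
  have h6 := Nat.Prime.factorization_pos_of_dvd hp hqne hpidx
  simp only [Finsupp.coe_add, Pi.add_apply] at h5
  omega

open scoped Pointwise in
lemma smul_finset_eq {α : Type*} [DecidableEq α] (g : Equiv.Perm α) (Γ : Finset α)
    (h : ∀ y ∈ Γ, g y ∈ Γ) : g • Γ = Γ := by
  apply Finset.eq_of_subset_of_card_le
  · intro z hz
    obtain ⟨y, hy, rfl⟩ := Finset.mem_smul_finset.mp hz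
    exact h y hy
  · rw [Finset.card_smul_finset]

open scoped Pointwise in
lemma F2_of {α : Type*} [Fintype α] [DecidableEq α] (G : Subgroup (Equiv.Perm α)) {k : ℕ}
    (Γ : Finset α) (hΓ : Γ.card = k)
    (F2' : ∀ s : Finset α, s.card = k → ∀ a b : α, a ∉ s → b ∉ s →
      (∃ g ∈ G, g • s = s ∧ g a = b) → ∃ g ∈ G, (∀ x ∈ s, g x = x) ∧ g a = b) :
    ∀ g : G, (∀ y ∈ Γ, g • y ∈ Γ) → ∀ z, z ∉ Γ →
      ∃ h ∈ fixingSubgroup G (Γ : Set α), h • z = g • z := by
    intro g hg z hz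
    have hgΓ := smul_finset_eq (g : Equiv.Perm α) Γ hg
    have hgz : (g : Equiv.Perm α) z ∉ Γ := by
      intro hmem
      have h3 : (g : Equiv.Perm α) • z ∈ (g : Equiv.Perm α) • Γ := by rw [hgΓ]; exact hmem
      exact hz (Finset.smul_mem_smul_finset_iff _ |>.mp h3)
    obtain ⟨g', hg', hfix, hg'z⟩ := F2' Γ hΓ z ((g : Equiv.Perm α) z) hz hgz ⟨g, g.2, hgΓ, rfl⟩
    refine ⟨⟨g', hg'⟩, ?_, hg'z⟩
    rw [mem_fixingSubgroup_iff]
    intro y hy
    exact hfix y hy

/-- In a generously `k`-transitive permutation group, for a prime `p ≤ k` and a `k`-set `Γ`, there are no `p` points outside `Γ` lying in distinct orbits of the pointwise stabiliser of `Γ` all of length prime to `p` (at most `p - 1` such orbits). -/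
theorem result {α : Type*} [Fintype α] [DecidableEq α] (G : Subgroup (Equiv.Perm α)) {k : ℕ} (hk : k < Fintype.card α) (hgen : ∀ s : Finset α, s.card = k + 1 → ∀ σ : Equiv.Perm ↥s, ∃ g ∈ G, ∀ x : ↥s, g (x : α) = σ x) {p : ℕ} (hp : p.Prime) (hpk : p ≤ k) (Γ : Finset α) (hΓ : Γ.card = k) (f : Fin p → α) (hf : ∀ i, f i ∉ Γ) (hdist : ∀ i j, i ≠ j → f j ∉ MulAction.orbit (fixingSubgroup G (Γ : Set α)) (f i)) : ∃ i, p ∣ Nat.card (MulAction.orbit (fixingSubgroup G (Γ : Set α)) (f i)) := by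
  obtain ⟨F1, F2'⟩ := Cfsg.Agent.S0705.result G hk hgen
  obtain ⟨Γ1, hsub, h1⟩ := Finset.exists_subset_card_eq (hΓ ▸ hpk)
  have F2 := F2_of G Γ hΓ F2'
  -- the p-cycle
  set π : Equiv.Perm α := Γ1.toList.formPerm with hπ
  have hπout : ∀ y, y ∉ Γ1 → π y = y := fun y hy =>
    List.formPerm_apply_of_notMem (by simpa using hy)
  have hπin : ∀ y ∈ Γ1, π y ∈ Γ1 := fun y hy => by
    have := List.formPerm_apply_mem_of_mem (l := Γ1.toList) (x := y) (by simpa using hy)
    exact Finset.mem_toList.mp this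
  have hπp : π ^ p = 1 := by
    have := List.formPerm_pow_length_eq_one_of_nodup _ (Finset.nodup_toList Γ1)
    rwa [Finset.length_toList, h1] at this
  have hπne : ∃ y ∈ Γ1, π y ≠ y := by
    have h3 : π ≠ 1 := by
      intro h3
      have := (List.formPerm_eq_one_iff _ (Finset.nodup_toList Γ1)).mp h3
      rw [Finset.length_toList, h1] at this
      have := hp.two_le
      omega
    by_contra hcon
    push Not at hcon
    apply h3
    ext y
    by_cases hy : y ∈ Γ1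
    · exact hcon y hy
    · exact hπout y hy
  set s : Finset α := insert (f ⟨0, hp.pos⟩) Γ with hs
  have hscard : s.card = k + 1 := by rw [hs, Finset.card_insert_of_notMem (hf _), hΓ]
  have hπs : ∀ y, π y ∈ s ↔ y ∈ s := by
    intro y
    by_cases hy : y ∈ Γ1
    · have h3 : y ∈ s := Finset.mem_insert_of_mem (hsub hy)
      have h4 : π y ∈ s := Finset.mem_insert_of_mem (hsub (hπin y hy))
      exact ⟨fun _ => h3, fun _ => h4⟩
    · rw [hπout y hy]
  obtain ⟨c, hcG, hc⟩ := hgen s hscard (π.subtypePerm hπs)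
  have hcπ : ∀ y ∈ s, c y = π y := by
    intro y hy
    have := hc ⟨y, hy⟩
    rw [this]
    rfl
  have hcin : ∀ y ∈ Γ1, c y ∈ Γ1 := fun y hy => by
    rw [hcπ y (Finset.mem_insert_of_mem (hsub hy))]; exact hπin y hy
  have himg : Γ1.image c = Γ1 := by
    apply Finset.eq_of_subset_of_card_le
    · intro z hz
      obtain ⟨y, hy, rfl⟩ := Finset.mem_image.mp hz
      exact hcin y hy
    · rw [Finset.card_image_of_injective _ c.injective]
  have hpow : ∀ j : ℕ, ∀ y ∈ Γ1, (c ^ j) y = (π ^ j) y := by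
    intro j
    induction j with
    | zero => intro y hy; simp
    | succ j ih =>
      intro y hy
      rw [pow_succ, pow_succ, Equiv.Perm.mul_apply, Equiv.Perm.mul_apply,
        hcπ y (Finset.mem_insert_of_mem (hsub hy))]
      exact ih _ (hπin y hy)
  refine core hp Γ Γ1 hsub h1 hΓ F1 F2 ⟨c, hcG⟩ ?_ ?_ ?_ ?_ f hf hdist
  · intro y hy hy1
    show c y = y
    rw [hcπ y (Finset.mem_insert_of_mem hy)]
    exact hπout y hy1
  · intro y
    show c y ∈ Γ1 ↔ y ∈ Γ1
    constructor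
    · intro h
      rw [← himg] at h
      obtain ⟨y', hy', h3⟩ := Finset.mem_image.mp h
      rw [← c.injective h3]; exact hy'
    · exact hcin y
  · intro y hy
    show (c ^ p) y = y
    rw [hpow p y hy, hπp]; rfl
  · obtain ⟨y, hy, hne⟩ := hπne
    refine ⟨y, hy, ?_⟩
    show c y ≠ y
    rw [hcπ y (Finset.mem_insert_of_mem (hsub hy))]
    exact hne

end Cfsg.Agent.S0706
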