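import Mathlib
import Cfsg.Statements.S0707

set_option autoImplicit false
open Cfsg

namespace Cfsg.Agent.S0707

open MulAction

open scoped Pointwise

lemma mem_stab_smul {G α : Type*} [Group G] [MulAction G α] (g : G) (c : α) (x : G) :
    x ∈ stabilizer G (g • c) ↔ g⁻¹ * x * g ∈ stabilizer G c := by
  simp only [mem_stabilizer_iff, mul_smul, inv_smul_eq_iff]

/-- In a primitive permutation group, distinct points have distinct stabilisers unless the group is regular of prime degree. -/
theorem result {α : Type*} (G : Subgroup (Equiv.Perm α)) [MulAction.IsPreprimitive G α] (h : ¬ (Nat.card α).Prime ∨ ∃ a : α, MulAction.stabilizer G a ≠ ⊥) {a b : α} (hab : a ≠ b) : MulAction.stabilizer G a ≠ MulAction.stabilizer G b := by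
  intro heq
  have hnt : Nontrivial α := ⟨⟨a, b, hab⟩⟩
  have hB : IsBlock G {c : α | stabilizer G c = stabilizer G a} := by
    rw [isBlock_iff_smul_eq_of_mem]
    intro g c hc hgc
    simp only [Set.mem_ofPred_eq] at hc hgc
    have hstar : ∀ x : G, x ∈ stabilizer G a ↔ g⁻¹ * x * g ∈ stabilizer G a := by
      intro x
      rw [← hgc, mem_stab_smul, hc, hgc]
    ext x
    constructor
    · rintro ⟨y, hy, rfl⟩
      simp only [Set.mem_ofPred_eq] at hy ⊢
      ext z
      rw [mem_stab_smul, hy, ← hstar]
    · intro hx
      simp only [Set.mem_ofPred_eq] at hx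
      refine ⟨g⁻¹ • x, ?_, by simp⟩
      simp only [Set.mem_ofPred_eq]
      ext z
      rw [mem_stab_smul, hx, hstar]
      simp [mul_assoc]
  have htriv := IsPreprimitive.isTrivialBlock_of_isBlock hB
  have huniv : {c : α | stabilizer G c = stabilizer G a} = Set.univ := by
    rcases htriv with hsub | hu
    · exact absurd (hsub (by simp : a ∈ _) (by simp [heq] : b ∈ _)) hab
    · exact hu
  have hall : ∀ c : α, stabilizer G c = stabilizer G a := by
    intro c
    have : c ∈ {c : α | stabilizer G c = stabilizer G a} := by rw [huniv]; trivial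
    exact this
  have hbot : stabilizer G a = ⊥ := by
    rw [eq_bot_iff]
    intro g hg
    rw [Subgroup.mem_bot]
    apply Subtype.ext
    ext c
    have : g ∈ stabilizer G c := by rw [hall c]; exact hg
    exact this
  rcases h with hnp | ⟨c, hc⟩
  swap
  · exact hc ((hall c).trans hbot)
  apply hnp
  have hco : IsCoatom (stabilizer G a) :=
    IsPreprimitive.isCoatom_stabilizer_of_isPreprimitive G a
  rw [hbot] at hco
  have hne : (⊥ : Subgroup G) ≠ ⊤ := hco.1
  have hntG : Nontrivial G := by
    by_contra hc
    rw [not_nontrivial_iff_subsingleton] at hc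
    apply hne
    ext x
    simp [Subsingleton.elim x 1]
  have hsub : ∀ K : Subgroup G, K = ⊥ ∨ K = ⊤ := fun K => by
    rcases eq_or_ne K ⊥ with h | h
    · left; exact h
    · right; exact hco.2 K (bot_lt_iff_ne_bot.mpr h)
  have hsimple : IsSimpleGroup G := ⟨fun K _ => hsub K⟩
  obtain ⟨g, hg⟩ := exists_ne (1 : G)
  have hz : Subgroup.zpowers g = ⊤ := (hsub _).resolve_left (Subgroup.zpowers_ne_bot.2 hg)
  have hcomm : IsMulCommutative G := by
    rw [isMulCommutative_iff]
    intro x y
    have hx : x ∈ Subgroup.zpowers g := by rw [hz]; trivial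
    have hy : y ∈ Subgroup.zpowers g := by rw [hz]; trivial
    obtain ⟨i, rfl⟩ := hx
    obtain ⟨j, rfl⟩ := hy
    exact zpow_mul_comm g i j
  have hprime : (Nat.card G).Prime := Group.is_simple_iff_prime_card.mp hsimple
  have hcard : Nat.card G = Nat.card α := by
    apply Nat.card_congr
    refine Equiv.ofBijective (fun x : G => x • a) ⟨?_, ?_⟩
    · intro x y hxy
      have hxy' : x • a = y • a := hxy
      have : x⁻¹ * y ∈ stabilizer G a := by
        rw [mem_stabilizer_iff, mul_smul, ← hxy', inv_smul_smul]
      rw [hbot, Subgroup.mem_bot] at this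
      exact (inv_mul_eq_one.mp this)
    · intro c
      exact MulAction.exists_smul_eq G a c
  rw [← hcard]; exact hprime

end Cfsg.Agent.S0707
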