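import Mathlib
import Cfsg.Statements.S4301

set_option autoImplicit false
open Cfsg

namespace Cfsg.Agent.S4301

/-- `K` maps any injective `m`-tuple of points of `X` to any other. -/
def Trans {α : Type*} (K : Subgroup (Equiv.Perm α)) (X : Set α) (m : ℕ) : Prop :=
  ∀ a b : Fin m ↪ α, (∀ i, a i ∈ X) → (∀ i, b i ∈ X) → ∃ f ∈ K, ∀ i, f (a i) = b i

def emb2 {α : Type*} (x y : α) (hxy : x ≠ y) : Fin 2 ↪ α :=
  ⟨![x, y], by intro i j hij; fin_cases i <;> fin_cases j <;> simp_all⟩

def emb1 {α : Type*} (x : α) : Fin 1 ↪ α :=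
  ⟨![x], fun i j _ => Subsingleton.elim i j⟩

/-- General one-point extension lemma (Witt). -/
theorem ext1 {α : Type*} (K₀ : Subgroup (Equiv.Perm α)) (X : Set α) (star : α)
    (hstar : star ∉ X) (k : ℕ) (hk : 2 ≤ k)
    (H0 : ∀ f ∈ K₀, f star = star)
    (H1 : ∀ f ∈ K₀, ∀ z ∈ X, f z ∈ X)
    (H2 : ∀ m ≤ k, Trans K₀ X m)
    (h g : Equiv.Perm α) (x y : α) (hx : x ∈ X) (hy : y ∈ X)
    (h1 : h star = x) (h2 : h x = star) (h3 : h y = y)
    (hg : g ∈ K₀) (h4 : g x = y)
    (h6 : (g * h) ^ 3 ∈ K₀) (h7 : h ^ 2 ∈ K₀)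
    (h8 : ∀ f ∈ K₀, f x = x → h * f * h ∈ K₀)
    (h9 : ∀ z ∈ X, h z ∈ X ∨ h z = star) :
    (∀ f ∈ Subgroup.closure ((K₀ : Set (Equiv.Perm α)) ∪ {h}), f star = star ↔ f ∈ K₀) ∧
    ∀ m ≤ k + 1, Trans (Subgroup.closure ((K₀ : Set (Equiv.Perm α)) ∪ {h})) (X ∪ {star}) m := by
  classical
  have hxy : x ≠ y := by
    intro e; rw [← e] at h3; rw [h3] at h2; exact hstar (h2 ▸ hx)
  let M : Set (Equiv.Perm α) := {f | f ∈ K₀ ∨ ∃ f1 ∈ K₀, ∃ f2 ∈ K₀, f = f1 * h * f2}
  have hB : ∃ f1 ∈ K₀, ∃ f2 ∈ K₀, h * g * h = f1 * h * f2 := by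
    refine ⟨g⁻¹ * (g * h) ^ 3 * (h ^ 2)⁻¹,
      K₀.mul_mem (K₀.mul_mem (K₀.inv_mem hg) h6) (K₀.inv_mem h7), g⁻¹, K₀.inv_mem hg, ?_⟩
    rw [pow_three]
    group
  have hC : ∀ f ∈ K₀, h * f * h ∈ M := by
    intro f hf
    by_cases hfx : f x = x
    · exact Or.inl (h8 f hf hfx)
    · right
      have hzX : f x ∈ X := H1 f hf x hx
      obtain ⟨f1, hf1, hf1e⟩ := H2 2 hk (emb2 x y hxy) (emb2 x (f x) (Ne.symm hfx))
        (fun i => by fin_cases i; exacts [hx, hy]) (fun i => by fin_cases i; exacts [hx, hzX])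
      have hf1x : f1 x = x := hf1e 0
      have hf1y : f1 y = f x := hf1e 1
      have hf2K : (f1 * g)⁻¹ * f ∈ K₀ := K₀.mul_mem (K₀.inv_mem (K₀.mul_mem hf1 hg)) hf
      have hf2x : ((f1 * g)⁻¹ * f) x = x := by
        rw [Equiv.Perm.mul_apply, Equiv.Perm.inv_eq_iff_eq, Equiv.Perm.mul_apply, h4, hf1y]
      have e : f = f1 * g * ((f1 * g)⁻¹ * f) := by group
      obtain ⟨b1, hb1, b2, hb2, hbe⟩ := hB
      refine ⟨(h * f1 * h) * (h ^ 2)⁻¹ * b1, ?_, b2 * (h ^ 2)⁻¹ * (h * ((f1 * g)⁻¹ * f) * h), ?_, ?_⟩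
      · exact K₀.mul_mem (K₀.mul_mem (h8 f1 hf1 hf1x) (K₀.inv_mem h7)) hb1
      · exact K₀.mul_mem (K₀.mul_mem hb2 (K₀.inv_mem h7)) (h8 _ hf2K hf2x)
      · calc h * f * h
            = (h * f1 * h) * (h ^ 2)⁻¹ * (h * g * h) * (h ^ 2)⁻¹ * (h * ((f1 * g)⁻¹ * f) * h) := by
              group
          _ = (h * f1 * h) * (h ^ 2)⁻¹ * (b1 * h * b2) * (h ^ 2)⁻¹ * (h * ((f1 * g)⁻¹ * f) * h) := by
              rw [hbe]
          _ = _ := by group
  have hMone : (1 : Equiv.Perm α) ∈ M := Or.inl K₀.one_mem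
  have hMmul : ∀ a b, a ∈ M → b ∈ M → a * b ∈ M := by
    rintro a b (ha | ⟨a1, ha1, a2, ha2, rfl⟩) (hb | ⟨b1, hb1, b2, hb2, rfl⟩)
    · exact Or.inl (K₀.mul_mem ha hb)
    · exact Or.inr ⟨a * b1, K₀.mul_mem ha hb1, b2, hb2, by group⟩
    · exact Or.inr ⟨a1, ha1, a2 * b, K₀.mul_mem ha2 hb, by group⟩
    · rcases hC (a2 * b1) (K₀.mul_mem ha2 hb1) with hc | ⟨c1, hc1, c2, hc2, hce⟩
      · left
        have e : a1 * h * a2 * (b1 * h * b2) = a1 * (h * (a2 * b1) * h) * b2 := by group
        rw [e]; exact K₀.mul_mem (K₀.mul_mem ha1 hc) hb2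
      · right
        refine ⟨a1 * c1, K₀.mul_mem ha1 hc1, c2 * b2, K₀.mul_mem hc2 hb2, ?_⟩
        calc a1 * h * a2 * (b1 * h * b2) = a1 * (h * (a2 * b1) * h) * b2 := by group
          _ = a1 * (c1 * h * c2) * b2 := by rw [hce]
          _ = _ := by group
  have hMinv : ∀ a, a ∈ M → a⁻¹ ∈ M := by
    rintro a (ha | ⟨a1, ha1, a2, ha2, rfl⟩)
    · exact Or.inl (K₀.inv_mem ha)
    · right
      exact ⟨a2⁻¹ * (h ^ 2)⁻¹, K₀.mul_mem (K₀.inv_mem ha2) (K₀.inv_mem h7), a1⁻¹,
        K₀.inv_mem ha1, by group⟩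
  have hcl : ∀ f ∈ Subgroup.closure ((K₀ : Set (Equiv.Perm α)) ∪ {h}), f ∈ M := by
    intro f hf
    induction hf using Subgroup.closure_induction with
    | mem f hf =>
      rcases hf with hf | hf
      · exact Or.inl hf
      · rw [Set.mem_singleton_iff] at hf; subst hf
        exact Or.inr ⟨1, K₀.one_mem, 1, K₀.one_mem, by group⟩
    | one => exact hMone
    | mul a b _ _ ha hb => exact hMmul a b ha hb
    | inv a _ ha => exact hMinv a ha
  have hK₀le : ∀ f ∈ K₀, f ∈ Subgroup.closure ((K₀ : Set (Equiv.Perm α)) ∪ {h}) :=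
    fun f hf => Subgroup.subset_closure (Or.inl hf)
  have hhmem : h ∈ Subgroup.closure ((K₀ : Set (Equiv.Perm α)) ∪ {h}) :=
    Subgroup.subset_closure (Or.inr rfl)
  refine ⟨?_, ?_⟩
  · intro f hf
    rcases hcl f hf with hfK | ⟨f1, hf1, f2, hf2, rfl⟩
    · exact ⟨fun _ => hfK, fun _ => H0 f hfK⟩
    · have hval : (f1 * h * f2) star = f1 x := by
        simp only [Equiv.Perm.mul_apply]; rw [H0 f2 hf2, h1]
      have hne : (f1 * h * f2) star ≠ star := by
        rw [hval]; intro e; exact hstar (e ▸ H1 f1 hf1 x hx)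
      constructor
      · intro e; exact absurd e hne
      · intro hK; exact absurd (H0 _ hK) hne
  · intro m hm
    rcases m with _ | m
    · intro a b _ _; exact ⟨1, Subgroup.one_mem _, fun i => i.elim0⟩
    · have hmk : m ≤ k := by omega
      have hmove : ∀ z, z ∈ X ∪ {star} →
          ∃ u ∈ Subgroup.closure ((K₀ : Set (Equiv.Perm α)) ∪ {h}), u z = star ∧
            ∀ w, w ∈ X ∪ {star} → u w ∈ X ∪ {star} := by
        intro z hz
        rcases hz with hz | hz
        · obtain ⟨f0, hf0, hf0e⟩ := H2 1 (by omega) (emb1 z) (emb1 x)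
            (fun i => by fin_cases i; exact hz) (fun i => by fin_cases i; exact hx)
          have hf0z : f0 z = x := hf0e 0
          refine ⟨h * f0, Subgroup.mul_mem _ hhmem (hK₀le f0 hf0),
            by rw [Equiv.Perm.mul_apply, hf0z, h2], ?_⟩
          intro w hw
          rw [Equiv.Perm.mul_apply]
          rcases hw with hw | hw
          · rcases h9 _ (H1 f0 hf0 w hw) with h' | h'
            · exact Or.inl h'
            · exact Or.inr h'
          · rw [Set.mem_singleton_iff] at hw; rw [hw, H0 f0 hf0, h1]; exact Or.inl hx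
        · rw [Set.mem_singleton_iff] at hz
          exact ⟨1, Subgroup.one_mem _, by simpa using hz, fun w hw => by simpa using hw⟩
      intro a b ha hb
      obtain ⟨ua, hua, hua0, huap⟩ := hmove (a 0) (ha 0)
      obtain ⟨ub, hub, hub0, hubp⟩ := hmove (b 0) (hb 0)
      let a' : Fin m ↪ α := ((Fin.succEmb m).trans a).trans ua.toEmbedding
      let b' : Fin m ↪ α := ((Fin.succEmb m).trans b).trans ub.toEmbedding
      have ha' : ∀ i, a' i ∈ X := by
        intro i
        have h1' : ua (a i.succ) ∈ X ∪ {star} := huap _ (ha _)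
        rcases h1' with h1' | h1'
        · exact h1'
        · exfalso
          rw [Set.mem_singleton_iff] at h1'
          have e : a i.succ = a 0 := ua.injective (h1'.trans hua0.symm)
          exact Fin.succ_ne_zero i (a.injective e)
      have hb' : ∀ i, b' i ∈ X := by
        intro i
        have h1' : ub (b i.succ) ∈ X ∪ {star} := hubp _ (hb _)
        rcases h1' with h1' | h1'
        · exact h1'
        · exfalso
          rw [Set.mem_singleton_iff] at h1'
          have e : b i.succ = b 0 := ub.injective (h1'.trans hub0.symm)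
          exact Fin.succ_ne_zero i (b.injective e)
      obtain ⟨f, hf, hfe⟩ := H2 m hmk a' b' ha' hb'
      refine ⟨ub⁻¹ * f * ua,
        Subgroup.mul_mem _ (Subgroup.mul_mem _ (Subgroup.inv_mem _ hub) (hK₀le f hf)) hua, ?_⟩
      intro i
      simp only [Equiv.Perm.mul_apply]
      rw [Equiv.Perm.inv_eq_iff_eq]
      refine Fin.cases ?_ (fun i' => ?_) i
      · rw [hua0, hub0, H0 f hf]
      · exact hfe i'

/-- One-point extension of a multiply transitive group. Let X be a set and G a group of permutations of Option X (the set X with one extra point ∗ = none) all of whose elements fix ∗, such that G is k-transitive on the points of X for some k ≥ 2, X having at least k points. Suppose a permutation h of Option X and an element g of G satisfy: h interchanges ∗ with a point x of X and fixes a point y of X; g interchanges x and y; (g h)³ and h² lie in G; and for every f in G fixing x, the product h f h lies in G and fixes x. Then an element of the group generated by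 G and h fixes ∗ exactly when it lies in G, and that group acts (k+1)-transitively on Option X. -/
theorem result {X : Type*} (G : Subgroup (Equiv.Perm (Option X))) (hfix : ∀ f ∈ G, f none = none)
    (k : ℕ) (hk : 2 ≤ k) (hkX : Nonempty (Fin k ↪ X))
    (htrans : ∀ a b : Fin k ↪ X, ∃ f ∈ G, ∀ i, f (some (a i)) = some (b i))
    (h g : Equiv.Perm (Option X)) (hg : g ∈ G) (x y : X)
    (h1 : h none = some x) (h2 : h (some x) = none) (h3 : h (some y) = some y)
    (h4 : g (some x) = some y) (h5 : g (some y) = some x)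
    (h6 : (g * h) ^ 3 ∈ G) (h7 : h ^ 2 ∈ G)
    (h8 : ∀ f ∈ G, f (some x) = some x → h * f * h ∈ G ∧ (h * f * h) (some x) = some x) :
    (∀ f ∈ Subgroup.closure ((G : Set (Equiv.Perm (Option X))) ∪ {h}), f none = none ↔ f ∈ G) ∧
      MulAction.IsMultiplyPretransitive (Subgroup.closure ((G : Set (Equiv.Perm (Option X))) ∪ {h})) (Option X) (k + 1) := by
  obtain ⟨e0⟩ := hkX
  have hcard : (k : ℕ∞) ≤ ENat.card X := by
    have := ENat.card_le_card_of_injective e0.injective
    rwa [ENat.card_eq_coe_fintype_card, Fintype.card_fin] at this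
  have H2 : ∀ m ≤ k, Trans G {z : Option X | z ≠ none} m := by
    intro m hm a b ha hb
    have hsome : ∀ (c : Fin m ↪ Option X), (∀ i, c i ∈ {z : Option X | z ≠ none}) →
        ∃ c' : Fin k ↪ X, ∀ i : Fin m, some (c' (Fin.castLE hm i)) = c i := by
      intro c hc
      have hc' : ∀ i, ∃ w : X, some w = c i := fun i => by
        have := hc i
        rcases hci : c i with _ | w
        · exact absurd hci this
        · exact ⟨w, rfl⟩
      choose c₀ hc₀ using hc'
      have hinj : Function.Injective c₀ := by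
        intro i j hij
        apply c.injective
        rw [← hc₀ i, ← hc₀ j, hij]
      obtain ⟨c', hc'e⟩ := Fin.Embedding.restrictSurjective_of_le_ENatCard hm hcard ⟨c₀, hinj⟩
      refine ⟨c', fun i => ?_⟩
      have h' := congrArg (fun e : Fin m ↪ X => e i) hc'e
      simp only [Function.Embedding.trans_apply] at h'
      rw [← hc₀ i]
      exact congrArg some h'
    obtain ⟨a', ha'⟩ := hsome a ha
    obtain ⟨b', hb'⟩ := hsome b hb
    obtain ⟨f, hf, hfe⟩ := htrans a' b'
    exact ⟨f, hf, fun i => by rw [← ha' i, ← hb' i]; exact hfe _⟩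
  have key := ext1 G {z : Option X | z ≠ none} none (by simp) k hk hfix
    (fun f hf z hz e => hz (f.injective (e.trans (hfix f hf).symm))) H2 h g (some x) (some y)
    (by simp) (by simp) h1 h2 h3 hg h4 h6 h7 (fun f hf hfx => (h8 f hf hfx).1)
    (fun z _ => by
      by_cases e : h z = none
      · exact Or.inr e
      · exact Or.inl e)
  refine ⟨key.1, ?_⟩
  refine ⟨fun a b => ?_⟩
  obtain ⟨f, hf, hfe⟩ := key.2 (k + 1) le_rfl a b
    (fun i => by
      by_cases e : a i = none
      · exact Or.inr e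
      · exact Or.inl e)
    (fun i => by
      by_cases e : b i = none
      · exact Or.inr e
      · exact Or.inl e)
  exact ⟨⟨f, hf⟩, Function.Embedding.ext fun i => hfe i⟩

end Cfsg.Agent.S4301
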