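import Mathlib
import Cfsg.Statements.S0709
import Cfsg.Agent.S4301

set_option autoImplicit false
open Cfsg

namespace Cfsg.Agent.S0709

/-- the group generated by `G` and the `s i` with `2 ≤ i`, `i + 1 ≤ j` -/
def Ks {α : Type*} (G : Subgroup (Equiv.Perm α)) (s : ℕ → Equiv.Perm α) (j : ℕ) :
    Subgroup (Equiv.Perm α) :=
  Subgroup.closure ((G : Set (Equiv.Perm α)) ∪ {x | ∃ i : ℕ, 2 ≤ i ∧ i + 1 ≤ j ∧ x = s i})

/-- the points other than `q i`, `j < i ≤ t` -/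
def Xs {α : Type*} (t : ℕ) (q : ℕ → α) (j : ℕ) : Set α := {z | ∀ i, j < i → i ≤ t → z ≠ q i}

/-- Witt's Lemma for constructing transitive extensions. Points `q 1, …, q t` (`t ≥ 2`) of a finite set are given; `G` fixes `q i` for `i ≥ 3` and is doubly transitive on the remaining points; `s 1 ∈ G` swaps `q 1, q 2`; for `2 ≤ i ≤ t-1`, `s i` swaps `q i, q (i+1)` and fixes the other `q j`; with `H` the stabiliser of `q 1, q 2` in `G`: `s i ^ 2 ∈ H`, `(s i * s (i+1)) ^ 3 ∈ H`, `(s i * s j) ^ 2 ∈ H` for `j ≥ i + 2`, and `s i` (`i ≥ 2`) normalises the stabiliser of `q 2` in `G`. Then `G` and the `s i` generate a `t`-transitive group whose pointwise stabiliser of the `q`'s is `H`. -/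
theorem result {α : Type*} [Fintype α] [DecidableEq α] (t : ℕ) (ht : 2 ≤ t) (q : ℕ → α) (hq : ∀ i j : ℕ, 1 ≤ i → i ≤ t → 1 ≤ j → j ≤ t → q i = q j → i = j) (G : Subgroup (Equiv.Perm α)) (hfix : ∀ g ∈ G, ∀ i : ℕ, 3 ≤ i → i ≤ t → g (q i) = q i) (h2 : ∀ a b c d : α, (∀ i, 3 ≤ i → i ≤ t → a ≠ q i ∧ b ≠ q i ∧ c ≠ q i ∧ d ≠ q i) → a ≠ b → c ≠ d → ∃ g ∈ G, g a = c ∧ g b = d) (s : ℕ → Equiv.Perm α) (hs1 : s 1 ∈ G) (hs1q : s 1 (q 1) = q 2 ∧ s 1 (q 2) = q 1) (hsq : ∀ i : ℕ, 2 ≤ i → i + 1 ≤ t → s i (q i) = q (i + 1) ∧ s i (q (i + 1)) = q i ∧ ∀ j : ℕ, 1 ≤ j → j ≤ t → j ≠ i → j ≠ i + 1 → s i (q j) = q j) (H : Subgroup (Equiv.Perm α)) (hH : H = G ⊓ MulAction.stabilizer (Equiv.Perm α) (q 1) ⊓ MulAction.stabilizer (Equiv.Perm α) (q 2)) (hsq2 : ∀ i : ℕ, 1 ≤ i → i + 1 ≤ t → s i ^ 2 ∈ H) (hbraid : ∀ i : ℕ, 1 ≤ i → i + 2 ≤ t → (s i * s (i + 1)) ^ 3 ∈ H) (hcomm : ∀ i j : ℕ, 1 ≤ i → i + 2 ≤ j → j + 1 ≤ t → (s i * s j) ^ 2 ∈ H ∧ (s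 j * s i) ^ 2 ∈ H) (hnorm : ∀ i : ℕ, 2 ≤ i → i + 1 ≤ t → ∀ g ∈ G ⊓ MulAction.stabilizer (Equiv.Perm α) (q 2), s i * g * (s i)⁻¹ ∈ G ⊓ MulAction.stabilizer (Equiv.Perm α) (q 2)) : MulAction.IsMultiplyPretransitive ↥(Subgroup.closure ((G : Set (Equiv.Perm α)) ∪ {x | ∃ i : ℕ, 2 ≤ i ∧ i + 1 ≤ t ∧ x = s i})) α t ∧ Subgroup.closure ((G : Set (Equiv.Perm α)) ∪ {x | ∃ i : ℕ, 2 ≤ i ∧ i + 1 ≤ t ∧ x = s i}) ⊓ fixingSubgroup (Equiv.Perm α) {x | ∃ i : ℕ, 1 ≤ i ∧ i ≤ t ∧ x = q i} = H := by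
  classical
  have hHmem : ∀ f, f ∈ H ↔ (f ∈ G ∧ f (q 1) = q 1 ∧ f (q 2) = q 2) := by
    intro f
    rw [hH, Subgroup.mem_inf, Subgroup.mem_inf, MulAction.mem_stabilizer_iff,
      MulAction.mem_stabilizer_iff]
    simp only [Equiv.Perm.smul_def]
    tauto
  have hHG : ∀ f ∈ H, f ∈ G := fun f hf => ((hHmem f).mp hf).1
  have hstabmem : ∀ f, f ∈ G ⊓ MulAction.stabilizer (Equiv.Perm α) (q 2) ↔
      (f ∈ G ∧ f (q 2) = q 2) := by
    intro f; rw [Subgroup.mem_inf, MulAction.mem_stabilizer_iff]; rfl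
  have hqne : ∀ i j, 1 ≤ i → i ≤ t → 1 ≤ j → j ≤ t → i ≠ j → q i ≠ q j :=
    fun i j hi hit hj hjt hij e => hij (hq i j hi hit hj hjt e)
  have hq12 : q 1 ≠ q 2 := hqne 1 2 le_rfl (by omega) (by omega) ht (by omega)
  have hGK : ∀ j, ∀ f ∈ G, f ∈ Ks G s j := fun j f hf => Subgroup.subset_closure (Or.inl hf)
  have hsK : ∀ j i, 2 ≤ i → i + 1 ≤ j → s i ∈ Ks G s j :=
    fun j i h1 h2 => Subgroup.subset_closure (Or.inr ⟨i, h1, h2, rfl⟩)
  have hKmono : ∀ j j', j ≤ j' → Ks G s j ≤ Ks G s j' := by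
    intro j j' hjj'
    apply Subgroup.closure_mono
    rintro x (hx | ⟨i, h1, h2, rfl⟩)
    · exact Or.inl hx
    · exact Or.inr ⟨i, h1, by omega, rfl⟩
  have hK2 : Ks G s 2 = G := by
    apply le_antisymm
    · apply (Subgroup.closure_le G).mpr
      rintro x (hx | ⟨i, h1, h2, rfl⟩)
      · exact hx
      · omega
    · exact fun f hf => hGK 2 f hf
  have hKsucc : ∀ j, 2 ≤ j →
      Ks G s (j + 1) = Subgroup.closure ((Ks G s j : Set (Equiv.Perm α)) ∪ {s j}) := by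
    intro j hj
    apply le_antisymm
    · apply (Subgroup.closure_le _).mpr
      rintro x (hx | ⟨i, h1, h2, rfl⟩)
      · exact Subgroup.subset_closure (Or.inl (hGK j x hx))
      · by_cases hij : i = j
        · subst hij; exact Subgroup.subset_closure (Or.inr rfl)
        · exact Subgroup.subset_closure (Or.inl (hsK j i h1 (by omega)))
    · apply (Subgroup.closure_le _).mpr
      rintro x (hx | hx)
      · exact hKmono j (j + 1) (by omega) hx
      · rw [Set.mem_singleton_iff] at hx; subst hx; exact hsK (j + 1) j hj le_rfl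
  have hI1 : ∀ j, ∀ f ∈ Ks G s j, ∀ i, j < i → i ≤ t → 3 ≤ i → f (q i) = q i := by
    intro j f hf i hji hit h3i
    induction hf using Subgroup.closure_induction with
    | mem x hx =>
      rcases hx with hx | ⟨l, h1, h2, rfl⟩
      · exact hfix x hx i h3i hit
      · exact (hsq l h1 (by omega)).2.2 i (by omega) hit (by omega) (by omega)
    | one => rfl
    | mul a b _ _ ha hb => rw [Equiv.Perm.mul_apply, hb, ha]
    | inv a _ ha => rw [Equiv.Perm.inv_eq_iff_eq]; exact ha.symm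
  have hqX : ∀ j i, 1 ≤ i → i ≤ j → j ≤ t → q i ∈ Xs t q j := by
    intro j i hi hij hjt i' hi' hit'
    exact hqne i i' hi (by omega) (by omega) hit' (by omega)
  have hdc : ∀ g ∈ G, g (q 2) ≠ q 2 →
      ∃ f1 ∈ G, f1 (q 2) = q 2 ∧ ∃ f2 ∈ G, f2 (q 2) = q 2 ∧ g = f1 * s 1 * f2 := by
    intro g hg hne
    have hz : ∀ i, 3 ≤ i → i ≤ t → g (q 2) ≠ q i := by
      intro i h3 hit e
      have h' := hfix g hg i h3 hit
      have e' : q 2 = q i := g.injective (e.trans h'.symm)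
      exact hqne 2 i (by omega) ht (by omega) hit (by omega) e'
    obtain ⟨f1, hf1, hf1a, hf1b⟩ := h2 (q 2) (q 1) (q 2) (g (q 2))
      (fun i h3 hit => ⟨hqne 2 i (by omega) ht (by omega) hit (by omega),
        hqne 1 i le_rfl (by omega) (by omega) hit (by omega),
        hqne 2 i (by omega) ht (by omega) hit (by omega), hz i h3 hit⟩)
      (Ne.symm hq12) (Ne.symm hne)
    refine ⟨f1, hf1, hf1a, (f1 * s 1)⁻¹ * g,
      G.mul_mem (G.inv_mem (G.mul_mem hf1 hs1)) hg, ?_, by group⟩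
    rw [Equiv.Perm.mul_apply, Equiv.Perm.inv_eq_iff_eq, Equiv.Perm.mul_apply, hs1q.2, hf1b]
  have hconj : ∀ a b : Equiv.Perm α, a * b * a⁻¹ = (a * b) ^ 2 * b⁻¹ * (a ^ 2)⁻¹ := by
    intro a b; rw [pow_two, pow_two]; group
  have hA : ∀ j, 3 ≤ j → j + 1 ≤ t → ∀ g ∈ G, s j * g * (s j)⁻¹ ∈ G := by
    intro j h3 hjt g hg
    have hs1c : s j * s 1 * (s j)⁻¹ ∈ G := by
      rw [hconj]
      exact G.mul_mem (G.mul_mem (hHG _ (hcomm 1 j le_rfl (by omega) hjt).2) (G.inv_mem hs1))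
        (G.inv_mem (hHG _ (hsq2 j (by omega) hjt)))
    by_cases hg2 : g (q 2) = q 2
    · exact ((hstabmem _).mp (hnorm j (by omega) hjt g ((hstabmem g).mpr ⟨hg, hg2⟩))).1
    · obtain ⟨f1, hf1, hf1q, f2, hf2, hf2q, rfl⟩ := hdc g hg hg2
      have e : s j * (f1 * s 1 * f2) * (s j)⁻¹ =
          (s j * f1 * (s j)⁻¹) * (s j * s 1 * (s j)⁻¹) * (s j * f2 * (s j)⁻¹) := by group
      rw [e]
      exact G.mul_mem (G.mul_mem
        ((hstabmem _).mp (hnorm j (by omega) hjt f1 ((hstabmem f1).mpr ⟨hf1, hf1q⟩))).1 hs1c)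
        ((hstabmem _).mp (hnorm j (by omega) hjt f2 ((hstabmem f2).mpr ⟨hf2, hf2q⟩))).1
  have hN : ∀ j', 2 ≤ j' → j' + 2 ≤ t → ∀ f ∈ Ks G s j',
      s (j' + 1) * f * (s (j' + 1))⁻¹ ∈ Ks G s j' := by
    intro j' h2j hjt f hf
    induction hf using Subgroup.closure_induction with
    | mem x hx =>
      rcases hx with hx | ⟨i, h1, h2', rfl⟩
      · exact hGK j' _ (hA (j' + 1) (by omega) (by omega) x hx)
      · rw [hconj]
        exact (Ks G s j').mul_mem ((Ks G s j').mul_mem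
          (hGK j' _ (hHG _ (hcomm i (j' + 1) (by omega) (by omega) (by omega)).2))
          ((Ks G s j').inv_mem (hsK j' i h1 h2')))
          ((Ks G s j').inv_mem (hGK j' _ (hHG _ (hsq2 (j' + 1) (by omega) (by omega)))))
    | one => simp
    | mul a b _ _ ha hb =>
      have e : s (j' + 1) * (a * b) * (s (j' + 1))⁻¹ =
          (s (j' + 1) * a * (s (j' + 1))⁻¹) * (s (j' + 1) * b * (s (j' + 1))⁻¹) := by group
      rw [e]; exact (Ks G s j').mul_mem ha hb
    | inv a _ ha =>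
      have e : s (j' + 1) * a⁻¹ * (s (j' + 1))⁻¹ = (s (j' + 1) * a * (s (j' + 1))⁻¹)⁻¹ := by
        group
      rw [e]; exact (Ks G s j').inv_mem ha
  have main : ∀ j, 2 ≤ j → j ≤ t →
      (∀ m ≤ j, Cfsg.Agent.S4301.Trans (Ks G s j) (Xs t q j) m) ∧
      (3 ≤ j → ∀ f ∈ Ks G s j, f (q j) = q j → f ∈ Ks G s (j - 1)) := by
    intro j hj
    induction j, hj using Nat.le_induction with
    | base =>
      intro _
      refine ⟨?_, fun h => by omega⟩
      intro m hm a b ha hb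
      rw [hK2]
      have hX2 : ∀ z, z ∈ Xs t q 2 → ∀ i, 3 ≤ i → i ≤ t → z ≠ q i :=
        fun z hz i h3 hit => hz i h3 hit
      rcases m with _ | _ | _ | m
      · exact ⟨1, G.one_mem, fun i => i.elim0⟩
      · have hex : ∀ z, ∃ z', z' ≠ z ∧ z' ∈ Xs t q 2 := by
          intro z
          by_cases e : z = q 1
          · exact ⟨q 2, fun e' => hq12 (e'.trans e).symm, hqX 2 2 (by omega) le_rfl ht⟩
          · exact ⟨q 1, fun e' => e e'.symm, hqX 2 1 le_rfl (by omega) ht⟩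
        obtain ⟨a', ha'n, ha'X⟩ := hex (a 0)
        obtain ⟨b', hb'n, hb'X⟩ := hex (b 0)
        obtain ⟨g, hg, hga, -⟩ := h2 (a 0) a' (b 0) b'
          (fun i h3 hit => ⟨hX2 _ (ha 0) i h3 hit, hX2 _ ha'X i h3 hit, hX2 _ (hb 0) i h3 hit,
            hX2 _ hb'X i h3 hit⟩) (Ne.symm ha'n) (Ne.symm hb'n)
        exact ⟨g, hg, fun i => by rw [Fin.eq_zero i]; exact hga⟩
      · obtain ⟨g, hg, hga, hgb⟩ := h2 (a 0) (a 1) (b 0) (b 1)
          (fun i h3 hit => ⟨hX2 _ (ha 0) i h3 hit, hX2 _ (ha 1) i h3 hit, hX2 _ (hb 0) i h3 hit,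
            hX2 _ (hb 1) i h3 hit⟩)
          (fun e => by simpa using a.injective e) (fun e => by simpa using b.injective e)
        refine ⟨g, hg, fun i => ?_⟩
        fin_cases i
        · exact hga
        · exact hgb
      · omega
    | succ j hj ih =>
      intro hjt
      obtain ⟨ihT, ihS⟩ := ih (by omega)
      obtain ⟨j₀, rfl⟩ : ∃ j₀, j = j₀ + 1 := ⟨j - 1, by omega⟩
      have hj₀ : 1 ≤ j₀ := by omega
      have hsqj := hsq (j₀ + 1) hj hjt
      have hgK : s j₀ ∈ Ks G s (j₀ + 1) := by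
        by_cases e : j₀ = 1
        · subst e; exact hGK _ _ hs1
        · exact hsK _ j₀ (by omega) le_rfl
      have hgx : s j₀ (q (j₀ + 1)) = q j₀ := by
        by_cases e : j₀ = 1
        · subst e; exact hs1q.2
        · exact (hsq j₀ (by omega) (by omega)).2.1
      have hh8 : ∀ f ∈ Ks G s (j₀ + 1), f (q (j₀ + 1)) = q (j₀ + 1) →
          s (j₀ + 1) * f * s (j₀ + 1) ∈ Ks G s (j₀ + 1) := by
        intro f hf hfq
        have e : s (j₀ + 1) * f * s (j₀ + 1) =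
            (s (j₀ + 1) * f * (s (j₀ + 1))⁻¹) * (s (j₀ + 1)) ^ 2 := by rw [pow_two]; group
        rw [e]
        refine (Ks G s (j₀ + 1)).mul_mem ?_ (hGK _ _ (hHG _ (hsq2 (j₀ + 1) (by omega) hjt)))
        by_cases e1 : j₀ = 1
        · subst e1
          have hfG : f ∈ G := by
            have hf' : f ∈ Ks G s 2 := hf
            rwa [hK2] at hf'
          exact hGK _ _ ((hstabmem _).mp (hnorm 2 le_rfl hjt f ((hstabmem f).mpr ⟨hfG, hfq⟩))).1
        · have hf' : f ∈ Ks G s j₀ := ihS (by omega) f hf hfq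
          exact hKmono j₀ (j₀ + 1) (by omega) (hN j₀ (by omega) (by omega) f hf')
      have key := Cfsg.Agent.S4301.ext1 (Ks G s (j₀ + 1)) (Xs t q (j₀ + 1)) (q (j₀ + 1 + 1))
        (fun hmem => hmem (j₀ + 1 + 1) (by omega) hjt rfl) (j₀ + 1) hj
        (fun f hf => hI1 (j₀ + 1) f hf _ (by omega) hjt (by omega))
        (fun f hf z hz i hi hit e =>
          hz i hi hit (f.injective (e.trans (hI1 (j₀ + 1) f hf i hi hit (by omega)).symm)))
        ihT (s (j₀ + 1)) (s j₀) (q (j₀ + 1)) (q j₀) (hqX _ _ (by omega) le_rfl (by omega))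
        (hqX _ _ hj₀ (by omega) (by omega))
        hsqj.2.1 hsqj.1 (hsqj.2.2 j₀ hj₀ (by omega) (by omega) (by omega)) hgK hgx
        (hGK _ _ (hHG _ (hbraid j₀ hj₀ (by omega))))
        (hGK _ _ (hHG _ (hsq2 (j₀ + 1) (by omega) hjt))) hh8
        (fun z hz => by
          by_cases e : s (j₀ + 1) z = q (j₀ + 1 + 1)
          · exact Or.inr e
          · left
            intro i hi hit e2
            have hi2 : i ≠ j₀ + 1 + 1 := fun e3 => e (e3 ▸ e2)
            have h' := hsqj.2.2 i (by omega) hit (by omega) hi2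
            exact hz i hi hit ((s (j₀ + 1)).injective (e2.trans h'.symm)))
      rw [← hKsucc (j₀ + 1) hj] at key
      refine ⟨?_, ?_⟩
      · intro m hm a b ha hb
        have conv : ∀ z, z ∈ Xs t q (j₀ + 1 + 1) → z ∈ Xs t q (j₀ + 1) ∪ {q (j₀ + 1 + 1)} := by
          intro z hz
          by_cases e : z = q (j₀ + 1 + 1)
          · exact Or.inr e
          · left
            intro i hi hit e2
            by_cases e3 : i = j₀ + 1 + 1
            · exact e (e3 ▸ e2)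
            · exact hz i (by omega) hit e2
        exact key.2 m hm a b (fun i => conv _ (ha i)) (fun i => conv _ (hb i))
      · intro _ f hf hfq
        exact (key.1 f hf).mp hfq
  obtain ⟨hT, -⟩ := main t ht le_rfl
  show MulAction.IsMultiplyPretransitive ↥(Ks G s t) α t ∧
    Ks G s t ⊓ fixingSubgroup (Equiv.Perm α) {x | ∃ i : ℕ, 1 ≤ i ∧ i ≤ t ∧ x = q i} = H
  refine ⟨?_, ?_⟩
  · refine ⟨fun a b => ?_⟩
    obtain ⟨f, hf, hfe⟩ := hT t le_rfl a b (fun i i' hi' hit' => by omega)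
      (fun i i' hi' hit' => by omega)
    exact ⟨⟨f, hf⟩, Function.Embedding.ext fun i => hfe i⟩
  · have hD : ∀ j, 2 ≤ j → j ≤ t → ∀ f ∈ Ks G s j,
        (∀ i, 1 ≤ i → i ≤ t → f (q i) = q i) → f ∈ G := by
      intro j hj
      induction j, hj using Nat.le_induction with
      | base => intro _ f hf _; rwa [hK2] at hf
      | succ j hj ih =>
        intro hjt f hf hfix'
        have h' := (main (j + 1) (by omega) hjt).2 (by omega) f hf (hfix' _ (by omega) hjt)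
        exact ih (by omega) f h' hfix'
    ext f
    rw [Subgroup.mem_inf, mem_fixingSubgroup_iff, hHmem]
    constructor
    · rintro ⟨hfK, hffix⟩
      have hfix' : ∀ i, 1 ≤ i → i ≤ t → f (q i) = q i :=
        fun i hi hit => hffix (q i) ⟨i, hi, hit, rfl⟩
      exact ⟨hD t ht le_rfl f hfK hfix', hfix' 1 le_rfl (by omega), hfix' 2 (by omega) ht⟩
    · rintro ⟨hfG, hf1, hf2⟩
      refine ⟨hGK t f hfG, ?_⟩
      rintro y ⟨i, hi, hit, rfl⟩
      show f (q i) = q i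
      rcases Nat.lt_or_ge i 3 with h | h
      · interval_cases i
        · exact hf1
        · exact hf2
      · exact hfix f hfG i h hit

end Cfsg.Agent.S0709
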