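import Mathlib
import Cfsg.Statements.S0710

set_option autoImplicit false
open Cfsg

namespace Cfsg.Agent.S0710

open Subgroup

/-- No transitive permutation group on 13 points has order `13 * 12 * 11 * 10 * 9 * 8`. -/
theorem result {α : Type*} [Fintype α] [DecidableEq α] (hα : Fintype.card α = 13) (G : Subgroup (Equiv.Perm α)) [MulAction.IsPretransitive G α] : Nat.card G ≠ 13 * 12 * 11 * 10 * 9 * 8 := by
  intro hcard
  have : Fact (Nat.Prime 13) := ⟨by norm_num⟩
  obtain ⟨P⟩ : Nonempty (Sylow 13 G) := Sylow.nonempty
  have hfac : (13 * 12 * 11 * 10 * 9 * 8 : ℕ).factorization 13 = 1 := by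
    have h : (13 * 12 * 11 * 10 * 9 * 8 : ℕ) = 13 ^ 1 * 95040 := by norm_num
    rw [h, Nat.factorization_mul (by norm_num) (by norm_num)]
    simp [Nat.factorization_eq_zero_of_not_dvd,
      Nat.Prime.factorization_self (by norm_num : Nat.Prime 13)]
  have hPcard : Nat.card P = 13 := by
    rw [Sylow.card_eq_multiplicity, hcard, hfac, pow_one]
  have hcyc : IsCyclic P := isCyclic_of_prime_card hPcard
  have hcomm : IsMulCommutative P := hcyc.isMulCommutative
  have hmod := card_sylow_modEq_one 13 G
  have hidx : Nat.card (Sylow 13 G) = (normalizer ((P : Subgroup G) : Set G)).index :=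
    Sylow.card_eq_index_normalizer P
  have h1 : (normalizer ((P : Subgroup G) : Set G)).index *
      Nat.card (normalizer ((P : Subgroup G) : Set G)) = Nat.card G :=
    Subgroup.index_mul_card _
  have key := card_dvd_of_injective _
    (QuotientGroup.kerLift_injective (P : Subgroup G).normalizerMonoidHom)
  rw [normalizerMonoidHom_ker, ← index, ← relIndex] at key
  rw [hcyc.card_mulAut, hPcard] at key
  have htot : Nat.totient 13 = 12 := Nat.totient_prime (by norm_num)
  rw [htot] at key
  have hCN : centralizer ((P : Subgroup G) : Set G) ≤ normalizer ((P : Subgroup G) : Set G) :=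
    centralizer_le_normalizer _
  have h2 : (centralizer ((P : Subgroup G) : Set G)).relIndex
      (normalizer ((P : Subgroup G) : Set G)) *
      Nat.card (centralizer ((P : Subgroup G) : Set G)) =
      Nat.card (normalizer ((P : Subgroup G) : Set G)) := by
    rw [relIndex, ← Nat.card_congr (Subgroup.subgroupOfEquivOfLe hCN).toEquiv]
    exact Subgroup.index_mul_card _
  have h3 : Nat.card (centralizer ((P : Subgroup G) : Set G)) = 13 := by
    apply Nat.dvd_antisymm
    · obtain ⟨g, hg⟩ := IsCyclic.exists_generator (α := P)
      have hog : orderOf g = 13 := by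
        rw [orderOf_eq_card_of_forall_mem_zpowers hg, hPcard]
      have hog' : orderOf (((g : G) : Equiv.Perm α)) = 13 := by
        rw [Subgroup.orderOf_coe, Subgroup.orderOf_coe, hog]
      have hcycle : (((g : G) : Equiv.Perm α)).IsCycle := by
        apply Equiv.Perm.isCycle_of_prime_order'
        · rw [hog']; norm_num
        · rw [hog', hα]; norm_num
      have hsupp : (((g : G) : Equiv.Perm α)).support.card = 13 := by
        rw [← hcycle.orderOf, hog']
      have hct : (((g : G) : Equiv.Perm α)).cycleType = {13} := by
        rw [hcycle.cycleType, hsupp]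
      have hcent : Nat.card (centralizer {((g : G) : Equiv.Perm α)}) = 13 := by
        rw [Equiv.Perm.nat_card_centralizer, hct, hα]
        simp
      have hle : (centralizer ((P : Subgroup G) : Set G)).map G.subtype ≤
          centralizer {((g : G) : Equiv.Perm α)} := by
        rintro x ⟨c, hc, rfl⟩
        rw [Subgroup.mem_centralizer_singleton_iff]
        have := (Subgroup.mem_centralizer_iff.mp hc) (g : G) g.2
        exact (congrArg Subtype.val this).symm
      have hdvd := Subgroup.card_dvd_of_le hle
      rw [hcent, Subgroup.card_map_of_injective G.subtype_injective] at hdvd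
      exact hdvd
    · have hdvd := Subgroup.card_dvd_of_le (Subgroup.le_centralizer (P : Subgroup G))
      rw [hPcard] at hdvd
      exact hdvd
  rw [h3] at h2
  rw [hcard, ← h2, ← hidx] at h1
  have hr : (centralizer ((P : Subgroup G) : Set G)).relIndex
      (normalizer ((P : Subgroup G) : Set G)) ≤ 12 := Nat.le_of_dvd (by norm_num) key
  have hmod' : Nat.card (Sylow 13 G) % 13 = 1 := hmod
  generalize (centralizer ((P : Subgroup G) : Set G)).relIndex
      (normalizer ((P : Subgroup G) : Set G)) = r at h1 hr key
  generalize Nat.card (Sylow 13 G) = n at h1 hmod'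
  interval_cases r <;> omega

end Cfsg.Agent.S0710
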