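import Cfsg.Statements.S0712

set_option autoImplicit false
open Cfsg

namespace Cfsg.Agent.S0712

open MulAction SubMulAction Subgroup

open scoped Pointwise

theorem aux {G α : Type*} [Group G] [MulAction G α] [Finite α]
    (hG : IsPreprimitive G α) {s : Set α} {m : ℕ}
    (hsm : s.ncard = m) (hm : m + 2 ≤ Nat.card α)
    (h2 : IsMultiplyPretransitive (fixingSubgroup G s) (ofFixingSubgroup G s) 2) :
    IsMultiplyPretransitive G α (m + 2) := by
  induction m generalizing α G with
  | zero =>
    have hs : s = ∅ := by rwa [Set.ncard_eq_zero] at hsm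
    subst hs
    rw [zero_add]
    rw [is_two_pretransitive_iff] at h2 ⊢
    intro a b c d hab hcd
    have ha : a ∈ ofFixingSubgroup G (∅ : Set α) := by simp [mem_ofFixingSubgroup_iff]
    have hb : b ∈ ofFixingSubgroup G (∅ : Set α) := by simp [mem_ofFixingSubgroup_iff]
    have hc : c ∈ ofFixingSubgroup G (∅ : Set α) := by simp [mem_ofFixingSubgroup_iff]
    have hd : d ∈ ofFixingSubgroup G (∅ : Set α) := by simp [mem_ofFixingSubgroup_iff]
    obtain ⟨g, hg1, hg2⟩ := @h2 ⟨a, ha⟩ ⟨b, hb⟩ ⟨c, hc⟩ ⟨d, hd⟩
      (by simpa using hab) (by simpa using hcd)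
    refine ⟨(g : G), ?_, ?_⟩
    · exact congrArg Subtype.val hg1
    · exact congrArg Subtype.val hg2
  | succ n hrec =>
    have hGt : IsPretransitive G α := hG.toIsPretransitive
    have hprim : IsPreprimitive (fixingSubgroup G s) (ofFixingSubgroup G s) :=
      isPreprimitive_of_is_two_pretransitive h2
    have hsn' : n + 2 < Nat.card α := by omega
    obtain ⟨a, t, _, hst⟩ : ∃ (a : α) (t : Set (SubMulAction.ofStabilizer G a)),
        a ∈ s ∧ s = insert a (Subtype.val '' t) := by
      have : s.Nonempty := by
        rw [← Set.ncard_pos, hsm]; apply Nat.succ_pos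
      obtain ⟨a, ha⟩ := this
      use a, Subtype.val ⁻¹' s, ha
      ext x
      by_cases hx : x = a <;> simp [hx, mem_ofStabilizer_iff, ha]
    have ha' : a ∉ Subtype.val '' t := by
      intro h; rw [Set.mem_image] at h; obtain ⟨x, hx⟩ := h
      apply x.prop; rw [hx.right]; exact Set.mem_singleton a
    have ht_prim : IsPreprimitive (stabilizer G a) (SubMulAction.ofStabilizer G a) := by
      rw [← is_one_preprimitive_iff]
      rw [← isMultiplyPreprimitive_succ_iff_ofStabilizer]
      · exact IsPreprimitive.is_two_preprimitive hG hsm hsn' hprim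
      · norm_num
    subst hst
    have hGs' : IsMultiplyPretransitive (fixingSubgroup (stabilizer G a) t)
        (ofFixingSubgroup (stabilizer G a) t) 2 :=
      (IsPretransitive.of_embedding_congr (MulEquiv.surjective _)
        ofFixingSubgroup_insert_map_bijective).mp h2
    rw [show n + 1 + 2 = (n + 2).succ from rfl, ofStabilizer.isMultiplyPretransitive (a := a)]
    refine hrec ht_prim ?_ ?_ hGs'
    · rw [← Set.ncard_image_of_injective t Subtype.val_injective]
      apply Nat.add_right_cancel
      rw [← Set.ncard_insert_of_notMem ha', hsm]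
    · rw [← Nat.add_le_add_iff_right (n := 1), nat_card_ofStabilizer_add_one_eq]
      exact hm

/-- Jordan: a primitive group in which the pointwise stabiliser of a set `s` is doubly transitive on the complement of `s` (which has at least 2 points) is `(|s| + 2)`-transitive. -/
theorem result {α : Type*} [Fintype α] [DecidableEq α] (G : Subgroup (Equiv.Perm α)) (hG : MulAction.IsPreprimitive G α) (s : Set α) {m : ℕ} (hsm : s.ncard = m) (hm : m + 2 ≤ Fintype.card α) (h2 : MulAction.IsMultiplyPretransitive (fixingSubgroup G s) (SubMulAction.ofFixingSubgroup G s) 2) : MulAction.IsMultiplyPretransitive G α (m + 2) := by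
  apply aux hG hsm _ h2
  rwa [Nat.card_eq_fintype_card]

end Cfsg.Agent.S0712
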