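import Mathlib
import Cfsg.Statements.S0714

set_option autoImplicit false
open Cfsg

namespace Cfsg.Agent.S0714

open MulAction

variable {α : Type*} [DecidableEq α] {K : Type*} [Field K]

/-- the vector `e_p - e_q` -/
def D (K : Type*) [Field K] {α : Type*} [DecidableEq α] (p q : α) : α → K :=
  Pi.single p 1 - Pi.single q 1

lemma exists_not_mem [Fintype α] (s : Finset α) (h : s.card < Fintype.card α) : ∃ x, x ∉ s := by
  by_contra hcon
  push Not at hcon
  have : s = Finset.univ := Finset.eq_univ_iff_forall.mpr hcon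
  rw [this, Finset.card_univ] at h
  omega

lemma two_swaps_mem [Fintype α] (p q r s : α) (hpq : p ≠ q) (hrs : r ≠ s) :
    Equiv.swap p q * Equiv.swap r s ∈ alternatingGroup α := by
  rw [Equiv.Perm.mem_alternatingGroup]
  simp [Equiv.Perm.sign_mul, Equiv.Perm.sign_swap hpq, Equiv.Perm.sign_swap hrs]

/-- action of a double transposition -/
lemma T_formula (f : α → K) (p q r s : α) (hpq : p ≠ q) (hpr : p ≠ r) (hps : p ≠ s)
    (hqr : q ≠ r) (hqs : q ≠ s) (hrs : r ≠ s) :
    (f - fun x => f ((Equiv.swap p q * Equiv.swap r s) x)) =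
      (f p - f q) • D K p q + (f r - f s) • D K r s := by
  funext x
  simp only [Pi.sub_apply, Pi.add_apply, Pi.smul_apply, D, Pi.single_apply, smul_eq_mul,
    Equiv.Perm.coe_mul, Function.comp_apply]
  by_cases hxp : x = p
  · subst hxp
    rw [Equiv.swap_apply_of_ne_of_ne hpr hps, Equiv.swap_apply_left]
    simp [hpq, hpr, hps]
  by_cases hxq : x = q
  · subst hxq
    rw [Equiv.swap_apply_of_ne_of_ne hqr hqs, Equiv.swap_apply_right]
    simp [hpq.symm, hqr, hqs]
  by_cases hxr : x = r
  · subst hxr
    rw [Equiv.swap_apply_left, Equiv.swap_apply_of_ne_of_ne hps.symm hqs.symm]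
    simp [hpr.symm, hqr.symm, hrs]
  by_cases hxs : x = s
  · subst hxs
    rw [Equiv.swap_apply_right, Equiv.swap_apply_of_ne_of_ne hpr.symm hqr.symm]
    simp [hps.symm, hqs.symm, hrs.symm]
  rw [Equiv.swap_apply_of_ne_of_ne hxr hxs, Equiv.swap_apply_of_ne_of_ne hxp hxq]
  simp [hxp, hxq, hxr, hxs]

/-- Over any field, the permutation module of the alternating group of degree at least 5 has exactly four invariant subspaces: zero, the constant functions, the functions with coordinate sum zero, and everything. -/
theorem result {α : Type*} [Fintype α] [DecidableEq α] (hα : 5 ≤ Fintype.card α) {K : Type*} [Field K] (W : Subrepresentation (Cfsg.permRep K (alternatingGroup α) α)) : W.toSubmodule = ⊥ ∨ W = Cfsg.permConstants K (alternatingGroup α) α ∨ W = Cfsg.permSumZero K (alternatingGroup α) α ∨ W.toSubmodule = ⊤ := by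
  classical
  set S := W.toSubmodule with hS
  have hinv : ∀ σ : Equiv.Perm α, σ ∈ alternatingGroup α → ∀ v ∈ S,
      (fun x => v (σ x)) ∈ S := by
    intro σ hσ v hv
    have h1 := W.apply_mem_toSubmodule ⟨σ⁻¹, inv_mem hσ⟩ hv
    have h2 : (Cfsg.permRep K (alternatingGroup α) α) ⟨σ⁻¹, inv_mem hσ⟩ v =
        fun x => v (σ x) := by
      funext x
      show v ((⟨σ⁻¹, inv_mem hσ⟩ : alternatingGroup α)⁻¹ • x) = v (σ x)
      congr 1
    rw [h2] at h1
    exact h1
  have hT : ∀ f ∈ S, ∀ p q r s : α, p ≠ q → p ≠ r → p ≠ s → q ≠ r → q ≠ s → r ≠ s →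
      (f p - f q) • D K p q + (f r - f s) • D K r s ∈ S := by
    intro f hf p q r s hpq hpr hps hqr hqs hrs
    rw [← T_formula f p q r s hpq hpr hps hqr hqs hrs]
    exact S.sub_mem hf (hinv _ (two_swaps_mem p q r s hpq hrs) f hf)
  by_cases hconst : ∀ v ∈ S, ∀ x y, v x = v y
  · by_cases hbot : S = ⊥
    · left; exact hbot
    · right; left
      apply Subrepresentation.toSubmodule_injective
      show S = Submodule.span K {fun _ => 1}
      apply le_antisymm
      · intro v hv
        rw [Submodule.mem_span_singleton]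
        obtain ⟨x0⟩ : Nonempty α := by
          rw [← Fintype.card_pos_iff]; omega
        refine ⟨v x0, ?_⟩
        funext y
        simp [hconst v hv y x0]
      · rw [Submodule.span_le, Set.singleton_subset_iff]
        obtain ⟨v, hv, hv0⟩ := (Submodule.ne_bot_iff S).mp hbot
        obtain ⟨x0, hx0⟩ : ∃ x0, v x0 ≠ 0 := by
          by_contra hcon
          push Not at hcon
          exact hv0 (funext hcon)
        have : (fun _ => 1 : α → K) = (v x0)⁻¹ • v := by
          funext y
          simp [hconst v hv y x0, hx0]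
        rw [SetLike.mem_coe, this]
        exact S.smul_mem _ hv
  · push Not at hconst
    obtain ⟨v, hv, i, j, hij⟩ := hconst
    have hijne : i ≠ j := fun h => hij (by rw [h])
    -- choose three more points
    obtain ⟨k, hk⟩ := exists_not_mem ({i, j} : Finset α)
      (lt_of_le_of_lt (Finset.card_le_two) (by omega))
    obtain ⟨l, hl⟩ := exists_not_mem ({i, j, k} : Finset α)
      (lt_of_le_of_lt (Finset.card_le_three) (by omega))
    obtain ⟨m, hm⟩ := exists_not_mem ({i, j, k, l} : Finset α)
      (lt_of_le_of_lt (Finset.card_le_four) (by omega))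
    simp only [Finset.mem_insert, Finset.mem_singleton, not_or] at hk hl hm
    obtain ⟨hki, hkj⟩ := hk
    obtain ⟨hli, hlj, hlk⟩ := hl
    obtain ⟨hmi, hmj, hmk, hml⟩ := hm
    -- w = v - v ∘ σ, σ the 3-cycle i → j → k → i
    set σ : Equiv.Perm α := Equiv.swap i j * Equiv.swap j k with hσ
    have hσmem : σ ∈ alternatingGroup α := two_swaps_mem i j j k hijne (Ne.symm hkj)
    set w : α → K := v - fun x => v (σ x) with hw
    have hwS : w ∈ S := S.sub_mem hv (hinv σ hσmem v hv)
    have hσi : σ i = j := by
      simp [hσ, Equiv.swap_apply_of_ne_of_ne hijne (Ne.symm hki)]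
    have hσfix : ∀ x, x ≠ i → x ≠ j → x ≠ k → σ x = x := by
      intro x hxi hxj hxk
      simp [hσ, Equiv.swap_apply_of_ne_of_ne hxj hxk, Equiv.swap_apply_of_ne_of_ne hxi hxj]
    have hwi : w i ≠ 0 := by
      simp only [hw, Pi.sub_apply, hσi]
      exact sub_ne_zero.mpr hij
    have hwl : w l = 0 := by
      simp only [hw, Pi.sub_apply, hσfix l hli hlj hlk, sub_self]
    have hwm : w m = 0 := by
      simp only [hw, Pi.sub_apply, hσfix m hmi hmj hmk, sub_self]
    -- some D x y is in S
    have hD : ∃ x y : α, x ≠ y ∧ D K x y ∈ S := by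
      have e1 := hT w hwS i j l m hijne (Ne.symm hli) (Ne.symm hmi) (Ne.symm hlj) (Ne.symm hmj)
        (Ne.symm hml)
      have e2 := hT w hwS k l i j (Ne.symm hlk) hki hkj hli hlj hijne
      have e3 := hT w hwS j k l m (Ne.symm hkj) (Ne.symm hlj) (Ne.symm hmj) (Ne.symm hlk)
        (Ne.symm hmk) (Ne.symm hml)
      rw [hwl, hwm, sub_self, zero_smul, add_zero] at e1 e3
      rw [hwl, sub_zero] at e2
      by_cases h1 : w i = w j
      · rw [h1, sub_self, zero_smul, add_zero] at e2
        by_cases h2 : w k = 0
        · rw [h2, sub_zero] at e3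
          have hwj : w j ≠ 0 := by rw [← h1]; exact hwi
          refine ⟨j, k, Ne.symm hkj, ?_⟩
          have := S.smul_mem (w j)⁻¹ e3
          rwa [smul_smul, inv_mul_cancel₀ hwj, one_smul] at this
        · refine ⟨k, l, Ne.symm hlk, ?_⟩
          have := S.smul_mem (w k)⁻¹ e2
          rwa [smul_smul, inv_mul_cancel₀ h2, one_smul] at this
      · refine ⟨i, j, hijne, ?_⟩
        have h1' : w i - w j ≠ 0 := sub_ne_zero.mpr h1
        have := S.smul_mem (w i - w j)⁻¹ e1
        rwa [smul_smul, inv_mul_cancel₀ h1', one_smul] at this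
    obtain ⟨x, y, hxy, hDxy⟩ := hD
    -- all D p q in S
    have hDall : ∀ p q : α, p ≠ q → D K p q ∈ S := by
      intro p q hpq
      have h2t : IsMultiplyPretransitive (alternatingGroup α) α 2 := by
        have := alternatingGroup.isMultiplyPretransitive α
        apply isMultiplyPretransitive_of_le (n := Nat.card α - 2)
        · rw [Nat.card_eq_fintype_card]; omega
        · omega
      rw [is_two_pretransitive_iff] at h2t
      obtain ⟨g, hg1, hg2⟩ := h2t hpq hxy
      have h1 := hinv (g : Equiv.Perm α) g.2 _ hDxy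
      have h2 : (fun z => D K x y ((g : Equiv.Perm α) z)) = D K p q := by
        funext z
        have e1 : (g : Equiv.Perm α) z = x ↔ z = p := by
          rw [← hg1]
          exact (g : Equiv.Perm α).injective.eq_iff
        have e2 : (g : Equiv.Perm α) z = y ↔ z = q := by
          rw [← hg2]
          exact (g : Equiv.Perm α).injective.eq_iff
        simp only [D, Pi.sub_apply, Pi.single_apply, e1, e2]
      rw [h2] at h1
      exact h1
    -- sum-zero ≤ S
    have hZ : (Cfsg.permSumZero K (alternatingGroup α) α).toSubmodule ≤ S := by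
      intro f hf
      have hsum : ∑ x, f x = 0 := hf
      have hrepr : f = ∑ z, f z • D K z i := by
        funext t
        simp only [Finset.sum_apply, Pi.smul_apply, D, Pi.sub_apply, Pi.single_apply,
          smul_eq_mul, mul_sub, Finset.sum_sub_distrib, mul_ite, mul_one, mul_zero,
          Finset.sum_ite_eq, Finset.mem_univ, if_true]
        by_cases hti : t = i
        · simp [hti, hsum]
        · simp [hti]
      rw [hrepr]
      apply Submodule.sum_mem
      intro z _
      by_cases hzi : z = i
      · have : D K z i = 0 := by simp [D, hzi]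
        rw [this, smul_zero]; exact S.zero_mem
      · exact S.smul_mem _ (hDall z i hzi)
    by_cases hle : S ≤ (Cfsg.permSumZero K (alternatingGroup α) α).toSubmodule
    · right; right; left
      apply Subrepresentation.toSubmodule_injective
      exact le_antisymm hle hZ
    · right; right; right
      rw [SetLike.not_le_iff_exists] at hle
      obtain ⟨u, hu, hunot⟩ := hle
      have hus : ∑ x, u x ≠ 0 := hunot
      rw [eq_top_iff]
      intro f _
      have hdecomp : f = (f - ((∑ x, f x) / (∑ x, u x)) • u) + ((∑ x, f x) / (∑ x, u x)) • u := by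
        abel
      rw [hdecomp]
      apply S.add_mem _ (S.smul_mem _ hu)
      apply hZ
      show ∑ x, (f - ((∑ x, f x) / (∑ x, u x)) • u) x = 0
      simp only [Pi.sub_apply, Pi.smul_apply, smul_eq_mul, Finset.sum_sub_distrib,
        ← Finset.mul_sum]
      field_simp
      ring

end Cfsg.Agent.S0714
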