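import Mathlib
import Cfsg.Statements.S0715
import Cfsg.Agent.Lib.helper16.PermChar

set_option autoImplicit false
open Cfsg

namespace Cfsg.Agent.S0715

/-- If a natural number `f` divides the degree of every non-principal irreducible constituent of the permutation character of a transitive group, then `f` divides every non-trivial subdegree. -/
theorem result {G : Type*} [Group G] [Fintype G] {Ω : Type*} [Fintype Ω] [MulAction G Ω] [MulAction.IsPretransitive G Ω] (f : ℕ) (hf : ∀ χ : G → ℂ, Cfsg.IsIrrCharacter G χ → χ ≠ (fun _ => 1) → Cfsg.classInner (fun g : G => (Nat.card (MulAction.fixedBy Ω g) : ℂ)) χ ≠ 0 → ∃ m : ℕ, χ 1 = (f : ℂ) * m) (a b : Ω) (hab : b ≠ a) : f ∣ Nat.card (MulAction.orbit (MulAction.stabilizer G a) b) := by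
  have key := Cfsg.Agent.Lib.helper16.dvd_card_of_invariant_rel (G := G) (Ω := Ω)
    (fun x y => ∃ g : G, g • a = x ∧ g • b = y)
    (by
      intro h x y
      constructor
      · rintro ⟨g, h1, h2⟩
        refine ⟨h⁻¹ * g, ?_, ?_⟩
        · rw [mul_smul, h1, inv_smul_smul]
        · rw [mul_smul, h2, inv_smul_smul]
      · rintro ⟨g, rfl, rfl⟩
        exact ⟨h * g, mul_smul _ _ _, mul_smul _ _ _⟩)
    (by
      rintro x ⟨g, h1, h2⟩
      apply hab
      have : g • b = g • a := by rw [h1, h2]
      exact smul_left_cancel g this)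
    a f hf
  have hcard : Nat.card {y // ∃ g : G, g • a = a ∧ g • b = y} =
      Nat.card (MulAction.orbit (MulAction.stabilizer G a) b) := by
    apply Nat.card_congr
    apply Equiv.subtypeEquivRight
    intro y
    rw [MulAction.mem_orbit_iff]
    constructor
    · rintro ⟨g, h1, h2⟩
      exact ⟨⟨g, h1⟩, h2⟩
    · rintro ⟨⟨g, hg⟩, h2⟩
      exact ⟨g, hg, h2⟩
  rw [← hcard]
  exact key

end Cfsg.Agent.S0715
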