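import Mathlib
import Cfsg.Statements.S0716
import Cfsg.Agent.S0715
import Cfsg.Agent.Lib.helper16.PermRank

set_option autoImplicit false
open Cfsg

namespace Cfsg.Agent.S0716

open Cfsg.Agent.Lib.helper16 Cfsg.Agent.Lib.helper4

/-- (a) If all non-principal irreducible constituents of the permutation character of a transitive group have the same degree `f`, the character is multiplicity-free and all non-trivial subdegrees equal `f`. (b) A transitive group of rank at most 5 has multiplicity-free permutation character. -/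
theorem result {G : Type*} [Group G] [Fintype G] {Ω : Type*} [Fintype Ω] [MulAction G Ω] [MulAction.IsPretransitive G Ω] (a : Ω) : ((f : ℕ) → (∀ χ : G → ℂ, Cfsg.IsIrrCharacter G χ → χ ≠ (fun _ => 1) → Cfsg.classInner (fun g : G => (Nat.card (MulAction.fixedBy Ω g) : ℂ)) χ ≠ 0 → χ 1 = f) → (∀ χ : G → ℂ, Cfsg.IsIrrCharacter G χ → Cfsg.classInner (fun g : G => (Nat.card (MulAction.fixedBy Ω g) : ℂ)) χ = 0 ∨ Cfsg.classInner (fun g : G => (Nat.card (MulAction.fixedBy Ω g) : ℂ)) χ = 1) ∧ ∀ b : Ω, b ≠ a → Nat.card (MulAction.orbit (MulAction.stabilizer G a) b) = f) ∧ (Nat.card (MulAction.orbitRel.Quotient (MulAction.stabilizer G a) Ω) ≤ 5 → ∀ χ : G → ℂ, Cfsg.IsIrrCharacter G χ → Cfsg.classInner (fun g : G => (Nat.card (MulAction.fixedBy Ω g) : ℂ)) χ = 0 ∨ Cfsg.classInner (fun g : G => (Nat.card (MulAction.fixedBy Ω g) : ℂ)) χ = 1) := by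
  classical
  have hfinI : Fintype (IrrCharacter G) := Fintype.ofFinite _
  have hfinQ : Fintype (MulAction.orbitRel.Quotient (MulAction.stabilizer G a) Ω) :=
    Fintype.ofFinite _
  obtain ⟨m, d, hm, hd, hdpos, hn, hr, hm0⟩ := perm_decomp (G := G) (Ω := Ω) a
  generalize hχ₀ : (⟨fun _ => 1, isIrrCharacter_one'⟩ : IrrCharacter G) = χ₀ at hm0
  have hχ₀v : (χ₀ : G → ℂ) = fun _ => 1 := by rw [← hχ₀]
  have hd0 : d χ₀ = 1 := by
    have h1 : (1 : ℂ) = d χ₀ := by
      have h2 := hd χ₀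
      rw [hχ₀v] at h2
      exact h2
    exact_mod_cast h1.symm
  have hn' : Fintype.card Ω = 1 + ∑ χ ∈ Finset.univ.erase χ₀, m χ * d χ := by
    rw [hn, ← Finset.add_sum_erase _ _ (Finset.mem_univ χ₀), hm0, hd0]
  have hr' : Nat.card (MulAction.orbitRel.Quotient (MulAction.stabilizer G a) Ω) =
      1 + ∑ χ ∈ Finset.univ.erase χ₀, m χ ^ 2 := by
    rw [hr, ← Finset.add_sum_erase _ _ (Finset.mem_univ χ₀), hm0]; norm_num
  -- the orbit side
  obtain ⟨qa, hqa⟩ : ∃ qa : MulAction.orbitRel.Quotient (MulAction.stabilizer G a) Ω,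
      Quotient.mk'' a = qa := ⟨_, rfl⟩
  have horb_a : ∀ x, x ∈ MulAction.orbit (MulAction.stabilizer G a) a → x = a := by
    rintro x ⟨⟨g, hg⟩, rfl⟩; exact hg
  have hout_a : qa.out = a := by
    apply horb_a
    have h1 : (Quotient.mk'' qa.out : MulAction.orbitRel.Quotient (MulAction.stabilizer G a) Ω) =
        Quotient.mk'' a := by rw [Quotient.out_eq', hqa]
    exact Quotient.exact' h1
  have hs_a : Nat.card (MulAction.orbit (MulAction.stabilizer G a) qa.out) = 1 := by
    rw [hout_a]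
    have h1 : MulAction.orbit (MulAction.stabilizer G a) a = {a} := by
      ext x; constructor
      · intro hx; exact horb_a x hx
      · rintro rfl; exact MulAction.mem_orbit_self _
    rw [h1]; simp
  have hsum := card_eq_sum_suborbits (G := G) (Ω := Ω) a
  have hn'' : Fintype.card Ω = 1 + ∑ ω ∈ Finset.univ.erase qa,
      Nat.card (MulAction.orbit (MulAction.stabilizer G a) ω.out) := by
    rw [hsum, ← Finset.add_sum_erase _ _ (Finset.mem_univ qa), hs_a]
  have hr'' : Nat.card (MulAction.orbitRel.Quotient (MulAction.stabilizer G a) Ω) =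
      1 + (Finset.univ.erase qa).card := by
    have h1 : (Finset.univ.erase qa).card =
        Fintype.card (MulAction.orbitRel.Quotient (MulAction.stabilizer G a) Ω) - 1 := by
      rw [Finset.card_erase_of_mem (Finset.mem_univ _), Finset.card_univ]
    have h2 : Nat.card (MulAction.orbitRel.Quotient (MulAction.stabilizer G a) Ω) =
        Fintype.card (MulAction.orbitRel.Quotient (MulAction.stabilizer G a) Ω) :=
      Nat.card_eq_fintype_card
    have h3 : 0 < Fintype.card (MulAction.orbitRel.Quotient (MulAction.stabilizer G a) Ω) :=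
      Fintype.card_pos_iff.mpr ⟨qa⟩
    omega
  have hout_ne : ∀ ω : MulAction.orbitRel.Quotient (MulAction.stabilizer G a) Ω,
      ω ≠ qa → ω.out ≠ a := by
    intro ω hω h
    apply hω
    rw [← Quotient.out_eq' ω, h, hqa]
  have hspos : ∀ b : Ω, 0 < Nat.card (MulAction.orbit (MulAction.stabilizer G a) b) := by
    intro b
    have : Nonempty (MulAction.orbit (MulAction.stabilizer G a) b) :=
      ⟨⟨b, MulAction.mem_orbit_self b⟩⟩
    exact Nat.card_pos
  have hcls : ∀ b : Ω, b ≠ a →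
      (Quotient.mk'' b : MulAction.orbitRel.Quotient (MulAction.stabilizer G a) Ω) ≠ qa := by
    intro b hb h
    rw [← hqa] at h
    exact hb (horb_a b (Quotient.exact' h))
  have horb_out : ∀ b : Ω, MulAction.orbit (MulAction.stabilizer G a)
      (Quotient.mk'' b : MulAction.orbitRel.Quotient (MulAction.stabilizer G a) Ω).out =
      MulAction.orbit (MulAction.stabilizer G a) b := by
    intro b
    apply MulAction.orbit_eq_iff.mpr
    exact Quotient.exact' (Quotient.out_eq'
      (Quotient.mk'' b : MulAction.orbitRel.Quotient (MulAction.stabilizer G a) Ω))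
  -- part (a)
  have partA : ∀ f : ℕ, (∀ χ : G → ℂ, Cfsg.IsIrrCharacter G χ → χ ≠ (fun _ => 1) →
      Cfsg.classInner (fun g : G => (Nat.card (MulAction.fixedBy Ω g) : ℂ)) χ ≠ 0 → χ 1 = f) →
      (∀ χ : G → ℂ, Cfsg.IsIrrCharacter G χ →
        Cfsg.classInner (fun g : G => (Nat.card (MulAction.fixedBy Ω g) : ℂ)) χ = 0 ∨
        Cfsg.classInner (fun g : G => (Nat.card (MulAction.fixedBy Ω g) : ℂ)) χ = 1) ∧
      ∀ b : Ω, b ≠ a → Nat.card (MulAction.orbit (MulAction.stabilizer G a) b) = f := by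
    intro f hf
    have hdiv : ∀ b : Ω, b ≠ a → f ∣ Nat.card (MulAction.orbit (MulAction.stabilizer G a) b) :=
      fun b hb => Cfsg.Agent.S0715.result f
        (fun χ hχ h1 h2 => ⟨1, by rw [hf χ hχ h1 h2]; simp⟩) a b hb
    have hdf : ∀ χ ∈ Finset.univ.erase χ₀, m χ * d χ = f * m χ := by
      intro χ hχ
      by_cases h0 : m χ = 0
      · simp [h0]
      · have hne1 : (χ : G → ℂ) ≠ (fun _ => 1) := by
          intro h
          exact (Finset.ne_of_mem_erase hχ) (Subtype.ext (h.trans hχ₀v.symm))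
        have h1 := hf χ.1 χ.2 hne1 (by rw [hm χ]; exact_mod_cast h0)
        rw [hd χ] at h1
        have h2 : d χ = f := by exact_mod_cast h1
        rw [h2]; ring
    have e1 : ∑ χ ∈ Finset.univ.erase χ₀, m χ * d χ = f * ∑ χ ∈ Finset.univ.erase χ₀, m χ := by
      rw [Finset.mul_sum]; exact Finset.sum_congr rfl hdf
    have e2 : ∑ ω ∈ Finset.univ.erase qa,
        Nat.card (MulAction.orbit (MulAction.stabilizer G a) ω.out) =
        f * ∑ χ ∈ Finset.univ.erase χ₀, m χ := by
      omega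
    have e3 : (Finset.univ.erase qa).card = ∑ χ ∈ Finset.univ.erase χ₀, m χ ^ 2 := by omega
    have hsle : ∀ ω ∈ Finset.univ.erase qa,
        f ≤ Nat.card (MulAction.orbit (MulAction.stabilizer G a) ω.out) := by
      intro ω hω
      exact Nat.le_of_dvd (hspos _) (hdiv _ (hout_ne ω (Finset.ne_of_mem_erase hω)))
    have e4 : (Finset.univ.erase qa).card * f ≤ ∑ ω ∈ Finset.univ.erase qa,
        Nat.card (MulAction.orbit (MulAction.stabilizer G a) ω.out) := by
      rw [← smul_eq_mul, ← Finset.sum_const]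
      exact Finset.sum_le_sum hsle
    rcases Nat.eq_zero_or_pos f with hf0 | hfpos
    · subst hf0
      have hempty : Finset.univ.erase qa = ∅ := by
        by_contra hne
        obtain ⟨ω, hω⟩ := Finset.nonempty_iff_ne_empty.mpr hne
        have h1 := hdiv _ (hout_ne ω (Finset.ne_of_mem_erase hω))
        have h2 := hspos ω.out
        rw [zero_dvd_iff] at h1
        omega
      rw [hempty, Finset.card_empty] at e3
      have hm0' : ∀ χ ∈ Finset.univ.erase χ₀, m χ = 0 := by
        intro χ hχ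
        have h1 := (Finset.sum_eq_zero_iff.mp e3.symm) χ hχ
        exact (pow_eq_zero_iff (by norm_num)).mp h1
      constructor
      · intro χ hχ
        by_cases h1 : (⟨χ, hχ⟩ : IrrCharacter G) = χ₀
        · right
          have h2 := hm ⟨χ, hχ⟩
          rw [h1, hm0] at h2
          have h3 : χ = (χ₀ : G → ℂ) := congrArg Subtype.val h1
          rw [h3, h2]; simp
        · left
          have h2 := hm ⟨χ, hχ⟩
          rw [hm0' _ (Finset.mem_erase.mpr ⟨h1, Finset.mem_univ _⟩)] at h2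
          simpa using h2
      · intro b hb
        exfalso
        have h1 : (Quotient.mk'' b : MulAction.orbitRel.Quotient (MulAction.stabilizer G a) Ω) ∈
            Finset.univ.erase qa := Finset.mem_erase.mpr ⟨hcls b hb, Finset.mem_univ _⟩
        rw [hempty] at h1
        simp at h1
    · have e5 : f * ∑ χ ∈ Finset.univ.erase χ₀, m χ ^ 2 ≤
          f * ∑ χ ∈ Finset.univ.erase χ₀, m χ := by
        rw [← e3, ← e2, mul_comm]; exact e4
      have e6 : ∑ χ ∈ Finset.univ.erase χ₀, m χ ^ 2 ≤ ∑ χ ∈ Finset.univ.erase χ₀, m χ :=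
        Nat.le_of_mul_le_mul_left e5 hfpos
      have hle : ∀ χ ∈ Finset.univ.erase χ₀, m χ ≤ m χ ^ 2 := by
        intro χ _
        exact Nat.le_self_pow (by norm_num) _
      have e7 : ∑ χ ∈ Finset.univ.erase χ₀, m χ = ∑ χ ∈ Finset.univ.erase χ₀, m χ ^ 2 :=
        le_antisymm (Finset.sum_le_sum hle) e6
      have hm1 : ∀ χ ∈ Finset.univ.erase χ₀, m χ ≤ 1 := by
        intro χ hχ
        have h1 := (Finset.sum_eq_sum_iff_of_le hle).mp e7 χ hχ
        nlinarith
      have e8 : ∑ _ω ∈ Finset.univ.erase qa, f = ∑ ω ∈ Finset.univ.erase qa,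
          Nat.card (MulAction.orbit (MulAction.stabilizer G a) ω.out) := by
        rw [Finset.sum_const, smul_eq_mul, e2, e3, e7, mul_comm]
      have hseq : ∀ ω ∈ Finset.univ.erase qa,
          f = Nat.card (MulAction.orbit (MulAction.stabilizer G a) ω.out) :=
        (Finset.sum_eq_sum_iff_of_le hsle).mp e8
      constructor
      · intro χ hχ
        by_cases h1 : (⟨χ, hχ⟩ : IrrCharacter G) = χ₀
        · right
          have h2 := hm ⟨χ, hχ⟩
          rw [h1, hm0] at h2
          have h3 : χ = (χ₀ : G → ℂ) := congrArg Subtype.val h1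
          rw [h3, h2]; simp
        · have h2 := hm1 _ (Finset.mem_erase.mpr ⟨h1, Finset.mem_univ _⟩)
          have h3 := hm ⟨χ, hχ⟩
          rcases Nat.le_one_iff_eq_zero_or_eq_one.mp h2 with h | h
          · left; rw [h] at h3; simpa using h3
          · right; rw [h] at h3; simpa using h3
      · intro b hb
        have h1 := hseq _ (Finset.mem_erase.mpr ⟨hcls b hb, Finset.mem_univ _⟩)
        rw [horb_out b] at h1
        exact h1.symm
  refine ⟨partA, ?_⟩
  intro hrank χ hχ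
  by_contra hcon
  push Not at hcon
  have hmχ := hm ⟨χ, hχ⟩
  have hmχ' : Cfsg.classInner (fun g : G => (Nat.card (MulAction.fixedBy Ω g) : ℂ)) χ =
      (m ⟨χ, hχ⟩ : ℂ) := hmχ
  have h2 : 2 ≤ m ⟨χ, hχ⟩ := by
    by_contra hlt
    have h01 : m ⟨χ, hχ⟩ = 0 ∨ m ⟨χ, hχ⟩ = 1 := by omega
    rcases h01 with h | h
    · apply hcon.1; rw [hmχ', h]; simp
    · apply hcon.2; rw [hmχ', h]; simp
  have hχ'ne : (⟨χ, hχ⟩ : IrrCharacter G) ≠ χ₀ := by
    intro h; rw [h, hm0] at h2; omega
  have hmem : (⟨χ, hχ⟩ : IrrCharacter G) ∈ Finset.univ.erase χ₀ :=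
    Finset.mem_erase.mpr ⟨hχ'ne, Finset.mem_univ _⟩
  have hsq : ∑ ψ ∈ Finset.univ.erase χ₀, m ψ ^ 2 ≤ 4 := by omega
  have hsplit : m ⟨χ, hχ⟩ ^ 2 + ∑ ψ ∈ (Finset.univ.erase χ₀).erase ⟨χ, hχ⟩, m ψ ^ 2 =
      ∑ ψ ∈ Finset.univ.erase χ₀, m ψ ^ 2 :=
    Finset.add_sum_erase (Finset.univ.erase χ₀) (fun ψ => m ψ ^ 2) hmem
  have h4 : 4 ≤ m ⟨χ, hχ⟩ ^ 2 := by nlinarith
  have hothers : ∑ ψ ∈ (Finset.univ.erase χ₀).erase ⟨χ, hχ⟩, m ψ ^ 2 = 0 := by
    omega
  have hother0 : ∀ ψ : IrrCharacter G, ψ ≠ χ₀ → ψ ≠ ⟨χ, hχ⟩ → m ψ = 0 := by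
    intro ψ h1 h2'
    have h3 := (Finset.sum_eq_zero_iff.mp hothers) ψ
      (Finset.mem_erase.mpr ⟨h2', Finset.mem_erase.mpr ⟨h1, Finset.mem_univ _⟩⟩)
    exact (pow_eq_zero_iff (by norm_num)).mp h3
  have hA := (partA (d ⟨χ, hχ⟩) (by
    intro ψ hψ hψ1 hψ0
    have hne0 : (⟨ψ, hψ⟩ : IrrCharacter G) ≠ χ₀ :=
      fun h => hψ1 ((congrArg Subtype.val h).trans hχ₀v)
    have hm' : m ⟨ψ, hψ⟩ ≠ 0 := by
      intro h
      apply hψ0
      have h3 := hm ⟨ψ, hψ⟩
      rw [h] at h3; simpa using h3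
    have heq : (⟨ψ, hψ⟩ : IrrCharacter G) = ⟨χ, hχ⟩ := by
      by_contra hne
      exact hm' (hother0 _ hne0 hne)
    have hψχ : ψ = χ := congrArg Subtype.val heq
    rw [hψχ]
    exact hd ⟨χ, hχ⟩)).1 χ hχ
  rcases hA with h | h
  · exact hcon.1 h
  · exact hcon.2 h

end Cfsg.Agent.S0716
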