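import Mathlib
import Cfsg.Statements.S0718
import Cfsg.Agent.Lib.helper16.Idem
import Cfsg.Agent.Lib.helper16.PermChar

set_option autoImplicit false
open Cfsg

namespace Cfsg.Agent.S0718

open Cfsg.Agent.Lib.helper16 Cfsg.Agent.Lib.helper4

/-- Invariants of the conjugation representation on endomorphisms are the equivariant ones. -/
theorem mem_inv_iff {G : Type*} [Group G] {V : Type*} [AddCommGroup V] [Module ℂ V]
    (ρ : Representation ℂ G V) (S : V →ₗ[ℂ] V) :
    S ∈ (ρ.linHom ρ).invariants ↔ ∀ g, S ∘ₗ ρ g = ρ g ∘ₗ S := by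
  rw [Representation.mem_invariants]
  constructor
  · intro h g
    have h1 := h g
    rw [Representation.linHom_apply] at h1
    apply LinearMap.ext
    intro v
    have h2 := LinearMap.congr_fun h1 (ρ g v)
    simp only [LinearMap.comp_apply] at h2 ⊢
    rw [← h2, ← Module.End.mul_apply (ρ g⁻¹) (ρ g), ← map_mul, inv_mul_cancel, map_one]
    rfl
  · intro h g
    rw [Representation.linHom_apply]
    apply LinearMap.ext
    intro v
    have h2 := LinearMap.congr_fun (h g) (ρ g⁻¹ v)
    simp only [LinearMap.comp_apply] at h2 ⊢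
    rw [← h2, ← Module.End.mul_apply (ρ g) (ρ g⁻¹), ← map_mul, mul_inv_cancel, map_one]
    rfl

/-- Multiplicity-freeness of the permutation character is equivalent to commutativity of the centraliser ring, i.e. of the algebra of `G`-equivariant endomorphisms of the complex permutation module. -/
theorem result {G : Type*} [Group G] [Fintype G] {Ω : Type*} [Fintype Ω] [MulAction G Ω] : (∀ χ : G → ℂ, Cfsg.IsIrrCharacter G χ → Cfsg.classInner (fun g : G => (Nat.card (MulAction.fixedBy Ω g) : ℂ)) χ = 0 ∨ Cfsg.classInner (fun g : G => (Nat.card (MulAction.fixedBy Ω g) : ℂ)) χ = 1) ↔ ∀ S T : (Ω → ℂ) →ₗ[ℂ] (Ω → ℂ), S ∈ ((Cfsg.permRep ℂ G Ω).linHom (Cfsg.permRep ℂ G Ω)).invariants → T ∈ ((Cfsg.permRep ℂ G Ω).linHom (Cfsg.permRep ℂ G Ω)).invariants → S ∘ₗ T = T ∘ₗ S := by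
  classical
  have hfinI : Fintype (IrrCharacter G) := Fintype.ofFinite _
  have hπ : (fun g : G => (Nat.card (MulAction.fixedBy Ω g) : ℂ)) =
      (Cfsg.permRep ℂ G Ω).character := by
    funext g; exact (permRep_character g).symm
  rw [hπ]
  constructor
  · intro hmf S T hS hT
    rw [mem_inv_iff] at hS hT
    exact comm_of_multFree (Cfsg.permRep ℂ G Ω) (fun χ => hmf χ.1 χ.2) S T hS hT
  · intro hcomm χ hχ
    obtain ⟨m, hm⟩ := exists_nat_classInner_irr (isCharacter_of_rep (Cfsg.permRep ℂ G Ω)) hχ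
    rw [hm]
    by_contra hcon
    push Not at hcon
    have h2 : 2 ≤ m := by
      by_contra hlt
      have h01 : m = 0 ∨ m = 1 := by omega
      rcases h01 with h | h
      · exact hcon.1 (by rw [h]; simp)
      · exact hcon.2 (by rw [h]; simp)
    obtain ⟨S, T, hS, hT, hne⟩ :=
      exists_not_comm_of_mult_ge_two hχ (Cfsg.permRep ℂ G Ω) m h2 hm
    exact hne (hcomm S T ((mem_inv_iff _ S).mpr hS) ((mem_inv_iff _ T).mpr hT))

end Cfsg.Agent.S0718
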