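import Mathlib
import Cfsg.Statements.S0717
import Cfsg.Agent.S0718
import Cfsg.Agent.Lib.helper16.PermEntry

set_option autoImplicit false
open Cfsg

namespace Cfsg.Agent.S0717

open Cfsg.Agent.Lib.helper16 Cfsg.Agent.Lib.helper4
open scoped ComplexConjugate

/-- All suborbits of a transitive group are self-paired (every pair of points is interchanged by some group element) if and only if the permutation character is multiplicity-free and each of its irreducible constituents is real-valued. -/
theorem result {G : Type*} [Group G] [Fintype G] {Ω : Type*} [Fintype Ω] [MulAction G Ω] [MulAction.IsPretransitive G Ω] : (∀ a b : Ω, ∃ g : G, g • a = b ∧ g • b = a) ↔ ∀ χ : G → ℂ, Cfsg.IsIrrCharacter G χ → Cfsg.classInner (fun g : G => (Nat.card (MulAction.fixedBy Ω g) : ℂ)) χ ≠ 0 → Cfsg.classInner (fun g : G => (Nat.card (MulAction.fixedBy Ω g) : ℂ)) χ = 1 ∧ ∀ g : G, (starRingEnd ℂ) (χ g) = χ g := by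
  classical
  have hfinI : Fintype (IrrCharacter G) := Fintype.ofFinite _
  have hπ : (fun g : G => (Nat.card (MulAction.fixedBy Ω g) : ℂ)) =
      (Cfsg.permRep ℂ G Ω).character := by
    funext g; exact (permRep_character g).symm
  constructor
  · intro hsw
    have hsymm : ∀ S : Module.End ℂ (Ω → ℂ),
        (∀ g, S ∘ₗ Cfsg.permRep ℂ G Ω g = Cfsg.permRep ℂ G Ω g ∘ₗ S) →
        ∀ x y, S (Pi.single y 1) x = S (Pi.single x 1) y := by
      intro S hS x y
      obtain ⟨g, h1, h2⟩ := hsw x y
      have h3 := entry_smul_smul S hS g x y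
      rw [h1, h2] at h3
      exact h3.symm
    have hcomm : ∀ S T : (Ω → ℂ) →ₗ[ℂ] (Ω → ℂ),
        S ∈ ((Cfsg.permRep ℂ G Ω).linHom (Cfsg.permRep ℂ G Ω)).invariants →
        T ∈ ((Cfsg.permRep ℂ G Ω).linHom (Cfsg.permRep ℂ G Ω)).invariants →
        S ∘ₗ T = T ∘ₗ S := by
      intro S T hS hT
      rw [Cfsg.Agent.S0718.mem_inv_iff] at hS hT
      have hST : ∀ g, (S ∘ₗ T) ∘ₗ Cfsg.permRep ℂ G Ω g =
          Cfsg.permRep ℂ G Ω g ∘ₗ (S ∘ₗ T) := by
        intro g
        rw [LinearMap.comp_assoc, hT g, ← LinearMap.comp_assoc, hS g, LinearMap.comp_assoc]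
      apply ext_single
      intro x y
      rw [hsymm (S ∘ₗ T) hST x y]
      show S (T (Pi.single x 1)) y = T (S (Pi.single y 1)) x
      rw [apply_eq_sum_single S (T (Pi.single x 1)) y,
        apply_eq_sum_single T (S (Pi.single y 1)) x]
      apply Finset.sum_congr rfl
      intro z _
      rw [hsymm S hS y z, hsymm T hT z x]
      ring
    have hmf := (Cfsg.Agent.S0718.result (G := G) (Ω := Ω)).mpr hcomm
    intro χ hχ hne
    refine ⟨(hmf χ hχ).resolve_left hne, ?_⟩
    have hχ' := isIrrCharacter_conj hχ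
    by_contra hnr
    have hneq : χ ≠ (fun g => conj (χ g)) := by
      intro h
      apply hnr
      intro g
      exact (congrFun h g).symm
    have heq : isoIdem (Cfsg.permRep ℂ G Ω) χ =
        isoIdem (Cfsg.permRep ℂ G Ω) (fun g => conj (χ g)) := by
      apply ext_single
      intro x y
      rw [← isoIdem_perm_entry_symm hχ x y]
      exact hsymm _ (fun g => isoIdem_comm_rep _ (isClassFunction_of_isIrrCharacter hχ) g) x y
    have horth := isoIdem_orth hχ hχ' hneq (Cfsg.permRep ℂ G Ω)
    rw [← heq, isoIdem_idem hχ] at horth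
    have htr := trace_isoIdem (Cfsg.permRep ℂ G Ω) χ
    rw [horth, map_zero] at htr
    rw [hπ] at hne
    rcases mul_eq_zero.mp htr.symm with h | h
    · exact irr_degree_ne_zero hχ h
    · exact hne h
  · intro hyp a b
    have hmf : ∀ χ : IrrCharacter G,
        classInner (Cfsg.permRep ℂ G Ω).character (χ : G → ℂ) = 0 ∨
        classInner (Cfsg.permRep ℂ G Ω).character (χ : G → ℂ) = 1 := by
      intro χ
      by_cases h : classInner (Cfsg.permRep ℂ G Ω).character (χ : G → ℂ) = 0
      · exact Or.inl h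
      · right
        have h1 := (hyp χ.1 χ.2 (by rw [hπ]; exact h)).1
        rw [hπ] at h1
        exact h1
    have hR : ∀ (h : G) (x y : Ω), (∃ g : G, g • a = h • x ∧ g • b = h • y) ↔
        (∃ g : G, g • a = x ∧ g • b = y) := by
      intro h x y
      constructor
      · rintro ⟨g, h1, h2⟩
        refine ⟨h⁻¹ * g, ?_, ?_⟩
        · rw [mul_smul, h1, inv_smul_smul]
        · rw [mul_smul, h2, inv_smul_smul]
      · rintro ⟨g, rfl, rfl⟩
        exact ⟨h * g, mul_smul _ _ _, mul_smul _ _ _⟩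
    have hScomm : ∀ g, adjOp (fun x y => ∃ g : G, g • a = x ∧ g • b = y) ∘ₗ
        Cfsg.permRep ℂ G Ω g =
        Cfsg.permRep ℂ G Ω g ∘ₗ adjOp (fun x y => ∃ g : G, g • a = x ∧ g • b = y) :=
      fun g => (adjOp_commute _ hR g).eq
    obtain ⟨c, hc⟩ := exists_coeff_of_multFree (Cfsg.permRep ℂ G Ω) hmf _ hScomm
    have hidem_symm : ∀ χ : IrrCharacter G, ∀ x y,
        isoIdem (Cfsg.permRep ℂ G Ω) (χ : G → ℂ) (Pi.single y 1) x =
        isoIdem (Cfsg.permRep ℂ G Ω) (χ : G → ℂ) (Pi.single x 1) y := by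
      intro χ x y
      by_cases h : classInner (Cfsg.permRep ℂ G Ω).character (χ : G → ℂ) = 0
      · rw [isoIdem_eq_zero χ.2 _ h]
        rfl
      · have hreal := (hyp χ.1 χ.2 (by rw [hπ]; exact h)).2
        have hχeq : (fun g => conj ((χ : G → ℂ) g)) = (χ : G → ℂ) := funext hreal
        rw [isoIdem_perm_entry_symm χ.2 x y, hχeq]
    have hsymm : adjOp (fun x y => ∃ g : G, g • a = x ∧ g • b = y) (Pi.single a 1) b =
        adjOp (fun x y => ∃ g : G, g • a = x ∧ g • b = y) (Pi.single b 1) a := by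
      rw [hc]
      simp only [LinearMap.sum_apply, LinearMap.smul_apply, Finset.sum_apply, Pi.smul_apply]
      apply Finset.sum_congr rfl
      intro χ _
      rw [hidem_symm χ b a]
    rw [adjOp_entry, adjOp_entry] at hsymm
    have hab : ∃ g : G, g • a = a ∧ g • b = b := ⟨1, one_smul _ _, one_smul _ _⟩
    by_contra hcon
    rw [if_neg hcon, if_pos hab] at hsymm
    exact zero_ne_one hsymm

end Cfsg.Agent.S0717
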