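import Mathlib
import Cfsg.Statements.S0719
import Cfsg.Agent.Lib.helper16.Rank3

set_option autoImplicit false
open Cfsg

namespace Cfsg.Agent.S0719

open Cfsg.Agent.Lib.helper16 Cfsg.Agent.Lib.helper4
open scoped ComplexConjugate

theorem per_point {G : Type*} [Group G] [Fintype G] {Ω : Type*} [Fintype Ω] [MulAction G Ω]
    (hprim : MulAction.IsPreprimitive G Ω) {m : ℕ} (hm : Fintype.card Ω = 2 * m) (a₀ : Ω)
    (hrank : Nat.card (MulAction.orbitRel.Quotient (MulAction.stabilizer G a₀) Ω) = 3)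
    (χ₁ χ₂ : G → ℂ) (h₁ : Cfsg.IsIrrCharacter G χ₁) (h₂ : Cfsg.IsIrrCharacter G χ₂)
    (hπ : (fun g : G => (Nat.card (MulAction.fixedBy Ω g) : ℂ)) = fun g => 1 + χ₁ g + χ₂ g)
    (hd₁ : χ₁ 1 = (m : ℂ) - 1) (hd₂ : χ₂ 1 = m) (b : Ω) (hb : b ≠ a₀) :
    ∃ a : ℕ, 0 < a ∧ m = 2 * a ^ 2 + 2 * a + 1 ∧
      (Nat.card (MulAction.orbit (MulAction.stabilizer G a₀) b) = a * (2 * a + 1) ∨
       Nat.card (MulAction.orbit (MulAction.stabilizer G a₀) b) = (a + 1) * (2 * a + 1)) := by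
  classical
  have hfinI : Fintype (IrrCharacter G) := Fintype.ofFinite _
  have htrans : MulAction.IsPretransitive G Ω := hprim.toIsPretransitive
  have hne : Nonempty Ω := ⟨a₀⟩
  have h₀ : IsIrrCharacter G (fun _ => (1 : ℂ)) := isIrrCharacter_one'
  have hchar : (Cfsg.permRep ℂ G Ω).character = (fun _ => (1 : ℂ)) + χ₁ + χ₂ := by
    funext g
    rw [permRep_character]
    exact congrFun hπ g
  have hin : ∀ χ : G → ℂ, IsIrrCharacter G χ → classInner (Cfsg.permRep ℂ G Ω).character χ =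
      (if (fun _ => (1 : ℂ)) = χ then 1 else 0) + (if χ₁ = χ then 1 else 0) +
        (if χ₂ = χ then 1 else 0) := by
    intro χ hχ
    rw [hchar, classInner_add_left, classInner_add_left, classInner_irr h₀ hχ,
      classInner_irr h₁ hχ, classInner_irr h₂ hχ]
  have hone : classInner (Cfsg.permRep ℂ G Ω).character (fun _ => (1 : ℂ)) = 1 := by
    have h := classInner_perm_one (G := G) (Ω := Ω)
    have h2 : (Cfsg.permRep ℂ G Ω).character =
        (fun g : G => (Nat.card (MulAction.fixedBy Ω g) : ℂ)) :=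
      funext fun g => permRep_character g
    rw [h2]
    exact h
  have h10 : χ₁ ≠ (fun _ => (1 : ℂ)) := by
    intro h
    have h2 := hin _ h₀
    rw [hone, if_pos rfl, if_pos h] at h2
    split_ifs at h2 <;> norm_num at h2
  have h20 : χ₂ ≠ (fun _ => (1 : ℂ)) := by
    intro h
    have h2 := hin _ h₀
    rw [hone, if_pos rfl, if_pos h] at h2
    split_ifs at h2 <;> norm_num at h2
  have h12 : χ₁ ≠ χ₂ := by
    intro h
    have h3 := congrFun h 1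
    rw [hd₁, hd₂] at h3
    have h4 : (1 : ℂ) = 0 := by linear_combination -h3
    exact one_ne_zero h4
  have hm1 : classInner (Cfsg.permRep ℂ G Ω).character χ₁ = 1 := by
    rw [hin _ h₁, if_neg (Ne.symm h10), if_pos rfl, if_neg (Ne.symm h12)]
    norm_num
  have hm2 : classInner (Cfsg.permRep ℂ G Ω).character χ₂ = 1 := by
    rw [hin _ h₂, if_neg (Ne.symm h20), if_neg h12, if_pos rfl]
    norm_num
  have hmo : ∀ χ : IrrCharacter G, (χ : G → ℂ) ≠ (fun _ => (1 : ℂ)) → (χ : G → ℂ) ≠ χ₁ →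
      (χ : G → ℂ) ≠ χ₂ → classInner (Cfsg.permRep ℂ G Ω).character (χ : G → ℂ) = 0 := by
    intro χ c0 c1 c2
    rw [hin _ χ.2, if_neg (Ne.symm c0), if_neg (Ne.symm c1), if_neg (Ne.symm c2)]
    norm_num
  have hsum : isoIdem (Cfsg.permRep ℂ G Ω) (fun _ => (1 : ℂ)) + isoIdem (Cfsg.permRep ℂ G Ω) χ₁ + isoIdem (Cfsg.permRep ℂ G Ω) χ₂ = 1 := by
    have hs := sum_isoIdem (Cfsg.permRep ℂ G Ω)
    rw [← hs]
    have hsub := Finset.sum_subset (Finset.subset_univ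
      ({⟨_, h₀⟩, ⟨χ₁, h₁⟩, ⟨χ₂, h₂⟩} : Finset (IrrCharacter G)))
      (f := fun χ : IrrCharacter G => isoIdem (Cfsg.permRep ℂ G Ω) (χ : G → ℂ)) (by
        intro χ _ hχ
        apply isoIdem_eq_zero χ.2
        apply hmo
        · intro h
          apply hχ
          have : χ = ⟨_, h₀⟩ := Subtype.ext h
          simp [this]
        · intro h
          apply hχ
          have : χ = ⟨χ₁, h₁⟩ := Subtype.ext h
          simp [this]
        · intro h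
          apply hχ
          have : χ = ⟨χ₂, h₂⟩ := Subtype.ext h
          simp [this])
    rw [← hsub, Finset.sum_insert (by
      simp only [Finset.mem_insert, Finset.mem_singleton, Subtype.mk.injEq, not_or]
      exact ⟨Ne.symm h10, Ne.symm h20⟩), Finset.sum_pair (by
      simp only [ne_eq, Subtype.mk.injEq]
      exact h12)]
    rw [add_assoc]
  -- the orbital relation
  have hR : ∀ (h : G) (x y : Ω), (∃ g : G, g • a₀ = h • x ∧ g • b = h • y) ↔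
      (∃ g : G, g • a₀ = x ∧ g • b = y) := by
    intro h x y
    constructor
    · rintro ⟨g, h1, h2⟩
      refine ⟨h⁻¹ * g, ?_, ?_⟩
      · rw [mul_smul, h1, inv_smul_smul]
      · rw [mul_smul, h2, inv_smul_smul]
    · rintro ⟨g, rfl, rfl⟩
      exact ⟨h * g, mul_smul _ _ _, mul_smul _ _ _⟩
  have hirr : ∀ x : Ω, ¬ (∃ g : G, g • a₀ = x ∧ g • b = x) := by
    rintro x ⟨g, h1, h2⟩
    apply hb
    have : g • b = g • a₀ := by rw [h1, h2]
    exact smul_left_cancel g this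
  have hAcomm : ∀ g, (adjOp (fun x y : Ω => ∃ g : G, g • a₀ = x ∧ g • b = y)) ∘ₗ (Cfsg.permRep ℂ G Ω) g = (Cfsg.permRep ℂ G Ω) g ∘ₗ (adjOp (fun x y : Ω => ∃ g : G, g • a₀ = x ∧ g • b = y)) := fun g => (adjOp_commute _ hR g).eq
  obtain ⟨c₀, hc₀⟩ := exists_smul_isoIdem h₀ (Cfsg.permRep ℂ G Ω) hone (adjOp (fun x y : Ω => ∃ g : G, g • a₀ = x ∧ g • b = y)) hAcomm
  obtain ⟨c₁, hc₁⟩ := exists_smul_isoIdem h₁ (Cfsg.permRep ℂ G Ω) hm1 (adjOp (fun x y : Ω => ∃ g : G, g • a₀ = x ∧ g • b = y)) hAcomm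
  obtain ⟨c₂, hc₂⟩ := exists_smul_isoIdem h₂ (Cfsg.permRep ℂ G Ω) hm2 (adjOp (fun x y : Ω => ∃ g : G, g • a₀ = x ∧ g • b = y)) hAcomm
  have hA : (adjOp (fun x y : Ω => ∃ g : G, g • a₀ = x ∧ g • b = y)) = c₀ • isoIdem (Cfsg.permRep ℂ G Ω) (fun _ => (1 : ℂ)) + c₁ • isoIdem (Cfsg.permRep ℂ G Ω) χ₁ + c₂ • isoIdem (Cfsg.permRep ℂ G Ω) χ₂ := by
    calc (adjOp (fun x y : Ω => ∃ g : G, g • a₀ = x ∧ g • b = y)) = (adjOp (fun x y : Ω => ∃ g : G, g • a₀ = x ∧ g • b = y)) ∘ₗ (1 : Module.End ℂ (Ω → ℂ)) := rfl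
      _ = (adjOp (fun x y : Ω => ∃ g : G, g • a₀ = x ∧ g • b = y)) ∘ₗ (isoIdem (Cfsg.permRep ℂ G Ω) (fun _ => (1 : ℂ)) + isoIdem (Cfsg.permRep ℂ G Ω) χ₁ + isoIdem (Cfsg.permRep ℂ G Ω) χ₂) := by rw [hsum]
      _ = _ := by rw [LinearMap.comp_add, LinearMap.comp_add, hc₀, hc₁, hc₂]
  have hA2 : (adjOp (fun x y : Ω => ∃ g : G, g • a₀ = x ∧ g • b = y)) ∘ₗ (adjOp (fun x y : Ω => ∃ g : G, g • a₀ = x ∧ g • b = y)) = (c₀ ^ 2) • isoIdem (Cfsg.permRep ℂ G Ω) (fun _ => (1 : ℂ)) + (c₁ ^ 2) • isoIdem (Cfsg.permRep ℂ G Ω) χ₁ + (c₂ ^ 2) • isoIdem (Cfsg.permRep ℂ G Ω) χ₂ := by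
    conv_lhs => rhs; rw [hA]
    rw [LinearMap.comp_add, LinearMap.comp_add, LinearMap.comp_smul, LinearMap.comp_smul,
      LinearMap.comp_smul, hc₀, hc₁, hc₂, smul_smul, smul_smul, smul_smul, ← pow_two,
      ← pow_two, ← pow_two]
  have hP : (adjOp (fun x y : Ω => ∃ g : G, g • a₀ = x ∧ g • b = y)) ∘ₗ (adjOp (fun x y : Ω => ∃ g : G, g • a₀ = x ∧ g • b = y)) - (c₁ + c₂) • (adjOp (fun x y : Ω => ∃ g : G, g • a₀ = x ∧ g • b = y)) + (c₁ * c₂) • (1 : Module.End ℂ (Ω → ℂ)) =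
      ((c₀ - c₁) * (c₀ - c₂)) • isoIdem (Cfsg.permRep ℂ G Ω) (fun _ => (1 : ℂ)) := by
    rw [hA2, ← hsum, hA]
    module
  have hentry : ∀ x y : Ω, (adjOp (fun x y : Ω => ∃ g : G, g • a₀ = x ∧ g • b = y)) ((adjOp (fun x y : Ω => ∃ g : G, g • a₀ = x ∧ g • b = y)) (Pi.single y 1)) x - (c₁ + c₂) * (adjOp (fun x y : Ω => ∃ g : G, g • a₀ = x ∧ g • b = y)) (Pi.single y 1) x +
      c₁ * c₂ * (Pi.single y (1 : ℂ) : Ω → ℂ) x =
      (c₀ - c₁) * (c₀ - c₂) * (1 / (Fintype.card Ω : ℂ)) := by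
    intro x y
    have h := congrFun (LinearMap.congr_fun hP (Pi.single y 1)) x
    simp only [LinearMap.add_apply, LinearMap.sub_apply, LinearMap.smul_apply,
      LinearMap.comp_apply, Pi.add_apply, Pi.sub_apply, Pi.smul_apply, smul_eq_mul,
      Module.End.one_apply] at h
    rw [isoIdem_one_entry] at h
    exact h
  have hn0 : (Fintype.card Ω : ℂ) ≠ 0 := by exact_mod_cast Fintype.card_ne_zero
  have htr : (0 : ℂ) = (Nat.card {y // ∃ g : G, g • a₀ = a₀ ∧ g • b = y} : ℂ) +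
      c₁ * ((m : ℂ) - 1) + c₂ * m := by
    have hk0 : c₀ = (Nat.card {y // ∃ g : G, g • a₀ = a₀ ∧ g • b = y} : ℂ) := by
      have h1 := congrFun (LinearMap.congr_fun hc₀ (Pi.single a₀ 1)) a₀
      have h2 : isoIdem (Cfsg.permRep ℂ G Ω) (fun _ => (1 : ℂ)) (Pi.single a₀ 1) = (1 / (Fintype.card Ω : ℂ)) • (fun _ : Ω => (1 : ℂ)) := by
        funext x
        rw [isoIdem_one_entry]
        simp
      simp only [LinearMap.comp_apply, LinearMap.smul_apply] at h1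
      rw [h2, map_smul, adjOp_one _ hR a₀] at h1
      simp only [Pi.smul_apply, smul_eq_mul, mul_one] at h1
      field_simp at h1
      exact h1.symm
    have h1 : LinearMap.trace ℂ (Ω → ℂ) (adjOp (fun x y : Ω => ∃ g : G, g • a₀ = x ∧ g • b = y)) = 0 := by
      rw [adjOp_trace]
      apply Finset.sum_eq_zero
      intro x _
      rw [if_neg (hirr x)]
    rw [hA, map_add, map_add, map_smul, map_smul, map_smul, trace_isoIdem, trace_isoIdem,
      trace_isoIdem, hone, hm1, hm2, hd₁, hd₂, hk0] at h1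
    simp only [smul_eq_mul, mul_one] at h1
    rw [← h1]
  obtain ⟨b', hb'0, hb'1, hcard3⟩ := exists_third_suborbit (G := G) a₀ hrank b hb
  have hcard : Nat.card {y // ∃ g : G, g • a₀ = a₀ ∧ g • b = y} =
      Nat.card (MulAction.orbit (MulAction.stabilizer G a₀) b) := by
    apply Nat.card_congr
    apply Equiv.subtypeEquivRight
    intro y
    rw [MulAction.mem_orbit_iff]
    constructor
    · rintro ⟨g, h1, h2⟩
      exact ⟨⟨g, h1⟩, h2⟩
    · rintro ⟨⟨g, hg⟩, h2⟩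
      exact ⟨g, hg, h2⟩
  have hnotR : ¬ (∃ g : G, g • a₀ = a₀ ∧ g • b = b') := by
    rintro ⟨g, h1, h2⟩
    exact hb'1 ⟨⟨g, h1⟩, h2⟩
  have hE1 := hentry a₀ a₀
  rw [adjOp_sq_entry, adjOp_entry, if_neg (hirr a₀), Pi.single_eq_same] at hE1
  have hE2 := hentry a₀ b
  rw [adjOp_sq_entry, adjOp_entry, if_pos ⟨1, one_smul _ _, one_smul _ _⟩,
    Pi.single_eq_of_ne hb.symm] at hE2
  have hE3 := hentry a₀ b'
  rw [adjOp_sq_entry, adjOp_entry, if_neg hnotR, Pi.single_eq_of_ne hb'0.symm] at hE3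
  have hcardC : (Fintype.card Ω : ℂ) = 2 * (m : ℂ) := by rw [hm]; push_cast; ring
  rw [hcardC] at hE1 hE2 hE3 hn0
  have hmC : (m : ℂ) ≠ 0 := by
    intro h
    apply hn0
    rw [h, mul_zero]
  have hkc0 : c₀ = (Nat.card {y // ∃ g : G, g • a₀ = a₀ ∧ g • b = y} : ℂ) := by
    have h1 := congrFun (LinearMap.congr_fun hc₀ (Pi.single a₀ 1)) a₀
    have h2 : isoIdem (Cfsg.permRep ℂ G Ω) (fun _ => (1 : ℂ)) (Pi.single a₀ 1) =
        (1 / (Fintype.card Ω : ℂ)) • (fun _ : Ω => (1 : ℂ)) := by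
      funext x
      rw [isoIdem_one_entry]
      simp
    simp only [LinearMap.comp_apply, LinearMap.smul_apply] at h1
    rw [h2, map_smul, adjOp_one _ hR a₀] at h1
    simp only [Pi.smul_apply, smul_eq_mul, mul_one] at h1
    rw [hcardC] at h1
    field_simp at h1
    exact h1.symm
  rw [hkc0] at hE1 hE2 hE3
  simp only [mul_zero, sub_zero, mul_one, add_zero] at hE1 hE2 hE3
  have halg := wielandt_alg _ _ _ _ _ c₁ c₂ hmC htr hE1 hE2 hE3
  obtain ⟨k, hk⟩ : ∃ k : ℕ, k = Nat.card {y // ∃ g : G, g • a₀ = a₀ ∧ g • b = y} := ⟨_, rfl⟩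
  obtain ⟨d, hd⟩ : ∃ d : ℕ, d = Nat.card {z // (∃ g : G, g • a₀ = a₀ ∧ g • b = z) ∧
    (∃ g : G, g • a₀ = z ∧ g • b = a₀)} := ⟨_, rfl⟩
  obtain ⟨N₂, hN₂⟩ : ∃ N : ℕ, N = Nat.card {z // (∃ g : G, g • a₀ = a₀ ∧ g • b = z) ∧
    (∃ g : G, g • a₀ = z ∧ g • b = b)} := ⟨_, rfl⟩
  obtain ⟨N₃, hN₃⟩ : ∃ N : ℕ, N = Nat.card {z // (∃ g : G, g • a₀ = a₀ ∧ g • b = z) ∧
    (∃ g : G, g • a₀ = z ∧ g • b = b')} := ⟨_, rfl⟩
  rw [← hk, ← hd, ← hN₂, ← hN₃] at halg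
  have hdk : d = 0 ∨ d = k := by
    rw [hd, hk]
    exact card_paired_rel (G := G) a₀ b
  have hkorb : k = Nat.card (MulAction.orbit (MulAction.stabilizer G a₀) b) := by
    rw [hk, hcard]
  have hrank' : Nat.card (MulAction.orbitRel.Quotient (MulAction.stabilizer G a₀) Ω) ≠
      Nat.card Ω := by
    rw [hrank, Nat.card_eq_fintype_card, hm]
    omega
  have hk1 := orbit_card_ne_one_of_isPreprimitive hprim a₀ hrank' b hb
  have hk1' := orbit_card_ne_one_of_isPreprimitive hprim a₀ hrank' b' hb'0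
  have hpos : 0 < Nat.card (MulAction.orbit (MulAction.stabilizer G a₀) b) := by
    have : Nonempty (MulAction.orbit (MulAction.stabilizer G a₀) b) :=
      ⟨⟨_, MulAction.mem_orbit_self _⟩⟩
    exact Nat.card_pos
  have hpos' : 0 < Nat.card (MulAction.orbit (MulAction.stabilizer G a₀) b') := by
    have : Nonempty (MulAction.orbit (MulAction.stabilizer G a₀) b') :=
      ⟨⟨_, MulAction.mem_orbit_self _⟩⟩
    exact Nat.card_pos
  rw [← hkorb] at hk1 hpos hcard3 ⊢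
  rw [hm] at hcard3
  have hint : (2 * (d : ℤ)) = 2 * ((k : ℤ) + ((m : ℤ) - 1) * ((N₂ : ℤ) - N₃)) ^ 2 +
      ((m : ℤ) - 1) * ((N₂ : ℤ) - N₃) ^ 2 := by
    exact_mod_cast halg
  exact wielandt_dioph k m ((N₂ : ℤ) - N₃) d hdk (by omega) (by omega) (by omega) hint

/-- Groups of Wielandt type: if a primitive group of degree `2m` has rank 3 and permutation character `1 + χ₁ + χ₂` with irreducible `χ₁, χ₂` of degrees `m - 1` and `m`, then `m = 2a² + 2a + 1` for some positive integer `a` and the two non-trivial subdegrees are `a(2a+1)` and `(a+1)(2a+1)`. -/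
theorem result {G : Type*} [Group G] [Fintype G] {Ω : Type*} [Fintype Ω] [MulAction G Ω] (hprim : MulAction.IsPreprimitive G Ω) {m : ℕ} (hm : Fintype.card Ω = 2 * m) (a₀ : Ω) (hrank : Nat.card (MulAction.orbitRel.Quotient (MulAction.stabilizer G a₀) Ω) = 3) (χ₁ χ₂ : G → ℂ) (h₁ : Cfsg.IsIrrCharacter G χ₁) (h₂ : Cfsg.IsIrrCharacter G χ₂) (hπ : (fun g : G => (Nat.card (MulAction.fixedBy Ω g) : ℂ)) = fun g => 1 + χ₁ g + χ₂ g) (hd₁ : χ₁ 1 = (m : ℂ) - 1) (hd₂ : χ₂ 1 = m) : ∃ a : ℕ, 0 < a ∧ m = 2 * a ^ 2 + 2 * a + 1 ∧ ∀ b : Ω, b ≠ a₀ → Nat.card (MulAction.orbit (MulAction.stabilizer G a₀) b) = a * (2 * a + 1) ∨ Nat.card (MulAction.orbit (MulAction.stabilizer G a₀) b) = (a + 1) * (2 * a + 1) := by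
  classical
  have hne : Nonempty Ω := ⟨a₀⟩
  have hcpos : 0 < Fintype.card Ω := Fintype.card_pos
  have hone : 1 < Fintype.card Ω := by omega
  obtain ⟨b₀, hb₀⟩ := Fintype.exists_ne_of_one_lt_card hone a₀
  obtain ⟨a, ha, hma, -⟩ := per_point hprim hm a₀ hrank χ₁ χ₂ h₁ h₂ hπ hd₁ hd₂ b₀ hb₀
  refine ⟨a, ha, hma, ?_⟩
  intro b hb
  obtain ⟨a', ha', hma', hk⟩ := per_point hprim hm a₀ hrank χ₁ χ₂ h₁ h₂ hπ hd₁ hd₂ b hb
  have haa : a' = a := by
    rcases lt_trichotomy a' a with h | h | h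
    · exfalso
      have : 2 * a' ^ 2 + 2 * a' + 1 < 2 * a ^ 2 + 2 * a + 1 := by nlinarith
      omega
    · exact h
    · exfalso
      have : 2 * a ^ 2 + 2 * a + 1 < 2 * a' ^ 2 + 2 * a' + 1 := by nlinarith
      omega
  rw [haa] at hk
  exact hk

end Cfsg.Agent.S0719
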