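import Cfsg.Statements.S0720
import Cfsg.Agent.Lib.helper68.W2PMain
import Cfsg.Agent.Lib.helper68.W2PG3
import Cfsg.Agent.Lib.helper92.W2P_G1
import Cfsg.Agent.Lib.helper92.W2P_G2
import Cfsg.Agent.Lib.helper92.W2P_G6
import Cfsg.Agent.Lib.helper36.W2P_G4
import Cfsg.Agent.Lib.helper26.W2P_G5

set_option autoImplicit false
open Cfsg

namespace Cfsg.Agent.S0720

open Cfsg.Agent.Lib.helper68.W2P Cfsg.Agent.Lib.helper92.W2P Cfsg.Agent.Lib.helper36.W2P
  Cfsg.Agent.Lib.helper26.W2P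

/-- Wielandt's Theorem on primitive groups of degree `2p`: such a group is doubly transitive, or it has rank 3, `p = 2a² + 2a + 1`, and subdegrees `a(2a+1)` and `(a+1)(2a+1)`. -/
theorem result {α : Type*} [Fintype α] [DecidableEq α] {p : ℕ} (hp : p.Prime) (hα : Fintype.card α = 2 * p) (G : Subgroup (Equiv.Perm α)) (hG : MulAction.IsPreprimitive G α) (a₀ : α) : MulAction.IsMultiplyPretransitive G α 2 ∨ (Nat.card (MulAction.orbitRel.Quotient (MulAction.stabilizer G a₀) α) = 3 ∧ ∃ a : ℕ, 0 < a ∧ p = 2 * a ^ 2 + 2 * a + 1 ∧ ∀ b : α, b ≠ a₀ → Nat.card (MulAction.orbit (MulAction.stabilizer G a₀) b) = a * (2 * a + 1) ∨ Nat.card (MulAction.orbit (MulAction.stabilizer G a₀) b) = (a + 1) * (2 * a + 1)) := by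
  have : Fact p.Prime := ⟨hp⟩
  rcases exists_fpf_or_two_trans hp hα G hG with h | ⟨g, hgG, hgo, hfpf⟩
  · exact Or.inl h
  obtain ⟨e, he⟩ := exists_coords hα g hgo hfpf
  have htrans : MulAction.IsPretransitive G α := hG.toIsPretransitive
  obtain ⟨ι, _, D, hcol⟩ := exists_scheme G htrans e g hgG he
  obtain ⟨c, hctr, hc0, hE, h0⟩ := exists_c G hG e D hcol
  obtain ⟨hA, hB⟩ := primA_primB G hG e D hcol
  rcases scheme_main D c hctr hc0 hE h0 hA hB with h2 | ⟨h3, a, ha, hpa, hn⟩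
  · exact Or.inl (two_trans_of_card_two G htrans e D hcol h2)
  · right
    refine ⟨by rw [rank_of_card G htrans e D hcol a₀, h3], a, ha, hpa, ?_⟩
    intro b hb
    rw [suborbit_card G htrans e D hcol a₀ b]
    apply hn
    intro h
    have := (D.diag _ _).mp h
    exact hb (e.symm.injective this).symm

end Cfsg.Agent.S0720
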