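import Mathlib
import Cfsg.Statements.S0723
import Cfsg.Agent.S0721
import Cfsg.Agent.S0722

set_option autoImplicit false
open Cfsg

namespace Cfsg.Agent.S0723

section basics

variable {T : Type*} [Group T]

theorem center_bot [IsSimpleGroup T] (hT : ¬ IsMulCommutative T) : Subgroup.center T = ⊥ := by
  rcases Subgroup.Normal.eq_bot_or_eq_top (H := Subgroup.center T) inferInstance with h | h
  · exact h
  · exact absurd (Subgroup.center_eq_top_iff.1 h) hT

theorem perfect [IsSimpleGroup T] (hT : ¬ IsMulCommutative T) :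
    ⁅(⊤ : Subgroup T), (⊤ : Subgroup T)⁆ = ⊤ := by
  rcases Subgroup.Normal.eq_bot_or_eq_top (H := ⁅(⊤ : Subgroup T), (⊤ : Subgroup T)⁆)
    inferInstance with h | h
  · exfalso
    rw [Subgroup.commutator_eq_bot_iff_le_centralizer] at h
    apply hT
    rw [← Subgroup.center_eq_top_iff, eq_top_iff]
    intro x _
    rw [Subgroup.mem_center_iff]
    intro g
    have := h (Subgroup.mem_top x)
    rw [Subgroup.mem_centralizer_iff] at this
    exact this g (Subgroup.mem_top g)
  · exact h

/-- A surjective homomorphism `T^m → T` factors through exactly one coordinate. -/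
theorem factor_coord [Finite T] [IsSimpleGroup T] (hT : ¬ IsMulCommutative T) {m : ℕ}
    (κ : (Fin m → T) →* T) (hκ : Function.Surjective κ) :
    ∃ j : Fin m, ∃ φ : T →* T, Function.Injective φ ∧ ∀ x, κ x = φ (x j) := by
  classical
  have hnorm : ∀ j : Fin m, ((κ.comp (MonoidHom.mulSingle (fun _ : Fin m => T) j)).range).Normal := by
    intro j
    refine ⟨?_⟩
    rintro _ ⟨s, rfl⟩ t
    obtain ⟨y, rfl⟩ := hκ t
    refine ⟨y j * s * (y j)⁻¹, ?_⟩
    simp only [MonoidHom.comp_apply, MonoidHom.mulSingle_apply]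
    rw [← map_inv, ← map_mul, ← map_mul]
    congr 1
    funext i
    by_cases hij : i = j
    · subst hij; simp
    · simp [Pi.mulSingle_eq_of_ne hij]
  have hex : ∃ j : Fin m, (κ.comp (MonoidHom.mulSingle (fun _ : Fin m => T) j)).range = ⊤ := by
    by_contra hcon
    push Not at hcon
    have hbot : ∀ j : Fin m, (κ.comp (MonoidHom.mulSingle (fun _ : Fin m => T) j)).range = ⊥ := by
      intro j
      rcases Subgroup.Normal.eq_bot_or_eq_top (hnorm j) with h | h
      · exact h
      · exact absurd h (hcon j)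
    have hk1 : κ = 1 := by
      apply MonoidHom.pi_ext
      intro i x
      have : (κ.comp (MonoidHom.mulSingle (fun _ : Fin m => T) i)) x ∈
          (κ.comp (MonoidHom.mulSingle (fun _ : Fin m => T) i)).range := ⟨x, rfl⟩
      rw [hbot i, Subgroup.mem_bot] at this
      simpa using this
    obtain ⟨t, ht⟩ := exists_ne (1 : T)
    obtain ⟨y, hy⟩ := hκ t
    rw [hk1] at hy
    exact ht hy.symm
  obtain ⟨j, hj⟩ := hex
  have hkill : ∀ i : Fin m, i ≠ j → ∀ s : T, κ (Pi.mulSingle i s) = 1 := by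
    intro i hij s
    have hc : κ (Pi.mulSingle i s) ∈ Subgroup.center T := by
      rw [Subgroup.mem_center_iff]
      intro g
      have hg : g ∈ (κ.comp (MonoidHom.mulSingle (fun _ : Fin m => T) j)).range := by
        rw [hj]; exact Subgroup.mem_top g
      obtain ⟨u, rfl⟩ := hg
      simp only [MonoidHom.comp_apply, MonoidHom.mulSingle_apply]
      rw [← map_mul, ← map_mul]
      congr 1
      exact (Pi.mulSingle_commute (f := fun _ : Fin m => T) (Ne.symm hij) u s).eq
    rw [center_bot hT, Subgroup.mem_bot] at hc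
    exact hc
  refine ⟨j, κ.comp (MonoidHom.mulSingle (fun _ : Fin m => T) j), ?_, ?_⟩
  · rw [Finite.injective_iff_surjective]
    intro t
    have : t ∈ (κ.comp (MonoidHom.mulSingle (fun _ : Fin m => T) j)).range := by
      rw [hj]; exact Subgroup.mem_top t
    exact this
  · have : κ = (κ.comp (MonoidHom.mulSingle (fun _ : Fin m => T) j)).comp
        (Pi.evalMonoidHom (fun _ : Fin m => T) j) := by
      apply MonoidHom.pi_ext
      intro i x
      by_cases hij : i = j
      · subst hij; simp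
      · simp [hkill i hij, Pi.mulSingle_eq_of_ne (Ne.symm hij)]
    intro x
    conv_lhs => rw [this]
    rfl

theorem coord_unique [Nontrivial T] {m : ℕ} (κ : (Fin m → T) → T) {j j' : Fin m}
    {φ φ' : T →* T} (hφ : Function.Injective φ) (h : ∀ x, κ x = φ (x j))
    (h' : ∀ x, κ x = φ' (x j')) : j = j' := by
  classical
  by_contra hne
  obtain ⟨t, ht⟩ := exists_ne (1 : T)
  have h1 := h (Pi.mulSingle j t)
  have h2 := h' (Pi.mulSingle j t)
  rw [Pi.mulSingle_eq_same] at h1
  rw [Pi.mulSingle_eq_of_ne (Ne.symm hne), map_one] at h2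
  rw [h2] at h1
  exact ht (hφ (by rw [← h1, map_one]))

end basics

section gov

variable {T : Type*} [Group T] {m : ℕ}

/-- Coordinate `i` of `ψ x` is an injective homomorphic image of coordinate `j` of `x`. -/
def Gov (ψ : (Fin m → T) → (Fin m → T)) (i j : Fin m) : Prop :=
  ∃ φ : T →* T, Function.Injective φ ∧ ∀ x, ψ x i = φ (x j)

theorem gov_exists [Finite T] [IsSimpleGroup T] (hT : ¬ IsMulCommutative T)
    (ψ : (Fin m → T) ≃* (Fin m → T)) (i : Fin m) : ∃ j, Gov (fun x => ψ x) i j := by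
  have hs : Function.Surjective ((Pi.evalMonoidHom (fun _ : Fin m => T) i).comp ψ.toMonoidHom) := by
    intro t
    refine ⟨ψ.symm (fun _ => t), ?_⟩
    simp
  obtain ⟨j, φ, hφ, h⟩ := factor_coord hT _ hs
  exact ⟨j, φ, hφ, fun x => h x⟩

theorem gov_unique [Nontrivial T] {ψ : (Fin m → T) → (Fin m → T)} {i j j' : Fin m}
    (h : Gov ψ i j) (h' : Gov ψ i j') : j = j' := by
  obtain ⟨φ, hφ, h1⟩ := h
  obtain ⟨φ', _, h2⟩ := h'
  exact coord_unique (fun x => ψ x i) hφ h1 h2

theorem gov_comp {ψ ψ' : (Fin m → T) → (Fin m → T)} {i j l : Fin m}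
    (h : Gov ψ i j) (h' : Gov ψ' j l) : Gov (fun x => ψ (ψ' x)) i l := by
  obtain ⟨φ, hφ, h1⟩ := h
  obtain ⟨φ', hφ', h2⟩ := h'
  refine ⟨φ.comp φ', hφ.comp hφ', fun x => ?_⟩
  simp [h1, h2]

theorem gov_id (i : Fin m) : Gov (fun x : Fin m → T => x) i i :=
  ⟨MonoidHom.id T, fun _ _ h => h, fun _ => rfl⟩

theorem gov_inner (p : Fin m → T) (i : Fin m) : Gov (fun x : Fin m → T => p * x * p⁻¹) i i :=
  ⟨(MulAut.conj (p i)).toMonoidHom, (MulAut.conj (p i)).injective, fun x => by simp⟩

theorem gov_one_iff [Nontrivial T] {ψ : (Fin m → T) → (Fin m → T)} {i j : Fin m}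
    (h : Gov ψ i j) (x : Fin m → T) : ψ x i = 1 ↔ x j = 1 := by
  obtain ⟨φ, hφ, h1⟩ := h
  rw [h1]
  constructor
  · intro hx
    exact hφ (by rw [hx, map_one])
  · intro hx
    rw [hx, map_one]

end gov

section scott

variable {T : Type*} [Group T] {m : ℕ}

def sim (D : Subgroup (Fin m → T)) (i j : Fin m) : Prop := ∀ d ∈ D, d i = 1 ↔ d j = 1

theorem sim_refl (D : Subgroup (Fin m → T)) (i : Fin m) : sim D i i := fun _ _ => Iff.rfl

theorem sim_symm {D : Subgroup (Fin m → T)} {i j : Fin m} (h : sim D i j) : sim D j i :=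
  fun d hd => (h d hd).symm

theorem sim_trans {D : Subgroup (Fin m → T)} {i j l : Fin m} (h : sim D i j) (h' : sim D j l) :
    sim D i l := fun d hd => (h d hd).trans (h' d hd)

def simSetoid (D : Subgroup (Fin m → T)) : Setoid (Fin m) :=
  ⟨sim D, ⟨sim_refl D, sim_symm, sim_trans⟩⟩

/-- `{t | ∃ d ∈ D, d i = t ∧ ∀ j ∈ J, d j = 1}` -/
def Asub (D : Subgroup (Fin m → T)) (i : Fin m) (J : Set (Fin m)) : Subgroup T where
  carrier := {t | ∃ d ∈ D, d i = t ∧ ∀ j ∈ J, d j = 1}
  one_mem' := ⟨1, D.one_mem, rfl, fun _ _ => rfl⟩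
  mul_mem' := by
    rintro a b ⟨d, hd, rfl, h⟩ ⟨d', hd', rfl, h'⟩
    exact ⟨d * d', D.mul_mem hd hd', rfl, fun j hj => by simp [h j hj, h' j hj]⟩
  inv_mem' := by
    rintro a ⟨d, hd, rfl, h⟩
    exact ⟨d⁻¹, D.inv_mem hd, rfl, fun j hj => by simp [h j hj]⟩

theorem mem_Asub {D : Subgroup (Fin m → T)} {i : Fin m} {J : Set (Fin m)} {t : T} :
    t ∈ Asub D i J ↔ ∃ d ∈ D, d i = t ∧ ∀ j ∈ J, d j = 1 := Iff.rfl

theorem Asub_normal (D : Subgroup (Fin m → T)) (hD : ∀ i (t : T), ∃ d ∈ D, d i = t)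
    (i : Fin m) (J : Set (Fin m)) : (Asub D i J).Normal := by
  refine ⟨?_⟩
  rintro a ⟨d, hd, rfl, h⟩ s
  obtain ⟨d', hd', rfl⟩ := hD i s
  exact ⟨d' * d * d'⁻¹, D.mul_mem (D.mul_mem hd' hd) (D.inv_mem hd'), rfl,
    fun j hj => by simp [h j hj]⟩

theorem Asub_single_top [IsSimpleGroup T] (D : Subgroup (Fin m → T))
    (hD : ∀ i (t : T), ∃ d ∈ D, d i = t) {i j : Fin m} (h : ¬ sim D i j) :
    Asub D i {j} = ⊤ := by
  rcases Subgroup.Normal.eq_bot_or_eq_top (Asub_normal D hD i {j}) with h1 | h1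
  · exfalso
    have hji : ∀ d ∈ D, d j = 1 → d i = 1 := by
      intro d hd hdj
      have : d i ∈ Asub D i {j} :=
        ⟨d, hd, rfl, fun l hl => by rw [Set.mem_singleton_iff.1 hl]; exact hdj⟩
      rw [h1, Subgroup.mem_bot] at this; exact this
    rcases Subgroup.Normal.eq_bot_or_eq_top (Asub_normal D hD j {i}) with h2 | h2
    · apply h
      intro d hd
      refine ⟨fun hdi => ?_, hji d hd⟩
      have : d j ∈ Asub D j {i} :=
        ⟨d, hd, rfl, fun l hl => by rw [Set.mem_singleton_iff.1 hl]; exact hdi⟩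
      rw [h2, Subgroup.mem_bot] at this; exact this
    · obtain ⟨t, ht⟩ := exists_ne (1 : T)
      obtain ⟨d', hd', hd'i⟩ := hD i t
      have : d' j ∈ Asub D j {i} := by rw [h2]; exact Subgroup.mem_top _
      obtain ⟨d, hd, hdj, hdi⟩ := this
      have hdi' : d i = 1 := hdi i rfl
      have := hji (d' * d⁻¹) (D.mul_mem hd' (D.inv_mem hd)) (by simp [hdj])
      simp [hdi', hd'i] at this
      exact ht this
  · exact h1

theorem Asub_finset_top [IsSimpleGroup T] (hT : ¬ IsMulCommutative T)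
    (D : Subgroup (Fin m → T)) (hD : ∀ i (t : T), ∃ d ∈ D, d i = t) (i : Fin m)
    (J : Finset (Fin m)) (hJ : ∀ j ∈ J, ¬ sim D i j) :
    Asub D i (J : Set (Fin m)) = ⊤ := by
  classical
  induction J using Finset.induction_on with
  | empty =>
    rw [eq_top_iff]; intro t _
    obtain ⟨d, hd, hdi⟩ := hD i t
    exact ⟨d, hd, hdi, fun j hj => by simp at hj⟩
  | insert j₀ J hj₀ ih =>
    have ih' := ih (fun j hj => hJ j (Finset.mem_insert_of_mem hj))
    have h0 := Asub_single_top D hD (hJ j₀ (Finset.mem_insert_self _ _))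
    rw [eq_top_iff, ← perfect hT, Subgroup.commutator_le]
    intro t₁ _ t₂ _
    have h1 : t₁ ∈ Asub D i (J : Set (Fin m)) := by rw [ih']; exact Subgroup.mem_top _
    have h2 : t₂ ∈ Asub D i {j₀} := by rw [h0]; exact Subgroup.mem_top _
    obtain ⟨d₁, hd₁, rfl, hJ₁⟩ := h1
    obtain ⟨d₂, hd₂, rfl, hJ₂⟩ := h2
    refine ⟨d₁ * d₂ * d₁⁻¹ * d₂⁻¹, ?_, ?_, ?_⟩
    · exact D.mul_mem (D.mul_mem (D.mul_mem hd₁ hd₂) (D.inv_mem hd₁)) (D.inv_mem hd₂)
    · rw [commutatorElement_def]; rfl
    · intro j hj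
      rw [Finset.coe_insert, Set.mem_insert_iff] at hj
      rcases hj with rfl | hj
      · simp [hJ₂ j rfl]
      · simp [hJ₁ j hj]

theorem sim_iso [Finite T] (D : Subgroup (Fin m → T)) (hD : ∀ i (t : T), ∃ d ∈ D, d i = t)
    {i j : Fin m} (h : sim D i j) : ∃ θ : T ≃* T, ∀ d ∈ D, d j = θ (d i) := by
  classical
  choose g hg hgi using hD i
  have key : ∀ d ∈ D, (g (d i)) j = d j := by
    intro d hd
    have h1 : (g (d i) * d⁻¹) i = 1 := by simp [hgi]
    have h2 := (h _ (D.mul_mem (hg (d i)) (D.inv_mem hd))).1 h1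
    simpa [mul_inv_eq_one] using h2
  let f : T →* T :=
    { toFun := fun t => g t j
      map_one' := by
        have := key 1 D.one_mem
        simpa using this
      map_mul' := by
        intro a b
        have := key (g a * g b) (D.mul_mem (hg a) (hg b))
        simpa [hgi] using this }
  have hf : Function.Injective f := by
    rw [injective_iff_map_eq_one]
    intro t ht
    have := (h _ (hg t)).2 ht
    rw [hgi] at this; exact this
  refine ⟨MulEquiv.ofBijective f ⟨hf, Finite.injective_iff_surjective.1 hf⟩, ?_⟩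
  intro d hd
  exact (key d hd).symm

theorem scott [Finite T] [IsSimpleGroup T] (hT : ¬ IsMulCommutative T)
    (D : Subgroup (Fin m → T)) (hD : ∀ i (t : T), ∃ d ∈ D, d i = t) :
    ∃ (c : Fin m → Fin m) (θ : Fin m → (T ≃* T)), (∀ i, sim D (c i) i) ∧
      (∀ i j, c i = c j ↔ sim D i j) ∧
      ∀ x : Fin m → T, x ∈ D ↔ ∀ i j, c i = c j → (θ i).symm (x i) = (θ j).symm (x j) := by
  classical
  let c : Fin m → Fin m := fun i => (Quotient.mk (simSetoid D) i).out
  have hc1 : ∀ i, sim D (c i) i := fun i => Quotient.mk_out (s := simSetoid D) i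
  have hc2 : ∀ i j, c i = c j ↔ sim D i j := by
    intro i j
    constructor
    · intro h
      exact sim_trans (sim_symm (hc1 i)) (h ▸ hc1 j)
    · intro h
      have : (Quotient.mk (simSetoid D) i) = Quotient.mk (simSetoid D) j := Quotient.sound h
      show (Quotient.mk (simSetoid D) i).out = (Quotient.mk (simSetoid D) j).out
      rw [this]
  choose θ hθ using fun i => sim_iso D hD (hc1 i)
  refine ⟨c, θ, hc1, hc2, ?_⟩
  have hfwd : ∀ x ∈ D, ∀ i j, c i = c j → (θ i).symm (x i) = (θ j).symm (x j) := by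
    intro x hx i j hij
    rw [hθ i x hx, hθ j x hx, hij]; simp
  intro x
  refine ⟨hfwd x, ?_⟩
  intro hx
  induction' hn : (Finset.univ.filter (fun i => x i ≠ 1)).card using Nat.strong_induction_on
    with n ih generalizing x
  by_cases hx1 : ∀ i, x i = 1
  · have : x = 1 := funext hx1
    rw [this]; exact D.one_mem
  · push Not at hx1
    obtain ⟨i, hi⟩ := hx1
    have htop := Asub_finset_top hT D hD i (Finset.univ.filter (fun j => ¬ sim D i j))
      (by intro j hj; simpa using hj)
    have hmem : x i ∈ Asub D i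
        ((Finset.univ.filter (fun j => ¬ sim D i j) : Finset (Fin m)) : Set (Fin m)) := by
      rw [htop]; exact Subgroup.mem_top _
    obtain ⟨d, hd, hdi, hdJ⟩ := hmem
    have hdJ' : ∀ j, ¬ sim D i j → d j = 1 := fun j hj => hdJ j (by simpa using hj)
    have hy : x * d⁻¹ ∈ D := by
      apply ih _ ?_ (x * d⁻¹) ?_ rfl
      · rw [← hn]
        apply Finset.card_lt_card
        rw [Finset.ssubset_iff_of_subset]
        · exact ⟨i, by simp [hi], by simp [hdi]⟩
        · intro j hj
          simp only [Finset.mem_filter, Finset.mem_univ, true_and] at hj ⊢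
          intro hxj
          apply hj
          by_cases hs : sim D i j
          · exfalso
            have := hx i j ((hc2 i j).2 hs)
            rw [hxj, map_one] at this
            exact hi (by simpa using this)
          · simp [hxj, hdJ' j hs]
      · intro a b hab
        have h1 := hx a b hab
        have h2 := hfwd d hd a b hab
        simp only [Pi.mul_apply, Pi.inv_apply, map_mul, map_inv, h1, h2]
    have : x = (x * d⁻¹) * d := by simp
    rw [this]; exact D.mul_mem hy hd

end scott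

section core

theorem core {H : Type*} [Group H] (N K : Subgroup H) [N.Normal]
    (hmin : ∀ M : Subgroup H, M.Normal → M ≤ N → M = ⊥ ∨ M = N)
    (hKN : ∀ h : H, ∃ k ∈ K, ∃ n ∈ N, k * n = h)
    (hmaxK : ∀ X : Subgroup H, X ≤ N → K ⊓ N ≤ X → K ≤ Subgroup.normalizer (X : Set H) →
      X = K ⊓ N ∨ X = N)
    (hNK : ¬ N ≤ K)
    {T : Type} [Group T] [Finite T] [IsSimpleGroup T] (hT : ¬ IsMulCommutative T) {m : ℕ}
    (hm : 0 < m) (e₀ : N ≃* (Fin m → T)) :
    ∃ e : N ≃* (Fin m → T),
      ((∃ R : Fin m → Subgroup T, (∀ i, R i ≠ ⊤) ∧ ∀ n : N, (n : H) ∈ K ↔ ∀ i, e n i ∈ R i) ∨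
      (∃ (k : ℕ) (c : Fin m → Fin m), 2 ≤ k ∧
        (∀ j : Fin m, Nat.card {i : Fin m // c i = j} = k ∨ Nat.card {i : Fin m // c i = j} = 0) ∧
        ∀ n : N, (n : H) ∈ K ↔ ∀ i j : Fin m, c i = c j → e n i = e n j)) := by
  classical
  let ψ : H → ((Fin m → T) ≃* (Fin m → T)) :=
    fun h => e₀.symm.trans ((MulAut.conjNormal h).trans e₀)
  have hψ_apply : ∀ h x, ψ h x = e₀ (MulAut.conjNormal h (e₀.symm x)) := fun _ _ => rfl
  have hψ_e : ∀ h n, ψ h (e₀ n) = e₀ (MulAut.conjNormal h n) := by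
    intro h n; rw [hψ_apply, MulEquiv.symm_apply_apply]
  have hψ_one : ∀ x, ψ 1 x = x := by
    intro x; rw [hψ_apply, map_one]; simp
  have hψ_mul : ∀ h h' x, ψ (h * h') x = ψ h (ψ h' x) := by
    intro h h' x
    rw [hψ_apply, hψ_apply, hψ_apply, map_mul, MulEquiv.symm_apply_apply]
    rfl
  have hψ_N : ∀ n : N, ∀ x, ψ (n : H) x = e₀ n * x * (e₀ n)⁻¹ := by
    intro n x
    have : MulAut.conjNormal (n : H) (e₀.symm x) = n * e₀.symm x * n⁻¹ :=
      Subtype.ext (by simp)
    rw [hψ_apply, this]; simp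
  have hG_ex : ∀ h i, ∃ j, Gov (fun x => ψ h x) i j := fun h i => gov_exists hT (ψ h) i
  have hG_un : ∀ h i j j', Gov (fun x => ψ h x) i j → Gov (fun x => ψ h x) i j' → j = j' :=
    fun _ _ _ _ h1 h2 => gov_unique h1 h2
  have hG_mul : ∀ h h' i j l, Gov (fun x => ψ h x) i j → Gov (fun x => ψ h' x) j l →
      Gov (fun x => ψ (h * h') x) i l := by
    intro h h' i j l h1 h2
    have := gov_comp h1 h2
    have e1 : (fun x => ψ (h * h') x) = fun x => ψ h (ψ h' x) := funext (hψ_mul h h')
    rw [e1]; exact this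
  have hG_one : ∀ i, Gov (fun x => ψ 1 x) i i := by
    intro i
    have e1 : (fun x => ψ 1 x) = fun x : Fin m → T => x := funext hψ_one
    rw [e1]; exact gov_id i
  have hG_N : ∀ n : N, ∀ i, Gov (fun x => ψ (n : H) x) i i := by
    intro n i
    have e1 : (fun x => ψ (n : H) x) = fun x : Fin m → T => e₀ n * x * (e₀ n)⁻¹ :=
      funext (hψ_N n)
    rw [e1]; exact gov_inner (e₀ n) i
  have hG_inv : ∀ k i l, Gov (fun x => ψ k x) i l → Gov (fun x => ψ k⁻¹ x) l i := by
    intro k i l h
    obtain ⟨l', hl'⟩ := hG_ex k⁻¹ l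
    have h1 := hG_mul k k⁻¹ i l l' h hl'
    rw [mul_inv_cancel] at h1
    have h2 := hG_un 1 i l' i h1 (hG_one i)
    subst h2; exact hl'
  have htransH : ∀ i l : Fin m, ∃ h : H, Gov (fun x => ψ h x) i l := by
    intro i₀ l
    by_contra hcon
    push Not at hcon
    let S : Set (Fin m) := {j | ∃ h : H, Gov (fun x => ψ h x) i₀ j}
    let M : Subgroup H :=
      ((Subgroup.pi S (fun _ => (⊥ : Subgroup T))).comap e₀.toMonoidHom).map N.subtype
    have hMmem : ∀ n : N, (n : H) ∈ M ↔ ∀ j ∈ S, e₀ n j = 1 := by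
      intro n
      constructor
      · rintro ⟨n', hn', hnn⟩
        have : n' = n := Subtype.ext hnn
        subst this
        intro j hj
        have h3 : e₀ n' ∈ Subgroup.pi S (fun _ => (⊥ : Subgroup T)) := hn'
        rw [Subgroup.mem_pi] at h3
        exact Subgroup.mem_bot.1 (h3 j hj)
      · intro h
        refine ⟨n, ?_, rfl⟩
        change e₀ n ∈ Subgroup.pi S (fun _ => (⊥ : Subgroup T))
        rw [Subgroup.mem_pi]
        intro j hj
        exact Subgroup.mem_bot.2 (h j hj)
    have hMN : M ≤ N := by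
      rintro _ ⟨n, _, rfl⟩
      exact n.2
    have hMn : M.Normal := by
      refine ⟨?_⟩
      rintro _ ⟨n, hn, rfl⟩ g
      have e1 : g * (N.subtype n) * g⁻¹ = ((MulAut.conjNormal g n : N) : H) := by simp
      rw [e1, hMmem]
      intro j hj
      rw [← hψ_e]
      obtain ⟨l', hl'⟩ := hG_ex g j
      obtain ⟨h0, hh0⟩ := hj
      have hl'S : l' ∈ S := ⟨h0 * g, hG_mul _ _ _ _ _ hh0 hl'⟩
      have hn2 := (hMmem n).1 ⟨n, hn, rfl⟩
      exact (gov_one_iff hl' _).2 (hn2 l' hl'S)
    obtain ⟨t, ht⟩ := exists_ne (1 : T)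
    rcases hmin M hMn hMN with h | h
    · have hlS : l ∉ S := fun ⟨h0, hh0⟩ => hcon h0 hh0
      have hmem : ((e₀.symm (Pi.mulSingle l t) : N) : H) ∈ M := by
        rw [hMmem]
        intro j hj
        have : j ≠ l := fun hjl => hlS (hjl ▸ hj)
        simp [Pi.mulSingle_eq_of_ne this]
      rw [h, Subgroup.mem_bot] at hmem
      have h1 : e₀.symm (Pi.mulSingle l t) = 1 := Subtype.ext hmem
      have h2 : (Pi.mulSingle l t : Fin m → T) = 1 := by
        have := congrArg e₀ h1
        simpa using this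
      have h3 := congrFun h2 l
      simp at h3
      exact ht h3
    · have hi₀S : i₀ ∈ S := ⟨1, hG_one i₀⟩
      have hmem : ((e₀.symm (Pi.mulSingle i₀ t) : N) : H) ∈ M := by
        rw [h]; exact (e₀.symm _).2
      rw [hMmem] at hmem
      have := hmem i₀ hi₀S
      simp at this
      exact ht this
  have htransK : ∀ i l : Fin m, ∃ k ∈ K, Gov (fun x => ψ k x) i l := by
    intro i l
    obtain ⟨h, hh⟩ := htransH i l
    obtain ⟨k, hk, n, hn, rfl⟩ := hKN h
    obtain ⟨l', hl'⟩ := hG_ex k i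
    have h1 := hG_mul k n i l' l' hl' (hG_N ⟨n, hn⟩ l')
    have h2 := hG_un _ _ _ _ hh h1
    subst h2; exact ⟨k, hk, hl'⟩
  let D : Subgroup (Fin m → T) := (K.subgroupOf N).comap e₀.symm.toMonoidHom
  have hDmem : ∀ x, x ∈ D ↔ ((e₀.symm x : N) : H) ∈ K := fun x => Iff.rfl
  have hDe : ∀ n : N, e₀ n ∈ D ↔ (n : H) ∈ K := by
    intro n; rw [hDmem, MulEquiv.symm_apply_apply]
  have hψD : ∀ k ∈ K, ∀ x ∈ D, ψ k x ∈ D := by
    intro k hk x hx
    rw [hDmem] at hx ⊢
    rw [hψ_apply, MulEquiv.symm_apply_apply, MulAut.conjNormal_apply]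
    exact K.mul_mem (K.mul_mem hk hx) (K.inv_mem hk)
  by_cases hR : ∀ i (t : T), ∃ d ∈ D, d i = t
  · obtain ⟨c, θ, hc1, hc2, hsc⟩ := scott hT D hR
    let e : N ≃* (Fin m → T) := e₀.trans (MulEquiv.piCongrRight fun i => (θ i).symm)
    let i₀ : Fin m := ⟨0, hm⟩
    have hcard : ∀ j, Nat.card {i // sim D i j} = Nat.card {i // sim D i i₀} := by
      intro j
      obtain ⟨k, hk, hkG⟩ := htransK j i₀
      choose τ hτ using hG_ex k
      have hτj : τ j = i₀ := hG_un _ _ _ _ (hτ j) hkG
      have hτinj : Function.Injective τ := by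
        intro i i' hii
        have h1 := hG_inv k i (τ i) (hτ i)
        have h2 := hG_inv k i' (τ i') (hτ i')
        rw [hii] at h1
        exact hG_un _ _ _ _ h1 h2
      have hτbij : Function.Bijective τ := ⟨hτinj, Finite.injective_iff_surjective.1 hτinj⟩
      have hsim : ∀ i i', sim D i i' ↔ sim D (τ i) (τ i') := by
        intro i i'
        constructor
        · intro h d hd
          rw [← gov_one_iff (hτ i) d, ← gov_one_iff (hτ i') d]
          exact h _ (hψD k hk d hd)
        · intro h d hd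
          have hd' : ψ k⁻¹ d ∈ D := hψD k⁻¹ (K.inv_mem hk) d hd
          have hdd : ψ k (ψ k⁻¹ d) = d := by rw [← hψ_mul, mul_inv_cancel, hψ_one]
          have := h _ hd'
          rw [← gov_one_iff (hτ i) (ψ k⁻¹ d), ← gov_one_iff (hτ i') (ψ k⁻¹ d)] at this
          simp only [hdd] at this
          exact this
      refine Nat.card_congr ((Equiv.ofBijective τ hτbij).subtypeEquiv (fun i => ?_))
      rw [Equiv.ofBijective_apply, ← hτj]
      exact hsim i j
    refine ⟨e, Or.inr ⟨Nat.card {i // sim D i i₀}, c, ?_, ?_, ?_⟩⟩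
    · by_contra hlt
      push Not at hlt
      have hsub : ∀ i j, sim D i j → i = j := by
        intro i j hij
        have h1 : Nat.card {i // sim D i j} ≤ 1 := by rw [hcard j]; omega
        have h2 := Finite.card_le_one_iff_subsingleton.1 h1
        have := Subsingleton.elim (⟨i, hij⟩ : {i // sim D i j}) ⟨j, sim_refl D j⟩
        exact congrArg Subtype.val this
      apply hNK
      intro n hn
      have := (hsc (e₀ ⟨n, hn⟩)).2 (by
        intro i j hij
        have := hsub i j ((hc2 i j).1 hij)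
        subst this; rfl)
      exact (hDe ⟨n, hn⟩).1 this
    · intro j
      by_cases hj : c j = j
      · left
        rw [← hcard j]
        refine Nat.card_congr (Equiv.subtypeEquivRight (fun i => ?_))
        rw [← hc2 i j, hj]
      · right
        rw [Nat.card_eq_zero]; left
        refine ⟨fun ⟨i, hi⟩ => hj ?_⟩
        have : c (c i) = c i := (hc2 _ _).2 (hc1 i)
        rw [hi] at this; exact this
    · intro n
      rw [← hDe, hsc]
      exact Iff.rfl
  · push Not at hR
    obtain ⟨i₁, t₁, ht₁⟩ := hR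
    let R : Fin m → Subgroup T := fun i => D.map (Pi.evalMonoidHom (fun _ => T) i)
    have hRmem : ∀ i t, t ∈ R i ↔ ∃ d ∈ D, d i = t := by
      intro i t
      exact Subgroup.mem_map
    have hRne : ∀ i, R i ≠ ⊤ := by
      intro i htop
      obtain ⟨k, hk, hkG⟩ := htransK i₁ i
      obtain ⟨φ, hφ, hφx0⟩ := hkG
      have hφx : ∀ x, ψ k x i₁ = φ (x i) := hφx0
      have hφs : Function.Surjective φ := Finite.injective_iff_surjective.1 hφ
      obtain ⟨s, hs⟩ := hφs t₁
      have : s ∈ R i := by rw [htop]; exact Subgroup.mem_top _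
      obtain ⟨d, hd, hdi⟩ := (hRmem i s).1 this
      exact ht₁ (ψ k d) (hψD k hk d hd) (by rw [hφx, hdi, hs])
    refine ⟨e₀, Or.inl ⟨R, hRne, ?_⟩⟩
    intro n
    constructor
    · intro hn i
      exact (hRmem i _).2 ⟨e₀ n, (hDe n).2 hn, rfl⟩
    · intro hn
      let X : Subgroup H :=
        ((Subgroup.pi Set.univ R).comap e₀.toMonoidHom).map N.subtype
      have hXmem : ∀ n : N, (n : H) ∈ X ↔ ∀ i, e₀ n i ∈ R i := by
        intro n
        constructor
        · rintro ⟨n', hn', hnn⟩
          have : n' = n := Subtype.ext hnn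
          subst this
          intro i
          have h3 : e₀ n' ∈ Subgroup.pi Set.univ R := hn'
          rw [Subgroup.mem_pi] at h3
          exact h3 i (Set.mem_univ i)
        · intro h
          refine ⟨n, ?_, rfl⟩
          change e₀ n ∈ Subgroup.pi Set.univ R
          rw [Subgroup.mem_pi]
          intro i _
          exact h i
      have hXN : X ≤ N := by
        rintro _ ⟨n, _, rfl⟩
        exact n.2
      have hKX : K ⊓ N ≤ X := by
        intro x hx
        have h1 : ((⟨x, hx.2⟩ : N) : H) ∈ X := by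
          rw [hXmem]
          intro i
          exact (hRmem i _).2 ⟨e₀ ⟨x, hx.2⟩, (hDe _).2 hx.1, rfl⟩
        exact h1
      have hconj : ∀ k ∈ K, ∀ x ∈ X, k * x * k⁻¹ ∈ X := by
        rintro k hk _ ⟨n', hn', rfl⟩
        have e1 : k * (N.subtype n') * k⁻¹ = ((MulAut.conjNormal k n' : N) : H) := by simp
        rw [e1, hXmem]
        intro i
        rw [← hψ_e]
        obtain ⟨j, φ, hφ, hφx0⟩ := hG_ex k i
        have hφx : ∀ x, ψ k x i = φ (x j) := hφx0
        have hn2 := (hXmem n').1 ⟨n', hn', rfl⟩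
        obtain ⟨d, hd, hdj⟩ := (hRmem j _).1 (hn2 j)
        rw [hφx, ← hdj, ← hφx]
        exact (hRmem i _).2 ⟨ψ k d, hψD k hk d hd, rfl⟩
      have hinv : K ≤ Subgroup.normalizer (X : Set H) := by
        intro k hk
        rw [Subgroup.mem_normalizer_iff]
        intro x
        constructor
        · exact hconj k hk x
        · intro hx
          have := hconj k⁻¹ (K.inv_mem hk) _ hx
          simpa [mul_assoc] using this
      rcases hmaxK X hXN hKX hinv with h | h
      · have : (n : H) ∈ X := (hXmem n).2 hn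
        rw [h] at this; exact this.1
      · exfalso
        apply hRne i₁
        rw [eq_top_iff]; intro t _
        have h1 : ((e₀.symm (Pi.mulSingle i₁ t) : N) : H) ∈ X := by
          rw [h]; exact (e₀.symm _).2
        rw [hXmem] at h1
        have := h1 i₁
        simpa using this

end core

/-- The core of the O'Nan–Scott Theorem. Let `H` be a primitive permutation group on a finite set whose unique minimal normal subgroup `N` is non-abelian, and `K` a point stabiliser. Then there are a non-abelian simple group `T` and an isomorphism `N ≃* T^m` (`m ≥ 1`) under which `K ⊓ N` becomes either a product `∏ K_i` of proper subgroups `K_i < T`, or the set of functions constant on each block of a partition of the index set into blocks of one common size `k ≥ 2`. -/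
theorem result {α : Type*} [Finite α] (H : Subgroup (Equiv.Perm α)) [MulAction.IsPreprimitive H α] (N : Subgroup H) [N.Normal] (hN : N ≠ ⊥) (hmin : ∀ M : Subgroup H, M.Normal → M ≤ N → M = ⊥ ∨ M = N) (huniq : ∀ L : Subgroup H, L.Normal → L ≠ ⊥ → (∀ M : Subgroup H, M.Normal → M ≤ L → M = ⊥ ∨ M = L) → L = N) (hnab : ¬ IsMulCommutative N) (a : α) : ∃ (T : Type) (_ : Group T) (m : ℕ) (e : N ≃* (Fin m → T)), IsSimpleGroup T ∧ ¬ IsMulCommutative T ∧ 0 < m ∧ ((∃ K : Fin m → Subgroup T, (∀ i, K i ≠ ⊤) ∧ ∀ n : N, (n : H) ∈ MulAction.stabilizer H a ↔ ∀ i, e n i ∈ K i) ∨ (∃ (k : ℕ) (c : Fin m → Fin m), 2 ≤ k ∧ (∀ j : Fin m, Nat.card {i : Fin m // c i = j} = k ∨ Nat.card {i : Fin m // c i = j} = 0) ∧ ∀ n : N, (n : H) ∈ MulAction.stabilizer H a ↔ ∀ i j : Fin m, c i = c j → e n i = e n j)) := by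
  classical
  obtain ⟨T, hTg, m, hTs, hm, ⟨e₀⟩⟩ := Cfsg.Agent.S0721.result N hN hmin
  have hfinT : Finite T := by
    refine Finite.of_injective (fun t => e₀.symm (Pi.mulSingle (⟨0, hm⟩ : Fin m) t)) ?_
    intro s t h
    have h1 := e₀.symm.injective h
    have h2 := congrFun h1 ⟨0, hm⟩
    simpa using h2
  have hT : ¬ IsMulCommutative T := by
    intro hc
    apply hnab
    refine ⟨⟨fun x y => ?_⟩⟩
    apply e₀.injective
    rw [map_mul, map_mul]
    funext i
    exact hc.is_comm.comm _ _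
  have hnt : Nontrivial α := by
    by_contra hc
    rw [not_nontrivial_iff_subsingleton] at hc
    apply hN
    have : Subsingleton H := ⟨fun x y => Subtype.ext (Subsingleton.elim _ _)⟩
    exact Subsingleton.elim _ _
  have hco : IsCoatom (MulAction.stabilizer H a) :=
    MulAction.IsPreprimitive.isCoatom_stabilizer_of_isPreprimitive H a
  have hNK : ¬ N ≤ MulAction.stabilizer H a := by
    intro hle
    apply hN
    rw [eq_bot_iff]
    intro n hn
    rw [Subgroup.mem_bot]
    apply Subtype.ext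
    apply Equiv.ext
    intro b
    obtain ⟨h, rfl⟩ := MulAction.exists_smul_eq H a b
    have h1 : h⁻¹ * n * h ∈ N := by
      have := ‹N.Normal›.conj_mem n hn h⁻¹
      simpa using this
    have h2 := hle h1
    rw [MulAction.mem_stabilizer_iff] at h2
    have h3 : n • (h • a) = h • a := by
      have : h • ((h⁻¹ * n * h) • a) = h • a := by rw [h2]
      rw [← mul_smul] at this
      rw [← mul_smul]
      convert this using 2
      group
    exact h3
  have hKN : ∀ h : H, ∃ k ∈ MulAction.stabilizer H a, ∃ n ∈ N, k * n = h := by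
    intro h
    have htop : MulAction.stabilizer H a ⊔ N = ⊤ := by
      apply hco.2
      refine lt_of_le_of_ne le_sup_left ?_
      intro heq
      apply hNK
      rw [heq]; exact le_sup_right
    have : h ∈ MulAction.stabilizer H a ⊔ N := by rw [htop]; exact Subgroup.mem_top h
    exact Subgroup.mem_sup_of_normal_right.1 this
  have hmaxK : ∀ X : Subgroup H, X ≤ N → MulAction.stabilizer H a ⊓ N ≤ X →
      MulAction.stabilizer H a ≤ Subgroup.normalizer (X : Set H) →
      X = MulAction.stabilizer H a ⊓ N ∨ X = N :=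
    fun X h1 h2 h3 => Cfsg.Agent.S0722.result H N hN hmin a X h1 h2 h3
  obtain ⟨e, he⟩ := core N (MulAction.stabilizer H a) hmin hKN hmaxK hNK hT hm e₀
  exact ⟨T, hTg, m, e, hTs, hT, hm, he⟩

end Cfsg.Agent.S0723
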