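import Mathlib
import Cfsg.Statements.S0724

set_option autoImplicit false
open Cfsg

namespace Cfsg.Agent.S0724

/-- Blichfeldt's Theorem: if a finite set `L` of natural numbers contains the number of fixed points of every non-identity element of a permutation group `G` of degree `n`, then the order of `G` divides `∏ (n - l)` over `l ∈ L`. -/
theorem result {α : Type*} [Fintype α] [DecidableEq α] (G : Subgroup (Equiv.Perm α)) (L : Finset ℕ) (hL : ∀ g ∈ G, g ≠ 1 → Nat.card (MulAction.fixedBy α g) ∈ L) : Nat.card G ∣ ∏ l ∈ L, (Fintype.card α - l) := by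
  classical
  have : Fintype G := Fintype.ofFinite G
  set n := Fintype.card α with hn
  let fixc : G → ℕ := fun g => Fintype.card (MulAction.fixedBy α (g : Equiv.Perm α))
  have h1 : ∀ j : ℕ, (Fintype.card G : ℤ) ∣ ∑ g : G, (fixc g : ℤ) ^ j := by
    intro j
    have hb := MulAction.sum_card_fixedBy_eq_card_orbits_mul_card_group G (Fin j → α)
    have hf : ∀ g : G, Fintype.card (MulAction.fixedBy (Fin j → α) g) = (fixc g) ^ j := by
      intro g
      have e : MulAction.fixedBy (Fin j → α) g ≃
          (Fin j → MulAction.fixedBy α (g : Equiv.Perm α)) :=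
        { toFun := fun f i => ⟨f.1 i, by
            have := f.2
            simp only [MulAction.mem_fixedBy] at this ⊢
            exact congrFun this i⟩
          invFun := fun f => ⟨fun i => (f i).1, by
            simp only [MulAction.mem_fixedBy]
            funext i
            exact (f i).2⟩
          left_inv := fun f => rfl
          right_inv := fun f => rfl }
      rw [Fintype.card_congr e, Fintype.card_fun, Fintype.card_fin]
    simp only [hf] at hb
    refine ⟨(Fintype.card (Quotient (MulAction.orbitRel G (Fin j → α))) : ℤ), ?_⟩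
    have := congrArg (Nat.cast : ℕ → ℤ) hb
    push_cast at this
    rw [this]; ring
  let P : Polynomial ℤ := ∏ l ∈ L, (Polynomial.X - Polynomial.C (l : ℤ))
  have h2 : (Fintype.card G : ℤ) ∣ ∑ g : G, P.eval (fixc g : ℤ) := by
    simp_rw [Polynomial.eval_eq_sum_range]
    rw [Finset.sum_comm]
    apply Finset.dvd_sum
    intro j _
    rw [← Finset.mul_sum]
    exact Dvd.dvd.mul_left (h1 j) _
  have h3 : ∑ g : G, P.eval (fixc g : ℤ) = ∏ l ∈ L, ((n : ℤ) - l) := by
    rw [Finset.sum_eq_single (1 : G)]
    · have hfix1 : fixc 1 = n := by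
        simp only [fixc, hn]
        apply Fintype.card_congr
        exact ⟨fun x => x.1, fun x => ⟨x, by simp⟩, fun x => rfl, fun x => rfl⟩
      simp [P, Polynomial.eval_prod, hfix1]
    · intro g _ hg
      have hmem : fixc g ∈ L := by
        have := hL (g : Equiv.Perm α) g.2 (by intro h; exact hg (Subtype.ext h))
        rwa [Nat.card_eq_fintype_card] at this
      simp only [P, Polynomial.eval_prod]
      apply Finset.prod_eq_zero hmem
      simp
    · intro h; exact absurd (Finset.mem_univ _) h
  have h4 : (Fintype.card G : ℤ) ∣ ∏ l ∈ L, ((n : ℤ) - l) := h3 ▸ h2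
  rw [Nat.card_eq_fintype_card]
  by_cases hex : ∃ l ∈ L, n ≤ l
  · obtain ⟨l, hl, hnl⟩ := hex
    rw [Finset.prod_eq_zero hl (Nat.sub_eq_zero_of_le hnl)]
    exact dvd_zero _
  · push Not at hex
    rw [← Int.natCast_dvd_natCast, Nat.cast_prod]
    have : ∏ l ∈ L, ((n - l : ℕ) : ℤ) = ∏ l ∈ L, ((n : ℤ) - l) :=
      Finset.prod_congr rfl (fun l hl => by rw [Nat.cast_sub (hex l hl).le])
    rw [this]
    exact h4

end Cfsg.Agent.S0724
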