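import Cfsg.Statements.S0726

set_option autoImplicit false
open Cfsg

namespace Cfsg.Agent.S0726

lemma key {G : Type*} [Group G] (σ : Equiv.Perm G)
    (hσ : σ ∈ Subgroup.centralizer ((MulAction.toPermHom G G).range : Set (Equiv.Perm G)))
    (x : G) : σ x = x * σ 1 := by
  rw [Subgroup.mem_centralizer_iff] at hσ
  have h1 := hσ (MulAction.toPermHom G G x) ⟨x, rfl⟩
  have h2 := congrArg (fun f : Equiv.Perm G => f 1) h1
  simp only [Equiv.Perm.coe_mul, Function.comp_apply, MulAction.toPermHom_apply,
    MulAction.toPerm_apply, smul_eq_mul, mul_one] at h2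
  exact h2.symm

lemma mem_range_of_mem {G : Type*} [Group G] (σ : Equiv.Perm G)
    (hσ : σ ∈ Subgroup.centralizer ((MulAction.toPermHom G G).range : Set (Equiv.Perm G))) :
    σ ∈ (MulAction.toPermHom Gᵐᵒᵖ G).range := by
  refine ⟨MulOpposite.op (σ 1), ?_⟩
  ext x
  simp only [MulAction.toPermHom_apply, MulAction.toPerm_apply, MulOpposite.smul_eq_mul_unop,
    MulOpposite.unop_op]
  exact (key σ hσ x).symm

/-- The left and right regular permutation representations of a group are each other's centralisers in the symmetric group: the centraliser of the left regular image is the right regular image, and a transitive subgroup centralising the left regular image is the whole right regular image. -/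
theorem result {G : Type*} [Group G] : Subgroup.centralizer ((MulAction.toPermHom G G).range : Set (Equiv.Perm G)) = (MulAction.toPermHom Gᵐᵒᵖ G).range ∧ ∀ H : Subgroup (Equiv.Perm G), H ≤ Subgroup.centralizer ((MulAction.toPermHom G G).range : Set (Equiv.Perm G)) → MulAction.IsPretransitive H G → H = (MulAction.toPermHom Gᵐᵒᵖ G).range := by
  have hrange : ∀ σ : Equiv.Perm G, σ ∈ (MulAction.toPermHom Gᵐᵒᵖ G).range →
      σ ∈ Subgroup.centralizer ((MulAction.toPermHom G G).range : Set (Equiv.Perm G)) := by
    rintro σ ⟨c, rfl⟩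
    rw [Subgroup.mem_centralizer_iff]
    rintro τ ⟨g, rfl⟩
    ext x
    simp only [Equiv.Perm.coe_mul, Function.comp_apply, MulAction.toPermHom_apply,
      MulAction.toPerm_apply, smul_eq_mul, MulOpposite.smul_eq_mul_unop, mul_assoc]
  refine ⟨le_antisymm (fun σ hσ => mem_range_of_mem σ hσ) (fun σ hσ => hrange σ hσ), ?_⟩
  intro H hH htr
  apply le_antisymm
  · intro σ hσ
    exact mem_range_of_mem σ (hH hσ)
  · rintro σ ⟨c, rfl⟩
    obtain ⟨h, hh⟩ := htr.exists_smul_eq (1 : G) (MulOpposite.unop c)
    have hh' : (h : Equiv.Perm G) 1 = MulOpposite.unop c := hh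
    have : (h : Equiv.Perm G) = MulAction.toPermHom Gᵐᵒᵖ G c := by
      ext x
      rw [key (h : Equiv.Perm G) (hH h.2) x, hh']
      simp only [MulAction.toPermHom_apply, MulAction.toPerm_apply, MulOpposite.smul_eq_mul_unop]
    rw [← this]
    exact h.2

end Cfsg.Agent.S0726
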