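import Mathlib
import Cfsg.Statements.S0733

set_option autoImplicit false
open Cfsg

namespace Cfsg.Agent.S0733

open MulAction

open scoped Pointwise

/-- A permutation group of affine type — generated by the translations of a finite vector space `V` over `ZMod p` together with a group `G₀` of linear automorphisms — is primitive on `V` if and only if `G₀` is irreducible on `V`. -/
theorem result {p : ℕ} [Fact p.Prime] {V : Type*} [AddCommGroup V] [Module (ZMod p) V] [Finite V] [Nontrivial V] (G₀ : Subgroup (V ≃ₗ[ZMod p] V)) (G : Subgroup (Equiv.Perm V)) (hG : ∀ σ : Equiv.Perm V, σ ∈ G ↔ ∃ g ∈ G₀, ∃ b : V, ∀ x : V, σ x = (g : V ≃ₗ[ZMod p] V) x + b) : MulAction.IsPreprimitive G V ↔ ∀ W : Submodule (ZMod p) V, (∀ g ∈ G₀, ∀ v ∈ W, (g : V ≃ₗ[ZMod p] V) v ∈ W) → W = ⊥ ∨ W = ⊤ := by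
  constructor
  · intro hprim W hW
    have hblock : IsBlock G (W : Set V) := by
      rw [isBlock_iff_smul_eq_of_mem]
      rintro ⟨σ, hσ⟩ x hx hσx
      obtain ⟨g, hg, b, hgb⟩ := (hG σ).mp hσ
      have hsx : σ x ∈ W := hσx
      have hb : b ∈ W := by
        have h1 := hW g hg x hx
        have : b = σ x - g x := by rw [hgb x]; abel
        rw [this]; exact W.sub_mem hsx h1
      have hginv : ∀ v ∈ W, (g : V ≃ₗ[ZMod p] V).symm v ∈ W := by
        intro v hv
        exact hW g⁻¹ (G₀.inv_mem hg) v hv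
      ext y
      constructor
      · rintro ⟨w, hw, rfl⟩
        show σ w ∈ W
        rw [hgb w]; exact W.add_mem (hW g hg w hw) hb
      · intro hy
        refine ⟨(g : V ≃ₗ[ZMod p] V).symm (y - b), hginv _ (W.sub_mem hy hb), ?_⟩
        show σ _ = y
        rw [hgb]; simp
    rcases hprim.isTrivialBlock_of_isBlock hblock with hsub | huniv
    · left
      rw [eq_bot_iff]
      intro x hx
      rw [Submodule.mem_bot]
      exact hsub hx W.zero_mem
    · right
      rw [eq_top_iff]
      intro x _
      have : x ∈ (W : Set V) := by rw [huniv]; trivial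
      exact this
  · intro hirr
    have htrans_mem : ∀ b : V, Equiv.addRight b ∈ G :=
      fun b => (hG _).mpr ⟨1, G₀.one_mem, b, fun x => by simp⟩
    have hlin_mem : ∀ g ∈ G₀, (g : V ≃ₗ[ZMod p] V).toEquiv ∈ G :=
      fun g hg => (hG _).mpr ⟨g, hg, 0, fun x => by simp⟩
    have : IsPretransitive G V :=
      ⟨fun a b => ⟨⟨Equiv.addRight (b - a), htrans_mem _⟩, by
        show a + (b - a) = b
        abel⟩⟩
    apply IsPreprimitive.mk
    intro B hB
    rcases B.eq_empty_or_nonempty with hemp | ⟨b0, hb0⟩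
    · left; rw [hemp]; exact Set.subsingleton_empty
    set τ : G := ⟨Equiv.addRight (-b0), htrans_mem _⟩ with hτ
    rw [← IsTrivialBlock.smul_iff τ]
    have hB' : IsBlock G (τ • B) := hB.translate τ
    have hmem : ∀ x, x ∈ τ • B ↔ x + b0 ∈ B := by
      intro x
      rw [Set.mem_smul_set_iff_inv_smul_mem]
      have : τ⁻¹ • x = x + b0 := by
        rw [inv_smul_eq_iff]
        show x = (x + b0) + (-b0)
        abel
      rw [this]
    have h0 : (0 : V) ∈ τ • B := by rw [hmem, zero_add]; exact hb0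
    rw [isBlock_iff_smul_eq_of_mem] at hB'
    have hadd : ∀ x ∈ τ • B, ∀ y ∈ τ • B, x + y ∈ τ • B := by
      intro x hx y hy
      have := hB' (g := ⟨Equiv.addRight y, htrans_mem y⟩) h0 (by
        show (0 : V) + y ∈ _
        rwa [zero_add])
      rw [← this]
      exact ⟨x, hx, rfl⟩
    have hneg : ∀ x ∈ τ • B, -x ∈ τ • B := by
      intro x hx
      have := hB' (g := ⟨Equiv.addRight (-x), htrans_mem _⟩) hx (by
        show x + -x ∈ _
        rwa [add_neg_cancel])
      rw [← this]
      exact ⟨0, h0, by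
        show (0 : V) + -x = -x
        rw [zero_add]⟩
    let A : AddSubgroup V :=
      { carrier := τ • B
        add_mem' := fun hx hy => hadd _ hx _ hy
        zero_mem' := h0
        neg_mem' := fun hx => hneg _ hx }
    let W : Submodule (ZMod p) V := AddSubgroup.toZModSubmodule p A
    have hW : ∀ x, x ∈ W ↔ x ∈ τ • B := fun x => Iff.rfl
    have hinv : ∀ g ∈ G₀, ∀ v ∈ W, (g : V ≃ₗ[ZMod p] V) v ∈ W := by
      intro g hg v hv
      rw [hW] at hv ⊢
      have := hB' (g := ⟨(g : V ≃ₗ[ZMod p] V).toEquiv, hlin_mem g hg⟩) h0 (by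
        show (g : V ≃ₗ[ZMod p] V) 0 ∈ _
        rw [map_zero]; exact h0)
      rw [← this]
      exact ⟨v, hv, rfl⟩
    rcases hirr W hinv with hbot | htop
    · left
      intro x hx y hy
      have hx' : x ∈ W := (hW x).mpr hx
      have hy' : y ∈ W := (hW y).mpr hy
      rw [hbot, Submodule.mem_bot] at hx' hy'
      rw [hx', hy']
    · right
      rw [Set.eq_univ_iff_forall]
      intro x
      rw [← hW, htop]; trivial

end Cfsg.Agent.S0733
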