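import Mathlib
import Cfsg.Statements.S0734

set_option autoImplicit false
open Cfsg

namespace Cfsg.Agent.S0734

open MulAction

open scoped Pointwise

variable {G : Type*} [Group G] {Ω : Type*} [MulAction G Ω]

/-- the orbital graph of the pair `(a, b)` -/
abbrev orb (G : Type*) [Group G] {Ω : Type*} [MulAction G Ω] (a b : Ω) : SimpleGraph Ω :=
  SimpleGraph.fromRel fun x y : Ω => ∃ g : G, g • a = x ∧ g • b = y

lemma adj_smul (a b : Ω) (g : G) {u v : Ω} (h : (orb G a b).Adj u v) :
    (orb G a b).Adj (g • u) (g • v) := by
  rw [SimpleGraph.fromRel_adj] at h ⊢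
  refine ⟨fun hh => h.1 (MulAction.injective g hh), ?_⟩
  rcases h.2 with ⟨k, hk1, hk2⟩ | ⟨k, hk1, hk2⟩
  · left; exact ⟨g * k, by rw [mul_smul, hk1], by rw [mul_smul, hk2]⟩
  · right; exact ⟨g * k, by rw [mul_smul, hk1], by rw [mul_smul, hk2]⟩

lemma reach_smul (a b : Ω) (g : G) {u v : Ω} (h : (orb G a b).Reachable u v) :
    (orb G a b).Reachable (g • u) (g • v) := by
  let φ : orb G a b →g orb G a b := ⟨fun x => g • x, fun h => adj_smul a b g h⟩
  exact h.map φ

lemma mem_of_walk (a b : Ω) {B : Set Ω} (hB : IsBlock G B) (ha : a ∈ B) (hb : b ∈ B)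
    {u v : Ω} (p : (orb G a b).Walk u v) : u ∈ B → v ∈ B := by
  rw [isBlock_iff_smul_eq_of_mem] at hB
  induction p with
  | nil => exact id
  | cons h p ih =>
    intro hu
    apply ih
    rw [SimpleGraph.fromRel_adj] at h
    rcases h.2 with ⟨k, hk1, hk2⟩ | ⟨k, hk1, hk2⟩
    · rw [← hB (g := k) ha (by rw [hk1]; exact hu), ← hk2]
      exact Set.smul_mem_smul_set hb
    · rw [← hB (g := k) hb (by rw [hk2]; exact hu), ← hk1]
      exact Set.smul_mem_smul_set ha

/-- Higman's criterion for primitivity: a transitive action on a finite set is primitive if and only if every non-trivial orbital graph (edges = images of a fixed pair of distinct points) is connected. -/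
theorem result {G : Type*} [Group G] {Ω : Type*} [Finite Ω] [MulAction G Ω] [MulAction.IsPretransitive G Ω] [Nontrivial Ω] : MulAction.IsPreprimitive G Ω ↔ ∀ a b : Ω, a ≠ b → (SimpleGraph.fromRel fun x y : Ω => ∃ g : G, g • a = x ∧ g • b = y).Connected := by
  constructor
  · intro hprim a b hab
    have hblock : IsBlock G {x : Ω | (orb G a b).Reachable a x} := by
      rw [isBlock_iff_smul_eq_of_mem]
      intro g x hx hgx
      simp only [Set.mem_ofPred_eq] at hx hgx
      have h1 : (orb G a b).Reachable a (g • a) := hgx.trans (reach_smul a b g hx).symm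
      ext y
      rw [Set.mem_smul_set_iff_inv_smul_mem]
      simp only [Set.mem_ofPred_eq]
      constructor
      · intro hy
        have := reach_smul a b g hy
        rw [smul_inv_smul] at this
        exact h1.trans this
      · intro hy
        have h2 : (orb G a b).Reachable (g • a) y := h1.symm.trans hy
        have := reach_smul a b g⁻¹ h2
        rwa [inv_smul_smul] at this
    have hadj : (orb G a b).Adj a b := by
      rw [SimpleGraph.fromRel_adj]
      exact ⟨hab, Or.inl ⟨1, one_smul _ _, one_smul _ _⟩⟩
    have huniv : {x : Ω | (orb G a b).Reachable a x} = Set.univ := by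
      rcases hprim.isTrivialBlock_of_isBlock hblock with hsub | hu
      · exact absurd (hsub (SimpleGraph.Reachable.refl a : a ∈ _) (hadj.reachable : b ∈ _)) hab
      · exact hu
    have hall : ∀ x : Ω, (orb G a b).Reachable a x := by
      intro x
      have : x ∈ {x : Ω | (orb G a b).Reachable a x} := by rw [huniv]; trivial
      exact this
    exact ⟨fun u v => (hall u).symm.trans (hall v)⟩
  · intro hconn
    apply IsPreprimitive.mk
    intro B hB
    rcases B.subsingleton_or_nontrivial with h | h
    · left; exact h
    · right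
      obtain ⟨a, ha, b, hb, hab⟩ := h
      rw [Set.eq_univ_iff_forall]
      intro c
      obtain ⟨p⟩ := (hconn a b hab).preconnected a c
      exact mem_of_walk a b hB ha hb p ha

end Cfsg.Agent.S0734
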