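import Mathlib
import Cfsg.Statements.S0735

set_option autoImplicit false
open Cfsg

namespace Cfsg.Agent.S0735

open MulAction

open scoped Pointwise

lemma pair_trans {α : Type*} [DecidableEq α] (G : Subgroup (Equiv.Perm α))
    (h2 : MulAction.IsPretransitive G (Set.powersetCard α 2)) {a b c d : α}
    (hab : a ≠ b) (hcd : c ≠ d) :
    ∃ g : G, (g • a = c ∧ g • b = d) ∨ (g • a = d ∧ g • b = c) := by
  let s : Set.powersetCard α 2 := ⟨{a, b}, by simp [Finset.card_pair hab]⟩
  let t : Set.powersetCard α 2 := ⟨{c, d}, by simp [Finset.card_pair hcd]⟩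
  obtain ⟨g, hg⟩ := h2.exists_smul_eq s t
  have hg' : g • ({a, b} : Finset α) = {c, d} := by
    have e1 : ((g • s : Set.powersetCard α 2) : Finset α) = g • (s : Finset α) :=
      Set.powersetCard.coe_smul
    have e2 : ((g • s : Set.powersetCard α 2) : Finset α) = (t : Finset α) := by rw [hg]
    exact e1.symm.trans e2
  have ha : g • a ∈ ({c, d} : Finset α) := by
    rw [← hg']; exact Finset.smul_mem_smul_finset (by simp)
  have hb : g • b ∈ ({c, d} : Finset α) := by
    rw [← hg']; exact Finset.smul_mem_smul_finset (by simp)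
  have hne : g • a ≠ g • b := fun h => hab (MulAction.injective g h)
  simp only [Finset.mem_insert, Finset.mem_singleton] at ha hb
  refine ⟨g, ?_⟩
  rcases ha with ha | ha <;> rcases hb with hb | hb
  · exact absurd (ha.trans hb.symm) hne
  · left; exact ⟨ha, hb⟩
  · right; exact ⟨ha, hb⟩
  · exact absurd (ha.trans hb.symm) hne

/-- A 2-homogeneous permutation group (transitive on 2-subsets) of even order is doubly transitive; a non-trivial 2-homogeneous group is primitive. -/
theorem result {α : Type*} [Fintype α] [DecidableEq α] (G : Subgroup (Equiv.Perm α)) (h2 : MulAction.IsPretransitive G (Set.powersetCard α 2)) (hα : 3 ≤ Fintype.card α) : (Even (Nat.card G) → MulAction.IsMultiplyPretransitive G α 2) ∧ (G ≠ ⊥ → MulAction.IsPreprimitive G α) := by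
  constructor
  · intro hev
    have : Fact (Nat.Prime 2) := ⟨Nat.prime_two⟩
    obtain ⟨t, ht⟩ := exists_prime_orderOf_dvd_card' 2 (even_iff_two_dvd.mp hev)
    have ht1 : t ≠ 1 := by rintro rfl; simp at ht
    have ht2 : t ^ 2 = 1 := by rw [← ht]; exact pow_orderOf_eq_one t
    obtain ⟨x, hx⟩ : ∃ x : α, t • x ≠ x := by
      by_contra hcon
      push Not at hcon
      apply ht1
      apply Subtype.ext
      ext y
      exact hcon y
    have hty : t • (t • x) = x := by rw [← mul_smul, ← sq, ht2, one_smul]
    have key : ∀ c d : α, c ≠ d → ∃ k : G, k • x = c ∧ k • (t • x) = d := by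
      intro c d hcd
      obtain ⟨g, hg | hg⟩ := pair_trans G h2 (Ne.symm hx) hcd
      · exact ⟨g, hg⟩
      · refine ⟨g * t, ?_, ?_⟩
        · rw [mul_smul, hg.2]
        · rw [mul_smul, hty, hg.1]
    rw [is_two_pretransitive_iff]
    intro a b c d hab hcd
    obtain ⟨k, hk1, hk2⟩ := key c d hcd
    obtain ⟨k', hk1', hk2'⟩ := key a b hab
    refine ⟨k * k'⁻¹, ?_, ?_⟩
    · rw [mul_smul, inv_smul_eq_iff.mpr hk1'.symm, hk1]
    · rw [mul_smul, inv_smul_eq_iff.mpr hk2'.symm, hk2]
  · intro _
    have htrans : IsPretransitive G α := by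
      constructor
      intro a b
      by_cases hab : a = b
      · exact ⟨1, by rw [one_smul, hab]⟩
      · obtain ⟨c, hc⟩ : ∃ c : α, c ≠ a ∧ c ≠ b := by
          by_contra hcon
          push Not at hcon
          have hsub : (Finset.univ : Finset α) ⊆ {a, b} := by
            intro y _
            by_cases hya : y = a
            · simp [hya]
            · simp [hcon y hya]
          have := Finset.card_le_card hsub
          rw [Finset.card_univ, Finset.card_pair hab] at this
          omega
        obtain ⟨g, hg | hg⟩ := pair_trans G h2 (Ne.symm hc.1) (Ne.symm hc.2)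
        · exact ⟨g, hg.1⟩
        · exact ⟨g * g, by rw [mul_smul, hg.1, hg.2]⟩
    apply IsPreprimitive.mk
    intro B hB
    rcases B.subsingleton_or_nontrivial with h | h
    · left; exact h
    · right
      obtain ⟨a, ha, b, hb, hab⟩ := h
      rw [Set.eq_univ_iff_forall]
      intro c
      by_cases hac : a = c
      · rw [← hac]; exact ha
      · rw [isBlock_iff_smul_eq_of_mem] at hB
        obtain ⟨g, hg | hg⟩ := pair_trans G h2 hab hac
        · rw [← hB (g := g) ha (by rw [hg.1]; exact ha), ← hg.2]
          exact Set.smul_mem_smul_set hb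
        · rw [← hB (g := g) hb (by rw [hg.2]; exact ha), ← hg.1]
          exact Set.smul_mem_smul_set ha

end Cfsg.Agent.S0735
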