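import Mathlib
import Cfsg.Statements.S0736

set_option autoImplicit false
open Cfsg
open scoped Pointwise

namespace Cfsg.Agent.S0736

/-- Kummer: `p ∤ C(q-1+k, k)` when `q = p^a ∣ k`. -/
lemma not_dvd_choose {p a k : ℕ} (hp : p.Prime) (hqk : p ^ a ∣ k) :
    ¬ p ∣ Nat.choose (p ^ a - 1 + k) k := by
  have : Fact p.Prime := ⟨hp⟩
  have hpos : 0 < p ^ a := pow_pos hp.pos a
  have hval : padicValNat p (Nat.choose (p ^ a - 1 + k) k) = 0 := by
    rw [padicValNat_choose' (n := p ^ a - 1) (k := k) (b := Nat.log p (p ^ a - 1 + k) + 1)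
      (Nat.lt_succ_self _)]
    rw [Finset.card_eq_zero, Finset.filter_eq_empty_iff]
    intro i hi
    rw [not_le]
    rcases le_or_gt i a with hia | hia
    · have h1 : p ^ i ∣ k := (pow_dvd_pow p hia).trans hqk
      rw [Nat.mod_eq_zero_of_dvd h1, zero_add]
      exact Nat.mod_lt _ (pow_pos hp.pos i)
    · obtain ⟨k', rfl⟩ := hqk
      have hpi : p ^ i = p ^ a * p ^ (i - a) := by
        rw [← pow_add]; congr 1; omega
      have h2 : (p ^ a - 1) % p ^ i = p ^ a - 1 := by
        apply Nat.mod_eq_of_lt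
        have : p ^ a < p ^ i := Nat.pow_lt_pow_right hp.one_lt hia
        omega
      rw [h2, hpi, Nat.mul_mod_mul_left]
      have h3 : k' % p ^ (i - a) < p ^ (i - a) := Nat.mod_lt _ (pow_pos hp.pos _)
      have h4 : p ^ a * (k' % p ^ (i - a)) + p ^ a ≤ p ^ a * p ^ (i - a) := by
        calc p ^ a * (k' % p ^ (i - a)) + p ^ a = p ^ a * (k' % p ^ (i - a) + 1) := by ring
          _ ≤ p ^ a * p ^ (i - a) := Nat.mul_le_mul_left _ h3
      omega
  intro hdvd
  have hne : Nat.choose (p ^ a - 1 + k) k ≠ 0 := (Nat.choose_pos (Nat.le_add_left _ _)).ne'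
  exact (dvd_iff_padicValNat_ne_zero hne).mp hdvd hval

variable {α : Type*} [DecidableEq α]

/-- number of `(j+1)`-supersets inside `Γ` of a `j`-set `S ⊆ Γ` -/
lemma card_supersets (Γ S : Finset α) (hS : S ⊆ Γ) (j : ℕ) (hj : S.card = j) :
    ((Γ.powersetCard (j+1)).filter (fun K => S ⊆ K)).card = Γ.card - j := by
  have key : (Γ.powersetCard (j+1)).filter (fun K => S ⊆ K)
      = (Γ \ S).image (fun a => insert a S) := by
    ext K
    simp only [Finset.mem_filter, Finset.mem_powersetCard, Finset.mem_image, Finset.mem_sdiff]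
    constructor
    · rintro ⟨⟨hKΓ, hKc⟩, hSK⟩
      have hc : (K \ S).card = 1 := by rw [Finset.card_sdiff_of_subset hSK]; omega
      obtain ⟨a, ha⟩ := Finset.card_eq_one.mp hc
      have haK : a ∈ K \ S := by rw [ha]; simp
      refine ⟨a, ⟨hKΓ (Finset.mem_sdiff.mp haK).1, (Finset.mem_sdiff.mp haK).2⟩, ?_⟩
      rw [← Finset.sdiff_union_of_subset hSK, ha]
      rfl
    · rintro ⟨a, ⟨haΓ, haS⟩, rfl⟩
      refine ⟨⟨Finset.insert_subset haΓ hS, ?_⟩, Finset.subset_insert _ _⟩
      rw [Finset.card_insert_of_notMem haS, hj]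
  rw [key, Finset.card_image_of_injOn, Finset.card_sdiff_of_subset hS, hj]
  intro a ha b hb hab
  simp only [Finset.coe_sdiff, Set.mem_sdiff, Finset.mem_coe] at ha hb
  have hab' : insert a S = insert b S := hab
  have : a ∈ insert b S := by
    rw [← hab']; exact Finset.mem_insert_self a S
  rcases Finset.mem_insert.mp this with h | h
  · exact h
  · exact absurd h ha.2

lemma double_count (P : Finset α → Prop) [DecidablePred P] (Γ : Finset α) (j m : ℕ)
    (hm : ∀ K : Finset α, K.card = j + 1 → ((K.powersetCard j).filter P).card = m) :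
    (Γ.card.choose (j+1)) * m = (((Γ.powersetCard j).filter P).card) * (Γ.card - j) := by
  classical
  have h := Finset.sum_card_bipartiteAbove_eq_sum_card_bipartiteBelow
    (s := Γ.powersetCard (j+1)) (t := Γ.powersetCard j) (fun K S => S ⊆ K ∧ P S)
  have hL : ∑ K ∈ Γ.powersetCard (j+1),
      ((Γ.powersetCard j).bipartiteAbove (fun K S => S ⊆ K ∧ P S) K).card
      = (Γ.card.choose (j+1)) * m := by
    rw [← Finset.card_powersetCard, ← smul_eq_mul, ← Finset.sum_const]
    apply Finset.sum_congr rfl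
    intro K hK
    rw [Finset.mem_powersetCard] at hK
    rw [← hm K hK.2]
    congr 1
    ext S
    simp only [Finset.bipartiteAbove, Finset.mem_filter, Finset.mem_powersetCard]
    constructor
    · rintro ⟨⟨_, hc⟩, hSK, hP⟩
      exact ⟨⟨hSK, hc⟩, hP⟩
    · rintro ⟨⟨hSK, hc⟩, hP⟩
      exact ⟨⟨hSK.trans hK.1, hc⟩, hSK, hP⟩
  have hR : ∑ S ∈ Γ.powersetCard j,
      ((Γ.powersetCard (j+1)).bipartiteBelow (fun K S => S ⊆ K ∧ P S) S).card
      = (((Γ.powersetCard j).filter P).card) * (Γ.card - j) := by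
    rw [← smul_eq_mul, ← Finset.sum_const, Finset.sum_filter]
    apply Finset.sum_congr rfl
    intro S hS
    rw [Finset.mem_powersetCard] at hS
    by_cases hP : P S
    · rw [if_pos hP, ← card_supersets Γ S hS.1 j hS.2]
      congr 1
      ext K
      simp only [Finset.bipartiteBelow, Finset.mem_filter, Finset.mem_powersetCard]
      tauto
    · rw [if_neg hP, Finset.card_eq_zero, Finset.eq_empty_iff_forall_notMem]
      intro K hK
      simp only [Finset.bipartiteBelow, Finset.mem_filter] at hK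
      exact hP hK.2.2
  rw [← hL, ← hR, h]

theorem core {G : Type*} [Group G] [MulAction G α] [Fintype α] {k : ℕ} (hk : 2 ≤ k)
    (hG : ∀ K K' : Finset α, K.card = k → K'.card = k → ∃ g : G, g • K = K')
    (hq : ∀ q : ℕ, IsPrimePow q → q ∣ k → k + q - 1 ≤ Fintype.card α)
    (S₀ S₁ : Finset α) (h0 : S₀.card = k - 1) (h1 : S₁.card = k - 1) :
    ∃ g : G, g • S₀ = S₁ := by
  classical
  obtain ⟨j, rfl⟩ : ∃ j, k = j + 1 := ⟨k - 1, by omega⟩
  simp only [Nat.add_sub_cancel] at h0 h1
  set P : Finset α → Prop := fun S => ∃ g : G, g • S₀ = S with hP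
  -- k ≤ card α
  have hkn : j + 1 ≤ Fintype.card α := by
    obtain ⟨p, hp, hpk⟩ := Nat.exists_prime_and_dvd (show j + 1 ≠ 1 by omega)
    have := hq p hp.isPrimePow hpk
    have := hp.pos
    omega
  -- monotonicity of m_K
  have hmono : ∀ K K' : Finset α, K.card = j + 1 → K'.card = j + 1 →
      ((K.powersetCard j).filter P).card ≤ ((K'.powersetCard j).filter P).card := by
    intro K K' hK hK'
    obtain ⟨g, hg⟩ := hG K K' hK hK'
    apply Finset.card_le_card_of_injOn (fun S => g • S)
    · intro S hS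
      simp only [Finset.coe_filter, Finset.mem_powersetCard, Set.mem_ofPred_eq] at hS ⊢
      obtain ⟨⟨hSK, hc⟩, h, hh⟩ := hS
      refine ⟨⟨?_, ?_⟩, ?_⟩
      · rw [← hg]; exact Finset.smul_finset_subset_smul_finset hSK
      · rw [Finset.card_smul_finset]; exact hc
      · exact ⟨g * h, by rw [mul_smul, hh]⟩
    · intro S _ T _ hST
      exact smul_left_cancel g hST
  have hconst : ∀ K K' : Finset α, K.card = j + 1 → K'.card = j + 1 →
      ((K.powersetCard j).filter P).card = ((K'.powersetCard j).filter P).card :=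
    fun K K' hK hK' => le_antisymm (hmono K K' hK hK') (hmono K' K hK' hK)
  obtain ⟨K₀, hS₀K₀, hK₀⟩ := Finset.exists_superset_card_eq (s := S₀) (n := j + 1)
    (by omega) hkn
  set m := ((K₀.powersetCard j).filter P).card with hmdef
  have hm : ∀ K : Finset α, K.card = j + 1 → ((K.powersetCard j).filter P).card = m :=
    fun K hK => hconst K K₀ hK hK₀
  have hmpos : 0 < m := by
    rw [hmdef, Finset.card_pos]
    refine ⟨S₀, ?_⟩
    simp only [Finset.mem_filter, Finset.mem_powersetCard]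
    exact ⟨⟨hS₀K₀, h0⟩, 1, one_smul _ _⟩
  have hmle : m ≤ j + 1 := by
    rw [hmdef]
    calc ((K₀.powersetCard j).filter P).card ≤ (K₀.powersetCard j).card := Finset.card_filter_le _ _
      _ = j + 1 := by rw [Finset.card_powersetCard, hK₀, Nat.choose_succ_self_right]
  -- prime powers dividing k divide m
  have hdiv : ∀ p a : ℕ, p.Prime → 0 < a → p ^ a ∣ j + 1 → p ^ a ∣ m := by
    intro p a hp ha hpa
    have hle := hq (p ^ a) (hp.isPrimePow.pow ha.ne') hpa
    have hpos : 0 < p ^ a := pow_pos hp.pos a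
    obtain ⟨Γ, -, hΓ⟩ := Finset.exists_subset_card_eq (s := (Finset.univ : Finset α))
      (n := j + 1 + p ^ a - 1) (by rw [Finset.card_univ]; exact hle)
    have hdc := double_count P Γ j m hm
    rw [hΓ] at hdc
    have e1 : j + 1 + p ^ a - 1 - j = p ^ a := by omega
    have e2 : j + 1 + p ^ a - 1 = p ^ a - 1 + (j + 1) := by omega
    rw [e1, e2] at hdc
    have hcop : Nat.Coprime (p ^ a) (Nat.choose (p ^ a - 1 + (j + 1)) (j + 1)) :=
      Nat.Coprime.pow_left a ((Nat.Prime.coprime_iff_not_dvd hp).mpr (not_dvd_choose hp hpa))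
    exact hcop.dvd_of_dvd_mul_left (Dvd.intro_left _ hdc.symm)
  have hkm : j + 1 ∣ m := by
    rw [← Nat.factorization_prime_le_iff_dvd (by omega) hmpos.ne']
    intro p hp
    by_cases h0' : (j + 1).factorization p = 0
    · rw [h0']; exact Nat.zero_le _
    · have := hdiv p ((j + 1).factorization p) hp (Nat.pos_of_ne_zero h0')
        (Nat.ordProj_dvd (j + 1) p)
      exact (hp.pow_dvd_iff_le_factorization hmpos.ne').mp this
  have hmeq : m = j + 1 := le_antisymm hmle (Nat.le_of_dvd hmpos hkm)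
  -- conclusion
  obtain ⟨K₁, hS₁K₁, hK₁⟩ := Finset.exists_superset_card_eq (s := S₁) (n := j + 1)
    (by omega) hkn
  have hall : ((K₁.powersetCard j).filter P).card = (K₁.powersetCard j).card := by
    rw [hm K₁ hK₁, hmeq, Finset.card_powersetCard, hK₁, Nat.choose_succ_self_right]
  have := (Finset.card_filter_eq_iff.mp hall) S₁ (Finset.mem_powersetCard.mpr ⟨hS₁K₁, h1⟩)
  exact this

/-- A `k`-homogeneous permutation group of degree `n`, `k ≥ 2`, with `k + q - 1 ≤ n` for every prime power `q` dividing `k`, is `(k-1)`-homogeneous. -/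
theorem result {α : Type*} [Fintype α] [DecidableEq α] (G : Subgroup (Equiv.Perm α)) {k : ℕ} (hk : 2 ≤ k) (hG : MulAction.IsPretransitive G (Set.powersetCard α k)) (hq : ∀ q : ℕ, IsPrimePow q → q ∣ k → k + q - 1 ≤ Fintype.card α) : MulAction.IsPretransitive G (Set.powersetCard α (k - 1)) := by
  have hG' : ∀ K K' : Finset α, K.card = k → K'.card = k → ∃ g : G, g • K = K' := by
    intro K K' hK hK'
    obtain ⟨g, hg⟩ := hG.exists_smul_eq (⟨K, hK⟩ : Set.powersetCard α k) ⟨K', hK'⟩
    refine ⟨g, ?_⟩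
    have := congrArg Subtype.val hg
    exact (Set.powersetCard.coe_smul (g := g) (s := (⟨K, hK⟩ : Set.powersetCard α k))).symm.trans this
  refine ⟨fun S₀ S₁ => ?_⟩
  obtain ⟨g, hg⟩ := core hk hG' hq S₀.1 S₁.1 S₀.2 S₁.2
  refine ⟨g, ?_⟩
  apply Subtype.ext
  exact (Set.powersetCard.coe_smul (g := g) (s := S₀)).trans hg

end Cfsg.Agent.S0736
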