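import Mathlib
import Cfsg.Statements.S0740

set_option autoImplicit false
open Cfsg

namespace Cfsg.Agent.S0740

open MulAction

open scoped Pointwise

variable {G Ω : Type*} [Group G] [MulAction G Ω]

lemma sq_eq_one_of_orderOf {t : G} (ht : orderOf t = 2) : t ^ 2 = 1 := by
  rw [← ht]; exact pow_orderOf_eq_one t

lemma ne_one_of_orderOf {t : G} (ht : orderOf t = 2) : t ≠ 1 := by
  rintro rfl; simp at ht

lemma orderOf_conj_eq (h t : G) : orderOf (h * t * h⁻¹) = orderOf t := by
  have := MulEquiv.orderOf_eq (MulAut.conj h) t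
  simpa [MulAut.conj_apply] using this

lemma exists_conj_swap [FaithfulSMul G Ω] (h2 : IsMultiplyPretransitive G Ω 2) {t : G}
    (ht : orderOf t = 2) {a b : Ω} (hab : a ≠ b) :
    ∃ h : G, (h * t * h⁻¹) • a = b ∧ (h * t * h⁻¹) • b = a := by
  have ht1 := ne_one_of_orderOf ht
  have ht2 := sq_eq_one_of_orderOf ht
  obtain ⟨c, hc⟩ : ∃ c : Ω, t • c ≠ c := by
    by_contra hcon
    push Not at hcon
    exact ht1 (FaithfulSMul.eq_of_smul_eq_smul (α := Ω) (fun x => by rw [hcon x, one_smul]))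
  have htd : t • (t • c) = c := by rw [← mul_smul, ← sq, ht2, one_smul]
  rw [is_two_pretransitive_iff] at h2
  obtain ⟨h, h1, h2'⟩ := h2 (a := c) (b := t • c) (c := a) (d := b) (Ne.symm hc) hab
  refine ⟨h, ?_, ?_⟩
  · rw [mul_smul, mul_smul, inv_smul_eq_iff.mpr h1.symm, h2']
  · rw [mul_smul, mul_smul, inv_smul_eq_iff.mpr h2'.symm, htd, h1]

lemma card_fixedBy_le_two [Fintype Ω]
    (h3 : ∀ g : G, ∀ a b c : Ω, a ≠ b → b ≠ c → a ≠ c → g • a = a → g • b = b → g • c = c → g = 1)
    {s : G} (hs : s ≠ 1) : Nat.card (fixedBy Ω s) ≤ 2 := by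
  by_contra hcon
  push Not at hcon
  rw [Nat.card_coe_set_eq, Set.two_lt_ncard_iff] at hcon
  obtain ⟨x, y, z, hx, hy, hz, hxy, hxz, hyz⟩ := hcon
  exact hs (h3 s x y z hxy hyz hxz hx hy hz)

lemma card_fixedBy_mod_two [Fintype Ω] {s : G} (hs : orderOf s = 2) :
    Fintype.card Ω % 2 = Nat.card (fixedBy Ω s) % 2 := by
  have : Fact (Nat.Prime 2) := ⟨Nat.prime_two⟩
  have hp : IsPGroup 2 (Subgroup.zpowers s) :=
    IsPGroup.of_card (n := 1) (by rw [Nat.card_zpowers, hs, pow_one])
  have hmod := hp.card_modEq_card_fixedPoints Ω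
  have heq : fixedPoints (Subgroup.zpowers s) Ω = fixedBy Ω s := by
    ext x
    simp only [mem_fixedPoints, mem_fixedBy]
    constructor
    · intro h; exact h ⟨s, Subgroup.mem_zpowers s⟩
    · rintro h ⟨_, ⟨j, rfl⟩⟩
      exact mem_fixedBy_zpow h j
  rw [heq, Nat.card_eq_fintype_card] at hmod
  exact hmod

/-- In a finite Zassenhaus group any two points `a ≠ b` are swapped by an involution; every such involution has exactly one fixed point when the degree is odd and 0 or 2 fixed points when the degree is even; and if the two-point stabiliser has even order, some such involution has exactly 2 fixed points. -/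
theorem result {G Ω : Type*} [Group G] [Finite G] [MulAction G Ω] [Fintype Ω] (hZ : Cfsg.IsZassenhausGroup G Ω) {a b : Ω} (hab : a ≠ b) : (∃ s : G, orderOf s = 2 ∧ s • a = b ∧ s • b = a) ∧ (∀ s : G, orderOf s = 2 → s • a = b → s • b = a → (Odd (Fintype.card Ω) → Nat.card (MulAction.fixedBy Ω s) = 1) ∧ (Even (Fintype.card Ω) → Nat.card (MulAction.fixedBy Ω s) = 0 ∨ Nat.card (MulAction.fixedBy Ω s) = 2)) ∧ (Even (Fintype.card Ω) → Even (Nat.card ↥(MulAction.stabilizer G a ⊓ MulAction.stabilizer G b)) → ∃ s : G, orderOf s = 2 ∧ s • a = b ∧ s • b = a ∧ Nat.card (MulAction.fixedBy Ω s) = 2) := by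
  obtain ⟨hfaith, h2, h3, -, -⟩ := hZ
  have h2' := h2
  rw [is_two_pretransitive_iff] at h2'
  have : Fact (Nat.Prime 2) := ⟨Nat.prime_two⟩
  refine ⟨?_, ?_, ?_⟩
  · obtain ⟨g, hga, hgb⟩ := h2' hab (Ne.symm hab)
    have h2dvd : 2 ∣ Nat.card G := by
      have hodd : 2 ∣ orderOf g := by
        by_contra hnd
        have hodd : Odd (orderOf g) := Nat.odd_iff.mpr (by omega)
        obtain ⟨k, hk⟩ := hodd
        have hg2 : g ^ 2 ∈ stabilizer G b := by
          rw [mem_stabilizer_iff, sq, mul_smul, hgb, hga]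
        have hgk : (g ^ 2) ^ k ∈ stabilizer G b := Subgroup.pow_mem _ hg2 k
        have h1 : g ^ (orderOf g) • a = b := by
          rw [hk, pow_succ, mul_smul, hga, pow_mul]; exact hgk
        rw [pow_orderOf_eq_one, one_smul] at h1
        exact hab h1
      exact hodd.trans (orderOf_dvd_natCard g)
    obtain ⟨t, ht⟩ := exists_prime_orderOf_dvd_card' 2 h2dvd
    obtain ⟨h, h1, h2''⟩ := exists_conj_swap h2 ht hab
    exact ⟨h * t * h⁻¹, by rw [orderOf_conj_eq, ht], h1, h2''⟩
  · intro s hs hsa hsb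
    have hle := card_fixedBy_le_two h3 (ne_one_of_orderOf hs)
    have hmod := card_fixedBy_mod_two (Ω := Ω) hs
    constructor
    · intro hodd
      rw [Nat.odd_iff] at hodd
      omega
    · intro hev
      rw [Nat.even_iff] at hev
      omega
  · intro hev hHev
    obtain ⟨u, hu⟩ := exists_prime_orderOf_dvd_card' 2 (even_iff_two_dvd.mp hHev)
    have hu' : orderOf (u : G) = 2 := by rw [Subgroup.orderOf_coe, hu]
    have hua : (u : G) • a = a := (Subgroup.mem_inf.mp u.2).1
    have hub : (u : G) • b = b := (Subgroup.mem_inf.mp u.2).2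
    obtain ⟨h, h1, h2''⟩ := exists_conj_swap h2 hu' hab
    refine ⟨h * u * h⁻¹, by rw [orderOf_conj_eq, hu'], h1, h2'', ?_⟩
    have hle := card_fixedBy_le_two h3 (ne_one_of_orderOf hu')
    have hge : 2 ≤ Nat.card (fixedBy Ω (u : G)) := by
      rw [Nat.card_coe_set_eq]
      have hsub : ({a, b} : Set Ω) ⊆ fixedBy Ω (u : G) := by
        intro x hx
        rcases hx with rfl | rfl
        · exact hua
        · exact hub
      calc 2 = ({a, b} : Set Ω).ncard := (Set.ncard_pair hab).symm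
        _ ≤ _ := Set.ncard_le_ncard hsub
    rw [← smul_fixedBy, Nat.card_coe_set_eq, Set.ncard_smul_set, ← Nat.card_coe_set_eq]
    omega

end Cfsg.Agent.S0740
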