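import Mathlib
import Cfsg.Statements.S0742
import Cfsg.Agent.S0738
import Cfsg.Agent.S0741
import Cfsg.Agent.Lib.helper16.ZassAbKer
import Cfsg.Agent.Lib.helper16.ZassAbCase
-- import your own Cfsg.Agent.* helpers here

set_option autoImplicit false
open Cfsg

namespace Cfsg.Agent.S0742

/-- A finite Zassenhaus group of degree `n + 1` with two-point stabilisers of even order `d` satisfying `2d ≤ n - 1` has `n = p^f` for an odd prime `p` and is isomorphic to `PSL(2, p^f)`. -/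
theorem result {G Ω : Type*} [Group G] [Finite G] [MulAction G Ω] [Fintype Ω] (hZ : Cfsg.IsZassenhausGroup G Ω) {a b : Ω} (hab : a ≠ b) (heven : Even (Nat.card ↥(MulAction.stabilizer G a ⊓ MulAction.stabilizer G b))) (hd : 2 * Nat.card ↥(MulAction.stabilizer G a ⊓ MulAction.stabilizer G b) ≤ Fintype.card Ω - 2) : ∃ (p f : ℕ) (K : Type) (_ : Field K) (_ : Fintype K), p.Prime ∧ p ≠ 2 ∧ Fintype.card K = p ^ f ∧ Fintype.card Ω = p ^ f + 1 ∧ Nonempty (G ≃* Matrix.ProjectiveSpecialLinearGroup (Fin 2) K) := by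
  classical
  obtain ⟨H, hHa, hHcard, hHfix⟩ := Cfsg.Agent.Lib.helper16.ZassAb.exists_kernel hZ hab
  obtain ⟨hFn, hreg⟩ := Cfsg.Agent.Lib.helper16.ZassAb.kernel_reg hZ H hHa hHcard hHfix
  have h741 := Cfsg.Agent.S0741.result hZ hab heven
  obtain ⟨hcommF, -⟩ := Cfsg.Agent.S0738.result hZ hab h741 H hHa hFn hreg
  have hHcomm : ∀ u ∈ H, ∀ v ∈ H, u * v = v * u := fun u hu v hv =>
    congrArg Subtype.val (mul_comm' (⟨u, hu⟩ : H) ⟨v, hv⟩)
  have hN3 : 3 ≤ Fintype.card Ω := by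
    have h3 := Cfsg.Agent.Lib.helper19.zass_three_le_card hZ (Ω := Ω)
    rwa [Nat.card_eq_fintype_card] at h3
  have hd2 : 2 * Nat.card ↥(MulAction.stabilizer G a ⊓ MulAction.stabilizer G b) + 2
      = Fintype.card Ω := by omega
  obtain ⟨t, ht2, hta, htb, hinv⟩ :=
    Cfsg.Agent.Lib.helper16.ZassAb.swaps_even hZ hab heven hd2
  obtain ⟨K, fK, ftK, hchar, hcardK, hiso⟩ :=
    Cfsg.Agent.Lib.helper16.ZassAb.zass_ab_psl hZ hab H hHa hHcard hHfix hHcomm hd2 t ht2 hta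
      htb hinv
  haveI := ringChar.charP K
  obtain ⟨n, hp, hn⟩ := FiniteField.card K (ringChar K)
  exact ⟨ringChar K, n, K, fK, ftK, hp, hchar, hn, by rw [← hcardK, hn], hiso⟩

end Cfsg.Agent.S0742
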