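import Mathlib
import Cfsg.Statements.S0743

set_option autoImplicit false
open Cfsg

namespace Cfsg.Agent.S0743

lemma swap3 {α : Type*} [DecidableEq α] (x y b : α) (hxy : x ≠ y) (hxb : x ≠ b) (hyb : y ≠ b)
    (z : α) :
    Equiv.swap b y (Equiv.swap y x (Equiv.swap x b z)) = Equiv.swap x y z := by
  by_cases hzx : z = x
  · subst hzx
    rw [Equiv.swap_apply_left, Equiv.swap_apply_of_ne_of_ne (Ne.symm hyb) (Ne.symm hxb),
      Equiv.swap_apply_left, Equiv.swap_apply_left]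
  · by_cases hzy : z = y
    · subst hzy
      rw [Equiv.swap_apply_of_ne_of_ne hzx hyb, Equiv.swap_apply_left,
        Equiv.swap_apply_of_ne_of_ne hxb hxy, Equiv.swap_apply_right]
    · by_cases hzb : z = b
      · subst hzb
        rw [Equiv.swap_apply_right, Equiv.swap_apply_right, Equiv.swap_apply_right,
          Equiv.swap_apply_of_ne_of_ne hzx hzy]
      · rw [Equiv.swap_apply_of_ne_of_ne hzx hzb, Equiv.swap_apply_of_ne_of_ne hzy hzx,
          Equiv.swap_apply_of_ne_of_ne hzb hzy, Equiv.swap_apply_of_ne_of_ne hzx hzy]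

lemma step_swap {α : Type*} [Fintype α] [DecidableEq α] (G : Subgroup (Equiv.Perm α)) {j : ℕ}
    (H : ∀ Δ : Finset α, Δ.card = j → ∀ a b, a ∉ Δ → b ∉ Δ →
      ∃ g ∈ G, (∀ x ∈ Δ, g x = x) ∧ g a = b)
    (e : Fin (j + 1) ↪ α) (x y : α) (hx : x ∈ Finset.univ.map e) (hy : y ∉ Finset.univ.map e) :
    ∃ g ∈ G, ∀ i, g (e i) = Equiv.swap x y (e i) := by
  have hc : (Finset.univ.map e).card = j + 1 := by simp
  obtain ⟨g, hg, hfix, hgx⟩ := H ((Finset.univ.map e).erase x)
    (by rw [Finset.card_erase_of_mem hx, hc]; rfl) x y (Finset.notMem_erase _ _)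
    (fun h => hy (Finset.mem_of_mem_erase h))
  refine ⟨g, hg, fun i => ?_⟩
  by_cases hi : e i = x
  · rw [hi, hgx, Equiv.swap_apply_left]
  · have hiy : e i ≠ y := fun h => hy (h ▸ by simp)
    rw [Equiv.swap_apply_of_ne_of_ne hi hiy]
    exact hfix _ (Finset.mem_erase.mpr ⟨hi, by simp⟩)

lemma step_any_swap {α : Type*} [Fintype α] [DecidableEq α] (G : Subgroup (Equiv.Perm α)) {j : ℕ}
    (hn : j + 2 ≤ Fintype.card α)
    (H : ∀ Δ : Finset α, Δ.card = j → ∀ a b, a ∉ Δ → b ∉ Δ →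
      ∃ g ∈ G, (∀ x ∈ Δ, g x = x) ∧ g a = b)
    (e : Fin (j + 1) ↪ α) (x y : α) (hxy : x ≠ y) :
    ∃ g ∈ G, ∀ i, g (e i) = Equiv.swap x y (e i) := by
  by_cases hx : x ∈ Finset.univ.map e
  · by_cases hy : y ∈ Finset.univ.map e
    · have hc : (Finset.univ.map e).card = j + 1 := by simp
      obtain ⟨b, hb⟩ : ∃ b, b ∉ Finset.univ.map e := by
        by_contra hcon
        push Not at hcon
        have : Finset.univ.map e = Finset.univ := Finset.eq_univ_iff_forall.mpr hcon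
        rw [this, Finset.card_univ] at hc
        omega
      have hxb : x ≠ b := fun h => hb (h ▸ hx)
      have hyb : y ≠ b := fun h => hb (h ▸ hy)
      obtain ⟨g1, hg1, h1⟩ := step_swap G H e x b hx hb
      obtain ⟨ix, -, hix⟩ := Finset.mem_map.mp hx
      obtain ⟨iy, -, hiy⟩ := Finset.mem_map.mp hy
      have hbe : ∀ i, e i ≠ b := fun i h => hb (h ▸ by simp)
      let e' : Fin (j + 1) ↪ α := e.trans (Equiv.swap x b).toEmbedding
      have he' : ∀ i, e' i = Equiv.swap x b (e i) := fun i => rfl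
      have hy' : y ∈ Finset.univ.map e' := by
        refine Finset.mem_map.mpr ⟨iy, Finset.mem_univ _, ?_⟩
        rw [he', hiy, Equiv.swap_apply_of_ne_of_ne (Ne.symm hxy) hyb]
      have hx' : x ∉ Finset.univ.map e' := by
        intro h
        obtain ⟨i, -, hi⟩ := Finset.mem_map.mp h
        rw [he'] at hi
        have : e i = b := by
          have h3 := congrArg (Equiv.swap x b) hi
          rw [Equiv.swap_apply_self, Equiv.swap_apply_left] at h3
          exact h3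
        exact hbe i this
      obtain ⟨g2, hg2, h2⟩ := step_swap G H e' y x hy' hx'
      let e'' : Fin (j + 1) ↪ α := e'.trans (Equiv.swap y x).toEmbedding
      have he'' : ∀ i, e'' i = Equiv.swap y x (e' i) := fun i => rfl
      have hb'' : b ∈ Finset.univ.map e'' := by
        refine Finset.mem_map.mpr ⟨ix, Finset.mem_univ _, ?_⟩
        rw [he'', he', hix, Equiv.swap_apply_left,
          Equiv.swap_apply_of_ne_of_ne (Ne.symm hyb) (Ne.symm hxb)]
      have hy'' : y ∉ Finset.univ.map e'' := by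
        intro h
        obtain ⟨i, -, hi⟩ := Finset.mem_map.mp h
        rw [he''] at hi
        have h3 := congrArg (Equiv.swap y x) hi
        rw [Equiv.swap_apply_self, Equiv.swap_apply_left] at h3
        exact hx' (Finset.mem_map.mpr ⟨i, Finset.mem_univ _, h3⟩)
      obtain ⟨g3, hg3, h3⟩ := step_swap G H e'' b y hb'' hy''
      refine ⟨g3 * g2 * g1, G.mul_mem (G.mul_mem hg3 hg2) hg1, fun i => ?_⟩
      rw [Equiv.Perm.mul_apply, Equiv.Perm.mul_apply, h1 i]
      have h2' := h2 i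
      rw [he'] at h2'
      rw [h2']
      have h3' := h3 i
      rw [he'', he'] at h3'
      rw [h3']
      exact swap3 x y b hxy hxb hyb (e i)
    · exact step_swap G H e x y hx hy
  · by_cases hy : y ∈ Finset.univ.map e
    · rw [Equiv.swap_comm]; exact step_swap G H e y x hy hx
    · refine ⟨1, G.one_mem, fun i => ?_⟩
      have h1 : e i ≠ x := fun h => hx (h ▸ by simp)
      have h2 : e i ≠ y := fun h => hy (h ▸ by simp)
      rw [Equiv.swap_apply_of_ne_of_ne h1 h2]; rfl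

theorem trans_of_fixing {α : Type*} [Fintype α] [DecidableEq α] (G : Subgroup (Equiv.Perm α))
    {j : ℕ} (hn : j + 2 ≤ Fintype.card α)
    (H : ∀ Δ : Finset α, Δ.card = j → ∀ a b, a ∉ Δ → b ∉ Δ →
      ∃ g ∈ G, (∀ x ∈ Δ, g x = x) ∧ g a = b) :
    MulAction.IsMultiplyPretransitive G α (j + 1) := by
  have key : ∀ π : Equiv.Perm α, ∀ e : Fin (j + 1) ↪ α, ∃ g ∈ G, ∀ i, g (e i) = π (e i) := by
    intro π
    induction π using Equiv.Perm.swap_induction_on with
    | one => exact fun e => ⟨1, G.one_mem, fun i => rfl⟩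
    | swap_mul f x y hxy ih =>
      intro e
      obtain ⟨g2, hg2, h2⟩ := ih e
      obtain ⟨g1, hg1, h1⟩ := step_any_swap G hn H (e.trans f.toEmbedding) x y hxy
      exact ⟨g1 * g2, G.mul_mem hg1 hg2, fun i => by
        rw [Equiv.Perm.mul_apply, h2, Equiv.Perm.mul_apply]; exact h1 i⟩
  refine ⟨fun e1 e2 => ?_⟩
  obtain ⟨π, hπ⟩ := (Equiv.Perm.isMultiplyPretransitive α (j + 1)).exists_smul_eq e1 e2
  obtain ⟨g, hg, h⟩ := key π e1
  refine ⟨⟨g, hg⟩, ?_⟩
  ext i
  rw [← hπ]; exact h i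

lemma fixed_in_invariant {G α : Type*} [Group G] [MulAction G α] (p : ℕ) [Fact p.Prime]
    (Q : Subgroup G) (hQ : IsPGroup p Q) (O : Set α)
    (hO : ∀ q ∈ Q, ∀ x ∈ O, q • x ∈ O) (hcard : ¬ p ∣ Nat.card O) :
    ∃ δ ∈ O, ∀ q ∈ Q, q • δ = δ := by
  let S : SubMulAction Q α := ⟨O, fun q x hx => hO q q.2 x hx⟩
  have hc : ¬ p ∣ Nat.card S := hcard
  obtain ⟨⟨δ, hδ⟩, hfix⟩ := hQ.nonempty_fixed_point_of_prime_not_dvd_card S hc
  refine ⟨δ, hδ, fun q hq => ?_⟩
  have := hfix ⟨q, hq⟩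
  exact congrArg Subtype.val this

/-- Gleason's Lemma: let `p` be a prime and `1 ≤ k < n`; if every `k`-subset of the `n` points is exactly the fixed-point set of some `p`-subgroup of `G`, then `G` is `k`-transitive. -/
theorem result {α : Type*} [Fintype α] [DecidableEq α] (G : Subgroup (Equiv.Perm α)) {p k : ℕ} (hp : p.Prime) (hk : 1 ≤ k) (hkn : k < Fintype.card α) (h : ∀ s : Finset α, s.card = k → ∃ P : Subgroup G, IsPGroup p P ∧ MulAction.fixedPoints P α = (s : Set α)) : MulAction.IsMultiplyPretransitive G α k := by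
  obtain ⟨j, rfl⟩ : ∃ j, k = j + 1 := ⟨k - 1, by omega⟩
  haveI : Fact p.Prime := ⟨hp⟩
  apply trans_of_fixing G (by omega)
  intro Δ hΔ a b ha hb
  by_contra hcon
  set K := fixingSubgroup G (Δ : Set α) with hK
  have memK : ∀ g : G, g ∈ K ↔ ∀ y ∈ Δ, g • y = y := by
    intro g; rw [hK, mem_fixingSubgroup_iff]; simp
  have hbO : b ∉ MulAction.orbit K a := by
    intro hb'
    obtain ⟨g, hg⟩ := MulAction.mem_orbit_iff.mp hb'
    exact hcon ⟨((g : G) : Equiv.Perm α), (g : G).2, fun x hx => (memK g).mp g.2 x hx, hg⟩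
  set O := MulAction.orbit K a with hO
  have hOΔ : ∀ z ∈ O, z ∉ Δ := by
    intro z hz hzΔ
    obtain ⟨g, rfl⟩ := MulAction.mem_orbit_iff.mp hz
    have hzΔ : (g : G) • a ∈ Δ := hzΔ
    have h3 := (memK _).mp (K.inv_mem g.2) _ hzΔ
    have h4 : ((g : G))⁻¹ • ((g : G) • a) = a := inv_smul_smul _ _
    have h5 : ((g : G))⁻¹ • ((g : G) • a) = (g : G) • a := h3
    rw [h4] at h5
    exact ha (h5 ▸ hzΔ)
  have hOinv : ∀ q ∈ K, ∀ z ∈ O, q • z ∈ O := by
    intro q hq z hz
    obtain ⟨g, rfl⟩ := MulAction.mem_orbit_iff.mp hz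
    exact MulAction.mem_orbit_iff.mpr ⟨⟨q, hq⟩ * g, by rw [mul_smul]; rfl⟩
  obtain ⟨Pa, hPa, hfa⟩ := h (insert a Δ) (by rw [Finset.card_insert_of_notMem ha, hΔ])
  obtain ⟨Pb, hPb, hfb⟩ := h (insert b Δ) (by rw [Finset.card_insert_of_notMem hb, hΔ])
  have fixa : ∀ z, (∀ q ∈ Pa, q • z = z) ↔ z = a ∨ z ∈ Δ := by
    intro z
    have h3 : z ∈ MulAction.fixedPoints Pa α ↔ z ∈ ((insert a Δ : Finset α) : Set α) := by
      rw [hfa]
    rw [MulAction.mem_fixedPoints] at h3
    simp only [Finset.coe_insert, Set.mem_insert_iff, Finset.mem_coe] at h3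
    rw [← h3]
    constructor
    · intro h q; exact h q q.2
    · intro h q hq; exact h ⟨q, hq⟩
  have fixb : ∀ z, (∀ q ∈ Pb, q • z = z) ↔ z = b ∨ z ∈ Δ := by
    intro z
    have h3 : z ∈ MulAction.fixedPoints Pb α ↔ z ∈ ((insert b Δ : Finset α) : Set α) := by
      rw [hfb]
    rw [MulAction.mem_fixedPoints] at h3
    simp only [Finset.coe_insert, Set.mem_insert_iff, Finset.mem_coe] at h3
    rw [← h3]
    constructor
    · intro h q; exact h q q.2
    · intro h q hq; exact h ⟨q, hq⟩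
  have hPaK : Pa ≤ K := fun q hq =>
    (memK q).mpr (fun y hy => ((fixa y).mpr (Or.inr hy)) q hq)
  have hPbK : Pb ≤ K := fun q hq =>
    (memK q).mpr (fun y hy => ((fixb y).mpr (Or.inr hy)) q hq)
  have h1 : p ∣ Nat.card O := by
    by_contra hnd
    obtain ⟨δ, hδ, hδfix⟩ := fixed_in_invariant p Pb hPb O (fun q hq => hOinv q (hPbK hq)) hnd
    rcases (fixb δ).mp hδfix with h3 | h3
    · exact hbO (h3 ▸ hδ)
    · exact hOΔ δ hδ h3
  have hinv : ∀ q ∈ Pa, ∀ z ∈ O \ {a}, q • z ∈ O \ {a} := by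
    intro q hq z hz
    refine ⟨hOinv q (hPaK hq) z hz.1, fun h3 => hz.2 ?_⟩
    have h4 : q • a = a := (fixa a).mpr (Or.inl rfl) q hq
    have h5 : q • z = q • a := by rw [h4]; exact h3
    exact MulAction.injective q h5
  have h2 : p ∣ Nat.card ↥(O \ {a}) := by
    by_contra hnd
    obtain ⟨δ, hδ, hδfix⟩ := fixed_in_invariant p Pa hPa (O \ {a}) hinv hnd
    rcases (fixa δ).mp hδfix with h3 | h3
    · exact hδ.2 h3
    · exact hOΔ δ hδ.1 h3
  have h3 : Nat.card ↥(O \ {a}) + 1 = Nat.card O := by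
    rw [Nat.card_coe_set_eq, Nat.card_coe_set_eq]
    exact Set.ncard_sdiff_singleton_add_one (MulAction.mem_orbit_self a) (Set.toFinite _)
  have h4 : p ∣ 1 := by
    rw [← h3] at h1
    exact (Nat.dvd_add_right h2).mp h1
  exact hp.one_lt.ne' (Nat.dvd_one.mp h4)

end Cfsg.Agent.S0743
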