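import Mathlib
import Cfsg.Statements.S0744
import Cfsg.Agent.S0743

set_option autoImplicit false
open Cfsg

namespace Cfsg.Agent.S0744

lemma orbit_count {G' α : Type*} [Group G'] [MulAction G' α] [Finite G'] [Finite α]
    (Q : Subgroup G') (O : Set α) (hO : ∀ q ∈ Q, ∀ x ∈ O, q • x ∈ O) (l m : ℕ)
    (hQ : Nat.card Q = l) (h : ∀ x ∈ O, Nat.card ↥(Q ⊓ MulAction.stabilizer G' x) = m) :
    l ∣ m * Nat.card O := by
  classical
  let S : SubMulAction Q α := ⟨O, fun q x hx => hO q q.2 x hx⟩
  have hst : ∀ y : S, Nat.card (MulAction.stabilizer Q y) = m := by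
    intro y
    have e : MulAction.stabilizer Q y = (Q ⊓ MulAction.stabilizer G' (y : α)).subgroupOf Q := by
      ext q
      rw [MulAction.mem_stabilizer_iff, Subgroup.mem_subgroupOf, Subgroup.mem_inf,
        MulAction.mem_stabilizer_iff]
      constructor
      · intro h; exact ⟨q.2, congrArg Subtype.val h⟩
      · intro h; exact Subtype.ext h.2
    rw [e, Nat.card_congr (Subgroup.subgroupOfEquivOfLe inf_le_left).toEquiv]
    exact h y y.2
  have horb : ∀ y : S, m * Nat.card (MulAction.orbit Q y) = l := by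
    intro y
    rw [Nat.card_coe_set_eq, ← MulAction.index_stabilizer, ← hst y, Subgroup.card_mul_index, hQ]
  haveI : Fintype (MulAction.orbitRel.Quotient Q S) := Fintype.ofFinite _
  have hS : Nat.card S = ∑ ω : MulAction.orbitRel.Quotient Q S, Nat.card ω.orbit := by
    rw [Nat.card_congr (MulAction.selfEquivSigmaOrbits' Q S), Nat.card_sigma]
  have hS' : Nat.card O = Nat.card S := rfl
  rw [hS', hS, Finset.mul_sum]
  apply Finset.dvd_sum
  intro ω _
  induction ω using Quotient.inductionOn' with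
  | h y =>
    rw [MulAction.orbitRel.Quotient.orbit_mk, horb y]

/-- If for some `k > 1` the pointwise stabilisers of all `(k-1)`-subsets have the same order `> 1` and those of all `k`-subsets have the same order, then the group is `(k-1)`-transitive. -/
theorem result {α : Type*} [Fintype α] [DecidableEq α] (G : Subgroup (Equiv.Perm α)) {k : ℕ} (hk : 1 < k) (hkn : k ≤ Fintype.card α) (l m : ℕ) (hl : 1 < l) (hkm1 : ∀ s : Finset α, s.card = k - 1 → Nat.card (fixingSubgroup G (s : Set α)) = l) (hkm : ∀ s : Finset α, s.card = k → Nat.card (fixingSubgroup G (s : Set α)) = m) : MulAction.IsMultiplyPretransitive G α (k - 1) := by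
  obtain ⟨j, rfl⟩ : ∃ j, k = j + 2 := ⟨k - 2, by omega⟩
  show MulAction.IsMultiplyPretransitive G α (j + 1)
  apply Cfsg.Agent.S0743.trans_of_fixing G hkn
  intro Δ hΔ a b ha hb
  by_contra hcon
  set K := fixingSubgroup G (Δ : Set α) with hK
  have memK : ∀ g : G, g ∈ K ↔ ∀ y ∈ Δ, g • y = y := by
    intro g; rw [hK, mem_fixingSubgroup_iff]; simp
  have hbO : b ∉ MulAction.orbit K a := by
    intro hb'
    obtain ⟨g, hg⟩ := MulAction.mem_orbit_iff.mp hb'
    exact hcon ⟨((g : G) : Equiv.Perm α), (g : G).2, fun x hx => (memK g).mp g.2 x hx, hg⟩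
  set O := MulAction.orbit K a with hO
  have hOΔ : ∀ z ∈ O, z ∉ Δ := by
    intro z hz hzΔ
    obtain ⟨g, rfl⟩ := MulAction.mem_orbit_iff.mp hz
    have hzΔ : (g : G) • a ∈ Δ := hzΔ
    have h3 := (memK _).mp (K.inv_mem g.2) _ hzΔ
    have h4 : ((g : G))⁻¹ • ((g : G) • a) = a := inv_smul_smul _ _
    have h5 : ((g : G))⁻¹ • ((g : G) • a) = (g : G) • a := h3
    rw [h4] at h5
    exact ha (h5 ▸ hzΔ)
  have hOinv : ∀ q ∈ K, ∀ z ∈ O, q • z ∈ O := by
    intro q hq z hz
    obtain ⟨g, rfl⟩ := MulAction.mem_orbit_iff.mp hz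
    exact MulAction.mem_orbit_iff.mpr ⟨⟨q, hq⟩ * g, by rw [mul_smul]; rfl⟩
  have memfix : ∀ (c : α) (s : Finset α) (g : G),
      g ∈ fixingSubgroup G ((insert c s : Finset α) : Set α) ↔ g • c = c ∧ ∀ y ∈ s, g • y = y := by
    intro c s g
    rw [mem_fixingSubgroup_iff]
    simp
  set Qa := fixingSubgroup G ((insert a Δ : Finset α) : Set α) with hQa
  set Qb := fixingSubgroup G ((insert b Δ : Finset α) : Set α) with hQb
  have hQacard : Nat.card Qa = l := hkm1 _ (by rw [Finset.card_insert_of_notMem ha, hΔ]; rfl)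
  have hQbcard : Nat.card Qb = l := hkm1 _ (by rw [Finset.card_insert_of_notMem hb, hΔ]; rfl)
  have hQaK : Qa ≤ K := fun g hg => (memK g).mpr ((memfix a Δ g).mp hg).2
  have hQbK : Qb ≤ K := fun g hg => (memK g).mpr ((memfix b Δ g).mp hg).2
  have hst : ∀ (c : α) (hc : c ∉ Δ) (x : α), x ∉ Δ → x ≠ c →
      Nat.card ↥(fixingSubgroup G ((insert c Δ : Finset α) : Set α) ⊓ MulAction.stabilizer G x)
        = m := by
    intro c hc x hx hxc
    have e : fixingSubgroup G ((insert c Δ : Finset α) : Set α) ⊓ MulAction.stabilizer G x =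
        fixingSubgroup G ((insert x (insert c Δ) : Finset α) : Set α) := by
      ext g
      rw [Subgroup.mem_inf, memfix, memfix, MulAction.mem_stabilizer_iff]
      constructor
      · intro h; exact ⟨h.2, fun y hy => by
          rcases Finset.mem_insert.mp hy with rfl | hy
          · exact h.1.1
          · exact h.1.2 y hy⟩
      · intro h
        exact ⟨⟨h.2 c (Finset.mem_insert_self _ _),
          fun y hy => h.2 y (Finset.mem_insert_of_mem hy)⟩, h.1⟩
    rw [e]
    apply hkm
    rw [Finset.card_insert_of_notMem, Finset.card_insert_of_notMem hc, hΔ]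
    intro h
    rcases Finset.mem_insert.mp h with h | h
    · exact hxc h
    · exact hx h
  have d1 : l ∣ m * Nat.card O :=
    orbit_count Qb O (fun q hq => hOinv q (hQbK hq)) l m hQbcard
      (fun x hx => hst b hb x (hOΔ x hx) (fun h => hbO (h ▸ hx)))
  have hinv : ∀ q ∈ Qa, ∀ z ∈ O \ {a}, q • z ∈ O \ {a} := by
    intro q hq z hz
    refine ⟨hOinv q (hQaK hq) z hz.1, fun h3 => hz.2 ?_⟩
    have h4 : q • a = a := ((memfix a Δ q).mp hq).1
    have h5 : q • z = q • a := by rw [h4]; exact h3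
    exact MulAction.injective q h5
  have d2 : l ∣ m * Nat.card ↥(O \ {a}) :=
    orbit_count Qa (O \ {a}) hinv l m hQacard
      (fun x hx => hst a ha x (hOΔ x hx.1) (fun h => hx.2 h))
  have h3 : Nat.card ↥(O \ {a}) + 1 = Nat.card O := by
    rw [Nat.card_coe_set_eq, Nat.card_coe_set_eq]
    exact Set.ncard_sdiff_singleton_add_one (MulAction.mem_orbit_self a) (Set.toFinite _)
  have d3 : l ∣ m := by
    rw [← h3, mul_add, mul_one] at d1
    exact (Nat.dvd_add_right d2).mp d1
  -- a nontrivial element of Qa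
  have hne : Qa ≠ ⊥ := (Subgroup.one_lt_card_iff_ne_bot _).mp (hQacard ▸ hl)
  obtain ⟨⟨g, hgQ⟩, hg1⟩ := (Subgroup.ne_bot_iff_exists_ne_one.mp hne)
  have hg1' : g ≠ 1 := fun h => hg1 (Subtype.ext h)
  obtain ⟨x, hx⟩ : ∃ x, g • x ≠ x := by
    by_contra hall
    push Not at hall
    apply hg1'
    apply Subtype.ext
    ext y
    exact hall y
  have hgQa := (memfix a Δ g).mp hgQ
  have hxa : x ≠ a := fun h => hx (h ▸ hgQa.1)
  have hxΔ : x ∉ Δ := fun h => hx (hgQa.2 x h)
  set R := fixingSubgroup G ((insert x (insert a Δ) : Finset α) : Set α) with hR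
  have hRcard : Nat.card R = m := by
    apply hkm
    rw [Finset.card_insert_of_notMem, Finset.card_insert_of_notMem ha, hΔ]
    intro h
    rcases Finset.mem_insert.mp h with h | h
    · exact hxa h
    · exact hxΔ h
  have hRQ : R ≤ Qa := by
    intro r hr
    rw [hR, memfix] at hr
    exact hr.2 |> fun h => (mem_fixingSubgroup_iff G).mpr (fun y hy => h y hy)
  have hmpos : 0 < m := hRcard ▸ Nat.card_pos
  have hlm : l ≤ m := Nat.le_of_dvd hmpos d3
  have hRQeq : R = Qa := Subgroup.eq_of_le_of_card_ge hRQ (by rw [hRcard, hQacard]; exact hlm)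
  have hgR : g ∈ R := hRQeq ▸ hgQ
  rw [hR, memfix] at hgR
  exact hx hgR.1

end Cfsg.Agent.S0744
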