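import Mathlib
import Cfsg.Statements.S0749

set_option autoImplicit false
open Cfsg

namespace Cfsg.Agent.S0749

open Module

variable {F V : Type*} [Field F] [AddCommGroup V] [Module F V] [FiniteDimensional F V]

lemma exists_repr (B : LinearMap.BilinForm F V) (hB : B.Nondegenerate) (hA : B.IsAlt)
    (μ : Module.Dual F V) : ∃ w : V, ∀ y : V, B y w = μ y := by
  refine ⟨-(B.toDual hB).symm μ, fun y => ?_⟩
  rw [map_neg, hA.neg_eq, LinearMap.BilinForm.apply_toDual_symm_apply]

theorem aux (B : LinearMap.BilinForm F V) (hB : B.Nondegenerate) (hA : B.IsAlt) :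
    ∀ (n : ℕ) (X : Submodule F V) (f : V →ₗ[F] V), finrank F X + n = finrank F V →
      (∀ x ∈ X, ∀ x' ∈ X, B (f x) (f x') = B x x') → (∀ x ∈ X, f x = 0 → x = 0) →
      ∃ g : V ≃ₗ[F] V, (∀ u v, B (g u) (g v) = B u v) ∧ ∀ x ∈ X, g x = f x := by
  intro n
  induction n with
  | zero =>
    intro X f hdim hiso hinj
    have hX : X = ⊤ := Submodule.eq_top_of_finrank_eq (by simpa using hdim)
    subst hX
    have hker : LinearMap.ker f = ⊥ :=
      LinearMap.ker_eq_bot'.mpr (fun x hx => hinj x trivial hx)
    refine ⟨LinearEquiv.ofInjectiveEndo f (LinearMap.ker_eq_bot.mp hker), ?_, ?_⟩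
    · intro u v; simpa using hiso u trivial v trivial
    · intro x _; simp
  | succ n ih =>
    intro X f hdim hiso hinj
    have hXne : X ≠ ⊤ := by
      rintro rfl
      simp at hdim
    obtain ⟨v, hv⟩ : ∃ v, v ∉ X := by
      by_contra hcon; push Not at hcon; exact hXne (eq_top_iff.mpr fun x _ => hcon x)
    obtain ⟨v', w, hv', hw1, hw2⟩ : ∃ v' w : V, v' ∉ X ∧ (∀ x ∈ X, B (f x) w = B x v') ∧
        (∀ x ∈ X, f x ≠ w) := by
      have hinjX : LinearMap.ker (f.domRestrict X) = ⊥ := by
        rw [LinearMap.ker_eq_bot']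
        intro x hx
        exact Subtype.ext (hinj x x.2 hx)
      obtain ⟨h, hh⟩ := LinearMap.exists_leftInverse_of_injective (f.domRestrict X) hinjX
      have hh' : ∀ x (hx : x ∈ X), (h (f x) : V) = x := by
        intro x hx
        have := LinearMap.congr_fun hh ⟨x, hx⟩
        simpa using congrArg Subtype.val this
      let μ : Module.Dual F V := (B.flip v).comp (X.subtype.comp h)
      obtain ⟨w0, hw0⟩ := exists_repr B hB hA μ
      have hw0' : ∀ x ∈ X, B (f x) w0 = B x v := by
        intro x hx
        rw [hw0]; simp [μ, hh' x hx]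
      by_cases hcase : ∀ x ∈ X, f x ≠ w0
      · exact ⟨v, w0, hv, hw0', hcase⟩
      · push Not at hcase
        obtain ⟨x0, hx0, hfx0⟩ := hcase
        have hv' : v - x0 ∉ X := fun hmem => hv (by simpa using X.add_mem hmem hx0)
        have horth : ∀ x ∈ X, B x (v - x0) = 0 := by
          intro x hx
          rw [map_sub, ← hw0' x hx, ← hfx0, hiso x hx x0 hx0, sub_self]
        have hex : ∃ w ∈ B.orthogonal (X.map f), w ∉ X.map f := by
          by_contra hcon
          push Not at hcon
          have hle : B.orthogonal (X.map f) ≤ (X ⊓ B.orthogonal X).map f := by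
            intro w hw
            obtain ⟨x, hx, rfl⟩ := hcon w hw
            refine ⟨x, ⟨hx, ?_⟩, rfl⟩
            intro x' hx'
            show B x' x = 0
            rw [← hiso x' hx' x hx]
            exact hw (f x') ⟨x', hx', rfl⟩
          have h1 : finrank F (B.orthogonal (X.map f)) = finrank F V - finrank F (X.map f) :=
            LinearMap.BilinForm.finrank_orthogonal hB _
          have h2 : finrank F (B.orthogonal X) = finrank F V - finrank F X :=
            LinearMap.BilinForm.finrank_orthogonal hB _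
          have h3 : finrank F (X.map f) = finrank F X := by
            rw [← LinearMap.range_domRestrict]
            exact LinearMap.finrank_range_of_inj (LinearMap.ker_eq_bot.mp hinjX)
          have h4 : finrank F ((X ⊓ B.orthogonal X).map f) ≤
              finrank F (X ⊓ B.orthogonal X : Submodule F V) := Submodule.finrank_map_le f _
          have h5 := Submodule.finrank_mono hle
          have h6 : finrank F (B.orthogonal X) ≤
              finrank F (X ⊓ B.orthogonal X : Submodule F V) := by omega
          have h7 : X ⊓ B.orthogonal X = B.orthogonal X :=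
            Submodule.eq_of_le_of_finrank_le inf_le_right h6
          have h8 : v - x0 ∈ X ⊓ B.orthogonal X := by
            rw [h7]; exact horth
          exact hv' h8.1
        obtain ⟨w, hw, hwn⟩ := hex
        refine ⟨v - x0, w, hv', ?_, ?_⟩
        · intro x hx
          rw [horth x hx]
          exact hw (f x) ⟨x, hx, rfl⟩
        · intro x hx hfx
          exact hwn ⟨x, hx, hfx⟩
    obtain ⟨ℓ0, hℓ0, hℓX⟩ := X.exists_dual_map_eq_bot_of_notMem hv' inferInstance
    set ℓ : Module.Dual F V := (ℓ0 v')⁻¹ • ℓ0 with hℓ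
    have hℓv : ℓ v' = 1 := by simp [hℓ, hℓ0]
    have hℓx : ∀ x ∈ X, ℓ x = 0 := by
      intro x hx
      have : ℓ0 x ∈ X.map ℓ0 := ⟨x, hx, rfl⟩
      rw [hℓX] at this
      simp [hℓ, (Submodule.mem_bot F).mp this]
    let f' : V →ₗ[F] V := f + ℓ.smulRight (w - f v')
    have hf'x : ∀ x ∈ X, f' x = f x := by intro x hx; simp [f', hℓx x hx]
    have hf'v : f' v' = w := by simp [f', hℓv]
    have hdim' : finrank F (X ⊔ Submodule.span F {v'} : Submodule F V) + n = finrank F V := by
      rw [Submodule.finrank_sup_span_singleton hv']; omega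
    have key : ∀ u ∈ X ⊔ Submodule.span F {v'}, ∃ x ∈ X, ∃ a : F, u = x + a • v' ∧
        f' u = f x + a • w := by
      intro u hu
      obtain ⟨x, hx, z, hz, rfl⟩ := Submodule.mem_sup.mp hu
      obtain ⟨a, rfl⟩ := Submodule.mem_span_singleton.mp hz
      exact ⟨x, hx, a, rfl, by rw [map_add, map_smul, hf'x x hx, hf'v]⟩
    have hiso' : ∀ u ∈ X ⊔ Submodule.span F {v'}, ∀ u' ∈ X ⊔ Submodule.span F {v'},
        B (f' u) (f' u') = B u u' := by
      intro u hu u' hu'
      obtain ⟨x, hx, a, rfl, h1⟩ := key u hu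
      obtain ⟨x', hx', b, rfl, h2⟩ := key u' hu'
      rw [h1, h2]
      have e1 : B w (f x') = B v' x' := by rw [← hA.neg_eq, hw1 x' hx', hA.neg_eq]
      simp only [map_add, map_smul, LinearMap.add_apply, LinearMap.smul_apply, smul_eq_mul]
      rw [hiso x hx x' hx', hw1 x hx, hA w, hA v', e1]
    have hinj' : ∀ u ∈ X ⊔ Submodule.span F {v'}, f' u = 0 → u = 0 := by
      intro u hu h0
      obtain ⟨x, hx, a, rfl, h1⟩ := key u hu
      rw [h1] at h0
      by_cases ha : a = 0
      · subst ha
        simp only [zero_smul, add_zero] at h0 ⊢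
        exact hinj x hx h0
      · exfalso
        apply hw2 (-(a⁻¹ • x)) (X.neg_mem (X.smul_mem _ hx))
        have h3 : a⁻¹ • f x + w = 0 := by
          have := congrArg (fun t => a⁻¹ • t) h0
          simpa [smul_add, smul_smul, inv_mul_cancel₀ ha] using this
        rw [map_neg, map_smul]
        exact (eq_neg_of_add_eq_zero_right h3).symm ▸ rfl
    obtain ⟨g, hg1, hg2⟩ := ih (X ⊔ Submodule.span F {v'}) f' hdim' hiso' hinj'
    exact ⟨g, hg1, fun x hx => by rw [hg2 x (Submodule.mem_sup_left hx), hf'x x hx]⟩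

/-- Witt's Lemma for alternating forms. If B is a non-degenerate alternating bilinear form on a finite-dimensional vector space V (over any field) and φ is a linear equivalence between subspaces X and Y of V preserving B, then φ extends to a B-preserving linear automorphism of V. -/
theorem result {F V : Type*} [Field F] [AddCommGroup V] [Module F V] [FiniteDimensional F V] (B : LinearMap.BilinForm F V) (hB : B.Nondegenerate) (hA : B.IsAlt) (X Y : Submodule F V) (φ : X ≃ₗ[F] Y) (hφ : ∀ x x' : X, B (φ x : V) (φ x' : V) = B (x : V) (x' : V)) : ∃ g : V ≃ₗ[F] V, (∀ u v : V, B (g u) (g v) = B u v) ∧ ∀ x : X, g (x : V) = (φ x : V) := by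
  obtain ⟨π, hπ⟩ := LinearMap.exists_leftInverse_of_injective X.subtype X.ker_subtype
  have hπ' : ∀ x : X, π (x : V) = x := fun x => LinearMap.congr_fun hπ x
  let f : V →ₗ[F] V := Y.subtype.comp (φ.toLinearMap.comp π)
  have hf : ∀ x : X, f (x : V) = (φ x : V) := by
    intro x
    simp [f, hπ' x]
  have hn : finrank F X + (finrank F V - finrank F X) = finrank F V := by
    have := Submodule.finrank_le X
    omega
  have hiso : ∀ x ∈ X, ∀ x' ∈ X, B (f x) (f x') = B x x' := by
    intro x hx x' hx'
    have e1 := hf ⟨x, hx⟩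
    have e2 := hf ⟨x', hx'⟩
    simp only at e1 e2
    rw [e1, e2]
    exact hφ ⟨x, hx⟩ ⟨x', hx'⟩
  have hinj : ∀ x ∈ X, f x = 0 → x = 0 := by
    intro x hx h0
    have e1 := hf ⟨x, hx⟩
    simp only at e1
    rw [e1] at h0
    have : φ ⟨x, hx⟩ = 0 := Subtype.ext h0
    have h2 : (⟨x, hx⟩ : X) = 0 := by simpa using this
    exact congrArg Subtype.val h2
  obtain ⟨g, hg1, hg2⟩ := aux B hB hA (finrank F V - finrank F X) X f hn hiso hinj
  exact ⟨g, hg1, fun x => by rw [hg2 x x.2, hf x]⟩

end Cfsg.Agent.S0749
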