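import Cfsg.Statements.S0751
import Cfsg.Agent.Lib.helper17.WittHerm

set_option autoImplicit false
open Cfsg

namespace Cfsg.Agent.S0751

/-- Witt's Lemma for Hermitian forms. Let σ be a non-identity involutive automorphism of a finite field F and B a non-degenerate σ-sesquilinear form on a finite-dimensional F-space V which is conjugate-symmetric (σ (B x y) = B y x). Then every linear equivalence between subspaces X, Y of V preserving B extends to a B-preserving linear automorphism of V. -/
theorem result {F V : Type*} [Field F] [Finite F] [AddCommGroup V] [Module F V] [FiniteDimensional F V] (σ : F →+* F) (hσ : σ ≠ RingHom.id F) (hσ2 : ∀ a : F, σ (σ a) = a) (B : V →ₛₗ[σ] V →ₗ[F] F) (hS : B.IsSymm) (hB : B.Nondegenerate) (X Y : Submodule F V) (φ : X ≃ₗ[F] Y) (hφ : ∀ x x' : X, B (φ x : V) (φ x' : V) = B (x : V) (x' : V)) : ∃ g : V ≃ₗ[F] V, (∀ u v : V, B (g u) (g v) = B u v) ∧ ∀ x : X, g (x : V) = (φ x : V) := by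
  open Cfsg.Agent.Lib.helper17 in
  classical
  have hx : LinearIndependent F (fun i => ((Module.finBasis F X) i : V)) :=
    (Module.finBasis F X).linearIndependent.map' X.subtype (Submodule.ker_subtype X)
  have hy : LinearIndependent F (fun i => (φ ((Module.finBasis F X) i) : V)) :=
    ((Module.finBasis F X).linearIndependent.map' φ.toLinearMap φ.ker).map' Y.subtype
      (Submodule.ker_subtype Y)
  have hle : Module.finrank F X ≤ Module.finrank F V := Submodule.finrank_le X
  obtain ⟨g, hg1, hg2⟩ := witt_family σ hσ hσ2 B hS hB (Module.finrank F V - Module.finrank F X)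
    (Module.finrank F X) (by omega) _ _ hx hy
    (fun i j => (hφ ((Module.finBasis F X) i) ((Module.finBasis F X) j)).symm)
  refine ⟨g, hg1, ?_⟩
  have : g.toLinearMap.comp X.subtype = Y.subtype.comp φ.toLinearMap :=
    (Module.finBasis F X).ext (fun i => hg2 i)
  intro x
  exact LinearMap.congr_fun this x

end Cfsg.Agent.S0751
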