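import Cfsg.Statements.S0752
-- import your own Cfsg.Agent.* helpers here

set_option autoImplicit false
open Cfsg

namespace Cfsg.Agent.S0752

/-- A partial symplectic family. -/
def IsSympFamily {F V : Type*} [Field F] [AddCommGroup V] [Module F V] (B : LinearMap.BilinForm F V)
    (m : ℕ) (e f : Fin m → V) : Prop :=
  (∀ i j, B (e i) (f j) = if i = j then 1 else 0) ∧ (∀ i j, B (e i) (e j) = 0) ∧
    (∀ i j, B (f i) (f j) = 0)

theorem sympFamily_le_finrank {F V : Type*} [Field F] [AddCommGroup V] [Module F V]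
    [FiniteDimensional F V] (B : LinearMap.BilinForm F V) (m : ℕ) (e f : Fin m → V)
    (h : IsSympFamily B m e f) : m ≤ Module.finrank F V := by
  classical
  have hli : LinearIndependent F e := by
    rw [Fintype.linearIndependent_iff]
    intro g hg l
    have h1 := congrArg (fun x => B x (f l)) hg
    simp only [map_sum, map_smul, LinearMap.sum_apply, LinearMap.smul_apply, smul_eq_mul, h.1,
      mul_ite, mul_one, mul_zero, Finset.sum_ite_eq', Finset.mem_univ, if_true, map_zero,
      LinearMap.zero_apply] at h1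
    exact h1
  simpa using hli.fintype_card_le_finrank

theorem sympFamily_extend {F V : Type*} [Field F] [AddCommGroup V] [Module F V]
    (B : LinearMap.BilinForm F V) (hA : B.IsAlt) (m : ℕ) (e f : Fin m → V)
    (h : IsSympFamily B m e f) (w₁ w₂ : V) (h₁ : ∀ i, B (e i) w₁ = 0 ∧ B (f i) w₁ = 0)
    (h₂ : ∀ i, B (e i) w₂ = 0 ∧ B (f i) w₂ = 0) (h12 : B w₁ w₂ ≠ 0) :
    ∃ e' f' : Fin (m + 1) → V, IsSympFamily B (m + 1) e' f' := by
  have hsw : ∀ x y, B y x = - B x y := fun x y => (hA.neg_eq x y).symm
  refine ⟨Fin.cons w₁ e, Fin.cons ((B w₁ w₂)⁻¹ • w₂) f, ?_, ?_, ?_⟩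
  · intro i j
    refine Fin.cases ?_ (fun i' => ?_) i <;> refine Fin.cases ?_ (fun j' => ?_) j
    · simp [h12]
    · simp only [Fin.cons_zero, Fin.cons_succ]
      rw [if_neg (Fin.succ_ne_zero j').symm, hsw, (h₁ j').2, neg_zero]
    · simp only [Fin.cons_zero, Fin.cons_succ]
      rw [if_neg (Fin.succ_ne_zero i'), map_smul, (h₂ i').1, smul_zero]
    · simp only [Fin.cons_succ, h.1, Fin.succ_inj]
  · intro i j
    refine Fin.cases ?_ (fun i' => ?_) i <;> refine Fin.cases ?_ (fun j' => ?_) j
    · simp only [Fin.cons_zero]; exact hA.self_eq_zero _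
    · simp only [Fin.cons_zero, Fin.cons_succ]
      rw [hsw, (h₁ j').1, neg_zero]
    · simp only [Fin.cons_zero, Fin.cons_succ]
      exact (h₁ i').1
    · simp only [Fin.cons_succ, h.2.1]
  · intro i j
    refine Fin.cases ?_ (fun i' => ?_) i <;> refine Fin.cases ?_ (fun j' => ?_) j
    · simp only [Fin.cons_zero]; exact hA.self_eq_zero _
    · simp only [Fin.cons_zero, Fin.cons_succ]
      rw [hsw, map_smul, (h₂ j').2, smul_zero, neg_zero]
    · simp only [Fin.cons_zero, Fin.cons_succ]
      rw [map_smul, (h₂ i').2, smul_zero]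
    · simp only [Fin.cons_succ, h.2.2]

/-- Classification of alternating forms: for an alternating bilinear form B on a finite-dimensional space over any field there is a basis indexed by (Fin m ⊕ Fin m) ⊕ Fin k such that B (e_i, f_j) = δ_ij, the e's are pairwise orthogonal, the f's are pairwise orthogonal, and the last k basis vectors are orthogonal to everything (they span the radical). -/
theorem result {F V : Type*} [Field F] [AddCommGroup V] [Module F V] [FiniteDimensional F V] (B : LinearMap.BilinForm F V) (hA : B.IsAlt) : ∃ (m k : ℕ) (b : Module.Basis ((Fin m ⊕ Fin m) ⊕ Fin k) F V), (∀ i j : Fin m, B (b (Sum.inl (Sum.inl i))) (b (Sum.inl (Sum.inr j))) = if i = j then 1 else 0) ∧ (∀ i j : Fin m, B (b (Sum.inl (Sum.inl i))) (b (Sum.inl (Sum.inl j))) = 0) ∧ (∀ i j : Fin m, B (b (Sum.inl (Sum.inr i))) (b (Sum.inl (Sum.inr j))) = 0) ∧ (∀ (j : Fin k) (v : V), B (b (Sum.inr j)) v = 0) := by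
  classical
  have hsw : ∀ x y, B y x = - B x y := fun x y => (hA.neg_eq x y).symm
  -- a maximal symplectic family
  let P : ℕ → Prop := fun m => ∃ e f : Fin m → V, IsSympFamily B m e f
  have hP0 : P 0 :=
    ⟨fun i => i.elim0, fun i => i.elim0, fun i => i.elim0, fun i => i.elim0, fun i => i.elim0⟩
  have hPle : ∀ m, P m → m ≤ Module.finrank F V :=
    fun m ⟨e, f, h⟩ => sympFamily_le_finrank B m e f h
  obtain ⟨m, hPm, hmax⟩ : ∃ m, P m ∧ ¬ P (m + 1) := by
    refine ⟨Nat.findGreatest P (Module.finrank F V), Nat.findGreatest_spec (Nat.zero_le _) hP0, ?_⟩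
    intro h
    exact Nat.findGreatest_is_greatest (Nat.lt_succ_self _) (hPle _ h) h
  obtain ⟨e, f, hef⟩ := hPm
  have hW : ∀ w₁ w₂ : V, (∀ i, B (e i) w₁ = 0 ∧ B (f i) w₁ = 0) →
      (∀ i, B (e i) w₂ = 0 ∧ B (f i) w₂ = 0) → B w₁ w₂ = 0 := by
    intro w₁ w₂ h₁ h₂
    by_contra h12
    exact hmax (sympFamily_extend B hA m e f hef w₁ w₂ h₁ h₂ h12)
  let Φ : V →ₗ[F] (Fin m ⊕ Fin m → F) := LinearMap.pi (fun s => B (Sum.elim e f s))
  have hΦ : ∀ w, w ∈ LinearMap.ker Φ ↔ ∀ i, B (e i) w = 0 ∧ B (f i) w = 0 := by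
    intro w
    rw [LinearMap.mem_ker]
    constructor
    · intro h i
      exact ⟨congrFun h (Sum.inl i), congrFun h (Sum.inr i)⟩
    · intro h
      funext s
      rcases s with i | i
      · exact (h i).1
      · exact (h i).2
  -- the projection to the complement
  have hπ : ∀ x, x - ∑ i, (B x (f i) • e i - B x (e i) • f i) ∈ LinearMap.ker Φ := by
    intro x
    rw [hΦ]
    intro l
    have hfe : ∀ i, B (f l) (e i) = - (if i = l then 1 else 0) := by
      intro i
      rw [hsw (e i) (f l), hef.1]
    constructor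
    · simp only [map_sub, map_sum, map_smul, smul_eq_mul, hef.1, hef.2.1, mul_zero, mul_ite, mul_one,
        zero_sub, Finset.sum_neg_distrib, Finset.sum_ite_eq, Finset.mem_univ, if_true, sub_neg_eq_add]
      rw [hsw (e l) x]
      ring
    · simp only [map_sub, map_sum, map_smul, smul_eq_mul, hfe, hef.2.2, mul_zero, mul_neg, mul_ite,
        mul_one, sub_zero, Finset.sum_neg_distrib, Finset.sum_ite_eq', Finset.mem_univ, if_true,
        sub_neg_eq_add]
      rw [hsw (f l) x]
      ring
  have hrad : ∀ w ∈ LinearMap.ker Φ, ∀ x, B w x = 0 := by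
    intro w hw x
    have hw' := (hΦ w).mp hw
    have hx : x = (x - ∑ i, (B x (f i) • e i - B x (e i) • f i)) +
        ∑ i, (B x (f i) • e i - B x (e i) • f i) := by abel
    have h1 : B w (x - ∑ i, (B x (f i) • e i - B x (e i) • f i)) = 0 :=
      hW w _ hw' ((hΦ _).mp (hπ x))
    have h2 : ∀ i, B w (e i) = 0 := fun i => by rw [hsw (e i) w, (hw' i).1, neg_zero]
    have h3 : ∀ i, B w (f i) = 0 := fun i => by rw [hsw (f i) w, (hw' i).2, neg_zero]
    have h4 : B w (∑ i, (B x (f i) • e i - B x (e i) • f i)) = 0 := by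
      simp only [map_sum, map_sub, map_smul, h2, h3, smul_zero, sub_zero, Finset.sum_const_zero]
    calc B w x = B w ((x - ∑ i, (B x (f i) • e i - B x (e i) • f i)) +
        ∑ i, (B x (f i) • e i - B x (e i) • f i)) := by rw [← hx]
      _ = 0 := by rw [map_add, h1, h4, add_zero]
  -- a basis of the complement
  let r : Module.Basis (Fin (Module.finrank F (LinearMap.ker Φ))) F (LinearMap.ker Φ) :=
    Module.finBasis F (LinearMap.ker Φ)
  let v : (Fin m ⊕ Fin m) ⊕ Fin (Module.finrank F (LinearMap.ker Φ)) → V :=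
    Sum.elim (Sum.elim e f) (fun j => (r j : V))
  have hli : LinearIndependent F v := by
    rw [Fintype.linearIndependent_iff]
    intro g hg
    rw [Fintype.sum_sum_type, Fintype.sum_sum_type] at hg
    simp only [v, Sum.elim_inl, Sum.elim_inr] at hg
    have hrf : ∀ j l, B (r j : V) (f l) = 0 := fun j l => hrad _ (r j).2 _
    have hre : ∀ j l, B (r j : V) (e l) = 0 := fun j l => hrad _ (r j).2 _
    have hge : ∀ l, g (Sum.inl (Sum.inl l)) = 0 := by
      intro l
      have h1 := congrArg (fun x => B x (f l)) hg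
      simp only [map_add, map_sum, map_smul, LinearMap.add_apply, LinearMap.sum_apply,
        LinearMap.smul_apply, smul_eq_mul, hef.1, hef.2.2, hrf, mul_ite, mul_one, mul_zero,
        Finset.sum_ite_eq', Finset.mem_univ, if_true, Finset.sum_const_zero, add_zero, map_zero,
        LinearMap.zero_apply] at h1
      exact h1
    have hgf : ∀ l, g (Sum.inl (Sum.inr l)) = 0 := by
      intro l
      have hfe : ∀ i, B (f i) (e l) = - (if l = i then 1 else 0) := by
        intro i
        rw [hsw (e l) (f i), hef.1]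
      have h1 := congrArg (fun x => B x (e l)) hg
      simp only [map_add, map_sum, map_smul, LinearMap.add_apply, LinearMap.sum_apply,
        LinearMap.smul_apply, smul_eq_mul, hfe, hef.2.1, hre, mul_neg, mul_ite, mul_one, mul_zero,
        Finset.sum_neg_distrib, Finset.sum_ite_eq, Finset.mem_univ, if_true, Finset.sum_const_zero,
        add_zero, zero_add, map_zero, LinearMap.zero_apply] at h1
      exact neg_eq_zero.mp h1
    have hgr : ∀ j, g (Sum.inr j) = 0 := by
      simp only [hge, hgf, zero_smul, Finset.sum_const_zero, zero_add] at hg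
      have h1 : ∑ j, g (Sum.inr j) • r j = 0 := by
        apply Subtype.ext
        rw [Submodule.coe_sum]
        simpa using hg
      exact Fintype.linearIndependent_iff.mp r.linearIndependent (fun j => g (Sum.inr j)) h1
    intro s
    rcases s with (i | i) | j
    · exact hge i
    · exact hgf i
    · exact hgr j
  have hsp : ⊤ ≤ Submodule.span F (Set.range v) := by
    intro x _
    have hx : x = (x - ∑ i, (B x (f i) • e i - B x (e i) • f i)) +
        ∑ i, (B x (f i) • e i - B x (e i) • f i) := by abel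
    rw [hx]
    apply Submodule.add_mem
    · have h1 := r.sum_repr ⟨_, hπ x⟩
      have h2 := congrArg Subtype.val h1
      rw [Submodule.coe_sum] at h2
      simp only [Submodule.coe_smul] at h2
      rw [← h2]
      apply Submodule.sum_mem
      intro j _
      exact Submodule.smul_mem _ _ (Submodule.subset_span ⟨Sum.inr j, rfl⟩)
    · apply Submodule.sum_mem
      intro i _
      apply Submodule.sub_mem
      · exact Submodule.smul_mem _ _ (Submodule.subset_span ⟨Sum.inl (Sum.inl i), rfl⟩)
      · exact Submodule.smul_mem _ _ (Submodule.subset_span ⟨Sum.inl (Sum.inr i), rfl⟩)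
  refine ⟨m, Module.finrank F (LinearMap.ker Φ), Module.Basis.mk hli hsp, ?_, ?_, ?_, ?_⟩
  · intro i j
    rw [Module.Basis.mk_apply, Module.Basis.mk_apply]
    exact hef.1 i j
  · intro i j
    rw [Module.Basis.mk_apply, Module.Basis.mk_apply]
    exact hef.2.1 i j
  · intro i j
    rw [Module.Basis.mk_apply, Module.Basis.mk_apply]
    exact hef.2.2 i j
  · intro j x
    rw [Module.Basis.mk_apply]
    exact hrad _ (r j).2 x

end Cfsg.Agent.S0752
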