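import Cfsg.Statements.S0754
-- import your own Cfsg.Agent.* helpers here

set_option autoImplicit false
open Cfsg

namespace Cfsg.Agent.S0754

/-- In a field F with q^2 elements, every non-zero μ with μ^q = μ (that is, μ in the subfield of order q) has exactly q + 1 solutions λ of λ^(q+1) = μ. -/
theorem result {F : Type*} [Field F] [Fintype F] {q : ℕ} (hF : Fintype.card F = q ^ 2) (μ : F) (hμ : μ ≠ 0) (hμq : μ ^ q = μ) : Nat.card {x : F // x ^ (q + 1) = μ} = q + 1 := by
  classical
  have hq2 : 2 ≤ q := by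
    have h1 : 1 < Fintype.card F := Fintype.one_lt_card
    rw [hF] at h1
    by_contra h
    push Not at h
    interval_cases q <;> simp at h1
  have hpc : ∀ x : F, x ^ (q ^ 2) = x := fun x => hF ▸ FiniteField.pow_card x
  let S : Finset F := Finset.univ.filter (fun ν : F => ν ≠ 0 ∧ ν ^ q = ν)
  let fib : F → Finset F := fun ν => Finset.univ.filter (fun x : F => x ^ (q + 1) = ν)
  have hfib : ∀ ν : F, (fib ν).card ≤ q + 1 := by
    intro ν
    have hsub : fib ν ⊆ (Polynomial.nthRoots (q + 1) ν).toFinset := by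
      intro x hx
      simp only [fib, Finset.mem_filter, Finset.mem_univ, true_and] at hx
      simp [Polynomial.mem_nthRoots (Nat.succ_pos q), hx]
    calc (fib ν).card ≤ (Polynomial.nthRoots (q + 1) ν).toFinset.card := Finset.card_le_card hsub
      _ ≤ Multiset.card (Polynomial.nthRoots (q + 1) ν) := Multiset.toFinset_card_le _
      _ ≤ q + 1 := Polynomial.card_nthRoots _ _
  have hScard : S.card ≤ q - 1 := by
    have hsub : S ⊆ (Polynomial.nthRoots (q - 1) (1 : F)).toFinset := by
      intro x hx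
      simp only [S, Finset.mem_filter, Finset.mem_univ, true_and] at hx
      have h1 : x ^ (q - 1) = 1 := by
        have h2 : x ^ (q - 1) * x = 1 * x := by
          rw [← pow_succ, Nat.sub_add_cancel (by omega), one_mul]; exact hx.2
        exact mul_right_cancel₀ hx.1 h2
      simp [Polynomial.mem_nthRoots (show 0 < q - 1 by omega), h1]
    calc S.card ≤ (Polynomial.nthRoots (q - 1) (1 : F)).toFinset.card := Finset.card_le_card hsub
      _ ≤ Multiset.card (Polynomial.nthRoots (q - 1) (1 : F)) := Multiset.toFinset_card_le _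
      _ ≤ q - 1 := Polynomial.card_nthRoots _ _
  have hunion : (Finset.univ.filter (fun x : F => x ≠ 0)) = S.biUnion fib := by
    ext x
    simp only [Finset.mem_filter, Finset.mem_univ, true_and, Finset.mem_biUnion, S, fib]
    constructor
    · intro hx
      refine ⟨x ^ (q + 1), ⟨pow_ne_zero _ hx, ?_⟩, rfl⟩
      rw [← pow_mul, show (q + 1) * q = q ^ 2 + q by ring, pow_add, hpc, pow_succ, mul_comm]
    · rintro ⟨ν, ⟨hν0, -⟩, hxν⟩ hx0
      apply hν0
      rw [← hxν, hx0, zero_pow (Nat.succ_ne_zero q)]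
  have hdisj : ∀ a ∈ S, ∀ b ∈ S, a ≠ b → Disjoint (fib a) (fib b) := by
    intro a _ b _ hab
    rw [Finset.disjoint_left]
    intro x hxa hxb
    simp only [fib, Finset.mem_filter, Finset.mem_univ, true_and] at hxa hxb
    exact hab (hxa.symm.trans hxb)
  have hcard0 : (Finset.univ.filter (fun x : F => x ≠ 0)).card = q ^ 2 - 1 := by
    rw [Finset.filter_ne' , Finset.card_erase_of_mem (Finset.mem_univ _), Finset.card_univ, hF]
  have hsum : ∑ ν ∈ S, (fib ν).card = q ^ 2 - 1 := by
    rw [← hcard0, hunion, Finset.card_biUnion hdisj]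
  have hμS : μ ∈ S := by simp [S, hμ, hμq]
  have hmain : (fib μ).card = q + 1 := by
    by_contra hne
    have hlt : (fib μ).card < q + 1 := lt_of_le_of_ne (hfib μ) hne
    have h1 : ∑ ν ∈ S, (fib ν).card < ∑ ν ∈ S, (q + 1) :=
      Finset.sum_lt_sum (fun ν _ => hfib ν) ⟨μ, hμS, hlt⟩
    rw [hsum, Finset.sum_const, smul_eq_mul] at h1
    have h2 : S.card * (q + 1) ≤ (q - 1) * (q + 1) := Nat.mul_le_mul_right _ hScard
    have h3 : (q - 1) * (q + 1) = q ^ 2 - 1 := by
      obtain ⟨r, rfl⟩ : ∃ r, q = r + 1 := ⟨q - 1, by omega⟩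
      simp only [Nat.add_sub_cancel]
      have : (r + 1) ^ 2 = r * (r + 1 + 1) + 1 := by ring
      rw [this, Nat.add_sub_cancel]
    omega
  rw [Nat.card_eq_fintype_card, Fintype.card_subtype]
  exact hmain

end Cfsg.Agent.S0754
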