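import Cfsg.Statements.S0757
-- import your own Cfsg.Agent.* helpers here

set_option autoImplicit false
open Cfsg

namespace Cfsg.Agent.S0757

theorem toMatrix'_wss {F : Type*} [Field F] [Invertible (2:F)] {ι : Type*} [Fintype ι] [DecidableEq ι] (w : ι → F) :
    QuadraticForm.toMatrix' (QuadraticMap.weightedSumSquares F w) = Matrix.diagonal w := by
  ext i j
  rw [QuadraticForm.toMatrix', LinearMap.toMatrix₂'_apply, QuadraticMap.associated_apply]
  simp only [QuadraticMap.weightedSumSquares_apply, Matrix.diagonal_apply, Pi.add_apply, smul_eq_mul]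
  have h1 : ∀ k : ι, w k * ((Pi.single i (1:F) : ι → F) k * (Pi.single i (1:F) : ι → F) k) = if k = i then w k else 0 := by
    intro k; by_cases h : k = i <;> simp [h]
  have h2 : ∀ k : ι, w k * ((Pi.single j (1:F) : ι → F) k * (Pi.single j (1:F) : ι → F) k) = if k = j then w k else 0 := by
    intro k; by_cases h : k = j <;> simp [h]
  have h3 : ∀ k : ι, w k * (((Pi.single i (1:F) : ι → F) k + (Pi.single j (1:F) : ι → F) k) * ((Pi.single i (1:F) : ι → F) k + (Pi.single j (1:F) : ι → F) k)) = (if k = i then w k else 0) + (if k = j then w k else 0) + 2 * (if k = i then (if i = j then w k else 0) else 0) := by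
    intro k
    by_cases h : k = i <;> by_cases h' : k = j <;> simp [h, h']
    · subst h; subst h'; simp; ring
    · subst h; simp [h']
    · subst h'; simp [h]
  simp only [h1, h2, h3, Finset.sum_add_distrib, ← Finset.mul_sum, Finset.sum_ite_eq', Finset.mem_univ, if_true]
  have h20 : (2:F) ≠ 0 := Invertible.ne_zero 2
  by_cases hij : i = j
  · subst hij; simp; field_simp; ring
  · simp [hij]

/-- The two diagonal forms Σ x_i^2 and Σ_(i<n) x_i^2 + α x_n^2 on F^(n+1), with α a non-square and 2 ≠ 0 in F, are inequivalent quadratic forms (so over a finite field of odd order there are exactly two classes of non-singular symmetric bilinear forms in each dimension). -/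
theorem result {F : Type*} [Field F] (h2 : (2 : F) ≠ 0) (n : ℕ) (α : F) (hα : ¬ IsSquare α) : ¬ (QuadraticMap.weightedSumSquares F (fun _ : Fin (n + 1) => (1 : F))).Equivalent (QuadraticMap.weightedSumSquares F (fun i : Fin (n + 1) => if i = Fin.last n then α else (1 : F))) := by
  rintro ⟨e⟩
  haveI : Invertible (2:F) := invertibleOfNonzero h2
  have hcomp : QuadraticMap.weightedSumSquares F (fun _ : Fin (n + 1) => (1 : F)) =
      (QuadraticMap.weightedSumSquares F (fun i : Fin (n + 1) => if i = Fin.last n then α else (1 : F))).comp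
        (e.toLinearEquiv : (Fin (n+1) → F) →ₗ[F] (Fin (n+1) → F)) := by
    ext x
    simp only [QuadraticMap.comp_apply]
    exact (e.map_app x).symm
  have hd := congrArg QuadraticForm.discr' hcomp
  rw [QuadraticForm.discr'_comp, QuadraticForm.discr', QuadraticForm.discr', toMatrix'_wss, toMatrix'_wss,
    Matrix.det_diagonal, Matrix.det_diagonal] at hd
  simp only [Finset.prod_const_one, Finset.prod_ite_eq', Finset.mem_univ, if_true] at hd
  apply hα
  set d := (LinearMap.toMatrix' (e.toLinearEquiv : (Fin (n+1) → F) →ₗ[F] (Fin (n+1) → F))).det with hd_def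
  have hd0 : d ≠ 0 := by
    rintro h0
    rw [h0] at hd
    simp at hd
  refine ⟨d⁻¹, ?_⟩
  field_simp
  linear_combination -hd

end Cfsg.Agent.S0757
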