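import Cfsg.Statements.S0758
-- import your own Cfsg.Agent.* helpers here

set_option autoImplicit false
open Cfsg

namespace Cfsg.Agent.S0758

/-- For a finite field F of odd order q and a non-square α: the form x² + y² is isotropic iff q ≡ 1 mod 4, and the form x² + α y² is isotropic iff q ≡ 3 mod 4. -/
theorem result {F : Type*} [Field F] [Fintype F] (h2 : (2 : F) ≠ 0) (α : F) (hα : ¬ IsSquare α) : ((∃ x y : F, (x ≠ 0 ∨ y ≠ 0) ∧ x ^ 2 + y ^ 2 = 0) ↔ Fintype.card F % 4 = 1) ∧ ((∃ x y : F, (x ≠ 0 ∨ y ≠ 0) ∧ x ^ 2 + α * y ^ 2 = 0) ↔ Fintype.card F % 4 = 3) := by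
  classical
  have hF2 : ringChar F ≠ 2 := by
    intro h
    haveI : CharP F 2 := ringChar.of_eq h
    exact h2 (CharP.cast_eq_zero F 2)
  have hodd := FiniteField.odd_card_of_char_ne_two hF2
  have hm1 := FiniteField.isSquare_neg_one_iff (F := F)
  have hα0 : α ≠ 0 := by
    rintro rfl
    exact hα ⟨0, by simp⟩
  have h1ne : (1 : F) ≠ -1 := by
    intro h
    apply h2
    linear_combination h
  have hnegα : IsSquare (-α) ↔ ¬ IsSquare (-1 : F) := by
    rw [FiniteField.isSquare_iff hF2 (neg_ne_zero.mpr hα0), FiniteField.isSquare_iff hF2 (neg_ne_zero.mpr one_ne_zero)]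
    have hαN : α ^ (Fintype.card F / 2) = -1 := by
      rcases FiniteField.pow_dichotomy hF2 hα0 with h | h
      · exact absurd ((FiniteField.isSquare_iff hF2 hα0).mpr h) hα
      · exact h
    have : (-α) ^ (Fintype.card F / 2) = (-1) ^ (Fintype.card F / 2) * α ^ (Fintype.card F / 2) := by
      rw [← mul_pow]; simp
    rw [this, hαN]
    rcases FiniteField.pow_dichotomy hF2 (neg_ne_zero.mpr (one_ne_zero (α := F))) with h | h
    · rw [h]; simp [h1ne, h1ne.symm]
    · rw [h]; simp [h1ne, h1ne.symm]
  constructor
  · constructor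
    · rintro ⟨x, y, hxy, h⟩
      have hsq : IsSquare (-1 : F) := by
        rcases hxy with hx | hy
        · refine ⟨y / x, ?_⟩
          field_simp
          linear_combination -h
        · refine ⟨x / y, ?_⟩
          field_simp
          linear_combination -h
      have := hm1.mp hsq
      omega
    · intro h
      have hsq : IsSquare (-1 : F) := hm1.mpr (by omega)
      obtain ⟨r, hr⟩ := hsq
      refine ⟨r, 1, Or.inr one_ne_zero, ?_⟩
      linear_combination -hr
  · constructor
    · rintro ⟨x, y, hxy, h⟩
      have hy : y ≠ 0 := by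
        rintro rfl
        simp at h
        simp [h] at hxy
      have hsq : IsSquare (-α) := by
        refine ⟨x / y, ?_⟩
        field_simp
        linear_combination -h
      have := hnegα.mp hsq
      rw [hm1] at this
      omega
    · intro h
      have hsq : IsSquare (-α) := hnegα.mpr (by rw [hm1]; omega)
      obtain ⟨r, hr⟩ := hsq
      refine ⟨r, 1, Or.inr one_ne_zero, ?_⟩
      linear_combination -hr

end Cfsg.Agent.S0758
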