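import Cfsg.Statements.S0759
import Cfsg.Agent.Lib.helper17.SumSq2

set_option autoImplicit false
open Cfsg

namespace Cfsg.Agent.S0759

/-- Type of the orthonormal form: over a finite field of odd order q and for m ≥ 1, the quadratic form Σ_(i<2m) x_i² on F^(2m) admits an m-dimensional subspace on which it vanishes identically if and only if it is not the case that q ≡ 3 (mod 4) and m is odd. -/
theorem result {F : Type*} [Field F] [Fintype F] (h2 : (2 : F) ≠ 0) (m : ℕ) (hm : 1 ≤ m) : (∃ W : Submodule F (Fin (2 * m) → F), Module.finrank F W = m ∧ ∀ w ∈ W, ∑ i, w i ^ 2 = 0) ↔ ¬ (Fintype.card F % 4 = 3 ∧ Odd m) := by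
  open Cfsg.Agent.Lib.helper17 in
  have hF2 := ringChar_ne_two_of_two_ne_zero h2
  have hm1 := FiniteField.isSquare_neg_one_iff (F := F)
  constructor
  · rintro ⟨W, hWm, hW⟩ ⟨h3, hmodd⟩
    have hsq := isSquare_neg_one_pow_of_isotropic h2 m W hWm hW
    rw [Odd.neg_one_pow hmodd] at hsq
    exact (hm1.mp hsq) h3
  · intro h
    by_cases h3 : Fintype.card F % 4 = 3
    · have hme : Even m := by
        rw [← Nat.not_odd_iff_even]
        intro ho
        exact h ⟨h3, ho⟩
      obtain ⟨x, y, hxy⟩ := exists_sq_add_sq_eq_one h2 (-1) (-1) (by simp) (by simp)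
      exact exists_isotropic_of_even m hme x y (by linear_combination -hxy)
    · exact exists_isotropic_of_isSquare_neg_one m (hm1.mpr h3)

end Cfsg.Agent.S0759
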