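import Cfsg.Statements.S0760
-- import your own Cfsg.Agent.* helpers here

set_option autoImplicit false
open Cfsg

namespace Cfsg.Agent.S0760

theorem polar_eq_zero_of_mem {F V : Type*} [Field F] [AddCommGroup V] [Module F V]
    (Q : QuadraticForm F V) (U : Submodule F V) (hU : ∀ w ∈ U, Q w = 0) {x y : V} (hx : x ∈ U)
    (hy : y ∈ U) : QuadraticMap.polar Q x y = 0 := by
  unfold QuadraticMap.polar
  rw [hU _ (U.add_mem hx hy), hU x hx, hU y hy]; simp

theorem finrank_le_of_maximal {F V : Type*} [Field F] [AddCommGroup V] [Module F V]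
    [FiniteDimensional F V] (Q : QuadraticForm F V) (hQ : (QuadraticMap.polarBilin Q).Nondegenerate)
    (U W : Submodule F V) (hU : ∀ w ∈ U, Q w = 0) (hW : ∀ w ∈ W, Q w = 0)
    (hmax : ∀ W' : Submodule F V, U ≤ W' → (∀ w ∈ W', Q w = 0) → W' = U) :
    Module.finrank F W ≤ Module.finrank F U := by
  have h1 : W ⊓ LinearMap.BilinForm.orthogonal (QuadraticMap.polarBilin Q) U ≤ U ⊓ W := by
    intro w hw
    obtain ⟨hwW, hwU⟩ := Submodule.mem_inf.mp hw
    rw [LinearMap.BilinForm.mem_orthogonal_iff] at hwU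
    refine Submodule.mem_inf.mpr ⟨?_, hwW⟩
    have hW' : U ⊔ Submodule.span F {w} = U := by
      apply hmax _ le_sup_left
      intro y hy
      obtain ⟨u, hu, z, hz, rfl⟩ := Submodule.mem_sup.mp hy
      obtain ⟨c, rfl⟩ := Submodule.mem_span_singleton.mp hz
      rw [QuadraticMap.map_add ⇑Q, QuadraticMap.map_smul, hU u hu, hW w hwW, QuadraticMap.polar_smul_right]
      have : QuadraticMap.polar Q u w = 0 := hwU u hu
      rw [this]; simp
    rw [← hW']
    exact Submodule.mem_sup_right (Submodule.mem_span_singleton_self w)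
  have h2 : W ⊔ LinearMap.BilinForm.orthogonal (QuadraticMap.polarBilin Q) U ≤
      LinearMap.BilinForm.orthogonal (QuadraticMap.polarBilin Q) (U ⊓ W) := by
    apply sup_le
    · intro w hw
      rw [LinearMap.BilinForm.mem_orthogonal_iff]
      intro x hx
      exact polar_eq_zero_of_mem Q W hW (Submodule.mem_inf.mp hx).2 hw
    · exact LinearMap.BilinForm.orthogonal_le inf_le_left
  have e1 := Submodule.finrank_sup_add_finrank_inf_eq W
    (LinearMap.BilinForm.orthogonal (QuadraticMap.polarBilin Q) U)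
  have e2 := LinearMap.BilinForm.finrank_orthogonal hQ U
  have e3 := LinearMap.BilinForm.finrank_orthogonal hQ (U ⊓ W)
  have e4 := Submodule.finrank_mono h1
  have e5 := Submodule.finrank_mono h2
  have e6 := Submodule.finrank_le U
  have e7 := Submodule.finrank_le (U ⊓ W)
  omega

/-- Witt index is well defined: if Q is a quadratic form on a finite-dimensional space V over a finite field with non-degenerate polar form, and W₁, W₂ are subspaces on which Q vanishes that are maximal with this property, then W₁ and W₂ have the same dimension, and twice this dimension is at most dim V. -/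
theorem result {F V : Type*} [Field F] [Finite F] [AddCommGroup V] [Module F V] [FiniteDimensional F V] (Q : QuadraticForm F V) (hQ : (QuadraticMap.polarBilin Q).Nondegenerate) (W₁ W₂ : Submodule F V) (h₁ : ∀ w ∈ W₁, Q w = 0) (h₂ : ∀ w ∈ W₂, Q w = 0) (hmax₁ : ∀ W : Submodule F V, W₁ ≤ W → (∀ w ∈ W, Q w = 0) → W = W₁) (hmax₂ : ∀ W : Submodule F V, W₂ ≤ W → (∀ w ∈ W, Q w = 0) → W = W₂) : Module.finrank F W₁ = Module.finrank F W₂ ∧ 2 * Module.finrank F W₁ ≤ Module.finrank F V := by
  have hle1 := finrank_le_of_maximal Q hQ W₁ W₂ h₁ h₂ hmax₁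
  have hle2 := finrank_le_of_maximal Q hQ W₂ W₁ h₂ h₁ hmax₂
  refine ⟨le_antisymm hle2 hle1, ?_⟩
  have h3 : W₁ ≤ LinearMap.BilinForm.orthogonal (QuadraticMap.polarBilin Q) W₁ := by
    intro w hw
    rw [LinearMap.BilinForm.mem_orthogonal_iff]
    intro x hx
    exact polar_eq_zero_of_mem Q W₁ h₁ hx hw
  have e1 := Submodule.finrank_mono h3
  have e2 := LinearMap.BilinForm.finrank_orthogonal hQ W₁
  have e3 := Submodule.finrank_le W₁
  omega

end Cfsg.Agent.S0760
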