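import Cfsg.Statements.S0761
-- import your own Cfsg.Agent.* helpers here

set_option autoImplicit false
open Cfsg

namespace Cfsg.Agent.S0761

/-- Hyperbolic partners: let B be a non-degenerate bilinear form on a finite-dimensional space, either alternating, or symmetric with 2 ≠ 0. If Z is a subspace on which B vanishes, x ∉ Z is isotropic and orthogonal to Z, then there is an isotropic y with B x y = 1 which is orthogonal to Z. -/
theorem result {F V : Type*} [Field F] [AddCommGroup V] [Module F V] [FiniteDimensional F V] (B : LinearMap.BilinForm F V) (hB : B.Nondegenerate) (hform : B.IsAlt ∨ (B.IsSymm ∧ (2 : F) ≠ 0)) (x : V) (Z : Submodule F V) (hxZ : x ∉ Z) (hx : B x x = 0) (hxz : ∀ z ∈ Z, B x z = 0) (hZ : ∀ z ∈ Z, ∀ z' ∈ Z, B z z' = 0) : ∃ y : V, B y y = 0 ∧ B x y = 1 ∧ ∀ z ∈ Z, B z y = 0 := by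
  obtain ⟨f, hfx, hZf⟩ := Submodule.exists_le_ker_of_notMem hxZ
  -- normalise: φ x = 1
  set φ : V →ₗ[F] F := (f x)⁻¹ • f with hφ
  have hφx : φ x = 1 := by
    simp [hφ, inv_mul_cancel₀ hfx]
  have hφZ : ∀ z ∈ Z, φ z = 0 := by
    intro z hz
    have : f z = 0 := hZf hz
    simp [hφ, this]
  set y₀ : V := (B.toDual hB).symm φ with hy₀
  have hy₀B : ∀ n : V, B y₀ n = φ n := by
    intro n
    rw [← LinearMap.BilinForm.toDual_def hB, hy₀, LinearEquiv.apply_symm_apply]
  rcases hform with hA | ⟨hS, h2⟩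
  · refine ⟨-y₀, hA.self_eq_zero _, ?_, ?_⟩
    · rw [map_neg, ← hA.neg_eq, neg_neg, hy₀B, hφx]
    · intro z hz
      rw [map_neg, ← hA.neg_eq, neg_neg, hy₀B, hφZ z hz]
  · have hxy₀ : B x y₀ = 1 := by rw [hS.eq, hy₀B, hφx]
    have hy₀x : B y₀ x = 1 := by rw [hy₀B, hφx]
    refine ⟨y₀ - (B y₀ y₀ / 2) • x, ?_, ?_, ?_⟩
    · simp only [map_sub, map_smul, LinearMap.sub_apply, LinearMap.smul_apply, smul_eq_mul, hx, hxy₀, hy₀x]
      field_simp
      ring
    · simp only [map_sub, map_smul, smul_eq_mul, hx, hxy₀]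
      ring
    · intro z hz
      have h1 : B z y₀ = 0 := by rw [hS.eq, hy₀B, hφZ z hz]
      have h2' : B z x = 0 := by rw [hS.eq, hxz z hz]
      simp only [map_sub, map_smul, smul_eq_mul, h1, h2']
      ring

end Cfsg.Agent.S0761
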