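import Cfsg.Statements.S0762
-- import your own Cfsg.Agent.* helpers here

set_option autoImplicit false
open Cfsg

namespace Cfsg.Agent.S0762

/-- In characteristic two over a finite field, a quadratic form on a space of dimension at least 3 vanishes on some non-zero vector. -/
theorem result {F V : Type*} [Field F] [Finite F] [CharP F 2] [AddCommGroup V] [Module F V] [FiniteDimensional F V] (Q : QuadraticForm F V) (h3 : 3 ≤ Module.finrank F V) : ∃ v : V, v ≠ 0 ∧ Q v = 0 := by
  classical
  have hpos : 0 < Module.finrank F V := by omega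
  have : Nontrivial V := Module.nontrivial_of_finrank_pos (R := F) hpos
  obtain ⟨u, hu⟩ := exists_ne (0 : V)
  by_cases hQu : Q u = 0
  · exact ⟨u, hu, hQu⟩
  let φ : V →ₗ[F] F := QuadraticMap.polarBilin Q u
  have hker : 2 ≤ Module.finrank F (LinearMap.ker φ) := by
    have h1 := LinearMap.finrank_range_add_finrank_ker φ
    have h2 : Module.finrank F (LinearMap.range φ) ≤ 1 := by
      have := Submodule.finrank_le (LinearMap.range φ)
      simpa using this
    omega
  have hnot : ¬ LinearMap.ker φ ≤ Submodule.span F {u} := by
    intro hle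
    have h1 := Submodule.finrank_mono hle
    have h2 : Module.finrank F (Submodule.span F {u}) ≤ 1 := by
      rw [finrank_span_singleton hu]
    omega
  obtain ⟨z, hzK, hzu⟩ := SetLike.not_le_iff_exists.mp hnot
  have hz : QuadraticMap.polar ⇑Q u z = 0 := by
    simpa [φ] using hzK
  obtain ⟨a, ha⟩ := isSquare_of_charTwo' (Q z / Q u)
  refine ⟨a • u + z, ?_, ?_⟩
  · intro h0
    apply hzu
    have : z = (-a) • u := by rw [neg_smul]; exact (eq_neg_of_add_eq_zero_right h0)
    rw [this]
    exact Submodule.smul_mem _ _ (Submodule.mem_span_singleton_self u)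
  · rw [QuadraticMap.map_add ⇑Q, QuadraticMap.map_smul, QuadraticMap.polar_smul_left, hz, smul_eq_mul,
      smul_eq_mul, mul_zero, add_zero, ← ha]
    field_simp
    rw [CharTwo.add_self_eq_zero (1 : F), mul_zero]

end Cfsg.Agent.S0762
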