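import Cfsg.Statements.S0763
-- import your own Cfsg.Agent.* helpers here

set_option autoImplicit false
open Cfsg

namespace Cfsg.Agent.S0763

theorem linIndep_of_polar_eq_one {F V : Type*} [Field F] [CharP F 2] [AddCommGroup V] [Module F V]
    (Q : QuadraticForm F V) (v w : V) (h : QuadraticMap.polar Q v w = 1) :
    LinearIndependent F ![v, w] := by
  rw [LinearIndependent.pair_iff]
  intro s t hst
  have hvv : QuadraticMap.polar Q v v = 0 := by
    rw [QuadraticMap.polar_self, two_smul]; exact CharTwo.add_self_eq_zero _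
  have hww : QuadraticMap.polar Q w w = 0 := by
    rw [QuadraticMap.polar_self, two_smul]; exact CharTwo.add_self_eq_zero _
  have h1 : QuadraticMap.polar Q v (s • v + t • w) = 0 := by rw [hst, QuadraticMap.polar_zero_right]
  have h2 : QuadraticMap.polar Q (s • v + t • w) w = 0 := by rw [hst, QuadraticMap.polar_zero_left]
  rw [QuadraticMap.polar_add_right, QuadraticMap.polar_smul_right, QuadraticMap.polar_smul_right, hvv, h] at h1
  rw [QuadraticMap.polar_add_left, QuadraticMap.polar_smul_left, QuadraticMap.polar_smul_left, hww, h] at h2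
  simp only [smul_eq_mul, mul_zero, mul_one, zero_add, add_zero] at h1 h2
  exact ⟨h2, h1⟩

theorem exists_polar_eq_one {F V : Type*} [Field F] [AddCommGroup V] [Module F V]
    (Q : QuadraticForm F V) (hQ : (QuadraticMap.polarBilin Q).Nondegenerate) (v : V) (hv : v ≠ 0) :
    ∃ w : V, QuadraticMap.polar Q v w = 1 := by
  have h1 : ∃ w₁ : V, QuadraticMap.polar Q v w₁ ≠ 0 := by
    by_contra hcon
    push Not at hcon
    exact hv (hQ.1 v (fun y => by rw [QuadraticMap.polarBilin_apply_apply]; exact hcon y))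
  obtain ⟨w₁, hw₁⟩ := h1
  refine ⟨(QuadraticMap.polar Q v w₁)⁻¹ • w₁, ?_⟩
  rw [QuadraticMap.polar_smul_right, smul_eq_mul, inv_mul_cancel₀ hw₁]

/-- Binary quadratic forms in characteristic two over a finite field: if Q is a quadratic form on a 2-dimensional space whose polar form is non-degenerate, then either there are vectors v, w with Q v = Q w = 0 and polar value 1 (Q is xy in these coordinates), or there are v, w and μ with Q v = 1, Q w = μ, polar value 1 and x² + x + μ without roots in F (Q is x² + xy + μy²). -/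
theorem result {F V : Type*} [Field F] [Finite F] [CharP F 2] [AddCommGroup V] [Module F V] (Q : QuadraticForm F V) (h2 : Module.finrank F V = 2) (hQ : (QuadraticMap.polarBilin Q).Nondegenerate) : (∃ v w : V, LinearIndependent F ![v, w] ∧ Q v = 0 ∧ Q w = 0 ∧ QuadraticMap.polar Q v w = 1) ∨ (∃ (v w : V) (μ : F), LinearIndependent F ![v, w] ∧ (∀ x : F, x ^ 2 + x + μ ≠ 0) ∧ Q v = 1 ∧ Q w = μ ∧ QuadraticMap.polar Q v w = 1) := by
  classical
  have hpos : 0 < Module.finrank F V := by omega
  have : Nontrivial V := Module.nontrivial_of_finrank_pos (R := F) hpos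
  by_cases hex : ∃ v : V, v ≠ 0 ∧ Q v = 0
  · left
    obtain ⟨v, hv0, hQv⟩ := hex
    obtain ⟨w', hw'⟩ := exists_polar_eq_one Q hQ v hv0
    have hvv : QuadraticMap.polar Q v v = 0 := by
      rw [QuadraticMap.polar_self, hQv, smul_zero]
    have hpol : QuadraticMap.polar Q v (w' + Q w' • v) = 1 := by
      rw [QuadraticMap.polar_add_right, QuadraticMap.polar_smul_right, hvv, hw', smul_zero, add_zero]
    refine ⟨v, w' + Q w' • v, linIndep_of_polar_eq_one Q _ _ hpol, hQv, ?_, hpol⟩
    rw [QuadraticMap.map_add ⇑Q, QuadraticMap.map_smul, hQv, QuadraticMap.polar_smul_right,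
      QuadraticMap.polar_comm (⇑Q) w' v, hw']
    simp only [smul_eq_mul, mul_zero, add_zero, mul_one]
    exact CharTwo.add_self_eq_zero _
  · right
    push Not at hex
    obtain ⟨v₀, hv₀⟩ := exists_ne (0 : V)
    obtain ⟨c, hc⟩ := isSquare_of_charTwo' (Q v₀)
    have hQv₀ : Q v₀ ≠ 0 := hex v₀ hv₀
    have hc0 : c ≠ 0 := by
      rintro rfl
      apply hQv₀
      rw [hc, mul_zero]
    have hv0 : c⁻¹ • v₀ ≠ 0 := smul_ne_zero (inv_ne_zero hc0) hv₀
    have hQv : Q (c⁻¹ • v₀) = 1 := by
      rw [QuadraticMap.map_smul, hc, smul_eq_mul]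
      field_simp
    obtain ⟨w, hw⟩ := exists_polar_eq_one Q hQ _ hv0
    have hli := linIndep_of_polar_eq_one Q _ _ hw
    refine ⟨c⁻¹ • v₀, w, Q w, hli, ?_, hQv, rfl, hw⟩
    intro x hx
    have hQx : Q (x • (c⁻¹ • v₀) + w) = 0 := by
      rw [QuadraticMap.map_add ⇑Q, QuadraticMap.map_smul, hQv, QuadraticMap.polar_smul_left, hw]
      simp only [smul_eq_mul, mul_one]
      linear_combination hx
    have hzero : x • (c⁻¹ • v₀) + w = 0 := by
      by_contra hne
      exact hex _ hne hQx
    rw [LinearIndependent.pair_iff] at hli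
    have := (hli x 1 (by rw [one_smul]; exact hzero)).2
    exact one_ne_zero this

end Cfsg.Agent.S0763
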