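import Cfsg.Statements.S0767
import Cfsg.Agent.Lib.helper17.Symp

set_option autoImplicit false
open Cfsg

namespace Cfsg.Agent.S0767

open Matrix Cfsg.Agent.Lib.helper17 in
theorem vecMul_J {F : Type*} [CommRing F] (m : ℕ) (v : Fin m ⊕ Fin m → F) :
    v ᵥ* Matrix.J (Fin m) F = - (Matrix.J (Fin m) F *ᵥ v) := by
  have h : v ᵥ* Matrix.J (Fin m) F = (Matrix.J (Fin m) F)ᵀ *ᵥ v := by rw [Matrix.mulVec_transpose]
  rw [h, Matrix.J_transpose, Matrix.neg_mulVec]

/-- The root group of a point: T_v(c) T_v(d) = T_v(c + d), and for A in the symplectic group with A v = a v, the conjugate A T_v(c) A⁻¹ is again some T_v(d). -/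
theorem result {F : Type*} [Field F] (m : ℕ) (v : Fin m ⊕ Fin m → F) : (∀ c d : F, Cfsg.sympTransvection m v c * Cfsg.sympTransvection m v d = Cfsg.sympTransvection m v (c + d)) ∧ ∀ (A : Matrix (Fin m ⊕ Fin m) (Fin m ⊕ Fin m) F) (a : F), A ∈ Matrix.symplecticGroup (Fin m) F → A.mulVec v = a • v → ∀ c : F, ∃ d : F, A * Cfsg.sympTransvection m v c * A⁻¹ = Cfsg.sympTransvection m v d := by
  open Matrix Cfsg.Agent.Lib.helper17 in
  refine ⟨?_, ?_⟩
  · intro c d
    unfold sympTransvection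
    have h0 : (Matrix.J (Fin m) F *ᵥ v) ⬝ᵥ v = 0 := by
      rw [dotProduct_comm]; exact dot_J_self m v
    simp only [add_mul, mul_add, one_mul, mul_one, Matrix.smul_mul, Matrix.mul_smul,
      Matrix.vecMulVec_mul_vecMulVec, h0, zero_smul, Matrix.vecMulVec_zero, smul_zero, add_zero, add_smul]
    abel
  · intro A a hA hAv c
    refine ⟨c * a * a, ?_⟩
    have hAA : A * A⁻¹ = 1 := Matrix.mul_nonsing_inv A (SymplecticGroup.symplectic_det hA)
    have hw : (Matrix.J (Fin m) F *ᵥ v) ᵥ* A⁻¹ = a • (Matrix.J (Fin m) F *ᵥ v) := by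
      rw [SymplecticGroup.inv_eq_symplectic_inv A hA, ← Matrix.vecMul_vecMul, ← Matrix.vecMul_vecMul,
        Matrix.vecMul_neg, J_vecMul, Matrix.neg_vecMul, Matrix.vecMul_transpose, hAv, Matrix.neg_vecMul, Matrix.smul_vecMul,
        vecMul_J, smul_neg, neg_neg]
    unfold sympTransvection
    rw [mul_add, mul_one, add_mul, hAA, Matrix.mul_smul, Matrix.smul_mul, Matrix.mul_vecMulVec,
      Matrix.vecMulVec_mul, hAv, hw, Matrix.smul_vecMulVec, Matrix.vecMulVec_smul, smul_smul, smul_smul]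

end Cfsg.Agent.S0767
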