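import Cfsg.Statements.S0769
-- import your own Cfsg.Agent.* helpers here

set_option autoImplicit false
open Cfsg

namespace Cfsg.Agent.S0769

open Matrix in
/-- Allowed entries for an invertible lower triangular matrix. -/
noncomputable def allowed (F : Type*) [Field F] [Fintype F] [DecidableEq F] (n : ℕ) (i j : Fin n) :
    Finset F :=
  if i < j then {0} else if i = j then Finset.univ.erase 0 else Finset.univ

theorem mem_allowed (F : Type*) [Field F] [Fintype F] [DecidableEq F] (n : ℕ) (i j : Fin n) (x : F) :
    x ∈ allowed F n i j ↔ (i < j → x = 0) ∧ (i = j → x ≠ 0) := by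
  unfold allowed
  by_cases h1 : i < j
  · have h2 : i ≠ j := ne_of_lt h1
    simp [h1, h2]
  · by_cases h2 : i = j
    · simp [h2]
    · simp [h1, h2]

theorem card_allowed (F : Type*) [Field F] [Fintype F] [DecidableEq F] (n : ℕ) (i j : Fin n) :
    (allowed F n i j).card =
      (if j = i then Fintype.card F - 1 else 1) * (if j < i then Fintype.card F else 1) := by
  unfold allowed
  by_cases h1 : i < j
  · have h2 : ¬ j = i := (ne_of_lt h1).symm
    have h3 : ¬ j < i := not_lt_of_gt h1
    simp [h1, h2, h3]
  · by_cases h2 : i = j
    · subst h2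
      simp [Finset.card_erase_of_mem, Finset.card_univ]
    · have h3 : j < i := lt_of_le_of_ne (not_lt.mp h1) (Ne.symm h2)
      have h4 : ¬ j = i := Ne.symm h2
      simp [h1, h2, h3, h4, Finset.card_univ]

theorem prod_card_allowed (F : Type*) [Field F] [Fintype F] [DecidableEq F] (n : ℕ) (i : Fin n) :
    ∏ j, (allowed F n i j).card = (Fintype.card F - 1) * Fintype.card F ^ (i : ℕ) := by
  simp only [card_allowed, Finset.prod_mul_distrib, Finset.prod_ite_eq', Finset.mem_univ, if_true]
  congr 1
  rw [Finset.prod_ite, Finset.prod_const_one, mul_one, Finset.prod_const, Finset.filter_gt_eq_Iio,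
    Fin.card_Iio]

/-- Order of the Borel subgroup of GL_n(q): the invertible lower-triangular n × n matrices over a field with q elements number q^(n(n-1)/2) (q-1)^n (unitriangular part times the diagonal torus). -/
theorem result {F : Type*} [Field F] [Fintype F] {q : ℕ} (hF : Fintype.card F = q) (n : ℕ) : Nat.card {g : Matrix.GeneralLinearGroup (Fin n) F // ∀ i j : Fin n, i < j → (g : Matrix (Fin n) (Fin n) F) i j = 0} = q ^ (n * (n - 1) / 2) * (q - 1) ^ n := by
  open Matrix in
  classical
  -- the equivalence with matrices having allowed entries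
  have e : {g : Matrix.GeneralLinearGroup (Fin n) F //
      ∀ i j : Fin n, i < j → (g : Matrix (Fin n) (Fin n) F) i j = 0} ≃
      {M : Fin n → Fin n → F // M ∈ Fintype.piFinset (fun i => Fintype.piFinset (fun j => allowed F n i j))} :=
    { toFun := fun g => ⟨fun i j => (g.1 : Matrix (Fin n) (Fin n) F) i j, by
        rw [Fintype.mem_piFinset]
        intro i
        rw [Fintype.mem_piFinset]
        intro j
        rw [mem_allowed]
        refine ⟨g.2 i j, ?_⟩
        rintro rfl
        have hdet : (g.1 : Matrix (Fin n) (Fin n) F).det = ∏ k, (g.1 : Matrix (Fin n) (Fin n) F) k k :=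
          Matrix.det_of_isLowerTriangular _ (fun a b hab => g.2 a b hab)
        have hunit : (g.1 : Matrix (Fin n) (Fin n) F).det ≠ 0 :=
          ((Matrix.isUnit_iff_isUnit_det _).mp g.1.isUnit).ne_zero
        rw [hdet] at hunit
        exact fun h0 => hunit (Finset.prod_eq_zero (Finset.mem_univ i) h0)⟩
      invFun := fun M => ⟨Matrix.GeneralLinearGroup.mkOfDetNeZero (Matrix.of M.1) (by
        have hM := M.2
        rw [Fintype.mem_piFinset] at hM
        have hM' : ∀ i j, (i < j → M.1 i j = 0) ∧ (i = j → M.1 i j ≠ 0) := by
          intro i j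
          have := hM i
          rw [Fintype.mem_piFinset] at this
          exact (mem_allowed F n i j _).mp (this j)
        rw [Matrix.det_of_isLowerTriangular (Matrix.of M.1) (fun a b hab => (hM' a b).1 hab)]
        exact Finset.prod_ne_zero_iff.mpr (fun i _ => (hM' i i).2 rfl)), by
        intro i j hij
        have hM := M.2
        rw [Fintype.mem_piFinset] at hM
        have := hM i
        rw [Fintype.mem_piFinset] at this
        exact ((mem_allowed F n i j _).mp (this j)).1 hij⟩
      left_inv := fun g => Subtype.ext (Units.ext rfl)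
      right_inv := fun M => Subtype.ext rfl }
  rw [Nat.card_congr e, Nat.card_eq_fintype_card, Fintype.card_coe, Fintype.card_piFinset]
  simp only [Fintype.card_piFinset, prod_card_allowed, hF]
  rw [Finset.prod_mul_distrib, Finset.prod_const, Finset.card_univ, Fintype.card_fin, Finset.prod_pow_eq_pow_sum,
    Fin.sum_univ_eq_sum_range (fun i => i) n, Finset.sum_range_id, mul_comm]

end Cfsg.Agent.S0769
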