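import Cfsg.Statements.S0770
-- import your own Cfsg.Agent.* helpers here

set_option autoImplicit false
open Cfsg

namespace Cfsg.Agent.S0770

open Matrix in
theorem mem_torus_iff {F : Type*} [Field F] (n : ℕ) (h : Matrix.GeneralLinearGroup (Fin n) F) :
    h ∈ ((Units.map (Matrix.diagonalRingHom (Fin n) F).toMonoidHom).range :
      Subgroup (Matrix.GeneralLinearGroup (Fin n) F)) ↔
    ∀ i j, i ≠ j → (h : Matrix (Fin n) (Fin n) F) i j = 0 := by
  constructor
  · rintro ⟨u, rfl⟩ i j hij
    rw [Units.coe_map]
    exact Matrix.diagonal_apply_ne _ hij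
  · intro hdiag
    have hmat : (h : Matrix (Fin n) (Fin n) F) =
        Matrix.diagonal (fun i => (h : Matrix (Fin n) (Fin n) F) i i) := by
      ext i j
      by_cases hij : i = j
      · subst hij; simp
      · simp [Matrix.diagonal_apply, hij, hdiag i j hij]
    have hinv : ∀ i, (h : Matrix (Fin n) (Fin n) F) i i *
        ((h⁻¹ : Matrix.GeneralLinearGroup (Fin n) F) : Matrix (Fin n) (Fin n) F) i i = 1 := by
      intro i
      have := congrFun (congrFun (congrArg
        (fun x : Matrix.GeneralLinearGroup (Fin n) F => (x : Matrix (Fin n) (Fin n) F))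
        (mul_inv_cancel h)) i) i
      simp only [Units.val_mul, Units.val_one, Matrix.one_apply_eq, Matrix.mul_apply] at this
      rw [Finset.sum_eq_single i] at this
      · exact this
      · intro k _ hk
        rw [hdiag i k (Ne.symm hk), zero_mul]
      · simp
    refine ⟨⟨fun i => (h : Matrix (Fin n) (Fin n) F) i i,
      fun i => ((h⁻¹ : Matrix.GeneralLinearGroup (Fin n) F) : Matrix (Fin n) (Fin n) F) i i,
      funext hinv, funext (fun i => by rw [Pi.mul_apply, mul_comm]; exact hinv i)⟩, ?_⟩
    apply Units.ext
    rw [Units.coe_map]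
    exact hmat.symm

/-- For a field with at least 3 elements, an invertible matrix normalises the subgroup of invertible diagonal matrices of GL_n if and only if it is monomial (exactly one non-zero entry in each row). -/
theorem result {F : Type*} [Field F] (hF : ∃ a : F, a ≠ 0 ∧ a ≠ 1) (n : ℕ) (g : Matrix.GeneralLinearGroup (Fin n) F) : g ∈ Subgroup.normalizer ((Units.map (Matrix.diagonalRingHom (Fin n) F).toMonoidHom).range : Subgroup (Matrix.GeneralLinearGroup (Fin n) F)) ↔ ∀ i : Fin n, ∃! j : Fin n, (g : Matrix (Fin n) (Fin n) F) i j ≠ 0 := by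
  open Matrix in
  classical
  rw [Subgroup.mem_normalizer_iff]
  constructor
  · intro hN i
    -- existence
    have hex : ∃ j, (g : Matrix (Fin n) (Fin n) F) i j ≠ 0 := by
      by_contra hcon
      push Not at hcon
      have := congrFun (congrFun (congrArg
        (fun x : Matrix.GeneralLinearGroup (Fin n) F => (x : Matrix (Fin n) (Fin n) F))
        (mul_inv_cancel g)) i) i
      simp only [Units.val_mul, Units.val_one, Matrix.one_apply_eq, Matrix.mul_apply, hcon, zero_mul,
        Finset.sum_const_zero] at this
      exact zero_ne_one this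
    obtain ⟨j, hj⟩ := hex
    refine ⟨j, hj, ?_⟩
    intro k hk
    by_contra hkj
    obtain ⟨a, ha0, ha1⟩ := hF
    -- the diagonal element with `a` at position `j`
    let u : (Fin n → F)ˣ := ⟨Function.update 1 j a, Function.update 1 j a⁻¹, by
      ext l
      by_cases hl : l = j
      · subst hl; simp [ha0]
      · simp [Function.update_of_ne hl], by
      ext l
      by_cases hl : l = j
      · subst hl; simp [ha0]
      · simp [Function.update_of_ne hl]⟩
    have hmem := (hN (Units.map (Matrix.diagonalRingHom (Fin n) F).toMonoidHom u)).mp ⟨u, rfl⟩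
    obtain ⟨u', hu'⟩ := hmem
    have heq : (Units.map (Matrix.diagonalRingHom (Fin n) F).toMonoidHom u') * g =
        g * (Units.map (Matrix.diagonalRingHom (Fin n) F).toMonoidHom u) := by
      rw [hu', inv_mul_cancel_right]
    have hmat : Matrix.diagonal (u' : Fin n → F) * (g : Matrix (Fin n) (Fin n) F) =
        (g : Matrix (Fin n) (Fin n) F) * Matrix.diagonal (u : Fin n → F) := by
      have := congrArg (fun x : Matrix.GeneralLinearGroup (Fin n) F => (x : Matrix (Fin n) (Fin n) F)) heq
      simp only [Units.val_mul, Units.coe_map] at this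
      exact this
    have e1 := congrFun (congrFun hmat i) j
    have e2 := congrFun (congrFun hmat i) k
    rw [Matrix.diagonal_mul, Matrix.mul_diagonal] at e1 e2
    have huj : (u : Fin n → F) j = a := by simp [u]
    have huk : (u : Fin n → F) k = 1 := by simp [u, Function.update_of_ne hkj]
    rw [huj] at e1
    rw [huk, mul_one] at e2
    have h1 : (u' : Fin n → F) i = a := by
      have : (u' : Fin n → F) i * (g : Matrix (Fin n) (Fin n) F) i j =
          a * (g : Matrix (Fin n) (Fin n) F) i j := by rw [e1, mul_comm]
      exact mul_right_cancel₀ hj this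
    have h2 : (u' : Fin n → F) i = 1 := by
      have : (u' : Fin n → F) i * (g : Matrix (Fin n) (Fin n) F) i k =
          1 * (g : Matrix (Fin n) (Fin n) F) i k := by rw [e2, one_mul]
      exact mul_right_cancel₀ hk this
    exact ha1 (h1.symm.trans h2)
  · intro hmono
    choose σ hσ hσuniq using hmono
    have hzero : ∀ i k, k ≠ σ i → (g : Matrix (Fin n) (Fin n) F) i k = 0 := by
      intro i k hk
      by_contra hne
      exact hk (hσuniq i k hne)
    have hσinj : Function.Injective σ := by
      intro i i' hii
      by_contra hne
      have e1 := congrFun (congrFun (congrArg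
        (fun x : Matrix.GeneralLinearGroup (Fin n) F => (x : Matrix (Fin n) (Fin n) F))
        (mul_inv_cancel g)) i) i
      have e2 := congrFun (congrFun (congrArg
        (fun x : Matrix.GeneralLinearGroup (Fin n) F => (x : Matrix (Fin n) (Fin n) F))
        (mul_inv_cancel g)) i') i
      simp only [Units.val_mul, Units.val_one, Matrix.mul_apply] at e1 e2
      rw [Matrix.one_apply_eq, Finset.sum_eq_single (σ i)] at e1
      · rw [Matrix.one_apply_ne (Ne.symm hne), Finset.sum_eq_single (σ i')] at e2
        · rw [← hii] at e2
          have h0 : ((g⁻¹ : Matrix.GeneralLinearGroup (Fin n) F) : Matrix (Fin n) (Fin n) F) (σ i) i = 0 := by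
            rcases mul_eq_zero.mp e2 with h | h
            · exact absurd h (hii ▸ hσ i')
            · exact h
          rw [h0, mul_zero] at e1
          exact zero_ne_one e1
        · intro k _ hk
          rw [hzero i' k hk, zero_mul]
        · simp
      · intro k _ hk
        rw [hzero i k hk, zero_mul]
      · simp
    have hσsurj : Function.Surjective σ := Finite.injective_iff_surjective.mp hσinj
    intro h
    rw [mem_torus_iff, mem_torus_iff]
    constructor
    · intro hh
      -- `g * h = h' * g` for the diagonal `h'` with entries `h (σ i) (σ i)`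
      have hmat : (g : Matrix (Fin n) (Fin n) F) * (h : Matrix (Fin n) (Fin n) F) =
          Matrix.diagonal (fun i => (h : Matrix (Fin n) (Fin n) F) (σ i) (σ i)) *
            (g : Matrix (Fin n) (Fin n) F) := by
        ext i k
        rw [Matrix.diagonal_mul, Matrix.mul_apply, Finset.sum_eq_single k]
        · by_cases hk : k = σ i
          · subst hk; ring
          · rw [hzero i k hk]; ring
        · intro l _ hl
          rw [hh l k hl, mul_zero]
        · simp
      have hconj : ((g * h * g⁻¹ : Matrix.GeneralLinearGroup (Fin n) F) : Matrix (Fin n) (Fin n) F) =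
          Matrix.diagonal (fun i => (h : Matrix (Fin n) (Fin n) F) (σ i) (σ i)) := by
        have hgg : (g : Matrix (Fin n) (Fin n) F) *
            ((g⁻¹ : Matrix.GeneralLinearGroup (Fin n) F) : Matrix (Fin n) (Fin n) F) = 1 := by
          rw [← Units.val_mul, mul_inv_cancel, Units.val_one]
        rw [Units.val_mul, Units.val_mul, hmat, Matrix.mul_assoc, hgg, Matrix.mul_one]
      intro i j hij
      rw [hconj]
      exact Matrix.diagonal_apply_ne _ hij
    · intro hh
      -- `g * h = h' * g` with `h'` diagonal
      have hmat : (g : Matrix (Fin n) (Fin n) F) * (h : Matrix (Fin n) (Fin n) F) =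
          ((g * h * g⁻¹ : Matrix.GeneralLinearGroup (Fin n) F) : Matrix (Fin n) (Fin n) F) *
            (g : Matrix (Fin n) (Fin n) F) := by
        rw [← Units.val_mul, ← Units.val_mul, inv_mul_cancel_right]
      intro j k hjk
      obtain ⟨i, rfl⟩ := hσsurj j
      have e := congrFun (congrFun hmat i) k
      rw [Matrix.mul_apply, Matrix.mul_apply, Finset.sum_eq_single (σ i), Finset.sum_eq_single i] at e
      · rw [hzero i k (Ne.symm hjk), mul_zero] at e
        rcases mul_eq_zero.mp e with h0 | h0
        · exact absurd h0 (hσ i)
        · exact h0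
      · intro l _ hl
        rw [hh i l (Ne.symm hl), zero_mul]
      · simp
      · intro l _ hl
        rw [hzero i l hl, zero_mul]
      · simp

end Cfsg.Agent.S0770
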