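import Cfsg.Statements.S0771
-- import your own Cfsg.Agent.* helpers here

set_option autoImplicit false
open Cfsg

namespace Cfsg.Agent.S0771

open Matrix in
theorem mem_stab_iff {F : Type*} [Field F] (n k : ℕ) (g : Matrix.GeneralLinearGroup (Fin n) F) :
    g ∈ Cfsg.stabilizing (Cfsg.glToMat (Fin n) F) {v : Fin n → F | ∀ i : Fin n, k ≤ (i : ℕ) → v i = 0} ↔
      ∀ i j : Fin n, k ≤ (i : ℕ) → (j : ℕ) < k → (g : Matrix (Fin n) (Fin n) F) i j = 0 := by
  have hcancel : ∀ a b : Fin n → F, (g : Matrix (Fin n) (Fin n) F) *ᵥ a = (g : Matrix (Fin n) (Fin n) F) *ᵥ b →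
      a = b := by
    intro a b h1
    have h2 := congrArg (fun w => ((g⁻¹ : Matrix.GeneralLinearGroup (Fin n) F) : Matrix (Fin n) (Fin n) F) *ᵥ w) h1
    simp only [Matrix.mulVec_mulVec] at h2
    rw [← Units.val_mul, inv_mul_cancel] at h2
    simpa using h2
  constructor
  · intro hg i j hi hj
    have h1 := (hg (Pi.single j 1)).1 (by
      intro i' hi'
      have : i' ≠ j := by
        intro h; rw [h] at hi'; omega
      simp [Pi.single_apply, this])
    have h2 := h1 i hi
    simpa [Matrix.mulVec_single] using h2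
  · intro hg
    have hmaps : ∀ v : Fin n → F, (∀ i : Fin n, k ≤ (i : ℕ) → v i = 0) →
        ∀ i : Fin n, k ≤ (i : ℕ) → ((g : Matrix (Fin n) (Fin n) F) *ᵥ v) i = 0 := by
      intro v hv i hi
      simp only [Matrix.mulVec, dotProduct]
      apply Finset.sum_eq_zero
      intro j _
      by_cases hj : (j : ℕ) < k
      · rw [hg i j hi hj, zero_mul]
      · rw [hv j (by omega), mul_zero]
    let W : Submodule F (Fin n → F) :=
      { carrier := {v | ∀ i : Fin n, k ≤ (i : ℕ) → v i = 0}
        add_mem' := by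
          intro a b ha hb i hi
          simp [ha i hi, hb i hi]
        zero_mem' := by intro i hi; rfl
        smul_mem' := by
          intro c a ha i hi
          simp [ha i hi] }
    let f : W →ₗ[F] W :=
      (Matrix.toLin' (g : Matrix (Fin n) (Fin n) F)).restrict (fun v hv => hmaps v hv)
    have hinj : Function.Injective f := by
      intro a b hab
      have h1 : (g : Matrix (Fin n) (Fin n) F) *ᵥ (a : Fin n → F) =
          (g : Matrix (Fin n) (Fin n) F) *ᵥ (b : Fin n → F) := by
        have := congrArg Subtype.val hab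
        exact this
      exact Subtype.ext (hcancel _ _ h1)
    have hsurj : Function.Surjective f := LinearMap.injective_iff_surjective.mp hinj
    intro v
    constructor
    · intro hv; exact hmaps v hv
    · intro hv
      obtain ⟨w, hw⟩ := hsurj ⟨_, hv⟩
      have h1 : (g : Matrix (Fin n) (Fin n) F) *ᵥ (w : Fin n → F) =
          (g : Matrix (Fin n) (Fin n) F) *ᵥ v := by
        have := congrArg Subtype.val hw
        exact this
      have h2 : (w : Fin n → F) = v := hcancel _ _ h1
      rw [← h2]; exact w.2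

/-- Maximal parabolic of GL_n(q): the stabiliser of the coordinate subspace spanned by the first k basis vectors has order q^(k(n-k)) · |GL_k(q)| · |GL_(n-k)(q)| (unipotent radical of order q^(k(n-k)) and Levi complement GL_k × GL_(n-k)). -/
theorem result {F : Type*} [Field F] [Fintype F] {q : ℕ} (hF : Fintype.card F = q) (n k : ℕ) (hk : k ≤ n) : Nat.card ↥(Cfsg.stabilizing (Cfsg.glToMat (Fin n) F) {v : Fin n → F | ∀ i : Fin n, k ≤ (i : ℕ) → v i = 0}) = q ^ (k * (n - k)) * (∏ i : Fin k, (q ^ k - q ^ (i : ℕ))) * ∏ i : Fin (n - k), (q ^ (n - k) - q ^ (i : ℕ)) := by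
  classical
  subst hF
  have h : k + (n - k) = n := by omega
  let e : Fin k ⊕ Fin (n - k) ≃ Fin n := finSumFinEquiv.trans (finCongr h)
  have he_inl : ∀ a : Fin k, ((e (Sum.inl a) : Fin n) : ℕ) < k := by
    intro a; simp [e]
  have he_inr : ∀ b : Fin (n - k), k ≤ ((e (Sum.inr b) : Fin n) : ℕ) := by
    intro b; simp [e]
  have hdet : ∀ x : GL (Fin k) F × Matrix (Fin k) (Fin (n - k)) F × GL (Fin (n - k)) F,
      (Matrix.reindex e e (Matrix.fromBlocks (x.1 : Matrix (Fin k) (Fin k) F) x.2.1 0
        (x.2.2 : Matrix (Fin (n - k)) (Fin (n - k)) F))).det ≠ 0 := by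
    intro x
    rw [Matrix.det_reindex_self, Matrix.det_fromBlocks_zero₂₁]
    exact mul_ne_zero (Matrix.GeneralLinearGroup.det_ne_zero x.1) (Matrix.GeneralLinearGroup.det_ne_zero x.2.2)
  let Φ : GL (Fin k) F × Matrix (Fin k) (Fin (n - k)) F × GL (Fin (n - k)) F →
      ↥(Cfsg.stabilizing (Cfsg.glToMat (Fin n) F) {v : Fin n → F | ∀ i : Fin n, k ≤ (i : ℕ) → v i = 0}) :=
    fun x => ⟨Matrix.GeneralLinearGroup.mkOfDetNeZero _ (hdet x), by
      rw [mem_stab_iff]
      intro i j hi hj
      change Matrix.fromBlocks (x.1 : Matrix (Fin k) (Fin k) F) x.2.1 0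
        (x.2.2 : Matrix (Fin (n - k)) (Fin (n - k)) F) (e.symm i) (e.symm j) = 0
      rcases hx : e.symm i with a | b
      · exfalso
        have := he_inl a
        rw [← hx, Equiv.apply_symm_apply] at this
        omega
      · rcases hy : e.symm j with a' | b'
        · rfl
        · exfalso
          have := he_inr b'
          rw [← hy, Equiv.apply_symm_apply] at this
          omega⟩
  have hbij : Function.Bijective Φ := by
    constructor
    · intro x y hxy
      have h1 : Matrix.reindex e e (Matrix.fromBlocks (x.1 : Matrix (Fin k) (Fin k) F) x.2.1 0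
          (x.2.2 : Matrix (Fin (n - k)) (Fin (n - k)) F)) =
          Matrix.reindex e e (Matrix.fromBlocks (y.1 : Matrix (Fin k) (Fin k) F) y.2.1 0
          (y.2.2 : Matrix (Fin (n - k)) (Fin (n - k)) F)) := by
        have := congrArg (fun z => ((z : GL (Fin n) F) : Matrix (Fin n) (Fin n) F)) (congrArg Subtype.val hxy)
        exact this
      have h2 := (Matrix.reindex e e).injective h1
      rw [Matrix.fromBlocks_inj] at h2
      obtain ⟨h3, h4, -, h5⟩ := h2
      exact Prod.ext (Units.ext h3) (Prod.ext h4 (Units.ext h5))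
    · intro ⟨g, hg⟩
      rw [mem_stab_iff] at hg
      set N : Matrix (Fin k ⊕ Fin (n - k)) (Fin k ⊕ Fin (n - k)) F :=
        (g : Matrix (Fin n) (Fin n) F).submatrix e e with hN
      have hN21 : N.toBlocks₂₁ = 0 := by
        ext b a
        exact hg _ _ (he_inr b) (he_inl a)
      have hNeq : N = Matrix.fromBlocks N.toBlocks₁₁ N.toBlocks₁₂ 0 N.toBlocks₂₂ := by
        rw [← hN21]; exact (Matrix.fromBlocks_toBlocks N).symm
      have hgN : (g : Matrix (Fin n) (Fin n) F) = Matrix.reindex e e N := by
        ext i j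
        simp [N]
      have hdetN : N.det ≠ 0 := by
        rw [hN, Matrix.det_submatrix_equiv_self]
        exact Matrix.GeneralLinearGroup.det_ne_zero g
      rw [hNeq, Matrix.det_fromBlocks_zero₂₁] at hdetN
      refine ⟨⟨Matrix.GeneralLinearGroup.mkOfDetNeZero N.toBlocks₁₁ (left_ne_zero_of_mul hdetN), N.toBlocks₁₂,
        Matrix.GeneralLinearGroup.mkOfDetNeZero N.toBlocks₂₂ (right_ne_zero_of_mul hdetN)⟩, ?_⟩
      apply Subtype.ext
      apply Units.ext
      change Matrix.reindex e e (Matrix.fromBlocks N.toBlocks₁₁ N.toBlocks₁₂ 0 N.toBlocks₂₂) = _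
      rw [← hNeq, hgN]
  rw [← Nat.card_eq_of_bijective Φ hbij, Nat.card_prod, Nat.card_prod, Matrix.card_GL_field, Matrix.card_GL_field]
  have hM : Nat.card (Matrix (Fin k) (Fin (n - k)) F) = Fintype.card F ^ (k * (n - k)) := by
    rw [Nat.card_eq_fintype_card]
    change Fintype.card (Fin k → Fin (n - k) → F) = _
    simp only [Fintype.card_fun, Fintype.card_fin]
    rw [← pow_mul, mul_comm]
  rw [hM]
  ring

end Cfsg.Agent.S0771
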