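import Cfsg.Statements.S0772
import Cfsg.Agent.Lib.helper17.Quad2
import Cfsg.Agent.S0771

set_option autoImplicit false
open Cfsg

namespace Cfsg.Agent.S0772

open Matrix Cfsg.Agent.Lib.helper17

/-- Elementary transvection as an element of `GL_n`. -/
noncomputable def tGL {n : ℕ} {F : Type*} [Field F] (a b : Fin n) (hab : a ≠ b) (c : F) :
    Matrix.GeneralLinearGroup (Fin n) F :=
  Matrix.GeneralLinearGroup.mkOfDetNeZero (Matrix.transvection a b c)
    (by rw [Matrix.det_transvection_of_ne _ _ hab]; exact one_ne_zero)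

theorem tGL_coe {n : ℕ} {F : Type*} [Field F] (a b : Fin n) (hab : a ≠ b) (c : F) :
    ((tGL a b hab c : Matrix.GeneralLinearGroup (Fin n) F) : Matrix (Fin n) (Fin n) F) =
      Matrix.transvection a b c := rfl

theorem one_add_vecMulVec_mulVec {n : ℕ} {F : Type*} [Field F] (u w x : Fin n → F) :
    (1 + Matrix.vecMulVec u w) *ᵥ x = x + (w ⬝ᵥ x) • u := by
  rw [Matrix.add_mulVec, Matrix.one_mulVec, Matrix.vecMulVec_mulVec]
  simp only [op_smul_eq_smul]

/-- Key step: if `h' ∈ H ≥ P` has a non-zero entry `(a, b₁)` in the lower-left block, then `H` contains all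
elementary transvections of row `a`. -/
theorem row_transvections {F : Type*} [Field F] (n k : ℕ)
    (H : Subgroup (Matrix.GeneralLinearGroup (Fin n) F))
    (hle : Cfsg.stabilizing (Cfsg.glToMat (Fin n) F) {v : Fin n → F | ∀ i : Fin n, k ≤ (i : ℕ) → v i = 0} ≤ H)
    (h' : Matrix.GeneralLinearGroup (Fin n) F) (hh' : h' ∈ H) (a b₁ : Fin n) (ha : k ≤ (a : ℕ))
    (hb₁ : (b₁ : ℕ) < k) (hne : (h' : Matrix (Fin n) (Fin n) F) a b₁ ≠ 0) (b : Fin n) (hab : a ≠ b) (c : F) :
    tGL a b hab c ∈ H := by
  classical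
  set v : Fin n → F := (h' : Matrix (Fin n) (Fin n) F) *ᵥ Pi.single b₁ 1 with hv
  have hva : v a = (h' : Matrix (Fin n) (Fin n) F) a b₁ := by
    rw [hv]; simp [Matrix.mulVec_single_one]
  have hQdet : (1 + Matrix.vecMulVec (v - Pi.single a 1) (Pi.single a (1 : F))).det ≠ 0 := by
    rw [det_one_add_vecMulVec]
    simp only [dotProduct_sub, single_one_dotProduct, Pi.single_eq_same]
    rw [hva]
    simpa using hne
  have hQmem : Matrix.GeneralLinearGroup.mkOfDetNeZero _ hQdet ∈
      Cfsg.stabilizing (Cfsg.glToMat (Fin n) F) {v : Fin n → F | ∀ i : Fin n, k ≤ (i : ℕ) → v i = 0} := by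
    rw [Cfsg.Agent.S0771.mem_stab_iff]
    intro i j hi hj
    change (1 + Matrix.vecMulVec (v - Pi.single a 1) (Pi.single a (1 : F))) i j = 0
    have h1 : i ≠ j := by intro h; rw [h] at hi; omega
    have h2 : j ≠ a := by intro h; rw [h] at hj; omega
    simp [Matrix.vecMulVec_apply, Matrix.one_apply, h1, h2]
  have hQv : (1 + Matrix.vecMulVec (v - Pi.single a 1) (Pi.single a (1 : F))) *ᵥ Pi.single a 1 = v := by
    rw [one_add_vecMulVec_mulVec]
    simp
  -- the normalised element
  set h'' : Matrix.GeneralLinearGroup (Fin n) F := (Matrix.GeneralLinearGroup.mkOfDetNeZero _ hQdet)⁻¹ * h'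
    with hh''def
  have hh'' : h'' ∈ H := H.mul_mem (H.inv_mem (hle hQmem)) hh'
  have hcol : (h'' : Matrix (Fin n) (Fin n) F) *ᵥ Pi.single b₁ 1 = Pi.single a 1 := by
    have e : (Matrix.GeneralLinearGroup.mkOfDetNeZero _ hQdet : Matrix.GeneralLinearGroup (Fin n) F).val *ᵥ
        Pi.single a 1 = v := hQv
    rw [hh''def, Units.val_mul, ← Matrix.mulVec_mulVec, ← hv]
    conv_lhs => arg 2; rw [← e]
    rw [Matrix.mulVec_mulVec, ← Units.val_mul, inv_mul_cancel, Units.val_one, Matrix.one_mulVec]
  have hψ : (c • fun j => (h'' : Matrix (Fin n) (Fin n) F) b j) b₁ = 0 := by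
    have := congrFun hcol b
    simp only [Matrix.mulVec_single_one] at this
    simp only [Pi.smul_apply, smul_eq_mul]
    have h3 : (h'' : Matrix (Fin n) (Fin n) F) b b₁ = 0 := by
      rw [show (h'' : Matrix (Fin n) (Fin n) F) b b₁ = (h'' : Matrix (Fin n) (Fin n) F).col b₁ b from rfl, this]
      simp [Ne.symm hab]
    rw [h3, mul_zero]
  have hUdet : (1 + Matrix.vecMulVec (Pi.single b₁ (1 : F))
      (c • fun j => (h'' : Matrix (Fin n) (Fin n) F) b j)).det ≠ 0 := by
    rw [det_one_add_vecMulVec, dotProduct_single_one, hψ, add_zero]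
    exact one_ne_zero
  have hUmem : Matrix.GeneralLinearGroup.mkOfDetNeZero _ hUdet ∈
      Cfsg.stabilizing (Cfsg.glToMat (Fin n) F) {v : Fin n → F | ∀ i : Fin n, k ≤ (i : ℕ) → v i = 0} := by
    rw [Cfsg.Agent.S0771.mem_stab_iff]
    intro i j hi hj
    change (1 + Matrix.vecMulVec (Pi.single b₁ (1 : F))
      (c • fun j => (h'' : Matrix (Fin n) (Fin n) F) b j)) i j = 0
    have h1 : i ≠ j := by intro h; rw [h] at hi; omega
    have h2 : i ≠ b₁ := by intro h; rw [h] at hi; omega
    simp [Matrix.vecMulVec_apply, Matrix.one_apply, h1, h2]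
  have hid : tGL a b hab c * h'' = h'' * Matrix.GeneralLinearGroup.mkOfDetNeZero _ hUdet := by
    apply Units.ext
    change Matrix.transvection a b c * (h'' : Matrix (Fin n) (Fin n) F) =
      (h'' : Matrix (Fin n) (Fin n) F) * (1 + Matrix.vecMulVec (Pi.single b₁ (1 : F))
        (c • fun j => (h'' : Matrix (Fin n) (Fin n) F) b j))
    rw [Matrix.mul_add, Matrix.mul_one, Matrix.mul_vecMulVec, hcol, Matrix.transvection, Matrix.add_mul,
      Matrix.one_mul]
    congr 1
    ext i j
    by_cases hi : i = a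
    · subst hi
      simp [Matrix.vecMulVec_apply, Matrix.single_mul_apply_same]
    · simp [Matrix.vecMulVec_apply, hi, Matrix.single_mul_apply_of_ne]
  have : tGL a b hab c = h'' * Matrix.GeneralLinearGroup.mkOfDetNeZero _ hUdet * h''⁻¹ := by
    rw [← hid, mul_inv_cancel_right]
  rw [this]
  exact H.mul_mem (H.mul_mem hh'' (hle hUmem)) (H.inv_mem hh'')

/-- Maximal parabolics are maximal: over a finite field, for 0 < k < n the stabiliser in GL_n of the span of the first k coordinate vectors is a maximal proper subgroup. -/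
theorem result {F : Type*} [Field F] [Finite F] (n k : ℕ) (hk0 : 0 < k) (hkn : k < n) : IsCoatom (Cfsg.stabilizing (Cfsg.glToMat (Fin n) F) {v : Fin n → F | ∀ i : Fin n, k ≤ (i : ℕ) → v i = 0}) := by
  classical
  constructor
  · intro htop
    have hk0' : (⟨k, hkn⟩ : Fin n) ≠ ⟨0, by omega⟩ := by
      intro h
      have := congrArg Fin.val h
      simp at this
      omega
    have hmem : tGL (⟨k, hkn⟩ : Fin n) ⟨0, by omega⟩ hk0' (1 : F) ∈
        Cfsg.stabilizing (Cfsg.glToMat (Fin n) F) {v : Fin n → F | ∀ i : Fin n, k ≤ (i : ℕ) → v i = 0} := by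
      rw [htop]; trivial
    rw [Cfsg.Agent.S0771.mem_stab_iff] at hmem
    have h1 := hmem ⟨k, hkn⟩ ⟨0, by omega⟩ (le_refl _) hk0
    rw [tGL_coe] at h1
    simp [Matrix.transvection, Matrix.one_apply, hk0'] at h1
  · intro H hPH
    obtain ⟨hle, h, hhH, hhP⟩ := SetLike.lt_iff_le_and_exists.mp hPH
    rw [Cfsg.Agent.S0771.mem_stab_iff] at hhP
    push Not at hhP
    obtain ⟨a₀, b₀, ha₀, hb₀, hne⟩ := hhP
    -- all elementary transvections are in `H`
    have hall : ∀ (a b : Fin n) (hab : a ≠ b) (c : F), tGL a b hab c ∈ H := by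
      intro a b hab c
      by_cases hLL : k ≤ (a : ℕ) ∧ (b : ℕ) < k
      · obtain ⟨ha, hb⟩ := hLL
        by_cases haa : a = a₀
        · subst haa
          exact row_transvections n k H hle h hhH a b₀ ha hb₀ hne b hab c
        · by_cases hz : (h : Matrix (Fin n) (Fin n) F) a b₀ = 0
          · have hP : tGL a a₀ haa (1 : F) ∈
                Cfsg.stabilizing (Cfsg.glToMat (Fin n) F)
                  {v : Fin n → F | ∀ i : Fin n, k ≤ (i : ℕ) → v i = 0} := by
              rw [Cfsg.Agent.S0771.mem_stab_iff]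
              intro i j hi hj
              rw [tGL_coe]
              have h1 : i ≠ j := by intro h; rw [h] at hi; omega
              have h2 : ¬ (a = i ∧ a₀ = j) := by
                rintro ⟨-, rfl⟩
                omega
              simp [Matrix.transvection, Matrix.one_apply, Matrix.single_apply, h1, h2]
            refine row_transvections n k H hle (tGL a a₀ haa 1 * h) (H.mul_mem (hle hP) hhH) a b₀ ha hb₀
              ?_ b hab c
            rw [Units.val_mul, tGL_coe, Matrix.transvection_mul_apply_same, hz, zero_add, one_mul]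
            exact hne
          · exact row_transvections n k H hle h hhH a b₀ ha hb₀ hz b hab c
      · apply hle
        rw [Cfsg.Agent.S0771.mem_stab_iff]
        intro i j hi hj
        rw [tGL_coe]
        have h1 : i ≠ j := by intro h; rw [h] at hi; omega
        have h2 : ¬ (a = i ∧ b = j) := by
          rintro ⟨rfl, rfl⟩
          exact hLL ⟨hi, hj⟩
        simp [Matrix.transvection, Matrix.one_apply, Matrix.single_apply, h1, h2]
    have hlist : ∀ L : List (Matrix.TransvectionStruct (Fin n) F),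
        ∃ y : Matrix.GeneralLinearGroup (Fin n) F, y ∈ H ∧
          (y : Matrix (Fin n) (Fin n) F) = (L.map Matrix.TransvectionStruct.toMatrix).prod := by
      intro L
      induction L with
      | nil => exact ⟨1, H.one_mem, by simp⟩
      | cons t L ih =>
        obtain ⟨y, hy, hy2⟩ := ih
        refine ⟨tGL t.i t.j t.hij t.c * y, H.mul_mem (hall _ _ _ _) hy, ?_⟩
        rw [Units.val_mul, tGL_coe, hy2, List.map_cons, List.prod_cons]
        rfl
    rw [eq_top_iff]
    intro g _
    obtain ⟨L, L', D, hg⟩ := Matrix.Pivot.exists_list_transvec_mul_diagonal_mul_list_transvec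
      (g : Matrix (Fin n) (Fin n) F)
    obtain ⟨y₁, hy₁, hy₁'⟩ := hlist L
    obtain ⟨y₂, hy₂, hy₂'⟩ := hlist L'
    rw [← hy₁', ← hy₂'] at hg
    have hd : ((y₁⁻¹ * g * y₂⁻¹ : Matrix.GeneralLinearGroup (Fin n) F) : Matrix (Fin n) (Fin n) F) =
        Matrix.diagonal D := by
      rw [Units.val_mul, Units.val_mul, hg]
      simp only [← Matrix.mul_assoc]
      rw [← Units.val_mul, inv_mul_cancel, Units.val_one, Matrix.one_mul, Matrix.mul_assoc,
        ← Units.val_mul, mul_inv_cancel, Units.val_one, Matrix.mul_one]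
    have hdP : y₁⁻¹ * g * y₂⁻¹ ∈
        Cfsg.stabilizing (Cfsg.glToMat (Fin n) F) {v : Fin n → F | ∀ i : Fin n, k ≤ (i : ℕ) → v i = 0} := by
      rw [Cfsg.Agent.S0771.mem_stab_iff]
      intro i j hi hj
      rw [hd]
      have h1 : i ≠ j := by intro h; rw [h] at hi; omega
      exact Matrix.diagonal_apply_ne _ h1
    have : g = y₁ * (y₁⁻¹ * g * y₂⁻¹) * y₂ := by group
    rw [this]
    exact H.mul_mem (H.mul_mem hy₁ (hle hdP)) hy₂

end Cfsg.Agent.S0772
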