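import Cfsg.Statements.S0773
import Cfsg.Agent.Lib.helper17.Stab
import Cfsg.Agent.S0771

set_option autoImplicit false
open Cfsg

namespace Cfsg.Agent.S0773

open Matrix Cfsg.Agent.Lib.helper17

/-- The automorphism `g ↦ (g⁻¹)ᵀ` of `GL_n`, conjugated by the order-reversing permutation. -/
noncomputable def revInvT (n : ℕ) (F : Type*) [Field F] (g : Matrix.GeneralLinearGroup (Fin n) F) :
    Matrix.GeneralLinearGroup (Fin n) F :=
  ⟨(((g⁻¹ : Matrix.GeneralLinearGroup (Fin n) F) : Matrix (Fin n) (Fin n) F)ᵀ).submatrix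
      (Fin.revPerm : Fin n ≃ Fin n) (Fin.revPerm : Fin n ≃ Fin n),
    ((g : Matrix (Fin n) (Fin n) F)ᵀ).submatrix (Fin.revPerm : Fin n ≃ Fin n) (Fin.revPerm : Fin n ≃ Fin n),
    by
      rw [Matrix.submatrix_mul_equiv, ← Matrix.transpose_mul, ← Units.val_mul, mul_inv_cancel]
      simp,
    by
      rw [Matrix.submatrix_mul_equiv, ← Matrix.transpose_mul, ← Units.val_mul, inv_mul_cancel]
      simp⟩

theorem revInvT_mul (n : ℕ) (F : Type*) [Field F] (g h : Matrix.GeneralLinearGroup (Fin n) F) :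
    revInvT n F (g * h) = revInvT n F g * revInvT n F h := by
  apply Units.ext
  change ((((g * h)⁻¹ : Matrix.GeneralLinearGroup (Fin n) F) : Matrix (Fin n) (Fin n) F)ᵀ).submatrix
      (Fin.revPerm : Fin n ≃ Fin n) (Fin.revPerm : Fin n ≃ Fin n) =
    (((g⁻¹ : Matrix.GeneralLinearGroup (Fin n) F) : Matrix (Fin n) (Fin n) F)ᵀ).submatrix
      (Fin.revPerm : Fin n ≃ Fin n) (Fin.revPerm : Fin n ≃ Fin n) *
    (((h⁻¹ : Matrix.GeneralLinearGroup (Fin n) F) : Matrix (Fin n) (Fin n) F)ᵀ).submatrix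
      (Fin.revPerm : Fin n ≃ Fin n) (Fin.revPerm : Fin n ≃ Fin n)
  rw [Matrix.submatrix_mul_equiv, ← Matrix.transpose_mul, ← Units.val_mul, _root_.mul_inv_rev]

theorem revInvT_revInvT (n : ℕ) (F : Type*) [Field F] (g : Matrix.GeneralLinearGroup (Fin n) F) :
    revInvT n F (revInvT n F g) = g := by
  apply Units.ext
  change ((((g : Matrix (Fin n) (Fin n) F)ᵀ).submatrix (Fin.revPerm : Fin n ≃ Fin n)
      (Fin.revPerm : Fin n ≃ Fin n))ᵀ).submatrix (Fin.revPerm : Fin n ≃ Fin n)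
      (Fin.revPerm : Fin n ≃ Fin n) = (g : Matrix (Fin n) (Fin n) F)
  ext i j
  simp

theorem revInvT_mem (n k : ℕ) (F : Type*) [Field F] (g : Matrix.GeneralLinearGroup (Fin n) F)
    (hg : g ∈ Cfsg.stabilizing (Cfsg.glToMat (Fin n) F) {v : Fin n → F | ∀ i : Fin n, k ≤ (i : ℕ) → v i = 0}) :
    revInvT n F g ∈ Cfsg.stabilizing (Cfsg.glToMat (Fin n) F)
      {v : Fin n → F | ∀ i : Fin n, n - k ≤ (i : ℕ) → v i = 0} := by
  have hg' := Subgroup.inv_mem _ hg
  rw [Cfsg.Agent.S0771.mem_stab_iff] at hg' ⊢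
  intro a b ha hb
  change ((g⁻¹ : Matrix.GeneralLinearGroup (Fin n) F) : Matrix (Fin n) (Fin n) F) (Fin.rev b) (Fin.rev a) = 0
  apply hg'
  · rw [Fin.val_rev]; omega
  · rw [Fin.val_rev]; omega

/-- The coordinate subspace spanned by the first `j` basis vectors. -/
def coordSub (n : ℕ) (F : Type*) [Field F] (j : ℕ) : Submodule F (Fin n → F) where
  carrier := {v | ∀ i : Fin n, j ≤ (i : ℕ) → v i = 0}
  add_mem' := by
    intro a b ha hb i hi
    simp [ha i hi, hb i hi]
  zero_mem' := by intro i hi; rfl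
  smul_mem' := by
    intro c a ha i hi
    simp [ha i hi]

theorem coordSub_lt (n : ℕ) (F : Type*) [Field F] (a b : ℕ) (hab : a < b) (hb : b ≤ n) :
    coordSub n F a < coordSub n F b := by
  rw [SetLike.lt_iff_le_and_exists]
  refine ⟨fun v hv i hi => hv i (by omega), Pi.single ⟨a, by omega⟩ 1, ?_, ?_⟩
  · intro i hi
    have : i ≠ ⟨a, by omega⟩ := by
      intro h
      rw [h] at hi
      simp at hi
      omega
    simp [this]
  · intro h
    have := h ⟨a, by omega⟩ (le_refl _)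
    simp at this

theorem not_conj {F : Type*} [Field F] (n k : ℕ) (hk0 : 0 < k) (hkn : k < n) (h2 : 2 * k ≠ n)
    (g : Matrix.GeneralLinearGroup (Fin n) F) :
    (Cfsg.stabilizing (Cfsg.glToMat (Fin n) F)
      {v : Fin n → F | ∀ i : Fin n, k ≤ (i : ℕ) → v i = 0}).map (MulAut.conj g).toMonoidHom ≠
    Cfsg.stabilizing (Cfsg.glToMat (Fin n) F) {v : Fin n → F | ∀ i : Fin n, n - k ≤ (i : ℕ) → v i = 0} := by
  classical
  intro heq
  have hcancel : ∀ a b : Fin n → F, (g : Matrix (Fin n) (Fin n) F) *ᵥ a = (g : Matrix (Fin n) (Fin n) F) *ᵥ b →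
      a = b := by
    intro a b h1
    have h2 := congrArg (fun w => ((g⁻¹ : Matrix.GeneralLinearGroup (Fin n) F) : Matrix (Fin n) (Fin n) F) *ᵥ w) h1
    simp only [Matrix.mulVec_mulVec] at h2
    rw [← Units.val_mul, inv_mul_cancel] at h2
    simpa using h2
  have hPk : ∀ p : Matrix.GeneralLinearGroup (Fin n) F,
      p ∈ Cfsg.stabilizing (Cfsg.glToMat (Fin n) F) {v : Fin n → F | ∀ i : Fin n, k ≤ (i : ℕ) → v i = 0} →
      ∀ w ∈ coordSub n F k, (p : Matrix (Fin n) (Fin n) F) *ᵥ w ∈ coordSub n F k :=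
    fun p hp => (mem_stabilizing_iff_maps (Cfsg.glToMat (Fin n) F) (coordSub n F k) p).mp hp
  set U : Submodule F (Fin n → F) :=
    (coordSub n F k).map (Matrix.toLin' (g : Matrix (Fin n) (Fin n) F)) with hU
  have hUmem : ∀ w ∈ coordSub n F k, (g : Matrix (Fin n) (Fin n) F) *ᵥ w ∈ U :=
    fun w hw => ⟨w, hw, rfl⟩
  have hinv : ∀ h : Matrix.GeneralLinearGroup (Fin n) F,
      h ∈ Cfsg.stabilizing (Cfsg.glToMat (Fin n) F)
        {v : Fin n → F | ∀ i : Fin n, n - k ≤ (i : ℕ) → v i = 0} →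
      ∀ u ∈ U, (h : Matrix (Fin n) (Fin n) F) *ᵥ u ∈ U := by
    intro h hh u hu
    rw [← heq] at hh
    obtain ⟨p, hp, rfl⟩ := Subgroup.mem_map.mp hh
    obtain ⟨w, hw, rfl⟩ := hu
    have : (((MulAut.conj g).toMonoidHom p : Matrix.GeneralLinearGroup (Fin n) F) :
        Matrix (Fin n) (Fin n) F) *ᵥ (Matrix.toLin' (g : Matrix (Fin n) (Fin n) F) w) =
        (g : Matrix (Fin n) (Fin n) F) *ᵥ ((p : Matrix (Fin n) (Fin n) F) *ᵥ w) := by
      change ((g * p * g⁻¹ : Matrix.GeneralLinearGroup (Fin n) F) : Matrix (Fin n) (Fin n) F) *ᵥ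
        ((g : Matrix (Fin n) (Fin n) F) *ᵥ w) = _
      rw [Matrix.mulVec_mulVec, Matrix.mulVec_mulVec, ← Units.val_mul, ← Units.val_mul,
        inv_mul_cancel_right]
    rw [this]
    exact hUmem _ (hPk p hp w hw)
  have htrans : ∀ (a i₀ : Fin n), a ≠ i₀ → (n - k ≤ (i₀ : ℕ) ∨ (a : ℕ) < n - k) → ∀ u ∈ U, u i₀ ≠ 0 →
      (Pi.single a (1 : F) : Fin n → F) ∈ U := by
    intro a i₀ hne hcond u hu hu0
    have hdet : (Matrix.transvection a i₀ (1 : F)).det ≠ 0 := by
      rw [Matrix.det_transvection_of_ne _ _ hne]; exact one_ne_zero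
    have hmem : Matrix.GeneralLinearGroup.mkOfDetNeZero _ hdet ∈
        Cfsg.stabilizing (Cfsg.glToMat (Fin n) F)
          {v : Fin n → F | ∀ i : Fin n, n - k ≤ (i : ℕ) → v i = 0} := by
      rw [Cfsg.Agent.S0771.mem_stab_iff]
      intro a' b' ha' hb'
      change Matrix.transvection a i₀ (1 : F) a' b' = 0
      have h1 : a' ≠ b' := by
        intro h; rw [h] at ha'; omega
      have h3 : ¬ (a = a' ∧ i₀ = b') := by
        rintro ⟨rfl, rfl⟩
        rcases hcond with h | h <;> omega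
      simp [Matrix.transvection, Matrix.one_apply, Matrix.single_apply, h1, h3]
    have h1 := hinv _ hmem u hu
    have h3 : ((Matrix.GeneralLinearGroup.mkOfDetNeZero _ hdet : Matrix.GeneralLinearGroup (Fin n) F) :
        Matrix (Fin n) (Fin n) F) *ᵥ u = u + u i₀ • (Pi.single a (1 : F) : Fin n → F) := by
      change Matrix.transvection a i₀ (1 : F) *ᵥ u = _
      rw [Matrix.transvection, Matrix.add_mulVec, Matrix.one_mulVec, Matrix.single_mulVec]
      congr 1
      ext x
      simp [Function.update_apply, Pi.single_apply]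
    rw [h3] at h1
    have h4 : u i₀ • (Pi.single a (1 : F) : Fin n → F) ∈ U := by
      have := U.sub_mem h1 hu
      simpa using this
    have := U.smul_mem (u i₀)⁻¹ h4
    rwa [smul_smul, inv_mul_cancel₀ hu0, one_smul] at this
  have hL : ∀ (S : Fin n → Prop) (u : Fin n → F) (i₀ : Fin n), u ∈ U → u i₀ ≠ 0 → S i₀ →
      (∀ a, ¬ S a → u a = 0) → (∀ a, S a → a ≠ i₀ → (Pi.single a (1 : F) : Fin n → F) ∈ U) →
      ∀ v : Fin n → F, (∀ a, ¬ S a → v a = 0) → v ∈ U := by
    intro S u i₀ hu hu0 hS hSu hSa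
    have hi₀ : (Pi.single i₀ (1 : F) : Fin n → F) ∈ U := by
      have hsum : u = ∑ a, u a • (Pi.single a (1 : F) : Fin n → F) := by
        ext i; simp [Finset.sum_apply, Pi.single_apply]
      rw [← Finset.add_sum_erase _ _ (Finset.mem_univ i₀)] at hsum
      have h4 : u i₀ • (Pi.single i₀ (1 : F) : Fin n → F) ∈ U := by
        have : u i₀ • (Pi.single i₀ (1 : F) : Fin n → F) =
            u - ∑ a ∈ Finset.univ.erase i₀, u a • (Pi.single a (1 : F) : Fin n → F) := by
          rw [eq_sub_iff_add_eq]; exact hsum.symm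
        rw [this]
        apply U.sub_mem hu
        apply U.sum_mem
        intro a ha
        by_cases hSa' : S a
        · exact U.smul_mem _ (hSa a hSa' (Finset.ne_of_mem_erase ha))
        · rw [hSu a hSa', zero_smul]; exact U.zero_mem
      have := U.smul_mem (u i₀)⁻¹ h4
      rwa [smul_smul, inv_mul_cancel₀ hu0, one_smul] at this
    intro v hv
    have hsum : v = ∑ a, v a • (Pi.single a (1 : F) : Fin n → F) := by
      ext i; simp [Finset.sum_apply, Pi.single_apply]
    rw [hsum]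
    apply U.sum_mem
    intro a _
    by_cases hSa' : S a
    · by_cases ha : a = i₀
      · rw [ha]; exact U.smul_mem _ hi₀
      · exact U.smul_mem _ (hSa a hSa' ha)
    · rw [hv a hSa', zero_smul]; exact U.zero_mem
  by_cases hA : ∃ u ∈ U, ∃ i₀ : Fin n, n - k ≤ (i₀ : ℕ) ∧ u i₀ ≠ 0
  · obtain ⟨u, hu, i₀, hi₀, hu0⟩ := hA
    have hall : ∀ v : Fin n → F, v ∈ U := fun v =>
      hL (fun _ => True) u i₀ hu hu0 trivial (fun a ha => absurd trivial ha)
        (fun a _ hne => htrans a i₀ hne (Or.inl hi₀) u hu hu0) v (fun a ha => absurd trivial ha)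
    obtain ⟨w, hw, hw2⟩ := hall ((g : Matrix (Fin n) (Fin n) F) *ᵥ Pi.single ⟨k, hkn⟩ 1)
    have hw3 : w = Pi.single ⟨k, hkn⟩ 1 := hcancel _ _ hw2
    rw [hw3] at hw
    have := hw ⟨k, hkn⟩ (le_refl _)
    simp at this
  · push Not at hA
    have hUle : U ≤ coordSub n F (n - k) := fun u hu i hi => hA u hu i hi
    have he0 : (Pi.single ⟨0, by omega⟩ (1 : F) : Fin n → F) ∈ coordSub n F k := by
      intro i hi
      have : i ≠ ⟨0, by omega⟩ := by
        intro h
        rw [h] at hi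
        simp at hi
        omega
      simp [this]
    have hu := hUmem _ he0
    have hune : (g : Matrix (Fin n) (Fin n) F) *ᵥ (Pi.single ⟨0, by omega⟩ (1 : F) : Fin n → F) ≠ 0 := by
      intro h
      have h' : (g : Matrix (Fin n) (Fin n) F) *ᵥ (Pi.single ⟨0, by omega⟩ (1 : F) : Fin n → F) =
          (g : Matrix (Fin n) (Fin n) F) *ᵥ 0 := by rw [h, Matrix.mulVec_zero]
      have := congrFun (hcancel _ _ h') ⟨0, by omega⟩
      simp at this
    obtain ⟨i₀, hi₀⟩ : ∃ i₀, ((g : Matrix (Fin n) (Fin n) F) *ᵥ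
        (Pi.single ⟨0, by omega⟩ (1 : F) : Fin n → F)) i₀ ≠ 0 := by
      by_contra hcon
      push Not at hcon
      exact hune (funext hcon)
    have hi₀j : (i₀ : ℕ) < n - k := by
      by_contra hcon
      exact hi₀ (hA _ hu i₀ (by omega))
    have hWle : coordSub n F (n - k) ≤ U := fun v hv =>
      hL (fun a => (a : ℕ) < n - k) _ i₀ hu hi₀ hi₀j (fun a ha => hA _ hu a (by omega))
        (fun a ha hne => htrans a i₀ hne (Or.inr ha) _ hu hi₀) v (fun a ha => hv a (by omega))
    have hUeq : U = coordSub n F (n - k) := le_antisymm hUle hWle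
    have hinj : Function.Injective (Matrix.toLin' (g : Matrix (Fin n) (Fin n) F)) := by
      intro a b hab
      exact hcancel a b hab
    have hfr : Module.finrank F U = Module.finrank F (coordSub n F k) :=
      (Submodule.equivMapOfInjective _ hinj (coordSub n F k)).finrank_eq.symm
    rw [hUeq] at hfr
    rcases Nat.lt_or_gt_of_ne (show k ≠ n - k by omega) with hlt | hgt
    · have := Submodule.finrank_lt_finrank_of_lt (coordSub_lt n F k (n - k) hlt (by omega))
      omega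
    · have := Submodule.finrank_lt_finrank_of_lt (coordSub_lt n F (n - k) k hgt (by omega))
      omega

/-- The stabilisers in GL_n(F), F finite, of the coordinate subspaces of dimensions k and n − k are isomorphic groups, but when 2k ≠ n (and 0 < k < n) no element of GL_n conjugates one onto the other. -/
theorem result {F : Type*} [Field F] [Finite F] (n k : ℕ) (hk0 : 0 < k) (hkn : k < n) (h2 : 2 * k ≠ n) : Nonempty (↥(Cfsg.stabilizing (Cfsg.glToMat (Fin n) F) {v : Fin n → F | ∀ i : Fin n, k ≤ (i : ℕ) → v i = 0}) ≃* ↥(Cfsg.stabilizing (Cfsg.glToMat (Fin n) F) {v : Fin n → F | ∀ i : Fin n, n - k ≤ (i : ℕ) → v i = 0})) ∧ ∀ g : Matrix.GeneralLinearGroup (Fin n) F, (Cfsg.stabilizing (Cfsg.glToMat (Fin n) F) {v : Fin n → F | ∀ i : Fin n, k ≤ (i : ℕ) → v i = 0}).map (MulAut.conj g).toMonoidHom ≠ Cfsg.stabilizing (Cfsg.glToMat (Fin n) F) {v : Fin n → F | ∀ i : Fin n, n - k ≤ (i : ℕ) → v i = 0} := by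
  classical
  refine ⟨⟨?_⟩, fun g => not_conj n k hk0 hkn h2 g⟩
  have hnk : n - (n - k) = k := by omega
  exact
    { toFun := fun g => ⟨revInvT n F g.1, revInvT_mem n k F g.1 g.2⟩
      invFun := fun h => ⟨revInvT n F h.1, by
        have := revInvT_mem n (n - k) F h.1 h.2
        rw [hnk] at this
        exact this⟩
      left_inv := fun g => Subtype.ext (revInvT_revInvT n F g.1)
      right_inv := fun h => Subtype.ext (revInvT_revInvT n F h.1)
      map_mul' := fun g h => Subtype.ext (revInvT_mul n F g.1 h.1) }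

end Cfsg.Agent.S0773
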