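import Cfsg.Statements.S0774
import Cfsg.Agent.Lib.helper17.Stab

set_option autoImplicit false
open Cfsg

namespace Cfsg.Agent.S0774

open Matrix Cfsg.Agent.Lib.helper17

/-- The coordinate flag subspace `⟨e_0, …, e_k⟩`. -/
def flagSub (m : ℕ) (F : Type*) [Field F] (k : Fin m) : Submodule F (Fin m ⊕ Fin m → F) where
  carrier := {v | (∀ i : Fin m, (k : ℕ) < (i : ℕ) → v (Sum.inl i) = 0) ∧ ∀ i : Fin m, v (Sum.inr i) = 0}
  add_mem' := by
    intro a b ha hb
    refine ⟨fun i hi => ?_, fun i => ?_⟩
    · simp [ha.1 i hi, hb.1 i hi]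
    · simp [ha.2 i, hb.2 i]
  zero_mem' := ⟨fun i _ => rfl, fun i => rfl⟩
  smul_mem' := by
    intro c a ha
    refine ⟨fun i hi => ?_, fun i => ?_⟩
    · simp [ha.1 i hi]
    · simp [ha.2 i]

theorem mem_borel_iff {F : Type*} [Field F] (m : ℕ) (A : Matrix.symplecticGroup (Fin m) F) :
    A ∈ (⨅ k : Fin m, Cfsg.stabilizing (Cfsg.spToMat m F) {v : Fin m ⊕ Fin m → F |
      (∀ i : Fin m, (k : ℕ) < (i : ℕ) → v (Sum.inl i) = 0) ∧ ∀ i : Fin m, v (Sum.inr i) = 0}) ↔
      (A : Matrix (Fin m ⊕ Fin m) (Fin m ⊕ Fin m) F).toBlocks₂₁ = 0 ∧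
        ∀ i j : Fin m, j < i → (A : Matrix (Fin m ⊕ Fin m) (Fin m ⊕ Fin m) F).toBlocks₁₁ i j = 0 := by
  rw [Subgroup.mem_iInf]
  have hk : ∀ k : Fin m, (A ∈ Cfsg.stabilizing (Cfsg.spToMat m F) {v : Fin m ⊕ Fin m → F |
      (∀ i : Fin m, (k : ℕ) < (i : ℕ) → v (Sum.inl i) = 0) ∧ ∀ i : Fin m, v (Sum.inr i) = 0}) ↔
      ∀ v ∈ flagSub m F k, (A : Matrix (Fin m ⊕ Fin m) (Fin m ⊕ Fin m) F) *ᵥ v ∈ flagSub m F k :=
    fun k => mem_stabilizing_iff_maps (Cfsg.spToMat m F) (flagSub m F k) A
  simp only [hk]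
  constructor
  · intro h
    constructor
    · ext i j
      have hmem : (Pi.single (Sum.inl j) (1 : F) : Fin m ⊕ Fin m → F) ∈ flagSub m F j := by
        refine ⟨fun i hi => ?_, fun i => ?_⟩
        · have : i ≠ j := by rintro rfl; omega
          simp [this]
        · simp
      have := (h j _ hmem).2 i
      simpa [Matrix.mulVec_single, Matrix.toBlocks₂₁] using this
    · intro i j hji
      have hmem : (Pi.single (Sum.inl j) (1 : F) : Fin m ⊕ Fin m → F) ∈ flagSub m F j := by
        refine ⟨fun i hi => ?_, fun i => ?_⟩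
        · have : i ≠ j := by rintro rfl; omega
          simp [this]
        · simp
      have := (h j _ hmem).1 i hji
      simpa [Matrix.mulVec_single, Matrix.toBlocks₁₁] using this
  · rintro ⟨h21, hup⟩ k v ⟨hv1, hv2⟩
    have hAeq := (Matrix.fromBlocks_toBlocks (A : Matrix (Fin m ⊕ Fin m) (Fin m ⊕ Fin m) F)).symm
    have hvr : v ∘ Sum.inr = 0 := funext hv2
    refine ⟨fun i hi => ?_, fun i => ?_⟩
    · rw [hAeq, Matrix.fromBlocks_mulVec, Sum.elim_inl, hvr, Matrix.mulVec_zero, add_zero]
      simp only [Matrix.mulVec, dotProduct]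
      apply Finset.sum_eq_zero
      intro j _
      by_cases hj : (j : ℕ) ≤ (k : ℕ)
      · rw [hup i j (by rw [Fin.lt_def]; omega), zero_mul]
      · rw [Function.comp_apply, hv1 j (by omega), mul_zero]
    · rw [hAeq, Matrix.fromBlocks_mulVec, Sum.elim_inr, hvr, Matrix.mulVec_zero, add_zero, h21,
        Matrix.zero_mulVec]
      rfl

/-- Upper triangular matrix with prescribed unit diagonal and strictly upper entries from `M`. -/
def upperPart (m : ℕ) {F : Type*} [Field F] (d : Fin m → Fˣ) (M : Matrix (Fin m) (Fin m) F) :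
    Matrix (Fin m) (Fin m) F :=
  Matrix.of fun i j => if i = j then (d i : F) else if i < j then M i j else 0

/-- Symmetric matrix with lower triangle (including the diagonal) from `M`. -/
def symmPart (m : ℕ) {F : Type*} [Field F] (M : Matrix (Fin m) (Fin m) F) : Matrix (Fin m) (Fin m) F :=
  Matrix.of fun i j => if j ≤ i then M i j else M j i

theorem symmPart_transpose (m : ℕ) {F : Type*} [Field F] (M : Matrix (Fin m) (Fin m) F) :
    (symmPart m M)ᵀ = symmPart m M := by
  ext i j
  simp only [symmPart, Matrix.transpose_apply, Matrix.of_apply]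
  rcases lt_trichotomy i j with h | h | h
  · rw [if_pos h.le, if_neg (not_le.mpr h)]
  · subst h; simp
  · rw [if_neg (not_le.mpr h), if_pos h.le]

theorem upperPart_det (m : ℕ) {F : Type*} [Field F] (d : Fin m → Fˣ) (M : Matrix (Fin m) (Fin m) F) :
    (upperPart m d M).det = ∏ i, (d i : F) := by
  rw [Matrix.det_of_isUpperTriangular]
  · apply Finset.prod_congr rfl
    intro i _
    simp [upperPart]
  · intro i j hij
    have hij' : j < i := hij
    simp only [upperPart, Matrix.of_apply]
    rw [if_neg (ne_of_gt hij'), if_neg (not_lt.mpr hij'.le)]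

theorem upperPart_isUnit_det (m : ℕ) {F : Type*} [Field F] (d : Fin m → Fˣ)
    (M : Matrix (Fin m) (Fin m) F) : IsUnit (upperPart m d M).det := by
  rw [upperPart_det, isUnit_iff_ne_zero, Finset.prod_ne_zero_iff]
  intro i _
  exact (d i).ne_zero

/-- The Borel element attached to `(d, M)`. -/
noncomputable def borelMat (m : ℕ) {F : Type*} [Field F] (d : Fin m → Fˣ) (M : Matrix (Fin m) (Fin m) F) :
    Matrix (Fin m ⊕ Fin m) (Fin m ⊕ Fin m) F :=
  fromBlocks (upperPart m d M) (upperPart m d M * symmPart m M) 0 ((upperPart m d M)⁻¹)ᵀ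

theorem borelMat_mem (m : ℕ) {F : Type*} [Field F] (d : Fin m → Fˣ) (M : Matrix (Fin m) (Fin m) F) :
    borelMat m d M ∈ Matrix.symplecticGroup (Fin m) F := by
  unfold borelMat
  rw [SymplecticGroup.fromBlocks_mem_iff]
  have hu := upperPart_isUnit_det m d M
  refine ⟨by simp, ?_, ?_⟩
  · rw [Matrix.transpose_transpose, Matrix.transpose_mul, symmPart_transpose, Matrix.mul_assoc,
      ← Matrix.transpose_mul, Matrix.nonsing_inv_mul _ hu, Matrix.transpose_one, Matrix.mul_one,
      ← Matrix.mul_assoc, Matrix.nonsing_inv_mul _ hu, Matrix.one_mul]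
  · rw [← Matrix.transpose_mul, Matrix.nonsing_inv_mul _ hu]
    simp

/-- Borel subgroup of the symplectic group: the elements of Sp_2m(q) stabilising each of the totally isotropic coordinate subspaces ⟨e_0, ..., e_k⟩ (k < m) form a subgroup of order q^(m²) (q − 1)^m. -/
theorem result {F : Type*} [Field F] [Fintype F] {q : ℕ} (hF : Fintype.card F = q) (m : ℕ) : Nat.card ↥(⨅ k : Fin m, Cfsg.stabilizing (Cfsg.spToMat m F) {v : Fin m ⊕ Fin m → F | (∀ i : Fin m, (k : ℕ) < (i : ℕ) → v (Sum.inl i) = 0) ∧ ∀ i : Fin m, v (Sum.inr i) = 0}) = q ^ (m ^ 2) * (q - 1) ^ m := by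
  classical
  subst hF
  let Φ : (Fin m → Fˣ) × Matrix (Fin m) (Fin m) F →
      ↥(⨅ k : Fin m, Cfsg.stabilizing (Cfsg.spToMat m F) {v : Fin m ⊕ Fin m → F |
        (∀ i : Fin m, (k : ℕ) < (i : ℕ) → v (Sum.inl i) = 0) ∧ ∀ i : Fin m, v (Sum.inr i) = 0}) :=
    fun x => ⟨⟨borelMat m x.1 x.2, borelMat_mem m x.1 x.2⟩, by
      rw [mem_borel_iff]
      refine ⟨by simp [borelMat], ?_⟩
      intro i j hji
      simp only [borelMat, Matrix.toBlocks_fromBlocks₁₁, upperPart, Matrix.of_apply]
      rw [if_neg (ne_of_gt hji), if_neg (not_lt.mpr hji.le)]⟩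
  have hbij : Function.Bijective Φ := by
    constructor
    · intro x y hxy
      have h1 : borelMat m x.1 x.2 = borelMat m y.1 y.2 := by
        have := congrArg (fun z => ((z : Matrix.symplecticGroup (Fin m) F) :
          Matrix (Fin m ⊕ Fin m) (Fin m ⊕ Fin m) F)) (congrArg Subtype.val hxy)
        exact this
      unfold borelMat at h1
      rw [Matrix.fromBlocks_inj] at h1
      obtain ⟨hX, hXS, -, -⟩ := h1
      have hS : symmPart m x.2 = symmPart m y.2 := by
        have h2 : (upperPart m x.1 x.2)⁻¹ * (upperPart m x.1 x.2 * symmPart m x.2) =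
            (upperPart m x.1 x.2)⁻¹ * (upperPart m y.1 y.2 * symmPart m y.2) := by rw [hXS]
        rw [← Matrix.mul_assoc, Matrix.nonsing_inv_mul _ (upperPart_isUnit_det m x.1 x.2), Matrix.one_mul,
          hX, ← Matrix.mul_assoc, Matrix.nonsing_inv_mul _ (upperPart_isUnit_det m y.1 y.2),
          Matrix.one_mul] at h2
        exact h2
      apply Prod.ext
      · funext i
        apply Units.ext
        have := congrFun (congrFun hX i) i
        simpa [upperPart] using this
      · ext i j
        by_cases hij : i < j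
        · have := congrFun (congrFun hX i) j
          simpa [upperPart, ne_of_lt hij, hij] using this
        · have := congrFun (congrFun hS i) j
          simpa [symmPart, not_lt.mp hij] using this
    · intro ⟨A, hA⟩
      obtain ⟨h21, hup⟩ := (mem_borel_iff m A).mp hA
      have hAeq : (A : Matrix (Fin m ⊕ Fin m) (Fin m ⊕ Fin m) F) =
          fromBlocks (A : Matrix (Fin m ⊕ Fin m) (Fin m ⊕ Fin m) F).toBlocks₁₁
            (A : Matrix (Fin m ⊕ Fin m) (Fin m ⊕ Fin m) F).toBlocks₁₂ 0
            (A : Matrix (Fin m ⊕ Fin m) (Fin m ⊕ Fin m) F).toBlocks₂₂ := by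
        rw [← h21]; exact (Matrix.fromBlocks_toBlocks _).symm
      set X := (A : Matrix (Fin m ⊕ Fin m) (Fin m ⊕ Fin m) F).toBlocks₁₁ with hX
      set Y := (A : Matrix (Fin m ⊕ Fin m) (Fin m ⊕ Fin m) F).toBlocks₁₂ with hY
      set Z := (A : Matrix (Fin m ⊕ Fin m) (Fin m ⊕ Fin m) F).toBlocks₂₂ with hZ
      have hmem := A.2
      rw [hAeq, SymplecticGroup.fromBlocks_mem_iff] at hmem
      obtain ⟨-, hYZ, hXZ⟩ := hmem
      have hXZ' : Xᵀ * Z = 1 := by simpa using hXZ
      have hZX : Zᵀ * X = 1 := by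
        have := congrArg Matrix.transpose hXZ'
        simpa [Matrix.transpose_mul] using this
      have hXZt : X * Zᵀ = 1 := _root_.mul_eq_one_comm.mp hZX
      have hXdet : IsUnit X.det := by
        have := congrArg Matrix.det hXZt
        rw [Matrix.det_mul, Matrix.det_one] at this
        exact IsUnit.of_mul_eq_one _ this
      have hXinv : X⁻¹ = Zᵀ := Matrix.inv_eq_right_inv hXZt
      have hdiag : ∀ i, X i i ≠ 0 := by
        have hdet : X.det = ∏ i, X i i := Matrix.det_of_isUpperTriangular (fun i j hij => hup i j hij)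
        rw [hdet, isUnit_iff_ne_zero, Finset.prod_ne_zero_iff] at hXdet
        exact fun i => hXdet i (Finset.mem_univ i)
      have hSsymm : (Zᵀ * Y)ᵀ = Zᵀ * Y := by
        rw [Matrix.transpose_mul, Matrix.transpose_transpose]
        exact hYZ
      refine ⟨⟨fun i => Units.mk0 (X i i) (hdiag i),
        Matrix.of fun i j => if i < j then X i j else (Zᵀ * Y) i j⟩, ?_⟩
      have hU : upperPart m (fun i => Units.mk0 (X i i) (hdiag i))
          (Matrix.of fun i j => if i < j then X i j else (Zᵀ * Y) i j) = X := by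
        ext i j
        simp only [upperPart, Matrix.of_apply, Units.val_mk0]
        rcases lt_trichotomy i j with h | h | h
        · rw [if_neg (ne_of_lt h), if_pos h, if_pos h]
        · subst h; simp
        · rw [if_neg (ne_of_gt h), if_neg (not_lt.mpr h.le), hup i j h]
      have hS : symmPart m (Matrix.of fun i j => if i < j then X i j else (Zᵀ * Y) i j) = Zᵀ * Y := by
        ext i j
        simp only [symmPart, Matrix.of_apply]
        by_cases h : j ≤ i
        · rw [if_pos h, if_neg (not_lt.mpr h)]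
        · rw [if_neg h, if_neg (not_lt.mpr (not_le.mp h).le)]
          have := congrFun (congrFun hSsymm i) j
          rw [Matrix.transpose_apply] at this
          exact this
      apply Subtype.ext
      apply Subtype.ext
      change borelMat m _ _ = (A : Matrix (Fin m ⊕ Fin m) (Fin m ⊕ Fin m) F)
      unfold borelMat
      rw [hU, hS, hAeq, hXinv, Matrix.transpose_transpose, ← Matrix.mul_assoc, hXZt, Matrix.one_mul]
  rw [← Nat.card_eq_of_bijective Φ hbij, Nat.card_prod, Nat.card_eq_fintype_card, Nat.card_eq_fintype_card]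
  have h1 : Fintype.card (Fin m → Fˣ) = (Fintype.card F - 1) ^ m := by
    rw [Fintype.card_fun, Fintype.card_units, Fintype.card_fin]
  have h2 : Fintype.card (Matrix (Fin m) (Fin m) F) = Fintype.card F ^ (m ^ 2) := by
    change Fintype.card (Fin m → Fin m → F) = _
    simp only [Fintype.card_fun, Fintype.card_fin]
    rw [← pow_mul, sq]
  rw [h1, h2, mul_comm]

end Cfsg.Agent.S0774
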