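import Cfsg.Statements.S0778
-- import your own Cfsg.Agent.* helpers here

set_option autoImplicit false
open Cfsg

namespace Cfsg.Agent.S0778

open Matrix in
/-- The block diagonal embedding `X ↦ diag(X, X⁻ᵀ)` of `GL_m` into the symplectic group. -/
noncomputable def blockHom (m : ℕ) (F : Type*) [Field F] :
    Matrix.GeneralLinearGroup (Fin m) F →* Matrix.symplecticGroup (Fin m) F where
  toFun X := ⟨fromBlocks (X : Matrix (Fin m) (Fin m) F) 0 0
      ((X⁻¹ : Matrix.GeneralLinearGroup (Fin m) F) : Matrix (Fin m) (Fin m) F)ᵀ, by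
    rw [SymplecticGroup.fromBlocks_mem_iff]
    refine ⟨by simp, by simp, ?_⟩
    rw [← Matrix.transpose_mul, ← Units.val_mul, inv_mul_cancel]
    simp⟩
  map_one' := by
    apply Subtype.ext
    simp [Matrix.fromBlocks_one]
  map_mul' X Y := by
    apply Subtype.ext
    simp [Matrix.fromBlocks_multiply, Matrix.transpose_mul, _root_.mul_inv_rev]

open Matrix in
theorem blockHom_coe (m : ℕ) (F : Type*) [Field F] (X : Matrix.GeneralLinearGroup (Fin m) F) :
    ((blockHom m F X : Matrix.symplecticGroup (Fin m) F) : Matrix (Fin m ⊕ Fin m) (Fin m ⊕ Fin m) F) =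
      fromBlocks (X : Matrix (Fin m) (Fin m) F) 0 0
      ((X⁻¹ : Matrix.GeneralLinearGroup (Fin m) F) : Matrix (Fin m) (Fin m) F)ᵀ := rfl

open Matrix in
theorem blockHom_mem (m : ℕ) (F : Type*) [Field F] (X : Matrix.GeneralLinearGroup (Fin m) F) :
    blockHom m F X ∈
      Cfsg.stabilizing (Cfsg.spToMat m F) {v : Fin m ⊕ Fin m → F | ∀ i : Fin m, v (Sum.inr i) = 0} ⊓
      Cfsg.stabilizing (Cfsg.spToMat m F) {v : Fin m ⊕ Fin m → F | ∀ i : Fin m, v (Sum.inl i) = 0} := by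
  have hXX : ((X⁻¹ : Matrix.GeneralLinearGroup (Fin m) F) : Matrix (Fin m) (Fin m) F) *
      (X : Matrix (Fin m) (Fin m) F) = 1 := by
    rw [← Units.val_mul, inv_mul_cancel, Units.val_one]
  have hXX' : (X : Matrix (Fin m) (Fin m) F)ᵀ *
      ((X⁻¹ : Matrix.GeneralLinearGroup (Fin m) F) : Matrix (Fin m) (Fin m) F)ᵀ = 1 := by
    rw [← Matrix.transpose_mul, hXX, Matrix.transpose_one]
  refine Subgroup.mem_inf.mpr ⟨?_, ?_⟩
  · intro v
    show v ∈ {v : Fin m ⊕ Fin m → F | ∀ i : Fin m, v (Sum.inr i) = 0} ↔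
      (fromBlocks (X : Matrix (Fin m) (Fin m) F) 0 0
        ((X⁻¹ : Matrix.GeneralLinearGroup (Fin m) F) : Matrix (Fin m) (Fin m) F)ᵀ) *ᵥ v ∈
        {v : Fin m ⊕ Fin m → F | ∀ i : Fin m, v (Sum.inr i) = 0}
    simp only [Set.mem_ofPred_eq, Matrix.fromBlocks_mulVec, Sum.elim_inr, Matrix.zero_mulVec, zero_add]
    constructor
    · intro hv i
      have : v ∘ Sum.inr = 0 := funext hv
      rw [this, Matrix.mulVec_zero]; rfl
    · intro hv i
      have h0 : ((X⁻¹ : Matrix.GeneralLinearGroup (Fin m) F) : Matrix (Fin m) (Fin m) F)ᵀ *ᵥ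
          (v ∘ Sum.inr) = 0 := funext hv
      have := congrArg (fun y => (X : Matrix (Fin m) (Fin m) F)ᵀ *ᵥ y) h0
      simp only [Matrix.mulVec_mulVec, hXX', Matrix.one_mulVec, Matrix.mulVec_zero] at this
      exact congrFun this i
  · intro v
    show v ∈ {v : Fin m ⊕ Fin m → F | ∀ i : Fin m, v (Sum.inl i) = 0} ↔
      (fromBlocks (X : Matrix (Fin m) (Fin m) F) 0 0
        ((X⁻¹ : Matrix.GeneralLinearGroup (Fin m) F) : Matrix (Fin m) (Fin m) F)ᵀ) *ᵥ v ∈
        {v : Fin m ⊕ Fin m → F | ∀ i : Fin m, v (Sum.inl i) = 0}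
    simp only [Set.mem_ofPred_eq, Matrix.fromBlocks_mulVec, Sum.elim_inl, Matrix.zero_mulVec, add_zero]
    constructor
    · intro hv i
      have : v ∘ Sum.inl = 0 := funext hv
      rw [this, Matrix.mulVec_zero]; rfl
    · intro hv i
      have h0 : (X : Matrix (Fin m) (Fin m) F) *ᵥ (v ∘ Sum.inl) = 0 := funext hv
      have := congrArg (fun y => ((X⁻¹ : Matrix.GeneralLinearGroup (Fin m) F) :
        Matrix (Fin m) (Fin m) F) *ᵥ y) h0
      simp only [Matrix.mulVec_mulVec, hXX, Matrix.one_mulVec, Matrix.mulVec_zero] at this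
      exact congrFun this i

/-- The elements of Sp_2m(F) stabilising both W = ⟨e_1..e_m⟩ and U = ⟨f_1..f_m⟩ form a subgroup isomorphic to GL_m(F) (block-diagonal matrices diag(X, X^(−ᵀ)) up to the sign convention of J), for m ≥ 1 or m = 0 alike. -/
theorem result {F : Type*} [Field F] (m : ℕ) : Nonempty (↥(Cfsg.stabilizing (Cfsg.spToMat m F) {v : Fin m ⊕ Fin m → F | ∀ i : Fin m, v (Sum.inr i) = 0} ⊓ Cfsg.stabilizing (Cfsg.spToMat m F) {v : Fin m ⊕ Fin m → F | ∀ i : Fin m, v (Sum.inl i) = 0}) ≃* Matrix.GeneralLinearGroup (Fin m) F) := by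
  open Matrix in
  classical
  have hinj : Function.Injective ((blockHom m F).codRestrict _ (blockHom_mem m F)) := by
    intro X Y hXY
    have h1 : blockHom m F X = blockHom m F Y := congrArg Subtype.val hXY
    have h2 := congrArg (fun A : Matrix.symplecticGroup (Fin m) F =>
      (A : Matrix (Fin m ⊕ Fin m) (Fin m ⊕ Fin m) F)) h1
    simp only [blockHom_coe] at h2
    exact Units.ext (Matrix.fromBlocks_inj.mp h2).1
  have hsurj : Function.Surjective ((blockHom m F).codRestrict _ (blockHom_mem m F)) := by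
    rintro ⟨A, hA⟩
    obtain ⟨hA1, hA2⟩ := Subgroup.mem_inf.mp hA
    -- the blocks of `A`
    have hZ : (A : Matrix (Fin m ⊕ Fin m) (Fin m ⊕ Fin m) F).toBlocks₂₁ = 0 := by
      ext i j
      have hmem : (Pi.single (Sum.inl j) (1 : F) : Fin m ⊕ Fin m → F) ∈
          {v : Fin m ⊕ Fin m → F | ∀ i : Fin m, v (Sum.inr i) = 0} := by
        intro i
        simp
      have := (hA1 _).mp hmem i
      simpa [Matrix.mulVec_single, Matrix.toBlocks₂₁] using this
    have hY : (A : Matrix (Fin m ⊕ Fin m) (Fin m ⊕ Fin m) F).toBlocks₁₂ = 0 := by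
      ext i j
      have hmem : (Pi.single (Sum.inr j) (1 : F) : Fin m ⊕ Fin m → F) ∈
          {v : Fin m ⊕ Fin m → F | ∀ i : Fin m, v (Sum.inl i) = 0} := by
        intro i
        simp
      have := (hA2 _).mp hmem i
      simpa [Matrix.mulVec_single, Matrix.toBlocks₁₂] using this
    have hAblocks : (A : Matrix (Fin m ⊕ Fin m) (Fin m ⊕ Fin m) F) =
        fromBlocks (A : Matrix (Fin m ⊕ Fin m) (Fin m ⊕ Fin m) F).toBlocks₁₁ 0 0
          (A : Matrix (Fin m ⊕ Fin m) (Fin m ⊕ Fin m) F).toBlocks₂₂ := by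
      conv_lhs => rw [← Matrix.fromBlocks_toBlocks (A : Matrix (Fin m ⊕ Fin m) (Fin m ⊕ Fin m) F), hZ, hY]
    have hmemA := A.2
    rw [hAblocks, SymplecticGroup.fromBlocks_mem_iff] at hmemA
    have h1 : (A : Matrix (Fin m ⊕ Fin m) (Fin m ⊕ Fin m) F).toBlocks₁₁ᵀ *
        (A : Matrix (Fin m ⊕ Fin m) (Fin m ⊕ Fin m) F).toBlocks₂₂ = 1 := by
      have := hmemA.2.2
      simpa using this
    have h2 : (A : Matrix (Fin m ⊕ Fin m) (Fin m ⊕ Fin m) F).toBlocks₂₂ᵀ *
        (A : Matrix (Fin m ⊕ Fin m) (Fin m ⊕ Fin m) F).toBlocks₁₁ = 1 := by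
      have := congrArg Matrix.transpose h1
      simpa [Matrix.transpose_mul] using this
    have h3 : (A : Matrix (Fin m ⊕ Fin m) (Fin m ⊕ Fin m) F).toBlocks₁₁ *
        (A : Matrix (Fin m ⊕ Fin m) (Fin m ⊕ Fin m) F).toBlocks₂₂ᵀ = 1 :=
      _root_.mul_eq_one_comm.mp h2
    refine ⟨⟨(A : Matrix (Fin m ⊕ Fin m) (Fin m ⊕ Fin m) F).toBlocks₁₁,
      (A : Matrix (Fin m ⊕ Fin m) (Fin m ⊕ Fin m) F).toBlocks₂₂ᵀ, h3, h2⟩, ?_⟩
    apply Subtype.ext
    apply Subtype.ext
    show ((blockHom m F _ : Matrix.symplecticGroup (Fin m) F) :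
      Matrix (Fin m ⊕ Fin m) (Fin m ⊕ Fin m) F) = (A : Matrix (Fin m ⊕ Fin m) (Fin m ⊕ Fin m) F)
    rw [blockHom_coe]
    refine Eq.trans ?_ hAblocks.symm
    simp
  exact ⟨(MulEquiv.ofBijective _ ⟨hinj, hsurj⟩).symm⟩

end Cfsg.Agent.S0778
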