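import Cfsg.Statements.S0779
import Cfsg.Agent.Lib.helper17.Herm

set_option autoImplicit false
open Cfsg

namespace Cfsg.Agent.S0779

/-- Unitary transvections: let |F| = q², h the standard Hermitian form Σ x_i y_i^q and v ≠ 0 with h(v, v) = 0. The linear map x ↦ x + c h(x, v) v is an isometry of h if and only if c = 0 or c^(q−1) = −1. -/
theorem result {F : Type*} [Field F] [Fintype F] {q : ℕ} (hF : Fintype.card F = q ^ 2) (n : ℕ) (v : Fin n → F) (hv : v ≠ 0) (hv0 : Cfsg.hermForm n F q v v = 0) (c : F) : (∀ x y : Fin n → F, Cfsg.hermForm n F q ((Cfsg.unitaryTransvection n q v c).mulVec x) ((Cfsg.unitaryTransvection n q v c).mulVec y) = Cfsg.hermForm n F q x y) ↔ (c = 0 ∨ c ^ (q - 1) = -1) := by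
  open Cfsg.Agent.Lib.helper17 in
  have hq2 := two_le_of_card_eq_sq hF
  simp only [hermForm_unitaryTransvection hF n v hv0 c]
  constructor
  · intro h
    obtain ⟨i, hi⟩ : ∃ i, v i ≠ 0 := by
      by_contra hcon
      push Not at hcon
      exact hv (funext hcon)
    have h1 := h (Pi.single i 1) (Pi.single i 1)
    have e1 : hermForm n F q (Pi.single i 1) v = v i ^ q := by
      unfold hermForm
      simp [Pi.single_apply]
    have e2 : hermForm n F q v (Pi.single i 1) = v i := by
      unfold hermForm
      rw [Finset.sum_eq_single i]
      · simp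
      · intro j _ hj
        simp [Pi.single_apply, hj, zero_pow (by omega : q ≠ 0)]
      · simp
    rw [e1, e2] at h1
    have h2 : (c ^ q + c) * (v i ^ q * v i) = 0 := by linear_combination h1
    have h3 : c ^ q + c = 0 := by
      rcases mul_eq_zero.mp h2 with h | h
      · exact h
      · exact absurd h (mul_ne_zero (pow_ne_zero _ hi) hi)
    by_cases hc : c = 0
    · left; exact hc
    · right
      have : c ^ (q - 1) * c = -1 * c := by
        rw [← pow_succ, Nat.sub_add_cancel (by omega)]
        linear_combination h3
      exact mul_right_cancel₀ hc this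
  · rintro (rfl | hc)
    · intro x y
      simp [zero_pow (by omega : q ≠ 0)]
    · intro x y
      have : c ^ q = -c := by
        have : c ^ q = c ^ (q - 1) * c := by rw [← pow_succ, Nat.sub_add_cancel (by omega)]
        rw [this, hc]
        ring
      rw [this]
      ring

end Cfsg.Agent.S0779
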