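import Cfsg.Statements.S0782
import Cfsg.Agent.Lib.helper17.UArith
import Cfsg.Agent.Lib.helper17.UParab

set_option autoImplicit false
open Cfsg

namespace Cfsg.Agent.S0782

/-- Maximal parabolics of SU_n(q): if W is a k-dimensional subspace of F^n (n ≥ 1, |F| = q²) on which the Hermitian form vanishes, then (q + 1) times the order of its stabiliser in SU_n(q) equals q^(k(2n−3k)) · |GL_k(q²)| · |GU_(n−2k)(q)|, where |GU_m(q)| = q^(m(m−1)/2) Π_(i=1..m) (q^i − (−1)^i). -/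
theorem result {F : Type*} [Field F] [Fintype F] {q : ℕ} (hF : Fintype.card F = q ^ 2) (n k : ℕ) (hn : 1 ≤ n) (hk : 2 * k ≤ n) (W : Submodule F (Fin n → F)) (hWk : Module.finrank F W = k) (hW : ∀ u ∈ W, ∀ v ∈ W, Cfsg.hermForm n F q u v = 0) : (q + 1) * Nat.card ↥((Cfsg.stabilizing (Cfsg.slToMat n F) (W : Set (Fin n → F))).subgroupOf (Cfsg.SU n F q)) = q ^ (k * (2 * n - 3 * k)) * (∏ i : Fin k, ((q ^ 2) ^ k - (q ^ 2) ^ (i : ℕ))) * (q ^ ((n - 2 * k) * ((n - 2 * k) - 1) / 2) * ∏ i ∈ Finset.range (n - 2 * k), (if Even i then q ^ (i + 1) + 1 else q ^ (i + 1) - 1)) := by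
  open Cfsg.Agent.Lib.helper17 Matrix in
  classical
  have hq2 := two_le_of_card_eq_sq hF
  have htrans : ∀ x₀ x : Fin k → (Fin n → F), LinearIndependent F x₀ → LinearIndependent F x →
      (∀ i, x₀ i ∈ W) → (∀ i, x i ∈ W) → ∃ g : GU n F q, ∀ i, guToMat n F q g *ᵥ x₀ i = x i := by
    intro x₀ x hx₀ hx hx₀W hxW
    exact gu_witt_family hF n x₀ x hx₀ hx
      (fun i j => by rw [hW _ (hx₀W i) _ (hx₀W j), hW _ (hxW i) _ (hxW j)])
  obtain ⟨x₀, hx₀, hx₀W, hP⟩ := card_stabilizing_eq (guToMat n F q) W hWk htrans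
  have hx₀iso : ∀ i j, hermForm n F q (x₀ i) (x₀ j) = 0 := fun i j => hW _ (hx₀W i) _ (hx₀W j)
  have hGU := card_eq_card_frames_mul (guToMat n F q) (UFrame n F q k) x₀
    (fun g => ⟨toMat_linearIndependent (guToMat n F q) g x₀ hx₀, fun i j => by
      rw [guToMat_preserves]
      exact hx₀iso i j⟩)
    (fun x hx => gu_witt_family hF n x₀ x hx₀ hx.1 (fun i j => by rw [hx₀iso, hx.2]))
  have hSpos : 0 < Nat.card (UFrame n F q k) := by
    have : Nonempty (UFrame n F q k) := ⟨⟨x₀, hx₀, hx₀iso⟩⟩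
    exact Nat.card_pos
  rw [card_UFrame hF n k hk] at hGU hSpos
  have hU : ∀ m, Nat.card (GU (m + 2) F q) =
      q ^ (2 * m + 1) * ((Cfsg.Agent.Lib.helper7.hermCount q (m + 2)).2 - 1) * Nat.card (GU m F q) := by
    intro m
    rw [Cfsg.Agent.Lib.helper7.card_GU hF, Cfsg.Agent.Lib.helper7.card_GU hF]
    exact guOrd_rec q hq2 m
  have harith := gu_arith q (fun m => Nat.card (GU m F q))
    (fun m => (Cfsg.Agent.Lib.helper7.hermCount q m).2) hU n k hk
  have harith' : Nat.card (GU n F q) =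
      (∏ j ∈ Finset.range k, (q ^ 2) ^ j * ((Cfsg.Agent.Lib.helper7.hermCount q (n - 2 * j)).2 - 1)) *
        q ^ (k * (2 * n - 3 * k)) * Nat.card (GU (n - 2 * k) F q) := harith
  rw [harith'] at hGU
  have hfs : Nat.card (frameStabG (guToMat n F q) x₀) =
      q ^ (k * (2 * n - 3 * k)) * Nat.card (GU (n - 2 * k) F q) := by
    apply Nat.eq_of_mul_eq_mul_left hSpos
    rw [← hGU]
    ring
  rw [← card_stab_GU_eq hF n hn W hW, hP, hfs, Cfsg.Agent.Lib.helper7.card_GU hF, hF]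
  ring

end Cfsg.Agent.S0782
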