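import Cfsg.Statements.S0783
import Cfsg.Agent.Lib.helper17.GUdet

set_option autoImplicit false
open Cfsg

namespace Cfsg.Agent.S0783

/-- PGU_n(q)/PSU_n(q) is cyclic of order (n, q+1): for n ≥ 2 and |F| = q² there is a surjective homomorphism from GU_n(q) onto the cyclic group of order gcd(n, q + 1) whose kernel is generated by the determinant-one elements together with the centre. -/
theorem result {F : Type*} [Field F] [Fintype F] {q : ℕ} (hF : Fintype.card F = q ^ 2) (n : ℕ) (hn : 2 ≤ n) : ∃ φ : ↥(Cfsg.GU n F q) →* Multiplicative (ZMod (Nat.gcd n (q + 1))), Function.Surjective φ ∧ φ.ker = (Matrix.GeneralLinearGroup.det : Matrix.GeneralLinearGroup (Fin n) F →* Fˣ).ker.subgroupOf (Cfsg.GU n F q) ⊔ Subgroup.center ↥(Cfsg.GU n F q) := by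
  open Cfsg.Agent.Lib.helper17 in
  classical
  have hq := two_le_of_card_eq_sq hF
  have hd : Nat.gcd n (q + 1) ∣ Nat.card (rootsUnity F q) := by
    rw [card_rootsUnity hF]; exact Nat.gcd_dvd_right _ _
  obtain ⟨ψ, hψs, hψk⟩ := exists_hom_zmod_of_cyclic (M := rootsUnity F q) _ hd
  refine ⟨ψ.comp (detGU hF n), hψs.comp (detGU_surjective hF n (by omega)), ?_⟩
  apply le_antisymm
  · intro g hg
    rw [MonoidHom.mem_ker, MonoidHom.comp_apply] at hg
    obtain ⟨b, hb⟩ := hψk _ hg
    have hbez := Nat.gcd_eq_gcd_ab n (q + 1)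
    have hl : (b ^ (Nat.gcdA n (q + 1))) ^ n = detGU hF n g := by
      rw [hb]
      have h1 : b ^ (Nat.gcd n (q + 1)) = b ^ ((Nat.gcd n (q + 1) : ℕ) : ℤ) := (zpow_natCast _ _).symm
      have h2 : b ^ (((q + 1 : ℕ) : ℤ) * Nat.gcdB n (q + 1)) = 1 := by
        rw [zpow_mul, zpow_natCast, rootsUnity_pow' q b, one_zpow]
      rw [h1, hbez, zpow_add, h2, mul_one, mul_comm (n : ℤ), zpow_mul, zpow_natCast]
    have hzc : scalarGU n q (b ^ (Nat.gcdA n (q + 1))) ∈ Subgroup.center (GU n F q) :=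
      scalarGU_mem_center n q _
    have hdz : detGU hF n (scalarGU n q (b ^ (Nat.gcdA n (q + 1)))) = detGU hF n g := by
      rw [detGU_scalarGU, hl]
    have hs : g * (scalarGU n q (b ^ (Nat.gcdA n (q + 1))))⁻¹ ∈
        (Matrix.GeneralLinearGroup.det : Matrix.GeneralLinearGroup (Fin n) F →* Fˣ).ker.subgroupOf
          (Cfsg.GU n F q) := by
      rw [Subgroup.mem_subgroupOf, MonoidHom.mem_ker]
      have h3 : detGU hF n (g * (scalarGU n q (b ^ (Nat.gcdA n (q + 1))))⁻¹) = 1 := by
        rw [map_mul, map_inv, hdz, mul_inv_cancel]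
      have h4 := congrArg (fun x : rootsUnity F q => (x : Fˣ)) h3
      exact h4
    have : g = (g * (scalarGU n q (b ^ (Nat.gcdA n (q + 1))))⁻¹) *
        scalarGU n q (b ^ (Nat.gcdA n (q + 1))) := by rw [inv_mul_cancel_right]
    rw [this]
    exact Subgroup.mul_mem_sup hs hzc
  · apply sup_le
    · intro g hg
      rw [Subgroup.mem_subgroupOf, MonoidHom.mem_ker] at hg
      rw [MonoidHom.mem_ker, MonoidHom.comp_apply]
      have : detGU hF n g = 1 := Subtype.ext hg
      rw [this, map_one]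
    · intro z hz
      obtain ⟨l, rfl⟩ := center_GU_scalar hF n (by omega) z hz
      rw [MonoidHom.mem_ker, MonoidHom.comp_apply, detGU_scalarGU, map_pow]
      apply Multiplicative.toAdd.injective
      rw [toAdd_pow, toAdd_one, nsmul_eq_mul,
        (ZMod.natCast_eq_zero_iff n _).mpr (Nat.gcd_dvd_left n (q + 1)), zero_mul]

end Cfsg.Agent.S0783
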