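import Cfsg.Statements.S0787
import Cfsg.Agent.Lib.helper42.SOIndexTwo

set_option autoImplicit false
open Cfsg

namespace Cfsg.Agent.S0787

open Cfsg.Agent.Lib.helper42 Cfsg.Agent.Lib.helper17
open scoped commutatorElement

section
variable {ι : Type} [Fintype ι] [DecidableEq ι] {F : Type*} [Field F]

theorem Omega_le_special (Q : QuadraticForm F (ι → F)) :
    Cfsg.Omega F ⇑Q ≤ Cfsg.specialIsometryGroup F ⇑Q := by
  rw [Cfsg.specialIsometryGroup]
  exact Abelianization.commutator_subset_ker _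

/-- in characteristic two every isometry has determinant one -/
theorem special_eq_top (h2 : (2 : F) = 0) (Q : QuadraticForm F (ι → F))
    (hQ : (QuadraticMap.polarBilin Q).Nondegenerate) : Cfsg.specialIsometryGroup F ⇑Q = ⊤ := by
  rw [eq_top_iff]
  intro g _
  rw [mem_special_iff]
  rcases det_eq_one_or_neg_one_of_isometry Q hQ _ ((mem_isometryGroup_iff _ _).mp g.2) with h | h
  · exact h
  · rw [h]
    linear_combination -h2

/-- **Characteristic two**: a subgroup of index two of `SO(Q) = O(Q)` contains `Ω(Q)`. -/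
theorem omega_le_of_index_two_even (h2 : (2 : F) = 0) (Q : QuadraticForm F (ι → F))
    (hQ : (QuadraticMap.polarBilin Q).Nondegenerate)
    (H : Subgroup ↥(Cfsg.specialIsometryGroup F ⇑Q)) (hH : H.index = 2)
    (g : ↥(Cfsg.isometryGroup F ⇑Q)) (hg : g ∈ Cfsg.Omega F ⇑Q) :
    g ∈ H.map (Cfsg.specialIsometryGroup F ⇑Q).subtype := by
  have hS : ∀ x : ↥(Cfsg.isometryGroup F ⇑Q), x ∈ Cfsg.specialIsometryGroup F ⇑Q := by
    intro x
    rw [special_eq_top h2 Q hQ]
    trivial
  have hsq : ∀ x : ↥(Cfsg.isometryGroup F ⇑Q),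
      x * x ∈ H.map (Cfsg.specialIsometryGroup F ⇑Q).subtype := by
    intro x
    exact Subgroup.mem_map.mpr ⟨⟨x, hS x⟩ * ⟨x, hS x⟩, Subgroup.mul_self_mem_of_index_two hH _, rfl⟩
  have hle : Cfsg.Omega F ⇑Q ≤ H.map (Cfsg.specialIsometryGroup F ⇑Q).subtype := by
    rw [Cfsg.Omega, commutator_eq_closure, Subgroup.closure_le]
    rintro _ ⟨a, b, rfl⟩
    have e : ⁅a, b⁆ = a * a * ((a⁻¹ * b) * (a⁻¹ * b)) * (b⁻¹ * b⁻¹) := by
      rw [commutatorElement_def]; group
    rw [e]
    exact mul_mem (mul_mem (hsq a) (hsq _)) (hsq _)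
  exact hle hg

end

/-- Existence and uniqueness of Ω: if F is finite, n ≥ 2, Q is a quadratic form on F^n with non-degenerate polar form and (|F|, n) ≠ (2, 4), then the group of isometries of determinant one has a unique subgroup of index 2. -/
theorem result {F : Type*} [Field F] [Fintype F] {n : ℕ} (hn : 2 ≤ n) (Q : QuadraticForm F (Fin n → F)) (hQ : (QuadraticMap.polarBilin Q).Nondegenerate) (h : Fintype.card F ≠ 2 ∨ n ≠ 4) : ∃! H : Subgroup ↥(Cfsg.specialIsometryGroup F ⇑Q), H.index = 2 := by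
  classical
  have hcard : 2 ≤ Fintype.card (Fin n) := by rw [Fintype.card_fin]; exact hn
  have : Nonempty (Fin n) := ⟨⟨0, by omega⟩⟩
  have hΩS := Omega_le_special Q
  -- the relative index of `Ω` in `SO`
  have hrel : (Cfsg.Omega F ⇑Q).relIndex (Cfsg.specialIsometryGroup F ⇑Q) = 2 := by
    by_cases h2 : (2 : F) = 0
    · have hgen : reflSubgroup Q = ⊤ :=
        Cfsg.Agent.S0786.reflSubgroup_eq_top' Q hQ (by simpa using h)
      rw [special_eq_top h2 Q hQ, Subgroup.relIndex_top_right]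
      exact index_Omega_two h2 Q hQ hgen
    · have h4 := Cfsg.Agent.S0788.index_Omega h2 Q hQ hcard
      have hmul := Subgroup.relIndex_mul_index hΩS
      have hSidx : (Cfsg.specialIsometryGroup F ⇑Q).index = 2 := by
        have hker : Cfsg.specialIsometryGroup F ⇑Q
            = (Cfsg.Agent.Lib.helper49.detHom (⇑Q)).ker := rfl
        rw [hker, Subgroup.index_ker]
        have hr : ((Cfsg.Agent.Lib.helper49.detHom (⇑Q)).range : Set Fˣ) = {1, -1} := by
          have hP := Cfsg.Agent.S0788.range_Phi h2 Q hQ hcard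
          ext x
          constructor
          · rintro ⟨g, rfl⟩
            have hm : Cfsg.Agent.S0788.Phi Q g ∈ ((Cfsg.Agent.S0788.Phi Q).range : Set (Fˣ × ℤˣ)) :=
              ⟨g, rfl⟩
            rw [hP] at hm
            exact hm.1
          · intro hx
            have hm : (x, (1 : ℤˣ)) ∈ ((Cfsg.Agent.S0788.Phi Q).range : Set (Fˣ × ℤˣ)) := by
              rw [hP]
              exact ⟨hx, Set.mem_univ _⟩
            obtain ⟨g, hg⟩ := hm
            exact ⟨g, congrArg Prod.fst hg⟩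
        have hc : Nat.card (Cfsg.Agent.Lib.helper49.detHom (⇑Q)).range
            = ((Cfsg.Agent.Lib.helper49.detHom (⇑Q)).range : Set Fˣ).ncard := Nat.card_coe_set_eq _
        rw [hc, hr, Set.ncard_pair (Cfsg.Agent.S0788.neg_one_ne_one_units h2).symm]
      rw [hSidx, h4] at hmul
      omega
  -- every subgroup of index two contains `Ω`
  have hcont : ∀ H : Subgroup ↥(Cfsg.specialIsometryGroup F ⇑Q), H.index = 2 →
      (Cfsg.Omega F ⇑Q).subgroupOf (Cfsg.specialIsometryGroup F ⇑Q) ≤ H := by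
    intro H hH x hx
    have hx' : (x : ↥(Cfsg.isometryGroup F ⇑Q)) ∈ Cfsg.Omega F ⇑Q := Subgroup.mem_subgroupOf.mp hx
    have hmem : (x : ↥(Cfsg.isometryGroup F ⇑Q)) ∈ H.map (Cfsg.specialIsometryGroup F ⇑Q).subtype := by
      by_cases h2 : (2 : F) = 0
      · exact omega_le_of_index_two_even h2 Q hQ H hH _ hx'
      · exact omega_le_of_index_two_odd h2 Q hQ H hH _ hx'
    obtain ⟨y, hy, hyx⟩ := Subgroup.mem_map.mp hmem
    have : y = x := Subtype.ext hyx
    rw [← this]
    exact hy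
  refine ⟨(Cfsg.Omega F ⇑Q).subgroupOf (Cfsg.specialIsometryGroup F ⇑Q), hrel, ?_⟩
  intro H hH
  have hle := hcont H hH
  have hmul := Subgroup.relIndex_mul_index hle
  have hidx : ((Cfsg.Omega F ⇑Q).subgroupOf (Cfsg.specialIsometryGroup F ⇑Q)).index = 2 := hrel
  rw [hH, hidx] at hmul
  have h1 : ((Cfsg.Omega F ⇑Q).subgroupOf (Cfsg.specialIsometryGroup F ⇑Q)).relIndex H = 1 := by
    omega
  exact le_antisymm (Subgroup.relIndex_eq_one.mp h1) hle

end Cfsg.Agent.S0787
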