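import Cfsg.Statements.S0792
import Cfsg.Agent.Lib.helper17.CartanDieudonne

set_option autoImplicit false
open Cfsg

namespace Cfsg.Agent.S0792

/-- For q odd and Q with non-degenerate polar form on F^n, the determinant-one isometries form the subgroup generated by all products r_u r_v of two reflections (Q(u), Q(v) ≠ 0). -/
theorem result {F : Type*} [Field F] [Fintype F] (h2 : (2 : F) ≠ 0) {n : ℕ} (Q : QuadraticForm F (Fin n → F)) (hQ : (QuadraticMap.polarBilin Q).Nondegenerate) : Cfsg.specialIsometryGroup F ⇑Q = Subgroup.closure {g : ↥(Cfsg.isometryGroup F ⇑Q) | ∃ u v : Fin n → F, Q u ≠ 0 ∧ Q v ≠ 0 ∧ ((g : Matrix.GeneralLinearGroup (Fin n) F) : Matrix (Fin n) (Fin n) F) = Cfsg.reflectionMatrix ⇑Q u * Cfsg.reflectionMatrix ⇑Q v} := by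
  open Matrix Cfsg.Agent.Lib.helper17 in
  classical
  have hdetSO : ∀ g : ↥(Cfsg.isometryGroup F ⇑Q), g ∈ Cfsg.specialIsometryGroup F ⇑Q ↔
      ((g : Matrix.GeneralLinearGroup (Fin n) F) : Matrix (Fin n) (Fin n) F).det = 1 := by
    intro g
    unfold Cfsg.specialIsometryGroup
    rw [MonoidHom.mem_ker]
    constructor
    · intro h
      have := congrArg Units.val h
      exact this
    · intro h
      apply Units.ext
      exact h
  apply le_antisymm
  · intro g hg
    have hgR : g ∈ reflSubgroup Q := cartan_dieudonne h2 Q hQ g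
    have key : ∀ x ∈ reflSubgroup Q,
        x ∈ Subgroup.closure {g : ↥(Cfsg.isometryGroup F ⇑Q) | ∃ u v : Fin n → F, Q u ≠ 0 ∧ Q v ≠ 0 ∧
          ((g : Matrix.GeneralLinearGroup (Fin n) F) : Matrix (Fin n) (Fin n) F) =
            Cfsg.reflectionMatrix ⇑Q u * Cfsg.reflectionMatrix ⇑Q v} ∨
        ∃ v, ∃ hv : Q v ≠ 0, x * reflectionIsom Q v hv ∈
          Subgroup.closure {g : ↥(Cfsg.isometryGroup F ⇑Q) | ∃ u v : Fin n → F, Q u ≠ 0 ∧ Q v ≠ 0 ∧
          ((g : Matrix.GeneralLinearGroup (Fin n) F) : Matrix (Fin n) (Fin n) F) =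
            Cfsg.reflectionMatrix ⇑Q u * Cfsg.reflectionMatrix ⇑Q v} := by
      have step : ∀ (x : ↥(Cfsg.isometryGroup F ⇑Q)) (v : Fin n → F) (hv : Q v ≠ 0),
          (x ∈ Subgroup.closure {g : ↥(Cfsg.isometryGroup F ⇑Q) | ∃ u v : Fin n → F, Q u ≠ 0 ∧ Q v ≠ 0 ∧
          ((g : Matrix.GeneralLinearGroup (Fin n) F) : Matrix (Fin n) (Fin n) F) =
            Cfsg.reflectionMatrix ⇑Q u * Cfsg.reflectionMatrix ⇑Q v} ∨
          ∃ v, ∃ hv : Q v ≠ 0, x * reflectionIsom Q v hv ∈
          Subgroup.closure {g : ↥(Cfsg.isometryGroup F ⇑Q) | ∃ u v : Fin n → F, Q u ≠ 0 ∧ Q v ≠ 0 ∧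
          ((g : Matrix.GeneralLinearGroup (Fin n) F) : Matrix (Fin n) (Fin n) F) =
            Cfsg.reflectionMatrix ⇑Q u * Cfsg.reflectionMatrix ⇑Q v}) →
          (x * reflectionIsom Q v hv ∈ Subgroup.closure {g : ↥(Cfsg.isometryGroup F ⇑Q) |
            ∃ u v : Fin n → F, Q u ≠ 0 ∧ Q v ≠ 0 ∧
          ((g : Matrix.GeneralLinearGroup (Fin n) F) : Matrix (Fin n) (Fin n) F) =
            Cfsg.reflectionMatrix ⇑Q u * Cfsg.reflectionMatrix ⇑Q v} ∨
          ∃ v', ∃ hv' : Q v' ≠ 0, x * reflectionIsom Q v hv * reflectionIsom Q v' hv' ∈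
          Subgroup.closure {g : ↥(Cfsg.isometryGroup F ⇑Q) | ∃ u v : Fin n → F, Q u ≠ 0 ∧ Q v ≠ 0 ∧
          ((g : Matrix.GeneralLinearGroup (Fin n) F) : Matrix (Fin n) (Fin n) F) =
            Cfsg.reflectionMatrix ⇑Q u * Cfsg.reflectionMatrix ⇑Q v}) := by
        intro x v hv ih
        rcases ih with h | ⟨u, hu, h⟩
        · right
          exact ⟨v, hv, by rw [mul_assoc, reflectionIsom_mul_self, mul_one]; exact h⟩
        · left
          have : x * reflectionIsom Q v hv =
              (x * reflectionIsom Q u hu) * (reflectionIsom Q u hu * reflectionIsom Q v hv) := by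
            rw [mul_assoc, ← mul_assoc (reflectionIsom Q u hu), reflectionIsom_mul_self, one_mul]
          rw [this]
          exact mul_mem h (Subgroup.subset_closure ⟨u, v, hu, hv, rfl⟩)
      intro x hx
      unfold reflSubgroup at hx
      induction hx using Subgroup.closure_induction_right with
      | one => left; exact one_mem _
      | mul_right x hx y hy ih =>
        obtain ⟨v, hv, rfl⟩ := hy
        exact step x v hv ih
      | mul_inv_cancel x hx y hy ih =>
        obtain ⟨v, hv, rfl⟩ := hy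
        rw [reflectionIsom_inv]
        exact step x v hv ih
    rcases key g hgR with h | ⟨v, hv, h⟩
    · exact h
    · exfalso
      have hle : Subgroup.closure {g : ↥(Cfsg.isometryGroup F ⇑Q) | ∃ u v : Fin n → F, Q u ≠ 0 ∧ Q v ≠ 0 ∧
          ((g : Matrix.GeneralLinearGroup (Fin n) F) : Matrix (Fin n) (Fin n) F) =
            Cfsg.reflectionMatrix ⇑Q u * Cfsg.reflectionMatrix ⇑Q v} ≤ Cfsg.specialIsometryGroup F ⇑Q := by
        rw [Subgroup.closure_le]
        rintro g ⟨u, v, hu, hv, hg⟩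
        change g ∈ Cfsg.specialIsometryGroup F ⇑Q
        rw [hdetSO, hg, Matrix.det_mul, reflectionMatrix_det Q u hu, reflectionMatrix_det Q v hv]
        ring
      have h1 := (hdetSO _).mp (hle h)
      have h3 := (hdetSO _).mp hg
      have h4 : ((g * reflectionIsom Q v hv : ↥(Cfsg.isometryGroup F ⇑Q)) : Matrix.GeneralLinearGroup (Fin n) F).val
          = ((g : Matrix.GeneralLinearGroup (Fin n) F) : Matrix (Fin n) (Fin n) F) *
            Cfsg.reflectionMatrix ⇑Q v := rfl
      rw [h4, Matrix.det_mul, h3, reflectionMatrix_det Q v hv] at h1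
      apply h2
      linear_combination -h1
  · rw [Subgroup.closure_le]
    rintro g ⟨u, v, hu, hv, hg⟩
    change g ∈ Cfsg.specialIsometryGroup F ⇑Q
    rw [hdetSO, hg, Matrix.det_mul, reflectionMatrix_det Q u hu, reflectionMatrix_det Q v hv]
    ring

end Cfsg.Agent.S0792
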