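import Cfsg.Statements.S0794
import Cfsg.Agent.Lib.helper17.Quad3
import Cfsg.Agent.S0761
import Cfsg.Agent.S0793

set_option autoImplicit false
open Cfsg

namespace Cfsg.Agent.S0794

/-- For q odd, n ≥ 5 and Q with non-degenerate polar form: an isometry whose matrix is a Siegel transformation T_(u,v)(c) (u, v singular and orthogonal) is a commutator in the isometry group, so lies in Ω. -/
theorem result {F : Type*} [Field F] [Fintype F] (h2 : (2 : F) ≠ 0) {n : ℕ} (hn : 5 ≤ n) (Q : QuadraticForm F (Fin n → F)) (hQ : (QuadraticMap.polarBilin Q).Nondegenerate) (u v : Fin n → F) (hu : Q u = 0) (hv : Q v = 0) (huv : QuadraticMap.polar ⇑Q u v = 0) (c : F) (g : ↥(Cfsg.isometryGroup F ⇑Q)) (hg : ((g : Matrix.GeneralLinearGroup (Fin n) F) : Matrix (Fin n) (Fin n) F) = Cfsg.siegelMatrix ⇑Q u v c) : g ∈ commutatorSet ↥(Cfsg.isometryGroup F ⇑Q) ∧ g ∈ Cfsg.Omega F ⇑Q := by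
  open Matrix Cfsg.Agent.Lib.helper17 in
  classical
  have hcomm : g ∈ commutatorSet ↥(Cfsg.isometryGroup F ⇑Q) := by
    by_cases hspan : u ∈ Submodule.span F {v}
    · obtain ⟨t, rfl⟩ := Submodule.mem_span_singleton.mp hspan
      have h1 : g = 1 := by
        apply Subtype.ext
        apply Units.ext
        rw [hg]
        change _ = (1 : Matrix (Fin n) (Fin n) F)
        rw [Matrix.ext_iff_mulVec]
        intro x
        rw [siegelMatrix_mulVec, Matrix.one_mulVec, QuadraticMap.polar_smul_left, smul_smul, ← add_smul]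
        have : c * (t • QuadraticMap.polar ⇑Q v x) + -(c * QuadraticMap.polar ⇑Q v x) * t = 0 := by
          rw [smul_eq_mul]; ring
        rw [this, zero_smul, add_zero]
      rw [h1]
      exact ⟨1, 1, by simp⟩
    · have hsymm : LinearMap.BilinForm.IsSymm (QuadraticMap.polarBilin Q) :=
        ⟨fun a b => by
          simp only [QuadraticMap.polarBilin_apply_apply]
          exact QuadraticMap.polar_comm _ _ _⟩
      obtain ⟨y, hyy, huy, hzy⟩ := Cfsg.Agent.S0761.result (QuadraticMap.polarBilin Q) hQ
        (Or.inr ⟨hsymm, h2⟩) u (Submodule.span F {v}) hspan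
        (by rw [QuadraticMap.polarBilin_apply_apply, QuadraticMap.polar_self, hu, smul_zero])
        (by
          intro z hz
          obtain ⟨t, rfl⟩ := Submodule.mem_span_singleton.mp hz
          rw [QuadraticMap.polarBilin_apply_apply, QuadraticMap.polar_smul_right, huv, smul_zero])
        (by
          intro z hz z' hz'
          obtain ⟨t, rfl⟩ := Submodule.mem_span_singleton.mp hz
          obtain ⟨t', rfl⟩ := Submodule.mem_span_singleton.mp hz'
          rw [QuadraticMap.polarBilin_apply_apply, QuadraticMap.polar_smul_right,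
            QuadraticMap.polar_smul_left, QuadraticMap.polar_self, hv]
          simp)
      have hQy : Q y = 0 := by
        rw [QuadraticMap.polarBilin_apply_apply, QuadraticMap.polar_self, two_smul, ← two_mul] at hyy
        rcases mul_eq_zero.mp hyy with h | h
        · exact absurd h h2
        · exact h
      have huy' : QuadraticMap.polar ⇑Q u y = 1 := by
        rwa [QuadraticMap.polarBilin_apply_apply] at huy
      have hvy : QuadraticMap.polar ⇑Q y v = 0 := by
        have := hzy v (Submodule.mem_span_singleton_self v)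
        rw [QuadraticMap.polarBilin_apply_apply] at this
        rw [QuadraticMap.polar_comm]
        exact this
      have hH : ∀ x, Q (hypMatrix ⇑Q u y 2 *ᵥ x) = Q x := hypMatrix_preserves Q u y hu hQy huy' 2 h2
      refine ⟨isomOfMatrix Q hQ (hypMatrix ⇑Q u y 2) hH, g, ?_⟩
      have key : isomOfMatrix Q hQ (hypMatrix ⇑Q u y 2) hH * g =
          g * g * isomOfMatrix Q hQ (hypMatrix ⇑Q u y 2) hH := by
        apply Subtype.ext
        apply Units.ext
        change hypMatrix ⇑Q u y 2 * ((g : Matrix.GeneralLinearGroup (Fin n) F) : Matrix (Fin n) (Fin n) F) =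
          ((g : Matrix.GeneralLinearGroup (Fin n) F) : Matrix (Fin n) (Fin n) F) *
            ((g : Matrix.GeneralLinearGroup (Fin n) F) : Matrix (Fin n) (Fin n) F) * hypMatrix ⇑Q u y 2
        rw [hg, (Cfsg.Agent.S0793.result Q u v hu hv huv).2.2 c c]
        rw [Matrix.ext_iff_mulVec]
        intro x
        have e1 : QuadraticMap.polar ⇑Q u (hypMatrix ⇑Q u y 2 *ᵥ x) = 2⁻¹ * QuadraticMap.polar ⇑Q u x := by
          have := polar_mulVec_of_isometry Q _ hH ((2:F)⁻¹ • u) x
          rw [Matrix.mulVec_smul, hypMatrix_mulVec_left Q u y hu huy' 2, smul_smul, inv_mul_cancel₀ h2,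
            one_smul, QuadraticMap.polar_smul_left] at this
          rw [this]
          rfl
        have e2 : QuadraticMap.polar ⇑Q v (hypMatrix ⇑Q u y 2 *ᵥ x) = QuadraticMap.polar ⇑Q v x := by
          have := polar_mulVec_of_isometry Q _ hH v x
          rw [hypMatrix_mulVec_of_orth Q u y 2 v huv hvy] at this
          exact this
        rw [← Matrix.mulVec_mulVec, ← Matrix.mulVec_mulVec, siegelMatrix_mulVec, siegelMatrix_mulVec,
          Matrix.mulVec_add, Matrix.mulVec_add, Matrix.mulVec_smul, Matrix.mulVec_smul,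
          hypMatrix_mulVec_left Q u y hu huy' 2, hypMatrix_mulVec_of_orth Q u y 2 v huv hvy, e1, e2]
        congr 1
        rw [smul_smul]
        congr 2
        · field_simp
          ring
        · ring
      rw [commutatorElement_def, key]
      group
  refine ⟨hcomm, ?_⟩
  unfold Cfsg.Omega
  rw [commutator_eq_closure]
  exact Subgroup.subset_closure hcomm

end Cfsg.Agent.S0794
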