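import Cfsg.Statements.S0797
import Cfsg.Agent.S0788

set_option autoImplicit false
open Cfsg

namespace Cfsg.Agent.S0797

/-- subgroups of index 2 contain the commutator subgroup -/
theorem commutator_le_of_index_two {G : Type*} [Group G] (H : Subgroup G) (h : H.index = 2) :
    commutator G ≤ H := by
  have hn : H.Normal := Subgroup.normal_of_index_eq_two h
  have hcard : Nat.card (G ⧸ H) = 2 := h
  have : Fact (Nat.Prime 2) := ⟨Nat.prime_two⟩
  have hc : IsCyclic (G ⧸ H) := isCyclic_of_prime_card hcard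
  let _ : CommGroup (G ⧸ H) := IsCyclic.commGroup
  have := Abelianization.commutator_subset_ker (QuotientGroup.mk' H)
  rwa [QuotientGroup.ker_mk'] at this

/-- the index-2 subgroups of `G` correspond to those of `R` under a surjection with kernel `[G, G]` -/
noncomputable def indexTwoEquiv {G R : Type*} [Group G] [Group R] (f : G →* R) (hf : Function.Surjective f)
    (hker : f.ker = commutator G) :
    {H : Subgroup G // H.index = 2} ≃ {K : Subgroup R // K.index = 2} where
  toFun H := ⟨H.1.map f, by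
    rw [Subgroup.index_map_eq _ hf (hker ▸ commutator_le_of_index_two H.1 H.2)]
    exact H.2⟩
  invFun K := ⟨K.1.comap f, by
    rw [Subgroup.index_comap_of_surjective _ hf]
    exact K.2⟩
  left_inv H := Subtype.ext (Subgroup.comap_map_eq_self (hker ▸ commutator_le_of_index_two H.1 H.2))
  right_inv K := Subtype.ext (Subgroup.map_comap_eq_self_of_surjective hf K.1)

/-- a group of order 4 and exponent 2 has exactly three subgroups of index 2 -/
theorem card_index_two_of_klein {R : Type*} [Group R] (hR : Nat.card R = 4) (hexp : ∀ x : R, x * x = 1) :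
    Nat.card {K : Subgroup R // K.index = 2} = 3 := by
  classical
  have hfin : Finite R := Nat.finite_of_card_ne_zero (by rw [hR]; norm_num)
  have := Fintype.ofFinite R
  have hord : ∀ x : R, x ≠ 1 → Nat.card (Subgroup.zpowers x) = 2 := by
    intro x hx
    rw [Nat.card_zpowers]
    exact orderOf_eq_prime (by rw [pow_two]; exact hexp x) hx
  have hidx : ∀ x : R, x ≠ 1 → (Subgroup.zpowers x).index = 2 := by
    intro x hx
    have h := Subgroup.card_mul_index (Subgroup.zpowers x)
    rw [hord x hx, hR] at h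
    omega
  let φ : {x : R // x ≠ 1} → {K : Subgroup R // K.index = 2} := fun x => ⟨Subgroup.zpowers x.1, hidx x.1 x.2⟩
  have hmem : ∀ x y : R, y ∈ Subgroup.zpowers x → y = 1 ∨ y = x := by
    intro x y hy
    obtain ⟨k, rfl⟩ := Subgroup.mem_zpowers_iff.mp hy
    rcases Int.even_or_odd k with ⟨j, rfl⟩ | ⟨j, rfl⟩
    · left
      rw [← two_mul, zpow_mul, zpow_two, hexp x, one_zpow]
    · right
      rw [zpow_add, zpow_one, zpow_mul, zpow_two, hexp x, one_zpow, one_mul]
  have hinj : Function.Injective φ := by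
    intro x y h
    have h1 : Subgroup.zpowers x.1 = Subgroup.zpowers y.1 := congrArg Subtype.val h
    have h3 : x.1 ∈ Subgroup.zpowers y.1 := h1 ▸ Subgroup.mem_zpowers x.1
    rcases hmem y.1 x.1 h3 with h | h
    · exact absurd h x.2
    · exact Subtype.ext h
  have hsurj : Function.Surjective φ := by
    intro K
    have hK : Nat.card K.1 = 2 := by
      have h := Subgroup.card_mul_index K.1
      rw [K.2, hR] at h
      omega
    have hne : ∃ x : K.1, x ≠ 1 := by
      by_contra hall
      have hall' : ∀ a : K.1, a = 1 := fun a => by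
        by_contra h
        exact hall ⟨a, h⟩
      have : Subsingleton K.1 := ⟨fun a b => by rw [hall' a, hall' b]⟩
      have : Nat.card K.1 ≤ 1 := Finite.card_le_one_iff_subsingleton.mpr this
      omega
    obtain ⟨x, hx⟩ := hne
    have hx1 : (x : R) ≠ 1 := fun h => hx (Subtype.ext h)
    refine ⟨⟨x.1, hx1⟩, ?_⟩
    apply Subtype.ext
    show Subgroup.zpowers (x : R) = K.1
    have hle : Subgroup.zpowers (x : R) ≤ K.1 := (Subgroup.zpowers_le).mpr x.2
    apply Subgroup.eq_of_le_of_card_ge hle
    rw [hK, hord x.1 hx1]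
  have hcard : Nat.card {K : Subgroup R // K.index = 2} = Nat.card {x : R // x ≠ 1} :=
    (Nat.card_congr (Equiv.ofBijective φ ⟨hinj, hsurj⟩)).symm
  rw [hcard, Nat.card_eq_fintype_card, Fintype.card_subtype_compl, Fintype.card_subtype_eq,
    ← Nat.card_eq_fintype_card, hR]

/-- the isometry group has exactly three subgroups of index 2 (any finite index type of cardinality ≥ 2) -/
theorem card_index_two {F : Type*} [Field F] [Fintype F] {ι : Type} [Fintype ι] [DecidableEq ι]
    (h2 : (2 : F) ≠ 0) (Q : QuadraticForm F (ι → F)) (hQ : (QuadraticMap.polarBilin Q).Nondegenerate)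
    (hι : 2 ≤ Fintype.card ι) :
    Nat.card {H : Subgroup ↥(Cfsg.isometryGroup F ⇑Q) // H.index = 2} = 3 := by
  have hker : (Cfsg.Agent.S0788.Phi Q).rangeRestrict.ker = commutator ↥(Cfsg.isometryGroup F ⇑Q) := by
    rw [MonoidHom.ker_rangeRestrict, ← Cfsg.Agent.S0788.Omega_eq_ker h2 Q hQ]
  rw [Nat.card_congr (indexTwoEquiv (Cfsg.Agent.S0788.Phi Q).rangeRestrict
    (Cfsg.Agent.S0788.Phi Q).rangeRestrict_surjective hker)]
  apply card_index_two_of_klein
  · have h : Nat.card (Cfsg.Agent.S0788.Phi Q).range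
        = ((Cfsg.Agent.S0788.Phi Q).range : Set (Fˣ × ℤˣ)).ncard := Nat.card_coe_set_eq _
    rw [h, Cfsg.Agent.S0788.range_Phi h2 Q hQ hι, Set.ncard_prod,
      Set.ncard_pair (Cfsg.Agent.S0788.neg_one_ne_one_units h2).symm, Set.ncard_univ,
      Nat.card_eq_fintype_card, Fintype.card_units_int]
  · intro x
    have hx : (x : Fˣ × ℤˣ) ∈ ((Cfsg.Agent.S0788.Phi Q).range : Set (Fˣ × ℤˣ)) := x.2
    rw [Cfsg.Agent.S0788.range_Phi h2 Q hQ hι] at hx
    obtain ⟨h1, -⟩ := hx
    apply Subtype.ext
    apply Prod.ext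
    · show (x : Fˣ × ℤˣ).1 * (x : Fˣ × ℤˣ).1 = 1
      have h1' : (x : Fˣ × ℤˣ).1 = 1 ∨ (x : Fˣ × ℤˣ).1 = -1 := h1
      rcases h1' with h | h <;> rw [h] <;> simp
    · show (x : Fˣ × ℤˣ).2 * (x : Fˣ × ℤˣ).2 = 1
      exact Int.units_mul_self _

/-- O^ε_2m(q) ≅ Ω.2² for q odd: if F is finite of odd characteristic, n ≥ 2 is even and Q has non-degenerate polar form on F^n, the isometry group of Q has exactly three subgroups of index 2. -/
theorem result {F : Type*} [Field F] [Fintype F] (h2 : (2 : F) ≠ 0) {n : ℕ} (hn : 2 ≤ n) (heven : Even n) (Q : QuadraticForm F (Fin n → F)) (hQ : (QuadraticMap.polarBilin Q).Nondegenerate) : Nat.card {H : Subgroup ↥(Cfsg.isometryGroup F ⇑Q) // H.index = 2} = 3 := by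
  exact card_index_two h2 Q hQ (by rw [Fintype.card_fin]; exact hn)

end Cfsg.Agent.S0797
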