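import Cfsg.Statements.S0798
import Cfsg.Agent.S0788
import Cfsg.Agent.Lib.helper7.RootTrans
import Cfsg.Agent.Lib.helper49.Spinor

set_option autoImplicit false
open Cfsg

namespace Cfsg.Agent.S0798

open Cfsg.Agent.Lib.helper17 Cfsg.Agent.Lib.helper7.RootElt Cfsg.Agent.Lib.helper49 Module

section

variable {F : Type*} [Field F] {ι : Type} [Fintype ι] [DecidableEq ι]
  (Q : QuadraticForm F (ι → F))

local notation "⟪" x ", " y "⟫" => QuadraticMap.polar (DFunLike.coe Q) x y

/-- the generating set: reflections in vectors whose norm lies in the class of `c` -/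
def genSet (c : F) : Set ↥(isometryGroup F ⇑Q) :=
  {g | ∃ (v : ι → F) (t : F), t ≠ 0 ∧ Q v = c * t ^ 2 ∧
    ((g : Matrix.GeneralLinearGroup ι F) : Matrix ι ι F) = Cfsg.reflectionMatrix ⇑Q v}

/-- the norm of `v` lies in the class of `c` -/
def Cls (c : F) (v : ι → F) : Prop := ∃ t : F, t ≠ 0 ∧ Q v = c * t ^ 2

theorem refl_mem_gen (c : F) {v : ι → F} (hv : Q v ≠ 0) (h : Cls Q c v) :
    reflectionIsom Q v hv ∈ Subgroup.closure (genSet Q c) := by
  obtain ⟨t, ht, hQ⟩ := h
  exact Subgroup.subset_closure ⟨v, t, ht, hQ, reflectionIsom_coe Q v hv⟩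

theorem gen_eq_refl {c : F} (hc : c ≠ 0) {g : ↥(isometryGroup F ⇑Q)} (hg : g ∈ genSet Q c) :
    ∃ (v : ι → F) (hv : Q v ≠ 0), Cls Q c v ∧ g = reflectionIsom Q v hv := by
  obtain ⟨v, t, ht, hQ, hm⟩ := hg
  have hv : Q v ≠ 0 := by
    rw [hQ]
    exact mul_ne_zero hc (pow_ne_zero 2 ht)
  refine ⟨v, hv, ⟨t, ht, hQ⟩, ?_⟩
  apply Subtype.ext
  apply Units.ext
  rw [hm, reflectionIsom_coe]

theorem gen_normal {c : F} (hc : c ≠ 0) : (Subgroup.closure (genSet Q c)).Normal := by
  constructor
  intro n hn g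
  induction hn using Subgroup.closure_induction with
  | mem x hx =>
    obtain ⟨v, hv, hcls, rfl⟩ := gen_eq_refl Q hc hx
    have hv' : Q (act Q g v) ≠ 0 := by rw [Q_act]; exact hv
    rw [conj_reflectionIsom Q g hv hv']
    apply refl_mem_gen Q c hv'
    obtain ⟨t, ht, hQ⟩ := hcls
    exact ⟨t, ht, by rw [Q_act]; exact hQ⟩
  | one => simp
  | mul x y _ _ hx hy =>
    have : g * (x * y) * g⁻¹ = (g * x * g⁻¹) * (g * y * g⁻¹) := by group
    rw [this]
    exact Subgroup.mul_mem _ hx hy
  | inv x _ hx =>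
    have : g * x⁻¹ * g⁻¹ = (g * x * g⁻¹)⁻¹ := by group
    rw [this]
    exact Subgroup.inv_mem _ hx

/-- the reflection in a non-zero multiple of `a` is the reflection in `a` -/
theorem refl_smul {a : ι → F} (ha : Q a ≠ 0) {l : F} (hl : l ≠ 0) (hla : Q (l • a) ≠ 0) :
    reflectionIsom Q (l • a) hla = reflectionIsom Q a ha := by
  apply act_ext
  intro x
  rw [reflectionIsom_act, reflectionIsom_act, QuadraticMap.map_smul, QuadraticMap.polar_smul_left,
    smul_smul, smul_eq_mul, smul_eq_mul]
  congr 2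
  field_simp

/-- norm of the vector of the product of three reflections in a plane -/
theorem Q_three (a b : ι → F) (s t : F) :
    Q ((-(2 * t * Q b)) • a + (2 * (s * Q a + t * ⟪a, b⟫)) • b) =
      4 * Q a * Q b * Q (s • a + t • b) := by
  rw [QuadraticMap.map_add (⇑Q), QuadraticMap.map_add (⇑Q), QuadraticMap.map_smul,
    QuadraticMap.map_smul, QuadraticMap.map_smul, QuadraticMap.map_smul,
    QuadraticMap.polar_smul_left, QuadraticMap.polar_smul_right, QuadraticMap.polar_smul_left,
    QuadraticMap.polar_smul_right]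
  simp only [smul_eq_mul]
  ring

/-- the product of three reflections in vectors of a plane is a reflection -/
theorem three_refl (h2 : (2 : F) ≠ 0) {a b : ι → F} (s t : F) (ha : Q a ≠ 0) (hb : Q b ≠ 0)
    (hx : Q (s • a + t • b) ≠ 0)
    (hy : Q ((-(2 * t * Q b)) • a + (2 * (s * Q a + t * ⟪a, b⟫)) • b) ≠ 0) :
    reflectionIsom Q (s • a + t • b) hx * reflectionIsom Q a ha * reflectionIsom Q b hb =
      reflectionIsom Q _ hy := by
  apply act_ext
  intro v
  rw [act_mul, act_mul, reflectionIsom_act, reflectionIsom_act, reflectionIsom_act,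
    reflectionIsom_act, Q_three]
  have hXe : Q (s • a + t • b) = s * s * Q a + t * t * Q b + s * t * ⟪a, b⟫ := by
    rw [QuadraticMap.map_add (⇑Q), QuadraticMap.map_smul, QuadraticMap.map_smul,
      QuadraticMap.polar_smul_left, QuadraticMap.polar_smul_right]
    simp only [smul_eq_mul]
    ring
  have h4 : (4 : F) ≠ 0 := by
    have : (4 : F) = 2 * 2 := by norm_num
    rw [this]
    exact mul_ne_zero h2 h2
  generalize Q (s • a + t • b) = X at hx hXe ⊢
  simp only [QuadraticMap.polar_add_left, QuadraticMap.polar_add_right, QuadraticMap.polar_smul_left,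
    QuadraticMap.polar_smul_right, smul_eq_mul, QuadraticMap.polar_self,
    QuadraticMap.polar_comm (⇑Q) b a, smul_add, smul_smul]
  match_scalars
  · ring
  · field_simp
    rw [hXe]
    ring
  · field_simp
    rw [hXe]
    ring

end

section

variable {F : Type*} [Field F] [Fintype F] {ι : Type} [Fintype ι] [DecidableEq ι]
  (Q : QuadraticForm F (ι → F))

local notation "⟪" x ", " y "⟫" => QuadraticMap.polar (DFunLike.coe Q) x y

omit [Fintype ι] [DecidableEq ι] in
/-- in a finite field the product of two non-squares is a square -/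
theorem isSquare_mul_of_not {x y : F} (hx : ¬IsSquare x) (hy : ¬IsSquare y) : IsSquare (x * y) := by
  classical
  have hx0 : x ≠ 0 := fun h => hx (h ▸ ⟨0, by simp⟩)
  have hy0 : y ≠ 0 := fun h => hy (h ▸ ⟨0, by simp⟩)
  rw [← quadraticChar_one_iff_isSquare (mul_ne_zero hx0 hy0), map_mul,
    quadraticChar_neg_one_iff_not_isSquare.mpr hx, quadraticChar_neg_one_iff_not_isSquare.mpr hy]
  norm_num

omit [Fintype ι] [DecidableEq ι] in
/-- the product of the norms of two vectors outside the class of `c` is a non-zero square -/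
theorem mul_sq_of_not_cls {c : F} (hc : c ≠ 0) {a b : ι → F} (ha : Q a ≠ 0) (hna : ¬Cls Q c a)
    (hb : Q b ≠ 0) (hnb : ¬Cls Q c b) : ∃ σ : F, σ ≠ 0 ∧ Q a * Q b = σ ^ 2 := by
  have key : ∀ v : ι → F, Q v ≠ 0 → ¬Cls Q c v → ¬IsSquare (Q v / c) := by
    rintro v hv hnv ⟨r, hr⟩
    apply hnv
    refine ⟨r, ?_, ?_⟩
    · rintro rfl
      rw [mul_zero, div_eq_zero_iff] at hr
      rcases hr with hr | hr
      · exact hv hr
      · exact hc hr
    · field_simp at hr
      linear_combination hr
  obtain ⟨ρ, hρ⟩ := isSquare_mul_of_not (key a ha hna) (key b hb hnb)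
  have h1 : Q a * Q b = (c * ρ) ^ 2 := by
    field_simp at hρ
    linear_combination hρ
  refine ⟨c * ρ, ?_, h1⟩
  intro h0
  rw [h0] at h1
  exact mul_ne_zero ha hb (by rw [h1]; ring)

/-- a non-degenerate plane contains a vector of any prescribed non-zero norm -/
theorem exists_in_plane (h2 : (2 : F) ≠ 0) (a b : ι → F)
    (hD : ⟪a, b⟫ ^ 2 - 4 * Q a * Q b ≠ 0) (c : F) (hc : c ≠ 0) :
    ∃ s t : F, Q (s • a + t • b) = c := by
  let L : (Fin 2 → F) →ₗ[F] (ι → F) :=
    (LinearMap.proj 0).smulRight a + (LinearMap.proj 1).smulRight b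
  have hL : ∀ x, L x = x 0 • a + x 1 • b := fun x => rfl
  have hpol : ∀ x y, QuadraticMap.polar (⇑(Q.comp L)) x y = ⟪L x, L y⟫ := by
    intro x y
    simp only [QuadraticMap.polar, QuadraticMap.comp_apply, map_add]
  have key : ∀ x : Fin 2 → F, (∀ y, ⟪L x, L y⟫ = 0) → x = 0 := by
    intro x hx
    have h0 := hx (Pi.single 0 1)
    have h1 := hx (Pi.single 1 1)
    rw [hL, hL] at h0 h1
    simp only [Pi.single_eq_same, Pi.single_eq_of_ne, ne_eq, one_ne_zero, not_false_eq_true,
      zero_ne_one, one_smul, zero_smul, add_zero, zero_add, QuadraticMap.polar_add_left,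
      QuadraticMap.polar_smul_left, QuadraticMap.polar_self, smul_eq_mul,
      QuadraticMap.polar_comm (⇑Q) b a] at h0 h1
    have e0 : x 0 * (⟪a, b⟫ ^ 2 - 4 * Q a * Q b) = 0 := by
      linear_combination ⟪a, b⟫ * h1 - 2 * Q b * h0
    have e1 : x 1 * (⟪a, b⟫ ^ 2 - 4 * Q a * Q b) = 0 := by
      linear_combination ⟪a, b⟫ * h0 - 2 * Q a * h1
    have x0 : x 0 = 0 := (mul_eq_zero.mp e0).resolve_right hD
    have x1 : x 1 = 0 := (mul_eq_zero.mp e1).resolve_right hD
    funext i
    fin_cases i
    · exact x0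
    · exact x1
  have hnd : (QuadraticMap.polarBilin (Q.comp L)).Nondegenerate := by
    constructor
    · intro x hx
      apply key x
      intro y
      have := hx y
      rw [QuadraticMap.polarBilin_apply_apply, hpol] at this
      exact this
    · intro y hy
      apply key y
      intro x
      have := hy x
      rw [QuadraticMap.polarBilin_apply_apply, hpol, QuadraticMap.polar_comm] at this
      exact this
  obtain ⟨x, hx⟩ := Cfsg.Agent.S0788.exists_eq h2 (Q.comp L) hnd
    (by rw [Module.finrank_fin_fun]) c hc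
  exact ⟨x 0, x 1, hx⟩

/-- `(★)` for a non-degenerate plane -/
theorem star_nondeg (h2 : (2 : F) ≠ 0) {c : F} (hc : c ≠ 0) {a b : ι → F} (ha : Q a ≠ 0)
    (hna : ¬Cls Q c a) (hb : Q b ≠ 0) (hnb : ¬Cls Q c b)
    (hD : ⟪a, b⟫ ^ 2 - 4 * Q a * Q b ≠ 0) :
    reflectionIsom Q a ha * reflectionIsom Q b hb ∈ Subgroup.closure (genSet Q c) := by
  obtain ⟨s, t, hx⟩ := exists_in_plane Q h2 a b hD c hc
  obtain ⟨σ, hσ0, hσ⟩ := mul_sq_of_not_cls Q hc ha hna hb hnb
  have hx0 : Q (s • a + t • b) ≠ 0 := by rw [hx]; exact hc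
  have hyQ := Q_three Q a b s t
  have h4 : (4 : F) ≠ 0 := by
    have : (4 : F) = 2 * 2 := by norm_num
    rw [this]
    exact mul_ne_zero h2 h2
  have hy0 : Q ((-(2 * t * Q b)) • a + (2 * (s * Q a + t * ⟪a, b⟫)) • b) ≠ 0 := by
    rw [hyQ]
    exact mul_ne_zero (mul_ne_zero (mul_ne_zero h4 ha) hb) hx0
  have h3 := three_refl Q h2 s t ha hb hx0 hy0
  have hxm := refl_mem_gen Q c hx0 ⟨1, one_ne_zero, by rw [hx]; ring⟩
  have hym := refl_mem_gen Q c hy0 ⟨2 * σ, mul_ne_zero h2 hσ0, by
    rw [hyQ, hx]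
    linear_combination 4 * c * hσ⟩
  have h5 : reflectionIsom Q a ha * reflectionIsom Q b hb =
      reflectionIsom Q (s • a + t • b) hx0 * reflectionIsom Q _ hy0 := by
    rw [← h3, ← mul_assoc, ← mul_assoc, reflectionIsom_mul_self, one_mul]
  rw [h5]
  exact Subgroup.mul_mem _ hxm hym

omit [Fintype ι] [DecidableEq ι] in
theorem five_le_card (h2 : (2 : F) ≠ 0) (h3 : Fintype.card F ≠ 3) : 5 ≤ Fintype.card F := by
  have h1 : 1 < Fintype.card F := Fintype.one_lt_card
  have hq : ((Fintype.card F : ℕ) : F) = 0 := Nat.cast_card_eq_zero F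
  by_contra h
  have : Fintype.card F = 2 ∨ Fintype.card F = 4 := by omega
  rcases this with h' | h'
  · rw [h'] at hq
    exact h2 (by exact_mod_cast hq)
  · rw [h'] at hq
    have : (2 : F) * 2 = 0 := by
      have h4 : ((4 : ℕ) : F) = 2 * 2 := by norm_num
      rw [← h4]
      exact hq
    exact h2 (mul_self_eq_zero.mp this)

end

section

variable {F : Type*} [Field F] [Fintype F] {ι : Type} [Fintype ι] [DecidableEq ι]
  (Q : QuadraticForm F (ι → F)) (hQ : (QuadraticMap.polarBilin Q).Nondegenerate)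

local notation "⟪" x ", " y "⟫" => QuadraticMap.polar (DFunLike.coe Q) x y

omit [Fintype F] in
theorem refl_congr {u v : ι → F} (h : u = v) (hu : Q u ≠ 0) (hv : Q v ≠ 0) :
    reflectionIsom Q u hu = reflectionIsom Q v hv := by
  subst h
  rfl

include hQ in
/-- the intermediate vector in the degenerate case -/
theorem exists_mid (h2 : (2 : F) ≠ 0) (heven : Even (Fintype.card ι))
    (h43 : ¬(Fintype.card ι = 4 ∧ Fintype.card F = 3)) {a b : ι → F} (ha : Q a ≠ 0) (hb : Q b ≠ 0)
    (hD : ⟪a, b⟫ ^ 2 - 4 * Q a * Q b = 0)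
    (hz0 : ⟪a, b⟫ • a - (2 * Q a) • b ≠ 0) :
    ∃ e, Q e = Q a ∧ ⟪a, e⟫ ^ 2 - 4 * Q a * Q e ≠ 0 ∧ ⟪e, b⟫ ^ 2 - 4 * Q e * Q b ≠ 0 := by
  classical
  have h4 : (4 : F) ≠ 0 := by
    have : (4 : F) = 2 * 2 := by norm_num
    rw [this]
    exact mul_ne_zero h2 h2
  have h2A : 2 * Q a ≠ 0 := mul_ne_zero h2 ha
  obtain ⟨z, hz⟩ : ∃ z, z = ⟪a, b⟫ • a - (2 * Q a) • b := ⟨_, rfl⟩
  rw [← hz] at hz0
  have hzexp : ∀ v, ⟪v, z⟫ = ⟪a, b⟫ * ⟪v, a⟫ - 2 * Q a * ⟪v, b⟫ := by
    intro v
    rw [hz, QuadraticMap.polar_sub_right, QuadraticMap.polar_smul_right,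
      QuadraticMap.polar_smul_right, smul_eq_mul, smul_eq_mul]
  have hzQ : Q z = 0 := by
    rw [hz, sub_eq_add_neg, ← neg_smul, QuadraticMap.map_add (⇑Q), QuadraticMap.map_smul,
      QuadraticMap.map_smul, QuadraticMap.polar_smul_left, QuadraticMap.polar_smul_right]
    simp only [smul_eq_mul]
    linear_combination (-(Q a)) * hD
  have hza : ⟪a, z⟫ = 0 := by
    rw [hzexp, QuadraticMap.polar_self]
    ring
  have hzb : ⟪b, z⟫ = 0 := by
    rw [hzexp, QuadraticMap.polar_self, QuadraticMap.polar_comm (⇑Q) b a]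
    linear_combination hD
  have hzz : ⟪z, z⟫ = 0 := by rw [QuadraticMap.polar_self, hzQ, smul_zero]
  obtain ⟨z₀, hz₀⟩ : ∃ z₀, ⟪z, z₀⟫ ≠ 0 := by
    by_contra h
    push Not at h
    exact hz0 (hQ.1 z (fun y => h y))
  obtain ⟨κ, hκ⟩ : ∃ κ, κ = ⟪z, z₀⟫ := ⟨_, rfl⟩
  rw [← hκ] at hz₀
  obtain ⟨w, hw⟩ : ∃ w, w = z₀ - (⟪a, z₀⟫ / (2 * Q a)) • a := ⟨_, rfl⟩
  have hwa : ⟪a, w⟫ = 0 := by
    rw [hw, QuadraticMap.polar_sub_right, QuadraticMap.polar_smul_right, QuadraticMap.polar_self,
      smul_eq_mul]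
    field_simp
    ring
  have hzw : ⟪z, w⟫ = κ := by
    rw [hw, QuadraticMap.polar_sub_right, QuadraticMap.polar_smul_right,
      QuadraticMap.polar_comm (⇑Q) z a, hza, smul_zero, sub_zero, hκ]
  obtain ⟨z', hz'⟩ : ∃ z', z' = w - (Q w / κ) • z := ⟨_, rfl⟩
  have hz'Q : Q z' = 0 := by
    rw [hz', sub_eq_add_neg, ← neg_smul, QuadraticMap.map_add (⇑Q), QuadraticMap.map_smul,
      QuadraticMap.polar_smul_right, QuadraticMap.polar_comm (⇑Q) w z, hzw, hzQ]
    simp only [smul_eq_mul, mul_zero, add_zero]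
    have h1 : -(Q w / κ) * κ = -(Q w) := by field_simp
    rw [h1]
    ring
  have hz'a : ⟪a, z'⟫ = 0 := by
    rw [hz', QuadraticMap.polar_sub_right, QuadraticMap.polar_smul_right, hwa, hza, smul_zero,
      sub_zero]
  have hzz' : ⟪z, z'⟫ = κ := by
    rw [hz', QuadraticMap.polar_sub_right, QuadraticMap.polar_smul_right, hzw, hzz, smul_zero,
      sub_zero]
  have hz'z' : ⟪z', z'⟫ = 0 := by rw [QuadraticMap.polar_self, hz'Q, smul_zero]
  have hz'b : ⟪z', b⟫ * (2 * Q a) = -κ := by
    have h := hzexp z'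
    rw [QuadraticMap.polar_comm (⇑Q) z' z, hzz', QuadraticMap.polar_comm (⇑Q) z' a, hz'a] at h
    linear_combination h
  have h3 : 3 ≤ Fintype.card ι := by
    have hli : LinearIndependent F ![a, z, z'] := by
      rw [Fintype.linearIndependent_iff]
      intro g hg
      simp only [Fin.sum_univ_three, Matrix.cons_val_zero, Matrix.cons_val_one,
        Matrix.cons_val_two, Matrix.head_cons, Matrix.tail_cons] at hg
      have e0 : g 0 = 0 := by
        have h := congrArg (fun v => ⟪a, v⟫) hg
        simp only [QuadraticMap.polar_add_right, QuadraticMap.polar_smul_right,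
          QuadraticMap.polar_self, hza, hz'a, smul_eq_mul, mul_zero, add_zero,
          QuadraticMap.polar_zero_right, nsmul_eq_mul, Nat.cast_ofNat] at h
        exact (mul_eq_zero.mp h).resolve_right h2A
      have e2 : g 2 = 0 := by
        have h := congrArg (fun v => ⟪z, v⟫) hg
        simp only [QuadraticMap.polar_add_right, QuadraticMap.polar_smul_right,
          QuadraticMap.polar_comm (⇑Q) z a, hza, hzz, hzz', smul_eq_mul, mul_zero, add_zero,
          zero_add, QuadraticMap.polar_zero_right] at h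
        exact (mul_eq_zero.mp h).resolve_right hz₀
      have e1 : g 1 = 0 := by
        have h := congrArg (fun v => ⟪z', v⟫) hg
        simp only [QuadraticMap.polar_add_right, QuadraticMap.polar_smul_right,
          QuadraticMap.polar_comm (⇑Q) z' a, QuadraticMap.polar_comm (⇑Q) z' z, hz'a, hz'z', hzz',
          smul_eq_mul, mul_zero, add_zero, zero_add, QuadraticMap.polar_zero_right] at h
        exact (mul_eq_zero.mp h).resolve_right hz₀
      intro i
      fin_cases i
      · exact e0
      · exact e1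
      · exact e2
    have := hli.fintype_card_le_finrank
    rw [Module.finrank_fintype_fun_eq_card, Fintype.card_fin] at this
    exact this
  have h4' : 4 ≤ Fintype.card ι := by
    obtain ⟨k, hk⟩ := heven
    omega
  by_cases h5 : 5 ≤ Fintype.card ι
  · -- the orthogonal complement of `a, z, z'` has dimension at least two
    let φ : (ι → F) →ₗ[F] F × F × F :=
      (QuadraticMap.polarBilin Q a).prod
        ((QuadraticMap.polarBilin Q z).prod (QuadraticMap.polarBilin Q z'))
    have hker : ∀ v, v ∈ LinearMap.ker φ ↔ ⟪a, v⟫ = 0 ∧ ⟪z, v⟫ = 0 ∧ ⟪z', v⟫ = 0 := by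
      intro v
      simp [φ, LinearMap.mem_ker, Prod.ext_iff]
    have hfr : 2 ≤ finrank F (LinearMap.ker φ) := by
      have h1 := LinearMap.finrank_range_add_finrank_ker φ
      have h2' : finrank F (LinearMap.range φ) ≤ 3 := by
        have := Submodule.finrank_le (LinearMap.range φ)
        rwa [finrank_prod, finrank_prod, finrank_self] at this
      rw [Module.finrank_fintype_fun_eq_card] at h1
      omega
    have key : ∀ x : LinearMap.ker φ, (∀ y : LinearMap.ker φ, ⟪(x : ι → F), (y : ι → F)⟫ = 0) →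
        x = 0 := by
      intro x hx
      obtain ⟨hxa, hxz, hxz'⟩ := (hker x).mp x.2
      apply Subtype.ext
      apply hQ.1 (x : ι → F)
      intro v
      have hmem : v - (⟪a, v⟫ / (2 * Q a)) • a - (⟪z', v⟫ / κ) • z - (⟪z, v⟫ / κ) • z' ∈
          LinearMap.ker φ := by
        rw [hker]
        refine ⟨?_, ?_, ?_⟩
        · rw [QuadraticMap.polar_sub_right, QuadraticMap.polar_sub_right,
            QuadraticMap.polar_sub_right, QuadraticMap.polar_smul_right,
            QuadraticMap.polar_smul_right, QuadraticMap.polar_smul_right, hza, hz'a,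
            QuadraticMap.polar_self]
          simp only [smul_eq_mul, mul_zero, sub_zero, nsmul_eq_mul, Nat.cast_ofNat]
          rw [div_mul_cancel₀ _ h2A, sub_self]
        · rw [QuadraticMap.polar_sub_right, QuadraticMap.polar_sub_right,
            QuadraticMap.polar_sub_right, QuadraticMap.polar_smul_right,
            QuadraticMap.polar_smul_right, QuadraticMap.polar_smul_right,
            QuadraticMap.polar_comm (⇑Q) z a, hza, hzz, hzz']
          simp only [smul_eq_mul, mul_zero, sub_zero]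
          rw [div_mul_cancel₀ _ hz₀, sub_self]
        · rw [QuadraticMap.polar_sub_right, QuadraticMap.polar_sub_right,
            QuadraticMap.polar_sub_right, QuadraticMap.polar_smul_right,
            QuadraticMap.polar_smul_right, QuadraticMap.polar_smul_right,
            QuadraticMap.polar_comm (⇑Q) z' a, hz'a, QuadraticMap.polar_comm (⇑Q) z' z, hzz',
            hz'z']
          simp only [smul_eq_mul, mul_zero, sub_zero]
          rw [div_mul_cancel₀ _ hz₀, sub_self]
      have h0 := hx ⟨_, hmem⟩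
      simp only [QuadraticMap.polar_sub_right, QuadraticMap.polar_smul_right,
        QuadraticMap.polar_comm (⇑Q) (x : ι → F) a, QuadraticMap.polar_comm (⇑Q) (x : ι → F) z,
        QuadraticMap.polar_comm (⇑Q) (x : ι → F) z', hxa, hxz, hxz', smul_zero, sub_zero] at h0
      rw [QuadraticMap.polarBilin_apply_apply]
      exact h0
    have hnd : (QuadraticMap.polarBilin
        (restrictQ Q (LinearMap.ker φ))).Nondegenerate := by
      constructor
      · intro x hx
        apply key x
        intro y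
        have := hx y
        rw [QuadraticMap.polarBilin_apply_apply, Cfsg.Agent.Lib.helper7.QGeom.polar_restrictQ] at this
        exact this
      · intro y hy
        apply key y
        intro x
        have := hy x
        rw [QuadraticMap.polarBilin_apply_apply, Cfsg.Agent.Lib.helper7.QGeom.polar_restrictQ,
          QuadraticMap.polar_comm] at this
        exact this
    obtain ⟨e, he⟩ := Cfsg.Agent.S0788.exists_eq h2
      (restrictQ Q (LinearMap.ker φ)) hnd hfr (Q a) ha
    obtain ⟨hea, hez, hez'⟩ := (hker e).mp e.2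
    have heQ : Q (e : ι → F) = Q a := he
    have heb : ⟪(e : ι → F), b⟫ = 0 := by
      have h := hzexp (e : ι → F)
      rw [QuadraticMap.polar_comm (⇑Q) (e : ι → F) z, hez,
        QuadraticMap.polar_comm (⇑Q) (e : ι → F) a, hea] at h
      have h' : 2 * Q a * ⟪(e : ι → F), b⟫ = 0 := by linear_combination h
      exact (mul_eq_zero.mp h').resolve_left h2A
    refine ⟨(e : ι → F), heQ, ?_, ?_⟩
    · rw [hea, heQ]
      intro h
      have : Q a * Q a = 0 := by
        have h' : 4 * (Q a * Q a) = 0 := by linear_combination -h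
        exact (mul_eq_zero.mp h').resolve_left h4
      exact ha (mul_self_eq_zero.mp this)
    · rw [heb, heQ]
      intro h
      have : Q a * Q b = 0 := by
        have h' : 4 * (Q a * Q b) = 0 := by linear_combination -h
        exact (mul_eq_zero.mp h').resolve_left h4
      exact mul_ne_zero ha hb this
  · have hc4 : Fintype.card ι = 4 := by omega
    have hF5 := five_le_card h2 (fun h => h43 ⟨hc4, h⟩)
    obtain ⟨r, hr⟩ : ∃ r, r = 2 * Q a * ⟪a, b⟫ / κ := ⟨_, rfl⟩
    obtain ⟨τ, hτ⟩ : ∃ τ : F, τ ∉ ({0, r, -r} : Finset F) := by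
      by_contra h
      push Not at h
      have hsub : (Finset.univ : Finset F) ⊆ ({0, r, -r} : Finset F) := fun x _ => h x
      have h1 := Finset.card_le_card hsub
      have h3' : ({0, r, -r} : Finset F).card ≤ 3 := Finset.card_le_three
      rw [Finset.card_univ] at h1
      omega
    simp only [Finset.mem_insert, Finset.mem_singleton, not_or] at hτ
    obtain ⟨hτ0, hτ1, hτ2⟩ := hτ
    have heQ : Q ((Q a / (κ * τ)) • z + τ • z') = Q a := by
      rw [QuadraticMap.map_add (⇑Q), QuadraticMap.map_smul, QuadraticMap.map_smul,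
        QuadraticMap.polar_smul_left, QuadraticMap.polar_smul_right, hzQ, hz'Q, hzz']
      simp only [smul_eq_mul]
      field_simp
      ring
    have hea : ⟪a, (Q a / (κ * τ)) • z + τ • z'⟫ = 0 := by
      rw [QuadraticMap.polar_add_right, QuadraticMap.polar_smul_right,
        QuadraticMap.polar_smul_right, hza, hz'a, smul_zero, smul_zero, add_zero]
    have heb : ⟪(Q a / (κ * τ)) • z + τ • z', b⟫ = τ * ⟪z', b⟫ := by
      rw [QuadraticMap.polar_add_left, QuadraticMap.polar_smul_left,
        QuadraticMap.polar_smul_left, QuadraticMap.polar_comm (⇑Q) z b, hzb, smul_zero, zero_add,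
        smul_eq_mul]
    refine ⟨(Q a / (κ * τ)) • z + τ • z', heQ, ?_, ?_⟩
    · rw [hea, heQ]
      intro h
      have : Q a * Q a = 0 := by
        have h' : 4 * (Q a * Q a) = 0 := by linear_combination -h
        exact (mul_eq_zero.mp h').resolve_left h4
      exact ha (mul_self_eq_zero.mp this)
    · rw [heb, heQ]
      intro h
      have h1 : (τ * κ - 2 * Q a * ⟪a, b⟫) * (τ * κ + 2 * Q a * ⟪a, b⟫) = 0 := by
        linear_combination (τ ^ 2 * (κ - 2 * Q a * ⟪z', b⟫)) * hz'b + 4 * Q a ^ 2 * h -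
          4 * Q a ^ 2 * hD
      rcases mul_eq_zero.mp h1 with h1 | h1
      · apply hτ1
        rw [hr]
        field_simp
        linear_combination h1
      · apply hτ2
        rw [hr]
        field_simp
        linear_combination h1

include hQ in
/-- `(★)`: the product of two reflections in vectors outside the class of `c` lies in the subgroup
generated by the reflections of the class of `c` -/
theorem star (h2 : (2 : F) ≠ 0) (heven : Even (Fintype.card ι))
    (h43 : ¬(Fintype.card ι = 4 ∧ Fintype.card F = 3)) {c : F} (hc : c ≠ 0) {a b : ι → F}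
    (ha : Q a ≠ 0) (hna : ¬Cls Q c a) (hb : Q b ≠ 0) (hnb : ¬Cls Q c b) :
    reflectionIsom Q a ha * reflectionIsom Q b hb ∈ Subgroup.closure (genSet Q c) := by
  by_cases hD : ⟪a, b⟫ ^ 2 - 4 * Q a * Q b = 0
  swap
  · exact star_nondeg Q h2 hc ha hna hb hnb hD
  have h2A : 2 * Q a ≠ 0 := mul_ne_zero h2 ha
  by_cases hz0 : ⟪a, b⟫ • a - (2 * Q a) • b = 0
  · have hB : ⟪a, b⟫ ≠ 0 := by
      intro h
      rw [h] at hD
      have h4 : (4 : F) ≠ 0 := by
        have : (4 : F) = 2 * 2 := by norm_num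
        rw [this]
        exact mul_ne_zero h2 h2
      have : 4 * (Q a * Q b) = 0 := by linear_combination -hD
      exact mul_ne_zero ha hb ((mul_eq_zero.mp this).resolve_left h4)
    have hb' : b = (⟪a, b⟫ / (2 * Q a)) • a := by
      have h1 : (2 * Q a) • b = ⟪a, b⟫ • a := (sub_eq_zero.mp hz0).symm
      rw [div_eq_inv_mul, ← smul_smul, ← h1, smul_smul, inv_mul_cancel₀ h2A, one_smul]
    have hl : ⟪a, b⟫ / (2 * Q a) ≠ 0 := div_ne_zero hB h2A
    have hla : Q ((⟪a, b⟫ / (2 * Q a)) • a) ≠ 0 := by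
      rw [← hb']
      exact hb
    have h1 : reflectionIsom Q b hb = reflectionIsom Q a ha := by
      rw [refl_congr Q hb' hb hla]
      exact refl_smul Q ha hl hla
    rw [h1, reflectionIsom_mul_self]
    exact Subgroup.one_mem _
  · obtain ⟨e, heQ, hD1, hD2⟩ := exists_mid Q hQ h2 heven h43 ha hb hD hz0
    have he : Q e ≠ 0 := by rw [heQ]; exact ha
    have hne : ¬Cls Q c e := by
      rintro ⟨t, ht, h⟩
      exact hna ⟨t, ht, by rw [← heQ]; exact h⟩
    have h1 := star_nondeg Q h2 hc ha hna he hne hD1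
    have h2' := star_nondeg Q h2 hc he hne hb hnb hD2
    have h3 : reflectionIsom Q a ha * reflectionIsom Q b hb =
        (reflectionIsom Q a ha * reflectionIsom Q e he) *
          (reflectionIsom Q e he * reflectionIsom Q b hb) := by
      rw [mul_assoc, ← mul_assoc (reflectionIsom Q e he), reflectionIsom_mul_self, one_mul]
    rw [h3]
    exact Subgroup.mul_mem _ h1 h2'

end

section

variable {F : Type*} [Field F] [Fintype F] {ι : Type} [Fintype ι] [DecidableEq ι]
  (Q : QuadraticForm F (ι → F))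

omit [Fintype F] in
theorem refl_eq_reflG {v : ι → F} (hv : Q v ≠ 0) : reflectionIsom Q v hv = reflG Q v hv := by
  apply Subtype.ext
  apply Units.ext
  rw [reflectionIsom_coe, reflG_val]

/-- a reflection in a vector outside the class of `c` does not lie in the subgroup generated by the
reflections of the class of `c` -/
theorem not_mem (h2 : (2 : F) ≠ 0) {c : F} (hc : c ≠ 0) {a₀ : ι → F} (ha₀ : Q a₀ ≠ 0)
    (hsq : IsSquare (Q a₀) ↔ ¬IsSquare c) :
    reflectionIsom Q a₀ ha₀ ∉ Subgroup.closure (genSet Q c) := by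
  classical
  intro hmem
  obtain ⟨ε, hε⟩ : ∃ ε : ℤˣ, ε = if IsSquare c then -1 else 1 := ⟨_, rfl⟩
  have key : ∀ g ∈ Subgroup.closure (genSet Q c),
      (spinorSign (⇑Q) g = 1 ∧ detHom (⇑Q) g = 1) ∨
        (spinorSign (⇑Q) g = ε ∧ detHom (⇑Q) g = -1) := by
    intro g hg
    induction hg using Subgroup.closure_induction with
    | mem x hx =>
      obtain ⟨v, hv, ⟨t, ht, hQt⟩, rfl⟩ := gen_eq_refl Q hc hx
      right
      have hiff : IsSquare (Q v) ↔ IsSquare c := by
        rw [hQt]
        constructor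
        · rintro ⟨e, he⟩
          refine ⟨e / t, ?_⟩
          field_simp
          linear_combination he
        · rintro ⟨d, hd⟩
          exact ⟨d * t, by rw [hd]; ring⟩
      refine ⟨?_, ?_⟩
      · rw [refl_eq_reflG]
        by_cases hcs : IsSquare c
        · rw [hε, if_pos hcs]
          exact (spinorSign_refl h2 Q v hv).1 (hiff.mpr hcs)
        · rw [hε, if_neg hcs]
          exact (spinorSign_refl h2 Q v hv).2 (fun h => hcs (hiff.mp h))
      · rw [refl_eq_reflG, ← reflG'_eq Q v hv]
        exact detHom_refl Q v hv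
    | one =>
      left
      exact ⟨map_one _, map_one _⟩
    | mul x y _ _ hx hy =>
      rw [map_mul, map_mul]
      rcases hx with ⟨h1, h1'⟩ | ⟨h1, h1'⟩ <;> rcases hy with ⟨h3, h3'⟩ | ⟨h3, h3'⟩
      · left
        rw [h1, h1', h3, h3']
        simp
      · right
        rw [h1, h1', h3, h3']
        simp
      · right
        rw [h1, h1', h3, h3']
        simp
      · left
        rw [h1, h1', h3, h3']
        exact ⟨Int.units_mul_self ε, by simp⟩
    | inv x _ hx =>
      rw [map_inv, map_inv]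
      rcases hx with ⟨h1, h1'⟩ | ⟨h1, h1'⟩
      · left
        rw [h1, h1']
        simp
      · right
        rw [h1, h1']
        exact ⟨Int.units_inv_eq_self ε, by simp⟩
  have hdet : detHom (⇑Q) (reflectionIsom Q a₀ ha₀) = -1 := by
    rw [refl_eq_reflG, ← reflG'_eq Q a₀ ha₀]
    exact detHom_refl Q a₀ ha₀
  have hneg : (-1 : Fˣ) ≠ 1 := Cfsg.Agent.S0788.neg_one_ne_one_units h2
  have hsp : spinorSign (⇑Q) (reflectionIsom Q a₀ ha₀) = -ε := by
    rw [refl_eq_reflG]
    by_cases hcs : IsSquare c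
    · rw [hε, if_pos hcs, neg_neg]
      exact (spinorSign_refl h2 Q a₀ ha₀).2 (fun h => hsq.mp h hcs)
    · rw [hε, if_neg hcs]
      exact (spinorSign_refl h2 Q a₀ ha₀).1 (hsq.mpr hcs)
  rcases key _ hmem with ⟨-, h1⟩ | ⟨h1, -⟩
  · rw [hdet] at h1
    exact hneg h1
  · rw [hsp] at h1
    exact neg_units_ne_self ε h1

end

/-- For q odd, n ≥ 2 even, Q with non-degenerate polar form (n, |F|) ≠ (4, 3), and a fixed c ≠ 0: the subgroup of the isometry group generated by the reflections r_v with Q(v) ∈ c·(F^×)² has index 2. -/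
theorem result {F : Type*} [Field F] [Fintype F] (h2 : (2 : F) ≠ 0) {n : ℕ} (hn : 2 ≤ n) (heven : Even n) (Q : QuadraticForm F (Fin n → F)) (hQ : (QuadraticMap.polarBilin Q).Nondegenerate) (h43 : ¬ (n = 4 ∧ Fintype.card F = 3)) (c : F) (hc : c ≠ 0) : (Subgroup.closure {g : ↥(Cfsg.isometryGroup F ⇑Q) | ∃ (v : Fin n → F) (t : F), t ≠ 0 ∧ Q v = c * t ^ 2 ∧ ((g : Matrix.GeneralLinearGroup (Fin n) F) : Matrix (Fin n) (Fin n) F) = Cfsg.reflectionMatrix ⇑Q v}).index = 2 := by
  classical
  have hcard : Fintype.card (Fin n) = n := Fintype.card_fin n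
  have hN := gen_normal Q hc
  show (Subgroup.closure (genSet Q c)).index = 2
  rw [Subgroup.index_eq_two_iff]
  have hchar : ringChar F ≠ 2 := by
    intro h
    have h0 := CharP.cast_eq_zero F (ringChar F)
    rw [h] at h0
    exact h2 (by exact_mod_cast h0)
  obtain ⟨ν, hν⟩ := FiniteField.exists_nonsquare hchar
  have hν0 : ν ≠ 0 := fun h => hν (h ▸ ⟨0, by simp⟩)
  obtain ⟨a₀, ha₀Q⟩ := Cfsg.Agent.S0788.exists_eq h2 Q hQ
    (by rw [Module.finrank_fintype_fun_eq_card, hcard]; exact hn) (c * ν) (mul_ne_zero hc hν0)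
  have ha₀ : Q a₀ ≠ 0 := by
    rw [ha₀Q]
    exact mul_ne_zero hc hν0
  have hna₀ : ¬Cls Q c a₀ := by
    rintro ⟨t, ht, h⟩
    rw [ha₀Q] at h
    have h' := mul_left_cancel₀ hc h
    exact hν ⟨t, by rw [h']; ring⟩
  have hsq : IsSquare (Q a₀) ↔ ¬IsSquare c := by
    rw [ha₀Q]
    constructor
    · rintro ⟨e, he⟩ ⟨d, hd⟩
      have hd0 : d ≠ 0 := by
        rintro rfl
        exact hc (by rw [hd]; ring)
      apply hν
      refine ⟨e / d, ?_⟩
      rw [hd] at he
      field_simp
      linear_combination he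
    · intro hcs
      exact isSquare_mul_of_not hcs hν
  obtain ⟨A, hA⟩ : ∃ A, A = reflectionIsom Q a₀ ha₀ := ⟨_, rfl⟩
  have hAA : A * A = 1 := by
    rw [hA]
    exact reflectionIsom_mul_self Q a₀ ha₀
  have hAinv : A⁻¹ = A := by
    rw [hA]
    exact reflectionIsom_inv Q a₀ ha₀
  have hAnot : A ∉ Subgroup.closure (genSet Q c) := by
    rw [hA]
    exact not_mem Q h2 hc ha₀ hsq
  refine ⟨A, fun b => ?_⟩
  have h1 : b ∈ Subgroup.closure (genSet Q c) ∨ b * A ∈ Subgroup.closure (genSet Q c) := by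
    have hb : b ∈ reflSubgroup Q := by
      rw [reflSubgroup_eq_top h2 Q hQ]
      exact Subgroup.mem_top b
    unfold reflSubgroup at hb
    induction hb using Subgroup.closure_induction with
    | mem x hx =>
      obtain ⟨v, hv, rfl⟩ := hx
      by_cases hcl : Cls Q c v
      · left
        exact refl_mem_gen Q c hv hcl
      · right
        rw [hA]
        exact star Q hQ h2 (by rw [hcard]; exact heven) (by rw [hcard]; exact h43) hc hv hcl
          ha₀ hna₀
    | one =>
      left
      exact Subgroup.one_mem _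
    | mul x y _ _ hx hy =>
      rcases hx with hx | hx <;> rcases hy with hy | hy
      · left
        exact Subgroup.mul_mem _ hx hy
      · right
        rw [mul_assoc]
        exact Subgroup.mul_mem _ hx hy
      · right
        have h3 : x * y * A = (x * A) * (A * y * A⁻¹) := by
          rw [hAinv, ← mul_assoc, ← mul_assoc, mul_assoc x A A, hAA, mul_one]
        rw [h3]
        exact Subgroup.mul_mem _ hx (hN.conj_mem y hy A)
      · left
        have h3 : x * y = (x * A) * (A * (y * A) * A⁻¹) := by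
          rw [hAinv, mul_assoc A (y * A) A, mul_assoc y A A, hAA, mul_one, ← mul_assoc,
            mul_assoc x A A, hAA, mul_one]
        rw [h3]
        exact Subgroup.mul_mem _ hx (hN.conj_mem _ hy A)
    | inv x _ hx =>
      rcases hx with hx | hx
      · left
        exact Subgroup.inv_mem _ hx
      · right
        have h3 : x⁻¹ * A = A * (x * A)⁻¹ * A⁻¹ := by
          rw [mul_inv_rev, hAinv, ← mul_assoc, hAA, one_mul]
        rw [h3]
        exact hN.conj_mem _ (Subgroup.inv_mem _ hx) A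
  by_cases hb : b ∈ Subgroup.closure (genSet Q c)
  · right
    refine ⟨hb, fun hba => hAnot ?_⟩
    have h3 := Subgroup.mul_mem _ (Subgroup.inv_mem _ hb) hba
    rwa [inv_mul_cancel_left] at h3
  · left
    exact ⟨h1.resolve_left hb, hb⟩

end Cfsg.Agent.S0798
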