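import Cfsg.Statements.S0800
import Mathlib

set_option autoImplicit false
open Cfsg

namespace Cfsg.Agent.S0800

open Polynomial

/-- Tori of SL_2(q): if g ∈ SL_2(q) has order coprime to the characteristic p, then the order of g divides q − 1 or q + 1. -/
theorem result {F : Type*} [Field F] [Fintype F] {q : ℕ} (hF : Fintype.card F = q) (p : ℕ) [Fact p.Prime] [CharP F p] (g : Matrix.SpecialLinearGroup (Fin 2) F) (hg : Nat.Coprime (orderOf g) p) : orderOf g ∣ q - 1 ∨ orderOf g ∣ q + 1 := by
  classical
  set M : Matrix (Fin 2) (Fin 2) F := (g : Matrix (Fin 2) (Fin 2) F) with hM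
  set t : F := M.trace with ht
  set P : Polynomial F := X ^ 2 - C t * X + 1 with hPdef
  have hP : aeval M P = 0 := by
    have h1 := Matrix.aeval_self_charpoly M
    rw [Matrix.charpoly_fin_two] at h1
    have hdet : M.det = 1 := g.2
    rw [hdet, C_1] at h1
    exact h1
  have key : ∀ k : ℕ, P ∣ X ^ k - 1 → g ^ k = 1 := by
    rintro k ⟨Q, hQ⟩
    have h1 : aeval M (X ^ k - 1 : Polynomial F) = 0 := by rw [hQ, map_mul, hP, zero_mul]
    simp only [map_sub, map_pow, aeval_X, map_one] at h1
    apply Subtype.ext
    have e1 : ((g ^ k : Matrix.SpecialLinearGroup (Fin 2) F) : Matrix (Fin 2) (Fin 2) F) = M ^ k :=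
      Matrix.SpecialLinearGroup.coe_pow g k
    have e2 : ((1 : Matrix.SpecialLinearGroup (Fin 2) F) : Matrix (Fin 2) (Fin 2) F) = 1 :=
      Matrix.SpecialLinearGroup.coe_one
    rw [e1, e2]
    exact sub_eq_zero.mp h1
  have hq : q = Fintype.card F := hF.symm
  have hqpos : 0 < q := by rw [hq]; exact Fintype.card_pos
  have hp2 : 2 ≤ p := (Fact.out : p.Prime).two_le
  by_cases hroot : ∃ α : F, P.IsRoot α
  · obtain ⟨α, hα⟩ := hroot
    have hα' : α ^ 2 - t * α + 1 = 0 := by simpa [P] using hα
    have hα0 : α ≠ 0 := by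
      rintro rfl
      simp at hα'
    have ht' : t = α + α⁻¹ := by
      field_simp
      linear_combination -hα'
    have hCC : C α * C α⁻¹ = (1 : Polynomial F) := by
      rw [← C_mul, mul_inv_cancel₀ hα0, C_1]
    have hfac : P = (X - C α) * (X - C α⁻¹) := by
      rw [hPdef, ht', C_add]
      linear_combination -hCC
    by_cases hαα : α = α⁻¹
    · -- repeated root
      rw [← hαα] at hfac hCC
      have hdvd : P ∣ X ^ (2 * p) - 1 := by
        have h1 : (X ^ (2 * p) - 1 : Polynomial F) = (X ^ 2 - 1) ^ p := by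
          rw [sub_pow_char, one_pow, ← pow_mul]
        have h2 : (X ^ 2 - 1 : Polynomial F) = (X - C α) * (X + C α) := by
          linear_combination hCC
        rw [h1, h2, mul_pow, hfac, ← sq]
        exact Dvd.dvd.mul_right (pow_dvd_pow _ hp2) _
      have h1 : orderOf g ∣ 2 * p := orderOf_dvd_of_pow_eq_one (key _ hdvd)
      have h2 : orderOf g ∣ 2 := Nat.Coprime.dvd_of_dvd_mul_right hg h1
      left
      by_cases hp : p = 2
      · rw [hp] at hg
        have h3 : orderOf g ∣ 1 := by
          have := Nat.dvd_gcd (dvd_refl (orderOf g)) h2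
          rwa [hg.gcd_eq_one] at this
        exact h3.trans (one_dvd _)
      · obtain ⟨n, hprime, hcard⟩ := FiniteField.card F p
        have hodd : Odd q := by
          rw [hq, hcard]
          exact (hprime.odd_of_ne_two hp).pow
        obtain ⟨m, hm⟩ := hodd
        exact h2.trans ⟨m, by omega⟩
    · left
      apply orderOf_dvd_of_pow_eq_one
      apply key
      rw [hfac]
      have h1 : X - C α ∣ (X ^ (q - 1) - 1 : Polynomial F) := by
        rw [dvd_iff_isRoot]
        simp [hq, FiniteField.pow_card_sub_one_eq_one α hα0]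
      have h2 : X - C α⁻¹ ∣ (X ^ (q - 1) - 1 : Polynomial F) := by
        rw [dvd_iff_isRoot]
        simp [hq, FiniteField.pow_card_sub_one_eq_one α⁻¹ (inv_ne_zero hα0)]
      have hcop : IsCoprime (X - C α) (X - C α⁻¹) :=
        Polynomial.isCoprime_X_sub_C_of_isUnit_sub (sub_ne_zero.mpr hαα).isUnit
      exact hcop.mul_dvd h1 h2
  · -- irreducible case
    have hdeg : P.natDegree = 2 := by
      rw [hPdef]
      compute_degree!
    have hirr : Irreducible P :=
      irreducible_of_degree_le_three_of_not_isRoot (by rw [hdeg]; simp)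
        (fun x hx => hroot ⟨x, hx⟩)
    have : Fact (Irreducible P) := ⟨hirr⟩
    set α : AdjoinRoot P := AdjoinRoot.root P with hαdef
    have hαP : aeval α P = 0 := by
      rw [hαdef, AdjoinRoot.aeval_eq, AdjoinRoot.mk_self]
    have hβP : aeval (α ^ q) P = 0 := by
      rw [← expand_aeval, hq, FiniteField.expand_card, map_pow, hαP, zero_pow Fintype.card_ne_zero]
    have hα1 : α ^ 2 - algebraMap F (AdjoinRoot P) t * α + 1 = 0 := by
      simpa [hPdef] using hαP
    have hβ1 : (α ^ q) ^ 2 - algebraMap F (AdjoinRoot P) t * α ^ q + 1 = 0 := by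
      simpa [hPdef] using hβP
    have hα0 : α ≠ 0 := by
      intro h
      rw [h] at hα1
      simp at hα1
    have hprod : (α ^ q - α) * (α ^ q + α - algebraMap F (AdjoinRoot P) t) = 0 := by
      linear_combination hβ1 - hα1
    rcases mul_eq_zero.mp hprod with h | h
    · left
      apply orderOf_dvd_of_pow_eq_one
      apply key
      rw [← AdjoinRoot.mk_eq_zero]
      simp only [map_sub, map_pow, AdjoinRoot.mk_X, map_one]
      have h1 : α ^ (q - 1) * α = α := by
        rw [← pow_succ, Nat.sub_add_cancel hqpos]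
        exact sub_eq_zero.mp h
      have h2 : α ^ (q - 1) = 1 := by
        have := mul_right_cancel₀ hα0 (h1.trans (one_mul α).symm)
        exact this
      rw [← hαdef, h2, sub_self]
    · right
      apply orderOf_dvd_of_pow_eq_one
      apply key
      rw [← AdjoinRoot.mk_eq_zero]
      simp only [map_sub, map_pow, AdjoinRoot.mk_X, map_one]
      rw [← hαdef, pow_succ]
      linear_combination α * h - hα1

end Cfsg.Agent.S0800
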