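import Cfsg.Statements.S0802
import Mathlib
import Cfsg.Agent.Lib.helper47.A4Gen
import Cfsg.Agent.Lib.helper47.A5Gen
import Cfsg.Agent.Lib.helper59.SL2

set_option autoImplicit false
open Cfsg
open Cfsg.Agent.Lib.helper47.AutPSL2 Cfsg.Agent.Lib.helper47.A5Gen Cfsg.Agent.Lib.helper47.A4Gen

namespace Cfsg.Agent.S0802

/-- the Klein four-group and an element of order three in `A₄` -/
theorem alt4_elements : ∃ a b c : alternatingGroup (Fin 4), a * a = 1 ∧ a ≠ 1 ∧ a ≠ b ∧
    a * b = b * a ∧ c * a = b * c ∧ c * (c * c) = 1 := by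
  refine ⟨⟨Equiv.swap 0 1 * Equiv.swap 2 3, Equiv.Perm.mem_alternatingGroup.mpr (by decide)⟩,
    ⟨Equiv.swap 1 2 * Equiv.swap 0 3, Equiv.Perm.mem_alternatingGroup.mpr (by decide)⟩,
    ⟨Equiv.swap 0 1 * Equiv.swap 1 2, Equiv.Perm.mem_alternatingGroup.mpr (by decide)⟩,
    ?_, ?_, ?_, ?_, ?_, ?_⟩
  · exact Subtype.ext (by decide)
  · exact fun h => absurd (congrArg Subtype.val h) (by decide)
  · exact fun h => absurd (congrArg Subtype.val h) (by decide)
  · exact Subtype.ext (by decide)
  · exact Subtype.ext (by decide)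
  · exact Subtype.ext (by decide)

section odd

variable {F : Type*} [Field F] [Fintype F]

theorem exists_A4_odd (h2 : (2 : F) ≠ 0) (hodd : Odd (Fintype.card F)) :
    ∃ H : Subgroup (Matrix.ProjectiveSpecialLinearGroup (Fin 2) F),
      Nonempty (H ≃* alternatingGroup (Fin 4)) := by
  obtain ⟨x, y, hxy⟩ := Cfsg.Agent.Lib.helper59.exists_sq_add_sq_of_odd_card hodd (-1 : F)
  obtain ⟨A, hA⟩ : ∃ A : Matrix.SpecialLinearGroup (Fin 2) F, A = mk2 0 1 (-1) 0 (by ring) :=
    ⟨_, rfl⟩
  obtain ⟨B, hB⟩ : ∃ B : Matrix.SpecialLinearGroup (Fin 2) F,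
      B = mk2 x y y (-x) (by linear_combination (-1 : F) * hxy) := ⟨_, rfl⟩
  obtain ⟨C, hC⟩ : ∃ C : Matrix.SpecialLinearGroup (Fin 2) F,
      C = mk2 ((-1 - x - y) / 2) ((x - y - 1) / 2) ((1 + x - y) / 2) ((x + y - 1) / 2)
        (by field_simp; linear_combination (-2 : F) * hxy) := ⟨_, rfl⟩
  have hneg1 : pr (-1 : Matrix.SpecialLinearGroup (Fin 2) F) = 1 := by rw [pr_neg, map_one]
  have hAA : A * A = -1 := by
    rw [hA]
    apply sl2_ext <;> simp only [mul_e00, mul_e01, mul_e10, mul_e11, mk2_e00, mk2_e01,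
      mk2_e10, mk2_e11, neg_e, one_e00, one_e01, one_e10, one_e11] <;> ring
  have hBB : B * B = -1 := by
    rw [hB]
    apply sl2_ext <;> simp only [mul_e00, mul_e01, mul_e10, mul_e11, mk2_e00, mk2_e01,
      mk2_e10, mk2_e11, neg_e, one_e00, one_e01, one_e10, one_e11]
    · linear_combination hxy
    · ring
    · ring
    · linear_combination hxy
  have hBA : B * A = -(A * B) := by
    rw [hA, hB]
    apply sl2_ext <;> simp only [mul_e00, mul_e01, mul_e10, mul_e11, mk2_e00, mk2_e01,
      mk2_e10, mk2_e11, neg_e, one_e00, one_e01, one_e10, one_e11] <;> ring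
  have hCA : C * A = B * C := by
    rw [hA, hB, hC]
    apply sl2_ext <;> simp only [mul_e00, mul_e01, mul_e10, mul_e11, mk2_e00, mk2_e01,
      mk2_e10, mk2_e11, neg_e, one_e00, one_e01, one_e10, one_e11] <;> field_simp <;>
      first | linear_combination hxy | linear_combination (-1 : F) * hxy | ring1
  have hCB : C * B = A * (B * C) := by
    rw [hA, hB, hC]
    apply sl2_ext <;> simp only [mul_e00, mul_e01, mul_e10, mul_e11, mk2_e00, mk2_e01,
      mk2_e10, mk2_e11, neg_e, one_e00, one_e01, one_e10, one_e11] <;> field_simp <;>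
      first | linear_combination hxy | linear_combination (-1 : F) * hxy | ring1
  have hC3 : C * (C * C) = 1 := by
    have h1 : C ^ 3 = 1 := by
      apply Subtype.ext
      rw [val_pow, pow_three_lin]
      have ht : C.1 0 0 + C.1 1 1 = -1 := by
        rw [hC, mk2_e00, mk2_e11]; field_simp; ring
      rw [ht]
      simp
    rw [← h1, pow_succ, pow_succ, pow_one, mul_assoc]
  have h := exists_A4_of_rel (pr A) (pr B) (pr C)
    (by rw [← map_mul, hAA, hneg1]) (by rw [← map_mul, hBB, hneg1])
    (by rw [← map_mul, ← map_mul, hBA, pr_neg])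
    (by
      intro h
      have h' : pr (1 : Matrix.SpecialLinearGroup (Fin 2) F) = pr A := by rw [h, map_one]
      rcases (pr_eq_iff _ _).mp h' with h | h
      · have := congrArg (fun M : Matrix.SpecialLinearGroup (Fin 2) F => M.1 0 1) h
        simp [hA, mk2_e01] at this
      · have := congrArg (fun M : Matrix.SpecialLinearGroup (Fin 2) F => M.1 0 1) h
        simp [hA, mk2_e01] at this)
    (by
      intro h
      rcases (pr_eq_iff _ _).mp h with h | h
      · have e1 := congrArg (fun M : Matrix.SpecialLinearGroup (Fin 2) F => M.1 0 1) h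
        have e2 := congrArg (fun M : Matrix.SpecialLinearGroup (Fin 2) F => M.1 1 0) h
        simp only [hA, hB, mk2_e01, mk2_e10] at e1 e2
        apply h2
        linear_combination e2 - e1
      · have e1 := congrArg (fun M : Matrix.SpecialLinearGroup (Fin 2) F => M.1 0 1) h
        have e2 := congrArg (fun M : Matrix.SpecialLinearGroup (Fin 2) F => M.1 1 0) h
        simp only [hA, hB, mk2_e01, mk2_e10, neg_e] at e1 e2
        apply h2
        linear_combination e1 - e2)
    (by rw [← map_mul, ← map_mul, hC3, map_one])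
    (by rw [← map_mul, ← map_mul, hCA])
    (by rw [← map_mul, ← map_mul, ← map_mul, hCB])
  obtain ⟨H, hH, -⟩ := h
  exact ⟨H, hH⟩

end odd

section even

variable {F : Type*} [Field F] [Fintype F]

theorem exists_A4_even (h2 : (2 : F) = 0) (ω : F) (hω : ω ^ 2 + ω + 1 = 0) :
    ∃ H : Subgroup (Matrix.ProjectiveSpecialLinearGroup (Fin 2) F),
      Nonempty (H ≃* alternatingGroup (Fin 4)) := by
  have hω0 : ω ≠ 0 := by
    rintro rfl
    norm_num at hω
  have hω3 : ω ^ 3 = 1 := by linear_combination (ω - 1) * hω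
  have hω1 : ω ≠ 1 := by
    rintro rfl
    apply one_ne_zero (α := F)
    linear_combination hω - h2
  have hcu : ∀ t : F, hM ω hω0 * uM t = uM (ω ^ 2 * t) * hM ω hω0 := by
    intro t
    rw [← hM_conj_uM ω hω0 t]
    group
  have h := exists_A4_of_rel (pr (uM (1 : F))) (pr (uM (ω ^ 2))) (pr (hM ω hω0))
    (by
      rw [← map_mul, uM_mul]
      have : (1 : F) + 1 = 0 := by linear_combination h2
      rw [this, uM_zero, map_one])
    (by
      rw [← map_mul, uM_mul]
      have : ω ^ 2 + ω ^ 2 = 0 := by linear_combination ω ^ 2 * h2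
      rw [this, uM_zero, map_one])
    (by rw [← map_mul, ← map_mul, uM_mul, uM_mul, add_comm])
    (by
      intro h
      have h' : pr (uM (1 : F)) = pr (uM 0) := by rw [h, uM_zero, map_one]
      exact one_ne_zero (pr_uM_inj h'))
    (by
      intro h
      have h' : (1 : F) = ω ^ 2 := pr_uM_inj h
      apply hω1
      have : ω * ω ^ 2 = 1 := by rw [← hω3]; ring
      rw [← h', mul_one] at this
      exact this)
    (by
      rw [← map_mul, ← map_mul]
      have : hM ω hω0 * (hM ω hω0 * hM ω hω0) = 1 := by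
        apply sl2_ext <;> simp only [mul_e00, mul_e01, mul_e10, mul_e11, hM_e00, hM_e01,
          hM_e10, hM_e11, one_e00, one_e01, one_e10, one_e11]
        · linear_combination hω3
        · ring
        · ring
        · field_simp
          linear_combination -hω3
      rw [this, map_one])
    (by rw [← map_mul, ← map_mul, hcu, mul_one])
    (by
      rw [← map_mul, ← map_mul, ← map_mul, hcu, ← mul_assoc, uM_mul]
      congr 3
      linear_combination (ω ^ 2 - ω - 1) * hω + ω * h2)
  obtain ⟨H, hH, -⟩ := h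
  exact ⟨H, hH⟩

/-- in characteristic two, `PSL₂(F) ⊇ A₄` forces a primitive cube root of unity -/
theorem cube_root_of_A4 (h2 : (2 : F) = 0)
    (H : Subgroup (Matrix.ProjectiveSpecialLinearGroup (Fin 2) F))
    (e : H ≃* alternatingGroup (Fin 4)) : ∃ μ : F, μ ^ 3 = 1 ∧ μ ≠ 1 := by
  obtain ⟨a', b', c', haa, ha1, hab, hcomm, hca, hc3⟩ := alt4_elements
  -- transport to PSL₂
  have hneg : ∀ M : Matrix.SpecialLinearGroup (Fin 2) F, -M = M := by
    intro M
    apply sl2_ext <;> simp only [neg_e] <;> linear_combination (-(M.1 _ _)) * h2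
  have hinj : ∀ X Y : Matrix.SpecialLinearGroup (Fin 2) F, pr X = pr Y → X = Y := by
    intro X Y h
    rcases (pr_eq_iff _ _).mp h with h | h
    · exact h.symm
    · rw [hneg] at h; exact h.symm
  obtain ⟨A, hA⟩ := pr_surj ((e.symm a' : H) : Matrix.ProjectiveSpecialLinearGroup (Fin 2) F)
  obtain ⟨B, hB⟩ := pr_surj ((e.symm b' : H) : Matrix.ProjectiveSpecialLinearGroup (Fin 2) F)
  obtain ⟨C, hC⟩ := pr_surj ((e.symm c' : H) : Matrix.ProjectiveSpecialLinearGroup (Fin 2) F)
  have hAA : A * A = 1 := by
    apply hinj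
    rw [map_mul, hA, map_one, ← Subgroup.coe_mul, ← map_mul, haa, map_one, Subgroup.coe_one]
  have hA1 : A ≠ 1 := by
    intro h
    apply ha1
    apply e.symm.injective
    apply Subtype.ext
    rw [← hA, h, map_one, map_one, Subgroup.coe_one]
  have hAB : A ≠ B := by
    intro h
    apply hab
    apply e.symm.injective
    apply Subtype.ext
    rw [← hA, ← hB, h]
  have hcommM : A * B = B * A := by
    apply hinj
    rw [map_mul, map_mul, hA, hB, ← Subgroup.coe_mul, ← Subgroup.coe_mul, ← map_mul, ← map_mul,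
      hcomm]
  have hCA : C * A = B * C := by
    apply hinj
    rw [map_mul, map_mul, hA, hB, hC, ← Subgroup.coe_mul, ← Subgroup.coe_mul, ← map_mul,
      ← map_mul, hca]
  have hC3 : C * (C * C) = 1 := by
    apply hinj
    rw [map_mul, map_mul, hC, map_one, ← Subgroup.coe_mul, ← Subgroup.coe_mul, ← map_mul,
      ← map_mul, hc3, map_one, Subgroup.coe_one]
  -- entries
  have hBB : B * B = 1 := by
    have : B = C * A * C⁻¹ := by rw [hCA]; group
    rw [this]
    have : C * A * C⁻¹ * (C * A * C⁻¹) = C * (A * A) * C⁻¹ := by group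
    rw [this, hAA]; group
  have tr0 : ∀ M : Matrix.SpecialLinearGroup (Fin 2) F, M * M = 1 → M.1 1 1 = M.1 0 0 := by
    intro M hM
    have hd := sl2_det M
    have e00 := congrArg (fun X : Matrix.SpecialLinearGroup (Fin 2) F => X.1 0 0) hM
    have e01 := congrArg (fun X : Matrix.SpecialLinearGroup (Fin 2) F => X.1 0 1) hM
    have e10 := congrArg (fun X : Matrix.SpecialLinearGroup (Fin 2) F => X.1 1 0) hM
    have e11 := congrArg (fun X : Matrix.SpecialLinearGroup (Fin 2) F => X.1 1 1) hM
    simp only [mul_e00, mul_e01, mul_e10, mul_e11, one_e00, one_e01, one_e10, one_e11] at e00 e01 e10 e11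
    -- (a + d) * M = 0 entrywise; if a + d ≠ 0 then M = 0
    by_contra hne
    have ht : M.1 0 0 + M.1 1 1 ≠ 0 := by
      intro h
      apply hne
      linear_combination h - M.1 0 0 * h2
    have hb : M.1 0 1 = 0 := by
      have : (M.1 0 0 + M.1 1 1) * M.1 0 1 = 0 := by linear_combination e01
      rcases mul_eq_zero.mp this with h | h
      · exact absurd h ht
      · exact h
    have hc : M.1 1 0 = 0 := by
      have : (M.1 0 0 + M.1 1 1) * M.1 1 0 = 0 := by linear_combination e10
      rcases mul_eq_zero.mp this with h | h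
      · exact absurd h ht
      · exact h
    rw [hb, hc] at e00 e11 hd
    -- a^2 = 1, d^2 = 1, a d = 1 → a = d
    apply hne
    have had : M.1 0 0 * M.1 1 1 = 1 := by linear_combination hd
    have : M.1 1 1 = M.1 0 0 * (M.1 0 0 * M.1 1 1) := by
      rw [← mul_assoc, ← sq]
      have : M.1 0 0 ^ 2 = 1 := by linear_combination e00
      rw [this, one_mul]
    rw [this, had, mul_one]
  have sq_inj : ∀ s t : F, s ^ 2 = t ^ 2 → s = t := by
    intro s t h
    have : (s - t) ^ 2 = 0 := by linear_combination h + (t ^ 2 - s * t) * h2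
    have := pow_eq_zero_iff (two_ne_zero) |>.mp this
    linear_combination this
  have hA11 := tr0 A hAA
  have hB11 := tr0 B hBB
  have hdA := sl2_det A
  have hdB := sl2_det B
  rw [hA11] at hdA
  rw [hB11] at hdB
  have e00 := congrArg (fun X : Matrix.SpecialLinearGroup (Fin 2) F => X.1 0 0) hcommM
  simp only [mul_e00] at e00
  have hcross : A.1 0 1 * B.1 1 0 = A.1 1 0 * B.1 0 1 := by linear_combination e00
  -- find μ with B - 1 = μ (A - 1)
  obtain ⟨μ, hμ0, hμ1, hμ2⟩ : ∃ μ : F, B.1 0 0 + 1 = μ * (A.1 0 0 + 1) ∧ B.1 0 1 = μ * A.1 0 1 ∧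
      B.1 1 0 = μ * A.1 1 0 := by
    by_cases ha2 : A.1 0 1 = 0
    · have ha1' : A.1 0 0 = 1 := by
        apply sq_inj
        rw [ha2] at hdA
        linear_combination hdA
      have ha3 : A.1 1 0 ≠ 0 := by
        intro h
        apply hA1
        apply sl2_ext
        · rw [ha1', one_e00]
        · rw [ha2, one_e01]
        · rw [h, one_e10]
        · rw [hA11, ha1', one_e11]
      have hb2 : B.1 0 1 = 0 := by
        rw [ha2, zero_mul] at hcross
        rcases mul_eq_zero.mp hcross.symm with h | h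
        · exact absurd h ha3
        · exact h
      have hb1 : B.1 0 0 = 1 := by
        apply sq_inj
        rw [hb2] at hdB
        linear_combination hdB
      refine ⟨B.1 1 0 / A.1 1 0, ?_, ?_, ?_⟩
      · rw [hb1, ha1']; linear_combination (1 - B.1 1 0 / A.1 1 0) * h2
      · rw [hb2, ha2, mul_zero]
      · field_simp
    · refine ⟨B.1 0 1 / A.1 0 1, ?_, ?_, ?_⟩
      · apply sq_inj
        have h1 : (B.1 0 0 + 1) ^ 2 = B.1 0 1 * B.1 1 0 := by
          linear_combination hdB + (B.1 0 0 + 1) * h2
        have h2' : (A.1 0 0 + 1) ^ 2 = A.1 0 1 * A.1 1 0 := by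
          linear_combination hdA + (A.1 0 0 + 1) * h2
        rw [mul_pow, h1, h2']
        field_simp
        linear_combination (B.1 0 1) * hcross
      · field_simp
      · field_simp
        linear_combination hcross
  have hμne1 : μ ≠ 1 := by
    intro h
    rw [h, one_mul] at hμ0 hμ1 hμ2
    apply hAB
    apply sl2_ext
    · linear_combination -hμ0
    · exact hμ1.symm
    · exact hμ2.symm
    · rw [hA11, hB11]; linear_combination -hμ0
  refine ⟨μ, ?_, hμne1⟩
  -- the matrix N = A - 1
  obtain ⟨N, hN⟩ : ∃ N : Matrix (Fin 2) (Fin 2) F, N = A.1 - 1 := ⟨_, rfl⟩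
  have hBN : B.1 - 1 = μ • N := by
    rw [hN]
    ext i j
    fin_cases i <;> fin_cases j <;> simp
    · linear_combination hμ0 + (μ - 1) * h2
    · exact hμ1
    · exact hμ2
    · rw [hA11, hB11]; linear_combination hμ0 + (μ - 1) * h2
  have hCAm : C.1 * A.1 = B.1 * C.1 := by
    have := congrArg Subtype.val hCA
    simpa using this
  have e1 : C.1 * N = μ • (N * C.1) := by
    rw [← Matrix.smul_mul, ← hBN, hN, mul_sub, sub_mul, mul_one, one_mul, hCAm]
  have hC3m : C.1 * (C.1 * C.1) = 1 := by
    have := congrArg Subtype.val hC3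
    simpa using this
  have e3 : C.1 * (C.1 * (C.1 * N)) = (μ ^ 3) • (N * (C.1 * (C.1 * C.1))) := by
    rw [e1, Matrix.mul_smul, ← mul_assoc C.1 N C.1, e1, Matrix.smul_mul, Matrix.mul_smul,
      Matrix.mul_smul, ← mul_assoc C.1 (N * C.1) C.1, ← mul_assoc C.1 N C.1, e1, Matrix.smul_mul,
      Matrix.smul_mul, smul_smul, smul_smul]
    congr 1
    · ring
    · simp only [mul_assoc]
  rw [hC3m, mul_one, ← mul_assoc, ← mul_assoc, mul_assoc C.1 C.1 C.1, hC3m, one_mul] at e3
  -- N ≠ 0
  have hN0 : N ≠ 0 := by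
    intro h
    apply hA1
    apply Subtype.ext
    have : A.1 = 1 := by
      rw [hN] at h
      exact sub_eq_zero.mp h
    rw [this]; rfl
  by_contra hμ3
  apply hN0
  have h' : (1 - μ ^ 3) • N = 0 := by
    rw [sub_smul, one_smul, ← e3, sub_self]
  rcases smul_eq_zero.mp h' with h | h
  · exfalso; apply hμ3; linear_combination -h
  · exact h

end even

/-- PSL_2(p^n) has a subgroup isomorphic to A_4 if and only if it is not the case that p = 2 and n is odd. -/
theorem result {F : Type*} [Field F] [Fintype F] (p n : ℕ) [Fact p.Prime] [CharP F p] (hF : Fintype.card F = p ^ n) : (∃ H : Subgroup (Matrix.ProjectiveSpecialLinearGroup (Fin 2) F), Nonempty (H ≃* alternatingGroup (Fin 4))) ↔ ¬ (p = 2 ∧ Odd n) := by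
  classical
  have hp : p.Prime := Fact.out
  have hcardU : Nat.card Fˣ = p ^ n - 1 := by
    rw [Nat.card_units, Nat.card_eq_fintype_card, hF]
  constructor
  · rintro ⟨H, ⟨e⟩⟩ ⟨rfl, hn⟩
    have h2 : (2 : F) = 0 := by
      have := CharP.cast_eq_zero F 2
      exact_mod_cast this
    obtain ⟨μ, hμ3, hμ1⟩ := cube_root_of_A4 h2 H e
    have hμ0 : μ ≠ 0 := by
      rintro rfl
      norm_num at hμ3
    have ho : orderOf (Units.mk0 μ hμ0) = 3 := by
      haveI : Fact (Nat.Prime 3) := ⟨by norm_num⟩
      apply orderOf_eq_prime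
      · apply Units.ext
        simpa using hμ3
      · intro h
        apply hμ1
        have := congrArg Units.val h
        simpa using this
    have hdvd : 3 ∣ 2 ^ n - 1 := by
      rw [← hcardU, ← ho]
      exact orderOf_dvd_natCard _
    obtain ⟨k, rfl⟩ := hn
    have h4 : 4 ^ k % 3 = 1 := by
      rw [Nat.pow_mod]; simp
    have h5 : 2 ^ (2 * k + 1) = 2 * 4 ^ k := by
      rw [pow_succ, pow_mul]; norm_num; ring
    rw [h5] at hdvd
    have hpos : 0 < 4 ^ k := by positivity
    omega
  · intro hcond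
    by_cases hp2 : p = 2
    · subst hp2
      have hn : ¬ Odd n := fun h => hcond ⟨rfl, h⟩
      rw [Nat.not_odd_iff_even] at hn
      obtain ⟨k, rfl⟩ := hn
      have h2 : (2 : F) = 0 := by
        have := CharP.cast_eq_zero F 2
        exact_mod_cast this
      have h4 : 4 ^ k % 3 = 1 := by
        rw [Nat.pow_mod]; simp
      have h5 : 2 ^ (k + k) = 4 ^ k := by
        rw [← two_mul, pow_mul]; norm_num
      have hdvd : 3 ∣ Nat.card Fˣ := by
        rw [hcardU, h5]
        have hpos : 0 < 4 ^ k := by positivity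
        omega
      haveI : Fact (Nat.Prime 3) := ⟨by norm_num⟩
      obtain ⟨w, hw⟩ := exists_prime_orderOf_dvd_card' 3 hdvd
      have hw3 : (w : F) ^ 3 = 1 := by
        have := pow_orderOf_eq_one w
        rw [hw] at this
        have := congrArg Units.val this
        simpa using this
      have hw1 : (w : F) ≠ 1 := by
        intro h
        have : w = 1 := Units.ext (by simpa using h)
        rw [this, orderOf_one] at hw
        norm_num at hw
      have hω : (w : F) ^ 2 + (w : F) + 1 = 0 := by
        have : ((w : F) - 1) * ((w : F) ^ 2 + (w : F) + 1) = 0 := by linear_combination hw3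
        rcases mul_eq_zero.mp this with h | h
        · exact absurd (by linear_combination h) hw1
        · exact h
      exact exists_A4_even h2 (w : F) hω
    · have h2 : (2 : F) ≠ 0 := by
        intro h
        have : p ∣ 2 := (CharP.cast_eq_zero_iff F p 2).mp (by exact_mod_cast h)
        exact hp2 ((Nat.prime_dvd_prime_iff_eq hp Nat.prime_two).mp this)
      have hodd : Odd (Fintype.card F) := by
        rw [hF]
        exact (hp.odd_of_ne_two hp2).pow
      exact exists_A4_odd h2 hodd

end Cfsg.Agent.S0802
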