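import Cfsg.Statements.S0803
import Mathlib
import Cfsg.Agent.Lib.helper47.S4Gen
import Cfsg.Agent.Lib.helper47.A5Gen
import Cfsg.Agent.Lib.helper47.NormTorus
import Cfsg.Agent.Lib.helper59.SL2
import Cfsg.Agent.Lib.helper7.CardSL

set_option autoImplicit false
set_option linter.unusedSimpArgs false
set_option linter.unusedVariables false
open Cfsg
open Cfsg.Agent.Lib.helper47.AutPSL2 Cfsg.Agent.Lib.helper47.A5Gen Cfsg.Agent.Lib.helper47.S4Gen

namespace Cfsg.Agent.S0803

section aux

variable {F : Type*} [Field F] [Fintype F]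

theorem exists_S4_odd (h2 : (2 : F) ≠ 0) (hodd : Odd (Fintype.card F)) (s : F)
    (hs : 2 * s ^ 2 = 1) :
    ∃ H : Subgroup (Matrix.ProjectiveSpecialLinearGroup (Fin 2) F),
      Nonempty (H ≃* Equiv.Perm (Fin 4)) := by
  obtain ⟨x, y, hxy⟩ := Cfsg.Agent.Lib.helper59.exists_sq_add_sq_of_odd_card hodd (-1 : F)
  obtain ⟨A, hA⟩ : ∃ A : Matrix.SpecialLinearGroup (Fin 2) F, A = mk2 0 1 (-1) 0 (by ring) :=
    ⟨_, rfl⟩
  obtain ⟨B, hB⟩ : ∃ B : Matrix.SpecialLinearGroup (Fin 2) F,
      B = mk2 x y y (-x) (by linear_combination (-1 : F) * hxy) := ⟨_, rfl⟩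
  obtain ⟨C, hC⟩ : ∃ C : Matrix.SpecialLinearGroup (Fin 2) F,
      C = mk2 ((-1 - x - y) / 2) ((x - y - 1) / 2) ((1 + x - y) / 2) ((x + y - 1) / 2)
        (by field_simp; linear_combination (-2 : F) * hxy) := ⟨_, rfl⟩
  obtain ⟨D, hD⟩ : ∃ D : Matrix.SpecialLinearGroup (Fin 2) F,
      D = mk2 s s (-s) s (by linear_combination hs) := ⟨_, rfl⟩
  have hneg1 : pr (-1 : Matrix.SpecialLinearGroup (Fin 2) F) = 1 := by rw [pr_neg, map_one]
  have hAA : A * A = -1 := by
    rw [hA]
    apply sl2_ext <;> simp only [mul_e00, mul_e01, mul_e10, mul_e11, mk2_e00, mk2_e01,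
      mk2_e10, mk2_e11, neg_e, one_e00, one_e01, one_e10, one_e11] <;> ring
  have hBB : B * B = -1 := by
    rw [hB]
    apply sl2_ext <;> simp only [mul_e00, mul_e01, mul_e10, mul_e11, mk2_e00, mk2_e01,
      mk2_e10, mk2_e11, neg_e, one_e00, one_e01, one_e10, one_e11]
    · linear_combination hxy
    · ring
    · ring
    · linear_combination hxy
  have hBA : B * A = -(A * B) := by
    rw [hA, hB]
    apply sl2_ext <;> simp only [mul_e00, mul_e01, mul_e10, mul_e11, mk2_e00, mk2_e01,
      mk2_e10, mk2_e11, neg_e, one_e00, one_e01, one_e10, one_e11] <;> ring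
  have hCA : C * A = B * C := by
    rw [hA, hB, hC]
    apply sl2_ext <;> simp only [mul_e00, mul_e01, mul_e10, mul_e11, mk2_e00, mk2_e01,
      mk2_e10, mk2_e11, neg_e, one_e00, one_e01, one_e10, one_e11] <;> field_simp <;>
      first | linear_combination hxy | linear_combination (-1 : F) * hxy | ring1
  have hCB : C * B = A * (B * C) := by
    rw [hA, hB, hC]
    apply sl2_ext <;> simp only [mul_e00, mul_e01, mul_e10, mul_e11, mk2_e00, mk2_e01,
      mk2_e10, mk2_e11, neg_e, one_e00, one_e01, one_e10, one_e11] <;> field_simp <;>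
      first | linear_combination hxy | linear_combination (-1 : F) * hxy | ring1
  have hC3 : C * (C * C) = 1 := by
    have h1 : C ^ 3 = 1 := by
      apply Subtype.ext
      rw [val_pow, pow_three_lin]
      have ht : C.1 0 0 + C.1 1 1 = -1 := by
        rw [hC, mk2_e00, mk2_e11]; field_simp; ring
      rw [ht]
      simp
    rw [← h1, pow_succ, pow_succ, pow_one, mul_assoc]
  have hCinv : C⁻¹ = C * C := inv_eq_of_mul_eq_one_right hC3
  have hDD : D * D = A := by
    rw [hA, hD]
    apply sl2_ext <;> simp only [mul_e00, mul_e01, mul_e10, mul_e11, mk2_e00, mk2_e01,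
      mk2_e10, mk2_e11, neg_e, one_e00, one_e01, one_e10, one_e11] <;>
      first | linear_combination hs | linear_combination (-1 : F) * hs | ring1
  have hDA : D * A = A * D := by
    rw [hA, hD]
    apply sl2_ext <;> simp only [mul_e00, mul_e01, mul_e10, mul_e11, mk2_e00, mk2_e01,
      mk2_e10, mk2_e11, neg_e, one_e00, one_e01, one_e10, one_e11] <;> ring
  have hDB : D * B = A * (B * D) := by
    rw [hA, hB, hD]
    apply sl2_ext <;> simp only [mul_e00, mul_e01, mul_e10, mul_e11, mk2_e00, mk2_e01,
      mk2_e10, mk2_e11, neg_e, one_e00, one_e01, one_e10, one_e11] <;> ring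
  have hDC : D * C = A * (B * (C * (C * D))) := by
    have h : D * C = A * (B * (C⁻¹ * D)) := by
      rw [hA, hB, hC, hD]
      apply sl2_ext <;> simp only [mul_e00, mul_e01, mul_e10, mul_e11, mk2_e00, mk2_e01,
        mk2_e10, mk2_e11, neg_e, one_e00, one_e01, one_e10, one_e11, inv_e00, inv_e01, inv_e10,
        inv_e11] <;> field_simp <;>
        first
          | ring1
          | linear_combination s * hxy
          | linear_combination (-s) * hxy
          | linear_combination (2 * s) * hxy
          | linear_combination (-2 * s) * hxy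
    rw [h, hCinv]
    simp only [mul_assoc]
  exact exists_S4_of_rel (pr A) (pr B) (pr C) (pr D)
    (by rw [← map_mul, hAA, hneg1]) (by rw [← map_mul, hBB, hneg1])
    (by rw [← map_mul, ← map_mul, hBA, pr_neg])
    (by
      intro h
      have h' : pr (1 : Matrix.SpecialLinearGroup (Fin 2) F) = pr A := by rw [h, map_one]
      rcases (pr_eq_iff _ _).mp h' with h | h
      · have := congrArg (fun M : Matrix.SpecialLinearGroup (Fin 2) F => M.1 0 1) h
        simp [hA, mk2_e01] at this
      · have := congrArg (fun M : Matrix.SpecialLinearGroup (Fin 2) F => M.1 0 1) h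
        simp [hA, mk2_e01] at this)
    (by
      intro h
      rcases (pr_eq_iff _ _).mp h with h | h
      · have e1 := congrArg (fun M : Matrix.SpecialLinearGroup (Fin 2) F => M.1 0 1) h
        have e2 := congrArg (fun M : Matrix.SpecialLinearGroup (Fin 2) F => M.1 1 0) h
        simp only [hA, hB, mk2_e01, mk2_e10] at e1 e2
        apply h2
        linear_combination e2 - e1
      · have e1 := congrArg (fun M : Matrix.SpecialLinearGroup (Fin 2) F => M.1 0 1) h
        have e2 := congrArg (fun M : Matrix.SpecialLinearGroup (Fin 2) F => M.1 1 0) h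
        simp only [hA, hB, mk2_e01, mk2_e10, neg_e] at e1 e2
        apply h2
        linear_combination e1 - e2)
    (by rw [← map_mul, ← map_mul, hC3, map_one])
    (by rw [← map_mul, ← map_mul, hCA])
    (by rw [← map_mul, ← map_mul, ← map_mul, hCB])
    (by rw [← map_mul, hDD])
    (by rw [← map_mul, ← map_mul, hDA])
    (by rw [← map_mul, ← map_mul, ← map_mul, hDB])
    (by simp only [← map_mul]; rw [hDC])

/-- in characteristic two, `SL₂` has no element of order four -/
theorem no_order_four (h2 : (2 : F) = 0) (M : Matrix.SpecialLinearGroup (Fin 2) F)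
    (h4 : M ^ 4 = 1) : M ^ 2 = 1 := by
  have h4' : M.1 ^ 4 = 1 := by
    rw [← val_pow, h4]; rfl
  rw [pow_four_lin] at h4'
  have e00 := congrFun (congrFun h4' 0) 0
  have e11 := congrFun (congrFun h4' 1) 1
  simp only [Matrix.add_apply, Matrix.smul_apply, Matrix.one_apply_eq, smul_eq_mul, mul_one]
    at e00 e11
  have ht4 : (M.1 0 0 + M.1 1 1) ^ 4 = 0 := by
    linear_combination e00 + e11 + (2 * (M.1 0 0 + M.1 1 1) ^ 2) * h2
  have ht : M.1 0 0 + M.1 1 1 = 0 := by
    simpa using ht4
  apply Subtype.ext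
  rw [val_pow, pow_two_lin, ht, zero_smul, add_zero]
  ext i j
  fin_cases i <;> fin_cases j <;> simp [Matrix.one_apply]
  · linear_combination (-1 : F) * h2
  · linear_combination (-1 : F) * h2

end aux

/-- PSL_2(q) has a subgroup isomorphic to S_4 iff q² ≡ 1 (mod 16). -/
theorem result {F : Type*} [Field F] [Fintype F] {q : ℕ} (hF : Fintype.card F = q) : (∃ H : Subgroup (Matrix.ProjectiveSpecialLinearGroup (Fin 2) F), Nonempty (H ≃* Equiv.Perm (Fin 4))) ↔ q ^ 2 % 16 = 1 := by
  classical
  have hqmod : q ^ 2 % 16 = (q % 16) ^ 2 % 16 := by rw [Nat.pow_mod]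
  have hlt : q % 16 < 16 := Nat.mod_lt _ (by norm_num)
  constructor
  · rintro ⟨H, ⟨e⟩⟩
    by_cases h2 : (2 : F) = 0
    · exfalso
      obtain ⟨σ, hσ4, hσ2⟩ : ∃ σ : Equiv.Perm (Fin 4), σ ^ 4 = 1 ∧ σ ^ 2 ≠ 1 :=
        ⟨finRotate 4, by decide, by decide⟩
      have hneg : ∀ M : Matrix.SpecialLinearGroup (Fin 2) F, -M = M := by
        intro M
        apply sl2_ext <;> simp only [neg_e] <;> linear_combination (-(M.1 _ _)) * h2
      have hinj : ∀ X Y : Matrix.SpecialLinearGroup (Fin 2) F, pr X = pr Y → X = Y := by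
        intro X Y h
        rcases (pr_eq_iff _ _).mp h with h | h
        · exact h.symm
        · rw [hneg] at h; exact h.symm
      obtain ⟨M, hM⟩ := pr_surj ((e.symm σ : H) : Matrix.ProjectiveSpecialLinearGroup (Fin 2) F)
      have hM4 : M ^ 4 = 1 := by
        apply hinj
        rw [map_pow, hM, map_one, ← Subgroup.coe_pow, ← map_pow, hσ4, map_one, Subgroup.coe_one]
      have hM2 := no_order_four h2 M hM4
      apply hσ2
      apply e.symm.injective
      apply Subtype.ext
      rw [map_pow, Subgroup.coe_pow, ← hM, ← map_pow, hM2, map_one, map_one, Subgroup.coe_one]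
    · have hcard := Cfsg.Agent.Lib.helper7.two_mul_card_PSL2 hF h2
      have h24 : 24 ∣ Nat.card (Matrix.ProjectiveSpecialLinearGroup (Fin 2) F) := by
        have h1 := Subgroup.card_subgroup_dvd_card H
        rw [Nat.card_congr e.toEquiv, Nat.card_eq_fintype_card, Fintype.card_perm,
          Fintype.card_fin] at h1
        exact h1
      have hodd : q % 2 = 1 := by
        by_contra hne
        apply h2
        have hev : Fintype.card F % 2 = 0 := by rw [hF]; omega
        have hch := (FiniteField.even_card_iff_char_two).mpr hev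
        have := CharP.cast_eq_zero F (ringChar F)
        rw [hch] at this
        exact_mod_cast this
      obtain ⟨k, hk⟩ := h24
      have hq2 : q ^ 2 % 16 = 1 ∨ q ^ 2 % 16 = 9 := by
        rw [hqmod]
        have : q % 16 % 2 = 1 := by omega
        interval_cases q % 16 <;> simp_all
      rcases hq2 with h | h
      · exact h
      · exfalso
        have h8 : (q ^ 2 - 1) % 16 = 8 := by omega
        have hmul : (q * (q ^ 2 - 1)) % 16 = 8 := by
          rw [Nat.mul_mod, h8]
          have : q % 16 % 2 = 1 := by omega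
          interval_cases q % 16 <;> simp_all
        rw [← hcard, hk] at hmul
        omega
  · intro hq
    have hq16 : q % 16 = 1 ∨ q % 16 = 7 ∨ q % 16 = 9 ∨ q % 16 = 15 := by
      rw [hqmod] at hq
      interval_cases q % 16 <;> simp_all
    have hodd : Fintype.card F % 2 = 1 := by rw [hF]; omega
    have h2 : (2 : F) ≠ 0 := Cfsg.Agent.Lib.helper47.two_ne_zero_of_card_odd hodd
    have hsq : IsSquare (2 : F) := by
      rw [FiniteField.isSquare_two_iff, hF]
      constructor <;> omega
    obtain ⟨r, hr⟩ := hsq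
    refine exists_S4_odd h2 (Nat.odd_iff.mpr hodd) (r / 2) ?_
    field_simp
    linear_combination (-1 : F) * hr


end Cfsg.Agent.S0803
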