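import Cfsg.Statements.S0804
import Mathlib
import Cfsg.Agent.Lib.helper47.A5Gen
import Cfsg.Agent.Lib.helper59.SL2
import Cfsg.Agent.Lib.helper7.CardSL

set_option autoImplicit false
open Cfsg
open Cfsg.Agent.Lib.helper47.AutPSL2 Cfsg.Agent.Lib.helper47.A5Gen

namespace Cfsg.Agent.S0804

/-- PSL_2(q) has a subgroup isomorphic to A_5 iff 5 ∣ q(q² − 1). -/
theorem result {F : Type*} [Field F] [Fintype F] {q : ℕ} (hF : Fintype.card F = q) : (∃ H : Subgroup (Matrix.ProjectiveSpecialLinearGroup (Fin 2) F), Nonempty (H ≃* alternatingGroup (Fin 5))) ↔ 5 ∣ q * (q ^ 2 - 1) := by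
  classical
  constructor
  · rintro ⟨H, ⟨e⟩⟩
    have h1 : Nat.card H = 60 := by
      rw [Nat.card_congr e.toEquiv]; exact Cfsg.Agent.S3377.card_alt
    have h2 : Nat.card H ∣ Nat.card (Matrix.ProjectiveSpecialLinearGroup (Fin 2) F) :=
      Subgroup.card_subgroup_dvd_card H
    have h3 : Nat.card (Matrix.ProjectiveSpecialLinearGroup (Fin 2) F) ∣
        Nat.card (Matrix.SpecialLinearGroup (Fin 2) F) := Subgroup.card_quotient_dvd_card _
    rw [Cfsg.Agent.Lib.helper7.card_SL2 hF] at h3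
    rw [h1] at h2
    exact Dvd.dvd.trans (by norm_num : 5 ∣ 60) (h2.trans h3)
  · intro h5
    haveI : Fact (Nat.Prime 5) := ⟨by norm_num⟩
    rw [← Cfsg.Agent.Lib.helper7.card_SL2 hF] at h5
    obtain ⟨B, hB⟩ := exists_prime_orderOf_dvd_card' 5 h5
    have hB5 : B ^ 5 = 1 := by rw [← hB]; exact pow_orderOf_eq_one B
    have hB1 : B ≠ 1 := by rintro rfl; rw [orderOf_one] at hB; norm_num at hB
    obtain ⟨τ, hτdef⟩ : ∃ τ : F, τ = B.1 0 0 + B.1 1 1 := ⟨_, rfl⟩
    have hτ : τ ^ 2 + τ - 1 = 0 := by rw [hτdef]; exact trace_of_order_five B hB5 hB1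
    have hτ0 : τ ≠ 0 := by rintro rfl; norm_num at hτ
    obtain ⟨x, y, hxy⟩ : ∃ x y : F, x * (1 - x) - y * (y + τ) = 1 := by
      by_cases h2 : (2 : F) = 0
      · have hτ1 : 1 + τ ≠ 0 := by
          intro h
          have : τ = -1 := by linear_combination h
          rw [this] at hτ
          norm_num at hτ
        refine ⟨(1 + τ)⁻¹, (1 + τ)⁻¹, ?_⟩
        field_simp
        linear_combination (-(1 + τ + τ ^ 2)) * h2
      · have hodd : Odd (Fintype.card F) := by
          rw [Nat.odd_iff]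
          apply FiniteField.odd_card_of_char_ne_two
          intro hchar
          apply h2
          have := (ringChar.spec F 2).mpr (by rw [hchar])
          exact_mod_cast this
        obtain ⟨u, v, huv⟩ :=
          Cfsg.Agent.Lib.helper59.exists_sq_add_sq_of_odd_card hodd ((τ ^ 2 - 3) / 4)
        have h4 : (4 : F) ≠ 0 := by
          have : (4 : F) = 2 * 2 := by norm_num
          rw [this]; exact mul_ne_zero h2 h2
        refine ⟨1 / 2 + u, -τ / 2 + v, ?_⟩
        field_simp
        field_simp at huv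
        linear_combination (-(1 : F)) * huv
    obtain ⟨a, ha⟩ : ∃ a : Matrix.SpecialLinearGroup (Fin 2) F, a = mk2 0 1 (-1) 0 (by ring) :=
      ⟨_, rfl⟩
    obtain ⟨b, hb⟩ : ∃ b : Matrix.SpecialLinearGroup (Fin 2) F,
        b = mk2 x y (y + τ) (1 - x) hxy := ⟨_, rfl⟩
    have hb3 : b ^ 3 = -1 := by
      apply pow_three_of_trace_one
      rw [hb, mk2_e00, mk2_e11]; ring
    have hba5 : (b * a) ^ 5 = 1 := by
      apply pow_five_of_trace
      have : (b * a).1 0 0 + (b * a).1 1 1 = τ := by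
        rw [mul_e00, mul_e11, hb, ha]
        simp only [mk2_e00, mk2_e01, mk2_e10, mk2_e11]
        ring
      rw [this]; exact hτ
    have ha2 : a ^ 2 = -1 := by
      rw [ha]
      apply sl2_ext <;> simp only [sq, mul_e00, mul_e01, mul_e10, mul_e11, mk2_e00, mk2_e01,
        mk2_e10, mk2_e11, neg_e, one_e00, one_e01, one_e10, one_e11] <;> ring
    have hneg1 : pr (-1 : Matrix.SpecialLinearGroup (Fin 2) F) = 1 := by
      rw [pr_neg, map_one]
    have hX : (pr b⁻¹) ^ 3 = 1 := by
      rw [← map_pow, inv_pow, hb3, map_inv, hneg1, inv_one]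
    have hY : (pr (b * a)) ^ 5 = 1 := by
      rw [← map_pow, hba5, map_one]
    have hXY : (pr b⁻¹ * pr (b * a)) ^ 2 = 1 := by
      rw [← map_mul, inv_mul_cancel_left, ← map_pow, ha2, hneg1]
    have hne : pr b⁻¹ ≠ 1 := by
      intro h
      rw [map_inv, inv_eq_one] at h
      have h' : pr (1 : Matrix.SpecialLinearGroup (Fin 2) F) = pr b := by rw [h, map_one]
      have e01 : b.1 0 1 = 0 := by
        rcases (pr_eq_iff _ _).mp h' with h | h
        · rw [h, one_e01]
        · rw [h, neg_e, one_e01, neg_zero]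
      have e10 : b.1 1 0 = 0 := by
        rcases (pr_eq_iff _ _).mp h' with h | h
        · rw [h, one_e10]
        · rw [h, neg_e, one_e10, neg_zero]
      rw [hb, mk2_e01] at e01
      rw [hb, mk2_e10, e01, zero_add] at e10
      exact hτ0 e10
    obtain ⟨H, hH, -⟩ := exists_A5_of_rel _ _ hX hY hXY hne
    exact ⟨H, hH⟩

end Cfsg.Agent.S0804
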