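import Cfsg.Statements.S0806
import Cfsg.Agent.Lib.helper98.DicksonTame
import Cfsg.Agent.Lib.helper98.DicksonWild
import Cfsg.Agent.Lib.helper98.SubfieldSL2

set_option autoImplicit false
open Cfsg

namespace Cfsg.Agent.S0806

open Cfsg.Agent.Lib.helper98 in
/-- A proper subgroup of `SL₂(q)` containing `-1` has order at most `q (q - 1)`, for
`q ∉ {2, 3, 5, 7, 9, 11}`. -/
theorem card_le {F : Type*} [Field F] [Fintype F]
    (H : Subgroup (Matrix.SpecialLinearGroup (Fin 2) F)) (hneg : negOne ∈ H) (hne : H ≠ ⊤)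
    (hq : Fintype.card F ∉ ({2, 3, 5, 7, 9, 11} : Finset ℕ)) :
    Nat.card H ≤ Fintype.card F * (Fintype.card F - 1) := by
  classical
  have hSL := Cfsg.Agent.Lib.helper7.card_SL2 (F := F) rfl
  have hbor := card_borelSL (F := F)
  have : Fact (ringChar F).Prime := ⟨CharP.char_is_prime F (ringChar F)⟩
  obtain ⟨n, -, hqn⟩ := FiniteField.card F (ringChar F)
  have hstabT : ∀ (h2 : (2 : F) ≠ 0) (δ : F) (hδ : δ ≠ 0) (J : TZ δ)
      (S : Subgroup (Matrix.SpecialLinearGroup (Fin 2) F)),
      S ≤ MulAction.stabilizer (Matrix.SpecialLinearGroup (Fin 2) F) J →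
      Nat.card S ≤ 2 * Fintype.card F := fun h2 δ hδ J S hS => tz_stab_card_le h2 hδ J S hS
  have hstabO : ∀ (h2 : (2 : F) = 0) (ν : F) (J : TO ν)
      (S : Subgroup (Matrix.SpecialLinearGroup (Fin 2) F)),
      S ≤ MulAction.stabilizer (Matrix.SpecialLinearGroup (Fin 2) F) J →
      Nat.card S ≤ 2 * Fintype.card F := fun h2 ν J S hS => to_stab_card_le h2 J S hS
  obtain ⟨q, hqdef⟩ : ∃ q, q = Fintype.card F := ⟨_, rfl⟩
  rw [← hqdef] at hq hSL hbor hqn hstabT hstabO ⊢
  have hq2 : 2 ≤ q := by rw [hqdef]; exact Fintype.one_lt_card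
  simp only [Finset.mem_insert, Finset.mem_singleton, not_or] at hq
  obtain ⟨q2, q3, q5, q7, q9, q11⟩ := hq
  obtain ⟨r, rfl⟩ : ∃ r, q = r + 1 := ⟨q - 1, by omega⟩
  have hr3 : 3 ≤ r := by omega
  simp only [Nat.add_sub_cancel] at hbor ⊢
  by_cases hw : ∃ g ∈ H, g ≠ 1 ∧ g 0 0 + g 1 1 = 2
  · rcases wild_orders (ringChar F) H hneg hw with ⟨c, hc⟩ | ⟨hp2, N, hN, hcard⟩ |
      ⟨A, hA2, hAq, hA1, hcard⟩ | ⟨hp3, h4, hcard⟩
    · have hle : conjSub c H ≤ borelSL F := by
        intro x hx
        rw [mem_conjSub] at hx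
        have h1 := hc _ hx
        have e : c * (c⁻¹ * x * c) * c⁻¹ = x := by group
        rw [e] at h1
        exact h1
      have h2 := Subgroup.card_le_of_le hle
      rw [card_conjSub, hbor] at h2
      exact h2
    · rw [← hqdef] at hN
      rw [hcard]
      nlinarith
    · rw [← hqdef] at hAq hA1 hcard
      simp only [Nat.add_sub_cancel] at hA1 hcard
      by_cases hAq' : A = r + 1
      · exfalso
        subst hAq'
        rcases hcard with h | ⟨-, h, -⟩
        · apply hne
          rw [← Subgroup.card_eq_iff_eq_top, h, hSL]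
        · simp only [Nat.add_sub_cancel] at h
          have := Nat.le_of_dvd (by omega) h
          omega
      · obtain ⟨m, hm⟩ := hAq
        obtain ⟨a, rfl⟩ : ∃ a, A = a + 1 := ⟨A - 1, by omega⟩
        simp only [Nat.add_sub_cancel] at hA1 hcard
        have hm2 : 2 ≤ m := by
          by_contra hcon
          have : m = 0 ∨ m = 1 := by omega
          rcases this with h | h
          · rw [h, mul_zero] at hm; omega
          · rw [h, mul_one] at hm; omega
        have hr' : r = a * m + (m - 1) := by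
          have : (a + 1) * m = a * m + m := by ring
          omega
        have hdvd : a ∣ m - 1 := by
          rw [hr'] at hA1
          exact (Nat.dvd_add_right (dvd_mul_right a m)).mp hA1
        have ham : a ≤ m - 1 := Nat.le_of_dvd (by omega) hdvd
        have hAA : (a + 1) * (a + 1) ≤ r + 1 := by
          rw [hm]; exact Nat.mul_le_mul_left _ (by omega)
        have hsq : (a + 1) ^ 2 - 1 ≤ r := by
          have : (a + 1) ^ 2 = (a + 1) * (a + 1) := by ring
          omega
        have hAle : a + 1 ≤ r + 1 := by nlinarith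
        rcases hcard with h | ⟨-, -, h⟩
        · rw [h]; exact Nat.mul_le_mul hAle hsq
        · rw [h]
          have h2A : 2 * (a + 1) ≤ r + 1 := by nlinarith
          exact Nat.mul_le_mul h2A hsq
    · rw [hp3] at hqn
      have hn3 : 3 ≤ (n : ℕ) := by
        by_contra hcon
        have hn12 : (n : ℕ) = 1 ∨ (n : ℕ) = 2 := by have := n.pos; omega
        rcases hn12 with h | h <;> rw [h] at hqn <;> omega
      have h27 : 27 ≤ r + 1 := by
        rw [hqn]
        calc 27 = 3 ^ 3 := by norm_num
          _ ≤ 3 ^ (n : ℕ) := Nat.pow_le_pow_right (by norm_num) hn3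
      rw [hcard]
      nlinarith
  · have htame : ∀ g ∈ H, g 0 0 + g 1 1 = 2 → g = 1 := by
      intro g hg htr
      by_contra h1
      exact hw ⟨g, hg, h1, htr⟩
    by_cases h2 : (2 : F) = 0
    · obtain ⟨ν, hν, hν'⟩ := exists_artinSchreier (F := F) h2
      rcases tame_even h2 hν hν' H htame with h | ⟨J, hJ⟩
      · rw [h]; nlinarith
      · have := hstabO h2 ν J H hJ
        nlinarith
    · have hchar : ringChar F ≠ 2 := by
        intro h
        apply h2
        have h3 := CharP.cast_eq_zero F (ringChar F)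
        rw [h] at h3
        exact_mod_cast h3
      obtain ⟨δ, hδ⟩ := FiniteField.exists_nonsquare hchar
      have hδ0 : δ ≠ 0 := by
        rintro rfl; exact hδ ⟨0, by rw [mul_zero]⟩
      have hodd : Odd (r + 1) := by
        rw [hqn]
        exact ((Fact.out : (ringChar F).Prime).odd_of_ne_two hchar).pow
      obtain ⟨k, hk⟩ := hodd
      have hr12 : 12 ≤ r := by omega
      rcases tame_odd h2 hδ H hneg htame with h | ⟨J, hJ⟩ | ⟨J, hJ⟩ | h | h | h
      · rw [h]; nlinarith
      · have := hstabT h2 δ hδ0 J H hJ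
        nlinarith
      · have := hstabT h2 δ hδ0 J _ (inf_le_right :
          H ⊓ MulAction.stabilizer (Matrix.SpecialLinearGroup (Fin 2) F) J ≤ _)
        nlinarith
      · rw [h.1]; nlinarith
      · rw [h.1]; nlinarith
      · rw [h.1]; nlinarith


/-- Minimal index (Galois): if q ∉ {2, 3, 5, 7, 9, 11} then every proper subgroup of PSL_2(q) has index ≥ q + 1, and some subgroup has index exactly q + 1. -/
theorem result {F : Type*} [Field F] [Fintype F] {q : ℕ} (hF : Fintype.card F = q) (hq : q ∉ ({2, 3, 5, 7, 9, 11} : Finset ℕ)) : (∀ H : Subgroup (Matrix.ProjectiveSpecialLinearGroup (Fin 2) F), H ≠ ⊤ → q + 1 ≤ H.index) ∧ ∃ H : Subgroup (Matrix.ProjectiveSpecialLinearGroup (Fin 2) F), H.index = q + 1 := by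
  classical
  subst hF
  have hSL := Cfsg.Agent.Lib.helper7.card_SL2 (F := F) rfl
  have hq2 : 2 ≤ Fintype.card F := Fintype.one_lt_card
  have hnegZ : (Cfsg.Agent.Lib.helper98.negOne : Matrix.SpecialLinearGroup (Fin 2) F) ∈
      Subgroup.center (Matrix.SpecialLinearGroup (Fin 2) F) := by
    rw [Cfsg.Agent.Lib.helper98.mem_center_sl2_iff]
    exact ⟨rfl, rfl, rfl⟩
  constructor
  · intro H hH
    have hne : H.comap (QuotientGroup.mk' (Subgroup.center
        (Matrix.SpecialLinearGroup (Fin 2) F))) ≠ ⊤ := by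
      intro h
      apply hH
      apply Subgroup.comap_injective (QuotientGroup.mk'_surjective _)
      rw [h, Subgroup.comap_top]
    have hneg : Cfsg.Agent.Lib.helper98.negOne ∈ H.comap (QuotientGroup.mk' (Subgroup.center
        (Matrix.SpecialLinearGroup (Fin 2) F))) := by
      rw [Subgroup.mem_comap]
      have : QuotientGroup.mk' (Subgroup.center (Matrix.SpecialLinearGroup (Fin 2) F))
          Cfsg.Agent.Lib.helper98.negOne = 1 := (QuotientGroup.eq_one_iff _).mpr hnegZ
      rw [this]; exact H.one_mem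
    have hc := card_le _ hneg hne hq
    have hidx : H.index = (H.comap (QuotientGroup.mk' (Subgroup.center
        (Matrix.SpecialLinearGroup (Fin 2) F)))).index :=
      (Subgroup.index_comap_of_surjective H (QuotientGroup.mk'_surjective _)).symm
    have hmul := Subgroup.card_mul_index (H.comap (QuotientGroup.mk' (Subgroup.center
        (Matrix.SpecialLinearGroup (Fin 2) F))))
    rw [hSL, ← hidx] at hmul
    obtain ⟨r, hr⟩ : ∃ r, Fintype.card F = r + 1 := ⟨Fintype.card F - 1, by omega⟩
    rw [hr] at hmul hc ⊢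
    simp only [Nat.add_sub_cancel] at hc
    have h3 : (r + 1) ^ 2 - 1 = r * (r + 2) := by
      have : (r + 1) ^ 2 = r * (r + 2) + 1 := by ring
      omega
    rw [h3] at hmul
    by_contra hcon
    have hlt : H.index ≤ r + 1 := by omega
    have h4 := Nat.mul_le_mul hc hlt
    rw [hmul] at h4
    have hr1 : 1 ≤ r := by omega
    nlinarith
  · refine ⟨(Cfsg.Agent.Lib.helper98.borelSL F).map (QuotientGroup.mk' (Subgroup.center
        (Matrix.SpecialLinearGroup (Fin 2) F))), ?_⟩
    rw [Subgroup.index_map_eq _ (QuotientGroup.mk'_surjective _),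
      Cfsg.Agent.Lib.helper98.index_borelSL]
    rw [QuotientGroup.ker_mk']
    intro g hg
    rw [Cfsg.Agent.Lib.helper98.mem_borelSL]
    exact ((Cfsg.Agent.Lib.helper98.mem_center_sl2_iff g).mp hg).2.1

end Cfsg.Agent.S0806
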