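import Mathlib
import Cfsg.Statements.S0810
import Cfsg.Agent.Lib.helper46.MinSimple

set_option autoImplicit false
open Cfsg

namespace Cfsg.Agent.S0810

open Cfsg.Agent.Lib.helper46 in
/-- PSL_2(q) is minimal simple iff q is 2^r (r prime), 3^r (r an odd prime), a prime greater than 5 congruent to 2 or 3 mod 5, or 5. -/
theorem result {F : Type*} [Field F] [Fintype F] {q : ℕ} (hF : Fintype.card F = q) : Cfsg.IsMinimalSimple (Matrix.ProjectiveSpecialLinearGroup (Fin 2) F) ↔ ((∃ r : ℕ, r.Prime ∧ q = 2 ^ r) ∨ (∃ r : ℕ, r.Prime ∧ r ≠ 2 ∧ q = 3 ^ r) ∨ (q.Prime ∧ 5 < q ∧ (q % 5 = 2 ∨ q % 5 = 3)) ∨ q = 5) := by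
  classical
  subst hF
  have hq2 : 2 ≤ Fintype.card F := Fintype.one_lt_card
  constructor
  · intro hmin
    by_contra hlist
    push Not at hlist
    obtain ⟨h1, h2, h3, h4⟩ := hlist
    have hpF : Fact (ringChar F).Prime := ⟨CharP.char_is_prime F (ringChar F)⟩
    obtain ⟨n, hp, hqn⟩ := FiniteField.card F (ringChar F)
    rw [hqn] at h1 h2 h3 h4
    rcases not_list_cases (ringChar F) n hp n.pos h1 h2
      (fun ha hb hc => by have := h3 ha hb; omega) h4 with h | ⟨a, m, ha, hpa, hm, ham⟩ |
      ⟨he, hp10⟩ | ⟨he, hp3⟩
    · exact not_minimal_of_card_le_three (by rw [hqn]; exact h) hmin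
    · let _ := Fintype.ofFinite (GaloisField (ringChar F) a)
      have hcard : Fintype.card (GaloisField (ringChar F) a) = ringChar F ^ a := by
        rw [← Nat.card_eq_fintype_card, GaloisField.card _ a ha]
      exact not_minimal_of_subfield (GaloisField (ringChar F) a) (by rw [hcard]; exact hpa) m hm
        (by rw [hcard, ← pow_mul, ham, hqn]) hmin
    · exact not_minimal_of_alt5 (ringChar F) (Or.inl ⟨by rw [hqn, he, pow_one], hp10⟩) hmin
    · have : Fact (Nat.Prime 3) := ⟨Nat.prime_three⟩
      have hc : CharP F 3 := hp3 ▸ ringChar.charP F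
      exact not_minimal_of_alt5 3 (Or.inr ⟨by rw [hqn, he, hp3], Or.inl rfl⟩) hmin
  · rintro (⟨r, hr, hq⟩ | ⟨r, hr, hr2, hq⟩ | ⟨hqp, hq5, hmod⟩ | hq)
    · have h2 : (2 : F) = 0 := two_eq_zero_of_even_card (by
        rw [hq]; exact (Nat.even_pow.mpr ⟨even_two, hr.ne_zero⟩))
      apply minimal_simple_of_solvable
      · rw [Nat.card_eq_fintype_card, hq]
        calc 4 = 2 ^ 2 := by norm_num
          _ ≤ 2 ^ r := Nat.pow_le_pow_right (by norm_num) hr.two_le
      · intro K _ hne
        refine solvable_of_proper_even h2 ?_ K hne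
        intro A hA4 hAq hAq'
        rw [hq] at hAq hAq' ⊢
        rcases subfield_order_prime_exp 2 r Nat.prime_two hr A hAq hAq' with h | h | h
        · omega
        · omega
        · exact h
    · have hodd : Odd (Fintype.card F) := by rw [hq]; exact Odd.pow (by decide)
      have h2 : (2 : F) ≠ 0 := two_ne_zero_of_odd_card hodd
      apply minimal_simple_of_solvable
      · rw [Nat.card_eq_fintype_card, hq]
        calc 4 ≤ 3 ^ 2 := by norm_num
          _ ≤ 3 ^ r := Nat.pow_le_pow_right (by norm_num) hr.two_le
      · intro K hneg hne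
        refine solvable_of_proper_odd h2 ?_ ?_ K hneg hne
        · intro A hA2 hAq hAq'
          rw [hq] at hAq hAq' ⊢
          rcases subfield_order_prime_exp 3 r Nat.prime_three hr A hAq hAq' with h | h | h
          · omega
          · left; exact h
          · right; exact h
        · intro h120
          exfalso
          have hrodd : Odd r := hr.eq_two_or_odd'.resolve_left hr2
          exact five_not_dvd_of_mod _ (by rw [hq]; exact three_pow_odd_mod_five r hrodd)
            (Dvd.dvd.trans (by norm_num) h120)
    · have hodd : Odd (Fintype.card F) := hqp.eq_two_or_odd'.resolve_left (by omega)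
      have h2 : (2 : F) ≠ 0 := two_ne_zero_of_odd_card hodd
      apply minimal_simple_of_solvable
      · rw [Nat.card_eq_fintype_card]; omega
      · intro K hneg hne
        refine solvable_of_proper_odd h2 ?_ ?_ K hneg hne
        · intro A hA2 hAq hAq'
          right
          rcases (Nat.dvd_prime hqp).mp hAq with h | h
          · omega
          · exact h
        · intro h120
          exfalso
          exact five_not_dvd_of_mod _ hmod (Dvd.dvd.trans (by norm_num) h120)
    · have hodd : Odd (Fintype.card F) := by rw [hq]; decide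
      have h2 : (2 : F) ≠ 0 := two_ne_zero_of_odd_card hodd
      apply minimal_simple_of_solvable
      · rw [Nat.card_eq_fintype_card, hq]; norm_num
      · intro K hneg hne
        refine solvable_of_proper_odd h2 ?_ ?_ K hneg hne
        · intro A hA2 hAq hAq'
          right
          rw [hq] at hAq ⊢
          rcases (Nat.dvd_prime (by norm_num : Nat.Prime 5)).mp hAq with h | h
          · omega
          · exact h
        · intro _
          rw [hq]
          norm_num

end Cfsg.Agent.S0810
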