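import Cfsg.Statements.S0814
import Cfsg.Agent.Lib.helper48.PSpCount

set_option autoImplicit false
open Cfsg

namespace Cfsg.Agent.S0814

/-- |Aut(PSp_2m(q))| = gcd(2, q−1) · f · |PSp_2m(q)| for q = p^f, m ≥ 2, (m, q) ≠ (2, 2), with an extra factor 2 exactly when m = 2 and p = 2. -/
theorem result {F : Type*} [Field F] [Fintype F] (p f : ℕ) [Fact p.Prime] (hf : 1 ≤ f) (hF : Fintype.card F = p ^ f) (m : ℕ) (hm : 2 ≤ m) (h22 : m = 2 → 3 ≤ p ^ f) : Nat.card (MulAut (Cfsg.PSp m F)) = (if m = 2 ∧ p = 2 then 2 else 1) * Nat.gcd 2 (p ^ f - 1) * f * Nat.card (Cfsg.PSp m F) := by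
  have hp : p.Prime := Fact.out
  have hchar : CharP F p := charP_of_card_eq_prime_pow hF
  by_cases hp2 : p = 2
  · subst hp2
    have h2 : (2 : F) = 0 := CharTwo.two_eq_zero
    have hgcd : Nat.gcd 2 (2 ^ f - 1) = 1 := by
      have h4 : 2 ∣ 2 ^ f := dvd_pow_self 2 (by omega)
      have h5 : 0 < 2 ^ f := by positivity
      have h6 : (2 ^ f - 1) % 2 = 1 := by omega
      rw [Nat.gcd_rec, h6]
      rfl
    have hsp : Nat.card (Cfsg.Agent.Lib.helper48.PSp.cAut (m := m) (F := F)).range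
        = Nat.card (Cfsg.PSp m F) := by
      rw [Cfsg.Agent.Lib.helper48.PSp.card_range_cAut hm, Cfsg.Agent.Lib.helper48.PSp.card_sp,
        Cfsg.Agent.Lib.helper48.PSp.card_center_char2 (by omega) h2, mul_one]
    by_cases hm2 : m = 2
    · subst hm2
      rw [if_pos ⟨rfl, rfl⟩, hgcd, Cfsg.Agent.Lib.helper48.PSp.card_aut_sp4 h2 hF, hsp]
    · rw [if_neg (fun h => hm2 h.1), hgcd,
        Cfsg.Agent.Lib.helper48.PSp.card_aut_generic hF hm (fun h => absurd h hm2), hsp]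
      ring
  · have h2 : (2 : F) ≠ 0 := by
      intro h
      have h3 : ((2 : ℕ) : F) = 0 := by exact_mod_cast h
      have h4 : p ∣ 2 := (CharP.cast_eq_zero_iff F p 2).mp h3
      exact hp2 ((Nat.prime_dvd_prime_iff_eq hp Nat.prime_two).mp h4)
    have hgcd : Nat.gcd 2 (p ^ f - 1) = 2 := by
      have hodd : p % 2 = 1 := hp.eq_two_or_odd.resolve_left hp2
      have h5 : p ^ f % 2 = 1 := by rw [Nat.pow_mod, hodd, one_pow]; rfl
      have h6 : (p ^ f - 1) % 2 = 0 := by omega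
      rw [Nat.gcd_rec, h6]
      rfl
    rw [if_neg (fun h => hp2 h.2), hgcd,
      Cfsg.Agent.Lib.helper48.PSp.card_aut_generic hF hm (fun _ => hp2),
      Cfsg.Agent.Lib.helper48.PSp.card_range_cAut hm, Cfsg.Agent.Lib.helper48.PSp.card_sp,
      Cfsg.Agent.Lib.helper48.PSp.card_center_odd (by omega) h2]
    ring

end Cfsg.Agent.S0814
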