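import Cfsg.Statements.S0819
import Mathlib

set_option autoImplicit false
open Cfsg

namespace Cfsg.Agent.S0819

open Polynomial

/-- Field of characteristic two from cardinality four. -/
lemma two_eq_zero_of_card {F : Type*} [Field F] [Fintype F] (hF : Fintype.card F = 4) :
    (2 : F) = 0 := by
  obtain ⟨p, hp⟩ := CharP.exists F
  obtain ⟨n, hprime, hcard⟩ := FiniteField.card F p
  rw [hF] at hcard
  have hp4 : p ∣ 4 := by rw [hcard]; exact dvd_pow_self p n.ne_zero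
  have hp2 : p = 2 := by
    have h22 : p ∣ 2 ^ 2 := by norm_num; exact hp4
    exact (Nat.prime_dvd_prime_iff_eq hprime Nat.prime_two).mp (hprime.dvd_of_dvd_pow h22)
  subst hp2
  exact_mod_cast CharP.cast_eq_zero F 2

/-- The elements of a field with four elements. -/
lemma exists_omega {F : Type*} [Field F] [Fintype F] (hF : Fintype.card F = 4) :
    ∃ ω : F, ω ^ 2 = ω + 1 ∧ ∀ x : F, x = 0 ∨ x = 1 ∨ x = ω ∨ x = ω + 1 := by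
  classical
  have h2 : (2 : F) = 0 := two_eq_zero_of_card hF
  have hpow : ∀ x : F, x ^ 4 = x := fun x => by
    have := FiniteField.pow_card x
    rwa [hF] at this
  obtain ⟨ω, hω0, hω1⟩ : ∃ ω : F, ω ≠ 0 ∧ ω ≠ 1 := by
    by_contra hcon
    push Not at hcon
    have hsub : (Finset.univ : Finset F) ⊆ {0, 1} := by
      intro x _
      by_cases hx : x = 0
      · simp [hx]
      · simp [hcon x hx]
    have := Finset.card_le_card hsub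
    have h3 : ({0, 1} : Finset F).card ≤ 2 := Finset.card_le_two
    rw [Finset.card_univ, hF] at this
    omega
  have hω : ω ^ 2 = ω + 1 := by
    have h4 := hpow ω
    have h5 : ω * (ω - 1) * (ω ^ 2 + ω + 1) = 0 := by linear_combination h4
    rcases mul_eq_zero.mp h5 with h | h
    · rcases mul_eq_zero.mp h with h | h
      · exact absurd h hω0
      · exact absurd (sub_eq_zero.mp h) hω1
    · linear_combination h - (ω + 1) * h2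
  refine ⟨ω, hω, fun x => ?_⟩
  have hx4 := hpow x
  have h6 : x * (x - 1) * (x - ω) * (x - (ω + 1)) = 0 := by
    linear_combination hx4 + (x ^ 2 - x) * hω + (-(ω + 1) * x ^ 3 + (2 * ω + 1) * x ^ 2 - ω * x) * h2
  rcases mul_eq_zero.mp h6 with h | h
  · rcases mul_eq_zero.mp h with h | h
    · rcases mul_eq_zero.mp h with h | h
      · exact Or.inl h
      · exact Or.inr (Or.inl (sub_eq_zero.mp h))
    · exact Or.inr (Or.inr (Or.inl (sub_eq_zero.mp h)))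
  · exact Or.inr (Or.inr (Or.inr (sub_eq_zero.mp h)))

lemma cert_0_0 {R : Type*} [CommRing R] (X W : R) (h2 : (2 : R) = 0) (hW : W ^ 2 = W + 1) :
    X ^ 3 - 1 = (1 * X ^ 0) * (X ^ 3 + 0 * X ^ 2 + 0 * X + 1) := by
  linear_combination (0) * hW + ((-1)) * h2

lemma cert_0_1 {R : Type*} [CommRing R] (X W : R) (h2 : (2 : R) = 0) (hW : W ^ 2 = W + 1) :
    X ^ 21 - 1 = (1 * X ^ 0 + 1 * X ^ 1 + 1 * X ^ 2 + 1 * X ^ 4 + 1 * X ^ 7 + 1 * X ^ 8 + 1 * X ^ 9 + 1 * X ^ 11 + 1 * X ^ 14 + 1 * X ^ 15 + 1 * X ^ 16 + 1 * X ^ 18) * (X ^ 3 + 0 * X ^ 2 + 1 * X + 1) := by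
  linear_combination (0) * hW + ((-1) + (-1) * X ^ 1 + (-1) * X ^ 2 + (-1) * X ^ 3 + (-1) * X ^ 4 + (-1) * X ^ 5 + (-1) * X ^ 7 + (-1) * X ^ 8 + (-1) * X ^ 9 + (-1) * X ^ 10 + (-1) * X ^ 11 + (-1) * X ^ 12 + (-1) * X ^ 14 + (-1) * X ^ 15 + (-1) * X ^ 16 + (-1) * X ^ 17 + (-1) * X ^ 18 + (-1) * X ^ 19) * h2

lemma cert_0_2 {R : Type*} [CommRing R] (X W : R) (h2 : (2 : R) = 0) (hW : W ^ 2 = W + 1) :
    X ^ 21 - 1 = (1 * X ^ 0 + W * X ^ 1 + (W + 1) * X ^ 2 + W * X ^ 4 + W * X ^ 7 + (W + 1) * X ^ 8 + 1 * X ^ 9 + (W + 1) * X ^ 11 + (W + 1) * X ^ 14 + 1 * X ^ 15 + W * X ^ 16 + 1 * X ^ 18) * (X ^ 3 + 0 * X ^ 2 + W * X + 1) := by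
  linear_combination ((-1) * X ^ 2 + (-1) * X ^ 3 + (-1) * X ^ 5 + (-1) * X ^ 8 + (-1) * X ^ 9 + (-1) * X ^ 12 + (-1) * X ^ 15 + (-1) * X ^ 17) * hW + ((-1) + (-1) * X ^ 1 * W + (-1) * X ^ 2 + (-1) * X ^ 2 * W + (-1) * X ^ 3 + (-1) * X ^ 3 * W + (-1) * X ^ 4 * W + (-1) * X ^ 5 + (-1) * X ^ 5 * W + (-1) * X ^ 7 * W + (-1) * X ^ 8 + (-1) * X ^ 8 * W + (-1) * X ^ 9 + (-1) * X ^ 9 * W + (-1) * X ^ 10 * W + (-1) * X ^ 11 + (-1) * X ^ 11 * W + (-1) * X ^ 12 + (-1) * X ^ 12 * W + (-1) * X ^ 14 + (-1) * X ^ 14 * W + (-1) * X ^ 15 + (-1) * X ^ 15 * W + (-1) * X ^ 16 * W + (-1) * X ^ 17 + (-1) * X ^ 17 * W + (-1) * X ^ 18 + (-1) * X ^ 19 * W) * h2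

lemma cert_0_3 {R : Type*} [CommRing R] (X W : R) (h2 : (2 : R) = 0) (hW : W ^ 2 = W + 1) :
    X ^ 21 - 1 = (1 * X ^ 0 + (W + 1) * X ^ 1 + W * X ^ 2 + (W + 1) * X ^ 4 + (W + 1) * X ^ 7 + W * X ^ 8 + 1 * X ^ 9 + W * X ^ 11 + W * X ^ 14 + 1 * X ^ 15 + (W + 1) * X ^ 16 + 1 * X ^ 18) * (X ^ 3 + 0 * X ^ 2 + (W + 1) * X + 1) := by
  linear_combination ((-1) * X ^ 2 + (-1) * X ^ 3 + (-1) * X ^ 5 + (-1) * X ^ 8 + (-1) * X ^ 9 + (-1) * X ^ 12 + (-1) * X ^ 15 + (-1) * X ^ 17) * hW + ((-1) + (-1) * X ^ 1 + (-1) * X ^ 1 * W + (-1) * X ^ 2 + (-2) * X ^ 2 * W + (-1) * X ^ 3 + (-1) * X ^ 3 * W + (-1) * X ^ 4 + (-1) * X ^ 4 * W + (-1) * X ^ 5 + (-2) * X ^ 5 * W + (-1) * X ^ 7 + (-1) * X ^ 7 * W + (-1) * X ^ 8 + (-2) * X ^ 8 * W + (-1) * X ^ 9 + (-1) * X ^ 9 * W + (-1) * X ^ 10 + (-1) * X ^ 10 * W + (-1) * X ^ 11 * W + (-1) * X ^ 12 + (-1) * X ^ 12 * W + (-1)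 * X ^ 14 * W + (-1) * X ^ 15 + (-1) * X ^ 15 * W + (-1) * X ^ 16 + (-1) * X ^ 16 * W + (-1) * X ^ 17 + (-2) * X ^ 17 * W + (-1) * X ^ 18 + (-1) * X ^ 19 + (-1) * X ^ 19 * W) * h2

lemma cert_1_0 {R : Type*} [CommRing R] (X W : R) (h2 : (2 : R) = 0) (hW : W ^ 2 = W + 1) :
    X ^ 21 - 1 = (1 * X ^ 0 + 1 * X ^ 2 + 1 * X ^ 3 + 1 * X ^ 4 + 1 * X ^ 7 + 1 * X ^ 9 + 1 * X ^ 10 + 1 * X ^ 11 + 1 * X ^ 14 + 1 * X ^ 16 + 1 * X ^ 17 + 1 * X ^ 18) * (X ^ 3 + 1 * X ^ 2 + 0 * X + 1) := by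
  linear_combination (0) * hW + ((-1) + (-1) * X ^ 2 + (-1) * X ^ 3 + (-1) * X ^ 4 + (-1) * X ^ 5 + (-1) * X ^ 6 + (-1) * X ^ 7 + (-1) * X ^ 9 + (-1) * X ^ 10 + (-1) * X ^ 11 + (-1) * X ^ 12 + (-1) * X ^ 13 + (-1) * X ^ 14 + (-1) * X ^ 16 + (-1) * X ^ 17 + (-1) * X ^ 18 + (-1) * X ^ 19 + (-1) * X ^ 20) * h2

lemma cert_1_1 {R : Type*} [CommRing R] (X W : R) (h2 : (2 : R) = 0) (hW : W ^ 2 = W + 1) :
    X ^ 16 - 1 = (1 * X ^ 0 + 1 * X ^ 1 + 1 * X ^ 4 + 1 * X ^ 5 + 1 * X ^ 8 + 1 * X ^ 9 + 1 * X ^ 12 + 1 * X ^ 13) * (X ^ 3 + 1 * X ^ 2 + 1 * X + 1) := by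
  linear_combination (0) * hW + ((-1) + (-1) * X ^ 1 + (-1) * X ^ 2 + (-1) * X ^ 3 + (-1) * X ^ 4 + (-1) * X ^ 5 + (-1) * X ^ 6 + (-1) * X ^ 7 + (-1) * X ^ 8 + (-1) * X ^ 9 + (-1) * X ^ 10 + (-1) * X ^ 11 + (-1) * X ^ 12 + (-1) * X ^ 13 + (-1) * X ^ 14 + (-1) * X ^ 15) * h2

lemma cert_1_2 {R : Type*} [CommRing R] (X W : R) (h2 : (2 : R) = 0) (hW : W ^ 2 = W + 1) :
    X ^ 5 - (W + 1) = ((W + 1) * X ^ 0 + 1 * X ^ 1 + 1 * X ^ 2) * (X ^ 3 + 1 * X ^ 2 + W * X + 1) := by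
  linear_combination ((-1) * X ^ 1) * hW + ((-1) + (-1) * W + (-1) * X ^ 1 + (-1) * X ^ 1 * W + (-1) * X ^ 2 + (-1) * X ^ 2 * W + (-1) * X ^ 3 + (-1) * X ^ 3 * W + (-1) * X ^ 4) * h2

lemma cert_1_3 {R : Type*} [CommRing R] (X W : R) (h2 : (2 : R) = 0) (hW : W ^ 2 = W + 1) :
    X ^ 5 - W = (W * X ^ 0 + 1 * X ^ 1 + 1 * X ^ 2) * (X ^ 3 + 1 * X ^ 2 + (W + 1) * X + 1) := by
  linear_combination ((-1) * X ^ 1) * hW + ((-1) * W + (-1) * X ^ 1 + (-1) * X ^ 1 * W + (-1) * X ^ 2 + (-1) * X ^ 2 * W + (-1) * X ^ 3 + (-1) * X ^ 3 * W + (-1) * X ^ 4) * h2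

lemma cert_2_0 {R : Type*} [CommRing R] (X W : R) (h2 : (2 : R) = 0) (hW : W ^ 2 = W + 1) :
    X ^ 21 - 1 = (1 * X ^ 0 + W * X ^ 2 + 1 * X ^ 3 + (W + 1) * X ^ 4 + (W + 1) * X ^ 7 + 1 * X ^ 9 + (W + 1) * X ^ 10 + W * X ^ 11 + W * X ^ 14 + (W + 1) * X ^ 16 + W * X ^ 17 + 1 * X ^ 18) * (X ^ 3 + W * X ^ 2 + 0 * X + 1) := by
  linear_combination ((-1) * X ^ 4 + (-1) * X ^ 6 + (-1) * X ^ 9 + (-1) * X ^ 12 + (-1) * X ^ 13 + (-1) * X ^ 16 + (-1) * X ^ 18 + (-1) * X ^ 19) * hW + ((-1) + (-1) * X ^ 2 * W + (-1) * X ^ 3 + (-1) * X ^ 4 + (-1) * X ^ 4 * W + (-1) * X ^ 5 * W + (-1) * X ^ 6 + (-1) * X ^ 6 * W + (-1) * X ^ 7 + (-1) * X ^ 7 * W + (-1) * X ^ 9 + (-1) * X ^ 9 * W + (-1) * X ^ 10 + (-1) * X ^ 10 * W + (-1) * X ^ 11 * W + (-1) * X ^ 12 + (-1) * X ^ 12 * W + (-1) * X ^ 13 + (-1) * X ^ 13 * W + (-1) * X ^ 14 * W + (-1) * X ^ 16 + (-1) * X ^ 16 * W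 + (-1) * X ^ 17 * W + (-1) * X ^ 18 + (-1) * X ^ 18 * W + (-1) * X ^ 19 + (-1) * X ^ 19 * W + (-1) * X ^ 20 * W) * h2

lemma cert_2_1 {R : Type*} [CommRing R] (X W : R) (h2 : (2 : R) = 0) (hW : W ^ 2 = W + 1) :
    X ^ 5 - W = (W * X ^ 0 + W * X ^ 1 + 1 * X ^ 2) * (X ^ 3 + W * X ^ 2 + 1 * X + 1) := by
  linear_combination ((-1) * X ^ 2 + (-1) * X ^ 3) * hW + ((-1) * W + (-1) * X ^ 1 * W + (-1) * X ^ 2 + (-1) * X ^ 2 * W + (-1) * X ^ 3 + (-1) * X ^ 3 * W + (-1) * X ^ 4 * W) * h2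

lemma cert_2_2 {R : Type*} [CommRing R] (X W : R) (h2 : (2 : R) = 0) (hW : W ^ 2 = W + 1) :
    X ^ 5 - 1 = (1 * X ^ 0 + W * X ^ 1 + 1 * X ^ 2) * (X ^ 3 + W * X ^ 2 + W * X + 1) := by
  linear_combination ((-1) * X ^ 2 + (-1) * X ^ 3) * hW + ((-1) + (-1) * X ^ 1 * W + (-1) * X ^ 2 + (-1) * X ^ 2 * W + (-1) * X ^ 3 + (-1) * X ^ 3 * W + (-1) * X ^ 4 * W) * h2

lemma cert_2_3 {R : Type*} [CommRing R] (X W : R) (h2 : (2 : R) = 0) (hW : W ^ 2 = W + 1) :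
    X ^ 16 - W = (W * X ^ 0 + 1 * X ^ 1 + 1 * X ^ 4 + (W + 1) * X ^ 5 + (W + 1) * X ^ 8 + W * X ^ 9 + W * X ^ 12 + 1 * X ^ 13) * (X ^ 3 + W * X ^ 2 + (W + 1) * X + 1) := by
  linear_combination ((-1) * X ^ 1 + (-1) * X ^ 2 + (-1) * X ^ 6 + (-1) * X ^ 7 + (-1) * X ^ 9 + (-2) * X ^ 10 + (-1) * X ^ 11 + (-1) * X ^ 13 + (-1) * X ^ 14) * hW + ((-1) * W + (-1) * X ^ 1 + (-1) * X ^ 1 * W + (-1) * X ^ 2 + (-1) * X ^ 2 * W + (-1) * X ^ 3 * W + (-1) * X ^ 4 + (-1) * X ^ 5 + (-1) * X ^ 5 * W + (-1) * X ^ 6 + (-2) * X ^ 6 * W + (-1) * X ^ 7 + (-1) * X ^ 7 * W + (-1) * X ^ 8 + (-1) * X ^ 8 * W + (-1) * X ^ 9 + (-2) * X ^ 9 * W + (-1) * X ^ 10 + (-2) * X ^ 10 * W + (-1) * X ^ 11 + (-1) * X ^ 11 * W + (-1) * X ^ 12 * W + (-1) * X ^ 13 + (-1) * X ^ 13 * W + (-1) * X ^ 14 + (-1) * X ^ 14 * W + (-1) * X ^ 15 * W) * h2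

lemma cert_3_0 {R : Type*} [CommRing R] (X W : R) (h2 : (2 : R) = 0) (hW : W ^ 2 = W + 1) :
    X ^ 21 - 1 = (1 * X ^ 0 + (W + 1) * X ^ 2 + 1 * X ^ 3 + W * X ^ 4 + W * X ^ 7 + 1 * X ^ 9 + W * X ^ 10 + (W + 1) * X ^ 11 + (W + 1) * X ^ 14 + W * X ^ 16 + (W + 1) * X ^ 17 + 1 * X ^ 18) * (X ^ 3 + (W + 1) * X ^ 2 + 0 * X + 1) := by
  linear_combination ((-1) * X ^ 4 + (-1) * X ^ 6 + (-1) * X ^ 9 + (-1) * X ^ 12 + (-1) * X ^ 13 + (-1) * X ^ 16 + (-1) * X ^ 18 + (-1) * X ^ 19) * hW + ((-1) + (-1) * X ^ 2 + (-1) * X ^ 2 * W + (-1) * X ^ 3 + (-1) * X ^ 4 + (-2) * X ^ 4 * W + (-1) * X ^ 5 + (-1) * X ^ 5 * W + (-1) * X ^ 6 + (-1) * X ^ 6 * W + (-1) * X ^ 7 * W + (-1) * X ^ 9 + (-1) * X ^ 9 * W + (-1) * X ^ 10 * W + (-1) * X ^ 11 + (-1) * X ^ 11 * W + (-1) * X ^ 12 + (-1) * X ^ 12 * W + (-1) * X ^ 13 + (-2) * X ^ 13 * W + (-1) * X ^ 14 + (-1) * X ^ 14 *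 W + (-1) * X ^ 16 + (-2) * X ^ 16 * W + (-1) * X ^ 17 + (-1) * X ^ 17 * W + (-1) * X ^ 18 + (-1) * X ^ 18 * W + (-1) * X ^ 19 + (-2) * X ^ 19 * W + (-1) * X ^ 20 + (-1) * X ^ 20 * W) * h2

lemma cert_3_1 {R : Type*} [CommRing R] (X W : R) (h2 : (2 : R) = 0) (hW : W ^ 2 = W + 1) :
    X ^ 5 - (W + 1) = ((W + 1) * X ^ 0 + (W + 1) * X ^ 1 + 1 * X ^ 2) * (X ^ 3 + (W + 1) * X ^ 2 + 1 * X + 1) := by
  linear_combination ((-1) * X ^ 2 + (-1) * X ^ 3) * hW + ((-1) + (-1) * W + (-1) * X ^ 1 + (-1) * X ^ 1 * W + (-2) * X ^ 2 + (-2) * X ^ 2 * W + (-2) * X ^ 3 + (-2) * X ^ 3 * W + (-1) * X ^ 4 + (-1) * X ^ 4 * W) * h2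

lemma cert_3_2 {R : Type*} [CommRing R] (X W : R) (h2 : (2 : R) = 0) (hW : W ^ 2 = W + 1) :
    X ^ 16 - (W + 1) = ((W + 1) * X ^ 0 + 1 * X ^ 1 + 1 * X ^ 4 + W * X ^ 5 + W * X ^ 8 + (W + 1) * X ^ 9 + (W + 1) * X ^ 12 + 1 * X ^ 13) * (X ^ 3 + (W + 1) * X ^ 2 + W * X + 1) := by
  linear_combination ((-1) * X ^ 1 + (-1) * X ^ 2 + (-1) * X ^ 6 + (-1) * X ^ 7 + (-1) * X ^ 9 + (-2) * X ^ 10 + (-1) * X ^ 11 + (-1) * X ^ 13 + (-1) * X ^ 14) * hW + ((-1) + (-1) * W + (-1) * X ^ 1 + (-1) * X ^ 1 * W + (-1) * X ^ 2 + (-2) * X ^ 2 * W + (-1) * X ^ 3 + (-1) * X ^ 3 * W + (-1) * X ^ 4 + (-1) * X ^ 5 * W + (-1) * X ^ 6 + (-1) * X ^ 6 * W + (-1) * X ^ 7 + (-1) * X ^ 7 * W + (-1) * X ^ 8 * W + (-1) * X ^ 9 + (-1) * X ^ 9 * W + (-1) * X ^ 10 + (-2) * X ^ 10 * W + (-1) * X ^ 11 + (-2) * X ^ 11 * W + (-1) * X ^ 12 + (-1) * X ^ 12 * W + (-1) * X ^ 13 + (-1) * X ^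 13 * W + (-1) * X ^ 14 + (-2) * X ^ 14 * W + (-1) * X ^ 15 + (-1) * X ^ 15 * W) * h2

lemma cert_3_3 {R : Type*} [CommRing R] (X W : R) (h2 : (2 : R) = 0) (hW : W ^ 2 = W + 1) :
    X ^ 5 - 1 = (1 * X ^ 0 + (W + 1) * X ^ 1 + 1 * X ^ 2) * (X ^ 3 + (W + 1) * X ^ 2 + (W + 1) * X + 1) := by
  linear_combination ((-1) * X ^ 2 + (-1) * X ^ 3) * hW + ((-1) + (-1) * X ^ 1 + (-1) * X ^ 1 * W + (-2) * X ^ 2 + (-2) * X ^ 2 * W + (-2) * X ^ 3 + (-2) * X ^ 3 * W + (-1) * X ^ 4 + (-1) * X ^ 4 * W) * h2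


/-- For a `3 × 3` matrix of determinant one over the field with four elements, some power
`M ^ k` with `k ∈ {3, 5, 16, 21}` is scalar. -/
theorem exists_pow_scalar {F : Type*} [Field F] [Fintype F] (hF : Fintype.card F = 4)
    (M : Matrix (Fin 3) (Fin 3) F) (hdet : M.det = 1) :
    ∃ k ∈ ({3, 5, 16, 21} : Finset ℕ), ∃ c : F,
      M ^ k = algebraMap F (Matrix (Fin 3) (Fin 3) F) c := by
  have h2 : (2 : F) = 0 := two_eq_zero_of_card hF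
  obtain ⟨ω, hω, hall⟩ := exists_omega hF
  have h2P : (2 : Polynomial F) = 0 := by
    rw [← C_ofNat 2, h2, C_0]
  have hWP : (C ω : Polynomial F) ^ 2 = C ω + 1 := by
    rw [← C_pow, hω, C_add, C_1]
  set a : F := M.charpoly.coeff 2 with ha_def
  set b : F := M.charpoly.coeff 1 with hb_def
  have hχ : M.charpoly = X ^ 3 + C a * X ^ 2 + C b * X + 1 := by
    have hm := M.charpoly_monic
    have hd : M.charpoly.natDegree = 3 := by simp [Matrix.charpoly_natDegree_eq_dim]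
    have hs := hm.as_sum
    rw [hd] at hs
    have h0 : M.charpoly.coeff 0 = 1 := by
      have h1 := Matrix.det_eq_sign_charpoly_coeff M
      rw [hdet] at h1
      simp only [Fintype.card_fin] at h1
      linear_combination -h1 + M.charpoly.coeff 0 * h2
    rw [hs]
    simp only [Finset.sum_range_succ, Finset.sum_range_zero, h0, ← ha_def, ← hb_def]
    simp only [C_1, pow_zero, pow_one, zero_add, mul_one]
    ring
  have fin : ∀ (k : ℕ) (cP Q rhs : Polynomial F) (c : F), k ∈ ({3, 5, 16, 21} : Finset ℕ) →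
      cP = C c → X ^ k - cP = Q * rhs → M.charpoly = rhs →
      ∃ k ∈ ({3, 5, 16, 21} : Finset ℕ), ∃ c : F,
        M ^ k = algebraMap F (Matrix (Fin 3) (Fin 3) F) c := by
    intro k cP Q rhs c hk hc hQ hrhs
    refine ⟨k, hk, c, ?_⟩
    have h1 : aeval M (X ^ k - cP) = 0 := by
      rw [hQ, map_mul, ← hrhs, Matrix.aeval_self_charpoly, mul_zero]
    rw [hc] at h1
    simp only [map_sub, map_pow, aeval_X, aeval_C] at h1
    exact sub_eq_zero.mp h1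
  rcases hall a with ha | ha | ha | ha <;> rcases hall b with hb | hb | hb | hb
  · exact fin 3 _ _ _ (1 : F) (by decide) (by simp) (cert_0_0 X (C ω) h2P hWP)
      (by rw [hχ, ha, hb] <;> simp only [C_0, C_1, C_add])
  · exact fin 21 _ _ _ (1 : F) (by decide) (by simp) (cert_0_1 X (C ω) h2P hWP)
      (by rw [hχ, ha, hb] <;> simp only [C_0, C_1, C_add])
  · exact fin 21 _ _ _ (1 : F) (by decide) (by simp) (cert_0_2 X (C ω) h2P hWP)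
      (by rw [hχ, ha, hb] <;> simp only [C_0, C_1, C_add])
  · exact fin 21 _ _ _ (1 : F) (by decide) (by simp) (cert_0_3 X (C ω) h2P hWP)
      (by rw [hχ, ha, hb] <;> simp only [C_0, C_1, C_add])
  · exact fin 21 _ _ _ (1 : F) (by decide) (by simp) (cert_1_0 X (C ω) h2P hWP)
      (by rw [hχ, ha, hb] <;> simp only [C_0, C_1, C_add])
  · exact fin 16 _ _ _ (1 : F) (by decide) (by simp) (cert_1_1 X (C ω) h2P hWP)
      (by rw [hχ, ha, hb] <;> simp only [C_0, C_1, C_add])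
  · exact fin 5 _ _ _ (ω + 1) (by decide) (by simp) (cert_1_2 X (C ω) h2P hWP)
      (by rw [hχ, ha, hb] <;> simp only [C_0, C_1, C_add])
  · exact fin 5 _ _ _ ω (by decide) (by simp) (cert_1_3 X (C ω) h2P hWP)
      (by rw [hχ, ha, hb] <;> simp only [C_0, C_1, C_add])
  · exact fin 21 _ _ _ (1 : F) (by decide) (by simp) (cert_2_0 X (C ω) h2P hWP)
      (by rw [hχ, ha, hb] <;> simp only [C_0, C_1, C_add])
  · exact fin 5 _ _ _ ω (by decide) (by simp) (cert_2_1 X (C ω) h2P hWP)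
      (by rw [hχ, ha, hb] <;> simp only [C_0, C_1, C_add])
  · exact fin 5 _ _ _ (1 : F) (by decide) (by simp) (cert_2_2 X (C ω) h2P hWP)
      (by rw [hχ, ha, hb] <;> simp only [C_0, C_1, C_add])
  · exact fin 16 _ _ _ ω (by decide) (by simp) (cert_2_3 X (C ω) h2P hWP)
      (by rw [hχ, ha, hb] <;> simp only [C_0, C_1, C_add])
  · exact fin 21 _ _ _ (1 : F) (by decide) (by simp) (cert_3_0 X (C ω) h2P hWP)
      (by rw [hχ, ha, hb] <;> simp only [C_0, C_1, C_add])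
  · exact fin 5 _ _ _ (ω + 1) (by decide) (by simp) (cert_3_1 X (C ω) h2P hWP)
      (by rw [hχ, ha, hb] <;> simp only [C_0, C_1, C_add])
  · exact fin 16 _ _ _ (ω + 1) (by decide) (by simp) (cert_3_2 X (C ω) h2P hWP)
      (by rw [hχ, ha, hb] <;> simp only [C_0, C_1, C_add])
  · exact fin 5 _ _ _ (1 : F) (by decide) (by simp) (cert_3_3 X (C ω) h2P hWP)
      (by rw [hχ, ha, hb] <;> simp only [C_0, C_1, C_add])

lemma center_pow_three {F : Type*} [Field F] (z : Matrix.SpecialLinearGroup (Fin 3) F)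
    (hz : z ∈ Subgroup.center (Matrix.SpecialLinearGroup (Fin 3) F)) : z ^ 3 = 1 := by
  obtain ⟨r, hr, hrz⟩ := Matrix.SpecialLinearGroup.mem_center_iff.mp hz
  simp only [Fintype.card_fin] at hr
  apply Subtype.ext
  have h1 : ((z ^ 3 : Matrix.SpecialLinearGroup (Fin 3) F) : Matrix (Fin 3) (Fin 3) F)
      = (z : Matrix (Fin 3) (Fin 3) F) ^ 3 := Matrix.SpecialLinearGroup.coe_pow z 3
  have h2 : ((1 : Matrix.SpecialLinearGroup (Fin 3) F) : Matrix (Fin 3) (Fin 3) F) = 1 :=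
    Matrix.SpecialLinearGroup.coe_one
  rw [h1, h2, ← hrz, ← map_pow, hr, map_one]

/-- No element of PSL_3(4) has order 15. -/
theorem result {F : Type*} [Field F] [Fintype F] (hF : Fintype.card F = 4) (g : Matrix.ProjectiveSpecialLinearGroup (Fin 3) F) : orderOf g ≠ 15 := by
  intro hord
  obtain ⟨s, rfl⟩ := QuotientGroup.mk_surjective g
  set Z := Subgroup.center (Matrix.SpecialLinearGroup (Fin 3) F) with hZ
  set x : Matrix.ProjectiveSpecialLinearGroup (Fin 3) F := QuotientGroup.mk s with hx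
  have hx15 : x ^ 15 = 1 := by rw [← hord]; exact pow_orderOf_eq_one x
  have hs15 : s ^ 15 ∈ Z := by
    rw [← QuotientGroup.eq_one_iff]
    exact hx15
  -- some power s ^ k is central
  have hpow : ∃ k ∈ ({3, 5, 16, 21} : Finset ℕ), s ^ k ∈ Z := by
    obtain ⟨k, hk, c, hc⟩ := exists_pow_scalar hF (s : Matrix (Fin 3) (Fin 3) F) s.2
    refine ⟨k, hk, ?_⟩
    rw [hZ, Matrix.SpecialLinearGroup.mem_center_iff]
    have e1 : ((s ^ k : Matrix.SpecialLinearGroup (Fin 3) F) : Matrix (Fin 3) (Fin 3) F)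
        = (s : Matrix (Fin 3) (Fin 3) F) ^ k := Matrix.SpecialLinearGroup.coe_pow s k
    have hsc : (Matrix.scalar (Fin 3)) c = ((s ^ k : Matrix.SpecialLinearGroup (Fin 3) F) :
        Matrix (Fin 3) (Fin 3) F) := by
      rw [e1, hc]
      rfl
    refine ⟨c, ?_, hsc⟩
    have hdet : ((s ^ k : Matrix.SpecialLinearGroup (Fin 3) F) :
        Matrix (Fin 3) (Fin 3) F).det = 1 := (s ^ k).2
    rw [← hsc] at hdet
    simpa using hdet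
  have hfin : s ^ 3 ∈ Z ∨ s ^ 5 ∈ Z := by
    obtain ⟨k, hk, hkZ⟩ := hpow
    simp only [Finset.mem_insert, Finset.mem_singleton] at hk
    rcases hk with rfl | rfl | rfl | rfl
    · exact Or.inl hkZ
    · exact Or.inr hkZ
    · left
      have h1 : s = s ^ 16 * (s ^ 15)⁻¹ := by group
      have h2 : s ∈ Z := by rw [h1]; exact Z.mul_mem hkZ (Z.inv_mem hs15)
      exact Z.pow_mem h2 3
    · left
      have h1 : s ^ 45 = 1 := by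
        rw [show 45 = 15 * 3 from rfl, pow_mul]
        exact center_pow_three _ hs15
      have h2 : s ^ 3 = s ^ 45 * ((s ^ 21) ^ 2)⁻¹ := by group
      rw [h2, h1, one_mul]
      exact Z.inv_mem (Z.pow_mem hkZ 2)
  have hx35 : x ^ 3 = 1 ∨ x ^ 5 = 1 := by
    rcases hfin with h | h
    · left
      exact (QuotientGroup.eq_one_iff (s ^ 3)).mpr h
    · right
      exact (QuotientGroup.eq_one_iff (s ^ 5)).mpr h
  rcases hx35 with h | h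
  · have := orderOf_dvd_of_pow_eq_one h
    rw [hord] at this
    omega
  · have := orderOf_dvd_of_pow_eq_one h
    rw [hord] at this
    omega

end Cfsg.Agent.S0819
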