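import Cfsg.Statements.S0820
import Cfsg.Agent.Lib.helper18.Transvection

set_option autoImplicit false
open Cfsg

namespace Cfsg.Agent.S0820

open Matrix

/-- The standard transvection `1 + e₁ e₀ᵀ` in `SL₃`. -/
def T0 (F : Type*) [Field F] : Matrix.SpecialLinearGroup (Fin 3) F :=
  ⟨!![1, 0, 0; 1, 1, 0; 0, 0, 1], by simp [Matrix.det_fin_three]⟩

/-- Field of characteristic two from cardinality four. -/
lemma two_eq_zero_of_card {F : Type*} [Field F] [Fintype F] (hF : Fintype.card F = 4) :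
    (2 : F) = 0 := by
  obtain ⟨p, hp⟩ := CharP.exists F
  obtain ⟨n, hprime, hcard⟩ := FiniteField.card F p
  rw [hF] at hcard
  have hp4 : p ∣ 4 := by rw [hcard]; exact dvd_pow_self p n.ne_zero
  have hp2 : p = 2 := by
    have h22 : p ∣ 2 ^ 2 := by norm_num; exact hp4
    exact (Nat.prime_dvd_prime_iff_eq hprime Nat.prime_two).mp (hprime.dvd_of_dvd_pow h22)
  subst hp2
  exact_mod_cast CharP.cast_eq_zero F 2

/-- Elements of the centre of `SL₃` have cube one. -/
lemma center_pow_three {F : Type*} [Field F] (z : Matrix.SpecialLinearGroup (Fin 3) F)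
    (hz : z ∈ Subgroup.center (Matrix.SpecialLinearGroup (Fin 3) F)) : z ^ 3 = 1 := by
  obtain ⟨r, hr, hrz⟩ := Matrix.SpecialLinearGroup.mem_center_iff.mp hz
  simp only [Fintype.card_fin] at hr
  apply Subtype.ext
  have h1 : ((z ^ 3 : Matrix.SpecialLinearGroup (Fin 3) F) : Matrix (Fin 3) (Fin 3) F)
      = (z : Matrix (Fin 3) (Fin 3) F) ^ 3 := Matrix.SpecialLinearGroup.coe_pow z 3
  have h2 : ((1 : Matrix.SpecialLinearGroup (Fin 3) F) : Matrix (Fin 3) (Fin 3) F) = 1 :=
    Matrix.SpecialLinearGroup.coe_one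
  rw [h1, h2, ← hrz, ← map_pow, hr, map_one]

/-- An involution of `SL₃` over a field of characteristic two is a transvection. -/
lemma isTransvection_of_sq {F : Type*} [Field F] (h2 : (2 : F) = 0)
    (h : Matrix.SpecialLinearGroup (Fin 3) F) (hsq : h ^ 2 = 1) (hne : h ≠ 1) :
    Cfsg.IsTransvection (h : Matrix (Fin 3) (Fin 3) F) := by
  have h1 : ((h ^ 2 : Matrix.SpecialLinearGroup (Fin 3) F) : Matrix (Fin 3) (Fin 3) F)
      = (h : Matrix (Fin 3) (Fin 3) F) ^ 2 := Matrix.SpecialLinearGroup.coe_pow h 2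
  have h1' : ((1 : Matrix.SpecialLinearGroup (Fin 3) F) : Matrix (Fin 3) (Fin 3) F) = 1 :=
    Matrix.SpecialLinearGroup.coe_one
  rw [hsq, h1'] at h1
  have hN : ((h : Matrix (Fin 3) (Fin 3) F) - 1) * ((h : Matrix (Fin 3) (Fin 3) F) - 1) = 0 := by
    have h2M : (2 : Matrix (Fin 3) (Fin 3) F) = 0 := by
      calc (2 : Matrix (Fin 3) (Fin 3) F) = 1 + 1 := by norm_num
        _ = (2 : F) • (1 : Matrix (Fin 3) (Fin 3) F) := (two_smul F 1).symm
        _ = 0 := by rw [h2, zero_smul]
    calc ((h : Matrix (Fin 3) (Fin 3) F) - 1) * ((h : Matrix (Fin 3) (Fin 3) F) - 1)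
        = (h : Matrix (Fin 3) (Fin 3) F) ^ 2 - 2 * (h : Matrix (Fin 3) (Fin 3) F) + 1 := by
          noncomm_ring
      _ = 1 - 0 * (h : Matrix (Fin 3) (Fin 3) F) + 1 := by rw [← h1, h2M]
      _ = 2 := by norm_num
      _ = 0 := h2M
  refine ⟨?_, hN⟩
  have hle := Matrix.rank_add_rank_le_card_of_mul_eq_zero hN
  simp only [Fintype.card_fin] at hle
  have hpos : 0 < ((h : Matrix (Fin 3) (Fin 3) F) - 1).rank := by
    rw [Nat.pos_iff_ne_zero]
    intro h0
    apply hne
    apply Subtype.ext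
    rw [h1']
    have : (h : Matrix (Fin 3) (Fin 3) F) - 1 = 0 := by
      have hr : Module.finrank F (LinearMap.range ((h : Matrix (Fin 3) (Fin 3) F) - 1).mulVecLin) = 0 := h0
      have hbot : LinearMap.range ((h : Matrix (Fin 3) (Fin 3) F) - 1).mulVecLin = ⊥ :=
        Submodule.finrank_eq_zero.mp hr
      rw [LinearMap.range_eq_bot] at hbot
      ext i j
      have := congrFun (congrArg (fun f => f (Pi.single j 1)) hbot) i
      simpa [Matrix.mulVec_single_one, Matrix.one_apply, Pi.single_apply, eq_comm] using this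
    exact sub_eq_zero.mp this
  omega

/-- A normalised transvection `1 + v e₀ᵀ` in `SL₃` is conjugate to the standard one. -/
lemma conj_T0 {F : Type*} [Field F] (s : Matrix.SpecialLinearGroup (Fin 3) F) (v : Fin 3 → F)
    (hv0 : v 0 = 0) (hv : v ≠ 0)
    (hs : (s : Matrix (Fin 3) (Fin 3) F) = 1 + vecMulVec v (Pi.single 0 1)) :
    IsConj (T0 F) s := by
  obtain ⟨b, d, hbd⟩ : ∃ b d : F, v 1 * d - v 2 * b = 1 := by
    by_cases hp : v 1 = 0
    · have hq : v 2 ≠ 0 := by
        intro hq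
        apply hv
        ext i
        fin_cases i
        · exact hv0
        · exact hp
        · exact hq
      refine ⟨-(v 2)⁻¹, 0, ?_⟩
      field_simp
      ring
    · refine ⟨0, (v 1)⁻¹, ?_⟩
      field_simp
      ring
  let P : Matrix.SpecialLinearGroup (Fin 3) F :=
    ⟨!![1, 0, 0; 0, v 1, b; 0, v 2, d], by
      rw [Matrix.det_fin_three]
      simp only [Matrix.of_apply, Matrix.cons_val', Matrix.cons_val_zero, Matrix.cons_val_one,
        Matrix.cons_val_two, Matrix.empty_val', Matrix.cons_val_fin_one, Matrix.head_cons,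
        Matrix.tail_cons, Matrix.head_fin_const]
      linear_combination hbd⟩
  rw [isConj_iff]
  refine ⟨P, ?_⟩
  rw [mul_inv_eq_iff_eq_mul]
  apply Subtype.ext
  have e1 : ((P * T0 F : Matrix.SpecialLinearGroup (Fin 3) F) : Matrix (Fin 3) (Fin 3) F)
      = (P : Matrix (Fin 3) (Fin 3) F) * (T0 F : Matrix (Fin 3) (Fin 3) F) :=
    Matrix.SpecialLinearGroup.coe_mul P (T0 F)
  have e2 : ((s * P : Matrix.SpecialLinearGroup (Fin 3) F) : Matrix (Fin 3) (Fin 3) F)
      = (s : Matrix (Fin 3) (Fin 3) F) * (P : Matrix (Fin 3) (Fin 3) F) :=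
    Matrix.SpecialLinearGroup.coe_mul s P
  rw [e1, e2, hs]
  show !![1, 0, 0; 0, v 1, b; 0, v 2, d] * !![1, 0, 0; 1, 1, 0; 0, 0, 1]
    = (1 + vecMulVec v (Pi.single 0 1)) * !![1, 0, 0; 0, v 1, b; 0, v 2, d]
  ext i j
  fin_cases i <;> fin_cases j <;>
    simp [Matrix.mul_apply, Fin.sum_univ_three, vecMulVec_apply, hv0, Matrix.one_apply,
      Matrix.add_apply, Pi.single_apply]

/-- Any two elements of order 2 of PSL_3(4) are conjugate. -/
theorem result {F : Type*} [Field F] [Fintype F] (hF : Fintype.card F = 4) (x y : Matrix.ProjectiveSpecialLinearGroup (Fin 3) F) (hx : orderOf x = 2) (hy : orderOf y = 2) : IsConj x y := by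
  have h2 : (2 : F) = 0 := two_eq_zero_of_card hF
  have key : ∀ x : Matrix.ProjectiveSpecialLinearGroup (Fin 3) F, orderOf x = 2 →
      IsConj (QuotientGroup.mk (T0 F) : Matrix.ProjectiveSpecialLinearGroup (Fin 3) F) x := by
    intro x hx
    have hx2 : x ^ 2 = 1 := by rw [← hx]; exact pow_orderOf_eq_one x
    have hx1 : x ≠ 1 := by
      intro h
      rw [h, orderOf_one] at hx
      omega
    obtain ⟨g, rfl⟩ := QuotientGroup.mk_surjective x
    have hg2 : g ^ 2 ∈ Subgroup.center (Matrix.SpecialLinearGroup (Fin 3) F) := by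
      rw [← QuotientGroup.eq_one_iff]
      exact hx2
    set h : Matrix.SpecialLinearGroup (Fin 3) F := g ^ 3 with hh
    have hh2 : h ^ 2 = 1 := by
      rw [hh, ← pow_mul, show 3 * 2 = 2 * 3 from rfl, pow_mul]
      exact center_pow_three _ hg2
    have hmk : (QuotientGroup.mk h : Matrix.ProjectiveSpecialLinearGroup (Fin 3) F)
        = QuotientGroup.mk g := by
      rw [hh]
      have : ((g ^ 3 : Matrix.SpecialLinearGroup (Fin 3) F) :
          Matrix.ProjectiveSpecialLinearGroup (Fin 3) F)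
          = (QuotientGroup.mk g : Matrix.ProjectiveSpecialLinearGroup (Fin 3) F) ^ 3 := rfl
      rw [this, pow_succ, hx2, one_mul]
    have hh1 : h ≠ 1 := by
      intro h1
      apply hx1
      rw [← hmk, h1]
      rfl
    have htr := isTransvection_of_sq h2 h hh2 hh1
    obtain ⟨c, v, hv0, hv, hmat⟩ := Cfsg.Agent.Lib.helper18.transvection_conj 2 h htr
    have hconj : IsConj (T0 F) (c⁻¹ * h * c) := conj_T0 _ v hv0 hv hmat
    have hconj2 : IsConj (c⁻¹ * h * c) h := by
      rw [isConj_iff]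
      exact ⟨c, by group⟩
    have hfin : IsConj (T0 F) h := hconj.trans hconj2
    rw [← hmk]
    exact (QuotientGroup.mk' (Subgroup.center (Matrix.SpecialLinearGroup (Fin 3) F))).map_isConj hfin
  exact (key x hx).symm.trans (key y hy)

end Cfsg.Agent.S0820
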