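import Cfsg.Statements.S0821
import Cfsg.Agent.Lib.helper17.PSpRank
import Cfsg.Agent.Lib.helper17.OmRank2

set_option autoImplicit false
open Cfsg

namespace Cfsg.Agent.S0821

/-- PSp_2m(q) ≇ PΩ_(2m+1)(q) for q odd and m ≥ 3 (they have the same order). -/
theorem result {F : Type*} [Field F] [Fintype F] (hodd : Odd (Fintype.card F)) (m : ℕ) (hm : 3 ≤ m) : IsEmpty (Cfsg.PSp m F ≃* Cfsg.POmega F (Cfsg.quadFormOdd m F)) := by
  classical
  refine ⟨fun φ => ?_⟩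
  have h2 : (2 : F) ≠ 0 := Cfsg.Agent.Lib.helper17.two_ne_zero_of_odd_card hodd
  obtain ⟨H, hH1, hH2⟩ := Cfsg.Agent.Lib.helper17.exists_elemAb_POmega_odd h2 m (by omega)
  obtain ⟨H', hH'⟩ : ∃ H' : Subgroup (Cfsg.PSp m F), H' = H.map φ.symm.toMonoidHom := ⟨_, rfl⟩
  have hsq : ∀ x ∈ H', x * x = 1 := by
    intro x hx
    rw [hH'] at hx
    obtain ⟨h, hh, rfl⟩ := hx
    rw [← map_mul, hH1 h hh, map_one]
  have hcard : Nat.card H' = Nat.card H := by
    rw [hH']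
    exact Subgroup.card_map_of_injective φ.symm.injective
  have hb := Cfsg.Agent.Lib.helper17.psp_elemAb_card_le hodd h2 (by omega) H' hsq
  rw [hcard] at hb
  have h3 : 2 * 2 ^ (2 * m) ≤ 2 ^ (m + 3) := le_trans (Nat.mul_le_mul_left 2 hH2) hb
  have h4 : 2 ^ (2 * m + 1) ≤ 2 ^ (m + 3) := by
    rw [pow_succ, mul_comm]
    exact h3
  have h5 := (Nat.pow_le_pow_iff_right (by norm_num : 1 < 2)).mp h4
  omega

end Cfsg.Agent.S0821
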