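import Cfsg.Statements.S0823
import Cfsg.Agent.Lib.helper18.PermModule

set_option autoImplicit false
open Cfsg

namespace Cfsg.Agent.S0823

open Matrix Cfsg.Agent.Lib.helper18

/-- The index type of the form. -/
abbrev I3 : Type := Unit ⊕ (Fin 1 ⊕ Fin 1)

/-- A vector from its three coordinates. -/
def vec (a b c : ZMod 3) : I3 → ZMod 3 := Sum.elim (fun _ => a) (Sum.elim (fun _ => b) (fun _ => c))

lemma vec_eta (w : I3 → ZMod 3) :
    vec (w (.inl ())) (w (.inr (.inl 0))) (w (.inr (.inr 0))) = w := by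
  funext i
  rcases i with i | i | i
  · rfl
  · fin_cases i; rfl
  · fin_cases i; rfl

/-- The form on coordinates. -/
def Q' (a b c : ZMod 3) : ZMod 3 := a ^ 2 + b * c

lemma Q_eq (w : I3 → ZMod 3) :
    Cfsg.quadFormOdd 1 (ZMod 3) w = Q' (w (.inl ())) (w (.inr (.inl 0))) (w (.inr (.inr 0))) := by
  simp only [Cfsg.quadFormOdd, Q', Finset.univ_unique, Fin.default_eq_zero, Finset.sum_singleton]

/-- The basis of the sum-zero module. -/
def Dm : Matrix (Fin 4) I3 (ZMod 3) := Matrix.of fun j =>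
  vec (![1,2,0,0] j) (![1,1,1,0] j) (![2,2,0,2] j)

/-- The dual basis. -/
def Cm : Matrix I3 (Fin 4) (ZMod 3) := Matrix.of fun k j =>
  vec (![2,1,0,0] j) (![2,2,0,2] j) (![1,1,1,0] j) k

lemma permData : PermData Cm Dm (1 : ZMod 3) := by
  refine ⟨?_, ?_, ?_⟩
  · decide
  · decide
  · decide

/-- The invariant quadratic function on the permutation module. -/
def qw (y : Fin 4 → ZMod 3) : ZMod 3 := -(y ⬝ᵥ y)

lemma qw_perm (π : Equiv.Perm (Fin 4)) (y : Fin 4 → ZMod 3) : qw (y ∘ π.symm) = qw y := by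
  unfold qw
  rw [comp_equiv_symm_dotProduct]
  congr 2
  funext i
  simp

lemma Q_eq_qw : ∀ a b c : ZMod 3, Q' a b c = qw (Dm *ᵥ vec a b c) := by
  decide

lemma Q_eq_qw' (w : I3 → ZMod 3) : Cfsg.quadFormOdd 1 (ZMod 3) w = qw (Dm *ᵥ w) := by
  rw [Q_eq, Q_eq_qw, vec_eta]

/-- The list of all special isometries, by columns. -/
def Lst : List (List (ZMod 3)) :=
  [[0,1,1,1,2,1,1,1,2],
  [0,1,1,2,1,2,2,2,1],
  [0,2,2,1,1,2,1,2,1],
  [0,2,2,2,2,1,2,1,2],
  [1,0,0,0,1,0,0,0,1],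
  [1,0,0,0,2,0,0,0,2],
  [1,0,1,1,1,2,0,0,1],
  [1,0,1,2,2,1,0,0,2],
  [1,0,2,1,2,1,0,0,2],
  [1,0,2,2,1,2,0,0,1],
  [1,1,0,0,1,0,1,2,1],
  [1,1,0,0,2,0,2,1,2],
  [1,2,0,0,1,0,2,2,1],
  [1,2,0,0,2,0,1,1,2],
  [2,0,0,0,0,1,0,1,0],
  [2,0,0,0,0,2,0,2,0],
  [2,0,1,0,0,1,2,1,2],
  [2,0,1,0,0,2,1,2,1],
  [2,0,2,0,0,1,1,1,2],
  [2,0,2,0,0,2,2,2,1],
  [2,1,0,1,1,2,0,2,0],
  [2,1,0,2,2,1,0,1,0],
  [2,2,0,1,2,1,0,1,0],
  [2,2,0,2,1,2,0,2,0]]

/-- The determinant in terms of the columns. -/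
def det3 (a1 a2 a3 b1 b2 b3 c1 c2 c3 : ZMod 3) : ZMod 3 :=
  a1 * (b2 * c3 - b3 * c2) - b1 * (a2 * c3 - a3 * c2) + c1 * (a2 * b3 - a3 * b2)

set_option maxRecDepth 100000 in
set_option synthInstance.maxSize 100000 in
set_option synthInstance.maxHeartbeats 2000000 in
lemma key : ∀ a1 a2 a3 : ZMod 3, Q' a1 a2 a3 = 1 →
    ∀ b1 b2 b3 : ZMod 3, Q' b1 b2 b3 = 0 → Q' (a1 + b1) (a2 + b2) (a3 + b3) = 1 →
    ∀ c1 c2 c3 : ZMod 3, Q' c1 c2 c3 = 0 → Q' (a1 + c1) (a2 + c2) (a3 + c3) = 1 →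
      Q' (b1 + c1) (b2 + c2) (b3 + c3) = 1 →
      det3 a1 a2 a3 b1 b2 b3 c1 c2 c3 = 1 →
    [a1, a2, a3, b1, b2, b3, c1, c2, c3] ∈ Lst := by
  decide +kernel

lemma Lst_length : Lst.length = 24 := by
  decide +kernel

/-- The entries of a matrix, by columns. -/
def entries (M : Matrix I3 I3 (ZMod 3)) : List (ZMod 3) :=
  [M (.inl ()) (.inl ()), M (.inr (.inl 0)) (.inl ()), M (.inr (.inr 0)) (.inl ()),
   M (.inl ()) (.inr (.inl 0)), M (.inr (.inl 0)) (.inr (.inl 0)), M (.inr (.inr 0)) (.inr (.inl 0)),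
   M (.inl ()) (.inr (.inr 0)), M (.inr (.inl 0)) (.inr (.inr 0)), M (.inr (.inr 0)) (.inr (.inr 0))]

lemma entries_injective : Function.Injective entries := by
  intro M M' h
  simp only [entries, List.cons.injEq, and_true] at h
  obtain ⟨h00, h10, h20, h01, h11, h21, h02, h12, h22⟩ := h
  ext i k
  rcases i with i | i | i <;> rcases k with k | k | k <;>
    first
    | assumption
    | (fin_cases i; assumption)
    | (fin_cases k; assumption)
    | (fin_cases i; fin_cases k; assumption)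

/-- An explicit enumeration of the index type. -/
def e3 : Fin 3 ≃ I3 where
  toFun := ![.inl (), .inr (.inl 0), .inr (.inr 0)]
  invFun := Sum.elim (fun _ => 0) (Sum.elim (fun _ => 1) (fun _ => 2))
  left_inv := by decide
  right_inv := by decide

lemma det_eq (M : Matrix I3 I3 (ZMod 3)) :
    M.det = det3 (M (.inl ()) (.inl ())) (M (.inr (.inl 0)) (.inl ())) (M (.inr (.inr 0)) (.inl ()))
      (M (.inl ()) (.inr (.inl 0))) (M (.inr (.inl 0)) (.inr (.inl 0)))
      (M (.inr (.inr 0)) (.inr (.inl 0)))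
      (M (.inl ()) (.inr (.inr 0))) (M (.inr (.inl 0)) (.inr (.inr 0)))
      (M (.inr (.inr 0)) (.inr (.inr 0))) := by
  rw [← Matrix.det_submatrix_equiv_self e3 M, Matrix.det_fin_three]
  simp only [Matrix.submatrix_apply, e3, Equiv.coe_fn_mk, det3]
  simp only [Matrix.cons_val_zero, Matrix.cons_val_one, Matrix.cons_val_two, Matrix.head_cons,
    Matrix.tail_cons]
  ring

lemma entries_mem (M : Matrix I3 I3 (ZMod 3))
    (hM : ∀ u, Cfsg.quadFormOdd 1 (ZMod 3) (M *ᵥ u) = Cfsg.quadFormOdd 1 (ZMod 3) u)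
    (hdet : M.det = 1) : entries M ∈ Lst := by
  have hcol : ∀ k, Cfsg.quadFormOdd 1 (ZMod 3) (fun i => M i k)
      = Cfsg.quadFormOdd 1 (ZMod 3) (Pi.single k 1) := fun k => by
    have := hM (Pi.single k 1)
    rw [Matrix.mulVec_single_one] at this
    exact this
  have hcol2 : ∀ k l, Cfsg.quadFormOdd 1 (ZMod 3) (fun i => M i k + M i l)
      = Cfsg.quadFormOdd 1 (ZMod 3) (Pi.single k 1 + Pi.single l 1) := fun k l => by
    have := hM (Pi.single k 1 + Pi.single l 1)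
    rw [Matrix.mulVec_add, Matrix.mulVec_single_one, Matrix.mulVec_single_one] at this
    exact this
  simp only [Q_eq] at hcol hcol2
  apply key
  · exact (hcol (.inl ())).trans (by decide)
  · exact (hcol (.inr (.inl 0))).trans (by decide)
  · exact (hcol2 (.inl ()) (.inr (.inl 0))).trans (by decide)
  · exact (hcol (.inr (.inr 0))).trans (by decide)
  · exact (hcol2 (.inl ()) (.inr (.inr 0))).trans (by decide)
  · exact (hcol2 (.inr (.inl 0)) (.inr (.inr 0))).trans (by decide)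
  · rw [← det_eq]; exact hdet

/-- The twisted matrices. -/
noncomputable def psi : Equiv.Perm (Fin 4) →* Matrix I3 I3 (ZMod 3) where
  toFun π := (Nm Cm Dm π).det • Nm Cm Dm π
  map_one' := by rw [Nm_one permData, Matrix.det_one, one_smul]
  map_mul' π τ := by rw [Nm_mul permData, Matrix.det_mul, smul_mul_smul_comm]

lemma det_sq (π : Equiv.Perm (Fin 4)) : (Nm Cm Dm π).det * (Nm Cm Dm π).det = 1 := by
  have h : (Nm Cm Dm π).det * (Nm Cm Dm π⁻¹).det = 1 := by
    rw [← Matrix.det_mul, ← Nm_mul permData, mul_inv_cancel, Nm_one permData, Matrix.det_one]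
  have h0 : (Nm Cm Dm π).det ≠ 0 := by
    intro h0
    rw [h0, zero_mul] at h
    exact zero_ne_one h
  revert h0
  generalize (Nm Cm Dm π).det = d
  revert d
  decide

lemma Q_smul (d : ZMod 3) (w : I3 → ZMod 3) :
    Cfsg.quadFormOdd 1 (ZMod 3) (d • w) = d * d * Cfsg.quadFormOdd 1 (ZMod 3) w := by
  simp only [Q_eq, Q', Pi.smul_apply, smul_eq_mul]
  ring

lemma psi_isom (π : Equiv.Perm (Fin 4)) (u : I3 → ZMod 3) :
    Cfsg.quadFormOdd 1 (ZMod 3) (psi π *ᵥ u) = Cfsg.quadFormOdd 1 (ZMod 3) u := by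
  show Cfsg.quadFormOdd 1 (ZMod 3) (((Nm Cm Dm π).det • Nm Cm Dm π) *ᵥ u) = _
  rw [Matrix.smul_mulVec, Q_smul, det_sq, one_mul, Q_eq_qw', Q_eq_qw']
  exact Nm_preserves permData qw qw_perm π u

lemma psi_det (π : Equiv.Perm (Fin 4)) : (psi π).det = 1 := by
  show ((Nm Cm Dm π).det • Nm Cm Dm π).det = 1
  rw [Matrix.det_smul]
  have hc : Fintype.card I3 = 3 := by decide
  rw [hc]
  have h := det_sq π
  calc (Nm Cm Dm π).det ^ 3 * (Nm Cm Dm π).det
      = ((Nm Cm Dm π).det * (Nm Cm Dm π).det) * ((Nm Cm Dm π).det * (Nm Cm Dm π).det) := by ring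
    _ = 1 := by rw [h, one_mul]

/-- The homomorphism into the isometry group. -/
noncomputable def phi1 : Equiv.Perm (Fin 4) →*
    Cfsg.isometryGroup (ZMod 3) (Cfsg.quadFormOdd 1 (ZMod 3)) :=
  MonoidHom.codRestrict psi.toHomUnits _ (by
    intro π
    rw [mem_isometryGroup_iff]
    intro u
    exact psi_isom π u)

/-- The homomorphism into the special isometry group. -/
noncomputable def phi : Equiv.Perm (Fin 4) →*
    Cfsg.specialIsometryGroup (ZMod 3) (Cfsg.quadFormOdd 1 (ZMod 3)) :=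
  MonoidHom.codRestrict phi1 _ (by
    intro π
    rw [mem_specialIsometryGroup_iff]
    exact psi_det π)

lemma Pm_mul_Jm (π : Equiv.Perm (Fin 4)) :
    Pm (ZMod 3) π * Jm (Fin 4) (ZMod 3) = Jm (Fin 4) (ZMod 3) := by
  ext i j
  simp only [Pm, Jm, Matrix.mul_apply, Matrix.of_apply, mul_one]
  rw [Finset.sum_eq_single (π.symm i)]
  · simp
  · intro k _ hk
    have : i ≠ π k := fun h => hk (by rw [h, Equiv.symm_apply_apply])
    simp [this]
  · intro h
    exact absurd (Finset.mem_univ _) h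

lemma phi_injective : Function.Injective phi := by
  rw [injective_iff_map_eq_one]
  intro π hπ
  have h1 : psi π = 1 := congrArg
    (fun x : Cfsg.specialIsometryGroup (ZMod 3) (Cfsg.quadFormOdd 1 (ZMod 3)) =>
      (((x : Cfsg.isometryGroup (ZMod 3) (Cfsg.quadFormOdd 1 (ZMod 3))) : GL I3 (ZMod 3)) :
        Matrix I3 I3 (ZMod 3))) hπ
  obtain ⟨d, hd⟩ : ∃ d, d = (Nm Cm Dm π).det := ⟨_, rfl⟩
  have hdd : d * d = 1 := by rw [hd]; exact det_sq π
  have h2 : d • Nm Cm Dm π = 1 := by rw [hd]; exact h1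
  have h3 : Nm Cm Dm π = d • (1 : Matrix I3 I3 (ZMod 3)) := by
    have := congrArg (fun X => d • X) h2
    simp only [smul_smul, hdd, one_smul] at this
    exact this
  have h4 := D_Nm_C permData π
  rw [h3, Matrix.mul_smul, Matrix.mul_one, Matrix.smul_mul, permData.DC, Matrix.mul_sub,
    Matrix.mul_one, Matrix.mul_smul, Pm_mul_Jm] at h4
  apply Equiv.ext
  intro j
  by_contra hne
  have hne' : ¬ π j = j := hne
  have h5 := congrFun (congrFun h4 (π j)) j
  simp only [Matrix.smul_apply, Matrix.sub_apply, Matrix.one_apply, if_neg hne', Jm,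
    Matrix.of_apply, Pm, if_true, smul_eq_mul] at h5
  have hd0 : d = 0 := by linear_combination -h5
  rw [hd0] at hdd
  simp at hdd

/-- SO_3(3) ≅ S_4: the determinant-one isometries of the form x_0² + x_1y_1 over the field with 3 elements form a group isomorphic to the symmetric group on 4 letters. -/
theorem result {F : Type*} [Field F] [Fintype F] (hF : Fintype.card F = 3) : Nonempty (↥(Cfsg.specialIsometryGroup F (Cfsg.quadFormOdd 1 F)) ≃* Equiv.Perm (Fin 4)) := by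
  obtain ⟨r⟩ : Nonempty (ZMod 3 ≃+* F) := ⟨ZMod.ringEquivOfPrime F Nat.prime_three hF⟩
  have hQ : ∀ v : I3 → ZMod 3, Cfsg.quadFormOdd 1 F (r ∘ v)
      = r (Cfsg.quadFormOdd 1 (ZMod 3) v) := by
    intro v
    simp only [Cfsg.quadFormOdd, map_add, map_mul, map_pow, map_sum, Function.comp_apply]
  have e1 := specialIsometryGroupCongr r _ _ hQ
  have hcard : Nat.card (Cfsg.specialIsometryGroup (ZMod 3) (Cfsg.quadFormOdd 1 (ZMod 3)))
      ≤ Nat.card (Equiv.Perm (Fin 4)) := by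
    have h1 := card_le_of_injective_list
      (fun g : Cfsg.specialIsometryGroup (ZMod 3) (Cfsg.quadFormOdd 1 (ZMod 3)) =>
        entries (((g : Cfsg.isometryGroup (ZMod 3) (Cfsg.quadFormOdd 1 (ZMod 3))) :
          GL I3 (ZMod 3)) : Matrix I3 I3 (ZMod 3)))
      (fun g g' h => Subtype.ext (Subtype.ext (Units.ext (entries_injective h)))) Lst
      (fun g => entries_mem _ ((mem_isometryGroup_iff _ _).mp g.1.2)
        ((mem_specialIsometryGroup_iff _ _).mp g.2))
    rw [Nat.card_perm, Nat.card_fin]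
    rw [Lst_length] at h1
    exact h1.trans (by decide)
  have hbij : Function.Bijective phi := phi_injective.bijective_of_nat_card_le hcard
  exact ⟨e1.symm.trans (MulEquiv.ofBijective phi hbij).symm⟩

end Cfsg.Agent.S0823
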