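import Cfsg.Statements.S0824
import Cfsg.Agent.Lib.helper18.PermModule

set_option autoImplicit false
open Cfsg

namespace Cfsg.Agent.S0824

open Matrix Cfsg.Agent.Lib.helper18

/-- The index type of the form. -/
abbrev I4 : Type := (Fin 1 ⊕ Fin 1) ⊕ Fin 2

/-- A vector from its four coordinates. -/
def vec (a b c d : ZMod 2) : I4 → ZMod 2 := Sum.elim (Sum.elim (fun _ => a) (fun _ => b)) ![c, d]

lemma vec_eta (w : I4 → ZMod 2) :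
    vec (w (.inl (.inl 0))) (w (.inl (.inr 0))) (w (.inr 0)) (w (.inr 1)) = w := by
  funext i
  rcases i with (i | i) | i
  · fin_cases i; rfl
  · fin_cases i; rfl
  · fin_cases i <;> rfl

/-- The form on coordinates. -/
def Q' (a b c d : ZMod 2) : ZMod 2 := a * b + (c * c + c * d + d * d)

lemma Q_eq (w : I4 → ZMod 2) :
    Cfsg.quadFormMinus 1 (ZMod 2) 1 1 w
      = Q' (w (.inl (.inl 0))) (w (.inl (.inr 0))) (w (.inr 0)) (w (.inr 1)) := by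
  simp only [Cfsg.quadFormMinus, Q', Finset.univ_unique, Fin.default_eq_zero, Finset.sum_singleton]
  ring

/-- The basis of the even-weight module. -/
def Dm : Matrix (Fin 5) I4 (ZMod 2) := Matrix.of fun j =>
  vec (![0,1,1,1,1] j) (![1,0,1,1,1] j) (![0,0,1,1,0] j) (![0,0,0,1,1] j)

/-- The dual basis. -/
def Cm : Matrix I4 (Fin 5) (ZMod 2) := Matrix.of fun k j =>
  vec (![1,0,1,1,1] j) (![0,1,1,1,1] j) (![0,0,0,1,1] j) (![0,0,1,1,0] j) k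

lemma permData : PermData Cm Dm (1 : ZMod 2) := by
  refine ⟨?_, ?_, ?_⟩
  · decide
  · decide
  · decide

/-- The invariant quadratic function on the permutation module. -/
def qw (y : Fin 5 → ZMod 2) : ZMod 2 :=
  if (Finset.univ.filter (fun i => y i = 1)).card % 4 = 2 then 1 else 0

lemma qw_perm (π : Equiv.Perm (Fin 5)) (y : Fin 5 → ZMod 2) : qw (y ∘ π.symm) = qw y := by
  unfold qw
  have : (Finset.univ.filter (fun i => (y ∘ π.symm) i = 1)).card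
      = (Finset.univ.filter (fun i => y i = 1)).card := by
    apply Finset.card_equiv π.symm
    intro i
    simp
  rw [this]

lemma Q_eq_qw : ∀ a b c d : ZMod 2, Q' a b c d = qw (Dm *ᵥ vec a b c d) := by
  decide

lemma Q_eq_qw' (w : I4 → ZMod 2) : Cfsg.quadFormMinus 1 (ZMod 2) 1 1 w = qw (Dm *ᵥ w) := by
  rw [Q_eq, Q_eq_qw, vec_eta]

/-- The list of all isometries, by columns. -/
def Lst : List (List (ZMod 2)) :=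
  [[0,1,0,0,1,0,0,0,0,0,0,1,0,0,1,0],
  [0,1,0,0,1,0,0,0,0,0,0,1,0,0,1,1],
  [0,1,0,0,1,0,0,0,0,0,1,0,0,0,0,1],
  [0,1,0,0,1,0,0,0,0,0,1,0,0,0,1,1],
  [0,1,0,0,1,0,0,0,0,0,1,1,0,0,0,1],
  [0,1,0,0,1,0,0,0,0,0,1,1,0,0,1,0],
  [0,1,0,0,1,1,0,1,0,0,0,1,0,1,1,0],
  [0,1,0,0,1,1,0,1,0,0,0,1,0,1,1,1],
  [0,1,0,0,1,1,0,1,0,1,1,0,0,0,0,1],
  [0,1,0,0,1,1,0,1,0,1,1,0,0,1,1,1],
  [0,1,0,0,1,1,0,1,0,1,1,1,0,0,0,1],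
  [0,1,0,0,1,1,0,1,0,1,1,1,0,1,1,0],
  [0,1,0,0,1,1,1,0,0,0,1,0,0,1,0,1],
  [0,1,0,0,1,1,1,0,0,0,1,0,0,1,1,1],
  [0,1,0,0,1,1,1,0,0,1,0,1,0,0,1,0],
  [0,1,0,0,1,1,1,0,0,1,0,1,0,1,1,1],
  [0,1,0,0,1,1,1,0,0,1,1,1,0,0,1,0],
  [0,1,0,0,1,1,1,0,0,1,1,1,0,1,0,1],
  [0,1,0,0,1,1,1,1,0,0,1,1,0,1,0,1],
  [0,1,0,0,1,1,1,1,0,0,1,1,0,1,1,0],
  [0,1,0,0,1,1,1,1,0,1,0,1,0,0,1,1],
  [0,1,0,0,1,1,1,1,0,1,0,1,0,1,1,0],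
  [0,1,0,0,1,1,1,1,0,1,1,0,0,0,1,1],
  [0,1,0,0,1,1,1,1,0,1,1,0,0,1,0,1],
  [1,0,0,0,0,1,0,0,0,0,0,1,0,0,1,0],
  [1,0,0,0,0,1,0,0,0,0,0,1,0,0,1,1],
  [1,0,0,0,0,1,0,0,0,0,1,0,0,0,0,1],
  [1,0,0,0,0,1,0,0,0,0,1,0,0,0,1,1],
  [1,0,0,0,0,1,0,0,0,0,1,1,0,0,0,1],
  [1,0,0,0,0,1,0,0,0,0,1,1,0,0,1,0],
  [1,0,0,0,1,1,0,1,0,0,0,1,1,0,1,0],
  [1,0,0,0,1,1,0,1,0,0,0,1,1,0,1,1],
  [1,0,0,0,1,1,0,1,1,0,1,0,0,0,0,1],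
  [1,0,0,0,1,1,0,1,1,0,1,0,1,0,1,1],
  [1,0,0,0,1,1,0,1,1,0,1,1,0,0,0,1],
  [1,0,0,0,1,1,0,1,1,0,1,1,1,0,1,0],
  [1,0,0,0,1,1,1,0,0,0,1,0,1,0,0,1],
  [1,0,0,0,1,1,1,0,0,0,1,0,1,0,1,1],
  [1,0,0,0,1,1,1,0,1,0,0,1,0,0,1,0],
  [1,0,0,0,1,1,1,0,1,0,0,1,1,0,1,1],
  [1,0,0,0,1,1,1,0,1,0,1,1,0,0,1,0],
  [1,0,0,0,1,1,1,0,1,0,1,1,1,0,0,1],
  [1,0,0,0,1,1,1,1,0,0,1,1,1,0,0,1],
  [1,0,0,0,1,1,1,1,0,0,1,1,1,0,1,0],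
  [1,0,0,0,1,1,1,1,1,0,0,1,0,0,1,1],
  [1,0,0,0,1,1,1,1,1,0,0,1,1,0,1,0],
  [1,0,0,0,1,1,1,1,1,0,1,0,0,0,1,1],
  [1,0,0,0,1,1,1,1,1,0,1,0,1,0,0,1],
  [1,1,0,1,0,1,0,0,0,0,0,1,0,1,1,0],
  [1,1,0,1,0,1,0,0,0,0,0,1,0,1,1,1],
  [1,1,0,1,0,1,0,0,0,1,1,0,0,0,0,1],
  [1,1,0,1,0,1,0,0,0,1,1,0,0,1,1,1],
  [1,1,0,1,0,1,0,0,0,1,1,1,0,0,0,1],
  [1,1,0,1,0,1,0,0,0,1,1,1,0,1,1,0],
  [1,1,0,1,1,0,0,0,0,0,0,1,1,0,1,0],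
  [1,1,0,1,1,0,0,0,0,0,0,1,1,0,1,1],
  [1,1,0,1,1,0,0,0,1,0,1,0,0,0,0,1],
  [1,1,0,1,1,0,0,0,1,0,1,0,1,0,1,1],
  [1,1,0,1,1,0,0,0,1,0,1,1,0,0,0,1],
  [1,1,0,1,1,0,0,0,1,0,1,1,1,0,1,0],
  [1,1,0,1,1,1,1,0,0,1,1,1,1,0,1,1],
  [1,1,0,1,1,1,1,0,0,1,1,1,1,1,0,0],
  [1,1,0,1,1,1,1,0,1,0,1,1,0,1,1,1],
  [1,1,0,1,1,1,1,0,1,0,1,1,1,1,0,0],
  [1,1,0,1,1,1,1,0,1,1,0,0,0,1,1,1],
  [1,1,0,1,1,1,1,0,1,1,0,0,1,0,1,1],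
  [1,1,0,1,1,1,1,1,0,1,1,0,1,0,1,0],
  [1,1,0,1,1,1,1,1,0,1,1,0,1,1,0,0],
  [1,1,0,1,1,1,1,1,1,0,1,0,0,1,1,0],
  [1,1,0,1,1,1,1,1,1,0,1,0,1,1,0,0],
  [1,1,0,1,1,1,1,1,1,1,0,0,0,1,1,0],
  [1,1,0,1,1,1,1,1,1,1,0,0,1,0,1,0],
  [1,1,1,0,0,1,0,0,0,0,1,0,0,1,0,1],
  [1,1,1,0,0,1,0,0,0,0,1,0,0,1,1,1],
  [1,1,1,0,0,1,0,0,0,1,0,1,0,0,1,0],
  [1,1,1,0,0,1,0,0,0,1,0,1,0,1,1,1],
  [1,1,1,0,0,1,0,0,0,1,1,1,0,0,1,0],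
  [1,1,1,0,0,1,0,0,0,1,1,1,0,1,0,1],
  [1,1,1,0,1,0,0,0,0,0,1,0,1,0,0,1],
  [1,1,1,0,1,0,0,0,0,0,1,0,1,0,1,1],
  [1,1,1,0,1,0,0,0,1,0,0,1,0,0,1,0],
  [1,1,1,0,1,0,0,0,1,0,0,1,1,0,1,1],
  [1,1,1,0,1,0,0,0,1,0,1,1,0,0,1,0],
  [1,1,1,0,1,0,0,0,1,0,1,1,1,0,0,1],
  [1,1,1,0,1,1,0,1,0,1,1,1,1,0,1,1],
  [1,1,1,0,1,1,0,1,0,1,1,1,1,1,0,0],
  [1,1,1,0,1,1,0,1,1,0,1,1,0,1,1,1],
  [1,1,1,0,1,1,0,1,1,0,1,1,1,1,0,0],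
  [1,1,1,0,1,1,0,1,1,1,0,0,0,1,1,1],
  [1,1,1,0,1,1,0,1,1,1,0,0,1,0,1,1],
  [1,1,1,0,1,1,1,1,0,1,0,1,1,0,0,1],
  [1,1,1,0,1,1,1,1,0,1,0,1,1,1,0,0],
  [1,1,1,0,1,1,1,1,1,0,0,1,0,1,0,1],
  [1,1,1,0,1,1,1,1,1,0,0,1,1,1,0,0],
  [1,1,1,0,1,1,1,1,1,1,0,0,0,1,0,1],
  [1,1,1,0,1,1,1,1,1,1,0,0,1,0,0,1],
  [1,1,1,1,0,1,0,0,0,0,1,1,0,1,0,1],
  [1,1,1,1,0,1,0,0,0,0,1,1,0,1,1,0],
  [1,1,1,1,0,1,0,0,0,1,0,1,0,0,1,1],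
  [1,1,1,1,0,1,0,0,0,1,0,1,0,1,1,0],
  [1,1,1,1,0,1,0,0,0,1,1,0,0,0,1,1],
  [1,1,1,1,0,1,0,0,0,1,1,0,0,1,0,1],
  [1,1,1,1,1,0,0,0,0,0,1,1,1,0,0,1],
  [1,1,1,1,1,0,0,0,0,0,1,1,1,0,1,0],
  [1,1,1,1,1,0,0,0,1,0,0,1,0,0,1,1],
  [1,1,1,1,1,0,0,0,1,0,0,1,1,0,1,0],
  [1,1,1,1,1,0,0,0,1,0,1,0,0,0,1,1],
  [1,1,1,1,1,0,0,0,1,0,1,0,1,0,0,1],
  [1,1,1,1,1,1,0,1,0,1,1,0,1,0,1,0],
  [1,1,1,1,1,1,0,1,0,1,1,0,1,1,0,0],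
  [1,1,1,1,1,1,0,1,1,0,1,0,0,1,1,0],
  [1,1,1,1,1,1,0,1,1,0,1,0,1,1,0,0],
  [1,1,1,1,1,1,0,1,1,1,0,0,0,1,1,0],
  [1,1,1,1,1,1,0,1,1,1,0,0,1,0,1,0],
  [1,1,1,1,1,1,1,0,0,1,0,1,1,0,0,1],
  [1,1,1,1,1,1,1,0,0,1,0,1,1,1,0,0],
  [1,1,1,1,1,1,1,0,1,0,0,1,0,1,0,1],
  [1,1,1,1,1,1,1,0,1,0,0,1,1,1,0,0],
  [1,1,1,1,1,1,1,0,1,1,0,0,0,1,0,1],
  [1,1,1,1,1,1,1,0,1,1,0,0,1,0,0,1]]

set_option maxRecDepth 100000 in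
set_option synthInstance.maxSize 100000 in
set_option synthInstance.maxHeartbeats 2000000 in
lemma key : ∀ a1 a2 a3 a4 : ZMod 2, Q' a1 a2 a3 a4 = 0 →
    ∀ b1 b2 b3 b4 : ZMod 2, Q' b1 b2 b3 b4 = 0 → Q' (a1 + b1) (a2 + b2) (a3 + b3) (a4 + b4) = 1 →
    ∀ c1 c2 c3 c4 : ZMod 2, Q' c1 c2 c3 c4 = 1 → Q' (a1 + c1) (a2 + c2) (a3 + c3) (a4 + c4) = 1 →
      Q' (b1 + c1) (b2 + c2) (b3 + c3) (b4 + c4) = 1 →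
    ∀ d1 d2 d3 d4 : ZMod 2, Q' d1 d2 d3 d4 = 1 → Q' (a1 + d1) (a2 + d2) (a3 + d3) (a4 + d4) = 1 →
      Q' (b1 + d1) (b2 + d2) (b3 + d3) (b4 + d4) = 1 →
      Q' (c1 + d1) (c2 + d2) (c3 + d3) (c4 + d4) = 1 →
    [a1, a2, a3, a4, b1, b2, b3, b4, c1, c2, c3, c4, d1, d2, d3, d4] ∈ Lst := by
  decide +kernel

lemma Lst_length : Lst.length = 120 := by
  decide +kernel

/-- The homomorphism from the symmetric group. -/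
noncomputable def phi : Equiv.Perm (Fin 5) →*
    Cfsg.isometryGroup (ZMod 2) (Cfsg.quadFormMinus 1 (ZMod 2) 1 1) :=
  MonoidHom.codRestrict (NmHom permData).toHomUnits _ (by
    intro π
    rw [mem_isometryGroup_iff]
    intro u
    show Cfsg.quadFormMinus 1 (ZMod 2) 1 1 (Nm Cm Dm π *ᵥ u) = _
    rw [Q_eq_qw', Q_eq_qw']
    exact Nm_preserves permData qw qw_perm π u)

lemma phi_injective : Function.Injective phi := by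
  rw [injective_iff_map_eq_one]
  intro π hπ
  apply Nm_injective permData
  exact congrArg (fun x : Cfsg.isometryGroup (ZMod 2) (Cfsg.quadFormMinus 1 (ZMod 2) 1 1) =>
    ((x : GL I4 (ZMod 2)) : Matrix I4 I4 (ZMod 2))) hπ

/-- The entries of a matrix, by columns. -/
def entries (M : Matrix I4 I4 (ZMod 2)) : List (ZMod 2) :=
  [M (.inl (.inl 0)) (.inl (.inl 0)), M (.inl (.inr 0)) (.inl (.inl 0)), M (.inr 0) (.inl (.inl 0)), M (.inr 1) (.inl (.inl 0)),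
   M (.inl (.inl 0)) (.inl (.inr 0)), M (.inl (.inr 0)) (.inl (.inr 0)), M (.inr 0) (.inl (.inr 0)), M (.inr 1) (.inl (.inr 0)),
   M (.inl (.inl 0)) (.inr 0), M (.inl (.inr 0)) (.inr 0), M (.inr 0) (.inr 0), M (.inr 1) (.inr 0),
   M (.inl (.inl 0)) (.inr 1), M (.inl (.inr 0)) (.inr 1), M (.inr 0) (.inr 1), M (.inr 1) (.inr 1)]

lemma entries_injective : Function.Injective entries := by
  intro M M' h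
  simp only [entries, List.cons.injEq, and_true] at h
  obtain ⟨h00, h10, h20, h30, h01, h11, h21, h31, h02, h12, h22, h32, h03, h13, h23, h33⟩ := h
  ext i k
  rcases i with (i | i) | i <;> rcases k with (k | k) | k <;> fin_cases i <;> fin_cases k <;>
    assumption

lemma entries_mem (M : Matrix I4 I4 (ZMod 2))
    (hM : ∀ u, Cfsg.quadFormMinus 1 (ZMod 2) 1 1 (M *ᵥ u) = Cfsg.quadFormMinus 1 (ZMod 2) 1 1 u) :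
    entries M ∈ Lst := by
  have hcol : ∀ k, Cfsg.quadFormMinus 1 (ZMod 2) 1 1 (fun i => M i k)
      = Cfsg.quadFormMinus 1 (ZMod 2) 1 1 (Pi.single k 1) := fun k => by
    have := hM (Pi.single k 1)
    rw [Matrix.mulVec_single_one] at this
    exact this
  have hcol2 : ∀ k l, Cfsg.quadFormMinus 1 (ZMod 2) 1 1 (fun i => M i k + M i l)
      = Cfsg.quadFormMinus 1 (ZMod 2) 1 1 (Pi.single k 1 + Pi.single l 1) := fun k l => by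
    have := hM (Pi.single k 1 + Pi.single l 1)
    rw [Matrix.mulVec_add, Matrix.mulVec_single_one, Matrix.mulVec_single_one] at this
    exact this
  simp only [Q_eq] at hcol hcol2
  apply key
  · exact (hcol (.inl (.inl 0))).trans (by decide)
  · exact (hcol (.inl (.inr 0))).trans (by decide)
  · exact (hcol2 (.inl (.inl 0)) (.inl (.inr 0))).trans (by decide)
  · exact (hcol (.inr 0)).trans (by decide)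
  · exact (hcol2 (.inl (.inl 0)) (.inr 0)).trans (by decide)
  · exact (hcol2 (.inl (.inr 0)) (.inr 0)).trans (by decide)
  · exact (hcol (.inr 1)).trans (by decide)
  · exact (hcol2 (.inl (.inl 0)) (.inr 1)).trans (by decide)
  · exact (hcol2 (.inl (.inr 0)) (.inr 1)).trans (by decide)
  · exact (hcol2 (.inr 0) (.inr 1)).trans (by decide)

/-- O⁻_4(2) ≅ S_5: the isometry group of the form x y + z_1² + z_1 z_2 + z_2² over the field with 2 elements is isomorphic to the symmetric group on 5 letters. -/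
theorem result {F : Type*} [Field F] [Fintype F] (hF : Fintype.card F = 2) : Nonempty (↥(Cfsg.isometryGroup F (Cfsg.quadFormMinus 1 F 1 1)) ≃* Equiv.Perm (Fin 5)) := by
  obtain ⟨r⟩ : Nonempty (ZMod 2 ≃+* F) := ⟨ZMod.ringEquivOfPrime F Nat.prime_two hF⟩
  have hQ : ∀ v : I4 → ZMod 2, Cfsg.quadFormMinus 1 F 1 1 (r ∘ v)
      = r (Cfsg.quadFormMinus 1 (ZMod 2) 1 1 v) := by
    intro v
    simp only [Cfsg.quadFormMinus, map_add, map_mul, map_pow, map_sum, map_one,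
      Function.comp_apply]
  have e1 := isometryGroupCongr r _ _ hQ
  have hcard : Nat.card (Cfsg.isometryGroup (ZMod 2) (Cfsg.quadFormMinus 1 (ZMod 2) 1 1))
      ≤ Nat.card (Equiv.Perm (Fin 5)) := by
    have h1 := card_le_of_injective_list
      (fun g : Cfsg.isometryGroup (ZMod 2) (Cfsg.quadFormMinus 1 (ZMod 2) 1 1) =>
        entries ((g : GL I4 (ZMod 2)) : Matrix I4 I4 (ZMod 2)))
      (fun g g' h => Subtype.ext (Units.ext (entries_injective h))) Lst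
      (fun g => entries_mem _ ((mem_isometryGroup_iff _ _).mp g.2))
    rw [Nat.card_perm, Nat.card_fin]
    rw [Lst_length] at h1
    exact h1.trans (by decide)
  have hbij : Function.Bijective phi := phi_injective.bijective_of_nat_card_le hcard
  exact ⟨e1.symm.trans (MulEquiv.ofBijective phi hbij).symm⟩

end Cfsg.Agent.S0824
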