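import Cfsg.Statements.S0825
import Cfsg.Agent.S0287
import Cfsg.Agent.Lib.helper6.PermMod

set_option autoImplicit false
open Cfsg

namespace Cfsg.Agent.S0825

open Matrix Cfsg.Agent.Lib.helper6

/-- a hyperbolic basis of (even-weight vectors of `F_2^8`) / (all-ones), as columns -/
def Cm : Matrix (Fin 8) (Fin 3 ⊕ Fin 3) (ZMod 2) :=
  (Matrix.of (Sum.elim ![![1, 1, 1, 1, 0, 0, 0, 0], ![1, 1, 0, 0, 1, 1, 0, 0], ![1, 0, 1, 0, 1, 0, 1, 0]]
    ![![1, 0, 0, 0, 0, 1, 1, 1], ![1, 0, 0, 1, 1, 1, 0, 0], ![1, 0, 1, 0, 1, 0, 0, 1]]))ᵀ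

/-- the coordinate functionals -/
def Bm : Matrix (Fin 3 ⊕ Fin 3) (Fin 8) (ZMod 2) :=
  Matrix.of (Sum.elim ![![1, 0, 0, 0, 0, 1, 1, 1], ![1, 0, 0, 1, 1, 1, 0, 0], ![1, 0, 1, 0, 1, 0, 0, 1]]
    ![![1, 1, 1, 1, 0, 0, 0, 0], ![1, 1, 0, 0, 1, 1, 0, 0], ![1, 0, 1, 0, 1, 0, 1, 0]])

def av : Fin 8 → ZMod 2 := ![0, 1, 0, 1, 1, 0, 1, 1]
def uv : Fin 8 → ZMod 2 := ![1, 0, 1, 0, 0, 1, 0, 0]

theorem hB : Bm *ᵥ 1 = 0 := by decide
theorem hC : 1 ᵥ* Cm = 0 := by decide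
theorem hBC : Bm * Cm = 1 := by decide
theorem hCB : Cm * Bm = 1 + vecMulVec 1 av + vecMulVec uv 1 := by decide

/-- `S_8 → M_6(F_2)` -/
def rho0 : Equiv.Perm (Fin 8) →* Matrix (Fin 3 ⊕ Fin 3) (Fin 3 ⊕ Fin 3) (ZMod 2) :=
  permModHom Bm Cm av uv hB hC hBC hCB

theorem swap_pres : ∀ i : Fin 7, ∀ x : Fin 3 ⊕ Fin 3 → ZMod 2,
    quadFormPlus 3 (ZMod 2) (rho0 (Equiv.swap i.castSucc i.succ) *ᵥ x)
      = quadFormPlus 3 (ZMod 2) x := by decide

/-- a 3-cycle -/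
def c3 : Equiv.Perm (Fin 8) := Equiv.swap 0 1 * Equiv.swap 1 2

theorem rho0_c3 : rho0 c3 ≠ 1 := by decide

theorem c3_mem : c3 ∈ alternatingGroup (Fin 8) := by
  rw [Equiv.Perm.mem_alternatingGroup]; decide

theorem rho0_pres (σ : Equiv.Perm (Fin 8)) (x : Fin 3 ⊕ Fin 3 → ZMod 2) :
    quadFormPlus 3 (ZMod 2) (rho0 σ *ᵥ x) = quadFormPlus 3 (ZMod 2) x := by
  let K : Submonoid (Equiv.Perm (Fin 8)) :=
    { carrier := {σ | ∀ x, quadFormPlus 3 (ZMod 2) (rho0 σ *ᵥ x) = quadFormPlus 3 (ZMod 2) x}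
      one_mem' := fun x => by simp
      mul_mem' := by
        intro σ τ hσ hτ x
        rw [map_mul, ← Matrix.mulVec_mulVec, hσ, hτ] }
  have hK : K = ⊤ := by
    rw [eq_top_iff, ← Equiv.Perm.mclosure_swap_castSucc_succ 7, Submonoid.closure_le]
    rintro _ ⟨i, rfl⟩
    exact swap_pres i
  have : σ ∈ K := by rw [hK]; trivial
  exact this x

theorem charP_two {F : Type*} [Field F] [Fintype F] (hF : Fintype.card F = 2) : CharP F 2 := by
  obtain ⟨n, hp, hn⟩ := FiniteField.card F (ringChar F)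
  have : ringChar F ∣ 2 := by rw [← hF, hn]; exact dvd_pow_self _ n.ne_zero
  have h2 : ringChar F = 2 := (Nat.prime_dvd_prime_iff_eq hp Nat.prime_two).mp this
  rw [← h2]; exact ringChar.charP F

theorem quad_map {F : Type*} [Field F] (c : ZMod 2 →+* F) (x : Fin 3 ⊕ Fin 3 → ZMod 2) :
    quadFormPlus 3 F (fun i => c (x i)) = c (quadFormPlus 3 (ZMod 2) x) := by
  simp [quadFormPlus]

/-- O⁺_6(2) ≅ S_8: the isometry group of the hyperbolic form x_1y_1 + x_2y_2 + x_3y_3 over the field with 2 elements is isomorphic to the symmetric group on 8 letters. -/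
theorem result {F : Type*} [Field F] [Fintype F] (hF : Fintype.card F = 2) : Nonempty (↥(Cfsg.isometryGroup F (Cfsg.quadFormPlus 3 F)) ≃* Equiv.Perm (Fin 8)) := by
  have : CharP F 2 := charP_two hF
  let c : ZMod 2 →+* F := ZMod.castHom (dvd_refl 2) F
  have hc : Function.Injective c := c.injective
  have hcs : Function.Surjective c := by
    have hb : Function.Bijective c := by
      rw [Fintype.bijective_iff_injective_and_card]
      exact ⟨hc, by rw [ZMod.card, hF]⟩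
    exact hb.2
  let f0 : Equiv.Perm (Fin 8) →* Matrix (Fin 3 ⊕ Fin 3) (Fin 3 ⊕ Fin 3) F :=
    (c.mapMatrix : _ →+* _).toMonoidHom.comp rho0
  let f1 : Equiv.Perm (Fin 8) →* GL (Fin 3 ⊕ Fin 3) F := f0.toHomUnits
  have hf1 : ∀ σ, ((f1 σ : GL (Fin 3 ⊕ Fin 3) F) : Matrix _ _ F) = (rho0 σ).map c := fun σ => rfl
  have hmem : ∀ σ, f1 σ ∈ Cfsg.isometryGroup F (Cfsg.quadFormPlus 3 F) := by
    intro σ u v
    change quadFormPlus 3 F (_ *ᵥ u) = quadFormPlus 3 F u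
    obtain ⟨x, rfl⟩ : ∃ x : Fin 3 ⊕ Fin 3 → ZMod 2, (fun i => c (x i)) = u := by
      choose g hg using hcs
      exact ⟨fun i => g (u i), funext fun i => hg (u i)⟩
    have h1 : (Units.coeHom (Matrix (Fin 3 ⊕ Fin 3) (Fin 3 ⊕ Fin 3) F)) (f1 σ) *ᵥ (fun i => c (x i))
        = fun i => c ((rho0 σ *ᵥ x) i) := by
      change (rho0 σ).map c *ᵥ (fun i => c (x i)) = _
      funext i
      simp [Matrix.mulVec, dotProduct, Matrix.map_apply]
    rw [h1, quad_map, quad_map, rho0_pres]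
  let f : Equiv.Perm (Fin 8) →* Cfsg.isometryGroup F (Cfsg.quadFormPlus 3 F) :=
    f1.codRestrict _ hmem
  have hinj : Function.Injective f := by
    rw [← MonoidHom.ker_eq_bot_iff]
    by_contra hne
    have hnt : Nontrivial f.ker := (Subgroup.nontrivial_iff_ne_bot _).mpr hne
    have hle := Equiv.Perm.alternatingGroup_le_of_normal (α := Fin 8) (by simp) hnt
    have h1 : f c3 = 1 := MonoidHom.mem_ker.mp (hle c3_mem)
    have h2 : (rho0 c3).map c = 1 := by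
      rw [← hf1]
      have := congrArg (fun g : Cfsg.isometryGroup F (Cfsg.quadFormPlus 3 F) =>
        Units.val g.1) h1
      exact this
    apply rho0_c3
    have h3 : (rho0 c3).map c
        = (1 : Matrix (Fin 3 ⊕ Fin 3) (Fin 3 ⊕ Fin 3) (ZMod 2)).map c := by
      rw [h2]; simp
    exact Matrix.map_injective hc h3
  have hcard : Nat.card (Cfsg.isometryGroup F (Cfsg.quadFormPlus 3 F))
      ≤ Nat.card (Equiv.Perm (Fin 8)) := by
    rw [Cfsg.Agent.S0287.result hF 3 (by norm_num), Nat.card_eq_fintype_card, Fintype.card_perm]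
    simp [Finset.prod_range_succ, Nat.factorial]
  obtain ⟨e⟩ := nonempty_mulEquiv_of_injective_of_card f hinj hcard
  exact ⟨e.symm⟩

end Cfsg.Agent.S0825
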