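import Cfsg.Statements.S0826

set_option autoImplicit false
open Cfsg

namespace Cfsg.Agent.S0826

open Matrix

section abstract

variable {X κ : Type*} [Fintype X] [DecidableEq X] [Fintype κ] [DecidableEq κ]

/-- The permutation action on vectors. -/
def act (σ : Equiv.Perm X) (w : X → ZMod 2) : X → ZMod 2 := fun x => w (σ.symm x)

omit [Fintype X] [DecidableEq X] in
lemma act_apply (σ : Equiv.Perm X) (w : X → ZMod 2) (x : X) : act σ w x = w (σ.symm x) := rfl

omit [DecidableEq X] in
lemma B_act (σ : Equiv.Perm X) (w u : X → ZMod 2) :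
    act σ w ⬝ᵥ u = w ⬝ᵥ act σ⁻¹ u := by
  simp only [dotProduct, act]
  rw [← Equiv.sum_comp σ]
  apply Finset.sum_congr rfl
  intro x _
  rw [Equiv.symm_apply_apply]
  rfl

omit [DecidableEq X] in
lemma sum_act (σ : Equiv.Perm X) (w : X → ZMod 2) : ∑ x, act σ w x = ∑ x, w x := by
  unfold act
  exact Equiv.sum_comp σ.symm w

omit [Fintype X] [DecidableEq X] in
lemma act_mul (σ τ : Equiv.Perm X) (w : X → ZMod 2) : act (σ * τ) w = act σ (act τ w) := by
  funext x
  rfl

omit [Fintype X] [DecidableEq X] in
lemma act_one (w : X → ZMod 2) : act 1 w = w := rfl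

/-- The hypotheses on the symplectic family. -/
structure Good (e : κ ⊕ κ → X → ZMod 2) : Prop where
  dual : ∀ k l, e k ⬝ᵥ e (Sum.swap l) = if k = l then 1 else 0
  even : ∀ k, ∑ x, e k x = 0
  span : ∀ w : X → ZMod 2, ∑ x, w x = 0 → (∀ l, w ⬝ᵥ e l = 0) → ∀ x y, w x = w y

omit [DecidableEq X] in
lemma parseval (e : κ ⊕ κ → X → ZMod 2) (he : Good e) (w u : X → ZMod 2) (hw : ∑ x, w x = 0)
    (hu : ∑ x, u x = 0) :
    w ⬝ᵥ u = ∑ l, (w ⬝ᵥ e (Sum.swap l)) * (e l ⬝ᵥ u) := by
  obtain ⟨w', hw'⟩ : ∃ w' : X → ZMod 2, w' = w - ∑ l, (w ⬝ᵥ e (Sum.swap l)) • e l := ⟨_, rfl⟩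
  have h1 : ∑ x, w' x = 0 := by
    simp only [hw', Pi.sub_apply, Finset.sum_apply, Pi.smul_apply, smul_eq_mul,
      Finset.sum_sub_distrib, hw, zero_sub, neg_eq_zero]
    rw [Finset.sum_comm]
    apply Finset.sum_eq_zero
    intro l _
    rw [← Finset.mul_sum, he.even, mul_zero]
  have h2 : ∀ k, w' ⬝ᵥ e k = 0 := by
    intro k
    rw [hw', sub_dotProduct, sum_dotProduct]
    simp only [smul_dotProduct, smul_eq_mul]
    have : ∀ l, e l ⬝ᵥ e k = if l = Sum.swap k then 1 else 0 := by
      intro l
      have := he.dual l (Sum.swap k)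
      rwa [Sum.swap_swap] at this
    simp only [this, mul_ite, mul_one, mul_zero, Finset.sum_ite_eq', Finset.mem_univ, if_true,
      Sum.swap_swap, sub_self]
  have h3 := he.span w' h1 h2
  have h4 : w' ⬝ᵥ u = 0 := by
    by_cases hX : Nonempty X
    · obtain ⟨x₀⟩ := hX
      simp only [dotProduct]
      rw [show (∑ x, w' x * u x) = ∑ x, w' x₀ * u x from
        Finset.sum_congr rfl fun x _ => by rw [h3 x x₀], ← Finset.mul_sum, hu, mul_zero]
    · haveI := not_nonempty_iff.mp hX
      simp [dotProduct]
  have h5 : w = w' + ∑ l, (w ⬝ᵥ e (Sum.swap l)) • e l := by rw [hw']; abel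
  conv_lhs => rw [h5]
  rw [add_dotProduct, h4, zero_add, sum_dotProduct]
  simp only [smul_dotProduct, smul_eq_mul]

/-- The matrix of a permutation. -/
def M (e : κ ⊕ κ → X → ZMod 2) (σ : Equiv.Perm X) : Matrix (κ ⊕ κ) (κ ⊕ κ) (ZMod 2) :=
  Matrix.of fun l k => act σ (e k) ⬝ᵥ e (Sum.swap l)

omit [Fintype κ] in
lemma J_apply (k k' : κ ⊕ κ) :
    Matrix.J κ (ZMod 2) k k' = if k = Sum.swap k' then 1 else 0 := by
  rcases k with i | i <;> rcases k' with j | j <;>
    simp [Matrix.J, Matrix.one_apply, Matrix.neg_apply]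

omit [DecidableEq X] in
lemma M_one (e : κ ⊕ κ → X → ZMod 2) (he : Good e) : M e 1 = 1 := by
  ext l k
  simp only [M, Matrix.of_apply, act_one, Matrix.one_apply]
  rw [he.dual]
  simp [eq_comm]

omit [DecidableEq X] in
lemma M_mul (e : κ ⊕ κ → X → ZMod 2) (he : Good e) (σ τ : Equiv.Perm X) :
    M e (σ * τ) = M e σ * M e τ := by
  ext l k
  simp only [M, Matrix.of_apply, Matrix.mul_apply]
  rw [act_mul, B_act, parseval e he (act τ (e k)) (act σ⁻¹ (e (Sum.swap l)))
    (by rw [sum_act, he.even]) (by rw [sum_act, he.even])]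
  apply Finset.sum_congr rfl
  intro j _
  rw [mul_comm]
  congr 1
  rw [B_act]

omit [DecidableEq X] in
lemma M_symp (e : κ ⊕ κ → X → ZMod 2) (he : Good e) (σ : Equiv.Perm X) :
    M e σ ∈ Matrix.symplecticGroup κ (ZMod 2) := by
  rw [SymplecticGroup.mem_iff']
  ext k k'
  rw [Matrix.mul_apply]
  simp only [Matrix.mul_apply, Matrix.transpose_apply, J_apply]
  simp only [mul_ite, mul_one, mul_zero, Finset.sum_ite_eq', Finset.mem_univ, if_true]
  simp only [M, Matrix.of_apply, Sum.swap_swap]
  have h1 := parseval e he (act σ (e k')) (act σ (e k)) (by rw [sum_act, he.even])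
    (by rw [sum_act, he.even])
  have h2 : act σ (e k') ⬝ᵥ act σ (e k) = if k = Sum.swap k' then 1 else 0 := by
    rw [B_act, ← act_mul, inv_mul_cancel, act_one, dotProduct_comm]
    have := he.dual k (Sum.swap k')
    rwa [Sum.swap_swap] at this
  rw [← h2, h1]
  apply Finset.sum_congr rfl
  intro l _
  rw [mul_comm, dotProduct_comm (e l)]

lemma M_inj (e : κ ⊕ κ → X → ZMod 2) (he : Good e) (hX : 5 ≤ Fintype.card X)
    (σ : Equiv.Perm X) (hσ : M e σ = 1) : σ = 1 := by
  have hinv : ∀ w u : X → ZMod 2, ∑ x, w x = 0 → ∑ x, u x = 0 →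
      act σ w ⬝ᵥ u = w ⬝ᵥ u := by
    intro w u hw hu
    have hel : ∀ l, act σ (e l) ⬝ᵥ u = e l ⬝ᵥ u := by
      intro l
      rw [parseval e he (act σ (e l)) u (by rw [sum_act, he.even]) hu,
        parseval e he (e l) u (he.even l) hu]
      apply Finset.sum_congr rfl
      intro j _
      congr 1
      have := congrFun (congrFun hσ j) l
      simp only [M, Matrix.of_apply, Matrix.one_apply] at this
      rw [this, he.dual]
      simp [eq_comm]
    rw [B_act, parseval e he w (act σ⁻¹ u) hw (by rw [sum_act, hu]), parseval e he w u hw hu]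
    apply Finset.sum_congr rfl
    intro l _
    congr 1
    rw [← B_act, hel]
  by_contra hne
  obtain ⟨x, hx⟩ : ∃ x, σ x ≠ x := by
    by_contra h
    push Not at h
    exact hne (Equiv.ext h)
  obtain ⟨c, -, hc⟩ := Finset.exists_mem_notMem_of_card_lt_card (s := ({x, σ x} : Finset X))
    (t := Finset.univ) (by
      calc ({x, σ x} : Finset X).card ≤ 2 := Finset.card_le_two
        _ < Finset.univ.card := by rw [Finset.card_univ]; omega)
  obtain ⟨d, -, hd⟩ := Finset.exists_mem_notMem_of_card_lt_card
    (s := ({x, σ x, c, σ c} : Finset X)) (t := Finset.univ) (by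
      calc ({x, σ x, c, σ c} : Finset X).card ≤ 4 := Finset.card_le_four
        _ < Finset.univ.card := by rw [Finset.card_univ]; omega)
  simp only [Finset.mem_insert, Finset.mem_singleton, not_or] at hc hd
  obtain ⟨hcx, hcy⟩ := hc
  obtain ⟨hdx, hdy, hdc, hdσc⟩ := hd
  have hsd1 : σ.symm d ≠ x := fun h => hdy (by rw [← h, Equiv.apply_symm_apply])
  have hsd2 : σ.symm d ≠ c := fun h => hdσc (by rw [← h, Equiv.apply_symm_apply])
  have h11 : (1 : ZMod 2) + 1 = 0 := rfl
  have h := hinv (Pi.single x 1 + Pi.single c 1) (Pi.single (σ x) 1 + Pi.single d 1)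
    (by simp [Finset.sum_add_distrib, h11]) (by simp [Finset.sum_add_distrib, h11])
  rw [dotProduct_add, dotProduct_add, dotProduct_single, dotProduct_single, dotProduct_single,
    dotProduct_single] at h
  simp only [act_apply, Pi.add_apply, Pi.single_apply, mul_one, Equiv.symm_apply_apply] at h
  simp [hx, hcx, hcy, hdx, hdc, hsd1, hsd2, Ne.symm hcx, Ne.symm hcy, Ne.symm hdx,
    Ne.symm hdc] at h

theorem abstract_embed (e : κ ⊕ κ → X → ZMod 2) (he : Good e) (hX : 5 ≤ Fintype.card X) :
    ∃ f : Equiv.Perm X →* Matrix.symplecticGroup κ (ZMod 2), Function.Injective f := by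
  refine ⟨MonoidHom.mk' (fun σ => ⟨M e σ, M_symp e he σ⟩)
    (fun σ τ => Subtype.ext (M_mul e he σ τ)), ?_⟩
  rw [injective_iff_map_eq_one]
  intro σ hσ
  apply M_inj e he hX
  exact congrArg Subtype.val hσ

end abstract

section concrete

variable {n : ℕ}

/-- Inclusion of indices. -/
def c₀ (i : Fin (n - 1)) : Fin n := ⟨i.val, by have := i.isLt; omega⟩

/-- Shifted inclusion of indices. -/
def c₁ (i : Fin (n - 1)) : Fin n := ⟨i.val + 1, by have := i.isLt; omega⟩

/-- The explicit symplectic family. -/
def basis (n : ℕ) : Fin (n - 1) ⊕ Fin (n - 1) → (Fin n × Fin 2 → ZMod 2)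
  | Sum.inl i => fun p => if p.1.val ≤ i.val then 1 else 0
  | Sum.inr i => Pi.single (c₀ i, 1) 1 + Pi.single (c₁ i, 0) 1

lemma basis_span (n : ℕ) (w : Fin n × Fin 2 → ZMod 2) (hw : ∑ x, w x = 0)
    (hl : ∀ l, w ⬝ᵥ basis n l = 0) : ∀ x y, w x = w y := by
  have hchar : ∀ a b : ZMod 2, a + b = 0 → a = b := by decide
  have hb : ∀ i : Fin (n - 1), w (c₁ i, 0) = w (c₀ i, 1) := by
    intro i
    have := hl (Sum.inr i)
    simp only [basis] at this
    rw [dotProduct_add, dotProduct_single, dotProduct_single, mul_one, mul_one] at this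
    exact (hchar _ _ this).symm
  have hS : ∀ m : ℕ, ∑ k : Fin n, (if k.val < m then w (k, 0) + w (k, 1) else 0) = 0 := by
    intro m
    rcases Nat.eq_zero_or_pos m with rfl | hm
    · simp
    · by_cases hmn : m ≤ n - 1
      · have := hl (Sum.inl ⟨m - 1, by omega⟩)
        simp only [basis, dotProduct, Fintype.sum_prod_type, Fin.sum_univ_two] at this
        refine Eq.trans ?_ this
        apply Finset.sum_congr rfl
        intro k _
        by_cases hk : k.val < m
        · have hk' : k.val ≤ m - 1 := by omega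
          simp [hk, hk']
        · have hk' : ¬ k.val ≤ m - 1 := by omega
          simp [hk, hk']
      · rw [Fintype.sum_prod_type] at hw
        simp only [Fin.sum_univ_two] at hw
        refine Eq.trans ?_ hw
        apply Finset.sum_congr rfl
        intro k _
        have : k.val < m := by have := k.isLt; omega
        simp [this]
  have hd : ∀ k : Fin n, w (k, 0) = w (k, 1) := by
    intro k
    apply hchar
    have h1 := hS (k.val + 1)
    have h2 := hS k.val
    have h3 : ∀ j : Fin n, (if j.val < k.val + 1 then w (j, 0) + w (j, 1) else 0)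
        = (if j.val < k.val then w (j, 0) + w (j, 1) else 0)
          + (if j = k then w (j, 0) + w (j, 1) else 0) := by
      intro j
      by_cases hj1 : j.val < k.val
      · have hj2 : j ≠ k := fun h => by rw [h] at hj1; omega
        have hj3 : j.val < k.val + 1 := by omega
        simp [hj1, hj2, hj3]
      · by_cases hj2 : j = k
        · subst hj2
          simp
        · have hj3 : ¬ j.val < k.val + 1 := by
            intro h
            apply hj2
            apply Fin.ext
            omega
          simp [hj1, hj2, hj3]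
    simp only [h3, Finset.sum_add_distrib, Finset.sum_ite_eq', Finset.mem_univ, if_true] at h1
    rw [h2, zero_add] at h1
    exact h1
  have key : ∀ m : ℕ, ∀ k k' : Fin n, k.val = m → k'.val = 0 → w (k, 0) = w (k', 0) := by
    intro m
    induction m with
    | zero =>
      intro k k' hk hk'
      have : k = k' := Fin.ext (by omega)
      rw [this]
    | succ m ih =>
      intro k k' hk hk'
      have hkn := k.isLt
      have hk1 : k = c₁ (⟨m, by omega⟩ : Fin (n - 1)) := Fin.ext (by simp [c₁, hk])
      rw [hk1, hb, ← hd]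
      exact ih _ k' rfl hk'
  have hε : ∀ (k : Fin n) (ε : Fin 2), w (k, ε) = w (k, 0) := by
    intro k
    rw [Fin.forall_fin_two]
    exact ⟨rfl, (hd k).symm⟩
  rintro ⟨k, ε⟩ ⟨k', ε'⟩
  have hn : 0 < n := by have := k.isLt; omega
  rw [hε k ε, hε k' ε', key k.val k ⟨0, hn⟩ rfl rfl, key k'.val k' ⟨0, hn⟩ rfl rfl]

lemma basis_good (n : ℕ) : Good (basis n) := by
  have h11 : (1 : ZMod 2) + 1 = 0 := rfl
  refine ⟨?_, ?_, basis_span n⟩
  · intro k l
    rcases k with i | i <;> rcases l with j | j
    · simp only [Sum.swap_inl, basis]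
      rw [dotProduct_add, dotProduct_single, dotProduct_single]
      simp only [c₀, c₁, mul_one, Sum.inl.injEq]
      by_cases h1 : j.val ≤ i.val
      · by_cases h2 : j.val + 1 ≤ i.val
        · have h3 : i ≠ j := fun h => by rw [h] at h2; omega
          simp [h1, h2, h3, h11]
        · have h3 : i = j := Fin.ext (by omega)
          simp [h1, h2, h3]
      · have h2 : ¬ j.val + 1 ≤ i.val := by omega
        have h3 : i ≠ j := fun h => by rw [h] at h1; omega
        simp [h1, h2, h3]
    · simp only [Sum.swap_inr, basis, dotProduct, Fintype.sum_prod_type, Fin.sum_univ_two]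
      simp only [reduceCtorEq, if_false]
      apply Finset.sum_eq_zero
      intro k _
      exact CharTwo.add_self_eq_zero _
    · simp only [Sum.swap_inl, basis]
      rw [dotProduct_add, dotProduct_single, dotProduct_single]
      simp only [Pi.add_apply, Pi.single_apply, mul_one, Prod.mk.injEq, reduceCtorEq, if_false]
      by_cases h : j = i
      · subst h
        simp [c₀, c₁, h11]
      · have h1 : c₀ j ≠ c₀ i := fun h' => h (Fin.ext (by simpa [c₀] using congrArg Fin.val h'))
        have h2 : c₁ j ≠ c₁ i := fun h' => h (Fin.ext (by simpa [c₁] using congrArg Fin.val h'))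
        simp [h1, h2]
    · simp only [Sum.swap_inr, basis]
      rw [dotProduct_comm, dotProduct_add, dotProduct_single, dotProduct_single]
      simp only [c₀, c₁, mul_one, Sum.inr.injEq]
      by_cases h1 : i.val ≤ j.val
      · by_cases h2 : i.val + 1 ≤ j.val
        · have h3 : i ≠ j := fun h => by rw [h] at h2; omega
          simp [h1, h2, h3, h11]
        · have h3 : i = j := Fin.ext (by omega)
          simp [h1, h2, h3]
      · have h2 : ¬ i.val + 1 ≤ j.val := by omega
        have h3 : i ≠ j := fun h => by rw [h] at h1; omega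
        simp [h1, h2, h3]
  · intro k
    rcases k with i | i
    · simp only [basis, Fintype.sum_prod_type, Fin.sum_univ_two]
      apply Finset.sum_eq_zero
      intro k _
      exact CharTwo.add_self_eq_zero _
    · simp only [basis, Pi.add_apply, Finset.sum_add_distrib, Finset.sum_pi_single',
        Finset.mem_univ, if_true]
      exact h11

end concrete

/-- S_2n ≤ Sp_(2n−2)(2) for n ≥ 3: there is an injective homomorphism from the symmetric group on 2n letters into the symplectic group of degree 2n − 2 over the field with two elements. -/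
theorem result (n : ℕ) (hn : 3 ≤ n) : ∃ f : Equiv.Perm (Fin (2 * n)) →* Matrix.symplecticGroup (Fin (n - 1)) (ZMod 2), Function.Injective f := by
  obtain ⟨f, hf⟩ := abstract_embed (basis n) (basis_good n) (by
    rw [Fintype.card_prod, Fintype.card_fin, Fintype.card_fin]; omega)
  obtain ⟨e₀⟩ : Nonempty (Fin (2 * n) ≃ Fin n × Fin 2) :=
    ⟨(finCongr (Nat.mul_comm 2 n)).trans finProdFinEquiv.symm⟩
  exact ⟨f.comp e₀.permCongrHom.toMonoidHom, hf.comp e₀.permCongrHom.injective⟩

end Cfsg.Agent.S0826
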