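import Cfsg.Statements.S0828

set_option autoImplicit false
open Cfsg

namespace Cfsg.Agent.S0828

open Matrix

section basics

variable {F : Type*} [Field F]

lemma symp_expl (u v : Fin 2 ⊕ Fin 2 → F) : Cfsg.sympForm 2 F u v
    = (u (.inr 0) * v (.inl 0) - u (.inl 0) * v (.inr 0))
      + (u (.inr 1) * v (.inl 1) - u (.inl 1) * v (.inr 1)) := by
  simp [Cfsg.sympForm, Matrix.J, dotProduct, Matrix.mulVec, Fintype.sum_sum_type, Fin.sum_univ_two,
    Matrix.one_apply]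
  ring

/-- The symplectic form as a bilinear form. -/
noncomputable def Bf (F : Type*) [Field F] : LinearMap.BilinForm F (Fin 2 ⊕ Fin 2 → F) :=
  Matrix.toBilin' (Matrix.J (Fin 2) F)

lemma Bf_apply (u v : Fin 2 ⊕ Fin 2 → F) : Bf F u v = Cfsg.sympForm 2 F u v := by
  rw [Bf, Matrix.toBilin'_apply']
  rfl

lemma Bf_self (u : Fin 2 ⊕ Fin 2 → F) : Bf F u u = 0 := by
  rw [Bf_apply, symp_expl]
  ring

lemma Bf_swap (u v : Fin 2 ⊕ Fin 2 → F) : Bf F u v = - Bf F v u := by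
  rw [Bf_apply, Bf_apply, symp_expl, symp_expl]
  ring

lemma Bf_ne_zero (v : Fin 2 ⊕ Fin 2 → F) (hv : v ≠ 0) : Bf F v ≠ 0 := by
  intro h
  apply hv
  have h' : ∀ w, Cfsg.sympForm 2 F v w = 0 := fun w => by rw [← Bf_apply, h]; rfl
  funext k
  rcases k with k | k
  · have := h' (Pi.single (Sum.inr k) 1)
    rw [symp_expl] at this
    fin_cases k <;> simpa using this
  · have := h' (Pi.single (Sum.inl k) 1)
    rw [symp_expl] at this
    fin_cases k <;> simpa using this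

lemma ti_span (v w : Fin 2 ⊕ Fin 2 → F) (h : Bf F v w = 0) :
    ∀ x ∈ Submodule.span F {v, w}, ∀ y ∈ Submodule.span F {v, w}, Cfsg.sympForm 2 F x y = 0 := by
  intro x hx y hy
  rw [← Bf_apply]
  refine Submodule.span_induction₂ (p := fun x y _ _ => Bf F x y = 0) ?_ ?_ ?_ ?_ ?_ ?_ ?_ hx hy
  · intro a b ha hb
    rcases ha with rfl | rfl <;> rcases hb with rfl | rfl
    · exact Bf_self _
    · exact h
    · rw [Bf_swap, h, neg_zero]
    · exact Bf_self _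
  · intro b _; simp
  · intro a _; simp
  · intro a b c _ _ _ h1 h2; simp [h1, h2]
  · intro a b c _ _ _ h1 h2; simp [h1, h2]
  · intro r a b _ _ h1; simp [h1]
  · intro r a b _ _ h1; simp [h1]

lemma finrank_span_pair (v w : Fin 2 ⊕ Fin 2 → F) (hv : v ≠ 0)
    (hw : w ∉ Submodule.span F {v}) : Module.finrank F (Submodule.span F {v, w}) = 2 := by
  have hli : LinearIndependent F ![v, w] := by
    rw [LinearIndependent.pair_iff' hv]
    intro a ha
    exact hw (ha ▸ Submodule.smul_mem _ a (Submodule.mem_span_singleton_self v))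
  have h1 := finrank_span_eq_card hli
  rw [Fintype.card_fin] at h1
  have h2 : Set.range ![v, w] = {v, w} := by
    simp [Matrix.range_cons]
    exact Set.pair_comm _ _
  rw [h2] at h1
  exact h1

end basics

section counting

variable {F : Type*} [Field F] [Fintype F]

lemma ncard_sub (W : Submodule F (Fin 2 ⊕ Fin 2 → F)) (d : ℕ) (hW : Module.finrank F W = d) :
    (W : Set (Fin 2 ⊕ Fin 2 → F)).ncard = Fintype.card F ^ d := by
  rw [← Nat.card_coe_set_eq]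
  show Nat.card W = _
  rw [Module.natCard_eq_pow_finrank (K := F), hW, Nat.card_eq_fintype_card]

lemma finrank_ker (v : Fin 2 ⊕ Fin 2 → F) (hv : v ≠ 0) :
    Module.finrank F (LinearMap.ker (Bf F v)) = 3 := by
  have h1 := LinearMap.finrank_range_add_finrank_ker (Bf F v)
  have h2 : LinearMap.range (Bf F v) = ⊤ :=
    LinearMap.range_eq_top.mpr (LinearMap.surjective (Bf_ne_zero v hv))
  rw [h2, finrank_top, Module.finrank_self, Module.finrank_fintype_fun_eq_card] at h1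
  have h3 : Fintype.card (Fin 2 ⊕ Fin 2) = 4 := by decide
  omega

lemma card_diff_sub (A B : Submodule F (Fin 2 ⊕ Fin 2 → F)) (hAB : A ≤ B) (a b : ℕ)
    (hA : Module.finrank F A = a) (hB : Module.finrank F B = b) :
    Nat.card {w : Fin 2 ⊕ Fin 2 → F // w ∈ B ∧ w ∉ A}
      = Fintype.card F ^ b - Fintype.card F ^ a := by
  have h := Nat.card_coe_set_eq ((B : Set (Fin 2 ⊕ Fin 2 → F)) \ (A : Set (Fin 2 ⊕ Fin 2 → F)))
  have h' : ((B : Set (Fin 2 ⊕ Fin 2 → F)) \ (A : Set (Fin 2 ⊕ Fin 2 → F))).ncard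
      = (B : Set (Fin 2 ⊕ Fin 2 → F)).ncard - (A : Set (Fin 2 ⊕ Fin 2 → F)).ncard :=
    Set.ncard_sdiff (SetLike.coe_subset_coe.mpr hAB) (Set.toFinite _)
  rw [h', ncard_sub B b hB, ncard_sub A a hA] at h
  exact h

lemma part2 (v : Fin 2 ⊕ Fin 2 → F) (hv : v ≠ 0) :
    Nat.card {W : Submodule F (Fin 2 ⊕ Fin 2 → F) // Module.finrank F W = 2 ∧ v ∈ W ∧
      ∀ u ∈ W, ∀ w ∈ W, Cfsg.sympForm 2 F u w = 0} = Fintype.card F + 1 := by
  classical
  obtain ⟨q, hq⟩ : ∃ q, q = Fintype.card F := ⟨_, rfl⟩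
  have hq2 : 2 ≤ q := by rw [hq]; exact Fintype.one_lt_card
  haveI : Fintype {W : Submodule F (Fin 2 ⊕ Fin 2 → F) // Module.finrank F W = 2 ∧ v ∈ W ∧
      ∀ u ∈ W, ∀ w ∈ W, Cfsg.sympForm 2 F u w = 0} := Fintype.ofFinite _
  have hSP : Submodule.span F {v} ≤ LinearMap.ker (Bf F v) := by
    rw [Submodule.span_singleton_le_iff_mem, LinearMap.mem_ker]
    exact Bf_self v
  have e : {w : Fin 2 ⊕ Fin 2 → F // w ∈ LinearMap.ker (Bf F v) ∧ w ∉ Submodule.span F {v}} ≃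
      Σ W : {W : Submodule F (Fin 2 ⊕ Fin 2 → F) // Module.finrank F W = 2 ∧ v ∈ W ∧
        ∀ u ∈ W, ∀ w ∈ W, Cfsg.sympForm 2 F u w = 0},
        {w : Fin 2 ⊕ Fin 2 → F // w ∈ W.1 ∧ w ∉ Submodule.span F {v}} :=
    { toFun := fun w => ⟨⟨Submodule.span F {v, w.1}, finrank_span_pair v w.1 hv w.2.2,
          Submodule.subset_span (Set.mem_insert _ _),
          ti_span v w.1 (LinearMap.mem_ker.mp w.2.1)⟩,
        ⟨w.1, Submodule.subset_span (Set.mem_insert_of_mem _ rfl), w.2.2⟩⟩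
      invFun := fun x => ⟨x.2.1, by
        rw [LinearMap.mem_ker, Bf_apply]
        exact x.1.2.2.2 v x.1.2.2.1 x.2.1 x.2.2.1, x.2.2.2⟩
      left_inv := fun w => rfl
      right_inv := fun x => by
        apply Sigma.subtype_ext
        · apply Subtype.ext
          show Submodule.span F {v, x.2.1} = x.1.1
          apply Submodule.eq_of_le_of_finrank_eq
          · rw [Submodule.span_le]
            intro y hy
            rcases hy with rfl | rfl
            · exact x.1.2.2.1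
            · exact x.2.2.1
          · rw [finrank_span_pair v x.2.1 hv x.2.2.2, x.1.2.1]
        · rfl }
  have h1 : Nat.card {w : Fin 2 ⊕ Fin 2 → F //
      w ∈ LinearMap.ker (Bf F v) ∧ w ∉ Submodule.span F {v}} = q ^ 3 - q := by
    rw [card_diff_sub _ _ hSP 1 3 (finrank_span_singleton hv) (finrank_ker v hv), ← hq, pow_one]
  have h2 : ∀ W : {W : Submodule F (Fin 2 ⊕ Fin 2 → F) // Module.finrank F W = 2 ∧ v ∈ W ∧
      ∀ u ∈ W, ∀ w ∈ W, Cfsg.sympForm 2 F u w = 0},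
      Nat.card {w : Fin 2 ⊕ Fin 2 → F // w ∈ W.1 ∧ w ∉ Submodule.span F {v}} = q ^ 2 - q := by
    intro W
    have hSW : Submodule.span F {v} ≤ W.1 := by
      rw [Submodule.span_singleton_le_iff_mem]
      exact W.2.2.1
    rw [card_diff_sub _ _ hSW 1 2 (finrank_span_singleton hv) W.2.1, ← hq, pow_one]
  have h3 := Nat.card_congr e
  rw [Nat.card_sigma, h1] at h3
  simp_rw [h2] at h3
  rw [Finset.sum_const, Finset.card_univ, smul_eq_mul, ← Nat.card_eq_fintype_card] at h3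
  rw [← hq]
  have h4 : q ^ 3 - q = (q + 1) * (q ^ 2 - q) := by
    obtain ⟨t, rfl⟩ : ∃ t, q = t + 2 := ⟨q - 2, by omega⟩
    have e1 : (t + 2) ^ 3 - (t + 2) = (t + 2) * ((t + 1) * (t + 3)) := by
      apply Nat.sub_eq_of_eq_add; ring
    have e2 : (t + 2) ^ 2 - (t + 2) = (t + 2) * (t + 1) := by
      apply Nat.sub_eq_of_eq_add; ring
    rw [e1, e2]; ring
  have h5 : 0 < q ^ 2 - q := by
    have : q < q ^ 2 := by nlinarith
    omega
  rw [h4] at h3
  exact (Nat.eq_of_mul_eq_mul_right h5 h3).symm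

/-- The symplectic generalised quadrangle over a field with q elements: the number of 2-dimensional subspaces of F^4 on which the symplectic form vanishes is (q + 1)(q² + 1), and every non-zero vector lies in exactly q + 1 of them. -/
theorem result {F : Type*} [Field F] [Fintype F] {q : ℕ} (hF : Fintype.card F = q) : Nat.card {W : Submodule F (Fin 2 ⊕ Fin 2 → F) // Module.finrank F W = 2 ∧ ∀ u ∈ W, ∀ v ∈ W, Cfsg.sympForm 2 F u v = 0} = (q + 1) * (q ^ 2 + 1) ∧ ∀ v : Fin 2 ⊕ Fin 2 → F, v ≠ 0 → Nat.card {W : Submodule F (Fin 2 ⊕ Fin 2 → F) // Module.finrank F W = 2 ∧ v ∈ W ∧ ∀ u ∈ W, ∀ w ∈ W, Cfsg.sympForm 2 F u w = 0} = q + 1 := by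
  subst hF
  classical
  refine ⟨?_, fun v hv => part2 v hv⟩
  obtain ⟨q, hq⟩ : ∃ q, q = Fintype.card F := ⟨_, rfl⟩
  have hq2 : 2 ≤ q := by rw [hq]; exact Fintype.one_lt_card
  rw [← hq]
  haveI : Fintype {W : Submodule F (Fin 2 ⊕ Fin 2 → F) // Module.finrank F W = 2 ∧
      ∀ u ∈ W, ∀ v ∈ W, Cfsg.sympForm 2 F u v = 0} := Fintype.ofFinite _
  haveI : Fintype {u : Fin 2 ⊕ Fin 2 → F // u ≠ 0} := Fintype.ofFinite _
  have e1 : (Σ W : {W : Submodule F (Fin 2 ⊕ Fin 2 → F) // Module.finrank F W = 2 ∧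
        ∀ u ∈ W, ∀ v ∈ W, Cfsg.sympForm 2 F u v = 0},
        {u : Fin 2 ⊕ Fin 2 → F // u ∈ W.1 ∧ u ∉ (⊥ : Submodule F (Fin 2 ⊕ Fin 2 → F))}) ≃
      Σ u : {u : Fin 2 ⊕ Fin 2 → F // u ≠ 0},
        {W : Submodule F (Fin 2 ⊕ Fin 2 → F) // Module.finrank F W = 2 ∧ u.1 ∈ W ∧
          ∀ x ∈ W, ∀ w ∈ W, Cfsg.sympForm 2 F x w = 0} :=
    { toFun := fun x => ⟨⟨x.2.1, fun h => x.2.2.2 (by rw [h]; exact Submodule.zero_mem _)⟩,
        ⟨x.1.1, x.1.2.1, x.2.2.1, x.1.2.2⟩⟩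
      invFun := fun y => ⟨⟨y.2.1, y.2.2.1, y.2.2.2.2⟩,
        ⟨y.1.1, y.2.2.2.1, fun h => y.1.2 ((Submodule.mem_bot F).mp h)⟩⟩
      left_inv := fun x => rfl
      right_inv := fun y => rfl }
  have h1 : ∀ W : {W : Submodule F (Fin 2 ⊕ Fin 2 → F) // Module.finrank F W = 2 ∧
        ∀ u ∈ W, ∀ v ∈ W, Cfsg.sympForm 2 F u v = 0},
      Nat.card {u : Fin 2 ⊕ Fin 2 → F // u ∈ W.1 ∧ u ∉ (⊥ : Submodule F (Fin 2 ⊕ Fin 2 → F))}
        = q ^ 2 - 1 := by
    intro W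
    rw [card_diff_sub _ _ bot_le 0 2 (finrank_bot F _) W.2.1, ← hq, pow_zero]
  have h2 : Nat.card {u : Fin 2 ⊕ Fin 2 → F // u ≠ 0} = q ^ 4 - 1 := by
    have h := card_diff_sub (⊥ : Submodule F (Fin 2 ⊕ Fin 2 → F)) ⊤ bot_le 0 4 (finrank_bot F _) (by
      rw [finrank_top, Module.finrank_fintype_fun_eq_card]; decide)
    rw [← hq, pow_zero] at h
    rw [← h]
    apply Nat.card_congr
    exact Equiv.subtypeEquivRight (fun u => by simp)
  have h3 := Nat.card_congr e1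
  rw [Nat.card_sigma, Nat.card_sigma] at h3
  simp_rw [h1] at h3
  have h4 : ∑ u : {u : Fin 2 ⊕ Fin 2 → F // u ≠ 0},
      Nat.card {W : Submodule F (Fin 2 ⊕ Fin 2 → F) // Module.finrank F W = 2 ∧ u.1 ∈ W ∧
          ∀ x ∈ W, ∀ w ∈ W, Cfsg.sympForm 2 F x w = 0}
      = ∑ _u : {u : Fin 2 ⊕ Fin 2 → F // u ≠ 0}, (q + 1) :=
    Finset.sum_congr rfl (fun u _ => by rw [part2 u.1 u.2, hq])
  rw [h4, Finset.sum_const, Finset.sum_const,
    Finset.card_univ, Finset.card_univ, smul_eq_mul, smul_eq_mul, ← Nat.card_eq_fintype_card,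
    ← Nat.card_eq_fintype_card, h2] at h3
  obtain ⟨t, rfl⟩ : ∃ t, q = t + 2 := ⟨q - 2, by omega⟩
  have e2 : (t + 2) ^ 2 - 1 = (t + 1) * (t + 3) := by
    apply Nat.sub_eq_of_eq_add; ring
  have e4 : (t + 2) ^ 4 - 1 = (t + 1) * (t + 3) * ((t + 2) ^ 2 + 1) := by
    apply Nat.sub_eq_of_eq_add; ring
  rw [e2, e4] at h3
  have h5 : 0 < (t + 1) * (t + 3) := by positivity
  apply Nat.eq_of_mul_eq_mul_right h5
  rw [h3]
  ring

end counting

end Cfsg.Agent.S0828
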