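import Mathlib
import Cfsg.Statements.S0830
import Cfsg.Agent.Lib.helper16.HermLines

set_option autoImplicit false
open Cfsg

namespace Cfsg.Agent.S0830

open Cfsg.Agent.Lib.helper7 Cfsg.Agent.Lib.helper16

/-- The unitary quadrangle of PSU_5(q): with |F| = q², the number of 2-dimensional subspaces of F^5 on which the Hermitian form vanishes is (q³ + 1)(q⁵ + 1). -/
theorem result {F : Type*} [Field F] [Fintype F] {q : ℕ} (hF : Fintype.card F = q ^ 2) : Nat.card {W : Submodule F (Fin 5 → F) // Module.finrank F W = 2 ∧ ∀ u ∈ W, ∀ v ∈ W, Cfsg.hermForm 5 F q u v = 0} = (q ^ 3 + 1) * (q ^ 5 + 1) := by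
  have hq := two_le_of_card_sq hF
  have h := card_ti_planes hF 4
  obtain ⟨-, h2⟩ := hermCount_closed q hq 4
  rw [h2] at h
  have hq' : (2 : ℤ) ≤ q := by exact_mod_cast hq
  have h2' : (4 : ℤ) ≤ (q : ℤ) ^ 2 := by nlinarith
  have h4' : (16 : ℤ) ≤ (q : ℤ) ^ 4 := by nlinarith
  have hX : (((q : ℤ) ^ 4 - 1) * ((q : ℤ) ^ 4 - (q : ℤ) ^ 2) * q) ≠ 0 := by
    have e1 : (0 : ℤ) < (q : ℤ) ^ 4 - 1 := by linarith
    have e2 : (0 : ℤ) < (q : ℤ) ^ 4 - (q : ℤ) ^ 2 := by nlinarith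
    have e3 : (0 : ℤ) < (q : ℤ) := by linarith
    positivity
  have key : (Nat.card {W : Submodule F (Fin 5 → F) // Module.finrank F W = 2 ∧
      ∀ u ∈ W, ∀ v ∈ W, Cfsg.hermForm 5 F q u v = 0} : ℤ)
        = ((q : ℤ) ^ 3 + 1) * ((q : ℤ) ^ 5 + 1) := by
    apply mul_right_cancel₀ hX
    rw [h]
    ring
  exact_mod_cast key

end Cfsg.Agent.S0830
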