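import Cfsg.Statements.S0831
import Cfsg.Agent.Lib.helper18.MaxTS
import Cfsg.Agent.Lib.helper49.Forms

set_option autoImplicit false
open Cfsg

namespace Cfsg.Agent.S0831


open Cfsg.Agent.Lib.helper49 in
theorem parity_plus {F : Type*} [Field F] (m : ℕ) (U W X : Submodule F (Fin m ⊕ Fin m → F))
    (hU : Module.finrank F U = m ∧ ∀ w ∈ U, Cfsg.quadFormPlus m F w = 0)
    (hW : Module.finrank F W = m ∧ ∀ w ∈ W, Cfsg.quadFormPlus m F w = 0)
    (hX : Module.finrank F X = m ∧ ∀ w ∈ X, Cfsg.quadFormPlus m F w = 0) :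
    Even ((m - Module.finrank F ↥(U ⊓ W)) + (m - Module.finrank F ↥(W ⊓ X))
      + (m - Module.finrank F ↥(U ⊓ X))) := by
  have hpol : ∀ x y : Fin m ⊕ Fin m → F, Cfsg.quadFormPlus m F (x + y)
      = Cfsg.quadFormPlus m F x + Cfsg.quadFormPlus m F y
        + Matrix.toBilin' (gramPlus m F) x y := by
    intro x y
    rw [← polar_quadFormPlus, QuadraticMap.polar]
    ring
  have hsymm : (Matrix.toBilin' (gramPlus m F)).IsSymm := by
    refine ⟨fun x y => ?_⟩
    rw [← polar_quadFormPlus, ← polar_quadFormPlus, QuadraticMap.polar_comm]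
  have hdet : (gramPlus m F).det ≠ 0 := by
    have h1 : gramPlus m F * gramPlus m F = 1 := by
      simp [gramPlus, Matrix.fromBlocks_multiply, Matrix.fromBlocks_one]
    have h2 := congrArg Matrix.det h1
    rw [Matrix.det_mul, Matrix.det_one] at h2
    intro h0
    rw [h0, zero_mul] at h2
    exact zero_ne_one h2
  have hnd : (Matrix.toBilin' (gramPlus m F)).Nondegenerate :=
    LinearMap.BilinForm.nondegenerate_toBilin'_iff_det_ne_zero.mpr hdet
  have hV : Module.finrank F (Fin m ⊕ Fin m → F) = 2 * m := by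
    rw [Module.finrank_fintype_fun_eq_card, Fintype.card_sum, Fintype.card_fin, two_mul]
  exact Cfsg.Agent.Lib.helper18.maxTS_triple_parity (Matrix.toBilin' (gramPlus m F)) hnd hsymm
    (Cfsg.quadFormPlus m F) hpol m hV U W X hU.1 hU.2 hW.1 hW.2 hX.1 hX.2

theorem exists_adjacent {F : Type*} [Field F] (m : ℕ) (hm : 1 ≤ m) :
    ∃ U W : Submodule F (Fin m ⊕ Fin m → F),
      (Module.finrank F U = m ∧ ∀ w ∈ U, Cfsg.quadFormPlus m F w = 0) ∧
      (Module.finrank F W = m ∧ ∀ w ∈ W, Cfsg.quadFormPlus m F w = 0) ∧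
      Module.finrank F ↥(U ⊓ W) + 1 = m := by
  classical
  let i₀ : Fin m := ⟨0, hm⟩
  let fU : (Fin m → F) →ₗ[F] (Fin m ⊕ Fin m → F) :=
    { toFun := fun x => Sum.elim x 0
      map_add' := by
        intro x y
        ext k
        cases k <;> simp
      map_smul' := by
        intro a x
        ext k
        cases k <;> simp }
  have hfU_inl : ∀ x i, fU x (Sum.inl i) = x i := fun x i => rfl
  have hfU_inr : ∀ x i, fU x (Sum.inr i) = 0 := fun x i => rfl
  have hfU : Function.Injective fU := by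
    intro x y hxy
    ext i
    have := congrFun hxy (Sum.inl i)
    simpa [hfU_inl] using this
  let τ : (Fin m ⊕ Fin m → F) ≃ₗ[F] (Fin m ⊕ Fin m → F) :=
    LinearEquiv.funCongrLeft F F (Equiv.swap (Sum.inl i₀) (Sum.inr i₀))
  have hτ : ∀ v k, τ v k = v (Equiv.swap (Sum.inl i₀) (Sum.inr i₀) k) := fun v k => rfl
  have hτQ : ∀ v, Cfsg.quadFormPlus m F (τ v) = Cfsg.quadFormPlus m F v := by
    intro v
    unfold Cfsg.quadFormPlus
    apply Finset.sum_congr rfl
    intro i _
    rw [hτ, hτ]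
    by_cases hi : i = i₀
    · subst hi
      rw [Equiv.swap_apply_left, Equiv.swap_apply_right, mul_comm]
    · rw [Equiv.swap_apply_of_ne_of_ne (by simpa using hi) (by simp),
        Equiv.swap_apply_of_ne_of_ne (by simp) (by simpa using hi)]
  have hQU : ∀ x, Cfsg.quadFormPlus m F (fU x) = 0 := by
    intro x
    unfold Cfsg.quadFormPlus
    apply Finset.sum_eq_zero
    intro i _
    rw [hfU_inr, mul_zero]
  have hτfix : ∀ y : Fin m → F, y i₀ = 0 → τ (fU y) = fU y := by
    intro y hy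
    ext k
    rw [hτ]
    by_cases h1 : k = Sum.inl i₀
    · subst h1
      rw [Equiv.swap_apply_left, hfU_inr, hfU_inl, hy]
    · by_cases h2 : k = Sum.inr i₀
      · subst h2
        rw [Equiv.swap_apply_right, hfU_inr, hfU_inl, hy]
      · rw [Equiv.swap_apply_of_ne_of_ne h1 h2]
  let K : Submodule F (Fin m → F) := LinearMap.ker (LinearMap.proj i₀ : (Fin m → F) →ₗ[F] F)
  have hK : Module.finrank F
      (LinearMap.ker (LinearMap.proj i₀ : (Fin m → F) →ₗ[F] F)) + 1 = m := by
    have h := LinearMap.finrank_range_add_finrank_ker (LinearMap.proj i₀ : (Fin m → F) →ₗ[F] F)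
    have hr : LinearMap.range (LinearMap.proj i₀ : (Fin m → F) →ₗ[F] F) = ⊤ :=
      LinearMap.range_eq_top.mpr (LinearMap.proj_surjective i₀)
    rw [hr, finrank_top, Module.finrank_self, Module.finrank_fin_fun] at h
    omega
  have hinter : LinearMap.range fU ⊓ (LinearMap.range fU).map τ.toLinearMap = K.map fU := by
    ext v
    constructor
    · rintro ⟨⟨x, rfl⟩, ⟨_, ⟨y, rfl⟩, hy⟩⟩
      have hy' : τ (fU y) = fU x := hy
      have h0 : y i₀ = 0 := by
        have := congrFun hy' (Sum.inr i₀)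
        rw [hτ, Equiv.swap_apply_right, hfU_inl, hfU_inr] at this
        exact this
      refine ⟨y, ?_, ?_⟩
      · exact h0
      · rw [← hy', hτfix y h0]
    · rintro ⟨y, hy, rfl⟩
      have h0 : y i₀ = 0 := hy
      refine ⟨⟨y, rfl⟩, ⟨fU y, ⟨y, rfl⟩, ?_⟩⟩
      exact hτfix y h0
  refine ⟨LinearMap.range fU, (LinearMap.range fU).map τ.toLinearMap, ⟨?_, ?_⟩, ⟨?_, ?_⟩, ?_⟩
  · rw [LinearMap.finrank_range_of_inj hfU, Module.finrank_fin_fun]
  · rintro w ⟨x, rfl⟩
    exact hQU x
  · rw [LinearEquiv.finrank_map_eq, LinearMap.finrank_range_of_inj hfU, Module.finrank_fin_fun]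
  · rintro w ⟨_, ⟨x, rfl⟩, rfl⟩
    show Cfsg.quadFormPlus m F (τ (fU x)) = 0
    rw [hτQ, hQU]
  · rw [hinter, ← (Submodule.equivMapOfInjective fU hfU K).finrank_eq]
    exact hK

/-- The two families of maximal totally singular subspaces of the hyperbolic quadric: for the form Σ x_i y_i on F^(2m), m ≥ 1, and m-dimensional subspaces U, W, X on which it vanishes, the parities of m − dim(U ∩ W), m − dim(W ∩ X) and m − dim(U ∩ X) sum to an even number (so 'even codimension of the intersection' is an equivalence relation), and there exist two such subspaces meeting in codimension 1 (so there are exactly two classes). -/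
theorem result {F : Type*} [Field F] (m : ℕ) (hm : 1 ≤ m) : (∀ U W X : Submodule F (Fin m ⊕ Fin m → F), (Module.finrank F U = m ∧ ∀ w ∈ U, Cfsg.quadFormPlus m F w = 0) → (Module.finrank F W = m ∧ ∀ w ∈ W, Cfsg.quadFormPlus m F w = 0) → (Module.finrank F X = m ∧ ∀ w ∈ X, Cfsg.quadFormPlus m F w = 0) → Even ((m - Module.finrank F ↥(U ⊓ W)) + (m - Module.finrank F ↥(W ⊓ X)) + (m - Module.finrank F ↥(U ⊓ X)))) ∧ ∃ U W : Submodule F (Fin m ⊕ Fin m → F), (Module.finrank F U = m ∧ ∀ w ∈ U, Cfsg.quadFormPlus m F w = 0) ∧ (Module.finrank F W = m ∧ ∀ w ∈ W, Cfsg.quadFormPlus m F w = 0) ∧ Module.finrank F ↥(U ⊓ W) + 1 = m := by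
  exact ⟨fun U W X hU hW hX => parity_plus m U W X hU hW hX, exists_adjacent m hm⟩

end Cfsg.Agent.S0831
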