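import Mathlib
import Cfsg.Statements.S0832
import Cfsg.Agent.S0750
import Cfsg.Agent.Lib.helper49.Forms

set_option autoImplicit false
open Cfsg

namespace Cfsg.Agent.S0832

open Module QuadraticMap
open Cfsg.Agent.Lib.helper49 (plusForm plusForm_coe polar_quadFormPlus gramPlus)

section aux

variable {F : Type*} [Field F]

lemma polar_single_inr (m : ℕ) (u : Fin m ⊕ Fin m → F) (i : Fin m) :
    polar (plusForm m F) u (Pi.single (Sum.inr i) 1) = u (Sum.inl i) := by
  rw [plusForm_coe, polar_quadFormPlus, Matrix.toBilin'_apply']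
  simp [gramPlus, dotProduct, Fintype.sum_sum_type, Matrix.one_apply]

lemma polar_single_inl (m : ℕ) (u : Fin m ⊕ Fin m → F) (i : Fin m) :
    polar (plusForm m F) u (Pi.single (Sum.inl i) 1) = u (Sum.inr i) := by
  rw [plusForm_coe, polar_quadFormPlus, Matrix.toBilin'_apply']
  simp [gramPlus, dotProduct, Fintype.sum_sum_type, Matrix.one_apply]

lemma plus_nondeg (m : ℕ) : (polarBilin (plusForm m F)).Nondegenerate := by
  have h1 : ∀ x : Fin m ⊕ Fin m → F, (∀ y, polar (plusForm m F) x y = 0) → x = 0 := by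
    intro x hx
    funext k
    rcases k with i | i
    · rw [← polar_single_inr m x i]; exact hx _
    · rw [← polar_single_inl m x i]; exact hx _
  refine ⟨fun x hx => h1 x (fun y => ?_), fun y hy => h1 y (fun x => ?_)⟩
  · have := hx y; rwa [polarBilin_apply_apply] at this
  · have := hy x; rwa [polarBilin_apply_apply, polar_comm] at this

theorem two_of_one {V : Type*} [AddCommGroup V] [Module F V] [FiniteDimensional F V]
    (Q : QuadraticForm F V) (hQ : (polarBilin Q).Nondegenerate) (m : ℕ)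
    (hV : finrank F V = 2 * m) (U W₀ : Submodule F V) (hUd : finrank F U + 1 = m)
    (hU : ∀ u ∈ U, Q u = 0) (hW₀d : finrank F W₀ = m) (hW₀ : ∀ w ∈ W₀, Q w = 0)
    (hUW₀ : U ≤ W₀) :
    Nat.card {W : Submodule F V // finrank F W = m ∧ (∀ w ∈ W, Q w = 0) ∧ U ≤ W} = 2 := by
  classical
  have hts : ∀ (W : Submodule F V), (∀ w ∈ W, Q w = 0) → ∀ x ∈ W, ∀ y ∈ W, polar Q x y = 0 := by
    intro W hW x hx y hy
    unfold polar; rw [hW _ (W.add_mem hx hy), hW x hx, hW y hy]; simp
  obtain ⟨w₀, hw₀, hw₀U⟩ : ∃ w₀ ∈ W₀, w₀ ∉ U := by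
    by_contra hcon; push Not at hcon
    have h1 : W₀ ≤ U := hcon
    have := Submodule.finrank_mono h1
    omega
  obtain ⟨l, hlU, hlw⟩ := S0750.exists_dual U w₀ hw₀U
  let z₀ : V := (LinearMap.BilinForm.toDual (polarBilin Q) hQ).symm l
  have hz₀ : ∀ y, polar Q z₀ y = l y := by
    intro y
    have := LinearMap.BilinForm.apply_toDual_symm_apply (hB := hQ) l y
    rw [polarBilin_apply_apply] at this
    exact this
  set z := z₀ - Q z₀ • w₀ with hz
  have hw₀w₀ : polar Q w₀ w₀ = 0 := hts W₀ hW₀ w₀ hw₀ w₀ hw₀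
  have hQz : Q z = 0 := by
    rw [hz, sub_eq_add_neg, ← neg_smul, S0750.quad_add, QuadraticMap.map_smul, polar_smul_right,
      hz₀, hlw, hW₀ w₀ hw₀]
    simp
  have hzU : ∀ u ∈ U, polar Q z u = 0 := by
    intro u hu
    rw [hz, polar_sub_left, polar_smul_left, hz₀, hlU u hu, hts W₀ hW₀ w₀ hw₀ u (hUW₀ hu)]; simp
  have hzw : polar Q z w₀ = 1 := by
    rw [hz, polar_sub_left, polar_smul_left, hz₀, hlw, hw₀w₀]; simp
  have hzW₀ : z ∉ W₀ := by
    intro h
    have := hts W₀ hW₀ z h w₀ hw₀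
    rw [hzw] at this; exact one_ne_zero this
  have hzU' : z ∉ U := fun h => hzW₀ (hUW₀ h)
  have hfin_sup : ∀ (X : Submodule F V) (x : V), x ∉ X →
      finrank F ↥(X ⊔ Submodule.span F {x}) = finrank F X + 1 := by
    intro X x hx
    have hx0 : x ≠ 0 := fun h => hx (h ▸ X.zero_mem)
    have h1 := Submodule.finrank_sup_add_finrank_inf_eq X (Submodule.span F {x})
    have h2 : X ⊓ Submodule.span F {x} = ⊥ := by
      rw [eq_bot_iff]
      rintro y ⟨hy1, hy2⟩
      obtain ⟨a, rfl⟩ := Submodule.mem_span_singleton.1 hy2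
      by_cases ha : a = 0
      · simp [ha]
      · exfalso; apply hx
        have := X.smul_mem a⁻¹ hy1
        rwa [smul_smul, inv_mul_cancel₀ ha, one_smul] at this
    rw [h2, finrank_bot, finrank_span_singleton hx0] at h1
    omega
  set W₁ := U ⊔ Submodule.span F {z} with hW₁def
  have hW₁d : finrank F W₁ = m := by rw [hW₁def, hfin_sup U z hzU']; omega
  have hW₁ : ∀ w ∈ W₁, Q w = 0 := by
    intro w hw
    obtain ⟨u, hu, y, hy, rfl⟩ := Submodule.mem_sup.1 hw
    obtain ⟨s, rfl⟩ := Submodule.mem_span_singleton.1 hy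
    rw [S0750.quad_add, QuadraticMap.map_smul, polar_smul_right, hU u hu, hQz, polar_comm,
      hzU u hu]; simp
  have hne : W₀ ≠ W₁ := by
    intro h; apply hzW₀; rw [h]
    exact Submodule.mem_sup_right (Submodule.mem_span_singleton_self z)
  have hW₀eq : W₀ = U ⊔ Submodule.span F {w₀} := by
    symm
    apply Submodule.eq_of_le_of_finrank_eq
    · exact sup_le hUW₀ ((Submodule.span_singleton_le_iff_mem _ _).2 hw₀)
    · rw [hfin_sup U w₀ hw₀U]; omega
  have hperp : finrank F (LinearMap.BilinForm.orthogonal (polarBilin Q) U) = m + 1 := by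
    rw [LinearMap.BilinForm.finrank_orthogonal hQ]; omega
  have hT : W₀ ⊔ Submodule.span F {z} = LinearMap.BilinForm.orthogonal (polarBilin Q) U := by
    apply Submodule.eq_of_le_of_finrank_eq
    · refine sup_le ?_ ?_
      · intro x hx; rw [LinearMap.BilinForm.mem_orthogonal_iff]; intro u hu
        exact hts W₀ hW₀ u (hUW₀ hu) x hx
      · rw [Submodule.span_singleton_le_iff_mem, LinearMap.BilinForm.mem_orthogonal_iff]
        intro u hu; show polar Q u z = 0; rw [polar_comm]; exact hzU u hu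
    · rw [hfin_sup W₀ z hzW₀, hperp, hW₀d]
  have hmain : ∀ W : Submodule F V, finrank F W = m → (∀ w ∈ W, Q w = 0) → U ≤ W →
      W = W₀ ∨ W = W₁ := by
    intro W hWd hW hUW
    have hWT : ∀ w ∈ W, w ∈ W₀ ∨ w ∈ W₁ := by
      intro w hw
      have h1 : w ∈ LinearMap.BilinForm.orthogonal (polarBilin Q) U := by
        rw [LinearMap.BilinForm.mem_orthogonal_iff]; intro u hu
        exact hts W hW u (hUW hu) w hw
      rw [← hT, hW₀eq] at h1
      obtain ⟨x, hx, y, hy, rfl⟩ := Submodule.mem_sup.1 h1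
      obtain ⟨u, hu, y', hy', rfl⟩ := Submodule.mem_sup.1 hx
      obtain ⟨t, rfl⟩ := Submodule.mem_span_singleton.1 hy'
      obtain ⟨s, rfl⟩ := Submodule.mem_span_singleton.1 hy
      have hQ0 := hW _ hw
      have hts0 : t * s = 0 := by
        rw [S0750.quad_add, S0750.quad_add, QuadraticMap.map_smul, QuadraticMap.map_smul,
          hU u hu, hW₀ w₀ hw₀, hQz] at hQ0
        simp only [polar_add_left, polar_smul_left, polar_smul_right, polar_comm Q u z, hzU u hu,
          polar_comm Q w₀ z, hzw, hts W₀ hW₀ u (hUW₀ hu) w₀ hw₀, smul_eq_mul] at hQ0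
        have hQ1 : s = 0 ∨ t = 0 := by simpa using hQ0
        rcases hQ1 with h | h <;> simp [h]
      rcases mul_eq_zero.1 hts0 with h | h
      · right; subst h; simp only [zero_smul, add_zero]
        exact Submodule.add_mem_sup hu
          (Submodule.smul_mem _ _ (Submodule.mem_span_singleton_self z))
      · left; subst h; simp only [zero_smul, add_zero]
        rw [hW₀eq]; exact Submodule.add_mem_sup hu
          (Submodule.smul_mem _ _ (Submodule.mem_span_singleton_self w₀))
    have hle : W ≤ W₀ ∨ W ≤ W₁ := by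
      by_contra hcon; push Not at hcon
      obtain ⟨h1, h2⟩ := hcon
      obtain ⟨a, ha, haW₀⟩ := SetLike.not_le_iff_exists.1 h1
      obtain ⟨b, hb, hbW₁⟩ := SetLike.not_le_iff_exists.1 h2
      have haW₁ := (hWT a ha).resolve_left haW₀
      have hbW₀ := (hWT b hb).resolve_right hbW₁
      rcases hWT (a + b) (W.add_mem ha hb) with h | h
      · exact haW₀ (by simpa using W₀.sub_mem h hbW₀)
      · exact hbW₁ (by simpa using W₁.sub_mem h haW₁)
    rcases hle with h | h
    · left; exact Submodule.eq_of_le_of_finrank_eq h (by rw [hWd, hW₀d])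
    · right; exact Submodule.eq_of_le_of_finrank_eq h (by rw [hWd, hW₁d])
  rw [Nat.card_eq_two_iff]
  refine ⟨⟨W₀, hW₀d, hW₀, hUW₀⟩, ⟨W₁, hW₁d, hW₁, le_sup_left⟩, ?_, ?_⟩
  · intro h; exact hne (congrArg Subtype.val h)
  · ext ⟨W, hWd, hW, hUW⟩
    simp only [Set.mem_insert_iff, Set.mem_singleton_iff, Set.mem_univ, iff_true,
      Subtype.mk.injEq]
    exact hmain W hWd hW hUW

theorem exists_W0 (m : ℕ) (U : Submodule F (Fin m ⊕ Fin m → F))
    (hUd : finrank F U + 1 = m) (hU : ∀ u ∈ U, quadFormPlus m F u = 0) :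
    ∃ W₀ : Submodule F (Fin m ⊕ Fin m → F), finrank F W₀ = m ∧
      (∀ w ∈ W₀, quadFormPlus m F w = 0) ∧ U ≤ W₀ := by
  classical
  let E : Submodule F (Fin m ⊕ Fin m → F) :=
    LinearMap.ker (LinearMap.funLeft F F (Sum.inr : Fin m → Fin m ⊕ Fin m))
  have hE : ∀ v, v ∈ E ↔ ∀ i, v (Sum.inr i) = 0 := by
    intro v; simp [E, LinearMap.mem_ker, funext_iff, LinearMap.funLeft_apply]
  have hEd : finrank F E = m := by
    have h1 := LinearMap.finrank_range_add_finrank_ker
      (LinearMap.funLeft F F (Sum.inr : Fin m → Fin m ⊕ Fin m))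
    have h2 : LinearMap.range (LinearMap.funLeft F F (Sum.inr : Fin m → Fin m ⊕ Fin m)) = ⊤ :=
      LinearMap.range_eq_top.2 (LinearMap.funLeft_surjective_of_injective _ _ _ Sum.inr_injective)
    rw [h2, finrank_top] at h1
    simp at h1
    omega
  have hEQ : ∀ v ∈ E, plusForm m F v = 0 := by
    intro v hv
    show quadFormPlus m F v = 0
    unfold quadFormPlus
    exact Finset.sum_eq_zero (fun i _ => by rw [(hE v).1 hv i, mul_zero])
  let b := Module.finBasisOfFinrankEq F U (by omega : finrank F U = m - 1)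
  let ι : (Fin (m - 1) → F) →ₗ[F] (Fin m ⊕ Fin m → F) :=
    { toFun := fun x => Sum.elim (fun i : Fin m => if h : (i : ℕ) < m - 1 then x ⟨i, h⟩ else 0) 0
      map_add' := by
        intro x y; ext (i | i)
        · simp only [Sum.elim_inl, Pi.add_apply]; split_ifs <;> simp
        · simp
      map_smul' := by
        intro a x; ext (i | i)
        · simp only [Sum.elim_inl, Pi.smul_apply, RingHom.id_apply]; split_ifs <;> simp
        · simp }
  obtain ⟨f, hf⟩ := LinearMap.exists_extend (ι.comp b.equivFun.toLinearMap)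
  have hfU : ∀ u : U, f u = ι (b.equivFun u) := fun u => by
    have := LinearMap.congr_fun hf u; simpa using this
  have hfE : ∀ u ∈ U, f u ∈ E := by
    intro u hu; rw [hfU ⟨u, hu⟩, hE]; intro i; rfl
  have hinj : ∀ u ∈ U, f u = 0 → u = 0 := by
    intro u hu h0
    rw [hfU ⟨u, hu⟩] at h0
    have h1 : b.equivFun ⟨u, hu⟩ = 0 := by
      funext j
      have := congrFun h0 (Sum.inl ⟨j, by omega⟩)
      simpa [ι] using this
    have h2 := b.equivFun.map_eq_zero_iff.1 h1
    exact congrArg Subtype.val h2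
  obtain ⟨g, hg, hgU⟩ := S0750.main (plusForm m F) (plus_nondeg m) _ U f rfl
    (fun x hx => by rw [hEQ _ (hfE x hx)]; exact (hU x hx).symm) hinj
  obtain ⟨e, he⟩ := S0750.glob_equiv (plusForm m F) (plus_nondeg m) g hg
  refine ⟨E.map e.symm.toLinearMap, ?_, ?_, ?_⟩
  · rw [LinearEquiv.finrank_map_eq, hEd]
  · rintro w ⟨y, hy, rfl⟩
    have := hg (e.symm y)
    rw [← he, e.apply_symm_apply] at this
    show plusForm m F (e.symm y) = 0
    rw [← this]; exact hEQ y hy
  · intro u hu
    refine ⟨e u, ?_, by simp⟩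
    rw [SetLike.mem_coe, he, hgU u hu]; exact hfE u hu

end aux

/-- For the form Σ x_i y_i on F^(2m) over a finite field, m ≥ 1: an (m−1)-dimensional subspace on which the form vanishes is contained in exactly two m-dimensional subspaces on which it vanishes. -/
theorem result {F : Type*} [Field F] [Finite F] (m : ℕ) (hm : 1 ≤ m) (U : Submodule F (Fin m ⊕ Fin m → F)) (hU : Module.finrank F U + 1 = m ∧ ∀ u ∈ U, Cfsg.quadFormPlus m F u = 0) : Nat.card {W : Submodule F (Fin m ⊕ Fin m → F) // Module.finrank F W = m ∧ (∀ w ∈ W, Cfsg.quadFormPlus m F w = 0) ∧ U ≤ W} = 2 := by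
  obtain ⟨W₀, hW₀d, hW₀, hUW₀⟩ := exists_W0 m U hU.1 hU.2
  exact two_of_one (plusForm m F) (plus_nondeg m) m (by simp; omega) U W₀ hU.1 hU.2 hW₀d hW₀ hUW₀

end Cfsg.Agent.S0832
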