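import Cfsg.Statements.S0834
import Cfsg.Agent.Lib.helper18.Disc

set_option autoImplicit false
open Cfsg
open scoped TensorProduct

namespace Cfsg.Agent.S0834

/-- Over a finite field with 2 ≠ 0: if B₁ on U (dim 2k, k ≥ 1) and B₂ on W (dim 2l, l ≥ 1) are non-degenerate symmetric forms admitting no totally isotropic subspaces of dimensions k, resp. l (minus type), then B₁ ⊗ B₂ admits a totally isotropic subspace of dimension 2kl (plus type). -/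
theorem result {F U W : Type*} [Field F] [Fintype F] [AddCommGroup U] [Module F U] [FiniteDimensional F U] [AddCommGroup W] [Module F W] [FiniteDimensional F W] (h2 : (2 : F) ≠ 0) (B₁ : LinearMap.BilinForm F U) (B₂ : LinearMap.BilinForm F W) (h₁ : B₁.Nondegenerate) (h₂ : B₂.Nondegenerate) (hS₁ : B₁.IsSymm) (hS₂ : B₂.IsSymm) (k l : ℕ) (hk : 1 ≤ k) (hl : 1 ≤ l) (hU : Module.finrank F U = 2 * k) (hW : Module.finrank F W = 2 * l) (hm₁ : ¬ (∃ X : Submodule F (U), Module.finrank F X = k ∧ ∀ x ∈ X, ∀ y ∈ X, (B₁) x y = 0)) (hm₂ : ¬ (∃ X : Submodule F (W), Module.finrank F X = l ∧ ∀ x ∈ X, ∀ y ∈ X, (B₂) x y = 0)) : (∃ X : Submodule F (TensorProduct F U W), Module.finrank F X = 2 * k * l ∧ ∀ x ∈ X, ∀ y ∈ X, (B₁.tmul B₂) x y = 0) := by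
  classical
  letI : Invertible (2 : F) := invertibleOfNonzero h2
  obtain ⟨b₁, hb₁⟩ := LinearMap.BilinForm.exists_orthogonal_basis (LinearMap.BilinForm.isSymm_iff.mp hS₁)
  obtain ⟨b₂, hb₂⟩ := LinearMap.BilinForm.exists_orthogonal_basis (LinearMap.BilinForm.isSymm_iff.mp hS₂)
  have ho₁ : ∀ i j, i ≠ j → B₁ (b₁ i) (b₁ j) = 0 := fun i j hij => hb₁ hij
  have ho₂ : ∀ i j, i ≠ j → B₂ (b₂ i) (b₂ j) = 0 := fun i j hij => hb₂ hij
  have hn₁ : ∀ i, B₁ (b₁ i) (b₁ i) ≠ 0 := fun i =>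
    LinearMap.BilinForm.iIsOrtho.not_isOrtho_basis_self_of_nondegenerate hb₁ h₁ i
  have hn₂ : ∀ i, B₂ (b₂ i) (b₂ i) ≠ 0 := fun i =>
    LinearMap.BilinForm.iIsOrtho.not_isOrtho_basis_self_of_nondegenerate hb₂ h₂ i
  let b := b₁.tensorProduct b₂
  have hb : ∀ p, b p = b₁ p.1 ⊗ₜ[F] b₂ p.2 := fun p => Module.Basis.tensorProduct_apply' b₁ b₂ p
  have hB : ∀ p q, (B₁.tmul B₂) (b p) (b q)
      = B₂ (b₂ p.2) (b₂ q.2) * B₁ (b₁ p.1) (b₁ q.1) := by
    intro p q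
    rw [hb, hb]
    rfl
  have hortho : ∀ p q, p ≠ q → (B₁.tmul B₂) (b p) (b q) = 0 := by
    intro p q hpq
    rw [hB]
    by_cases h1 : p.1 = q.1
    · have h2' : p.2 ≠ q.2 := fun h => hpq (Prod.ext h1 h)
      rw [ho₂ _ _ h2', zero_mul]
    · rw [ho₁ _ _ h1, mul_zero]
  have hne : ∀ p, (B₁.tmul B₂) (b p) (b p) ≠ 0 := fun p => by
    rw [hB]; exact mul_ne_zero (hn₂ _) (hn₁ _)
  obtain ⟨P₁, hP₁⟩ : ∃ P, P = ∏ i, B₁ (b₁ i) (b₁ i) := ⟨_, rfl⟩
  obtain ⟨P₂, hP₂⟩ : ∃ P, P = ∏ i, B₂ (b₂ i) (b₂ i) := ⟨_, rfl⟩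
  have hprod : ∏ p, (B₁.tmul B₂) (b p) (b p)
      = P₁ ^ (Module.finrank F W) * P₂ ^ (Module.finrank F U) := by
    simp only [hB]
    rw [Fintype.prod_prod_type]
    simp only [Finset.prod_mul_distrib, Finset.prod_const, Finset.card_univ, Fintype.card_fin,
      Finset.prod_pow]
    rw [← hP₁, ← hP₂]
    ring
  have hcard : Fintype.card (Fin (Module.finrank F U) × Fin (Module.finrank F W))
      = 2 * (2 * k * l) := by
    simp only [Fintype.card_prod, Fintype.card_fin, hU, hW]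
    ring
  have hone : (-1 : F) ^ (2 * k * l) = 1 := by
    rw [mul_assoc, pow_mul]
    simp
  exact Cfsg.Agent.Lib.helper18.exists_totallyIsotropic_of_isSquare h2 b (B₁.tmul B₂) hortho hne
    (2 * k * l) hcard ⟨P₁ ^ l * P₂ ^ k, by rw [hprod, hone, hU, hW]; ring⟩

end Cfsg.Agent.S0834
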