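import Cfsg.Statements.S0836
import Mathlib

set_option autoImplicit false
open Cfsg
open scoped commutatorElement

namespace Cfsg.Agent.S0836

lemma comm_of_mul_eq {G : Type*} [Group G] (g h t : G) (H : g * h = t * h * g) : ⁅g, h⁆ = t := by
  rw [commutatorElement_def, H]; group

/-- For i ≠ j and any scalar c, the elementary transvection 1 + c E_ij is a commutator ⁅g, h⁆ of two elements of SL_n(F) provided n ≥ 3, or n = 2 and F contains x ≠ 0 with x² ≠ 1. -/
theorem result {F : Type*} [Field F] (n : ℕ) (hn : 3 ≤ n ∨ (n = 2 ∧ ∃ x : F, x ≠ 0 ∧ x ^ 2 ≠ 1)) (i j : Fin n) (hij : i ≠ j) (c : F) (t : Matrix.SpecialLinearGroup (Fin n) F) (ht : (t : Matrix (Fin n) (Fin n) F) = Matrix.transvection i j c) : t ∈ commutatorSet (Matrix.SpecialLinearGroup (Fin n) F) := by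
  rw [mem_commutatorSet_iff]
  rcases hn with hn | ⟨rfl, x, hx0, hx1⟩
  · -- n ≥ 3: pick k different from i and j
    obtain ⟨k, hki, hkj⟩ : ∃ k : Fin n, k ≠ i ∧ k ≠ j := by
      by_contra hcon
      push Not at hcon
      have hsub : (Finset.univ : Finset (Fin n)) ⊆ {i, j} := by
        intro k _
        by_cases hk : k = i
        · simp [hk]
        · simp [hcon k hk]
      have := Finset.card_le_card hsub
      have h2 : ({i, j} : Finset (Fin n)).card ≤ 2 := Finset.card_le_two
      simp only [Finset.card_univ, Fintype.card_fin] at this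
      omega
    let g₁ : Matrix.SpecialLinearGroup (Fin n) F :=
      ⟨Matrix.transvection i k c, Matrix.det_transvection_of_ne i k (Ne.symm hki) c⟩
    let g₂ : Matrix.SpecialLinearGroup (Fin n) F :=
      ⟨Matrix.transvection k j 1, Matrix.det_transvection_of_ne k j hkj 1⟩
    refine ⟨g₁, g₂, comm_of_mul_eq _ _ _ ?_⟩
    apply Subtype.ext
    simp only [Matrix.SpecialLinearGroup.coe_mul, ht]
    show Matrix.transvection i k c * Matrix.transvection k j 1
      = Matrix.transvection i j c * Matrix.transvection k j 1 * Matrix.transvection i k c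
    have e1 : Matrix.single i j c * Matrix.single k j (1 : F) = 0 :=
      Matrix.single_mul_single_of_ne c i j k hkj.symm 1
    have e2 : Matrix.single k j (1 : F) * Matrix.single i k c = 0 :=
      Matrix.single_mul_single_of_ne 1 k j i hij.symm c
    have e3 : Matrix.single i j c * Matrix.single i k c = 0 :=
      Matrix.single_mul_single_of_ne c i j i hij.symm c
    simp only [Matrix.transvection, mul_add, add_mul, mul_one, one_mul,
      Matrix.single_mul_single_same, e1, e2, e3, add_zero, zero_mul, Matrix.zero_mul]
    abel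
  · -- n = 2
    have hx1' : x ^ 2 - 1 ≠ 0 := sub_ne_zero.mpr hx1
    set b : F := c / (x ^ 2 - 1) with hb
    have hbx : b * x ^ 2 = b + c := by
      rw [hb]; field_simp; ring
    let d : Fin 2 → F := fun a => if a = i then x else x⁻¹
    have hdet : (Matrix.diagonal d).det = 1 := by
      rw [Matrix.det_diagonal, Fin.prod_univ_two]
      fin_cases i <;> fin_cases j <;> simp [d, hx0] at hij ⊢
    let g₁ : Matrix.SpecialLinearGroup (Fin 2) F := ⟨Matrix.diagonal d, hdet⟩
    let g₂ : Matrix.SpecialLinearGroup (Fin 2) F :=
      ⟨Matrix.transvection i j b, Matrix.det_transvection_of_ne i j hij b⟩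
    refine ⟨g₁, g₂, comm_of_mul_eq _ _ _ ?_⟩
    apply Subtype.ext
    simp only [Matrix.SpecialLinearGroup.coe_mul, ht]
    show Matrix.diagonal d * Matrix.transvection i j b
      = Matrix.transvection i j c * Matrix.transvection i j b * Matrix.diagonal d
    rw [Matrix.transvection_mul_transvection_same i j hij]
    simp only [Matrix.transvection, mul_add, add_mul, mul_one, one_mul]
    congr 1
    have hdi : d i = x := by simp [d]
    have hdj : d j = x⁻¹ := by simp [d, hij.symm]
    ext a e
    simp only [Matrix.diagonal_mul, Matrix.mul_diagonal, Matrix.single_apply]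
    by_cases h1 : i = a <;> by_cases h2 : j = e
    · subst h1; subst h2
      simp only [and_self, if_true, hdi, hdj]
      have : x * b = (c + b) * x⁻¹ := by
        field_simp
        rw [add_comm c b, ← hbx]; ring
      rw [this]
    · simp [h1, h2]
    · simp [h1, h2]
    · simp [h1, h2]

end Cfsg.Agent.S0836
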