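import Cfsg.Statements.S0838
import Cfsg.Agent.Lib.helper18.DiagForms

set_option autoImplicit false
open Cfsg

namespace Cfsg.Agent.S0838

/-- Over a finite field with 2 ≠ 0 and n odd: two quadratic forms Q₁, Q₂ on F^n with non-degenerate polar forms are similar — there are an invertible linear map g and a scalar c ≠ 0 with Q₂ (g v) = c · Q₁ v for all v. -/
theorem result {F : Type*} [Field F] [Fintype F] (h2 : (2 : F) ≠ 0) {n : ℕ} (hn : Odd n) (Q₁ Q₂ : QuadraticForm F (Fin n → F)) (h₁ : (QuadraticMap.polarBilin Q₁).Nondegenerate) (h₂ : (QuadraticMap.polarBilin Q₂).Nondegenerate) : ∃ (g : (Fin n → F) ≃ₗ[F] (Fin n → F)) (c : F), c ≠ 0 ∧ ∀ v, Q₂ (g v) = c * Q₁ v := by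
  classical
  haveI : Invertible (2 : F) := invertibleOfNonzero h2
  have hsep : ∀ Q : QuadraticForm F (Fin n → F), (QuadraticMap.polarBilin Q).Nondegenerate →
      (QuadraticMap.associated (R := F) Q).SeparatingLeft := by
    intro Q hQ x hx
    apply hQ.1 x
    intro y
    have := hx y
    rw [← QuadraticMap.two_nsmul_associated (S := F)]
    simp only [LinearMap.smul_apply]
    rw [show (QuadraticMap.associatedHom F Q) x y = 0 from this]
    simp
  obtain ⟨w₁, ⟨e₁⟩⟩ :=
    QuadraticForm.equivalent_weightedSumSquares_units_of_nondegenerate' Q₁ (hsep Q₁ h₁)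
  obtain ⟨w₂, ⟨e₂⟩⟩ :=
    QuadraticForm.equivalent_weightedSumSquares_units_of_nondegenerate' Q₂ (hsep Q₂ h₂)
  have hcard : Odd (Fintype.card (Fin (Module.finrank F (Fin n → F)))) := by
    simpa using hn
  obtain ⟨g, c, hc, hg⟩ := Cfsg.Agent.Lib.helper18.diag_similar h2 hcard
    (fun k => (w₁ k : F)) (fun k => (w₂ k : F)) (fun k => (w₁ k).ne_zero) (fun k => (w₂ k).ne_zero)
  refine ⟨(e₁.toLinearEquiv.trans g).trans e₂.toLinearEquiv.symm, c, hc, fun v => ?_⟩
  have h1 : Q₁ v = ∑ k, (w₁ k : F) * (e₁ v k) ^ 2 := by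
    rw [← e₁.map_app v, QuadraticMap.weightedSumSquares_apply]
    apply Finset.sum_congr rfl
    intro k _
    rw [Units.smul_def, smul_eq_mul, sq]
  have h2' : ∀ u, Q₂ (e₂.symm u) = ∑ k, (w₂ k : F) * (u k) ^ 2 := by
    intro u
    have := e₂.map_app (e₂.symm u)
    rw [e₂.apply_symm_apply] at this
    rw [← this, QuadraticMap.weightedSumSquares_apply]
    apply Finset.sum_congr rfl
    intro k _
    rw [Units.smul_def, smul_eq_mul, sq]
  have e3 : ((e₁.toLinearEquiv.trans g).trans e₂.toLinearEquiv.symm) v = e₂.symm (g (e₁ v)) := rfl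
  rw [e3, h2', hg, h1]

end Cfsg.Agent.S0838
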