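import Cfsg.Statements.S0845
import Cfsg.Agent.Lib.helper18.BrauerSuzuki2

set_option autoImplicit false
open Cfsg

namespace Cfsg.Agent.S0845

/-- Suppose a Sylow 2-subgroup S of the finite group G is generalized quaternion of order at least 16. Then G has a normal subgroup M of even order such that G / M is non-abelian, that is, M does not contain the commutator subgroup of G. -/
theorem result {G : Type*} [Group G] [Finite G] (S : Sylow 2 G) (n : ℕ) (e : (S : Subgroup G) ≃* QuaternionGroup (2 ^ (n + 2))) : ∃ M : Subgroup G, M.Normal ∧ Even (Nat.card M) ∧ ¬ commutator G ≤ M := by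
  classical
  have : Fintype G := Fintype.ofFinite G
  obtain ⟨χ₁, χ₂, h₁, h₂, -, -, hdeg, -, hker⟩ :=
    Cfsg.Agent.Lib.helper18.quat_exceptional_ker S n e
  obtain ⟨M, hMn, hM⟩ := Cfsg.Agent.Lib.helper82.exists_ker_of_isCharacter
    (Cfsg.Agent.Lib.helper4.isCharacter_of_isIrrCharacter h₁)
  refine ⟨M, hMn, ?_, ?_⟩
  · obtain ⟨t, -, ht⟩ := Cfsg.Agent.Lib.helper18.quat_exists_involution S n e
    have htM : t ∈ M := (hM t).mpr (hker t ht).1
    have hdvd : orderOf t ∣ Nat.card M := by
      have := orderOf_dvd_natCard (⟨t, htM⟩ : M)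
      rwa [Subgroup.orderOf_mk] at this
    rw [ht] at hdvd
    exact even_iff_two_dvd.mpr hdvd
  · intro hle
    have hlin : χ₁ 1 = 1 :=
      (Cfsg.Agent.Lib.helper82.irr_linear_iff h₁).mpr (fun x hx => (hM x).mp (hle hx))
    obtain ⟨m, hm, em⟩ := Cfsg.Agent.Lib.helper4.exists_pos_nat_degree h₂
    rw [hdeg, em] at hlin
    have h : ((m + 1 : ℕ) : ℂ) = ((1 : ℕ) : ℂ) := by
      push_cast
      exact hlin
    have := Nat.cast_injective h
    omega

end Cfsg.Agent.S0845
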