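import Cfsg.Statements.S0848
import Cfsg.Agent.Lib.helper11.D8Iso

set_option autoImplicit false
open Cfsg

namespace Cfsg.Agent.S0848

open Cfsg.Agent.Lib.helper11.D8Cent Cfsg.Agent.Lib.helper11.FourCent DihedralGroup

/-- A perfect group has no subgroup of index `2`. -/
theorem index_ne_two_of_perfect {G : Type*} [Group G] (hperf : commutator G = ⊤)
    (H : Subgroup G) : H.index ≠ 2 := by
  intro h
  haveI : H.Normal := Subgroup.normal_of_index_eq_two h
  have hcard : Nat.card (G ⧸ H) = 2 := h
  haveI : Fact (Nat.Prime 2) := ⟨Nat.prime_two⟩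
  haveI : IsCyclic (G ⧸ H) := isCyclic_of_prime_card hcard
  letI : CommGroup (G ⧸ H) := IsCyclic.commGroup
  have h1 : commutator G ≤ (QuotientGroup.mk' H).ker := Abelianization.commutator_subset_ker _
  rw [hperf, QuotientGroup.ker_mk'] at h1
  have h2 : H = ⊤ := top_le_iff.mp h1
  rw [h2, Subgroup.index_top] at h
  omega

/-- An isomorphism of the centralizer of an involution `t` onto the dihedral group of order `8`
gives the structure `DC`. -/
theorem exists_dc {G : Type*} [Group G] (t : G) (ht1 : t ≠ 1)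
    (e : Subgroup.centralizer ({t} : Set G) ≃* DihedralGroup 4) :
    ∃ ψ : DihedralGroup 4 →* G, DC t ψ := by
  let ψ : DihedralGroup 4 →* G := (Subgroup.subtype _).comp e.symm.toMonoidHom
  have hψ : ∀ d, ψ d = ((e.symm d : Subgroup.centralizer ({t} : Set G)) : G) := fun d => rfl
  refine ⟨ψ, ?_, ?_, ?_⟩
  · intro d d' h
    rw [hψ, hψ] at h
    exact e.symm.injective (Subtype.ext h)
  · intro x hx
    refine ⟨e ⟨x, mem_cent.mpr hx⟩, ?_⟩
    rw [hψ, MulEquiv.symm_apply_apply]
  · obtain ⟨A, hA⟩ : ∃ A : Subgroup.centralizer ({t} : Set G), (A : G) = t :=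
      ⟨⟨t, mem_cent.mpr rfl⟩, rfl⟩
    have hAc : ∀ z : Subgroup.centralizer ({t} : Set G), A * z = z * A := by
      intro z
      apply Subtype.ext
      rw [Subgroup.coe_mul, Subgroup.coe_mul, hA]
      exact (mem_cent.mp z.2).symm
    have hcen : ∀ d' : DihedralGroup 4, e A * d' = d' * e A := by
      intro d'
      have h4 := congrArg e (hAc (e.symm d'))
      rwa [map_mul, map_mul, MulEquiv.apply_symm_apply] at h4
    have hd1 : e A ≠ 1 := by
      intro h
      have h6 : A = 1 := e.injective (by rw [h, map_one])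
      apply ht1
      rw [← hA, h6]; rfl
    have key : ∀ d : DihedralGroup 4, (∀ d', d * d' = d' * d) → d ≠ 1 → d = r 2 := by decide
    have hd2 := key (e A) hcen hd1
    rw [hψ, ← hd2, MulEquiv.symm_apply_apply, hA]

/-- If a finite group equals its own commutator subgroup and contains an involution whose centralizer is isomorphic to the dihedral group of order 8, then the group has order 168 or 360. -/
theorem result {G : Type*} [Group G] [Finite G] (hperf : commutator G = ⊤) (t : G) (ht : orderOf t = 2) (e : Subgroup.centralizer ({t} : Set G) ≃* DihedralGroup 4) : Nat.card G = 168 ∨ Nat.card G = 360 := by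
  have ht1 : t ≠ 1 := by
    intro h
    rw [h, orderOf_one] at ht
    omega
  obtain ⟨ψ, hψ⟩ := exists_dc t ht1 e
  have hC8 : Nat.card (Subgroup.centralizer ({t} : Set G)) = 2 ^ 3 := by
    rw [Nat.card_congr e.toEquiv, DihedralGroup.nat_card]; norm_num
  haveI : Fact (Nat.Prime 2) := ⟨Nat.prime_two⟩
  obtain ⟨S, hS⟩ := (IsPGroup.of_card hC8).exists_le_sylow
  have htS : t ∈ (S : Subgroup G) := hS (mem_cent.mpr rfl)
  -- `t` is central in `S`
  have hcen : ∀ s ∈ (S : Subgroup G), s * t = t * s := by
    haveI : Nontrivial (S : Subgroup G) := ⟨⟨⟨t, htS⟩, 1, fun h => ht1 (congrArg Subtype.val h)⟩⟩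
    haveI := IsPGroup.center_nontrivial (p := 2) (G := (S : Subgroup G)) S.isPGroup'
    obtain ⟨⟨z, hz⟩, hz1⟩ := exists_ne (1 : Subgroup.center (S : Subgroup G))
    have hz1' : (z : G) ≠ 1 := by
      intro h
      apply hz1
      apply Subtype.ext
      apply Subtype.ext
      exact h
    have hzc : ∀ s ∈ (S : Subgroup G), s * (z : G) = (z : G) * s := by
      intro s hs
      have h1 := Subgroup.mem_center_iff.mp hz ⟨s, hs⟩
      exact congrArg Subtype.val h1
    have hzt : (z : G) * t = t * (z : G) := (hzc t htS).symm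
    obtain ⟨d, hd⟩ := hψ.mem (z : G) hzt
    have hdc : ∀ d' : DihedralGroup 4, d * d' = d' * d := by
      intro d'
      apply hψ.inj
      rw [map_mul, map_mul, hd]
      exact (hzc (ψ d') (hS (mem_cent.mpr (hψ.comm d')))).symm
    have hd1 : d ≠ 1 := by
      intro h
      rw [h, map_one] at hd
      exact hz1' hd.symm
    have key : ∀ d : DihedralGroup 4, (∀ d', d * d' = d' * d) → d ≠ 1 → d = r 2 := by decide
    have hd2 := key d hdc hd1
    rw [hd2, hψ.ha] at hd
    intro s hs
    rw [hd]
    exact hzc s hs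
  have H : D8H t ψ := ⟨hψ, hψ.conj_of_transfer (index_ne_two_of_perfect hperf) S hcen⟩
  classical
  have := Fintype.ofFinite G
  rw [Nat.card_eq_fintype_card]
  rcases H.main with ⟨hn, -⟩ | ⟨hn, -⟩
  · exact Or.inl hn
  · exact Or.inr hn

end Cfsg.Agent.S0848
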