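-- Statement S0849: induced class function summed over products of conjugates of two involutions.
import Cfsg.Statements.S0849
import Mathlib

set_option autoImplicit false
open Cfsg

namespace Cfsg.Agent.S0849

theorem ext_mem {G : Type*} [Group G] (H : Subgroup G) (φ : H → ℂ) (h : H) :
    Cfsg.extendByZero H φ (h : G) = φ h := by
  unfold Cfsg.extendByZero
  exact Subtype.val_injective.extend_apply φ 0 h

theorem ext_not_mem {G : Type*} [Group G] (H : Subgroup G) (φ : H → ℂ) (g : G) (hg : g ∉ H) :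
    Cfsg.extendByZero H φ g = 0 := by
  unfold Cfsg.extendByZero
  rw [Function.extend_apply']
  · rfl
  · rintro ⟨a, rfl⟩
    exact hg a.2

theorem sq_one_of_conj {G : Type*} [Group G] (u a : G) (hu : orderOf u = 2) (h : IsConj u a) :
    a * a = 1 := by
  obtain ⟨c, hc⟩ := isConj_iff.mp h
  have hu2 : u * u = 1 := by
    have := pow_orderOf_eq_one u
    rw [hu, pow_two] at this
    exact this
  rw [← hc]
  calc c * u * c⁻¹ * (c * u * c⁻¹) = c * (u * u) * c⁻¹ := by group
    _ = 1 := by rw [hu2]; group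

/-- Let H be a subgroup of a finite group G and S a subset of H that is mapped to itself under conjugation by H, is disjoint from its conjugate by any element outside H, and is closed under inverses. Let φ be a class function of H vanishing on H away from S, and let u, v be involutions of G. Then the sum of the induced function of φ over all products a * b with a conjugate to u and b conjugate to v equals the index of H times the sum of φ (a * b) over such pairs with a and b in H. -/
theorem result {G : Type*} [Group G] [Fintype G] (H : Subgroup G) (S : Set G) (hSH : S ⊆ H) (hHS : ∀ h ∈ H, ∀ s ∈ S, h * s * h⁻¹ ∈ S) (hTI : ∀ g : G, g ∉ H → ∀ s ∈ S, g * s * g⁻¹ ∉ S) (hinv : ∀ s ∈ S, s⁻¹ ∈ S) (φ : H → ℂ) (hφ : Cfsg.IsClassFunction H φ) (hφS : ∀ x : H, (x : G) ∉ S → φ x = 0) (u v : G) (hu : orderOf u = 2) (hv : orderOf v = 2) : ∑ᶠ p ∈ {p : G × G | IsConj u p.1 ∧ IsConj v p.2}, Cfsg.indFun H φ (p.1 * p.2) = (H.index : ℂ) * ∑ᶠ p ∈ {p : H × H | IsConj u (p.1 : G) ∧ IsConj v (p.2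 : G)}, φ (p.1 * p.2) := by
  classical
  set T : Set (G × G) := {p : G × G | IsConj u p.1 ∧ IsConj v p.2} with hTdef
  set TH : Set (H × H) := {p : H × H | IsConj u (p.1 : G) ∧ IsConj v (p.2 : G)} with hTHdef
  set E := Cfsg.extendByZero H φ with hE
  have hT : ∀ f : G × G → ℂ, ∑ᶠ p ∈ T, f p = ∑ p ∈ Finset.univ.filter (· ∈ T), f p := by
    intro f
    rw [finsum_mem_eq_finite_toFinset_sum f (Set.toFinite T)]
    apply Finset.sum_congr _ (fun _ _ => rfl)
    ext p; simp [hTdef]
  have hTH : ∀ f : H × H → ℂ, ∑ᶠ p ∈ TH, f p = ∑ p ∈ Finset.univ.filter (· ∈ TH), f p := by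
    intro f
    rw [finsum_mem_eq_finite_toFinset_sum f (Set.toFinite TH)]
    apply Finset.sum_congr _ (fun _ _ => rfl)
    ext p; simp [hTHdef]
  rw [hT, hTH]
  -- Step 1: conjugation invariance of the sum
  have step1 : ∀ x : G, ∑ p ∈ Finset.univ.filter (· ∈ T), E (x⁻¹ * (p.1 * p.2) * x)
      = ∑ p ∈ Finset.univ.filter (· ∈ T), E (p.1 * p.2) := by
    intro x
    apply Finset.sum_equiv (Equiv.prodCongr (MulAut.conj x⁻¹).toEquiv (MulAut.conj x⁻¹).toEquiv)
    · intro p
      simp only [Finset.mem_filter, Finset.mem_univ, true_and, hTdef, Set.mem_ofPred_eq,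
        Equiv.prodCongr_apply, Prod.map_fst, Prod.map_snd, MulEquiv.toEquiv_eq_coe,
        EquivLike.coe_coe, MulAut.conj_apply, inv_inv]
      constructor
      · rintro ⟨h1, h2⟩
        exact ⟨h1.trans (isConj_iff.mpr ⟨x⁻¹, by simp⟩), h2.trans (isConj_iff.mpr ⟨x⁻¹, by simp⟩)⟩
      · rintro ⟨h1, h2⟩
        exact ⟨h1.trans (isConj_iff.mpr ⟨x, by group⟩), h2.trans (isConj_iff.mpr ⟨x, by group⟩)⟩
    · intro p _
      simp only [Equiv.prodCongr_apply, Prod.map_fst, Prod.map_snd, MulEquiv.toEquiv_eq_coe,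
        EquivLike.coe_coe, MulAut.conj_apply, inv_inv]
      congr 1
      group
  -- Step 2: the sum of E over T equals the sum of φ over TH
  have step2 : ∑ p ∈ Finset.univ.filter (· ∈ TH), φ (p.1 * p.2)
      = ∑ p ∈ Finset.univ.filter (· ∈ T), E (p.1 * p.2) := by
    apply Finset.sum_of_injOn (fun q : H × H => ((q.1 : G), (q.2 : G)))
    · intro a _ b _ hab
      simp only [Prod.mk.injEq] at hab
      exact Prod.ext (Subtype.ext hab.1) (Subtype.ext hab.2)
    · intro q hq
      simpa [hTdef, hTHdef] using hq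
    · intro p hp hnot
      simp only [Finset.coe_filter, Finset.mem_univ, true_and, Set.mem_ofPred_eq, hTdef,
        Finset.mem_filter] at hp
      by_contra hne
      apply hnot
      -- p.1 * p.2 ∈ S
      have hmemH : p.1 * p.2 ∈ H := by
        by_contra hnm
        exact hne (ext_not_mem H φ _ hnm)
      have hφne : φ ⟨p.1 * p.2, hmemH⟩ ≠ 0 := by
        have := ext_mem H φ ⟨p.1 * p.2, hmemH⟩
        rw [← this]; exact hne
      have hS : p.1 * p.2 ∈ S := by
        by_contra hnS
        exact hφne (hφS ⟨p.1 * p.2, hmemH⟩ hnS)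
      have ha2 : p.1 * p.1 = 1 := sq_one_of_conj u p.1 hu hp.1
      have hb2 : p.2 * p.2 = 1 := sq_one_of_conj v p.2 hv hp.2
      have hainv : p.1⁻¹ = p.1 := inv_eq_of_mul_eq_one_left ha2
      have hbinv : p.2⁻¹ = p.2 := inv_eq_of_mul_eq_one_left hb2
      have hconj : p.1 * (p.1 * p.2) * p.1⁻¹ = (p.1 * p.2)⁻¹ := by
        rw [mul_inv_rev, hainv, hbinv, ← mul_assoc, ha2, one_mul]
      have haH : p.1 ∈ H := by
        by_contra hna
        apply hTI p.1 hna _ hS
        rw [hconj]
        exact hinv _ hS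
      have hbH : p.2 ∈ H := by
        have : p.2 = p.1⁻¹ * (p.1 * p.2) := by group
        rw [this]
        exact H.mul_mem (H.inv_mem haH) hmemH
      refine ⟨(⟨p.1, haH⟩, ⟨p.2, hbH⟩), ?_, rfl⟩
      simp only [Finset.coe_filter, Finset.mem_univ, true_and, Set.mem_ofPred_eq, hTHdef]
      exact hp
    · intro q _
      have := ext_mem H φ (q.1 * q.2)
      simp only [Subgroup.coe_mul] at this
      rw [hE, this]
  -- Assemble
  have hindex : (H.index : ℂ) = (Nat.card H : ℂ)⁻¹ * (Fintype.card G : ℂ) := by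
    have h1 := Subgroup.index_mul_card H
    have hne : (Nat.card H : ℂ) ≠ 0 := by
      exact_mod_cast Nat.card_pos.ne'
    rw [eq_inv_mul_iff_mul_eq₀ hne, ← Nat.card_eq_fintype_card]
    rw [mul_comm]
    exact_mod_cast h1
  calc ∑ p ∈ Finset.univ.filter (· ∈ T), Cfsg.indFun H φ (p.1 * p.2)
      = ∑ p ∈ Finset.univ.filter (· ∈ T), (Nat.card H : ℂ)⁻¹ * ∑ x : G, E (x⁻¹ * (p.1 * p.2) * x) := rfl
    _ = (Nat.card H : ℂ)⁻¹ * ∑ x : G, ∑ p ∈ Finset.univ.filter (· ∈ T), E (x⁻¹ * (p.1 * p.2) * x) := by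
        rw [← Finset.mul_sum, Finset.sum_comm]
    _ = (Nat.card H : ℂ)⁻¹ * ∑ x : G, ∑ p ∈ Finset.univ.filter (· ∈ T), E (p.1 * p.2) := by
        congr 1
        exact Finset.sum_congr rfl (fun x _ => step1 x)
    _ = (H.index : ℂ) * ∑ p ∈ Finset.univ.filter (· ∈ TH), φ (p.1 * p.2) := by
        rw [Finset.sum_const, Finset.card_univ, step2, hindex, nsmul_eq_mul, mul_assoc]

end Cfsg.Agent.S0849
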