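-- Statement S0850
import Cfsg.Statements.S0850
import Cfsg.Agent.Lib.helper19.LinChar
import Mathlib

set_option autoImplicit false
open Cfsg

namespace Cfsg.Agent.S0850

open Cfsg.Agent.Lib.helper19

/-- A `p`-element normalizing `K` lies in `K` when `p` divides `|K|` and `K` contains the
centralizers of its non-identity elements. -/
theorem pelement_mem {G : Type*} [Group G] [Finite G] (K : Subgroup G)
    (hC : ∀ k ∈ K, k ≠ 1 → Subgroup.centralizer ({k} : Set G) ≤ K) (p : ℕ) (hp : p.Prime)
    (hpK : p ∣ Nat.card K) (y : G) (hy : y ∈ Subgroup.normalizer (K : Set G)) (j : ℕ)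
    (hyj : y ^ p ^ j = 1) : y ∈ K := by
  classical
  have : Fact p.Prime := ⟨hp⟩
  have hpg : IsPGroup p (Subgroup.zpowers y) := by
    rintro ⟨g, hg⟩
    obtain ⟨k, rfl⟩ := Subgroup.mem_zpowers_iff.mp hg
    refine ⟨j, Subtype.ext ?_⟩
    show (y ^ k) ^ p ^ j = 1
    rw [← zpow_natCast, ← zpow_mul, mul_comm, zpow_mul, zpow_natCast, hyj, one_zpow]
  have hnorm : ∀ t : Subgroup.zpowers y, ∀ k : K, (t : G) * (k : G) * (t : G)⁻¹ ∈ K := by
    intro t k
    have ht : (t : G) ∈ Subgroup.normalizer (K : Set G) :=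
      (Subgroup.zpowers_le.mpr hy) t.2
    exact (Subgroup.mem_normalizer_iff.mp ht (k : G)).mp k.2
  let act : MulAction (Subgroup.zpowers y) K :=
    { smul := fun t k => ⟨(t : G) * (k : G) * (t : G)⁻¹, hnorm t k⟩
      one_smul := by
        intro k
        apply Subtype.ext
        show ((1 : Subgroup.zpowers y) : G) * (k : G) * ((1 : Subgroup.zpowers y) : G)⁻¹ = _
        simp
      mul_smul := by
        intro s t k
        apply Subtype.ext
        show ((s * t : Subgroup.zpowers y) : G) * (k : G) * ((s * t : Subgroup.zpowers y) : G)⁻¹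
          = (s : G) * ((t : G) * (k : G) * (t : G)⁻¹) * (s : G)⁻¹
        simp only [Subgroup.coe_mul]
        group }
  have h1fix : (1 : K) ∈ MulAction.fixedPoints (Subgroup.zpowers y) K := by
    intro t
    apply Subtype.ext
    show (t : G) * ((1 : K) : G) * (t : G)⁻¹ = ((1 : K) : G)
    simp
  obtain ⟨b, hb, hb1⟩ := hpg.exists_fixed_point_of_prime_dvd_card_of_fixed_point K hpK h1fix
  have hyb : y * (b : G) * y⁻¹ = (b : G) := by
    have := hb ⟨y, Subgroup.mem_zpowers y⟩
    exact congrArg Subtype.val this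
  have hbne : (b : G) ≠ 1 := by
    intro h
    apply hb1
    apply Subtype.ext
    rw [h]; rfl
  apply hC (b : G) b.2 hbne
  rw [Subgroup.mem_centralizer_iff]
  intro h hh
  rw [Set.mem_singleton_iff] at hh
  rw [hh]
  calc (b : G) * y = y * (b : G) * y⁻¹ * y := by rw [hyb]
    _ = y * (b : G) := by group

/-- An element of the normalizer whose order divides `|K|` lies in `K`. -/
theorem mem_of_orderOf_dvd {G : Type*} [Group G] [Finite G] (K : Subgroup G)
    (hC : ∀ k ∈ K, k ≠ 1 → Subgroup.centralizer ({k} : Set G) ≤ K)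
    (x : G) (hx : x ∈ Subgroup.normalizer (K : Set G)) (hord : orderOf x ∣ Nat.card K) :
    x ∈ K := by
  classical
  set N := Subgroup.normalizer (K : Set G) with hN
  set KN := K.subgroupOf N with hKN
  set xN : N := ⟨x, hx⟩ with hxN
  set m := orderOf (QuotientGroup.mk xN : N ⧸ KN) with hm
  by_cases hm1 : m = 1
  · have h1 : (QuotientGroup.mk xN : N ⧸ KN) = 1 := orderOf_eq_one_iff.mp hm1
    have h2 : xN ∈ KN := (QuotientGroup.eq_one_iff xN).mp h1
    rw [hKN, Subgroup.mem_subgroupOf] at h2
    exact h2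
  · exfalso
    obtain ⟨p, hp, hpm⟩ := Nat.exists_prime_and_dvd hm1
    have hmx : m ∣ orderOf x := by
      have h1 : orderOf xN = orderOf x := Subgroup.orderOf_mk x hx
      rw [← h1]
      exact orderOf_map_dvd (QuotientGroup.mk' KN) xN
    have hpK : p ∣ Nat.card K := (hpm.trans hmx).trans hord
    obtain ⟨a, r, hr, ho⟩ := Nat.exists_eq_pow_mul_and_not_dvd (orderOf_pos x).ne' p hp.ne_one
    have hxr : (x ^ r) ^ p ^ a = 1 := by
      rw [← pow_mul, mul_comm, ← ho, pow_orderOf_eq_one]
    have hxrK : x ^ r ∈ K :=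
      pelement_mem K hC p hp hpK (x ^ r) (N.pow_mem hx r) a hxr
    have h3 : (QuotientGroup.mk xN : N ⧸ KN) ^ r = 1 := by
      rw [← QuotientGroup.mk_pow, QuotientGroup.eq_one_iff, hKN, Subgroup.mem_subgroupOf]
      exact hxrK
    have h4 : m ∣ r := orderOf_dvd_of_pow_eq_one h3
    exact hr (hpm.trans h4)

theorem ind_eq {G : Type*} [Group G] [Fintype G] (K N : Subgroup G)
    (hTI : ∀ g : G, g ∉ N → ∀ k ∈ K, g * k * g⁻¹ ∈ K → k = 1)
    (part1 : ∀ x ∈ N, x ∉ K → ∀ g : G, g * x * g⁻¹ ∉ K)
    (ϑ : N → ℂ) (hcl : Cfsg.IsClassFunction N ϑ) (hvan : ∀ x : N, (x : G) ∉ K → ϑ x = 0)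
    (h1 : ϑ 1 = 0) (x : N) : Cfsg.indFun N ϑ x = ϑ x := by
  classical
  rw [indFun_apply]
  by_cases hxK : (x : G) ∈ K
  · by_cases hx1 : x = 1
    · subst hx1
      have : ∀ y : G, Cfsg.extendByZero N ϑ (y⁻¹ * ((1 : N) : G) * y) = 0 := by
        intro y
        have e : y⁻¹ * ((1 : N) : G) * y = ((1 : N) : G) := by simp
        rw [e, extendByZero_coe, h1]
      rw [Finset.sum_congr rfl (fun y _ => this y)]
      simp [h1]
    · have hterm : ∀ y : G, Cfsg.extendByZero N ϑ (y⁻¹ * (x : G) * y)
          = if y ∈ N then ϑ x else 0 := by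
        intro y
        by_cases hy : y ∈ N
        · rw [if_pos hy]
          have hmem : y⁻¹ * (x : G) * y ∈ N := N.mul_mem (N.mul_mem (N.inv_mem hy) x.2) hy
          rw [extendByZero_of_mem N ϑ _ hmem]
          have := hcl x (⟨y, hy⟩⁻¹ : N)
          rw [← this]
          congr 1
          apply Subtype.ext
          simp
        · rw [if_neg hy]
          by_cases hmem : y⁻¹ * (x : G) * y ∈ N
          · rw [extendByZero_of_mem N ϑ _ hmem]
            apply hvan
            intro hK
            have hy' : y⁻¹ ∉ N := fun h => hy (by simpa using N.inv_mem h)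
            have := hTI y⁻¹ hy' (x : G) hxK (by simpa using hK)
            exact hx1 (Subtype.ext this)
          · exact extendByZero_of_not_mem N ϑ _ hmem
      rw [Finset.sum_congr rfl (fun y _ => hterm y), Finset.sum_ite, Finset.sum_const_zero,
        add_zero, Finset.sum_const]
      have hcard : (Finset.univ.filter (fun y : G => y ∈ N)).card = Nat.card N := by
        rw [Nat.card_eq_fintype_card, Fintype.card_subtype]
      rw [hcard, nsmul_eq_mul]
      have hne : (Nat.card N : ℂ) ≠ 0 := by exact_mod_cast Nat.card_pos.ne'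
      field_simp
  · rw [hvan x hxK]
    have hterm : ∀ y : G, Cfsg.extendByZero N ϑ (y⁻¹ * (x : G) * y) = 0 := by
      intro y
      by_cases hmem : y⁻¹ * (x : G) * y ∈ N
      · rw [extendByZero_of_mem N ϑ _ hmem]
        apply hvan
        have := part1 (x : G) x.2 hxK y⁻¹
        simpa using this
      · exact extendByZero_of_not_mem N ϑ _ hmem
    rw [Finset.sum_congr rfl (fun y _ => hterm y)]
    simp

/-- Let K be a subgroup of the finite group G that meets each conjugate by an element outside its normalizer N trivially, is properly contained in N, and contains the centralizer of each of its non-identity elements (a T.I. subgroup with Frobenius normalizer). Then no element of N outside K is conjugate in G to an element of K, and for every class function ϑ of N that vanishes on N away from K and at the identity, the function induced from ϑ to G agrees with ϑ on all of N. -/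
theorem result {G : Type*} [Group G] [Fintype G] (K : Subgroup G) (hTI : ∀ g : G, g ∉ Subgroup.normalizer (K : Set G) → ∀ k ∈ K, g * k * g⁻¹ ∈ K → k = 1) (hlt : K < Subgroup.normalizer (K : Set G)) (hC : ∀ k ∈ K, k ≠ 1 → Subgroup.centralizer ({k} : Set G) ≤ K) : (∀ x ∈ Subgroup.normalizer (K : Set G), x ∉ K → ∀ g : G, g * x * g⁻¹ ∉ K) ∧ ∀ (ϑ : Subgroup.normalizer (K : Set G) → ℂ), Cfsg.IsClassFunction (Subgroup.normalizer (K : Set G)) ϑ → (∀ x : Subgroup.normalizer (K : Set G), (x : G) ∉ K → ϑ x = 0) → ϑ 1 = 0 → ∀ x : Subgroup.normalizer (K : Set G), Cfsg.indFun (Subgroup.normalizer (K : Set G)) ϑ x = ϑ x := by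
  classical
  have part1 : ∀ x ∈ Subgroup.normalizer (K : Set G), x ∉ K → ∀ g : G, g * x * g⁻¹ ∉ K := by
    intro x hx hxK g hg
    apply hxK
    apply mem_of_orderOf_dvd K hC x hx
    have h1 : orderOf (g * x * g⁻¹) = orderOf x := by
      have := MulEquiv.orderOf_eq (MulAut.conj g) x
      simpa using this
    rw [← h1]
    have h2 : orderOf (⟨g * x * g⁻¹, hg⟩ : K) = orderOf (g * x * g⁻¹) := Subgroup.orderOf_mk _ hg
    rw [← h2]
    exact orderOf_dvd_natCard _
  refine ⟨part1, ?_⟩
  intro ϑ hcl hvan h1 x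
  exact ind_eq K _ hTI part1 ϑ hcl hvan h1 x

end Cfsg.Agent.S0850
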