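import Cfsg.Statements.S0851
import Mathlib
import Cfsg.Agent.Lib.helper32.FrobKer
import Cfsg.Agent.Lib.helper4.Exceptional
import Cfsg.Agent.Lib.helper82.CharQuot

set_option autoImplicit false
open Cfsg

namespace Cfsg.Agent.S0851

open Cfsg.Agent.Lib.helper4 Cfsg.Agent.Lib.helper32

/-- Let K be a subgroup of the finite group G that meets each conjugate by an element outside its normalizer N trivially, is properly contained in N, and contains the centralizer of each of its non-identity elements (a T.I. subgroup with Frobenius normalizer). Suppose K is abelian, let e be the index of K in N, and call an irreducible character of N relevant when it takes at some element of K a value different from its degree. Then either there is exactly one relevant character and K is an elementary abelian p-group of order e + 1 for some prime p, or there are a sign ε and an injective map f from the relevant characters to the irreducible characters of G such that inducing χ - ξ to G gives ε (f χ - f ξ) for all relevant χ and ξ.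 -/
theorem result {G : Type*} [Group G] [Fintype G] (K : Subgroup G) (hTI : ∀ g : G, g ∉ Subgroup.normalizer (K : Set G) → ∀ k ∈ K, g * k * g⁻¹ ∈ K → k = 1) (hlt : K < Subgroup.normalizer (K : Set G)) (hC : ∀ k ∈ K, k ≠ 1 → Subgroup.centralizer ({k} : Set G) ≤ K) (hab : ∀ a ∈ K, ∀ b ∈ K, a * b = b * a) : (Nat.card {χ : Cfsg.IrrCharacter (Subgroup.normalizer (K : Set G)) // ∃ k : Subgroup.normalizer (K : Set G), (k : G) ∈ K ∧ (χ : ↥(Subgroup.normalizer (K : Set G)) → ℂ) k ≠ (χ : ↥(Subgroup.normalizer (K : Set G)) → ℂ) 1} = 1 ∧ ∃ p : ℕ, p.Prime ∧ Cfsg.IsElementaryAbelian p K ∧ Nat.card K = (K.subgroupOf (Subgroup.normalizer (K : Set G))).index + 1) ∨ ∃ (ε : ℂ) (f : {χ : Cfsg.IrrCharacter (Subgroup.normalizer (K : Set G)) // ∃ k : Subgroup.normalizer (K : Set G), (k : G) ∈ K ∧ (χ : ↥(Subgroup.normalizer (K : Set G)) → ℂ) k ≠ (χ : ↥(Subgroup.normalizer (K : Set G)) → ℂ) 1} → Cfsg.IrrCharacter G), (ε = 1 ∨ ε = -1) ∧ Function.Injective f ∧ ∀ χ ξ, Cfsg.indFun (Subgroup.normalizer (K : Set G)) ((χ.1 : ↥(Subgroup.normalizer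 (K : Set G)) → ℂ) - (ξ.1 : ↥(Subgroup.normalizer (K : Set G)) → ℂ)) = ε • ((f χ : G → ℂ) - (f ξ : G → ℂ)) := by
  classical
  have : Fintype ↥(Subgroup.normalizer (K : Set G)) := Fintype.ofFinite _
  right
  have hfrob : ∀ n ∈ K.subgroupOf (Subgroup.normalizer (K : Set G)), n ≠ 1 →
      Subgroup.centralizer ({n} : Set ↥(Subgroup.normalizer (K : Set G))) ≤
        K.subgroupOf (Subgroup.normalizer (K : Set G)) := by
    intro n hn hn1 x hx
    show (x : G) ∈ K
    apply hC (n : G) hn (fun h => hn1 (Subtype.ext h))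
    rw [Subgroup.mem_centralizer_singleton_iff] at hx ⊢
    exact congrArg Subtype.val hx
  have htriv : IsIrrCharacter G (fun _ => (1 : ℂ)) := Cfsg.Agent.Lib.helper83.isIrrCharacter_one
  by_cases hsub : Subsingleton {χ : Cfsg.IrrCharacter (Subgroup.normalizer (K : Set G)) //
      ∃ k : Subgroup.normalizer (K : Set G), (k : G) ∈ K ∧
        (χ : ↥(Subgroup.normalizer (K : Set G)) → ℂ) k ≠
          (χ : ↥(Subgroup.normalizer (K : Set G)) → ℂ) 1}
  · refine ⟨1, fun _ => ⟨fun _ => 1, htriv⟩, Or.inl rfl, ?_, ?_⟩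
    · intro a b _
      exact hsub.elim a b
    · intro χ ξ
      rw [hsub.elim χ ξ, sub_self, sub_self, smul_zero, indFun_zero]
  · have hfin : Finite {χ : Cfsg.IrrCharacter (Subgroup.normalizer (K : Set G)) //
      ∃ k : Subgroup.normalizer (K : Set G), (k : G) ∈ K ∧
        (χ : ↥(Subgroup.normalizer (K : Set G)) → ℂ) k ≠
          (χ : ↥(Subgroup.normalizer (K : Set G)) → ℂ) 1} := inferInstance
    have hcard : 2 ≤ Nat.card {χ : Cfsg.IrrCharacter (Subgroup.normalizer (K : Set G)) //
      ∃ k : Subgroup.normalizer (K : Set G), (k : G) ∈ K ∧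
        (χ : ↥(Subgroup.normalizer (K : Set G)) → ℂ) k ≠
          (χ : ↥(Subgroup.normalizer (K : Set G)) → ℂ) 1} := by
      by_contra hlt2
      apply hsub
      have hle : Nat.card {χ : Cfsg.IrrCharacter (Subgroup.normalizer (K : Set G)) //
        ∃ k : Subgroup.normalizer (K : Set G), (k : G) ∈ K ∧
          (χ : ↥(Subgroup.normalizer (K : Set G)) → ℂ) k ≠
            (χ : ↥(Subgroup.normalizer (K : Set G)) → ℂ) 1} ≤ 1 := by omega
      exact (Finite.card_le_one_iff_subsingleton).mp hle
    obtain ⟨e⟩ : Nonempty (Fin (Nat.card {χ : Cfsg.IrrCharacter (Subgroup.normalizer (K : Set G)) //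
      ∃ k : Subgroup.normalizer (K : Set G), (k : G) ∈ K ∧
        (χ : ↥(Subgroup.normalizer (K : Set G)) → ℂ) k ≠
          (χ : ↥(Subgroup.normalizer (K : Set G)) → ℂ) 1}) ≃
        {χ : Cfsg.IrrCharacter (Subgroup.normalizer (K : Set G)) //
      ∃ k : Subgroup.normalizer (K : Set G), (k : G) ∈ K ∧
        (χ : ↥(Subgroup.normalizer (K : Set G)) → ℂ) k ≠
          (χ : ↥(Subgroup.normalizer (K : Set G)) → ℂ) 1}) :=
      ⟨(Finite.equivFin _).symm⟩
    have hrel : ∀ i, ∃ k ∈ K.subgroupOf (Subgroup.normalizer (K : Set G)),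
        ((e i).1 : ↥(Subgroup.normalizer (K : Set G)) → ℂ) k ≠
          ((e i).1 : ↥(Subgroup.normalizer (K : Set G)) → ℂ) 1 := by
      intro i
      obtain ⟨k, hk, hne⟩ := (e i).2
      exact ⟨k, hk, hne⟩
    have hcomm : ∀ a b : ↥(K.subgroupOf (Subgroup.normalizer (K : Set G))), a * b = b * a := by
      intro a b
      apply Subtype.ext
      apply Subtype.ext
      exact hab _ a.2 _ b.2
    obtain ⟨ε, hε, θ, hθ, hθinj, hθeq⟩ := exceptional_characters (K : Set G) hTI _ hcard
      (fun i => ((e i).1 : ↥(Subgroup.normalizer (K : Set G)) → ℂ))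
      (fun i => (e i).1.2)
      (by
        intro i j hij
        apply e.injective
        apply Subtype.ext
        apply Subtype.ext
        exact hij)
      (by
        intro i x hx
        have hx' : x ∉ K.subgroupOf (Subgroup.normalizer (K : Set G)) := hx
        exact relevant_vanish (K.subgroupOf (Subgroup.normalizer (K : Set G))) hfrob (e i).1.2
          (hrel i) hx')
      (by
        have hdeg : ∀ i, ((e i).1 : ↥(Subgroup.normalizer (K : Set G)) → ℂ) 1 =
            ((K.subgroupOf (Subgroup.normalizer (K : Set G))).index : ℂ) := by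
          intro i
          obtain ⟨φ, hφ, -, hφeq⟩ := relevant_eq_ind
            (K.subgroupOf (Subgroup.normalizer (K : Set G))) hfrob (e i).1.2 (hrel i)
          rw [hφeq, indFun_one, Cfsg.Agent.Lib.helper82.irr_one_of_commutative hcomm hφ, mul_one]
        intro i j
        rw [hdeg i, hdeg j])
    refine ⟨ε, fun r => ⟨θ (e.symm r), hθ _⟩, hε, ?_, ?_⟩
    · intro a b hab'
      have h1 : θ (e.symm a) = θ (e.symm b) := congrArg Subtype.val hab'
      exact e.symm.injective (hθinj h1)
    · intro χ ξ
      have h := hθeq (e.symm χ) (e.symm ξ)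
      simp only [Equiv.apply_symm_apply] at h
      rw [indFun_sub]
      exact h

end Cfsg.Agent.S0851
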