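import Mathlib
import Cfsg.Statements.S0854
import Cfsg.Agent.S0174

set_option autoImplicit false
open Cfsg

namespace Cfsg.Agent.S0854

open scoped ComplexConjugate
open Cfsg.Agent.Lib.helper4

/-- A character `Θ` containing an irreducible `χ` has degree `χ 1 + k`, and equals `χ` when
`k = 0`. -/
theorem degree_decomp {G : Type*} [Group G] [Fintype G] (Θ χ : G → ℂ) (hΘ : IsCharacter G Θ)
    (hχ : IsIrrCharacter G χ) (hne : classInner Θ χ ≠ 0) :
    ∃ k : ℕ, Θ 1 = χ 1 + k ∧ (k = 0 → Θ = χ) := by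
  classical
  have hfin : Fintype (IrrCharacter G) := Fintype.ofFinite _
  have hm : ∀ η : IrrCharacter G, ∃ m : ℕ, classInner Θ (η : G → ℂ) = m :=
    fun η => exists_nat_classInner_irr hΘ η.2
  choose m hm using hm
  have hd : ∀ η : IrrCharacter G, ∃ d : ℕ, 0 < d ∧ (η : G → ℂ) 1 = d :=
    fun η => exists_pos_nat_degree η.2
  choose d hdpos hd using hd
  have hexp := classFunction_eq_sum_irr (isClassFunction_of_isCharacter hΘ)
  let χ' : IrrCharacter G := ⟨χ, hχ⟩
  have hmχ : 1 ≤ m χ' := by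
    rcases Nat.eq_zero_or_pos (m χ') with h | h
    · exfalso
      apply hne
      have := hm χ'
      rw [h] at this
      simpa using this
    · exact h
  refine ⟨∑ η : IrrCharacter G, (m η - if η = χ' then 1 else 0) * d η, ?_, ?_⟩
  · have h1 : Θ 1 = ∑ η : IrrCharacter G, (m η : ℂ) * (d η : ℂ) := by
      conv_lhs => rw [hexp]
      simp only [Finset.sum_apply, Pi.smul_apply, smul_eq_mul, hm, hd]
    have h2 : χ 1 = ∑ η : IrrCharacter G, ((if η = χ' then 1 else 0 : ℕ) : ℂ) * (d η : ℂ) := by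
      simp only [Nat.cast_ite, Nat.cast_one, Nat.cast_zero, ite_mul, one_mul, zero_mul,
        Finset.sum_ite_eq', Finset.mem_univ, if_true]
      exact hd χ'
    rw [h1, h2, Nat.cast_sum, ← Finset.sum_add_distrib]
    apply Finset.sum_congr rfl
    intro η _
    by_cases h : η = χ'
    · subst h
      simp only [if_true]
      rw [Nat.cast_mul, Nat.cast_sub hmχ]
      push_cast
      ring
    · simp [h]
  · intro hk
    rw [Finset.sum_eq_zero_iff] at hk
    have hmeq : ∀ η : IrrCharacter G, m η = if η = χ' then 1 else 0 := by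
      intro η
      have := hk η (Finset.mem_univ _)
      rcases Nat.mul_eq_zero.1 this with h | h
      · by_cases hη : η = χ'
        · subst hη
          simp only [if_true] at h ⊢
          omega
        · simp only [if_neg hη] at h ⊢
          omega
      · exact absurd h (hdpos η).ne'
    conv_lhs => rw [hexp]
    simp only [hm, hmeq]
    simp [χ']

/-- The number of values of a function on a group whose fibres are the left cosets of `T`. -/
theorem card_range_of_coset_fibers {G X : Type*} [Group G] (T : Subgroup G) (F : G → X)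
    (hF : ∀ a b : G, F a = F b ↔ a⁻¹ * b ∈ T) : Nat.card (Set.range F) = T.index := by
  let Φ : G ⧸ T → X := Quotient.lift F (fun a b hab => (hF a b).2 (QuotientGroup.leftRel_apply.mp hab))
  have hΦinj : Function.Injective Φ := by
    intro x y
    induction x using QuotientGroup.induction_on with
    | H a =>
      induction y using QuotientGroup.induction_on with
      | H b =>
        intro h
        exact QuotientGroup.eq.2 ((hF a b).1 h)
  have hrange : Set.range F = Set.range Φ := by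
    ext x
    constructor
    · rintro ⟨g, rfl⟩
      exact ⟨(g : G ⧸ T), rfl⟩
    · rintro ⟨q, rfl⟩
      induction q using QuotientGroup.induction_on with
      | H a => exact ⟨a, rfl⟩
  rw [hrange, Nat.card_range_of_injective hΦinj]
  rfl

/-- The conjugates of `ϑ` number `|G : T|`. -/
theorem card_conj_set {G : Type*} [Group G] (H : Subgroup G) [hN : H.Normal]
    (ϑ : H → ℂ) (T : Subgroup G)
    (hT : ∀ g : G, g ∈ T ↔ ∀ n : H, ϑ ⟨g * n * g⁻¹, hN.conj_mem (n : G) n.2 g⟩ = ϑ n) :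
    Nat.card {ψ : H → ℂ | ∃ g : G, ψ = fun n : H => ϑ ⟨g * n * g⁻¹, hN.conj_mem n n.2 g⟩}
      = T.index := by
  let F : G → H → ℂ := fun g n => ϑ ⟨g⁻¹ * n * g⁻¹⁻¹, hN.conj_mem n n.2 g⁻¹⟩
  have hF : ∀ a b : G, F a = F b ↔ a⁻¹ * b ∈ T := by
    intro a b
    rw [hT]
    constructor
    · intro h n
      have := congrFun h ⟨b * n * b⁻¹, hN.conj_mem n n.2 b⟩
      simp only [F] at this
      have e1 : (⟨a⁻¹ * b * n * (a⁻¹ * b)⁻¹, hN.conj_mem (n : G) n.2 (a⁻¹ * b)⟩ : H)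
          = ⟨a⁻¹ * (b * n * b⁻¹) * a⁻¹⁻¹, hN.conj_mem _ (hN.conj_mem n n.2 b) a⁻¹⟩ := by
        apply Subtype.ext
        show a⁻¹ * b * n * (a⁻¹ * b)⁻¹ = a⁻¹ * (b * n * b⁻¹) * a⁻¹⁻¹
        group
      have e2 : (⟨b⁻¹ * (b * n * b⁻¹) * b⁻¹⁻¹, hN.conj_mem _ (hN.conj_mem n n.2 b) b⁻¹⟩ : H)
          = n := by
        apply Subtype.ext
        show b⁻¹ * (b * n * b⁻¹) * b⁻¹⁻¹ = n
        group
      rw [e1, this, e2]
    · intro h
      funext m
      have := h ⟨b⁻¹ * m * b⁻¹⁻¹, hN.conj_mem m m.2 b⁻¹⟩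
      have e1 : (⟨a⁻¹ * b * (⟨b⁻¹ * m * b⁻¹⁻¹, hN.conj_mem m m.2 b⁻¹⟩ : H) * (a⁻¹ * b)⁻¹,
          hN.conj_mem _ (hN.conj_mem m m.2 b⁻¹) (a⁻¹ * b)⟩ : H)
          = ⟨a⁻¹ * m * a⁻¹⁻¹, hN.conj_mem m m.2 a⁻¹⟩ := by
        apply Subtype.ext
        show a⁻¹ * b * (b⁻¹ * m * b⁻¹⁻¹) * (a⁻¹ * b)⁻¹ = a⁻¹ * m * a⁻¹⁻¹
        group
      rw [e1] at this
      exact this
  have hset : {ψ : H → ℂ | ∃ g : G, ψ = fun n : H => ϑ ⟨g * n * g⁻¹, hN.conj_mem n n.2 g⟩}
      = Set.range F := by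
    ext ψ
    constructor
    · rintro ⟨g, rfl⟩
      refine ⟨g⁻¹, ?_⟩
      funext n
      show ϑ ⟨g⁻¹⁻¹ * n * g⁻¹⁻¹⁻¹, _⟩ = ϑ ⟨g * n * g⁻¹, _⟩
      congr 1
      apply Subtype.ext
      simp
    · rintro ⟨g, rfl⟩
      exact ⟨g⁻¹, rfl⟩
  rw [hset]
  exact card_range_of_coset_fibers T F hF

/-- Degree of an irreducible character lying over `ϑ`: `χ 1 = e * |G : T| * ϑ 1`. -/
theorem clifford_degree {G : Type*} [Group G] [Fintype G] (H : Subgroup G) [hN : H.Normal]
    [Fintype H] (ϑ : H → ℂ) (hϑ : IsIrrCharacter H ϑ) (T : Subgroup G)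
    (hT : ∀ g : G, g ∈ T ↔ ∀ n : H, ϑ ⟨g * n * g⁻¹, hN.conj_mem (n : G) n.2 g⟩ = ϑ n)
    (χ : G → ℂ) (hχ : IsIrrCharacter G χ) (hcon : classInner (fun n : H => χ n) ϑ ≠ 0) :
    χ 1 = classInner (fun n : H => χ n) ϑ * ((T.index : ℂ) * ϑ 1) := by
  classical
  have hcl := Cfsg.Agent.S0174.result H hN χ hχ ϑ hϑ hcon
  have hcard := card_conj_set H ϑ T hT
  have hSfin : {ψ : H → ℂ | ∃ g : G, ψ = fun n : H => ϑ ⟨g * n * g⁻¹, hN.conj_mem n n.2 g⟩}.Finite := by
    have : {ψ : H → ℂ | ∃ g : G, ψ = fun n : H => ϑ ⟨g * n * g⁻¹, hN.conj_mem n n.2 g⟩}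
        = Set.range (fun g : G => fun n : H => ϑ ⟨g * n * g⁻¹, hN.conj_mem n n.2 g⟩) := by
      ext ψ
      constructor
      · rintro ⟨g, rfl⟩; exact ⟨g, rfl⟩
      · rintro ⟨g, rfl⟩; exact ⟨g, rfl⟩
    rw [this]
    exact Set.finite_range _
  rw [finsum_mem_eq_finite_toFinset_sum _ hSfin] at hcl
  have h1 := congrFun hcl 1
  simp only [Pi.smul_apply, Finset.sum_apply, smul_eq_mul] at h1
  have h2 : ∀ ψ ∈ hSfin.toFinset, ψ 1 = ϑ 1 := by
    intro ψ hψ
    rw [Set.Finite.mem_toFinset] at hψ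
    obtain ⟨g, rfl⟩ := hψ
    show ϑ ⟨g * ((1 : H) : G) * g⁻¹, _⟩ = ϑ 1
    congr 1
    apply Subtype.ext
    simp
  rw [Finset.sum_congr rfl h2, Finset.sum_const, nsmul_eq_mul] at h1
  have h3 : hSfin.toFinset.card = T.index := by
    rw [← hcard, Nat.card_coe_set_eq, Set.ncard_eq_toFinset_card _ hSfin]
  rw [h3] at h1
  exact h1

/-- Restriction to `H` of an irreducible character of a group `T` stabilising `ϑ`. -/
theorem invariant_restrict {G : Type*} [Group G] [Fintype G] (H : Subgroup G) [hN : H.Normal]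
    [Fintype H] (ϑ : H → ℂ) (hϑ : IsIrrCharacter H ϑ) (T : Subgroup G) [Fintype T]
    (hT : ∀ g : G, g ∈ T → ∀ n : H, ϑ ⟨g * n * g⁻¹, hN.conj_mem (n : G) n.2 g⟩ = ϑ n)
    (hHT : H ≤ T) (ψ : T → ℂ) (hψ : IsIrrCharacter T ψ)
    (hne : classInner (fun n : H => ψ ⟨(n : G), hHT n.2⟩) ϑ ≠ 0) (n : H) :
    ψ ⟨(n : G), hHT n.2⟩ = classInner (fun n : H => ψ ⟨(n : G), hHT n.2⟩) ϑ * ϑ n := by
  classical
  have hN' : (H.subgroupOf T).Normal := hN.subgroupOf T
  have : Fintype (H.subgroupOf T) := Fintype.ofFinite _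
  let eqv : (H.subgroupOf T) ≃* H := Subgroup.subgroupOfEquivOfLe hHT
  let ϑ' : (H.subgroupOf T) → ℂ := fun x => ϑ (eqv x)
  have hϑ' : IsIrrCharacter (H.subgroupOf T) ϑ' := by
    obtain ⟨k, ρ, hρ, hρϑ⟩ := hϑ
    refine ⟨k, Cfsg.Agent.Lib.helper82.compRep eqv.toMonoidHom ρ, ?_, ?_⟩
    · exact (Cfsg.Agent.Lib.helper82.isIrreducible_comp_iff eqv.toMonoidHom eqv.surjective ρ).2 hρ
    · funext x
      rw [Cfsg.Agent.Lib.helper82.character_comp, hρϑ]
      rfl
  have hinner : classInner (fun x : (H.subgroupOf T) => ψ x) ϑ'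
      = classInner (fun n : H => ψ ⟨(n : G), hHT n.2⟩) ϑ := by
    unfold Cfsg.classInner
    rw [Nat.card_congr eqv.toEquiv]
    congr 1
    apply Fintype.sum_equiv eqv.toEquiv
    intro x
    rfl
  have hcl := Cfsg.Agent.S0174.result (H.subgroupOf T) hN' ψ hψ ϑ' hϑ' (by rw [hinner]; exact hne)
  have hset : {φ : (H.subgroupOf T) → ℂ | ∃ g : T, φ = fun x : (H.subgroupOf T) =>
      ϑ' ⟨g * x * g⁻¹, hN'.conj_mem x x.2 g⟩} = {ϑ'} := by
    ext φ
    simp only [Set.mem_ofPred_eq, Set.mem_singleton_iff]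
    constructor
    · rintro ⟨g, rfl⟩
      funext x
      have := hT (g : G) g.2 (eqv x)
      exact this
    · rintro rfl
      refine ⟨1, ?_⟩
      funext x
      show ϑ' x = ϑ' ⟨1 * x * 1⁻¹, _⟩
      congr 1
      apply Subtype.ext
      simp
  rw [hset, finsum_mem_singleton, hinner] at hcl
  have := congrFun hcl (eqv.symm n)
  simp only [Pi.smul_apply, smul_eq_mul] at this
  have e1 : ϑ' (eqv.symm n) = ϑ n := by
    show ϑ (eqv (eqv.symm n)) = ϑ n
    rw [MulEquiv.apply_symm_apply]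
  rw [e1] at this
  rw [← this]
  rfl

/-- The Clifford correspondence, existence part: if H is a normal subgroup of the finite group G, ϑ an irreducible character of H with inertia group T, and χ an irreducible character of G whose restriction to H has ϑ as a constituent, then χ is induced from an irreducible character ψ of T, and the restrictions of ψ and of χ to H have the same inner product with ϑ. -/
theorem result {G : Type*} [Group G] [Fintype G] (H : Subgroup G) [hN : H.Normal] [Fintype H] (ϑ : H → ℂ) (hϑ : Cfsg.IsIrrCharacter H ϑ) (T : Subgroup G) [Fintype T] (hT : ∀ g : G, g ∈ T ↔ ∀ n : H, ϑ ⟨g * n * g⁻¹, hN.conj_mem (n : G) n.2 g⟩ = ϑ n) (hHT : H ≤ T) (χ : G → ℂ) (hχ : Cfsg.IsIrrCharacter G χ) (hcon : Cfsg.classInner (fun n : H => χ n) ϑ ≠ 0) : ∃ ψ : T → ℂ, Cfsg.IsIrrCharacter T ψ ∧ Cfsg.indFun T ψ = χ ∧ Cfsg.classInner (fun n : H => ψ ⟨(n : G), hHT n.2⟩) ϑ = Cfsg.classInner (fun n : H => χ n) ϑ := by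
  classical
  have hfinT : Fintype (IrrCharacter T) := Fintype.ofFinite _
  have hχcl : IsClassFunction G χ := isClassFunction_of_isIrrCharacter hχ
  have hχc : IsCharacter G χ := isCharacter_of_isIrrCharacter hχ
  have hχT : IsCharacter T (fun t : T => χ t) := isCharacter_restrict T hχc
  have hm : ∀ ψ : IrrCharacter T, ∃ m : ℕ, classInner (fun t : T => χ t) (ψ : T → ℂ) = m :=
    fun ψ => exists_nat_classInner_irr hχT ψ.2
  choose m hm using hm
  have hf : ∀ ψ : IrrCharacter T, ∃ f : ℕ,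
      classInner (fun n : H => (ψ : T → ℂ) ⟨(n : G), hHT n.2⟩) ϑ = f :=
    fun ψ => exists_nat_classInner_irr
      (isCharacter_comp (Subgroup.inclusion hHT) (isCharacter_of_isIrrCharacter ψ.2)) hϑ
  choose f hf using hf
  obtain ⟨e, he⟩ := exists_nat_classInner_irr (isCharacter_restrict H hχc) hϑ
  have hexp := classFunction_eq_sum_irr (isClassFunction_of_isCharacter hχT)
  have hsum : e = ∑ ψ : IrrCharacter T, m ψ * f ψ := by
    have h3 : (fun n : H => χ n) = ∑ ψ : IrrCharacter T,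
        (m ψ : ℂ) • (fun n : H => (ψ : T → ℂ) ⟨(n : G), hHT n.2⟩) := by
      funext n
      have := congrFun hexp ⟨(n : G), hHT n.2⟩
      simp only [Finset.sum_apply, Pi.smul_apply, smul_eq_mul, hm] at this ⊢
      exact this
    have h4 : classInner (fun n : H => χ n) ϑ = ((∑ ψ : IrrCharacter T, m ψ * f ψ : ℕ) : ℂ) := by
      rw [h3, classInner_sum_left]
      simp only [classInner_smul_left, hf]
      push_cast
      rfl
    rw [he] at h4
    exact_mod_cast h4
  have he0 : e ≠ 0 := by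
    intro h0
    apply hcon
    rw [he, h0]
    simp
  obtain ⟨ψ, -, hψne⟩ : ∃ ψ ∈ (Finset.univ : Finset (IrrCharacter T)), m ψ * f ψ ≠ 0 := by
    by_contra hall
    push Not at hall
    apply he0
    rw [hsum]
    exact Finset.sum_eq_zero hall
  have hmψ : m ψ ≠ 0 := fun h => hψne (by rw [h, zero_mul])
  have hfψ : f ψ ≠ 0 := fun h => hψne (by rw [h, mul_zero])
  have hfe : f ψ ≤ e := by
    rw [hsum]
    calc f ψ ≤ m ψ * f ψ := Nat.le_mul_of_pos_left _ (Nat.pos_of_ne_zero hmψ)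
      _ ≤ ∑ ψ : IrrCharacter T, m ψ * f ψ :=
        Finset.single_le_sum (f := fun ψ => m ψ * f ψ) (fun _ _ => Nat.zero_le _)
          (Finset.mem_univ ψ)
  -- degrees
  obtain ⟨dϑ, hdϑpos, hdϑ⟩ := exists_pos_nat_degree hϑ
  have hψdeg : (ψ : T → ℂ) 1 = (f ψ : ℂ) * (dϑ : ℂ) := by
    have := invariant_restrict H ϑ hϑ T (fun g hg => (hT g).1 hg) hHT (ψ : T → ℂ) ψ.2
      (by rw [hf]; exact_mod_cast hfψ) 1
    rw [hf, hdϑ] at this
    rw [← this]
    rfl
  have hχdeg : χ 1 = (e : ℂ) * ((T.index : ℂ) * (dϑ : ℂ)) := by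
    have := clifford_degree H ϑ hϑ T hT χ hχ hcon
    rw [he, hdϑ] at this
    exact this
  have hind : IsCharacter G (indFun T (ψ : T → ℂ)) :=
    isCharacter_indFun T (isCharacter_of_isIrrCharacter ψ.2)
  have hne : classInner (indFun T (ψ : T → ℂ)) χ ≠ 0 := by
    rw [frobenius_reciprocity T (ψ : T → ℂ) hχcl, ← classInner_conj_symm, hm]
    simpa using hmψ
  obtain ⟨k, hk, hk0⟩ := degree_decomp (indFun T (ψ : T → ℂ)) χ hind hχ hne
  rw [indFun_one, hψdeg, hχdeg] at hk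
  have hkN : T.index * (f ψ * dϑ) = e * (T.index * dϑ) + k := by exact_mod_cast hk
  have hidx : 0 < T.index := Nat.pos_of_ne_zero (Subgroup.index_ne_zero_of_finite)
  have hle : T.index * (f ψ * dϑ) ≤ e * (T.index * dϑ) := by
    calc T.index * (f ψ * dϑ) = f ψ * (T.index * dϑ) := by ring
      _ ≤ e * (T.index * dϑ) := Nat.mul_le_mul_right _ hfe
  have hk00 : k = 0 := by omega
  have hfeq : f ψ = e := by
    rw [hk00, add_zero] at hkN
    have h5 : f ψ * (T.index * dϑ) = e * (T.index * dϑ) := by rw [← hkN]; ring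
    exact Nat.eq_of_mul_eq_mul_right (Nat.mul_pos hidx hdϑpos) h5
  refine ⟨(ψ : T → ℂ), ψ.2, hk0 hk00, ?_⟩
  rw [hf, he, hfeq]

end Cfsg.Agent.S0854
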