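import Mathlib
import Cfsg.Statements.S0855
import Cfsg.Agent.Lib.helper5.NormalDeg

set_option autoImplicit false
open Cfsg

namespace Cfsg.Agent.S0855

set_option linter.style.haveILetI false

open Cfsg.Agent.Lib

universe u

theorem aux (p : ℕ) (hp : p.Prime) : ∀ (n : ℕ) (G : Type u) [Group G] [Finite G],
    Nat.card G ≤ n →
    (∀ χ : G → ℂ, Cfsg.IsIrrCharacter G χ → ∃ k : ℕ, χ 1 = (p : ℂ) ^ k) →
    ∃ A : Subgroup G, A.Normal ∧ (∀ a ∈ A, ∀ b ∈ A, a * b = b * a) ∧
      Nat.Coprime (Nat.card A) p ∧ ∃ k : ℕ, A.index = p ^ k := by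
  intro n
  induction n with
  | zero =>
    intro G _ _ hcard
    exact absurd hcard (by have := Nat.card_pos (α := G); omega)
  | succ n ih =>
    intro G _ _ hcard hdeg
    classical
    haveI : Fintype G := Fintype.ofFinite G
    haveI : Fintype (Cfsg.IrrCharacter G) := Fintype.ofFinite _
    have hone : ∀ χ : Cfsg.IrrCharacter G,
        (χ : G → ℂ) 1 = (Cfsg.charDegree (χ : G → ℂ) : ℂ) := fun χ =>
      helper82.isCharacter_one_eq (helper4.isCharacter_of_isIrrCharacter χ.2)
    have hd : ∀ χ : Cfsg.IrrCharacter G, ∃ k : ℕ, Cfsg.charDegree (χ : G → ℂ) = p ^ k := by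
      intro χ
      obtain ⟨k, hk⟩ := hdeg χ χ.2
      refine ⟨k, ?_⟩
      rw [hone χ] at hk
      exact_mod_cast hk
    by_cases hpG : p ∣ Nat.card G
    · have hidx : p ∣ (commutator G).index := by
        have hsum : ∑ χ : Cfsg.IrrCharacter G, (Cfsg.charDegree (χ : G → ℂ)) ^ 2 = Nat.card G := by
          have h0 := helper4.sum_irr_degree_sq (G := G)
          have h' : ∑ χ : Cfsg.IrrCharacter G, ((χ : G → ℂ) 1) ^ 2 =
              ((∑ χ : Cfsg.IrrCharacter G, (Cfsg.charDegree (χ : G → ℂ)) ^ 2 : ℕ) : ℂ) := by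
            push_cast
            apply Finset.sum_congr rfl
            intro χ _
            rw [hone χ]
          rw [h'] at h0
          exact_mod_cast h0
        have hsplit := Finset.sum_filter_add_sum_filter_not Finset.univ
          (fun χ : Cfsg.IrrCharacter G => Cfsg.charDegree (χ : G → ℂ) = 1)
          (fun χ => (Cfsg.charDegree (χ : G → ℂ)) ^ 2)
        rw [hsum] at hsplit
        have hA : ∑ χ ∈ Finset.univ.filter
            (fun χ : Cfsg.IrrCharacter G => Cfsg.charDegree (χ : G → ℂ) = 1),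
            (Cfsg.charDegree (χ : G → ℂ)) ^ 2 = (commutator G).index := by
          have h1 : ∀ χ ∈ Finset.univ.filter
              (fun χ : Cfsg.IrrCharacter G => Cfsg.charDegree (χ : G → ℂ) = 1),
              (Cfsg.charDegree (χ : G → ℂ)) ^ 2 = 1 := by
            intro χ hχ
            rw [(Finset.mem_filter.1 hχ).2, one_pow]
          rw [Finset.sum_congr rfl h1, Finset.sum_const, smul_eq_mul, mul_one,
            ← helper82.card_linear_irr, Nat.card_eq_fintype_card, Fintype.card_subtype]
          congr 1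
          ext χ
          simp only [Finset.mem_filter, Finset.mem_univ, true_and]
          rw [hone χ]
          constructor
          · intro h; rw [h]; simp
          · intro h; exact_mod_cast h
        have hB : p ∣ ∑ χ ∈ Finset.univ.filter
            (fun χ : Cfsg.IrrCharacter G => ¬ Cfsg.charDegree (χ : G → ℂ) = 1),
            (Cfsg.charDegree (χ : G → ℂ)) ^ 2 := by
          apply Finset.dvd_sum
          intro χ hχ
          obtain ⟨k, hk⟩ := hd χ
          have hk0 : k ≠ 0 := by
            rintro rfl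
            exact (Finset.mem_filter.1 hχ).2 (by rw [hk, pow_zero])
          rw [hk]
          exact (dvd_pow_self p hk0).trans (dvd_pow_self _ two_ne_zero)
        rw [hA] at hsplit
        exact (Nat.dvd_add_left hB).1 (hsplit ▸ hpG)
      obtain ⟨N, hNn, hNi⟩ := helper5.exists_normal_index_prime hp hidx
      haveI := hNn
      haveI : Fintype N := Fintype.ofFinite N
      have hNcard : Nat.card N ≤ n := by
        have h1 := N.card_mul_index
        rw [hNi] at h1
        have h2 : 2 ≤ p := hp.two_le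
        have h3 : 0 < Nat.card N := Nat.card_pos
        nlinarith
      have hNdeg : ∀ θ : N → ℂ, Cfsg.IsIrrCharacter N θ → ∃ k : ℕ, θ 1 = (p : ℂ) ^ k := by
        intro θ hθ
        obtain ⟨χ, hχ, e, he0, -, hdegχ⟩ := helper5.exists_irr_over N hθ
        obtain ⟨k, hk⟩ := hdeg χ hχ
        obtain ⟨d, hd, hd1⟩ := helper4.exists_pos_nat_degree hθ
        rw [hk, hd1] at hdegχ
        have h3 : p ^ k = e * (helper82.inertia N θ).index * d := by exact_mod_cast hdegχ
        have h4 : d ∣ p ^ k := ⟨e * (helper82.inertia N θ).index, by rw [h3]; ring⟩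
        obtain ⟨j, -, hj⟩ := (Nat.dvd_prime_pow hp).1 h4
        exact ⟨j, by rw [hd1, hj]; push_cast; rfl⟩
      obtain ⟨A₀, hA₀n, hA₀c, hA₀p, k, hA₀i⟩ := ih N hNcard hNdeg
      haveI := hA₀n
      refine ⟨A₀.map N.subtype, ?_, ?_, ?_, k + 1, ?_⟩
      · constructor
        intro a ha g
        obtain ⟨a₀, ha₀, rfl⟩ := Subgroup.mem_map.1 ha
        refine Subgroup.mem_map.2 ⟨⟨g * (a₀ : G) * g⁻¹, hNn.conj_mem _ a₀.2 g⟩, ?_, rfl⟩
        apply helper5.mem_of_coprime_orderOf A₀ hA₀i
        have h1 : orderOf (⟨g * (a₀ : G) * g⁻¹, hNn.conj_mem _ a₀.2 g⟩ : N) = orderOf a₀ := by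
          rw [← Subgroup.orderOf_coe, ← Subgroup.orderOf_coe a₀]
          exact orderOf_injective (MulAut.conj g).toMonoidHom (MulAut.conj g).injective (a₀ : G)
        rw [h1]
        have h2 : orderOf a₀ ∣ Nat.card A₀ := by
          have h3 := orderOf_dvd_natCard (⟨a₀, ha₀⟩ : A₀)
          rwa [← Subgroup.orderOf_coe] at h3
        exact Nat.Coprime.coprime_dvd_left h2 hA₀p
      · intro a ha b hb
        obtain ⟨a₀, ha₀, rfl⟩ := Subgroup.mem_map.1 ha
        obtain ⟨b₀, hb₀, rfl⟩ := Subgroup.mem_map.1 hb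
        have := hA₀c a₀ ha₀ b₀ hb₀
        exact congrArg Subtype.val this
      · rw [Subgroup.card_map_of_injective N.subtype_injective]
        exact hA₀p
      · rw [Subgroup.index_map_subtype, hA₀i, hNi, pow_succ]
    · have hlin : ∀ χ : Cfsg.IrrCharacter G, (χ : G → ℂ) 1 = 1 := by
        intro χ
        obtain ⟨k, hk⟩ := hd χ
        have hdvd := helper82.irr_degree_dvd_card χ
        rw [hk] at hdvd
        have hk0 : k = 0 := by
          by_contra hk0
          exact hpG ((dvd_pow_self p hk0).trans hdvd)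
        rw [hone χ, hk, hk0, pow_zero, Nat.cast_one]
      have hcomm := helper5.comm_of_all_linear hlin
      refine ⟨⊤, inferInstance, fun a _ b _ => hcomm a b, ?_, 0, by simp⟩
      rw [Subgroup.card_top]
      exact ((Nat.Prime.coprime_iff_not_dvd hp).2 hpG).symm

/-- For a finite group G and a prime p: every irreducible character of G has degree a power of p if and only if G has an abelian normal subgroup whose order is prime to p and whose index is a power of p. -/
theorem result {G : Type*} [Group G] [Finite G] (p : ℕ) (hp : p.Prime) : (∀ χ : Cfsg.IrrCharacter G, ∃ k : ℕ, (χ : G → ℂ) 1 = (p : ℂ) ^ k) ↔ ∃ A : Subgroup G, A.Normal ∧ (∀ a ∈ A, ∀ b ∈ A, a * b = b * a) ∧ Nat.Coprime (Nat.card A) p ∧ ∃ k : ℕ, A.index = p ^ k := by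
  constructor
  · intro h
    exact aux p hp (Nat.card G) G le_rfl (fun χ hχ => h ⟨χ, hχ⟩)
  · rintro ⟨A, hAn, hAc, -, k, hAk⟩ χ
    haveI := hAn
    obtain ⟨d, hd1, hd2⟩ := helper82.ito_char A hAc χ.2
    rw [hAk] at hd2
    obtain ⟨j, -, hj⟩ := (Nat.dvd_prime_pow hp).1 hd2
    exact ⟨j, by rw [hd1, hj]; push_cast; rfl⟩

end Cfsg.Agent.S0855
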