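import Mathlib
import Cfsg.Statements.S0856
import Cfsg.Agent.Lib.helper19.IndInv

set_option autoImplicit false
open Cfsg

namespace Cfsg.Agent.S0856

open scoped ComplexConjugate
open Cfsg.Agent.Lib.helper4 Cfsg.Agent.Lib.helper19

/-- Let N be a normal subgroup of the finite group G and φ, ϑ irreducible characters of N that are invariant under conjugation by G, such that the pointwise product φ * ϑ is irreducible and ϑ is the restriction of an irreducible character χ of G. Then multiplication by χ is a bijection from the set of irreducible characters of G having nonzero inner product with the function induced from φ onto the set of those having nonzero inner product with the function induced from φ * ϑ. -/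
theorem result {G : Type*} [Group G] [Fintype G] (N : Subgroup G) [hN : N.Normal] (φ ϑ : N → ℂ) (hφ : Cfsg.IsIrrCharacter N φ) (hϑ : Cfsg.IsIrrCharacter N ϑ) (hφinv : ∀ (g : G) (n : N), φ ⟨g * n * g⁻¹, hN.conj_mem (n : G) n.2 g⟩ = φ n) (hϑinv : ∀ (g : G) (n : N), ϑ ⟨g * n * g⁻¹, hN.conj_mem (n : G) n.2 g⟩ = ϑ n) (hprod : Cfsg.IsIrrCharacter N (φ * ϑ)) (χ : G → ℂ) (hχ : Cfsg.IsIrrCharacter G χ) (hext : ∀ n : N, χ n = ϑ n) : Set.BijOn (fun β : G → ℂ => β * χ) {β : G → ℂ | Cfsg.IsIrrCharacter G β ∧ Cfsg.classInner (Cfsg.indFun N φ) β ≠ 0} {ψ : G → ℂ | Cfsg.IsIrrCharacter G ψ ∧ Cfsg.classInner (Cfsg.indFun N (φ * ϑ)) ψ ≠ 0} := by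
  classical
  have : Fintype N := Fintype.ofFinite _
  have hfin : Fintype (IrrCharacter G) := Fintype.ofFinite _
  have hχc := isCharacter_of_isIrrCharacter hχ
  have hχcl := isClassFunction_of_isIrrCharacter hχ
  have hresχ : (fun n : N => χ n) = ϑ := funext hext
  have hΘc : IsCharacter G (indFun N φ) := isCharacter_indFun N (isCharacter_of_isIrrCharacter hφ)
  have hΨ : indFun N (φ * ϑ) = indFun N φ * χ := by
    rw [← hresχ]
    exact indFun_mul_restrict N φ χ hχcl
  have hm : ∀ β : IrrCharacter G, ∃ m : ℕ, classInner (indFun N φ) (β : G → ℂ) = m :=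
    fun β => exists_nat_classInner_irr hΘc β.2
  choose m hm using hm
  have hexp : indFun N φ = ∑ β : IrrCharacter G, (m β : ℂ) • (β : G → ℂ) := by
    conv_lhs => rw [classFunction_eq_sum_irr (isClassFunction_of_isCharacter hΘc)]
    simp only [hm]
  have hΘχ : indFun N φ * χ = ∑ β : IrrCharacter G, (m β : ℂ) • ((β : G → ℂ) * χ) := by
    conv_lhs => rw [hexp]
    rw [Finset.sum_mul]
    apply Finset.sum_congr rfl
    intro β _
    rw [smul_mul_assoc]
  have hβχc : ∀ β : IrrCharacter G, IsCharacter G ((β : G → ℂ) * χ) :=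
    fun β => isCharacter_mul (isCharacter_of_isIrrCharacter β.2) hχc
  have ha : ∀ β γ : IrrCharacter G, ∃ a : ℕ,
      classInner ((β : G → ℂ) * χ) ((γ : G → ℂ) * χ) = a :=
    fun β γ => exists_nat_classInner (hβχc β) (hβχc γ)
  choose a ha using ha
  have ha1 : ∀ β, 1 ≤ a β β := by
    intro β
    rcases Nat.eq_zero_or_pos (a β β) with h | h
    · exfalso
      have h0 := ha β β
      rw [h, Nat.cast_zero] at h0
      have h1 := congrFun (eq_zero_of_classInner_self _ h0) 1
      simp only [Pi.mul_apply, Pi.zero_apply] at h1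
      rcases mul_eq_zero.1 h1 with h2 | h2
      · exact irr_degree_ne_zero β.2 h2
      · exact irr_degree_ne_zero hχ h2
    · exact h
  -- norms
  have hn1 : classInner (indFun N φ) (indFun N φ) = (N.index : ℂ) :=
    norm_indFun_invariant N φ hφ hφinv
  have hn2 : classInner (indFun N φ * χ) (indFun N φ * χ) = (N.index : ℂ) := by
    rw [← hΨ]
    exact norm_indFun_invariant N (φ * ϑ) hprod (fun g n => by
      simp only [Pi.mul_apply]
      rw [hφinv, hϑinv])
  have hs1 : N.index = ∑ β : IrrCharacter G, m β * m β := by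
    have h1 : classInner (indFun N φ) (indFun N φ)
        = classInner (∑ β : IrrCharacter G, (m β : ℂ) • (β : G → ℂ)) (indFun N φ) := by
      rw [← hexp]
    have h2 : classInner (indFun N φ) (indFun N φ)
        = ((∑ β : IrrCharacter G, m β * m β : ℕ) : ℂ) := by
      rw [h1, classInner_sum_left]
      simp only [classInner_smul_left]
      push_cast
      apply Finset.sum_congr rfl
      intro β _
      rw [← classInner_conj_symm, hm]
      simp
    rw [hn1] at h2
    exact_mod_cast h2
  have hs2 : N.index = ∑ β : IrrCharacter G, ∑ γ : IrrCharacter G, m β * m γ * a β γ := by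
    have h2 : classInner (indFun N φ * χ) (indFun N φ * χ)
        = ((∑ β : IrrCharacter G, ∑ γ : IrrCharacter G, m β * m γ * a β γ : ℕ) : ℂ) := by
      rw [hΘχ, classInner_sum_left]
      simp only [classInner_smul_left, classInner_sum_right, classInner_smul_right, ha]
      push_cast
      apply Finset.sum_congr rfl
      intro β _
      apply Finset.sum_congr rfl
      intro γ _
      simp only [Complex.conj_natCast]
      ring
    rw [hn2] at h2
    exact_mod_cast h2
  have hkey : ∀ β γ : IrrCharacter G, m β * m γ * a β γ = if β = γ then m β * m β else 0 := by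
    have hle : ∀ p ∈ (Finset.univ : Finset (IrrCharacter G × IrrCharacter G)),
        (if p.1 = p.2 then m p.1 * m p.1 else 0) ≤ m p.1 * m p.2 * a p.1 p.2 := by
      rintro ⟨β, γ⟩ -
      by_cases h : β = γ
      · subst h
        simp only [if_true]
        exact Nat.le_mul_of_pos_right _ (ha1 β)
      · simp [h]
    have heq : ∑ p : IrrCharacter G × IrrCharacter G, (if p.1 = p.2 then m p.1 * m p.1 else 0)
        = ∑ p : IrrCharacter G × IrrCharacter G, m p.1 * m p.2 * a p.1 p.2 := by
      rw [Fintype.sum_prod_type, Fintype.sum_prod_type, ← hs2, hs1]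
      apply Finset.sum_congr rfl
      intro β _
      simp
    have := (Finset.sum_eq_sum_iff_of_le hle).1 heq
    intro β γ
    exact (this (β, γ) (Finset.mem_univ _)).symm
  have haβ : ∀ β : IrrCharacter G, m β ≠ 0 → a β β = 1 := by
    intro β hβ
    have := hkey β β
    simp only [if_true] at this
    have hpos : 0 < m β * m β := Nat.mul_pos (Nat.pos_of_ne_zero hβ) (Nat.pos_of_ne_zero hβ)
    exact Nat.eq_of_mul_eq_mul_left hpos (by rw [this, mul_one])
  have haβγ : ∀ β γ : IrrCharacter G, m β ≠ 0 → m γ ≠ 0 → β ≠ γ → a β γ = 0 := by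
    intro β γ hβ hγ hne
    have := hkey β γ
    rw [if_neg hne] at this
    rcases Nat.mul_eq_zero.1 this with h | h
    · rcases Nat.mul_eq_zero.1 h with h | h
      · exact absurd h hβ
      · exact absurd h hγ
    · exact h
  have hirr : ∀ β : IrrCharacter G, m β ≠ 0 → IsIrrCharacter G ((β : G → ℂ) * χ) := by
    intro β hβ
    apply isIrrCharacter_of_isCharacter_of_norm_one (hβχc β)
    rw [ha, haβ β hβ, Nat.cast_one]
  refine ⟨?_, ?_, ?_⟩
  · -- MapsTo
    rintro β ⟨hβirr, hβne⟩
    have hmβ : m ⟨β, hβirr⟩ ≠ 0 := by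
      intro h
      apply hβne
      have := hm ⟨β, hβirr⟩
      rw [h, Nat.cast_zero] at this
      exact this
    refine ⟨hirr ⟨β, hβirr⟩ hmβ, ?_⟩
    show classInner (indFun N (φ * ϑ)) (β * χ) ≠ 0
    rw [hΨ, hΘχ, classInner_sum_left]
    simp only [classInner_smul_left]
    have h1 : ∀ γ : IrrCharacter G, (m γ : ℂ) * classInner ((γ : G → ℂ) * χ) (β * χ)
        = ((m γ * a γ ⟨β, hβirr⟩ : ℕ) : ℂ) := by
      intro γ
      rw [show β * χ = ((⟨β, hβirr⟩ : IrrCharacter G) : G → ℂ) * χ from rfl, ha]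
      push_cast
      rfl
    rw [Finset.sum_congr rfl (fun γ _ => h1 γ), ← Nat.cast_sum]
    intro h0
    have h2 : ∑ γ : IrrCharacter G, m γ * a γ ⟨β, hβirr⟩ = 0 := by exact_mod_cast h0
    have h3 := (Finset.sum_eq_zero_iff.1 h2) ⟨β, hβirr⟩ (Finset.mem_univ _)
    rw [haβ _ hmβ, mul_one] at h3
    exact hmβ h3
  · -- InjOn
    rintro β ⟨hβirr, hβne⟩ γ ⟨hγirr, hγne⟩ hβγ
    have hmβ : m ⟨β, hβirr⟩ ≠ 0 := by
      intro h
      apply hβne
      have := hm ⟨β, hβirr⟩
      rw [h, Nat.cast_zero] at this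
      exact this
    have hmγ : m ⟨γ, hγirr⟩ ≠ 0 := by
      intro h
      apply hγne
      have := hm ⟨γ, hγirr⟩
      rw [h, Nat.cast_zero] at this
      exact this
    by_contra hne
    have hne' : (⟨β, hβirr⟩ : IrrCharacter G) ≠ ⟨γ, hγirr⟩ := fun h => hne (congrArg Subtype.val h)
    have h0 := haβγ _ _ hmβ hmγ hne'
    have h1 := ha ⟨β, hβirr⟩ ⟨γ, hγirr⟩
    have h2 := ha ⟨β, hβirr⟩ ⟨β, hβirr⟩
    have hβγ' : β * χ = γ * χ := hβγ
    rw [h0] at h1
    rw [haβ _ hmβ] at h2
    simp only at h1 h2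
    rw [← hβγ', h2] at h1
    simp at h1
  · -- SurjOn
    rintro ψ ⟨hψirr, hψne⟩
    rw [hΨ, hΘχ, classInner_sum_left] at hψne
    obtain ⟨β, -, hβ⟩ := Finset.exists_ne_zero_of_sum_ne_zero hψne
    rw [classInner_smul_left] at hβ
    have hmβ : m β ≠ 0 := by
      intro h
      apply hβ
      rw [h, Nat.cast_zero, zero_mul]
    have hin : classInner ((β : G → ℂ) * χ) ψ ≠ 0 := by
      intro h
      apply hβ
      rw [h, mul_zero]
    refine ⟨(β : G → ℂ), ⟨β.2, ?_⟩, ?_⟩
    · rw [hm]
      exact_mod_cast hmβ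
    · by_contra hne
      exact hin (classInner_irr_ne (hirr β hmβ) hψirr hne)

end Cfsg.Agent.S0856
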