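import Mathlib
import Cfsg.Statements.S0857
import Cfsg.Agent.Lib.helper5.GoingDown
import Cfsg.Agent.Lib.helper5.NormalDeg

set_option autoImplicit false
open Cfsg

namespace Cfsg.Agent.S0857

set_option linter.style.haveILetI false

open Cfsg.Agent.Lib
open scoped ComplexConjugate

/-- Let L < K be normal subgroups of the finite group G with no normal subgroup of G strictly between them and with K / L abelian (the commutator subgroup of K lies in L). Let ϑ be an irreducible character of K invariant under conjugation by G. Then the restriction of ϑ to L is irreducible; or it equals e times an irreducible character of L with e ^ 2 equal to the index of L in K; or it is the sum of a family of pairwise distinct irreducible characters of L indexed by a set whose size is the index of L in K. -/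
theorem result {G : Type*} [Group G] [Fintype G] (K L : Subgroup G) [hK : K.Normal] [L.Normal] (hLK : L < K) (hchief : ∀ M : Subgroup G, M.Normal → L ≤ M → M ≤ K → M = L ∨ M = K) (hab : ⁅K, K⁆ ≤ L) (ϑ : K → ℂ) (hϑ : Cfsg.IsIrrCharacter K ϑ) (hinv : ∀ (g : G) (n : K), ϑ ⟨g * n * g⁻¹, hK.conj_mem (n : G) n.2 g⟩ = ϑ n) : Cfsg.IsIrrCharacter L (fun x : L => ϑ ⟨(x : G), hLK.le x.2⟩) ∨ (∃ (φ : L → ℂ) (e : ℕ), Cfsg.IsIrrCharacter L φ ∧ (fun x : L => ϑ ⟨(x : G), hLK.le x.2⟩) = (e : ℂ) • φ ∧ e ^ 2 = L.relIndex K) ∨ (∃ F : Finset (L → ℂ), (∀ φ ∈ F, Cfsg.IsIrrCharacter L φ) ∧ F.card = L.relIndex K ∧ (fun x : L => ϑ ⟨(x : G), hLK.le x.2⟩) = ∑ φ ∈ F, φ) := by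
  classical
  haveI : Fintype K := Fintype.ofFinite K
  haveI : Fintype L := Fintype.ofFinite L
  haveI : Fintype (Cfsg.IrrCharacter L) := Fintype.ofFinite _
  have hLn : L.Normal := inferInstance
  set ϑL : L → ℂ := fun x : L => ϑ ⟨(x : G), hLK.le x.2⟩ with hϑL
  have hϑLchar : Cfsg.IsCharacter L ϑL :=
    helper82.isCharacter_restrict_le L K hLK.le (helper4.isCharacter_of_isIrrCharacter hϑ)
  obtain ⟨M, hM1, hM2, -⟩ := helper82.exists_nat_decomp hϑLchar
  obtain ⟨φ, hφm⟩ : ∃ φ : Cfsg.IrrCharacter L, M φ ≠ 0 := by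
    by_contra hall
    push Not at hall
    have h1 := hM2 1
    simp only [hall, Nat.cast_zero, zero_mul, Finset.sum_const_zero] at h1
    obtain ⟨d, hd, hd1⟩ := helper4.exists_pos_nat_degree hϑ
    have h2 : ϑL 1 = ϑ 1 := rfl
    rw [h2, hd1] at h1
    exact hd.ne' (by exact_mod_cast h1)
  set m := M φ with hm
  have hφ : Cfsg.IsIrrCharacter L (φ : L → ℂ) := φ.2
  have hinner : Cfsg.classInner ϑL (φ : L → ℂ) = m := hM1 φ
  have hm0 : (m : ℂ) ≠ 0 := by exact_mod_cast hφm
  have hinvL : ∀ g : G, helper82.cconj L g ϑL = ϑL := by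
    intro g
    rw [helper82.cconj_eq_iff]
    intro n
    exact hinv g ⟨(n : G), hLK.le n.2⟩
  have hmult : ∀ g : G, Cfsg.classInner ϑL (helper82.cconj L g (φ : L → ℂ)) = m := by
    intro g
    have h1 := helper82.classInner_cconj L g ϑL (φ : L → ℂ)
    rw [hinvL g] at h1
    rw [h1]
    exact hinner
  set T := helper82.inertia L (φ : L → ℂ) with hT
  have hLT : L ≤ T := helper82.le_inertia L (helper4.isClassFunction_of_isIrrCharacter hφ)
  have hKT : ∀ g : G, ∃ k ∈ K, k⁻¹ * g ∈ T := by
    intro g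
    obtain ⟨k, hk, hkg⟩ := helper5.exists_conj_of_constituent K L hLK.le hϑ hφ
      (helper82.isIrrCharacter_cconj L g hφ) (by rw [hinner]; exact hm0)
      (by rw [hmult g]; exact hm0)
    refine ⟨k, hk, ?_⟩
    rw [hT, helper82.mem_inertia, helper82.cconj_mul, hkg, helper82.cconj_inv_cconj]
  have hKTn : (K ⊓ T).Normal := by
    constructor
    intro x hx g
    obtain ⟨k, hk, hkg⟩ := hKT g
    have hy : (k⁻¹ * g) * x * (k⁻¹ * g)⁻¹ ∈ K ⊓ T :=
      ⟨hK.conj_mem x hx.1 _, T.mul_mem (T.mul_mem hkg hx.2) (T.inv_mem hkg)⟩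
    have hcomm : k * ((k⁻¹ * g) * x * (k⁻¹ * g)⁻¹) * k⁻¹ * ((k⁻¹ * g) * x * (k⁻¹ * g)⁻¹)⁻¹
        ∈ K ⊓ T := by
      have h := hab (Subgroup.commutator_mem_commutator hk hy.1)
      rw [commutatorElement_def] at h
      exact ⟨hLK.le h, hLT h⟩
    have hgx : g * x * g⁻¹ =
        (k * ((k⁻¹ * g) * x * (k⁻¹ * g)⁻¹) * k⁻¹ * ((k⁻¹ * g) * x * (k⁻¹ * g)⁻¹)⁻¹) *
          ((k⁻¹ * g) * x * (k⁻¹ * g)⁻¹) := by group
    rw [hgx]
    exact (K ⊓ T).mul_mem hcomm hy
  have hdich := hchief (K ⊓ T) hKTn (le_inf hLK.le hLT) inf_le_left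
  have hnormK := helper4.classInner_irr_self hϑ
  haveI : Fintype (L.subgroupOf K) := Fintype.ofFinite _
  have hresL : Cfsg.classInner (fun n : L.subgroupOf K => ϑ n) (fun n : L.subgroupOf K => ϑ n) =
      Cfsg.classInner ϑL ϑL := by
    rw [← helper82.subRes_restrict L K hLK.le ϑ, helper82.classInner_subRes L K hLK.le]
  rcases hdich with hcase | hcase
  · right; right
    set O := helper82.conjOrbit L (φ : L → ℂ) with hO
    have hMO : ∀ ψ : Cfsg.IrrCharacter L, M ψ = if ψ ∈ O then m else 0 := by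
      intro ψ
      split_ifs with hψ
      · obtain ⟨x, hx⟩ := (helper82.mem_conjOrbit L _ ψ).1 hψ
        have h1 := hM1 ψ
        rw [hx, hmult x] at h1
        exact_mod_cast h1.symm
      · by_contra h0
        apply hψ
        rw [helper82.mem_conjOrbit]
        obtain ⟨k, -, hk⟩ := helper5.exists_conj_of_constituent K L hLK.le hϑ hφ ψ.2
          (by rw [hinner]; exact hm0) (by rw [hM1 ψ]; exact_mod_cast h0)
        exact ⟨k, hk⟩
    have hdecomp : ϑL = (m : ℂ) • ∑ ψ ∈ O, (ψ : L → ℂ) := by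
      funext x
      rw [hM2 x, Pi.smul_apply, Finset.sum_apply, smul_eq_mul, Finset.mul_sum]
      symm
      rw [← Finset.sum_subset (Finset.subset_univ O)]
      · apply Finset.sum_congr rfl
        intro ψ hψ
        rw [hMO ψ, if_pos hψ]
      · intro ψ _ hψ
        rw [hMO ψ, if_neg hψ]
        simp
    have hnorm : Cfsg.classInner ϑL ϑL = ((m ^ 2 * O.card : ℕ) : ℂ) := by
      have h1 : Cfsg.classInner ϑL ϑL =
          Cfsg.classInner ϑL ((m : ℂ) • ∑ ψ ∈ O, (ψ : L → ℂ)) := congrArg _ hdecomp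
      rw [h1, helper4.classInner_smul_right, helper4.classInner_sum_right, Complex.conj_natCast]
      have h2 : ∀ ψ ∈ O, Cfsg.classInner ϑL (ψ : L → ℂ) = (m : ℂ) := by
        intro ψ hψ
        rw [hM1 ψ, hMO ψ, if_pos hψ]
      rw [Finset.sum_congr rfl h2, Finset.sum_const, nsmul_eq_mul]
      push_cast
      ring
    have hcardO : O.card = T.index := helper82.card_conjOrbit L hφ
    obtain ⟨hle, -⟩ := helper5.norm_restrict_le (L.subgroupOf K) ϑ hnormK (m ^ 2 * O.card)
      (by rw [hresL, hnorm])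
    have hle' : m ^ 2 * O.card ≤ L.relIndex K := hle
    have hrel : L.relIndex K ≤ O.card := by
      rw [hcardO, ← hcase, Subgroup.inf_relIndex_left, ← Subgroup.relIndex_top_right T]
      apply Subgroup.relIndex_le_of_le_right le_top
      rw [Subgroup.relIndex_top_right]
      exact Subgroup.index_ne_zero_of_finite
    have hmpos : 0 < m := Nat.pos_of_ne_zero hφm
    have hOpos : 0 < O.card := by
      rw [hcardO]
      exact Nat.pos_of_ne_zero Subgroup.index_ne_zero_of_finite
    have hm1 : m = 1 := by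
      have h3 : m ^ 2 * O.card ≤ O.card := le_trans hle' hrel
      by_contra hne
      have h4 : 2 ≤ m := by omega
      have h5 : 2 ^ 2 * O.card ≤ m ^ 2 * O.card :=
        Nat.mul_le_mul_right _ (Nat.pow_le_pow_left h4 2)
      omega
    have hOrel : O.card = L.relIndex K := by
      rw [hm1] at hle'
      omega
    refine ⟨Finset.image (Subtype.val : Cfsg.IrrCharacter L → (L → ℂ)) O, ?_, ?_, ?_⟩
    · intro f hf
      obtain ⟨ψ, -, rfl⟩ := Finset.mem_image.1 hf
      exact ψ.2
    · rw [Finset.card_image_of_injective _ Subtype.val_injective, hOrel]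
    · rw [Finset.sum_image (fun a _ b _ h => Subtype.ext h), hdecomp, hm1]
      simp
  · have hKT' : K ≤ T := inf_eq_left.1 hcase
    have hval := helper82.clifford_invariant_rel L K hLK.le hφ hKT' hϑ m hinner hφm
    have hϑLφ : ϑL = (m : ℂ) • (φ : L → ℂ) := by
      funext n
      exact hval n
    have hnorm : Cfsg.classInner ϑL ϑL = ((m ^ 2 : ℕ) : ℂ) := by
      rw [hϑLφ, helper4.classInner_smul_left, helper4.classInner_smul_right,
        helper4.classInner_irr_self hφ, Complex.conj_natCast]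
      push_cast
      ring
    let S : Set G := (L : Set G) ∪ {g | ∃ h : g ∈ K, ϑ ⟨g, h⟩ ≠ 0}
    have hSK : S ⊆ K := by
      rintro g (hg | ⟨h, -⟩)
      · exact hLK.le hg
      · exact h
    have hSconj : ∀ g ∈ S, ∀ c : G, c * g * c⁻¹ ∈ S := by
      rintro g (hg | ⟨h, hne⟩) c
      · left
        exact hLn.conj_mem g hg c
      · right
        refine ⟨hK.conj_mem g h c, ?_⟩
        rw [hinv c ⟨g, h⟩]
        exact hne
    have hdichV := hchief (Subgroup.normalClosure S) inferInstance
      (fun x hx => Subgroup.subset_normalClosure (Or.inl hx))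
      (Subgroup.normalClosure_le_normal hSK)
    rcases hdichV with hV | hV
    · right; left
      have hvan : ∀ h : K, h ∉ L.subgroupOf K → ϑ h = 0 := by
        intro h hh
        by_contra hne
        apply hh
        rw [Subgroup.mem_subgroupOf, ← hV]
        exact Subgroup.subset_normalClosure (Or.inr ⟨h.2, hne⟩)
      obtain ⟨-, heq⟩ := helper5.norm_restrict_le (L.subgroupOf K) ϑ hnormK (m ^ 2)
        (by rw [hresL, hnorm])
      exact ⟨φ, m, hφ, hϑLφ, heq hvan⟩
    · left
      have hab' : ∀ x y : K, x * y * x⁻¹ * y⁻¹ ∈ L.subgroupOf K := by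
        intro x y
        rw [Subgroup.mem_subgroupOf]
        have h := hab (Subgroup.commutator_mem_commutator x.2 y.2)
        rw [commutatorElement_def] at h
        exact h
      have hgen : ∀ lam : K →* ℂˣ, (∀ x ∈ L.subgroupOf K, lam x = 1) →
          (∀ h, ϑ h ≠ 0 → lam h = 1) → lam = 1 := by
        intro lam h1 h2
        have hSle : Subgroup.normalClosure S ≤ lam.ker.map K.subtype := by
          rw [Subgroup.normalClosure, Subgroup.closure_le]
          intro x hx
          obtain ⟨b, hb, hconj⟩ := Group.mem_conjugatesOfSet_iff.1 hx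
          obtain ⟨c, hc⟩ := isConj_iff.1 hconj
          have hxS : x ∈ S := hc ▸ hSconj b hb c
          rcases hxS with hxL | ⟨hxK, hxne⟩
          · exact ⟨⟨x, hLK.le hxL⟩,
              MonoidHom.mem_ker.2 (h1 _ (Subgroup.mem_subgroupOf.2 hxL)), rfl⟩
          · exact ⟨⟨x, hxK⟩, MonoidHom.mem_ker.2 (h2 _ hxne), rfl⟩
        ext k
        have hk : (k : G) ∈ Subgroup.normalClosure S := by
          rw [hV]
          exact k.2
        obtain ⟨k', hk', hkk⟩ := hSle hk
        have hkk' : k' = k := Subtype.ext hkk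
        rw [← hkk', MonoidHom.mem_ker.1 hk']
        rfl
      have hone := helper5.norm_restrict_eq_one (L.subgroupOf K) hab' ϑ hϑ hgen
      rw [hresL, hnorm] at hone
      have hm1 : m = 1 := by
        have h3 : m ^ 2 = 1 := by exact_mod_cast hone
        rcases Nat.pow_eq_one.1 h3 with h | h
        · exact h
        · exact absurd h two_ne_zero
      rw [hϑLφ, hm1]
      simpa using hφ

end Cfsg.Agent.S0857
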