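import Mathlib
import Cfsg.Statements.S0858
import Cfsg.Agent.S0857
import Cfsg.Agent.S0176

set_option autoImplicit false
open Cfsg

namespace Cfsg.Agent.S0858

set_option linter.style.haveILetI false

open Cfsg.Agent.Lib
open scoped ComplexConjugate

universe u

/-- Irreducibility is transported along a group isomorphism. -/
theorem irr_comp_equiv {H₁ H₂ : Type*} [Group H₁] [Group H₂] (e : H₁ ≃* H₂) {ψ : H₂ → ℂ}
    (hψ : Cfsg.IsIrrCharacter H₂ ψ) : Cfsg.IsIrrCharacter H₁ (fun h => ψ (e h)) := by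
  obtain ⟨n, ρ, hirr, rfl⟩ := hψ
  exact ⟨n, helper82.compRep e.toMonoidHom ρ,
    (helper82.isIrreducible_comp_iff _ e.surjective ρ).mpr hirr, rfl⟩

/-- A subgroup of a solvable group contained in its own commutator subgroup is trivial. -/
theorem eq_bot_of_le_commutator {Q : Type*} [Group Q] [hQ : Group.IsSolvable Q] (X : Subgroup Q)
    (h : X ≤ ⁅X, X⁆) : X = ⊥ := by
  obtain ⟨n, hn⟩ := hQ.solvable
  have key : ∀ k, X ≤ derivedSeries Q k := by
    intro k
    induction k with
    | zero => exact le_top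
    | succ k ih => exact h.trans (Subgroup.commutator_mono ih ih)
  exact eq_bot_iff.2 (hn ▸ key n)

/-- Below a normal subgroup `K > N` with `G/N` solvable there is an abelian chief factor. -/
theorem exists_chief {G : Type*} [Group G] [Finite G] (N : Subgroup G) [hN : N.Normal]
    (hsolv : Group.IsSolvable (G ⧸ N)) (K : Subgroup G) [hK : K.Normal] (hNK : N < K) :
    ∃ L : Subgroup G, L.Normal ∧ N ≤ L ∧ L < K ∧ ⁅K, K⁆ ≤ L ∧
      ∀ M : Subgroup G, M.Normal → L ≤ M → M ≤ K → M = L ∨ M = K := by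
  have hL₀n : (N ⊔ ⁅K, K⁆).Normal := inferInstance
  have hL₀K : N ⊔ ⁅K, K⁆ ≤ K := sup_le hNK.le (Subgroup.commutator_le_left K K)
  have hL₀ne : N ⊔ ⁅K, K⁆ ≠ K := by
    intro heq
    have h1 : K.map (QuotientGroup.mk' N) ≤
        ⁅K.map (QuotientGroup.mk' N), K.map (QuotientGroup.mk' N)⁆ := by
      rw [← Subgroup.map_commutator]
      conv_lhs => rw [← heq]
      rw [Subgroup.map_sup, QuotientGroup.map_mk'_self, bot_sup_eq]
    have h2 := eq_bot_of_le_commutator _ h1
    have h3 : K ≤ N := by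
      intro x hx
      have h4 : QuotientGroup.mk' N x ∈ K.map (QuotientGroup.mk' N) := ⟨x, hx, rfl⟩
      rw [h2, Subgroup.mem_bot] at h4
      exact (QuotientGroup.eq_one_iff x).1 h4
    exact absurd (le_antisymm h3 hNK.le) hNK.ne'
  let 𝒮 : Set (Subgroup G) := {M | M.Normal ∧ N ⊔ ⁅K, K⁆ ≤ M ∧ M < K}
  obtain ⟨L, hL⟩ := Set.Finite.exists_maximal (Set.toFinite 𝒮)
    ⟨N ⊔ ⁅K, K⁆, hL₀n, le_rfl, lt_of_le_of_ne hL₀K hL₀ne⟩
  obtain ⟨⟨hLn, hL₀L, hLK⟩, hmax⟩ := hL
  refine ⟨L, hLn, le_sup_left.trans hL₀L, hLK, le_sup_right.trans hL₀L, ?_⟩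
  intro M hMn hLM hMK
  by_cases hMK' : M = K
  · exact Or.inr hMK'
  · left
    have hM : M ∈ 𝒮 := ⟨hMn, hL₀L.trans hLM, lt_of_le_of_ne hMK hMK'⟩
    exact le_antisymm (hmax hM hLM) hLM

/-- Induction in stages through a subgroup of a subgroup, in terms of the image subgroup. -/
theorem indFun_map_subtype {G : Type u} [Group G] [Fintype G] (T : Subgroup G) [Fintype T]
    (H' : Subgroup T) (η : H' → ℂ) :
    Cfsg.indFun (H'.map T.subtype)
        (fun h => η ((H'.equivMapOfInjective T.subtype T.subtype_injective).symm h)) =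
      Cfsg.indFun T (Cfsg.indFun H' η) := by
  rw [← helper4.indFun_trans (H'.map T.subtype) T (Subgroup.map_subtype_le H')]
  congr 1
  apply S0176.indFun_congr_subgroup
  · exact Subgroup.comap_map_eq_self_of_injective T.subtype_injective H'
  · intro y ha hb
    show η ((H'.equivMapOfInjective T.subtype T.subtype_injective).symm ⟨(y : G), _⟩) =
      η ⟨y, hb⟩
    congr 1
    rw [MulEquiv.symm_apply_eq]
    exact Subtype.ext rfl

/-- The hypothesis on chief factors, for a normal subgroup `N` of `G`. -/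
def ChiefHyp {G : Type*} [Group G] (N : Subgroup G) : Prop :=
  ∀ (H K L : Subgroup G), N ≤ L → L < K → K ≤ H → (∀ h ∈ H, ∀ k ∈ K, h * k * h⁻¹ ∈ K) →
    (∀ h ∈ H, ∀ l ∈ L, h * l * h⁻¹ ∈ L) →
    (∀ M : Subgroup G, L ≤ M → M ≤ K → (∀ h ∈ H, ∀ m ∈ M, h * m * h⁻¹ ∈ M) → M = L ∨ M = K) →
    ¬ IsSquare (L.relIndex K)

/-- Key step: if `χ_N` is reducible then `χ` is induced from a proper subgroup containing
`N`. -/
theorem step {G : Type u} [Group G] [Fintype G] (N : Subgroup G) [hN : N.Normal]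
    (hsolv : Group.IsSolvable (G ⧸ N)) (hchief : ChiefHyp N) (χ : G → ℂ)
    (hχ : Cfsg.IsIrrCharacter G χ) (hred : ¬ Cfsg.IsIrrCharacter N (fun n : N => χ n)) :
    ∃ T : Subgroup G, N ≤ T ∧ T ≠ ⊤ ∧ ∃ ψ : T → ℂ, Cfsg.IsIrrCharacter T ψ ∧
      Cfsg.indFun T ψ = χ := by
  classical
  have hcf := helper4.isClassFunction_of_isIrrCharacter hχ
  let 𝒮 : Set (Subgroup G) :=
    {M | M.Normal ∧ N ≤ M ∧ Cfsg.IsIrrCharacter M (fun m : M => χ m)}
  have htop : (⊤ : Subgroup G) ∈ 𝒮 :=
    ⟨inferInstance, le_top, irr_comp_equiv (Subgroup.topEquiv : (⊤ : Subgroup G) ≃* G) hχ⟩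
  obtain ⟨K, ⟨hKn, hNK, hKirr⟩, hKmin⟩ := Set.Finite.exists_minimal (Set.toFinite 𝒮) ⟨⊤, htop⟩
  have hKN : K ≠ N := by
    rintro rfl
    exact hred hKirr
  have hNK' : N < K := lt_of_le_of_ne hNK (Ne.symm hKN)
  haveI := hKn
  obtain ⟨L, hLn, hNL, hLK, hab, hch⟩ := exists_chief N hsolv K hNK'
  haveI := hLn
  haveI : Fintype L := Fintype.ofFinite L
  have hLred : ¬ Cfsg.IsIrrCharacter L (fun l : L => χ l) := by
    intro h
    have h1 : L ∈ 𝒮 := ⟨hLn, hNL, h⟩
    exact absurd (hKmin h1 hLK.le) (not_le_of_gt hLK)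
  have hinv : ∀ (g : G) (n : K), (fun k : K => χ k) ⟨g * n * g⁻¹, hKn.conj_mem (n : G) n.2 g⟩ =
      (fun k : K => χ k) n := fun g n => hcf n g
  rcases S0857.result K L hLK hch hab (fun k : K => χ k) hKirr hinv with h | h | h
  · exact absurd h hLred
  · obtain ⟨φ, e, -, -, hsq⟩ := h
    exfalso
    refine hchief ⊤ K L hNL hLK le_top (fun h _ k hk => hKn.conj_mem k hk h)
      (fun h _ l hl => hLn.conj_mem l hl h) ?_ ⟨e, by rw [← hsq, sq]⟩
    intro M hLM hMK hM
    exact hch M ⟨fun m hm g => hM g (Subgroup.mem_top g) m hm⟩ hLM hMK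
  · obtain ⟨F, hF, hcard, hsum⟩ := h
    have hsum' : (fun l : L => χ l) = ∑ φ ∈ F, φ := hsum
    have hrel1 : L.relIndex K ≠ 1 := fun h1 =>
      absurd (Subgroup.relIndex_eq_one.1 h1) (not_le_of_gt hLK)
    have hrel0 : L.relIndex K ≠ 0 := by
      intro h0
      have h1 : (L.subgroupOf K).index = 0 := h0
      exact Subgroup.index_ne_zero_of_finite h1
    have hF2 : 1 < F.card := by omega
    obtain ⟨φ₁, hφ₁, φ₂, hφ₂, hne⟩ := Finset.one_lt_card.1 hF2
    have hinner : ∀ φ ∈ F, Cfsg.classInner (fun l : L => χ l) φ = 1 := by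
      intro φ hφ
      rw [hsum', helper4.classInner_sum_left]
      rw [Finset.sum_eq_single φ]
      · exact helper4.classInner_irr_self (hF φ hφ)
      · intro b hb hbφ
        exact helper4.classInner_irr_ne (hF b hb) (hF φ hφ) hbφ
      · intro h
        exact absurd hφ h
    have hLT : L ≤ helper82.inertia L φ₁ :=
      helper82.le_inertia L (helper4.isClassFunction_of_isIrrCharacter (hF φ₁ hφ₁))
    have hT : helper82.inertia L φ₁ ≠ ⊤ := by
      intro htop
      haveI : Fintype (Cfsg.IrrCharacter L) := Fintype.ofFinite _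
      have hinv' : ∀ g : G, helper82.cconj L g φ₁ = φ₁ := fun g =>
        (helper82.mem_inertia L φ₁ g).mp (htop ▸ Subgroup.mem_top g)
      have hval := helper82.clifford_invariant L hχ (hF φ₁ hφ₁) hinv' 1
        (by rw [hinner φ₁ hφ₁]; simp) one_ne_zero
      have h2 : (fun l : L => χ l) = φ₁ := by
        funext l
        rw [hval l]
        simp
      have h3 := hinner φ₂ hφ₂
      rw [h2, helper4.classInner_irr_ne (hF φ₁ hφ₁) (hF φ₂ hφ₂) hne] at h3
      exact zero_ne_one h3
    haveI : Fintype (helper82.inertia L φ₁) := Fintype.ofFinite _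
    obtain ⟨ψ, hψ, hind, -⟩ := helper82.clifford_corr_surj L (helper82.inertia L φ₁) hLT
      (hF φ₁ hφ₁) rfl hχ (by rw [hinner φ₁ hφ₁]; exact one_ne_zero)
    exact ⟨helper82.inertia L φ₁, hNL.trans hLT, hT, ψ, hψ, hind⟩

theorem aux : ∀ (n : ℕ) (G : Type u) [Group G] [Fintype G] (N : Subgroup G) [N.Normal],
    Nat.card G ≤ n → Group.IsSolvable (G ⧸ N) → ChiefHyp N →
    ∀ χ : G → ℂ, Cfsg.IsIrrCharacter G χ →
    ∃ (H : Subgroup G) (hNH : N ≤ H) (ψ : H → ℂ), Cfsg.IsIrrCharacter H ψ ∧
      Cfsg.indFun H ψ = χ ∧ Cfsg.IsIrrCharacter N (fun n : N => ψ ⟨(n : G), hNH n.2⟩) := by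
  intro n
  induction n with
  | zero =>
    intro G _ _ N _ hcard
    exact absurd hcard (by have := Nat.card_pos (α := G); omega)
  | succ n ih =>
    intro G _ _ N hN hcard hsolv hchief χ hχ
    classical
    by_cases hirrN : Cfsg.IsIrrCharacter N (fun n : N => χ n)
    · exact ⟨⊤, le_top, fun h => χ h,
        irr_comp_equiv (Subgroup.topEquiv : (⊤ : Subgroup G) ≃* G) hχ,
        S0176.indFun_top χ (helper4.isClassFunction_of_isIrrCharacter hχ), hirrN⟩
    · obtain ⟨T, hNT, hT, ψ, hψ, hind⟩ := step N hsolv hchief χ hχ hirrN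
      haveI : Fintype T := Fintype.ofFinite T
      have hTcard : Nat.card T ≤ n := by
        have hlt : Nat.card T < Nat.card G :=
          lt_of_not_ge (fun h => hT (Subgroup.eq_top_of_le_card _ h))
        omega
      have hsolv' : Group.IsSolvable (T ⧸ N.subgroupOf T) := by
        let g : T →* G ⧸ N := (QuotientGroup.mk' N).comp T.subtype
        have hker : g.ker = N.subgroupOf T := by
          ext x
          rw [MonoidHom.mem_ker, Subgroup.mem_subgroupOf]
          exact QuotientGroup.eq_one_iff (x : G)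
        have h1 : Group.IsSolvable (T ⧸ g.ker) :=
          Group.isSolvable_of_isSolvable_injective (QuotientGroup.kerLift_injective g)
        exact Group.isSolvable_of_surjective (f := (QuotientGroup.quotientMulEquivOfEq hker).toMonoidHom)
          (QuotientGroup.quotientMulEquivOfEq hker).surjective
      have hchief' : ChiefHyp (N.subgroupOf T) := by
        intro H K L hNL hLK hKH hHK hHL hch
        have h1 := hchief (H.map T.subtype) (K.map T.subtype) (L.map T.subtype) ?_ ?_ ?_ ?_ ?_ ?_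
        · rwa [Subgroup.relIndex_map_map_of_injective _ _ T.subtype_injective] at h1
        · intro x hx
          exact ⟨⟨x, hNT hx⟩, hNL (Subgroup.mem_subgroupOf.2 hx), rfl⟩
        · exact (Subgroup.map_lt_map_iff_of_injective T.subtype_injective).2 hLK
        · exact Subgroup.map_mono hKH
        · rintro _ ⟨h, hh, rfl⟩ _ ⟨k, hk, rfl⟩
          exact ⟨h * k * h⁻¹, hHK h hh k hk, by simp⟩
        · rintro _ ⟨h, hh, rfl⟩ _ ⟨l, hl, rfl⟩
          exact ⟨h * l * h⁻¹, hHL h hh l hl, by simp⟩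
        · intro M hLM hMK hHM
          have hMT : M ≤ T := hMK.trans (Subgroup.map_subtype_le K)
          have h2 := hch (M.subgroupOf T) ?_ ?_ ?_
          · rcases h2 with h2 | h2
            · left
              rw [← Subgroup.map_subgroupOf_eq_of_le hMT, h2]
            · right
              rw [← Subgroup.map_subgroupOf_eq_of_le hMT, h2]
          · intro x hx
            exact Subgroup.mem_subgroupOf.2 (hLM ⟨x, hx, rfl⟩)
          · intro x hx
            obtain ⟨k, hk, hkx⟩ := hMK (Subgroup.mem_subgroupOf.1 hx)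
            have hkx' : k = x := Subtype.ext hkx
            exact hkx' ▸ hk
          · intro h hh m hm
            rw [Subgroup.mem_subgroupOf]
            have h3 := hHM h ⟨h, hh, rfl⟩ m (Subgroup.mem_subgroupOf.1 hm)
            simpa using h3
      obtain ⟨H', hN'H', η, hη, hindη, hηN⟩ :=
        ih T (N.subgroupOf T) hTcard hsolv' hchief' ψ hψ
      have hNH : N ≤ H'.map T.subtype := by
        intro x hx
        exact ⟨⟨x, hNT hx⟩, hN'H' (Subgroup.mem_subgroupOf.2 hx), rfl⟩
      refine ⟨H'.map T.subtype, hNH,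
        fun h => η ((H'.equivMapOfInjective T.subtype T.subtype_injective).symm h),
        irr_comp_equiv (H'.equivMapOfInjective T.subtype T.subtype_injective).symm hη, ?_, ?_⟩
      · rw [indFun_map_subtype, hindη, hind]
      · have h1 := irr_comp_equiv (Subgroup.subgroupOfEquivOfLe hNT).symm hηN
        have h2 : (fun n : N => η ((H'.equivMapOfInjective T.subtype T.subtype_injective).symm
            ⟨(n : G), hNH n.2⟩)) =
            (fun h : N => (fun n : N.subgroupOf T => η ⟨(n : T), hN'H' n.2⟩)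
              ((Subgroup.subgroupOfEquivOfLe hNT).symm h)) := by
          funext n
          show η _ = η _
          congr 1
          rw [MulEquiv.symm_apply_eq]
          exact Subtype.ext rfl
        rw [h2]
        exact h1

/-- Let N be a normal subgroup of the finite group G with G / N solvable, and suppose that for every subgroup H containing N and all subgroups L < K between N and H that are normal in H with no subgroup normal in H strictly between them, the index of L in K is not a perfect square. Then every irreducible character χ of G is induced from an irreducible character ψ of some subgroup H containing N such that the restriction of ψ to N is irreducible. -/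
theorem result {G : Type*} [Group G] [Fintype G] (N : Subgroup G) [N.Normal] (hsolv : Group.IsSolvable (G ⧸ N)) (hchief : ∀ (H K L : Subgroup G), N ≤ L → L < K → K ≤ H → (∀ h ∈ H, ∀ k ∈ K, h * k * h⁻¹ ∈ K) → (∀ h ∈ H, ∀ l ∈ L, h * l * h⁻¹ ∈ L) → (∀ M : Subgroup G, L ≤ M → M ≤ K → (∀ h ∈ H, ∀ m ∈ M, h * m * h⁻¹ ∈ M) → M = L ∨ M = K) → ¬ IsSquare (L.relIndex K)) (χ : G → ℂ) (hχ : Cfsg.IsIrrCharacter G χ) : ∃ (H : Subgroup G) (hNH : N ≤ H) (ψ : H → ℂ), Cfsg.IsIrrCharacter H ψ ∧ Cfsg.indFun H ψ = χ ∧ Cfsg.IsIrrCharacter N (fun n : N => ψ ⟨(n : G), hNH n.2⟩) := by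
  exact aux (Nat.card G) G N le_rfl hsolv hchief χ hχ

end Cfsg.Agent.S0858
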