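import Cfsg.Statements.S0860
import Cfsg.Agent.Lib.helper84.Brauer

set_option autoImplicit false
open Cfsg

namespace Cfsg.Agent.S0860

open Cfsg.Agent.Lib.helper83 Cfsg.Agent.Lib.helper84

/-- Let a group A act on the set of irreducible characters and on the set of conjugacy classes of a finite group G in such a way that (a • χ) evaluated on the class a • C equals χ evaluated on C, for all a, χ and C. Then every element of A fixes exactly as many irreducible characters as it fixes conjugacy classes. -/
theorem result {G : Type*} [Group G] [Finite G] {A : Type*} [Group A] [MulAction A (Cfsg.IrrCharacter G)] [MulAction A (ConjClasses G)] (hcompat : ∀ (a : A) (χ : Cfsg.IrrCharacter G) (g g' : G), ConjClasses.mk g' = a • ConjClasses.mk g → ((a • χ : Cfsg.IrrCharacter G) : G → ℂ) g' = (χ : G → ℂ) g) (a : A) : Nat.card {χ : Cfsg.IrrCharacter G // a • χ = χ} = Nat.card {C : ConjClasses G // a • C = C} := by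
  classical
  have hex : ∀ g : G, ∃ x : G, ConjClasses.mk x = a⁻¹ • ConjClasses.mk g :=
    fun g => ConjClasses.mk_surjective _
  choose τ hτ using hex
  have hτ' : ∀ g : G, ConjClasses.mk g = a • ConjClasses.mk (τ g) := by
    intro g
    rw [hτ, smul_inv_smul]
  apply card_irr_fixed_eq τ (fun χ => a • χ) (fun χ g => hcompat a χ (τ g) g (hτ' g))
    (fun C => a • C = C)
  intro g
  rw [← ConjClasses.mk_eq_mk_iff_isConj, hτ]
  constructor
  · intro h
    rw [eq_inv_smul_iff]
    exact h
  · intro h
    rw [eq_inv_smul_iff] at h
    exact h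

end Cfsg.Agent.S0860
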