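import Cfsg.Statements.S4955
import Cfsg.Agent.Lib.helper79.GaloisSum
import Cfsg.Agent.Lib.helper82.Ito
import Cfsg.Agent.Lib.helper82.CharQuot
import Cfsg.Agent.Lib.helper4.CharTheory

set_option autoImplicit false
open Cfsg

namespace Cfsg.Agent.S4955

open scoped ComplexConjugate
open Cfsg.Agent.Lib

/-- Column orthogonality at a single element, in real form. -/
theorem sum_irr_normSq {G : Type*} [Group G] [Finite G] [Fintype (Cfsg.IrrCharacter G)] (g : G) :
    ∑ χ : Cfsg.IrrCharacter G, Complex.normSq ((χ : G → ℂ) g) =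
      (Nat.card (Subgroup.centralizer ({g} : Set G)) : ℝ) := by
  have h2 := helper4.sum_irr_mul_conj_of_isConj (IsConj.refl g)
  have h3 : ((∑ χ : Cfsg.IrrCharacter G, Complex.normSq ((χ : G → ℂ) g) : ℝ) : ℂ) =
      ((Nat.card (Subgroup.centralizer ({g} : Set G)) : ℝ) : ℂ) := by
    push_cast
    rw [← h2]
    exact Finset.sum_congr rfl (fun χ _ => (Complex.mul_conj _).symm)
  exact_mod_cast h3

/-- The number of conjugacy classes is invariant under group isomorphism. -/
theorem card_conjClasses_congr {A B : Type*} [Group A] [Group B] (e : A ≃* B) :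
    Nat.card (ConjClasses A) = Nat.card (ConjClasses B) := by
  refine Nat.card_congr ⟨ConjClasses.map e.toMonoidHom, ConjClasses.map e.symm.toMonoidHom, ?_, ?_⟩
  · intro c
    obtain ⟨a, rfl⟩ := ConjClasses.mk_surjective c
    change ConjClasses.mk (e.symm (e a)) = ConjClasses.mk a
    rw [MulEquiv.symm_apply_apply]
  · intro c
    obtain ⟨a, rfl⟩ := ConjClasses.mk_surjective c
    change ConjClasses.mk (e (e.symm a)) = ConjClasses.mk a
    rw [MulEquiv.apply_symm_apply]

/-- Let X be a finite group with an abelian normal Sylow p-subgroup V (a normal p-subgroup of index prime to p in which any two elements commute), and let G be a complement to V in X. Then for every v in V, writing C for the centralizer of v in G, the number k(X) of conjugacy classes of X satisfies k(X) ≤ (order of C)·(order of V) − ((order of G) − k(G)); the statement is written with the subtracted term moved to the left. In particular, if some v in V is centralized by no nonidentity element of G, then k(X) is at most the order of V. -/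
theorem result {X : Type*} [Group X] [Finite X] (p : ℕ) [Fact p.Prime] (V : Subgroup X) [V.Normal] (hVp : IsPGroup p V) (hidx : ¬ p ∣ V.index) (hab : ∀ a ∈ V, ∀ b ∈ V, a * b = b * a) (G : Subgroup X) (hGV : Subgroup.IsComplement' V G) (v : X) (hv : v ∈ V) : Nat.card (ConjClasses X) + Nat.card G ≤ Nat.card ↥(G ⊓ Subgroup.centralizer ({v} : Set X)) * Nat.card V + Nat.card (ConjClasses G) := by
  classical
  haveI : Fintype (Cfsg.IrrCharacter X) := Fintype.ofFinite _
  haveI : Fintype (Cfsg.IrrCharacter (X ⧸ V)) := Fintype.ofFinite _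
  set C := Subgroup.centralizer ({v} : Set X) with hC
  have hVC : V ≤ C := by
    intro u hu
    rw [hC, Subgroup.mem_centralizer_iff]
    intro y hy
    rw [Set.mem_singleton_iff] at hy
    rw [hy]
    exact hab v hv u hu
  -- |C| ≤ |G ⊓ C| * |V|
  have hcardC : Nat.card C ≤ Nat.card ↥(G ⊓ C) * Nat.card V := by
    let f : ↥(G ⊓ C) × ↥V → ↥C := fun q =>
      ⟨(q.2 : X) * (q.1 : X), C.mul_mem (hVC q.2.2) q.1.2.2⟩
    have hf : Function.Surjective f := by
      intro x
      have hx : (x : X) ∈ ((V ⊔ G : Subgroup X) : Set X) := by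
        rw [hGV.sup_eq_top]; trivial
      rw [Subgroup.normal_mul] at hx
      obtain ⟨u, hu, g, hg, hug⟩ := Set.mem_mul.mp hx
      have hgC : g ∈ C := by
        have : g = u⁻¹ * (x : X) := by rw [← hug]; group
        rw [this]
        exact C.mul_mem (C.inv_mem (hVC hu)) x.2
      exact ⟨(⟨g, ⟨hg, hgC⟩⟩, ⟨u, hu⟩), Subtype.ext hug⟩
    have := Nat.card_le_card_of_surjective f hf
    rwa [Nat.card_prod] at this
  -- column orthogonality
  have hcol := sum_irr_normSq (G := X) v
  rw [← hC] at hcol
  -- the characters with V in the kernel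
  set Sc : Finset (Cfsg.IrrCharacter X) :=
    Finset.univ.filter (fun χ => ∀ x ∈ V, (χ : X → ℂ) x = (χ : X → ℂ) 1) with hSc
  set S : Finset (Cfsg.IrrCharacter X) :=
    Finset.univ.filter (fun χ => ¬ ∀ x ∈ V, (χ : X → ℂ) x = (χ : X → ℂ) 1) with hS
  have hsplit : ∑ χ : Cfsg.IrrCharacter X, Complex.normSq ((χ : X → ℂ) v) =
      ∑ χ ∈ Sc, Complex.normSq ((χ : X → ℂ) v) + ∑ χ ∈ S, Complex.normSq ((χ : X → ℂ) v) :=
    (Finset.sum_filter_add_sum_filter_not Finset.univ _ _).symm
  have hcardsplit : Nat.card (Cfsg.IrrCharacter X) = Sc.card + S.card := by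
    rw [Nat.card_eq_fintype_card, ← Finset.card_univ]
    exact (Finset.card_filter_add_card_filter_not _).symm
  -- Sc part
  have hScsum : ∑ χ ∈ Sc, Complex.normSq ((χ : X → ℂ) v) = (Nat.card G : ℝ) := by
    have h1 : ∑ χ ∈ Sc, Complex.normSq ((χ : X → ℂ) v) =
        ∑ χ ∈ Sc, Complex.normSq ((χ : X → ℂ) 1) := by
      refine Finset.sum_congr rfl (fun χ hχ => ?_)
      rw [(Finset.mem_filter.mp hχ).2 v hv]
    have h2 : ∑ χ ∈ Sc, Complex.normSq ((χ : X → ℂ) 1) =
        ∑ χ : {χ : Cfsg.IrrCharacter X // ∀ x ∈ V, (χ : X → ℂ) x = (χ : X → ℂ) 1},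
          Complex.normSq ((χ.1 : X → ℂ) 1) :=
      Finset.sum_subtype Sc (fun χ => by simp [hSc]) (fun χ => Complex.normSq ((χ : X → ℂ) 1))
    have h3 : ∑ χ : {χ : Cfsg.IrrCharacter X // ∀ x ∈ V, (χ : X → ℂ) x = (χ : X → ℂ) 1},
          Complex.normSq ((χ.1 : X → ℂ) 1) =
        ∑ ψ : Cfsg.IrrCharacter (X ⧸ V), Complex.normSq ((ψ : X ⧸ V → ℂ) 1) := by
      refine Fintype.sum_equiv (helper82.irrQuotEquiv V) _ _ (fun χ => ?_)
      have := helper82.irrQuotEquiv_apply V χ (1 : X)
      rw [← this]
      rfl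
    have h4 := sum_irr_normSq (G := X ⧸ V) 1
    have h5 : Nat.card (Subgroup.centralizer ({1} : Set (X ⧸ V))) = Nat.card G := by
      have h6 : Subgroup.centralizer ({1} : Set (X ⧸ V)) = ⊤ := by
        rw [eq_top_iff]
        intro y _
        rw [Subgroup.mem_centralizer_iff]
        intro z hz
        rw [Set.mem_singleton_iff] at hz
        rw [hz, one_mul, mul_one]
      rw [h6, Subgroup.card_top, ← Subgroup.index_eq_card, hGV.symm.index_eq_card]
    rw [h1, h2, h3, h4, h5]
  have hSccard : Sc.card = Nat.card (ConjClasses G) := by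
    have h1 : Sc.card =
        Nat.card {χ : Cfsg.IrrCharacter X // ∀ x ∈ V, (χ : X → ℂ) x = (χ : X → ℂ) 1} := by
      rw [Nat.card_eq_fintype_card, Fintype.card_subtype]
    rw [h1, Nat.card_congr (helper82.irrQuotEquiv V), helper4.card_irr_eq_card_conjClasses]
    exact card_conjClasses_congr hGV.symm.QuotientMulEquiv
  -- S part
  have hSsum : (S.card : ℝ) ≤ ∑ χ ∈ S, Complex.normSq ((χ : X → ℂ) v) := by
    have hstab : ∀ (k : ℕ) (hk : k.Coprime (Nat.card X)) (χ : Cfsg.IrrCharacter X),
        helper79.irrPow k hk χ ∈ S ↔ χ ∈ S := by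
      intro k hk χ
      simp only [hS, Finset.mem_filter, Finset.mem_univ, true_and]
      apply not_congr
      constructor
      · intro h y hy
        have hkV : (Nat.card V).Coprime k :=
          Nat.Coprime.coprime_dvd_left (Subgroup.card_subgroup_dvd_card V) hk.symm
        obtain ⟨x, hx⟩ := (powCoprime hkV).surjective ⟨y, hy⟩
        have hx' : (x : X) ^ k = y := by
          have := congrArg Subtype.val hx
          simpa [powCoprime_apply] using this
        have h1 := h x x.2
        rw [helper79.irrPow_apply, helper79.irrPow_apply, one_pow, hx'] at h1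
        exact h1
      · intro h x hx
        rw [helper79.irrPow_apply, helper79.irrPow_apply, one_pow]
        exact h (x ^ k) (V.pow_mem hx k)
    have hne : ∀ χ ∈ S, (χ : X → ℂ) v ≠ 0 := by
      intro χ _
      obtain ⟨d, ρ, hirr, hρ⟩ := χ.2
      haveI := hirr
      have hito := helper82.ito ρ V hab
      have hpd : ¬ p ∣ Module.finrank ℂ (Fin d → ℂ) := fun h => hidx (h.trans hito)
      obtain ⟨a, ha⟩ := hVp ⟨v, hv⟩
      have ha' : v ^ (p ^ a) = 1 := by
        have := congrArg Subtype.val ha
        simpa using this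
      rw [← hρ]
      exact helper79.character_ne_zero_of_pow_prime_pow_eq_one ρ p a v ha' hpd
    have := helper79.card_le_sum_norm_sq_of_galois_stable S hstab v hne
    refine this.trans (le_of_eq ?_)
    exact Finset.sum_congr rfl (fun χ _ => (Complex.normSq_eq_norm_sq _).symm)
  -- assemble
  have hkX : Nat.card (ConjClasses X) = Sc.card + S.card := by
    rw [← helper4.card_irr_eq_card_conjClasses, hcardsplit]
  have hfinal : (Nat.card (ConjClasses X) : ℝ) + (Nat.card G : ℝ) ≤
      (Nat.card ↥(G ⊓ C) : ℝ) * (Nat.card V : ℝ) + (Nat.card (ConjClasses G) : ℝ) := by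
    have h1 : (Nat.card C : ℝ) ≤ (Nat.card ↥(G ⊓ C) : ℝ) * (Nat.card V : ℝ) := by
      exact_mod_cast hcardC
    have h2 : (Nat.card (ConjClasses X) : ℝ) = (Nat.card (ConjClasses G) : ℝ) + (S.card : ℝ) := by
      rw [hkX, hSccard]; push_cast; ring
    rw [hsplit, hScsum] at hcol
    linarith
  exact_mod_cast hfinal

end Cfsg.Agent.S4955
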