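-- Statement S0864
import Cfsg.Statements.S0864
import Cfsg.Agent.Lib.helper19.LinExt
import Mathlib

set_option autoImplicit false
open Cfsg

namespace Cfsg.Agent.S0864

open Cfsg.Agent.Lib.helper19

/-- Let N be a normal subgroup of the finite group G and λ a character of N of degree 1 invariant under conjugation by G. Suppose that for every prime p dividing the order of λ (in the group of functions under pointwise multiplication) there is a subgroup H containing N, of index prime to p and with the index of N in H a power of p, together with a character of H of degree 1 restricting to λ. Then λ is the restriction of a character of G of degree 1. -/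
theorem result {G : Type*} [Group G] [Finite G] (N : Subgroup G) [hN : N.Normal] (lam : N → ℂ) (hlam : Cfsg.IsCharacter N lam ∧ lam 1 = 1) (hinv : ∀ (g : G) (n : N), lam ⟨g * n * g⁻¹, hN.conj_mem (n : G) n.2 g⟩ = lam n) (hsyl : ∀ p : ℕ, p.Prime → p ∣ orderOf lam → ∃ (H : Subgroup G) (hNH : N ≤ H) (ν : H → ℂ), Nat.Coprime H.index p ∧ (∃ k : ℕ, N.relIndex H = p ^ k) ∧ Cfsg.IsCharacter H ν ∧ ν 1 = 1 ∧ ∀ n : N, ν ⟨(n : G), hNH n.2⟩ = lam n) : ∃ μ : G → ℂ, Cfsg.IsCharacter G μ ∧ μ 1 = 1 ∧ ∀ n : N, μ n = lam n := by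
  classical
  obtain ⟨f, hf⟩ := exists_hom_of_linear lam hlam.1 hlam.2
  have hlamf : lam = fun n => (f n : ℂ) := funext hf
  have hord : orderOf lam = orderOf f := by rw [hlamf]; exact orderOf_coe_hom f
  -- the exponents `k` such that `f ^ k` extends to `G`
  let I : AddSubgroup ℤ :=
    { carrier := {k | ∃ μ : G →* ℂˣ, ∀ n : N, μ (n : G) = f n ^ k}
      zero_mem' := ⟨1, fun n => by simp⟩
      add_mem' := by
        rintro a b ⟨μ1, h1⟩ ⟨μ2, h2⟩
        exact ⟨μ1 * μ2, fun n => by rw [MonoidHom.mul_apply, h1, h2, zpow_add]⟩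
      neg_mem' := by
        rintro a ⟨μ1, h1⟩
        exact ⟨μ1⁻¹, fun n => by rw [MonoidHom.inv_apply, h1, zpow_neg]⟩ }
  have hoI : (orderOf f : ℤ) ∈ I := by
    refine ⟨1, fun n => ?_⟩
    rw [MonoidHom.one_apply, zpow_natCast, ← MonoidHom.pow_apply, pow_orderOf_eq_one,
      MonoidHom.one_apply]
  obtain ⟨d, hd⟩ := Int.subgroup_cyclic I
  rw [← AddSubgroup.zmultiples_eq_closure] at hd
  have hdI : d ∈ I := by rw [hd]; exact AddSubgroup.mem_zmultiples d
  have hdvd : ∀ k ∈ I, d ∣ k := by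
    intro k hk
    rw [hd] at hk
    exact Int.mem_zmultiples_iff.mp hk
  have h1I : (1 : ℤ) ∈ I := by
    by_cases hnat : d.natAbs = 1
    · rcases Int.natAbs_eq d with h | h
      · rw [hnat] at h
        rw [h] at hdI; exact_mod_cast hdI
      · rw [hnat] at h
        have := I.neg_mem hdI
        rw [h] at this
        simpa using this
    · exfalso
      obtain ⟨p, hp, hpd⟩ := Nat.exists_prime_and_dvd hnat
      have hpd' : (p : ℤ) ∣ d := Int.natCast_dvd.mpr hpd
      have hpo : p ∣ orderOf lam := by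
        rw [hord]
        exact Int.natCast_dvd_natCast.mp (hpd'.trans (hdvd _ hoI))
      obtain ⟨H, hNH, ν, hcop, -, hνc, hν1, hres⟩ := hsyl p hp hpo
      obtain ⟨ν', hν'⟩ := exists_hom_of_linear ν hνc hν1
      have hHI : (H.index : ℤ) ∈ I := by
        refine ⟨MonoidHom.transfer ν', fun n => ?_⟩
        rw [zpow_natCast]
        apply transfer_eq_pow_of_key H ν' (n : G) (f n)
        intro g k h
        apply Units.ext
        have hmemN : g⁻¹ * (n : G) ^ k * g ∈ N := by
          have := hN.conj_mem ((n : G) ^ k) (N.pow_mem n.2 k) g⁻¹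
          simpa using this
        have e1 := hres ⟨g⁻¹ * (n : G) ^ k * g, hmemN⟩
        rw [hν'] at e1
        rw [e1]
        have e2 := hinv g⁻¹ (n ^ k)
        have e3 : (⟨g⁻¹ * ((n ^ k : N) : G) * g⁻¹⁻¹, hN.conj_mem ((n ^ k : N) : G) (n ^ k).2 g⁻¹⟩ : N)
            = ⟨g⁻¹ * (n : G) ^ k * g, hmemN⟩ := by
          apply Subtype.ext; simp
        rw [e3] at e2
        rw [e2, hf, map_pow]
      have hpH : (p : ℤ) ∣ (H.index : ℤ) := hpd'.trans (hdvd _ hHI)
      have hpH' : p ∣ H.index := Int.natCast_dvd_natCast.mp hpH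
      have := Nat.Coprime.eq_one_of_dvd hcop.symm hpH'
      exact hp.one_lt.ne' this
  obtain ⟨μ, hμ⟩ := h1I
  refine ⟨fun g => (μ g : ℂ), isCharacter_of_hom μ, by simp, fun n => ?_⟩
  show ((μ (n : G) : ℂˣ) : ℂ) = lam n
  rw [hμ n, zpow_one, hf]

end Cfsg.Agent.S0864
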