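-- Statement S0865
import Cfsg.Statements.S0865
import Cfsg.Agent.Lib.helper19.LinExt
import Mathlib

set_option autoImplicit false
open Cfsg

namespace Cfsg.Agent.S0865

open Cfsg.Agent.Lib.helper19

/-- Let N be a normal subgroup of the finite group G and λ a character of N of degree 1, invariant under conjugation by G, whose order (under pointwise multiplication) is coprime to the index of N. Then there is a character μ of G of degree 1 restricting to λ with the same order as λ, and μ is the only degree-1 character of G restricting to λ whose order is coprime to the index of N. -/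
theorem result {G : Type*} [Group G] [Finite G] (N : Subgroup G) [hN : N.Normal] (lam : N → ℂ) (hlam : Cfsg.IsCharacter N lam ∧ lam 1 = 1) (hinv : ∀ (g : G) (n : N), lam ⟨g * n * g⁻¹, hN.conj_mem (n : G) n.2 g⟩ = lam n) (hcop : Nat.Coprime N.index (orderOf lam)) : ∃ μ : G → ℂ, (Cfsg.IsCharacter G μ ∧ μ 1 = 1 ∧ (∀ n : N, μ n = lam n) ∧ orderOf μ = orderOf lam) ∧ ∀ μ' : G → ℂ, Cfsg.IsCharacter G μ' ∧ μ' 1 = 1 → (∀ n : N, μ' n = lam n) → Nat.Coprime N.index (orderOf μ') → μ' = μ := by
  classical
  obtain ⟨f, hf⟩ := exists_hom_of_linear lam hlam.1 hlam.2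
  have hlamf : lam = fun n => (f n : ℂ) := funext hf
  have hord : orderOf lam = orderOf f := by rw [hlamf]; exact orderOf_coe_hom f
  have hinv' : ∀ (g : G) (n : N), f ⟨g * n * g⁻¹, hN.conj_mem (n : G) n.2 g⟩ = f n := by
    intro g n
    apply Units.ext
    rw [← hf, ← hf]; exact hinv g n
  rw [hord] at hcop
  obtain ⟨μ, hμ, hμo⟩ := exists_extension_of_coprime N f hinv' hcop
  refine ⟨fun g => (μ g : ℂ), ⟨isCharacter_of_hom μ, by simp, ?_, ?_⟩, ?_⟩
  · intro n
    show ((μ (n : G) : ℂˣ) : ℂ) = lam n
    rw [hμ n, hf]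
  · rw [orderOf_coe_hom, hμo, hord]
  · rintro μ' ⟨hμ'c, hμ'1⟩ hres hcop'
    obtain ⟨f', hf'⟩ := exists_hom_of_linear μ' hμ'c hμ'1
    have hμ'f : μ' = fun g => (f' g : ℂ) := funext hf'
    rw [hμ'f, orderOf_coe_hom] at hcop'
    have hres' : ∀ n : N, f' (n : G) = μ (n : G) := by
      intro n
      apply Units.ext
      rw [← hf', hres n, hμ n, hf]
    -- δ = f' / μ
    set δ : G →* ℂˣ := f' / μ with hδ
    have hδN : ∀ n : N, δ (n : G) = 1 := by
      intro n
      rw [hδ, MonoidHom.div_apply, hres' n, div_self']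
    have hδm : orderOf δ ∣ N.index := by
      apply orderOf_dvd_of_pow_eq_one
      ext g
      rw [MonoidHom.pow_apply, ← map_pow]
      have := hδN ⟨g ^ N.index, N.pow_index_mem g⟩
      rw [MonoidHom.one_apply]
      exact congrArg Units.val this
    have hδo : orderOf δ ∣ orderOf f' * orderOf μ := by
      apply orderOf_dvd_of_pow_eq_one
      refine MonoidHom.ext (fun g => ?_)
      have h1 : f' g ^ (orderOf f' * orderOf μ) = 1 := by
        rw [pow_mul, ← MonoidHom.pow_apply, pow_orderOf_eq_one, MonoidHom.one_apply, one_pow]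
      have h2 : μ g ^ (orderOf f' * orderOf μ) = 1 := by
        rw [mul_comm, pow_mul, ← MonoidHom.pow_apply, pow_orderOf_eq_one, MonoidHom.one_apply,
          one_pow]
      rw [MonoidHom.pow_apply, hδ, MonoidHom.div_apply, MonoidHom.one_apply, div_pow, h1, h2,
        div_one]
    have hcop2 : Nat.Coprime N.index (orderOf f' * orderOf μ) := by
      rw [hμo]
      exact Nat.Coprime.mul_right hcop' hcop
    have hδ1 : δ = 1 := by
      have h3 : orderOf δ = 1 := Nat.Coprime.eq_one_of_dvd (Nat.Coprime.coprime_dvd_left hδm hcop2) hδo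
      exact orderOf_eq_one_iff.mp h3
    rw [hμ'f]
    funext g
    have : f' g = μ g := by
      have := congrArg (fun φ : G →* ℂˣ => φ g) hδ1
      simp only [hδ, MonoidHom.div_apply, MonoidHom.one_apply] at this
      exact div_eq_one.mp this
    rw [this]

end Cfsg.Agent.S0865
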