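import Mathlib
import Cfsg.Statements.S0868
import Cfsg.Agent.Lib.helper19.Gallagher

set_option autoImplicit false

open scoped ComplexConjugate
open Cfsg

namespace Cfsg.Agent.S0868

open Cfsg.Agent.Lib.helper19

/-- Let N be a normal subgroup of the finite group G, χ an irreducible character of G whose restriction ϑ to N is irreducible, and ψ an irreducible character of G. Define η on G by η g = (1 / order of N) * Σ over n in N of ψ (n * g) * conj (χ (n * g)). Then: if the restriction of ψ to N has nonzero inner product with ϑ, η is an irreducible character of G; if that inner product is zero, η vanishes identically; and if ψ = χ then η is identically 1. -/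
theorem result {G : Type*} [Group G] [Fintype G] (N : Subgroup G) [N.Normal] [Fintype N] (χ : G → ℂ) (hχ : Cfsg.IsIrrCharacter G χ) (hχN : Cfsg.IsIrrCharacter N (fun n : N => χ n)) (ψ : G → ℂ) (hψ : Cfsg.IsIrrCharacter G ψ) (η : G → ℂ) (hη : η = fun g => (Nat.card N : ℂ)⁻¹ * ∑ n : N, ψ ((n : G) * g) * conj (χ ((n : G) * g))) : (Cfsg.classInner (fun n : N => ψ n) (fun n : N => χ n) ≠ 0 → Cfsg.IsIrrCharacter G η) ∧ (Cfsg.classInner (fun n : N => ψ n) (fun n : N => χ n) = 0 → η = 0) ∧ (ψ = χ → η = fun _ => 1) := by
  have hηeq : η = gallagherFun N χ ψ := by rw [hη]; rfl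
  have hdich := gallagherFun_dichotomy N χ hχ hχN ψ hψ
  have h1 := gallagherFun_one N χ ψ
  refine ⟨?_, ?_, ?_⟩
  · intro hne
    rcases hdich with h | h
    · exfalso
      apply hne
      rw [← h1, h]
      rfl
    · rw [hηeq]
      exact h.1
  · intro h0
    rcases hdich with h | h
    · rw [hηeq]
      exact h
    · exfalso
      apply Cfsg.Agent.Lib.helper4.irr_degree_ne_zero h.1
      rw [h1]
      exact h0
  · intro hψχ
    rw [hη]
    funext g
    rw [hψχ, sum_coset_norm N χ hχ hχN g]
    have hN0 : (Nat.card N : ℂ) ≠ 0 := by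
      exact_mod_cast (Nat.card_pos (α := N)).ne'
    field_simp

end Cfsg.Agent.S0868
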