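-- Statement S0878
import Cfsg.Statements.S0878
import Cfsg.Agent.Lib.helper19.ZassCount
import Mathlib

set_option autoImplicit false
open Cfsg

namespace Cfsg.Agent.S0878

open Cfsg.Agent.Lib.helper19

/-- Let G be a Zassenhaus group on the finite set Ω, a a point, and let H be the subgroup of the stabilizer of a consisting of the identity and the elements fixing no point other than a (given here as a subgroup of the stabilizer of order one less than the number of points whose non-identity elements fix only a; it is the Frobenius kernel of the stabilizer). Then an element outside the stabilizer of a conjugates no non-identity element of H into H, and the normalizer of H is exactly the stabilizer of a. -/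
theorem result {G Ω : Type*} [Group G] [Finite G] [MulAction G Ω] [Fintype Ω] (hZ : Cfsg.IsZassenhausGroup G Ω) (a : Ω) (H : Subgroup G) (hHa : H ≤ MulAction.stabilizer G a) (hHcard : Nat.card H + 1 = Fintype.card Ω) (hHfix : ∀ u ∈ H, u ≠ 1 → ∀ c : Ω, u • c = c → c = a) : (∀ g : G, g ∉ MulAction.stabilizer G a → ∀ u ∈ H, g * u * g⁻¹ ∈ H → u = 1) ∧ Subgroup.normalizer (H : Set G) = MulAction.stabilizer G a := by
  classical
  have part1 : ∀ g : G, g ∉ MulAction.stabilizer G a → ∀ u ∈ H, g * u * g⁻¹ ∈ H → u = 1 := by
    intro g hg u hu hgu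
    by_contra hu1
    apply hg
    rw [MulAction.mem_stabilizer_iff]
    have hne : g * u * g⁻¹ ≠ 1 := by
      intro h
      apply hu1
      have : u = g⁻¹ * (g * u * g⁻¹) * g := by group
      rw [this, h]; group
    apply hHfix _ hgu hne
    have hua : u • a = a := hHa hu
    rw [mul_smul, mul_smul, inv_smul_smul, hua]
  refine ⟨part1, ?_⟩
  have hn : Nat.card Ω = Fintype.card Ω := Nat.card_eq_fintype_card
  have hn3 := zass_three_le_card hZ
  have hB := zass_card_fix_only hZ a
  set B : Set G := {g : G | g ≠ 1 ∧ g • a = a ∧ ∀ c : Ω, g • c = c → c = a} with hBdef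
  have hBcard : B.ncard + 2 = Nat.card Ω := by
    rw [← hB, ← Nat.card_coe_set_eq]
    rfl
  set H1 : Set G := (H : Set G) \ {1} with hH1
  have hH1B : H1 ⊆ B := by
    rintro u ⟨hu, hu1⟩
    exact ⟨hu1, hHa hu, hHfix u hu hu1⟩
  have hH1card : H1.ncard + 1 = Nat.card H := by
    rw [hH1, Set.ncard_sdiff_singleton_add_one (H.one_mem) (Set.toFinite _)]
    exact (Nat.card_coe_set_eq (H : Set G))
  have hBH1 : H1 = B := by
    apply Set.eq_of_subset_of_ncard_le hH1B _ (Set.toFinite _)
    omega
  have hBH : ∀ g ∈ B, g ∈ H := by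
    intro g hg
    rw [← hBH1] at hg
    exact hg.1
  -- conjugation by the stabilizer preserves H
  have conjB : ∀ t : G, t • a = a → ∀ h ∈ H, t * h * t⁻¹ ∈ H := by
    intro t ht h hh
    by_cases h1 : h = 1
    · rw [h1]; simp [H.one_mem]
    · apply hBH
      refine ⟨?_, ?_, ?_⟩
      · intro hcon
        apply h1
        have : h = t⁻¹ * (t * h * t⁻¹) * t := by group
        rw [this, hcon]; group
      · have hta : t⁻¹ • a = a := by rw [inv_smul_eq_iff, ht]
        rw [mul_smul, mul_smul, hta, hHa hh, ht]
      · intro c hc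
        rw [mul_smul, mul_smul] at hc
        have h2 : h • (t⁻¹ • c) = t⁻¹ • c := by
          have := congrArg (fun w => t⁻¹ • w) hc
          simpa using this
        have h3 := hHfix h hh h1 _ h2
        rw [inv_smul_eq_iff, ht] at h3
        exact h3
  ext g
  constructor
  · intro hg
    by_contra hga
    -- H is non-trivial
    have hHne : H ≠ ⊥ := by
      rw [← Subgroup.one_lt_card_iff_ne_bot]
      omega
    obtain ⟨u, hu, hu1⟩ := (Subgroup.ne_bot_iff_exists_ne_one.mp hHne) |> fun ⟨u, hu⟩ =>
      (⟨(u : G), u.2, fun h => hu (Subtype.ext h)⟩ : ∃ u : G, u ∈ H ∧ u ≠ 1)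
    rw [Subgroup.mem_normalizer_iff] at hg
    exact hu1 (part1 g hga u hu ((hg u).mp hu))
  · intro hg
    rw [MulAction.mem_stabilizer_iff] at hg
    rw [Subgroup.mem_normalizer_iff]
    intro h
    constructor
    · exact conjB g hg h
    · intro hh
      have hg' : g⁻¹ • a = a := by rw [inv_smul_eq_iff, hg]
      have := conjB g⁻¹ hg' _ hh
      have e : g⁻¹ * (g * h * g⁻¹) * g⁻¹⁻¹ = h := by group
      rw [e] at this
      exact this

end Cfsg.Agent.S0878
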