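-- Statement S0879
import Cfsg.Statements.S0879
import Cfsg.Agent.Lib.helper19.Zass
import Mathlib

set_option autoImplicit false
open Cfsg

namespace Cfsg.Agent.S0879

open Cfsg.Agent.Lib.helper19

/-- Let G be a Zassenhaus group on the finite set Ω and E the stabilizer of two distinct points a, b. Then an element outside the normalizer of E conjugates no non-identity element of E into E, and E has index 2 in its normalizer. -/
theorem result {G Ω : Type*} [Group G] [Finite G] [MulAction G Ω] [Fintype Ω] (hZ : Cfsg.IsZassenhausGroup G Ω) {a b : Ω} (hab : a ≠ b) : (∀ g : G, g ∉ Subgroup.normalizer ((MulAction.stabilizer G a ⊓ MulAction.stabilizer G b : Subgroup G) : Set G) → ∀ x ∈ (MulAction.stabilizer G a ⊓ MulAction.stabilizer G b : Subgroup G), g * x * g⁻¹ ∈ (MulAction.stabilizer G a ⊓ MulAction.stabilizer G b : Subgroup G) → x = 1) ∧ ((MulAction.stabilizer G a ⊓ MulAction.stabilizer G b : Subgroup G).subgroupOf (Subgroup.normalizer ((MulAction.stabilizer G a ⊓ MulAction.stabilizer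 G b : Subgroup G) : Set G))).index = 2 := by
  classical
  set E : Subgroup G := MulAction.stabilizer G a ⊓ MulAction.stabilizer G b with hE
  have memE : ∀ x : G, x ∈ E ↔ x • a = a ∧ x • b = b := by
    intro x
    rw [hE, Subgroup.mem_inf, MulAction.mem_stabilizer_iff, MulAction.mem_stabilizer_iff]
  -- an element permuting {a, b} normalizes E
  have hperm_norm : ∀ g : G, ((g • a = a ∧ g • b = b) ∨ (g • a = b ∧ g • b = a)) →
      g ∈ Subgroup.normalizer (E : Set G) := by
    intro g hg
    rw [Subgroup.mem_normalizer_iff]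
    intro h
    rw [memE, memE]
    have hinv : (g⁻¹ • a = a ∧ g⁻¹ • b = b) ∨ (g⁻¹ • a = b ∧ g⁻¹ • b = a) := by
      rcases hg with ⟨h1, h2⟩ | ⟨h1, h2⟩
      · left; exact ⟨by rw [inv_smul_eq_iff, h1], by rw [inv_smul_eq_iff, h2]⟩
      · right; exact ⟨by rw [inv_smul_eq_iff, h2], by rw [inv_smul_eq_iff, h1]⟩
    constructor
    · rintro ⟨ha, hb⟩
      rcases hg with ⟨h1, h2⟩ | ⟨h1, h2⟩ <;> rcases hinv with ⟨i1, i2⟩ | ⟨i1, i2⟩
      · exact ⟨by rw [mul_smul, mul_smul, i1, ha, h1], by rw [mul_smul, mul_smul, i2, hb, h2]⟩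
      · exfalso; rw [inv_smul_eq_iff, h2] at i1; exact hab i1
      · exfalso; rw [inv_smul_eq_iff, h1] at i1; exact hab i1
      · exact ⟨by rw [mul_smul, mul_smul, i1, hb, h2], by rw [mul_smul, mul_smul, i2, ha, h1]⟩
    · rintro ⟨ha, hb⟩
      rw [mul_smul, mul_smul] at ha hb
      rcases hg with ⟨h1, h2⟩ | ⟨h1, h2⟩ <;> rcases hinv with ⟨i1, i2⟩ | ⟨i1, i2⟩
      · rw [i1] at ha; rw [i2] at hb
        constructor
        · have := congrArg (fun w => g⁻¹ • w) ha
          simpa [i1] using this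
        · have := congrArg (fun w => g⁻¹ • w) hb
          simpa [i2] using this
      · exfalso; rw [inv_smul_eq_iff, h2] at i1; exact hab i1
      · exfalso; rw [inv_smul_eq_iff, h1] at i1; exact hab i1
      · rw [i1] at ha; rw [i2] at hb
        constructor
        · have := congrArg (fun w => g⁻¹ • w) hb
          simpa [i2] using this
        · have := congrArg (fun w => g⁻¹ • w) ha
          simpa [i1] using this
  -- conversely an element of the normalizer permutes {a, b}
  obtain ⟨x0, hx0, hx0a, hx0b⟩ := zass_exists_fix_two hZ hab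
  have hnorm_perm : ∀ g : G, g ∈ Subgroup.normalizer (E : Set G) →
      ((g • a = a ∧ g • b = b) ∨ (g • a = b ∧ g • b = a)) := by
    intro g hg
    rw [Subgroup.mem_normalizer_iff] at hg
    have := (hg x0).mp ((memE x0).mpr ⟨hx0a, hx0b⟩)
    rw [memE] at this
    exact zass_conj_perm hZ hab hx0 hx0a hx0b this.1 this.2
  refine ⟨?_, ?_⟩
  · intro g hg x hx hgx
    by_contra hx1
    rw [memE] at hx hgx
    exact hg (hperm_norm g (zass_conj_perm hZ hab hx1 hx.1 hx.2 hgx.1 hgx.2))
  · -- index two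
    obtain ⟨w, hwa, hwb⟩ := zass_two_trans hZ hab (Ne.symm hab)
    have hwN : w ∈ Subgroup.normalizer (E : Set G) := hperm_norm w (Or.inr ⟨hwa, hwb⟩)
    rw [Subgroup.index_eq_two_iff]
    refine ⟨⟨w, hwN⟩, ?_⟩
    rintro ⟨y, hy⟩
    simp only [Subgroup.mem_subgroupOf, Subgroup.coe_mul]
    rw [memE, memE]
    rcases hnorm_perm y hy with ⟨h1, h2⟩ | ⟨h1, h2⟩
    · right
      refine ⟨⟨h1, h2⟩, ?_⟩
      rintro ⟨h3, -⟩
      rw [mul_smul, hwa, h2] at h3
      exact hab h3.symm
    · left
      refine ⟨⟨by rw [mul_smul, hwa, h2], by rw [mul_smul, hwb, h1]⟩, ?_⟩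
      rintro ⟨h3, -⟩
      rw [h1] at h3
      exact hab h3.symm

end Cfsg.Agent.S0879
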