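-- Statement S0880
import Cfsg.Statements.S0880
import Cfsg.Agent.Lib.helper19.ZassCount
import Mathlib

set_option autoImplicit false
open Cfsg

namespace Cfsg.Agent.S0880

open Cfsg.Agent.Lib.helper19

/-- Let G be a finite simple Zassenhaus group on Ω with n points whose two-point stabilizer E has odd order less than n - 2. Then there are two elements of G, each fixing no point of Ω, that are not conjugate. -/
theorem result {G Ω : Type*} [Group G] [Finite G] [MulAction G Ω] [Fintype Ω] (hZ : Cfsg.IsZassenhausGroup G Ω) {a b : Ω} (hab : a ≠ b) [IsSimpleGroup G] (hodd : Odd (Nat.card ↥(MulAction.stabilizer G a ⊓ MulAction.stabilizer G b : Subgroup G))) (hlt : Nat.card ↥(MulAction.stabilizer G a ⊓ MulAction.stabilizer G b : Subgroup G) < Fintype.card Ω - 2) : ∃ x y : G, (∀ c : Ω, x • c ≠ c) ∧ (∀ c : Ω, y • c ≠ c) ∧ ¬ IsConj x y := by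
  classical
  have : Fintype G := Fintype.ofFinite G
  by_contra hcon
  push Not at hcon
  have hn : Nat.card Ω = Fintype.card Ω := Nat.card_eq_fintype_card
  have hcard := zass_card_eq hZ hab
  have h2c := zass_two_mul_card_fpf (G := G) (Ω := Ω) hZ
  rw [← Nat.card_eq_fintype_card (α := G), hcard, hn] at h2c
  set e := Nat.card ↥(MulAction.stabilizer G a ⊓ MulAction.stabilizer G b : Subgroup G) with he
  set n := Fintype.card Ω with hn'
  set c0 := Nat.card {g : G // ∀ c : Ω, g • c ≠ c} with hc0
  obtain ⟨f, hf⟩ := hodd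
  -- the two-point stabilizer is non-trivial
  have he2 : 1 < e := by
    obtain ⟨x, hx, hxa, hxb⟩ := zass_exists_fix_two hZ hab
    rw [he, Subgroup.one_lt_card_iff_ne_bot]
    intro hbot
    have : x ∈ (MulAction.stabilizer G a ⊓ MulAction.stabilizer G b : Subgroup G) := by
      rw [Subgroup.mem_inf, MulAction.mem_stabilizer_iff, MulAction.mem_stabilizer_iff]
      exact ⟨hxa, hxb⟩
    rw [hbot, Subgroup.mem_bot] at this
    exact hx this
  have hf1 : 1 ≤ f := by omega
  obtain ⟨k, hk⟩ : ∃ k, n = k + 4 := ⟨n - 4, by omega⟩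
  -- the number of fixed-point-free elements
  have hc0eq : c0 = (k + 3) * (n * f + 1) := by
    rw [hf, hk] at h2c
    rw [hk]
    have h5 : k + 4 - 1 = k + 3 := by omega
    rw [h5] at h2c
    have : (2 * c0 : ℤ) = 2 * (((k + 3) * ((k + 4) * f + 1) : ℕ) : ℤ) := by
      rw [h2c]
      push_cast
      ring
    exact_mod_cast (mul_left_cancel₀ (by norm_num : (2 : ℤ) ≠ 0) this)
  have hc0pos : 0 < c0 := by
    rw [hc0eq]; positivity
  -- pick a fixed-point-free element
  have hne : Nonempty {g : G // ∀ c : Ω, g • c ≠ c} := by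
    by_contra hemp
    rw [not_nonempty_iff] at hemp
    rw [hc0, Nat.card_of_isEmpty] at hc0pos
    exact lt_irrefl _ hc0pos
  obtain ⟨⟨x0, hx0⟩⟩ := hne
  -- the fixed-point-free elements form the conjugacy class of x0
  have hset : {g : G | ∀ c : Ω, g • c ≠ c} = MulAction.orbit (ConjAct G) x0 := by
    ext g
    rw [ConjAct.mem_orbit_conjAct]
    constructor
    · intro hg
      exact hcon g x0 hg hx0
    · intro hg c hc
      obtain ⟨t, ht⟩ := isConj_iff.mp hg
      apply hx0 (t • c)
      rw [← ht, mul_smul, mul_smul, inv_smul_smul, hc]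
  have hdvd : c0 ∣ Nat.card G := by
    have h1 : c0 = (MulAction.orbit (ConjAct G) x0).ncard := by
      rw [← hset, hc0]
      exact Nat.card_coe_set_eq _
    rw [h1, ← MulAction.index_stabilizer]
    exact Subgroup.index_dvd_card (MulAction.stabilizer (ConjAct G) x0)
  rw [hcard, hn, hc0eq, hf] at hdvd
  have hn1 : n - 1 = k + 3 := by omega
  rw [hn1] at hdvd
  have hdvd2 : (n * f + 1) ∣ n * (2 * f + 1) := by
    have : (k + 3) * (n * f + 1) ∣ (k + 3) * (n * (2 * f + 1)) := by
      convert hdvd using 1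
      ring
    exact Nat.dvd_of_mul_dvd_mul_left (by omega) this
  have hcop : Nat.Coprime (n * f + 1) n := by
    rw [Nat.coprime_comm]
    simp [Nat.Coprime]
  have hdvd3 : (n * f + 1) ∣ (2 * f + 1) := by
    have hdvd2' : (n * f + 1) ∣ (2 * f + 1) * n := by
      rw [mul_comm (2 * f + 1) n]; exact hdvd2
    exact hcop.dvd_of_dvd_mul_right hdvd2'
  have hle := Nat.le_of_dvd (by omega) hdvd3
  nlinarith

end Cfsg.Agent.S0880
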