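import Cfsg.Statements.S0892
import Cfsg.Agent.Lib.helper70.SM_Main
import Cfsg.Agent.S3335
import Cfsg.Agent.S2530
import Mathlib

set_option autoImplicit false
open Cfsg

namespace Cfsg.Agent.S0892

/-- Let n ≥ 4 with n ≠ 6 and n ≠ 7, and let Γ be a finite group with a subgroup Z contained in both the centre and the commutator subgroup of Γ such that Γ / Z is isomorphic to the alternating group on n letters. Then Z has order at most 2. -/
theorem result (n : ℕ) (hn : 4 ≤ n) (h6 : n ≠ 6) (h7 : n ≠ 7) {Γ : Type*} [Group Γ] [Finite Γ] (Z : Subgroup Γ) [Z.Normal] (hZc : Z ≤ Subgroup.center Γ) (hZd : Z ≤ commutator Γ) (e : Γ ⧸ Z ≃* alternatingGroup (Fin n)) : Nat.card Z ≤ 2 := by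
  obtain ⟨k, rfl⟩ : ∃ k, n = k + 3 := ⟨n - 3, by omega⟩
  obtain ⟨cs, hcs⟩ := Cfsg.Agent.S2530.result (k + 2)
  obtain ⟨π, hπdef⟩ : ∃ π : Γ →* PresentedGroup (Cfsg.Agent.S3335.rels k),
      π = ((Cfsg.Agent.S3335.iso k cs hcs).symm.toMonoidHom.comp e.toMonoidHom).comp
        (QuotientGroup.mk' Z) := ⟨_, rfl⟩
  have hπ : Function.Surjective π := by
    rw [hπdef]
    exact ((Cfsg.Agent.S3335.iso k cs hcs).symm.surjective.comp e.surjective).comp
      (QuotientGroup.mk'_surjective Z)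
  have hker : π.ker = Z := by
    ext g
    rw [MonoidHom.mem_ker, hπdef]
    show (Cfsg.Agent.S3335.iso k cs hcs).symm (e (QuotientGroup.mk' Z g)) = 1 ↔ g ∈ Z
    rw [EmbeddingLike.map_eq_one_iff, EmbeddingLike.map_eq_one_iff]
    exact QuotientGroup.eq_one_iff g
  have h := Cfsg.Agent.Lib.helper70.SM.h70_ker_card_le_two k (by omega) π hπ
    (by rw [hker]; exact hZc) (by rw [hker]; exact hZd)
  rwa [hker] at h

end Cfsg.Agent.S0892
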