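-- Statement S0893
import Cfsg.Statements.S0893
import Cfsg.Agent.Lib.helper19.LinChar
import Cfsg.Agent.Lib.helper4.Induction
import Mathlib

set_option autoImplicit false
open Cfsg

namespace Cfsg.Agent.S0893

open Cfsg.Agent.Lib.helper19
open scoped ComplexConjugate

/-- The sum of the values of a non-trivial homomorphism to `ℂˣ` over a finite group vanishes. -/
theorem sum_hom_eq_zero {P : Type*} [Group P] [Fintype P] (φ : P →* ℂˣ) (y0 : P)
    (h : φ y0 ≠ 1) : ∑ y : P, (φ y : ℂ) = 0 := by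
  have h1 : ∑ y : P, (φ y : ℂ) = (φ y0 : ℂ) * ∑ y : P, (φ y : ℂ) := by
    rw [Finset.mul_sum]
    rw [← Equiv.sum_comp (Equiv.mulLeft y0) (fun y => (φ y : ℂ))]
    apply Finset.sum_congr rfl
    intro y _
    simp
  have h2 : (1 - (φ y0 : ℂ)) * ∑ y : P, (φ y : ℂ) = 0 := by
    rw [sub_mul, one_mul, ← h1, sub_self]
  rcases mul_eq_zero.mp h2 with h3 | h3
  · exfalso
    apply h
    apply Units.ext
    rw [Units.val_one]
    exact (sub_eq_zero.mp h3).symm
  · exact h3

/-- Let P be an extraspecial p-group of order p ^ (2 * n + 1), A an abelian subgroup of order p ^ (n + 1), and λ a character of A of degree 1 that is not identically 1 on the elements of A lying in the centre of P. Then the function induced from λ to P is an irreducible character of P and vanishes at every element outside the centre. -/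
theorem result {P : Type*} [Group P] [Fintype P] (p n : ℕ) [Fact p.Prime] (hP : Cfsg.IsExtraspecial p P) (hcard : Nat.card P = p ^ (2 * n + 1)) (A : Subgroup P) (hab : ∀ a ∈ A, ∀ b ∈ A, a * b = b * a) (hA : Nat.card A = p ^ (n + 1)) (lam : A → ℂ) (hlam : Cfsg.IsCharacter A lam ∧ lam 1 = 1) (hZ : ∃ a : A, (a : P) ∈ Subgroup.center P ∧ lam a ≠ 1) : Cfsg.IsIrrCharacter P (Cfsg.indFun A lam) ∧ ∀ x : P, x ∉ Subgroup.center P → Cfsg.indFun A lam x = 0 := by
  classical
  have hp : p.Prime := Fact.out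
  obtain ⟨⟨hpg, hfr, hcomm⟩, hZcard⟩ := hP
  obtain ⟨f, hf⟩ := exists_hom_of_linear lam hlam.1 hlam.2
  obtain ⟨a0, ha0Z, ha0⟩ := hZ
  -- a non-identity central element generates the centre
  have hgen : ∀ z : P, z ∈ Subgroup.center P → z ≠ 1 → Subgroup.zpowers z = Subgroup.center P := by
    intro z hz hz1
    apply Subgroup.eq_of_le_of_card_ge (Subgroup.zpowers_le.mpr hz)
    rw [hZcard, Nat.card_zpowers]
    have h1 : orderOf z ∣ p := by
      rw [← hZcard]
      have := orderOf_dvd_natCard (⟨z, hz⟩ : Subgroup.center P)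
      rwa [Subgroup.orderOf_mk] at this
    rcases (Nat.dvd_prime hp).mp h1 with h | h
    · exact absurd (orderOf_eq_one_iff.mp h) hz1
    · exact h.ge
  have ha0ne : (a0 : P) ≠ 1 := by
    intro h
    apply ha0
    have : a0 = 1 := Subtype.ext h
    rw [this]; exact hlam.2
  have hZA : Subgroup.center P ≤ A := by
    rw [← hgen _ ha0Z ha0ne]
    exact Subgroup.zpowers_le.mpr a0.2
  -- f is non-trivial at every non-identity central element
  have hfz : ∀ z : A, (z : P) ∈ Subgroup.center P → z ≠ 1 → f z ≠ 1 := by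
    intro z hz hz1 hfz1
    have hzP : (z : P) ≠ 1 := fun h => hz1 (Subtype.ext h)
    have hmem : (a0 : P) ∈ Subgroup.zpowers (z : P) := by rw [hgen _ hz hzP]; exact ha0Z
    obtain ⟨k, hk⟩ := Subgroup.mem_zpowers_iff.mp hmem
    have e : a0 = z ^ k := Subtype.ext (by simp [hk])
    apply ha0
    rw [hf, e, map_zpow, hfz1, one_zpow]
    simp
  -- commutators are central
  have hcZ : ∀ x y : P, x⁻¹ * y⁻¹ * x * y ∈ Subgroup.center P := by
    intro x y
    rw [← hcomm]
    have := Subgroup.commutator_mem_commutator (Subgroup.mem_top x⁻¹) (Subgroup.mem_top y⁻¹)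
    rw [commutatorElement_def] at this
    simpa [commutator] using this
  -- A is normal
  have hAn : ∀ (y : P) (a : P), a ∈ A → y⁻¹ * a * y ∈ A := by
    intro y a ha
    have : y⁻¹ * a * y = a * (a⁻¹ * y⁻¹ * a * y) := by group
    rw [this]
    exact A.mul_mem ha (hZA (hcZ a y))
  have hcA : (Nat.card A : ℂ) ≠ 0 := by exact_mod_cast Nat.card_pos.ne'
  -- values of the induced function
  have hvalZ : ∀ z : P, ∀ hz : z ∈ Subgroup.center P,
      Cfsg.indFun A lam z = (p : ℂ) ^ n * lam ⟨z, hZA hz⟩ := by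
    intro z hz
    rw [indFun_apply]
    have hterm : ∀ y : P, Cfsg.extendByZero A lam (y⁻¹ * z * y) = lam ⟨z, hZA hz⟩ := by
      intro y
      have e : y⁻¹ * z * y = z := by
        rw [mul_assoc, (Subgroup.mem_center_iff.mp hz y).symm, ← mul_assoc, inv_mul_cancel,
          one_mul]
      rw [e, extendByZero_of_mem A lam z (hZA hz)]
    rw [Finset.sum_congr rfl (fun y _ => hterm y), Finset.sum_const, Finset.card_univ,
      nsmul_eq_mul, hA, ← Nat.card_eq_fintype_card, hcard]
    push_cast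
    have hp0 : (p : ℂ) ≠ 0 := by exact_mod_cast hp.ne_zero
    field_simp
    ring
  have hvan : ∀ x : P, x ∉ Subgroup.center P → Cfsg.indFun A lam x = 0 := by
    intro x hx
    rw [indFun_apply]
    by_cases hxA : x ∈ A
    · -- x ∈ A \ Z
      let φ : P →* ℂˣ := MonoidHom.mk' (fun y => f ⟨x⁻¹ * y⁻¹ * x * y, hZA (hcZ x y)⟩) (by
        intro y y'
        rw [← map_mul]
        congr 1
        apply Subtype.ext
        show x⁻¹ * (y * y')⁻¹ * x * (y * y') = (x⁻¹ * y⁻¹ * x * y) * (x⁻¹ * y'⁻¹ * x * y')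
        have hc := Subgroup.mem_center_iff.mp (hcZ x y) (x⁻¹ * y'⁻¹ * x)
        calc x⁻¹ * (y * y')⁻¹ * x * (y * y')
            = (x⁻¹ * y'⁻¹ * x) * (x⁻¹ * y⁻¹ * x * y) * y' := by group
          _ = (x⁻¹ * y⁻¹ * x * y) * (x⁻¹ * y'⁻¹ * x) * y' := by rw [hc]
          _ = (x⁻¹ * y⁻¹ * x * y) * (x⁻¹ * y'⁻¹ * x * y') := by group)
      have hterm : ∀ y : P, Cfsg.extendByZero A lam (y⁻¹ * x * y) = lam ⟨x, hxA⟩ * (φ y : ℂ) := by
        intro y
        rw [extendByZero_of_mem A lam _ (hAn y x hxA), hf, hf]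
        have e : (⟨y⁻¹ * x * y, hAn y x hxA⟩ : A)
            = ⟨x, hxA⟩ * ⟨x⁻¹ * y⁻¹ * x * y, hZA (hcZ x y)⟩ := by
          apply Subtype.ext
          show y⁻¹ * x * y = x * (x⁻¹ * y⁻¹ * x * y)
          group
        rw [e, map_mul]
        simp [φ]
      rw [Finset.sum_congr rfl (fun y _ => hterm y), ← Finset.mul_sum]
      -- φ is non-trivial
      rw [Subgroup.mem_center_iff] at hx
      push Not at hx
      obtain ⟨y0, hy0⟩ := hx
      have hφ : φ y0 ≠ 1 := by
        apply hfz _ (hcZ x y0)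
        intro h1
        have h2 : x⁻¹ * y0⁻¹ * x * y0 = 1 := congrArg Subtype.val h1
        apply hy0
        have : x * y0 = y0 * x * (x⁻¹ * y0⁻¹ * x * y0) := by group
        rw [h2, mul_one] at this
        exact this.symm
      rw [sum_hom_eq_zero φ y0 hφ]
      simp
    · have hterm : ∀ y : P, Cfsg.extendByZero A lam (y⁻¹ * x * y) = 0 := by
        intro y
        apply extendByZero_of_not_mem
        intro hmem
        apply hxA
        have := hAn y⁻¹ _ hmem
        have e : y⁻¹⁻¹ * (y⁻¹ * x * y) * y⁻¹ = x := by group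
        rw [e] at this
        exact this
      rw [Finset.sum_congr rfl (fun y _ => hterm y)]
      simp
  refine ⟨?_, hvan⟩
  apply Cfsg.Agent.Lib.helper4.isIrrCharacter_of_isCharacter_of_norm_one
    (Cfsg.Agent.Lib.helper4.isCharacter_indFun A hlam.1)
  unfold Cfsg.classInner
  have hnorm : ∀ z : A, lam z * conj (lam z) = 1 := by
    intro z
    rw [hf]
    have h1 : ((f z : ℂˣ) : ℂ) ^ Nat.card A = 1 := by
      rw [← Units.val_pow_eq_pow_val, ← map_pow, pow_card_eq_one', map_one, Units.val_one]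
    have h2 := Complex.norm_eq_one_of_pow_eq_one h1 Nat.card_pos.ne'
    rw [Complex.mul_conj, Complex.normSq_eq_norm_sq, h2]
    simp
  have hterm : ∀ g : P, Cfsg.indFun A lam g * conj (Cfsg.indFun A lam g)
      = if g ∈ Subgroup.center P then ((p : ℂ) ^ n) * ((p : ℂ) ^ n) else 0 := by
    intro g
    by_cases hg : g ∈ Subgroup.center P
    · rw [if_pos hg, hvalZ g hg, map_mul, map_pow, Complex.conj_natCast]
      calc (p : ℂ) ^ n * lam ⟨g, hZA hg⟩ * ((p : ℂ) ^ n * conj (lam ⟨g, hZA hg⟩))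
          = (p : ℂ) ^ n * (p : ℂ) ^ n * (lam ⟨g, hZA hg⟩ * conj (lam ⟨g, hZA hg⟩)) := by ring
        _ = (p : ℂ) ^ n * (p : ℂ) ^ n := by rw [hnorm, mul_one]
    · rw [if_neg hg, hvan g hg, zero_mul]
  rw [Finset.sum_congr rfl (fun g _ => hterm g), Finset.sum_ite, Finset.sum_const_zero, add_zero,
    Finset.sum_const, nsmul_eq_mul]
  have hcc : (Finset.univ.filter (fun g : P => g ∈ Subgroup.center P)).card = p := by
    rw [← hZcard, Nat.card_eq_fintype_card, Fintype.card_subtype]
  rw [hcc, hcard]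
  push_cast
  have hp0 : (p : ℂ) ≠ 0 := by exact_mod_cast hp.ne_zero
  field_simp
  ring

end Cfsg.Agent.S0893
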