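-- Statement S0894
import Cfsg.Statements.S0894
import Cfsg.Agent.Lib.helper19.Extraspecial
import Mathlib

set_option autoImplicit false
open Cfsg

namespace Cfsg.Agent.S0894

open Cfsg.Agent.Lib.helper19 Cfsg.Agent.Lib.helper83 Cfsg.Agent.Lib.helper82

/-- Let P be an extraspecial p-group of order p ^ (2 * n + 1). Then every irreducible character of P has degree 1 or p ^ n, and exactly p - 1 of them have degree p ^ n. -/
theorem result {P : Type*} [Group P] [Finite P] (p n : ℕ) [Fact p.Prime] (hP : Cfsg.IsExtraspecial p P) (hcard : Nat.card P = p ^ (2 * n + 1)) : (∀ χ : Cfsg.IrrCharacter P, (χ : P → ℂ) 1 = 1 ∨ (χ : P → ℂ) 1 = (p : ℂ) ^ n) ∧ Nat.card {χ : Cfsg.IrrCharacter P // (χ : P → ℂ) 1 = (p : ℂ) ^ n} = p - 1 := by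
  classical
  have : Fintype P := Fintype.ofFinite P
  have : Fintype (Cfsg.IrrCharacter P) := Fintype.ofFinite _
  have hp : p.Prime := Fact.out
  have hdeg : ∀ χ : Cfsg.IrrCharacter P, (χ : P → ℂ) 1 = 1 ∨ (χ : P → ℂ) 1 = (p : ℂ) ^ n := by
    intro χ
    by_cases h : (χ : P → ℂ) 1 = 1
    · left; exact h
    · right; exact (extraspecial_degree p n hP hcard χ h).1
  refine ⟨hdeg, ?_⟩
  have hn : 1 ≤ n := by
    by_contra h0
    have hn0 : n = 0 := by omega
    subst hn0
    obtain ⟨⟨hpg, hfr, hcomm⟩, hZ⟩ := hP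
    have hcen : Subgroup.center P = ⊤ :=
      Subgroup.eq_top_of_card_eq _ (by rw [hZ, hcard]; simp)
    have hcb : commutator P = ⊥ := (commutator_eq_bot_iff_center_eq_top P).mpr hcen
    rw [hcb] at hcomm
    rw [← hcomm] at hZ
    simp at hZ
    exact hp.one_lt.ne' hZ.symm
  have hpn1 : (p : ℂ) ^ n ≠ 1 := by
    have : 1 < p ^ n := Nat.one_lt_pow (by omega) hp.one_lt
    exact_mod_cast this.ne'
  have hlin := card_linear_irr (G := P)
  have hidx : (commutator P).index = p ^ (2 * n) := by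
    have h1 := Subgroup.card_mul_index (commutator P)
    have hcc : Nat.card (commutator P) = p := by rw [hP.1.2.2]; exact hP.2
    rw [hcc, hcard, pow_succ, mul_comm] at h1
    exact Nat.eq_of_mul_eq_mul_right hp.pos h1
  rw [hidx] at hlin
  have hsum := sum_irr_one_sq (G := P)
  have hterm : ∀ χ : Cfsg.IrrCharacter P, (χ : P → ℂ) 1 * (χ : P → ℂ) 1
      = if (χ : P → ℂ) 1 = 1 then 1 else (p : ℂ) ^ (2 * n) := by
    intro χ
    by_cases h : (χ : P → ℂ) 1 = 1
    · rw [if_pos h, h, one_mul]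
    · rw [if_neg h, (hdeg χ).resolve_left h]; ring
  rw [Finset.sum_congr rfl (fun χ _ => hterm χ), Finset.sum_ite, Finset.sum_const,
    Finset.sum_const, nsmul_eq_mul, nsmul_eq_mul, mul_one, hcard] at hsum
  have hc1 : (Finset.univ.filter (fun χ : Cfsg.IrrCharacter P => (χ : P → ℂ) 1 = 1)).card
      = p ^ (2 * n) := by
    rw [← hlin, Nat.card_eq_fintype_card, Fintype.card_subtype]
  have hc2 : (Finset.univ.filter (fun χ : Cfsg.IrrCharacter P => ¬ (χ : P → ℂ) 1 = 1)).card
      = Nat.card {χ : Cfsg.IrrCharacter P // (χ : P → ℂ) 1 = (p : ℂ) ^ n} := by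
    rw [Nat.card_eq_fintype_card, Fintype.card_subtype]
    congr 1
    ext χ
    simp only [Finset.mem_filter, Finset.mem_univ, true_and]
    constructor
    · intro h; exact (hdeg χ).resolve_left h
    · intro h h1; rw [h1] at h; exact hpn1 h.symm
  rw [hc1, hc2] at hsum
  set k := Nat.card {χ : Cfsg.IrrCharacter P // (χ : P → ℂ) 1 = (p : ℂ) ^ n} with hk
  have h2 : p ^ (2 * n) + k * p ^ (2 * n) = p ^ (2 * n + 1) := by exact_mod_cast hsum
  have h3 : (1 + k) * p ^ (2 * n) = p * p ^ (2 * n) := by rw [← pow_succ', ← h2]; ring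
  have h4 : 1 + k = p := Nat.eq_of_mul_eq_mul_right (pow_pos hp.pos _) h3
  omega

end Cfsg.Agent.S0894
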