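import Cfsg.Statements.S0898
import Cfsg.Agent.Lib.helper78.FTDegree

set_option autoImplicit false
open Cfsg

namespace Cfsg.Agent.S0898

/-- Let H be an abelian subgroup of the finite group G meeting the centre of G trivially, such that for every non-central g the centralizer of g has nontrivial intersection with at most one conjugate of H. Let χ be an irreducible character of G with χ h ≠ χ 1 for some h in H, and let c be the inner product of the restriction of χ to H with the principal character. Then χ(1)² > (order of H)·c²; and if in addition χ 1 ≠ 1 and no proper normal subgroup of G contains H, then (1 + χ 1)² > order of H (both sides read as real numbers). -/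
theorem result {G : Type*} [Group G] [Fintype G] (H : Subgroup G) [Fintype H] (hab : ∀ a ∈ H, ∀ b ∈ H, a * b = b * a) (hZ : H ⊓ Subgroup.center G = ⊥) (hone : ∀ g : G, g ∉ Subgroup.center G → ∀ a b : G, Subgroup.centralizer ({g} : Set G) ⊓ H.map (MulAut.conj a).toMonoidHom ≠ ⊥ → Subgroup.centralizer ({g} : Set G) ⊓ H.map (MulAut.conj b).toMonoidHom ≠ ⊥ → H.map (MulAut.conj a).toMonoidHom = H.map (MulAut.conj b).toMonoidHom) (χ : G → ℂ) (hχ : Cfsg.IsIrrCharacter G χ) (hker : ∃ h ∈ H, χ h ≠ χ 1) : (χ 1).re ^ 2 > (Nat.card H : ℝ) * (Cfsg.classInner (fun h : H => χ h) (fun _ => 1)).re ^ 2 ∧ (χ 1 ≠ 1 → (∀ M : Subgroup G, M.Normal → H ≤ M → M = ⊤) → (1 + (χ 1).re) ^ 2 > (Nat.card H : ℝ)) := by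
  classical
  let χ' : IrrCharacter G := ⟨χ, hχ⟩
  have hd : χ 1 = (charDegree χ : ℂ) := Cfsg.Agent.Lib.helper81.irr_one_eq_charDegree χ'
  have hre : (χ 1).re = (charDegree χ : ℝ) := by
    rw [hd]
    simp
  have hc : Cfsg.classInner (fun h : H => χ h) (fun _ => 1)
      = (Nat.card H : ℂ)⁻¹ * ∑ k : H, χ k := by
    unfold Cfsg.classInner
    simp
  refine ⟨?_, ?_⟩
  · have h1 := Cfsg.Agent.Lib.helper78.ft_degree_bound H hab hZ hone χ' hker
    rw [hre, hc]
    have h2 : ((Nat.card H : ℂ)⁻¹ * ∑ k : H, χ k).re ^ 2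
        ≤ Complex.normSq ((Nat.card H : ℂ)⁻¹ * ∑ k : H, χ k) := by
      rw [Complex.normSq_apply]
      nlinarith [mul_self_nonneg ((Nat.card H : ℂ)⁻¹ * ∑ k : H, χ k).im]
    have h3 : (0 : ℝ) ≤ Nat.card H := Nat.cast_nonneg _
    have h4 : (Nat.card H : ℝ) * ((Nat.card H : ℂ)⁻¹ * ∑ k : H, χ k).re ^ 2
        ≤ (Nat.card H : ℝ) * Complex.normSq ((Nat.card H : ℂ)⁻¹ * ∑ k : H, χ k) :=
      mul_le_mul_of_nonneg_left h2 h3
    exact lt_of_le_of_lt h4 h1
  · intro hne hnorm
    have hdeg : charDegree χ ≠ 1 := by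
      intro h
      apply hne
      rw [hd, h]
      simp
    have h5 := Cfsg.Agent.Lib.helper78.ft_degree_bound_two H hab hZ hone χ' hdeg hnorm
    rw [hre]
    exact h5

end Cfsg.Agent.S0898
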