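import Cfsg.Statements.S0900
import Cfsg.Agent.Lib.helper82.Clifford
import Cfsg.Agent.Lib.helper4.Induction

set_option autoImplicit false
open Cfsg

namespace Cfsg.Agent.S0900

open scoped ComplexConjugate
open Cfsg.Agent.Lib

/-- Sum of `|χ|²` over the group is the group order, for an irreducible character. -/
theorem sum_normSq_irr {G : Type*} [Group G] [Fintype G] {χ : G → ℂ}
    (hχ : Cfsg.IsIrrCharacter G χ) : ∑ g : G, Complex.normSq (χ g) = (Nat.card G : ℝ) := by
  have h1 := helper4.classInner_irr_self hχ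
  unfold Cfsg.classInner at h1
  have hne : (Nat.card G : ℂ) ≠ 0 := by
    exact_mod_cast (Nat.card_pos (α := G)).ne'
  have h2 : ∑ g : G, χ g * conj (χ g) = (Nat.card G : ℂ) := by
    field_simp at h1
    exact h1
  have h3 : ((∑ g : G, Complex.normSq (χ g) : ℝ) : ℂ) = ((Nat.card G : ℝ) : ℂ) := by
    push_cast
    rw [← h2]
    exact Finset.sum_congr rfl (fun g _ => (Complex.mul_conj (χ g)).symm)
  exact_mod_cast h3

open Classical in
/-- Splitting a sum over `G` into the part over a subgroup and the rest. -/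
theorem sum_split {G : Type*} [Group G] [Fintype G] (N : Subgroup G) [Fintype N] (f : G → ℝ) :
    ∑ g : G, f g = ∑ n : N, f n + ∑ g ∈ Finset.univ.filter (fun g : G => g ∉ N), f g := by
  rw [← Finset.sum_filter_add_sum_filter_not Finset.univ (fun g => g ∈ N)]
  congr 1
  exact Finset.sum_subtype (Finset.univ.filter (fun g => g ∈ N)) (fun x => by simp) f

/-- Let N be a normal subgroup of the finite group G, χ an irreducible character of G and ϑ an irreducible character of N having nonzero inner product with the restriction of χ. Consider: (a) the restriction of χ to N is e • ϑ for a natural number e with e ^ 2 equal to the index of N; (b) χ vanishes outside N and ϑ is invariant under conjugation by G; (c) ϑ is invariant and every irreducible character of G having nonzero inner product with the function induced from ϑ equals χ. Then (a) ↔ (b) and (a) ↔ (c). -/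
theorem result {G : Type*} [Group G] [Fintype G] (N : Subgroup G) [hN : N.Normal] [Fintype N] (χ : G → ℂ) (hχ : Cfsg.IsIrrCharacter G χ) (ϑ : N → ℂ) (hϑ : Cfsg.IsIrrCharacter N ϑ) (hcon : Cfsg.classInner (fun n : N => χ n) ϑ ≠ 0) : ((∃ e : ℕ, (fun n : N => χ n) = (e : ℂ) • ϑ ∧ e ^ 2 = N.index) ↔ ((∀ g : G, g ∉ N → χ g = 0) ∧ ∀ (g : G) (n : N), ϑ ⟨g * n * g⁻¹, hN.conj_mem (n : G) n.2 g⟩ = ϑ n)) ∧ ((∃ e : ℕ, (fun n : N => χ n) = (e : ℂ) • ϑ ∧ e ^ 2 = N.index) ↔ (∀ (g : G) (n : N), ϑ ⟨g * n * g⁻¹, hN.conj_mem (n : G) n.2 g⟩ = ϑ n ∧ ∀ ψ : G → ℂ, Cfsg.IsIrrCharacter G ψ → Cfsg.classInner (Cfsg.indFun N ϑ) ψ ≠ 0 → ψ = χ)) := by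
  classical
  haveI : Fintype (Cfsg.IrrCharacter N) := Fintype.ofFinite _
  haveI : Fintype (Cfsg.IrrCharacter G) := Fintype.ofFinite _
  have hχcf : Cfsg.IsClassFunction G χ := helper4.isClassFunction_of_isIrrCharacter hχ
  have hχc : Cfsg.IsCharacter G χ := helper4.isCharacter_of_isIrrCharacter hχ
  obtain ⟨e, he⟩ := helper4.exists_nat_classInner_irr (helper4.isCharacter_restrict N hχc) hϑ
  have he0 : e ≠ 0 := by
    intro h0
    rw [h0, Nat.cast_zero] at he
    exact hcon he
  have hcardN : (Nat.card N : ℝ) ≠ 0 := by exact_mod_cast (Nat.card_pos (α := N)).ne'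
  have hindex : (N.index : ℝ) * (Nat.card N : ℝ) = (Nat.card G : ℝ) := by
    exact_mod_cast N.index_mul_card
  have hsumG := sum_normSq_irr hχ
  have hsumN := sum_normSq_irr hϑ
  have hsplit := sum_split N (fun g => Complex.normSq (χ g))
  -- F3: invariance gives the Clifford decomposition
  have F3 : (∀ (g : G) (n : N), ϑ ⟨g * n * g⁻¹, hN.conj_mem (n : G) n.2 g⟩ = ϑ n) →
      ∀ n : N, χ n = e * ϑ n := by
    intro hinv n
    have hinv' : ∀ g : G, helper82.cconj N g ϑ = ϑ := fun g =>
      (helper82.cconj_eq_iff N g ϑ).mpr (hinv g)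
    exact helper82.clifford_invariant N hχ hϑ hinv' e he he0 n
  -- F4: (a) gives invariance
  have F4 : ∀ e' : ℕ, (fun n : N => χ n) = (e' : ℂ) • ϑ → e' ^ 2 = N.index →
      ∀ (g : G) (n : N), ϑ ⟨g * n * g⁻¹, hN.conj_mem (n : G) n.2 g⟩ = ϑ n := by
    intro e' h1 h2 g n
    have he'0 : (e' : ℂ) ≠ 0 := by
      have : e' ≠ 0 := by
        intro h0
        rw [h0] at h2
        have := Subgroup.index_ne_zero_of_finite (H := N)
        simp at h2
        exact this h2.symm
      exact_mod_cast this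
    have ha := congrFun h1 ⟨g * n * g⁻¹, hN.conj_mem (n : G) n.2 g⟩
    have hb := congrFun h1 n
    simp only [Pi.smul_apply, smul_eq_mul] at ha hb
    have hc : χ (g * n * g⁻¹) = χ n := hχcf n g
    rw [ha, hb] at hc
    exact mul_left_cancel₀ he'0 hc
  -- (a) gives vanishing off N
  have AV : ∀ e' : ℕ, (fun n : N => χ n) = (e' : ℂ) • ϑ → e' ^ 2 = N.index →
      ∀ g : G, g ∉ N → χ g = 0 := by
    intro e' h1 h2 g hg
    have h3 : ∑ n : N, Complex.normSq (χ n) = (Nat.card G : ℝ) := by
      have h4 : ∀ n : N, Complex.normSq (χ n) = (e' : ℝ) ^ 2 * Complex.normSq (ϑ n) := by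
        intro n
        have hb := congrFun h1 n
        simp only [Pi.smul_apply, smul_eq_mul] at hb
        rw [hb, Complex.normSq_mul, Complex.normSq_natCast]
        ring
      rw [Finset.sum_congr rfl (fun n _ => h4 n), ← Finset.mul_sum, hsumN, ← hindex]
      have : ((e' : ℝ)) ^ 2 = (N.index : ℝ) := by exact_mod_cast h2
      rw [this]
    have h5 : ∑ g ∈ Finset.univ.filter (fun g : G => g ∉ N), Complex.normSq (χ g) = 0 := by
      linarith
    have h6 := (Finset.sum_eq_zero_iff_of_nonneg (fun g _ => Complex.normSq_nonneg (χ g))).mp h5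
      g (Finset.mem_filter.mpr ⟨Finset.mem_univ g, hg⟩)
    exact Complex.normSq_eq_zero.mp h6
  refine ⟨⟨?_, ?_⟩, ⟨?_, ?_⟩⟩
  · -- (a) → (b)
    rintro ⟨e', h1, h2⟩
    exact ⟨AV e' h1 h2, F4 e' h1 h2⟩
  · -- (b) → (a)
    rintro ⟨hvan, hinv⟩
    have hres := F3 hinv
    refine ⟨e, funext (fun n => by simp [hres n]), ?_⟩
    have h5 : ∑ g ∈ Finset.univ.filter (fun g : G => g ∉ N), Complex.normSq (χ g) = 0 := by
      refine Finset.sum_eq_zero (fun g hg => ?_)
      rw [hvan g (Finset.mem_filter.mp hg).2, map_zero]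
    have h4 : ∀ n : N, Complex.normSq (χ n) = (e : ℝ) ^ 2 * Complex.normSq (ϑ n) := by
      intro n
      rw [hres n, Complex.normSq_mul, Complex.normSq_natCast]
      ring
    have h3 : ∑ n : N, Complex.normSq (χ n) = (e : ℝ) ^ 2 * (Nat.card N : ℝ) := by
      rw [Finset.sum_congr rfl (fun n _ => h4 n), ← Finset.mul_sum, hsumN]
    have h6 : (e : ℝ) ^ 2 * (Nat.card N : ℝ) = (N.index : ℝ) * (Nat.card N : ℝ) := by
      linarith
    have h7 : (e : ℝ) ^ 2 = (N.index : ℝ) := mul_right_cancel₀ hcardN h6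
    exact_mod_cast h7
  · -- (a) → (c)
    rintro ⟨e', h1, h2⟩ g n
    have hinv := F4 e' h1 h2
    have hvan := AV e' h1 h2
    refine ⟨hinv g n, fun ψ hψ hne => ?_⟩
    have hind : Cfsg.indFun N ϑ = (e' : ℂ) • χ := by
      funext x
      by_cases hx : x ∈ N
      · have h3 := helper82.indFun_apply_mem N ϑ ⟨x, hx⟩
        have h4 : ∀ y : G, helper82.cconj N y ϑ ⟨x, hx⟩ = ϑ ⟨x, hx⟩ := fun y => by
          rw [(helper82.cconj_eq_iff N y ϑ).mpr (hinv y)]
        rw [Finset.sum_congr rfl (fun y _ => h4 y), Finset.sum_const, Finset.card_univ,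
          nsmul_eq_mul] at h3
        have hb := congrFun h1 ⟨x, hx⟩
        simp only [Pi.smul_apply, smul_eq_mul] at hb
        have h5 : (x : G) = ((⟨x, hx⟩ : N) : G) := rfl
        rw [Pi.smul_apply, smul_eq_mul, h5, h3, hb, ← mul_assoc, ← mul_assoc]
        congr 1
        have h6 : ((e' : ℂ)) * (e' : ℂ) = (N.index : ℂ) := by
          have : ((e' ^ 2 : ℕ) : ℂ) = (N.index : ℂ) := by rw [h2]
          rw [← this]; push_cast; ring
        rw [h6]
        have h7 : (N.index : ℂ) * (Nat.card N : ℂ) = (Fintype.card G : ℂ) := by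
          rw [← Nat.card_eq_fintype_card]
          exact_mod_cast N.index_mul_card
        have h8 : (Nat.card N : ℂ) ≠ 0 := by exact_mod_cast (Nat.card_pos (α := N)).ne'
        rw [← h7]
        field_simp
      · rw [helper82.indFun_apply_not_mem N ϑ hx, Pi.smul_apply, hvan x hx, smul_zero]
    rw [hind, helper4.classInner_smul_left] at hne
    by_contra hψχ
    have := helper4.classInner_irr_ne hχ hψ (fun h => hψχ h.symm)
    rw [this, mul_zero] at hne
    exact hne rfl
  · -- (c) → (a)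
    intro hc
    have hinv : ∀ (g : G) (n : N), ϑ ⟨g * n * g⁻¹, hN.conj_mem (n : G) n.2 g⟩ = ϑ n :=
      fun g n => (hc g n).1
    have hall : ∀ ψ : G → ℂ, Cfsg.IsIrrCharacter G ψ →
        Cfsg.classInner (Cfsg.indFun N ϑ) ψ ≠ 0 → ψ = χ := (hc 1 1).2
    have hres := F3 hinv
    have hresf : (fun n : N => χ n) = (e : ℂ) • ϑ := funext (fun n => by simp [hres n])
    refine ⟨e, hresf, ?_⟩
    have hdec := helper4.classFunction_eq_sum_irr (helper4.isClassFunction_indFun N ϑ)
    have hsingle : ∑ ψ : Cfsg.IrrCharacter G,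
        Cfsg.classInner (Cfsg.indFun N ϑ) (ψ : G → ℂ) • (ψ : G → ℂ) =
        Cfsg.classInner (Cfsg.indFun N ϑ) χ • χ := by
      rw [Finset.sum_eq_single (⟨χ, hχ⟩ : Cfsg.IrrCharacter G)]
      · intro ψ _ hψ
        by_contra h0
        have h1 : Cfsg.classInner (Cfsg.indFun N ϑ) (ψ : G → ℂ) ≠ 0 := by
          intro h2
          rw [h2, zero_smul] at h0
          exact h0 rfl
        exact hψ (Subtype.ext (hall ψ ψ.2 h1))
      · intro h
        exact absurd (Finset.mem_univ _) h
    have hfrob : Cfsg.classInner (Cfsg.indFun N ϑ) χ = (e : ℂ) := by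
      rw [helper4.frobenius_reciprocity N ϑ hχcf, hresf, helper4.classInner_smul_right,
        helper4.classInner_irr_self hϑ]
      simp
    rw [hsingle, hfrob] at hdec
    have h1 := congrFun hdec 1
    rw [helper4.indFun_one, Pi.smul_apply, smul_eq_mul] at h1
    have h2 : χ 1 = e * ϑ 1 := hres 1
    have h3 : ϑ 1 ≠ 0 := helper4.irr_degree_ne_zero hϑ
    rw [h2, ← mul_assoc] at h1
    have h4 : (N.index : ℂ) = (e : ℂ) * (e : ℂ) := mul_right_cancel₀ h3 h1
    have h5 : ((e ^ 2 : ℕ) : ℂ) = (N.index : ℂ) := by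
      rw [h4]; push_cast; ring
    exact_mod_cast h5

end Cfsg.Agent.S0900
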