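import Cfsg.Statements.S0901
import Cfsg.Agent.Lib.helper79.ModRoots

set_option autoImplicit false
open Cfsg

namespace Cfsg.Agent.S0901

/-- Let M be a maximal ideal of the ring of algebraic integers containing the prime p, and let U be the set of complex roots of unity of order prime to p. Then reduction modulo M is injective on U, and every algebraic integer not in M is congruent modulo M to an element of U (so U maps bijectively onto the nonzero residues). -/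
theorem result (p : ℕ) [Fact p.Prime] (M : Ideal Cfsg.AlgInt) (hM : Cfsg.IsPModular p M) : (∀ ε₁ ε₂ : Cfsg.AlgInt, (∃ m : ℕ, ¬ p ∣ m ∧ (ε₁ : ℂ) ^ m = 1) → (∃ m : ℕ, ¬ p ∣ m ∧ (ε₂ : ℂ) ^ m = 1) → ε₁ - ε₂ ∈ M → ε₁ = ε₂) ∧ (∀ a : Cfsg.AlgInt, a ∉ M → ∃ ε : Cfsg.AlgInt, (∃ m : ℕ, ¬ p ∣ m ∧ (ε : ℂ) ^ m = 1) ∧ a - ε ∈ M) := by
  refine ⟨?_, ?_⟩
  · rintro ε₁ ε₂ ⟨m₁, hm₁, h₁⟩ ⟨m₂, hm₂, h₂⟩ hmem
    have hm : ¬ p ∣ m₁ * m₂ := by
      intro h
      rcases (Nat.Prime.dvd_mul hM.1).mp h with h | h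
      · exact hm₁ h
      · exact hm₂ h
    have e₁ : ε₁ ^ (m₁ * m₂) = 1 := by
      apply Subtype.ext
      have : ((ε₁ ^ (m₁ * m₂) : Cfsg.AlgInt) : ℂ) = (ε₁ : ℂ) ^ (m₁ * m₂) := by simp
      rw [this, pow_mul, h₁, one_pow]
      rfl
    have e₂ : ε₂ ^ (m₁ * m₂) = 1 := by
      apply Subtype.ext
      have : ((ε₂ ^ (m₁ * m₂) : Cfsg.AlgInt) : ℂ) = (ε₂ : ℂ) ^ (m₁ * m₂) := by simp
      rw [this, mul_comm, pow_mul, h₂, one_pow]
      rfl
    exact Cfsg.Agent.Lib.helper79.pmodular_rootOfUnity_injective hM hm e₁ e₂ hmem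
  · intro a ha
    obtain ⟨ε, ⟨m, -, hpm, hε⟩, hmem⟩ :=
      Cfsg.Agent.Lib.helper79.exists_rootOfUnity_sub_mem hM a ha
    refine ⟨ε, ⟨m, hpm, ?_⟩, hmem⟩
    have := congrArg Subtype.val hε
    simpa using this

end Cfsg.Agent.S0901
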