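import Mathlib
import Cfsg.Statements.S0902
import Cfsg.Agent.Lib.helper79.Contrib
import Cfsg.Agent.Lib.helper84.BlockOrth
import Cfsg.Agent.Lib.helper20.CentralChar
import Cfsg.Agent.Lib.helper81.Blocks

set_option autoImplicit false
open Cfsg

namespace Cfsg.Agent.S0902

open Cfsg.Agent.Lib.helper20
open Cfsg.Agent.Lib.helper79 (regInner contrib contrib_spec contrib_ne_zero_of_height_zero
  exists_height_zero)
open Cfsg.Agent.Lib.helper81 (isPBlock_blockOf mem_blockOf_self)
open scoped ComplexConjugate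

/-- An algebraic integer in the local ideal lies in the ideal. -/
theorem mem_of_memLocalIdeal_algInt {M : Ideal AlgInt} (hM : M.IsPrime) (r : AlgInt)
    (h : MemLocalIdeal M (r : ℂ)) : r ∈ M := by
  obtain ⟨a, b, ha, hb, hab⟩ := h
  have hb0 : (b : ℂ) ≠ 0 := by
    intro h0
    apply hb
    have : b = 0 := Subtype.ext h0
    rw [this]; exact M.zero_mem
  have h1 : a = r * b := by
    apply Subtype.ext
    push_cast
    rw [← hab]
    field_simp
  rw [h1] at ha
  rcases hM.mem_or_mem ha with h2 | h2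
  · exact h2
  · exact absurd h2 hb

/-- If two irreducible characters of a finite group lie in the same block relative to one maximal ideal M of the algebraic integers containing the prime p, then at every element the difference of their central characters is an algebraic integer lying in every maximal ideal containing p; in particular they lie in the same block relative to any such ideal. -/
theorem result {G : Type*} [Group G] [Finite G] (p : ℕ) [Fact p.Prime] (M : Ideal Cfsg.AlgInt) (hM : Cfsg.IsPModular p M) (χ ψ : Cfsg.IrrCharacter G) (h : Cfsg.SameBlock M (χ : G → ℂ) (ψ : G → ℂ)) (M' : Ideal Cfsg.AlgInt) (hM' : Cfsg.IsPModular p M') (g : G) : ∃ r : Cfsg.AlgInt, r ∈ M' ∧ (r : ℂ) = Cfsg.centralChar (χ : G → ℂ) g - Cfsg.centralChar (ψ : G → ℂ) g := by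
  classical
  have hpp : p.Prime := Fact.out
  have hfin : Fintype G := Fintype.ofFinite G
  have hMp : M.IsPrime := hM.2.1.isPrime
  have hMp' : M'.IsPrime := hM'.2.1.isPrime
  have hpc : (p : ℂ) ≠ 0 := Nat.cast_ne_zero.mpr hpp.ne_zero
  have hG0 : (Nat.card G : ℂ) ≠ 0 := Nat.cast_ne_zero.mpr Nat.card_pos.ne'
  -- the block of χ relative to M
  have hB : IsPBlock M (blockOf M (χ : G → ℂ)) := isPBlock_blockOf χ
  have hχB : χ ∈ blockOf M (χ : G → ℂ) := mem_blockOf_self hMp χ
  have hψB : ψ ∈ blockOf M (χ : G → ℂ) := h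
  obtain ⟨χ₀, hχ₀, h0⟩ := exists_height_zero (p := p) hM hB
  -- every member of the block is in the M'-block of χ₀
  have key : ∀ ζ : IrrCharacter G, ζ ∈ blockOf M (χ : G → ℂ) →
      SameBlock M' (χ₀ : G → ℂ) (ζ : G → ℂ) := by
    intro ζ hζ
    by_contra hnot
    have h1 := Cfsg.Agent.Lib.helper84.sum_pRegular_irr_mul_conj hM' χ₀ ζ hnot
    have h2 : regInner p (χ₀ : G → ℂ) (ζ : G → ℂ) = 0 := by
      rw [← h1]
      unfold regInner pRegularPart IsPRegular
      apply Finset.sum_congr rfl
      intro x _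
      split_ifs <;> simp
    have h3 := contrib_spec hM hB hχ₀ ζ
    rw [h2, mul_zero] at h3
    have h4 : (contrib p (blockOf M (χ : G → ℂ)) χ₀ ζ : ℂ) = 0 :=
      (mul_eq_zero.1 h3).resolve_right hG0
    have h5 : contrib p (blockOf M (χ : G → ℂ)) χ₀ ζ = 0 := by exact_mod_cast h4
    exact contrib_ne_zero_of_height_zero hM hB hχ₀ h0 hζ h5
  have h1 := key χ hχB g
  have h2 := key ψ hψB g
  have h3 := memLocalIdeal_sub hMp' h2 h1
  have e : centralChar (χ₀ : G → ℂ) g - centralChar (ψ : G → ℂ) g
      - (centralChar (χ₀ : G → ℂ) g - centralChar (χ : G → ℂ) g)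
      = centralChar (χ : G → ℂ) g - centralChar (ψ : G → ℂ) g := by ring
  rw [e] at h3
  have hint : IsIntegral ℤ (centralChar (χ : G → ℂ) g - centralChar (ψ : G → ℂ) g) :=
    (isIntegral_centralChar _ χ.2 g).sub (isIntegral_centralChar _ ψ.2 g)
  refine ⟨⟨_, hint⟩, ?_, rfl⟩
  exact mem_of_memLocalIdeal_algInt hMp' ⟨_, hint⟩ h3

end Cfsg.Agent.S0902
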