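import Cfsg.Statements.S0903

set_option autoImplicit false
open Cfsg

namespace Cfsg.Agent.S0903

/-- The conjugation action of `P` on pairs `(x, y)` with `x ~ g`, `y ~ h`, `x * y = c`. -/
@[instance_reducible] noncomputable def pairAction {G : Type*} [Group G] (P : Subgroup G) (c : G)
    (hc : c ∈ Subgroup.centralizer (P : Set G)) (g h : G) :
    MulAction P {xy : G × G // IsConj g xy.1 ∧ IsConj h xy.2 ∧ xy.1 * xy.2 = c} where
  smul u xy := ⟨((u : G) * xy.1.1 * (u : G)⁻¹, (u : G) * xy.1.2 * (u : G)⁻¹), by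
    obtain ⟨⟨x, y⟩, h1, h2, h3⟩ := xy
    refine ⟨?_, ?_, ?_⟩
    · exact h1.trans (isConj_iff.mpr ⟨u, rfl⟩)
    · exact h2.trans (isConj_iff.mpr ⟨u, rfl⟩)
    · simp only at h3 ⊢
      have hcu : (u : G) * c = c * (u : G) := hc (u : G) u.2
      calc (u : G) * x * (u : G)⁻¹ * ((u : G) * y * (u : G)⁻¹)
          = (u : G) * (x * y) * (u : G)⁻¹ := by group
        _ = (u : G) * c * (u : G)⁻¹ := by rw [h3]
        _ = c := by rw [hcu]; group⟩
  one_smul := by
    rintro ⟨⟨x, y⟩, h1, h2, h3⟩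
    apply Subtype.ext
    show (((1 : P) : G) * x * ((1 : P) : G)⁻¹, ((1 : P) : G) * y * ((1 : P) : G)⁻¹) = (x, y)
    simp
  mul_smul := by
    rintro u v ⟨⟨x, y⟩, h1, h2, h3⟩
    apply Subtype.ext
    show (((u * v : P) : G) * x * ((u * v : P) : G)⁻¹, ((u * v : P) : G) * y * ((u * v : P) : G)⁻¹)
      = ((u : G) * ((v : G) * x * (v : G)⁻¹) * (u : G)⁻¹, (u : G) * ((v : G) * y * (v : G)⁻¹) * (u : G)⁻¹)
    simp [mul_assoc]

theorem result {G : Type*} [Group G] [Finite G] (p : ℕ) [Fact p.Prime] (P : Subgroup G) (hP : IsPGroup p P) (c : G) (hc : c ∈ Subgroup.centralizer (P : Set G)) (g h : G) : Nat.card {xy : G × G // IsConj g xy.1 ∧ IsConj h xy.2 ∧ xy.1 * xy.2 = c} ≡ Nat.card {xy : G × G // IsConj g xy.1 ∧ IsConj h xy.2 ∧ xy.1 * xy.2 = c ∧ xy.1 ∈ Subgroup.centralizer (P : Set G) ∧ xy.2 ∈ Subgroup.centralizer (P : Set G)} [MOD p] := by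
  let _ := pairAction P c hc g h
  have key := hP.card_modEq_card_fixedPoints
    {xy : G × G // IsConj g xy.1 ∧ IsConj h xy.2 ∧ xy.1 * xy.2 = c}
  refine key.trans ?_
  have hsmul : ∀ (u : P) (xy : {xy : G × G // IsConj g xy.1 ∧ IsConj h xy.2 ∧ xy.1 * xy.2 = c}),
      (u • xy).1 = ((u : G) * xy.1.1 * (u : G)⁻¹, (u : G) * xy.1.2 * (u : G)⁻¹) := fun _ _ => rfl
  have e : (MulAction.fixedPoints P {xy : G × G // IsConj g xy.1 ∧ IsConj h xy.2 ∧ xy.1 * xy.2 = c}) ≃
      {xy : G × G // IsConj g xy.1 ∧ IsConj h xy.2 ∧ xy.1 * xy.2 = c ∧ xy.1 ∈ Subgroup.centralizer (P : Set G) ∧ xy.2 ∈ Subgroup.centralizer (P : Set G)} :=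
    { toFun := fun z => ⟨z.1.1, z.1.2.1, z.1.2.2.1, z.1.2.2.2, by
          intro u hu
          have := congrArg Subtype.val (z.2 ⟨u, hu⟩)
          rw [hsmul] at this
          have h1 := congrArg Prod.fst this
          simp only at h1
          calc u * z.1.1.1 = u * z.1.1.1 * u⁻¹ * u := by group
            _ = z.1.1.1 * u := by rw [h1], by
          intro u hu
          have := congrArg Subtype.val (z.2 ⟨u, hu⟩)
          rw [hsmul] at this
          have h1 := congrArg Prod.snd this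
          simp only at h1
          calc u * z.1.1.2 = u * z.1.1.2 * u⁻¹ * u := by group
            _ = z.1.1.2 * u := by rw [h1]⟩
      invFun := fun z => ⟨⟨z.1, z.2.1, z.2.2.1, z.2.2.2.1⟩, by
          intro u
          apply Subtype.ext
          rw [hsmul]
          have h1 := z.2.2.2.2.1 (u : G) u.2
          have h2 := z.2.2.2.2.2 (u : G) u.2
          simp only
          ext
          · simp only
            rw [h1]; group
          · simp only
            rw [h2]; group⟩
      left_inv := fun z => rfl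
      right_inv := fun z => rfl }
  rw [Nat.card_congr e]

end Cfsg.Agent.S0903
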