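import Mathlib
import Cfsg.Statements.S0905
import Cfsg.Agent.Lib.helper20.ClassNil

set_option autoImplicit false
open Cfsg

namespace Cfsg.Agent.S0905

open Cfsg.Agent.Lib.helper20

theorem result {G : Type*} [Group G] [Finite G] (p : ℕ) [Fact p.Prime] (F : Type*) [Field F] [CharP F p] (g : G) (hg : ∀ x : G, IsConj g x → x ∉ Subgroup.centralizer (Cfsg.pCore p G : Set G)) : IsNilpotent (∑ᶠ x ∈ ConjClasses.carrier (ConjClasses.mk g), MonoidAlgebra.single x (1 : F) : MonoidAlgebra F G) := by
  classical
  have : Fintype G := Fintype.ofFinite G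
  have hP : IsPGroup p (Cfsg.pCore p G) :=
    Sylow.sSup_of_normal _ (fun _ h => h.2) (fun _ h => h.1)
  have hN : (Cfsg.pCore p G).Normal := Subgroup.sSup_normal _ (fun _ h => h.1)
  have hsum : (∑ᶠ x ∈ ConjClasses.carrier (ConjClasses.mk g), MonoidAlgebra.single x (1 : F)
      : MonoidAlgebra F G) = classSumF F g := by
    unfold classSumF
    apply finsum_mem_eq_sum_of_subset
    · intro x hx
      have h1 := hx.1
      rw [ConjClasses.mem_carrier_iff_mk_eq, ConjClasses.mk_eq_mk_iff_isConj] at h1
      simpa using h1.symm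
    · intro x hx
      rw [Finset.coe_filter] at hx
      rw [ConjClasses.mem_carrier_iff_mk_eq, ConjClasses.mk_eq_mk_iff_isConj]
      exact hx.2.symm
  rw [hsum]
  exact isNilpotent_classSumF F p (Cfsg.pCore p G) hP g hg

end Cfsg.Agent.S0905
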