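import Mathlib
import Cfsg.Statements.S0906
import Cfsg.Agent.Lib.helper81.Blocks

set_option autoImplicit false
open Cfsg

namespace Cfsg.Agent.S0906

theorem result {G : Type*} [Group G] [Finite G] (p : ℕ) [Fact p.Prime] (M : Ideal Cfsg.AlgInt) (hM : Cfsg.IsPModular p M) (B : Set (Cfsg.IrrCharacter G)) (hB : Cfsg.IsPBlock M B) : ∃ g : G, Cfsg.IsDefectClass M B g :=
  Cfsg.Agent.Lib.helper81.exists_isDefectClass' (Cfsg.Agent.Lib.helper20.isPrime_of_isPModular hM) hB

end Cfsg.Agent.S0906
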