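import Mathlib
import Cfsg.Statements.S0909
import Cfsg.Agent.Lib.helper20.Basic
import Cfsg.Agent.Lib.helper83.CharBasic

set_option autoImplicit false
open Cfsg

namespace Cfsg.Agent.S0909

open Cfsg.Agent.Lib.helper20
open scoped ComplexConjugate

/-- The block coefficient as a finite sum. -/
theorem blockCoeff_eq_sum {G : Type*} [Group G] [Fintype (IrrCharacter G)]
    (A : Set (IrrCharacter G)) [DecidablePred (· ∈ A)] (g : G) :
    blockCoeff A g = (Nat.card G : ℂ)⁻¹ *
      ∑ θ ∈ Finset.univ.filter (· ∈ A), (θ : G → ℂ) 1 * conj ((θ : G → ℂ) g) := by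
  unfold blockCoeff
  congr 1
  apply finsum_mem_eq_sum_of_subset
  · intro x hx; simpa using hx.1
  · intro x hx; simpa using hx

/-- The block coefficient is a class function. -/
theorem blockCoeff_conj {G : Type*} [Group G] (A : Set (IrrCharacter G)) (x y : G)
    (hxy : IsConj x y) : blockCoeff A x = blockCoeff A y := by
  unfold blockCoeff
  congr 1
  apply finsum_mem_congr rfl
  intro θ _
  rw [isIrrCharacter_conj θ.2 x y hxy]

/-- The "central character" of `φ` evaluated at the element with coefficients `blockCoeff A`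
is `1` or `0` according to whether `φ ∈ A`. -/
theorem omega_eq {G : Type*} [Group G] [Fintype G] [Fintype (IrrCharacter G)]
    (A : Set (IrrCharacter G)) [DecidablePred (· ∈ A)] (φ : IrrCharacter G) :
    ∑ g : G, blockCoeff A g * ((φ : G → ℂ) g / (φ : G → ℂ) 1) = if φ ∈ A then 1 else 0 := by
  classical
  simp_rw [blockCoeff_eq_sum, Finset.mul_sum, Finset.sum_mul]
  rw [Finset.sum_comm]
  have key : ∀ θ : IrrCharacter G,
      ∑ g : G, (Nat.card G : ℂ)⁻¹ * ((θ : G → ℂ) 1 * conj ((θ : G → ℂ) g))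
          * ((φ : G → ℂ) g / (φ : G → ℂ) 1) = if φ = θ then 1 else 0 := by
    intro θ
    have h := Cfsg.Agent.Lib.helper83.irr_orthogonality' φ θ
    have hG : (Nat.card G : ℂ) ≠ 0 := by exact_mod_cast Nat.card_pos.ne'
    have hφ := Cfsg.Agent.Lib.helper83.irr_one_ne_zero φ
    calc ∑ g : G, (Nat.card G : ℂ)⁻¹ * ((θ : G → ℂ) 1 * conj ((θ : G → ℂ) g))
          * ((φ : G → ℂ) g / (φ : G → ℂ) 1)
        = (Nat.card G : ℂ)⁻¹ * ((θ : G → ℂ) 1 / (φ : G → ℂ) 1)
            * ∑ g : G, (φ : G → ℂ) g * conj ((θ : G → ℂ) g) := by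
          rw [Finset.mul_sum]
          apply Finset.sum_congr rfl
          intro g _
          ring
      _ = if φ = θ then 1 else 0 := by
          rw [h]
          split_ifs with heq
          · subst heq
            field_simp
          · simp
  simp_rw [key]
  rw [Finset.sum_ite_eq]
  simp

theorem result {G : Type*} [Group G] [Finite G] (p : ℕ) [Fact p.Prime] (M : Ideal Cfsg.AlgInt) (hM : Cfsg.IsPModular p M) (A : Set (Cfsg.IrrCharacter G)) (hA : ∀ g : G, Cfsg.MemLocalRing M (Cfsg.blockCoeff A g)) (χ : Cfsg.IrrCharacter G) (hχ : χ ∈ A) : Cfsg.blockOf M (χ : G → ℂ) ⊆ A := by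
  classical
  have hMp := isPrime_of_isPModular hM
  have : Fintype G := Fintype.ofFinite G
  have : Fintype (IrrCharacter G) := Fintype.ofFinite _
  intro ψ hψ
  by_contra hψA
  have hsame : ∀ g : G, MemLocalIdeal M (centralChar (χ : G → ℂ) g - centralChar (ψ : G → ℂ) g) := hψ
  have h1 := omega_eq A χ
  have h2 := omega_eq A ψ
  rw [if_pos hχ] at h1
  rw [if_neg hψA] at h2
  have hdiff : ∑ g : G, blockCoeff A g *
      ((χ : G → ℂ) g / (χ : G → ℂ) 1 - (ψ : G → ℂ) g / (ψ : G → ℂ) 1) = 1 := by
    simp_rw [mul_sub]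
    rw [Finset.sum_sub_distrib, h1, h2, sub_zero]
  have hmem : MemLocalIdeal M (∑ g : G, blockCoeff A g *
      ((χ : G → ℂ) g / (χ : G → ℂ) 1 - (ψ : G → ℂ) g / (ψ : G → ℂ) 1)) := by
    apply sum_conj_stable_induction (MemLocalIdeal M) (memLocalIdeal_zero hMp)
      (fun _ _ => memLocalIdeal_add hMp)
    · intro x _ y _; exact Finset.mem_univ y
    · intro x y hxy
      rw [blockCoeff_conj A x y hxy, isIrrCharacter_conj χ.2 x y hxy,
        isIrrCharacter_conj ψ.2 x y hxy]
    · intro x _
      have := memLocalIdeal_mul_left hMp (hA x) (hsame x)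
      unfold centralChar at this
      convert this using 1
      ring
  rw [hdiff] at hmem
  exact not_memLocalIdeal_one hmem

end Cfsg.Agent.S0909
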