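import Cfsg.Statements.S0911
import Cfsg.Agent.Lib.helper80.DefectGroup

set_option autoImplicit false
open Cfsg

namespace Cfsg.Agent.S0911

open Cfsg.Agent.Lib.helper80 Cfsg.Agent.Lib.helper20

/-- The min–max Theorem for defect classes. Let B be a block of the finite group G relative to a maximal ideal M of the algebraic integers containing the prime p, let g represent a defect class of B and let D be a Sylow p-subgroup of the centralizer of g (viewed in G). For any h: (a) if the idempotent coefficient of B at h is a local integer outside the local ideal, then some conjugate of D contains a Sylow p-subgroup of the centralizer of h; (b) if the central character of some member of B at h is outside the local ideal, then some conjugate of D is contained in a Sylow p-subgroup of the centralizer of h. -/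
theorem result {G : Type*} [Group G] [Finite G] (p : ℕ) [Fact p.Prime] (M : Ideal Cfsg.AlgInt) (hM : Cfsg.IsPModular p M) (B : Set (Cfsg.IrrCharacter G)) (hB : Cfsg.IsPBlock M B) (g : G) (hg : Cfsg.IsDefectClass M B g) (D : Sylow p (Subgroup.centralizer ({g} : Set G))) (h : G) : (Cfsg.MemLocalRing M (Cfsg.blockCoeff B h) → ¬ Cfsg.MemLocalIdeal M (Cfsg.blockCoeff B h) → ∃ (x : G) (Q : Sylow p (Subgroup.centralizer ({h} : Set G))), (Q : Subgroup (Subgroup.centralizer ({h} : Set G))).map (Subgroup.centralizer ({h} : Set G)).subtype ≤ ((D : Subgroup (Subgroup.centralizer ({g} : Set G))).map (Subgroup.centralizer ({g} : Set G)).subtype).map (MulAut.conj x).toMonoidHom) ∧ ((∃ χ ∈ B, ¬ Cfsg.MemLocalIdeal M (Cfsg.centralChar (χ : G → ℂ) h)) → ∃ (x : G) (Q : Sylow p (Subgroup.centralizer ({h} : Set G))), ((D : Subgroup (Subgroup.centralizer ({g} : Set G))).map (Subgroup.centralizer ({g} : Set G)).subtype).map (MulAut.conj x).toMonoidHom ≤ (Q : Subgroup (Subgroup.centralizer ({h} : Set G))).map (Subgroup.centralizer ({h} : Set G)).subtype) := by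
  classical
  have := Fintype.ofFinite G
  have hDG : Cfsg.IsDefectGroup p M B ((D : Subgroup (Subgroup.centralizer ({g} : Set G))).map
      (Subgroup.centralizer ({g} : Set G)).subtype) := ⟨g, hg, D, rfl⟩
  constructor
  · intro _ hec
    obtain ⟨Q₀⟩ : Nonempty (Sylow p (Subgroup.centralizer ({h} : Set G))) := inferInstance
    have hQ : IsPGroup p ((Q₀ : Subgroup (Subgroup.centralizer ({h} : Set G))).map
        (Subgroup.centralizer ({h} : Set G)).subtype) := Q₀.isPGroup'.map _
    have hc : h ∈ Subgroup.centralizer
        (((Q₀ : Subgroup (Subgroup.centralizer ({h} : Set G))).map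
          (Subgroup.centralizer ({h} : Set G)).subtype : Subgroup G) : Set G) := by
      rw [Subgroup.mem_centralizer_iff]
      intro q hq
      have h1 : q ∈ Subgroup.centralizer ({h} : Set G) := Subgroup.map_subtype_le _ hq
      rw [mem_centralizer_singleton] at h1
      exact h1.symm
    obtain ⟨x, hx⟩ := IsDefectGroup.exists_conj_mem hM hB hDG _ hQ h hc hec
    refine ⟨x, Q₀, ?_⟩
    intro q hq
    rw [mem_map_conj]
    exact hx q hq
  · rintro ⟨χ, hχ, hh⟩
    obtain ⟨x, hx⟩ := IsDefectGroup.exists_conj_mem_centralizer hM hB hDG hχ h hh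
    have hle : (((D : Subgroup (Subgroup.centralizer ({g} : Set G))).map
        (Subgroup.centralizer ({g} : Set G)).subtype).map (MulAut.conj x).toMonoidHom)
        ≤ Subgroup.centralizer ({h} : Set G) := by
      intro y hy
      rw [mem_map_conj] at hy
      have := hx _ hy
      have h2 : x * (x⁻¹ * y * x) * x⁻¹ = y := by group
      rwa [h2] at this
    have hE : IsPGroup p (((D : Subgroup (Subgroup.centralizer ({g} : Set G))).map
        (Subgroup.centralizer ({g} : Set G)).subtype).map (MulAut.conj x).toMonoidHom) :=
      (D.isPGroup'.map _).map _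
    obtain ⟨Q, hQ⟩ := (hE.comap_subtype (K := Subgroup.centralizer ({h} : Set G))).exists_le_sylow
    refine ⟨x, Q, ?_⟩
    intro y hy
    have h1 : (⟨y, hle hy⟩ : Subgroup.centralizer ({h} : Set G)) ∈ (Q : Subgroup _) :=
      hQ (Subgroup.mem_subgroupOf.mpr hy)
    exact Subgroup.mem_map.mpr ⟨_, h1, rfl⟩

end Cfsg.Agent.S0911
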