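import Mathlib
import Cfsg.Statements.S0914
import Cfsg.Agent.Lib.helper20.DefectZero

set_option autoImplicit false
open Cfsg

namespace Cfsg.Agent.S0914

open Cfsg.Agent.Lib.helper20 Cfsg.Agent.Lib.helper81
open scoped ComplexConjugate

theorem result {G : Type*} [Group G] [Finite G] (p : ℕ) [Fact p.Prime] (M : Ideal Cfsg.AlgInt) (hM : Cfsg.IsPModular p M) (χ : Cfsg.IrrCharacter G) : ¬ p ∣ Nat.card G / Cfsg.charDegree (χ : G → ℂ) ↔ Cfsg.blockOf M (χ : G → ℂ) = {χ} := by
  classical
  have := Fintype.ofFinite G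
  have hMp := isPrime_of_isPModular hM
  set d := charDegree (χ : G → ℂ) with hd
  have hd1 : (χ : G → ℂ) 1 = (d : ℂ) := irr_one_eq_charDegree χ
  have hdpos : 0 < d := irr_charDegree_pos χ
  have hdvd : d ∣ Nat.card G := irr_degree_dvd_card χ
  obtain ⟨m, hm⟩ := hdvd
  have hmdiv : Nat.card G / d = m := by rw [hm]; exact Nat.mul_div_cancel_left m hdpos
  rw [hmdiv]
  have hG : (Nat.card G : ℂ) ≠ 0 := by
    have : 0 < Nat.card G := Nat.card_pos
    exact_mod_cast this.ne'
  constructor
  · intro hnd
    have hcop : m.Coprime p := ((Nat.Prime.coprime_iff_not_dvd hM.1).mpr hnd).symm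
    have hm0 : (m : ℂ) ≠ 0 := by
      intro h0
      have : m = 0 := by exact_mod_cast h0
      rw [this, mul_zero] at hm
      rw [hm] at hG
      simp at hG
    have hd0 : (d : ℂ) ≠ 0 := by exact_mod_cast hdpos.ne'
    have hloc : LocalCoeff M (blockIdem ({χ} : Set (IrrCharacter G))) := by
      intro g
      rw [coeff_blockIdem, Cfsg.Agent.Lib.helper81.blockCoeff_eq_sum]
      simp only [Set.mem_singleton_iff, Finset.sum_ite_eq', Finset.mem_univ, if_true]
      have h1 : (Nat.card G : ℂ)⁻¹ * ((χ : G → ℂ) 1 * conj ((χ : G → ℂ) g))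
          = (m : ℂ)⁻¹ * conj ((χ : G → ℂ) g) := by
        rw [hd1, hm]
        push_cast
        field_simp
      rw [h1]
      have h2 : IsIntegral ℤ (conj ((χ : G → ℂ) g)) := by
        rw [← irr_inv]
        exact irr_isIntegral χ g⁻¹
      exact memLocalRing_mul hMp (memLocalRing_inv_natCast hM hcop)
        (memLocalRing_of_algInt hMp ⟨_, h2⟩)
    ext ψ
    constructor
    · intro hψ
      by_contra hne
      have h1 := memLocalIdeal_omega_sub hMp (χ : G → ℂ) (ψ : G → ℂ)
        (fun x y hxy => isIrrCharacter_conj χ.2 x y hxy)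
        (fun x y hxy => isIrrCharacter_conj ψ.2 x y hxy) hψ
        (blockIdem ({χ} : Set (IrrCharacter G))) (isCentralElt_blockIdem _) hloc
      rw [omega_blockIdem, omega_blockIdem, if_pos (Set.mem_singleton χ), if_neg hne,
        sub_zero] at h1
      exact not_memLocalIdeal_one h1
    · intro hψ
      rw [Set.mem_singleton_iff] at hψ
      rw [hψ]
      exact mem_blockOf_self hMp χ
  · intro hB hpm
    have hblock : IsPBlock M ({χ} : Set (IrrCharacter G)) := ⟨χ, hB.symm⟩
    have hchar : IsCharacter G (χ : G → ℂ) := isCharacter_of_isIrrCharacter χ.2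
    have h1 := sylow_card_dvd_of_vanish (p := p) hchar d hd1
      (fun u hu => irr_eq_zero_of_singular_of_block_singleton hM χ hblock u hu)
    have h2 : p ^ ((Nat.card G).factorization p + 1) ∣ d * m := by
      rw [pow_succ]
      exact Nat.mul_dvd_mul h1 hpm
    rw [← hm] at h2
    exact Nat.pow_succ_factorization_not_dvd Nat.card_pos.ne' hM.1 h2

end Cfsg.Agent.S0914
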