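import Mathlib
import Cfsg.Statements.S0916
import Cfsg.Agent.Lib.helper53.Conj

set_option autoImplicit false
open Cfsg

namespace Cfsg.Agent.S0916

open Cfsg.Agent.Lib.helper53

/-- If `P` is (the image of) a Sylow `p`-subgroup of `K`, it is maximal among the `p`-subgroups
of `K`. -/
theorem eq_of_sylowIn {G : Type*} [Group G] (p : ℕ) (K P : Subgroup G)
    (hS : ∃ S : Sylow p K, (S : Subgroup K).map K.subtype = P) (Q : Subgroup G)
    (hQ : IsPGroup p Q) (hPQ : P ≤ Q) (hQK : Q ≤ K) : Q = P := by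
  obtain ⟨S, hS⟩ := hS
  have h1 : (S : Subgroup K) ≤ Q.subgroupOf K := by
    intro s hs
    rw [Subgroup.mem_subgroupOf]
    apply hPQ
    rw [← hS]
    exact Subgroup.mem_map_of_mem _ hs
  have h2 : Q.subgroupOf K = (S : Subgroup K) := S.is_maximal' hQ.comap_subtype h1
  rw [← hS, ← h2, Subgroup.map_subgroupOf_eq_of_le hQK]

/-- A maximal `p`-subgroup of `K` is (the image of) a Sylow `p`-subgroup of `K`. -/
theorem sylowIn_of_maximal {G : Type*} [Group G] [Finite G] (p : ℕ) [Fact p.Prime]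
    (K P : Subgroup G) (hPK : P ≤ K) (hP : IsPGroup p P)
    (hmax : ∀ Q : Subgroup G, IsPGroup p Q → P ≤ Q → Q ≤ K → Q = P) :
    ∃ S : Sylow p K, (S : Subgroup K).map K.subtype = P := by
  obtain ⟨S, hS⟩ := (hP.comap_subtype (K := K)).exists_le_sylow
  refine ⟨S, hmax _ (S.2.map _) ?_ (Subgroup.map_subtype_le _)⟩
  intro x hx
  exact ⟨⟨x, hPK hx⟩, hS (Subgroup.mem_subgroupOf.mpr hx), rfl⟩

/-- Key step, for a general subgroup `C` all of whose elements commute with `g`. -/
theorem exists_normalizer_conj_aux {G : Type*} [Group G] [Finite G] (p : ℕ) [Fact p.Prime]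
    (P : Subgroup G) (hP : IsPGroup p P) (g : G) (C : Subgroup G)
    (hCg : ∀ z ∈ C, g * z = z * g)
    (S : Sylow p C) (hS : (S : Subgroup C).map C.subtype = P)
    (a : G) (hmem : ∀ x ∈ P, a⁻¹ * x * a ∈ C) :
    ∃ n ∈ Subgroup.normalizer (P : Set G), n * g * n⁻¹ = a * g * a⁻¹ := by
  have hQ : IsPGroup p ((P.map (MulAut.conj a⁻¹).toMonoidHom).subgroupOf C) :=
    (hP.map _).comap_subtype
  obtain ⟨z, hz⟩ := exists_le_conj_sylow hQ S
  have hPz : ∀ x ∈ P, (a * z)⁻¹ * x * (a * z) ∈ P := by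
    intro x hx
    have h1 : (⟨a⁻¹ * x * a, hmem x hx⟩ : C) ∈ (P.map (MulAut.conj a⁻¹).toMonoidHom).subgroupOf C := by
      rw [Subgroup.mem_subgroupOf]
      have := conj_mem_conj (g := a⁻¹) hx
      simpa using this
    have h2 := (mem_conj_iff (G := C)).mp (hz h1)
    have h3 : ((z⁻¹ * ⟨a⁻¹ * x * a, hmem x hx⟩ * z : C) : G) ∈ P := by
      rw [← hS]
      exact Subgroup.mem_map_of_mem C.subtype h2
    have h4 : ((z⁻¹ * ⟨a⁻¹ * x * a, hmem x hx⟩ * z : C) : G) = (a * z)⁻¹ * x * (a * z) := by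
      push_cast
      group
    rwa [h4] at h3
  have hn : (a * (z : G))⁻¹ ∈ Subgroup.normalizer (P : Set G) := by
    apply mem_normalizer_of_conj_le (G := G)
    rw [conj_le_iff]
    intro x hx
    simpa using hPz x hx
  refine ⟨a * (z : G), by simpa using (Subgroup.normalizer (P : Set G)).inv_mem hn, ?_⟩
  have hzg : g * (z : G) = (z : G) * g := hCg z z.2
  calc a * (z : G) * g * (a * (z : G))⁻¹ = a * ((z : G) * g) * (z : G)⁻¹ * a⁻¹ := by group
    _ = a * (g * (z : G)) * (z : G)⁻¹ * a⁻¹ := by rw [hzg]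
    _ = a * g * a⁻¹ := by group

/-- Key step: if `P` is a Sylow `p`-subgroup of `C(g)` and `a g a⁻¹` centralizes `P`, then
`a g a⁻¹ = n g n⁻¹` with `n` normalizing `P`. -/
theorem exists_normalizer_conj {G : Type*} [Group G] [Finite G] (p : ℕ) [Fact p.Prime]
    (P : Subgroup G) (hP : IsPGroup p P) (g : G)
    (hS : ∃ S : Sylow p (Subgroup.centralizer ({g} : Set G)),
      (S : Subgroup (Subgroup.centralizer ({g} : Set G))).map
        (Subgroup.centralizer ({g} : Set G)).subtype = P)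
    (a : G) (hc : a * g * a⁻¹ ∈ Subgroup.centralizer (P : Set G)) :
    ∃ n ∈ Subgroup.normalizer (P : Set G), n * g * n⁻¹ = a * g * a⁻¹ := by
  obtain ⟨S, hS⟩ := hS
  refine exists_normalizer_conj_aux p P hP g _ ?_ S hS a ?_
  · intro z hz
    exact (Subgroup.mem_centralizer_iff.mp hz) g (Set.mem_singleton g)
  · intro x hx
    rw [Subgroup.mem_centralizer_iff]
    intro k hk
    rw [Set.mem_singleton_iff] at hk
    subst hk
    have h1 : x * (a * k * a⁻¹) = (a * k * a⁻¹) * x := hc x hx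
    calc k * (a⁻¹ * x * a) = a⁻¹ * ((a * k * a⁻¹) * x) * a := by group
      _ = a⁻¹ * (x * (a * k * a⁻¹)) * a := by rw [h1]
      _ = a⁻¹ * x * a * k := by group

theorem result {G : Type*} [Group G] [Finite G] (p : ℕ) [Fact p.Prime] (P : Subgroup G) (hP : IsPGroup p P) : (∀ g : G, (∃ S : Sylow p (Subgroup.centralizer ({g} : Set G)), (S : Subgroup (Subgroup.centralizer ({g} : Set G))).map (Subgroup.centralizer ({g} : Set G)).subtype = P) → (∃ c : G, IsConj g c ∧ c ∈ Subgroup.centralizer (P : Set G)) ∧ (∀ c₁ c₂ : G, IsConj g c₁ → IsConj g c₂ → c₁ ∈ Subgroup.centralizer (P : Set G) → c₂ ∈ Subgroup.centralizer (P : Set G) → ∃ n ∈ Subgroup.normalizer (P : Set G), n * c₁ * n⁻¹ = c₂)) ∧ (∀ c : G, c ∈ Subgroup.centralizer (P : Set G) → (∃ S : Sylow p (Subgroup.centralizer ({c} : Set G) ⊓ Subgroup.normalizer (P : Set G) : Subgroup G), (S : Subgroup ↥(Subgroup.centralizer ({c} : Set G) ⊓ Subgroup.normalizer (P : Set G))).map (Subgroup.centralizer ({c} : Set G)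 ⊓ Subgroup.normalizer (P : Set G)).subtype = P) → ∃ S : Sylow p (Subgroup.centralizer ({c} : Set G)), (S : Subgroup (Subgroup.centralizer ({c} : Set G))).map (Subgroup.centralizer ({c} : Set G)).subtype = P) := by
  refine ⟨?_, ?_⟩
  · intro g hS
    have hPle : P ≤ Subgroup.centralizer ({g} : Set G) := by
      obtain ⟨S, hS'⟩ := hS
      rw [← hS']
      exact Subgroup.map_subtype_le _
    refine ⟨⟨g, IsConj.refl g, ?_⟩, ?_⟩
    · rw [Subgroup.mem_centralizer_iff]
      intro x hx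
      have := hPle hx
      rw [Subgroup.mem_centralizer_iff] at this
      exact (this g (Set.mem_singleton g)).symm
    · intro c₁ c₂ h1 h2 hc1 hc2
      obtain ⟨a, rfl⟩ := isConj_iff.mp h1
      obtain ⟨b, rfl⟩ := isConj_iff.mp h2
      obtain ⟨n₁, hn₁, e₁⟩ := exists_normalizer_conj p P hP g hS a hc1
      obtain ⟨n₂, hn₂, e₂⟩ := exists_normalizer_conj p P hP g hS b hc2
      refine ⟨n₂ * n₁⁻¹, (Subgroup.normalizer (P : Set G)).mul_mem hn₂
        ((Subgroup.normalizer (P : Set G)).inv_mem hn₁), ?_⟩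
      rw [← e₁, ← e₂]
      group
  · intro c hc hS
    have hPle : P ≤ Subgroup.centralizer ({c} : Set G) := by
      intro x hx
      rw [Subgroup.mem_centralizer_iff]
      intro k hk
      rw [Set.mem_singleton_iff] at hk
      subst hk
      exact (hc x hx).symm
    apply sylowIn_of_maximal p _ P hPle hP
    intro Q hQ hPQ hQC
    by_contra hne
    have hlt : P < Q := lt_of_le_of_ne hPQ (fun h => hne h.symm)
    obtain ⟨y, hyQ, hyP, hyN⟩ := exists_mem_normalizer_not_mem hQ hlt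
    have hmax := eq_of_sylowIn p _ P hS (Q ⊓ Subgroup.normalizer (P : Set G))
      (hQ.to_le inf_le_left) (le_inf hPQ Subgroup.le_normalizer)
      (inf_le_inf_right _ hQC)
    apply hyP
    rw [← hmax]
    exact ⟨hyQ, hyN⟩

end Cfsg.Agent.S0916
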