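import Cfsg.Statements.S0917
import Cfsg.Agent.Lib.helper80.DefectGroup

set_option autoImplicit false
open Cfsg

namespace Cfsg.Agent.S0917

open Cfsg.Agent.Lib.helper80 Cfsg.Agent.Lib.helper20

/-- Let H be a subgroup of the finite group G, p a prime and M a maximal ideal of the algebraic integers containing p. If the block b of H induces the block B of G relative to M, then every defect group of b (a subgroup of H, viewed in G) is contained in some defect group of B. -/
theorem result {G : Type*} [Group G] [Finite G] (p : ℕ) [Fact p.Prime] (M : Ideal Cfsg.AlgInt) (hM : Cfsg.IsPModular p M) (H : Subgroup G) (b : Set (Cfsg.IrrCharacter H)) (hb : Cfsg.IsPBlock M b) (B : Set (Cfsg.IrrCharacter G)) (hB : Cfsg.IsPBlock M B) (hind : Cfsg.IsInducedBlock M H b B) (D : Subgroup H) (hD : Cfsg.IsDefectGroup p M b D) : ∃ E : Subgroup G, Cfsg.IsDefectGroup p M B E ∧ D.map H.subtype ≤ E := by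
  classical
  have := Fintype.ofFinite G
  have : Fintype H := Fintype.ofFinite H
  have hMp := isPrime_of_isPModular hM
  obtain ⟨E₀, hE₀⟩ := exists_isDefectGroup p hMp hB
  have hE₀' := hE₀
  obtain ⟨g, hg, hs⟩ := hE₀'
  obtain ⟨χ, hχ⟩ := isPBlock_nonempty hMp hB
  obtain ⟨ξ, hξ⟩ := isPBlock_nonempty hMp hb
  have h1 := hind.2.2 ξ hξ χ hχ g
  have h2 : ¬ Cfsg.MemLocalIdeal M (Cfsg.inducedCentralChar H (ξ : H → ℂ) g) := by
    intro hcon
    apply hg.2.2 χ hχ
    have := memLocalIdeal_sub hMp hcon h1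
    rwa [sub_sub_cancel] at this
  have h3 : ∃ l : H, IsConj g (l : G) ∧ ¬ Cfsg.MemLocalIdeal M (Cfsg.centralChar (ξ : H → ℂ) l) := by
    by_contra hcon
    push Not at hcon
    apply h2
    have hsum : Cfsg.inducedCentralChar H (ξ : H → ℂ) g
        = ∑ h ∈ Finset.univ.filter (fun h : H => IsConj g (h : G)),
          (ξ : H → ℂ) h / (ξ : H → ℂ) 1 := by
      unfold Cfsg.inducedCentralChar
      rw [finsum_eq_sum_of_fintype, Finset.sum_filter]
      refine Finset.sum_congr rfl (fun h _ => ?_)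
      exact finsum_eq_if
    rw [hsum]
    apply sum_conj_stable_induction (Cfsg.MemLocalIdeal M) (memLocalIdeal_zero hMp)
      (fun a b ha hb => memLocalIdeal_add hMp ha hb)
    · intro x hx y hxy
      simp only [Finset.mem_filter, Finset.mem_univ, true_and] at hx ⊢
      obtain ⟨c, hc⟩ := isConj_iff.mp hxy
      refine hx.trans (isConj_iff.mpr ⟨(c : G), ?_⟩)
      rw [← hc]
      rfl
    · intro x y hxy
      rw [isIrrCharacter_conj ξ.2 x y hxy]
    · intro x hx
      simp only [Finset.mem_filter, Finset.mem_univ, true_and] at hx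
      have := hcon x hx
      unfold Cfsg.centralChar at this
      rw [mul_div_assoc] at this
      exact this
  obtain ⟨l, hl, hlJ⟩ := h3
  obtain ⟨x, hx⟩ := IsDefectGroup.exists_conj_mem_centralizer hM hb hD hξ l hlJ
  obtain ⟨y, hy⟩ := isConj_iff.mp hl
  have hs' := IsSylowCent.conj hs y
  rw [hy] at hs'
  have hQ : IsPGroup p ((D.map H.subtype).map (MulAut.conj (x : G)).toMonoidHom) :=
    ((IsDefectGroup.isPGroup hD).map _).map _
  have hQle : (D.map H.subtype).map (MulAut.conj (x : G)).toMonoidHom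
      ≤ Subgroup.centralizer ({(l : G)} : Set G) := by
    intro q hq
    rw [mem_map_conj] at hq
    obtain ⟨d, hd, hdq⟩ := Subgroup.mem_map.mp hq
    have h4 := hx d hd
    rw [mem_centralizer_singleton] at h4 ⊢
    have hq' : q = ((x * d * x⁻¹ : H) : G) := by
      have h5 : (d : G) = (x : G)⁻¹ * q * (x : G) := hdq
      push_cast
      rw [h5]
      group
    rw [hq']
    exact_mod_cast congrArg Subtype.val h4
  obtain ⟨c, _, hc⟩ := IsSylowCent.exists_conj_mem hs' _ hQ hQle
  refine ⟨E₀.map (MulAut.conj ((x : G)⁻¹ * c * y)).toMonoidHom, IsDefectGroup.conj hE₀ _, ?_⟩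
  intro d' hd'
  obtain ⟨d, hd, rfl⟩ := Subgroup.mem_map.mp hd'
  rw [mem_map_conj]
  have h6 : (x : G) * (d : G) * (x : G)⁻¹ ∈ (D.map H.subtype).map (MulAut.conj (x : G)).toMonoidHom := by
    rw [mem_map_conj]
    have h7 : (x : G)⁻¹ * ((x : G) * (d : G) * (x : G)⁻¹) * (x : G) = (d : G) := by group
    rw [h7]
    exact Subgroup.mem_map.mpr ⟨d, hd, rfl⟩
  have h8 := hc _ h6
  rw [mem_map_conj] at h8
  have h9 : ((x : G)⁻¹ * c * y)⁻¹ * (H.subtype d) * ((x : G)⁻¹ * c * y)
      = y⁻¹ * (c⁻¹ * ((x : G) * (d : G) * (x : G)⁻¹) * c) * y := by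
    show ((x : G)⁻¹ * c * y)⁻¹ * (d : G) * ((x : G)⁻¹ * c * y) = _
    group
  rw [h9]
  exact h8

end Cfsg.Agent.S0917
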