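import Cfsg.Statements.S0928
import Cfsg.Agent.Lib.helper84.VanishP
import Cfsg.Agent.Lib.helper84.MinMax
import Cfsg.Agent.Lib.helper76.KazCore
import Cfsg.Agent.Lib.helper79.DefectDeg

set_option autoImplicit false
open Cfsg

namespace Cfsg.Agent.S0928

open Cfsg.Agent.Lib.helper20 Cfsg.Agent.Lib.helper80 Cfsg.Agent.Lib.helper81
  Cfsg.Agent.Lib.helper84

/-- The elements of order dividing `p` in the centre of `D`, as a subgroup of the group. -/
def omegaCenter {G : Type*} [Group G] (p : ℕ) (D : Subgroup G) : Subgroup G where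
  carrier := {u | u ∈ D ∧ u ∈ Subgroup.centralizer (D : Set G) ∧ u ^ p = 1}
  one_mem' := ⟨D.one_mem, Subgroup.one_mem _, one_pow p⟩
  mul_mem' := by
    rintro a b ⟨ha, hac, hap⟩ ⟨hb, hbc, hbp⟩
    refine ⟨D.mul_mem ha hb, Subgroup.mul_mem _ hac hbc, ?_⟩
    have hcomm : Commute a b := by
      rw [Subgroup.mem_centralizer_iff] at hac
      exact (hac b hb).symm
    rw [hcomm.mul_pow, hap, hbp, one_mul]
  inv_mem' := by
    rintro a ⟨ha, hac, hap⟩
    exact ⟨D.inv_mem ha, Subgroup.inv_mem _ hac, by rw [inv_pow, hap, inv_one]⟩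

theorem mem_omegaCenter {G : Type*} [Group G] (p : ℕ) (D : Subgroup G) (u : G) :
    u ∈ omegaCenter p D ↔ u ∈ D ∧ u ∈ Subgroup.centralizer (D : Set G) ∧ u ^ p = 1 := Iff.rfl

theorem omegaCenter_conj {G : Type*} [Group G] (p : ℕ) (D : Subgroup G) (h u : G)
    (hh : h ∈ Subgroup.normalizer (D : Set G)) (hu : u ∈ omegaCenter p D) :
    h * u * h⁻¹ ∈ omegaCenter p D := by
  obtain ⟨hu1, hu2, hu3⟩ := hu
  rw [Subgroup.mem_normalizer_iff] at hh
  refine ⟨(hh u).mp hu1, ?_, ?_⟩
  · rw [Subgroup.mem_centralizer_iff] at hu2 ⊢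
    intro d hd
    have hd' : h⁻¹ * d * h ∈ D := by
      rw [hh (h⁻¹ * d * h)]
      simpa [mul_assoc] using hd
    have := hu2 _ hd'
    calc d * (h * u * h⁻¹) = h * ((h⁻¹ * d * h) * u) * h⁻¹ := by group
      _ = h * (u * (h⁻¹ * d * h)) * h⁻¹ := by rw [this]
      _ = h * u * h⁻¹ * d := by group
  · rw [conj_pow, hu3, mul_one, mul_inv_cancel]

/-- Let χ be an irreducible character of the finite group G and p a prime. If χ g = 0 for every element g of order p, then the exponent of p in the degree χ(1) equals the exponent of p in the order of G (χ has p-defect zero). -/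
theorem result {G : Type*} [Group G] [Finite G] (p : ℕ) [Fact p.Prime] (χ : Cfsg.IrrCharacter G) (hvan : ∀ g : G, orderOf g = p → (χ : G → ℂ) g = 0) : (Cfsg.charDegree (χ : G → ℂ)).factorization p = (Nat.card G).factorization p := by
  classical
  have hp := (Fact.out : p.Prime)
  have := Fintype.ofFinite G
  obtain ⟨M, hM⟩ := Cfsg.Agent.Lib.helper76.exists_isPModular p hp
  have hMp := isPrime_of_isPModular hM
  set B := blockOf M (χ : G → ℂ) with hBdef
  have hB : IsPBlock M B := Cfsg.Agent.Lib.helper81.isPBlock_blockOf χ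
  have hχB : χ ∈ B := Cfsg.Agent.Lib.helper81.mem_blockOf_self hMp χ
  obtain ⟨g, hg⟩ := exists_isDefectClass hMp hB
  obtain ⟨P⟩ := (inferInstance : Nonempty (Sylow p (Subgroup.centralizer ({g} : Set G))))
  set D : Subgroup G :=
    (P : Subgroup _).map (Subgroup.centralizer ({g} : Set G)).subtype with hDdef
  have hD : IsDefectGroup p M B D := ⟨g, hg, P, rfl⟩
  have hcard := Cfsg.Agent.Lib.helper79.card_eq_of_isDefectGroup hM hB hD
  have hDp : IsPGroup p D := IsPGroup.of_card hcard
  have hd0 : blockDefect p B = 0 := by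
    by_contra hd
    have hD1 : 1 < Nat.card D := by
      rw [hcard]
      exact Nat.one_lt_pow hd hp.one_lt
    set H : Subgroup G := Subgroup.normalizer (D : Set G) with hH
    have : Fintype H := Fintype.ofFinite H
    obtain ⟨c, hc, -, -, hbr, -⟩ := fmt_down hM D H hDp le_rfl le_rfl hB hD
    set Z : Subgroup H := (omegaCenter p D).subgroupOf H with hZ
    have hZn : Z.Normal := by
      constructor
      intro u hu h
      rw [hZ, Subgroup.mem_subgroupOf] at hu ⊢
      exact omegaCenter_conj p D h u h.2 hu
    have : Fintype Z := Fintype.ofFinite Z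
    -- an element of order p in the centre of D
    have hnt : Nontrivial D := Finite.one_lt_card_iff_nontrivial.mp hD1
    have hcnt : Nontrivial (Subgroup.center D) := hDp.center_nontrivial
    have hcp : IsPGroup p (Subgroup.center D) := hDp.to_subgroup _
    obtain ⟨k, hk⟩ := IsPGroup.iff_card.mp hcp
    have hk0 : k ≠ 0 := by
      rintro rfl
      rw [pow_zero] at hk
      have := Finite.one_lt_card_iff_nontrivial.mpr hcnt
      omega
    have hpdvd : p ∣ Nat.card (Subgroup.center D) := by
      rw [hk]
      exact dvd_pow_self p hk0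
    obtain ⟨w, hw⟩ := exists_prime_orderOf_dvd_card' p hpdvd
    have hwG : ((w : D) : G) ∈ omegaCenter p D := by
      refine ⟨(w : D).2, ?_, ?_⟩
      · rw [Subgroup.mem_centralizer_iff]
        intro d hd
        have h1 := Subgroup.mem_center_iff.mp w.2 ⟨d, hd⟩
        have h2 := congrArg (Subtype.val) h1
        simpa using h2
      · have h1 : w ^ p = 1 := by rw [← hw]; exact pow_orderOf_eq_one w
        have h2 := congrArg (fun x : Subgroup.center D => ((x : D) : G)) h1
        simpa using h2
    have hwne : ((w : D) : G) ≠ 1 := by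
      intro h
      have h1 : w = 1 := by
        apply Subtype.ext
        apply Subtype.ext
        simpa using h
      rw [h1, orderOf_one] at hw
      exact hp.one_lt.ne hw
    have hwH : ((w : D) : G) ∈ H := Subgroup.le_normalizer (w : D).2
    have hZ1 : 1 < Nat.card Z := by
      rw [Finite.one_lt_card_iff_nontrivial]
      refine ⟨⟨⟨⟨((w : D) : G), hwH⟩, ?_⟩, 1, ?_⟩⟩
      · rw [hZ, Subgroup.mem_subgroupOf]
        exact hwG
      · intro h
        apply hwne
        have h1 := congrArg (fun x : Z => ((x : H) : G)) h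
        simpa using h1
    have hZp : ∀ u ∈ Z, u ≠ 1 → p ∣ orderOf u := by
      intro u hu hu1
      rw [hZ, Subgroup.mem_subgroupOf] at hu
      obtain ⟨-, -, hup⟩ := hu
      have hup' : u ^ p = 1 := by
        apply Subtype.ext
        simpa using hup
      rw [orderOf_eq_prime hup' hu1]
    obtain ⟨θ, hθc, hθ0⟩ := exists_sum_subgroup_eq_zero hM Z hZ1 hZp hc
    set z : G → ℂ := fun x => if x ^ p = 1 then 1 else 0 with hz
    have hzc : classAlg M z := by
      refine ⟨?_, ?_⟩
      · intro x k
        simp only [hz]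
        have : (k * x * k⁻¹) ^ p = 1 ↔ x ^ p = 1 := by
          rw [conj_pow]
          constructor
          · intro h
            have : x ^ p = k⁻¹ * (k * x ^ p * k⁻¹) * k := by group
            rw [this, h]; group
          · intro h
            rw [h]; group
        simp only [this]
      · intro x
        simp only [hz]
        split_ifs
        · exact memLocalRing_one hMp
        · exact memLocalRing_zero hMp
    have h1 := hbr θ hθc χ hχB z hzc
    have hom1 : om (χ : G → ℂ) z = 1 := by
      unfold om
      have hs : ∑ x : G, z x * (χ : G → ℂ) x = (χ : G → ℂ) 1 := by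
        rw [Finset.sum_eq_single (1 : G)]
        · simp [hz]
        · intro x _ hx
          simp only [hz]
          split_ifs with hxp
          · rw [hvan x (orderOf_eq_prime hxp hx), mul_zero]
          · rw [zero_mul]
        · intro h
          exact absurd (Finset.mem_univ _) h
      rw [hs, div_self (irr_one_ne_zero χ)]
    have hom0 : om (θ : H → ℂ) (brH D H z) = 0 := by
      unfold om
      have hs : ∑ x : H, brH D H z x * (θ : H → ℂ) x =
          ∑ x : H, (if ((x : G) ∈ Subgroup.centralizer (D : Set G) ∧ (x : G) ^ p = 1)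
            then (θ : H → ℂ) x else 0) := by
        refine Finset.sum_congr rfl fun x _ => ?_
        by_cases hx : (x : G) ∈ Subgroup.centralizer (D : Set G)
        · rw [brH_of_mem D H z hx]
          simp only [hz]
          by_cases hxp : (x : G) ^ p = 1
          · simp [hx, hxp]
          · simp [hxp]
        · rw [brH_of_not_mem D H z hx]
          simp [hx]
      have h0 := sum_stable_eq_zero Z θ hθ0
        (fun x : H => (x : G) ∈ Subgroup.centralizer (D : Set G) ∧ (x : G) ^ p = 1) ?hΩ
      · have h0' : ∑ x : H, (if ((x : G) ∈ Subgroup.centralizer (D : Set G) ∧ (x : G) ^ p = 1)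
            then (θ : H → ℂ) x else 0) = 0 := by
          convert h0
        rw [hs, h0', zero_div]
      intro u hu x
      rw [hZ, Subgroup.mem_subgroupOf] at hu
      obtain ⟨huD, huC, hup⟩ := hu
      have hmem : ((u * x : H) : G) ∈ Subgroup.centralizer (D : Set G) ↔
          (x : G) ∈ Subgroup.centralizer (D : Set G) := by
        rw [Subgroup.coe_mul]
        exact Subgroup.mul_mem_cancel_left _ huC
      constructor
      · rintro ⟨ha, hb⟩
        have hx := hmem.mp ha
        refine ⟨hx, ?_⟩
        have hcomm : Commute (u : G) (x : G) := by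
          rw [Subgroup.mem_centralizer_iff] at hx
          exact (hx u huD)
        rw [Subgroup.coe_mul, hcomm.mul_pow, hup, one_mul] at hb
        exact hb
      · rintro ⟨hx, hb⟩
        refine ⟨hmem.mpr hx, ?_⟩
        have hcomm : Commute (u : G) (x : G) := by
          rw [Subgroup.mem_centralizer_iff] at hx
          exact (hx u huD)
        rw [Subgroup.coe_mul, hcomm.mul_pow, hup, one_mul]
        exact hb
    rw [hom1, hom0, zero_sub] at h1
    have := memLocalIdeal_neg h1
    rw [neg_neg] at this
    exact not_memLocalIdeal_one this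
  obtain ⟨χ₀, hχ₀, hdef, hmin⟩ := exists_height_zero p (B := B) ⟨χ, hχB⟩
  have h1 := hmin χ hχB
  rw [hd0] at hdef
  have hdvd : charDegree (χ : G → ℂ) ∣ Nat.card G := irr_degree_dvd_card χ
  have hdvd0 : charDegree (χ₀ : G → ℂ) ∣ Nat.card G := irr_degree_dvd_card χ₀
  have hle : (charDegree (χ : G → ℂ)).factorization p ≤ (Nat.card G).factorization p :=
    (Nat.factorization_le_iff_dvd (irr_charDegree_pos χ).ne' Nat.card_pos.ne').mpr hdvd p
  omega

end Cfsg.Agent.S0928
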