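import Cfsg.Statements.S0930
import Mathlib
import Cfsg.Agent.S0929
import Cfsg.Agent.Lib.helper4.HeightZero
import Cfsg.Agent.Lib.helper20.DefectCentral

set_option autoImplicit false
open Cfsg

namespace Cfsg.Agent.S0930

/-- Let H be a subgroup of the finite group G and fix a maximal ideal M of the algebraic integers containing the prime p. If the block b of H with defect group D induces the block B of G with defect group P, then every element of the centre of P is conjugate in G to an element of the centre of D. -/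
theorem result {G : Type*} [Group G] [Finite G] (p : ℕ) [Fact p.Prime] (M : Ideal Cfsg.AlgInt) (hM : Cfsg.IsPModular p M) (H : Subgroup G) (b : Set (Cfsg.IrrCharacter H)) (B : Set (Cfsg.IrrCharacter G)) (hind : Cfsg.IsInducedBlock M H b B) (D : Subgroup H) (hD : Cfsg.IsDefectGroup p M b D) (P : Subgroup G) (hP : Cfsg.IsDefectGroup p M B P) (x : G) (hx : x ∈ P) (hxc : ∀ w ∈ P, x * w = w * x) : ∃ g : G, g * x * g⁻¹ ∈ D.map H.subtype ∧ ∀ w ∈ D.map H.subtype, (g * x * g⁻¹) * w = w * (g * x * g⁻¹) := by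
  classical
  have hp : p.Prime := Fact.out
  have hMp := Cfsg.Agent.Lib.helper20.isPrime_of_isPModular hM
  obtain ⟨hb, hB, hcong⟩ := hind
  obtain ⟨y, hy, Q, hPQ⟩ := hP
  have hx' : x ∈ (Q : Subgroup (Subgroup.centralizer ({y} : Set G))).map
      (Subgroup.centralizer ({y} : Set G)).subtype := hPQ ▸ hx
  obtain ⟨x0, hx0Q, rfl⟩ := Subgroup.mem_map.mp hx'
  have hcent : ∀ w ∈ (Q : Subgroup (Subgroup.centralizer ({y} : Set G))), x0 * w = w * x0 := by
    intro w hw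
    have hwP : (w : G) ∈ P := by
      rw [hPQ]
      exact Subgroup.mem_map_of_mem _ hw
    exact Subtype.ext (hxc _ hwP)
  obtain ⟨χ, hχ⟩ := Cfsg.Agent.Lib.helper81.isPBlock_nonempty hMp hB
  have h1 := Cfsg.Agent.Lib.helper4.not_memLocalIdeal_centralChar_mul_defectClass hM hB hy Q x0
    hx0Q hcent hχ
  obtain ⟨ξ, hξ⟩ := Cfsg.Agent.Lib.helper81.isPBlock_nonempty hMp hb
  have h2 := hcong ξ hξ χ hχ ((x0 : G) * y)
  have h3 : ¬ Cfsg.MemLocalIdeal M (Cfsg.inducedCentralChar H (ξ : H → ℂ) ((x0 : G) * y)) := by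
    intro h
    apply h1
    have := Cfsg.Agent.Lib.helper20.memLocalIdeal_sub hMp h h2
    rwa [sub_sub_cancel] at this
  obtain ⟨h, hconj, hh⟩ :=
    Cfsg.Agent.Lib.helper20.exists_conj_of_inducedCentralChar hMp H ξ _ h3
  obtain ⟨x', hx'conj, -, hx'pp⟩ := Cfsg.Agent.S0929.result p M hM b hb D hD h ⟨ξ, hξ, hh⟩
  have hconjG : IsConj ((x0 : G) * y) (x' : G) := by
    obtain ⟨c, hc⟩ := isConj_iff.mp hx'conj
    refine hconj.trans (isConj_iff.mpr ⟨(c : G), ?_⟩)
    rw [← hc]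
    rfl
  obtain ⟨g, hg⟩ := isConj_iff.mp hconjG
  have hyreg := Cfsg.Agent.Lib.helper4.isPRegular_of_isDefectClass hM hB hy
  have hx0y : (x0 : G) * y = y * (x0 : G) := Subgroup.mem_centralizer_singleton_iff.mp x0.2
  have hpp0 : Cfsg.IsPPart p ((x0 : G) * y) (x0 : G) := by
    refine ⟨y, rfl, hx0y, ?_, hyreg⟩
    obtain ⟨k, hk⟩ := (IsPGroup.iff_orderOf.mp Q.isPGroup') ⟨x0, hx0Q⟩
    refine ⟨k, ?_⟩
    rw [← hk, ← Subgroup.orderOf_coe, ← Subgroup.orderOf_coe]
  have hpp1 := Cfsg.Agent.Lib.helper20.isPPart_conj hpp0 g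
  rw [hg] at hpp1
  obtain ⟨a, ha⟩ := Cfsg.Agent.Lib.helper20.exists_isPPart_zpow hp x'
  have ha' := Cfsg.Agent.Lib.helper20.IsPPart.coe ha
  have heq := Cfsg.Agent.Lib.helper20.isPPart_unique hp hpp1 ha'
  obtain ⟨hzD, hzc⟩ := hx'pp _ ha
  refine ⟨g, ?_, ?_⟩
  · show g * (x0 : G) * g⁻¹ ∈ D.map H.subtype
    rw [heq]
    exact Subgroup.mem_map_of_mem _ hzD
  · intro w hw
    obtain ⟨w0, hw0, rfl⟩ := Subgroup.mem_map.mp hw
    show g * (x0 : G) * g⁻¹ * (w0 : G) = (w0 : G) * (g * (x0 : G) * g⁻¹)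
    rw [heq]
    exact congrArg Subtype.val (hzc w0 hw0)

end Cfsg.Agent.S0930
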