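import Cfsg.Statements.S0931
import Mathlib
import Cfsg.Agent.S0930
import Cfsg.Agent.S0917
import Cfsg.Agent.Lib.helper79.DefectDeg

set_option autoImplicit false
open Cfsg

namespace Cfsg.Agent.S0931

/-- Let H be a subgroup of the finite group G and fix a maximal ideal M of the algebraic integers containing the prime p. If the block b of H induces the block B of G, then b has defect 0 if and only if B has defect 0. -/
theorem result {G : Type*} [Group G] [Finite G] (p : ℕ) [Fact p.Prime] (M : Ideal Cfsg.AlgInt) (hM : Cfsg.IsPModular p M) (H : Subgroup G) (b : Set (Cfsg.IrrCharacter H)) (B : Set (Cfsg.IrrCharacter G)) (hind : Cfsg.IsInducedBlock M H b B) : Cfsg.blockDefect p b = 0 ↔ Cfsg.blockDefect p B = 0 := by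
  classical
  have hp : p.Prime := Fact.out
  have hMp := Cfsg.Agent.Lib.helper20.isPrime_of_isPModular hM
  obtain ⟨hb, hB, -⟩ := id hind
  have := Fintype.ofFinite G
  have := Fintype.ofFinite H
  obtain ⟨D, hD⟩ := Cfsg.Agent.Lib.helper80.exists_isDefectGroup p hMp hb
  obtain ⟨P, hP⟩ := Cfsg.Agent.Lib.helper80.exists_isDefectGroup p hMp hB
  have hcD := Cfsg.Agent.Lib.helper79.card_eq_of_isDefectGroup hM hb hD
  have hcP := Cfsg.Agent.Lib.helper79.card_eq_of_isDefectGroup hM hB hP
  constructor
  · intro h0
    rw [h0, pow_zero] at hcD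
    have hDbot : D = ⊥ := Subgroup.card_eq_one.mp hcD
    have hPp : IsPGroup p P := Cfsg.Agent.Lib.helper80.IsDefectGroup.isPGroup hP
    by_contra hne
    have hPnt : Nontrivial P := by
      have h1 : 1 < Nat.card P := by
        rw [hcP]
        exact Nat.one_lt_pow hne hp.one_lt
      exact Finite.one_lt_card_iff_nontrivial.mp h1
    have hcnt : Nontrivial (Subgroup.center P) := hPp.center_nontrivial
    obtain ⟨z, hz⟩ := exists_ne (1 : Subgroup.center P)
    have hzc : ∀ w ∈ P, ((z : P) : G) * w = w * ((z : P) : G) := by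
      intro w hw
      have h2 := Subgroup.mem_center_iff.mp z.2 ⟨w, hw⟩
      exact (congrArg Subtype.val h2).symm
    obtain ⟨g, hg, -⟩ := Cfsg.Agent.S0930.result p M hM H b B hind D hD P hP ((z : P) : G)
      (z : P).2 hzc
    rw [hDbot, Subgroup.map_bot, Subgroup.mem_bot] at hg
    apply hz
    have h3 : ((z : P) : G) = 1 := by
      have h4 : ((z : P) : G) = g⁻¹ * (g * ((z : P) : G) * g⁻¹) * g := by group
      rw [h4, hg]
      group
    exact Subtype.ext (Subtype.ext h3)
  · intro h0
    obtain ⟨E, hE, hDE⟩ := Cfsg.Agent.S0917.result p M hM H b hb B hB hind D hD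
    have hcE := Cfsg.Agent.Lib.helper79.card_eq_of_isDefectGroup hM hB hE
    rw [h0, pow_zero] at hcE
    have hEbot : E = ⊥ := Subgroup.card_eq_one.mp hcE
    rw [hEbot] at hDE
    have hDbot : D = ⊥ := by
      rw [eq_bot_iff]
      intro d hd
      have h1 := hDE (Subgroup.mem_map_of_mem H.subtype hd)
      rw [Subgroup.mem_bot] at h1 ⊢
      exact Subtype.ext h1
    rw [hDbot, Subgroup.card_bot] at hcD
    by_contra hne
    have h2 := Nat.one_lt_pow hne hp.one_lt
    omega

end Cfsg.Agent.S0931
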