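import Mathlib
import Cfsg.Statements.S0934
import Cfsg.Agent.S0932
import Cfsg.Agent.Lib.helper20.Basic
import Cfsg.Agent.Lib.helper20.CentralChar
import Cfsg.Agent.Lib.helper20.Induced
import Cfsg.Agent.Lib.helper83.CharBasic

set_option autoImplicit false
open Cfsg

namespace Cfsg.Agent.S0934

open Cfsg.Agent.Lib.helper20
open scoped ComplexConjugate

theorem result {G : Type*} [Group G] [Fintype G] (p : ℕ) [Fact p.Prime] (M : Ideal Cfsg.AlgInt) (hM : Cfsg.IsPModular p M) (H : Subgroup G) [Fintype H] (b : Set (Cfsg.IrrCharacter H)) (B : Set (Cfsg.IrrCharacter G)) (hind : Cfsg.IsInducedBlock M H b B) (ξ : Cfsg.IrrCharacter H) (hξ : ξ ∈ b) : ∃ χ ∈ B, Cfsg.classInner (fun h : H => (χ : G → ℂ) h) (ξ : H → ℂ) ≠ 0 := by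
  classical
  have hMp := isPrime_of_isPModular hM
  by_contra hcon
  push Not at hcon
  obtain ⟨_, ⟨χ₀, hB⟩, hcong⟩ := hind
  have hχ₀ : χ₀ ∈ B := by
    rw [hB]
    intro g
    rw [sub_self]
    exact memLocalIdeal_zero hMp
  have hφconj : ∀ x y : G, IsConj x y → indFun H (ξ : H → ℂ) x = indFun H (ξ : H → ℂ) y :=
    indFun_conj H (ξ : H → ℂ)
  have hcong' : ∀ g : G, MemLocalIdeal M
      (centralChar (indFun H (ξ : H → ℂ)) g - centralChar (χ₀ : G → ℂ) g) := by
    intro g
    rw [← Cfsg.Agent.S0932.result H (ξ : H → ℂ) (isCharacter_of_isIrrCharacter ξ.2) g]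
    exact hcong ξ hξ χ₀ hχ₀ g
  have : Fintype (IrrCharacter G) := Fintype.ofFinite _
  obtain ⟨T, hT1, hT2⟩ : ∃ T : List (G → ℂ),
      (∀ χ ∈ T, ∃ χ' : IrrCharacter G, χ' ∉ B ∧ (χ' : G → ℂ) = χ) ∧
      (∀ χ' : IrrCharacter G, χ' ∉ B → (χ' : G → ℂ) ∈ T) := by
    refine ⟨List.map (fun χ : IrrCharacter G => (χ : G → ℂ))
      (Finset.univ.filter (fun χ : IrrCharacter G => χ ∉ B)).toList, ?_, ?_⟩
    · intro χ hχ
      obtain ⟨χ', hχ', rfl⟩ := List.mem_map.mp hχ
      exact ⟨χ', (Finset.mem_filter.mp (Finset.mem_toList.mp hχ')).2, rfl⟩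
    · intro χ' hχ'
      exact List.mem_map.mpr ⟨χ', Finset.mem_toList.mpr
        (Finset.mem_filter.mpr ⟨Finset.mem_univ _, hχ'⟩), rfl⟩
  obtain ⟨z, hzc, hzl, hz0, hzΛ⟩ := exists_separator hMp (omega (χ₀ : G → ℂ))
    (by rw [omega_one _ (isIrrCharacter_one_ne_zero _ χ₀.2)]; exact not_memLocalIdeal_one)
    (fun a hac hal => memLocalRing_omega hMp _ (isIrrCharacter_conj χ₀.2)
      (memLocalRing_centralChar hMp _ χ₀.2) a hac hal)
    (fun a b hac _ _ _ => by
      rw [omega_mul _ χ₀.2 a b hac, sub_self]; exact memLocalIdeal_zero hMp)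
    T
    (by
      intro χ hχ
      obtain ⟨χ', _, rfl⟩ := hT1 χ hχ
      exact χ'.2)
    (by
      intro χ hχ
      obtain ⟨χ', hχ', rfl⟩ := hT1 χ hχ
      have hnot : ¬ SameBlock M (χ₀ : G → ℂ) (χ' : G → ℂ) := by
        rw [hB] at hχ'
        exact hχ'
      unfold SameBlock at hnot
      push Not at hnot
      obtain ⟨g, hg⟩ := hnot
      refine ⟨classSum g - centralChar (χ' : G → ℂ) g • 1,
        (isCentralElt_classSum g).sub (isCentralElt_one.smul _),
        (localCoeff_classSum hMp g).sub hMp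
          ((localCoeff_one hMp).smul hMp (memLocalRing_centralChar hMp _ χ'.2 g)),
        omega_classSum_sub _ χ'.2 g, ?_⟩
      rw [omega_sub, omega_smul, omega_one _ (isIrrCharacter_one_ne_zero _ χ₀.2),
        omega_classSum _ (isIrrCharacter_conj χ₀.2), mul_one]
      exact hg)
  have h2 := memLocalIdeal_omega_sub hMp (indFun H (ξ : H → ℂ)) (χ₀ : G → ℂ) hφconj
    (isIrrCharacter_conj χ₀.2) hcong' z hzc hzl
  have h3 : omega (indFun H (ξ : H → ℂ)) z = 0 := by
    unfold omega
    obtain ⟨c, hc, hexp⟩ : ∃ c : IrrCharacter G → ℂ,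
        (∀ χ : IrrCharacter G, c χ = (Nat.card G : ℂ)⁻¹ *
          ∑ x : G, indFun H (ξ : H → ℂ) x * conj ((χ : G → ℂ) x)) ∧
        ∀ g : G, indFun H (ξ : H → ℂ) g = ∑ χ : IrrCharacter G, c χ * (χ : G → ℂ) g :=
      ⟨_, fun _ => rfl, Cfsg.Agent.Lib.helper83.classFunction_expansion (indFun H (ξ : H → ℂ))
        (isClassFunction_indFun H (ξ : H → ℂ))⟩
    have hsum : ∑ g : G, z.coeff g * indFun H (ξ : H → ℂ) g = 0 := by
      rw [Finset.sum_congr rfl (fun g _ => by rw [hexp g, Finset.mul_sum])]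
      rw [Finset.sum_comm]
      apply Finset.sum_eq_zero
      intro χ _
      by_cases hχB : χ ∈ B
      · -- the coefficient vanishes by Frobenius reciprocity
        have hfr := classInner_indFun H (ξ : H → ℂ) (χ : G → ℂ) (isIrrCharacter_conj χ.2)
        have h0 := hcon χ hχB
        rw [classInner_conj_symm' (ξ : H → ℂ) (fun h : H => (χ : G → ℂ) h)] at h0
        have h0' : classInner (ξ : H → ℂ) (fun h : H => (χ : G → ℂ) h) = 0 := by
          simpa using h0
        rw [h0'] at hfr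
        unfold classInner at hfr
        rw [← hc χ] at hfr
        apply Finset.sum_eq_zero
        intro g _
        rw [hfr]
        ring
      · have hzχ := hz0 (χ : G → ℂ) (hT2 χ hχB)
        unfold omega at hzχ
        have hne := isIrrCharacter_one_ne_zero _ χ.2
        have hz' : ∑ g : G, z.coeff g * (χ : G → ℂ) g = 0 := by
          rcases div_eq_zero_iff.mp hzχ with h | h
          · exact h
          · exact absurd h hne
        calc ∑ g : G, z.coeff g * (c χ * (χ : G → ℂ) g)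
            = c χ * ∑ g : G, z.coeff g * (χ : G → ℂ) g := by
              rw [Finset.mul_sum]
              apply Finset.sum_congr rfl
              intro g _
              ring
          _ = 0 := by rw [hz', mul_zero]
    rw [hsum, zero_div]
  rw [h3, zero_sub] at h2
  apply hzΛ
  have := memLocalIdeal_neg h2
  simpa using this

end Cfsg.Agent.S0934
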