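import Mathlib
import Cfsg.Statements.S0935
import Cfsg.Agent.S0937

set_option autoImplicit false
open Cfsg

namespace Cfsg.Agent.S0935

open Cfsg.Agent.Lib.helper20
open Cfsg.Agent.S0937 (ofFun coeff_ofFun)
open Cfsg.Agent.Lib.helper79 (regInner contrib cc contrib_spec contrib_eq_zero
  cc_memLocalIdeal_iff not_dvd_of_height_zero regInner_conj cc_mul)
open Cfsg.Agent.Lib.helper81 (irr_classFun irr_isIntegral irr_one_ne_zero irr_conjInv irr_inv
  mem_blockOf_self isPBlock_blockOf isPBlock_eq_blockOf isPBlock_eq_of_mem isPBlock_nonempty)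
open scoped ComplexConjugate

/-- Let H be a subgroup of the finite group G and χ an irreducible character of G whose restriction to H is irreducible; fix a maximal ideal M of the algebraic integers containing the prime p and suppose χ and its restriction have height zero in their blocks B and b. If e is a block of H whose induced block is defined, then e induces B if and only if e = b. -/
theorem result {G : Type*} [Group G] [Finite G] (p : ℕ) [Fact p.Prime] (M : Ideal Cfsg.AlgInt) (hM : Cfsg.IsPModular p M) (H : Subgroup G) (χ : Cfsg.IrrCharacter G) (hres : Cfsg.IsIrrCharacter H (fun h : H => (χ : G → ℂ) h)) (hχ0 : Cfsg.blockHeight p (Cfsg.blockOf M (χ : G → ℂ)) (χ : G → ℂ) = 0) (hψ0 : Cfsg.blockHeight p (Cfsg.blockOf M (fun h : H => (χ : G → ℂ) h)) (fun h : H => (χ : G → ℂ) h) = 0) (e : Set (Cfsg.IrrCharacter H)) (he : Cfsg.InducedBlockDefined M H e) : Cfsg.IsInducedBlock M H e (Cfsg.blockOf M (χ : G → ℂ)) ↔ e = Cfsg.blockOf M (fun h : H => (χ : G → ℂ) h) := by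
  classical
  have hpp : p.Prime := Fact.out
  have hMp : M.IsPrime := hM.2.1.isPrime
  have hfin : Fintype G := Fintype.ofFinite G
  have hfinH : Fintype H := Fintype.ofFinite H
  set ψ : IrrCharacter H := ⟨fun h : H => (χ : G → ℂ) h, hres⟩ with hψ
  have hχB : χ ∈ blockOf M (χ : G → ℂ) := mem_blockOf_self hMp χ
  have hψb : ψ ∈ blockOf M (ψ : H → ℂ) := mem_blockOf_self hMp ψ
  constructor
  · intro hind
    obtain ⟨ξ, hξ, -, n, hn, hnp⟩ := Cfsg.Agent.S0937.result p M hM H e _ hind χ hχB hχ0
    have hξψ : ξ = ψ := by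
      by_contra hne
      apply hnp
      have h1 : classInner (fun h : H => (χ : G → ℂ) h) (ξ : H → ℂ) = 0 := by
        unfold classInner
        have h2 := Cfsg.Agent.Lib.helper83.irr_orthogonality' ψ ξ
        rw [if_neg (fun h => hne h.symm)] at h2
        have h3 : ∑ g : H, (fun h : H => (χ : G → ℂ) h) g * conj ((ξ : H → ℂ) g) = 0 := h2
        rw [h3, mul_zero]
      rw [h1] at hn
      have : n = 0 := by exact_mod_cast hn.symm
      rw [this]
      exact dvd_zero p
    rw [hξψ] at hξ
    exact isPBlock_eq_blockOf hMp hind.1 hξ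
  · intro heq
    obtain ⟨B', hB'⟩ := he
    have hB'eq : B' = blockOf M (χ : G → ℂ) := by
      obtain ⟨ζ, hζ⟩ := isPBlock_nonempty hMp hB'.2.1
      have hψe : ψ ∈ e := by rw [heq]; exact hψb
      -- the central element
      set z : MonoidAlgebra ℂ G := ofFun (fun g => conj (pRegularPart p (χ : G → ℂ) g)) with hz
      have hzc : IsCentralElt z := by
        rw [isCentralElt_iff]
        intro g x
        rw [hz, coeff_ofFun, coeff_ofFun]
        unfold pRegularPart IsPRegular
        have h1 : orderOf (x * g * x⁻¹) = orderOf g := by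
          have := orderOf_injective (MulAut.conj x).toMonoidHom (MulAut.conj x).injective g
          simpa using this
        rw [h1, irr_classFun χ g x]
      have hzl : LocalCoeff M z := by
        intro g
        rw [hz, coeff_ofFun]
        unfold pRegularPart
        split_ifs
        · rw [← irr_inv]
          exact memLocalRing_of_algInt hMp ⟨_, irr_isIntegral χ g⁻¹⟩
        · rw [map_zero]; exact memLocalRing_zero hMp
      have hstep := memLocalIdeal_omega_resAlg_sub hMp H (ψ : H → ℂ) (ζ : G → ℂ) (irr_conjInv ζ)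
        (fun g => hB'.2.2 ψ hψe ζ hζ g) z hzc hzl
      have hom1 : omega (ζ : G → ℂ) z = cc p (χ : G → ℂ) (ζ : G → ℂ) := by
        unfold omega cc
        congr 1
        apply Finset.sum_congr rfl
        intro g _
        rw [hz, coeff_ofFun]
      have hom2 : omega (ψ : H → ℂ) (resAlg H z) = cc p (ψ : H → ℂ) (ψ : H → ℂ) := by
        unfold omega cc
        congr 1
        apply Finset.sum_congr rfl
        intro h _
        rw [coeff_resAlg, hz, coeff_ofFun]
        congr 2
        unfold pRegularPart IsPRegular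
        rw [Subgroup.orderOf_coe]
      rw [hom1, hom2] at hstep
      have hccH : ¬ MemLocalIdeal M (cc p (ψ : H → ℂ) (ψ : H → ℂ)) := by
        rw [cc_memLocalIdeal_iff hM (isPBlock_blockOf ψ) hψb hψb]
        exact not_dvd_of_height_zero hM (isPBlock_blockOf ψ) hψb hψ0 hψb
      have hccG : ¬ MemLocalIdeal M (cc p (χ : G → ℂ) (ζ : G → ℂ)) := by
        intro h
        apply hccH
        have := memLocalIdeal_add hMp hstep h
        rwa [sub_add_cancel] at this
      have hζB : ζ ∈ blockOf M (χ : G → ℂ) := by
        by_contra hζ'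
        apply hccG
        have h1 := contrib_spec hM (isPBlock_blockOf χ) hχB ζ
        rw [contrib_eq_zero hM (isPBlock_blockOf χ) hχB hζ'] at h1
        have hpc : (p : ℂ) ≠ 0 := Nat.cast_ne_zero.mpr hpp.ne_zero
        have h2 : regInner p (χ : G → ℂ) (ζ : G → ℂ) = 0 := by
          have h3 : (p ^ blockDefect p (blockOf M (χ : G → ℂ)) : ℂ) ≠ 0 := pow_ne_zero _ hpc
          have h4 : (p ^ blockDefect p (blockOf M (χ : G → ℂ)) : ℂ)
              * regInner p (χ : G → ℂ) (ζ : G → ℂ) = 0 := by
            rw [← h1]; simp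
          exact (mul_eq_zero.1 h4).resolve_left h3
        have h5 := cc_mul p (χ : G → ℂ) (ζ : G → ℂ) (irr_one_ne_zero ζ)
        rw [h2, map_zero] at h5
        have h6 : cc p (χ : G → ℂ) (ζ : G → ℂ) = 0 :=
          (mul_eq_zero.1 h5).resolve_right (irr_one_ne_zero ζ)
        rw [h6]
        exact memLocalIdeal_zero hMp
      exact isPBlock_eq_of_mem hMp hB'.2.1 (isPBlock_blockOf χ) hζ hζB
    rw [← hB'eq]
    exact hB'

end Cfsg.Agent.S0935
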