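import Mathlib
import Cfsg.Statements.S0938
import Cfsg.Agent.Lib.helper20.Osima
import Cfsg.Agent.Lib.helper20.NormalIdem
import Cfsg.Agent.Lib.helper82.CharQuot

set_option autoImplicit false
open Cfsg

namespace Cfsg.Agent.S0938

open Cfsg.Agent.Lib.helper20 Cfsg.Agent.Lib.helper81
open scoped ComplexConjugate

theorem result {G : Type*} [Group G] [Finite G] (p : ℕ) [Fact p.Prime] (M : Ideal Cfsg.AlgInt) (hM : Cfsg.IsPModular p M) (B : Set (Cfsg.IrrCharacter G)) (hB : Cfsg.IsPBlock M B) (χ : Cfsg.IrrCharacter G) (hχ : χ ∈ B) : ∃ K : Subgroup G, K.Normal ∧ (K : Set G) = Cfsg.blockKer B ∧ ¬ p ∣ Nat.card K ∧ (∀ g ∈ K, (χ : G → ℂ) g = (χ : G → ℂ) 1) ∧ ∀ N : Subgroup G, N.Normal → ¬ p ∣ Nat.card N → (∀ g ∈ N, (χ : G → ℂ) g = (χ : G → ℂ) 1) → N ≤ K := by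
  classical
  have := Fintype.ofFinite G
  have hMp := isPrime_of_isPModular hM
  have hp : p.Prime := hM.1
  have hker : ∀ ψ : IrrCharacter G, ∃ Kψ : Subgroup G, Kψ.Normal ∧
      ∀ g, g ∈ Kψ ↔ (ψ : G → ℂ) g = (ψ : G → ℂ) 1 := fun ψ =>
    Cfsg.Agent.Lib.helper82.exists_ker_of_isCharacter (isCharacter_of_isIrrCharacter ψ.2)
  let K : Subgroup G :=
    { carrier := blockKer B
      mul_mem' := by
        intro a b ha hb ψ hψ
        obtain ⟨Kψ, _, h⟩ := hker ψ
        exact (h _).mp (Kψ.mul_mem ((h _).mpr (ha ψ hψ)) ((h _).mpr (hb ψ hψ)))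
      one_mem' := fun ψ _ => rfl
      inv_mem' := by
        intro a ha ψ hψ
        obtain ⟨Kψ, _, h⟩ := hker ψ
        exact (h _).mp (Kψ.inv_mem ((h _).mpr (ha ψ hψ))) }
  have hKmem : ∀ g : G, g ∈ K ↔ ∀ ψ ∈ B, (ψ : G → ℂ) g = (ψ : G → ℂ) 1 := fun g => Iff.rfl
  refine ⟨K, ⟨?_⟩, rfl, ?_, ?_, ?_⟩
  · intro g hg x ψ hψ
    rw [irr_classFun ψ g x]
    exact hg ψ hψ
  · intro hpK
    obtain ⟨g, hg⟩ := exists_prime_orderOf_dvd_card' p hpK
    have hord : p ∣ orderOf (g : G) := by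
      rw [Subgroup.orderOf_coe, hg]
    have h0 := blockCoeff_eq_zero_of_singular hM hB (g : G) hord
    rw [Cfsg.Agent.Lib.helper81.blockCoeff_eq_sum] at h0
    have hG : (Nat.card G : ℂ) ≠ 0 := by
      have : 0 < Nat.card G := Nat.card_pos
      exact_mod_cast this.ne'
    have h1 : ∑ ψ : IrrCharacter G,
        (if ψ ∈ B then (ψ : G → ℂ) 1 * conj ((ψ : G → ℂ) (g : G)) else 0)
        = ((∑ ψ : IrrCharacter G,
            if ψ ∈ B then charDegree (ψ : G → ℂ) * charDegree (ψ : G → ℂ) else 0 : ℕ) : ℂ) := by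
      rw [Nat.cast_sum]
      apply Finset.sum_congr rfl
      intro ψ _
      by_cases hψ : ψ ∈ B
      · rw [if_pos hψ, if_pos hψ, (hKmem (g : G)).mp g.2 ψ hψ, irr_one_eq_charDegree]
        simp
      · rw [if_neg hψ, if_neg hψ]
        simp
    rw [h1] at h0
    rcases mul_eq_zero.mp h0 with h | h
    · exact absurd (inv_eq_zero.mp h) hG
    · have h2 : (∑ ψ : IrrCharacter G,
          if ψ ∈ B then charDegree (ψ : G → ℂ) * charDegree (ψ : G → ℂ) else 0) = 0 := by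
        exact_mod_cast h
      have h3 := (Finset.sum_eq_zero_iff.mp h2) χ (Finset.mem_univ χ)
      rw [if_pos hχ] at h3
      have := irr_charDegree_pos χ
      rcases Nat.mul_eq_zero.mp h3 with h4 | h4 <;> omega
  · intro g hg
    exact hg χ hχ
  · intro N hN hpN hNχ n hn ψ hψ
    have hcop : (Nat.card N).Coprime p := ((Nat.Prime.coprime_iff_not_dvd hp).mpr hpN).symm
    have hsame := sameBlock_of_mem hMp hB hχ hψ
    have h1 := memLocalIdeal_omega_sub hMp (χ : G → ℂ) (ψ : G → ℂ)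
      (fun x y hxy => isIrrCharacter_conj χ.2 x y hxy)
      (fun x y hxy => isIrrCharacter_conj ψ.2 x y hxy) hsame
      (normIdem N) (isCentralElt_normIdem N) (localCoeff_normIdem hM N hcop)
    rw [omega_normIdem_of_ker N (χ : G → ℂ) (irr_one_ne_zero χ) hNχ] at h1
    rcases omega_normIdem_eq_zero_or_one N (ψ : G → ℂ) ψ.2 with h0 | h0
    · rw [h0, sub_zero] at h1
      exact absurd h1 not_memLocalIdeal_one
    · exact eq_one_of_omega_normIdem N ψ h0 n hn

end Cfsg.Agent.S0938
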