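import Mathlib
import Cfsg.Statements.S0939
import Cfsg.Agent.Lib.helper20.NormalIdem
import Cfsg.Agent.Lib.helper78.BlockNormalP
import Cfsg.Agent.Lib.helper82.CharQuot
import Cfsg.Agent.Lib.helper40.Cores

set_option autoImplicit false
open Cfsg

namespace Cfsg.Agent.S0939

open Cfsg.Agent.Lib.helper20

theorem result {G : Type*} [Group G] [Finite G] (p : ℕ) [Fact p.Prime] (M : Ideal Cfsg.AlgInt) (hM : Cfsg.IsPModular p M) (hnc : ∃ k : ℕ, (Cfsg.pPrimeCore p G).index = p ^ k) : Cfsg.principalBlock M G = {χ : Cfsg.IrrCharacter G | ∀ n ∈ Cfsg.pPrimeCore p G, (χ : G → ℂ) n = (χ : G → ℂ) 1} := by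
  classical
  have := Fintype.ofFinite G
  have hMp := isPrime_of_isPModular hM
  have hNn : (Cfsg.pPrimeCore p G).Normal := Cfsg.Agent.Lib.helper40.pPrimeCore_normal' p G
  have hcop := Cfsg.Agent.Lib.helper40.pPrimeCore_card_coprime p G
  ext χ
  constructor
  · intro hχ
    have hsame : SameBlock M (fun _ : G => (1 : ℂ)) (χ : G → ℂ) := hχ
    have h1 := memLocalIdeal_omega_sub hMp (fun _ : G => (1 : ℂ)) (χ : G → ℂ)
      (fun _ _ _ => rfl) (fun x y hxy => isIrrCharacter_conj χ.2 x y hxy) hsame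
      (normIdem (Cfsg.pPrimeCore p G)) (isCentralElt_normIdem _)
      (localCoeff_normIdem hM _ hcop)
    rw [omega_normIdem_of_ker (Cfsg.pPrimeCore p G) (fun _ : G => (1 : ℂ)) one_ne_zero
      (fun _ _ => rfl)] at h1
    rcases omega_normIdem_eq_zero_or_one (Cfsg.pPrimeCore p G) (χ : G → ℂ) χ.2 with h0 | h0
    · rw [h0, sub_zero] at h1
      exact absurd h1 not_memLocalIdeal_one
    · exact eq_one_of_omega_normIdem _ χ h0
  · intro hχ
    show SameBlock M (fun _ : G => (1 : ℂ)) (χ : G → ℂ)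
    intro g
    obtain ⟨ψ, hψirr, hψ⟩ :=
      Cfsg.Agent.Lib.helper82.isIrrCharacter_deflation (Cfsg.pPrimeCore p G) χ.2 hχ
    have := Fintype.ofFinite (G ⧸ Cfsg.pPrimeCore p G)
    obtain ⟨k, hk⟩ := hnc
    have hP : IsPGroup p (⊤ : Subgroup (G ⧸ Cfsg.pPrimeCore p G)) := by
      apply IsPGroup.of_card (n := k)
      rw [Subgroup.card_top, ← Subgroup.index_eq_card, hk]
    have h1 := Cfsg.Agent.Lib.helper78.memLocalIdeal_centralChar_sub_index_of_mem hM
      (⊤ : Subgroup (G ⧸ Cfsg.pPrimeCore p G)) hP ψ hψirr (g : G ⧸ Cfsg.pPrimeCore p G)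
      (Subgroup.mem_top _)
    have hle : (Subgroup.centralizer ({g} : Set G)).map (QuotientGroup.mk' (Cfsg.pPrimeCore p G))
        ≤ Subgroup.centralizer ({(g : G ⧸ Cfsg.pPrimeCore p G)} : Set (G ⧸ Cfsg.pPrimeCore p G)) := by
      rintro _ ⟨x, hx, rfl⟩
      rw [SetLike.mem_coe, Subgroup.mem_centralizer_iff] at hx
      rw [Subgroup.mem_centralizer_iff]
      intro y hy
      rw [Set.mem_singleton_iff] at hy
      subst hy
      have := hx g (Set.mem_singleton g)
      show (g : G ⧸ Cfsg.pPrimeCore p G) * (x : G ⧸ Cfsg.pPrimeCore p G)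
        = (x : G ⧸ Cfsg.pPrimeCore p G) * (g : G ⧸ Cfsg.pPrimeCore p G)
      rw [← QuotientGroup.mk_mul, ← QuotientGroup.mk_mul, this]
    obtain ⟨r, hr⟩ : (Subgroup.centralizer
        ({(g : G ⧸ Cfsg.pPrimeCore p G)} : Set (G ⧸ Cfsg.pPrimeCore p G))).index
        ∣ (Subgroup.centralizer ({g} : Set G)).index :=
      (Subgroup.index_dvd_of_le hle).trans
        (Subgroup.index_map_dvd _ (QuotientGroup.mk'_surjective _))
    unfold centralChar at h1 ⊢
    have h11 : ψ ((1 : G) : G ⧸ Cfsg.pPrimeCore p G) = (χ : G → ℂ) 1 := hψ 1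
    rw [QuotientGroup.mk_one] at h11
    rw [hψ g, h11] at h1
    have h2 := memLocalIdeal_mul_left hMp (memLocalRing_natCast hMp r) (memLocalIdeal_neg h1)
    convert h2 using 1
    rw [hr]
    push_cast
    ring

end Cfsg.Agent.S0939
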