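import Mathlib
import Cfsg.Statements.S0940
import Cfsg.Agent.Lib.helper20.PrincipalIdem

set_option autoImplicit false
open Cfsg

namespace Cfsg.Agent.S0940

open Cfsg.Agent.Lib.helper20

/-- Let G be a finite group and M a maximal ideal of the algebraic integers containing the prime p. For every p-regular g, the idempotent coefficient of the principal block at g (the inverse of the group order times the sum over χ in the principal block of χ 1 * conj (χ g)) is congruent modulo the local ideal at M to N / R, where N is the number of pairs (x, y) with x of p-power order, y of order prime to p and x * y = g, and R is the number of elements of G of order prime to p. -/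
theorem result {G : Type*} [Group G] [Finite G] (p : ℕ) [Fact p.Prime] (M : Ideal Cfsg.AlgInt) (hM : Cfsg.IsPModular p M) (g : G) (hg : ¬ p ∣ orderOf g) : Cfsg.MemLocalIdeal M (Cfsg.blockCoeff (Cfsg.principalBlock M G) g - (Nat.card {xy : G × G // (∃ k : ℕ, orderOf xy.1 = p ^ k) ∧ ¬ p ∣ orderOf xy.2 ∧ xy.1 * xy.2 = g} : ℂ) / (Nat.card {y : G // ¬ p ∣ orderOf y} : ℂ)) := by
  classical
  have hfin : Fintype G := Fintype.ofFinite G
  have hMp : M.IsPrime := hM.2.1.isPrime
  have hkey := memLocalIdeal_principal_coeff hM g hg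
  have hRJ := not_memLocalIdeal_pRegCount (G := G) hM
  have hRl := memLocalRing_pRegCount (G := G) hMp p
  have hR : (Nat.card {y : G // ¬ p ∣ orderOf y} : ℂ) = pRegCount (G := G) p := by
    unfold pRegCount
    rw [Nat.card_eq_fintype_card, Fintype.card_subtype, Finset.natCast_card_filter]
  have hN : (Nat.card {xy : G × G // (∃ k : ℕ, orderOf xy.1 = p ^ k) ∧ ¬ p ∣ orderOf xy.2
        ∧ xy.1 * xy.2 = g} : ℂ)
      = ∑ x : G, if (∃ j : ℕ, orderOf x = p ^ j) then
        (if ¬ p ∣ orderOf (x * g) then (1 : ℂ) else 0) else 0 := by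
    have e : {xy : G × G // (∃ k : ℕ, orderOf xy.1 = p ^ k) ∧ ¬ p ∣ orderOf xy.2
        ∧ xy.1 * xy.2 = g} ≃ {x : G // (∃ j : ℕ, orderOf x = p ^ j) ∧ ¬ p ∣ orderOf (x * g)} :=
      { toFun := fun xy => ⟨xy.1.1⁻¹, by
          obtain ⟨⟨x, y⟩, h1, h2, h3⟩ := xy
          refine ⟨?_, ?_⟩
          · simpa using h1
          · have : x⁻¹ * g = y := by rw [← h3]; simp
            simpa [this] using h2⟩
        invFun := fun x => ⟨(x.1⁻¹, x.1 * g), by
          obtain ⟨x, h1, h2⟩ := x
          refine ⟨?_, ?_, ?_⟩
          · simpa using h1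
          · exact h2
          · simp⟩
        left_inv := by
          rintro ⟨⟨x, y⟩, h1, h2, h3⟩
          apply Subtype.ext
          simp only [inv_inv, Prod.mk.injEq, true_and]
          rw [← h3]; simp
        right_inv := by
          rintro ⟨x, h1, h2⟩
          apply Subtype.ext
          simp }
    rw [Nat.card_congr e, Nat.card_eq_fintype_card, Fintype.card_subtype,
      Finset.natCast_card_filter]
    apply Finset.sum_congr rfl
    intro x _
    rw [ite_and]
  rw [hR, hN]
  have hR0 : pRegCount (G := G) p ≠ 0 := by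
    intro h
    apply hRJ
    rw [h]
    exact memLocalIdeal_zero hMp
  have hinv : MemLocalRing M (pRegCount (G := G) p)⁻¹ :=
    Cfsg.Agent.Lib.helper81.memLocalRing_inv hRl hRJ
  have h1 := memLocalIdeal_neg (memLocalIdeal_mul_right hMp hkey hinv)
  have e : blockCoeff (principalBlock M G) g
      - (∑ x : G, if (∃ j : ℕ, orderOf x = p ^ j) then
        (if ¬ p ∣ orderOf (x * g) then (1 : ℂ) else 0) else 0) / pRegCount (G := G) p
      = -(((∑ x : G, if (∃ j : ℕ, orderOf x = p ^ j) then
        (if ¬ p ∣ orderOf (x * g) then (1 : ℂ) else 0) else 0)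
        - pRegCount (G := G) p * blockCoeff (principalBlock M G) g) * (pRegCount (G := G) p)⁻¹) := by
    field_simp
    ring
  rw [e]
  exact h1

end Cfsg.Agent.S0940
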