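import Mathlib
import Cfsg.Statements.S0941
import Cfsg.Agent.Lib.helper20.SecondMain
import Cfsg.Agent.Lib.helper20.Osima
import Cfsg.Agent.Lib.helper20.NormalIdem
import Cfsg.Agent.Lib.helper84.BlockOrth
import Cfsg.Agent.Lib.helper82.CharQuot
import Cfsg.Agent.Lib.helper81.Blocks
import Cfsg.Agent.Lib.helper81.CharOrtho

set_option autoImplicit false
open Cfsg

namespace Cfsg.Agent.S0941

open Cfsg.Agent.Lib.helper20
open Cfsg.Agent.Lib.helper81 (blockCoeff_eq_sum irr_one_ne_zero irr_one_eq_charDegree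
  isPBlock_nonempty)
open scoped ComplexConjugate

/-- The central character of an inflated function is an integer multiple of the central character
of the function on the quotient. -/
theorem centralChar_inflation {G : Type*} [Group G] [Finite G] (P : Subgroup G) [P.Normal]
    (χ : G ⧸ P → ℂ) (g : G) :
    centralChar (χ ∘ QuotientGroup.mk) g
      = (((Subgroup.centralizer ({g} : Set G)).relIndex
          ((Subgroup.centralizer ({(g : G ⧸ P)} : Set (G ⧸ P))).comap (QuotientGroup.mk' P)) : ℕ) : ℂ)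
        * centralChar χ (g : G ⧸ P) := by
  have hle : Subgroup.centralizer ({g} : Set G)
      ≤ (Subgroup.centralizer ({(g : G ⧸ P)} : Set (G ⧸ P))).comap (QuotientGroup.mk' P) := by
    intro x hx
    rw [Subgroup.mem_comap, Subgroup.mem_centralizer_singleton_iff]
    rw [Subgroup.mem_centralizer_singleton_iff] at hx
    show (x : G ⧸ P) * (g : G ⧸ P) = (g : G ⧸ P) * (x : G ⧸ P)
    rw [← QuotientGroup.mk_mul, ← QuotientGroup.mk_mul, hx]
  have h1 := Subgroup.relIndex_mul_index hle
  rw [Subgroup.index_comap_of_surjective _ (QuotientGroup.mk'_surjective P)] at h1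
  unfold centralChar
  rw [← h1]
  simp only [Function.comp_apply, QuotientGroup.mk_one]
  push_cast
  ring

/-- A `p`-regular element centralizes a normal `p`-subgroup whose centralizer has `p`-power
index, and then its centralizer is the full preimage of the centralizer of its image. -/
theorem relIndex_eq_one_of_pRegular {G : Type*} [Group G] [Finite G] (p : ℕ) [Fact p.Prime]
    (P : Subgroup G) [P.Normal] (hP : IsPGroup p P)
    (hC : ∃ k : ℕ, (Subgroup.centralizer (P : Set G)).index = p ^ k) (g : G)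
    (hg : ¬ p ∣ orderOf g) :
    (Subgroup.centralizer ({g} : Set G)).relIndex
      ((Subgroup.centralizer ({(g : G ⧸ P)} : Set (G ⧸ P))).comap (QuotientGroup.mk' P)) = 1 := by
  have hpp : p.Prime := Fact.out
  rw [Subgroup.relIndex_eq_one]
  obtain ⟨k, hk⟩ := hC
  have hgC : g ∈ Subgroup.centralizer (P : Set G) := by
    have h1 : g ^ (p ^ k) ∈ Subgroup.centralizer (P : Set G) := by
      rw [← hk]
      exact Subgroup.pow_index_mem _ g
    have hcop : (p ^ k).Coprime (orderOf g) :=
      Nat.Coprime.pow_left k ((Nat.Prime.coprime_iff_not_dvd hpp).mpr hg)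
    obtain ⟨m, hm⟩ := exists_pow_eq_self_of_coprime hcop
    rw [← hm]
    exact Subgroup.pow_mem _ h1 m
  intro x hx
  rw [Subgroup.mem_comap, Subgroup.mem_centralizer_singleton_iff] at hx
  have hx' : ((x * g : G) : G ⧸ P) = ((g * x : G) : G ⧸ P) := by
    rw [QuotientGroup.mk_mul, QuotientGroup.mk_mul]; exact hx
  have hu : (g * x)⁻¹ * (x * g) ∈ P := by
    have := (QuotientGroup.eq (s := P)).1 hx'.symm
    exact this
  -- u' = g⁻¹ * (x * g * x⁻¹) ∈ P
  set u' : G := g⁻¹ * (x * g * x⁻¹) with hu'
  have hu'P : u' ∈ P := by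
    have h2 : u' = x * ((g * x)⁻¹ * (x * g)) * x⁻¹ := by rw [hu']; group
    rw [h2]
    exact ‹P.Normal›.conj_mem _ hu x
  have hcomm : Commute g u' := by
    rw [Subgroup.mem_centralizer_iff] at hgC
    exact (hgC u' hu'P).symm
  have hconj : x * g * x⁻¹ = g * u' := by rw [hu']; group
  have hpow : u' ^ orderOf g = 1 := by
    have h3 : (x * g * x⁻¹) ^ orderOf g = 1 := by
      rw [conj_pow, pow_orderOf_eq_one]; group
    rw [hconj, hcomm.mul_pow, pow_orderOf_eq_one, one_mul] at h3
    exact h3
  have hu'1 : u' = 1 := by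
    obtain ⟨j, hj⟩ := hP ⟨u', hu'P⟩
    have hj' : u' ^ (p ^ j) = 1 := by
      have := congrArg Subtype.val hj
      simpa using this
    have h4 : orderOf u' ∣ Nat.gcd (orderOf g) (p ^ j) :=
      Nat.dvd_gcd (orderOf_dvd_of_pow_eq_one hpow) (orderOf_dvd_of_pow_eq_one hj')
    have hcop : (orderOf g).Coprime (p ^ j) :=
      Nat.Coprime.pow_right j ((Nat.Prime.coprime_iff_not_dvd hpp).mpr hg).symm
    rw [hcop, Nat.dvd_one, orderOf_eq_one_iff] at h4
    exact h4
  rw [Subgroup.mem_centralizer_singleton_iff]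
  have h5 : x * g * x⁻¹ = g := by rw [hconj, hu'1, mul_one]
  calc x * g = x * g * x⁻¹ * x := by group
    _ = g * x := by rw [h5]

/-- `p`-regular elements of a quotient lift to `p`-regular elements. -/
theorem exists_pRegular_lift {G : Type*} [Group G] [Finite G] (p : ℕ) [Fact p.Prime]
    (P : Subgroup G) [P.Normal] (y : G ⧸ P) (hy : ¬ p ∣ orderOf y) :
    ∃ g : G, (g : G ⧸ P) = y ∧ ¬ p ∣ orderOf g := by
  have hpp : p.Prime := Fact.out
  obtain ⟨g₀, rfl⟩ := QuotientGroup.mk_surjective y
  obtain ⟨a, b, k, n, hsplit, hzk, hyn, hn, hcop⟩ := exists_zpow_split hpp g₀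
  refine ⟨g₀ ^ b, ?_, ?_⟩
  · have h1 : ((g₀ : G ⧸ P)) ^ a = 1 := by
      have e1 : ((g₀ : G ⧸ P) ^ a) ^ (p ^ k) = 1 := by
        rw [← QuotientGroup.mk_zpow, ← QuotientGroup.mk_pow, hzk, QuotientGroup.mk_one]
      have e2 : ((g₀ : G ⧸ P) ^ a) ^ orderOf (g₀ : G ⧸ P) = 1 := by
        rw [← zpow_natCast, ← zpow_mul, mul_comm, zpow_mul, zpow_natCast, pow_orderOf_eq_one,
          one_zpow]
      have h4 : orderOf ((g₀ : G ⧸ P) ^ a) ∣ Nat.gcd (orderOf (g₀ : G ⧸ P)) (p ^ k) :=
        Nat.dvd_gcd (orderOf_dvd_of_pow_eq_one e2) (orderOf_dvd_of_pow_eq_one e1)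
      have hc : (orderOf (g₀ : G ⧸ P)).Coprime (p ^ k) :=
        Nat.Coprime.pow_right k ((Nat.Prime.coprime_iff_not_dvd hpp).mpr hy).symm
      rw [hc, Nat.dvd_one, orderOf_eq_one_iff] at h4
      exact h4
    have h2 : (g₀ : G ⧸ P) = (g₀ : G ⧸ P) ^ a * (g₀ : G ⧸ P) ^ b := by
      rw [← QuotientGroup.mk_zpow, ← QuotientGroup.mk_zpow, ← QuotientGroup.mk_mul, ← hsplit]
    rw [h1, one_mul] at h2
    rw [QuotientGroup.mk_zpow]
    exact h2.symm
  · intro hdvd
    have h1 : p ∣ n := hdvd.trans (orderOf_dvd_of_pow_eq_one hyn)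
    exact (Nat.Prime.coprime_iff_not_dvd hpp).mp hcop.symm h1

/-- The coefficient at `1` of a block idempotent is nonzero. -/
theorem blockCoeff_one_ne_zero {G : Type*} [Group G] [Fintype G] {M : Ideal AlgInt}
    (hM : M.IsPrime) (B : Set (IrrCharacter G)) (hB : IsPBlock M B) : blockCoeff B 1 ≠ 0 := by
  classical
  rw [blockCoeff_eq_sum]
  have hG : (Nat.card G : ℂ) ≠ 0 := by exact_mod_cast Nat.card_pos.ne'
  apply mul_ne_zero (inv_ne_zero hG)
  have e : ∑ χ : IrrCharacter G, (if χ ∈ B then (χ : G → ℂ) 1 * conj ((χ : G → ℂ) 1) else 0)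
      = ((∑ χ : IrrCharacter G, (if χ ∈ B then charDegree (χ : G → ℂ) ^ 2 else 0) : ℕ) : ℂ) := by
    push_cast
    apply Finset.sum_congr rfl
    intro χ _
    split_ifs
    · rw [irr_one_eq_charDegree]
      simp [sq]
    · rfl
  rw [e]
  obtain ⟨χ₀, hχ₀⟩ := isPBlock_nonempty hM hB
  have hpos : 0 < ∑ χ : IrrCharacter G, (if χ ∈ B then charDegree (χ : G → ℂ) ^ 2 else 0) := by
    apply Finset.sum_pos'
    · intro χ _; positivity
    · refine ⟨χ₀, Finset.mem_univ _, ?_⟩
      rw [if_pos hχ₀]
      have : charDegree (χ₀ : G → ℂ) ≠ 0 := by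
        intro h0
        apply irr_one_ne_zero χ₀
        rw [irr_one_eq_charDegree, h0]; simp
      positivity
  exact_mod_cast hpos.ne'

/-- Let P be a normal p-subgroup of the finite group G such that the index of C_G(P) is a power of p, and fix a maximal ideal M of the algebraic integers containing p. Then (i) two irreducible characters of G ⧸ P lie in the same block if and only if their inflations to G do, and (ii) every block of G contains the inflation of some irreducible character of G ⧸ P; so inflation induces a bijection between the blocks of G ⧸ P and the blocks of G. -/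
theorem result {G : Type*} [Group G] [Finite G] (p : ℕ) [Fact p.Prime] (M : Ideal Cfsg.AlgInt) (hM : Cfsg.IsPModular p M) (P : Subgroup G) [P.Normal] (hP : IsPGroup p P) (hC : ∃ k : ℕ, (Subgroup.centralizer (P : Set G)).index = p ^ k) : (∀ χ ψ : Cfsg.IrrCharacter (G ⧸ P), Cfsg.SameBlock M (χ : G ⧸ P → ℂ) (ψ : G ⧸ P → ℂ) ↔ Cfsg.SameBlock M ((χ : G ⧸ P → ℂ) ∘ QuotientGroup.mk) ((ψ : G ⧸ P → ℂ) ∘ QuotientGroup.mk)) ∧ ∀ B : Set (Cfsg.IrrCharacter G), Cfsg.IsPBlock M B → ∃ χ : Cfsg.IrrCharacter (G ⧸ P), ∃ θ ∈ B, (θ : G → ℂ) = (χ : G ⧸ P → ℂ) ∘ QuotientGroup.mk := by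
  classical
  have hpp : p.Prime := Fact.out
  have hMp : M.IsPrime := hM.2.1.isPrime
  have hfin : Fintype G := Fintype.ofFinite G
  have hfinQ : Fintype (G ⧸ P) := Fintype.ofFinite _
  refine ⟨?_, ?_⟩
  · intro χ ψ
    constructor
    · intro h g
      rw [centralChar_inflation, centralChar_inflation, ← mul_sub]
      exact memLocalIdeal_mul_left hMp (memLocalRing_natCast hMp _) (h (g : G ⧸ P))
    · intro h
      apply Cfsg.Agent.Lib.helper84.sameBlock_of_pRegular hM χ ψ
      intro y hy
      obtain ⟨g, rfl, hg⟩ := exists_pRegular_lift p P y hy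
      have h1 := h g
      rw [centralChar_inflation, centralChar_inflation,
        relIndex_eq_one_of_pRegular p P hP hC g hg, Nat.cast_one, one_mul, one_mul] at h1
      exact h1
  · intro B hB
    by_contra hcon
    push Not at hcon
    -- every member of B has vanishing sum over P
    have hA : ∀ θ ∈ B, ∑ g ∈ Finset.univ.filter (fun g : G => g ∈ P), (θ : G → ℂ) g = 0 := by
      intro θ hθ
      rcases omega_normIdem_eq_zero_or_one P (θ : G → ℂ) θ.2 with h0 | h1
      · rw [omega_normIdem] at h0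
        have hcard : (Nat.card P : ℂ) ≠ 0 := by exact_mod_cast Nat.card_pos.ne'
        have hθ1 := irr_one_ne_zero θ
        rw [div_eq_zero_iff] at h0
        rcases h0 with h0 | h0
        · rcases mul_eq_zero.1 h0 with h0 | h0
          · exact absurd (inv_eq_zero.1 h0) hcard
          · exact h0
        · exact absurd h0 hθ1
      · exfalso
        have hker := eq_one_of_omega_normIdem P θ h1
        obtain ⟨ψ, hψ, hψ'⟩ := Cfsg.Agent.Lib.helper82.isIrrCharacter_deflation P θ.2 hker
        exact hcon ⟨ψ, hψ⟩ θ hθ (funext fun g => (hψ' g).symm)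
    have hBsum : ∑ g ∈ Finset.univ.filter (fun g : G => g ∈ P), blockCoeff B g
        = blockCoeff B 1 := by
      apply Finset.sum_eq_single (1 : G)
      · intro g hg hg1
        simp only [Finset.mem_filter, Finset.mem_univ, true_and] at hg
        apply blockCoeff_eq_zero_of_singular hM hB g
        obtain ⟨j, hj⟩ := hP ⟨g, hg⟩
        have hj' : g ^ (p ^ j) = 1 := by
          have := congrArg Subtype.val hj
          simpa using this
        obtain ⟨i, -, hi⟩ := (Nat.dvd_prime_pow hpp).1 (orderOf_dvd_of_pow_eq_one hj')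
        rw [hi]
        rcases Nat.eq_zero_or_pos i with h0 | h0
        · exfalso
          rw [h0, pow_zero, orderOf_eq_one_iff] at hi
          exact hg1 hi
        · exact dvd_pow_self p h0.ne'
      · intro h
        exfalso
        apply h
        simp only [Finset.mem_filter, Finset.mem_univ, true_and]
        exact P.one_mem
    have hzero : ∑ g ∈ Finset.univ.filter (fun g : G => g ∈ P), blockCoeff B g = 0 := by
      simp_rw [blockCoeff_eq_sum]
      rw [← Finset.mul_sum, Finset.sum_comm]
      have : ∀ χ : IrrCharacter G,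
          ∑ g ∈ Finset.univ.filter (fun g : G => g ∈ P),
            (if χ ∈ B then (χ : G → ℂ) 1 * conj ((χ : G → ℂ) g) else 0) = 0 := by
        intro χ
        split_ifs with hχ
        · rw [← Finset.mul_sum, ← map_sum, hA χ hχ, map_zero, mul_zero]
        · simp
      simp_rw [this]
      simp
    rw [hBsum] at hzero
    exact blockCoeff_one_ne_zero hMp B hB hzero

end Cfsg.Agent.S0941
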