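import Cfsg.Statements.S0947
import Cfsg.Agent.Lib.helper84.PrincipalSection

set_option autoImplicit false
open Cfsg

namespace Cfsg.Agent.S0947

open Cfsg.Agent.Lib.helper84 Cfsg.Agent.Lib.helper81 Cfsg.Agent.Lib.helper80
  Cfsg.Agent.Lib.helper20
open scoped ComplexConjugate

open Classical in
/-- A finite sum of squared norms over a set, as a complex number. -/
theorem ofReal_finsum_norm_sq {ι : Type*} [Fintype ι] (B : Set ι) (f : ι → ℂ) :
    ((∑ᶠ i ∈ B, ‖f i‖ ^ 2 : ℝ) : ℂ) = ∑ i : ι, if i ∈ B then f i * conj (f i) else 0 := by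
  rw [finsum_mem_def, finsum_eq_sum_of_fintype, Complex.ofReal_sum]
  refine Finset.sum_congr rfl fun i _ => ?_
  rw [Set.indicator_apply]
  split_ifs
  · rw [Complex.mul_conj, Complex.normSq_eq_norm_sq]
  · rfl

/-- Let z ≠ 1 be a p-element of the finite group G with centralizer H, and fix a maximal ideal M of the algebraic integers containing p. (i) For every y ∈ H of order prime to p, the sum over ζ in the principal block of G of |ζ (z * y)|² equals the sum over χ in the principal block of H of |χ y|². (ii) If moreover H has a normal p-complement (its largest normal subgroup of order prime to p has p-power index), that common value is the largest power of p dividing the order of H. -/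
theorem result {G : Type*} [Group G] [Finite G] (p : ℕ) [Fact p.Prime] (M : Ideal Cfsg.AlgInt) (hM : Cfsg.IsPModular p M) (z : G) (hz : ∃ k : ℕ, orderOf z = p ^ k) (hz1 : z ≠ 1) (y : Subgroup.centralizer ({z} : Set G)) (hy : ¬ p ∣ orderOf y) : (∑ᶠ ζ ∈ Cfsg.principalBlock M G, ‖(ζ : G → ℂ) (z * (y : G))‖ ^ 2 = ∑ᶠ χ ∈ Cfsg.principalBlock M (Subgroup.centralizer ({z} : Set G)), ‖(χ : Subgroup.centralizer ({z} : Set G) → ℂ) y‖ ^ 2) ∧ ((∃ k : ℕ, (Cfsg.pPrimeCore p (Subgroup.centralizer ({z} : Set G))).index = p ^ k) → ∑ᶠ ζ ∈ Cfsg.principalBlock M G, ‖(ζ : G → ℂ) (z * (y : G))‖ ^ 2 = ((p ^ (Nat.card (Subgroup.centralizer ({z} : Set G))).factorization p : ℕ) : ℝ)) := by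
  classical
  have : Fintype G := Fintype.ofFinite G
  have : Fintype (Subgroup.centralizer ({z} : Set G)) := Fintype.ofFinite _
  have h1 := sum_principalBlock_section hM z hz y hy
  constructor
  · apply Complex.ofReal_injective
    rw [ofReal_finsum_norm_sq, ofReal_finsum_norm_sq]
    exact h1
  · intro hidx
    apply Complex.ofReal_injective
    rw [ofReal_finsum_norm_sq, h1, sum_principalBlock_sq_of_pNilpotent hM hidx y hy]
    simp

end Cfsg.Agent.S0947
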