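import Cfsg.Statements.S0949
import Cfsg.Agent.Lib.helper20.Homocyclic

set_option autoImplicit false
open Cfsg

namespace Cfsg.Agent.S0949

open Cfsg.Agent.Lib.helper20 Cfsg.Agent.Lib.helper21

/-- Let the finite group G have a Sylow 2-subgroup P isomorphic to Z/2^m × Z/2^m with m ≥ 2, and suppose G has no nontrivial normal subgroup of odd order. Then P is normal in G, C_G(P) = P, and the index of P is 1 or 3. -/
theorem result {G : Type*} [Group G] [Finite G] (P : Sylow 2 G) (m : ℕ) (hm : 2 ≤ m) (e : (P : Subgroup G) ≃* Multiplicative (ZMod (2 ^ m) × ZMod (2 ^ m))) (hO : ∀ N : Subgroup G, N.Normal → Odd (Nat.card N) → N = ⊥) : (P : Subgroup G).Normal ∧ Subgroup.centralizer (P : Set G) = (P : Subgroup G) ∧ ((P : Subgroup G).index = 1 ∨ (P : Subgroup G).index = 3) := by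
  haveI : Fact (Nat.Prime 2) := ⟨Nat.prime_two⟩
  have hnorm : (P : Subgroup G).Normal := hc_sylow_normal P m hm e hO
  haveI := hnorm
  have hab := homocyclic_abelian P m e
  have hPC : (P : Subgroup G) ≤ Subgroup.centralizer ((P : Subgroup G) : Set G) := by
    intro x hx
    rw [Subgroup.mem_centralizer_iff]
    intro h hh
    exact hab h hh x hx
  have hcoe : ((P.subtype hPC : Sylow 2 (Subgroup.centralizer ((P : Subgroup G) : Set G))) :
      Subgroup (Subgroup.centralizer ((P : Subgroup G) : Set G)))
      = (P : Subgroup G).subgroupOf (Subgroup.centralizer ((P : Subgroup G) : Set G)) :=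
    Sylow.coe_subtype P hPC
  have htop := hc_eq_top_of_normalizer_le (P.subtype hPC)
    (by
      intro c _
      rw [Subgroup.mem_centralizer_iff]
      intro x hx
      rw [SetLike.mem_coe, hcoe, Subgroup.mem_subgroupOf] at hx
      apply Subtype.ext
      have hc := c.2
      rw [Subgroup.mem_centralizer_iff] at hc
      exact hc (x : G) hx)
    (fun L hL hodd => hc_odd_normal_eq_bot hO _ L hL hodd)
  rw [hcoe, Subgroup.subgroupOf_eq_top] at htop
  have hC : Subgroup.centralizer ((P : Subgroup G) : Set G) = (P : Subgroup G) :=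
    le_antisymm htop hPC
  refine ⟨hnorm, hC, ?_⟩
  have h := homocyclic_relIndex P m e (by omega)
  rw [hC, Subgroup.normalizer_eq_top, Subgroup.relIndex_top_right] at h
  exact h

end Cfsg.Agent.S0949
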