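import Cfsg.Statements.S0955
import Cfsg.Agent.Lib.helper80.FMT2

set_option autoImplicit false
open Cfsg

namespace Cfsg.Agent.S0955

open Cfsg.Agent.Lib.helper80 Cfsg.Agent.Lib.helper20

/-- Let D be a defect group of a block of the finite group G relative to a maximal ideal M of the algebraic integers containing the prime p. Then D is the largest normal p-subgroup of its own normalizer: O_p(N_G(D)) = D. -/
theorem result {G : Type*} [Group G] [Finite G] (p : ℕ) [Fact p.Prime] (M : Ideal Cfsg.AlgInt) (hM : Cfsg.IsPModular p M) (B : Set (Cfsg.IrrCharacter G)) (hB : Cfsg.IsPBlock M B) (D : Subgroup G) (hD : Cfsg.IsDefectGroup p M B D) : (Cfsg.pCore p (Subgroup.normalizer (D : Set G))).map (Subgroup.normalizer (D : Set G)).subtype = D := by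
  classical
  have := Fintype.ofFinite G
  have : Fintype (Subgroup.normalizer (D : Set G)) := Fintype.ofFinite _
  have hDp : IsPGroup p D := IsDefectGroup.isPGroup hD
  have hnorm : (D.subgroupOf (Subgroup.normalizer (D : Set G))).Normal :=
    Subgroup.normal_subgroupOf_of_le_normalizer le_rfl
  obtain ⟨c, hc, hDc, -, -, -⟩ := fmt_down hM D (Subgroup.normalizer (D : Set G)) hDp
    le_rfl le_rfl hB hD
  apply le_antisymm
  · -- every normal p-subgroup of the normalizer lies in the defect group of `c`
    have h1 : Cfsg.pCore p (Subgroup.normalizer (D : Set G))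
        ≤ D.subgroupOf (Subgroup.normalizer (D : Set G)) := by
      apply sSup_le
      rintro Q ⟨hQn, hQp⟩
      exact @normal_le_defectGroup _ _ _ p _ M hM Q hQn hQp c hc _ hDc
    intro y hy
    obtain ⟨u, hu, rfl⟩ := Subgroup.mem_map.mp hy
    exact Subgroup.mem_subgroupOf.mp (h1 hu)
  · intro y hy
    have h2 : D.subgroupOf (Subgroup.normalizer (D : Set G))
        ≤ Cfsg.pCore p (Subgroup.normalizer (D : Set G)) :=
      le_sSup ⟨hnorm, hDp.comap_subtype⟩
    exact Subgroup.mem_map.mpr ⟨⟨y, Subgroup.le_normalizer hy⟩,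
      h2 (Subgroup.mem_subgroupOf.mpr hy), rfl⟩

end Cfsg.Agent.S0955
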