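import Cfsg.Statements.S0956
import Cfsg.Agent.Lib.helper84.WeakGreen
import Cfsg.Agent.Lib.helper80.FMT2
import Cfsg.Agent.Lib.helper80.DefectGroup
import Cfsg.Agent.Lib.helper79.DefectDeg

set_option autoImplicit false
open Cfsg

namespace Cfsg.Agent.S0956

open Cfsg.Agent.Lib.helper20 Cfsg.Agent.Lib.helper80 Cfsg.Agent.Lib.helper81
  Cfsg.Agent.Lib.helper84

/-- In a finite `p`-group `I`, a proper subgroup `D` is properly contained in its normalizer:
some element of `I` outside `D` normalizes `D`. -/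
theorem exists_normalizing_of_lt {G : Type*} [Group G] [Finite G] (p : ℕ) [Fact p.Prime]
    (D I : Subgroup G) (hI : IsPGroup p I) (hDI : D ≤ I) (hne : D ≠ I) :
    ∃ x ∈ I, x ∈ Subgroup.normalizer (D : Set G) ∧ x ∉ D := by
  have hnil : Group.IsNilpotent I := hI.isNilpotent
  have hnc := Group.normalizerCondition_of_isNilpotent (G := I)
  rw [normalizerCondition_iff_only_full_group_self_normalizing] at hnc
  by_contra hcon
  simp only [not_exists, not_and, not_not] at hcon
  have h1 : Subgroup.normalizer ((D.subgroupOf I : Subgroup I) : Set I) = D.subgroupOf I := by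
    apply le_antisymm
    · intro x hx
      rw [Subgroup.mem_subgroupOf]
      apply hcon x x.2
      rw [Subgroup.mem_normalizer_iff] at hx ⊢
      intro n
      constructor
      · intro hn
        have h2 := (hx ⟨n, hDI hn⟩).mp (Subgroup.mem_subgroupOf.mpr hn)
        exact Subgroup.mem_subgroupOf.mp h2
      · intro hn
        have hnI : n ∈ I := by
          have h2 : (x : G) * n * (x : G)⁻¹ ∈ I := hDI hn
          have h3 : n = (x : G)⁻¹ * ((x : G) * n * (x : G)⁻¹) * (x : G) := by group
          rw [h3]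
          exact I.mul_mem (I.mul_mem (I.inv_mem x.2) h2) x.2
        have h2 := (hx ⟨n, hnI⟩).mpr (Subgroup.mem_subgroupOf.mpr hn)
        exact Subgroup.mem_subgroupOf.mp h2
    · exact Subgroup.le_normalizer
  have h2 := hnc _ h1
  apply hne
  apply le_antisymm hDI
  intro x hx
  have h3 : (⟨x, hx⟩ : I) ∈ D.subgroupOf I := by
    rw [h2]
    exact Subgroup.mem_top _
  exact Subgroup.mem_subgroupOf.mp h3

/-- Let D be a defect group of a block of the finite group G (relative to a maximal ideal M of the algebraic integers containing the prime p) and P a Sylow p-subgroup containing D. Then there is an element x of order prime to p such that D is a Sylow p-subgroup of the centralizer of x and D = P ∩ x P x⁻¹. -/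
theorem result {G : Type*} [Group G] [Finite G] (p : ℕ) [Fact p.Prime] (M : Ideal Cfsg.AlgInt) (hM : Cfsg.IsPModular p M) (B : Set (Cfsg.IrrCharacter G)) (hB : Cfsg.IsPBlock M B) (D : Subgroup G) (hD : Cfsg.IsDefectGroup p M B D) (P : Sylow p G) (hDP : D ≤ P) : ∃ x : G, ¬ p ∣ orderOf x ∧ (∃ S : Sylow p (Subgroup.centralizer ({x} : Set G)), (S : Subgroup (Subgroup.centralizer ({x} : Set G))).map (Subgroup.centralizer ({x} : Set G)).subtype = D) ∧ (P : Subgroup G) ⊓ (P : Subgroup G).map (MulAut.conj x).toMonoidHom = D := by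
  classical
  have hp := (Fact.out : p.Prime)
  have := Fintype.ofFinite G
  have hMp := isPrime_of_isPModular hM
  have hDp : IsPGroup p D := IsDefectGroup.isPGroup hD
  set H : Subgroup G := Subgroup.normalizer (D : Set G) with hH
  have : Fintype H := Fintype.ofFinite H
  obtain ⟨c, hc, hDc, -, -, -⟩ := fmt_down hM D H hDp le_rfl le_rfl hB hD
  have hDH : D ≤ H := Subgroup.le_normalizer
  have hDHn : (D.subgroupOf H).Normal := Subgroup.normal_in_normalizer
  have hDHp : IsPGroup p (D.subgroupOf H) := hDp.comap_subtype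
  have hRp : IsPGroup p (((P : Subgroup G) ⊓ H).subgroupOf H) :=
    (P.isPGroup'.to_le inf_le_left).comap_subtype
  obtain ⟨SH, hSH⟩ := hRp.exists_le_sylow
  obtain ⟨y, hyreg, hyJ, hycomm, hycard, hyν⟩ := weak_green hM hc SH
  have hcardD : Nat.card (D.subgroupOf H) = p ^ blockDefect p c :=
    Cfsg.Agent.Lib.helper79.card_eq_of_isDefectGroup hM hc hDc
  have hDSH : D.subgroupOf H ≤ SH := hDHp.le_sylow_of_normal SH
  have hDcent : D.subgroupOf H ≤ (SH : Subgroup H) ⊓ Subgroup.centralizer ({y} : Set H) := by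
    intro s hs
    rw [Subgroup.mem_inf, Subgroup.mem_centralizer_singleton_iff]
    refine ⟨hDSH hs, ?_⟩
    apply hycomm s (hDSH hs)
    apply hDSH
    have h1 := hDHn.conj_mem s hs y⁻¹
    simpa using h1
  have hDeq : D.subgroupOf H = (SH : Subgroup H) ⊓ Subgroup.centralizer ({y} : Set H) :=
    Subgroup.eq_of_le_of_card_ge hDcent (by rw [hycard, hcardD])
  have hyD : ∀ x ∈ D, x * (y : G) = (y : G) * x := by
    intro x hx
    have h1 : (⟨x, hDH hx⟩ : H) ∈ D.subgroupOf H := Subgroup.mem_subgroupOf.mpr hx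
    have h2 := hDcent h1
    rw [Subgroup.mem_inf, Subgroup.mem_centralizer_singleton_iff] at h2
    have h3 := congrArg (Subtype.val) h2.2
    simpa using h3
  have hkey : ∀ x : G, x ∈ H → x ∈ (P : Subgroup G) →
      (y : G)⁻¹ * x * (y : G) ∈ (P : Subgroup G) → x ∈ D := by
    intro x hxH hxP hxP'
    have h1 : (⟨x, hxH⟩ : H) ∈ (SH : Subgroup H) :=
      hSH (Subgroup.mem_subgroupOf.mpr ⟨hxP, hxH⟩)
    have h2 : y⁻¹ * (⟨x, hxH⟩ : H) * y ∈ (SH : Subgroup H) := by
      apply hSH
      rw [Subgroup.mem_subgroupOf]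
      refine ⟨?_, (y⁻¹ * (⟨x, hxH⟩ : H) * y).2⟩
      exact hxP'
    have h3 := hycomm _ h1 h2
    have h4 : (⟨x, hxH⟩ : H) ∈ (SH : Subgroup H) ⊓ Subgroup.centralizer ({y} : Set H) := by
      rw [Subgroup.mem_inf, Subgroup.mem_centralizer_singleton_iff]
      exact ⟨h1, h3⟩
    rw [← hDeq] at h4
    exact Subgroup.mem_subgroupOf.mp h4
  refine ⟨(y : G), ?_, ?_, ?_⟩
  · rwa [Subgroup.orderOf_coe]
  · have hDC : D ≤ Subgroup.centralizer ({(y : G)} : Set G) := by
      intro x hx
      rw [Subgroup.mem_centralizer_singleton_iff]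
      exact hyD x hx
    have hDCp : IsPGroup p (D.subgroupOf (Subgroup.centralizer ({(y : G)} : Set G))) :=
      hDp.comap_subtype
    obtain ⟨S', hS'⟩ := hDCp.exists_le_sylow
    refine ⟨S', ?_⟩
    set T : Subgroup G := (S' : Subgroup (Subgroup.centralizer ({(y : G)} : Set G))).map
      (Subgroup.centralizer ({(y : G)} : Set G)).subtype with hT
    have hTp : IsPGroup p T := S'.isPGroup'.map _
    have hDT : D ≤ T := by
      intro x hx
      rw [hT, Subgroup.mem_map]
      exact ⟨⟨x, hDC hx⟩, hS' (Subgroup.mem_subgroupOf.mpr hx), rfl⟩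
    have hTC : T ≤ Subgroup.centralizer ({(y : G)} : Set G) := by
      rw [hT]
      exact Subgroup.map_subtype_le _
    by_contra hne
    obtain ⟨x, hxT, hxN, hxD⟩ := exists_normalizing_of_lt p D T hTp hDT (Ne.symm hne)
    set E : Subgroup H := (T ⊓ H).subgroupOf H with hE
    have hEp : IsPGroup p E := (hTp.to_le inf_le_left).comap_subtype
    have hEcent : E ≤ Subgroup.centralizer ({y} : Set H) := by
      intro s hs
      rw [Subgroup.mem_centralizer_singleton_iff]
      have h1 : (s : G) ∈ Subgroup.centralizer ({(y : G)} : Set G) :=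
        hTC (Subgroup.mem_subgroupOf.mp hs).1
      rw [Subgroup.mem_centralizer_singleton_iff] at h1
      exact Subtype.ext (by simpa using h1)
    obtain ⟨j, hj⟩ := IsPGroup.iff_card.mp hEp
    have h1 : p ^ j ∣ Nat.card (Subgroup.centralizer ({y} : Set H)) := by
      rw [← hj]
      exact Subgroup.card_dvd_of_le hEcent
    have h2 : j ≤ blockDefect p c := by
      rw [← hyν]
      exact (hp.pow_dvd_iff_le_factorization Nat.card_pos.ne').mp h1
    have hDE : D.subgroupOf H ≤ E := by
      intro s hs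
      rw [hE, Subgroup.mem_subgroupOf]
      exact ⟨hDT (Subgroup.mem_subgroupOf.mp hs), s.2⟩
    have h3 : Nat.card E ≤ Nat.card (D.subgroupOf H) := by
      rw [hj, hcardD]
      exact Nat.pow_le_pow_right hp.pos h2
    have h4 := Subgroup.eq_of_le_of_card_ge hDE h3
    apply hxD
    have h5 : (⟨x, hxN⟩ : H) ∈ E := by
      rw [hE, Subgroup.mem_subgroupOf]
      exact ⟨hxT, hxN⟩
    rw [← h4] at h5
    exact Subgroup.mem_subgroupOf.mp h5
  · have hmemI : ∀ x, x ∈ (P : Subgroup G) ⊓
        (P : Subgroup G).map (MulAut.conj (y : G)).toMonoidHom ↔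
        x ∈ (P : Subgroup G) ∧ (y : G)⁻¹ * x * (y : G) ∈ (P : Subgroup G) := by
      intro x
      rw [Subgroup.mem_inf, Subgroup.mem_map_equiv]
      simp
    have hDI : D ≤ (P : Subgroup G) ⊓ (P : Subgroup G).map (MulAut.conj (y : G)).toMonoidHom := by
      intro x hx
      rw [hmemI]
      refine ⟨hDP hx, ?_⟩
      have h1 : (y : G)⁻¹ * x * (y : G) = x := by
        have h2 := hyD x hx
        calc (y : G)⁻¹ * x * (y : G) = (y : G)⁻¹ * (x * (y : G)) := by group
          _ = (y : G)⁻¹ * ((y : G) * x) := by rw [h2]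
          _ = x := by group
      rw [h1]
      exact hDP hx
    have hIp : IsPGroup p ((P : Subgroup G) ⊓
        (P : Subgroup G).map (MulAut.conj (y : G)).toMonoidHom : Subgroup G) :=
      P.isPGroup'.to_le inf_le_left
    by_contra hne
    obtain ⟨x, hxI, hxN, hxD⟩ := exists_normalizing_of_lt p D _ hIp hDI (Ne.symm hne)
    rw [hmemI] at hxI
    exact hxD (hkey x hxN hxI.1 hxI.2)

end Cfsg.Agent.S0956
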