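import Cfsg.Statements.S0957
import Cfsg.Agent.Lib.helper21.Orbits
import Mathlib

set_option autoImplicit false
open Cfsg

namespace Cfsg.Agent.S0957

open MulAction Cfsg.Agent.Lib.helper21

/-- Let P be a Sylow p-subgroup of the finite group G, let g, h ∈ G and let p ^ d be the order of a Sylow p-subgroup of the centralizer of g. Then the number of pairs (y, z) with y conjugate to g, z conjugate to h and z * y⁻¹ ∈ P is divisible by the order of P divided by p ^ d. -/
theorem result {G : Type*} [Group G] [Finite G] (p : ℕ) [Fact p.Prime] (P : Sylow p G) (g h : G) (S : Sylow p (Subgroup.centralizer ({g} : Set G))) : Nat.card P / Nat.card S ∣ Nat.card {yz : G × G // IsConj g yz.1 ∧ IsConj h yz.2 ∧ yz.2 * yz.1⁻¹ ∈ (P : Subgroup G)} := by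
  classical
  have hp : p.Prime := Fact.out
  let act : MulAction (P : Subgroup G)
      {yz : G × G // IsConj g yz.1 ∧ IsConj h yz.2 ∧ yz.2 * yz.1⁻¹ ∈ (P : Subgroup G)} :=
    { smul := fun u x => ⟨((u : G) * x.1.1 * (u : G)⁻¹, (u : G) * x.1.2 * (u : G)⁻¹),
        x.2.1.trans (isConj_iff.mpr ⟨u, rfl⟩), x.2.2.1.trans (isConj_iff.mpr ⟨u, rfl⟩), by
          have h1 : (u : G) * x.1.2 * (u : G)⁻¹ * ((u : G) * x.1.1 * (u : G)⁻¹)⁻¹
              = (u : G) * (x.1.2 * x.1.1⁻¹) * (u : G)⁻¹ := by group
          show (u : G) * x.1.2 * (u : G)⁻¹ * ((u : G) * x.1.1 * (u : G)⁻¹)⁻¹ ∈ (P : Subgroup G)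
          rw [h1]
          exact mul_mem (mul_mem u.2 x.2.2.2) (inv_mem u.2)⟩
      one_smul := fun x => by
        apply Subtype.ext
        show (((1 : (P : Subgroup G)) : G) * x.1.1 * ((1 : (P : Subgroup G)) : G)⁻¹,
          ((1 : (P : Subgroup G)) : G) * x.1.2 * ((1 : (P : Subgroup G)) : G)⁻¹) = x.1
        simp
      mul_smul := fun u v x => by
        apply Subtype.ext
        show (((u * v : (P : Subgroup G)) : G) * x.1.1 * ((u * v : (P : Subgroup G)) : G)⁻¹,
          ((u * v : (P : Subgroup G)) : G) * x.1.2 * ((u * v : (P : Subgroup G)) : G)⁻¹)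
          = ((u : G) * ((v : G) * x.1.1 * (v : G)⁻¹) * (u : G)⁻¹,
            (u : G) * ((v : G) * x.1.2 * (v : G)⁻¹) * (u : G)⁻¹)
        simp [mul_assoc] }
  have hsmul : ∀ (u : (P : Subgroup G))
      (x : {yz : G × G // IsConj g yz.1 ∧ IsConj h yz.2 ∧ yz.2 * yz.1⁻¹ ∈ (P : Subgroup G)}),
      (u • x).1.1 = (u : G) * x.1.1 * (u : G)⁻¹ := fun u x => rfl
  apply dvd_card_of_dvd_card_orbit (H := (P : Subgroup G))
  intro x
  rw [Nat.card_coe_set_eq, ← index_stabilizer]
  -- the stabilizer is a p-group whose order divides the order of the centralizer of g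
  set St := stabilizer (P : Subgroup G) x with hSt
  obtain ⟨c, hc⟩ := isConj_iff.mp x.2.1
  -- image of the stabilizer in G, conjugated into the centralizer of g
  set T : Subgroup G := (St.map (P : Subgroup G).subtype).map (MulAut.conj c⁻¹).toMonoidHom with hT
  have hTcard : Nat.card T = Nat.card St := by
    rw [hT, Subgroup.card_map_of_injective (MulAut.conj c⁻¹).injective,
      Subgroup.card_map_of_injective (Subgroup.subtype_injective _)]
  have hTle : T ≤ Subgroup.centralizer ({g} : Set G) := by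
    rintro t ⟨s, ⟨u, hu, rfl⟩, rfl⟩
    rw [Subgroup.mem_centralizer_singleton_iff]
    have h1 : (u • x).1.1 = x.1.1 := by
      have : u • x = x := hu
      rw [this]
    rw [hsmul] at h1
    simp only [Subgroup.coe_subtype, MulEquiv.coe_toMonoidHom, MulAut.conj_apply, inv_inv]
    rw [← hc] at h1
    have h2 : (u : G) * (c * g * c⁻¹) = (c * g * c⁻¹) * (u : G) := by
      calc (u : G) * (c * g * c⁻¹) = ((u : G) * (c * g * c⁻¹) * (u : G)⁻¹) * u := by group
        _ = (c * g * c⁻¹) * (u : G) := by rw [h1]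
    calc c⁻¹ * ↑u * c * g = c⁻¹ * ((u : G) * (c * g * c⁻¹)) * c := by group
      _ = c⁻¹ * ((c * g * c⁻¹) * (u : G)) * c := by rw [h2]
      _ = g * (c⁻¹ * ↑u * c) := by group
  have hdvdC : Nat.card St ∣ Nat.card (Subgroup.centralizer ({g} : Set G)) := by
    rw [← hTcard]; exact Subgroup.card_dvd_of_le hTle
  obtain ⟨n, hn⟩ := P.2.exists_card_eq
  have hdvdP : Nat.card St ∣ p ^ n := by
    rw [← hn]; exact Subgroup.card_subgroup_dvd_card St
  obtain ⟨a, han, ha⟩ := (Nat.dvd_prime_pow hp).mp hdvdP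
  have hScard : Nat.card S = p ^ (Nat.card (Subgroup.centralizer ({g} : Set G))).factorization p :=
    S.card_eq_multiplicity
  set d := (Nat.card (Subgroup.centralizer ({g} : Set G))).factorization p with hd
  have had : a ≤ d := by
    rw [ha] at hdvdC
    exact (hp.pow_dvd_iff_le_factorization Nat.card_pos.ne').mp hdvdC
  have hdn : d ≤ n := by
    have h1 : p ^ d ∣ Nat.card G := by
      rw [← hScard]
      exact (Subgroup.card_subgroup_dvd_card _).trans (Subgroup.card_subgroup_dvd_card _)
    have h2 : d ≤ (Nat.card G).factorization p :=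
      (hp.pow_dvd_iff_le_factorization Nat.card_pos.ne').mp h1
    have h3 : Nat.card P = p ^ (Nat.card G).factorization p := P.card_eq_multiplicity
    rw [hn] at h3
    have := Nat.pow_right_injective hp.two_le h3
    omega
  have hidx : St.index * p ^ a = p ^ n := by
    rw [← ha, ← hn]; exact Subgroup.index_mul_card St
  have hidx' : St.index = p ^ (n - a) := by
    have h1 : p ^ n = p ^ (n - a) * p ^ a := by rw [← pow_add]; congr 1; omega
    rw [h1] at hidx
    exact Nat.eq_of_mul_eq_mul_right (pow_pos hp.pos a) hidx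
  rw [hidx', hn, hScard, Nat.pow_div hdn hp.pos]
  exact pow_dvd_pow p (by omega)

end Cfsg.Agent.S0957
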