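import Cfsg.Statements.S0958
import Cfsg.Agent.Lib.helper80.FMT2
import Cfsg.Agent.Lib.helper80.InducedBr

set_option autoImplicit false
open Cfsg

namespace Cfsg.Agent.S0958

open Cfsg.Agent.Lib.helper80 Cfsg.Agent.Lib.helper20

/-- Let P be a p-subgroup of the finite group G and H a subgroup with P ⊔ C_G(P) ≤ H ≤ N_G(P); fix a maximal ideal M of the algebraic integers containing p. Then a block B of G is induced by some block of H if and only if some conjugate of P is contained in a defect group of B. -/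
theorem result {G : Type*} [Group G] [Finite G] (p : ℕ) [Fact p.Prime] (M : Ideal Cfsg.AlgInt) (hM : Cfsg.IsPModular p M) (P H : Subgroup G) (hP : IsPGroup p P) (hPH : P ⊔ Subgroup.centralizer (P : Set G) ≤ H) (hHN : H ≤ Subgroup.normalizer (P : Set G)) (B : Set (Cfsg.IrrCharacter G)) (hB : Cfsg.IsPBlock M B) : (∃ b : Set (Cfsg.IrrCharacter H), Cfsg.IsInducedBlock M H b B) ↔ ∃ D : Subgroup G, Cfsg.IsDefectGroup p M B D ∧ ∃ x : G, P.map (MulAut.conj x).toMonoidHom ≤ D := by
  classical
  have := Fintype.ofFinite G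
  have : Fintype H := Fintype.ofFinite _
  have hMp := isPrime_of_isPModular hM
  have hPH' : P ≤ H := le_trans le_sup_left hPH
  have hCH : Subgroup.centralizer (P : Set G) ≤ H := le_trans le_sup_right hPH
  constructor
  · rintro ⟨b, hb⟩
    have hbb : IsPBlock M b := hb.1
    have h1 := (isInducedBlock_iff_brInd hM P H hP hPH' hCH hHN hbb hB).mp hb
    obtain ⟨ξ, hξ⟩ := isPBlock_nonempty hMp hbb
    obtain ⟨χ, hχ⟩ := isPBlock_nonempty hMp hB
    obtain ⟨D, hD⟩ := exists_isDefectGroup p hMp hB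
    obtain ⟨x, hx⟩ := BrInd.le_defect hM hP hHN (h1 ξ hξ χ hχ) hB hχ hD
    refine ⟨D, hD, x⁻¹, ?_⟩
    intro y hy
    rw [mem_map_conj] at hy
    have := hx _ hy
    rw [inv_inv] at hy
    have h2 : x⁻¹ * (x⁻¹⁻¹ * y * x⁻¹) * x = y := by group
    rw [h2] at this
    exact this
  · rintro ⟨D, hD, x, hx⟩
    obtain ⟨g, hg, hs⟩ := hD
    have hgD : ∀ d ∈ D, g * d = d * g := fun d hd =>
      mem_centralizer_singleton.mp (IsSylowCent.le hs hd)
    have hc₀ : x⁻¹ * g * x ∈ Subgroup.centralizer (P : Set G) := by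
      rw [Subgroup.mem_centralizer_iff]
      intro q hq
      have hq' : x * q * x⁻¹ ∈ D := by
        apply hx
        rw [mem_map_conj]
        have : x⁻¹ * (x * q * x⁻¹) * x = q := by group
        rw [this]
        exact hq
      have h3 := hgD _ hq'
      calc q * (x⁻¹ * g * x) = x⁻¹ * ((x * q * x⁻¹) * g) * x := by group
        _ = x⁻¹ * (g * (x * q * x⁻¹)) * x := by rw [h3]
        _ = x⁻¹ * g * x * q := by group
    have hec : ¬ MemLocalIdeal M (blockCoeff B (x⁻¹ * g * x)) := by
      have h4 : blockCoeff B (x⁻¹ * g * x) = blockCoeff B g := by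
        have := blockCoeff_classFun B g x⁻¹
        rw [inv_inv] at this
        exact this
      rw [h4]
      exact hg.2.1
    obtain ⟨θ, χ, hχ, hbr⟩ := exists_brInd_of_blockCoeff hM P H hP hCH hHN hB _ hc₀ hec
    refine ⟨blockOf M (θ : H → ℂ), ?_⟩
    rw [isInducedBlock_iff_brInd hM P H hP hPH' hCH hHN (isPBlock_blockOf M θ) hB]
    intro ξ hξ χ' hχ'
    exact BrInd.congr_right hMp (BrInd.congr_left hMp hHN hbr hξ) (sameBlock_of_mem hMp hB hχ hχ')

end Cfsg.Agent.S0958
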