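import Cfsg.Statements.S0959
import Cfsg.Agent.Lib.helper80.DefectGroup

set_option autoImplicit false
open Cfsg

namespace Cfsg.Agent.S0959

open Cfsg.Agent.Lib.helper80 Cfsg.Agent.Lib.helper20

/-- Let B be a block of the finite group G with defect group D (relative to a maximal ideal M of the algebraic integers containing the prime p), and let P be a p-subgroup. Then there is an element g whose idempotent coefficient for B is a local integer outside the local ideal at M and which has a conjugate centralizing P, if and only if some conjugate of P is contained in D. -/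
theorem result {G : Type*} [Group G] [Finite G] (p : ℕ) [Fact p.Prime] (M : Ideal Cfsg.AlgInt) (hM : Cfsg.IsPModular p M) (B : Set (Cfsg.IrrCharacter G)) (hB : Cfsg.IsPBlock M B) (D : Subgroup G) (hD : Cfsg.IsDefectGroup p M B D) (P : Subgroup G) (hP : IsPGroup p P) : (∃ g : G, Cfsg.MemLocalRing M (Cfsg.blockCoeff B g) ∧ ¬ Cfsg.MemLocalIdeal M (Cfsg.blockCoeff B g) ∧ ∃ c : G, IsConj g c ∧ c ∈ Subgroup.centralizer (P : Set G)) ↔ ∃ x : G, P.map (MulAut.conj x).toMonoidHom ≤ D := by
  classical
  have := Fintype.ofFinite G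
  constructor
  · rintro ⟨g, _, hgJ, c, hconj, hc⟩
    obtain ⟨y, rfl⟩ := isConj_iff.mp hconj
    have hec : ¬ Cfsg.MemLocalIdeal M (Cfsg.blockCoeff B (y * g * y⁻¹)) := by
      rw [Cfsg.Agent.Lib.helper81.blockCoeff_conj]
      exact hgJ
    obtain ⟨x, hx⟩ := IsDefectGroup.exists_conj_mem hM hB hD P hP _ hc hec
    refine ⟨x⁻¹, ?_⟩
    intro q hq
    rw [mem_map_conj, inv_inv] at hq
    have := hx _ hq
    have h2 : x⁻¹ * (x * q * x⁻¹) * x = q := by group
    rwa [h2] at this
  · rintro ⟨x, hx⟩
    obtain ⟨g, hg, hs⟩ := hD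
    refine ⟨g, hg.1, hg.2.1, x⁻¹ * g * x, ?_, ?_⟩
    · exact isConj_iff.mpr ⟨x⁻¹, by rw [inv_inv]⟩
    · rw [Subgroup.mem_centralizer_iff]
      intro q hq
      have h1 : x * q * x⁻¹ ∈ D := by
        apply hx
        rw [mem_map_conj]
        have h2 : x⁻¹ * (x * q * x⁻¹) * x = q := by group
        rw [h2]
        exact hq
      have h3 := IsSylowCent.le hs h1
      rw [mem_centralizer_singleton] at h3
      calc q * (x⁻¹ * g * x) = x⁻¹ * (x * q * x⁻¹ * g) * x := by group
        _ = x⁻¹ * (g * (x * q * x⁻¹)) * x := by rw [h3]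
        _ = x⁻¹ * g * x * q := by group

end Cfsg.Agent.S0959
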