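import Mathlib
import Cfsg.Statements.S0961
import Cfsg.Agent.Lib.helper4.BrauerInd
import Cfsg.Agent.Lib.helper19.IndInv
import Cfsg.Agent.Lib.helper40.PComp

set_option autoImplicit false
open Cfsg

namespace Cfsg.Agent.S0961

open Cfsg.Agent.Lib.helper4

theorem mem_of_pow_mem_of_coprime {E : Type*} [Group E] [Finite E] {H : Subgroup E} {y : E} {n : ℕ}
    (h : y ^ n ∈ H) (hc : n.Coprime (orderOf y)) : y ∈ H := by
  obtain ⟨m, hm⟩ := exists_pow_eq_self_of_coprime hc
  rw [← hm]
  exact H.pow_mem h m

/-- In a `q`-elementary group the `p`-regular elements form a normal subgroup of `p`-power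
index. -/
theorem exists_pRegular_subgroup {E : Type*} [Group E] [Finite E] (p q : ℕ) [hp : Fact p.Prime]
    (hq : q.Prime) (hE : Cfsg.IsElementary q E) :
    ∃ K : Subgroup E, K.Normal ∧ (∀ y : E, y ∈ K ↔ ¬ p ∣ orderOf y) ∧ ∃ j : ℕ, K.index = p ^ j := by
  obtain ⟨x, hxc, hxq, k, hk⟩ := hE
  have hle : Subgroup.zpowers x ≤ Subgroup.center E := Subgroup.zpowers_le.mpr hxc
  have hnorm : (Subgroup.zpowers x).Normal := by
    refine ⟨fun n hn g => ?_⟩
    have hc := Subgroup.mem_center_iff.mp (hle hn) g
    have : g * n * g⁻¹ = n := by rw [hc, mul_inv_cancel_right]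
    rw [this]; exact hn
  have hpow : ∀ y : E, y ^ (q ^ k) ∈ Subgroup.zpowers x := by
    intro y
    rw [← hk]
    exact Subgroup.pow_index_mem _ y
  by_cases hpq : q = p
  · subst hpq
    refine ⟨Subgroup.zpowers x, hnorm, fun y => ⟨fun hy hdvd => ?_, fun hy => ?_⟩, k, hk⟩
    · have h1 : orderOf y ∣ orderOf x := by
        rw [← Nat.card_zpowers x]
        have := Subgroup.orderOf_dvd_natCard (Subgroup.zpowers x) hy
        exact this
      have h2 : q ∣ orderOf x := hdvd.trans h1
      have h3 := Nat.Coprime.eq_one_of_dvd hxq.symm h2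
      exact hq.one_lt.ne' h3
    · refine mem_of_pow_mem_of_coprime (hpow y) ?_
      exact Nat.Coprime.pow_left k ((Nat.Prime.coprime_iff_not_dvd hq).mpr hy)
  · have P : Sylow p E := default
    have hPc : (P : Subgroup E) ≤ Subgroup.center E := by
      intro u hu
      refine hle (mem_of_pow_mem_of_coprime (hpow u) ?_)
      obtain ⟨m, hm⟩ := (IsPGroup.iff_orderOf.mp P.isPGroup') ⟨u, hu⟩
      have hou : orderOf u = p ^ m := by
        rw [← hm]; exact (Subgroup.orderOf_mk u hu).symm
      rw [hou]
      exact Nat.Coprime.pow k m ((Nat.coprime_primes hq hp.out).mpr hpq)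
    obtain ⟨K, hKn, hK, hcompl⟩ := Cfsg.Agent.Lib.helper40.central_sylow_pprime_subgroup P hPc
    refine ⟨K, hKn, fun y => ?_, ?_⟩
    · rw [hK]
      exact (Nat.coprime_comm.trans (Nat.Prime.coprime_iff_not_dvd hp.out))
    · obtain ⟨j, hj⟩ := IsPGroup.iff_card.mp P.isPGroup'
      exact ⟨j, by rw [← hj]; exact hcompl.symm.index_eq_card⟩

/-- Let χ be an irreducible character of the finite group G and let p ^ a be the largest power of the prime p dividing the order of G. Then the function equal to p ^ a * χ x at elements x of order prime to p and to 0 elsewhere is a generalized character (a difference of characters). -/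
theorem result {G : Type*} [Group G] [Finite G] (p : ℕ) [Fact p.Prime] (χ : Cfsg.IrrCharacter G) : Cfsg.IsGeneralizedCharacter G (fun x : G => if p ∣ orderOf x then 0 else ((p ^ (Nat.card G).factorization p : ℕ) : ℂ) * (χ : G → ℂ) x) := by
  classical
  have hχcf : Cfsg.IsClassFunction G (χ : G → ℂ) := isClassFunction_of_isIrrCharacter χ.2
  apply brauer_characterization
  · intro g h
    have ho : orderOf (h * g * h⁻¹) = orderOf g :=
      orderOf_injective (MulAut.conj h).toMonoidHom (MulAut.conj h).injective g
    simp only [ho, hχcf g h]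
  · intro E q hq hE
    haveI := Fintype.ofFinite E
    obtain ⟨K, hKn, hK, j, hj⟩ := exists_pRegular_subgroup p q hq hE
    have hja : j ≤ (Nat.card G).factorization p := by
      have h1 : p ^ j ∣ Nat.card G := by
        rw [← hj]; exact (K.index_dvd_card).trans (Subgroup.card_subgroup_dvd_card E)
      exact (Nat.Prime.pow_dvd_iff_le_factorization (Fact.out) (Nat.card_pos.ne')).mp h1
    have hψ : Cfsg.IsCharacter K (fun y : K => (χ : G → ℂ) ((y : E) : G)) :=
      isCharacter_comp (E.subtype.comp K.subtype) (isCharacter_of_isIrrCharacter χ.2)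
    have hind : Cfsg.IsCharacter E (Cfsg.indFun K (fun y : K => (χ : G → ℂ) ((y : E) : G))) :=
      isCharacter_indFun K hψ
    have hgen := isGeneralizedCharacter_nsmul (p ^ ((Nat.card G).factorization p - j))
      (isGeneralizedCharacter_of_isCharacter hind)
    convert hgen using 1
    funext e
    simp only [Pi.smul_apply, nsmul_eq_mul]
    by_cases he : e ∈ K
    · have hnd : ¬ p ∣ orderOf (e : G) := by
        rw [Subgroup.orderOf_coe]; exact (hK e).mp he
      rw [if_neg hnd]
      have h2 := Cfsg.Agent.Lib.helper19.indFun_invariant_apply K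
        (fun y : K => (χ : G → ℂ) ((y : E) : G)) (fun g n => hχcf _ _) ⟨e, he⟩
      rw [h2, hj]
      push_cast
      rw [← mul_assoc, ← pow_add, Nat.sub_add_cancel hja]
    · have hd : p ∣ orderOf (e : G) := by
        rw [Subgroup.orderOf_coe]; by_contra h; exact he ((hK e).mpr h)
      rw [if_pos hd, Cfsg.Agent.Lib.helper19.indFun_normal_of_not_mem K _ e he, mul_zero]

end Cfsg.Agent.S0961
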