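import Cfsg.Statements.S0962
import Cfsg.Agent.Lib.helper84.MinMax

set_option autoImplicit false
open Cfsg

namespace Cfsg.Agent.S0962

open Cfsg.Agent.Lib.helper84 Cfsg.Agent.Lib.helper81 Cfsg.Agent.Lib.helper80
  Cfsg.Agent.Lib.helper20

/-- Fix a maximal ideal M of the algebraic integers containing the prime p and a natural number d. The number of blocks of the finite group G of defect at least d is at most the number of conjugacy classes of p-regular elements of G of defect at least d, where the defect of a class is the exponent of p in the order of the centralizer of any of its elements. -/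
theorem result {G : Type*} [Group G] [Finite G] (p : ℕ) [Fact p.Prime] (M : Ideal Cfsg.AlgInt) (hM : Cfsg.IsPModular p M) (d : ℕ) : Nat.card {B : Set (Cfsg.IrrCharacter G) // Cfsg.IsPBlock M B ∧ d ≤ Cfsg.blockDefect p B} ≤ Nat.card {C : ConjClasses G // ∃ g : G, ConjClasses.mk g = C ∧ Cfsg.IsPRegular p g ∧ d ≤ (Nat.card (Subgroup.centralizer ({g} : Set G))).factorization p} := by
  classical
  have : Fintype G := Fintype.ofFinite G
  have hMp := isPrime_of_isPModular hM
  apply card_blocks_le_card_classes hM (fun B => d ≤ blockDefect p B)
    (fun C => ∃ g : G, ConjClasses.mk g = C ∧ Cfsg.IsPRegular p g ∧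
      d ≤ (Nat.card (Subgroup.centralizer ({g} : Set G))).factorization p)
  intro B B' hB hBd hB' hB'd c hc χ' hχ'
  simp only [not_exists, not_and] at hc
  have hc' := hc (Quotient.out c) (Quotient.out_eq c)
  by_cases hreg : IsPRegular p (Quotient.out c)
  · have hlt := hc' hreg
    have h1 : MemLocalIdeal M (centralChar (χ' : G → ℂ) (Quotient.out c)) :=
      memLocalIdeal_centralChar_of_lt_defect hM hB' hχ' _ (by omega)
    exact memLocalIdeal_mul_left hMp (memLocalRing_blockCoeff hMp hB _) h1
  · have h0 : blockCoeff B (Quotient.out c) = 0 := by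
      apply blockCoeff_eq_zero_of_dvd_orderOf hM hB
      unfold IsPRegular at hreg
      simpa using hreg
    rw [h0, zero_mul]
    exact memLocalIdeal_zero hMp

end Cfsg.Agent.S0962
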