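import Mathlib
import Cfsg.Statements.S0967
import Cfsg.Agent.Lib.helper20.GoodLift
import Cfsg.Agent.Lib.helper20.NormalIdem
import Cfsg.Agent.Lib.helper20.CentralChar
import Cfsg.Agent.Lib.helper82.CharQuot
import Cfsg.Agent.Lib.helper81.Blocks

set_option autoImplicit false
open Cfsg

namespace Cfsg.Agent.S0967

open Cfsg.Agent.Lib.helper20
open Cfsg.Agent.Lib.helper81 (irr_one_ne_zero irr_conjInv)

/-- Let N be a normal subgroup of the finite group G of order prime to p and fix a maximal ideal M of the algebraic integers containing p. If χ is an irreducible character of G ⧸ N and ψ lies in the block of its inflation χ ∘ (quotient map), then ψ is itself inflated from an irreducible character ψ' of G ⧸ N lying in the block of χ. (Over a normal p'-subgroup, blocks of the quotient are whole blocks of G.) -/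
theorem result {G : Type*} [Group G] [Finite G] (p : ℕ) [Fact p.Prime] (M : Ideal Cfsg.AlgInt) (hM : Cfsg.IsPModular p M) (N : Subgroup G) [N.Normal] (hN : ¬ p ∣ Nat.card N) (χ : Cfsg.IrrCharacter (G ⧸ N)) (ψ : Cfsg.IrrCharacter G) (hψ : ψ ∈ Cfsg.blockOf M ((χ : G ⧸ N → ℂ) ∘ QuotientGroup.mk)) : ∃ ψ' : Cfsg.IrrCharacter (G ⧸ N), (ψ : G → ℂ) = (ψ' : G ⧸ N → ℂ) ∘ QuotientGroup.mk ∧ Cfsg.SameBlock M (χ : G ⧸ N → ℂ) (ψ' : G ⧸ N → ℂ) := by
  classical
  haveI : Fintype G := Fintype.ofFinite G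
  have hpp : p.Prime := Fact.out
  have hMp : M.IsPrime := hM.2.1.isPrime
  have hcop : (Nat.card N).Coprime p := ((Nat.Prime.coprime_iff_not_dvd hpp).2 hN).symm
  -- the inflation
  obtain ⟨χt, hχt⟩ : ∃ χt : G → ℂ, χt = (χ : G ⧸ N → ℂ) ∘ QuotientGroup.mk := ⟨_, rfl⟩
  have hχt_apply : ∀ g : G, χt g = (χ : G ⧸ N → ℂ) (g : G ⧸ N) := fun g => by rw [hχt]; rfl
  have hχt_irr : IsIrrCharacter G χt := by
    rw [hχt]
    exact Cfsg.Agent.Lib.helper82.isIrrCharacter_inflation N χ.2
  have hχt_cf : ∀ x y : G, IsConj x y → χt x = χt y := isIrrCharacter_conj hχt_irr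
  have hχt1 : χt 1 ≠ 0 := by
    rw [hχt_apply]
    exact irr_one_ne_zero χ
  have hsame : SameBlock M χt (ψ : G → ℂ) := by rw [hχt]; exact hψ
  -- step 1: N lies in the kernel of ψ
  have h1 : omega χt (normIdem N) = 1 := by
    apply omega_normIdem_of_ker N χt hχt1
    intro n hn
    rw [hχt_apply, hχt_apply, (QuotientGroup.eq_one_iff n).2 hn, QuotientGroup.mk_one]
  have h2 := memLocalIdeal_omega_sub hMp χt (ψ : G → ℂ) hχt_cf (irr_conjInv ψ) hsame
    (normIdem N) (isCentralElt_normIdem N) (localCoeff_normIdem hM N hcop)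
  have h3 : omega (ψ : G → ℂ) (normIdem N) = 1 := by
    rcases omega_normIdem_eq_zero_or_one N (ψ : G → ℂ) ψ.2 with h | h
    · exfalso
      rw [h1, h, sub_zero] at h2
      exact not_memLocalIdeal_one h2
    · exact h
  have hker := eq_one_of_omega_normIdem N ψ h3
  -- step 2: deflation
  obtain ⟨ψ', hψ'irr, hψ'⟩ := Cfsg.Agent.Lib.helper82.isIrrCharacter_deflation N ψ.2 hker
  refine ⟨⟨ψ', hψ'irr⟩, ?_, ?_⟩
  · funext g
    exact (hψ' g).symm
  -- step 3: same block in the quotient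
  intro q
  obtain ⟨g, hg, r, hr, hidx⟩ := exists_lift_index_coprime p N hN q
  have hsg := hsame g
  have hrc : (r : ℂ) ≠ 0 := by
    intro h
    have : r = 0 := by exact_mod_cast h
    rw [this] at hr
    have := Nat.Coprime.eq_one_of_dvd hr.symm (dvd_zero p)
    exact hpp.one_lt.ne' this
  have e1 : centralChar χt g = (r : ℂ) * centralChar (χ : G ⧸ N → ℂ) q := by
    unfold centralChar
    rw [hidx, hχt_apply, hχt_apply, hg, QuotientGroup.mk_one]
    push_cast
    ring
  have e2 : centralChar (ψ : G → ℂ) g = (r : ℂ) * centralChar ψ' q := by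
    unfold centralChar
    rw [hidx, ← hψ' g, ← hψ' 1, hg, QuotientGroup.mk_one]
    push_cast
    ring
  rw [e1, e2] at hsg
  have e3 : centralChar (χ : G ⧸ N → ℂ) q - centralChar ψ' q
      = ((r : ℂ) * centralChar (χ : G ⧸ N → ℂ) q - (r : ℂ) * centralChar ψ' q) * (r : ℂ)⁻¹ := by
    field_simp
  show MemLocalIdeal M (centralChar (χ : G ⧸ N → ℂ) q - centralChar ψ' q)
  rw [e3]
  exact memLocalIdeal_mul_right hMp hsg (memLocalRing_inv_natCast hM hr)

end Cfsg.Agent.S0967
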