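import Mathlib
import Cfsg.Statements.S0971
import Cfsg.Agent.S0919
import Cfsg.Agent.Lib.helper20.CliffordCentral
import Cfsg.Agent.Lib.helper20.NilCentral
import Cfsg.Agent.Lib.helper81.Blocks

set_option autoImplicit false
open Cfsg

namespace Cfsg.Agent.S0971

open Cfsg.Agent.Lib.helper20
open Cfsg.Agent.Lib.helper81 (isPBlock_eq_of_mem mem_blockOf_self isPBlock_blockOf)

/-- Let Q be a normal p-subgroup of the finite group G, let N = Q ⊔ C_G(Q) (a normal subgroup) and let b be a block of N relative to a maximal ideal M of the algebraic integers containing p. Then b induces some block of G, and every block B of G containing a character whose restriction to N has a constituent in b is induced by b. -/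
theorem result {G : Type*} [Group G] [Fintype G] (p : ℕ) [Fact p.Prime] (M : Ideal Cfsg.AlgInt) (hM : Cfsg.IsPModular p M) (Q : Subgroup G) [Q.Normal] (hQ : IsPGroup p Q) [Fintype ↥(Q ⊔ Subgroup.centralizer (Q : Set G))] (b : Set (Cfsg.IrrCharacter ↥(Q ⊔ Subgroup.centralizer (Q : Set G)))) (hb : Cfsg.IsPBlock M b) : Cfsg.InducedBlockDefined M (Q ⊔ Subgroup.centralizer (Q : Set G)) b ∧ ∀ B : Set (Cfsg.IrrCharacter G), Cfsg.IsPBlock M B → (∃ χ ∈ B, ∃ θ ∈ b, Cfsg.classInner (fun n : ↥(Q ⊔ Subgroup.centralizer (Q : Set G)) => (χ : G → ℂ) n) (θ : ↥(Q ⊔ Subgroup.centralizer (Q : Set G)) → ℂ) ≠ 0) → Cfsg.IsInducedBlock M (Q ⊔ Subgroup.centralizer (Q : Set G)) b B := by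
  classical
  have hMp : M.IsPrime := hM.2.1.isPrime
  have hdef : Cfsg.InducedBlockDefined M (Q ⊔ Subgroup.centralizer (Q : Set G)) b := by
    apply Cfsg.Agent.S0919.result p M hM Q (Q ⊔ Subgroup.centralizer (Q : Set G)) hQ le_sup_left
      le_sup_right _ b hb
    rw [Subgroup.normalizer_eq_top]
    exact le_top
  refine ⟨hdef, ?_⟩
  intro B hB ⟨χ, hχ, θ, hθ, hne⟩
  obtain ⟨B', hb', hB', hcong'⟩ := hdef
  have hχB' : χ ∈ B' := by
    obtain ⟨χ₀, hχ₀⟩ := hB'
    have hχ₀mem : χ₀ ∈ B' := by rw [hχ₀]; exact mem_blockOf_self hMp χ₀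
    rw [hχ₀]
    intro g
    have h1 := hcong' θ hθ χ₀ hχ₀mem g
    have h2 : MemLocalIdeal M (inducedCentralChar (Q ⊔ Subgroup.centralizer (Q : Set G))
        (θ : ↥(Q ⊔ Subgroup.centralizer (Q : Set G)) → ℂ) g - centralChar (χ : G → ℂ) g) := by
      by_cases hg : g ∈ Q ⊔ Subgroup.centralizer (Q : Set G)
      · rw [inducedCentralChar_eq_centralChar_of_constituent _ χ θ hne g hg, sub_self]
        exact memLocalIdeal_zero hMp
      · rw [inducedCentralChar_eq_zero_of_not_mem _ _ g hg, zero_sub]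
        apply memLocalIdeal_neg
        apply memLocalIdeal_centralChar_of_not_mem_centralizer hM Q hQ (χ : G → ℂ) χ.2 g
        intro hgc
        exact hg ((le_sup_right : Subgroup.centralizer (Q : Set G) ≤ _) hgc)
    have := memLocalIdeal_sub hMp h2 h1
    have e : centralChar (χ₀ : G → ℂ) g - centralChar (χ : G → ℂ) g
        = (inducedCentralChar (Q ⊔ Subgroup.centralizer (Q : Set G))
            (θ : ↥(Q ⊔ Subgroup.centralizer (Q : Set G)) → ℂ) g - centralChar (χ : G → ℂ) g)
          - (inducedCentralChar (Q ⊔ Subgroup.centralizer (Q : Set G))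
            (θ : ↥(Q ⊔ Subgroup.centralizer (Q : Set G)) → ℂ) g - centralChar (χ₀ : G → ℂ) g) := by
      ring
    rw [e]
    exact this
  have hBB' : B = B' := isPBlock_eq_of_mem hMp hB hB' hχ hχB'
  rw [hBB']
  exact ⟨hb', hB', hcong'⟩

end Cfsg.Agent.S0971
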