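import Mathlib
import Cfsg.Statements.S0972
import Cfsg.Agent.Lib.helper20.Reynolds
import Cfsg.Agent.Lib.helper79.DefectDeg
import Cfsg.Agent.Lib.helper79.Contrib
import Cfsg.Agent.Lib.helper80.LocalInt

set_option autoImplicit false
open Cfsg

namespace Cfsg.Agent.S0972

open Cfsg.Agent.Lib
open scoped commutatorElement

/-- Let B be a block of the finite group G (relative to a maximal ideal M of the algebraic integers containing the prime p) with a defect group P that is normal in G. Then P is commutative if and only if every member of B has height zero. -/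
theorem result {G : Type*} [Group G] [Finite G] (p : ℕ) [Fact p.Prime] (M : Ideal Cfsg.AlgInt) (hM : Cfsg.IsPModular p M) (B : Set (Cfsg.IrrCharacter G)) (hB : Cfsg.IsPBlock M B) (P : Subgroup G) [P.Normal] (hP : Cfsg.IsDefectGroup p M B P) : (∀ a ∈ P, ∀ c ∈ P, a * c = c * a) ↔ ∀ χ ∈ B, Cfsg.blockHeight p B (χ : G → ℂ) = 0 := by
  classical
  haveI : Fintype G := Fintype.ofFinite G
  have hp : p.Prime := Fact.out
  have hcard : Nat.card P = p ^ blockDefect p B := helper79.card_eq_of_isDefectGroup hM hB hP
  have hGP : Nat.card G = Nat.card P * P.index := (Subgroup.card_mul_index P).symm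
  have hidx0 : P.index ≠ 0 := Subgroup.index_ne_zero_of_finite
  have hfac : (Nat.card G).factorization p = blockDefect p B + (P.index).factorization p := by
    rw [hGP, Nat.factorization_mul Nat.card_pos.ne' hidx0, hcard, Finsupp.add_apply,
      hp.factorization_pow]
    simp
  constructor
  · intro hab χ hχ
    obtain ⟨d, hd1, hdvd⟩ := helper82.ito_char P hab χ.2
    have hd : charDegree (χ : G → ℂ) = d := by
      have := helper81.irr_one_eq_charDegree χ
      rw [hd1] at this
      exact (Nat.cast_injective this).symm
    have hd0 : d ≠ 0 := by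
      intro h
      rw [h, Nat.cast_zero] at hd1
      exact helper81.irr_one_ne_zero χ hd1
    have hfd := helper79.factorization_add_defect (p := p) (B := B) hχ
    have hle : d.factorization p ≤ (P.index).factorization p :=
      (Nat.factorization_le_iff_dvd hd0 hidx0).2 hdvd p
    rw [hd] at hfd
    omega
  · intro hh
    by_contra hna
    push Not at hna
    obtain ⟨a, ha, c, hc, hac⟩ := hna
    have hK1 : (⁅P, P⁆ : Subgroup G) ≠ ⊥ := by
      intro h
      have hmem : ⁅a, c⁆ ∈ (⁅P, P⁆ : Subgroup G) := Subgroup.commutator_mem_commutator ha hc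
      rw [h, Subgroup.mem_bot] at hmem
      exact hac (commutatorElement_eq_one_iff_mul_comm.1 hmem)
    have hPp : IsPGroup p P := IsPGroup.of_card hcard
    have hKp : IsPGroup p (⁅P, P⁆ : Subgroup G) := hPp.to_le (Subgroup.commutator_le_left P P)
    obtain ⟨χ, hχB, hχsum⟩ :=
      helper20.exists_mem_block_sum_subgroup_eq_zero hM hB ⁅P, P⁆ hKp hK1
    obtain ⟨g, hgdc, Q, hQ⟩ := hP
    have hg : ∀ x ∈ P, x * g = g * x := by
      intro x hx
      rw [hQ] at hx
      obtain ⟨y, _, rfl⟩ := hx
      exact Subgroup.mem_centralizer_singleton_iff.1 y.2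
    obtain ⟨α, hα, hχg⟩ := helper20.exists_integral_mul_of_commutator P hPp g hg (χ : G → ℂ)
      (helper20.isCharacter_of_isIrrCharacter χ.2) hχsum
    apply hgdc.2.2 χ hχB
    have hdef := helper79.blockDefect_eq_of_isDefectClass hM hB g hgdc
    have hfd := helper79.factorization_add_defect (p := p) (B := B) hχB
    rw [hh χ hχB, add_zero] at hfd
    have hGC : Nat.card G = Nat.card (Subgroup.centralizer ({g} : Set G)) *
        (Subgroup.centralizer ({g} : Set G)).index := (Subgroup.card_mul_index _).symm
    have hCidx0 : (Subgroup.centralizer ({g} : Set G)).index ≠ 0 :=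
      Subgroup.index_ne_zero_of_finite
    have hfacC : (Nat.card G).factorization p =
        blockDefect p B + ((Subgroup.centralizer ({g} : Set G)).index).factorization p := by
      rw [hdef]
      conv_lhs => rw [hGC]
      rw [Nat.factorization_mul Nat.card_pos.ne' hCidx0, Finsupp.add_apply]
    have heq : (charDegree (χ : G → ℂ)).factorization p =
        ((Subgroup.centralizer ({g} : Set G)).index).factorization p := by omega
    have hdeg0 : charDegree (χ : G → ℂ) ≠ 0 := by
      intro h
      have := helper81.irr_one_eq_charDegree χ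
      rw [h, Nat.cast_zero] at this
      exact helper81.irr_one_ne_zero χ this
    obtain ⟨e, m1, m2, hm1, hm1p, hm2⟩ : ∃ e m1 m2 : ℕ, charDegree (χ : G → ℂ) = p ^ e * m1 ∧
        ¬ p ∣ m1 ∧ (Subgroup.centralizer ({g} : Set G)).index = p ^ e * m2 := by
      refine ⟨(charDegree (χ : G → ℂ)).factorization p, _,
        (Subgroup.centralizer ({g} : Set G)).index /
          p ^ ((Subgroup.centralizer ({g} : Set G)).index).factorization p,
        (Nat.ordProj_mul_ordCompl_eq_self _ p).symm, Nat.not_dvd_ordCompl hp hdeg0, ?_⟩
      rw [heq]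
      exact (Nat.ordProj_mul_ordCompl_eq_self _ p).symm
    have hval : centralChar (χ : G → ℂ) g =
        (((p : AlgInt) * ((m2 : AlgInt) * (⟨α, hα⟩ : AlgInt)) : AlgInt) : ℂ) / (m1 : ℂ) := by
      unfold centralChar
      rw [hχg, helper81.irr_one_eq_charDegree, hm2, hm1]
      have hpe : ((p : ℂ) ^ e) ≠ 0 :=
        pow_ne_zero _ (Nat.cast_ne_zero.2 hp.ne_zero)
      have hm10 : (m1 : ℂ) ≠ 0 := by
        intro h
        apply hm1p
        rw [Nat.cast_eq_zero.1 h]
        exact dvd_zero p
      push_cast
      field_simp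
    rw [hval]
    exact helper80.memLocalIdeal_div_natCast hM (Ideal.mul_mem_right _ _ hM.2.2) hm1p

end Cfsg.Agent.S0972
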