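import Cfsg.Statements.S0973
import Cfsg.Agent.Lib.helper80.PairTop
import Cfsg.Agent.Lib.helper80.Cover2
import Cfsg.Agent.Lib.helper80.InducedBr

set_option autoImplicit false
open Cfsg

namespace Cfsg.Agent.S0973

open Cfsg.Agent.Lib.helper80 Cfsg.Agent.Lib.helper20

/-- Let B be a block of the finite group G with defect group P (relative to a maximal ideal M of the algebraic integers containing p), and let L = P ⊔ C_G(P). Then (i) some block b of L with defect group P (viewed in L) induces B, and (ii) if b and b' are blocks of L both inducing B, there is n ∈ N_G(P) carrying b to b': for every θ ∈ b there is θ' ∈ b' with θ' x = θ (n x n⁻¹) for all x ∈ L. -/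
theorem result {G : Type*} [Group G] [Finite G] (p : ℕ) [Fact p.Prime] (M : Ideal Cfsg.AlgInt) (hM : Cfsg.IsPModular p M) (B : Set (Cfsg.IrrCharacter G)) (hB : Cfsg.IsPBlock M B) (P : Subgroup G) (hP : Cfsg.IsDefectGroup p M B P) : (∃ b : Set (Cfsg.IrrCharacter ↥(P ⊔ Subgroup.centralizer (P : Set G))), Cfsg.IsDefectGroup p M b (P.subgroupOf (P ⊔ Subgroup.centralizer (P : Set G))) ∧ Cfsg.IsInducedBlock M (P ⊔ Subgroup.centralizer (P : Set G)) b B) ∧ ∀ b b' : Set (Cfsg.IrrCharacter ↥(P ⊔ Subgroup.centralizer (P : Set G))), Cfsg.IsInducedBlock M (P ⊔ Subgroup.centralizer (P : Set G)) b B → Cfsg.IsInducedBlock M (P ⊔ Subgroup.centralizer (P : Set G)) b' B → ∃ n ∈ Subgroup.normalizer (P : Set G), ∀ θ ∈ b, ∃ θ' ∈ b', ∀ x : ↥(P ⊔ Subgroup.centralizer (P : Set G)), ∀ hx : n * (x : G) * n⁻¹ ∈ P ⊔ Subgroup.centralizer (P : Set G), (θ' : ↥(P ⊔ Subgroup.centralizer (P : Set G)) → ℂ) x = (θ : ↥(P ⊔ Subgroup.centralizer (P : Set G)) → ℂ) ⟨n * (x : G) * n⁻¹, hx⟩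 := by
  classical
  have := Fintype.ofFinite G
  have : Fintype ↥(P ⊔ Subgroup.centralizer (P : Set G)) := Fintype.ofFinite _
  have : Fintype (Subgroup.centralizer (P : Set G)) := Fintype.ofFinite _
  have : Fintype (Subgroup.normalizer (P : Set G)) := Fintype.ofFinite _
  have hMp := isPrime_of_isPModular hM
  have hPp : IsPGroup p P := IsDefectGroup.isPGroup hP
  have hPL : P ≤ P ⊔ Subgroup.centralizer (P : Set G) := le_sup_left
  have hCL : Subgroup.centralizer (P : Set G) ≤ P ⊔ Subgroup.centralizer (P : Set G) :=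
    le_sup_right
  have hLN : P ⊔ Subgroup.centralizer (P : Set G) ≤ Subgroup.normalizer (P : Set G) :=
    sup_le Subgroup.le_normalizer (Subgroup.centralizer_le_normalizer _)
  constructor
  · have hP' := hP
    obtain ⟨g, hg, hs⟩ := hP'
    have hgC : g ∈ Subgroup.centralizer (P : Set G) := by
      rw [Subgroup.mem_centralizer_iff]
      intro u hu
      have := IsSylowCent.le hs hu
      rw [mem_centralizer_singleton] at this
      exact this.symm
    obtain ⟨θ, χ, hχ, hbr⟩ := exists_brInd_of_blockCoeff hM P _ hPp hCL hLN hB g hgC hg.2.1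
    refine ⟨blockOf M (θ : ↥(P ⊔ Subgroup.centralizer (P : Set G)) → ℂ), ?_, ?_⟩
    · exact BrInd.isDefectGroup_sub hM P _ hPp hPL hLN hP hχ hbr (isPBlock_blockOf M θ)
        (mem_blockOf_self hMp θ)
    · rw [isInducedBlock_iff_brInd hM P _ hPp hPL hCL hLN (isPBlock_blockOf M θ) hB]
      intro ξ hξ χ' hχ'
      exact BrInd.congr_right hMp (BrInd.congr_left hMp hLN hbr hξ)
        (sameBlock_of_mem hMp hB hχ hχ')
  · intro b b' hb hb'
    have hbb : IsPBlock M b := hb.1
    have hbb' : IsPBlock M b' := hb'.1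
    have h1 := (isInducedBlock_iff_brInd hM P _ hPp hPL hCL hLN hbb hB).mp hb
    have h1' := (isInducedBlock_iff_brInd hM P _ hPp hPL hCL hLN hbb' hB).mp hb'
    obtain ⟨e, he, hcov⟩ := exists_covers hM P _ hPp hPL hCL hLN hbb
    obtain ⟨e', he', hcov'⟩ := exists_covers hM P _ hPp hPL hCL hLN hbb'
    obtain ⟨ξ, hξ⟩ := isPBlock_nonempty hMp he
    obtain ⟨ξ', hξ'⟩ := isPBlock_nonempty hMp he'
    obtain ⟨θ₀, hθ₀⟩ := exists_linked hM P (P ⊔ Subgroup.centralizer (P : Set G)) hPp hPL hCL ξ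
    obtain ⟨θ₀', hθ₀'⟩ := exists_linked hM P (P ⊔ Subgroup.centralizer (P : Set G)) hPp hPL hCL ξ'
    have hθb := mem_cover_of_linked hMp P _ hPL hbb hcov (subset_orbSet _ _ e hξ) hθ₀
    have hθb' := mem_cover_of_linked hMp P _ hPL hbb' hcov' (subset_orbSet _ _ e' hξ') hθ₀'
    obtain ⟨χ, hχ⟩ := isPBlock_nonempty hMp hB
    have h2 := brInd_centralizer_of_linked hMp P _ hPL hCL hLN hθ₀ (h1 θ₀ hθb χ hχ)
    have h2' := brInd_centralizer_of_linked hMp P _ hPL hCL hLN hθ₀' (h1' θ₀' hθb' χ hχ)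
    obtain ⟨m, hm, hmN, hξm⟩ := mem_orbSet_of_defect hM P hB hP he' hξ' hχ hχ h2' h2
    have hee : conjSet (Subgroup.centralizer (P : Set G)) m hm e' = e :=
      isPBlock_eq_of_mem hMp (isPBlock_conjSet _ m hm he') he hξm hξ
    have hmL := mem_normalizer_sup_centralizer P hmN
    have hcov2 := covers_conjSet P _ m hmN hmL hcov'
    rw [hee] at hcov2
    have hbeq : conjSet _ m hmL b' = b := covers_unique hcov2 hcov
    refine ⟨m, hmN, ?_⟩
    intro θ hθ
    rw [← hbeq] at hθ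
    obtain ⟨θ', hθ', rfl⟩ := hθ
    refine ⟨θ', hθ', ?_⟩
    intro x hx
    exact (conjIrr_apply _ m hmL θ' x ⟨m * (x : G) * m⁻¹, hx⟩ rfl).symm

end Cfsg.Agent.S0973
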