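import Mathlib
import Cfsg.Statements.S0974
import Cfsg.Agent.Lib.helper21.PrimeTICor

set_option autoImplicit false
open Cfsg

namespace Cfsg.Agent.S0974

open Cfsg.Agent.Lib.helper21

/-- No finite simple group has order 3648 = 2^6 * 3 * 19. -/
theorem result {G : Type*} [Group G] [Finite G] [IsSimpleGroup G] : Nat.card G ≠ 3648 := by
  intro hcard
  have hn : ∀ n : ℕ, n ∣ 192 → n % 19 = 1 → n ≠ 1 → n * 2 = 192 := by
    intro n hnd h19 h1
    have hle : n ≤ 192 := Nat.le_of_dvd (by norm_num) hnd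
    interval_cases n <;> omega
  obtain ⟨δ, ε, f₁, f₀, hδ, hε, hf₁, hf₁d, hf₀, hf₀d, hcong, hdeg, hsum⟩ :=
    simple_exceptional_two (G := G) 19 192 (by norm_num) (by rw [hcard]) (by norm_num)
      (by norm_num) hn (by norm_num)
  have hle : f₁ ≤ 60 := by nlinarith
  norm_num at hf₁d hf₀d hsum hcong
  interval_cases f₁ <;> rcases hδ with rfl | rfl <;> omega

end Cfsg.Agent.S0974
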