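import Mathlib
import Cfsg.Statements.S0975
import Cfsg.Agent.Lib.helper21.PrimeTICor

set_option autoImplicit false
open Cfsg

namespace Cfsg.Agent.S0975

open Cfsg.Agent.Lib.helper21

/-- No finite simple group has order 3744 = 2^5 * 3^2 * 13. -/
theorem result {G : Type*} [Group G] [Finite G] [IsSimpleGroup G] : Nat.card G ≠ 3744 := by
  intro hcard
  have hn : ∀ n : ℕ, n ∣ 288 → n % 13 = 1 → n ≠ 1 → n * 2 = 288 := by
    intro n hnd h13 h1
    have hle : n ≤ 288 := Nat.le_of_dvd (by norm_num) hnd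
    interval_cases n <;> omega
  obtain ⟨δ, ε, f₁, f₀, hδ, hε, hf₁, hf₁d, hf₀, hf₀d, hcong, hdeg, hsum⟩ :=
    simple_exceptional_two (G := G) 13 288 (by norm_num) (by rw [hcard]) (by norm_num)
      (by norm_num) hn (by norm_num)
  have hle : f₁ ≤ 61 := by nlinarith
  norm_num at hf₁d hf₀d hsum hcong
  have key : f₁ = 12 ∧ δ = -1 := by
    interval_cases f₁ <;> rcases hδ with rfl | rfl <;> omega
  obtain ⟨rfl, rfl⟩ := key
  rcases hε with rfl | rfl
  · omega
  · have h11 : f₀ = 11 := by omega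
    rw [h11] at hf₀d
    omega

end Cfsg.Agent.S0975
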