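import Cfsg.Statements.S0976
import Mathlib
import Cfsg.Agent.Lib.helper75.SimpleOrdA
import Cfsg.Agent.Lib.helper32.Ord4032
import Cfsg.Agent.Lib.helper32.Dih2

set_option autoImplicit false
open Cfsg

namespace Cfsg.Agent.S0976

open MulAction
open Cfsg.Agent.Lib.helper75 Cfsg.Agent.Lib.helper32

/-- No finite simple group has order 4032 = 2^6 * 3^2 * 7. -/
theorem result {G : Type*} [Group G] [Finite G] [IsSimpleGroup G] : Nat.card G ≠ 4032 := by
  intro hS
  have h7 : Fact (Nat.Prime 7) := ⟨by norm_num⟩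
  obtain ⟨P⟩ : Nonempty (Sylow 7 G) := inferInstance
  obtain ⟨hP, hn1, hmod, ⟨k, hk, hnk⟩, e, he, he1, hCe⟩ :=
    sylow_setup (p := 7) 576 (by rw [hS]) (by norm_num) (by norm_num) P
  have he' : e = 2 ∨ e = 3 ∨ e = 6 := by
    have hle : e ≤ 6 := Nat.le_of_dvd (by norm_num) he
    have hpos : 0 < e := Nat.pos_of_dvd_of_pos he (by norm_num)
    interval_cases e <;> omega
  obtain ⟨n, hn⟩ : ∃ n, n = Nat.card (Sylow 7 G) := ⟨_, rfl⟩
  rw [← hn] at hmod hnk
  have hnd : n ∣ 576 := Dvd.intro _ hnk
  have hnle : n ≤ 576 := Nat.le_of_dvd (by norm_num) hnd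
  have hn1' : n ≠ 1 := by rw [hn]; exact hn1
  have hcases : n = 8 ∨ n = 36 ∨ n = 64 ∨ n = 288 := by
    clear hnk hn
    interval_cases n <;> omega
  rcases hcases with rfl | rfl | rfl | rfl
  · -- `n_7 = 8`
    have hk72 : k = 72 := by omega
    rw [hk72] at hk
    rw [hk] at hCe
    have h2 : Fact (Nat.Prime 2) := ⟨Nat.prime_two⟩
    apply no_sylow_seven_eight P hn.symm 2 (by norm_num)
    rcases he' with rfl | rfl | rfl
    · exact ⟨126, by omega⟩
    · exact ⟨84, by omega⟩
    · exact ⟨42, by omega⟩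
  · -- `n_7 = 36`
    have hk16 : k = 16 := by omega
    rw [hk16] at hk
    rw [hk] at hCe
    have he2 : e = 2 := by
      rcases he' with rfl | rfl | rfl <;> omega
    rw [he2] at hCe
    have hC56 : Nat.card (Subgroup.centralizer ((P : Subgroup G) : Set G)) = 56 := by omega
    have h2C : 2 ∣ Nat.card (Subgroup.centralizer ((P : Subgroup G) : Set G)) := by
      rw [hC56]
      norm_num
    obtain ⟨t, V, ht, htC, hVk, c1, c2, c3, hbig⟩ :=
      exists_involution_centralizer (by norm_num) P hP hn1 (by omega) h2C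
    rw [← hn] at c2 c3 hbig
    have hf : Nat.card {ω : Sylow 7 G // t • ω = ω} = 8 := by omega
    rw [hf] at hbig
    obtain ⟨s, hs1, hs2, hs3, hs4⟩ := hbig (by norm_num)
    rw [hk] at hs4
    have hV8 : 8 ∣ Nat.card V := by
      have h4 := hVk 3 (by rw [hC56]; norm_num)
      exact h4
    have h8s : 8 ∣ s := hV8.trans hs3
    have hsle : s ≤ 112 := Nat.le_of_dvd (by norm_num) hs4
    have hs56 : s = 56 ∨ s = 112 := by
      have hspos : 0 < s := Nat.pos_of_dvd_of_pos hs4 (by norm_num)
      interval_cases s <;> omega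
    have hCt : Nat.card (Subgroup.centralizer ({t} : Set G)) ∣ 4032 := by
      rw [← hS]
      exact Subgroup.card_subgroup_dvd_card _
    rw [hs1] at hCt
    have hs56' : s = 56 := by
      rcases hs56 with h | h
      · exact h
      · rw [h] at hCt
        omega
    rw [hs56'] at hs1
    have hidx := Subgroup.card_mul_index (Subgroup.centralizer ({t} : Set G))
    rw [hs1, hS] at hidx
    have hidx9 : (Subgroup.centralizer ({t} : Set G)).index = 9 := by omega
    obtain ⟨y, hyP, hy⟩ := exists_mem_orderOf_prime (P : Subgroup G) 7 (by rw [hP])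
    exact no_centralizer_index_nine (by omega) t y ht 7 (Or.inr rfl) hy
      (Subgroup.mem_centralizer_iff.mp htC y hyP).symm hidx9
  · -- `n_7 = 64`
    have hk9 : k = 9 := by omega
    rw [hk9] at hk
    rw [hk] at hCe
    have hC21 : Nat.card (Subgroup.centralizer ((P : Subgroup G) : Set G)) = 21 := by
      rcases he' with rfl | rfl | rfl <;> omega
    exact no_simple_4032_sixty_four hS P hP hn.symm (by rw [hk]) hC21
  · -- `n_7 = 288`
    have hk2 : k = 2 := by omega
    rw [hk2] at hk
    rw [hk] at hCe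
    have hC7 : Nat.card (Subgroup.centralizer ((P : Subgroup G) : Set G)) = 7 := by
      rcases he' with rfl | rfl | rfl <;> omega
    have hPC : (P : Subgroup G) ≤ Subgroup.centralizer ((P : Subgroup G) : Set G) := by
      intro q hq
      rw [Subgroup.mem_centralizer_iff]
      intro r hr
      have h := Cfsg.Agent.Lib.helper21.comm_of_prime_card (P := (P : Subgroup G))
        (by norm_num : Nat.Prime 7) hP ⟨r, hr⟩ ⟨q, hq⟩
      exact congrArg Subtype.val h
    have hCeq : (P : Subgroup G) = Subgroup.centralizer ((P : Subgroup G) : Set G) :=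
      Subgroup.eq_of_le_of_card_ge hPC (by rw [hC7, hP])
    have hNcard : Nat.card (Subgroup.normalizer ((P : Subgroup G) : Set G)) = 7 * 2 := by
      rw [← hk, Sylow.stabilizer_eq_normalizer]
      rfl
    exact dih_prime_not_sq (by norm_num : Nat.Prime 7) (by norm_num) (P : Subgroup G) hP
      (le_of_eq hCeq.symm) hNcard 24 (by rw [hS]; norm_num)

end Cfsg.Agent.S0976
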