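import Cfsg.Statements.S0977
import Cfsg.Agent.Lib.helper75.SimpleOrdA
import Cfsg.Agent.S0904
import Cfsg.Agent.Lib.helper92.Ord4320C

set_option autoImplicit false
open Cfsg

namespace Cfsg.Agent.S0977

open Cfsg.Agent.Lib.helper92

/-- No finite simple group has order 4320 = 2^5 * 3^3 * 5. -/
theorem result {G : Type*} [Group G] [Finite G] [IsSimpleGroup G] : Nat.card G ≠ 4320 := by
  intro hS
  classical
  have := Fintype.ofFinite G
  have h5 : Fact (Nat.Prime 5) := ⟨by norm_num⟩
  obtain ⟨P⟩ : Nonempty (Sylow 5 G) := inferInstance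
  obtain ⟨hP, hn1, hmod, ⟨k, hk, hnk⟩, e, he, he1, hCe⟩ :=
    Cfsg.Agent.Lib.helper75.sylow_setup (p := 5) 864 (by rw [hS]) (by norm_num) (by norm_num) P
  have hCP : Subgroup.centralizer ((P : Subgroup G) : Set G) = (P : Subgroup G) :=
    Cfsg.Agent.S0904.result 2 3 5 5 3 Nat.prime_two Nat.prime_three (by norm_num) (by norm_num)
      (by norm_num) (by rw [hS]; norm_num) P
  rw [hCP, hP] at hCe
  have hek : e = k := by omega
  have he' : e = 2 ∨ e = 4 := by
    have hle : e ≤ 4 := Nat.le_of_dvd (by norm_num) he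
    have hpos : 0 < e := Nat.pos_of_dvd_of_pos he (by norm_num)
    interval_cases e <;> omega
  have hk4 : k = 4 := by
    rcases he' with h | h
    · exfalso
      rw [← hek, h] at hnk
      omega
    · omega
  rw [hk4] at hk
  have hNcard : Nat.card (Subgroup.normalizer ((P : Subgroup G) : Set G)) = 5 * 4 := by
    rw [← hk, Sylow.stabilizer_eq_normalizer]
    rfl
  exact Cfsg.Agent.Lib.helper92.no_simple_4320_aux hS (P : Subgroup G) hP (le_of_eq hCP) hNcard

end Cfsg.Agent.S0977
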