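import Cfsg.Statements.S0978
import Mathlib
import Cfsg.Agent.Lib.helper75.SimpleOrdA
import Cfsg.Agent.Lib.helper11.Ord5040
import Cfsg.Agent.Lib.helper11.Frob42Arith

set_option autoImplicit false
open Cfsg

namespace Cfsg.Agent.S0978

open MulAction
open Cfsg.Agent.Lib.helper75 Cfsg.Agent.Lib.helper11

/-- No finite simple group has order 5040 = 2^4 * 3^2 * 5 * 7. -/
theorem result {G : Type*} [Group G] [Finite G] [IsSimpleGroup G] : Nat.card G ≠ 5040 := by
  intro hS
  have h7 : Fact (Nat.Prime 7) := ⟨by norm_num⟩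
  obtain ⟨P⟩ : Nonempty (Sylow 7 G) := inferInstance
  obtain ⟨hP, hn1, hmod, ⟨k, hk, hnk⟩, e, he, he1, hCe⟩ :=
    sylow_setup (p := 7) 720 (by rw [hS]) (by norm_num) (by norm_num) P
  have he' : e = 2 ∨ e = 3 ∨ e = 6 := by
    have hle : e ≤ 6 := Nat.le_of_dvd (by norm_num) he
    have hpos : 0 < e := Nat.pos_of_dvd_of_pos he (by norm_num)
    interval_cases e <;> omega
  obtain ⟨n, hn⟩ : ∃ n, n = Nat.card (Sylow 7 G) := ⟨_, rfl⟩
  rw [← hn] at hmod hnk
  have hnd : n ∣ 720 := Dvd.intro _ hnk
  have hnle : n ≤ 720 := Nat.le_of_dvd (by norm_num) hnd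
  have hn1' : n ≠ 1 := by rw [hn]; exact hn1
  have hcases : n = 8 ∨ n = 15 ∨ n = 36 ∨ n = 120 := by
    clear hnk hn
    interval_cases n <;> omega
  rcases hcases with rfl | rfl | rfl | rfl
  · -- `n_7 = 8`
    have hk90 : k = 90 := by omega
    rw [hk90] at hk
    rw [hk] at hCe
    have h3 : Fact (Nat.Prime 3) := ⟨by norm_num⟩
    apply no_sylow_seven_eight P hn.symm 3 (by norm_num)
    rcases he' with rfl | rfl | rfl
    · exact ⟨105, by omega⟩
    · exact ⟨70, by omega⟩
    · exact ⟨35, by omega⟩
  · -- `n_7 = 15`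
    have hk48 : k = 48 := by omega
    rw [hk48] at hk
    rw [hk] at hCe
    have h2C : 2 ∣ Nat.card (Subgroup.centralizer ((P : Subgroup G) : Set G)) := by
      rcases he' with rfl | rfl | rfl
      · exact ⟨84, by omega⟩
      · exact ⟨56, by omega⟩
      · exact ⟨28, by omega⟩
    obtain ⟨t, V, ht, htC, hVk, c1, c2, c3, hbig⟩ :=
      exists_involution_centralizer (by norm_num) P hP hn1 (by omega) h2C
    rw [← hn] at c2 c3
    omega
  · -- `n_7 = 36`
    have hk20 : k = 20 := by omega
    rw [hk20] at hk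
    rw [hk] at hCe
    have hC70 : Nat.card (Subgroup.centralizer ((P : Subgroup G) : Set G)) = 70 := by
      rcases he' with rfl | rfl | rfl <;> omega
    exact no_simple_5040_thirty_six hS P hP hn.symm hk hC70
  · -- `n_7 = 120`
    have hk6 : k = 6 := by omega
    rw [hk6] at hk
    rw [hk] at hCe
    rcases he' with rfl | rfl | rfl
    · have hC21 : Nat.card (Subgroup.centralizer ((P : Subgroup G) : Set G)) = 21 := by omega
      exact no_simple_5040_c21 hS P hP hk hC21
    · have hC14 : Nat.card (Subgroup.centralizer ((P : Subgroup G) : Set G)) = 14 := by omega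
      exact no_simple_5040_c14 hS P hP hn.symm hk hC14
    · have hC7 : Nat.card (Subgroup.centralizer ((P : Subgroup G) : Set G)) = 7 := by omega
      have hPC : (P : Subgroup G) ≤ Subgroup.centralizer ((P : Subgroup G) : Set G) := by
        intro q hq
        rw [Subgroup.mem_centralizer_iff]
        intro r hr
        have h := Cfsg.Agent.Lib.helper21.comm_of_prime_card (P := (P : Subgroup G))
          (by norm_num : Nat.Prime 7) hP ⟨r, hr⟩ ⟨q, hq⟩
        exact congrArg Subtype.val h
      have hCeq : (P : Subgroup G) = Subgroup.centralizer ((P : Subgroup G) : Set G) :=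
        Subgroup.eq_of_le_of_card_ge hPC (by rw [hC7, hP])
      have hNcard : Nat.card (Subgroup.normalizer ((P : Subgroup G) : Set G)) = 7 * 6 := by
        rw [← hk, Sylow.stabilizer_eq_normalizer]
        rfl
      exact no_frobenius_5040 hS (P : Subgroup G) hP (le_of_eq hCeq.symm) hNcard

end Cfsg.Agent.S0978
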