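import Mathlib
import Cfsg.Statements.S0979
import Cfsg.Agent.Lib.helper21.PrimeTICor

set_option autoImplicit false
open Cfsg

namespace Cfsg.Agent.S0979

open Cfsg.Agent.Lib.helper21

/-- No finite simple group has order 5472 = 2^5 * 3^2 * 19. -/
theorem result {G : Type*} [Group G] [Finite G] [IsSimpleGroup G] : Nat.card G ≠ 5472 := by
  intro hcard
  have hn : ∀ n : ℕ, n ∣ 288 → n % 19 = 1 → n ≠ 1 → n * 3 = 288 := by
    intro n hnd h19 h1
    have hle : n ≤ 288 := Nat.le_of_dvd (by norm_num) hnd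
    interval_cases n <;> omega
  obtain ⟨δ₁, δ₂, ε, f₁, f₂, f₀, hδ₁, hδ₂, hε, hf₁, hf₁d, hf₂, hf₂d, hf₀, hf₀d, hcong₁, hcong₂,
      hdeg, hsum⟩ :=
    simple_exceptional_three (G := G) 19 288 (by norm_num) (by rw [hcard]) (by norm_num)
      (by norm_num) hn (by norm_num)
  have hle₁ : f₁ ≤ 73 := by nlinarith
  have hle₂ : f₂ ≤ 73 := by nlinarith
  norm_num at hf₁d hf₂d hf₀d hsum hcong₁ hcong₂
  have key₁ : f₁ = 18 ∧ δ₁ = -1 := by
    clear hsum hdeg hle₂ hcong₂ hf₂d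
    interval_cases f₁ <;> rcases hδ₁ with rfl | rfl <;> omega
  have key₂ : f₂ = 18 ∧ δ₂ = -1 := by
    clear hsum hdeg hle₁ hcong₁ hf₁d key₁
    interval_cases f₂ <;> rcases hδ₂ with rfl | rfl <;> omega
  obtain ⟨rfl, rfl⟩ := key₁
  obtain ⟨rfl, rfl⟩ := key₂
  rcases hε with rfl | rfl
  · omega
  · have h35 : f₀ = 35 := by omega
    rw [h35] at hf₀d
    omega

end Cfsg.Agent.S0979
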