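import Cfsg.Statements.S0980
import Mathlib
import Cfsg.Agent.Lib.helper75.SimpleOrdA
import Cfsg.Agent.Lib.helper21.SimpleOrdB
import Cfsg.Agent.Lib.helper21.DihInv

set_option autoImplicit false
open Cfsg

namespace Cfsg.Agent.S0980

open MulAction
open Cfsg.Agent.Lib.helper75 Cfsg.Agent.Lib.helper21

/-- No finite simple group has order 5760 = 2^7 * 3^2 * 5. -/
theorem result {G : Type*} [Group G] [Finite G] [IsSimpleGroup G] : Nat.card G ≠ 5760 := by
  intro hS
  have h5 : Fact (Nat.Prime 5) := ⟨by norm_num⟩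
  obtain ⟨P⟩ : Nonempty (Sylow 5 G) := inferInstance
  obtain ⟨hP, hn1, hmod, ⟨k, hk, hnk⟩, e, he, he1, hCe⟩ :=
    sylow_setup (p := 5) 1152 (by rw [hS]) (by norm_num) (by norm_num) P
  have he' : e = 2 ∨ e = 4 := by
    have hle : e ≤ 4 := Nat.le_of_dvd (by norm_num) he
    have hpos : 0 < e := Nat.pos_of_dvd_of_pos he (by norm_num)
    interval_cases e <;> omega
  have hfact := card_dvd_factorial_sylow (p := 5) hn1
  obtain ⟨n, hn⟩ : ∃ n, n = Nat.card (Sylow 5 G) := ⟨_, rfl⟩
  rw [← hn] at hmod hnk hfact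
  have hnd : n ∣ 1152 := Dvd.intro _ hnk
  have hnle : n ≤ 1152 := Nat.le_of_dvd (by norm_num) hnd
  have hn1' : n ≠ 1 := by rw [hn]; exact hn1
  have hcases : n = 6 ∨ n = 16 ∨ n = 36 ∨ n = 96 ∨ n = 576 := by
    clear hfact hnk hn
    interval_cases n <;> omega
  rcases hcases with rfl | rfl | rfl | rfl | rfl
  · -- `n_5 = 6`
    rw [hS] at hfact
    revert hfact
    decide
  · -- `n_5 = 16`
    have hk72 : k = 72 := by omega
    rw [hk72] at hk
    rw [hk] at hCe
    apply no_sylow_five_sixteen P hP hn.symm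
    rcases he' with rfl | rfl
    · exact ⟨4, by omega⟩
    · exact ⟨2, by omega⟩
  · -- `n_5 = 36`
    have hk32 : k = 32 := by omega
    rw [hk32] at hk
    rw [hk] at hCe
    have h8C : 2 ^ 3 ∣ Nat.card (Subgroup.centralizer ((P : Subgroup G) : Set G)) := by
      rcases he' with rfl | rfl
      · exact ⟨10, by omega⟩
      · exact ⟨5, by omega⟩
    have h2C : 2 ∣ Nat.card (Subgroup.centralizer ((P : Subgroup G) : Set G)) :=
      (by norm_num : 2 ∣ 2 ^ 3).trans h8C
    obtain ⟨t, V, ht, htC, hVk, c1, c2, c3, hbig⟩ :=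
      exists_involution_centralizer (by norm_num) P hP hn1 (by omega) h2C
    rw [← hn] at c2 c3 hbig
    have hf : Nat.card {ω : Sylow 5 G // t • ω = ω} = 16 := by omega
    rw [hf] at hbig
    obtain ⟨s, hs1, hs2, hs3, hs4⟩ := hbig (by norm_num)
    rw [hk] at hs4
    have hV8 : 8 ∣ Nat.card V := hVk 3 h8C
    have h8s : 8 ∣ s := hV8.trans hs3
    have hCt : Nat.card (Subgroup.centralizer ({t} : Set G)) ∣ 5760 := by
      rw [← hS]
      exact Subgroup.card_subgroup_dvd_card _
    rw [hs1] at hCt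
    have hsle : s ≤ 160 := Nat.le_of_dvd (by norm_num) hs4
    have hs40 : s = 40 := by
      have hspos : 0 < s := Nat.pos_of_dvd_of_pos hs4 (by norm_num)
      interval_cases s <;> omega
    rw [hs40] at hs1
    have hidx := Subgroup.card_mul_index (Subgroup.centralizer ({t} : Set G))
    rw [hs1, hS] at hidx
    have hidx9 : (Subgroup.centralizer ({t} : Set G)).index = 9 := by omega
    obtain ⟨y, hyP, hy⟩ := exists_mem_orderOf_prime (P : Subgroup G) 5 (by rw [hP])
    exact no_centralizer_index_nine (by omega) t y ht 5 (Or.inl rfl) hy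
      (Subgroup.mem_centralizer_iff.mp htC y hyP).symm hidx9
  · -- `n_5 = 96`
    have hk12 : k = 12 := by omega
    rw [hk12] at hk
    rw [hk] at hCe
    have h3 : Fact (Nat.Prime 3) := ⟨by norm_num⟩
    have h3C : 3 ∣ Nat.card (Subgroup.centralizer ((P : Subgroup G) : Set G)) := by
      rcases he' with rfl | rfl
      · exact ⟨10, by omega⟩
      · exact ⟨5, by omega⟩
    obtain ⟨x, hxC, hx⟩ := exists_mem_orderOf_prime _ 3 h3C
    obtain ⟨c1, c2, c3⟩ := sylow_prime_counts P hn1 x 3 hx hxC
    rw [← hn] at c2 c3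
    obtain ⟨s, hs1, hs2, hs3, hs4⟩ :=
      sylow_prime_centralizer_card P hP x 3 (by norm_num) hx (by norm_num) hxC
    rw [hk] at hs4
    obtain ⟨f, hf⟩ : ∃ f, f = Nat.card {ω : Sylow 5 G // x • ω = ω} := ⟨_, rfl⟩
    rw [← hf] at c1 c2 c3 hs1
    have hCx : Nat.card (Subgroup.centralizer ({x} : Set G)) ∣ 5760 := by
      rw [← hS]
      exact Subgroup.card_subgroup_dvd_card _
    rw [hs1] at hCx
    have hsle : s ≤ 60 := Nat.le_of_dvd (by norm_num) hs4
    have hspos : 0 < s := Nat.pos_of_dvd_of_pos hs4 (by norm_num)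
    have hs' : s = 15 ∨ s = 30 ∨ s = 60 := by
      interval_cases s <;> omega
    have hf384 : f ∣ 384 := by
      have h15 : 15 ∣ s := by omega
      obtain ⟨j, hj⟩ := h15
      have h1 : f * 15 ∣ 15 * 384 := by
        have h2 : f * 15 ∣ f * s := by
          rw [hj]
          exact Dvd.intro j (by ring)
        exact h2.trans hCx
      have h3 : 15 * f ∣ 15 * 384 := by rwa [mul_comm] at h1
      exact Nat.dvd_of_mul_dvd_mul_left (by norm_num) h3
    have hf6 : f = 6 := by
      interval_cases f <;> omega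
    rw [hf6] at hs1
    have hidx := Subgroup.card_mul_index (Subgroup.centralizer ({x} : Set G))
    rw [hs1, hS] at hidx
    have hx1 : x ≠ 1 := by
      rintro rfl
      rw [orderOf_one] at hx
      omega
    have hnp : ¬ (Nat.card G).Prime := by
      rw [hS]
      norm_num
    rcases hs' with rfl | rfl | rfl
    · exact no_prime_pow_class hnp 2 6 Nat.prime_two x hx1 (by omega)
    · exact no_prime_pow_class hnp 2 5 Nat.prime_two x hx1 (by omega)
    · exact no_prime_pow_class hnp 2 4 Nat.prime_two x hx1 (by omega)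
  · -- `n_5 = 576`
    have hk2 : k = 2 := by omega
    rw [hk2] at hk
    rw [hk] at hCe
    have hC5 : Nat.card (Subgroup.centralizer ((P : Subgroup G) : Set G)) = 5 := by
      rcases he' with rfl | rfl <;> omega
    have hPC : (P : Subgroup G) ≤ Subgroup.centralizer ((P : Subgroup G) : Set G) := by
      intro q hq
      rw [Subgroup.mem_centralizer_iff]
      intro r hr
      have h := Cfsg.Agent.Lib.helper21.comm_of_prime_card (P := (P : Subgroup G))
        (by norm_num : Nat.Prime 5) hP ⟨r, hr⟩ ⟨q, hq⟩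
      exact congrArg Subtype.val h
    have hCeq : (P : Subgroup G) = Subgroup.centralizer ((P : Subgroup G) : Set G) :=
      Subgroup.eq_of_le_of_card_ge hPC (by rw [hC5, hP])
    have hNcard : Nat.card (Subgroup.normalizer ((P : Subgroup G) : Set G)) = 5 * 2 := by
      rw [← hk, Sylow.stabilizer_eq_normalizer]
      rfl
    have hfin := dihinv_two_part (by norm_num : Nat.Prime 5) (by norm_num) (P : Subgroup G) hP
      (le_of_eq hCeq.symm) hNcard 7 (by rw [hS]; norm_num)
    rw [hS] at hfin
    norm_num at hfin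

end Cfsg.Agent.S0980
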