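import Cfsg.Statements.S0983
import Cfsg.Agent.Lib.helper18.S983Main
import Cfsg.Agent.Lib.helper18.SylInterKill
import Cfsg.Agent.Lib.helper18.SylInterB
import Cfsg.Agent.Lib.helper18.SylFix
import Cfsg.Agent.S0974
import Cfsg.Agent.S0975
import Cfsg.Agent.S0976
import Cfsg.Agent.S0977
import Cfsg.Agent.S0978
import Cfsg.Agent.S0979
import Cfsg.Agent.S0980
import Cfsg.Agent.Lib.helper11.Ord3960
import Cfsg.Agent.Lib.helper11.Ord4200
import Cfsg.Agent.Lib.helper92.Ord4212
import Cfsg.Agent.Lib.helper92.Ord4680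
import Cfsg.Agent.Lib.helper32.Ord4760
import Cfsg.Agent.Lib.helper32.Ord4896
import Cfsg.Agent.Lib.helper73.Ord4960
import Cfsg.Agent.Lib.helper92.Ord5148
import Cfsg.Agent.Lib.helper73.Ord5400
import Cfsg.Agent.Lib.helper92.Ord5460
import Cfsg.Agent.Lib.helper32.Ord5600
import Cfsg.Agent.Lib.helper73.Ord5724
import Cfsg.Agent.Lib.helper73.Ord5880
import Cfsg.Agent.Lib.helper11.Ord5940

set_option autoImplicit false
open Cfsg

namespace Cfsg.Agent.S0983

/-- A non-abelian finite simple group of order greater than 3640 and at most 6232 has order 4080, 5616, 6048 or 6072. -/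
theorem result {G : Type*} [Group G] [Finite G] [IsSimpleGroup G] (hG : ¬ IsMulCommutative G) (h1 : 3640 < Nat.card G) (h2 : Nat.card G ≤ 6232) : Nat.card G = 4080 ∨ Nat.card G = 5616 ∨ Nat.card G = 6048 ∨ Nat.card G = 6072 := by
  have hadhoc : ∀ n ∈ Cfsg.Agent.Lib.helper18.s983Adhoc, Nat.card G ≠ n := by
    intro n hn
    simp only [Cfsg.Agent.Lib.helper18.s983Adhoc, List.mem_cons, List.not_mem_nil, or_false] at hn
    rcases hn with rfl | rfl | rfl | rfl | rfl | rfl | rfl | rfl | rfl | rfl | rfl | rfl | rfl | rfl | rfl | rfl | rfl | rfl | rfl | rfl | rfl | rfl | rfl | rfl | rfl | rfl | rfl | rfl | rfl | rfl | rfl | rfl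
    · exact Cfsg.Agent.S0974.result
    · exact Cfsg.Agent.S0975.result
    · exact Cfsg.Agent.S0976.result
    · exact Cfsg.Agent.S0977.result
    · exact Cfsg.Agent.S0978.result
    · exact Cfsg.Agent.S0979.result
    · exact Cfsg.Agent.S0980.result
    · exact Cfsg.Agent.Lib.helper18.no_simple_3780
    · exact Cfsg.Agent.Lib.helper11.no_simple_3960
    · exact Cfsg.Agent.Lib.helper11.no_simple_4200
    · exact Cfsg.Agent.Lib.helper92.no_simple_4212
    · exact Cfsg.Agent.Lib.helper18.no_simple_4368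
    · exact Cfsg.Agent.Lib.helper18.no_simple_4500
    · exact Cfsg.Agent.Lib.helper92.no_simple_4680
    · exact Cfsg.Agent.Lib.helper18.no_simple_4725
    · exact Cfsg.Agent.Lib.helper32.no_simple_4760
    · exact Cfsg.Agent.Lib.helper32.no_simple_4896
    · exact Cfsg.Agent.Lib.helper18.no_simple_4900
    · exact Cfsg.Agent.Lib.helper73.Ord4960.no_simple_4960
    · exact Cfsg.Agent.Lib.helper18.no_simple_5104
    · exact Cfsg.Agent.Lib.helper92.no_simple_5148
    · exact Cfsg.Agent.Lib.helper18.no_simple_5220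
    · exact Cfsg.Agent.Lib.helper18.no_simple_5292
    · exact Cfsg.Agent.Lib.helper73.Ord5400.no_simple_5400
    · exact Cfsg.Agent.Lib.helper92.no_simple_5460
    · exact Cfsg.Agent.Lib.helper32.no_simple_5600
    · exact Cfsg.Agent.Lib.helper18.no_simple_5700
    · exact Cfsg.Agent.Lib.helper73.Ord5724.no_simple_5724
    · exact Cfsg.Agent.Lib.helper73.Ord5880.no_simple_5880
    · exact Cfsg.Agent.Lib.helper11.no_simple_5940
    · exact Cfsg.Agent.Lib.helper18.no_simple_6000
    · exact Cfsg.Agent.Lib.helper18.no_simple_6160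
  have h := Cfsg.Agent.Lib.helper18.s983_main hG hadhoc h1 h2
  simpa only [Cfsg.Agent.Lib.helper18.s983Real, List.mem_cons, List.not_mem_nil, or_false] using h

end Cfsg.Agent.S0983
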