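import Cfsg.Statements.S0986
import Mathlib

set_option autoImplicit false
open Cfsg

namespace Cfsg.Agent.S0986

open Subgroup

variable {G : Type*} [Group G] [Finite G] {p : ℕ} [Fact p.Prime]

/-- Normalizers grow in finite `p`-groups. -/
theorem exists_mem_normalizer_not_mem {Q R : Subgroup G}
    (hR : IsPGroup p R) (hQR : Q < R) :
    ∃ y ∈ R, y ∉ Q ∧ y ∈ Subgroup.normalizer (Q : Set G) := by
  have : Group.IsNilpotent R := hR.isNilpotent
  have hnc : NormalizerCondition R := Group.normalizerCondition_of_isNilpotent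
  have hlt : Q.subgroupOf R < ⊤ := by
    rw [lt_top_iff_ne_top]
    intro h
    rw [Subgroup.subgroupOf_eq_top] at h
    exact (not_le_of_gt hQR) h
  have h2 := hnc _ hlt
  obtain ⟨y, hy1, hy2⟩ := SetLike.exists_of_lt h2
  refine ⟨y, y.2, ?_, ?_⟩
  · intro h; exact hy2 (Subgroup.mem_subgroupOf.mpr h)
  · rw [Subgroup.mem_normalizer_iff]
    intro x
    have hy1' := Subgroup.mem_normalizer_iff.mp hy1
    constructor
    · intro hx
      have := (hy1' ⟨x, hQR.le hx⟩).mp (Subgroup.mem_subgroupOf.mpr hx)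
      exact Subgroup.mem_subgroupOf.mp this
    · intro hx
      have hxR : x ∈ R := by
        have h3 : (y : G)⁻¹ * ((y : G) * x * (y : G)⁻¹) * (y : G) ∈ R :=
          R.mul_mem (R.mul_mem (R.inv_mem y.2) (hQR.le hx)) y.2
        have h4 : (y : G)⁻¹ * ((y : G) * x * (y : G)⁻¹) * (y : G) = x := by group
        rwa [h4] at h3
      have := (hy1' ⟨x, hxR⟩).mpr (Subgroup.mem_subgroupOf.mpr hx)
      exact Subgroup.mem_subgroupOf.mp this

theorem card_lt_of_lt {H K : Subgroup G} (h : H < K) : Nat.card H < Nat.card K := by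
  by_contra hc
  exact h.ne (Subgroup.eq_of_le_of_card_ge h.le (not_lt.mp hc))

/-- For distinct Sylow subgroups, the intersection is properly contained in its normalizer
within `P`. -/
theorem card_inf_lt (P Q : Sylow p G) (hPQ : P ≠ Q) :
    Nat.card ↥((P : Subgroup G) ⊓ (Q : Subgroup G)) <
      Nat.card ↥((P : Subgroup G) ⊓
        normalizer (((P : Subgroup G) ⊓ (Q : Subgroup G) : Subgroup G) : Set G)) := by
  have hlt : (P : Subgroup G) ⊓ (Q : Subgroup G) < (P : Subgroup G) := by
    refine lt_of_le_of_ne inf_le_left ?_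
    intro h
    have hle : (P : Subgroup G) ≤ (Q : Subgroup G) := inf_eq_left.mp h
    exact hPQ (Sylow.ext (P.3 Q.2 hle).symm)
  obtain ⟨y, hyP, hyD, hyN⟩ := exists_mem_normalizer_not_mem P.2 hlt
  apply card_lt_of_lt
  refine lt_of_le_of_ne (le_inf inf_le_left le_normalizer) ?_
  intro h
  apply hyD
  rw [h]
  exact ⟨hyP, hyN⟩

/-- Any `p`-subgroup of a finite group has order at most that of a Sylow `p`-subgroup. -/
theorem card_le_card_sylow {H : Subgroup G} (hH : IsPGroup p H) (S : Sylow p G) :
    Nat.card H ≤ Nat.card (S : Subgroup G) := by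
  obtain ⟨S', hS'⟩ := hH.exists_le_sylow
  have h1 : Nat.card H ≤ Nat.card (S' : Subgroup G) :=
    Nat.le_of_dvd Nat.card_pos (Subgroup.card_dvd_of_le hS')
  rwa [S'.card_eq_multiplicity, ← S.card_eq_multiplicity] at h1

/-- Let P and Q be distinct Sylow p-subgroups of a finite group G chosen so that the order of P ∩ Q is as large as possible among intersections of two distinct Sylow p-subgroups, and let N be the normalizer of P ∩ Q. Then N has more than one Sylow p-subgroup, any two distinct Sylow p-subgroups of N intersect exactly in P ∩ Q, and each Sylow p-subgroup of N lies in exactly one Sylow p-subgroup of G. -/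
theorem result {G : Type*} [Group G] [Finite G] (p : ℕ) [Fact p.Prime] (P Q : Sylow p G) (hPQ : P ≠ Q) (hmax : ∀ P' Q' : Sylow p G, P' ≠ Q' → Nat.card ↥((P' : Subgroup G) ⊓ (Q' : Subgroup G)) ≤ Nat.card ↥((P : Subgroup G) ⊓ (Q : Subgroup G))) : 1 < Nat.card (Sylow p ↥(Subgroup.normalizer (((P : Subgroup G) ⊓ (Q : Subgroup G) : Subgroup G) : Set G))) ∧ (∀ S T : Sylow p ↥(Subgroup.normalizer (((P : Subgroup G) ⊓ (Q : Subgroup G) : Subgroup G) : Set G)), S ≠ T → (S : Subgroup _) ⊓ (T : Subgroup _) = ((P : Subgroup G) ⊓ (Q : Subgroup G)).subgroupOf (Subgroup.normalizer (((P : Subgroup G) ⊓ (Q : Subgroup G) : Subgroup G) : Set G))) ∧ ∀ S : Sylow p ↥(Subgroup.normalizer (((P : Subgroup G) ⊓ (Q : Subgroup G) : Subgroup G) : Set G)), ∃! T : Sylow p G, (S : Subgroup _).map (Subgroup.normalizer (((P : Subgroup G) ⊓ (Q : Subgroup G) : Subgroup G) : Set G)).subtype ≤ (T : Subgroup G) := by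
  set D : Subgroup G := (P : Subgroup G) ⊓ (Q : Subgroup G) with hD
  set N : Subgroup G := Subgroup.normalizer (D : Set G) with hN
  have hDN : D ≤ N := le_normalizer
  have hDp : IsPGroup p D := P.2.to_inf_left
  -- D is contained in the image of every Sylow subgroup of N
  have hDS : ∀ S : Sylow p N, D.subgroupOf N ≤ (S : Subgroup N) := by
    intro S
    have hn : (D.subgroupOf N).Normal := normal_in_normalizer
    have hp' : IsPGroup p (D.subgroupOf N) := hDp.comap_subtype
    exact hp'.le_sylow_of_normal S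
  have hDS' : ∀ S : Sylow p N, D ≤ (S : Subgroup N).map N.subtype := by
    intro S x hx
    exact ⟨⟨x, hDN hx⟩, hDS S (mem_subgroupOf.mpr hx), rfl⟩
  have hSp : ∀ S : Sylow p N, IsPGroup p ((S : Subgroup N).map N.subtype) :=
    fun S => S.2.map N.subtype
  have hScard : ∀ S : Sylow p N, Nat.card ((S : Subgroup N).map N.subtype)
      = Nat.card (S : Subgroup N) :=
    fun S => Subgroup.card_map_of_injective (Subgroup.subtype_injective _)
  -- a p-subgroup of G inside N has order at most that of a Sylow subgroup of N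
  have hle : ∀ (S : Sylow p N) (X : Subgroup G), IsPGroup p X → X ≤ N →
      Nat.card X ≤ Nat.card (S : Subgroup N) := by
    intro S X hX hXN
    have h1 := card_le_card_sylow (hX.comap_subtype (K := N)) S
    have h2 : Nat.card (X.subgroupOf N) = Nat.card X :=
      Nat.card_congr (Subgroup.subgroupOfEquivOfLe hXN).toEquiv
    rw [← h2]; exact h1
  have hPN : Nat.card D < Nat.card ↥((P : Subgroup G) ⊓ N) := card_inf_lt P Q hPQ
  have hQN : Nat.card D < Nat.card ↥((Q : Subgroup G) ⊓ N) := by
    have h1 := card_inf_lt Q P (Ne.symm hPQ)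
    have h2 : (Q : Subgroup G) ⊓ (P : Subgroup G) = D := inf_comm _ _
    rw [h2] at h1
    exact h1
  -- two distinct Sylow subgroups of G containing D meet exactly in D
  have hTT : ∀ T T' : Sylow p G, T ≠ T' → D ≤ (T : Subgroup G) → D ≤ (T' : Subgroup G) →
      (T : Subgroup G) ⊓ (T' : Subgroup G) = D := by
    intro T T' hne h1 h2
    exact (Subgroup.eq_of_le_of_card_ge (le_inf h1 h2) (hmax T T' hne)).symm
  -- uniqueness of the Sylow subgroup of G containing a Sylow subgroup of N
  have huniq : ∀ (S : Sylow p N) (T T' : Sylow p G), (S : Subgroup N).map N.subtype ≤ (T : Subgroup G) →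
      (S : Subgroup N).map N.subtype ≤ (T' : Subgroup G) → T = T' := by
    intro S T T' h1 h2
    by_contra hne
    have h3 := hTT T T' hne ((hDS' S).trans h1) ((hDS' S).trans h2)
    have h4 : (S : Subgroup N).map N.subtype ≤ D := h3 ▸ le_inf h1 h2
    have h5 : Nat.card (S : Subgroup N) ≤ Nat.card D := by
      rw [← hScard S]
      exact Nat.le_of_dvd Nat.card_pos (Subgroup.card_dvd_of_le h4)
    have h6 := hle S ((P : Subgroup G) ⊓ N) P.2.to_inf_left inf_le_right
    omega
  have hex : ∀ S : Sylow p N, ∃ T : Sylow p G, (S : Subgroup N).map N.subtype ≤ (T : Subgroup G) :=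
    fun S => (hSp S).exists_le_sylow
  refine ⟨?_, ?_, ?_⟩
  · -- more than one Sylow subgroup in N
    by_contra hcon
    have hsub : Subsingleton (Sylow p N) := by
      rw [← Finite.card_le_one_iff_subsingleton]
      omega
    obtain ⟨S⟩ : Nonempty (Sylow p N) := inferInstance
    have hXS : ∀ (X : Subgroup G), IsPGroup p X → X ≤ N → X ≤ (S : Subgroup N).map N.subtype := by
      intro X hX hXN
      obtain ⟨S', hS'⟩ := (hX.comap_subtype (K := N)).exists_le_sylow
      rw [Subsingleton.elim S' S] at hS'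
      intro x hx
      exact ⟨⟨x, hXN hx⟩, hS' (mem_subgroupOf.mpr hx), rfl⟩
    obtain ⟨T, hT⟩ := hex S
    have hTP : T = P := by
      by_contra hne
      have h1 : (P : Subgroup G) ⊓ N ≤ (T : Subgroup G) ⊓ (P : Subgroup G) :=
        le_inf ((hXS _ P.2.to_inf_left inf_le_right).trans hT) inf_le_left
      have h2 := hmax T P hne
      have h3 := Nat.le_of_dvd Nat.card_pos (Subgroup.card_dvd_of_le h1)
      omega
    have hTQ : T = Q := by
      by_contra hne
      have h1 : (Q : Subgroup G) ⊓ N ≤ (T : Subgroup G) ⊓ (Q : Subgroup G) :=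
        le_inf ((hXS _ Q.2.to_inf_left inf_le_right).trans hT) inf_le_left
      have h2 := hmax T Q hne
      have h3 := Nat.le_of_dvd Nat.card_pos (Subgroup.card_dvd_of_le h1)
      omega
    exact hPQ (hTP.symm.trans hTQ)
  · -- distinct Sylow subgroups of N meet in D
    intro S T hST
    obtain ⟨T₁, hT₁⟩ := hex S
    obtain ⟨T₂, hT₂⟩ := hex T
    have hne : T₁ ≠ T₂ := by
      intro h
      subst h
      apply hST
      have hX : IsPGroup p (((T₁ : Subgroup G)).subgroupOf N) := T₁.2.comap_subtype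
      have h1 : (S : Subgroup N) ≤ (T₁ : Subgroup G).subgroupOf N := by
        intro x hx
        exact mem_subgroupOf.mpr (hT₁ ⟨x, hx, rfl⟩)
      have h2 : (T : Subgroup N) ≤ (T₁ : Subgroup G).subgroupOf N := by
        intro x hx
        exact mem_subgroupOf.mpr (hT₂ ⟨x, hx, rfl⟩)
      exact Sylow.ext ((S.3 hX h1).symm.trans (T.3 hX h2))
    have h3 := hTT T₁ T₂ hne ((hDS' S).trans hT₁) ((hDS' T).trans hT₂)
    apply le_antisymm
    · intro x hx
      rw [mem_subgroupOf, ← h3]
      exact ⟨hT₁ ⟨x, hx.1, rfl⟩, hT₂ ⟨x, hx.2, rfl⟩⟩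
    · exact le_inf (hDS S) (hDS T)
  · intro S
    obtain ⟨T, hT⟩ := hex S
    exact ⟨T, hT, fun T' hT' => huniq S T' T hT' hT⟩

end Cfsg.Agent.S0986
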