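import Cfsg.Statements.S0987
import Cfsg.Agent.Lib.helper21.SylowNormal
import Cfsg.Agent.Lib.helper21.SylowCard
import Mathlib

set_option autoImplicit false
open Cfsg

namespace Cfsg.Agent.S0987

open Cfsg.Agent.Lib.helper21

/-- If a finite group has order pqr for primes p < q < r, then its Sylow r-subgroups are normal. -/
theorem result {G : Type*} [Group G] [Finite G] (p q r : ℕ) (hp : p.Prime) (hq : q.Prime) [Fact r.Prime] (hpq : p < q) (hqr : q < r) (hG : Nat.card G = p * q * r) (R : Sylow r G) : (R : Subgroup G).Normal := by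
  have hr : r.Prime := Fact.out
  have := Fact.mk hp
  have := Fact.mk hq
  have hne1 : Nat.card G ≠ 1 := by
    rw [hG]
    have := hp.two_le; have := hq.two_le; have := hr.two_le
    intro h
    have h1 : p * q * r ≥ 2 * 2 * 2 := Nat.mul_le_mul (Nat.mul_le_mul ‹_› ‹_›) ‹_›
    omega
  -- the smallest prime factor is p
  have hmin : (Nat.card G).minFac = p := by
    have h1 : (Nat.card G).minFac ∣ p * q * r := hG ▸ Nat.minFac_dvd _
    have hpr : (Nat.card G).minFac.Prime := Nat.minFac_prime hne1
    have h2 : (Nat.card G).minFac ≤ p := Nat.minFac_le_of_dvd hp.two_le (hG ▸ ⟨q * r, by ring⟩)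
    rcases (hpr.dvd_mul.mp h1) with h | h
    · rcases (hpr.dvd_mul.mp h) with h | h
      · exact (Nat.prime_dvd_prime_iff_eq hpr hp).mp h
      · have := (Nat.prime_dvd_prime_iff_eq hpr hq).mp h; omega
    · have := (Nat.prime_dvd_prime_iff_eq hpr hr).mp h; omega
  obtain ⟨P0⟩ : Nonempty (Sylow p G) := inferInstance
  have hP0card : Nat.card P0 = p := by
    apply sylow_card_eq_prime P0
    · rw [hG]; exact ⟨q * r, by ring⟩
    · rw [hG]
      intro h
      have h1 : p * p ∣ p * (q * r) := by
        have : p ^ 2 = p * p := by ring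
        rw [this, mul_assoc] at h
        exact h
      have h2 : p ∣ q * r := (Nat.mul_dvd_mul_iff_left hp.pos).mp h1
      rcases hp.dvd_mul.mp h2 with h | h
      · have := (Nat.prime_dvd_prime_iff_eq hp hq).mp h; omega
      · have := (Nat.prime_dvd_prime_iff_eq hp hr).mp h; omega
  have hcyc : IsCyclic P0 := isCyclic_of_prime_card hP0card
  set K := (MonoidHom.transferSylow P0 (hcyc.normalizer_le_centralizer hmin)).ker with hK
  have hcompl : K.IsComplement' P0 := IsCyclic.isComplement' hmin hcyc
  have hKcard : Nat.card K = q * r := by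
    have h1 := hcompl.card_mul_card
    rw [hP0card, hG] at h1
    have h2 : Nat.card K * p = (q * r) * p := by rw [h1]; ring
    exact Nat.eq_of_mul_eq_mul_right hp.pos h2
  have hKidx : K.index = p := by rw [hcompl.symm.index_eq_card, hP0card]
  -- the Sylow r-subgroup of K
  obtain ⟨Q⟩ : Nonempty (Sylow r K) := inferInstance
  have hQcard : Nat.card Q = r := by
    apply sylow_card_eq_prime Q
    · rw [hKcard]; exact ⟨q, by ring⟩
    · rw [hKcard]
      intro h
      have h1 : r * r ∣ r * q := by
        have : r ^ 2 = r * r := by ring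
        rw [this, mul_comm q r] at h
        exact h
      have h2 : r ∣ q := (Nat.mul_dvd_mul_iff_left hr.pos).mp h1
      have := (Nat.prime_dvd_prime_iff_eq hr hq).mp h2; omega
  have hQidx : (Q : Subgroup K).index = q := by
    have h1 := Subgroup.card_mul_index (Q : Subgroup K)
    rw [hQcard, hKcard] at h1
    have h2 : r * (Q : Subgroup K).index = r * q := by rw [h1]; ring
    exact Nat.eq_of_mul_eq_mul_left hr.pos h2
  have hminK : (Nat.card K).minFac = q := by
    have hne1K : Nat.card K ≠ 1 := by
      rw [hKcard]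
      have := hq.two_le; have := hr.two_le
      intro h
      have h1 : q * r ≥ 2 * 2 := Nat.mul_le_mul ‹_› ‹_›
      omega
    have h1 : (Nat.card K).minFac ∣ q * r := hKcard ▸ Nat.minFac_dvd _
    have hpr : (Nat.card K).minFac.Prime := Nat.minFac_prime hne1K
    have h2 : (Nat.card K).minFac ≤ q := Nat.minFac_le_of_dvd hq.two_le (hKcard ▸ ⟨r, by ring⟩)
    rcases (hpr.dvd_mul.mp h1) with h | h
    · exact (Nat.prime_dvd_prime_iff_eq hpr hq).mp h
    · have := (Nat.prime_dvd_prime_iff_eq hpr hr).mp h; omega
  have hQn : (Q : Subgroup K).Normal :=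
    Subgroup.normal_of_index_eq_minFac_card (by rw [hQidx, hminK])
  have hKn : K.Normal := MonoidHom.normal_ker _
  refine sylow_normal_of_normal_sylow_of_normal K Q hQn ?_ R
  rw [hKidx]
  intro h
  have := (Nat.prime_dvd_prime_iff_eq hr hp).mp h
  omega

end Cfsg.Agent.S0987
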