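import Cfsg.Statements.S0989
import Cfsg.Agent.Lib.helper21.PrimeOrderCount
import Cfsg.Agent.Lib.helper21.SylowCard
import Mathlib

set_option autoImplicit false
open Cfsg

namespace Cfsg.Agent.S0989

open Cfsg.Agent.Lib.helper21 Subgroup Nat

/-- In the symmetric group on p or p + 1 letters, p a prime, the normalizer of a Sylow p-subgroup has order p * (p - 1). -/
theorem result {α : Type*} [Fintype α] [DecidableEq α] (p : ℕ) [Fact p.Prime] (hα : Fintype.card α = p ∨ Fintype.card α = p + 1) (P : Sylow p (Equiv.Perm α)) : Nat.card ↥(Subgroup.normalizer ((P : Subgroup (Equiv.Perm α)) : Set (Equiv.Perm α))) = p * (p - 1) := by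
  have hp : p.Prime := Fact.out
  have hp2 : 2 ≤ p := hp.two_le
  set n := Fintype.card α with hn
  have hpn : p ≤ n := by omega
  have hnp : n - p ≤ 1 := by omega
  have hcardG : Nat.card (Equiv.Perm α) = n ! := by
    rw [Nat.card_eq_fintype_card, Fintype.card_perm]
  -- p exactly divides n!
  have hdvd1 : p ∣ n ! := (hp.dvd_factorial).mpr hpn
  have hpm1 : ¬ p ∣ (p - 1)! := by
    rw [hp.dvd_factorial]; omega
  have hdvd2 : ¬ p ^ 2 ∣ n ! := by
    intro h
    have hfac : n ! = p * ((p - 1)! * n.choose p) := by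
      have h1 := Nat.choose_mul_factorial_mul_factorial hpn
      have h2 : (n - p)! = 1 := by
        rcases Nat.le_one_iff_eq_zero_or_eq_one.mp hnp with h | h <;> rw [h] <;> rfl
      have h3 : p ! = p * (p - 1)! := (Nat.mul_factorial_pred (by omega)).symm
      rw [h2, h3, mul_one] at h1
      rw [← h1]; ring
    rw [hfac, pow_two] at h
    have h4 : p ∣ (p - 1)! * n.choose p := (Nat.mul_dvd_mul_iff_left hp.pos).mp h
    rcases hp.dvd_mul.mp h4 with h5 | h5
    · exact hpm1 h5
    · rcases hα with h6 | h6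
      · rw [h6, Nat.choose_self] at h5
        exact hp.one_lt.ne' (Nat.dvd_one.mp h5)
      · rw [h6, Nat.choose_succ_self_right] at h5
        have : p ∣ 1 := (Nat.dvd_add_right (dvd_refl p)).mp h5
        exact hp.one_lt.ne' (Nat.dvd_one.mp this)
  have hcardSyl : ∀ Q : Sylow p (Equiv.Perm α), Nat.card (Q : Subgroup (Equiv.Perm α)) = p :=
    fun Q => sylow_card_eq_prime Q (hcardG ▸ hdvd1) (hcardG ▸ hdvd2)
  have hcount1 := card_orderOf_eq_prime_of_sylow_card hcardSyl
  -- elements of order p are the p-cycles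
  have hiff : ∀ σ : Equiv.Perm α, orderOf σ = p ↔ σ.cycleType = {p} := by
    intro σ
    constructor
    · intro h
      obtain ⟨k, hk⟩ := Equiv.Perm.cycleType_prime_order (h ▸ hp)
      rw [h] at hk
      have h1 := σ.sum_cycleType_le
      rw [hk, Multiset.sum_replicate, smul_eq_mul] at h1
      have hk0 : k = 0 := by
        by_contra hk0
        have : 2 * p ≤ (k + 1) * p := Nat.mul_le_mul_right p (by omega)
        omega
      rw [hk, hk0]
      rfl
    · intro h
      rw [← Equiv.Perm.lcm_cycleType, h, Multiset.lcm_singleton]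
      simp
  have hcount2 : Nat.card {σ : Equiv.Perm α // orderOf σ = p} = (p - 1)! * n.choose p := by
    rw [← Equiv.Perm.card_of_cycleType_singleton hp2 hpn, Nat.card_eq_fintype_card,
      Fintype.card_subtype]
    congr 1
    ext σ
    simp [hiff σ]
  have hN1 : Nat.card (Sylow p (Equiv.Perm α))
      = (normalizer ((P : Subgroup (Equiv.Perm α)) : Set (Equiv.Perm α))).index :=
    Sylow.card_eq_index_normalizer P
  have hN2 := (normalizer ((P : Subgroup (Equiv.Perm α)) : Set (Equiv.Perm α))).index_mul_card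
  rw [← hN1, hcardG] at hN2
  have hfac : n ! = p * ((p - 1)! * n.choose p) := by
    have h1 := Nat.choose_mul_factorial_mul_factorial hpn
    have h2 : (n - p)! = 1 := by
      rcases Nat.le_one_iff_eq_zero_or_eq_one.mp hnp with h | h <;> rw [h] <;> rfl
    have h3 : p ! = p * (p - 1)! := (Nat.mul_factorial_pred (by omega)).symm
    rw [h2, h3, mul_one] at h1
    rw [← h1]; ring
  rw [hfac, ← hcount2, hcount1] at hN2
  have hpos : 0 < Nat.card (Sylow p (Equiv.Perm α)) := Nat.card_pos
  have h5 : Nat.card (Sylow p (Equiv.Perm α)) *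
      Nat.card (normalizer ((P : Subgroup (Equiv.Perm α)) : Set (Equiv.Perm α)))
      = Nat.card (Sylow p (Equiv.Perm α)) * (p * (p - 1)) := by
    rw [hN2]; ring
  exact Nat.eq_of_mul_eq_mul_left hpos h5

end Cfsg.Agent.S0989
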