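import Cfsg.Statements.S0991
import Mathlib

set_option autoImplicit false
open Cfsg

namespace Cfsg.Agent.S0991

/-- Embedding Theorem: if a non-abelian finite simple group has a proper subgroup of index n, then it is isomorphic to a subgroup of the alternating group of degree n. -/
theorem result {G : Type*} [Group G] [Finite G] [IsSimpleGroup G] (hG : ¬ IsMulCommutative G) (H : Subgroup G) (hH : H ≠ ⊤) : ∃ f : G →* ↥(alternatingGroup (Fin H.index)), Function.Injective f := by
  classical
  have e : (G ⧸ H) ≃ Fin H.index := Finite.equivFinOfCardEq rfl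
  let φ : G →* Equiv.Perm (G ⧸ H) := MulAction.toPermHom G (G ⧸ H)
  let ψ : G →* Equiv.Perm (Fin H.index) := (e.permCongrHom).toMonoidHom.comp φ
  have hφ : Function.Injective φ := by
    rw [← MonoidHom.ker_eq_bot_iff]
    rcases (MonoidHom.normal_ker φ).eq_bot_or_eq_top with h | h
    · exact h
    · exfalso
      apply hH
      have h1 : H.normalCore = ⊤ := by rw [Subgroup.normalCore_eq_ker]; exact h
      exact top_le_iff.mp (h1 ▸ Subgroup.normalCore_le H)
  have hψ : Function.Injective ψ := by
    intro a b hab
    apply hφ
    exact e.permCongrHom.injective hab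
  have hsign : ∀ g : G, Equiv.Perm.sign (ψ g) = 1 := by
    intro g
    let σ : G →* ℤˣ := Equiv.Perm.sign.comp ψ
    rcases (MonoidHom.normal_ker σ).eq_bot_or_eq_top with h | h
    · exfalso
      apply hG
      have hσ : Function.Injective σ := (MonoidHom.ker_eq_bot_iff σ).mp h
      exact ⟨⟨fun a b => hσ (by rw [map_mul, map_mul, mul_comm])⟩⟩
    · have : g ∈ MonoidHom.ker σ := by rw [h]; trivial
      exact this
  refine ⟨ψ.codRestrict (alternatingGroup (Fin H.index)) (fun g => Equiv.Perm.mem_alternatingGroup.mpr (hsign g)), ?_⟩
  intro a b hab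
  apply hψ
  have := congrArg Subtype.val hab
  simpa using this

end Cfsg.Agent.S0991
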