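import Cfsg.Statements.S0994
import Cfsg.Agent.Lib.helper21.NC
import Cfsg.Agent.Lib.helper21.SimpleIndex
import Cfsg.Agent.Lib.helper21.SylowCard
import Mathlib

set_option autoImplicit false
open Cfsg

namespace Cfsg.Agent.S0994

open Cfsg.Agent.Lib.helper21

/-- No finite simple group has order 1188 = 2^2 * 3^3 * 11. -/
theorem result {G : Type*} [Group G] [Finite G] [IsSimpleGroup G] : Nat.card G ≠ 1188 := by
  intro hG
  have : Fact (Nat.Prime 11) := ⟨by norm_num⟩
  obtain ⟨P⟩ : Nonempty (Sylow 11 G) := inferInstance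
  have hPcard : Nat.card (P : Subgroup G) = 11 :=
    sylow_card_eq_prime P (by rw [hG]; norm_num) (by rw [hG]; norm_num)
  have hcyc : IsCyclic (P : Subgroup G) := isCyclic_of_prime_card hPcard
  have hab : ∀ a ∈ (P : Subgroup G), ∀ b ∈ (P : Subgroup G), a * b = b * a := by
    intro a ha b hb
    have := hcyc.isMulCommutative.is_comm.comm (⟨a, ha⟩ : (P : Subgroup G)) ⟨b, hb⟩
    exact congrArg Subtype.val this
  obtain ⟨s, hs, ⟨i, hi1, hi2, hsi⟩, hdvd⟩ :=
    simple_abelian_sylow_nc P hab 1 (by simpa using hPcard) le_rfl (by rw [hG]; norm_num)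
  have hi : i = 1 := by omega
  subst hi
  have hidx : (P : Subgroup G).index = 108 := by
    have := (P : Subgroup G).card_mul_index
    rw [hPcard, hG] at this
    omega
  rw [hidx] at hdvd
  have hmod : Nat.card (Sylow 11 G) ≡ 1 [MOD 11] := card_sylow_modEq_one 11 G
  have hPbot : (P : Subgroup G) ≠ ⊥ := by
    intro h
    rw [h, Subgroup.card_bot] at hPcard
    omega
  have hPtop : (P : Subgroup G) ≠ ⊤ := by
    intro h
    rw [h, Subgroup.card_top, hG] at hPcard
    omega
  have hne1 := card_sylow_ne_one_of_simple P hPbot hPtop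
  generalize Nat.card (Sylow 11 G) = n at *
  have hn : n ∣ 108 := dvd_of_mul_left_dvd hdvd
  have hnle : n ≤ 108 := Nat.le_of_dvd (by norm_num) hn
  have hsle : s ≤ 10 := Nat.le_of_dvd (by norm_num) hsi
  unfold Nat.ModEq at hmod
  interval_cases s <;> norm_num at hs <;> norm_num at hsi <;>
    interval_cases n <;> simp_all

end Cfsg.Agent.S0994
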