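import Cfsg.Statements.S0995
import Mathlib

set_option autoImplicit false
open Cfsg

namespace Cfsg.Agent.S0995

open Subgroup

variable {G : Type*} [Group G] [Finite G]

/-- The size of a conjugacy class times the order of the centralizer is the group order. -/
theorem card_conj_mul_card_centralizer (w : G) :
    Nat.card {g : G // IsConj w g} * Nat.card (centralizer ({w} : Set G)) = Nat.card G := by
  have h1 : MulAction.orbit (ConjAct G) w = {g : G | IsConj w g} := by
    ext g
    rw [ConjAct.mem_orbit_conjAct, isConj_comm]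
    rfl
  have h2 := MulAction.index_stabilizer (G := ConjAct G) w
  have h3 := Subgroup.nat_card_centralizer_nat_card_stabilizer w
  have h4 := (MulAction.stabilizer (ConjAct G) w).index_mul_card
  rw [h2, ← h3, h1] at h4
  exact h4

/-- In a group of prime order `p` generated by `z`, a nontrivial element generates. -/
theorem mem_zpowers_of_mem_zpowers {p : ℕ} [Fact p.Prime] {z w : G} (hz : orderOf z = p)
    (hw : w ∈ zpowers z) (hw1 : w ≠ 1) : z ∈ zpowers w := by
  have hp : p.Prime := Fact.out
  have h1 : zpowers w ≤ zpowers z := by rw [zpowers_le]; exact hw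
  have h2 : Nat.card (zpowers z) = p := by rw [Nat.card_zpowers, hz]
  have h3 : Nat.card (zpowers w) ∣ p := h2 ▸ Subgroup.card_dvd_of_le h1
  have h4 : Nat.card (zpowers w) = p := by
    rcases (Nat.dvd_prime hp).mp h3 with h | h
    · exfalso
      rw [Nat.card_zpowers, orderOf_eq_one_iff] at h
      exact hw1 h
    · exact h
  have h5 : zpowers w = zpowers z := Subgroup.eq_of_le_of_card_ge h1 (by rw [h2, h4])
  rw [h5]
  exact mem_zpowers z

/-- Centralizers of elements generating the same cyclic group agree. -/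
theorem centralizer_eq_of_mem_zpowers {z w : G} (h1 : w ∈ zpowers z) (h2 : z ∈ zpowers w) :
    centralizer ({w} : Set G) = centralizer ({z} : Set G) := by
  ext a
  rw [mem_centralizer_singleton_iff, mem_centralizer_singleton_iff]
  constructor
  · intro h
    obtain ⟨k, rfl⟩ := mem_zpowers_iff.mp h2
    exact ((Commute.zpow_right (show Commute a w from h) k)).eq
  · intro h
    obtain ⟨k, rfl⟩ := mem_zpowers_iff.mp h1
    exact ((Commute.zpow_right (show Commute a z from h) k)).eq

/-- Let G be a finite perfect group containing an element z of prime order p whose centralizer is the cyclic group it generates. Let t be the number of conjugacy classes of elements of order p. Then t divides p - 1, the number of Sylow p-subgroups has the form 1 + n * p, and |G| * t = (p - 1) * p * (1 + n * p). -/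
theorem result {G : Type*} [Group G] [Finite G] (hperf : commutator G = ⊤) (p : ℕ) [Fact p.Prime] (z : G) (hz : orderOf z = p) (hC : Subgroup.centralizer ({z} : Set G) = Subgroup.zpowers z) : ∃ n t : ℕ, t = Nat.card {c : ConjClasses G // ∃ g : G, ConjClasses.mk g = c ∧ orderOf g = p} ∧ t ∣ p - 1 ∧ Nat.card (Sylow p G) = 1 + n * p ∧ Nat.card G * t = (p - 1) * p * (1 + n * p) := by
  classical
  have hp : p.Prime := Fact.out
  have hZcard : Nat.card (zpowers z) = p := by rw [Nat.card_zpowers, hz]
  have hz1 : z ≠ 1 := by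
    intro h
    rw [h, orderOf_one] at hz
    exact hp.one_lt.ne hz
  -- Step 1: the Sylow p-subgroups have order p
  have hZp : IsPGroup p (zpowers z) := IsPGroup.of_card (n := 1) (by rw [hZcard, pow_one])
  obtain ⟨P₀, hP₀⟩ := hZp.exists_le_sylow
  have hP₀Z : (P₀ : Subgroup G) = zpowers z := by
    apply le_antisymm _ hP₀
    have hnt : Nontrivial (P₀ : Subgroup G) :=
      ⟨⟨⟨z, hP₀ (mem_zpowers z)⟩, 1, fun h => hz1 (congrArg Subtype.val h)⟩⟩
    obtain ⟨c, hc⟩ := (nontrivial_iff_exists_ne (1 : center (P₀ : Subgroup G))).mp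
      (P₀.2.center_nontrivial)
    have hc1 : ((c : (P₀ : Subgroup G)) : G) ≠ 1 := by
      intro h
      apply hc
      apply Subtype.ext
      apply Subtype.ext
      exact h
    have hccomm : ∀ q : (P₀ : Subgroup G), q * (c : (P₀ : Subgroup G)) = (c : (P₀ : Subgroup G)) * q :=
      fun q => (mem_center_iff.mp c.2 q)
    have hcZ : ((c : (P₀ : Subgroup G)) : G) ∈ zpowers z := by
      rw [← hC, mem_centralizer_singleton_iff]
      have := hccomm ⟨z, hP₀ (mem_zpowers z)⟩
      have := congrArg Subtype.val this
      simpa using this.symm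
    have hzc := mem_zpowers_of_mem_zpowers hz hcZ hc1
    intro q hq
    rw [← hC, ← centralizer_eq_of_mem_zpowers hcZ hzc, mem_centralizer_singleton_iff]
    have := congrArg Subtype.val (hccomm ⟨q, hq⟩)
    simpa using this
  have hcardSyl : ∀ Q : Sylow p G, Nat.card (Q : Subgroup G) = p := by
    intro Q
    rw [Q.card_eq_multiplicity, ← P₀.card_eq_multiplicity, hP₀Z, hZcard]
  -- Step 2: every element of order p is conjugate to a nontrivial element of ⟨z⟩
  have hconj : ∀ g : G, orderOf g = p → ∃ w ∈ zpowers z, w ≠ 1 ∧ IsConj w g := by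
    intro g hg
    have hgp : IsPGroup p (zpowers g) :=
      IsPGroup.of_card (n := 1) (by rw [Nat.card_zpowers, hg, pow_one])
    obtain ⟨Q, hQ⟩ := hgp.exists_le_sylow
    obtain ⟨x, hx⟩ := MulAction.exists_smul_eq G Q P₀
    have hgQ : g ∈ (Q : Subgroup G) := hQ (mem_zpowers g)
    have h1 : x * g * x⁻¹ ∈ (P₀ : Subgroup G) := by
      rw [← hx, Sylow.smul_def, Sylow.pointwise_smul_def]
      exact Subgroup.smul_mem_pointwise_smul g (MulAut.conj x) _ hgQ
    refine ⟨x * g * x⁻¹, hP₀Z ▸ h1, ?_, isConj_iff.mpr ⟨x⁻¹, by group⟩⟩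
    intro h
    have hg1 : g = 1 := by
      have : g = x⁻¹ * (x * g * x⁻¹) * x := by group
      rw [this, h]; group
    rw [hg1, orderOf_one] at hg
    exact hp.one_lt.ne hg
  have hcentw : ∀ w ∈ zpowers z, w ≠ 1 → Nat.card (centralizer ({w} : Set G)) = p := by
    intro w hw hw1
    rw [centralizer_eq_of_mem_zpowers hw (mem_zpowers_of_mem_zpowers hz hw hw1), hC, hZcard]
  have hordw : ∀ (Q : Subgroup G), Nat.card Q = p → ∀ w ∈ Q, w ≠ 1 → orderOf w = p := by
    intro Q hQ w hw hw1
    have h1 : orderOf (⟨w, hw⟩ : Q) ∣ p := hQ ▸ orderOf_dvd_natCard _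
    rw [Subgroup.orderOf_mk] at h1
    rcases (Nat.dvd_prime hp).mp h1 with h | h
    · exact absurd (orderOf_eq_one_iff.mp h) hw1
    · exact h
  -- Step 3: count the elements of order p by conjugacy classes
  have hE1 : Nat.card {g : G // orderOf g = p} * p
      = Nat.card {c : ConjClasses G // ∃ g : G, ConjClasses.mk g = c ∧ orderOf g = p}
        * Nat.card G := by
    let f : {g : G // orderOf g = p} →
        {c : ConjClasses G // ∃ g : G, ConjClasses.mk g = c ∧ orderOf g = p} :=
      fun g => ⟨ConjClasses.mk g.1, g.1, rfl, g.2⟩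
    have hfib : ∀ c : {c : ConjClasses G // ∃ g : G, ConjClasses.mk g = c ∧ orderOf g = p},
        Nat.card {g : {g : G // orderOf g = p} // f g = c} * p = Nat.card G := by
      intro c
      obtain ⟨g₀, hg₀, hg₀p⟩ := c.2
      obtain ⟨w, hwZ, hw1, hwg⟩ := hconj g₀ hg₀p
      have hcw : c.1 = ConjClasses.mk w := by
        rw [← hg₀]; exact (ConjClasses.mk_eq_mk_iff_isConj.mpr hwg).symm
      have hord : ∀ g : G, IsConj w g → orderOf g = p := by
        intro g hg
        obtain ⟨x, hx⟩ := isConj_iff.mp hg
        rw [← hx]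
        have := (MulAut.conj x).orderOf_eq w
        rw [MulAut.conj_apply] at this
        rw [this]
        exact hordw (zpowers z) hZcard w hwZ hw1
      have hequiv : {g : {g : G // orderOf g = p} // f g = c} ≃ {g : G // IsConj w g} :=
        { toFun := fun g => ⟨g.1.1, by
            have h1 : ConjClasses.mk g.1.1 = c.1 := congrArg Subtype.val g.2
            rw [hcw] at h1
            exact (ConjClasses.mk_eq_mk_iff_isConj.mp h1).symm⟩
          invFun := fun g => ⟨⟨g.1, hord g.1 g.2⟩, by
            apply Subtype.ext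
            show ConjClasses.mk g.1 = c.1
            rw [hcw]
            exact (ConjClasses.mk_eq_mk_iff_isConj.mpr g.2).symm⟩
          left_inv := fun g => rfl
          right_inv := fun g => rfl }
      rw [Nat.card_congr hequiv, ← hcentw w hwZ hw1]
      exact card_conj_mul_card_centralizer w
    have : Fintype {c : ConjClasses G // ∃ g : G, ConjClasses.mk g = c ∧ orderOf g = p} :=
      Fintype.ofFinite _
    rw [← Nat.card_congr (Equiv.sigmaFiberEquiv f), Nat.card_sigma, Finset.sum_mul,
      Finset.sum_congr rfl (fun c _ => hfib c), Finset.sum_const, Finset.card_univ,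
      smul_eq_mul, ← Nat.card_eq_fintype_card]
  -- Step 4: count the elements of order p by Sylow subgroups
  have hE2 : Nat.card {g : G // orderOf g = p} = Nat.card (Sylow p G) * (p - 1) := by
    let φ : (Σ Q : Sylow p G, {g : G // g ∈ (Q : Subgroup G) ∧ g ≠ 1}) → {g : G // orderOf g = p} :=
      fun x => ⟨x.2.1, hordw (x.1 : Subgroup G) (hcardSyl x.1) x.2.1 x.2.2.1 x.2.2.2⟩
    have hφ : Function.Bijective φ := by
      constructor
      · rintro ⟨Q, g, hgQ, hg1⟩ ⟨Q', g', hgQ', hg1'⟩ h
        have hgg : g = g' := congrArg Subtype.val h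
        subst hgg
        have hQQ : Q = Q' := by
          have hord := hordw (Q : Subgroup G) (hcardSyl Q) g hgQ hg1
          have h1 : zpowers g = (Q : Subgroup G) :=
            Subgroup.eq_of_le_of_card_ge ((zpowers_le).mpr hgQ)
              (by rw [hcardSyl Q, Nat.card_zpowers, hord])
          have h2 : zpowers g = (Q' : Subgroup G) :=
            Subgroup.eq_of_le_of_card_ge ((zpowers_le).mpr hgQ')
              (by rw [hcardSyl Q', Nat.card_zpowers, hord])
          exact Sylow.ext (h1.symm.trans h2)
        subst hQQ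
        rfl
      · rintro ⟨g, hg⟩
        have hgp : IsPGroup p (zpowers g) :=
          IsPGroup.of_card (n := 1) (by rw [Nat.card_zpowers, hg, pow_one])
        obtain ⟨Q, hQ⟩ := hgp.exists_le_sylow
        refine ⟨⟨Q, g, hQ (mem_zpowers g), ?_⟩, rfl⟩
        rintro rfl
        rw [orderOf_one] at hg
        exact hp.one_lt.ne hg
    have hcardfib : ∀ Q : Sylow p G, Nat.card {g : G // g ∈ (Q : Subgroup G) ∧ g ≠ 1} = p - 1 := by
      intro Q
      have h1 : Nat.card {g : G // g ∈ (Q : Subgroup G) ∧ g ≠ 1}
          = (((Q : Subgroup G) : Set G) \ {1}).ncard := rfl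
      rw [h1, Set.ncard_diff_singleton_of_mem (one_mem _)]
      have h2 : (((Q : Subgroup G) : Set G)).ncard = Nat.card (Q : Subgroup G) := rfl
      rw [h2, hcardSyl Q]
    have : Fintype (Sylow p G) := Fintype.ofFinite _
    rw [← Nat.card_congr (Equiv.ofBijective φ hφ), Nat.card_sigma,
      Finset.sum_congr rfl (fun Q _ => hcardfib Q), Finset.sum_const, Finset.card_univ,
      smul_eq_mul, ← Nat.card_eq_fintype_card]
  -- Step 5: arithmetic
  have hmod : Nat.card (Sylow p G) ≡ 1 [MOD p] := card_sylow_modEq_one p G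
  have hnpos : 0 < Nat.card (Sylow p G) := Nat.card_pos
  have hdvd : p ∣ Nat.card (Sylow p G) - 1 := (Nat.modEq_iff_dvd' hnpos).mp hmod.symm
  obtain ⟨n, hn⟩ := hdvd
  have hnp : Nat.card (Sylow p G) = 1 + n * p := by
    have : Nat.card (Sylow p G) = (Nat.card (Sylow p G) - 1) + 1 := by omega
    rw [this, hn]; ring
  have hmain : Nat.card G * Nat.card {c : ConjClasses G // ∃ g : G, ConjClasses.mk g = c ∧ orderOf g = p}
      = (p - 1) * p * (1 + n * p) := by
    rw [mul_comm, ← hE1, hE2, hnp]; ring
  refine ⟨n, _, rfl, ?_, hnp, hmain⟩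
  -- t divides p - 1
  have hN1 : Nat.card (Sylow p G) = (normalizer ((P₀ : Subgroup G) : Set G)).index :=
    Sylow.card_eq_index_normalizer P₀
  have hN2 := (normalizer ((P₀ : Subgroup G) : Set G)).index_mul_card
  have hN3 : p ∣ Nat.card (normalizer ((P₀ : Subgroup G) : Set G)) := by
    have := Subgroup.card_dvd_of_le (le_normalizer (H := (P₀ : Subgroup G)))
    rwa [hcardSyl P₀] at this
  obtain ⟨e, he⟩ := hN3
  refine ⟨e, ?_⟩
  rw [← hN2, ← hN1, he, ← hnp] at hmain
  have h1 : (Nat.card (Sylow p G) * p) * (p - 1)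
      = (Nat.card (Sylow p G) * p) *
        (Nat.card {c : ConjClasses G // ∃ g : G, ConjClasses.mk g = c ∧ orderOf g = p} * e) := by
    rw [mul_comm (p - 1) p] at hmain
    calc (Nat.card (Sylow p G) * p) * (p - 1) = p * (p - 1) * Nat.card (Sylow p G) := by ring
      _ = Nat.card (Sylow p G) * (p * e) *
          Nat.card {c : ConjClasses G // ∃ g : G, ConjClasses.mk g = c ∧ orderOf g = p} := hmain.symm
      _ = _ := by ring
  exact Nat.eq_of_mul_eq_mul_left (Nat.mul_pos hnpos hp.pos) h1

end Cfsg.Agent.S0995
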