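import Cfsg.Statements.S1001
import Cfsg.Agent.S0904
import Cfsg.Agent.Lib.helper4.BurnsidePQ

set_option autoImplicit false
open Cfsg

namespace Cfsg.Agent.S1001

/-- In a finite simple group whose order has the form p * 3^a * 2^b with p prime, the centralizer of any element of order p is the cyclic group it generates. -/
theorem result {G : Type*} [Group G] [Finite G] [IsSimpleGroup G] (p a b : ℕ) (hp : p.Prime) (hG : Nat.card G = p * 3 ^ a * 2 ^ b) (x : G) (hx : orderOf x = p) : Subgroup.centralizer ({x} : Set G) = Subgroup.zpowers x := by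
  classical
  have hzc : Nat.card (Subgroup.zpowers x) = p := by rw [Nat.card_zpowers, hx]
  have hpdvd : p ∣ Nat.card G := by
    rw [hG, mul_assoc]; exact dvd_mul_right _ _
  -- the commutative case
  have hcomm_case : (∀ u v : G, u * v = v * u) →
      Subgroup.centralizer ({x} : Set G) = Subgroup.zpowers x := by
    intro hc
    have hpr : (Nat.card G).Prime := Cfsg.Agent.Lib.helper4.prime_card_of_simple_of_comm hc
    have hcard : Nat.card G = p := ((Nat.prime_dvd_prime_iff_eq hp hpr).mp hpdvd).symm
    have htop : Subgroup.zpowers x = ⊤ :=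
      Subgroup.eq_top_of_card_eq _ (by rw [hzc, hcard])
    rw [htop]
    ext g
    simp only [Subgroup.mem_centralizer_iff, Set.mem_singleton_iff, forall_eq,
      Subgroup.mem_top, iff_true]
    exact hc x g
  have hsolv_case : Group.IsSolvable G →
      Subgroup.centralizer ({x} : Set G) = Subgroup.zpowers x := by
    intro hs
    exact hcomm_case (IsSimpleGroup.comm_iff_isSolvable.mpr hs)
  by_cases hp2 : p = 2
  · apply hsolv_case
    exact Cfsg.Agent.Lib.helper4.isSolvable_of_card_eq_prime_pow_mul_prime_pow 2 3 (b + 1) a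
      Nat.prime_two Nat.prime_three (by rw [hG, hp2]; ring)
  by_cases hp3 : p = 3
  · apply hsolv_case
    exact Cfsg.Agent.Lib.helper4.isSolvable_of_card_eq_prime_pow_mul_prime_pow 3 2 (a + 1) b
      Nat.prime_three Nat.prime_two (by rw [hG, hp3]; ring)
  haveI : Fact p.Prime := ⟨hp⟩
  have hpg : IsPGroup p (Subgroup.zpowers x) :=
    IsPGroup.of_card (n := 1) (by rw [hzc, pow_one])
  obtain ⟨S, hS⟩ := hpg.exists_le_sylow
  have h1 : Subgroup.centralizer (S : Set G) = (S : Subgroup G) :=
    Cfsg.Agent.S0904.result 3 2 p a b Nat.prime_three Nat.prime_two (by norm_num)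
      (fun h => hp3 h.symm) (fun h => hp2 h.symm) (by rw [hG]; ring) S
  have h3a : (3 : ℕ) ^ a ≠ 0 := pow_ne_zero _ (by norm_num)
  have h2b : (2 : ℕ) ^ b ≠ 0 := pow_ne_zero _ (by norm_num)
  have hScard : Nat.card S = p := by
    rw [Sylow.card_eq_multiplicity, hG,
      Nat.factorization_mul (mul_ne_zero hp.ne_zero h3a) h2b,
      Nat.factorization_mul hp.ne_zero h3a,
      Nat.factorization_pow, Nat.factorization_pow, hp.factorization,
      Nat.prime_three.factorization, Nat.prime_two.factorization]
    simp [hp2, hp3]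
  have hzS : Subgroup.zpowers x = (S : Subgroup G) :=
    Subgroup.eq_of_le_of_card_ge hS (by rw [hzc]; exact hScard.le)
  rw [← hzS] at h1
  rw [← h1]
  ext g
  simp only [Subgroup.mem_centralizer_iff, Set.mem_singleton_iff, forall_eq, SetLike.mem_coe]
  constructor
  · intro h y hy
    have hy' : y ∈ Subgroup.zpowers x := by rw [hzS]; exact hy
    obtain ⟨k, rfl⟩ := Subgroup.mem_zpowers_iff.mp hy'
    have hc : Commute x g := h
    exact (hc.zpow_left k).eq
  · intro h
    have hx' : x ∈ (S : Subgroup G) := by rw [← hzS]; exact Subgroup.mem_zpowers x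
    exact h x hx'

end Cfsg.Agent.S1001
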