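import Mathlib
import Cfsg.Statements.S1002
import Cfsg.Agent.Lib.helper21.SelfCentralizing
import Cfsg.Agent.Lib.helper21.SylowTest
import Cfsg.Agent.Lib.helper21.PrimeOrderCount
import Cfsg.Agent.Lib.helper21.SylowOrbits
import Cfsg.Agent.Lib.helper21.FixedCosets
import Cfsg.Agent.Lib.helper21.OrderCount

set_option autoImplicit false
open Cfsg

namespace Cfsg.Agent.S1002

open Subgroup MulAction Cfsg.Agent.Lib.helper21

variable {G : Type*} [Group G] [Finite G] [IsSimpleGroup G]

theorem prime409 : Nat.Prime 409 := by norm_num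

/-- The number of Sylow `p`-subgroups is at least 409. -/
theorem le_card_sylow (h : Nat.card G = 1004913) {p : ℕ} [Fact p.Prime] (P : Sylow p G)
    (hbot : (P : Subgroup G) ≠ ⊥) (htop : (P : Subgroup G) ≠ ⊤) :
    409 ≤ Nat.card (Sylow p G) := by
  have h1 := card_dvd_factorial_card_sylow_of_simple P hbot htop
  rw [h] at h1
  have h2 : 409 ∣ (Nat.card (Sylow p G)).factorial := (by norm_num : 409 ∣ 1004913).trans h1
  exact (prime409.dvd_factorial).mp h2

theorem dvd_27 {d : ℕ} (h : d ∣ 27) : d = 1 ∨ d = 3 ∨ d = 9 ∨ d = 27 := by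
  have := Nat.le_of_dvd (by norm_num) h
  interval_cases d <;> omega

theorem card_sylow_409 (h : Nat.card G = 1004913) : Nat.card (Sylow 409 G) = 819 := by
  have : Fact (Nat.Prime 409) := ⟨prime409⟩
  obtain ⟨P⟩ : Nonempty (Sylow 409 G) := inferInstance
  obtain ⟨hPcard, hidx, hPbot, hPtop, hnc⟩ := simple_sylow_basic (p := 409) 1 2457 le_rfl
    (by rw [h]; norm_num) (by norm_num) (by norm_num) P
  have hn1 := le_card_sylow h P hPbot hPtop
  have hn2 : Nat.card (Sylow 409 G) ≡ 1 [MOD 409] := card_sylow_modEq_one 409 G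
  have hn3 : Nat.card (Sylow 409 G) ∣ (P : Subgroup G).index := Sylow.card_dvd_index P
  rw [hidx] at hn3
  have h1 := Nat.le_of_dvd (by norm_num) hn3
  unfold Nat.ModEq at hn2
  generalize Nat.card (Sylow 409 G) = n at *
  obtain ⟨k, rfl⟩ : ∃ k, n = 409 * k + 1 := ⟨n / 409, by omega⟩
  have hk : k ≤ 6 := by omega
  interval_cases k <;> omega

theorem card_sylow_13 (h : Nat.card G = 1004913) : Nat.card (Sylow 13 G) = 25767 := by
  have : Fact (Nat.Prime 13) := ⟨by norm_num⟩
  obtain ⟨P⟩ : Nonempty (Sylow 13 G) := inferInstance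
  obtain ⟨hPcard, hidx, hPbot, hPtop, hnc⟩ := simple_sylow_basic (p := 13) 1 77301 le_rfl
    (by rw [h]; norm_num) (by norm_num) (by norm_num) P
  have hn1 := le_card_sylow h P hPbot hPtop
  have hn2 : Nat.card (Sylow 13 G) ≡ 1 [MOD 13] := card_sylow_modEq_one 13 G
  have hn3 : Nat.card (Sylow 13 G) ∣ (P : Subgroup G).index := Sylow.card_dvd_index P
  rw [hidx, show (77301 : ℕ) = 27 * (7 * 409) by norm_num] at hn3
  unfold Nat.ModEq at hn2
  generalize Nat.card (Sylow 13 G) = n at *
  obtain ⟨d, e, hd, he, rfl⟩ := (Nat.dvd_mul).mp hn3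
  obtain ⟨e₁, e₂, he₁, he₂, rfl⟩ := (Nat.dvd_mul).mp he
  rcases dvd_27 hd with rfl | rfl | rfl | rfl <;>
    rcases (Nat.dvd_prime (by norm_num : Nat.Prime 7)).mp he₁ with rfl | rfl <;>
    rcases (Nat.dvd_prime prime409).mp he₂ with rfl | rfl <;> omega

theorem card_sylow_7 (h : Nat.card G = 1004913) : Nat.card (Sylow 7 G) = 47853 := by
  have : Fact (Nat.Prime 7) := ⟨by norm_num⟩
  obtain ⟨P⟩ : Nonempty (Sylow 7 G) := inferInstance
  obtain ⟨hPcard, hidx, hPbot, hPtop, hnc⟩ := simple_sylow_basic (p := 7) 1 143559 le_rfl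
    (by rw [h]; norm_num) (by norm_num) (by norm_num) P
  have hn1 := le_card_sylow h P hPbot hPtop
  have hn2 : Nat.card (Sylow 7 G) ≡ 1 [MOD 7] := card_sylow_modEq_one 7 G
  have hn3 : Nat.card (Sylow 7 G) ∣ (P : Subgroup G).index := Sylow.card_dvd_index P
  rw [hidx, show (143559 : ℕ) = 27 * (13 * 409) by norm_num] at hn3
  unfold Nat.ModEq at hn2
  generalize Nat.card (Sylow 7 G) = n at *
  obtain ⟨d, e, hd, he, rfl⟩ := (Nat.dvd_mul).mp hn3
  obtain ⟨e₁, e₂, he₁, he₂, rfl⟩ := (Nat.dvd_mul).mp he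
  rcases dvd_27 hd with rfl | rfl | rfl | rfl <;>
    rcases (Nat.dvd_prime (by norm_num : Nat.Prime 13)).mp he₁ with rfl | rfl <;>
    rcases (Nat.dvd_prime prime409).mp he₂ with rfl | rfl <;> omega

/-- No finite simple group has order 1004913 = 3^3 * 7 * 13 * 409. -/
theorem result {G : Type*} [Group G] [Finite G] [IsSimpleGroup G] : Nat.card G ≠ 1004913 := by
  intro h
  classical
  have : Fact (Nat.Prime 409) := ⟨prime409⟩
  have : Fact (Nat.Prime 13) := ⟨by norm_num⟩
  have : Fact (Nat.Prime 7) := ⟨by norm_num⟩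
  have : Fact (Nat.Prime 3) := ⟨by norm_num⟩
  have hn409 := card_sylow_409 h
  have hn13 := card_sylow_13 h
  have hn7 := card_sylow_7 h
  have hc409 : Nat.card {g : G // orderOf g = 409} = 819 * 408 := by
    rw [card_orderOf_eq_prime_of_sylow_card (p := 409) (fun Q =>
      sylow_card_eq_prime Q (by rw [h]; norm_num) (by rw [h]; norm_num)), hn409]
  have hc13 : Nat.card {g : G // orderOf g = 13} = 25767 * 12 := by
    rw [card_orderOf_eq_prime_of_sylow_card (p := 13) (fun Q =>
      sylow_card_eq_prime Q (by rw [h]; norm_num) (by rw [h]; norm_num)), hn13]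
  have hc7 : Nat.card {g : G // orderOf g = 7} = 47853 * 6 := by
    rw [card_orderOf_eq_prime_of_sylow_card (p := 7) (fun Q =>
      sylow_card_eq_prime Q (by rw [h]; norm_num) (by rw [h]; norm_num)), hn7]
  have hsum := sum_card_orderOf_le (G := G) ({3, 7, 13, 409} : Finset ℕ)
  rw [Finset.sum_insert (by decide), Finset.sum_insert (by decide), Finset.sum_insert (by decide),
    Finset.sum_singleton, hc409, hc13, hc7, h] at hsum
  have h3bound : Nat.card {g : G // orderOf g = 3} ≤ 74439 := by omega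
  obtain ⟨P⟩ : Nonempty (Sylow 409 G) := inferInstance
  obtain ⟨hPcard, hidx, hPbot, hPtop, _⟩ := simple_sylow_basic (p := 409) 1 2457 le_rfl
    (by rw [h]; norm_num) (by norm_num) (by norm_num) P
  rw [pow_one] at hPcard
  set N := normalizer ((P : Subgroup G) : Set G) with hN
  have hrel : (P : Subgroup G).relIndex N = 3 := by
    have h1 : (P : Subgroup G).relIndex N * Nat.card (Sylow 409 G) = (P : Subgroup G).index :=
      relIndex_normalizer_mul_card_sylow P
    rw [hn409, hidx] at h1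
    omega
  have hNidx : N.index = 819 := by
    rw [← hn409, Sylow.card_eq_index_normalizer P]
    rfl
  have hNcard : Nat.card N = 1227 := by
    have h1 := N.index_mul_card
    rw [hNidx, h] at h1
    omega
  have hprime : ((P : Subgroup G).relIndex (normalizer ((P : Subgroup G) : Set G))).Prime := by
    rw [show (P : Subgroup G).relIndex (normalizer ((P : Subgroup G) : Set G)) = 3 from hrel]
    norm_num
  obtain ⟨x, hx⟩ := exists_prime_orderOf_dvd_card' 3
    (show 3 ∣ Nat.card N by rw [hNcard]; norm_num)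
  have hxo : orderOf (x : G) = 3 := by rw [Subgroup.orderOf_coe, hx]
  have hxP : (x : G) ∉ (P : Subgroup G) := by
    intro hxP
    have h1 := orderOf_dvd_natCard (⟨(x : G), hxP⟩ : (P : Subgroup G))
    rw [Subgroup.orderOf_mk, hxo, hPcard] at h1
    omega
  have hxC : (x : G) ∉ centralizer ((P : Subgroup G) : Set G) := fun hc =>
    hxP (centralizer_sylow_le_of_prime_relIndex P hPcard hPbot hPtop hprime hc)
  have hf1 : Nat.card (fixedBy (G ⧸ N) (x : G)) ≤
      Nat.card (orbitRel.Quotient (P : Subgroup G) (G ⧸ N)) :=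
    card_fixedBy_quotient_normalizer_le_card_orbits P hPcard (x : G) x.2 hxC
  have horb : Nat.card (orbitRel.Quotient (P : Subgroup G) (G ⧸ N)) * 409 =
      Nat.card (Sylow 409 G) + (409 - 1) := card_orbits_quotient_normalizer_mul P hPcard
  rw [hn409] at horb
  have hf : Nat.card (fixedBy (G ⧸ N) (x : G)) ≤ 3 := by omega
  have hform : Nat.card (fixedBy (G ⧸ N) (x : G)) * Nat.card {g : G // IsConj (x : G) g} =
      N.index * Nat.card {g : G // IsConj (x : G) g ∧ g ∈ N} :=
    card_fixedBy_mul_card_isConj N (x : G)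
  rw [hNidx] at hform
  have hconjN : 409 ≤ Nat.card {g : G // IsConj (x : G) g ∧ g ∈ N} := by
    have h1 := card_le_card_isConj_mem N (P : Subgroup G) le_normalizer (x : G) x.2 (by
      intro w hw hxw
      by_contra hw1
      exact hxP (mem_sylow_of_commute_of_prime_relIndex P hPcard hPbot hPtop hprime hw hw1 hxw))
    rwa [hPcard] at h1
  have hcl : Nat.card {g : G // IsConj (x : G) g} ≤ Nat.card {g : G // orderOf g = 3} := by
    have h1 := card_isConj_le_card_orderOf (x : G)
    rwa [hxo] at h1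
  have hfinal : 819 * 409 ≤ 3 * 74439 :=
    calc 819 * 409 ≤ 819 * Nat.card {g : G // IsConj (x : G) g ∧ g ∈ N} :=
          Nat.mul_le_mul_left _ hconjN
      _ = Nat.card (fixedBy (G ⧸ N) (x : G)) * Nat.card {g : G // IsConj (x : G) g} := hform.symm
      _ ≤ 3 * 74439 := Nat.mul_le_mul hf (hcl.trans h3bound)
  norm_num at hfinal

end Cfsg.Agent.S1002
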