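import Mathlib
import Cfsg.Statements.S1003
import Cfsg.Agent.Lib.helper21.SelfCentralizing
import Cfsg.Agent.Lib.helper21.SylowTest
import Cfsg.Agent.Lib.helper21.PrimeOrderCount

set_option autoImplicit false
open Cfsg

namespace Cfsg.Agent.S1003

open Subgroup MulAction Cfsg.Agent.Lib.helper21

variable {G : Type*} [Group G] [Finite G] [IsSimpleGroup G]

theorem card_sylow_seven (h : Nat.card G = 168) : Nat.card (Sylow 7 G) = 8 := by
  have : Fact (Nat.Prime 7) := ⟨by norm_num⟩
  obtain ⟨P⟩ : Nonempty (Sylow 7 G) := inferInstance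
  obtain ⟨hPcard, hidx, hPbot, hPtop, hnc⟩ := simple_sylow_basic (p := 7) 1 24 le_rfl
    (by rw [h]; norm_num) (by norm_num) (by norm_num) P
  have hn1 := card_sylow_ne_one_of_simple P hPbot hPtop
  have hn2 : Nat.card (Sylow 7 G) ≡ 1 [MOD 7] := card_sylow_modEq_one 7 G
  have hn3 : Nat.card (Sylow 7 G) ∣ (P : Subgroup G).index := Sylow.card_dvd_index P
  rw [hidx] at hn3
  have h1 := Nat.le_of_dvd (by norm_num) hn3
  unfold Nat.ModEq at hn2
  generalize Nat.card (Sylow 7 G) = n at *
  interval_cases n <;> omega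

theorem card_sylow_three (h : Nat.card G = 168) : Nat.card (Sylow 3 G) = 28 := by
  classical
  have : Fact (Nat.Prime 7) := ⟨by norm_num⟩
  have : Fact (Nat.Prime 3) := ⟨by norm_num⟩
  have hn7 := card_sylow_seven h
  obtain ⟨P3⟩ : Nonempty (Sylow 3 G) := inferInstance
  have hS3 : ∀ Q : Sylow 3 G, Nat.card (Q : Subgroup G) = 3 := fun Q =>
    sylow_card_eq_prime Q (by rw [h]; norm_num) (by rw [h]; norm_num)
  obtain ⟨hP3card, hidx3, hP3bot, hP3top, hnc⟩ := simple_sylow_basic (p := 3) 1 56 le_rfl
    (by rw [h]; norm_num) (by norm_num) (by norm_num) P3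
  have hn1 := card_sylow_ne_one_of_simple P3 hP3bot hP3top
  have hn2 : Nat.card (Sylow 3 G) ≡ 1 [MOD 3] := card_sylow_modEq_one 3 G
  have hn3 : Nat.card (Sylow 3 G) ∣ (P3 : Subgroup G).index := Sylow.card_dvd_index P3
  have hfact := card_dvd_factorial_card_sylow_of_simple P3 hP3bot hP3top
  have hn728 : Nat.card (Sylow 3 G) = 7 ∨ Nat.card (Sylow 3 G) = 28 := by
    rw [hidx3] at hn3
    rw [h] at hfact
    have h1 := Nat.le_of_dvd (by norm_num) hn3
    unfold Nat.ModEq at hn2
    generalize Nat.card (Sylow 3 G) = n at *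
    interval_cases n <;> first | omega | (exfalso; revert hfact; decide)
  rcases hn728 with h7 | h28
  · exfalso
    obtain ⟨P7⟩ : Nonempty (Sylow 7 G) := inferInstance
    obtain ⟨hP7card, hidx7, hP7bot, hP7top, _⟩ := simple_sylow_basic (p := 7) 1 24 le_rfl
      (by rw [h]; norm_num) (by norm_num) (by norm_num) P7
    rw [pow_one] at hP7card
    set N7 := normalizer ((P7 : Subgroup G) : Set G) with hN7
    have hrel : (P7 : Subgroup G).relIndex N7 = 3 := by
      have h1 : (P7 : Subgroup G).relIndex N7 * Nat.card (Sylow 7 G) = (P7 : Subgroup G).index :=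
        relIndex_normalizer_mul_card_sylow P7
      rw [hn7, hidx7] at h1
      omega
    have hN7idx : N7.index = 8 := by
      rw [← hn7, Sylow.card_eq_index_normalizer P7]
      rfl
    have hN7card : Nat.card N7 = 21 := by
      have h1 := N7.index_mul_card
      rw [hN7idx, h] at h1
      omega
    have hself : ∀ x y : G, y ∈ (P7 : Subgroup G) → y ≠ 1 → x * y = y * x →
        x ∈ (P7 : Subgroup G) := fun x y hy hy1 hxy =>
      mem_sylow_of_commute_of_prime_relIndex P7 hP7card hP7bot hP7top
        (by rw [hrel]; norm_num) hy hy1 hxy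
    have hord : ∀ x ∈ N7, x ∉ (P7 : Subgroup G) → orderOf x = 3 := by
      intro x hxN hxP
      have hnorm : ((P7 : Subgroup G).subgroupOf N7).Normal := normal_in_normalizer
      have h3 : (⟨x, hxN⟩ : N7) ^ 3 ∈ (P7 : Subgroup G).subgroupOf N7 := by
        have h4 := Subgroup.pow_index_mem ((P7 : Subgroup G).subgroupOf N7) (⟨x, hxN⟩ : N7)
        rwa [show ((P7 : Subgroup G).subgroupOf N7).index = 3 from hrel] at h4
      rw [mem_subgroupOf] at h3
      have h3' : x ^ 3 ∈ (P7 : Subgroup G) := h3
      apply orderOf_eq_prime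
      · by_contra hne
        exact hxP (hself x (x ^ 3) h3' hne (by group))
      · rintro rfl
        exact hxP (one_mem _)
    have hcount : Nat.card {g : G // orderOf g = 3} = 14 := by
      rw [card_orderOf_eq_prime_of_sylow_card (p := 3) hS3, h7]
    have hA : (N7 : Set G) \ ((P7 : Subgroup G) : Set G) = {g : G | orderOf g = 3} := by
      apply Set.eq_of_subset_of_ncard_le
      · rintro x ⟨hxN, hxP⟩
        exact hord x hxN hxP
      · have h1 : ({g : G | orderOf g = 3} : Set G).ncard = 14 := by
          rw [← Nat.card_coe_set_eq]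
          exact hcount
        have h2 : ((N7 : Set G) \ ((P7 : Subgroup G) : Set G)).ncard = 14 := by
          rw [Set.ncard_sdiff (show ((P7 : Subgroup G) : Set G) ⊆ (N7 : Set G) from le_normalizer)
            (Set.toFinite _), ← Nat.card_coe_set_eq, ← Nat.card_coe_set_eq]
          have h5 : Nat.card ((N7 : Set G) : Type _) = 21 := hN7card
          have h6 : Nat.card (((P7 : Subgroup G) : Set G) : Type _) = 7 := hP7card
          rw [h5, h6]
        rw [h1, h2]
      · exact Set.toFinite _
    obtain ⟨y, hy⟩ := exists_prime_orderOf_dvd_card' 3 (show 3 ∣ Nat.card G by rw [h]; norm_num)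
    have hall : ∀ g : G, orderOf g = 3 → g ∈ N7 := by
      intro g hg
      have h1 : g ∈ ({g : G | orderOf g = 3} : Set G) := hg
      rw [← hA] at h1
      exact h1.1
    have hnc : normalClosure ({y} : Set G) ≤ N7 := by
      rw [normalClosure, closure_le]
      intro z hz
      rw [Group.mem_conjugatesOfSet_iff] at hz
      obtain ⟨b, hb, hbz⟩ := hz
      rw [Set.mem_singleton_iff] at hb
      subst hb
      obtain ⟨c, rfl⟩ := isConj_iff.mp hbz
      apply hall
      have h1 : c * b * c⁻¹ = c⁻¹⁻¹ * b * c⁻¹ := by rw [inv_inv]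
      rw [h1, orderOf_inv_mul_mul, hy]
    have hncn : (normalClosure ({y} : Set G)).Normal := normalClosure_normal
    rcases hncn.eq_bot_or_eq_top with h1 | h1
    · have h2 : y ∈ normalClosure ({y} : Set G) := subset_normalClosure (Set.mem_singleton y)
      rw [h1, mem_bot] at h2
      rw [h2, orderOf_one] at hy
      omega
    · rw [h1] at hnc
      have h2 : N7 = ⊤ := top_le_iff.mp hnc
      rw [h2, index_top] at hN7idx
      omega
  · exact h28

theorem card_sylow_two (h : Nat.card G = 168) : Nat.card (Sylow 2 G) = 21 := by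
  classical
  have : Fact (Nat.Prime 2) := ⟨by norm_num⟩
  have : Fact (Nat.Prime 3) := ⟨by norm_num⟩
  have hn3 := card_sylow_three h
  obtain ⟨T⟩ : Nonempty (Sylow 2 G) := inferInstance
  obtain ⟨hTcard, hidxT, hTbot, hTtop, _⟩ := simple_sylow_basic (p := 2) 3 21 (by norm_num)
    (by rw [h]; norm_num) (by norm_num) (by norm_num) T
  have hn1 := card_sylow_ne_one_of_simple T hTbot hTtop
  have hn2 : Nat.card (Sylow 2 G) ≡ 1 [MOD 2] := card_sylow_modEq_one 2 G
  have hn3' : Nat.card (Sylow 2 G) ∣ (T : Subgroup G).index := Sylow.card_dvd_index T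
  have hfact := card_dvd_factorial_card_sylow_of_simple T hTbot hTtop
  have hn721 : Nat.card (Sylow 2 G) = 7 ∨ Nat.card (Sylow 2 G) = 21 := by
    rw [hidxT] at hn3'
    rw [h] at hfact
    have h1 := Nat.le_of_dvd (by norm_num) hn3'
    unfold Nat.ModEq at hn2
    generalize Nat.card (Sylow 2 G) = n at *
    interval_cases n <;> first | omega | (exfalso; revert hfact; decide)
  rcases hn721 with h7 | h21
  · exfalso
    have hNTidx : (normalizer ((T : Subgroup G) : Set G)).index = 7 := by
      rw [← h7, Sylow.card_eq_index_normalizer T]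
      rfl
    have hNTcard : Nat.card (normalizer ((T : Subgroup G) : Set G)) = 24 := by
      have h1 := (normalizer ((T : Subgroup G) : Set G)).index_mul_card
      rw [hNTidx, h] at h1
      omega
    obtain ⟨y, hy⟩ := exists_prime_orderOf_dvd_card' 3
      (show 3 ∣ Nat.card (normalizer ((T : Subgroup G) : Set G)) by rw [hNTcard]; norm_num)
    have hyo : orderOf (y : G) = 3 := by rw [Subgroup.orderOf_coe, hy]
    have hpg : IsPGroup 3 (zpowers (y : G)) :=
      IsPGroup.of_card (n := 1) (by rw [Nat.card_zpowers, hyo, pow_one])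
    obtain ⟨P3, hP3⟩ := hpg.exists_le_sylow
    obtain ⟨hP3card, hidx3, hP3bot, hP3top, _⟩ := simple_sylow_basic (p := 3) 1 56 le_rfl
      (by rw [h]; norm_num) (by norm_num) (by norm_num) P3
    rw [pow_one] at hP3card
    have hrel : (P3 : Subgroup G).relIndex (normalizer ((P3 : Subgroup G) : Set G)) = 2 := by
      have h1 := relIndex_normalizer_mul_card_sylow P3
      rw [hn3, hidx3] at h1
      omega
    have hyP : (y : G) ∈ (P3 : Subgroup G) := hP3 (mem_zpowers _)
    have hy1 : (y : G) ≠ 1 := by
      intro h1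
      rw [h1, orderOf_one] at hyo
      omega
    have hmod := card_modEq_one_of_fixedPointFree (T : Subgroup G) y 3 hy (by
      intro t ht hcomm
      have htP : t ∈ (P3 : Subgroup G) :=
        mem_sylow_of_commute_of_prime_relIndex P3 hP3card hP3bot hP3top
          (by rw [hrel]; norm_num) hyP hy1 hcomm.symm
      have h1 : orderOf t ∣ 8 := by
        have h2 := orderOf_dvd_natCard (⟨t, ht⟩ : (T : Subgroup G))
        rwa [Subgroup.orderOf_mk, hTcard] at h2
      have h2 : orderOf t ∣ 3 := by
        have h3 := orderOf_dvd_natCard (⟨t, htP⟩ : (P3 : Subgroup G))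
        rwa [Subgroup.orderOf_mk, hP3card] at h3
      have h3 : orderOf t ∣ Nat.gcd 8 3 := Nat.dvd_gcd h1 h2
      have h4 : orderOf t = 1 := by simpa using h3
      exact orderOf_eq_one_iff.mp h4)
    rw [hTcard] at hmod
    revert hmod
    decide
  · exact h21

/-- A simple group of order 168 has exactly 21 Sylow 2-subgroups, 28 Sylow 3-subgroups and 8 Sylow 7-subgroups. -/
theorem result {G : Type*} [Group G] [Finite G] [IsSimpleGroup G] (h : Nat.card G = 168) : Nat.card (Sylow 2 G) = 21 ∧ Nat.card (Sylow 3 G) = 28 ∧ Nat.card (Sylow 7 G) = 8 :=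
  ⟨card_sylow_two h, card_sylow_three h, card_sylow_seven h⟩

end Cfsg.Agent.S1003
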