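import Cfsg.Statements.S1004
import Cfsg.Agent.Lib.helper6.G168Model
import Cfsg.Agent.Lib.helper42.DihedralEight

set_option autoImplicit false
open Cfsg
open Cfsg.Agent.Lib.helper6.G168Model

namespace Cfsg.Agent.S1004

theorem normS8 : ∀ c ∈ L168, (∀ s ∈ S8, ∃ s' ∈ S8, cmul c s = cmul s' c) → c ∈ S8 := by
  decide +kernel

theorem centerS8 : ∀ c ∈ S8, c ≠ idC → (∀ s ∈ S8, cmul s c = cmul c s) → c = 10985779 := by
  decide +kernel

theorem centZ0 : ∀ c ∈ L168, cmul 10985779 c = cmul c 10985779 ↔ c ∈ S8 := by decide +kernel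

/-- Let G be a simple group of order 168 and T a Sylow 2-subgroup. Then T is dihedral of order 8, T is its own normalizer, and T is the centralizer of any non-identity element of T that commutes with every element of T. -/
theorem result {G : Type*} [Group G] [Finite G] [IsSimpleGroup G] (h : Nat.card G = 168) (T : Sylow 2 G) : Nonempty (↥(T : Subgroup G) ≃* DihedralGroup 4) ∧ Subgroup.normalizer ((T : Subgroup G) : Set G) = T ∧ ∀ z : G, z ∈ (T : Subgroup G) → z ≠ 1 → (∀ t ∈ (T : Subgroup G), t * z = z * t) → Subgroup.centralizer ({z} : Set G) = T := by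
  obtain ⟨f, M, hT⟩ := exists_model_sylow h T
  have hTcard : Nat.card (T : Subgroup G) = 8 :=
    M.card_of_list S8 S8_nodup S8_sub (fun g => g ∈ (T : Subgroup G)) hT
  refine ⟨?_, ?_, ?_⟩
  · obtain ⟨a, ha⟩ := M.surj 3618874 (by decide +kernel)
    obtain ⟨b, hb⟩ := M.surj 4346846 (by decide +kernel)
    have haT : a ∈ (T : Subgroup G) := (hT a).mpr (by rw [ha]; decide +kernel)
    have hbT : b ∈ (T : Subgroup G) := (hT b).mpr (by rw [hb]; decide +kernel)
    apply Cfsg.Agent.Lib.helper42.nonempty_mulEquiv_dihedral_of_card_eight_aux hTcard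
      ⟨a, haT⟩ ⟨b, hbT⟩
    · apply Subtype.ext
      show a * a = 1
      rw [M.eq_one_iff, M.mul, ha]
      decide +kernel
    · apply Subtype.ext
      show b * b = 1
      rw [M.eq_one_iff, M.mul, hb]
      decide +kernel
    · intro hab
      have h1 : a * b = b * a := congrArg Subtype.val hab
      have h2 := congrArg f h1
      rw [M.mul, M.mul, ha, hb] at h2
      revert h2
      decide +kernel
  · apply le_antisymm
    · intro x hx
      rw [hT]
      have key : ∀ s ∈ S8, ∃ s' ∈ S8, cmul (f x) s = cmul s' (f x) := by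
        intro s hs
        obtain ⟨n, rfl⟩ := M.surj s (S8_sub s hs)
        have hn : n ∈ (T : Subgroup G) := (hT n).mpr hs
        have h3 := (Subgroup.mem_normalizer_iff.mp hx n).mp hn
        refine ⟨f (x * n * x⁻¹), (hT _).mp h3, ?_⟩
        rw [← M.mul, ← M.mul]
        congr 1
        group
      exact normS8 (f x) (M.mem x) key
    · exact Subgroup.le_normalizer
  · intro z hz hz1 hzc
    have hz0 : f z = 10985779 := by
      apply centerS8 (f z) ((hT z).mp hz) (fun h => hz1 ((M.eq_one_iff z).mpr h))
      intro s hs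
      obtain ⟨t, rfl⟩ := M.surj s (S8_sub s hs)
      rw [← M.mul, ← M.mul, hzc t ((hT t).mpr hs)]
    ext x
    rw [Subgroup.mem_centralizer_iff, hT]
    constructor
    · intro hx
      have h1 := hx z rfl
      have h2 := congrArg f h1
      rw [M.mul, M.mul, hz0] at h2
      exact (centZ0 (f x) (M.mem x)).mp h2
    · intro hx y hy
      rw [Set.mem_singleton_iff] at hy
      subst hy
      apply M.inj
      rw [M.mul, M.mul, hz0]
      exact (centZ0 (f x) (M.mem x)).mpr hx

end Cfsg.Agent.S1004
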