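import Cfsg.Statements.S1006
import Cfsg.Agent.Lib.helper6.G168Model

set_option autoImplicit false
open Cfsg
open Cfsg.Agent.Lib.helper6.G168Model

namespace Cfsg.Agent.S1006

/-- The two classes of codes of order `7`. -/
def C7a : List ℕ := [
  380282, 1392076, 1439921, 3018414, 3313114, 3397142, 5568388, 5803805,
  6243013, 6465655, 6880048, 7061614, 9169419, 10081337, 10392963, 11744208,
  12136551, 12346019, 12725965, 12855143, 13505912, 14899409, 14969626, 15536556]

def C7b : List ℕ := [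
  442134, 1808723, 1906485, 2968119, 3832514, 4021472, 5169724, 5179727,
  5761112, 6347964, 7873516, 8148238, 8761256, 8862343, 9111529, 10538899,
  10643066, 11661706, 13299937, 13865117, 13911513, 15240547, 15835701, 16135238]

theorem C7_cases : ∀ a ∈ L168, cord a = 7 → a ∈ C7a ∨ a ∈ C7b := by decide +kernel

theorem forall_mem_chunks {α : Type*} (P : α → Prop) (l : List α) (n : ℕ)
    (h1 : ∀ c ∈ l.take n, P c) (h2 : ∀ c ∈ l.drop n, P c) : ∀ c ∈ l, P c := by
  intro c hc
  rw [← List.take_append_drop n l, List.mem_append] at hc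
  rcases hc with h | h
  · exact h1 c h
  · exact h2 c h

theorem C7a_closed_a : ∀ a ∈ (C7a.take 12).take 6, ∀ c ∈ L168, ∃ b ∈ C7a, cmul c a = cmul b c := by decide +kernel

theorem C7a_closed_b : ∀ a ∈ (C7a.take 12).drop 6, ∀ c ∈ L168, ∃ b ∈ C7a, cmul c a = cmul b c := by decide +kernel

theorem C7a_closed_c : ∀ a ∈ (C7a.drop 12).take 6, ∀ c ∈ L168, ∃ b ∈ C7a, cmul c a = cmul b c := by decide +kernel

theorem C7a_closed_d : ∀ a ∈ (C7a.drop 12).drop 6, ∀ c ∈ L168, ∃ b ∈ C7a, cmul c a = cmul b c := by decide +kernel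

theorem C7a_closed : ∀ a ∈ C7a, ∀ c ∈ L168, ∃ b ∈ C7a, cmul c a = cmul b c :=
  forall_mem_chunks _ C7a 12 (forall_mem_chunks _ _ 6 C7a_closed_a C7a_closed_b)
    (forall_mem_chunks _ _ 6 C7a_closed_c C7a_closed_d)

theorem C7b_closed_a : ∀ a ∈ (C7b.take 12).take 6, ∀ c ∈ L168, ∃ b ∈ C7b, cmul c a = cmul b c := by decide +kernel

theorem C7b_closed_b : ∀ a ∈ (C7b.take 12).drop 6, ∀ c ∈ L168, ∃ b ∈ C7b, cmul c a = cmul b c := by decide +kernel

theorem C7b_closed_c : ∀ a ∈ (C7b.drop 12).take 6, ∀ c ∈ L168, ∃ b ∈ C7b, cmul c a = cmul b c := by decide +kernel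

theorem C7b_closed_d : ∀ a ∈ (C7b.drop 12).drop 6, ∀ c ∈ L168, ∃ b ∈ C7b, cmul c a = cmul b c := by decide +kernel

theorem C7b_closed : ∀ a ∈ C7b, ∀ c ∈ L168, ∃ b ∈ C7b, cmul c a = cmul b c :=
  forall_mem_chunks _ C7b 12 (forall_mem_chunks _ _ 6 C7b_closed_a C7b_closed_b)
    (forall_mem_chunks _ _ 6 C7b_closed_c C7b_closed_d)

theorem C7a_conj : ∀ a ∈ C7a, cconj 380282 a = true := by decide +kernel

theorem C7b_conj : ∀ a ∈ C7b, cconj 442134 a = true := by decide +kernel

theorem C7a_inv : ∀ a ∈ C7a, ∀ b ∈ L168, cmul a b = idC → b ∈ C7b := by decide +kernel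

theorem C7b_inv : ∀ a ∈ C7b, ∀ b ∈ L168, cmul a b = idC → b ∈ C7a := by decide +kernel

theorem C7_disj : ∀ a ∈ C7a, a ∉ C7b := by decide +kernel

theorem C7_disj' : ∀ a ∈ C7b, a ∉ C7a := by decide +kernel

/-- In a simple group of order 168 there are 56 elements of order 3, all conjugate; 42 elements of order 4, all conjugate; and 48 elements of order 7 falling into two conjugacy classes of size 24, an element of order 7 not being conjugate to its inverse. -/
theorem result {G : Type*} [Group G] [Finite G] [IsSimpleGroup G] (h : Nat.card G = 168) : Nat.card {g : G // orderOf g = 3} = 56 ∧ (∀ s t : G, orderOf s = 3 → orderOf t = 3 → IsConj s t) ∧ Nat.card {g : G // orderOf g = 4} = 42 ∧ (∀ s t : G, orderOf s = 4 → orderOf t = 4 → IsConj s t) ∧ Nat.card {g : G // orderOf g = 7} = 48 ∧ ∀ x : G, orderOf x = 7 → Nat.card {g : G // IsConj x g} = 24 ∧ ¬ IsConj x x⁻¹ := by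
  obtain ⟨f, M⟩ := exists_model h
  refine ⟨?_, ?_, ?_, ?_, ?_, ?_⟩
  · rw [M.card_filter (fun c => cord c == 3) (fun g => orderOf g = 3)
      (fun g => by rw [M.orderOf_eq, beq_iff_eq])]
    decide +kernel
  · exact M.isConj_of_rep 3 1033613 (by decide +kernel) (rep_check 3 1033613 (by decide +kernel))
  · rw [M.card_filter (fun c => cord c == 4) (fun g => orderOf g = 4)
      (fun g => by rw [M.orderOf_eq, beq_iff_eq])]
    decide +kernel
  · exact M.isConj_of_rep 4 650853 (by decide +kernel) (rep_check 4 650853 (by decide +kernel))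
  · rw [M.card_filter (fun c => cord c == 7) (fun g => orderOf g = 7)
      (fun g => by rw [M.orderOf_eq, beq_iff_eq])]
    decide +kernel
  · intro x hx
    have hx7 : cord (f x) = 7 := by rw [← M.orderOf_eq, hx]
    rcases C7_cases (f x) (M.mem x) hx7 with hxa | hxb
    · have := M.class_card_and_not_conj_inv C7a C7b 380282 (by decide +kernel)
        (by decide +kernel) (by decide +kernel) C7a_closed C7a_conj C7a_inv C7_disj x hxa
      exact this
    · have := M.class_card_and_not_conj_inv C7b C7a 442134 (by decide +kernel)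
        (by decide +kernel) (by decide +kernel) C7b_closed C7b_conj C7b_inv C7_disj' x hxb
      exact this

end Cfsg.Agent.S1006
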