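import Cfsg.Statements.S1008
import Cfsg.Agent.Lib.helper6.G168Max

set_option autoImplicit false
open Cfsg
open Cfsg.Agent.Lib.helper6.G168Model
open Cfsg.Agent.Lib.helper6.CodeModel

namespace Cfsg.Agent.S1008

section Aux

variable {G : Type*} [Group G] [Finite G] [IsSimpleGroup G]

/-- A subgroup of order 24 of a group of order 168 is a coatom. -/
theorem coatom_of_card (h : Nat.card G = 168) (X : Subgroup G) (hX : Nat.card X = 24) :
    IsCoatom X := by
  refine ⟨?_, ?_⟩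
  · intro he
    rw [he, Subgroup.card_top, h] at hX
    omega
  · intro K hK
    have h1 : Nat.card X ∣ Nat.card K := Subgroup.card_dvd_of_le hK.le
    have h2 : Nat.card K ∣ Nat.card G := Subgroup.card_subgroup_dvd_card K
    rw [hX] at h1
    rw [h] at h2
    have h3 : Nat.card K ≠ 24 := by
      intro h4
      have := Subgroup.eq_of_le_of_card_ge hK.le (by rw [hX, h4])
      exact hK.ne this
    apply (Subgroup.card_eq_iff_eq_top K).mp
    rw [h]
    obtain ⟨m, hm⟩ := h1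
    rw [hm] at h2 h3 ⊢
    have h5 : m ∣ 7 := (Nat.mul_dvd_mul_iff_left (by norm_num : 0 < 24)).mp (by simpa using h2)
    rcases (Nat.dvd_prime (by norm_num : Nat.Prime 7)).mp h5 with rfl | rfl
    · exact absurd rfl h3
    · rfl

/-- Type-7 coatoms have order 21 and are not commutative. -/
theorem type7_props {f1 : G → ℕ} (M1 : Model f1) (H : Subgroup G)
    (hiff : ∀ y, y ∈ H ↔ f1 y ∈ N7) : Nat.card H = 21 ∧ ¬ IsMulCommutative ↥H := by
  refine ⟨M1.card_of_list N7 N7_nodup N7_sub (fun g => g ∈ H) hiff, ?_⟩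
  intro hc
  obtain ⟨hne, h1, h2⟩ := N7_noncomm
  obtain ⟨u, hu⟩ := M1.surj _ (N7_sub _ h1)
  obtain ⟨v, hv⟩ := M1.surj _ (N7_sub _ h2)
  have huH : u ∈ H := (hiff u).mpr (by rw [hu]; exact h1)
  have hvH : v ∈ H := (hiff v).mpr (by rw [hv]; exact h2)
  have h3 : (⟨u, huH⟩ : H) * ⟨v, hvH⟩ = ⟨v, hvH⟩ * ⟨u, huH⟩ := hc.is_comm.comm _ _
  have h4 : u * v = v * u := congrArg Subtype.val h3
  apply hne
  rw [← hu, ← hv, ← M1.mul, ← M1.mul, h4]

/-- Type-1 and type-2 coatoms are isomorphic to the symmetric group of degree 4. -/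
theorem type1_iso {f1 : G → ℕ} (M1 : Model f1) (H : Subgroup G)
    (hiff : ∀ y, y ∈ H ↔ f1 y ∈ N1) : Nonempty (↥H ≃* Equiv.Perm (Fin 4)) := by
  obtain ⟨hN, ⟨e⟩⟩ := M1.normalizer_K1 (M1.sub K1 idC_mem_K1 K1_closed)
    (fun x => M1.mem_sub K1 idC_mem_K1 K1_closed x)
  have hEq : H = Subgroup.normalizer ((M1.sub K1 idC_mem_K1 K1_closed : Subgroup G) : Set G) := by
    ext y
    rw [hiff, hN]
  rw [hEq]
  exact ⟨e⟩

theorem type2_iso {f1 : G → ℕ} (M1 : Model f1) (H : Subgroup G)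
    (hiff : ∀ y, y ∈ H ↔ f1 y ∈ N2) : Nonempty (↥H ≃* Equiv.Perm (Fin 4)) := by
  obtain ⟨hN, ⟨e⟩⟩ := M1.normalizer_K2 (M1.sub K2 idC_mem_K2 K2_closed)
    (fun x => M1.mem_sub K2 idC_mem_K2 K2_closed x)
  have hEq : H = Subgroup.normalizer ((M1.sub K2 idC_mem_K2 K2_closed : Subgroup G) : Set G) := by
    ext y
    rw [hiff, hN]
  rw [hEq]
  exact ⟨e⟩

end Aux

/-- In a simple group of order 168 every maximal subgroup is either isomorphic to the symmetric group of degree 4 or non-abelian of order 21; the maximal subgroups of order 21 form one conjugacy class and those isomorphic to the symmetric group of degree 4 form exactly two conjugacy classes. -/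
theorem result {G : Type*} [Group G] [Finite G] [IsSimpleGroup G] (h : Nat.card G = 168) : (∀ M : Subgroup G, IsCoatom M → Nonempty (↥M ≃* Equiv.Perm (Fin 4)) ∨ (Nat.card ↥M = 21 ∧ ¬ IsMulCommutative ↥M)) ∧ (∀ M M' : Subgroup G, IsCoatom M → IsCoatom M' → Nat.card ↥M = 21 → Nat.card ↥M' = 21 → ∃ g : G, M' = M.map (MulAut.conj g).toMonoidHom) ∧ ∃ M₁ M₂ : Subgroup G, IsCoatom M₁ ∧ IsCoatom M₂ ∧ Nonempty (↥M₁ ≃* Equiv.Perm (Fin 4)) ∧ Nonempty (↥M₂ ≃* Equiv.Perm (Fin 4)) ∧ (∀ g : G, M₂ ≠ M₁.map (MulAut.conj g).toMonoidHom) ∧ ∀ M : Subgroup G, IsCoatom M → Nonempty (↥M ≃* Equiv.Perm (Fin 4)) → ∃ g : G, M = M₁.map (MulAut.conj g).toMonoidHom ∨ M = M₂.map (MulAut.conj g).toMonoidHom := by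
  obtain ⟨f, M⟩ := exists_model h
  have hS4card : ∀ H : Subgroup G, Nonempty (↥H ≃* Equiv.Perm (Fin 4)) → Nat.card H = 24 := by
    rintro H ⟨e⟩
    rw [Nat.card_congr e.toEquiv, Nat.card_eq_fintype_card, Fintype.card_perm, Fintype.card_fin]
    rfl
  refine ⟨?_, ?_, ?_⟩
  · intro H hH
    obtain ⟨g, hg | hg | hg⟩ := coatom_cases h M H hH
    · obtain ⟨f1, M1, hf1⟩ := M.exists_conj g
      exact Or.inr (type7_props M1 H (fun y => by rw [hf1]; exact hg y))
    · obtain ⟨f1, M1, hf1⟩ := M.exists_conj g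
      exact Or.inl (type1_iso M1 H (fun y => by rw [hf1]; exact hg y))
    · obtain ⟨f1, M1, hf1⟩ := M.exists_conj g
      exact Or.inl (type2_iso M1 H (fun y => by rw [hf1]; exact hg y))
  · intro H H' hH hH' hc hc'
    have key : ∀ K : Subgroup G, IsCoatom K → Nat.card K = 21 →
        ∃ g : G, ∀ y, y ∈ K ↔ f (g * y * g⁻¹) ∈ N7 := by
      intro K hK hcK
      obtain ⟨g, hg | hg | hg⟩ := coatom_cases h M K hK
      · exact ⟨g, hg⟩
      · obtain ⟨f1, M1, hf1⟩ := M.exists_conj g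
        have := hS4card K (type1_iso M1 K (fun y => by rw [hf1]; exact hg y))
        omega
      · obtain ⟨f1, M1, hf1⟩ := M.exists_conj g
        have := hS4card K (type2_iso M1 K (fun y => by rw [hf1]; exact hg y))
        omega
    obtain ⟨g, hg⟩ := key H hH hc
    obtain ⟨g', hg'⟩ := key H' hH' hc'
    refine ⟨g'⁻¹ * g, ?_⟩
    ext y
    rw [mem_map_conj, hg', hg]
    have e1 : g * ((g'⁻¹ * g)⁻¹ * y * (g'⁻¹ * g)) * g⁻¹ = g' * y * g'⁻¹ := by group
    rw [e1]
  · have hc1 : Nat.card (M.sub N1 idC_mem_N1 N1_closed) = 24 :=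
      M.card_of_list N1 N1_nodup N1_sub (fun g => g ∈ M.sub N1 idC_mem_N1 N1_closed)
        (fun g => M.mem_sub N1 idC_mem_N1 N1_closed g)
    have hc2 : Nat.card (M.sub N2 idC_mem_N2 N2_closed) = 24 :=
      M.card_of_list N2 N2_nodup N2_sub (fun g => g ∈ M.sub N2 idC_mem_N2 N2_closed)
        (fun g => M.mem_sub N2 idC_mem_N2 N2_closed g)
    refine ⟨M.sub N1 idC_mem_N1 N1_closed, M.sub N2 idC_mem_N2 N2_closed,
      coatom_of_card h _ hc1, coatom_of_card h _ hc2,
      type1_iso M _ (fun y => M.mem_sub N1 idC_mem_N1 N1_closed y),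
      type2_iso M _ (fun y => M.mem_sub N2 idC_mem_N2 N2_closed y), ?_, ?_⟩
    · intro g heq
      apply N1_not_conj_N2 (f g) (M.mem g)
      intro n hn
      obtain ⟨y, rfl⟩ := M.surj n (N1_sub n hn)
      have hy : y ∈ M.sub N1 idC_mem_N1 N1_closed := hn
      have h1 : g * y * g⁻¹ ∈ M.sub N2 idC_mem_N2 N2_closed := by
        rw [heq, mem_map_conj]
        have e1 : g⁻¹ * (g * y * g⁻¹) * g = y := by group
        rw [e1]
        exact hy
      refine ⟨f (g * y * g⁻¹), h1, ?_⟩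
      rw [← M.mul, ← M.mul]
      congr 1
      group
    · intro H hH hiso
      have hcH := hS4card H hiso
      obtain ⟨g, hg | hg | hg⟩ := coatom_cases h M H hH
      · obtain ⟨f1, M1, hf1⟩ := M.exists_conj g
        have := (type7_props M1 H (fun y => by rw [hf1]; exact hg y)).1
        omega
      · refine ⟨g⁻¹, Or.inl ?_⟩
        ext y
        rw [mem_map_conj, inv_inv, hg]
        exact Iff.rfl
      · refine ⟨g⁻¹, Or.inr ?_⟩
        ext y
        rw [mem_map_conj, inv_inv, hg]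
        exact Iff.rfl

end Cfsg.Agent.S1008
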