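import Mathlib
import Cfsg.Statements.S1009
import Cfsg.Agent.Lib.helper21.SylowConj

set_option autoImplicit false
open Cfsg

namespace Cfsg.Agent.S1009

open Subgroup

/-- Brodkey's Theorem: if a finite group has abelian Sylow p-subgroups, then there are two Sylow p-subgroups whose intersection equals the intersection of all Sylow p-subgroups. -/
theorem result {G : Type*} [Group G] [Finite G] (p : ℕ) [Fact p.Prime] (hab : ∀ P : Sylow p G, IsMulCommutative ↥(P : Subgroup G)) : ∃ P Q : Sylow p G, (P : Subgroup G) ⊓ (Q : Subgroup G) = ⨅ R : Sylow p G, (R : Subgroup G) := by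
  obtain ⟨⟨P, Q⟩, hmin⟩ := Finite.exists_min
    (fun PQ : Sylow p G × Sylow p G => Nat.card ((PQ.1 : Subgroup G) ⊓ (PQ.2 : Subgroup G) : Subgroup G))
  refine ⟨P, Q, ?_⟩
  have hcomm : ∀ (S : Sylow p G) (a b : G), a ∈ (S : Subgroup G) → b ∈ (S : Subgroup G) →
      a * b = b * a := by
    intro S a b ha hb
    have := (hab S).is_comm.comm ⟨a, ha⟩ ⟨b, hb⟩
    exact congrArg Subtype.val this
  set D : Subgroup G := (P : Subgroup G) ⊓ (Q : Subgroup G) with hD
  set N : Subgroup G := normalizer (D : Set G) with hN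
  have hPN : (P : Subgroup G) ≤ N := by
    refine le_trans ?_ (centralizer_le_normalizer (D : Set G))
    intro a ha
    rw [mem_centralizer_iff]
    intro h hh
    exact hcomm P h a hh.1 ha
  have hQN : (Q : Subgroup G) ≤ N := by
    refine le_trans ?_ (centralizer_le_normalizer (D : Set G))
    intro a ha
    rw [mem_centralizer_iff]
    intro h hh
    exact hcomm Q h a hh.2 ha
  have hDR : ∀ R : Sylow p G, D ≤ (R : Subgroup G) := by
    intro R
    have hRN : IsPGroup p ((R : Subgroup G) ⊓ N : Subgroup G) := R.2.to_le inf_le_left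
    obtain ⟨x, hxN, hx⟩ := Cfsg.Agent.Lib.helper21.exists_conj_le_sylow_of_le P N hPN
      ((R : Subgroup G) ⊓ N) hRN inf_le_right
    have hmem : ∀ z : G, z ∈ ((x⁻¹ • R : Sylow p G) : Subgroup G) ↔ x * z * x⁻¹ ∈ (R : Subgroup G) := by
      intro z
      rw [Sylow.coe_subgroup_smul, Subgroup.mem_pointwise_smul_iff_inv_smul_mem]
      simp [MulAut.smul_def]
    have hle : ((x⁻¹ • R : Sylow p G) : Subgroup G) ⊓ (Q : Subgroup G) ≤ D := by
      intro z hz
      refine ⟨?_, hz.2⟩
      have h1 : x * z * x⁻¹ ∈ (R : Subgroup G) := (hmem z).mp hz.1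
      have h2 : x * z * x⁻¹ ∈ N := N.mul_mem (N.mul_mem hxN (hQN hz.2)) (N.inv_mem hxN)
      have h3 := hx _ ⟨h1, h2⟩
      have h4 : x⁻¹ * (x * z * x⁻¹) * x = z := by group
      rw [h4] at h3
      exact h3
    have hcard := hmin (x⁻¹ • R, Q)
    have heq : ((x⁻¹ • R : Sylow p G) : Subgroup G) ⊓ (Q : Subgroup G) = D :=
      Subgroup.eq_of_le_of_card_ge hle hcard
    intro d hd
    have h1 : x⁻¹ * d * x ∈ D := by
      have := (mem_normalizer_iff.mp (N.inv_mem hxN) d).mp hd
      rwa [inv_inv] at this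
    rw [← heq] at h1
    have h2 := (hmem _).mp h1.1
    have h3 : x * (x⁻¹ * d * x) * x⁻¹ = d := by group
    rw [h3] at h2
    exact h2
  apply le_antisymm
  · exact le_iInf hDR
  · exact le_inf (iInf_le _ P) (iInf_le _ Q)

end Cfsg.Agent.S1009
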