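import Cfsg.Statements.S4341
import Cfsg.Agent.Lib.helper76.Hall

set_option autoImplicit false
open Cfsg

namespace Cfsg.Agent.S4341

open Cfsg.Agent.Lib.helper76

/-- Let K be a normal subgroup of a finite group G, p a prime and P a Sylow p-subgroup of G; let N be the normalizer of P ∩ K inside the subgroup PK. Then the number of Sylow p-subgroups of G equals the product of the numbers of Sylow p-subgroups of G/K, of K, and of N/(P ∩ K). (The normality of P ∩ K in N, which always holds, is assumed as a hypothesis so that the quotient can be formed.) -/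
theorem result {G : Type*} [Group G] [Finite G]
    (p : ℕ) [Fact p.Prime] (K : Subgroup G) [K.Normal] (P : Sylow p G) (N : Subgroup G)
    (hN : N = ((P : Subgroup G) ⊔ K) ⊓ Subgroup.normalizer (((P : Subgroup G) ⊓ K : Subgroup G) : Set G))
    [hn : (((P : Subgroup G) ⊓ K).subgroupOf N).Normal] :
    Nat.card (Sylow p G) =
      Nat.card (Sylow p (G ⧸ K)) * Nat.card (Sylow p K) * Nat.card (Sylow p (N ⧸ ((P : Subgroup G) ⊓ K).subgroupOf N)) := by
  set T : Subgroup G := Subgroup.normalizer (((P : Subgroup G) ⊓ K : Subgroup G) : Set G) with hT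
  set NP : Subgroup G := Subgroup.normalizer (P : Set G) with hNP
  have hNPT : NP ≤ T := by
    have h1 := Subgroup.inf_normalizer_le_normalizer_inf (H := (P : Subgroup G)) (K := K)
    rw [Subgroup.normalizer_eq_top (H := K), inf_top_eq] at h1
    exact h1
  have hPNP : (P : Subgroup G) ≤ NP := Subgroup.le_normalizer (H := (P : Subgroup G))
  have hPT : (P : Subgroup G) ≤ T := hPNP.trans hNPT
  have hPN : (P : Subgroup G) ≤ N := by
    rw [hN]; exact le_inf le_sup_left hPT
  -- the quotient by the normal p-subgroup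
  have hD : IsPGroup p (((P : Subgroup G) ⊓ K).subgroupOf N) :=
    (P.isPGroup'.to_le inf_le_left).comap_subtype
  have h3 : Nat.card (Sylow p (N ⧸ ((P : Subgroup G) ⊓ K).subgroupOf N)) = NP.relIndex N := by
    rw [card_sylow_quotient_of_isPGroup p _ hD, card_sylow_subgroup_eq_relIndex p P N hPN]
  -- Dedekind
  have hNeq : N = (P : Subgroup G) ⊔ (K ⊓ T) := by
    apply le_antisymm
    · intro x hx
      rw [hN] at hx
      obtain ⟨hx1, hx2⟩ := hx
      obtain ⟨a, ha, k, hk, rfl⟩ := Subgroup.mem_sup_of_normal_right.mp hx1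
      have hkT : k ∈ T := by
        have : k = a⁻¹ * (a * k) := by group
        rw [this]
        exact mul_mem (inv_mem (hPT ha)) hx2
      exact mul_mem (Subgroup.mem_sup_left ha) (Subgroup.mem_sup_right ⟨hk, hkT⟩)
    · rw [hN]
      exact sup_le (le_inf le_sup_left hPT) (le_inf (inf_le_left.trans le_sup_right) inf_le_right)
  have hPnorm : (P : Subgroup G) ≤ Subgroup.normalizer ((K ⊓ T : Subgroup G) : Set G) := by
    have h1 := Subgroup.inf_normalizer_le_normalizer_inf (H := K) (K := T)
    rw [Subgroup.normalizer_eq_top (H := K), top_inf_eq] at h1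
    exact (hPT.trans Subgroup.le_normalizer).trans h1
  have h4 : NP.relIndex N = NP.relIndex (K ⊓ T) := by
    rw [hNeq]
    exact relIndex_sup_eq_of_le (P : Subgroup G) (K ⊓ T) NP hPNP hPnorm
  have h5 : Nat.card (Sylow p K) = T.relIndex K := card_sylow_normal_eq_relIndex p P K
  have h6 : NP.relIndex (T ⊓ K) * T.relIndex K = NP.relIndex K := by
    rw [Subgroup.relIndex_inf_mul_relIndex, inf_eq_left.mpr hNPT]
  have h7 := card_sylow_eq_card_quotient_mul_relIndex p P K
  rw [h7, h3, h4, h5, mul_assoc, ← h6, inf_comm K T]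
  ring

end Cfsg.Agent.S4341
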