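import Cfsg.Statements.S4303
import Cfsg.Agent.S4341
import Cfsg.Agent.Lib.helper76.CoprimeSylow

set_option autoImplicit false
universe u
open Cfsg

namespace Cfsg.Agent.S4303

open Cfsg.Agent.Lib.helper76

/-- The admissible factors. -/
def Good (p : ℕ) (m : ℕ) : Prop :=
  (IsPrimePow m ∧ m % p = 1) ∨
    ∃ (S : Type u) (_ : Group S) (_ : Finite S), IsSimpleGroup S ∧ m = Nat.card (Sylow p S)

/-- Being a product of admissible factors. -/
def Fac (p : ℕ) (n : ℕ) : Prop := ∃ l : List ℕ, l.prod = n ∧ ∀ m ∈ l, Good.{u} p m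

theorem fac_one (p : ℕ) : Fac.{u} p 1 := ⟨[], rfl, by simp⟩

theorem fac_mul (p a b : ℕ) (ha : Fac.{u} p a) (hb : Fac.{u} p b) : Fac.{u} p (a * b) := by
  obtain ⟨l₁, h₁, g₁⟩ := ha
  obtain ⟨l₂, h₂, g₂⟩ := hb
  refine ⟨l₁ ++ l₂, by rw [List.prod_append, h₁, h₂], ?_⟩
  intro m hm
  rcases List.mem_append.mp hm with h | h
  · exact g₁ m h
  · exact g₂ m h

/-- The degenerate case: a normal `p`-complement. -/
theorem fac_of_isCompl {G : Type u} [Group G] [Finite G] (p : ℕ) [Fact p.Prime] (P : Sylow p G)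
    (K : Subgroup G) [K.Normal] (hPK : (P : Subgroup G) ⊓ K = ⊥)
    (hPK' : (P : Subgroup G) ⊔ K = ⊤) : Fac.{u} p (Nat.card (Sylow p G)) := by
  set n := Nat.card (Sylow p G) with hn
  have hn0 : n ≠ 0 := Nat.card_pos.ne'
  have hnp : n ≡ 1 [MOD p] := card_sylow_modEq_one p G
  refine ⟨n.primeFactors.toList.map (fun q => q ^ n.factorization q), ?_, ?_⟩
  · rw [Finset.prod_map_toList]
    exact Nat.prod_factorization_pow_eq_self hn0
  · intro m hm
    rw [List.mem_map] at hm
    obtain ⟨q, hq, rfl⟩ := hm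
    rw [Finset.mem_toList] at hq
    have hqp : q.Prime := Nat.prime_of_mem_primeFactors hq
    have hqd : q ∣ n := Nat.dvd_of_mem_primeFactors hq
    have : Fact q.Prime := ⟨hqp⟩
    left
    constructor
    · exact ⟨q, n.factorization q, hqp.prime, hqp.factorization_pos_of_dvd hn0 hqd, rfl⟩
    · have hne : q ≠ p := by
        rintro rfl
        have h0 : n ≡ 0 [MOD q] := Nat.modEq_zero_iff_dvd.mpr hqd
        have h1 : q ∣ 1 := Nat.modEq_zero_iff_dvd.mp (hnp.symm.trans h0)
        exact hqp.one_lt.ne' (Nat.dvd_one.mp h1)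
      have := pow_factorization_card_sylow_modEq_one_of_isCompl p P K hPK hPK' q hne
      have h1 : (1 : ℕ) % p = 1 := Nat.mod_eq_of_lt (Fact.out : p.Prime).one_lt
      rw [← h1]; exact this

theorem index_lt_card {G : Type*} [Group G] [Finite G] (K : Subgroup G) (hK : K ≠ ⊥) :
    K.index < Nat.card G := by
  have h1 : 1 < Nat.card K := (Subgroup.one_lt_card_iff_ne_bot K).mpr hK
  have h2 : K.index * Nat.card K = Nat.card G := K.index_mul_card
  have h3 : 0 < K.index := Nat.pos_of_ne_zero Subgroup.index_ne_zero_of_finite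
  nlinarith

theorem card_lt_card {G : Type*} [Group G] [Finite G] (K : Subgroup G) (hK : K ≠ ⊤) :
    Nat.card K < Nat.card G := by
  have h1 : K.index ≠ 1 := fun h => hK (Subgroup.index_eq_one.mp h)
  have h2 : K.index * Nat.card K = Nat.card G := K.index_mul_card
  have h3 : 0 < K.index := Nat.pos_of_ne_zero Subgroup.index_ne_zero_of_finite
  have h4 : 0 < Nat.card K := Nat.card_pos
  have h5 : 2 ≤ K.index := by omega
  nlinarith

theorem aux (p : ℕ) [Fact p.Prime] : ∀ n : ℕ, ∀ (G : Type u) [Group G] [Finite G],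
    Nat.card G = n → Fac.{u} p (Nat.card (Sylow p G)) := by
  intro n
  induction n using Nat.strong_induction_on with
  | _ n ih =>
  intro G _ _ hG
  by_cases hsub : Subsingleton G
  · have h1 : Nat.card (Sylow p G) = 1 := by
      obtain ⟨P⟩ := (inferInstance : Nonempty (Sylow p G))
      have h := (Sylow.card_dvd_index P).trans (Subgroup.index_dvd_card _)
      rw [Nat.card_of_subsingleton (1 : G)] at h
      exact Nat.dvd_one.mp h
    rw [h1]; exact fac_one p
  by_cases hsimple : IsSimpleGroup G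
  · exact ⟨[Nat.card (Sylow p G)], by simp, fun m hm => by
      rw [List.mem_singleton] at hm
      exact Or.inr ⟨G, inferInstance, inferInstance, hsimple, hm⟩⟩
  have hnt : Nontrivial G := not_subsingleton_iff_nontrivial.mp hsub
  obtain ⟨K, hKn, hK1, hK2⟩ : ∃ K : Subgroup G, K.Normal ∧ K ≠ ⊥ ∧ K ≠ ⊤ := by
    by_contra hcon
    push Not at hcon
    exact hsimple
      { toNontrivial := hnt
        eq_bot_or_eq_top_of_normal := fun K hK => by
          by_contra h
          push Not at h
          exact h.2 (hcon K hK h.1) }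
  have := hKn
  obtain ⟨P⟩ := (inferInstance : Nonempty (Sylow p G))
  by_cases hdeg : (P : Subgroup G) ⊓ K = ⊥ ∧ (P : Subgroup G) ⊔ K = ⊤
  · exact fac_of_isCompl p P K hdeg.1 hdeg.2
  set N : Subgroup G := ((P : Subgroup G) ⊔ K) ⊓
    Subgroup.normalizer (((P : Subgroup G) ⊓ K : Subgroup G) : Set G) with hN
  have hDN : (P : Subgroup G) ⊓ K ≤ N :=
    le_inf (inf_le_left.trans le_sup_left) Subgroup.le_normalizer
  have hn : (((P : Subgroup G) ⊓ K).subgroupOf N).Normal := by
    rw [Subgroup.normal_subgroupOf_iff_le_normalizer hDN]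
    exact inf_le_right
  have key := Cfsg.Agent.S4341.result p K P N hN
  rw [key]
  have h1 : Nat.card (G ⧸ K) < n := by
    rw [← hG]; exact index_lt_card K hK1
  have h2 : Nat.card K < n := by
    rw [← hG]; exact card_lt_card K hK2
  have h3 : Nat.card (N ⧸ ((P : Subgroup G) ⊓ K).subgroupOf N) < n := by
    rw [← hG]
    have hNG : Nat.card N ≤ Nat.card G := Subgroup.card_le_card_group N
    have hle : (((P : Subgroup G) ⊓ K).subgroupOf N).index ≤ Nat.card N :=
      Nat.le_of_dvd Nat.card_pos (Subgroup.index_dvd_card _)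
    by_cases hb : (P : Subgroup G) ⊓ K = ⊥
    · have ht : (P : Subgroup G) ⊔ K ≠ ⊤ := fun h => hdeg ⟨hb, h⟩
      have hNt : N ≠ ⊤ := by
        intro h
        apply ht
        rw [eq_top_iff, ← h]
        exact inf_le_left
      exact lt_of_le_of_lt hle (card_lt_card N hNt)
    · have hDb : ((P : Subgroup G) ⊓ K).subgroupOf N ≠ ⊥ := by
        intro h
        rw [Subgroup.subgroupOf_eq_bot] at h
        exact hb (h.eq_bot_of_le hDN)
      exact lt_of_lt_of_le (index_lt_card _ hDb) hNG
  exact fac_mul p _ _ (fac_mul p _ _ (ih _ h1 (G ⧸ K) rfl) (ih _ h2 K rfl)) (ih _ h3 _ rfl)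

/-- For a finite group `G` and a prime `p`, the number of Sylow `p`-subgroups of `G` is a product of natural numbers each of which is either a prime power congruent to 1 modulo `p` or the number of Sylow `p`-subgroups of some finite simple group. -/
theorem result {G : Type u} [Group G] [Finite G]
    (p : ℕ) [Fact p.Prime] :
    ∃ l : List ℕ, l.prod = Nat.card (Sylow p G) ∧
      ∀ m ∈ l, (IsPrimePow m ∧ m % p = 1) ∨
        ∃ (S : Type u) (_ : Group S) (_ : Finite S), IsSimpleGroup S ∧ m = Nat.card (Sylow p S) := by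
  exact aux p _ G rfl

end Cfsg.Agent.S4303
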