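import Mathlib
import Cfsg.Statements.S1014
import Cfsg.Agent.Lib.helper21.SylowOrbits
import Cfsg.Agent.Lib.helper21.Involution
import Cfsg.Agent.Lib.helper21.SylowCard
import Cfsg.Agent.Lib.helper21.NC
import Cfsg.Agent.Lib.helper21.SimpleIndex

set_option autoImplicit false
open Cfsg

namespace Cfsg.Agent.S1014

open Subgroup MulAction Cfsg.Agent.Lib.helper21

/-- No finite simple group has order 1104 = 2^4 * 3 * 23. -/
theorem result {G : Type*} [Group G] [Finite G] [IsSimpleGroup G] : Nat.card G ≠ 1104 := by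
  intro hcard
  classical
  have : Fact (Nat.Prime 23) := ⟨by norm_num⟩
  obtain ⟨P⟩ : Nonempty (Sylow 23 G) := inferInstance
  have hPc : Nat.card (P : Subgroup G) = 23 :=
    sylow_card_eq_prime P (by rw [hcard]; norm_num) (by rw [hcard]; norm_num)
  have hPbot : (P : Subgroup G) ≠ ⊥ := by
    intro h
    rw [h, Subgroup.card_bot] at hPc
    omega
  have hPtop : (P : Subgroup G) ≠ ⊤ := by
    intro h
    rw [h, Subgroup.card_top, hcard] at hPc
    omega
  have hn1 := card_sylow_ne_one_of_simple P hPbot hPtop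
  have hn2 : Nat.card (Sylow 23 G) ≡ 1 [MOD 23] := card_sylow_modEq_one 23 G
  have hn3 : Nat.card (Sylow 23 G) ∣ (P : Subgroup G).index := Sylow.card_dvd_index P
  have hidx : (P : Subgroup G).index = 48 := by
    have := (P : Subgroup G).index_mul_card
    rw [hPc, hcard] at this
    omega
  have hn : Nat.card (Sylow 23 G) = 24 := by
    rw [hidx] at hn3
    have h1 := Nat.le_of_dvd (by norm_num) hn3
    unfold Nat.ModEq at hn2
    generalize Nat.card (Sylow 23 G) = n at *
    interval_cases n <;> omega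
  set N := normalizer ((P : Subgroup G) : Set G) with hN
  have hNidx : N.index = 24 := by
    rw [← hn, Sylow.card_eq_index_normalizer P]
    rfl
  have hNc : Nat.card N = 46 := by
    have := N.index_mul_card
    rw [hNidx, hcard] at this
    omega
  have hNC : ¬ N ≤ centralizer ((P : Subgroup G) : Set G) := by
    intro h
    rcases sylow_eq_bot_or_eq_top_of_normalizer_le_centralizer P h with h1 | h1
    · exact hPbot h1
    · exact hPtop h1
  obtain ⟨x, hx⟩ := exists_prime_orderOf_dvd_card' 2 (show 2 ∣ Nat.card N by rw [hNc]; norm_num)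
  have hxo : orderOf (x : G) = 2 := by rw [Subgroup.orderOf_coe, hx]
  have hPcyc : IsCyclic (P : Subgroup G) := isCyclic_of_prime_card hPc
  have hPC : (P : Subgroup G) ≤ centralizer ((P : Subgroup G) : Set G) := by
    intro a ha
    rw [mem_centralizer_iff]
    intro b hb
    have := (IsCyclic.isMulCommutative (α := (P : Subgroup G))).is_comm.comm ⟨b, hb⟩ ⟨a, ha⟩
    exact congrArg Subtype.val this
  have hxC : (x : G) ∉ centralizer ((P : Subgroup G) : Set G) := by
    intro h
    apply hNC
    have hCN : centralizer ((P : Subgroup G) : Set G) ≤ N := centralizer_le_normalizer _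
    have h23 : 23 ∣ Nat.card (centralizer ((P : Subgroup G) : Set G)) := by
      have := Subgroup.card_dvd_of_le hPC
      rwa [hPc] at this
    have h2 : 2 ∣ Nat.card (centralizer ((P : Subgroup G) : Set G)) := by
      have := orderOf_dvd_natCard (⟨(x : G), h⟩ : centralizer ((P : Subgroup G) : Set G))
      rwa [Subgroup.orderOf_mk, hxo] at this
    have h46 : 46 ∣ Nat.card (centralizer ((P : Subgroup G) : Set G)) :=
      Nat.Coprime.mul_dvd_of_dvd_of_dvd (by norm_num : Nat.Coprime 2 23) h2 h23
    have hle : Nat.card N ≤ Nat.card (centralizer ((P : Subgroup G) : Set G)) := by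
      rw [hNc]
      exact Nat.le_of_dvd Nat.card_pos h46
    exact (Subgroup.eq_of_le_of_card_ge hCN hle).ge
  have hf1 : Nat.card (fixedBy (G ⧸ N) (x : G)) ≤
      Nat.card (orbitRel.Quotient (P : Subgroup G) (G ⧸ N)) :=
    card_fixedBy_quotient_normalizer_le_card_orbits P hPc (x : G) x.2 hxC
  have horb : Nat.card (orbitRel.Quotient (P : Subgroup G) (G ⧸ N)) * 23 =
      Nat.card (Sylow 23 G) + (23 - 1) := card_orbits_quotient_normalizer_mul P hPc
  rw [hn] at horb
  have hf2 : 1 ≤ Nat.card (fixedBy (G ⧸ N) (x : G)) := by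
    have h1 : ((1 : G) : G ⧸ N) ∈ fixedBy (G ⧸ N) (x : G) := by
      rw [mem_fixedBy, smul_mk_eq_mk_iff]
      simp
    exact Nat.card_pos_iff.mpr ⟨⟨⟨_, h1⟩⟩, inferInstance⟩
  have hx2 : (x : G) ^ 2 = 1 := by rw [← hxo]; exact pow_orderOf_eq_one _
  obtain ⟨j, hj⟩ : ∃ j : ℕ, Nat.card (G ⧸ N) = Nat.card (fixedBy (G ⧸ N) (x : G)) + 4 * j :=
    exists_card_eq_fixedBy_add_four_mul_of_simple (X := G ⧸ N)
      (by rw [hcard]; norm_num) (x : G) hx2
  have hXc : Nat.card (G ⧸ N) = 24 := by rw [← hNidx]; rfl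
  rw [hXc] at hj
  omega

end Cfsg.Agent.S1014
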