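import Mathlib
import Cfsg.Statements.S1015
import Cfsg.Agent.S0985
import Cfsg.Agent.Lib.helper21.SylowCard
import Cfsg.Agent.Lib.helper21.SimpleIndex

set_option autoImplicit false
open Cfsg

namespace Cfsg.Agent.S1015

open Subgroup MulAction Cfsg.Agent.Lib.helper21

/-- No finite simple group has order 1200 = 2^4 * 3 * 5^2. -/
theorem result {G : Type*} [Group G] [Finite G] [IsSimpleGroup G] : Nat.card G ≠ 1200 := by
  intro hcard
  classical
  have : Fact (Nat.Prime 5) := ⟨by norm_num⟩
  obtain ⟨P₀⟩ : Nonempty (Sylow 5 G) := inferInstance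
  have hSc : ∀ S : Sylow 5 G, Nat.card (S : Subgroup G) = 25 := fun S => by
    have := sylow_card_eq_pow S 2 (by rw [hcard]; norm_num) (by rw [hcard]; norm_num)
    simpa using this
  have hSbot : ∀ S : Sylow 5 G, (S : Subgroup G) ≠ ⊥ := by
    intro S h
    have := hSc S
    rw [h, Subgroup.card_bot] at this
    omega
  have hStop : ∀ S : Sylow 5 G, (S : Subgroup G) ≠ ⊤ := by
    intro S h
    have := hSc S
    rw [h, Subgroup.card_top, hcard] at this
    omega
  have hn1 := card_sylow_ne_one_of_simple P₀ (hSbot P₀) (hStop P₀)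
  have hn2 : Nat.card (Sylow 5 G) ≡ 1 [MOD 5] := card_sylow_modEq_one 5 G
  have hn3 : Nat.card (Sylow 5 G) ∣ (P₀ : Subgroup G).index := Sylow.card_dvd_index P₀
  have hidx : (P₀ : Subgroup G).index = 48 := by
    have := (P₀ : Subgroup G).index_mul_card
    rw [hSc P₀, hcard] at this
    omega
  have hfact := card_dvd_factorial_card_sylow_of_simple P₀ (hSbot P₀) (hStop P₀)
  have hn : Nat.card (Sylow 5 G) = 16 := by
    rw [hidx] at hn3
    rw [hcard] at hfact
    have h1 := Nat.le_of_dvd (by norm_num) hn3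
    unfold Nat.ModEq at hn2
    generalize Nat.card (Sylow 5 G) = n at *
    interval_cases n <;> first | omega | (exfalso; revert hfact; decide)
  have h25 : ¬ Nat.card (Sylow 5 G) ≡ 1 [MOD 5 ^ 2] := by
    rw [hn]
    decide
  obtain ⟨P, R, hPR, hle⟩ := Cfsg.Agent.S0985.result 5 2 h25
  set D : Subgroup G := (R : Subgroup G) ⊓ (P : Subgroup G) with hD
  have hDcard : (((R : Subgroup G).subgroupOf (P : Subgroup G)).index) * Nat.card D = 25 := by
    have h1 := ((R : Subgroup G).subgroupOf (P : Subgroup G)).index_mul_card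
    rw [hSc P] at h1
    rw [← h1]
    congr 1
    rw [hD, ← inf_subgroupOf_right]
    exact (Nat.card_congr (Subgroup.subgroupOfEquivOfLe inf_le_right).toEquiv).symm
  have hD5 : 5 ≤ Nat.card D := by
    by_contra hlt
    have : (((R : Subgroup G).subgroupOf (P : Subgroup G)).index) * Nat.card D < 25 := by
      calc (((R : Subgroup G).subgroupOf (P : Subgroup G)).index) * Nat.card D
          ≤ 5 * Nat.card D := Nat.mul_le_mul_right _ (by simpa using hle)
        _ < 25 := by omega
    omega
  have hDbot : D ≠ ⊥ := by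
    intro h
    rw [h, Subgroup.card_bot] at hD5
    omega
  have hDtop : D ≠ ⊤ := by
    intro h
    apply hStop P
    exact top_le_iff.mp (h ▸ inf_le_right)
  set M : Subgroup G := normalizer (D : Set G) with hM
  have hMtop : M ≠ ⊤ := by
    intro h
    have hDn : D.Normal := normalizer_eq_top_iff.mp h
    rcases hDn.eq_bot_or_eq_top with h1 | h1
    · exact hDbot h1
    · exact hDtop h1
  have hcomm : ∀ (S : Sylow 5 G) (a b : G), a ∈ (S : Subgroup G) → b ∈ (S : Subgroup G) →
      a * b = b * a := by
    intro S a b ha hb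
    have := (IsPGroup.isMulCommutative_of_card_eq_prime_sq
      (show Nat.card (S : Subgroup G) = 5 ^ 2 by rw [hSc S]; norm_num)).is_comm.comm ⟨a, ha⟩ ⟨b, hb⟩
    exact congrArg Subtype.val this
  have hPM : (P : Subgroup G) ≤ M := by
    refine le_trans ?_ (centralizer_le_normalizer (D : Set G))
    intro a ha
    rw [mem_centralizer_iff]
    intro h hh
    exact hcomm P h a hh.2 ha
  have hRM : (R : Subgroup G) ≤ M := by
    refine le_trans ?_ (centralizer_le_normalizer (D : Set G))
    intro a ha
    rw [mem_centralizer_iff]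
    intro h hh
    exact hcomm R h a hh.1 ha
  -- two distinct Sylow 5-subgroups of `M`
  have hne : P.subtype hPM ≠ R.subtype hRM := by
    intro h
    apply hPR
    have h1 : ((P.subtype hPM : Sylow 5 M) : Subgroup M) = ((R.subtype hRM : Sylow 5 M) : Subgroup M) := by
      rw [h]
    rw [Sylow.coe_subtype, Sylow.coe_subtype, subgroupOf_inj, inf_eq_left.mpr hPM,
      inf_eq_left.mpr hRM] at h1
    exact Sylow.ext h1
  have hm1 : 1 < Nat.card (Sylow 5 M) := by
    rw [Finite.one_lt_card_iff_nontrivial]
    exact ⟨⟨_, _, hne⟩⟩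
  have hm2 : Nat.card (Sylow 5 M) ≡ 1 [MOD 5] := card_sylow_modEq_one 5 M
  have hm3 : Nat.card (Sylow 5 M) ∣ ((P.subtype hPM : Sylow 5 M) : Subgroup M).index :=
    Sylow.card_dvd_index _
  have hm4 : ((P.subtype hPM : Sylow 5 M) : Subgroup M).index * 25 = Nat.card M := by
    have h1 := ((P.subtype hPM : Sylow 5 M) : Subgroup M).index_mul_card
    have hPMc : Nat.card ((P.subtype hPM : Sylow 5 M) : Subgroup M) = 25 := by
      rw [Sylow.coe_subtype, Nat.card_congr (Subgroup.subgroupOfEquivOfLe hPM).toEquiv, hSc P]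
    rw [hPMc] at h1
    exact h1
  have hm5 : 6 ≤ ((P.subtype hPM : Sylow 5 M) : Subgroup M).index := by
    have h1 := Nat.le_of_dvd (Nat.pos_of_ne_zero index_ne_zero_of_finite) hm3
    unfold Nat.ModEq at hm2
    omega
  have hMc : 150 ≤ Nat.card M := by omega
  have hMi : M.index ≤ 8 := by
    have h1 := M.index_mul_card
    rw [hcard] at h1
    by_contra hgt
    have : 9 * 150 ≤ M.index * Nat.card M := Nat.mul_le_mul (by omega) hMc
    omega
  have hdvd := card_dvd_factorial_index_of_simple M hMtop
  rw [hcard] at hdvd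
  have hdvd2 : 1200 ∣ Nat.factorial 8 := hdvd.trans (Nat.factorial_dvd_factorial hMi)
  revert hdvd2
  decide

end Cfsg.Agent.S1015
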