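import Cfsg.Statements.S1021
import Cfsg.Agent.Lib.helper18.L2pAct
import Cfsg.Agent.Lib.helper6.SLCard

set_option autoImplicit false
open Cfsg

namespace Cfsg.Agent.S1021

/-- A simple group of order 3420 is isomorphic to the projective special linear group of dimension 2 over the field with 19 elements. -/
theorem result {G : Type*} [Group G] [Finite G] [IsSimpleGroup G] (h : Nat.card G = 3420) {F : Type*} [Field F] [Fintype F] (hF : Fintype.card F = 19) : Nonempty (G ≃* Matrix.ProjectiveSpecialLinearGroup (Fin 2) F) := by
  have h4 : 4 ≤ Nat.card F := by rw [Nat.card_eq_fintype_card, hF]; norm_num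
  have : IsSimpleGroup (Matrix.ProjectiveSpecialLinearGroup (Fin 2) F) :=
    Matrix.ProjectiveSpecialLinearGroup.rank_two_simple h4
  have hc : Nat.card (Matrix.ProjectiveSpecialLinearGroup (Fin 2) F) = 3420 := by
    have h1 := Cfsg.Agent.Lib.helper6.card_PSL (F := F) 2 (by norm_num)
    rw [hF, Fin.prod_univ_two] at h1
    norm_num at h1
    omega
  exact Cfsg.Agent.Lib.helper18.nonempty_equiv_of_facts Cfsg.Agent.Lib.helper18.facts_19
    (by rw [h]; norm_num) (by rw [hc]; norm_num)

end Cfsg.Agent.S1021
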