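import Cfsg.Statements.S1022
import Mathlib
import Cfsg.Agent.Lib.helper69.TwoSylowTrick


set_option autoImplicit false
open Cfsg

namespace Cfsg.Agent.S1022

/-- No finite simple group has order 459648 = 2^7 * 3^3 * 7 * 19. -/
theorem result {G : Type*} [Group G] [Finite G] [IsSimpleGroup G] : Nat.card G ≠ 459648 := by
  intro hS
  haveI h19 : Fact (Nat.Prime 19) := ⟨by norm_num⟩
  haveI h7 : Fact (Nat.Prime 7) := ⟨by norm_num⟩
  obtain ⟨P⟩ : Nonempty (Sylow 19 G) := inferInstance
  obtain ⟨hP, hn1, hmod, ⟨k, hk, hnk⟩, e, he, he1, hCe⟩ :=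
    Cfsg.Agent.Lib.helper75.sylow_setup (p := 19) 24192 (by rw [hS]) (by norm_num) (by norm_num) P
  have he' : e = 2 ∨ e = 3 ∨ e = 6 ∨ e = 9 ∨ e = 18 := by
    have hle : e ≤ 18 := Nat.le_of_dvd (by norm_num) he
    have hpos : 0 < e := Nat.pos_of_dvd_of_pos he (by norm_num)
    interval_cases e <;> omega
  obtain ⟨n, hn⟩ : ∃ n, n = Nat.card (Sylow 19 G) := ⟨_, rfl⟩
  rw [← hn] at hmod hnk
  have hn1' : n ≠ 1 := by rw [hn]; exact hn1
  have hk5 : k % 19 = 5 := by
    have h5 : (n * k) % 19 = 5 := by rw [hnk]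
    rwa [Nat.mul_mod, hmod, one_mul, Nat.mod_mod] at h5
  have hkle : k ≤ 1209 := by
    have h20 : 20 ≤ n := by omega
    nlinarith
  have hcases : k = 252 ∨ k = 24 := by
    obtain ⟨i, hi⟩ : ∃ i, k = 19 * i + 5 := ⟨k / 19, by omega⟩
    have hile : i ≤ 63 := by omega
    subst hi
    interval_cases i <;> omega
  rcases hcases with rfl | rfl
  · -- `n_19 = 96`: an element of order 7 centralizes `P`
    have hn96 : n = 96 := by omega
    rw [hk] at hCe
    have h7C : 7 ∣ Nat.card (Subgroup.centralizer ((P : Subgroup G) : Set G)) := by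
      rcases he' with rfl | rfl | rfl | rfl | rfl <;> omega
    obtain ⟨y, hyC, hy⟩ := Cfsg.Agent.Lib.helper75.exists_mem_orderOf_prime _ 7 h7C
    obtain ⟨c1, c2, c3⟩ := Cfsg.Agent.Lib.helper75.sylow_prime_counts P hn1 y 7 hy hyC
    rw [← hn, hn96] at c2 c3
    omega
  · -- `n_19 = 1008`, `|N(P)| = 456`
    have hn1008 : n = 1008 := by omega
    haveI : Fact (Nat.Prime 2) := ⟨Nat.prime_two⟩
    have h8 : 2 ^ 3 ∣ Nat.card (MulAction.stabilizer G P) := by
      rw [hk]
      norm_num
    obtain ⟨K, hK⟩ := Sylow.exists_subgroup_card_pow_prime 2 h8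
    obtain ⟨T, hTdef⟩ : ∃ T : Subgroup G, T = K.map (MulAction.stabilizer G P).subtype := ⟨_, rfl⟩
    have hT : Nat.card T = 2 ^ 3 := by
      rw [hTdef, Subgroup.card_map_of_injective (Subgroup.subtype_injective _)]
      exact hK
    have hTN : ∀ s ∈ T, s • P = P := by
      intro s hs
      rw [hTdef] at hs
      have h1 : s ∈ MulAction.stabilizer G P := Subgroup.map_subtype_le K hs
      exact MulAction.mem_stabilizer_iff.mp h1
    have hd : ∀ m : ℕ, m ∣ 19 - 1 → m ∣ 2 ^ 3 → m ≤ 2 := by
      intro m hm1 hm2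
      have h1 : m ∣ Nat.gcd (19 - 1) (2 ^ 3) := Nat.dvd_gcd hm1 hm2
      have h2 : Nat.gcd (19 - 1) (2 ^ 3) = 2 := by norm_num
      rw [h2] at h1
      exact Nat.le_of_dvd (by norm_num) h1
    obtain ⟨w, P', hne, hw2, hwP, hwP', hTw⟩ :=
      Cfsg.Agent.Lib.helper69.exists_involution_centralizing_two_sylow P hP T 3 2 hTN hT
        (by rw [hS]; norm_num) (by rw [hk]; norm_num) hd (by norm_num)
    obtain ⟨n', c, hn'mod, hn'1, hcard, h19c, hTc, hcN⟩ :=
      Cfsg.Agent.Lib.helper69.card_centralizer_of_two_sylow P P' hP hne w hwP hwP' T hTw hTN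
    rw [hT] at hTc
    have hidx := Subgroup.card_mul_index (Subgroup.centralizer ({w} : Set G))
    rw [hcard, hS] at hidx
    have h152 : 152 ∣ c := by
      have h1 := Nat.Coprime.mul_dvd_of_dvd_of_dvd (by norm_num : Nat.Coprime 19 (2 ^ 3)) h19c hTc
      norm_num at h1
      exact h1
    obtain ⟨c1, rfl⟩ := h152
    obtain ⟨idx, hidxdef⟩ : ∃ idx, idx = (Subgroup.centralizer ({w} : Set G)).index := ⟨_, rfl⟩
    rw [← hidxdef] at hidx
    have hprod : n' * (c1 * idx) = 3024 := by nlinarith
    have hr : c1 * idx = 3 := by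
      obtain ⟨r, hr⟩ : ∃ r, r = c1 * idx := ⟨_, rfl⟩
      rw [← hr] at hprod ⊢
      have h20 : 20 ≤ n' := by omega
      have hrle : r ≤ 151 := by nlinarith
      have hrpos : 0 < r := by
        rcases Nat.eq_zero_or_pos r with h | h
        · rw [h] at hprod
          omega
        · exact h
      interval_cases r <;> omega
    have hidx13 : idx = 1 ∨ idx = 3 := by
      have hdvd : idx ∣ 3 := Dvd.intro_left _ hr
      have hle := Nat.le_of_dvd (by norm_num) hdvd
      have hpos : 0 < idx := Nat.pos_of_dvd_of_pos hdvd (by norm_num)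
      interval_cases idx <;> omega
    rcases hidx13 with h1 | h3
    · -- `w` is central
      have htop : Subgroup.centralizer ({w} : Set G) = ⊤ := by
        apply Subgroup.index_eq_one.mp
        rw [← hidxdef]
        exact h1
      have hwc : ∀ g : G, g * w = w * g := by
        intro g
        have hg : g ∈ Subgroup.centralizer ({w} : Set G) := by
          rw [htop]
          trivial
        exact ((Subgroup.mem_centralizer_iff.mp hg) w rfl).symm
      have hnormal : (Subgroup.zpowers w).Normal := by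
        constructor
        intro x hx g
        obtain ⟨j, rfl⟩ := Subgroup.mem_zpowers_iff.mp hx
        have hcomm : Commute g (w ^ j) := (show Commute g w from hwc g).zpow_right j
        have h4 : g * w ^ j * g⁻¹ = w ^ j := by rw [hcomm.eq, mul_inv_cancel_right]
        rw [h4]
        exact hx
      have hcz := Nat.card_zpowers w
      rcases hnormal.eq_bot_or_eq_top with hb | ht
      · rw [hb, Subgroup.card_bot, hw2] at hcz
        omega
      · rw [ht, Subgroup.card_top, hS, hw2] at hcz
        omega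
    · have hH : Subgroup.centralizer ({w} : Set G) ≠ ⊤ := by
        intro h
        rw [h, Subgroup.index_top] at hidxdef
        omega
      have h5 := Cfsg.Agent.Lib.helper75.card_dvd_factorial_index _ hH
      rw [← hidxdef, h3, hS] at h5
      revert h5
      decide

end Cfsg.Agent.S1022
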