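import Cfsg.Statements.S1026
import Cfsg.Agent.Lib.helper22.ChevCFAll
import Cfsg.Agent.Lib.helper22.ChevUAll
import Cfsg.Agent.Lib.helper23.ChevStringAll

set_option autoImplicit false
open Cfsg

namespace Cfsg.Agent.S1026

/-- Every element of `U` has a unique expression `∏_{r ∈ Φ⁺} x_r(t_r)`, the product over the positive roots in increasing index order (the coefficient family `t`, supported on the positive roots, exists and is unique); and conversely every such ordered product is the matrix of an element of `U`. -/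
theorem result {F : Type*} [Field F] (D : Cfsg.Lie.ChevalleyDatum) (hD : D ∈ [Cfsg.Lie.chevG2, Cfsg.Lie.chevB2, Cfsg.Lie.chevD4, Cfsg.Lie.chevF4, Cfsg.Lie.chevE6, Cfsg.Lie.chevE7, Cfsg.Lie.chevE8]) :
    (∀ g : GL D.Idx F, g ∈ D.posUnipotent F →
      ∃! t : ℕ → F, (∀ r, ¬ D.IsPosRoot r → t r = 0) ∧
        (g : Matrix D.Idx D.Idx F) = D.wordMat F (D.posRoots.map fun r => (r, t r))) ∧
    (∀ t : ℕ → F, ∃ g : GL D.Idx F, g ∈ D.posUnipotent F ∧
      (g : Matrix D.Idx D.Idx F) = D.wordMat F (D.posRoots.map fun r => (r, t r))) := by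
  have hSD : ∀ r : Fin D.nroots, Nonempty (Cfsg.Agent.Lib.helper22.StringData D r) :=
    fun r => (Cfsg.Agent.Lib.helper23.exists_stringData D hD r).elim fun S _ => ⟨S⟩
  exact Cfsg.Agent.Lib.helper22.posUnipotent_ordProd hSD (Cfsg.Agent.Lib.helper22.uFacts_all D hD)
    (Cfsg.Agent.Lib.helper22.commFormula_all D hD F)

end Cfsg.Agent.S1026
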