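import Cfsg.Statements.S1032
import Cfsg.Agent.Lib.helper22.ChevH
import Cfsg.Agent.Lib.helper22.ChevTriTables
import Cfsg.Agent.Lib.helper23.ChevStringAll

set_option autoImplicit false
open Cfsg

namespace Cfsg.Agent.S1032

/-- For a fundamental root `p`, a root `s` and `c ≠ 0`: `h_p(c) x_s(t) h_p(c)⁻¹ = x_s(c^{A_{p,s}} t)`, stated as `h_p(c) x_s(t) = x_s(c^{A_{p,s}} t) h_p(c)`. -/
theorem result {F : Type*} [Field F] (D : Cfsg.Lie.ChevalleyDatum) (hD : D ∈ [Cfsg.Lie.chevG2, Cfsg.Lie.chevB2, Cfsg.Lie.chevD4, Cfsg.Lie.chevF4, Cfsg.Lie.chevE6, Cfsg.Lie.chevE7, Cfsg.Lie.chevE8]) (i s : ℕ) (hi : i < D.rank) (hs : s < D.nroots) (c : F) (hc : c ≠ 0) (t : F) :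
    D.hMat F (D.simple i) c * D.x F s t = D.x F s (c ^ (D.cartan i s) * t) * D.hMat F (D.simple i) c := by
  have hS := Cfsg.Agent.Lib.helper23.simpleCorootOK D hD
  obtain ⟨S, _⟩ := Cfsg.Agent.Lib.helper23.exists_stringData D hD ⟨D.simple i, (hS ⟨i, hi⟩).1⟩
  obtain ⟨Ss, hSs⟩ := Cfsg.Agent.Lib.helper23.exists_stringData D hD ⟨s, hs⟩
  have h1 := Cfsg.Agent.Lib.helper22.hMat_eq_torusMat S c hc
  have h2 := Cfsg.Agent.Lib.helper22.torusMat_mul_xMat Ss hSs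
    (fun j : Fin D.rank => c ^ Cfsg.Agent.Lib.helper22.corootZ D (D.simple i) j.val)
    (fun j => zpow_ne_zero _ hc) t
  have h3 : Cfsg.Agent.Lib.helper22.torusChar D F
      (fun j : Fin D.rank => c ^ Cfsg.Agent.Lib.helper22.corootZ D (D.simple i) j.val) s =
      c ^ (D.cartan i s) := by
    rw [Cfsg.Agent.Lib.helper22.torusChar_coroot c hc,
      Cfsg.Agent.Lib.helper22.rootPairing_simple hS ⟨i, hi⟩ s]
    rfl
  rw [Cfsg.Agent.Lib.helper22.x_eq D F ⟨s, hs⟩ t, Cfsg.Agent.Lib.helper22.x_eq D F ⟨s, hs⟩]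
  change D.hMat F (D.simple i) c * _ = _ * D.hMat F (D.simple i) c
  rw [show D.hMat F (D.simple i) c = _ from h1, ← h3]
  exact h2

end Cfsg.Agent.S1032
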