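import Cfsg.Statements.S1057
import Cfsg.Agent.Lib.helper17.G2U3Main
import Cfsg.Agent.Lib.helper17.U42Transport

set_option autoImplicit false
open Cfsg

namespace Cfsg.Agent.S1057

/-- G₂(2)′ ≅ PSU₃(3). -/
theorem result {F K : Type*} [Field F] [Fintype F] [Field K] [Fintype K] (hF : Fintype.card F = 2) (hK : Fintype.card K = 9) :
    Nonempty (↥(commutator ↥(Cfsg.Lie.chevG2.group F)) ≃* Cfsg.PSU 3 K 3) := by
  classical
  have hF' : Fintype.card F = Fintype.card (ZMod 2) := by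
    rw [hF, ZMod.card]
  have hK' : Fintype.card Cfsg.Agent.Lib.helper17.G9 = Fintype.card K := by
    rw [hK, Cfsg.Agent.Lib.helper17.G9.card]
  obtain ⟨e1⟩ := Cfsg.Agent.Lib.helper17.g2_main
    ((FiniteField.ringEquivOfCardEq hF' : F ≃+* ZMod 2) : F →+* ZMod 2)
  obtain ⟨e2⟩ := Cfsg.Agent.Lib.helper17.u42_psu_congr (FiniteField.ringEquivOfCardEq hK') 3 3
  exact ⟨e1.trans e2⟩

end Cfsg.Agent.S1057
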