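import Cfsg.Statements.S1074
import Cfsg.Agent.Lib.helper10.F4Main

set_option autoImplicit false
open Cfsg

namespace Cfsg.Agent.S1074

open Cfsg.Agent.Lib.helper10 in
/-- The statement for any group isomorphic to the permutation group of ²F₄(2). -/
theorem tits_gen {A : Type*} [Group A] (T : Subgroup A) (h : Nonempty (↥T ≃* ↥f4gS.H)) :
    (commutator ↥T).index = 2 ∧ IsSimpleGroup ↥(commutator ↥T) ∧
      ¬ IsMulCommutative ↥(commutator ↥T) ∧
      Nat.card ↥(commutator ↥T) = 2 ^ 11 * 3 ^ 3 * 5 ^ 2 * 13 := by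
  obtain ⟨h1, ⟨φ⟩, -⟩ := f4_main T h
  have hs0 : IsSimpleGroup ↥f4tS0.H := f4t_simple
  have hs : IsSimpleGroup ↥(commutator ↥T) := φ.isSimpleGroup
  have hc : Nat.card ↥(commutator ↥T) = 17971200 := by
    rw [Nat.card_congr φ.toEquiv]
    exact f4t_card'
  refine ⟨h1, hs, ?_, by rw [hc]; norm_num⟩
  intro hcomm
  let _ : CommGroup ↥(commutator ↥T) :=
    { (inferInstance : Group ↥(commutator ↥T)) with
      mul_comm := fun a b => hcomm.is_comm.comm a b }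
  have hp := IsSimpleGroup.prime_card (α := ↥(commutator ↥T))
  rw [hc] at hp
  norm_num at hp

/-- ²F₄(2)′ has index 2 in ²F₄(2), is simple, and has order `2¹¹ · 3³ · 5² · 13`. -/
theorem result : (commutator ↥(Cfsg.Lie.twistedF4 (ZMod 2) 1)).index = 2 ∧ IsSimpleGroup Cfsg.Lie.TitsGroup ∧ ¬ IsMulCommutative Cfsg.Lie.TitsGroup ∧
    Nat.card Cfsg.Lie.TitsGroup = 2 ^ 11 * 3 ^ 3 * 5 ^ 2 * 13 := by
  exact tits_gen (Cfsg.Lie.twistedF4 (ZMod 2) 1) Cfsg.Agent.Lib.helper10.f4_iso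

end Cfsg.Agent.S1074
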