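import Cfsg.Statements.S1076
import Cfsg.Agent.Lib.helper22.ChevSL2
import Cfsg.Agent.Lib.helper23.ChevStringAll

set_option autoImplicit false
open Cfsg

namespace Cfsg.Agent.S1076

/-- `h_r(t₁) h_r(t₂) = h_r(t₁ t₂)` for non-zero `t₁, t₂` (the third family of defining relations), as a matrix identity. -/
theorem result {F : Type*} [Field F] (D : Cfsg.Lie.ChevalleyDatum) (hD : D ∈ [Cfsg.Lie.chevG2, Cfsg.Lie.chevB2, Cfsg.Lie.chevD4, Cfsg.Lie.chevF4, Cfsg.Lie.chevE6, Cfsg.Lie.chevE7, Cfsg.Lie.chevE8]) (r : ℕ) (hr : r < D.nroots) (t₁ t₂ : F) (h₁ : t₁ ≠ 0) (h₂ : t₂ ≠ 0) :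
    D.hMat F r t₁ * D.hMat F r t₂ = D.hMat F r (t₁ * t₂) := by
  obtain ⟨S, -⟩ := Cfsg.Agent.Lib.helper23.exists_stringData D hD ⟨r, hr⟩
  have e1 := Cfsg.Agent.Lib.helper22.hMat_eq S t₁ h₁
  have e2 := Cfsg.Agent.Lib.helper22.hMat_eq S t₂ h₂
  have e3 := Cfsg.Agent.Lib.helper22.hMat_eq S (t₁ * t₂) (mul_ne_zero h₁ h₂)
  have d1 : t₁ * t₁⁻¹ - 0 * 0 = 1 := by rw [mul_inv_cancel₀ h₁]; ring
  have d2 : t₂ * t₂⁻¹ - 0 * 0 = 1 := by rw [mul_inv_cancel₀ h₂]; ring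
  have e4 := Cfsg.Agent.Lib.helper22.sl2Mat_mul S t₁ 0 0 t₁⁻¹ t₂ 0 0 t₂⁻¹ d1 d2
  simp only [] at e1 e2 e3
  rw [e1, e2, e3, e4]
  congr 1
  · ring
  · ring
  · ring
  · rw [mul_inv]; ring
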