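import Cfsg.Statements.S1078
-- import your own Cfsg.Agent.* helpers here
import Cfsg.Agent.Lib.helper41.StUniInst

set_option autoImplicit false
open Cfsg

namespace Cfsg.Agent.S1078

/-- For G₂, F₄, E₈ the presented group has trivial centre (the universal and adjoint groups coincide). -/
theorem result {K : Type*} [Field K] (D : Cfsg.Lie.ChevalleyDatum) (hD : D ∈ [Cfsg.Lie.chevG2, Cfsg.Lie.chevF4, Cfsg.Lie.chevE8]) :
    Subgroup.center (D.SteinbergGroup K) = ⊥ := by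
  have hD7 : D ∈ [Cfsg.Lie.chevG2, Cfsg.Lie.chevB2, Cfsg.Lie.chevD4, Cfsg.Lie.chevF4,
      Cfsg.Lie.chevE6, Cfsg.Lie.chevE7, Cfsg.Lie.chevE8] := by
    simp only [List.mem_cons, List.mem_nil_iff, or_false] at hD ⊢
    rcases hD with h | h | h
    · exact Or.inl h
    · exact Or.inr (Or.inr (Or.inr (Or.inl h)))
    · exact Or.inr (Or.inr (Or.inr (Or.inr (Or.inr (Or.inr h)))))
  obtain ⟨η, I⟩ := Cfsg.Agent.Lib.helper22.bnInput_all D hD7 K
  obtain ⟨B, hB⟩ := Cfsg.Agent.Lib.helper41.cartan_inv_all D hD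
  exact Cfsg.Agent.Lib.helper41.pres_center_bot D hD7 K I.hSD'
    (Cfsg.Agent.Lib.helper41.lift_rel I.hSD' I.hcomm) B hB

end Cfsg.Agent.S1078
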