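import Cfsg.Statements.S1112
import Cfsg.Agent.Lib.helper23.F4Torus

set_option autoImplicit false
open Cfsg

namespace Cfsg.Agent.S1112

/-- ²F₄(2^(2m+1)) (m ≥ 1) equals its derived subgroup. -/
theorem result {K : Type*} [Field K] [Fintype K] {m : ℕ} (hK : Fintype.card K = 2 ^ (2 * m + 1)) (hm : 1 ≤ m) : commutator ↥(Cfsg.Lie.twistedF4 K (2 ^ m)) = ⊤ := by
  classical
  have T := Cfsg.Agent.Lib.helper23.twoPow_of_card hK
  apply Cfsg.Agent.Lib.helper23.f4_perfect T
  have hcard : 2 < Fintype.card K := by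
    rw [hK]
    calc 2 < 2 ^ 3 := by norm_num
      _ ≤ 2 ^ (2 * m + 1) := Nat.pow_le_pow_right (by norm_num) (by omega)
  by_contra hne
  simp only [not_exists, not_and, not_not] at hne
  have hsub : (Finset.univ : Finset K) ⊆ {0, 1} := by
    intro x _
    by_cases hx : x = 0
    · simp [hx]
    · simp [hne x hx]
  have h1 := Finset.card_le_card hsub
  rw [Finset.card_univ] at h1
  have h2 : ({0, 1} : Finset K).card ≤ 2 := Finset.card_le_two
  omega

end Cfsg.Agent.S1112
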