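import Cfsg.Statements.S1115
import Cfsg.Agent.Lib.helper23.ChevReeBN

set_option autoImplicit false
open Cfsg

namespace Cfsg.Agent.S1115

/-- `N¹/H¹ ≅ W¹`: a surjective homomorphism from `N¹ = G¹ ∩ N` onto the group of order 2 with kernel `H¹`. -/
theorem result {K : Type*} [Field K] [Fintype K] {m : ℕ} (hK : Fintype.card K = 3 ^ (2 * m + 1)) :
    ∃ φ : ↥(Cfsg.Lie.chevG2.monomialSubgroup K ⊓ Cfsg.Lie.twistedG2 K (3 ^ m)) →* Multiplicative (ZMod 2), Function.Surjective φ ∧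
      φ.ker = (Cfsg.Lie.chevG2.diagonalSubgroup K ⊓ Cfsg.Lie.twistedG2 K (3 ^ m)).subgroupOf (Cfsg.Lie.chevG2.monomialSubgroup K ⊓ Cfsg.Lie.twistedG2 K (3 ^ m)) := by
  obtain ⟨R⟩ := Cfsg.Agent.Lib.helper23.exists_reeData hK
  obtain ⟨n, hn⟩ := R.exists_w0
  have I := Cfsg.Agent.Lib.helper22.bnInput_G2 K
  have hHN : Cfsg.Lie.chevG2.diagonalSubgroup K ≤ Cfsg.Lie.chevG2.monomialSubgroup K := le_sup_left
  let N1 := Cfsg.Lie.chevG2.monomialSubgroup K ⊓ Cfsg.Lie.twistedG2 K (3 ^ m)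
  let H1 := (Cfsg.Lie.chevG2.diagonalSubgroup K ⊓ Cfsg.Lie.twistedG2 K (3 ^ m)).subgroupOf N1
  have hnN : n ∈ N1 := Subgroup.mem_inf.mpr ⟨hn.mono, hn.tw⟩
  have hidx : H1.index = 2 := by
    rw [Subgroup.index_eq_two_iff]
    refine ⟨⟨n, hnN⟩, fun b => ?_⟩
    have hb := Subgroup.mem_inf.mp b.2
    by_cases hbH : b ∈ H1
    · refine Or.inr ⟨hbH, fun h => ?_⟩
      have h1 : (⟨n, hnN⟩ : N1) ∈ H1 := by
        have := H1.mul_mem (H1.inv_mem hbH) h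
        simpa using this
      exact hn.not_mem (Subgroup.mem_inf.mp (Subgroup.mem_subgroupOf.mp h1)).1
    · refine Or.inl ⟨?_, hbH⟩
      rcases R.mono_twisted hn hb.1 hb.2 with h | ⟨h, hh, hhΓ, e2⟩
      · exact absurd (Subgroup.mem_subgroupOf.mpr (Subgroup.mem_inf.mpr ⟨h, hb.2⟩)) hbH
      · rw [Subgroup.mem_subgroupOf]
        refine Subgroup.mem_inf.mpr ⟨?_, mul_mem hb.2 hn.tw⟩
        have e3 : ((b * ⟨n, hnN⟩ : N1) : GL Cfsg.Lie.chevG2.Idx K) = (n * n) * (n⁻¹ * h * n⁻¹⁻¹) := by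
          show (b : GL Cfsg.Lie.chevG2.Idx K) * n = _
          rw [e2]
          group
        rw [e3]
        exact mul_mem hn.sq_mem (Cfsg.Agent.Lib.helper22.conj_mem_diag I (inv_mem hn.mono) hh)
  have hnorm : H1.Normal := Subgroup.normal_of_index_eq_two hidx
  have hc1 : Nat.card (N1 ⧸ H1) = 2 := hidx
  have hc2 : Nat.card (Multiplicative (ZMod 2)) = 2 := by
    rw [Nat.card_eq_fintype_card]
    rfl
  have : Fact (Nat.Prime 2) := ⟨Nat.prime_two⟩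
  let ψ : N1 ⧸ H1 ≃* Multiplicative (ZMod 2) := mulEquivOfPrimeCardEq hc1 hc2
  refine ⟨ψ.toMonoidHom.comp (QuotientGroup.mk' H1), ?_, ?_⟩
  · exact ψ.surjective.comp (QuotientGroup.mk'_surjective H1)
  · ext x
    rw [MonoidHom.mem_ker, MonoidHom.comp_apply]
    show ψ (QuotientGroup.mk' H1 x) = 1 ↔ _
    rw [MulEquiv.map_eq_one_iff, QuotientGroup.mk'_apply, QuotientGroup.eq_one_iff]

end Cfsg.Agent.S1115
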