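import Cfsg.Statements.S1119
import Cfsg.Agent.Lib.helper24.RankOne

set_option autoImplicit false
open Cfsg

namespace Cfsg.Agent.S1119

open Cfsg.Agent.Lib.helper24 MulAction

/-- In the rank-one set-up (`G` finite and doubly transitive on `Ω`, `t` an involution moving `a`, `Q` normal in `G_a` with `G_a = Q D`, `Q ⊓ D = 1` for the two-point stabiliser `D = G_a ⊓ G_{t • a}`, `|Q|` even, `|D|` odd): `Q` acts regularly on `Ω` minus `a`; hence `|Ω| = |Q| + 1`, `|G| = |Q| |D| (|Q| + 1)`, some Sylow 2-subgroup of `G` lies in `Q`, and each `g ∉ G_a` is uniquely `x t y` with `x ∈ G_a`, `y ∈ Q` (canonical form). -/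
theorem result {G Ω : Type*} [Group G] [Finite G] [MulAction G Ω] {a : Ω} {t : G} {Q : Subgroup G}
    (hS : Cfsg.IsRankOneSetup G Ω a t Q) :
    (∀ b c : Ω, b ≠ a → c ≠ a → ∃! x : Q, (x : G) • b = c) ∧
      Nat.card Ω = Nat.card Q + 1 ∧
      Nat.card G = Nat.card Q * Nat.card ↥(MulAction.stabilizer G a ⊓ MulAction.stabilizer G (t • a)) * (Nat.card Q + 1) ∧
      (∃ P : Sylow 2 G, (P : Subgroup G) ≤ Q) ∧
      ∀ g : G, g ∉ MulAction.stabilizer G a → ∃! p : G × G, p.1 ∈ MulAction.stabilizer G a ∧ p.2 ∈ Q ∧ g = p.1 * t * p.2 := by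
  refine ⟨ro_Q_regular hS, ro_card hS, ro_card_G hS, ?_, ?_⟩
  · have : Fact (Nat.Prime 2) := ⟨Nat.prime_two⟩
    obtain ⟨P₀⟩ : Nonempty (Sylow 2 Q) := inferInstance
    have h1 : Nat.card ((P₀ : Subgroup Q).map Q.subtype) = 2 ^ (Nat.card Q).factorization 2 := by
      rw [Subgroup.card_map_of_injective Q.subtype_injective]
      exact P₀.card_eq_multiplicity
    have hQpos : Nat.card Q ≠ 0 := Nat.card_pos.ne'
    have hDpos : Nat.card ↥(stabilizer G a ⊓ stabilizer G (t • a)) ≠ 0 := Nat.card_pos.ne'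
    have h2 : (Nat.card G).factorization 2 = (Nat.card Q).factorization 2 := by
      rw [ro_card_G hS, Nat.factorization_mul (mul_ne_zero hQpos hDpos) (by omega),
        Nat.factorization_mul hQpos hDpos]
      have h3 : (Nat.card ↥(stabilizer G a ⊓ stabilizer G (t • a))).factorization 2 = 0 := by
        apply Nat.factorization_eq_zero_of_not_dvd
        intro h
        exact (Nat.not_even_iff_odd.mpr hS.odd_card) (even_iff_two_dvd.mpr h)
      have h4 : (Nat.card Q + 1).factorization 2 = 0 := by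
        apply Nat.factorization_eq_zero_of_not_dvd
        intro h
        exact (Nat.not_even_iff_odd.mpr hS.even_card.add_one) (even_iff_two_dvd.mpr h)
      simp only [Finsupp.coe_add, Pi.add_apply, h3, h4, add_zero]
    rw [← h2] at h1
    refine ⟨Sylow.ofCard _ h1, ?_⟩
    rw [Sylow.coe_ofCard]
    exact Subgroup.map_subtype_le _
  · intro g hg
    have hb := ro_tsmul_ne hS
    have hga : g⁻¹ • a ≠ a := by
      intro h
      apply hg
      have : g⁻¹ ∈ stabilizer G a := h
      simpa using inv_mem this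
    obtain ⟨y, hy, hyc⟩ := ro_Q_trans hS hga hb
    have htinv := ro_t_inv hS
    refine ⟨(g * y⁻¹ * t, y), ⟨?_, hy, ?_⟩, ?_⟩
    · show (g * y⁻¹ * t) • a = a
      rw [mul_smul, mul_smul, ← hyc, inv_smul_smul, smul_inv_smul]
    · show g = g * y⁻¹ * t * t * y
      rw [mul_assoc (g * y⁻¹) t t, hS.mul_self]
      group
    · rintro ⟨x', y'⟩ ⟨hx', hy', hg'⟩
      simp only at hx' hy' hg'
      have h1 : g⁻¹ • a = y'⁻¹ • (t • a) := by
        rw [hg']
        have hx'' : x'⁻¹ • a = a := inv_mem hx'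
        simp only [mul_inv_rev, mul_smul, hx'', htinv]
      have h2 : y⁻¹ • (t • a) = g⁻¹ • a := by
        rw [← hyc, inv_smul_smul]
      have h3 : y'⁻¹ = y⁻¹ := ro_Q_unique hS (inv_mem hy') (inv_mem hy) hb (by rw [h2, h1])
      have h4 : y' = y := inv_injective h3
      subst h4
      have h5 : x' = g * y'⁻¹ * t := by
        rw [hg']
        have : x' * t * y' * y'⁻¹ * t = x' * (t * t) := by group
        rw [this, hS.mul_self, mul_one]
      rw [h5]

end Cfsg.Agent.S1119
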