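import Cfsg.Statements.S1120
import Cfsg.Agent.Lib.helper24.RankOne
import Cfsg.Agent.Lib.helper24.Klein

set_option autoImplicit false
open Cfsg

namespace Cfsg.Agent.S1120

open Cfsg.Agent.Lib.helper24 MulAction

/-- In the rank-one set-up (`G` finite and doubly transitive on `Ω`, `t` an involution moving `a`, `Q` normal in `G_a` with `G_a = Q D`, `Q ⊓ D = 1` for the two-point stabiliser `D = G_a ⊓ G_{t • a}`, `|Q|` even, `|D|` odd), if `G` has 2-rank at least 2 then `O_{2'}(G)` equals the normal core of `G_a`. -/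
theorem result {G Ω : Type*} [Group G] [Finite G] [MulAction G Ω] {a : Ω} {t : G} {Q : Subgroup G}
    (hS : Cfsg.IsRankOneSetup G Ω a t Q)
    (h2 : ∃ x y : G, x ≠ 1 ∧ y ≠ 1 ∧ x ≠ y ∧ x * x = 1 ∧ y * y = 1 ∧ x * y = y * x) :
    Cfsg.pPrimeCore 2 G = (MulAction.stabilizer G a).normalCore := by
  have hti := ro_t_inv hS
  apply le_antisymm
  · apply sSup_le
    rintro N ⟨hN, hNc⟩
    have hodd : Odd (Nat.card N) := Nat.coprime_two_right.mp hNc
    rw [Subgroup.normal_le_normalCore]
    obtain ⟨x, y, hx1, hy1, hxy, hxx, hyy, hcomm⟩ := h2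
    obtain ⟨c, hc⟩ := ro_inv_fix hS hxx
    have hyc : y • c = c := by
      have h1 : x • (y • c) = y • c := by rw [← mul_smul, hcomm, mul_smul, hc]
      exact ro_inv_fix_unique hS hx1 hxx h1 hc
    have hxyc : (x * y) • c = c := by rw [mul_smul, hyc, hc]
    have hxy1 : x * y ≠ 1 := by
      intro h
      apply hxy
      have : x = y⁻¹ := eq_inv_of_mul_eq_one_left h
      rw [this, inv_eq_of_mul_eq_one_left hyy]
    have hxyxy : (x * y) * (x * y) = 1 := by
      have : (x * y) * (x * y) = x * (y * x) * y := by group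
      rw [this, ← hcomm]
      have : x * (x * y) * y = (x * x) * (y * y) := by group
      rw [this, hxx, hyy, one_mul]
    have key : ∀ u : G, u ≠ 1 → u * u = 1 → u • c = c → ∀ m ∈ N, u * m = m * u → m ∈ stabilizer G c := by
      intro u hu1 huu huc m _ hum
      have h1 : u • (m • c) = m • c := by rw [← mul_smul, hum, mul_smul, huc]
      exact ro_inv_fix_unique hS hu1 huu h1 huc
    have hNc : N ≤ stabilizer G c :=
      klein_gen hodd hxx hyy hcomm (fun m hm => hN.conj_mem m hm x) (fun m hm => hN.conj_mem m hm y)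
        (stabilizer G c) (key x hx1 hxx hc) (key y hy1 hyy hyc) (key (x * y) hxy1 hxyxy hxyc)
    obtain ⟨g, hg⟩ := ro_trans hS c a
    intro n hn
    have h1 : g⁻¹ * n * g⁻¹⁻¹ ∈ stabilizer G c := hNc (hN.conj_mem n hn g⁻¹)
    have h2 : (g⁻¹ * n * g⁻¹⁻¹) • c = c := h1
    rw [inv_inv, mul_smul, mul_smul, hg, inv_smul_eq_iff, hg] at h2
    exact h2
  · apply le_sSup
    refine ⟨Subgroup.normalCore_normal _, ?_⟩
    rw [Nat.coprime_two_right]
    have hle : (stabilizer G a).normalCore ≤ stabilizer G a ⊓ stabilizer G (t • a) := by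
      intro n hn
      refine ⟨Subgroup.normalCore_le _ hn, ?_⟩
      have h1 : t⁻¹ * n * t⁻¹⁻¹ ∈ (stabilizer G a).normalCore :=
        (Subgroup.normalCore_normal (stabilizer G a)).conj_mem n hn t⁻¹
      have h2 : (t⁻¹ * n * t⁻¹⁻¹) • a = a := Subgroup.normalCore_le _ h1
      rw [inv_inv, mul_smul, mul_smul, inv_smul_eq_iff] at h2
      exact h2
    exact Odd.of_dvd_nat hS.odd_card (Subgroup.card_dvd_of_le hle)

end Cfsg.Agent.S1120
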