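import Cfsg.Statements.S1122
import Cfsg.Agent.Lib.helper24.RankOne2

set_option autoImplicit false
open Cfsg

namespace Cfsg.Agent.S1122

open Cfsg.Agent.Lib.helper24 MulAction

/-- In the rank-one set-up (`G` finite and doubly transitive on `Ω`, `t` an involution moving `a`, `Q` normal in `G_a` with `G_a = Q D`, `Q ⊓ D = 1` for the two-point stabiliser `D = G_a ⊓ G_{t • a}`, `|Q|` even, `|D|` odd), with `K` the set of elements of `D` inverted by `t`: `|K|` is the number of involutions of `G_a`, and for each involution `s` of `G_a` the `K`-conjugates of `s` are all the involutions of `G_a`. -/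
theorem result {G Ω : Type*} [Group G] [Finite G] [MulAction G Ω] {a : Ω} {t : G} {Q : Subgroup G}
    (hS : Cfsg.IsRankOneSetup G Ω a t Q) :
    Nat.card (Cfsg.invertedBy (MulAction.stabilizer G a ⊓ MulAction.stabilizer G (t • a)) t) = Nat.card (Cfsg.involutionsIn (MulAction.stabilizer G a : Set G)) ∧
      ∀ s ∈ Cfsg.involutionsIn (MulAction.stabilizer G a : Set G), ∀ s' ∈ Cfsg.involutionsIn (MulAction.stabilizer G a : Set G),
        ∃ k ∈ Cfsg.invertedBy (MulAction.stabilizer G a ⊓ MulAction.stabilizer G (t • a)) t, k⁻¹ * s * k = s' := by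
  have part2 : ∀ s ∈ Cfsg.involutionsIn (MulAction.stabilizer G a : Set G),
      ∀ s' ∈ Cfsg.involutionsIn (MulAction.stabilizer G a : Set G),
        ∃ k ∈ Cfsg.invertedBy (MulAction.stabilizer G a ⊓ MulAction.stabilizer G (t • a)) t, k⁻¹ * s * k = s' := by
    rintro s ⟨hs, hs1, hss⟩ s' ⟨hs', hs1', hss'⟩
    exact ro_K_conj_trans hS hs hs1 hss hs' hs1' hss'
  refine ⟨?_, part2⟩
  obtain ⟨s₀, hs₀Q, hs₀1, hs₀s₀⟩ := ro_exists_inv_Q hS
  have hs₀ : s₀ ∈ stabilizer G a := hS.le hs₀Q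
  have e : ↥(Cfsg.invertedBy (MulAction.stabilizer G a ⊓ MulAction.stabilizer G (t • a)) t) ≃
      ↥(Cfsg.involutionsIn (MulAction.stabilizer G a : Set G)) :=
    Equiv.ofBijective (fun k => ⟨(k : G)⁻¹ * s₀ * (k : G), by
        refine ⟨mul_mem (mul_mem (inv_mem k.2.1.1) hs₀) k.2.1.1, ?_, ?_⟩
        · have := conj_ne_one (g := (k : G)⁻¹) hs₀1
          rwa [inv_inv] at this
        · have := conj_mul_self (g := (k : G)⁻¹) hs₀s₀
          rwa [inv_inv] at this⟩) (by
      constructor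
      · rintro ⟨k₁, hk₁⟩ ⟨k₂, hk₂⟩ h
        have h' : k₁⁻¹ * s₀ * k₁ = k₂⁻¹ * s₀ * k₂ := congrArg Subtype.val h
        exact Subtype.ext (ro_K_conj_inj hS hs₀ hs₀1 hs₀s₀ hk₁ hk₂ h')
      · rintro ⟨s', hs'⟩
        obtain ⟨k, hk, hks⟩ := part2 s₀ ⟨hs₀, hs₀1, hs₀s₀⟩ s' hs'
        exact ⟨⟨k, hk⟩, Subtype.ext hks⟩)
  exact Nat.card_congr e

end Cfsg.Agent.S1122
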