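import Cfsg.Statements.S1124
import Cfsg.Agent.Lib.helper24.OddInv

set_option autoImplicit false
open scoped Pointwise
open Cfsg

namespace Cfsg.Agent.S1124

open Cfsg.Agent.Lib.helper24

theorem mem_cent {M : Type*} [Group M] {t g : M} : g ∈ Subgroup.centralizer ({t} : Set M) ↔ t * g = g * t := by
  simp [Subgroup.mem_centralizer_iff]

/-- Let `t` be an element of order 2 of a finite group normalising a subgroup `X` of odd order, `Y = C_X(t)` and `Z` the set of elements of `X` inverted by `t`. Then `(y, z) ↦ y z` is a bijection `Y × Z → X`, so `|X| = |Y| |Z|`, and the subgroup generated by `Z` is normal in `X`. -/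
theorem result {M : Type*} [Group M] [Finite M]
    (t : M) (ht : orderOf t = 2) (X : Subgroup M) (hodd : Odd (Nat.card X))
    (hnorm : ∀ x ∈ X, t * x * t⁻¹ ∈ X) :
    (∀ x ∈ X, ∃! p : M × M, p.1 ∈ X ⊓ Subgroup.centralizer {t} ∧ p.2 ∈ Cfsg.invertedBy X t ∧ x = p.1 * p.2) ∧
      Nat.card X = Nat.card ↥(X ⊓ Subgroup.centralizer {t}) * Nat.card (Cfsg.invertedBy X t) ∧
      ∀ x ∈ X, MulAut.conj x • Subgroup.closure (Cfsg.invertedBy X t) = Subgroup.closure (Cfsg.invertedBy X t) := by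
  have htt : t * t = 1 := by
    have := pow_orderOf_eq_one t
    rw [ht, pow_two] at this
    exact this
  have part1 : ∀ x ∈ X, ∃! p : M × M, p.1 ∈ X ⊓ Subgroup.centralizer {t} ∧
      p.2 ∈ Cfsg.invertedBy X t ∧ x = p.1 * p.2 := by
    intro x hx
    obtain ⟨y, z, hy, hyt, hz, hzt, rfl⟩ := oi_exists htt hodd hnorm hx
    refine ⟨(y, z), ⟨⟨hy, mem_cent.mpr hyt⟩, ⟨hz, hzt⟩, rfl⟩, ?_⟩
    rintro ⟨y', z'⟩ ⟨⟨hy', hyt'⟩, ⟨hz', hzt'⟩, h⟩
    obtain ⟨h1, h2⟩ := oi_unique hodd hyt hz hzt (mem_cent.mp hyt') hz' hzt' h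
    rw [h1, h2]
  refine ⟨part1, ?_, ?_⟩
  · have e : (↥(X ⊓ Subgroup.centralizer {t}) × ↥(Cfsg.invertedBy X t)) ≃ X :=
      Equiv.ofBijective (fun p => ⟨(p.1 : M) * (p.2 : M), mul_mem p.1.2.1 p.2.2.1⟩) (by
        constructor
        · rintro ⟨⟨y, hy⟩, ⟨z, hz⟩⟩ ⟨⟨y', hy'⟩, ⟨z', hz'⟩⟩ h
          have h' : y * z = y' * z' := congrArg Subtype.val h
          obtain ⟨h1, h2⟩ := oi_unique hodd (mem_cent.mp hy.2) hz.1 hz.2 (mem_cent.mp hy'.2) hz'.1 hz'.2 h'
          subst h1; subst h2; rfl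
        · rintro ⟨x, hx⟩
          obtain ⟨y, z, hy, hyt, hz, hzt, rfl⟩ := oi_exists htt hodd hnorm hx
          exact ⟨⟨⟨y, ⟨hy, mem_cent.mpr hyt⟩⟩, ⟨z, ⟨hz, hzt⟩⟩⟩, rfl⟩)
    rw [← Nat.card_congr e, Nat.card_prod]
  · set N := Subgroup.closure (Cfsg.invertedBy X t) with hN
    -- centralizing elements normalize the set of inverted elements
    have h1 : ∀ y ∈ X, t * y = y * t → ∀ n ∈ N, y * n * y⁻¹ ∈ N := by
      intro y hy hyt n hn
      induction hn using Subgroup.closure_induction with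
      | mem i hi =>
        apply Subgroup.subset_closure
        refine ⟨mul_mem (mul_mem hy hi.1) (inv_mem hy), ?_⟩
        have e : t * (y * i * y⁻¹) * t⁻¹ = (t * y) * t⁻¹ * (t * i * t⁻¹) * (t * y⁻¹) * t⁻¹ := by group
        have hyt' : t * y⁻¹ = y⁻¹ * t := by
          have : t * y⁻¹ = y⁻¹ * (y * t) * y⁻¹ := by group
          rw [this, ← hyt]; group
        rw [e, hyt, hi.2, hyt']
        group
      | one => simp
      | mul a b _ _ ha hb =>
        have e : y * (a * b) * y⁻¹ = (y * a * y⁻¹) * (y * b * y⁻¹) := by group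
        rw [e]; exact mul_mem ha hb
      | inv a _ ha =>
        have e : y * a⁻¹ * y⁻¹ = (y * a * y⁻¹)⁻¹ := by group
        rw [e]; exact inv_mem ha
    have h2 : ∀ x ∈ X, ∀ n ∈ N, x * n * x⁻¹ ∈ N := by
      intro x hx n hn
      obtain ⟨y, z, hy, hyt, hz, hzt, rfl⟩ := oi_exists htt hodd hnorm hx
      have hzN : z ∈ N := Subgroup.subset_closure ⟨hz, hzt⟩
      have e : y * z * n * (y * z)⁻¹ = y * (z * n * z⁻¹) * y⁻¹ := by group
      rw [e]
      exact h1 y hy hyt _ (mul_mem (mul_mem hzN hn) (inv_mem hzN))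
    intro x hx
    ext n
    rw [Subgroup.mem_pointwise_smul_iff_inv_smul_mem]
    have e : (MulAut.conj x)⁻¹ • n = x⁻¹ * n * (x⁻¹)⁻¹ := by
      simp [MulAut.smul_def]
    rw [e]
    constructor
    · intro h
      have := h2 x hx _ h
      have e2 : x * (x⁻¹ * n * x⁻¹⁻¹) * x⁻¹ = n := by group
      rwa [e2] at this
    · intro h
      exact h2 x⁻¹ (inv_mem hx) n h

end Cfsg.Agent.S1124
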