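import Cfsg.Statements.S1125
import Cfsg.Agent.Lib.helper24.RankOne3

set_option autoImplicit false
open Cfsg

namespace Cfsg.Agent.S1125

open Cfsg.Agent.Lib.helper24 MulAction

/-- In the rank-one set-up (`G` finite and doubly transitive on `Ω`, `t` an involution moving `a`, `Q` normal in `G_a` with `G_a = Q D`, `Q ⊓ D = 1` for the two-point stabiliser `D = G_a ⊓ G_{t • a}`, `|Q|` even, `|D|` odd), let `X ⊆ D` fix at least three points of `Ω`. Then `C_G(X)` is doubly transitive on the fixed-point set of `X`, `|C_Q(X)|` is even, and `C_{G_a}(X) = C_Q(X) C_D(X)`. -/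
theorem result {G Ω : Type*} [Group G] [Finite G] [MulAction G Ω] {a : Ω} {t : G} {Q : Subgroup G}
    (hS : Cfsg.IsRankOneSetup G Ω a t Q)
    (X : Set G) (hX : X ⊆ ((MulAction.stabilizer G a ⊓ MulAction.stabilizer G (t • a)) : Set G))
    (h3 : ∃ b c d : Ω, b ≠ c ∧ b ≠ d ∧ c ≠ d ∧ ∀ x ∈ X, x • b = b ∧ x • c = c ∧ x • d = d) :
    (∀ b₁ b₂ c₁ c₂ : Ω, (∀ x ∈ X, x • b₁ = b₁ ∧ x • b₂ = b₂ ∧ x • c₁ = c₁ ∧ x • c₂ = c₂) →
        b₁ ≠ b₂ → c₁ ≠ c₂ → ∃ g ∈ Subgroup.centralizer X, g • b₁ = c₁ ∧ g • b₂ = c₂) ∧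
      Even (Nat.card ↥(Subgroup.centralizer X ⊓ Q)) ∧
      (Subgroup.centralizer X ⊓ Q) ⊔ (Subgroup.centralizer X ⊓ (MulAction.stabilizer G a ⊓ MulAction.stabilizer G (t • a))) = Subgroup.centralizer X ⊓ MulAction.stabilizer G a := by
  obtain ⟨e, hea, heb, hXe⟩ := exists_third_fix a (t • a) h3
  have hXb : ∀ x ∈ X, x • (t • a) = t • a := fun x hx => (hX hx).2
  refine ⟨?_, ?_, ?_⟩
  · intro b₁ b₂ c₁ c₂ hfix hb hc
    exact ro_fix_two_trans hS hX hea heb hXe (fun x hx => (hfix x hx).1) (fun x hx => (hfix x hx).2.1)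
      (fun x hx => (hfix x hx).2.2.1) (fun x hx => (hfix x hx).2.2.2) hb hc
  · obtain ⟨s, hsQ, hsC, hs1, hss⟩ := ro_fix_inv hS hX hea heb hXe
    have h1 : orderOf s = 2 := orderOf_eq_prime (by rw [pow_two, hss]) hs1
    have h2 : orderOf s ∣ Nat.card ↥(Subgroup.centralizer X ⊓ Q) :=
      Subgroup.orderOf_dvd_natCard _ ⟨hsC, hsQ⟩
    rw [h1] at h2
    exact even_iff_two_dvd.mpr h2
  · apply le_antisymm
    · apply sup_le
      · exact inf_le_inf_left _ hS.le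
      · exact inf_le_inf_left _ inf_le_left
    · intro g hg
      obtain ⟨hgC, hga⟩ := Subgroup.mem_inf.mp hg
      have hga' : g • a = a := hga
      have hc : g • (t • a) ≠ a := by
        intro h
        have h' : g • (t • a) = g • a := by rw [h, hga']
        exact ro_tsmul_ne hS (smul_left_cancel g h')
      obtain ⟨r, hrQ, hrC, hr⟩ := ro_fix_Q' hS hX hc (cent_smul_fix hgC hXb)
      have h1 : r⁻¹ * g ∈ Subgroup.centralizer X ⊓ (MulAction.stabilizer G a ⊓ MulAction.stabilizer G (t • a)) := by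
        refine Subgroup.mem_inf.mpr ⟨mul_mem (inv_mem hrC) hgC, Subgroup.mem_inf.mpr ⟨?_, ?_⟩⟩
        · show (r⁻¹ * g) • a = a
          rw [mul_smul, hga', inv_smul_eq_iff, ro_Q_fix hS hrQ]
        · show (r⁻¹ * g) • (t • a) = t • a
          rw [mul_smul, inv_smul_eq_iff, hr]
      have h2 : g = r * (r⁻¹ * g) := by group
      rw [h2]
      exact Subgroup.mul_mem_sup (Subgroup.mem_inf.mpr ⟨hrC, hrQ⟩) h1

end Cfsg.Agent.S1125
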