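import Cfsg.Statements.S1127
import Cfsg.Agent.Lib.helper24.RankOne2

set_option autoImplicit false
open Cfsg

namespace Cfsg.Agent.S1127

open Cfsg.Agent.Lib.helper24 MulAction

theorem mem_cent {M : Type*} [Group M] {t g : M} : g ∈ Subgroup.centralizer ({t} : Set M) ↔ t * g = g * t := by
  simp [Subgroup.mem_centralizer_iff]

/-- In the rank-one set-up (`G` finite and doubly transitive on `Ω`, `t` an involution moving `a`, `Q` normal in `G_a` with `G_a = Q D`, `Q ⊓ D = 1` for the two-point stabiliser `D = G_a ⊓ G_{t • a}`, `|Q|` even, `|D|` odd): if `s` is an involution of `G_a` and `r ∈ Q` satisfy `t s t = r⁻¹ t r`, then `C_D(t) = C_D(s)`; moreover `C_D(t) ⊓ C_D(K) = C_D(I ∩ G_a)`, where `K` is the set of elements of `D` inverted by `t` and `I ∩ G_a` the set of involutions of `G_a`. -/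
theorem result {G Ω : Type*} [Group G] [Finite G] [MulAction G Ω] {a : Ω} {t : G} {Q : Subgroup G}
    (hS : Cfsg.IsRankOneSetup G Ω a t Q) :
    (∀ s r : G, s ∈ Cfsg.involutionsIn (MulAction.stabilizer G a : Set G) → r ∈ Q → t * s * t = r⁻¹ * t * r →
        (MulAction.stabilizer G a ⊓ MulAction.stabilizer G (t • a)) ⊓ Subgroup.centralizer {t} = (MulAction.stabilizer G a ⊓ MulAction.stabilizer G (t • a)) ⊓ Subgroup.centralizer {s}) ∧
      (MulAction.stabilizer G a ⊓ MulAction.stabilizer G (t • a)) ⊓ Subgroup.centralizer {t} ⊓ Subgroup.centralizer (Cfsg.invertedBy (MulAction.stabilizer G a ⊓ MulAction.stabilizer G (t • a)) t) =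
        (MulAction.stabilizer G a ⊓ MulAction.stabilizer G (t • a)) ⊓ Subgroup.centralizer (Cfsg.involutionsIn (MulAction.stabilizer G a : Set G)) := by
  have hti := ro_t_inv hS
  constructor
  · intro s r hs hr heq
    ext d
    constructor
    · rintro ⟨hd, hdt⟩
      exact ⟨hd, mem_cent.mpr ((ro_cent_t_iff_cent_s hS hs hr heq hd).mp (mem_cent.mp hdt))⟩
    · rintro ⟨hd, hds⟩
      exact ⟨hd, mem_cent.mpr ((ro_cent_t_iff_cent_s hS hs hr heq hd).mpr (mem_cent.mp hds))⟩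
  · obtain ⟨⟨s₀, r₀⟩, ⟨hs₀, hr₀, heq⟩, -⟩ := ro_structure_eq hS
    simp only at hs₀ hr₀ heq
    obtain ⟨hs₀a, hs₀1, hs₀s₀⟩ := hs₀
    have hs₀' : s₀ ∈ Cfsg.involutionsIn (MulAction.stabilizer G a : Set G) := ⟨hs₀a, hs₀1, hs₀s₀⟩
    ext d
    constructor
    · rintro ⟨⟨hd, hdt⟩, hdK⟩
      refine ⟨hd, ?_⟩
      refine Subgroup.mem_centralizer_iff.mpr ?_
      rintro s' ⟨hs'a, hs'1, hs's'⟩
      have c0 : Commute s₀ d := (ro_cent_t_iff_cent_s hS hs₀' hr₀ heq hd).mp (mem_cent.mp hdt)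
      obtain ⟨k, hk, rfl⟩ := ro_K_conj_trans hS hs₀a hs₀1 hs₀s₀ hs'a hs'1 hs's'
      have c1 : Commute k d := (Subgroup.mem_centralizer_iff.mp hdK) k hk
      exact ((c1.inv_left.mul_left c0).mul_left c1).eq
    · rintro ⟨hd, hdJ⟩
      have hdJ := Subgroup.mem_centralizer_iff.mp hdJ
      have c0 : Commute s₀ d := hdJ s₀ hs₀'
      have ct : Commute t d := (ro_cent_t_iff_cent_s hS hs₀' hr₀ heq hd).mpr c0.eq
      refine ⟨⟨hd, mem_cent.mpr ct.eq⟩, ?_⟩
      refine Subgroup.mem_centralizer_iff.mpr ?_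
      rintro k hk
      -- k' = d k d⁻¹ ∈ K
      have hk' : d * k * d⁻¹ ∈ Cfsg.invertedBy (MulAction.stabilizer G a ⊓ MulAction.stabilizer G (t • a)) t := by
        refine ⟨mul_mem (mul_mem hd hk.1) (inv_mem hd), ?_⟩
        have e1 : t * (d * k * d⁻¹) * t⁻¹ = (t * d) * (t⁻¹ * (t * k * t⁻¹) * t) * (d⁻¹ * t⁻¹) := by group
        have ct' : d⁻¹ * t⁻¹ = t⁻¹ * d⁻¹ := (ct.inv_left.inv_right).symm.eq
        rw [e1, hk.2, ct.eq, ct']
        group
      have hsk : k⁻¹ * s₀ * k ∈ Cfsg.involutionsIn (MulAction.stabilizer G a : Set G) := by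
        refine ⟨mul_mem (mul_mem (inv_mem hk.1.1) hs₀a) hk.1.1, ?_, ?_⟩
        · have := conj_ne_one (g := k⁻¹) hs₀1
          rwa [inv_inv] at this
        · have := conj_mul_self (g := k⁻¹) hs₀s₀
          rwa [inv_inv] at this
      have c2 : Commute (k⁻¹ * s₀ * k) d := hdJ _ hsk
      have h1 : (d * k * d⁻¹)⁻¹ * s₀ * (d * k * d⁻¹) = k⁻¹ * s₀ * k := by
        have e1 : (d * k * d⁻¹)⁻¹ * s₀ * (d * k * d⁻¹) = d * k⁻¹ * (d⁻¹ * s₀ * d) * k * d⁻¹ := by group
        have e2 : d⁻¹ * s₀ * d = s₀ := by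
          rw [mul_assoc, c0.eq]; group
        rw [e1, e2]
        have e3 : d * k⁻¹ * s₀ * k * d⁻¹ = d * (k⁻¹ * s₀ * k) * d⁻¹ := by group
        rw [e3, ← c2.eq]; group
      have h2 : d * k * d⁻¹ = k := ro_K_conj_inj hS hs₀a hs₀1 hs₀s₀ hk' hk h1
      calc k * d = (d * k * d⁻¹) * d := by rw [h2]
        _ = d * k := by group

end Cfsg.Agent.S1127
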