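import Cfsg.Statements.S1134
import Mathlib
import Cfsg.Agent.Lib.helper24.RankOne3

set_option autoImplicit false
open Cfsg

namespace Cfsg.Agent.S1134

/-- In the rank-one set-up (`G` finite and doubly transitive on `Ω`, `t` an involution moving `a`, `Q` normal in `G_a` with `G_a = Q D`, `Q ⊓ D = 1` for the two-point stabiliser `D = G_a ⊓ G_{t • a}`, `|Q|` even, `|D|` odd), with the action faithful and `G` containing two distinct commuting involutions, with `V = C_D(t)`: subsets of `V` conjugate in `G` are conjugate in `V`. -/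
theorem result {G Ω : Type*} [Group G] [Finite G] [MulAction G Ω] [FaithfulSMul G Ω] {a : Ω} {t : G} {Q : Subgroup G}
    (hS : Cfsg.IsRankOneSetup G Ω a t Q)
    (h2 : ∃ x y : G, x ≠ 1 ∧ y ≠ 1 ∧ x ≠ y ∧ x * x = 1 ∧ y * y = 1 ∧ x * y = y * x)
    (X : Set G) (hX : X ⊆ (((MulAction.stabilizer G a ⊓ MulAction.stabilizer G (t • a)) ⊓ Subgroup.centralizer {t} : Subgroup G) : Set G)) (g : G)
    (hY : (fun x => g * x * g⁻¹) '' X ⊆ (((MulAction.stabilizer G a ⊓ MulAction.stabilizer G (t • a)) ⊓ Subgroup.centralizer {t} : Subgroup G) : Set G)) :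
    ∃ v ∈ (MulAction.stabilizer G a ⊓ MulAction.stabilizer G (t • a)) ⊓ Subgroup.centralizer {t}, (fun x => v * x * v⁻¹) '' X = (fun x => g * x * g⁻¹) '' X := by
  classical
  have hti := Cfsg.Agent.Lib.helper24.ro_t_inv hS
  have htt := hS.mul_self
  obtain ⟨c₀, hc₀⟩ := Cfsg.Agent.Lib.helper24.ro_inv_fix hS hS.mul_self
  obtain ⟨hc₀a, hc₀b⟩ := Cfsg.Agent.Lib.helper24.ro_t_fix_ne hS hc₀
  have hab := Cfsg.Agent.Lib.helper24.ro_tsmul_ne hS
  -- elements of V fix a, t • a, c₀ and commute with t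
  have hVfix : ∀ y ∈ (((MulAction.stabilizer G a ⊓ MulAction.stabilizer G (t • a)) ⊓
      Subgroup.centralizer {t} : Subgroup G) : Set G),
      y • a = a ∧ y • (t • a) = t • a ∧ y • c₀ = c₀ ∧ t * y = y * t := by
    intro y hy
    obtain ⟨⟨hya, hyb⟩, hyt⟩ := hy
    have hyt' : t * y = y * t := Subgroup.mem_centralizer_iff.mp hyt t rfl
    refine ⟨hya, hyb, ?_, hyt'⟩
    have : t • (y • c₀) = y • c₀ := by rw [← mul_smul, hyt', mul_smul, hc₀]
    exact Cfsg.Agent.Lib.helper24.ro_inv_fix_unique hS hS.ne_one hS.mul_self this hc₀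
  have hX₂D : (fun x => g * x * g⁻¹) '' X ⊆
      ((MulAction.stabilizer G a ⊓ MulAction.stabilizer G (t • a) : Subgroup G) : Set G) :=
    fun y hy => (hY hy).1
  have hX₂c : ∀ y ∈ (fun x => g * x * g⁻¹) '' X, y • c₀ = c₀ := fun y hy => (hVfix y (hY hy)).2.2.1
  have hX₂a : ∀ y ∈ (fun x => g * x * g⁻¹) '' X, y • a = a := fun y hy => (hVfix y (hY hy)).1
  have hX₂b : ∀ y ∈ (fun x => g * x * g⁻¹) '' X, y • (t • a) = t • a :=
    fun y hy => (hVfix y (hY hy)).2.1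
  have hX₂ga : ∀ y ∈ (fun x => g * x * g⁻¹) '' X, y • (g • a) = g • a := by
    rintro y ⟨x, hx, rfl⟩
    show (g * x * g⁻¹) • (g • a) = g • a
    rw [mul_smul, mul_smul, inv_smul_smul, (hVfix x (hX hx)).1]
  have hX₂gb : ∀ y ∈ (fun x => g * x * g⁻¹) '' X, y • (g • (t • a)) = g • (t • a) := by
    rintro y ⟨x, hx, rfl⟩
    show (g * x * g⁻¹) • (g • (t • a)) = g • (t • a)
    rw [mul_smul, mul_smul, inv_smul_smul, (hVfix x (hX hx)).2.1]
  have hne : g • a ≠ g • (t • a) := fun e => hab (smul_left_cancel g e).symm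
  obtain ⟨h, hh, hha, hhb⟩ := Cfsg.Agent.Lib.helper24.ro_fix_two_trans hS hX₂D hc₀a hc₀b hX₂c
    hX₂ga hX₂gb hX₂a hX₂b hne (Ne.symm hab)
  have hhc := Subgroup.mem_centralizer_iff.mp hh
  -- g' = h * g fixes a and t • a and induces the same conjugation on X
  have hg'a : (h * g) • a = a := by rw [mul_smul, hha]
  have hg'b : (h * g) • (t • a) = t • a := by rw [mul_smul, hhb]
  have hg'X : ∀ x ∈ X, (h * g) * x * (h * g)⁻¹ = g * x * g⁻¹ := by
    intro x hx
    have := hhc (g * x * g⁻¹) ⟨x, hx, rfl⟩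
    have e : (h * g) * x * (h * g)⁻¹ = h * (g * x * g⁻¹) * h⁻¹ := by group
    rw [e, ← this]; group
  have hg'inva : (h * g)⁻¹ • a = a := by
    have := congrArg (fun z => (h * g)⁻¹ • z) hg'a
    simp only [inv_smul_smul] at this
    exact this.symm
  have hg'invb : (h * g)⁻¹ • (t • a) = t • a := by
    have := congrArg (fun z => (h * g)⁻¹ • z) hg'b
    simp only [inv_smul_smul] at this
    exact this.symm
  -- the involution w' = g' t g'⁻¹
  have hww : ((h * g) * t * (h * g)⁻¹) * ((h * g) * t * (h * g)⁻¹) = 1 := by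
    have : ((h * g) * t * (h * g)⁻¹) * ((h * g) * t * (h * g)⁻¹) = (h * g) * (t * t) * (h * g)⁻¹ := by
      group
    rw [this, htt]; group
  have hwa : ((h * g) * t * (h * g)⁻¹) • a = t • a := by
    rw [mul_smul, mul_smul, hg'inva, hg'b]
  have hk := Cfsg.Agent.Lib.helper24.ro_swap_mem_K hS hww hwa
  obtain ⟨hkD, hkinv⟩ := hk
  -- k' centralises X₂
  have hwX : ∀ x ∈ X, ((h * g) * t * (h * g)⁻¹) * (g * x * g⁻¹) = (g * x * g⁻¹) * ((h * g) * t * (h * g)⁻¹) := by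
    intro x hx
    have htx := (hVfix x (hX hx)).2.2.2
    rw [← hg'X x hx]
    have e1 : (h * g) * t * (h * g)⁻¹ * ((h * g) * x * (h * g)⁻¹) = (h * g) * (t * x) * (h * g)⁻¹ := by
      group
    have e2 : (h * g) * x * (h * g)⁻¹ * ((h * g) * t * (h * g)⁻¹) = (h * g) * (x * t) * (h * g)⁻¹ := by
      group
    rw [e1, e2, htx]
  have hkX : t * ((h * g) * t * (h * g)⁻¹) ∈ Subgroup.centralizer ((fun x => g * x * g⁻¹) '' X) := by
    rw [Subgroup.mem_centralizer_iff]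
    rintro y ⟨x, hx, rfl⟩
    show (g * x * g⁻¹) * (t * ((h * g) * t * (h * g)⁻¹)) = t * ((h * g) * t * (h * g)⁻¹) * (g * x * g⁻¹)
    have hty := (hVfix (g * x * g⁻¹) (hY ⟨x, hx, rfl⟩)).2.2.2
    calc (g * x * g⁻¹) * (t * ((h * g) * t * (h * g)⁻¹))
        = ((g * x * g⁻¹) * t) * ((h * g) * t * (h * g)⁻¹) := by group
      _ = (t * (g * x * g⁻¹)) * ((h * g) * t * (h * g)⁻¹) := by rw [hty]
      _ = t * ((g * x * g⁻¹) * ((h * g) * t * (h * g)⁻¹)) := by group
      _ = t * (((h * g) * t * (h * g)⁻¹) * (g * x * g⁻¹)) := by rw [hwX x hx]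
      _ = t * ((h * g) * t * (h * g)⁻¹) * (g * x * g⁻¹) := by group
  -- square root of k'
  have hodd : Odd (orderOf (t * ((h * g) * t * (h * g)⁻¹))) := by
    have hdvd : orderOf (t * ((h * g) * t * (h * g)⁻¹)) ∣
        Nat.card ↥(MulAction.stabilizer G a ⊓ MulAction.stabilizer G (t • a)) := by
      have := orderOf_dvd_natCard (⟨_, hkD⟩ : ↥(MulAction.stabilizer G a ⊓ MulAction.stabilizer G (t • a)))
      rwa [Subgroup.orderOf_mk] at this
    exact hS.odd_card.of_dvd_nat hdvd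
  obtain ⟨m, hm⟩ := hodd
  have hsq : (t * ((h * g) * t * (h * g)⁻¹)) ^ (m + 1) * (t * ((h * g) * t * (h * g)⁻¹)) ^ (m + 1)
      = t * ((h * g) * t * (h * g)⁻¹) := by
    rw [← pow_add]
    have : m + 1 + (m + 1) = orderOf (t * ((h * g) * t * (h * g)⁻¹)) + 1 := by omega
    rw [this, pow_succ, pow_orderOf_eq_one, one_mul]
  have hh₂D : (t * ((h * g) * t * (h * g)⁻¹)) ^ (m + 1) ∈
      MulAction.stabilizer G a ⊓ MulAction.stabilizer G (t • a) := Subgroup.pow_mem _ hkD _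
  have hh₂X := Subgroup.pow_mem _ hkX (m + 1)
  have hh₂inv : t * (t * ((h * g) * t * (h * g)⁻¹)) ^ (m + 1) * t
      = ((t * ((h * g) * t * (h * g)⁻¹)) ^ (m + 1))⁻¹ := by
    have e := conj_pow (a := t) (b := t * ((h * g) * t * (h * g)⁻¹)) (i := m + 1)
    rw [hkinv, hti] at e
    rw [← e, inv_pow]
  -- the element v
  refine ⟨(t * ((h * g) * t * (h * g)⁻¹)) ^ (m + 1) * (h * g), ⟨?_, ?_⟩, ?_⟩
  · refine Subgroup.mul_mem _ hh₂D ?_
    exact ⟨hg'a, hg'b⟩
  · show _ ∈ Subgroup.centralizer {t}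
    rw [Subgroup.mem_centralizer_iff]
    intro z hz
    rw [Set.mem_singleton_iff] at hz
    rw [hz]
    generalize hh₂ : (t * ((h * g) * t * (h * g)⁻¹)) ^ (m + 1) = h₂ at hsq hh₂inv
    have hk'eq : (h * g) * t * (h * g)⁻¹ = t * (h₂ * h₂) := by
      rw [hsq, ← mul_assoc, htt, one_mul]
    have h₂t : h₂ * t = t * h₂⁻¹ := by
      rw [← hh₂inv, ← mul_assoc, ← mul_assoc, htt, one_mul]
    symm
    calc h₂ * (h * g) * t = h₂ * ((h * g) * t * (h * g)⁻¹) * (h * g) := by group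
      _ = h₂ * (t * (h₂ * h₂)) * (h * g) := by rw [hk'eq]
      _ = (h₂ * t) * h₂ * h₂ * (h * g) := by group
      _ = (t * h₂⁻¹) * h₂ * h₂ * (h * g) := by rw [h₂t]
      _ = t * (h₂ * (h * g)) := by group
  · apply Set.image_congr
    intro x hx
    have hy : g * x * g⁻¹ ∈ (fun x => g * x * g⁻¹) '' X := ⟨x, hx, rfl⟩
    have hc := Subgroup.mem_centralizer_iff.mp hh₂X _ hy
    have e : (t * ((h * g) * t * (h * g)⁻¹)) ^ (m + 1) * (h * g) * x *
        ((t * ((h * g) * t * (h * g)⁻¹)) ^ (m + 1) * (h * g))⁻¹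
        = (t * ((h * g) * t * (h * g)⁻¹)) ^ (m + 1) * ((h * g) * x * (h * g)⁻¹) *
          ((t * ((h * g) * t * (h * g)⁻¹)) ^ (m + 1))⁻¹ := by group
    rw [e, hg'X x hx, ← hc]
    group

end Cfsg.Agent.S1134
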