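import Cfsg.Statements.S1138
import Cfsg.Agent.Lib.helper89.Suz6

set_option autoImplicit false
open Cfsg

namespace Cfsg.Agent.S1138

open Cfsg.Agent.S1137 Cfsg.Agent.Lib.helper89.Suz

/-- Let `P` be a Suzuki 2-group with `|Z(P)| = q`. Then every square lies in `Z(P)` and `P/Z(P)` is abelian (so elementary abelian), `|P| = q²` or `|P| = q³`, and `P` has exponent 4. -/
theorem result {P : Type*} [Group P] (hP : Cfsg.IsSuzukiTwoGroup P) :
    (∀ x : P, x * x ∈ Subgroup.center P) ∧ (∀ x y : P, x⁻¹ * y⁻¹ * x * y ∈ Subgroup.center P) ∧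
      (Nat.card P = Nat.card (Subgroup.center P) ^ 2 ∨ Nat.card P = Nat.card (Subgroup.center P) ^ 3) ∧
      Monoid.exponent P = 4 := by
  obtain ⟨hfin, hpg, ⟨a, b, hab⟩, htwo, K, hcyc, hreg⟩ := hP
  have hcomm : ∀ x y : K, x * y = y * x := by
    intro x y
    obtain ⟨g, hg⟩ := IsCyclic.exists_generator (α := K)
    obtain ⟨i, rfl⟩ := Subgroup.mem_zpowers_iff.mp (hg x)
    obtain ⟨j, rfl⟩ := Subgroup.mem_zpowers_iff.mp (hg y)
    rw [← zpow_add, ← zpow_add, add_comm]
  have h : Hyp P K (fun k => ((k : MulAut P) : P ≃* P).toMonoidHom) :=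
    { fin := hfin
      pg := hpg
      comm := hcomm
      comp := fun k k' x => rfl
      one := fun x => rfl
      two := htwo
      reg := hreg }
  have hna : ∃ a b : P, a * b ≠ b * a := ⟨a, b, hab⟩
  obtain ⟨hcl, hsq, hcard⟩ := higman h hna
  have hcen : Subgroup.center P = h.V := by
    ext z
    constructor
    · intro hz
      exact h.mem_V.mpr (center_sq_top h hna (fun y => (Subgroup.mem_center_iff.mp hz y).symm))
    · intro hz
      exact h.sq_one_central (h.mem_V.mp hz)
  have hcV := card_V h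
  refine ⟨?_, ?_, ?_, ?_⟩
  · intro x; rw [hcen]; exact hsq x
  · intro x y
    rw [hcen]
    have e : x⁻¹ * y⁻¹ * x * y = cm x y := by unfold cm; group
    rw [e]; exact hcl x y
  · rw [hcen, hcV]; exact hcard
  · have h4 : Monoid.exponent P ∣ 4 := by
      apply Monoid.exponent_dvd_of_forall_pow_eq_one
      intro x
      have e : x ^ 4 = (x * x) * (x * x) := by
        rw [show (4 : ℕ) = 2 + 2 from rfl, pow_add, pow_two]
      rw [e]; exact h.mem_V.mp (hsq x)
    have h2 : ¬ Monoid.exponent P ∣ 2 := by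
      intro hc
      have hall := Monoid.exponent_dvd_iff_forall_pow_eq_one.mp hc
      have ha : a ∈ h.V := by
        rw [h.mem_V, ← pow_two]; exact hall a
      exact hab (V_central h ha b)
    have h4' : Monoid.exponent P ∣ 2 ^ 2 := h4
    obtain ⟨m, hm, hm'⟩ := (Nat.dvd_prime_pow Nat.prime_two).mp h4'
    interval_cases m
    · exfalso; apply h2; rw [hm']; norm_num
    · exfalso; apply h2; rw [hm']; norm_num
    · rw [hm']; norm_num

end Cfsg.Agent.S1138
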