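import Cfsg.Statements.S1139
import Mathlib
import Cfsg.Agent.S1137
import Cfsg.Agent.Lib.helper24.SzMain

set_option autoImplicit false
open Cfsg

namespace Cfsg.Agent.S1139

/-- A Suzuki 2-group `P` with `|P| = |Z(P)|²` is of type A: for some finite field `F` with `|F| = |Z(P)|` and some field automorphism `φ ≠ 1` of odd order, `P` is isomorphic to the group of lower unitriangular matrices with rows `(1,0,0)`, `(x,1,0)`, `(y, φ x, 1)`. -/
theorem result {P : Type*} [Group P] (hP : Cfsg.IsSuzukiTwoGroup P)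
    (hcard : Nat.card P = Nat.card (Subgroup.center P) ^ 2) :
    ∃ (F : Type) (_ : Field F) (_ : Fintype F) (φ : F ≃+* F), Fintype.card F = Nat.card (Subgroup.center P) ∧
      φ ≠ RingEquiv.refl F ∧ Odd (orderOf φ) ∧ Nonempty (P ≃* Cfsg.suzukiTypeA F (φ : F →+* F)) := by
  classical
  have hS := Cfsg.Agent.S1137.result hP
  obtain ⟨hfin, hpg, ⟨a, b, hab⟩, htwo, K, hcyc, hreg⟩ := hP
  haveI := hfin
  have hcomm : ∀ x y : K, x * y = y * x := by
    intro x y
    obtain ⟨g, hg⟩ := IsCyclic.exists_generator (α := K)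
    obtain ⟨i, rfl⟩ := Subgroup.mem_zpowers_iff.mp (hg x)
    obtain ⟨j, rfl⟩ := Subgroup.mem_zpowers_iff.mp (hg y)
    rw [← zpow_add, ← zpow_add, add_comm]
  have h : Cfsg.Agent.S1137.Hyp P K (fun k => ((k : MulAut P) : P ≃* P).toMonoidHom) :=
    { fin := hfin
      pg := hpg
      comm := hcomm
      comp := fun k k' x => rfl
      one := fun x => rfl
      two := htwo
      reg := hreg }
  have hz := hS.2
  haveI : Fact (Nat.Prime 2) := ⟨Nat.prime_two⟩
  obtain ⟨n, hn⟩ := (hpg.to_subgroup (Subgroup.center P)).exists_card_eq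
  have hn0 : n ≠ 0 := by
    rintro rfl
    obtain ⟨z₀, hz₀c, hz₀1, -⟩ := h.exists_central_invol
    rw [pow_zero] at hn
    have hsub : Subsingleton (Subgroup.center P) := (Nat.card_eq_one_iff_unique.mp hn).1
    have : (⟨z₀, hz₀c⟩ : Subgroup.center P) = 1 := Subsingleton.elim _ _
    exact hz₀1 (congrArg Subtype.val this)
  letI : Fintype (GaloisField 2 n) := Fintype.ofFinite _
  have hF : Fintype.card (GaloisField 2 n) = Nat.card (Subgroup.center P) := by
    rw [← Nat.card_eq_fintype_card, GaloisField.card 2 n hn0, hn]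
  obtain ⟨φ, h1, h2, h3⟩ := Cfsg.Agent.Lib.helper24.sz_main_aux h hz hcard ⟨a, b, hab⟩ hF
  exact ⟨GaloisField 2 n, inferInstance, inferInstance, φ, hF, h1, h2, h3⟩

end Cfsg.Agent.S1139
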