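import Mathlib
import Cfsg.Statements.S1141
import Cfsg.Agent.Lib.helper58.SU3Diag
-- import your own Cfsg.Agent.* helpers here

set_option autoImplicit false
open Cfsg

namespace Cfsg.Agent.S1141

theorem exists_ne_ne {α : Type*} [Finite α] (h : 2 < Nat.card α) (a b : α) :
    ∃ y, y ≠ a ∧ y ≠ b := by
  classical
  by_contra hcon
  push Not at hcon
  have : Fintype α := Fintype.ofFinite α
  have hsub : (Finset.univ : Finset α) ⊆ {a, b} := by
    intro y _
    by_cases hy : y = a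
    · simp [hy]
    · simp [hcon y hy]
  have h3 := Finset.card_le_card hsub
  rw [Finset.card_univ, ← Nat.card_eq_fintype_card] at h3
  have h4 := Finset.card_le_two (a := a) (b := b)
  omega

open Cfsg.Agent.Lib.helper58 in
/-- Let `q = 2^n ≥ 4` and `|F| = q²`. A Sylow 2-subgroup `S` of `PSU₃(q)` has order `q³`, its centre has order `q`, and `S` is a Suzuki 2-group. -/
theorem result {F : Type*} [Field F] [Fintype F] {n : ℕ} (hn : 2 ≤ n)
    (hF : Fintype.card F = (2 ^ n) ^ 2) (S : Sylow 2 (Cfsg.PSU 3 F (2 ^ n))) :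
    Nat.card S = (2 ^ n) ^ 3 ∧ Nat.card (Subgroup.center ↥(S : Subgroup (Cfsg.PSU 3 F (2 ^ n)))) = 2 ^ n ∧
      Cfsg.IsSuzukiTwoGroup ↥(S : Subgroup (Cfsg.PSU 3 F (2 ^ n))) := by
  have hq : Even (2 ^ n) := (Nat.even_pow' (by omega)).mpr even_two
  have h2 : (2 : F) = 0 := two_eq_zero_of_even hF hq
  obtain ⟨c⟩ := exists_ucoord_of_sylow_PSU hF h2 S
  have hcard := c.card_eq hF h2
  have hcen := c.card_center hF h2
  have h4 : 4 ≤ 2 ^ n := by
    calc 4 = 2 ^ 2 := by norm_num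
      _ ≤ 2 ^ n := Nat.pow_le_pow_right (by norm_num) hn
  have hfin : Finite ↥(S : Subgroup (Cfsg.PSU 3 F (2 ^ n))) :=
    Nat.finite_of_card_ne_zero (by rw [hcard]; positivity)
  refine ⟨hcard, hcen, hfin, S.isPGroup', ?_, ?_, c.diagK hF, c.isCyclic_diagK hF,
    fun x y hx1 hx hy1 hy => c.diagK_regular hF h2 x y hx1 hx hy1 hy⟩
  · -- non-abelian
    by_contra hcon
    push Not at hcon
    have htop : Subgroup.center ↥(S : Subgroup (Cfsg.PSU 3 F (2 ^ n))) = ⊤ := by
      rw [eq_top_iff]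
      intro g _
      rw [Subgroup.mem_center_iff]
      intro h
      exact hcon h g
    rw [htop, Subgroup.card_top, hcard] at hcen
    have : (2 ^ n) ^ 3 = 2 ^ n * (2 ^ n) ^ 2 := by ring
    nlinarith
  · -- two involutions
    have h1 : 2 < Nat.card (Subgroup.center ↥(S : Subgroup (Cfsg.PSU 3 F (2 ^ n)))) := by
      rw [hcen]; omega
    have : Finite (Subgroup.center ↥(S : Subgroup (Cfsg.PSU 3 F (2 ^ n)))) :=
      Nat.finite_of_card_ne_zero (by omega)
    obtain ⟨x, hx, -⟩ := exists_ne_ne h1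
      (1 : Subgroup.center ↥(S : Subgroup (Cfsg.PSU 3 F (2 ^ n)))) 1
    obtain ⟨y, hy1, hyx⟩ := exists_ne_ne h1
      (1 : Subgroup.center ↥(S : Subgroup (Cfsg.PSU 3 F (2 ^ n)))) x
    refine ⟨x.1, y.1, fun h => hyx (Subtype.ext h.symm), fun h => hx (Subtype.ext h), ?_,
      fun h => hy1 (Subtype.ext h), ?_⟩
    · rw [← pow_two]; exact c.center_sq_eq_one hF h2 x.1 x.2
    · rw [← pow_two]; exact c.center_sq_eq_one hF h2 y.1 y.2

end Cfsg.Agent.S1141
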