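import Cfsg.Statements.S1158
import Cfsg.Agent.Lib.helper44.ReeWardF

set_option autoImplicit false
open Cfsg

namespace Cfsg.Agent.S1158

/-- In the small Ree group ²G₂(q), q = 3^(2m+1) with m ≥ 1, realised as G¹ inside the Chevalley group G₂ over the field with q elements (θ the 3^m-th power map), with `r = 3^(m+1)` (so `r² = 3q`): for each `k ∈ {(q-1)/2, (q+1)/4, q - r + 1, q + r + 1}` there is a cyclic subgroup `A` of order `k` whose normaliser has order `2(q-1)`, `6(q+1)`, `6(q-r+1)`, `6(q+r+1)` respectively, and `N(A₀) = N(A)` for every non-trivial `A₀ ≤ A`. -/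
theorem result {K : Type*} [Field K] [Fintype K] {m : ℕ} (hm : 1 ≤ m) (hK : Fintype.card K = 3 ^ (2 * m + 1)) :
    ∀ kn ∈ ({((3 ^ (2 * m + 1) - 1) / 2, 2 * (3 ^ (2 * m + 1) - 1)), ((3 ^ (2 * m + 1) + 1) / 4, 6 * (3 ^ (2 * m + 1) + 1)),
        (3 ^ (2 * m + 1) - 3 ^ (m + 1) + 1, 6 * (3 ^ (2 * m + 1) - 3 ^ (m + 1) + 1)),
        (3 ^ (2 * m + 1) + 3 ^ (m + 1) + 1, 6 * (3 ^ (2 * m + 1) + 3 ^ (m + 1) + 1))} : Set (ℕ × ℕ)),
      ∃ A : Subgroup ↥(Cfsg.Lie.twistedG2 K (3 ^ m)), IsCyclic A ∧ Nat.card A = kn.1 ∧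
        Nat.card (Subgroup.normalizer (A : Set ↥(Cfsg.Lie.twistedG2 K (3 ^ m)))) = kn.2 ∧
        ∀ A₀ : Subgroup ↥(Cfsg.Lie.twistedG2 K (3 ^ m)), A₀ ≤ A → A₀ ≠ ⊥ →
          Subgroup.normalizer (A₀ : Set ↥(Cfsg.Lie.twistedG2 K (3 ^ m))) = Subgroup.normalizer (A : Set ↥(Cfsg.Lie.twistedG2 K (3 ^ m))) := by
  obtain ⟨R⟩ := Cfsg.Agent.Lib.helper23.exists_reeData hK
  obtain ⟨t, ht⟩ := Cfsg.Agent.Lib.helper44.ree_q_form m
  have hr : 3 ^ (m + 1) ≤ 8 * t + 3 := by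
    rw [← ht]
    exact Nat.pow_le_pow_right (by norm_num) (by omega)
  have e1 : (3 ^ (2 * m + 1) - 1) / 2 = 4 * t + 1 := by
    rw [ht]
    omega
  have e1' : 2 * (3 ^ (2 * m + 1) - 1) = 2 * (8 * t + 2) := by
    rw [ht]
    omega
  have e2 : (3 ^ (2 * m + 1) + 1) / 4 = 2 * t + 1 := by
    rw [ht]
    omega
  have e2' : 6 * (3 ^ (2 * m + 1) + 1) = 6 * (8 * t + 4) := by
    rw [ht]
  have e3 : 3 ^ (2 * m + 1) - 3 ^ (m + 1) + 1 = 8 * t + 3 + 1 - 3 ^ (m + 1) := by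
    rw [ht]
    omega
  have e4 : 3 ^ (2 * m + 1) + 3 ^ (m + 1) + 1 = 8 * t + 3 + 1 + 3 ^ (m + 1) := by
    rw [ht]
    omega
  rw [e1, e1', e2, e2', e3, e4]
  intro kn hkn
  simp only [Set.mem_insert_iff, Set.mem_singleton_iff] at hkn
  rcases hkn with rfl | rfl | rfl | rfl
  · obtain ⟨A, h1, h2, h3, h4⟩ := Cfsg.Agent.Lib.helper44.ree_norm_split hm hK R t ht
    exact ⟨A, h1, h2, h3, h4⟩
  · obtain ⟨A, h1, h2, h3, h4⟩ := Cfsg.Agent.Lib.helper44.ree_norm_quarter hm hK R t ht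
    exact ⟨A, h1, h2, h3, h4⟩
  · obtain ⟨T₁, T₂, h1, h2, h3, h4, h5, h6, h7, h8, -⟩ := Cfsg.Agent.Lib.helper44.ree_tori hm hK R t ht
    exact ⟨T₁, h1, h3, h5, h7⟩
  · obtain ⟨T₁, T₂, h1, h2, h3, h4, h5, h6, h7, h8, -⟩ := Cfsg.Agent.Lib.helper44.ree_tori hm hK R t ht
    exact ⟨T₂, h2, h4, h6, h8⟩

end Cfsg.Agent.S1158
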