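import Cfsg.Statements.S1159
import Cfsg.Agent.Lib.helper44.ReeWardG

set_option autoImplicit false
open Cfsg

namespace Cfsg.Agent.S1159

/-- In the small Ree group ²G₂(q), q = 3^(2m+1) with m ≥ 1, realised as G¹ inside the Chevalley group G₂ over the field with q elements (θ the 3^m-th power map), with `r = 3^(m+1)`: a natural number is the order of an element of `G¹` iff it divides one of `6`, `9`, `q - 1`, `(q + 1)/2`, `q - r + 1`, `q + r + 1`. -/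
theorem result {K : Type*} [Field K] [Fintype K] {m : ℕ} (hm : 1 ≤ m) (hK : Fintype.card K = 3 ^ (2 * m + 1)) (d : ℕ) :
    (∃ g : ↥(Cfsg.Lie.twistedG2 K (3 ^ m)), orderOf g = d) ↔
      (d ∣ 6 ∨ d ∣ 9 ∨ d ∣ 3 ^ (2 * m + 1) - 1 ∨ d ∣ (3 ^ (2 * m + 1) + 1) / 2 ∨
        d ∣ 3 ^ (2 * m + 1) - 3 ^ (m + 1) + 1 ∨ d ∣ 3 ^ (2 * m + 1) + 3 ^ (m + 1) + 1) := by
  obtain ⟨R⟩ := Cfsg.Agent.Lib.helper23.exists_reeData hK
  obtain ⟨t, ht⟩ := Cfsg.Agent.Lib.helper44.ree_q_form m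
  have hr : 3 ^ (m + 1) ≤ 8 * t + 3 := by
    rw [← ht]
    exact Nat.pow_le_pow_right (by norm_num) (by omega)
  have e1 : 3 ^ (2 * m + 1) - 1 = 8 * t + 2 := by
    rw [ht]
    omega
  have e2 : (3 ^ (2 * m + 1) + 1) / 2 = 4 * t + 2 := by
    rw [ht]
    omega
  have e3 : 3 ^ (2 * m + 1) - 3 ^ (m + 1) + 1 = 8 * t + 3 + 1 - 3 ^ (m + 1) := by
    rw [ht]
    omega
  have e4 : 3 ^ (2 * m + 1) + 3 ^ (m + 1) + 1 = 8 * t + 3 + 1 + 3 ^ (m + 1) := by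
    rw [ht]
    omega
  rw [e1, e2, e3, e4]
  constructor
  · rintro ⟨g, rfl⟩
    exact Cfsg.Agent.Lib.helper44.ree_orders_fwd hm hK R t ht g
  · exact Cfsg.Agent.Lib.helper44.ree_orders_bwd hm hK R t ht d

end Cfsg.Agent.S1159
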