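import Cfsg.Statements.S1160
import Cfsg.Agent.S0016
import Cfsg.Agent.Lib.helper3.ElemAb

set_option autoImplicit false
open Cfsg

namespace Cfsg.Agent.S1160

section Trace

variable {P E : Type*} [Group P] [AddCommGroup E] [DistribMulAction P E]

/-- The sum of the first `n` translates of `e` under the powers of `v`. -/
def tr (n : ℕ) (v : P) (e : E) : E := ∑ j ∈ Finset.range n, v ^ j • e

theorem tr_add (n : ℕ) (v : P) (e e' : E) : tr n v (e + e') = tr n v e + tr n v e' := by
  simp [tr, smul_add, Finset.sum_add_distrib]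

theorem tr_zero (n : ℕ) (v : P) : tr n v (0 : E) = 0 := by
  simp [tr]

theorem tr_neg (n : ℕ) (v : P) (e : E) : tr n v (-e) = -tr n v e := by
  simp [tr, smul_neg]

theorem tr_sub (n : ℕ) (v : P) (e e' : E) : tr n v (e - e') = tr n v e - tr n v e' := by
  rw [sub_eq_add_neg, tr_add, tr_neg, ← sub_eq_add_neg]

theorem tr_nsmul (n : ℕ) (v : P) (k : ℕ) (e : E) : tr n v (k • e) = k • tr n v e := by
  unfold tr
  rw [Finset.smul_sum]
  refine Finset.sum_congr rfl fun j _ => ?_
  rw [smul_comm]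

theorem smul_tr (n : ℕ) (v : P) (hv : v ^ n = 1) (e : E) : v • tr n v e = tr n v e := by
  unfold tr
  rw [Finset.smul_sum]
  have h1 : ∀ j, v • v ^ j • e = v ^ (j + 1) • e := fun j => by rw [pow_succ', mul_smul]
  simp only [h1]
  have h2 := Finset.sum_range_succ (fun j => v ^ j • e) n
  have h3 := Finset.sum_range_succ' (fun j => v ^ j • e) n
  rw [h2] at h3
  simp only [hv, pow_zero, one_smul] at h3
  exact (add_right_cancel h3).symm

theorem tr_of_fixed (n : ℕ) (v : P) (w : E) (h : v • w = w) : tr n v w = n • w := by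
  have h1 : ∀ j : ℕ, v ^ j • w = w := by
    intro j
    induction j with
    | zero => simp
    | succ k ih => rw [pow_succ, mul_smul, h, ih]
  simp [tr, h1]

theorem smul_tr_comm (n : ℕ) (v g : P) (hc : Commute g v) (e : E) :
    g • tr n v e = tr n v (g • e) := by
  unfold tr
  rw [Finset.smul_sum]
  refine Finset.sum_congr rfl fun j _ => ?_
  rw [smul_smul, smul_smul, (hc.pow_right j).eq]

/-- The trace identity for two commuting elements `z`, `u`, when the traces of the nontrivial
powers of `z` vanish. -/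
theorem tr_identity (p : ℕ) (hp : 0 < p) (z u : P) (hc : Commute u z)
    (hz0 : ∀ j ∈ Finset.range p, j ≠ 0 → ∀ e : E, tr p (z ^ j) e = 0) (e : E) :
    ∑ i ∈ Finset.range p, tr p (u * z ^ i) e = p • e := by
  unfold tr
  rw [Finset.sum_comm]
  have h1 : ∀ j ∈ Finset.range p, ∑ i ∈ Finset.range p, (u * z ^ i) ^ j • e
      = u ^ j • tr p (z ^ j) e := by
    intro j _
    unfold tr
    rw [Finset.smul_sum]
    refine Finset.sum_congr rfl fun i _ => ?_
    rw [(hc.pow_right i).mul_pow, smul_smul, ← pow_mul, ← pow_mul, mul_comm i j]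
  rw [Finset.sum_congr rfl h1, Finset.sum_eq_single 0]
  · simp [tr]
  · intro j hj hj0
    rw [hz0 j hj hj0, smul_zero]
  · intro h
    exact absurd (Finset.mem_range.mpr hp) h

end Trace

section Main

variable {P E : Type*} [Group P] [AddCommGroup E] [DistribMulAction P E]

theorem inv_smul {p q m : ℕ} (hE : ∀ e : E, q • e = 0) (hm : p * m % q = 1) (x : E) :
    (p * m) • x = x := by
  have h := Nat.div_add_mod (p * m) q
  rw [← h, hm, add_nsmul, one_nsmul, mul_nsmul, hE, nsmul_zero, zero_add]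

theorem cancel_p {p q m : ℕ} (hE : ∀ e : E, q • e = 0) (hm : p * m % q = 1) {x y : E}
    (h : p • x = p • y) : x = y := by
  have hx := inv_smul hE hm x
  have hy := inv_smul hE hm y
  rw [mul_nsmul] at hx hy
  rw [← hx, ← hy, h]

theorem eq_zero_of_p_smul {p q m : ℕ} (hE : ∀ e : E, q • e = 0) (hm : p * m % q = 1) {x : E}
    (h : p • x = 0) : x = 0 :=
  cancel_p hE hm (by rw [h, nsmul_zero])

/-- An element of order `p` acting nontrivially has a nonzero vector of trace zero. -/
theorem exists_tr_eq_zero [FaithfulSMul P E] {p q m : ℕ} (hE : ∀ e : E, q • e = 0)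
    (hm : p * m % q = 1) (v : P) (hv1 : v ≠ 1) (hvp : v ^ p = 1) :
    ∃ b : E, b ≠ 0 ∧ tr p v b = 0 := by
  obtain ⟨e, he⟩ : ∃ e : E, v • e ≠ e := by
    by_contra h
    push Not at h
    exact hv1 (FaithfulSMul.eq_of_smul_eq_smul (α := E) fun a => by rw [h a, one_smul])
  refine ⟨e - m • tr p v e, ?_, ?_⟩
  · intro h
    apply he
    have h1 : e = m • tr p v e := sub_eq_zero.mp h
    rw [h1, smul_comm, smul_tr p v hvp]
  · rw [tr_sub, tr_nsmul, tr_of_fixed p v _ (smul_tr p v hvp e), ← mul_nsmul, inv_smul hE hm,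
      sub_self]

/-- A central element of order `p` has no nonzero fixed vector, when all stabilizers of nonzero
vectors have the same order. -/
theorem central_fpf [Finite P] [FaithfulSMul P E] {p q m : ℕ} (hE : ∀ e : E, q • e = 0)
    (hm : p * m % q = 1)
    (hconst : ∀ a b : E, a ≠ 0 → b ≠ 0 →
      Nat.card (MulAction.stabilizer P a) = Nat.card (MulAction.stabilizer P b))
    (z : P) (hzc : z ∈ Subgroup.center P) (hz1 : z ≠ 1) (hzp : z ^ p = 1) (a : E)
    (ha : z • a = a) : a = 0 := by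
  by_contra ha0
  obtain ⟨b, hb0, hb⟩ := exists_tr_eq_zero hE hm z hz1 hzp
  have hcomm : ∀ g : P, Commute g z := fun g => Subgroup.mem_center_iff.mp hzc g
  have key : ∀ g : P, g • (a + b) = a + b → g • a = a ∧ g • b = b := by
    intro g hg
    rw [smul_add] at hg
    have hd : g • a - a = b - g • b := by
      rw [sub_eq_sub_iff_add_eq_add, hg, add_comm]
    have hzd : z • (g • a - a) = g • a - a := by
      rw [smul_sub, ha, smul_smul, ← (hcomm g).eq, mul_smul, ha]
    have htr : tr p z (g • a - a) = 0 := by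
      rw [hd, tr_sub, ← smul_tr_comm p z g (hcomm g), hb, smul_zero, sub_zero]
    rw [tr_of_fixed p z _ hzd] at htr
    have hd0 : g • a - a = 0 := eq_zero_of_p_smul hE hm htr
    constructor
    · exact sub_eq_zero.mp hd0
    · have h1 : b - g • b = 0 := by rw [← hd, hd0]
      exact (sub_eq_zero.mp h1).symm
  have hzb_absurd : z • b = b → False := by
    intro hzb
    have h2 := tr_of_fixed p z b hzb
    rw [hb] at h2
    exact hb0 (eq_zero_of_p_smul hE hm h2.symm)
  have hab : a + b ≠ 0 := by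
    intro h
    have hb' : b = -a := (neg_eq_of_add_eq_zero_right h).symm
    apply hzb_absurd
    rw [hb', smul_neg, ha]
  have h1 : MulAction.stabilizer P (a + b) ≤ MulAction.stabilizer P a := fun g hg =>
    MulAction.mem_stabilizer_iff.mpr (key g (MulAction.mem_stabilizer_iff.mp hg)).1
  have h2 : MulAction.stabilizer P (a + b) ≤ MulAction.stabilizer P b := fun g hg =>
    MulAction.mem_stabilizer_iff.mpr (key g (MulAction.mem_stabilizer_iff.mp hg)).2
  have e1 := Subgroup.eq_of_le_of_card_ge h1 (hconst a (a + b) ha0 hab).le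
  have e2 := Subgroup.eq_of_le_of_card_ge h2 (hconst b (a + b) hb0 hab).le
  apply hzb_absurd
  have h3 : z ∈ MulAction.stabilizer P b := by
    rw [← e2, e1]
    exact MulAction.mem_stabilizer_iff.mpr ha
  exact MulAction.mem_stabilizer_iff.mp h3

/-- In a group of order `p * p`, a subgroup of order `p` and an element outside it generate
everything. -/
theorem sup_zpowers_eq {G : Type*} [Group G] [Finite G] {p : ℕ} (hp : p.Prime)
    (A B : Subgroup G) (hA : Nat.card A = p * p) (hBA : B ≤ A) (hB : Nat.card B = p) (y : G)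
    (hyA : y ∈ A) (hyB : y ∉ B) : B ⊔ Subgroup.zpowers y = A := by
  have hle : B ⊔ Subgroup.zpowers y ≤ A := sup_le hBA (Subgroup.zpowers_le.mpr hyA)
  apply Subgroup.eq_of_le_of_card_ge hle
  have h1 : Nat.card B ∣ Nat.card ↥(B ⊔ Subgroup.zpowers y) := Subgroup.card_dvd_of_le le_sup_left
  have h2 : Nat.card ↥(B ⊔ Subgroup.zpowers y) ∣ Nat.card A := Subgroup.card_dvd_of_le hle
  rw [hB] at h1
  rw [hA] at h2
  obtain ⟨k, hk⟩ := h1
  rw [hk] at h2
  have hk' : k ∣ p := Nat.dvd_of_mul_dvd_mul_left hp.pos h2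
  rcases (Nat.dvd_prime hp).mp hk' with h | h
  · exfalso
    have h3 : B = B ⊔ Subgroup.zpowers y :=
      Subgroup.eq_of_le_of_card_ge le_sup_left (by rw [hk, h, hB, mul_one])
    apply hyB
    rw [h3]
    exact Subgroup.mem_sup_right (Subgroup.mem_zpowers y)
  · rw [hA, hk, h]

theorem card_zpowers_of_prime {G : Type*} [Group G] {p : ℕ} [Fact p.Prime] (v : G)
    (hv1 : v ≠ 1) (hvp : v ^ p = 1) : Nat.card (Subgroup.zpowers v) = p := by
  rw [Nat.card_zpowers, orderOf_eq_prime hvp hv1]

/-- Two elements of order `p` generating nested cyclic groups generate the same group. -/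
theorem mem_zpowers_symm {G : Type*} [Group G] [Finite G] {p : ℕ} [Fact p.Prime] (v w : G)
    (hv1 : v ≠ 1) (hvp : v ^ p = 1) (hw1 : w ≠ 1) (hwp : w ^ p = 1)
    (h : w ∈ Subgroup.zpowers v) : v ∈ Subgroup.zpowers w := by
  have h1 : Subgroup.zpowers w = Subgroup.zpowers v :=
    Subgroup.eq_of_le_of_card_ge (Subgroup.zpowers_le.mpr h)
      (by rw [card_zpowers_of_prime v hv1 hvp, card_zpowers_of_prime w hw1 hwp])
  rw [h1]
  exact Subgroup.mem_zpowers v

/-- A generator of a group of prime order lies in the group generated by any nontrivial power. -/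
theorem mem_of_pow_mem {G : Type*} [Group G] {p : ℕ} [Fact p.Prime] (z : G) (hz1 : z ≠ 1)
    (hzp : z ^ p = 1) (S : Subgroup G) (i : ℕ) (hi0 : i ≠ 0) (hip : i < p) (h : z ^ i ∈ S) :
    z ∈ S := by
  have hp := (Fact.out : p.Prime)
  have hco : i.Coprime (orderOf z) := by
    rw [orderOf_eq_prime hzp hz1]
    exact ((Nat.Prime.coprime_iff_not_dvd hp).mpr
      (Nat.not_dvd_of_pos_of_lt (Nat.pos_of_ne_zero hi0) hip)).symm
  obtain ⟨n, hn⟩ := exists_pow_eq_self_of_coprime hco
  rw [← hn]
  exact S.pow_mem h n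

/-- The stabilizer of `a + a'` lies in the stabilizer of `a`, for `a`, `a'` fixed by elements
`v`, `v'` generating different subgroups of a normal subgroup `A` of order `p * p` and exponent
`p` containing an element `z` without nonzero fixed vectors. -/
theorem stab_le [Finite P] {p q m : ℕ} [Fact p.Prime] (hP : IsPGroup p P) (hp2 : p ≠ 2)
    (hE : ∀ e : E, q • e = 0) (hm : p * m % q = 1)
    (z : P) (hfpf : ∀ a : E, z • a = a → a = 0)
    (A : Subgroup P) (hAn : A.Normal) (hAc : ∀ x ∈ A, ∀ y ∈ A, x * y = y * x)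
    (hAp : ∀ x ∈ A, x ^ p = 1) (hAcard : Nat.card A = p * p) (hzA : z ∈ A)
    (v v' : P) (hv : v ∈ A) (hv' : v' ∈ A) (hv1 : v ≠ 1)
    (hvv' : v' ∉ Subgroup.zpowers v)
    (a a' : E) (ha : v • a = a) (ha' : v' • a' = a') (ha0 : a ≠ 0) :
    MulAction.stabilizer P (a + a') ≤ MulAction.stabilizer P a := by
  have hp := (Fact.out : p.Prime)
  -- a vector fixed by two independent elements of `A` vanishes
  have X : ∀ v₂ ∈ A, v₂ ∉ Subgroup.zpowers v → ∀ w : E, v • w = w → v₂ • w = w → w = 0 := by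
    intro v₂ hv₂ hv₂n w hw1 hw2
    apply hfpf
    have h1 : Subgroup.zpowers v ⊔ Subgroup.zpowers v₂ = A :=
      sup_zpowers_eq hp A _ hAcard (Subgroup.zpowers_le.mpr hv)
        (card_zpowers_of_prime v hv1 (hAp v hv)) v₂ hv₂ hv₂n
    have h2 : A ≤ MulAction.stabilizer P w := by
      rw [← h1]
      exact sup_le (Subgroup.zpowers_le.mpr (MulAction.mem_stabilizer_iff.mpr hw1))
        (Subgroup.zpowers_le.mpr (MulAction.mem_stabilizer_iff.mpr hw2))
    exact MulAction.mem_stabilizer_iff.mp (h2 hzA)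
  -- the trace of a vector fixed by an element of `A` outside `⟨v⟩` vanishes
  have T0 : ∀ v₂ ∈ A, v₂ ∉ Subgroup.zpowers v → ∀ w : E, v₂ • w = w → tr p v w = 0 := by
    intro v₂ hv₂ hv₂n w hw
    refine X v₂ hv₂ hv₂n _ (smul_tr p v (hAp v hv) w) ?_
    rw [smul_tr_comm p v v₂ (hAc v₂ hv₂ v hv) w, hw]
  intro g hg
  rw [MulAction.mem_stabilizer_iff] at hg ⊢
  have hsum : g • a + g • a' = a + a' := by rw [← smul_add]; exact hg
  have hw₁A : g * v * g⁻¹ ∈ A := hAn.conj_mem v hv g
  have hw₂A : g * v' * g⁻¹ ∈ A := hAn.conj_mem v' hv' g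
  have hw₁ : (g * v * g⁻¹) • (g • a) = g • a := by
    rw [smul_smul, inv_mul_cancel_right, mul_smul, ha]
  have hw₂ : (g * v' * g⁻¹) • (g • a') = g • a' := by
    rw [smul_smul, inv_mul_cancel_right, mul_smul, ha']
  have hw₁1 : g * v * g⁻¹ ≠ 1 := by
    intro h
    apply hv1
    have h2 : v = g⁻¹ * (g * v * g⁻¹) * g := by group
    rw [h2, h]
    group
  have htr : tr p v (g • a) + tr p v (g • a') = p • a := by
    rw [← tr_add, hsum, tr_add, tr_of_fixed p v a ha, T0 v' hv' hvv' a' ha', add_zero]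
  -- if a conjugate of `v` or `v'` lies in `⟨v⟩` then `v` fixes the corresponding vector
  have fixed_of_mem : ∀ w : P, w ≠ 1 → w ∈ A → w ∈ Subgroup.zpowers v → ∀ b : E, w • b = b →
      v • b = b := by
    intro w hw1 hwA hwv b hb
    have h1 : v ∈ Subgroup.zpowers w := mem_zpowers_symm v w hv1 (hAp v hv) hw1 (hAp w hwA) hwv
    have h2 : Subgroup.zpowers w ≤ MulAction.stabilizer P b :=
      Subgroup.zpowers_le.mpr (MulAction.mem_stabilizer_iff.mpr hb)
    exact MulAction.mem_stabilizer_iff.mp (h2 h1)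
  by_cases h1 : g * v * g⁻¹ ∈ Subgroup.zpowers v
  · have hvga : v • (g • a) = g • a := fixed_of_mem _ hw₁1 hw₁A h1 _ hw₁
    have h2 : g * v' * g⁻¹ ∉ Subgroup.zpowers v := by
      intro h2
      have h3 : v ∈ Subgroup.zpowers (g * v * g⁻¹) :=
        mem_zpowers_symm v _ hv1 (hAp v hv) hw₁1 (hAp _ hw₁A) h1
      have h4 : g * v' * g⁻¹ ∈ Subgroup.zpowers (g * v * g⁻¹) :=
        (Subgroup.zpowers_le.mpr h3) h2
      obtain ⟨k, hk⟩ := Subgroup.mem_zpowers_iff.mp h4
      apply hvv'
      rw [Subgroup.mem_zpowers_iff]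
      refine ⟨k, ?_⟩
      rw [conj_zpow] at hk
      exact mul_left_cancel (mul_right_cancel hk)
    rw [T0 _ hw₂A h2 _ hw₂, add_zero, tr_of_fixed p v _ hvga] at htr
    exact cancel_p hE hm htr
  · rw [T0 _ hw₁A h1 _ hw₁, zero_add] at htr
    by_cases h2 : g * v' * g⁻¹ ∈ Subgroup.zpowers v
    · have hw₂1 : g * v' * g⁻¹ ≠ 1 := by
        intro h
        apply hvv'
        have h3 : v' = g⁻¹ * (g * v' * g⁻¹) * g := by group
        rw [h3, h]
        have h4 : g⁻¹ * 1 * g = 1 := by group
        rw [h4]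
        exact Subgroup.one_mem _
      have hvga' : v • (g • a') = g • a' := fixed_of_mem _ hw₂1 hw₂A h2 _ hw₂
      rw [tr_of_fixed p v _ hvga'] at htr
      have hga' : g • a' = a := cancel_p hE hm htr
      have hga : g • a = a' := by
        rw [hga'] at hsum
        exact add_right_cancel (hsum.trans (add_comm a a'))
      have hg2 : g ^ 2 • a = a := by rw [pow_two, mul_smul, hga, hga']
      obtain ⟨k, hk⟩ := (IsPGroup.iff_orderOf.mp hP) g
      have hco : (2 : ℕ).Coprime (orderOf g) := by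
        rw [hk]
        apply Nat.Coprime.pow_right
        exact (Nat.coprime_primes Nat.prime_two hp).mpr (Ne.symm hp2)
      obtain ⟨n, hn⟩ := exists_pow_eq_self_of_coprime hco
      have h3 : g ∈ MulAction.stabilizer P a := by
        rw [← hn]
        exact Subgroup.pow_mem _ (MulAction.mem_stabilizer_iff.mpr hg2) n
      exact MulAction.mem_stabilizer_iff.mp h3
    · rw [T0 _ hw₂A h2 _ hw₂] at htr
      exact absurd (eq_zero_of_p_smul hE hm htr.symm) ha0

/-- Every element of order dividing `p` lies in the group generated by the central element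
`z`. -/
theorem all_in_zpowers [Finite P] [Nontrivial E] [FaithfulSMul P E] {p q m : ℕ} [Fact p.Prime]
    (hP : IsPGroup p P) (hp2 : p ≠ 2) (hE : ∀ e : E, q • e = 0) (hm : p * m % q = 1)
    (hconst : ∀ a b : E, a ≠ 0 → b ≠ 0 →
      Nat.card (MulAction.stabilizer P a) = Nat.card (MulAction.stabilizer P b))
    (z : P) (hzc : z ∈ Subgroup.center P) (hz1 : z ≠ 1) (hzp : z ^ p = 1)
    (hfpf : ∀ a : E, z • a = a → a = 0) (x : P) (hxp : x ^ p = 1) :
    x ∈ Subgroup.zpowers z := by
  have hp := (Fact.out : p.Prime)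
  by_contra hx
  have hZcent : ∀ e ∈ Subgroup.zpowers z, ∀ g : P, g * e = e * g := by
    intro e he g
    exact Subgroup.mem_center_iff.mp ((Subgroup.zpowers_le.mpr hzc) he) g
  have hZn : (Subgroup.zpowers z).Normal := by
    refine ⟨fun n hn g => ?_⟩
    rw [hZcent n hn g, mul_inv_cancel_right]
    exact hn
  have hZel : Cfsg.IsElementaryAbelian p (Subgroup.zpowers z) := by
    refine ⟨⟨⟨fun a b => ?_⟩⟩, ?_⟩
    · exact Subtype.ext (hZcent b.1 b.2 a.1)
    · intro a ha
      obtain ⟨k, rfl⟩ := Subgroup.mem_zpowers_iff.mp ha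
      rw [← zpow_natCast, ← zpow_mul, mul_comm, zpow_mul, zpow_natCast, hzp, one_zpow]
  obtain ⟨A, hAn, hAel, hZA, hAcard⟩ := Cfsg.Agent.Lib.helper3.exists_normal_extension hp2 hP
    (Subgroup.zpowers z) hZel x hx hxp (fun e he => hZcent e he x)
  have hAcard' : Nat.card A = p * p := by
    rw [hAcard, card_zpowers_of_prime z hz1 hzp]
  have hzA : z ∈ A := hZA (Subgroup.mem_zpowers z)
  have hAc : ∀ x ∈ A, ∀ y ∈ A, x * y = y * x := fun x hx y hy =>
    congrArg Subtype.val (hAel.1.is_comm.comm (⟨x, hx⟩ : A) ⟨y, hy⟩)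
  have hAp := hAel.2
  obtain ⟨u, huA, huZ⟩ : ∃ u ∈ A, u ∉ Subgroup.zpowers z := by
    by_contra h
    push Not at h
    have h1 : A = Subgroup.zpowers z := le_antisymm h hZA
    rw [h1, card_zpowers_of_prime z hz1 hzp] at hAcard'
    have h2 : p * 1 = p * p := by rw [mul_one]; exact hAcard'
    have h3 := Nat.eq_of_mul_eq_mul_left hp.pos h2
    exact hp.one_lt.ne h3
  have hz0 : ∀ j ∈ Finset.range p, j ≠ 0 → ∀ e : E, tr p (z ^ j) e = 0 := by
    intro j hj hj0 e
    apply hfpf
    have h1 : (z ^ j) • tr p (z ^ j) e = tr p (z ^ j) e :=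
      smul_tr p (z ^ j) (by rw [← pow_mul, mul_comm, pow_mul, hzp, one_pow]) e
    have h2 : z ∈ MulAction.stabilizer P (tr p (z ^ j) e) :=
      mem_of_pow_mem z hz1 hzp _ j hj0 (Finset.mem_range.mp hj)
        (MulAction.mem_stabilizer_iff.mpr h1)
    exact MulAction.mem_stabilizer_iff.mp h2
  -- a first fixed vector
  obtain ⟨e₀, he₀⟩ : ∃ e₀ : E, e₀ ≠ 0 := exists_ne 0
  have hid := tr_identity p hp.pos z u (hAc u huA z hzA) hz0 e₀
  obtain ⟨i, hi, hai⟩ : ∃ i ∈ Finset.range p, tr p (u * z ^ i) e₀ ≠ 0 := by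
    by_contra h
    push Not at h
    rw [Finset.sum_eq_zero h] at hid
    exact he₀ (eq_zero_of_p_smul hE hm hid.symm)
  obtain ⟨v, hvdef⟩ : ∃ v : P, v = u * z ^ i := ⟨_, rfl⟩
  obtain ⟨a, hadef⟩ : ∃ a : E, a = tr p v e₀ := ⟨_, rfl⟩
  rw [← hvdef, ← hadef] at hai
  have hvA : v ∈ A := by
    rw [hvdef]
    exact A.mul_mem huA (A.pow_mem hzA i)
  have hv1 : v ≠ 1 := by
    intro h
    apply huZ
    rw [hvdef] at h
    have h2 : u = (z ^ i)⁻¹ := eq_inv_of_mul_eq_one_left h
    rw [h2]
    exact Subgroup.inv_mem _ (Subgroup.pow_mem _ (Subgroup.mem_zpowers z) i)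
  have hva : v • a = a := by
    rw [hadef]
    exact smul_tr p v (hAp v hvA) e₀
  -- a second fixed vector
  obtain ⟨b, hb0, hb⟩ := exists_tr_eq_zero hE hm v hv1 (hAp v hvA)
  have hid2 := tr_identity p hp.pos z v (hAc v hvA z hzA) hz0 b
  obtain ⟨i', hi', hi'0, hai'⟩ : ∃ i' ∈ Finset.range p, i' ≠ 0 ∧ tr p (v * z ^ i') b ≠ 0 := by
    by_contra h
    push Not at h
    have h1 : ∀ i' ∈ Finset.range p, tr p (v * z ^ i') b = 0 := by
      intro i' hi'
      by_cases h0 : i' = 0
      · rw [h0, pow_zero, mul_one]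
        exact hb
      · exact h i' hi' h0
    rw [Finset.sum_eq_zero h1] at hid2
    exact hb0 (eq_zero_of_p_smul hE hm hid2.symm)
  obtain ⟨v', hv'def⟩ : ∃ v' : P, v' = v * z ^ i' := ⟨_, rfl⟩
  obtain ⟨a', ha'def⟩ : ∃ a' : E, a' = tr p v' b := ⟨_, rfl⟩
  rw [← hv'def, ← ha'def] at hai'
  have hv'A : v' ∈ A := by
    rw [hv'def]
    exact A.mul_mem hvA (A.pow_mem hzA i')
  have hv'a' : v' • a' = a' := by
    rw [ha'def]
    exact smul_tr p v' (hAp v' hv'A) b
  have hvv' : v' ∉ Subgroup.zpowers v := by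
    intro h
    have h1 : z ^ i' ∈ Subgroup.zpowers v := by
      have h2 : z ^ i' = v⁻¹ * v' := by rw [hv'def]; group
      rw [h2]
      exact Subgroup.mul_mem _ (Subgroup.inv_mem _ (Subgroup.mem_zpowers v)) h
    have h3 : z ∈ Subgroup.zpowers v :=
      mem_of_pow_mem z hz1 hzp _ i' hi'0 (Finset.mem_range.mp hi') h1
    have h4 : Subgroup.zpowers v ≤ MulAction.stabilizer P a :=
      Subgroup.zpowers_le.mpr (MulAction.mem_stabilizer_iff.mpr hva)
    exact hai (hfpf a (MulAction.mem_stabilizer_iff.mp (h4 h3)))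
  have hv'1 : v' ≠ 1 := by
    intro h
    apply hvv'
    rw [h]
    exact Subgroup.one_mem _
  have hv'v : v ∉ Subgroup.zpowers v' := fun h =>
    hvv' (mem_zpowers_symm v' v hv'1 (hAp v' hv'A) hv1 (hAp v hvA) h)
  -- a vector fixed by both `v` and `v'` vanishes
  have X : ∀ w : E, v • w = w → v' • w = w → w = 0 := by
    intro w hw1 hw2
    apply hfpf
    have h1 : Subgroup.zpowers v ⊔ Subgroup.zpowers v' = A :=
      sup_zpowers_eq hp A _ hAcard' (Subgroup.zpowers_le.mpr hvA)
        (card_zpowers_of_prime v hv1 (hAp v hvA)) v' hv'A hvv'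
    have h2 : A ≤ MulAction.stabilizer P w := by
      rw [← h1]
      exact sup_le (Subgroup.zpowers_le.mpr (MulAction.mem_stabilizer_iff.mpr hw1))
        (Subgroup.zpowers_le.mpr (MulAction.mem_stabilizer_iff.mpr hw2))
    exact MulAction.mem_stabilizer_iff.mp (h2 hzA)
  have hsum0 : a + a' ≠ 0 := by
    intro h
    have h1 : a' = -a := (neg_eq_of_add_eq_zero_right h).symm
    apply hai'
    apply X a' _ hv'a'
    rw [h1, smul_neg, hva]
  have h1 : MulAction.stabilizer P (a + a') ≤ MulAction.stabilizer P a :=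
    stab_le hP hp2 hE hm z hfpf A hAn hAc hAp hAcard' hzA v v' hvA hv'A hv1 hvv' a a' hva hv'a'
      hai
  have h2 : MulAction.stabilizer P (a + a') ≤ MulAction.stabilizer P a' := by
    rw [add_comm]
    exact stab_le hP hp2 hE hm z hfpf A hAn hAc hAp hAcard' hzA v' v hv'A hvA hv'1 hv'v a' a
      hv'a' hva hai'
  have e1 := Subgroup.eq_of_le_of_card_ge h1 (hconst a (a + a') hai hsum0).le
  have e2 := Subgroup.eq_of_le_of_card_ge h2 (hconst a' (a + a') hai' hsum0).le
  have h3 : v ∈ MulAction.stabilizer P a' := by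
    rw [← e2, e1]
    exact MulAction.mem_stabilizer_iff.mpr hva
  exact hai' (X a' (MulAction.mem_stabilizer_iff.mp h3) hv'a')

end Main

/-- Let `p ≠ 2` be prime and `P` a finite `p`-group acting faithfully by additive automorphisms on a finite elementary abelian `q`-group `E` (`q` prime), such that `|P_a|` is the same for all `a ≠ 0`. Then `P` is cyclic and every non-identity element of `P` fixes only `0`. -/
theorem result {P E : Type*} [Group P] [Finite P]
    [AddCommGroup E] [Finite E] [DistribMulAction P E] [FaithfulSMul P E]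
    {p q : ℕ} [Fact p.Prime] (hp2 : p ≠ 2) (hP : IsPGroup p P) (hq : q.Prime) (hE : ∀ e : E, q • e = 0)
    (hconst : ∀ a b : E, a ≠ 0 → b ≠ 0 →
      Nat.card (MulAction.stabilizer P a) = Nat.card (MulAction.stabilizer P b)) :
    IsCyclic P ∧ ∀ g : P, g ≠ 1 → ∀ a : E, g • a = a → a = 0 := by
  have hp := (Fact.out : p.Prime)
  by_cases hsub : Subsingleton P
  · exact ⟨isCyclic_of_subsingleton, fun g hg => absurd (Subsingleton.elim g 1) hg⟩
  rw [not_subsingleton_iff_nontrivial] at hsub
  have hEnt : Nontrivial E := by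
    by_contra h
    rw [not_nontrivial_iff_subsingleton] at h
    obtain ⟨g, hg⟩ := exists_ne (1 : P)
    exact hg (FaithfulSMul.eq_of_smul_eq_smul (α := E) fun a => Subsingleton.elim _ _)
  obtain ⟨z, -, hzc, hz1, hzp⟩ :=
    Cfsg.Agent.Lib.helper3.exists_central_of_normal_ne_bot hP (⊤ : Subgroup P) top_ne_bot
  by_cases hqp : q = p
  · subst hqp
    exfalso
    have hdvd : q ∣ Nat.card E := by
      obtain ⟨e, he⟩ := exists_ne (0 : E)
      have h1 : addOrderOf e = q := addOrderOf_eq_prime (hE e) he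
      rw [← h1]
      exact addOrderOf_dvd_natCard e
    have h0 : (0 : E) ∈ MulAction.fixedPoints P E := fun g => smul_zero g
    obtain ⟨a, haf, ha0⟩ := hP.exists_fixed_point_of_prime_dvd_card_of_fixed_point E hdvd h0
    have hst : MulAction.stabilizer P a = ⊤ := by
      rw [eq_top_iff]
      intro g _
      exact MulAction.mem_stabilizer_iff.mpr (haf g)
    obtain ⟨g, hg⟩ := exists_ne (1 : P)
    apply hg
    apply FaithfulSMul.eq_of_smul_eq_smul (α := E)
    intro b
    rw [one_smul]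
    by_cases hb : b = 0
    · rw [hb, smul_zero]
    · have hcard := hconst b a hb (Ne.symm ha0)
      rw [hst, Subgroup.card_top] at hcard
      have h1 : MulAction.stabilizer P b = ⊤ := (Subgroup.card_eq_iff_eq_top _).mp hcard
      have hgb : g ∈ MulAction.stabilizer P b := h1 ▸ Subgroup.mem_top g
      exact MulAction.mem_stabilizer_iff.mp hgb
  · obtain ⟨m, -, hm⟩ := Nat.exists_mul_mod_eq_one_of_coprime
      ((Nat.coprime_primes hp hq).mpr (Ne.symm hqp)) hq.one_lt
    have hfpf := central_fpf hE hm hconst z hzc hz1 hzp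
    have hall : ∀ x : P, x ^ p = 1 → x ∈ Subgroup.zpowers z :=
      all_in_zpowers hP hp2 hE hm hconst z hzc hz1 hzp hfpf
    have key : ∀ H : Subgroup P, Nat.card H = p → H = Subgroup.zpowers z := by
      intro H hH
      apply Subgroup.eq_of_le_of_card_ge
      · intro x hx
        apply hall
        have h1 := pow_card_eq_one' (x := (⟨x, hx⟩ : H))
        rw [hH] at h1
        exact congrArg Subtype.val h1
      · rw [card_zpowers_of_prime z hz1 hzp, hH]
    have huniq : ∀ H K : Subgroup P, Nat.card H = p → Nat.card K = p → H = K := by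
      intro H K hH hK
      rw [key H hH, key K hK]
    refine ⟨?_, ?_⟩
    · rcases Cfsg.Agent.S0016.result p hP huniq with h | ⟨h, -⟩
      · exact h
      · exact absurd h hp2
    · intro g hg a hga
      obtain ⟨k, hk⟩ := (IsPGroup.iff_orderOf.mp hP) g
      have hk0 : k ≠ 0 := by
        rintro rfl
        rw [pow_zero, orderOf_eq_one_iff] at hk
        exact hg hk
      obtain ⟨k', rfl⟩ := Nat.exists_eq_succ_of_ne_zero hk0
      have hyp : (g ^ (p ^ k')) ^ p = 1 := by
        rw [← pow_mul, ← pow_succ, ← hk, pow_orderOf_eq_one]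
      have hy1 : g ^ (p ^ k') ≠ 1 := by
        intro h
        have h1 := orderOf_dvd_of_pow_eq_one h
        rw [hk] at h1
        have h2 := (Nat.pow_dvd_pow_iff_le_right hp.one_lt).mp h1
        omega
      have hyz : g ^ (p ^ k') ∈ Subgroup.zpowers z := hall _ hyp
      have hzy : z ∈ Subgroup.zpowers (g ^ (p ^ k')) :=
        mem_zpowers_symm z _ hz1 hzp hy1 hyp hyz
      have h3 : g ^ (p ^ k') ∈ MulAction.stabilizer P a :=
        Subgroup.pow_mem _ (MulAction.mem_stabilizer_iff.mpr hga) _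
      have h4 : z ∈ MulAction.stabilizer P a := (Subgroup.zpowers_le.mpr h3) hzy
      exact hfpf a (MulAction.mem_stabilizer_iff.mp h4)

end Cfsg.Agent.S1160
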