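import Cfsg.Statements.S1167
import Cfsg.Agent.Lib.helper8.ZassEven4

set_option autoImplicit false
open Cfsg

namespace Cfsg.Agent.S1167

/-- Let `G` be a finite simple Zassenhaus group on `Ω`, `U` a normal subgroup of `G_a` regular on `Ω` minus `a` which is an abelian 2-group, and `v` an involution with `v • a ≠ a`. Then there is a unique `u₀ ∈ U`, `u₀ ≠ 1`, with `v u₀ v = u₀ v u₀`. -/
theorem result {G Ω : Type*} [Group G] [Finite G] [MulAction G Ω] [Finite Ω]
    (hZ : Cfsg.IsZassenhausGroup G Ω) [IsSimpleGroup G] {a : Ω}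
    (U : Subgroup G) (hUle : U ≤ MulAction.stabilizer G a)
    (hUn : ∀ h ∈ MulAction.stabilizer G a, ∀ u ∈ U, h * u * h⁻¹ ∈ U)
    (hreg : ∀ c d : Ω, c ≠ a → d ≠ a → ∃! u : U, (u : G) • c = d)
    (hU2 : IsPGroup 2 U) (hUab : ∀ u ∈ U, ∀ u' ∈ U, u * u' = u' * u)
    (v : G) (hv1 : v ≠ 1) (hv2 : v * v = 1) (hva : v • a ≠ a) :
    ∃! u₀ : G, u₀ ∈ U ∧ u₀ ≠ 1 ∧ v * u₀ * v = u₀ * v * u₀ := by
  classical
  have : Fact (Nat.Prime 2) := ⟨Nat.prime_two⟩
  obtain ⟨hfaith, h2t, h3, ⟨g0, hg01, a', b', hab', hga', hgb'⟩, -⟩ := hZ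
  have h2t' := h2t
  rw [MulAction.is_two_pretransitive_iff] at h2t'
  have fixU : ∀ u ∈ U, u • a = a := fun u hu => MulAction.mem_stabilizer_iff.mp (hUle hu)
  have reg : ∀ c d : Ω, c ≠ a → d ≠ a → ∃ u ∈ U, u • c = d := by
    intro c d hc hd
    obtain ⟨u, hu, -⟩ := hreg c d hc hd
    exact ⟨u.1, u.2, hu⟩
  have regu : ∀ u ∈ U, ∀ c : Ω, c ≠ a → u • c = c → u = 1 := by
    intro u hu c hc huc
    obtain ⟨w, -, huniq⟩ := hreg c c hc hc
    have h1 := huniq ⟨u, hu⟩ huc
    have h2 := huniq 1 (by simp)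
    have h3' : (⟨u, hu⟩ : U) = 1 := h1.trans h2.symm
    exact congrArg Subtype.val h3'
  obtain ⟨x, hxa, hxb⟩ := h2t' hab' (Ne.symm hva)
  have hk : x * g0 * x⁻¹ ∈ Cfsg.Agent.Lib.helper8.zevH G a v := by
    rw [Cfsg.Agent.Lib.helper8.mem_zevH]
    constructor
    · rw [mul_smul, mul_smul, inv_smul_eq_iff.mpr hxa.symm, hga', hxa]
    · rw [mul_smul, mul_smul, inv_smul_eq_iff.mpr hxb.symm, hgb', hxb]
  have hk1 : x * g0 * x⁻¹ ≠ 1 := by
    intro h
    apply hg01
    have := congrArg (fun y => x⁻¹ * y * x) h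
    simpa [mul_assoc] using this
  have hUne : ∃ u ∈ U, u ≠ 1 := by
    obtain ⟨y, hy⟩ : ∃ y : Ω, (x * g0 * x⁻¹) • y ≠ y := by
      by_contra hcon
      push Not at hcon
      exact hk1 (FaithfulSMul.eq_of_smul_eq_smul (α := Ω) (fun z => by rw [hcon z, one_smul]))
    have hya : y ≠ a := by
      rintro rfl
      exact hy (Cfsg.Agent.Lib.helper8.mem_zevH.mp hk).1
    have hyb : y ≠ v • a := by
      rintro rfl
      exact hy (Cfsg.Agent.Lib.helper8.mem_zevH.mp hk).2
    obtain ⟨u, hu, huy⟩ := reg (v • a) y hva hya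
    refine ⟨u, hu, ?_⟩
    rintro rfl
    rw [one_smul] at huy
    exact hyb huy.symm
  have hodd : Odd (Nat.card Ω) := by
    let f : Option U → Ω := fun o => o.elim a (fun u => (u : G) • (v • a))
    have hf : Function.Bijective f := by
      constructor
      · intro o o' h
        rcases o with _ | u <;> rcases o' with _ | u'
        · rfl
        · exfalso
          have h' : a = (u' : G) • (v • a) := h
          have h'' : (u' : G) • (v • a) = (u' : G) • a := by rw [← h', fixU _ u'.2]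
          exact hva ((smul_left_cancel_iff (u' : G)).mp h'')
        · exfalso
          have h' : (u : G) • (v • a) = a := h
          have h'' : (u : G) • (v • a) = (u : G) • a := by rw [h', fixU _ u.2]
          exact hva ((smul_left_cancel_iff (u : G)).mp h'')
        · have h' : (u : G) • (v • a) = (u' : G) • (v • a) := h
          have h'' : ((u' : G)⁻¹ * (u : G)) • (v • a) = v • a := by
            rw [mul_smul, h', inv_smul_smul]
          have h4 := regu _ (U.mul_mem (U.inv_mem u'.2) u.2) (v • a) hva h''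
          have h5 : (u : G) = (u' : G) := (inv_mul_eq_one.mp h4).symm
          exact congrArg some (Subtype.ext h5)
      · intro d
        by_cases hd : d = a
        · exact ⟨none, hd.symm⟩
        · obtain ⟨u, hu, hud⟩ := reg (v • a) d hva hd
          exact ⟨some ⟨u, hu⟩, hud⟩
    have hcard : Nat.card Ω = Nat.card U + 1 := by
      rw [← Nat.card_congr (Equiv.ofBijective f hf), Finite.card_option]
    obtain ⟨n, hn⟩ := IsPGroup.iff_card.mp hU2
    have hn0 : n ≠ 0 := by
      rintro rfl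
      rw [pow_zero] at hn
      obtain ⟨u, hu, hu1⟩ := hUne
      have hss : Subsingleton U := (Nat.card_eq_one_iff_unique.mp hn).1
      exact hu1 (congrArg Subtype.val (Subsingleton.elim (⟨u, hu⟩ : U) 1))
    rw [hcard, hn]
    exact (Nat.even_pow.mpr ⟨even_two, hn0⟩).add_one
  have hz : Cfsg.Agent.Lib.helper8.ZEv U a v :=
    { h3 := h3
      fixU := fixU
      nU := fun h hh u hu => hUn h (MulAction.mem_stabilizer_iff.mpr hh) u hu
      reg := reg
      regu := regu
      ab := hUab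
      v2 := hv2
      va := hva
      inv1 := fun g hg2 hg1 => Cfsg.Agent.Lib.helper8.zev_invol_fix h3 hodd hg1 hg2 }
  have h2pow : ∀ u ∈ U, ∃ n : ℕ, u ^ 2 ^ n = 1 := by
    intro u hu
    obtain ⟨n, hn⟩ := hU2 ⟨u, hu⟩
    exact ⟨n, by simpa using congrArg Subtype.val hn⟩
  exact hz.main h2pow ⟨_, hk, hk1⟩

end Cfsg.Agent.S1167
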