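import Cfsg.Statements.S1168
import Mathlib
import Cfsg.Agent.S1140
import Cfsg.Agent.Lib.helper24.QuadHalf

set_option autoImplicit false
open Cfsg

namespace Cfsg.Agent.S1168

/-- For a finite field `F` of characteristic 2: if `q : F → F` is quadratic over the prime field, i.e. `(x, y) ↦ q (x + y) + q x + q y` is additive in each variable, then `q x = Σ c_{σ,τ} σ(x) τ(x)` for some coefficients indexed by pairs of field automorphisms. -/
theorem result {F : Type*} [Field F] [Fintype F] [CharP F 2]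
    (q : F → F)
    (hq : ∀ x y z : F, q (x + y + z) + q (x + y) + q (x + z) + q (y + z) + q x + q y + q z = 0) :
    ∃ (s : Finset ((F ≃+* F) × (F ≃+* F))) (c : (F ≃+* F) × (F ≃+* F) → F),
      ∀ x : F, q x = ∑ p ∈ s, c p * (p.1 x * p.2 x) := by
  have h2 : ∀ a : F, a + a = 0 := fun a => CharTwo.add_self_eq_zero a
  -- the polar form
  obtain ⟨Bf, hBf⟩ : ∃ Bf : F → F → F, ∀ x y, Bf x y = q (x + y) + q x + q y :=
    ⟨_, fun _ _ => rfl⟩
  have hBadd : ∀ x y z, Bf (x + y) z = Bf x z + Bf y z := by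
    intro x y z
    rw [hBf, hBf, hBf]
    have := hq x y z
    linear_combination this - h2 (q (x + z)) - h2 (q x) - h2 (q (y + z)) - h2 (q y) - h2 (q z)
  have hBsymm : ∀ x y, Bf x y = Bf y x := by
    intro x y; rw [hBf, hBf, add_comm x y]; ring
  have hBadd' : ∀ x y z, Bf x (y + z) = Bf x y + Bf x z := by
    intro x y z
    rw [hBsymm x (y + z), hBadd, hBsymm y x, hBsymm z x]
  have hq0 : q 0 = 0 := by
    have := hq 0 0 0
    simp only [add_zero] at this
    linear_combination this - 3 * h2 (q 0)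
  have hBalt : ∀ x, Bf x x = 0 := by
    intro x
    rw [hBf, h2 x, hq0, zero_add, h2]
  obtain ⟨B', hB'⟩ := Cfsg.Agent.Lib.helper24.quad_exists_half
    (AddMonoidHom.mk' (fun x => AddMonoidHom.mk' (Bf x) (hBadd' x))
      (fun x x' => by ext y; exact hBadd x x' y)) hBalt hBsymm
  have hB'2 : ∀ x y, q (x + y) + q x + q y = B' x y + B' y x := by
    intro x y; rw [← hBf]; exact hB' x y
  -- the additive remainder
  have hdadd : ∀ x y, q (x + y) + B' (x + y) (x + y) = (q x + B' x x) + (q y + B' y y) := by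
    intro x y
    simp only [map_add, AddMonoidHom.add_apply]
    linear_combination hB'2 x y - h2 (q x) - h2 (q y) + h2 (B' x y) + h2 (B' y x)
  obtain ⟨s₂, c₂, h₂⟩ := (Cfsg.Agent.S1140.result (F := F)).2.1
    (AddMonoidHom.mk' (fun x => q x + B' x x) hdadd)
  obtain ⟨s₃, c₃, h₃⟩ := (Cfsg.Agent.S1140.result (F := F)).2.2 B'
  -- assemble through the span
  obtain ⟨v, hv⟩ : ∃ v : (F ≃+* F) × (F ≃+* F) → (F → F), ∀ p x, v p x = p.1 x * p.2 x :=
    ⟨_, fun _ _ => rfl⟩
  have hmem : q ∈ Submodule.span F (Set.range v) := by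
    have e : q = (∑ σ ∈ s₂, c₂ σ • (fun x => σ x)) + ∑ p ∈ s₃, c₃ p • v p := by
      funext x
      have h1 := h₂ x
      have h3 := h₃ x x
      simp only [AddMonoidHom.mk'_apply] at h1
      simp only [Pi.add_apply, Finset.sum_apply, Pi.smul_apply, smul_eq_mul, hv]
      rw [← h1, ← h3]
      linear_combination - h2 (B' x x)
    rw [e]
    refine Submodule.add_mem _ (Submodule.sum_mem _ fun σ _ => Submodule.smul_mem _ _ ?_)
      (Submodule.sum_mem _ fun p _ => Submodule.smul_mem _ _ (Submodule.subset_span ⟨p, rfl⟩))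
    haveI : ExpChar F 2 := ExpChar.prime Nat.prime_two
    refine Submodule.subset_span ⟨(σ.trans (frobeniusEquiv F 2).symm,
      σ.trans (frobeniusEquiv F 2).symm), ?_⟩
    funext x
    rw [hv]
    show (frobeniusEquiv F 2).symm (σ x) * (frobeniusEquiv F 2).symm (σ x) = σ x
    rw [← sq, frobeniusEquiv_symm_pow_p]
  obtain ⟨c, hc⟩ := Finsupp.mem_span_range_iff_exists_finsupp.mp hmem
  refine ⟨c.support, c, fun x => ?_⟩
  rw [← hc]
  simp only [Finsupp.sum, Finset.sum_apply, Pi.smul_apply, smul_eq_mul, hv]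

end Cfsg.Agent.S1168
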