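import Mathlib
import Cfsg.Statements.S1176
import Cfsg.Agent.Lib.helper25.Isolated

set_option autoImplicit false
open Cfsg

namespace Cfsg.Agent.S1176

/-- Let x₀ be an involution of the finite group G and D its conjugacy class. Assume (a) for each x ∈ D the subgroup W(x) generated by the members of D commuting with x is a 2-group of nilpotency class at most 2, and (b) the product of two distinct commuting members of D again lies in D. Then for all x, y ∈ D, if xy has even order greater than 2, its order is 4. -/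
theorem result {G : Type*} [Group G] [Finite G] (x₀ : G) (hx₀ : orderOf x₀ = 2) (ha : ∀ x : G, IsConj x₀ x → IsPGroup 2 ↥(Subgroup.closure {y : G | IsConj x₀ y ∧ Commute y x}) ∧ ⁅⁅Subgroup.closure {y : G | IsConj x₀ y ∧ Commute y x}, Subgroup.closure {y : G | IsConj x₀ y ∧ Commute y x}⁆, Subgroup.closure {y : G | IsConj x₀ y ∧ Commute y x}⁆ = ⊥) (hb : ∀ x y : G, IsConj x₀ x → IsConj x₀ y → x ≠ y → Commute x y → IsConj x₀ (x * y)) (x y : G) (hx : IsConj x₀ x) (hy : IsConj x₀ y) (heven : Even (orderOf (x * y))) (hgt : 2 < orderOf (x * y)) : orderOf (x * y) = 4 := by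
  have hx₀' : x₀ * x₀ = 1 := by
    have := pow_orderOf_eq_one x₀
    rwa [hx₀, pow_two] at this
  have hinv : ∀ v : G, IsConj x₀ v → v * v = 1 := by
    intro v hv
    obtain ⟨c, rfl⟩ := isConj_iff.mp hv
    exact Cfsg.Agent.Lib.helper25.conj_mul_self hx₀' c
  have hxx := hinv x hx
  have hyy := hinv y hy
  have hxinv := Cfsg.Agent.Lib.helper25.inv_eq_self_of_mul_self hxx
  have hyinv := Cfsg.Agent.Lib.helper25.inv_eq_self_of_mul_self hyy
  obtain ⟨k, hk⟩ := heven
  have hk0 : k ≠ 0 := by omega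
  have hklt : k < orderOf (x * y) := by omega
  have hu1 : (x * y) ^ k ≠ 1 := pow_ne_one_of_lt_orderOf hk0 hklt
  have hu2 : (x * y) ^ k * (x * y) ^ k = 1 := by rw [← pow_add, ← hk, pow_orderOf_eq_one]
  have huinv := Cfsg.Agent.Lib.helper25.inv_eq_self_of_mul_self hu2
  have hcx : Commute x ((x * y) ^ k) := by
    have h1 := Cfsg.Agent.Lib.helper25.dih_conj_left_pow hxx hyy k
    rw [huinv] at h1
    unfold Commute SemiconjBy
    calc x * (x * y) ^ k = x * (x * y) ^ k * x⁻¹ * x := by group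
      _ = (x * y) ^ k * x := by rw [h1]
  have hcy : Commute y ((x * y) ^ k) := by
    have h1 := Cfsg.Agent.Lib.helper25.dih_conj_right_pow hxx hyy k
    rw [huinv] at h1
    unfold Commute SemiconjBy
    calc y * (x * y) ^ k = y * (x * y) ^ k * y⁻¹ * y := by group
      _ = (x * y) ^ k * y := by rw [h1]
  have hconj : IsConj x₀ (x * (x * y) ^ k) := by
    rcases Nat.even_or_odd' k with ⟨i, hi | hi⟩
    · rw [hi, Cfsg.Agent.Lib.helper25.dih_even hxx hyy i]
      exact hx.trans (isConj_iff.mpr ⟨_, rfl⟩)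
    · rw [hi, Cfsg.Agent.Lib.helper25.dih_odd hxx hyy i]
      exact hy.trans (isConj_iff.mpr ⟨_, rfl⟩)
  have hne : x ≠ x * (x * y) ^ k := by
    intro h
    apply hu1
    exact (mul_left_cancel (h.symm.trans (mul_one x).symm))
  have hu : IsConj x₀ ((x * y) ^ k) := by
    have h1 := hb x (x * (x * y) ^ k) hx hconj hne ((Commute.refl x).mul_right hcx)
    rwa [← mul_assoc, hxx, one_mul] at h1
  have h3 := (ha ((x * y) ^ k) hu).2
  have hxW : x ∈ Subgroup.closure {v : G | IsConj x₀ v ∧ Commute v ((x * y) ^ k)} :=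
    Subgroup.subset_closure ⟨hx, hcx⟩
  have hyW : y ∈ Subgroup.closure {v : G | IsConj x₀ v ∧ Commute v ((x * y) ^ k)} :=
    Subgroup.subset_closure ⟨hy, hcy⟩
  open scoped commutatorElement in
  have h4 : ⁅⁅x, y⁆, x⁆ ∈ ⁅⁅Subgroup.closure {v : G | IsConj x₀ v ∧ Commute v ((x * y) ^ k)},
      Subgroup.closure {v : G | IsConj x₀ v ∧ Commute v ((x * y) ^ k)}⁆,
      Subgroup.closure {v : G | IsConj x₀ v ∧ Commute v ((x * y) ^ k)}⁆ :=
    Subgroup.commutator_mem_commutator (Subgroup.commutator_mem_commutator hxW hyW) hxW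
  rw [h3, Subgroup.mem_bot] at h4
  open scoped commutatorElement in
  have h5 : ⁅x, y⁆ = (x * y) * (x * y) := by
    rw [commutatorElement_def, hxinv, hyinv]; group
  have h6 : x * ((x * y) * (x * y))⁻¹ * x⁻¹ = (x * y) * (x * y) := by
    have h7 := Cfsg.Agent.Lib.helper25.dih_conj_left hxx hyy
    calc x * ((x * y) * (x * y))⁻¹ * x⁻¹ = ((x * (x * y) * x⁻¹) * (x * (x * y) * x⁻¹))⁻¹ := by group
      _ = (x * y) * (x * y) := by rw [h7]; simp
  have h8 : (x * y) ^ 4 = 1 := by
    rw [h5, commutatorElement_def] at h4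
    calc (x * y) ^ 4 = (x * y) * (x * y) * (x * ((x * y) * (x * y))⁻¹ * x⁻¹) := by
          rw [h6]; simp only [pow_succ, pow_zero, one_mul, mul_assoc]
      _ = (x * y) * (x * y) * x * ((x * y) * (x * y))⁻¹ * x⁻¹ := by group
      _ = 1 := h4
  have hd : orderOf (x * y) ∣ 4 := orderOf_dvd_of_pow_eq_one h8
  have hle := Nat.le_of_dvd (by norm_num) hd
  have h9 : orderOf (x * y) = 3 ∨ orderOf (x * y) = 4 := by omega
  rcases h9 with h9 | h9
  · rw [h9] at hd; norm_num at hd
  · exact h9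

end Cfsg.Agent.S1176
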