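import Mathlib
import Cfsg.Statements.S1177

set_option autoImplicit false
open Cfsg

namespace Cfsg.Agent.S1177

/-- Let A be a nontrivial elementary abelian 2-subgroup of a finite group G which is a T.I. set (each conjugate of A meets A trivially or equals A) and which does not commute elementwise with any conjugate of A other than A itself. Then for every a ∈ A, a ≠ 1, every conjugate of A contained in C_G(a) is equal to A (A is weakly closed in C_G(a)). -/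
theorem result {G : Type*} [Group G] [Finite G] (A : Subgroup G) (hA : Cfsg.IsElementaryAbelian 2 A) (hA1 : A ≠ ⊥) (hTI : ∀ g : G, A.map (MulAut.conj g).toMonoidHom ⊓ A = ⊥ ∨ A.map (MulAut.conj g).toMonoidHom = A) (hb : ∀ g : G, (∀ a ∈ A, ∀ b ∈ A.map (MulAut.conj g).toMonoidHom, a * b = b * a) → A.map (MulAut.conj g).toMonoidHom = A) (a : G) (ha : a ∈ A) (ha1 : a ≠ 1) (g : G) (hg : A.map (MulAut.conj g).toMonoidHom ≤ Subgroup.centralizer ({a} : Set G)) : A.map (MulAut.conj g).toMonoidHom = A := by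
  rcases hTI g with hAB | hAB
  swap
  · exact hAB
  apply hb g
  obtain ⟨hAcomm, hAexp⟩ := hA
  have hAc : ∀ a₁ ∈ A, ∀ a₂ ∈ A, a₁ * a₂ = a₂ * a₁ := by
    intro a₁ h₁ a₂ h₂
    have := (isMulCommutative_iff.mp hAcomm) ⟨a₁, h₁⟩ ⟨a₂, h₂⟩
    exact congrArg Subtype.val this
  have hAinv : ∀ a₁ ∈ A, a₁⁻¹ = a₁ := by
    intro a₁ h₁
    have := hAexp a₁ h₁
    rw [pow_two] at this
    exact inv_eq_of_mul_eq_one_left this
  set B := A.map (MulAut.conj g).toMonoidHom with hB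
  have hBmem : ∀ b, b ∈ B ↔ ∃ a₁ ∈ A, g * a₁ * g⁻¹ = b := by
    intro b
    rw [hB, Subgroup.mem_map]
    simp only [MulEquiv.toMonoidHom_eq_coe, MonoidHom.coe_coe, MulAut.conj_apply]
  have hBinv : ∀ b ∈ B, b⁻¹ = b := by
    intro b hb'
    obtain ⟨a₁, h₁, rfl⟩ := (hBmem b).mp hb'
    have := hAinv a₁ h₁
    calc (g * a₁ * g⁻¹)⁻¹ = g * a₁⁻¹ * g⁻¹ := by group
      _ = g * a₁ * g⁻¹ := by rw [this]
  have hdisj : ∀ c, c ∈ B → c ∈ A → c = 1 := by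
    intro c h1 h2
    have : c ∈ B ⊓ A := ⟨h1, h2⟩
    rw [hAB] at this
    exact Subgroup.mem_bot.mp this
  -- Step 1: B normalizes A
  have hnorm : ∀ b ∈ B, ∀ a' ∈ A, b * a' * b⁻¹ ∈ A := by
    intro b hb' a' ha'
    have hba : b * a * b⁻¹ = a := by
      have h1 := hg hb'
      rw [Subgroup.mem_centralizer_iff] at h1
      have h2 := h1 a rfl
      calc b * a * b⁻¹ = (a * b) * b⁻¹ := by rw [h2]
        _ = a := by group
    rcases hTI b with h1 | h1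
    · exfalso
      have h2 : a ∈ A.map (MulAut.conj b).toMonoidHom ⊓ A := by
        refine ⟨⟨a, ha, ?_⟩, ha⟩
        simp only [MulEquiv.toMonoidHom_eq_coe, MonoidHom.coe_coe, MulAut.conj_apply]
        exact hba
      rw [h1] at h2
      exact ha1 (Subgroup.mem_bot.mp h2)
    · rw [← h1]
      exact ⟨a', ha', by simp only [MulEquiv.toMonoidHom_eq_coe, MonoidHom.coe_coe, MulAut.conj_apply]⟩
  -- Step 2: B is a TI-subgroup
  have hP : ∀ h : G, (∀ b ∈ B, h * b * h⁻¹ ∈ B → b = 1) ∨ (∀ b ∈ B, h * b * h⁻¹ ∈ B) := by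
    intro h
    rcases hTI (g⁻¹ * h * g) with h1 | h1
    · left
      intro b hb' hb2
      obtain ⟨a₁, h₁, rfl⟩ := (hBmem b).mp hb'
      obtain ⟨a₂, h₂, e⟩ := (hBmem _).mp hb2
      have h3 : a₂ ∈ A.map (MulAut.conj (g⁻¹ * h * g)).toMonoidHom ⊓ A := by
        refine ⟨⟨a₁, h₁, ?_⟩, h₂⟩
        simp only [MulEquiv.toMonoidHom_eq_coe, MonoidHom.coe_coe, MulAut.conj_apply]
        calc g⁻¹ * h * g * a₁ * (g⁻¹ * h * g)⁻¹ = g⁻¹ * (h * (g * a₁ * g⁻¹) * h⁻¹) * g := by group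
          _ = g⁻¹ * (g * a₂ * g⁻¹) * g := by rw [e]
          _ = a₂ := by group
      rw [h1] at h3
      have h4 : a₂ = 1 := Subgroup.mem_bot.mp h3
      rw [h4] at e
      have h5 : h * (g * a₁ * g⁻¹) * h⁻¹ = 1 := by rw [← e]; group
      calc g * a₁ * g⁻¹ = h⁻¹ * (h * (g * a₁ * g⁻¹) * h⁻¹) * h := by group
        _ = 1 := by rw [h5]; group
    · right
      intro b hb'
      obtain ⟨a₁, h₁, rfl⟩ := (hBmem b).mp hb'
      have h3 : (g⁻¹ * h * g) * a₁ * (g⁻¹ * h * g)⁻¹ ∈ A := by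
        rw [← h1]
        exact ⟨a₁, h₁, by simp only [MulEquiv.toMonoidHom_eq_coe, MonoidHom.coe_coe, MulAut.conj_apply]⟩
      rw [hBmem]
      exact ⟨_, h3, by group⟩
  -- Step 3: elements of A normalizing B centralize B
  have hcase2 : ∀ a' ∈ A, (∀ b ∈ B, a' * b * a'⁻¹ ∈ B) → ∀ b ∈ B, a' * b = b * a' := by
    intro a' ha' h b hb'
    have h1 : a' * b * a'⁻¹ * b⁻¹ ∈ B := B.mul_mem (h b hb') (B.inv_mem hb')
    have h2 : a' * b * a'⁻¹ * b⁻¹ ∈ A := by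
      have h3 : a' * b * a'⁻¹ * b⁻¹ = a' * (b * a'⁻¹ * b⁻¹) := by group
      rw [h3]
      exact A.mul_mem ha' (hnorm b hb' _ (A.inv_mem ha'))
    have h4 := hdisj _ h1 h2
    calc a' * b = (a' * b * a'⁻¹ * b⁻¹) * b * a' := by group
      _ = b * a' := by rw [h4, one_mul]
  by_contra hcon
  push Not at hcon
  obtain ⟨a', ha', b₀, hb₀, hne⟩ := hcon
  have hc1 : ∀ b ∈ B, a' * b * a'⁻¹ ∈ B → b = 1 := by
    rcases hP a' with h | h
    · exact h
    · exact absurd (hcase2 a' ha' h b₀ hb₀) hne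
  -- the map φ : B → A
  let φ : B → A := fun b => ⟨a' * b * a'⁻¹ * (b : G)⁻¹, by
    have h3 : a' * b * a'⁻¹ * (b : G)⁻¹ = a' * (b * a'⁻¹ * (b : G)⁻¹) := by group
    rw [h3]
    exact A.mul_mem ha' (hnorm b b.2 _ (A.inv_mem ha'))⟩
  have hφinj : Function.Injective φ := by
    intro b₁ b₂ e
    have e' : a' * b₁ * a'⁻¹ * (b₁ : G)⁻¹ = a' * b₂ * a'⁻¹ * (b₂ : G)⁻¹ := congrArg Subtype.val e
    have h1 : a' * ((b₂ : G)⁻¹ * b₁) * a'⁻¹ = (b₂ : G)⁻¹ * b₁ := by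
      calc a' * ((b₂ : G)⁻¹ * b₁) * a'⁻¹
          = a' * (b₂ : G)⁻¹ * a'⁻¹ * (a' * b₁ * a'⁻¹ * (b₁ : G)⁻¹) * b₁ := by group
        _ = a' * (b₂ : G)⁻¹ * a'⁻¹ * (a' * b₂ * a'⁻¹ * (b₂ : G)⁻¹) * b₁ := by rw [e']
        _ = (b₂ : G)⁻¹ * b₁ := by group
    have h2 : (b₂ : G)⁻¹ * b₁ ∈ B := B.mul_mem (B.inv_mem b₂.2) b₁.2
    have h3 := hc1 _ h2 (by rw [h1]; exact h2)
    exact Subtype.ext (inv_mul_eq_one.mp h3).symm
  have hcard : Nat.card A ≤ Nat.card B := by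
    rw [hB, Subgroup.card_map_of_injective (MulAut.conj g).injective]
  have hφbij := hφinj.bijective_of_nat_card_le hcard
  obtain ⟨b₁, hb₁⟩ := hφbij.2 ⟨a', ha'⟩
  have hb₁' : a' * b₁ * a'⁻¹ * (b₁ : G)⁻¹ = a' := congrArg Subtype.val hb₁
  -- a' commutes with b₁
  have hcomm : a' * b₁ * a'⁻¹ = b₁ := by
    have hb1inv := hBinv b₁ b₁.2
    have ha'inv := hAinv a' ha'
    have h1 : (b₁ : G) * a' * (b₁ : G)⁻¹ ∈ A := hnorm b₁ b₁.2 a' ha'
    have h2 := hAc a' ha' _ h1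
    -- a' = a' * (b₁ a' b₁)
    have h3 : a' = a' * ((b₁ : G) * a' * (b₁ : G)⁻¹) := by
      conv_lhs => rw [← hb₁']
      rw [ha'inv]; group
    have h4 : (b₁ : G) * a' * (b₁ : G)⁻¹ = 1 := by
      have := h3.symm
      exact mul_left_cancel (this.trans (mul_one a').symm)
    have h5 : a' = 1 := by
      calc a' = (b₁ : G)⁻¹ * ((b₁ : G) * a' * (b₁ : G)⁻¹) * b₁ := by group
        _ = 1 := by rw [h4]; group
    rw [h5]; group
  have hb1 : (b₁ : G) = 1 := hc1 _ b₁.2 (by rw [hcomm]; exact b₁.2)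
  rw [hb1] at hb₁'
  have ha'1 : a' = 1 := by rw [← hb₁']; group
  apply hne
  rw [ha'1, one_mul, mul_one]

end Cfsg.Agent.S1177
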