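import Mathlib
import Cfsg.Statements.S1178

set_option autoImplicit false
open Cfsg

namespace Cfsg.Agent.S1178

/-- Let A be a subgroup of a Sylow 2-subgroup S of the finite group G which is weakly closed in S. If a conjugate g A g⁻¹ commutes elementwise with A, then g A g⁻¹ = A. -/
theorem result {G : Type*} [Group G] [Finite G] (S : Sylow 2 G) (A : Subgroup G) (hW : Cfsg.IsWeaklyClosed A (S : Subgroup G)) (g : G) (hc : ∀ a ∈ A, ∀ b ∈ A.map (MulAut.conj g).toMonoidHom, a * b = b * a) : A.map (MulAut.conj g).toMonoidHom = A := by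
  obtain ⟨hAS, hW⟩ := hW
  set B := A.map (MulAut.conj g).toMonoidHom with hB
  have hA2 : IsPGroup 2 A := S.isPGroup'.to_le hAS
  have hB2 : IsPGroup 2 B := hA2.map _
  have hAB : A ≤ Subgroup.normalizer (B : Set G) := by
    intro a ha
    rw [Subgroup.mem_normalizer_iff]
    intro b
    constructor
    · intro hb
      have := hc a ha b hb
      have h2 : a * b * a⁻¹ = b := by rw [this]; group
      rw [h2]; exact hb
    · intro hb
      have := hc a ha _ hb
      have h3 : a * (a * b * a⁻¹) = a * b := by rw [this]; group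
      have h4 := mul_left_cancel h3
      rw [← h4]; exact hb
  have hsup : IsPGroup 2 (A ⊔ B : Subgroup G) := IsPGroup.to_sup_of_normal_right' hA2 hB2 hAB
  obtain ⟨T, hT⟩ := hsup.exists_le_sylow
  obtain ⟨h, hh⟩ := MulAction.exists_smul_eq G T S
  -- h • T = S
  have hconj : ∀ x ∈ (A ⊔ B : Subgroup G), h * x * h⁻¹ ∈ (S : Subgroup G) := by
    intro x hx
    have hxT : x ∈ (T : Subgroup G) := hT hx
    have : h * x * h⁻¹ ∈ ((h • T : Sylow 2 G) : Subgroup G) := by
      rw [Sylow.coe_subgroup_smul]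
      exact (Subgroup.mem_smul_pointwise_iff_exists _ _ _).mpr ⟨x, hxT, by simp [MulAut.smul_def]⟩
    rwa [hh] at this
  have h1 : A.map (MulAut.conj h).toMonoidHom = A := by
    apply hW
    rintro _ ⟨a, ha, rfl⟩
    exact hconj a (Subgroup.mem_sup_left ha)
  have h2 : A.map (MulAut.conj (h * g)).toMonoidHom = A := by
    apply hW
    rintro _ ⟨a, ha, rfl⟩
    have : g * a * g⁻¹ ∈ B := ⟨a, ha, rfl⟩
    have := hconj _ (Subgroup.mem_sup_right this)
    have h3 : h * (g * a * g⁻¹) * h⁻¹ = (MulAut.conj (h * g)).toMonoidHom a := by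
      simp only [MulEquiv.toMonoidHom_eq_coe, MonoidHom.coe_coe, MulAut.conj_apply]; group
    rwa [h3] at this
  -- B = h⁻¹ A h = A
  apply le_antisymm
  · rintro _ ⟨a, ha, rfl⟩
    have hx : h * g * a * (h * g)⁻¹ ∈ A := by
      rw [← h2]; exact ⟨a, ha, by simp [mul_assoc]⟩
    rw [← h1] at hx
    obtain ⟨a', ha', h3⟩ := hx
    have : g * a * g⁻¹ = a' := by
      simp only [MulEquiv.toMonoidHom_eq_coe, MonoidHom.coe_coe, MulAut.conj_apply] at h3
      have h4 : h * a' * h⁻¹ = h * (g * a * g⁻¹) * h⁻¹ := by rw [h3]; group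
      have h5 := mul_right_cancel h4
      exact (mul_left_cancel h5).symm
    simp only [MulEquiv.toMonoidHom_eq_coe, MonoidHom.coe_coe, MulAut.conj_apply]
    rw [this]; exact ha'
  · intro a ha
    have hx : h * a * h⁻¹ ∈ A := by
      rw [← h1]; exact ⟨a, ha, by simp⟩
    rw [← h2] at hx
    obtain ⟨a', ha', h3⟩ := hx
    simp only [MulEquiv.toMonoidHom_eq_coe, MonoidHom.coe_coe, MulAut.conj_apply] at h3
    have : g * a' * g⁻¹ = a := by
      have h4 : h * (g * a' * g⁻¹) * h⁻¹ = h * a * h⁻¹ := by rw [← h3]; group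
      exact mul_left_cancel (mul_right_cancel h4)
    exact ⟨a', ha', by simpa using this⟩

end Cfsg.Agent.S1178
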