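import Mathlib
import Cfsg.Statements.S1183
import Cfsg.Agent.Lib.helper25.IsolatedCount

set_option autoImplicit false
open Cfsg

namespace Cfsg.Agent.S1183

open Cfsg.Agent.Lib.helper25

theorem odd_of_pow_odd {G : Type*} [Group G] {a : G} {m : ℕ} (hm : Odd m)
    (h : Odd (orderOf (a ^ m))) : Odd (orderOf a) := by
  have : a ^ (m * orderOf (a ^ m)) = 1 := by rw [pow_mul, pow_orderOf_eq_one]
  exact Odd.of_dvd_nat (hm.mul h) (orderOf_dvd_of_pow_eq_one this)

theorem mem_centralizer_iff_commute {G : Type*} [Group G] {z c : G} :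
    c ∈ Subgroup.centralizer ({z} : Set G) ↔ Commute c z := by
  rw [Subgroup.mem_centralizer_iff]
  constructor
  · intro h; exact (h z rfl).symm
  · intro h x hx
    rw [Set.mem_singleton_iff] at hx
    subst hx
    exact h.eq.symm

/-- The index of the centralizer of an isolated involution is odd. -/
theorem index_odd {G : Type*} [Group G] [Finite G] {z : G} (hz : Cfsg.IsIsolatedInvolution z) :
    Odd (Subgroup.centralizer ({z} : Set G)).index := by
  have hzz := isolated_mul_self hz
  have hzinv := isolated_inv hz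
  have hp : IsPGroup 2 (Subgroup.zpowers z) := by
    have : Fact (Nat.Prime 2) := ⟨Nat.prime_two⟩
    apply IsPGroup.of_card (n := 1)
    rw [Nat.card_zpowers, hz.1, pow_one]
  have h1 := hp.card_modEq_card_fixedPoints (G ⧸ Subgroup.centralizer ({z} : Set G))
  have h2 : MulAction.fixedPoints (Subgroup.zpowers z) (G ⧸ Subgroup.centralizer ({z} : Set G)) =
      {QuotientGroup.mk 1} := by
    ext q
    rw [MulAction.mem_fixedPoints, Set.mem_singleton_iff]
    constructor
    · intro h
      obtain ⟨g, rfl⟩ := QuotientGroup.mk_surjective q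
      have h3 := h ⟨z, Subgroup.mem_zpowers z⟩
      change (QuotientGroup.mk (z * g) : G ⧸ Subgroup.centralizer ({z} : Set G)) = QuotientGroup.mk g at h3
      rw [QuotientGroup.eq] at h3
      have h4 : Commute (g⁻¹ * z * g⁻¹⁻¹) z := by
        rw [← mem_centralizer_iff_commute]
        have : g⁻¹ * z * g⁻¹⁻¹ = ((z * g)⁻¹ * g)⁻¹ := by group
        rw [this]
        exact Subgroup.inv_mem _ h3
      have h5 := hz.2 g⁻¹ h4.symm
      rw [QuotientGroup.eq, mul_one, mem_centralizer_iff_commute]
      have h6 : Commute g⁻¹ z := by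
        unfold Commute SemiconjBy
        calc g⁻¹ * z = (g⁻¹ * z * g⁻¹⁻¹) * g⁻¹ := by group
          _ = z * g⁻¹ := by rw [h5]
      exact h6
    · rintro rfl ⟨y, hy⟩
      obtain ⟨n, rfl⟩ := Subgroup.mem_zpowers_iff.mp hy
      change (QuotientGroup.mk (z ^ n * 1) : G ⧸ Subgroup.centralizer ({z} : Set G)) = QuotientGroup.mk 1
      rw [QuotientGroup.eq, mul_one, mul_one]
      apply Subgroup.inv_mem
      rw [mem_centralizer_iff_commute]
      exact (Commute.refl z).zpow_left n
  rw [h2] at h1
  have h3 : Nat.card ↥({QuotientGroup.mk 1} : Set (G ⧸ Subgroup.centralizer ({z} : Set G))) = 1 := by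
    simp
  rw [h3] at h1
  rw [Subgroup.index, Nat.odd_iff]
  exact h1

open scoped commutatorElement in
theorem focal_le_commutator {G : Type*} [Group G] [Finite G] {z : G}
    (hz : Cfsg.IsIsolatedInvolution z) :
    Subgroup.focalSubgroupOf (Subgroup.centralizer ({z} : Set G)) ≤
      commutator (Subgroup.centralizer ({z} : Set G)) := by
  rw [Subgroup.focalSubgroupOf_eq_closure, Subgroup.closure_le]
  rintro g ⟨x, hx, u, hg⟩
  rw [commutatorElement_def] at hg
  have hxz : Commute x z := mem_centralizer_iff_commute.mp hx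
  have hgz : Commute (g : G) z := mem_centralizer_iff_commute.mp g.2
  have h1 : Commute (u * x⁻¹ * u⁻¹) z := by
    have : u * x⁻¹ * u⁻¹ = x⁻¹ * (g : G) := by rw [hg]; group
    rw [this]
    exact hxz.inv_left.mul_left hgz
  have htop : z ∈ Subgroup.normalizer ((⊤ : Subgroup G) : Set G) := by
    rw [Subgroup.mem_normalizer_iff]
    intro h
    simp
  obtain ⟨c, -, hc, hc2⟩ := isolated_fusion_control hz ⊤ htop x⁻¹ (u * x⁻¹ * u⁻¹) hxz.inv_left h1 u
    (Subgroup.mem_top u) rfl
  have hcC : c ∈ Subgroup.centralizer ({z} : Set G) := mem_centralizer_iff_commute.mpr hc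
  have h2 : g = ⁅(⟨x, hx⟩ : Subgroup.centralizer ({z} : Set G)), ⟨c, hcC⟩⁆ := by
    apply Subtype.ext
    rw [commutatorElement_def]
    change (g : G) = x * c * x⁻¹ * c⁻¹
    rw [hg]
    calc x * u * x⁻¹ * u⁻¹ = x * (u * x⁻¹ * u⁻¹) := by group
      _ = x * (c * x⁻¹ * c⁻¹) := by rw [hc2]
      _ = x * c * x⁻¹ * c⁻¹ := by group
  rw [h2]
  exact Subgroup.commutator_mem_commutator (Subgroup.mem_top _) (Subgroup.mem_top _)

theorem pResidual_normal (p : ℕ) (H : Type*) [Group H] : (Cfsg.pResidual p H).Normal := by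
  have h : Cfsg.pResidual p H = Subgroup.normalClosure {g : H | Nat.Coprime (orderOf g) p} := by
    apply le_antisymm Subgroup.closure_le_normalClosure
    unfold Subgroup.normalClosure
    apply Subgroup.closure_mono
    intro x hx
    obtain ⟨a, ha, hconj⟩ := Group.mem_conjugatesOfSet_iff.mp hx
    obtain ⟨c, rfl⟩ := isConj_iff.mp hconj
    change Nat.Coprime (orderOf (c * a * c⁻¹)) p
    have : c * a * c⁻¹ = MulAut.conj c a := by simp
    rw [this, MulEquiv.orderOf_eq]; exact ha
  rw [h]; exact Subgroup.normalClosure_normal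

open scoped IsMulCommutative in
theorem forward {G : Type*} [Group G] [Finite G] {z : G} (hz : Cfsg.IsIsolatedInvolution z)
    (hG : Cfsg.pResidual 2 G = ⊤) :
    Cfsg.pResidual 2 ↥(Subgroup.centralizer ({z} : Set G)) = ⊤ := by
  set C := Subgroup.centralizer ({z} : Set G) with hC
  -- Step 1: every transfer value has odd order
  have hV : ∀ g : G, Odd (orderOf (Subgroup.transferFocal C g)) := by
    intro g
    have hg : g ∈ Cfsg.pResidual 2 G := by rw [hG]; trivial
    unfold Cfsg.pResidual at hg
    induction hg using Subgroup.closure_induction with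
    | mem x hx =>
      have h1 : orderOf (C.transferFocal x) ∣ orderOf x := orderOf_map_dvd _ x
      exact Odd.of_dvd_nat (Nat.coprime_two_right.mp hx) h1
    | one => rw [map_one, orderOf_one]; exact odd_one
    | mul x y _ _ hx hy =>
      rw [map_mul]
      have hc : Commute (C.transferFocal x) (C.transferFocal y) := mul_comm' _ _
      exact Odd.of_dvd_nat (Odd.of_dvd_nat (hx.mul hy) (Nat.lcm_dvd_mul _ _)) hc.orderOf_mul_dvd_lcm
    | inv x _ hx => rw [map_inv, orderOf_inv]; exact hx
  -- Step 2: every element of `C / C*` has odd order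
  have h2 : ∀ c : C, Odd (orderOf (QuotientGroup.mk c : C ⧸ C.focalSubgroupOf)) := by
    intro c
    have h := hV c
    rw [Subgroup.transferFocal_eq_pow] at h
    exact odd_of_pow_odd (index_odd hz) h
  -- Step 3: an odd power of each `c` lies in the commutator subgroup of `C`
  have h3 : ∀ c : C, ∃ m, Odd m ∧ c ^ m ∈ commutator C := by
    intro c
    refine ⟨_, h2 c, focal_le_commutator hz ?_⟩
    rw [← QuotientGroup.eq_one_iff, QuotientGroup.mk_pow, pow_orderOf_eq_one]
  -- Step 4: the quotient by the residual is a 2-group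
  set R := Cfsg.pResidual 2 C with hR
  have hRn : R.Normal := pResidual_normal 2 C
  have hp : IsPGroup 2 (C ⧸ R) := by
    intro q
    obtain ⟨c, rfl⟩ := QuotientGroup.mk_surjective q
    obtain ⟨k, m, hm, hkm⟩ := Nat.exists_eq_two_pow_mul_odd (orderOf_pos c).ne'
    refine ⟨k, ?_⟩
    rw [← QuotientGroup.mk_pow, QuotientGroup.eq_one_iff]
    apply Subgroup.subset_closure
    change Nat.Coprime (orderOf (c ^ 2 ^ k)) 2
    rw [Nat.coprime_two_right]
    have : (c ^ 2 ^ k) ^ m = 1 := by rw [← pow_mul, ← hkm, pow_orderOf_eq_one]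
    exact Odd.of_dvd_nat hm (orderOf_dvd_of_pow_eq_one this)
  -- Step 5: the quotient is perfect
  have h5 : commutator (C ⧸ R) = ⊤ := by
    rw [eq_top_iff]
    intro q _
    obtain ⟨c, rfl⟩ := QuotientGroup.mk_surjective q
    obtain ⟨m, hm, hcm⟩ := h3 c
    obtain ⟨k, hk⟩ := hp (QuotientGroup.mk c)
    have hcop : Nat.Coprime m (orderOf (QuotientGroup.mk c : C ⧸ R)) := by
      have : orderOf (QuotientGroup.mk c : C ⧸ R) ∣ 2 ^ k := orderOf_dvd_of_pow_eq_one hk
      exact Nat.Coprime.coprime_dvd_right this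
        (Nat.Coprime.pow_right k (Nat.coprime_two_right.mpr hm))
    obtain ⟨j, hj⟩ := exists_pow_eq_self_of_coprime hcop
    rw [← hj]
    apply Subgroup.pow_mem
    rw [← QuotientGroup.mk_pow]
    have : commutator (C ⧸ R) = (commutator C).map (QuotientGroup.mk' R) := by
      rw [commutator_def, commutator_def, Subgroup.map_commutator,
        Subgroup.map_top_of_surjective _ (QuotientGroup.mk'_surjective R)]
    rw [this]
    exact ⟨c ^ m, hcm, rfl⟩
  -- Step 6: a perfect 2-group is trivial
  by_contra hne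
  have hnt : Nontrivial (C ⧸ R) := by
    by_contra hnt
    rw [not_nontrivial_iff_subsingleton] at hnt
    exact hne (QuotientGroup.subgroup_eq_top_of_subsingleton R hnt)
  have : Fact (Nat.Prime 2) := ⟨Nat.prime_two⟩
  have hnil : Group.IsNilpotent (C ⧸ R) := hp.isNilpotent
  have := Group.IsSolvable.commutator_lt_top_of_nontrivial (C ⧸ R)
  exact this.ne h5

theorem backward {G : Type*} [Group G] [Finite G] {z : G} (hz : Cfsg.IsIsolatedInvolution z)
    (hC : Cfsg.pResidual 2 ↥(Subgroup.centralizer ({z} : Set G)) = ⊤) :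
    Cfsg.pResidual 2 G = ⊤ := by
  rw [eq_top_iff]
  intro g _
  obtain ⟨k, ⟨hk1, hk2⟩, -⟩ := isolated_coset_unique hz g
  have hkmem : k ∈ Cfsg.pResidual 2 G :=
    Subgroup.subset_closure (Nat.coprime_two_right.mpr hk1.1)
  have hcmem : ∀ c : Subgroup.centralizer ({z} : Set G), (c : G) ∈ Cfsg.pResidual 2 G := by
    intro c
    have hc : c ∈ Cfsg.pResidual 2 ↥(Subgroup.centralizer ({z} : Set G)) := by rw [hC]; trivial
    unfold Cfsg.pResidual at hc
    induction hc using Subgroup.closure_induction with
    | mem x hx =>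
      apply Subgroup.subset_closure
      change Nat.Coprime (orderOf (x : G)) 2
      rw [Subgroup.orderOf_coe]; exact hx
    | one => exact Subgroup.one_mem _
    | mul x y _ _ hx hy => exact Subgroup.mul_mem _ hx hy
    | inv x _ hx => exact Subgroup.inv_mem _ hx
  have h1 := hcmem ⟨g⁻¹ * k, hk2⟩
  have h2 : g = k * (g⁻¹ * k)⁻¹ := by group
  rw [h2]
  exact Subgroup.mul_mem _ hkmem (Subgroup.inv_mem _ h1)

/-- Let z be an isolated involution of the finite group G and C = C_G(z). Then the subgroup of G generated by its elements of odd order is all of G if and only if the subgroup of C generated by its elements of odd order is all of C. -/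
theorem result {G : Type*} [Group G] [Finite G] (z : G) (hz : Cfsg.IsIsolatedInvolution z) : Cfsg.pResidual 2 G = ⊤ ↔ Cfsg.pResidual 2 ↥(Subgroup.centralizer ({z} : Set G)) = ⊤ := by
  exact ⟨forward hz, backward hz⟩

end Cfsg.Agent.S1183
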