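import Cfsg.Statements.S1224
import Cfsg.Agent.Lib.helper26.StronglyEmbedded

set_option autoImplicit false
open Cfsg

namespace Cfsg.Agent.S1224

open Cfsg.Agent.Lib.helper26

/-- Let H be a strongly embedded subgroup of the finite group G and x ≠ y two cosets in G/H. Then the number of involutions i of G with i • x = y equals the number of involutions lying in H. -/
theorem result {G : Type*} [Group G] [Finite G] (H : Subgroup G) (hH : Cfsg.IsStronglyEmbedded H) (x y : G ⧸ H) (hxy : x ≠ y) : Nat.card {i : G // orderOf i = 2 ∧ i • x = y} = Nat.card {t : G // orderOf t = 2 ∧ t ∈ H} := by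
  obtain ⟨g₁, rfl⟩ := QuotientGroup.mk_surjective x
  obtain ⟨g₂, rfl⟩ := QuotientGroup.mk_surjective y
  rw [← SE.card_coset_eq hH (g₁⁻¹ * g₂)]
  have key : ∀ i : G, (i • (QuotientGroup.mk g₁ : G ⧸ H) = QuotientGroup.mk g₂) ↔
      (g₁⁻¹ * g₂)⁻¹ * (g₁⁻¹ * i * g₁) ∈ H := by
    intro i
    rw [MulAction.Quotient.smul_mk, QuotientGroup.eq, smul_eq_mul]
    have e : (g₁⁻¹ * g₂)⁻¹ * (g₁⁻¹ * i * g₁) = ((i * g₁)⁻¹ * g₂)⁻¹ := by group
    rw [e, inv_mem_iff]
  exact Nat.card_congr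
    { toFun := fun i => ⟨g₁⁻¹ * i.1 * g₁, by rw [orderOf_conj_eq']; exact i.2.1, (key i.1).1 i.2.2⟩
      invFun := fun j => ⟨g₁ * j.1 * g₁⁻¹, by rw [orderOf_conj_eq]; exact j.2.1, by
        rw [key]
        have : g₁⁻¹ * (g₁ * j.1 * g₁⁻¹) * g₁ = j.1 := by group
        rw [this]; exact j.2.2⟩
      left_inv := fun i => by
        apply Subtype.ext
        show g₁ * (g₁⁻¹ * i.1 * g₁) * g₁⁻¹ = i.1
        group
      right_inv := fun j => by
        apply Subtype.ext
        show g₁⁻¹ * (g₁ * j.1 * g₁⁻¹) * g₁ = j.1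
        group }

end Cfsg.Agent.S1224
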