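import Cfsg.Statements.S1228
import Cfsg.Agent.Lib.helper26.CIT3

set_option autoImplicit false
open Cfsg

namespace Cfsg.Agent.S1228

open Cfsg.Agent.Lib.helper26

/-- Let G be a finite group with a Sylow 2-subgroup T that is neither cyclic nor normal, such that the centralizer of every involution is an elementary abelian 2-group; put H = N_G(T), let u be an involution outside H and D = H ∩ uHu⁻¹. Then N_G(D) = D ⊔ ⟨u⟩, and a coset gH is fixed by every element of D exactly when gH = H or gH = uH. -/
theorem result {G : Type*} [Group G] [Finite G] (T : Sylow 2 G) (hnc : ¬ IsCyclic (T : Subgroup G)) (hnn : ¬ (T : Subgroup G).Normal) (hC : ∀ t : G, orderOf t = 2 → IsMulCommutative (Subgroup.centralizer ({t} : Set G)) ∧ ∀ c ∈ Subgroup.centralizer ({t} : Set G), c ^ 2 = 1) (u : G) (hu : orderOf u = 2) (huH : u ∉ Subgroup.normalizer ((T : Subgroup G) : Set G)) : Subgroup.normalizer ((Subgroup.normalizer ((T : Subgroup G) : Set G) ⊓ (Subgroup.normalizer ((T : Subgroup G) : Set G)).map (MulAut.conj u).toMonoidHom : Subgroup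 G) : Set G) = (Subgroup.normalizer ((T : Subgroup G) : Set G) ⊓ (Subgroup.normalizer ((T : Subgroup G) : Set G)).map (MulAut.conj u).toMonoidHom) ⊔ Subgroup.zpowers u ∧ ∀ g : G, ((∀ d ∈ Subgroup.normalizer ((T : Subgroup G) : Set G) ⊓ (Subgroup.normalizer ((T : Subgroup G) : Set G)).map (MulAut.conj u).toMonoidHom, d • (QuotientGroup.mk g : G ⧸ Subgroup.normalizer ((T : Subgroup G) : Set G)) = QuotientGroup.mk g) ↔ (QuotientGroup.mk g : G ⧸ Subgroup.normalizer ((T : Subgroup G) : Set G)) = QuotientGroup.mk 1 ∨ (QuotientGroup.mk g : G ⧸ Subgroup.normalizer ((T : Subgroup G) : Set G)) = QuotientGroup.mk u) := by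
  refine ⟨CIT.normalizer_D T hnc hC hnn u hu huH, fun g => ?_⟩
  have key := CIT.fixed_iff T hnc hC hnn u hu huH g
  constructor
  · intro h
    have h1 : ∀ d ∈ CIT.Dsub T u,
        g⁻¹ * d * g ∈ Subgroup.normalizer ((T : Subgroup G) : Set G) := by
      intro d hd
      have h2 := h d⁻¹ (inv_mem hd)
      rw [MulAction.Quotient.smul_mk, smul_eq_mul, QuotientGroup.eq] at h2
      have e : (d⁻¹ * g)⁻¹ * g = g⁻¹ * d * g := by group
      rwa [e] at h2
    rcases key.1 h1 with h3 | h3
    · left
      rw [QuotientGroup.eq]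
      simpa using h3
    · right
      rw [QuotientGroup.eq]
      exact h3
  · intro h d hd
    have h1 : g ∈ Subgroup.normalizer ((T : Subgroup G) : Set G) ∨
        g⁻¹ * u ∈ Subgroup.normalizer ((T : Subgroup G) : Set G) := by
      rcases h with h | h
      · left
        rw [QuotientGroup.eq] at h
        simpa using h
      · right
        rwa [QuotientGroup.eq] at h
    have h2 := key.2 h1 d⁻¹ (inv_mem hd)
    rw [MulAction.Quotient.smul_mk, smul_eq_mul, QuotientGroup.eq]
    have e : (d * g)⁻¹ * g = g⁻¹ * d⁻¹ * g := by group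
    rw [e]
    exact h2

end Cfsg.Agent.S1228
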