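import Cfsg.Statements.S1231
import Cfsg.Agent.Lib.helper26.PRank
import Cfsg.Agent.Lib.helper26.Basic
import Cfsg.Agent.Lib.helper26.OddAut
import Cfsg.Agent.Lib.helper53.Conj

set_option autoImplicit false
open Cfsg

namespace Cfsg.Agent.S1231

open Cfsg.Agent.Lib.helper26 in
/-- Let H be a subgroup of the finite group G, p a prime, k ≥ 1, and P a Sylow p-subgroup of H whose p-rank is at least k. Then N_G(X) ≤ H for every subgroup X of P of p-rank at least k if and only if H ∩ gHg⁻¹ has p-rank less than k for every g ∉ H. -/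
theorem result {G : Type*} [Group G] [Finite G] {p : ℕ} [Fact p.Prime] (k : ℕ) (hk : 1 ≤ k) (H : Subgroup G) (P : Sylow p ↥H) (hP : ¬ Cfsg.PRankLE p (k - 1) ↥(P : Subgroup ↥H)) : (∀ X : Subgroup G, X ≤ (P : Subgroup ↥H).map H.subtype → ¬ Cfsg.PRankLE p (k - 1) ↥X → Subgroup.normalizer (X : Set G) ≤ H) ↔ (∀ g : G, g ∉ H → Cfsg.PRankLE p (k - 1) ↥(H ⊓ H.map (MulAut.conj g).toMonoidHom)) := by
  classical
  have hP'H : (P : Subgroup ↥H).map H.subtype ≤ H := Subgroup.map_subtype_le _
  constructor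
  · intro hyp g hg
    by_contra hcon
    -- normalizers of `p`-subgroups of `H` of large rank lie in `H`
    have claim1 : ∀ X : Subgroup G, X ≤ H → IsPGroup p X → ¬ Cfsg.PRankLE p (k - 1) ↥X →
        Subgroup.normalizer (X : Set G) ≤ H := by
      intro X hXH hXp hXr n hn
      obtain ⟨h, hh⟩ := exists_conj_le_sylow P (X.subgroupOf H)
        (hXp.comap_of_injective H.subtype H.subtype_injective)
      have hX₁P : X.map (MulAut.conj (h : G)).toMonoidHom ≤ (P : Subgroup ↥H).map H.subtype := by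
        rintro _ ⟨x, hx, rfl⟩
        have h1 := hh ⟨x, hXH hx⟩ (Subgroup.mem_subgroupOf.2 hx)
        exact ⟨_, h1, by simp⟩
      have hX₁r : ¬ Cfsg.PRankLE p (k - 1) ↥(X.map (MulAut.conj (h : G)).toMonoidHom) := by
        rw [prankLE_map_iff _ (MulAut.conj (h : G)).injective]
        exact hXr
      have hN := hyp _ hX₁P hX₁r
      have hmem : (h : G) * n * (h : G)⁻¹ ∈
          Subgroup.normalizer ((X.map (MulAut.conj (h : G)).toMonoidHom : Subgroup G) : Set G) := by
        apply mem_normalizer_of_forall_conj_mem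
        rintro _ ⟨x, hx, rfl⟩
        refine ⟨n * x * n⁻¹, (Subgroup.mem_normalizer_iff.1 hn x).1 hx, ?_⟩
        simp only [MulEquiv.coe_toMonoidHom, MulAut.conj_apply]
        group
      have h1 := hN hmem
      have h2 : n = (h : G)⁻¹ * ((h : G) * n * (h : G)⁻¹) * (h : G) := by group
      rw [h2]
      exact H.mul_mem (H.mul_mem (H.inv_mem h.2) h1) h.2
    obtain ⟨A, hA, hAp, hAr⟩ := exists_pgroup_of_not_prankLE _ hcon
    have hAH : A ≤ H := hA.trans inf_le_left
    have hBH : A.map (MulAut.conj g⁻¹).toMonoidHom ≤ H := by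
      rintro _ ⟨a, ha, rfl⟩
      obtain ⟨x, hx, hxa⟩ := (hA ha).2
      simp only [MulEquiv.coe_toMonoidHom, MulAut.conj_apply] at hxa ⊢
      rw [← hxa]
      have h1 : g⁻¹ * (g * x * g⁻¹) * g⁻¹⁻¹ = x := by group
      rw [h1]
      exact hx
    have hBp : IsPGroup p (A.map (MulAut.conj g⁻¹).toMonoidHom) := hAp.map _
    have hBr : ¬ Cfsg.PRankLE p (k - 1) ↥(A.map (MulAut.conj g⁻¹).toMonoidHom) := by
      rw [prankLE_map_iff _ (MulAut.conj g⁻¹).injective]
      exact hAr
    obtain ⟨Q', hQ'⟩ := (hBp.comap_of_injective H.subtype H.subtype_injective).exists_le_sylow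
    have hQ''H : (Q' : Subgroup ↥H).map H.subtype ≤ H := Subgroup.map_subtype_le _
    have hQ''p : IsPGroup p ((Q' : Subgroup ↥H).map H.subtype) := Q'.isPGroup'.map _
    have hBQ'' : A.map (MulAut.conj g⁻¹).toMonoidHom ≤ (Q' : Subgroup ↥H).map H.subtype := by
      intro b hb
      exact ⟨⟨b, hBH hb⟩, hQ' (Subgroup.mem_subgroupOf.2 hb), rfl⟩
    have hQ''r : ¬ Cfsg.PRankLE p (k - 1) ↥((Q' : Subgroup ↥H).map H.subtype) :=
      fun h => hBr (prankLE_mono hBQ'' h)
    have hNQ'' := claim1 _ hQ''H hQ''p hQ''r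
    have hR₁p : IsPGroup p (((Q' : Subgroup ↥H).map H.subtype).map (MulAut.conj g).toMonoidHom) :=
      hQ''p.map _
    have hAR₁ : A ≤ ((Q' : Subgroup ↥H).map H.subtype).map (MulAut.conj g).toMonoidHom := by
      intro a ha
      refine ⟨g⁻¹ * a * g, hBQ'' ⟨a, ha, by simp⟩, ?_⟩
      simp only [MulEquiv.coe_toMonoidHom, MulAut.conj_apply]
      group
    have hR₁H : ((Q' : Subgroup ↥H).map H.subtype).map (MulAut.conj g).toMonoidHom ≤ H := by
      by_contra hnot
      have hDlt : ((Q' : Subgroup ↥H).map H.subtype).map (MulAut.conj g).toMonoidHom ⊓ H <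
          ((Q' : Subgroup ↥H).map H.subtype).map (MulAut.conj g).toMonoidHom :=
        lt_of_le_of_ne inf_le_left (fun h => hnot (h ▸ inf_le_right))
      obtain ⟨y, hyR, hyD, hyN⟩ := Cfsg.Agent.Lib.helper53.exists_mem_normalizer_not_mem hR₁p hDlt
      have hDr : ¬ Cfsg.PRankLE p (k - 1)
          ↥(((Q' : Subgroup ↥H).map H.subtype).map (MulAut.conj g).toMonoidHom ⊓ H) :=
        fun h => hAr (prankLE_mono (le_inf hAR₁ hAH) h)
      have h1 := claim1 _ inf_le_right (hR₁p.to_le inf_le_left) hDr hyN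
      exact hyD (Subgroup.mem_inf.2 ⟨hyR, h1⟩)
    obtain ⟨h, hh⟩ := exists_conj_le_sylow Q'
      ((((Q' : Subgroup ↥H).map H.subtype).map (MulAut.conj g).toMonoidHom).subgroupOf H)
      (hR₁p.comap_of_injective H.subtype H.subtype_injective)
    have hmem : (h : G) * g ∈ Subgroup.normalizer (((Q' : Subgroup ↥H).map H.subtype : Subgroup G) : Set G) := by
      apply mem_normalizer_of_forall_conj_mem
      intro x hx
      have hx1 : g * x * g⁻¹ ∈ ((Q' : Subgroup ↥H).map H.subtype).map (MulAut.conj g).toMonoidHom :=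
        ⟨x, hx, by simp⟩
      have h1 := hh ⟨g * x * g⁻¹, hR₁H hx1⟩ (Subgroup.mem_subgroupOf.2 hx1)
      refine ⟨_, h1, ?_⟩
      simp only [Subgroup.coe_subtype, Subgroup.coe_mul, Subgroup.coe_inv]
      group
    have h1 := hNQ'' hmem
    apply hg
    have h2 : g = (h : G)⁻¹ * ((h : G) * g) := by group
    rw [h2]
    exact H.mul_mem (H.inv_mem h.2) h1
  · intro hyp X hXP hXr n hn
    by_contra hnH
    apply hXr
    refine prankLE_mono ?_ (hyp n hnH)
    intro x hx
    refine Subgroup.mem_inf.2 ⟨hP'H (hXP hx), ?_⟩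
    have h1 : n⁻¹ * x * n ∈ X := by
      have h2 := (Subgroup.mem_normalizer_iff.1 (inv_mem hn) x).1 hx
      simpa using h2
    refine ⟨n⁻¹ * x * n, hP'H (hXP h1), ?_⟩
    simp only [MulEquiv.coe_toMonoidHom, MulAut.conj_apply]
    group

end Cfsg.Agent.S1231
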