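import Cfsg.Statements.S1235
import Cfsg.Agent.Lib.helper26.E16c
import Cfsg.Agent.Lib.helper26.DQFacts

set_option autoImplicit false
open Cfsg
open Cfsg.Agent.Lib.helper26

namespace Cfsg.Agent.S1235

/-- Let G be a finite group, x an involution and T ≤ G a Sylow 2-subgroup of C_G(x) (T ≤ C_G(x) with |C_G(x) : T| odd) which is the internal direct product of a subgroup D that is dihedral (of order ≥ 4) or quasi-dihedral and a Klein four-subgroup B. Suppose that for every involution b ∈ B, T ≤ C_G(b) with |C_G(b) : T| odd. Then every section of G has 2-rank at most 4. -/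
theorem result {G : Type*} [Group G] [Finite G] (x : G) (hx : orderOf x = 2) (T D B : Subgroup G) (hT : IsPGroup 2 T) (hTx : T ≤ Subgroup.centralizer ({x} : Set G)) (hTxi : Odd (T.relIndex (Subgroup.centralizer ({x} : Set G)))) (hprod : Cfsg.IsInternalDirectProduct D B T) (hD : (∃ m : ℕ, 2 ≤ m ∧ Nonempty (D ≃* DihedralGroup m)) ∨ Cfsg.IsQuasiDihedral D) (hB : IsKleinFour B) (hTb : ∀ b ∈ B, orderOf b = 2 → T ≤ Subgroup.centralizer ({b} : Set G) ∧ Odd (T.relIndex (Subgroup.centralizer ({b} : Set G)))) : Cfsg.SectionalPRankLE 2 4 G := by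
  have hp2 : Fact (Nat.Prime 2) := ⟨Nat.prime_two⟩
  obtain ⟨S, hTS⟩ := hT.exists_le_sylow
  apply sectionalPRankLE_of_rk4In S
  have hB4 : Nat.card B = 4 := hB.card_four
  have hB2 : ∀ b ∈ B, b * b = 1 := by
    intro b hb
    have h1 : (⟨b, hb⟩ : B) ^ 2 = 1 := by
      have := Monoid.pow_exponent_eq_one (⟨b, hb⟩ : B)
      rwa [hB.exponent_two] at this
    have h2 := congrArg (fun y : B => (y : G)) h1
    simpa [pow_two] using h2
  have hBT : B ≤ T := hprod.2.1
  have hBc : ∀ b ∈ B, b ≠ 1 → ∀ g ∈ (S : Subgroup G), g * b = b * g → g ∈ T := by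
    intro b hb hb1 g hg hc
    have ho : orderOf b = 2 := orderOf_eq_prime (by rw [pow_two]; exact hB2 b hb) hb1
    obtain ⟨hTb', hodd⟩ := hTb b hb ho
    set K : Subgroup G := (S : Subgroup G) ⊓ Subgroup.centralizer ({b} : Set G) with hK
    have hTK : T ≤ K := le_inf hTS hTb'
    have hKC : K ≤ Subgroup.centralizer ({b} : Set G) := inf_le_right
    have hKp : IsPGroup 2 K := S.isPGroup'.to_le inf_le_left
    have h1 := Subgroup.relIndex_mul_relIndex T K (Subgroup.centralizer ({b} : Set G)) hTK hKC
    have h2 : T.relIndex K ∣ Nat.card K := Subgroup.relIndex_dvd_card T K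
    obtain ⟨k, hk⟩ := (IsPGroup.iff_card.mp hKp)
    rw [hk] at h2
    obtain ⟨j, hj, hj2⟩ := (Nat.dvd_prime_pow Nat.prime_two).mp h2
    have hj0 : j = 0 := by
      by_contra hj0
      have h3 : 2 ∣ T.relIndex K := by
        rw [hj2]
        exact dvd_pow_self 2 hj0
      have h4 : 2 ∣ T.relIndex (Subgroup.centralizer ({b} : Set G)) := by
        rw [← h1]
        exact Dvd.dvd.mul_right h3 _
      exact (Nat.not_even_iff_odd.mpr hodd) (even_iff_two_dvd.mpr h4)
    rw [hj0, pow_zero] at hj2
    have h5 : K ≤ T := Subgroup.relIndex_eq_one.mp hj2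
    apply h5
    refine Subgroup.mem_inf.mpr ⟨hg, ?_⟩
    rw [Subgroup.mem_centralizer_iff]
    intro y hy
    rw [Set.mem_singleton_iff] at hy
    subst hy
    exact hc.symm
  have small : Nat.card (D ⊓ Subgroup.centralizer (D : Set G) : Subgroup G) ≤ 2 →
      (∃ C : Subgroup G, C ≤ D ∧ IsCyclic C ∧ Nat.card D ≤ 2 * Nat.card C) →
      Rk4In (S : Subgroup G) := by
    rintro hZ ⟨C, hCD, hCc, hDC⟩
    have hST : (S : Subgroup G) ≤ T :=
      le_of_center_small (S : Subgroup G) T D B S.isPGroup' hTS hprod hB4 hB2 hZ hBc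
    have := rk4In_of_cyclic_chain T D B C hprod hB4 hCD hDC
    exact this.mono hST
  rcases hD with ⟨m, hm, ⟨e⟩⟩ | hQD
  · by_cases hm2 : m = 2
    · subst hm2
      have hD2 := dih2_sq D e
      have hT2 := sq_of_internalDirectProduct hprod hD2 hB2
      have hT16 : Nat.card T = 16 := by
        rw [card_of_internalDirectProduct hprod, hB4, Nat.card_congr e.toEquiv,
          DihedralGroup.nat_card]
      have c : E16Cfg (S : Subgroup G) T B :=
        { hS := S.isPGroup'
          hTS := hTS
          hT2 := hT2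
          hT16 := hT16
          hBT := hBT
          hB4 := hB4
          hBc := hBc }
      exact c.rk4In
    · exact small (dih_center_card_le D m (by omega) e) (dih_exists_cyclic D m e)
  · exact small (qd_center_card_le D hQD) (qd_exists_cyclic D hQD)

end Cfsg.Agent.S1235
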