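import Cfsg.Statements.S1236
import Cfsg.Agent.Lib.helper26.CyclicIndexTwo
import Cfsg.Agent.Lib.helper26.DihedralSylow
import Cfsg.Agent.Lib.helper25.QD3

set_option autoImplicit false
open Cfsg

namespace Cfsg.Agent.S1236

open Cfsg.Agent.Lib.helper26 Cfsg.Agent.Lib.helper25

/-- Four-subgroups of a dihedral group are self-centralizing. -/
theorem dih_four {D : Type*} [Group D] [Finite D] (m : ℕ) (e : D ≃* DihedralGroup m)
    (V : Subgroup D) (hV : ∀ v ∈ V, v * v = 1) (hV4 : Nat.card V = 4) :
    Subgroup.centralizer (V : Set D) ≤ V := by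
  obtain ⟨C, hC⟩ := exists_dihedralLike (⊤ : Subgroup D) m (Subgroup.topEquiv.trans e)
  have := hC.cyc
  refine centralizer_le_of_four C ?_ ?_ V hV hV4
  · intro x y hx hy
    exact hC.mul x (Subgroup.mem_top x) y (Subgroup.mem_top y) hx hy
  · intro s hs hss c hc hcs
    have h1 : s * c ∉ C := fun h => hs (by
      have h' := mul_mem h (inv_mem hc)
      simpa using h')
    have h2 := hC.sq (s * c) (Subgroup.mem_top _) h1
    have h3 : s * c * (s * c) = (s * s) * (c * c) := by
      calc s * c * (s * c) = s * (c * s) * c := by group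
        _ = s * (s * c) * c := by rw [hcs.eq]
        _ = (s * s) * (c * c) := by group
    rw [h3, hss, one_mul] at h2
    exact h2

/-- Four-subgroups of a quasi-dihedral group are self-centralizing. -/
theorem qd_four {D : Type*} [Group D] [Finite D] (hq : Cfsg.IsQuasiDihedral D)
    (V : Subgroup D) (hV : ∀ v ∈ V, v * v = 1) (hV4 : Nat.card V = 4) :
    Subgroup.centralizer (V : Set D) ≤ V := by
  obtain ⟨n, x, y, h⟩ := exists_qdSetup hq
  refine centralizer_le_of_four (Subgroup.zpowers x) ?_ ?_ V hV hV4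
  · intro a b ha hb
    exact (Subgroup.mul_mem_iff_of_index_two h.index_zpowers).2
      ⟨fun h' => absurd h' ha, fun h' => absurd h' hb⟩
  · intro s hs hss c hc hcs
    obtain ⟨a, rfl | rfl⟩ := h.normal_form s
    · exact absurd (h.xp_mem a) hs
    · obtain ⟨b, rfl⟩ := h.exists_xp hc
      have h8 := eight_tt h.hn
      have e1 : h.xp b * (h.xp a * y) = h.xp a * y * h.xp b := hcs.eq
      rw [← mul_assoc, h.xp_mul_xp, mul_assoc (h.xp a), h.y_mul_xp, ← mul_assoc, h.xp_mul_xp] at e1
      have e2 : b + a = a + rr n * b := h.xp_inj.1 (mul_right_cancel e1)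
      rw [h.xp_mul_xp, h.xp_eq_one_iff]
      unfold rr at e2
      linear_combination (1 + 2 * tt n + 4 * tt n ^ 2) * e2 + (2 * tt n ^ 2 * b) * h8

/-- Let R be a finite group, t a central involution of R such that R ⧸ ⟨t⟩ is dihedral (of order ≥ 4) or quasi-dihedral, and A ≤ R an elementary abelian subgroup of order 8 containing t. Then C_R(A) = A. -/
theorem result {R : Type*} [Group R] [Finite R] (t : R) (ht : orderOf t = 2) (htz : t ∈ Subgroup.center R) [(Subgroup.zpowers t).Normal] (hq : (∃ m : ℕ, 2 ≤ m ∧ Nonempty (R ⧸ Subgroup.zpowers t ≃* DihedralGroup m)) ∨ Cfsg.IsQuasiDihedral (R ⧸ Subgroup.zpowers t)) (A : Subgroup R) (hA : Cfsg.IsElementaryAbelian 2 A) (hA8 : Nat.card A = 8) (htA : t ∈ A) : Subgroup.centralizer (A : Set R) = A := by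
  classical
  have hsurj : Function.Surjective (QuotientGroup.mk' (Subgroup.zpowers t)) :=
    QuotientGroup.mk'_surjective _
  have hker : (QuotientGroup.mk' (Subgroup.zpowers t)).ker = Subgroup.zpowers t :=
    QuotientGroup.ker_mk' _
  have hNA : Subgroup.zpowers t ≤ A := by
    rw [Subgroup.zpowers_le]
    exact htA
  obtain ⟨hAc, hAexp⟩ := hA
  have hV : ∀ v ∈ A.map (QuotientGroup.mk' (Subgroup.zpowers t)), v * v = 1 := by
    rintro _ ⟨a, ha, rfl⟩
    rw [← map_mul, ← pow_two, hAexp a ha, map_one]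
  have hV4 : Nat.card (A.map (QuotientGroup.mk' (Subgroup.zpowers t))) = 4 := by
    have h1 : (A.map (QuotientGroup.mk' (Subgroup.zpowers t))).index = A.index :=
      Subgroup.index_map_eq A hsurj (by rw [hker]; exact hNA)
    have h2 := Subgroup.card_mul_index (A.map (QuotientGroup.mk' (Subgroup.zpowers t)))
    have h3 := Subgroup.card_mul_index A
    have h4 := Subgroup.card_eq_card_quotient_mul_card_subgroup (Subgroup.zpowers t)
    have h5 : Nat.card (Subgroup.zpowers t) = 2 := by rw [Nat.card_zpowers, ht]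
    have h6 : A.index ≠ 0 := Subgroup.index_ne_zero_of_finite
    rw [h1] at h2
    rw [hA8] at h3
    rw [h5] at h4
    have h7 : Nat.card (A.map (QuotientGroup.mk' (Subgroup.zpowers t))) * A.index = 4 * A.index := by
      nlinarith
    exact Nat.eq_of_mul_eq_mul_right (Nat.pos_of_ne_zero h6) h7
  have hcent : Subgroup.centralizer
      ((A.map (QuotientGroup.mk' (Subgroup.zpowers t)) : Subgroup (R ⧸ Subgroup.zpowers t)) :
        Set (R ⧸ Subgroup.zpowers t)) ≤ A.map (QuotientGroup.mk' (Subgroup.zpowers t)) := by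
    rcases hq with ⟨m, hm, ⟨e⟩⟩ | hq
    · exact dih_four m e _ hV hV4
    · exact qd_four hq _ hV hV4
  apply le_antisymm
  · intro g hg
    have h1 : QuotientGroup.mk' (Subgroup.zpowers t) g ∈ Subgroup.centralizer
        ((A.map (QuotientGroup.mk' (Subgroup.zpowers t)) : Subgroup (R ⧸ Subgroup.zpowers t)) :
          Set (R ⧸ Subgroup.zpowers t)) := by
      rw [Subgroup.mem_centralizer_iff]
      rintro _ ⟨a, ha, rfl⟩
      rw [← map_mul, ← map_mul, (Subgroup.mem_centralizer_iff.1 hg) a ha]
    obtain ⟨a, ha, hag⟩ := hcent h1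
    have h2 : a⁻¹ * g ∈ Subgroup.zpowers t := by
      rw [← hker, MonoidHom.mem_ker, map_mul, map_inv, hag, inv_mul_cancel]
    have h3 : g = a * (a⁻¹ * g) := by group
    rw [h3]
    exact mul_mem ha (hNA h2)
  · intro a ha
    rw [Subgroup.mem_centralizer_iff]
    intro b hb
    have h1 := hAc.is_comm.comm ⟨b, hb⟩ ⟨a, ha⟩
    exact congrArg Subtype.val h1

end Cfsg.Agent.S1236
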