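import Cfsg.Statements.S1241
import Cfsg.Agent.Lib.helper26.TransferLemmas

set_option autoImplicit false
open Cfsg

namespace Cfsg.Agent.S1241

open Cfsg.Agent.Lib.helper26

/-- Let G be a finite group, p a prime, H a subgroup of index prime to p, K a subgroup of H normal in H with H/K commutative, and g ∈ H ∖ K an element of p-power order such that for all integers m and all a ∈ G with a g^m a⁻¹ ∈ H one has a g^m a⁻¹ ∈ g^m K. Then g ∉ G'. -/
theorem result {G : Type*} [Group G] [Finite G] {p : ℕ} [Fact p.Prime] (H K : Subgroup G) (hHK : K ≤ H) (hKn : (K.subgroupOf H).Normal) (hab : ∀ x ∈ H, ∀ y ∈ H, x * y * x⁻¹ * y⁻¹ ∈ K) (hidx : Nat.Coprime p H.index) (g : G) (hgH : g ∈ H) (hgK : g ∉ K) (hgp : ∃ k : ℕ, orderOf g = p ^ k) (hctrl : ∀ (m : ℤ) (a : G), a * g ^ m * a⁻¹ ∈ H → (a * g ^ m * a⁻¹) * (g ^ m)⁻¹ ∈ K) : g ∉ commutator G := by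
  intro hgc
  haveI := hKn
  letI : CommGroup (H ⧸ K.subgroupOf H) :=
    { (inferInstance : Group (H ⧸ K.subgroupOf H)) with
      mul_comm := by
        intro a b
        induction a using QuotientGroup.induction_on with
        | H x =>
          induction b using QuotientGroup.induction_on with
          | H y =>
            rw [← QuotientGroup.mk_mul, ← QuotientGroup.mk_mul, QuotientGroup.eq,
              Subgroup.mem_subgroupOf]
            have h := hab (y⁻¹ : G) (H.inv_mem y.2) (x⁻¹ : G) (H.inv_mem x.2)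
            have e : (((x * y)⁻¹ * (y * x) : H) : G) = (y⁻¹ : G) * (x⁻¹ : G) * (y⁻¹ : G)⁻¹ * (x⁻¹ : G)⁻¹ := by
              simp only [Subgroup.coe_mul, Subgroup.coe_inv]; group
            rw [e]; exact h }
  set ϕ : H →* H ⧸ K.subgroupOf H := QuotientGroup.mk' (K.subgroupOf H) with hϕ
  have key : ∀ (k : ℕ) (g₀ : G) (h : g₀⁻¹ * g ^ k * g₀ ∈ H),
      ϕ ⟨g₀⁻¹ * g ^ k * g₀, h⟩ = ϕ ⟨g, hgH⟩ ^ k := by
    intro k g₀ h
    have h1 := hctrl (k : ℤ) g₀⁻¹ (by simpa using h)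
    rw [← map_pow, ← mul_inv_eq_one, ← map_inv, ← map_mul, hϕ, QuotientGroup.mk'_apply,
      QuotientGroup.eq_one_iff, Subgroup.mem_subgroupOf]
    simpa using h1
  have ht := transfer_eq_pow_of_conj ϕ g hgH key
  rw [transfer_eq_one_of_mem_commutator ϕ hgc] at ht
  obtain ⟨k, hk⟩ := hgp
  have h2 : ϕ ⟨g, hgH⟩ ^ (p ^ k) = 1 := by
    rw [← map_pow]
    have : (⟨g, hgH⟩ : H) ^ (p ^ k) = 1 := by
      apply Subtype.ext
      simp only [Subgroup.coe_pow, Subgroup.coe_one]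
      rw [← hk]; exact pow_orderOf_eq_one g
    rw [this, map_one]
  have h3 : orderOf (ϕ ⟨g, hgH⟩) ∣ Nat.gcd (p ^ k) H.index :=
    Nat.dvd_gcd (orderOf_dvd_of_pow_eq_one h2) (orderOf_dvd_of_pow_eq_one ht.symm)
  have h4 : Nat.gcd (p ^ k) H.index = 1 := Nat.Coprime.pow_left k hidx
  rw [h4, Nat.dvd_one, orderOf_eq_one_iff] at h3
  apply hgK
  have := (QuotientGroup.eq_one_iff (N := K.subgroupOf H) (⟨g, hgH⟩ : H)).1 h3
  simpa [Subgroup.mem_subgroupOf] using this

end Cfsg.Agent.S1241
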