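import Cfsg.Statements.S1243
import Cfsg.Agent.Lib.helper26.WeakClosure

set_option autoImplicit false
open Cfsg

namespace Cfsg.Agent.S1243

open Cfsg.Agent.Lib.helper26

/-- Let T be a Sylow p-subgroup of the finite group G and W ≤ T a subgroup weakly closed in T. If d and g d g⁻¹ both centralize W, then g d g⁻¹ = h d h⁻¹ for some h ∈ N_G(W). -/
theorem result {G : Type*} [Group G] [Finite G] {p : ℕ} [Fact p.Prime] (T : Sylow p G) (W : Subgroup G) (hW : Cfsg.IsWeaklyClosed W (T : Subgroup G)) (d g : G) (hd : d ∈ Subgroup.centralizer (W : Set G)) (hgd : g * d * g⁻¹ ∈ Subgroup.centralizer (W : Set G)) : ∃ h ∈ Subgroup.normalizer (W : Set G), h * d * h⁻¹ = g * d * g⁻¹ := by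
  have hWT : W ≤ (T : Subgroup G) := hW.1
  have hWp : IsPGroup p W := T.isPGroup'.to_le hWT
  -- C = centralizer of d
  set C : Subgroup G := Subgroup.centralizer ({d} : Set G) with hC
  have hmemC : ∀ x : G, x ∈ C ↔ x * d = d * x := by
    intro x
    rw [hC, Subgroup.mem_centralizer_iff]
    constructor
    · intro h; exact (h d rfl).symm
    · intro h y hy; rw [Set.mem_singleton_iff.1 hy]; exact h.symm
  have hcomm : ∀ w ∈ W, w * d = d * w := fun w hw =>
    (Subgroup.mem_centralizer_iff.1 hd w hw)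
  have hcomm' : ∀ w ∈ W, w * (g * d * g⁻¹) = (g * d * g⁻¹) * w := fun w hw =>
    (Subgroup.mem_centralizer_iff.1 hgd w hw)
  have hWC : W ≤ C := fun w hw => (hmemC w).2 (hcomm w hw)
  -- W' = g⁻¹ W g ≤ C
  set W' : Subgroup G := W.map (MulAut.conj g⁻¹).toMonoidHom with hW'
  have hW'mem : ∀ w ∈ W, g⁻¹ * w * g ∈ W' := by
    intro w hw
    refine ⟨w, hw, ?_⟩
    simp
  have hW'C : W' ≤ C := by
    rintro x ⟨w, hw, rfl⟩
    rw [hmemC]
    have h := hcomm' w hw
    simp only [MulEquiv.toMonoidHom_eq_coe, MonoidHom.coe_coe, MulAut.conj_apply, inv_inv]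
    have e1 : g⁻¹ * w * g * d = g⁻¹ * (w * (g * d * g⁻¹)) * g := by group
    have e2 : d * (g⁻¹ * w * g) = g⁻¹ * ((g * d * g⁻¹) * w) * g := by group
    rw [e1, e2, h]
  have hW'p : IsPGroup p W' := hWp.map _
  -- Sylow p-subgroup R of C containing W
  have hWCp : IsPGroup p (W.subgroupOf C) :=
    hWp.comap_of_injective C.subtype (Subgroup.subtype_injective C)
  obtain ⟨R, hR⟩ := hWCp.exists_le_sylow
  have hW'Cp : IsPGroup p (W'.subgroupOf C) :=
    hW'p.comap_of_injective C.subtype (Subgroup.subtype_injective C)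
  obtain ⟨c, hc⟩ := exists_conj_le_sylow R (W'.subgroupOf C) hW'Cp
  -- R as a p-subgroup of G
  have hRp : IsPGroup p ((R : Subgroup C).map C.subtype) := R.isPGroup'.map _
  obtain ⟨a, ha⟩ := exists_conj_le_sylow T ((R : Subgroup C).map C.subtype) hRp
  -- a normalizes W
  have ha1 : a ∈ Subgroup.normalizer (W : Set G) := by
    apply mem_normalizer_of_weaklyClosed hW
    intro w hw
    apply ha
    refine ⟨⟨w, hWC hw⟩, hR (by simpa [Subgroup.mem_subgroupOf] using hw), rfl⟩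
  -- a c g⁻¹ normalizes W
  have ha2 : a * c.1 * g⁻¹ ∈ Subgroup.normalizer (W : Set G) := by
    apply mem_normalizer_of_weaklyClosed hW
    intro w hw
    have h1 := hc ⟨g⁻¹ * w * g, hW'C (hW'mem w hw)⟩
      (by simpa [Subgroup.mem_subgroupOf] using hW'mem w hw)
    have h2 : c.1 * (g⁻¹ * w * g) * c.1⁻¹ ∈ (R : Subgroup C).map C.subtype :=
      ⟨_, h1, by simp⟩
    have h3 := ha _ h2
    have e : a * c.1 * g⁻¹ * w * (a * c.1 * g⁻¹)⁻¹ = a * (c.1 * (g⁻¹ * w * g) * c.1⁻¹) * a⁻¹ := by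
      group
    rw [e]; exact h3
  refine ⟨(a * c.1 * g⁻¹)⁻¹ * a, Subgroup.mul_mem _ (Subgroup.inv_mem _ ha2) ha1, ?_⟩
  have hcd : c.1 * d = d * c.1 := (hmemC c.1).1 c.2
  have e : (a * c.1 * g⁻¹)⁻¹ * a = g * c.1⁻¹ := by group
  rw [e]
  have e2 : g * c.1⁻¹ * d * (g * c.1⁻¹)⁻¹ = g * (c.1⁻¹ * (d * c.1)) * g⁻¹ := by group
  rw [e2, ← hcd]
  group

end Cfsg.Agent.S1243
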