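import Cfsg.Statements.S1244
import Cfsg.Agent.Lib.helper26.TransferInv

set_option autoImplicit false
open Cfsg

namespace Cfsg.Agent.S1244

open scoped IsMulCommutative in
/-- The "index two" property of `R ∩ Ω₁(S)` in `Ω₁(S)`. -/
theorem idx_two {G : Type*} [Group G] [Finite G] (S : Sylow 2 G)
    (hS : IsMulCommutative (S : Subgroup G)) (r : ℕ) (hr1 : 1 ≤ r)
    (hSr : Cfsg.PRankLE 2 r (S : Subgroup G)) (R : Subgroup G) (hRS : R ≤ S)
    (hRr : r = 1 ∨ ¬ Cfsg.PRankLE 2 (r - 2) R)
    (x y : (S : Subgroup G)) (hx : x ^ 2 = 1) (hy : y ^ 2 = 1)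
    (hxR : x ∉ R.subgroupOf S) (hyR : y ∉ R.subgroupOf S) : x * y ∈ R.subgroupOf S := by
  classical
  have : Fact (Nat.Prime 2) := ⟨Nat.prime_two⟩
  set K : Subgroup (S : Subgroup G) := R.subgroupOf S with hK
  set E : Subgroup (S : Subgroup G) := (powMonoidHom 2 : (S : Subgroup G) →* (S : Subgroup G)).ker
    with hE
  have memE : ∀ z : (S : Subgroup G), z ∈ E ↔ z ^ 2 = 1 := fun z => by
    rw [hE, MonoidHom.mem_ker, powMonoidHom_apply]
  have hEcomm : IsMulCommutative E := ⟨⟨fun a b => Subtype.ext (mul_comm (a : (S : Subgroup G)) b)⟩⟩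
  have hEcard : Nat.card E ≤ 2 ^ r := hSr E hEcomm (fun a ha => (memE a).1 ha)
  set F : Subgroup (S : Subgroup G) := E ⊓ K with hF
  have hFE : F ≤ E := inf_le_left
  -- lower bound for F
  have hFcard : 2 ^ r < 4 * Nat.card F := by
    rcases hRr with h1 | h2
    · subst h1
      have : 0 < Nat.card F := Nat.card_pos
      omega
    · unfold Cfsg.PRankLE at h2
      push Not at h2
      obtain ⟨A, hAc, hAexp, hAcard⟩ := h2
      have hinj : Function.Injective (Subgroup.inclusion hRS) := Subgroup.inclusion_injective hRS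
      have hle : A.map (Subgroup.inclusion hRS) ≤ F := by
        rintro _ ⟨a, ha, rfl⟩
        refine ⟨(memE _).2 ?_, ?_⟩
        · rw [← map_pow, hAexp a ha, map_one]
        · exact Subgroup.mem_subgroupOf.2 a.2
      have h3 : Nat.card A ≤ Nat.card F := by
        rw [← Subgroup.card_map_of_injective hinj]
        exact Subgroup.card_le_of_le hle
      have h4 : 2 ^ r ≤ 4 * 2 ^ (r - 2) := by
        rcases Nat.lt_or_ge r 2 with hlt | hge
        · have hr : r = 1 := by omega
          subst hr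
          norm_num
        · have : r = (r - 2) + 2 := by omega
          conv_lhs => rw [this, pow_add]
          exact le_of_eq (by ring)
      omega
  -- the index of F in E
  set F' : Subgroup E := F.subgroupOf E with hF'
  have hcardF' : Nat.card F' = Nat.card F := Nat.card_congr (Subgroup.subgroupOfEquivOfLe hFE).toEquiv
  have hmul : F'.index * Nat.card F' = Nat.card E := by
    rw [mul_comm]
    exact Subgroup.card_mul_index F'
  have hEp : IsPGroup 2 E := S.isPGroup'.to_subgroup E
  obtain ⟨n, hn⟩ := IsPGroup.iff_card.1 hEp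
  have hdvd : F'.index ∣ 2 ^ n := hn ▸ Subgroup.index_dvd_card F'
  obtain ⟨j, hj, hjidx⟩ := (Nat.dvd_prime_pow Nat.prime_two).1 hdvd
  have hxE : x ∈ E := (memE x).2 hx
  have hyE : y ∈ E := (memE y).2 hy
  have hxF' : (⟨x, hxE⟩ : E) ∉ F' := by
    rw [hF', Subgroup.mem_subgroupOf]
    exact fun h => hxR h.2
  have hyF' : (⟨y, hyE⟩ : E) ∉ F' := by
    rw [hF', Subgroup.mem_subgroupOf]
    exact fun h => hyR h.2
  have hidx2 : F'.index = 2 := by
    rw [hjidx]
    have hj1 : j ≠ 0 := by
      rintro rfl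
      rw [pow_zero, Subgroup.index_eq_one] at hjidx
      exact hxF' (hjidx ▸ Subgroup.mem_top _)
    have hj2 : j < 2 := by
      by_contra hge
      have h4 : 4 ≤ F'.index := by
        rw [hjidx]
        calc 4 = 2 ^ 2 := by norm_num
          _ ≤ 2 ^ j := Nat.pow_le_pow_right (by norm_num) (by omega)
      have : 4 * Nat.card F ≤ Nat.card E := by
        rw [← hmul, hcardF']
        exact Nat.mul_le_mul_right _ h4
      omega
    have : j = 1 := by omega
    rw [this, pow_one]
  have hmem := (Subgroup.mul_mem_iff_of_index_two hidx2 (a := (⟨x, hxE⟩ : E)) (b := ⟨y, hyE⟩)).2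
    ⟨fun h => absurd h hxF', fun h => absurd h hyF'⟩
  rw [hF', Subgroup.mem_subgroupOf] at hmem
  exact hmem.2

open scoped IsMulCommutative in
/-- Let G be a finite group with no subgroup of index 2 whose Sylow 2-subgroup S is commutative, and let R ≤ S be a subgroup whose 2-rank is exactly one less than the 2-rank r of S. Then every involution of S is conjugate, by an element of N_G(S), to an element of R. -/
theorem result {G : Type*} [Group G] [Finite G] (hG : ∀ H : Subgroup G, H.index ≠ 2) (S : Sylow 2 G) (hS : IsMulCommutative (S : Subgroup G)) (r : ℕ) (hr1 : 1 ≤ r) (hSr : Cfsg.PRankLE 2 r (S : Subgroup G) ∧ ¬ Cfsg.PRankLE 2 (r - 1) (S : Subgroup G)) (R : Subgroup G) (hRS : R ≤ S) (hRr : Cfsg.PRankLE 2 (r - 1) R ∧ (r = 1 ∨ ¬ Cfsg.PRankLE 2 (r - 2) R)) (t : G) (ht : orderOf t = 2) (htS : t ∈ S) : ∃ n ∈ Subgroup.normalizer ((S : Subgroup G) : Set G), n * t * n⁻¹ ∈ R := by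
  classical
  have : Fact (Nat.Prime 2) := ⟨Nat.prime_two⟩
  by_contra hcon
  push Not at hcon
  have ht2 : t ^ 2 = 1 := by rw [← ht]; exact pow_orderOf_eq_one t
  have hodd : Odd (S : Subgroup G).index := by
    rw [← Nat.not_even_iff_odd, even_iff_two_dvd]
    exact S.not_dvd_index
  have hV : MonoidHom.transfer (MonoidHom.id (S : Subgroup G)) t ∉ R.subgroupOf S := by
    apply Cfsg.Agent.Lib.helper26.transfer_involution_not_mem (MonoidHom.id (S : Subgroup G))
      (R.subgroupOf S) (idx_two S hS r hr1 hSr.1 R hRS hRr.2) hodd t ht2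
    intro g h
    obtain ⟨n, hn, hn'⟩ := Sylow.conj_eq_normalizer_conj_of_mem S t g htS h
    have h1 := hcon n⁻¹ (inv_mem hn)
    rw [inv_inv, ← hn'] at h1
    rw [MonoidHom.id_apply, Subgroup.mem_subgroupOf]
    exact h1
  have hV1 : MonoidHom.transfer (MonoidHom.id (S : Subgroup G)) t ≠ 1 := fun h =>
    hV (h ▸ Subgroup.one_mem _)
  obtain ⟨H, hH⟩ := Cfsg.Agent.Lib.helper26.exists_index_eq_prime_of_hom (p := 2) S.isPGroup'
    (MonoidHom.transfer (MonoidHom.id (S : Subgroup G))) t hV1
  exact hG H hH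

end Cfsg.Agent.S1244
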