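import Cfsg.Statements.S1247
import Cfsg.Agent.Lib.helper52.BenderS

set_option autoImplicit false
open Cfsg

namespace Cfsg.Agent.S1247

/-- Let G be a non-abelian finite simple group, A a maximal subgroup, F = F*(A) its generalized Fitting subgroup (viewed in G), and S ≤ F a subgroup subnormal in F with C_F(S) ≤ S. Let B be any subgroup of G containing S. Then (a) for every prime q not dividing |F(A)|, O_q(B) ∩ A = 1; and (b) for every prime p dividing |F(A)|, O_p(B) commutes elementwise with the subgroup of F generated by its elements of order prime to p. -/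
theorem result {G : Type*} [Group G] [Finite G] [IsSimpleGroup G] (hna : ¬ IsMulCommutative G) (A : Subgroup G) (hA : IsCoatom A) (S : Subgroup G) (hSF : S ≤ (Cfsg.generalizedFittingSubgroup ↥A).map A.subtype) (hSsn : (S.subgroupOf ((Cfsg.generalizedFittingSubgroup ↥A).map A.subtype)).IsSubnormal) (hSC : (Cfsg.generalizedFittingSubgroup ↥A).map A.subtype ⊓ Subgroup.centralizer (S : Set G) ≤ S) (B : Subgroup G) (hSB : S ≤ B) : (∀ q : ℕ, q.Prime → ¬ q ∣ Nat.card (Cfsg.fittingSubgroup ↥A) → (Cfsg.pCore q ↥B).map B.subtype ⊓ A = ⊥) ∧ (∀ p : ℕ, p.Prime → p ∣ Nat.card (Cfsg.fittingSubgroup ↥A) → ∀ x ∈ (Cfsg.pCore p ↥B).map B.subtype, ∀ y ∈ (Cfsg.pResidual p ↥(Cfsg.generalizedFittingSubgroup ↥A)).map ((Cfsg.generalizedFittingSubgroup ↥A).subtype) , x * (A.subtype y) = (A.subtype y) * x) := by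
  have hBn : ∀ r : ℕ, B ≤ Subgroup.normalizer
      (((Cfsg.pCore r ↥B).map B.subtype : Subgroup G) : Set G) := fun r =>
    Cfsg.Agent.Lib.helper52.le_normalizer_map_subtype B _
      (hD := Cfsg.Agent.Lib.helper53.pCore_normal r ↥B)
  have hSA : S ≤ A := hSF.trans (Subgroup.map_subtype_le _)
  constructor
  · intro q hq hqF
    have : Fact q.Prime := ⟨hq⟩
    exact (Cfsg.Agent.Lib.helper52.bender_transfer hSF hSsn hSC (q := q)
      (((Cfsg.Agent.Lib.helper52.pCore_isPGroup q ↥B).map B.subtype).to_le inf_le_left)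
      inf_le_right
      (Cfsg.Agent.Lib.helper52.le_normalizer_inf (hSB.trans (hBn q))
        (hSA.trans Subgroup.le_normalizer))).2 hqF
  · intro p hp hpF x hx y hy
    have : Fact p.Prime := ⟨hp⟩
    obtain ⟨y', hy', rfl⟩ := Subgroup.mem_map.mp hy
    have key := Cfsg.Agent.Lib.helper52.bender_commute hA hSF hSsn hSC hpF
      ((Cfsg.Agent.Lib.helper52.pCore_isPGroup p ↥B).map B.subtype) (hSB.trans (hBn p))
    have hle : Cfsg.pResidual p ↥(Cfsg.generalizedFittingSubgroup ↥A) ≤
        (Subgroup.centralizer (((Cfsg.pCore p ↥B).map B.subtype : Subgroup G) : Set G)).comap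
          (A.subtype.comp (Cfsg.generalizedFittingSubgroup ↥A).subtype) := by
      unfold Cfsg.pResidual
      rw [Subgroup.closure_le]
      intro g hg
      show ((g : ↥A) : G) ∈ Subgroup.centralizer _
      rw [Subgroup.mem_centralizer_iff]
      intro x hx
      exact key (g : ↥A) g.2 (by rw [Subgroup.orderOf_coe]; exact hg) x hx
    exact Subgroup.mem_centralizer_iff.mp (Subgroup.mem_comap.mp (hle hy')) x hx

end Cfsg.Agent.S1247
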