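import Mathlib
import Cfsg.Statements.S1248
import Cfsg.Agent.Lib.helper58.SU3Sylow
-- import your own Cfsg.Agent.* helpers here

set_option autoImplicit false
open Cfsg

namespace Cfsg.Agent.S1248

open Cfsg.Agent.Lib.helper58 in
/-- Let F be a field with 16 elements and S a Sylow 2-subgroup of PSU(3) over F (the unitary group U₃(4)). Then |S| = 64; the centre Z(S) is a Klein four-group and coincides with the subgroup generated by the involutions of S and with the derived subgroup; and every element of S ⧸ Z(S) squares to the identity, S ⧸ Z(S) having order 16. -/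
theorem result {F : Type*} [Field F] [Fintype F] (hF : Fintype.card F = 16) (S : Sylow 2 (Cfsg.PSU 3 F 4)) : Nat.card S = 64 ∧ IsKleinFour (Subgroup.center (S : Subgroup (Cfsg.PSU 3 F 4))) ∧ Subgroup.center (S : Subgroup (Cfsg.PSU 3 F 4)) = Subgroup.closure {x : (S : Subgroup (Cfsg.PSU 3 F 4)) | orderOf x = 2} ∧ Subgroup.center (S : Subgroup (Cfsg.PSU 3 F 4)) = commutator (S : Subgroup (Cfsg.PSU 3 F 4)) ∧ Nat.card ((S : Subgroup (Cfsg.PSU 3 F 4)) ⧸ Subgroup.center (S : Subgroup (Cfsg.PSU 3 F 4))) = 16 ∧ ∀ x : (S : Subgroup (Cfsg.PSU 3 F 4)) ⧸ Subgroup.center (S : Subgroup (Cfsg.PSU 3 F 4)), x ^ 2 = 1 := by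
  have hF' : Fintype.card F = 4 ^ 2 := by rw [hF]; norm_num
  have h2 : (2 : F) = 0 := two_eq_zero_of_even hF' (by decide)
  obtain ⟨c⟩ := exists_ucoord_of_sylow_PSU hF' h2 S
  have hcard : Nat.card (Subgroup.center (S : Subgroup (Cfsg.PSU 3 F 4))) = 4 := c.card_center hF' h2
  refine ⟨?_, ?_, c.center_eq_closure hF' h2, c.center_eq_commutator hF' h2, ?_,
    c.quotient_sq_eq_one hF' h2⟩
  · have := c.card_eq hF' h2
    rw [this]; norm_num
  · refine ⟨hcard, ?_⟩
    have hdvd : Monoid.exponent (Subgroup.center (S : Subgroup (Cfsg.PSU 3 F 4))) ∣ 2 := by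
      apply Monoid.exponent_dvd_of_forall_pow_eq_one
      intro z
      have := c.center_sq_eq_one hF' h2 z.1 z.2
      exact Subtype.ext (by simpa using this)
    rcases (Nat.dvd_prime Nat.prime_two).mp hdvd with h1 | h1
    · exfalso
      have hsub : Subsingleton (Subgroup.center (S : Subgroup (Cfsg.PSU 3 F 4))) :=
        Monoid.exp_eq_one_iff.mp h1
      have : Nat.card (Subgroup.center (S : Subgroup (Cfsg.PSU 3 F 4))) = 1 := Nat.card_unique
      omega
    · exact h1
  · have := c.card_quotient_center hF' h2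
    rw [this]; norm_num

end Cfsg.Agent.S1248
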