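import Cfsg.Statements.S1249

set_option autoImplicit false
open Cfsg

namespace Cfsg.Agent.S1249

/-- Let P and Q be Sylow p-subgroups of the finite group G both containing the subgroup A. If A is strongly closed in P, then A is strongly closed in Q. -/
theorem result {G : Type*} [Group G] [Finite G] {p : ℕ} [Fact p.Prime] (P Q : Sylow p G) (A : Subgroup G) (hAQ : A ≤ Q) (hA : Cfsg.IsStronglyClosed A (P : Subgroup G)) : Cfsg.IsStronglyClosed A (Q : Subgroup G) := by
  obtain ⟨hAP, hcl⟩ := hA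
  obtain ⟨g, hg⟩ := MulAction.exists_smul_eq G P Q
  -- membership in Q means conjugate lies in P
  have hQ : ∀ x : G, x ∈ (Q : Subgroup G) ↔ g⁻¹ * x * g ∈ (P : Subgroup G) := by
    intro x
    rw [← hg, Sylow.coe_subgroup_smul, Subgroup.mem_pointwise_smul_iff_inv_smul_mem]
    simp [MulAut.smul_def]
  -- conjugation by g⁻¹ maps A into A
  have h1 : ∀ a ∈ A, g⁻¹ * a * g ∈ A := by
    intro a ha
    have := hcl a ha g⁻¹
    simp only [inv_inv] at this
    exact this ((hQ a).1 (hAQ ha))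
  -- hence conjugation by g maps A into A (finiteness)
  have h2 : ∀ a ∈ A, g * a * g⁻¹ ∈ A := by
    let f : A → A := fun a => ⟨g⁻¹ * a.1 * g, h1 a.1 a.2⟩
    have hf : Function.Injective f := by
      intro a b hab
      have : g⁻¹ * a.1 * g = g⁻¹ * b.1 * g := congrArg Subtype.val hab
      apply Subtype.ext
      simpa using this
    have hs : Function.Surjective f := Finite.surjective_of_injective hf
    intro a ha
    obtain ⟨b, hb⟩ := hs ⟨a, ha⟩
    have hb' : g⁻¹ * b.1 * g = a := congrArg Subtype.val hb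
    have : g * a * g⁻¹ = b.1 := by
      rw [← hb']; group
    rw [this]; exact b.2
  refine ⟨hAQ, ?_⟩
  intro x hx h hh
  have h3 : g⁻¹ * (h * x * h⁻¹) * g ∈ (P : Subgroup G) := (hQ _).1 hh
  have h4 : (g⁻¹ * h) * x * (g⁻¹ * h)⁻¹ ∈ A := by
    apply hcl x hx
    have : (g⁻¹ * h) * x * (g⁻¹ * h)⁻¹ = g⁻¹ * (h * x * h⁻¹) * g := by group
    rw [this]; exact h3
  have h5 := h2 _ h4
  have : g * ((g⁻¹ * h) * x * (g⁻¹ * h)⁻¹) * g⁻¹ = h * x * h⁻¹ := by group
  rw [this] at h5
  exact h5

end Cfsg.Agent.S1249
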