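import Cfsg.Statements.S1250
import Cfsg.Agent.Lib.helper26.Basic

set_option autoImplicit false
open Cfsg

namespace Cfsg.Agent.S1250

open Cfsg.Agent.Lib.helper26

/-- Let S be a Sylow p-subgroup of the finite group G, A ≤ S strongly closed in S, and N a normal subgroup. Then the image of A in G ⧸ N is strongly closed in the image of S (which is a Sylow p-subgroup of G ⧸ N). -/
theorem result {G : Type*} [Group G] [Finite G] {p : ℕ} [Fact p.Prime] (S : Sylow p G) (A : Subgroup G) (hA : Cfsg.IsStronglyClosed A (S : Subgroup G)) (N : Subgroup G) [N.Normal] : Cfsg.IsStronglyClosed (A.map (QuotientGroup.mk' N)) ((S : Subgroup G).map (QuotientGroup.mk' N)) := by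
  obtain ⟨hAS, hcl⟩ := hA
  refine ⟨Subgroup.map_mono hAS, ?_⟩
  rintro xb ⟨x, hx, rfl⟩ gb hgb
  obtain ⟨g, rfl⟩ := QuotientGroup.mk'_surjective N gb
  obtain ⟨s, hs, hs'⟩ := hgb
  -- y = g x g⁻¹ lies in S ⊔ N
  set y := g * x * g⁻¹ with hy
  have hsy : s⁻¹ * y ∈ N := by
    have : (QuotientGroup.mk' N) s = (QuotientGroup.mk' N) y := by
      rw [hs']; simp [hy]
    exact (QuotientGroup.eq).1 this
  have hyM : y ∈ (S : Subgroup G) ⊔ N := by
    have : y = s * (s⁻¹ * y) := by group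
    rw [this]
    exact Subgroup.mul_mem _ (Subgroup.mem_sup_left hs) (Subgroup.mem_sup_right hsy)
  have hyp : ∃ k : ℕ, y ^ p ^ k = 1 := conj_pow_eq_one g (pow_eq_one_of_mem_sylow S (hAS hx))
  obtain ⟨m, hmM, hm⟩ := exists_conj_mem_sylow_of_le S ((S : Subgroup G) ⊔ N) le_sup_left y hyM hyp
  -- write m = s' * n'
  obtain ⟨s', hs'S, n', hn'N, rfl⟩ := Subgroup.mem_sup_of_normal_right.1 hmM
  have h1 : n' * y * n'⁻¹ ∈ (S : Subgroup G) := by
    have : n' * y * n'⁻¹ = s'⁻¹ * (s' * n' * y * (s' * n')⁻¹) * s' := by group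
    rw [this]
    exact Subgroup.mul_mem _ (Subgroup.mul_mem _ (Subgroup.inv_mem _ hs'S) hm) hs'S
  have h2 : (n' * g) * x * (n' * g)⁻¹ ∈ A := by
    apply hcl x hx
    have : (n' * g) * x * (n' * g)⁻¹ = n' * y * n'⁻¹ := by rw [hy]; group
    rw [this]; exact h1
  refine ⟨(n' * g) * x * (n' * g)⁻¹, h2, ?_⟩
  have hn1 : (QuotientGroup.mk' N) n' = 1 := by
    rw [QuotientGroup.mk'_apply, QuotientGroup.eq_one_iff]; exact hn'N
  rw [map_mul, map_mul, map_inv, map_mul, hn1, one_mul]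

end Cfsg.Agent.S1250
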