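import Cfsg.Statements.S1254
import Cfsg.Agent.Lib.helper26.DihedralSylow
import Cfsg.Agent.Lib.helper67.Frobenius

set_option autoImplicit false
open Cfsg

namespace Cfsg.Agent.S1254

/-- Let X be a finite group whose Sylow 2-subgroup S is dihedral (of order at least 4). Then X has a normal 2-complement if and only if, for every Klein four-subgroup U ≤ S, the normalizer N_X(U) is generated by C_X(U) and N_S(U). -/
theorem result {X : Type*} [Group X] [Finite X] (S : Sylow 2 X) (m : ℕ) (hm : 2 ≤ m) (eS : (S : Subgroup X) ≃* DihedralGroup m) : Cfsg.HasNormalPComplement 2 X ↔ ∀ U : Subgroup X, U ≤ S → IsKleinFour U → Subgroup.normalizer (U : Set X) = Subgroup.centralizer (U : Set X) ⊔ ((S : Subgroup X) ⊓ Subgroup.normalizer (U : Set X)) := by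
  classical
  have : Fact (Nat.Prime 2) := ⟨Nat.prime_two⟩
  constructor
  · rintro ⟨P, N, hN, hNP⟩
    have hF := Cfsg.Agent.Lib.helper67.frobCond_of_normal_complement N P hNP
    obtain ⟨K, hKn, hKS⟩ := hF.exists_normal_complement S
    intro U hUS _
    exact Cfsg.Agent.Lib.helper26.normalizer_eq_centralizer_sup_of_complement K S hKS U hUS
  · intro hU
    obtain ⟨C, hC⟩ := Cfsg.Agent.Lib.helper26.exists_dihedralLike (S : Subgroup X) m eS
    apply Cfsg.Agent.Lib.helper67.FrobCond.hasNormalPComplement
    apply Cfsg.Agent.Lib.helper67.frobCond_of_sylow S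
    intro Q hQS g hg hcop
    exact hC.mem_centralizer S.isPGroup' hU Q hQS g hg hcop

end Cfsg.Agent.S1254
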