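import Cfsg.Statements.S1255
import Cfsg.Agent.Lib.helper26.DihFusion
import Cfsg.Agent.Lib.helper25.Isolated
-- import your own Cfsg.Agent.* helpers here

set_option autoImplicit false
open Cfsg

namespace Cfsg.Agent.S1255

open Cfsg.Agent.Lib.helper26

/-- Let X be a finite group whose Sylow 2-subgroup S is dihedral of order 2m ≥ 4. Then X has no subgroup of index 2 and no isolated involution if and only if either all involutions of X are conjugate, or for every Klein four-subgroup U ≤ S the index |N_X(U) : C_X(U)| equals 3 when |S| = 4 and equals 6 when |S| > 4. -/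
theorem result {X : Type*} [Group X] [Finite X] (S : Sylow 2 X) (m : ℕ) (hm : 2 ≤ m) (eS : (S : Subgroup X) ≃* DihedralGroup m) : ((∀ H : Subgroup X, H.index ≠ 2) ∧ (∀ z : X, ¬ Cfsg.IsIsolatedInvolution z)) ↔ ((∀ a b : X, orderOf a = 2 → orderOf b = 2 → IsConj a b) ∨ (∀ U : Subgroup X, U ≤ S → IsKleinFour U → (Subgroup.centralizer (U : Set X)).relIndex (Subgroup.normalizer (U : Set X)) = (if Nat.card S = 4 then 3 else 6))) := by
  classical
  have : Fact (Nat.Prime 2) := ⟨Nat.prime_two⟩
  have hme := dih_m_even S.isPGroup' hm eS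
  obtain ⟨hh2, hh0, hhu⟩ := zmod_half hm hme
  set hh : ZMod m := ((m / 2 : ℕ) : ZMod m) with hhdef
  -- generic facts about elements of `S`
  have hsr : ∀ (x : (S : Subgroup X)) (i : ZMod m), eS x = DihedralGroup.sr i →
      (x : X) * x = 1 ∧ (x : X) ≠ 1 := by
    intro x i hx
    constructor
    · have h1 : x * x = 1 := by
        apply eS.injective
        rw [map_mul, hx, DihedralGroup.sr_mul_self, map_one]
      exact congrArg Subtype.val h1
    · intro h1
      have h2 : x = 1 := Subtype.ext h1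
      rw [h2, map_one, DihedralGroup.one_def] at hx
      cases hx
  set z₀ : (S : Subgroup X) := eS.symm (DihedralGroup.r hh) with hz₀
  have hez₀ : eS z₀ = DihedralGroup.r hh := MulEquiv.apply_symm_apply eS _
  have hz₀sq : (z₀ : X) * z₀ = 1 := by
    have h1 : z₀ * z₀ = 1 := by
      apply eS.injective
      rw [map_mul, hez₀, DihedralGroup.r_mul_r, hh2, DihedralGroup.r_zero, map_one]
    exact congrArg Subtype.val h1
  have hz₀1 : (z₀ : X) ≠ 1 := by
    intro h1
    have h2 : z₀ = 1 := Subtype.ext h1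
    rw [h2, map_one, DihedralGroup.one_def] at hez₀
    exact hh0 (DihedralGroup.r.inj hez₀).symm
  have hz₀o : orderOf (z₀ : X) = 2 := orderOf_two_of_mul_self hz₀sq hz₀1
  have F2 : ∀ (x : (S : Subgroup X)) (i : ZMod m), eS x = DihedralGroup.r i → (x : X) * x = 1 →
      (x : X) ≠ 1 → x = z₀ := by
    intro x i hx hxx hx1
    have h1 : i + i = 0 := by
      have h2 : x * x = 1 := Subtype.ext hxx
      have h3 := congrArg eS h2
      rw [map_mul, hx, DihedralGroup.r_mul_r, map_one, DihedralGroup.one_def] at h3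
      exact DihedralGroup.r.inj h3
    have h4 : i ≠ 0 := by
      rintro rfl
      apply hx1
      have h5 : x = 1 := by
        apply eS.injective
        rw [hx, map_one, DihedralGroup.one_def]
      rw [h5]
      rfl
    have h5 := hhu i h1 h4
    apply eS.injective
    rw [hx, hez₀, h5]
  -- the rotation subgroup
  set M : Subgroup (S : Subgroup X) := (rotSub m).comap eS.toMonoidHom with hMdef
  have hMmem : ∀ x : (S : Subgroup X), x ∈ M ↔ ∃ i, eS x = DihedralGroup.r i := fun x => Iff.rfl
  have hMidx : M.index = 2 := by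
    rw [hMdef, Subgroup.index_comap_of_surjective _ eS.surjective]
    exact index_rotSub m
  -- reduction: conjugate an involution into `S`
  have toz : ∀ (a : X), orderOf a = 2 →
      (∀ (t : (S : Subgroup X)) (i : ZMod m), eS t = DihedralGroup.sr i →
        ∃ n : X, n * (t : X) * n⁻¹ = z₀) → ∃ g : X, g * a * g⁻¹ = z₀ := by
    intro a ha hsrc
    obtain ⟨g, hg⟩ := exists_conj_mem_sylow S a
      ⟨1, by rw [pow_one, ← ha]; exact pow_orderOf_eq_one a⟩
    have ha' : (g * a * g⁻¹) * (g * a * g⁻¹) = 1 := by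
      have h1 := mul_self_of_orderOf_two ha
      calc (g * a * g⁻¹) * (g * a * g⁻¹) = g * (a * a) * g⁻¹ := by group
        _ = 1 := by rw [h1]; group
    have ha1 : g * a * g⁻¹ ≠ 1 := by
      intro h
      apply ne_one_of_orderOf_two ha
      have e : a = g⁻¹ * (g * a * g⁻¹) * g := by group
      rw [e, h]
      group
    rcases hcase : eS ⟨g * a * g⁻¹, hg⟩ with i | i
    · exact ⟨g, congrArg Subtype.val (F2 ⟨_, hg⟩ i hcase ha' ha1)⟩
    · obtain ⟨n, hn⟩ := hsrc ⟨_, hg⟩ i hcase
      refine ⟨n * g, ?_⟩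
      rw [← hn]
      show n * g * a * (n * g)⁻¹ = n * (g * a * g⁻¹) * n⁻¹
      group
  -- no subgroup of index two: Thompson transfer
  have h1dir : (∀ H : Subgroup X, H.index ≠ 2) →
      ∀ a : X, orderOf a = 2 → ∃ g : X, g * a * g⁻¹ = z₀ := by
    intro hidx a ha
    apply toz a ha
    intro t i ht
    obtain ⟨htt, ht1⟩ := hsr t i ht
    obtain ⟨g₁, h1, h2⟩ := thompson_transfer S M hMidx hidx (t : X) t.2 htt
    obtain ⟨j, hj⟩ := (hMmem _).1 h2
    have hsq : (g₁⁻¹ * (t : X) * g₁) * (g₁⁻¹ * (t : X) * g₁) = 1 := by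
      calc (g₁⁻¹ * (t : X) * g₁) * (g₁⁻¹ * (t : X) * g₁) = g₁⁻¹ * ((t : X) * t) * g₁ := by group
        _ = 1 := by rw [htt]; group
    have hne : g₁⁻¹ * (t : X) * g₁ ≠ 1 := by
      intro h
      apply ht1
      have e : (t : X) = g₁ * (g₁⁻¹ * (t : X) * g₁) * g₁⁻¹ := by group
      rw [e, h]
      group
    have h3 := F2 ⟨_, h1⟩ j hj hsq hne
    refine ⟨g₁⁻¹, ?_⟩
    rw [inv_inv]
    exact congrArg Subtype.val h3
  -- index condition: transitivity on four-groups
  have h2dir : (∀ U : Subgroup X, U ≤ S → IsKleinFour U →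
      (Subgroup.centralizer (U : Set X)).relIndex (Subgroup.normalizer (U : Set X)) =
        (if Nat.card S = 4 then 3 else 6)) →
      ∀ a : X, orderOf a = 2 → ∃ g : X, g * a * g⁻¹ = z₀ := by
    intro hU a ha
    apply toz a ha
    intro t i ht
    obtain ⟨htt, ht1⟩ := hsr t i ht
    have hcomm : (z₀ : X) * t = t * z₀ := by
      have h1 : z₀ * t = t * z₀ := by
        apply eS.injective
        rw [map_mul, map_mul, hez₀, ht, DihedralGroup.r_mul_sr, DihedralGroup.sr_mul_r]
        congr 1
        linear_combination -hh2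
      exact congrArg Subtype.val h1
    have hne : (z₀ : X) ≠ t := by
      intro h
      have h1 : z₀ = t := Subtype.ext h
      rw [h1, ht] at hez₀
      cases hez₀
    have hK := isKleinFour_fourSub hz₀sq htt hcomm hz₀1 ht1 hne
    have hUS : fourSub (z₀ : X) t hz₀sq htt hcomm ≤ S := by
      intro x hx
      rcases hx with rfl | rfl | rfl | rfl
      · exact one_mem _
      · exact z₀.2
      · exact t.2
      · exact mul_mem z₀.2 t.2
    have hidx := hU _ hUS hK
    have hne1 : (Subgroup.centralizer ((fourSub (z₀ : X) t hz₀sq htt hcomm : Subgroup X) : Set X)).relIndex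
        (Subgroup.normalizer ((fourSub (z₀ : X) t hz₀sq htt hcomm : Subgroup X) : Set X)) ≠ 1 := by
      rw [hidx]
      split_ifs <;> omega
    have hne2 : (Subgroup.centralizer ((fourSub (z₀ : X) t hz₀sq htt hcomm : Subgroup X) : Set X)).relIndex
        (Subgroup.normalizer ((fourSub (z₀ : X) t hz₀sq htt hcomm : Subgroup X) : Set X)) ≠ 2 := by
      rw [hidx]
      split_ifs <;> omega
    obtain ⟨n, -, hn⟩ := four_transitive _ (z₀ : X) t (mem_fourSub hz₀sq htt hcomm) hz₀sq htt hcomm
      hz₀1 ht1 hne hne1 hne2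
    exact ⟨n, hn⟩
  have conj_of : (∀ a : X, orderOf a = 2 → ∃ g : X, g * a * g⁻¹ = z₀) →
      ∀ a b : X, orderOf a = 2 → orderOf b = 2 → IsConj a b := by
    intro h a b ha hb
    obtain ⟨g, hg⟩ := h a ha
    obtain ⟨g', hg'⟩ := h b hb
    rw [isConj_iff]
    refine ⟨g'⁻¹ * g, ?_⟩
    have e : g'⁻¹ * g * a * (g'⁻¹ * g)⁻¹ = g'⁻¹ * (g * a * g⁻¹) * g' := by group
    rw [e, hg, ← hg']
    group
  have fromconj : (∀ a b : X, orderOf a = 2 → orderOf b = 2 → IsConj a b) →
      (∀ H : Subgroup X, H.index ≠ 2) ∧ (∀ z : X, ¬ Cfsg.IsIsolatedInvolution z) := by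
    intro hc
    set y₀ : (S : Subgroup X) := eS.symm (DihedralGroup.sr 0) with hy₀
    set y₁ : (S : Subgroup X) := eS.symm (DihedralGroup.sr hh) with hy₁
    have hey₀ : eS y₀ = DihedralGroup.sr 0 := MulEquiv.apply_symm_apply eS _
    have hey₁ : eS y₁ = DihedralGroup.sr hh := MulEquiv.apply_symm_apply eS _
    obtain ⟨hy₀sq, hy₀1⟩ := hsr y₀ 0 hey₀
    obtain ⟨hy₁sq, hy₁1⟩ := hsr y₁ hh hey₁
    have hy₀o : orderOf (y₀ : X) = 2 := orderOf_two_of_mul_self hy₀sq hy₀1
    have hy₁o : orderOf (y₁ : X) = 2 := orderOf_two_of_mul_self hy₁sq hy₁1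
    have hprod : (y₀ : X) * y₁ = z₀ := by
      have h1 : y₀ * y₁ = z₀ := by
        apply eS.injective
        rw [map_mul, hey₀, hey₁, hez₀, DihedralGroup.sr_mul_sr, sub_zero]
      exact congrArg Subtype.val h1
    constructor
    · intro K hK
      have hKn : K.Normal := Subgroup.normal_of_index_eq_two hK
      have hz₀K : (z₀ : X) ∈ K := by
        rw [← hprod, Subgroup.mul_mem_iff_of_index_two hK]
        obtain ⟨c, hc'⟩ := isConj_iff.1 (hc _ _ hy₀o hy₁o)
        constructor
        · intro h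
          rw [← hc']
          exact hKn.conj_mem _ h c
        · intro h
          have e : (y₀ : X) = c⁻¹ * (c * y₀ * c⁻¹) * c⁻¹⁻¹ := by group
          rw [e, hc']
          exact hKn.conj_mem _ h c⁻¹
      have hinv : ∀ a : X, orderOf a = 2 → a ∈ K := by
        intro a ha
        obtain ⟨c, hc'⟩ := isConj_iff.1 (hc _ _ hz₀o ha)
        rw [← hc']
        exact hKn.conj_mem _ hz₀K c
      have hSK : (S : Subgroup X) ≤ K := by
        intro x hx
        rcases hcase : eS ⟨x, hx⟩ with i | i
        · have h1 : eS (⟨x, hx⟩ * y₀) = DihedralGroup.sr (0 - i) := by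
            rw [map_mul, hcase, hey₀, DihedralGroup.r_mul_sr]
          obtain ⟨h2, h3⟩ := hsr _ _ h1
          have h4 : x * (y₀ : X) ∈ K := hinv _ (orderOf_two_of_mul_self h2 h3)
          have e : x = (x * (y₀ : X)) * y₀ := by rw [mul_assoc, hy₀sq, mul_one]
          rw [e]
          exact mul_mem h4 (hinv _ hy₀o)
        · obtain ⟨h2, h3⟩ := hsr _ _ hcase
          exact hinv _ (orderOf_two_of_mul_self h2 h3)
      have h5 := Subgroup.index_dvd_of_le hSK
      rw [hK] at h5
      exact S.not_dvd_index h5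
    · intro w hw
      obtain ⟨c, hc'⟩ := isConj_iff.1 (hc _ _ hw.1 hz₀o)
      have hz₀iso : Cfsg.IsIsolatedInvolution (z₀ : X) := by
        rw [← hc']
        exact Cfsg.Agent.Lib.helper25.isolated_conj hw c
      obtain ⟨d, hd⟩ := isConj_iff.1 (hc _ _ hz₀o hy₀o)
      have hcomm : (z₀ : X) * y₀ = y₀ * z₀ := by
        have h1 : z₀ * y₀ = y₀ * z₀ := by
          apply eS.injective
          rw [map_mul, map_mul, hez₀, hey₀, DihedralGroup.r_mul_sr, DihedralGroup.sr_mul_r]
          congr 1
          linear_combination -hh2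
        exact congrArg Subtype.val h1
      have h6 := hz₀iso.2 d (by rw [hd]; exact hcomm)
      rw [hd] at h6
      have h7 : y₀ = z₀ := Subtype.ext h6
      rw [h7, hez₀] at hey₀
      cases hey₀
  constructor
  · rintro ⟨hidx, -⟩
    left
    exact conj_of (h1dir hidx)
  · rintro (hc | hU)
    · exact fromconj hc
    · exact fromconj (conj_of (h2dir hU))

end Cfsg.Agent.S1255
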