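import Cfsg.Statements.S1258
import Cfsg.Agent.Lib.helper27.Basic

set_option autoImplicit false
open Cfsg

namespace Cfsg.Agent.S1258

open scoped commutatorElement

theorem commutatorElement_mul_center_left {X : Type*} [Group X] (a b z : X)
    (hz : z ∈ Subgroup.center X) : ⁅a * z, b⁆ = ⁅a, b⁆ := by
  rw [Subgroup.mem_center_iff] at hz
  have h1 : z * b = b * z := (hz b).symm
  rw [commutatorElement_def, commutatorElement_def]
  calc a * z * b * (a * z)⁻¹ * b⁻¹ = a * (z * b) * z⁻¹ * a⁻¹ * b⁻¹ := by group
    _ = a * (b * z) * z⁻¹ * a⁻¹ * b⁻¹ := by rw [h1]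
    _ = a * b * a⁻¹ * b⁻¹ := by group

theorem commutatorElement_mul_center_right {X : Type*} [Group X] (a b z : X)
    (hz : z ∈ Subgroup.center X) : ⁅a, b * z⁆ = ⁅a, b⁆ := by
  rw [Subgroup.mem_center_iff] at hz
  have h1 : a * z = z * a := hz a
  rw [commutatorElement_def, commutatorElement_def]
  calc a * (b * z) * a⁻¹ * (b * z)⁻¹ = a * b * z * a⁻¹ * z⁻¹ * b⁻¹ := by group
    _ = a * b * (z * a⁻¹) * z⁻¹ * b⁻¹ := by group
    _ = a * b * (a⁻¹ * z) * z⁻¹ * b⁻¹ := by
        have : z * a⁻¹ = a⁻¹ * z := (hz a⁻¹).symm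
        rw [this]
    _ = a * b * a⁻¹ * b⁻¹ := by group

/-- If the central quotient of a finite group X is non-abelian simple, then X = X' Z(X) and the commutator subgroup X' is quasisimple. -/
theorem result {X : Type*} [Group X] [Finite X] (hs : IsSimpleGroup (X ⧸ Subgroup.center X)) (hna : ¬ IsMulCommutative (X ⧸ Subgroup.center X)) : commutator X ⊔ Subgroup.center X = ⊤ ∧ Cfsg.IsQuasisimple ↥(commutator X) := by
  have hsup : commutator X ⊔ Subgroup.center X = ⊤ := by
    have hn : ((commutator X).map (QuotientGroup.mk' (Subgroup.center X))).Normal :=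
      Subgroup.Normal.map inferInstance _ (QuotientGroup.mk'_surjective _)
    rcases hn.eq_bot_or_eq_top with h | h
    · exfalso
      apply hna
      rw [Subgroup.map_eq_bot_iff, QuotientGroup.ker_mk'] at h
      exact Subgroup.Normal.quotient_commutative_iff_commutator_le.mpr h
    · have := congrArg (Subgroup.comap (QuotientGroup.mk' (Subgroup.center X))) h
      rw [Subgroup.comap_map_eq, QuotientGroup.ker_mk', Subgroup.comap_top] at this
      exact this
  refine ⟨hsup, ?_, ?_⟩
  · -- perfect
    rw [Subgroup.isPerfect_iff]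
    apply le_antisymm (Subgroup.commutator_le_self _)
    have hD : commutator X = ⁅(⊤ : Subgroup X), ⊤⁆ := rfl
    conv_lhs => rw [hD]
    rw [Subgroup.commutator_le]
    intro g₁ _ g₂ _
    have h1 : g₁ ∈ commutator X ⊔ Subgroup.center X := by rw [hsup]; trivial
    have h2 : g₂ ∈ commutator X ⊔ Subgroup.center X := by rw [hsup]; trivial
    rw [Subgroup.mem_sup_of_normal_right] at h1 h2
    obtain ⟨d₁, hd₁, z₁, hz₁, rfl⟩ := h1
    obtain ⟨d₂, hd₂, z₂, hz₂, rfl⟩ := h2
    rw [commutatorElement_mul_center_left _ _ _ hz₁, commutatorElement_mul_center_right _ _ _ hz₂]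
    exact Subgroup.commutator_mem_commutator hd₁ hd₂
  · -- simple central quotient
    let φ : ↥(commutator X) →* X ⧸ Subgroup.center X :=
      (QuotientGroup.mk' (Subgroup.center X)).comp (commutator X).subtype
    have hφ : Function.Surjective φ := by
      intro y
      obtain ⟨x, rfl⟩ := QuotientGroup.mk'_surjective _ y
      have h1 : x ∈ commutator X ⊔ Subgroup.center X := by rw [hsup]; trivial
      rw [Subgroup.mem_sup_of_normal_right] at h1
      obtain ⟨d, hd, z, hz, rfl⟩ := h1
      refine ⟨⟨d, hd⟩, ?_⟩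
      change QuotientGroup.mk' (Subgroup.center X) d = QuotientGroup.mk' (Subgroup.center X) (d * z)
      rw [QuotientGroup.mk'_eq_mk']
      exact ⟨z, hz, rfl⟩
    have hker : φ.ker = Subgroup.center ↥(commutator X) := by
      ext w
      rw [MonoidHom.mem_ker, Subgroup.mem_center_iff]
      change QuotientGroup.mk' (Subgroup.center X) (w : X) = 1 ↔ _
      rw [QuotientGroup.mk'_apply, QuotientGroup.eq_one_iff, Subgroup.mem_center_iff]
      constructor
      · intro h g
        apply Subtype.ext
        exact h g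
      · intro h g
        have h1 : g ∈ commutator X ⊔ Subgroup.center X := by rw [hsup]; trivial
        rw [Subgroup.mem_sup_of_normal_right] at h1
        obtain ⟨d, hd, z, hz, rfl⟩ := h1
        have h2 := congrArg Subtype.val (h ⟨d, hd⟩)
        simp only [Subgroup.coe_mul] at h2
        rw [Subgroup.mem_center_iff] at hz
        calc d * z * (w : X) = d * (z * w) := by group
          _ = d * (w * z) := by rw [hz]
          _ = (d * w) * z := by group
          _ = (w * d) * z := by rw [h2]
          _ = w * (d * z) := by group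
    have e1 : ↥(commutator X) ⧸ φ.ker ≃* X ⧸ Subgroup.center X :=
      QuotientGroup.quotientKerEquivOfSurjective φ hφ
    have e2 : ↥(commutator X) ⧸ Subgroup.center ↥(commutator X) ≃* ↥(commutator X) ⧸ φ.ker :=
      QuotientGroup.quotientMulEquivOfEq hker.symm
    exact (e2.trans e1).isSimpleGroup

end Cfsg.Agent.S1258
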