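import Cfsg.Statements.S1277
import Cfsg.Agent.Lib.helper40.PComponent3
-- import your own Cfsg.Agent.* helpers here

set_option autoImplicit false
open Cfsg

namespace Cfsg.Agent.S1277

open Cfsg.Agent.Lib.helper40

/-- For a finite group X with core O(X): the image of E(X) in X / O(X) is all of E(X / O(X)) if and only if every 2-component of X is a component, i.e. L_{2'}(X) ≤ E(X). -/
theorem result {X : Type*} [Group X] [Finite X] : (Cfsg.layer X).map (QuotientGroup.mk' (Cfsg.oddCore X)) = Cfsg.layer (X ⧸ Cfsg.oddCore X) ↔ Cfsg.pLayer 2 X ≤ Cfsg.layer X := by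
  have hp2 : Fact (Nat.Prime 2) := ⟨Nat.prime_two⟩
  have hOn := pPrimeCore_normal' 2 X
  constructor
  · intro h
    apply sSup_le
    intro K hK
    have hKb : K.map (QuotientGroup.mk' (Cfsg.pPrimeCore 2 X)) ≤
        (Cfsg.layer X).map (QuotientGroup.mk' (Cfsg.pPrimeCore 2 X)) := by
      rw [h]
      exact le_sSup hK.2.1
    exact IsPComponent.le_of_map_le_map hK (layer_normal' X).isSubnormal hKb
  · intro h
    apply le_antisymm (map_layer_le_layer _ (QuotientGroup.mk'_surjective _))
    have h1 := map_pLayer_eq_layer (X := X) 2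
    rw [← h1]
    exact Subgroup.map_mono h

end Cfsg.Agent.S1277
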