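import Cfsg.Statements.S1278
import Cfsg.Agent.Lib.helper40.PComponent3
-- import your own Cfsg.Agent.* helpers here

set_option autoImplicit false
open Cfsg

namespace Cfsg.Agent.S1278

open Cfsg.Agent.Lib.helper40

/-- Let K ≠ L be 2-components of the finite group X. Then ⁅K, L⁆ ≤ O(K) ⊓ O(L), and if K is quasisimple then ⁅K, L⁆ = 1. -/
theorem result {X : Type*} [Group X] [Finite X] (K L : Subgroup X) (hK : Cfsg.IsPComponent 2 K) (hL : Cfsg.IsPComponent 2 L) (hne : K ≠ L) : ⁅K, L⁆ ≤ ((Cfsg.oddCore ↥K).map K.subtype) ⊓ ((Cfsg.oddCore ↥L).map L.subtype) ∧ (Cfsg.IsQuasisimple ↥K → ⁅K, L⁆ = ⊥) := by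
  have hp2 : Fact (Nat.Prime 2) := ⟨Nat.prime_two⟩
  have hOn := pPrimeCore_normal' 2 ↥K
  have h := IsPComponent.commutator_le_inf hK hL hne
  have h1 : ⁅K, L⁆ ≤ (Cfsg.pPrimeCore 2 ↥K).map K.subtype :=
    (h.trans (inf_le_inf_right _ inf_le_left)).trans (inf_pPrimeCore_le_pPrimeCore_map_subtype 2 K)
  have h2 : ⁅K, L⁆ ≤ (Cfsg.pPrimeCore 2 ↥L).map L.subtype :=
    (h.trans (inf_le_inf_right _ inf_le_right)).trans (inf_pPrimeCore_le_pPrimeCore_map_subtype 2 L)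
  refine ⟨le_inf h1 h2, fun hq => ?_⟩
  have hcen := quasisimple_normal_le_center hq (Cfsg.pPrimeCore 2 ↥K)
    (IsPComponent.pPrimeCore_ne_top hK)
  have h3 : ⁅⁅K, L⁆, K⁆ = ⊥ := by
    rw [Subgroup.commutator_eq_bot_iff_le_centralizer]
    intro c hc
    obtain ⟨o, ho, rfl⟩ := h1 hc
    rw [Subgroup.mem_centralizer_iff]
    intro k hk
    have h5 := Subgroup.mem_center_iff.mp (hcen ho) ⟨k, hk⟩
    exact congrArg Subtype.val h5
  have h4 : ⁅⁅L, K⁆, K⁆ = ⊥ := by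
    rw [Subgroup.commutator_comm L K]; exact h3
  have h5 : ⁅⁅K, K⁆, L⁆ = ⊥ := Subgroup.commutator_commutator_eq_bot_of_rotate h3 h4
  rwa [IsPComponent.commutator_eq hK] at h5

end Cfsg.Agent.S1278
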