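import Cfsg.Statements.S1282
import Cfsg.Agent.Lib.helper37.CoprimeGen

set_option autoImplicit false
open Cfsg

namespace Cfsg.Agent.S1282

/-- Normalizer condition inside a `q`-subgroup of an ambient group. -/
theorem exists_mem_normalizer_not_mem {G : Type*} [Group G] [Finite G] (q : ℕ) [Fact q.Prime]
    (Q D : Subgroup G) (hQ : IsPGroup q ↥Q) (hDQ : D ≤ Q) (hne : D ≠ Q) :
    ¬ (Subgroup.normalizer (D : Set G) ⊓ Q ≤ D) := by
  intro hle
  have := hQ.isNilpotent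
  have hlt : D.subgroupOf Q < ⊤ :=
    lt_top_iff_ne_top.mpr (fun h' => hne (le_antisymm hDQ (Subgroup.subgroupOf_eq_top.mp h')))
  obtain ⟨x, hx, hxD⟩ := SetLike.exists_of_lt (Group.normalizerCondition_of_isNilpotent _ hlt)
  have hx1 : (x : G) ∈ Subgroup.normalizer (D : Set G) := by
    rw [Subgroup.mem_normalizer_iff]
    intro h
    constructor
    · intro hh
      have := (Subgroup.mem_normalizer_iff.mp hx ⟨h, hDQ hh⟩).mp (Subgroup.mem_subgroupOf.mpr hh)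
      simpa [Subgroup.mem_subgroupOf] using this
    · intro hh
      have hhQ : h ∈ Q := by
        have := Q.mul_mem (Q.mul_mem (Q.inv_mem x.2) (hDQ hh)) x.2
        simpa [mul_assoc] using this
      have := (Subgroup.mem_normalizer_iff.mp hx ⟨h, hhQ⟩).mpr
        (by simpa [Subgroup.mem_subgroupOf] using hh)
      simpa [Subgroup.mem_subgroupOf] using this
  exact hxD (Subgroup.mem_subgroupOf.mpr (hle ⟨hx1, x.2⟩))

/-- Hyperplane version: some subgroup `B ≤ A` of index at most `p` has fixed points in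
`N_Q(D)` outside `D`. -/
theorem exists_hyperplane {G : Type*} [Group G] [Finite G] (p : ℕ) [hp : Fact p.Prime]
    (A : Subgroup G) (hAc : ∀ a ∈ A, ∀ b ∈ A, a * b = b * a) (hAp : ∀ a ∈ A, a ^ p = 1)
    (q : ℕ) [hq : Fact q.Prime] (hqp : q ≠ p) (Q D : Subgroup G) (hQ : IsPGroup q ↥Q)
    (hAQ : A ≤ Subgroup.normalizer (Q : Set G)) (hAD : A ≤ Subgroup.normalizer (D : Set G))
    (hDQ : D ≤ Q) (hne : D ≠ Q) :
    ∃ B : Subgroup G, B ≤ A ∧ B.relIndex A ≤ p ∧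
      ¬ (Subgroup.normalizer (D : Set G) ⊓ Q ⊓ Subgroup.centralizer (B : Set G) ≤ D) := by
  by_contra hcon
  have hN : ¬ p ∣ Nat.card ↥(Subgroup.normalizer (D : Set G) ⊓ Q : Subgroup G) := by
    have hqN : IsPGroup q ↥(Subgroup.normalizer (D : Set G) ⊓ Q : Subgroup G) :=
      hQ.to_le inf_le_right
    obtain ⟨n, hn⟩ := hqN.exists_card_eq
    rw [hn]
    intro hdvd
    have := (Nat.prime_dvd_prime_iff_eq hp.out hq.out).mp (hp.out.dvd_of_dvd_pow hdvd)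
    exact hqp this.symm
  have hAN : A ≤ Subgroup.normalizer
      ((Subgroup.normalizer (D : Set G) ⊓ Q : Subgroup G) : Set G) := by
    rw [Subgroup.le_normalizer_iff]
    intro a ha x hx
    exact ⟨Subgroup.mul_mem _ (Subgroup.mul_mem _ (hAD ha) hx.1) (Subgroup.inv_mem _ (hAD ha)),
      Subgroup.le_normalizer_iff.mp hAQ a ha x hx.2⟩
  have hgen := Cfsg.Agent.Lib.helper37.coprime_gen_hyperplane p A
    (Subgroup.normalizer (D : Set G) ⊓ Q) hAc hAp hN hAN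
  apply exists_mem_normalizer_not_mem q Q D hQ hDQ hne
  rw [hgen]
  apply iSup_le
  intro B
  by_contra hB
  exact hcon ⟨B.1, B.2.1, B.2.2, hB⟩

/-- Let A be an elementary abelian p-subgroup of rank at least 3 of the finite group G, q ≠ p a prime, and Q₁, Q₂ q-subgroups normalized by A with D = Q₁ ∩ Q₂ different from both. Then there is a non-identity a ∈ A such that, for i = 1 and i = 2, N_{Q_i}(D) ∩ C_G(a) is not contained in D. -/
theorem result {G : Type*} [Group G] [Finite G] (p : ℕ) [Fact p.Prime] (A : Subgroup G) (hA : Cfsg.IsElementaryAbelian p A) (hA3 : p ^ 3 ≤ Nat.card ↥A) (q : ℕ) [Fact q.Prime] (hqp : q ≠ p) (Q₁ Q₂ : Subgroup G) (h₁ : IsPGroup q ↥Q₁) (h₂ : IsPGroup q ↥Q₂) (hA₁ : A ≤ Subgroup.normalizer (Q₁ : Set G)) (hA₂ : A ≤ Subgroup.normalizer (Q₂ : Set G)) (hD₁ : Q₁ ⊓ Q₂ ≠ Q₁) (hD₂ : Q₁ ⊓ Q₂ ≠ Q₂) : ∃ a ∈ A, a ≠ 1 ∧ ¬ (Subgroup.normalizer ((Q₁ ⊓ Q₂ : Subgroup G) : Set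 G) ⊓ Q₁ ⊓ Subgroup.centralizer {a} ≤ Q₁ ⊓ Q₂) ∧ ¬ (Subgroup.normalizer ((Q₁ ⊓ Q₂ : Subgroup G) : Set G) ⊓ Q₂ ⊓ Subgroup.centralizer {a} ≤ Q₁ ⊓ Q₂) := by
  have hp : p.Prime := Fact.out
  obtain ⟨hAcomm, hAexp⟩ := hA
  have hAc : ∀ a ∈ A, ∀ b ∈ A, a * b = b * a := by
    intro a ha b hb
    exact congrArg Subtype.val (hAcomm.is_comm.comm (⟨a, ha⟩ : ↥A) ⟨b, hb⟩)
  have hAD : A ≤ Subgroup.normalizer ((Q₁ ⊓ Q₂ : Subgroup G) : Set G) := by
    rw [Subgroup.le_normalizer_iff]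
    intro a ha x hx
    exact ⟨Subgroup.le_normalizer_iff.mp hA₁ a ha x hx.1,
      Subgroup.le_normalizer_iff.mp hA₂ a ha x hx.2⟩
  obtain ⟨B₁, hB₁A, hB₁i, hB₁⟩ := exists_hyperplane p A hAc hAexp q hqp Q₁ (Q₁ ⊓ Q₂) h₁ hA₁ hAD
    inf_le_left hD₁
  obtain ⟨B₂, hB₂A, hB₂i, hB₂⟩ := exists_hyperplane p A hAc hAexp q hqp Q₂ (Q₁ ⊓ Q₂) h₂ hA₂ hAD
    inf_le_right hD₂
  -- the two hyperplanes meet nontrivially
  have hcard : p ≤ Nat.card ↥(B₁ ⊓ B₂ : Subgroup G) := by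
    have h1 := Subgroup.relIndex_mul_relIndex (⊥ : Subgroup G) (B₁ ⊓ B₂) A bot_le
      (inf_le_left.trans hB₁A)
    rw [Subgroup.relIndex_bot_left, Subgroup.relIndex_bot_left] at h1
    have h2 : (B₁ ⊓ B₂).relIndex A ≤ p * p :=
      (Subgroup.relIndex_inf_le (H := B₁) (K := B₂) (L := A)).trans (Nat.mul_le_mul hB₁i hB₂i)
    have h3 : p * (p * p) ≤ Nat.card ↥(B₁ ⊓ B₂ : Subgroup G) * (p * p) := by
      calc p * (p * p) = p ^ 3 := by ring
        _ ≤ Nat.card ↥A := hA3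
        _ = Nat.card ↥(B₁ ⊓ B₂ : Subgroup G) * (B₁ ⊓ B₂).relIndex A := h1.symm
        _ ≤ Nat.card ↥(B₁ ⊓ B₂ : Subgroup G) * (p * p) := Nat.mul_le_mul_left _ h2
    exact Nat.le_of_mul_le_mul_right h3 (Nat.mul_pos hp.pos hp.pos)
  have h2 : 1 < Nat.card ↥(B₁ ⊓ B₂ : Subgroup G) := lt_of_lt_of_le hp.one_lt hcard
  have : Nontrivial ↥(B₁ ⊓ B₂ : Subgroup G) := Finite.one_lt_card_iff_nontrivial.mp h2
  obtain ⟨a, ha⟩ := exists_ne (1 : ↥(B₁ ⊓ B₂ : Subgroup G))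
  refine ⟨a.1, hB₁A a.2.1, fun h => ha (Subtype.ext h), ?_, ?_⟩
  · intro hle
    apply hB₁
    refine le_trans (inf_le_inf_left _ (Subgroup.centralizer_le ?_)) hle
    intro x hx
    rw [Set.mem_singleton_iff] at hx
    rw [hx]
    exact a.2.1
  · intro hle
    apply hB₂
    refine le_trans (inf_le_inf_left _ (Subgroup.centralizer_le ?_)) hle
    intro x hx
    rw [Set.mem_singleton_iff] at hx
    rw [hx]
    exact a.2.2

end Cfsg.Agent.S1282
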