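import Cfsg.Statements.S1283
import Cfsg.Agent.Lib.helper27.Transitivity2

set_option autoImplicit false
open Cfsg

namespace Cfsg.Agent.S1283

open Cfsg.Agent.Lib.helper27
open scoped Pointwise

variable {G : Type*} [Group G]

theorem map_conj_mul (Q : Subgroup G) (x y : G) :
    (Q.map (MulAut.conj y).toMonoidHom).map (MulAut.conj x).toMonoidHom
      = Q.map (MulAut.conj (x * y)).toMonoidHom := by
  rw [Subgroup.map_map]
  congr 1
  ext z
  simp [MulAut.conj_apply, mul_assoc]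

theorem map_conj_one (Q : Subgroup G) : Q.map (MulAut.conj (1 : G)).toMonoidHom = Q := by
  ext z
  simp

theorem map_conj_inv_eq (Q R : Subgroup G) (c : G) (h : Q.map (MulAut.conj c).toMonoidHom = R) :
    R.map (MulAut.conj c⁻¹).toMonoidHom = Q := by
  rw [← h, map_conj_mul, inv_mul_cancel, map_conj_one]

/-- Conjugating a maximal `q`-member by an element of `signalizerInf` gives a maximal
`q`-member. -/
theorem isMaxQ_map_conj {p : ℕ} {A : Subgroup G} {θ : G → Subgroup G} {q : ℕ}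
    (hθ : Cfsg.IsSignalizerFunctor p A θ) {Q : Subgroup G} (hQ : IsMaxQ p A θ q Q) {c : G}
    (hc : c ∈ Cfsg.signalizerInf A θ) : IsMaxQ p A θ q (Q.map (MulAut.conj c).toMonoidHom) := by
  refine ⟨signalizerFamily_map_conj hθ hQ.1 hc, hQ.2.1.map _, ?_⟩
  intro R hR hRq hle
  have hc' : c⁻¹ ∈ Cfsg.signalizerInf A θ := Subgroup.inv_mem _ hc
  have h1 := hQ.2.2 (R.map (MulAut.conj c⁻¹).toMonoidHom) (signalizerFamily_map_conj hθ hR hc')
    (hRq.map _) (by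
      have h2 := Subgroup.map_mono (f := (MulAut.conj c⁻¹).toMonoidHom) hle
      rwa [map_conj_mul, inv_mul_cancel, map_conj_one] at h2)
  rw [← h1, map_conj_mul, mul_inv_cancel, map_conj_one]

theorem smul_eq_map_conj (c : G) (T : Subgroup G) :
    MulAut.conj c • T = T.map (MulAut.conj c).toMonoidHom := rfl

/-- The transitivity theorem, by induction on `|G| - |Q₁ ∩ Q₂|`. -/
theorem transitive_aux [Finite G] (p : ℕ) [hp : Fact p.Prime] (A : Subgroup G)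
    (hA : Cfsg.IsElementaryAbelian p A) (hA3 : p ^ 3 ≤ Nat.card ↥A) (θ : G → Subgroup G)
    (hθ : Cfsg.IsSolvableSignalizerFunctor p A θ) (q : ℕ) [hq : Fact q.Prime] (hqp : q ≠ p) :
    ∀ n : ℕ, ∀ Q₁ Q₂ : Subgroup G, IsMaxQ p A θ q Q₁ → IsMaxQ p A θ q Q₂ →
      Nat.card G - Nat.card ↥(Q₁ ⊓ Q₂) = n →
      ∃ c ∈ Cfsg.signalizerInf A θ, Q₁.map (MulAut.conj c).toMonoidHom = Q₂ := by
  intro n
  induction n using Nat.strong_induction_on with
  | _ n ih =>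
    intro Q₁ Q₂ h₁ h₂ hn
    by_cases hD₁ : Q₁ ⊓ Q₂ = Q₁
    · have hle : Q₁ ≤ Q₂ := inf_eq_left.mp hD₁
      have h3 := h₁.2.2 Q₂ h₂.1 h₂.2.1 hle
      exact ⟨1, Subgroup.one_mem _, by rw [map_conj_one, h3]⟩
    by_cases hD₂ : Q₁ ⊓ Q₂ = Q₂
    · have hle : Q₂ ≤ Q₁ := inf_eq_right.mp hD₂
      have h3 := h₂.2.2 Q₁ h₁.1 h₁.2.1 hle
      exact ⟨1, Subgroup.one_mem _, by rw [map_conj_one, h3]⟩
    have hA₁ := le_normalizer_of_signalizerFamily h₁.1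
    have hA₂ := le_normalizer_of_signalizerFamily h₂.1
    obtain ⟨a, ha, ha1, hn₁, hn₂⟩ := exists_common_centralizer_not_le p A hA hA3 q hqp Q₁ Q₂
      h₁.2.1 h₂.2.1 hA₁ hA₂ hD₁ hD₂
    set D : Subgroup G := Q₁ ⊓ Q₂ with hDdef
    have hDfam : D ∈ Cfsg.signalizerFamily p A θ :=
      signalizerFamily_of_le h₁.1 inf_le_left
        (fun b hb v hv => ⟨h₁.1.2.2.1 b hb v hv.1, h₂.1.2.2.1 b hb v hv.2⟩)
    have hAD : A ≤ Subgroup.normalizer (D : Set G) := le_normalizer_of_signalizerFamily hDfam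
    set K : Subgroup G := θ a ⊓ Subgroup.normalizer (D : Set G) with hKdef
    have hKfam : K ∈ Cfsg.signalizerFamily p A θ :=
      signalizerFamily_of_le (signalizerFamily_theta hθ ha ha1) inf_le_left
        (fun b hb v hv => ⟨hθ.1.2.2.1 a ha ha1 b hb v hv.1,
          Subgroup.mul_mem _ (Subgroup.mul_mem _ (hAD hb) hv.2) (Subgroup.inv_mem _ (hAD hb))⟩)
    have hLfam : D ⊔ K ∈ Cfsg.signalizerFamily p A θ :=
      signalizerFamily_sup p A hA θ D K hDfam hKfam inf_le_right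
    set L : Subgroup G := D ⊔ K with hLdef
    have hAL := le_normalizer_of_signalizerFamily hLfam
    have hcop := coprime_card_of_isElementaryAbelian hA hLfam.2.1
    -- the subgroups `U_i = L ∩ Q_i`
    have hU₁fam : L ⊓ Q₁ ∈ Cfsg.signalizerFamily p A θ :=
      signalizerFamily_of_le hLfam inf_le_left
        (fun b hb v hv => ⟨hLfam.2.2.1 b hb v hv.1, h₁.1.2.2.1 b hb v hv.2⟩)
    have hU₂fam : L ⊓ Q₂ ∈ Cfsg.signalizerFamily p A θ :=
      signalizerFamily_of_le hLfam inf_le_left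
        (fun b hb v hv => ⟨hLfam.2.2.1 b hb v hv.1, h₂.1.2.2.1 b hb v hv.2⟩)
    have hDU₁ : D ≤ L ⊓ Q₁ := le_inf le_sup_left inf_le_left
    have hDU₂ : D ≤ L ⊓ Q₂ := le_inf le_sup_left inf_le_right
    have hX₁ : Subgroup.normalizer (D : Set G) ⊓ Q₁ ⊓ Subgroup.centralizer {a} ≤ L ⊓ Q₁ := by
      intro x hx
      obtain ⟨⟨hxN, hxQ⟩, hxC⟩ := hx
      refine ⟨?_, hxQ⟩
      apply (le_sup_right : K ≤ L)
      exact ⟨h₁.1.2.2.2 a ha ha1 ⟨hxQ, hxC⟩, hxN⟩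
    have hX₂ : Subgroup.normalizer (D : Set G) ⊓ Q₂ ⊓ Subgroup.centralizer {a} ≤ L ⊓ Q₂ := by
      intro x hx
      obtain ⟨⟨hxN, hxQ⟩, hxC⟩ := hx
      refine ⟨?_, hxQ⟩
      apply (le_sup_right : K ≤ L)
      exact ⟨h₂.1.2.2.2 a ha ha1 ⟨hxQ, hxC⟩, hxN⟩
    obtain ⟨P₁, hU₁P₁, hAP₁⟩ := Cfsg.Agent.Lib.helper1.exists_invariant_sylow_ge (p := q) A L hAL
      hcop (Or.inr hLfam.1) (L ⊓ Q₁) inf_le_left (h₁.2.1.to_le inf_le_right)
      (le_normalizer_of_signalizerFamily hU₁fam)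
    obtain ⟨P₂, hU₂P₂, hAP₂⟩ := Cfsg.Agent.Lib.helper1.exists_invariant_sylow_ge (p := q) A L hAL
      hcop (Or.inr hLfam.1) (L ⊓ Q₂) inf_le_left (h₂.2.1.to_le inf_le_right)
      (le_normalizer_of_signalizerFamily hU₂fam)
    obtain ⟨c, hc, hcP⟩ := Cfsg.Agent.Lib.helper1.invariant_sylow_conj (p := q) A L hAL hcop
      (Or.inr hLfam.1) P₁ P₂ hAP₁ hAP₂
    have hcI : c ∈ Cfsg.signalizerInf A θ := mem_signalizerInf_of_mem_family hLfam hc.1 hc.2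
    have hT₁fam : (P₁ : Subgroup ↥L).map L.subtype ∈ Cfsg.signalizerFamily p A θ :=
      signalizerFamily_of_le hLfam (Subgroup.map_subtype_le _) (Subgroup.le_normalizer_iff.mp hAP₁)
    have hT₂fam : (P₂ : Subgroup ↥L).map L.subtype ∈ Cfsg.signalizerFamily p A θ :=
      signalizerFamily_of_le hLfam (Subgroup.map_subtype_le _) (Subgroup.le_normalizer_iff.mp hAP₂)
    obtain ⟨M₁, hM₁, hT₁M₁⟩ := exists_isMaxQ_ge hT₁fam (P₁.isPGroup'.map _)
    obtain ⟨M₂, hM₂, hT₂M₂⟩ := exists_isMaxQ_ge hT₂fam (P₂.isPGroup'.map _)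
    have hmeasure : ∀ W : Subgroup G, D ≤ W → ¬ (W ≤ D) → Nat.card G - Nat.card ↥W < n := by
      intro W hDW hWD
      have h1 : Nat.card ↥D < Nat.card ↥W := by
        by_contra hcon
        exact hWD (Subgroup.eq_of_le_of_card_ge hDW (not_lt.mp hcon)).ge
      have h2 : Nat.card ↥W ≤ Nat.card G := Subgroup.card_le_card_group W
      omega
    have hM₁c := isMaxQ_map_conj hθ.1 hM₁ hcI
    have hT₂c : (P₂ : Subgroup ↥L).map L.subtype ≤ M₁.map (MulAut.conj c).toMonoidHom := by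
      rw [← hcP, smul_eq_map_conj]
      exact Subgroup.map_mono hT₁M₁
    obtain ⟨c₁, hc₁, e₁⟩ := ih _ (hmeasure (Q₁ ⊓ M₁)
      (le_inf inf_le_left ((hDU₁.trans hU₁P₁).trans hT₁M₁))
      (fun h => hn₁ ((hX₁.trans (le_inf inf_le_right (hU₁P₁.trans hT₁M₁))).trans h)))
      Q₁ M₁ h₁ hM₁ rfl
    obtain ⟨c₂, hc₂, e₂⟩ := ih _ (hmeasure (Q₂ ⊓ M₂)
      (le_inf inf_le_right ((hDU₂.trans hU₂P₂).trans hT₂M₂))
      (fun h => hn₂ ((hX₂.trans (le_inf inf_le_right (hU₂P₂.trans hT₂M₂))).trans h)))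
      Q₂ M₂ h₂ hM₂ rfl
    obtain ⟨c₃, hc₃, e₃⟩ := ih _ (hmeasure (M₁.map (MulAut.conj c).toMonoidHom ⊓ M₂)
      (le_inf ((hDU₂.trans hU₂P₂).trans hT₂c) ((hDU₂.trans hU₂P₂).trans hT₂M₂))
      (fun h => hn₂ ((hX₂.trans (le_inf (hU₂P₂.trans hT₂c) (hU₂P₂.trans hT₂M₂))).trans h)))
      _ M₂ hM₁c hM₂ rfl
    refine ⟨c₂⁻¹ * (c₃ * (c * c₁)), ?_, ?_⟩
    · exact Subgroup.mul_mem _ (Subgroup.inv_mem _ hc₂)
        (Subgroup.mul_mem _ hc₃ (Subgroup.mul_mem _ hcI hc₁))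
    · rw [← map_conj_mul, ← map_conj_mul, ← map_conj_mul, e₁, e₃, map_conj_inv_eq _ _ _ e₂]

/-- Transitivity in the form used by `Cfsg.Agent.Lib.helper27.TransitiveQ`. -/
theorem transitiveQ [Finite G] (p : ℕ) [hp : Fact p.Prime] (A : Subgroup G)
    (hA : Cfsg.IsElementaryAbelian p A) (hA3 : p ^ 3 ≤ Nat.card ↥A) (θ : G → Subgroup G)
    (hθ : Cfsg.IsSolvableSignalizerFunctor p A θ) (q : ℕ) [hq : Fact q.Prime] :
    TransitiveQ p A θ q := by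
  intro Q₁ Q₂ h₁ h₂
  by_cases hqp : q = p
  · subst hqp
    have hb : ∀ Q : Subgroup G, IsMaxQ q A θ q Q → Q = ⊥ := by
      intro Q hQ
      obtain ⟨k, hk⟩ := IsPGroup.iff_card.mp hQ.2.1
      have hk0 : k = 0 := by
        by_contra hk0
        exact hQ.1.2.1 (hk ▸ dvd_pow_self q hk0)
      rw [hk0, pow_zero] at hk
      exact Subgroup.card_eq_one.mp hk
    rw [hb Q₁ h₁, hb Q₂ h₂]
    exact ⟨1, Subgroup.one_mem _, map_conj_one _⟩
  · exact transitive_aux p A hA hA3 θ hθ q hqp _ Q₁ Q₂ h₁ h₂ rfl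

/-- Transitivity Theorem. Let θ be a solvable A-signalizer functor on the finite group G, A elementary abelian of rank at least 3, and q a prime dividing |θ a| for some non-identity a ∈ A. If Q₁ and Q₂ are q-subgroups in the family of θ, each maximal among the q-subgroups in the family, then Q₂ = c Q₁ c⁻¹ for some c in the intersection of the θ a, a ∈ A non-identity. -/
theorem result {G : Type*} [Group G] [Finite G] (p : ℕ) [Fact p.Prime] (A : Subgroup G) (hA : Cfsg.IsElementaryAbelian p A) (hA3 : p ^ 3 ≤ Nat.card ↥A) (θ : G → Subgroup G) (hθ : Cfsg.IsSolvableSignalizerFunctor p A θ) (q : ℕ) [Fact q.Prime] (hq : ∃ a ∈ A, a ≠ 1 ∧ q ∣ Nat.card ↥(θ a)) (Q₁ Q₂ : Subgroup G) (hQ₁W : Q₁ ∈ Cfsg.signalizerFamily p A θ) (hQ₁q : IsPGroup q ↥Q₁) (hQ₁max : ∀ R ∈ Cfsg.signalizerFamily p A θ, IsPGroup q ↥R → Q₁ ≤ R → R = Q₁) (hQ₂W : Q₂ ∈ Cfsg.signalizerFamily p A θ) (hQ₂q : IsPGroup q ↥Q₂)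 (hQ₂max : ∀ R ∈ Cfsg.signalizerFamily p A θ, IsPGroup q ↥R → Q₂ ≤ R → R = Q₂) : ∃ c ∈ Cfsg.signalizerInf A θ, Q₁.map (MulAut.conj c).toMonoidHom = Q₂ := by
  exact transitiveQ p A hA hA3 θ hθ q Q₁ Q₂ ⟨hQ₁W, hQ₁q, hQ₁max⟩ ⟨hQ₂W, hQ₂q, hQ₂max⟩

end Cfsg.Agent.S1283
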