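import Cfsg.Statements.S1286
import Mathlib

set_option autoImplicit false
open Cfsg

namespace Cfsg.Agent.S1286

/-- the involution `(3 4)` -/
def ea : Equiv.Perm (Fin 5) := Equiv.swap 3 4
/-- the involution `(0 1)` -/
def eb : Equiv.Perm (Fin 5) := Equiv.swap 0 1
/-- the 3-cycle `(0 1 2)` -/
def ec : Equiv.Perm (Fin 5) := Equiv.swap 0 1 * Equiv.swap 1 2
/-- the 3-cycle `(2 3 4)` -/
def ed : Equiv.Perm (Fin 5) := Equiv.swap 2 3 * Equiv.swap 3 4

/-- the four-group generated by `ea` and `eb` -/
def fourGroup : Subgroup (Equiv.Perm (Fin 5)) where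
  carrier := {x | x = 1 ∨ x = ea ∨ x = eb ∨ x = ea * eb}
  mul_mem' := by
    rintro x y (rfl | rfl | rfl | rfl) (rfl | rfl | rfl | rfl) <;> decide
  one_mem' := Or.inl rfl
  inv_mem' := by
    rintro x (rfl | rfl | rfl | rfl) <;> decide

theorem mem_fourGroup (x : Equiv.Perm (Fin 5)) :
    x ∈ fourGroup ↔ x = 1 ∨ x = ea ∨ x = eb ∨ x = ea * eb := Iff.rfl

theorem mem_zpowers_three {g : Equiv.Perm (Fin 5)} (hg : g ^ 3 = 1) (x : Equiv.Perm (Fin 5)) :
    x ∈ Subgroup.zpowers g ↔ x = 1 ∨ x = g ∨ x = g⁻¹ := by
  constructor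
  · intro hx
    obtain ⟨k, rfl⟩ := Subgroup.mem_zpowers_iff.mp hx
    have h1 : g ^ k = g ^ (k % 3) := by
      conv_lhs => rw [← Int.mul_ediv_add_emod k 3]
      rw [zpow_add, zpow_mul]
      have : g ^ (3 : ℤ) = 1 := by
        have := hg
        rw [← zpow_natCast] at this
        exact_mod_cast this
      rw [this, one_zpow, one_mul]
    have h2 := Int.emod_nonneg k (by norm_num : (3 : ℤ) ≠ 0)
    have h3 := Int.emod_lt_of_pos k (by norm_num : (0 : ℤ) < 3)
    rw [h1]
    generalize k % 3 = r at h2 h3
    interval_cases r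
    · left; simp
    · right; left; simp
    · right; right
      have : g ^ (2 : ℤ) = g ^ 2 := by norm_cast
      rw [this]
      apply eq_inv_of_mul_eq_one_left
      rw [← pow_succ]
      exact hg
  · rintro (h | h | h)
    · rw [h]; exact one_mem _
    · rw [h]; exact Subgroup.mem_zpowers g
    · rw [h]; exact inv_mem (Subgroup.mem_zpowers g)

theorem ec_pow : ec ^ 3 = 1 := by decide
theorem ed_pow : ed ^ 3 = 1 := by decide

theorem card_zpowers_ec : Nat.card (Subgroup.zpowers ec) = 3 := by
  rw [Nat.card_zpowers]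
  have : Fact (Nat.Prime 3) := ⟨by norm_num⟩
  exact orderOf_eq_prime ec_pow (by decide)

theorem card_zpowers_ed : Nat.card (Subgroup.zpowers ed) = 3 := by
  rw [Nat.card_zpowers]
  have : Fact (Nat.Prime 3) := ⟨by norm_num⟩
  exact orderOf_eq_prime ed_pow (by decide)

/-- the functor -/
def theta (x : Equiv.Perm (Fin 5)) : Subgroup (Equiv.Perm (Fin 5)) :=
  if x = ea then Subgroup.zpowers ec else if x = eb then Subgroup.zpowers ed else ⊥

theorem theta_ea : theta ea = Subgroup.zpowers ec := if_pos rfl
theorem theta_eb : theta eb = Subgroup.zpowers ed := by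
  unfold theta
  rw [if_neg (by decide), if_pos rfl]
theorem theta_eab : theta (ea * eb) = ⊥ := by
  unfold theta
  rw [if_neg (by decide), if_neg (by decide)]

theorem isSignalizerFunctor_theta : Cfsg.IsSignalizerFunctor 2 fourGroup theta := by
  refine ⟨?_, ?_, ?_, ?_⟩
  · rintro x (rfl | rfl | rfl | rfl) hx1
    · exact absurd rfl hx1
    · rw [theta_ea, Subgroup.zpowers_le, Subgroup.mem_centralizer_singleton_iff]; decide
    · rw [theta_eb, Subgroup.zpowers_le, Subgroup.mem_centralizer_singleton_iff]; decide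
    · rw [theta_eab]; exact bot_le
  · rintro x (rfl | rfl | rfl | rfl) hx1
    · exact absurd rfl hx1
    · rw [theta_ea, card_zpowers_ec]; decide
    · rw [theta_eb, card_zpowers_ed]; decide
    · rw [theta_eab, Subgroup.card_bot]; decide
  · rintro x (rfl | rfl | rfl | rfl) hx1
    · exact absurd rfl hx1
    · intro y hy u hu
      rw [theta_ea, mem_zpowers_three ec_pow] at hu ⊢
      rcases hy with rfl | rfl | rfl | rfl <;> rcases hu with rfl | rfl | rfl <;> decide
    · intro y hy u hu
      rw [theta_eb, mem_zpowers_three ed_pow] at hu ⊢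
      rcases hy with rfl | rfl | rfl | rfl <;> rcases hu with rfl | rfl | rfl <;> decide
    · intro y hy u hu
      rw [theta_eab, Subgroup.mem_bot] at hu ⊢
      rw [hu]; simp
  · rintro x (rfl | rfl | rfl | rfl) hx1
    · exact absurd rfl hx1
    · rintro y (rfl | rfl | rfl | rfl) hy1
      · exact absurd rfl hy1
      · exact inf_le_left
      · intro u hu
        obtain ⟨hu1, hu2⟩ := Subgroup.mem_inf.mp hu
        rw [theta_ea, mem_zpowers_three ec_pow] at hu1
        rw [Subgroup.mem_centralizer_singleton_iff] at hu2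
        rcases hu1 with rfl | rfl | rfl
        · exact one_mem _
        · exact absurd hu2 (by decide)
        · exact absurd hu2 (by decide)
      · intro u hu
        obtain ⟨hu1, hu2⟩ := Subgroup.mem_inf.mp hu
        rw [theta_ea, mem_zpowers_three ec_pow] at hu1
        rw [Subgroup.mem_centralizer_singleton_iff] at hu2
        rcases hu1 with rfl | rfl | rfl
        · exact one_mem _
        · exact absurd hu2 (by decide)
        · exact absurd hu2 (by decide)
    · rintro y (rfl | rfl | rfl | rfl) hy1
      · exact absurd rfl hy1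
      · intro u hu
        obtain ⟨hu1, hu2⟩ := Subgroup.mem_inf.mp hu
        rw [theta_eb, mem_zpowers_three ed_pow] at hu1
        rw [Subgroup.mem_centralizer_singleton_iff] at hu2
        rcases hu1 with rfl | rfl | rfl
        · exact one_mem _
        · exact absurd hu2 (by decide)
        · exact absurd hu2 (by decide)
      · exact inf_le_left
      · intro u hu
        obtain ⟨hu1, hu2⟩ := Subgroup.mem_inf.mp hu
        rw [theta_eb, mem_zpowers_three ed_pow] at hu1
        rw [Subgroup.mem_centralizer_singleton_iff] at hu2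
        rcases hu1 with rfl | rfl | rfl
        · exact one_mem _
        · exact absurd hu2 (by decide)
        · exact absurd hu2 (by decide)
    · intro y _ _
      rw [theta_eab]
      exact inf_le_left.trans bot_le

theorem card_fourGroup : Nat.card fourGroup = 4 := by
  have h1 : (fourGroup : Set (Equiv.Perm (Fin 5))) =
      (({1, ea, eb, ea * eb} : Finset (Equiv.Perm (Fin 5))) : Set (Equiv.Perm (Fin 5))) := by
    ext x
    simp only [SetLike.mem_coe, mem_fourGroup, Finset.coe_insert, Finset.coe_singleton,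
      Set.mem_insert_iff, Set.mem_singleton_iff]
  have h2 : Nat.card fourGroup = (fourGroup : Set (Equiv.Perm (Fin 5))).ncard :=
    (Nat.card_coe_set_eq _)
  rw [h2, h1, Set.ncard_coe_finset]
  decide

/-- There exist a finite group X, an elementary abelian subgroup A of order 4 and a solvable A-signalizer functor θ on X for the prime 2 which is not complete. -/
theorem result : ∃ (X : Type) (_ : Group X) (_ : Finite X) (A : Subgroup X) (θ : X → Subgroup X), Cfsg.IsElementaryAbelian 2 A ∧ Nat.card ↥A = 4 ∧ Cfsg.IsSolvableSignalizerFunctor 2 A θ ∧ ¬ Cfsg.IsCompleteSignalizerFunctor 2 A θ := by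
  refine ⟨Equiv.Perm (Fin 5), inferInstance, inferInstance, fourGroup, theta, ⟨?_, ?_⟩, card_fourGroup,
    ⟨isSignalizerFunctor_theta, ?_⟩, ?_⟩
  · refine ⟨⟨?_⟩⟩
    rintro ⟨x, hx⟩ ⟨y, hy⟩
    apply Subtype.ext
    show x * y = y * x
    rcases hx with rfl | rfl | rfl | rfl <;> rcases hy with rfl | rfl | rfl | rfl <;> decide
  · rintro x (rfl | rfl | rfl | rfl) <;> decide
  · rintro x (rfl | rfl | rfl | rfl) hx1
    · exact absurd rfl hx1
    · rw [theta_ea]
      exact Group.isSolvable_of_comm (fun a b => mul_comm' a b)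
    · rw [theta_eb]
      exact Group.isSolvable_of_comm (fun a b => mul_comm' a b)
    · rw [theta_eab]
      exact Group.isSolvable_of_comm (fun a b => Subsingleton.elim _ _)
  · rintro ⟨_, Y, _, hodd, hY⟩
    have hc : ec ∈ Y := by
      have h1 := hY ea (Or.inr (Or.inl rfl)) (by decide)
      rw [theta_ea] at h1
      have h2 : ec ∈ Y ⊓ Subgroup.centralizer {ea} := by rw [h1]; exact Subgroup.mem_zpowers ec
      exact (Subgroup.mem_inf.mp h2).1
    have hd : ed ∈ Y := by
      have h1 := hY eb (Or.inr (Or.inr (Or.inl rfl))) (by decide)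
      rw [theta_eb] at h1
      have h2 : ed ∈ Y ⊓ Subgroup.centralizer {eb} := by rw [h1]; exact Subgroup.mem_zpowers ed
      exact (Subgroup.mem_inf.mp h2).1
    have hw : ec * ed * ec * ed⁻¹ ∈ Y := mul_mem (mul_mem (mul_mem hc hd) hc) (inv_mem hd)
    have ho : orderOf (ec * ed * ec * ed⁻¹) = 2 := by
      have : Fact (Nat.Prime 2) := ⟨Nat.prime_two⟩
      exact orderOf_eq_prime (by decide) (by decide)
    apply hodd
    rw [← ho]
    exact Subgroup.orderOf_dvd_natCard Y hw

end Cfsg.Agent.S1286
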