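import Mathlib
import Cfsg.Agent.Lib.helper55.Conj
import Cfsg.Agent.Lib.helper55.SylowExtra
import Cfsg.Agent.Lib.helper70.Frattini

set_option autoImplicit false
set_option linter.unusedSectionVars false
open Cfsg

namespace Cfsg.Agent.S1954

open Cfsg.Agent.Lib.helper55 Cfsg.Agent.Lib.helper70

section basics

variable {G : Type*} [Group G]

/-- The conjugate `g A g⁻¹` of a subgroup. -/
abbrev cj (g : G) (A : Subgroup G) : Subgroup G := A.map (MulAut.conj g).toMonoidHom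

theorem mem_cj (g : G) (A : Subgroup G) (x : G) : x ∈ cj g A ↔ g⁻¹ * x * g ∈ A :=
  mem_map_conj_iff g A x

theorem conj_mem_cj {g : G} {A : Subgroup G} {a : G} (ha : a ∈ A) : g * a * g⁻¹ ∈ cj g A := by
  rw [mem_cj]
  have e : g⁻¹ * (g * a * g⁻¹) * g = a := by group
  rw [e]; exact ha

theorem cj_le_iff (g : G) (A B : Subgroup G) : cj g A ≤ B ↔ ∀ a ∈ A, g * a * g⁻¹ ∈ B := by
  constructor
  · intro h a ha; exact h (conj_mem_cj ha)
  · intro h x hx
    rw [mem_cj] at hx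
    have e : x = g * (g⁻¹ * x * g) * g⁻¹ := by group
    rw [e]; exact h _ hx

theorem cj_mul (a b : G) (A : Subgroup G) : cj (a * b) A = cj a (cj b A) := map_conj_mul A a b

theorem cj_one (A : Subgroup G) : cj 1 A = A := map_conj_one A

theorem cj_mono {g : G} {A B : Subgroup G} (h : A ≤ B) : cj g A ≤ cj g B := Subgroup.map_mono h

theorem card_cj (g : G) (A : Subgroup G) : Nat.card (cj g A) = Nat.card A :=
  Subgroup.card_map_of_injective (MulAut.conj g).injective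

theorem cj_inv_cj (g : G) (A : Subgroup G) : cj g⁻¹ (cj g A) = A := by
  rw [← cj_mul, inv_mul_cancel, cj_one]

theorem cj_cj_inv (g : G) (A : Subgroup G) : cj g (cj g⁻¹ A) = A := by
  rw [← cj_mul, mul_inv_cancel, cj_one]

theorem isPGroup_cj {p : ℕ} (g : G) {A : Subgroup G} (hA : IsPGroup p A) : IsPGroup p (cj g A) :=
  hA.map _

theorem cj_eq_of_mem_normalizer {g : G} {A : Subgroup G}
    (hg : g ∈ Subgroup.normalizer (A : Set G)) : cj g A = A :=
  (mem_normalizer_iff_map_conj A g).mp hg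

theorem cj_sup (g : G) (A B : Subgroup G) : cj g (A ⊔ B) = cj g A ⊔ cj g B :=
  Subgroup.map_sup A B _

theorem cj_inf_le (g : G) (A B : Subgroup G) : cj g (A ⊓ B) ≤ cj g A ⊓ cj g B :=
  le_inf (cj_mono inf_le_left) (cj_mono inf_le_right)

theorem cj_normal (g : G) (N : Subgroup G) [N.Normal] : cj g N = N := by
  apply cj_eq_of_mem_normalizer
  rw [Subgroup.normalizer_eq_top]
  exact Subgroup.mem_top g

theorem conj_mem_centralizer_cj {g c : G} {A : Subgroup G}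
    (hc : c ∈ Subgroup.centralizer (A : Set G)) :
    g * c * g⁻¹ ∈ Subgroup.centralizer ((cj g A : Subgroup G) : Set G) := by
  rw [Subgroup.mem_centralizer_iff] at hc ⊢
  intro x hx
  have hx' : g⁻¹ * x * g ∈ A := (mem_cj g A x).mp hx
  have h1 := hc _ hx'
  have e1 : x * (g * c * g⁻¹) = g * ((g⁻¹ * x * g) * c) * g⁻¹ := by group
  have e2 : g * c * g⁻¹ * x = g * (c * (g⁻¹ * x * g)) * g⁻¹ := by group
  rw [e1, e2, h1]

theorem mem_centralizer_of_cj {t c : G} {A : Subgroup G}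
    (hc : c ∈ Subgroup.centralizer ((cj t A : Subgroup G) : Set G)) :
    t⁻¹ * c * t ∈ Subgroup.centralizer (A : Set G) := by
  have h := conj_mem_centralizer_cj (g := t⁻¹) hc
  rw [cj_inv_cj, inv_inv] at h
  exact h

theorem cj_eq_of_mem_centralizer {c : G} {A : Subgroup G}
    (hc : c ∈ Subgroup.centralizer (A : Set G)) : cj c A = A :=
  cj_eq_of_mem_normalizer (Subgroup.centralizer_le_normalizer _ hc)

theorem normalizer_cj (t : G) (A : Subgroup G) :
    Subgroup.normalizer ((cj t A : Subgroup G) : Set G) = cj t (Subgroup.normalizer (A : Set G)) := by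
  ext z
  rw [mem_cj]
  constructor
  · intro hz
    have h := conj_mem_normalizer_map t⁻¹ (cj t A) hz
    have e : Subgroup.map (MulAut.conj t⁻¹).toMonoidHom (cj t A) = A := cj_inv_cj t A
    rw [e, inv_inv] at h
    exact h
  · intro hz
    have h := conj_mem_normalizer_map t A hz
    have e : t * (t⁻¹ * z * t) * t⁻¹ = z := by group
    rw [e] at h
    exact h

/-- Conjugating a centralizing element by a normalizing element. -/
theorem conj_mem_centralizer_of_mem_normalizer {n c : G} {A : Subgroup G}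
    (hn : n ∈ Subgroup.normalizer (A : Set G)) (hc : c ∈ Subgroup.centralizer (A : Set G)) :
    n * c * n⁻¹ ∈ Subgroup.centralizer (A : Set G) := by
  have h := conj_mem_centralizer_cj (g := n) hc
  rw [cj_eq_of_mem_normalizer hn] at h
  exact h

/-- `g ∈ H · C_G(A)`. -/
def InHC (H A : Subgroup G) (g : G) : Prop :=
  ∃ h ∈ H, ∃ c ∈ Subgroup.centralizer (A : Set G), g = h * c

theorem InHC.mono {H A B : Subgroup G} {g : G} (hAB : A ≤ B) (h : InHC H B g) : InHC H A g := by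
  obtain ⟨h, hh, c, hc, rfl⟩ := h
  exact ⟨h, hh, c, Subgroup.centralizer_le (by exact_mod_cast hAB) hc, rfl⟩

theorem InHC.of_mem {H A : Subgroup G} {g : G} (hg : g ∈ H) : InHC H A g :=
  ⟨g, hg, 1, one_mem _, (mul_one g).symm⟩

theorem InHC.mul {H A : Subgroup G} {y₁ y₂ : G} (h1 : InHC H A y₁) (h2 : InHC H A y₂)
    (hy₂ : y₂ ∈ Subgroup.normalizer (A : Set G)) : InHC H A (y₁ * y₂) := by
  obtain ⟨h₁, hh₁, c₁, hc₁, rfl⟩ := h1
  obtain ⟨h₂, hh₂, c₂, hc₂, rfl⟩ := h2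
  have hh₂N : h₂ ∈ Subgroup.normalizer (A : Set G) := by
    have e : h₂ = h₂ * c₂ * c₂⁻¹ := by group
    rw [e]
    exact mul_mem hy₂ (inv_mem (Subgroup.centralizer_le_normalizer _ hc₂))
  refine ⟨h₁ * h₂, mul_mem hh₁ hh₂, h₂⁻¹ * c₁ * h₂ * c₂, mul_mem ?_ hc₂, by group⟩
  have h := conj_mem_centralizer_of_mem_normalizer (inv_mem hh₂N) hc₁
  rw [inv_inv] at h
  exact h

/-- Conjugation by `g` preserves the closure of a set whose elements it conjugates into it. -/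
theorem conj_mem_closure {S : Set G} {g : G}
    (h : ∀ s ∈ S, g * s * g⁻¹ ∈ Subgroup.closure S) :
    ∀ w ∈ Subgroup.closure S, g * w * g⁻¹ ∈ Subgroup.closure S := by
  intro w hw
  induction hw using Subgroup.closure_induction with
  | mem x hx => exact h x hx
  | one => simp
  | mul x y _ _ hx hy =>
    have e : g * (x * y) * g⁻¹ = (g * x * g⁻¹) * (g * y * g⁻¹) := by group
    rw [e]; exact mul_mem hx hy
  | inv x _ hx =>
    have e : g * x⁻¹ * g⁻¹ = (g * x * g⁻¹)⁻¹ := by group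
    rw [e]; exact inv_mem hx

/-- If `y` acts on `A` as `a ↦ a d` with `d ∈ D` and centralizes `D`, then `y ^ |D|` centralizes
`A`. -/
theorem pow_card_mem_centralizer [Finite G] {A D : Subgroup G} {y : G}
    (hyD : y ∈ Subgroup.centralizer (D : Set G))
    (hcomm : ∀ a ∈ A, a⁻¹ * (y * a * y⁻¹) ∈ D) :
    y ^ Nat.card D ∈ Subgroup.centralizer (A : Set G) := by
  rw [Subgroup.mem_centralizer_iff]
  intro a ha
  have hd := hcomm a ha
  obtain ⟨d, hdef⟩ : ∃ d, d = a⁻¹ * (y * a * y⁻¹) := ⟨_, rfl⟩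
  rw [← hdef] at hd
  have hyd : d * y = y * d := (Subgroup.mem_centralizer_iff.mp hyD) d hd
  have hya : y * a = a * d * y := by rw [hdef]; group
  have key : ∀ k : ℕ, y ^ k * a = a * d ^ k * y ^ k := by
    intro k
    induction k with
    | zero => simp
    | succ k ih =>
      have hydk : d ^ k * y = y * d ^ k := by
        have : Commute d y := hyd
        exact (this.pow_left k).eq
      calc y ^ (k + 1) * a = y * (y ^ k * a) := by rw [pow_succ']; group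
        _ = y * (a * d ^ k * y ^ k) := by rw [ih]
        _ = (y * a) * d ^ k * y ^ k := by group
        _ = a * d * y * d ^ k * y ^ k := by rw [hya]
        _ = a * d * (y * d ^ k) * y ^ k := by group
        _ = a * d * (d ^ k * y) * y ^ k := by rw [hydk]
        _ = a * d ^ (k + 1) * y ^ (k + 1) := by rw [pow_succ' d, pow_succ' y]; group
  have hd1 : d ^ Nat.card D = 1 := by
    have h1 : (⟨d, hd⟩ : D) ^ Nat.card D = 1 := pow_card_eq_one'
    have h2 := congrArg Subtype.val h1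
    rw [Subgroup.coe_pow] at h2
    exact h2
  have := key (Nat.card D)
  rw [hd1, mul_one] at this
  exact this.symm

end basics

section sylow

variable {G : Type*} [Group G] [Finite G] {p : ℕ} [Fact p.Prime]

/-- `S` is a Sylow `p`-subgroup of the subgroup `C`. -/
def SylIn (p : ℕ) (S C : Subgroup G) : Prop :=
  S ≤ C ∧ Nat.card S = p ^ (Nat.card C).factorization p

theorem SylIn.isPGroup {S C : Subgroup G} (hS : SylIn p S C) : IsPGroup p S :=
  IsPGroup.of_card hS.2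

theorem exists_sylIn_ge (C R : Subgroup G) (hR : IsPGroup p R) (hle : R ≤ C) :
    ∃ S : Subgroup G, R ≤ S ∧ SylIn p S C := by
  obtain ⟨S, h1, h2, _, h4⟩ := exists_sylow_of_subgroup_ge p C R hR hle
  exact ⟨S, h1, h2, h4⟩

/-- Sylow's theorem inside a subgroup. -/
theorem SylIn.exists_conj_le {S C R : Subgroup G} (hS : SylIn p S C) (hR : IsPGroup p R)
    (hRC : R ≤ C) : ∃ c ∈ C, cj c R ≤ S := by
  obtain ⟨P, hP⟩ := (exists_sylow_map_subtype_iff (p := p) C S).mpr hS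
  have hR' : IsPGroup p (R.subgroupOf C) := hR.comap_subtype
  obtain ⟨Q', hQ'⟩ := hR'.exists_le_sylow
  obtain ⟨c, hc⟩ := MulAction.exists_smul_eq C Q' P
  refine ⟨c, c.2, ?_⟩
  rw [cj_le_iff]
  intro r hr
  have h1 : (⟨r, hRC hr⟩ : C) ∈ Q' := hQ' (Subgroup.mem_subgroupOf.mpr hr)
  have h2 : c * ⟨r, hRC hr⟩ * c⁻¹ ∈ (c • Q' : Sylow p C) := by
    rw [Cfsg.Agent.Lib.helper55.mem_sylow_smul_iff]
    have e : c⁻¹ * (c * ⟨r, hRC hr⟩ * c⁻¹) * c = ⟨r, hRC hr⟩ := by group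
    rw [e]; exact h1
  rw [hc] at h2
  rw [← hP]
  exact ⟨_, h2, rfl⟩

theorem SylIn.of_le {S T C : Subgroup G} (hS : SylIn p S C) (hST : S ≤ T) (hTC : T ≤ C)
    (hT : IsPGroup p T) : SylIn p T C := by
  refine ⟨hTC, ?_⟩
  obtain ⟨j, hj⟩ := IsPGroup.iff_card.mp hT
  have hp : p.Prime := Fact.out
  have hCpos : Nat.card C ≠ 0 := Nat.card_pos.ne'
  have h1 : j ≤ (Nat.card C).factorization p := by
    rw [← hp.pow_dvd_iff_le_factorization hCpos, ← hj]
    exact Subgroup.card_dvd_of_le hTC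
  have h2 : (Nat.card C).factorization p ≤ j := by
    have := Subgroup.card_le_of_le hST
    rw [hS.2, hj] at this
    exact (Nat.pow_le_pow_iff_right hp.one_lt).mp this
  rw [hj, le_antisymm h1 h2]

/-- A Sylow subgroup of `K` meets a subgroup `L` normalized by `K` in a Sylow subgroup of `L`. -/
theorem SylIn.inf_normal {S K L : Subgroup G} (hS : SylIn p S K) (hLK : L ≤ K)
    (hKL : K ≤ Subgroup.normalizer (L : Set G)) : SylIn p (S ⊓ L) L := by
  obtain ⟨SL, h1, h2⟩ := exists_sylIn_ge (p := p) L (S ⊓ L) (hS.isPGroup.to_le inf_le_left)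
    inf_le_right
  obtain ⟨k, hk, hk'⟩ := hS.exists_conj_le h2.isPGroup (h2.1.trans hLK)
  have h3 : cj k SL ≤ L := by
    have := cj_mono (g := k) h2.1
    rwa [cj_eq_of_mem_normalizer (hKL hk)] at this
  have h4 : Nat.card SL ≤ Nat.card (S ⊓ L : Subgroup G) := by
    rw [← card_cj k SL]
    exact Subgroup.card_le_of_le (le_inf hk' h3)
  refine ⟨inf_le_right, ?_⟩
  rw [← h2.2]
  exact le_antisymm (Subgroup.card_le_of_le h1) h4

/-- Frattini argument inside a subgroup. -/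
theorem SylIn.frattini {S L : Subgroup G} (hS : SylIn p S L) {g : G}
    (hg : g ∈ Subgroup.normalizer (L : Set G)) :
    ∃ l ∈ L, l * g ∈ Subgroup.normalizer (S : Set G) :=
  exists_mul_mem_normalizer_of_card p L S hS.1 hS.2 g hg

/-- A normal Sylow subgroup contains every `p`-element. -/
theorem SylIn.mem_of_normal {S Y : Subgroup G} (hS : SylIn p S Y)
    (hn : Y ≤ Subgroup.normalizer (S : Set G)) {t : G} (ht : t ∈ Y)
    (hp : IsPGroup p (Subgroup.zpowers t)) : t ∈ S := by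
  obtain ⟨c, hc, hc'⟩ := hS.exists_conj_le hp (by rw [Subgroup.zpowers_le]; exact ht)
  have h1 : c * t * c⁻¹ ∈ S := hc' (conj_mem_cj (Subgroup.mem_zpowers t))
  have h2 := (Subgroup.mem_normalizer_iff.mp (hn (inv_mem hc)) (c * t * c⁻¹)).mp h1
  have e : c⁻¹ * (c * t * c⁻¹) * c⁻¹⁻¹ = t := by group
  rw [e] at h2
  exact h2

/-- In a finite group, a Sylow subgroup together with a normal subgroup of `p`-power index
generates everything. -/
theorem sylow_sup_normal_eq_top {Y : Type*} [Group Y] [Finite Y] (S : Sylow p Y) (C : Subgroup Y)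
    [C.Normal] (hpow : ∀ y : Y, ∃ k : ℕ, y ^ (p ^ k) ∈ C) : (S : Subgroup Y) ⊔ C = ⊤ := by
  have hp : p.Prime := Fact.out
  have hq : IsPGroup p (Y ⧸ C) := by
    intro y
    induction y using QuotientGroup.induction_on with
    | H y =>
      obtain ⟨k, hk⟩ := hpow y
      refine ⟨k, ?_⟩
      rw [← QuotientGroup.mk_pow]
      exact (QuotientGroup.eq_one_iff _).mpr hk
  obtain ⟨n, hn⟩ := IsPGroup.iff_card.mp hq
  have h1 : ((S : Subgroup Y) ⊔ C).index ∣ C.index := Subgroup.index_dvd_of_le le_sup_right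
  have h2 : ((S : Subgroup Y) ⊔ C).index ∣ (S : Subgroup Y).index :=
    Subgroup.index_dvd_of_le le_sup_left
  have h3 : C.index = p ^ n := by rw [Subgroup.index_eq_card]; exact hn
  rw [h3] at h1
  obtain ⟨j, -, hj'⟩ := (Nat.dvd_prime_pow hp).mp h1
  rcases Nat.eq_zero_or_pos j with rfl | hpos
  · exact Subgroup.index_eq_one.mp (by simpa using hj')
  · exfalso
    apply S.not_dvd_index
    exact dvd_trans (by rw [hj']; exact dvd_pow_self p hpos.ne') h2

/-- Relative version: if `C ⊴ Y` and every element of `Y` has a `p`-power in `C`, then `Y = S C`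
for a Sylow `p`-subgroup `S` of `Y`. -/
theorem SylIn.mul_eq {S Y C : Subgroup G} (hS : SylIn p S Y) (hCY : C ≤ Y)
    (hn : Y ≤ Subgroup.normalizer (C : Set G)) (hpow : ∀ y ∈ Y, ∃ k : ℕ, y ^ (p ^ k) ∈ C) :
    ∀ y ∈ Y, ∃ s ∈ S, ∃ c ∈ C, y = s * c := by
  obtain ⟨P, hP⟩ := (exists_sylow_map_subtype_iff (p := p) Y S).mpr hS
  have : (C.subgroupOf Y).Normal := (Subgroup.normal_subgroupOf_iff_le_normalizer hCY).mpr hn
  have htop := sylow_sup_normal_eq_top P (C.subgroupOf Y) (by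
    intro y
    obtain ⟨k, hk⟩ := hpow y y.2
    exact ⟨k, by rw [Subgroup.mem_subgroupOf]; simpa using hk⟩)
  intro y hy
  have hmem : (⟨y, hy⟩ : Y) ∈ (P : Subgroup Y) ⊔ C.subgroupOf Y := by rw [htop]; trivial
  rw [Subgroup.mem_sup_of_normal_right] at hmem
  obtain ⟨s, hs, c, hc, hsc⟩ := hmem
  refine ⟨s, ?_, c, Subgroup.mem_subgroupOf.mp hc, ?_⟩
  · rw [← hP]; exact ⟨s, hs, rfl⟩
  · have := congrArg Subtype.val hsc
    simpa using this.symm

/-- In a `p`-group, proper subgroups are properly contained in their normalizers. -/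
theorem exists_normalizer_not_mem {A S : Subgroup G} (hS : IsPGroup p S) (hAS : A ≤ S)
    (hne : A ≠ S) : ∃ s ∈ S, s ∈ Subgroup.normalizer (A : Set G) ∧ s ∉ A := by
  have : Group.IsNilpotent S := hS.isNilpotent
  have hnc := Group.normalizerCondition_of_isNilpotent (G := S)
  have hlt : A.subgroupOf S < ⊤ := by
    rw [lt_top_iff_ne_top]
    intro htop
    exact hne (le_antisymm hAS (Subgroup.subgroupOf_eq_top.mp htop))
  obtain ⟨g, hgN, hgD⟩ := SetLike.exists_of_lt (hnc _ hlt)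
  refine ⟨g, g.2, ?_, ?_⟩
  · apply mem_normalizer_of_conj_mem
    intro a ha
    have h1 := (Subgroup.mem_normalizer_iff.mp hgN ⟨a, hAS ha⟩).mp (Subgroup.mem_subgroupOf.mpr ha)
    rw [Subgroup.mem_subgroupOf] at h1
    simpa using h1
  · intro hg
    exact hgD (Subgroup.mem_subgroupOf.mpr hg)

theorem card_lt_inf_normalizer {P' A : Subgroup G} (hP : IsPGroup p P') (hA : A ≤ P')
    (hne : A ≠ P') : Nat.card A < Nat.card (P' ⊓ Subgroup.normalizer (A : Set G) : Subgroup G) := by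
  obtain ⟨s, hs, hsN, hsA⟩ := exists_normalizer_not_mem hP hA hne
  by_contra hcon
  push Not at hcon
  have hle : A ≤ P' ⊓ Subgroup.normalizer (A : Set G) := le_inf hA Subgroup.le_normalizer
  have := Subgroup.eq_of_le_of_card_ge hle hcon
  apply hsA
  rw [this]
  exact ⟨hs, hsN⟩

theorem card_lt_of_le_of_not_mem {A B : Subgroup G} (hAB : A ≤ B) {q : G} (hq : q ∈ B)
    (hqA : q ∉ A) : Nat.card A < Nat.card B := by
  by_contra hcon
  push Not at hcon
  have := Subgroup.eq_of_le_of_card_ge hAB hcon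
  apply hqA
  rw [this]
  exact hq

end sylow

section main

variable {G : Type*} [Group G] [Finite G] {p : ℕ} [Fact p.Prime]

/-- The fully normalized case: `N_G(A) ⊆ H C_G(A)`. -/
theorem normalizer_case (N : Subgroup G) [hN : N.Normal] (P : Sylow p G) (H : Subgroup G)
    (hNQ : Subgroup.normalizer ((↑P ⊓ N : Subgroup G) : Set G) ≤ H)
    (hctrl : ∀ D : Subgroup G, D ≤ ↑P ⊓ N → ∀ n ∈ N, cj n D ≤ ↑P ⊓ N →
      ∃ h ∈ H ⊓ N, ∃ c ∈ N ⊓ Subgroup.centralizer (D : Set G), n = h * c)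
    (A : Subgroup G) (hA : A ≤ ↑P)
    (hfn : SylIn p (↑P ⊓ Subgroup.normalizer (A : Set G)) (Subgroup.normalizer (A : Set G)))
    (IH : ∀ B : Subgroup G, B ≤ ↑P → Nat.card A < Nat.card B → ∀ g, cj g B ≤ ↑P → InHC H B g) :
    ∀ y ∈ Subgroup.normalizer (A : Set G), InHC H A y := by
  have hPH : (P : Subgroup G) ≤ H := by
    intro z hz
    apply hNQ
    apply mem_normalizer_of_conj_mem
    intro q hq
    rw [Subgroup.mem_inf] at hq ⊢
    exact ⟨mul_mem (mul_mem hz hq.1) (inv_mem hz), hN.conj_mem q hq.2 z⟩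
  have hI : ∀ y : G, ∀ B : Subgroup G, B ≤ ↑P → A ≤ B → Nat.card A < Nat.card B →
      cj y B ≤ ↑P → InHC H A y :=
    fun y B hB hAB hlt hyB => (IH B hB hlt y hyB).mono hAB
  have hANA : A ≤ Subgroup.normalizer (A : Set G) := Subgroup.le_normalizer
  have hconjA : ∀ y ∈ Subgroup.normalizer (A : Set G), ∀ a ∈ A, y * a * y⁻¹ ∈ A :=
    fun y hy a ha => (Subgroup.mem_normalizer_iff.mp hy a).mp ha
  by_cases hQA : (↑P ⊓ N : Subgroup G) ≤ A
  · intro y hy
    apply InHC.of_mem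
    apply hNQ
    apply mem_normalizer_of_conj_mem
    intro q hq
    have h1 : y * q * y⁻¹ ∈ A := hconjA y hy q (hQA hq)
    rw [Subgroup.mem_inf] at hq ⊢
    exact ⟨hA h1, hN.conj_mem q hq.2 y⟩
  -- the main case
  obtain ⟨R₁, hR₁def⟩ : ∃ R₁ : Subgroup G, R₁ = ↑P ⊓ Subgroup.normalizer (A : Set G) := ⟨_, rfl⟩
  rw [← hR₁def] at hfn
  have hR₁mem : ∀ z, z ∈ R₁ ↔ z ∈ (P : Subgroup G) ∧ z ∈ Subgroup.normalizer (A : Set G) := by
    intro z; rw [hR₁def, Subgroup.mem_inf]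
  have hR₁P : R₁ ≤ ↑P := fun z hz => ((hR₁mem z).mp hz).1
  obtain ⟨D, hDdef⟩ : ∃ D : Subgroup G, D = A ⊓ N := ⟨_, rfl⟩
  have hDmem : ∀ z, z ∈ D ↔ z ∈ A ∧ z ∈ N := by intro z; rw [hDdef, Subgroup.mem_inf]
  have hDQ : D ≤ ↑P ⊓ N := by rw [hDdef]; exact inf_le_inf_right N hA
  have hDA : D ≤ A := by rw [hDdef]; exact inf_le_left
  have hD_norm : Subgroup.normalizer (A : Set G) ≤ Subgroup.normalizer (D : Set G) := by
    intro y hy
    apply mem_normalizer_of_conj_mem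
    intro d hd
    rw [hDmem] at hd ⊢
    exact ⟨hconjA y hy d hd.1, hN.conj_mem d hd.2 y⟩
  obtain ⟨CD, hCDdef⟩ : ∃ CD : Subgroup G, CD = N ⊓ Subgroup.centralizer (D : Set G) := ⟨_, rfl⟩
  have hCDmem : ∀ z, z ∈ CD ↔ z ∈ N ∧ z ∈ Subgroup.centralizer (D : Set G) := by
    intro z; rw [hCDdef, Subgroup.mem_inf]
  have hCD_norm : ∀ y ∈ Subgroup.normalizer (A : Set G), ∀ c ∈ CD, y * c * y⁻¹ ∈ CD := by
    intro y hy c hc
    rw [hCDmem] at hc ⊢
    exact ⟨hN.conj_mem c hc.1 y, conj_mem_centralizer_of_mem_normalizer (hD_norm hy) hc.2⟩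
  -- K = N_N(A)
  obtain ⟨K, hKdef⟩ : ∃ K : Subgroup G, K = N ⊓ Subgroup.normalizer (A : Set G) := ⟨_, rfl⟩
  have hKmem : ∀ z, z ∈ K ↔ z ∈ N ∧ z ∈ Subgroup.normalizer (A : Set G) := by
    intro z; rw [hKdef, Subgroup.mem_inf]
  have hK_le : K ≤ Subgroup.normalizer (A : Set G) := fun z hz => ((hKmem z).mp hz).2
  have hK_norm : Subgroup.normalizer (A : Set G) ≤ Subgroup.normalizer (K : Set G) := by
    intro y hy
    apply mem_normalizer_of_conj_mem
    intro k hk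
    rw [hKmem] at hk ⊢
    exact ⟨hN.conj_mem k hk.1 y, mul_mem (mul_mem hy hk.2) (inv_mem hy)⟩
  have hKs : SylIn p (R₁ ⊓ K) K := hfn.inf_normal hK_le hK_norm
  have hex : ∃ q, q ∈ R₁ ⊓ K ∧ q ∉ A := by
    have hAQ_le : A ⊔ (↑P ⊓ N) ≤ (P : Subgroup G) := sup_le hA inf_le_left
    have hne : A ≠ A ⊔ (↑P ⊓ N) := by
      intro h; apply hQA; rw [h]; exact le_sup_right
    obtain ⟨s, hs, hsN, hsA⟩ := exists_normalizer_not_mem (P.2.to_le hAQ_le) le_sup_left hne
    have hAnQ : A ≤ Subgroup.normalizer ((↑P ⊓ N : Subgroup G) : Set G) := by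
      intro a ha
      apply mem_normalizer_of_conj_mem
      intro q hq
      rw [Subgroup.mem_inf] at hq ⊢
      exact ⟨mul_mem (mul_mem (hA ha) hq.1) (inv_mem (hA ha)), hN.conj_mem q hq.2 a⟩
    have hset := Subgroup.coe_mul_of_left_le_normalizer_right A (↑P ⊓ N) hAnQ
    have hs' : s ∈ ((A ⊔ (↑P ⊓ N) : Subgroup G) : Set G) := hs
    rw [hset] at hs'
    obtain ⟨a, ha, q, hq, rfl⟩ := Set.mem_mul.mp hs'
    have hq' : q ∈ (P : Subgroup G) ∧ q ∈ N := Subgroup.mem_inf.mp hq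
    have hqN : q ∈ Subgroup.normalizer (A : Set G) := by
      have e : q = a⁻¹ * (a * q) := by group
      rw [e]; exact mul_mem (inv_mem (hANA ha)) hsN
    refine ⟨q, Subgroup.mem_inf.mpr ⟨(hR₁mem q).mpr ⟨hq'.1, hqN⟩, (hKmem q).mpr ⟨hq'.2, hqN⟩⟩, ?_⟩
    intro hqA; exact hsA (mul_mem ha hqA)
  have hred : (∀ x ∈ K, InHC H A x) → ∀ y ∈ Subgroup.normalizer (A : Set G), InHC H A y := by
    intro hK y hy
    obtain ⟨q, hq, hqA⟩ := hex
    obtain ⟨k, hk, hk'⟩ := hKs.frattini (hK_norm hy)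
    have hz : k * y ∈ Subgroup.normalizer (A : Set G) := mul_mem (hK_le hk) hy
    have hB : A ⊔ (R₁ ⊓ K) ≤ (P : Subgroup G) := sup_le hA (inf_le_left.trans hR₁P)
    have hlt : Nat.card A < Nat.card (A ⊔ (R₁ ⊓ K) : Subgroup G) :=
      card_lt_of_le_of_not_mem le_sup_left (Subgroup.mem_sup_right hq) hqA
    have hcj : cj (k * y) (A ⊔ (R₁ ⊓ K)) ≤ ↑P := by
      rw [cj_sup, cj_eq_of_mem_normalizer hz, cj_eq_of_mem_normalizer hk']; exact hB
    have h1 := hI (k * y) _ hB le_sup_left hlt hcj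
    have h2 : InHC H A k⁻¹ := hK k⁻¹ (inv_mem hk)
    have e : y = k⁻¹ * (k * y) := by group
    rw [e]; exact h2.mul h1 hz
  -- Y = C_N(D) ∩ N_G(A)
  obtain ⟨Y, hYdef⟩ : ∃ Y : Subgroup G, Y = CD ⊓ Subgroup.normalizer (A : Set G) := ⟨_, rfl⟩
  have hYmem : ∀ z, z ∈ Y ↔ z ∈ CD ∧ z ∈ Subgroup.normalizer (A : Set G) := by
    intro z; rw [hYdef, Subgroup.mem_inf]
  have hY_le : Y ≤ Subgroup.normalizer (A : Set G) := fun z hz => ((hYmem z).mp hz).2
  have hY_norm : Subgroup.normalizer (A : Set G) ≤ Subgroup.normalizer (Y : Set G) := by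
    intro y hy
    apply mem_normalizer_of_conj_mem
    intro c hc
    rw [hYmem] at hc ⊢
    exact ⟨hCD_norm y hy c hc.1, mul_mem (mul_mem hy hc.2) (inv_mem hy)⟩
  have hYs : SylIn p (R₁ ⊓ Y) Y := hfn.inf_normal hY_le hY_norm
  have hYa : ∀ y ∈ Y, InHC H A y := by
    have hC_le : Y ⊓ Subgroup.centralizer (A : Set G) ≤ Y := inf_le_left
    have hC_norm : Y ≤ Subgroup.normalizer ((Y ⊓ Subgroup.centralizer (A : Set G) : Subgroup G) : Set G) := by
      intro y hy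
      apply mem_normalizer_of_conj_mem
      intro c hc
      rw [Subgroup.mem_inf] at hc ⊢
      exact ⟨mul_mem (mul_mem hy hc.1) (inv_mem hy),
        conj_mem_centralizer_of_mem_normalizer (hY_le hy) hc.2⟩
    have hpow : ∀ y ∈ Y, ∃ k : ℕ, y ^ (p ^ k) ∈ Y ⊓ Subgroup.centralizer (A : Set G) := by
      intro y hy
      obtain ⟨k, hk⟩ := IsPGroup.iff_card.mp (P.2.to_le (hDQ.trans inf_le_left))
      refine ⟨k, Subgroup.mem_inf.mpr ⟨pow_mem hy _, ?_⟩⟩
      have hy1 := (hYmem y).mp hy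
      have hy2 := (hCDmem y).mp hy1.1
      rw [← hk]
      apply pow_card_mem_centralizer hy2.2
      intro a ha
      rw [hDmem]
      refine ⟨mul_mem (inv_mem ha) (hconjA y hy1.2 a ha), ?_⟩
      have e : a⁻¹ * (y * a * y⁻¹) = (a⁻¹ * y * a⁻¹⁻¹) * y⁻¹ := by group
      rw [e]; exact mul_mem (hN.conj_mem y hy2.1 a⁻¹) (inv_mem hy2.1)
    intro y hy
    obtain ⟨s, hs, c, hc, rfl⟩ := hYs.mul_eq hC_le hC_norm hpow y hy
    exact ⟨s, hPH (hR₁P (Subgroup.mem_inf.mp hs).1), c, (Subgroup.mem_inf.mp hc).2, rfl⟩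
  by_cases hYA : R₁ ⊓ Y ≤ A
  swap
  · -- a Sylow subgroup of `Y` is not inside `A`: Frattini
    obtain ⟨q, hq, hqA⟩ := SetLike.not_le_iff_exists.mp hYA
    intro y hy
    obtain ⟨l, hl, hl'⟩ := hYs.frattini (hY_norm hy)
    have hz : l * y ∈ Subgroup.normalizer (A : Set G) := mul_mem (hY_le hl) hy
    have hB : A ⊔ (R₁ ⊓ Y) ≤ (P : Subgroup G) := sup_le hA (inf_le_left.trans hR₁P)
    have hlt : Nat.card A < Nat.card (A ⊔ (R₁ ⊓ Y) : Subgroup G) :=
      card_lt_of_le_of_not_mem le_sup_left (Subgroup.mem_sup_right hq) hqA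
    have hcj : cj (l * y) (A ⊔ (R₁ ⊓ Y)) ≤ ↑P := by
      rw [cj_sup, cj_eq_of_mem_normalizer hz, cj_eq_of_mem_normalizer hl']; exact hB
    have h1 := hI (l * y) _ hB le_sup_left hlt hcj
    have h2 : InHC H A l⁻¹ := hYa l⁻¹ (inv_mem hl)
    have e : y = l⁻¹ * (l * y) := by group
    rw [e]; exact h2.mul h1 hz
  -- now every `p`-element of `Y` lies in `A`
  have hYb : ∀ t ∈ Y, IsPGroup p (Subgroup.zpowers t) → t ∈ A := by
    have hnormYP : Y ≤ Subgroup.normalizer ((R₁ ⊓ Y : Subgroup G) : Set G) := by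
      intro y hy
      apply mem_normalizer_of_conj_mem
      intro s hs
      have hsA : s ∈ A := hYA hs
      have h1 : y * s * y⁻¹ ∈ A := hconjA y (hY_le hy) s hsA
      exact Subgroup.mem_inf.mpr ⟨(hR₁mem _).mpr ⟨hA h1, hANA h1⟩,
        mul_mem (mul_mem hy (Subgroup.mem_inf.mp hs).2) (inv_mem hy)⟩
    exact fun t ht hp => hYA (hYs.mem_of_normal hnormYP ht hp)
  apply hred
  intro x hx
  have hx' := (hKmem x).mp hx
  have hxD : cj x D ≤ ↑P ⊓ N := by
    rw [cj_eq_of_mem_normalizer (hD_norm hx'.2)]; exact hDQ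
  obtain ⟨m, hm, c, hc, hxmc⟩ := hctrl D hDQ x hx'.1 hxD
  have hm' : m ∈ H ∧ m ∈ N := Subgroup.mem_inf.mp hm
  rw [← hCDdef] at hc
  -- CM = C_M(D)
  obtain ⟨CM, hCMdef⟩ : ∃ CM : Subgroup G, CM = H ⊓ CD := ⟨_, rfl⟩
  have hCMmem : ∀ z, z ∈ CM ↔ z ∈ H ∧ z ∈ CD := by intro z; rw [hCMdef, Subgroup.mem_inf]
  have hA_CM : A ≤ Subgroup.normalizer (CM : Set G) := by
    intro a ha
    apply mem_normalizer_of_conj_mem
    intro w hw
    rw [hCMmem] at hw ⊢
    exact ⟨mul_mem (mul_mem (hPH (hA ha)) hw.1) (inv_mem (hPH (hA ha))),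
      hCD_norm a (hANA ha) w hw.2⟩
  have hU := Subgroup.coe_mul_of_left_le_normalizer_right A CM hA_CM
  have hmA : cj m A ≤ A ⊔ CM := by
    rw [cj_le_iff]
    intro a ha
    have e : m * a * m⁻¹ = (x * a * x⁻¹) * (x * ((a⁻¹ * c⁻¹ * a) * c) * x⁻¹) := by
      have hm2 : m = x * c⁻¹ := by rw [hxmc]; group
      rw [hm2]; group
    have h1 : x * a * x⁻¹ ∈ A := hconjA x hx'.2 a ha
    have h2 : x * ((a⁻¹ * c⁻¹ * a) * c) * x⁻¹ ∈ CD := by
      apply hCD_norm x hx'.2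
      refine mul_mem ?_ hc
      have := hCD_norm a⁻¹ (inv_mem (hANA ha)) c⁻¹ (inv_mem hc)
      rwa [inv_inv] at this
    have h3 : x * ((a⁻¹ * c⁻¹ * a) * c) * x⁻¹ ∈ H := by
      have e' : x * ((a⁻¹ * c⁻¹ * a) * c) * x⁻¹ = (x * a * x⁻¹)⁻¹ * (m * a * m⁻¹) := by
        rw [e]; group
      rw [e']
      exact mul_mem (inv_mem (hPH (hA h1))) (mul_mem (mul_mem hm'.1 (hPH (hA ha))) (inv_mem hm'.1))
    rw [e]
    exact mul_mem (Subgroup.mem_sup_left h1) (Subgroup.mem_sup_right ((hCMmem _).mpr ⟨h3, h2⟩))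
  obtain ⟨S, hAS, hS⟩ := exists_sylIn_ge (p := p) (A ⊔ CM) A (P.2.to_le hA) le_sup_left
  obtain ⟨u, hu, hu'⟩ := hS.exists_conj_le (isPGroup_cj m (P.2.to_le hA)) hmA
  have hu2 : u ∈ ((A ⊔ CM : Subgroup G) : Set G) := hu
  rw [hU] at hu2
  obtain ⟨a₁, ha₁, c₁, hc₁, rfl⟩ := Set.mem_mul.mp hu2
  have hc₁' := (hCMmem c₁).mp hc₁
  have hm₁ : cj (c₁ * m) A ≤ S := by
    rw [cj_le_iff]
    intro a ha
    have h1 : (a₁ * c₁) * (m * a * m⁻¹) * (a₁ * c₁)⁻¹ ∈ S := hu' (conj_mem_cj (conj_mem_cj ha))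
    have h2 : a₁⁻¹ * ((a₁ * c₁) * (m * a * m⁻¹) * (a₁ * c₁)⁻¹) * a₁ ∈ S :=
      mul_mem (mul_mem (inv_mem (hAS ha₁)) h1) (hAS ha₁)
    have e : c₁ * m * a * (c₁ * m)⁻¹ = a₁⁻¹ * ((a₁ * c₁) * (m * a * m⁻¹) * (a₁ * c₁)⁻¹) * a₁ := by
      group
    rw [e]; exact h2
  have hSA : S = A := by
    by_contra hne
    obtain ⟨s, hs, hsN, hsA⟩ := exists_normalizer_not_mem hS.isPGroup hAS (Ne.symm hne)
    have hs2 : s ∈ ((A ⊔ CM : Subgroup G) : Set G) := hS.1 hs
    rw [hU] at hs2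
    obtain ⟨a₂, ha₂, t, ht, rfl⟩ := Set.mem_mul.mp hs2
    have htS : t ∈ S := by
      have e : t = a₂⁻¹ * (a₂ * t) := by group
      rw [e]; exact mul_mem (inv_mem (hAS ha₂)) hs
    have htN : t ∈ Subgroup.normalizer (A : Set G) := by
      have e : t = a₂⁻¹ * (a₂ * t) := by group
      rw [e]; exact mul_mem (inv_mem (hANA ha₂)) hsN
    have htY : t ∈ Y := (hYmem t).mpr ⟨((hCMmem t).mp ht).2, htN⟩
    have htp : IsPGroup p (Subgroup.zpowers t) :=
      hS.isPGroup.to_le (by rw [Subgroup.zpowers_le]; exact htS)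
    exact hsA (mul_mem ha₂ (hYb t htY htp))
  rw [hSA] at hm₁
  have hm₁N : c₁ * m ∈ Subgroup.normalizer (A : Set G) :=
    mem_normalizer_of_conj_mem ((cj_le_iff _ _ _).mp hm₁)
  have hm₁H : c₁ * m ∈ H := mul_mem hc₁'.1 hm'.1
  have hy' : (c₁ * m)⁻¹ * x ∈ Y := by
    rw [hYmem]
    refine ⟨?_, mul_mem (inv_mem hm₁N) hx'.2⟩
    have e : (c₁ * m)⁻¹ * x = ((c₁ * m)⁻¹ * c₁⁻¹ * (c₁ * m)⁻¹⁻¹) * c := by
      rw [hxmc]; group
    rw [e]
    exact mul_mem (hCD_norm _ (inv_mem hm₁N) _ (inv_mem hc₁'.2)) hc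
  have e : x = (c₁ * m) * ((c₁ * m)⁻¹ * x) := by group
  rw [e]
  exact (InHC.of_mem hm₁H).mul (hYa _ hy') (hY_le hy')

end main

section lift

variable {G : Type*} [Group G] [Finite G] {p : ℕ} [Fact p.Prime]

theorem core (N : Subgroup G) [hN : N.Normal] (P : Sylow p G) (H : Subgroup G)
    (hNQ : Subgroup.normalizer ((↑P ⊓ N : Subgroup G) : Set G) ≤ H)
    (hctrl : ∀ D : Subgroup G, D ≤ ↑P ⊓ N → ∀ n ∈ N, cj n D ≤ ↑P ⊓ N →
      ∃ h ∈ H ⊓ N, ∃ c ∈ N ⊓ Subgroup.centralizer (D : Set G), n = h * c)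
    (A : Subgroup G) (hA : A ≤ ↑P)
    (IH : ∀ B : Subgroup G, B ≤ ↑P → Nat.card A < Nat.card B → ∀ g, cj g B ≤ ↑P → InHC H B g) :
    ∀ g, cj g A ≤ ↑P → InHC H A g := by
  intro g hg
  by_cases hAP : A = ↑P
  · apply InHC.of_mem
    apply hNQ
    rw [hAP] at hg
    have hgP : ∀ z ∈ (P : Subgroup G), g * z * g⁻¹ ∈ (P : Subgroup G) := (cj_le_iff _ _ _).mp hg
    apply mem_normalizer_of_conj_mem
    intro q hq
    rw [Subgroup.mem_inf] at hq ⊢
    exact ⟨hgP q hq.1, hN.conj_mem q hq.2 g⟩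
  · have hANA : A ≤ Subgroup.normalizer (A : Set G) := Subgroup.le_normalizer
    have hB₁lt := card_lt_inf_normalizer P.2 hA hAP
    have hAB₁ : A ≤ ↑P ⊓ Subgroup.normalizer (A : Set G) := le_inf hA hANA
    obtain ⟨R₀, hR₀1, hR₀⟩ := exists_sylIn_ge (p := p) (Subgroup.normalizer (A : Set G))
      (↑P ⊓ Subgroup.normalizer (A : Set G)) (P.2.to_le inf_le_left) inf_le_right
    obtain ⟨t, ht⟩ : ∃ t : G, cj t R₀ ≤ ↑P := by
      obtain ⟨Q', hQ'⟩ := hR₀.isPGroup.exists_le_sylow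
      obtain ⟨t, ht⟩ := MulAction.exists_smul_eq G Q' P
      refine ⟨t, ?_⟩
      rw [← ht, coe_smul_sylow]
      exact cj_mono hQ'
    have htB : cj t (↑P ⊓ Subgroup.normalizer (A : Set G)) ≤ ↑P := (cj_mono hR₀1).trans ht
    obtain ⟨h_t, hh_t, c_t, hc_t, ht_eq⟩ := (IH _ inf_le_left hB₁lt t htB).mono hAB₁
    have hA₀P : cj t A ≤ ↑P := (cj_mono (hAB₁.trans hR₀1)).trans ht
    have hfn : SylIn p (↑P ⊓ Subgroup.normalizer ((cj t A : Subgroup G) : Set G))
        (Subgroup.normalizer ((cj t A : Subgroup G) : Set G)) := by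
      have h1 : SylIn p (cj t R₀) (Subgroup.normalizer ((cj t A : Subgroup G) : Set G)) := by
        refine ⟨?_, ?_⟩
        · rw [normalizer_cj]; exact cj_mono hR₀.1
        · rw [card_cj, normalizer_cj, card_cj]; exact hR₀.2
      refine h1.of_le (le_inf ht h1.1) inf_le_right (P.2.to_le inf_le_left)
    have IH₀ : ∀ B : Subgroup G, B ≤ ↑P → Nat.card (cj t A) < Nat.card B →
        ∀ g, cj g B ≤ ↑P → InHC H B g := by
      intro B hB hlt
      rw [card_cj] at hlt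
      exact IH B hB hlt
    have hL1 := normalizer_case N P H hNQ hctrl (cj t A) hA₀P hfn IH₀
    have hA'ne : cj g A ≠ ↑P := by
      intro h
      apply hAP
      exact Subgroup.eq_of_le_of_card_ge hA (by rw [← h, card_cj])
    have hB'lt := card_lt_inf_normalizer P.2 hg hA'ne
    rw [card_cj] at hB'lt
    have h1 : cj g⁻¹ (↑P ⊓ Subgroup.normalizer ((cj g A : Subgroup G) : Set G)) ≤
        Subgroup.normalizer (A : Set G) := by
      refine (cj_mono inf_le_right).trans ?_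
      rw [← normalizer_cj, cj_inv_cj]
    obtain ⟨y, hy, hy'⟩ := hR₀.exists_conj_le (isPGroup_cj g⁻¹ (P.2.to_le inf_le_left)) h1
    have h2 : cj (t * y * g⁻¹) (↑P ⊓ Subgroup.normalizer ((cj g A : Subgroup G) : Set G)) ≤ ↑P := by
      rw [cj_mul, cj_mul]
      exact (cj_mono hy').trans ht
    obtain ⟨h', hh', c', hc', e'⟩ := (IH _ inf_le_left hB'lt _ h2).mono
      (le_inf hg Subgroup.le_normalizer)
    obtain ⟨h₀, hh₀, c₀, hc₀, e₀⟩ := hL1 (t * y * t⁻¹) (conj_mem_normalizer_map t A hy)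
    refine ⟨h'⁻¹ * h₀ * h_t, mul_mem (mul_mem (inv_mem hh') hh₀) hh_t,
      c_t * (t⁻¹ * c₀ * t) * (g⁻¹ * c' * g)⁻¹,
      mul_mem (mul_mem hc_t (mem_centralizer_of_cj hc₀)) (inv_mem (mem_centralizer_of_cj hc')), ?_⟩
    have e1 : h' = t * y * g⁻¹ * c'⁻¹ := by rw [e']; group
    have e2 : h₀ = t * y * t⁻¹ * c₀⁻¹ := by rw [e₀]; group
    have e3 : h_t = t * c_t⁻¹ := by
      have : t * c_t⁻¹ = h_t * c_t * c_t⁻¹ := by rw [← ht_eq]
      rw [this]; group
    rw [e1, e2, e3]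
    group

/-- Control of strong fusion lifts from a normal subgroup. -/
theorem control_lift (N : Subgroup G) [hN : N.Normal] (P : Sylow p G) (H : Subgroup G)
    (hNQ : Subgroup.normalizer ((↑P ⊓ N : Subgroup G) : Set G) ≤ H)
    (hctrl : ∀ D : Subgroup G, D ≤ ↑P ⊓ N → ∀ n ∈ N, cj n D ≤ ↑P ⊓ N →
      ∃ h ∈ H ⊓ N, ∃ c ∈ N ⊓ Subgroup.centralizer (D : Set G), n = h * c) :
    ∀ A : Subgroup G, A ≤ ↑P → ∀ g : G, cj g A ≤ ↑P → InHC H A g := by
  have key : ∀ k : ℕ, ∀ A : Subgroup G, A ≤ ↑P → Nat.card (P : Subgroup G) ≤ Nat.card A + k →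
      ∀ g, cj g A ≤ ↑P → InHC H A g := by
    intro k
    induction k with
    | zero =>
      intro A hA hcard
      apply core N P H hNQ hctrl A hA
      intro B hB hlt
      exfalso
      have := Subgroup.card_le_of_le hB
      omega
    | succ k ih =>
      intro A hA hcard
      apply core N P H hNQ hctrl A hA
      intro B hB hlt
      exact ih B hB (by omega)
  intro A hA g hg
  exact key (Nat.card (P : Subgroup G)) A hA (by omega) g hg

/-- The intersection trick: control by each of finitely many normalizers gives control by their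
intersection. -/
theorem control_finset (N Q : Subgroup G) (s : Finset (Subgroup G))
    (hs : ∀ V' ∈ s, ∀ A : Subgroup G, A ≤ Q → ∀ n ∈ N, cj n A ≤ Q →
      ∃ h ∈ N ⊓ Subgroup.normalizer (V' : Set G), ∃ c ∈ N ⊓ Subgroup.centralizer (A : Set G),
        n = h * c)
    (hsQ : ∀ V' ∈ s, V' ≤ Q) :
    ∀ A : Subgroup G, A ≤ Q → ∀ n ∈ N, cj n A ≤ Q →
      ∃ h ∈ N, (∀ V' ∈ s, h ∈ Subgroup.normalizer (V' : Set G)) ∧
        ∃ c ∈ N ⊓ Subgroup.centralizer (A : Set G), n = h * c := by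
  classical
  induction s using Finset.induction_on with
  | empty =>
    intro A _ n hn _
    exact ⟨n, hn, by simp, 1, one_mem _, (mul_one n).symm⟩
  | insert V₀ s hV₀ ih =>
    intro A hA n hn hnA
    have ih' := ih (fun V' hV' => hs V' (Finset.mem_insert_of_mem hV'))
      (fun V' hV' => hsQ V' (Finset.mem_insert_of_mem hV'))
    obtain ⟨h₀, hh₀, c₀, hc₀, rfl⟩ := hs V₀ (Finset.mem_insert_self V₀ s) A hA n hn hnA
    rw [Subgroup.mem_inf] at hh₀ hc₀
    have hV₀Q : V₀ ≤ Q := hsQ V₀ (Finset.mem_insert_self V₀ s)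
    have h1 : cj h₀ (A ⊔ V₀) ≤ Q := by
      rw [cj_sup, cj_eq_of_mem_normalizer hh₀.2]
      refine sup_le ?_ hV₀Q
      rw [cj_mul, cj_eq_of_mem_centralizer hc₀.2] at hnA
      exact hnA
    obtain ⟨h₁, hh₁, hh₁s, c₁, hc₁, e⟩ := ih' (A ⊔ V₀) (sup_le hA hV₀Q) h₀ hh₀.1 h1
    rw [Subgroup.mem_inf] at hc₁
    have hc₁A : c₁ ∈ Subgroup.centralizer (A : Set G) :=
      Subgroup.centralizer_le (by exact_mod_cast (le_sup_left : A ≤ A ⊔ V₀)) hc₁.2
    have hc₁V : c₁ ∈ Subgroup.centralizer (V₀ : Set G) :=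
      Subgroup.centralizer_le (by exact_mod_cast (le_sup_right : V₀ ≤ A ⊔ V₀)) hc₁.2
    refine ⟨h₁, hh₁, ?_, c₁ * c₀, Subgroup.mem_inf.mpr ⟨mul_mem hc₁.1 hc₀.1, mul_mem hc₁A hc₀.2⟩, ?_⟩
    · intro V' hV'
      rcases Finset.mem_insert.mp hV' with rfl | hV'
      · have e2 : h₁ = h₀ * c₁⁻¹ := by rw [e]; group
        rw [e2]
        exact mul_mem hh₀.2 (inv_mem (Subgroup.centralizer_le_normalizer _ hc₁V))
      · exact hh₁s V' hV'
    · rw [e]; group

/-- The hypothesis for `V` gives the same hypothesis for `x V x⁻¹`, `x ∈ N_G(Q)`. -/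
theorem ctrl_conj (N : Subgroup G) [hN : N.Normal] (Q V : Subgroup G)
    (hctrl : ∀ A : Subgroup G, A ≤ Q → ∀ n ∈ N, cj n A ≤ Q →
      ∃ h ∈ N ⊓ Subgroup.normalizer (V : Set G), ∃ c ∈ N ⊓ Subgroup.centralizer (A : Set G),
        n = h * c)
    (x : G) (hx : x ∈ Subgroup.normalizer (Q : Set G)) :
    ∀ A : Subgroup G, A ≤ Q → ∀ n ∈ N, cj n A ≤ Q →
      ∃ h ∈ N ⊓ Subgroup.normalizer ((cj x V : Subgroup G) : Set G),
        ∃ c ∈ N ⊓ Subgroup.centralizer (A : Set G), n = h * c := by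
  intro A hA n hn hnA
  have hxQ : cj x⁻¹ Q = Q := cj_eq_of_mem_normalizer (inv_mem hx)
  have hA' : cj x⁻¹ A ≤ Q := by
    have := cj_mono (g := x⁻¹) hA
    rwa [hxQ] at this
  have hn' : x⁻¹ * n * x ∈ N := by
    have := hN.conj_mem n hn x⁻¹
    rwa [inv_inv] at this
  have hnA' : cj (x⁻¹ * n * x) (cj x⁻¹ A) ≤ Q := by
    rw [← cj_mul]
    have e : x⁻¹ * n * x * x⁻¹ = x⁻¹ * n := by group
    rw [e, cj_mul]
    have := cj_mono (g := x⁻¹) hnA
    rwa [hxQ] at this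
  obtain ⟨h', hh', c', hc', e⟩ := hctrl _ hA' _ hn' hnA'
  rw [Subgroup.mem_inf] at hh' hc'
  refine ⟨x * h' * x⁻¹, Subgroup.mem_inf.mpr ⟨hN.conj_mem h' hh'.1 x,
    conj_mem_normalizer_map x V hh'.2⟩, x * c' * x⁻¹, Subgroup.mem_inf.mpr ⟨hN.conj_mem c' hc'.1 x, ?_⟩, ?_⟩
  · have := conj_mem_centralizer_cj (g := x) hc'.2
    rwa [cj_cj_inv] at this
  · have e2 : n = x * (x⁻¹ * n * x) * x⁻¹ := by group
    rw [e2, e]; group

end lift

/-- Let N be a normal subgroup of the finite group G, P a Sylow p-subgroup of G, and V a subgroup of P ∩ N normal in P ∩ N such that N_N(V) controls strong fusion in P ∩ N with respect to N (whenever a subgroup A of P ∩ N has n A n⁻¹ ≤ P ∩ N for some n in N, then n = h c with h in N_N(V) and c in C_N(A)). Let W be the subgroup generated by the conjugates of V under N_G(P ∩ N). Then N_G(W) controls strong fusion in P with respect to G. -/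
theorem result {G : Type*} [Group G] [Finite G] {p : ℕ} [Fact p.Prime] (N : Subgroup G) [N.Normal] (P : Sylow p G) (V : Subgroup G)
    (hV : V ≤ (P : Subgroup G) ⊓ N) (hVn : ∀ x ∈ (P : Subgroup G) ⊓ N, V.map (MulAut.conj x).toMonoidHom = V)
    (hctrl : ∀ A : Subgroup G, A ≤ (P : Subgroup G) ⊓ N → ∀ n ∈ N, A.map (MulAut.conj n).toMonoidHom ≤ (P : Subgroup G) ⊓ N →
      ∃ h ∈ N ⊓ Subgroup.normalizer (V : Set G), ∃ c ∈ N ⊓ Subgroup.centralizer (A : Set G), n = h * c)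
    (W : Subgroup G) (hW : W = Subgroup.closure (⋃ x ∈ Subgroup.normalizer (((P : Subgroup G) ⊓ N : Subgroup G) : Set G),
      ((V.map (MulAut.conj x).toMonoidHom : Subgroup G) : Set G))) :
    ∀ A : Subgroup G, A ≤ (P : Subgroup G) → ∀ g : G, A.map (MulAut.conj g).toMonoidHom ≤ (P : Subgroup G) →
        ∃ h ∈ Subgroup.normalizer (W : Set G), ∃ c ∈ Subgroup.centralizer (A : Set G), g = h * c := by
  classical
  -- elements normalizing every generator normalize `W`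
  have hWnorm : ∀ g : G, (∀ x ∈ Subgroup.normalizer (((P : Subgroup G) ⊓ N : Subgroup G) : Set G),
      ∃ x' ∈ Subgroup.normalizer (((P : Subgroup G) ⊓ N : Subgroup G) : Set G),
        cj g (cj x V) = cj x' V) → g ∈ Subgroup.normalizer (W : Set G) := by
    intro g hg
    apply mem_normalizer_of_conj_mem
    rw [hW]
    apply conj_mem_closure
    intro w hw
    obtain ⟨x, hx, hwx⟩ := Set.mem_iUnion₂.mp hw
    obtain ⟨x', hx', e⟩ := hg x hx
    apply Subgroup.subset_closure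
    refine Set.mem_iUnion₂.mpr ⟨x', hx', ?_⟩
    have h1 : g * w * g⁻¹ ∈ cj g (cj x V) := conj_mem_cj hwx
    rw [e] at h1
    exact h1
  have hNQ : Subgroup.normalizer (((P : Subgroup G) ⊓ N : Subgroup G) : Set G) ≤
      Subgroup.normalizer (W : Set G) := by
    intro y hy
    apply hWnorm
    intro x hx
    exact ⟨y * x, mul_mem hy hx, (cj_mul y x V).symm⟩
  -- the family of conjugates of `V`
  obtain ⟨s, hs⟩ : ∃ s : Finset (Subgroup G), ∀ V' : Subgroup G, V' ∈ s ↔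
      ∃ x ∈ Subgroup.normalizer (((P : Subgroup G) ⊓ N : Subgroup G) : Set G), V' = cj x V :=
    ⟨(Set.toFinite {V' : Subgroup G | ∃ x ∈ Subgroup.normalizer
      (((P : Subgroup G) ⊓ N : Subgroup G) : Set G), V' = cj x V}).toFinset,
      fun V' => by rw [Set.Finite.mem_toFinset]; rfl⟩
  have hfin := control_finset N ((P : Subgroup G) ⊓ N) s
    (by
      intro V' hV'
      obtain ⟨x, hx, rfl⟩ := (hs V').mp hV'
      exact ctrl_conj N _ V hctrl x hx)
    (by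
      intro V' hV'
      obtain ⟨x, hx, rfl⟩ := (hs V').mp hV'
      have := cj_mono (g := x) hV
      rwa [cj_eq_of_mem_normalizer hx] at this)
  have hctrl' : ∀ D : Subgroup G, D ≤ ↑P ⊓ N → ∀ n ∈ N, cj n D ≤ ↑P ⊓ N →
      ∃ h ∈ Subgroup.normalizer (W : Set G) ⊓ N,
        ∃ c ∈ N ⊓ Subgroup.centralizer (D : Set G), n = h * c := by
    intro D hD n hn hnD
    obtain ⟨h, hh, hhs, c, hc, e⟩ := hfin D hD n hn hnD
    refine ⟨h, Subgroup.mem_inf.mpr ⟨?_, hh⟩, c, hc, e⟩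
    apply hWnorm
    intro x hx
    exact ⟨x, hx, cj_eq_of_mem_normalizer (hhs _ ((hs _).mpr ⟨x, hx, rfl⟩))⟩
  exact control_lift N P (Subgroup.normalizer (W : Set G)) hNQ hctrl'

end Cfsg.Agent.S1954
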