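import Mathlib
import Cfsg.Agent.S1954
import Cfsg.Agent.S0058
import Cfsg.Agent.Lib.helper1.Coprime
import Cfsg.Agent.Lib.helper12.ProdCard

set_option autoImplicit false
set_option linter.unusedSectionVars false
open scoped Pointwise
open Cfsg

namespace Cfsg.Agent.S1287

open Cfsg.Agent.S1954 Cfsg.Agent.Lib.helper55

section general

variable {G : Type*} [Group G] [Finite G]

theorem le_normalizer_inf {A U V : Subgroup G} (hU : A ≤ Subgroup.normalizer (U : Set G))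
    (hV : A ≤ Subgroup.normalizer (V : Set G)) :
    A ≤ Subgroup.normalizer ((U ⊓ V : Subgroup G) : Set G) := by
  intro b hb
  apply mem_normalizer_of_conj_mem
  intro z hz
  rw [Subgroup.mem_inf] at hz ⊢
  exact ⟨(Subgroup.mem_normalizer_iff.mp (hU hb) z).mp hz.1,
    (Subgroup.mem_normalizer_iff.mp (hV hb) z).mp hz.2⟩

theorem le_normalizer_sup {A U V : Subgroup G} (hU : A ≤ Subgroup.normalizer (U : Set G))
    (hV : A ≤ Subgroup.normalizer (V : Set G)) :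
    A ≤ Subgroup.normalizer ((U ⊔ V : Subgroup G) : Set G) := by
  intro b hb
  rw [mem_normalizer_iff_map_conj]
  have h := cj_sup b U V
  rw [cj_eq_of_mem_normalizer (hU hb), cj_eq_of_mem_normalizer (hV hb)] at h
  exact h

theorem card_eq_of_factor {W U₁ U₂ : Subgroup G} (h₁ : U₁ ≤ W) (h₂ : U₂ ≤ W)
    (h : ∀ w ∈ W, ∃ x ∈ U₁, ∃ y ∈ U₂, w = x * y) :
    Nat.card W * Nat.card (U₁ ⊓ U₂ : Subgroup G) = Nat.card U₁ * Nat.card U₂ := by
  have hset : (U₁ : Set G) * (U₂ : Set G) = (W : Set G) := by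
    ext w; constructor
    · rintro ⟨x, hx, y, hy, rfl⟩; exact mul_mem (h₁ hx) (h₂ hy)
    · intro hw; obtain ⟨x, hx, y, hy, rfl⟩ := h w hw; exact Set.mul_mem_mul hx hy
  have := Cfsg.Agent.Lib.helper12.card_mul_set_mul_card_inf U₁ U₂
  rw [hset] at this
  exact this

theorem factor_of_card_eq {W U₁ U₂ : Subgroup G} (h₁ : U₁ ≤ W) (h₂ : U₂ ≤ W)
    (h : Nat.card W * Nat.card (U₁ ⊓ U₂ : Subgroup G) = Nat.card U₁ * Nat.card U₂) :
    ∀ w ∈ W, ∃ x ∈ U₁, ∃ y ∈ U₂, w = x * y := by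
  have h0 := Cfsg.Agent.Lib.helper12.card_mul_set_mul_card_inf U₁ U₂
  have hsub : (U₁ : Set G) * (U₂ : Set G) ⊆ (W : Set G) := by
    rintro _ ⟨x, hx, y, hy, rfl⟩; exact mul_mem (h₁ hx) (h₂ hy)
  have hcard : Nat.card ((U₁ : Set G) * (U₂ : Set G) : Set G) = Nat.card (W : Set G) := by
    have hpos : 0 < Nat.card (U₁ ⊓ U₂ : Subgroup G) := Nat.card_pos
    exact Nat.eq_of_mul_eq_mul_right hpos (h0.trans h.symm)
  have hEq : (U₁ : Set G) * (U₂ : Set G) = (W : Set G) := by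
    apply Set.eq_of_subset_of_ncard_le hsub _ (Set.toFinite _)
    rw [← Nat.card_coe_set_eq, ← Nat.card_coe_set_eq]; exact hcard.ge
  intro w hw
  have hw' : w ∈ (U₁ : Set G) * (U₂ : Set G) := by rw [hEq]; exact hw
  obtain ⟨x, hx, y, hy, e⟩ := Set.mem_mul.mp hw'
  exact ⟨x, hx, y, hy, e.symm⟩

end general

section coprime

variable {G : Type*} [Group G] [Finite G] {q : ℕ} [Fact q.Prime]

theorem exists_inv_sylIn_ge (A K : Subgroup G) (hAK : A ≤ Subgroup.normalizer (K : Set G))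
    (hcop : (Nat.card A).Coprime (Nat.card K)) (hsolv : Group.IsSolvable A)
    (U : Subgroup G) (hUK : U ≤ K) (hU : IsPGroup q U)
    (hUA : A ≤ Subgroup.normalizer (U : Set G)) :
    ∃ Q : Subgroup G, U ≤ Q ∧ SylIn q Q K ∧ A ≤ Subgroup.normalizer (Q : Set G) := by
  obtain ⟨P, hUP, hPA⟩ := Cfsg.Agent.Lib.helper1.exists_invariant_sylow_ge A K hAK hcop
    (Or.inl hsolv) U hUK hU hUA
  exact ⟨_, hUP, (exists_sylow_map_subtype_iff K _).mp ⟨P, rfl⟩, hPA⟩

theorem inv_sylIn_conj (A K : Subgroup G) (hAK : A ≤ Subgroup.normalizer (K : Set G))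
    (hcop : (Nat.card A).Coprime (Nat.card K)) (hsolv : Group.IsSolvable A)
    {Q Q' : Subgroup G} (hQ : SylIn q Q K) (hQ' : SylIn q Q' K)
    (hQA : A ≤ Subgroup.normalizer (Q : Set G)) (hQ'A : A ≤ Subgroup.normalizer (Q' : Set G)) :
    ∃ c ∈ K ⊓ Subgroup.centralizer (A : Set G), cj c Q = Q' := by
  obtain ⟨P, rfl⟩ := (exists_sylow_map_subtype_iff (p := q) K Q).mpr hQ
  obtain ⟨P', rfl⟩ := (exists_sylow_map_subtype_iff (p := q) K Q').mpr hQ'
  obtain ⟨c, hc, e⟩ := Cfsg.Agent.Lib.helper1.invariant_sylow_conj A K hAK hcop (Or.inl hsolv)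
    P P' hQA hQ'A
  exact ⟨c, hc, e⟩

theorem le_normalizer_centralizer_singleton (A : Subgroup G) [hc : IsMulCommutative A] {a : G}
    (ha : a ∈ A) :
    A ≤ Subgroup.normalizer ((Subgroup.centralizer ({a} : Set G) : Subgroup G) : Set G) := by
  intro b hb
  apply mem_normalizer_of_conj_mem
  intro c hc'
  rw [Subgroup.mem_centralizer_iff] at hc' ⊢
  intro h hh
  rw [Set.mem_singleton_iff] at hh
  subst hh
  have hab : h * b = b * h := congrArg Subtype.val (hc.is_comm.comm (⟨h, ha⟩ : A) ⟨b, hb⟩)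
  have hac : h * c = c * h := hc' h rfl
  have hab' : h * b⁻¹ = b⁻¹ * h := by
    have : b⁻¹ * (h * b) * b⁻¹ = b⁻¹ * (b * h) * b⁻¹ := by rw [hab]
    have e1 : b⁻¹ * (h * b) * b⁻¹ = b⁻¹ * h := by group
    have e2 : b⁻¹ * (b * h) * b⁻¹ = h * b⁻¹ := by group
    rw [e1, e2] at this
    exact this.symm
  calc h * (b * c * b⁻¹) = (h * b) * c * b⁻¹ := by group
    _ = b * (h * c) * b⁻¹ := by rw [hab]; group
    _ = b * c * (h * b⁻¹) := by rw [hac]; group
    _ = b * c * b⁻¹ * h := by rw [hab']; group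

/-- For an `A`-invariant Sylow subgroup `Q` of `K` (coprime action, `A` abelian), `C_Q(a)` is a
Sylow subgroup of `C_K(a)`. -/
theorem sylIn_centralizer (A K : Subgroup G) [IsMulCommutative A]
    (hAK : A ≤ Subgroup.normalizer (K : Set G))
    (hcop : (Nat.card A).Coprime (Nat.card K)) (hsolv : Group.IsSolvable A)
    {Q : Subgroup G} (hQ : SylIn q Q K) (hQA : A ≤ Subgroup.normalizer (Q : Set G))
    (a : G) (ha : a ∈ A) :
    SylIn q (Q ⊓ Subgroup.centralizer {a}) (K ⊓ Subgroup.centralizer {a}) := by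
  have hAC := le_normalizer_centralizer_singleton A ha
  have hAKa := le_normalizer_inf hAK hAC
  have hAQa := le_normalizer_inf hQA hAC
  have hcop' : (Nat.card A).Coprime (Nat.card (K ⊓ Subgroup.centralizer {a} : Subgroup G)) :=
    hcop.coprime_dvd_right (Subgroup.card_dvd_of_le inf_le_left)
  obtain ⟨R, hUR, hR, hRA⟩ := exists_inv_sylIn_ge A (K ⊓ Subgroup.centralizer {a}) hAKa hcop'
    hsolv (Q ⊓ Subgroup.centralizer {a}) (inf_le_inf_right _ hQ.1)
    (hQ.isPGroup.to_le inf_le_left) hAQa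
  obtain ⟨Q', hRQ', hQ', hQ'A⟩ := exists_inv_sylIn_ge A K hAK hcop hsolv R
    (hR.1.trans inf_le_left) hR.isPGroup hRA
  obtain ⟨c, hc, e⟩ := inv_sylIn_conj A K hAK hcop hsolv hQ hQ' hQA hQ'A
  have hca : a * c = c * a := (Subgroup.mem_centralizer_iff.mp (Subgroup.mem_inf.mp hc).2) a ha
  have hRle : R ≤ cj c (Q ⊓ Subgroup.centralizer {a}) := by
    intro r hr
    rw [mem_cj, Subgroup.mem_inf]
    have hr1 : r ∈ cj c Q := by rw [e]; exact hRQ' hr
    refine ⟨(mem_cj c Q r).mp hr1, ?_⟩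
    have hra : a * r = r * a :=
      (Subgroup.mem_centralizer_iff.mp (Subgroup.mem_inf.mp (hR.1 hr)).2) a rfl
    rw [Subgroup.mem_centralizer_iff]
    intro h hh
    rw [Set.mem_singleton_iff] at hh
    subst hh
    have hca' : h * c⁻¹ = c⁻¹ * h := by
      have : c⁻¹ * (h * c) * c⁻¹ = c⁻¹ * (c * h) * c⁻¹ := by rw [hca]
      have e1 : c⁻¹ * (h * c) * c⁻¹ = c⁻¹ * h := by group
      have e2 : c⁻¹ * (c * h) * c⁻¹ = h * c⁻¹ := by group
      rw [e1, e2] at this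
      exact this.symm
    calc h * (c⁻¹ * r * c) = (h * c⁻¹) * r * c := by group
      _ = c⁻¹ * (h * r) * c := by rw [hca']; group
      _ = c⁻¹ * r * (h * c) := by rw [hra]; group
      _ = c⁻¹ * r * c * h := by rw [hca]; group
  refine ⟨inf_le_inf_right _ hQ.1, ?_⟩
  have h1 : Nat.card R ≤ Nat.card (Q ⊓ Subgroup.centralizer {a} : Subgroup G) :=
    (Subgroup.card_le_of_le hRle).trans (card_cj c _).le
  have h2 := Subgroup.card_le_of_le hUR
  rw [← hR.2]; exact le_antisymm h2 h1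

end coprime

section qgroup

variable {G : Type*} [Group G] [Finite G] {q : ℕ} [Fact q.Prime]

/-- The elements of `Q` that are central modulo `N`. -/
def centMod (Q N : Subgroup G) (hN : Q ≤ Subgroup.normalizer (N : Set G)) : Subgroup G where
  carrier := {x | x ∈ Q ∧ ∀ g ∈ Q, x * g * x⁻¹ * g⁻¹ ∈ N}
  one_mem' := ⟨one_mem _, fun g _ => by simp⟩
  mul_mem' := by
    rintro x y ⟨hx, hx'⟩ ⟨hy, hy'⟩
    refine ⟨mul_mem hx hy, fun g hg => ?_⟩
    have e : x * y * g * (x * y)⁻¹ * g⁻¹ = x * (y * g * y⁻¹ * g⁻¹) * x⁻¹ * (x * g * x⁻¹ * g⁻¹) := by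
      group
    rw [e]
    exact mul_mem ((Subgroup.mem_normalizer_iff.mp (hN hx) _).mp (hy' g hg)) (hx' g hg)
  inv_mem' := by
    rintro x ⟨hx, hx'⟩
    refine ⟨inv_mem hx, fun g hg => ?_⟩
    have e : x⁻¹ * g * x⁻¹⁻¹ * g⁻¹ = x⁻¹ * (x * g * x⁻¹ * g⁻¹)⁻¹ * x⁻¹⁻¹ := by group
    rw [e]
    exact (Subgroup.mem_normalizer_iff.mp (hN (inv_mem hx)) _).mp (inv_mem (hx' g hg))

theorem mem_centMod {Q N : Subgroup G} {hN : Q ≤ Subgroup.normalizer (N : Set G)} {x : G} :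
    x ∈ centMod Q N hN ↔ x ∈ Q ∧ ∀ g ∈ Q, x * g * x⁻¹ * g⁻¹ ∈ N := Iff.rfl

theorem centMod_le {Q N : Subgroup G} (hN : Q ≤ Subgroup.normalizer (N : Set G)) :
    centMod Q N hN ≤ Q := fun _ hx => hx.1

theorem exists_centMod_not_mem {Q N : Subgroup G} (hQ : IsPGroup q Q) (hNQ : N ≤ Q)
    (hN : Q ≤ Subgroup.normalizer (N : Set G)) (hne : N ≠ Q) :
    ∃ z ∈ centMod Q N hN, z ∉ N := by
  have hnorm : (N.subgroupOf Q).Normal := (Subgroup.normal_subgroupOf_iff_le_normalizer hNQ).mpr hN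
  have hq : IsPGroup q (Q ⧸ N.subgroupOf Q) := hQ.to_quotient _
  have hnt : Nontrivial (Q ⧸ N.subgroupOf Q) := by
    rw [QuotientGroup.nontrivial_iff]
    intro htop
    exact hne (le_antisymm hNQ (Subgroup.subgroupOf_eq_top.mp htop))
  have hcen := hq.center_nontrivial
  obtain ⟨⟨zb, hzb⟩, hzb1⟩ := exists_ne (1 : Subgroup.center (Q ⧸ N.subgroupOf Q))
  obtain ⟨z, rfl⟩ := QuotientGroup.mk_surjective zb
  refine ⟨z, ⟨z.2, fun g hg => ?_⟩, ?_⟩
  · have h1 := (Subgroup.mem_center_iff.mp hzb) (QuotientGroup.mk (⟨g, hg⟩ : Q))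
    have h2 : (QuotientGroup.mk (z * ⟨g, hg⟩ * z⁻¹ * (⟨g, hg⟩ : Q)⁻¹) : Q ⧸ N.subgroupOf Q) = 1 := by
      rw [QuotientGroup.mk_mul, QuotientGroup.mk_mul, QuotientGroup.mk_mul, QuotientGroup.mk_inv,
        QuotientGroup.mk_inv, ← h1]
      group
    have h3 := (QuotientGroup.eq_one_iff _).mp h2
    rw [Subgroup.mem_subgroupOf] at h3
    simpa using h3
  · intro hzN
    apply hzb1
    apply Subtype.ext
    exact (QuotientGroup.eq_one_iff _).mpr (Subgroup.mem_subgroupOf.mpr hzN)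

/-- The nilpotent case of the factorization lemma, relative to a normal subgroup `N`. -/
theorem qgroup_factor (A Q Q₁ Q₂ : Subgroup G) [hAc : IsMulCommutative A] (hA : ¬ IsCyclic A)
    (hAQ : A ≤ Subgroup.normalizer (Q : Set G)) (hcop : (Nat.card A).Coprime (Nat.card Q))
    (hQ : IsPGroup q Q) (h₁ : Q₁ ≤ Q) (h₂ : Q₂ ≤ Q) :
    ∀ m : ℕ, ∀ N : Subgroup G, N ≤ Q → Q ≤ Subgroup.normalizer (N : Set G) →
      A ≤ Subgroup.normalizer (N : Set G) → Nat.card Q ≤ Nat.card N + m →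
      (∀ a ∈ A, a ≠ 1 → ∀ c ∈ Q ⊓ Subgroup.centralizer {a},
        ∃ x ∈ Q₁, ∃ y ∈ Q₂, ∃ n ∈ N, c = x * y * n) →
      ∀ g ∈ Q, ∃ x ∈ Q₁, ∃ y ∈ Q₂, ∃ n ∈ N, g = x * y * n := by
  intro m
  induction m with
  | zero =>
    intro N hNQ _ _ hcard _ g hg
    have hNeq : N = Q := Subgroup.eq_of_le_of_card_ge hNQ (by simpa using hcard)
    exact ⟨1, one_mem _, 1, one_mem _, g, by rw [hNeq]; exact hg, by simp⟩
  | succ m ih =>
    intro N hNQ hN hAN hcard hfac g hg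
    by_cases hNeq : N = Q
    · exact ⟨1, one_mem _, 1, one_mem _, g, by rw [hNeq]; exact hg, by simp⟩
    -- the subgroup of elements central modulo `N`
    have hconjN : ∀ u ∈ Q, ∀ n ∈ N, u * n * u⁻¹ ∈ N :=
      fun u hu n hn => (Subgroup.mem_normalizer_iff.mp (hN hu) n).mp hn
    have hAZ : A ≤ Subgroup.normalizer ((centMod Q N hN : Subgroup G) : Set G) := by
      intro b hb
      apply mem_normalizer_of_conj_mem
      intro x hx
      rw [mem_centMod] at hx ⊢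
      refine ⟨(Subgroup.mem_normalizer_iff.mp (hAQ hb) x).mp hx.1, fun g hg => ?_⟩
      have hg' : b⁻¹ * g * b⁻¹⁻¹ ∈ Q := (Subgroup.mem_normalizer_iff.mp (hAQ (inv_mem hb)) g).mp hg
      have h1 := hx.2 _ hg'
      have h2 := (Subgroup.mem_normalizer_iff.mp (hAN hb) _).mp h1
      have e : b * x * b⁻¹ * g * (b * x * b⁻¹)⁻¹ * g⁻¹ =
          b * (x * (b⁻¹ * g * b⁻¹⁻¹) * x⁻¹ * (b⁻¹ * g * b⁻¹⁻¹)⁻¹) * b⁻¹ := by group
      rw [e]; exact h2
    have hcopZ : (Nat.card A).Coprime (Nat.card (centMod Q N hN)) :=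
      hcop.coprime_dvd_right (Subgroup.card_dvd_of_le (centMod_le hN))
    have hgen := Cfsg.Agent.S0058.result A (centMod Q N hN) hA hAZ hcopZ
    obtain ⟨z₀, hz₀, hz₀N⟩ := exists_centMod_not_mem hQ hNQ hN hNeq
    have hex : ∃ a ∈ A, a ≠ 1 ∧ ∃ z ∈ centMod Q N hN ⊓ Subgroup.centralizer {a}, z ∉ N := by
      by_contra hcon
      push Not at hcon
      apply hz₀N
      rw [← hgen] at hz₀
      have hle : (⨆ a ∈ {a : G | a ∈ A ∧ a ≠ 1}, centMod Q N hN ⊓ Subgroup.centralizer {a}) ≤ N := by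
        apply iSup₂_le
        intro a ha z hz
        exact hcon a ha.1 ha.2 z hz
      exact hle hz₀
    obtain ⟨a, ha, ha1, z, hz, hzN⟩ := hex
    obtain ⟨T, hTdef⟩ : ∃ T : Subgroup G, T = centMod Q N hN ⊓ Subgroup.centralizer {a} := ⟨_, rfl⟩
    rw [← hTdef] at hz
    have hTmem : ∀ t, t ∈ T ↔ (t ∈ Q ∧ ∀ g ∈ Q, t * g * t⁻¹ * g⁻¹ ∈ N) ∧
        t ∈ Subgroup.centralizer ({a} : Set G) := by
      intro t; rw [hTdef, Subgroup.mem_inf, mem_centMod]
    have hTQ : T ≤ Q := fun t ht => ((hTmem t).mp ht).1.1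
    have hTN : T ≤ Subgroup.normalizer (N : Set G) := hTQ.trans hN
    have hset := Subgroup.coe_mul_of_right_le_normalizer_left N T hTN
    have hAT : A ≤ Subgroup.normalizer (T : Set G) := by
      rw [hTdef]
      exact le_normalizer_inf hAZ (le_normalizer_centralizer_singleton A ha)
    have hN'Q : N ⊔ T ≤ Q := sup_le hNQ hTQ
    have hN' : Q ≤ Subgroup.normalizer ((N ⊔ T : Subgroup G) : Set G) := by
      intro u hu
      apply mem_normalizer_of_conj_mem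
      intro w hw
      have hw' : w ∈ ((N ⊔ T : Subgroup G) : Set G) := hw
      rw [hset] at hw'
      obtain ⟨n, hn, t, ht, rfl⟩ := Set.mem_mul.mp hw'
      have ht' := (hTmem t).mp ht
      have h1 : t * u⁻¹ * t⁻¹ * u⁻¹⁻¹ ∈ N := ht'.1.2 u⁻¹ (inv_mem hu)
      have h2 : u * (t * u⁻¹ * t⁻¹ * u⁻¹⁻¹) * u⁻¹ ∈ N := hconjN u hu _ h1
      have e : u * (n * t) * u⁻¹ = (u * n * u⁻¹) * (u * (t * u⁻¹ * t⁻¹ * u⁻¹⁻¹) * u⁻¹) * t := by group
      rw [e]
      exact mul_mem (Subgroup.mem_sup_left (mul_mem (hconjN u hu n hn) h2)) (Subgroup.mem_sup_right ht)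
    have hAN' : A ≤ Subgroup.normalizer ((N ⊔ T : Subgroup G) : Set G) := le_normalizer_sup hAN hAT
    have hlt : Nat.card N < Nat.card (N ⊔ T : Subgroup G) :=
      card_lt_of_le_of_not_mem le_sup_left (Subgroup.mem_sup_right hz) hzN
    have hfac' : ∀ a ∈ A, a ≠ 1 → ∀ c ∈ Q ⊓ Subgroup.centralizer {a},
        ∃ x ∈ Q₁, ∃ y ∈ Q₂, ∃ n ∈ N ⊔ T, c = x * y * n := by
      intro b hb hb1 c hc
      obtain ⟨x, hx, y, hy, n, hn, e⟩ := hfac b hb hb1 c hc
      exact ⟨x, hx, y, hy, n, Subgroup.mem_sup_left hn, e⟩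
    obtain ⟨x, hx, y, hy, n', hn', rfl⟩ := ih (N ⊔ T) hN'Q hN' hAN' (by omega) hfac' g hg
    have hn'' : n' ∈ ((N ⊔ T : Subgroup G) : Set G) := hn'
    rw [hset] at hn''
    obtain ⟨n, hn, t, ht, rfl⟩ := Set.mem_mul.mp hn''
    have ht' := (hTmem t).mp ht
    obtain ⟨x₀, hx₀, y₀, hy₀, n₀, hn₀, ht_eq⟩ := hfac a ha ha1 t
      (Subgroup.mem_inf.mpr ⟨ht'.1.1, ht'.2⟩)
    have hyQ : y ∈ Q := h₂ hy
    have htQ : t ∈ Q := ht'.1.1
    refine ⟨x * x₀, mul_mem hx hx₀, y₀ * y, mul_mem hy₀ hy,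
      (y₀ * y)⁻¹ * (x * x₀)⁻¹ * (x * y * (n * t)), ?_, by group⟩
    have e : (y₀ * y)⁻¹ * (x * x₀)⁻¹ * (x * y * (n * t)) =
        (y⁻¹ * n₀ * y⁻¹⁻¹) * ((t * y)⁻¹ * (t * y * t⁻¹ * y⁻¹)⁻¹ * (t * y)⁻¹⁻¹) * (t⁻¹ * n * t⁻¹⁻¹) := by
      have hx₀y₀ : y₀⁻¹ * x₀⁻¹ = n₀ * t⁻¹ := by rw [ht_eq]; group
      calc (y₀ * y)⁻¹ * (x * x₀)⁻¹ * (x * y * (n * t))
          = y⁻¹ * (y₀⁻¹ * x₀⁻¹) * y * n * t := by group
        _ = y⁻¹ * (n₀ * t⁻¹) * y * n * t := by rw [hx₀y₀]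
        _ = _ := by group
    rw [e]
    refine mul_mem (mul_mem (hconjN _ (inv_mem hyQ) _ hn₀) ?_) (hconjN _ (inv_mem htQ) _ hn)
    exact hconjN _ (inv_mem (mul_mem htQ hyQ)) _ (inv_mem (ht'.1.2 y hyQ))

end qgroup

section assemble

variable {G : Type*} [Group G] [Finite G]

theorem le_normalizer_bot (A : Subgroup G) :
    A ≤ Subgroup.normalizer ((⊥ : Subgroup G) : Set G) := by
  intro b _
  apply mem_normalizer_of_conj_mem
  intro z hz
  rw [Subgroup.mem_bot] at hz ⊢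
  rw [hz]; group

theorem vq_eq (A K X Y : Subgroup G) [hAc : IsMulCommutative A]
    (hAnc : ¬ IsCyclic A) (hsolv : Group.IsSolvable A) (hcop : (Nat.card A).Coprime (Nat.card K))
    (hAK : A ≤ Subgroup.normalizer (K : Set G)) (hX : X ≤ K) (hY : Y ≤ K)
    (hAX : A ≤ Subgroup.normalizer (X : Set G)) (hAY : A ≤ Subgroup.normalizer (Y : Set G))
    (hCX : K ⊓ Subgroup.centralizer (A : Set G) ≤ Subgroup.normalizer (X : Set G))
    (hfac : ∀ a ∈ A, a ≠ 1 → ∀ c ∈ K ⊓ Subgroup.centralizer {a},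
      ∃ x ∈ X ⊓ Subgroup.centralizer {a}, ∃ y ∈ Y ⊓ Subgroup.centralizer {a}, c = x * y)
    (q : ℕ) [Fact q.Prime] :
    (Nat.card K).factorization q + (Nat.card (X ⊓ Y : Subgroup G)).factorization q =
      (Nat.card X).factorization q + (Nat.card Y).factorization q := by
  have hq : q.Prime := Fact.out
  have hcopX : (Nat.card A).Coprime (Nat.card X) :=
    hcop.coprime_dvd_right (Subgroup.card_dvd_of_le hX)
  have hcopY : (Nat.card A).Coprime (Nat.card Y) :=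
    hcop.coprime_dvd_right (Subgroup.card_dvd_of_le hY)
  have hcopXY : (Nat.card A).Coprime (Nat.card (X ⊓ Y : Subgroup G)) :=
    hcop.coprime_dvd_right (Subgroup.card_dvd_of_le (inf_le_left.trans hX))
  have hAXY := le_normalizer_inf hAX hAY
  have hbotA := le_normalizer_bot A
  obtain ⟨Q0, -, hQ0, hQ0A⟩ := exists_inv_sylIn_ge (q := q) A (X ⊓ Y) hAXY hcopXY hsolv ⊥ bot_le
    IsPGroup.of_bot hbotA
  obtain ⟨QY, hQ0Y, hQY, hQYA⟩ := exists_inv_sylIn_ge (q := q) A Y hAY hcopY hsolv Q0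
    (hQ0.1.trans inf_le_right) hQ0.isPGroup hQ0A
  obtain ⟨Q, hQYQ, hQ, hQA⟩ := exists_inv_sylIn_ge (q := q) A K hAK hcop hsolv QY
    (hQY.1.trans hY) hQY.isPGroup hQYA
  have hQp : IsPGroup q Q := hQ.isPGroup
  have hcopQ : (Nat.card A).Coprime (Nat.card Q) :=
    hcop.coprime_dvd_right (Subgroup.card_dvd_of_le hQ.1)
  have hSY : SylIn q (Q ⊓ Y) Y :=
    hQY.of_le (le_inf hQYQ hQY.1) inf_le_right (hQp.to_le inf_le_left)
  have hSXY : SylIn q (Q ⊓ (X ⊓ Y)) (X ⊓ Y) :=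
    hQ0.of_le (le_inf (hQ0Y.trans hQYQ) hQ0.1) inf_le_right (hQp.to_le inf_le_left)
  have hSX : SylIn q (Q ⊓ X) X := by
    obtain ⟨QX, -, hQX, hQXA⟩ := exists_inv_sylIn_ge (q := q) A X hAX hcopX hsolv ⊥ bot_le
      IsPGroup.of_bot hbotA
    obtain ⟨Q', hQXQ', hQ', hQ'A⟩ := exists_inv_sylIn_ge (q := q) A K hAK hcop hsolv QX
      (hQX.1.trans hX) hQX.isPGroup hQXA
    obtain ⟨c, hc, e⟩ := inv_sylIn_conj A K hAK hcop hsolv hQ' hQ hQ'A hQA
    have hcX : cj c X = X := cj_eq_of_mem_normalizer (hCX hc)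
    have h1 : SylIn q (cj c QX) X := by
      refine ⟨?_, by rw [card_cj]; exact hQX.2⟩
      have := cj_mono (g := c) hQX.1
      rwa [hcX] at this
    refine h1.of_le (le_inf ?_ h1.1) inf_le_right (hQp.to_le inf_le_left)
    rw [← e]; exact cj_mono hQXQ'
  have hAQX := le_normalizer_inf hQA hAX
  have hAQY := le_normalizer_inf hQA hAY
  have hAQXY := le_normalizer_inf hQA hAXY
  have hfacQ : ∀ a ∈ A, a ≠ 1 → ∀ c ∈ Q ⊓ Subgroup.centralizer {a},
      ∃ x ∈ Q ⊓ X, ∃ y ∈ Q ⊓ Y, ∃ n ∈ (⊥ : Subgroup G), c = x * y * n := by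
    intro a ha ha1 c hc
    have hKa := sylIn_centralizer A K hAK hcop hsolv hQ hQA a ha
    have hXa := sylIn_centralizer A X hAX hcopX hsolv hSX hAQX a ha
    have hYa := sylIn_centralizer A Y hAY hcopY hsolv hSY hAQY a ha
    have hXYa := sylIn_centralizer A (X ⊓ Y) hAXY hcopXY hsolv hSXY hAQXY a ha
    have h1 := card_eq_of_factor (W := K ⊓ Subgroup.centralizer {a})
      (U₁ := X ⊓ Subgroup.centralizer {a}) (U₂ := Y ⊓ Subgroup.centralizer {a})
      (inf_le_inf_right _ hX) (inf_le_inf_right _ hY) (hfac a ha ha1)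
    have e1 : (X ⊓ Subgroup.centralizer ({a} : Set G)) ⊓ (Y ⊓ Subgroup.centralizer {a}) =
        (X ⊓ Y) ⊓ Subgroup.centralizer {a} := (inf_inf_distrib_right X Y _).symm
    rw [e1] at h1
    have h2 : (Nat.card (K ⊓ Subgroup.centralizer {a} : Subgroup G)).factorization q +
        (Nat.card ((X ⊓ Y) ⊓ Subgroup.centralizer {a} : Subgroup G)).factorization q =
        (Nat.card (X ⊓ Subgroup.centralizer {a} : Subgroup G)).factorization q +
        (Nat.card (Y ⊓ Subgroup.centralizer {a} : Subgroup G)).factorization q := by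
      have := congrArg (fun n => n.factorization q) h1
      rw [Nat.factorization_mul Nat.card_pos.ne' Nat.card_pos.ne',
        Nat.factorization_mul Nat.card_pos.ne' Nat.card_pos.ne'] at this
      simpa using this
    have e2 : ((Q ⊓ X) ⊓ Subgroup.centralizer ({a} : Set G)) ⊓
        ((Q ⊓ Y) ⊓ Subgroup.centralizer {a}) = (Q ⊓ (X ⊓ Y)) ⊓ Subgroup.centralizer {a} := by
      rw [← inf_inf_distrib_right, ← inf_inf_distrib_left]
    have h3 : Nat.card (Q ⊓ Subgroup.centralizer {a} : Subgroup G) *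
        Nat.card (((Q ⊓ X) ⊓ Subgroup.centralizer ({a} : Set G)) ⊓
          ((Q ⊓ Y) ⊓ Subgroup.centralizer {a}) : Subgroup G) =
        Nat.card ((Q ⊓ X) ⊓ Subgroup.centralizer {a} : Subgroup G) *
          Nat.card ((Q ⊓ Y) ⊓ Subgroup.centralizer {a} : Subgroup G) := by
      rw [e2, hKa.2, hXYa.2, hXa.2, hYa.2, ← pow_add, ← pow_add, h2]
    obtain ⟨x, hx, y, hy, e⟩ := factor_of_card_eq (inf_le_inf_right _ inf_le_left)
      (inf_le_inf_right _ inf_le_left) h3 c hc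
    exact ⟨x, (Subgroup.mem_inf.mp hx).1, y, (Subgroup.mem_inf.mp hy).1, 1,
      Subgroup.mem_bot.mpr rfl, by rw [e, mul_one]⟩
  have hfact := qgroup_factor A Q (Q ⊓ X) (Q ⊓ Y) hAnc hQA hcopQ hQp inf_le_left inf_le_left
    (Nat.card Q) ⊥ bot_le (le_normalizer_bot Q) hbotA (by omega) hfacQ
  have hQfac : ∀ g ∈ Q, ∃ x ∈ Q ⊓ X, ∃ y ∈ Q ⊓ Y, g = x * y := by
    intro g hg
    obtain ⟨x, hx, y, hy, n, hn, e⟩ := hfact g hg
    rw [Subgroup.mem_bot] at hn
    exact ⟨x, hx, y, hy, by rw [e, hn, mul_one]⟩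
  have h4 := card_eq_of_factor (W := Q) inf_le_left inf_le_left hQfac
  have e3 : (Q ⊓ X) ⊓ (Q ⊓ Y) = Q ⊓ (X ⊓ Y) := (inf_inf_distrib_left Q X Y).symm
  rw [e3, hQ.2, hSXY.2, hSX.2, hSY.2, ← pow_add, ← pow_add] at h4
  exact Nat.pow_right_injective hq.two_le h4

end assemble

/-- Let A be a noncyclic elementary abelian p-subgroup of a finite group H normalizing a subgroup K of order prime to p, and X, Y ≤ K subgroups normalized by A with C_K(a) = C_X(a) C_Y(a) (as sets) for every non-identity a ∈ A, where X is also normalized by C_K(A). Then K = XY as sets. -/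
theorem result {H : Type*} [Group H] [Finite H] (p : ℕ) [Fact p.Prime] (A K X Y : Subgroup H) (hA : Cfsg.IsElementaryAbelian p A) (hA2 : p ^ 2 ≤ Nat.card ↥A) (hK : ¬ p ∣ Nat.card ↥K) (hAK : A ≤ Subgroup.normalizer (K : Set H)) (hX : X ≤ K) (hY : Y ≤ K) (hAX : A ≤ Subgroup.normalizer (X : Set H)) (hAY : A ≤ Subgroup.normalizer (Y : Set H)) (hCX : K ⊓ Subgroup.centralizer (A : Set H) ≤ Subgroup.normalizer (X : Set H)) (hfac : ∀ a ∈ A, a ≠ 1 → ((K ⊓ Subgroup.centralizer {a} : Subgroup H) : Set H) = ((X ⊓ Subgroup.centralizer {a} : Subgroup H) : Set H) * ((Y ⊓ Subgroup.centralizer {a} : Subgroup H) : Set H)) : (K : Set H) = (X : Set H) * (Y : Set H) := by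
  have hp : p.Prime := Fact.out
  have hAc : IsMulCommutative A := hA.1
  have hApg : IsPGroup p A := by
    intro a
    refine ⟨1, ?_⟩
    rw [pow_one]
    apply Subtype.ext
    rw [Subgroup.coe_pow]; exact hA.2 a a.2
  have hsolv : Group.IsSolvable A := by
    have := hApg.isNilpotent
    infer_instance
  have hcop : (Nat.card A).Coprime (Nat.card K) := by
    obtain ⟨n, hn⟩ := IsPGroup.iff_card.mp hApg
    rw [hn]
    exact Nat.Coprime.pow_left n ((Nat.Prime.coprime_iff_not_dvd hp).mpr hK)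
  have hAnc : ¬ IsCyclic A := by
    intro hcyc
    obtain ⟨g, hg⟩ := hcyc.exists_generator
    have h1 : orderOf g = Nat.card A := orderOf_eq_card_of_forall_mem_zpowers hg
    have h2 : orderOf g ∣ p :=
      orderOf_dvd_of_pow_eq_one (Subtype.ext (by rw [Subgroup.coe_pow]; exact hA.2 g g.2))
    have h3 : Nat.card A ≤ p := h1 ▸ Nat.le_of_dvd hp.pos h2
    have h4 : p < p ^ 2 := by nlinarith [hp.two_le]
    omega
  have hfac' : ∀ a ∈ A, a ≠ 1 → ∀ c ∈ K ⊓ Subgroup.centralizer {a},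
      ∃ x ∈ X ⊓ Subgroup.centralizer {a}, ∃ y ∈ Y ⊓ Subgroup.centralizer {a}, c = x * y := by
    intro a ha ha1 c hc
    have hc' : c ∈ ((K ⊓ Subgroup.centralizer {a} : Subgroup H) : Set H) := hc
    rw [hfac a ha ha1] at hc'
    obtain ⟨x, hx, y, hy, e⟩ := Set.mem_mul.mp hc'
    exact ⟨x, hx, y, hy, e.symm⟩
  have hcard : Nat.card K * Nat.card (X ⊓ Y : Subgroup H) = Nat.card X * Nat.card Y := by
    apply Nat.eq_of_factorization_eq (mul_ne_zero Nat.card_pos.ne' Nat.card_pos.ne')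
      (mul_ne_zero Nat.card_pos.ne' Nat.card_pos.ne')
    intro q
    rw [Nat.factorization_mul Nat.card_pos.ne' Nat.card_pos.ne',
      Nat.factorization_mul Nat.card_pos.ne' Nat.card_pos.ne', Finsupp.add_apply, Finsupp.add_apply]
    by_cases hq : q.Prime
    · have : Fact q.Prime := ⟨hq⟩
      exact vq_eq A K X Y hAnc hsolv hcop hAK hX hY hAX hAY hCX hfac' q
    · simp [Nat.factorization_eq_zero_of_not_prime _ hq]
  have hfin := factor_of_card_eq hX hY hcard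
  ext k
  constructor
  · intro hk
    obtain ⟨x, hx, y, hy, e⟩ := hfin k hk
    rw [e]; exact Set.mul_mem_mul hx hy
  · rintro ⟨x, hx, y, hy, rfl⟩
    exact mul_mem (hX hx) (hY hy)

end Cfsg.Agent.S1287
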