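import Cfsg.Statements.S1300

set_option autoImplicit false
open Cfsg

namespace Cfsg.Agent.S1300

theorem delta_zpowers_of_orderOf_two {G : Type*} [Group G] (a : G) (ha : orderOf a = 2) :
    Cfsg.signalizerDelta 2 (Subgroup.zpowers a) = Cfsg.centralizerPPrimeCore 2 a := by
  unfold Cfsg.signalizerDelta
  have ha1 : a ≠ 1 := by
    rintro rfl
    simp at ha
  have key : ∀ b : G, b ∈ Subgroup.zpowers a → b ≠ 1 → b = a := by
    intro b hb hb1
    rw [Subgroup.mem_zpowers_iff] at hb
    obtain ⟨k, rfl⟩ := hb
    have h2 : a ^ (2 : ℤ) = 1 := by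
      have := pow_orderOf_eq_one a
      rw [ha] at this
      exact_mod_cast this
    rcases Int.emod_two_eq_zero_or_one k with h | h
    · exfalso
      apply hb1
      have : k = 2 * (k / 2) := by omega
      rw [this, zpow_mul, h2, one_zpow]
    · have : k = 2 * (k / 2) + 1 := by omega
      rw [this, zpow_add, zpow_mul, h2, one_zpow, one_mul, zpow_one]
  apply le_antisymm
  · exact iInf_le_of_le ⟨a, Subgroup.mem_zpowers a, ha1⟩ le_rfl
  · apply le_iInf
    rintro ⟨b, hb, hb1⟩
    have hba := key b hb hb1
    subst hba
    exact le_rfl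

/-- For a finite group G, balance in the sense of commuting involutions is the same as 1-balance for the prime 2. -/
theorem result {G : Type*} [Group G] [Finite G] : Cfsg.IsBalanced G ↔ Cfsg.IsKBalanced 2 1 G := by
  constructor
  · intro h A hA hcard b hb hcomm
    -- A has order 2, so A = zpowers a for an involution a
    have hcard' : Nat.card A = 2 := by simpa using hcard
    have : Fact (Nat.Prime 2) := ⟨Nat.prime_two⟩
    obtain ⟨a, ha⟩ := (isCyclic_of_prime_card hcard' : IsCyclic A).exists_generator
    have hane : a ≠ 1 := by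
      rintro rfl
      have : ∀ x : A, x = 1 := by
        intro x
        have := ha x
        rw [Subgroup.mem_zpowers_iff] at this
        obtain ⟨k, rfl⟩ := this
        simp
      have hsub : Subsingleton A := ⟨fun x y => by rw [this x, this y]⟩
      have : Nat.card A = 1 := Nat.card_unique
      omega
    have hao : orderOf (a : G) = 2 := by
      have h1 : (a : G) ^ 2 = 1 := hA.2 a a.2
      have h2 : (a : G) ≠ 1 := fun h => hane (Subtype.ext h)
      exact orderOf_eq_prime h1 h2
    have hAeq : A = Subgroup.zpowers (a : G) := by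
      apply le_antisymm
      · intro x hx
        have := ha ⟨x, hx⟩
        rw [Subgroup.mem_zpowers_iff] at this ⊢
        obtain ⟨k, hk⟩ := this
        refine ⟨k, ?_⟩
        have := congrArg Subtype.val hk
        simpa using this
      · rw [Subgroup.zpowers_le]
        exact a.2
    rw [hAeq, delta_zpowers_of_orderOf_two _ hao]
    have := h a b hao hb (hcomm a a.2)
    rw [this]
    exact inf_le_left
  · intro h x y hx hy hxy
    have hxA : Cfsg.IsElementaryAbelian 2 (Subgroup.zpowers x) := by
      refine ⟨?_, ?_⟩
      · infer_instance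
      · intro a ha
        rw [Subgroup.mem_zpowers_iff] at ha
        obtain ⟨k, rfl⟩ := ha
        have : x ^ 2 = 1 := by rw [← hx]; exact pow_orderOf_eq_one x
        rw [← zpow_natCast, ← zpow_mul, mul_comm, zpow_mul, zpow_natCast, this, one_zpow]
    have hyA : Cfsg.IsElementaryAbelian 2 (Subgroup.zpowers y) := by
      refine ⟨?_, ?_⟩
      · infer_instance
      · intro a ha
        rw [Subgroup.mem_zpowers_iff] at ha
        obtain ⟨k, rfl⟩ := ha
        have : y ^ 2 = 1 := by rw [← hy]; exact pow_orderOf_eq_one y
        rw [← zpow_natCast, ← zpow_mul, mul_comm, zpow_mul, zpow_natCast, this, one_zpow]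
    have hcx : Nat.card (Subgroup.zpowers x) = 2 ^ 1 := by
      rw [Nat.card_zpowers, hx]; rfl
    have hcy : Nat.card (Subgroup.zpowers y) = 2 ^ 1 := by
      rw [Nat.card_zpowers, hy]; rfl
    have h1 := h (Subgroup.zpowers x) hxA hcx y hy (by
      intro a ha
      rw [Subgroup.mem_zpowers_iff] at ha
      obtain ⟨k, rfl⟩ := ha
      exact ((Commute.zpow_left (show Commute x y from hxy) k)).eq)
    have h2 := h (Subgroup.zpowers y) hyA hcy x hx (by
      intro a ha
      rw [Subgroup.mem_zpowers_iff] at ha
      obtain ⟨k, rfl⟩ := ha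
      exact ((Commute.zpow_left (show Commute y x from hxy.symm) k)).eq)
    rw [delta_zpowers_of_orderOf_two _ hx] at h1
    rw [delta_zpowers_of_orderOf_two _ hy] at h2
    have hx_le : Cfsg.centralizerPPrimeCore 2 x ≤ Subgroup.centralizer {x} := by
      unfold Cfsg.centralizerPPrimeCore
      rintro _ ⟨g, _, rfl⟩
      exact g.2
    have hy_le : Cfsg.centralizerPPrimeCore 2 y ≤ Subgroup.centralizer {y} := by
      unfold Cfsg.centralizerPPrimeCore
      rintro _ ⟨g, _, rfl⟩
      exact g.2
    apply le_antisymm
    · exact le_inf h1 (inf_le_left.trans hx_le)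
    · exact le_inf h2 (inf_le_left.trans hy_le)

end Cfsg.Agent.S1300
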