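import Cfsg.Statements.S1303
import Mathlib
import Cfsg.Agent.Lib.helper28.PCores

set_option autoImplicit false
open Cfsg

namespace Cfsg.Agent.S1303

open scoped commutatorElement

/-- Entry tuples of `2 × 2` matrices over `ZMod 3`. -/
abbrev Q4 : Type := ZMod 3 × ZMod 3 × ZMod 3 × ZMod 3

/-- The entries of an element of `SL(2,3)`. -/
def e4 (g : Matrix.SpecialLinearGroup (Fin 2) (ZMod 3)) : Q4 :=
  (g.1 0 0, g.1 0 1, g.1 1 0, g.1 1 1)

/-- Matrix product on entry tuples. -/
def mul4 (x y : Q4) : Q4 :=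
  (x.1 * y.1 + x.2.1 * y.2.2.1, x.1 * y.2.1 + x.2.1 * y.2.2.2,
    x.2.2.1 * y.1 + x.2.2.2 * y.2.2.1, x.2.2.1 * y.2.1 + x.2.2.2 * y.2.2.2)

/-- Adjugate on entry tuples. -/
def inv4 (x : Q4) : Q4 := (x.2.2.2, -x.2.1, -x.2.2.1, x.1)

/-- Determinant on entry tuples. -/
def det4 (x : Q4) : ZMod 3 := x.1 * x.2.2.2 - x.2.1 * x.2.2.1

/-- The identity matrix as an entry tuple. -/
def one4 : Q4 := (1, 0, 0, 1)

/-- The matrix `-1` as an entry tuple. -/
def neg4 : Q4 := (2, 0, 0, 2)

/-- The matrix `!![1, 1; 0, 1]` as an entry tuple. -/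
def u4 : Q4 := (1, 1, 0, 1)

/-- Fourth power on entry tuples. -/
def p4 (x : Q4) : Q4 := mul4 (mul4 x x) (mul4 x x)

theorem e4_injective : Function.Injective e4 := by
  intro g h hgh
  simp only [e4, Prod.mk.injEq] at hgh
  obtain ⟨h1, h2, h3, h4⟩ := hgh
  apply Matrix.SpecialLinearGroup.ext
  intro i j
  fin_cases i <;> fin_cases j
  · exact h1
  · exact h2
  · exact h3
  · exact h4

theorem e4_mul (g h : Matrix.SpecialLinearGroup (Fin 2) (ZMod 3)) :
    e4 (g * h) = mul4 (e4 g) (e4 h) := by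
  simp [e4, mul4, Matrix.SpecialLinearGroup.coe_mul, Matrix.mul_apply, Fin.sum_univ_two]

theorem e4_one : e4 1 = one4 := by
  simp [e4, one4]

theorem e4_inv (g : Matrix.SpecialLinearGroup (Fin 2) (ZMod 3)) : e4 g⁻¹ = inv4 (e4 g) := by
  simp [e4, inv4, Matrix.SpecialLinearGroup.coe_inv, Matrix.adjugate_fin_two]

theorem det4_e4 (g : Matrix.SpecialLinearGroup (Fin 2) (ZMod 3)) : det4 (e4 g) = 1 := by
  have := g.2
  rw [Matrix.det_fin_two] at this
  exact this

theorem exists_of_det4 (y : Q4) (h : det4 y = 1) :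
    ∃ g : Matrix.SpecialLinearGroup (Fin 2) (ZMod 3), e4 g = y := by
  refine ⟨⟨!![y.1, y.2.1; y.2.2.1, y.2.2.2], ?_⟩, ?_⟩
  · rw [Matrix.det_fin_two]
    simpa [det4] using h
  · simp [e4]

set_option maxRecDepth 100000 in
set_option synthInstance.maxHeartbeats 2000000 in
set_option synthInstance.maxSize 4096 in
theorem f_inv : ∀ x : Q4, det4 x = 1 → mul4 x x = one4 → x = one4 ∨ x = neg4 := by
  decide +kernel

set_option maxRecDepth 100000 in
set_option synthInstance.maxHeartbeats 2000000 in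
set_option synthInstance.maxSize 4096 in
theorem f_central : ∀ x : Q4, mul4 x neg4 = mul4 neg4 x := by
  decide +kernel

set_option maxRecDepth 100000 in
set_option synthInstance.maxHeartbeats 2000000 in
set_option synthInstance.maxSize 4096 in
theorem f_mul : ∀ x y : Q4, det4 x = 1 → det4 y = 1 → p4 x = one4 →
    p4 y = one4 → p4 (mul4 x y) = one4 := by
  decide +kernel

set_option maxRecDepth 100000 in
set_option synthInstance.maxHeartbeats 2000000 in
set_option synthInstance.maxSize 4096 in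
theorem f_p4_inv : ∀ x : Q4, det4 x = 1 → p4 x = one4 → p4 (inv4 x) = one4 := by
  decide +kernel

set_option maxRecDepth 100000 in
set_option synthInstance.maxHeartbeats 2000000 in
set_option synthInstance.maxSize 4096 in
theorem f_conj : ∀ x y : Q4, det4 x = 1 → det4 y = 1 → p4 x = one4 →
    p4 (mul4 (mul4 y x) (inv4 y)) = one4 := by
  decide +kernel

set_option maxRecDepth 100000 in
set_option synthInstance.maxHeartbeats 2000000 in
set_option synthInstance.maxSize 4096 in
theorem f_comm : ∀ x y : Q4, det4 x = 1 → det4 y = 1 →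
    p4 (mul4 (inv4 (mul4 x y)) (mul4 y x)) = one4 := by
  decide +kernel

set_option maxRecDepth 100000 in
set_option synthInstance.maxHeartbeats 2000000 in
set_option synthInstance.maxSize 4096 in
theorem f_core : ∀ x : Q4, det4 x = 1 → x ≠ one4 →
    (x = neg4 ∨ mul4 x x = neg4 ∨ mul4 (mul4 x x) x = neg4 ∨
      ∃ y : Q4, det4 y = 1 ∧
        (mul4 x (mul4 (mul4 y (inv4 x)) (inv4 y)) = neg4 ∨
        mul4 (mul4 x (mul4 (mul4 y (inv4 x)) (inv4 y))) (mul4 x (mul4 (mul4 y (inv4 x)) (inv4 y))) =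
          neg4)) := by
  decide +kernel

theorem f_neg_sq : mul4 neg4 neg4 = one4 := by decide +kernel

theorem f_neg_ne : neg4 ≠ one4 := by decide +kernel

theorem f_p4_one : p4 one4 = one4 := by decide +kernel

theorem f_u_cube : mul4 (mul4 u4 u4) u4 = one4 := by decide +kernel

theorem f_u_ne : u4 ≠ one4 := by decide +kernel

theorem f_u_det : det4 u4 = 1 := by decide +kernel


/-- The group X = SL(2, 3): it is 2-constrained, O_{2'}(X) = 1, its centre A = Z(X) contains every involution of X = C_X(A), and X has a subgroup of order 3 (normalized by A) not contained in O_{2'}(X). -/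
theorem result : Cfsg.IsPConstrained 2 (Matrix.SpecialLinearGroup (Fin 2) (ZMod 3)) ∧ Cfsg.pPrimeCore 2 (Matrix.SpecialLinearGroup (Fin 2) (ZMod 3)) = ⊥ ∧ (∀ t : Matrix.SpecialLinearGroup (Fin 2) (ZMod 3), orderOf t = 2 → t ∈ Subgroup.center (Matrix.SpecialLinearGroup (Fin 2) (ZMod 3))) ∧ ∃ Q : Subgroup (Matrix.SpecialLinearGroup (Fin 2) (ZMod 3)), Nat.card ↥Q = 3 ∧ ¬ (Q ≤ Cfsg.pPrimeCore 2 (Matrix.SpecialLinearGroup (Fin 2) (ZMod 3))) := by
  have : Fact (Nat.Prime 2) := ⟨Nat.prime_two⟩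
  have hneg_central : ∀ t : Matrix.SpecialLinearGroup (Fin 2) (ZMod 3), e4 t = neg4 →
      t ∈ Subgroup.center (Matrix.SpecialLinearGroup (Fin 2) (ZMod 3)) := by
    intro t ht
    rw [Subgroup.mem_center_iff]
    intro g
    apply e4_injective
    rw [e4_mul, e4_mul, ht]
    exact f_central (e4 g)
  have hneg_order : ∀ t : Matrix.SpecialLinearGroup (Fin 2) (ZMod 3), e4 t = neg4 →
      orderOf t = 2 := by
    intro t ht
    apply orderOf_eq_prime
    · apply e4_injective
      rw [pow_two, e4_mul, ht, e4_one]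
      exact f_neg_sq
    · intro h
      rw [h, e4_one] at ht
      exact f_neg_ne ht.symm
  have hinv : ∀ t : Matrix.SpecialLinearGroup (Fin 2) (ZMod 3), orderOf t = 2 →
      t ∈ Subgroup.center (Matrix.SpecialLinearGroup (Fin 2) (ZMod 3)) := by
    intro t ht
    have h2 : t * t = 1 := by
      have := pow_orderOf_eq_one t
      rwa [ht, pow_two] at this
    have h3 : mul4 (e4 t) (e4 t) = one4 := by rw [← e4_mul, h2, e4_one]
    rcases f_inv (e4 t) (det4_e4 t) h3 with h | h
    · exfalso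
      have : t = 1 := e4_injective (by rw [h, e4_one])
      rw [this, orderOf_one] at ht
      omega
    · exact hneg_central t h
  have hcore : pPrimeCore 2 (Matrix.SpecialLinearGroup (Fin 2) (ZMod 3)) = ⊥ := by
    rw [eq_bot_iff]
    intro g hg
    rw [Subgroup.mem_bot]
    by_contra hg1
    have hN : (pPrimeCore 2 (Matrix.SpecialLinearGroup (Fin 2) (ZMod 3))).Normal :=
      Cfsg.Agent.Lib.helper40.pPrimeCore_normal' 2 _
    have hcop := Cfsg.Agent.Lib.helper40.pPrimeCore_card_coprime 2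
      (Matrix.SpecialLinearGroup (Fin 2) (ZMod 3))
    have hx1 : e4 g ≠ one4 := fun h => hg1 (e4_injective (by rw [h, e4_one]))
    have hw : ∃ w ∈ pPrimeCore 2 (Matrix.SpecialLinearGroup (Fin 2) (ZMod 3)), e4 w = neg4 := by
      rcases f_core (e4 g) (det4_e4 g) hx1 with h | h | h | ⟨y, hy, h⟩
      · exact ⟨g, hg, h⟩
      · exact ⟨g * g, Subgroup.mul_mem _ hg hg, by rw [e4_mul]; exact h⟩
      · exact ⟨g * g * g, Subgroup.mul_mem _ (Subgroup.mul_mem _ hg hg) hg, by
          rw [e4_mul, e4_mul]; exact h⟩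
      · obtain ⟨k, hk⟩ := exists_of_det4 y hy
        have hz : g * (k * g⁻¹ * k⁻¹) ∈ pPrimeCore 2 (Matrix.SpecialLinearGroup (Fin 2) (ZMod 3)) :=
          Subgroup.mul_mem _ hg (hN.conj_mem _ (Subgroup.inv_mem _ hg) k)
        have hze : e4 (g * (k * g⁻¹ * k⁻¹)) =
            mul4 (e4 g) (mul4 (mul4 y (inv4 (e4 g))) (inv4 y)) := by
          rw [e4_mul, e4_mul, e4_mul, e4_inv, e4_inv, hk]
        rcases h with h | h
        · exact ⟨_, hz, by rw [hze]; exact h⟩
        · exact ⟨_, Subgroup.mul_mem _ hz hz, by rw [e4_mul, hze]; exact h⟩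
    obtain ⟨w, hwN, hw⟩ := hw
    have h2 : orderOf w = 2 := hneg_order w hw
    have h3 : 2 ∣ Nat.card (pPrimeCore 2 (Matrix.SpecialLinearGroup (Fin 2) (ZMod 3))) := by
      have := orderOf_dvd_natCard
        (⟨w, hwN⟩ : pPrimeCore 2 (Matrix.SpecialLinearGroup (Fin 2) (ZMod 3)))
      rwa [Subgroup.orderOf_mk, h2] at this
    exact absurd (Nat.Coprime.eq_one_of_dvd hcop.symm h3) (by norm_num)
  let Q : Subgroup (Matrix.SpecialLinearGroup (Fin 2) (ZMod 3)) :=
    { carrier := {g | p4 (e4 g) = one4}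
      one_mem' := by
        change p4 (e4 1) = one4
        rw [e4_one]
        exact f_p4_one
      mul_mem' := by
        intro a b ha hb
        change p4 (e4 (a * b)) = one4
        rw [e4_mul]
        exact f_mul _ _ (det4_e4 a) (det4_e4 b) ha hb
      inv_mem' := by
        intro a ha
        change p4 (e4 a⁻¹) = one4
        rw [e4_inv]
        exact f_p4_inv _ (det4_e4 a) ha }
  have hQmem : ∀ g, g ∈ Q ↔ p4 (e4 g) = one4 := fun g => Iff.rfl
  have hQn : Q.Normal := ⟨fun n hn g => by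
    rw [hQmem] at hn ⊢
    rw [e4_mul, e4_mul, e4_inv]
    exact f_conj _ _ (det4_e4 n) (det4_e4 g) hn⟩
  have hQp : IsPGroup 2 ↥Q := by
    rintro ⟨g, hg⟩
    refine ⟨2, Subtype.ext ?_⟩
    change g ^ 2 ^ 2 = 1
    apply e4_injective
    have : g ^ 2 ^ 2 = (g * g) * (g * g) := by
      change g ^ 4 = _
      rw [pow_succ, pow_succ, pow_succ, pow_one, mul_assoc]
    rw [this, e4_mul, e4_mul, e4_one]
    exact (hQmem g).mp hg
  have : Group.IsNilpotent ↥Q := hQp.isNilpotent
  have hQs : Group.IsSolvable ↥Q := inferInstance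
  have hquot : Group.IsSolvable (Matrix.SpecialLinearGroup (Fin 2) (ZMod 3) ⧸ Q) := by
    apply Group.isSolvable_of_comm
    intro a b
    induction a using QuotientGroup.induction_on with
    | _ a =>
      induction b using QuotientGroup.induction_on with
      | _ b =>
        rw [← QuotientGroup.mk_mul, ← QuotientGroup.mk_mul, QuotientGroup.eq, hQmem]
        rw [e4_mul, e4_inv, e4_mul, e4_mul]
        exact f_comm _ _ (det4_e4 a) (det4_e4 b)
  have hsolv : Group.IsSolvable (Matrix.SpecialLinearGroup (Fin 2) (ZMod 3)) :=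
    Group.isSolvable_of_ker_le_range Q.subtype (QuotientGroup.mk' Q) (by
      rw [QuotientGroup.ker_mk', Subgroup.range_subtype])
  have hlayer : pLayer 2 (Matrix.SpecialLinearGroup (Fin 2) (ZMod 3)) = ⊥ := by
    rw [Cfsg.Agent.Lib.helper28.pLayer_eq_bot_iff_forall]
    intro K hK
    exfalso
    have hqs := Cfsg.Agent.Lib.helper28.isComponent_qs hK.2.1
    apply hqs.not_isSolvable
    have : Group.IsSolvable (Matrix.SpecialLinearGroup (Fin 2) (ZMod 3) ⧸
        pPrimeCore 2 (Matrix.SpecialLinearGroup (Fin 2) (ZMod 3))) :=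
      Group.isSolvable_of_surjective (QuotientGroup.mk'_surjective _)
    exact Group.isSolvable_of_isSolvable_injective (Subgroup.subtype_injective _)
  have hcons : IsPConstrained 2 (Matrix.SpecialLinearGroup (Fin 2) (ZMod 3)) :=
    (Cfsg.Agent.Lib.helper28.isPConstrained_iff_pLayer_eq_bot 2).mpr hlayer
  obtain ⟨u, hu⟩ := exists_of_det4 u4 f_u_det
  have hu1 : u ≠ 1 := by
    intro h
    rw [h, e4_one] at hu
    exact f_u_ne hu.symm
  have hu3 : orderOf u = 3 := by
    have : Fact (Nat.Prime 3) := ⟨Nat.prime_three⟩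
    apply orderOf_eq_prime
    · apply e4_injective
      have : u ^ 3 = u * u * u := by
        rw [pow_succ, pow_succ, pow_one]
      rw [this, e4_mul, e4_mul, hu, e4_one]
      exact f_u_cube
    · exact hu1
  refine ⟨hcons, hcore, hinv, Subgroup.zpowers u, ?_, ?_⟩
  · rw [Nat.card_zpowers, hu3]
  · rw [hcore]
    intro h
    have := h (Subgroup.mem_zpowers u)
    rw [Subgroup.mem_bot] at this
    exact hu1 this

end Cfsg.Agent.S1303
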