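import Cfsg.Statements.S1305
import Cfsg.Agent.Lib.helper28.AschCore
import Cfsg.Agent.Lib.helper28.LBalComp
import Cfsg.Agent.Lib.helper28.Standard
import Cfsg.Agent.Lib.helper27.PComp
import Cfsg.Agent.Lib.helper27.PLocal3
import Cfsg.Agent.Lib.helper27.Radical
-- import your own Cfsg.Agent.* helpers here

set_option autoImplicit false
open Cfsg

namespace Cfsg.Agent.S1305

/-- Let G be a finite group of component type with the B-property and no nontrivial normal subgroup of odd order. Let a be an involution and K a component of C_G(a) such that (a) |K| is maximal among the orders of components of centralizers of involutions of G, (b) subject to (a) the 2-rank of the centralizer of K in C_G(a) is as large as possible, and (c) K has 2-rank at least 2. If B is an elementary abelian 2-subgroup of that centralizer of the largest possible order, then K is a component of C_G(b) for every non-identity b ∈ B. -/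
theorem result {G : Type*} [Group G] [Finite G] (hO : Cfsg.oddCore G = ⊥) (hB : Cfsg.HasBProperty G) (hct : Cfsg.IsComponentType G) (a : G) (ha : orderOf a = 2) (K : Subgroup G) (hKa : K ≤ Subgroup.centralizer ({a} : Set G)) (hK : Cfsg.IsComponent (K.subgroupOf (Subgroup.centralizer ({a} : Set G)))) (hmax : ∀ y : G, orderOf y = 2 → ∀ K' : Subgroup G, K' ≤ Subgroup.centralizer ({y} : Set G) → Cfsg.IsComponent (K'.subgroupOf (Subgroup.centralizer ({y} : Set G))) → Nat.card ↥K' ≤ Nat.card ↥K ∧ (Nat.card ↥K' = Nat.card ↥K → ∀ k : ℕ, Cfsg.PRankLE 2 k ↥(Subgroup.centralizer ({a} : Set G) ⊓ Subgroup.centralizer (K : Set G)) → Cfsg.PRankLE 2 k ↥(Subgroup.centralizer ({y} : Set G) ⊓ Subgroup.centralizer (K' : Set G)))) (hrk : ¬ Cfsg.PRankLE 2 1 ↥K) (B : Subgroup G) (hBle : B ≤ Subgroup.centralizer ({a} : Set G) ⊓ Subgroup.centralizer (K : Set G)) (hBel : Cfsg.IsElementaryAbelian 2 B) (hBmax : ∀ B' : Subgroup G, B' ≤ Subgroup.centralizer ({a} : Set G) ⊓ Subgroup.centralizer (K : Set G) →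 Cfsg.IsElementaryAbelian 2 B' → Nat.card ↥B' ≤ Nat.card ↥B) (b : G) (hb : b ∈ B) (hb1 : b ≠ 1) : K ≤ Subgroup.centralizer ({b} : Set G) ∧ Cfsg.IsComponent (K.subgroupOf (Subgroup.centralizer ({b} : Set G))) := by
  classical
  have : Fact (Nat.Prime 2) := ⟨Nat.prime_two⟩
  obtain ⟨hBcomm, hBexp⟩ := hBel
  have hBc : ∀ x ∈ B, ∀ y ∈ B, x * y = y * x := by
    intro x hx y hy
    exact congrArg Subtype.val (isMulCommutative_iff.mp hBcomm ⟨x, hx⟩ ⟨y, hy⟩)
  have ha2 : a * a = 1 := by
    have h1 := pow_orderOf_eq_one a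
    rw [ha, pow_two] at h1
    exact h1
  have hb2 : b ^ 2 = 1 := hBexp b hb
  have hbo : orderOf b = 2 := orderOf_eq_prime hb2 hb1
  have hKb : K ≤ Subgroup.centralizer ({b} : Set G) := by
    intro k hk
    rw [Subgroup.mem_centralizer_singleton_iff]
    exact Subgroup.mem_centralizer_iff.mp (hBle hb).2 k hk
  refine ⟨hKb, ?_⟩
  -- `a ∈ B` by the maximality of `B`
  have haB : a ∈ B := by
    have haC : a ∈ Subgroup.centralizer ({a} : Set G) ⊓ Subgroup.centralizer (K : Set G) := by
      refine Subgroup.mem_inf.mpr ⟨Subgroup.mem_centralizer_singleton_iff.mpr rfl, ?_⟩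
      rw [Subgroup.mem_centralizer_iff]
      intro k hk
      exact Subgroup.mem_centralizer_singleton_iff.mp (hKa hk)
    have hza : Subgroup.zpowers a ≤
        Subgroup.centralizer ({a} : Set G) ⊓ Subgroup.centralizer (K : Set G) := by
      rw [Subgroup.zpowers_le]; exact haC
    have hzc : ∀ x ∈ Subgroup.zpowers a, ∀ y ∈ Subgroup.zpowers a, x * y = y * x := by
      intro x hx y hy
      obtain ⟨m, rfl⟩ := Subgroup.mem_zpowers_iff.mp hx
      obtain ⟨n, rfl⟩ := Subgroup.mem_zpowers_iff.mp hy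
      exact (Commute.zpow_zpow_self a m n).eq
    have hz2 : ∀ x ∈ Subgroup.zpowers a, x ^ 2 = 1 := by
      intro x hx
      rcases Cfsg.Agent.Lib.helper28.eq_one_or_self_of_mem_zpowers
        (by rw [pow_two]; exact ha2) hx with h | h
      · rw [h, one_pow]
      · rw [h, pow_two]; exact ha2
    have hBz : ∀ x ∈ B, ∀ y ∈ Subgroup.zpowers a, x * y = y * x := by
      intro x hx y hy
      obtain ⟨n, rfl⟩ := Subgroup.mem_zpowers_iff.mp hy
      have h1 : Commute x a := Subgroup.mem_centralizer_singleton_iff.mp (hBle hx).1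
      exact (h1.zpow_right n).eq
    obtain ⟨hc, h2⟩ := Cfsg.Agent.Lib.helper28.asch_elemAb_sup hBc hzc hBz hBexp hz2
    have hle := hBmax (B ⊔ Subgroup.zpowers a) (sup_le hBle hza)
      ⟨isMulCommutative_iff.mpr (fun x y => Subtype.ext (hc x x.2 y y.2)), h2⟩
    have heq : B = B ⊔ Subgroup.zpowers a := Subgroup.eq_of_le_of_card_ge le_sup_left hle
    rw [heq]
    exact Subgroup.mem_sup_right (Subgroup.mem_zpowers a)
  -- the `B`-property in `C_G(b)`
  have hBb := hB b hbo
  rw [hO, le_bot_iff, Subgroup.map_eq_bot_iff_of_injective _ (Subgroup.subtype_injective _)] at hBb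
  have hmaxb := hmax b hbo
  -- abbreviate `C_G(b)`
  obtain ⟨Cb, hCb⟩ : ∃ Cb : Subgroup G, Cb = Subgroup.centralizer ({b} : Set G) := ⟨_, rfl⟩
  rw [← hCb] at hmaxb hKb hBb ⊢
  have hBCb : B ≤ Cb := by
    intro x hx
    rw [hCb, Subgroup.mem_centralizer_singleton_iff]
    exact hBc x hx b hb
  obtain ⟨a', ha'⟩ : ∃ a' : ↥Cb, (a' : G) = a := ⟨⟨a, hBCb haB⟩, rfl⟩
  have ha'o : orderOf a' = 2 := by rw [← Subgroup.orderOf_coe, ha']; exact ha
  have hsub : ∀ J : Subgroup ↥Cb, (J.map Cb.subtype).subgroupOf Cb = J :=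
    fun J => Subgroup.comap_map_eq_self_of_injective Cb.subtype_injective J
  have hK'card : Nat.card ↥(K.subgroupOf Cb) = Nat.card ↥K :=
    Nat.card_congr (Subgroup.subgroupOfEquivOfLe hKb).toEquiv
  have hB'card : Nat.card ↥(B.subgroupOf Cb) = Nat.card ↥B :=
    Nat.card_congr (Subgroup.subgroupOfEquivOfLe hBCb).toEquiv
  -- `K` lies in the centralizer of `a'`
  have hK'a : K.subgroupOf Cb ≤ Subgroup.centralizer ({a'} : Set ↥Cb) := by
    intro k hk
    rw [Subgroup.mem_centralizer_singleton_iff]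
    apply Subtype.ext
    have h1 := Subgroup.mem_centralizer_singleton_iff.mp (hKa (Subgroup.mem_subgroupOf.mp hk))
    rw [Subgroup.coe_mul, Subgroup.coe_mul, ha']
    exact h1
  -- `K` is a component of the centralizer of `a'` in `C_G(b)`
  have hK' : IsComponent ((K.subgroupOf Cb).subgroupOf (Subgroup.centralizer ({a'} : Set ↥Cb))) := by
    obtain ⟨H, hH⟩ : ∃ H : Subgroup G, H = Subgroup.centralizer ({a} : Set G) ⊓ Cb := ⟨_, rfl⟩
    have hHCa : H ≤ Subgroup.centralizer ({a} : Set G) := by rw [hH]; exact inf_le_left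
    have hKH : K ≤ H := by rw [hH]; exact le_inf hKa hKb
    have hle : K.subgroupOf (Subgroup.centralizer ({a} : Set G)) ≤
        H.subgroupOf (Subgroup.centralizer ({a} : Set G)) := by
      intro x hx
      exact Subgroup.mem_subgroupOf.mpr (hKH (Subgroup.mem_subgroupOf.mp hx))
    have hL := Cfsg.Agent.Lib.helper28.isComponent_subgroupOf hK hle
    refine Cfsg.Agent.Lib.helper28.asch_isComponent_of_map_eq
      ((Subgroup.centralizer ({a} : Set G)).subtype.comp
        (H.subgroupOf (Subgroup.centralizer ({a} : Set G))).subtype)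
      (Cb.subtype.comp (Subgroup.centralizer ({a'} : Set ↥Cb)).subtype) ?_ ?_ ?_ ?_ hL
    · rw [MonoidHom.coe_comp]
      exact (Subgroup.subtype_injective _).comp (Subgroup.subtype_injective _)
    · rw [MonoidHom.coe_comp]
      exact (Subgroup.subtype_injective _).comp (Subgroup.subtype_injective _)
    · rw [MonoidHom.range_comp, MonoidHom.range_comp, Subgroup.range_subtype,
        Subgroup.range_subtype, Subgroup.map_subgroupOf_eq_of_le hHCa, hH]
      ext x
      constructor
      · intro hx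
        obtain ⟨hx1, hx2⟩ := Subgroup.mem_inf.mp hx
        refine ⟨⟨x, hx2⟩, Subgroup.mem_centralizer_singleton_iff.mpr ?_, rfl⟩
        apply Subtype.ext
        rw [Subgroup.coe_mul, Subgroup.coe_mul, ha']
        exact Subgroup.mem_centralizer_singleton_iff.mp hx1
      · rintro ⟨y, hy, rfl⟩
        refine Subgroup.mem_inf.mpr ⟨?_, y.2⟩
        rw [Subgroup.mem_centralizer_singleton_iff]
        have h1 := congrArg Subtype.val (Subgroup.mem_centralizer_singleton_iff.mp hy)
        rw [Subgroup.coe_mul, Subgroup.coe_mul, ha'] at h1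
        exact h1
    · rw [← Subgroup.map_map, ← Subgroup.map_map, Subgroup.map_subgroupOf_eq_of_le hle,
        Subgroup.map_subgroupOf_eq_of_le hKa, Subgroup.map_subgroupOf_eq_of_le hK'a,
        Subgroup.map_subgroupOf_eq_of_le hKb]
  -- an elementary abelian subgroup of `K` of order greater than two
  rw [PRankLE] at hrk
  push Not at hrk
  obtain ⟨A₀, hA₀c, hA₀2, hA₀card⟩ := hrk
  rw [pow_one] at hA₀card
  have hA₀p : IsPGroup 2 ↥A₀ := by
    intro g
    refine ⟨1, ?_⟩
    rw [pow_one]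
    exact Subtype.ext (by rw [Subgroup.coe_pow]; exact hA₀2 g g.2)
  have hKeven : Even (Nat.card ↥K) := by
    obtain ⟨m, hm⟩ := hA₀p.exists_card_eq
    have hm0 : m ≠ 0 := by
      intro h0
      rw [h0, pow_zero] at hm
      omega
    have h1 : 2 ∣ Nat.card ↥A₀ := by rw [hm]; exact dvd_pow_self 2 hm0
    exact even_iff_two_dvd.mpr (h1.trans (Subgroup.card_subgroup_dvd_card A₀))
  have hVle : A₀.map K.subtype ≤ K := Subgroup.map_subtype_le A₀
  -- `K` lies in the layer of `C_G(b)`
  have hcz : Subgroup.centralizer ((Subgroup.zpowers a' : Subgroup ↥Cb) : Set ↥Cb) =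
      Subgroup.centralizer ({a'} : Set ↥Cb) := by
    rw [Subgroup.zpowers_eq_closure, Subgroup.centralizer_closure]
  have hK'L : K.subgroupOf Cb ≤ pLayer 2 ↥Cb :=
    Cfsg.Agent.Lib.helper28.le_pLayer_two_of_isComponent_centralizer (Subgroup.zpowers a')
      (IsPGroup.of_card (n := 1) (by rw [Nat.card_zpowers, ha'o, pow_one])) (K.subgroupOf Cb)
      (by rw [hcz]; exact hK'a) (by rw [hcz]; exact hK') (by rw [hK'card]; exact hKeven)
  have hpc : ∀ L : Subgroup ↥Cb, IsPComponent 2 L → IsComponent L := by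
    intro L hL
    have hq : IsQuasisimple ↥L := by
      rw [Cfsg.Agent.Lib.helper27.IsPComponent.isQuasisimple_iff 2 hL,
        Cfsg.Agent.Lib.helper27.map_pPrimeCore_subnormal_eq 2 hL.1, eq_bot_iff, ← hBb]
      exact Subgroup.commutator_mono (le_sSup hL) inf_le_left
    exact ⟨hL.1, hq⟩
  have hlayer : pLayer 2 ↥Cb ≤ layer ↥Cb := sSup_le (fun L hL => le_sSup (hpc L hL))
  -- maximality of the order of `K`
  have hsize : ∀ J : Subgroup ↥Cb, IsComponent J → Nat.card ↥J ≤ Nat.card ↥(K.subgroupOf Cb) := by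
    intro J hJ
    have h1 := (hmaxb (J.map Cb.subtype) (Subgroup.map_subtype_le J) (by rw [hsub J]; exact hJ)).1
    rw [Subgroup.card_map_of_injective Cb.subtype_injective] at h1
    rw [hK'card]; exact h1
  -- the rank condition
  have hBp : IsPGroup 2 ↥B := by
    intro g
    refine ⟨1, ?_⟩
    rw [pow_one]
    exact Subtype.ext (by rw [Subgroup.coe_pow]; exact hBexp g g.2)
  obtain ⟨k, hk⟩ := hBp.exists_card_eq
  have hP : PRankLE 2 k ↥(Subgroup.centralizer ({a} : Set G) ⊓ Subgroup.centralizer (K : Set G)) := by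
    intro A hAc hA2
    have h1 := hBmax (A.map (Subgroup.subtype _)) (Subgroup.map_subtype_le A) ⟨?_, ?_⟩
    · rw [Subgroup.card_map_of_injective (Subgroup.subtype_injective _)] at h1
      rw [← hk]; exact h1
    · rw [isMulCommutative_iff]
      rintro ⟨_, ⟨u, hu, rfl⟩⟩ ⟨_, ⟨v, hv, rfl⟩⟩
      apply Subtype.ext
      have h2 := isMulCommutative_iff.mp hAc ⟨u, hu⟩ ⟨v, hv⟩
      have h3 := congrArg Subtype.val (congrArg Subtype.val h2)
      exact h3
    · rintro _ ⟨u, hu, rfl⟩
      have h2 := hA2 u hu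
      rw [← map_pow, h2, map_one]
  have hrank : ∀ J : Subgroup ↥Cb, IsComponent J → Nat.card ↥J = Nat.card ↥(K.subgroupOf Cb) →
      ∀ A : Subgroup ↥Cb, A ≤ Subgroup.centralizer (J : Set ↥Cb) →
        (∀ x ∈ A, ∀ y ∈ A, x * y = y * x) → (∀ x ∈ A, x ^ 2 = 1) →
          Nat.card ↥A ≤ Nat.card ↥(B.subgroupOf Cb) := by
    intro J hJ hJcard A hAJ hAc hA2
    have hJG := hmaxb (J.map Cb.subtype) (Subgroup.map_subtype_le J) (by rw [hsub J]; exact hJ)
    have hcardJG : Nat.card ↥(J.map Cb.subtype) = Nat.card ↥K := by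
      rw [Subgroup.card_map_of_injective Cb.subtype_injective, hJcard, hK'card]
    have hP' := hJG.2 hcardJG k hP
    have hAle : A.map Cb.subtype ≤
        Cb ⊓ Subgroup.centralizer ((J.map Cb.subtype : Subgroup G) : Set G) := by
      apply le_inf (Subgroup.map_subtype_le A)
      rintro _ ⟨x, hx, rfl⟩
      rw [Subgroup.mem_centralizer_iff]
      rintro _ ⟨j, hj, rfl⟩
      have h1 := Subgroup.mem_centralizer_iff.mp (hAJ hx) j hj
      exact congrArg Subtype.val h1
    have h2 := hP' ((A.map Cb.subtype).subgroupOf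
      (Cb ⊓ Subgroup.centralizer ((J.map Cb.subtype : Subgroup G) : Set G))) ?_ ?_
    · rw [Nat.card_congr (Subgroup.subgroupOfEquivOfLe hAle).toEquiv,
        Subgroup.card_map_of_injective Cb.subtype_injective, ← hk] at h2
      rw [hB'card]; exact h2
    · rw [isMulCommutative_iff]
      rintro ⟨x, hx⟩ ⟨y, hy⟩
      obtain ⟨u, hu, hux⟩ := Subgroup.mem_subgroupOf.mp hx
      obtain ⟨v, hv, hvy⟩ := Subgroup.mem_subgroupOf.mp hy
      apply Subtype.ext
      apply Subtype.ext
      show (x : G) * (y : G) = (y : G) * (x : G)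
      rw [← hux, ← hvy]
      exact congrArg Subtype.val (hAc u hu v hv)
    · intro x hx
      obtain ⟨u, hu, hux⟩ := Subgroup.mem_subgroupOf.mp hx
      apply Subtype.ext
      show (x : G) ^ 2 = 1
      rw [← hux]
      have h3 := congrArg Subtype.val (hA2 u hu)
      simpa using h3
  -- the subgroup `V`
  have hV'card : 2 < Nat.card ↥((A₀.map K.subtype).subgroupOf Cb) := by
    rw [Nat.card_congr (Subgroup.subgroupOfEquivOfLe (hVle.trans hKb)).toEquiv,
      Subgroup.card_map_of_injective K.subtype_injective]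
    exact hA₀card
  have hV'c : ∀ x ∈ (A₀.map K.subtype).subgroupOf Cb, ∀ y ∈ (A₀.map K.subtype).subgroupOf Cb,
      x * y = y * x := by
    intro x hx y hy
    obtain ⟨u, hu, hux⟩ := Subgroup.mem_subgroupOf.mp hx
    obtain ⟨v, hv, hvy⟩ := Subgroup.mem_subgroupOf.mp hy
    apply Subtype.ext
    show (x : G) * (y : G) = (y : G) * (x : G)
    rw [← hux, ← hvy]
    have h2 := isMulCommutative_iff.mp hA₀c ⟨u, hu⟩ ⟨v, hv⟩
    exact congrArg Subtype.val (congrArg Subtype.val h2)
  have hV'2 : ∀ x ∈ (A₀.map K.subtype).subgroupOf Cb, x ^ 2 = 1 := by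
    intro x hx
    obtain ⟨u, hu, hux⟩ := Subgroup.mem_subgroupOf.mp hx
    apply Subtype.ext
    show (x : G) ^ 2 = 1
    rw [← hux]
    have h3 := congrArg Subtype.val (hA₀2 u hu)
    simpa using h3
  refine Cfsg.Agent.Lib.helper28.isComponent_of_maximal_aux a' ha'o (K.subgroupOf Cb) hK'a hK'
    (hK'L.trans hlayer) hsize (B.subgroupOf Cb) ?_ ?_ ?_ ?_ hrank
    ((A₀.map K.subtype).subgroupOf Cb) ?_ hV'c hV'2 hV'card
  · exact Subgroup.mem_subgroupOf.mpr (by rw [ha']; exact haB)
  · intro x hx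
    rw [Subgroup.mem_centralizer_iff]
    intro k hk
    apply Subtype.ext
    exact Subgroup.mem_centralizer_iff.mp (hBle (Subgroup.mem_subgroupOf.mp hx)).2 _
      (Subgroup.mem_subgroupOf.mp hk)
  · intro x hx y hy
    apply Subtype.ext
    exact hBc _ (Subgroup.mem_subgroupOf.mp hx) _ (Subgroup.mem_subgroupOf.mp hy)
  · intro x hx
    apply Subtype.ext
    have h3 := hBexp _ (Subgroup.mem_subgroupOf.mp hx)
    simpa using h3
  · intro x hx
    exact Subgroup.mem_subgroupOf.mpr (hVle (Subgroup.mem_subgroupOf.mp hx))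

end Cfsg.Agent.S1305
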