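import Cfsg.Statements.S1306
import Mathlib
import Cfsg.Agent.Lib.helper28.Layer

set_option autoImplicit false
open Cfsg

namespace Cfsg.Agent.S1306

/-- Let G be finite, x an involution and L ≤ C_G(x) a component of C_G(x). Suppose L is a component of C_G(y) for every involution y ∈ C_G(L), and ⁅L, g L g⁻¹⁆ ≠ 1 whenever g L g⁻¹ ≠ L. Then L is a standard subgroup of G. -/
theorem result {G : Type*} [Group G] [Finite G] (x : G) (hx : orderOf x = 2) (L : Subgroup G) (hLx : L ≤ Subgroup.centralizer ({x} : Set G)) (hL : Cfsg.IsComponent (L.subgroupOf (Subgroup.centralizer ({x} : Set G)))) (hne : ∀ y : G, orderOf y = 2 → y ∈ Subgroup.centralizer (L : Set G) → L ≤ Subgroup.centralizer ({y} : Set G) ∧ Cfsg.IsComponent (L.subgroupOf (Subgroup.centralizer ({y} : Set G)))) (hnc : ∀ g : G, L.map (MulAut.conj g).toMonoidHom ≠ L → ⁅L, L.map (MulAut.conj g).toMonoidHom⁆ ≠ ⊥) : Cfsg.IsStandardSubgroup L := by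
  classical
  have hxL : x ∈ Subgroup.centralizer (L : Set G) := by
    rw [Subgroup.mem_centralizer_iff]
    intro l hl
    have := Subgroup.mem_centralizer_iff.mp (hLx hl) x (Set.mem_singleton x)
    exact this.symm
  -- Lemma A
  have hA : ∀ y : G, orderOf y = 2 → y ∈ Subgroup.centralizer (L : Set G) → ∀ g : G,
      y ∈ Subgroup.centralizer ((L.map (MulAut.conj g).toMonoidHom : Subgroup G) : Set G) →
      L.map (MulAut.conj g).toMonoidHom = L := by
    intro y hy hyL g hyg
    by_contra hcon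
    apply hnc g hcon
    obtain ⟨hLy, hLcomp⟩ := hne y hy hyL
    -- y' = g⁻¹ y g
    have hy' : orderOf (g⁻¹ * y * g) = 2 := by
      have h0 := orderOf_injective (MulAut.conj g⁻¹).toMonoidHom (MulAut.conj g⁻¹).injective y
      rw [← hy, ← h0]
      simp [MulAut.conj_apply]
    have hy'L : g⁻¹ * y * g ∈ Subgroup.centralizer (L : Set G) := by
      rw [Subgroup.mem_centralizer_iff]
      intro l hl
      have h1 := Subgroup.mem_centralizer_iff.mp hyg (g * l * g⁻¹) ⟨l, hl, rfl⟩
      calc l * (g⁻¹ * y * g) = g⁻¹ * (g * l * g⁻¹ * y) * g := by group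
        _ = g⁻¹ * (y * (g * l * g⁻¹)) * g := by rw [h1]
        _ = g⁻¹ * y * g * l := by group
    obtain ⟨hLy', hLcomp'⟩ := hne _ hy' hy'L
    have h2 := Cfsg.Agent.Lib.helper28.isComponent_subgroupOf_map_equiv (MulAut.conj g) hLcomp'
    rw [Cfsg.Agent.Lib.helper28.map_conj_centralizer_singleton] at h2
    have h3 : g * (g⁻¹ * y * g) * g⁻¹ = y := by group
    rw [h3] at h2
    have hgLy : L.map (MulAut.conj g).toMonoidHom ≤ Subgroup.centralizer ({y} : Set G) := by
      intro z hz
      rw [Subgroup.mem_centralizer_iff]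
      intro w hw
      rw [Set.mem_singleton_iff] at hw
      subst hw
      exact (Subgroup.mem_centralizer_iff.mp hyg z hz).symm
    have hne' : L.subgroupOf (Subgroup.centralizer ({y} : Set G)) ≠
        (L.map (MulAut.conj g).toMonoidHom).subgroupOf (Subgroup.centralizer ({y} : Set G)) := by
      intro heq
      apply hcon
      apply le_antisymm
      · exact Cfsg.Agent.Lib.helper28.le_of_subgroupOf_le hgLy heq.ge
      · exact Cfsg.Agent.Lib.helper28.le_of_subgroupOf_le hLy heq.le
    have h4 := Cfsg.Agent.Lib.helper28.isComponent_commute hLcomp h2 hne'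
    exact Cfsg.Agent.Lib.helper28.commutator_eq_bot_of_subgroupOf hLy hgLy h4
  -- normalizer of L normalizes its centralizer
  have hN1 : ∀ g : G, L.map (MulAut.conj g).toMonoidHom = L →
      g ∈ Subgroup.normalizer ((Subgroup.centralizer (L : Set G) : Subgroup G) : Set G) := by
    intro g hg
    rw [Subgroup.mem_normalizer_iff]
    intro k
    constructor
    · intro hk
      rw [Subgroup.mem_centralizer_iff]
      intro l hl
      rw [← hg] at hl
      obtain ⟨l', hl', rfl⟩ := hl
      have h1 := Subgroup.mem_centralizer_iff.mp hk l' hl'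
      show (MulAut.conj g) l' * (g * k * g⁻¹) = g * k * g⁻¹ * (MulAut.conj g) l'
      rw [MulAut.conj_apply]
      calc g * l' * g⁻¹ * (g * k * g⁻¹) = g * (l' * k) * g⁻¹ := by group
        _ = g * (k * l') * g⁻¹ := by rw [h1]
        _ = g * k * g⁻¹ * (g * l' * g⁻¹) := by group
    · intro hk
      rw [Subgroup.mem_centralizer_iff]
      intro l hl
      have h1 := Subgroup.mem_centralizer_iff.mp hk (g * l * g⁻¹) (by rw [← hg]; exact ⟨l, hl, rfl⟩)
      calc l * k = g⁻¹ * (g * l * g⁻¹ * (g * k * g⁻¹)) * g := by group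
        _ = g⁻¹ * (g * k * g⁻¹ * (g * l * g⁻¹)) * g := by rw [h1]
        _ = k * l := by group
  refine ⟨?_, ⟨?_, ?_⟩, hnc, ?_⟩
  · exact Cfsg.Agent.Lib.helper28.isQuasisimple_of_mulEquiv (Subgroup.subgroupOfEquivOfLe hLx) hL.2
  · -- even order
    have h1 : orderOf (⟨x, hxL⟩ : Subgroup.centralizer (L : Set G)) = 2 := by
      rw [← hx]
      exact Subgroup.orderOf_mk x hxL
    have h2 := orderOf_dvd_natCard (⟨x, hxL⟩ : Subgroup.centralizer (L : Set G))
    rw [h1] at h2
    exact (even_iff_two_dvd).mpr h2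
  · intro g hg
    by_contra hodd
    rw [Nat.not_odd_iff_even, even_iff_two_dvd] at hodd
    haveI : Fact (Nat.Prime 2) := ⟨Nat.prime_two⟩
    obtain ⟨y, hy⟩ := exists_prime_orderOf_dvd_card' 2 hodd
    have hy2 : orderOf (y : G) = 2 := by rw [Subgroup.orderOf_coe]; exact hy
    have hyK : (y : G) ∈ Subgroup.centralizer (L : Set G) := (Subgroup.mem_inf.mp y.2).1
    have hyK' : (y : G) ∈ (Subgroup.centralizer (L : Set G)).map (MulAut.conj g).toMonoidHom :=
      (Subgroup.mem_inf.mp y.2).2
    have hyg : (y : G) ∈ Subgroup.centralizer ((L.map (MulAut.conj g).toMonoidHom : Subgroup G) : Set G) := by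
      obtain ⟨k, hk, hky⟩ := hyK'
      rw [← hky, Subgroup.mem_centralizer_iff]
      rintro _ ⟨l, hl, rfl⟩
      have h1 := Subgroup.mem_centralizer_iff.mp hk l hl
      show (MulAut.conj g) l * (MulAut.conj g) k = (MulAut.conj g) k * (MulAut.conj g) l
      rw [← map_mul, ← map_mul, h1]
    exact hg (hN1 g (hA _ hy2 hyK g hyg))
  · apply le_antisymm
    · intro g hg
      exact hN1 g ((Cfsg.Agent.Lib.helper28.map_conj_eq_self_iff_mem_normalizer g L).mpr hg)
    · intro g hg
      -- g x g⁻¹ ∈ C(L)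
      have h1 : g * x * g⁻¹ ∈ Subgroup.centralizer (L : Set G) :=
        (Subgroup.mem_normalizer_iff.mp hg x).mp hxL
      have h2 : x ∈ Subgroup.centralizer ((L.map (MulAut.conj g⁻¹).toMonoidHom : Subgroup G) : Set G) := by
        rw [Subgroup.mem_centralizer_iff]
        rintro _ ⟨l, hl, rfl⟩
        have h3 := Subgroup.mem_centralizer_iff.mp h1 l hl
        show (MulAut.conj g⁻¹) l * x = x * (MulAut.conj g⁻¹) l
        rw [MulAut.conj_apply]
        calc g⁻¹ * l * g⁻¹⁻¹ * x = g⁻¹ * (l * (g * x * g⁻¹)) * g := by group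
          _ = g⁻¹ * (g * x * g⁻¹ * l) * g := by rw [h3]
          _ = x * (g⁻¹ * l * g⁻¹⁻¹) := by group
      have h4 := hA x hx hxL g⁻¹ h2
      have h5 := (Cfsg.Agent.Lib.helper28.map_conj_eq_self_iff_mem_normalizer g⁻¹ L).mp h4
      have h6 := (Subgroup.normalizer (L : Set G)).inv_mem h5
      simpa using h6

end Cfsg.Agent.S1306
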