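import Cfsg.Statements.S1307
import Cfsg.Agent.S0016
import Cfsg.Agent.S0215
import Cfsg.Agent.S1304
import Cfsg.Agent.Lib.helper28.Components
import Cfsg.Agent.Lib.helper37.Schreier
import Cfsg.Agent.Lib.helper99.QdRankA

set_option autoImplicit false
open Cfsg

namespace Cfsg.Agent.S1307

open Cfsg.Agent.Lib.helper28

/-- In a perfect finite group of even order the Sylow 2-subgroups are not cyclic. -/
theorem not_isCyclic_sylow_of_perfect {L : Type*} [Group L] [Finite L] (hperf : commutator L = ⊤)
    (heven : Even (Nat.card L)) (P : Sylow 2 L) : ¬ IsCyclic ↥(P : Subgroup L) := by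
  intro hc
  have : Fact (Nat.Prime 2) := ⟨Nat.prime_two⟩
  have hmin : (Nat.card L).minFac = 2 := (Nat.minFac_eq_two_iff _).mpr (even_iff_two_dvd.mp heven)
  have hcomp := IsCyclic.isComplement' hmin hc
  have hnil : Group.IsNilpotent ↥(P : Subgroup L) := P.2.isNilpotent
  have hsol : Group.IsSolvable ↥(P : Subgroup L) := inferInstance
  have hker := Cfsg.Agent.Lib.helper37.perfect_le_ker_of_solvable
    (MonoidHom.transferSylow P (hc.normalizer_le_centralizer hmin)) ⊤
    (by rw [← _root_.commutator_def]; exact hperf)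
  rw [top_le_iff] at hker
  rw [hker, Subgroup.isComplement'_top_left] at hcomp
  have h2 : 2 ∣ Nat.card (P : Subgroup L) := P.dvd_card_of_dvd_card (even_iff_two_dvd.mp heven)
  rw [hcomp, Subgroup.card_bot] at h2
  norm_num at h2

/-- In a group of 2-rank at most 1, an involution commuting with the involution `z` equals `z`. -/
theorem eq_of_pRankLE {L : Type*} [Group L] [Finite L] (hrk : PRankLE 2 1 L)
    (z : L) (hz1 : z ≠ 1) (hz2 : z ^ 2 = 1)
    (h : L) (hzc : z * h = h * z) (hh1 : h ≠ 1) (hh2 : h ^ 2 = 1) : h = z := by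
  obtain ⟨hA1, hA2⟩ := Cfsg.Agent.Lib.helper99.elemAb_closure 2 ({z, h} : Set L)
    (by
      intro a ha b hb
      rcases ha with ha | ha <;> rcases hb with hb | hb
      · rw [ha, hb]
      · rw [ha, hb]; exact hzc
      · rw [ha, hb]; exact hzc.symm
      · rw [ha, hb])
    (by
      intro a ha
      rcases ha with ha | ha
      · rw [ha]; exact hz2
      · rw [ha]; exact hh2)
  have hle := hrk _ hA1 hA2
  have hzA : z ∈ Subgroup.closure ({z, h} : Set L) := Subgroup.subset_closure (by simp)
  have hhA : h ∈ Subgroup.closure ({z, h} : Set L) := Subgroup.subset_closure (by simp)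
  have hnt : Nontrivial ↥(Subgroup.closure ({z, h} : Set L)) :=
    ⟨⟨⟨z, hzA⟩, 1, fun hc => hz1 (congrArg Subtype.val hc)⟩⟩
  have h2 : Nat.card ↥(Subgroup.closure ({z, h} : Set L)) = 2 :=
    le_antisymm (by simpa using hle) (Finite.one_lt_card_iff_nontrivial.mpr hnt)
  obtain ⟨y, hy, huniq⟩ := (Nat.card_eq_two_iff' (1 : ↥(Subgroup.closure ({z, h} : Set L)))).mp h2
  have e1 := huniq ⟨z, hzA⟩ (fun hc => hz1 (congrArg Subtype.val hc))
  have e2 := huniq ⟨h, hhA⟩ (fun hc => hh1 (congrArg Subtype.val hc))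
  have e3 := e2.trans e1.symm
  exact congrArg Subtype.val e3

/-- Let G be finite, x an involution and L ≤ C_G(x) a component of C_G(x) of even order and 2-rank 1, such that L is a component of C_G(y) for every involution y ∈ C_G(L). Then some involution of L is a classical involution of G. -/
theorem result {G : Type*} [Group G] [Finite G] (x : G) (hx : orderOf x = 2) (L : Subgroup G) (hLx : L ≤ Subgroup.centralizer ({x} : Set G)) (hL : Cfsg.IsComponent (L.subgroupOf (Subgroup.centralizer ({x} : Set G)))) (heven : Even (Nat.card ↥L)) (hrk : Cfsg.PRankLE 2 1 ↥L) (hne : ∀ y : G, orderOf y = 2 → y ∈ Subgroup.centralizer (L : Set G) → L ≤ Subgroup.centralizer ({y} : Set G) ∧ Cfsg.IsComponent (L.subgroupOf (Subgroup.centralizer ({y} : Set G)))) : ∃ t ∈ L, Cfsg.IsClassicalInvolution t := by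
  have : Fact (Nat.Prime 2) := ⟨Nat.prime_two⟩
  have hqs : QS ↥L := qs_of_isQuasisimple
    (isQuasisimple_of_mulEquiv (Subgroup.subgroupOfEquivOfLe hLx) hL.2)
  obtain ⟨hperf, hnt, hnorm⟩ := hqs
  have hperf' : commutator ↥L = ⊤ := hperf.commutator_eq_top
  obtain ⟨P⟩ : Nonempty (Sylow 2 ↥L) := inferInstance
  have hPnc := not_isCyclic_sylow_of_perfect hperf' heven P
  have hP2 : IsPGroup 2 ↥(P : Subgroup ↥L) := P.2
  -- a central involution of `P`
  have hPnt : Nontrivial ↥(P : Subgroup ↥L) := by
    by_contra hcon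
    rw [not_nontrivial_iff_subsingleton] at hcon
    exact hPnc inferInstance
  have hcn : Nontrivial (Subgroup.center ↥(P : Subgroup ↥L)) := hP2.center_nontrivial
  have h2dvd : 2 ∣ Nat.card (Subgroup.center ↥(P : Subgroup ↥L)) := by
    obtain ⟨k, hk⟩ := (hP2.to_subgroup (Subgroup.center _)).exists_card_eq
    have hk0 : k ≠ 0 := by
      rintro rfl
      rw [pow_zero] at hk
      exact absurd hk (Finite.one_lt_card_iff_nontrivial.mpr hcn).ne'
    rw [hk]
    exact dvd_pow_self 2 hk0
  obtain ⟨zc, hzc⟩ := exists_prime_orderOf_dvd_card' 2 h2dvd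
  obtain ⟨z, hzdef⟩ : ∃ z : ↥L, z = ((zc : ↥(P : Subgroup ↥L)) : ↥L) := ⟨_, rfl⟩
  have hzo : orderOf z = 2 := by
    rw [hzdef, Subgroup.orderOf_coe, Subgroup.orderOf_coe, hzc]
  have hz1 : z ≠ 1 := by
    intro h
    rw [h, orderOf_one] at hzo
    norm_num at hzo
  have hz2 : z ^ 2 = 1 := by rw [← hzo]; exact pow_orderOf_eq_one z
  have hzP : z ∈ (P : Subgroup ↥L) := by rw [hzdef]; exact (zc : ↥(P : Subgroup ↥L)).2
  have hzcomm : ∀ h ∈ (P : Subgroup ↥L), z * h = h * z := by
    intro h hh
    have h0 := Subgroup.mem_center_iff.mp zc.2 ⟨h, hh⟩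
    rw [hzdef]
    exact (congrArg Subtype.val h0).symm
  have hinv : ∀ h ∈ (P : Subgroup ↥L), h ≠ 1 → h ^ 2 = 1 → h = z :=
    fun h hh hh1 hh2 => eq_of_pRankLE hrk z hz1 hz2 h (hzcomm h hh) hh1 hh2
  -- `P` has a unique subgroup of order 2
  have huniq : ∀ H K : Subgroup ↥(P : Subgroup ↥L), Nat.card H = 2 → Nat.card K = 2 → H = K := by
    have key : ∀ H : Subgroup ↥(P : Subgroup ↥L), Nat.card H = 2 →
        H = Subgroup.zpowers (⟨z, hzP⟩ : ↥(P : Subgroup ↥L)) := by
      intro H hH
      have hzo' : orderOf (⟨z, hzP⟩ : ↥(P : Subgroup ↥L)) = 2 := by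
        rw [← Subgroup.orderOf_coe]; exact hzo
      apply Subgroup.eq_of_le_of_card_ge
      · intro h hhH
        by_cases h1 : h = 1
        · rw [h1]; exact one_mem _
        · have h2 : h ^ 2 = 1 := by
            have h0 := pow_card_eq_one' (x := (⟨h, hhH⟩ : ↥H))
            rw [hH] at h0
            exact congrArg Subtype.val h0
          have h3 := hinv (h : ↥L) h.2 (fun hc => h1 (Subtype.ext hc))
            (by rw [← Subgroup.coe_pow, h2]; rfl)
          have h4 : h = ⟨z, hzP⟩ := Subtype.ext h3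
          rw [h4]
          exact Subgroup.mem_zpowers _
      · rw [Nat.card_zpowers, hzo', hH]
    intro H K hH hK
    rw [key H hH, key K hK]
  rcases Cfsg.Agent.S0016.result 2 hP2 huniq with hcyc | ⟨-, n, ⟨e⟩⟩
  · exact absurd hcyc hPnc
  · rcases n with _ | m
    · exfalso
      apply hPnc
      have e' : ↥(P : Subgroup ↥L) ≃* QuaternionGroup 1 := e
      have := QuaternionGroup.quaternionGroup_one_isCyclic
      exact isCyclic_of_surjective e'.symm e'.symm.surjective
    · -- the `Z*`-theorem
      obtain ⟨N, hNn, hNodd, hNc⟩ := Cfsg.Agent.S0215.result P z hzo hzP (by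
        intro g hg
        apply hinv _ hg
        · intro hc
          apply hz1
          have h0 : z = g⁻¹ * (g * z * g⁻¹) * g := by group
          rw [h0, hc]; group
        · rw [conj_pow, hz2]; group)
      have hNtop : N ≠ ⊤ := by
        intro h
        rw [h, Subgroup.card_top] at hNodd
        exact (Nat.not_even_iff_odd.mpr hNodd) heven
      have hNZ : N ≤ Subgroup.center ↥L := (hnorm N hNn).resolve_right hNtop
      have hcent := Cfsg.Agent.S1304.result hperf' (MulAut.conj z) (by
        intro x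
        have h0 := hNZ (hNc x)
        rw [MulAut.conj_apply]
        exact h0)
      obtain ⟨t, ht⟩ : ∃ t : G, t = (z : G) := ⟨_, rfl⟩
      have hto : orderOf t = 2 := by rw [ht, Subgroup.orderOf_coe, hzo]
      have htL : t ∈ L := by rw [ht]; exact z.2
      have htc : t ∈ Subgroup.centralizer (L : Set G) := by
        rw [Subgroup.mem_centralizer_iff]
        intro l hl
        have h1 := hcent ⟨l, hl⟩
        rw [MulAut.conj_apply] at h1
        have h2 : t * l * t⁻¹ = l := by
          rw [ht]
          exact congrArg Subtype.val h1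
        calc l * t = (t * l * t⁻¹) * t := by rw [h2]
          _ = t * l := by group
      obtain ⟨h1, h2⟩ := hne t hto htc
      exact ⟨t, htL, hto, L, h1, htL, h2.1, P, m, ⟨e⟩⟩

end Cfsg.Agent.S1307
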