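import Cfsg.Statements.S1313
import Mathlib
import Cfsg.Agent.Lib.helper28.Layer

set_option autoImplicit false
open Cfsg

namespace Cfsg.Agent.S1313

/-- For a finite group H, |H| ≤ |F*(H)|!. -/
theorem result {H : Type*} [Group H] [Finite H] : Nat.card H ≤ Nat.factorial (Nat.card ↥(Cfsg.generalizedFittingSubgroup H)) := by
  classical
  haveI hFn : (Cfsg.generalizedFittingSubgroup H).Normal :=
    Cfsg.Agent.Lib.helper28.generalizedFittingSubgroup_normal H
  let φ : H →* Equiv.Perm ↥(Cfsg.generalizedFittingSubgroup H) :=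
    (MulAut.toPerm ↥(Cfsg.generalizedFittingSubgroup H)).comp MulAut.conjNormal
  have hφ : ∀ (h : H) (x : ↥(Cfsg.generalizedFittingSubgroup H)),
      (((φ h) x : ↥(Cfsg.generalizedFittingSubgroup H)) : H) = h * x * h⁻¹ := fun h x => rfl
  have hker : φ.ker ≤ Cfsg.generalizedFittingSubgroup H := by
    intro h hh
    apply Cfsg.Agent.Lib.helper28.centralizer_generalizedFittingSubgroup_le H
    rw [Subgroup.mem_centralizer_iff]
    intro x hx
    have h1 : φ h = 1 := hh
    have h2 : (((φ h) ⟨x, hx⟩ : ↥(Cfsg.generalizedFittingSubgroup H)) : H) = x := by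
      rw [h1]; rfl
    rw [hφ] at h2
    calc x * h = (h * x * h⁻¹) * h := by rw [h2]
      _ = h * x := by group
  have h1 : Nat.card H = Nat.card φ.ker * Nat.card φ.range := by
    rw [← Subgroup.index_ker, Subgroup.card_mul_index]
  have h2 : Nat.card φ.ker ≤ Nat.card ↥(Cfsg.generalizedFittingSubgroup H) :=
    Subgroup.card_le_of_le hker
  have hfix : ∀ σ ∈ φ.range, σ 1 = 1 := by
    rintro _ ⟨h, rfl⟩
    apply Subtype.ext
    rw [hφ]
    simp
  have h3 : Nat.card ↥(Cfsg.generalizedFittingSubgroup H) * Nat.card φ.range ≤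
      Nat.card (Equiv.Perm ↥(Cfsg.generalizedFittingSubgroup H)) := by
    rw [← Nat.card_prod]
    apply Nat.card_le_card_of_injective
      (fun p : ↥(Cfsg.generalizedFittingSubgroup H) × φ.range => Equiv.mulLeft p.1 * (p.2 : Equiv.Perm ↥(Cfsg.generalizedFittingSubgroup H)))
    rintro ⟨z, σ⟩ ⟨z', σ'⟩ h
    simp only at h
    have hz : z = z' := by
      have := congrArg (fun τ : Equiv.Perm ↥(Cfsg.generalizedFittingSubgroup H) => τ 1) h
      simp only [Equiv.Perm.coe_mul, Function.comp_apply, Equiv.coe_mulLeft] at this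
      rw [hfix _ σ.2, hfix _ σ'.2, mul_one, mul_one] at this
      exact this
    subst hz
    have hσ : (σ : Equiv.Perm ↥(Cfsg.generalizedFittingSubgroup H)) = σ' := mul_left_cancel h
    rw [Prod.mk.injEq]
    exact ⟨rfl, Subtype.ext hσ⟩
  calc Nat.card H = Nat.card φ.ker * Nat.card φ.range := h1
    _ ≤ Nat.card ↥(Cfsg.generalizedFittingSubgroup H) * Nat.card φ.range :=
        Nat.mul_le_mul_right _ h2
    _ ≤ Nat.card (Equiv.Perm ↥(Cfsg.generalizedFittingSubgroup H)) := h3
    _ = Nat.factorial (Nat.card ↥(Cfsg.generalizedFittingSubgroup H)) := Nat.card_perm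

end Cfsg.Agent.S1313
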