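import Cfsg.Statements.S1314
import Mathlib
import Cfsg.Agent.Lib.helper28.Layer

set_option autoImplicit false
open Cfsg

namespace Cfsg.Agent.S1314

open scoped commutatorElement

-- helper declarations


/-- Let x be an involution of a group G and L a perfect subgroup with ⁅L, x L x⁻¹⁆ = 1. Then l ↦ l (x l x⁻¹) is a group homomorphism π from L to G whose kernel is central in L and whose image lies in C_G(x); and the commutator subgroup of C_{L ⊔ xLx⁻¹}(x) equals the image of π. -/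
theorem result {G : Type*} [Group G] [Finite G] (x : G) (hx : orderOf x = 2) (L : Subgroup G) (hperf : ⁅L, L⁆ = L) (hcomm : ⁅L, L.map (MulAut.conj x).toMonoidHom⁆ = ⊥) : ∃ π : ↥L →* G, (∀ l : ↥L, π l = (l : G) * (x * (l : G) * x⁻¹)) ∧ π.ker ≤ Subgroup.center ↥L ∧ π.range ≤ Subgroup.centralizer ({x} : Set G) ∧ ⁅(L ⊔ L.map (MulAut.conj x).toMonoidHom) ⊓ Subgroup.centralizer ({x} : Set G), (L ⊔ L.map (MulAut.conj x).toMonoidHom) ⊓ Subgroup.centralizer ({x} : Set G)⁆ = π.range := by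
  classical
  have hx2 : x * x = 1 := by
    have := pow_orderOf_eq_one x
    rw [hx, pow_two] at this
    exact this
  have hxinv : x⁻¹ = x := inv_eq_of_mul_eq_one_left hx2
  -- elements of `L` commute with elements of `x L x⁻¹`
  have hc : ∀ a ∈ L, ∀ b ∈ L, (x * b * x⁻¹) * a = a * (x * b * x⁻¹) := by
    intro a ha b hb
    have h1 := (Subgroup.commutator_eq_bot_iff_le_centralizer.mp hcomm) ha
    exact Subgroup.mem_centralizer_iff.mp h1 (x * b * x⁻¹) ⟨b, hb, by simp [MulAut.conj_apply]⟩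
  let π : ↥L →* G := MonoidHom.mk' (fun l => (l : G) * (x * (l : G) * x⁻¹)) (by
    intro l m
    have h1 := hc m m.2 l l.2
    simp only [Subgroup.coe_mul]
    calc (l : G) * (m : G) * (x * ((l : G) * (m : G)) * x⁻¹)
        = (l : G) * ((m : G) * (x * (l : G) * x⁻¹)) * (x * (m : G) * x⁻¹) := by group
      _ = (l : G) * ((x * (l : G) * x⁻¹) * (m : G)) * (x * (m : G) * x⁻¹) := by rw [h1]
      _ = (l : G) * (x * (l : G) * x⁻¹) * ((m : G) * (x * (m : G) * x⁻¹)) := by group)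
  have hπ : ∀ l : ↥L, π l = (l : G) * (x * (l : G) * x⁻¹) := fun l => rfl
  have hLx : ∀ b ∈ L, x * b * x⁻¹ ∈ L.map (MulAut.conj x).toMonoidHom :=
    fun b hb => ⟨b, hb, by simp [MulAut.conj_apply]⟩
  -- elements of `L ⊓ x L x⁻¹` commute with `L` and with `x L x⁻¹`
  have hz1 : ∀ z ∈ L ⊓ L.map (MulAut.conj x).toMonoidHom, ∀ a ∈ L, z * a = a * z := by
    rintro z ⟨-, ⟨b, hb, rfl⟩⟩ a ha
    simpa [MulAut.conj_apply] using hc a ha b hb
  have hz2 : ∀ z ∈ L ⊓ L.map (MulAut.conj x).toMonoidHom, ∀ a ∈ L,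
      z * (x * a * x⁻¹) = (x * a * x⁻¹) * z := by
    rintro z ⟨hz, -⟩ a ha
    exact (hc z hz a ha).symm
  have hz3 : ∀ z ∈ L ⊓ L.map (MulAut.conj x).toMonoidHom, ∀ l : ↥L, z * π l = π l * z := by
    intro z hz l
    rw [hπ]
    calc z * ((l : G) * (x * (l : G) * x⁻¹)) = (z * (l : G)) * (x * (l : G) * x⁻¹) := by group
      _ = ((l : G) * z) * (x * (l : G) * x⁻¹) := by rw [hz1 z hz l l.2]
      _ = (l : G) * (z * (x * (l : G) * x⁻¹)) := by group
      _ = (l : G) * ((x * (l : G) * x⁻¹) * z) := by rw [hz2 z hz l l.2]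
      _ = (l : G) * (x * (l : G) * x⁻¹) * z := by group
  have hrange_cent : π.range ≤ Subgroup.centralizer ({x} : Set G) := by
    rintro _ ⟨l, rfl⟩
    rw [Subgroup.mem_centralizer_iff]
    intro y hy
    rw [Set.mem_singleton_iff] at hy
    subst hy
    rw [hπ]
    have h1 := hc l l.2 l l.2
    calc y * ((l : G) * (y * (l : G) * y⁻¹)) = (y * (l : G) * y⁻¹) * (y * y) * (l : G) * y⁻¹ := by
          group
      _ = (y * (l : G) * y⁻¹) * (l : G) * y := by rw [hx2, hxinv]; group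
      _ = (l : G) * (y * (l : G) * y⁻¹) * y := by rw [h1]
  have hrange_sup : π.range ≤ L ⊔ L.map (MulAut.conj x).toMonoidHom := by
    rintro _ ⟨l, rfl⟩
    rw [hπ]
    exact Subgroup.mul_mem_sup l.2 (hLx l l.2)
  refine ⟨π, hπ, ?_, hrange_cent, ?_⟩
  · intro l hl
    rw [MonoidHom.mem_ker, hπ] at hl
    rw [Subgroup.mem_center_iff]
    intro m
    apply Subtype.ext
    simp only [Subgroup.coe_mul]
    have h1 : (l : G) = x * (l : G)⁻¹ * x⁻¹ := by
      calc (l : G) = (x * (l : G) * x⁻¹)⁻¹ := eq_inv_of_mul_eq_one_left hl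
        _ = x * (l : G)⁻¹ * x⁻¹ := by group
    have h2 := hc m m.2 (l : G)⁻¹ (L.inv_mem l.2)
    rw [← h1] at h2
    exact h2.symm
  · apply le_antisymm
    · rw [Subgroup.commutator_le]
      -- decomposition of elements of the centralizer
      have hdec : ∀ c ∈ (L ⊔ L.map (MulAut.conj x).toMonoidHom) ⊓
          Subgroup.centralizer ({x} : Set G), ∃ a : ↥L,
          ∃ z ∈ L ⊓ L.map (MulAut.conj x).toMonoidHom, c = π a * z := by
        rintro c ⟨hc1, hc2⟩
        have hnorm : L ≤ Subgroup.normalizer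
            ((L.map (MulAut.conj x).toMonoidHom : Subgroup G) : Set G) :=
          (Subgroup.commutator_eq_bot_iff_le_centralizer.mp hcomm).trans
            (Subgroup.centralizer_le_normalizer _)
        obtain ⟨a, ha, b', ⟨b, hb, rfl⟩, rfl⟩ :=
          Cfsg.Agent.Lib.helper28.exists_mul_of_mem_sup_of_le_normalizer hnorm hc1
        have hb' : (MulAut.conj x).toMonoidHom b = x * b * x⁻¹ := by simp [MulAut.conj_apply]
        rw [hb'] at hc2 ⊢
        have hcx : x * (a * (x * b * x⁻¹)) = a * (x * b * x⁻¹) * x :=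
          Subgroup.mem_centralizer_iff.mp hc2 x rfl
        have e1 : (x * a * x⁻¹) * b = a * (x * b * x⁻¹) := by
          calc (x * a * x⁻¹) * b = x * (a * (x * b * x⁻¹)) * x⁻¹ * (x * x)⁻¹ := by
                rw [hxinv]; group
            _ = a * (x * b * x⁻¹) * x * x⁻¹ * (x * x)⁻¹ := by rw [hcx]
            _ = a * (x * b * x⁻¹) := by rw [hx2]; group
        have hab : a⁻¹ * b = x * (b * a⁻¹) * x⁻¹ := by
          have e2 := hc b hb a ha
          calc a⁻¹ * b = a⁻¹ * (b * (x * a * x⁻¹)) * (x * a⁻¹ * x⁻¹) := by group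
            _ = a⁻¹ * ((x * a * x⁻¹) * b) * (x * a⁻¹ * x⁻¹) := by rw [e2]
            _ = a⁻¹ * (a * (x * b * x⁻¹)) * (x * a⁻¹ * x⁻¹) := by rw [e1]
            _ = x * (b * a⁻¹) * x⁻¹ := by group
        refine ⟨⟨a, ha⟩, a⁻¹ * b, ⟨L.mul_mem (L.inv_mem ha) hb,
          ⟨b * a⁻¹, L.mul_mem hb (L.inv_mem ha), ?_⟩⟩, ?_⟩
        · rw [hab]; simp [MulAut.conj_apply]
        · rw [hπ]
          have e3 := hc a⁻¹ (L.inv_mem ha) a ha
          calc a * (x * b * x⁻¹) = (x * a * x⁻¹) * b := e1.symm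
            _ = a * (a⁻¹ * (x * a * x⁻¹)) * b := by group
            _ = a * ((x * a * x⁻¹) * a⁻¹) * b := by rw [e3]
            _ = a * (x * a * x⁻¹) * (a⁻¹ * b) := by group
      have L1 : ∀ a b z : G, z * b = b * z → ⁅a * z, b⁆ = ⁅a, b⁆ := by
        intro a b z h
        rw [commutatorElement_def, commutatorElement_def]
        calc a * z * b * (a * z)⁻¹ * b⁻¹ = a * (z * b) * z⁻¹ * a⁻¹ * b⁻¹ := by group
          _ = a * (b * z) * z⁻¹ * a⁻¹ * b⁻¹ := by rw [h]
          _ = a * b * a⁻¹ * b⁻¹ := by group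
      have L2 : ∀ a b z : G, z * a = a * z → ⁅a, b * z⁆ = ⁅a, b⁆ := by
        intro a b z h
        rw [commutatorElement_def, commutatorElement_def]
        have h' : z * a⁻¹ = a⁻¹ * z := by
          calc z * a⁻¹ = a⁻¹ * (a * z) * a⁻¹ := by group
            _ = a⁻¹ * (z * a) * a⁻¹ := by rw [h]
            _ = a⁻¹ * z := by group
        calc a * (b * z) * a⁻¹ * (b * z)⁻¹ = a * b * (z * a⁻¹) * z⁻¹ * b⁻¹ := by group
          _ = a * b * (a⁻¹ * z) * z⁻¹ * b⁻¹ := by rw [h']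
          _ = a * b * a⁻¹ * b⁻¹ := by group
      intro c₁ h₁ c₂ h₂
      obtain ⟨a₁, z₁, hz₁, rfl⟩ := hdec c₁ h₁
      obtain ⟨a₂, z₂, hz₂, rfl⟩ := hdec c₂ h₂
      have hz12 : z₁ * (π a₂ * z₂) = (π a₂ * z₂) * z₁ := by
        calc z₁ * (π a₂ * z₂) = (z₁ * π a₂) * z₂ := by group
          _ = (π a₂ * z₁) * z₂ := by rw [hz3 z₁ hz₁ a₂]
          _ = π a₂ * (z₁ * z₂) := by group
          _ = π a₂ * (z₂ * z₁) := by rw [hz1 z₁ hz₁ z₂ hz₂.1]
          _ = (π a₂ * z₂) * z₁ := by group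
      rw [L1 _ _ _ hz12, L2 _ _ _ (hz3 z₂ hz₂ a₁), ← map_commutatorElement]
      exact ⟨_, rfl⟩
    · have hperfL : ⁅(⊤ : Subgroup ↥L), (⊤ : Subgroup ↥L)⁆ = ⊤ := by
        have h1 := Cfsg.Agent.Lib.helper28.commutator_subgroupOf (le_refl L) (le_refl L)
        rw [hperf, Subgroup.subgroupOf_self] at h1
        exact h1
      have h2 : π.range = ⁅π.range, π.range⁆ := by
        conv_lhs => rw [MonoidHom.range_eq_map, ← hperfL, Subgroup.map_commutator,
          ← MonoidHom.range_eq_map]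
      rw [h2]
      exact Subgroup.commutator_mono (le_inf hrange_sup hrange_cent)
        (le_inf hrange_sup hrange_cent)

end Cfsg.Agent.S1314
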