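import Cfsg.Statements.S1320
import Mathlib
import Cfsg.Agent.Lib.helper28.Layer

set_option autoImplicit false
open Cfsg

namespace Cfsg.Agent.S1320

/-- Let B be a normal subgroup of the finite group A. Then F*(A) ∩ B = F*(B). -/
theorem result {A : Type*} [Group A] [Finite A] (B : Subgroup A) [B.Normal] : Cfsg.generalizedFittingSubgroup A ⊓ B = (Cfsg.generalizedFittingSubgroup ↥B).map B.subtype := by
  have hBsn : B.IsSubnormal := Subgroup.Normal.isSubnormal inferInstance
  apply le_antisymm
  · -- D = F*(A) ⊓ B is normal in A and contained in F*(A)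
    set D : Subgroup A := Cfsg.generalizedFittingSubgroup A ⊓ B with hD
    have hDn : D.Normal := by
      haveI := Cfsg.Agent.Lib.helper28.generalizedFittingSubgroup_normal A
      infer_instance
    have hDsn : D.IsSubnormal := Subgroup.Normal.isSubnormal hDn
    have hDB : D ≤ B := inf_le_right
    have h1 := Cfsg.Agent.Lib.helper28.fittingSubgroup_sup_layer_eq_top_of_isSubnormal hDsn
      inf_le_left
    have h2 : D = (Cfsg.fittingSubgroup ↥D ⊔ Cfsg.layer ↥D).map D.subtype := by
      rw [h1, ← MonoidHom.range_eq_map, Subgroup.range_subtype]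
    rw [h2, Subgroup.map_sup]
    unfold Cfsg.generalizedFittingSubgroup
    rw [Subgroup.map_sup, sup_comm]
    apply sup_le_sup
    · rw [Cfsg.Agent.Lib.helper28.map_layer_of_isSubnormal hDsn,
        Cfsg.Agent.Lib.helper28.map_layer_of_isSubnormal hBsn]
      apply sSup_le_sSup
      rintro K ⟨hK, hKD⟩
      exact ⟨hK, hKD.trans hDB⟩
    · rw [Cfsg.Agent.Lib.helper28.map_fittingSubgroup_of_isSubnormal hDsn,
        Cfsg.Agent.Lib.helper28.map_fittingSubgroup_of_isSubnormal hBsn]
      exact inf_le_inf_left _ hDB
  · apply le_inf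
    · unfold Cfsg.generalizedFittingSubgroup
      rw [Subgroup.map_sup]
      apply sup_le_sup
      · exact Cfsg.Agent.Lib.helper28.map_layer_le_of_isSubnormal hBsn
      · rw [Cfsg.Agent.Lib.helper28.map_fittingSubgroup_of_isSubnormal hBsn]
        exact inf_le_left
    · rintro _ ⟨y, -, rfl⟩; exact y.2

end Cfsg.Agent.S1320
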