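import Cfsg.Statements.S1321
import Mathlib
import Cfsg.Agent.Lib.helper28.Layer

set_option autoImplicit false
open Cfsg

namespace Cfsg.Agent.S1321

/-- Let X be finite and U ≤ X. Then E(X) is generated by C_{E(X)}(U) together with ⁅E(X), U⁆ (indeed it is their product, ⁅E(X), U⁆ being normal in E(X)). -/
theorem result {X : Type*} [Group X] [Finite X] (U : Subgroup X) : Cfsg.layer X = (Cfsg.layer X ⊓ Subgroup.centralizer (U : Set X)) ⊔ ⁅Cfsg.layer X, U⁆ ∧ ⁅Cfsg.layer X, U⁆ ≤ Cfsg.layer X := by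
  have hEn : (Cfsg.layer X).Normal := Cfsg.Agent.Lib.helper28.layer_normal X
  have hle : ⁅Cfsg.layer X, U⁆ ≤ Cfsg.layer X := Subgroup.commutator_le_left (Cfsg.layer X) U
  refine ⟨?_, hle⟩
  apply le_antisymm
  · have hsn : (⁅Cfsg.layer X, U⁆).IsSubnormal := by
      apply Subgroup.IsSubnormal.trans hle _ (Subgroup.Normal.isSubnormal hEn)
      exact Subgroup.Normal.isSubnormal
        ((Subgroup.normal_subgroupOf_iff_le_normalizer hle).mpr
          (Subgroup.normalizer_commutator_ge_left (Cfsg.layer X) U))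
    apply sSup_le
    intro K hK
    have hKE : K ≤ Cfsg.layer X := Cfsg.Agent.Lib.helper28.le_layer hK
    rcases Cfsg.Agent.Lib.helper28.isComponent_le_or_commute hK hsn with h | h
    · exact h.trans le_sup_right
    · apply le_trans _ le_sup_left
      apply le_inf hKE
      rw [← Subgroup.commutator_eq_bot_iff_le_centralizer]
      have h4 : ⁅⁅K, U⁆, K⁆ = ⊥ := by
        rw [eq_bot_iff, ← h, Subgroup.commutator_comm K ⁅Cfsg.layer X, U⁆]
        exact Subgroup.commutator_mono (Subgroup.commutator_mono hKE le_rfl) le_rfl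
      have h5 : ⁅⁅U, K⁆, K⁆ = ⊥ := by rw [Subgroup.commutator_comm U K]; exact h4
      have h6 : ⁅⁅K, K⁆, U⁆ = ⊥ := Subgroup.commutator_commutator_eq_bot_of_rotate h4 h5
      rwa [Cfsg.Agent.Lib.helper28.isComponent_isPerfect hK] at h6
  · exact sup_le inf_le_left hle

end Cfsg.Agent.S1321
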