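import Mathlib
import Cfsg.Statements.S1323

set_option autoImplicit false
open Cfsg

namespace Cfsg.Agent.S1323

open Equiv

/-- A simple perfect group is quasisimple. -/
theorem quasi_of_simple {H : Type*} [Group H] (hs : IsSimpleGroup H) (hperf : commutator H = ⊤) :
    Cfsg.IsQuasisimple H := by
  refine ⟨⟨hperf⟩, ?_⟩
  have hc : Subgroup.center H ≠ ⊤ := by
    intro h
    rw [← commutator_eq_bot_iff_center_eq_top, hperf] at h
    exact top_ne_bot h
  have : Nontrivial (H ⧸ Subgroup.center H) := by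
    rw [QuotientGroup.nontrivial_iff]
    exact hc
  exact IsSimpleGroup.isSimpleGroup_of_surjective (QuotientGroup.mk' (Subgroup.center H))
    (QuotientGroup.mk'_surjective _)

variable {n : ℕ}

theorem exists_notMem (S : Finset (Fin n)) (h : S.card < n) : ∃ s, s ∉ S := by
  by_contra hc
  have : S = Finset.univ := Finset.eq_univ_of_forall (by simpa using hc)
  rw [this, Finset.card_univ, Fintype.card_fin] at h
  exact lt_irrefl _ h

theorem card_low_le : (Finset.univ.filter (fun x : Fin n => (x : ℕ) < 4)).card ≤ 4 := by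
  have h := Finset.card_le_card_of_injOn (s := Finset.univ.filter (fun x : Fin n => (x : ℕ) < 4))
    (t := Finset.range 4) (fun x : Fin n => (x : ℕ))
    (by intro x hx; simpa using hx)
    (by intro x _ y _ hxy; exact Fin.ext hxy)
  simpa using h

/-- A point outside `{0,1,2,3}` avoiding a given small finset. -/
theorem exists_high (A : Finset (Fin n)) (hA : A.card + 4 < n) :
    ∃ a : Fin n, ¬ (a : ℕ) < 4 ∧ a ∉ A := by
  obtain ⟨a, ha⟩ := exists_notMem (A ∪ Finset.univ.filter (fun x : Fin n => (x : ℕ) < 4))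
    (lt_of_le_of_lt (Finset.card_union_le _ _) (by have := card_low_le (n := n); omega))
  rw [Finset.mem_union, not_or] at ha
  refine ⟨a, ?_, ha.1⟩
  intro h
  exact ha.2 (by simp [h])

theorem c3_mem {x y z : Fin n} (hxy : x ≠ y) (hyz : y ≠ z) :
    swap x y * swap y z ∈ alternatingGroup (Fin n) := by
  rw [Perm.mem_alternatingGroup, Perm.sign_mul, Perm.sign_swap hxy, Perm.sign_swap hyz]
  rfl

/-- The pointwise stabiliser of `{0,1,2,3}` moves every other point, fixing a prescribed one. -/
theorem exists_move (hn : 9 ≤ n) (y z : Fin n) (hy : ¬ (y : ℕ) < 4) :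
    ∃ l : alternatingGroup (Fin n), (∀ x : Fin n, (x : ℕ) < 4 → (l : Perm (Fin n)) x = x) ∧
      (l : Perm (Fin n)) y ≠ y ∧ (z ≠ y → (l : Perm (Fin n)) z = z) := by
  obtain ⟨a, ha, ha'⟩ := exists_high ({y, z} : Finset (Fin n))
    (by have := Finset.card_le_two (a := y) (b := z); omega)
  obtain ⟨b, hb, hb'⟩ := exists_high ({y, z, a} : Finset (Fin n))
    (by have := Finset.card_le_three (a := y) (b := z) (c := a); omega)
  simp only [Finset.mem_insert, Finset.mem_singleton, not_or] at ha' hb'
  refine ⟨⟨swap y a * swap a b, c3_mem (Ne.symm ha'.1) (Ne.symm hb'.2.2)⟩, ?_, ?_, ?_⟩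
  · intro x hx
    have h1 : x ≠ y := fun h => hy (h ▸ hx)
    have h2 : x ≠ a := fun h => ha (h ▸ hx)
    have h3 : x ≠ b := fun h => hb (h ▸ hx)
    simp only [Perm.mul_apply, Equiv.swap_apply_def]
    grind
  · simp only [Perm.mul_apply, Equiv.swap_apply_def]
    grind
  · intro hz
    simp only [Perm.mul_apply, Equiv.swap_apply_def]
    grind

/-- The double transposition `(0 1)(2 3)`. -/
theorem exists_c0 (hn : 9 ≤ n) :
    ∃ c : alternatingGroup (Fin n), (∀ x : Fin n, ¬ (x : ℕ) < 4 → (c : Perm (Fin n)) x = x) ∧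
      (∀ x : Fin n, (x : ℕ) < 4 → (c : Perm (Fin n)) x ≠ x) ∧ c * c = 1 ∧ c ≠ 1 := by
  obtain ⟨p0, hp0⟩ : ∃ p : Fin n, (p : ℕ) = 0 := ⟨⟨0, by omega⟩, rfl⟩
  obtain ⟨p1, hp1⟩ : ∃ p : Fin n, (p : ℕ) = 1 := ⟨⟨1, by omega⟩, rfl⟩
  obtain ⟨p2, hp2⟩ : ∃ p : Fin n, (p : ℕ) = 2 := ⟨⟨2, by omega⟩, rfl⟩
  obtain ⟨p3, hp3⟩ : ∃ p : Fin n, (p : ℕ) = 3 := ⟨⟨3, by omega⟩, rfl⟩
  have h01 : p0 ≠ p1 := fun h => by rw [h] at hp0; omega
  have h02 : p0 ≠ p2 := fun h => by rw [h] at hp0; omega
  have h03 : p0 ≠ p3 := fun h => by rw [h] at hp0; omega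
  have h12 : p1 ≠ p2 := fun h => by rw [h] at hp1; omega
  have h13 : p1 ≠ p3 := fun h => by rw [h] at hp1; omega
  have h23 : p2 ≠ p3 := fun h => by rw [h] at hp2; omega
  have hc : swap p0 p1 * swap p2 p3 ∈ alternatingGroup (Fin n) := by
    rw [Perm.mem_alternatingGroup, Perm.sign_mul, Perm.sign_swap h01, Perm.sign_swap h23]
    rfl
  have hlow : ∀ x : Fin n, (x : ℕ) < 4 → x = p0 ∨ x = p1 ∨ x = p2 ∨ x = p3 := by
    intro x hx
    have : (x : ℕ) = 0 ∨ (x : ℕ) = 1 ∨ (x : ℕ) = 2 ∨ (x : ℕ) = 3 := by omega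
    rcases this with h | h | h | h
    · exact Or.inl (Fin.ext (by omega))
    · exact Or.inr (Or.inl (Fin.ext (by omega)))
    · exact Or.inr (Or.inr (Or.inl (Fin.ext (by omega))))
    · exact Or.inr (Or.inr (Or.inr (Fin.ext (by omega))))
  have hmove : ∀ x : Fin n, (x : ℕ) < 4 → (swap p0 p1 * swap p2 p3) x ≠ x := by
    intro x hx
    have := hlow x hx
    simp only [Perm.mul_apply, Equiv.swap_apply_def]
    grind
  refine ⟨⟨_, hc⟩, ?_, hmove, ?_, ?_⟩
  · intro x hx
    have h0 : x ≠ p0 := fun h => hx (by rw [h]; omega)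
    have h1 : x ≠ p1 := fun h => hx (by rw [h]; omega)
    have h2 : x ≠ p2 := fun h => hx (by rw [h]; omega)
    have h3 : x ≠ p3 := fun h => hx (by rw [h]; omega)
    simp only [Perm.mul_apply, Equiv.swap_apply_def]
    grind
  · apply Subtype.ext
    apply Equiv.ext
    intro x
    simp only [Subgroup.coe_mul, Subgroup.coe_one, Perm.mul_apply, Perm.one_apply,
      Equiv.swap_apply_def]
    grind
  · intro h
    have := congrArg (fun c : alternatingGroup (Fin n) => (c : Perm (Fin n)) p0) h
    exact hmove p0 (by omega) this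


theorem inv_app (g : Perm (Fin n)) (x : Fin n) : g⁻¹ (g x) = x := g.symm_apply_apply x

theorem app_inv (g : Perm (Fin n)) (x : Fin n) : g (g⁻¹ x) = x := g.apply_symm_apply x

/-- Normaliser of a pointwise stabiliser. -/
theorem mem_normalizer_pointwise (Q : Fin n → Prop) (H : Subgroup (alternatingGroup (Fin n)))
    (hH : ∀ h : alternatingGroup (Fin n), h ∈ H ↔ ∀ x, Q x → (h : Perm (Fin n)) x = x)
    (hmove : ∀ y, ¬ Q y → ∃ h ∈ H, (h : Perm (Fin n)) y ≠ y)
    (g : alternatingGroup (Fin n)) :
    g ∈ Subgroup.normalizer (H : Set (alternatingGroup (Fin n))) ↔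
      ∀ x, Q ((g : Perm (Fin n)) x) ↔ Q x := by
  have key : ∀ g : alternatingGroup (Fin n),
      g ∈ Subgroup.normalizer (H : Set (alternatingGroup (Fin n))) →
      ∀ x, Q x → Q ((g : Perm (Fin n)) x) := by
    intro g hg x hx
    by_contra hq
    obtain ⟨h', hh', hmv⟩ := hmove _ hq
    rw [Subgroup.mem_normalizer_iff] at hg
    have h1 : g⁻¹ * h' * g ∈ H := by
      rw [hg]
      have : g * (g⁻¹ * h' * g) * g⁻¹ = h' := by group
      rw [this]
      exact hh'
    have h2 := (hH _).mp h1 x hx
    simp only [Subgroup.coe_mul, Subgroup.coe_inv, Perm.mul_apply] at h2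
    apply hmv
    have h3 := congrArg (g : Perm (Fin n)) h2
    rw [app_inv] at h3
    exact h3
  constructor
  · intro hg x
    constructor
    · intro hq
      have h1 := key g⁻¹ (inv_mem hg) _ hq
      rw [Subgroup.coe_inv, inv_app] at h1
      exact h1
    · exact key g hg x
  · intro hg
    rw [Subgroup.mem_normalizer_iff]
    intro h
    rw [hH, hH]
    constructor
    · intro hh x hx
      simp only [Subgroup.coe_mul, Subgroup.coe_inv, Perm.mul_apply]
      have hq : Q ((g : Perm (Fin n))⁻¹ x) := by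
        rw [← hg, app_inv]
        exact hx
      rw [hh _ hq, app_inv]
    · intro hh x hx
      have hq : Q ((g : Perm (Fin n)) x) := (hg x).mpr hx
      have h1 := hh _ hq
      simp only [Subgroup.coe_mul, Subgroup.coe_inv, Perm.mul_apply] at h1
      rw [inv_app] at h1
      exact (g : Perm (Fin n)).injective h1

/-- An even involution moves at least four points. -/
theorem no_small_invol (x : Perm (Fin n)) (hx : x ∈ alternatingGroup (Fin n)) (h2 : orderOf x = 2)
    (U : Finset (Fin n)) (hU : U.card ≤ 3) (hsupp : x.support ⊆ U) : False := by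
  have hk : x.support.card ≤ 3 := le_trans (Finset.card_le_card hsupp) hU
  have hne : x ≠ 1 := by
    intro h
    rw [h, orderOf_one] at h2
    omega
  have h0 : x.support.card ≠ 0 := by
    rw [Ne, Finset.card_eq_zero, Perm.support_eq_empty_iff]
    exact hne
  have h1 : x.support.card ≠ 1 := Perm.card_support_ne_one x
  have hcase : x.support.card = 2 ∨ x.support.card = 3 := by omega
  rcases hcase with h | h
  · have hs : x.IsSwap := Perm.card_support_eq_two.mp h
    rw [Perm.mem_alternatingGroup, hs.sign_eq] at hx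
    exact absurd hx (by decide)
  · have h3 : x.IsThreeCycle := card_support_eq_three_iff.mp h
    rw [h3.orderOf] at h2
    omega

theorem stab_iff (g : Perm (Fin n)) (h : ∀ t : Fin n, ¬ (t : ℕ) < 4 → ¬ ((g t : Fin n) : ℕ) < 4) :
    ∀ x : Fin n, ¬ ((g x : Fin n) : ℕ) < 4 ↔ ¬ (x : ℕ) < 4 := by
  intro x
  refine ⟨fun hx hlt => ?_, h x⟩
  have hsub : (Finset.univ.filter (fun y : Fin n => ¬ (y : ℕ) < 4)).image g ⊆
      Finset.univ.filter (fun y : Fin n => ¬ (y : ℕ) < 4) := by
    intro y hy
    rw [Finset.mem_image] at hy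
    obtain ⟨t, ht, rfl⟩ := hy
    rw [Finset.mem_filter] at ht ⊢
    exact ⟨Finset.mem_univ _, h t ht.2⟩
  have hcard : ((Finset.univ.filter (fun y : Fin n => ¬ (y : ℕ) < 4)).image g).card =
      (Finset.univ.filter (fun y : Fin n => ¬ (y : ℕ) < 4)).card :=
    Finset.card_image_of_injective _ g.injective
  have heq := Finset.eq_of_subset_of_card_le hsub (le_of_eq hcard.symm)
  have hmem : g x ∈ (Finset.univ.filter (fun y : Fin n => ¬ (y : ℕ) < 4)).image g := by
    rw [heq, Finset.mem_filter]
    exact ⟨Finset.mem_univ _, hx⟩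
  rw [Finset.mem_image] at hmem
  obtain ⟨t, ht, hte⟩ := hmem
  rw [Finset.mem_filter] at ht
  rw [g.injective hte] at ht
  exact ht.2 hlt

/-- For n ≥ 9, the subgroup of the alternating group on Fin n fixing each of the points 0, 1, 2, 3 is a standard subgroup. -/
theorem result (n : ℕ) (h4 : 4 ≤ n) (hn : 9 ≤ n) : Cfsg.IsStandardSubgroup (⨅ i : Fin 4, MulAction.stabilizer ↥(alternatingGroup (Fin n)) (Fin.castLE h4 i : Fin n)) := by
  obtain ⟨L, hLdef⟩ : ∃ L : Subgroup (alternatingGroup (Fin n)),
      L = ⨅ i : Fin 4, MulAction.stabilizer ↥(alternatingGroup (Fin n)) (Fin.castLE h4 i : Fin n) :=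
    ⟨_, rfl⟩
  rw [← hLdef]
  have hL : ∀ g : alternatingGroup (Fin n),
      g ∈ L ↔ ∀ x : Fin n, (x : ℕ) < 4 → (g : Perm (Fin n)) x = x := by
    intro g
    rw [hLdef, Subgroup.mem_iInf]
    constructor
    · intro h x hx
      have h1 := h ⟨x, hx⟩
      rw [MulAction.mem_stabilizer_iff] at h1
      have e : Fin.castLE h4 ⟨(x : ℕ), hx⟩ = x := Fin.ext rfl
      rw [e] at h1
      exact h1
    · intro h i
      rw [MulAction.mem_stabilizer_iff]
      exact h _ (by simp)
  -- the centraliser
  have hC : ∀ c : alternatingGroup (Fin n),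
      c ∈ Subgroup.centralizer (L : Set (alternatingGroup (Fin n))) ↔
        ∀ x : Fin n, ¬ (x : ℕ) < 4 → (c : Perm (Fin n)) x = x := by
    intro c
    rw [Subgroup.mem_centralizer_iff]
    constructor
    · intro hc x hx
      by_contra hne
      by_cases hcx : (((c : Perm (Fin n)) x : Fin n) : ℕ) < 4
      · obtain ⟨l, hl1, hl2, -⟩ := exists_move hn x x hx
        have h1 := hc l ((hL l).mpr hl1)
        have h2 := congrArg (fun g : alternatingGroup (Fin n) => (g : Perm (Fin n)) x) h1
        simp only [Subgroup.coe_mul, Perm.mul_apply] at h2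
        rw [hl1 _ hcx] at h2
        exact hl2 ((c : Perm (Fin n)).injective h2).symm
      · obtain ⟨l, hl1, hl2, hl3⟩ := exists_move hn ((c : Perm (Fin n)) x) x hcx
        have h1 := hc l ((hL l).mpr hl1)
        have h2 := congrArg (fun g : alternatingGroup (Fin n) => (g : Perm (Fin n)) x) h1
        simp only [Subgroup.coe_mul, Perm.mul_apply] at h2
        rw [hl3 (Ne.symm hne)] at h2
        exact hl2 h2
    · intro hc l hl
      rw [SetLike.mem_coe, hL] at hl
      apply Subtype.ext
      apply Equiv.ext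
      intro x
      simp only [Subgroup.coe_mul, Perm.mul_apply]
      have i1 := (l : Perm (Fin n)).injective
      have i2 := (c : Perm (Fin n)).injective
      grind
  -- moving lemmas
  have hmoveL : ∀ y : Fin n, ¬ (y : ℕ) < 4 → ∃ h ∈ L, (h : Perm (Fin n)) y ≠ y := by
    intro y hy
    obtain ⟨l, hl1, hl2, -⟩ := exists_move hn y y hy
    exact ⟨l, (hL l).mpr hl1, hl2⟩
  obtain ⟨c₀, hc1, hc2, hc3, hc4⟩ := exists_c0 hn
  have hc₀C : c₀ ∈ Subgroup.centralizer (L : Set (alternatingGroup (Fin n))) := (hC c₀).mpr hc1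
  have hmoveC : ∀ y : Fin n, ¬ ¬ (y : ℕ) < 4 →
      ∃ h ∈ Subgroup.centralizer (L : Set (alternatingGroup (Fin n))), (h : Perm (Fin n)) y ≠ y := by
    intro y hy
    exact ⟨c₀, hc₀C, hc2 y (not_not.mp hy)⟩
  have hNL := mem_normalizer_pointwise (fun x : Fin n => (x : ℕ) < 4) L hL hmoveL
  have hNC := mem_normalizer_pointwise (fun x : Fin n => ¬ (x : ℕ) < 4)
    (Subgroup.centralizer (L : Set (alternatingGroup (Fin n)))) hC hmoveC
  -- cardinalities
  have hlow := card_low_le (n := n)
  have hsplit := Finset.card_filter_add_card_filter_not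
    (s := (Finset.univ : Finset (Fin n))) (fun x : Fin n => (x : ℕ) < 4)
  rw [Finset.card_univ, Fintype.card_fin] at hsplit
  refine ⟨?_, ⟨?_, ?_⟩, ?_, ?_⟩
  · -- quasisimple
    obtain ⟨T, hTdef⟩ : ∃ T : Finset (Fin n), T = Finset.univ.filter (fun x : Fin n => ¬ (x : ℕ) < 4) :=
      ⟨_, rfl⟩
    have hT : 5 ≤ Nat.card ↥T := by
      rw [Nat.card_eq_fintype_card, Fintype.card_coe, hTdef]
      omega
    have hsimp : IsSimpleGroup (alternatingGroup ↥T) := alternatingGroup.isSimpleGroup hT
    have hperf : commutator (alternatingGroup ↥T) = ⊤ := commutator_alternatingGroup_eq_top hT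
    have hrange : (alternatingGroup.ofSubtype T).range = L := by
      ext k
      rw [alternatingGroup.mem_range_ofSubtype_iff, hL]
      constructor
      · intro h x hx
        by_contra hne
        have h1 := h (Perm.mem_support.mpr hne)
        rw [hTdef, Finset.mem_filter] at h1
        exact h1.2 hx
      · intro h x hx
        rw [hTdef, Finset.mem_filter]
        refine ⟨Finset.mem_univ _, fun hlt => ?_⟩
        exact (Perm.mem_support.mp hx) (h x hlt)
    rw [← hrange]
    have hsurj := (alternatingGroup.ofSubtype T).rangeRestrict_surjective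
    have hnt : Nontrivial ↥(alternatingGroup.ofSubtype T).range :=
      (MonoidHom.ofInjective (alternatingGroup.ofSubtype_injective (s := T))).injective.nontrivial
    apply quasi_of_simple
    · exact IsSimpleGroup.isSimpleGroup_of_surjective _ hsurj
    · have : Group.IsPerfect (alternatingGroup ↥T) := ⟨hperf⟩
      exact (Group.IsPerfect.ofSurjective hsurj).commutator_eq_top
  · -- even order
    have ho : orderOf c₀ = 2 := orderOf_eq_prime (by rw [pow_two]; exact hc3) hc4
    have hdvd := Subgroup.orderOf_dvd_natCard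
      (Subgroup.centralizer (L : Set (alternatingGroup (Fin n)))) hc₀C
    rw [ho] at hdvd
    exact even_iff_two_dvd.mpr hdvd
  · -- tightly embedded
    intro g hg
    rw [hNC] at hg
    have ht : ∃ t : Fin n, ¬ (t : ℕ) < 4 ∧ (((g : Perm (Fin n)) t : Fin n) : ℕ) < 4 := by
      by_contra hcon
      simp only [not_exists, not_and] at hcon
      exact hg (stab_iff (g : Perm (Fin n)) hcon)
    obtain ⟨t, ht1, ht2⟩ := ht
    rw [← Nat.not_even_iff_odd]
    intro heven
    have : Fact (Nat.Prime 2) := ⟨Nat.prime_two⟩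
    obtain ⟨x, hx⟩ := exists_prime_orderOf_dvd_card' 2 (even_iff_two_dvd.mp heven)
    have hx1 : (x : alternatingGroup (Fin n)) ∈
        Subgroup.centralizer (L : Set (alternatingGroup (Fin n))) := x.2.1
    have hx2 : (x : alternatingGroup (Fin n)) ∈
        (Subgroup.centralizer (L : Set (alternatingGroup (Fin n)))).map
          (MulAut.conj g).toMonoidHom := x.2.2
    rw [Subgroup.mem_map_equiv, MulAut.conj_symm_apply] at hx2
    have hx2' := (hC _).mp hx2 t ht1
    simp only [Subgroup.coe_mul, Subgroup.coe_inv, Perm.mul_apply] at hx2'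
    have hfix : ((x : alternatingGroup (Fin n)) : Perm (Fin n)) ((g : Perm (Fin n)) t) =
        (g : Perm (Fin n)) t := by
      have h3 := congrArg (g : Perm (Fin n)) hx2'
      rw [app_inv] at h3
      exact h3
    apply no_small_invol ((x : alternatingGroup (Fin n)) : Perm (Fin n))
      (x : alternatingGroup (Fin n)).2 ?_
      ((Finset.univ.filter (fun y : Fin n => (y : ℕ) < 4)).erase ((g : Perm (Fin n)) t)) ?_ ?_
    · rw [Subgroup.orderOf_coe, Subgroup.orderOf_coe]
      exact hx
    · rw [Finset.card_erase_of_mem (by rw [Finset.mem_filter]; exact ⟨Finset.mem_univ _, ht2⟩)]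
      omega
    · intro y hy
      rw [Perm.mem_support] at hy
      rw [Finset.mem_erase, Finset.mem_filter]
      refine ⟨fun h => hy (by rw [h]; exact hfix), Finset.mem_univ _, ?_⟩
      by_contra hlt
      exact hy ((hC _).mp hx1 y hlt)
  · -- commutators with conjugates
    intro g _ hbot
    rw [Subgroup.commutator_comm, Subgroup.commutator_eq_bot_iff_le_centralizer] at hbot
    have ht : ∃ t : Fin n, ¬ (t : ℕ) < 4 ∧ ¬ (((g : Perm (Fin n)) t : Fin n) : ℕ) < 4 := by
      by_contra hcon
      simp only [not_exists, not_and, not_not] at hcon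
      have hle := Finset.card_le_card_of_injOn
        (s := Finset.univ.filter (fun x : Fin n => ¬ (x : ℕ) < 4))
        (t := Finset.univ.filter (fun x : Fin n => (x : ℕ) < 4))
        (fun x => (g : Perm (Fin n)) x)
        (by
          intro x hx
          rw [Finset.mem_coe, Finset.mem_filter] at hx
          rw [Finset.mem_coe, Finset.mem_filter]
          exact ⟨Finset.mem_univ _, hcon x hx.2⟩)
        (by
          intro x _ y _ hxy
          exact (g : Perm (Fin n)).injective hxy)
      omega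
    obtain ⟨t, ht1, ht2⟩ := ht
    obtain ⟨l, hl, hmv⟩ := hmoveL t ht1
    have h1 : g * l * g⁻¹ ∈ L.map (MulAut.conj g).toMonoidHom := by
      rw [Subgroup.mem_map_equiv, MulAut.conj_symm_apply]
      have : g⁻¹ * (g * l * g⁻¹) * g = l := by group
      rw [this]
      exact hl
    have h2 := (hC _).mp (hbot h1) _ ht2
    simp only [Subgroup.coe_mul, Subgroup.coe_inv, Perm.mul_apply] at h2
    rw [inv_app] at h2
    exact hmv ((g : Perm (Fin n)).injective h2)
  · -- normalisers
    ext g
    rw [hNL, hNC]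
    constructor
    · intro h x
      rw [h x]
    · intro h x
      have := h x
      tauto

end Cfsg.Agent.S1323
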