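import Cfsg.Statements.S1326
import Mathlib
import Cfsg.Agent.Lib.helper28.Components

set_option autoImplicit false
open Cfsg

namespace Cfsg.Agent.S1326

/-- For a finite group X: the Fitting subgroup contains its centralizer if and only if the layer of X is trivial. -/
theorem result {X : Type*} [Group X] [Finite X] : Subgroup.centralizer (Cfsg.fittingSubgroup X : Set X) ≤ Cfsg.fittingSubgroup X ↔ Cfsg.layer X = ⊥ := by
  constructor
  · intro h
    have hnone : ∀ K : Subgroup X, ¬ Cfsg.IsComponent K := by
      intro K hK
      have h1 : K ≤ Subgroup.centralizer (Cfsg.fittingSubgroup X : Set X) := by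
        have := Cfsg.Agent.Lib.helper28.commutator_layer_fittingSubgroup X
        rw [Subgroup.commutator_eq_bot_iff_le_centralizer] at this
        exact (Cfsg.Agent.Lib.helper28.le_layer hK).trans this
      have h2 : K ≤ Cfsg.fittingSubgroup X := h1.trans h
      apply (Cfsg.Agent.Lib.helper28.isComponent_qs hK).not_isMulCommutative
      rw [isMulCommutative_iff_of_setLike]
      intro a ha b hb
      exact (Subgroup.mem_centralizer_iff.mp (h1 hb) a (h2 ha))
    unfold Cfsg.layer
    have : {K : Subgroup X | Cfsg.IsComponent K} = ∅ := by
      ext K
      simp [hnone K]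
    rw [this, sSup_empty]
  · intro h
    have h1 := Cfsg.Agent.Lib.helper28.centralizer_generalizedFittingSubgroup_le X
    have h2 : Cfsg.generalizedFittingSubgroup X = Cfsg.fittingSubgroup X := by
      unfold Cfsg.generalizedFittingSubgroup
      rw [h, bot_sup_eq]
    rw [h2] at h1
    exact h1

end Cfsg.Agent.S1326
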