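import Cfsg.Statements.S1331
import Cfsg.Agent.Lib.helper37.CoprimeGen

set_option autoImplicit false
open Cfsg

namespace Cfsg.Agent.S1331

/-- A finite group of exponent `p` and order at least `p ^ 2` (inside `G`) has a subgroup of
relative index `p`. -/
theorem exists_relIndex_eq_prime {G : Type*} [Group G] [Finite G] (p : ℕ) [hp : Fact p.Prime]
    (B : Subgroup G) (hBp : ∀ b ∈ B, b ^ p = 1) (hB2 : p ^ 2 ≤ Nat.card ↥B) :
    ∃ D : Subgroup G, D ≤ B ∧ D.relIndex B = p := by
  have hpB : IsPGroup p ↥B := fun b => ⟨1, by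
    rw [pow_one]
    exact Subtype.ext (by simpa using hBp b.1 b.2)⟩
  obtain ⟨n, hn⟩ := hpB.exists_card_eq
  have hn2 : 2 ≤ n := by
    rw [hn] at hB2
    exact (Nat.pow_le_pow_iff_right hp.out.one_lt).mp hB2
  obtain ⟨K, hK⟩ := Sylow.exists_subgroup_card_pow_prime p
    (show p ^ (n - 1) ∣ Nat.card ↥B from by rw [hn]; exact pow_dvd_pow p (Nat.sub_le n 1))
  refine ⟨K.map B.subtype, ?_, ?_⟩
  · rintro _ ⟨y, -, rfl⟩
    exact y.2
  · have h1 : (K.map B.subtype).relIndex B = K.index := by
      rw [Subgroup.relIndex, Subgroup.subgroupOf,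
        Subgroup.comap_map_eq_self_of_injective B.subtype_injective]
    rw [h1]
    have h2 := Subgroup.card_mul_index K
    rw [hK, hn] at h2
    have h3 : p ^ n = p ^ (n - 1) * p := by
      rw [← pow_succ]
      congr 1
      omega
    rw [h3] at h2
    exact Nat.eq_of_mul_eq_mul_left (pow_pos hp.out.pos _) h2

/-- Let θ be a solvable A-signalizer functor on the finite group G for the prime p, A elementary abelian of rank at least 3, X a member of the family of θ, and B ≤ A with |B| ≥ p². Then X is generated by the subgroups X ∩ ⋂_{d ∈ D, d ≠ 1} θ d, D ranging over the subgroups of index p in B. -/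
theorem result {G : Type*} [Group G] [Finite G] (p : ℕ) [Fact p.Prime] (A : Subgroup G) (hA : Cfsg.IsElementaryAbelian p A) (hA3 : p ^ 3 ≤ Nat.card ↥A) (θ : G → Subgroup G) (hθ : Cfsg.IsSolvableSignalizerFunctor p A θ) (X : Subgroup G) (hX : X ∈ Cfsg.signalizerFamily p A θ) (B : Subgroup G) (hB : B ≤ A) (hB2 : p ^ 2 ≤ Nat.card ↥B) : X = ⨆ D : {D : Subgroup G // D ≤ B ∧ D.relIndex B = p}, X ⊓ Cfsg.signalizerInf (D : Subgroup G) θ := by
  have hp : p.Prime := Fact.out
  obtain ⟨hAcomm, hAexp⟩ := hA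
  obtain ⟨-, hXp, hXinv, hXθ⟩ := hX
  have hAc : ∀ a ∈ A, ∀ b ∈ A, a * b = b * a := by
    intro a ha b hb
    exact congrArg Subtype.val (hAcomm.is_comm.comm (⟨a, ha⟩ : ↥A) ⟨b, hb⟩)
  have hBX : B ≤ Subgroup.normalizer (X : Set G) := by
    rw [Subgroup.le_normalizer_iff]
    intro b hb x hx
    exact hXinv b (hB hb) x hx
  have hkey : ∀ D : Subgroup G, D ≤ B →
      X ⊓ Subgroup.centralizer (D : Set G) ≤ X ⊓ Cfsg.signalizerInf D θ := by
    intro D hD
    refine le_inf inf_le_left ?_
    unfold Cfsg.signalizerInf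
    apply le_iInf
    intro d
    have h1 : Subgroup.centralizer (D : Set G) ≤ Subgroup.centralizer ({(d : G)} : Set G) :=
      Subgroup.centralizer_le (by
        intro x hx
        rw [Set.mem_singleton_iff] at hx
        rw [hx]
        exact d.2.1)
    exact (inf_le_inf_left _ h1).trans (hXθ d.1 (hB (hD d.2.1)) d.2.2)
  apply le_antisymm
  · have hgen := Cfsg.Agent.Lib.helper37.coprime_gen_hyperplane p B X
      (fun a ha b hb => hAc a (hB ha) b (hB hb)) (fun a ha => hAexp a (hB ha)) hXp hBX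
    rw [hgen]
    apply iSup_le
    intro B₀
    rw [← hgen]
    by_cases hidx : B₀.1.relIndex B = p
    · exact (hkey B₀.1 B₀.2.1).trans
        (le_iSup (fun D : {D : Subgroup G // D ≤ B ∧ D.relIndex B = p} =>
          X ⊓ Cfsg.signalizerInf (D : Subgroup G) θ) ⟨B₀.1, B₀.2.1, hidx⟩)
    · have hpB : IsPGroup p ↥B := fun b => ⟨1, by
        rw [pow_one]
        exact Subtype.ext (by simpa using hAexp b.1 (hB b.2))⟩
      obtain ⟨n, hn⟩ := hpB.exists_card_eq
      have hdvd : B₀.1.relIndex B ∣ p ^ n := by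
        rw [← hn]
        exact Subgroup.relIndex_dvd_card _ _
      obtain ⟨j, -, hj⟩ := (Nat.dvd_prime_pow hp).mp hdvd
      have hone : B₀.1.relIndex B = 1 := by
        have hle := B₀.2.2
        rw [hj] at hle hidx ⊢
        rcases j with _ | _ | j
        · simp
        · exact absurd (pow_one p) hidx
        · exfalso
          have h4 : p ^ 2 ≤ p ^ (j + 1 + 1) := Nat.pow_le_pow_right hp.pos (by omega)
          have h5 : p < p ^ 2 := by
            have := hp.one_lt
            nlinarith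
          omega
      have hBB₀ : B ≤ B₀.1 := Subgroup.relIndex_eq_one.mp hone
      obtain ⟨D, hDB, hDidx⟩ := exists_relIndex_eq_prime p B (fun b hb => hAexp b (hB hb)) hB2
      have h6 : X ⊓ Subgroup.centralizer ((B₀.1 : Subgroup G) : Set G) ≤
          X ⊓ Subgroup.centralizer (D : Set G) :=
        inf_le_inf_left _ (Subgroup.centralizer_le (fun x hx => hBB₀ (hDB hx)))
      exact h6.trans ((hkey D hDB).trans
        (le_iSup (fun D : {D : Subgroup G // D ≤ B ∧ D.relIndex B = p} =>
          X ⊓ Cfsg.signalizerInf (D : Subgroup G) θ) ⟨D, hDB, hDidx⟩))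
  · exact iSup_le fun D => inf_le_left

end Cfsg.Agent.S1331
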