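import Cfsg.Statements.S1335
import Cfsg.Agent.Lib.helper28.Basic

set_option autoImplicit false
open Cfsg

namespace Cfsg.Agent.S1335

/-- Let H be a subgroup of the finite group G, p a prime, k ≥ 1, P a Sylow p-subgroup of H of p-rank at least k, and suppose N_G(X) ≤ H for every subgroup X ≤ P of p-rank at least k. Then P is a Sylow p-subgroup of G. -/
theorem result {G : Type*} [Group G] [Finite G] {p : ℕ} [Fact p.Prime] (k : ℕ) (hk : 1 ≤ k) (H : Subgroup G) (P : Sylow p ↥H) (hP : ¬ Cfsg.PRankLE p (k - 1) ↥(P : Subgroup ↥H)) (hΓ : (∀ X : Subgroup G, X ≤ (P : Subgroup ↥H).map H.subtype → ¬ Cfsg.PRankLE p (k - 1) ↥X → Subgroup.normalizer (X : Set G) ≤ H)) : ∃ Q : Sylow p G, (Q : Subgroup G) = (P : Subgroup ↥H).map H.subtype := by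
  classical
  set P' : Subgroup G := (P : Subgroup ↥H).map H.subtype with hP'
  have hP'H : P' ≤ H := by
    rintro _ ⟨y, -, rfl⟩; exact y.2
  have hPp : IsPGroup p P' := P.isPGroup'.map H.subtype
  have hrank : ¬ Cfsg.PRankLE p (k - 1) ↥P' := by
    intro hle
    apply hP
    exact Cfsg.Agent.Lib.helper28.pRankLE_of_mulEquiv
      ((P : Subgroup ↥H).equivMapOfInjective H.subtype H.subtype_injective).symm hle
  have hN : Subgroup.normalizer (P' : Set G) ≤ H := hΓ P' le_rfl hrank
  -- maximality
  have hmax : ∀ {R : Subgroup G}, IsPGroup p R → P' ≤ R → R = P' := by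
    intro R hR hle
    by_contra hne
    have hlt : P' < R := lt_of_le_of_ne hle (Ne.symm hne)
    -- R is nilpotent, so it satisfies the normalizer condition
    haveI : Group.IsNilpotent R := hR.isNilpotent
    have hnc := normalizerCondition_of_isNilpotent (G := R)
    have hlt' : P'.subgroupOf R < ⊤ := by
      rw [lt_top_iff_ne_top]
      intro htop
      rw [Subgroup.subgroupOf_eq_top] at htop
      exact hne (le_antisymm htop hle)
    have h1 := hnc _ hlt'
    obtain ⟨x, hxN, hxP⟩ := SetLike.exists_of_lt h1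
    -- x normalizes P' in G
    have hxN' : (x : G) ∈ Subgroup.normalizer (P' : Set G) := by
      rw [Subgroup.mem_normalizer_iff]
      intro g
      rw [Subgroup.mem_normalizer_iff] at hxN
      constructor
      · intro hg
        have := (hxN ⟨g, hle hg⟩).1 (by simpa [Subgroup.mem_subgroupOf] using hg)
        simpa [Subgroup.mem_subgroupOf] using this
      · intro hg
        have hgR : g ∈ R := by
          have h2 : (x : G) * g * (x : G)⁻¹ ∈ R := hle hg
          have h3 : g = (x : G)⁻¹ * ((x : G) * g * (x : G)⁻¹) * (x : G) := by group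
          rw [h3]
          exact R.mul_mem (R.mul_mem (R.inv_mem x.2) h2) x.2
        have := (hxN ⟨g, hgR⟩).2 (by simpa [Subgroup.mem_subgroupOf] using hg)
        simpa [Subgroup.mem_subgroupOf] using this
    have hxH : (x : G) ∈ H := hN hxN'
    -- K = R ⊓ normalizer P' is a p-subgroup of H containing P'
    set K : Subgroup G := R ⊓ Subgroup.normalizer (P' : Set G) with hK
    have hKp : IsPGroup p K := hR.to_le inf_le_left
    have hKH : K ≤ H := inf_le_right.trans hN
    have hPK : P' ≤ K := le_inf hle Subgroup.le_normalizer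
    have hKp' : IsPGroup p (K.subgroupOf H) :=
      hKp.comap_of_injective H.subtype H.subtype_injective
    have hPle : (P : Subgroup H) ≤ K.subgroupOf H := by
      intro y hy
      rw [Subgroup.mem_subgroupOf]
      exact hPK (Subgroup.mem_map_of_mem H.subtype hy)
    have heq := P.is_maximal' hKp' hPle
    have hxK : (⟨(x : G), hxH⟩ : H) ∈ K.subgroupOf H := by
      rw [Subgroup.mem_subgroupOf]
      exact ⟨x.2, hxN'⟩
    rw [heq] at hxK
    apply hxP
    rw [Subgroup.mem_subgroupOf]
    exact Subgroup.mem_map_of_mem H.subtype hxK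
  exact ⟨⟨P', hPp, hmax⟩, rfl⟩

end Cfsg.Agent.S1335
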