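import Cfsg.Statements.S1340
import Cfsg.Agent.Lib.helper26.BlockGL
import Cfsg.Agent.Lib.helper44.ClassicalEmb
import Cfsg.Agent.S0249

set_option autoImplicit false
open Cfsg

namespace Cfsg.Agent.S1340

open Cfsg.Agent.Lib.helper26

/-- Let F be a finite field of odd order and n ≥ 3 with (n, |F|) ≠ (3, 3). Then GL(n, F) has a non-central involution t such that C(t) / O(C(t)) has a component. -/
theorem result {F : Type*} [Field F] [Fintype F] [DecidableEq F] (hF : Odd (Fintype.card F)) (n : ℕ) (hn : 3 ≤ n) (h33 : ¬ (n = 3 ∧ Fintype.card F = 3)) : ∃ t : Matrix.GeneralLinearGroup (Fin n) F, orderOf t = 2 ∧ t ∉ Subgroup.center (Matrix.GeneralLinearGroup (Fin n) F) ∧ Cfsg.HasComponent (↥(Subgroup.centralizer ({t} : Set (Matrix.GeneralLinearGroup (Fin n) F))) ⧸ Cfsg.oddCore ↥(Subgroup.centralizer ({t} : Set (Matrix.GeneralLinearGroup (Fin n) F)))) := by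
  obtain ⟨k, rfl⟩ : ∃ k, n = k + 3 := ⟨n - 3, by omega⟩
  have hq : Cfsg.IsQuasisimple (Matrix.SpecialLinearGroup (Fin (k + 2)) F) := by
    by_cases hk : k = 0
    · subst hk
      have hcard : 4 ≤ Fintype.card F := by
        have h1 : Fintype.card F ≠ 3 := fun h => h33 ⟨rfl, h⟩
        have h2 : 1 < Fintype.card F := Fintype.one_lt_card
        rcases hF with ⟨r, hr⟩
        omega
      refine ⟨⟨Cfsg.Agent.Lib.helper44.SL2_perfect hcard⟩, ?_⟩
      exact Matrix.ProjectiveSpecialLinearGroup.rank_two_simple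
        (by rw [Nat.card_eq_fintype_card]; exact hcard)
    · exact ⟨⟨Cfsg.Agent.S0248.result (k + 2) (by omega)⟩,
        Cfsg.Agent.S0249.result (k + 2) (by omega)⟩
  exact gl_hasComponent hF k hq

end Cfsg.Agent.S1340
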