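import Cfsg.Statements.S1348
import Cfsg.Agent.Lib.helper26.BlockSL
import Cfsg.Agent.S0249

set_option autoImplicit false
open Cfsg

namespace Cfsg.Agent.S1348

open Cfsg.Agent.Lib.helper26

/-- Let F be a finite field of odd order, n ≥ 7 odd, and t ∈ SL(n, F) the diagonal matrix with entries −1, …, −1, 1. Then E(C(t)) is a standard subgroup of SL(n, F). -/
theorem result {F : Type*} [Field F] [Fintype F] [DecidableEq F] (hF : Odd (Fintype.card F)) (n : ℕ) (hn : 7 ≤ n) (hodd : Odd n) (t : Matrix.SpecialLinearGroup (Fin n) F) (ht : (t : Matrix (Fin n) (Fin n) F) = Matrix.diagonal (fun i : Fin n => if (i : ℕ) + 1 = n then (1 : F) else -1)) : Cfsg.IsStandardSubgroup ((Cfsg.layer ↥(Subgroup.centralizer ({t} : Set (Matrix.SpecialLinearGroup (Fin n) F)))).map (Subgroup.centralizer ({t} : Set (Matrix.SpecialLinearGroup (Fin n) F))).subtype) := by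
  obtain ⟨m, rfl⟩ : ∃ m, n = m + 1 := ⟨n - 1, by omega⟩
  have h2 := two_ne_zero_of_odd_card hF
  have hm : Even m := by
    rcases hodd with ⟨r, hr⟩
    exact ⟨r, by omega⟩
  have hq : Cfsg.IsQuasisimple (Matrix.SpecialLinearGroup (Fin m) F) :=
    ⟨⟨Cfsg.Agent.S0248.result m (by omega)⟩, Cfsg.Agent.S0249.result m (by omega)⟩
  have ht' : (t : Matrix (Fin (m + 1)) (Fin (m + 1)) F) = blk (-1) 1 := by
    rw [ht, blk_neg_one_one_eq_diagonal]
  rw [layer_centralizer_eq_range h2 hq t ht']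
  exact isStandardSubgroup_slSucc_range h2 hm (by omega) hq

end Cfsg.Agent.S1348
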