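import Cfsg.Statements.S1349
import Cfsg.Agent.Lib.helper29.InvAct

set_option autoImplicit false
open Cfsg

namespace Cfsg.Agent.S1349

open Cfsg.Agent.Lib.helper29

/-- Let G be finite, L ≤ G solvable of odd order, and A an elementary abelian 2-subgroup of order 2^d (d ≥ 1) normalizing L with C_A(L) = 1. Then there are subgroups A_1, …, A_d of A of order 2 generating A and subgroups L_1, …, L_d of L such that each A_i ⊔ L_i is dihedral of order 2 n_i with n_i odd and at least 3, and A_i ⊔ L_i commutes elementwise with A_j ⊔ L_j for i ≠ j. -/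
theorem result {G : Type*} [Group G] [Finite G] (L A : Subgroup G) (hLs : Group.IsSolvable ↥L) (hLodd : Odd (Nat.card ↥L)) (hA : Cfsg.IsElementaryAbelian 2 A) (d : ℕ) (hd : 1 ≤ d) (hAd : Nat.card ↥A = 2 ^ d) (hAL : A ≤ Subgroup.normalizer (L : Set G)) (hfaith : A ⊓ Subgroup.centralizer (L : Set G) = ⊥) : ∃ (Ai : Fin d → Subgroup G) (Li : Fin d → Subgroup G) (n : Fin d → ℕ), (∀ i, Ai i ≤ A ∧ Nat.card ↥(Ai i) = 2 ∧ Li i ≤ L ∧ Odd (n i) ∧ 3 ≤ n i ∧ Nonempty (↥(Ai i ⊔ Li i) ≃* DihedralGroup (n i))) ∧ (⨆ i, Ai i) = A ∧ ∀ i j, i ≠ j → ∀ x ∈ Ai i ⊔ Li i, ∀ y ∈ Ai j ⊔ Li j, x * y = y * x := by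
  obtain ⟨hAcomm, hA2'⟩ := hA
  have hA2 : ∀ t ∈ A, t * t = 1 := fun t ht => by rw [← pow_two]; exact hA2' t ht
  have hAc : ∀ s ∈ A, ∀ t ∈ A, s * t = t * s := by
    intro s hs t ht
    have := hAcomm.is_comm.comm (⟨s, hs⟩ : A) ⟨t, ht⟩
    exact congrArg Subtype.val this
  obtain ⟨E, hEL, hEab, hAE, hEc⟩ := exists_abelian_faithful A hA2 hAc L hLs hLodd hAL
  have hEodd : Odd (Nat.card E) := Odd.of_dvd_nat hLodd (Subgroup.card_dvd_of_le hEL)
  have hfaithE : A ⊓ Subgroup.centralizer (E : Set G) = ⊥ := by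
    rw [eq_bot_iff, ← hfaith]
    exact le_inf inf_le_left hEc
  obtain ⟨a, x, h1, h2, h3, h4⟩ :=
    exists_dihedral_basis A E hA2 hAc hAE hEab hEodd d A (le_refl A) hAd hfaithE
  have hxodd : ∀ i, Odd (orderOf (x i)) := fun i => odd_orderOf_of_mem hEodd (h1 i).2.1
  have hxcomm : ∀ i j, x i * x j = x j * x i := fun i j =>
    (Subgroup.mem_centralizer_iff.mp (hEab (h1 j).2.1) (x i) (h1 i).2.1)
  refine ⟨fun i => Subgroup.zpowers (a i), fun i => Subgroup.zpowers (x i),
    fun i => orderOf (x i), ?_, ?_, ?_⟩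
  · intro i
    obtain ⟨haA, hxE, hx1, hinv⟩ := h1 i
    refine ⟨Subgroup.zpowers_le.mpr haA, ?_, Subgroup.zpowers_le.mpr (hEL hxE), hxodd i, ?_,
      nonempty_mulEquiv_dihedral (hA2 _ haA) hinv hx1 (hxodd i)⟩
    · rw [Nat.card_zpowers]
      have ha1 : a i ≠ 1 := by
        intro h
        rw [h] at hinv
        have h5 : x i = (x i)⁻¹ := by simpa using hinv
        apply hx1
        apply eq_one_of_sq_eq_one_of_odd (hxodd i)
        nth_rewrite 1 [h5]
        exact inv_mul_cancel _
      have h6 : (a i) ^ 2 = 1 := by rw [pow_two]; exact hA2 _ haA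
      exact orderOf_eq_prime h6 ha1
    · have hne1 : orderOf (x i) ≠ 1 := fun h => hx1 (orderOf_eq_one_iff.mp h)
      have hpos : 0 < orderOf (x i) := orderOf_pos (x i)
      have hne2 : orderOf (x i) ≠ 2 := by
        intro h
        have := hxodd i
        rw [h] at this
        exact absurd this (by decide)
      show 3 ≤ orderOf (x i)
      omega
  · apply le_antisymm
    · exact iSup_le fun i => Subgroup.zpowers_le.mpr (h1 i).1
    · intro t ht
      have hcl : Subgroup.closure (Set.range a) ≤ ⨆ i, Subgroup.zpowers (a i) := by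
        rw [Subgroup.closure_le]
        rintro _ ⟨i, rfl⟩
        exact (le_iSup (fun i => Subgroup.zpowers (a i)) i) (Subgroup.mem_zpowers (a i))
      exact hcl (h4 t ht)
  · intro i j hij
    -- generators commute pairwise
    have key : Subgroup.zpowers (a i) ⊔ Subgroup.zpowers (x i) ≤
        Subgroup.centralizer
          ((Subgroup.zpowers (a j) ⊔ Subgroup.zpowers (x j) : Subgroup G) : Set G) := by
      have hgen : ∀ g : G, (a j * g = g * a j) → (x j * g = g * x j) →
          g ∈ Subgroup.centralizer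
            ((Subgroup.zpowers (a j) ⊔ Subgroup.zpowers (x j) : Subgroup G) : Set G) := by
        intro g hga hgx
        have : Subgroup.zpowers (a j) ⊔ Subgroup.zpowers (x j) ≤
            Subgroup.centralizer ({g} : Set G) := by
          refine sup_le ?_ ?_
          · rw [Subgroup.zpowers_le, Subgroup.mem_centralizer_iff]
            intro h hh
            rw [Set.mem_singleton_iff] at hh
            rw [hh]; exact hga.symm
          · rw [Subgroup.zpowers_le, Subgroup.mem_centralizer_iff]
            intro h hh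
            rw [Set.mem_singleton_iff] at hh
            rw [hh]; exact hgx.symm
        rw [Subgroup.mem_centralizer_iff]
        intro h hh
        have := Subgroup.mem_centralizer_iff.mp (this hh) g rfl
        exact this.symm
      refine sup_le ?_ ?_
      · rw [Subgroup.zpowers_le]
        exact hgen _ (hAc _ (h1 j).1 _ (h1 i).1) (h2 j i (Ne.symm hij)).symm
      · rw [Subgroup.zpowers_le]
        exact hgen _ (h2 i j hij) (hxcomm j i)
    intro u hu v hv
    exact (Subgroup.mem_centralizer_iff.mp (key hu) v hv).symm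

end Cfsg.Agent.S1349
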