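import Cfsg.Statements.S1386
import Cfsg.Agent.Lib.helper29.Basic

set_option autoImplicit false
open Cfsg

namespace Cfsg.Agent.S1386

open Cfsg.Agent.Lib.helper29

/-- Let G be a finite group, W₁, W₂ subgroups forming a self-normalizing cyclic pair, S a subgroup with W₂ ≤ S and W₁ a complement to S' in S, and (W₁, U, W₂') type-P data for S. Then W₂' = W₂ (that is, C_{S'}(W₁) = W₂). -/
theorem result {G : Type*} [Group G] [Finite G] (W₁ W₂ S U W₂' : Subgroup G) (hW : Cfsg.IsSelfNormalizingCyclic W₁ W₂)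
    (hSW : Cfsg.IsComplIn ⁅S, S⁆ W₁ S) (hW₂S : W₂ ≤ S) (hP : Cfsg.IsTypePWith S W₁ U W₂') :
    W₂' = W₂ := by
  have hcard : Nat.card ↥⁅S, S⁆ = W₁.relIndex S := IsComplIn.card_left hSW
  obtain ⟨hW₁ne, hW₂ne, hW12, hcomm, hcyc, hnorm⟩ := hW
  obtain ⟨hS'S, hW₁S, hS'W₁, hprod⟩ := hSW
  obtain ⟨w₁, hw₁, hw₁1⟩ := exists_ne_one_of_ne_bot hW₁ne
  obtain ⟨w₂, hw₂, hw₂1⟩ := exists_ne_one_of_ne_bot hW₂ne
  -- Step 1: W₂ ≤ S'
  have hW₂S' : W₂ ≤ ⁅S, S⁆ := by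
    intro z hz
    obtain ⟨s, hs, w, hw, hzsw⟩ := hprod z (hW₂S hz)
    have hs_eq : s = z * w⁻¹ := by rw [hzsw]; group
    have hzw : z * w⁻¹ = w⁻¹ * z := (hcomm w⁻¹ (W₁.inv_mem hw) z hz).symm
    have hpow : ∀ n : ℕ, s ^ n = z ^ n * (w⁻¹) ^ n := by
      intro n
      rw [hs_eq]
      exact (Commute.mul_pow hzw n)
    have h1 : z ^ orderOf s * (w⁻¹) ^ orderOf s = 1 := by
      rw [← hpow, pow_orderOf_eq_one]
    have h2 : w ^ orderOf s = z ^ orderOf s := by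
      have : z ^ orderOf s = ((w⁻¹) ^ orderOf s)⁻¹ := eq_inv_of_mul_eq_one_left h1
      rw [this, inv_pow, inv_inv]
    have h3 : w ^ orderOf s ∈ W₁ ⊓ W₂ :=
      ⟨W₁.pow_mem hw _, h2 ▸ W₂.pow_mem hz _⟩
    rw [hW12, Subgroup.mem_bot] at h3
    have h4 : orderOf w ∣ orderOf s := orderOf_dvd_of_pow_eq_one h3
    have h5 : orderOf s ∣ Nat.card ↥⁅S, S⁆ := by
      have := orderOf_dvd_natCard (⟨s, hs⟩ : ↥⁅S, S⁆)
      rwa [Subgroup.orderOf_mk] at this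
    have h6 : orderOf w ∣ Nat.card W₁ := by
      have := orderOf_dvd_natCard (⟨w, hw⟩ : W₁)
      rwa [Subgroup.orderOf_mk] at this
    have h7 : orderOf w = 1 := by
      have hc := hP.W₁_hall
      rw [← hcard] at hc
      exact Nat.eq_one_of_dvd_coprimes hc h6 (h4.trans h5)
    rw [orderOf_eq_one_iff] at h7
    rw [hzsw, h7, mul_one]
    exact hs
  -- Step 2: W₂ ≤ W₂'
  have hW₂le : W₂ ≤ W₂' := by
    rw [← hP.W₂_centralizer w₁ hw₁ hw₁1]
    intro z hz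
    refine Subgroup.mem_inf.mpr ⟨hW₂S' hz, ?_⟩
    rw [Subgroup.mem_centralizer_iff]
    intro g hg
    rw [Set.mem_singleton_iff] at hg
    subst hg
    exact hcomm g hw₁ z hz
  -- Step 3: W₂' ≤ W₂
  have hW₂'comm : ∀ a ∈ W₂', ∀ b ∈ W₂', a * b = b * a := by
    intro a ha b hb
    obtain ⟨_, _, _, _, hcyc', _⟩ := hP.selfNormalizing
    have ha' : a ∈ W₁ ⊔ W₂' := (le_sup_right : W₂' ≤ W₁ ⊔ W₂') ha
    have hb' : b ∈ W₁ ⊔ W₂' := (le_sup_right : W₂' ≤ W₁ ⊔ W₂') hb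
    have hc : IsMulCommutative ↥(W₁ ⊔ W₂') := IsCyclic.isMulCommutative
    have := hc.is_comm.comm (⟨a, ha'⟩ : ↥(W₁ ⊔ W₂')) ⟨b, hb'⟩
    exact congrArg Subtype.val this
  have hW₂'le : W₂' ≤ W₂ := by
    intro z hz
    have hzS' : z ∈ ⁅S, S⁆ := commutator_commutator_le S (hP.W₂_le hz).2
    -- z commutes with w₁ and w₂
    have hzw₁ : w₁ * z = z * w₁ := by
      have hz' := hz
      rw [← hP.W₂_centralizer w₁ hw₁ hw₁1] at hz'
      have := (Subgroup.mem_inf.mp hz').2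
      rw [Subgroup.mem_centralizer_iff] at this
      exact this w₁ rfl
    have hzw₂ : w₂ * z = z * w₂ := hW₂'comm w₂ (hW₂le hw₂) z hz
    -- x = w₁ * w₂
    have hx_mem : w₁ * w₂ ∈ (↑(W₁ ⊔ W₂) : Set G) \ (↑W₁ ∪ ↑W₂) := by
      refine ⟨Subgroup.mul_mem_sup hw₁ hw₂, ?_⟩
      rintro (h | h)
      · have : w₂ ∈ W₁ := by
          have := W₁.mul_mem (W₁.inv_mem hw₁) h
          simpa using this
        have h' : w₂ ∈ W₁ ⊓ W₂ := ⟨this, hw₂⟩
        rw [hW12, Subgroup.mem_bot] at h'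
        exact hw₂1 h'
      · have : w₁ ∈ W₂ := by
          have := W₂.mul_mem h (W₂.inv_mem hw₂)
          simpa using this
        have h' : w₁ ∈ W₁ ⊓ W₂ := ⟨hw₁, this⟩
        rw [hW12, Subgroup.mem_bot] at h'
        exact hw₁1 h'
    have hN := hnorm {w₁ * w₂} (Set.singleton_subset_iff.mpr hx_mem) (Set.singleton_nonempty _)
    have hzN : z ∈ Subgroup.normalizer ({w₁ * w₂} : Set G) := by
      rw [Subgroup.mem_set_normalizer_iff]
      intro h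
      have hzx : z * (w₁ * w₂) * z⁻¹ = w₁ * w₂ := by
        calc z * (w₁ * w₂) * z⁻¹ = (z * w₁) * w₂ * z⁻¹ := by group
          _ = (w₁ * z) * w₂ * z⁻¹ := by rw [hzw₁]
          _ = w₁ * (z * w₂) * z⁻¹ := by group
          _ = w₁ * (w₂ * z) * z⁻¹ := by rw [hzw₂]
          _ = w₁ * w₂ := by group
      simp only [Set.mem_singleton_iff]
      constructor
      · intro hh; rw [hh, hzx]
      · intro hh
        exact mul_left_cancel (mul_right_cancel (hh.trans hzx.symm))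
    rw [hN] at hzN
    obtain ⟨a, ha, b, hb, hzab⟩ := exists_mul_of_mem_sup_of_commute hcomm hzN
    have ha' : a ∈ ⁅S, S⁆ ⊓ W₁ := by
      refine ⟨?_, ha⟩
      have : a = z * b⁻¹ := by rw [hzab]; group
      rw [this]
      exact Subgroup.mul_mem _ hzS' (Subgroup.inv_mem _ (hW₂S' hb))
    rw [hS'W₁, Subgroup.mem_bot] at ha'
    rw [hzab, ha', one_mul]
    exact hb
  exact le_antisymm hW₂'le hW₂le

end Cfsg.Agent.S1386
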