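import Cfsg.Statements.S1387
import Cfsg.Agent.Lib.helper29.FittingHall

set_option autoImplicit false
open Cfsg

namespace Cfsg.Agent.S1387

open Cfsg.Agent.Lib.helper29

/-- Let M be a subgroup of a finite group G with type-P data (W₁, U, W₂) and H = M_F. Then the Fitting subgroup F(M) is generated by H and the centralizer of H in U. -/
theorem result {G : Type*} [Group G] [Finite G] (M W₁ U W₂ : Subgroup G) (hP : Cfsg.IsTypePWith M W₁ U W₂) :
    Cfsg.fittingOf M = Cfsg.fittingHallOf M ⊔ (U ⊓ Subgroup.centralizer (Cfsg.fittingHallOf M : Set G)) := by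
  obtain ⟨hHM', hUM', hHU, hprod⟩ := hP.U_compl
  have hM'M : ⁅M, M⁆ ≤ M := commutator_self_le M
  apply le_antisymm
  · rw [← hP.fitting_eq]
    apply sup_le le_sup_left
    intro c hc
    have hcF : c ∈ fittingOf M := by
      rw [← hP.fitting_eq]
      exact (le_sup_right : _ ≤ fittingHallOf M ⊔ (M ⊓ Subgroup.centralizer (fittingHallOf M : Set G))) hc
    obtain ⟨h, hh, u, hu, hchu⟩ := hprod c (hP.fitting_le hcF)
    have hu_eq : u = h⁻¹ * c := by rw [hchu]; group
    have hcop : (orderOf u).Coprime (Nat.card (fittingHallOf M)) := by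
      apply orderOf_coprime_card_fittingHallOf M (hM'M (hUM' hu))
      intro k hk
      have : u ^ k ∈ fittingHallOf M ⊓ U := ⟨hk, U.pow_mem hu k⟩
      rw [hHU, Subgroup.mem_bot] at this
      exact this
    have hinv : h⁻¹ ∈ Subgroup.centralizer (fittingHallOf M : Set G) := by
      apply mem_centralizer_of_mul_of_coprime (fittingHallOf M) ((fittingHallOf M).inv_mem hh)
        (Subgroup.mem_inf.mp hc).2
      rw [← hu_eq]
      apply Nat.Coprime.coprime_dvd_right _ hcop
      have := orderOf_dvd_natCard (⟨h⁻¹, (fittingHallOf M).inv_mem hh⟩ : fittingHallOf M)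
      rwa [Subgroup.orderOf_mk] at this
    have huC : u ∈ Subgroup.centralizer (fittingHallOf M : Set G) := by
      rw [hu_eq]
      exact Subgroup.mul_mem _ hinv (Subgroup.mem_inf.mp hc).2
    rw [hchu]
    exact Subgroup.mul_mem_sup hh (Subgroup.mem_inf.mpr ⟨hu, huC⟩)
  · rw [← hP.fitting_eq]
    apply sup_le_sup_left
    exact inf_le_inf_right _ (hUM'.trans hM'M)

end Cfsg.Agent.S1387
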