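import Cfsg.Statements.S1388
import Cfsg.Agent.Lib.helper29.FittingHall

set_option autoImplicit false
open Cfsg

namespace Cfsg.Agent.S1388

open Cfsg.Agent.Lib.helper29

/-- Let M be a subgroup of a finite group G with type-P data (W₁, U, W₂) and H = M_F. Then the derived subgroup of U centralizes H, and if U ≠ 1 then U does not centralize H. -/
theorem result {G : Type*} [Group G] [Finite G] (M W₁ U W₂ : Subgroup G) (hP : Cfsg.IsTypePWith M W₁ U W₂) :
    ⁅U, U⁆ ≤ Subgroup.centralizer (Cfsg.fittingHallOf M : Set G) ∧ (U ≠ ⊥ → ¬ U ≤ Subgroup.centralizer (Cfsg.fittingHallOf M : Set G)) := by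
  have hUc := hP.U_compl
  obtain ⟨hHM', hUM', hHU, hprod⟩ := hP.U_compl
  have hWc := hP.W₁_compl
  obtain ⟨-, hW₁M, hM'W₁, hprod'⟩ := hP.W₁_compl
  have hM'M : ⁅M, M⁆ ≤ M := commutator_self_le M
  have hUM : U ≤ M := hUM'.trans hM'M
  have hcopU : ∀ u ∈ U, (orderOf u).Coprime (Nat.card (fittingHallOf M)) := by
    intro u hu
    apply orderOf_coprime_card_fittingHallOf M (hUM hu)
    intro k hk
    have : u ^ k ∈ fittingHallOf M ⊓ U := ⟨hk, U.pow_mem hu k⟩
    rw [hHU, Subgroup.mem_bot] at this
    exact this
  constructor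
  · intro x hx
    have hxU : x ∈ U := commutator_self_le U hx
    have hx2 : x ∈ ⁅⁅M, M⁆, ⁅M, M⁆⁆ := Subgroup.commutator_mono hUM' hUM' hx
    have hx3 := hP.derived_two_le hx2
    have hnorm : M ⊓ Subgroup.centralizer (fittingHallOf M : Set G) ≤
        Subgroup.normalizer (fittingHallOf M : Set G) :=
      inf_le_left.trans (le_normalizer_fittingHallOf M)
    obtain ⟨h, hh, c, hc, hxhc⟩ := exists_mul_of_mem_sup_of_le_normalizer hnorm hx3
    have hhC : h ∈ Subgroup.centralizer (fittingHallOf M : Set G) := by
      apply mem_centralizer_of_mul_of_coprime (fittingHallOf M) hh (Subgroup.mem_inf.mp hc).2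
      rw [← hxhc]
      apply Nat.Coprime.coprime_dvd_right _ (hcopU x hxU)
      have := orderOf_dvd_natCard (⟨h, hh⟩ : fittingHallOf M)
      rwa [Subgroup.orderOf_mk] at this
    rw [hxhc]
    exact Subgroup.mul_mem _ hhC (Subgroup.mem_inf.mp hc).2
  · intro hU1 hUC
    apply hU1
    -- U is normal in M
    have hUnormal : M ≤ Subgroup.normalizer (U : Set G) := by
      intro m hm
      obtain ⟨m', hm', w, hw, rfl⟩ := hprod' m hm
      obtain ⟨h, hh, u, hu, rfl⟩ := hprod m' hm'
      refine Subgroup.mul_mem _ (Subgroup.mul_mem _ ?_ (Subgroup.le_normalizer hu)) (hP.U_normal hw)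
      rw [Subgroup.mem_normalizer_iff]
      intro x
      have key : ∀ y ∈ U, h * y * h⁻¹ = y := by
        intro y hy
        have := Subgroup.mem_centralizer_iff.mp (hUC hy) h hh
        rw [this]; group
      constructor
      · intro hx; rw [key x hx]; exact hx
      · intro hx
        have h1 : x = h⁻¹ * (h * x * h⁻¹) * h := by group
        have h2 : h⁻¹ * (h * x * h⁻¹) * h = h * x * h⁻¹ := by
          have := key _ hx
          calc h⁻¹ * (h * x * h⁻¹) * h = h⁻¹ * (h * (h * x * h⁻¹) * h⁻¹) * h := by rw [this]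
            _ = h * x * h⁻¹ := by group
        rw [h1, h2]; exact hx
    -- cardinalities
    have hc1 : Nat.card (fittingHallOf M) * Nat.card U = Nat.card ↥⁅M, M⁆ := IsComplIn.card_mul hUc
    have hc2 : Nat.card ↥⁅M, M⁆ * Nat.card W₁ = Nat.card M := IsComplIn.card_mul hWc
    have hc3 : Nat.card ↥⁅M, M⁆ = W₁.relIndex M := IsComplIn.card_left hWc
    have hHall := hP.W₁_hall
    rw [← hc3, ← hc1] at hHall
    have hcopH := fittingHallOf_coprime M
    have hposU : 0 < Nat.card U := Nat.card_pos
    have hposH : 0 < Nat.card (fittingHallOf M) := Nat.card_pos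
    have hrelH : (fittingHallOf M).relIndex M = Nat.card U * Nat.card W₁ := by
      have h1 : (fittingHallOf M).relIndex M * Nat.card (fittingHallOf M) = Nat.card M := by
        have := Subgroup.relIndex_mul_relIndex ⊥ (fittingHallOf M) M bot_le (fittingHallOf_le M)
        rw [Subgroup.relIndex_bot_left, Subgroup.relIndex_bot_left] at this
        rw [mul_comm]; exact this
      rw [← hc2, ← hc1] at h1
      have h2 : (fittingHallOf M).relIndex M * Nat.card (fittingHallOf M) =
          (Nat.card U * Nat.card W₁) * Nat.card (fittingHallOf M) := by rw [h1]; ring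
      exact Nat.eq_of_mul_eq_mul_right hposH h2
    have hrelU : U.relIndex M = Nat.card (fittingHallOf M) * Nat.card W₁ := by
      have h1 : U.relIndex M * Nat.card U = Nat.card M := by
        have := Subgroup.relIndex_mul_relIndex ⊥ U M bot_le hUM
        rw [Subgroup.relIndex_bot_left, Subgroup.relIndex_bot_left] at this
        rw [mul_comm]; exact this
      rw [← hc2, ← hc1] at h1
      have h2 : U.relIndex M * Nat.card U =
          (Nat.card (fittingHallOf M) * Nat.card W₁) * Nat.card U := by rw [h1]; ring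
      exact Nat.eq_of_mul_eq_mul_right hposU h2
    rw [hrelH] at hcopH
    have hcopUH : (Nat.card U).Coprime (Nat.card (fittingHallOf M)) :=
      (Nat.Coprime.coprime_dvd_right (Dvd.intro _ rfl) hcopH).symm
    have hcopUW : (Nat.card U).Coprime (Nat.card W₁) :=
      (Nat.Coprime.coprime_dvd_right (Dvd.intro_left _ rfl) hHall).symm
    have hUHall : (Nat.card U).Coprime (U.relIndex M) := by
      rw [hrelU]
      exact Nat.Coprime.mul_right hcopUH hcopUW
    -- U.subgroupOf M is a normal nilpotent Hall subgroup of M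
    have hle : U.subgroupOf M ≤ fittingHall M := by
      apply le_fittingHall
      · exact (Subgroup.normal_subgroupOf_iff_le_normalizer hUM).mpr hUnormal
      · have := hP.U_nilpotent
        exact (Group.isNilpotent_congr (Subgroup.subgroupOfEquivOfLe hUM)).mpr this
      · rw [Nat.card_congr (Subgroup.subgroupOfEquivOfLe hUM).toEquiv]
        exact hUHall
    rw [Subgroup.eq_bot_iff_forall]
    intro x hx
    have hxH : x ∈ fittingHallOf M := by
      rw [mem_fittingHallOf_iff M (hUM hx)]
      exact hle (Subgroup.mem_subgroupOf.mpr hx)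
    have : x ∈ fittingHallOf M ⊓ U := ⟨hxH, hx⟩
    rw [hHU, Subgroup.mem_bot] at this
    exact this

end Cfsg.Agent.S1388
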