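import Cfsg.Statements.S1447
import Cfsg.Agent.Lib.helper30.MetaCoprime
import Cfsg.Agent.S0638

set_option autoImplicit false
open Cfsg

namespace Cfsg.Agent.S1447

/-- Let G be a finite group, p an odd prime, R a metacyclic p-subgroup and A a subgroup of order coprime to p normalizing R. Then [R, A] is abelian; R is generated by [R, A] and R ∩ C_G(A), which meet trivially; and if R is non-abelian and A does not centralize R, then [R, A] and R ∩ C_G(A) are nontrivial cyclic groups and [R, R] ≤ [R, A]. -/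
theorem result {G : Type*} [Group G] [Finite G] (p : ℕ) [Fact p.Prime] (hp : p ≠ 2) (R A : Subgroup G) (hR : IsPGroup p R) (hRm : Cfsg.IsMetacyclic R)
    (hA : (A ≤ Subgroup.normalizer (R : Set G))) (hcop : (Nat.card A).Coprime p) :
    IsMulCommutative ↥⁅R, A⁆ ∧ ⁅R, A⁆ ⊔ (R ⊓ Subgroup.centralizer (A : Set G)) = R ∧ ⁅R, A⁆ ⊓ (R ⊓ Subgroup.centralizer (A : Set G)) = ⊥ ∧
      (¬ IsMulCommutative R → ¬ A ≤ Subgroup.centralizer (R : Set G) →
        ⁅R, A⁆ ≠ ⊥ ∧ IsCyclic ↥⁅R, A⁆ ∧ (R ⊓ Subgroup.centralizer (A : Set G)) ≠ ⊥ ∧ IsCyclic ↥(R ⊓ Subgroup.centralizer (A : Set G)) ∧ ⁅R, R⁆ ≤ ⁅R, A⁆) := by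
  have hpp : p.Prime := Fact.out
  obtain ⟨hTcomm, hTC⟩ := Cfsg.Agent.Lib.helper30.commutator_abelian_of_metacyclic p hp R A hR hRm
    hA hcop
  have hcopR : (Nat.card A).Coprime (Nat.card R) := by
    obtain ⟨k, hk⟩ := IsPGroup.iff_card.mp hR
    rw [hk]
    exact Nat.Coprime.pow_right k hcop
  have hnil : Group.IsNilpotent R := hR.isNilpotent
  have hsolv : Group.IsSolvable A ∨ Group.IsSolvable R := Or.inr inferInstance
  have hsup := Cfsg.Agent.Lib.helper1.commutator_sup_fixed A R hA hcopR hsolv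
  have hTR : ⁅R, A⁆ ≤ R := Cfsg.Agent.Lib.helper1.commutator_le_of_le_normalizer hA
  refine ⟨⟨⟨fun x y => Subtype.ext (hTcomm x x.2 y y.2)⟩⟩, hsup, hTC, ?_⟩
  intro hnab hAC
  have hTne : ⁅R, A⁆ ≠ ⊥ := by
    intro h
    rw [Subgroup.commutator_eq_bot_iff_le_centralizer] at h
    exact hAC (Subgroup.le_centralizer_iff.mp h)
  have hCne : R ⊓ Subgroup.centralizer (A : Set G) ≠ ⊥ := by
    intro h
    rw [h, sup_bot_eq] at hsup
    apply hnab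
    refine ⟨⟨fun x y => Subtype.ext ?_⟩⟩
    have hx : (x : G) ∈ ⁅R, A⁆ := by rw [hsup]; exact x.2
    have hy : (y : G) ∈ ⁅R, A⁆ := by rw [hsup]; exact y.2
    exact hTcomm x hx y hy
  have hncyc : ¬ IsCyclic R := by
    intro hcyc
    apply hnab
    exact ⟨⟨fun x y => Cfsg.Agent.Lib.helper30.mul_comm_of_isCyclic x y⟩⟩
  obtain ⟨hEea, hEcard⟩ := Cfsg.Agent.S0638.result hp hR hRm hncyc
  obtain ⟨Ω, hΩdef⟩ : ∃ Ω : Subgroup G,
      Ω = (Cfsg.omegaOne p (⊤ : Subgroup R)).map R.subtype := ⟨_, rfl⟩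
  have hΩcard : Nat.card Ω = p ^ 2 := by
    rw [hΩdef, Subgroup.card_map_of_injective R.subtype_injective, hEcard]
  have hΩmem : ∀ x ∈ R, x ^ p = 1 → x ∈ Ω := by
    intro x hx hxp
    rw [hΩdef]
    refine ⟨⟨x, hx⟩, Subgroup.subset_closure ⟨Subgroup.mem_top _, Subtype.ext ?_⟩, rfl⟩
    simpa using hxp
  have hTp : IsPGroup p ↥⁅R, A⁆ := hR.to_le hTR
  have hCp : IsPGroup p ↥(R ⊓ Subgroup.centralizer (A : Set G)) := hR.to_le inf_le_left
  have hTcyc : IsCyclic ↥⁅R, A⁆ :=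
    Cfsg.Agent.Lib.helper30.cyclic_of_disjoint p hp Ω _ _ hTp hΩcard
      (fun x hx => hΩmem x (hTR hx)) (fun x hx => hΩmem x (Subgroup.mem_inf.mp hx).1) hTC hCp hCne
  have hCcyc : IsCyclic ↥(R ⊓ Subgroup.centralizer (A : Set G)) :=
    Cfsg.Agent.Lib.helper30.cyclic_of_disjoint p hp Ω _ _ hCp hΩcard
      (fun x hx => hΩmem x (Subgroup.mem_inf.mp hx).1) (fun x hx => hΩmem x (hTR hx)) (by rw [inf_comm]; exact hTC)
      hTp hTne
  refine ⟨hTne, hTcyc, hCne, hCcyc, ?_⟩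
  have hRT : R ≤ Subgroup.normalizer ((⁅R, A⁆ : Subgroup G) : Set G) :=
    Cfsg.Agent.Lib.helper1.left_le_normalizer_commutator R A
  have hn : ((⁅R, A⁆ : Subgroup G).subgroupOf R).Normal :=
    (Subgroup.normal_subgroupOf_iff_le_normalizer hTR).mpr hRT
  have hsup' : (⁅R, A⁆ : Subgroup G).subgroupOf R
      ⊔ (R ⊓ Subgroup.centralizer (A : Set G)).subgroupOf R = ⊤ := by
    rw [← Subgroup.subgroupOf_sup hTR inf_le_left, hsup, Subgroup.subgroupOf_self]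
  have hdecomp : ∀ x : R, ∃ c : R, (c : G) ∈ R ⊓ Subgroup.centralizer (A : Set G) ∧
      (QuotientGroup.mk x : ↥R ⧸ (⁅R, A⁆ : Subgroup G).subgroupOf R) = QuotientGroup.mk c := by
    intro x
    have h1 : x ∈ ((((⁅R, A⁆ : Subgroup G).subgroupOf R
        ⊔ (R ⊓ Subgroup.centralizer (A : Set G)).subgroupOf R : Subgroup R)) : Set R) := by
      rw [hsup']
      exact Subgroup.mem_top x
    rw [Subgroup.normal_mul] at h1
    obtain ⟨t, ht, c, hc, rfl⟩ := Set.mem_mul.mp h1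
    refine ⟨c, Subgroup.mem_subgroupOf.mp hc, ?_⟩
    rw [QuotientGroup.eq]
    have h2 : (t * c)⁻¹ * c = c⁻¹ * t⁻¹ * c⁻¹⁻¹ := by group
    rw [h2]
    exact hn.conj_mem _ (Subgroup.inv_mem _ ht) c⁻¹
  rw [Subgroup.commutator_le]
  intro r₁ hr₁ r₂ hr₂
  obtain ⟨c₁, hc₁, e₁⟩ := hdecomp ⟨r₁, hr₁⟩
  obtain ⟨c₂, hc₂, e₂⟩ := hdecomp ⟨r₂, hr₂⟩
  have hcc : c₁ * c₂ = c₂ * c₁ := by
    have h1 := Cfsg.Agent.Lib.helper30.mul_comm_of_isCyclic
      (⟨(c₁ : G), hc₁⟩ : ↥(R ⊓ Subgroup.centralizer (A : Set G))) ⟨(c₂ : G), hc₂⟩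
    apply Subtype.ext
    show (c₁ : G) * c₂ = c₂ * c₁
    exact congrArg Subtype.val h1
  have h3 := Cfsg.Agent.Lib.helper30.commutator_mem_of_quot_comm
    ((⁅R, A⁆ : Subgroup G).subgroupOf R) ⟨r₁, hr₁⟩ ⟨r₂, hr₂⟩
    (by rw [e₁, e₂, ← QuotientGroup.mk_mul, ← QuotientGroup.mk_mul, hcc])
  exact Subgroup.mem_subgroupOf.mp h3

end Cfsg.Agent.S1447
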