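import Cfsg.Statements.S1449
import Cfsg.Agent.Lib.helper30.RankTwo

set_option autoImplicit false
open Cfsg

namespace Cfsg.Agent.S1449

/-- Let G be a finite group, p an odd prime, R a p-subgroup with no elementary abelian subgroup of order p ^ 3, and A a solvable subgroup of odd order normalizing R with A ∩ C_G(R) = 1. Then the derived subgroup [A, A] is a p-group. -/
theorem result {G : Type*} [Group G] [Finite G] (p : ℕ) [Fact p.Prime] (hp : p ≠ 2) (R A : Subgroup G) (hR : IsPGroup p R) (hr : Cfsg.PRankLE p 2 R)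
    (hA : (A ≤ Subgroup.normalizer (R : Set G))) (hAs : Group.IsSolvable A) (hAodd : Odd (Nat.card A)) (hfaith : A ⊓ Subgroup.centralizer (R : Set G) = ⊥) :
    IsPGroup p ↥⁅A, A⁆ := by
  have hpp : p.Prime := Fact.out
  have key := Cfsg.Agent.Lib.helper30.commutator_centralizes p hp R A hR hr hA hAs hAodd
  intro g
  obtain ⟨k, m, hm, hkm⟩ := Nat.exists_eq_pow_mul_and_not_dvd
    (orderOf_pos (g : G)).ne' p hpp.ne_one
  refine ⟨k, ?_⟩
  have hd : ((g : G) ^ p ^ k) ∈ ⁅A, A⁆ := Subgroup.pow_mem _ g.2 _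
  have hdm : ((g : G) ^ p ^ k) ^ m = 1 := by
    rw [← pow_mul, ← hkm, pow_orderOf_eq_one]
  have hcop : (orderOf ((g : G) ^ p ^ k)).Coprime p := by
    have h1 : orderOf ((g : G) ^ p ^ k) ∣ m := orderOf_dvd_of_pow_eq_one hdm
    have h2 : m.Coprime p := ((Nat.Prime.coprime_iff_not_dvd hpp).mpr hm).symm
    exact Nat.Coprime.coprime_dvd_left h1 h2
  have hcent := key _ hd hcop
  have hmem : ((g : G) ^ p ^ k) ∈ A ⊓ Subgroup.centralizer (R : Set G) := by
    refine ⟨Subgroup.commutator_le_self A hd, ?_⟩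
    refine Subgroup.mem_centralizer_iff.mpr ?_
    intro r hr'
    exact (hcent r hr').symm
  rw [hfaith, Subgroup.mem_bot] at hmem
  apply Subtype.ext
  rw [Subgroup.coe_pow]
  exact hmem

end Cfsg.Agent.S1449
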