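import Cfsg.Statements.S1456
import Cfsg.Agent.Lib.helper30.NarrowChain2
import Cfsg.Agent.Lib.helper30.FittingRank
import Cfsg.Agent.S1451

set_option autoImplicit false
open Cfsg

namespace Cfsg.Agent.S1456

open Cfsg.Agent.Lib.helper30

/-- Let G be a solvable group of odd order, p a prime, and E an elementary abelian p-subgroup of the Fitting subgroup F(G) such that F(G) ∩ C_G(E) has no elementary abelian subgroup of order q ^ 3 for any prime q. Then the derived subgroup of G is contained in F(G). -/
theorem result {G : Type*} [Group G] [Finite G] [Group.IsSolvable G] (hodd : Odd (Nat.card G)) (p : ℕ) [Fact p.Prime] (E : Subgroup G) (hE : E ≤ Cfsg.fittingSubgroup G) (hEe : Cfsg.IsElementaryAbelian p E)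
    (hr : Cfsg.RankLE 2 ↥(Cfsg.fittingSubgroup G ⊓ Subgroup.centralizer (E : Set G))) :
    commutator G ≤ Cfsg.fittingSubgroup G := by
  classical
  have hpp : p.Prime := Fact.out
  have hpCoreF : ∀ (q : ℕ) [Fact q.Prime], Cfsg.pCore q G ≤ Cfsg.fittingSubgroup G := fun q _ =>
    Cfsg.Agent.Lib.helper28.le_fittingSubgroup (Cfsg.Agent.Lib.helper40.pCore_normal' q G)
      (Cfsg.Agent.Lib.helper40.pCore_isPGroup q G).isNilpotent
  have hEab : ∀ x ∈ E, ∀ y ∈ E, x * y = y * x :=
    fun x hx y hy => congrArg Subtype.val (isMulCommutative_iff.mp hEe.1 ⟨x, hx⟩ ⟨y, hy⟩)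
  -- `E ≤ O_p(G)`
  have hEp : E ≤ Cfsg.pCore p G := by
    intro e he
    have h1 : e ^ p ^ 1 = 1 := by rw [pow_one]; exact hEe.2 e he
    obtain ⟨k, -, hk⟩ := (Nat.dvd_prime_pow hpp).mp (orderOf_dvd_of_pow_eq_one h1)
    exact mem_pCore_of_mem_fittingSubgroup p e (hE he) k hk
  have key : ∀ (q : ℕ) [Fact q.Prime], ∀ c ∈ commutator G, (orderOf c).Coprime q →
      ∀ r ∈ Cfsg.pCore q G, c * r = r * c := by
    intro q hq
    by_cases hqp : q = p
    · subst hqp
      by_cases hrk : Cfsg.PRankLE q 2 (Cfsg.pCore q G)
      · exact commutator_centralizes_pCore hodd q hrk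
      · by_cases hq2 : q = 2
        · intro c _ _ r hr'
          have h1 : r = 1 := by
            apply eq_one_of_mem_pCore_of_not_dvd q _ r hr'
            rw [hq2]
            intro h2
            exact (Nat.not_even_iff_odd.mpr hodd) (even_iff_two_dvd.mpr h2)
          rw [h1, mul_one, one_mul]
        · have hPn : (Cfsg.pCore q G).Normal := Cfsg.Agent.Lib.helper40.pCore_normal' q G
          have hB : ∀ B : Subgroup G, B ≤ Cfsg.pCore q G →
              (∀ b ∈ B, ∀ e ∈ E, b * e = e * b) →
              (∀ x ∈ B, ∀ y ∈ B, x * y = y * x) → (∀ x ∈ B, x ^ q = 1) →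
              Nat.card B ≤ q ^ 2 := by
            intro B hBR hBE hBab hBexp
            have hBle : B ≤ Cfsg.fittingSubgroup G ⊓ Subgroup.centralizer (E : Set G) := by
              intro b hb
              refine Subgroup.mem_inf.mpr ⟨hpCoreF q (hBR hb), ?_⟩
              rw [Subgroup.mem_centralizer_iff]
              intro e he
              exact (hBE b hb e he).symm
            have h1 : Cfsg.PRankLE q 2 B := prankLE_of_le q 2 hBle (hr q hpp)
            have h2 := h1 ⊤ ?_ ?_
            · rwa [Subgroup.card_top] at h2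
            · rw [isMulCommutative_iff]
              rintro ⟨⟨x, hx⟩, -⟩ ⟨⟨y, hy⟩, -⟩
              apply Subtype.ext
              apply Subtype.ext
              exact hBab x hx y hy
            · rintro ⟨x, hx⟩ -
              apply Subtype.ext
              exact hBexp x hx
          have h3 := (centralizer_rank_aut q hq2 (Cfsg.pCore q G)
            (Cfsg.Agent.Lib.helper40.pCore_isPGroup q G) hrk E hEp hEab hEe.2 hB ⊤
            (by rw [Subgroup.normalizer_eq_top])).1
          intro c hc
          rw [commutator_def] at hc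
          exact h3 c hc
    · have hle : Cfsg.pCore q G ≤
          Cfsg.fittingSubgroup G ⊓ Subgroup.centralizer (E : Set G) := by
        intro x hx
        refine Subgroup.mem_inf.mpr ⟨hpCoreF q hx, ?_⟩
        rw [Subgroup.mem_centralizer_iff]
        intro e he
        exact (pCore_commute q p hqp x e hx (hEp he)).symm
      exact commutator_centralizes_pCore hodd q (prankLE_of_le q 2 hle (hr q hq.out))
  intro g hg
  apply mem_of_prime_pow_parts _ g
  intro x hx q k hq hxo
  have : Fact q.Prime := ⟨hq⟩
  exact Cfsg.Agent.S1451.prime_pow_mem_fitting q key x ((Subgroup.zpowers_le.mpr hg) hx) k hxo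

end Cfsg.Agent.S1456
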