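import Cfsg.Statements.S1460
import Mathlib
import Cfsg.Agent.Lib.helper40.Cores
import Cfsg.Agent.Lib.lead.Hall
-- import your own Cfsg.Agent.* helpers here

set_option autoImplicit false
open Cfsg

namespace Cfsg.Agent.S1460

open scoped commutatorElement

universe u

theorem eq_one_of_coprime {G : Type*} [Group G] [Finite G] (H K : Subgroup G)
    (hcop : (Nat.card H).Coprime (Nat.card K)) {x : G} (hxH : x ∈ H) (hxK : x ∈ K) : x = 1 := by
  have h1 : orderOf x ∣ Nat.card H := Subgroup.orderOf_dvd_natCard H hxH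
  have h2 : orderOf x ∣ Nat.card K := Subgroup.orderOf_dvd_natCard K hxK
  exact orderOf_eq_one_iff.mp (Nat.eq_one_of_dvd_coprimes hcop h1 h2)

/-- an element of `K` normalizing `H` elementwise-into-`H` centralizes `H` -/
theorem comm_of_conj_mem {G : Type*} [Group G] [Finite G] (H K : Subgroup G) [hKn : K.Normal]
    (hcop : (Nat.card H).Coprime (Nat.card K)) {c h : G} (hc : c ∈ K) (hh : h ∈ H)
    (hch : c * h * c⁻¹ ∈ H) : h * c = c * h := by
  have h1 : c * h * c⁻¹ * h⁻¹ ∈ H := H.mul_mem hch (H.inv_mem hh)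
  have h2 : c * h * c⁻¹ * h⁻¹ ∈ K := by
    have : c * h * c⁻¹ * h⁻¹ = c * (h * c⁻¹ * h⁻¹) := by group
    rw [this]
    exact K.mul_mem hc (hKn.conj_mem _ (K.inv_mem hc) h)
  have h3 := eq_one_of_coprime H K hcop h1 h2
  calc h * c = (c * h * c⁻¹ * h⁻¹)⁻¹ * (c * h) := by group
    _ = c * h := by rw [h3, inv_one, one_mul]

theorem exists_mul {G : Type*} [Group G] {K U : Subgroup G} [K.Normal] (h : K ⊔ U = ⊤) (x : G) :
    ∃ u ∈ U, ∃ k ∈ K, u * k = x := by
  rw [sup_comm] at h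
  exact Subgroup.mem_sup_of_normal_right.mp (h ▸ Subgroup.mem_top x)

theorem comm_le {G : Type*} [Group G] (N : Subgroup G) : ⁅N, N⁆ ≤ N := by
  rw [Subgroup.commutator_le]
  intro a ha b hb
  rw [commutatorElement_def]
  exact N.mul_mem (N.mul_mem (N.mul_mem ha hb) (N.inv_mem ha)) (N.inv_mem hb)

theorem part1 {G : Type*} [Group G] [Finite G] (K U H : Subgroup G) [hKn : K.Normal]
    (hKU : K ⊔ U = ⊤) (hH : H ≤ U) (hcop : (Nat.card H).Coprime (Nat.card K)) :
    H ⊓ commutator G = H ⊓ ⁅U, U⁆ := by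
  apply le_antisymm
  · rintro s ⟨hs, hsc⟩
    refine ⟨hs, ?_⟩
    have h1 : commutator G ≤ ⁅U, U⁆ ⊔ K := by
      rw [commutator_def, Subgroup.commutator_le]
      intro g1 _ g2 _
      obtain ⟨n1, hn1, k1, hk1, rfl⟩ := exists_mul hKU g1
      obtain ⟨n2, hn2, k2, hk2, rfl⟩ := exists_mul hKU g2
      have h2 : ⁅n1, n2⁆⁻¹ * ⁅n1 * k1, n2 * k2⁆ ∈ K := by
        rw [← QuotientGroup.eq_one_iff]
        have e1 : ((k1 : G) : G ⧸ K) = 1 := (QuotientGroup.eq_one_iff k1).mpr hk1
        have e2 : ((k2 : G) : G ⧸ K) = 1 := (QuotientGroup.eq_one_iff k2).mpr hk2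
        simp only [commutatorElement_def, QuotientGroup.mk_mul, QuotientGroup.mk_inv, e1, e2,
          mul_one]
        group
      have h3 : ⁅n1 * k1, n2 * k2⁆ = ⁅n1, n2⁆ * (⁅n1, n2⁆⁻¹ * ⁅n1 * k1, n2 * k2⁆) := by group
      rw [h3]
      exact Subgroup.mul_mem_sup (Subgroup.commutator_mem_commutator hn1 hn2) h2
    obtain ⟨a, ha, k, hk, hak⟩ := Subgroup.mem_sup_of_normal_right.mp (h1 hsc)
    have haN : a ∈ U := comm_le U ha
    have hsN : s ∈ U := hH hs
    have hkN : k ∈ U := by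
      have : k = a⁻¹ * s := by rw [← hak]; group
      rw [this]
      exact U.mul_mem (U.inv_mem haN) hsN
    have hmap : (commutator U).map U.subtype = ⁅U, U⁆ := by
      rw [commutator_def, Subgroup.map_commutator, ← MonoidHom.range_eq_map,
        Subgroup.range_subtype]
    have ha' : (⟨a, haN⟩ : U) ∈ commutator U := by
      rw [← hmap] at ha
      obtain ⟨a', ha', haa⟩ := ha
      have : a' = ⟨a, haN⟩ := Subtype.ext haa
      rwa [this] at ha'
    have hφa : (Abelianization.of : U →* Abelianization U) ⟨a, haN⟩ = 1 := by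
      rw [← MonoidHom.mem_ker, Abelianization.ker_of]
      exact ha'
    have hφ : (Abelianization.of : U →* Abelianization U) ⟨s, hsN⟩ =
        (Abelianization.of : U →* Abelianization U) ⟨k, hkN⟩ := by
      have : (⟨s, hsN⟩ : U) = ⟨a, haN⟩ * ⟨k, hkN⟩ := Subtype.ext hak.symm
      rw [this, map_mul, hφa, one_mul]
    have ho1 : orderOf ((Abelianization.of : U →* Abelianization U) ⟨s, hsN⟩) ∣ Nat.card H := by
      apply orderOf_dvd_of_pow_eq_one
      rw [← map_pow]
      have hs2 : s ^ Nat.card H = 1 := by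
        have := pow_card_eq_one' (G := H) (x := ⟨s, hs⟩)
        exact congrArg Subtype.val this
      have : (⟨s, hsN⟩ : U) ^ Nat.card H = 1 := Subtype.ext (by simpa using hs2)
      rw [this, map_one]
    have ho2 : orderOf ((Abelianization.of : U →* Abelianization U) ⟨s, hsN⟩) ∣ Nat.card K := by
      rw [hφ]
      apply orderOf_dvd_of_pow_eq_one
      rw [← map_pow]
      have hk2 : k ^ Nat.card K = 1 := by
        have := pow_card_eq_one' (G := K) (x := ⟨k, hk⟩)
        exact congrArg Subtype.val this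
      have : (⟨k, hkN⟩ : U) ^ Nat.card K = 1 := Subtype.ext (by simpa using hk2)
      rw [this, map_one]
    have ho : orderOf ((Abelianization.of : U →* Abelianization U) ⟨s, hsN⟩) = 1 :=
      Nat.eq_one_of_dvd_coprimes hcop ho1 ho2
    have hs' : (⟨s, hsN⟩ : U) ∈ commutator U := by
      rw [← Abelianization.ker_of, MonoidHom.mem_ker]
      exact orderOf_eq_one_iff.mp ho
    rw [← hmap]
    exact ⟨⟨s, hsN⟩, hs', rfl⟩
  · apply inf_le_inf_left
    rw [commutator_def]
    exact Subgroup.commutator_mono le_top le_top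

theorem part3 {G : Type u} [Group G] [Finite G] [Group.IsSolvable G] (K U H : Subgroup G)
    [hKn : K.Normal] (hKU : K ⊔ U = ⊤) (hH : H ≤ U) (hcop : (Nat.card H).Coprime (Nat.card K))
    (g : G) (hg : H.map (MulAut.conj g).toMonoidHom ≤ U) :
    ∃ u ∈ U, ∃ c ∈ K ⊓ Subgroup.centralizer (H : Set G), g = u * c := by
  obtain ⟨u, hu, k, hk, rfl⟩ := exists_mul hKU g
  -- `k H k⁻¹ ≤ U`
  have hkU : ∀ h ∈ H, k * h * k⁻¹ ∈ U := by
    intro h hh
    have h1 : (u * k) * h * (u * k)⁻¹ ∈ U := hg ⟨h, hh, rfl⟩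
    have : k * h * k⁻¹ = u⁻¹ * ((u * k) * h * (u * k)⁻¹) * u := by group
    rw [this]
    exact U.mul_mem (U.mul_mem (U.inv_mem hu) h1) hu
  set X : Subgroup G := (K ⊔ H) ⊓ U with hX
  have hHX : H ≤ X := le_inf le_sup_right hH
  have hkX : ∀ h ∈ H, k * h * k⁻¹ ∈ X := by
    intro h hh
    refine ⟨?_, hkU h hh⟩
    have hkKH : k ∈ K ⊔ H := (le_sup_left : K ≤ K ⊔ H) hk
    exact (K ⊔ H).mul_mem ((K ⊔ H).mul_mem hkKH ((le_sup_right : H ≤ K ⊔ H) hh))
      ((K ⊔ H).inv_mem hkKH)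
  have hmapX : H.map (MulAut.conj k).toMonoidHom ≤ X := by
    rintro _ ⟨h, hh, rfl⟩
    exact hkX h hh
  -- cardinalities
  have hcardB : Nat.card (H.subgroupOf X) = Nat.card H :=
    Nat.card_congr (Subgroup.subgroupOfEquivOfLe hHX).toEquiv
  have hcardB2 : Nat.card ((H.map (MulAut.conj k).toMonoidHom).subgroupOf X) = Nat.card H := by
    rw [Nat.card_congr (Subgroup.subgroupOfEquivOfLe hmapX).toEquiv]
    exact Subgroup.card_map_of_injective (MulAut.conj k).injective
  have hAcard : Nat.card (K.subgroupOf X) ∣ Nat.card K := by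
    exact Subgroup.card_dvd_of_injective (X.subtype.subgroupComap K) (by
      intro a b hab
      have h1 : ((X.subtype.subgroupComap K a : K) : G) = ((X.subtype.subgroupComap K b : K) : G) :=
        congrArg (fun z : K => (z : G)) hab
      exact Subtype.ext (Subtype.ext h1))
  have hsup : H.subgroupOf X ⊔ K.subgroupOf X = ⊤ := by
    rw [eq_top_iff]
    intro x _
    obtain ⟨a, ha, h, hh, hah⟩ := Subgroup.mem_sup_of_normal_left.mp x.2.1
    have haX : a ∈ X := by
      have : a = (x : G) * h⁻¹ := by rw [← hah]; group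
      rw [this]
      exact X.mul_mem x.2 (X.inv_mem (hHX hh))
    have hx : x = (⟨a, haX⟩ : X) * ⟨h, hHX hh⟩ := Subtype.ext hah.symm
    rw [hx, sup_comm]
    exact Subgroup.mul_mem_sup (Subgroup.mem_subgroupOf.mpr ha) (Subgroup.mem_subgroupOf.mpr hh)
  have hidx : (H.subgroupOf X).index ∣ Nat.card (K.subgroupOf X) := by
    have h1 := Cfsg.Agent.Lib.helper40.card_sup_dvd_mul (H.subgroupOf X) (K.subgroupOf X)
    rw [hsup, Subgroup.card_top, ← Subgroup.card_mul_index (H.subgroupOf X)] at h1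
    exact Nat.dvd_of_mul_dvd_mul_left Nat.card_pos h1
  have hcop' : (Nat.card (H.subgroupOf X)).Coprime (H.subgroupOf X).index := by
    rw [hcardB]
    exact Nat.Coprime.coprime_dvd_right (hidx.trans hAcard) hcop
  obtain ⟨w, hw⟩ := Cfsg.Agent.Lib.lead.conj_of_coprime_of_isSolvable (H.subgroupOf X)
    ((H.map (MulAut.conj k).toMonoidHom).subgroupOf X) hcop' (hcardB2.trans hcardB.symm)
  obtain ⟨a, ha, h₀, hh₀, hah⟩ := Subgroup.mem_sup_of_normal_left.mp w.2.1
  have haU : a ∈ U := by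
    have : a = (w : G) * h₀⁻¹ := by rw [← hah]; group
    rw [this]
    exact U.mul_mem w.2.2 (U.inv_mem (hH hh₀))
  have hcK : a⁻¹ * k ∈ K := K.mul_mem (K.inv_mem ha) hk
  have hnorm : ∀ h ∈ H, (a⁻¹ * k) * h * (a⁻¹ * k)⁻¹ ∈ H := by
    intro h hh
    have h1 : (⟨k * h * k⁻¹, hkX h hh⟩ : X) ∈
        (H.map (MulAut.conj k).toMonoidHom).subgroupOf X :=
      Subgroup.mem_subgroupOf.mpr ⟨h, hh, rfl⟩
    rw [hw] at h1
    obtain ⟨b, hb, hbw⟩ := h1
    have hbH : (b : G) ∈ H := Subgroup.mem_subgroupOf.mp hb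
    have hbw' : (w : G) * (b : G) * (w : G)⁻¹ = k * h * k⁻¹ := by
      have := congrArg Subtype.val hbw
      simpa using this
    have h2 : (a⁻¹ * k) * h * (a⁻¹ * k)⁻¹ = h₀ * (b : G) * h₀⁻¹ := by
      have : (a⁻¹ * k) * h * (a⁻¹ * k)⁻¹ = a⁻¹ * (k * h * k⁻¹) * a := by group
      rw [this, ← hbw', ← hah]
      group
    rw [h2]
    exact H.mul_mem (H.mul_mem hh₀ hbH) (H.inv_mem hh₀)
  have hcC : a⁻¹ * k ∈ Subgroup.centralizer (H : Set G) := by
    rw [Subgroup.mem_centralizer_iff]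
    intro h hh
    exact comm_of_conj_mem H K hcop hcK hh (hnorm h hh)
  exact ⟨u * a, U.mul_mem hu haU, a⁻¹ * k, ⟨hcK, hcC⟩, by group⟩

theorem part2 {G : Type u} [Group G] [Finite G] [Group.IsSolvable G] (K U H : Subgroup G)
    [hKn : K.Normal] (hKU : K ⊔ U = ⊤) (hH : H ≤ U) (hcop : (Nat.card H).Coprime (Nat.card K)) :
    Subgroup.normalizer (H : Set G) =
      (K ⊓ Subgroup.centralizer (H : Set G)) ⊔ (U ⊓ Subgroup.normalizer (H : Set G)) := by
  apply le_antisymm
  · intro g hg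
    have hgU : H.map (MulAut.conj g).toMonoidHom ≤ U := by
      rintro _ ⟨h, hh, rfl⟩
      exact hH ((Subgroup.mem_normalizer_iff.mp hg h).mp hh)
    obtain ⟨u, hu, c, hc, rfl⟩ := part3 K U H hKU hH hcop g hgU
    have hcN : c ∈ Subgroup.normalizer (H : Set G) :=
      Subgroup.centralizer_le_normalizer _ hc.2
    have huN : u ∈ Subgroup.normalizer (H : Set G) := by
      have : u = (u * c) * c⁻¹ := by group
      rw [this]
      exact Subgroup.mul_mem _ hg (Subgroup.inv_mem _ hcN)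
    rw [sup_comm]
    exact Subgroup.mul_mem_sup ⟨hu, huN⟩ hc
  · exact sup_le (inf_le_right.trans (Subgroup.centralizer_le_normalizer _)) inf_le_right

/-- Let G be a finite solvable group, K a normal subgroup and U a subgroup with G = KU, and H ≤ U a subgroup whose order is coprime to that of K. Then H ∩ G' = H ∩ U'; N_G(H) is generated by K ∩ C_G(H) and U ∩ N_G(H); and if gHg⁻¹ ≤ U for some g ∈ G then g = u c with u ∈ U and c ∈ K ∩ C_G(H). -/
theorem result {G : Type*} [Group G] [Finite G] [Group.IsSolvable G] (K U H : Subgroup G) [K.Normal] (hKU : K ⊔ U = ⊤) (hH : H ≤ U) (hcop : (Nat.card H).Coprime (Nat.card K)) :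
    H ⊓ commutator G = H ⊓ ⁅U, U⁆ ∧
      Subgroup.normalizer (H : Set G) = (K ⊓ Subgroup.centralizer (H : Set G)) ⊔ (U ⊓ Subgroup.normalizer (H : Set G)) ∧
      ∀ g : G, H.map (MulAut.conj g).toMonoidHom ≤ U → ∃ u ∈ U, ∃ c ∈ K ⊓ Subgroup.centralizer (H : Set G), g = u * c := by
  exact ⟨part1 K U H hKU hH hcop, part2 K U H hKU hH hcop,
    fun g hg => part3 K U H hKU hH hcop g hg⟩

end Cfsg.Agent.S1460
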