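import Cfsg.Statements.S1480
import Cfsg.Agent.Lib.helper29.Trans4

set_option autoImplicit false
open Cfsg

namespace Cfsg.Agent.S1480

open scoped commutatorElement

/-- Class at most two for a Sylow subgroup gives class at most two for every `p`-subgroup. -/
theorem class_two_of_sylow {G : Type*} [Group G] [Finite G] (p : ℕ) [Fact p.Prime]
    (h : ∀ S : Sylow p G, Group.IsNilpotent (S : Subgroup G) ∧
      Group.nilpotencyClass (S : Subgroup G) ≤ 2)
    (T : Subgroup G) (hT : IsPGroup p T) : ⁅⁅T, T⁆, T⁆ = ⊥ := by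
  obtain ⟨S, hTS⟩ := hT.exists_le_sylow
  obtain ⟨hnil, hcl⟩ := h S
  have h1 : Subgroup.lowerCentralSeries (⊤ : Subgroup ↥(S : Subgroup G)) 2 = ⊥ :=
    Subgroup.lowerCentralSeries_eq_bot_iff_nilpotencyClass_le.mpr hcl
  have h3 : ⁅⁅(S : Subgroup G), (S : Subgroup G)⁆, (S : Subgroup G)⁆ = ⊥ := by
    have h4 : (S : Subgroup G).lowerCentralSeries 2 = ⊥ := by
      rw [← Subgroup.top_subtype_lowerCentralSeries, h1, Subgroup.map_bot]
    rw [Subgroup.lowerCentralSeries_succ, Subgroup.lowerCentralSeries_succ,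
      Subgroup.lowerCentralSeries_zero] at h4
    exact h4
  exact le_bot_iff.mp (h3 ▸ Subgroup.commutator_mono (Subgroup.commutator_mono hTS hTS) hTS)

/-- Let G be a finite group and p a prime such that the normalizer of every nontrivial p-subgroup of G is p-constrained; if p = 2 assume also that the Sylow 2-subgroups of G have nilpotency class at most 2. Let E be an abelian p-subgroup containing an elementary abelian subgroup of order p ^ 3 and containing every element of p-power order of C_G(E). Then for every prime q ≠ p, any two maximal E-invariant q-subgroups of G are conjugate by an element of O_{p'}(C_G(E)). -/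
theorem result {G : Type*} [Group G] [Finite G] (p : ℕ) [Fact p.Prime]
    (hloc : ∀ T : Subgroup G, IsPGroup p T → T ≠ ⊥ → Cfsg.IsPConstrained p ↥(Subgroup.normalizer (T : Set G)))
    (h2 : p = 2 → ∀ S : Sylow p G, Group.IsNilpotent (S : Subgroup G) ∧ Group.nilpotencyClass (S : Subgroup G) ≤ 2)
    (E : Subgroup G) (hEp : IsPGroup p E) (hEc : IsMulCommutative E) (hE3 : ¬ Cfsg.PRankLE p 2 E)
    (hEfull : ∀ x ∈ Subgroup.centralizer (E : Set G), IsPGroup p (Subgroup.zpowers x) → x ∈ E)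
    (q : ℕ) [Fact q.Prime] (hqp : q ≠ p) :
    ∀ Q₁ ∈ Cfsg.maxInvSubgroups ⊤ E {q}, ∀ Q₂ ∈ Cfsg.maxInvSubgroups ⊤ E {q},
        ∃ k ∈ Cfsg.piCoreOf (Cfsg.primesNotDvd p) (Subgroup.centralizer (E : Set G)), Q₂ = Q₁.map (MulAut.conj k).toMonoidHom := by
  intro Q₁ hQ₁ Q₂ hQ₂
  have h2' : p ≠ 2 ∨ ∀ T : Subgroup G, IsPGroup p T → ⁅⁅T, T⁆, T⁆ = ⊥ := by
    by_cases hp2 : p = 2
    · exact Or.inr (fun T hT => class_two_of_sylow p (h2 hp2) T hT)
    · exact Or.inl hp2
  have hEc' : ∀ a ∈ E, ∀ b ∈ E, a * b = b * a := by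
    intro a ha b hb
    have h1 := hEc.is_comm.comm (⟨a, ha⟩ : E) ⟨b, hb⟩
    exact congrArg Subtype.val h1
  unfold Cfsg.PRankLE at hE3
  push Not at hE3
  obtain ⟨A, _, hAp, hcard⟩ := hE3
  have hE₁p : ∀ a ∈ A.map E.subtype, a ^ p = 1 := by
    rintro _ ⟨a, ha, rfl⟩
    have h1 := hAp a ha
    have h3 := congrArg (fun x : E => (x : G)) h1
    simpa using h3
  have hE₁card : p ^ 2 < Nat.card (A.map E.subtype) := by
    rwa [Subgroup.card_subtype]
  exact (Cfsg.Agent.Lib.helper29.kConj_iff_map _ _ _).mp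
    (Cfsg.Agent.Lib.helper29.kConj_of_pConstrained hloc h2' hEp hEc' (Subgroup.map_subtype_le _)
      hE₁p hE₁card hEfull hqp _ Q₁ Q₂ hQ₁ hQ₂ rfl)

end Cfsg.Agent.S1480
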