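import Cfsg.Statements.S1488
import Mathlib
-- import your own Cfsg.Agent.* helpers here

set_option autoImplicit false
open Cfsg

namespace Cfsg.Agent.S1488

theorem ext_mem {G : Type*} [Group G] (H : Subgroup G) (θ : H → ℂ) {y : G} (hy : y ∈ H) :
    Cfsg.extendByZero H θ y = θ ⟨y, hy⟩ := by
  unfold Cfsg.extendByZero
  exact Subtype.val_injective.extend_apply θ 0 ⟨y, hy⟩

theorem ext_not_mem {G : Type*} [Group G] (H : Subgroup G) (θ : H → ℂ) {y : G} (hy : y ∉ H) :
    Cfsg.extendByZero H θ y = 0 := by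
  unfold Cfsg.extendByZero
  rw [Function.extend_apply']
  · rfl
  · rintro ⟨a, ha⟩
    exact hy (ha ▸ a.2)

/-- the bijection `(G ⧸ A) × A ≃ G`, `(q, a) ↦ q.out * a` -/
noncomputable def cosetEquiv {G : Type*} [Group G] (A : Subgroup G) : (G ⧸ A) × A ≃ G where
  toFun := fun qa => qa.1.out * (qa.2 : G)
  invFun := fun x => ((x : G ⧸ A), ⟨(x : G ⧸ A).out⁻¹ * x, by
    have h1 : (((x : G ⧸ A).out : G) : G ⧸ A) = (x : G ⧸ A) := QuotientGroup.out_eq' _
    exact QuotientGroup.eq.mp h1⟩)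
  left_inv := by
    rintro ⟨q, a⟩
    have h1 : ((q.out * (a : G) : G) : G ⧸ A) = q := by
      rw [QuotientGroup.mk_mul_of_mem _ a.2]
      exact QuotientGroup.out_eq' q
    refine Prod.ext h1 ?_
    apply Subtype.ext
    show ((q.out * (a : G) : G) : G ⧸ A).out⁻¹ * (q.out * (a : G)) = (a : G)
    rw [h1]
    group
  right_inv := by
    intro x
    show (x : G ⧸ A).out * ((x : G ⧸ A).out⁻¹ * x) = x
    group

theorem cosetEquiv_mk {G : Type*} [Group G] (A : Subgroup G) (q : G ⧸ A) (a : A) :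
    ((cosetEquiv A (q, a) : G) : G ⧸ A) = q := by
  show ((q.out * (a : G) : G) : G ⧸ A) = q
  rw [QuotientGroup.mk_mul_of_mem _ a.2]
  exact QuotientGroup.out_eq' q

theorem sum_comp_mk {G : Type*} [Group G] [Fintype G] (A : Subgroup G) [Fintype (G ⧸ A)]
    (F : G ⧸ A → ℂ) : ∑ x : G, F (x : G ⧸ A) = (Nat.card A : ℂ) * ∑ q : G ⧸ A, F q := by
  classical
  have : Fintype A := Fintype.ofFinite A
  rw [← Equiv.sum_comp (cosetEquiv A) (fun x : G => F (x : G ⧸ A)), Fintype.sum_prod_type]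
  simp_rw [cosetEquiv_mk]
  rw [Finset.mul_sum]
  apply Finset.sum_congr rfl
  intro q _
  rw [Finset.sum_const, Finset.card_univ, nsmul_eq_mul, Nat.card_eq_fintype_card]

/-- Let A be a normal subgroup of the finite group G contained in the subgroup H, let θ be a function on H and θ₁ a function on the image of H in G ⧸ A whose composite with the projection is θ. Then the function induced from θ₁ to G ⧸ A, composed with the projection G → G ⧸ A, equals the function induced from θ to G. -/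
theorem result {G : Type*} [Group G] [Fintype G] (A H : Subgroup G) [A.Normal] (hAH : A ≤ H) [Fintype (G ⧸ A)] [Fintype ↥(H.map (QuotientGroup.mk' A))] (θ : H → ℂ) (θ₁ : ↥(H.map (QuotientGroup.mk' A)) → ℂ) (hθ : ∀ x : H, θ₁ ⟨QuotientGroup.mk' A x, Subgroup.mem_map_of_mem _ x.2⟩ = θ x) (g : G) : Cfsg.indFun (H.map (QuotientGroup.mk' A)) θ₁ (QuotientGroup.mk' A g) = Cfsg.indFun H θ g := by
  classical
  have hext : ∀ y : G, Cfsg.extendByZero (H.map (QuotientGroup.mk' A)) θ₁ (QuotientGroup.mk' A y) =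
      Cfsg.extendByZero H θ y := by
    intro y
    by_cases hy : y ∈ H
    · rw [ext_mem H θ hy, ext_mem _ θ₁ (Subgroup.mem_map_of_mem _ hy)]
      exact hθ ⟨y, hy⟩
    · rw [ext_not_mem H θ hy, ext_not_mem]
      rintro ⟨h, hh, hhy⟩
      apply hy
      have h1 : h⁻¹ * y ∈ A := QuotientGroup.eq.mp hhy
      have h2 : y = h * (h⁻¹ * y) := by group
      rw [h2]
      exact H.mul_mem hh (hAH h1)
  have hcard : (Nat.card H : ℂ) = (Nat.card A : ℂ) * (Nat.card (H.map (QuotientGroup.mk' A)) : ℂ) := by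
    have h1 : A.relIndex H = Nat.card (H.map (QuotientGroup.mk' A)) := by
      have := Subgroup.relIndex_ker (K := H) (QuotientGroup.mk' A)
      rwa [QuotientGroup.ker_mk'] at this
    have h2 := Subgroup.relIndex_mul_relIndex ⊥ A H bot_le hAH
    rw [Subgroup.relIndex_bot_left, Subgroup.relIndex_bot_left, h1] at h2
    rw [← h2]
    push_cast
    ring
  have hA0 : (Nat.card A : ℂ) ≠ 0 := by
    exact_mod_cast (Nat.card_pos (α := A)).ne'
  have hH0 : (Nat.card (H.map (QuotientGroup.mk' A)) : ℂ) ≠ 0 := by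
    exact_mod_cast (Nat.card_pos (α := H.map (QuotientGroup.mk' A))).ne'
  unfold Cfsg.indFun
  have hsum : ∑ x : G, Cfsg.extendByZero H θ (x⁻¹ * g * x) =
      (Nat.card A : ℂ) * ∑ q : G ⧸ A, Cfsg.extendByZero (H.map (QuotientGroup.mk' A)) θ₁
        (q⁻¹ * QuotientGroup.mk' A g * q) := by
    rw [← sum_comp_mk A (fun q : G ⧸ A => Cfsg.extendByZero (H.map (QuotientGroup.mk' A)) θ₁
        (q⁻¹ * QuotientGroup.mk' A g * q))]
    apply Finset.sum_congr rfl
    intro x _
    rw [← hext]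
    rfl
  rw [hsum, hcard]
  field_simp

end Cfsg.Agent.S1488
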