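import Cfsg.Statements.S1485
import Mathlib
import Cfsg.Agent.S1488
-- import your own Cfsg.Agent.* helpers here

set_option autoImplicit false
open Cfsg

namespace Cfsg.Agent.S1485

/-- Let H be a normal subgroup of the finite group G and θ an irreducible character of H. On H, the function induced from θ equals r times the sum of the distinct G-conjugates of θ, where r is the number of elements of G fixing θ under conjugation divided by the order of H (the index of H in the inertia group). -/
theorem result {G : Type*} [Group G] [Fintype G] (H : Subgroup G) [hN : H.Normal] (θ : H → ℂ) (hθ : Cfsg.IsIrrCharacter H θ) : (fun h : H => Cfsg.indFun H θ h) = ((Nat.card {g : G // ∀ h : H, θ ⟨g * h * g⁻¹, hN.conj_mem h h.2 g⟩ = θ h} : ℂ) / (Nat.card H : ℂ)) • ∑ᶠ ψ ∈ {ψ : H → ℂ | ∃ g : G, ψ = fun h : H => θ ⟨g * h * g⁻¹, hN.conj_mem h h.2 g⟩}, ψ := by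
  classical
  let cj : G → (H → ℂ) := fun g h => θ ⟨g * h * g⁻¹, hN.conj_mem h h.2 g⟩
  have hmul : ∀ (a b : G) (h : H), cj (a * b) h = cj a ⟨b * h * b⁻¹, hN.conj_mem h h.2 b⟩ := by
    intro a b h
    show θ _ = θ _
    congr 1
    apply Subtype.ext
    simp [mul_assoc]
  have hone : cj 1 = θ := by
    funext h
    show θ _ = θ h
    congr 1
    apply Subtype.ext
    simp
  have hfib : ∀ i j : G, cj j = cj i ↔ cj (j * i⁻¹) = θ := by
    intro i j
    constructor
    · intro hji
      funext h
      rw [hmul, hji, ← hmul, mul_inv_cancel, hone]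
    · intro hji
      funext h
      have hj : j = (j * i⁻¹) * i := by group
      rw [hj, hmul, hji]
  have hS : {ψ : H → ℂ | ∃ g : G, ψ = fun h : H => θ ⟨g * h * g⁻¹, hN.conj_mem h h.2 g⟩} =
      ((Finset.univ.image cj : Finset (H → ℂ)) : Set (H → ℂ)) := by
    ext ψ
    simp only [Set.mem_ofPred_eq, Finset.coe_image, Finset.coe_univ, Set.image_univ, Set.mem_range]
    constructor
    · rintro ⟨g, hg⟩
      exact ⟨g, hg.symm⟩
    · rintro ⟨g, hg⟩
      exact ⟨g, hg.symm⟩
  have hI : Nat.card {g : G // ∀ h : H, θ ⟨g * h * g⁻¹, hN.conj_mem h h.2 g⟩ = θ h} =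
      (Finset.univ.filter (fun g : G => cj g = θ)).card := by
    rw [Nat.card_eq_fintype_card, Fintype.card_subtype]
    congr 1
    ext g
    simp only [Finset.mem_filter, Finset.mem_univ, true_and]
    constructor
    · intro hg
      funext h
      exact hg h
    · intro hg h
      exact congrFun hg h
  have hcard : ∀ i : G, (Finset.univ.filter (fun j : G => cj j = cj i)).card =
      (Finset.univ.filter (fun g : G => cj g = θ)).card := by
    intro i
    apply Finset.card_bij' (fun j _ => j * i⁻¹) (fun g _ => g * i)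
    · intro j hj
      simp only [Finset.mem_filter, Finset.mem_univ, true_and] at hj ⊢
      exact (hfib i j).mp hj
    · intro g hg
      simp only [Finset.mem_filter, Finset.mem_univ, true_and] at hg ⊢
      rw [hfib]
      simpa using hg
    · intro j _
      simp
    · intro g _
      simp
  have hsum : (Nat.card {g : G // ∀ h : H, θ ⟨g * h * g⁻¹, hN.conj_mem h h.2 g⟩ = θ h} : ℂ) •
      ∑ ψ ∈ Finset.univ.image cj, ψ = ∑ g : G, cj g := by
    rw [Finset.smul_sum]
    apply Finset.sum_image'
    intro i _
    have e1 : ∑ j ∈ Finset.univ.filter (fun j : G => cj j = cj i), cj j =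
        ∑ j ∈ Finset.univ.filter (fun j : G => cj j = cj i), cj i :=
      Finset.sum_congr rfl (fun j hj => (Finset.mem_filter.mp hj).2)
    rw [e1, Finset.sum_const, hI, hcard i, Nat.cast_smul_eq_nsmul]
  rw [hS, finsum_mem_coe_finset]
  funext h
  have h1 : Cfsg.indFun H θ h = (Nat.card H : ℂ)⁻¹ * ∑ g : G, cj g h := by
    unfold Cfsg.indFun
    congr 1
    rw [← Equiv.sum_comp (Equiv.inv G) (fun g => cj g h)]
    apply Finset.sum_congr rfl
    intro x _
    have hx : x⁻¹ * (h : G) * x ∈ H := by
      have := hN.conj_mem h h.2 x⁻¹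
      simpa using this
    rw [Cfsg.Agent.S1488.ext_mem H θ hx]
    show θ _ = θ _
    congr 1
    apply Subtype.ext
    simp
  rw [h1, div_eq_inv_mul, mul_smul, hsum, Pi.smul_apply, Finset.sum_apply, smul_eq_mul]

end Cfsg.Agent.S1485
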