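import Cfsg.Statements.S1486
import Mathlib
import Cfsg.Agent.Lib.helper82.Clifford
-- import your own Cfsg.Agent.* helpers here

set_option autoImplicit false
open Cfsg

namespace Cfsg.Agent.S1486

open Cfsg.Agent.Lib.helper82 in
theorem conj_eq_cconj {G : Type*} [Group G] (H : Subgroup G) [hN : H.Normal] (g : G) (ψ : H → ℂ) :
    (fun h : H => ψ ⟨g * h * g⁻¹, hN.conj_mem h h.2 g⟩) = cconj H g⁻¹ ψ := by
  funext h
  rw [cconj_apply]
  congr 1
  apply Subtype.ext
  simp

open Cfsg.Agent.Lib.helper82 in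
theorem part_a {G : Type*} [Group G] [Fintype G] (H : Subgroup G) [hN : H.Normal] (θ : H → ℂ)
    (g : G) : Cfsg.indFun H (cconj H g⁻¹ θ) = Cfsg.indFun H θ := by
  funext y
  by_cases hy : y ∈ H
  · have e1 : Cfsg.indFun H (cconj H g⁻¹ θ) y = _ := indFun_apply_mem H (cconj H g⁻¹ θ) ⟨y, hy⟩
    have e2 : Cfsg.indFun H θ y = _ := indFun_apply_mem H θ ⟨y, hy⟩
    rw [e1, e2]
    congr 1
    rw [← Equiv.sum_comp (Equiv.mulRight g⁻¹) (fun x => cconj H x θ ⟨y, hy⟩)]
    apply Finset.sum_congr rfl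
    intro x _
    rw [← cconj_mul]
    rfl
  · rw [indFun_apply_not_mem H _ hy, indFun_apply_not_mem H _ hy]

open Cfsg.Agent.Lib.helper82 in
theorem part_b {G : Type*} [Group G] [Fintype G] (H : Subgroup G) [hN : H.Normal] (θ φ : H → ℂ)
    (hθ : Cfsg.IsIrrCharacter H θ) (hφ : Cfsg.IsIrrCharacter H φ)
    (hnc : ¬ ∃ g : G, φ = cconj H g⁻¹ θ) :
    Cfsg.classInner (Cfsg.indFun H φ) (Cfsg.indFun H θ) = 0 := by
  classical
  have _instH : Fintype H := Fintype.ofFinite H
  have hH0 : (Nat.card H : ℂ) ≠ 0 := by exact_mod_cast (Nat.card_pos (α := H)).ne'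
  have horth : ∀ x x' : G, ∑ h : H, cconj H x φ h * (starRingEnd ℂ) (cconj H x' θ h) = 0 := by
    intro x x'
    have hne : cconj H x φ ≠ cconj H x' θ := by
      intro heq
      apply hnc
      refine ⟨(x⁻¹ * x')⁻¹, ?_⟩
      rw [inv_inv, cconj_mul, ← heq, ← cconj_mul, inv_mul_cancel, cconj_one]
    have h0 := Cfsg.Agent.Lib.helper4.classInner_irr_ne (isIrrCharacter_cconj H x hφ)
      (isIrrCharacter_cconj H x' hθ) hne
    unfold Cfsg.classInner at h0
    rcases mul_eq_zero.mp h0 with h1 | h1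
    · exact absurd (inv_eq_zero.mp h1) hH0
    · exact h1
  unfold Cfsg.classInner
  apply mul_eq_zero_of_right
  have hsplit : ∑ y : G, Cfsg.indFun H φ y * (starRingEnd ℂ) (Cfsg.indFun H θ y) =
      ∑ h : H, Cfsg.indFun H φ (h : G) * (starRingEnd ℂ) (Cfsg.indFun H θ (h : G)) := by
    rw [← Finset.sum_subtype (Finset.univ.filter (fun y : G => y ∈ H)) (fun y => by simp)
      (fun y => Cfsg.indFun H φ y * (starRingEnd ℂ) (Cfsg.indFun H θ y))]
    symm
    apply Finset.sum_filter_of_ne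
    intro y _ hy
    by_contra hyH
    apply hy
    rw [indFun_apply_not_mem H _ hyH, zero_mul]
  rw [hsplit]
  have key : ∑ h : H, (∑ x : G, cconj H x φ h) * (starRingEnd ℂ) (∑ x' : G, cconj H x' θ h) = 0 := by
    have e1 : ∀ h : H, (∑ x : G, cconj H x φ h) * (starRingEnd ℂ) (∑ x' : G, cconj H x' θ h) =
        ∑ x : G, ∑ x' : G, cconj H x φ h * (starRingEnd ℂ) (cconj H x' θ h) := by
      intro h
      rw [map_sum, Finset.sum_mul_sum]
    simp_rw [e1]
    rw [Finset.sum_comm]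
    apply Finset.sum_eq_zero
    intro x _
    rw [Finset.sum_comm]
    apply Finset.sum_eq_zero
    intro x' _
    exact horth x x'
  calc ∑ h : H, Cfsg.indFun H φ (h : G) * (starRingEnd ℂ) (Cfsg.indFun H θ (h : G))
      = ∑ h : H, ((Nat.card H : ℂ)⁻¹ * (starRingEnd ℂ) ((Nat.card H : ℂ)⁻¹)) *
          ((∑ x : G, cconj H x φ h) * (starRingEnd ℂ) (∑ x' : G, cconj H x' θ h)) := by
        apply Finset.sum_congr rfl
        intro h _
        rw [indFun_apply_mem, indFun_apply_mem, map_mul]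
        ring
    _ = 0 := by rw [← Finset.mul_sum, key, mul_zero]


/-- Let H be a normal subgroup of the finite group G and θ, φ irreducible characters of H. If φ is a G-conjugate of θ then the functions induced from θ and φ coincide; if φ is not a G-conjugate of θ then the induced functions are orthogonal. -/
theorem result {G : Type*} [Group G] [Fintype G] (H : Subgroup G) [hN : H.Normal] (θ φ : H → ℂ) (hθ : Cfsg.IsIrrCharacter H θ) (hφ : Cfsg.IsIrrCharacter H φ) : ((∃ g : G, φ = fun h : H => θ ⟨g * h * g⁻¹, hN.conj_mem h h.2 g⟩) → Cfsg.indFun H φ = Cfsg.indFun H θ) ∧ ((¬ ∃ g : G, φ = fun h : H => θ ⟨g * h * g⁻¹, hN.conj_mem h h.2 g⟩) → Cfsg.classInner (Cfsg.indFun H φ) (Cfsg.indFun H θ) = 0) := by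
  constructor
  · rintro ⟨g, rfl⟩
    rw [conj_eq_cconj]
    exact part_a H θ g
  · intro hnc
    apply part_b H θ φ hθ hφ
    rintro ⟨g, hg⟩
    apply hnc
    exact ⟨g, by rw [conj_eq_cconj]; exact hg⟩

end Cfsg.Agent.S1486
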