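import Cfsg.Statements.S1487
import Mathlib
import Cfsg.Agent.S1488
import Cfsg.Agent.Lib.helper82.CharInt
-- import your own Cfsg.Agent.* helpers here

set_option autoImplicit false
open Cfsg

namespace Cfsg.Agent.S1487

theorem eq_of_sum_eq {ι : Type*} [Fintype ι] (z : ι → ℂ) (d : ℝ) (hz : ∀ i, ‖z i‖ ≤ d)
    (hsum : ∑ i, z i = (Fintype.card ι : ℂ) * (d : ℂ)) (i : ι) : z i = (d : ℂ) := by
  have hre : ∀ j, (z j).re ≤ d := fun j => (Complex.re_le_norm (z j)).trans (hz j)
  have h1 : ∑ j, (d - (z j).re) = 0 := by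
    rw [Finset.sum_sub_distrib, Finset.sum_const, Finset.card_univ, nsmul_eq_mul, ← Complex.re_sum,
      hsum]
    simp
  have h2 := (Finset.sum_eq_zero_iff_of_nonneg (fun j _ => sub_nonneg.mpr (hre j))).mp h1 i
    (Finset.mem_univ i)
  have h3 : (z i).re = d := by linarith
  have h4 : (z i).im = 0 := by
    have h5 := hz i
    have h6 : ‖z i‖ ^ 2 = (z i).re ^ 2 + (z i).im ^ 2 := by
      rw [Complex.sq_norm, Complex.normSq_apply]; ring
    have h7 : ‖z i‖ ^ 2 ≤ d ^ 2 := pow_le_pow_left₀ (norm_nonneg _) h5 2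
    rw [h6, h3] at h7
    nlinarith [sq_nonneg (z i).im]
  apply Complex.ext
  · simpa using h3
  · simpa using h4


/-- Let A ≤ H be normal subgroups of the finite group G and θ an irreducible character of H. Then θ takes the value θ 1 on all of A if and only if the function induced from θ to G takes its value at 1 on all of A. -/
theorem result {G : Type*} [Group G] [Fintype G] (A H : Subgroup G) [A.Normal] [H.Normal] (hAH : A ≤ H) (θ : H → ℂ) (hθ : Cfsg.IsIrrCharacter H θ) : (∀ a : H, (a : G) ∈ A → θ a = θ 1) ↔ (∀ a : G, a ∈ A → Cfsg.indFun H θ a = Cfsg.indFun H θ 1) := by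
  classical
  obtain ⟨n, ρ, hirr, hchar⟩ := hθ
  have hone : θ 1 = ((Module.finrank ℂ (Fin n → ℂ) : ℕ) : ℂ) := by
    rw [← hchar]; exact Representation.char_one ρ
  have hnorm : ∀ h : H, ‖θ h‖ ≤ ((Module.finrank ℂ (Fin n → ℂ) : ℕ) : ℝ) := by
    intro h
    rw [← hchar]
    exact Cfsg.Agent.Lib.helper82.norm_char_le ρ h
  have hind1 : ∀ x : G, Cfsg.extendByZero H θ (x⁻¹ * 1 * x) = θ 1 := by
    intro x
    have h1 : x⁻¹ * 1 * x = (1 : G) := by group
    rw [h1, Cfsg.Agent.S1488.ext_mem H θ H.one_mem]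
    rfl
  have hconj : ∀ (a x : G), a ∈ A → x⁻¹ * a * x ∈ A := by
    intro a x ha
    have := (inferInstance : A.Normal).conj_mem a ha x⁻¹
    simpa using this
  constructor
  · intro hA a ha
    unfold Cfsg.indFun
    congr 1
    apply Finset.sum_congr rfl
    intro x _
    rw [hind1, Cfsg.Agent.S1488.ext_mem H θ (hAH (hconj a x ha))]
    exact hA ⟨_, hAH (hconj a x ha)⟩ (hconj a x ha)
  · intro hA a haA
    have hH0 : (Nat.card H : ℂ) ≠ 0 := by
      exact_mod_cast (Nat.card_pos (α := H)).ne'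
    have h1 := hA a haA
    unfold Cfsg.indFun at h1
    have h2 : ∑ x : G, Cfsg.extendByZero H θ (x⁻¹ * (a : G) * x) =
        ∑ x : G, Cfsg.extendByZero H θ (x⁻¹ * 1 * x) :=
      mul_left_cancel₀ (inv_ne_zero hH0) h1
    have h3 : ∑ x : G, Cfsg.extendByZero H θ (x⁻¹ * (a : G) * x) =
        (Fintype.card G : ℂ) * (((Module.finrank ℂ (Fin n → ℂ) : ℕ) : ℝ) : ℂ) := by
      rw [h2]
      simp only [hind1, Finset.sum_const, Finset.card_univ, nsmul_eq_mul, hone]
      simp
    have hbound : ∀ x : G, ‖Cfsg.extendByZero H θ (x⁻¹ * (a : G) * x)‖ ≤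
        ((Module.finrank ℂ (Fin n → ℂ) : ℕ) : ℝ) := by
      intro x
      rw [Cfsg.Agent.S1488.ext_mem H θ (hAH (hconj a x haA))]
      exact hnorm _
    have h4 : Cfsg.extendByZero H θ ((1 : G)⁻¹ * (a : G) * 1) =
        (((Module.finrank ℂ (Fin n → ℂ) : ℕ) : ℝ) : ℂ) :=
      eq_of_sum_eq (fun x : G => Cfsg.extendByZero H θ (x⁻¹ * (a : G) * x)) _ hbound h3 1
    have h5 : Cfsg.extendByZero H θ ((1 : G)⁻¹ * (a : G) * 1) = θ a := by
      have h6 : (1 : G)⁻¹ * (a : G) * 1 = (a : G) := by group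
      rw [h6, Cfsg.Agent.S1488.ext_mem H θ a.2]
    rw [← h5, h4, hone]
    simp

end Cfsg.Agent.S1487
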