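import Mathlib
import Cfsg.Statements.S1490
import Cfsg.Agent.Lib.helper19.AbelianOver
import Cfsg.Agent.S1489

set_option autoImplicit false
open Cfsg

namespace Cfsg.Agent.S1490

open scoped ComplexConjugate
open Cfsg.Agent.Lib.helper4 Cfsg.Agent.Lib.helper19

/-- Let H be a normal subgroup of the finite group G, θ an irreducible character of H with inertia group T, and suppose the commutator of any two elements of T lies in H (T/H abelian). Then there are a positive integer e and a finite set C of irreducible characters of G with e ^ 2 * |C| * |H| = |T|, such that the function induced from θ is e times the sum of the members of C and every member of C has degree [G:T] * e * θ(1). -/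
theorem result {G : Type*} [Group G] [Fintype G] (H T : Subgroup G) [hN : H.Normal] (θ : H → ℂ) (hθ : Cfsg.IsIrrCharacter H θ) (hT : ∀ g : G, g ∈ T ↔ ∀ h : H, θ ⟨g * h * g⁻¹, hN.conj_mem h h.2 g⟩ = θ h) (hab : ∀ x ∈ T, ∀ y ∈ T, x * y * x⁻¹ * y⁻¹ ∈ H) : ∃ (e : ℕ) (C : Finset (G → ℂ)), 0 < e ∧ (∀ χ ∈ C, Cfsg.IsIrrCharacter G χ) ∧ e ^ 2 * C.card * Nat.card H = Nat.card T ∧ Cfsg.indFun H θ = (e : ℂ) • ∑ χ ∈ C, χ ∧ ∀ χ ∈ C, χ 1 = (T.index : ℂ) * e * θ 1 := by
  classical
  have : Fintype H := Fintype.ofFinite _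
  have : Fintype T := Fintype.ofFinite _
  have : Fintype (H.subgroupOf T) := Fintype.ofFinite _
  have hθc := isCharacter_of_isIrrCharacter hθ
  have hHT : H ≤ T := by
    intro g hg
    rw [hT]
    intro h
    exact isClassFunction_of_isCharacter hθc h ⟨g, hg⟩
  have hN' : (H.subgroupOf T).Normal := hN.subgroupOf T
  have hθ' : IsIrrCharacter (H.subgroupOf T)
      (fun x : H.subgroupOf T => θ ⟨(x : T), Subgroup.mem_subgroupOf.mp x.2⟩) :=
    Cfsg.Agent.Lib.helper82.isIrrCharacter_subRes H T hHT hθ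
  have hinv' : ∀ (t : T) (x : H.subgroupOf T),
      (fun x : H.subgroupOf T => θ ⟨(x : T), Subgroup.mem_subgroupOf.mp x.2⟩)
        ⟨t * x * t⁻¹, hN'.conj_mem (x : T) x.2 t⟩
      = (fun x : H.subgroupOf T => θ ⟨(x : T), Subgroup.mem_subgroupOf.mp x.2⟩) x := by
    intro t x
    exact (hT t).1 t.2 ⟨(x : T), Subgroup.mem_subgroupOf.mp x.2⟩
  have hab' : ∀ x y : T, x * y * x⁻¹ * y⁻¹ ∈ H.subgroupOf T := by
    intro x y
    rw [Subgroup.mem_subgroupOf]
    exact hab x x.2 y y.2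
  obtain ⟨e, C, hepos, hcard, hind, hC⟩ := induced_invariant_abelian (H.subgroupOf T) hab'
    (fun x : H.subgroupOf T => θ ⟨(x : T), Subgroup.mem_subgroupOf.mp x.2⟩) hθ' hinv'
  have he0 : (e : ℂ) ≠ 0 := by exact_mod_cast hepos.ne'
  have hS : ∀ ψ ∈ C, ∀ ψ' ∈ C, IsIrrCharacter G (indFun T (ψ : T → ℂ)) ∧
      (indFun T (ψ : T → ℂ) = indFun T (ψ' : T → ℂ) → (ψ : T → ℂ) = ψ') := by
    intro ψ hψ ψ' hψ'
    exact Cfsg.Agent.S1489.result H T θ hθ hT hHT ψ ψ' ψ.2 ψ'.2
      (by rw [(hC ψ hψ).1]; exact he0) (by rw [(hC ψ' hψ').1]; exact he0)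
  have hinj : Set.InjOn (fun ψ : IrrCharacter T => indFun T (ψ : T → ℂ)) C := by
    intro ψ hψ ψ' hψ' h
    exact Subtype.ext ((hS ψ hψ ψ' hψ').2 h)
  refine ⟨e, C.image (fun ψ : IrrCharacter T => indFun T (ψ : T → ℂ)), hepos, ?_, ?_, ?_, ?_⟩
  · intro χ hχ
    obtain ⟨ψ, hψ, rfl⟩ := Finset.mem_image.1 hχ
    exact (hS ψ hψ ψ hψ).1
  · rw [Finset.card_image_of_injOn hinj, hcard]
    have := Subgroup.card_mul_index (H.subgroupOf T)
    rw [Nat.card_congr (Subgroup.subgroupOfEquivOfLe hHT).toEquiv] at this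
    rw [mul_comm]
    exact this
  · rw [Finset.sum_image hinj, ← indFun_trans H T hHT θ, hind, indFun_smul, indFun_sum]
  · intro χ hχ
    obtain ⟨ψ, hψ, rfl⟩ := Finset.mem_image.1 hχ
    rw [indFun_one]
    have h1 := congrFun (hC ψ hψ).2 1
    simp only [Pi.smul_apply, smul_eq_mul] at h1
    have h2 : (ψ : T → ℂ) 1 = (e : ℂ) * θ 1 := h1
    rw [h2]
    ring

end Cfsg.Agent.S1490
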