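import Cfsg.Statements.S1491
import Mathlib
import Cfsg.Agent.Lib.helper19.AbelianOver
import Cfsg.Agent.S1489
-- import your own Cfsg.Agent.* helpers here

set_option autoImplicit false
open Cfsg

namespace Cfsg.Agent.S1491

open scoped ComplexConjugate
open Cfsg.Agent.Lib.helper4 Cfsg.Agent.Lib.helper19

theorem sum_char_subgroup {X : Type*} [Group X] [Finite X] (A : Subgroup X) [Fintype A]
    (ψ : X → ℂ) (hψ : IsCharacter X ψ) :
    ∃ k : ℕ, ∑ a : A, ψ a = (Nat.card A : ℂ) * k := by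
  obtain ⟨n, ρ, rfl⟩ := hψ
  let σ : Representation ℂ A (Fin n → ℂ) := ρ.comp A.subtype
  have hA0 : (Nat.card A : ℂ) ≠ 0 := by exact_mod_cast (Nat.card_pos (α := A)).ne'
  have _inv : Invertible (Nat.card A : ℂ) := invertibleOfNonzero hA0
  have h := Representation.card_inv_mul_sum_char_eq_finrank σ
  refine ⟨Module.finrank ℂ (Representation.invariants σ), ?_⟩
  rw [← h, ← mul_assoc, mul_inv_cancel₀ hA0, one_mul]
  rfl

theorem e_eq_one {X : Type*} [Group X] [Fintype X] (N : Subgroup X) [hN : N.Normal]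
    (hcop : (Nat.card N).Coprime N.index) (θ : N → ℂ) (hθ : IsIrrCharacter N θ)
    (e : ℕ) (C : Finset (IrrCharacter X)) (hcard : e ^ 2 * C.card = N.index)
    (hind : indFun N θ = (e : ℂ) • ∑ ψ ∈ C, (ψ : X → ℂ)) : e = 1 := by
  classical
  obtain ⟨A, hA⟩ := Subgroup.exists_right_complement'_of_coprime hcop
  have _instA : Fintype A := Fintype.ofFinite A
  have hcardA : Nat.card A = N.index := by
    have h1 := hA.card_mul_card
    have h2 := N.card_mul_index
    have h3 : 0 < Nat.card N := Nat.card_pos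
    exact Nat.eq_of_mul_eq_mul_left h3 (h1.trans h2.symm)
  have hdisj : ∀ a : A, (a : X) ∈ N → a = 1 := by
    intro a ha
    have h1 : (a : X) ∈ N ⊓ A := ⟨ha, a.2⟩
    rw [hA.disjoint.eq_bot] at h1
    exact Subtype.ext (Subgroup.mem_bot.mp h1)
  obtain ⟨n, ρ, hirr, hρ⟩ := hθ
  have hd : θ 1 = ((Module.finrank ℂ (Fin n → ℂ) : ℕ) : ℂ) := by
    rw [← hρ]; exact Representation.char_one ρ
  have hdvd : Module.finrank ℂ (Fin n → ℂ) ∣ Nat.card N := by
    have := hirr
    exact Cfsg.Agent.Lib.helper82.finrank_dvd_card ρ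
  have hk : ∀ ψ : IrrCharacter X, ∃ k : ℕ, ∑ a : A, (ψ : X → ℂ) a = (Nat.card A : ℂ) * k :=
    fun ψ => sum_char_subgroup A _ (isCharacter_of_isIrrCharacter ψ.2)
  choose k hk using hk
  have hsum1 : ∑ a : A, indFun N θ (a : X) = (N.index : ℂ) * θ 1 := by
    rw [Finset.sum_eq_single (1 : A)]
    · exact indFun_one N θ
    · intro a _ ha
      apply Cfsg.Agent.Lib.helper82.indFun_apply_not_mem
      intro haN
      exact ha (hdisj a haN)
    · intro h
      exact absurd (Finset.mem_univ _) h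
  have hsum2 : ∑ a : A, indFun N θ (a : X) =
      (e : ℂ) * ((Nat.card A : ℂ) * ((∑ ψ ∈ C, k ψ : ℕ) : ℂ)) := by
    rw [hind]
    simp only [Pi.smul_apply, Finset.sum_apply, smul_eq_mul]
    rw [← Finset.mul_sum, Finset.sum_comm]
    congr 1
    rw [Nat.cast_sum, Finset.mul_sum]
    apply Finset.sum_congr rfl
    intro ψ _
    exact hk ψ
  have hA0 : (Nat.card A : ℂ) ≠ 0 := by exact_mod_cast (Nat.card_pos (α := A)).ne'
  have hkey : e * (∑ ψ ∈ C, k ψ) = Module.finrank ℂ (Fin n → ℂ) := by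
    have h1 := hsum2.symm.trans hsum1
    rw [hd, ← hcardA] at h1
    have h2 : (Nat.card A : ℂ) * ((e : ℂ) * ((∑ ψ ∈ C, k ψ : ℕ) : ℂ)) =
        (Nat.card A : ℂ) * ((Module.finrank ℂ (Fin n → ℂ) : ℕ) : ℂ) := by
      rw [← h1]; ring
    have h3 := mul_left_cancel₀ hA0 h2
    exact_mod_cast h3
  have he_d : e ∣ Module.finrank ℂ (Fin n → ℂ) := ⟨_, hkey.symm⟩
  have he_N : e ∣ Nat.card N := he_d.trans hdvd
  have he_i : e ∣ N.index := by
    rw [← hcard, pow_two, mul_assoc]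
    exact dvd_mul_right _ _
  exact Nat.eq_one_of_dvd_coprimes hcop he_N he_i


/-- Let H be a normal subgroup of the finite group G and θ an irreducible character of H with inertia group T, where T/H is abelian (commutators of T lie in H) and the index of H in T is coprime to the order of H. Then the function induced from θ is the sum of a set of exactly [T:H] irreducible characters of G, each of degree [G:T] * θ(1). -/
theorem result {G : Type*} [Group G] [Fintype G] (H T : Subgroup G) [hN : H.Normal] (θ : H → ℂ) (hθ : Cfsg.IsIrrCharacter H θ) (hT : ∀ g : G, g ∈ T ↔ ∀ h : H, θ ⟨g * h * g⁻¹, hN.conj_mem h h.2 g⟩ = θ h) (hab : ∀ x ∈ T, ∀ y ∈ T, x * y * x⁻¹ * y⁻¹ ∈ H) (hcop : Nat.Coprime (Nat.card H) (H.relIndex T)) : ∃ C : Finset (G → ℂ), (∀ χ ∈ C, Cfsg.IsIrrCharacter G χ) ∧ C.card = H.relIndex T ∧ Cfsg.indFun H θ = ∑ χ ∈ C, χ ∧ ∀ χ ∈ C, χ 1 = (T.index : ℂ) * θ 1 := by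
  classical
  have : Fintype H := Fintype.ofFinite _
  have : Fintype T := Fintype.ofFinite _
  have : Fintype (H.subgroupOf T) := Fintype.ofFinite _
  have hθc := isCharacter_of_isIrrCharacter hθ
  have hHT : H ≤ T := by
    intro g hg
    rw [hT]
    intro h
    exact isClassFunction_of_isCharacter hθc h ⟨g, hg⟩
  have hN' : (H.subgroupOf T).Normal := hN.subgroupOf T
  have hθ' : IsIrrCharacter (H.subgroupOf T)
      (fun x : H.subgroupOf T => θ ⟨(x : T), Subgroup.mem_subgroupOf.mp x.2⟩) :=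
    Cfsg.Agent.Lib.helper82.isIrrCharacter_subRes H T hHT hθ
  have hinv' : ∀ (t : T) (x : H.subgroupOf T),
      (fun x : H.subgroupOf T => θ ⟨(x : T), Subgroup.mem_subgroupOf.mp x.2⟩)
        ⟨t * x * t⁻¹, hN'.conj_mem (x : T) x.2 t⟩
      = (fun x : H.subgroupOf T => θ ⟨(x : T), Subgroup.mem_subgroupOf.mp x.2⟩) x := by
    intro t x
    exact (hT t).1 t.2 ⟨(x : T), Subgroup.mem_subgroupOf.mp x.2⟩
  have hab' : ∀ x y : T, x * y * x⁻¹ * y⁻¹ ∈ H.subgroupOf T := by
    intro x y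
    rw [Subgroup.mem_subgroupOf]
    exact hab x x.2 y y.2
  obtain ⟨e, C, hepos, hcard, hind, hC⟩ := induced_invariant_abelian (H.subgroupOf T) hab'
    (fun x : H.subgroupOf T => θ ⟨(x : T), Subgroup.mem_subgroupOf.mp x.2⟩) hθ' hinv'
  have hcop' : (Nat.card (H.subgroupOf T)).Coprime (H.subgroupOf T).index := by
    rw [Nat.card_congr (Subgroup.subgroupOfEquivOfLe hHT).toEquiv]
    exact hcop
  have he1 : e = 1 := e_eq_one (H.subgroupOf T) hcop' _ hθ' e C hcard hind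
  have he0 : (e : ℂ) ≠ 0 := by exact_mod_cast hepos.ne'
  have hS : ∀ ψ ∈ C, ∀ ψ' ∈ C, IsIrrCharacter G (indFun T (ψ : T → ℂ)) ∧
      (indFun T (ψ : T → ℂ) = indFun T (ψ' : T → ℂ) → (ψ : T → ℂ) = ψ') := by
    intro ψ hψ ψ' hψ'
    exact Cfsg.Agent.S1489.result H T θ hθ hT hHT ψ ψ' ψ.2 ψ'.2
      (by rw [(hC ψ hψ).1]; exact he0) (by rw [(hC ψ' hψ').1]; exact he0)
  have hinj : Set.InjOn (fun ψ : IrrCharacter T => indFun T (ψ : T → ℂ)) C := by
    intro ψ hψ ψ' hψ' h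
    exact Subtype.ext ((hS ψ hψ ψ' hψ').2 h)
  refine ⟨C.image (fun ψ : IrrCharacter T => indFun T (ψ : T → ℂ)), ?_, ?_, ?_, ?_⟩
  · intro χ hχ
    obtain ⟨ψ, hψ, rfl⟩ := Finset.mem_image.1 hχ
    exact (hS ψ hψ ψ hψ).1
  · rw [Finset.card_image_of_injOn hinj]
    rw [he1] at hcard
    show C.card = (H.subgroupOf T).index
    rw [← hcard]
    ring
  · rw [Finset.sum_image hinj, ← indFun_trans H T hHT θ, hind, indFun_smul, indFun_sum, he1]
    simp
  · intro χ hχ
    obtain ⟨ψ, hψ, rfl⟩ := Finset.mem_image.1 hχ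
    rw [indFun_one]
    have h1 := congrFun (hC ψ hψ).2 1
    simp only [Pi.smul_apply, smul_eq_mul] at h1
    have h2 : (ψ : T → ℂ) 1 = (e : ℂ) * θ 1 := h1
    rw [h2, he1]
    simp

end Cfsg.Agent.S1491
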