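import Cfsg.Statements.S1492
import Mathlib
import Cfsg.Agent.Lib.helper4.CharDecomp
import Cfsg.Agent.Lib.helper4.FinOrder
import Cfsg.Agent.Lib.helper82.CharInt
-- import your own Cfsg.Agent.* helpers here

set_option autoImplicit false
open Cfsg

namespace Cfsg.Agent.S1492

open scoped ComplexConjugate

universe u

theorem eq_of_re_eq_of_norm_le {z : ℂ} {k : ℝ} (h1 : z.re = k) (h2 : ‖z‖ ≤ k) : z = (k : ℂ) := by
  have hk : 0 ≤ k := le_trans (norm_nonneg z) h2
  have h3 : ‖z‖ ^ 2 ≤ k ^ 2 := pow_le_pow_left₀ (norm_nonneg z) h2 2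
  rw [Complex.sq_norm, Complex.normSq_apply, h1] at h3
  have h4 : z.im = 0 := by nlinarith [sq_nonneg z.im]
  apply Complex.ext
  · simpa using h1
  · simpa using h4

/-- degree of the character of a matrix representation -/
theorem char_one_eq {X : Type*} [Group X] {k : ℕ} (σ : Representation ℂ X (Fin k → ℂ)) :
    σ.character 1 = (k : ℂ) := by
  show LinearMap.trace ℂ _ (σ 1) = k
  rw [map_one, LinearMap.trace_one, Module.finrank_fin_fun]

theorem sum_mul_conj_eq {X : Type*} [Fintype X] (f : X → ℂ) :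
    ∑ x, f x * conj (f x) = ((∑ x, ‖f x‖ ^ 2 : ℝ) : ℂ) := by
  push_cast
  refine Finset.sum_congr rfl (fun x _ => ?_)
  rw [Complex.mul_conj, Complex.normSq_eq_norm_sq]; push_cast; rfl

theorem sum_norm_sq_of_classInner {X : Type*} [Group X] [Fintype X] (f : X → ℂ) (r : ℝ)
    (h : Cfsg.classInner f f = (r : ℂ)) : ∑ x, ‖f x‖ ^ 2 = r * (Nat.card X : ℝ) := by
  have hc : (Nat.card X : ℂ) ≠ 0 := by exact_mod_cast (Nat.card_pos (α := X)).ne'
  have h1 : ∑ x, f x * conj (f x) = (r : ℂ) * (Nat.card X : ℂ) := by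
    unfold Cfsg.classInner at h
    rw [← h]; field_simp
  rw [sum_mul_conj_eq] at h1
  exact_mod_cast h1

/-- if a sum of irreducible characters takes its degree at `b`, so does every summand -/
theorem const_on_of_sum {X : Type u} [Group X] [Finite X] (l : List (Cfsg.IrrCharacter X)) (b : X)
    (h : (l.map Subtype.val).sum b = (l.map Subtype.val).sum 1) :
    ∀ θ ∈ l, θ.1 b = θ.1 1 := by
  have key : ∀ θ : Cfsg.IrrCharacter X, 0 ≤ (θ.1 1 - θ.1 b).re ∧
      ((θ.1 1 - θ.1 b).re = 0 → θ.1 b = θ.1 1) := by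
    intro θ
    obtain ⟨k, σ, hσ, hθ⟩ := θ.2
    rw [← hθ]
    have h1 : σ.character 1 = (k : ℂ) := char_one_eq σ
    have h2 : ‖σ.character b‖ ≤ (k : ℝ) := by
      have h0 := Cfsg.Agent.Lib.helper82.norm_char_le σ b
      rwa [Module.finrank_fin_fun] at h0
    have h3 : (σ.character b).re ≤ k := le_trans (Complex.re_le_norm _) h2
    rw [h1]
    constructor
    · simp only [Complex.sub_re, Complex.natCast_re]; linarith
    · intro h0
      simp only [Complex.sub_re, Complex.natCast_re] at h0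
      have h4 : (σ.character b).re = ((k : ℕ) : ℝ) := by linarith
      have h5 := eq_of_re_eq_of_norm_le h4 h2
      rw [h5]; push_cast; rfl
  have hgen : ∀ l' : List (Cfsg.IrrCharacter X),
      (l'.map (fun θ : Cfsg.IrrCharacter X => (θ.1 1 - θ.1 b).re)).sum
        = ((l'.map Subtype.val).sum 1 - (l'.map Subtype.val).sum b).re := by
    intro l'
    induction l' with
    | nil => simp
    | cons a l' ih =>
      rw [List.map_cons, List.sum_cons, ih, List.map_cons, List.sum_cons]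
      simp only [Pi.add_apply, Complex.sub_re, Complex.add_re]
      ring
  have hsum : (l.map (fun θ : Cfsg.IrrCharacter X => (θ.1 1 - θ.1 b).re)).sum = 0 := by
    rw [hgen, h]; simp
  intro θ hθ
  apply (key θ).2
  refine List.all_zero_of_le_zero_le_of_sum_eq_zero (fun x hx => ?_) hsum
    (List.mem_map.mpr ⟨θ, hθ, rfl⟩)
  obtain ⟨θ', -, rfl⟩ := List.mem_map.mp hx
  exact (key θ').1

theorem irr_bound {X : Type u} [Group X] [Fintype X] {k : ℕ}
    (σ : Representation ℂ X (Fin k → ℂ)) (hσ : σ.IsIrreducible) (B D : Subgroup X)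
    (hcent : ∀ d ∈ D, ∀ c : X, d * c * d⁻¹ * c⁻¹ ∈ B)
    (hB : ∀ b ∈ B, σ.character b = σ.character 1) :
    (k : ℝ) ^ 2 * (Nat.card D : ℝ) ≤ (Nat.card X : ℝ) := by
  classical
  have hfr : Module.finrank ℂ (Fin k → ℂ) = k := Module.finrank_fin_fun ℂ
  have h1 : σ.character 1 = (k : ℂ) := char_one_eq σ
  have hB1 : ∀ b ∈ B, σ b = 1 := by
    intro b hb
    apply Cfsg.Agent.Lib.helper82.rep_eq_one_of_char_eq σ b
    rw [hB b hb, h1, hfr]
  have hD : ∀ d ∈ D, ‖σ.character d‖ = (k : ℝ) := by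
    intro d hd
    have hcomm : ∀ c : X, σ d * σ c = σ c * σ d := by
      intro c
      have h2 : d * c = (d * c * d⁻¹ * c⁻¹) * (c * d) := by group
      rw [← map_mul, h2, map_mul, hB1 _ (hcent d hd c), one_mul, map_mul]
    obtain ⟨ω, hω⟩ := Cfsg.Agent.Lib.helper82.schur_scalar σ (σ d) hcomm
    have h3 := (Cfsg.Agent.Lib.helper4.norm_char_eq_iff σ d).mpr ⟨ω, hω⟩
    rw [hfr] at h3
    exact h3
  have hsum : ∑ x : X, ‖σ.character x‖ ^ 2 = (Nat.card X : ℝ) := by
    have h2 := Cfsg.Agent.Lib.helper82.sum_char_mul_conj_self σ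
    rw [sum_mul_conj_eq] at h2
    exact_mod_cast h2
  have hle : ∑ x ∈ Finset.univ.filter (fun x : X => x ∈ D), ‖σ.character x‖ ^ 2
      ≤ ∑ x : X, ‖σ.character x‖ ^ 2 :=
    Finset.sum_le_sum_of_subset_of_nonneg (Finset.filter_subset _ _) (fun _ _ _ => sq_nonneg _)
  have hD2 : ∑ x ∈ Finset.univ.filter (fun x : X => x ∈ D), ‖σ.character x‖ ^ 2
      = (Nat.card D : ℝ) * (k : ℝ) ^ 2 := by
    have h4 : ∀ x ∈ Finset.univ.filter (fun x : X => x ∈ D), ‖σ.character x‖ ^ 2 = (k : ℝ) ^ 2 := by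
      intro x hx
      rw [hD x (Finset.mem_filter.mp hx).2]
    rw [Finset.sum_congr rfl h4, Finset.sum_const, nsmul_eq_mul]
    congr 2
    exact (Nat.subtype_card _ (by simp)).symm
  rw [hsum, hD2] at hle
  linarith

theorem list_norm_le {X : Type u} [Group X] (l : List (Cfsg.IrrCharacter X)) (s : ℝ)
    (h : ∀ θ ∈ l, ‖θ.1 1‖ ≤ s) : ‖(l.map Subtype.val).sum 1‖ ≤ (l.length : ℝ) * s := by
  induction l with
  | nil => simp
  | cons a l ih =>
    rw [List.map_cons, List.sum_cons, Pi.add_apply, List.length_cons]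
    have h1 := h a (List.mem_cons_self)
    have h2 := ih (fun θ hθ => h θ (List.mem_cons_of_mem _ hθ))
    have h3 := norm_add_le (a.1 1) ((l.map Subtype.val).sum 1)
    push_cast
    linarith


/-- Let ψ be an irreducible character of the finite group G and B ≤ D ≤ C subgroups with B normal in C, every commutator of an element of D with an element of C lying in B (so D/B is central in C/B), and ψ constant equal to ψ 1 on B. Then ψ(1) ^ 2 * |C| * |D| ≤ |G| ^ 2. -/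
theorem result {G : Type*} [Group G] [Finite G] (ψ : G → ℂ) (hψ : Cfsg.IsIrrCharacter G ψ) (B C D : Subgroup G) (hBD : B ≤ D) (hDC : D ≤ C) (hBn : ∀ c ∈ C, ∀ b ∈ B, c * b * c⁻¹ ∈ B) (hcent : ∀ d ∈ D, ∀ c ∈ C, d * c * d⁻¹ * c⁻¹ ∈ B) (hker : ∀ b ∈ B, ψ b = ψ 1) : ‖ψ 1‖ ^ 2 * (Nat.card C : ℝ) * (Nat.card D : ℝ) ≤ (Nat.card G : ℝ) ^ 2 := by
  classical
  have _instG : Fintype G := Fintype.ofFinite G
  have _instC : Fintype C := Fintype.ofFinite C
  obtain ⟨n, ρ, hρ, rfl⟩ := hψ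
  have hres : Cfsg.IsCharacter C (fun c : C => ρ.character c) :=
    Cfsg.Agent.Lib.helper4.isCharacter_restrict C ⟨n, ρ, rfl⟩
  obtain ⟨l, hl⟩ := Cfsg.Agent.Lib.helper4.exists_irr_list_of_isCharacter hres
  obtain ⟨m, hm, hlm⟩ := Cfsg.Agent.Lib.helper4.exists_nat_norm_list_irr l
  rw [← hl] at hm
  -- `m * |C| ≤ |G|`
  have hmC : (m : ℝ) * (Nat.card C : ℝ) ≤ (Nat.card G : ℝ) := by
    have h1 : ∑ c : C, ‖ρ.character (c : G)‖ ^ 2 = (m : ℝ) * (Nat.card C : ℝ) :=
      sum_norm_sq_of_classInner (fun c : C => ρ.character c) (m : ℝ) (by rw [hm]; push_cast; rfl)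
    have h2 : ∑ g : G, ‖ρ.character g‖ ^ 2 = (Nat.card G : ℝ) := by
      have h0 := Cfsg.Agent.Lib.helper82.sum_char_mul_conj_self ρ
      rw [sum_mul_conj_eq] at h0
      exact_mod_cast h0
    have h3 : ∑ c : C, ‖ρ.character (c : G)‖ ^ 2 ≤ ∑ g : G, ‖ρ.character g‖ ^ 2 := by
      have h4 : ∑ g ∈ Finset.univ.filter (fun g : G => g ∈ C), ‖ρ.character g‖ ^ 2
          = ∑ c : C, ‖ρ.character (c : G)‖ ^ 2 :=
        Finset.sum_subtype (Finset.univ.filter (fun g : G => g ∈ C)) (by simp)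
          (fun g => ‖ρ.character g‖ ^ 2)
      rw [← h4]
      exact Finset.sum_le_sum_of_subset_of_nonneg (Finset.filter_subset _ _)
        (fun _ _ _ => sq_nonneg _)
    linarith
  have hDpos : (0 : ℝ) < (Nat.card D : ℝ) := by exact_mod_cast Nat.card_pos
  have hCpos : (0 : ℝ) < (Nat.card C : ℝ) := by exact_mod_cast Nat.card_pos
  -- every constituent has `θ(1)^2 * |D| ≤ |C|`
  have hθ : ∀ θ ∈ l, ‖θ.1 1‖ ^ 2 * (Nat.card D : ℝ) ≤ (Nat.card C : ℝ) := by
    intro θ hθl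
    have hconst : ∀ b : C, (b : G) ∈ B → θ.1 b = θ.1 1 := by
      intro b hb
      refine const_on_of_sum l b ?_ θ hθl
      rw [← hl]
      show ρ.character (b : G) = ρ.character ((1 : C) : G)
      rw [hker (b : G) hb]; rfl
    obtain ⟨k, σ, hσ, hθeq⟩ := θ.2
    have hb := irr_bound σ hσ (B.subgroupOf C) (D.subgroupOf C) ?_ ?_
    · have h1 : ‖θ.1 1‖ = (k : ℝ) := by
        rw [← hθeq, char_one_eq σ]; simp
      have h2 : Nat.card (D.subgroupOf C) = Nat.card D :=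
        Nat.card_congr (Subgroup.subgroupOfEquivOfLe hDC).toEquiv
      rw [h1, ← h2]
      exact hb
    · intro d hd c
      rw [Subgroup.mem_subgroupOf] at hd ⊢
      exact hcent (d : G) hd (c : G) c.2
    · intro b hb
      rw [hθeq]
      exact hconst b (Subgroup.mem_subgroupOf.mp hb)
  -- final estimate
  have hs0 : (0 : ℝ) ≤ (Nat.card C : ℝ) / (Nat.card D : ℝ) := by positivity
  have hle : ∀ θ ∈ l, ‖θ.1 1‖ ≤ Real.sqrt ((Nat.card C : ℝ) / (Nat.card D : ℝ)) := by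
    intro θ hθl
    apply Real.le_sqrt_of_sq_le
    rw [le_div_iff₀ hDpos]
    exact hθ θ hθl
  have hN : ‖ρ.character 1‖ ≤ (l.length : ℝ) * Real.sqrt ((Nat.card C : ℝ) / (Nat.card D : ℝ)) := by
    have h1 := list_norm_le l _ hle
    have h2 : ρ.character 1 = (l.map Subtype.val).sum 1 := congrFun hl 1
    rw [h2]; exact h1
  have hlen : (l.length : ℝ) ≤ (m : ℝ) := by exact_mod_cast hlm
  have hsq : Real.sqrt ((Nat.card C : ℝ) / (Nat.card D : ℝ)) ^ 2
      = (Nat.card C : ℝ) / (Nat.card D : ℝ) := Real.sq_sqrt hs0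
  have hN2 : ‖ρ.character 1‖ ^ 2 ≤ (m : ℝ) ^ 2 * ((Nat.card C : ℝ) / (Nat.card D : ℝ)) := by
    have h1 : ‖ρ.character 1‖ ≤ (m : ℝ) * Real.sqrt ((Nat.card C : ℝ) / (Nat.card D : ℝ)) :=
      hN.trans (mul_le_mul_of_nonneg_right hlen (Real.sqrt_nonneg _))
    have h2 := pow_le_pow_left₀ (norm_nonneg _) h1 2
    rw [mul_pow, hsq] at h2
    exact h2
  have hm0 : (0 : ℝ) ≤ (m : ℝ) := Nat.cast_nonneg m
  calc ‖ρ.character 1‖ ^ 2 * (Nat.card C : ℝ) * (Nat.card D : ℝ)
      ≤ (m : ℝ) ^ 2 * ((Nat.card C : ℝ) / (Nat.card D : ℝ)) * (Nat.card C : ℝ) * (Nat.card D : ℝ) := by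
        gcongr
    _ = ((m : ℝ) * (Nat.card C : ℝ)) ^ 2 := by
        field_simp
    _ ≤ (Nat.card G : ℝ) ^ 2 := pow_le_pow_left₀ (by positivity) hmC 2

end Cfsg.Agent.S1492
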