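import Cfsg.Statements.S1494
import Mathlib
-- import your own Cfsg.Agent.* helpers here

set_option autoImplicit false
open Cfsg

namespace Cfsg.Agent.S1494

open Module Finset

section LA

variable {V : Type*} [AddCommGroup V] [Module ℂ V] [FiniteDimensional ℂ V]

theorem isIntegral_trace_of_pow_succ_eq (T : End ℂ V) (m : ℕ) (hm : 0 < m) (hT : T ^ (m + 1) = T) :
    IsIntegral ℤ (LinearMap.trace ℂ V T) := by
  have hsplit : T.charpoly.Splits := IsAlgClosed.splits _
  rw [End.trace_eq_sum_roots_charpoly_of_splits hsplit]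
  refine IsIntegral.multiset_sum (fun μ hμ => ?_)
  have hroot : T.charpoly.IsRoot μ := (Polynomial.mem_roots'.mp hμ).2
  have hev : T.HasEigenvalue μ := (End.hasEigenvalue_iff_isRoot_charpoly T μ).mpr hroot
  obtain ⟨v, hv⟩ := hev.exists_hasEigenvector
  have h1 : (T ^ (m + 1)) v = μ ^ (m + 1) • v := by
    have := hv.pow_apply (m + 1)
    simpa using this
  rw [hT, hv.apply_eq_smul] at h1
  have h2 : (μ - μ ^ (m + 1)) • v = 0 := by rw [sub_smul, ← h1, sub_self]
  rcases smul_eq_zero.mp h2 with h3 | h3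
  · by_cases h0 : μ = 0
    · rw [h0]; exact isIntegral_zero
    · have : μ ^ m = 1 := by
        have h4 : μ * 1 = μ * μ ^ m := by rw [mul_one, ← pow_succ']; exact sub_eq_zero.mp h3
        exact (mul_left_cancel₀ h0 h4).symm
      exact IsIntegral.of_pow hm (by rw [this]; exact isIntegral_one)
  · exact absurd h3 hv.2

theorem core (A B : End ℂ V) (p m : ℕ) (hp : p.Prime) (hm : 0 < m) (hA : A ^ p = 1)
    (hB : B ^ m = 1) (hAB : Commute A B) :
    ∃ ω : ℂ, IsIntegral ℤ ω ∧ LinearMap.trace ℂ V (A * B) - LinearMap.trace ℂ V B =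
      (1 - Complex.exp (2 * Real.pi * Complex.I / p)) * ω := by
  set ε : ℂ := Complex.exp (2 * Real.pi * Complex.I / p) with hε
  have hprim : IsPrimitiveRoot ε p := Complex.isPrimitiveRoot_exp p hp.ne_zero
  have hεp : ε ^ p = 1 := hprim.pow_eq_one
  have hε0 : ε ≠ 0 := hprim.ne_zero hp.ne_zero
  have hεint : IsIntegral ℤ ε := hprim.isIntegral hp.pos
  have hpC : (p : ℂ) ≠ 0 := Nat.cast_ne_zero.mpr hp.ne_zero
  set E : ℕ → End ℂ V := fun a => (p : ℂ)⁻¹ • ∑ j ∈ range p, ((ε ^ a)⁻¹ ^ j) • A ^ j with hE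
  have hEdef : ∀ a, E a = (p : ℂ)⁻¹ • ∑ j ∈ range p, ((ε ^ a)⁻¹ ^ j) • A ^ j := fun a => rfl
  have hεa0 : ∀ a : ℕ, ε ^ a ≠ 0 := fun a => pow_ne_zero a hε0
  -- A acts on E a as the scalar ε^a
  have hAE : ∀ a, A * E a = ε ^ a • E a := by
    intro a
    rw [hEdef, mul_smul_comm, smul_comm (ε ^ a) ((p : ℂ)⁻¹)]
    congr 1
    have hshift : ∑ j ∈ range p, ((ε ^ a)⁻¹ ^ (j + 1)) • A ^ (j + 1)
        = ∑ j ∈ range p, ((ε ^ a)⁻¹ ^ j) • A ^ j := by
      have h1 := Finset.sum_range_succ (fun j => (((ε ^ a)⁻¹ ^ j) • A ^ j : End ℂ V)) p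
      have h2 := Finset.sum_range_succ' (fun j => (((ε ^ a)⁻¹ ^ j) • A ^ j : End ℂ V)) p
      have h3 : ((ε ^ a)⁻¹ ^ p) • A ^ p = ((ε ^ a)⁻¹ ^ 0) • A ^ 0 := by
        rw [hA, inv_pow, ← pow_mul, mul_comm, pow_mul, hεp, one_pow, inv_one, pow_zero, pow_zero]
      rw [h1, h3] at h2
      exact (add_right_cancel h2).symm
    rw [Finset.mul_sum, ← hshift, Finset.smul_sum]
    refine Finset.sum_congr rfl (fun j _ => ?_)
    rw [mul_smul_comm, ← pow_succ', smul_smul]
    congr 1
    rw [pow_succ, ← mul_assoc, mul_comm (ε ^ a), mul_assoc, mul_inv_cancel₀ (hεa0 a), mul_one]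
  have hApowE : ∀ a j, A ^ j * E a = ε ^ (a * j) • E a := by
    intro a j
    induction j with
    | zero => simp
    | succ j ih =>
      rw [pow_succ, mul_assoc, hAE, mul_smul_comm, ih, smul_smul, mul_add, mul_one, pow_add,
        mul_comm]
  -- E a is idempotent
  have hEidem : ∀ a, IsIdempotentElem (E a) := by
    intro a
    show E a * E a = E a
    conv_lhs => rw [hEdef a]
    rw [smul_mul_assoc, Finset.sum_mul]
    have : ∀ j ∈ range p, ((ε ^ a)⁻¹ ^ j) • A ^ j * E a = E a := by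
      intro j _
      rw [smul_mul_assoc, hApowE, smul_smul, pow_mul, ← mul_pow, inv_mul_cancel₀ (hεa0 a),
        one_pow, one_smul]
    rw [Finset.sum_congr rfl this, Finset.sum_const, Finset.card_range, ← Nat.cast_smul_eq_nsmul ℂ,
      smul_smul, inv_mul_cancel₀ hpC, one_smul]
  -- E a commutes with B
  have hEB : ∀ a, Commute (E a) B := by
    intro a
    rw [hEdef]
    refine Commute.smul_left ?_ _
    refine Commute.sum_left _ _ _ (fun j _ => ?_)
    exact Commute.smul_left (hAB.pow_left j) _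
  -- the E a sum to 1
  have hEsum : ∑ a ∈ range p, E a = 1 := by
    simp only [hEdef]
    rw [← Finset.smul_sum, Finset.sum_comm]
    have hinner : ∀ j ∈ range p, ∑ a ∈ range p, ((ε ^ a)⁻¹ ^ j) • A ^ j
        = (if j = 0 then (p : ℂ) else 0) • A ^ j := by
      intro j hj
      rw [← Finset.sum_smul]
      congr 1
      by_cases hj0 : j = 0
      · subst hj0; simp
      · rw [if_neg hj0]
        have hjp : j < p := Finset.mem_range.mp hj
        have hcop : Nat.Coprime j p :=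
          Nat.coprime_comm.mp ((Nat.Prime.coprime_iff_not_dvd hp).2
            (Nat.not_dvd_of_pos_of_lt (Nat.pos_of_ne_zero hj0) hjp))
        have hζ : IsPrimitiveRoot ((ε⁻¹) ^ j) p := hprim.inv.pow_of_coprime j hcop
        have := hζ.geom_sum_eq_zero hp.one_lt
        rw [← this]
        refine Finset.sum_congr rfl (fun a _ => ?_)
        rw [inv_pow, inv_pow, inv_pow, ← pow_mul, ← pow_mul, mul_comm]
    rw [Finset.sum_congr rfl hinner, Finset.sum_eq_single 0]
    · simp [smul_smul, inv_mul_cancel₀ hpC]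
    · intro j _ hj0; rw [if_neg hj0, zero_smul]
    · intro h0; exact absurd (Finset.mem_range.mpr hp.pos) h0
  -- T a = E a * B has integral trace
  have hTint : ∀ a, IsIntegral ℤ (LinearMap.trace ℂ V (E a * B)) := by
    intro a
    apply isIntegral_trace_of_pow_succ_eq (E a * B) m hm
    rw [(hEB a).mul_pow, (hEidem a).pow_succ_eq, pow_succ, hB, one_mul]
  -- decomposition of traces
  have hBsum : B = ∑ a ∈ range p, E a * B := by
    rw [← Finset.sum_mul, hEsum, one_mul]
  have hABsum : A * B = ∑ a ∈ range p, ε ^ a • (E a * B) := by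
    conv_lhs => rw [hBsum]
    rw [Finset.mul_sum]
    refine Finset.sum_congr rfl (fun a _ => ?_)
    rw [← mul_assoc, hAE, smul_mul_assoc]
  have htr : LinearMap.trace ℂ V (A * B) - LinearMap.trace ℂ V B
      = ∑ a ∈ range p, (ε ^ a - 1) * LinearMap.trace ℂ V (E a * B) := by
    have h1 : LinearMap.trace ℂ V (A * B)
        = ∑ a ∈ range p, ε ^ a * LinearMap.trace ℂ V (E a * B) := by
      rw [hABsum, map_sum]
      refine Finset.sum_congr rfl (fun a _ => ?_)
      rw [map_smul, smul_eq_mul]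
    have h2 : LinearMap.trace ℂ V B = ∑ a ∈ range p, LinearMap.trace ℂ V (E a * B) := by
      have := congrArg (LinearMap.trace ℂ V) hBsum
      rw [map_sum] at this
      exact this
    rw [h1, h2, ← Finset.sum_sub_distrib]
    refine Finset.sum_congr rfl (fun a _ => ?_)
    rw [sub_mul, one_mul]
  refine ⟨∑ a ∈ range p, (-∑ i ∈ range a, ε ^ i) * LinearMap.trace ℂ V (E a * B), ?_, ?_⟩
  · refine IsIntegral.sum _ (fun a _ => ?_)
    refine IsIntegral.mul ?_ (hTint a)
    exact (IsIntegral.sum _ (fun i _ => hεint.pow i)).neg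
  · rw [htr, Finset.mul_sum]
    refine Finset.sum_congr rfl (fun a _ => ?_)
    rw [← mul_assoc, mul_neg, mul_neg_geom_sum]
    ring

end LA

theorem char_case {G : Type*} [Group G] [Finite G] (χ : G → ℂ) (hχ : Cfsg.IsCharacter G χ)
    (p : ℕ) (hp : p.Prime) (x y : G) (hx : orderOf x = p) (hxy : x * y = y * x) :
    ∃ ω : ℂ, IsIntegral ℤ ω ∧
      χ (x * y) - χ y = (1 - Complex.exp (2 * Real.pi * Complex.I / p)) * ω := by
  obtain ⟨n, ρ, rfl⟩ := hχ
  have hA : (ρ x) ^ p = 1 := by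
    rw [← map_pow, ← hx, pow_orderOf_eq_one, map_one]
  have hB : (ρ y) ^ (orderOf y) = 1 := by
    rw [← map_pow, pow_orderOf_eq_one, map_one]
  have hAB : Commute (ρ x) (ρ y) := by
    show ρ x * ρ y = ρ y * ρ x
    rw [← map_mul, ← map_mul, hxy]
  obtain ⟨ω, hω, h⟩ := core (ρ x) (ρ y) p (orderOf y) hp (orderOf_pos y) hA hB hAB
  refine ⟨ω, hω, ?_⟩
  rw [← h]
  simp only [Representation.character, map_mul]

/-- Let χ be a generalized character of the finite group G, p a prime, x an element of order p and y an element commuting with x. Then χ(x * y) − χ(y) = (1 − ε) * ω for some algebraic integer ω, where ε = exp(2πi/p). -/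
theorem result {G : Type*} [Group G] [Finite G] (χ : G → ℂ) (hχ : Cfsg.IsGeneralizedCharacter G χ) (p : ℕ) (hp : p.Prime) (x y : G) (hx : orderOf x = p) (hxy : x * y = y * x) : ∃ ω : ℂ, IsIntegral ℤ ω ∧ χ (x * y) - χ y = (1 - Complex.exp (2 * Real.pi * Complex.I / p)) * ω := by
  obtain ⟨χ₁, χ₂, h₁, h₂, rfl⟩ := hχ
  obtain ⟨ω₁, hω₁, e₁⟩ := char_case χ₁ h₁ p hp x y hx hxy
  obtain ⟨ω₂, hω₂, e₂⟩ := char_case χ₂ h₂ p hp x y hx hxy
  refine ⟨ω₁ - ω₂, hω₁.sub hω₂, ?_⟩
  simp only [Pi.sub_apply]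
  rw [mul_sub, ← e₁, ← e₂]
  ring

end Cfsg.Agent.S1494
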