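import Cfsg.Statements.S1495
import Mathlib
-- import your own Cfsg.Agent.* helpers here

set_option autoImplicit false
open Cfsg

namespace Cfsg.Agent.S1495

/-- Let p be a prime, ε = exp(2πi/p), and n an integer such that n = (1 − ε) * ω for some algebraic integer ω. Then p divides n. -/
theorem result (p : ℕ) (hp : p.Prime) (n : ℤ) (ω : ℂ) (hω : IsIntegral ℤ ω) (h : (n : ℂ) = (1 - Complex.exp (2 * Real.pi * Complex.I / p)) * ω) : (p : ℤ) ∣ n := by
  classical
  set ε : ℂ := Complex.exp (2 * Real.pi * Complex.I / p) with hε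
  have hprim : IsPrimitiveRoot ε p := Complex.isPrimitiveRoot_exp p hp.ne_zero
  have hεint : IsIntegral ℤ ε := hprim.isIntegral hp.pos
  have key : ∀ k ∈ Finset.range (p - 1), ∃ w : ℂ, IsIntegral ℤ w ∧ (n : ℂ) = (1 - ε ^ (k + 1)) * w := by
    intro k hk
    have hk' : k + 1 < p := by have := Finset.mem_range.mp hk; omega
    have hcop : Nat.Coprime (k + 1) p :=
      (Nat.coprime_comm.mp ((Nat.Prime.coprime_iff_not_dvd hp).2 (Nat.not_dvd_of_pos_of_lt (Nat.succ_pos k) hk')))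
    obtain ⟨j, -, hj⟩ := Nat.exists_mul_mod_eq_one_of_coprime hcop hp.one_lt
    refine ⟨(∑ i ∈ Finset.range j, (ε ^ (k + 1)) ^ i) * ω, ?_, ?_⟩
    · exact (IsIntegral.sum _ (fun i _ => (hεint.pow _).pow _)).mul hω
    · rw [← mul_assoc, mul_neg_geom_sum, ← pow_mul]
      have : ε ^ ((k + 1) * j) = ε := by
        conv_lhs => rw [← Nat.div_add_mod ((k + 1) * j) p, hj, pow_add, pow_mul, hprim.pow_eq_one, one_pow, one_mul, pow_one]
      rw [this]; exact h
  choose! w hw using key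
  have hprod : (n : ℂ) ^ (p - 1) = (p : ℂ) * ∏ k ∈ Finset.range (p - 1), w k := by
    have h1 : ∏ k ∈ Finset.range (p - 1), (n : ℂ) = ∏ k ∈ Finset.range (p - 1), ((1 - ε ^ (k + 1)) * w k) :=
      Finset.prod_congr rfl (fun k hk => (hw k hk).2)
    rw [Finset.prod_const, Finset.card_range, Finset.prod_mul_distrib] at h1
    have h2 : IsPrimitiveRoot ε ((p - 1) + 1) := by rwa [Nat.sub_add_cancel hp.pos]
    rw [h2.prod_one_sub_pow_eq_order] at h1
    rw [h1, ← Nat.cast_add_one, Nat.sub_add_cancel hp.pos]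
  have hWint : IsIntegral ℤ (∏ k ∈ Finset.range (p - 1), w k) :=
    IsIntegral.prod _ (fun k hk => (hw k hk).1)
  have hp0 : (p : ℂ) ≠ 0 := Nat.cast_ne_zero.mpr hp.ne_zero
  have hW : (∏ k ∈ Finset.range (p - 1), w k) = algebraMap ℚ ℂ ((n : ℚ) ^ (p - 1) / (p : ℚ)) := by
    rw [eq_comm]
    simp only [map_div₀, map_pow, map_intCast, map_natCast]
    rw [hprod]; field_simp
  rw [hW] at hWint
  have hQint : IsIntegral ℤ ((n : ℚ) ^ (p - 1) / (p : ℚ)) :=
    (isIntegral_algebraMap_iff (algebraMap ℚ ℂ).injective).mp hWint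
  obtain ⟨m, hm⟩ := IsIntegrallyClosed.isIntegral_iff.1 hQint
  have hpQ : (p : ℚ) ≠ 0 := Nat.cast_ne_zero.mpr hp.ne_zero
  have hm' : (n : ℚ) ^ (p - 1) = (m : ℚ) * (p : ℚ) := by
    rw [eq_div_iff hpQ] at hm
    simpa using hm.symm
  have hm'' : n ^ (p - 1) = m * (p : ℤ) := by exact_mod_cast hm'
  have hdvd : (p : ℤ) ∣ n ^ (p - 1) := ⟨m, by rw [hm'', mul_comm]⟩
  exact (Nat.prime_iff_prime_int.mp hp).dvd_of_dvd_pow hdvd

end Cfsg.Agent.S1495
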