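import Cfsg.Statements.S1499
import Cfsg.Agent.Lib.helper32.Dade

set_option autoImplicit false
open Cfsg

namespace Cfsg.Agent.S1499

open Cfsg.Agent.Lib.helper32 in
/-- Under the Dade hypothesis for (A, L, H), let a, b ∈ A. If an element of the coset a·H(a) is conjugate in G to an element of b·H(b), then a and b are conjugate by an element of L. Moreover the set normaliser of the coset a·H(a) is the centraliser of a. -/
theorem result {G : Type*} [Group G] [Finite G] (A : Set G) (L : Subgroup G) (H : G → Subgroup G) (hD : Cfsg.DadeHypothesis A L H) (a b : G) (ha : a ∈ A) (hb : b ∈ A) : ((∃ u ∈ H a, ∃ v ∈ H b, ∃ g : G, g * (a * u) * g⁻¹ = b * v) → ∃ x ∈ L, x * a * x⁻¹ = b) ∧ Subgroup.normalizer ((fun u : G => a * u) '' (H a : Set G)) = Subgroup.centralizer ({a} : Set G) := by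
  refine ⟨?_, ?_⟩
  · rintro ⟨u, hu, v, hv, g, hg⟩
    have hgab := dade_conj_eq_of_coset_conj A L H hD a b ha hb u v g hu hv hg
    obtain ⟨x, hx, hxa⟩ := hD.fusion a ha g (by rw [hgab]; exact hb)
    exact ⟨x, hx, by rw [hxa, hgab]⟩
  · apply le_antisymm
    · intro g hg
      rw [Subgroup.mem_set_normalizer_iff] at hg
      have h1 : a ∈ (fun u : G => a * u) '' (H a : Set G) := ⟨1, (H a).one_mem, by simp⟩
      obtain ⟨u', hu', hu'eq⟩ := (hg a).mp h1
      have hgaa := dade_conj_eq_of_coset_conj A L H hD a a ha ha 1 u' g (H a).one_mem hu'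
        (by rw [mul_one]; exact hu'eq.symm)
      rw [mem_centralizer_singleton]
      calc g * a = g * a * g⁻¹ * g := by simp
        _ = a * g := by rw [hgaa]
    · intro c hc
      have hc' := (mem_centralizer_singleton a c).mp hc
      have hcinv : c⁻¹ ∈ Subgroup.centralizer ({a} : Set G) := inv_mem hc
      have hcinv' := (mem_centralizer_singleton a c⁻¹).mp hcinv
      rw [Subgroup.mem_set_normalizer_iff]
      intro n
      constructor
      · rintro ⟨u, hu, rfl⟩
        refine ⟨c * u * c⁻¹, hD.conj_mem_H a ha c hc u hu, ?_⟩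
        show a * (c * u * c⁻¹) = c * (a * u) * c⁻¹
        rw [← mul_assoc, ← mul_assoc, ← hc', mul_assoc c a u]
      · rintro ⟨u, hu, hueq⟩
        refine ⟨c⁻¹ * u * c⁻¹⁻¹, hD.conj_mem_H a ha c⁻¹ hcinv u hu, ?_⟩
        show a * (c⁻¹ * u * c⁻¹⁻¹) = n
        have hueq' : a * u = c * n * c⁻¹ := hueq
        rw [← mul_assoc, ← mul_assoc, ← hcinv', mul_assoc c⁻¹ a u, hueq']
        simp [mul_assoc]

end Cfsg.Agent.S1499
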