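import Cfsg.Statements.S1502
import Mathlib
import Cfsg.Agent.Lib.helper32.CyclicTI5

set_option autoImplicit false
open Cfsg

namespace Cfsg.Agent.S1502

open Cfsg.Agent.Lib.helper32

/-- Let W₁, W₂ be nontrivial subgroups of the finite group G generating a cyclic subgroup W = W₁ ⊔ W₂ of odd order that is the normaliser of every nonempty set of its elements outside W₁ ∪ W₂. Then there is a family attaching to each linear character ω of W an irreducible character of G up to sign, orthonormal, sending the trivial character to the principal character, with χ ω = ω on W outside W₁ ∪ W₂, and such that inducing (1 − φ)(1 − ψ) to G gives 1 − χ φ − χ ψ + χ (φψ) whenever φ ≠ 1 is trivial on W₂ and ψ ≠ 1 is trivial on W₁. -/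
theorem result {G : Type*} [Group G] [Fintype G] (W₁ W₂ : Subgroup G) (hW : Cfsg.IsSelfNormalizingCyclic W₁ W₂) (hodd : Odd (Nat.card ↥(W₁ ⊔ W₂))) : ∃ χ : (↥(W₁ ⊔ W₂) →* ℂˣ) → (G → ℂ), Cfsg.IsCyclicTIFamily W₁ W₂ χ := by
  classical
  have hW' := hW
  obtain ⟨hne1, hne2, hdisj, hcomm, hcyc, hN⟩ := hW
  have : Fintype (Cfsg.IrrCharacter G) := Fintype.ofFinite _
  obtain ⟨β, hgram, hβone, hβ⟩ := exists_tiGrid W₁ W₂ hW'
  obtain ⟨hI, hJ, hbig⟩ := tiIdx_sizes W₁ W₂ hW' hodd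
  have hdec := hgram.decomp hI hJ hbig
  have := hI.nonempty
  have := hJ.nonempty
  obtain ⟨Λ, σ, hΛinj, hσ, hΛ1, hσ1, hsum⟩ := exists_signed_family β hdec
    ⟨fun _ => 1, Cfsg.Agent.Lib.helper4.isIrrCharacter_one⟩ hβone
  have hencinj : Function.Injective (tiEnc W₁ W₂ hdisj hcomm) := tiEnc_injective W₁ W₂ hdisj hcomm
  obtain ⟨χ, hχ⟩ : ∃ χ : (↥(W₁ ⊔ W₂) →* ℂˣ) → (G → ℂ), ∀ ω, χ ω =
      (σ (tiEnc W₁ W₂ hdisj hcomm ω) : ℂ) • (Λ (tiEnc W₁ W₂ hdisj hcomm ω) : G → ℂ) :=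
    ⟨fun ω => (σ (tiEnc W₁ W₂ hdisj hcomm ω) : ℂ) • (Λ (tiEnc W₁ W₂ hdisj hcomm ω) : G → ℂ),
      fun ω => rfl⟩
  have hσσ : ∀ p, (σ p : ℂ) * (starRingEnd ℂ) (σ p : ℂ) = 1 := by
    intro p
    rw [show (starRingEnd ℂ) (σ p : ℂ) = (σ p : ℂ) from map_intCast _ _]
    rcases hσ p with h | h <;> rw [h] <;> norm_num
  have horth1 : ∀ ω, Cfsg.classInner (χ ω) (χ ω) = 1 := by
    intro ω
    rw [hχ, Cfsg.Agent.Lib.helper4.classInner_smul_left,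
      Cfsg.Agent.Lib.helper4.classInner_smul_right,
      Cfsg.Agent.Lib.helper4.classInner_irr_self (Λ (tiEnc W₁ W₂ hdisj hcomm ω)).2, mul_one, hσσ]
  have horth0 : ∀ ω ω', ω ≠ ω' → Cfsg.classInner (χ ω) (χ ω') = 0 := by
    intro ω ω' hne
    rw [hχ, hχ, Cfsg.Agent.Lib.helper4.classInner_smul_left,
      Cfsg.Agent.Lib.helper4.classInner_smul_right,
      Cfsg.Agent.Lib.helper4.classInner_irr_ne (Λ (tiEnc W₁ W₂ hdisj hcomm ω)).2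
        (Λ (tiEnc W₁ W₂ hdisj hcomm ω')).2
        (fun h => hne (hencinj (hΛinj (Subtype.ext h)))), mul_zero, mul_zero]
  have hone : χ 1 = fun _ => 1 := by
    rw [hχ, tiEnc_one, hΛ1, hσ1]
    funext g
    simp
  have hind : ∀ φ ψ : ↥(W₁ ⊔ W₂) →* ℂˣ, φ ≠ 1 → ψ ≠ 1 →
      (∀ w : ↥(W₁ ⊔ W₂), (w : G) ∈ W₂ → φ w = 1) → (∀ w : ↥(W₁ ⊔ W₂), (w : G) ∈ W₁ → ψ w = 1) →
      Cfsg.indFun (W₁ ⊔ W₂) (fun w => 1 - (φ w : ℂ) - (ψ w : ℂ) + (φ w : ℂ) * (ψ w : ℂ)) =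
        fun g => 1 - χ φ g - χ ψ g + χ (φ * ψ) g := by
    intro φ ψ hφ hψ hφ₂ hψ₁
    have e1 : tiEnc W₁ W₂ hdisj hcomm φ = (some ⟨φ, hφ, hφ₂⟩, none) :=
      tiEnc_left W₁ W₂ hdisj hcomm ⟨φ, hφ, hφ₂⟩
    have e2 : tiEnc W₁ W₂ hdisj hcomm ψ = (none, some ⟨ψ, hψ, hψ₁⟩) :=
      tiEnc_right W₁ W₂ hdisj hcomm ⟨ψ, hψ, hψ₁⟩
    have e3 : tiEnc W₁ W₂ hdisj hcomm (φ * ψ) = (some ⟨φ, hφ, hφ₂⟩, some ⟨ψ, hψ, hψ₁⟩) :=
      tiEnc_mul W₁ W₂ hdisj hcomm ⟨φ, hφ, hφ₂⟩ ⟨ψ, hψ, hψ₁⟩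
    have h1 := hβ ⟨φ, hφ, hφ₂⟩ ⟨ψ, hψ, hψ₁⟩
    rw [hsum] at h1
    refine h1.trans ?_
    funext g
    simp only [hχ, e1, e2, e3, Pi.add_apply, Pi.smul_apply, smul_eq_mul]
    ring
  have hcf : ∀ ω, Cfsg.IsClassFunction G (χ ω) := by
    intro ω g h
    rw [hχ]
    simp only [Pi.smul_apply]
    rw [Cfsg.Agent.Lib.helper4.isClassFunction_of_isIrrCharacter
      (Λ (tiEnc W₁ W₂ hdisj hcomm ω)).2 g h]
  refine ⟨χ, ⟨?_, ?_, hone, ?_, hind⟩⟩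
  · intro ω
    rcases hσ (tiEnc W₁ W₂ hdisj hcomm ω) with h | h
    · left
      rw [hχ, h, Int.cast_one, one_smul]
      exact (Λ (tiEnc W₁ W₂ hdisj hcomm ω)).2
    · right
      rw [hχ, h]
      have e : -((((-1 : ℤ) : ℂ)) • (Λ (tiEnc W₁ W₂ hdisj hcomm ω) : G → ℂ)) =
          (Λ (tiEnc W₁ W₂ hdisj hcomm ω) : G → ℂ) := by
        funext g
        simp
      rw [e]
      exact (Λ (tiEnc W₁ W₂ hdisj hcomm ω)).2
  · intro ω ω'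
    by_cases h : ω = ω'
    · rw [if_pos h, h]
      exact horth1 ω'
    · rw [if_neg h]
      exact horth0 ω ω' h
  · exact cyclicTI_eq_on W₁ W₂ hdisj hcomm hcyc χ hcf horth1 horth0 hone hind

end Cfsg.Agent.S1502
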