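import Cfsg.Statements.S1503
import Mathlib
import Cfsg.Agent.Lib.helper4.Induction
import Cfsg.Agent.Lib.helper32.CyclicTI3

set_option autoImplicit false
open Cfsg

namespace Cfsg.Agent.S1503

open Cfsg.Agent.Lib.helper32

open scoped ComplexConjugate

/-- Let W₁, W₂ ≤ G with W = W₁ ⊔ W₂ and let χ an orthonormal family of irreducible characters of G up to sign, indexed by the linear characters ω of W, with χ_1 = 1, χ_ω = ω on W outside W₁ ∪ W₂, and the induction identity for (1 − φ)(1 − ψ). If θ is an irreducible character of G orthogonal to χ ω for every linear character ω of W, then θ vanishes at every element of W lying outside W₁ ∪ W₂. -/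
theorem result {G : Type*} [Group G] [Fintype G] (W₁ W₂ : Subgroup G) (hW : Cfsg.IsSelfNormalizingCyclic W₁ W₂) (χ : (↥(W₁ ⊔ W₂) →* ℂˣ) → (G → ℂ)) (hχ : Cfsg.IsCyclicTIFamily W₁ W₂ χ) (θ : G → ℂ) (hθ : Cfsg.IsIrrCharacter G θ) (horth : ∀ ω, Cfsg.classInner θ (χ ω) = 0) (w : ↥(W₁ ⊔ W₂)) (hw₁ : (w : G) ∉ W₁) (hw₂ : (w : G) ∉ W₂) : θ w = 0 := by
  classical
  have hW' := hW
  obtain ⟨hne1, hne2, hdisj, hcomm, hcyc, hN⟩ := hW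
  have hθc : Cfsg.IsClassFunction G θ := Cfsg.Agent.Lib.helper4.isClassFunction_of_isIrrCharacter hθ
  have hab : ∀ a ∈ W₁ ⊔ W₂, ∀ b ∈ W₁ ⊔ W₂, a * b = b * a :=
    fun a ha b hb => comm_of_isCyclic_sup W₁ W₂ hcyc a b ha hb
  have hfin : Finite (↥(W₁ ⊔ W₂) →* ℂˣ) := finite_monoidHom_units_of_comm _ hab
  have hft : Fintype (↥(W₁ ⊔ W₂) →* ℂˣ) := Fintype.ofFinite _
  have hft' : Fintype ↥(W₁ ⊔ W₂) := Fintype.ofFinite _
  have hWc : (Nat.card ↥(W₁ ⊔ W₂) : ℂ) ≠ 0 := by exact_mod_cast Nat.card_pos.ne'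
  have step1 : ∀ φ ψ : ↥(W₁ ⊔ W₂) →* ℂˣ, (∀ w : ↥(W₁ ⊔ W₂), (w : G) ∈ W₂ → φ w = 1) →
      (∀ w : ↥(W₁ ⊔ W₂), (w : G) ∈ W₁ → ψ w = 1) →
      ∑ v : ↥(W₁ ⊔ W₂), (1 - (φ v : ℂ) - (ψ v : ℂ) + (φ v : ℂ) * (ψ v : ℂ)) * conj (θ v) = 0 := by
    intro φ ψ hφ₂ hψ₁
    by_cases hφ : φ = 1
    · subst hφ
      apply Finset.sum_eq_zero
      intro v _
      simp
    by_cases hψ : ψ = 1
    · subst hψ
      apply Finset.sum_eq_zero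
      intro v _
      simp
    have h0 : Cfsg.classInner θ (Cfsg.indFun (W₁ ⊔ W₂)
        (fun w => 1 - (φ w : ℂ) - (ψ w : ℂ) + (φ w : ℂ) * (ψ w : ℂ))) = 0 := by
      rw [hχ.induced_eq φ ψ hφ hψ hφ₂ hψ₁]
      have h1 : (fun g => 1 - χ φ g - χ ψ g + χ (φ * ψ) g) = χ 1 - χ φ - χ ψ + χ (φ * ψ) := by
        funext g
        simp only [Pi.add_apply, Pi.sub_apply, hχ.map_one]
      rw [h1, classInner_add_right, classInner_sub_right, classInner_sub_right, horth, horth,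
        horth, horth]
      ring
    have h1 : Cfsg.classInner (Cfsg.indFun (W₁ ⊔ W₂)
        (fun w => 1 - (φ w : ℂ) - (ψ w : ℂ) + (φ w : ℂ) * (ψ w : ℂ))) θ = 0 := by
      rw [classInner_conj_symm, h0]; simp
    rw [Cfsg.Agent.Lib.helper4.frobenius_reciprocity _ _ hθc] at h1
    unfold Cfsg.classInner at h1
    rcases mul_eq_zero.mp h1 with h2 | h2
    · exact absurd (inv_eq_zero.mp h2) hWc
    · exact h2
  set q₁ : ↥(W₁ ⊔ W₂) →* ↥(W₁ ⊔ W₂) :=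
    (Subgroup.inclusion le_sup_left).comp (supProj₁ W₁ W₂ hdisj hcomm) with hq₁
  set q₂ : ↥(W₁ ⊔ W₂) →* ↥(W₁ ⊔ W₂) :=
    (Subgroup.inclusion le_sup_right).comp (supProj₂ W₁ W₂ hdisj hcomm) with hq₂
  have hq : ∀ v : ↥(W₁ ⊔ W₂), q₁ v * q₂ v = v :=
    fun v => Subtype.ext (supProj_mul W₁ W₂ hdisj hcomm v)
  have hq₁w : q₁ w ≠ 1 := by
    intro h
    apply hw₂
    have h' := hq w
    rw [h, one_mul] at h'
    rw [← h']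
    exact (supProj₂ W₁ W₂ hdisj hcomm w).2
  have hq₂w : q₂ w ≠ 1 := by
    intro h
    apply hw₁
    have h' := hq w
    rw [h, mul_one] at h'
    rw [← h']
    exact (supProj₁ W₁ W₂ hdisj hcomm w).2
  have hφl : ∀ (l : ↥(W₁ ⊔ W₂) →* ℂˣ) (v : ↥(W₁ ⊔ W₂)),
      charPart₁ W₁ W₂ hdisj hcomm l v = l (q₁ v) := fun _ _ => rfl
  have hψm : ∀ (m : ↥(W₁ ⊔ W₂) →* ℂˣ) (v : ↥(W₁ ⊔ W₂)),
      charPart₂ W₁ W₂ hdisj hcomm m v = m (q₂ v) := fun _ _ => rfl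
  have hAB : ∀ (q : ↥(W₁ ⊔ W₂) →* ↥(W₁ ⊔ W₂)), q w ≠ 1 → ∀ v : ↥(W₁ ⊔ W₂),
      ∑ l : ↥(W₁ ⊔ W₂) →* ℂˣ, conj ((l (q w) : ℂˣ) : ℂ) * (1 - ((l (q v) : ℂˣ) : ℂ)) =
        if q v = q w then -(Nat.card ↥(W₁ ⊔ W₂) : ℂ) else 0 := by
    intro q hqw v
    have e : ∀ l : ↥(W₁ ⊔ W₂) →* ℂˣ, conj ((l (q w) : ℂˣ) : ℂ) * (1 - ((l (q v) : ℂˣ) : ℂ)) =
        ((l ((q w)⁻¹) : ℂˣ) : ℂ) - ((l ((q w)⁻¹ * q v) : ℂˣ) : ℂ) := by
      intro l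
      rw [conj_units_hom, map_mul, map_inv, Units.val_mul]
      ring
    rw [Finset.sum_congr rfl (fun l _ => e l), Finset.sum_sub_distrib,
      sum_monoidHom_units_apply _ hab, sum_monoidHom_units_apply _ hab,
      if_neg (by simpa using hqw)]
    by_cases h : q v = q w
    · rw [if_pos h, if_pos (by rw [h]; simp)]; ring
    · rw [if_neg h, if_neg (fun h' => h (by rw [inv_mul_eq_one] at h'; exact h'.symm))]; ring
  have hsum : ∑ v : ↥(W₁ ⊔ W₂),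
      (∑ l : ↥(W₁ ⊔ W₂) →* ℂˣ, conj ((l (q₁ w) : ℂˣ) : ℂ) * (1 - ((l (q₁ v) : ℂˣ) : ℂ))) *
      (∑ m : ↥(W₁ ⊔ W₂) →* ℂˣ, conj ((m (q₂ w) : ℂˣ) : ℂ) * (1 - ((m (q₂ v) : ℂˣ) : ℂ))) *
      conj (θ v) = 0 := by
    have e : ∀ v : ↥(W₁ ⊔ W₂),
        (∑ l : ↥(W₁ ⊔ W₂) →* ℂˣ, conj ((l (q₁ w) : ℂˣ) : ℂ) * (1 - ((l (q₁ v) : ℂˣ) : ℂ))) *
        (∑ m : ↥(W₁ ⊔ W₂) →* ℂˣ, conj ((m (q₂ w) : ℂˣ) : ℂ) * (1 - ((m (q₂ v) : ℂˣ) : ℂ))) *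
        conj (θ v) =
        ∑ l : ↥(W₁ ⊔ W₂) →* ℂˣ, ∑ m : ↥(W₁ ⊔ W₂) →* ℂˣ,
          conj ((l (q₁ w) : ℂˣ) : ℂ) * conj ((m (q₂ w) : ℂˣ) : ℂ) *
          ((1 - ((charPart₁ W₁ W₂ hdisj hcomm l v : ℂˣ) : ℂ)
            - ((charPart₂ W₁ W₂ hdisj hcomm m v : ℂˣ) : ℂ)
            + ((charPart₁ W₁ W₂ hdisj hcomm l v : ℂˣ) : ℂ) *
              ((charPart₂ W₁ W₂ hdisj hcomm m v : ℂˣ) : ℂ)) * conj (θ v)) := by
      intro v
      rw [Finset.sum_mul_sum, Finset.sum_mul]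
      apply Finset.sum_congr rfl
      intro l _
      rw [Finset.sum_mul]
      apply Finset.sum_congr rfl
      intro m _
      rw [hφl, hψm]
      ring
    rw [Finset.sum_congr rfl (fun v _ => e v), Finset.sum_comm]
    apply Finset.sum_eq_zero
    intro l _
    rw [Finset.sum_comm]
    apply Finset.sum_eq_zero
    intro m _
    rw [← Finset.mul_sum, step1 _ _ (charPart₁_of_mem₂ W₁ W₂ hdisj hcomm l)
      (charPart₂_of_mem₁ W₁ W₂ hdisj hcomm m), mul_zero]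
  have hsum2 : ∑ v : ↥(W₁ ⊔ W₂),
      (∑ l : ↥(W₁ ⊔ W₂) →* ℂˣ, conj ((l (q₁ w) : ℂˣ) : ℂ) * (1 - ((l (q₁ v) : ℂˣ) : ℂ))) *
      (∑ m : ↥(W₁ ⊔ W₂) →* ℂˣ, conj ((m (q₂ w) : ℂˣ) : ℂ) * (1 - ((m (q₂ v) : ℂˣ) : ℂ))) *
      conj (θ v) = (Nat.card ↥(W₁ ⊔ W₂) : ℂ) ^ 2 * conj (θ w) := by
    rw [Finset.sum_eq_single w]
    · rw [hAB q₁ hq₁w w, hAB q₂ hq₂w w, if_pos rfl, if_pos rfl]; ring
    · intro v _ hv
      rw [hAB q₁ hq₁w v, hAB q₂ hq₂w v]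
      by_cases h1 : q₁ v = q₁ w
      · by_cases h2 : q₂ v = q₂ w
        · exfalso
          apply hv
          rw [← hq v, ← hq w, h1, h2]
        · rw [if_neg h2]; ring
      · rw [if_neg h1]; ring
    · intro h
      exact absurd (Finset.mem_univ _) h
  rw [hsum2] at hsum
  rcases mul_eq_zero.mp hsum with h | h
  · exact absurd (pow_eq_zero_iff (two_ne_zero) |>.mp h) hWc
  · exact (map_eq_zero _).mp h

end Cfsg.Agent.S1503
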