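import Cfsg.Statements.S1504
import Mathlib
import Cfsg.Agent.Lib.helper32.CyclicTI

set_option autoImplicit false
open Cfsg

namespace Cfsg.Agent.S1504

open Cfsg.Agent.Lib.helper32

theorem linearIndependent_unitsHom (W : Type*) [Group W] :
    LinearIndependent ℂ (fun (ω : W →* ℂˣ) (w : W) => ((ω w : ℂˣ) : ℂ)) := by
  have h := linearIndependent_monoidHom W ℂ
  have hinj : Function.Injective (fun ω : W →* ℂˣ => (Units.coeHom ℂ).comp ω) := by
    intro ω ω' h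
    ext w
    have := DFunLike.congr_fun h w
    simpa using this
  have h2 : LinearIndependent ℂ ((fun f : W →* ℂ => (f : W → ℂ)) ∘
      fun ω : W →* ℂˣ => (Units.coeHom ℂ).comp ω) := h.comp _ hinj
  exact h2

/-- Let W₁, W₂ be subgroups of a finite group with W₁ ⊓ W₂ = ⊥ whose elements commute, and W = W₁ ⊔ W₂. For linear characters φ, ψ of W with φ trivial on W₂ and ψ trivial on W₁, the function (1 − φ)(1 − ψ) vanishes on W₁ ∪ W₂; and the family of these functions, indexed by pairs (φ, ψ) with φ ≠ 1 ≠ ψ, is linearly independent over ℂ. -/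
theorem result {G : Type*} [Group G] [Finite G] (W₁ W₂ : Subgroup G) (hdisj : W₁ ⊓ W₂ = ⊥) (hcomm : ∀ a ∈ W₁, ∀ b ∈ W₂, a * b = b * a) : (∀ φ ψ : ↥(W₁ ⊔ W₂) →* ℂˣ, (∀ w : ↥(W₁ ⊔ W₂), (w : G) ∈ W₂ → φ w = 1) → (∀ w : ↥(W₁ ⊔ W₂), (w : G) ∈ W₁ → ψ w = 1) → ∀ w : ↥(W₁ ⊔ W₂), ((w : G) ∈ W₁ ∨ (w : G) ∈ W₂) → (1 - (φ w : ℂ) - (ψ w : ℂ) + (φ w : ℂ) * (ψ w : ℂ)) = 0) ∧ LinearIndependent ℂ (fun p : {p : (↥(W₁ ⊔ W₂) →* ℂˣ) × (↥(W₁ ⊔ W₂) →* ℂˣ) // p.1 ≠ 1 ∧ p.2 ≠ 1 ∧ (∀ w : ↥(W₁ ⊔ W₂), (w : G) ∈ W₂ → p.1 w = 1) ∧ (∀ w : ↥(W₁ ⊔ W₂), (w : G) ∈ W₁ → p.2 w = 1)} => fun w : ↥(W₁ ⊔ W₂) => 1 - (p.1.1 w : ℂ) - (p.1.2 w : ℂ) + (p.1.1 w : ℂ) * (p.1.2 w : ℂ)) := by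
  classical
  refine ⟨fun φ ψ hφ hψ w hw => cyclicTI_alpha_eq_zero W₁ W₂ φ ψ hφ hψ w hw, ?_⟩
  set P := {p : (↥(W₁ ⊔ W₂) →* ℂˣ) × (↥(W₁ ⊔ W₂) →* ℂˣ) // p.1 ≠ 1 ∧ p.2 ≠ 1 ∧ (∀ w : ↥(W₁ ⊔ W₂), (w : G) ∈ W₂ → p.1 w = 1) ∧ (∀ w : ↥(W₁ ⊔ W₂), (w : G) ∈ W₁ → p.2 w = 1)} with hP
  let e : (↥(W₁ ⊔ W₂) →* ℂˣ) → (↥(W₁ ⊔ W₂) → ℂ) := fun ω w => ((ω w : ℂˣ) : ℂ)
  have he : LinearIndependent ℂ e := linearIndependent_unitsHom _
  let u : P → ((↥(W₁ ⊔ W₂) →* ℂˣ) →₀ ℂ) := fun p =>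
    Finsupp.single 1 1 - Finsupp.single p.1.1 1 - Finsupp.single p.1.2 1
      + Finsupp.single (p.1.1 * p.1.2) 1
  -- facts
  have f1 : ∀ q : P, (1 : ↥(W₁ ⊔ W₂) →* ℂˣ) ≠ q.1.1 * q.1.2 := by
    intro q h
    apply q.2.1
    apply hom_eq_one_of_sup
    · intro w hw
      have := DFunLike.congr_fun h w
      rw [MonoidHom.mul_apply, q.2.2.2.2 w hw, mul_one] at this
      rw [← this]; rfl
    · exact q.2.2.2.1
  have f2 : ∀ p q : P, p.1.1 ≠ q.1.1 * q.1.2 := by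
    intro p q h
    apply q.2.2.1
    apply hom_eq_one_of_sup
    · exact q.2.2.2.2
    · intro w hw
      have := DFunLike.congr_fun h w
      rw [MonoidHom.mul_apply, q.2.2.2.1 w hw, p.2.2.2.1 w hw, one_mul] at this
      exact this.symm
  have f3 : ∀ p q : P, p.1.2 ≠ q.1.1 * q.1.2 := by
    intro p q h
    apply q.2.1
    apply hom_eq_one_of_sup
    · intro w hw
      have := DFunLike.congr_fun h w
      rw [MonoidHom.mul_apply, q.2.2.2.2 w hw, p.2.2.2.2 w hw, mul_one] at this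
      exact this.symm
    · exact q.2.2.2.1
  have f4 : ∀ p q : P, p.1.1 * p.1.2 = q.1.1 * q.1.2 → p = q := by
    intro p q h
    apply Subtype.ext
    apply Prod.ext
    · apply hom_ext_of_sup
      · intro w hw
        have := DFunLike.congr_fun h w
        rw [MonoidHom.mul_apply, MonoidHom.mul_apply, q.2.2.2.2 w hw, p.2.2.2.2 w hw, mul_one,
          mul_one] at this
        exact this
      · intro w hw
        rw [p.2.2.2.1 w hw, q.2.2.2.1 w hw]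
    · apply hom_ext_of_sup
      · intro w hw
        rw [p.2.2.2.2 w hw, q.2.2.2.2 w hw]
      · intro w hw
        have := DFunLike.congr_fun h w
        rw [MonoidHom.mul_apply, MonoidHom.mul_apply, q.2.2.2.1 w hw, p.2.2.2.1 w hw, one_mul,
          one_mul] at this
        exact this
  have hu : LinearIndependent ℂ u := by
    rw [linearIndependent_iff']
    intro s c hsum q hq
    have h2 := DFunLike.congr_fun hsum (q.1.1 * q.1.2)
    rw [Finsupp.finsetSum_apply] at h2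
    have h3 : ∀ p ∈ s, (c p • u p) (q.1.1 * q.1.2) = if p = q then c p else 0 := by
      intro p _
      simp only [u, Finsupp.smul_apply, Finsupp.add_apply, Finsupp.sub_apply, smul_eq_mul]
      rw [Finsupp.single_eq_of_ne (f1 q).symm, Finsupp.single_eq_of_ne (f2 p q).symm,
        Finsupp.single_eq_of_ne (f3 p q).symm]
      by_cases hpq : p = q
      · subst hpq
        simp
      · rw [if_neg hpq, Finsupp.single_eq_of_ne]
        · simp
        · intro h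
          exact hpq (f4 p q h.symm)
    rw [Finset.sum_congr rfl h3, Finset.sum_ite_eq' s q, if_pos hq] at h2
    simpa using h2
  have hmap : LinearIndependent ℂ (fun p : P => Finsupp.linearCombination ℂ e (u p)) :=
    hu.map' (Finsupp.linearCombination ℂ e) (LinearMap.ker_eq_bot.mpr he)
  have heq : (fun p : P => fun w : ↥(W₁ ⊔ W₂) => 1 - (p.1.1 w : ℂ) - (p.1.2 w : ℂ) + (p.1.1 w : ℂ) * (p.1.2 w : ℂ))
      = fun p : P => Finsupp.linearCombination ℂ e (u p) := by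
    funext p
    simp only [u, map_add, map_sub, Finsupp.linearCombination_single, one_smul]
    funext w
    simp [e]
  rw [heq]
  exact hmap

end Cfsg.Agent.S1504
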