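import Cfsg.Statements.S1507
import Mathlib
import Cfsg.Agent.Lib.helper32.CyclicTI2

set_option autoImplicit false
open Cfsg

namespace Cfsg.Agent.S1507

theorem card_ne_ne_ge {B : Type*} [Finite B] (j₁ j₂ : B) :
    Nat.card B - 2 ≤ Nat.card {j : B // j ≠ j₁ ∧ j ≠ j₂} := by
  classical
  have : Fintype B := Fintype.ofFinite B
  rw [Nat.card_eq_fintype_card, Nat.card_eq_fintype_card, Fintype.card_subtype]
  have h1 : (Finset.univ.filter (fun j : B => j ≠ j₁ ∧ j ≠ j₂)) = Finset.univ \ {j₁, j₂} := by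
    ext j
    simp
  rw [h1]
  have h2 := Finset.le_card_sdiff ({j₁, j₂} : Finset B) Finset.univ
  have h3 : ({j₁, j₂} : Finset B).card ≤ 2 := Finset.card_le_two
  rw [Finset.card_univ] at h2
  omega

open Classical in
theorem comb {A B : Type*} [Finite A] [Finite B] (x : A → ℂ) (y : B → ℂ)
    (hB : Nat.card A + 2 ≤ Nat.card B)
    (hfew : Nat.card {p : A × B // x p.1 + y p.2 ≠ 0} < 2 * Nat.card A) :
    (∀ i j, x i + y j = 0) ∨ (∃ j₀ c, ∀ i j, x i + y j = if j = j₀ then c else 0) ∨
      (∃ i₀ c, ∀ i j, x i + y j = if i = i₀ then c else 0) := by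
  by_cases hx : ∀ i i', x i = x i'
  · -- x constant
    by_cases hS : ∃ i j, x i + y j ≠ 0
    · obtain ⟨i₀, j₀, h₀⟩ := hS
      right; left
      refine ⟨j₀, x i₀ + y j₀, ?_⟩
      intro i j
      by_cases hj : j = j₀
      · rw [if_pos hj, hj, hx i i₀]
      · rw [if_neg hj]
        by_contra hne
        -- two nonzero columns j₀ and j
        let g : A ⊕ A → {p : A × B // x p.1 + y p.2 ≠ 0} := fun s =>
          match s with
          | Sum.inl k => ⟨(k, j₀), by show x k + y j₀ ≠ 0; rw [hx k i₀]; exact h₀⟩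
          | Sum.inr k => ⟨(k, j), by show x k + y j ≠ 0; rw [hx k i]; exact hne⟩
        have hg : Function.Injective g := by
          intro s t hst
          rcases s with k | k <;> rcases t with l | l
          · have := congrArg (fun p : {p : A × B // x p.1 + y p.2 ≠ 0} => p.1.1) hst
            exact congrArg Sum.inl this
          · have := congrArg (fun p : {p : A × B // x p.1 + y p.2 ≠ 0} => p.1.2) hst
            exact absurd this.symm hj
          · have := congrArg (fun p : {p : A × B // x p.1 + y p.2 ≠ 0} => p.1.2) hst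
            exact absurd this hj
          · have := congrArg (fun p : {p : A × B // x p.1 + y p.2 ≠ 0} => p.1.1) hst
            exact congrArg Sum.inr this
        have hcard := Nat.card_le_card_of_injective g hg
        rw [Nat.card_sum] at hcard
        omega
    · left
      push Not at hS
      exact hS
  · by_cases hy : ∀ j j', y j = y j'
    · -- y constant
      by_cases hS : ∃ i j, x i + y j ≠ 0
      · obtain ⟨i₀, j₀, h₀⟩ := hS
        right; right
        refine ⟨i₀, x i₀ + y j₀, ?_⟩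
        intro i j
        by_cases hi : i = i₀
        · rw [if_pos hi, hi, hy j j₀]
        · rw [if_neg hi]
          by_contra hne
          let g : B ⊕ B → {p : A × B // x p.1 + y p.2 ≠ 0} := fun s =>
            match s with
            | Sum.inl k => ⟨(i₀, k), by show x i₀ + y k ≠ 0; rw [hy k j₀]; exact h₀⟩
            | Sum.inr k => ⟨(i, k), by show x i + y k ≠ 0; rw [hy k j]; exact hne⟩
          have hg : Function.Injective g := by
            intro s t hst
            rcases s with k | k <;> rcases t with l | l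
            · have := congrArg (fun p : {p : A × B // x p.1 + y p.2 ≠ 0} => p.1.2) hst
              exact congrArg Sum.inl this
            · have := congrArg (fun p : {p : A × B // x p.1 + y p.2 ≠ 0} => p.1.1) hst
              exact absurd this.symm hi
            · have := congrArg (fun p : {p : A × B // x p.1 + y p.2 ≠ 0} => p.1.1) hst
              exact absurd this hi
            · have := congrArg (fun p : {p : A × B // x p.1 + y p.2 ≠ 0} => p.1.2) hst
              exact congrArg Sum.inr this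
          have hcard := Nat.card_le_card_of_injective g hg
          rw [Nat.card_sum] at hcard
          omega
      · left
        push Not at hS
        exact hS
    · -- neither constant: contradiction
      exfalso
      push Not at hx hy
      obtain ⟨i₁, i₂, hi⟩ := hx
      obtain ⟨j₁, j₂, hj⟩ := hy
      have hA : ∀ k : A, x k + y j₁ = 0 → x k + y j₂ ≠ 0 := by
        intro k h1 h2
        apply hj
        have : y j₁ = - x k := by linear_combination h1
        have h3 : y j₂ = - x k := by linear_combination h2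
        rw [this, h3]
      have hB' : ∀ l : B, x i₁ + y l = 0 → x i₂ + y l ≠ 0 := by
        intro l h1 h2
        apply hi
        have : x i₁ = - y l := by linear_combination h1
        have h3 : x i₂ = - y l := by linear_combination h2
        rw [this, h3]
      let g : A ⊕ {j : B // j ≠ j₁ ∧ j ≠ j₂} → {p : A × B // x p.1 + y p.2 ≠ 0} := fun s =>
        match s with
        | Sum.inl k => if h : x k + y j₁ = 0 then ⟨(k, j₂), hA k h⟩ else ⟨(k, j₁), h⟩
        | Sum.inr l => if h : x i₁ + y l.1 = 0 then ⟨(i₂, l.1), hB' l.1 h⟩ else ⟨(i₁, l.1), h⟩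
      have g1 : ∀ k : A, (g (Sum.inl k)).1.1 = k := by
        intro k
        simp only [g]
        split_ifs <;> rfl
      have g2 : ∀ k : A, (g (Sum.inl k)).1.2 = j₁ ∨ (g (Sum.inl k)).1.2 = j₂ := by
        intro k
        simp only [g]
        split_ifs
        · right; rfl
        · left; rfl
      have g3 : ∀ l : {j : B // j ≠ j₁ ∧ j ≠ j₂}, (g (Sum.inr l)).1.2 = l.1 := by
        intro l
        simp only [g]
        split_ifs <;> rfl
      have hg : Function.Injective g := by
        intro s t hst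
        rcases s with k | k <;> rcases t with l | l
        · have := congrArg (fun p : {p : A × B // x p.1 + y p.2 ≠ 0} => p.1.1) hst
          simp only [g1] at this
          exact congrArg Sum.inl this
        · have := congrArg (fun p : {p : A × B // x p.1 + y p.2 ≠ 0} => p.1.2) hst
          simp only [g3] at this
          rcases g2 k with h | h
          · rw [h] at this; exact absurd this.symm l.2.1
          · rw [h] at this; exact absurd this.symm l.2.2
        · have := congrArg (fun p : {p : A × B // x p.1 + y p.2 ≠ 0} => p.1.2) hst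
          simp only [g3] at this
          rcases g2 l with h | h
          · rw [h] at this; exact absurd this k.2.1
          · rw [h] at this; exact absurd this k.2.2
        · have := congrArg (fun p : {p : A × B // x p.1 + y p.2 ≠ 0} => p.1.2) hst
          simp only [g3] at this
          exact congrArg Sum.inr (Subtype.ext this)
      have hcard := Nat.card_le_card_of_injective g hg
      rw [Nat.card_sum] at hcard
      have := card_ne_ne_ge j₁ j₂
      omega


open Cfsg.Agent.Lib.helper32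

open Classical in
/-- Let W₁, W₂ ≤ G form a self-normalising cyclic subgroup W = W₁ ⊔ W₂ of odd order with Nat.card W₁ < Nat.card W₂, and χ an orthonormal family of irreducible characters of G up to sign, indexed by the linear characters ω of W, with χ_1 = 1, χ_ω = ω on W outside W₁ ∪ W₂, and the induction identity for (1 − φ)(1 − ψ). Let θ be a class function of G vanishing on W outside W₁ ∪ W₂, and suppose fewer than 2 · Nat.card W₁ linear characters ω of W have ⟨θ, χ ω⟩ ≠ 0. Then one of: all ⟨θ, χ ω⟩ vanish; or there are ψ₀ and a with ⟨θ, χ ω⟩ = a when ω ψ₀⁻¹ is trivial on W₂ and 0 otherwise; or there are φ₀ and a with ⟨θ, χ ω⟩ = a when ω φ₀⁻¹ is trivial on W₁ and 0 otherwise. -/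
theorem result {G : Type*} [Group G] [Fintype G] (W₁ W₂ : Subgroup G) (hW : Cfsg.IsSelfNormalizingCyclic W₁ W₂) (hodd : Odd (Nat.card ↥(W₁ ⊔ W₂))) (χ : (↥(W₁ ⊔ W₂) →* ℂˣ) → (G → ℂ)) (hχ : Cfsg.IsCyclicTIFamily W₁ W₂ χ) (hlt : Nat.card W₁ < Nat.card W₂) (θ : G → ℂ) (hθ : Cfsg.IsClassFunction G θ) (hθV : ∀ w : ↥(W₁ ⊔ W₂), (w : G) ∉ W₁ → (w : G) ∉ W₂ → θ w = 0) (hfew : Nat.card {ω : ↥(W₁ ⊔ W₂) →* ℂˣ // Cfsg.classInner θ (χ ω) ≠ 0} < 2 * Nat.card W₁) : (∀ ω, Cfsg.classInner θ (χ ω) = 0) ∨ (∃ (ψ₀ : ↥(W₁ ⊔ W₂) →* ℂˣ) (a : ℂ), ∀ ω, Cfsg.classInner θ (χ ω) = if (∀ w : ↥(W₁ ⊔ W₂), (w : G) ∈ W₂ → (ω * ψ₀⁻¹) w = 1) then a else 0) ∨ (∃ (φ₀ : ↥(W₁ ⊔ W₂) →* ℂˣ) (a : ℂ), ∀ ω, Cfsg.classInner θ (χ ω) = if (∀ w : ↥(W₁ ⊔ W₂), (w : G) ∈ W₁ → (ω * φ₀⁻¹) w = 1) then a else 0) := by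
  obtain ⟨-, -, hdisj, hcomm, hcyc, -⟩ := hW
  have hab₁ : ∀ a ∈ W₁, ∀ b ∈ W₁, a * b = b * a := fun a ha b hb =>
    comm_of_isCyclic_sup W₁ W₂ hcyc a b (Subgroup.mem_sup_left ha) (Subgroup.mem_sup_left hb)
  have hab₂ : ∀ a ∈ W₂, ∀ b ∈ W₂, a * b = b * a := fun a ha b hb =>
    comm_of_isCyclic_sup W₁ W₂ hcyc a b (Subgroup.mem_sup_right ha) (Subgroup.mem_sup_right hb)
  set Φ := {φ : ↥(W₁ ⊔ W₂) →* ℂˣ // ∀ w : ↥(W₁ ⊔ W₂), (w : G) ∈ W₂ → φ w = 1} with hΦ
  set Ψ := {ψ : ↥(W₁ ⊔ W₂) →* ℂˣ // ∀ w : ↥(W₁ ⊔ W₂), (w : G) ∈ W₁ → ψ w = 1} with hΨ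
  have hcΦ : Nat.card Φ = Nat.card W₁ := card_charsTrivialOn₂ W₁ W₂ hdisj hcomm hab₁
  have hcΨ : Nat.card Ψ = Nat.card W₂ := card_charsTrivialOn₁ W₁ W₂ hdisj hcomm hab₂
  have hfinΦ : Finite Φ := Nat.finite_of_card_ne_zero (by rw [hcΦ]; exact Nat.card_pos.ne')
  have hfinΨ : Finite Ψ := Nat.finite_of_card_ne_zero (by rw [hcΨ]; exact Nat.card_pos.ne')
  -- parity
  have hcard := card_sup_eq_mul W₁ W₂ hdisj hcomm
  rw [hcard, Nat.odd_mul] at hodd
  obtain ⟨⟨k₁, hk₁⟩, ⟨k₂, hk₂⟩⟩ := hodd
  have hge : Nat.card Φ + 2 ≤ Nat.card Ψ := by rw [hcΦ, hcΨ]; omega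
  -- the functions x, y
  let a : (↥(W₁ ⊔ W₂) →* ℂˣ) → ℂ := fun ω => Cfsg.classInner θ (χ ω)
  let x : Φ → ℂ := fun φ => a φ.1
  let y : Ψ → ℂ := fun ψ => a ψ.1 - a 1
  have hxy : ∀ (φ : Φ) (ψ : Ψ), a (φ.1 * ψ.1) = x φ + y ψ := by
    intro φ ψ
    have := cyclicTI_coeff_mul W₁ W₂ χ hχ θ hθ hθV φ.1 ψ.1 φ.2 ψ.2
    show Cfsg.classInner θ (χ (φ.1 * ψ.1)) = Cfsg.classInner θ (χ φ.1) + (Cfsg.classInner θ (χ ψ.1) - Cfsg.classInner θ (χ 1))
    rw [this]; ring
  let D := charDecompEquiv W₁ W₂ hdisj hcomm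
  have hD : ∀ ω, a ω = x (D ω).1 + y (D ω).2 := by
    intro ω
    rw [← hxy]
    congr 1
    exact (D.symm_apply_apply ω).symm
  have hfew' : Nat.card {p : Φ × Ψ // x p.1 + y p.2 ≠ 0} < 2 * Nat.card Φ := by
    rw [hcΦ]
    have he : {ω : ↥(W₁ ⊔ W₂) →* ℂˣ // Cfsg.classInner θ (χ ω) ≠ 0} ≃ {p : Φ × Ψ // x p.1 + y p.2 ≠ 0} :=
      D.subtypeEquiv (fun ω => by rw [← hD ω])
    rw [← Nat.card_congr he]
    exact hfew
  rcases comb x y hge hfew' with h | ⟨j₀, c, h⟩ | ⟨i₀, c, h⟩
  · left
    intro ω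
    show a ω = 0
    rw [hD ω]
    exact h _ _
  · right; left
    refine ⟨j₀.1, c, ?_⟩
    intro ω
    show a ω = _
    rw [hD ω, h]
    have hiff : ((D ω).2 = j₀) ↔ (∀ w : ↥(W₁ ⊔ W₂), (w : G) ∈ W₂ → (ω * j₀.1⁻¹) w = 1) := by
      constructor
      · intro heq w hw
        have h1 : charPart₂ W₁ W₂ hdisj hcomm ω = j₀.1 := congrArg Subtype.val heq
        rw [MonoidHom.mul_apply, MonoidHom.inv_apply, ← h1, charPart₂_of_mem₂ W₁ W₂ hdisj hcomm ω w hw,
          mul_inv_cancel]
      · intro hall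
        apply Subtype.ext
        show charPart₂ W₁ W₂ hdisj hcomm ω = j₀.1
        apply hom_ext_of_sup
        · intro w hw
          rw [charPart₂_of_mem₁ W₁ W₂ hdisj hcomm ω w hw, j₀.2 w hw]
        · intro w hw
          rw [charPart₂_of_mem₂ W₁ W₂ hdisj hcomm ω w hw]
          have := hall w hw
          rw [MonoidHom.mul_apply, MonoidHom.inv_apply, mul_inv_eq_one] at this
          exact this
    by_cases hc : (D ω).2 = j₀
    · rw [if_pos hc, if_pos (hiff.mp hc)]
    · rw [if_neg hc, if_neg (fun h' => hc (hiff.mpr h'))]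
  · right; right
    refine ⟨i₀.1, c, ?_⟩
    intro ω
    show a ω = _
    rw [hD ω, h]
    have hiff : ((D ω).1 = i₀) ↔ (∀ w : ↥(W₁ ⊔ W₂), (w : G) ∈ W₁ → (ω * i₀.1⁻¹) w = 1) := by
      constructor
      · intro heq w hw
        have h1 : charPart₁ W₁ W₂ hdisj hcomm ω = i₀.1 := congrArg Subtype.val heq
        rw [MonoidHom.mul_apply, MonoidHom.inv_apply, ← h1, charPart₁_of_mem₁ W₁ W₂ hdisj hcomm ω w hw,
          mul_inv_cancel]
      · intro hall
        apply Subtype.ext
        show charPart₁ W₁ W₂ hdisj hcomm ω = i₀.1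
        apply hom_ext_of_sup
        · intro w hw
          rw [charPart₁_of_mem₁ W₁ W₂ hdisj hcomm ω w hw]
          have := hall w hw
          rw [MonoidHom.mul_apply, MonoidHom.inv_apply, mul_inv_eq_one] at this
          exact this
        · intro w hw
          rw [charPart₁_of_mem₂ W₁ W₂ hdisj hcomm ω w hw, i₀.2 w hw]
    by_cases hc : (D ω).1 = i₀
    · rw [if_pos hc, if_pos (hiff.mp hc)]
    · rw [if_neg hc, if_neg (fun h' => hc (hiff.mpr h'))]

end Cfsg.Agent.S1507
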