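import Cfsg.Statements.S1510
import Mathlib

set_option autoImplicit false
open Cfsg

namespace Cfsg.Agent.S1510

open scoped Pointwise

theorem comm_of_isCyclic_subgroup {L : Type*} [Group L] (W : Subgroup L) (hW : IsCyclic W)
    (a b : L) (ha : a ∈ W) (hb : b ∈ W) : a * b = b * a := by
  have h := (IsCyclic.isMulCommutative (α := W)).is_comm.comm ⟨a, ha⟩ ⟨b, hb⟩
  exact congrArg Subtype.val h

theorem isCyclic_sup_of_coprime {L : Type*} [Group L] (W₁ W₂ : Subgroup L)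
    (h₁ : IsCyclic W₁) (h₂ : IsCyclic W₂) (hcop : (Nat.card W₁).Coprime (Nat.card W₂))
    (hcomm : ∀ a ∈ W₁, ∀ b ∈ W₂, a * b = b * a) : IsCyclic ↥(W₁ ⊔ W₂) := by
  have hprod : IsCyclic (W₁ × W₂) := Group.isCyclic_prod_iff.mpr ⟨h₁, h₂, hcop⟩
  let f : W₁ × W₂ →* L := MonoidHom.noncommCoprod W₁.subtype W₂.subtype
    (fun m n => hcomm m.1 m.2 n.1 n.2)
  have hr : f.range = W₁ ⊔ W₂ := by
    have := MonoidHom.noncommCoprod_range W₁.subtype W₂.subtype
      (fun m n => hcomm m.1 m.2 n.1 n.2)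
    rw [Subgroup.range_subtype, Subgroup.range_subtype] at this
    exact this
  have hc : IsCyclic f.range := isCyclic_of_surjective f.rangeRestrict f.rangeRestrict_surjective
  rw [hr] at hc
  exact hc

/-- Let L be a finite group with a normal subgroup K and a nontrivial cyclic subgroup W₁ of order coprime to its index, K ⊓ W₁ = ⊥ and K ⊔ W₁ = ⊤; let W₂ ≠ ⊥ be a cyclic subgroup of K with K ⊓ C_L(x) = W₂ for every non-identity x ∈ W₁, and suppose W₁ ⊔ W₂ has odd order. Then (W₁, W₂) is a self-normalising cyclic pair in L. -/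
theorem result {L : Type*} [Group L] [Fintype L] (K W₁ W₂ : Subgroup L) [hK : K.Normal] (hKW₁ : K ⊓ W₁ = ⊥) (hKW₁' : K ⊔ W₁ = ⊤) (hW₁ : W₁ ≠ ⊥) (hW₁c : IsCyclic W₁) (hHall : Nat.Coprime (Nat.card W₁) W₁.index) (hW₂ : W₂ ≠ ⊥) (hW₂c : IsCyclic W₂) (hW₂K : W₂ ≤ K) (hC : ∀ x ∈ W₁, x ≠ 1 → K ⊓ Subgroup.centralizer ({x} : Set L) = W₂) (hodd : Odd (Nat.card ↥(W₁ ⊔ W₂))) : Cfsg.IsSelfNormalizingCyclic W₁ W₂ := by
  -- W₁ and W₂ commute elementwise
  have hcomm : ∀ a ∈ W₁, ∀ b ∈ W₂, a * b = b * a := by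
    intro a ha b hb
    by_cases ha1 : a = 1
    · rw [ha1]; simp
    · have hb' : b ∈ K ⊓ Subgroup.centralizer ({a} : Set L) := by rw [hC a ha ha1]; exact hb
      exact Subgroup.mem_centralizer_iff.mp hb'.2 a (Set.mem_singleton a)
  -- the product decomposition L = K * W₁
  have hmul : (K : Set L) * (W₁ : Set L) = Set.univ := by
    rw [← Subgroup.normal_mul, hKW₁']
    rfl
  have hcompl : Subgroup.IsComplement' K W₁ :=
    Subgroup.isComplement'_of_disjoint_and_mul_eq_univ (disjoint_iff.mpr hKW₁) hmul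
  have hidx : W₁.index = Nat.card K := hcompl.index_eq_card
  have hcop : (Nat.card W₁).Coprime (Nat.card W₂) := by
    rw [hidx] at hHall
    exact Nat.Coprime.coprime_dvd_right (Subgroup.card_dvd_of_le hW₂K) hHall
  have hcyc : IsCyclic ↥(W₁ ⊔ W₂) := isCyclic_sup_of_coprime W₁ W₂ hW₁c hW₂c hcop hcomm
  have hinf : W₁ ⊓ W₂ = ⊥ := by
    apply le_antisymm _ bot_le
    rw [← hKW₁]
    exact le_inf (inf_le_right.trans hW₂K) inf_le_left
  refine ⟨hW₁, hW₂, hinf, hcomm, hcyc, ?_⟩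
  intro X hX hXne
  have hsupmul : ((W₁ ⊔ W₂ : Subgroup L) : Set L) = (W₁ : Set L) * (W₂ : Set L) := by
    apply Subgroup.coe_mul_of_left_le_normalizer_right
    rw [Subgroup.le_normalizer_iff]
    intro h hh k hk
    rw [hcomm h hh k hk, mul_inv_cancel_right]
    exact hk
  apply le_antisymm
  · intro g hg
    obtain ⟨x, hxX⟩ := hXne
    have hxW := (hX hxX).1
    have hxn := (hX hxX).2
    have hgx : g * x * g⁻¹ ∈ X := (Subgroup.mem_set_normalizer_iff.mp hg x).mp hxX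
    have hgxW := (hX hgx).1
    rw [hsupmul] at hxW hgxW
    obtain ⟨w₁, hw₁, w₂, hw₂, hx⟩ := hxW
    obtain ⟨w₁', hw₁', w₂', hw₂', hx'⟩ := hgxW
    have hw₁ : w₁ ∈ W₁ := hw₁
    have hw₂ : w₂ ∈ W₂ := hw₂
    have hw₁' : w₁' ∈ W₁ := hw₁'
    have hw₂' : w₂' ∈ W₂ := hw₂'
    have hx : w₁ * w₂ = x := hx
    have hx' : w₁' * w₂' = g * x * g⁻¹ := hx'
    have hw₁1 : w₁ ≠ 1 := by
      intro h
      apply hxn
      right
      rw [← hx, h, one_mul]
      exact hw₂
    set n₂ := Nat.card W₂ with hn₂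
    have hpow : ∀ (a b : L), a ∈ W₁ → b ∈ W₂ → (a * b) ^ n₂ = a ^ n₂ := by
      intro a b ha hb
      have hc : Commute a b := hcomm a ha b hb
      rw [hc.mul_pow]
      have : b ^ n₂ = 1 := by
        exact orderOf_dvd_iff_pow_eq_one.mp (Subgroup.orderOf_dvd_natCard W₂ hb)
      rw [this, mul_one]
    set z := w₁ ^ n₂ with hz
    have hzW : z ∈ W₁ := pow_mem hw₁ n₂
    have hz1 : z ≠ 1 := by
      intro h
      have h1 : orderOf w₁ ∣ n₂ := orderOf_dvd_of_pow_eq_one h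
      have h2 : orderOf w₁ ∣ Nat.card W₁ := Subgroup.orderOf_dvd_natCard W₁ hw₁
      have h3 := Nat.dvd_gcd h2 h1
      rw [hcop] at h3
      exact hw₁1 (orderOf_eq_one_iff.mp (Nat.dvd_one.mp h3))
    have hgz : g * z * g⁻¹ ∈ W₁ := by
      have : g * z * g⁻¹ = w₁' ^ n₂ := by
        rw [hz, ← hpow w₁ w₂ hw₁ hw₂, hx, ← conj_pow, ← hx', hpow w₁' w₂' hw₁' hw₂']
      rw [this]
      exact pow_mem hw₁' n₂
    -- decompose g = k * w
    have hgmem : g ∈ (K : Set L) * (W₁ : Set L) := by rw [hmul]; exact Set.mem_univ g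
    obtain ⟨k, hk, w, hw, hg'⟩ := hgmem
    have hk : k ∈ K := hk
    have hw : w ∈ W₁ := hw
    have hg' : k * w = g := hg'
    have hwz : w * z * w⁻¹ = z := by
      rw [comm_of_isCyclic_subgroup W₁ hW₁c w z hw hzW, mul_inv_cancel_right]
    have hkz : k * z * k⁻¹ ∈ W₁ := by
      have : g * z * g⁻¹ = k * z * k⁻¹ := by
        rw [← hg']
        calc k * w * z * (k * w)⁻¹ = k * (w * z * w⁻¹) * k⁻¹ := by simp [mul_assoc]
          _ = k * z * k⁻¹ := by rw [hwz]
      rw [← this]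
      exact hgz
    have hkcomm : k * z * k⁻¹ * z⁻¹ = 1 := by
      have h1 : k * z * k⁻¹ * z⁻¹ ∈ K ⊓ W₁ := by
        refine ⟨?_, W₁.mul_mem hkz (W₁.inv_mem hzW)⟩
        have : k * z * k⁻¹ * z⁻¹ = k * (z * k⁻¹ * z⁻¹) := by simp [mul_assoc]
        rw [this]
        exact K.mul_mem hk (hK.conj_mem k⁻¹ (K.inv_mem hk) z)
      rw [hKW₁] at h1
      exact Subgroup.mem_bot.mp h1
    have hkW₂ : k ∈ W₂ := by
      rw [← hC z hzW hz1]
      have hkc : k ∈ Subgroup.centralizer ({z} : Set L) := by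
        rw [Subgroup.mem_centralizer_iff]
        intro y hy
        rw [Set.mem_singleton_iff] at hy
        rw [hy]
        have h2 : k * z * k⁻¹ = z := by
          have := congrArg (fun t => t * z) hkcomm
          simpa using this
        calc z * k = k * z * k⁻¹ * k := by rw [h2]
          _ = k * z := by simp
      exact ⟨hk, hkc⟩
    rw [← hg']
    exact Subgroup.mul_mem _ (Subgroup.mem_sup_right hkW₂) (Subgroup.mem_sup_left hw)
  · intro w hw
    rw [Subgroup.mem_set_normalizer_iff]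
    intro n
    constructor
    · intro hn
      have hnW : n ∈ W₁ ⊔ W₂ := (hX hn).1
      rw [comm_of_isCyclic_subgroup _ hcyc w n hw hnW, mul_inv_cancel_right]
      exact hn
    · intro hn
      have hnW : w * n * w⁻¹ ∈ W₁ ⊔ W₂ := (hX hn).1
      have hnW' : n ∈ W₁ ⊔ W₂ := by
        have := Subgroup.mul_mem _ (Subgroup.mul_mem _ (Subgroup.inv_mem _ hw) hnW) hw
        simpa [mul_assoc] using this
      have : w * n * w⁻¹ = n := by
        rw [comm_of_isCyclic_subgroup _ hcyc w n hw hnW', mul_inv_cancel_right]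
      rw [this] at hn
      exact hn

end Cfsg.Agent.S1510
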