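import Cfsg.Statements.S1512
import Mathlib

set_option autoImplicit false
open Cfsg

namespace Cfsg.Agent.S1512

theorem card_class_dvd {K : Type*} [Group K] [Finite K] (c : K) :
    Nat.card {d : K // ConjClasses.mk d = ConjClasses.mk c} ∣ Nat.card K := by
  have h1 : (MulAction.stabilizer (ConjAct K) c).index = (MulAction.orbit (ConjAct K) c).ncard :=
    MulAction.index_stabilizer (ConjAct K) c
  have h2 : (MulAction.stabilizer (ConjAct K) c).index ∣ Nat.card (ConjAct K) :=
    Subgroup.index_dvd_card _
  rw [h1, ConjAct.orbit_eq_carrier_conjClasses] at h2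
  have h3 : Nat.card {d : K // ConjClasses.mk d = ConjClasses.mk c} = (ConjClasses.mk c).carrier.ncard := by
    rw [← Nat.card_coe_set_eq]
    apply Nat.card_congr
    apply Equiv.subtypeEquivRight
    intro d
    exact ConjClasses.mem_carrier_iff_mk_eq.symm
  rw [h3]
  exact h2

theorem result {L : Type*} [Group L] [Finite L] (K W₂ : Subgroup L) [hK : K.Normal] (x : L) (hx1 : x ≠ 1) (hx : Nat.Coprime (orderOf x) (Nat.card K)) (hC : ∀ y ∈ Subgroup.zpowers x, y ≠ 1 → K ⊓ Subgroup.centralizer ({y} : Set L) = W₂) : Nat.card {C : ConjClasses K // ConjClasses.map (MulEquiv.toMonoidHom ((MulAut.conjNormal x : MulAut K))) C = C} ≤ Nat.card W₂ := by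
  classical
  have hox : orderOf x ≠ 1 := fun h => hx1 (orderOf_eq_one_iff.mp h)
  have hox0 : orderOf x ≠ 0 := (orderOf_pos x).ne'
  set p := (orderOf x).minFac with hp
  have hpp : p.Prime := Nat.minFac_prime hox
  have : Fact p.Prime := ⟨hpp⟩
  have hpd : p ∣ orderOf x := Nat.minFac_dvd _
  set y := x ^ (orderOf x / p) with hy
  have hoy : orderOf y = p := orderOf_pow_orderOf_div hox0 hpd
  have hy1 : y ≠ 1 := by
    intro h
    rw [h, orderOf_one] at hoy
    exact hpp.one_lt.ne hoy
  have hyz : y ∈ Subgroup.zpowers x := Subgroup.npow_mem_zpowers x _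
  have hW : K ⊓ Subgroup.centralizer ({y} : Set L) = W₂ := hC y hyz hy1
  have hpK : ¬ p ∣ Nat.card K := by
    intro h
    have h2 := Nat.dvd_gcd hpd h
    rw [Nat.Coprime] at hx
    rw [hx] at h2
    exact hpp.one_lt.ne' (Nat.dvd_one.mp h2)
  have hfix : ∀ (C : ConjClasses K),
      ConjClasses.map (MulEquiv.toMonoidHom (MulAut.conjNormal x : MulAut K)) C = C →
      ∀ m : ℕ, ∀ c : K, ConjClasses.mk c = C →
        ConjClasses.mk ((MulAut.conjNormal (x ^ m) : MulAut K) c) = C := by
    intro C hCfix m
    induction m with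
    | zero => intro c hc; simpa using hc
    | succ m ih =>
      intro c hc
      rw [pow_succ, map_mul, MulAut.mul_apply]
      apply ih
      rw [← hCfix, ← hc]
      rfl
  have hex : ∀ C : {C : ConjClasses K //
      ConjClasses.map (MulEquiv.toMonoidHom (MulAut.conjNormal x : MulAut K)) C = C},
      ∃ c : K, ConjClasses.mk c = C.1 ∧ (c : L) ∈ W₂ := by
    rintro ⟨C, hCfix⟩
    obtain ⟨c₀, rfl⟩ := ConjClasses.mk_surjective C
    let S := {d : K // ConjClasses.mk d = ConjClasses.mk c₀}
    let f : S → S := fun d =>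
      ⟨(MulAut.conjNormal y : MulAut K) d.1, hfix _ hCfix _ d.1 d.2⟩
    have hfinj : Function.Injective f := by
      intro d d' h
      have h2 := congrArg Subtype.val h
      exact Subtype.ext ((MulAut.conjNormal y : MulAut K).injective h2)
    have hfbij : Function.Bijective f := Finite.injective_iff_bijective.mp hfinj
    let σ : Equiv.Perm S := Equiv.ofBijective f hfbij
    have hiter : ∀ m : ℕ, ∀ d : S, ((f^[m] d : S) : K) = (MulAut.conjNormal (y ^ m) : MulAut K) d.1 := by
      intro m
      induction m with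
      | zero => intro d; simp
      | succ m ih =>
        intro d
        rw [Function.iterate_succ_apply', pow_succ', map_mul, MulAut.mul_apply, ← ih]
    have hσ : σ ^ p ^ 1 = 1 := by
      ext d
      rw [pow_one, ← Equiv.Perm.iterate_eq_pow]
      have : (σ : S → S) = f := rfl
      rw [this, hiter p d, ← hoy, pow_orderOf_eq_one]
      simp
    have : Fintype S := Fintype.ofFinite S
    have hcard : ¬ p ∣ Fintype.card S := by
      intro h
      apply hpK
      rw [Fintype.card_eq_nat_card] at h
      exact h.trans (card_class_dvd c₀)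
    obtain ⟨d, hd⟩ := Equiv.Perm.exists_fixed_point_of_prime hcard hσ
    refine ⟨d.1, d.2, ?_⟩
    rw [← hW]
    have h2 := congrArg (fun e : S => ((e : K) : L)) hd
    have h3 : y * (d.1 : L) * y⁻¹ = (d.1 : L) := h2
    have hcen : ((d.1 : K) : L) ∈ Subgroup.centralizer ({y} : Set L) := by
      rw [Subgroup.mem_centralizer_iff]
      intro z hz
      rw [Set.mem_singleton_iff] at hz
      rw [hz]
      calc y * (d.1 : L) = y * (d.1 : L) * y⁻¹ * y := by simp
        _ = (d.1 : L) * y := by rw [h3]
    exact ⟨d.1.2, hcen⟩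
  choose g hg1 hg2 using hex
  have hinj : Function.Injective (fun C => (⟨(g C : L), hg2 C⟩ : W₂)) := by
    intro C C' h
    have h2 : (g C : L) = (g C' : L) := congrArg (fun w : W₂ => (w : L)) h
    have h3 : g C = g C' := Subtype.ext h2
    apply Subtype.ext
    rw [← hg1 C, ← hg1 C', h3]
  exact Nat.card_le_card_of_injective _ hinj

end Cfsg.Agent.S1512
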