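import Cfsg.Statements.S1515
import Mathlib
import Cfsg.Agent.Lib.helper4.CharDecomp
import Cfsg.Agent.Lib.helper32.Coh

set_option autoImplicit false
open Cfsg

namespace Cfsg.Agent.S1515

open Cfsg.Agent.Lib.helper4 Cfsg.Agent.Lib.helper32

theorem int_re_le_normsq (z : ℂ) (hz : ∃ k : ℤ, z = k) : z.re ≤ ‖z‖ ^ 2 := by
  obtain ⟨k, rfl⟩ := hz
  rw [Complex.norm_intCast, sq_abs, Complex.intCast_re]
  exact_mod_cast Int.le_self_sq k

theorem int_eq_zero_or_one (z : ℂ) (hz : ∃ k : ℤ, z = k) (h : ‖z‖ ^ 2 = z.re) : z = 0 ∨ z = 1 := by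
  obtain ⟨k, rfl⟩ := hz
  rw [Complex.norm_intCast, sq_abs, Complex.intCast_re] at h
  have h' : k ^ 2 = k := by exact_mod_cast h
  have h'' : k * (k - 1) = 0 := by ring_nf; ring_nf at h'; omega
  rcases mul_eq_zero.mp h'' with h0 | h1
  · left; simp [h0]
  · right
    have : k = 1 := by omega
    simp [this]

/-- Let (S, τ, R) be a coherence system from L to G, χ ∈ S, and ψ an integer combination of S with ⟨χ, ψ⟩ = ⟨conj χ, ψ⟩ = 0. Let τ₁ be a linear isometry on the integer combinations of χ − ψ and χ − conj χ, with virtual-character values, agreeing with τ on integer multiples of χ − conj χ. Then the sum over α ∈ R χ of the squared absolute values of ⟨τ₁(χ − ψ), α⟩ is at least ⟨χ, χ⟩; and if ⟨τ₁(χ − ψ), τ₁(χ − ψ)⟩ minus that sum is at least ⟨ψ, ψ⟩, then the sum equals ⟨χ, χ⟩ and every ⟨τ₁(χ − ψ), α⟩ with α ∈ R χ is 0 or 1. -/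
theorem result {L : Type*} [Group L] [Fintype L] {G : Type*} [Group G] [Fintype G] (S : Set (L → ℂ)) (τ : (L → ℂ) → (G → ℂ)) (R : (L → ℂ) → Finset (G → ℂ)) (hS : Cfsg.IsCoherenceSystem S τ R) (χ : L → ℂ) (hχ : χ ∈ S) (ψ : L → ℂ) (hψ : ψ ∈ Cfsg.zspan S) (h1 : Cfsg.classInner χ ψ = 0) (h2 : Cfsg.classInner (Cfsg.conjFun χ) ψ = 0) (τ₁ : (L → ℂ) → (G → ℂ)) (hτ₁ : Cfsg.IsLinearIsometryOn (Cfsg.zspan {χ - ψ, χ - Cfsg.conjFun χ}) τ₁) (hagree : ∀ n : ℤ, τ₁ (n • (χ - Cfsg.conjFun χ)) = τ (n • (χ - Cfsg.conjFun χ))) : (Cfsg.classInner χ χ).re ≤ ∑ α ∈ R χ, ‖Cfsg.classInner (τ₁ (χ - ψ)) α‖ ^ 2 ∧ ((Cfsg.classInner ψ ψ).re ≤ (Cfsg.classInner (τ₁ (χ - ψ)) (τ₁ (χ - ψ))).re - ∑ α ∈ R χ, ‖Cfsg.classInner (τ₁ (χ - ψ)) α‖ ^ 2 → (∑ α ∈ R χ, ‖Cfsg.classInner (τ₁ (χ - ψ)) α‖ ^ 2 = (Cfsg.classInner χ χ).re ∧ ∀ α ∈ R χ, Cfsg.classInner (τ₁ (χ - ψ)) α = 0 ∨ Cfsg.classInner (τ₁ (χ - ψ))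 α = 1)) := by
  classical
  have hτ : Cfsg.IsLinearIsometryOn
      ((Submodule.span ℤ {χ - ψ, χ - Cfsg.conjFun χ} : Submodule ℤ (L → ℂ)) : Set (L → ℂ)) τ₁ := hτ₁
  have m1 : (χ - ψ) ∈ (Submodule.span ℤ {χ - ψ, χ - Cfsg.conjFun χ} : Submodule ℤ (L → ℂ)) :=
    Submodule.subset_span (by simp)
  have m2 : (χ - Cfsg.conjFun χ) ∈
      (Submodule.span ℤ {χ - ψ, χ - Cfsg.conjFun χ} : Submodule ℤ (L → ℂ)) :=
    Submodule.subset_span (by simp)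
  have hψχ : Cfsg.classInner ψ χ = 0 := by
    rw [← classInner_conj_symm, h1]; simp
  have hψχ' : Cfsg.classInner ψ (Cfsg.conjFun χ) = 0 := by
    rw [← classInner_conj_symm, h2]; simp
  have hχχ' : Cfsg.classInner χ (Cfsg.conjFun χ) = 0 :=
    hS.orthogonal χ hχ _ (hS.conj_mem χ hχ) (Ne.symm (hS.conj_ne χ hχ))
  have hX : Cfsg.IsGeneralizedCharacter G (τ₁ (χ - ψ)) := lio_gen hτ m1
  have hint : ∀ α ∈ R χ, ∃ k : ℤ, Cfsg.classInner (τ₁ (χ - ψ)) α = k :=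
    fun α hα => exists_int_classInner hX (hS.virtual χ hχ α hα)
  have hsum : ∑ α ∈ R χ, Cfsg.classInner (τ₁ (χ - ψ)) α = Cfsg.classInner χ χ := by
    rw [← classInner_sum_right, ← hS.sum_eq χ hχ]
    have e := hagree 1
    rw [one_smul] at e
    rw [← e, lio_inner hτ m1 m2, classInner_sub_left, classInner_sub_right, classInner_sub_right,
      hχχ', hψχ, hψχ']
    ring
  have hsumre : ∑ α ∈ R χ, (Cfsg.classInner (τ₁ (χ - ψ)) α).re = (Cfsg.classInner χ χ).re := by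
    rw [← Complex.re_sum, hsum]
  have hA : (Cfsg.classInner χ χ).re ≤ ∑ α ∈ R χ, ‖Cfsg.classInner (τ₁ (χ - ψ)) α‖ ^ 2 := by
    rw [← hsumre]
    exact Finset.sum_le_sum fun α hα => int_re_le_normsq _ (hint α hα)
  refine ⟨hA, ?_⟩
  intro hB
  have hXX : Cfsg.classInner (τ₁ (χ - ψ)) (τ₁ (χ - ψ)) =
      Cfsg.classInner χ χ + Cfsg.classInner ψ ψ := by
    rw [lio_inner hτ m1 m1, classInner_sub_left, classInner_sub_right, classInner_sub_right,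
      h1, hψχ]
    ring
  rw [hXX, Complex.add_re] at hB
  have hle : ∑ α ∈ R χ, ‖Cfsg.classInner (τ₁ (χ - ψ)) α‖ ^ 2 ≤ (Cfsg.classInner χ χ).re := by
    linarith
  have heq : ∑ α ∈ R χ, ‖Cfsg.classInner (τ₁ (χ - ψ)) α‖ ^ 2 = (Cfsg.classInner χ χ).re :=
    le_antisymm hle hA
  refine ⟨heq, ?_⟩
  have hz : ∑ α ∈ R χ, (‖Cfsg.classInner (τ₁ (χ - ψ)) α‖ ^ 2 -
      (Cfsg.classInner (τ₁ (χ - ψ)) α).re) = 0 := by
    rw [Finset.sum_sub_distrib, heq, hsumre]; ring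
  have hz' := (Finset.sum_eq_zero_iff_of_nonneg (fun α hα =>
    sub_nonneg.mpr (int_re_le_normsq _ (hint α hα)))).mp hz
  intro α hα
  exact int_eq_zero_or_one _ (hint α hα) (by linarith [hz' α hα])

end Cfsg.Agent.S1515
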