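import Cfsg.Statements.S1518
import Mathlib
import Cfsg.Agent.Lib.helper32.DadeExp
import Cfsg.Agent.Lib.helper32.Coh2
import Cfsg.Agent.Lib.helper4.Exceptional
import Cfsg.Agent.Lib.helper4.Burnside2
import Cfsg.Agent.S1500

set_option autoImplicit false
open Cfsg

namespace Cfsg.Agent.S1518
open Cfsg.Agent.Lib.helper4

theorem irr_conjFun {X : Type*} [Group X] [Fintype X] {χ : X → ℂ} (hχ : Cfsg.IsIrrCharacter X χ) :
    Cfsg.IsIrrCharacter X (Cfsg.conjFun χ) := by
  apply isIrrCharacter_of_isCharacter_of_norm_one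
  · exact isCharacter_conj (isCharacter_of_isIrrCharacter hχ)
  · rw [Cfsg.Agent.Lib.helper32.classInner_conjFun_conjFun, classInner_irr_self hχ]
    simp

/-- Under the Dade hypothesis for (A, L, H): if χ is an irreducible character of L vanishing at every non-identity element of L outside A, then the Dade image of χ − conj χ equals μ − conj μ for some irreducible character μ of G. -/
theorem result {G : Type*} [Group G] [Fintype G] (A : Set G) (L : Subgroup G) [Fintype L] (H : G → Subgroup G) (hD : Cfsg.DadeHypothesis A L H) (χ : L → ℂ) (hχ : Cfsg.IsIrrCharacter L χ) (hsupp : ∀ x : L, x ≠ 1 → (x : G) ∉ A → χ x = 0) : ∃ μ : G → ℂ, Cfsg.IsIrrCharacter G μ ∧ Cfsg.dadeIsometry A L H (χ - Cfsg.conjFun χ) = μ - Cfsg.conjFun μ := by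
  classical
  have hχc := isCharacter_of_isIrrCharacter hχ
  have hχbar : Cfsg.IsIrrCharacter L (Cfsg.conjFun χ) := irr_conjFun hχ
  set α : L → ℂ := χ - Cfsg.conjFun χ with hα
  have hαg : Cfsg.IsGeneralizedCharacter L α :=
    isGeneralizedCharacter_sub (isGeneralizedCharacter_of_isIrrCharacter hχ)
      (isGeneralizedCharacter_of_isIrrCharacter hχbar)
  have hαc := isClassFunction_of_isGeneralizedCharacter hαg
  have hαA : ∀ x : L, (x : G) ∉ A → α x = 0 := by
    intro x hx
    by_cases h1 : x = 1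
    · subst h1
      simp only [hα, Pi.sub_apply]
      rw [Cfsg.Agent.Lib.helper32.conjFun_degree_of_isCharacter hχc]
      exact sub_self _
    · have h0 := hsupp x h1 hx
      simp [hα, Cfsg.conjFun, h0]
  have hθg := Cfsg.Agent.Lib.helper32.dade_isGeneralizedCharacter A L H hD α hαg hαA
  by_cases hreal : Cfsg.conjFun χ = χ
  · refine ⟨fun _ => 1, isIrrCharacter_one, ?_⟩
    have hα0 : α = 0 := by rw [hα, hreal, sub_self]
    rw [hα0]
    funext g
    simp [Cfsg.dadeIsometry, Cfsg.conjFun]
  · have hnorm : Cfsg.classInner (Cfsg.dadeIsometry A L H α) (Cfsg.dadeIsometry A L H α) = 2 := by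
      rw [(Cfsg.Agent.S1500.result A L H hD α hαc hαA).1 α hαc hαA]
      rw [hα, classInner_irr_sub_irr hχ hχbar hχ hχbar]
      have h1 : χ ≠ Cfsg.conjFun χ := fun h => hreal h.symm
      simp only [if_true, if_neg h1, if_neg hreal]
      norm_num
    have hθ1 : Cfsg.dadeIsometry A L H α 1 = 0 := by
      apply Cfsg.Agent.Lib.helper32.dadeIsometry_apply_of_not
      rintro ⟨a, ha, u, hu, x, hx⟩
      have hau : a * u = 1 := by
        rw [← hx]
        simp
      have huL : u ∈ L := by
        have h2 : u = a⁻¹ := by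
          rw [eq_inv_iff_mul_eq_one]
          have h3 : u * a = a⁻¹ * (a * u) * a := by simp [mul_assoc]
          rw [h3, hau]
          simp
        rw [h2]
        exact L.inv_mem (hD.subset ha)
      have hu1 : u ∈ H a ⊓ (L ⊓ Subgroup.centralizer ({a} : Set G)) :=
        ⟨hu, huL, hD.le_centralizer a ha hu⟩
      rw [hD.inf_eq_bot a ha, Subgroup.mem_bot] at hu1
      rw [hu1, mul_one] at hau
      exact hD.one_not_mem (hau ▸ ha)
    obtain ⟨μ₁, μ₂, h1, h2, hne, heq⟩ :=
      Cfsg.Agent.Lib.helper32.norm_two_degree_zero hθg hnorm hθ1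
    have hconj : Cfsg.conjFun (Cfsg.dadeIsometry A L H α) = - Cfsg.dadeIsometry A L H α := by
      funext g
      simp only [Cfsg.conjFun, Cfsg.dadeIsometry, Pi.neg_apply]
      split_ifs with h
      · simp only [hα, Pi.sub_apply, Cfsg.conjFun]
        simp
      · simp
    have h3 : Cfsg.conjFun μ₁ + μ₁ = μ₂ + Cfsg.conjFun μ₂ := by
      have h4 : Cfsg.conjFun μ₁ - Cfsg.conjFun μ₂ = -(μ₁ - μ₂) := by
        rw [← Cfsg.Agent.Lib.helper32.conjFun_sub, ← heq, hconj]
      have h5 : Cfsg.conjFun μ₁ + μ₁ = (Cfsg.conjFun μ₁ - Cfsg.conjFun μ₂) + Cfsg.conjFun μ₂ + μ₁ := by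
        abel
      rw [h5, h4]
      abel
    have hμ : μ₂ = Cfsg.conjFun μ₁ := by
      by_contra hne2
      have e := congrArg (fun f => Cfsg.classInner f μ₂) h3
      simp only [classInner_add_left] at e
      rw [classInner_irr_ne (irr_conjFun h1) h2 (Ne.symm hne2), classInner_irr_ne h1 h2 hne,
        classInner_irr_self h2, classInner_irr (irr_conjFun h2) h2] at e
      split_ifs at e <;> norm_num at e
    refine ⟨μ₁, h1, ?_⟩
    rw [heq, hμ]

end Cfsg.Agent.S1518
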