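import Cfsg.Statements.S1524
import Mathlib
import Cfsg.Agent.Lib.helper32.Sib5

set_option autoImplicit false
open Cfsg

namespace Cfsg.Agent.S1524

open Cfsg.Agent.Lib.helper32

/-- Let G be a finite group and H ≤ L subgroups with L of odd order, H ≠ ⊥ nilpotent and normal in L with a nontrivial complement W₁ in L (H ⊓ W₁ = ⊥, H ⊔ W₁ = L) acting on H without non-identity fixed points (L is a Frobenius group with kernel H), and suppose the underlying set of H is a TI-subset of G whose normaliser is L. Let S be the set of functions on L induced from the non-principal irreducible characters of H. Then (S, L minus 1, induction to G) is coherent. -/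
theorem result {G : Type*} [Group G] [Fintype G] (H L W₁ : Subgroup G) [Fintype L] (hodd : Odd (Nat.card L)) (hHL : H ≤ L) (hW₁L : W₁ ≤ L) (hH1 : H ≠ ⊥) (hW1 : W₁ ≠ ⊥) (hnil : Group.IsNilpotent H) (hHn : ∀ x ∈ L, ∀ h ∈ H, x * h * x⁻¹ ∈ H) (hinf : H ⊓ W₁ = ⊥) (hsup : H ⊔ W₁ = L) (hfpf : ∀ w ∈ W₁, w ≠ 1 → ∀ h ∈ H, w * h = h * w → h = 1) (hTI : Cfsg.IsTISubset (H : Set G)) (hN : Subgroup.normalizer (H : Set G) = L) : Cfsg.IsCoherent (Cfsg.inducedIrrAbove (H.subgroupOf L) ⊥) {1}ᶜ (fun α : L → ℂ => Cfsg.indFun L α) := by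
  classical
  have hlt : H < L := by
    refine lt_of_le_of_ne hHL ?_
    intro h
    apply hW1
    have h1 : W₁ ≤ H := by rw [h]; exact hW₁L
    rw [← hinf]
    exact (inf_eq_right.mpr h1).symm
  have hcent : ∀ h ∈ H, h ≠ 1 → ∀ x ∈ L, x * h = h * x → x ∈ H := by
    intro h hh hh1 x hx hcomm
    have hW₁N : W₁ ≤ Subgroup.normalizer (H : Set G) := by rw [hN]; exact hW₁L
    rw [← hsup] at hx
    obtain ⟨k, hk, v, hv, rfl⟩ := Cfsg.Agent.Lib.helper72.mem_sup_of_le_normalizer hW₁N hx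
    by_cases hv1 : v = 1
    · rw [hv1, mul_one]; exact hk
    exfalso
    have hf : ∀ u : H, (u : G)⁻¹ * (v * (u : G) * v⁻¹) ∈ H := fun u =>
      H.mul_mem (H.inv_mem u.2) (hHn v (hW₁L hv) u u.2)
    have hinj : Function.Injective
        (fun u : H => (⟨(u : G)⁻¹ * (v * (u : G) * v⁻¹), hf u⟩ : H)) := by
      intro a b hab
      have h1 : (a : G)⁻¹ * (v * (a : G) * v⁻¹) = (b : G)⁻¹ * (v * (b : G) * v⁻¹) :=
        congrArg Subtype.val hab
      have h2 : v * ((b : G) * (a : G)⁻¹) = ((b : G) * (a : G)⁻¹) * v := by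
        have e1 : v * ((b : G) * (a : G)⁻¹)
            = (b : G) * ((b : G)⁻¹ * (v * (b : G) * v⁻¹)) * v * (a : G)⁻¹ := by group
        rw [e1, ← h1]; group
      have h3 := hfpf v hv hv1 ((b : G) * (a : G)⁻¹) (H.mul_mem b.2 (H.inv_mem a.2)) h2
      apply Subtype.ext
      have : (b : G) = ((b : G) * (a : G)⁻¹) * (a : G) := by group
      rw [this, h3, one_mul]
    obtain ⟨u, hu⟩ := (Finite.injective_iff_surjective.mp hinj) ⟨k, hk⟩
    have hu' : (u : G)⁻¹ * (v * (u : G) * v⁻¹) = k := congrArg Subtype.val hu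
    have h4 : v * ((u : G) * h * (u : G)⁻¹) = ((u : G) * h * (u : G)⁻¹) * v := by
      have e1 : k * v = (u : G)⁻¹ * v * (u : G) := by rw [← hu']; group
      rw [e1] at hcomm
      have e2 : v * ((u : G) * h * (u : G)⁻¹)
          = (u : G) * (((u : G)⁻¹ * v * (u : G)) * h) * (u : G)⁻¹ := by group
      rw [e2, hcomm]; group
    have h5 := hfpf v hv hv1 _ (hHn u (hHL u.2) h hh) h4
    apply hh1
    have : h = (u : G)⁻¹ * ((u : G) * h * (u : G)⁻¹) * (u : G) := by group
    rw [this, h5]; group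
  exact sibley ⟨hlt, hH1, hHn, hcent, hTI, hN⟩ hodd hnil

end Cfsg.Agent.S1524
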