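import Cfsg.Statements.S1525
import Mathlib
import Cfsg.Agent.Lib.helper32.Dade2

set_option autoImplicit false
open Cfsg

namespace Cfsg.Agent.S1525

open Cfsg.Agent.Lib.helper32 in
open Classical in
/-- Under the Dade hypothesis for (A, L, H), let χ be a class function of G and let ψ be a function on L whose value at each a ∈ A is the average of χ over the coset a·H(a). Then (1/|G|) Σ |χ g|² over the elements g of G conjugate into some coset a·H(a) with a ∈ A is at least (1/|L|) Σ_{a ∈ A ∩ L} |ψ a|². -/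
theorem result {G : Type*} [Group G] [Fintype G] (A : Set G) (L : Subgroup G) [Fintype L] (H : G → Subgroup G) (hD : Cfsg.DadeHypothesis A L H) (χ : G → ℂ) (hχ : Cfsg.IsClassFunction G χ) (ψ : L → ℂ) (hψ : ∀ a : L, (a : G) ∈ A → ψ a = (Nat.card (H a) : ℂ)⁻¹ * ∑ᶠ u ∈ (H a : Set G), χ (a * u)) : (Nat.card L : ℝ)⁻¹ * ∑ᶠ a ∈ {a : L | (a : G) ∈ A}, ‖ψ a‖ ^ 2 ≤ (Nat.card G : ℝ)⁻¹ * ∑ᶠ g ∈ {g : G | ∃ a ∈ A, ∃ u ∈ H a, ∃ x : G, x * g * x⁻¹ = a * u}, ‖χ g‖ ^ 2 := by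
  have hG : (Nat.card G : ℝ) ≠ 0 := by exact_mod_cast Nat.card_pos.ne'
  have hL : (0 : ℝ) ≤ (Nat.card L : ℝ)⁻¹ := by positivity
  have hF : ∀ g h : G, (fun g => ‖χ g‖ ^ 2) (h * g * h⁻¹) = (fun g => ‖χ g‖ ^ 2) g := by
    intro g h
    simp only [hχ g h]
  have hsum := dade_sum_eq (K := ℝ) A L H hD (fun g => ‖χ g‖ ^ 2) hF
  have keyR : (Nat.card G : ℝ)⁻¹ * ∑ᶠ g ∈ {g : G | ∃ a ∈ A, ∃ u ∈ H a, ∃ x : G, x * g * x⁻¹ = a * u}, ‖χ g‖ ^ 2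
      = (Nat.card L : ℝ)⁻¹ *
        ∑ a : L, (if (a : G) ∈ A then
          (Nat.card (H (a : G)) : ℝ)⁻¹ * ∑ u : G, (if u ∈ H (a : G) then ‖χ ((a : G) * u)‖ ^ 2 else 0)
          else 0) := by
    rw [finsum_mem_eq_sum_ite']
    have e : ∀ (S : Finset G) (f : G → ℝ),
        (∀ g : G, f g = if (∃ a ∈ A, ∃ u ∈ H a, ∃ x : G, x * g * x⁻¹ = a * u) then ‖χ g‖ ^ 2 else 0) →
        ∑ g ∈ S, f g = ∑ g ∈ S, (if (∃ a ∈ A, ∃ u ∈ H a, ∃ x : G, x * g * x⁻¹ = a * u) then (fun g => ‖χ g‖ ^ 2) g else 0) := by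
      intro S f hf
      exact Finset.sum_congr rfl (fun g _ => hf g)
    rw [e Finset.univ _ (fun g => by
      by_cases hg : ∃ a ∈ A, ∃ u ∈ H a, ∃ x : G, x * g * x⁻¹ = a * u
      · rw [if_pos hg, if_pos]
        exact hg
      · rw [if_neg hg, if_neg]
        exact hg), hsum]
    field_simp
  have keyL : ∑ᶠ a ∈ {a : L | (a : G) ∈ A}, ‖ψ a‖ ^ 2
      = ∑ a : L, (if (a : G) ∈ A then ‖ψ a‖ ^ 2 else 0) := by
    rw [finsum_mem_eq_sum_ite']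
    apply Finset.sum_congr rfl
    intro a _
    by_cases ha : (a : G) ∈ A
    · rw [if_pos ha, if_pos]
      exact ha
    · rw [if_neg ha, if_neg]
      exact ha
  rw [keyR, keyL]
  apply mul_le_mul_of_nonneg_left _ hL
  apply Finset.sum_le_sum
  intro a _
  by_cases ha : (a : G) ∈ A
  · rw [if_pos ha, if_pos ha, hψ a ha, finsum_mem_eq_sum_ite']
    set S : Finset G := Finset.univ.filter (fun u : G => u ∈ H (a : G)) with hS
    have hcard : S.card = Nat.card (H (a : G)) := by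
      rw [Nat.card_eq_fintype_card, ← Fintype.card_subtype]
    have hn : (0 : ℝ) < (Nat.card (H (a : G)) : ℝ) := by exact_mod_cast Nat.card_pos
    have e1 : ∑ u : G, (if u ∈ ((H (a : G) : Subgroup G) : Set G) then χ ((a : G) * u) else 0)
        = ∑ u ∈ S, χ ((a : G) * u) := by
      rw [hS, Finset.sum_filter]
      rfl
    have e2 : ∑ u : G, (if u ∈ H (a : G) then ‖χ ((a : G) * u)‖ ^ 2 else 0)
        = ∑ u ∈ S, ‖χ ((a : G) * u)‖ ^ 2 := by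
      rw [hS, Finset.sum_filter]
    rw [e1, e2, norm_mul, norm_inv, Complex.norm_natCast, mul_pow]
    have h1 : ‖∑ u ∈ S, χ ((a : G) * u)‖ ≤ ∑ u ∈ S, ‖χ ((a : G) * u)‖ := norm_sum_le _ _
    have h2 : (∑ u ∈ S, ‖χ ((a : G) * u)‖) ^ 2 ≤ (S.card : ℝ) * ∑ u ∈ S, ‖χ ((a : G) * u)‖ ^ 2 :=
      sq_sum_le_card_mul_sum_sq
    have h3 : ‖∑ u ∈ S, χ ((a : G) * u)‖ ^ 2 ≤ (Nat.card (H (a : G)) : ℝ) * ∑ u ∈ S, ‖χ ((a : G) * u)‖ ^ 2 := by
      rw [← hcard]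
      refine le_trans ?_ h2
      exact pow_le_pow_left₀ (norm_nonneg _) h1 2
    calc ((Nat.card (H (a : G)) : ℝ)⁻¹) ^ 2 * ‖∑ u ∈ S, χ ((a : G) * u)‖ ^ 2
        ≤ ((Nat.card (H (a : G)) : ℝ)⁻¹) ^ 2 * ((Nat.card (H (a : G)) : ℝ) * ∑ u ∈ S, ‖χ ((a : G) * u)‖ ^ 2) := by
          apply mul_le_mul_of_nonneg_left h3
          positivity
      _ = (Nat.card (H (a : G)) : ℝ)⁻¹ * ∑ u ∈ S, ‖χ ((a : G) * u)‖ ^ 2 := by
          field_simp
  · rw [if_neg ha, if_neg ha]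

end Cfsg.Agent.S1525
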