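import Cfsg.Statements.S1527
import Mathlib

set_option autoImplicit false
open Cfsg

namespace Cfsg.Agent.S1527

theorem card_ne_one {G : Type*} [Group G] [Finite G] :
    Nat.card {g : G // g ≠ 1} = Nat.card G - 1 := by
  classical
  have : Fintype G := Fintype.ofFinite G
  rw [Nat.card_eq_fintype_card, Nat.card_eq_fintype_card]
  exact Set.card_ne_eq (1 : G)

/-- Let G be a finite group and H i (i in a finite index type) subgroups of pairwise coprime orders, each of whose underlying sets is a TI-subset of G, such that every non-identity element of G is conjugate to an element of some H i. Then Nat.card G − 1 = Σ_i [G : N_G(H i)] · (Nat.card (H i) − 1). -/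
theorem result {G : Type*} [Group G] [Finite G] {ι : Type*} [Fintype ι] (H : ι → Subgroup G) (hcop : ∀ i j, i ≠ j → Nat.Coprime (Nat.card (H i)) (Nat.card (H j))) (hTI : ∀ i, Cfsg.IsTISubset (H i : Set G)) (hcover : ∀ g : G, g ≠ 1 → ∃ i, ∃ x : G, x * g * x⁻¹ ∈ H i) : Nat.card G - 1 = ∑ i, (Subgroup.normalizer (H i : Set G)).index * (Nat.card (H i) - 1) := by
  classical
  let T := Σ i : ι, (G ⧸ Subgroup.normalizer (H i : Set G)) × {h : H i // h ≠ 1}
  let Φ : T → {g : G // g ≠ 1} := fun t =>
    ⟨t.2.1.out * (t.2.2.1 : G) * t.2.1.out⁻¹, by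
      intro h
      apply t.2.2.2
      have h2 : (t.2.2.1 : G) = 1 := by
        have := congrArg (fun z => t.2.1.out⁻¹ * z * t.2.1.out) h
        simpa [mul_assoc] using this
      exact Subtype.ext h2⟩
  have hΦ : Function.Bijective Φ := by
    constructor
    · rintro ⟨i, q, h, hh⟩ ⟨j, q', h', hh'⟩ heq
      have heq' : q.out * (h : G) * q.out⁻¹ = q'.out * (h' : G) * q'.out⁻¹ :=
        congrArg Subtype.val heq
      have hij : i = j := by
        by_contra hne
        have h1 : orderOf (h : G) ∣ Nat.card (H i) := Subgroup.orderOf_dvd_natCard (H i) h.2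
        have h2 : orderOf (h' : G) ∣ Nat.card (H j) := Subgroup.orderOf_dvd_natCard (H j) h'.2
        have h3 : orderOf (h : G) = orderOf (h' : G) := by
          have e1 : orderOf (q.out * (h : G) * q.out⁻¹) = orderOf (h : G) := by
            rw [← MulAut.conj_apply]; exact MulEquiv.orderOf_eq _ _
          have e2 : orderOf (q'.out * (h' : G) * q'.out⁻¹) = orderOf (h' : G) := by
            rw [← MulAut.conj_apply]; exact MulEquiv.orderOf_eq _ _
          rw [← e1, ← e2, heq']
        rw [← h3] at h2
        have h4 := Nat.dvd_gcd h1 h2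
        rw [hcop i j hne] at h4
        have h5 : (h : G) = 1 := orderOf_eq_one_iff.mp (Nat.dvd_one.mp h4)
        exact hh (Subtype.ext h5)
      subst hij
      have hq : q = q' := by
        have hconj : (q'.out⁻¹ * q.out) * (h : G) * (q'.out⁻¹ * q.out)⁻¹ = (h' : G) := by
          have := congrArg (fun z => q'.out⁻¹ * z * q'.out) heq'
          simpa [mul_assoc] using this
        have hmem : q'.out⁻¹ * q.out ∈ Subgroup.normalizer (H i : Set G) := by
          by_contra hn
          have := hTI i _ hn (h : G) h.2 (by rw [hconj]; exact h'.2)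
          exact hh (Subtype.ext this)
        have : (QuotientGroup.mk q'.out : G ⧸ Subgroup.normalizer (H i : Set G)) =
            QuotientGroup.mk q.out := QuotientGroup.eq.mpr hmem
        rw [QuotientGroup.out_eq', QuotientGroup.out_eq'] at this
        exact this.symm
      subst hq
      have hh2 : (h : G) = (h' : G) := by
        have := congrArg (fun z => q.out⁻¹ * z * q.out) heq'
        simpa [mul_assoc] using this
      have hh3 : h = h' := Subtype.ext hh2
      subst hh3
      rfl
    · rintro ⟨g, hg⟩
      obtain ⟨i, x, hx⟩ := hcover g hg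
      obtain ⟨n, hn⟩ := QuotientGroup.mk_out_eq_mul (Subgroup.normalizer (H i : Set G)) x⁻¹
      set q : G ⧸ Subgroup.normalizer (H i : Set G) := QuotientGroup.mk x⁻¹ with hq
      have hmem : q.out⁻¹ * g * q.out ∈ H i := by
        rw [hn]
        have h1 : (n : G)⁻¹ ∈ Subgroup.normalizer (H i : Set G) := inv_mem n.2
        have h2 := (Subgroup.mem_set_normalizer_iff.mp h1 (x * g * x⁻¹)).mp hx
        have h3 : (x⁻¹ * (n : G))⁻¹ * g * (x⁻¹ * (n : G)) = (n : G)⁻¹ * (x * g * x⁻¹) * (n : G)⁻¹⁻¹ := by
          simp [mul_assoc]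
        rw [h3]
        exact h2
      have hne : (⟨q.out⁻¹ * g * q.out, hmem⟩ : H i) ≠ 1 := by
        intro h
        have h2 : q.out⁻¹ * g * q.out = 1 := congrArg Subtype.val h
        apply hg
        have := congrArg (fun z => q.out * z * q.out⁻¹) h2
        simpa [mul_assoc] using this
      refine ⟨⟨i, q, ⟨⟨q.out⁻¹ * g * q.out, hmem⟩, hne⟩⟩, ?_⟩
      apply Subtype.ext
      show q.out * (q.out⁻¹ * g * q.out) * q.out⁻¹ = g
      simp [mul_assoc]
  have hcard : Nat.card T = Nat.card {g : G // g ≠ 1} := Nat.card_congr (Equiv.ofBijective Φ hΦ)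
  rw [← card_ne_one, ← hcard, Nat.card_sigma]
  apply Finset.sum_congr rfl
  intro i _
  rw [Nat.card_prod]
  congr 1
  have : Nat.card {h : H i // h ≠ 1} = Nat.card (H i) - 1 := card_ne_one
  exact this

end Cfsg.Agent.S1527
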