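import Cfsg.Statements.S1529
import Mathlib
import Cfsg.Agent.Lib.helper4.CharDecomp
import Cfsg.Agent.Lib.helper32.Coh

set_option autoImplicit false
open Cfsg

namespace Cfsg.Agent.S1529

open Cfsg.Agent.Lib.helper4 Cfsg.Agent.Lib.helper32

/-- Let N be a subgroup of the finite group G, S a set of irreducible characters of N with at least two members, and τ₁ a linear isometry on the integer combinations of S with virtual-character values such that τ₁ α vanishes at 1 whenever α ∈ ℤ[S] does. Then there is ε ∈ {1, −1} such that ε • τ₁ χ is an irreducible character of G for every χ ∈ S, and distinct members of S give distinct characters. -/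
theorem result {G : Type*} [Group G] [Fintype G] (N : Subgroup G) [Fintype N] (S : Set (N → ℂ)) (hirr : ∀ χ ∈ S, Cfsg.IsIrrCharacter N χ) (htwo : ∃ χ ∈ S, ∃ ψ ∈ S, χ ≠ ψ) (τ₁ : (N → ℂ) → (G → ℂ)) (hτ₁ : Cfsg.IsLinearIsometryOn (Cfsg.zspan S) τ₁) (h0 : ∀ α ∈ Cfsg.zspan S, α 1 = 0 → τ₁ α 1 = 0) : ∃ ε : ℂ, (ε = 1 ∨ ε = -1) ∧ (∀ χ ∈ S, Cfsg.IsIrrCharacter G (ε • τ₁ χ)) ∧ (∀ χ ∈ S, ∀ ψ ∈ S, τ₁ χ = τ₁ ψ → χ = ψ) := by
  classical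
  have hτ : Cfsg.IsLinearIsometryOn
      ((Submodule.span ℤ S : Submodule ℤ (N → ℂ)) : Set (N → ℂ)) τ₁ := hτ₁
  have hmem : ∀ χ ∈ S, χ ∈ (Submodule.span ℤ S : Submodule ℤ (N → ℂ)) :=
    fun χ hχ => Submodule.subset_span hχ
  have hnorm : ∀ χ ∈ S, Cfsg.classInner (τ₁ χ) (τ₁ χ) = 1 := by
    intro χ hχ
    rw [lio_inner hτ (hmem χ hχ) (hmem χ hχ)]
    exact classInner_irr_self (hirr χ hχ)
  have hdeg : ∀ χ ∈ S, ∃ k : ℤ, k ≠ 0 ∧ τ₁ χ 1 = k ∧ (0 < k → Cfsg.IsIrrCharacter G (τ₁ χ)) ∧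
      (k < 0 → Cfsg.IsIrrCharacter G (-τ₁ χ)) :=
    fun χ hχ => norm_one_degree (lio_gen hτ (hmem χ hχ)) (hnorm χ hχ)
  have hrel : ∀ χ ∈ S, ∀ ψ ∈ S, ∀ n m : ℕ, χ 1 = n → ψ 1 = m →
      (m : ℂ) * τ₁ χ 1 = (n : ℂ) * τ₁ ψ 1 := by
    intro χ hχ ψ hψ n m hn hm
    have h1 : ((m : ℤ) • χ - (n : ℤ) • ψ) ∈ (Submodule.span ℤ S : Submodule ℤ (N → ℂ)) :=
      Submodule.sub_mem _ (Submodule.smul_mem _ _ (hmem χ hχ)) (Submodule.smul_mem _ _ (hmem ψ hψ))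
    have h2 : ((m : ℤ) • χ - (n : ℤ) • ψ) 1 = 0 := by
      simp [hn, hm]; ring
    have h3 := h0 _ h1 h2
    rw [lio_sub hτ (Submodule.smul_mem _ _ (hmem χ hχ)) (Submodule.smul_mem _ _ (hmem ψ hψ)),
      lio_zsmul hτ (hmem χ hχ), lio_zsmul hτ (hmem ψ hψ)] at h3
    simp at h3
    linear_combination h3
  have hsign : ∀ χ ∈ S, ∀ ψ ∈ S, ∀ k l : ℤ, τ₁ χ 1 = k → τ₁ ψ 1 = l → 0 < k → 0 < l := by
    intro χ hχ ψ hψ k l hk hl hpos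
    obtain ⟨n, hn, hn'⟩ := exists_pos_nat_degree (hirr χ hχ)
    obtain ⟨m, hm, hm'⟩ := exists_pos_nat_degree (hirr ψ hψ)
    have h := hrel χ hχ ψ hψ n m hn' hm'
    rw [hk, hl] at h
    have h' : (m : ℤ) * k = (n : ℤ) * l := by exact_mod_cast h
    have hn0 : (0 : ℤ) < n := by exact_mod_cast hn
    have hm0 : (0 : ℤ) < m := by exact_mod_cast hm
    by_contra hl0
    have hl0' : l ≤ 0 := not_lt.mp hl0
    nlinarith [mul_pos hm0 hpos, mul_nonneg hn0.le (neg_nonneg.mpr hl0')]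
  have hinj : ∀ χ ∈ S, ∀ ψ ∈ S, τ₁ χ = τ₁ ψ → χ = ψ := by
    intro χ hχ ψ hψ h
    by_contra hne
    have h1 := lio_inner hτ (hmem χ hχ) (hmem ψ hψ)
    rw [← h, hnorm χ hχ, classInner_irr_ne (hirr χ hχ) (hirr ψ hψ) hne] at h1
    exact one_ne_zero h1
  obtain ⟨χ₀, hχ₀, -⟩ := htwo
  obtain ⟨k₀, hk₀, hk₀', -, -⟩ := hdeg χ₀ hχ₀
  rcases lt_or_gt_of_ne hk₀ with hneg | hpos
  · refine ⟨-1, Or.inr rfl, ?_, hinj⟩
    intro χ hχ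
    obtain ⟨k, hk, hk', -, hkneg⟩ := hdeg χ hχ
    rw [neg_one_smul]
    apply hkneg
    by_contra hcon
    have hkpos : 0 < k := lt_of_le_of_ne (not_lt.mp hcon) (Ne.symm hk)
    have := hsign χ hχ χ₀ hχ₀ k k₀ hk' hk₀' hkpos
    omega
  · refine ⟨1, Or.inl rfl, ?_, hinj⟩
    intro χ hχ
    obtain ⟨k, hk, hk', hkpos, -⟩ := hdeg χ hχ
    rw [one_smul]
    exact hkpos (hsign χ₀ hχ₀ χ hχ k₀ k hk₀' hk' hpos)

end Cfsg.Agent.S1529
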