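import Cfsg.Statements.S1530
import Mathlib
import Cfsg.Agent.Lib.helper4.CharDecomp
import Cfsg.Agent.Lib.helper32.Coh
import Cfsg.Agent.Lib.helper32.Coh3
import Cfsg.Agent.Lib.helper32.Coh4

set_option autoImplicit false
open Cfsg

namespace Cfsg.Agent.S1530

open Cfsg.Agent.Lib.helper4 Cfsg.Agent.Lib.helper32

/-- Let N be a subgroup of the finite group G and S₀ a finite set of irreducible characters of N, χ an irreducible character of N not in S₀, with degrees ξ 1 = d ξ. Let τ be a linear isometry on the integer combinations of S₀ ∪ {χ} vanishing at 1, with values virtual characters of G vanishing at 1, such that (S₀, N minus 1, τ) is coherent. If some ψ ∈ S₀ has d ψ dividing d χ and 2 · d ψ · d χ < Σ_{ξ ∈ S₀} (d ξ)², then (S₀ ∪ {χ}, N minus 1, τ) is coherent. -/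
theorem result {G : Type*} [Group G] [Fintype G] (N : Subgroup G) [Fintype N] (S₀ : Finset (N → ℂ)) (χ : N → ℂ) (hirr : ∀ ξ ∈ S₀, Cfsg.IsIrrCharacter N ξ) (hχ : Cfsg.IsIrrCharacter N χ) (hχS : χ ∉ S₀) (d : (N → ℂ) → ℕ) (hd : ∀ ξ ∈ insert χ S₀, ξ 1 = (d ξ : ℂ)) (τ : (N → ℂ) → (G → ℂ)) (hτ : Cfsg.IsLinearIsometryOn (Cfsg.zspanOn (↑(insert χ S₀) : Set (N → ℂ)) {1}ᶜ) τ) (hτ1 : ∀ α ∈ Cfsg.zspanOn (↑(insert χ S₀) : Set (N → ℂ)) {1}ᶜ, τ α 1 = 0) (hcoh : Cfsg.IsCoherent (↑S₀ : Set (N → ℂ)) {1}ᶜ τ) (ψ : N → ℂ) (hψ : ψ ∈ S₀) (hdvd : d ψ ∣ d χ) (hlt : 2 * d ψ * d χ < ∑ ξ ∈ S₀, d ξ ^ 2) : Cfsg.IsCoherent (↑(insert χ S₀) : Set (N → ℂ)) {1}ᶜ τ := by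
  classical
  obtain ⟨⟨α₀, hα₀, hα₀ne⟩, τ₁, hτ₁, hagree⟩ := hcoh
  have hS₀S : (↑S₀ : Set (N → ℂ)) ⊆ (↑(insert χ S₀) : Set (N → ℂ)) := by
    intro x hx
    rw [Finset.coe_insert]
    exact Set.mem_insert_of_mem _ hx
  have hχS' : χ ∈ (↑(insert χ S₀) : Set (N → ℂ)) := by
    rw [Finset.coe_insert]
    exact Set.mem_insert _ _
  have hτ₁' : Cfsg.IsLinearIsometryOn
      ((Submodule.span ℤ (↑S₀ : Set (N → ℂ)) : Submodule ℤ (N → ℂ)) : Set (N → ℂ)) τ₁ := hτ₁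
  have hτ' : Cfsg.IsLinearIsometryOn
      ((zspanOnSub (↑(insert χ S₀) : Set (N → ℂ)) {1}ᶜ : Submodule ℤ (N → ℂ)) : Set (N → ℂ)) τ := hτ
  have hm : ∀ ξ ∈ S₀, ξ ∈ (Submodule.span ℤ (↑S₀ : Set (N → ℂ)) : Submodule ℤ (N → ℂ)) :=
    fun ξ hξ => Submodule.subset_span (Finset.mem_coe.mpr hξ)
  have hdψ : ψ 1 = (d ψ : ℂ) := hd ψ (Finset.mem_insert_of_mem hψ)
  have hdχ : χ 1 = (d χ : ℂ) := hd χ (Finset.mem_insert_self _ _)
  have hdψpos : 0 < d ψ := by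
    obtain ⟨n, hn, h⟩ := exists_pos_nat_degree (hirr ψ hψ)
    rw [hdψ] at h
    have : d ψ = n := by exact_mod_cast h
    omega
  have hdχpos : 0 < d χ := by
    obtain ⟨n, hn, h⟩ := exists_pos_nat_degree hχ
    rw [hdχ] at h
    have : d χ = n := by exact_mod_cast h
    omega
  obtain ⟨a, ha⟩ := hdvd
  have hapos : 0 < a := by
    rcases Nat.eq_zero_or_pos a with h | h
    · rw [h] at ha; omega
    · exact h
  have hχψ : χ ≠ ψ := fun h => hχS (h ▸ hψ)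
  have hχne : ∀ ξ ∈ S₀, χ ≠ ξ := fun ξ hξ h => hχS (h ▸ hξ)
  have hβspan : (χ - (a : ℤ) • ψ) ∈ Cfsg.zspan (↑(insert χ S₀) : Set (N → ℂ)) :=
    zspan_sub_mem (mem_zspan_of_mem hχS') (zspan_zsmul_mem (mem_zspan_of_mem (hS₀S hψ)) _)
  have hβ1 : (χ - (a : ℤ) • ψ) 1 = 0 := by
    simp [hdχ, hdψ, ha]; ring
  have hβS : (χ - (a : ℤ) • ψ) ∈ Cfsg.zspanOn (↑(insert χ S₀) : Set (N → ℂ)) {1}ᶜ :=
    mem_zspanOn_compl_one hβspan hβ1
  have hββ : Cfsg.classInner (χ - (a : ℤ) • ψ) (χ - (a : ℤ) • ψ) = ((1 + (a : ℤ) ^ 2 : ℤ) : ℂ) := by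
    rw [classInner_sub_left, classInner_sub_right, classInner_sub_right, classInner_zsmul_left,
      classInner_zsmul_right, classInner_zsmul_right, classInner_zsmul_left,
      classInner_irr_self hχ, classInner_irr_self (hirr ψ hψ),
      classInner_irr_ne hχ (hirr ψ hψ) hχψ, classInner_irr_ne (hirr ψ hψ) hχ (Ne.symm hχψ)]
    push_cast
    ring
  have hτββ : Cfsg.classInner (τ (χ - (a : ℤ) • ψ)) (τ (χ - (a : ℤ) • ψ)) =
      ((1 + (a : ℤ) ^ 2 : ℤ) : ℂ) := by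
    rw [lio_inner hτ' hβS hβS, hββ]
  have horthn : ∀ ξ ∈ S₀, ∀ ξ' ∈ S₀,
      Cfsg.classInner (τ₁ ξ) (τ₁ ξ') = if ξ = ξ' then 1 else 0 := by
    intro ξ hξ ξ' hξ'
    rw [lio_inner hτ₁' (hm ξ hξ) (hm ξ' hξ')]
    exact classInner_irr (hirr ξ hξ) (hirr ξ' hξ')
  have hint : ∀ ξ ∈ S₀, ∃ k : ℤ, Cfsg.classInner (τ (χ - (a : ℤ) • ψ)) (τ₁ ξ) = k :=
    fun ξ hξ => exists_int_classInner (lio_gen hτ' hβS) (lio_gen hτ₁' (hm ξ hξ))
  choose! cz hcz using hint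
  have hI1 : ∑ ξ ∈ S₀, cz ξ ^ 2 ≤ 1 + (a : ℤ) ^ 2 := by
    have h := bessel_le S₀ τ₁ (τ (χ - (a : ℤ) • ψ)) cz horthn hcz
    rw [hτββ, Complex.intCast_re] at h
    exact_mod_cast h
  have hγ : ∀ ξ ∈ S₀, (d ψ : ℂ) * τ₁ ξ 1 = (d ξ : ℂ) * τ₁ ψ 1 ∧
      (ξ ≠ ψ → (d ψ : ℤ) * cz ξ = (d ξ : ℤ) * ((a : ℤ) + cz ψ)) := by
    intro ξ hξ
    have hdξ : ξ 1 = (d ξ : ℂ) := hd ξ (Finset.mem_insert_of_mem hξ)
    have hγm : ((d ψ : ℤ) • ξ - (d ξ : ℤ) • ψ) ∈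
        (Submodule.span ℤ (↑S₀ : Set (N → ℂ)) : Submodule ℤ (N → ℂ)) :=
      Submodule.sub_mem _ (Submodule.smul_mem _ _ (hm ξ hξ)) (Submodule.smul_mem _ _ (hm ψ hψ))
    have hγ1 : ((d ψ : ℤ) • ξ - (d ξ : ℤ) • ψ) 1 = 0 := by
      simp [hdξ, hdψ]; ring
    have hγS₀ : ((d ψ : ℤ) • ξ - (d ξ : ℤ) • ψ) ∈ Cfsg.zspanOn (↑S₀ : Set (N → ℂ)) {1}ᶜ :=
      mem_zspanOn_compl_one hγm hγ1
    have hγS : ((d ψ : ℤ) • ξ - (d ξ : ℤ) • ψ) ∈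
        Cfsg.zspanOn (↑(insert χ S₀) : Set (N → ℂ)) {1}ᶜ := zspanOn_mono hS₀S _ hγS₀
    have hτγ : τ ((d ψ : ℤ) • ξ - (d ξ : ℤ) • ψ) = (d ψ : ℤ) • τ₁ ξ - (d ξ : ℤ) • τ₁ ψ := by
      rw [← hagree _ hγS₀, lio_sub hτ₁' (Submodule.smul_mem _ _ (hm ξ hξ))
        (Submodule.smul_mem _ _ (hm ψ hψ)), lio_zsmul hτ₁' (hm ξ hξ), lio_zsmul hτ₁' (hm ψ hψ)]
    constructor
    · have h := hτ1 _ hγS
      rw [hτγ] at h
      simp only [Pi.sub_apply, Pi.smul_apply] at h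
      simp only [zsmul_eq_mul] at h
      push_cast at h
      linear_combination h
    · intro hne
      have h := lio_inner hτ' hβS hγS
      simp only [hτγ, classInner_sub_right, classInner_sub_left, classInner_zsmul_right,
        classInner_zsmul_left, hcz ξ hξ, hcz ψ hψ,
        classInner_irr_ne hχ (hirr ξ hξ) (hχne ξ hξ),
        classInner_irr_ne hχ (hirr ψ hψ) hχψ,
        classInner_irr_ne (hirr ψ hψ) (hirr ξ hξ) (Ne.symm hne),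
        classInner_irr_self (hirr ψ hψ)] at h
      have h' : (((d ψ : ℤ) * cz ξ : ℤ) : ℂ) = (((d ξ : ℤ) * ((a : ℤ) + cz ψ) : ℤ) : ℂ) := by
        push_cast
        push_cast at h
        linear_combination h
      exact_mod_cast h'
  -- integer arithmetic
  have hDpos : (0 : ℤ) < (d ψ : ℤ) := by exact_mod_cast hdψpos
  have hApos : (1 : ℤ) ≤ (a : ℤ) := by exact_mod_cast hapos
  have hlt' : 2 * (d ψ : ℤ) * ((d ψ : ℤ) * (a : ℤ)) < ∑ ξ ∈ S₀, (d ξ : ℤ) ^ 2 := by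
    rw [ha] at hlt
    exact_mod_cast hlt
  rw [← Finset.add_sum_erase S₀ _ hψ] at hlt'
  have hsum : (d ψ : ℤ) ^ 2 * ∑ ξ ∈ S₀, cz ξ ^ 2 =
      (d ψ : ℤ) ^ 2 * cz ψ ^ 2 + ((a : ℤ) + cz ψ) ^ 2 * ∑ ξ ∈ S₀.erase ψ, (d ξ : ℤ) ^ 2 := by
    rw [← Finset.add_sum_erase S₀ _ hψ, mul_add, Finset.mul_sum, Finset.mul_sum]
    congr 1
    apply Finset.sum_congr rfl
    intro ξ hξ
    have h := (hγ ξ (Finset.mem_of_mem_erase hξ)).2 (Finset.ne_of_mem_erase hξ)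
    calc (d ψ : ℤ) ^ 2 * cz ξ ^ 2 = ((d ψ : ℤ) * cz ξ) ^ 2 := by ring
      _ = ((a : ℤ) + cz ψ) ^ 2 * (d ξ : ℤ) ^ 2 := by rw [h]; ring
  have hsum2 : (d ψ : ℤ) * ∑ ξ ∈ S₀, cz ξ * (d ξ : ℤ) =
      (d ψ : ℤ) ^ 2 * cz ψ + ((a : ℤ) + cz ψ) * ∑ ξ ∈ S₀.erase ψ, (d ξ : ℤ) ^ 2 := by
    rw [← Finset.add_sum_erase S₀ _ hψ, mul_add, Finset.mul_sum, Finset.mul_sum]
    congr 1
    · ring
    apply Finset.sum_congr rfl
    intro ξ hξ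
    have h := (hγ ξ (Finset.mem_of_mem_erase hξ)).2 (Finset.ne_of_mem_erase hξ)
    calc (d ψ : ℤ) * (cz ξ * (d ξ : ℤ)) = ((d ψ : ℤ) * cz ξ) * (d ξ : ℤ) := by ring
      _ = ((a : ℤ) + cz ψ) * (d ξ : ℤ) ^ 2 := by rw [h]; ring
  have hEnn : (0 : ℤ) ≤ ∑ ξ ∈ S₀.erase ψ, (d ξ : ℤ) ^ 2 := Finset.sum_nonneg fun ξ _ => by positivity
  have hI1' : (d ψ : ℤ) ^ 2 * cz ψ ^ 2 + ((a : ℤ) + cz ψ) ^ 2 * ∑ ξ ∈ S₀.erase ψ, (d ξ : ℤ) ^ 2 ≤
      (d ψ : ℤ) ^ 2 * (1 + (a : ℤ) ^ 2) := by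
    rw [← hsum]
    exact mul_le_mul_of_nonneg_left hI1 (by positivity)
  have hτ₁ψ1 : τ₁ ψ 1 ≠ 0 := by
    apply signed_irr_degree_ne_zero
    apply isIrrCharacter_or_neg_of_norm_one (lio_gen hτ₁' (hm ψ hψ))
    rw [lio_inner hτ₁' (hm ψ hψ) (hm ψ hψ)]
    exact classInner_irr_self (hirr ψ hψ)
  have ht0 : (a : ℤ) + cz ψ = 0 := by
    by_contra ht
    have ht2 : 1 ≤ ((a : ℤ) + cz ψ) ^ 2 := by
      have : 0 < ((a : ℤ) + cz ψ) ^ 2 := by positivity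
      omega
    -- t = 1
    have ht1 : (a : ℤ) + cz ψ = 1 := by
      have h1 : ((a : ℤ) + cz ψ) ^ 2 * (2 * (d ψ : ℤ) * ((d ψ : ℤ) * (a : ℤ)) - (d ψ : ℤ) ^ 2 + 1) ≤
          ((a : ℤ) + cz ψ) ^ 2 * ∑ ξ ∈ S₀.erase ψ, (d ξ : ℤ) ^ 2 :=
        mul_le_mul_of_nonneg_left (by linarith) (by positivity)
      have h2 : (d ψ : ℤ) ^ 2 * (2 * (a : ℤ) * (((a : ℤ) + cz ψ) * ((a : ℤ) + cz ψ - 1)) - 1) < 0 := by
        nlinarith
      have h3 : 2 * (a : ℤ) * (((a : ℤ) + cz ψ) * ((a : ℤ) + cz ψ - 1)) - 1 < 0 := by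
        by_contra h
        push Not at h
        have : 0 ≤ (d ψ : ℤ) ^ 2 * (2 * (a : ℤ) * (((a : ℤ) + cz ψ) * ((a : ℤ) + cz ψ - 1)) - 1) :=
          mul_nonneg (by positivity) h
        linarith
      have h4 : ((a : ℤ) + cz ψ) * ((a : ℤ) + cz ψ - 1) ≤ 0 := by
        by_contra h
        push Not at h
        nlinarith
      have h5 : 0 ≤ (a : ℤ) + cz ψ := by
        by_contra h
        push Not at h
        nlinarith
      have h6 : (a : ℤ) + cz ψ ≤ 1 := by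
        by_contra h
        push Not at h
        nlinarith
      omega
    have hc : cz ψ = 1 - (a : ℤ) := by linarith
    have hnorm : ∑ ξ ∈ S₀, cz ξ ^ 2 = 1 + (a : ℤ) ^ 2 := by
      apply le_antisymm hI1
      by_contra h
      push Not at h
      have h1 : ∑ ξ ∈ S₀, cz ξ ^ 2 ≤ (a : ℤ) ^ 2 := by omega
      have h2 : (d ψ : ℤ) ^ 2 * ∑ ξ ∈ S₀, cz ξ ^ 2 ≤ (d ψ : ℤ) ^ 2 * (a : ℤ) ^ 2 :=
        mul_le_mul_of_nonneg_left h1 (by positivity)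
      rw [hsum, ht1, hc] at h2
      nlinarith
    have hexp := bessel_eq S₀ τ₁ (τ (χ - (a : ℤ) • ψ)) cz horthn hcz (by rw [hτββ, hnorm])
    have h1 := hτ1 _ hβS
    rw [hexp] at h1
    simp only [Finset.sum_apply, Pi.smul_apply, smul_eq_mul] at h1
    have h2 : τ₁ ψ 1 * (((d ψ : ℤ) * ∑ ξ ∈ S₀, cz ξ * (d ξ : ℤ) : ℤ) : ℂ) = 0 := by
      have e : ∀ ξ ∈ S₀, τ₁ ψ 1 * ((cz ξ : ℂ) * (d ξ : ℂ)) = (d ψ : ℂ) * ((cz ξ : ℂ) * τ₁ ξ 1) := by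
        intro ξ hξ
        linear_combination (-(cz ξ : ℂ)) * (hγ ξ hξ).1
      push_cast
      rw [Finset.mul_sum, Finset.mul_sum]
      rw [Finset.sum_congr rfl (fun ξ hξ => by
        show τ₁ ψ 1 * ((d ψ : ℂ) * ((cz ξ : ℂ) * (d ξ : ℂ))) = (d ψ : ℂ) * ((d ψ : ℂ) * ((cz ξ : ℂ) * τ₁ ξ 1))
        linear_combination (d ψ : ℂ) * e ξ hξ)]
      rw [← Finset.mul_sum, ← Finset.mul_sum, h1]
      ring
    rcases mul_eq_zero.mp h2 with h3 | h3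
    · exact hτ₁ψ1 h3
    · have h4 : (d ψ : ℤ) * ∑ ξ ∈ S₀, cz ξ * (d ξ : ℤ) = 0 := by exact_mod_cast h3
      rw [hsum2, ht1, hc] at h4
      nlinarith
  have hcψ : cz ψ = -(a : ℤ) := by linarith
  have hcξ : ∀ ξ ∈ S₀, ξ ≠ ψ → cz ξ = 0 := by
    intro ξ hξ hne
    have h := (hγ ξ hξ).2 hne
    rw [ht0, mul_zero] at h
    rcases mul_eq_zero.mp h with h' | h'
    · omega
    · exact h'
  -- the new irreducible constituent
  have hΔorth : ∀ ξ ∈ S₀,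
      Cfsg.classInner (τ (χ - (a : ℤ) • ψ) + (a : ℤ) • τ₁ ψ) (τ₁ ξ) = 0 := by
    intro ξ hξ
    rw [classInner_add_left, classInner_zsmul_left, hcz ξ hξ, horthn ψ hψ ξ hξ]
    by_cases h : ψ = ξ
    · rw [if_pos h, ← h, hcψ]
      push_cast
      ring
    · rw [if_neg h, hcξ ξ hξ (Ne.symm h)]
      push_cast
      ring
  have hΔnorm : Cfsg.classInner (τ (χ - (a : ℤ) • ψ) + (a : ℤ) • τ₁ ψ)
      (τ (χ - (a : ℤ) • ψ) + (a : ℤ) • τ₁ ψ) = 1 := by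
    have h1 : Cfsg.classInner (τ₁ ψ) (τ (χ - (a : ℤ) • ψ)) = (cz ψ : ℂ) := by
      rw [← classInner_conj_symm, hcz ψ hψ]
      simp
    rw [classInner_add_left, classInner_add_right, classInner_add_right, classInner_zsmul_left,
      classInner_zsmul_right, classInner_zsmul_right, classInner_zsmul_left, hτββ, hcz ψ hψ, h1,
      horthn ψ hψ ψ hψ, if_pos rfl, hcψ]
    push_cast
    ring
  have hΔgen : Cfsg.IsGeneralizedCharacter G (τ (χ - (a : ℤ) • ψ) + (a : ℤ) • τ₁ ψ) :=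
    isGeneralizedCharacter_add (lio_gen hτ' hβS)
      (isGeneralizedCharacter_zsmul _ (lio_gen hτ₁' (hm ψ hψ)))
  have hσ := lio_rankOne χ (τ (χ - (a : ℤ) • ψ) + (a : ℤ) • τ₁ ψ) (classInner_irr_self hχ)
    hΔnorm hΔgen
  have horth := classInner_span_span_eq_zero' ({χ} : Set (N → ℂ)) (↑S₀ : Set (N → ℂ))
    (fun x hx y hy => by
      rw [Set.mem_singleton_iff] at hx
      subst hx
      exact classInner_irr_ne hχ (hirr y hy) (hχne y hy))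
  have horth' := classInner_span_span_eq_zero ({χ} : Set (N → ℂ)) (↑S₀ : Set (N → ℂ))
    (fun f => Cfsg.classInner f χ • (τ (χ - (a : ℤ) • ψ) + (a : ℤ) • τ₁ ψ)) τ₁
    (fun a ha b hb => lio_add hσ ha hb) (fun a ha n => lio_zsmul hσ ha n)
    (fun a ha b hb => lio_add hτ₁' ha hb) (fun a ha n => lio_zsmul hτ₁' ha n)
    (fun x hx y hy => by
      rw [Set.mem_singleton_iff] at hx
      subst hx
      show Cfsg.classInner (Cfsg.classInner x x • (τ (x - (a : ℤ) • ψ) + (a : ℤ) • τ₁ ψ)) (τ₁ y) = 0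
      rw [classInner_smul_left, hΔorth y hy, mul_zero])
  obtain ⟨τ', hτ'lio, hτ'eq⟩ := lio_glue _ _ _ τ₁ hσ hτ₁' horth horth'
  have hspan : Cfsg.zspan (↑(insert χ S₀) : Set (N → ℂ)) =
      ((Submodule.span ℤ ({χ} : Set (N → ℂ)) ⊔ Submodule.span ℤ (↑S₀ : Set (N → ℂ)) :
        Submodule ℤ (N → ℂ)) : Set (N → ℂ)) := by
    unfold Cfsg.zspan
    rw [Finset.coe_insert, Submodule.span_insert]
  refine ⟨⟨α₀, zspanOn_mono hS₀S _ hα₀, hα₀ne⟩, τ', by rw [hspan]; exact hτ'lio, ?_⟩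
  intro θ hθ
  have hθ1 : θ 1 = 0 := apply_one_of_mem_zspanOn_compl_one hθ
  have hθm : θ ∈ (Submodule.span ℤ ({χ} : Set (N → ℂ)) ⊔ Submodule.span ℤ (↑S₀ : Set (N → ℂ)) :
      Submodule ℤ (N → ℂ)) := by
    have := hθ.1
    rw [hspan] at this
    exact this
  obtain ⟨x, hx, y, hy, rfl⟩ := Submodule.mem_sup.mp hθm
  obtain ⟨m, rfl⟩ := Submodule.mem_span_singleton.mp hx
  rw [hτ'eq _ hx y hy]
  have hy' : (y + (m * (a : ℤ)) • ψ) ∈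
      (Submodule.span ℤ (↑S₀ : Set (N → ℂ)) : Submodule ℤ (N → ℂ)) :=
    Submodule.add_mem _ hy (Submodule.smul_mem _ _ (hm ψ hψ))
  have hy'1 : (y + (m * (a : ℤ)) • ψ) 1 = 0 := by
    have h : (m : ℂ) * (d χ : ℂ) + y 1 = 0 := by
      have := hθ1
      simp only [Pi.add_apply, Pi.smul_apply] at this
      rw [hdχ] at this
      simpa using this
    simp only [Pi.add_apply, Pi.smul_apply]
    rw [hdψ]
    rw [ha] at h
    push_cast at h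
    simp only [zsmul_eq_mul]
    push_cast
    linear_combination h
  have hy'S₀ : (y + (m * (a : ℤ)) • ψ) ∈ Cfsg.zspanOn (↑S₀ : Set (N → ℂ)) {1}ᶜ :=
    mem_zspanOn_compl_one hy' hy'1
  have hid : m • χ + y = m • (χ - (a : ℤ) • ψ) + (y + (m * (a : ℤ)) • ψ) := by
    funext g
    simp only [Pi.add_apply, Pi.sub_apply, Pi.smul_apply]
    simp only [zsmul_eq_mul]
    push_cast
    ring
  rw [hid, lio_add hτ' ((zspanOnSub _ {1}ᶜ).smul_mem m hβS) (zspanOn_mono hS₀S _ hy'S₀),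
    lio_zsmul hτ' hβS, ← hagree _ hy'S₀, lio_add hτ₁' hy (Submodule.smul_mem _ _ (hm ψ hψ)),
    lio_zsmul hτ₁' (hm ψ hψ)]
  have hcoef : Cfsg.classInner (m • χ) χ = (m : ℂ) := by
    rw [classInner_zsmul_left, classInner_irr_self hχ, mul_one]
  rw [hcoef]
  funext g
  simp only [Pi.add_apply, Pi.smul_apply]
  simp only [zsmul_eq_mul, smul_eq_mul]
  push_cast
  ring

end Cfsg.Agent.S1530
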