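import Cfsg.Statements.S1532
import Mathlib
import Cfsg.Agent.Lib.helper32.Sib6
import Cfsg.Agent.S1522

set_option autoImplicit false
open Cfsg

namespace Cfsg.Agent.S1532

open Cfsg.Agent.Lib.helper32 Cfsg.Agent.Lib.helper4

/-- Let G be a finite group, p an odd prime and P a Sylow p-subgroup that is non-abelian, whose underlying set is a TI-subset of G, with P properly contained in its set normaliser N and C_G(x) ≤ P for every non-identity x ∈ P. Let Z be a nontrivial subgroup of the centre of P normalised by N. Then the set of irreducible characters χ of N with χ z ≠ χ 1 for some z ∈ Z is coherent for the map induced by induction from N to G. -/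
theorem result {G : Type*} [Group G] [Fintype G] (p : ℕ) [Fact p.Prime] (hp : p ≠ 2) (P : Sylow p G) (hna : ¬ IsMulCommutative (P : Subgroup G)) (hTI : Cfsg.IsTISubset ((P : Subgroup G) : Set G)) (hlt : (P : Subgroup G) < Subgroup.normalizer ((P : Subgroup G) : Set G)) (hC : ∀ k ∈ (P : Subgroup G), k ≠ 1 → Subgroup.centralizer ({k} : Set G) ≤ (P : Subgroup G)) [Fintype ↥(Subgroup.normalizer ((P : Subgroup G) : Set G))] (Z : Subgroup G) (hZ1 : Z ≠ ⊥) (hZP : ∀ z ∈ Z, z ∈ (P : Subgroup G) ∧ ∀ y ∈ (P : Subgroup G), z * y = y * z) (hZn : ∀ x ∈ Subgroup.normalizer ((P : Subgroup G) : Set G), ∀ z ∈ Z, x * z * x⁻¹ ∈ Z) : Cfsg.IsCoherent {χ : ↥(Subgroup.normalizer ((P : Subgroup G) : Set G)) → ℂ | Cfsg.IsIrrCharacter ↥(Subgroup.normalizer ((P : Subgroup G) : Set G)) χ ∧ ∃ z : ↥(Subgroup.normalizer ((P : Subgroup G) : Set G)), (z : G) ∈ Z ∧ χ z ≠ χ 1} {1}ᶜ (fun α => Cfsg.indFun (Subgroup.normalizer ((P : Subgroup G) : Set G)) α) := by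
  classical
  have hP1 : (P : Subgroup G) ≠ ⊥ := by
    intro h
    apply hna
    rw [h]
    infer_instance
  have F : FrobTI (P : Subgroup G) (Subgroup.normalizer ((P : Subgroup G) : Set G)) :=
    { lt := hlt
      ne_bot := hP1
      normal := by
        intro x hx h hh
        exact (Subgroup.mem_normalizer_iff.mp hx h).mp hh
      cent := by
        intro h hh hh1 x _ hcomm
        apply hC h hh hh1
        rw [Subgroup.mem_centralizer_iff]
        intro y hy
        rw [Set.mem_singleton_iff] at hy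
        subst hy
        exact hcomm.symm
      ti := hTI
      norm := rfl }
  have hp2 : Odd p := (Fact.out : p.Prime).odd_of_ne_two hp
  have hoddP : Odd (Nat.card (P : Subgroup G)) := by
    obtain ⟨n, hn⟩ := IsPGroup.iff_card.mp P.isPGroup'
    rw [hn]
    exact hp2.pow
  have hodd : Odd (Nat.card ↥(Subgroup.normalizer ((P : Subgroup G) : Set G))) := by
    by_contra hne
    apply hna
    have hc := F.comm_of_even hoddP hne
    exact ⟨⟨fun a b => Subtype.ext (hc a a.2 b b.2)⟩⟩
  have _iK := F.normalK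
  have hCK := F.centK
  have hKL := F.ltK
  have hK1 := F.ne_botK
  have hnilP : Group.IsNilpotent (P : Subgroup G) := P.isPGroup'.isNilpotent
  have hnil : Group.IsNilpotent ((P : Subgroup G).subgroupOf
      (Subgroup.normalizer ((P : Subgroup G) : Set G))) :=
    Group.nilpotent_of_mulEquiv (Subgroup.subgroupOfEquivOfLe F.lt.le).symm
  have hsolv : Group.IsSolvable ((P : Subgroup G).subgroupOf
      (Subgroup.normalizer ((P : Subgroup G) : Set G))) := inferInstance
  obtain ⟨R, hS⟩ := sib_cs F hodd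
  have hH₁K := commutator_lt_of_solvable _ hsolv hK1
  have hfrob := frobC_quot _ hCK _ hH₁K.le
  have hZle : Z ≤ Subgroup.normalizer ((P : Subgroup G) : Set G) :=
    fun z hz => F.lt.le (hZP z hz).1
  have _iZ : (Z.subgroupOf (Subgroup.normalizer ((P : Subgroup G) : Set G))).Normal := by
    constructor
    intro n hn g
    rw [Subgroup.mem_subgroupOf] at hn ⊢
    exact hZn g g.2 n hn
  have hZ1' : Z.subgroupOf (Subgroup.normalizer ((P : Subgroup G) : Set G)) ≠ ⊥ := by
    intro h
    rw [Subgroup.subgroupOf_eq_bot] at h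
    apply hZ1
    rw [disjoint_iff, inf_eq_left.mpr hZle] at h
    exact h
  have hZK : Z.subgroupOf (Subgroup.normalizer ((P : Subgroup G) : Set G)) ≤
      (P : Subgroup G).subgroupOf (Subgroup.normalizer ((P : Subgroup G) : Set G)) := by
    intro z hz
    rw [Subgroup.mem_subgroupOf] at hz ⊢
    exact (hZP z hz).1
  have hZc : ∀ z ∈ Z.subgroupOf (Subgroup.normalizer ((P : Subgroup G) : Set G)),
      ∀ k ∈ (P : Subgroup G).subgroupOf (Subgroup.normalizer ((P : Subgroup G) : Set G)),
      z * k = k * z := by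
    intro z hz k hk
    rw [Subgroup.mem_subgroupOf] at hz hk
    exact Subtype.ext ((hZP z hz).2 k hk)
  have hirr : ∀ χ ∈ inducedIrrAbove ((P : Subgroup G).subgroupOf
      (Subgroup.normalizer ((P : Subgroup G) : Set G))) ⊥, IsIrrCharacter _ χ := by
    rintro χ ⟨θ, hθ, hne, -, rfl⟩
    exact frobC_irr _ hCK hθ hne
  obtain ⟨hYset, hYcoh⟩ := Cfsg.Agent.S1522.result _ hsolv _ R hS hodd hnil hH₁K hKL hfrob
    (Z.subgroupOf (Subgroup.normalizer ((P : Subgroup G) : Set G))) hZ1' hZK hZc
    (fun χ hχ => hirr χ hχ.1)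
  rw [hYset] at hYcoh
  exact hYcoh

end Cfsg.Agent.S1532
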