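import Cfsg.Statements.S1533
import Mathlib
import Cfsg.Agent.Lib.helper32.Sib7

set_option autoImplicit false
open Cfsg

namespace Cfsg.Agent.S1533

open Cfsg.Agent.Lib.helper32 Cfsg.Agent.Lib.helper4

/-- Let G be a finite group, p an odd prime, and P a nontrivial Sylow p-subgroup whose underlying set is a TI-subset of G, with P properly contained in its set normaliser N and C_G(x) ≤ P for every non-identity x ∈ P. Let S be the set of irreducible characters χ of N with χ x ≠ χ 1 for some x ∈ P. Then either S has exactly one member, P is elementary abelian and Nat.card P = [N:P] + 1; or (S, N minus 1, induction to G) is coherent. -/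
theorem result {G : Type*} [Group G] [Fintype G] (p : ℕ) [Fact p.Prime] (hp : p ≠ 2) (P : Sylow p G) (hP1 : (P : Subgroup G) ≠ ⊥) (hTI : Cfsg.IsTISubset ((P : Subgroup G) : Set G)) (hlt : (P : Subgroup G) < Subgroup.normalizer ((P : Subgroup G) : Set G)) (hC : ∀ k ∈ (P : Subgroup G), k ≠ 1 → Subgroup.centralizer ({k} : Set G) ≤ (P : Subgroup G)) [Fintype ↥(Subgroup.normalizer ((P : Subgroup G) : Set G))] : (Nat.card {χ : ↥(Subgroup.normalizer ((P : Subgroup G) : Set G)) → ℂ // Cfsg.IsIrrCharacter ↥(Subgroup.normalizer ((P : Subgroup G) : Set G)) χ ∧ ∃ x : ↥(Subgroup.normalizer ((P : Subgroup G) : Set G)), (x : G) ∈ (P : Subgroup G) ∧ χ x ≠ χ 1} = 1 ∧ Cfsg.IsElementaryAbelian p (P : Subgroup G) ∧ Nat.card (P : Subgroup G) = ((P : Subgroup G).subgroupOf (Subgroup.normalizer ((P : Subgroup G) : Set G))).index + 1) ∨ Cfsg.IsCoherent {χ : ↥(Subgroup.normalizer ((P : Subgroup G) : Set G)) → ℂ | Cfsg.IsIrrCharacter ↥(Subgroup.normalizer ((P : Subgroup G) : Set G)) χ ∧ ∃ x : ↥(Subgroup.normalizer ((P : Subgroup G) : Set G)), (x : G)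 ∈ (P : Subgroup G) ∧ χ x ≠ χ 1} {1}ᶜ (fun α => Cfsg.indFun (Subgroup.normalizer ((P : Subgroup G) : Set G)) α) := by
  classical
  have F : FrobTI (P : Subgroup G) (Subgroup.normalizer ((P : Subgroup G) : Set G)) :=
    { lt := hlt
      ne_bot := hP1
      normal := by
        intro x hx h hh
        exact (Subgroup.mem_normalizer_iff.mp hx h).mp hh
      cent := by
        intro h hh hh1 x _ hcomm
        apply hC h hh hh1
        rw [Subgroup.mem_centralizer_iff]
        intro y hy
        rw [Set.mem_singleton_iff] at hy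
        subst hy
        exact hcomm.symm
      ti := hTI
      norm := rfl }
  have hpp : p.Prime := Fact.out
  have hp2 : Odd p := hpp.odd_of_ne_two hp
  have hoddP : Odd (Nat.card (P : Subgroup G)) := by
    obtain ⟨n, hn⟩ := IsPGroup.iff_card.mp P.isPGroup'
    rw [hn]
    exact hp2.pow
  have hnilP : Group.IsNilpotent (P : Subgroup G) := P.isPGroup'.isNilpotent
  by_cases hodd : Odd (Nat.card ↥(Subgroup.normalizer ((P : Subgroup G) : Set G)))
  · right
    exact sibley' F hodd hnilP
  · have hc := F.comm_of_even hoddP hodd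
    rcases frobTI_abelian_main F hc with ⟨h1, h2, h3⟩ | h
    · left
      refine ⟨h1, ⟨⟨⟨fun a b => Subtype.ext (hc a a.2 b b.2)⟩⟩, ?_⟩, h2⟩
      -- an element of order p
      have hpdvd : p ∣ Nat.card (P : Subgroup G) := by
        obtain ⟨n, hn⟩ := IsPGroup.iff_card.mp P.isPGroup'
        have hn0 : n ≠ 0 := by
          rintro rfl
          rw [pow_zero] at hn
          exact hP1 (Subgroup.eq_bot_of_card_eq _ hn)
        rw [hn]
        exact dvd_pow_self p hn0
      obtain ⟨b, hb⟩ := exists_prime_orderOf_dvd_card' p hpdvd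
      have hb1 : (b : G) ≠ 1 := by
        intro h
        have hb' : b = 1 := Subtype.ext h
        rw [hb', orderOf_one] at hb
        exact hpp.one_lt.ne hb
      have hbp : (b : G) ^ p = 1 := by
        have h := pow_orderOf_eq_one b
        rw [hb] at h
        have := congrArg Subtype.val h
        simpa using this
      intro a ha
      by_cases ha1 : a = 1
      · rw [ha1, one_pow]
      · obtain ⟨n, -, hn⟩ := h3 (b : G) b.2 a ha hb1 ha1
        rw [hn, conj_pow, hbp, mul_one, mul_inv_cancel]
    · right
      exact h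

end Cfsg.Agent.S1533
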