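import Cfsg.Statements.S1534
import Mathlib
import Cfsg.Agent.Lib.helper32.Gen5

set_option autoImplicit false
open Cfsg

namespace Cfsg.Agent.S1534

open Cfsg.Agent.Lib.helper32 Cfsg.Agent.Lib.helper4

/-- Let G be a finite group and K a nontrivial nilpotent subgroup whose underlying set is a TI-subset of G, properly contained in its set normaliser N, with C_G(k) ≤ K for every non-identity k ∈ K; let e be the index of K in N and S the set of irreducible characters χ of N with χ k ≠ χ 1 for some k ∈ K. Then one of: S has exactly one member, Nat.card K = e + 1 and K is an elementary abelian p-group for some prime p; or K is a Sylow 2-subgroup of G (Nat.card K is the largest power of 2 dividing Nat.card G) and [K : [K,K]] < 4e²; or (S, N minus 1, induction to G) is coherent. -/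
theorem result {G : Type*} [Group G] [Fintype G] (K : Subgroup G) (hK1 : K ≠ ⊥) (hnil : Group.IsNilpotent K) (hTI : Cfsg.IsTISubset (K : Set G)) (hlt : K < Subgroup.normalizer (K : Set G)) (hC : ∀ k ∈ K, k ≠ 1 → Subgroup.centralizer ({k} : Set G) ≤ K) [Fintype ↥(Subgroup.normalizer (K : Set G))] : (Nat.card {χ : ↥(Subgroup.normalizer (K : Set G)) → ℂ // Cfsg.IsIrrCharacter ↥(Subgroup.normalizer (K : Set G)) χ ∧ ∃ k : ↥(Subgroup.normalizer (K : Set G)), (k : G) ∈ K ∧ χ k ≠ χ 1} = 1 ∧ Nat.card K = (K.subgroupOf (Subgroup.normalizer (K : Set G))).index + 1 ∧ ∃ p : ℕ, p.Prime ∧ Cfsg.IsElementaryAbelian p K) ∨ (Nat.card K = 2 ^ (Nat.card G).factorization 2 ∧ (⁅K, K⁆.subgroupOf K).index < 4 * (K.subgroupOf (Subgroup.normalizer (K : Set G))).index ^ 2) ∨ Cfsg.IsCoherent {χ : ↥(Subgroup.normalizer (K : Set G)) → ℂ | Cfsg.IsIrrCharacter ↥(Subgroup.normalizer (K : Set G)) χ ∧ ∃ k : ↥(Subgroup.normalizer (K : Set G)), (k : G) ∈ K ∧ χ k ≠ χ 1} {1}ᶜ (fun α => Cfsg.indFun (Subgroup.normalizer (K : Set G)) α) := by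
  classical
  have F : FrobTI K (Subgroup.normalizer (K : Set G)) :=
    { lt := hlt
      ne_bot := hK1
      normal := by
        intro x hx h hh
        exact (Subgroup.mem_normalizer_iff.mp hx h).mp hh
      cent := by
        intro h hh hh1 x _ hcomm
        apply hC h hh hh1
        rw [Subgroup.mem_centralizer_iff]
        intro y hy
        rw [Set.mem_singleton_iff] at hy
        subst hy
        exact hcomm.symm
      ti := hTI
      norm := rfl }
  by_cases hodd : Odd (Nat.card ↥(Subgroup.normalizer (K : Set G)))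
  · right; right
    exact sibley' F hodd hnil
  by_cases hc : ∀ a ∈ K, ∀ b ∈ K, a * b = b * a
  · rcases frobTI_abelian_main F hc with ⟨h1, h2, h3⟩ | h
    · left
      refine ⟨h1, h2, ?_⟩
      have hcard : Nat.card K ≠ 1 := fun h => hK1 (Subgroup.card_eq_one.mp h)
      obtain ⟨p, hpp, hpdvd⟩ := Nat.exists_prime_and_dvd hcard
      have _ip : Fact p.Prime := ⟨hpp⟩
      refine ⟨p, hpp, ⟨⟨fun a b => Subtype.ext (hc a a.2 b b.2)⟩⟩, ?_⟩
      obtain ⟨b, hb⟩ := exists_prime_orderOf_dvd_card' p hpdvd
      have hb1 : (b : G) ≠ 1 := by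
        intro h
        have hb' : b = 1 := Subtype.ext h
        rw [hb', orderOf_one] at hb
        exact hpp.one_lt.ne hb
      have hbp : (b : G) ^ p = 1 := by
        have h := pow_orderOf_eq_one b
        rw [hb] at h
        have := congrArg Subtype.val h
        simpa using this
      intro a ha
      by_cases ha1 : a = 1
      · rw [ha1, one_pow]
      · obtain ⟨n, -, hn⟩ := h3 (b : G) b.2 a ha hb1 ha1
        rw [hn, conj_pow, hbp, mul_one, mul_inv_cancel]
    · right; right
      exact h
  · rcases frobTI_nonabelian_even F hodd hc with h | ⟨⟨m, hm⟩, hlt⟩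
    · right; right
      exact h
    · right; left
      refine ⟨?_, hlt⟩
      have _i2 : Fact (Nat.Prime 2) := ⟨Nat.prime_two⟩
      obtain ⟨P, hP⟩ := F.sylow 2 (IsPGroup.of_card hm)
      rw [← hP]
      exact Sylow.card_eq_multiplicity P

end Cfsg.Agent.S1534
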