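import Cfsg.Statements.S1546
import Mathlib

set_option autoImplicit false
open Cfsg

namespace Cfsg.Agent.S1546

theorem geom_eq (p q : ℕ) (hp : 2 ≤ p) : (p ^ q - 1) / (p - 1) = ∑ k ∈ Finset.range q, p ^ k :=
  (Nat.geomSum_eq hp q).symm

theorem mod_eq_one_of_dvd_sub (p q : ℕ) (hq : 2 ≤ q) (hp : 1 ≤ p) (h : q ∣ p - 1) : p % q = 1 := by
  obtain ⟨k, hk⟩ := h
  have : p = q * k + 1 := by omega
  rw [this, Nat.mul_add_mod]
  exact Nat.mod_eq_of_lt (by omega)

theorem prime_dvd_case (p q r : ℕ) (hp : p.Prime) (hq : q.Prime) (hq2 : q ≠ 2) (hr : r.Prime)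
    (hpq : p % q ≠ 1) (hrN : r ∣ ∑ k ∈ Finset.range q, p ^ k) : r % q = 1 := by
  haveI : Fact r.Prime := ⟨hr⟩
  have hq2' : 2 ≤ q := hq.two_le
  have hN : ((∑ k ∈ Finset.range q, p ^ k : ℕ) : ZMod r) = 0 := (ZMod.natCast_eq_zero_iff _ _).2 hrN
  have hN' : ∑ k ∈ Finset.range q, (p : ZMod r) ^ k = 0 := by
    rw [← hN]; push_cast; rfl
  have hpow : (p : ZMod r) ^ q = 1 := by
    have := mul_geom_sum (p : ZMod r) q
    rw [hN', mul_zero] at this
    exact (sub_eq_zero.mp this.symm)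
  have hord : orderOf (p : ZMod r) ∣ q := orderOf_dvd_of_pow_eq_one hpow
  rcases (Nat.dvd_prime hq).1 hord with h1 | h1
  · -- order 1: p = 1 in ZMod r
    exfalso
    have hp1 : (p : ZMod r) = 1 := orderOf_eq_one_iff.mp h1
    rw [hp1] at hN'
    simp at hN'
    have hrq : r ∣ q := (ZMod.natCast_eq_zero_iff _ _).1 hN'
    have hrq' : r = q := (Nat.prime_dvd_prime_iff_eq hr hq).1 hrq
    subst hrq'
    have : (p : ZMod r) = ((1 : ℕ) : ZMod r) := by simpa using hp1
    have h2 := (ZMod.natCast_eq_natCast_iff' _ _ _).1 this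
    rw [Nat.mod_eq_of_lt (show 1 < r by omega)] at h2
    exact hpq h2
  · -- order q
    have hp0 : (p : ZMod r) ≠ 0 := by
      intro h0
      rw [h0] at hpow
      rw [zero_pow (by omega)] at hpow
      exact zero_ne_one hpow
    have h3 : (p : ZMod r) ^ (r - 1) = 1 := ZMod.pow_card_sub_one_eq_one hp0
    have h4 : orderOf (p : ZMod r) ∣ r - 1 := orderOf_dvd_of_pow_eq_one h3
    rw [h1] at h4
    exact mod_eq_one_of_dvd_sub r q hq2' hr.one_lt.le h4

theorem result (p q : ℕ) (hp : p.Prime) (hq : q.Prime) (hp2 : p ≠ 2) (hq2 : q ≠ 2) : Odd ((p ^ q - 1) / (p - 1)) ∧ (p % q = 1 → q ∣ (p ^ q - 1) / (p - 1)) ∧ (p % q ≠ 1 → Nat.Coprime ((p ^ q - 1) / (p - 1)) (p - 1) ∧ ∀ x : ℕ, x ∣ (p ^ q - 1) / (p - 1) → x % q = 1) := by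
  have hp2' : 2 ≤ p := hp.two_le
  have hq2' : 2 ≤ q := hq.two_le
  rw [geom_eq p q hp2']
  have hpodd : Odd p := hp.odd_of_ne_two hp2
  have hqodd : Odd q := hq.odd_of_ne_two hq2
  have hodd : Odd (∑ k ∈ Finset.range q, p ^ k) := by
    rw [Finset.odd_sum_iff_odd_card_odd]
    have : (Finset.range q).filter (fun k => Odd (p ^ k)) = Finset.range q := by
      apply Finset.filter_true_of_mem
      intro k _
      exact hpodd.pow
    rw [this, Finset.card_range]
    exact hqodd
  refine ⟨hodd, ?_, ?_⟩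
  · intro hpq
    rw [← ZMod.natCast_eq_zero_iff]
    have hp1 : (p : ZMod q) = 1 := by
      have : (p : ZMod q) = ((1 : ℕ) : ZMod q) := by
        rw [ZMod.natCast_eq_natCast_iff']
        rw [hpq, Nat.mod_eq_of_lt (by omega)]
      simpa using this
    push_cast
    rw [hp1]
    simp
  · intro hpq
    refine ⟨?_, ?_⟩
    · rw [Nat.coprime_iff_gcd_eq_one]
      by_contra hg
      obtain ⟨r, hr, hrg⟩ := Nat.exists_prime_and_dvd hg
      have hrN : r ∣ ∑ k ∈ Finset.range q, p ^ k := hrg.trans (Nat.gcd_dvd_left _ _)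
      have hrp : r ∣ p - 1 := hrg.trans (Nat.gcd_dvd_right _ _)
      have h1 := prime_dvd_case p q r hp hq hq2 hr hpq hrN
      haveI : Fact r.Prime := ⟨hr⟩
      -- p ≡ 1 mod r so sum ≡ q mod r so r ∣ q
      have hp1 : (p : ZMod r) = 1 := by
        have h5 : ((p - 1 : ℕ) : ZMod r) = 0 := (ZMod.natCast_eq_zero_iff _ _).2 hrp
        rw [Nat.cast_sub (by omega)] at h5
        simpa using sub_eq_zero.mp h5
      have hN : ((∑ k ∈ Finset.range q, p ^ k : ℕ) : ZMod r) = 0 := (ZMod.natCast_eq_zero_iff _ _).2 hrN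
      push_cast at hN
      rw [hp1] at hN
      simp at hN
      have hrq : r ∣ q := (ZMod.natCast_eq_zero_iff _ _).1 hN
      have hrq' : r = q := (Nat.prime_dvd_prime_iff_eq hr hq).1 hrq
      subst hrq'
      rw [Nat.mod_self] at h1
      exact absurd h1 (by omega)
    · intro x
      induction x using Nat.recOnMul with
      | zero =>
        intro h0
        exfalso
        have := Nat.eq_zero_of_zero_dvd h0
        rw [this] at hodd
        exact (Nat.not_odd_iff_even.2 (by decide)) hodd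
      | one => intro _; exact Nat.mod_eq_of_lt (by omega)
      | prime r hr =>
        intro hrN
        exact prime_dvd_case p q r hp hq hq2 hr hpq hrN
      | mul a b ha hb =>
        intro hab
        have h1 := ha ((Dvd.intro _ rfl).trans hab)
        have h2 := hb ((Dvd.intro_left _ rfl).trans hab)
        rw [Nat.mul_mod, h1, h2]
        exact Nat.mod_eq_of_lt (by omega)

end Cfsg.Agent.S1546
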