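import Cfsg.Statements.S1552
import Cfsg.Agent.S1550
import Cfsg.Agent.Lib.helper33.SextetOrbits
import Cfsg.Agent.Lib.helper33.Primitive

set_option autoImplicit false
open scoped Pointwise
open Cfsg

namespace Cfsg.Agent.S1552

open Cfsg.Agent.Lib.helper94 Cfsg.Agent.Lib.helper33

theorem orbit_sextet {S : Finset (Finset GolayPt)} (hS : S ∈ sextets) :
    MulAction.orbit M24 S = sextets := by
  ext T
  constructor
  · rintro ⟨g, rfl⟩
    exact smul_mem_sextets g.2 hS
  · intro hT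
    obtain ⟨g, hg, rfl⟩ := sextets_transitive S hS T hT
    exact ⟨⟨g, hg⟩, rfl⟩

theorem orbit_self_stab {G α : Type*} [Group G] [MulAction G α] (x : α) :
    MulAction.orbit ↥(MulAction.stabilizer G x) x = {x} := by
  ext y
  constructor
  · rintro ⟨h, rfl⟩; exact h.2
  · rintro rfl; exact MulAction.mem_orbit_self _

/-- A sextet stabiliser has four orbits on the 1771 sextets, of sizes 1, 90, 240, 1440; and the stabiliser is a maximal proper subgroup. -/
theorem result (S : Finset (Finset Cfsg.GolayPt)) (hS : S ∈ Cfsg.sextets) : ∃ X₁ ∈ Cfsg.sextets, ∃ X₂ ∈ Cfsg.sextets, ∃ X₃ ∈ Cfsg.sextets, (MulAction.orbit ↥(MulAction.stabilizer Cfsg.M24 S) X₁).ncard = 90 ∧ (MulAction.orbit ↥(MulAction.stabilizer Cfsg.M24 S) X₂).ncard = 240 ∧ (MulAction.orbit ↥(MulAction.stabilizer Cfsg.M24 S) X₃).ncard = 1440 ∧ Cfsg.sextets = {S} ∪ MulAction.orbit ↥(MulAction.stabilizer Cfsg.M24 S) X₁ ∪ MulAction.orbit ↥(MulAction.stabilizer Cfsg.M24 S) X₂ ∪ MulAction.orbit ↥(MulAction.stabilizer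 Cfsg.M24 S) X₃ ∧ IsCoatom (MulAction.stabilizer Cfsg.M24 S) := by
  have hD := sextet_decomp S hS
  obtain ⟨X₀, h0, X₁, h1, X₂, h2, X₃, h3, c0, c1, c2, c3, hcov⟩ := hD.four
  have hself := orbit_self_stab (G := M24) S
  have hS0 : MulAction.orbit ↥(MulAction.stabilizer M24 S) X₀ = {S} := by
    have hmem : S ∈ sextets := hS
    rw [hcov] at hmem
    rcases hmem with ((hm | hm) | hm) | hm
    · rw [← MulAction.orbit_eq_iff.2 hm, hself]
    · exfalso
      rw [← MulAction.orbit_eq_iff.2 hm, hself, Set.ncard_singleton] at c1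
      omega
    · exfalso
      rw [← MulAction.orbit_eq_iff.2 hm, hself, Set.ncard_singleton] at c2
      omega
    · exfalso
      rw [← MulAction.orbit_eq_iff.2 hm, hself, Set.ncard_singleton] at c3
      omega
  refine ⟨X₁, h1, X₂, h2, X₃, h3, c1, c2, c3, ?_, ?_⟩
  · rw [← hS0]; exact hcov
  · obtain ⟨Xs, hf, hcov'⟩ := hD
    have horb := orbit_sextet hS
    refine isCoatom_stabilizer_of_orbit_sizes (G := M24) S (Set.toFinite _) Xs [1, 90, 240, 1440]
      (hf.imp fun _ _ h => h.2) ?_ (by decide) ⟨90, by simp, by norm_num⟩ ?_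
    · intro T
      rw [horb]
      exact hcov' T
    · rw [horb, Cfsg.Agent.S1550.result.2]
      decide

end Cfsg.Agent.S1552
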