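import Cfsg.Statements.S1551
import Cfsg.Agent.S1550
import Cfsg.Agent.S1552
import Cfsg.Agent.Lib.helper33.SextetStab

set_option autoImplicit false
open scoped Pointwise
open Cfsg

namespace Cfsg.Agent.S1551

open Cfsg.Agent.Lib.helper94 Cfsg.Agent.Lib.helper33

theorem smul_mem_of_smul_eq {g : Equiv.Perm GolayPt} {S : Finset (Finset GolayPt)}
    (h : g • S = S) {t : Finset GolayPt} (ht : t ∈ S) : g • t ∈ S := by
  have := Finset.smul_mem_smul_finset (a := g) ht
  rwa [h] at this

/-- The action of the stabiliser of a family of sets on the members of the family. -/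
def famHom (S : Finset (Finset GolayPt)) : ↥(MulAction.stabilizer M24 S) →* Equiv.Perm ↥S where
  toFun g :=
    { toFun := fun t => ⟨((g : M24) : Equiv.Perm GolayPt) • (t : Finset GolayPt), by
        have h : ((g : M24) : Equiv.Perm GolayPt) • S = S := g.2
        exact smul_mem_of_smul_eq h t.2⟩
      invFun := fun t => ⟨((g : M24) : Equiv.Perm GolayPt)⁻¹ • (t : Finset GolayPt), by
        have h : ((g : M24) : Equiv.Perm GolayPt) • S = S := g.2
        have h' : ((g : M24) : Equiv.Perm GolayPt)⁻¹ • S = S := by rw [inv_smul_eq_iff, h]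
        exact smul_mem_of_smul_eq h' t.2⟩
      left_inv := fun t => Subtype.ext (inv_smul_smul _ _)
      right_inv := fun t => Subtype.ext (smul_inv_smul _ _) }
  map_one' := by
    apply Equiv.ext
    intro t
    exact Subtype.ext (one_smul _ _)
  map_mul' g h := by
    apply Equiv.ext
    intro t
    exact Subtype.ext (mul_smul _ _ _)

theorem famHom_apply (S : Finset (Finset GolayPt)) (g : ↥(MulAction.stabilizer M24 S)) (t : ↥S) :
    ((famHom S g t : ↥S) : Finset GolayPt) = ((g : M24) : Equiv.Perm GolayPt) • (t : Finset GolayPt) :=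
  rfl

theorem card_stab_sextet {S : Finset (Finset GolayPt)} (hS : S ∈ sextets) :
    Nat.card (MulAction.stabilizer M24 S) = 138240 := by
  have h := Cfsg.Agent.Lib.helper9.natCard_orbit_mul_stab (G := M24) S
  rw [Cfsg.Agent.S1552.orbit_sextet hS, Cfsg.Agent.Lib.helper9.card_M24, Nat.card_coe_set_eq,
    Cfsg.Agent.S1550.result.2] at h
  omega

/-- Structure of a sextet stabiliser: it induces every permutation of the six tetrads, the subgroup fixing each tetrad setwise has order 192, and there is a normal subgroup of order 64 consisting of elements squaring to the identity. -/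
theorem result (S : Finset (Finset Cfsg.GolayPt)) (hS : S ∈ Cfsg.sextets) : (∀ e : Equiv.Perm ↥S, ∃ g ∈ MulAction.stabilizer Cfsg.M24 S, ∀ t : ↥S, (g : Equiv.Perm Cfsg.GolayPt) • (t : Finset Cfsg.GolayPt) = ((e t : ↥S) : Finset Cfsg.GolayPt)) ∧ Nat.card {g : ↥(MulAction.stabilizer Cfsg.M24 S) // ∀ t ∈ S, ((g : Cfsg.M24) : Equiv.Perm Cfsg.GolayPt) • t = t} = 192 ∧ ∃ N : Subgroup ↥(MulAction.stabilizer Cfsg.M24 S), N.Normal ∧ Nat.card N = 64 ∧ ∀ x ∈ N, x * x = 1 := by
  have part1 : ∀ e : Equiv.Perm ↥S, ∃ g ∈ MulAction.stabilizer Cfsg.M24 S, ∀ t : ↥S,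
      (g : Equiv.Perm Cfsg.GolayPt) • (t : Finset Cfsg.GolayPt) = ((e t : ↥S) : Finset Cfsg.GolayPt) := by
    intro e
    obtain ⟨g, hg, h⟩ := exists_of_swapProp (swapProp_sextet hS) e
    refine ⟨⟨g, hg⟩, ?_, h⟩
    rw [MulAction.mem_stabilizer_iff]
    exact smul_eq_of_forall_mem (fun t ht => by rw [h ⟨t, ht⟩]; exact (e ⟨t, ht⟩).2)
  refine ⟨part1, ?_, ?_⟩
  · have hsurj : (famHom S).range = ⊤ := by
      rw [eq_top_iff]
      intro e _
      obtain ⟨g, hg, h⟩ := part1 e
      refine ⟨⟨g, hg⟩, ?_⟩
      apply Equiv.ext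
      intro t
      exact Subtype.ext (h t)
    have hker : ∀ g : ↥(MulAction.stabilizer M24 S),
        (∀ t ∈ S, ((g : M24) : Equiv.Perm GolayPt) • t = t) ↔ g ∈ (famHom S).ker := by
      intro g
      rw [MonoidHom.mem_ker]
      constructor
      · intro h
        apply Equiv.ext
        intro t
        exact Subtype.ext (h t.1 t.2)
      · intro h t ht
        have := congrArg (fun e : Equiv.Perm ↥S => ((e ⟨t, ht⟩ : ↥S) : Finset GolayPt)) h
        exact this
    rw [Nat.card_congr (Equiv.subtypeEquivRight hker)]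
    have h1 := Subgroup.card_mul_index (famHom S).ker
    have h2 : Nat.card (Equiv.Perm ↥S) = 720 := by
      rw [Nat.card_perm, Nat.card_eq_fintype_card, Fintype.card_coe, hS.1]
      rfl
    rw [Subgroup.index_ker, hsurj, Subgroup.card_top, h2, card_stab_sextet hS] at h1
    have h3 : Nat.card ↥(famHom S).ker = Nat.card {g : ↥(MulAction.stabilizer M24 S) // g ∈ (famHom S).ker} := rfl
    omega
  · have hinj : Function.Injective
        ((M24.subtype).comp (MulAction.stabilizer M24 S).subtype) := by
      intro x y hxy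
      exact Subtype.ext (Subtype.ext hxy)
    have hle : tetN S ≤ ((M24.subtype).comp (MulAction.stabilizer M24 S).subtype).range := by
      intro g hg
      have hst : (⟨g, hg.1⟩ : M24) ∈ MulAction.stabilizer M24 S := by
        rw [MulAction.mem_stabilizer_iff]
        exact smul_eq_of_forall_mem (fun t ht => by rw [(hg.2 t ht).1]; exact ht)
      exact ⟨⟨⟨g, hg.1⟩, hst⟩, rfl⟩
    refine ⟨(tetN S).comap ((M24.subtype).comp (MulAction.stabilizer M24 S).subtype), ?_, ?_, ?_⟩
    · constructor
      intro n hn h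
      rw [Subgroup.mem_comap] at hn ⊢
      rw [map_mul, map_mul, map_inv]
      have hh : ((M24.subtype).comp (MulAction.stabilizer M24 S).subtype) h • S = S := h.2
      have := tetN_conj (S := S) (a := ((M24.subtype).comp (MulAction.stabilizer M24 S).subtype) h)
        h.1.2 hn
      rwa [hh] at this
    · rw [← Subgroup.card_map_of_injective hinj, Subgroup.map_comap_eq_self hle, card_tetN hS]
    · intro x hx
      apply hinj
      rw [map_mul, map_one]
      exact tetN_sq hS hx

end Cfsg.Agent.S1551
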