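import Cfsg.Statements.S1554
import Cfsg.Agent.Lib.helper33.OctadStab

set_option autoImplicit false
open scoped Pointwise
open Cfsg

namespace Cfsg.Agent.S1554

open Cfsg.Agent.Lib.helper9 Cfsg.Agent.Lib.helper33

/-- The stabiliser of an octad and of a point outside it. -/
def stabOctPt (o : Finset GolayPt) (p : GolayPt) : Subgroup (Equiv.Perm GolayPt) :=
  stabOct o ⊓ MulAction.stabilizer (Equiv.Perm GolayPt) p

theorem mem_stabOctPt {o : Finset GolayPt} {p : GolayPt} {g : Equiv.Perm GolayPt} :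
    g ∈ stabOctPt o p ↔ g ∈ stabOct o ∧ g p = p := by
  rw [stabOctPt, Subgroup.mem_inf, MulAction.mem_stabilizer_iff]
  rfl

/-- Decomposition of an element of the octad stabiliser. -/
theorem exists_decomp {o : Finset GolayPt} (ho : o ∈ octads) {p : GolayPt} (hp : p ∉ o)
    (h : Equiv.Perm GolayPt) (hh : h ∈ stabOct o) :
    ∃ k ∈ fixOct o, k⁻¹ * h ∈ stabOctPt o p := by
  have hhp : h p ∉ o := fun hmem => hp ((mem_iff_of_smul_eq (mem_stabOct.1 hh).2 p).1 hmem)
  obtain ⟨k, hk, hkp⟩ := fixOct_trans ho hp hhp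
  refine ⟨k, hk, mem_stabOctPt.2 ⟨mul_mem (inv_mem (fixOct_le_stabOct o hk)) hh, ?_⟩⟩
  show k⁻¹ (h p) = p
  rw [Equiv.Perm.inv_eq_iff_eq, hkp]

/-- Restriction of the stabiliser of an octad and a point to the octad. -/
def restrPt (o : Finset GolayPt) (p : GolayPt) : ↥(stabOctPt o p) →* Equiv.Perm ↥o :=
  (restrOct o).comp (Subgroup.inclusion (inf_le_left : stabOctPt o p ≤ stabOct o))

theorem restrPt_injective {o : Finset GolayPt} (ho : o ∈ octads) {p : GolayPt} (hp : p ∉ o) :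
    Function.Injective (restrPt o p) := by
  rw [injective_iff_map_eq_one]
  intro a ha
  have h1 : Subgroup.inclusion (inf_le_left : stabOctPt o p ≤ stabOct o) a ∈ (restrOct o).ker := ha
  rw [mem_ker_restrOct] at h1
  have h2 := (mem_stabOctPt.1 a.2).2
  exact Subtype.ext (fixOct_stab_trivial ho hp a.1 h1 h2)

theorem range_restrPt {o : Finset GolayPt} (ho : o ∈ octads) {p : GolayPt} (hp : p ∉ o) :
    (restrPt o p).range = alternatingGroup ↥o := by
  rw [← range_restrOct ho]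
  apply le_antisymm
  · rintro e ⟨a, rfl⟩
    exact ⟨_, rfl⟩
  · rintro e ⟨h, rfl⟩
    obtain ⟨k, hk, hkh⟩ := exists_decomp ho hp h.1 h.2
    refine ⟨⟨k⁻¹ * h.1, hkh⟩, ?_⟩
    have hk' : (⟨k, fixOct_le_stabOct o hk⟩ : ↥(stabOct o)) ∈ (restrOct o).ker :=
      (mem_ker_restrOct _).2 hk
    have e1 : h = (⟨k, fixOct_le_stabOct o hk⟩ : ↥(stabOct o)) *
        Subgroup.inclusion (inf_le_left : stabOctPt o p ≤ stabOct o) ⟨k⁻¹ * h.1, hkh⟩ := by
      apply Subtype.ext
      show h.1 = k * (k⁻¹ * h.1)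
      group
    show (restrOct o) (Subgroup.inclusion _ ⟨k⁻¹ * h.1, hkh⟩) = (restrOct o) h
    have e2 := congrArg (restrOct o) e1
    rw [map_mul, MonoidHom.mem_ker.1 hk', one_mul] at e2
    exact e2.symm

/-- An octad stabiliser is a split extension: the joint stabiliser of the octad and a point outside it is a complement to the pointwise stabiliser of the octad, and is isomorphic to the alternating group of degree 8. -/
theorem result (o : Finset Cfsg.GolayPt) (ho : o ∈ Cfsg.octads) (p : Cfsg.GolayPt) (hp : p ∉ o) : (Cfsg.M24 ⊓ fixingSubgroup (Equiv.Perm Cfsg.GolayPt) (o : Set Cfsg.GolayPt)) ⊓ (Cfsg.M24 ⊓ MulAction.stabilizer (Equiv.Perm Cfsg.GolayPt) o ⊓ MulAction.stabilizer (Equiv.Perm Cfsg.GolayPt) p) = ⊥ ∧ (Cfsg.M24 ⊓ fixingSubgroup (Equiv.Perm Cfsg.GolayPt) (o : Set Cfsg.GolayPt)) ⊔ (Cfsg.M24 ⊓ MulAction.stabilizer (Equiv.Perm Cfsg.GolayPt) o ⊓ MulAction.stabilizer (Equiv.Perm Cfsg.GolayPt) p) = (Cfsg.M24 ⊓ MulAction.stabilizer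 (Equiv.Perm Cfsg.GolayPt) o) ∧ Nonempty (↥(Cfsg.M24 ⊓ MulAction.stabilizer (Equiv.Perm Cfsg.GolayPt) o ⊓ MulAction.stabilizer (Equiv.Perm Cfsg.GolayPt) p) ≃* alternatingGroup (Fin 8)) := by
  show fixOct o ⊓ stabOctPt o p = ⊥ ∧ fixOct o ⊔ stabOctPt o p = stabOct o ∧
    Nonempty (↥(stabOctPt o p) ≃* alternatingGroup (Fin 8))
  refine ⟨?_, ?_, ?_⟩
  · rw [eq_bot_iff]
    intro g hg
    rw [Subgroup.mem_inf] at hg
    rw [Subgroup.mem_bot]
    exact fixOct_stab_trivial ho hp g hg.1 (mem_stabOctPt.1 hg.2).2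
  · apply le_antisymm
    · exact sup_le (fixOct_le_stabOct o) inf_le_left
    · intro h hh
      obtain ⟨k, hk, hkh⟩ := exists_decomp ho hp h hh
      have : h = k * (k⁻¹ * h) := by group
      rw [this]
      exact Subgroup.mul_mem_sup hk hkh
  · have e1 : ↥(stabOctPt o p) ≃* ↥(restrPt o p).range :=
      MonoidHom.ofInjective (restrPt_injective ho hp)
    have e2 : ↥(restrPt o p).range ≃* ↥(alternatingGroup ↥o) :=
      MulEquiv.subgroupCongr (range_restrPt ho hp)
    have hc : Fintype.card ↥o = 8 := by rw [Fintype.card_coe, ho.2]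
    have e3 : ↥(alternatingGroup ↥o) ≃* ↥(alternatingGroup (Fin 8)) :=
      Equiv.altCongrHom (Fintype.equivFinOfCardEq hc)
    exact ⟨(e1.trans e2).trans e3⟩

end Cfsg.Agent.S1554
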