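import Cfsg.Statements.S1556
import Cfsg.Agent.Lib.helper33.M24Octads

set_option autoImplicit false
open scoped Pointwise
open Cfsg

namespace Cfsg.Agent.S1556

open Cfsg.Agent.Lib.helper9 Cfsg.Agent.Lib.helper33

/-- Two octads meeting a fixed octad in equally many points are in the same orbit of its stabiliser. -/
theorem result (o o' o'' : Finset Cfsg.GolayPt) (ho : o ∈ Cfsg.octads) (ho' : o' ∈ Cfsg.octads) (ho'' : o'' ∈ Cfsg.octads) (h : (o ∩ o').card = (o ∩ o'').card) : ∃ g : Equiv.Perm Cfsg.GolayPt, g ∈ Cfsg.M24 ∧ g • o = o ∧ g • o' = o'' := by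
  obtain ⟨a, ha, rfl⟩ := exists_smul_oct0 ho
  have hx' : a⁻¹ • o' ∈ octads := smul_mem_octads _ (inv_mem ha) _ ho'
  have hx'' : a⁻¹ • o'' ∈ octads := smul_mem_octads _ (inv_mem ha) _ ho''
  have hc : ∀ s : Finset GolayPt, (oct0 ∩ a⁻¹ • s).card = (a • oct0 ∩ s).card := by
    intro s
    have : a • (oct0 ∩ a⁻¹ • s) = a • oct0 ∩ s := by
      rw [Finset.smul_finset_inter, smul_inv_smul]
    rw [← this, Finset.card_smul_finset]
  obtain ⟨σ, hσ, hσ'⟩ := stabOct0_orbits hx' hx'' (by rw [hc, hc, h])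
  obtain ⟨hσM, hσo⟩ := mem_stabOct0.1 hσ
  refine ⟨a * σ * a⁻¹, mul_mem (mul_mem ha hσM) (inv_mem ha), ?_, ?_⟩
  · rw [mul_smul, mul_smul, inv_smul_smul, hσo]
  · rw [mul_smul, mul_smul, hσ', smul_inv_smul]

end Cfsg.Agent.S1556
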