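import Cfsg.Statements.S1558
import Cfsg.Agent.Lib.helper94.M24Trios
import Cfsg.Agent.Lib.helper9.M24Trans
import Cfsg.Agent.Lib.helper6.Compat
import Cfsg.Agent.Lib.helper45.SLGen

set_option autoImplicit false
set_option maxRecDepth 100000
open scoped Pointwise
open Cfsg

namespace Cfsg.Agent.S1558

open Cfsg.Agent.Lib.helper94 Cfsg.Agent.Lib.helper6 Cfsg.Agent.Lib.helper9 Cfsg.Agent.Lib.helper45

/-- mask lists of the eleven objects: the trio, seven sextets refining it, the three octads -/
def OBJ : ℕ → List ℕ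
  | 0 => [8694112, 8077824, 5279]
  | 1 => [8683584, 6832128, 1245696, 10528, 5249, 30]
  | 2 => [8431616, 6488064, 1589760, 262496, 5138, 141]
  | 3 => [8421664, 7340544, 737280, 272448, 5132, 147]
  | 4 => [8397120, 5324800, 2753024, 296992, 4244, 1035]
  | 5 => [8390752, 4342272, 3735552, 303360, 4234, 1045]
  | 6 => [8658976, 4784640, 3293184, 35136, 4121, 1158]
  | 7 => [8653056, 5898240, 2179584, 41056, 4103, 1176]
  | 8 => [8694112]
  | 9 => [8077824]
  | 10 => [5279]
  | _ => []

def tE01 : ℕ := 483267122507414787025297858342520874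
def tE02 : ℕ := 485100026271108697471761117890293764
def tE10 : ℕ := 344823403965952803995069666920766499
def tE12 : ℕ := 652497103362824815158307124989362498
def tE20 : ℕ := 357803908416204187343631732286040140
def tE21 : ℕ := 652430201059148559401195126877563266
def ts01 : ℕ := 841384528646309054241536335100872736
def ts12 : ℕ := 265215341891860214114509230730428725
def ts02 : ℕ := 309733521704846677560156066367578482

/-- the 64 elements fixing all eleven objects -/
def NL : List ℕ := [220213109803259289183002082616117280, 226656775682412349841963347737805186, 229168784269732618968236483209725004, 230433067710517714098004453446684778, 232945630336468380387276715645214019, 234047020605013532918724571843071111, 235855839056868876195315433044520961, 237127490716774874547219001099299044, 261751487147795396440831629365313922, 268195153026948482477577069584812064, 270707161614268741216297320940122113, 271971445055053829435291491172231396, 274484007681004507263912207828716679, 275585397949549645935532348255771971,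 277394216401404993840697863910327372, 278665868061310999103375231969955946, 344828231932101292308289716483067015, 351271897811254358726229211268259139, 353783906398574632459684868616392810, 355048189839359711464314235616625740, 357560752465310382360769019691368834, 358662142733855540651195105552730144, 360470961185710882775990018446338276, 361742612845616878824302583274090497, 469443352823419597741041366012563562, 475887018702572666479460122110601444, 478399027289892944836986318915439751, 479663310730678034207776437455390752, 482175873356628692417591208662347777, 483277263625173835717786003542508620, 485086082077029192832812207432539459, 486357733736935186577533494131655042, 552520098846081450874754879326389324, 558963764725234526523947435429277697, 561475773312554808336860583768983584, 562740056753339893100467802466225287, 565252619379290554765669525208049892, 566354009647835704976638120093061226, 568162828099691050573708242622579074, 569434479759597051229203088805993795, 635596849821031638906401332688924673,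 642040515700184709952915481927222348, 644552524287504981378275746150318466, 645816807728290071900861194511064387, 648329370354240745105411371710845034, 649430760622785886097510773450746084, 651239579074641248992907580101724192, 652511230734547243889424196621634695, 760211995470205708763452511218572611, 766655661349358789041219721774566535, 769167669936679051235326924664744164, 770431953377464137150730091669827585, 772944516003414818434737759861180448, 774045906271959951347379670624731522, 775854724723815310770501267639799914, 777126376383721299908040032462701644, 967903863622238921968730227217934564, 974347529501391999926018176461082730, 976859538088712266744195918807964995, 978123821529497350356007807684411778, 980636384155448018953375463007978572, 981737774423993166856248664752730113, 983546592875848528599849523095866503, 984818244535754528103549039458486304]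

abbrev A : Type := (Fin 3 → ZMod 2) ⊕ Fin 3
abbrev G : Type := GL (Fin 3) (ZMod 2) × Equiv.Perm (Fin 3)
abbrev B : Type := Finset (Finset GolayPt)

def code : A → ℕ
  | Sum.inl v => (v 0).val + 2 * (v 1).val + 4 * (v 2).val
  | Sum.inr i => 8 + i.val

def glPerm : GL (Fin 3) (ZMod 2) →* Equiv.Perm (Fin 3 → ZMod 2) where
  toFun g :=
    { toFun := fun v => (g : Matrix (Fin 3) (Fin 3) (ZMod 2)).mulVec v
      invFun := fun v => ((g⁻¹ : GL (Fin 3) (ZMod 2)) : Matrix (Fin 3) (Fin 3) (ZMod 2)).mulVec v
      left_inv := fun v => by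
        beta_reduce
        rw [Matrix.mulVec_mulVec, ← Units.val_mul, inv_mul_cancel, Units.val_one, Matrix.one_mulVec]
      right_inv := fun v => by
        beta_reduce
        rw [Matrix.mulVec_mulVec, ← Units.val_mul, mul_inv_cancel, Units.val_one, Matrix.one_mulVec] }
  map_one' := by ext v; simp
  map_mul' := fun g h => by ext v; simp [Matrix.mulVec_mulVec]

def rho : G →* Equiv.Perm A :=
  (Equiv.Perm.sumCongrHom _ _).comp (glPerm.prodMap (MonoidHom.id _))

/-- partner check -/
def chk (t : ℕ) (g : G) : Prop :=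
  ∀ a : A, seteq ((OBJ (code a)).map (applyP t 1)) (OBJ (code (rho g a))) = true

instance (t : ℕ) (g : G) : Decidable (chk t g) := by unfold chk; infer_instance

def gE (i j : Fin 3) (hij : i ≠ j) : G :=
  (Matrix.SpecialLinearGroup.toGL (Matrix.SpecialLinearGroup.transvection hij 1), 1)

theorem chkE01 : chk tE01 (gE 0 1 (by decide)) := by decide +kernel
theorem chkE02 : chk tE02 (gE 0 2 (by decide)) := by decide +kernel
theorem chkE10 : chk tE10 (gE 1 0 (by decide)) := by decide +kernel
theorem chkE12 : chk tE12 (gE 1 2 (by decide)) := by decide +kernel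
theorem chkE20 : chk tE20 (gE 2 0 (by decide)) := by decide +kernel
theorem chkE21 : chk tE21 (gE 2 1 (by decide)) := by decide +kernel
theorem chks01 : chk ts01 (1, Equiv.swap 0 1) := by decide +kernel
theorem chks12 : chk ts12 (1, Equiv.swap 1 2) := by decide +kernel

theorem gens_M24 : [tE01, tE02, tE10, tE12, tE20, tE21, ts01, ts12, ts02].all isM24 = true := by
  decide +kernel

theorem NL_chk : ∀ t ∈ NL, isM24 t = true ∧ chk t 1 := by decide +kernel

/-- the list of images of a table -/
def imgs (t : ℕ) : List ℕ := (List.range 24).map (imgAt t)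

theorem NL_nodup : (NL.map imgs).Nodup := by decide +kernel

/-- involution test -/
def invol (t : ℕ) : Bool := (List.range 24).all (fun i => Nat.beq (imgAt t (imgAt t i)) i)

theorem NL_invol : NL.all invol = true := by decide +kernel

/-! ### The objects -/

def iota (a : A) : B := objSetL (OBJ (code a))

def T0 : B := objSetL (OBJ 0)

theorem T0_mem : T0 ∈ trios := trioL_sound (by decide +kernel) (by decide)

theorem code_lt_OBJ : ∀ a : A, ∀ x ∈ OBJ (code a), x < 2 ^ 24 := by decide +kernel

theorem iota_key : ∀ a b : A, seteq (OBJ (code a)) (OBJ (code b)) = true → a = b := by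
  decide +kernel

theorem iota_inj : Function.Injective iota := fun a b h =>
  iota_key a b ((seteq_iff _ _).mpr (mem_of_objSetL_eq (code_lt_OBJ a) (code_lt_OBJ b) h))

theorem iota_zero : iota (Sum.inl 0) = T0 := by
  have : code (Sum.inl 0) = 0 := by decide
  rw [iota, this]; rfl

theorem rho_zero (g : G) : rho g (Sum.inl 0) = Sum.inl 0 := by
  show Sum.inl ((g.1 : Matrix (Fin 3) (Fin 3) (ZMod 2)).mulVec 0) = Sum.inl 0
  rw [Matrix.mulVec_zero]

theorem smul_iota {t : ℕ} (hv : validPerm t = true) {g : G} (h : chk t g) (a : A) :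
    tperm t • iota a = iota (rho g a) := by
  rw [iota, smul_objSetL hv, objSetL_eq_of_seteq (h a)]; rfl

theorem smul_T0 {t : ℕ} (hv : validPerm t = true) {g : G} (h : chk t g) : tperm t • T0 = T0 := by
  rw [← iota_zero, smul_iota hv h, rho_zero]

def Om : Set B := Set.range iota

theorem smul_Om {t : ℕ} (hv : validPerm t = true) {g : G} (h : chk t g) : tperm t • Om = Om := by
  rw [Om, Set.smul_set_range]
  have : (fun a => tperm t • iota a) = iota ∘ (rho g) := funext (fun a => smul_iota hv h a)
  rw [this, (rho g).surjective.range_comp]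

abbrev S0 : Subgroup ↥M24 := MulAction.stabilizer ↥M24 T0
abbrev S1 : Subgroup ↥S0 := MulAction.stabilizer ↥S0 Om

noncomputable def mkS1 (t : ℕ) (hM : isM24 t = true) (g : G) (h : chk t g) : ↥S1 :=
  ⟨⟨⟨tperm t, tperm_mem_M24 hM⟩, smul_T0 (isM24_valid hM) h⟩, smul_Om (isM24_valid hM) h⟩

def psi1 : ↥S1 →* Equiv.Perm ↥Om := MulAction.toPermHom ↥S1 ↥Om
abbrev N1 : Subgroup ↥S1 := psi1.ker
def phi1 : ↥S1 ⧸ N1 →* Equiv.Perm ↥Om := QuotientGroup.kerLift psi1
def iota1 (a : A) : ↥Om := ⟨iota a, a, rfl⟩

theorem iota1_inj : Function.Injective iota1 := fun _ _ h => iota_inj (congrArg Subtype.val h)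

theorem psi1_apply (x : ↥S1) (b : ↥Om) :
    ((psi1 x b : ↥Om) : B) = ((x : ↥S0) : ↥M24).1 • (b : B) := rfl

theorem partner {t : ℕ} (hM : isM24 t = true) {g : G} (h : chk t g) :
    g ∈ compatLeft rho phi1 iota1 := by
  rw [mem_compatLeft]
  refine ⟨QuotientGroup.mk (mkS1 t hM g h), fun a => ?_⟩
  apply Subtype.ext
  show ((psi1 (mkS1 t hM g h) (iota1 a) : ↥Om) : B) = iota (rho g a)
  rw [psi1_apply]
  exact smul_iota (isM24_valid hM) h a


/-! ### Generation -/

theorem hM_gens : ∀ t ∈ [tE01, tE02, tE10, tE12, tE20, tE21, ts01, ts12, ts02], isM24 t = true :=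
  fun t ht => List.all_eq_true.mp gens_M24 t ht

theorem memE : ∀ (i j : Fin 3) (hij : i ≠ j), gE i j hij ∈ compatLeft rho phi1 iota1
  | 0, 1, _ => partner (hM_gens tE01 (by simp)) chkE01
  | 0, 2, _ => partner (hM_gens tE02 (by simp)) chkE02
  | 1, 0, _ => partner (hM_gens tE10 (by simp)) chkE10
  | 1, 2, _ => partner (hM_gens tE12 (by simp)) chkE12
  | 2, 0, _ => partner (hM_gens tE20 (by simp)) chkE20
  | 2, 1, _ => partner (hM_gens tE21 (by simp)) chkE21
  | 0, 0, h => absurd rfl h
  | 1, 1, h => absurd rfl h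
  | 2, 2, h => absurd rfl h

theorem memGL (g : GL (Fin 3) (ZMod 2)) : (g, 1) ∈ compatLeft rho phi1 iota1 := by
  let K2 : Subgroup (Matrix.SpecialLinearGroup (Fin 3) (ZMod 2)) :=
    ((compatLeft rho phi1 iota1).comap
      (MonoidHom.inl (GL (Fin 3) (ZMod 2)) (Equiv.Perm (Fin 3)))).comap
        Matrix.SpecialLinearGroup.toGL
  have hK2 : K2 = ⊤ := by
    apply eq_top_of_transvection_mem
    intro i j hij a
    show (Matrix.SpecialLinearGroup.toGL (Matrix.SpecialLinearGroup.transvection hij a), 1)
      ∈ compatLeft rho phi1 iota1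
    have ha : a = 0 ∨ a = 1 := by revert a; decide
    rcases ha with rfl | rfl
    · have h0 : Matrix.SpecialLinearGroup.transvection hij (0 : ZMod 2) = 1 := by
        apply Subtype.ext
        simp
      rw [h0, map_one]
      exact (compatLeft rho phi1 iota1).one_mem
    · exact memE i j hij
  have hdet : (g : Matrix (Fin 3) (Fin 3) (ZMod 2)).det = 1 := by
    have hu : IsUnit (g : Matrix (Fin 3) (Fin 3) (ZMod 2)).det :=
      (Matrix.isUnit_iff_isUnit_det _).mp g.isUnit
    have key : ∀ x : ZMod 2, x ≠ 0 → x = 1 := by decide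
    exact key _ hu.ne_zero
  have hs : (⟨(g : Matrix (Fin 3) (Fin 3) (ZMod 2)), hdet⟩ :
      Matrix.SpecialLinearGroup (Fin 3) (ZMod 2)) ∈ K2 := by rw [hK2]; trivial
  have hg : Matrix.SpecialLinearGroup.toGL (⟨(g : Matrix (Fin 3) (Fin 3) (ZMod 2)), hdet⟩ :
      Matrix.SpecialLinearGroup (Fin 3) (ZMod 2)) = g := Units.ext rfl
  have h3 : (Matrix.SpecialLinearGroup.toGL (⟨(g : Matrix (Fin 3) (Fin 3) (ZMod 2)), hdet⟩ :
      Matrix.SpecialLinearGroup (Fin 3) (ZMod 2)), (1 : Equiv.Perm (Fin 3)))
      ∈ compatLeft rho phi1 iota1 := hs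
  rw [hg] at h3
  exact h3

theorem memS3 (σ : Equiv.Perm (Fin 3)) : (1, σ) ∈ compatLeft rho phi1 iota1 := by
  let K3 : Subgroup (Equiv.Perm (Fin 3)) :=
    (compatLeft rho phi1 iota1).comap (MonoidHom.inr (GL (Fin 3) (ZMod 2)) (Equiv.Perm (Fin 3)))
  have hle : (⊤ : Submonoid (Equiv.Perm (Fin 3))) ≤ K3.toSubmonoid := by
    rw [← Equiv.Perm.mclosure_swap_castSucc_succ 2, Submonoid.closure_le]
    rintro _ ⟨i, rfl⟩
    show (1, Equiv.swap i.castSucc i.succ) ∈ compatLeft rho phi1 iota1
    fin_cases i
    · exact partner (hM_gens ts01 (by simp)) chks01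
    · exact partner (hM_gens ts12 (by simp)) chks12
  exact hle (Submonoid.mem_top σ)

theorem compat_top : compatLeft rho phi1 iota1 = ⊤ := by
  rw [eq_top_iff]
  rintro ⟨g, σ⟩ -
  have h := (compatLeft rho phi1 iota1).mul_mem (memGL g) (memS3 σ)
  rw [Prod.mk_mul_mk, mul_one, one_mul] at h
  exact h

theorem rho_inj : Function.Injective rho := by
  have h1 : Function.Injective glPerm := by
    intro g h hgh
    apply Units.ext
    apply Matrix.toLin'.injective
    apply LinearMap.ext
    intro v
    rw [Matrix.toLin'_apply, Matrix.toLin'_apply]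
    exact congrArg (fun e : Equiv.Perm (Fin 3 → ZMod 2) => e v) hgh
  intro x y hxy
  have h2 : (glPerm x.1, x.2) = (glPerm y.1, y.2) := Equiv.Perm.sumCongrHom_injective hxy
  exact Prod.ext (h1 (Prod.mk.inj h2).1) (Prod.mk.inj h2).2

/-! ### Orders -/

theorem card_G : Nat.card G = 1008 := by
  rw [Nat.card_prod, Matrix.card_GL_field, Nat.card_perm, Nat.card_eq_fintype_card,
    ZMod.card, Fintype.card_fin, Fin.prod_univ_three]
  decide

theorem card_S0 : Nat.card ↥S0 = 64512 := by
  have h := natCard_orbit_mul_stab (G := ↥M24) T0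
  have horb : MulAction.orbit ↥M24 T0 = trios := by
    ext T
    constructor
    · rintro ⟨g, rfl⟩
      exact smul_mem_trios g.2 T0_mem
    · intro hT
      obtain ⟨g, hg, rfl⟩ := trios_transitive T0 T0_mem T hT
      exact ⟨⟨g, hg⟩, rfl⟩
  have hc : Nat.card ↥(MulAction.orbit ↥M24 T0) = 3795 := by
    rw [horb]
    obtain ⟨TF, hTF⟩ := (Set.toFinite trios).exists_finset
    have h3 := card_trios_finset TF hTF
    have e : trios = (TF : Set (Finset (Finset GolayPt))) := by
      ext T; exact (hTF T).symm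
    rw [Nat.card_coe_set_eq, e, Set.ncard_coe_finset, h3]
  rw [hc, card_M24] at h
  show Nat.card ↥(MulAction.stabilizer ↥M24 T0) = 64512
  omega


/-! ### The kernel -/

theorem tperm_inj_imgs {t t' : ℕ} (hv : validPerm t = true) (hv' : validPerm t' = true)
    (h : tperm t = tperm t') : imgs t = imgs t' := by
  unfold imgs
  apply List.map_congr_left
  intro i hi
  have hi' : i < 24 := List.mem_range.mp hi
  have h1 := congrArg (fun e : Equiv.Perm GolayPt => ptIdx (e (idxPt i))) h
  simp only [tperm_idxPt hv hi', tperm_idxPt hv' hi', ptIdx_idxPt (validPerm_lt hv i hi'),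
    ptIdx_idxPt (validPerm_lt hv' i hi')] at h1
  exact h1

theorem tperm_sq {t : ℕ} (hv : validPerm t = true) (hi : invol t = true) :
    tperm t * tperm t = 1 := by
  ext p
  rw [Equiv.Perm.mul_apply, Equiv.Perm.one_apply, tperm_apply hv, tperm_apply hv,
    ptIdx_idxPt (validPerm_lt hv _ (ptIdx_lt p))]
  have := List.all_eq_true.mp hi (ptIdx p) (List.mem_range.mpr (ptIdx_lt p))
  rw [Nat.eq_of_beq_eq_true this, idxPt_ptIdx]

noncomputable def nEl (t : ℕ) (ht : t ∈ NL) : ↥S1 := mkS1 t (NL_chk t ht).1 1 (NL_chk t ht).2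

theorem nEl_mem (t : ℕ) (ht : t ∈ NL) : nEl t ht ∈ N1 := by
  rw [MonoidHom.mem_ker]
  refine Equiv.ext fun b => Subtype.ext ?_
  obtain ⟨b, a, rfl⟩ := b
  show ((psi1 (nEl t ht) ⟨iota a, a, rfl⟩ : ↥Om) : B) = iota a
  rw [psi1_apply]
  have := smul_iota (isM24_valid (NL_chk t ht).1) (NL_chk t ht).2 a
  rw [map_one] at this
  exact this

theorem nEl_inj (t t' : ℕ) (ht : t ∈ NL) (ht' : t' ∈ NL) (h : nEl t ht = nEl t' ht') : t = t' := by
  have h1 : tperm t = tperm t' := congrArg (fun x : ↥S1 => ((x : ↥S0) : ↥M24).1) h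
  have h2 := tperm_inj_imgs (isM24_valid (NL_chk t ht).1) (isM24_valid (NL_chk t' ht').1) h1
  exact List.inj_on_of_nodup_map NL_nodup ht ht' h2

noncomputable def nElN (t : {t // t ∈ NL}) : ↥N1 := ⟨nEl t.1 t.2, nEl_mem t.1 t.2⟩

theorem nElN_inj : Function.Injective nElN := by
  intro t t' h
  exact Subtype.ext (nEl_inj t.1 t'.1 t.2 t'.2 (congrArg Subtype.val h))

theorem card_NLsub : Nat.card {t // t ∈ NL} = 64 := by
  have hnd : NL.Nodup := List.Nodup.of_map imgs NL_nodup
  have e : {t | t ∈ NL} = ((NL.toFinset : Finset ℕ) : Set ℕ) := by ext t; simp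
  show Nat.card ↥{t | t ∈ NL} = 64
  rw [Nat.card_coe_set_eq, e, Set.ncard_coe_finset, List.toFinset_card_of_nodup hnd]
  rfl

theorem card_N1_ge : 64 ≤ Nat.card ↥N1 := by
  have h1 := Nat.card_le_card_of_injective nElN nElN_inj
  rw [card_NLsub] at h1
  exact h1

theorem baseS1 : Nonempty (G ≃* ↥S1 ⧸ N1) := by
  apply nonempty_mulEquiv_of_compat rho phi1 iota1 rho_inj iota1_inj compat_top
  rw [card_G]
  have h1 := Subgroup.card_eq_card_quotient_mul_card_subgroup N1
  have h2 : Nat.card ↥S1 ≤ Nat.card ↥S0 := Subgroup.card_le_card_group S1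
  rw [card_S0] at h2
  have h3 := card_N1_ge
  have h4 := Nat.mul_le_mul_left (Nat.card (↥S1 ⧸ N1)) h3
  omega

theorem transportB {S S' Q : Type*} [Group S] [Group S'] [Group Q] (e : S ≃* S')
    (h : ∃ (N : Subgroup S) (_ : N.Normal), Nat.card N = 64 ∧ (∀ x ∈ N, x * x = 1) ∧
      Nonempty (S ⧸ N ≃* Q)) :
    ∃ (N : Subgroup S') (_ : N.Normal), Nat.card N = 64 ∧ (∀ x ∈ N, x * x = 1) ∧
      Nonempty (S' ⧸ N ≃* Q) := by
  obtain ⟨N, hN, hc, hsq, ⟨f⟩⟩ := h
  have := hN
  have hN' : (N.map (e : S →* S')).Normal := Subgroup.Normal.map hN _ e.surjective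
  refine ⟨N.map (e : S →* S'), hN', ?_, ?_, ?_⟩
  · rw [← hc]; exact Nat.card_congr (e.subgroupMap N).symm.toEquiv
  · rintro _ ⟨y, hy, rfl⟩
    show e y * e y = 1
    rw [← map_mul, hsq y hy, map_one]
  · exact ⟨(QuotientGroup.congr N (N.map (e : S →* S')) e rfl).symm.trans f⟩

theorem base : ∃ (N : Subgroup ↥S0) (_ : N.Normal), Nat.card N = 64 ∧ (∀ x ∈ N, x * x = 1) ∧
    Nonempty (↥S0 ⧸ N ≃* G) := by
  obtain ⟨e0⟩ := baseS1
  have hq : Nat.card (↥S1 ⧸ N1) = 1008 := by
    rw [← card_G]; exact (Nat.card_congr e0.toEquiv).symm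
  have h1 := Subgroup.card_eq_card_quotient_mul_card_subgroup N1
  have h2 : Nat.card ↥S1 ≤ Nat.card ↥S0 := Subgroup.card_le_card_group S1
  have h3 := card_N1_ge
  rw [hq] at h1
  have hN : Nat.card ↥N1 = 64 := by rw [card_S0] at h2; omega
  have hS1 : Nat.card ↥S1 = Nat.card ↥S0 := by rw [card_S0] at h2 ⊢; omega
  have htop : S1 = ⊤ := Subgroup.eq_top_of_card_eq S1 hS1
  have hfin : ∃ (N : Subgroup ↥S1) (_ : N.Normal), Nat.card N = 64 ∧ (∀ x ∈ N, x * x = 1) ∧
      Nonempty (↥S1 ⧸ N ≃* G) := by
    refine ⟨N1, inferInstance, hN, ?_, ⟨e0.symm⟩⟩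
    intro x hx
    have hb := Function.Injective.bijective_of_nat_card_le nElN_inj
      (by rw [hN, card_NLsub])
    obtain ⟨t, ht⟩ := hb.2 ⟨x, hx⟩
    have hx' : x = nEl t.1 t.2 := (congrArg Subtype.val ht).symm
    rw [hx']
    have hinv := List.all_eq_true.mp NL_invol t.1 t.2
    exact Subtype.ext (Subtype.ext (Subtype.ext
      (tperm_sq (isM24_valid (NL_chk t.1 t.2).1) hinv)))
  exact transportB ((MulEquiv.subgroupCongr htop).trans Subgroup.topEquiv) hfin


/-! ### Part (A) -/

/-- test: the table is in `M24`, swaps the two masks and preserves the base trio -/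
def swChk (t x y : ℕ) : Bool :=
  isM24 t && (Nat.beq (applyP t 1 x) y && (Nat.beq (applyP t 1 y) x &&
    seteq ((OBJ 0).map (applyP t 1)) (OBJ 0)))

theorem swap_base : ∀ x ∈ OBJ 0, ∀ y ∈ OBJ 0, x ≠ y → ∃ t, swChk t x y = true := by
  intro x hx y hy hne
  have h0 : OBJ 0 = [8694112, 8077824, 5279] := rfl
  rw [h0] at hx hy
  simp only [List.mem_cons, List.not_mem_nil, or_false] at hx hy
  rcases hx with rfl | rfl | rfl <;> rcases hy with rfl | rfl | rfl
  · exact absurd rfl hne
  · exact ⟨ts01, by decide +kernel⟩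
  · exact ⟨ts02, by decide +kernel⟩
  · exact ⟨ts01, by decide +kernel⟩
  · exact absurd rfl hne
  · exact ⟨ts12, by decide +kernel⟩
  · exact ⟨ts02, by decide +kernel⟩
  · exact ⟨ts12, by decide +kernel⟩
  · exact absurd rfl hne

theorem exists_swap (T : B) (hT : T ∈ trios) (a b : Finset GolayPt) (ha : a ∈ T) (hb : b ∈ T)
    (hab : a ≠ b) : ∃ h ∈ M24, h • T = T ∧ h • a = b ∧ h • b = a := by
  obtain ⟨g, hg, rfl⟩ := trios_transitive T0 T0_mem T hT
  obtain ⟨a', ha', rfl⟩ := Finset.mem_smul_finset.mp ha
  obtain ⟨b', hb', rfl⟩ := Finset.mem_smul_finset.mp hb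
  obtain ⟨x, hx, rfl⟩ := mem_objSetL.mp ha'
  obtain ⟨y, hy, rfl⟩ := mem_objSetL.mp hb'
  have hxy : x ≠ y := fun h => hab (by rw [h])
  obtain ⟨t, ht⟩ := swap_base x hx y hy hxy
  rw [swChk, Bool.and_eq_true, Bool.and_eq_true, Bool.and_eq_true] at ht
  obtain ⟨hM, h1, h2, h3⟩ := ht
  have hv := isM24_valid hM
  refine ⟨g * tperm t * g⁻¹, mul_mem (mul_mem hg (tperm_mem_M24 hM)) (inv_mem hg), ?_, ?_, ?_⟩
  · rw [mul_smul, mul_smul, inv_smul_smul, T0, smul_objSetL_eq_of hv h3]
  · rw [mul_smul, mul_smul, inv_smul_smul, smul_setOf hv, Nat.eq_of_beq_eq_true h1]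
  · rw [mul_smul, mul_smul, inv_smul_smul, smul_setOf hv, Nat.eq_of_beq_eq_true h2]

theorem partA (T : B) (hT : T ∈ trios) : ∀ e : Equiv.Perm ↥T,
    ∃ g ∈ MulAction.stabilizer M24 T, ∀ o : ↥T,
      (g : Equiv.Perm GolayPt) • (o : Finset GolayPt) = ((e o : ↥T) : Finset GolayPt) := by
  let Ind : Subgroup (Equiv.Perm ↥T) :=
    { carrier := {e | ∃ g ∈ MulAction.stabilizer M24 T, ∀ o : ↥T,
        (g : Equiv.Perm GolayPt) • (o : Finset GolayPt) = ((e o : ↥T) : Finset GolayPt)}
      mul_mem' := by
        rintro e1 e2 ⟨g1, hg1, h1⟩ ⟨g2, hg2, h2⟩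
        refine ⟨g1 * g2, mul_mem hg1 hg2, fun o => ?_⟩
        rw [Subgroup.coe_mul, mul_smul, h2 o, h1 (e2 o)]
        rfl
      one_mem' := ⟨1, one_mem _, fun o => by simp⟩
      inv_mem' := by
        rintro e ⟨g, hg, h⟩
        refine ⟨g⁻¹, inv_mem hg, fun o => ?_⟩
        have h' := h (e⁻¹ o)
        have hee : e (e⁻¹ o) = o := by simp
        rw [hee] at h'
        rw [Subgroup.coe_inv, inv_smul_eq_iff, h'] }
  have htop : Ind = ⊤ := by
    rw [eq_top_iff, ← Equiv.Perm.closure_isSwap, Subgroup.closure_le]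
    rintro e ⟨a, b, hab, rfl⟩
    have hab' : (a : Finset GolayPt) ≠ b := fun h => hab (Subtype.ext h)
    obtain ⟨h, hM, hT', h1, h2⟩ := exists_swap T hT a.1 b.1 a.2 b.2 hab'
    refine ⟨⟨h, hM⟩, hT', fun o => ?_⟩
    show h • (o : Finset GolayPt) = ((Equiv.swap a b o : ↥T) : Finset GolayPt)
    by_cases hoa : o = a
    · subst hoa; rw [Equiv.swap_apply_left]; exact h1
    by_cases hob : o = b
    · subst hob; rw [Equiv.swap_apply_right]; exact h2
    rw [Equiv.swap_apply_of_ne_of_ne hoa hob]
    have ho' : h • (o : Finset GolayPt) ∈ T := by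
      have := Finset.smul_mem_smul_finset (a := h) o.2
      rwa [hT'] at this
    have hne1 : h • (o : Finset GolayPt) ≠ a.1 := fun hh =>
      hob (Subtype.ext (smul_left_cancel h (hh.trans h2.symm)))
    have hne2 : h • (o : Finset GolayPt) ≠ b.1 := fun hh =>
      hoa (Subtype.ext (smul_left_cancel h (hh.trans h1.symm)))
    rw [trio_third hT a.2 b.2 hab' ho' hne1 hne2]
    exact (trio_third hT a.2 b.2 hab' o.2 (fun hh => hoa (Subtype.ext hh))
      (fun hh => hob (Subtype.ext hh))).symm
  intro e
  have he : e ∈ Ind := by rw [htop]; trivial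
  exact he

/-- Structure of a trio stabiliser: every permutation of the three octads is induced, and there is a normal subgroup of order 64 of elements squaring to the identity whose quotient is isomorphic to the product of GL(3, 2) with the symmetric group of degree 3. -/
theorem result (T : Finset (Finset Cfsg.GolayPt)) (hT : T ∈ Cfsg.trios) : (∀ e : Equiv.Perm ↥T, ∃ g ∈ MulAction.stabilizer Cfsg.M24 T, ∀ o : ↥T, (g : Equiv.Perm Cfsg.GolayPt) • (o : Finset Cfsg.GolayPt) = ((e o : ↥T) : Finset Cfsg.GolayPt)) ∧ ∃ (N : Subgroup ↥(MulAction.stabilizer Cfsg.M24 T)) (_ : N.Normal), Nat.card N = 64 ∧ (∀ x ∈ N, x * x = 1) ∧ Nonempty (↥(MulAction.stabilizer Cfsg.M24 T) ⧸ N ≃* GL (Fin 3) (ZMod 2) × Equiv.Perm (Fin 3)) := by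
  refine ⟨partA T hT, ?_⟩
  obtain ⟨g, hg, hgT⟩ := trios_transitive T0 T0_mem T hT
  have e : ↥(MulAction.stabilizer ↥M24 T0) ≃* ↥(MulAction.stabilizer ↥M24 T) :=
    MulAction.stabilizerEquivStabilizer (g := (⟨g, hg⟩ : ↥M24)) hgT.symm
  exact transportB e base

end Cfsg.Agent.S1558
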