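import Cfsg.Statements.S1559
import Cfsg.Agent.Lib.helper33.TrioOrbits
import Cfsg.Agent.Lib.helper33.Primitive

set_option autoImplicit false
open scoped Pointwise
open Cfsg

namespace Cfsg.Agent.S1559

open Cfsg.Agent.Lib.helper94 Cfsg.Agent.Lib.helper33

theorem orbit_trio {T : Finset (Finset GolayPt)} (hT : T ∈ trios) :
    MulAction.orbit M24 T = trios := by
  ext X
  constructor
  · rintro ⟨g, rfl⟩
    exact smul_mem_trios g.2 hT
  · intro hX
    obtain ⟨g, hg, rfl⟩ := trios_transitive T hT X hX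
    exact ⟨⟨g, hg⟩, rfl⟩

theorem orbit_self_stab {G α : Type*} [Group G] [MulAction G α] (x : α) :
    MulAction.orbit ↥(MulAction.stabilizer G x) x = {x} := by
  ext y
  constructor
  · rintro ⟨h, rfl⟩; exact h.2
  · rintro rfl; exact MulAction.mem_orbit_self _

/-- A trio stabiliser has five orbits on the 3795 trios, of sizes 1, 42, 56, 1008, 2688; and the stabiliser is a maximal proper subgroup. -/
theorem result (T : Finset (Finset Cfsg.GolayPt)) (hT : T ∈ Cfsg.trios) : ∃ X₁ ∈ Cfsg.trios, ∃ X₂ ∈ Cfsg.trios, ∃ X₃ ∈ Cfsg.trios, ∃ X₄ ∈ Cfsg.trios, (MulAction.orbit ↥(MulAction.stabilizer Cfsg.M24 T) X₁).ncard = 42 ∧ (MulAction.orbit ↥(MulAction.stabilizer Cfsg.M24 T) X₂).ncard = 56 ∧ (MulAction.orbit ↥(MulAction.stabilizer Cfsg.M24 T) X₃).ncard = 1008 ∧ (MulAction.orbit ↥(MulAction.stabilizer Cfsg.M24 T) X₄).ncard = 2688 ∧ Cfsg.trios = {T} ∪ MulAction.orbit ↥(MulAction.stabilizer Cfsg.M24 T) X₁ ∪ MulAction.orbit ↥(MulAction.stabilizer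 Cfsg.M24 T) X₂ ∪ MulAction.orbit ↥(MulAction.stabilizer Cfsg.M24 T) X₃ ∪ MulAction.orbit ↥(MulAction.stabilizer Cfsg.M24 T) X₄ ∧ IsCoatom (MulAction.stabilizer Cfsg.M24 T) := by
  have hD := trio_decomp T hT
  have horb := orbit_trio hT
  have hself := orbit_self_stab (G := M24) T
  have hcoatom : IsCoatom (MulAction.stabilizer M24 T) := by
    obtain ⟨Xs, hf, hcov'⟩ := hD
    refine isCoatom_stabilizer_of_orbit_sizes (G := M24) T (Set.toFinite _) Xs
      [1, 42, 56, 1008, 2688] (hf.imp fun _ _ h => h.2) ?_ (by decide) ⟨42, by simp, by norm_num⟩ ?_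
    · intro X
      rw [horb]
      exact hcov' X
    · rw [horb, ncard_trios]
      decide
  obtain ⟨Xs, hf, hcov⟩ := hD
  rw [List.forall₂_cons_right_iff] at hf
  obtain ⟨X₀, Xs, h0, hf, rfl⟩ := hf
  rw [List.forall₂_cons_right_iff] at hf
  obtain ⟨X₁, Xs, h1, hf, rfl⟩ := hf
  rw [List.forall₂_cons_right_iff] at hf
  obtain ⟨X₂, Xs, h2, hf, rfl⟩ := hf
  rw [List.forall₂_cons_right_iff] at hf
  obtain ⟨X₃, Xs, h3, hf, rfl⟩ := hf
  rw [List.forall₂_cons_right_iff] at hf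
  obtain ⟨X₄, Xs, h4, hf, rfl⟩ := hf
  rw [List.forall₂_nil_right_iff] at hf
  subst hf
  have hS0 : MulAction.orbit ↥(MulAction.stabilizer M24 T) X₀ = {T} := by
    obtain ⟨X, hX, hm⟩ := (hcov T).1 hT
    simp only [List.mem_cons, List.not_mem_nil, or_false] at hX
    rcases hX with rfl | rfl | rfl | rfl | rfl
    · rw [← MulAction.orbit_eq_iff.2 hm, hself]
    · exfalso
      have c := h1.2
      rw [← MulAction.orbit_eq_iff.2 hm, hself, Set.ncard_singleton] at c
      omega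
    · exfalso
      have c := h2.2
      rw [← MulAction.orbit_eq_iff.2 hm, hself, Set.ncard_singleton] at c
      omega
    · exfalso
      have c := h3.2
      rw [← MulAction.orbit_eq_iff.2 hm, hself, Set.ncard_singleton] at c
      omega
    · exfalso
      have c := h4.2
      rw [← MulAction.orbit_eq_iff.2 hm, hself, Set.ncard_singleton] at c
      omega
  refine ⟨X₁, h1.1, X₂, h2.1, X₃, h3.1, X₄, h4.1, h1.2, h2.2, h3.2, h4.2, ?_, hcoatom⟩
  rw [← hS0]
  ext X
  rw [hcov]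
  simp only [List.mem_cons, List.not_mem_nil, or_false, Set.mem_union]
  constructor
  · rintro ⟨Y, (rfl | rfl | rfl | rfl | rfl), hY⟩
    · exact Or.inl (Or.inl (Or.inl (Or.inl hY)))
    · exact Or.inl (Or.inl (Or.inl (Or.inr hY)))
    · exact Or.inl (Or.inl (Or.inr hY))
    · exact Or.inl (Or.inr hY)
    · exact Or.inr hY
  · rintro ((((h | h) | h) | h) | h)
    · exact ⟨X₀, Or.inl rfl, h⟩
    · exact ⟨X₁, Or.inr (Or.inl rfl), h⟩
    · exact ⟨X₂, Or.inr (Or.inr (Or.inl rfl)), h⟩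
    · exact ⟨X₃, Or.inr (Or.inr (Or.inr (Or.inl rfl))), h⟩
    · exact ⟨X₄, Or.inr (Or.inr (Or.inr (Or.inr rfl))), h⟩

end Cfsg.Agent.S1559
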