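import Cfsg.Statements.S1560
import Cfsg.Agent.Lib.helper33.Dodecads

set_option autoImplicit false
open scoped Pointwise
open Cfsg

namespace Cfsg.Agent.S1560

open Finset Cfsg.Agent.Lib.helper33 Cfsg.Agent.Lib.helper94

theorem inter_symmDiff_self (d x : Finset Cfsg.GolayPt) : d ∩ symmDiff d x = d \ x := by
  ext i
  simp only [Finset.mem_inter, Finset.mem_symmDiff, Finset.mem_sdiff]
  tauto

theorem inter_compl_symmDiff (d x : Finset Cfsg.GolayPt) : d ∩ (symmDiff d x)ᶜ = d ∩ x := by
  ext i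
  simp only [Finset.mem_inter, Finset.mem_compl, Finset.mem_symmDiff]
  tauto

theorem compl_symmDiff_compl_symmDiff (d x : Finset Cfsg.GolayPt) :
    (symmDiff d (symmDiff d x)ᶜ)ᶜ = x := by
  ext i
  simp only [Finset.mem_compl, Finset.mem_symmDiff]
  tauto

theorem card_sdiff_eq (d x : Finset Cfsg.GolayPt) : (d \ x).card = d.card - (d ∩ x).card := by
  have := Finset.card_sdiff_add_card_inter d x
  omega

/-- Intersection sizes of two dodecads. -/
theorem dod_inter {d d' : Finset Cfsg.GolayPt} (hd : d ∈ Cfsg.dodecads) (hd' : d' ∈ Cfsg.dodecads) :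
    (d ∩ d').card = 0 ∨ (d ∩ d').card = 4 ∨ (d ∩ d').card = 6 ∨ (d ∩ d').card = 8 ∨ (d ∩ d').card = 12 := by
  rw [mem_dodecads'] at hd hd'
  have h1 := isCodeSupp_card (isCodeSupp_symmDiff hd.1 hd'.1)
  have h2 := card_symmDiff_add d d'
  rw [hd.2, hd'.2] at h2
  omega

theorem eq_of_inter_card_12 {d d' : Finset Cfsg.GolayPt} (hd : d ∈ Cfsg.dodecads) (hd' : d' ∈ Cfsg.dodecads)
    (h : (d ∩ d').card = 12) : d' = d := by
  rw [mem_dodecads'] at hd hd'
  have h1 : d ∩ d' = d := Finset.eq_of_subset_of_card_le Finset.inter_subset_left (by rw [h, hd.2])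
  have h2 : d ∩ d' = d' := Finset.eq_of_subset_of_card_le Finset.inter_subset_right (by rw [h, hd'.2])
  rw [← h2, h1]

theorem eq_compl_of_inter_card_0 {d d' : Finset Cfsg.GolayPt} (hd : d ∈ Cfsg.dodecads) (hd' : d' ∈ Cfsg.dodecads)
    (h : (d ∩ d').card = 0) : d' = dᶜ := by
  rw [mem_dodecads'] at hd hd'
  have hdisj : Disjoint d' d := by
    rw [Finset.disjoint_iff_inter_eq_empty, Finset.inter_comm]
    exact Finset.card_eq_zero.mp h
  apply Finset.eq_of_subset_of_card_le
  · intro x hx
    rw [Finset.mem_compl]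
    exact fun hxd => Finset.disjoint_left.mp hdisj hx hxd
  · rw [Finset.card_compl, golayPt_card, hd.2, hd'.2]

/-- The dodecads meeting `d` in 8 points correspond to the octads meeting `d` in 4 points. -/
theorem filter8_eq {d : Finset Cfsg.GolayPt} (hd : d ∈ Cfsg.dodecads) :
    dodF.filter (fun d' => (d ∩ d').card = 8) =
      (octF.filter (fun o => (d ∩ o).card = 4)).image (fun o => symmDiff d o) := by
  have hd0 := mem_dodecads'.1 hd
  ext d'
  simp only [Finset.mem_filter, Finset.mem_image, mem_dodF, mem_octF]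
  constructor
  · rintro ⟨hd', h8⟩
    have hd'0 := mem_dodecads'.1 hd'
    refine ⟨symmDiff d d', ⟨?_, ?_⟩, symmDiff_symmDiff_cancel_left d d'⟩
    · rw [mem_octads']
      refine ⟨isCodeSupp_symmDiff hd0.1 hd'0.1, ?_⟩
      have := card_symmDiff_add d d'
      omega
    · rw [inter_symmDiff_self, card_sdiff_eq, hd0.2, h8]
  · rintro ⟨o, ⟨ho, h4⟩, rfl⟩
    have ho0 := mem_octads'.1 ho
    refine ⟨?_, ?_⟩
    · rw [mem_dodecads']
      refine ⟨isCodeSupp_symmDiff hd0.1 ho0.1, ?_⟩
      have := card_symmDiff_add d o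
      omega
    · rw [inter_symmDiff_self, card_sdiff_eq, hd0.2, h4]

/-- The dodecads meeting `d` in 4 points correspond to the octads meeting `d` in 4 points. -/
theorem filter4_eq {d : Finset Cfsg.GolayPt} (hd : d ∈ Cfsg.dodecads) :
    dodF.filter (fun d' => (d ∩ d').card = 4) =
      (octF.filter (fun o => (d ∩ o).card = 4)).image (fun o => (symmDiff d o)ᶜ) := by
  have hd0 := mem_dodecads'.1 hd
  ext d'
  simp only [Finset.mem_filter, Finset.mem_image, mem_dodF, mem_octF]
  constructor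
  · rintro ⟨hd', h4⟩
    have hd'0 := mem_dodecads'.1 hd'
    refine ⟨(symmDiff d d')ᶜ, ⟨?_, ?_⟩, compl_symmDiff_compl_symmDiff d d'⟩
    · rw [mem_octads']
      refine ⟨isCodeSupp_compl (isCodeSupp_symmDiff hd0.1 hd'0.1), ?_⟩
      have := card_symmDiff_add d d'
      rw [Finset.card_compl, golayPt_card]
      omega
    · rw [inter_compl_symmDiff, h4]
  · rintro ⟨o, ⟨ho, h4⟩, rfl⟩
    have ho0 := mem_octads'.1 ho
    refine ⟨?_, ?_⟩
    · rw [mem_dodecads']
      refine ⟨isCodeSupp_compl (isCodeSupp_symmDiff hd0.1 ho0.1), ?_⟩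
      have := card_symmDiff_add d o
      rw [Finset.card_compl, golayPt_card]
      omega
    · rw [inter_compl_symmDiff, h4]

theorem card_filter8 {d : Finset Cfsg.GolayPt} (hd : d ∈ Cfsg.dodecads) :
    (dodF.filter (fun d' => (d ∩ d').card = 8)).card = 495 := by
  rw [filter8_eq hd, Finset.card_image_of_injective _ (symmDiff_right_injective d), card_octads_meet4 hd]

theorem card_filter4 {d : Finset Cfsg.GolayPt} (hd : d ∈ Cfsg.dodecads) :
    (dodF.filter (fun d' => (d ∩ d').card = 4)).card = 495 := by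
  have hinj : Function.Injective (fun o : Finset Cfsg.GolayPt => (symmDiff d o)ᶜ) :=
    compl_injective.comp (symmDiff_right_injective d)
  rw [filter4_eq hd, Finset.card_image_of_injective _ hinj, card_octads_meet4 hd]

theorem card_filter6 {d : Finset Cfsg.GolayPt} (hd : d ∈ Cfsg.dodecads) :
    (dodF.filter (fun d' => (d ∩ d').card = 6)).card = 1584 := by
  classical
  have hd0 := mem_dodecads'.1 hd
  have hmaps : ∀ d' ∈ dodF, (d ∩ d').card ∈ ({0, 4, 6, 8, 12} : Finset ℕ) := by
    intro d' hd'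
    have := dod_inter hd (mem_dodF.1 hd')
    simp only [Finset.mem_insert, Finset.mem_singleton]
    exact this
  have h := Finset.card_eq_sum_card_fiberwise hmaps
  have e0 : dodF.filter (fun d' => (d ∩ d').card = 0) = {dᶜ} := by
    ext d'
    simp only [Finset.mem_filter, mem_dodF, Finset.mem_singleton]
    constructor
    · rintro ⟨h1, h2⟩; exact eq_compl_of_inter_card_0 hd h1 h2
    · rintro rfl
      refine ⟨compl_mem_dodecads hd, ?_⟩
      rw [Finset.inter_compl, Finset.card_empty]
  have e12 : dodF.filter (fun d' => (d ∩ d').card = 12) = {d} := by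
    ext d'
    simp only [Finset.mem_filter, mem_dodF, Finset.mem_singleton]
    constructor
    · rintro ⟨h1, h2⟩; exact eq_of_inter_card_12 hd h1 h2
    · rintro rfl
      exact ⟨hd, by rw [Finset.inter_self, hd0.2]⟩
  rw [card_dodF, Finset.sum_insert (by decide), Finset.sum_insert (by decide), Finset.sum_insert (by decide),
    Finset.sum_insert (by decide), Finset.sum_singleton, e0, e12, card_filter4 hd, card_filter8 hd,
    Finset.card_singleton, Finset.card_singleton] at h
  omega

theorem set_eq (d : Finset Cfsg.GolayPt) (n : ℕ) :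
    {d' : Finset Cfsg.GolayPt | d' ∈ Cfsg.dodecads ∧ (d ∩ d').card = n} =
      ↑(dodF.filter (fun d' => (d ∩ d').card = n)) := by
  ext d'
  simp [mem_dodF]

/-- Intersection numbers of dodecads: a dodecad meets every other dodecad in 0, 4, 6 or 8 points, meeting 495 of them in 4 points, 1584 in 6 points and 495 in 8 points. -/
theorem result (d : Finset Cfsg.GolayPt) (hd : d ∈ Cfsg.dodecads) : (∀ d' ∈ Cfsg.dodecads, d' ≠ d → (d ∩ d').card = 0 ∨ (d ∩ d').card = 4 ∨ (d ∩ d').card = 6 ∨ (d ∩ d').card = 8) ∧ {d' : Finset Cfsg.GolayPt | d' ∈ Cfsg.dodecads ∧ (d ∩ d').card = 4}.ncard = 495 ∧ {d' : Finset Cfsg.GolayPt | d' ∈ Cfsg.dodecads ∧ (d ∩ d').card = 6}.ncard = 1584 ∧ {d' : Finset Cfsg.GolayPt | d' ∈ Cfsg.dodecads ∧ (d ∩ d').card = 8}.ncard = 495 := by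
  refine ⟨?_, ?_, ?_, ?_⟩
  · intro d' hd' hne
    rcases dod_inter hd hd' with h | h | h | h | h
    · exact Or.inl h
    · exact Or.inr (Or.inl h)
    · exact Or.inr (Or.inr (Or.inl h))
    · exact Or.inr (Or.inr (Or.inr h))
    · exact absurd (eq_of_inter_card_12 hd hd' h) hne
  · rw [set_eq, Set.ncard_coe_finset]; exact card_filter4 hd
  · rw [set_eq, Set.ncard_coe_finset]; exact card_filter6 hd
  · rw [set_eq, Set.ncard_coe_finset]; exact card_filter8 hd

end Cfsg.Agent.S1560
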