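import Cfsg.Statements.S1562
import Cfsg.Agent.Lib.helper33.Triads

set_option autoImplicit false
open scoped Pointwise
open Cfsg

namespace Cfsg.Agent.S1562

open Cfsg.Agent.Lib.helper9 Cfsg.Agent.Lib.helper33

/-- Triples of points disjoint from a given triple `T`: 210 lie with `T` in a common octad, 1120 do not, and the stabiliser of `T` is transitive on each kind. -/
theorem result (T : Finset Cfsg.GolayPt) (hT : T.card = 3) : {U : Finset Cfsg.GolayPt | U.card = 3 ∧ Disjoint T U ∧ (∃ o ∈ Cfsg.octads, T ∪ U ⊆ o)}.ncard = 210 ∧ {U : Finset Cfsg.GolayPt | U.card = 3 ∧ Disjoint T U ∧ ¬ (∃ o ∈ Cfsg.octads, T ∪ U ⊆ o)}.ncard = 1120 ∧ ∀ U U' : Finset Cfsg.GolayPt, U.card = 3 → U'.card = 3 → Disjoint T U → Disjoint T U' → ((∃ o ∈ Cfsg.octads, T ∪ U ⊆ o) ↔ (∃ o ∈ Cfsg.octads, T ∪ U' ⊆ o)) → ∃ g : Equiv.Perm Cfsg.GolayPt, g ∈ Cfsg.M24 ∧ g • T = T ∧ g • U = U' := by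
  refine ⟨?_, ?_, ?_⟩
  · have e : {U : Finset Cfsg.GolayPt | U.card = 3 ∧ Disjoint T U ∧ (∃ o ∈ Cfsg.octads, T ∪ U ⊆ o)} =
        ↑(triadIn T) := by
      ext U; rw [Finset.mem_coe, mem_triadIn]; rfl
    rw [e, Set.ncard_coe_finset, card_triadIn T hT]
  · have e : {U : Finset Cfsg.GolayPt | U.card = 3 ∧ Disjoint T U ∧ ¬ (∃ o ∈ Cfsg.octads, T ∪ U ⊆ o)} =
        ↑(triadOut T) := by
      ext U; rw [Finset.mem_coe, mem_triadOut]; rfl
    rw [e, Set.ncard_coe_finset, card_triadOut T hT]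
  · intro U U' hU hU' hd hd' hiff
    obtain ⟨g, hg, h1, h2⟩ := triad_pair_trans T U U' hT hU hU' hd hd' hiff
    exact ⟨g, hg, h1, h2⟩

end Cfsg.Agent.S1562
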