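import Cfsg.Statements.S1563
import Cfsg.Agent.Lib.helper33.KSets
import Cfsg.Agent.Lib.helper33.Primitive

set_option autoImplicit false
open scoped Pointwise
open Cfsg

namespace Cfsg.Agent.S1563

open Cfsg.Agent.Lib.helper9 Cfsg.Agent.Lib.helper33

/-- Suborbit lengths of the stabiliser of a pair of points. -/
def subN (j : ℕ) : ℕ := if j = 0 then 231 else if j = 1 then 44 else 1

/-- The stabiliser of a 2-element set is a maximal proper subgroup of the group of the length-24 code. -/
theorem result (s : Finset Cfsg.GolayPt) (hs : s.card = 2) : IsCoatom (MulAction.stabilizer Cfsg.M24 s) := by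
  classical
  have hs5 : s.card ≤ 5 := by omega
  have horb := orbit_eq_card s hs5
  have hfib : ∀ j ∈ ({0, 1, 2} : Finset ℕ),
      {y | y ∈ MulAction.orbit M24 s ∧ (s ∩ y).card = j}.ncard = subN j := by
    intro j hj
    have hj2 : j ≤ s.card := by
      simp only [Finset.mem_insert, Finset.mem_singleton] at hj
      omega
    rw [fiber_ncard_kset s hs5 j hj2, hs]
    simp only [Finset.mem_insert, Finset.mem_singleton] at hj
    rcases hj with rfl | rfl | rfl <;> decide
  refine isCoatom_stabilizer_of_suborbits (G := M24) s ?_ (fun y => (s ∩ y).card) {0, 1, 2}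
    subN ?_ hfib ?_ ?_ ?_
  · exact Set.toFinite _
  · intro y _
    have h1 : (s ∩ y).card ≤ s.card := Finset.card_le_card Finset.inter_subset_left
    simp only [Finset.mem_insert, Finset.mem_singleton]
    omega
  · intro y hy z hz hyz
    rw [horb] at hy hz
    have hy' : y.card = 2 := hy.trans hs
    have hz' : z.card = 2 := hz.trans hs
    have hu : (s ∪ y).card ≤ 5 := by
      have := Finset.card_union_le s y
      omega
    obtain ⟨g, hg, hgs, hgy⟩ := exists_stab_of_inter_card s y z hu (hy'.trans hz'.symm) hyz
    exact ⟨⟨g, hg⟩, hgs, hgy⟩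
  · have h0 := hfib 0 (by simp)
    have hne : {y | y ∈ MulAction.orbit M24 s ∧ (s ∩ y).card = 0}.Nonempty := by
      rw [← Set.ncard_pos, h0]; decide
    obtain ⟨y, hy, hy0⟩ := hne
    refine ⟨y, hy, ?_⟩
    rintro rfl
    rw [Finset.inter_self, hs] at hy0
    omega
  · rw [ncard_orbit_kset s hs5, hs]
    simp only [Finset.inter_self, hs]
    decide

end Cfsg.Agent.S1563
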