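import Cfsg.Statements.S1564
import Cfsg.Agent.Lib.helper33.Triads
import Cfsg.Agent.Lib.helper33.Primitive

set_option autoImplicit false
open scoped Pointwise
open Cfsg

namespace Cfsg.Agent.S1564

open Cfsg.Agent.Lib.helper9 Cfsg.Agent.Lib.helper33

/-- Suborbit lengths of the stabiliser of a triple of points. -/
def subN (j : ℕ) : ℕ :=
  if j = 0 then 1120 else if j = 1 then 210 else if j = 3 then 630 else if j = 5 then 63 else 1

open Classical in
/-- The type of a triple relative to `s`. -/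
noncomputable def tau (s y : Finset GolayPt) : ℕ :=
  2 * (s ∩ y).card + (if ∃ o ∈ octads, s ∪ y ⊆ o then 1 else 0)

theorem tau_pos {s y : Finset GolayPt} (hs : s.card = 3) (hy : y.card = 3)
    (hk : 1 ≤ (s ∩ y).card) : tau s y = 2 * (s ∩ y).card + 1 := by
  classical
  have hu : (s ∪ y).card ≤ 5 := by
    have := Finset.card_union_add_card_inter s y
    omega
  rw [tau, if_pos (exists_octad_supset _ hu)]

theorem inter_card_zero {s y : Finset GolayPt} : (s ∩ y).card = 0 ↔ Disjoint s y := by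
  rw [Finset.card_eq_zero, Finset.disjoint_iff_inter_eq_empty]

theorem tau_zero_iff {s y : Finset GolayPt} (hs : s.card = 3) (hy : y.card = 3) :
    tau s y = 0 ↔ Disjoint s y ∧ ¬ ∃ o ∈ octads, s ∪ y ⊆ o := by
  classical
  rw [← inter_card_zero]
  by_cases hk : 1 ≤ (s ∩ y).card
  · rw [tau_pos hs hy hk]; omega
  · have hk0 : (s ∩ y).card = 0 := by omega
    rw [tau, hk0]
    by_cases hP : ∃ o ∈ octads, s ∪ y ⊆ o
    · simp [hP]
    · simp [hP]

theorem tau_one_iff {s y : Finset GolayPt} (hs : s.card = 3) (hy : y.card = 3) :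
    tau s y = 1 ↔ Disjoint s y ∧ ∃ o ∈ octads, s ∪ y ⊆ o := by
  classical
  rw [← inter_card_zero]
  by_cases hk : 1 ≤ (s ∩ y).card
  · rw [tau_pos hs hy hk]; omega
  · have hk0 : (s ∩ y).card = 0 := by omega
    rw [tau, hk0]
    by_cases hP : ∃ o ∈ octads, s ∪ y ⊆ o
    · simp [hP]
    · simp [hP]

theorem tau_odd_iff {s y : Finset GolayPt} (hs : s.card = 3) (hy : y.card = 3) (k : ℕ)
    (hk : 1 ≤ k) : tau s y = 2 * k + 1 ↔ (s ∩ y).card = k := by
  classical
  by_cases hk' : 1 ≤ (s ∩ y).card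
  · rw [tau_pos hs hy hk']; omega
  · have hk0 : (s ∩ y).card = 0 := by omega
    rw [tau, hk0]
    by_cases hP : ∃ o ∈ octads, s ∪ y ⊆ o
    · simp [hP]; omega
    · simp [hP]; omega

theorem fiber_ncard {s : Finset GolayPt} (hs : s.card = 3) (j : ℕ)
    (hj : j ∈ ({0, 1, 3, 5, 7} : Finset ℕ)) :
    {y | y ∈ MulAction.orbit M24 s ∧ tau s y = j}.ncard = subN j := by
  classical
  have hs5 : s.card ≤ 5 := by omega
  have horb := orbit_eq_card s hs5
  have hodd : ∀ k, 1 ≤ k → k ≤ 3 → {y | y ∈ MulAction.orbit M24 s ∧ tau s y = 2 * k + 1}.ncard =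
      s.card.choose k * (24 - s.card).choose (s.card - k) := by
    intro k hk hk3
    rw [← fiber_ncard_kset s hs5 k (by omega)]
    congr 1
    ext y
    simp only [Set.mem_ofPred_eq]
    constructor
    · rintro ⟨hy, hτ⟩
      have hy' : y.card = 3 := by rw [horb] at hy; exact hy.trans hs
      exact ⟨hy, (tau_odd_iff hs hy' k hk).1 hτ⟩
    · rintro ⟨hy, hτ⟩
      have hy' : y.card = 3 := by rw [horb] at hy; exact hy.trans hs
      exact ⟨hy, (tau_odd_iff hs hy' k hk).2 hτ⟩
  simp only [Finset.mem_insert, Finset.mem_singleton] at hj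
  rcases hj with rfl | rfl | rfl | rfl | rfl
  · have e : {y | y ∈ MulAction.orbit M24 s ∧ tau s y = 0} = ↑(triadOut s) := by
      ext y
      rw [Finset.mem_coe, mem_triadOut, horb]
      simp only [Set.mem_ofPred_eq]
      constructor
      · rintro ⟨hy, hτ⟩
        have hy' : y.card = 3 := hy.trans hs
        exact ⟨hy', (tau_zero_iff hs hy').1 hτ⟩
      · rintro ⟨hy', h⟩
        exact ⟨hy'.trans hs.symm, (tau_zero_iff hs hy').2 h⟩
    rw [e, Set.ncard_coe_finset, card_triadOut s hs]; rfl
  · have e : {y | y ∈ MulAction.orbit M24 s ∧ tau s y = 1} = ↑(triadIn s) := by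
      ext y
      rw [Finset.mem_coe, mem_triadIn, horb]
      simp only [Set.mem_ofPred_eq]
      constructor
      · rintro ⟨hy, hτ⟩
        have hy' : y.card = 3 := hy.trans hs
        exact ⟨hy', (tau_one_iff hs hy').1 hτ⟩
      · rintro ⟨hy', h⟩
        exact ⟨hy'.trans hs.symm, (tau_one_iff hs hy').2 h⟩
    rw [e, Set.ncard_coe_finset, card_triadIn s hs]; rfl
  · have := hodd 1 (by norm_num) (by norm_num)
    rw [hs] at this
    rw [this]; decide
  · have := hodd 2 (by norm_num) (by norm_num)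
    rw [hs] at this
    rw [this]; decide
  · have := hodd 3 (by norm_num) (by norm_num)
    rw [hs] at this
    rw [this]; decide

/-- The stabiliser of a 3-element set is a maximal proper subgroup of the group of the length-24 code. -/
theorem result (s : Finset Cfsg.GolayPt) (hs : s.card = 3) : IsCoatom (MulAction.stabilizer Cfsg.M24 s) := by
  classical
  have hs5 : s.card ≤ 5 := by omega
  have horb := orbit_eq_card s hs5
  refine isCoatom_stabilizer_of_suborbits (G := M24) s ?_ (tau s) {0, 1, 3, 5, 7}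
    subN ?_ (fiber_ncard hs) ?_ ?_ ?_
  · exact Set.toFinite _
  · intro y hy
    rw [horb] at hy
    have hy' : y.card = 3 := hy.trans hs
    have h1 : (s ∩ y).card ≤ s.card := Finset.card_le_card Finset.inter_subset_left
    simp only [Finset.mem_insert, Finset.mem_singleton]
    by_cases hk : 1 ≤ (s ∩ y).card
    · rw [tau_pos hs hy' hk]; omega
    · have hk0 : (s ∩ y).card = 0 := by omega
      rw [tau, hk0]
      by_cases hP : ∃ o ∈ octads, s ∪ y ⊆ o
      · simp [hP]
      · simp [hP]
  · intro y hy z hz hyz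
    rw [horb] at hy hz
    have hy' : y.card = 3 := hy.trans hs
    have hz' : z.card = 3 := hz.trans hs
    by_cases hk : 1 ≤ (s ∩ y).card
    · have hτy := tau_pos hs hy' hk
      have hkz : (s ∩ z).card = (s ∩ y).card := by
        rw [← tau_odd_iff hs hz' _ hk, ← hyz, hτy]
      have hu : (s ∪ y).card ≤ 5 := by
        have := Finset.card_union_add_card_inter s y
        omega
      obtain ⟨g, hg, hgs, hgy⟩ := exists_stab_of_inter_card s y z hu (hy'.trans hz'.symm) hkz.symm
      exact ⟨⟨g, hg⟩, hgs, hgy⟩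
    · have hk0 : (s ∩ y).card = 0 := by omega
      have hdy : Disjoint s y := inter_card_zero.1 hk0
      by_cases hP : ∃ o ∈ octads, s ∪ y ⊆ o
      · have h1 : tau s y = 1 := (tau_one_iff hs hy').2 ⟨hdy, hP⟩
        have h2 := (tau_one_iff hs hz').1 (hyz ▸ h1)
        obtain ⟨g, hg, hgs, hgy⟩ := triad_pair_trans s y z hs hy' hz' hdy h2.1
          ⟨fun _ => h2.2, fun _ => hP⟩
        exact ⟨⟨g, hg⟩, hgs, hgy⟩
      · have h1 : tau s y = 0 := (tau_zero_iff hs hy').2 ⟨hdy, hP⟩
        have h2 := (tau_zero_iff hs hz').1 (hyz ▸ h1)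
        obtain ⟨g, hg, hgs, hgy⟩ := triad_pair_trans s y z hs hy' hz' hdy h2.1
          ⟨fun h => absurd h hP, fun h => absurd h h2.2⟩
        exact ⟨⟨g, hg⟩, hgs, hgy⟩
  · have h0 := fiber_ncard hs 0 (by simp)
    have hne : {y | y ∈ MulAction.orbit M24 s ∧ tau s y = 0}.Nonempty := by
      rw [← Set.ncard_pos, h0]; decide
    obtain ⟨y, hy, hy0⟩ := hne
    refine ⟨y, hy, ?_⟩
    rintro rfl
    have := (tau_zero_iff hs hs).1 hy0
    have h3 : (y ∩ y).card = 0 := inter_card_zero.2 this.1
    rw [Finset.inter_self, hs] at h3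
    omega
  · have hτ : tau s s = 7 := by
      rw [tau_pos hs hs (by rw [Finset.inter_self, hs]; norm_num), Finset.inter_self, hs]
    rw [ncard_orbit_kset s hs5, hs, hτ]
    decide

end Cfsg.Agent.S1564
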