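import Cfsg.Statements.S1565
import Cfsg.Agent.S1556
import Cfsg.Agent.Lib.helper33.OctadCounts
import Cfsg.Agent.Lib.helper33.Primitive

set_option autoImplicit false
open scoped Pointwise
open Cfsg

namespace Cfsg.Agent.S1565

open Cfsg.Agent.Lib.helper9 Cfsg.Agent.Lib.helper33

/-- Suborbit lengths of the octad stabiliser. -/
def subN (j : ℕ) : ℕ := if j = 0 then 30 else if j = 2 then 448 else if j = 4 then 280 else 1

theorem fiber_ncard {o : Finset GolayPt} (ho : o ∈ octads) (j : ℕ) (hj : j ∈ ({0, 2, 4, 8} : Finset ℕ)) :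
    {y | y ∈ MulAction.orbit M24 o ∧ (o ∩ y).card = j}.ncard = subN j := by
  classical
  rw [orbit_eq_octads ho]
  have e : {y | y ∈ octads ∧ (o ∩ y).card = j} = ↑(octF.filter (fun y => (o ∩ y).card = j)) := by
    ext y; simp [mem_octF]
  rw [e, Set.ncard_coe_finset]
  simp only [Finset.mem_insert, Finset.mem_singleton] at hj
  rcases hj with rfl | rfl | rfl | rfl
  · exact card_octF_inter_card0 ho
  · exact card_octF_inter_card2 ho
  · exact card_octF_inter_card4 ho
  · exact card_octF_inter_card8 ho

/-- The stabiliser of an octad is a maximal proper subgroup of the group of the length-24 code. -/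
theorem result (o : Finset Cfsg.GolayPt) (ho : o ∈ Cfsg.octads) : IsCoatom (MulAction.stabilizer Cfsg.M24 o) := by
  classical
  have horb := orbit_eq_octads ho
  refine isCoatom_stabilizer_of_suborbits (G := M24) o ?_ (fun y => (o ∩ y).card) {0, 2, 4, 8}
    subN ?_ (fiber_ncard ho) ?_ ?_ ?_
  · rw [horb, ← coe_octF]; exact Finset.finite_toSet _
  · intro y hy
    rw [horb] at hy
    by_cases h : y = o
    · subst h; simp [hy.2]
    · rcases octads_inter ho hy (Ne.symm h) with h | h | h <;> simp [h]
  · intro y hy z hz hyz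
    rw [horb] at hy hz
    obtain ⟨g, hg, hgo, hgy⟩ := Cfsg.Agent.S1556.result o y z ho hy hz hyz
    exact ⟨⟨g, hg⟩, hgo, hgy⟩
  · have h1 : 1 < octF.card := by rw [card_octF]; norm_num
    obtain ⟨b, hb, hbo⟩ := Finset.exists_mem_ne h1 o
    rw [horb]
    exact ⟨b, mem_octF.1 hb, hbo⟩
  · have hc : (MulAction.orbit M24 o).ncard = 759 := by
      rw [horb, ← coe_octF, Set.ncard_coe_finset, card_octF]
    rw [hc]
    simp only [Finset.inter_self, ho.2]
    decide

end Cfsg.Agent.S1565
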