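import Cfsg.Statements.S1566
import Cfsg.Agent.S1560
import Cfsg.Agent.Lib.helper33.M24Dodecads
import Cfsg.Agent.Lib.helper33.Primitive

set_option autoImplicit false
open scoped Pointwise
open Cfsg

namespace Cfsg.Agent.S1566

open Cfsg.Agent.Lib.helper9 Cfsg.Agent.Lib.helper33

/-- The pair formed by a set and its complement. -/
def pairOf (e : Finset GolayPt) : Finset (Finset GolayPt) := {e, eᶜ}

theorem smul_compl (g : Equiv.Perm GolayPt) (s : Finset GolayPt) : g • sᶜ = (g • s)ᶜ := by
  ext p
  rw [Finset.mem_compl, ← Finset.inv_smul_mem_iff, ← Finset.inv_smul_mem_iff, Finset.mem_compl]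

theorem smul_pairOf (g : Equiv.Perm GolayPt) (e : Finset GolayPt) :
    g • pairOf e = pairOf (g • e) := by
  rw [pairOf, pairOf, Finset.smul_finset_insert, Finset.smul_finset_singleton, smul_compl]

theorem pairOf_compl (e : Finset GolayPt) : pairOf eᶜ = pairOf e := by
  rw [pairOf, pairOf, compl_compl, Finset.pair_comm]

theorem pairOf_eq_iff {e f : Finset GolayPt} : pairOf f = pairOf e ↔ f = e ∨ f = eᶜ := by
  constructor
  · intro h
    have : f ∈ pairOf e := by rw [← h, pairOf]; exact Finset.mem_insert_self _ _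
    rw [pairOf, Finset.mem_insert, Finset.mem_singleton] at this
    exact this
  · rintro (rfl | rfl)
    · rfl
    · exact pairOf_compl e

/-- The type of a family of sets relative to `d`: the largest intersection with `d`. -/
def tau (d : Finset GolayPt) (P : Finset (Finset GolayPt)) : ℕ := P.sup (fun e => (d ∩ e).card)

theorem inter_compl_card {d : Finset GolayPt} (hd : d.card = 12) (e : Finset GolayPt) :
    (d ∩ eᶜ).card = 12 - (d ∩ e).card := by
  have h1 : d ∩ eᶜ = d \ e := by
    ext p; simp only [Finset.mem_inter, Finset.mem_compl, Finset.mem_sdiff]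
  rw [h1, Cfsg.Agent.S1560.card_sdiff_eq, hd]

theorem tau_pairOf {d : Finset GolayPt} (hd : d.card = 12) (e : Finset GolayPt) :
    tau d (pairOf e) = max (d ∩ e).card (12 - (d ∩ e).card) := by
  rw [tau, pairOf, Finset.sup_insert, Finset.sup_singleton, inter_compl_card hd]

theorem tau_smul (g : Equiv.Perm GolayPt) (d : Finset GolayPt) (P : Finset (Finset GolayPt)) :
    tau (g • d) (g • P) = tau d P := by
  rw [tau, tau, Finset.smul_finset_def, Finset.sup_image]
  congr 1
  funext e
  show (g • d ∩ g • e).card = (d ∩ e).card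
  rw [← Finset.smul_finset_inter, Finset.card_smul_finset]

/-- The orbit of a complementary pair of dodecads. -/
theorem orbit_pair {d : Finset GolayPt} (hd : d ∈ dodecads) :
    MulAction.orbit M24 (pairOf d) = {P | ∃ e ∈ dodecads, P = pairOf e} := by
  ext P
  constructor
  · rintro ⟨g, rfl⟩
    exact ⟨g.1 • d, smul_mem_dodecads g.1 g.2 d hd, smul_pairOf g.1 d⟩
  · rintro ⟨e, he, rfl⟩
    obtain ⟨σ, hσ, rfl⟩ := dodecads_transitive hd he
    exact ⟨⟨σ, hσ⟩, smul_pairOf σ d⟩

/-- Suborbit lengths. -/
def subN (j : ℕ) : ℕ := if j = 6 then 792 else if j = 8 then 495 else 1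

theorem fiber_eq {d : Finset GolayPt} (hd : d ∈ dodecads) (j : ℕ) (hj : 6 ≤ j) :
    {P | P ∈ MulAction.orbit M24 (pairOf d) ∧ tau d P = j} =
      ↑((dodF.filter (fun e => (d ∩ e).card = j)).image pairOf) := by
  have hd12 := hd.2
  ext P
  rw [orbit_pair hd, Finset.mem_coe, Finset.mem_image]
  constructor
  · rintro ⟨⟨e, he, rfl⟩, hτ⟩
    rw [tau_pairOf hd12] at hτ
    by_cases hk : (d ∩ e).card = j
    · exact ⟨e, Finset.mem_filter.2 ⟨mem_dodF.2 he, hk⟩, rfl⟩
    · refine ⟨eᶜ, Finset.mem_filter.2 ⟨mem_dodF.2 (compl_mem_dodecads he), ?_⟩, pairOf_compl e⟩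
      rw [inter_compl_card hd12]
      omega
  · rintro ⟨e, he, rfl⟩
    rw [Finset.mem_filter, mem_dodF] at he
    refine ⟨⟨e, he.1, rfl⟩, ?_⟩
    rw [tau_pairOf hd12, he.2]
    omega

theorem fiber_ncard {d : Finset GolayPt} (hd : d ∈ dodecads) (j : ℕ)
    (hj : j ∈ ({6, 8, 12} : Finset ℕ)) :
    {P | P ∈ MulAction.orbit M24 (pairOf d) ∧ tau d P = j}.ncard = subN j := by
  classical
  have hd12 := hd.2
  simp only [Finset.mem_insert, Finset.mem_singleton] at hj
  rw [fiber_eq hd j (by omega), Set.ncard_coe_finset]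
  rcases hj with rfl | rfl | rfl
  · -- two-to-one
    have h := Finset.card_eq_sum_card_image pairOf (dodF.filter (fun e => (d ∩ e).card = 6))
    rw [Cfsg.Agent.S1560.card_filter6 hd] at h
    have h2 : ∀ P ∈ (dodF.filter (fun e => (d ∩ e).card = 6)).image pairOf,
        ((dodF.filter (fun e => (d ∩ e).card = 6)).filter (fun e => pairOf e = P)).card = 2 := by
      intro P hP
      obtain ⟨e, he, rfl⟩ := Finset.mem_image.1 hP
      rw [Finset.mem_filter, mem_dodF] at he
      have hne : e ≠ eᶜ := by
        intro h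
        have h1 : (d ∩ e).card = 6 := he.2
        have h3 : e.card = 12 := he.1.2
        have h4 := Finset.card_compl e
        rw [← h, golayPt_card, h3] at h4
        have : e = ∅ := by
          have h5 : e ∩ eᶜ = ∅ := Finset.inter_compl e
          rw [← h, Finset.inter_self] at h5
          exact h5
        rw [this] at h3
        simp at h3
      have : (dodF.filter (fun e => (d ∩ e).card = 6)).filter (fun f => pairOf f = pairOf e) =
          {e, eᶜ} := by
        ext f
        rw [Finset.mem_filter, Finset.mem_filter, mem_dodF, Finset.mem_insert,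
          Finset.mem_singleton, pairOf_eq_iff]
        constructor
        · rintro ⟨-, h⟩; exact h
        · rintro (rfl | rfl)
          · exact ⟨he, Or.inl rfl⟩
          · refine ⟨⟨compl_mem_dodecads he.1, ?_⟩, Or.inr rfl⟩
            rw [inter_compl_card hd12, he.2]
      rw [this, Finset.card_pair hne]
    rw [Finset.sum_congr rfl h2, Finset.sum_const, smul_eq_mul] at h
    show _ = 792
    omega
  · rw [Finset.card_image_of_injOn, Cfsg.Agent.S1560.card_filter8 hd]
    · rfl
    · intro e he f hf hef
      rw [Finset.mem_coe, Finset.mem_filter] at he hf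
      rcases pairOf_eq_iff.1 hef.symm with h | h
      · exact h.symm
      · exfalso
        have := hf.2
        rw [h, inter_compl_card hd12, he.2] at this
        omega
  · have : (dodF.filter (fun e => (d ∩ e).card = 12)) = {d} := by
      ext e
      rw [Finset.mem_filter, mem_dodF, Finset.mem_singleton]
      constructor
      · rintro ⟨he, h⟩; exact Cfsg.Agent.S1560.eq_of_inter_card_12 hd he h
      · rintro rfl; exact ⟨hd, by rw [Finset.inter_self, hd12]⟩
    rw [this, Finset.image_singleton, Finset.card_singleton]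
    rfl

/-- The stabiliser of a complementary pair of dodecads is a maximal proper subgroup of the group of the length-24 code. -/
theorem result (d : Finset Cfsg.GolayPt) (hd : d ∈ Cfsg.dodecads) : IsCoatom (MulAction.stabilizer Cfsg.M24 ({d, dᶜ} : Finset (Finset Cfsg.GolayPt))) := by
  classical
  have hd12 := hd.2
  show IsCoatom (MulAction.stabilizer M24 (pairOf d))
  have horb := orbit_pair hd
  have hfin : (MulAction.orbit M24 (pairOf d)).Finite := Set.toFinite _
  have hR : ∀ P ∈ MulAction.orbit M24 (pairOf d), tau d P ∈ ({6, 8, 12} : Finset ℕ) := by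
    intro P hP
    rw [horb] at hP
    obtain ⟨e, he, rfl⟩ := hP
    rw [tau_pairOf hd12]
    simp only [Finset.mem_insert, Finset.mem_singleton]
    rcases Cfsg.Agent.S1560.dod_inter hd he with h | h | h | h | h <;> rw [h] <;> decide
  have hτx : tau d (pairOf d) = 12 := by
    rw [tau_pairOf hd12, Finset.inter_self, hd12]; rfl
  refine isCoatom_stabilizer_of_suborbits (G := M24) (pairOf d) hfin (tau d) {6, 8, 12}
    subN hR (fiber_ncard hd) ?_ ?_ ?_
  · intro P hP Q hQ hPQ
    rw [horb] at hP hQ
    obtain ⟨e, he, rfl⟩ := hP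
    obtain ⟨f, hf, rfl⟩ := hQ
    -- choose representatives with the larger intersection
    have key : ∀ e ∈ dodecads, ∃ e' ∈ dodecads, pairOf e' = pairOf e ∧
        (d ∩ e').card = tau d (pairOf e) := by
      intro e he
      rw [tau_pairOf hd12]
      by_cases hk : 12 - (d ∩ e).card ≤ (d ∩ e).card
      · exact ⟨e, he, rfl, (max_eq_left hk).symm⟩
      · refine ⟨eᶜ, compl_mem_dodecads he, pairOf_compl e, ?_⟩
        rw [inter_compl_card hd12, max_eq_right (by omega)]
    obtain ⟨e', he', hpe, hke⟩ := key e he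
    obtain ⟨f', hf', hpf, hkf⟩ := key f hf
    obtain ⟨g, hg, hgd, hge⟩ := dodecad_stab_orbits d e' f' hd he' hf' (by rw [hke, hkf, hPQ])
    refine ⟨⟨g, hg⟩, ?_, ?_⟩
    · show g • pairOf d = pairOf d
      rw [smul_pairOf, hgd]
    · show g • pairOf e = pairOf f
      rw [← hpe, smul_pairOf, hge, hpf]
  · have h8 := fiber_ncard hd 8 (by simp)
    have hne : {P | P ∈ MulAction.orbit M24 (pairOf d) ∧ tau d P = 8}.Nonempty := by
      rw [← Set.ncard_pos, h8]; decide
    obtain ⟨P, hP, hP8⟩ := hne
    refine ⟨P, hP, ?_⟩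
    rintro rfl
    rw [hτx] at hP8
    omega
  · rw [ncard_orbit_eq_sum (G := M24) (pairOf d) hfin (tau d) {6, 8, 12} subN hR (fiber_ncard hd),
      hτx]
    decide

end Cfsg.Agent.S1566
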