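import Cfsg.Statements.S1568
import Cfsg.Agent.Lib.helper93.LeechCountU
import Cfsg.Agent.Lib.helper93.LeechCountNum

set_option autoImplicit false
open Cfsg

namespace Cfsg.Agent.S1568

set_option linter.constructorNameAsVariable false

/-- coordinates `0, ±2` -/
def uA : Finset ℤ := {0, 2, -2}

/-- coordinates in `[-8, 8]` other than `±4` -/
noncomputable def uB : Finset ℤ := (Finset.Icc (-8) 8).filter fun a => a ≠ 4 ∧ a ≠ -4

/-- coordinates `±1, ±3` -/
def uD : Finset ℤ := {1, -1, 3, -3}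

/-- all coordinates in `[-8, 8]` -/
noncomputable def uF : Finset ℤ := Finset.Icc (-8) 8

open Cfsg.Agent.Lib.helper93 Cfsg.Agent.Lib.helper9

theorem uA_bd : ∀ a ∈ uA, -8 ≤ a ∧ a ≤ 8 := by
  intro a ha
  simp only [uA, Finset.mem_insert, Finset.mem_singleton] at ha
  omega

theorem uB_bd : ∀ a ∈ uB, -8 ≤ a ∧ a ≤ 8 := by
  intro a ha
  simp only [uB, Finset.mem_filter, Finset.mem_Icc] at ha
  omega

theorem uD_bd : ∀ a ∈ uD, -8 ≤ a ∧ a ≤ 8 := by
  intro a ha
  simp only [uD, Finset.mem_insert, Finset.mem_singleton] at ha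
  omega

theorem uF_bd : ∀ a ∈ uF, -8 ≤ a ∧ a ≤ 8 := by
  intro a ha
  simp only [uF, Finset.mem_Icc] at ha
  omega

theorem allow_uA0 : allowU uA 0 = ([0] : List ℤ).toFinset := by
  ext a
  rw [mem_allowU]
  simp only [uA, List.toFinset_cons, List.toFinset_nil, Finset.mem_insert, Finset.mem_singleton,
    Finset.notMem_empty, or_false, Int.ModEq]
  omega

theorem allow_uA2 : allowU uA (0 + 2) = ([-2, 2] : List ℤ).toFinset := by
  ext a
  rw [mem_allowU]
  simp only [uA, List.toFinset_cons, List.toFinset_nil, Finset.mem_insert, Finset.mem_singleton,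
    Finset.notMem_empty, or_false, Int.ModEq]
  omega

theorem allow_uB0 : allowU uB 0 = ([-8, 0, 8] : List ℤ).toFinset := by
  ext a
  rw [mem_allowU]
  simp only [uB, Finset.mem_filter, Finset.mem_Icc, List.toFinset_cons, List.toFinset_nil,
    Finset.mem_insert, Finset.notMem_empty, or_false, Int.ModEq]
  omega

theorem allow_uB2 : allowU uB (0 + 2) = ([-6, -2, 2, 6] : List ℤ).toFinset := by
  ext a
  rw [mem_allowU]
  simp only [uB, Finset.mem_filter, Finset.mem_Icc, List.toFinset_cons, List.toFinset_nil,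
    Finset.mem_insert, Finset.notMem_empty, or_false, Int.ModEq]
  omega

theorem allow_uD1 : allowU uD 1 = ([-3, 1] : List ℤ).toFinset := by
  ext a
  rw [mem_allowU]
  simp only [uD, List.toFinset_cons, List.toFinset_nil, Finset.mem_insert, Finset.mem_singleton,
    Finset.notMem_empty, or_false, Int.ModEq]
  omega

theorem allow_uD3 : allowU uD (1 + 2) = ([-1, 3] : List ℤ).toFinset := by
  ext a
  rw [mem_allowU]
  simp only [uD, List.toFinset_cons, List.toFinset_nil, Finset.mem_insert, Finset.mem_singleton,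
    Finset.notMem_empty, or_false, Int.ModEq]
  omega

set_option maxRecDepth 100000 in
theorem kvA_0 : cKval (cPvL [0]) (cPvL [-2, 2]) 0 0 48 = 0 := by decide +kernel

set_option maxRecDepth 100000 in
theorem kvA_8 : cKval (cPvL [0]) (cPvL [-2, 2]) 0 8 48 = 0 := by decide +kernel

set_option maxRecDepth 100000 in
theorem kvA_12 : cKval (cPvL [0]) (cPvL [-2, 2]) 0 12 48 = 2048 := by decide +kernel

set_option maxRecDepth 100000 in
theorem kvA_16 : cKval (cPvL [0]) (cPvL [-2, 2]) 0 16 48 = 0 := by decide +kernel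

set_option maxRecDepth 100000 in
theorem kvA_24 : cKval (cPvL [0]) (cPvL [-2, 2]) 0 24 48 = 0 := by decide +kernel

set_option maxRecDepth 100000 in
theorem kvB_0 : cKval (cPvL [-8, 0, 8]) (cPvL [-6, -2, 2, 6]) 0 0 48 = 0 := by decide +kernel

set_option maxRecDepth 100000 in
theorem kvB_8 : cKval (cPvL [-8, 0, 8]) (cPvL [-6, -2, 2, 6]) 0 8 48 = 0 := by decide +kernel

set_option maxRecDepth 100000 in
theorem kvB_12 : cKval (cPvL [-8, 0, 8]) (cPvL [-6, -2, 2, 6]) 0 12 48 = 2048 := by decide +kernel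

set_option maxRecDepth 100000 in
theorem kvB_16 : cKval (cPvL [-8, 0, 8]) (cPvL [-6, -2, 2, 6]) 0 16 48 = 0 := by decide +kernel

set_option maxRecDepth 100000 in
theorem kvB_24 : cKval (cPvL [-8, 0, 8]) (cPvL [-6, -2, 2, 6]) 0 24 48 = 0 := by decide +kernel

set_option maxRecDepth 100000 in
theorem kvD_0 : cKval (cPvL [-3, 1]) (cPvL [-1, 3]) 4 0 48 = 2024 := by decide +kernel

set_option maxRecDepth 100000 in
theorem kvD_8 : cKval (cPvL [-3, 1]) (cPvL [-1, 3]) 4 8 48 = 2024 := by decide +kernel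

set_option maxRecDepth 100000 in
theorem kvD_12 : cKval (cPvL [-3, 1]) (cPvL [-1, 3]) 4 12 48 = 2024 := by decide +kernel

set_option maxRecDepth 100000 in
theorem kvD_16 : cKval (cPvL [-3, 1]) (cPvL [-1, 3]) 4 16 48 = 2024 := by decide +kernel

set_option maxRecDepth 100000 in
theorem kvD_24 : cKval (cPvL [-3, 1]) (cPvL [-1, 3]) 4 24 48 = 2024 := by decide +kernel

theorem card_A : (parTU uA 0 48).card = 5275648 := by
  rw [card_parTU uA uA_bd 0 0 [0] [-2, 2] (by norm_num) allow_uA0 allow_uA2 (by decide) (by decide)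
    (by decide) (by decide) 48 (by norm_num), kvA_0, kvA_8, kvA_12, kvA_16, kvA_24]

theorem card_B : (parTU uB 0 48).card = 5275648 := by
  rw [card_parTU uB uB_bd 0 0 [-8, 0, 8] [-6, -2, 2, 6] (by norm_num) allow_uB0 allow_uB2
    (by decide) (by decide) (by decide) (by decide) 48 (by norm_num), kvB_0, kvB_8, kvB_12,
    kvB_16, kvB_24]

theorem card_D : (parTU uD 1 48).card = 8290304 := by
  rw [card_parTU uD uD_bd 1 4 [-3, 1] [-1, 3] (by norm_num) allow_uD1 allow_uD3 (by decide)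
    (by decide) (by decide) (by decide) 48 (by norm_num), kvD_0, kvD_8, kvD_12, kvD_16, kvD_24]

theorem card_F0 : (parTU uF 0 48).card = 8384512 := by
  rw [card_parTU uF uF_bd 0 0 (allowL 0) (allowL 2) (by norm_num) allow_zero allow_two
    (allowL_nodup 0) (allowL_nodup 2) (allowL_length 0) (allowL_length 2) 48 (by norm_num)]
  have e0 : cPvL (allowL 0) = cPv 0 := rfl
  have e2 : cPvL (allowL 2) = cPv 2 := rfl
  rw [e0, e2, cK_0_0_48, cK_0_8_48, cK_0_12_48, cK_0_16_48, cK_0_24_48]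

theorem card_F1 : (parTU uF 1 48).card = 8388608 := by
  rw [card_parTU uF uF_bd 1 4 (allowL 1) (allowL 3) (by norm_num) allow_one allow_three
    (allowL_nodup 1) (allowL_nodup 3) (allowL_length 1) (allowL_length 3) 48 (by norm_num)]
  have e0 : cPvL (allowL 1) = cPv 1 := rfl
  have e2 : cPvL (allowL 3) = cPv 3 := rfl
  rw [e0, e2, cK_1_0_48, cK_1_8_48, cK_1_12_48, cK_1_16_48, cK_1_24_48]

theorem bound48 (x : GolayPt → ℤ) (hn : sqNorm x = 48) (i : GolayPt) : -6 ≤ x i ∧ x i ≤ 6 := by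
  have h := coord_bound x 48 hn i
  constructor <;> nlinarith

theorem set1 : {x : GolayPt → ℤ | x ∈ leechLattice ∧ sqNorm x = 48 ∧
    ∀ i, x i = 0 ∨ x i = 2 ∨ x i = -2} = ((parTU uA 0 48 : Finset (GolayPt → ℤ)) : Set _) := by
  ext x
  rw [Finset.mem_coe, mem_parTU_zero, Set.mem_ofPred_eq]
  have hU : ∀ a : ℤ, a ∈ uA ↔ (a = 0 ∨ a = 2 ∨ a = -2) := by
    intro a
    simp only [uA, Finset.mem_insert, Finset.mem_singleton]
  constructor
  · rintro ⟨hx, hn, h⟩
    refine ⟨hx, fun i => ?_, by rw [hn]; rfl, fun i => (hU _).2 (h i)⟩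
    have := h i
    unfold Int.ModEq
    omega
  · rintro ⟨hx, _, hn, h⟩
    exact ⟨hx, by rw [hn]; rfl, fun i => (hU _).1 (h i)⟩

theorem set3 : {x : GolayPt → ℤ | x ∈ leechLattice ∧ sqNorm x = 48 ∧ ∃ i, |x i| = 4} =
    ((parTU uF 0 48 \ parTU uB 0 48 : Finset (GolayPt → ℤ)) : Set _) := by
  ext x
  rw [Finset.mem_coe, Finset.mem_sdiff, mem_parTU_zero, mem_parTU_zero, Set.mem_ofPred_eq]
  have hF : ∀ a : ℤ, a ∈ uF ↔ (-8 ≤ a ∧ a ≤ 8) := by
    intro a
    simp only [uF, Finset.mem_Icc]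
  have hB : ∀ a : ℤ, a ∈ uB ↔ ((-8 ≤ a ∧ a ≤ 8) ∧ a ≠ 4 ∧ a ≠ -4) := by
    intro a
    simp only [uB, Finset.mem_filter, Finset.mem_Icc]
  constructor
  · rintro ⟨hx, hn, i, hi⟩
    have hi' : x i = 4 ∨ x i = -4 := by
      rcases abs_cases (x i) with h | h <;> omega
    have hp : ∀ j, x j ≡ 0 [ZMOD 2] := parity_of_memU x hx i 0 (by unfold Int.ModEq; omega)
    refine ⟨⟨hx, hp, by rw [hn]; rfl, fun j => (hF _).2 ?_⟩, ?_⟩
    · have := bound48 x hn j
      omega
    · rintro ⟨_, _, _, h⟩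
      have := (hB _).1 (h i)
      omega
  · rintro ⟨⟨hx, hp, hn, hb⟩, hne⟩
    have hn' : sqNorm x = 48 := by rw [hn]; rfl
    refine ⟨hx, hn', ?_⟩
    by_contra hc
    refine hne ⟨hx, hp, hn, fun i => (hB _).2 ⟨(hF _).1 (hb i), ?_⟩⟩
    constructor
    · intro h4
      exact hc ⟨i, by rw [h4]; rfl⟩
    · intro h4
      exact hc ⟨i, by rw [h4]; rfl⟩

theorem odd_mem_uD (x : GolayPt → ℤ) (hn : sqNorm x = 48) (i : GolayPt) (ho : x i ≡ 1 [ZMOD 2])
    (h5 : x i ≠ 5 ∧ x i ≠ -5) : x i ∈ uD := by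
  have h := bound48 x hn i
  simp only [uD, Finset.mem_insert, Finset.mem_singleton]
  unfold Int.ModEq at ho
  omega

theorem set4 : {x : GolayPt → ℤ | x ∈ leechLattice ∧ sqNorm x = 48 ∧ ∃ i, |x i| = 5} =
    ((parTU uF 1 48 \ parTU uD 1 48 : Finset (GolayPt → ℤ)) : Set _) := by
  ext x
  rw [Finset.mem_coe, Finset.mem_sdiff, mem_parTU_one, mem_parTU_one, Set.mem_ofPred_eq]
  have hF : ∀ a : ℤ, a ∈ uF ↔ (-8 ≤ a ∧ a ≤ 8) := by
    intro a
    simp only [uF, Finset.mem_Icc]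
  have hD : ∀ a : ℤ, a ∈ uD ↔ (a = 1 ∨ a = -1 ∨ a = 3 ∨ a = -3) := by
    intro a
    simp only [uD, Finset.mem_insert, Finset.mem_singleton]
  constructor
  · rintro ⟨hx, hn, i, hi⟩
    have hi' : x i = 5 ∨ x i = -5 := by
      rcases abs_cases (x i) with h | h <;> omega
    have hp : ∀ j, x j ≡ 1 [ZMOD 2] := parity_of_memU x hx i 1 (by unfold Int.ModEq; omega)
    refine ⟨⟨hx, hp, by rw [hn]; rfl, fun j => (hF _).2 ?_⟩, ?_⟩
    · have := bound48 x hn j
      omega
    · rintro ⟨_, _, _, h⟩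
      have := (hD _).1 (h i)
      omega
  · rintro ⟨⟨hx, hp, hn, hb⟩, hne⟩
    have hn' : sqNorm x = 48 := by rw [hn]; rfl
    refine ⟨hx, hn', ?_⟩
    by_contra hc
    refine hne ⟨hx, hp, hn, fun i => odd_mem_uD x hn' i (hp i) ⟨?_, ?_⟩⟩
    · intro h4
      exact hc ⟨i, by rw [h4]; rfl⟩
    · intro h4
      exact hc ⟨i, by rw [h4]; rfl⟩

theorem set2 : {x : GolayPt → ℤ | x ∈ leechLattice ∧ sqNorm x = 48 ∧
    ∃ i j k, i ≠ j ∧ j ≠ k ∧ i ≠ k ∧ |x i| = 3 ∧ |x j| = 3 ∧ |x k| = 3} =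
    ((parTU uD 1 48 : Finset (GolayPt → ℤ)) : Set _) := by
  ext x
  rw [Finset.mem_coe, mem_parTU_one, Set.mem_ofPred_eq]
  have hD : ∀ a : ℤ, a ∈ uD ↔ (a = 1 ∨ a = -1 ∨ a = 3 ∨ a = -3) := by
    intro a
    simp only [uD, Finset.mem_insert, Finset.mem_singleton]
  constructor
  · rintro ⟨hx, hn, i, j, k, hij, hjk, hik, hi, hj, hk⟩
    have hi' : x i = 3 ∨ x i = -3 := by
      rcases abs_cases (x i) with h | h <;> omega
    have hj' : x j = 3 ∨ x j = -3 := by
      rcases abs_cases (x j) with h | h <;> omega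
    have hk' : x k = 3 ∨ x k = -3 := by
      rcases abs_cases (x k) with h | h <;> omega
    have hp : ∀ l, x l ≡ 1 [ZMOD 2] := parity_of_memU x hx i 1 (by unfold Int.ModEq; omega)
    refine ⟨hx, hp, by rw [hn]; rfl, fun l => odd_mem_uD x hn l (hp l) ?_⟩
    by_contra hc
    have hl : x l = 5 ∨ x l = -5 := by omega
    have hli : l ≠ i := by rintro rfl; omega
    have hlj : l ≠ j := by rintro rfl; omega
    have hlk : l ≠ k := by rintro rfl; omega
    have hsub : ∑ m ∈ ({l, i, j, k} : Finset GolayPt), x m ^ 2 ≤ sqNorm x :=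
      Finset.sum_le_sum_of_subset_of_nonneg (Finset.subset_univ _) (fun m _ _ => sq_nonneg _)
    rw [Finset.sum_insert (by simp [hli, hlj, hlk]), Finset.sum_insert (by simp [hij, hik]),
      Finset.sum_insert (by simp [hjk]), Finset.sum_singleton, hn] at hsub
    have e1 : x i ^ 2 = 9 := by rcases hi' with h | h <;> rw [h] <;> norm_num
    have e2 : x j ^ 2 = 9 := by rcases hj' with h | h <;> rw [h] <;> norm_num
    have e3 : x k ^ 2 = 9 := by rcases hk' with h | h <;> rw [h] <;> norm_num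
    have e4 : x l ^ 2 = 25 := by rcases hl with h | h <;> rw [h] <;> norm_num
    omega
  · rintro ⟨hx, hp, hn, hb⟩
    have hn' : sqNorm x = 48 := by rw [hn]; rfl
    refine ⟨hx, hn', ?_⟩
    have hsq : ∀ l, x l ^ 2 = 1 + 8 * (if |x l| = 3 then 1 else 0) := by
      intro l
      rcases (hD _).1 (hb l) with h | h | h | h <;> rw [h] <;> norm_num
    have hsum : sqNorm x = 24 + 8 * ((Finset.univ.filter fun l => |x l| = 3).card : ℤ) := by
      unfold sqNorm
      simp only [hsq]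
      rw [Finset.sum_add_distrib, Finset.sum_const, Finset.card_univ, card_golayPt, ← Finset.mul_sum,
        Finset.sum_boole]
      norm_num
    have hcard : (Finset.univ.filter fun l => |x l| = 3).card = 3 := by
      rw [hn'] at hsum
      omega
    obtain ⟨i, j, k, hij, hik, hjk, hT⟩ := Finset.card_eq_three.1 hcard
    have hm : ∀ l, l ∈ ({i, j, k} : Finset GolayPt) → |x l| = 3 := by
      intro l hl
      rw [← hT, Finset.mem_filter] at hl
      exact hl.2
    exact ⟨i, j, k, hij, hjk, hik, hm i (by simp), hm j (by simp), hm k (by simp)⟩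

theorem sub_B : parTU uB 0 48 ⊆ parTU uF 0 48 := by
  intro x hx
  rw [mem_parTU_zero] at hx ⊢
  exact ⟨hx.1, hx.2.1, hx.2.2.1, fun i => by
    have := uB_bd _ (hx.2.2.2 i)
    simp only [uF, Finset.mem_Icc]
    exact this⟩

theorem sub_D : parTU uD 1 48 ⊆ parTU uF 1 48 := by
  intro x hx
  rw [mem_parTU_one] at hx ⊢
  exact ⟨hx.1, hx.2.1, hx.2.2.1, fun i => by
    have := uD_bd _ (hx.2.2.2 i)
    simp only [uF, Finset.mem_Icc]
    exact this⟩


/-- Shape census of the lattice vectors of sum of squares 48 (customary norm 6): the four families (2^12, 0^12), (±3^3, ±1^21), (±4, ±2^8, 0^15) and (±5, ±1^23) have 5275648, 8290304, 3108864 and 98304 members. -/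
theorem result : {x : Cfsg.GolayPt → ℤ | x ∈ Cfsg.leechLattice ∧ Cfsg.sqNorm x = 48 ∧ ∀ i, x i = 0 ∨ x i = 2 ∨ x i = -2}.ncard = 5275648 ∧ {x : Cfsg.GolayPt → ℤ | x ∈ Cfsg.leechLattice ∧ Cfsg.sqNorm x = 48 ∧ ∃ i j k, i ≠ j ∧ j ≠ k ∧ i ≠ k ∧ |x i| = 3 ∧ |x j| = 3 ∧ |x k| = 3}.ncard = 8290304 ∧ {x : Cfsg.GolayPt → ℤ | x ∈ Cfsg.leechLattice ∧ Cfsg.sqNorm x = 48 ∧ ∃ i, |x i| = 4}.ncard = 3108864 ∧ {x : Cfsg.GolayPt → ℤ | x ∈ Cfsg.leechLattice ∧ Cfsg.sqNorm x = 48 ∧ ∃ i, |x i| = 5}.ncard = 98304 := by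
  refine ⟨?_, ?_, ?_, ?_⟩
  · rw [set1, Set.ncard_coe_finset, card_A]
  · rw [set2, Set.ncard_coe_finset, card_D]
  · rw [set3, Set.ncard_coe_finset, Finset.card_sdiff_of_subset sub_B, card_F0, card_B]
  · rw [set4, Set.ncard_coe_finset, Finset.card_sdiff_of_subset sub_D, card_F1, card_D]

end Cfsg.Agent.S1568
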