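import Cfsg.Statements.S1573
import Cfsg.Agent.Lib.helper93.LeechCnt

set_option autoImplicit false
open Cfsg
open Cfsg.Agent.Lib.helper93

namespace Cfsg.Agent.S1573

/-- Census of minimal vectors by inner product with a fixed minimal vector: 4600 have customary inner product −2, 47104 have −1, and 93150 are orthogonal. -/
theorem result (v : Cfsg.GolayPt → ℤ) (hv : v ∈ Cfsg.leechLattice) (hvn : Cfsg.sqNorm v = 32) : {w : Cfsg.GolayPt → ℤ | w ∈ Cfsg.leechLattice ∧ Cfsg.sqNorm w = 32 ∧ Cfsg.dotInt v w = -16}.ncard = 4600 ∧ {w : Cfsg.GolayPt → ℤ | w ∈ Cfsg.leechLattice ∧ Cfsg.sqNorm w = 32 ∧ Cfsg.dotInt v w = -8}.ncard = 47104 ∧ {w : Cfsg.GolayPt → ℤ | w ∈ Cfsg.leechLattice ∧ Cfsg.sqNorm w = 32 ∧ Cfsg.dotInt v w = 0}.ncard = 93150 := by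
  have e : ∀ c : ℤ, {w : GolayPt → ℤ | w ∈ leechLattice ∧ sqNorm w = 32 ∧ dotInt v w = c}.ncard =
      {w : ↥leechLattice | sqNorm (w : GolayPt → ℤ) = 32 ∧
        dotInt ((⟨v, hv⟩ : ↥leechLattice) : GolayPt → ℤ) (w : GolayPt → ℤ) = c}.ncard := fun c =>
    (ncard_subtype (fun x => sqNorm x = 32 ∧ dotInt v x = c)).symm
  rw [e, e, e]
  exact ⟨census_A ⟨v, hv⟩ hvn, census_B ⟨v, hv⟩ hvn, census_C ⟨v, hv⟩ hvn⟩

end Cfsg.Agent.S1573
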