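import Cfsg.Statements.S1589
import Cfsg.Agent.Lib.helper33.M24Index
import Cfsg.Agent.S1551

set_option autoImplicit false
open scoped Pointwise
open Cfsg

namespace Cfsg.Agent.S1589

open Cfsg.Agent.Lib.helper9 Cfsg.Agent.Lib.helper33 in
/-- The image of a subgroup of the group of the code in the symmetric group. -/
theorem image_facts (H : Subgroup ↥M24) :
    (H.map M24.subtype ≤ M24) ∧ Nat.card (H.map M24.subtype) * H.index = 244823040 := by
  refine ⟨?_, ?_⟩
  · intro g hg
    obtain ⟨m, _, rfl⟩ := Subgroup.mem_map.1 hg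
    exact m.2
  · rw [Subgroup.card_map_of_injective (Subgroup.subtype_injective _), H.card_mul_index, card_M24]

/-- A subgroup fixing an object and having the order of its stabiliser is the stabiliser. -/
theorem eq_stab_of {β : Type*} [MulAction (Equiv.Perm GolayPt) β] (H : Subgroup ↥M24) (x : β)
    (hfix : ∀ g ∈ H.map M24.subtype, g • x = x) (n : ℕ)
    (hcard : Nat.card (MulAction.stabilizer M24 x) = n) (hH : Nat.card (H.map M24.subtype) = n) :
    H = MulAction.stabilizer M24 x := by
  apply Subgroup.eq_of_le_of_card_ge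
  · intro h hh
    rw [MulAction.mem_stabilizer_iff]
    exact hfix _ (Subgroup.mem_map.2 ⟨h, hh, rfl⟩)
  · rw [hcard, ← hH, Subgroup.card_map_of_injective (Subgroup.subtype_injective _)]

open Cfsg.Agent.Lib.helper9 Cfsg.Agent.Lib.helper33 in
/-- Subgroups of the group of the length-24 code of index 759, 276 and 1771 are exactly the octad, duad and sextet stabilisers, and no subgroup has index 253. -/
theorem result : (∀ H : Subgroup ↥Cfsg.M24, H.index = 759 → ∃ o ∈ Cfsg.octads, H = MulAction.stabilizer Cfsg.M24 o) ∧ (∀ H : Subgroup ↥Cfsg.M24, H.index = 276 → ∃ s : Finset Cfsg.GolayPt, s.card = 2 ∧ H = MulAction.stabilizer Cfsg.M24 s) ∧ (∀ H : Subgroup ↥Cfsg.M24, H.index = 1771 → ∃ S ∈ Cfsg.sextets, H = MulAction.stabilizer Cfsg.M24 S) ∧ ∀ H : Subgroup ↥Cfsg.M24, H.index ≠ 253 := by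
  refine ⟨?_, ?_, ?_, ?_⟩
  · intro H hH
    obtain ⟨hK, hci⟩ := image_facts H
    rw [hH] at hci
    have hc : Nat.card (H.map M24.subtype) = 322560 := by omega
    obtain ⟨o, ho, hfix⟩ := index759_stab _ hK hc
    refine ⟨o, ho, eq_stab_of H o hfix 322560 ?_ hc⟩
    rw [← card_inf_stabilizer M24 o]
    exact card_stabOct ho
  · intro H hH
    obtain ⟨hK, hci⟩ := image_facts H
    rw [hH] at hci
    have hc : Nat.card (H.map M24.subtype) = 887040 := by omega
    obtain ⟨s, hs, hfix⟩ := index276_stab _ hK hc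
    refine ⟨s, hs, eq_stab_of H s hfix 887040 ?_ hc⟩
    have h := natCard_orbit_mul_stab (G := M24) s
    rw [card_M24, Nat.card_coe_set_eq, ncard_orbit_kset s (by omega), hs] at h
    have e : Nat.choose 24 2 = 276 := by decide
    rw [e] at h
    omega
  · intro H hH
    obtain ⟨hK, hci⟩ := image_facts H
    rw [hH] at hci
    have hc : Nat.card (H.map M24.subtype) = 138240 := by omega
    obtain ⟨S, hS, hfix⟩ := index1771_stab _ hK hc
    exact ⟨S, hS, eq_stab_of H S hfix 138240 (Cfsg.Agent.S1551.card_stab_sextet hS) hc⟩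
  · intro H hH
    obtain ⟨hK, hci⟩ := image_facts H
    rw [hH] at hci
    have hc : Nat.card (H.map M24.subtype) = 967680 := by omega
    exact index253_none _ hK hc

end Cfsg.Agent.S1589
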