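import Cfsg.Statements.S1591
-- import your own Cfsg.Agent.* helpers here

set_option autoImplicit false
open Cfsg

namespace Cfsg.Agent.S1591

theorem sum_zmod3 {M : Type*} [AddCommMonoid M] (f : ZMod 3 → M) :
    ∑ r : ZMod 3, f r = f 0 + f 1 + f 2 := Fin.sum_univ_three f

/-- Any two words of the length-12 ternary code have dot product zero. -/
theorem result (x y : Cfsg.ArrayPt → ZMod 3) (hx : x ∈ Cfsg.ternaryGolayCode) (hy : y ∈ Cfsg.ternaryGolayCode) : ∑ p, x p * y p = 0 := by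
  obtain ⟨s, hs, hs'⟩ := hx
  obtain ⟨s₂, ht, ht'⟩ := hy
  have m0 : (0 : Fin 4 → ZMod 3) ∈ tetracode := Submodule.zero_mem _
  have m1 : (![0, 1, 1, 1] : Fin 4 → ZMod 3) ∈ tetracode := Submodule.subset_span (by simp)
  have m2 : (![1, 0, 1, 2] : Fin 4 → ZMod 3) ∈ tetracode := Submodule.subset_span (by simp)
  have hx0 := hs 0
  have hx1 := hs 1
  have hx2 := hs 2
  have hx3 := hs 3
  have hx4 := hs' 0 m0
  have hx5 := hs' _ m1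
  have hx6 := hs' _ m2
  have hy0 := ht 0
  have hy1 := ht 1
  have hy2 := ht 2
  have hy3 := ht 3
  have hy4 := ht' 0 m0
  have hy5 := ht' _ m1
  have hy6 := ht' _ m2
  have h3 : (3 : ZMod 3) = 0 := by decide
  rw [Fintype.sum_prod_type]
  simp only [Fin.sum_univ_four, sum_zmod3, Pi.zero_apply, Matrix.cons_val_zero, Matrix.cons_val_one,
    Matrix.cons_val] at hx0 hx1 hx2 hx3 hx4 hx5 hx6 hy0 hy1 hy2 hy3 hy4 hy5 hy6 ⊢
  linear_combination (-1 * y (1, 2) - 1 * y (2, 1) + y (3, 0) - 1 * y (3, 1) - 1 * y (3, 2)) * hx0 + (x (0, 2)) * hy0 + (y (1, 2)) * hx1 + (x (0, 0) + x (0, 1) + x (0, 2) - 1 * x (1, 0) - 1 * x (1, 1)) * hy1 + (y (2, 2)) * hx2 + (x (0, 0) - 1 * x (0, 1) + x (1, 0) - 1 * x (1, 1) + x (2, 0)) * hy2 + (y (2, 1) - 1 * y (2, 2) - 1 * y (3, 1) - 1 * y (3, 2)) * hx3 + (-1 * x (0, 0) + x (0, 1) - 1 * x (0, 2) - 1 * x (1, 1) - 1 *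 x (2, 0)) * hy3 + (-1 * y (2, 1) + y (2, 2) + y (3, 0) + y (3, 1) + y (3, 2)) * hx4 + (-1 * x (0, 0) + x (0, 1) - 1 * x (1, 0) + x (1, 1)) * hy4 + (-1 * y (2, 1) + y (2, 2) - 1 * y (3, 1) + y (3, 2)) * hx5 + (-1 * x (0, 0) - 1 * x (0, 1) - 1 * x (0, 2) + x (1, 0) - 1 * x (1, 1)) * hy5 + (-1 * y (2, 1) + y (2, 2) + y (3, 1) - 1 * y (3, 2)) * hx6 + (x (0, 1) - 1 * x (0, 2)) * hy6 + (1 * x (0, 0) * y (0, 0) + 1 * x (0, 0) * y (2, 1) - 1 * x (0, 0) * y (2, 2) + 1 * x (0, 0) * y (3, 1) - 1 * x (0, 0) * s₂ - 1 * x (0, 1) * y (1, 0) + 1 * x (0, 1) * y (2, 1) - 1 * x (0, 1) * y (3, 0) + 1 * x (0, 2) * y (2, 1) + 1 * x (0, 2) * y (3, 1) + 1 * x (0, 2) * y (3, 2) - 1 * x (0, 2) * s₂ + 1 * x (1, 0) * y (1, 0) - 1 * x (1, 0) * y (2, 2) - 1 * x (1, 0) * y (3, 1) + 1 * x (1, 1) * y (1, 1) + 1 * x (1, 1) * y (2, 1) + 1 * x (1, 1) * y (3, 1) + 1 * x (1,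 1) * s₂ - 1 * x (2, 0) * y (2, 2) + 1 * x (2, 1) * y (2, 1) - 1 * x (2, 1) * y (2, 2) + 1 * x (3, 1) * y (3, 1) + 1 * x (3, 2) * y (3, 2) - 1 * s * y (2, 1) + 1 * s * y (2, 2) + 1 * s * y (3, 1) + 1 * s * y (3, 2)) * h3

end Cfsg.Agent.S1591
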