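import Cfsg.Statements.S1592
import Cfsg.Agent.Lib.helper94.TG12


set_option autoImplicit false
open Cfsg

set_option maxRecDepth 100000
open Cfsg.Agent.Lib.helper94

namespace Cfsg.Agent.S1592

open Cfsg.Agent.S1590 (K phi phi_mem eq_phi)

/-- The masks of the 132 hexads, in increasing order, packed 12 bits each. -/
def HEXP : ℕ := 667998623831707005544959276588873655196762544099127254943736802544987577454003630543633448703531693780312437708506551523910658460833912803054483566864903432923389896745849226848903125783585272822589050742419192044079188960198069806825249280836125714671175201392965346315533160608157496416535042363888910512916854942337459119902367752102065915558893240988497924867257544502108607477099485126799274615346779555441588369152683110519808659630298937726116638646053282325258358874175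

/-- The `j`-th hexad mask. -/
def hex (j : ℕ) : ℕ := Nat.land (Nat.shiftRight HEXP (Nat.mul 12 j)) 4095

/-- For each hexad mask the index of a word of the code with that support. -/
def WIT : List ℕ := [410, 420, 13, 424, 350, 96, 254, 250, 86, 324, 100, 264, 122, 396, 286, 382, 109, 273, 290, 132, 433, 35, 465, 309, 145, 141, 299, 49, 360, 36, 265, 101, 336, 326, 84, 251, 97, 252, 85, 325, 249, 423, 14, 408, 1, 12, 253, 99, 357, 143, 298, 470, 48, 34, 432, 144, 321, 38, 275, 108, 37, 156, 288, 110, 297, 33, 334, 103, 267, 89, 244, 330, 257, 90, 327, 83, 247, 16, 414, 407, 3, 93, 261, 10, 305, 138, 353, 453, 46, 459, 32, 155, 42, 306, 115, 270, 126, 316, 39, 29, 276, 135, 412, 5, 405, 105, 263, 246, 82, 11, 342, 15, 245, 87, 92, 258, 9, 81, 4, 243, 136, 300, 53, 279, 117, 111, 271, 27, 30, 378, 28, 45]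

/-- The mask occurs among the hexad masks. -/
def memHex (s : ℕ) : Bool := !(allBelow (fun j => !(Nat.beq (hex j) s)) 132)

theorem memHex_spec {s : ℕ} (h : memHex s = true) : ∃ j < 132, hex j = s := by
  by_contra hcon
  simp only [not_exists, not_and] at hcon
  have h1 : allBelow (fun j => !(Nat.beq (hex j) s)) 132 = true := by
    rw [allBelow_iff]
    intro j hj
    have h2 : Nat.beq (hex j) s = false := by
      rw [← Bool.not_eq_true]
      intro h3
      exact hcon j hj (Nat.eq_of_beq_eq_true h3)
    rw [h2]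
    rfl
  rw [memHex, h1] at h
  exact absurd h (by decide)

set_option maxRecDepth 100000 in
theorem hex_data : ∀ j < 132, hex j < 2 ^ 12 ∧ popc (hex j) = 6 ∧
    suppMask (phi (kOf (WIT.getD j 0))) = hex j ∧
    cntBelow (fun i => Nat.blt (hex i) (hex j)) 132 = j := by
  decide +kernel

set_option maxRecDepth 100000 in
theorem hex_complete : ∀ k : K, popc (suppMask (phi k)) = 6 → memHex (suppMask (phi k)) = true := by
  decide +kernel

set_option maxRecDepth 100000 in
theorem steiner_ok : allBelow (fun m => !(Nat.beq (popc m) 5) ||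
    Nat.beq (cntBelow (fun j => Nat.beq (Nat.land m (hex j)) m) 132) 1) 4096 = true := by
  decide +kernel

theorem mem_H (h : Finset ArrayPt) :
    (∃ x ∈ ternaryGolayCode, ternarySupport x = h ∧ h.card = 6) ↔
      ∃ j < 132, h = setOf12 (hex j) := by
  constructor
  · rintro ⟨x, hx, rfl, hc⟩
    obtain ⟨k, rfl⟩ := exists_phi hx
    rw [card_ternarySupport] at hc
    obtain ⟨j, hj, hjs⟩ := memHex_spec (hex_complete k hc)
    exact ⟨j, hj, by rw [ternarySupport_eq, hjs]⟩
  · rintro ⟨j, hj, rfl⟩
    obtain ⟨h1, h2, h3, -⟩ := hex_data j hj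
    refine ⟨phi (kOf (WIT.getD j 0)), phi_mem _, ?_, ?_⟩
    · rw [ternarySupport_eq, h3]
    · rw [card_setOf12 h1, h2]

theorem hex_inj : ∀ j < 132, ∀ j' < 132, setOf12 (hex j) = setOf12 (hex j') → j = j' := by
  intro j hj j' hj' h
  have h1 := setOf12_injOn (hex_data j hj).1 (hex_data j' hj').1 h
  rw [← (hex_data j hj).2.2.2, ← (hex_data j' hj').2.2.2, h1]


/-- The supports of the weight-6 words of the length-12 ternary code form a Steiner system S(5, 6, 12) with 132 blocks. -/
theorem result : Cfsg.IsSteinerSystem 5 6 {h : Finset Cfsg.ArrayPt | ∃ x ∈ Cfsg.ternaryGolayCode, Cfsg.ternarySupport x = h ∧ h.card = 6} ∧ {h : Finset Cfsg.ArrayPt | ∃ x ∈ Cfsg.ternaryGolayCode, Cfsg.ternarySupport x = h ∧ h.card = 6}.ncard = 132 := by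
  have hH : {h : Finset Cfsg.ArrayPt | ∃ x ∈ Cfsg.ternaryGolayCode, Cfsg.ternarySupport x = h ∧ h.card = 6}
      = (fun j => setOf12 (hex j)) '' (↑(Finset.range 132) : Set ℕ) := by
    ext h
    constructor
    · intro hh
      obtain ⟨j, hj, rfl⟩ := (mem_H h).mp hh
      exact ⟨j, by simpa using hj, rfl⟩
    · rintro ⟨j, hj, rfl⟩
      exact (mem_H _).mpr ⟨j, by simpa using hj, rfl⟩
  refine ⟨⟨fun b hb => ?_, fun s hs => ?_⟩, ?_⟩
  · obtain ⟨x, -, -, hc⟩ := hb
    exact hc
  · have hm : maskOf12 s < 2 ^ 12 := maskOf12_lt s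
    have hsm : setOf12 (maskOf12 s) = s := setOf12_maskOf12 s
    have hp : popc (maskOf12 s) = 5 := by rw [← card_setOf12 hm, hsm, hs]
    have hcnt := (allBelow_iff _ _).mp steiner_ok (maskOf12 s) (by norm_num at hm ⊢; exact hm)
    rw [hp] at hcnt
    simp only [Nat.beq_refl, Bool.not_true, Bool.false_or] at hcnt
    have hcnt' := Nat.eq_of_beq_eq_true hcnt
    rw [cntBelow_eq, Finset.card_eq_one] at hcnt'
    obtain ⟨j0, hj0⟩ := hcnt'
    have key : ∀ j, (j < 132 ∧ Nat.land (maskOf12 s) (hex j) = maskOf12 s) ↔ j = j0 := by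
      intro j
      have h1 := Finset.ext_iff.mp hj0 j
      rw [Finset.mem_filter, Finset.mem_range, Finset.mem_singleton] at h1
      rw [← h1]
      constructor
      · rintro ⟨h2, h3⟩
        refine ⟨h2, ?_⟩
        rw [h3]
        exact Nat.beq_refl _
      · rintro ⟨h2, h3⟩
        exact ⟨h2, Nat.eq_of_beq_eq_true h3⟩
    have hj0' := (key j0).mpr rfl
    refine ⟨setOf12 (hex j0), ⟨(mem_H _).mpr ⟨j0, hj0'.1, rfl⟩, ?_⟩, ?_⟩
    · rw [← hsm]
      exact (setOf12_subset_iff hm).mpr hj0'.2
    · rintro b ⟨hb, hsb⟩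
      obtain ⟨j, hj, rfl⟩ := (mem_H b).mp hb
      rw [← hsm] at hsb
      rw [(key j).mp ⟨hj, (setOf12_subset_iff hm).mp hsb⟩]
  · rw [hH, Set.InjOn.ncard_image, Set.ncard_coe_finset, Finset.card_range]
    intro j hj j' hj' heq
    simp only [Finset.coe_range, Set.mem_Iio] at hj hj'
    exact hex_inj j hj j' hj' heq


end Cfsg.Agent.S1592
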