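import Cfsg.Statements.S1593
import Cfsg.Agent.Lib.helper94.TG12


set_option autoImplicit false
open Cfsg

set_option maxRecDepth 100000
open Cfsg.Agent.Lib.helper94

namespace Cfsg.Agent.S1593

open Cfsg.Agent.S1590 (K phi phi_mem eq_phi)

/-- The sign pattern of a mask: `-1` at the positions of the mask. -/
def sgnOf (m : ℕ) (p : ArrayPt) : ZMod 3 := if m.testBit (idx12 p) then 2 else 1

/-- The parameters of the six generators of the code. -/
def genK (j : ℕ) : K := kOf (3 ^ j)

/-- The test on a sign pattern: trivial, or some generator leaves the code. -/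
def signTest (m : ℕ) : Bool := Nat.beq m 0 || Nat.beq m 4095 ||
    !(allBelow (fun j => inCode (fun p => sgnOf m p * phi (genK j) p)) 6)

theorem sign_chunk {a n : ℕ} (h : allBelow (fun j => signTest (Nat.add a j)) n = true) :
    ∀ j, a ≤ j → j < a + n → signTest j = true := by
  intro j h1 h2
  have h3 := (allBelow_iff _ _).mp h (j - a) (by omega)
  have h4 : Nat.add a (j - a) = j := by show a + (j - a) = j; omega
  rw [h4] at h3
  exact h3

set_option maxRecDepth 100000 in
theorem sign_ok_0 : allBelow (fun j => signTest (Nat.add 0 j)) 1024 = true := by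
  decide +kernel

set_option maxRecDepth 100000 in
theorem sign_ok_1 : allBelow (fun j => signTest (Nat.add 1024 j)) 1024 = true := by
  decide +kernel

set_option maxRecDepth 100000 in
theorem sign_ok_2 : allBelow (fun j => signTest (Nat.add 2048 j)) 1024 = true := by
  decide +kernel

set_option maxRecDepth 100000 in
theorem sign_ok_3 : allBelow (fun j => signTest (Nat.add 3072 j)) 1024 = true := by
  decide +kernel

theorem sign_ok : allBelow (fun m => Nat.beq m 0 || Nat.beq m 4095 ||
    !(allBelow (fun j => inCode (fun p => sgnOf m p * phi (genK j) p)) 6)) 4096 = true := by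
  rw [allBelow_iff]
  intro m hm
  show signTest m = true
  exact if h0 : m < 1024 then sign_chunk sign_ok_0 m (by omega) (by omega)
    else if h1 : m < 2048 then sign_chunk sign_ok_1 m (by omega) (by omega)
    else if h2 : m < 3072 then sign_chunk sign_ok_2 m (by omega) (by omega)
    else sign_chunk sign_ok_3 m (by omega) (by omega)

theorem units_cases : ∀ u : (ZMod 3)ˣ, u = 1 ∨ u = -1 := by decide

theorem units_facts : (1 : (ZMod 3)ˣ) ≠ -1 ∧ (((1 : (ZMod 3)ˣ) : ZMod 3) = 1) ∧
    (((-1 : (ZMod 3)ˣ) : ZMod 3) = 2) ∧ ∀ i < 12, (4095 : ℕ).testBit i = true := by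
  decide


/-- The only sign changes preserving the length-12 ternary code are the identity and negation of all coordinates. -/
theorem result (c : Cfsg.ArrayPt → (ZMod 3)ˣ) (h : (∀ x ∈ Cfsg.ternaryGolayCode, Cfsg.monomialMap 1 c x ∈ Cfsg.ternaryGolayCode)) : (∀ p, c p = 1) ∨ (∀ p, c p = -1) := by
  have hbit : ∀ p, (maskOf12 (Finset.univ.filter fun p => c p = -1)).testBit (idx12 p)
      = decide (c p = -1) := by
    intro p
    rw [testBit_maskOf12]
    simp [idx12_lt, pt12_idx12]
  have hsgn : ∀ p, ((c p : (ZMod 3)ˣ) : ZMod 3)
      = sgnOf (maskOf12 (Finset.univ.filter fun p => c p = -1)) p := by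
    intro p
    rw [sgnOf, hbit]
    rcases units_cases (c p) with h1 | h1
    · rw [h1, decide_eq_false units_facts.1, units_facts.2.1]
      rfl
    · rw [h1, decide_eq_true rfl, units_facts.2.2.1]
      rfl
  have hall : allBelow (fun j => inCode (fun p =>
      sgnOf (maskOf12 (Finset.univ.filter fun p => c p = -1)) p * phi (genK j) p)) 6 = true := by
    rw [allBelow_iff]
    intro j _
    rw [inCode_iff]
    have h1 := h (phi (genK j)) (phi_mem _)
    have e : Cfsg.monomialMap 1 c (phi (genK j)) = fun p =>
        sgnOf (maskOf12 (Finset.univ.filter fun p => c p = -1)) p * phi (genK j) p := by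
      funext p
      rw [← hsgn]
      rfl
    rwa [e] at h1
  have hm4 : maskOf12 (Finset.univ.filter fun p => c p = -1) < 4096 := by
    have := maskOf12_lt (Finset.univ.filter fun p => c p = -1)
    norm_num at this ⊢
    exact this
  have hk := (allBelow_iff _ _).mp sign_ok _ hm4
  rw [hall] at hk
  simp only [Bool.not_true, Bool.or_false, Bool.or_eq_true] at hk
  rcases hk with h0 | h1
  · left
    intro p
    have h2 := hbit p
    rw [Nat.eq_of_beq_eq_true h0, Nat.zero_testBit] at h2
    rcases units_cases (c p) with h3 | h3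
    · exact h3
    · rw [decide_eq_true h3] at h2
      exact absurd h2 (by decide)
  · right
    intro p
    have h2 := hbit p
    rw [Nat.eq_of_beq_eq_true h1, units_facts.2.2.2 _ (idx12_lt p)] at h2
    exact of_decide_eq_true h2.symm


end Cfsg.Agent.S1593
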