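import Cfsg.Statements.S1594
import Cfsg.Agent.Lib.helper94.TG12Perm
import Cfsg.Agent.S1592
import Cfsg.Agent.S1593


set_option autoImplicit false
open Cfsg

set_option maxRecDepth 100000
open Cfsg.Agent.Lib.helper94

namespace Cfsg.Agent.S1594

open scoped Pointwise
open Cfsg.Agent.S1590 (K phi phi_mem eq_phi)
open Cfsg.Agent.S1592 (hex mem_H hex_data)

/-- Monomial automorphisms fixing the indices below `n` and mapping `n` to `q` (entry `12 n + q`):
table, inverse table and sign mask. -/
def CERTS : List (ℕ × ℕ × ℕ) :=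
  [(0xba9876543210, 0xba9876543210, 0),
   (0x687a9b543201, 0x687a9b543201, 0),
   (0x9ba768543102, 0xa9b687543021, 0),
   (0xb9867a542103, 0xb6a978540321, 1331),
   (0x87ba96532104, 0x987ba6504321, 1940),
   (0xab7869432105, 0xab6897054321, 667),
   (0xb8a745932106, 0xb95a80674321, 1581),
   (0x65498ab32107, 0x56870ba94321, 993),
   (0x5964b7a32108, 0x75a069b84321, 1224),
   (0x7a8b54632109, 0x8a09b5764321, 349),
   (0x46957b83210a, 0x60957a8b4321, 1271),
   (0x9456a873210b, 0x7b6589a4321, 430),
   (0, 0, 0),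
   (0xba9876543210, 0xba9876543210, 0),
   (0x876ba9543120, 0x876ba9543120, 0),
   (0xa6798b542130, 0x6b879a541320, 1331),
   (0x6a97b8532140, 0x7a968b514320, 1940),
   (0x986b7a432150, 0x86ba79154320, 667),
   (0x5748ab932160, 0x6758a1b94320, 1581),
   (0xa98546b32170, 0x5ba916874320, 993),
   (0x74b965a32180, 0x9581b76a4320, 1224),
   (0x4b5a87632190, 0xa817659b4320, 349),
   (0xb576948321a0, 0xb17598a64320, 1271),
   (0x86a4597321b0, 0x196b5a784320, 430),
   (0, 0, 0),
   (0, 0, 0),
   (0xba9876543210, 0xba9876543210, 0),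
   (0x98ba67542310, 0x98ba67542310, 1331),
   (0x7b86a9532410, 0xa769b8524310, 1940),
   (0xb7a986432510, 0xb987a6254310, 667),
   (0x8ab574932610, 0x9a5b72864310, 1581),
   (0x546a98b32710, 0x587629ba4310, 993),
   (0x96574ba32810, 0x65b28a974310, 1224),
   (0xa874b5632910, 0x7b2a95684310, 349),
   (0x694b57832a10, 0x82a56b794310, 1271),
   (0x45986a732b10, 0x269857ab4310, 430),
   (0, 0, 0),
   (0, 0, 0),
   (0, 0, 0),
   (0xba9876543210, 0xba9876543210, 0),
   (0x867b9a534210, 0x867b9a534210, 0),
   (0xa9b768435210, 0x9ba687354210, 0),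
   (0xb58a47936210, 0xb85963a74210, 6),
   (0x6a5489b37210, 0x5a673b984210, 5),
   (0x5796b4a38210, 0x7593a8b64210, 3),
   (0x74a85b639210, 0x6938b57a4210, 6),
   (0x4b697583a210, 0xa385796b4210, 3),
   (0x9845a673b210, 0x37ba56894210, 5),
   (0, 0, 0),
   (0, 0, 0),
   (0, 0, 0),
   (0, 0, 0),
   (0xba9876543210, 0xba9876543210, 0),
   (0x786ab9453210, 0x786ab9453210, 0),
   (0xa74b85963210, 0x8b57a4693210, 6),
   (0x49865ab73210, 0x56a9487b3210, 5),
   (0x64b597a83210, 0x95746b8a3210, 3),
   (0x8b57a4693210, 0xa74b85963210, 6),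
   (0x95746b8a3210, 0x64b597a83210, 3),
   (0x56a9487b3210, 0x49865ab73210, 5)]

/-- Bitmap of the hexad masks. -/
def HEXB : ℕ := 56616434707392290493830608686343291913914207267407100963219031830768072610285952384273428868990593566594531319248978386164614129186098547051904027326856690386308343293234278131309831744515181060286237810205130283103071290812054500368720198549051777816520950195780427498749531016477947655071436515763187716147807729653932424073800312514691696682453497752566981157710252895858815880899027283754989393177790847186837342033871457340078508457877837459072047229248428918672118116567167685143878547773333450076844940658859214999325129602501558851104976923982750693009120964632814193991680354893635030030836333415463315325253678746787809320187128156980823899637471492220311404941243786052492713182738134328711663684007242320418419141695329129535182791143355222521244263987029853496949810499493143085305780784673064128200836929668874800415841456585828974398871352587171226866468138417067278060298687515445872572279023192332183263791556260396583867539176980932805504251174452757142201001178607968280416838410976781783026036177284703664475156443601415081467147860243572819336534469608973602680420013884416783892022513924126910480808755978114617278929873061085508796110570687671481576307753911406027929554142807522829481803776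

theorem certs_ok : allBelow (fun n => allBelow (fun q => Nat.blt q n ||
    certOK n q (CERTS.getD (Nat.add (Nat.mul 12 n) q) (0, 0, 0))) 12) 5 = true := by
  decide +kernel

theorem hexb_ok : allBelow (fun j => HEXB.testBit (hex j)) 132 = true := by decide +kernel

theorem enum_ok : enumL (fun l => !(allBelow (fun j => HEXB.testBit (imgMaskAux l (hex j) 12)) 132)
    || allBelow (fun i => Nat.beq (l.getD i 0) i) 12) 6 [0, 1, 2, 3, 4, 5] = true := by
  decide +kernel

theorem hex31 : allBelow (fun j => !(Nat.beq (Nat.land 31 (hex j)) 31) || Nat.beq (hex j) 63) 132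
    = true := by
  decide +kernel

theorem bit_facts : hex 0 = 63 ∧ (∀ i < 12, (31 : ℕ).testBit i = true → i < 5) ∧
    (∀ i < 6, (63 : ℕ).testBit i = true) ∧ (∀ i < 12, (63 : ℕ).testBit i = true → i < 6) := by
  decide +kernel

theorem smul_hex_mem {σ : Equiv.Perm ArrayPt} (hA : σ ∈ setSystemAut tgHexads) {j : ℕ}
    (hj : j < 132) : ∃ j' < 132, σ • setOf12 (hex j) = setOf12 (hex j') := by
  have hstab : σ • tgHexads = tgHexads := MulAction.mem_stabilizer_iff.mp hA
  have hmem : σ • setOf12 (hex j) ∈ tgHexads := by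
    rw [← hstab]
    exact Set.smul_mem_smul_set ((mem_H _).mpr ⟨j, hj, rfl⟩)
  exact (mem_H _).mp hmem

/-- An automorphism of the hexad system fixing the first five positions fixes the sixth. -/
theorem fix5 {σ : Equiv.Perm ArrayPt} (hA : σ ∈ setSystemAut tgHexads)
    (hfix : ∀ i < 5, σ (pt12 i) = pt12 i) : σ (pt12 5) = pt12 5 := by
  obtain ⟨j', hj', he⟩ := smul_hex_mem hA (by norm_num : 0 < 132)
  rw [bit_facts.1] at he
  have hsub : setOf12 31 ⊆ setOf12 (hex j') := by
    rw [← he]
    intro p hp
    rw [mem_setOf12] at hp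
    have hi : idx12 p < 5 := bit_facts.2.1 _ (idx12_lt p) hp
    have h1 : σ • p = p := by
      have h2 := hfix _ hi
      rw [pt12_idx12] at h2
      exact h2
    rw [← h1]
    exact Finset.smul_mem_smul_finset (mem_setOf12.mpr (bit_facts.2.2.1 _ (by omega)))
  have h63 : hex j' = 63 := by
    have h1 := (setOf12_subset_iff (by norm_num : (31 : ℕ) < 2 ^ 12)).mp hsub
    have h2 := (allBelow_iff _ _).mp hex31 j' hj'
    rw [h1] at h2
    simp only [Nat.beq_refl, Bool.not_true, Bool.false_or] at h2
    exact Nat.eq_of_beq_eq_true h2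
  rw [h63] at he
  have h5 : σ (pt12 5) ∈ setOf12 63 := by
    rw [← he]
    exact Finset.smul_mem_smul_finset (mem_setOf12.mpr (by
      rw [idx12_pt12 5 (by norm_num)]
      exact bit_facts.2.2.1 5 (by norm_num)))
  rw [mem_setOf12] at h5
  have h6 : idx12 (σ (pt12 5)) < 6 := bit_facts.2.2.2 _ (idx12_lt _) h5
  by_cases h7 : idx12 (σ (pt12 5)) < 5
  · exfalso
    have h8 := hfix _ h7
    rw [pt12_idx12] at h8
    have h9 := σ.injective h8
    rw [h9, idx12_pt12 5 (by norm_num)] at h7
    omega
  · have h8 : idx12 (σ (pt12 5)) = 5 := by omega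
    rw [← pt12_idx12 (σ (pt12 5)), h8]

theorem stab5_bot : stabN (setSystemAut tgHexads) 5 = ⊥ := by
  rw [Subgroup.eq_bot_iff_forall]
  intro σ hσ
  obtain ⟨hA, hfix⟩ := mem_stabN.mp hσ
  have h6 : imgsOf σ 6 = [0, 1, 2, 3, 4, 5] := by
    have e : imgsOf σ 6 = [idx12 (σ (pt12 0)), idx12 (σ (pt12 1)), idx12 (σ (pt12 2)),
        idx12 (σ (pt12 3)), idx12 (σ (pt12 4)), idx12 (σ (pt12 5))] := rfl
    rw [e, hfix 0 (by norm_num), hfix 1 (by norm_num), hfix 2 (by norm_num), hfix 3 (by norm_num),
      hfix 4 (by norm_num), fix5 hA hfix]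
    rfl
  have hk := enumL_sound _ σ 6 (by norm_num) (by
    rw [show 12 - 6 = 6 from rfl, h6]
    exact enum_ok)
  have hpres : allBelow (fun j => HEXB.testBit (imgMaskAux (imgsOf σ 12) (hex j) 12)) 132
      = true := by
    rw [allBelow_iff]
    intro j hj
    obtain ⟨j', hj', he⟩ := smul_hex_mem hA hj
    rw [smul_setOf12] at he
    rw [setOf12_injOn (imgMask_lt σ _) (hex_data j' hj').1 he]
    exact (allBelow_iff _ _).mp hexb_ok j' hj'
  rw [hpres] at hk
  simp only [Bool.not_true, Bool.false_or] at hk
  exact eq_one_of_imgs hk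

theorem card_A_le : Nat.card (setSystemAut tgHexads) ≤ 95040 := by
  have h0 : Nat.card (stabN (setSystemAut tgHexads) 0) ≤ (tail12 0).card * Nat.card (stabN (setSystemAut tgHexads) 1) :=
    stabN_card_le (setSystemAut tgHexads) 0 (by norm_num)
  have h1 : Nat.card (stabN (setSystemAut tgHexads) 1) ≤ (tail12 1).card * Nat.card (stabN (setSystemAut tgHexads) 2) :=
    stabN_card_le (setSystemAut tgHexads) 1 (by norm_num)
  have h2 : Nat.card (stabN (setSystemAut tgHexads) 2) ≤ (tail12 2).card * Nat.card (stabN (setSystemAut tgHexads) 3) :=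
    stabN_card_le (setSystemAut tgHexads) 2 (by norm_num)
  have h3 : Nat.card (stabN (setSystemAut tgHexads) 3) ≤ (tail12 3).card * Nat.card (stabN (setSystemAut tgHexads) 4) :=
    stabN_card_le (setSystemAut tgHexads) 3 (by norm_num)
  have h4 : Nat.card (stabN (setSystemAut tgHexads) 4) ≤ (tail12 4).card * Nat.card (stabN (setSystemAut tgHexads) 5) :=
    stabN_card_le (setSystemAut tgHexads) 4 (by norm_num)
  rw [card_tail12 _ (by norm_num)] at h0 h1 h2 h3 h4
  have h5 : Nat.card (stabN (setSystemAut tgHexads) 5) = 1 := by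
    rw [stab5_bot]
    exact Subgroup.card_bot
  have e : stabN (setSystemAut tgHexads) 0 = setSystemAut tgHexads := rfl
  rw [e] at h0
  omega

theorem card_I_ge : 95040 ≤ Nat.card tgPermGroup := by
  have hcert : ∀ n < 5, ∀ q, n ≤ idx12 q → ∃ g ∈ stabN tgPermGroup n, g (pt12 n) = q := by
    intro n hn q hq
    have h1 := (allBelow_iff _ _).mp ((allBelow_iff _ _).mp certs_ok n hn) (idx12 q) (idx12_lt q)
    have h2 : Nat.blt (idx12 q) n = false := by
      rw [← Bool.not_eq_true, Nat.blt_eq]
      omega
    rw [h2, Bool.false_or] at h1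
    obtain ⟨g, hg, hgq⟩ := cert_sound h1 (by omega)
    exact ⟨g, hg, by rw [hgq, pt12_idx12]⟩
  have h0 : (tail12 0).card * Nat.card (stabN tgPermGroup 1) ≤ Nat.card (stabN tgPermGroup 0) :=
    stabN_le_card tgPermGroup 0 (hcert 0 (by norm_num))
  have h1 : (tail12 1).card * Nat.card (stabN tgPermGroup 2) ≤ Nat.card (stabN tgPermGroup 1) :=
    stabN_le_card tgPermGroup 1 (hcert 1 (by norm_num))
  have h2 : (tail12 2).card * Nat.card (stabN tgPermGroup 3) ≤ Nat.card (stabN tgPermGroup 2) :=
    stabN_le_card tgPermGroup 2 (hcert 2 (by norm_num))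
  have h3 : (tail12 3).card * Nat.card (stabN tgPermGroup 4) ≤ Nat.card (stabN tgPermGroup 3) :=
    stabN_le_card tgPermGroup 3 (hcert 3 (by norm_num))
  have h4 : (tail12 4).card * Nat.card (stabN tgPermGroup 5) ≤ Nat.card (stabN tgPermGroup 4) :=
    stabN_le_card tgPermGroup 4 (hcert 4 (by norm_num))
  rw [card_tail12 _ (by norm_num)] at h0 h1 h2 h3 h4
  have h5 : 1 ≤ Nat.card (stabN tgPermGroup 5) := Nat.card_pos
  have e : stabN tgPermGroup 0 = tgPermGroup := rfl
  rw [e] at h0
  omega


/-- The monomial automorphism group of the length-12 ternary code has order 190080 and its permutation parts are exactly the automorphisms of its hexad system. -/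
theorem result : Nat.card {f : Equiv.Perm Cfsg.ArrayPt × (Cfsg.ArrayPt → (ZMod 3)ˣ) // (∀ x ∈ Cfsg.ternaryGolayCode, Cfsg.monomialMap f.1 f.2 x ∈ Cfsg.ternaryGolayCode)} = 190080 ∧ {σ : Equiv.Perm Cfsg.ArrayPt | ∃ c : Cfsg.ArrayPt → (ZMod 3)ˣ, (∀ x ∈ Cfsg.ternaryGolayCode, Cfsg.monomialMap σ c x ∈ Cfsg.ternaryGolayCode)} = (Cfsg.setSystemAut {h : Finset Cfsg.ArrayPt | ∃ x ∈ Cfsg.ternaryGolayCode, Cfsg.ternarySupport x = h ∧ h.card = 6} : Set (Equiv.Perm Cfsg.ArrayPt)) := by
  have hle : tgPermGroup ≤ setSystemAut tgHexads := tgPermGroup_le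
  have hc1 : Nat.card tgPermGroup ≤ Nat.card (setSystemAut tgHexads) := Subgroup.card_le_of_le hle
  have hcI : Nat.card tgPermGroup = 95040 := le_antisymm (le_trans hc1 card_A_le) card_I_ge
  have heq : tgPermGroup = setSystemAut tgHexads :=
    Subgroup.eq_of_le_of_card_ge hle (by rw [hcI]; exact card_A_le)
  constructor
  · have h1 := tgAut_card (fun d hd => Cfsg.Agent.S1593.result d hd)
    rw [hcI] at h1
    exact h1
  · exact congrArg (fun G : Subgroup (Equiv.Perm Cfsg.ArrayPt) => (G : Set (Equiv.Perm Cfsg.ArrayPt))) heq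


end Cfsg.Agent.S1594
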