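import Cfsg.Statements.S1595
import Cfsg.Agent.Lib.helper10.Steiner5612

set_option autoImplicit false
open Cfsg

namespace Cfsg.Agent.S1595

open Cfsg.Agent.Lib.helper10

/-- Leech triangle of S(5, 6, 12): blocks meet in 0, 2, 3 or 4 points, and a block is met exactly in a given 2-, 3- or 4-subset by 3, 2, 3 blocks respectively. -/
theorem result {α : Type*} [Fintype α] [DecidableEq α] (hα : Fintype.card α = 12) {B : Set (Finset α)} (hB : Cfsg.IsSteinerSystem 5 6 B) (b : Finset α) (hb : b ∈ B) : (∀ c ∈ B, c ≠ b → (b ∩ c).card = 0 ∨ (b ∩ c).card = 2 ∨ (b ∩ c).card = 3 ∨ (b ∩ c).card = 4) ∧ ∀ s ⊆ b, (s.card = 2 → {c : Finset α | c ∈ B ∧ b ∩ c = s}.ncard = 3) ∧ (s.card = 3 → {c : Finset α | c ∈ B ∧ b ∩ c = s}.ncard = 2) ∧ (s.card = 4 → {c : Finset α | c ∈ B ∧ b ∩ c = s}.ncard = 3) := by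
  have hE := fun t ht => s5612_exactN hB hα hb t ht
  have hb6 := hB.1 b hb
  refine ⟨?_, ?_⟩
  · intro c hc hne
    have ht : b ∩ c ⊆ b := Finset.inter_subset_left
    have h1 := hE (b ∩ c) ht
    have hpos : 0 < exactN B b (b ∩ c) := by
      rw [exactN, Finset.card_pos]
      exact ⟨c, Finset.mem_filter.mpr ⟨mem_blk.mpr hc, rfl⟩⟩
    have hle : (b ∩ c).card ≤ 6 := by rw [← hb6]; exact Finset.card_le_card ht
    have h6 : (b ∩ c).card ≠ 6 := by
      intro h6
      have : b ∩ c = b := Finset.eq_of_subset_of_card_le ht (by omega)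
      have hsub : b ⊆ c := Finset.inter_eq_left.mp this
      exact hne (Finset.eq_of_subset_of_card_le hsub (by rw [hB.1 c hc, hb6])).symm
    rw [h1] at hpos
    revert hpos h6 hle
    generalize (b ∩ c).card = k
    intro hle h6 hpos
    interval_cases k <;> simp_all [e5612]
  · intro s hs
    refine ⟨fun h2 => ?_, fun h3 => ?_, fun h4 => ?_⟩
    · rw [ncard_exact, hE s hs, h2]; rfl
    · rw [ncard_exact, hE s hs, h3]; rfl
    · rw [ncard_exact, hE s hs, h4]; rfl

end Cfsg.Agent.S1595
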