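import Cfsg.Statements.S1596
import Cfsg.Agent.Lib.helper34.GolayQuartets

set_option autoImplicit false
open scoped Pointwise
open Cfsg

namespace Cfsg.Agent.S1596

open Cfsg.Agent.Lib.helper34


/-- A quartet of a dodecad is determined by any two of its triples: two disjoint triples uniting to a hexad extend to exactly one quartet. -/
theorem result (d : Finset Cfsg.GolayPt) (hd : d ∈ Cfsg.dodecads) (t u : Finset Cfsg.GolayPt) (ht : t.card = 3) (hu : u.card = 3) (htu : Disjoint t u) (hh : t ∪ u ∈ Cfsg.hexadsOn d) : ∃! Q : Finset (Finset Cfsg.GolayPt), Q ∈ Cfsg.quartets d ∧ t ∈ Q ∧ u ∈ Q := by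
  obtain ⟨h, hh', hd0, ht0, hu0⟩ := flag_quartet_pair hd ht hu htu hh
  have hi := M24.inv_mem hh'
  refine ⟨h⁻¹ • unmaskQ quartet0, ⟨?_, ?_, ?_⟩, ?_⟩
  · have := smul_mem_quartets hi quartet0_mem
    rwa [← hd0, inv_smul_smul] at this
  · rw [← inv_smul_eq_iff.mpr ht0.symm]
    exact Finset.smul_mem_smul_finset mem_quartet0_7
  · rw [← inv_smul_eq_iff.mpr hu0.symm]
    exact Finset.smul_mem_smul_finset mem_quartet0_u
  · rintro Q' ⟨hQ', ht', hu'⟩
    have h1 : h • Q' ∈ quartets (unmask dodecad0) := by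
      rw [← hd0]; exact smul_mem_quartets hh' hQ'
    have h2 : unmask 7 ∈ h • Q' := by rw [← ht0]; exact Finset.smul_mem_smul_finset ht'
    have h3 : unmask 4120 ∈ h • Q' := by rw [← hu0]; exact Finset.smul_mem_smul_finset hu'
    rw [← quartet0_unique h1 h2 h3, inv_smul_smul]

end Cfsg.Agent.S1596
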