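import Cfsg.Statements.S1597
import Cfsg.Agent.Lib.helper34.GolayQuartets

set_option autoImplicit false
open scoped Pointwise
open Cfsg

namespace Cfsg.Agent.S1597

open Cfsg.Agent.Lib.helper34


/-- A dodecad has 220 quartets and its stabiliser is transitive on them. -/
theorem result (d : Finset Cfsg.GolayPt) (hd : d ∈ Cfsg.dodecads) : (Cfsg.quartets d).ncard = 220 ∧ ∀ Q ∈ Cfsg.quartets d, ∀ Q' ∈ Cfsg.quartets d, ∃ g : Equiv.Perm Cfsg.GolayPt, g ∈ Cfsg.M24 ∧ g • d = d ∧ g • Q = Q' := by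
  obtain ⟨k, hk, hd0⟩ := M24_trans_dodecads hd
  have hki : k⁻¹ ∈ M24 := M24.inv_mem hk
  have hkd : k⁻¹ • d = unmask dodecad0 := by rw [← hd0, inv_smul_smul]
  refine ⟨?_, ?_⟩
  · rw [ncard_smul_transport k⁻¹ (quartets d) (quartets (unmask dodecad0))
      (fun Q => by rw [← hkd]; exact (smul_mem_quartets_iff hki).symm)]
    exact ncard_quartets0
  · intro Q hQ Q' hQ'
    obtain ⟨h, hh, e1, e2⟩ := quartet_trans hd hQ
    obtain ⟨h', hh', e1', e2'⟩ := quartet_trans hd hQ'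
    refine ⟨h'⁻¹ * h, M24.mul_mem (M24.inv_mem hh') hh, ?_, ?_⟩
    · rw [mul_smul, e1, ← e1', inv_smul_smul]
    · rw [mul_smul, e2, ← e2', inv_smul_smul]

end Cfsg.Agent.S1597
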