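import Cfsg.Statements.S1599
import Cfsg.Agent.Lib.helper34.GolayQOrbit

set_option autoImplicit false
open scoped Pointwise
open Cfsg

namespace Cfsg.Agent.S1599

open Cfsg.Agent.Lib.helper34

/-- The 220 quartets of the base dodecad, four 24-bit masks each. -/
def quartetTab : ℕ := nat_lit 0x4001101000c00204200130004000601011000200900124004000a01014000200500121004000501004200211000120804001201010400204100120804014001001100200600120804004201010800201100120404001801000500214000120204011001000600204800120104020801000300201400114004004201000500220800111004020101000a00204400111004000c01024000200300111004024001001200200500110804000301020800205000110404000501001800224000110204021001004200200c00110104000501030000200a00105004030001000500201200104804020201000900211000104404000901001400230000104204020401010100201800104204011001020800200500104204001401010200220800104104010401020100204200101804010801004200220100101404020801004400210100101204004401020800210200101104011001004100220200100c04004101011000220400100a0400420102100021040010090401010100500022080010060401020100480022100010050400500102020021080010050402080101100020420010050400480102040021100010030400140100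0900300200034004100801000600201100034004000301101000200c00034004004401000300300800031005000800204100100600031004000601004100301000030805001000204400100300030804005001100800200300030404000a01201000104100030405000100204800101200030404000c01001100304000030204004101200800101400030204201001004400100900030204101001004800200600030104200801001200104400030105000400205000100a00030104000901110000200600025005000200210100100c00025004010401200800100300025004001101100200210400024804200201010100101400024804100201001100210800024405000800201200110100024404200101010200101800024404010101100800201400024204200801010400101100024204010201001400300800024104001801200200110400024104200401010800101200024104004101000600310000021805010000200300104400021804014001000a00300100021404200801004100110200021404000301210000104800021404100801010100204400021205004000200900110400021204210001000c00104100021204004801010200300400021104000601100800214000021104110001004400200a00021104100101001200214000020c04010201200100105000020c04010401104000201100020a04204001001400110100020a04100401014000201200020904005001200400110200020904001101014000300800020604104001001800210100020604010801100100205000020604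100801005000210200020504001201200800114000020504014001100400201800020304001401204000110800020305000800210400105000020304100201000c00220100015004020401200200100900015005000100300400020a00015004120001001400200300014805000200220400101100014804201001020100100600014804000501300000021200014804000901020200301000014404200201001800120100014404021001200100100a00014404101001020400200900014204020101201000100c00014204200401100100021800014204000c01100200221000014105001000200a00120400014104020201200400101800014104000301004400320000011805020000200600104100011804100401200100024200011804204001100200020500011804024001100100200a00011404200101004800120200011405000200304000020900011404104001020100200c00011204000901204000120400011205000400300100024800011204000a01100400224000011104200401020200104800011105004000300200020c00011104020201005000300100010c04101001000300224000010c04004101120000201200010c05200000104200021100010c04020401101000204100010a05004000201400120100010a04001101220000104400010a04300001000500025000010a040012010240003004000109040044012010001202000109042200010006001050000109051000002042000214000109041001010240002018000106042040010009001210000106050010002201001048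00010604004801101000220200010504201001000a00124000010504100201204000021800010504024001000c00301000010304001801104000220400010304100401021000204800010304020101010400300200005804210001000300120400005804000601220000110100005805100000200500030200005804000a01020100310000005404100101010800220200005404030001100200200900005405200000120800010300005404110001000900220400005204000c01210000120100005204200101100400030800005205020000300800010500005204100401000a00230000005105010000200c00120200005104200201020400110800005104020801300000010600005104001201100100230000004c04010101200200121000004c05020000201100110200004c04300001011000020300004c04001401120000210100004a04220001001100110400004a04100101200400031000004a05010000301000020500004a04010401001200320000004904021001100400210200004904100201030000201400004905200000111000020600004904001801030000300100004605000100221000110800004604210001101000020900004604120001200800011100004604010801021000300200004505000200201800130000004504101001210000020a00004504220001100800011200004504030001001800300400004305000400210800121000004304201001110000020c00004304100801220000011400004304110001020200204100001c05000100210200124000001c0422000101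4000100300001c04004201300000030100001c04010101020400304000001a04004401110000220100001a04120001004100210400001a05200000100500034000001a04010201120000204400001905000400220200114000001904024001210000100600001904300001004200030400001904020101104000210800001604004801200100130000001605010000224000100900001604300001020800014100001604020201110000204800001504210001024000100a00001504104001200200030800001505000800320000014200001504020401004800310000001304010801200400124000001304204001030000100c00001305100000220800014400001304005001010100320000000e04200101021000114000000e04030001204000101100000e05100000211000024100000e04120001010200205000000d04014001220000101200000d04200201104000031000000d05001000310000024200000d04104001010400221000000b04200401005000130000000b05020000214000101400000b04011001300000024400000b040210010108003040000007050040002300001018000007041100012010000248000007042008011200000150000007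

def qobj (k : ℕ) : List ℕ :=
  [Nat.land (Nat.shiftRight quartetTab (Nat.mul 96 k)) 16777215,
   Nat.land (Nat.shiftRight quartetTab (Nat.add (Nat.mul 96 k) 24)) 16777215,
   Nat.land (Nat.shiftRight quartetTab (Nat.add (Nat.mul 96 k) 48)) 16777215,
   Nat.land (Nat.shiftRight quartetTab (Nat.add (Nat.mul 96 k) 72)) 16777215]

theorem qobj_k0 : unmaskQ (qobj 2) = unmaskQ quartet0 :=
  unmaskQ_eq_of_sameQ (by decide +kernel)

theorem qobj_lt (k : ℕ) : ∀ a ∈ qobj k, a < 2 ^ 24 := by
  intro a ha
  simp only [qobj, List.mem_cons, List.not_mem_nil, or_false] at ha
  have h : ∀ x : ℕ, Nat.land x 16777215 < 2 ^ 24 := fun x =>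
    lt_of_le_of_lt (Nat.and_le_right (n := x) (m := 16777215)) (by norm_num)
  rcases ha with rfl | rfl | rfl | rfl <;> exact h _

/-- Duplicate-freeness of a list of four numbers, as a Boolean. -/
def nodup4 (l : List ℕ) : Bool :=
  match l with
  | [a, b, c, d] => !(or (Nat.beq a b) (or (Nat.beq a c) (or (Nat.beq a d) (or (Nat.beq b c)
      (or (Nat.beq b d) (Nat.beq c d))))))
  | _ => false

theorem qobj_nodup_aux : allBelow (fun k => nodup4 (qobj k)) 220 = true := by decide +kernel

theorem nodup4_sound (a b c d : ℕ) (h : nodup4 [a, b, c, d] = true) : [a, b, c, d].Nodup := by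
  simp only [nodup4, Bool.not_eq_true', Bool.or_eq_false_iff] at h
  obtain ⟨h1, h2, h3, h4, h5, h6⟩ := h
  have n1 := Nat.ne_of_beq_eq_false h1
  have n2 := Nat.ne_of_beq_eq_false h2
  have n3 := Nat.ne_of_beq_eq_false h3
  have n4 := Nat.ne_of_beq_eq_false h4
  have n5 := Nat.ne_of_beq_eq_false h5
  have n6 := Nat.ne_of_beq_eq_false h6
  simp [n1, n2, n3, n4, n5, n6]

theorem qobj_nodup {k : ℕ} (hk : k < 220) : (qobj k).Nodup :=
  nodup4_sound _ _ _ _ (allBelow_spec qobj_nodup_aux k hk)

/-- A numerical key separating the quartets of the table: the sum of the squares of the masks. -/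
def keyL (l : List ℕ) : ℕ := (l.map (fun m => Nat.mul m m)).sum

def keyF (X : Finset (Finset GolayPt)) : ℕ := ∑ t ∈ X, Nat.mul (mask t) (mask t)

theorem keyF_unmaskQ {l : List ℕ} (hlt : ∀ a ∈ l, a < 2 ^ 24) (hnd : l.Nodup) :
    keyF (unmaskQ l) = keyL l := by
  unfold keyF unmaskQ keyL
  rw [Finset.sum_image]
  · rw [List.sum_toFinset _ hnd]
    congr 1
    apply List.map_congr_left
    intro a ha
    rw [mask_unmask (hlt a ha)]
  · intro a ha b hb h
    rw [Finset.mem_coe, List.mem_toFinset] at ha hb
    exact unmask_inj (hlt a ha) (hlt b hb) h

theorem key_inj_aux : allBelow (fun k => allBelow (fun k' =>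
    !(Nat.beq (keyL (qobj k)) (keyL (qobj k')))) k) 220 = true := by decide +kernel

theorem qobj_inj {k k' : ℕ} (hk : k < 220) (hk' : k' < 220)
    (h : unmaskQ (qobj k) = unmaskQ (qobj k')) : k = k' := by
  have e : keyL (qobj k) = keyL (qobj k') := by
    rw [← keyF_unmaskQ (qobj_lt k) (qobj_nodup hk), ← keyF_unmaskQ (qobj_lt k') (qobj_nodup hk'), h]
  by_contra hne
  rcases Nat.lt_or_gt_of_ne hne with hlt | hlt
  · have h1 := allBelow_spec (allBelow_spec key_inj_aux k' hk') k hlt
    rw [e] at h1
    simp at h1
  · have h1 := allBelow_spec (allBelow_spec key_inj_aux k hk) k' hlt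
    rw [e] at h1
    simp at h1

/-! Every entry of the table is in the orbit of the base quartet under the stabiliser of the base
dodecad, hence is a quartet. -/

def cert1 : ℕ := nat_lit 0x2070100b300020401008900020400009300020601003200020700003f00020701003000020701000300020501001a0002090100b600020801005b0002080100780002080100a80002060000120002070000950002050100b10002050000d900020800009f00020501007f00020301006f0002050000800002060000ca0002070000d800020701009500020a01007a00020500007100020801000700020301002200020600007e00020600000400020700002d00020800004a0002090000380002080000980002070000590002070100b40002070000150002020100690002080100d500020701007300020601007600020601001100020801005e0002040000170002080100b90002080100ba0002090000d10002050000da00020600007700020700004900020700008400020701008400020700002e00020801006500020601002900020801008f0002060100a100020601000400020701008500020501006e0002040000c10002070100590002070000c70002060100770002080100b80002060000d40002080000aa0002070000130002070000180002080000c50002070000c00002060000c80002060000470002030000b70002050000880002080100db00020500002b0002070000a30002060000680002070000370002070100490002050100710002040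100c10002030000310002040100170002070100150002080000990002060100d400020601007e0002070100c700020801008c0002080100d70002040000480002040100480002050100da00020800008c00020500006e00020701002600020900005a00020700002500020700002c0002050100d90002050000a000020800006c0002090000540002060000290002080000ab0002040100560002080000830002020000690002040100c90002050100800002070100190002080100ab00020300006f0002010100020002050100a00002090100b000020800005b00020701002c0002070000190002090100af0002090100700002040100930002060100ca00020901005a0002070000600002070000b300020800008700020701001b00020801008d0002060000cd00020901007d00020801000d00020300002200020601006d00020801008700020701003f0002070100600002070100550002080000d50002010000020002070100010002070100a400020700009400020501008a00020700000500020601008b00020301003100020500007f0002070000260002080100990002060000320002060100cd0002070100180002050000b100020400005600020600006d00020701000c00020701009b00020701009d0002090100a70002080000be0002070100a600020801005d00020600000f0002070100cf0002080000ba00020500008a00020601009200020501006100020200004f00020600007600020401006a00020601007c00020601004b0002060100c30002040000890002080000db00020501002f00020800005e00020900005c00020601003400020600001600020801003600020801004c00020201004f0002070000bf00020801004e0002080100aa00020801006c0002070100130002090100bb0002060000c300020400006a00020600004b00020600007c0002030100b700020500002f0002060100c800020800000e0002060100cc00020501008800020501002b00020801007900020501004000020700009b00020700009d0002060100410002070000a600020800005d0002070100bf0002090100970002070000430002080000420002060000410002050000400002060100ad000200000000000206000092000205000061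

theorem cert1_ok : allBelow (entryOKR (qstep gensDod qobj) cert1 220) 220 = true := by
  decide +kernel

theorem cert1_roots : allBelow (fun k => Nat.beq (rootOf cert1 k) 2) 220 = true := by
  decide +kernel

theorem qobj_mem {k : ℕ} (hk : k < 220) : unmaskQ (qobj k) ∈ quartets (unmask dodecad0) := by
  obtain ⟨g, hg, e⟩ := qorbit_cert (stabMasks [dodecad0]) gensDod gensDod_ok.mem qobj cert1 220
    cert1_ok k hk
  rw [Nat.eq_of_beq_eq_true (allBelow_spec cert1_roots k hk), qobj_k0] at e
  have := smul_mem_quartets hg.1 quartet0_mem
  rwa [stabMasks_set hg (by simp), e] at this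

/-- The table lists all quartets of the base dodecad. -/
theorem quartets_eq : quartets (unmask dodecad0) =
    (fun k => unmaskQ (qobj k)) '' (↑(Finset.range 220) : Set ℕ) := by
  symm
  apply Set.eq_of_subset_of_ncard_le
  · rintro _ ⟨k, hk, rfl⟩
    rw [Finset.mem_coe, Finset.mem_range] at hk
    exact qobj_mem hk
  · rw [ncard_quartets0, Set.InjOn.ncard_image, Set.ncard_coe_finset, Finset.card_range]
    intro k hk k' hk' h
    rw [Finset.mem_coe, Finset.mem_range] at hk hk'
    exact qobj_inj hk hk' h
  · have hfin : (↑(Finset.range 220) : Set ℕ).Finite := Finset.finite_toSet _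
    exact Set.Finite.subset (Set.toFinite _) (fun _ h => h) |>.subset (fun _ h => h)

theorem exists_index {Q : Finset (Finset GolayPt)} (hQ : Q ∈ quartets (unmask dodecad0)) :
    ∃ k < 220, unmaskQ (qobj k) = Q := by
  rw [quartets_eq] at hQ
  obtain ⟨k, hk, rfl⟩ := hQ
  rw [Finset.mem_coe, Finset.mem_range] at hk
  exact ⟨k, hk, rfl⟩

/-! The stabiliser of the base quartet. -/

def gensK : List (List ℕ × List ℕ) :=
  [([2, 1, 0, 13, 9, 19, 3, 17, 6, 18, 7, 20, 8, 16, 11, 15, 12, 10, 4, 5, 22, 23, 21, 14], [2, 1, 0, 6, 18, 19, 8, 10, 12, 4, 17, 14, 16, 3, 23, 15, 13, 7, 9, 5, 11, 22, 20, 21]),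
  ([13, 9, 8, 3, 12, 23, 1, 10, 6, 16, 17, 22, 4, 18, 14, 20, 2, 7, 0, 15, 11, 19, 21, 5], [18, 6, 16, 3, 12, 23, 8, 17, 2, 1, 7, 20, 4, 0, 14, 19, 9, 10, 13, 21, 15, 22, 11, 5]),
  ([3, 12, 4, 13, 9, 19, 2, 17, 6, 16, 10, 15, 8, 18, 14, 20, 1, 7, 0, 22, 5, 23, 21, 11], [18, 16, 6, 0, 2, 20, 8, 17, 12, 4, 10, 23, 1, 3, 14, 11, 9, 7, 13, 5, 15, 22, 19, 21])]

theorem gensK_ok : GensFix gensK [dodecad0] ∧
    ∀ g ∈ gensK, sameQ (quartet0.map (permMask g.2)) quartet0 = true := by decide +kernel

theorem gensK_mem : ∀ g ∈ gensK, ValidPerm g.1 g.2 ∧ tperm g.1 g.2 ∈ stabQuartet0 := by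
  intro g hg
  obtain ⟨hv, hm⟩ := gensK_ok.1.mem g hg
  exact ⟨hv, hm, by rw [smul_unmaskQ hv, unmaskQ_eq_of_sameQ (gensK_ok.2 g hg)]⟩

def cert2 : ℕ := nat_lit 0x4040000600004050100690006050000080005030100200004040000640006010000060004030200460006050000ce00040400007e0004020000a700050101000500040402007c0006030200b300060400000900040302006100060301004800040500003600060301003400060402005200040502007600000101000000040402000b00040400000b0004010100040000030100720006030200330006040100ca00060301002d00060301002b00060301004e0006030200960006010100060006040200240006040200bd0004040200d50006050200a60004050000d00006040000cf0006030000340005010200050006020100bc00050301000d00060401000f00050300000d00040400009e00060501005a0004040200600006030100310006030100330005010000050004030200770006040000c20004010000040006040000bf00040401008a00040400008000040401006000040401000b0004020100c400000102000000040501007500040301007700040102000400040201009d0004050200d30005030100160006040100be00040502004b00040301004900060200008900040402007e0000020100c700040202009d00040502003b00060500008300040500003b0004050000410004050100d000040300004600040500004500040500004b0004030000490006010200060005040100d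800040402006400050300001600040402008a0006040100bd0006040100240005020100d100040302009c00040301009c0004040000470004030200a100060500001e0004030000d20004030100610004030000a10004050200850004030200d20004020200a700040400009700040401007800040300009c0004040200470000020200010005030200200006040100bf0004050100760006050100a60004040000390004040200a90004060100670004050200360004040100a90004040000810004050100500004050200500000030000430004030000930006040100520004030100930004020000c40004030000610000020000c700040502007500040502006d0004040200390004030100460006040100cf00040401007400060402000900060402001b0005030200510005030000200004050000b90006050200150006030000b30005020100b400040400007c0004050100410006020000d60006050100830005040200550004040200780004050000230004020100a70006020000bc0004030100d200040200009d00040402009e00060402000700000201000100040401004700040400008d00040402008d0000030000720004050000730004040000740004040100d500040401007b00040401007e00040300007700060402000f00040502002300040400007800040400007a0006020200bc0006020100890005030000510006020200890004050000500004050100420005040000550006020200d60006050100990006020100d600050401000a0004050200420006050200990004040000620006040000be0005040100b000060302002d0004040000d50006030100960006040000bd0005020000d100040402007b0006040200cc0005020000b40006040000c00006030000960006040000b50005030100510004040000cd00040400007b0005020200b40006040200c00006040000cc0006050100150004050200680005040000b200060401000700060300002b0004040200970005020100aa0006040200bf0004030100a100050301008200060300002d0006040200be00060300003300060000000000050000000000040000000000000302005f000200000000000001000000000000000000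

theorem cert2_ok : allBelow (entryOKR (qstep gensK qobj) cert2 220) 220 = true := by
  decide +kernel

/-- Intersection pattern of a family of sets with the base quartet. -/
def wt (c : ℕ) : ℕ := bif Nat.beq c 2 then 1 else bif Nat.beq c 3 then 10 else 0

def invL (l : List ℕ) : ℕ :=
  (l.map (fun a => (quartet0.map (fun b => wt (popF (Nat.land a b)))).sum)).sum

def invF (X : Finset (Finset GolayPt)) : ℕ :=
  ∑ t ∈ X, ∑ t' ∈ unmaskQ quartet0, wt ((t ∩ t').card)

theorem invF_unmaskQ {l : List ℕ} (hlt : ∀ a ∈ l, a < 2 ^ 24) (hnd : l.Nodup) :
    invF (unmaskQ l) = invL l := by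
  unfold invF invL
  have hinj : ∀ l' : List ℕ, (∀ a ∈ l', a < 2 ^ 24) →
      Set.InjOn unmask (↑l'.toFinset : Set ℕ) := by
    intro l' hl' a ha b hb h
    rw [Finset.mem_coe, List.mem_toFinset] at ha hb
    exact unmask_inj (hl' a ha) (hl' b hb) h
  unfold unmaskQ
  rw [Finset.sum_image (hinj l hlt), List.sum_toFinset _ hnd]
  congr 1
  apply List.map_congr_left
  intro a ha
  rw [Finset.sum_image (hinj quartet0 quartet0_lt), List.sum_toFinset _ (by decide)]
  congr 1
  apply List.map_congr_left
  intro b hb
  rw [card_eq_popF, mask_inter, mask_unmask (hlt a ha), mask_unmask (quartet0_lt b hb)]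
  rfl

theorem invF_smul {g : Equiv.Perm GolayPt} (hg : g ∈ stabQuartet0) (X : Finset (Finset GolayPt)) :
    invF (g • X) = invF X := by
  unfold invF
  have hi : Set.InjOn (fun t : Finset GolayPt => g • t) (↑X : Set (Finset GolayPt)) :=
    fun a _ b _ h => smul_left_cancel g h
  have e1 : g • X = X.image (fun t => g • t) := rfl
  rw [e1, Finset.sum_image hi]
  apply Finset.sum_congr rfl
  intro t _
  have hi2 : Set.InjOn (fun t : Finset GolayPt => g • t)
      (↑(unmaskQ quartet0) : Set (Finset GolayPt)) := fun a _ b _ h => smul_left_cancel g h
  have e2 : unmaskQ quartet0 = (unmaskQ quartet0).image (fun t => g • t) := hg.2.symm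
  conv_lhs => rw [e2]
  rw [Finset.sum_image hi2]
  apply Finset.sum_congr rfl
  intro t' _
  rw [← Finset.smul_finset_inter, Finset.card_smul_finset]

/-- The orbit representative determined by the intersection pattern. -/
def rootI (v : ℕ) : ℕ := bif Nat.beq v 1 then 4 else bif Nat.beq v 3 then 6 else bif Nat.beq v 4 then 5 else bif Nat.beq v 10 then 0 else 2

theorem cert2_inv : allBelow (fun k => Nat.beq (rootOf cert2 k) (rootI (invL (qobj k)))) 220 = true := by
  decide +kernel

/-- The orbit of a table entry under the stabiliser of the base quartet consists of the table
entries with the same certified root. -/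
theorem orbit_tab {r : ℕ} (hr : r < 220) (hroot : rootOf cert2 r = r) :
    {Y : Finset (Finset GolayPt) | ∃ g ∈ stabQuartet0, g • unmaskQ (qobj r) = Y} =
      (fun k => unmaskQ (qobj k)) ''
        (↑((Finset.range 220).filter (fun k => Nat.beq (rootOf cert2 k) r = true)) : Set ℕ) := by
  ext Y
  constructor
  · rintro ⟨g, hg, rfl⟩
    have hq : g • unmaskQ (qobj r) ∈ quartets (unmask dodecad0) := by
      have := smul_mem_quartets hg.1.1 (qobj_mem hr)
      rwa [stabMasks_set hg.1 (by simp)] at this
    obtain ⟨k, hk, e⟩ := exists_index hq
    refine ⟨k, ?_, e⟩
    rw [Finset.mem_coe, Finset.mem_filter, Finset.mem_range]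
    refine ⟨hk, ?_⟩
    have h1 := Nat.eq_of_beq_eq_true (allBelow_spec cert2_inv k hk)
    have h2 := Nat.eq_of_beq_eq_true (allBelow_spec cert2_inv r hr)
    have h3 : invL (qobj k) = invL (qobj r) := by
      rw [← invF_unmaskQ (qobj_lt k) (qobj_nodup hk), ← invF_unmaskQ (qobj_lt r) (qobj_nodup hr), e,
        invF_smul hg]
    rw [h1, h3, ← h2, hroot]
    exact Nat.beq_refl r
  · rintro ⟨k, hk, rfl⟩
    rw [Finset.mem_coe, Finset.mem_filter, Finset.mem_range] at hk
    obtain ⟨g, hg, e⟩ := qorbit_cert stabQuartet0 gensK gensK_mem qobj cert2 220 cert2_ok k hk.1
    rw [Nat.eq_of_beq_eq_true hk.2] at e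
    exact ⟨g, hg, e⟩

theorem orbit_ncard {r : ℕ} (hr : r < 220) (hroot : rootOf cert2 r = r) (n : ℕ)
    (hn : countBelow (fun k => Nat.beq (rootOf cert2 k) r) 220 = n) :
    {Y : Finset (Finset GolayPt) | ∃ g ∈ stabQuartet0, g • unmaskQ (qobj r) = Y}.ncard = n := by
  rw [orbit_tab hr hroot, Set.InjOn.ncard_image, Set.ncard_coe_finset, ← countBelow_eq]
  · exact hn
  · intro k hk k' hk' h
    rw [Finset.mem_coe, Finset.mem_filter, Finset.mem_range] at hk hk'
    exact qobj_inj hk.1 hk'.1 h

theorem roots_cases : allBelow (fun k => or (Nat.beq (rootOf cert2 k) 2) (or
    (Nat.beq (rootOf cert2 k) 0) (or (Nat.beq (rootOf cert2 k) 5)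
    (or (Nat.beq (rootOf cert2 k) 6) (Nat.beq (rootOf cert2 k) 4))))) 220 = true := by
  decide +kernel

theorem root_k0 : allBelow (fun k => bif Nat.beq (rootOf cert2 k) 2 then Nat.beq k 2
    else true) 220 = true := by decide +kernel


/-- A quartet stabiliser has five orbits on the quartets of its dodecad, of sizes 1, 12, 27, 72, 108. -/
theorem result (d : Finset Cfsg.GolayPt) (hd : d ∈ Cfsg.dodecads) (Q : Finset (Finset Cfsg.GolayPt)) (hQ : Q ∈ Cfsg.quartets d) : ∃ X₁ ∈ Cfsg.quartets d, ∃ X₂ ∈ Cfsg.quartets d, ∃ X₃ ∈ Cfsg.quartets d, ∃ X₄ ∈ Cfsg.quartets d, (MulAction.orbit ↥(MulAction.stabilizer Cfsg.M24 d ⊓ MulAction.stabilizer Cfsg.M24 Q) X₁).ncard = 12 ∧ (MulAction.orbit ↥(MulAction.stabilizer Cfsg.M24 d ⊓ MulAction.stabilizer Cfsg.M24 Q) X₂).ncard = 27 ∧ (MulAction.orbit ↥(MulAction.stabilizer Cfsg.M24 d ⊓ MulAction.stabilizer Cfsg.M24 Q) X₃).ncard = 72 ∧ (MulAction.orbit ↥(MulAction.stabilizer Cfsg.M24 d ⊓ MulAction.stabilizer Cfsg.M24 Q) X₄).ncard = 108 ∧ Cfsg.quartets d = {Q} ∪ MulAction.orbit ↥(MulAction.stabilizer Cfsg.M24 d ⊓ MulAction.stabilizer Cfsg.M24 Q) X₁ ∪ MulAction.orbit ↥(MulAction.stabilizer Cfsg.M24 d ⊓ MulAction.stabilizer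 Cfsg.M24 Q) X₂ ∪ MulAction.orbit ↥(MulAction.stabilizer Cfsg.M24 d ⊓ MulAction.stabilizer Cfsg.M24 Q) X₃ ∪ MulAction.orbit ↥(MulAction.stabilizer Cfsg.M24 d ⊓ MulAction.stabilizer Cfsg.M24 Q) X₄ := by
  obtain ⟨h, hh, hd0, hQ0⟩ := quartet_trans hd hQ
  have hi := M24.inv_mem hh
  have hK : ∀ g : ↥M24, g ∈ (MulAction.stabilizer Cfsg.M24 d ⊓ MulAction.stabilizer Cfsg.M24 Q) ↔
      h * (g : Equiv.Perm GolayPt) * h⁻¹ ∈ stabQuartet0 := by
    intro g
    rw [mem_stabQuartet0, mem_stabMasks_single, conj_smul_iff h _ hd0, conj_smul_iff h _ hQ0]
    simp only [Subgroup.mem_inf, mem_stabilizer_M24_iff]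
    have := conj_mem_M24 hh g
    tauto
  have hmemq : ∀ k, k < 220 → h⁻¹ • unmaskQ (qobj k) ∈ quartets d := by
    intro k hk
    have := smul_mem_quartets hi (qobj_mem hk)
    rwa [← hd0, inv_smul_smul] at this
  have horb : ∀ r, r < 220 → rootOf cert2 r = r →
      MulAction.orbit ↥(MulAction.stabilizer Cfsg.M24 d ⊓ MulAction.stabilizer Cfsg.M24 Q)
        (h⁻¹ • unmaskQ (qobj r)) = (fun Y => h⁻¹ • Y) ''
          {Y : Finset (Finset GolayPt) | ∃ g ∈ stabQuartet0, g • unmaskQ (qobj r) = Y} := by
    intro r hr hroot
    rw [orbit_conj _ stabQuartet0 stabQuartet0_le h hh hK, smul_inv_smul]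
  have hcard : ∀ r, r < 220 → rootOf cert2 r = r → ∀ n,
      countBelow (fun k => Nat.beq (rootOf cert2 k) r) 220 = n →
      (MulAction.orbit ↥(MulAction.stabilizer Cfsg.M24 d ⊓ MulAction.stabilizer Cfsg.M24 Q)
        (h⁻¹ • unmaskQ (qobj r))).ncard = n := by
    intro r hr hroot n hn
    rw [horb r hr hroot, Set.InjOn.ncard_image (fun a _ b _ hab => smul_left_cancel _ hab)]
    exact orbit_ncard hr hroot n hn
  have hmem : ∀ r, r < 220 → rootOf cert2 r = r → ∀ k, k < 220 → rootOf cert2 k = r →
      h⁻¹ • unmaskQ (qobj k) ∈
        MulAction.orbit ↥(MulAction.stabilizer Cfsg.M24 d ⊓ MulAction.stabilizer Cfsg.M24 Q)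
          (h⁻¹ • unmaskQ (qobj r)) := by
    intro r hr hroot k hk hkr
    rw [horb r hr hroot, orbit_tab hr hroot]
    refine ⟨unmaskQ (qobj k), ⟨k, ?_, rfl⟩, rfl⟩
    rw [Finset.mem_coe, Finset.mem_filter, Finset.mem_range]
    exact ⟨hk, by rw [hkr]; exact Nat.beq_refl r⟩
  have hsub : ∀ r, r < 220 → rootOf cert2 r = r →
      MulAction.orbit ↥(MulAction.stabilizer Cfsg.M24 d ⊓ MulAction.stabilizer Cfsg.M24 Q)
        (h⁻¹ • unmaskQ (qobj r)) ⊆ quartets d := by
    intro r hr hroot
    rw [horb r hr hroot, orbit_tab hr hroot]
    rintro _ ⟨_, ⟨k, hk, rfl⟩, rfl⟩
    rw [Finset.mem_coe, Finset.mem_filter, Finset.mem_range] at hk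
    exact hmemq k hk.1
  have r1 : rootOf cert2 0 = 0 := by decide +kernel
  have r2 : rootOf cert2 5 = 5 := by decide +kernel
  have r3 : rootOf cert2 6 = 6 := by decide +kernel
  have r4 : rootOf cert2 4 = 4 := by decide +kernel
  refine ⟨h⁻¹ • unmaskQ (qobj 0), hmemq _ (by norm_num), h⁻¹ • unmaskQ (qobj 5),
    hmemq _ (by norm_num), h⁻¹ • unmaskQ (qobj 6), hmemq _ (by norm_num),
    h⁻¹ • unmaskQ (qobj 4), hmemq _ (by norm_num),
    hcard 0 (by norm_num) r1 12 (by decide +kernel),
    hcard 5 (by norm_num) r2 27 (by decide +kernel),
    hcard 6 (by norm_num) r3 72 (by decide +kernel),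
    hcard 4 (by norm_num) r4 108 (by decide +kernel), ?_⟩
  apply Set.Subset.antisymm
  · intro Y hY
    have hY' : h • Y ∈ quartets (unmask dodecad0) := by
      have := smul_mem_quartets hh hY
      rwa [hd0] at this
    obtain ⟨k, hk, e⟩ := exists_index hY'
    have eY : Y = h⁻¹ • unmaskQ (qobj k) := by rw [e, inv_smul_smul]
    have hc := allBelow_spec roots_cases k hk
    simp only [Bool.or_eq_true, Nat.beq_eq] at hc
    rcases hc with hc | hc | hc | hc | hc
    · have h0 := allBelow_spec root_k0 k hk
      rw [hc] at h0
      simp only [Nat.beq_refl, cond_true, Nat.beq_eq] at h0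
      left; left; left; left
      rw [Set.mem_singleton_iff, eY, h0, qobj_k0, ← hQ0, inv_smul_smul]
    · left; left; left; right
      rw [eY]; exact hmem _ (by norm_num) r1 k hk hc
    · left; left; right
      rw [eY]; exact hmem _ (by norm_num) r2 k hk hc
    · left; right
      rw [eY]; exact hmem _ (by norm_num) r3 k hk hc
    · right
      rw [eY]; exact hmem _ (by norm_num) r4 k hk hc
  · intro Y hY
    rcases hY with (((hY | hY) | hY) | hY) | hY
    · rw [Set.mem_singleton_iff] at hY
      rw [hY]; exact hQ
    · exact hsub _ (by norm_num) r1 hY
    · exact hsub _ (by norm_num) r2 hY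
    · exact hsub _ (by norm_num) r3 hY
    · exact hsub _ (by norm_num) r4 hY

end Cfsg.Agent.S1599
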