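import Cfsg.Statements.S1600
import Cfsg.Agent.Lib.helper34.GolayM12

set_option autoImplicit false
open scoped Pointwise
open Cfsg

namespace Cfsg.Agent.S1600

open Cfsg.Agent.Lib.helper34


/-- The pointwise stabiliser of three points of a dodecad inside the dodecad stabiliser (order 72) is transitive on the complementary dodecad. -/
theorem result (d : Finset Cfsg.GolayPt) (hd : d ∈ Cfsg.dodecads) (p q r : Cfsg.GolayPt) (hp : p ∈ d) (hq : q ∈ d) (hr : r ∈ d) (hpq : p ≠ q) (hpr : p ≠ r) (hqr : q ≠ r) : Nat.card ↥(MulAction.stabilizer Cfsg.M24 d ⊓ MulAction.stabilizer Cfsg.M24 p ⊓ MulAction.stabilizer Cfsg.M24 q ⊓ MulAction.stabilizer Cfsg.M24 r) = 72 ∧ ∀ x ∉ d, ∀ y ∉ d, ∃ g ∈ (MulAction.stabilizer Cfsg.M24 d ⊓ MulAction.stabilizer Cfsg.M24 p ⊓ MulAction.stabilizer Cfsg.M24 q ⊓ MulAction.stabilizer Cfsg.M24 r), ((g : ↥Cfsg.M24) : Equiv.Perm Cfsg.GolayPt) x = y := by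
  obtain ⟨h, hh, hd0, e0, e1, e2⟩ := flag_dodecad_in3 hd hp hq hr hpq hpr hqr
  have hK : ∀ g : ↥M24, g ∈ (MulAction.stabilizer Cfsg.M24 d ⊓ MulAction.stabilizer Cfsg.M24 p ⊓
      MulAction.stabilizer Cfsg.M24 q ⊓ MulAction.stabilizer Cfsg.M24 r) ↔
      h * (g : Equiv.Perm GolayPt) * h⁻¹ ∈ stabMasks [2 ^ 2, 2 ^ 1, 2 ^ 0, dodecad0] := by
    intro g
    rw [mem_stabMasks_point (by norm_num), mem_stabMasks_point (by norm_num),
      mem_stabMasks_point (by norm_num), mem_stabMasks_single, conj_apply_iff h _ e0,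
      conj_apply_iff h _ e1, conj_apply_iff h _ e2, conj_smul_iff h _ hd0]
    simp only [Subgroup.mem_inf, mem_stabilizer_M24_iff]
    have := conj_mem_M24 hh g
    tauto
  refine ⟨?_, ?_⟩
  · rw [card_of_conj _ _ (stabMasks_le _) h hh hK]
    exact card_stabM12_3
  · intro x hx y hy
    have hx' : h x ∉ unmask dodecad0 := by
      rw [← hd0]; exact fun hm => hx (Finset.smul_mem_smul_finset_iff h |>.mp hm)
    have hy' : h y ∉ unmask dodecad0 := by
      rw [← hd0]; exact fun hm => hy (Finset.smul_mem_smul_finset_iff h |>.mp hm)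
    obtain ⟨k, hk, e⟩ := m12_3_trans_out hx' hy'
    have hkM : h⁻¹ * k * h ∈ M24 := M24.mul_mem (M24.mul_mem (M24.inv_mem hh) hk.1) hh
    refine ⟨⟨h⁻¹ * k * h, hkM⟩, ?_, ?_⟩
    · rw [hK]
      have ee : h * (h⁻¹ * k * h) * h⁻¹ = k := by group
      show h * (h⁻¹ * k * h) * h⁻¹ ∈ _
      rw [ee]
      exact hk
    · show (h⁻¹ * k * h) x = y
      rw [Equiv.Perm.mul_apply, Equiv.Perm.mul_apply, e, perm_inv_apply]

end Cfsg.Agent.S1600
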