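import Cfsg.Statements.S1609
import Cfsg.Agent.Lib.helper33.M23Sub

set_option autoImplicit false
open scoped Pointwise
open Cfsg

namespace Cfsg.Agent.S1609

open Cfsg.Agent.Lib.helper33 in
/-- Subgroups of index 253 in the Mathieu group of degree 23 are exactly the duad stabilisers and the heptad stabilisers. -/
theorem result (x : Cfsg.GolayPt) (H : Subgroup ↥(MulAction.stabilizer Cfsg.M24 x)) (hH : H.index = 253) : (∃ s : Finset Cfsg.GolayPt, s.card = 2 ∧ x ∉ s ∧ H = (MulAction.stabilizer Cfsg.M24 s).subgroupOf (MulAction.stabilizer Cfsg.M24 x)) ∨ ∃ o ∈ Cfsg.octads, x ∈ o ∧ H = (MulAction.stabilizer Cfsg.M24 o).subgroupOf (MulAction.stabilizer Cfsg.M24 x) := by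
  classical
  have hcS : Nat.card (MulAction.stabilizer Cfsg.M24 x) = 10200960 :=
    Cfsg.Agent.Lib.helper9.card_stab_point x
  have hcH : Nat.card H = 40320 := by
    have h := H.card_mul_index
    rw [hH, hcS] at h
    omega
  set K : Subgroup (Equiv.Perm GolayPt) :=
    (H.map (MulAction.stabilizer Cfsg.M24 x).subtype).map Cfsg.M24.subtype with hKdef
  have hmemK : ∀ (h : ↥(MulAction.stabilizer Cfsg.M24 x)),
      ((h : ↥Cfsg.M24) : Equiv.Perm GolayPt) ∈ K ↔ h ∈ H := by
    intro h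
    constructor
    · intro hh
      obtain ⟨m, hm, hme⟩ := Subgroup.mem_map.1 hh
      obtain ⟨h', hh', hme'⟩ := Subgroup.mem_map.1 hm
      have h1 : m = (h : ↥Cfsg.M24) := Subtype.ext hme
      have h2 : h' = h := Subtype.ext (hme'.trans h1)
      rw [← h2]; exact hh'
    · intro hh
      exact Subgroup.mem_map.2 ⟨(h : ↥Cfsg.M24), Subgroup.mem_map.2 ⟨h, hh, rfl⟩, rfl⟩
  have hK : K ≤ Cfsg.M24 := by
    intro g hg
    obtain ⟨m, _, hme⟩ := Subgroup.mem_map.1 hg
    rw [← hme]; exact m.2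
  have hKx : ∀ g ∈ K, g x = x := by
    intro g hg
    obtain ⟨m, hm, hme⟩ := Subgroup.mem_map.1 hg
    obtain ⟨h', _, hme'⟩ := Subgroup.mem_map.1 hm
    rw [← hme, ← hme']
    exact MulAction.mem_stabilizer_iff.1 h'.2
  have hcK : Nat.card K = 40320 := by
    rw [hKdef, Subgroup.card_map_of_injective (Subgroup.subtype_injective _),
      Subgroup.card_map_of_injective (Subgroup.subtype_injective _), hcH]
  rcases index253_stab x K hK hKx hcK with ⟨s, hs2, hxs, hiff⟩ | ⟨o, ho, hxo, hiff⟩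
  · left
    refine ⟨s, hs2, hxs, ?_⟩
    ext h
    rw [← hmemK h, hiff, Subgroup.mem_subgroupOf, MulAction.mem_stabilizer_iff]
    constructor
    · rintro ⟨_, _, h3⟩
      exact h3
    · intro h3
      exact ⟨(h : ↥Cfsg.M24).2, MulAction.mem_stabilizer_iff.1 h.2, h3⟩
  · right
    refine ⟨o, ho, hxo, ?_⟩
    ext h
    rw [← hmemK h, hiff, Subgroup.mem_subgroupOf, MulAction.mem_stabilizer_iff]
    constructor
    · rintro ⟨_, _, h3⟩
      exact h3
    · intro h3
      exact ⟨(h : ↥Cfsg.M24).2, MulAction.mem_stabilizer_iff.1 h.2, h3⟩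

end Cfsg.Agent.S1609
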