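import Cfsg.Statements.S1610
import Cfsg.Agent.Lib.helper34.Hexacode

set_option autoImplicit false
open Cfsg

namespace Cfsg.Agent.S1610

open Cfsg.Agent.Lib.helper34

theorem hex_wts : allBelow (fun w => bif isHex w then (bif Nat.beq w 0 then true
    else or (Nat.beq (wt4 w) 4) (Nat.beq (wt4 w) 6)) else true) 4096 = true := by decide +kernel

theorem hex_count : countBelow isHex 4096 = 64 := by decide +kernel

theorem hex_count4 : countBelow (fun w => and (isHex w) (Nat.beq (wt4 w) 4)) 4096 = 45 := by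
  decide +kernel

theorem hex_count6 : countBelow (fun w => and (isHex w) (Nat.beq (wt4 w) 6)) 4096 = 18 := by
  decide +kernel


/-- The hexacode has 64 words, minimum weight 4, and weight distribution 0^1 4^45 6^18. -/
theorem result (F : Type*) [Field F] [Fintype F] [DecidableEq F] (hF : Fintype.card F = 4) (ω : F) (hω : ω ^ 2 + ω + 1 = 0) : Nat.card ↥(Cfsg.hexacode F ω) = 64 ∧ (∀ x ∈ Cfsg.hexacode F ω, x ≠ 0 → (Finset.univ.filter fun i => x i ≠ 0).card = 4 ∨ (Finset.univ.filter fun i => x i ≠ 0).card = 6) ∧ {x : Fin 6 → F | x ∈ Cfsg.hexacode F ω ∧ (Finset.univ.filter fun i => x i ≠ 0).card = 4}.ncard = 45 ∧ {x : Fin 6 → F | x ∈ Cfsg.hexacode F ω ∧ (Finset.univ.filter fun i => x i ≠ 0).card = 6}.ncard = 18 := by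
  refine ⟨?_, ?_, ?_, ?_⟩
  · have h1 := ncard_packed hF hω (hexacode F ω : Set (Fin 6 → F)) isHex
      (fun x => mem_hexacode_iff hF hω x)
    rw [hex_count] at h1
    rw [← h1]
    exact Nat.card_coe_set_eq _
  · intro x hx hx0
    have h1 := allBelow_spec hex_wts _ (pack_lt (ω := ω) x)
    rw [(mem_hexacode_iff hF hω x).mp hx, cond_true] at h1
    have hne : Nat.beq (pack ω x) 0 = false := by
      cases h : Nat.beq (pack ω x) 0
      · rfl
      · exact absurd ((pack_eq_zero_iff hF hω x).mp (Nat.eq_of_beq_eq_true h)) hx0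
    rw [hne, cond_false, Bool.or_eq_true] at h1
    rw [card_support (ω := ω)]
    rcases h1 with h1 | h1
    · left; exact Nat.eq_of_beq_eq_true h1
    · right; exact Nat.eq_of_beq_eq_true h1
  · rw [ncard_packed hF hω _ (fun w => and (isHex w) (Nat.beq (wt4 w) 4))]
    · exact hex_count4
    · intro x
      rw [Set.mem_ofPred_eq, mem_hexacode_iff hF hω, card_support (ω := ω), Bool.and_eq_true,
        Nat.beq_eq]
  · rw [ncard_packed hF hω _ (fun w => and (isHex w) (Nat.beq (wt4 w) 6))]
    · exact hex_count6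
    · intro x
      rw [Set.mem_ofPred_eq, mem_hexacode_iff hF hω, card_support (ω := ω), Bool.and_eq_true,
        Nat.beq_eq]

end Cfsg.Agent.S1610
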