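import Cfsg.Statements.S1612
import Cfsg.Agent.Lib.helper91.TTSylow

set_option autoImplicit false
open Cfsg

namespace Cfsg.Agent.S1612

open Cfsg.Agent.Lib.helper91 Subgroup


/-- In a 3-transposition group (no solvable normal subgroup, perfect derived group), the normaliser of a commuting set of transpositions of maximum size contains a Sylow 2-subgroup and is doubly transitive on the set. -/
theorem result {G : Type*} [Group G] [Finite G] (hsol : ∀ N : Subgroup G, N.Normal → Group.IsSolvable ↥N → N = ⊥) (hperf : ⁅commutator G, commutator G⁆ = commutator G) {D : Set G} (hD : Cfsg.IsThreeTranspositionClass D) {E : Set G} (hE : E ⊆ D) (hc : ∀ a ∈ E, ∀ b ∈ E, Commute a b) (hmax : ∀ E' : Set G, E' ⊆ D → (∀ a ∈ E', ∀ b ∈ E', Commute a b) → E'.ncard ≤ E.ncard) : (∃ P : Sylow 2 G, (P : Subgroup G) ≤ Subgroup.normalizer E) ∧ ∀ a ∈ E, ∀ b ∈ E, ∀ c ∈ E, ∀ d ∈ E, a ≠ b → c ≠ d → ∃ g ∈ Subgroup.normalizer E, g * a * g⁻¹ = c ∧ g * b * g⁻¹ = d := by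
  obtain ⟨hP, hw⟩ := tt_primitive_of_no_solvable_normal hD hsol hperf
  have hTT := hD.1
  have hconj : ∀ g : G, ∀ x ∈ D, g * x * g⁻¹ ∈ D := fun g x hx => tt_class_conj_mem hD g hx
  have : Fact (Nat.Prime 2) := ⟨Nat.prime_two⟩
  constructor
  · have hA : IsPGroup 2 (closure E) :=
      isPGroup_two_closure_of_commute (fun a ha => tt_sq hTT (hE ha)) hc
    obtain ⟨P, hAP⟩ := hA.exists_le_sylow
    refine ⟨P, ?_⟩
    have heq := tt_max_commuting_eq hTT hE hmax P.isPGroup'
      (fun x hx => hAP (subset_closure hx))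
    intro p hp
    rw [Subgroup.mem_set_normalizer_iff]
    intro n
    rw [heq]
    constructor
    · rintro ⟨hn, hnP⟩
      exact ⟨hconj p n hn, mul_mem (mul_mem hp hnP) (inv_mem hp)⟩
    · rintro ⟨hn, hnP⟩
      have h1 := hconj p⁻¹ _ hn
      have h2 : p⁻¹ * (p * n * p⁻¹) * p⁻¹⁻¹ = n := by group
      rw [h2] at h1
      refine ⟨h1, ?_⟩
      have h3 := mul_mem (mul_mem (inv_mem hp) hnP) hp
      have h4 : p⁻¹ * (p * n * p⁻¹) * p = n := by group
      rwa [h4] at h3
  · intro a ha b hb c hc' d hd hab hcd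
    obtain ⟨g₁, hg₁⟩ := isConj_iff.mp (tt_class_isConj hD (hE ha) (hE hc'))
    have hb₁ : g₁ * b * g₁⁻¹ ∈ D := hconj g₁ b (hE hb)
    have hcb₁ : Commute c (g₁ * b * g₁⁻¹) := by
      rw [← hg₁]
      exact (Commute.conj_iff g₁).mpr (hc a ha b hb)
    have hne₁ : c ≠ g₁ * b * g₁⁻¹ := by
      rw [← hg₁]
      intro h
      exact hab (mul_left_cancel (mul_right_cancel h))
    obtain ⟨g₂, hg₂c, hg₂⟩ := tt_rank3_commute hD hP (hE hc') hb₁ (hE hd) hne₁ hcd hcb₁
      (hc c hc' d hd)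
    obtain ⟨g, hg⟩ : ∃ g : G, g = g₂ * g₁ := ⟨_, rfl⟩
    have hga : g * a * g⁻¹ = c := by
      rw [hg]
      calc g₂ * g₁ * a * (g₂ * g₁)⁻¹ = g₂ * (g₁ * a * g₁⁻¹) * g₂⁻¹ := by group
        _ = c := by rw [hg₁, hg₂c.eq, mul_inv_cancel_right]
    have hgb : g * b * g⁻¹ = d := by
      rw [hg]
      calc g₂ * g₁ * b * (g₂ * g₁)⁻¹ = g₂ * (g₁ * b * g₁⁻¹) * g₂⁻¹ := by group
        _ = d := hg₂
    obtain ⟨E', hE'def⟩ : ∃ E' : Set G, E' = (fun x => g * x * g⁻¹) '' E := ⟨_, rfl⟩
    have hE'D : E' ⊆ D := by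
      rw [hE'def]
      rintro _ ⟨x, hx, rfl⟩
      exact hconj g x (hE hx)
    have hE'c : ∀ x ∈ E', ∀ y ∈ E', Commute x y := by
      rw [hE'def]
      rintro _ ⟨x, hx, rfl⟩ _ ⟨y, hy, rfl⟩
      exact (Commute.conj_iff g).mpr (hc x hx y hy)
    have hcard : E.ncard ≤ E'.ncard := by
      rw [hE'def, Set.ncard_image_of_injective _ (cj_injective g)]
    have hcE' : c ∈ E' := by
      rw [hE'def]
      exact ⟨a, ha, hga⟩
    have hdE' : d ∈ E' := by
      rw [hE'def]
      exact ⟨b, hb, hgb⟩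
    have hEC : E ⊆ (centralizer {c, d} : Subgroup G) := by
      intro x hx
      rw [SetLike.mem_coe, mem_centralizer_iff]
      intro y hy
      rcases hy with h | h
      · rw [h]
        exact (hc c hc' x hx).eq
      · rw [Set.mem_singleton_iff] at h
        rw [h]
        exact (hc d hd x hx).eq
    have hE'C : E' ⊆ (centralizer {c, d} : Subgroup G) := by
      intro x hx
      rw [SetLike.mem_coe, mem_centralizer_iff]
      intro y hy
      rcases hy with h | h
      · rw [h]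
        exact (hE'c c hcE' x hx).eq
      · rw [Set.mem_singleton_iff] at h
        rw [h]
        exact (hE'c d hdE' x hx).eq
    obtain ⟨h, hhC, hh⟩ := tt_max_commuting_conj hTT hconj hE hc hmax hE'D hE'c hcard _ hEC hE'C
    have hcc : c * h = h * c := mem_centralizer_iff.mp hhC c (by simp)
    have hdc : d * h = h * d := mem_centralizer_iff.mp hhC d (by simp)
    refine ⟨h * g, ?_, ?_, ?_⟩
    · rw [Subgroup.mem_set_normalizer_iff]
      intro n
      constructor
      · intro hn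
        rw [← hh]
        refine ⟨g * n * g⁻¹, ?_, by group⟩
        rw [hE'def]
        exact ⟨n, hn, rfl⟩
      · intro hn
        rw [← hh] at hn
        obtain ⟨y, hy, hyn⟩ := hn
        rw [hE'def] at hy
        obtain ⟨x, hx, rfl⟩ := hy
        have h5 : h * g * x * (h * g)⁻¹ = h * g * n * (h * g)⁻¹ := by
          rw [← hyn]
          group
        have h6 : x = n := mul_left_cancel (mul_right_cancel h5)
        rw [← h6]
        exact hx
    · calc h * g * a * (h * g)⁻¹ = h * (g * a * g⁻¹) * h⁻¹ := by group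
        _ = h * c * h⁻¹ := by rw [hga]
        _ = c := by rw [← hcc, mul_inv_cancel_right]
    · calc h * g * b * (h * g)⁻¹ = h * (g * b * g⁻¹) * h⁻¹ := by group
        _ = h * d * h⁻¹ := by rw [hgb]
        _ = d := by rw [← hdc, mul_inv_cancel_right]

end Cfsg.Agent.S1612
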