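import Cfsg.Statements.S1625
import Cfsg.Agent.S0478
import Cfsg.Agent.Lib.helper10.J3MChk

set_option autoImplicit false
open scoped MatrixGroups
open Cfsg

namespace Cfsg.Agent.S1625

open scoped Matrix
open Cfsg.Agent.Lib.helper10

/-- The triple cover inside the unitary group. -/
abbrev Gam : Subgroup S0478.GU := S0478.D.map (MonoidHom.fst S0478.GU S0478.PP)

/-- The matrices of the triple cover. -/
abbrev S1 : Submonoid (Matrix (Fin 9) (Fin 9) F4) := Gam.toSubmonoid.map S0478.mat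

theorem gA_mem : S0478.gA ∈ Gam := ⟨S0478.gx, S0478.gx_in, rfl⟩

theorem gB_mem : S0478.gB ∈ Gam := ⟨S0478.gy, S0478.gy_in, rfl⟩

theorem gO_mem : S0478.gO ∈ Gam := ⟨S0478.gz, S0478.gz_in, rfl⟩

theorem powA16 : Mc u9Ac ^ 16 = Mc u9A16c := by
  have e2 : Mc u9Ac ^ 2 = Mc u9A2c := by rw [pow_two, u9_A2]
  have e4 : Mc u9Ac ^ 4 = Mc u9A4c := by rw [show 4 = 2 + 2 from rfl, pow_add, e2, u9_A4]
  have e8 : Mc u9Ac ^ 8 = Mc u9A8c := by rw [show 8 = 4 + 4 from rfl, pow_add, e4, u9_A8]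
  rw [show 16 = 8 + 8 from rfl, pow_add, e8, u9_A16]

theorem powB18 : Mc u9Bc ^ 18 = Mc u9B18c := by
  have e2 : Mc u9Bc ^ 2 = Mc u9B2c := by rw [pow_two, u9_B2]
  have e4 : Mc u9Bc ^ 4 = Mc u9B4c := by rw [show 4 = 2 + 2 from rfl, pow_add, e2, u9_B4]
  have e8 : Mc u9Bc ^ 8 = Mc u9B8c := by rw [show 8 = 4 + 4 from rfl, pow_add, e4, u9_B8]
  have e16 : Mc u9Bc ^ 16 = Mc u9B16c := by rw [show 16 = 8 + 8 from rfl, pow_add, e8, u9_B16]
  rw [show 18 = 16 + 2 from rfl, pow_add, e16, e2, u9_B18]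

theorem omR (lo hi : ℕ) (h : hi ≤ 58) : ∀ a, lo ≤ a → a < hi → OmC (tsel j3mTabs a) :=
  fun a _ ha => j3m_om a (by omega)

theorem S1_lo : ∀ a, 0 ≤ a → a < 4 → Mc (tsel j3mTabs a) ∈ S1 := by
  intro a _ ha
  interval_cases a
  · exact ⟨S0478.gA, gA_mem, rfl⟩
  · exact ⟨S0478.gA ^ 16, Gam.pow_mem gA_mem 16, by
      rw [map_pow, S0478.mat_gA, powA16]; rfl⟩
  · exact ⟨S0478.gB, gB_mem, rfl⟩
  · exact ⟨S0478.gB ^ 18, Gam.pow_mem gB_mem 18, by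
      rw [map_pow, S0478.mat_gB, powB18]; rfl⟩

theorem S1_l1 : ∀ a, 4 ≤ a → a < 8 → Mc (tsel j3mTabs a) ∈ S1 := by
  intro a h1 h2
  have h := allFrom_sound (f := fun c => wchk j3mTabs 0 4 (j3mWords.getD c []) c) j3m_chk1 a h1
    (by omega)
  exact wchk_sound j3mTabs 0 4 _ a (omR 0 4 (by norm_num)) h S1 S1_lo

theorem S1_l2 : ∀ a, 8 ≤ a → a < 12 → Mc (tsel j3mTabs a) ∈ S1 := by
  intro a h1 h2
  have h := allFrom_sound (f := fun c => wchk j3mTabs 4 8 (j3mWords.getD c []) c) j3m_chk2 a h1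
    (by omega)
  exact wchk_sound j3mTabs 4 8 _ a (omR 4 8 (by norm_num)) h S1 S1_l1

theorem S1_low : ∀ a, 0 ≤ a → a < 13 → Mc (tsel j3mTabs a) ∈ S1 := by
  intro a _ ha
  by_cases h4 : a < 4
  · exact S1_lo a (Nat.zero_le _) h4
  by_cases h8 : a < 8
  · exact S1_l1 a (by omega) h8
  by_cases h12 : a < 12
  · exact S1_l2 a (by omega) h12
  have h : a = 12 := by omega
  subst h
  exact ⟨S0478.gO, gO_mem, rfl⟩

theorem S1_gen : ∀ a, 13 ≤ a → a < 56 → Mc (tsel j3mTabs a) ∈ S1 := by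
  intro a h1 h2
  have h := allFrom_sound (f := fun c => wchk j3mTabs 0 13 (j3mWords.getD c []) c) j3m_chk3 a h1
    (by omega)
  exact wchk_sound j3mTabs 0 13 _ a (omR 0 13 (by norm_num)) h S1 S1_low

/-- The index `3 x + y` of `(x, y)`. -/
def e9 : Cfsg.Spor.F9 ≃ Fin 9 where
  toFun z := ⟨3 * z.1.val + z.2.val, by
    have h1 := ZMod.val_lt z.1
    have h2 := ZMod.val_lt z.2
    omega⟩
  invFun i := ((i.val / 3 : ℕ), (i.val % 3 : ℕ))
  left_inv := by decide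
  right_inv := by decide

/-- Conjugation of the field with four elements. -/
def conj4 : F4 ≃+* F4 where
  toFun x := x ^ 2
  invFun x := x ^ 2
  left_inv := by decide
  right_inv := by decide
  map_mul' := by decide
  map_add' := by decide

/-- The code of a generating matrix. -/
def gcode (fam : ℕ) (Z : Cfsg.Spor.F9) : ℕ :=
  if (e9 Z).val = 0 then 13 + fam else 16 + 5 * ((e9 Z).val - 1) + fam

theorem gcode_rng : ∀ fam, fam < 5 → ∀ Z : Cfsg.Spor.F9, (3 ≤ fam → Z ≠ 0) →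
    13 ≤ gcode fam Z ∧ gcode fam Z < 56 := by decide +kernel

/-- The family of the generating matrix of a code. -/
def gfam (a : ℕ) : ℕ := if a < 16 then a - 13 else (a - 16) % 5

/-- The parameter of the generating matrix of a code. -/
def gZ (a : ℕ) : Cfsg.Spor.F9 :=
  if a < 16 then 0 else ((((a - 16) / 5 + 1) / 3 : ℕ), (((a - 16) / 5 + 1) % 3 : ℕ))

theorem gcode_surj : ∀ a, a < 56 → 13 ≤ a →
    gfam a < 5 ∧ (3 ≤ gfam a → gZ a ≠ 0) ∧ gcode (gfam a) (gZ a) = a := by decide +kernel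

theorem tabA : ∀ Z : Cfsg.Spor.F9,
    allEq (fun i j => Cfsg.Spor.j3A F4 F4.w Z (e9.symm i) (e9.symm j))
      (fun i j => Mc (tsel j3mTabs (gcode 0 Z)) i j) := by decide +kernel

theorem tabE : ∀ Z : Cfsg.Spor.F9,
    allEq (fun i j => Cfsg.Spor.j3E F4 F4.w Z (e9.symm i) (e9.symm j))
      (fun i j => Mc (tsel j3mTabs (gcode 1 Z)) i j) := by decide +kernel

theorem tabD : ∀ Z : Cfsg.Spor.F9,
    allEq (fun i j => Cfsg.Spor.j3D F4 F4.w Z (e9.symm i) (e9.symm j))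
      (fun i j => Mc (tsel j3mTabs (gcode 2 Z)) i j) := by decide +kernel

theorem tabB : ∀ Z : Cfsg.Spor.F9, Z ≠ 0 →
    allEq (fun i j => Cfsg.Spor.j3B F4 Z (e9.symm i) (e9.symm j))
      (fun i j => Mc (tsel j3mTabs (gcode 3 Z)) i j) := by decide +kernel

theorem tabC : ∀ Z : Cfsg.Spor.F9, Z ≠ 0 →
    allEq (fun i j => Cfsg.Spor.j3C F4 Z (e9.symm i) (e9.symm j))
      (fun i j => Mc (tsel j3mTabs (gcode 4 Z)) i j) := by decide +kernel

theorem exists_iso (F : Type) [Field F] [Fintype F] (hF : Fintype.card F = 4) (ω : F)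
    (hω : ω ^ 2 + ω + 1 = 0) : ∃ ψ : F ≃+* F4, ψ ω = F4.w := by
  have ψ0 : F ≃+* F4 := FiniteField.ringEquivOfCardEq (by rw [hF, F4.card_eq])
  have h : (ψ0 ω) ^ 2 + ψ0 ω + 1 = 0 := by
    rw [← map_pow, ← map_add, ← map_one ψ0, ← map_add, hω, map_zero]
  have h2 : ∀ x : F4, x ^ 2 + x + 1 = 0 → x = F4.w ∨ x = F4.v := by decide
  rcases h2 _ h with h1 | h1
  · exact ⟨ψ0, h1⟩
  · refine ⟨ψ0.trans conj4, ?_⟩
    show (ψ0 ω) ^ 2 = F4.w
    rw [h1]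
    rfl

section Transport

variable {F : Type} [Field F] (ψ : F ≃+* F4) (ω : F)

/-- The transport of matrices. -/
def ThM : Matrix Cfsg.Spor.F9 Cfsg.Spor.F9 F ≃+* Matrix (Fin 9) (Fin 9) F4 :=
  (RingEquiv.mapMatrix ψ).trans (Matrix.reindexAlgEquiv F4 F4 e9).toRingEquiv

theorem ThM_apply (M : Matrix Cfsg.Spor.F9 Cfsg.Spor.F9 F) :
    ThM ψ M = Matrix.reindex e9 e9 (M.map ψ) := rfl

/-- The transport of invertible matrices. -/
def Th : GL Cfsg.Spor.F9 F ≃* GL (Fin 9) F4 := Units.mapEquiv (ThM ψ).toMulEquiv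

theorem Th_coe (g : GL Cfsg.Spor.F9 F) :
    ((Th ψ g : GL (Fin 9) F4) : Matrix (Fin 9) (Fin 9) F4)
      = ThM ψ (g : Matrix Cfsg.Spor.F9 Cfsg.Spor.F9 F) := rfl

theorem mapA (hψ : ψ ω = F4.w) (Z : Cfsg.Spor.F9) :
    (Cfsg.Spor.j3A F ω Z).map ψ = Cfsg.Spor.j3A F4 F4.w Z := by
  unfold Cfsg.Spor.j3A
  rw [Matrix.diagonal_map (map_zero ψ)]
  congr 1
  funext z
  simp [Cfsg.Spor.omegaPow, hψ]

theorem mapE (hψ : ψ ω = F4.w) (Z : Cfsg.Spor.F9) :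
    (Cfsg.Spor.j3E F ω Z).map ψ = Cfsg.Spor.j3E F4 F4.w Z := by
  unfold Cfsg.Spor.j3E
  rw [Matrix.diagonal_map (map_zero ψ)]
  congr 1
  funext z
  simp [Cfsg.Spor.omegaPow, hψ]

theorem mapD (hψ : ψ ω = F4.w) (Z : Cfsg.Spor.F9) :
    (Cfsg.Spor.j3D F ω Z).map ψ = Cfsg.Spor.j3D F4 F4.w Z := by
  ext w z
  simp only [Matrix.map_apply, Cfsg.Spor.j3D, Matrix.of_apply, Cfsg.Spor.j3Lam]
  split_ifs <;> simp [hψ]

theorem mapB (Z : Cfsg.Spor.F9) : (Cfsg.Spor.j3B F Z).map ψ = Cfsg.Spor.j3B F4 Z := by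
  ext w z
  simp only [Matrix.map_apply, Cfsg.Spor.j3B, Matrix.of_apply]
  split_ifs <;> simp

theorem mapC (Z : Cfsg.Spor.F9) : (Cfsg.Spor.j3C F Z).map ψ = Cfsg.Spor.j3C F4 Z := by
  ext w z
  simp only [Matrix.map_apply, Cfsg.Spor.j3C, Matrix.of_apply]
  split_ifs <;> simp

theorem reindex_eq (M : Matrix Cfsg.Spor.F9 Cfsg.Spor.F9 F4) (T : ℕ → ℕ)
    (h : allEq (fun i j => M (e9.symm i) (e9.symm j)) (fun i j => Mc T i j)) :
    Matrix.reindex e9 e9 M = Mc T := by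
  ext i j
  exact h i j

/-- The transport of the generating matrix of a code. -/
theorem ThM_gen (hψ : ψ ω = F4.w) (fam : ℕ) (Z : Cfsg.Spor.F9) (hfam : fam < 5)
    (hZ : 3 ≤ fam → Z ≠ 0) :
    ∃ M ∈ Cfsg.Spor.j3Gens F ω, ThM ψ M = Mc (tsel j3mTabs (gcode fam Z)) := by
  interval_cases fam
  · refine ⟨Cfsg.Spor.j3A F ω Z, ?_, ?_⟩
    · exact Or.inl (Or.inl (Or.inl (Or.inl ⟨Z, rfl⟩)))
    · rw [ThM_apply, mapA ψ ω hψ]
      exact reindex_eq _ _ (tabA Z)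
  · refine ⟨Cfsg.Spor.j3E F ω Z, ?_, ?_⟩
    · exact Or.inl (Or.inl (Or.inl (Or.inr ⟨Z, rfl⟩)))
    · rw [ThM_apply, mapE ψ ω hψ]
      exact reindex_eq _ _ (tabE Z)
  · refine ⟨Cfsg.Spor.j3D F ω Z, ?_, ?_⟩
    · exact Or.inl (Or.inl (Or.inr ⟨Z, rfl⟩))
    · rw [ThM_apply, mapD ψ ω hψ]
      exact reindex_eq _ _ (tabD Z)
  · refine ⟨Cfsg.Spor.j3B F Z, ?_, ?_⟩
    · exact Or.inl (Or.inr ⟨Z, hZ (le_refl _), rfl⟩)
    · rw [ThM_apply, mapB ψ]
      exact reindex_eq _ _ (tabB Z (hZ (le_refl _)))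
  · refine ⟨Cfsg.Spor.j3C F Z, ?_, ?_⟩
    · exact Or.inr ⟨Z, hZ (by norm_num), rfl⟩
    · rw [ThM_apply, mapC ψ]
      exact reindex_eq _ _ (tabC Z (hZ (by norm_num)))

theorem gens_tab (hψ : ψ ω = F4.w) : ∀ M ∈ Cfsg.Spor.j3Gens F ω,
    ∃ a, 13 ≤ a ∧ a < 56 ∧ ThM ψ M = Mc (tsel j3mTabs a) := by
  intro M hM
  rcases hM with (((⟨Z, rfl⟩ | ⟨Z, rfl⟩) | ⟨Z, rfl⟩) | ⟨Z, hZ, rfl⟩) | ⟨Z, hZ, rfl⟩
  · refine ⟨gcode 0 Z, (gcode_rng 0 (by norm_num) Z (by norm_num)).1,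
      (gcode_rng 0 (by norm_num) Z (by norm_num)).2, ?_⟩
    rw [ThM_apply, mapA ψ ω hψ]
    exact reindex_eq _ _ (tabA Z)
  · refine ⟨gcode 1 Z, (gcode_rng 1 (by norm_num) Z (by norm_num)).1,
      (gcode_rng 1 (by norm_num) Z (by norm_num)).2, ?_⟩
    rw [ThM_apply, mapE ψ ω hψ]
    exact reindex_eq _ _ (tabE Z)
  · refine ⟨gcode 2 Z, (gcode_rng 2 (by norm_num) Z (by norm_num)).1,
      (gcode_rng 2 (by norm_num) Z (by norm_num)).2, ?_⟩
    rw [ThM_apply, mapD ψ ω hψ]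
    exact reindex_eq _ _ (tabD Z)
  · refine ⟨gcode 3 Z, (gcode_rng 3 (by norm_num) Z (fun _ => hZ)).1,
      (gcode_rng 3 (by norm_num) Z (fun _ => hZ)).2, ?_⟩
    rw [ThM_apply, mapB ψ]
    exact reindex_eq _ _ (tabB Z hZ)
  · refine ⟨gcode 4 Z, (gcode_rng 4 (by norm_num) Z (fun _ => hZ)).1,
      (gcode_rng 4 (by norm_num) Z (fun _ => hZ)).2, ?_⟩
    rw [ThM_apply, mapC ψ]
    exact reindex_eq _ _ (tabC Z hZ)

theorem tab_gens (hψ : ψ ω = F4.w) : ∀ a, 13 ≤ a → a < 56 →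
    ∃ M ∈ Cfsg.Spor.j3Gens F ω, ThM ψ M = Mc (tsel j3mTabs a) := by
  intro a h1 h2
  obtain ⟨h3, h4, h5⟩ := gcode_surj a h2 h1
  have := ThM_gen ψ ω hψ (gfam a) (gZ a) h3 h4
  rw [h5] at this
  exact this

/-- The matrices of the transported group. -/
abbrev mu2 : GL Cfsg.Spor.F9 F →* Matrix (Fin 9) (Fin 9) F4 :=
  (ThM ψ).toMonoidHom.comp (Units.coeHom _)

/-- The matrices of the transported group. -/
abbrev S2 : Submonoid (Matrix (Fin 9) (Fin 9) F4) :=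
  (Cfsg.Spor.threeJ3 F ω).toSubmonoid.map (mu2 ψ)

theorem isUnit_mat (γ : S0478.GU) : IsUnit (S0478.mat γ) := by
  rw [Matrix.isUnit_iff_isUnit_det]
  have hdet : (S0478.mat γ).det = 1 := (γ : S0478.G0).2
  rw [hdet]
  exact isUnit_one

theorem S2_gen (hψ : ψ ω = F4.w) : ∀ a, 13 ≤ a → a < 56 → Mc (tsel j3mTabs a) ∈ S2 ψ ω := by
  intro a h1 h2
  obtain ⟨M, hM, hΘ⟩ := tab_gens ψ ω hψ a h1 h2
  obtain ⟨γ, _, hγm⟩ := S1_gen a h1 h2
  have hu : IsUnit (Mc (tsel j3mTabs a)) := by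
    rw [← hγm]
    exact isUnit_mat γ
  have hu2 : IsUnit M := by
    have := hu.map (ThM ψ).symm
    rw [← hΘ, RingEquiv.symm_apply_apply] at this
    exact this
  obtain ⟨g, hg⟩ := hu2
  refine ⟨g, Subgroup.subset_closure ?_, ?_⟩
  · show (g : Matrix Cfsg.Spor.F9 Cfsg.Spor.F9 F) ∈ Cfsg.Spor.j3Gens F ω
    rw [hg]
    exact hM
  · show ThM ψ (g : Matrix Cfsg.Spor.F9 Cfsg.Spor.F9 F) = _
    rw [hg, hΘ]

theorem S2_56 (hψ : ψ ω = F4.w) : Mc (tsel j3mTabs 56) ∈ S2 ψ ω :=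
  wchk_sound j3mTabs 13 56 _ 56 (omR 13 56 (by norm_num)) j3m_chkw56 _ (S2_gen ψ ω hψ)

theorem S2_57 (hψ : ψ ω = F4.w) : Mc (tsel j3mTabs 57) ∈ S2 ψ ω :=
  wchk_sound j3mTabs 13 56 _ 57 (omR 13 56 (by norm_num)) j3m_chkw57 _ (S2_gen ψ ω hψ)

theorem S2_12 (hψ : ψ ω = F4.w) : Mc (tsel j3mTabs 12) ∈ S2 ψ ω :=
  wchk_sound j3mTabs 13 56 _ 12 (omR 13 56 (by norm_num)) j3m_chkw12 _ (S2_gen ψ ω hψ)

theorem S2_0 (hψ : ψ ω = F4.w) : Mc (tsel j3mTabs 0) ∈ S2 ψ ω :=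
  wchk_sound j3mTabs 56 57 _ 0 (omR 56 57 (by norm_num)) j3m_chkw0 _ (fun a h1 h2 => by
    have h : a = 56 := by omega
    subst h
    exact S2_56 ψ ω hψ)

theorem S2_2 (hψ : ψ ω = F4.w) : Mc (tsel j3mTabs 2) ∈ S2 ψ ω :=
  wchk_sound j3mTabs 57 58 _ 2 (omR 57 58 (by norm_num)) j3m_chkw2 _ (fun a h1 h2 => by
    have h : a = 57 := by omega
    subst h
    exact S2_57 ψ ω hψ)

/-- The embedding of the unitary group in the general linear group. -/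
def iota1 : S0478.GU →* GL (Fin 9) F4 :=
  Matrix.SpecialLinearGroup.toGL.comp (Subgroup.subtype (Cfsg.SU 9 F4 2))

theorem iota1_coe (γ : S0478.GU) :
    ((iota1 γ : GL (Fin 9) F4) : Matrix (Fin 9) (Fin 9) F4) = S0478.mat γ := rfl

theorem iota1_inj : Function.Injective iota1 := by
  intro γ γ' h
  apply S0478.mat_inj
  rw [← iota1_coe, h, iota1_coe]

theorem map_eq (hψ : ψ ω = F4.w) :
    (Cfsg.Spor.threeJ3 F ω).map (Th ψ).toMonoidHom = Gam.map iota1 := by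
  apply le_antisymm
  · rw [Subgroup.map_le_iff_le_comap, Cfsg.Spor.threeJ3, Subgroup.closure_le]
    intro g hg
    obtain ⟨a, h1, h2, hΘ⟩ := gens_tab ψ ω hψ _ hg
    obtain ⟨γ, hγ, hγm⟩ := S1_gen a h1 h2
    refine ⟨γ, hγ, Units.ext ?_⟩
    rw [iota1_coe, hγm, ← hΘ]
    rfl
  · rw [Subgroup.map_le_iff_le_comap, Subgroup.map_le_iff_le_comap, S0478.D, Subgroup.closure_le]
    rintro s (rfl | rfl | rfl)
    · obtain ⟨g, hg, hgm⟩ := S2_0 ψ ω hψ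
      exact ⟨g, hg, Units.ext hgm⟩
    · obtain ⟨g, hg, hgm⟩ := S2_2 ψ ω hψ
      exact ⟨g, hg, Units.ext hgm⟩
    · obtain ⟨g, hg, hgm⟩ := S2_12 ψ ω hψ
      exact ⟨g, hg, Units.ext hgm⟩

/-- The isomorphism of the group of the definition with the triple cover in the unitary
group. -/
noncomputable def isoGam (hψ : ψ ω = F4.w) : ↥(Cfsg.Spor.threeJ3 F ω) ≃* ↥Gam :=
  ((Th ψ).subgroupMap (Cfsg.Spor.threeJ3 F ω)).trans
    ((MulEquiv.subgroupCongr (map_eq ψ ω hψ)).trans (Gam.equivMapOfInjective iota1 iota1_inj).symm)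

end Transport

/-- An isomorphism of groups induces an isomorphism of the quotients by the centres. -/
theorem quot_center_congr {G H : Type*} [Group G] [Group H] (e : G ≃* H) :
    Nonempty (G ⧸ Subgroup.center G ≃* H ⧸ Subgroup.center H) := by
  refine ⟨QuotientGroup.congr _ _ e ?_⟩
  ext x
  constructor
  · rintro ⟨y, hy, rfl⟩
    have hy' : y ∈ Subgroup.center G := hy
    rw [Subgroup.mem_center_iff] at hy' ⊢
    intro g
    have := congrArg e (hy' (e.symm g))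
    simpa using this
  · intro h
    rw [Subgroup.mem_center_iff] at h
    have h2 : e.symm x ∈ Subgroup.center G := by
      rw [Subgroup.mem_center_iff]
      intro g
      have := congrArg e.symm (h (e g))
      simpa using this
    exact ⟨e.symm x, h2, by simp⟩

/-- The matrix group over the field with 4 elements generated by the 9×9 matrices of the definitions (ω a root of ω² + ω + 1) has order 150698880 and centre of order 3; its central quotient is simple of order 50232960 = 2^7·3^5·5·17·19. -/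
theorem result (F : Type) [Field F] [Fintype F] (hF : Fintype.card F = 4) (ω : F) (hω : ω ^ 2 + ω + 1 = 0) : Nat.card ↥(Subgroup.center ↥(Cfsg.Spor.threeJ3 F ω)) = 3 ∧ Nat.card ↥(Cfsg.Spor.threeJ3 F ω) = 150698880 ∧ Nat.card (Cfsg.Spor.J3 F ω) = 50232960 ∧ IsSimpleGroup (Cfsg.Spor.J3 F ω) := by
  obtain ⟨ψ, hψ⟩ := exists_iso F hF ω hω
  have Φ := isoGam ψ ω hψ
  obtain ⟨⟨iso⟩, hcen⟩ := center_quot_of_graph S0478.D S0478.fst_one S0478.central_of_mem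
    S0478.center_snd
  have hc3 : Nat.card (Subgroup.center Gam) = 3 := by
    rw [card_center_of_graph S0478.D (Subgroup.zpowers S0478.gO) S0478.mem_iff_zpowers hcen,
      Nat.card_zpowers]
    exact S0478.order_gO
  have hcT : Nat.card (Subgroup.center (Cfsg.Spor.threeJ3 F ω)) = 3 := by
    rw [Nat.card_congr (Subgroup.centerCongr Φ).toEquiv]
    exact hc3
  obtain ⟨Q0⟩ := quot_center_congr Φ
  have Q : Cfsg.Spor.J3 F ω ≃* j3L0.S.H :=
    Q0.trans (iso.trans (MulEquiv.subgroupCongr S0478.map_snd_D))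
  have hJ : Nat.card (Cfsg.Spor.J3 F ω) = 50232960 := by
    rw [Nat.card_congr Q.toEquiv]
    exact j3_cert.2.1
  refine ⟨hcT, ?_, hJ, ?_⟩
  · rw [Subgroup.card_eq_card_quotient_mul_card_subgroup
      (Subgroup.center (Cfsg.Spor.threeJ3 F ω)), hJ, hcT]
  · have := j3_cert.1
    exact Q.isSimpleGroup

end Cfsg.Agent.S1625
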