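import Cfsg.Statements.S1626
import Cfsg.Agent.S1625
import Cfsg.Agent.Lib.helper10.J3OCert

set_option autoImplicit false
open scoped MatrixGroups
open Matrix
open Cfsg

namespace Cfsg.Agent.S1626

open Cfsg.Agent.Lib.helper10

theorem two18 : (2 : ℕ) ^ 18 = 262144 := by norm_num

/-- The letters of the trees. -/
abbrev lm (l : ℕ) : Matrix (Fin 9) (Fin 9) F4 := Mc (tsel j3mTabs l)

theorem hli : ∀ l, l < 4 → lm (linv l) ∈ S1625.S1 :=
  fun l hl => S1625.S1_lo _ (Nat.zero_le _) (linv_lt (by norm_num) hl)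

theorem hinv : ∀ l, l < 4 → lm (linv l) * lm l = 1 := by
  intro l hl
  interval_cases l
  · exact u9_A17
  · exact mul_eq_one_comm.mp u9_A17
  · exact u9_B19
  · exact mul_eq_one_comm.mp u9_B19

theorem hft : ∀ l, l < 4 → ∀ x, x < 2 ^ 18 → dec (fmv (j3oFt l) x) = lm l *ᵥ dec x := by
  intro l hl x hx
  interval_cases l
  · exact dec_fmv j3oFA (tsel j3mTabs 0) (j3m_om 0 (by norm_num)) j3o_ct0 x hx
  · exact dec_fmv j3oFAi (tsel j3mTabs 1) (j3m_om 1 (by norm_num)) j3o_ct1 x hx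
  · exact dec_fmv j3oFB (tsel j3mTabs 2) (j3m_om 2 (by norm_num)) j3o_ct2 x hx
  · exact dec_fmv j3oFBi (tsel j3mTabs 3) (j3m_om 3 (by norm_num)) j3o_ct3 x hx

theorem hfo (x : ℕ) (hx : x < 2 ^ 18) : dec (fmv j3oFO x) = F4.w • dec x := by
  rw [dec_fmv j3oFO (tsel j3mTabs 12) (j3m_om 12 (by norm_num)) j3o_ct12 x hx]
  show Mc u9Oc *ᵥ dec x = _
  rw [u9_O, Matrix.smul_mulVec, Matrix.one_mulVec]

theorem chk_all (x : ℕ) (hx : x < 2 ^ 18) :
    (x ≠ 0 → eOrb (j3oEnt x) ≠ 0) ∧ tpart j3oEnt j3oFt j3oRoot (j3oEnt x) x = true ∧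
      cpart j3oEnt j3oFA j3oFB j3oFO (j3oEnt x) x = true :=
  ochk_spec j3oEnt j3oFt j3oRoot j3oFA j3oFB j3oFO x (j3o_chk x (by rw [← two18]; exact hx))

theorem tree (x : ℕ) (hx : x < 2 ^ 18) (ho : eOrb (j3oEnt x) ≠ 0) :
    ∃ M ∈ S1625.S1, dec x = M *ᵥ dec (j3oRoot (eOrb (j3oEnt x))) :=
  tree_sound j3oEnt j3oFt j3oRoot S1625.S1 lm (fun l => lm (linv l)) hli hinv hft
    (fun x hx => (chk_all x hx).2.1) x hx ho

/-- The norm of a vector. -/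
def nrm (u : Fin 9 → F4) : F4 := ∑ i, (u i) ^ 3

theorem nrm_eq (u : Fin 9 → F4) : nrm u = Cfsg.hermForm 9 F4 2 u u := by
  unfold nrm Cfsg.hermForm
  apply Finset.sum_congr rfl
  intro i _
  ring

theorem nrm_S1 (M : Matrix (Fin 9) (Fin 9) F4) (hM : M ∈ S1625.S1) (u : Fin 9 → F4) :
    nrm (M *ᵥ u) = nrm u := by
  obtain ⟨γ, _, rfl⟩ := hM
  rw [nrm_eq, nrm_eq]
  exact γ.2 u u

theorem nrm_1 : nrm (dec 1) ≠ 0 := by decide +kernel

theorem nrm_2 : nrm (dec 4161) ≠ 0 := by decide +kernel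

/-- Every nonzero vector of norm zero is the image of one vector under the group. -/
theorem iso_orbit (u : Fin 9 → F4) (hu : u ≠ 0) (hn : nrm u = 0) :
    ∃ M ∈ S1625.S1, u = M *ᵥ dec 4160 := by
  obtain ⟨x, hx, rfl⟩ := dec_surj u
  have hx0 : x ≠ 0 := by
    rintro rfl
    exact hu dec_zero
  have ho := (chk_all x hx).1 hx0
  obtain ⟨M, hM, hMe⟩ := tree x hx ho
  have ho3 : eOrb (j3oEnt x) ≤ 3 := Nat.and_le_right
  have hcases : eOrb (j3oEnt x) = 1 ∨ eOrb (j3oEnt x) = 2 ∨ eOrb (j3oEnt x) = 3 := by omega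
  rcases hcases with h | h | h
  · exfalso
    rw [h] at hMe
    rw [hMe, nrm_S1 M hM] at hn
    exact nrm_1 hn
  · exfalso
    rw [h] at hMe
    rw [hMe, nrm_S1 M hM] at hn
    exact nrm_2 hn
  · rw [h] at hMe
    exact ⟨M, hM, hMe⟩

theorem iso_trans (u u' : Fin 9 → F4) (hu : u ≠ 0) (hu' : u' ≠ 0) (hn : nrm u = 0)
    (hn' : nrm u' = 0) : ∃ M ∈ S1625.S1, M *ᵥ u = u' := by
  obtain ⟨M1, ⟨γ1, hγ1, rfl⟩, h1⟩ := iso_orbit u hu hn
  obtain ⟨M2, ⟨γ2, hγ2, rfl⟩, h2⟩ := iso_orbit u' hu' hn'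
  refine ⟨S0478.mat (γ2 * γ1⁻¹), ⟨γ2 * γ1⁻¹, S1625.Gam.mul_mem hγ2 (S1625.Gam.inv_mem hγ1), rfl⟩, ?_⟩
  rw [h1, h2, Matrix.mulVec_mulVec, ← map_mul, inv_mul_cancel_right]

theorem cpart_spec (x : ℕ) (hx : x < 2 ^ 18) (ho : eOrb (j3oEnt x) = 1) :
    eOrb (j3oEnt (fmv j3oFA x)) = 1 ∧ eOrb (j3oEnt (fmv j3oFB x)) = 1 ∧
      eOrb (j3oEnt (fmv j3oFO x)) = 1 ∧
      (eRep (j3oEnt x) = true → isRep (j3oEnt (fmv j3oFO x)) = false ∧
        isRep (j3oEnt (fmv j3oFO (fmv j3oFO x))) = false) ∧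
      (eRep (j3oEnt x) = false → isRep (j3oEnt (fmv j3oFO x)) = true ∨
        isRep (j3oEnt (fmv j3oFO (fmv j3oFO x))) = true) := by
  have h := (chk_all x hx).2.2
  unfold cpart at h
  rw [ho] at h
  simp only [nforce_eq] at h
  have hb : Nat.beq 1 1 = true := rfl
  rw [hb] at h
  simp only [Bool.not_true, Bool.false_or, Bool.and_eq_true] at h
  obtain ⟨⟨ha, hb'⟩, hc, hd⟩ := h
  refine ⟨Nat.eq_of_beq_eq_true ha, Nat.eq_of_beq_eq_true hb', Nat.eq_of_beq_eq_true hc, ?_, ?_⟩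
  · intro hr
    rw [hr] at hd
    simpa using hd
  · intro hr
    rw [hr] at hd
    simpa using hd

/-- The matrices mapping the vectors of the first orbit to vectors of the first orbit. -/
def Stab : Submonoid (Matrix (Fin 9) (Fin 9) F4) where
  carrier := {M | ∀ y, y < 2 ^ 18 → eOrb (j3oEnt y) = 1 →
    ∃ y', y' < 2 ^ 18 ∧ eOrb (j3oEnt y') = 1 ∧ M *ᵥ dec y = dec y'}
  mul_mem' := by
    intro M1 M2 h1 h2 y hy ho
    obtain ⟨y2, hy2, ho2, e2⟩ := h2 y hy ho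
    obtain ⟨y1, hy1, ho1, e1⟩ := h1 y2 hy2 ho2
    exact ⟨y1, hy1, ho1, by rw [← Matrix.mulVec_mulVec, e2, e1]⟩
  one_mem' := fun y hy ho => ⟨y, hy, ho, Matrix.one_mulVec _⟩

theorem stabA : S0478.mat S0478.gA ∈ Stab := by
  intro y hy ho
  exact ⟨fmv j3oFA y, fmv_lt _ _, (cpart_spec y hy ho).1, (hft 0 (by norm_num) y hy).symm⟩

theorem stabB : S0478.mat S0478.gB ∈ Stab := by
  intro y hy ho
  exact ⟨fmv j3oFB y, fmv_lt _ _, (cpart_spec y hy ho).2.1, (hft 2 (by norm_num) y hy).symm⟩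

theorem stabO : S0478.mat S0478.gO ∈ Stab := by
  intro y hy ho
  refine ⟨fmv j3oFO y, fmv_lt _ _, (cpart_spec y hy ho).2.2.1, ?_⟩
  rw [hfo y hy, S0478.mat_gO, u9_O, Matrix.smul_mulVec, Matrix.one_mulVec]

theorem inv_mem_pow {G : Type*} [Group G] (T : Submonoid G) (s : G) (n : ℕ) (hs : s ∈ T)
    (hp : s ^ (n + 1) = 1) : s⁻¹ ∈ T := by
  have h : s⁻¹ = s ^ n := inv_eq_of_mul_eq_one_left (by rw [← pow_succ]; exact hp)
  rw [h]
  exact T.pow_mem hs n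

theorem D_stab : ∀ d ∈ S0478.D, S0478.mat d.1 ∈ Stab := by
  intro d hd
  let T2 : Submonoid (S0478.GU × S0478.PP) :=
    (Stab.comap S0478.mat).comap (MonoidHom.fst S0478.GU S0478.PP)
  have h1 : d ∈ (Subgroup.closure
      ({S0478.gx, S0478.gy, S0478.gz} : Set (S0478.GU × S0478.PP))).toSubmonoid := hd
  rw [Subgroup.closure_toSubmonoid] at h1
  have hA : S0478.gx ∈ T2 := stabA
  have hB : S0478.gy ∈ T2 := stabB
  have hO : S0478.gz ∈ T2 := stabO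
  refine (Submonoid.closure_le.mpr ?_ : _ ≤ T2) h1
  rintro s (hs | hs)
  · rcases hs with rfl | rfl | rfl
    · exact hA
    · exact hB
    · exact hO
  · have hs' : s⁻¹ ∈ ({S0478.gx, S0478.gy, S0478.gz} : Set (S0478.GU × S0478.PP)) := hs
    rw [← inv_inv s]
    rcases hs' with h | h | h
    · rw [h]
      exact inv_mem_pow T2 S0478.gx 16 hA S0478.gx_pow
    · rw [h]
      exact inv_mem_pow T2 S0478.gy 18 hB S0478.gy_pow
    · rw [h]
      exact inv_mem_pow T2 S0478.gz 2 hO S0478.gz_pow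

theorem S1_stab (M : Matrix (Fin 9) (Fin 9) F4) (hM : M ∈ S1625.S1) : M ∈ Stab := by
  obtain ⟨γ, ⟨d, hd, rfl⟩, rfl⟩ := hM
  exact D_stab d hd

theorem isRep_iff (e : ℕ) : isRep e = true ↔ eOrb e = 1 ∧ eRep e = true := by
  unfold isRep
  rw [Bool.and_eq_true]
  constructor
  · intro h
    exact ⟨Nat.eq_of_beq_eq_true h.1, h.2⟩
  · intro h
    rw [h.1, h.2]
    exact ⟨rfl, rfl⟩

theorem rep_of (y : ℕ) (hy : y < 2 ^ 18) (ho : eOrb (j3oEnt y) = 1) :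
    ∃ x, x < 2 ^ 18 ∧ isRep (j3oEnt x) = true ∧ ∃ c : F4, c ≠ 0 ∧ dec x = c • dec y := by
  obtain ⟨_, _, _, _, h5⟩ := cpart_spec y hy ho
  by_cases hr : eRep (j3oEnt y) = true
  · exact ⟨y, hy, (isRep_iff _).mpr ⟨ho, hr⟩, 1, one_ne_zero, (one_smul _ _).symm⟩
  · have hr' : eRep (j3oEnt y) = false := by simpa using hr
    rcases h5 hr' with h | h
    · exact ⟨fmv j3oFO y, fmv_lt _ _, h, F4.w, by decide, hfo y hy⟩
    · exact ⟨fmv j3oFO (fmv j3oFO y), fmv_lt _ _, h, F4.w * F4.w, by decide, by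
        rw [hfo _ (fmv_lt _ _), hfo y hy, smul_smul]⟩

/-- The codes of the representatives of the lines of the first orbit. -/
def Rset : Finset ℕ := (Finset.range 262144).filter (fun x => isRep (j3oEnt x) = true)

theorem Rset_card : Rset.card = 23256 := j3o_card

theorem mem_Rset (x : ℕ) : x ∈ Rset ↔ x < 2 ^ 18 ∧ isRep (j3oEnt x) = true := by
  unfold Rset
  rw [Finset.mem_filter, Finset.mem_range, two18]

theorem orb_one : eOrb (j3oEnt 1) = 1 := by decide +kernel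

theorem rep_zero : isRep (j3oEnt 0) = false := by decide +kernel

theorem F4.cases4 : ∀ c : F4, c = 0 ∨ c = 1 ∨ c = F4.w ∨ c = F4.w * F4.w := by decide

section Transport

variable {F : Type} [Field F] (ψ : F ≃+* F4) (ω : F)

/-- The transport of vectors. -/
def tauE : (Cfsg.Spor.F9 → F) ≃ (Fin 9 → F4) where
  toFun v := fun i => ψ (v (S1625.e9.symm i))
  invFun u := fun z => ψ.symm (u (S1625.e9 z))
  left_inv v := by
    funext z
    simp
  right_inv u := by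
    funext i
    simp

theorem tau_mulVec (M : Matrix Cfsg.Spor.F9 Cfsg.Spor.F9 F) (v : Cfsg.Spor.F9 → F) :
    tauE ψ (M *ᵥ v) = S1625.ThM ψ M *ᵥ tauE ψ v := by
  funext i
  show ψ (∑ z, M (S1625.e9.symm i) z * v z)
    = ∑ j, ψ (M (S1625.e9.symm i) (S1625.e9.symm j)) * ψ (v (S1625.e9.symm j))
  rw [map_sum, ← Equiv.sum_comp S1625.e9.symm]
  simp only [map_mul]

theorem tau_smul (c : F) (v : Cfsg.Spor.F9 → F) : tauE ψ (c • v) = ψ c • tauE ψ v := by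
  funext i
  show ψ (c * v _) = ψ c * ψ (v _)
  rw [map_mul]

theorem tau_symm_smul (c : F4) (u : Fin 9 → F4) :
    (tauE ψ).symm (c • u) = ψ.symm c • (tauE ψ).symm u := by
  funext z
  show ψ.symm (c * u _) = ψ.symm c * ψ.symm (u _)
  rw [map_mul]

theorem tau_e0 : tauE ψ (Pi.single (0 : Cfsg.Spor.F9) (1 : F)) = dec 1 := by
  funext i
  show ψ ((Pi.single (0 : Cfsg.Spor.F9) (1 : F) : Cfsg.Spor.F9 → F) (S1625.e9.symm i)) = dec 1 i
  rw [Pi.single_apply, apply_ite ψ, map_one, map_zero]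
  revert i
  decide

theorem tau_zero : tauE ψ 0 = 0 := by
  funext i
  exact map_zero ψ

theorem tau_nrm (v : Cfsg.Spor.F9 → F) : nrm (tauE ψ v) = ψ (∑ z, (v z) ^ 3) := by
  unfold nrm
  rw [map_sum, ← Equiv.sum_comp S1625.e9.symm]
  apply Finset.sum_congr rfl
  intro i _
  show (ψ (v _)) ^ 3 = ψ ((v _) ^ 3)
  rw [map_pow]

theorem exists_g (hψ : ψ ω = F4.w) (M : Matrix (Fin 9) (Fin 9) F4) (hM : M ∈ S1625.S1) :
    ∃ g ∈ Cfsg.Spor.threeJ3 F ω,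
      S1625.ThM ψ (g : Matrix Cfsg.Spor.F9 Cfsg.Spor.F9 F) = M := by
  obtain ⟨γ, hγ, rfl⟩ := hM
  have h1 : S1625.iota1 γ ∈ S1625.Gam.map S1625.iota1 := ⟨γ, hγ, rfl⟩
  rw [← S1625.map_eq ψ ω hψ] at h1
  obtain ⟨g, hg, hge⟩ := h1
  refine ⟨g, hg, ?_⟩
  have := congrArg (fun u : GL (Fin 9) F4 => (u : Matrix (Fin 9) (Fin 9) F4)) hge
  exact this

theorem mem_S1 (hψ : ψ ω = F4.w) (g : GL Cfsg.Spor.F9 F) (hg : g ∈ Cfsg.Spor.threeJ3 F ω) :
    S1625.ThM ψ (g : Matrix Cfsg.Spor.F9 Cfsg.Spor.F9 F) ∈ S1625.S1 := by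
  have h1 : S1625.Th ψ g ∈ (Cfsg.Spor.threeJ3 F ω).map (S1625.Th ψ).toMonoidHom := ⟨g, hg, rfl⟩
  rw [S1625.map_eq ψ ω hψ] at h1
  obtain ⟨γ, hγ, hγe⟩ := h1
  refine ⟨γ, hγ, ?_⟩
  have := congrArg (fun u : GL (Fin 9) F4 => (u : Matrix (Fin 9) (Fin 9) F4)) hγe
  exact this

theorem part2 (hψ : ψ ω = F4.w) (v w : Cfsg.Spor.F9 → F) (hv : v ≠ 0) (hw : w ≠ 0)
    (h1 : ∑ z, (v z) ^ 3 = 0) (h2 : ∑ z, (w z) ^ 3 = 0) :
    ∃ g ∈ Cfsg.Spor.threeJ3 F ω, ∃ c : F, c ≠ 0 ∧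
      (g : Matrix Cfsg.Spor.F9 Cfsg.Spor.F9 F) *ᵥ v = c • w := by
  have hu : tauE ψ v ≠ 0 := fun h => hv ((tauE ψ).injective (h.trans (tau_zero ψ).symm))
  have hu' : tauE ψ w ≠ 0 := fun h => hw ((tauE ψ).injective (h.trans (tau_zero ψ).symm))
  have hn : nrm (tauE ψ v) = 0 := by rw [tau_nrm, h1, map_zero]
  have hn' : nrm (tauE ψ w) = 0 := by rw [tau_nrm, h2, map_zero]
  obtain ⟨M, hM, hMe⟩ := iso_trans _ _ hu hu' hn hn'
  obtain ⟨g, hg, hgM⟩ := exists_g ψ ω hψ M hM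
  refine ⟨g, hg, 1, one_ne_zero, ?_⟩
  rw [one_smul]
  apply (tauE ψ).injective
  rw [tau_mulVec, hgM, hMe]

/-- The line of a code. -/
def phi (x : ℕ) : Submodule F (Cfsg.Spor.F9 → F) := Submodule.span F {(tauE ψ).symm (dec x)}

theorem part1 (hψ : ψ ω = F4.w) :
    {L : Submodule F (Cfsg.Spor.F9 → F) | ∃ g ∈ Cfsg.Spor.threeJ3 F ω,
      L = Submodule.span F {(g : Matrix Cfsg.Spor.F9 Cfsg.Spor.F9 F) *ᵥ
        (Pi.single (0 : Cfsg.Spor.F9) (1 : F) : Cfsg.Spor.F9 → F)}}.ncard = 23256 := by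
  have hset : {L : Submodule F (Cfsg.Spor.F9 → F) | ∃ g ∈ Cfsg.Spor.threeJ3 F ω,
      L = Submodule.span F {(g : Matrix Cfsg.Spor.F9 Cfsg.Spor.F9 F) *ᵥ
        (Pi.single (0 : Cfsg.Spor.F9) (1 : F) : Cfsg.Spor.F9 → F)}} = phi ψ '' (Rset : Set ℕ) := by
    ext L
    constructor
    · rintro ⟨g, hg, rfl⟩
      have hM := mem_S1 ψ ω hψ g hg
      obtain ⟨y, hy, ho, hye⟩ := S1_stab _ hM 1 (by norm_num) orb_one
      obtain ⟨x, hx, hrep, c, hc, hxe⟩ := rep_of y hy ho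
      refine ⟨x, (mem_Rset x).mpr ⟨hx, hrep⟩, ?_⟩
      have h1 : (tauE ψ).symm (dec x) = ψ.symm c • ((g : Matrix Cfsg.Spor.F9 Cfsg.Spor.F9 F) *ᵥ
          (Pi.single (0 : Cfsg.Spor.F9) (1 : F) : Cfsg.Spor.F9 → F)) := by
        rw [hxe, tau_symm_smul, ← hye, ← tau_e0 ψ, ← tau_mulVec, Equiv.symm_apply_apply]
      unfold phi
      rw [h1]
      have hc' : ψ.symm c ≠ 0 := by
        intro h0
        apply hc
        have := congrArg ψ h0
        simpa using this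
      exact Submodule.span_singleton_smul_eq (IsUnit.mk0 _ hc') _
    · rintro ⟨x, hx, rfl⟩
      have hx' := (mem_Rset x).mp hx
      have ho : eOrb (j3oEnt x) = 1 := ((isRep_iff _).mp hx'.2).1
      obtain ⟨M, hM, hMe⟩ := tree x hx'.1 (by rw [ho]; norm_num)
      rw [ho] at hMe
      obtain ⟨g, hg, hgM⟩ := exists_g ψ ω hψ M hM
      refine ⟨g, hg, ?_⟩
      unfold phi
      have h1 : (tauE ψ).symm (dec x) = (g : Matrix Cfsg.Spor.F9 Cfsg.Spor.F9 F) *ᵥ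
          (Pi.single (0 : Cfsg.Spor.F9) (1 : F) : Cfsg.Spor.F9 → F) := by
        rw [Equiv.symm_apply_eq, tau_mulVec, hgM, tau_e0]
        exact hMe
      rw [h1]
  have hinj : Set.InjOn (phi ψ) (Rset : Set ℕ) := by
    intro x hx x' hx' he
    have hx1 := (mem_Rset x).mp hx
    have hx2 := (mem_Rset x').mp hx'
    have hmem : (tauE ψ).symm (dec x') ∈ phi ψ x := by
      rw [he]
      exact Submodule.mem_span_singleton_self _
    obtain ⟨c, hc⟩ := Submodule.mem_span_singleton.mp hmem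
    have h2 : ψ c • dec x = dec x' := by
      have := congrArg (tauE ψ) hc
      rw [tau_smul, Equiv.apply_symm_apply, Equiv.apply_symm_apply] at this
      exact this
    have ho := (isRep_iff _).mp hx1.2
    obtain ⟨_, _, _, h4, _⟩ := cpart_spec x hx1.1 ho.1
    obtain ⟨h41, h42⟩ := h4 ho.2
    rcases F4.cases4 (ψ c) with h | h | h | h
    · exfalso
      rw [h, zero_smul] at h2
      have h0 : x' = 0 := dec_inj x' 0 hx2.1 (by norm_num) (by rw [← h2, dec_zero])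
      rw [h0, rep_zero] at hx2
      exact absurd hx2.2 (by decide)
    · rw [h, one_smul] at h2
      exact dec_inj x x' hx1.1 hx2.1 h2
    · exfalso
      rw [h, ← hfo x hx1.1] at h2
      have h0 : fmv j3oFO x = x' := dec_inj _ _ (fmv_lt _ _) hx2.1 h2
      rw [← h0, h41] at hx2
      exact absurd hx2.2 (by decide)
    · exfalso
      rw [h, ← smul_smul, ← hfo x hx1.1, ← hfo _ (fmv_lt _ _)] at h2
      have h0 : fmv j3oFO (fmv j3oFO x) = x' := dec_inj _ _ (fmv_lt _ _) hx2.1 h2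
      rw [← h0, h42] at hx2
      exact absurd hx2.2 (by decide)
  rw [hset, Set.InjOn.ncard_image hinj, Set.ncard_coe_finset, Rset_card]

end Transport

/-- Orbits of the triple cover of the third Janko group on lines of its 9-space over the field with 4 elements: the line through the first basis vector has exactly 23256 images, and the isotropic lines (nonzero v with Σ v_z³ = 0) form a single orbit. -/
theorem result (F : Type) [Field F] [Fintype F] (hF : Fintype.card F = 4) (ω : F) (hω : ω ^ 2 + ω + 1 = 0) : {L : Submodule F (Cfsg.Spor.F9 → F) | ∃ g ∈ Cfsg.Spor.threeJ3 F ω, L = F ∙ ((g : Matrix Cfsg.Spor.F9 Cfsg.Spor.F9 F) *ᵥ (Pi.single (0 : Cfsg.Spor.F9) (1 : F) : Cfsg.Spor.F9 → F))}.ncard = 23256 ∧ ∀ v w : Cfsg.Spor.F9 → F, v ≠ 0 → w ≠ 0 → ∑ z, (v z) ^ 3 = 0 → ∑ z, (w z) ^ 3 = 0 → ∃ g ∈ Cfsg.Spor.threeJ3 F ω, ∃ c : F, c ≠ 0 ∧ (g : Matrix Cfsg.Spor.F9 Cfsg.Spor.F9 F) *ᵥ v = c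 • w := by
  obtain ⟨ψ, hψ⟩ := S1625.exists_iso F hF ω hω
  exact ⟨part1 ψ ω hψ, fun v w hv hw h1 h2 => part2 ψ ω hψ v w hv hw h1 h2⟩

end Cfsg.Agent.S1626
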