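import Cfsg.Statements.S1631
import Cfsg.Agent.Lib.helper99.URank

set_option autoImplicit false
open scoped MatrixGroups
open Cfsg

namespace Cfsg.Agent.S1631

open Cfsg.Agent.Lib.helper99 Cfsg.Agent.Lib.helper17 Matrix

section
variable {F : Type*} [Field F] [Fintype F] (hF : Fintype.card F = 2 ^ 2)
include hF

theorem two_eq_zero : (2 : F) = 0 := by
  obtain ⟨p, k, hp, hchar, hq⟩ := Cfsg.Agent.Lib.helper7.exists_char_pow hF
  have hk : k ≠ 0 := by
    rintro rfl
    simp at hq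
  have hdvd : p ∣ 2 := by
    rw [hq]
    exact dvd_pow_self p hk
  have hp2 : p = 2 := (Nat.prime_dvd_prime_iff_eq hp Nat.prime_two).mp hdvd
  subst hp2
  have := CharP.cast_eq_zero F 2
  exact_mod_cast this

theorem norm_eq_one (r : F) (hr : r ≠ 0) : r * r ^ 2 = 1 := by
  have h := FiniteField.pow_card_sub_one_eq_one r hr
  rw [hF] at h
  have e : r * r ^ 2 = r ^ (2 ^ 2 - 1) := by
    norm_num
    ring
  rw [e, h]

theorem skew_eq_one (c : F) (hc0 : c ≠ 0) (hc : c ^ 2 = -c) : c = 1 := by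
  have h2 := two_eq_zero hF
  have h1 : c * (c - 1) = 0 := by linear_combination hc - c * h2
  rcases mul_eq_zero.mp h1 with h | h
  · exact absurd h hc0
  · linear_combination h

theorem mem_iff (n : ℕ) (g : ↥(SU n F 2)) :
    (suMat g - 1).rank = 1 ↔ ∃ v : Fin n → F, v ≠ 0 ∧ hermForm n F 2 v v = 0 ∧
      suMat g = unitaryTransvection n 2 v 1 := by
  constructor
  · intro h
    obtain ⟨v, c, hv, hvv, hc0, hc, hg⟩ := exists_transv_of_rank hF n g h
    exact ⟨v, hv, hvv, by rw [hg, skew_eq_one hF c hc0 hc]⟩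
  · rintro ⟨v, hv, hvv, hg⟩
    rw [hg]
    exact transv_rank hF n v 1 hv one_ne_zero

/-- The transvection `x ↦ x + h(x, v) v` as an element of `SU`. -/
theorem exists_tv (n : ℕ) (v : Fin n → F) (hvv : hermForm n F 2 v v = 0) :
    ∃ g : ↥(SU n F 2), suMat g = unitaryTransvection n 2 v 1 := by
  have h2 := two_eq_zero hF
  have h0v : hermForm n F 2 (0 : Fin n → F) v = 0 := hermForm_zero_left n 2 v
  have hβ : (1 : F) + 1 ^ 2 + hermForm n F 2 (0 : Fin n → F) 0 = 0 := by
    rw [hermForm_zero_left]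
    linear_combination h2
  exact ⟨eichSU hF n v 0 1 hvv h0v hβ, eichlerU_zero hF n v 1⟩

theorem order_two (n : ℕ) (g : ↥(SU n F 2)) (hg : (suMat g - 1).rank = 1) : orderOf g = 2 := by
  obtain ⟨v, hv, hvv, hgv⟩ := (mem_iff hF n g).mp hg
  have h2 := two_eq_zero hF
  apply orderOf_eq_prime
  · rw [pow_two]
    apply suMat_inj
    rw [suMat_mul, suMat_one, hgv, Matrix.ext_iff_mulVec]
    intro x
    rw [← Matrix.mulVec_mulVec, Matrix.one_mulVec]
    simp only [unitaryTransvection_mulVec, hermForm_add_left, hermForm_smul_left, hvv, one_mul,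
      mul_zero, add_zero]
    rw [add_assoc, ← add_smul, ← two_mul, h2, zero_mul, zero_smul, add_zero]
  · intro h1
    rw [h1, suMat_one, sub_self, Matrix.rank_zero] at hg
    exact zero_ne_one hg

theorem prod_cases (n : ℕ) (d e : ↥(SU n F 2)) (hd : (suMat d - 1).rank = 1)
    (he : (suMat e - 1).rank = 1) : (d * e) ^ 2 = 1 ∨ (d * e) ^ 3 = 1 := by
  obtain ⟨v, hv, hvv, hdv⟩ := (mem_iff hF n d).mp hd
  obtain ⟨w, hw, hww, hew⟩ := (mem_iff hF n e).mp he
  have h2 := two_eq_zero hF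
  obtain ⟨r, hr⟩ : ∃ r : F, r = hermForm n F 2 v w := ⟨_, rfl⟩
  have hwv : hermForm n F 2 w v = r ^ 2 := by rw [hr, hermForm_conj hF]
  have hM : ∀ x, suMat (d * e) *ᵥ x = x + hermForm n F 2 x w • w +
      (hermForm n F 2 x v + hermForm n F 2 x w * r ^ 2) • v := by
    intro x
    rw [suMat_mul, hdv, hew, ← Matrix.mulVec_mulVec]
    simp only [unitaryTransvection_mulVec, hermForm_add_left, hermForm_smul_left, hwv, one_mul]
  by_cases hr0 : r = 0
  · left
    rw [pow_two]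
    apply suMat_inj
    rw [suMat_mul, suMat_one, Matrix.ext_iff_mulVec]
    intro x
    rw [← Matrix.mulVec_mulVec, Matrix.one_mulVec, hM, hM]
    obtain ⟨a, ha⟩ : ∃ a : F, a = hermForm n F 2 x v := ⟨_, rfl⟩
    obtain ⟨b, hb⟩ : ∃ b : F, b = hermForm n F 2 x w := ⟨_, rfl⟩
    simp only [hermForm_add_left, hermForm_smul_left, hvv, hww, hwv, ← hr, ← ha, ← hb]
    ext i
    simp only [Pi.add_apply, Pi.smul_apply, smul_eq_mul]
    rw [hr0]
    linear_combination (b * w i + a * v i) * h2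
  · right
    have hN := norm_eq_one hF r hr0
    rw [pow_three]
    apply suMat_inj
    show suMat (d * e) * (suMat (d * e) * suMat (d * e)) = 1
    rw [Matrix.ext_iff_mulVec]
    intro x
    rw [← Matrix.mulVec_mulVec, ← Matrix.mulVec_mulVec, Matrix.one_mulVec, hM, hM, hM]
    obtain ⟨a, ha⟩ : ∃ a : F, a = hermForm n F 2 x v := ⟨_, rfl⟩
    obtain ⟨b, hb⟩ : ∃ b : F, b = hermForm n F 2 x w := ⟨_, rfl⟩
    simp only [hermForm_add_left, hermForm_smul_left, hvv, hww, hwv, ← hr, ← ha, ← hb]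
    ext i
    simp only [Pi.add_apply, Pi.smul_apply, smul_eq_mul]
    linear_combination (w i * (5 * b + a * r + b * (r * r ^ 2)) +
      v i * (5 * a + 6 * b * r ^ 2 + (a + b * r ^ 2) * (r * r ^ 2))) * hN +
      (w i * (4 * b + 2 * a * r) + v i * (4 * a + 6 * b * r ^ 2)) * h2

theorem class_eq (n : ℕ) (hn : 4 ≤ n) :
    ∃ d ∈ {g : ↥(SU n F 2) | (suMat g - 1).rank = 1},
      {g : ↥(SU n F 2) | (suMat g - 1).rank = 1} = conjugatesOf d := by
  obtain ⟨v₀, hv₀, hv₀iso⟩ := exists_isotropic (q := 2) hF n (by omega)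
  obtain ⟨d₀, hd₀⟩ := exists_tv hF n v₀ hv₀iso
  have hd₀mem : (suMat d₀ - 1).rank = 1 := (mem_iff hF n d₀).mpr ⟨v₀, hv₀, hv₀iso, hd₀⟩
  refine ⟨d₀, hd₀mem, ?_⟩
  ext g
  constructor
  · intro hg
    have hg' : (suMat g - 1).rank = 1 := hg
    obtain ⟨v, hv, hvv, hgv⟩ := (mem_iff hF n g).mp hg'
    obtain ⟨M, hM, hMv⟩ := iso_trans hF n (by omega) (eichIn_of hF n (Or.inl hn)) v₀ v hv₀ hv
      hv₀iso hvv
    obtain ⟨k, -, rfl⟩ := hM
    show IsConj d₀ g
    rw [isConj_iff]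
    refine ⟨k, ?_⟩
    rw [mul_inv_eq_iff_eq_mul]
    apply suMat_inj
    rw [suMat_mul, suMat_mul, hd₀, hgv, ← hMv, conj_transv]
  · intro hg
    have hg' : IsConj d₀ g := hg
    rw [isConj_iff] at hg'
    obtain ⟨c, rfl⟩ := hg'
    show (suMat (c * d₀ * c⁻¹) - 1).rank = 1
    have hiso : hermForm n F 2 (suMat c *ᵥ v₀) (suMat c *ᵥ v₀) = 0 := by
      rw [suMat_isIsom]
      exact hv₀iso
    have hne : suMat c *ᵥ v₀ ≠ 0 := by
      intro h0
      apply hv₀
      have := suMat_inv_apply n c v₀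
      rw [h0, Matrix.mulVec_zero] at this
      exact this.symm
    obtain ⟨g', hg'⟩ := exists_tv hF n (suMat c *ᵥ v₀) hiso
    have hgg : g' = c * d₀ * c⁻¹ := by
      rw [eq_mul_inv_iff_mul_eq]
      apply suMat_inj
      rw [suMat_mul, suMat_mul, hd₀, hg', conj_transv]
    rw [← hgg]
    exact (mem_iff hF n g').mpr ⟨_, hne, hiso, hg'⟩

theorem gen_eq (n : ℕ) (hn : 4 ≤ n) :
    Subgroup.closure {g : ↥(SU n F 2) | (suMat g - 1).rank = 1} = ⊤ := by
  rw [eq_top_iff, ← TU_eq_top hF n (by omega) (by omega)]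
  unfold TU
  rw [Subgroup.closure_le]
  rintro A ⟨v, c, hv, hA⟩
  have hA' : suMat A = unitaryTransvection n 2 v c := hA
  rw [SetLike.mem_coe]
  have hone : suMat A = 1 → A ∈ Subgroup.closure {g : ↥(SU n F 2) | (suMat g - 1).rank = 1} := by
    intro h1
    have : A = 1 := suMat_inj (by rw [h1, suMat_one])
    rw [this]
    exact Subgroup.one_mem _
  by_cases hv0 : v = 0
  · apply hone
    rw [hA', hv0]
    unfold unitaryTransvection
    simp
  by_cases hc0 : c = 0
  · apply hone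
    rw [hA', hc0]
    unfold unitaryTransvection
    simp
  have hc := skew_of_transv_mem hF n v c hv0 hv A hA'
  apply Subgroup.subset_closure
  exact (mem_iff hF n A).mpr ⟨v, hv0, hv, by rw [hA', skew_eq_one hF c hc0 hc]⟩

end


/-- The unitary transvections of SU(n, 2), n ≥ 4, form a generating conjugacy class of 3-transpositions. -/
theorem result (F : Type) [Field F] [Fintype F] [DecidableEq F] (hF : Fintype.card F = 4) (n : ℕ) (hn : 4 ≤ n) : Cfsg.IsThreeTranspositionClass {g : ↥(Cfsg.SU n F 2) | (((g : Matrix.SpecialLinearGroup (Fin n) F) : Matrix (Fin n) (Fin n) F) - 1).rank = 1} := by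
  have hF' : Fintype.card F = 2 ^ 2 := by
    rw [hF]
    norm_num
  exact ⟨⟨fun d hd => order_two hF' n d hd, fun d hd e he => prod_cases hF' n d e hd he⟩,
    class_eq hF' n hn, gen_eq hF' n hn⟩

end Cfsg.Agent.S1631
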