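import Cfsg.Statements.S1635
import Cfsg.Agent.Lib.helper94.M24Code

set_option autoImplicit false
open Cfsg

namespace Cfsg.Agent.S1635

open Cfsg.Agent.Lib.helper94

theorem set_eq (w : GolayPt → ZMod 2) :
    {v : GolayPt → ZMod 2 | hammingNorm v ≤ 4 ∧ w - v ∈ golayCode} =
      {u : GolayPt → ZMod 2 | u - w ∈ golayCode ∧ hammingNorm u ≤ 4} := by
  ext v
  simp only [Set.mem_ofPred_eq]
  rw [and_comm, ← neg_sub w v, Submodule.neg_mem_iff]


/-- Coset leaders of the length-24 code: a coset contains a unique word of weight ≤ 3, or else exactly six words of weight 4 and none lighter. -/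
theorem result (w : Cfsg.GolayPt → ZMod 2) : ({v : Cfsg.GolayPt → ZMod 2 | hammingNorm v ≤ 4 ∧ w - v ∈ Cfsg.golayCode}.ncard = 1 ∧ ∃ v : Cfsg.GolayPt → ZMod 2, hammingNorm v ≤ 3 ∧ w - v ∈ Cfsg.golayCode) ∨ ({v : Cfsg.GolayPt → ZMod 2 | hammingNorm v ≤ 4 ∧ w - v ∈ Cfsg.golayCode}.ncard = 6 ∧ ∀ v : Cfsg.GolayPt → ZMod 2, w - v ∈ Cfsg.golayCode → hammingNorm v ≤ 4 → hammingNorm v = 4) := by
  rw [set_eq]
  rcases coset_leaders golayCode card_golayPt golay_finrank golay_minWeight w with ⟨u, hu, hu3⟩ | ⟨h6, hall⟩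
  · left
    refine ⟨by rw [hu]; exact Set.ncard_singleton u, u, hu3, ?_⟩
    have : u ∈ ({u} : Set (GolayPt → ZMod 2)) := rfl
    rw [← hu] at this
    have h1 := this.1
    rw [← neg_sub w u, Submodule.neg_mem_iff] at h1
    exact h1
  · right
    refine ⟨h6, fun v hv hv4 => ?_⟩
    have hmem : v ∈ {u : GolayPt → ZMod 2 | u - w ∈ golayCode ∧ hammingNorm u ≤ 4} := by
      refine ⟨?_, hv4⟩
      rw [← neg_sub w v, Submodule.neg_mem_iff]
      exact hv
    exact (hall v hmem).1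

end Cfsg.Agent.S1635
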