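import Cfsg.Statements.S1636
import Cfsg.Agent.Lib.helper34.GolayFlags

set_option autoImplicit false
open Cfsg

namespace Cfsg.Agent.S1636

open Cfsg.Agent.Lib.helper34

/-- Puncturing of a set of points at the extra point, as a word of length 23. -/
def punct (s : Finset GolayPt) : ZMod 23 → ZMod 2 := fun x => if some x ∈ s then 1 else 0

theorem zmod2 (a : ZMod 2) : a ≠ 0 ↔ a = 1 := by revert a; decide

theorem punct_support (w : GolayPt → ZMod 2) (x : ZMod 23) : punct (support₂ w) x = w (some x) := by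
  unfold punct support₂
  simp only [Finset.mem_filter, Finset.mem_univ, true_and]
  by_cases h : w (some x) = 0
  · simp [h]
  · rw [if_pos h]; exact ((zmod2 _).mp h).symm

theorem P_eq : {u : ZMod 23 → ZMod 2 | ∃ w ∈ golayCode, ∀ x : ZMod 23, u x = w (some x)} =
    punct '' supports (golayCode : Set (GolayPt → ZMod 2)) := by
  ext u
  constructor
  · rintro ⟨w, hw, h⟩
    exact ⟨support₂ w, ⟨w, hw, rfl⟩, funext fun x => by rw [punct_support, h]⟩
  · rintro ⟨s, ⟨w, hw, rfl⟩, rfl⟩
    exact ⟨w, hw, fun x => (punct_support w x)⟩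

theorem mem_unmask_low (p : GolayPt) : p ∈ unmask 8388607 ↔ p ≠ none := by
  rw [mem_unmask, show (8388607 : ℕ) = 2 ^ 23 - 1 by norm_num, Nat.testBit_two_pow_sub_one]
  cases p with
  | none => simp [idx]
  | some x => simp [idx, ZMod.val_lt x]

theorem norm_punct (s : Finset GolayPt) :
    hammingNorm (punct s) = popF (Nat.land (mask s) 8388607) := by
  have h1 : hammingNorm (punct s) = (s ∩ unmask 8388607).card := by
    unfold hammingNorm
    rw [← Finset.card_map ⟨some, Option.some_injective _⟩]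
    congr 1
    ext p
    rw [Finset.mem_inter, mem_unmask_low]
    cases p with
    | none => simp
    | some x => simp [punct]
  rw [h1, card_eq_popF, mask_inter, mask_unmask (by norm_num)]
  rfl

theorem punct_injOn : Set.InjOn punct (supports (golayCode : Set (GolayPt → ZMod 2))) := by
  intro s hs t ht h
  obtain ⟨_, es⟩ := code_index hs
  obtain ⟨_, et⟩ := code_index ht
  have hiff : ∀ x : ZMod 23, some x ∈ s ↔ some x ∈ t := by
    intro x
    have := congrFun h x
    unfold punct at this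
    by_cases h1 : some x ∈ s <;> by_cases h2 : some x ∈ t
    · exact iff_of_true h1 h2
    · rw [if_pos h1, if_neg h2] at this; exact absurd this (by decide)
    · rw [if_neg h1, if_pos h2] at this; exact absurd this (by decide)
    · exact iff_of_false h1 h2
  have hmod : mask s % 2 ^ 12 = mask t % 2 ^ 12 := by
    apply Nat.eq_of_testBit_eq
    intro i
    rw [Nat.testBit_mod_two_pow, Nat.testBit_mod_two_pow, testBit_mask, testBit_mask]
    by_cases hi : i < 12
    · have h23 : i < 23 := by omega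
      have hpt : ptOf i = some ((i : ℕ) : ZMod 23) := by simp [ptOf, h23]
      rw [hpt]
      simp only [hiff]
    · simp [hi]
  apply mask_injective
  rw [← es, ← et, hmod]

def Qk (k : ℕ) (m : ℕ) : Bool := Nat.beq (popF (Nat.land m 8388607)) k

theorem count_k (k n : ℕ) (hn : countBelow (fun u => Qk k (encF u)) 4096 = n) :
    {u : ZMod 23 → ZMod 2 | u ∈ {u : ZMod 23 → ZMod 2 | ∃ w ∈ golayCode,
      ∀ x : ZMod 23, u x = w (some x)} ∧ hammingNorm u = k}.ncard = n := by
  have e : {u : ZMod 23 → ZMod 2 | u ∈ {u : ZMod 23 → ZMod 2 | ∃ w ∈ golayCode,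
      ∀ x : ZMod 23, u x = w (some x)} ∧ hammingNorm u = k} =
      punct '' {s : Finset GolayPt | s ∈ supports (golayCode : Set (GolayPt → ZMod 2)) ∧
        Qk k (mask s) = true} := by
    rw [P_eq]
    ext u
    constructor
    · rintro ⟨⟨s, hs, rfl⟩, hk⟩
      refine ⟨s, ⟨hs, ?_⟩, rfl⟩
      rw [norm_punct] at hk
      unfold Qk
      rw [hk]
      exact Nat.beq_refl k
    · rintro ⟨s, ⟨hs, hq⟩, rfl⟩
      exact ⟨⟨s, hs, rfl⟩, by rw [norm_punct]; exact Nat.eq_of_beq_eq_true hq⟩
  rw [e, Set.InjOn.ncard_image (punct_injOn.mono (fun s hs => hs.1)),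
    ncard_code {s : Finset GolayPt | s ∈ supports (golayCode : Set (GolayPt → ZMod 2)) ∧
      Qk k (mask s) = true} (Qk k) (fun s => Iff.rfl)]
  exact hn

theorem minw : allBelow (fun k => or (Nat.beq (popF (Nat.land (encF k) 8388607)) 0)
    (Nat.ble 7 (popF (Nat.land (encF k) 8388607)))) 4096 = true := by decide +kernel


/-- The punctured length-23 code has weight distribution 0^1 7^253 8^506 11^1288 12^1288 15^506 16^253 23^1. -/
theorem result : {u : ZMod 23 → ZMod 2 | ∃ w ∈ Cfsg.golayCode, ∀ x : ZMod 23, u x = w (some x)}.ncard = 4096 ∧ {u : ZMod 23 → ZMod 2 | u ∈ {u : ZMod 23 → ZMod 2 | ∃ w ∈ Cfsg.golayCode, ∀ x : ZMod 23, u x = w (some x)} ∧ hammingNorm u = 7}.ncard = 253 ∧ {u : ZMod 23 → ZMod 2 | u ∈ {u : ZMod 23 → ZMod 2 | ∃ w ∈ Cfsg.golayCode, ∀ x : ZMod 23, u x = w (some x)} ∧ hammingNorm u = 8}.ncard = 506 ∧ {u : ZMod 23 → ZMod 2 | u ∈ {u : ZMod 23 → ZMod 2 | ∃ w ∈ Cfsg.golayCode, ∀ x : ZMod 23, u x = w (some x)} ∧ hammingNorm u = 11}.ncard = 1288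 ∧ {u : ZMod 23 → ZMod 2 | u ∈ {u : ZMod 23 → ZMod 2 | ∃ w ∈ Cfsg.golayCode, ∀ x : ZMod 23, u x = w (some x)} ∧ hammingNorm u = 12}.ncard = 1288 ∧ {u : ZMod 23 → ZMod 2 | u ∈ {u : ZMod 23 → ZMod 2 | ∃ w ∈ Cfsg.golayCode, ∀ x : ZMod 23, u x = w (some x)} ∧ hammingNorm u = 15}.ncard = 506 ∧ {u : ZMod 23 → ZMod 2 | u ∈ {u : ZMod 23 → ZMod 2 | ∃ w ∈ Cfsg.golayCode, ∀ x : ZMod 23, u x = w (some x)} ∧ hammingNorm u = 16}.ncard = 253 ∧ ∀ u ∈ {u : ZMod 23 → ZMod 2 | ∃ w ∈ Cfsg.golayCode, ∀ x : ZMod 23, u x = w (some x)}, u ≠ 0 → 7 ≤ hammingNorm u := by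
  refine ⟨?_, count_k 7 253 (by decide +kernel), count_k 8 506 (by decide +kernel),
    count_k 11 1288 (by decide +kernel), count_k 12 1288 (by decide +kernel),
    count_k 15 506 (by decide +kernel), count_k 16 253 (by decide +kernel), ?_⟩
  · rw [P_eq, Set.InjOn.ncard_image punct_injOn, ncard_code _ (fun _ => true) (fun s => by simp)]
    decide +kernel
  · rw [P_eq]
    rintro u ⟨s, hs, rfl⟩ hne
    obtain ⟨hlt, e⟩ := code_index hs
    have h := allBelow_spec minw _ hlt
    rw [e, Bool.or_eq_true] at h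
    rcases h with h0 | h7
    · exfalso
      apply hne
      have h00 : hammingNorm (punct s) = 0 := by
        rw [norm_punct]; exact Nat.eq_of_beq_eq_true h0
      exact hammingNorm_eq_zero.mp h00
    · rw [norm_punct]
      exact Nat.le_of_ble_eq_true h7

end Cfsg.Agent.S1636
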