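import Cfsg.Statements.S1643
import Cfsg.Agent.Lib.helper34.M22MaxL
import Cfsg.Agent.Lib.helper34.M22MaxB

set_option autoImplicit false
open scoped Pointwise
open Cfsg

namespace Cfsg.Agent.S1643

open Cfsg.Agent.Lib.helper34

theorem alpha_eq : tperm mxAtab mxAinv = Equiv.optionCongr (Equiv.addRight (1 : ZMod 23)) := by
  have hv : ValidPerm mxAtab mxAinv := by decide +kernel
  have h : ∀ p : GolayPt, idx (Equiv.optionCongr (Equiv.addRight (1 : ZMod 23)) p) =
      mxAtab.getD (idx p) 0 := by decide +kernel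
  apply Equiv.ext
  intro p
  apply idx_injective
  rw [idx_tperm hv, h]

theorem gamma_eq : tperm mxGtab mxGinv = Cfsg.projInv := by
  have hv : ValidPerm mxGtab mxGinv := by decide +kernel
  have h : ∀ p : GolayPt, idx (Cfsg.projInv p) = mxGtab.getD (idx p) 0 := by decide +kernel
  apply Equiv.ext
  intro p
  apply idx_injective
  rw [idx_tperm hv, h]

/-- The unit 2 modulo 23. -/
def u2 : (ZMod 23)ˣ := ⟨2, 12, by decide, by decide⟩

theorem u2_sq : IsSquare u2 := ⟨⟨5, 14, by decide, by decide⟩, Units.ext (by decide)⟩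

theorem beta_eq : tperm mxBtab mxBinv = Equiv.optionCongr (Units.mulLeft u2) := by
  have h : ∀ p : GolayPt, idx (Equiv.optionCongr (Units.mulLeft u2) p) =
      mxBtab.getD (idx p) 0 := by decide +kernel
  apply Equiv.ext
  intro p
  apply idx_injective
  rw [idx_tperm mxBtab_valid, h]

theorem sq_pow : ∀ v : ZMod 23, v ≠ 0 → ∃ k < 11, v * v = 2 ^ k := by decide

theorem mulLeft_one : Equiv.optionCongr (Units.mulLeft (1 : (ZMod 23)ˣ)) = 1 := by
  apply Equiv.ext
  intro p
  cases p <;> simp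

theorem mulLeft_mul (a b : (ZMod 23)ˣ) : Equiv.optionCongr (Units.mulLeft (a * b)) =
    Equiv.optionCongr (Units.mulLeft a) * Equiv.optionCongr (Units.mulLeft b) := by
  apply Equiv.ext
  intro p
  cases p <;> simp [mul_assoc]

theorem mulLeft_pow_mem (H : Subgroup (Equiv.Perm GolayPt))
    (h : Equiv.optionCongr (Units.mulLeft u2) ∈ H) (k : ℕ) :
    Equiv.optionCongr (Units.mulLeft (u2 ^ k)) ∈ H := by
  induction k with
  | zero =>
    rw [pow_zero, mulLeft_one]
    exact H.one_mem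
  | succ k ih =>
    rw [pow_succ, mulLeft_mul]
    exact H.mul_mem ih h

theorem sq_mem (H : Subgroup (Equiv.Perm GolayPt))
    (h : Equiv.optionCongr (Units.mulLeft u2) ∈ H) (u : (ZMod 23)ˣ) (hu : IsSquare u) :
    Equiv.optionCongr (Units.mulLeft u) ∈ H := by
  obtain ⟨w, rfl⟩ := hu
  have : Fact (1 < 23) := ⟨by norm_num⟩
  obtain ⟨k, -, hk⟩ := sq_pow (w : ZMod 23) w.ne_zero
  have e : w * w = u2 ^ k := by
    apply Units.ext
    rw [Units.val_mul, Units.val_pow_eq_pow_val]
    exact hk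
  rw [e]
  exact mulLeft_pow_mem H h k

theorem closL : Subgroup.closure ({Equiv.optionCongr (Equiv.addRight (1 : ZMod 23)), Cfsg.projInv} ∪ {g : Equiv.Perm Cfsg.GolayPt | ∃ u : (ZMod 23)ˣ, IsSquare u ∧ g = Equiv.optionCongr (Units.mulLeft u)}) = genSub mxLgens := by
  apply le_antisymm
  · rw [Subgroup.closure_le]
    rintro g (hg | ⟨u, hu, rfl⟩)
    · rcases hg with rfl | rfl
      · rw [← alpha_eq]
        exact genSub_mem (p := (mxAtab, mxAinv)) List.mem_cons_self
      · rw [← gamma_eq]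
        exact genSub_mem (p := (mxGtab, mxGinv)) (List.mem_cons_of_mem _ List.mem_cons_self)
    · apply sq_mem _ _ u hu
      rw [← beta_eq]
      exact genSub_mem (p := (mxBtab, mxBinv))
        (List.mem_cons_of_mem _ (List.mem_cons_of_mem _ List.mem_cons_self))
  · apply genSub_le
    intro p hp
    apply Subgroup.subset_closure
    simp only [mxLgens, List.mem_cons, List.not_mem_nil, or_false] at hp
    rcases hp with rfl | rfl | rfl
    · exact Or.inl (Or.inl alpha_eq)
    · exact Or.inl (Or.inr gamma_eq)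
    · exact Or.inr ⟨u2, u2_sq, beta_eq⟩

theorem closB : Subgroup.closure ({Equiv.optionCongr (Equiv.addRight (1 : ZMod 23))} ∪ {g : Equiv.Perm Cfsg.GolayPt | ∃ u : (ZMod 23)ˣ, IsSquare u ∧ g = Equiv.optionCongr (Units.mulLeft u)}) = genSub mxBgens := by
  apply le_antisymm
  · rw [Subgroup.closure_le]
    rintro g (hg | ⟨u, hu, rfl⟩)
    · have e : g = Equiv.optionCongr (Equiv.addRight (1 : ZMod 23)) := hg
      rw [e, ← alpha_eq]
      exact genSub_mem (p := (mxAtab, mxAinv)) List.mem_cons_self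
    · apply sq_mem _ _ u hu
      rw [← beta_eq]
      exact genSub_mem (p := (mxBtab, mxBinv)) (List.mem_cons_of_mem _ List.mem_cons_self)
  · apply genSub_le
    intro p hp
    apply Subgroup.subset_closure
    simp only [mxBgens, List.mem_cons, List.not_mem_nil, or_false] at hp
    rcases hp with rfl | rfl
    · exact Or.inl alpha_eq
    · exact Or.inr ⟨u2, u2_sq, beta_eq⟩


/-- PSL(2, 23) = ⟨t ↦ t+1, t ↦ u t (u square), t ↦ −1/t⟩ is maximal of order 6072 in the group of the length-24 code, and its point stabiliser 23:11 (order 253) is maximal in the Mathieu group of degree 23. -/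
theorem result : (Subgroup.closure ({Equiv.optionCongr (Equiv.addRight (1 : ZMod 23)), Cfsg.projInv} ∪ {g : Equiv.Perm Cfsg.GolayPt | ∃ u : (ZMod 23)ˣ, IsSquare u ∧ g = Equiv.optionCongr (Units.mulLeft u)}) ≤ Cfsg.M24 ∧ Nat.card ↥(Subgroup.closure ({Equiv.optionCongr (Equiv.addRight (1 : ZMod 23)), Cfsg.projInv} ∪ {g : Equiv.Perm Cfsg.GolayPt | ∃ u : (ZMod 23)ˣ, IsSquare u ∧ g = Equiv.optionCongr (Units.mulLeft u)})) = 6072 ∧ IsCoatom ((Subgroup.closure ({Equiv.optionCongr (Equiv.addRight (1 : ZMod 23)), Cfsg.projInv} ∪ {g : Equiv.Perm Cfsg.GolayPt | ∃ u : (ZMod 23)ˣ, IsSquare u ∧ g = Equiv.optionCongr (Units.mulLeft u)})).subgroupOf Cfsg.M24)) ∧ (Subgroup.closure ({Equiv.optionCongr (Equiv.addRight (1 : ZMod 23))} ∪ {g : Equiv.Perm Cfsg.GolayPt | ∃ u : (ZMod 23)ˣ, IsSquare u ∧ g = Equiv.optionCongr (Units.mulLeft u)}) ≤ Cfsg.M24 ⊓ MulAction.stabilizer (Equiv.Perm Cfsg.GolayPt) (none : Cfsg.GolayPt) ∧ Nat.card ↥(Subgroup.closure ({Equiv.optionCongr (Equiv.addRight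 (1 : ZMod 23))} ∪ {g : Equiv.Perm Cfsg.GolayPt | ∃ u : (ZMod 23)ˣ, IsSquare u ∧ g = Equiv.optionCongr (Units.mulLeft u)})) = 253 ∧ IsCoatom (((Subgroup.closure ({Equiv.optionCongr (Equiv.addRight (1 : ZMod 23))} ∪ {g : Equiv.Perm Cfsg.GolayPt | ∃ u : (ZMod 23)ˣ, IsSquare u ∧ g = Equiv.optionCongr (Units.mulLeft u)})).subgroupOf Cfsg.M24).subgroupOf (MulAction.stabilizer Cfsg.M24 (none : Cfsg.GolayPt)))) := by
  rw [closL, closB]
  refine ⟨⟨mxL_le, mxL_card, ?_⟩, ⟨mxB_le, mxB_card, ?_⟩⟩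
  · refine isCoatom_subgroupOf_of _ _ mxL_le ?_ mxL_max
    intro e
    have h := mxL_card
    rw [e, Cfsg.Agent.Lib.helper9.card_M24] at h
    norm_num at h
  · refine isCoatom_subgroupOf_subgroupOf Cfsg.M24 (genSub mxBgens) Spor.M23 _ ?_ ?_ mxB_le ?_
      mxB_max
    · intro x
      constructor
      · intro h
        exact ⟨x.2, h⟩
      · intro h
        exact h.2
    · intro x hx
      exact hx.1
    · intro e
      have h := mxB_card
      rw [e, card_sporM23] at h
      norm_num at h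

end Cfsg.Agent.S1643
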