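import Cfsg.Statements.S1694
import Cfsg.Agent.Lib.helper35.CosetPrim
import Cfsg.Agent.Lib.helper35.SuzaChecks
import Cfsg.Agent.Lib.helper35.SuzbChecks
import Cfsg.Agent.Lib.helper35.SuzU2
import Cfsg.Agent.Lib.helper35.SuzU5
import Cfsg.Agent.Lib.helper35.SuzU216
import Cfsg.Agent.Lib.helper35.SuzU280
import Cfsg.Agent.Lib.helper35.SuzU416
import Cfsg.Agent.Lib.helper35.SuzQ1
import Cfsg.Agent.Lib.helper35.SuzQ2
import Cfsg.Agent.Lib.helper35.SuzLow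
import Cfsg.Agent.Lib.helper35.SuzZid

set_option autoImplicit false
set_option maxRecDepth 100000
open Cfsg

namespace Cfsg.Agent.S1694

open Cfsg.Agent.Lib.helper35 Cfsg.Spor

/-- numbering of the generators -/
def gen : ℕ → Suz.Gen
  | 0 => .a | 1 => .b | 2 => .c | 3 => .d | 4 => .e | 5 => .f | _ => .g

def code : Suz.Gen → ℕ
  | .a => 0 | .b => 1 | .c => 2 | .d => 3 | .e => 4 | .f => 5 | .g => 6

def ysA : List (FreeGroup Suz.Gen) := [Suz.a, Suz.b, Suz.c, Suz.d, Suz.e, Suz.f]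

def ysB : List (FreeGroup Suz.Gen) := [Suz.a, Suz.b, Suz.c, Suz.d, Suz.f, Suz.g]

theorem pres : Pres Suz.edges gen code 7 where
  node := by intro x; cases x <;> decide
  gen_code := by intro x; cases x <;> rfl
  code_lt := by intro x; cases x <;> decide
  code_gen := by intro i hi; interval_cases i <;> rfl

theorem relWA_eq : Suza.relW = relWords Suz.edges Suz.extra gen code 7 := by decide +kernel

theorem subWA_eq : Suza.subW = ysA.map (wordOf code) := by decide +kernel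

theorem relWB_eq : Suzb.relW = relWords Suz.edges Suz.extra gen code 7 := by decide +kernel

theorem subWB_eq : Suzb.subW = ysB.map (wordOf code) := by decide +kernel

theorem checksA : Checks Suz.edges Suz.extra gen code 7 Suza.C Suza.D Suza.relW Suza.subW
    Suza.orbs ysA where
  pres := pres
  relW_eq := relWA_eq
  subW_eq := subWA_eq
  cK := rfl
  rows := Suza.rows_all
  fin := Suza.fin_all
  cM := by decide
  live0 := by decide +kernel
  cnt := Suza.cnt0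
  rev := Suza.rev_ok
  wr := Suza.wr_ok
  ws := Suza.ws_ok
  dK := rfl
  dn := by decide
  inv := Suza.inv_ok
  rel := Suza.rel_ok
  sub := Suza.sub_ok
  letters := Suza.letters_ok
  tile := Suza.tile_ok
  pos := Suza.pos_ok
  orb := Suza.orb_ok

theorem checksB : Checks Suz.edges Suz.extra gen code 7 Suzb.C Suzb.D Suzb.relW Suzb.subW
    Suzb.orbs ysB where
  pres := pres
  relW_eq := relWB_eq
  subW_eq := subWB_eq
  cK := rfl
  rows := Suzb.rows_all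
  fin := Suzb.fin_all
  cM := by decide
  live0 := by decide +kernel
  cnt := Suzb.cnt0
  rev := Suzb.rev_ok
  wr := Suzb.wr_ok
  ws := Suzb.ws_ok
  dK := rfl
  dn := by decide
  inv := Suzb.inv_ok
  rel := Suzb.rel_ok
  sub := Suzb.sub_ok
  letters := Suzb.letters_ok
  tile := Suzb.tile_ok
  pos := Suzb.pos_ok
  orb := Suzb.orb_ok

/-- the generators of the presented group, by letter -/
def φ : ℕ → Suz := sG Suz.edges Suz.extra gen

theorem hsq : ∀ l, φ l * φ l = 1 := fun l => sG_sq pres l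

theorem hrelW : ∀ w ∈ Suza.relW, wprod φ w = 1 := by
  intro w hw
  rw [relWA_eq] at hw
  exact relWords_one pres w hw

theorem LS_top : LS φ [0, 1, 2, 3, 4, 5, 6] = ⊤ := by
  rw [eq_top_iff, ← PresentedGroup.closure_range_of]
  unfold LS
  apply Subgroup.closure_mono
  rintro _ ⟨x, rfl⟩
  refine ⟨code x, by cases x <;> decide, ?_⟩
  show PresentedGroup.of x = PresentedGroup.mk _ (FreeGroup.of (gen (code x)))
  rw [pres.gen_code]
  rfl

theorem map_closure_eq_LS (ys : List (FreeGroup Suz.Gen)) (S : List ℕ)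
    (h : ys = S.map (fun l => FreeGroup.of (gen l))) :
    (Subgroup.closure {y | y ∈ ys}).map
      (PresentedGroup.mk (coxRelators Suz.edges ∪ {r | r ∈ Suz.extra})) = LS φ S := by
  rw [MonoidHom.map_closure]
  unfold LS
  congr 1
  ext x
  simp only [Set.mem_image, Set.mem_ofPred_eq]
  constructor
  · rintro ⟨y, hy, rfl⟩
    rw [h, List.mem_map] at hy
    obtain ⟨l, hl, rfl⟩ := hy
    exact ⟨l, hl, rfl⟩
  · rintro ⟨l, hl, rfl⟩
    exact ⟨FreeGroup.of (gen l), by rw [h]; exact List.mem_map_of_mem hl, rfl⟩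

theorem HA_eq : (Subgroup.closure {y | y ∈ ysA}).map
    (PresentedGroup.mk (coxRelators Suz.edges ∪ {r | r ∈ Suz.extra})) = LS φ [0, 1, 2, 3, 4, 5] :=
  map_closure_eq_LS ysA [0, 1, 2, 3, 4, 5] rfl

theorem HB_eq : (Subgroup.closure {y | y ∈ ysB}).map
    (PresentedGroup.mk (coxRelators Suz.edges ∪ {r | r ∈ Suz.extra})) = LS φ [0, 1, 2, 3, 5, 6] :=
  map_closure_eq_LS ysB [0, 1, 2, 3, 5, 6] rfl

theorem card_step {Γ : Type*} [Group Γ] {L' L : Subgroup Γ} (h : L' ≤ L) :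
    Nat.card L' * L'.relIndex L = Nat.card L := by
  have := Subgroup.relIndex_mul_relIndex ⊥ L' L bot_le h
  rwa [Subgroup.relIndex_bot_left, Subgroup.relIndex_bot_left] at this




/-- the orders of the chain of subgroups, the maximality of the two subgroups and the triviality of
normal subgroups contained in both -/
theorem order_facts :
    Nat.card Suz = 448345497600 ∧
    (∀ L : Subgroup Suz, LS φ [0, 1, 2, 3, 4, 5] ≤ L → L = LS φ [0, 1, 2, 3, 4, 5] ∨ L = ⊤) ∧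
    (∀ L : Subgroup Suz, LS φ [0, 1, 2, 3, 5, 6] ≤ L → L = LS φ [0, 1, 2, 3, 5, 6] ∨ L = ⊤) ∧
    (LS φ [0, 1, 2, 3, 4, 5]).index = 1782 ∧ (LS φ [0, 1, 2, 3, 5, 6]).index = 22880 ∧
    (∀ N : Subgroup Suz, N.Normal → N ≤ LS φ [0, 1, 2, 3, 4, 5] → N ≤ LS φ [0, 1, 2, 3, 5, 6] → N = ⊥) ∧
    ∃ ρ1 : Suz →* Equiv.Perm ℕ, (∀ l, l < 7 → ∀ c, ρ1 (φ l) c = sig Suza.D l c) ∧
      (∀ a, ρ1 a 0 = 0 ↔ a ∈ LS φ [0, 1, 2, 3, 4, 5]) := by
  obtain ⟨ρ1, hρ1, hstab1, htr1, hlt1, hidx1, htree1, -⟩ :=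
    CoxIndex.main2 checksA {y | y ∈ ysA} (fun y => Iff.rfl)
  obtain ⟨ρ2, hρ2, hstab2, htr2, hlt2, hidx2, htree2, -⟩ :=
    CoxIndex.main2 checksB {y | y ∈ ysB} (fun y => Iff.rfl)
  rw [HA_eq] at hstab1 hidx1 htree1
  rw [HB_eq] at hstab2 hidx2 htree2
  have hρ1' : ∀ l, l < Suza.D.K → ∀ c, ρ1 (φ l) c = sig Suza.D l c := hρ1
  have hρ2' : ∀ l, l < Suzb.D.K → ∀ c, ρ2 (φ l) c = sig Suzb.D l c := hρ2
  have hn1 : Suza.D.n = 1782 := rfl
  have hn2 : Suzb.D.n = 22880 := rfl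
  rw [hn1] at hidx1 htr1 hlt1
  rw [hn2] at hidx2 htr2 hlt2
  -- upper bounds
  have u1 : (LS φ []).relIndex (LS φ [0]) ≠ 0 ∧ (LS φ []).relIndex (LS φ [0]) ≤ 2 :=
    SuzU2.bound φ hsq hrelW
  have u2 : (LS φ [0]).relIndex (LS φ [0, 1]) ≠ 0 ∧ (LS φ [0]).relIndex (LS φ [0, 1]) ≤ 5 :=
    SuzU5.bound φ hsq hrelW
  have u3 : (LS φ [0, 1]).relIndex (LS φ [0, 1, 2, 3]) ≠ 0 ∧
      (LS φ [0, 1]).relIndex (LS φ [0, 1, 2, 3]) ≤ 216 := SuzU216.bound φ hsq hrelW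
  have u4 : (LS φ [0, 1, 2, 3]).relIndex (LS φ [0, 1, 2, 3, 4]) ≠ 0 ∧
      (LS φ [0, 1, 2, 3]).relIndex (LS φ [0, 1, 2, 3, 4]) ≤ 280 := SuzU280.bound φ hsq hrelW
  have u5 : (LS φ [0, 1, 2, 3, 4]).relIndex (LS φ [0, 1, 2, 3, 4, 5]) ≠ 0 ∧
      (LS φ [0, 1, 2, 3, 4]).relIndex (LS φ [0, 1, 2, 3, 4, 5]) ≤ 416 := SuzU416.bound φ hsq hrelW
  -- inclusions
  have i1 : LS φ [] ≤ LS φ [0] := LS_mono φ (by decide)
  have i2 : LS φ [0] ≤ LS φ [0, 1] := LS_mono φ (by decide)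
  have i3 : LS φ [0, 1] ≤ LS φ [0, 1, 2] := LS_mono φ (by decide)
  have i4 : LS φ [0, 1, 2] ≤ LS φ [0, 1, 2, 3] := LS_mono φ (by decide)
  have i5 : LS φ [0, 1, 2, 3] ≤ LS φ [0, 1, 2, 3, 4] := LS_mono φ (by decide)
  have i6 : LS φ [0, 1, 2, 3, 4] ≤ LS φ [0, 1, 2, 3, 4, 5] := LS_mono φ (by decide)
  have m34 := Subgroup.relIndex_mul_relIndex (LS φ [0, 1]) (LS φ [0, 1, 2]) (LS φ [0, 1, 2, 3]) i3 i4
  have f3 : (LS φ [0, 1]).relIndex (LS φ [0, 1, 2]) ≠ 0 := by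
    intro h0; rw [h0, zero_mul] at m34; exact u3.1 m34.symm
  have f4 : (LS φ [0, 1, 2]).relIndex (LS φ [0, 1, 2, 3]) ≠ 0 := by
    intro h0; rw [h0, mul_zero] at m34; exact u3.1 m34.symm
  -- lower bounds
  obtain ⟨l1, fx1, O1, hO1c, hO1⟩ : 2 ≤ (LS φ []).relIndex (LS φ [0]) ∧
      (∀ a ∈ LS φ [], ρ1 a 2 = 2) ∧
      ∃ O : Finset ℕ, O.card = 2 ∧ ∀ c ∈ O, ∃ a ∈ LS φ [0], ρ1 a 2 = c :=
    SuzLow.low1 ρ1 φ hρ1' u1.1
  obtain ⟨l2, fx2, O2, hO2c, hO2⟩ : 5 ≤ (LS φ [0]).relIndex (LS φ [0, 1]) ∧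
      (∀ a ∈ LS φ [0], ρ1 a 1 = 1) ∧
      ∃ O : Finset ℕ, O.card = 5 ∧ ∀ c ∈ O, ∃ a ∈ LS φ [0, 1], ρ1 a 1 = c :=
    SuzLow.low2 ρ1 φ hρ1' u2.1
  obtain ⟨l3, fx3, O3, hO3c, hO3⟩ : 6 ≤ (LS φ [0, 1]).relIndex (LS φ [0, 1, 2]) ∧
      (∀ a ∈ LS φ [0, 1], ρ2 a 2 = 2) ∧
      ∃ O : Finset ℕ, O.card = 6 ∧ ∀ c ∈ O, ∃ a ∈ LS φ [0, 1, 2], ρ2 a 2 = c :=
    SuzLow.low3 ρ2 φ hρ2' f3
  obtain ⟨l4, fx4, O4, hO4c, hO4⟩ : 36 ≤ (LS φ [0, 1, 2]).relIndex (LS φ [0, 1, 2, 3]) ∧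
      (∀ a ∈ LS φ [0, 1, 2], ρ2 a 1 = 1) ∧
      ∃ O : Finset ℕ, O.card = 36 ∧ ∀ c ∈ O, ∃ a ∈ LS φ [0, 1, 2, 3], ρ2 a 1 = c :=
    SuzLow.low4 ρ2 φ hρ2' f4
  obtain ⟨l5, fx5, O5, hO5c, hO5⟩ : 280 ≤ (LS φ [0, 1, 2, 3]).relIndex (LS φ [0, 1, 2, 3, 4]) ∧
      (∀ a ∈ LS φ [0, 1, 2, 3], ρ2 a 0 = 0) ∧
      ∃ O : Finset ℕ, O.card = 280 ∧ ∀ c ∈ O, ∃ a ∈ LS φ [0, 1, 2, 3, 4], ρ2 a 0 = c :=
    SuzLow.low5 ρ2 φ hρ2' u4.1
  obtain ⟨l6, fx6, O6, hO6c, hO6⟩ : 416 ≤ (LS φ [0, 1, 2, 3, 4]).relIndex (LS φ [0, 1, 2, 3, 4, 5]) ∧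
      (∀ a ∈ LS φ [0, 1, 2, 3, 4], ρ1 a 1575 = 1575) ∧
      ∃ O : Finset ℕ, O.card = 416 ∧ ∀ c ∈ O, ∃ a ∈ LS φ [0, 1, 2, 3, 4, 5], ρ1 a 1575 = c :=
    SuzLow.low6 ρ1 φ hρ1' u5.1
  -- exact indices
  have r1 : (LS φ []).relIndex (LS φ [0]) = 2 := le_antisymm u1.2 l1
  have r2 : (LS φ [0]).relIndex (LS φ [0, 1]) = 5 := le_antisymm u2.2 l2
  have r5 : (LS φ [0, 1, 2, 3]).relIndex (LS φ [0, 1, 2, 3, 4]) = 280 := le_antisymm u4.2 l5
  have r6 : (LS φ [0, 1, 2, 3, 4]).relIndex (LS φ [0, 1, 2, 3, 4, 5]) = 416 := le_antisymm u5.2 l6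
  obtain ⟨r3, r4⟩ := mul_eq_both l3 l4 (by rw [m34]; exact u3.2) (by norm_num) (by norm_num)
  -- orders
  have c1 : Nat.card (LS φ [0]) = 2 := by
    have := card_step i1
    rw [r1, LS_nil, Subgroup.card_bot, one_mul] at this
    exact this.symm
  have c2 : Nat.card (LS φ [0, 1]) = 10 := by
    have := card_step i2
    rw [r2, c1] at this
    exact this.symm
  have c3 : Nat.card (LS φ [0, 1, 2]) = 60 := by
    have := card_step i3
    rw [r3, c2] at this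
    exact this.symm
  have c4 : Nat.card (LS φ [0, 1, 2, 3]) = 2160 := by
    have := card_step i4
    rw [r4, c3] at this
    exact this.symm
  have c5 : Nat.card (LS φ [0, 1, 2, 3, 4]) = 604800 := by
    have := card_step i5
    rw [r5, c4] at this
    exact this.symm
  have c6 : Nat.card (LS φ [0, 1, 2, 3, 4, 5]) = 251596800 := by
    have := card_step i6
    rw [r6, c5] at this
    exact this.symm
  have cG : Nat.card Suz = 448345497600 := by
    have := Subgroup.card_mul_index (LS φ [0, 1, 2, 3, 4, 5])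
    rw [c6, hidx1] at this
    exact this.symm
  have hfinG : Finite Suz := Nat.finite_of_card_ne_zero (by rw [cG]; norm_num)
  have cB : Nat.card (LS φ [0, 1, 2, 3, 5, 6]) = 19595520 := by
    have := Subgroup.card_mul_index (LS φ [0, 1, 2, 3, 5, 6])
    rw [hidx2, cG] at this
    omega
  -- maximality
  have hmax1 : ∀ L : Subgroup Suz, LS φ [0, 1, 2, 3, 4, 5] ≤ L →
      L = LS φ [0, 1, 2, 3, 4, 5] ∨ L = ⊤ :=
    maximal_of_orbits _ ρ1 1782 Suza.orbs hstab1 hlt1 hidx1 (by norm_num) Suza.tile_ok htree1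
      (by decide +kernel)
  have hmax2 : ∀ L : Subgroup Suz, LS φ [0, 1, 2, 3, 5, 6] ≤ L →
      L = LS φ [0, 1, 2, 3, 5, 6] ∨ L = ⊤ :=
    maximal_of_orbits _ ρ2 22880 Suzb.orbs hstab2 hlt2 hidx2 (by norm_num) Suzb.tile_ok htree2
      (by decide +kernel)
  refine ⟨cG, hmax1, hmax2, hidx1, hidx2, ?_, ρ1, hρ1, hstab1⟩
  -- normal subgroups inside both
  intro N hN hN1 hN2
  rw [eq_bot_iff]
  intro g hg
  have hfix1 : ∀ c, c < 1782 → ρ1 g c = c := by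
    intro c hc
    obtain ⟨a, rfl⟩ := htr1 c hc
    have h1 : a⁻¹ * g * a⁻¹⁻¹ ∈ N := hN.conj_mem g hg a⁻¹
    have h2 := (hstab1 _).2 (hN1 h1)
    simp only [map_mul, map_inv, inv_inv, Equiv.Perm.mul_apply] at h2
    rw [Equiv.Perm.inv_eq_iff_eq] at h2
    exact h2
  have hfix2 : ∀ c, c < 22880 → ρ2 g c = c := by
    intro c hc
    obtain ⟨a, rfl⟩ := htr2 c hc
    have h1 : a⁻¹ * g * a⁻¹⁻¹ ∈ N := hN.conj_mem g hg a⁻¹
    have h2 := (hstab2 _).2 (hN2 h1)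
    simp only [map_mul, map_inv, inv_inv, Equiv.Perm.mul_apply] at h2
    rw [Equiv.Perm.inv_eq_iff_eq] at h2
    exact h2
  have g6 : g ∈ LS φ [0, 1, 2, 3, 4, 5] := hN1 hg
  have g5 : g ∈ LS φ [0, 1, 2, 3, 4] :=
    stab_eq_of_orbit ρ1 _ _ i6 u5.1 _ fx6 O6 hO6 (by rw [hO6c, r6]) g g6 (hfix1 _ (by norm_num))
  have g4 : g ∈ LS φ [0, 1, 2, 3] :=
    stab_eq_of_orbit ρ2 _ _ i5 u4.1 _ fx5 O5 hO5 (by rw [hO5c, r5]) g g5 (hfix2 _ (by norm_num))
  have g3 : g ∈ LS φ [0, 1, 2] :=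
    stab_eq_of_orbit ρ2 _ _ i4 f4 _ fx4 O4 hO4 (by rw [hO4c, r4]) g g4 (hfix2 _ (by norm_num))
  have g2 : g ∈ LS φ [0, 1] :=
    stab_eq_of_orbit ρ2 _ _ i3 f3 _ fx3 O3 hO3 (by rw [hO3c, r3]) g g3 (hfix2 _ (by norm_num))
  have g1 : g ∈ LS φ [0] :=
    stab_eq_of_orbit ρ1 _ _ i2 u2.1 _ fx2 O2 hO2 (by rw [hO2c, r2]) g g2 (hfix1 _ (by norm_num))
  have g0 : g ∈ LS φ [] :=
    stab_eq_of_orbit ρ1 _ _ i1 u1.1 _ fx1 O1 hO1 (by rw [hO1c, r1]) g g1 (hfix1 _ (by norm_num))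
  rwa [LS_nil] at g0




/-- the element `z = (dbacdc)^5` -/
def z : Suz := wprod φ SuzZ.zw

/-- the normal closure of `z` is the whole group -/
theorem normalClosure_z : Subgroup.normalClosure ({z} : Set Suz) = ⊤ := by
  let f : Suz →* Suz ⧸ Subgroup.normalClosure ({z} : Set Suz) :=
    QuotientGroup.mk' (Subgroup.normalClosure ({z} : Set Suz))
  let φ' : ℕ → Suz ⧸ Subgroup.normalClosure ({z} : Set Suz) := fun l => f (φ l)
  have hsq' : ∀ l, φ' l * φ' l = 1 := by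
    intro l
    show f (φ l) * f (φ l) = 1
    rw [← map_mul, hsq, map_one]
  have hrelZ : ∀ w ∈ SuzZ.relZ, wprod φ' w = 1 := by
    intro w hw
    rw [wprod_map f φ w]
    rcases List.mem_cons.1 hw with h | h
    · rw [h]
      exact (QuotientGroup.eq_one_iff _).2 (Subgroup.subset_normalClosure rfl)
    · rw [hrelW w h, map_one]
  have q1 : (LS φ' []).relIndex (LS φ' [0, 1, 2, 3, 4]) ≠ 0 ∧
      (LS φ' []).relIndex (LS φ' [0, 1, 2, 3, 4]) ≤ 1 := SuzQ1.bound φ' hsq' hrelZ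
  have q2 : (LS φ' [0, 1, 2, 3, 4]).relIndex (LS φ' [0, 1, 2, 3, 4, 5, 6]) ≠ 0 ∧
      (LS φ' [0, 1, 2, 3, 4]).relIndex (LS φ' [0, 1, 2, 3, 4, 5, 6]) ≤ 1 := SuzQ2.bound φ' hsq' hrelZ
  have e1 : LS φ' [0, 1, 2, 3, 4] ≤ LS φ' [] :=
    Subgroup.relIndex_eq_one.1 (by have := q1.1; have := q1.2; omega)
  have e2 : LS φ' [0, 1, 2, 3, 4, 5, 6] ≤ LS φ' [0, 1, 2, 3, 4] :=
    Subgroup.relIndex_eq_one.1 (by have := q2.1; have := q2.2; omega)
  rw [LS_nil] at e1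
  have e3 : LS φ' [0, 1, 2, 3, 4, 5, 6] = ⊥ := eq_bot_iff.2 (e2.trans e1)
  have hmap : (LS φ [0, 1, 2, 3, 4, 5, 6]).map f ≤ LS φ' [0, 1, 2, 3, 4, 5, 6] := by
    unfold LS
    rw [MonoidHom.map_closure]
    apply Subgroup.closure_mono
    rintro _ ⟨x, ⟨l, hl, rfl⟩, rfl⟩
    exact ⟨l, hl, rfl⟩
  rw [eq_top_iff]
  intro g _
  have hg : f g ∈ LS φ' [0, 1, 2, 3, 4, 5, 6] :=
    hmap (Subgroup.mem_map_of_mem f (by rw [LS_top]; trivial))
  rw [e3, Subgroup.mem_bot] at hg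
  exact (QuotientGroup.eq_one_iff _).1 hg




/-- images of the generators in the abelianisation -/
def ab (l : ℕ) : Abelianization Suz := Abelianization.of (φ l)

theorem ab_sq (l : ℕ) : ab l * ab l = 1 := by
  unfold ab
  rw [← map_mul, hsq, map_one]

theorem comm_odd {A : Type*} [CommGroup A] {a b : A} (ha : a * a = 1) (hb : b * b = 1) (k : ℕ)
    (h : (a * b) ^ (2 * k + 1) = 1) : a = b := by
  have h2 : (a * b) ^ 2 = 1 := by
    rw [mul_pow, pow_two, pow_two, ha, hb, one_mul]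
  have h3 : (a * b) ^ (2 * k + 1) = a * b := by
    rw [pow_succ, pow_mul, h2, one_pow, one_mul]
  rw [h3] at h
  calc a = a * (b * b) := by rw [hb, mul_one]
    _ = (a * b) * b := by rw [mul_assoc]
    _ = b := by rw [h, one_mul]

theorem cox_rel (x y : Suz.Gen) :
    ((PresentedGroup.of x : Suz) * PresentedGroup.of y) ^ coxLabel Suz.edges x y = 1 := by
  have h : (FreeGroup.of x * FreeGroup.of y) ^ coxLabel Suz.edges x y ∈
      coxRelators Suz.edges ∪ {r | r ∈ Suz.extra} :=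
    Or.inl ⟨x, pres.node x, y, pres.node y, rfl⟩
  have h1 := PresentedGroup.one_of_mem h
  rw [map_pow, map_mul] at h1
  exact h1

theorem ab_edge (i j k : ℕ) (hl : coxLabel Suz.edges (gen i) (gen j) = 2 * k + 1) : ab i = ab j := by
  have h := congrArg (Abelianization.of (G := Suz)) (cox_rel (gen i) (gen j))
  rw [hl, map_pow, map_mul, map_one] at h
  exact comm_odd (ab_sq i) (ab_sq j) k h

theorem extra_rel (r : FreeGroup Suz.Gen) (hr : r ∈ Suz.extra) :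
    PresentedGroup.mk (coxRelators Suz.edges ∪ {r | r ∈ Suz.extra}) r = 1 :=
  PresentedGroup.one_of_mem (Or.inr hr)

theorem perfect : commutator Suz = ⊤ := by
  have e01 : ab 0 = ab 1 := ab_edge 0 1 2 (by decide)
  have e12 : ab 1 = ab 2 := ab_edge 1 2 1 (by decide)
  have e34 : ab 3 = ab 4 := ab_edge 3 4 1 (by decide)
  have e15 : ab 1 = ab 5 := ab_edge 1 5 1 (by decide)
  have e61 : ab 6 = ab 1 := ab_edge 6 1 1 (by decide)
  -- a = (cd)^4
  have h0 : ab 0 = 1 := by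
    have h := congrArg (Abelianization.of (G := Suz))
      (extra_rel (Suz.a * ((Suz.c * Suz.d) ^ 4)⁻¹) (by simp [Suz.extra]))
    simp only [map_mul, map_inv, map_pow, map_one] at h
    change ab 0 * ((ab 2 * ab 3) ^ 4)⁻¹ = 1 at h
    have h2 : (ab 2 * ab 3) ^ 4 = 1 := by
      have : (ab 2 * ab 3) ^ 2 = 1 := by
        rw [mul_pow, pow_two, pow_two, ab_sq, ab_sq, one_mul]
      rw [show 4 = 2 * 2 from rfl, pow_mul, this, one_pow]
    rw [h2, inv_one, mul_one] at h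
    exact h
  have h1 : ab 1 = 1 := e01 ▸ h0
  have h2 : ab 2 = 1 := e12 ▸ h1
  have h5 : ab 5 = 1 := e15 ▸ h1
  have h6 : ab 6 = 1 := e61.trans h1
  -- ((bcdcd)^5 e)^3 = 1
  have h4 : ab 4 = 1 := by
    have h := congrArg (Abelianization.of (G := Suz))
      (extra_rel (((Suz.b * Suz.c * Suz.d * Suz.c * Suz.d) ^ 5 * Suz.e) ^ 3) (by simp [Suz.extra]))
    simp only [map_mul, map_pow, map_one] at h
    change ((ab 1 * ab 2 * ab 3 * ab 2 * ab 3) ^ 5 * ab 4) ^ 3 = 1 at h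
    rw [h1, h2, one_mul, one_mul, mul_one, ab_sq, one_pow, one_mul] at h
    have : ab 4 ^ 3 = ab 4 := by
      rw [pow_succ, pow_two, ab_sq, one_mul]
    rw [this] at h
    exact h
  have h3 : ab 3 = 1 := e34.trans h4
  have hmem : ∀ l ∈ [0, 1, 2, 3, 4, 5, 6], φ l ∈ commutator Suz := by
    intro l hl
    have hab : ab l = 1 := by
      simp only [List.mem_cons, List.not_mem_nil, or_false] at hl
      rcases hl with rfl | rfl | rfl | rfl | rfl | rfl | rfl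
      · exact h0
      · exact h1
      · exact h2
      · exact h3
      · exact h4
      · exact h5
      · exact h6
    rw [← Abelianization.ker_of Suz]
    exact MonoidHom.mem_ker.2 hab
  rw [eq_top_iff, ← LS_top]
  unfold LS
  rw [Subgroup.closure_le]
  rintro _ ⟨l, hl, rfl⟩
  exact hmem l hl




theorem main_aux : IsSimpleGroup Suz ∧ Nat.card Suz = 448345497600 := by
  obtain ⟨cG, hmax1, hmax2, hidx1, hidx2, hN, ρ1, hρ1, hstab1⟩ := order_facts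
  have hfinG : Finite Suz := Nat.finite_of_card_ne_zero (by rw [cG]; norm_num)
  have hntG : Nontrivial Suz := by
    rw [← Finite.one_lt_card_iff_nontrivial, cG]; norm_num
  have cA : Nat.card (LS φ [0, 1, 2, 3, 4, 5]) = 251596800 := by
    have := Subgroup.card_mul_index (LS φ [0, 1, 2, 3, 4, 5])
    rw [hidx1, cG] at this
    omega
  have cB : Nat.card (LS φ [0, 1, 2, 3, 5, 6]) = 19595520 := by
    have := Subgroup.card_mul_index (LS φ [0, 1, 2, 3, 5, 6])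
    rw [hidx2, cG] at this
    omega
  have hcoreB : (LS φ [0, 1, 2, 3, 5, 6]).normalCore = ⊥ := by
    have hn := Subgroup.normalCore_normal (LS φ [0, 1, 2, 3, 5, 6])
    refine hN _ hn ?_ (Subgroup.normalCore_le _)
    apply normal_le_of_maximal _ hmax1
    rw [hidx1]
    intro hd
    have h1 : Nat.card (LS φ [0, 1, 2, 3, 5, 6]).normalCore ∣ 19595520 := by
      rw [← cB]; exact Subgroup.card_dvd_of_le (Subgroup.normalCore_le _)
    have := hd.trans h1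
    norm_num at this
  have hcoreA : (LS φ [0, 1, 2, 3, 4, 5]).normalCore = ⊥ := by
    have hn := Subgroup.normalCore_normal (LS φ [0, 1, 2, 3, 4, 5])
    refine hN _ hn (Subgroup.normalCore_le _) ?_
    apply normal_le_of_maximal _ hmax2
    rw [hidx2]
    intro hd
    have h1 : Nat.card (LS φ [0, 1, 2, 3, 4, 5]).normalCore ∣ 251596800 := by
      rw [← cA]; exact Subgroup.card_dvd_of_le (Subgroup.normalCore_le _)
    have := hd.trans h1
    norm_num at this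
  have hinj : Function.Injective ρ1 := by
    rw [injective_iff_map_eq_one]
    intro g hg
    have hmem : g ∈ (LS φ [0, 1, 2, 3, 4, 5]).normalCore := by
      intro b
      apply (hstab1 _).1
      rw [map_mul, map_mul, hg, mul_one, ← map_mul, mul_inv_cancel, map_one]
      rfl
    rw [hcoreA] at hmem
    exact Subgroup.mem_bot.1 hmem
  have hρ1' : ∀ l, l < Suza.D.K → ∀ c, ρ1 (φ l) c = sig Suza.D l c := hρ1
  have zplus : ∀ x : ℕ, (∀ l ∈ x :: (SuzZ.zw ++ [x]), l < Suza.D.K) →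
      allRange (fun c => Nat.beq (actP Suza.D (x :: (SuzZ.zw ++ [x])) c) (actP Suza.D SuzZ.zw c))
        0 Suza.D.n = true → φ x * z * φ x = z := by
    intro x hl h
    have h1 := wprod_eq_of_actP ρ1 hinj φ hsq Suza.D Suza.inv_ok hρ1' _ _ hl (by decide) h
    rw [wprod_cons, wprod_append, wprod_cons, wprod_nil, mul_one] at h1
    rw [mul_assoc]
    exact h1
  have zminus : ∀ x : ℕ, (∀ l ∈ x :: (SuzZ.zw ++ [x]), l < Suza.D.K) →
      allRange (fun c => Nat.beq (actP Suza.D (x :: (SuzZ.zw ++ [x])) c)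
        (actP Suza.D SuzZ.zw.reverse c)) 0 Suza.D.n = true → φ x * z * φ x = z⁻¹ := by
    intro x hl h
    have h1 := wprod_eq_of_actP ρ1 hinj φ hsq Suza.D Suza.inv_ok hρ1' _ _ hl (by decide) h
    rw [wprod_cons, wprod_append, wprod_cons, wprod_nil, mul_one, wprod_reverse φ hsq] at h1
    rw [mul_assoc]
    exact h1
  have hz : ∀ x ∈ [0, 1, 2, 3, 5, 6], φ x * z * φ x = z ∨ φ x * z * φ x = z⁻¹ := by
    intro x hx
    simp only [List.mem_cons, List.not_mem_nil, or_false] at hx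
    rcases hx with rfl | rfl | rfl | rfl | rfl | rfl
    · exact Or.inl (zplus 0 (by decide) SuzZid.zid0)
    · exact Or.inl (zplus 1 (by decide) SuzZid.zid1)
    · exact Or.inl (zplus 2 (by decide) SuzZid.zid2)
    · exact Or.inr (zminus 3 (by decide) SuzZid.zid3)
    · exact Or.inl (zplus 5 (by decide) SuzZid.zid5)
    · exact Or.inl (zplus 6 (by decide) SuzZid.zid6)
  have hAH := zpowers_normalized φ hsq [0, 1, 2, 3, 5, 6] z hz
  have hgen : Subgroup.normalClosure ((Subgroup.zpowers z : Subgroup Suz) : Set Suz) = ⊤ := by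
    rw [eq_top_iff, ← normalClosure_z]
    apply Subgroup.normalClosure_mono
    intro x hx
    rw [Set.mem_singleton_iff] at hx
    rw [hx]
    exact Subgroup.mem_zpowers z
  refine ⟨simple_of_iwasawa (LS φ [0, 1, 2, 3, 5, 6]) (Subgroup.zpowers z) hmax2 ?_ ?_ hAH hgen
    perfect, cG⟩
  · intro h
    rw [h, Subgroup.index_top] at hidx2
    norm_num at hidx2
  · intro g hg
    have hmem : g ∈ (LS φ [0, 1, 2, 3, 5, 6]).normalCore := hg
    rw [hcoreB] at hmem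
    exact Subgroup.mem_bot.1 hmem


/-- The presented sporadic Suzuki group is simple of the expected order (that is, it is a simple group of the order of the sporadic Suzuki group). -/
theorem result : Cfsg.IsSuz Cfsg.Spor.Suz := by
  exact main_aux

end Cfsg.Agent.S1694
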