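import Cfsg.Statements.S1679
import Cfsg.Agent.S1694
import Cfsg.Agent.Lib.helper35.CosetSS
import Cfsg.Agent.Lib.helper35.G2G
import Cfsg.Agent.Lib.helper35.G2C

set_option autoImplicit false
set_option maxRecDepth 100000
open Cfsg

namespace Cfsg.Agent.S1679

open Cfsg.Agent.Lib.helper35 Cfsg.Spor Cfsg.Agent.Lib.helper35.SpF Cfsg.Agent.Lib.helper35.G2F
  Cfsg.Agent.Lib.helper35.G2T Cfsg.Agent.Lib.helper35.G2O

local notation "φ" => S1694.φ

/-- the subgroup generated by `a, …, f` -/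
def HS : Subgroup Suz := LS φ [0, 1, 2, 3, 4, 5]

/-- the facts about the permutation representation of `Suz` on the 1782 cosets of `HS` -/
structure Rep (ρ : Suz →* Equiv.Perm ℕ) : Prop where
  gen : ∀ l, l < Suza.D.K → ∀ c, ρ (φ l) c = sig Suza.D l c
  lt : ∀ g c, c < 1782 → ρ g c < 1782
  tree : ∀ c, 1 ≤ c → c < 1366 → ∃ g ∈ HS, ρ g 1 = c
  orb : ∀ g ∈ HS, ∀ c, (1 ≤ c ∧ c < 1366) ↔ (1 ≤ ρ g c ∧ ρ g c < 1366)

theorem rho_mul (ρ : Suz →* Equiv.Perm ℕ) (a b : Suz) (c : ℕ) : ρ (a * b) c = ρ a (ρ b c) := by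
  rw [map_mul, Equiv.Perm.mul_apply]

theorem exists_rep : ∃ ρ : Suz →* Equiv.Perm ℕ, Rep ρ := by
  obtain ⟨ρ, hρ, -, htr, hlt0, -, htree, horb⟩ :=
    CoxIndex.main2 S1694.checksA {y | y ∈ S1694.ysA} (fun y => Iff.rfl)
  rw [S1694.HA_eq] at htree horb
  have hn : Suza.D.n = 1782 := rfl
  rw [hn] at htr hlt0
  have hlt : ∀ g c, c < 1782 → ρ g c < 1782 := by
    intro g c hc
    obtain ⟨b, hb⟩ := htr c hc
    rw [← hb, ← rho_mul]
    exact hlt0 _
  have m1 : ((1, 1365, [6]) : ℕ × ℕ × List ℕ) ∈ Suza.orbs := by decide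
  exact ⟨ρ, ⟨hρ, hlt, fun c h1 h2 => htree _ m1 c h1 (by show c < 1 + 1365; omega),
    fun g hg c => horb _ m1 g hg c⟩⟩

theorem card_Suz : Nat.card Suz = 448345497600 := S1694.order_facts.1

theorem finite_Suz : Finite Suz := Nat.finite_of_card_ne_zero (by rw [card_Suz]; norm_num)

theorem card_HS : Nat.card ↥HS = 251596800 := by
  obtain ⟨cG, -, -, hidx, -⟩ := S1694.order_facts
  have hidx' : HS.index = 1782 := hidx
  have h := Subgroup.card_mul_index HS
  rw [hidx', cG] at h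
  omega

theorem lt_K {l : ℕ} (hl : l < 6) : l < Suza.D.K := by
  show l < 7
  omega

section Rep

variable {ρ : Suz →* Equiv.Perm ℕ}

theorem ev (R : Rep ρ) (w : List ℕ) (hw : ∀ l ∈ w, l < Suza.D.K) (c : ℕ) (hc : c < Suza.D.n) :
    ρ (wprod φ w.reverse) c = actP Suza.D w c := by
  rw [rho_wprod ρ φ Suza.D R.gen w hw, ← (actP_eq Suza.inv_ok w hw c hc).1]

theorem letter_act (R : Rep ρ) (l : ℕ) (hl : l < 6) (p : ℕ) (hp : p < 1782) :
    ρ (φ l) p = actP Suza.D [l] p := by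
  have h2 := ev R [l] (by intro x hx; rw [List.mem_singleton] at hx; rw [hx]; exact lt_K hl) p hp
  rw [List.reverse_singleton, wprod_cons, wprod_nil, mul_one] at h2
  exact h2

theorem phi_mem {l : ℕ} (hl : l < 6) : φ l ∈ HS := by
  show φ l ∈ LS φ [0, 1, 2, 3, 4, 5]
  apply LS_mem
  simp only [List.mem_cons, List.not_mem_nil, or_false]
  omega

theorem wprod_mem_HS (w : List ℕ) (hw : ∀ l ∈ w, l < 6) : wprod φ w ∈ HS := by
  apply wprod_mem_LS
  intro l hl
  have := hw l hl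
  simp only [List.mem_cons, List.not_mem_nil, or_false]
  omega

/-! ### An element of `HS` fixing three points is trivial -/

theorem fix_base (R : Rep ρ) (h : Suz) (hh : h ∈ HS) (h1 : ρ h 1 = 1) (h2 : ρ h b2 = b2)
    (h3 : ρ h b3 = b3) : h = 1 := by
  have := finite_Suz
  have hgK : ∀ {gens : List (List ℕ)}, (∀ w ∈ gens, ∀ l ∈ w, l < 6) →
      ∀ w ∈ gens, ∀ l ∈ w, l < Suza.D.K := fun hg w hw l hl => lt_K (hg w hw l hl)
  have hrev : ∀ (w : List ℕ), (∀ l ∈ w, l < 6) → wprod φ w.reverse ∈ HS := by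
    intro w hw
    apply wprod_mem_HS
    intro l hl
    exact hw l (List.mem_reverse.1 hl)
  -- the first orbit
  have m1 : (Finset.Ico 1 1366).card * Nat.card ↥(stabS ρ HS 1) ≤ Nat.card ↥HS := by
    apply card_stabS_le ρ HS 1
    intro c hc
    rw [Finset.mem_Ico] at hc
    exact R.tree c hc.1 hc.2
  -- the second orbit
  have hL2 : ∀ w ∈ gens2, wprod φ w.reverse ∈ stabS ρ HS 1 := by
    intro w hw
    obtain ⟨a1, a2⟩ := gens2_ok w hw
    rw [mem_stabS]
    refine ⟨hrev w a1, ?_⟩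
    rw [ev R w (fun l hl => lt_K (a1 l hl)) 1 (by show 1 < 1782; norm_num)]
    exact a2
  have m2 : ((Finset.range 1782).filter (fun c => tt2 c ≠ 0)).card *
      Nat.card ↥(stabS ρ (stabS ρ HS 1) b2) ≤ Nat.card ↥(stabS ρ HS 1) := by
    apply card_stabS_le ρ (stabS ρ HS 1) b2
    intro c hc
    rw [Finset.mem_filter, Finset.mem_range] at hc
    exact orbit_of_otW ρ φ Suza.D Suza.inv_ok R.gen (stabS ρ HS 1) gens2
      (fun w hw l hl => lt_K ((gens2_ok w hw).1 l hl)) hL2 tt2 b2 ot2 c hc.1 hc.2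
  -- the third orbit
  have hL3 : ∀ w ∈ gens3, wprod φ w.reverse ∈ stabS ρ (stabS ρ HS 1) b2 := by
    intro w hw
    obtain ⟨a1, a2, a3⟩ := gens3_ok w hw
    rw [mem_stabS, mem_stabS]
    refine ⟨⟨hrev w a1, ?_⟩, ?_⟩
    · rw [ev R w (fun l hl => lt_K (a1 l hl)) 1 (by show 1 < 1782; norm_num)]
      exact a2
    · rw [ev R w (fun l hl => lt_K (a1 l hl)) b2 (by decide)]
      exact a3
  have m3 : ((Finset.range 1782).filter (fun c => tt3 c ≠ 0)).card *
      Nat.card ↥(stabS ρ (stabS ρ (stabS ρ HS 1) b2) b3) ≤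
        Nat.card ↥(stabS ρ (stabS ρ HS 1) b2) := by
    apply card_stabS_le ρ (stabS ρ (stabS ρ HS 1) b2) b3
    intro c hc
    rw [Finset.mem_filter, Finset.mem_range] at hc
    exact orbit_of_otW ρ φ Suza.D Suza.inv_ok R.gen (stabS ρ (stabS ρ HS 1) b2) gens3
      (fun w hw l hl => lt_K ((gens3_ok w hw).1 l hl)) hL3 tt3 b3 ot3 c hc.1 hc.2
  have c1 : (Finset.Ico 1 1366).card = 1365 := by simp
  have c2 : ((Finset.range 1782).filter (fun c => tt2 c ≠ 0)).card = 1024 := by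
    have := countNZ_eq tt2 1782 0
    rw [cnt2] at this
    omega
  have c3 : ((Finset.range 1782).filter (fun c => tt3 c ≠ 0)).card = 180 := by
    have := countNZ_eq tt3 1782 0
    rw [cnt3] at this
    omega
  rw [c1, card_HS] at m1
  rw [c2] at m2
  rw [c3] at m3
  have hle : Nat.card ↥(stabS ρ (stabS ρ (stabS ρ HS 1) b2) b3) ≤ 1 := by omega
  have hsub : Subsingleton ↥(stabS ρ (stabS ρ (stabS ρ HS 1) b2) b3) :=
    Finite.card_le_one_iff_subsingleton.1 hle
  have hmem : h ∈ stabS ρ (stabS ρ (stabS ρ HS 1) b2) b3 := by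
    rw [mem_stabS, mem_stabS, mem_stabS]
    exact ⟨⟨⟨hh, h1⟩, h2⟩, h3⟩
  have e := Subsingleton.elim (⟨h, hmem⟩ : ↥(stabS ρ (stabS ρ (stabS ρ HS 1) b2) b3)) 1
  exact congrArg Subtype.val e

/-! ### Matrices acting as elements of `HS` -/

/-- the matrix `A` acts on the vectors of the 1365 points as `g` acts on the points -/
def Eqv (ρ : Suz →* Equiv.Perm ℕ) (g : Suz) (A : GL I14 F4) : Prop :=
  ∀ p, 1 ≤ p → p < 1366 → ∃ μ : F4, μ ≠ 0 ∧ A • toW (vt p) = μ • toW (vt (ρ g p))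

theorem Eqv_one : Eqv ρ 1 1 := fun p _ _ =>
  ⟨1, one_ne_zero, by rw [one_smul, one_smul, map_one ρ]; rfl⟩

theorem Eqv_mul (R : Rep ρ) {g g' : Suz} {A A' : GL I14 F4} (hg' : g' ∈ HS) (h : Eqv ρ g A)
    (h' : Eqv ρ g' A') : Eqv ρ (g * g') (A * A') := by
  intro p hp1 hp2
  obtain ⟨μ', hμ', e'⟩ := h' p hp1 hp2
  obtain ⟨q1, q2⟩ := (R.orb g' hg' p).1 ⟨hp1, hp2⟩
  obtain ⟨μ, hμ, e⟩ := h (ρ g' p) q1 q2
  refine ⟨μ' * μ, mul_ne_zero hμ' hμ, ?_⟩
  rw [mul_smul A A', e', smul_smul', e, smul_smul, rho_mul ρ g g' p]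

theorem Eqv_inv (R : Rep ρ) {g : Suz} {A : GL I14 F4} (hg : g ∈ HS) (h : Eqv ρ g A) :
    Eqv ρ g⁻¹ A⁻¹ := by
  intro p hp1 hp2
  obtain ⟨q1, q2⟩ := (R.orb g⁻¹ (HS.inv_mem hg) p).1 ⟨hp1, hp2⟩
  obtain ⟨μ, hμ, e⟩ := h (ρ g⁻¹ p) q1 q2
  have e1 : ρ g (ρ g⁻¹ p) = p := by
    rw [← rho_mul ρ g g⁻¹ p, mul_inv_cancel, map_one ρ]
    rfl
  rw [e1] at e
  refine ⟨μ⁻¹, inv_ne_zero hμ, ?_⟩
  have e2 : A⁻¹ • (μ • toW (vt p)) = toW (vt (ρ g⁻¹ p)) := by rw [← e, inv_smul_smul]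
  rw [smul_smul'] at e2
  calc A⁻¹ • toW (vt p) = μ⁻¹ • (μ • (A⁻¹ • toW (vt p))) := by
        rw [smul_smul, inv_mul_cancel₀ hμ, one_smul]
    _ = μ⁻¹ • toW (vt (ρ g⁻¹ p)) := by rw [e2]

/-! ### The root elements -/

/-- the root element with the number `k` -/
def xgc (k : ℕ) : GL I14 F4 := xg ⟨k / 4 % 12, Nat.mod_lt _ (by norm_num)⟩ (f4 (k % 4))

theorem code_eq : ∀ k, k < 48 → 4 * (k / 4 % 12) + n4 (f4 (k % 4)) = k := by decide

theorem xgc_smul (k : ℕ) (hk : k < 48) (x : V14) : xgc k • toW x = toW (mvS (XS k) x) := by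
  unfold xgc
  rw [xg_smul]
  show toW (mvS (XS (4 * (k / 4 % 12) + n4 (f4 (k % 4)))) x) = _
  rw [code_eq k hk]

theorem xg_eq_xgc (r : Fin 12) (t : F4) : xg r t = xgc (4 * r.val + n4 t) := by
  have h2 : n4 t < 4 := by cases t <;> decide
  have e1 : (4 * r.val + n4 t) / 4 % 12 = r.val := by
    have := r.isLt
    omega
  have e2 : f4 ((4 * r.val + n4 t) % 4) = t := by
    have e3 : (4 * r.val + n4 t) % 4 = n4 t := by omega
    rw [e3]
    cases t <;> rfl
  unfold xgc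
  congr 1
  · exact Fin.ext e1.symm
  · exact e2.symm

/-- the product of the root elements of a word -/
def gw (w : List ℕ) : GL I14 F4 := (w.map xgc).prod

theorem gw_cons (k : ℕ) (w : List ℕ) : gw (k :: w) = xgc k * gw w := by
  unfold gw
  rw [List.map_cons, List.prod_cons]

theorem gw_mem (w : List ℕ) : gw w ∈ G2 := by
  unfold gw
  apply Subgroup.list_prod_mem
  intro x hx
  obtain ⟨k, -, rfl⟩ := List.mem_map.1 hx
  exact xg_mem _ _

theorem gw_smul (w : List ℕ) (hw : ∀ k ∈ w, k < 48) (x : V14) :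
    gw w • toW x = toW (mvw w x) := by
  induction w with
  | nil =>
    show (1 : GL I14 F4) • toW x = toW x
    exact one_smul _ _
  | cons k w ih =>
    rw [gw_cons, mul_smul, ih (fun k' hk' => hw k' (List.mem_cons_of_mem _ hk')),
      xgc_smul k (hw k List.mem_cons_self)]
    rfl

/-- two invertible matrices agreeing on the coordinate vectors are equal -/
theorem GL_ext (A B : GL I14 F4)
    (h : ∀ j : I14, A • (Pi.single j 1 : W14) = B • (Pi.single j 1 : W14)) : A = B := by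
  have h1 : A⁻¹ * B = 1 := by
    apply Units.ext
    show ((A⁻¹ * B : GL I14 F4) : Matrix I14 I14 F4) = 1
    apply mat_eq_one
    intro j
    show (A⁻¹ * B) • (Pi.single j 1 : W14) = Pi.single j 1
    rw [mul_smul, ← h j, inv_smul_smul]
  exact inv_mul_eq_one.1 h1

/-- every root element is a product of the root elements of `dirL` -/
theorem xgc_eq (k : ℕ) (hk : k < 48) : xgc k = gw (dw k) := by
  apply GL_ext
  intro j
  have e : (Pi.single j 1 : W14) = toW (ofW (Pi.single j 1)) := (toW_ofW _).symm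
  rw [e, xgc_smul k hk, gw_smul _ (fun x hx => dir_lt x (dw_dir k hk x hx))]
  exact congrArg toW (eq14_spec (dchk k hk j))

/-- the element of `HS` acting as the root element `k` of `dirL` -/
def gH (k : ℕ) : Suz := wprod φ (rw k).reverse

theorem gH_mem (k : ℕ) (hk : k ∈ dirL) : gH k ∈ HS := by
  apply wprod_mem_HS
  intro l hl
  exact rw_lt k hk l (List.mem_reverse.1 hl)

theorem rho_gH (R : Rep ρ) (k : ℕ) (hk : k ∈ dirL) (c : ℕ) (hc : c < 1782) :
    ρ (gH k) c = actP Suza.D (rw k) c :=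
  ev R (rw k) (fun l hl => lt_K (rw_lt k hk l hl)) c hc

theorem Eqv_dir (R : Rep ρ) (k : ℕ) (hk : k ∈ dirL) : Eqv ρ (gH k) (xgc k) := by
  intro p hp1 hp2
  have h1 := allRange_spec (root_chk k hk) p hp1 (by omega)
  unfold eqvB at h1
  rw [← rho_gH R k hk p (by omega)] at h1
  obtain ⟨μ, hμ, e⟩ := pe14_spec h1
  exact ⟨μ, hμ, by rw [xgc_smul k (dir_lt k hk), e]⟩

/-- the product of the elements of `HS` of a word in the root elements of `dirL` -/
def GH (w : List ℕ) : Suz := (w.map gH).prod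

theorem GH_cons (k : ℕ) (w : List ℕ) : GH (k :: w) = gH k * GH w := by
  unfold GH
  rw [List.map_cons, List.prod_cons]

theorem GH_mem (w : List ℕ) (hw : ∀ k ∈ w, k ∈ dirL) : GH w ∈ HS := by
  unfold GH
  apply Subgroup.list_prod_mem
  intro x hx
  obtain ⟨k, hk, rfl⟩ := List.mem_map.1 hx
  exact gH_mem k (hw k hk)

theorem Eqv_GH (R : Rep ρ) (w : List ℕ) (hw : ∀ k ∈ w, k ∈ dirL) : Eqv ρ (GH w) (gw w) := by
  induction w with
  | nil => exact Eqv_one
  | cons k w ih =>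
    have hw' : ∀ k' ∈ w, k' ∈ dirL := fun k' hk' => hw k' (List.mem_cons_of_mem _ hk')
    rw [GH_cons, gw_cons]
    exact Eqv_mul R (GH_mem w hw') (Eqv_dir R k (hw k List.mem_cons_self)) (ih hw')

theorem rho_GH (R : Rep ρ) (w : List ℕ) (hw : ∀ k ∈ w, k ∈ dirL) (c : ℕ) (hc : c < 1782) :
    ρ (GH w) c = actD w c := by
  induction w with
  | nil =>
    show ρ 1 c = c
    rw [map_one]
    rfl
  | cons k w ih =>
    have hw' : ∀ k' ∈ w, k' ∈ dirL := fun k' hk' => hw k' (List.mem_cons_of_mem _ hk')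
    have h1 := ih hw'
    have h2 : actD w c < 1782 := by
      rw [← h1]
      exact R.lt _ _ hc
    rw [GH_cons, rho_mul, h1, rho_gH R k (hw k List.mem_cons_self) _ h2]
    rfl

theorem Eqv_xg (R : Rep ρ) (r : Fin 12) (t : F4) : ∃ g ∈ HS, Eqv ρ g (xg r t) := by
  have hk := code_lt r t
  rw [xg_eq_xgc, xgc_eq _ hk]
  exact ⟨GH (dw (4 * r.val + n4 t)), GH_mem _ (dw_dir _ hk), Eqv_GH R _ (dw_dir _ hk)⟩

/-- the generators `a, …, f` as products of the elements acting as root elements -/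
theorem letter_eq (R : Rep ρ) (l : ℕ) (hl : l < 6) : φ l = GH (lwD l) := by
  have hdir := lwD_dir l hl
  have hmem : (φ l)⁻¹ * GH (lwD l) ∈ HS :=
    HS.mul_mem (HS.inv_mem (phi_mem hl)) (GH_mem _ hdir)
  have r2 := inR_spec base_rng.1
  have r3 := inR_spec base_rng.2
  have key : ∀ b ∈ [1, b2, b3], b < 1782 → ρ ((φ l)⁻¹ * GH (lwD l)) b = b := by
    intro b hb hb'
    rw [rho_mul, rho_GH R _ hdir b hb', let_chk l hl b hb, ← letter_act R l hl b hb',
      ← rho_mul, inv_mul_cancel, map_one]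
    rfl
  have h1 := fix_base R _ hmem (key 1 (by simp) (by norm_num)) (key b2 (by simp) (by omega))
    (key b3 (by simp) (by omega))
  exact (inv_mul_eq_one.1 h1)

theorem Eqv_letter (R : Rep ρ) (l : ℕ) (hl : l < 6) : Eqv ρ (φ l) (gw (lwD l)) := by
  rw [letter_eq R l hl]
  exact Eqv_GH R _ (lwD_dir l hl)

/-! ### An element of the group fixing the 1365 points is trivial -/

theorem chain_spec (E : GL I14 F4)
    (hE : ∀ p, 1 ≤ p → p < 1366 → ∃ ν : F4, E • toW (vt p) = ν • toW (vt p)) :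
    ∀ (l : List (ℕ × ℕ × F4 × F4)) (s : ℕ) (μ : F4), chainOK s l = true →
      E • toW (vt s) = μ • toW (vt s) → ∀ e ∈ l, E • toW (vt e.1) = μ • toW (vt e.1) := by
  intro l
  induction l with
  | nil =>
    intro s μ _ _ e he
    exact absurd he List.not_mem_nil
  | cons e0 rest ih =>
    intro s μ hok hs e he
    obtain ⟨s', r, a, b⟩ := e0
    have hok' : (inR s' && inR r && eq14 (vt r) (add14 (smul14 a (vt s)) (smul14 b (vt s'))) &&
        linkB (vt s) (vt s') a b && chainOK s' rest) = true := hok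
    simp only [Bool.and_eq_true] at hok'
    obtain ⟨⟨⟨⟨h1, h2⟩, h3⟩, h4⟩, h5⟩ := hok'
    obtain ⟨a1, a2⟩ := inR_spec h1
    obtain ⟨b1, b2'⟩ := inR_spec h2
    obtain ⟨ν, hν⟩ := hE s' a1 a2
    obtain ⟨κ, hκ⟩ := hE r b1 b2'
    have hr : toW (vt r) = a • toW (vt s) + b • toW (vt s') := by
      rw [eq14_spec h3, toW_add14, toW_smul14, toW_smul14]
    have key : add14 (smul14 (a * μ) (vt s)) (smul14 (b * ν) (vt s')) =
        smul14 κ (add14 (smul14 a (vt s)) (smul14 b (vt s'))) := by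
      apply toW_injective
      rw [toW_add14, toW_smul14, toW_smul14, toW_smul14, toW_add14, toW_smul14, toW_smul14,
        ← hr, ← hκ, hr, smul_add', smul_smul', smul_smul', hs, hν, smul_smul, smul_smul]
    unfold linkB at h4
    have h6 : (!(eq14 (add14 (smul14 (a * μ) (vt s)) (smul14 (b * ν) (vt s')))
        (smul14 κ (add14 (smul14 a (vt s)) (smul14 b (vt s'))))) ||
          (beq4 μ κ && beq4 ν κ)) = true := allF4_spec (allF4_spec (allF4_spec h4 μ) ν) κ
    rw [key, eq14_self] at h6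
    simp only [Bool.not_true, Bool.false_or, Bool.and_eq_true] at h6
    have e1 : μ = κ := beq4_spec h6.1
    have e2 : ν = κ := beq4_spec h6.2
    have hnext : E • toW (vt s') = μ • toW (vt s') := by rw [hν, e2, e1]
    rcases List.mem_cons.1 he with rfl | he'
    · exact hnext
    · exact ih s' μ h5 hnext e he'

theorem lin_spec (E : GL I14 F4) (μ : F4) (cs : List (F4 × ℕ))
    (h : ∀ e ∈ cs, E • toW (vt e.2) = μ • toW (vt e.2)) :
    E • toW (lin cs) = μ • toW (lin cs) := by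
  induction cs with
  | nil =>
    show E • toW zero14 = μ • toW zero14
    rw [toW_zero14, G2F.smul_zero', smul_zero]
  | cons e cs ih =>
    have e1 : lin (e :: cs) = add14 (smul14 e.1 (vt e.2)) (lin cs) := rfl
    rw [e1, toW_add14, toW_smul14, smul_add', smul_smul', h e List.mem_cons_self,
      ih (fun e' he' => h e' (List.mem_cons_of_mem _ he')), smul_add, smul_comm μ e.1]

/-- an element of the group mapping the vector of each point to a multiple of itself is trivial -/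
theorem scalar_of_fix (E : GL I14 F4) (hE : E ∈ G2)
    (h : ∀ p, 1 ≤ p → p < 1366 → ∃ ν : F4, E • toW (vt p) = ν • toW (vt p)) : E = 1 := by
  obtain ⟨μ, hμ⟩ := h 1 (le_refl _) (by norm_num)
  have hw : ∀ p ∈ G2T.walk, E • toW (vt p) = μ • toW (vt p) := by
    intro p hp
    unfold G2T.walk at hp
    rcases List.mem_cons.1 hp with rfl | hp'
    · exact hμ
    · obtain ⟨e, he, rfl⟩ := List.mem_map.1 hp'
      exact chain_spec E h chain 1 μ chain_ok hμ e he
  apply eq_one_of_scalar E hE μ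
  intro j
  have e1 : (Pi.single j 1 : W14) = toW (lin (coef (code j))) := by
    rw [eq14_spec (coef_ok j), toW_ofW]
  rw [e1]
  apply lin_spec
  intro e he
  exact hw e.2 (coef_mem (code j) (code_lt14 j) e he)

theorem smul14_one (x : V14) : smul14 1 x = x := by
  simp [smul14]

theorem pe14_of_smul (c : F4) (hc : c ≠ 0) (x : V14) : pe14 (smul14 c x) x = true := by
  unfold pe14
  cases c
  · exact absurd rfl hc
  · have e : smul14 F4.i x = x := smul14_one x
    rw [e, eq14_self]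
    rfl
  · rw [eq14_self]
    simp
  · rw [eq14_self]
    simp

/-- an element acting as the identity matrix fixes the base points -/
theorem fix_of_Eqv_one (R : Rep ρ) (h : Suz) (hh : h ∈ HS) (hE : Eqv ρ h 1) (b : ℕ)
    (hb : b ∈ [1, b2, b3]) (hb1 : 1 ≤ b) (hb2 : b < 1366) : ρ h b = b := by
  obtain ⟨μ, hμ, e⟩ := hE b hb1 hb2
  rw [one_smul] at e
  obtain ⟨q1, q2⟩ := (R.orb h hh b).1 ⟨hb1, hb2⟩
  have e3 : toW (vt (ρ h b)) = toW (smul14 μ⁻¹ (vt b)) := by
    rw [toW_smul14, e, smul_smul, inv_mul_cancel₀ hμ, one_smul]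
  have e4 := toW_injective e3
  have h1 : (Nat.beq (ρ h b) b || !(pe14 (vt (ρ h b)) (vt b))) = true :=
    allRange_spec (uniq b hb) (ρ h b) q1 (by omega)
  rw [e4, pe14_of_smul _ (inv_ne_zero hμ)] at h1
  simp only [Bool.not_true, Bool.or_false] at h1
  exact nbeq_iff.1 h1

/-! ### The isomorphism -/

theorem main : Nonempty (↥HS ≃* ↥G2) := by
  obtain ⟨ρ, R⟩ := exists_rep
  have hex : ∀ h : ↥HS, ∃ A : GL I14 F4, A ∈ G2 ∧ Eqv ρ h.1 A := by
    let T : Subgroup Suz :=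
      { carrier := {g | g ∈ HS ∧ ∃ A : GL I14 F4, A ∈ G2 ∧ Eqv ρ g A}
        mul_mem' := by
          rintro a b ⟨ha, A, hA1, hA⟩ ⟨hb, B, hB1, hB⟩
          exact ⟨HS.mul_mem ha hb, A * B, G2.mul_mem hA1 hB1, Eqv_mul R hb hA hB⟩
        one_mem' := ⟨HS.one_mem, 1, G2.one_mem, Eqv_one⟩
        inv_mem' := by
          rintro a ⟨ha, A, hA1, hA⟩
          exact ⟨HS.inv_mem ha, A⁻¹, G2.inv_mem hA1, Eqv_inv R ha hA⟩ }
    have hle : HS ≤ T := by
      unfold HS LS
      rw [Subgroup.closure_le]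
      rintro _ ⟨l, hl, rfl⟩
      have hl6 : l < 6 := by
        simp only [List.mem_cons, List.not_mem_nil, or_false] at hl
        omega
      exact ⟨LS_mem φ hl, gw (lwD l), gw_mem _, Eqv_letter R l hl6⟩
    intro h
    exact (hle h.2).2
  choose Am hAm1 hAm using hex
  have huniq : ∀ (h : ↥HS) (B : GL I14 F4), B ∈ G2 → Eqv ρ h.1 B → B = Am h := by
    intro h B hB1 hB
    have h1 : (Am h)⁻¹ * B = 1 := by
      apply scalar_of_fix _ (G2.mul_mem (G2.inv_mem (hAm1 h)) hB1)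
      intro p hp1 hp2
      obtain ⟨μ, hμ, e⟩ := hAm h p hp1 hp2
      obtain ⟨ν, hν, e'⟩ := hB p hp1 hp2
      have e2 : (Am h)⁻¹ • toW (vt (ρ h.1 p)) = μ⁻¹ • toW (vt p) := by
        have h1 : (Am h)⁻¹ • (μ • toW (vt (ρ h.1 p))) = toW (vt p) := by
          rw [← e, inv_smul_smul]
        rw [smul_smul'] at h1
        calc (Am h)⁻¹ • toW (vt (ρ h.1 p))
            = μ⁻¹ • (μ • ((Am h)⁻¹ • toW (vt (ρ h.1 p)))) := by
              rw [smul_smul, inv_mul_cancel₀ hμ, one_smul]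
          _ = μ⁻¹ • toW (vt p) := by rw [h1]
      refine ⟨ν * μ⁻¹, ?_⟩
      rw [mul_smul ((Am h)⁻¹) B, e', smul_smul', e2, smul_smul]
    exact (inv_mul_eq_one.1 h1).symm
  let ψ : ↥HS →* ↥G2 := MonoidHom.mk' (fun h => ⟨Am h, hAm1 h⟩) (by
    intro h h'
    apply Subtype.ext
    exact (huniq (h * h') _ (G2.mul_mem (hAm1 h) (hAm1 h'))
      (Eqv_mul R h'.2 (hAm h) (hAm h'))).symm)
  have hψ : ∀ h : ↥HS, ((ψ h : ↥G2) : GL I14 F4) = Am h := fun h => rfl
  have hinj : Function.Injective ψ := by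
    rw [injective_iff_map_eq_one]
    intro h hh
    have h1 : Am h = 1 := by
      rw [← hψ, hh]
      rfl
    have hE := hAm h
    rw [h1] at hE
    have r2 := inR_spec base_rng.1
    have r3 := inR_spec base_rng.2
    apply Subtype.ext
    exact fix_base R h.1 h.2
      (fix_of_Eqv_one R h.1 h.2 hE 1 (by simp) (le_refl _) (by norm_num))
      (fix_of_Eqv_one R h.1 h.2 hE b2 (by simp) r2.1 r2.2)
      (fix_of_Eqv_one R h.1 h.2 hE b3 (by simp) r3.1 r3.2)
  have hsurj : Function.Surjective ψ := by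
    let U : Subgroup (GL I14 F4) :=
      { carrier := {A | ∃ g : Suz, g ∈ HS ∧ Eqv ρ g A}
        mul_mem' := by
          rintro A B ⟨a, ha, hA⟩ ⟨b, hb, hB⟩
          exact ⟨a * b, HS.mul_mem ha hb, Eqv_mul R hb hA hB⟩
        one_mem' := ⟨1, HS.one_mem, Eqv_one⟩
        inv_mem' := by
          rintro A ⟨a, ha, hA⟩
          exact ⟨a⁻¹, HS.inv_mem ha, Eqv_inv R ha hA⟩ }
    have hle : G2 ≤ U := G2_le U (fun r t => Eqv_xg R r t)
    rintro ⟨A, hA⟩
    obtain ⟨g, hg, hE⟩ := hle hA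
    exact ⟨⟨g, hg⟩, Subtype.ext (huniq ⟨g, hg⟩ A hA hE).symm⟩
  exact ⟨MulEquiv.ofBijective ψ ⟨hinj, hsurj⟩⟩

end Rep

theorem main' (H : Subgroup Suz) (hH : H = HS) :
    ∃ (K : Type) (_ : Field K) (_ : Fintype K), Fintype.card K = 4 ∧
      Nonempty (↥H ≃* Cfsg.Lie.chevG2.group K) := by
  subst hH
  exact ⟨F4, inferInstance, inferInstance, F4.card, main⟩

/-- In the presented sporadic Suzuki group (generators a, …, g), the subgroup generated by the images of a, …, f is isomorphic to the adjoint Chevalley group of type G₂ over a field with four elements. -/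
theorem result : ∃ (K : Type) (_ : Field K) (_ : Fintype K), Fintype.card K = 4 ∧ Nonempty ((((Subgroup.closure ({Cfsg.Spor.Suz.a, Cfsg.Spor.Suz.b, Cfsg.Spor.Suz.c, Cfsg.Spor.Suz.d, Cfsg.Spor.Suz.e, Cfsg.Spor.Suz.f} : Set (FreeGroup Cfsg.Spor.Suz.Gen))).map (PresentedGroup.mk (Cfsg.Spor.coxRelators Cfsg.Spor.Suz.edges ∪ {r | r ∈ Cfsg.Spor.Suz.extra})))) ≃* Cfsg.Lie.chevG2.group K) := by
  have hset : ({Cfsg.Spor.Suz.a, Cfsg.Spor.Suz.b, Cfsg.Spor.Suz.c, Cfsg.Spor.Suz.d,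
      Cfsg.Spor.Suz.e, Cfsg.Spor.Suz.f} : Set (FreeGroup Cfsg.Spor.Suz.Gen)) =
      {y | y ∈ S1694.ysA} := by
    ext y
    simp [S1694.ysA]
  exact main' _ (by rw [hset]; exact S1694.HA_eq)

end Cfsg.Agent.S1679
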