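import Cfsg.Statements.S1680
import Cfsg.Agent.Lib.helper35.CosetGroup
import Cfsg.Agent.Lib.helper35.SuzaChecks

set_option autoImplicit false
open Cfsg

namespace Cfsg.Agent.S1680

open Cfsg.Agent.Lib.helper35 Cfsg.Spor

/-- numbering of the generators -/
def gen : ℕ → Suz.Gen
  | 0 => .a | 1 => .b | 2 => .c | 3 => .d | 4 => .e | 5 => .f | _ => .g

def code : Suz.Gen → ℕ
  | .a => 0 | .b => 1 | .c => 2 | .d => 3 | .e => 4 | .f => 5 | .g => 6

/-- the generators of the subgroup -/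
def ys : List (FreeGroup Suz.Gen) :=
  [Cfsg.Spor.Suz.a,
    Cfsg.Spor.Suz.b,
    Cfsg.Spor.Suz.c,
    Cfsg.Spor.Suz.d,
    Cfsg.Spor.Suz.e,
    Cfsg.Spor.Suz.f]

theorem pres : Pres Suz.edges gen code 7 where
  node := by intro x; cases x <;> decide
  gen_code := by intro x; cases x <;> rfl
  code_lt := by intro x; cases x <;> decide
  code_gen := by intro i hi; interval_cases i <;> rfl

theorem relW_eq : Suza.relW = relWords Suz.edges Suz.extra gen code 7 := by decide +kernel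

theorem subW_eq : Suza.subW = ys.map (wordOf code) := by decide +kernel

theorem checks : Checks Suz.edges Suz.extra gen code 7 Suza.C Suza.D Suza.relW Suza.subW
    Suza.orbs ys where
  pres := pres
  relW_eq := relW_eq
  subW_eq := subW_eq
  cK := rfl
  rows := Suza.rows_all
  fin := Suza.fin_all
  cM := by decide
  live0 := by decide +kernel
  cnt := Suza.cnt0
  rev := Suza.rev_ok
  wr := Suza.wr_ok
  ws := Suza.ws_ok
  dK := rfl
  dn := by decide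
  inv := Suza.inv_ok
  rel := Suza.rel_ok
  sub := Suza.sub_ok
  letters := Suza.letters_ok
  tile := Suza.tile_ok
  pos := Suza.pos_ok
  orb := Suza.orb_ok

theorem hY : ∀ y, y ∈ ({Cfsg.Spor.Suz.a, Cfsg.Spor.Suz.b, Cfsg.Spor.Suz.c, Cfsg.Spor.Suz.d, Cfsg.Spor.Suz.e, Cfsg.Spor.Suz.f} : Set (FreeGroup Cfsg.Spor.Suz.Gen)) ↔ y ∈ ys := by
  intro y
  simp only [ys, Set.mem_insert_iff, Set.mem_singleton_iff, List.mem_cons, List.not_mem_nil, or_false]


/-- In the presented sporadic Suzuki group, let H be the subgroup generated by the images of a, …, f. Then H has index 1782, H has orbits of sizes 416 and 1365 on the cosets of H other than H itself (with the index 1782 this makes the action rank 3). -/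
theorem result : (((Subgroup.closure ({Cfsg.Spor.Suz.a, Cfsg.Spor.Suz.b, Cfsg.Spor.Suz.c, Cfsg.Spor.Suz.d, Cfsg.Spor.Suz.e, Cfsg.Spor.Suz.f} : Set (FreeGroup Cfsg.Spor.Suz.Gen))).map (PresentedGroup.mk (Cfsg.Spor.coxRelators Cfsg.Spor.Suz.edges ∪ {r | r ∈ Cfsg.Spor.Suz.extra})))).index = 1782 ∧ ∃ q₁ q₂ : Cfsg.Spor.Suz ⧸ (((Subgroup.closure ({Cfsg.Spor.Suz.a, Cfsg.Spor.Suz.b, Cfsg.Spor.Suz.c, Cfsg.Spor.Suz.d, Cfsg.Spor.Suz.e, Cfsg.Spor.Suz.f} : Set (FreeGroup Cfsg.Spor.Suz.Gen))).map (PresentedGroup.mk (Cfsg.Spor.coxRelators Cfsg.Spor.Suz.edges ∪ {r | r ∈ Cfsg.Spor.Suz.extra})))), (MulAction.orbit (((Subgroup.closure ({Cfsg.Spor.Suz.a, Cfsg.Spor.Suz.b, Cfsg.Spor.Suz.c, Cfsg.Spor.Suz.d, Cfsg.Spor.Suz.e, Cfsg.Spor.Suz.f} : Set (FreeGroup Cfsg.Spor.Suz.Gen))).map (PresentedGroup.mk (Cfsg.Spor.coxRelators Cfsg.Spor.Suz.edges ∪ {r | r ∈ Cfsg.Spor.Suz.extra})))) q₁).ncard = 416 ∧ (MulAction.orbit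 (((Subgroup.closure ({Cfsg.Spor.Suz.a, Cfsg.Spor.Suz.b, Cfsg.Spor.Suz.c, Cfsg.Spor.Suz.d, Cfsg.Spor.Suz.e, Cfsg.Spor.Suz.f} : Set (FreeGroup Cfsg.Spor.Suz.Gen))).map (PresentedGroup.mk (Cfsg.Spor.coxRelators Cfsg.Spor.Suz.edges ∪ {r | r ∈ Cfsg.Spor.Suz.extra})))) q₂).ncard = 1365 := by
  obtain ⟨hidx, horb⟩ := CoxIndex.main checks _ hY
  refine ⟨hidx, ?_⟩
  obtain ⟨q1, h1⟩ := horb (nth (0, 0, []) Suza.orbs 2) (nth_mem_of_lt _ _ _ (by decide))
  obtain ⟨q2, h2⟩ := horb (nth (0, 0, []) Suza.orbs 1) (nth_mem_of_lt _ _ _ (by decide))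
  exact ⟨q1, q2, h1, h2⟩

end Cfsg.Agent.S1680
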