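import Cfsg.Statements.S1681
import Cfsg.Agent.Lib.helper35.CosetGroup
import Cfsg.Agent.Lib.helper35.SuzbChecks

set_option autoImplicit false
open Cfsg

namespace Cfsg.Agent.S1681

open Cfsg.Agent.Lib.helper35 Cfsg.Spor

/-- numbering of the generators -/
def gen : ℕ → Suz.Gen
  | 0 => .a | 1 => .b | 2 => .c | 3 => .d | 4 => .e | 5 => .f | _ => .g

def code : Suz.Gen → ℕ
  | .a => 0 | .b => 1 | .c => 2 | .d => 3 | .e => 4 | .f => 5 | .g => 6

/-- the generators of the subgroup -/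
def ys : List (FreeGroup Suz.Gen) :=
  [Cfsg.Spor.Suz.a,
    Cfsg.Spor.Suz.b,
    Cfsg.Spor.Suz.c,
    Cfsg.Spor.Suz.d,
    Cfsg.Spor.Suz.f,
    Cfsg.Spor.Suz.g]

theorem pres : Pres Suz.edges gen code 7 where
  node := by intro x; cases x <;> decide
  gen_code := by intro x; cases x <;> rfl
  code_lt := by intro x; cases x <;> decide
  code_gen := by intro i hi; interval_cases i <;> rfl

theorem relW_eq : Suzb.relW = relWords Suz.edges Suz.extra gen code 7 := by decide +kernel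

theorem subW_eq : Suzb.subW = ys.map (wordOf code) := by decide +kernel

theorem checks : Checks Suz.edges Suz.extra gen code 7 Suzb.C Suzb.D Suzb.relW Suzb.subW
    Suzb.orbs ys where
  pres := pres
  relW_eq := relW_eq
  subW_eq := subW_eq
  cK := rfl
  rows := Suzb.rows_all
  fin := Suzb.fin_all
  cM := by decide
  live0 := by decide +kernel
  cnt := Suzb.cnt0
  rev := Suzb.rev_ok
  wr := Suzb.wr_ok
  ws := Suzb.ws_ok
  dK := rfl
  dn := by decide
  inv := Suzb.inv_ok
  rel := Suzb.rel_ok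
  sub := Suzb.sub_ok
  letters := Suzb.letters_ok
  tile := Suzb.tile_ok
  pos := Suzb.pos_ok
  orb := Suzb.orb_ok

theorem hY : ∀ y, y ∈ ({Cfsg.Spor.Suz.a, Cfsg.Spor.Suz.b, Cfsg.Spor.Suz.c, Cfsg.Spor.Suz.d, Cfsg.Spor.Suz.f, Cfsg.Spor.Suz.g} : Set (FreeGroup Cfsg.Spor.Suz.Gen)) ↔ y ∈ ys := by
  intro y
  simp only [ys, Set.mem_insert_iff, Set.mem_singleton_iff, List.mem_cons, List.not_mem_nil, or_false]


/-- In the presented sporadic Suzuki group (generators a, …, g), the subgroup generated by the images of a, b, c, d, f, g has index 22880. -/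
theorem result : (((Subgroup.closure ({Cfsg.Spor.Suz.a, Cfsg.Spor.Suz.b, Cfsg.Spor.Suz.c, Cfsg.Spor.Suz.d, Cfsg.Spor.Suz.f, Cfsg.Spor.Suz.g} : Set (FreeGroup Cfsg.Spor.Suz.Gen))).map (PresentedGroup.mk (Cfsg.Spor.coxRelators Cfsg.Spor.Suz.edges ∪ {r | r ∈ Cfsg.Spor.Suz.extra})))).index = 22880 := by
  exact (CoxIndex.main checks _ hY).1

end Cfsg.Agent.S1681
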