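import Cfsg.Statements.S1682
import Cfsg.Agent.Lib.helper35.SpHe

set_option autoImplicit false
set_option maxRecDepth 100000
open Cfsg

namespace Cfsg.Agent.S1682

open Cfsg.Agent.Lib.helper35 Cfsg.Spor

/-- the statement for any subgroup equal to the subgroup of index 2058 -/
theorem main (H : Subgroup He) (hH : H = S1695.HA) :
    ∃ (N : Subgroup H) (K : Type) (_ : Field K) (_ : Fintype K), N.Normal ∧ N.index = 2 ∧
      Fintype.card K = 4 ∧ Nonempty (N ≃* Matrix.symplecticGroup (Fin 2) K) := by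
  subst hH
  obtain ⟨Nhe, hle, hcard, ⟨e⟩⟩ := SpHe.he_facts
  obtain ⟨cG, -, hidx, -⟩ := S1695.order_facts
  have hHA : Nat.card S1695.HA = 1958400 := by
    have := Subgroup.card_mul_index S1695.HA
    rw [hidx, cG] at this
    omega
  have hrel : Nhe.relIndex S1695.HA = 2 := by
    have := S1695.card_step hle
    rw [hcard, hHA] at this
    omega
  have hindex : (Nhe.subgroupOf S1695.HA).index = 2 := hrel
  exact ⟨Nhe.subgroupOf S1695.HA, SpF.F4, inferInstance, inferInstance,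
    Subgroup.normal_of_index_eq_two hindex, hindex, SpF.F4.card,
    ⟨(Subgroup.subgroupOfEquivOfLe hle).trans e⟩⟩

/-- In the presented Held group, the subgroup H generated by the images of a, c, d, e, f, (ab)^2 and (bcde)^7 has a normal subgroup of index 2 isomorphic to the 4-dimensional symplectic group over a field with four elements. -/
theorem result : ∃ (N : Subgroup (((Subgroup.closure ({Cfsg.Spor.He.a, Cfsg.Spor.He.c, Cfsg.Spor.He.d, Cfsg.Spor.He.e, Cfsg.Spor.He.f, (Cfsg.Spor.He.a * Cfsg.Spor.He.b) ^ 2, (Cfsg.Spor.He.b * Cfsg.Spor.He.c * Cfsg.Spor.He.d * Cfsg.Spor.He.e) ^ 7} : Set (FreeGroup Cfsg.Spor.He.Gen))).map (PresentedGroup.mk (Cfsg.Spor.coxRelators Cfsg.Spor.He.edges ∪ {r | r ∈ Cfsg.Spor.He.extra}))))) (K : Type) (_ : Field K) (_ : Fintype K), N.Normal ∧ N.index = 2 ∧ Fintype.card K = 4 ∧ Nonempty (N ≃* Matrix.symplecticGroup (Fin 2) K) := by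
  have hset : ({Cfsg.Spor.He.a, Cfsg.Spor.He.c, Cfsg.Spor.He.d, Cfsg.Spor.He.e, Cfsg.Spor.He.f,
      (Cfsg.Spor.He.a * Cfsg.Spor.He.b) ^ 2,
      (Cfsg.Spor.He.b * Cfsg.Spor.He.c * Cfsg.Spor.He.d * Cfsg.Spor.He.e) ^ 7} :
      Set (FreeGroup Cfsg.Spor.He.Gen)) = {y | y ∈ S1695.ysA} := by
    ext y
    simp [S1695.ysA]
  exact main _ (by rw [hset]; rfl)

end Cfsg.Agent.S1682
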