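import Cfsg.Statements.S1683
import Cfsg.Agent.Lib.helper35.CosetGroup
import Cfsg.Agent.Lib.helper35.HeaChecks

set_option autoImplicit false
open Cfsg

namespace Cfsg.Agent.S1683

open Cfsg.Agent.Lib.helper35 Cfsg.Spor

/-- numbering of the generators -/
def gen : ℕ → He.Gen
  | 0 => .a | 1 => .b | 2 => .c | 3 => .d | 4 => .e | 5 => .f | _ => .g

def code : He.Gen → ℕ
  | .a => 0 | .b => 1 | .c => 2 | .d => 3 | .e => 4 | .f => 5 | .g => 6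

/-- the generators of the subgroup -/
def ys : List (FreeGroup He.Gen) :=
  [Cfsg.Spor.He.a,
    Cfsg.Spor.He.c,
    Cfsg.Spor.He.d,
    Cfsg.Spor.He.e,
    Cfsg.Spor.He.f,
    (Cfsg.Spor.He.a * Cfsg.Spor.He.b) ^ 2,
    (Cfsg.Spor.He.b * Cfsg.Spor.He.c * Cfsg.Spor.He.d * Cfsg.Spor.He.e) ^ 7]

theorem pres : Pres He.edges gen code 7 where
  node := by intro x; cases x <;> decide
  gen_code := by intro x; cases x <;> rfl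
  code_lt := by intro x; cases x <;> decide
  code_gen := by intro i hi; interval_cases i <;> rfl

theorem relW_eq : Hea.relW = relWords He.edges He.extra gen code 7 := by decide +kernel

theorem subW_eq : Hea.subW = ys.map (wordOf code) := by decide +kernel

theorem checks : Checks He.edges He.extra gen code 7 Hea.C Hea.D Hea.relW Hea.subW
    Hea.orbs ys where
  pres := pres
  relW_eq := relW_eq
  subW_eq := subW_eq
  cK := rfl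
  rows := Hea.rows_all
  fin := Hea.fin_all
  cM := by decide
  live0 := by decide +kernel
  cnt := Hea.cnt0
  rev := Hea.rev_ok
  wr := Hea.wr_ok
  ws := Hea.ws_ok
  dK := rfl
  dn := by decide
  inv := Hea.inv_ok
  rel := Hea.rel_ok
  sub := Hea.sub_ok
  letters := Hea.letters_ok
  tile := Hea.tile_ok
  pos := Hea.pos_ok
  orb := Hea.orb_ok

theorem hY : ∀ y, y ∈ ({Cfsg.Spor.He.a, Cfsg.Spor.He.c, Cfsg.Spor.He.d, Cfsg.Spor.He.e, Cfsg.Spor.He.f, (Cfsg.Spor.He.a * Cfsg.Spor.He.b) ^ 2, (Cfsg.Spor.He.b * Cfsg.Spor.He.c * Cfsg.Spor.He.d * Cfsg.Spor.He.e) ^ 7} : Set (FreeGroup Cfsg.Spor.He.Gen)) ↔ y ∈ ys := by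
  intro y
  simp only [ys, Set.mem_insert_iff, Set.mem_singleton_iff, List.mem_cons, List.not_mem_nil, or_false]


/-- In the presented Held group, let H be the subgroup generated by the images of a, c, d, e, f, (ab)^2 and (bcde)^7. Then H has index 2058, there are four distinct H-orbits on the cosets of H other than H itself, of sizes 136, 136, 425 and 1360. -/
theorem result : (((Subgroup.closure ({Cfsg.Spor.He.a, Cfsg.Spor.He.c, Cfsg.Spor.He.d, Cfsg.Spor.He.e, Cfsg.Spor.He.f, (Cfsg.Spor.He.a * Cfsg.Spor.He.b) ^ 2, (Cfsg.Spor.He.b * Cfsg.Spor.He.c * Cfsg.Spor.He.d * Cfsg.Spor.He.e) ^ 7} : Set (FreeGroup Cfsg.Spor.He.Gen))).map (PresentedGroup.mk (Cfsg.Spor.coxRelators Cfsg.Spor.He.edges ∪ {r | r ∈ Cfsg.Spor.He.extra})))).index = 2058 ∧ ∃ q₁ q₂ q₃ q₄ : Cfsg.Spor.He ⧸ (((Subgroup.closure ({Cfsg.Spor.He.a, Cfsg.Spor.He.c, Cfsg.Spor.He.d,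 Cfsg.Spor.He.e, Cfsg.Spor.He.f, (Cfsg.Spor.He.a * Cfsg.Spor.He.b) ^ 2, (Cfsg.Spor.He.b * Cfsg.Spor.He.c * Cfsg.Spor.He.d * Cfsg.Spor.He.e) ^ 7} : Set (FreeGroup Cfsg.Spor.He.Gen))).map (PresentedGroup.mk (Cfsg.Spor.coxRelators Cfsg.Spor.He.edges ∪ {r | r ∈ Cfsg.Spor.He.extra})))), MulAction.orbit (((Subgroup.closure ({Cfsg.Spor.He.a, Cfsg.Spor.He.c, Cfsg.Spor.He.d, Cfsg.Spor.He.e, Cfsg.Spor.He.f, (Cfsg.Spor.He.a * Cfsg.Spor.He.b) ^ 2, (Cfsg.Spor.He.b * Cfsg.Spor.He.c * Cfsg.Spor.He.d * Cfsg.Spor.He.e) ^ 7} : Set (FreeGroup Cfsg.Spor.He.Gen))).map (PresentedGroup.mk (Cfsg.Spor.coxRelators Cfsg.Spor.He.edges ∪ {r | r ∈ Cfsg.Spor.He.extra})))) q₁ ≠ MulAction.orbit (((Subgroup.closure ({Cfsg.Spor.He.a, Cfsg.Spor.He.c, Cfsg.Spor.He.d, Cfsg.Spor.He.e, Cfsg.Spor.He.f, (Cfsg.Spor.He.a * Cfsg.Spor.He.b) ^ 2, (Cfsg.Spor.He.b * Cfsg.Spor.He.c * Cfsg.Spor.He.d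 * Cfsg.Spor.He.e) ^ 7} : Set (FreeGroup Cfsg.Spor.He.Gen))).map (PresentedGroup.mk (Cfsg.Spor.coxRelators Cfsg.Spor.He.edges ∪ {r | r ∈ Cfsg.Spor.He.extra})))) q₂ ∧ (MulAction.orbit (((Subgroup.closure ({Cfsg.Spor.He.a, Cfsg.Spor.He.c, Cfsg.Spor.He.d, Cfsg.Spor.He.e, Cfsg.Spor.He.f, (Cfsg.Spor.He.a * Cfsg.Spor.He.b) ^ 2, (Cfsg.Spor.He.b * Cfsg.Spor.He.c * Cfsg.Spor.He.d * Cfsg.Spor.He.e) ^ 7} : Set (FreeGroup Cfsg.Spor.He.Gen))).map (PresentedGroup.mk (Cfsg.Spor.coxRelators Cfsg.Spor.He.edges ∪ {r | r ∈ Cfsg.Spor.He.extra})))) q₁).ncard = 136 ∧ (MulAction.orbit (((Subgroup.closure ({Cfsg.Spor.He.a, Cfsg.Spor.He.c, Cfsg.Spor.He.d, Cfsg.Spor.He.e, Cfsg.Spor.He.f, (Cfsg.Spor.He.a * Cfsg.Spor.He.b) ^ 2, (Cfsg.Spor.He.b * Cfsg.Spor.He.c * Cfsg.Spor.He.d * Cfsg.Spor.He.e) ^ 7} : Set (FreeGroup Cfsg.Spor.He.Gen))).map (PresentedGroup.mk (Cfsg.Spor.coxRelators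 Cfsg.Spor.He.edges ∪ {r | r ∈ Cfsg.Spor.He.extra})))) q₂).ncard = 136 ∧ (MulAction.orbit (((Subgroup.closure ({Cfsg.Spor.He.a, Cfsg.Spor.He.c, Cfsg.Spor.He.d, Cfsg.Spor.He.e, Cfsg.Spor.He.f, (Cfsg.Spor.He.a * Cfsg.Spor.He.b) ^ 2, (Cfsg.Spor.He.b * Cfsg.Spor.He.c * Cfsg.Spor.He.d * Cfsg.Spor.He.e) ^ 7} : Set (FreeGroup Cfsg.Spor.He.Gen))).map (PresentedGroup.mk (Cfsg.Spor.coxRelators Cfsg.Spor.He.edges ∪ {r | r ∈ Cfsg.Spor.He.extra})))) q₃).ncard = 425 ∧ (MulAction.orbit (((Subgroup.closure ({Cfsg.Spor.He.a, Cfsg.Spor.He.c, Cfsg.Spor.He.d, Cfsg.Spor.He.e, Cfsg.Spor.He.f, (Cfsg.Spor.He.a * Cfsg.Spor.He.b) ^ 2, (Cfsg.Spor.He.b * Cfsg.Spor.He.c * Cfsg.Spor.He.d * Cfsg.Spor.He.e) ^ 7} : Set (FreeGroup Cfsg.Spor.He.Gen))).map (PresentedGroup.mk (Cfsg.Spor.coxRelators Cfsg.Spor.He.edges ∪ {r | r ∈ Cfsg.Spor.He.extra})))) q₄).ncard = 1360 := by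
  obtain ⟨hidx, ψ, hψ, horb⟩ := CoxIndex.main' checks _ hY
  refine ⟨hidx, ?_⟩
  obtain ⟨q1, h1⟩ := horb (nth (0, 0, []) Hea.orbs 3) (nth_mem_of_lt _ _ _ (by decide))
  obtain ⟨q2, h2⟩ := horb (nth (0, 0, []) Hea.orbs 4) (nth_mem_of_lt _ _ _ (by decide))
  obtain ⟨q3, h3⟩ := horb (nth (0, 0, []) Hea.orbs 2) (nth_mem_of_lt _ _ _ (by decide))
  obtain ⟨q4, h4⟩ := horb (nth (0, 0, []) Hea.orbs 1) (nth_mem_of_lt _ _ _ (by decide))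
  have hn : ∀ (s : Set _) (a b : ℕ), ψ '' s = Set.Ico a b → s.ncard = b - a := by
    intro s a b hs
    rw [← Set.ncard_image_of_injective _ hψ, hs, ← Finset.coe_Ico, Set.ncard_coe_finset, Nat.card_Ico]
  refine ⟨q1, q2, q3, q4, ?_, ?_, ?_, ?_, ?_⟩
  · exact ne_of_image_Ico ψ h1 h2 (by decide) (by decide)
  · exact hn _ _ _ h1
  · exact hn _ _ _ h2
  · exact hn _ _ _ h3
  · exact hn _ _ _ h4

end Cfsg.Agent.S1683
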