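import Cfsg.Statements.S1685
import Cfsg.Agent.Lib.helper35.CosetGroup
import Cfsg.Agent.Lib.helper35.Fi22bChecks

set_option autoImplicit false
open Cfsg

namespace Cfsg.Agent.S1685

open Cfsg.Agent.Lib.helper35 Cfsg.Spor

/-- numbering of the generators -/
def gen : ℕ → Fi22.Gen
  | 0 => .a | 1 => .b | 2 => .c | 3 => .d | 4 => .e | 5 => .f | 6 => .g | 7 => .h | _ => .i

def code : Fi22.Gen → ℕ
  | .a => 0 | .b => 1 | .c => 2 | .d => 3 | .e => 4 | .f => 5 | .g => 6 | .h => 7 | .i => 8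

/-- the generators of the subgroup -/
def ys : List (FreeGroup Fi22.Gen) :=
  [Cfsg.Spor.Fi22.b,
    Cfsg.Spor.Fi22.c,
    Cfsg.Spor.Fi22.d,
    Cfsg.Spor.Fi22.e,
    Cfsg.Spor.Fi22.f,
    Cfsg.Spor.Fi22.g,
    Cfsg.Spor.Fi22.h,
    Cfsg.Spor.Fi22.i]

theorem pres : Pres Fi22.edges gen code 9 where
  node := by intro x; cases x <;> decide
  gen_code := by intro x; cases x <;> rfl
  code_lt := by intro x; cases x <;> decide
  code_gen := by intro i hi; interval_cases i <;> rfl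

theorem relW_eq : Fi22b.relW = relWords Fi22.edges Fi22.extra gen code 9 := by decide +kernel

theorem subW_eq : Fi22b.subW = ys.map (wordOf code) := by decide +kernel

theorem checks : Checks Fi22.edges Fi22.extra gen code 9 Fi22b.C Fi22b.D Fi22b.relW Fi22b.subW
    Fi22b.orbs ys where
  pres := pres
  relW_eq := relW_eq
  subW_eq := subW_eq
  cK := rfl
  rows := Fi22b.rows_all
  fin := Fi22b.fin_all
  cM := by decide
  live0 := by decide +kernel
  cnt := Fi22b.cnt0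
  rev := Fi22b.rev_ok
  wr := Fi22b.wr_ok
  ws := Fi22b.ws_ok
  dK := rfl
  dn := by decide
  inv := Fi22b.inv_ok
  rel := Fi22b.rel_ok
  sub := Fi22b.sub_ok
  letters := Fi22b.letters_ok
  tile := Fi22b.tile_ok
  pos := Fi22b.pos_ok
  orb := Fi22b.orb_ok

theorem hY : ∀ y, y ∈ ({Cfsg.Spor.Fi22.b, Cfsg.Spor.Fi22.c, Cfsg.Spor.Fi22.d, Cfsg.Spor.Fi22.e, Cfsg.Spor.Fi22.f, Cfsg.Spor.Fi22.g, Cfsg.Spor.Fi22.h, Cfsg.Spor.Fi22.i} : Set (FreeGroup Cfsg.Spor.Fi22.Gen)) ↔ y ∈ ys := by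
  intro y
  simp only [ys, Set.mem_insert_iff, Set.mem_singleton_iff, List.mem_cons, List.not_mem_nil, or_false]


/-- In the presented Fischer group Fi₂₂ (generators a, …, i), the subgroup generated by the images of b, c, d, e, f, g, h, i has index 14080. -/
theorem result : (((Subgroup.closure ({Cfsg.Spor.Fi22.b, Cfsg.Spor.Fi22.c, Cfsg.Spor.Fi22.d, Cfsg.Spor.Fi22.e, Cfsg.Spor.Fi22.f, Cfsg.Spor.Fi22.g, Cfsg.Spor.Fi22.h, Cfsg.Spor.Fi22.i} : Set (FreeGroup Cfsg.Spor.Fi22.Gen))).map (PresentedGroup.mk (Cfsg.Spor.coxRelators Cfsg.Spor.Fi22.edges ∪ {r | r ∈ Cfsg.Spor.Fi22.extra})))).index = 14080 := by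
  exact (CoxIndex.main checks _ hY).1

end Cfsg.Agent.S1685
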