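import Cfsg.Statements.S1686
import Cfsg.Agent.S1684
import Cfsg.Agent.Lib.helper35.O7T

set_option autoImplicit false
set_option maxRecDepth 100000
open Cfsg

namespace Cfsg.Agent.S1686

open Cfsg.Agent.Lib.helper35 Cfsg.Spor Cfsg.Agent.Lib.helper35.O7F Cfsg.Agent.Lib.helper35.O7T

open scoped commutatorElement

local notation "φ" => S1696.φ
local notation "HA" => S1696.HA

/-- the subgroup generated by `b, …, i` -/
def HB : Subgroup Fi22 := LS φ [1, 2, 3, 4, 5, 6, 7, 8]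

theorem mem_HB {l : ℕ} (hl : l ∈ [1, 2, 3, 4, 5, 6, 7, 8]) : φ l ∈ HB :=
  Subgroup.subset_closure ⟨l, hl, rfl⟩

theorem lt_nine {l : ℕ} (hl : l ∈ [1, 2, 3, 4, 5, 6, 7, 8]) : l < 9 := by
  simp only [List.mem_cons, List.not_mem_nil, or_false] at hl
  omega

theorem card_HB : Nat.card ↥HB = 4585351680 := by
  obtain ⟨ρ2, -, -, -, -, hidx2, -, -⟩ :=
    CoxIndex.main2 S1696.checksB {y | y ∈ S1696.ysB} (fun y => Iff.rfl)
  rw [S1696.HB_eq] at hidx2
  have hidx : HB.index = 14080 := hidx2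
  obtain ⟨cG, -⟩ := S1696.order_facts
  have h := Subgroup.card_mul_index HB
  rw [hidx, cG] at h
  omega

/-- the point is one of the 351 -/
def isP (p : ℕ) : Prop := p < 3510 ∧ isPB p = true

theorem letter_chk : ∀ l ∈ [1, 2, 3, 4, 5, 6, 7, 8],
    allRange (eqvB (vgen7 l) l) 0 3510 = true := by
  intro l hl
  simp only [List.mem_cons, List.not_mem_nil, or_false] at hl
  rcases hl with rfl | rfl | rfl | rfl | rfl | rfl | rfl | rfl
  exacts [eqv1, eqv2, eqv3, eqv4, eqv5, eqv6, eqv7, eqv8]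

section Rep

variable {ρ : Fi22 →* Equiv.Perm ℕ}

/-- a generator acts on the 351 points as its reflection acts on the vectors -/
theorem gen_isP (R : S1684.Rep ρ) (l : ℕ) (hl : l ∈ [1, 2, 3, 4, 5, 6, 7, 8]) (p : ℕ)
    (hp : isP p) : isP (ρ (φ l) p) ∧ ∃ μ : F3, μ ≠ 0 ∧
      rO (vgen7 l) (vgen_q l (lt_nine hl)) • toW7 (vt7 p) = μ • toW7 (vt7 (ρ (φ l) p)) := by
  have h1 := allRange_spec (letter_chk l hl) p (Nat.zero_le _) (by have := hp.1; omega)
  unfold eqvB at h1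
  rw [hp.2] at h1
  simp only [Bool.not_true, Bool.false_or, Bool.and_eq_true] at h1
  have e : actP Fi22a.D [l] p = ρ (φ l) p := by
    have h2 := S1684.ev R [l]
      (by intro x hx; rw [List.mem_singleton] at hx; rw [hx]; exact lt_nine hl) p hp.1
    rw [List.reverse_singleton, wprod_cons, wprod_nil, mul_one] at h2
    exact h2.symm
  rw [e] at h1
  obtain ⟨μ, hμ, e2⟩ := pe7_spec h1.2
  exact ⟨⟨R.lt _ _ hp.1, h1.1⟩, μ, hμ, by rw [rO_smul, e2]⟩

/-- the elements permuting the 351 points -/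
def StabP (ρ : Fi22 →* Equiv.Perm ℕ) : Subgroup Fi22 where
  carrier := {g | ∀ p, isP p ↔ isP (ρ g p)}
  mul_mem' := by
    intro a b ha hb p
    rw [S1684.rho_mul]
    exact (hb p).trans (ha _)
  one_mem' := by
    intro p
    rw [map_one]
    exact Iff.rfl
  inv_mem' := by
    intro a ha p
    have h := ha (ρ a⁻¹ p)
    rw [← S1684.rho_mul, mul_inv_cancel, map_one] at h
    exact h.symm

theorem HB_le_StabP (R : S1684.Rep ρ) : HB ≤ StabP ρ := by
  unfold HB LS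
  rw [Subgroup.closure_le]
  rintro _ ⟨l, hl, rfl⟩
  intro p
  constructor
  · intro hp
    exact (gen_isP R l hl p hp).1
  · intro hp
    have h := (gen_isP R l hl _ hp).1
    rw [← S1684.rho_mul, S1696.hsq, map_one] at h
    exact h

/-- the matrix `A` acts on the vectors of norm `2` as `g` acts on the 351 points -/
def Eqv (ρ : Fi22 →* Equiv.Perm ℕ) (g : Fi22) (A : O7) : Prop :=
  ∀ p, isP p → ∃ μ : F3, μ ≠ 0 ∧ A • toW7 (vt7 p) = μ • toW7 (vt7 (ρ g p))

theorem Eqv_one : Eqv ρ 1 1 := fun p _ =>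
  ⟨1, one_ne_zero, by rw [one_smul, one_smul, map_one ρ]; rfl⟩

theorem Eqv_negO : Eqv ρ 1 negO := fun p _ =>
  ⟨2, by decide, by rw [negO_smul, map_one ρ]; rfl⟩

theorem Eqv_mul {g g' : Fi22} {A A' : O7} (hg' : g' ∈ StabP ρ) (h : Eqv ρ g A)
    (h' : Eqv ρ g' A') : Eqv ρ (g * g') (A * A') := by
  intro p hp
  obtain ⟨μ', hμ', e'⟩ := h' p hp
  obtain ⟨μ, hμ, e⟩ := h (ρ g' p) ((hg' p).1 hp)
  refine ⟨μ' * μ, mul_ne_zero hμ' hμ, ?_⟩
  rw [mul_smul A A', e', smul_smul7, e, smul_smul, S1684.rho_mul ρ g g' p]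

theorem Eqv_inv {g : Fi22} {A : O7} (hg : g ∈ StabP ρ) (h : Eqv ρ g A) : Eqv ρ g⁻¹ A⁻¹ := by
  intro p hp
  have hr : isP (ρ g⁻¹ p) := ((StabP ρ).inv_mem hg p).1 hp
  obtain ⟨μ, hμ, e⟩ := h (ρ g⁻¹ p) hr
  have e1 : ρ g (ρ g⁻¹ p) = p := by
    rw [← S1684.rho_mul ρ g g⁻¹ p, mul_inv_cancel, map_one ρ]
    rfl
  rw [e1] at e
  refine ⟨μ⁻¹, inv_ne_zero hμ, ?_⟩
  have e2 : A⁻¹ • (μ • toW7 (vt7 p)) = toW7 (vt7 (ρ g⁻¹ p)) := by rw [← e, inv_smul_smul]
  rw [smul_smul7] at e2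
  calc A⁻¹ • toW7 (vt7 p) = μ⁻¹ • (μ • (A⁻¹ • toW7 (vt7 p))) := by
        rw [smul_smul, inv_mul_cancel₀ hμ, one_smul]
    _ = μ⁻¹ • toW7 (vt7 (ρ g⁻¹ p)) := by rw [e2]

/-- every element of `HB` acts on the 351 points as an isometry -/
theorem exists_mat (R : S1684.Rep ρ) : ∀ g ∈ HB, ∃ A : O7, Eqv ρ g A := by
  have hst := HB_le_StabP R
  let S : Subgroup Fi22 :=
    { carrier := {g | g ∈ StabP ρ ∧ ∃ A : O7, Eqv ρ g A}
      mul_mem' := by
        rintro a b ⟨ha, A, hA⟩ ⟨hb, B, hB⟩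
        exact ⟨Subgroup.mul_mem _ ha hb, A * B, Eqv_mul hb hA hB⟩
      one_mem' := ⟨Subgroup.one_mem _, 1, Eqv_one⟩
      inv_mem' := by
        rintro a ⟨ha, A, hA⟩
        exact ⟨Subgroup.inv_mem _ ha, A⁻¹, Eqv_inv ha hA⟩ }
  have hle : HB ≤ S := by
    unfold HB LS
    rw [Subgroup.closure_le]
    rintro _ ⟨l, hl, rfl⟩
    exact ⟨hst (mem_HB hl), rO (vgen7 l) (vgen_q l (lt_nine hl)),
      fun p hp => (gen_isP R l hl p hp).2⟩
  intro g hg
  exact (hle hg).2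

theorem complete_W (v : W7) (hv : q7 (ofW7 v) = 2) :
    ∃ μ : F3, μ ≠ 0 ∧ ∃ p, isP p ∧ v = μ • toW7 (vt7 p) := by
  obtain ⟨a, b, c⟩ := complete (ofW7 v) hv
  obtain ⟨μ, hμ, e⟩ := pe7_spec c
  rw [toW7_ofW7] at e
  exact ⟨μ, hμ, _, ⟨a, b⟩, e⟩

theorem nine_q : ∀ k ∈ [r1, r2, r3, r4, r5, r6, r7v, w1, w2], q7 k = 2 := by decide +kernel

/-- two isometries acting as the same element differ by a sign -/
theorem Eqv_unique {g : Fi22} {A B : O7} (hA : Eqv ρ g A) (hB : Eqv ρ g B) :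
    A⁻¹ * B = 1 ∨ A⁻¹ * B = negO := by
  apply scalar_of_fix
  intro k hk
  obtain ⟨μ0, hμ0, p, hp, e0⟩ := complete_W (toW7 k) (by rw [ofW7_toW7]; exact nine_q k hk)
  obtain ⟨μ, hμ, e⟩ := hA p hp
  obtain ⟨ν, hν, e'⟩ := hB p hp
  have e2 : A⁻¹ • toW7 (vt7 (ρ g p)) = μ⁻¹ • toW7 (vt7 p) := by
    have h1 : A⁻¹ • (μ • toW7 (vt7 (ρ g p))) = toW7 (vt7 p) := by rw [← e, inv_smul_smul]
    rw [smul_smul7] at h1
    calc A⁻¹ • toW7 (vt7 (ρ g p)) = μ⁻¹ • (μ • (A⁻¹ • toW7 (vt7 (ρ g p)))) := by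
          rw [smul_smul, inv_mul_cancel₀ hμ, one_smul]
      _ = μ⁻¹ • toW7 (vt7 p) := by rw [h1]
  refine ⟨ν * μ⁻¹, mul_ne_zero hν (inv_ne_zero hμ), ?_⟩
  rw [e0]
  calc (A⁻¹ * B) • (μ0 • toW7 (vt7 p)) = A⁻¹ • (B • (μ0 • toW7 (vt7 p))) := mul_smul _ _ _
    _ = A⁻¹ • (μ0 • (ν • toW7 (vt7 (ρ g p)))) := by rw [smul_smul7, e']
    _ = μ0 • (ν • (A⁻¹ • toW7 (vt7 (ρ g p)))) := by rw [smul_smul7, smul_smul7]
    _ = μ0 • (ν • (μ⁻¹ • toW7 (vt7 p))) := by rw [e2]
    _ = (ν * μ⁻¹) • (μ0 • toW7 (vt7 p)) := by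
      simp only [smul_smul]
      congr 1
      ring

theorem smul7_one (x : V7) : smul7 1 x = x := by
  simp [smul7]

/-- two of the 351 points with proportional vectors are equal -/
theorem proj_inj (p q : ℕ) (hp : isP p) (hq : isP q) (c : F3) (hc : c ≠ 0)
    (h : toW7 (vt7 q) = c • toW7 (vt7 p)) : q = p := by
  have hp' := allRange_spec it_vt p (Nat.zero_le _) (by have := hp.1; omega)
  have hq' := allRange_spec it_vt q (Nat.zero_le _) (by have := hq.1; omega)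
  rw [hp.2] at hp'
  rw [hq.2] at hq'
  simp only [Bool.not_true, Bool.false_or, Bool.and_eq_true, nbeq_iff] at hp' hq'
  have e : vt7 q = smul7 c (vt7 p) := toW7_injective (by rw [h, toW7_smul7])
  have hq0 := hq'.1
  rw [e] at hq0
  rcases F3_cases c hc with rfl | rfl
  · rw [smul7_one] at hq0
    exact hq0.symm.trans hp'.1
  · exact hq0.symm.trans hp'.2

/-- an element acting as a sign fixes the 351 points -/
theorem fix_of_scalar {g : Fi22} {A : O7} (hg : g ∈ StabP ρ) (h : Eqv ρ g A)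
    (hA : A = 1 ∨ A = negO) (p : ℕ) (hp : isP p) : ρ g p = p := by
  obtain ⟨μ, hμ, e⟩ := h p hp
  have hr : isP (ρ g p) := (hg p).1 hp
  rcases hA with rfl | rfl
  · rw [one_smul] at e
    have e3 : toW7 (vt7 (ρ g p)) = μ⁻¹ • toW7 (vt7 p) := by
      rw [e, smul_smul, inv_mul_cancel₀ hμ, one_smul]
    exact proj_inj p (ρ g p) hp hr _ (inv_ne_zero hμ) e3
  · rw [negO_smul] at e
    have e3 : toW7 (vt7 (ρ g p)) = (μ⁻¹ * 2) • toW7 (vt7 p) := by
      rw [mul_smul, e, smul_smul, inv_mul_cancel₀ hμ, one_smul]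
    exact proj_inj p (ρ g p) hp hr _ (mul_ne_zero (inv_ne_zero hμ) (by decide)) e3

theorem conj_eq (R : S1684.Rep ρ) : ∀ l ∈ [1, 2, 3, 4, 5, 6, 7, 8],
    wprod φ (gw7 l ++ 0 :: (gw7 l).reverse) = φ l := by
  intro l hl
  have h := S1684.weq R [l] (gw7 l ++ 0 :: (gw7 l).reverse)
    (by intro x hx; rw [List.mem_singleton] at hx; rw [hx]; exact lt_nine hl)
    (by
      intro x hx
      rcases List.mem_append.1 hx with h1 | h1
      · exact gw7_lt l hl x h1
      · rcases List.mem_cons.1 h1 with h2 | h2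
        · rw [h2]; decide
        · exact gw7_lt l hl x (List.mem_reverse.1 h2))
    (conj7 l hl)
  rw [wprod_cons, wprod_nil, mul_one] at h
  exact h.symm

/-- an element fixing the 351 points commutes with `b, …, i` -/
theorem comm_of_fix (R : S1684.Rep ρ) (h : Fi22) (hfix : ∀ p, isP p → ρ h p = p) :
    ∀ l ∈ [1, 2, 3, 4, 5, 6, 7, 8], h * φ l = φ l * h := by
  intro l hl
  have hpt := pt7 l hl
  have h1 := S1684.comm_of_fix R (gw7 l) (gw7_lt l hl) h (hfix _ ⟨hpt.1, hpt.2⟩)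
  rw [conj_eq R l hl] at h1
  exact h1

/-- an element commuting with `b, …, i` is trivial -/
theorem eq_one_of_comm (R : S1684.Rep ρ) (z : Fi22)
    (hc : ∀ l ∈ [1, 2, 3, 4, 5, 6, 7, 8], z * φ l = φ l * z) : z = 1 := by
  have hq : ρ z 0 < 3510 := R.lt z 0 (by norm_num)
  have hfx : ∀ l ∈ [2, 3, 4, 5, 6, 7, 8], sig Fi22a.D l (ρ z 0) = ρ z 0 := by
    intro l hl
    have hl' : l ∈ [1, 2, 3, 4, 5, 6, 7, 8] := List.mem_cons_of_mem _ hl
    have hlK : l < Fi22a.D.K := lt_nine hl'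
    have hl0 : ρ (φ l) 0 = 0 := (R.stab _).2 (S1684.mem_letters hl)
    rw [← R.gen l hlK (ρ z 0), ← S1684.rho_mul ρ (φ l) z 0, ← hc l hl',
      S1684.rho_mul ρ z (φ l) 0, hl0]
  have h0 : ρ z 0 = 0 := by
    have h1 := allRange_spec fixchk (ρ z 0) (Nat.zero_le _) (by omega)
    exact of_decide_eq_true h1 ⟨hfx 2 (by decide), hfx 3 (by decide), hfx 4 (by decide),
      hfx 5 (by decide), hfx 6 (by decide), hfx 7 (by decide), hfx 8 (by decide)⟩
  have hzA : z ∈ HA := (R.stab z).1 h0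
  have hc0 : z * φ 0 = φ 0 * z := S1684.HA_comm R z hzA
  have hcen : z ∈ Subgroup.center Fi22 := by
    have hle : LS φ [0, 1, 2, 3, 4, 5, 6, 7, 8] ≤ Subgroup.centralizer ({z} : Set Fi22) := by
      unfold LS
      rw [Subgroup.closure_le]
      rintro _ ⟨l, hl, rfl⟩
      rw [SetLike.mem_coe, Subgroup.mem_centralizer_iff]
      intro x hx
      rw [Set.mem_singleton_iff] at hx
      subst hx
      rcases List.mem_cons.1 hl with rfl | hl'
      · exact hc0
      · exact hc l hl'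
    rw [S1696.LS_top] at hle
    rw [Subgroup.mem_center_iff]
    intro g
    exact (Subgroup.mem_centralizer_iff.1 (hle (Subgroup.mem_top g)) z rfl).symm
  obtain ⟨-, -, -, hN, -⟩ := S1696.order_facts
  have hnorm : (Subgroup.center Fi22 ⊓ HA).Normal := ⟨fun n hn g => by
    rw [Subgroup.mem_center_iff.1 hn.1 g, mul_inv_cancel_right]
    exact hn⟩
  have hbot := hN _ hnorm inf_le_right
  have hmem : z ∈ Subgroup.center Fi22 ⊓ HA := ⟨hcen, hzA⟩
  rw [hbot] at hmem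
  exact Subgroup.mem_bot.1 hmem

/-- an element fixing the 351 points is trivial -/
theorem eq_one_of_fix (R : S1684.Rep ρ) (h : Fi22) (hfix : ∀ p, isP p → ρ h p = p) : h = 1 :=
  eq_one_of_comm R h (comm_of_fix R h hfix)

/-! ### The subgroup is perfect -/

/-- words in generators whose products by pairs lie in a subgroup -/
theorem wprod_mem_even {G : Type*} [Group G] (f : ℕ → G) (C : Subgroup G) (S : List ℕ)
    (hC : ∀ l ∈ S, ∀ l' ∈ S, f l * f l' ∈ C) (w : List ℕ) (hw : ∀ l ∈ w, l ∈ S) :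
    (w.length % 2 = 0 → wprod f w ∈ C) ∧
      (w.length % 2 = 1 → ∀ l ∈ S, f l * wprod f w ∈ C) := by
  induction w with
  | nil =>
    exact ⟨fun _ => by rw [wprod_nil]; exact C.one_mem, fun h => by simp at h⟩
  | cons x w ih =>
    have hx : x ∈ S := hw x List.mem_cons_self
    obtain ⟨ih0, ih1⟩ := ih (fun l hl => hw l (List.mem_cons_of_mem _ hl))
    rw [List.length_cons, wprod_cons]
    constructor
    · intro h
      exact ih1 (by omega) x hx
    · intro h l hl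
      have h1 := ih0 (by omega)
      rw [← mul_assoc]
      exact C.mul_mem (hC l hl x hx) h1

/-- the product of two generators with a braid relation is a commutator -/
theorem braid_comm {G : Type*} [Group G] (x y : G) (hx : x * x = 1) (hy : y * y = 1)
    (h : x * (y * (x * (y * (x * y)))) = 1) : x * y = ⁅y * x, y⁆ := by
  have hxi : x⁻¹ = x := inv_eq_of_mul_eq_one_right hx
  have hyi : y⁻¹ = y := inv_eq_of_mul_eq_one_right hy
  have h2 : (x * y) * ((x * y) * (x * y)) = 1 := by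
    rw [← h]
    simp only [mul_assoc]
  have hyx : y * x = (x * y)⁻¹ := by rw [mul_inv_rev, hxi, hyi]
  have key : x * y = (y * x) * (y * x) := by
    calc x * y = ((x * y) * (x * y))⁻¹ := eq_inv_of_mul_eq_one_left h2
      _ = (y * x) * (y * x) := by rw [mul_inv_rev, ← hyx]
  rw [commutatorElement_def, mul_inv_rev, hxi, hyi]
  calc x * y = (y * x) * (y * x) := key
    _ = y * x * y * (x * y) * y := by
      simp only [mul_assoc]
      rw [hy, mul_one]

theorem perfect (R : S1684.Rep ρ) : HB ≤ ⁅HB, HB⁆ := by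
  have edge : ∀ i j, [i, j, i, j, i, j] ∈ Fi22a.relW → i ∈ [1, 2, 3, 4, 5, 6, 7, 8] →
      j ∈ [1, 2, 3, 4, 5, 6, 7, 8] → φ i * φ j ∈ ⁅HB, HB⁆ := by
    intro i j hw hi hj
    have h1 := S1696.hrelW _ hw
    simp only [wprod, List.map, List.prod_cons, List.prod_nil, mul_one] at h1
    rw [braid_comm (φ i) (φ j) (S1696.hsq i) (S1696.hsq j) h1]
    exact Subgroup.commutator_mem_commutator (HB.mul_mem (mem_HB hj) (mem_HB hi)) (mem_HB hj)
  have chain : ∀ i j k, φ i * φ j ∈ ⁅HB, HB⁆ → φ j * φ k ∈ ⁅HB, HB⁆ →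
      φ i * φ k ∈ ⁅HB, HB⁆ := by
    intro i j k h1 h2
    have e : φ i * φ k = (φ i * φ j) * (φ j * φ k) := by
      rw [mul_assoc, ← mul_assoc (φ j) (φ j) (φ k), S1696.hsq, one_mul]
    rw [e]
    exact Subgroup.mul_mem _ h1 h2
  have h2 := edge 1 2 (by decide +kernel) (by decide) (by decide)
  have h3 := chain 1 2 3 h2 (edge 2 3 (by decide +kernel) (by decide) (by decide))
  have h4 := chain 1 3 4 h3 (edge 3 4 (by decide +kernel) (by decide) (by decide))
  have h5 := chain 1 4 5 h4 (edge 4 5 (by decide +kernel) (by decide) (by decide))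
  have h6 := chain 1 5 6 h5 (edge 5 6 (by decide +kernel) (by decide) (by decide))
  have h7 := chain 1 3 7 h3 (edge 3 7 (by decide +kernel) (by decide) (by decide))
  have h8 := chain 1 7 8 h7 (edge 7 8 (by decide +kernel) (by decide) (by decide))
  have hone : ∀ l ∈ [1, 2, 3, 4, 5, 6, 7, 8], φ 1 * φ l ∈ ⁅HB, HB⁆ := by
    intro l hl
    simp only [List.mem_cons, List.not_mem_nil, or_false] at hl
    rcases hl with rfl | rfl | rfl | rfl | rfl | rfl | rfl | rfl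
    · rw [S1696.hsq]
      exact Subgroup.one_mem _
    · exact h2
    · exact h3
    · exact h4
    · exact h5
    · exact h6
    · exact h7
    · exact h8
  have hpair : ∀ l ∈ [1, 2, 3, 4, 5, 6, 7, 8], ∀ l' ∈ [1, 2, 3, 4, 5, 6, 7, 8],
      φ l * φ l' ∈ ⁅HB, HB⁆ := by
    intro l hl l' hl'
    have e : φ l * φ l' = (φ 1 * φ l)⁻¹ * (φ 1 * φ l') := by
      rw [mul_inv_rev, inv_eq_of_mul_eq_one_right (S1696.hsq 1),
        inv_eq_of_mul_eq_one_right (S1696.hsq l), mul_assoc, ← mul_assoc (φ 1) (φ 1) (φ l'),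
        S1696.hsq, one_mul]
    rw [e]
    exact Subgroup.mul_mem _ (Subgroup.inv_mem _ (hone l hl)) (hone l' hl')
  have h63 : wprod φ S1684.w63 = 1 := by
    rw [S1684.weq R S1684.w63 [] (by decide) (by decide) S1684.chk63, wprod_nil]
  have hodd := (wprod_mem_even φ ⁅HB, HB⁆ [1, 2, 3, 4, 5, 6, 7, 8] hpair S1684.w63
    (by decide)).2 (by decide)
  unfold HB LS
  rw [Subgroup.closure_le]
  rintro _ ⟨l, hl, rfl⟩
  have h := hodd l hl
  rw [h63, mul_one] at h
  exact h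

/-! ### The isomorphism -/

theorem main : Nonempty (↥HB ≃* Cfsg.POmega (ZMod 3) (Cfsg.quadFormOdd 3 (ZMod 3))) := by
  obtain ⟨ρ, R⟩ := S1684.exists_rep
  have hst := HB_le_StabP R
  have hperf := perfect R
  have cB : Nat.card ↥HB = 4585351680 := card_HB
  have hfinB : Finite ↥HB := Nat.finite_of_card_ne_zero (by rw [cB]; norm_num)
  have hfinO : Finite ↥O7 := inferInstance
  -- the matrices in the commutator subgroup
  have hex : ∀ h : ↥HB, ∃ A : O7, A ∈ commutator ↥O7 ∧ Eqv ρ h.1 A := by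
    let T : Subgroup Fi22 :=
      { carrier := {g | g ∈ StabP ρ ∧ ∃ A : O7, A ∈ commutator ↥O7 ∧ Eqv ρ g A}
        mul_mem' := by
          rintro a b ⟨ha, A, hA1, hA⟩ ⟨hb, B, hB1, hB⟩
          exact ⟨Subgroup.mul_mem _ ha hb, A * B, Subgroup.mul_mem _ hA1 hB1, Eqv_mul hb hA hB⟩
        one_mem' := ⟨Subgroup.one_mem _, 1, Subgroup.one_mem _, Eqv_one⟩
        inv_mem' := by
          rintro a ⟨ha, A, hA1, hA⟩
          exact ⟨Subgroup.inv_mem _ ha, A⁻¹, Subgroup.inv_mem _ hA1, Eqv_inv ha hA⟩ }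
    have hle : ⁅HB, HB⁆ ≤ T := by
      rw [Subgroup.commutator_le]
      intro g1 hg1 g2 hg2
      obtain ⟨A1, hA1⟩ := exists_mat R g1 hg1
      obtain ⟨A2, hA2⟩ := exists_mat R g2 hg2
      have s1 := hst hg1
      have s2 := hst hg2
      have i1 := (StabP ρ).inv_mem s1
      have i2 := (StabP ρ).inv_mem s2
      refine ⟨(StabP ρ).mul_mem ((StabP ρ).mul_mem ((StabP ρ).mul_mem s1 s2) i1) i2,
        ⁅A1, A2⁆, ?_, ?_⟩
      · rw [commutator_def]
        exact Subgroup.commutator_mem_commutator (Subgroup.mem_top _) (Subgroup.mem_top _)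
      · rw [commutatorElement_def, commutatorElement_def]
        exact Eqv_mul i2 (Eqv_mul i1 (Eqv_mul s2 hA1 hA2) (Eqv_inv s1 hA1)) (Eqv_inv s2 hA2)
    intro h
    exact (hle (hperf h.2)).2
  choose Am hAm1 hAm using hex
  have huniq : ∀ (h : ↥HB) (B : O7), B ∈ commutator ↥O7 → Eqv ρ h.1 B → B = Am h := by
    intro h B hB1 hB
    rcases Eqv_unique (hAm h) hB with h1 | h1
    · exact (inv_mul_eq_one.1 h1).symm
    · exfalso
      apply negO_not_mem
      rw [← h1]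
      exact Subgroup.mul_mem _ (Subgroup.inv_mem _ (hAm1 h)) hB1
  let ψ : ↥HB →* ↥(commutator ↥O7) := MonoidHom.mk' (fun h => ⟨Am h, hAm1 h⟩) (by
    intro h h'
    apply Subtype.ext
    exact (huniq (h * h') _ (Subgroup.mul_mem _ (hAm1 h) (hAm1 h'))
      (Eqv_mul (hst h'.2) (hAm h) (hAm h'))).symm)
  have hψ : ∀ h : ↥HB, ((ψ h : ↥(commutator ↥O7)) : O7) = Am h := fun h => rfl
  have hinj : Function.Injective ψ := by
    rw [injective_iff_map_eq_one]
    intro h hh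
    have h1 : Am h = 1 := by rw [← hψ, hh]; rfl
    have hE := hAm h
    rw [h1] at hE
    apply Subtype.ext
    exact eq_one_of_fix R h.1 (fun p hp => fix_of_scalar (hst h.2) hE (Or.inl rfl) p hp)
  have hAminj : ∀ h h' : ↥HB, Am h = Am h' → h = h' := fun h h' e => hinj (Subtype.ext e)
  -- the isometries acting as elements of `HB`
  let Ht : Subgroup ↥O7 :=
    { carrier := {A | ∃ h : Fi22, h ∈ HB ∧ Eqv ρ h A}
      mul_mem' := by
        rintro A B ⟨a, ha, hA⟩ ⟨b, hb, hB⟩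
        exact ⟨a * b, HB.mul_mem ha hb, Eqv_mul (hst hb) hA hB⟩
      one_mem' := ⟨1, HB.one_mem, Eqv_one⟩
      inv_mem' := by
        rintro A ⟨a, ha, hA⟩
        exact ⟨a⁻¹, HB.inv_mem ha, Eqv_inv (hst ha) hA⟩ }
  have hAmHt : ∀ h : ↥HB, Am h ∈ Ht := fun h => ⟨h.1, h.2, hAm h⟩
  have hnegHt : negO ∈ Ht := ⟨1, HB.one_mem, Eqv_negO⟩
  let f : ↥HB ⊕ ↥HB → ↥Ht := Sum.elim (fun h => ⟨Am h, hAmHt h⟩)
    (fun h => ⟨negO * Am h, Ht.mul_mem hnegHt (hAmHt h)⟩)
  have hf : Function.Injective f := by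
    rintro (h | h) (h' | h') e
    · have e' : Am h = Am h' := congrArg Subtype.val e
      rw [hAminj h h' e']
    · exfalso
      have e' : Am h = negO * Am h' := congrArg Subtype.val e
      apply negO_not_mem
      have e2 : negO = Am h * (Am h')⁻¹ := by rw [e', mul_inv_cancel_right]
      rw [e2]
      exact Subgroup.mul_mem _ (hAm1 h) (Subgroup.inv_mem _ (hAm1 h'))
    · exfalso
      have e' : negO * Am h = Am h' := congrArg Subtype.val e
      apply negO_not_mem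
      have e2 : negO = Am h' * (Am h)⁻¹ := by rw [← e', mul_inv_cancel_right]
      rw [e2]
      exact Subgroup.mul_mem _ (hAm1 h') (Subgroup.inv_mem _ (hAm1 h))
    · have e' : negO * Am h = negO * Am h' := congrArg Subtype.val e
      rw [hAminj h h' (mul_left_cancel e')]
  have c1 : 2 * 4585351680 ≤ Nat.card ↥Ht := by
    have h := Nat.card_le_card_of_injective f hf
    rw [Nat.card_sum, cB] at h
    omega
  have hidx : Ht.index = 1 ∨ Ht.index = 2 := by
    have h := Subgroup.card_mul_index Ht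
    have h2 := card_O7_le
    have h0 : Ht.index ≠ 0 := Subgroup.index_ne_zero_of_finite
    by_contra hcon
    have h3 : 3 ≤ Ht.index := by omega
    have h4 := Nat.mul_le_mul c1 h3
    rw [h] at h4
    omega
  have hΩle : commutator ↥O7 ≤ Ht := by
    rcases hidx with h1 | h2
    · rw [Subgroup.index_eq_one.1 h1]
      exact le_top
    · have hN : Ht.Normal := Subgroup.normal_of_index_eq_two h2
      have hcard : Nat.card (↥O7 ⧸ Ht) = 2 := h2
      have hpow : ∀ x : ↥O7 ⧸ Ht, x * x = 1 := by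
        intro x
        have h := pow_card_eq_one' (G := ↥O7 ⧸ Ht) (x := x)
        rw [hcard, pow_two] at h
        exact h
      rw [commutator_def, Subgroup.commutator_le]
      intro g1 _ g2 _
      rw [← QuotientGroup.eq_one_iff]
      have e : ((⁅g1, g2⁆ : ↥O7) : ↥O7 ⧸ Ht) = ⁅(g1 : ↥O7 ⧸ Ht), (g2 : ↥O7 ⧸ Ht)⁆ := rfl
      rw [e, commutatorElement_def, inv_eq_of_mul_eq_one_right (hpow (g1 : ↥O7 ⧸ Ht)),
        inv_eq_of_mul_eq_one_right (hpow (g2 : ↥O7 ⧸ Ht)), mul_assoc]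
      exact hpow _
  have hsurj : Function.Surjective ψ := by
    rintro ⟨A, hA⟩
    obtain ⟨h, hh, hE⟩ := hΩle hA
    exact ⟨⟨h, hh⟩, Subtype.ext (huniq ⟨h, hh⟩ A hA hE).symm⟩
  let e : ↥HB ≃* ↥(commutator ↥O7) := MulEquiv.ofBijective ψ ⟨hinj, hsurj⟩
  have hcenB : Subgroup.center ↥HB = ⊥ := by
    rw [eq_bot_iff]
    intro z hz
    rw [Subgroup.mem_bot]
    apply Subtype.ext
    apply eq_one_of_comm R z.1
    intro l hl
    have h := Subgroup.mem_center_iff.1 hz ⟨φ l, mem_HB hl⟩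
    exact (congrArg Subtype.val h).symm
  have hcenΩ : Subgroup.center ↥(commutator ↥O7) = ⊥ := by
    rw [eq_bot_iff]
    intro A hA
    rw [Subgroup.mem_bot]
    have h1 : e.symm A ∈ Subgroup.center ↥HB := by
      rw [Subgroup.mem_center_iff]
      intro g
      apply e.injective
      rw [map_mul, map_mul, e.apply_symm_apply]
      exact Subgroup.mem_center_iff.1 hA (e g)
    rw [hcenB, Subgroup.mem_bot] at h1
    have h2 := congrArg e h1
    rw [e.apply_symm_apply, map_one] at h2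
    exact h2
  exact ⟨e.trans ((QuotientGroup.quotientMulEquivOfEq hcenΩ).trans QuotientGroup.quotientBot).symm⟩

end Rep

theorem main' (H : Subgroup Fi22) (hH : H = HB) :
    Nonempty (↥H ≃* Cfsg.POmega (ZMod 3) (Cfsg.quadFormOdd 3 (ZMod 3))) := by
  subst hH
  exact main

/-- In the presented Fischer group Fi₂₂, the subgroup generated by the images of b, …, i is isomorphic to PΩ(7, 3), the commutator subgroup of the isometry group of the quadratic form x₀² + x₁y₁ + x₂y₂ + x₃y₃ over the integers mod 3, modulo its centre. -/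
theorem result : Nonempty ((((Subgroup.closure ({Cfsg.Spor.Fi22.b, Cfsg.Spor.Fi22.c, Cfsg.Spor.Fi22.d, Cfsg.Spor.Fi22.e, Cfsg.Spor.Fi22.f, Cfsg.Spor.Fi22.g, Cfsg.Spor.Fi22.h, Cfsg.Spor.Fi22.i} : Set (FreeGroup Cfsg.Spor.Fi22.Gen))).map (PresentedGroup.mk (Cfsg.Spor.coxRelators Cfsg.Spor.Fi22.edges ∪ {r | r ∈ Cfsg.Spor.Fi22.extra})))) ≃* Cfsg.POmega (ZMod 3) (Cfsg.quadFormOdd 3 (ZMod 3))) := by
  have hset : ({Cfsg.Spor.Fi22.b, Cfsg.Spor.Fi22.c, Cfsg.Spor.Fi22.d, Cfsg.Spor.Fi22.e,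
      Cfsg.Spor.Fi22.f, Cfsg.Spor.Fi22.g, Cfsg.Spor.Fi22.h, Cfsg.Spor.Fi22.i} :
      Set (FreeGroup Cfsg.Spor.Fi22.Gen)) = {y | y ∈ S1696.ysB} := by
    ext y
    simp [S1696.ysB]
  exact main' _ (by rw [hset]; exact S1696.HB_eq)

end Cfsg.Agent.S1686
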