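import Cfsg.Statements.S1689
import Cfsg.Agent.Lib.helper35.CosetGroup
import Cfsg.Agent.Lib.helper35.Fi23aChecks

set_option autoImplicit false
open Cfsg

namespace Cfsg.Agent.S1689

open Cfsg.Agent.Lib.helper35 Cfsg.Spor

/-- numbering of the generators -/
def gen : ℕ → Fi23.Gen
  | 0 => .a | 1 => .b | 2 => .c | 3 => .d | 4 => .e | 5 => .f | 6 => .g | 7 => .j | 8 => .h | _ => .i

def code : Fi23.Gen → ℕ
  | .a => 0 | .b => 1 | .c => 2 | .d => 3 | .e => 4 | .f => 5 | .g => 6 | .j => 7 | .h => 8 | .i => 9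

/-- the generators of the subgroup -/
def ys : List (FreeGroup Fi23.Gen) :=
  [Cfsg.Spor.Fi23.a,
    Cfsg.Spor.Fi23.b,
    Cfsg.Spor.Fi23.c,
    Cfsg.Spor.Fi23.d,
    Cfsg.Spor.Fi23.e,
    Cfsg.Spor.Fi23.f,
    Cfsg.Spor.Fi23.g,
    Cfsg.Spor.Fi23.h,
    Cfsg.Spor.Fi23.i]

theorem pres : Pres Fi23.edges gen code 10 where
  node := by intro x; cases x <;> decide
  gen_code := by intro x; cases x <;> rfl
  code_lt := by intro x; cases x <;> decide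
  code_gen := by intro i hi; interval_cases i <;> rfl

theorem relW_eq : Fi23a.relW = relWords Fi23.edges Fi23.extra gen code 10 := by decide +kernel

theorem subW_eq : Fi23a.subW = ys.map (wordOf code) := by decide +kernel

theorem checks : Checks Fi23.edges Fi23.extra gen code 10 Fi23a.C Fi23a.D Fi23a.relW Fi23a.subW
    Fi23a.orbs ys where
  pres := pres
  relW_eq := relW_eq
  subW_eq := subW_eq
  cK := rfl
  rows := Fi23a.rows_all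
  fin := Fi23a.fin_all
  cM := by decide
  live0 := by decide +kernel
  cnt := Fi23a.cnt0
  rev := Fi23a.rev_ok
  wr := Fi23a.wr_ok
  ws := Fi23a.ws_ok
  dK := rfl
  dn := by decide
  inv := Fi23a.inv_ok
  rel := Fi23a.rel_ok
  sub := Fi23a.sub_ok
  letters := Fi23a.letters_ok
  tile := Fi23a.tile_ok
  pos := Fi23a.pos_ok
  orb := Fi23a.orb_ok

theorem hY : ∀ y, y ∈ ({Cfsg.Spor.Fi23.a, Cfsg.Spor.Fi23.b, Cfsg.Spor.Fi23.c, Cfsg.Spor.Fi23.d, Cfsg.Spor.Fi23.e, Cfsg.Spor.Fi23.f, Cfsg.Spor.Fi23.g, Cfsg.Spor.Fi23.h, Cfsg.Spor.Fi23.i} : Set (FreeGroup Cfsg.Spor.Fi23.Gen)) ↔ y ∈ ys := by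
  intro y
  simp only [ys, Set.mem_insert_iff, Set.mem_singleton_iff, List.mem_cons, List.not_mem_nil, or_false]


/-- In the presented Fischer group Fi₂₃, let H be the subgroup generated by the images of a, …, i. Then H has index 31671, H has orbits of sizes 3510 and 28160 on the cosets of H other than H itself. -/
theorem result : (((Subgroup.closure ({Cfsg.Spor.Fi23.a, Cfsg.Spor.Fi23.b, Cfsg.Spor.Fi23.c, Cfsg.Spor.Fi23.d, Cfsg.Spor.Fi23.e, Cfsg.Spor.Fi23.f, Cfsg.Spor.Fi23.g, Cfsg.Spor.Fi23.h, Cfsg.Spor.Fi23.i} : Set (FreeGroup Cfsg.Spor.Fi23.Gen))).map (PresentedGroup.mk (Cfsg.Spor.coxRelators Cfsg.Spor.Fi23.edges ∪ {r | r ∈ Cfsg.Spor.Fi23.extra})))).index = 31671 ∧ ∃ q₁ q₂ : Cfsg.Spor.Fi23 ⧸ (((Subgroup.closure ({Cfsg.Spor.Fi23.a, Cfsg.Spor.Fi23.b, Cfsg.Spor.Fi23.c, Cfsg.Spor.Fi23.d, Cfsg.Spor.Fi23.e, Cfsg.Spor.Fi23.f, Cfsg.Spor.Fi23.g,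 Cfsg.Spor.Fi23.h, Cfsg.Spor.Fi23.i} : Set (FreeGroup Cfsg.Spor.Fi23.Gen))).map (PresentedGroup.mk (Cfsg.Spor.coxRelators Cfsg.Spor.Fi23.edges ∪ {r | r ∈ Cfsg.Spor.Fi23.extra})))), (MulAction.orbit (((Subgroup.closure ({Cfsg.Spor.Fi23.a, Cfsg.Spor.Fi23.b, Cfsg.Spor.Fi23.c, Cfsg.Spor.Fi23.d, Cfsg.Spor.Fi23.e, Cfsg.Spor.Fi23.f, Cfsg.Spor.Fi23.g, Cfsg.Spor.Fi23.h, Cfsg.Spor.Fi23.i} : Set (FreeGroup Cfsg.Spor.Fi23.Gen))).map (PresentedGroup.mk (Cfsg.Spor.coxRelators Cfsg.Spor.Fi23.edges ∪ {r | r ∈ Cfsg.Spor.Fi23.extra})))) q₁).ncard = 3510 ∧ (MulAction.orbit (((Subgroup.closure ({Cfsg.Spor.Fi23.a, Cfsg.Spor.Fi23.b, Cfsg.Spor.Fi23.c, Cfsg.Spor.Fi23.d, Cfsg.Spor.Fi23.e, Cfsg.Spor.Fi23.f, Cfsg.Spor.Fi23.g, Cfsg.Spor.Fi23.h, Cfsg.Spor.Fi23.i} : Set (FreeGroup Cfsg.Spor.Fi23.Gen))).map (PresentedGroup.mk (Cfsg.Spor.coxRelators Cfsg.Spor.Fi23.edges ∪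 {r | r ∈ Cfsg.Spor.Fi23.extra})))) q₂).ncard = 28160 := by
  obtain ⟨hidx, horb⟩ := CoxIndex.main checks _ hY
  refine ⟨hidx, ?_⟩
  obtain ⟨q1, h1⟩ := horb (nth (0, 0, []) Fi23a.orbs 2) (nth_mem_of_lt _ _ _ (by decide))
  obtain ⟨q2, h2⟩ := horb (nth (0, 0, []) Fi23a.orbs 1) (nth_mem_of_lt _ _ _ (by decide))
  exact ⟨q1, q2, h1, h2⟩

end Cfsg.Agent.S1689
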