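import Cfsg.Statements.S1691

set_option autoImplicit false
open Cfsg

namespace Cfsg.Agent.S1691

open Cfsg.Spor

/-- image of a generator in the presented group -/
def gen (x : Fi24.Gen) : Fi24 := PresentedGroup.of x

lemma node_mem (x : Fi24.Gen) : x ∈ coxNodes Fi24.edges := by
  cases x <;> decide

lemma gen_sq (x : Fi24.Gen) : gen x * gen x = 1 := by
  have h : (FreeGroup.of x * FreeGroup.of x) ^ coxLabel Fi24.edges x x ∈
      coxRelators Fi24.edges ∪ {r | r ∈ Fi24.extra} :=
    Or.inl ⟨x, node_mem x, x, node_mem x, rfl⟩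
  have h1 := PresentedGroup.one_of_mem h
  have h2 : coxLabel Fi24.edges x x = 1 := by simp [coxLabel]
  rw [h2, pow_one, map_mul] at h1
  exact h1

lemma gen_edge (x y : Fi24.Gen) (hl : coxLabel Fi24.edges x y = 3) :
    (gen x * gen y) ^ 3 = 1 := by
  have h : (FreeGroup.of x * FreeGroup.of y) ^ coxLabel Fi24.edges x y ∈
      coxRelators Fi24.edges ∪ {r | r ∈ Fi24.extra} :=
    Or.inl ⟨x, node_mem x, y, node_mem y, rfl⟩
  have h1 := PresentedGroup.one_of_mem h
  rw [hl, map_pow, map_mul] at h1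
  exact h1

/-- image in the abelianization -/
def ab (x : Fi24.Gen) : Abelianization Fi24 := Abelianization.of (gen x)

lemma ab_sq (x : Fi24.Gen) : ab x * ab x = 1 := by
  unfold ab
  rw [← map_mul, gen_sq, map_one]

lemma ab_edge (x y : Fi24.Gen) (hl : coxLabel Fi24.edges x y = 3) : ab x = ab y := by
  have h := congrArg (Abelianization.of (G := Fi24)) (gen_edge x y hl)
  rw [map_pow, map_mul, map_one] at h
  change (ab x * ab y) ^ 3 = 1 at h
  have hx := ab_sq x
  have hy := ab_sq y
  have h3 : (ab x * ab y) ^ 3 = (ab x * ab x) * (ab y * ab y) * (ab x * ab y) := by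
    rw [mul_pow]; simp only [pow_succ, pow_zero, one_mul]
    rw [mul_mul_mul_comm (ab x * ab x), mul_mul_mul_comm (ab x)]
  rw [h3, hx, hy, one_mul, one_mul] at h
  calc ab x = ab x * (ab y * ab y) := by rw [hy, mul_one]
    _ = (ab x * ab y) * ab y := by rw [mul_assoc]
    _ = ab y := by rw [h, one_mul]

lemma ab_all (x : Fi24.Gen) : ab x = ab Fi24.Gen.l := by
  have lk : ab Fi24.Gen.l = ab Fi24.Gen.k := ab_edge _ _ (by decide)
  have ka : ab Fi24.Gen.k = ab Fi24.Gen.a := ab_edge _ _ (by decide)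
  have hab : ab Fi24.Gen.a = ab Fi24.Gen.b := ab_edge _ _ (by decide)
  have bc : ab Fi24.Gen.b = ab Fi24.Gen.c := ab_edge _ _ (by decide)
  have cd : ab Fi24.Gen.c = ab Fi24.Gen.d := ab_edge _ _ (by decide)
  have de : ab Fi24.Gen.d = ab Fi24.Gen.e := ab_edge _ _ (by decide)
  have dh : ab Fi24.Gen.d = ab Fi24.Gen.h := ab_edge _ _ (by decide)
  have ef : ab Fi24.Gen.e = ab Fi24.Gen.f := ab_edge _ _ (by decide)
  have fg : ab Fi24.Gen.f = ab Fi24.Gen.g := ab_edge _ _ (by decide)
  have gj : ab Fi24.Gen.g = ab Fi24.Gen.j := ab_edge _ _ (by decide)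
  have hi : ab Fi24.Gen.h = ab Fi24.Gen.i := ab_edge _ _ (by decide)
  cases x
  · rfl
  · exact lk.symm
  · rw [lk, ka]
  · rw [lk, ka, hab]
  · rw [lk, ka, hab, bc]
  · rw [lk, ka, hab, bc, cd]
  · rw [lk, ka, hab, bc, cd, de]
  · rw [lk, ka, hab, bc, cd, de, ef]
  · rw [lk, ka, hab, bc, cd, de, ef, fg]
  · rw [lk, ka, hab, bc, cd, de, ef, fg, gj]
  · rw [lk, ka, hab, bc, cd, dh]
  · rw [lk, ka, hab, bc, cd, dh, hi]

/-- the sign homomorphism to Z/2 -/
def sgn : Fi24 →* Multiplicative (ZMod 2) :=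
  PresentedGroup.toGroup (f := fun _ => Multiplicative.ofAdd (1 : ZMod 2)) (by
    intro r hr
    rcases hr with hr | hr
    · obtain ⟨x, _, y, _, rfl⟩ := hr
      rw [map_pow, map_mul, FreeGroup.lift_apply_of, FreeGroup.lift_apply_of]
      have : Multiplicative.ofAdd (1 : ZMod 2) * Multiplicative.ofAdd (1 : ZMod 2) = 1 := by decide
      rw [this, one_pow]
    · simp only [Fi24.extra, Set.mem_ofPred_eq, List.mem_cons, List.not_mem_nil, or_false] at hr
      rcases hr with rfl | rfl
      · simp only [map_mul, map_inv, map_pow, FreeGroup.lift_apply_of]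
        decide
      · simp only [map_mul, map_pow, FreeGroup.lift_apply_of]
        decide)

lemma sgn_gen (x : Fi24.Gen) : sgn (gen x) = Multiplicative.ofAdd (1 : ZMod 2) := by
  unfold sgn gen
  rw [PresentedGroup.toGroup.of]

lemma ab_inv (x : Fi24.Gen) : (ab x)⁻¹ = ab x :=
  inv_eq_of_mul_eq_one_left (ab_sq x)

lemma all_mem_word (w : FreeGroup Fi24.Gen) :
    Abelianization.of (PresentedGroup.mk (coxRelators Fi24.edges ∪ {r | r ∈ Fi24.extra}) w) = 1 ∨
    Abelianization.of (PresentedGroup.mk (coxRelators Fi24.edges ∪ {r | r ∈ Fi24.extra}) w)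
      = ab Fi24.Gen.l := by
  induction w using FreeGroup.induction_on with
  | C1 => left; rw [map_one, map_one]
  | of x => right; exact ab_all x
  | inv_of x _ =>
    right
    rw [map_inv, map_inv]
    exact (ab_inv x).trans (ab_all x)
  | mul x y hx hy =>
    rw [map_mul, map_mul]
    rcases hx with hx | hx <;> rcases hy with hy | hy <;> rw [hx, hy]
    · left; rw [one_mul]
    · right; rw [one_mul]
    · right; rw [mul_one]
    · left; exact ab_sq _

lemma all_mem (a : Abelianization Fi24) : a = 1 ∨ a = ab Fi24.Gen.l := by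
  obtain ⟨g, rfl⟩ : ∃ g, Abelianization.of g = a := QuotientGroup.mk_surjective a
  obtain ⟨w, rfl⟩ := PresentedGroup.mk_surjective _ g
  exact all_mem_word w

/-- the induced map on the abelianization -/
def sgnAb : Abelianization Fi24 →* Multiplicative (ZMod 2) := Abelianization.lift sgn

lemma sgnAb_ab (x : Fi24.Gen) : sgnAb (ab x) = Multiplicative.ofAdd (1 : ZMod 2) := by
  unfold sgnAb ab
  rw [Abelianization.lift_apply_of, sgn_gen]

lemma sgnAb_bijective : Function.Bijective sgnAb := by
  constructor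
  · rw [injective_iff_map_eq_one]
    intro a ha
    rcases all_mem a with h | h
    · exact h
    · rw [h, sgnAb_ab] at ha
      exact absurd ha (by decide)
  · intro b
    have hb : b = 1 ∨ b = Multiplicative.ofAdd (1 : ZMod 2) := by
      revert b; decide
    rcases hb with rfl | rfl
    · exact ⟨1, map_one _⟩
    · exact ⟨ab Fi24.Gen.l, sgnAb_ab _⟩

/-- The commutator subgroup of the presented group Fi₂₄ has index 2 (the presented group is Fi₂₄′:2 with Fi₂₄′ its derived subgroup). -/
theorem result : (commutator Cfsg.Spor.Fi24).index = 2 := by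
  have h1 : (commutator Cfsg.Spor.Fi24).index = Nat.card (Abelianization Fi24) := rfl
  rw [h1, Nat.card_congr (Equiv.ofBijective _ sgnAb_bijective)]
  simp [Nat.card_eq_fintype_card]

end Cfsg.Agent.S1691
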