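import Cfsg.Statements.S1693
import Cfsg.Agent.Lib.helper35.OnRep
import Cfsg.Agent.Lib.helper35.OnC
import Cfsg.Agent.Lib.helper35.OnhU1
import Cfsg.Agent.Lib.helper35.OnhU2
import Cfsg.Agent.Lib.helper35.OnhU3
import Cfsg.Agent.Lib.helper35.OnhU4
import Cfsg.Agent.Lib.helper35.OnhU5
import Cfsg.Agent.Lib.helper35.OnhU6
import Cfsg.Agent.Lib.helper35.CosetSS
import Cfsg.Agent.Lib.helper6.SLCard

set_option autoImplicit false
set_option maxRecDepth 100000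
open Cfsg

namespace Cfsg.Agent.S1693

open Cfsg.Agent.Lib.helper35 Cfsg.Spor Cfsg.Agent.Lib.helper35.Ona Cfsg.Agent.Lib.helper35.OnM
  Cfsg.Agent.Lib.helper35.OnC Cfsg.Agent.Lib.helper35.G2O
open scoped Matrix

local notation "SL3" => Matrix.SpecialLinearGroup (Fin 3) (ZMod 7)
local notation "PSL3" => Matrix.ProjectiveSpecialLinearGroup (Fin 3) (ZMod 7)

instance fact7 : Fact (Nat.Prime 7) := ⟨by norm_num⟩

/-- the subgroup generated by `a, …, f` -/
def HS : Subgroup ON := LS φ [0, 1, 2, 3, 4, 5]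

/-! ### The order of the subgroup is at most that of `L₃(7):2` -/

theorem card_step {Γ : Type*} [Group Γ] {L' L : Subgroup Γ} (h : L' ≤ L) :
    Nat.card L' * L'.relIndex L = Nat.card L := by
  have := Subgroup.relIndex_mul_relIndex ⊥ L' L bot_le h
  rwa [Subgroup.relIndex_bot_left, Subgroup.relIndex_bot_left] at this

theorem card_le_step {Γ : Type*} [Group Γ] {L' L : Subgroup Γ} (h : L' ≤ L) {a b : ℕ}
    (h1 : Nat.card L' ≠ 0 ∧ Nat.card L' ≤ a) (h2 : L'.relIndex L ≠ 0 ∧ L'.relIndex L ≤ b) :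
    Nat.card L ≠ 0 ∧ Nat.card L ≤ a * b := by
  rw [← card_step h]
  exact ⟨Nat.mul_ne_zero h1.1 h2.1, Nat.mul_le_mul h1.2 h2.2⟩

theorem card_HS_le : Nat.card ↥HS ≠ 0 ∧ Nat.card ↥HS ≤ 3753792 := by
  have k0 : Nat.card (LS φ []) ≠ 0 ∧ Nat.card (LS φ []) ≤ 1 := by
    rw [LS_nil, Subgroup.card_bot]; exact ⟨one_ne_zero, le_refl 1⟩
  have v6 : (LS φ []).relIndex (LS φ [0]) ≠ 0 ∧ (LS φ []).relIndex (LS φ [0]) ≤ 2 :=
    OnhU6.bound φ hsq hrelW
  have v5 : (LS φ [0]).relIndex (LS φ [0, 1]) ≠ 0 ∧ (LS φ [0]).relIndex (LS φ [0, 1]) ≤ 3 :=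
    OnhU5.bound φ hsq hrelW
  have v4 : (LS φ [0, 1]).relIndex (LS φ [0, 1, 2]) ≠ 0 ∧
      (LS φ [0, 1]).relIndex (LS φ [0, 1, 2]) ≤ 4 := OnhU4.bound φ hsq hrelW
  have v3 : (LS φ [0, 1, 2]).relIndex (LS φ [0, 1, 2, 4]) ≠ 0 ∧
      (LS φ [0, 1, 2]).relIndex (LS φ [0, 1, 2, 4]) ≤ 2 := OnhU3.bound φ hsq hrelW
  have v2 : (LS φ [0, 1, 2, 4]).relIndex (LS φ [0, 1, 2, 4, 5]) ≠ 0 ∧
      (LS φ [0, 1, 2, 4]).relIndex (LS φ [0, 1, 2, 4, 5]) ≤ 3 := OnhU2.bound φ hsq hrelW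
  have v1 : (LS φ [0, 1, 2, 4, 5]).relIndex (LS φ [0, 1, 2, 3, 4, 5]) ≠ 0 ∧
      (LS φ [0, 1, 2, 4, 5]).relIndex (LS φ [0, 1, 2, 3, 4, 5]) ≤ 26068 := OnhU1.bound φ hsq hrelW
  have k1 := card_le_step (LS_mono φ (by decide)) k0 v6
  have k2 := card_le_step (LS_mono φ (by decide)) k1 v5
  have k3 := card_le_step (LS_mono φ (by decide)) k2 v4
  have k4 := card_le_step (LS_mono φ (by decide)) k3 v3
  have k5 := card_le_step (LS_mono φ (by decide)) k4 v2
  have k6 := card_le_step (LS_mono φ (by decide)) k5 v1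
  exact k6

theorem finite_HS : Finite ↥HS := Nat.finite_of_card_ne_zero card_HS_le.1

/-! ### The action on the points -/

theorem rho_mul (a b : ON) (c : ℕ) : ρ (a * b) c = ρ a (ρ b c) := by
  rw [map_mul, Equiv.Perm.mul_apply]

theorem ev (w : List ℕ) (hw : ∀ l ∈ w, l < D.K) (c : ℕ) (hc : c < D.n) :
    ρ (wprod φ w.reverse) c = actP D w c := by
  rw [rho_wprod ρ φ D hρ w hw, ← (actP_eq inv_ok w hw c hc).1]

theorem rho_letter (l : ℕ) (hl : l < 6) (p : ℕ) (hp : p < 122760) :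
    ρ (φ l) p = QL l p ∧ QL l p < 122760 := by
  rw [ρ_φ l hl]
  exact σ8_spec l (by omega) p hp

theorem phi_mem {l : ℕ} (hl : l < 6) : φ l ∈ HS := by
  show φ l ∈ LS φ [0, 1, 2, 3, 4, 5]
  apply LS_mem
  simp only [List.mem_cons, List.not_mem_nil, or_false]
  omega

theorem wprod_mem_HS (w : List ℕ) (hw : ∀ l ∈ w, l < 6) : wprod φ w ∈ HS := by
  apply wprod_mem_LS
  intro l hl
  have := hw l hl
  simp only [List.mem_cons, List.not_mem_nil, or_false]
  omega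

theorem letter_B (l : ℕ) (hl : l < 6) (p : ℕ) (hp : 1 ≤ p ∧ p < 5587) :
    1 ≤ ρ (φ l) p ∧ ρ (φ l) p < 5587 := by
  have h := inR_iff.1 (allRange_spec (presB l hl) p hp.1 (by omega))
  rw [(rho_letter l hl p (by omega)).1]
  omega

/-- the elements of `HS` map the 5586 conics to themselves -/
theorem orb : ∀ g ∈ HS, ∀ c, (1 ≤ c ∧ c < 5587) ↔ (1 ≤ ρ g c ∧ ρ g c < 5587) := by
  intro g hg
  let S : Subgroup ON :=
    { carrier := {g | ∀ c, (1 ≤ c ∧ c < 5587) ↔ (1 ≤ ρ g c ∧ ρ g c < 5587)}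
      mul_mem' := by
        intro a b ha hb c
        rw [rho_mul]
        exact (hb c).trans (ha _)
      one_mem' := by
        intro c
        rw [map_one]
        exact Iff.rfl
      inv_mem' := by
        intro a ha c
        have h := ha (ρ a⁻¹ c)
        have e : ρ a (ρ a⁻¹ c) = c := by
          rw [← rho_mul, mul_inv_cancel, map_one]
          rfl
        rw [e] at h
        exact h.symm }
  have hle : HS ≤ S := by
    unfold HS LS
    rw [Subgroup.closure_le]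
    rintro _ ⟨l, hl, rfl⟩
    have hl6 : l < 6 := by
      simp only [List.mem_cons, List.not_mem_nil, or_false] at hl
      omega
    intro c
    constructor
    · exact letter_B l hl6 c
    · intro h
      have h2 := letter_B l hl6 _ h
      have e : ρ (φ l) (ρ (φ l) c) = c := by
        rw [← rho_mul, hsq l, map_one]
        rfl
      rw [e] at h2
      exact h2
  exact hle hg

/-! ### The order of the subgroup, and two points with trivial stabiliser -/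

theorem gens1_lt : ∀ w ∈ gens1, ∀ l ∈ w, l < 6 := by decide

theorem base_facts : Nat.card ↥HS = 3753792 ∧
    ∀ h ∈ HS, ρ h 1 = 1 → ρ h b2 = b2 → h = 1 := by
  have hfin := finite_HS
  have hfin1 : Finite ↥(stabS ρ HS 1) :=
    Finite.of_injective (Subgroup.inclusion (stabS_le ρ HS 1)) (Subgroup.inclusion_injective _)
  have hfin2 : Finite ↥(stabS ρ (stabS ρ HS 1) b2) :=
    Finite.of_injective (Subgroup.inclusion (stabS_le ρ (stabS ρ HS 1) b2))
      (Subgroup.inclusion_injective _)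
  have hrev : ∀ (w : List ℕ), (∀ l ∈ w, l < 6) → wprod φ w.reverse ∈ HS := by
    intro w hw
    apply wprod_mem_HS
    intro l hl
    exact hw l (List.mem_reverse.1 hl)
  have m1 : ((Finset.range 122760).filter (fun c => tt1 c ≠ 0)).card *
      Nat.card ↥(stabS ρ HS 1) ≤ Nat.card ↥HS := by
    apply card_stabS_le ρ HS 1
    intro c hc
    rw [Finset.mem_filter, Finset.mem_range] at hc
    exact orbit_of_otW ρ φ D inv_ok hρ HS gens1 gens1_lt (fun w hw => hrev w (gens1_lt w hw))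
      tt1 1 ot1 c hc.1 hc.2
  have hL2 : ∀ w ∈ gens2, wprod φ w.reverse ∈ stabS ρ HS 1 := by
    intro w hw
    obtain ⟨a1, a2⟩ := gens2_ok w hw
    rw [mem_stabS]
    refine ⟨hrev w a1, ?_⟩
    rw [ev w a1 1 (by show 1 < 122760; norm_num)]
    exact a2
  have m2 : ((Finset.range 122760).filter (fun c => tt2 c ≠ 0)).card *
      Nat.card ↥(stabS ρ (stabS ρ HS 1) b2) ≤ Nat.card ↥(stabS ρ HS 1) := by
    apply card_stabS_le ρ (stabS ρ HS 1) b2
    intro c hc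
    rw [Finset.mem_filter, Finset.mem_range] at hc
    exact orbit_of_otW ρ φ D inv_ok hρ (stabS ρ HS 1) gens2
      (fun w hw => (gens2_ok w hw).1) hL2 tt2 b2 ot2 c hc.1 hc.2
  have c1 : ((Finset.range 122760).filter (fun c => tt1 c ≠ 0)).card = 5586 := by
    have := countNZ_eq tt1 122760 0
    rw [cnt1] at this
    omega
  have c2 : ((Finset.range 122760).filter (fun c => tt2 c ≠ 0)).card = 672 := by
    have := countNZ_eq tt2 122760 0
    rw [cnt2] at this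
    omega
  rw [c1] at m1
  rw [c2] at m2
  have hle := card_HS_le.2
  have hpos : 0 < Nat.card ↥(stabS ρ (stabS ρ HS 1) b2) := Nat.card_pos
  have hle1 : Nat.card ↥(stabS ρ (stabS ρ HS 1) b2) ≤ 1 := by omega
  have hsub : Subsingleton ↥(stabS ρ (stabS ρ HS 1) b2) :=
    Finite.card_le_one_iff_subsingleton.1 hle1
  refine ⟨by omega, ?_⟩
  intro h hh h1 h2
  have hmem : h ∈ stabS ρ (stabS ρ HS 1) b2 := by
    rw [mem_stabS, mem_stabS]
    exact ⟨⟨hh, h1⟩, h2⟩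
  have e := Subsingleton.elim (⟨h, hmem⟩ : ↥(stabS ρ (stabS ρ HS 1) b2)) 1
  exact congrArg Subtype.val e

/-! ### Matrices acting as elements of `HS` -/

/-- the matrix `A` acts on the matrices of the 5586 conics as `g` acts on the points -/
def Eqv (g : ON) (A : SL3) : Prop :=
  ∀ p, 1 ≤ p → p < 5587 → ∃ μ : ZMod 7, μ ≠ 0 ∧
    A.1 * ofS (mtN p) * A.1ᵀ = μ • ofS (mtN (ρ g p))

theorem Eqv_one : Eqv 1 1 := fun p _ _ =>
  ⟨1, one_ne_zero, by
    rw [Matrix.SpecialLinearGroup.coe_one, Matrix.one_mul, Matrix.transpose_one, Matrix.mul_one,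
      one_smul, map_one]
    rfl⟩

theorem Eqv_mul {g g' : ON} {A A' : SL3} (hg' : g' ∈ HS) (h : Eqv g A) (h' : Eqv g' A') :
    Eqv (g * g') (A * A') := by
  intro p hp1 hp2
  obtain ⟨μ', hμ', e'⟩ := h' p hp1 hp2
  obtain ⟨q1, q2⟩ := (orb g' hg' p).1 ⟨hp1, hp2⟩
  obtain ⟨μ, hμ, e⟩ := h (ρ g' p) q1 q2
  refine ⟨μ' * μ, mul_ne_zero hμ' hμ, ?_⟩
  rw [Matrix.SpecialLinearGroup.coe_mul, Matrix.transpose_mul, rho_mul]
  calc A.1 * A'.1 * ofS (mtN p) * (A'.1ᵀ * A.1ᵀ)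
      = A.1 * (A'.1 * ofS (mtN p) * A'.1ᵀ) * A.1ᵀ := by simp only [Matrix.mul_assoc]
    _ = (μ' * μ) • ofS (mtN (ρ g (ρ g' p))) := by
      rw [e', Matrix.mul_smul, Matrix.smul_mul, e, smul_smul]

theorem inv_coe_mul (A : SL3) : (A⁻¹).1 * A.1 = 1 := by
  rw [← Matrix.SpecialLinearGroup.coe_mul, inv_mul_cancel, Matrix.SpecialLinearGroup.coe_one]

theorem coe_transpose_mul_inv (A : SL3) : A.1ᵀ * (A⁻¹).1ᵀ = 1 := by
  rw [← Matrix.transpose_mul, inv_coe_mul, Matrix.transpose_one]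

theorem Eqv_inv {g : ON} {A : SL3} (hg : g ∈ HS) (h : Eqv g A) : Eqv g⁻¹ A⁻¹ := by
  intro p hp1 hp2
  obtain ⟨q1, q2⟩ := (orb g⁻¹ (HS.inv_mem hg) p).1 ⟨hp1, hp2⟩
  obtain ⟨μ, hμ, e⟩ := h (ρ g⁻¹ p) q1 q2
  have e1 : ρ g (ρ g⁻¹ p) = p := by
    rw [← rho_mul, mul_inv_cancel, map_one]
    rfl
  rw [e1] at e
  refine ⟨μ⁻¹, inv_ne_zero hμ, ?_⟩
  have e2 : ofS (mtN p) = μ⁻¹ • (A.1 * ofS (mtN (ρ g⁻¹ p)) * A.1ᵀ) := by
    rw [e, smul_smul, inv_mul_cancel₀ hμ, one_smul]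
  calc (A⁻¹).1 * ofS (mtN p) * (A⁻¹).1ᵀ
      = (A⁻¹).1 * (μ⁻¹ • (A.1 * ofS (mtN (ρ g⁻¹ p)) * A.1ᵀ)) * (A⁻¹).1ᵀ := by rw [← e2]
    _ = μ⁻¹ • ((A⁻¹).1 * A.1 * ofS (mtN (ρ g⁻¹ p)) * (A.1ᵀ * (A⁻¹).1ᵀ)) := by
        simp only [Matrix.mul_smul, Matrix.smul_mul, Matrix.mul_assoc]
    _ = μ⁻¹ • ofS (mtN (ρ g⁻¹ p)) := by
        rw [inv_coe_mul, coe_transpose_mul_inv, Matrix.one_mul, Matrix.mul_one]

/-- a checked matrix acts as `a x` -/
theorem Eqv_gen (s : ℕ) (A : N9) (hdet : (ofN A).det = 1) (hs : s < 6)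
    (hchk : allRange (fun p => force (mtN p) fun m => force (conjN A m) fun v =>
      force (mtN (QL 0 (QL s p))) fun w => peC v w) 1 5586 = true) :
    Eqv (φ 0 * φ s) ⟨ofN A, hdet⟩ := by
  intro p hp1 hp2
  have h := allRange_spec hchk p hp1 (by omega)
  simp only [force_eq] at h
  obtain ⟨μ, hμ, e⟩ := peC_spec h
  refine ⟨μ, hμ, ?_⟩
  rw [ofS_conjN] at e
  have h1 := rho_letter s hs p (by omega)
  have h2 := rho_letter 0 (by norm_num) _ h1.2
  have hq : ρ (φ 0 * φ s) p = QL 0 (QL s p) := by rw [rho_mul, h1.1, h2.1]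
  rw [hq]
  exact e

theorem detA1 : (ofN A1).det = 1 := by rw [Matrix.det_fin_three]; decide
theorem detA2 : (ofN A2).det = 1 := by rw [Matrix.det_fin_three]; decide
theorem detA3 : (ofN A3).det = 1 := by rw [Matrix.det_fin_three]; decide
theorem detA4 : (ofN A4).det = 1 := by rw [Matrix.det_fin_three]; decide
theorem detA5 : (ofN A5).det = 1 := by rw [Matrix.det_fin_three]; decide

/-- the elements of `HS` that act on the conics as matrices of determinant 1 -/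
def TS : Subgroup ON where
  carrier := {g | g ∈ HS ∧ ∃ A : SL3, Eqv g A}
  mul_mem' := by
    rintro a b ⟨ha, A, hA⟩ ⟨hb, B, hB⟩
    exact ⟨HS.mul_mem ha hb, A * B, Eqv_mul hb hA hB⟩
  one_mem' := ⟨HS.one_mem, 1, Eqv_one⟩
  inv_mem' := by
    rintro a ⟨ha, A, hA⟩
    exact ⟨HS.inv_mem ha, A⁻¹, Eqv_inv ha hA⟩

theorem mem_TS {g : ON} : g ∈ TS ↔ g ∈ HS ∧ ∃ A : SL3, Eqv g A := Iff.rfl

theorem TS_le : TS ≤ HS := fun _ hg => (mem_TS.1 hg).1

theorem gen_mem_TS (s : ℕ) (hs : s < 6) : φ 0 * φ s ∈ TS := by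
  have hm : ∀ s, s < 6 → φ 0 * φ s ∈ HS := fun s hs =>
    HS.mul_mem (phi_mem (by norm_num)) (phi_mem hs)
  interval_cases s
  · rw [hsq 0]
    exact TS.one_mem
  · exact mem_TS.2 ⟨hm 1 (by norm_num), _, Eqv_gen 1 A1 detA1 (by norm_num) chkS1⟩
  · exact mem_TS.2 ⟨hm 2 (by norm_num), _, Eqv_gen 2 A2 detA2 (by norm_num) chkS2⟩
  · exact mem_TS.2 ⟨hm 3 (by norm_num), _, Eqv_gen 3 A3 detA3 (by norm_num) chkS3⟩
  · exact mem_TS.2 ⟨hm 4 (by norm_num), _, Eqv_gen 4 A4 detA4 (by norm_num) chkS4⟩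
  · exact mem_TS.2 ⟨hm 5 (by norm_num), _, Eqv_gen 5 A5 detA5 (by norm_num) chkS5⟩

/-- `TS` and its coset of `a` cover `HS` -/
theorem mem_TS_or (h : ON) (hh : h ∈ HS) : h ∈ TS ∨ h * φ 0 ∈ TS := by
  have step : ∀ (x : ON) (l : ℕ), l < 6 → (x ∈ TS ∨ x * φ 0 ∈ TS) →
      (x * φ l ∈ TS ∨ x * φ l * φ 0 ∈ TS) := by
    intro x l hl ih
    have h1 : φ 0 * φ l ∈ TS := gen_mem_TS l hl
    have h2 : φ l * φ 0 ∈ TS := by
      have := TS.inv_mem h1
      rwa [mul_inv_rev, φ_inv, φ_inv] at this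
    rcases ih with ih | ih
    · right
      rw [mul_assoc]
      exact TS.mul_mem ih h2
    · left
      have e : x * φ l = (x * φ 0) * (φ 0 * φ l) := by
        rw [mul_assoc, ← mul_assoc (φ 0), hsq 0, one_mul]
      rw [e]
      exact TS.mul_mem ih h1
  have hl6 : ∀ l, l ∈ [0, 1, 2, 3, 4, 5] → l < 6 := by
    intro l hl
    simp only [List.mem_cons, List.not_mem_nil, or_false] at hl
    omega
  unfold HS LS at hh
  refine Subgroup.closure_induction_right (p := fun x _ => x ∈ TS ∨ x * φ 0 ∈ TS) ?_ ?_ ?_ hh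
  · exact Or.inl TS.one_mem
  · rintro x - y ⟨l, hl, rfl⟩ ih
    exact step x l (hl6 l hl) ih
  · rintro x - y ⟨l, hl, rfl⟩ ih
    show x * (φ l)⁻¹ ∈ TS ∨ x * (φ l)⁻¹ * φ 0 ∈ TS
    rw [φ_inv]
    exact step x l (hl6 l hl) ih

/-! ### A matrix fixing every conic is scalar -/

theorem chain_spec (E : M3)
    (hE : ∀ p, 1 ≤ p → p < 5587 → ∃ ν : ZMod 7, E * ofS (mtN p) * Eᵀ = ν • ofS (mtN p)) :
    ∀ (l : List (ℕ × ℕ × ℕ × ℕ)) (s : ℕ) (μ : ZMod 7), chainOK s l = true →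
      E * ofS (mtN s) * Eᵀ = μ • ofS (mtN s) →
      ∀ e ∈ l, E * ofS (mtN e.1) * Eᵀ = μ • ofS (mtN e.1) := by
  intro l
  induction l with
  | nil =>
    intro s μ _ _ e he
    exact absurd he List.not_mem_nil
  | cons e0 rest ih =>
    intro s μ hok hs e he
    have hok' : (inR 1 5586 e0.1 && inR 1 5586 e0.2.1 &&
        eqk 1 (mtN e0.2.1) (lin2 e0.2.2.1 (mtN s) e0.2.2.2 (mtN e0.1)) &&
        linkB (mtN s) (mtN e0.1) e0.2.2.1 e0.2.2.2 && chainOK e0.1 rest) = true := hok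
    simp only [Bool.and_eq_true] at hok'
    obtain ⟨⟨⟨⟨h1, h2⟩, h3⟩, h4⟩, h5⟩ := hok'
    obtain ⟨a1, a2⟩ := inR_iff.1 h1
    obtain ⟨b1, b2'⟩ := inR_iff.1 h2
    obtain ⟨ν, hν⟩ := hE e0.1 a1 (by omega)
    obtain ⟨κ, hκ⟩ := hE e0.2.1 b1 (by omega)
    have hr : ofS (mtN e0.2.1) =
        (e0.2.2.1 : ZMod 7) • ofS (mtN s) + (e0.2.2.2 : ZMod 7) • ofS (mtN e0.1) := by
      have := (eqk_iff 1 _ _).1 h3
      rw [ofS_lin2, Nat.cast_one, one_smul] at this
      exact this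
    have e1 : E * ofS (mtN e0.2.1) * Eᵀ =
        ((e0.2.2.1 : ZMod 7) * μ) • ofS (mtN s) + ((e0.2.2.2 : ZMod 7) * ν) • ofS (mtN e0.1) := by
      rw [hr]
      simp only [Matrix.mul_add, Matrix.add_mul, Matrix.mul_smul, Matrix.smul_mul, hs, hν,
        smul_smul]
    have key : ofS (lin2 (e0.2.2.1 * μ.val) (mtN s) (e0.2.2.2 * ν.val) (mtN e0.1)) =
        ((1 : ℕ) : ZMod 7) •
          ofS (lin2 (κ.val * e0.2.2.1) (mtN s) (κ.val * e0.2.2.2) (mtN e0.1)) := by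
      rw [ofS_lin2, ofS_lin2, Nat.cast_one, one_smul, Nat.cast_mul, Nat.cast_mul, Nat.cast_mul,
        Nat.cast_mul, ZMod.natCast_zmod_val, ZMod.natCast_zmod_val, ZMod.natCast_zmod_val,
        ← e1, hκ, hr, smul_add, smul_smul, smul_smul]
    have h6 : (!(eqk 1 (lin2 (e0.2.2.1 * μ.val) (mtN s) (e0.2.2.2 * ν.val) (mtN e0.1))
        (lin2 (κ.val * e0.2.2.1) (mtN s) (κ.val * e0.2.2.2) (mtN e0.1))) ||
        (Nat.beq μ.val κ.val && Nat.beq ν.val κ.val)) = true :=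
      all7_spec (all7_spec (all7_spec h4 μ.val (ZMod.val_lt μ)) ν.val (ZMod.val_lt ν))
        κ.val (ZMod.val_lt κ)
    rw [(eqk_iff 1 _ _).2 key] at h6
    simp only [Bool.not_true, Bool.false_or, Bool.and_eq_true, nbeq_iff] at h6
    have e2 : μ = κ := ZMod.val_injective 7 h6.1
    have e3 : ν = κ := ZMod.val_injective 7 h6.2
    have hnext : E * ofS (mtN e0.1) * Eᵀ = μ • ofS (mtN e0.1) := by rw [hν, e3, e2]
    rcases List.mem_cons.1 he with rfl | he'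
    · exact hnext
    · exact ih e0.1 μ h5 hnext e he'

theorem lin_spec (E : M3) (μ : ZMod 7) (cs : List (ℕ × ℕ))
    (h : ∀ e ∈ cs, E * ofS (mtN e.2) * Eᵀ = μ • ofS (mtN e.2)) :
    E * ofS (linL cs) * Eᵀ = μ • ofS (linL cs) := by
  induction cs with
  | nil =>
    show E * ofS 0 * Eᵀ = μ • ofS 0
    rw [ofS_zero, Matrix.mul_zero, Matrix.zero_mul, smul_zero]
  | cons e cs ih =>
    have e1 : linL (e :: cs) = lin2 e.1 (mtN e.2) 1 (linL cs) := rfl
    rw [e1, ofS_lin2, Nat.cast_one, one_smul, Matrix.mul_add, Matrix.add_mul, Matrix.mul_smul,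
      Matrix.smul_mul, h e List.mem_cons_self,
      ih (fun e' he' => h e' (List.mem_cons_of_mem _ he')), smul_add, smul_comm μ]

/-- a matrix of determinant 1 mapping the matrix of each conic to a multiple of itself is scalar -/
theorem scalar_of_fix (E : M3) (hdet : E.det = 1)
    (h : ∀ p, 1 ≤ p → p < 5587 → ∃ ν : ZMod 7, E * ofS (mtN p) * Eᵀ = ν • ofS (mtN p)) :
    ∃ r : ZMod 7, r ^ 3 = 1 ∧ Matrix.scalar (Fin 3) r = E := by
  obtain ⟨μ, hμ⟩ := h 1 (le_refl _) (by norm_num)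
  have hw : ∀ p ∈ OnC.walk, E * ofS (mtN p) * Eᵀ = μ • ofS (mtN p) := by
    intro p hp
    unfold OnC.walk at hp
    rcases List.mem_cons.1 hp with rfl | hp'
    · exact hμ
    · obtain ⟨e, he, rfl⟩ := List.mem_map.1 hp'
      exact chain_spec E h chain 1 μ chain_ok hμ e he
  have hb : ∀ (k : ℕ) (cs : List (ℕ × ℕ)), cs ∈ [coef0, coef1, coef2, coef3, coef4, coef5] →
      eqk 1 k (linL cs) = true → E * ofS k * Eᵀ = μ • ofS k := by
    intro k cs hcs hk
    have e1 : ofS k = ofS (linL cs) := by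
      have := (eqk_iff 1 k (linL cs)).1 hk
      rw [Nat.cast_one, one_smul] at this
      exact this
    rw [e1]
    exact lin_spec E μ cs (fun e he => hw e.2 (coef_mem cs hcs e he))
  exact scalar_of_basis E μ hdet (hb 1 coef0 (by simp) coef_ok0) (hb 7 coef1 (by simp) coef_ok1)
    (hb 49 coef2 (by simp) coef_ok2) (hb 343 coef3 (by simp) coef_ok3)
    (hb 16807 coef5 (by simp) coef_ok5)

/-- two matrices acting as the same element differ by a central element -/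
theorem center_of_Eqv {g : ON} {A B : SL3} (hA : Eqv g A) (hB : Eqv g B) :
    A⁻¹ * B ∈ Subgroup.center SL3 := by
  rw [Matrix.SpecialLinearGroup.mem_center_iff]
  have hfix : ∀ p, 1 ≤ p → p < 5587 → ∃ ν : ZMod 7,
      (A⁻¹ * B).1 * ofS (mtN p) * (A⁻¹ * B).1ᵀ = ν • ofS (mtN p) := by
    intro p hp1 hp2
    obtain ⟨μ, hμ, e⟩ := hA p hp1 hp2
    obtain ⟨ν, hν, e'⟩ := hB p hp1 hp2
    refine ⟨ν * μ⁻¹, ?_⟩
    have e2 : ofS (mtN (ρ g p)) = μ⁻¹ • (A.1 * ofS (mtN p) * A.1ᵀ) := by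
      rw [e, smul_smul, inv_mul_cancel₀ hμ, one_smul]
    rw [Matrix.SpecialLinearGroup.coe_mul, Matrix.transpose_mul]
    calc (A⁻¹).1 * B.1 * ofS (mtN p) * (B.1ᵀ * (A⁻¹).1ᵀ)
        = (A⁻¹).1 * (B.1 * ofS (mtN p) * B.1ᵀ) * (A⁻¹).1ᵀ := by simp only [Matrix.mul_assoc]
      _ = (A⁻¹).1 * (ν • (μ⁻¹ • (A.1 * ofS (mtN p) * A.1ᵀ))) * (A⁻¹).1ᵀ := by rw [e', ← e2]
      _ = (ν * μ⁻¹) • ((A⁻¹).1 * A.1 * ofS (mtN p) * (A.1ᵀ * (A⁻¹).1ᵀ)) := by
          simp only [Matrix.mul_smul, Matrix.smul_mul, Matrix.mul_assoc, smul_smul]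
      _ = (ν * μ⁻¹) • ofS (mtN p) := by
          rw [inv_coe_mul, coe_transpose_mul_inv, Matrix.one_mul, Matrix.mul_one]
  obtain ⟨r, hr, hs⟩ := scalar_of_fix (A⁻¹ * B).1 (A⁻¹ * B).2 hfix
  exact ⟨r, by rw [Fintype.card_fin]; exact hr, hs⟩

/-- an element acting as a central matrix fixes the two base points -/
theorem fix_of_center {t : ON} (ht : t ∈ HS) {A : SL3} (hA : Eqv t A)
    (hc : A ∈ Subgroup.center SL3) (b : ℕ) (hb : b ∈ [1, b2]) (hb1 : 1 ≤ b) (hb2 : b < 5587) :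
    ρ t b = b := by
  obtain ⟨r, hr, hs⟩ := Matrix.SpecialLinearGroup.mem_center_iff.1 hc
  have hr0 : r ≠ 0 := by
    intro h0
    rw [h0, Fintype.card_fin] at hr
    norm_num at hr
  obtain ⟨μ, hμ, e⟩ := hA b hb1 hb2
  obtain ⟨q1, q2⟩ := (orb t ht b).1 ⟨hb1, hb2⟩
  have hsc : Matrix.scalar (Fin 3) r = r • (1 : M3) := by
    rw [Matrix.scalar_apply, Matrix.smul_one_eq_diagonal]
  have e0 : A.1 * ofS (mtN b) * A.1ᵀ = (r * r) • ofS (mtN b) := by
    rw [← hs, hsc]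
    simp only [Matrix.smul_mul, Matrix.mul_smul, Matrix.one_mul, Matrix.mul_one,
      Matrix.transpose_smul, Matrix.transpose_one, smul_smul]
  rw [e0] at e
  have e3 : ofS (mtN (ρ t b)) = (μ⁻¹ * (r * r)) • ofS (mtN b) := by
    rw [← smul_smul, e, smul_smul, inv_mul_cancel₀ hμ, one_smul]
  have h1 : (Nat.beq (ρ t b) b || !(peC (mtN (ρ t b)) (mtN b))) = true :=
    allRange_spec (uniq b hb) (ρ t b) q1 (by omega)
  rw [peC_of_smul _ (mul_ne_zero (inv_ne_zero hμ) (mul_ne_zero hr0 hr0)) e3] at h1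
  simp only [Bool.not_true, Bool.or_false] at h1
  exact nbeq_iff.1 h1

/-! ### The isomorphism -/

theorem card_PSL3 : Nat.card PSL3 = 1876896 := by
  have h1 := Cfsg.Agent.Lib.helper6.card_PSL (F := ZMod 7) 3 (by norm_num)
  rw [ZMod.card, Fin.prod_univ_three] at h1
  norm_num at h1
  rw [Nat.card_eq_fintype_card]
  omega

theorem main : ∃ N : Subgroup ↥HS, N.Normal ∧ N.index = 2 ∧ Nonempty (↥N ≃* PSL3) := by
  classical
  have hfin := finite_HS
  obtain ⟨hcard, hbase⟩ := base_facts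
  have hfinP : Finite PSL3 := Nat.finite_of_card_ne_zero (by rw [card_PSL3]; norm_num)
  have hfinT : Finite ↥TS :=
    Finite.of_injective (Subgroup.inclusion TS_le) (Subgroup.inclusion_injective _)
  have hex : ∀ t : ↥TS, ∃ A : SL3, Eqv t.1 A := fun t => (mem_TS.1 t.2).2
  choose Am hAm using hex
  let ψ : ↥TS →* PSL3 := MonoidHom.mk' (fun t => (QuotientGroup.mk (Am t) : PSL3)) (by
    intro t t'
    show (QuotientGroup.mk (Am (t * t')) : PSL3) = QuotientGroup.mk (Am t) * QuotientGroup.mk (Am t')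
    rw [← QuotientGroup.mk_mul]
    exact QuotientGroup.eq.2
      (center_of_Eqv (hAm (t * t')) (Eqv_mul (TS_le t'.2) (hAm t) (hAm t'))))
  have hψ : ∀ t : ↥TS, ψ t = (QuotientGroup.mk (Am t) : PSL3) := fun t => rfl
  have hinj : Function.Injective ψ := by
    rw [injective_iff_map_eq_one]
    intro t ht
    rw [hψ] at ht
    have hc : Am t ∈ Subgroup.center SL3 := (QuotientGroup.eq_one_iff _).1 ht
    have r2 : 1 ≤ b2 ∧ b2 < 5587 := by decide
    apply Subtype.ext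
    exact hbase t.1 (TS_le t.2)
      (fix_of_center (TS_le t.2) (hAm t) hc 1 (by simp) (le_refl _) (by norm_num))
      (fix_of_center (TS_le t.2) (hAm t) hc b2 (by simp) r2.1 r2.2)
  have hT_le : Nat.card ↥TS ≤ 1876896 := by
    rw [← card_PSL3]
    exact Nat.card_le_card_of_injective ψ hinj
  have hT_ge : 3753792 ≤ 2 * Nat.card ↥TS := by
    let g : ↥HS → ↥TS := fun h =>
      if hm : h.1 ∈ TS then ⟨h.1, hm⟩ else ⟨h.1 * φ 0, (mem_TS_or h.1 h.2).resolve_left hm⟩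
    have hg1 : ∀ h : ↥HS, h.1 ∈ TS → (g h).1 = h.1 := by
      intro h hm
      simp only [g, dif_pos hm]
    have hg2 : ∀ h : ↥HS, h.1 ∉ TS → (g h).1 = h.1 * φ 0 := by
      intro h hm
      simp only [g, dif_neg hm]
    let f : ↥HS → ↥TS × Bool := fun h => (g h, decide (h.1 ∈ TS))
    have hf : Function.Injective f := by
      intro x y hxy
      have h1 : g x = g y := congrArg Prod.fst hxy
      have h2 : decide (x.1 ∈ TS) = decide (y.1 ∈ TS) := congrArg Prod.snd hxy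
      have h3 : (g x).1 = (g y).1 := congrArg Subtype.val h1
      apply Subtype.ext
      by_cases hx : x.1 ∈ TS
      · have hy : y.1 ∈ TS := by
          by_contra hy
          rw [decide_eq_true hx, decide_eq_false hy] at h2
          exact Bool.noConfusion h2
        rw [hg1 x hx, hg1 y hy] at h3
        exact h3
      · have hy : y.1 ∉ TS := by
          intro hy
          rw [decide_eq_false hx, decide_eq_true hy] at h2
          exact Bool.noConfusion h2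
        rw [hg2 x hx, hg2 y hy] at h3
        exact mul_right_cancel h3
    have h1 := Nat.card_le_card_of_injective f hf
    rw [Nat.card_prod, Nat.card_eq_fintype_card (α := Bool), Fintype.card_bool, hcard] at h1
    omega
  have hT : Nat.card ↥TS = 1876896 := by omega
  have hbij : Function.Bijective ψ :=
    Function.Injective.bijective_of_nat_card_le hinj (by rw [hT, card_PSL3])
  have hN : Nat.card ↥(TS.subgroupOf HS) = 1876896 := by
    rw [Nat.card_congr (Subgroup.subgroupOfEquivOfLe TS_le).toEquiv]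
    exact hT
  have hidx : (TS.subgroupOf HS).index = 2 := by
    have h1 := Subgroup.card_mul_index (TS.subgroupOf HS)
    rw [hN, hcard] at h1
    omega
  exact ⟨TS.subgroupOf HS, Subgroup.normal_of_index_eq_two hidx, hidx,
    ⟨(Subgroup.subgroupOfEquivOfLe TS_le).trans (MulEquiv.ofBijective ψ hbij)⟩⟩

theorem main' (H : Subgroup ON) (hH : H = HS) :
    ∃ N : Subgroup ↥H, N.Normal ∧ N.index = 2 ∧ Nonempty (↥N ≃* PSL3) := by
  subst hH
  exact main

/-- In the presented O'Nan group, the subgroup H generated by the images of a, …, f has a normal subgroup of index 2 isomorphic to PSL(3, 7). -/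
theorem result : ∃ N : Subgroup (((Subgroup.closure ({Cfsg.Spor.ON.a, Cfsg.Spor.ON.b, Cfsg.Spor.ON.c, Cfsg.Spor.ON.d, Cfsg.Spor.ON.e, Cfsg.Spor.ON.f} : Set (FreeGroup Cfsg.Spor.ON.Gen))).map (PresentedGroup.mk (Cfsg.Spor.coxRelators Cfsg.Spor.ON.edges ∪ {r | r ∈ Cfsg.Spor.ON.extra})))), N.Normal ∧ N.index = 2 ∧ Nonempty (N ≃* Matrix.ProjectiveSpecialLinearGroup (Fin 3) (ZMod 7)) :=
  main' _ H_eq

end Cfsg.Agent.S1693
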