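import Cfsg.Statements.S1695
import Cfsg.Agent.Lib.helper35.CosetSS
import Cfsg.Agent.Lib.helper35.HeaChecks
import Cfsg.Agent.Lib.helper35.HecChecks
import Cfsg.Agent.Lib.helper35.HeU1
import Cfsg.Agent.Lib.helper35.HeV1
import Cfsg.Agent.Lib.helper35.HeV2
import Cfsg.Agent.Lib.helper35.HeV3
import Cfsg.Agent.Lib.helper35.HeV4
import Cfsg.Agent.Lib.helper35.HeV5
import Cfsg.Agent.Lib.helper35.HeX1
import Cfsg.Agent.Lib.helper35.HeX2
import Cfsg.Agent.Lib.helper35.HeX3
import Cfsg.Agent.Lib.helper35.HeX4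
import Cfsg.Agent.Lib.helper35.HeQ
import Cfsg.Agent.Lib.helper35.HeLb
import Cfsg.Agent.Lib.helper35.HeGb

set_option autoImplicit false
set_option maxRecDepth 100000
open Cfsg

namespace Cfsg.Agent.S1695

open Cfsg.Agent.Lib.helper35 Cfsg.Spor

/-- numbering of the generators -/
def gen : ℕ → He.Gen
  | 0 => .a | 1 => .b | 2 => .c | 3 => .d | 4 => .e | 5 => .f | _ => .g

def code : He.Gen → ℕ
  | .a => 0 | .b => 1 | .c => 2 | .d => 3 | .e => 4 | .f => 5 | .g => 6

/-- generators of a subgroup of index 2058 -/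
def ysA : List (FreeGroup He.Gen) :=
  [He.a, He.c, He.d, He.e, He.f, (He.a * He.b) ^ 2, (He.b * He.c * He.d * He.e) ^ 7]

/-- generators of a subgroup of index 8330, the normaliser of a four-group -/
def ysC : List (FreeGroup He.Gen) :=
  [He.a, He.c, He.d, He.e, He.f, He.g, He.b * He.a * He.b,
    He.b * He.c * He.d * He.e * He.f * He.d * He.c * He.b * He.d * He.c * He.d * He.c * He.b *
      He.e * He.d * He.c * He.d * He.e * He.f * He.d * He.c * He.b]

theorem pres : Pres He.edges gen code 7 where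
  node := by intro x; cases x <;> decide
  gen_code := by intro x; cases x <;> rfl
  code_lt := by intro x; cases x <;> decide
  code_gen := by intro i hi; interval_cases i <;> rfl

theorem relWA_eq : Hea.relW = relWords He.edges He.extra gen code 7 := by decide +kernel

theorem subWA_eq : Hea.subW = ysA.map (wordOf code) := by decide +kernel

theorem relWC_eq : Hec.relW = relWords He.edges He.extra gen code 7 := by decide +kernel

theorem subWC_eq : Hec.subW = ysC.map (wordOf code) := by decide +kernel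

theorem checksA : Checks He.edges He.extra gen code 7 Hea.C Hea.D Hea.relW Hea.subW
    Hea.orbs ysA where
  pres := pres
  relW_eq := relWA_eq
  subW_eq := subWA_eq
  cK := rfl
  rows := Hea.rows_all
  fin := Hea.fin_all
  cM := by decide
  live0 := by decide +kernel
  cnt := Hea.cnt0
  rev := Hea.rev_ok
  wr := Hea.wr_ok
  ws := Hea.ws_ok
  dK := rfl
  dn := by decide
  inv := Hea.inv_ok
  rel := Hea.rel_ok
  sub := Hea.sub_ok
  letters := Hea.letters_ok
  tile := Hea.tile_ok
  pos := Hea.pos_ok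
  orb := Hea.orb_ok

theorem checksC : Checks He.edges He.extra gen code 7 Hec.C Hec.D Hec.relW Hec.subW
    Hec.orbs ysC where
  pres := pres
  relW_eq := relWC_eq
  subW_eq := subWC_eq
  cK := rfl
  rows := Hec.rows_all
  fin := Hec.fin_all
  cM := by decide
  live0 := by decide +kernel
  cnt := Hec.cnt0
  rev := Hec.rev_ok
  wr := Hec.wr_ok
  ws := Hec.ws_ok
  dK := rfl
  dn := by decide
  inv := Hec.inv_ok
  rel := Hec.rel_ok
  sub := Hec.sub_ok
  letters := Hec.letters_ok
  tile := Hec.tile_ok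
  pos := Hec.pos_ok
  orb := Hec.orb_ok

/-- the generators of the presented group, by letter -/
def φ : ℕ → He := sG He.edges He.extra gen

theorem hsq : ∀ l, φ l * φ l = 1 := fun l => sG_sq pres l

theorem hrelW : ∀ w ∈ Hea.relW, wprod φ w = 1 := by
  intro w hw
  rw [relWA_eq] at hw
  exact relWords_one pres w hw

theorem LS_top : LS φ [0, 1, 2, 3, 4, 5, 6] = ⊤ := by
  rw [eq_top_iff, ← PresentedGroup.closure_range_of]
  unfold LS
  apply Subgroup.closure_mono
  rintro _ ⟨x, rfl⟩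
  refine ⟨code x, by cases x <;> decide, ?_⟩
  show PresentedGroup.of x = PresentedGroup.mk _ (FreeGroup.of (gen (code x)))
  rw [pres.gen_code]
  rfl

/-- the subgroup of index 2058 -/
def HA : Subgroup He := (Subgroup.closure {y | y ∈ ysA}).map
    (PresentedGroup.mk (coxRelators He.edges ∪ {r | r ∈ He.extra}))

/-- the subgroup of index 8330 -/
def HC : Subgroup He := (Subgroup.closure {y | y ∈ ysC}).map
    (PresentedGroup.mk (coxRelators He.edges ∪ {r | r ∈ He.extra}))

theorem card_step {Γ : Type*} [Group Γ] {L' L : Subgroup Γ} (h : L' ≤ L) :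
    Nat.card L' * L'.relIndex L = Nat.card L := by
  have := Subgroup.relIndex_mul_relIndex ⊥ L' L bot_le h
  rwa [Subgroup.relIndex_bot_left, Subgroup.relIndex_bot_left] at this

theorem card_le_step {Γ : Type*} [Group Γ] {L' L : Subgroup Γ} (h : L' ≤ L) {a b : ℕ}
    (h1 : Nat.card L' ≠ 0 ∧ Nat.card L' ≤ a) (h2 : L'.relIndex L ≠ 0 ∧ L'.relIndex L ≤ b) :
    Nat.card L ≠ 0 ∧ Nat.card L ≤ a * b := by
  rw [← card_step h]
  exact ⟨Nat.mul_ne_zero h1.1 h2.1, Nat.mul_le_mul h1.2 h2.2⟩

/-- the order of the group, the maximality of the subgroup of index 2058, and a base of the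
permutation representation on its cosets -/
theorem order_facts :
    Nat.card He = 4030387200 ∧
    (∀ L : Subgroup He, HA ≤ L → L = HA ∨ L = ⊤) ∧
    HA.index = 2058 ∧
    ∃ ρ : He →* Equiv.Perm ℕ, (∀ l, l < 7 → ∀ c, ρ (φ l) c = sig Hea.D l c) ∧
      (∀ a, ρ a 0 = 0 ↔ a ∈ HA) ∧
      (∀ c, c < 2058 → ∃ a, ρ a 0 = c) ∧
      (∀ g : He, (∀ b ∈ [2038, 279, 1, 0], ρ g b = b) → g = 1) := by
  obtain ⟨ρ, hρ, hstab, htr, hlt, hidx, htree, -⟩ :=
    CoxIndex.main2 checksA {y | y ∈ ysA} (fun y => Iff.rfl)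
  change ∀ a, ρ a 0 = 0 ↔ a ∈ HA at hstab
  change HA.index = Hea.D.n at hidx
  change ∀ o ∈ Hea.orbs, ∀ c, o.1 ≤ c → c < o.1 + o.2.1 → ∃ a ∈ HA, ρ a o.1 = c at htree
  have hρ' : ∀ l, l < Hea.D.K → ∀ c, ρ (φ l) c = sig Hea.D l c := hρ
  have hn : Hea.D.n = 2058 := rfl
  rw [hn] at hidx htr hlt
  have k0 : Nat.card (LS φ []) ≠ 0 ∧ Nat.card (LS φ []) ≤ 1 := by
    rw [LS_nil, Subgroup.card_bot]; exact ⟨one_ne_zero, le_refl 1⟩
  -- the subgroup ⟨a, b, c, d, e⟩ has order 15120 and acts faithfully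
  have v5 : (LS φ []).relIndex (LS φ [0]) ≠ 0 ∧ (LS φ []).relIndex (LS φ [0]) ≤ 2 :=
    HeV5.bound φ hsq hrelW
  have v4 : (LS φ [0]).relIndex (LS φ [0, 1]) ≠ 0 ∧ (LS φ [0]).relIndex (LS φ [0, 1]) ≤ 4 :=
    HeV4.bound φ hsq hrelW
  have v3 : (LS φ [0, 1]).relIndex (LS φ [0, 1, 3]) ≠ 0 ∧
      (LS φ [0, 1]).relIndex (LS φ [0, 1, 3]) ≤ 2 := HeV3.bound φ hsq hrelW
  have v2 : (LS φ [0, 1, 3]).relIndex (LS φ [0, 1, 3, 4]) ≠ 0 ∧
      (LS φ [0, 1, 3]).relIndex (LS φ [0, 1, 3, 4]) ≤ 3 := HeV2.bound φ hsq hrelW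
  have v1 : (LS φ [0, 1, 3, 4]).relIndex (LS φ [0, 1, 2, 3, 4]) ≠ 0 ∧
      (LS φ [0, 1, 3, 4]).relIndex (LS φ [0, 1, 2, 3, 4]) ≤ 315 := HeV1.bound φ hsq hrelW
  have a1 := card_le_step (LS_mono φ (S := [0]) (T := []) (by decide)) k0 v5
  have a2 := card_le_step (LS_mono φ (S := [0, 1]) (T := [0]) (by decide)) a1 v4
  have a3 := card_le_step (LS_mono φ (S := [0, 1, 3]) (T := [0, 1]) (by decide)) a2 v3
  have a4 := card_le_step (LS_mono φ (S := [0, 1, 3, 4]) (T := [0, 1, 3]) (by decide)) a3 v2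
  have a5 := card_le_step (LS_mono φ (S := [0, 1, 2, 3, 4]) (T := [0, 1, 3, 4]) (by decide)) a4 v1
  have hL5 : Nat.card (LS φ [0, 1, 2, 3, 4]) ≤ 15120 := by
    have := a5.2
    norm_num at this
    exact this
  have hloc := HeLb.chain ρ φ hsq hρ' (LS φ [0, 1, 2, 3, 4]) (fun l hl => LS_mem φ hl) a5.1
  obtain ⟨-, hbaseL⟩ := base_of_card ρ (LS φ [0, 1, 2, 3, 4]) _ 15120 (by norm_num) a5.1 hloc hL5
  -- the relation (cde)^5 = 1
  have hX : wprod φ HeW.wX = 1 := by
    have h1 := wprod_eq_of_base_mem ρ φ hsq Hea.D Hea.inv_ok hρ' (LS φ [0, 1, 2, 3, 4]) _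
      (by decide) hbaseL HeW.wX [] (by decide) (by decide)
      (wprod_mem_LS φ _ _ (by decide)) (by rw [wprod_nil]; exact Subgroup.one_mem _)
      (by decide +kernel)
    rw [h1, wprod_nil]
  have hrelX : ∀ w ∈ HeW.relX, wprod φ w = 1 := by
    intro w hw
    rcases List.mem_cons.1 hw with h | h
    · rw [h]; exact hX
    · exact hrelW w h
  -- upper bound for the order
  have x4 : (LS φ [0]).relIndex (LS φ [0, 2]) ≠ 0 ∧ (LS φ [0]).relIndex (LS φ [0, 2]) ≤ 2 :=
    HeX4.bound φ hsq hrelW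
  have x3 : (LS φ [0, 2]).relIndex (LS φ [0, 2, 3]) ≠ 0 ∧
      (LS φ [0, 2]).relIndex (LS φ [0, 2, 3]) ≤ 5 := HeX3.bound φ hsq hrelW
  have x2 : (LS φ [0, 2, 3]).relIndex (LS φ [0, 2, 3, 4]) ≠ 0 ∧
      (LS φ [0, 2, 3]).relIndex (LS φ [0, 2, 3, 4]) ≤ 6 := HeX2.bound φ hsq hrelX
  have x1 : (LS φ [0, 2, 3, 4]).relIndex (LS φ [0, 2, 3, 4, 5, 6]) ≠ 0 ∧
      (LS φ [0, 2, 3, 4]).relIndex (LS φ [0, 2, 3, 4, 5, 6]) ≤ 672 := HeX1.bound φ hsq hrelX
  have u1 : (LS φ [0, 2, 3, 4, 5, 6]).relIndex (LS φ [0, 1, 2, 3, 4, 5, 6]) ≠ 0 ∧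
      (LS φ [0, 2, 3, 4, 5, 6]).relIndex (LS φ [0, 1, 2, 3, 4, 5, 6]) ≤ 49980 :=
    HeU1.bound φ hsq hrelW
  have b2 := card_le_step (LS_mono φ (S := [0, 2]) (T := [0]) (by decide)) a1 x4
  have b3 := card_le_step (LS_mono φ (S := [0, 2, 3]) (T := [0, 2]) (by decide)) b2 x3
  have b4 := card_le_step (LS_mono φ (S := [0, 2, 3, 4]) (T := [0, 2, 3]) (by decide)) b3 x2
  have b5 := card_le_step (LS_mono φ (S := [0, 2, 3, 4, 5, 6]) (T := [0, 2, 3, 4]) (by decide))
    b4 x1
  have b6 := card_le_step (LS_mono φ (S := [0, 1, 2, 3, 4, 5, 6]) (T := [0, 2, 3, 4, 5, 6])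
    (by decide)) b5 u1
  rw [LS_top] at b6
  have hGle : Nat.card (⊤ : Subgroup He) ≤ 4030387200 := le_trans b6.2 (by norm_num)
  -- lower bound and base
  have hglob := HeGb.chain ρ φ hsq hρ' ⊤ (fun l _ => Subgroup.mem_top _) b6.1
  obtain ⟨cT, hbaseT⟩ := base_of_card ρ ⊤ _ 4030387200 (by norm_num) b6.1 hglob hGle
  have cG : Nat.card He = 4030387200 := by
    rw [← cT, Subgroup.card_top]
  have hmax : ∀ L : Subgroup He, HA ≤ L → L = HA ∨ L = ⊤ :=
    maximal_of_orbits _ ρ 2058 Hea.orbs hstab hlt hidx (by norm_num) Hea.tile_ok htree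
      (by decide +kernel)
  exact ⟨cG, hmax, hidx, ρ, hρ, hstab, htr, fun g hg => hbaseT g (Subgroup.mem_top g) hg⟩

theorem rho_eval {Γ : Type*} [Group Γ] (ρ : Γ →* Equiv.Perm ℕ) (ψ : ℕ → Γ) (D : PermData)
    (hinv : ∀ l, l < D.K → allRange (invOK D l) 0 D.n = true)
    (hρ : ∀ l, l < D.K → ∀ c, ρ (ψ l) c = sig D l c)
    (w : List ℕ) (hw : ∀ l ∈ w, l < D.K) (c : ℕ) (hc : c < D.n) :
    ρ (wprod ψ w.reverse) c = actP D w c := by
  rw [rho_wprod ρ ψ D hρ w hw, ← (actP_eq hinv w hw c hc).1]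

theorem mem_HC_of_mem {y : FreeGroup He.Gen} (hy : y ∈ ysC) :
    PresentedGroup.mk (coxRelators He.edges ∪ {r | r ∈ He.extra}) y ∈ HC :=
  Subgroup.mem_map_of_mem _ (Subgroup.subset_closure hy)

theorem letters_HC : ∀ l ∈ [0, 2, 3, 4, 5, 6], φ l ∈ HC := by
  intro l hl
  simp only [List.mem_cons, List.not_mem_nil, or_false] at hl
  rcases hl with rfl | rfl | rfl | rfl | rfl | rfl
  · exact mem_HC_of_mem (y := He.a) (by simp [ysC])
  · exact mem_HC_of_mem (y := He.c) (by simp [ysC])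
  · exact mem_HC_of_mem (y := He.d) (by simp [ysC])
  · exact mem_HC_of_mem (y := He.e) (by simp [ysC])
  · exact mem_HC_of_mem (y := He.f) (by simp [ysC])
  · exact mem_HC_of_mem (y := He.g) (by simp [ysC])

/-- a subgroup containing `HC` and `b` is everything -/
theorem top_of_b (L : Subgroup He) (hL : HC ≤ L) (hb : φ 1 ∈ L) : L = ⊤ := by
  rw [eq_top_iff, ← LS_top]
  unfold LS
  rw [Subgroup.closure_le]
  rintro _ ⟨l, hl, rfl⟩
  simp only [List.mem_cons, List.not_mem_nil, or_false] at hl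
  rcases hl with rfl | rfl | rfl | rfl | rfl | rfl | rfl
  · exact hL (letters_HC 0 (by decide))
  · exact hb
  · exact hL (letters_HC 2 (by decide))
  · exact hL (letters_HC 3 (by decide))
  · exact hL (letters_HC 4 (by decide))
  · exact hL (letters_HC 5 (by decide))
  · exact hL (letters_HC 6 (by decide))

theorem good_step (ρ2 : He →* Equiv.Perm ℕ)
    (hρ2 : ∀ l, l < Hec.D.K → ∀ c, ρ2 (φ l) c = sig Hec.D l c)
    (hstab2 : ∀ a, ρ2 a 0 = 0 ↔ a ∈ HC)
    (htree2 : ∀ o ∈ Hec.orbs, ∀ c, o.1 ≤ c → c < o.1 + o.2.1 → ∃ a ∈ HC, ρ2 a o.1 = c)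
    (o ok : ℕ × ℕ × List ℕ) (ho : o ∈ Hec.orbs) (hok : ok ∈ Hec.orbs) (w : List ℕ) (y y' : ℕ)
    (hw : ∀ l ∈ w, l < Hec.D.K)
    (h0 : actP Hec.D w 0 = o.1) (hy1 : o.1 ≤ y) (hy2 : y < o.1 + o.2.1) (hyn : y < Hec.D.n)
    (hy' : actP Hec.D w y = y') (hk1 : ok.1 ≤ y') (hk2 : y' < ok.1 + ok.2.1)
    (hgood : GoodPt HC ρ2 ok.1) : GoodPt HC ρ2 o.1 := by
  have e0 : ρ2 (wprod φ w.reverse) 0 = o.1 := by
    rw [rho_eval ρ2 φ Hec.D Hec.inv_ok hρ2 w hw 0 (by decide), h0]
  have ey : ρ2 (wprod φ w.reverse) y = y' := by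
    rw [rho_eval ρ2 φ Hec.D Hec.inv_ok hρ2 w hw y hyn, hy']
  have h1 := goodPt_step HC ρ2 hstab2 (wprod φ w.reverse) y
    (by rw [e0]; exact htree2 o ho y hy1 hy2)
    (by rw [ey]; exact goodPt_of_orbit HC ρ2 ok.1 y' (htree2 ok hok y' hk1 hk2) hgood)
  rw [e0] at h1
  exact h1

/-- the subgroup of index 8330 is maximal -/
theorem maxC : HC.index = 8330 ∧ ∀ L : Subgroup He, HC ≤ L → L = HC ∨ L = ⊤ := by
  obtain ⟨ρ2, hρ2, hstab2, htr2, hlt2, hidx2, htree2, -⟩ :=
    CoxIndex.main2 checksC {y | y ∈ ysC} (fun y => Iff.rfl)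
  change ∀ a, ρ2 a 0 = 0 ↔ a ∈ HC at hstab2
  change HC.index = Hec.D.n at hidx2
  change ∀ o ∈ Hec.orbs, ∀ c, o.1 ≤ c → c < o.1 + o.2.1 → ∃ a ∈ HC, ρ2 a o.1 = c at htree2
  have hρ2' : ∀ l, l < Hec.D.K → ∀ c, ρ2 (φ l) c = sig Hec.D l c := hρ2
  have hn : Hec.D.n = 8330 := rfl
  rw [hn] at hidx2 hlt2
  refine ⟨hidx2, ?_⟩
  have g1 : GoodPt HC ρ2 1 := by
    have h := goodPt_of_mem HC ρ2 hstab2 (φ 1) (fun L hL hb => top_of_b L hL hb)
    have e : ρ2 (φ 1) 0 = 1 := by
      rw [hρ2' 1 (by decide) 0]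
      decide +kernel
    rw [e] at h
    exact h
  have g2 : GoodPt HC ρ2 721 :=
    good_step ρ2 hρ2' hstab2 htree2 (721, 1344, [1, 2, 3, 2, 1]) (1, 720, [1])
      (by decide +kernel) (by decide +kernel) [1, 2, 3, 2, 1] 723 4 (by decide) (by decide +kernel)
      (by norm_num) (by norm_num) (by decide) (by decide +kernel) (by norm_num) (by norm_num) g1
  have g3 : GoodPt HC ρ2 2065 :=
    good_step ρ2 hρ2' hstab2 htree2 (2065, 4480, [1, 2, 3, 2, 5, 3, 2, 1]) (721, 1344, [1, 2, 3, 2, 1])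
      (by decide +kernel) (by decide +kernel) [1, 2, 3, 2, 5, 3, 2, 1] 2066 804 (by decide)
      (by decide +kernel) (by norm_num) (by norm_num) (by decide) (by decide +kernel) (by norm_num)
      (by norm_num) g2
  have g4 : GoodPt HC ρ2 6545 :=
    good_step ρ2 hρ2' hstab2 htree2 (6545, 105, [1, 2, 3, 4, 5, 3, 2, 1]) (721, 1344, [1, 2, 3, 2, 1])
      (by decide +kernel) (by decide +kernel) [1, 2, 3, 4, 5, 3, 2, 1] 6556 769 (by decide)
      (by decide +kernel) (by norm_num) (by norm_num) (by decide) (by decide +kernel) (by norm_num)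
      (by norm_num) g2
  have g5 : GoodPt HC ρ2 6650 :=
    good_step ρ2 hρ2' hstab2 htree2 (6650, 840, [1, 2, 3, 5, 6, 3, 2, 1]) (721, 1344, [1, 2, 3, 2, 1])
      (by decide +kernel) (by decide +kernel) [1, 2, 3, 5, 6, 3, 2, 1] 6650 722 (by decide)
      (by decide +kernel) (by norm_num) (by norm_num) (by decide) (by decide +kernel) (by norm_num)
      (by norm_num) g2
  have g6 : GoodPt HC ρ2 7490 :=
    good_step ρ2 hρ2' hstab2 htree2 (7490, 840, [1, 2, 3, 6, 5, 3, 2, 1]) (721, 1344, [1, 2, 3, 2, 1])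
      (by decide +kernel) (by decide +kernel) [1, 2, 3, 6, 5, 3, 2, 1] 7490 722 (by decide)
      (by decide +kernel) (by norm_num) (by norm_num) (by decide) (by decide +kernel) (by norm_num)
      (by norm_num) g2
  have hgood : ∀ o ∈ Hec.orbs, o.1 ≠ 0 → GoodPt HC ρ2 o.1 := by
    intro o ho h0
    simp only [Hec.orbs, List.mem_cons, List.not_mem_nil, or_false] at ho
    rcases ho with rfl | rfl | rfl | rfl | rfl | rfl | rfl
    · exact absurd rfl h0
    · exact g1
    · exact g2
    · exact g3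
    · exact g4
    · exact g5
    · exact g6
  exact maximal_of_good HC ρ2 8330 Hec.orbs hstab2 hlt2 Hec.tile_ok htree2 hgood

/-- a word of an element of `HC` outside the centraliser of `a` -/
def u22 : List ℕ := [1, 2, 3, 4, 5, 3, 2, 1, 3, 2, 3, 2, 1, 4, 3, 2, 3, 4, 5, 3, 2, 1]

/-- the word of a second involution of the four-group -/
def v2w : List ℕ := u22 ++ 0 :: u22.reverse

/-- a second involution of the four-group -/
def v2 : He := wprod φ v2w

/-- the four-group normalised by `HC` -/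
def A : Subgroup He := Subgroup.closure {φ 0, v2}

/-- the words of the involutions of the four-group -/
def Vw : List (List ℕ) := [[0], v2w, 0 :: v2w]

theorem Vw_mem : ∀ t ∈ Vw, wprod φ t ∈ A ∧ ∀ l ∈ t, l < Hea.D.K := by
  intro t ht
  have h0 : φ 0 ∈ A := Subgroup.subset_closure (by simp)
  have h2 : v2 ∈ A := Subgroup.subset_closure (by simp)
  simp only [Vw, List.mem_cons, List.not_mem_nil, or_false] at ht
  rcases ht with rfl | rfl | rfl
  · exact ⟨by rw [wprod_cons, wprod_nil, mul_one]; exact h0, by decide⟩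
  · exact ⟨h2, by decide⟩
  · exact ⟨by rw [wprod_cons]; exact A.mul_mem h0 h2, by decide⟩

/-- conjugation by the element of the word `gw`, and by its inverse, maps the four-group into
itself, by word identities checked on a base -/
theorem conjBoth_word (ρ : He →* Equiv.Perm ℕ)
    (hρ : ∀ l, l < Hea.D.K → ∀ c, ρ (φ l) c = sig Hea.D l c)
    (hbase : ∀ g : He, (∀ b ∈ [2038, 279, 1, 0], ρ g b = b) → g = 1)
    (gw t1 t2 t3 t4 : List ℕ) (hg : ∀ l ∈ gw, l < Hea.D.K)
    (ht1 : t1 ∈ Vw) (ht2 : t2 ∈ Vw) (ht3 : t3 ∈ Vw) (ht4 : t4 ∈ Vw)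
    (c1 : ∀ b ∈ [2038, 279, 1, 0], actP Hea.D (t1 ++ (gw ++ 0 :: gw.reverse).reverse) b = b)
    (c2 : ∀ b ∈ [2038, 279, 1, 0], actP Hea.D (t2 ++ (gw ++ (v2w ++ gw.reverse)).reverse) b = b)
    (c3 : ∀ b ∈ [2038, 279, 1, 0], actP Hea.D (t3 ++ (gw.reverse ++ 0 :: gw).reverse) b = b)
    (c4 : ∀ b ∈ [2038, 279, 1, 0], actP Hea.D (t4 ++ (gw.reverse ++ (v2w ++ gw)).reverse) b = b) :
    ConjBoth A (wprod φ gw) := by
  have hgr : ∀ l ∈ gw.reverse, l < Hea.D.K := fun l hl => hg l (List.mem_reverse.1 hl)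
  have hv : ∀ l ∈ v2w, l < Hea.D.K := by decide
  have wid : ∀ u v : List ℕ, (∀ l ∈ u, l < Hea.D.K) → (∀ l ∈ v, l < Hea.D.K) →
      (∀ b ∈ [2038, 279, 1, 0], actP Hea.D (v ++ u.reverse) b = b) → wprod φ u = wprod φ v :=
    fun u v hu hv h =>
      wprod_eq_of_base ρ φ hsq Hea.D Hea.inv_ok hρ [2038, 279, 1, 0] (by decide) hbase u v hu hv h
  have e1 : wprod φ gw * φ 0 * (wprod φ gw)⁻¹ = wprod φ t1 := by
    rw [← wid (gw ++ 0 :: gw.reverse) t1 (by
      intro l hl
      rcases List.mem_append.1 hl with h | h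
      · exact hg l h
      · rcases List.mem_cons.1 h with h | h
        · rw [h]; decide
        · exact hgr l h) (Vw_mem t1 ht1).2 c1]
    rw [wprod_append, wprod_cons, wprod_reverse φ hsq, mul_assoc]
  have e2 : wprod φ gw * v2 * (wprod φ gw)⁻¹ = wprod φ t2 := by
    rw [← wid (gw ++ (v2w ++ gw.reverse)) t2 (by
      intro l hl
      rcases List.mem_append.1 hl with h | h
      · exact hg l h
      · rcases List.mem_append.1 h with h | h
        · exact hv l h
        · exact hgr l h) (Vw_mem t2 ht2).2 c2]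
    rw [wprod_append, wprod_append, wprod_reverse φ hsq, mul_assoc]
    rfl
  have e3 : (wprod φ gw)⁻¹ * φ 0 * (wprod φ gw)⁻¹⁻¹ = wprod φ t3 := by
    rw [← wid (gw.reverse ++ 0 :: gw) t3 (by
      intro l hl
      rcases List.mem_append.1 hl with h | h
      · exact hgr l h
      · rcases List.mem_cons.1 h with h | h
        · rw [h]; decide
        · exact hg l h) (Vw_mem t3 ht3).2 c3]
    rw [wprod_append, wprod_cons, wprod_reverse φ hsq, mul_assoc, inv_inv]
  have e4 : (wprod φ gw)⁻¹ * v2 * (wprod φ gw)⁻¹⁻¹ = wprod φ t4 := by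
    rw [← wid (gw.reverse ++ (v2w ++ gw)) t4 (by
      intro l hl
      rcases List.mem_append.1 hl with h | h
      · exact hgr l h
      · rcases List.mem_append.1 h with h | h
        · exact hv l h
        · exact hg l h) (Vw_mem t4 ht4).2 c4]
    rw [wprod_append, wprod_append, wprod_reverse φ hsq, mul_assoc, inv_inv]
    rfl
  constructor
  · apply conj_closure_mem
    intro s hs
    rcases hs with rfl | rfl
    · rw [e1]; exact (Vw_mem t1 ht1).1
    · rw [e2]; exact (Vw_mem t2 ht2).1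
  · intro a ha
    have h := conj_closure_mem {φ 0, v2} (wprod φ gw)⁻¹ (by
      intro s hs
      rcases hs with rfl | rfl
      · rw [e3]; exact (Vw_mem t3 ht3).1
      · rw [e4]; exact (Vw_mem t4 ht4).1) a ha
    rw [inv_inv] at h
    exact h

/-- the normal closure of `a` is the whole group -/
theorem normalClosure_a : Subgroup.normalClosure ({φ 0} : Set He) = ⊤ := by
  let f : He →* He ⧸ Subgroup.normalClosure ({φ 0} : Set He) :=
    QuotientGroup.mk' (Subgroup.normalClosure ({φ 0} : Set He))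
  let φ' : ℕ → He ⧸ Subgroup.normalClosure ({φ 0} : Set He) := fun l => f (φ l)
  have hsq' : ∀ l, φ' l * φ' l = 1 := by
    intro l
    show f (φ l) * f (φ l) = 1
    rw [← map_mul, hsq, map_one]
  have hrelQ : ∀ w ∈ HeW.relQ, wprod φ' w = 1 := by
    intro w hw
    rw [wprod_map f φ w]
    rcases List.mem_cons.1 hw with h | h
    · rw [h, wprod_cons, wprod_nil, mul_one]
      exact (QuotientGroup.eq_one_iff _).2 (Subgroup.subset_normalClosure rfl)
    · rw [hrelW w h, map_one]
  have q : (LS φ' []).relIndex (LS φ' [0, 1, 2, 3, 4, 5, 6]) ≠ 0 ∧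
      (LS φ' []).relIndex (LS φ' [0, 1, 2, 3, 4, 5, 6]) ≤ 1 := HeQ.bound φ' hsq' hrelQ
  have e1 : LS φ' [0, 1, 2, 3, 4, 5, 6] ≤ LS φ' [] :=
    Subgroup.relIndex_eq_one.1 (by have := q.1; have := q.2; omega)
  rw [LS_nil] at e1
  have hmap : (LS φ [0, 1, 2, 3, 4, 5, 6]).map f ≤ LS φ' [0, 1, 2, 3, 4, 5, 6] := by
    unfold LS
    rw [MonoidHom.map_closure]
    apply Subgroup.closure_mono
    rintro _ ⟨x, ⟨l, hl, rfl⟩, rfl⟩
    exact ⟨l, hl, rfl⟩
  rw [eq_top_iff]
  intro g _
  have hg : f g ∈ LS φ' [0, 1, 2, 3, 4, 5, 6] :=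
    hmap (Subgroup.mem_map_of_mem f (by rw [LS_top]; trivial))
  have hg' := e1 hg
  rw [Subgroup.mem_bot] at hg'
  exact (QuotientGroup.eq_one_iff _).1 hg'

/-- images of the generators in the abelianisation -/
def ab (l : ℕ) : Abelianization He := Abelianization.of (φ l)

theorem ab_sq (l : ℕ) : ab l * ab l = 1 := by
  unfold ab
  rw [← map_mul, hsq, map_one]

theorem ab_rel (w : List ℕ) (hw : w ∈ Hea.relW) : ((w.map ab).prod : Abelianization He) = 1 := by
  have h := congrArg (Abelianization.of (G := He)) (hrelW w hw)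
  rw [map_one] at h
  rw [← h]
  unfold wprod
  rw [map_list_prod, List.map_map]
  rfl

theorem ab_edge (i j : ℕ) (hw : [i, j, i, j, i, j] ∈ Hea.relW) : ab i = ab j := by
  have h := ab_rel _ hw
  simp only [List.map, List.prod_cons, List.prod_nil, mul_one] at h
  have h' : ab i * ab j = 1 := by
    calc ab i * ab j = ab i * ab j * ((ab i * ab i) * (ab j * ab j)) := by
          rw [ab_sq, ab_sq, mul_one, mul_one]
      _ = ab i * (ab j * (ab i * (ab j * (ab i * ab j)))) := by
          simp only [mul_assoc, mul_left_comm (ab j) (ab i)]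
      _ = 1 := h
  calc ab i = ab i * (ab j * ab j) := by rw [ab_sq, mul_one]
    _ = ab i * ab j * ab j := by rw [mul_assoc]
    _ = ab j := by rw [h', one_mul]

theorem perfect : commutator He = ⊤ := by
  have e12 : ab 1 = ab 2 := ab_edge 1 2 (by decide +kernel)
  have e34 : ab 3 = ab 4 := ab_edge 3 4 (by decide +kernel)
  have e35 : ab 3 = ab 5 := ab_edge 3 5 (by decide +kernel)
  have e36 : ab 3 = ab 6 := ab_edge 3 6 (by decide +kernel)
  -- e = (fg)^2
  have h3 : ab 3 = 1 := by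
    have h := ab_rel [4, 6, 5, 6, 5] (by decide +kernel)
    simp only [List.map, List.prod_cons, List.prod_nil, mul_one] at h
    rw [← e34, ← e35, ← e36, ab_sq, mul_one, ab_sq, mul_one] at h
    exact h
  have h4 : ab 4 = 1 := e34 ▸ h3
  have h5 : ab 5 = 1 := e35 ▸ h3
  have h6 : ab 6 = 1 := e36 ▸ h3
  -- a = (cd)^5
  have e02 : ab 0 = ab 2 := by
    have h := ab_rel [0, 3, 2, 3, 2, 3, 2, 3, 2, 3, 2] (by decide +kernel)
    simp only [List.map, List.prod_cons, List.prod_nil, mul_one] at h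
    rw [h3] at h
    simp only [one_mul] at h
    rw [ab_sq, mul_one, ab_sq, mul_one] at h
    calc ab 0 = ab 0 * (ab 2 * ab 2) := by rw [ab_sq, mul_one]
      _ = ab 0 * ab 2 * ab 2 := by rw [mul_assoc]
      _ = ab 2 := by rw [h, one_mul]
  -- e = (abc)^3
  have h2 : ab 2 = 1 := by
    have h := ab_rel [4, 2, 1, 0, 2, 1, 0, 2, 1, 0] (by decide +kernel)
    simp only [List.map, List.prod_cons, List.prod_nil, mul_one] at h
    rw [h4, e02, e12, one_mul] at h
    rw [ab_sq, mul_one, ab_sq, mul_one, ab_sq, mul_one, ab_sq, mul_one] at h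
    exact h
  have h0 : ab 0 = 1 := e02.trans h2
  have h1 : ab 1 = 1 := e12.trans h2
  have hmem : ∀ l ∈ [0, 1, 2, 3, 4, 5, 6], φ l ∈ commutator He := by
    intro l hl
    have hab : ab l = 1 := by
      simp only [List.mem_cons, List.not_mem_nil, or_false] at hl
      rcases hl with rfl | rfl | rfl | rfl | rfl | rfl | rfl
      · exact h0
      · exact h1
      · exact h2
      · exact h3
      · exact h4
      · exact h5
      · exact h6
    rw [← Abelianization.ker_of He]
    exact MonoidHom.mem_ker.2 hab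
  rw [eq_top_iff, ← LS_top]
  unfold LS
  rw [Subgroup.closure_le]
  rintro _ ⟨l, hl, rfl⟩
  exact hmem l hl

theorem main_aux : IsSimpleGroup He ∧ Nat.card He = 4030387200 := by
  obtain ⟨cG, hmax1, hidx1, ρ, hρ, hstab, htr, hbase⟩ := order_facts
  obtain ⟨hidx2, hmax2⟩ := maxC
  have hfinG : Finite He := Nat.finite_of_card_ne_zero (by rw [cG]; norm_num)
  have hntG : Nontrivial He := by
    rw [← Finite.one_lt_card_iff_nontrivial, cG]; norm_num
  have hρ' : ∀ l, l < Hea.D.K → ∀ c, ρ (φ l) c = sig Hea.D l c := hρ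
  -- the four-group is abelian
  have hcomm : φ 0 * v2 = v2 * φ 0 := by
    have h := wprod_eq_of_base ρ φ hsq Hea.D Hea.inv_ok hρ' [2038, 279, 1, 0] (by decide) hbase
      (0 :: v2w) (v2w ++ [0]) (by decide) (by decide) (by decide +kernel)
    rw [wprod_cons, wprod_append, wprod_cons, wprod_nil, mul_one] at h
    exact h
  have hAc : IsMulCommutative A := by
    apply Subgroup.isMulCommutative_closure
    intro x hx y hy
    rcases hx with rfl | rfl <;> rcases hy with rfl | rfl
    · rfl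
    · exact hcomm
    · exact hcomm.symm
    · rfl
  -- the generators of `HC` normalise the four-group
  have cb0 := conjBoth_word ρ hρ' hbase [0] [0] v2w [0] v2w (by decide) (by decide) (by decide)
    (by decide) (by decide) (by decide +kernel) (by decide +kernel) (by decide +kernel)
    (by decide +kernel)
  have cb2 := conjBoth_word ρ hρ' hbase [2] [0] v2w [0] v2w (by decide) (by decide) (by decide)
    (by decide) (by decide) (by decide +kernel) (by decide +kernel) (by decide +kernel)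
    (by decide +kernel)
  have cb3 := conjBoth_word ρ hρ' hbase [3] [0] v2w [0] v2w (by decide) (by decide) (by decide)
    (by decide) (by decide) (by decide +kernel) (by decide +kernel) (by decide +kernel)
    (by decide +kernel)
  have cb4 := conjBoth_word ρ hρ' hbase [4] [0] v2w [0] v2w (by decide) (by decide) (by decide)
    (by decide) (by decide) (by decide +kernel) (by decide +kernel) (by decide +kernel)
    (by decide +kernel)
  have cb5 := conjBoth_word ρ hρ' hbase [5] [0] v2w [0] v2w (by decide) (by decide) (by decide)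
    (by decide) (by decide) (by decide +kernel) (by decide +kernel) (by decide +kernel)
    (by decide +kernel)
  have cb6 := conjBoth_word ρ hρ' hbase [6] [0] v2w [0] v2w (by decide) (by decide) (by decide)
    (by decide) (by decide) (by decide +kernel) (by decide +kernel) (by decide +kernel)
    (by decide +kernel)
  have cb7 := conjBoth_word ρ hρ' hbase [1, 0, 1] [0] (0 :: v2w) [0] (0 :: v2w) (by decide)
    (by decide) (by decide) (by decide) (by decide) (by decide +kernel) (by decide +kernel)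
    (by decide +kernel) (by decide +kernel)
  have cb8 := conjBoth_word ρ hρ' hbase u22 v2w (0 :: v2w) (0 :: v2w) [0] (by decide)
    (by decide) (by decide) (by decide) (by decide) (by decide +kernel) (by decide +kernel)
    (by decide +kernel) (by decide +kernel)
  have hAH : ∀ h ∈ HC, ∀ a ∈ A, h * a * h⁻¹ ∈ A := by
    have hHC : HC = Subgroup.closure
        (PresentedGroup.mk (coxRelators He.edges ∪ {r | r ∈ He.extra}) '' {y | y ∈ ysC}) := by
      unfold HC
      rw [MonoidHom.map_closure]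
    rw [hHC]
    apply conj_mem_of_closure
    rintro _ ⟨y, hy, rfl⟩
    have hy' : y ∈ ysC := hy
    simp only [ysC, List.mem_cons, List.not_mem_nil, or_false] at hy'
    rcases hy' with rfl | rfl | rfl | rfl | rfl | rfl | rfl | rfl
    · have e : PresentedGroup.mk (coxRelators He.edges ∪ {r | r ∈ He.extra}) He.a = wprod φ [0] := by
        rw [wprod_cons, wprod_nil, mul_one]; rfl
      rw [e]; exact cb0
    · have e : PresentedGroup.mk (coxRelators He.edges ∪ {r | r ∈ He.extra}) He.c = wprod φ [2] := by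
        rw [wprod_cons, wprod_nil, mul_one]; rfl
      rw [e]; exact cb2
    · have e : PresentedGroup.mk (coxRelators He.edges ∪ {r | r ∈ He.extra}) He.d = wprod φ [3] := by
        rw [wprod_cons, wprod_nil, mul_one]; rfl
      rw [e]; exact cb3
    · have e : PresentedGroup.mk (coxRelators He.edges ∪ {r | r ∈ He.extra}) He.e = wprod φ [4] := by
        rw [wprod_cons, wprod_nil, mul_one]; rfl
      rw [e]; exact cb4
    · have e : PresentedGroup.mk (coxRelators He.edges ∪ {r | r ∈ He.extra}) He.f = wprod φ [5] := by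
        rw [wprod_cons, wprod_nil, mul_one]; rfl
      rw [e]; exact cb5
    · have e : PresentedGroup.mk (coxRelators He.edges ∪ {r | r ∈ He.extra}) He.g = wprod φ [6] := by
        rw [wprod_cons, wprod_nil, mul_one]; rfl
      rw [e]; exact cb6
    · have e : PresentedGroup.mk (coxRelators He.edges ∪ {r | r ∈ He.extra})
          (He.b * He.a * He.b) = wprod φ [1, 0, 1] := by
        simp only [map_mul, wprod_cons, wprod_nil, mul_one, mul_assoc]
        rfl
      rw [e]; exact cb7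
    · have e : PresentedGroup.mk (coxRelators He.edges ∪ {r | r ∈ He.extra})
          (He.b * He.c * He.d * He.e * He.f * He.d * He.c * He.b * He.d * He.c * He.d * He.c *
            He.b * He.e * He.d * He.c * He.d * He.e * He.f * He.d * He.c * He.b) = wprod φ u22 := by
        simp only [map_mul, u22, wprod_cons, wprod_nil, mul_one, mul_assoc]
        rfl
      rw [e]; exact cb8
  have hgen : Subgroup.normalClosure (A : Set He) = ⊤ := by
    rw [eq_top_iff, ← normalClosure_a]
    apply Subgroup.normalClosure_mono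
    intro x hx
    rw [Set.mem_singleton_iff] at hx
    rw [hx]
    exact Subgroup.subset_closure (by simp)
  have cC : Nat.card HC = 483840 := by
    have := Subgroup.card_mul_index HC
    rw [hidx2, cG] at this
    omega
  refine ⟨simple_of_iwasawa HC A hmax2 ?_ ?_ hAH hgen perfect, cG⟩
  · intro h
    rw [h, Subgroup.index_top] at hidx2
    norm_num at hidx2
  · intro g hg
    have hmem : g ∈ HC.normalCore := hg
    have hn := Subgroup.normalCore_normal HC
    have hle : HC.normalCore ≤ HA := by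
      apply normal_le_of_maximal HA hmax1
      rw [hidx1]
      intro hd
      have h1 : Nat.card HC.normalCore ∣ 483840 := by
        rw [← cC]; exact Subgroup.card_dvd_of_le (Subgroup.normalCore_le _)
      have := hd.trans h1
      norm_num at this
    apply hbase
    have hfix : ∀ c, c < 2058 → ρ g c = c := by
      intro c hc
      obtain ⟨a, rfl⟩ := htr c hc
      have h1 : a⁻¹ * g * a⁻¹⁻¹ ∈ HC.normalCore := hn.conj_mem g hmem a⁻¹
      have h2 := (hstab _).2 (hle h1)
      simp only [map_mul, map_inv, inv_inv, Equiv.Perm.mul_apply] at h2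
      rw [Equiv.Perm.inv_eq_iff_eq] at h2
      exact h2
    intro b hb
    simp only [List.mem_cons, List.not_mem_nil, or_false] at hb
    rcases hb with rfl | rfl | rfl | rfl <;> exact hfix _ (by norm_num)


/-- The presented Held group is simple of the expected order (that is, it is a simple group of the order of the Held group). -/
theorem result : Cfsg.IsHe Cfsg.Spor.He := by
  exact main_aux

end Cfsg.Agent.S1695
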