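import Cfsg.Statements.S1717
-- import your own Cfsg.Agent.* helpers here

set_option autoImplicit false
open Cfsg

namespace Cfsg.Agent.S1717

section aux
open Matrix

abbrev Mat5 := Matrix (Fin 5) (Fin 5) (ZMod 2)
abbrev SL52 := Matrix.SpecialLinearGroup (Fin 5) (ZMod 2)

theorem comm_transvection {p q : Fin 5} {M : Matrix (Fin 5) (Fin 5) (ZMod 2)}
    (h : M * transvection p q 1 = transvection p q 1 * M) :
    (∀ a, a ≠ p → M a p = 0) ∧ (∀ b, b ≠ q → M q b = 0) ∧ M p p = M q q := by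
  refine ⟨fun a ha => ?_, fun b hb => ?_, ?_⟩
  · have := congrFun (congrFun h a) q
    rw [mul_transvection_apply_same, transvection_mul_apply_of_ne _ _ _ _ ha] at this
    simpa using this
  · have := congrFun (congrFun h p) b
    rw [mul_transvection_apply_of_ne _ _ _ _ hb, transvection_mul_apply_same] at this
    simpa using this
  · have := congrFun (congrFun h p) q
    rw [mul_transvection_apply_same, transvection_mul_apply_same] at this
    simpa using this

/-- the matrices of the normal 2-subgroup -/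
def E (u v2 v3 v4 w2 w3 w4 : ZMod 2) : Matrix (Fin 5) (Fin 5) (ZMod 2) :=
  !![1, u, v2, v3, v4; 0, 1, 0, 0, 0; 0, w2, 1, 0, 0; 0, w3, 0, 1, 0; 0, w4, 0, 0, 1]

theorem E_pow4 : ∀ u v2 v3 v4 w2 w3 w4 : ZMod 2, E u v2 v3 v4 w2 w3 w4 ^ 4 = 1 := by
  decide +kernel

theorem E_zero : E 0 0 0 0 0 0 0 = 1 := by decide +kernel

theorem E_one : E 1 0 0 0 0 0 0 = transvection 0 1 1 := by decide +kernel

theorem tv_comm : ∀ p q : Fin 5, (p = 0 ∧ 2 ≤ q.val) ∨ (q = 1 ∧ 2 ≤ p.val) →
    transvection p q (1 : ZMod 2) * transvection 0 1 1 = transvection 0 1 1 * transvection p q 1 := by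
  decide +kernel

theorem zmod2_cases : ∀ x : ZMod 2, x = 0 ∨ x = 1 := by decide

theorem cent_facts (M : Mat5) (hdet : M.det = 1)
    (h : M * transvection 0 1 1 = transvection 0 1 1 * M) :
    (∀ a, a ≠ 0 → M a 0 = 0) ∧ (∀ b, b ≠ 1 → M 1 b = 0) ∧ M 0 0 = 1 ∧ M 1 1 = 1 := by
  obtain ⟨h1, h2, h3⟩ := comm_transvection h
  have h00 : M 0 0 = 1 := by
    rcases zmod2_cases (M 0 0) with h0 | h0
    · exfalso
      have : M.det = 0 := Matrix.det_eq_zero_of_column_eq_zero 0 (fun i => by
        by_cases hi : i = 0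
        · rw [hi]; exact h0
        · exact h1 i hi)
      rw [this] at hdet
      exact zero_ne_one hdet
    · exact h0
  exact ⟨h1, h2, h00, h3 ▸ h00⟩

def up (i : Fin 3) : Fin 5 := ⟨i.val + 2, by omega⟩

def sub3 (M : Mat5) : Matrix (Fin 3) (Fin 3) (ZMod 2) := fun i j => M (up i) (up j)

theorem sub3_mul (M N : Mat5) (hM : ∀ a, a ≠ 0 → M a 0 = 0) (hN : ∀ b, b ≠ 1 → N 1 b = 0) :
    sub3 (M * N) = sub3 M * sub3 N := by
  ext i j
  simp only [sub3, Matrix.mul_apply, Fin.sum_univ_five, Fin.sum_univ_three]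
  have h1 : M (up i) 0 = 0 := hM _ (by fin_cases i <;> decide)
  have h2 : N 1 (up j) = 0 := hN _ (by fin_cases j <;> decide)
  rw [h1, h2]
  have e0 : up 0 = 2 := rfl
  have e1 : up 1 = 3 := rfl
  have e2 : up 2 = 4 := rfl
  rw [e0, e1, e2]
  ring

theorem sub3_one : sub3 1 = 1 := by decide +kernel

theorem sub3_tv : ∀ p q : Fin 5, (p = 0 ∧ 2 ≤ q.val) ∨ (q = 1 ∧ 2 ≤ p.val) →
    sub3 (transvection p q (1 : ZMod 2)) = 1 := by
  decide +kernel

theorem sub3_tv01 : sub3 (transvection 0 1 (1 : ZMod 2)) = 1 := by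
  decide +kernel

theorem ker_shape (M : Mat5) (h1 : ∀ a, a ≠ 0 → M a 0 = 0) (h2 : ∀ b, b ≠ 1 → M 1 b = 0)
    (h00 : M 0 0 = 1) (h11 : M 1 1 = 1) (hk : sub3 M = 1) :
    M = E (M 0 1) (M 0 2) (M 0 3) (M 0 4) (M 2 1) (M 3 1) (M 4 1) := by
  have k : ∀ i j : Fin 3, M (up i) (up j) = (1 : Matrix (Fin 3) (Fin 3) (ZMod 2)) i j :=
    fun i j => congrFun (congrFun hk i) j
  have a10 : M 1 0 = 0 := h1 1 (by decide)
  have a20 : M 2 0 = 0 := h1 2 (by decide)
  have a30 : M 3 0 = 0 := h1 3 (by decide)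
  have a40 : M 4 0 = 0 := h1 4 (by decide)
  have b12 : M 1 2 = 0 := h2 2 (by decide)
  have b13 : M 1 3 = 0 := h2 3 (by decide)
  have b14 : M 1 4 = 0 := h2 4 (by decide)
  have k22 : M 2 2 = 1 := k 0 0
  have k23 : M 2 3 = 0 := k 0 1
  have k24 : M 2 4 = 0 := k 0 2
  have k32 : M 3 2 = 0 := k 1 0
  have k33 : M 3 3 = 1 := k 1 1
  have k34 : M 3 4 = 0 := k 1 2
  have k42 : M 4 2 = 0 := k 2 0
  have k43 : M 4 3 = 0 := k 2 1
  have k44 : M 4 4 = 1 := k 2 2
  ext i j
  fin_cases i <;> fin_cases j <;>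
    first
    | rfl | exact h00 | exact h11 | exact a10 | exact a20 | exact a30 | exact a40
    | exact b12 | exact b13 | exact b14 | exact k22 | exact k23 | exact k24
    | exact k32 | exact k33 | exact k34 | exact k42 | exact k43 | exact k44

theorem central_shape (M : Mat5)
    (h : ∀ p q : Fin 5, (p = 0 ∧ 2 ≤ q.val) ∨ (q = 1 ∧ 2 ≤ p.val) →
      M * transvection p q 1 = transvection p q 1 * M)
    (h00 : M 0 0 = 1) (h11 : M 1 1 = 1) (h1 : ∀ a, a ≠ 0 → M a 0 = 0)
    (h2 : ∀ b, b ≠ 1 → M 1 b = 0) :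
    M = 1 ∨ M = transvection 0 1 1 := by
  obtain ⟨-, r2, d2⟩ := comm_transvection (h 0 2 (by decide))
  obtain ⟨-, r3, d3⟩ := comm_transvection (h 0 3 (by decide))
  obtain ⟨-, r4, d4⟩ := comm_transvection (h 0 4 (by decide))
  obtain ⟨c2, -, -⟩ := comm_transvection (h 2 1 (by decide))
  obtain ⟨c3, -, -⟩ := comm_transvection (h 3 1 (by decide))
  obtain ⟨c4, -, -⟩ := comm_transvection (h 4 1 (by decide))
  have hk : sub3 M = 1 := by
    ext i j
    fin_cases i <;> fin_cases j <;>
      first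
      | exact (d2.symm.trans h00) | exact (d3.symm.trans h00) | exact (d4.symm.trans h00)
      | exact r2 _ (by decide) | exact r3 _ (by decide) | exact r4 _ (by decide)
  have hE := ker_shape M h1 h2 h00 h11 hk
  rw [c2 0 (by decide), c3 0 (by decide), c4 0 (by decide), r2 1 (by decide), r3 1 (by decide),
    r4 1 (by decide)] at hE
  rcases zmod2_cases (M 0 1) with h0 | h0
  · left
    rw [hE, h0, E_zero]
  · right
    rw [hE, h0, E_one]



theorem sylow_generic {G : Type*} [Group G] [Finite G] {H : Type*} [Group H] (z : G)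
    (hz : orderOf z = 2) (C : Subgroup G) (memC : ∀ g : G, g ∈ C ↔ z * g = g * z)
    (e : C ≃* H) (P' : Subgroup H) [hn : P'.Normal]
    (hP' : IsPGroup 2 P') (s' : H) (hs' : s' ∈ P')
    (hB : ∀ h : H, (∀ x ∈ P', x * h = h * x) → h = 1 ∨ h = s')
    (T : Sylow 2 C) :
    ¬ 2 ∣ ((T : Subgroup C).map C.subtype).index := by
  have : Fact (Nat.Prime 2) := ⟨Nat.prime_two⟩
  have hz1 : z ≠ 1 := by
    intro h
    rw [h, orderOf_one] at hz
    exact absurd hz (by norm_num)
  have hzC : z ∈ C := (memC z).2 rfl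
  -- e z = s'
  have hez : e ⟨z, hzC⟩ = s' := by
    have hcomm : ∀ x ∈ P', x * e ⟨z, hzC⟩ = e ⟨z, hzC⟩ * x := by
      intro x _
      have hx : x = e (e.symm x) := (e.apply_symm_apply x).symm
      rw [hx, ← map_mul, ← map_mul]
      congr 1
      apply Subtype.ext
      have := (memC (e.symm x : G)).1 (e.symm x).2
      simp only [Subgroup.coe_mul]
      exact this.symm
    rcases hB _ hcomm with h | h
    · exfalso
      have : (⟨z, hzC⟩ : C) = 1 := by
        apply e.injective
        rw [h, map_one]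
      exact hz1 (congrArg Subtype.val this)
    · exact h
  -- P
  obtain ⟨P, hP⟩ : ∃ P : Subgroup C, P = P'.comap e.toMonoidHom := ⟨_, rfl⟩
  have : P.Normal := by rw [hP]; exact hn.comap _
  have hPp : IsPGroup 2 P := by rw [hP]; exact hP'.comap_of_injective e.toMonoidHom e.injective
  have hPT : P ≤ (T : Subgroup C) := by
    have h1 : IsPGroup 2 (P ⊔ (T : Subgroup C) : Subgroup C) := hPp.to_sup_of_normal_left T.2
    have h2 := T.is_maximal' h1 le_sup_right
    rw [← h2]
    exact le_sup_left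
  obtain ⟨S, hS⟩ := Sylow.exists_comap_subtype_eq T
  have hTS : ∀ t : C, t ∈ (T : Subgroup C) → (t : G) ∈ (S : Subgroup G) := by
    intro t ht
    have : t ∈ (S.comap C.subtype : Subgroup C) := by
      rw [hS]; exact ht
    exact this
  have hzP : (⟨z, hzC⟩ : C) ∈ P := by
    rw [hP, Subgroup.mem_comap]
    show e ⟨z, hzC⟩ ∈ P'
    rw [hez]; exact hs'
  have hzS : z ∈ (S : Subgroup G) := hTS _ (hPT hzP)
  have : Nontrivial (S : Subgroup G) :=
    ⟨⟨⟨z, hzS⟩, 1, fun h => hz1 (congrArg Subtype.val h)⟩⟩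
  have := IsPGroup.center_nontrivial (p := 2) (G := (S : Subgroup G)) S.2
  obtain ⟨w, hw⟩ := exists_ne (1 : Subgroup.center (S : Subgroup G))
  have hwc : ∀ g : (S : Subgroup G), g * w.1 = w.1 * g := Subgroup.mem_center_iff.1 w.2
  have hwG : ∀ g : G, g ∈ (S : Subgroup G) → g * (w.1 : G) = (w.1 : G) * g := by
    intro g hg
    have := congrArg Subtype.val (hwc ⟨g, hg⟩)
    simpa using this
  have hw1 : (w.1 : G) ≠ 1 := by
    intro h
    apply hw
    apply Subtype.ext
    apply Subtype.ext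
    simpa using h
  have hwC : (w.1 : G) ∈ C := (memC _).2 (hwG z hzS)
  have hew : e ⟨(w.1 : G), hwC⟩ = s' := by
    have hcomm : ∀ x ∈ P', x * e ⟨(w.1 : G), hwC⟩ = e ⟨(w.1 : G), hwC⟩ * x := by
      intro x hxP
      have hx : x = e (e.symm x) := (e.apply_symm_apply x).symm
      have hxP2 : e.symm x ∈ P := by
        rw [hP, Subgroup.mem_comap]
        show e (e.symm x) ∈ P'
        rw [← hx]; exact hxP
      rw [hx, ← map_mul, ← map_mul]
      congr 1
      apply Subtype.ext
      simp only [Subgroup.coe_mul]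
      exact hwG _ (hTS _ (hPT hxP2))
    rcases hB _ hcomm with h | h
    · exfalso
      have : (⟨(w.1 : G), hwC⟩ : C) = 1 := by
        apply e.injective
        rw [h, map_one]
      exact hw1 (congrArg Subtype.val this)
    · exact h
  have hwz : (w.1 : G) = z := by
    have : (⟨(w.1 : G), hwC⟩ : C) = ⟨z, hzC⟩ := by
      apply e.injective
      rw [hew, hez]
    exact congrArg Subtype.val this
  have hSC : (S : Subgroup G) ≤ C := by
    intro g hg
    rw [memC]
    have := hwG g hg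
    rw [hwz] at this
    exact this.symm
  have hmap : (T : Subgroup C).map C.subtype = (S : Subgroup G) := by
    have h1 : (T : Subgroup C) = (S : Subgroup G).subgroupOf C := by
      rw [← hS]; rfl
    rw [h1, Subgroup.map_subgroupOf_eq_of_le hSC]
  rw [hmap]
  exact S.not_dvd_index



theorem sylow_generic' {G : Type*} [Group G] [Finite G] {H : Type*} [Group H] (z : G)
    (hz : orderOf z = 2)
    (e : Subgroup.centralizer ({z} : Set G) ≃* H) (P' : Subgroup H) [hn : P'.Normal]
    (hP' : IsPGroup 2 P') (s' : H) (hs' : s' ∈ P')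
    (hB : ∀ h : H, (∀ x ∈ P', x * h = h * x) → h = 1 ∨ h = s')
    (T : Sylow 2 (Subgroup.centralizer ({z} : Set G))) :
    ¬ 2 ∣ ((T : Subgroup (Subgroup.centralizer ({z} : Set G))).map
      (Subgroup.subtype (Subgroup.centralizer ({z} : Set G)))).index := by
  refine sylow_generic z hz _ ?_ e P' hP' s' hs' hB T
  intro g
  rw [Subgroup.mem_centralizer_iff]
  constructor
  · intro h; exact h z rfl
  · intro h x hx
    rw [Set.mem_singleton_iff] at hx
    rw [hx]; exact h





theorem cent_comm (s : SL52) (hs : (s : Mat5) = transvection 0 1 1) (M : SL52)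
    (hM : M ∈ Subgroup.centralizer ({s} : Set SL52)) :
    (M : Mat5) * transvection 0 1 1 = transvection 0 1 1 * (M : Mat5) := by
  rw [Subgroup.mem_centralizer_iff] at hM
  have h := congrArg (fun x : SL52 => (x : Mat5)) (hM s rfl)
  simp only [Matrix.SpecialLinearGroup.coe_mul, hs] at h
  exact h.symm

theorem cent_facts' (s : SL52) (hs : (s : Mat5) = transvection 0 1 1) (M : SL52)
    (hM : M ∈ Subgroup.centralizer ({s} : Set SL52)) :
    (∀ a, a ≠ 0 → (M : Mat5) a 0 = 0) ∧ (∀ b, b ≠ 1 → (M : Mat5) 1 b = 0) ∧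
      (M : Mat5) 0 0 = 1 ∧ (M : Mat5) 1 1 = 1 :=
  cent_facts (M : Mat5) M.2 (cent_comm s hs M hM)

def theta (s : SL52) (hs : (s : Mat5) = transvection 0 1 1) :
    Subgroup.centralizer ({s} : Set SL52) →* Matrix (Fin 3) (Fin 3) (ZMod 2) where
  toFun M := sub3 (M.1 : Mat5)
  map_one' := sub3_one
  map_mul' M N := by
    show sub3 (((M.1 * N.1 : SL52)) : Mat5) = _
    rw [Matrix.SpecialLinearGroup.coe_mul]
    exact sub3_mul _ _ (cent_facts' s hs M.1 M.2).1 (cent_facts' s hs N.1 N.2).2.1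

theorem theta_apply (s : SL52) (hs : (s : Mat5) = transvection 0 1 1)
    (M : Subgroup.centralizer ({s} : Set SL52)) : theta s hs M = sub3 (M.1 : Mat5) := rfl

def tvSL (p q : Fin 5) (hpq : p ≠ q) : SL52 :=
  ⟨transvection p q 1, det_transvection_of_ne p q hpq 1⟩

theorem tv_ne : ∀ p q : Fin 5, (p = 0 ∧ 2 ≤ q.val) ∨ (q = 1 ∧ 2 ≤ p.val) → p ≠ q := by
  decide

theorem tvSL_mem (s : SL52) (hs : (s : Mat5) = transvection 0 1 1) (p q : Fin 5)
    (h : (p = 0 ∧ 2 ≤ q.val) ∨ (q = 1 ∧ 2 ≤ p.val)) :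
    tvSL p q (tv_ne p q h) ∈ Subgroup.centralizer ({s} : Set SL52) := by
  rw [Subgroup.mem_centralizer_iff]
  intro x hx
  rw [Set.mem_singleton_iff] at hx
  rw [hx]
  apply Subtype.ext
  show (s : Mat5) * transvection p q 1 = transvection p q 1 * (s : Mat5)
  rw [hs]
  exact (tv_comm p q h).symm

theorem main_aux {G : Type*} [Group G] [Finite G] (s : SL52)
    (hs : (s : Mat5) = Matrix.transvection 0 1 1) (z : G) (hz : orderOf z = 2)
    (e : (Subgroup.centralizer ({z} : Set G)) ≃* Subgroup.centralizer ({s} : Set SL52))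
    (T : Sylow 2 (Subgroup.centralizer ({z} : Set G))) :
    ¬ 2 ∣ ((T : Subgroup (Subgroup.centralizer ({z} : Set G))).map
      (Subgroup.subtype (Subgroup.centralizer ({z} : Set G)))).index := by
  have hsC : s ∈ Subgroup.centralizer ({s} : Set SL52) := by
    rw [Subgroup.mem_centralizer_iff]
    intro x hx
    rw [Set.mem_singleton_iff] at hx
    rw [hx]
  refine sylow_generic' z hz e (theta s hs).ker ?_ ⟨s, hsC⟩ ?_ ?_ T
  · -- p-group
    intro g
    refine ⟨2, ?_⟩
    obtain ⟨f1, f2, f3, f4⟩ := cent_facts' s hs g.1.1 g.1.2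
    have hk : sub3 (g.1.1 : Mat5) = 1 := by
      have := g.2
      rw [MonoidHom.mem_ker, theta_apply] at this
      exact this
    have hE := ker_shape _ f1 f2 f3 f4 hk
    apply Subtype.ext
    apply Subtype.ext
    apply Subtype.ext
    show (((g ^ 2 ^ 2 : (theta s hs).ker) : Subgroup.centralizer ({s} : Set SL52)) : SL52).1 = 1
    have h4 : (((g ^ 2 ^ 2 : (theta s hs).ker) : Subgroup.centralizer ({s} : Set SL52)) : SL52).1
        = (g.1.1 : Mat5) ^ 4 := by
      simp
    rw [h4, hE, E_pow4]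
  · -- s in kernel
    rw [MonoidHom.mem_ker, theta_apply]
    show sub3 (s : Mat5) = 1
    rw [hs]
    exact sub3_tv01
  · -- centralizer of the kernel
    intro h hcomm
    obtain ⟨f1, f2, f3, f4⟩ := cent_facts' s hs h.1 h.2
    have hc : ∀ p q : Fin 5, (p = 0 ∧ 2 ≤ q.val) ∨ (q = 1 ∧ 2 ≤ p.val) →
        (h.1 : Mat5) * transvection p q 1 = transvection p q 1 * (h.1 : Mat5) := by
      intro p q hpq
      have hmem : (⟨tvSL p q (tv_ne p q hpq), tvSL_mem s hs p q hpq⟩ :
          Subgroup.centralizer ({s} : Set SL52)) ∈ (theta s hs).ker := by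
        rw [MonoidHom.mem_ker, theta_apply]
        exact sub3_tv p q hpq
      have := hcomm _ hmem
      have h2 := congrArg (fun x : Subgroup.centralizer ({s} : Set SL52) => ((x : SL52) : Mat5)) this
      simp only [Subgroup.coe_mul, Matrix.SpecialLinearGroup.coe_mul] at h2
      exact h2.symm
    rcases central_shape _ hc f3 f4 f1 f2 with h1 | h1
    · left
      apply Subtype.ext
      apply Subtype.ext
      exact h1
    · right
      apply Subtype.ext
      apply Subtype.ext
      show (h.1 : Mat5) = (s : Mat5)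
      rw [hs]
      exact h1

end aux


/-- Let G be a finite group with an involution z whose centraliser C is isomorphic to the centraliser of a transvection of SL(5, 2). Then a Sylow 2-subgroup of C, viewed in G, is a Sylow 2-subgroup of G (its index in G is odd). -/
theorem result {G : Type*} [Group G] [Finite G] (s : Matrix.SpecialLinearGroup (Fin 5) (ZMod 2)) (hs : (s : Matrix (Fin 5) (Fin 5) (ZMod 2)) = Matrix.transvection 0 1 1) (z : G) (hz : orderOf z = 2) (e : (Subgroup.centralizer ({z} : Set G)) ≃* Subgroup.centralizer ({s} : Set (Matrix.SpecialLinearGroup (Fin 5) (ZMod 2)))) (T : Sylow 2 (Subgroup.centralizer ({z} : Set G))) : ¬ 2 ∣ ((T : Subgroup (Subgroup.centralizer ({z} : Set G))).map (Subgroup.subtype (Subgroup.centralizer ({z} : Set G)))).index := by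
  exact main_aux s hs z hz e T

end Cfsg.Agent.S1717
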