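import Cfsg.Statements.S1755
-- import your own Cfsg.Agent.* helpers here
import Mathlib
import Cfsg.Agent.Lib.helper28.Components
import Cfsg.Agent.Lib.helper37.Transfer
import Cfsg.Agent.Lib.helper53.Conj

set_option autoImplicit false
open Cfsg

namespace Cfsg.Agent.S1755

section S1755aux

open Subgroup

/-- Conjugation by an element of `C` maps the image in `G` of a characteristic subgroup `B` of a
normal subgroup `Q` of `C` into itself. -/
theorem conj_char_le {G : Type*} [Group G] (C : Subgroup G) (Q : Subgroup ↥C) [Q.Normal]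
    (B : Subgroup ↥Q) (hB : B.Characteristic) (g : G) (hg : g ∈ C) :
    (B.map (C.subtype.comp Q.subtype)).map (MulAut.conj g).toMonoidHom ≤
      B.map (C.subtype.comp Q.subtype) := by
  rintro x ⟨y, ⟨b, hb, rfl⟩, rfl⟩
  have h1 : (MulAut.conjNormal (⟨g, hg⟩ : ↥C) : MulAut ↥Q) b ∈ B := by
    have h2 : b ∈ B.comap (MulAut.conjNormal (⟨g, hg⟩ : ↥C) : MulAut ↥Q).toMonoidHom := by
      rw [hB.fixed]; exact hb
    exact h2
  refine ⟨_, h1, ?_⟩
  simp [MulAut.conjNormal_apply]

/-- The general statement behind S1755. -/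
theorem aux {G : Type*} [Group G] [Finite G] (z : G) (hz : orderOf z = 2) (C : Subgroup G)
    (hC : C = Subgroup.centralizer ({z} : Set G)) (Q : Subgroup ↥C) [Q.Normal]
    (hzQ : ∀ hz' : z ∈ C, (⟨z, hz'⟩ : ↥C) ∈ Q) (hQ : Cfsg.IsOfSymplecticType ↥Q)
    (B : Subgroup ↥Q) (hBc : B.Characteristic) (hBa : IsMulCommutative ↥B) (g : G) :
    (B.map (C.subtype.comp Q.subtype)).map (MulAut.conj g).toMonoidHom =
        B.map (C.subtype.comp Q.subtype) ∨
      (B.map (C.subtype.comp Q.subtype)).map (MulAut.conj g).toMonoidHom ⊓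
        B.map (C.subtype.comp Q.subtype) = ⊥ := by
  classical
  have hzC : z ∈ C := by
    rw [hC, Subgroup.mem_centralizer_iff]
    intro x hx
    rw [Set.mem_singleton_iff] at hx
    rw [hx]
  have hzQ' : (⟨z, hzC⟩ : ↥C) ∈ Q := hzQ hzC
  have hinj : Function.Injective (C.subtype.comp Q.subtype) :=
    C.subtype_injective.comp Q.subtype_injective
  have hz2 : z * z = 1 := by rw [← pow_two, ← hz, pow_orderOf_eq_one]
  have hz1 : z ≠ 1 := by
    intro h; rw [h, orderOf_one] at hz; exact absurd hz (by norm_num)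
  by_cases hBne : B = ⊥
  · left; rw [hBne]; simp
  have hcyc : IsCyclic ↥B := hQ.2 B hBc hBa
  have hcycZ : IsCyclic ↥(center ↥Q) := hQ.2 (center ↥Q) inferInstance inferInstance
  have huniq : ∀ a b : ↥Q, a ∈ B → b ∈ B → a * a = 1 → b * b = 1 → a ≠ 1 → b ≠ 1 → a = b := by
    intro a b ha hb ha2 hb2 ha1 hb1
    have h := Cfsg.Agent.Lib.helper37.eq_of_sq_eq_one_of_isCyclic (Q := ↥B) (a := ⟨a, ha⟩)
      (b := ⟨b, hb⟩) (Subtype.ext ha2) (Subtype.ext hb2)
      (fun h => ha1 (congrArg Subtype.val h)) (fun h => hb1 (congrArg Subtype.val h))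
    exact congrArg Subtype.val h
  have huniqZ : ∀ a b : ↥Q, a ∈ center ↥Q → b ∈ center ↥Q → a * a = 1 → b * b = 1 → a ≠ 1 →
      b ≠ 1 → a = b := by
    intro a b ha hb ha2 hb2 ha1 hb1
    have h := Cfsg.Agent.Lib.helper37.eq_of_sq_eq_one_of_isCyclic (Q := ↥(center ↥Q))
      (a := ⟨a, ha⟩) (b := ⟨b, hb⟩) (Subtype.ext ha2) (Subtype.ext hb2)
      (fun h => ha1 (congrArg Subtype.val h)) (fun h => hb1 (congrArg Subtype.val h))
    exact congrArg Subtype.val h
  -- the element `z` inside `Q`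
  have hzQ2 : (⟨⟨z, hzC⟩, hzQ'⟩ : ↥Q) * ⟨⟨z, hzC⟩, hzQ'⟩ = 1 := by
    apply Subtype.ext; apply Subtype.ext; simpa using hz2
  have hzQ1 : (⟨⟨z, hzC⟩, hzQ'⟩ : ↥Q) ≠ 1 := by
    intro h
    apply hz1
    have := congrArg (fun q : ↥Q => ((q : ↥C) : G)) h
    simpa using this
  have hzQcen : (⟨⟨z, hzC⟩, hzQ'⟩ : ↥Q) ∈ center ↥Q := by
    rw [Subgroup.mem_center_iff]
    intro q
    apply Subtype.ext; apply Subtype.ext
    have hq : ((q : ↥C) : G) ∈ Subgroup.centralizer ({z} : Set G) := by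
      rw [← hC]; exact (q : ↥C).2
    have := Subgroup.mem_centralizer_iff.mp hq z rfl
    simpa using this.symm
  -- an involution of `B`
  obtain ⟨b₀, hb₀B, hb₀⟩ := Cfsg.Agent.Lib.helper53.exists_orderOf_eq_prime_of_ne_bot (p := 2)
    (hQ.1.to_subgroup B) hBne
  have hb₀2 : b₀ * b₀ = 1 := by rw [← pow_two, ← hb₀, pow_orderOf_eq_one]
  have hb₀1 : b₀ ≠ 1 := by
    intro h; rw [h, orderOf_one] at hb₀; exact absurd hb₀ (by norm_num)
  have hb₀cen : b₀ ∈ center ↥Q := by
    rw [Subgroup.mem_center_iff]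
    intro q
    have h1 : (MulAut.conj q) b₀ ∈ B := by
      have h2 : b₀ ∈ B.comap (MulAut.conj q).toMonoidHom := by rw [hBc.fixed]; exact hb₀B
      exact h2
    have h3 : (MulAut.conj q) b₀ = b₀ := by
      refine huniq _ _ h1 hb₀B ?_ hb₀2 ?_ hb₀1
      · rw [← map_mul, hb₀2, map_one]
      · intro h; apply hb₀1
        exact (MulAut.conj q).injective (by rw [h, map_one])
    rw [MulAut.conj_apply] at h3
    calc q * b₀ = q * b₀ * q⁻¹ * q := by group
      _ = b₀ * q := by rw [h3]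
  have hb₀z : b₀ = ⟨⟨z, hzC⟩, hzQ'⟩ := huniqZ _ _ hb₀cen hzQcen hb₀2 hzQ2 hb₀1 hzQ1
  have hzB : (⟨⟨z, hzC⟩, hzQ'⟩ : ↥Q) ∈ B := hb₀z ▸ hb₀B
  have hinvB : ∀ y ∈ B.map (C.subtype.comp Q.subtype), y * y = 1 → y ≠ 1 → y = z := by
    rintro y ⟨b, hb, rfl⟩ hy2 hy1
    have hbz : b = ⟨⟨z, hzC⟩, hzQ'⟩ := by
      refine huniq _ _ hb hzB ?_ hzQ2 ?_ hzQ1
      · apply hinj; rw [map_mul, hy2, map_one]
      · intro h; apply hy1; rw [h, map_one]
    rw [hbz]; rfl
  by_cases hint : (B.map (C.subtype.comp Q.subtype)).map (MulAut.conj g).toMonoidHom ⊓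
        B.map (C.subtype.comp Q.subtype) = ⊥
  · right; exact hint
  left
  have h2grp : IsPGroup 2 ↥((B.map (C.subtype.comp Q.subtype)).map (MulAut.conj g).toMonoidHom ⊓
        B.map (C.subtype.comp Q.subtype)) :=
    ((hQ.1.to_subgroup B).map (C.subtype.comp Q.subtype)).to_le inf_le_right
  obtain ⟨y, hy, hyo⟩ := Cfsg.Agent.Lib.helper53.exists_orderOf_eq_prime_of_ne_bot (p := 2)
    h2grp hint
  obtain ⟨hyg, hyB⟩ := Subgroup.mem_inf.mp hy
  have hy2 : y * y = 1 := by rw [← pow_two, ← hyo, pow_orderOf_eq_one]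
  have hy1 : y ≠ 1 := by
    intro h; rw [h, orderOf_one] at hyo; exact absurd hyo (by norm_num)
  have hyz : y = z := hinvB y hyB hy2 hy1
  have hy' : g⁻¹ * y * g ∈ B.map (C.subtype.comp Q.subtype) :=
    Cfsg.Agent.Lib.helper53.mem_conj_iff.mp hyg
  have hgz : g⁻¹ * y * g = z := by
    refine hinvB _ hy' ?_ ?_
    · calc g⁻¹ * y * g * (g⁻¹ * y * g) = g⁻¹ * (y * y) * g := by group
        _ = 1 := by rw [hy2]; group
    · intro h; apply hy1
      calc y = g * (g⁻¹ * y * g) * g⁻¹ := by group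
        _ = 1 := by rw [h]; group
  rw [hyz] at hgz
  have hgC : g ∈ C := by
    rw [hC, Subgroup.mem_centralizer_iff]
    intro x hx
    rw [Set.mem_singleton_iff] at hx
    subst hx
    calc x * g = g * (g⁻¹ * x * g) := by group
      _ = g * x := by rw [hgz]
  apply le_antisymm (conj_char_le C Q B hBc g hgC)
  rw [Cfsg.Agent.Lib.helper53.le_conj_iff]
  exact conj_char_le C Q B hBc g⁻¹ (C.inv_mem hgC)

end S1755aux


/-- Let G be a finite group and let z be an involution of G such that Q, the generalized Fitting subgroup of the centralizer C of z, is a 2-group of symplectic type (every characteristic abelian subgroup of Q is cyclic). Let B be a characteristic abelian subgroup of Q, viewed as a subgroup of G. Then for every g in G, the conjugate of B by g either equals B or meets B trivially. -/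
theorem result {G : Type*} [Group G] [Finite G] (z : G) (hz : orderOf z = 2) (hQ : Cfsg.IsOfSymplecticType ↥(Cfsg.generalizedFittingSubgroup ↥(Subgroup.centralizer ({z} : Set G))))
    (B : Subgroup ↥(Cfsg.generalizedFittingSubgroup ↥(Subgroup.centralizer ({z} : Set G)))) (hBc : B.Characteristic) (hBa : IsMulCommutative ↥B) (g : G) :
    ((B.map (Cfsg.generalizedFittingSubgroup ↥(Subgroup.centralizer ({z} : Set G))).subtype).map (Subgroup.centralizer ({z} : Set G)).subtype).map (MulAut.conj g).toMonoidHom =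
        (B.map (Cfsg.generalizedFittingSubgroup ↥(Subgroup.centralizer ({z} : Set G))).subtype).map (Subgroup.centralizer ({z} : Set G)).subtype ∨
      ((B.map (Cfsg.generalizedFittingSubgroup ↥(Subgroup.centralizer ({z} : Set G))).subtype).map (Subgroup.centralizer ({z} : Set G)).subtype).map (MulAut.conj g).toMonoidHom ⊓
        (B.map (Cfsg.generalizedFittingSubgroup ↥(Subgroup.centralizer ({z} : Set G))).subtype).map (Subgroup.centralizer ({z} : Set G)).subtype = ⊥ := by
  have hside : ∀ hz' : z ∈ Subgroup.centralizer ({z} : Set G),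
      (⟨z, hz'⟩ : ↥(Subgroup.centralizer ({z} : Set G))) ∈
        Cfsg.generalizedFittingSubgroup ↥(Subgroup.centralizer ({z} : Set G)) := by
    intro hz'
    apply Cfsg.Agent.Lib.helper28.centralizer_generalizedFittingSubgroup_le
    rw [Subgroup.mem_centralizer_iff]
    intro q _
    apply Subtype.ext
    have := Subgroup.mem_centralizer_iff.mp q.2 z rfl
    simpa using this.symm
  have key := aux z hz _ rfl _ hside hQ B hBc hBa g
  rw [← Subgroup.map_map] at key
  exact key

end Cfsg.Agent.S1755
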