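import Cfsg.Statements.S1756
-- import your own Cfsg.Agent.* helpers here
import Mathlib
import Cfsg.Agent.Lib.helper36.Extraspecial

set_option autoImplicit false
open Cfsg

namespace Cfsg.Agent.S1756

/-- Let Q be an extraspecial 2-subgroup of the finite group G (special with centre of order 2) and t an involution of G normalizing Q such that the centralizer of t in Q has index at most 2 in Q. Then t lies in the product of Q with the centralizer of Q. -/
theorem result {G : Type*} [Group G] [Finite G] (Q : Subgroup G)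
    (hQ : Cfsg.IsExtraspecial 2 ↥Q) (t : G) (ht : orderOf t = 2) (htN : t ∈ Subgroup.normalizer (Q : Set G))
    (hi : (Subgroup.centralizer ({t} : Set G) ⊓ Q).relIndex Q ≤ 2) :
    t ∈ Q ⊔ Subgroup.centralizer (Q : Set G) := by
  have htt : t * t = 1 := by rw [← pow_two, ← ht, pow_orderOf_eq_one]
  have htinv : t⁻¹ = t := inv_eq_of_mul_eq_one_left htt
  have hmemN : ∀ q : G, q ∈ Q → t * q * t⁻¹ ∈ Q :=
    fun q hq => (Subgroup.mem_normalizer_iff.mp htN q).mp hq
  let α : ↥Q → ↥Q := fun q => ⟨t * q * t⁻¹, hmemN q q.2⟩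
  have hαval : ∀ q : ↥Q, ((α q : ↥Q) : G) = t * q * t⁻¹ := fun q => rfl
  have hmul : ∀ g h, α (g * h) = α g * α h := by
    intro g h
    apply Subtype.ext
    simp only [hαval, Subgroup.coe_mul]
    group
  have hinv : ∀ g, α (α g) = g := by
    intro g
    apply Subtype.ext
    simp only [hαval]
    rw [htinv]
    calc t * (t * (g : G) * t) * t = (t * t) * (g : G) * (t * t) := by group
      _ = (g : G) := by rw [htt]; group
  have hfix : ∀ g : ↥Q, α g = g ↔ (g : G) ∈ Subgroup.centralizer ({t} : Set G) ⊓ Q := by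
    intro g
    rw [Subgroup.mem_inf, Subgroup.mem_centralizer_iff]
    constructor
    · intro h
      refine ⟨?_, g.2⟩
      intro y hy
      rw [Set.mem_singleton_iff] at hy
      subst hy
      have h1 : y * (g : G) * y⁻¹ = (g : G) := congrArg Subtype.val h
      calc y * (g : G) = y * (g : G) * y⁻¹ * y := by group
        _ = (g : G) * y := by rw [h1]
    · rintro ⟨h, -⟩
      apply Subtype.ext
      have h1 := h t rfl
      change t * (g : G) * t⁻¹ = (g : G)
      rw [h1]; group
  have hmemS : ∀ g : ↥Q, g ∈ (Subgroup.centralizer ({t} : Set G) ⊓ Q).subgroupOf Q ↔ α g = g :=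
    fun g => by rw [Subgroup.mem_subgroupOf, hfix]
  have hidx : ∀ g h, α g ≠ g → α h ≠ h → α (g * h) = g * h := by
    intro g h hg hh
    have hindex : ((Subgroup.centralizer ({t} : Set G) ⊓ Q).subgroupOf Q).index ≤ 2 := hi
    have hne : ((Subgroup.centralizer ({t} : Set G) ⊓ Q).subgroupOf Q).index ≠ 0 :=
      Subgroup.index_ne_zero_of_finite
    have hcases : ((Subgroup.centralizer ({t} : Set G) ⊓ Q).subgroupOf Q).index = 1 ∨
        ((Subgroup.centralizer ({t} : Set G) ⊓ Q).subgroupOf Q).index = 2 := by omega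
    rcases hcases with h1 | h2
    · rw [Subgroup.index_eq_one] at h1
      exact absurd ((hmemS g).mp (by rw [h1]; trivial)) hg
    · rw [← hmemS, Subgroup.mul_mem_iff_of_index_two h2, hmemS, hmemS]
      exact ⟨fun h' => absurd h' hg, fun h' => absurd h' hh⟩
  obtain ⟨q, hq⟩ := Cfsg.Agent.Lib.helper36.extraspecial_two_inner hQ α hmul hinv hidx
  have hcent : (q : G)⁻¹ * t ∈ Subgroup.centralizer (Q : Set G) := by
    rw [Subgroup.mem_centralizer_iff]
    intro g hg
    have h1 : t * g * t⁻¹ = q * g * (q : G)⁻¹ := by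
      have h2 := congrArg Subtype.val (hq ⟨g, hg⟩)
      simpa [hαval] using h2
    calc g * ((q : G)⁻¹ * t) = (q : G)⁻¹ * (q * g * (q : G)⁻¹) * t := by group
      _ = (q : G)⁻¹ * (t * g * t⁻¹) * t := by rw [h1]
      _ = (q : G)⁻¹ * t * g := by group
  have hprod : t = (q : G) * ((q : G)⁻¹ * t) := by group
  rw [hprod]
  exact Subgroup.mul_mem_sup q.2 hcent

end Cfsg.Agent.S1756
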