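import Cfsg.Statements.S1757
-- import your own Cfsg.Agent.* helpers here

set_option autoImplicit false
open Cfsg

namespace Cfsg.Agent.S1757

/-- Core of the argument, without the unused hypotheses: if `B` normalizes `A`,
`|A| ≤ |B|` and `B` meets each `A`-conjugate of itself other than itself trivially, then `A` normalizes `B`. -/
theorem conj_eq_of_ti {G : Type*} [Group G] [Finite G] (A B : Subgroup G)
    (hBti : ∀ g : G, g ∈ A → B.map (MulAut.conj g).toMonoidHom = B ∨ B.map (MulAut.conj g).toMonoidHom ⊓ B = ⊥)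
    (hle : Nat.card ↥A ≤ Nat.card ↥B) (hN : B ≤ Subgroup.normalizer (A : Set G)) :
    ∀ a ∈ A, B.map (MulAut.conj a).toMonoidHom = B := by
  intro a ha
  by_cases ha1 : a = 1
  · subst ha1; ext x; simp
  rcases hBti a ha with h | h
  · exact h
  exfalso
  have hnorm : ∀ b : ↥B, (b : G) * a * (b : G)⁻¹ ∈ A := fun b =>
    (Subgroup.mem_normalizer_iff.mp (hN b.2) a).mp ha
  let f : Option ↥B → ↥A := fun o => match o with
    | none => 1
    | some b => ⟨(b : G) * a * (b : G)⁻¹, hnorm b⟩
  have hne : ∀ b : ↥B, (b : G) * a * (b : G)⁻¹ ≠ 1 := by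
    intro b hb
    apply ha1
    have : a = (b : G)⁻¹ * ((b : G) * a * (b : G)⁻¹) * (b : G) := by group
    rw [this, hb]; group
  have hf : Function.Injective f := by
    intro x y hxy
    match x, y with
    | none, none => rfl
    | none, some b =>
      exact absurd (congrArg Subtype.val hxy).symm (hne b)
    | some b, none =>
      exact absurd (congrArg Subtype.val hxy) (hne b)
    | some b, some b' =>
      have h1 : (b : G) * a * (b : G)⁻¹ = (b' : G) * a * (b' : G)⁻¹ := congrArg Subtype.val hxy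
      have hcB : (b' : G)⁻¹ * (b : G) ∈ B := B.mul_mem (B.inv_mem b'.2) b.2
      have hcomm : a * ((b' : G)⁻¹ * (b : G)) * a⁻¹ = (b' : G)⁻¹ * (b : G) := by
        have h2 : a = (b' : G)⁻¹ * ((b : G) * a * (b : G)⁻¹) * (b' : G) := by
          rw [h1]; group
        have h3 : a * ((b' : G)⁻¹ * (b : G)) = (b' : G)⁻¹ * (b : G) * a := by
          conv_lhs => rw [h2]
          group
        rw [h3]; group
      have hc : (b' : G)⁻¹ * (b : G) ∈ B.map (MulAut.conj a).toMonoidHom ⊓ B := by
        refine ⟨⟨(b' : G)⁻¹ * (b : G), hcB, ?_⟩, hcB⟩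
        simpa [MulAut.conj_apply] using hcomm
      rw [h] at hc
      have h4 : (b' : G)⁻¹ * (b : G) = 1 := Subgroup.mem_bot.mp hc
      have h5 : (b : G) = (b' : G) := by
        have := inv_mul_eq_one.mp h4
        exact this.symm
      exact congrArg some (Subtype.ext h5)
  have hcard := Nat.card_le_card_of_injective f hf
  rw [Finite.card_option] at hcard
  omega

/-- If `A` and `B` normalize each other and meet trivially, they commute. -/
theorem commutator_eq_bot_of_normalize {G : Type*} [Group G] (A B : Subgroup G)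
    (hAB : A ⊓ B = ⊥) (hN : B ≤ Subgroup.normalizer (A : Set G))
    (hN' : ∀ a ∈ A, B.map (MulAut.conj a).toMonoidHom = B) : ⁅A, B⁆ = ⊥ := by
  rw [Subgroup.commutator_eq_bot_iff_le_centralizer]
  intro a ha
  rw [Subgroup.mem_centralizer_iff]
  intro b hb
  have h1 : a * b * a⁻¹ ∈ B := by
    have : a * b * a⁻¹ ∈ B.map (MulAut.conj a).toMonoidHom := ⟨b, hb, by simp [MulAut.conj_apply]⟩
    rwa [hN' a ha] at this
  have h2 : b * a⁻¹ * b⁻¹ ∈ A :=
    (Subgroup.mem_normalizer_iff.mp (hN hb) a⁻¹).mp (A.inv_mem ha)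
  have h3 : a * b * a⁻¹ * b⁻¹ ∈ A ⊓ B := by
    refine ⟨?_, B.mul_mem h1 (B.inv_mem hb)⟩
    have : a * b * a⁻¹ * b⁻¹ = a * (b * a⁻¹ * b⁻¹) := by group
    rw [this]; exact A.mul_mem ha h2
  rw [hAB] at h3
  have h4 : a * b * a⁻¹ * b⁻¹ = 1 := Subgroup.mem_bot.mp h3
  have h5 : a * b = b * a := by
    have : a * b = (a * b * a⁻¹ * b⁻¹) * (b * a) := by group
    rw [this, h4, one_mul]
  exact h5.symm

/-- The statement without the unused hypotheses. -/
theorem core {G : Type*} [Group G] [Finite G] (A B : Subgroup G)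
    (hBti : ∀ g : G, g ∈ A → B.map (MulAut.conj g).toMonoidHom = B ∨ B.map (MulAut.conj g).toMonoidHom ⊓ B = ⊥)
    (hle : Nat.card ↥A ≤ Nat.card ↥B) (hAB : A ⊓ B = ⊥) (hN : B ≤ Subgroup.normalizer (A : Set G)) :
    ⁅A, B⁆ = ⊥ :=
  commutator_eq_bot_of_normalize A B hAB hN (conj_eq_of_ti A B hBti hle hN)

/-- Let p be a prime and A, B p-subgroups of the finite group G, each of which meets every conjugate of itself other than itself trivially. Suppose the order of A is at most that of B, A and B intersect trivially, and B normalizes A. Then A and B commute elementwise. -/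
theorem result {G : Type*} [Group G] [Finite G] (p : ℕ) [Fact p.Prime] (A B : Subgroup G)
    (hA : IsPGroup p ↥A) (hB : IsPGroup p ↥B)
    (hAti : ∀ g : G, A.map (MulAut.conj g).toMonoidHom = A ∨ A.map (MulAut.conj g).toMonoidHom ⊓ A = ⊥)
    (hBti : ∀ g : G, B.map (MulAut.conj g).toMonoidHom = B ∨ B.map (MulAut.conj g).toMonoidHom ⊓ B = ⊥)
    (hle : Nat.card ↥A ≤ Nat.card ↥B) (hAB : A ⊓ B = ⊥) (hN : B ≤ Subgroup.normalizer (A : Set G)) : ⁅A, B⁆ = ⊥ := by
  exact core A B (fun g _ => hBti g) hle hAB hN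

end Cfsg.Agent.S1757
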