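import Cfsg.Statements.S1775
import Cfsg.Agent.Lib.helper28.Components
import Cfsg.Agent.Lib.helper28.PLayer
import Cfsg.Agent.Lib.helper28.Standard
import Cfsg.Agent.Lib.helper27.FStar
import Cfsg.Agent.Lib.helper27.PComp
import Cfsg.Agent.Lib.helper27.PLocal3
import Cfsg.Agent.Lib.helper27.Radical
import Cfsg.Agent.Lib.helper37.NQSec
import Cfsg.Agent.Lib.helper40.Comp
import Cfsg.Agent.Lib.helper40.PComponent3
-- import your own Cfsg.Agent.* helpers here

set_option autoImplicit false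
open Cfsg

namespace Cfsg.Agent.S1775

open scoped commutatorElement

/-- A component of even order commutes with every subgroup of odd order that it normalizes. -/
theorem isComponent_commute_of_normalized_odd {X : Type*} [Group X] [Finite X]
    {K D : Subgroup X} (hK : Cfsg.IsComponent K) (hKD : K ≤ Subgroup.normalizer (D : Set X))
    (hKe : 2 ∣ Nat.card K) (hD : Odd (Nat.card D)) : ⁅K, D⁆ = ⊥ := by
  have hKM : K ≤ K ⊔ D := le_sup_left
  have hDM : D ≤ K ⊔ D := le_sup_right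
  have hcomp := Cfsg.Agent.Lib.helper28.isComponent_subgroupOf hK hKM
  have hnorm : (D.subgroupOf (K ⊔ D)).Normal := by
    rw [Subgroup.normal_subgroupOf_iff_le_normalizer hDM]
    exact sup_le hKD Subgroup.le_normalizer
  rcases Cfsg.Agent.Lib.helper40.component_le_or_commutator_eq_bot hcomp
    (D.subgroupOf (K ⊔ D)) with h | h
  · exfalso
    have hle : K ≤ D := by
      intro k hk
      have h1 : (⟨k, hKM hk⟩ : ↥(K ⊔ D)) ∈ K.subgroupOf (K ⊔ D) := Subgroup.mem_subgroupOf.mpr hk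
      exact Subgroup.mem_subgroupOf.mp (h h1)
    have h1 : Nat.card K ∣ Nat.card D := Subgroup.card_dvd_of_le hle
    exact (Nat.not_even_iff_odd.mpr hD) (even_iff_two_dvd.mpr (hKe.trans h1))
  · exact Cfsg.Agent.Lib.helper28.commutator_eq_bot_of_subgroupOf hKM hDM h

/-- The image of a subnormal subgroup under a homomorphism with normal range is subnormal. -/
theorem isSubnormal_map_of_normal_range {A B : Type*} [Group A] [Group B] (f : A →* B)
    (hf : f.range.Normal) {K : Subgroup A} (hK : K.IsSubnormal) : (K.map f).IsSubnormal := by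
  have h1 : (K.map f.rangeRestrict).IsSubnormal := hK.map f.rangeRestrict_surjective
  have h2 := h1.trans' hf.isSubnormal
  rw [Subgroup.map_map] at h2
  have h3 : f.range.subtype.comp f.rangeRestrict = f := MonoidHom.subtype_comp_rangeRestrict f
  rwa [h3] at h2

/-- An element of order `2` does not lie in the odd core. -/
theorem not_mem_pPrimeCore_of_orderOf_two {X : Type*} [Group X] [Finite X] {u : X}
    (hu : orderOf u = 2) : u ∉ pPrimeCore 2 X := by
  intro hmem
  have hcop := Cfsg.Agent.Lib.helper27.pPrimeCore_coprime (G := X) 2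
  have h1 : orderOf (⟨u, hmem⟩ : ↥(pPrimeCore 2 X)) = 2 := by
    rw [← Subgroup.orderOf_coe]; exact hu
  have h2 : 2 ∣ Nat.card ↥(pPrimeCore 2 X) := by
    have h3 := orderOf_dvd_natCard (⟨u, hmem⟩ : ↥(pPrimeCore 2 X))
    rwa [h1] at h3
  exact (Nat.Prime.coprime_iff_not_dvd Nat.prime_two).mp hcop.symm h2

/-- The core computation, for abstract subgroups `D ≤ H ≤ Cy`. -/
theorem core {G : Type*} [Group G] [Finite G] (Cy H D : Subgroup G)
    (hHCy : H ≤ Cy) (hDH : D ≤ H) (hHD : H ≤ Subgroup.normalizer (D : Set G))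
    (xc : ↥Cy) (hxH : ∀ h ∈ H, h * (xc : G) = (xc : G) * h)
    (hsurj : ∀ q : ↥Cy ⧸ pPrimeCore 2 ↥Cy,
      q ∈ Subgroup.centralizer ({QuotientGroup.mk' (pPrimeCore 2 ↥Cy) xc} : Set (↥Cy ⧸ pPrimeCore 2 ↥Cy)) →
        ∃ h : G, ∃ hh : h ∈ H, QuotientGroup.mk' (pPrimeCore 2 ↥Cy) ⟨h, hHCy hh⟩ = q)
    (hB : ⁅pLayer 2 ↥(Subgroup.centralizer ({QuotientGroup.mk' (pPrimeCore 2 ↥Cy) xc} : Set (↥Cy ⧸ pPrimeCore 2 ↥Cy))),
        pPrimeCore 2 ↥(Subgroup.centralizer ({QuotientGroup.mk' (pPrimeCore 2 ↥Cy) xc} : Set (↥Cy ⧸ pPrimeCore 2 ↥Cy)))⁆ = ⊥)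
    (J : Subgroup ↥D) (hJ : IsPComponent 2 J) :
    IsComponent ((((J.map D.subtype).subgroupOf Cy).map (QuotientGroup.mk' (pPrimeCore 2 ↥Cy))).subgroupOf
        (Subgroup.centralizer ({QuotientGroup.mk' (pPrimeCore 2 ↥Cy) xc} : Set (↥Cy ⧸ pPrimeCore 2 ↥Cy)))) ∧
      ∀ E : Subgroup G, E ≤ H → Odd (Nat.card ↥E) →
        (∀ j ∈ J.map D.subtype, ∀ e ∈ E, j * e * j⁻¹ ∈ E) →
          ⁅J.map D.subtype, E⁆ ≤ (pPrimeCore 2 ↥Cy).map Cy.subtype := by
  classical
  have : Fact (Nat.Prime 2) := ⟨Nat.prime_two⟩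
  have hmemC : ∀ h : ↥H, ((QuotientGroup.mk' (pPrimeCore 2 ↥Cy)).comp (Subgroup.inclusion hHCy)) h ∈
      Subgroup.centralizer ({QuotientGroup.mk' (pPrimeCore 2 ↥Cy) xc} : Set (↥Cy ⧸ pPrimeCore 2 ↥Cy)) := by
    intro h
    rw [Subgroup.mem_centralizer_singleton_iff, MonoidHom.comp_apply, ← map_mul, ← map_mul]
    congr 1
    exact Subtype.ext (hxH h h.2)
  obtain ⟨ΨH, hΨH⟩ : ∃ ΨH : ↥H →* ↥(Subgroup.centralizer
      ({QuotientGroup.mk' (pPrimeCore 2 ↥Cy) xc} : Set (↥Cy ⧸ pPrimeCore 2 ↥Cy))),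
      ∀ h : ↥H, ((ΨH h : ↥(Subgroup.centralizer
        ({QuotientGroup.mk' (pPrimeCore 2 ↥Cy) xc} : Set (↥Cy ⧸ pPrimeCore 2 ↥Cy)))) : ↥Cy ⧸ pPrimeCore 2 ↥Cy) =
        QuotientGroup.mk' (pPrimeCore 2 ↥Cy) ⟨(h : G), hHCy h.2⟩ :=
    ⟨((QuotientGroup.mk' (pPrimeCore 2 ↥Cy)).comp (Subgroup.inclusion hHCy)).codRestrict _ hmemC,
      fun h => rfl⟩
  have hΨHsurj : Function.Surjective ΨH := by
    intro c
    obtain ⟨h, hh, hq⟩ := hsurj c.1 c.2
    exact ⟨⟨h, hh⟩, Subtype.ext (by rw [hΨH]; exact hq)⟩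
  obtain ⟨Ψ, hΨ⟩ : ∃ Ψ : ↥D →* ↥(Subgroup.centralizer
      ({QuotientGroup.mk' (pPrimeCore 2 ↥Cy) xc} : Set (↥Cy ⧸ pPrimeCore 2 ↥Cy))),
      Ψ = ΨH.comp (Subgroup.inclusion hDH) := ⟨_, rfl⟩
  have hΨval : ∀ d : ↥D, ((Ψ d : ↥(Subgroup.centralizer
        ({QuotientGroup.mk' (pPrimeCore 2 ↥Cy) xc} : Set (↥Cy ⧸ pPrimeCore 2 ↥Cy)))) : ↥Cy ⧸ pPrimeCore 2 ↥Cy) =
        QuotientGroup.mk' (pPrimeCore 2 ↥Cy) ⟨(d : G), hHCy (hDH d.2)⟩ := by
    intro d
    rw [hΨ, MonoidHom.comp_apply, hΨH]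
    rfl
  have hrange : Ψ.range.Normal := by
    constructor
    rintro _ ⟨d, rfl⟩ c
    obtain ⟨h, rfl⟩ := hΨHsurj c
    have hd' : (h : G) * (d : G) * (h : G)⁻¹ ∈ D := by
      have h1 := hHD h.2
      rw [Subgroup.mem_normalizer_iff] at h1
      exact (h1 _).mp d.2
    refine ⟨⟨(h : G) * (d : G) * (h : G)⁻¹, hd'⟩, ?_⟩
    rw [hΨ, MonoidHom.comp_apply, MonoidHom.comp_apply, ← map_inv, ← map_mul, ← map_mul]
    congr 1
  have hsn : (J.map Ψ).IsSubnormal := isSubnormal_map_of_normal_range Ψ hrange hJ.1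
  have hJ2 : 2 ∣ Nat.card J := Cfsg.Agent.Lib.helper40.IsPComponent.dvd_card hJ
  have hne : ¬ J ≤ Ψ.ker := by
    intro hle
    obtain ⟨j, hj⟩ := exists_prime_orderOf_dvd_card' 2 hJ2
    have h1 : Ψ (j : ↥D) = 1 := hle j.2
    have h2 : (⟨((j : ↥D) : G), hHCy (hDH (j : ↥D).2)⟩ : ↥Cy) ∈ pPrimeCore 2 ↥Cy := by
      rw [← QuotientGroup.eq_one_iff]
      have h3 := hΨval (j : ↥D)
      rw [h1] at h3
      exact h3.symm
    refine not_mem_pPrimeCore_of_orderOf_two ?_ h2
    rw [← Subgroup.orderOf_coe]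
    show orderOf (((j : ↥D) : G)) = 2
    rw [Subgroup.orderOf_coe, Subgroup.orderOf_coe, hj]
  have hK' : IsPComponent 2 (J.map Ψ) :=
    Cfsg.Agent.Lib.helper37.isPComponent_map_of_subnormal hJ Ψ hsn hne
  have hq : IsQuasisimple ↥(J.map Ψ) := by
    rw [Cfsg.Agent.Lib.helper27.IsPComponent.isQuasisimple_iff 2 hK',
      Cfsg.Agent.Lib.helper27.map_pPrimeCore_subnormal_eq 2 hK'.1, eq_bot_iff, ← hB]
    exact Subgroup.commutator_mono (le_sSup hK') inf_le_left
  have hcomp : IsComponent (J.map Ψ) := ⟨hK'.1, hq⟩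
  have hKeq : (((J.map D.subtype).subgroupOf Cy).map (QuotientGroup.mk' (pPrimeCore 2 ↥Cy))).subgroupOf
        (Subgroup.centralizer ({QuotientGroup.mk' (pPrimeCore 2 ↥Cy) xc} : Set (↥Cy ⧸ pPrimeCore 2 ↥Cy))) =
      J.map Ψ := by
    ext c
    rw [Subgroup.mem_subgroupOf]
    constructor
    · rintro ⟨u, hu, huc⟩
      have hu' : (u : G) ∈ J.map D.subtype := hu
      obtain ⟨j, hj, hju⟩ := hu'
      refine ⟨j, hj, Subtype.ext ?_⟩
      rw [hΨval]
      rw [← huc]
      congr 1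
      exact Subtype.ext hju
    · rintro ⟨j, hj, rfl⟩
      refine ⟨⟨(j : G), hHCy (hDH j.2)⟩, ?_, (hΨval j).symm⟩
      exact Subgroup.mem_subgroupOf.mpr ⟨j, hj, rfl⟩
  refine ⟨by rw [hKeq]; exact hcomp, ?_⟩
  intro E hEH hEodd hinv
  have hEcard : Odd (Nat.card ↥((E.subgroupOf H).map ΨH)) := by
    have h1 : Nat.card ↥((E.subgroupOf H).map ΨH) ∣ Nat.card ↥(E.subgroupOf H) :=
      Subgroup.card_map_dvd _ ΨH
    have h2 : Nat.card ↥(E.subgroupOf H) = Nat.card ↥E :=
      Nat.card_congr (Subgroup.subgroupOfEquivOfLe hEH).toEquiv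
    rw [h2] at h1
    exact Odd.of_dvd_nat hEodd h1
  have hnorm : J.map Ψ ≤ Subgroup.normalizer (((E.subgroupOf H).map ΨH : Subgroup _) : Set _) := by
    have key : ∀ k ∈ J.map Ψ, ∀ e ∈ (E.subgroupOf H).map ΨH, k * e * k⁻¹ ∈ (E.subgroupOf H).map ΨH := by
      rintro _ ⟨j, hj, rfl⟩ _ ⟨e, he, rfl⟩
      refine ⟨Subgroup.inclusion hDH j * e * (Subgroup.inclusion hDH j)⁻¹, ?_, ?_⟩
      · have he' : (e : G) ∈ E := he
        exact Subgroup.mem_subgroupOf.mpr (hinv (j : G) ⟨j, hj, rfl⟩ (e : G) he')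
      · rw [hΨ, MonoidHom.comp_apply, map_mul, map_mul, map_inv]
    intro k hk
    rw [Subgroup.mem_normalizer_iff]
    intro e
    constructor
    · exact key k hk e
    · intro he
      have h1 := key k⁻¹ (inv_mem hk) _ he
      have h2 : k⁻¹ * (k * e * k⁻¹) * k⁻¹⁻¹ = e := by group
      rwa [h2] at h1
  have hcomm := isComponent_commute_of_normalized_odd hcomp hnorm
    (Cfsg.Agent.Lib.helper40.IsPComponent.dvd_card hK') hEcard
  rw [Subgroup.commutator_le]
  rintro _ ⟨j, hj, rfl⟩ e he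
  have h1 : ⁅Ψ j, ΨH ⟨e, hEH he⟩⁆ ∈ ⁅J.map Ψ, (E.subgroupOf H).map ΨH⁆ :=
    Subgroup.commutator_mem_commutator ⟨j, hj, rfl⟩
      ⟨⟨e, hEH he⟩, Subgroup.mem_subgroupOf.mpr he, rfl⟩
  rw [hcomm, Subgroup.mem_bot] at h1
  have h2 : ΨH ⁅Subgroup.inclusion hDH j, ⟨e, hEH he⟩⁆ = 1 := by
    rw [map_commutatorElement, ← h1, hΨ, MonoidHom.comp_apply]
  have h3 := hΨH ⁅Subgroup.inclusion hDH j, ⟨e, hEH he⟩⁆
  rw [h2] at h3
  have h4 : (⟨((⁅Subgroup.inclusion hDH j, ⟨e, hEH he⟩⁆ : ↥H) : G), hHCy (⁅Subgroup.inclusion hDH j, ⟨e, hEH he⟩⁆ : ↥H).2⟩ : ↥Cy) ∈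
      pPrimeCore 2 ↥Cy := by
    rw [← QuotientGroup.eq_one_iff]
    exact h3.symm
  exact ⟨_, h4, rfl⟩

/-- Let G be a finite group whose generalized Fitting subgroup is a non-abelian simple group and in which every proper section (every quotient H/N of a proper subgroup H, or of G by a nontrivial normal subgroup) has the B-property. Let x, y be commuting involutions, let D be the intersection of the 2-layer of C_G(x) with C_G(y), and let J be a 2-component of D. Write Q for the quotient of C_G(y) by its largest normal odd-order subgroup. Then (i) the image of J in Q is a component of the centralizer in Q of the image of x; and (ii) for every J-invariant subgroup E of odd order of C_G(x) ∩ C_G(y), the commutator subgroup [J, E] lies in the largest normal odd-order subgroup of C_G(y). -/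
theorem result {G : Type*} [Group G] [Finite G]
    (hF : IsSimpleGroup ↥(Cfsg.generalizedFittingSubgroup G)) (hF' : ¬ IsMulCommutative ↥(Cfsg.generalizedFittingSubgroup G))
    (hsec : ∀ (H : Subgroup G) (N : Subgroup ↥H) [N.Normal], (H ≠ ⊤ ∨ N ≠ ⊥) → Cfsg.HasBProperty (↥H ⧸ N))
    (x y : G) (hx : orderOf x = 2) (hy : orderOf y = 2) (hxy : x * y = y * x)
    (J : Subgroup ↥((Cfsg.pLayer 2 ↥(Subgroup.centralizer ({x} : Set G))).map (Subgroup.centralizer ({x} : Set G)).subtype ⊓ Subgroup.centralizer ({y} : Set G)))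
    (hJ : Cfsg.IsPComponent 2 J) :
    Cfsg.IsComponent
        ((((J.map (Subgroup.subtype _)).subgroupOf (Subgroup.centralizer ({y} : Set G))).map (QuotientGroup.mk' (Cfsg.oddCore ↥(Subgroup.centralizer ({y} : Set G))))).subgroupOf
          (Subgroup.centralizer ({(QuotientGroup.mk' (Cfsg.oddCore ↥(Subgroup.centralizer ({y} : Set G))) ⟨x, Subgroup.mem_centralizer_singleton_iff.mpr hxy⟩ : ↥(Subgroup.centralizer ({y} : Set G)) ⧸ Cfsg.oddCore ↥(Subgroup.centralizer ({y} : Set G)))} : Set _))) ∧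
      ∀ E : Subgroup G, E ≤ Subgroup.centralizer ({x} : Set G) ⊓ Subgroup.centralizer ({y} : Set G) → Odd (Nat.card ↥E) →
        (∀ j ∈ J.map (Subgroup.subtype _), ∀ e ∈ E, j * e * j⁻¹ ∈ E) →
          ⁅J.map (Subgroup.subtype _), E⁆ ≤ (Cfsg.oddCore ↥(Subgroup.centralizer ({y} : Set G))).map (Subgroup.centralizer ({y} : Set G)).subtype := by
  classical
  have : Fact (Nat.Prime 2) := ⟨Nat.prime_two⟩
  have hx2 : x ^ 2 = 1 := by rw [← hx]; exact pow_orderOf_eq_one x
  have hx1 : x ≠ 1 := by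
    intro h; rw [h, orderOf_one] at hx; norm_num at hx
  have hy1 : y ≠ 1 := by
    intro h; rw [h, orderOf_one] at hy; norm_num at hy
  -- `C_G(y)` is a proper subgroup
  have hCy : Subgroup.centralizer ({y} : Set G) ≠ ⊤ := by
    intro htop
    have hyc : ∀ g : G, g * y = y * g := by
      intro g
      have h1 : g ∈ Subgroup.centralizer ({y} : Set G) := by rw [htop]; exact Subgroup.mem_top g
      exact Subgroup.mem_centralizer_singleton_iff.mp h1
    have hyF : y ∈ Cfsg.generalizedFittingSubgroup G := by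
      apply Cfsg.Agent.Lib.helper27.centralizer_generalizedFittingSubgroup_le
      rw [Subgroup.mem_centralizer_iff]
      intro h _
      exact hyc h
    have hcen : (⟨y, hyF⟩ : ↥(Cfsg.generalizedFittingSubgroup G)) ∈
        Subgroup.center ↥(Cfsg.generalizedFittingSubgroup G) := by
      rw [Subgroup.mem_center_iff]
      intro g
      exact Subtype.ext (hyc g)
    rcases (inferInstance : (Subgroup.center ↥(Cfsg.generalizedFittingSubgroup G)).Normal).eq_bot_or_eq_top
      with h | h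
    · rw [h, Subgroup.mem_bot] at hcen
      exact hy1 (congrArg Subtype.val hcen)
    · apply hF'
      refine ⟨⟨fun a b => ?_⟩⟩
      have h1 : b ∈ Subgroup.center ↥(Cfsg.generalizedFittingSubgroup G) := by
        rw [h]; exact Subgroup.mem_top b
      exact Subgroup.mem_center_iff.mp h1 a
  have hBQ := hsec (Subgroup.centralizer ({y} : Set G))
    (Cfsg.oddCore ↥(Subgroup.centralizer ({y} : Set G))) (Or.inl hCy)
  -- the image of `x` has order two
  have hxc2 : (⟨x, Subgroup.mem_centralizer_singleton_iff.mpr hxy⟩ :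
      ↥(Subgroup.centralizer ({y} : Set G))) ^ 2 = 1 := Subtype.ext hx2
  have hxco : orderOf (⟨x, Subgroup.mem_centralizer_singleton_iff.mpr hxy⟩ :
      ↥(Subgroup.centralizer ({y} : Set G))) = 2 := by
    rw [← Subgroup.orderOf_coe]; exact hx
  have hxbar1 : QuotientGroup.mk' (Cfsg.pPrimeCore 2 ↥(Subgroup.centralizer ({y} : Set G)))
      (⟨x, Subgroup.mem_centralizer_singleton_iff.mpr hxy⟩ :
        ↥(Subgroup.centralizer ({y} : Set G))) ≠ 1 := by
    intro h
    rw [QuotientGroup.mk'_apply, QuotientGroup.eq_one_iff] at h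
    exact not_mem_pPrimeCore_of_orderOf_two hxco h
  have hxbaro : orderOf (QuotientGroup.mk' (Cfsg.pPrimeCore 2 ↥(Subgroup.centralizer ({y} : Set G)))
      (⟨x, Subgroup.mem_centralizer_singleton_iff.mpr hxy⟩ :
        ↥(Subgroup.centralizer ({y} : Set G)))) = 2 := by
    apply orderOf_eq_prime
    · rw [← map_pow, hxc2, map_one]
    · exact hxbar1
  have hB1 := hBQ _ hxbaro
  have hO : Cfsg.oddCore (↥(Subgroup.centralizer ({y} : Set G)) ⧸
      Cfsg.oddCore ↥(Subgroup.centralizer ({y} : Set G))) = ⊥ :=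
    Cfsg.Agent.Lib.helper27.pPrimeCore_quotient_eq_bot 2
  rw [hO, le_bot_iff, Subgroup.map_eq_bot_iff_of_injective _ (Subgroup.subtype_injective _)] at hB1
  refine core (Subgroup.centralizer ({y} : Set G))
    (Subgroup.centralizer ({x} : Set G) ⊓ Subgroup.centralizer ({y} : Set G))
    ((Cfsg.pLayer 2 ↥(Subgroup.centralizer ({x} : Set G))).map (Subgroup.centralizer ({x} : Set G)).subtype ⊓
      Subgroup.centralizer ({y} : Set G))
    inf_le_right (inf_le_inf (Subgroup.map_subtype_le _) le_rfl) ?_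
    ⟨x, Subgroup.mem_centralizer_singleton_iff.mpr hxy⟩ ?_ ?_ hB1 J hJ
  · -- `H` normalizes `D`
    intro h hh
    have h1 : h ∈ Subgroup.normalizer (((Cfsg.pLayer 2 ↥(Subgroup.centralizer ({x} : Set G))).map
        (Subgroup.centralizer ({x} : Set G)).subtype : Subgroup G) : Set G) := by
      rw [Subgroup.mem_normalizer_iff]
      intro d
      constructor
      · rintro ⟨d', hd', rfl⟩
        exact ⟨⟨h, hh.1⟩ * d' * (⟨h, hh.1⟩ : ↥(Subgroup.centralizer ({x} : Set G)))⁻¹,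
          Subgroup.Normal.conj_mem inferInstance d' hd' _, rfl⟩
      · rintro ⟨d', hd', hdd⟩
        refine ⟨(⟨h, hh.1⟩ : ↥(Subgroup.centralizer ({x} : Set G)))⁻¹ * d' *
          (⟨h, hh.1⟩ : ↥(Subgroup.centralizer ({x} : Set G)))⁻¹⁻¹,
          Subgroup.Normal.conj_mem inferInstance d' hd' _, ?_⟩
        have h2 : ((Subgroup.centralizer ({x} : Set G)).subtype d' : G) = h * d * h⁻¹ := hdd
        simp only [Subgroup.subtype_apply, Subgroup.coe_mul, Subgroup.coe_inv] at h2 ⊢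
        rw [h2]; group
    have h2 := Subgroup.le_normalizer (H := Subgroup.centralizer ({y} : Set G)) hh.2
    rw [Subgroup.mem_normalizer_iff] at h1 h2 ⊢
    intro d
    rw [Subgroup.mem_inf, Subgroup.mem_inf, h1 d, h2 d]
  · intro h hh
    exact Subgroup.mem_centralizer_singleton_iff.mp hh.1
  · -- surjectivity onto the centralizer of the image of `x`
    intro q hq
    obtain ⟨c, rfl⟩ := QuotientGroup.mk'_surjective
      (Cfsg.pPrimeCore 2 ↥(Subgroup.centralizer ({y} : Set G))) q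
    have hqn : QuotientGroup.mk' (Cfsg.pPrimeCore 2 ↥(Subgroup.centralizer ({y} : Set G))) c ∈
        Subgroup.normalizer (((Subgroup.zpowers (⟨x, Subgroup.mem_centralizer_singleton_iff.mpr hxy⟩ :
          ↥(Subgroup.centralizer ({y} : Set G)))).map
          (QuotientGroup.mk' (Cfsg.pPrimeCore 2 ↥(Subgroup.centralizer ({y} : Set G)))) : Subgroup _) : Set _) := by
      apply Subgroup.centralizer_le_normalizer
      rw [Subgroup.mem_centralizer_iff]
      rintro _ ⟨v, hv, rfl⟩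
      obtain ⟨k, rfl⟩ := Subgroup.mem_zpowers_iff.mp hv
      rw [map_zpow]
      have h1 := Subgroup.mem_centralizer_singleton_iff.mp hq
      exact ((Commute.zpow_right (show Commute _ _ from h1) k).eq).symm
    rw [← Cfsg.Agent.Lib.helper27.map_normalizer_eq_of_coprime 2
      (Cfsg.pPrimeCore 2 ↥(Subgroup.centralizer ({y} : Set G)))
      (Cfsg.Agent.Lib.helper27.pPrimeCore_coprime 2) _
      (IsPGroup.of_card (n := 1) (by
        rw [Nat.card_zpowers, hxco, pow_one]))] at hqn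
    obtain ⟨c', hc', hcc⟩ := hqn
    have h1 : c' * (⟨x, Subgroup.mem_centralizer_singleton_iff.mpr hxy⟩ :
        ↥(Subgroup.centralizer ({y} : Set G))) * c'⁻¹ ∈
        Subgroup.zpowers (⟨x, Subgroup.mem_centralizer_singleton_iff.mpr hxy⟩ :
          ↥(Subgroup.centralizer ({y} : Set G))) := by
      have hc'' := Subgroup.mem_normalizer_iff.mp (SetLike.mem_coe.mp hc')
      exact (hc'' _).mp (Subgroup.mem_zpowers _)
    have h2 : c' * (⟨x, Subgroup.mem_centralizer_singleton_iff.mpr hxy⟩ :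
        ↥(Subgroup.centralizer ({y} : Set G))) * c'⁻¹ =
        (⟨x, Subgroup.mem_centralizer_singleton_iff.mpr hxy⟩ :
          ↥(Subgroup.centralizer ({y} : Set G))) := by
      rcases Cfsg.Agent.Lib.helper28.eq_one_or_self_of_mem_zpowers hxc2 h1 with h | h
      · exfalso
        have h3 : (⟨x, Subgroup.mem_centralizer_singleton_iff.mpr hxy⟩ :
            ↥(Subgroup.centralizer ({y} : Set G))) = 1 := by
          have h4 : (⟨x, Subgroup.mem_centralizer_singleton_iff.mpr hxy⟩ :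
            ↥(Subgroup.centralizer ({y} : Set G))) = c'⁻¹ * (c' * (⟨x, Subgroup.mem_centralizer_singleton_iff.mpr hxy⟩ :
            ↥(Subgroup.centralizer ({y} : Set G))) * c'⁻¹) * c' := by group
          rw [h4, h]; group
        exact hx1 (congrArg Subtype.val h3)
      · exact h
    have h3 : (c' : G) * x = x * (c' : G) := by
      have h4 := congrArg Subtype.val h2
      simp only [Subgroup.coe_mul, Subgroup.coe_inv] at h4
      calc (c' : G) * x = ((c' : G) * x * (c' : G)⁻¹) * (c' : G) := by group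
        _ = x * (c' : G) := by rw [h4]
    exact ⟨(c' : G), ⟨Subgroup.mem_centralizer_singleton_iff.mpr h3, c'.2⟩, hcc⟩

end Cfsg.Agent.S1775
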