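import Cfsg.Statements.S1780
-- import your own Cfsg.Agent.* helpers here

set_option autoImplicit false
open Cfsg

namespace Cfsg.Agent.S1780

section
variable {A : Type*} [CommGroup A]

theorem sq_aux (s : MulAut A) (x : A) (hx : x ^ 2 = 1) : (s x * x) ^ 2 = 1 := by
  rw [mul_pow, ← map_pow, hx, map_one, one_mul]

theorem iterate_sq (t : MulAut A) (c : A) (hc : c ^ 2 = 1) (n : ℕ) :
    ((fun x : A => t x * x)^[n] c) ^ 2 = 1 := by
  induction n with
  | zero => simpa using hc
  | succ n ih =>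
    rw [Function.iterate_succ_apply']
    exact sq_aux t _ ih

theorem iterate_two_pow (t : MulAut A) (i : ℕ) : ∀ x : A, x ^ 2 = 1 →
    (fun x : A => t x * x)^[2 ^ i] x = (t ^ (2 ^ i)) x * x := by
  induction i with
  | zero => intro x _; simp
  | succ i ih =>
    intro x hx
    have h2 : 2 ^ (i + 1) = 2 ^ i + 2 ^ i := by ring
    rw [h2, Function.iterate_add_apply, ih x hx, ih _ (sq_aux _ x hx)]
    have h3 : (t ^ (2 ^ i + 2 ^ i)) x = (t ^ (2 ^ i)) ((t ^ (2 ^ i)) x) := by
      rw [pow_add]; rfl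
    rw [h3, map_mul]
    have h4 : ((t ^ (2 ^ i)) x) ^ 2 = 1 := by rw [← map_pow, hx, map_one]
    calc (t ^ 2 ^ i) ((t ^ 2 ^ i) x) * (t ^ 2 ^ i) x * ((t ^ 2 ^ i) x * x)
        = (t ^ 2 ^ i) ((t ^ 2 ^ i) x) * ((t ^ 2 ^ i) x) ^ 2 * x := by rw [pow_two]; simp only [mul_assoc]
      _ = (t ^ 2 ^ i) ((t ^ 2 ^ i) x) * x := by rw [h4, mul_one]

/-- The case of elements of order dividing 2. -/
theorem fix_of_sq_eq_one (t : MulAut A) (ht : ∃ k : ℕ, orderOf t = 2 ^ k)
    (hC : ∀ a : A, t (t a) = a → t a = a) (c : A) (hc : c ^ 2 = 1) : t c = c := by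
  by_contra hne
  obtain ⟨k, hk⟩ := ht
  have htk : t ^ (2 ^ k) = 1 := by rw [← hk]; exact pow_orderOf_eq_one t
  set f : A → A := fun x : A => t x * x with hf
  have hfin : f^[2 ^ k] c = 1 := by
    rw [hf, iterate_two_pow t k c hc, htk]
    simpa [pow_two] using hc
  have hex : ∃ n, f^[n] c = 1 := ⟨2 ^ k, hfin⟩
  classical
  have hm := Nat.find_spec hex
  have hmin : ∀ j, j < Nat.find hex → f^[j] c ≠ 1 := fun j hj => Nat.find_min hex hj
  have hc1 : c ≠ 1 := by
    rintro rfl
    exact hne (map_one t)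
  have hfc : f c ≠ 1 := by
    intro h
    have h1 : t c * c = 1 := h
    have h2 : t c = c⁻¹ := eq_inv_of_mul_eq_one_left h1
    have h3 : c⁻¹ = c := by
      rw [inv_eq_iff_mul_eq_one, ← pow_two]; exact hc
    exact hne (h2.trans h3)
  have hm0 : Nat.find hex ≠ 0 := by
    intro h0
    rw [h0] at hm
    exact hc1 (by simpa using hm)
  have hm1 : Nat.find hex ≠ 1 := by
    intro h1
    rw [h1] at hm
    exact hfc (by simpa using hm)
  obtain ⟨m, hmm⟩ : ∃ m, Nat.find hex = m + 2 := ⟨Nat.find hex - 2, by omega⟩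
  set y := f^[m] c with hy
  have hy2 : y ^ 2 = 1 := iterate_sq t c hc m
  have hfy : f y ≠ 1 := by
    have := hmin (m + 1) (by omega)
    rwa [Function.iterate_succ_apply'] at this
  have hffy : f (f y) = 1 := by
    rw [hmm] at hm
    rwa [Function.iterate_succ_apply', Function.iterate_succ_apply'] at hm
  have hty2 : (t y) ^ 2 = 1 := by rw [← map_pow, hy2, map_one]
  have h5 : t (t y) * y = 1 := by
    have h6 : f (f y) = t (t y) * (t y) ^ 2 * y := by
      simp only [hf, map_mul, pow_two, mul_assoc]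
    rw [h6, hty2, mul_one] at hffy
    exact hffy
  have h7 : t (t y) = y := by
    have h8 : t (t y) = y⁻¹ := eq_inv_of_mul_eq_one_left h5
    have h9 : y⁻¹ = y := by
      rw [inv_eq_iff_mul_eq_one, ← pow_two]; exact hy2
    exact h8.trans h9
  have h10 : t y = y := hC y h7
  apply hfy
  show t y * y = 1
  rw [h10, ← pow_two]; exact hy2

theorem fix_of_pow (t : MulAut A) (ht : ∃ k : ℕ, orderOf t = 2 ^ k)
    (hC : ∀ a : A, t (t a) = a → t a = a) (n : ℕ) : ∀ a : A, a ^ (2 ^ n) = 1 → t a = a := by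
  induction n with
  | zero =>
    intro a ha
    have : a = 1 := by simpa using ha
    rw [this, map_one]
  | succ n ih =>
    intro a ha
    have h1 : (a ^ 2) ^ (2 ^ n) = 1 := by
      rw [← pow_mul, ← pow_succ']; exact ha
    have h2 : t (a ^ 2) = a ^ 2 := ih _ h1
    set c := t a * a⁻¹ with hc
    have hc2 : c ^ 2 = 1 := by
      rw [hc, mul_pow, ← map_pow, h2, inv_pow, mul_inv_cancel]
    have htc : t c = c := fix_of_sq_eq_one t ht hC c hc2
    have hta : t a = c * a := by rw [hc]; simp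
    have h3 : t (t a) = a := by
      rw [hta, map_mul, htc, hta, ← mul_assoc, ← pow_two, hc2, one_mul]
    exact hC a h3

end

/-- Let A be a finite abelian 2-group and t an automorphism of A whose order is a power of 2. If every element of A fixed by t² is fixed by t, then t fixes every element of A. -/
theorem result {A : Type*} [CommGroup A] [Finite A]
    (hA : IsPGroup 2 A) (t : MulAut A) (ht : ∃ k : ℕ, orderOf t = 2 ^ k) (hC : ∀ a : A, t (t a) = a → t a = a) :
    ∀ a : A, t a = a := by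
  intro a
  obtain ⟨n, hn⟩ := hA a
  exact fix_of_pow t ht hC n a hn

end Cfsg.Agent.S1780
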