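import Cfsg.Statements.S1781
-- import your own Cfsg.Agent.* helpers here
import Cfsg.Agent.S1757
import Cfsg.Agent.S1780
import Cfsg.Agent.Lib.helper53.Conj

set_option autoImplicit false
open Cfsg

namespace Cfsg.Agent.S1781

open Cfsg.Agent.Lib.helper53

/-- In a group with a TI-subgroup `A`: if `x ≠ 1` lies in `A` and commutes with `b`, then `b` normalizes `A`. -/
theorem mem_normalizer_of_commute {G : Type*} [Group G] (A : Subgroup G)
    (hti : ∀ h : G, A.map (MulAut.conj h).toMonoidHom = A ∨ A.map (MulAut.conj h).toMonoidHom ⊓ A = ⊥)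
    (x b : G) (hx : x ∈ A) (hx1 : x ≠ 1) (hcomm : b * x = x * b) :
    b ∈ Subgroup.normalizer (A : Set G) := by
  apply mem_normalizer_of_conj_eq_self
  rcases hti b with h | h
  · exact h
  · exfalso
    have hmem : x ∈ A.map (MulAut.conj b).toMonoidHom ⊓ A := by
      refine Subgroup.mem_inf.mpr ⟨?_, hx⟩
      rw [mem_conj_iff]
      have : b⁻¹ * x * b = x := by
        rw [mul_assoc, ← hcomm, ← mul_assoc, inv_mul_cancel, one_mul]
      rw [this]; exact hx
    rw [h] at hmem
    exact hx1 (Subgroup.mem_bot.mp hmem)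

open scoped IsMulCommutative in
/-- If `a ∈ A` normalizes the abelian 2-group `B`, `a ^ 2 ≠ 1`, `A` is a TI-subgroup and `A ⊓ B = ⊥`,
then `a` centralizes `B`. -/
theorem centralizes_of_sq_ne_one {G : Type*} [Group G] [Finite G] (A B : Subgroup G)
    (hA2 : IsPGroup 2 ↥A) (hB2 : IsPGroup 2 ↥B) (hBa : IsMulCommutative ↥B)
    (hti : ∀ h : G, A.map (MulAut.conj h).toMonoidHom = A ∨ A.map (MulAut.conj h).toMonoidHom ⊓ A = ⊥)
    (hAB : A ⊓ B = ⊥) (a : G) (ha : a ∈ A) (haN : a ∈ Subgroup.normalizer (B : Set G)) (ha2 : a ^ 2 ≠ 1) :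
    ∀ b ∈ B, a * b * a⁻¹ = b := by
  let α : MulAut ↥B := B.normalizerMonoidHom ⟨a, haN⟩
  have hα : ∀ b : ↥B, ((α b : ↥B) : G) = a * b * a⁻¹ := fun b => rfl
  obtain ⟨k, hk⟩ := (IsPGroup.iff_orderOf.mp hA2) ⟨a, ha⟩
  have hk' : orderOf a = 2 ^ k := by
    rw [← hk]; exact (Subgroup.orderOf_mk a ha).symm
  have hpow : α ^ (2 ^ k) = 1 := by
    show (B.normalizerMonoidHom ⟨a, haN⟩) ^ (2 ^ k) = 1
    rw [← map_pow]
    have : (⟨a, haN⟩ : ↥(Subgroup.normalizer (B : Set G))) ^ (2 ^ k) = 1 := by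
      apply Subtype.ext
      show a ^ (2 ^ k) = 1
      rw [← hk']; exact pow_orderOf_eq_one a
    rw [this, map_one]
  have ht : ∃ m : ℕ, orderOf α = 2 ^ m := by
    have hdvd : orderOf α ∣ 2 ^ k := orderOf_dvd_of_pow_eq_one hpow
    obtain ⟨m, -, hm⟩ := (Nat.dvd_prime_pow Nat.prime_two).mp hdvd
    exact ⟨m, hm⟩
  have hC : ∀ b : ↥B, α (α b) = b → α b = b := by
    intro b hb
    have h1 : a * (a * (b : G) * a⁻¹) * a⁻¹ = (b : G) := by
      have := congrArg Subtype.val hb
      rwa [hα, hα] at this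
    have h2 : (b : G) * a ^ 2 = a ^ 2 * (b : G) := by
      have h3 : a ^ 2 * (b : G) = (a * (a * (b : G) * a⁻¹) * a⁻¹) * a ^ 2 := by
        rw [pow_two]; simp [mul_assoc]
      rw [h3, h1]
    have hbN : (b : G) ∈ Subgroup.normalizer (A : Set G) :=
      mem_normalizer_of_commute A hti (a ^ 2) b (A.pow_mem ha 2) ha2 h2
    have h4 : a * (b : G) * a⁻¹ * (b : G)⁻¹ ∈ A ⊓ B := by
      refine Subgroup.mem_inf.mpr ⟨?_, ?_⟩
      · have h5 : (b : G) * a⁻¹ * (b : G)⁻¹ ∈ A :=
          (Subgroup.mem_normalizer_iff.mp hbN a⁻¹).mp (A.inv_mem ha)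
        have h6 : a * (b : G) * a⁻¹ * (b : G)⁻¹ = a * ((b : G) * a⁻¹ * (b : G)⁻¹) := by group
        rw [h6]; exact A.mul_mem ha h5
      · have h5 : a * (b : G) * a⁻¹ ∈ B := (Subgroup.mem_normalizer_iff.mp haN b).mp b.2
        exact B.mul_mem h5 (B.inv_mem b.2)
    rw [hAB] at h4
    have h7 : a * (b : G) * a⁻¹ * (b : G)⁻¹ = 1 := Subgroup.mem_bot.mp h4
    apply Subtype.ext
    rw [hα]
    exact mul_inv_eq_one.mp h7
  have hfix := Cfsg.Agent.S1780.result hB2 α ht hC
  intro b hb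
  have := congrArg Subtype.val (hfix ⟨b, hb⟩)
  rwa [hα] at this

/-- Let A be an abelian 2-subgroup of the finite group G such that every conjugate of A equals A or meets A trivially, and let g ∈ G with g A g⁻¹ ≠ A. Then either the subgroup of those elements of A that normalize g A g⁻¹ is an elementary abelian 2-group, or A and g A g⁻¹ commute elementwise. -/
theorem result {G : Type*} [Group G] [Finite G] (A : Subgroup G)
    (hA2 : IsPGroup 2 ↥A) (hAa : IsMulCommutative ↥A)
    (hti : ∀ h : G, A.map (MulAut.conj h).toMonoidHom = A ∨ A.map (MulAut.conj h).toMonoidHom ⊓ A = ⊥)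
    (g : G) (hg : A.map (MulAut.conj g).toMonoidHom ≠ A) :
    Cfsg.IsElementaryAbelian 2 (A ⊓ Subgroup.normalizer ((A.map (MulAut.conj g).toMonoidHom : Subgroup G) : Set G)) ∨
      ⁅A, A.map (MulAut.conj g).toMonoidHom⁆ = ⊥ := by
  set B := A.map (MulAut.conj g).toMonoidHom with hBdef
  have hBA : B ⊓ A = ⊥ := (hti g).resolve_left hg
  have hAB : A ⊓ B = ⊥ := by rw [inf_comm]; exact hBA
  by_cases hsq : ∀ a ∈ A ⊓ Subgroup.normalizer (B : Set G), a ^ 2 = 1
  · left
    refine ⟨⟨⟨fun x y => ?_⟩⟩, hsq⟩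
    have := hAa.is_comm.comm ⟨x, x.2.1⟩ ⟨y, y.2.1⟩
    apply Subtype.ext
    show (x : G) * (y : G) = (y : G) * (x : G)
    exact congrArg Subtype.val this
  · right
    push Not at hsq
    obtain ⟨a, ⟨ha, haN⟩, ha2⟩ := hsq
    have hB2 : IsPGroup 2 ↥B := hA2.map _
    have hBa : IsMulCommutative ↥B := Subgroup.map_isMulCommutative A _
    have hcent := centralizes_of_sq_ne_one A B hA2 hB2 hBa hti hAB a ha haN ha2
    have ha1 : a ≠ 1 := by
      rintro rfl
      exact ha2 (one_pow 2)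
    have hBN : B ≤ Subgroup.normalizer (A : Set G) := by
      intro b hb
      apply mem_normalizer_of_commute A hti a b ha ha1
      have h1 := hcent b hb
      have h2 : a * b = (a * b * a⁻¹) * a := by group
      rw [h2, h1]
    have hle : Nat.card ↥A ≤ Nat.card ↥B := by
      rw [hBdef, Subgroup.card_map_of_injective (MulAut.conj g).injective]
    have hBti : ∀ x : G, x ∈ A → B.map (MulAut.conj x).toMonoidHom = B ∨
        B.map (MulAut.conj x).toMonoidHom ⊓ B = ⊥ := by
      intro x _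
      have hxg : B.map (MulAut.conj x).toMonoidHom =
          (A.map (MulAut.conj (g⁻¹ * x * g)).toMonoidHom).map (MulAut.conj g).toMonoidHom := by
        rw [hBdef, conj_conj, conj_conj]
        congr 3
        group
      rcases hti (g⁻¹ * x * g) with h | h
      · left
        rw [hxg, h]
      · right
        rw [hxg, hBdef, ← Subgroup.map_inf _ _ _ (MulAut.conj g).injective, h, Subgroup.map_bot]
    exact Cfsg.Agent.S1757.core A B hBti hle hAB hBN

end Cfsg.Agent.S1781
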