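import Cfsg.Statements.S1782
-- import your own Cfsg.Agent.* helpers here
import Cfsg.Agent.S1757
import Cfsg.Agent.S1781
import Cfsg.Agent.Lib.helper53.Conj
import Cfsg.Agent.Lib.helper3.PGroupFrattini
import Cfsg.Agent.Lib.helper36.Nilp

set_option autoImplicit false
open Cfsg

namespace Cfsg.Agent.S1782

open Cfsg.Agent.Lib.helper53 Cfsg.Agent.Lib.helper36
open scoped commutatorElement

section
variable {S : Type*} [Group S] [Finite S]

/-- The hypotheses of the statement, bundled. -/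
def Hyp (Δ : Set (Subgroup S)) : Prop :=
  IsPGroup 2 S ∧ (∀ s : S, ∀ R ∈ Δ, R.map (MulAut.conj s).toMonoidHom ∈ Δ) ∧
    (∀ R ∈ Δ, frattini ↥R ≠ ⊥) ∧ (∀ R ∈ Δ, ∀ T ∈ Δ, Nat.card ↥R = Nat.card ↥T) ∧
    (∀ R ∈ Δ, ∀ T ∈ Δ, R = T ∨ R ⊓ T = ⊥)

theorem ti_of_mem {Δ : Set (Subgroup S)} (h : Hyp Δ) {X : Subgroup S} (hX : X ∈ Δ) (g : S) :
    X.map (MulAut.conj g).toMonoidHom = X ∨ X.map (MulAut.conj g).toMonoidHom ⊓ X = ⊥ := by
  obtain ⟨-, hinv, -, -, hti⟩ := h
  exact hti _ (hinv g X hX) X hX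

/-- If `g` commutes with a non-identity element `y` of `X ∈ Δ`, then `g` normalizes `X`. -/
theorem norm_of_commute {Δ : Set (Subgroup S)} (h : Hyp Δ) {X : Subgroup S} (hX : X ∈ Δ) (y g : S)
    (hy : y ∈ X) (hy1 : y ≠ 1) (hcomm : g * y = y * g) : g ∈ Subgroup.normalizer (X : Set S) :=
  Cfsg.Agent.S1781.mem_normalizer_of_commute X (ti_of_mem h hX) y g hy hy1 hcomm

/-- Members of `Δ` one of which normalizes the other commute. -/
theorem comm_of_normalizes {Δ : Set (Subgroup S)} (h : Hyp Δ) {R T : Subgroup S} (hR : R ∈ Δ) (hT : T ∈ Δ)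
    (hne : R ≠ T) (hN : T ≤ Subgroup.normalizer (R : Set S)) : ⁅R, T⁆ = ⊥ := by
  have h' := h
  obtain ⟨-, -, -, hord, hti⟩ := h
  exact Cfsg.Agent.S1757.core R T (fun g _ => ti_of_mem h' hT g) (le_of_eq (hord R hR T hT))
    ((hti R hR T hT).resolve_left hne) hN

theorem conj_mem_normalizer {T : Subgroup S} {x t : S}
    (hc : T.map (MulAut.conj x).toMonoidHom = T ∨ ⁅T, T.map (MulAut.conj x).toMonoidHom⁆ = ⊥) (ht : t ∈ T) :
    x * t * x⁻¹ ∈ Subgroup.normalizer (T : Set S) := by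
  rcases hc with h | h
  · have : x * t * x⁻¹ ∈ T := by
      have h1 : x * t * x⁻¹ ∈ T.map (MulAut.conj x).toMonoidHom := conj_mem_conj ht
      rwa [h] at h1
    exact Subgroup.le_normalizer this
  · have h1 : T.map (MulAut.conj x).toMonoidHom ≤ Subgroup.centralizer (T : Set S) := by
      rw [Subgroup.commutator_comm] at h
      exact Subgroup.commutator_eq_bot_iff_le_centralizer.mp h
    exact Subgroup.centralizer_le_normalizer _ (h1 (conj_mem_conj ht))

/-- Conjugates of a proper member of `Δ` inside `H` are equal or commute, given the statement for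
smaller subgroups. -/
theorem conj_cases {Δ : Set (Subgroup S)} (h : Hyp Δ) (H : Subgroup S)
    (IH : ∀ H' : Subgroup S, Nat.card H' < Nat.card H → ∀ R ∈ Δ, ∀ T ∈ Δ, R ≤ H' → T ≤ H' → R ≠ T → ⁅R, T⁆ = ⊥)
    {T : Subgroup S} (hT : T ∈ Δ) (hTH : T ≤ H) (hTne : T ≠ H) :
    ∀ x ∈ H, T.map (MulAut.conj x).toMonoidHom = T ∨ ⁅T, T.map (MulAut.conj x).toMonoidHom⁆ = ⊥ := by
  obtain ⟨hS, hinv, -, -, -⟩ := h
  intro x hx
  have hH2 : IsPGroup 2 ↥H := hS.to_subgroup H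
  have hne : T.subgroupOf H ≠ ⊤ := by
    intro h
    rw [Subgroup.subgroupOf_eq_top] at h
    exact hTne (le_antisymm hTH h)
  obtain ⟨M, hM, hTM⟩ := (eq_top_or_exists_le_coatom (T.subgroupOf H)).resolve_left hne
  have : Fact (Nat.Prime 2) := ⟨Nat.prime_two⟩
  have hMn : M.Normal := (Cfsg.Agent.Lib.helper3.coatom_normal_index hH2 hM).1
  have hcard : Nat.card ↥(M.map H.subtype) < Nat.card ↥H := by
    rw [Subgroup.card_map_of_injective H.subtype_injective]
    exact lt_of_le_of_ne (Subgroup.card_le_card_group M)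
      (fun h => hM.1 ((Subgroup.card_eq_iff_eq_top M).mp h))
  have hTM' : T ≤ M.map H.subtype := by
    intro t ht
    exact ⟨⟨t, hTH ht⟩, hTM (Subgroup.mem_subgroupOf.mpr ht), rfl⟩
  have hTxM' : T.map (MulAut.conj x).toMonoidHom ≤ M.map H.subtype := by
    rw [conj_le_iff]
    intro t ht
    have h1 : (⟨t, hTH ht⟩ : ↥H) ∈ M := hTM (Subgroup.mem_subgroupOf.mpr ht)
    have h2 := hMn.conj_mem _ h1 ⟨x, hx⟩
    exact ⟨_, h2, rfl⟩
  by_cases heq : T.map (MulAut.conj x).toMonoidHom = T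
  · left; exact heq
  · right
    exact IH _ hcard T hT _ (hinv x T hT) hTM' hTxM' (Ne.symm heq)

/-- In a non-commuting pair, `N_T(R)` is trivial. -/
theorem key4 {Δ : Set (Subgroup S)} (h : Hyp Δ) {R T : Subgroup S} (hR : R ∈ Δ) (hT : T ∈ Δ) (hne : R ≠ T)
    (hconjT : ∀ x ∈ R, T.map (MulAut.conj x).toMonoidHom = T ∨ ⁅T, T.map (MulAut.conj x).toMonoidHom⁆ = ⊥)
    (hRT : ¬ R ≤ Subgroup.normalizer (T : Set S)) (hTR : ¬ T ≤ Subgroup.normalizer (R : Set S)) :
    T ⊓ Subgroup.normalizer (R : Set S) = ⊥ := by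
  have h' := h
  obtain ⟨hS, hinv, -, -, hti⟩ := h
  have hRTbot : R ⊓ T = ⊥ := (hti R hR T hT).resolve_left hne
  have h4a : ∀ t ∈ T, t ∈ Subgroup.normalizer (R : Set S) → t ≠ 1 → ∀ t' ∈ T, t' * t = t * t' →
      t' ∈ Subgroup.normalizer (R : Set S) := by
    intro t ht htN ht1 t' ht' hcomm
    have hex : ∃ u ∈ R, ⁅u, t⁆ ≠ 1 := by
      by_contra hcon
      push Not at hcon
      apply hRT
      intro u hu
      have h1 : ⁅u, t⁆ = 1 := hcon u hu
      have h2 : u * t = t * u := by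
        rw [commutatorElement_def] at h1
        have : u * t = (u * t * u⁻¹ * t⁻¹) * (t * u) := by group
        rw [this, h1, one_mul]
      exact norm_of_commute h' hT t u ht ht1 h2
    obtain ⟨u, hu, hut⟩ := hex
    have : Fact (Nat.Prime 2) := ⟨Nat.prime_two⟩
    have : Group.IsNilpotent S := hS.isNilpotent
    obtain ⟨n, hn1, hn2⟩ := exists_comm_comm_eq_one t u hut
    have hiter : ∀ k, (fun v : S => ⁅v, t⁆)^[k] u ∈ R := by
      intro k
      induction k with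
      | zero => simpa using hu
      | succ k ih =>
        rw [Function.iterate_succ_apply']
        have h3 : t * ((fun v : S => ⁅v, t⁆)^[k] u)⁻¹ * t⁻¹ ∈ R :=
          (Subgroup.mem_normalizer_iff.mp htN _).mp (R.inv_mem ih)
        have h4 : ⁅(fun v : S => ⁅v, t⁆)^[k] u, t⁆ =
            (fun v : S => ⁅v, t⁆)^[k] u * (t * ((fun v : S => ⁅v, t⁆)^[k] u)⁻¹ * t⁻¹) := by
          rw [commutatorElement_def]; group
        rw [h4]; exact R.mul_mem ih h3
    have hxR := hiter n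
    generalize (fun v : S => ⁅v, t⁆)^[n] u = x at hn1 hn2 hxR
    have hyR : ⁅x, t⁆ ∈ R := by
      have h3 : t * x⁻¹ * t⁻¹ ∈ R := (Subgroup.mem_normalizer_iff.mp htN _).mp (R.inv_mem hxR)
      have h4 : ⁅x, t⁆ = x * (t * x⁻¹ * t⁻¹) := by rw [commutatorElement_def]; group
      rw [h4]; exact R.mul_mem hxR h3
    have hxN : x ∉ Subgroup.normalizer (T : Set S) := by
      intro hxN
      have h3 : x * t * x⁻¹ ∈ T := (Subgroup.mem_normalizer_iff.mp hxN t).mp ht
      have h4 : ⁅x, t⁆ ∈ R ⊓ T := by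
        refine Subgroup.mem_inf.mpr ⟨hyR, ?_⟩
        rw [commutatorElement_def]; exact T.mul_mem h3 (T.inv_mem ht)
      rw [hRTbot] at h4
      exact hn1 (Subgroup.mem_bot.mp h4)
    have hTx : ⁅T, T.map (MulAut.conj x).toMonoidHom⁆ = ⊥ := by
      rcases hconjT x hxR with h | h
      · exact absurd (mem_normalizer_of_conj_eq_self h) hxN
      · exact h
    have h5 : (x * t * x⁻¹) * t' = t' * (x * t * x⁻¹) := by
      have h6 := Subgroup.commutator_eq_bot_iff_le_centralizer.mp hTx ht'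
      exact Subgroup.mem_centralizer_iff.mp h6 _ (conj_mem_conj ht)
    have h7 : t' * ⁅x, t⁆ = ⁅x, t⁆ * t' := by
      have hc1 : Commute t' (x * t * x⁻¹) := h5.symm
      have hc2 : Commute t' t⁻¹ := (show Commute t' t from hcomm).inv_right
      rw [commutatorElement_def]
      exact (hc1.mul_right hc2).eq
    exact norm_of_commute h' hR ⁅x, t⁆ t' hyR hn1 h7
  by_contra hne'
  obtain ⟨t, ht, ht1⟩ := (Subgroup.bot_or_exists_ne_one _).resolve_left hne'
  obtain ⟨htT, htN⟩ := Subgroup.mem_inf.mp ht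
  have : Fact (Nat.Prime 2) := ⟨Nat.prime_two⟩
  have hT2 : IsPGroup 2 ↥T := hS.to_subgroup T
  have : Nontrivial ↥T := ⟨⟨⟨t, htT⟩, 1, fun h => ht1 (congrArg Subtype.val h)⟩⟩
  have := hT2.center_nontrivial
  obtain ⟨⟨z, hz⟩, hz1⟩ := exists_ne (1 : ↥(Subgroup.center ↥T))
  have hzc : ∀ t' ∈ T, t' * (z : S) = (z : S) * t' := by
    intro t' ht'
    have := Subgroup.mem_center_iff.mp hz ⟨t', ht'⟩
    exact congrArg Subtype.val this
  have hz1' : (z : S) ≠ 1 := by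
    intro h
    apply hz1
    apply Subtype.ext
    apply Subtype.ext
    exact h
  have hzN : (z : S) ∈ Subgroup.normalizer (R : Set S) :=
    h4a t htT htN ht1 z z.2 (hzc t htT).symm
  apply hTR
  intro t' ht'
  exact h4a z z.2 hzN hz1' t' ht' (hzc t' ht')

/-- If `N_T(R)` is trivial and conjugates of `R`, of `T` are equal or commute, every element of `T`
squares to `1`. -/
theorem sq_eq_one {Δ : Set (Subgroup S)} (h : Hyp Δ) (H : Subgroup S) {R T : Subgroup S} (hR : R ∈ Δ) (hT : T ∈ Δ)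
    (hRH : R ≤ H) (hTH : T ≤ H)
    (hconjR : ∀ x ∈ H, R.map (MulAut.conj x).toMonoidHom = R ∨ ⁅R, R.map (MulAut.conj x).toMonoidHom⁆ = ⊥)
    (hconjT : ∀ x ∈ H, T.map (MulAut.conj x).toMonoidHom = T ∨ ⁅T, T.map (MulAut.conj x).toMonoidHom⁆ = ⊥)
    (hT0 : T ⊓ Subgroup.normalizer (R : Set S) = ⊥) : ∀ t ∈ T, t ^ 2 = 1 := by
  have h' := h
  obtain ⟨hS, hinv, hΦ, -, hti⟩ := h
  intro t ht
  have : Fact (Nat.Prime 2) := ⟨Nat.prime_two⟩
  have hR2 : IsPGroup 2 ↥R := hS.to_subgroup R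
  have hRne : R ≠ ⊥ := by
    rintro rfl
    exact hΦ ⊥ hR (Subsingleton.elim _ _)
  obtain ⟨r, hr, hr2⟩ := exists_orderOf_eq_prime_of_ne_bot hR2 hRne
  have hr1 : r ≠ 1 := by
    rintro rfl
    simp at hr2
  have hrr : r * r = 1 := by rw [← pow_two, ← hr2]; exact pow_orderOf_eq_one r
  have hrinv : r⁻¹ = r := inv_eq_of_mul_eq_one_left hrr
  have htH : t ∈ H := hTH ht
  have hrH : r ∈ H := hRH hr
  -- (i) `t r t⁻¹` commutes with `r`
  have hi : Commute (t * r * t⁻¹) r := by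
    rcases hconjR t htH with h | h
    · have htN : t ∈ Subgroup.normalizer (R : Set S) := mem_normalizer_of_conj_eq_self h
      have : t ∈ T ⊓ Subgroup.normalizer (R : Set S) := Subgroup.mem_inf.mpr ⟨ht, htN⟩
      rw [hT0] at this
      have ht1 : t = 1 := Subgroup.mem_bot.mp this
      rw [ht1]; simp
    · have h6 := Subgroup.commutator_eq_bot_iff_le_centralizer.mp h hr
      exact Subgroup.mem_centralizer_iff.mp h6 _ (conj_mem_conj hr)
  -- (ii) `⁅⁅r, t⁆, t⁆ = 1`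
  have hcNT : ⁅r, t⁆ ∈ Subgroup.normalizer (T : Set S) := by
    have h1 : r * t * r⁻¹ ∈ Subgroup.normalizer (T : Set S) := conj_mem_normalizer (hconjT r hrH) ht
    have h2 : t⁻¹ ∈ Subgroup.normalizer (T : Set S) := Subgroup.le_normalizer (T.inv_mem ht)
    rw [commutatorElement_def]; exact Subgroup.mul_mem _ h1 h2
  have hexp : ⁅⁅r, t⁆, t⁆ = r * (t * r⁻¹ * t⁻¹) * ((t * t) * r * (t * t)⁻¹) * (t * r⁻¹ * t⁻¹) := by
    rw [commutatorElement_def, commutatorElement_def]; group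
  have hd : ⁅⁅r, t⁆, t⁆ ∈ T ⊓ Subgroup.normalizer (R : Set S) := by
    refine Subgroup.mem_inf.mpr ⟨?_, ?_⟩
    · have h1 : ⁅r, t⁆ * t * ⁅r, t⁆⁻¹ ∈ T := (Subgroup.mem_normalizer_iff.mp hcNT t).mp ht
      rw [commutatorElement_def ⁅r, t⁆ t]; exact T.mul_mem h1 (T.inv_mem ht)
    · have h1 : r ∈ Subgroup.normalizer (R : Set S) := Subgroup.le_normalizer hr
      have h2 : t * r⁻¹ * t⁻¹ ∈ Subgroup.normalizer (R : Set S) :=
        conj_mem_normalizer (hconjR t htH) (R.inv_mem hr)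
      have h3 : (t * t) * r * (t * t)⁻¹ ∈ Subgroup.normalizer (R : Set S) :=
        conj_mem_normalizer (hconjR (t * t) (H.mul_mem htH htH)) hr
      rw [hexp]
      exact Subgroup.mul_mem _ (Subgroup.mul_mem _ (Subgroup.mul_mem _ h1 h2) h3) h2
  rw [hT0] at hd
  have hd1 : ⁅⁅r, t⁆, t⁆ = 1 := Subgroup.mem_bot.mp hd
  rw [hexp] at hd1
  -- algebra: `a = t r⁻¹ t⁻¹` is an involution commuting with `r`, so `t² r t⁻² = r`
  set a := t * r⁻¹ * t⁻¹ with ha
  set b := (t * t) * r * (t * t)⁻¹ with hb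
  have haa : a * a = 1 := by
    have : a * a = t * (r⁻¹ * r⁻¹) * t⁻¹ := by rw [ha]; group
    rw [this, hrinv, hrr]; group
  have hainv : a⁻¹ = a := inv_eq_of_mul_eq_one_left haa
  have har : Commute a r := by
    have : a = (t * r * t⁻¹)⁻¹ := by rw [ha]; group
    rw [this]; exact hi.inv_left
  have hbr : b = r := by
    have h1 : b = (r * a)⁻¹ * (r * a * b * a) * a⁻¹ := by group
    rw [h1, hd1, mul_one, mul_inv_rev, hainv, hrinv, har.eq, mul_assoc, haa, mul_one]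
  have hcomm : (t * t) * r = r * (t * t) := by
    have h1 : (t * t) * r = b * (t * t) := by rw [hb]; group
    rw [h1, hbr]
  have hN : t * t ∈ Subgroup.normalizer (R : Set S) := norm_of_commute h' hR r (t * t) hr hr1 hcomm
  have : t * t ∈ T ⊓ Subgroup.normalizer (R : Set S) := Subgroup.mem_inf.mpr ⟨T.mul_mem ht ht, hN⟩
  rw [hT0] at this
  rw [pow_two]
  exact Subgroup.mem_bot.mp this

theorem step {Δ : Set (Subgroup S)} (h : Hyp Δ) (H : Subgroup S)
    (IH : ∀ H' : Subgroup S, Nat.card H' < Nat.card H → ∀ R ∈ Δ, ∀ T ∈ Δ, R ≤ H' → T ≤ H' → R ≠ T → ⁅R, T⁆ = ⊥)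
    {R T : Subgroup S} (hR : R ∈ Δ) (hT : T ∈ Δ) (hRH : R ≤ H) (hTH : T ≤ H) (hne : R ≠ T) : ⁅R, T⁆ = ⊥ := by
  by_contra hcomm
  have hTR : ¬ T ≤ Subgroup.normalizer (R : Set S) := fun hN => hcomm (comm_of_normalizes h hR hT hne hN)
  have hRT : ¬ R ≤ Subgroup.normalizer (T : Set S) := fun hN => hcomm (by
    rw [Subgroup.commutator_comm]; exact comm_of_normalizes h hT hR (Ne.symm hne) hN)
  have hRneH : R ≠ H := by
    rintro rfl
    exact hTR (hTH.trans Subgroup.le_normalizer)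
  have hTneH : T ≠ H := by
    rintro rfl
    exact hRT (hRH.trans Subgroup.le_normalizer)
  have hconjR := conj_cases h H IH hR hRH hRneH
  have hconjT := conj_cases h H IH hT hTH hTneH
  have hT0 := key4 h hR hT hne (fun x hx => hconjT x (hRH hx)) hRT hTR
  have hsq := sq_eq_one h H hR hT hRH hTH hconjR hconjT hT0
  obtain ⟨-, -, hΦ, -, -⟩ := h
  apply hΦ T hT
  apply frattini_eq_bot_of_sq
  intro g
  apply Subtype.ext
  exact hsq g g.2

theorem main {Δ : Set (Subgroup S)} (h : Hyp Δ) : ∀ n : ℕ, ∀ H : Subgroup S, Nat.card H = n →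
    ∀ R ∈ Δ, ∀ T ∈ Δ, R ≤ H → T ≤ H → R ≠ T → ⁅R, T⁆ = ⊥ := by
  intro n
  induction n using Nat.strong_induction_on with
  | _ n ih =>
    intro H hn R hR T hT hRH hTH hne
    exact step h H (fun H' hlt R' hR' T' hT' h1 h2 h3 =>
      ih (Nat.card H') (hn ▸ hlt) H' rfl R' hR' T' hT' h1 h2 h3) hR hT hRH hTH hne

end

/-- Let S be a finite 2-group and Δ a set of subgroups of S closed under conjugation by S, all of the same order, each with nontrivial Frattini subgroup, and such that two distinct members of Δ meet trivially. Then any two distinct members of Δ commute elementwise. -/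
theorem result {S : Type*} [Group S] [Finite S] (hS : IsPGroup 2 S)
    (Δ : Set (Subgroup S)) (hinv : ∀ s : S, ∀ R ∈ Δ, R.map (MulAut.conj s).toMonoidHom ∈ Δ)
    (hΦ : ∀ R ∈ Δ, frattini ↥R ≠ ⊥) (hord : ∀ R ∈ Δ, ∀ T ∈ Δ, Nat.card ↥R = Nat.card ↥T)
    (hti : ∀ R ∈ Δ, ∀ T ∈ Δ, R = T ∨ R ⊓ T = ⊥) :
    ∀ R ∈ Δ, ∀ T ∈ Δ, R ≠ T → ⁅R, T⁆ = ⊥ := by
  intro R hR T hT hne
  exact main ⟨hS, hinv, hΦ, hord, hti⟩ (Nat.card (⊤ : Subgroup S)) ⊤ rfl R hR T hT le_top le_top hne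

end Cfsg.Agent.S1782
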