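import Cfsg.Statements.S1783
import Cfsg.Agent.S1782
import Cfsg.Agent.Lib.helper3.PGroupFrattini
import Cfsg.Agent.Lib.helper14.StableW2
import Cfsg.Agent.Lib.helper14.QuadStable
import Cfsg.Agent.Lib.helper27.Radical
import Cfsg.Agent.Lib.helper28.Components
import Cfsg.Agent.Lib.helper30.RankTwo

set_option autoImplicit false
open Cfsg

namespace Cfsg.Agent.S1783

open scoped commutatorElement

/-- internal form of S1782 -/
theorem ti_family_commute {X : Type*} [Group X] [Finite X] (S : Subgroup X) (hS : IsPGroup 2 ↥S)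
    (Δ : Set (Subgroup X)) (hle : ∀ R ∈ Δ, R ≤ S)
    (hinv : ∀ s ∈ S, ∀ R ∈ Δ, R.map (MulAut.conj s).toMonoidHom ∈ Δ)
    (hsq : ∀ R ∈ Δ, ∃ r ∈ R, r ^ 2 ≠ 1)
    (hord : ∀ R ∈ Δ, ∀ T ∈ Δ, Nat.card ↥R = Nat.card ↥T)
    (hti : ∀ R ∈ Δ, ∀ T ∈ Δ, R = T ∨ R ⊓ T = ⊥) :
    ∀ R ∈ Δ, ∀ T ∈ Δ, R ≠ T → ∀ r ∈ R, ∀ t ∈ T, r * t = t * r := by
  haveI : Fact (Nat.Prime 2) := ⟨Nat.prime_two⟩
  intro R hR T hT hne r hr t ht
  have hmapsub : ∀ R ∈ Δ, (R.subgroupOf S).map S.subtype = R := by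
    intro R hR
    rw [Subgroup.map_subgroupOf_eq_of_le (hle R hR)]
  have key := Cfsg.Agent.S1782.result (S := ↥S) hS {R' | R'.map S.subtype ∈ Δ} ?_ ?_ ?_ ?_
    (R.subgroupOf S) ?_ (T.subgroupOf S) ?_ ?_
  · have h1 : ⁅(⟨r, hle R hR hr⟩ : ↥S), (⟨t, hle T hT ht⟩ : ↥S)⁆ ∈
        ⁅R.subgroupOf S, T.subgroupOf S⁆ :=
      Subgroup.commutator_mem_commutator (by simpa [Subgroup.mem_subgroupOf] using hr)
        (by simpa [Subgroup.mem_subgroupOf] using ht)
    rw [key, Subgroup.mem_bot] at h1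
    have h2 := congrArg Subtype.val h1
    simp only [commutatorElement_def, Subgroup.coe_mul, Subgroup.coe_inv, Subgroup.coe_one] at h2
    have e : r * t = r * t * r⁻¹ * t⁻¹ * (t * r) := by group
    rw [e, h2, one_mul]
  · intro s R' hR'
    show (R'.map (MulAut.conj s).toMonoidHom).map S.subtype ∈ Δ
    have : (R'.map (MulAut.conj s).toMonoidHom).map S.subtype =
        (R'.map S.subtype).map (MulAut.conj (s : X)).toMonoidHom := by
      rw [Subgroup.map_map, Subgroup.map_map]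
      congr 1
    rw [this]; exact hinv s s.2 _ hR'
  · intro R' hR' hbot
    obtain ⟨r, hr, hr2⟩ := hsq _ hR'
    obtain ⟨r', hr', rfl⟩ := hr
    have hR'p : IsPGroup 2 ↥R' := hS.to_subgroup R'
    have h1 := Cfsg.Agent.Lib.helper3.pow_prime_mem_frattini hR'p (⟨r', hr'⟩ : ↥R')
    rw [hbot, Subgroup.mem_bot] at h1
    apply hr2
    have h2 := congrArg (fun x : ↥R' => ((x : ↥S) : X)) h1
    simpa using h2
  · intro R' hR' T' hT'
    have h1 := hord _ hR' _ hT'
    rwa [Subgroup.card_map_of_injective S.subtype_injective,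
      Subgroup.card_map_of_injective S.subtype_injective] at h1
  · intro R' hR' T' hT'
    rcases hti _ hR' _ hT' with h | h
    · left; exact Subgroup.map_injective S.subtype_injective h
    · right
      rw [eq_bot_iff]
      intro x hx
      have h1 : (x : X) ∈ R'.map S.subtype ⊓ T'.map S.subtype :=
        ⟨Subgroup.mem_map_of_mem _ hx.1, Subgroup.mem_map_of_mem _ hx.2⟩
      rw [h, Subgroup.mem_bot] at h1
      exact Subgroup.mem_bot.mpr (Subtype.ext h1)
  · show (R.subgroupOf S).map S.subtype ∈ Δ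
    rw [hmapsub R hR]; exact hR
  · show (T.subgroupOf S).map S.subtype ∈ Δ
    rw [hmapsub T hT]; exact hT
  · intro h; apply hne; rw [← hmapsub R hR, ← hmapsub T hT, h]

theorem map_conj_conj {X : Type*} [Group X] (B : Subgroup X) (u v : X) :
    (B.map (MulAut.conj u).toMonoidHom).map (MulAut.conj v).toMonoidHom =
      B.map (MulAut.conj (v * u)).toMonoidHom := by
  rw [Subgroup.map_map]
  congr 1
  ext x
  simp [mul_assoc]

theorem ti_conj {X : Type*} [Group X] (B : Subgroup X)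
    (hti : ∀ h : X, B.map (MulAut.conj h).toMonoidHom = B ∨
      B.map (MulAut.conj h).toMonoidHom ⊓ B = ⊥) (s t : X) :
    B.map (MulAut.conj s).toMonoidHom = B.map (MulAut.conj t).toMonoidHom ∨
      B.map (MulAut.conj s).toMonoidHom ⊓ B.map (MulAut.conj t).toMonoidHom = ⊥ := by
  rcases hti (t⁻¹ * s) with h | h
  · left
    have h1 := congrArg (fun K => K.map (MulAut.conj t).toMonoidHom) h
    simp only [map_conj_conj] at h1
    simpa using h1
  · right
    rw [eq_bot_iff]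
    intro x hx
    obtain ⟨⟨a, ha, rfl⟩, ⟨a', ha', h2⟩⟩ := hx
    have h3 : (MulAut.conj (t⁻¹ * s)) a ∈ B.map (MulAut.conj (t⁻¹ * s)).toMonoidHom ⊓ B := by
      refine ⟨Subgroup.mem_map_of_mem _ ha, ?_⟩
      have h4 : (MulAut.conj (t⁻¹ * s)) a = a' := by
        simp only [MulEquiv.coe_toMonoidHom, MulAut.conj_apply] at h2 ⊢
        have h5 : a' = t⁻¹ * (s * a * s⁻¹) * t := by rw [← h2]; group
        rw [h5]; group
      rw [h4]; exact ha'
    rw [h, Subgroup.mem_bot] at h3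
    have h4 : a = 1 := (map_eq_one_iff _ (MulAut.conj (t⁻¹ * s)).injective).mp h3
    rw [h4]; simp

theorem conj_family_commute {X : Type*} [Group X] [Finite X] (S H : Subgroup X)
    (hS : IsPGroup 2 ↥S) (hSH : S ≤ H)
    (B : Subgroup X) (hBab : ∀ b ∈ B, ∀ b' ∈ B, b * b' = b' * b)
    (hBS : ∀ g ∈ H, B.map (MulAut.conj g).toMonoidHom ≤ S)
    (hsq : ∃ b ∈ B, b ^ 2 ≠ 1)
    (hti : ∀ h : X, B.map (MulAut.conj h).toMonoidHom = B ∨
      B.map (MulAut.conj h).toMonoidHom ⊓ B = ⊥) :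
    ∀ s ∈ H, ∀ t ∈ H, ∀ b ∈ B, ∀ b' ∈ B,
      (s * b * s⁻¹) * (t * b' * t⁻¹) = (t * b' * t⁻¹) * (s * b * s⁻¹) := by
  intro s hs t ht b hb b' hb'
  by_cases heq : B.map (MulAut.conj s).toMonoidHom = B.map (MulAut.conj t).toMonoidHom
  · have h1 : s * b * s⁻¹ ∈ B.map (MulAut.conj t).toMonoidHom := by
      rw [← heq]; exact ⟨b, hb, by simp⟩
    obtain ⟨b'', hb'', h2⟩ := h1
    simp only [MulEquiv.coe_toMonoidHom, MulAut.conj_apply] at h2
    rw [← h2]
    have h3 := hBab b'' hb'' b' hb'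
    calc t * b'' * t⁻¹ * (t * b' * t⁻¹) = t * (b'' * b') * t⁻¹ := by group
      _ = t * (b' * b'') * t⁻¹ := by rw [h3]
      _ = _ := by group
  · obtain ⟨b₀, hb₀, hb₀2⟩ := hsq
    refine ti_family_commute S hS {R | ∃ g ∈ H, R = B.map (MulAut.conj g).toMonoidHom}
      ?_ ?_ ?_ ?_ ?_ (B.map (MulAut.conj s).toMonoidHom) ⟨s, hs, rfl⟩
      (B.map (MulAut.conj t).toMonoidHom) ⟨t, ht, rfl⟩ heq (s * b * s⁻¹) ⟨b, hb, by simp⟩
      (t * b' * t⁻¹) ⟨b', hb', by simp⟩
    · rintro R ⟨g, hg, rfl⟩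
      exact hBS g hg
    · rintro u hu R ⟨g, hg, rfl⟩
      exact ⟨u * g, H.mul_mem (hSH hu) hg, map_conj_conj B g u⟩
    · rintro R ⟨g, hg, rfl⟩
      refine ⟨g * b₀ * g⁻¹, ⟨b₀, hb₀, by simp⟩, ?_⟩
      intro h
      apply hb₀2
      have h1 : (g * b₀ * g⁻¹) ^ 2 = g * b₀ ^ 2 * g⁻¹ := by rw [pow_two, pow_two]; group
      rw [h1] at h
      have h2 : b₀ ^ 2 = g⁻¹ * (g * b₀ ^ 2 * g⁻¹) * g := by group
      rw [h2, h]; group
    · rintro R ⟨g, hg, rfl⟩ T ⟨g', hg', rfl⟩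
      rw [Subgroup.card_map_of_injective (MulAut.conj g).injective,
        Subgroup.card_map_of_injective (MulAut.conj g').injective]
    · rintro R ⟨g, hg, rfl⟩ T ⟨g', hg', rfl⟩
      exact ti_conj B hti g g'

/-- Let X be a finite group whose generalized Fitting subgroup equals its largest normal 2-subgroup Q, and let A be an abelian 2-subgroup of X such that every conjugate of A equals A or meets A trivially. Let B be the subgroup generated by the squares of the elements of A. Then B lies in Q, and if B is not an elementary abelian 2-group then the normal closure of B in X is commutative. -/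
theorem result {X : Type*} [Group X] [Finite X]
    (hX : Cfsg.generalizedFittingSubgroup X = Cfsg.pCore 2 X) (A : Subgroup X) (hA2 : IsPGroup 2 ↥A) (hAa : IsMulCommutative ↥A)
    (hti : ∀ h : X, A.map (MulAut.conj h).toMonoidHom = A ∨ A.map (MulAut.conj h).toMonoidHom ⊓ A = ⊥) :
    Subgroup.closure ((fun a : X => a ^ 2) '' (A : Set X)) ≤ Cfsg.pCore 2 X ∧
      (¬ Cfsg.IsElementaryAbelian 2 (Subgroup.closure ((fun a : X => a ^ 2) '' (A : Set X))) →
        IsMulCommutative ↥(Subgroup.normalClosure ((fun a : X => a ^ 2) '' (A : Set X)))) := by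
  classical
  haveI : Fact (Nat.Prime 2) := ⟨Nat.prime_two⟩
  have hAab : ∀ a ∈ A, ∀ a' ∈ A, a * a' = a' * a := by
    intro a ha a' ha'
    have := hAa.is_comm.comm (⟨a, ha⟩ : ↥A) ⟨a', ha'⟩
    exact congrArg Subtype.val this
  haveI hQn : (Cfsg.pCore 2 X).Normal := Cfsg.Agent.Lib.helper40.pCore_normal' 2 X
  have hQp : IsPGroup 2 ↥(Cfsg.pCore 2 X) := Cfsg.Agent.Lib.helper27.pCore_isPGroup 2
  have hcent : Subgroup.centralizer (Cfsg.pCore 2 X : Set X) ≤ Cfsg.pCore 2 X := by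
    have h1 := Cfsg.Agent.Lib.helper28.centralizer_generalizedFittingSubgroup_le X
    rwa [hX] at h1
  haveI hΦn : ((frattini ↥(Cfsg.pCore 2 X)).map (Cfsg.pCore 2 X).subtype).Normal :=
    ConjAct.normal_of_characteristic_of_normal
  have hKp := Cfsg.Agent.Lib.helper14.isPGroup_sectionKernel (p := 2) (G := X) hcent
  have hKle : Cfsg.sectionKernel (Cfsg.pCore 2 X)
      ((frattini ↥(Cfsg.pCore 2 X)).map (Cfsg.pCore 2 X).subtype) ≤ Cfsg.pCore 2 X :=
    Cfsg.Agent.Lib.helper27.normal_pGroup_le_pCore 2 _ hKp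
  -- part (i)
  have part1 : ∀ a ∈ A, a ^ 2 ∈ Cfsg.pCore 2 X := by
    by_cases hel : ∀ a ∈ A, a ^ 2 = 1
    · intro a ha; rw [hel a ha]; exact Subgroup.one_mem _
    push Not at hel
    have hSp : IsPGroup 2 ↥(Cfsg.pCore 2 X ⊔ A) := IsPGroup.to_sup_of_normal_left hQp hA2
    have hAS : A ≤ Cfsg.pCore 2 X ⊔ A := le_sup_right
    have hQS : Cfsg.pCore 2 X ≤ Cfsg.pCore 2 X ⊔ A := le_sup_left
    have hT := conj_family_commute (Cfsg.pCore 2 X ⊔ A) (Cfsg.pCore 2 X ⊔ A) hSp le_rfl A hAab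
      (by
        rintro g hg _ ⟨a, ha, rfl⟩
        simp only [MulEquiv.coe_toMonoidHom, MulAut.conj_apply]
        exact Subgroup.mul_mem _ (Subgroup.mul_mem _ hg (hAS ha)) (Subgroup.inv_mem _ hg))
      hel hti
    intro a ha
    apply hKle
    apply Cfsg.Agent.Lib.helper14.mem_sectionKernel_of_forall
    intro x hx
    have hcQ : a * x * a⁻¹ * x⁻¹ ∈ Cfsg.pCore 2 X :=
      Subgroup.mul_mem _ (hQn.conj_mem x hx a) (Subgroup.inv_mem _ hx)
    have hcomm : a * (x * a * x⁻¹) = (x * a * x⁻¹) * a := by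
      have h1 := hT 1 (Subgroup.one_mem _) x (hQS hx) a ha a ha
      simpa using h1
    have hcomm' : a * (x * a⁻¹ * x⁻¹) = (x * a⁻¹ * x⁻¹) * a := by
      have e1 : x * a⁻¹ * x⁻¹ = (x * a * x⁻¹)⁻¹ := by group
      rw [e1]
      have e2 : a * (x * a * x⁻¹)⁻¹ = (x * a * x⁻¹)⁻¹ * ((x * a * x⁻¹) * a) * (x * a * x⁻¹)⁻¹ := by
        group
      rw [e2, ← hcomm]; group
    have hsq : a ^ 2 * x * (a ^ 2)⁻¹ * x⁻¹ = (a * x * a⁻¹ * x⁻¹) ^ 2 := by
      have e1 : a ^ 2 * x * (a ^ 2)⁻¹ * x⁻¹ = a * (a * (x * a⁻¹ * x⁻¹)) * (x * a⁻¹ * x⁻¹) := by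
        rw [pow_two]; group
      have e2 : (a * x * a⁻¹ * x⁻¹) ^ 2 = a * ((x * a⁻¹ * x⁻¹) * a) * (x * a⁻¹ * x⁻¹) := by
        rw [pow_two]; group
      rw [e1, e2, hcomm']
    rw [hsq]
    have h1 := Cfsg.Agent.Lib.helper3.pow_prime_mem_frattini hQp
      (⟨a * x * a⁻¹ * x⁻¹, hcQ⟩ : ↥(Cfsg.pCore 2 X))
    exact ⟨_, h1, rfl⟩
  have hBQ : Subgroup.closure ((fun a : X => a ^ 2) '' (A : Set X)) ≤ Cfsg.pCore 2 X := by
    rw [Subgroup.closure_le]
    rintro _ ⟨a, ha, rfl⟩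
    exact part1 a ha
  refine ⟨hBQ, ?_⟩
  intro hne
  have hBA : Subgroup.closure ((fun a : X => a ^ 2) '' (A : Set X)) ≤ A := by
    rw [Subgroup.closure_le]
    rintro _ ⟨a, ha, rfl⟩
    exact Subgroup.pow_mem _ ha 2
  have hBab : ∀ b ∈ Subgroup.closure ((fun a : X => a ^ 2) '' (A : Set X)),
      ∀ b' ∈ Subgroup.closure ((fun a : X => a ^ 2) '' (A : Set X)), b * b' = b' * b :=
    fun b hb b' hb' => hAab b (hBA hb) b' (hBA hb')
  have hBsq : ∃ b ∈ Subgroup.closure ((fun a : X => a ^ 2) '' (A : Set X)), b ^ 2 ≠ 1 := by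
    by_contra hcon
    push Not at hcon
    apply hne
    refine ⟨⟨⟨fun u v => Subtype.ext (hBab u u.2 v v.2)⟩⟩, hcon⟩
  have hBti : ∀ h : X,
      (Subgroup.closure ((fun a : X => a ^ 2) '' (A : Set X))).map (MulAut.conj h).toMonoidHom =
        Subgroup.closure ((fun a : X => a ^ 2) '' (A : Set X)) ∨
      (Subgroup.closure ((fun a : X => a ^ 2) '' (A : Set X))).map (MulAut.conj h).toMonoidHom ⊓
        Subgroup.closure ((fun a : X => a ^ 2) '' (A : Set X)) = ⊥ := by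
    intro h
    rcases hti h with h1 | h1
    · left
      rw [MonoidHom.map_closure]
      congr 1
      ext y
      constructor
      · rintro ⟨_, ⟨a, ha, rfl⟩, rfl⟩
        refine ⟨(MulAut.conj h) a, ?_, ?_⟩
        · have : (MulAut.conj h) a ∈ A.map (MulAut.conj h).toMonoidHom := ⟨a, ha, rfl⟩
          rw [h1] at this
          exact this
        · simp only [MulEquiv.coe_toMonoidHom, map_pow]
      · rintro ⟨a, ha, rfl⟩
        have h2 : a ∈ A.map (MulAut.conj h).toMonoidHom := by rw [h1]; exact ha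
        obtain ⟨a', ha', rfl⟩ := h2
        exact ⟨a' ^ 2, ⟨a', ha', rfl⟩, by simp only [MulEquiv.coe_toMonoidHom, map_pow]⟩
    · right
      rw [eq_bot_iff, ← h1]
      exact inf_le_inf (Subgroup.map_mono hBA) hBA
  have hT := conj_family_commute (Cfsg.pCore 2 X) ⊤ hQp le_top _ hBab
    (by
      rintro g - _ ⟨b, hb, rfl⟩
      simp only [MulEquiv.coe_toMonoidHom, MulAut.conj_apply]
      exact hQn.conj_mem b (hBQ hb) g)
    hBsq hBti
  have hcl := Cfsg.Agent.Lib.helper30.closure_comm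
    (Group.conjugatesOfSet ((fun a : X => a ^ 2) '' (A : Set X))) (by
      intro s hs t ht
      rw [Group.mem_conjugatesOfSet_iff] at hs ht
      obtain ⟨x, hx, hxs⟩ := hs
      obtain ⟨y, hy, hyt⟩ := ht
      rw [isConj_iff] at hxs hyt
      obtain ⟨c, rfl⟩ := hxs
      obtain ⟨d, rfl⟩ := hyt
      exact hT c (Subgroup.mem_top _) d (Subgroup.mem_top _) x (Subgroup.subset_closure hx) y
        (Subgroup.subset_closure hy))
  exact ⟨⟨fun u v => Subtype.ext (hcl u u.2 v v.2)⟩⟩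

end Cfsg.Agent.S1783
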