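import Cfsg.Statements.S1784
-- import your own Cfsg.Agent.* helpers here
import Mathlib
import Cfsg.Agent.Lib.helper28.Components
import Cfsg.Agent.Lib.helper36.Extraspecial

set_option autoImplicit false
open Cfsg

namespace Cfsg.Agent.S1784

section S1784aux

open Subgroup

/-- The general statement behind S1784, with `C` and `F = F*(C)` abstract. -/
theorem aux {G : Type*} [Group G] [Finite G] (z : G) (hz : orderOf z = 2) (C : Subgroup G)
    (hC : C = Subgroup.centralizer ({z} : Set G)) (F : Subgroup ↥C) [F.Normal]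
    (hBender : Subgroup.centralizer (F : Set ↥C) ≤ F) (hE : Cfsg.IsExtraspecial 2 ↥F)
    (α : G) (hα : orderOf α = 2) (hαC : α ∈ C) (hαQ : α ∉ F.map C.subtype)
    (Q₀ : Subgroup G)
    (hQ₀ : ∀ q : G, q ∈ Q₀ ↔ (q ∈ F.map C.subtype ∧ α * q * α⁻¹ * q⁻¹ ∈ Subgroup.zpowers z)) :
    Subgroup.closure ((fun q : G => α * q * α⁻¹ * q⁻¹) '' (F.map C.subtype : Set G)) =
        (Subgroup.center ↥Q₀).map Q₀.subtype ∧
      (¬ Q₀ ≤ (F.map C.subtype ⊓ Subgroup.centralizer ({α} : Set G)) ⊔ Subgroup.zpowers z →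
        ∃ q ∈ F.map C.subtype, q * α * q⁻¹ = α * z) := by
  classical
  have hαα : α * α = 1 := by rw [← pow_two, ← hα, pow_orderOf_eq_one]
  have hαinv : α⁻¹ = α := inv_eq_of_mul_eq_one_left hαα
  have hzz : z * z = 1 := by rw [← pow_two, ← hz, pow_orderOf_eq_one]
  have hz1 : z ≠ 1 := by
    intro h; rw [h, orderOf_one] at hz; exact absurd hz (by norm_num)
  have hzp : ∀ x : G, x ∈ Subgroup.zpowers z ↔ x = 1 ∨ x = z := by
    intro x
    constructor
    · rintro ⟨k, rfl⟩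
      change z ^ k = 1 ∨ z ^ k = z
      have h1 : z ^ (k % ((orderOf z : ℕ) : ℤ)) = z ^ k := zpow_mod_orderOf z k
      rw [hz] at h1
      rw [← h1]
      rcases Int.emod_two_eq_zero_or_one k with h2 | h2
      · left; rw [show k % ((2 : ℕ) : ℤ) = 0 from h2, zpow_zero]
      · right; rw [show k % ((2 : ℕ) : ℤ) = 1 from h2, zpow_one]
    · rintro (h | h)
      · rw [h]; exact Subgroup.one_mem _
      · rw [h]; exact Subgroup.mem_zpowers z
  obtain ⟨ι, hι⟩ : ∃ ι : ↥F →* G, ι = C.subtype.comp F.subtype := ⟨_, rfl⟩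
  have hιval : ∀ q : ↥F, ι q = ((q : ↥C) : G) := by
    intro q; rw [hι]; rfl
  have hinj : Function.Injective ι := by
    rw [hι]; exact C.subtype_injective.comp F.subtype_injective
  have hmemQ : ∀ x : G, x ∈ F.map C.subtype ↔ ∃ q : ↥F, ι q = x := by
    intro x
    constructor
    · rintro ⟨c, hc, rfl⟩
      exact ⟨⟨c, hc⟩, hιval _⟩
    · rintro ⟨q, rfl⟩
      exact ⟨q.1, q.2, (hιval q).symm⟩
  -- the automorphism induced by `α`
  let a : ↥F → ↥F := fun q =>
    ⟨(⟨α, hαC⟩ : ↥C) * q * (⟨α, hαC⟩ : ↥C)⁻¹,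
      (inferInstance : F.Normal).conj_mem q q.2 (⟨α, hαC⟩ : ↥C)⟩
  have hιa : ∀ q : ↥F, ι (a q) = α * ι q * α⁻¹ := by
    intro q; rw [hιval, hιval]; rfl
  have hιγ : ∀ q : ↥F, ι (a q * q⁻¹) = α * ι q * α⁻¹ * (ι q)⁻¹ := by
    intro q; rw [map_mul, map_inv, hιa]
  have hmul : ∀ g h, a (g * h) = a g * a h := by
    intro g h
    apply hinj
    rw [hιa, map_mul, map_mul, hιa, hιa]
    group
  have hinv : ∀ g, a (a g) = g := by
    intro g
    apply hinj
    rw [hιa, hιa, hαinv]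
    calc α * (α * ι g * α) * α = (α * α) * ι g * (α * α) := by group
      _ = ι g := by rw [hαα]; group
  -- `z` as an element of `F`
  have hzC : z ∈ C := by
    rw [hC, Subgroup.mem_centralizer_iff]
    intro x hx
    rw [Set.mem_singleton_iff] at hx
    rw [hx]
  have hzF : (⟨z, hzC⟩ : ↥C) ∈ F := by
    apply hBender
    rw [Subgroup.mem_centralizer_iff]
    intro q _
    apply Subtype.ext
    have hq : (q : G) ∈ Subgroup.centralizer ({z} : Set G) := by rw [← hC]; exact q.2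
    have h1 := Subgroup.mem_centralizer_iff.mp hq z rfl
    simpa using h1.symm
  have hιz : ι (⟨⟨z, hzC⟩, hzF⟩ : ↥F) = z := hιval _
  have hzFcen : (⟨⟨z, hzC⟩, hzF⟩ : ↥F) ∈ Subgroup.center ↥F := by
    rw [Subgroup.mem_center_iff]
    intro q
    apply hinj
    rw [map_mul, map_mul, hιz]
    have hq : ι q ∈ Subgroup.centralizer ({z} : Set G) := by
      rw [← hC, hιval]; exact (q : ↥C).2
    exact (Subgroup.mem_centralizer_iff.mp hq z rfl).symm
  have hzF1 : (⟨⟨z, hzC⟩, hzF⟩ : ↥F) ≠ 1 := by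
    intro h
    apply hz1
    rw [← hιz, h, map_one]
  obtain ⟨z', -, -, -, -, hcen'⟩ := Cfsg.Agent.Lib.helper36.extraspecial_two_structure hE
  have hz'eq : (⟨⟨z, hzC⟩, hzF⟩ : ↥F) = z' := (hcen' _ hzFcen).resolve_left hzF1
  have hcenF : ∀ q : ↥F, q ∈ Subgroup.center ↥F ↔ ι q ∈ Subgroup.zpowers z := by
    intro q
    rw [hzp]
    constructor
    · intro hq
      rcases hcen' q hq with h | h
      · left; rw [h, map_one]
      · right; rw [h, ← hz'eq, hιz]
    · rintro (h | h)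
      · have : q = 1 := hinj (by rw [h, map_one])
        rw [this]; exact Subgroup.one_mem _
      · have : q = ⟨⟨z, hzC⟩, hzF⟩ := hinj (by rw [h, hιz])
        rw [this]; exact hzFcen
  have hne : ∃ q, a q ≠ q := by
    by_contra hall
    push Not at hall
    apply hαQ
    refine ⟨⟨α, hαC⟩, ?_, rfl⟩
    apply hBender
    rw [Subgroup.mem_centralizer_iff]
    intro q hq
    have h1 := hall ⟨q, hq⟩
    have h2 : (⟨α, hαC⟩ : ↥C) * q * (⟨α, hαC⟩ : ↥C)⁻¹ = q := congrArg Subtype.val h1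
    calc q * (⟨α, hαC⟩ : ↥C) = ((⟨α, hαC⟩ : ↥C) * q * (⟨α, hαC⟩ : ↥C)⁻¹) * (⟨α, hαC⟩ : ↥C) := by
          rw [h2]
      _ = (⟨α, hαC⟩ : ↥C) * q := by group
  have key := fun u => Cfsg.Agent.Lib.helper36.extraspecial_two_commutator_closure hE a hmul hinv hne u
  have hQ₀ι : ∀ u : ↥F, ι u ∈ Q₀ ↔ a u * u⁻¹ ∈ Subgroup.center ↥F := by
    intro u
    rw [hQ₀, hcenF, hιγ]
    constructor
    · rintro ⟨-, h⟩; exact h
    · intro h; exact ⟨(hmemQ _).mpr ⟨u, rfl⟩, h⟩
  refine ⟨?_, ?_⟩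
  · have himg : (fun q : G => α * q * α⁻¹ * q⁻¹) '' (F.map C.subtype : Set G) =
        ι '' (Set.range fun q : ↥F => a q * q⁻¹) := by
      ext x
      constructor
      · rintro ⟨y, hy, rfl⟩
        obtain ⟨q, rfl⟩ := (hmemQ y).mp hy
        exact ⟨a q * q⁻¹, ⟨q, rfl⟩, hιγ q⟩
      · rintro ⟨_, ⟨q, rfl⟩, rfl⟩
        exact ⟨ι q, (hmemQ _).mpr ⟨q, rfl⟩, (hιγ q).symm⟩
    rw [himg, ← MonoidHom.map_closure]
    ext x
    rw [Subgroup.mem_map]
    constructor
    · rintro ⟨u, hu, rfl⟩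
      obtain ⟨hu1, hu2⟩ := (key u).mp hu
      have huQ₀ : ι u ∈ Q₀ := (hQ₀ι u).mpr hu1
      refine ⟨⟨ι u, huQ₀⟩, ?_, rfl⟩
      rw [SetLike.mem_coe, Subgroup.mem_center_iff]
      rintro ⟨w, hw⟩
      apply Subtype.ext
      change w * ι u = ι u * w
      obtain ⟨w', rfl⟩ := (hmemQ w).mp ((hQ₀ w).mp hw).1
      have h1 := hu2 w' ((hQ₀ι w').mp hw)
      rw [← map_mul, ← map_mul, h1]
    · rintro ⟨⟨y, hy⟩, hycen, rfl⟩
      obtain ⟨u, rfl⟩ := (hmemQ y).mp ((hQ₀ y).mp hy).1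
      refine ⟨u, (key u).mpr ⟨(hQ₀ι u).mp hy, ?_⟩, rfl⟩
      intro w hw
      have hwQ₀ : ι w ∈ Q₀ := (hQ₀ι w).mpr hw
      have h1 := Subgroup.mem_center_iff.mp hycen ⟨ι w, hwQ₀⟩
      have h2 : ι w * ι u = ι u * ι w := congrArg Subtype.val h1
      apply hinj
      rw [map_mul, map_mul, h2]
  · intro hnot
    rw [SetLike.not_le_iff_exists] at hnot
    obtain ⟨q, hq, hqn⟩ := hnot
    obtain ⟨hqQ, hqz⟩ := (hQ₀ q).mp hq
    refine ⟨q, hqQ, ?_⟩
    rcases (hzp _).mp hqz with h1 | h1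
    · exfalso
      apply hqn
      apply Subgroup.mem_sup_left
      refine Subgroup.mem_inf.mpr ⟨hqQ, ?_⟩
      rw [Subgroup.mem_centralizer_iff]
      intro y hy
      rw [Set.mem_singleton_iff] at hy
      subst hy
      calc y * q = (y * q * y⁻¹ * q⁻¹) * q * y := by group
        _ = q * y := by rw [h1, one_mul]
    · rw [hαinv] at h1
      calc q * α * q⁻¹ = (α * α) * q * α * q⁻¹ := by rw [hαα, one_mul]
        _ = α * (α * q * α * q⁻¹) := by group
        _ = α * z := by rw [h1]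

end S1784aux


/-- Let G be a finite group and let z be an involution of G such that Q, the generalized Fitting subgroup of the centralizer C of z, is a 2-group of symplectic type (every characteristic abelian subgroup of Q is cyclic); suppose Q is extraspecial, and view Q inside G. Let α be an involution of C that is not in Q, and let Q₀ be the subgroup of those q ∈ Q whose commutator with α lies in the subgroup generated by z. Then (a) the subgroup generated by the commutators α q α⁻¹ q⁻¹, q ∈ Q, equals the centre of Q₀; and (b) if Q₀ is not contained in the product of the centralizer of α in Q with the subgroup generated by z, then some element of Q conjugates α to α z. -/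
theorem result {G : Type*} [Group G] [Finite G] (z : G) (hz : orderOf z = 2) (hQ : Cfsg.IsOfSymplecticType ↥(Cfsg.generalizedFittingSubgroup ↥(Subgroup.centralizer ({z} : Set G)))) (hE : Cfsg.IsExtraspecial 2 ↥(Cfsg.generalizedFittingSubgroup ↥(Subgroup.centralizer ({z} : Set G))))
    (α : G) (hα : orderOf α = 2) (hαC : α ∈ Subgroup.centralizer ({z} : Set G)) (hαQ : α ∉ (Cfsg.generalizedFittingSubgroup ↥(Subgroup.centralizer ({z} : Set G))).map (Subgroup.centralizer ({z} : Set G)).subtype)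
    (Q₀ : Subgroup G) (hQ₀ : ∀ q : G, q ∈ Q₀ ↔ (q ∈ (Cfsg.generalizedFittingSubgroup ↥(Subgroup.centralizer ({z} : Set G))).map (Subgroup.centralizer ({z} : Set G)).subtype ∧ α * q * α⁻¹ * q⁻¹ ∈ Subgroup.zpowers z)) :
    Subgroup.closure ((fun q : G => α * q * α⁻¹ * q⁻¹) '' ((Cfsg.generalizedFittingSubgroup ↥(Subgroup.centralizer ({z} : Set G))).map (Subgroup.centralizer ({z} : Set G)).subtype : Set G)) = (Subgroup.center ↥Q₀).map Q₀.subtype ∧
      (¬ Q₀ ≤ ((Cfsg.generalizedFittingSubgroup ↥(Subgroup.centralizer ({z} : Set G))).map (Subgroup.centralizer ({z} : Set G)).subtype ⊓ Subgroup.centralizer ({α} : Set G)) ⊔ Subgroup.zpowers z →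
        ∃ q ∈ (Cfsg.generalizedFittingSubgroup ↥(Subgroup.centralizer ({z} : Set G))).map (Subgroup.centralizer ({z} : Set G)).subtype, q * α * q⁻¹ = α * z) := by
  exact aux z hz _ rfl _ (Cfsg.Agent.Lib.helper28.centralizer_generalizedFittingSubgroup_le _) hE
    α hα hαC hαQ Q₀ hQ₀

end Cfsg.Agent.S1784
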