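import Cfsg.Statements.S1785
-- import your own Cfsg.Agent.* helpers here
import Mathlib
import Cfsg.Agent.Lib.helper36.ElemAb2

set_option autoImplicit false
open Cfsg

namespace Cfsg.Agent.S1785

section S1785aux

open Subgroup

/-- In an elementary abelian 2-group of order 8, a subgroup of order 1, 2 or 4 lies in a
subgroup of order 4. -/
theorem exists_four_between {X : Type*} [Group X] [Finite X] {A B : Subgroup X}
    (hA : Cfsg.IsElementaryAbelian 2 A) (hA8 : Nat.card A = 8) (hBA : B ≤ A)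
    (hB : Nat.card B = 1 ∨ Nat.card B = 2 ∨ Nat.card B = 4) :
    ∃ A' : Subgroup X, B ≤ A' ∧ A' ≤ A ∧ Nat.card A' = 4 := by
  have hne : ∀ B' : Subgroup X, Nat.card B' < 8 → B' ≠ A := by
    intro B' h1 h2
    rw [h2, hA8] at h1
    omega
  rcases hB with h | h | h
  · obtain ⟨B₁, h1, h2, h3⟩ :=
      Cfsg.Agent.Lib.helper36.exists_le_card_two_mul hA hBA (hne B (by omega))
    obtain ⟨B₂, h4, h5, h6⟩ :=
      Cfsg.Agent.Lib.helper36.exists_le_card_two_mul hA h2 (hne B₁ (by omega))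
    exact ⟨B₂, h1.trans h4, h5, by omega⟩
  · obtain ⟨B₁, h1, h2, h3⟩ :=
      Cfsg.Agent.Lib.helper36.exists_le_card_two_mul hA hBA (hne B (by omega))
    exact ⟨B₁, h1, h2, by omega⟩
  · exact ⟨B, le_rfl, hBA, h⟩

end S1785aux


/-- Let X be a finite 2-group having a normal elementary abelian subgroup of order at least 32. Then (a) for any two elementary abelian subgroups A, B of X of order 8 there is a chain A = A₁, A₂, …, Aₙ = B of elementary abelian subgroups of order 8 in which consecutive members commute elementwise; and (b) every elementary abelian subgroup of X of order 4 is contained in an elementary abelian subgroup of order 8. -/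
theorem result {X : Type*} [Group X] [Finite X]
    (hX : IsPGroup 2 X) (E : Subgroup X) [E.Normal] (hE : Cfsg.IsElementaryAbelian 2 E) (hE32 : 32 ≤ Nat.card ↥E) :
    (∀ A B : Subgroup X, Cfsg.IsElementaryAbelian 2 A → Nat.card ↥A = 8 → Cfsg.IsElementaryAbelian 2 B → Nat.card ↥B = 8 →
        Relation.ReflTransGen
          (fun C D : Subgroup X => Cfsg.IsElementaryAbelian 2 C ∧ Nat.card ↥C = 8 ∧ Cfsg.IsElementaryAbelian 2 D ∧ Nat.card ↥D = 8 ∧ ⁅C, D⁆ = ⊥)
          A B) ∧
      (∀ V : Subgroup X, Cfsg.IsElementaryAbelian 2 V → Nat.card ↥V = 4 →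
        ∃ A : Subgroup X, V ≤ A ∧ Cfsg.IsElementaryAbelian 2 A ∧ Nat.card ↥A = 8) := by
  have hE' := (Cfsg.Agent.Lib.helper13.isElementaryAbelian_iff E).mp hE
  have hEn : ∀ a : X, ∀ d ∈ E, a * d * a⁻¹ ∈ E :=
    fun a d hd => (inferInstance : E.Normal).conj_mem d hd a
  -- an element of `E` centralizing `A` outside `A`
  have key : ∀ (k : ℕ) (A : Subgroup X), Cfsg.IsElementaryAbelian 2 A →
      Nat.card A = 2 ^ k * Nat.card ↥(A ⊓ E) → Nat.card ↥(A ⊓ E) ^ (2 ^ k) < 32 →
      ∃ e ∈ E, e ∈ Subgroup.centralizer (A : Set X) ∧ e ∉ A := by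
    intro k A hA hcard hlt
    have hcen : E ≤ Subgroup.centralizer ((A ⊓ E : Subgroup X) : Set X) := by
      intro e he
      rw [Subgroup.mem_centralizer_iff]
      intro b hb
      exact hE'.1 b (Subgroup.mem_inf.mp hb).2 e he
    have hb := Cfsg.Agent.Lib.helper36.card_le_card_inf_centralizer_pow k A (A ⊓ E) E hA
      inf_le_left hcen hE (fun a _ d hd => hEn a d hd) hcard
    by_contra hall
    push Not at hall
    have hle : E ⊓ Subgroup.centralizer (A : Set X) ≤ A ⊓ E := by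
      intro e he
      obtain ⟨h1, h2⟩ := Subgroup.mem_inf.mp he
      exact Subgroup.mem_inf.mpr ⟨hall e h1 h2, h1⟩
    have h3 := Subgroup.card_le_of_le hle
    have h4 : Nat.card E ≤ Nat.card ↥(A ⊓ E) ^ (2 ^ k) := hb.trans (Nat.pow_le_pow_left h3 _)
    omega
  -- one step towards `E`
  have step : ∀ A : Subgroup X, Cfsg.IsElementaryAbelian 2 A → Nat.card A = 8 → ¬ A ≤ E →
      ∃ A₁ : Subgroup X, Cfsg.IsElementaryAbelian 2 A₁ ∧ Nat.card A₁ = 8 ∧ ⁅A, A₁⁆ = ⊥ ∧
        Nat.card ↥(A ⊓ E) < Nat.card ↥(A₁ ⊓ E) := by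
    intro A hA hA8 hAE
    have hA' := (Cfsg.Agent.Lib.helper13.isElementaryAbelian_iff A).mp hA
    have hdvd : Nat.card ↥(A ⊓ E) ∣ 8 := hA8 ▸ Subgroup.card_dvd_of_le inf_le_left
    have hne8 : Nat.card ↥(A ⊓ E) ≠ 8 := by
      intro h
      apply hAE
      have h1 := Subgroup.eq_of_le_of_card_ge (inf_le_left : A ⊓ E ≤ A) (by rw [h, hA8])
      rw [← h1]; exact inf_le_right
    have hc : Nat.card ↥(A ⊓ E) = 1 ∨ Nat.card ↥(A ⊓ E) = 2 ∨ Nat.card ↥(A ⊓ E) = 4 := by
      have hle := Nat.le_of_dvd (by norm_num) hdvd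
      generalize Nat.card ↥(A ⊓ E) = c at hdvd hne8 hle
      interval_cases c <;> omega
    obtain ⟨e, heE, heA, henA⟩ : ∃ e ∈ E, e ∈ Subgroup.centralizer (A : Set X) ∧ e ∉ A := by
      rcases hc with h | h | h
      · exact key 3 A hA (by rw [h, hA8]; norm_num) (by rw [h]; norm_num)
      · exact key 2 A hA (by rw [h, hA8]; norm_num) (by rw [h]; norm_num)
      · exact key 1 A hA (by rw [h, hA8]; norm_num) (by rw [h]; norm_num)
    obtain ⟨A', hBA', hA'A, hA'4⟩ := exists_four_between hA hA8 inf_le_left hc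
    have he2 : e ^ 2 = 1 := hE'.2 e heE
    have heA' : e ∈ Subgroup.centralizer (A' : Set X) :=
      Subgroup.centralizer_le (SetLike.coe_subset_coe.mpr hA'A) heA
    refine ⟨A' ⊔ Subgroup.zpowers e,
      Cfsg.Agent.Lib.helper14.isElementaryAbelian_sup_zpowers 2 A'
        (Cfsg.Agent.Lib.helper13.elemAb_mono hA hA'A) e heA' he2, ?_, ?_, ?_⟩
    · rw [Cfsg.Agent.Lib.helper36.card_sup_zpowers_of_sq_eq_one A' e (fun h => henA (hA'A h))
        he2 heA', hA'4]
    · rw [Subgroup.commutator_eq_bot_iff_le_centralizer, Subgroup.le_centralizer_iff]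
      apply sup_le
      · intro a ha
        rw [Subgroup.mem_centralizer_iff]
        intro b hb
        exact hA'.1 b hb a (hA'A ha)
      · rw [Subgroup.zpowers_le]; exact heA
    · have h1 : (A ⊓ E) ⊔ Subgroup.zpowers e ≤ (A' ⊔ Subgroup.zpowers e) ⊓ E := by
        apply sup_le
        · exact le_inf (hBA'.trans le_sup_left) inf_le_right
        · rw [Subgroup.zpowers_le]
          exact Subgroup.mem_inf.mpr
            ⟨(le_sup_right : Subgroup.zpowers e ≤ A' ⊔ Subgroup.zpowers e)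
              (Subgroup.mem_zpowers e), heE⟩
      have h2 := Cfsg.Agent.Lib.helper36.card_sup_zpowers_of_sq_eq_one (A ⊓ E) e
        (fun h => henA (Subgroup.mem_inf.mp h).1) he2
        (Subgroup.centralizer_le (fun x hx => (Subgroup.mem_inf.mp hx).1) heA)
      have h3 := Subgroup.card_le_of_le h1
      have hpos : 0 < Nat.card ↥(A ⊓ E) := Nat.card_pos
      omega
  -- every `E₈` is connected to one inside `E`
  have reach : ∀ n : ℕ, ∀ A : Subgroup X, Cfsg.IsElementaryAbelian 2 A → Nat.card A = 8 →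
      8 - Nat.card ↥(A ⊓ E) ≤ n →
      ∃ A' : Subgroup X, A' ≤ E ∧ Cfsg.IsElementaryAbelian 2 A' ∧ Nat.card A' = 8 ∧
        Relation.ReflTransGen
          (fun C D : Subgroup X => Cfsg.IsElementaryAbelian 2 C ∧ Nat.card ↥C = 8 ∧
            Cfsg.IsElementaryAbelian 2 D ∧ Nat.card ↥D = 8 ∧ ⁅C, D⁆ = ⊥) A A' := by
    intro n
    induction n with
    | zero =>
      intro A hA hA8 hn
      have hle : Nat.card ↥(A ⊓ E) ≤ Nat.card A := Subgroup.card_le_of_le inf_le_left
      have h1 : A ⊓ E = A := Subgroup.eq_of_le_of_card_ge inf_le_left (by omega)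
      exact ⟨A, by rw [← h1]; exact inf_le_right, hA, hA8, Relation.ReflTransGen.refl⟩
    | succ n ih =>
      intro A hA hA8 hn
      by_cases hAE : A ≤ E
      · exact ⟨A, hAE, hA, hA8, Relation.ReflTransGen.refl⟩
      · obtain ⟨A₁, hA₁, hA₁8, hcomm, hlt⟩ := step A hA hA8 hAE
        have hle : Nat.card ↥(A₁ ⊓ E) ≤ Nat.card A₁ := Subgroup.card_le_of_le inf_le_left
        obtain ⟨A', h1, h2, h3, h4⟩ := ih A₁ hA₁ hA₁8 (by omega)
        exact ⟨A', h1, h2, h3, Relation.ReflTransGen.head ⟨hA, hA8, hA₁, hA₁8, hcomm⟩ h4⟩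
  refine ⟨?_, ?_⟩
  · intro A B hA hA8 hB hB8
    obtain ⟨A', hA'E, hA'el, hA'8, hAA'⟩ := reach 8 A hA hA8 (Nat.sub_le _ _)
    obtain ⟨B', hB'E, hB'el, hB'8, hBB'⟩ := reach 8 B hB hB8 (Nat.sub_le _ _)
    have hsymm : ∀ C D : Subgroup X, (Cfsg.IsElementaryAbelian 2 C ∧
        Nat.card ↥C = 8 ∧ Cfsg.IsElementaryAbelian 2 D ∧ Nat.card ↥D = 8 ∧ ⁅C, D⁆ = ⊥) →
        (Cfsg.IsElementaryAbelian 2 D ∧
        Nat.card ↥D = 8 ∧ Cfsg.IsElementaryAbelian 2 C ∧ Nat.card ↥C = 8 ∧ ⁅D, C⁆ = ⊥) := by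
      rintro C D ⟨h1, h2, h3, h4, h5⟩
      exact ⟨h3, h4, h1, h2, by rw [Subgroup.commutator_comm]; exact h5⟩
    have hrev : ∀ C D : Subgroup X, Relation.ReflTransGen
        (fun C D : Subgroup X => Cfsg.IsElementaryAbelian 2 C ∧ Nat.card ↥C = 8 ∧
            Cfsg.IsElementaryAbelian 2 D ∧ Nat.card ↥D = 8 ∧ ⁅C, D⁆ = ⊥) C D →
        Relation.ReflTransGen
        (fun C D : Subgroup X => Cfsg.IsElementaryAbelian 2 C ∧ Nat.card ↥C = 8 ∧
            Cfsg.IsElementaryAbelian 2 D ∧ Nat.card ↥D = 8 ∧ ⁅C, D⁆ = ⊥) D C := by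
      intro C D h
      induction h with
      | refl => exact Relation.ReflTransGen.refl
      | tail _ hbc ih => exact Relation.ReflTransGen.head (hsymm _ _ hbc) ih
    have hA'B' : ⁅A', B'⁆ = ⊥ := by
      rw [Subgroup.commutator_eq_bot_iff_le_centralizer]
      intro a ha
      rw [Subgroup.mem_centralizer_iff]
      intro b hb
      exact hE'.1 b (hB'E hb) a (hA'E ha)
    exact (hAA'.trans (Relation.ReflTransGen.single ⟨hA'el, hA'8, hB'el, hB'8, hA'B'⟩)).trans
      (hrev _ _ hBB')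
  · intro V hV hV4
    have hV' := (Cfsg.Agent.Lib.helper13.isElementaryAbelian_iff V).mp hV
    obtain ⟨e, heE, heV, henV⟩ : ∃ e ∈ E, e ∈ Subgroup.centralizer (V : Set X) ∧ e ∉ V := by
      by_cases hVE : V ≤ E
      · obtain ⟨e, heE, heV⟩ : ∃ e ∈ E, e ∉ V := by
          by_contra hall
          push Not at hall
          have h1 := Subgroup.card_le_of_le (hall : E ≤ V)
          omega
        refine ⟨e, heE, ?_, heV⟩
        rw [Subgroup.mem_centralizer_iff]
        intro v hv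
        exact hE'.1 v (hVE hv) e heE
      · have hdvd : Nat.card ↥(V ⊓ E) ∣ 4 := hV4 ▸ Subgroup.card_dvd_of_le inf_le_left
        have hne4 : Nat.card ↥(V ⊓ E) ≠ 4 := by
          intro h
          apply hVE
          have h1 := Subgroup.eq_of_le_of_card_ge (inf_le_left : V ⊓ E ≤ V) (by rw [h, hV4])
          rw [← h1]; exact inf_le_right
        have hc : Nat.card ↥(V ⊓ E) = 1 ∨ Nat.card ↥(V ⊓ E) = 2 := by
          have hle := Nat.le_of_dvd (by norm_num) hdvd
          generalize Nat.card ↥(V ⊓ E) = c at hdvd hne4 hle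
          interval_cases c <;> omega
        rcases hc with h | h
        · exact key 2 V hV (by rw [h, hV4]; norm_num) (by rw [h]; norm_num)
        · exact key 1 V hV (by rw [h, hV4]; norm_num) (by rw [h]; norm_num)
    have he2 : e ^ 2 = 1 := hE'.2 e heE
    exact ⟨V ⊔ Subgroup.zpowers e, le_sup_left,
      Cfsg.Agent.Lib.helper14.isElementaryAbelian_sup_zpowers 2 V hV e heV he2,
      by rw [Cfsg.Agent.Lib.helper36.card_sup_zpowers_of_sq_eq_one V e henV he2 heV, hV4]⟩

end Cfsg.Agent.S1785
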