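import Cfsg.Statements.S1850
-- import your own Cfsg.Agent.* helpers here
import Cfsg.Agent.Lib.helper36.CharPCent

set_option autoImplicit false
open Cfsg

namespace Cfsg.Agent.S1850

/-- Let G be a non-abelian finite simple QTKE-group and T a Sylow 2-subgroup of G. If U is a nontrivial 2-subgroup of G with U ∩ Z(T) ≠ 1, then F*(N_G(U)) = O₂(N_G(U)). -/
theorem result {G : Type*} [Group G] [Finite G] [IsSimpleGroup G]
    (hG : ¬ IsMulCommutative G) (hQ : Cfsg.IsQTKE G) (T : Sylow 2 G) (U : Subgroup G)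
    (hU : IsPGroup 2 ↥U) (hZ : U ⊓ ((T : Subgroup G) ⊓ Subgroup.centralizer ((T : Subgroup G) : Set G)) ≠ ⊥) :
    Subgroup.normalizer (U : Set G) ∈ Cfsg.calHe G := by
  have hfact : Fact (Nat.Prime 2) := ⟨Nat.prime_two⟩
  obtain ⟨z, hz1⟩ := (Subgroup.ne_bot_iff_exists_ne_one
    (H := U ⊓ ((T : Subgroup G) ⊓ Subgroup.centralizer ((T : Subgroup G) : Set G)))).mp hZ
  have hzU : (z : G) ∈ U := (Subgroup.mem_inf.mp z.2).1
  have hzC : (z : G) ∈ Subgroup.centralizer ((T : Subgroup G) : Set G) :=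
    (Subgroup.mem_inf.mp (Subgroup.mem_inf.mp z.2).2).2
  have hz1' : (z : G) ≠ 1 := fun h => hz1 (Subtype.ext h)
  -- `N_G(⟨z⟩)` is a 2-local subgroup containing `T`
  have h2loc : Cfsg.IsTwoLocal (Subgroup.normalizer ((Subgroup.zpowers (z : G) : Subgroup G) : Set G)) :=
    ⟨Subgroup.zpowers (z : G), hU.to_le (Subgroup.zpowers_le.mpr hzU),
      fun h => hz1' (Subgroup.zpowers_eq_bot.mp h), rfl⟩
  have hTC : (T : Subgroup G) ≤ Subgroup.centralizer ({(z : G)} : Set G) := by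
    intro t ht
    rw [Subgroup.mem_centralizer_iff]
    intro y hy
    rw [Set.mem_singleton_iff] at hy
    subst hy
    exact (Subgroup.mem_centralizer_iff.mp hzC t ht).symm
  have hTN : (T : Subgroup G) ≤
      Subgroup.normalizer ((Subgroup.zpowers (z : G) : Subgroup G) : Set G) :=
    hTC.trans (Cfsg.Agent.Lib.helper54.centralizer_singleton_le_normalizer_zpowers (z : G))
  have hchar := hQ.2.2 _ h2loc ⟨T, hTN⟩
  have h1 : Cfsg.Agent.Lib.helper54.CharPIn 2
      (Subgroup.normalizer ((Subgroup.zpowers (z : G) : Subgroup G) : Set G)) :=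
    (Cfsg.Agent.Lib.helper54.charPIn_iff _).mpr hchar
  have h2 : Cfsg.Agent.Lib.helper54.CharPIn 2 (Subgroup.centralizer ({(z : G)} : Set G)) :=
    Cfsg.Agent.Lib.helper54.CharPIn.centralizer_of_normalizer_zpowers h1
  have h3 := Cfsg.Agent.Lib.helper36.charPIn_normalizer_of_mem hU hzU h2
  exact (Cfsg.Agent.Lib.helper54.charPIn_iff_fstar _).mp h3

end Cfsg.Agent.S1850
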