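import Cfsg.Statements.S1892
import Cfsg.Agent.Lib.helper38.HallHigman
-- import your own Cfsg.Agent.* helpers here

set_option autoImplicit false
open Cfsg

namespace Cfsg.Agent.S1892

open Cfsg.Agent.Lib.helper38 Cfsg.Agent.Lib.helper40
open scoped commutatorElement

/-- Conjugation by an element normalizing `H` and `K` preserves `⁅H, K⁆`. -/
theorem conj_mem_commutator {G : Type*} [Group G] (H K : Subgroup G) {g : G}
    (hH : ∀ h ∈ H, g * h * g⁻¹ ∈ H) (hK : ∀ k ∈ K, g * k * g⁻¹ ∈ K) :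
    ∀ c ∈ ⁅H, K⁆, g * c * g⁻¹ ∈ ⁅H, K⁆ := by
  intro c hc
  rw [Subgroup.commutator_def] at hc
  induction hc using Subgroup.closure_induction with
  | mem x hx =>
    obtain ⟨h, hh, k, hk, rfl⟩ := hx
    have : g * ⁅h, k⁆ * g⁻¹ = ⁅g * h * g⁻¹, g * k * g⁻¹⁆ := by
      simp only [commutatorElement_def]; group
    rw [this]
    exact Subgroup.commutator_mem_commutator (hH h hh) (hK k hk)
  | one => simp
  | mul x y _ _ ihx ihy =>
    have : g * (x * y) * g⁻¹ = (g * x * g⁻¹) * (g * y * g⁻¹) := by group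
    rw [this]; exact mul_mem ihx ihy
  | inv x _ ihx =>
    have : g * x⁻¹ * g⁻¹ = (g * x * g⁻¹)⁻¹ := by group
    rw [this]; exact inv_mem ihx

/-- The predicate "x normalizes `P₁` and acts trivially on `P / P₁`". -/
def Pred {G : Type*} [Group G] (P P₁ : Subgroup G) (x : G) : Prop :=
  (∀ c ∈ P₁, x * c * x⁻¹ ∈ P₁) ∧ (∀ c ∈ P₁, x⁻¹ * c * x ∈ P₁) ∧ ∀ y ∈ P, y * x * y⁻¹ * x⁻¹ ∈ P₁

theorem pred_one {G : Type*} [Group G] (P P₁ : Subgroup G) : Pred P P₁ 1 := by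
  refine ⟨fun c hc => by simpa using hc, fun c hc => by simpa using hc, fun y _ => by simp⟩

theorem pred_mul {G : Type*} [Group G] (P P₁ : Subgroup G) {x₁ x₂ : G} (h₁ : Pred P P₁ x₁)
    (h₂ : Pred P P₁ x₂) : Pred P P₁ (x₁ * x₂) := by
  refine ⟨fun c hc => ?_, fun c hc => ?_, fun y hy => ?_⟩
  · have : x₁ * x₂ * c * (x₁ * x₂)⁻¹ = x₁ * (x₂ * c * x₂⁻¹) * x₁⁻¹ := by group
    rw [this]; exact h₁.1 _ (h₂.1 c hc)
  · have : (x₁ * x₂)⁻¹ * c * (x₁ * x₂) = x₂⁻¹ * (x₁⁻¹ * c * x₁) * x₂ := by group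
    rw [this]; exact h₂.2.1 _ (h₁.2.1 c hc)
  · have : y * (x₁ * x₂) * y⁻¹ * (x₁ * x₂)⁻¹
        = (y * x₁ * y⁻¹ * x₁⁻¹) * (x₁ * (y * x₂ * y⁻¹ * x₂⁻¹) * x₁⁻¹) := by group
    rw [this]; exact mul_mem (h₁.2.2 y hy) (h₁.1 _ (h₂.2.2 y hy))

theorem pred_inv {G : Type*} [Group G] (P P₁ : Subgroup G) {x : G} (h : Pred P P₁ x) :
    Pred P P₁ x⁻¹ := by
  refine ⟨fun c hc => ?_, fun c hc => ?_, fun y hy => ?_⟩
  · have := h.2.1 c hc
    simpa using this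
  · have := h.1 c hc
    simpa using this
  · have : y * x⁻¹ * y⁻¹ * x⁻¹⁻¹ = x⁻¹ * (y * x * y⁻¹ * x⁻¹)⁻¹ * x := by group
    rw [this]; exact h.2.1 _ (inv_mem (h.2.2 y hy))

theorem pred_conj {G : Type*} [Group G] (P P₁ : Subgroup G) [P.Normal] {x q : G}
    (hq : ∀ c ∈ P₁, c * q = q * c) (h : Pred P P₁ x) : Pred P P₁ (q * x * q⁻¹) := by
  have hq1 : ∀ c ∈ P₁, q * c * q⁻¹ = c := by
    intro c hc
    rw [← hq c hc]; group
  have hq2 : ∀ c ∈ P₁, q⁻¹ * c * q = c := by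
    intro c hc
    rw [mul_assoc, hq c hc]; group
  refine ⟨fun c hc => ?_, fun c hc => ?_, fun y hy => ?_⟩
  · have : q * x * q⁻¹ * c * (q * x * q⁻¹)⁻¹ = q * (x * (q⁻¹ * c * q) * x⁻¹) * q⁻¹ := by group
    rw [this, hq2 c hc, hq1 _ (h.1 c hc)]
    exact h.1 c hc
  · have : (q * x * q⁻¹)⁻¹ * c * (q * x * q⁻¹) = q * (x⁻¹ * (q⁻¹ * c * q) * x) * q⁻¹ := by group
    rw [this, hq2 c hc, hq1 _ (h.2.1 c hc)]
    exact h.2.1 c hc
  · have hy' : q⁻¹ * y * q ∈ P := by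
      have := ‹P.Normal›.conj_mem y hy q⁻¹
      simpa using this
    have : y * (q * x * q⁻¹) * y⁻¹ * (q * x * q⁻¹)⁻¹
        = q * ((q⁻¹ * y * q) * x * (q⁻¹ * y * q)⁻¹ * x⁻¹) * q⁻¹ := by group
    rw [this, hq1 _ (h.2.2 _ hy')]
    exact h.2.2 _ hy'

/-- Let S be a finite p-solvable group with no nontrivial normal subgroup of order prime to p, A a p-subgroup of S, and Q a nontrivial A-invariant subgroup of order prime to p with [A, Q] = Q. Then the commutator [O_p(S), A, Q] is nontrivial. -/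
theorem result {S : Type*} [Group S] [Finite S] {p : ℕ} [Fact p.Prime]
    (hS : Cfsg.IsPSolvable p S) (hred : Cfsg.pPrimeCore p S = ⊥)
    (A Q : Subgroup S) (hA : IsPGroup p A) (hQ : ¬ p ∣ Nat.card Q) (hQ1 : Q ≠ ⊥)
    (hinv : ∀ a ∈ A, ∀ x ∈ Q, a * x * a⁻¹ ∈ Q) (hAQ : ⁅A, Q⁆ = Q) :
    ⁅⁅Cfsg.pCore p S, A⁆, Q⁆ ≠ ⊥ := by
  intro hbot
  have hPn : (Cfsg.pCore p S).Normal := pCore_normal' p S
  have hPp : IsPGroup p (Cfsg.pCore p S) := pCore_isPGroup p S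
  have hHH := centralizer_pCore_le_of_isPSolvable hS hred
  obtain ⟨P, hP⟩ : ∃ P, P = Cfsg.pCore p S := ⟨_, rfl⟩
  rw [← hP] at hbot hPn hPp hHH
  obtain ⟨P₁, hP₁⟩ : ∃ P₁, P₁ = ⁅P, A⁆ := ⟨_, rfl⟩
  rw [← hP₁] at hbot
  -- `Q` centralizes `P₁`
  have hcent : ∀ q ∈ Q, ∀ c ∈ P₁, c * q = q * c := by
    intro q hq c hc
    have h1 : ⁅c, q⁆ ∈ ⁅P₁, Q⁆ := Subgroup.commutator_mem_commutator hc hq
    rw [hbot, Subgroup.mem_bot, commutatorElement_def] at h1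
    calc c * q = (c * q * c⁻¹ * q⁻¹) * (q * c) := by group
      _ = q * c := by rw [h1, one_mul]
  have hP₁P : P₁ ≤ P := by
    rw [hP₁]; exact Subgroup.commutator_le_left P A
  -- `A` normalizes `P₁`
  have hAN : ∀ a ∈ A, ∀ c ∈ P₁, a * c * a⁻¹ ∈ P₁ := by
    intro a ha c hc
    rw [hP₁] at hc ⊢
    exact conj_mem_commutator P A (fun h hh => hPn.conj_mem h hh a)
      (fun k hk => mul_mem (mul_mem ha hk) (inv_mem ha)) c hc
  have hpredA : ∀ a ∈ A, Pred P P₁ a := by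
    intro a ha
    refine ⟨hAN a ha, fun c hc => ?_, fun y hy => ?_⟩
    · have := hAN a⁻¹ (inv_mem ha) c hc
      simpa using this
    · rw [hP₁]
      have := Subgroup.commutator_mem_commutator hy ha
      rwa [commutatorElement_def] at this
  have hpredQ : ∀ q ∈ Q, Pred P P₁ q := by
    intro q hq
    rw [← hAQ, Subgroup.commutator_def] at hq
    induction hq using Subgroup.closure_induction with
    | mem x hx =>
      obtain ⟨a, ha, q', hq', rfl⟩ := hx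
      have : ⁅a, q'⁆ = a * (q' * a⁻¹ * q'⁻¹) := by
        rw [commutatorElement_def]; group
      rw [this]
      exact pred_mul P P₁ (hpredA a ha) (pred_conj P P₁ (hcent q' hq') (hpredA a⁻¹ (inv_mem ha)))
    | one => exact pred_one P P₁
    | mul x y _ _ ihx ihy => exact pred_mul P P₁ ihx ihy
    | inv x _ ihx => exact pred_inv P P₁ ihx
  -- `Q` centralizes `P`
  have hQP : Q ≤ Subgroup.centralizer (P : Set S) := by
    intro q hq
    rw [Subgroup.mem_centralizer_iff]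
    intro y hy
    have hc : y * q * y⁻¹ * q⁻¹ ∈ P₁ := (hpredQ q hq).2.2 y hy
    have hcq : Commute (y * q * y⁻¹ * q⁻¹) q := hcent q hq _ hc
    have h1 : (y * q * y⁻¹) ^ orderOf q = 1 := by
      rw [conj_pow, pow_orderOf_eq_one]; group
    have h2 : y * q * y⁻¹ = (y * q * y⁻¹ * q⁻¹) * q := by group
    rw [h2, hcq.mul_pow, pow_orderOf_eq_one, mul_one] at h1
    have h3 : orderOf (y * q * y⁻¹ * q⁻¹) ∣ orderOf q := orderOf_dvd_of_pow_eq_one h1
    have h4 : orderOf q ∣ Nat.card Q := Subgroup.orderOf_dvd_natCard Q hq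
    obtain ⟨k, hk⟩ := hPp ⟨y * q * y⁻¹ * q⁻¹, hP₁P hc⟩
    have hk' : (y * q * y⁻¹ * q⁻¹) ^ p ^ k = 1 := by
      have := congrArg Subtype.val hk
      simpa using this
    have h5 : orderOf (y * q * y⁻¹ * q⁻¹) ∣ p ^ k := orderOf_dvd_of_pow_eq_one hk'
    have hcop : (Nat.card Q).Coprime p :=
      ((Nat.Prime.coprime_iff_not_dvd Fact.out).mpr hQ).symm
    have h6 : orderOf (y * q * y⁻¹ * q⁻¹) = 1 :=
      Nat.Coprime.eq_one_of_dvd
        (Nat.Coprime.pow_right k (Nat.Coprime.coprime_dvd_left (h3.trans h4) hcop)) h5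
    have h7 : y * q * y⁻¹ * q⁻¹ = 1 := orderOf_eq_one_iff.mp h6
    calc y * q = (y * q * y⁻¹ * q⁻¹) * (q * y) := by group
      _ = q * y := by rw [h7, one_mul]
  apply hQ1
  rw [eq_bot_iff]
  intro q hq
  rw [Subgroup.mem_bot]
  have hqP : q ∈ P := hHH (hQP hq)
  have hcop : (Nat.card Q).Coprime p :=
    ((Nat.Prime.coprime_iff_not_dvd Fact.out).mpr hQ).symm
  obtain ⟨k, hk⟩ := hPp ⟨q, hqP⟩
  have hk' : q ^ p ^ k = 1 := by
    have := congrArg Subtype.val hk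
    simpa using this
  have h5 : orderOf q ∣ p ^ k := orderOf_dvd_of_pow_eq_one hk'
  have h4 : orderOf q ∣ Nat.card Q := Subgroup.orderOf_dvd_natCard Q hq
  have h6 : orderOf q = 1 :=
    Nat.Coprime.eq_one_of_dvd (Nat.Coprime.pow_right k (Nat.Coprime.coprime_dvd_left h4 hcop)) h5
  exact orderOf_eq_one_iff.mp h6

end Cfsg.Agent.S1892
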