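import Cfsg.Statements.S1893
import Cfsg.Agent.Lib.helper39.FitQuad
import Cfsg.Agent.Lib.lead.Hall
import Cfsg.Agent.Lib.helper65.Fitting
import Cfsg.Agent.Lib.helper28.CoprimeLayer
import Cfsg.Agent.Lib.helper28.PCores
import Cfsg.Agent.Lib.helper27.Layer
import Cfsg.Agent.Lib.helper29.PSolv
import Cfsg.Agent.Lib.helper14.NoSection
import Cfsg.Agent.Lib.helper67.NoSL2Stable

set_option autoImplicit false
open Cfsg

namespace Cfsg.Agent.S1893

/-- Let S be a finite solvable group, π a set of primes containing neither 2 nor 3, H a Hall π-subgroup of S, and A a self-centralizing normal subgroup of the Fitting subgroup F(H). Then C_S(A) = A × D for a normal subgroup D of C_S(A) whose order has no prime divisor in π. -/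
theorem result {S : Type*} [Group S] [Finite S] [Group.IsSolvable S]
    (π : Set ℕ) (h2 : 2 ∉ π) (h3 : 3 ∉ π) (H : Subgroup S) (hH : Cfsg.IsPiHall π H)
    (A : Subgroup S) (hA : Cfsg.IsSCN ((Cfsg.fittingSubgroup H).map H.subtype) A) :
    ∃ D : Subgroup S, D ≤ Subgroup.centralizer (A : Set S) ∧
      (∀ c ∈ Subgroup.centralizer (A : Set S), ∀ d ∈ D, c * d * c⁻¹ ∈ D) ∧
      A ⊓ D = ⊥ ∧ A ⊔ D = Subgroup.centralizer (A : Set S) ∧
      ∀ q : ℕ, q.Prime → q ∣ Nat.card D → q ∉ π := by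
  classical
  -- the π'-core
  set N : Subgroup S := Cfsg.piCore πᶜ S with hNdef
  have hNπ : ∀ p : ℕ, p.Prime → p ∣ Nat.card N → p ∈ πᶜ :=
    Cfsg.Agent.Lib.helper65.piCore_isPiGrp πᶜ
  set FH : Subgroup S := (Cfsg.fittingSubgroup H).map H.subtype with hFH
  obtain ⟨hAF, hFA, hFC⟩ := hA
  have hFHH : FH ≤ H := Subgroup.map_subtype_le _
  have hAH : A ≤ H := hAF.trans hFHH
  have hAab : A ≤ Subgroup.centralizer (A : Set S) := by
    have : A ≤ FH ⊓ Subgroup.centralizer (A : Set S) := by rw [hFC]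
    exact this.trans inf_le_right
  have hcopHN : (Nat.card H).Coprime (Nat.card N) := by
    apply Nat.coprime_of_dvd
    intro k hk hkH hkN
    exact hNπ k hk hkN (hH.1 k hk hkH)
  have hHN : H ⊓ N = ⊥ := (Subgroup.disjoint_of_coprime_natCard hcopHN).eq_bot
  have hAN : A ⊓ N = ⊥ := by
    rw [eq_bot_iff, ← hHN]; exact inf_le_inf_right N hAH
  -- the quotient
  let f : S →* S ⧸ N := QuotientGroup.mk' N
  have hfker : ∀ s : S, f s = 1 ↔ s ∈ N := fun s => QuotientGroup.eq_one_iff s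
  have hfsurj : Function.Surjective f := QuotientGroup.mk'_surjective N
  -- Step 1: normal π'-subgroups of S/N are trivial
  have step1 : ∀ X : Subgroup (S ⧸ N), X.Normal →
      (∀ p : ℕ, p.Prime → p ∣ Nat.card X → p ∉ π) → X = ⊥ := by
    intro X hXn hXπ
    have h1 : X.comap f ≤ N := by
      apply le_sSup
      refine ⟨hXn.comap f, ?_⟩
      intro p hp hdvd
      rw [Cfsg.Agent.Lib.lead.card_comap_mk'] at hdvd
      rcases (Nat.Prime.dvd_mul hp).mp hdvd with h | h
      · exact hXπ p hp h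
      · exact hNπ p hp h
    rw [eq_bot_iff]
    intro x hx
    obtain ⟨s, rfl⟩ := hfsurj x
    have : s ∈ N := h1 hx
    rw [Subgroup.mem_bot]; exact (hfker s).mpr this
  -- Fitting subgroup of the quotient
  set FG : Subgroup (S ⧸ N) := Cfsg.fittingSubgroup (S ⧸ N) with hFG
  have hFGn : FG.Normal := Cfsg.Agent.Lib.helper28.fittingSubgroup_normal _
  have hpcore : ∀ p : ℕ, p.Prime → Cfsg.pCore p (S ⧸ N) ≠ ⊥ → p ∈ π := by
    intro p hp hne
    by_contra hpπ
    apply hne
    apply step1 _ (Cfsg.Agent.Lib.helper53.pCore_normal p _)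
    intro r hr hdvd
    have hpg := Cfsg.Agent.Lib.helper53.pCore_isPGroup p (S ⧸ N)
    haveI : Fact p.Prime := ⟨hp⟩
    obtain ⟨k, hk⟩ := IsPGroup.iff_card.mp hpg
    rw [hk] at hdvd
    have : r = p := (Nat.prime_dvd_prime_iff_eq hr hp).mp (hr.dvd_of_dvd_pow hdvd)
    rw [this]; exact hpπ
  have hFGπ : ∀ p : ℕ, p.Prime → p ∣ Nat.card FG → p ∈ π := by
    intro p hp hdvd
    by_contra hpπ
    haveI : Fact p.Prime := ⟨hp⟩
    have hbot : Cfsg.pCore p (S ⧸ N) = ⊥ := by
      by_contra hne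
      exact hpπ (hpcore p hp hne)
    have := Cfsg.Agent.Lib.helper28.fittingSubgroup_card_coprime_of_pCore_eq_bot hbot
    exact (Nat.Prime.coprime_iff_not_dvd hp).mp this.symm hdvd
  have hHbar : Cfsg.IsPiHall π (H.map f) := Cfsg.Agent.Lib.lead.isPiHall_map_mk hH N
  have hFGH : FG ≤ H.map f := Cfsg.Agent.Lib.lead.normal_le_of_isPiHall hHbar hFGπ
  -- Step 4: FG ≤ FH.map f
  have hFGFH : FG ≤ FH.map f := by
    let g : H →* S ⧸ N := f.comp H.subtype
    have hginj : Function.Injective g := by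
      rw [injective_iff_map_eq_one]
      intro h hh
      have h1 : (h : S) ∈ N := (hfker _).mp hh
      have h2 : (h : S) ∈ H ⊓ N := ⟨h.2, h1⟩
      rw [hHN, Subgroup.mem_bot] at h2
      exact Subtype.ext h2
    let X : Subgroup H := FG.comap g
    have hXn : X.Normal := hFGn.comap g
    have hXmap : X.map g ≤ FG := Subgroup.map_comap_le _ _
    have hnil1 : Group.IsNilpotent (X.map g) :=
      Cfsg.Agent.Lib.helper28.isNilpotent_of_le_fittingSubgroup hXmap
    have hnil : Group.IsNilpotent X :=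
      Group.nilpotent_of_mulEquiv (Subgroup.equivMapOfInjective X g hginj).symm
    have hXF : X ≤ Cfsg.fittingSubgroup H := Cfsg.Agent.Lib.helper28.le_fittingSubgroup hXn hnil
    intro x hx
    obtain ⟨s, hs, rfl⟩ := hFGH hx
    have hsX : (⟨s, hs⟩ : H) ∈ X := hx
    exact ⟨s, ⟨⟨s, hs⟩, hXF hsX, rfl⟩, rfl⟩
  -- key lifting lemma
  have hL : ∀ h' ∈ FH, ∀ y ∈ Subgroup.centralizer (A : Set S), f h' = f y → h' ∈ A := by
    intro h' hh' y hy hfe
    have hc : h' ∈ Subgroup.centralizer (A : Set S) := by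
      rw [Subgroup.mem_centralizer_iff]
      intro a ha
      have hn : h' * a * h'⁻¹ ∈ A := by
        have := hFA hh'
        rw [Subgroup.mem_normalizer_iff] at this
        exact (this a).mp ha
      have h1 : h' * a * h'⁻¹ * a⁻¹ ∈ A := mul_mem hn (inv_mem ha)
      have h2 : h' * a * h'⁻¹ * a⁻¹ ∈ N := by
        rw [← hfker]
        have e1 : f (h' * a * h'⁻¹ * a⁻¹) = f (y * a * y⁻¹ * a⁻¹) := by
          simp only [map_mul, map_inv, hfe]
        have e2 : y * a * y⁻¹ * a⁻¹ = 1 := by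
          rw [Subgroup.mem_centralizer_iff] at hy
          have := hy a ha
          rw [← this]; group
        rw [e1, e2, map_one]
      have h3 : h' * a * h'⁻¹ * a⁻¹ ∈ A ⊓ N := ⟨h1, h2⟩
      rw [hAN, Subgroup.mem_bot] at h3
      have : h' * a = a * h' := by
        calc h' * a = (h' * a * h'⁻¹ * a⁻¹) * (a * h') := by group
          _ = a * h' := by rw [h3, one_mul]
      exact this.symm
    have : h' ∈ FH ⊓ Subgroup.centralizer (A : Set S) := ⟨hh', hc⟩
    rwa [hFC] at this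
  -- the image of the centralizer acts quadratically
  let B : Subgroup (S ⧸ N) := (Subgroup.centralizer (A : Set S)).map f
  have hB1 : ⁅FG, B⁆ ≤ A.map f := by
    rw [Subgroup.commutator_le]
    intro x hx b hb
    obtain ⟨c, hc0, rfl⟩ := hb
    have hc : c ∈ Subgroup.centralizer (A : Set S) := hc0
    obtain ⟨h, hh0, rfl⟩ := hFGFH hx
    have hh : h ∈ FH := hh0
    rw [commutatorElement_def]
    have hcomm : f h * f c * (f h)⁻¹ * (f c)⁻¹ ∈ FG := by
      have h1 : f c * (f h)⁻¹ * (f c)⁻¹ ∈ FG := hFGn.conj_mem _ (inv_mem hx) _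
      have h2 : f h * f c * (f h)⁻¹ * (f c)⁻¹ = f h * (f c * (f h)⁻¹ * (f c)⁻¹) := by group
      rw [h2]; exact mul_mem hx h1
    obtain ⟨h', hh'0, hfe⟩ := hFGFH hcomm
    have hh' : h' ∈ FH := hh'0
    have hy : h * c * h⁻¹ * c⁻¹ ∈ Subgroup.centralizer (A : Set S) := by
      have h1 : h * c * h⁻¹ ∈ Subgroup.centralizer (A : Set S) := by
        rw [Subgroup.mem_centralizer_iff]
        intro a ha
        have hn : h⁻¹ * a * h ∈ A := by
          have := hFA hh
          rw [Subgroup.mem_normalizer_iff] at this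
          have h3 := (this (h⁻¹ * a * h)).mpr (by
            have : h * (h⁻¹ * a * h) * h⁻¹ = a := by group
            rw [this]; exact ha)
          exact h3
        have hc2 := hc
        rw [Subgroup.mem_centralizer_iff] at hc2
        have := hc2 _ hn
        calc a * (h * c * h⁻¹) = h * ((h⁻¹ * a * h) * c) * h⁻¹ := by group
          _ = h * (c * (h⁻¹ * a * h)) * h⁻¹ := by rw [this]
          _ = h * c * h⁻¹ * a := by group
      exact mul_mem h1 (inv_mem hc)
    have hfe' : f h' = f (h * c * h⁻¹ * c⁻¹) := by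
      rw [hfe]; simp only [map_mul, map_inv]
    have := hL h' hh' _ hy hfe'
    exact ⟨h', this, hfe⟩
  have hB2 : ⁅A.map f, B⁆ = ⊥ := by
    rw [eq_bot_iff, Subgroup.commutator_le]
    intro x hx b hb
    obtain ⟨a, ha0, rfl⟩ := hx
    have ha : a ∈ A := ha0
    obtain ⟨c, hc0, rfl⟩ := hb
    have hc : c ∈ Subgroup.centralizer (A : Set S) := hc0
    rw [Subgroup.mem_bot, commutatorElement_def]
    rw [Subgroup.mem_centralizer_iff] at hc
    have := hc a ha
    rw [← map_mul, this, map_mul]; group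
  have hB : ⁅⁅FG, B⁆, B⁆ = ⊥ := by
    rw [eq_bot_iff, ← hB2]
    exact Subgroup.commutator_mono hB1 le_rfl
  -- hypotheses of the quadratic-action lemma
  have hFcent : Subgroup.centralizer (FG : Set (S ⧸ N)) ≤ FG :=
    Cfsg.Agent.Lib.helper28.centralizer_fittingSubgroup_le_iff.mpr
      Cfsg.Agent.Lib.helper27.layer_eq_bot_of_isSolvable
  have hst : ∀ (p : ℕ) [Fact p.Prime] (hn : (Cfsg.pCore p (S ⧸ N)).Normal),
      Cfsg.pCore p (S ⧸ N) ≠ ⊥ → @Cfsg.IsPStableOn (S ⧸ N) _ p (Cfsg.pCore p (S ⧸ N)) hn := by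
    intro p hp hn hne
    have hpπ := hpcore p hp.out hne
    have hp2 : p ≠ 2 := fun h => h2 (h ▸ hpπ)
    have hp3 : p ≠ 3 := fun h => h3 (h ▸ hpπ)
    have hp5 : 5 ≤ p := Nat.Prime.five_le_of_ne_two_of_ne_three hp.out hp2 hp3
    exact Cfsg.Agent.Lib.helper67.isPStableOn_of_noSL2 p hp2
      (Cfsg.Agent.Lib.helper14.noSL2Section_of_isPSolvable p hp5
        (Cfsg.Agent.Lib.helper29.isPSolvable_of_isSolvable p inferInstance))
      (Cfsg.pCore p (S ⧸ N)) (Cfsg.Agent.Lib.helper53.pCore_isPGroup p _)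
  have hBF : B ≤ FG := Cfsg.Agent.Lib.helper39.le_fitting_of_quadratic hFcent hst B hB
  -- main claim
  have hmain : ∀ c ∈ Subgroup.centralizer (A : Set S), ∃ a ∈ A, a⁻¹ * c ∈ N := by
    intro c hc
    have h1 : f c ∈ FG := hBF ⟨c, hc, rfl⟩
    obtain ⟨h, hh, hfe⟩ := hFGFH h1
    have hhA : h ∈ A := hL h hh c hc hfe
    refine ⟨h, hhA, ?_⟩
    rw [← hfker, map_mul, map_inv, hfe]; simp
  -- conclusion
  refine ⟨N ⊓ Subgroup.centralizer (A : Set S), inf_le_right, ?_, ?_, ?_, ?_⟩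
  · intro c hc d hd
    have hd1 : d ∈ N := hd.1
    have hd2 : d ∈ Subgroup.centralizer (A : Set S) := hd.2
    exact ⟨(inferInstance : N.Normal).conj_mem d hd1 c,
      Subgroup.mul_mem _ (Subgroup.mul_mem _ hc hd2) (Subgroup.inv_mem _ hc)⟩
  · rw [eq_bot_iff, ← hAN]
    exact inf_le_inf_left A inf_le_left
  · apply le_antisymm
    · exact sup_le hAab inf_le_right
    · intro c hc
      obtain ⟨a, ha, han⟩ := hmain c hc
      have : c = a * (a⁻¹ * c) := by group
      rw [this]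
      have hmem : a⁻¹ * c ∈ N ⊓ Subgroup.centralizer (A : Set S) :=
        ⟨han, Subgroup.mul_mem _ (Subgroup.inv_mem _ (hAab ha)) hc⟩
      exact Subgroup.mul_mem_sup ha hmem
  · intro q hq hdvd hqπ
    have h1 : Nat.card (N ⊓ Subgroup.centralizer (A : Set S) : Subgroup S) ∣ Nat.card N :=
      Subgroup.card_dvd_of_le inf_le_left
    exact hNπ q hq (hdvd.trans h1) hqπ

end Cfsg.Agent.S1893
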