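import Cfsg.Statements.S1894
import Cfsg.Agent.Lib.helper38.PGroupNormal

set_option autoImplicit false
open Cfsg

namespace Cfsg.Agent.S1894

/-- Let P be a finite p-group, A a normal subgroup of P and B an abelian subgroup of A that is normal in P. Then some subgroup C of A containing B is normal in P and is self-centralizing and normal in A (C ∈ SCN(A)). -/
theorem result {P : Type*} [Group P] [Finite P] {p : ℕ} [Fact p.Prime] (hP : IsPGroup p P)
    (A : Subgroup P) [A.Normal] (B : Subgroup P) [B.Normal] (hBA : B ≤ A) (hB : IsMulCommutative B) :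
    ∃ C : Subgroup P, C.Normal ∧ B ≤ C ∧ Cfsg.IsSCN A C := by
  classical
  have hB𝒮 : B ∈ {C : Subgroup P | C.Normal ∧ B ≤ C ∧ C ≤ A ∧ C ≤ Subgroup.centralizer (C : Set P)} :=
    ⟨inferInstance, le_rfl, hBA, Subgroup.le_centralizer_iff_isMulCommutative.mpr hB⟩
  obtain ⟨C, hBC, hCmax⟩ := (Set.toFinite {C : Subgroup P | C.Normal ∧ B ≤ C ∧ C ≤ A ∧
    C ≤ Subgroup.centralizer (C : Set P)}).exists_le_maximal hB𝒮
  obtain ⟨hCn, -, hCA, hCab⟩ := hCmax.prop
  refine ⟨C, hCn, hBC, hCA, ?_, ?_⟩
  · rw [Subgroup.normalizer_eq_top]; exact le_top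
  · apply le_antisymm
    · by_contra hDC
      obtain ⟨x, hxD, hxC, hx⟩ := Cfsg.Agent.Lib.helper38.exists_central_mod_of_normal hP C
        (A ⊓ Subgroup.centralizer (C : Set P)) hDC
      have hxcen : ∀ h ∈ C, h * x = x * h := fun h hh => (Subgroup.mem_centralizer_iff.mp hxD.2) h hh
      have hnorm : (C ⊔ Subgroup.zpowers x).Normal := by
        constructor
        intro n hn g
        have key : (C ⊔ Subgroup.zpowers x).map (MulAut.conj g).toMonoidHom ≤ C ⊔ Subgroup.zpowers x := by
          rw [Subgroup.map_sup, sup_le_iff]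
          constructor
          · rintro _ ⟨c, hc, rfl⟩
            exact Subgroup.mem_sup_left (hCn.conj_mem c hc g)
          · rw [MonoidHom.map_zpowers, Subgroup.zpowers_le]
            have e : g * x * g⁻¹ = x * (x⁻¹ * (g * x * g⁻¹)) := by group
            show g * x * g⁻¹ ∈ C ⊔ Subgroup.zpowers x
            rw [e]
            exact Subgroup.mul_mem _ (Subgroup.mem_sup_right (Subgroup.mem_zpowers x))
              (Subgroup.mem_sup_left (hx g))
        exact key ⟨n, hn, rfl⟩
      have hcl : Subgroup.closure ((C : Set P) ∪ {x}) = C ⊔ Subgroup.zpowers x := by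
        rw [Subgroup.closure_union, Subgroup.closure_eq, Subgroup.zpowers_eq_closure]
      have hcomm : IsMulCommutative (Subgroup.closure ((C : Set P) ∪ {x})) := by
        apply Subgroup.isMulCommutative_closure
        rintro a (ha | ha) b (hb | hb)
        · exact (Subgroup.mem_centralizer_iff.mp (hCab hb)) a ha
        · rw [Set.mem_singleton_iff] at hb; subst hb; exact hxcen a ha
        · rw [Set.mem_singleton_iff] at ha; subst ha; exact (hxcen b hb).symm
        · rw [Set.mem_singleton_iff] at ha hb; subst ha; subst hb; rfl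
      rw [hcl] at hcomm
      have hC' : (C ⊔ Subgroup.zpowers x) ∈ {C : Subgroup P | C.Normal ∧ B ≤ C ∧ C ≤ A ∧
          C ≤ Subgroup.centralizer (C : Set P)} :=
        ⟨hnorm, le_sup_of_le_left hBC, sup_le hCA ((Subgroup.zpowers_le).mpr hxD.1),
          Subgroup.le_centralizer_iff_isMulCommutative.mpr hcomm⟩
      have hle := hCmax.le_of_ge hC' le_sup_left
      exact hxC (hle (Subgroup.mem_sup_right (Subgroup.mem_zpowers x)))
    · exact le_inf hCA hCab

end Cfsg.Agent.S1894
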