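import Cfsg.Statements.S1895
import Cfsg.Agent.Lib.helper30.ChiefRankTwo

set_option autoImplicit false
open Cfsg

namespace Cfsg.Agent.S1895

/-- If `g` normalizes `A` and `K` is normal, then `g` normalizes `A ⊔ K`. -/
theorem mem_normalizer_sup_normal {G : Type*} [Group G] (A K : Subgroup G) [hK : K.Normal] (g : G)
    (hg : g ∈ Subgroup.normalizer (A : Set G)) :
    g ∈ Subgroup.normalizer ((A ⊔ K : Subgroup G) : Set G) := by
  have key : ∀ g : G, g ∈ Subgroup.normalizer (A : Set G) →
      ∀ x ∈ A ⊔ K, g * x * g⁻¹ ∈ A ⊔ K := by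
    intro g hg x hx
    rw [Subgroup.mem_sup_of_normal_right] at hx
    obtain ⟨a, ha, k, hk, rfl⟩ := hx
    have h1 : g * a * g⁻¹ ∈ A := (Subgroup.mem_normalizer_iff.mp hg a).mp ha
    have h2 : g * k * g⁻¹ ∈ K := hK.conj_mem k hk g
    have e : g * (a * k) * g⁻¹ = (g * a * g⁻¹) * (g * k * g⁻¹) := by group
    rw [e]
    exact mul_mem (Subgroup.mem_sup_left h1) (Subgroup.mem_sup_right h2)
  rw [Subgroup.mem_normalizer_iff]
  intro x
  constructor
  · exact key g hg x
  · intro hx
    have h := key g⁻¹ (inv_mem hg) _ hx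
    rw [inv_inv] at h
    have e : g⁻¹ * (g * x * g⁻¹) * g = x := by group
    rwa [e] at h

/-- Let p be an odd prime and G a finite p-solvable group with no elementary abelian subgroup of order p³. Then every chief factor H/K of G (H, K normal in G with no normal subgroup of G strictly between them) whose order is a power of p has order p or p². -/
theorem result {G : Type*} [Group G] [Finite G] {p : ℕ} [Fact p.Prime] (hp : p ≠ 2)
    (hG : Cfsg.IsPSolvable p G) (hr : Cfsg.PRankLE p 2 G)
    (H K : Subgroup G) [H.Normal] [K.Normal] (hKH : K < H) (hpow : ∃ n : ℕ, K.relIndex H = p ^ n)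
    (hchief : ∀ L : Subgroup G, L.Normal → K ≤ L → L ≤ H → L = K ∨ L = H) :
    K.relIndex H = p ∨ K.relIndex H = p ^ 2 := by
  have hpp : p.Prime := Fact.out
  obtain ⟨n, hn⟩ := hpow
  obtain ⟨Rs⟩ : Nonempty (Sylow p ↥H) := inferInstance
  obtain ⟨R, hRdef⟩ : ∃ R : Subgroup G, R = (Rs : Subgroup H).map H.subtype := ⟨_, rfl⟩
  have hRH : R ≤ H := by rw [hRdef]; exact Subgroup.map_subtype_le _
  have hfr : Subgroup.normalizer (R : Set G) ⊔ H = ⊤ := by
    rw [hRdef]; exact Sylow.normalizer_sup_eq_top Rs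
  have hRp : IsPGroup p R := by rw [hRdef]; exact Rs.2.map H.subtype
  have hidx : ¬ p ∣ R.relIndex H := by
    have h := Rs.not_dvd_index
    have h2 : R.relIndex H = (Rs : Subgroup H).index := by
      rw [Subgroup.relIndex, hRdef]
      congr 1
      exact Subgroup.comap_map_eq_self_of_injective H.subtype_injective _
    rwa [h2]
  have hHKR : H ≤ K ⊔ R := by
    rw [← Subgroup.relIndex_eq_one]
    have h1 : (K ⊔ R).relIndex H ∣ K.relIndex H := Subgroup.relIndex_dvd_of_le_left H le_sup_left
    have h2 : (K ⊔ R).relIndex H ∣ R.relIndex H := Subgroup.relIndex_dvd_of_le_left H le_sup_right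
    rw [hn] at h1
    obtain ⟨j, hj, hj2⟩ := (Nat.dvd_prime_pow hpp).mp h1
    rcases Nat.eq_zero_or_pos j with rfl | hjpos
    · simpa using hj2
    · exfalso
      apply hidx
      rw [hj2] at h2
      exact (dvd_pow_self p hjpos.ne').trans h2
  have hKRH : K ⊔ R = H := le_antisymm (sup_le hKH.le hRH) hHKR
  have hidx2 : K.relIndex H = (K.subgroupOf R).index := by
    rw [← hKRH, Subgroup.relIndex_sup_left]
    rfl
  have hNK : Subgroup.normalizer (R : Set G) ⊔ K = ⊤ := by
    rw [eq_top_iff, ← hfr]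
    refine sup_le le_sup_left ?_
    rw [← hKRH]
    exact sup_le le_sup_right (Subgroup.le_normalizer.trans le_sup_left)
  have hchar : ∀ L : Subgroup ↥R, L.Characteristic →
      L ≤ K.subgroupOf R ∨ L ⊔ K.subgroupOf R = ⊤ := by
    intro L hL
    obtain ⟨L', hL'⟩ : ∃ L' : Subgroup G, L' = L.map R.subtype := ⟨_, rfl⟩
    have hL'R : L' ≤ R := by rw [hL']; exact Subgroup.map_subtype_le _
    have hnorm : Subgroup.normalizer (R : Set G) ≤ Subgroup.normalizer (L' : Set G) := by
      rw [hL']
      exact Cfsg.Agent.Lib.helper30.normalizer_le_normalizer_map_char R L hL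
    have hLKn : (L' ⊔ K).Normal := by
      rw [← Subgroup.normalizer_eq_top_iff, eq_top_iff, ← hNK]
      refine sup_le ?_ ?_
      · intro g hg
        exact mem_normalizer_sup_normal L' K g (hnorm hg)
      · exact le_sup_right.trans Subgroup.le_normalizer
    rcases hchief (L' ⊔ K) hLKn le_sup_right (sup_le (hL'R.trans hRH) hKH.le) with h | h
    · left
      intro l hl
      rw [Subgroup.mem_subgroupOf]
      have h1 : (l : G) ∈ L' := by rw [hL']; exact Subgroup.mem_map_of_mem _ hl
      have h2 : (l : G) ∈ L' ⊔ K := Subgroup.mem_sup_left h1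
      rwa [h] at h2
    · right
      rw [eq_top_iff]
      intro r _
      have hr' : (r : G) ∈ L' ⊔ K := by rw [h]; exact hRH r.2
      rw [Subgroup.mem_sup_of_normal_right] at hr'
      obtain ⟨l, hl, k, hk, hlk⟩ := hr'
      rw [hL'] at hl
      obtain ⟨l₀, hl₀, rfl⟩ := hl
      have hkR : k ∈ R := by
        have e : k = ((l₀ : ↥R) : G)⁻¹ * r := by rw [← hlk]; simp
        rw [e]
        exact mul_mem (inv_mem l₀.2) r.2
      have e2 : r = l₀ * ⟨k, hkR⟩ := Subtype.ext hlk.symm
      rw [e2]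
      exact mul_mem (Subgroup.mem_sup_left hl₀)
        (Subgroup.mem_sup_right (Subgroup.mem_subgroupOf.mpr hk))
  have hrR : Cfsg.PRankLE p 2 ↥R := Cfsg.Agent.Lib.helper30.prankLE_subgroup p 2 R hr
  have hle := Cfsg.Agent.Lib.helper30.index_le_sq_of_char_supplement p hp hRp hrR
    (K.subgroupOf R) hchar
  rw [← hidx2, hn] at hle
  have hn2 : n ≤ 2 := (Nat.pow_le_pow_iff_right hpp.one_lt).mp hle
  have hn0 : n ≠ 0 := by
    rintro rfl
    rw [pow_zero, Subgroup.relIndex_eq_one] at hn
    exact absurd hn (not_le_of_gt hKH)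
  rw [hn]
  interval_cases n
  · exact absurd rfl hn0
  · left; simp
  · right; rfl

end Cfsg.Agent.S1895
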