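import Cfsg.Statements.S1896
import Cfsg.Agent.Lib.helper38.MetaAut
import Cfsg.Agent.Lib.helper32.CyclicTI2
import Cfsg.Agent.Lib.helper73.Quaternion
import Cfsg.Agent.Lib.helper3.PGroupFrattini

set_option autoImplicit false
open Cfsg

namespace Cfsg.Agent.S1896

open Cfsg.Agent.Lib in
/-- A finite metacyclic 2-group whose automorphism group is not a 2-group is isomorphic to the quaternion group of order 8 or to a homocyclic abelian group Z_{2^n} × Z_{2^n}. -/
theorem result {X : Type*} [Group X] [Finite X] (hX : IsPGroup 2 X)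
    (hm : Cfsg.IsMetacyclic X) (hA : ¬ IsPGroup 2 (MulAut X)) :
    Nonempty (X ≃* QuaternionGroup 2) ∨
      ∃ n : ℕ, Nonempty (X ≃* Multiplicative (ZMod (2 ^ n)) × Multiplicative (ZMod (2 ^ n))) := by
  classical
  haveI : Fact (Nat.Prime 2) := ⟨Nat.prime_two⟩
  -- an automorphism of odd prime order
  obtain ⟨q, hq, hq2, α, hαq, hα1⟩ :
      ∃ q : ℕ, q.Prime ∧ q ≠ 2 ∧ ∃ α : MulAut X, α ^ q = 1 ∧ α ≠ 1 := by
    by_contra hcon
    apply hA
    have hcard : Nat.card (MulAut X) ≠ 0 := Nat.card_pos.ne'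
    have := Nat.eq_prime_pow_of_unique_prime_dvd (p := 2) hcard (by
      intro d hd hdvd
      by_contra hd2
      haveI : Fact d.Prime := ⟨hd⟩
      obtain ⟨α, hα⟩ := exists_prime_orderOf_dvd_card' d hdvd
      exact hcon ⟨d, hd, hd2, α, by rw [← hα, pow_orderOf_eq_one], by
        intro h; rw [h, orderOf_one] at hα; exact hd.one_lt.ne hα⟩)
    exact IsPGroup.of_card this
  haveI : Fact q.Prime := ⟨hq⟩
  have hΦn : (frattini X).Normal := Subgroup.normal_of_characteristic _
  -- metacyclic data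
  obtain ⟨N, hN, hNc, hXN⟩ := hm
  obtain ⟨a, ha⟩ : ∃ a : X, Subgroup.zpowers a = N := by
    obtain ⟨⟨g, hgN⟩, hg⟩ := hNc.exists_generator
    refine ⟨g, le_antisymm ?_ ?_⟩
    · rw [Subgroup.zpowers_le]; exact hgN
    · intro x hx
      obtain ⟨i, hi⟩ := Subgroup.mem_zpowers_iff.mp (hg ⟨x, hx⟩)
      have h1 := congrArg Subtype.val hi
      rw [Subgroup.coe_zpow] at h1
      have h2 : g ^ i = x := h1
      rw [← h2]
      exact Subgroup.zpow_mem_zpowers g i
  subst ha
  obtain ⟨xb, hxb⟩ := hXN.exists_generator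
  obtain ⟨x0, rfl⟩ := QuotientGroup.mk_surjective xb
  have hgen : Subgroup.closure ({a, x0} : Set X) = ⊤ := by
    rw [eq_top_iff]
    intro y _
    obtain ⟨i, hi⟩ := Subgroup.mem_zpowers_iff.mp (hxb (y : X ⧸ Subgroup.zpowers a))
    rw [← QuotientGroup.mk_zpow, QuotientGroup.eq] at hi
    have h1 : y = x0 ^ i * ((x0 ^ i)⁻¹ * y) := by group
    rw [h1]
    apply mul_mem
    · exact Subgroup.zpow_mem _ (Subgroup.subset_closure (by simp)) i
    · have : Subgroup.zpowers a ≤ Subgroup.closure ({a, x0} : Set X) := by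
        rw [Subgroup.zpowers_le]; exact Subgroup.subset_closure (by simp)
      exact this hi
  have hd : (frattini X).index ∣ 4 := by
    have h1 := helper69.index_frattini_dvd_pow hX ({a, x0} : Finset X) (by
      rw [Finset.coe_insert, Finset.coe_singleton]; exact hgen)
    exact h1.trans (by
      have : (4 : ℕ) = 2 ^ 2 := by norm_num
      rw [this]; exact pow_dvd_pow 2 Finset.card_le_two)
  obtain ⟨hidx, hfix⟩ := helper38.frattini_fixed_structure hq2 hX hd α hαq hα1
  have hchar : ∀ y : X, α y ∈ frattini X ↔ y ∈ frattini X := by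
    intro y
    have := (frattini_characteristic (G := X)).fixed α
    conv_rhs => rw [← this]
    rfl
  have hsq : ∀ y : X, y ^ 2 ∈ frattini X := fun y => helper3.pow_prime_mem_frattini hX y
  have hcm : ∀ x y : X, x * y * x⁻¹ * y⁻¹ ∈ frattini X := by
    intro x y
    have := helper3.commutator_le_frattini hX
      (Subgroup.commutator_mem_commutator (Subgroup.mem_top x) (Subgroup.mem_top y))
    rwa [commutatorElement_def] at this
  have hconj : ∀ (x : X) (y : X), y ∈ frattini X → x * y * x⁻¹ ∈ frattini X :=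
    fun x y hy => hΦn.conj_mem y hy x
  have hpow : ∀ (c : X) (i : ℕ), Even i → c ^ i ∈ frattini X := by
    intro c i hi
    obtain ⟨t, rfl⟩ := hi
    rw [← two_mul, mul_comm, pow_mul]
    exact hsq _
  have H1 : ∀ (c φ : X) (i : ℕ), φ ∈ frattini X →
      c ^ i * φ ∈ frattini X ∨ c ^ i * φ * c⁻¹ ∈ frattini X := by
    intro c φ i hφ
    rcases Nat.even_or_odd i with hi | hi
    · exact Or.inl (mul_mem (hpow c i hi) hφ)
    · right
      obtain ⟨t, rfl⟩ := hi
      have : c ^ (2 * t + 1) * φ * c⁻¹ = c ^ (2 * t) * (c * φ * c⁻¹) := by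
        rw [pow_succ]; group
      rw [this]
      exact mul_mem (hpow c _ (even_two_mul t)) (hconj c φ hφ)
  have haΦ : a ∉ frattini X := by
    intro h
    have h1 : Subgroup.closure ({x0} : Set X) ⊔ frattini X = ⊤ := by
      rw [eq_top_iff, ← hgen, Subgroup.closure_le]
      intro y hy
      rcases hy with hy | hy
      · rw [hy]; exact Subgroup.mem_sup_right h
      · exact Subgroup.mem_sup_left (Subgroup.subset_closure hy)
    have h2 := frattini_nongenerating h1
    have h3 := helper69.index_frattini_dvd_pow hX ({x0} : Finset X) (by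
      rw [Finset.coe_singleton]; exact h2)
    rw [hidx, Finset.card_singleton] at h3
    norm_num at h3
  obtain ⟨b, hb⟩ : ∃ b, b = α a := ⟨_, rfl⟩
  obtain ⟨g, hg⟩ : ∃ g, g = α b := ⟨_, rfl⟩
  have hbΦ : b ∉ frattini X := by rw [hb]; exact fun h => haΦ ((hchar a).mp h)
  have hba : b * a⁻¹ ∉ frattini X := by rw [hb]; exact fun h => haΦ (hfix a h)
  have hgΦ : g ∉ frattini X := by rw [hg]; exact fun h => hbΦ ((hchar b).mp h)
  have hgb : g * b⁻¹ ∉ frattini X := by rw [hg]; exact fun h => hbΦ (hfix b h)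
  have hga : g * a⁻¹ ∉ frattini X := by
    intro h
    have h1 : α (a * b) * (a * b)⁻¹ ∈ frattini X := by
      have : α (a * b) * (a * b)⁻¹ = (b * (g * a⁻¹) * b⁻¹) * (b * a * b⁻¹ * a⁻¹) := by
        rw [map_mul, ← hb, ← hg]; group
      rw [this]
      exact mul_mem (hconj b _ h) (hcm b a)
    have h2 := hfix _ h1
    apply hba
    have : b * a⁻¹ = (a⁻¹ * (a * b) * a⁻¹⁻¹) * (a⁻¹) ^ 2 := by group
    rw [this]
    exact mul_mem (hconj a⁻¹ _ h2) (hsq _)
  have hNn : (Subgroup.zpowers a).Normal := hN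
  have hMn : (Subgroup.zpowers b).Normal := by
    have := hNn.map α.toMonoidHom α.surjective
    rw [MonoidHom.map_zpowers] at this
    rw [hb]; exact this
  have hbK : b ∉ Subgroup.zpowers a ⊔ frattini X := by
    intro h
    have h1 : b ∈ ((Subgroup.zpowers a ⊔ frattini X : Subgroup X) : Set X) := h
    rw [Subgroup.mul_normal] at h1
    obtain ⟨n, hn, φ, hφ, hnφ⟩ := Set.mem_mul.mp h1
    obtain ⟨i, rfl⟩ := (Submonoid.mem_powers_iff _ _).mp
      ((isOfFinOrder_of_finite a).mem_powers_iff_mem_zpowers.mpr hn)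
    rcases H1 a φ i hφ with h2 | h2
    · rw [hnφ] at h2; exact hbΦ h2
    · rw [hnφ] at h2; exact hba h2
  have hNM : Subgroup.zpowers a ⊔ Subgroup.zpowers b = ⊤ := by
    apply frattini_nongenerating
    apply Subgroup.eq_top_of_le_card
    have c1 := helper38.two_mul_card_le_card
      (le_sup_right : frattini X ≤ Subgroup.zpowers a ⊔ frattini X) a
      (Subgroup.mem_sup_left (Subgroup.mem_zpowers a)) haΦ
    have c2 := helper38.two_mul_card_le_card (H := Subgroup.zpowers a ⊔ frattini X)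
      (K := Subgroup.zpowers a ⊔ Subgroup.zpowers b ⊔ frattini X)
      (sup_le (le_sup_of_le_left le_sup_left) le_sup_right) b
      (Subgroup.mem_sup_left (Subgroup.mem_sup_right (Subgroup.mem_zpowers b))) hbK
    have c3 := (frattini X).card_mul_index
    rw [hidx] at c3
    omega
  have hgdec : ∃ i j : ℕ, g = a ^ i * b ^ j := by
    have h1 : g ∈ ((Subgroup.zpowers a ⊔ Subgroup.zpowers b : Subgroup X) : Set X) := by
      rw [hNM]; exact Set.mem_univ g
    rw [Subgroup.mul_normal] at h1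
    obtain ⟨n, hn, n', hn', h⟩ := Set.mem_mul.mp h1
    obtain ⟨i, rfl⟩ := (Submonoid.mem_powers_iff _ _).mp
      ((isOfFinOrder_of_finite a).mem_powers_iff_mem_zpowers.mpr hn)
    obtain ⟨j, rfl⟩ := (Submonoid.mem_powers_iff _ _).mp
      ((isOfFinOrder_of_finite b).mem_powers_iff_mem_zpowers.mpr hn')
    exact ⟨i, j, h.symm⟩
  obtain ⟨i, j, hgij⟩ := hgdec
  have hj : Odd j := by
    by_contra hj
    rw [Nat.not_odd_iff_even] at hj
    rcases H1 a (b ^ j) i (hpow b j hj) with h | h
    · rw [← hgij] at h; exact hgΦ h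
    · rw [← hgij] at h; exact hga h
  have hi : Odd i := by
    by_contra hi
    rw [Nat.not_odd_iff_even] at hi
    have h1 : g = b ^ j * ((b ^ j)⁻¹ * a ^ i * (b ^ j)⁻¹⁻¹) := by rw [hgij]; group
    rcases H1 b _ j (hconj (b ^ j)⁻¹ _ (hpow a i hi)) with h | h
    · rw [← h1] at h; exact hgΦ h
    · rw [← h1] at h; exact hgb h
  obtain ⟨m, hm⟩ := (IsPGroup.iff_orderOf.mp hX) a
  have hob : orderOf b = 2 ^ m := by rw [hb, MulEquiv.orderOf_eq, hm]
  have hog : orderOf g = 2 ^ m := by rw [hg, MulEquiv.orderOf_eq, hob]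
  obtain ⟨a', ha'⟩ : ∃ a', a' = a ^ i := ⟨_, rfl⟩
  obtain ⟨b', hb'⟩ : ∃ b', b' = b ^ j := ⟨_, rfl⟩
  have hcopi : (orderOf a).Coprime i := by
    rw [hm]; exact Nat.Coprime.pow_left _ (Nat.coprime_two_left.mpr hi)
  have hcopj : (orderOf b).Coprime j := by
    rw [hob]; exact Nat.Coprime.pow_left _ (Nat.coprime_two_left.mpr hj)
  have hoa' : orderOf a' = 2 ^ m := by rw [ha', hcopi.orderOf_pow, hm]
  have hob' : orderOf b' = 2 ^ m := by rw [hb', hcopj.orderOf_pow, hob]
  have hoab : orderOf (a' * b') = 2 ^ m := by rw [ha', hb', ← hgij, hog]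
  have hZa : Subgroup.zpowers a' = Subgroup.zpowers a := by
    apply le_antisymm
    · rw [Subgroup.zpowers_le, ha']; exact Subgroup.pow_mem _ (Subgroup.mem_zpowers a) _
    · rw [Subgroup.zpowers_le]
      obtain ⟨r, hr⟩ := exists_pow_eq_self_of_coprime hcopi.symm
      rw [← hr, ← ha']; exact Subgroup.pow_mem _ (Subgroup.mem_zpowers a') _
  have hZb : Subgroup.zpowers b' = Subgroup.zpowers b := by
    apply le_antisymm
    · rw [Subgroup.zpowers_le, hb']; exact Subgroup.pow_mem _ (Subgroup.mem_zpowers b) _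
    · rw [Subgroup.zpowers_le]
      obtain ⟨r, hr⟩ := exists_pow_eq_self_of_coprime hcopj.symm
      rw [← hr, ← hb']; exact Subgroup.pow_mem _ (Subgroup.mem_zpowers b') _
  by_cases hD : Subgroup.zpowers a ⊓ Subgroup.zpowers b = ⊥
  · right
    refine ⟨m, ?_⟩
    have hcomm : ∀ x ∈ Subgroup.zpowers a, ∀ y ∈ Subgroup.zpowers b, x * y = y * x :=
      fun x hx y hy =>
        (Subgroup.commute_of_normal_of_disjoint _ _ hNn hMn (disjoint_iff.mpr hD) x y hx hy).eq
    have e0 := helper32.supMulEquiv (Subgroup.zpowers a) (Subgroup.zpowers b) hD hcomm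
    have e1 : ↥(Subgroup.zpowers a ⊔ Subgroup.zpowers b) ≃* X :=
      (MulEquiv.subgroupCongr hNM).trans Subgroup.topEquiv
    have c1 : Nat.card (Subgroup.zpowers a) = 2 ^ m := by rw [Nat.card_zpowers, hm]
    have c2 : Nat.card (Subgroup.zpowers b) = 2 ^ m := by rw [Nat.card_zpowers, hob]
    have f1 := zmodCyclicMulEquiv (inferInstance : IsCyclic (Subgroup.zpowers a))
    have f2 := zmodCyclicMulEquiv (inferInstance : IsCyclic (Subgroup.zpowers b))
    rw [c1] at f1
    rw [c2] at f2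
    exact ⟨(e1.symm.trans e0.symm).trans (MulEquiv.prodCongr f1.symm f2.symm)⟩
  · left
    obtain ⟨y, hyD, hy1⟩ : ∃ y ∈ Subgroup.zpowers a ⊓ Subgroup.zpowers b, y ≠ 1 := by
      by_contra hcon
      push Not at hcon
      exact hD ((Subgroup.eq_bot_iff_forall _).mpr hcon)
    obtain ⟨r, hr⟩ := (IsPGroup.iff_orderOf.mp hX) y
    have hr1 : 1 ≤ r := by
      by_contra h
      have : r = 0 := by omega
      rw [this, pow_zero, orderOf_eq_one_iff] at hr
      exact hy1 hr
    obtain ⟨t, ht⟩ : ∃ t, t = y ^ (2 ^ (r - 1)) := ⟨_, rfl⟩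
    have htD : t ∈ Subgroup.zpowers a ⊓ Subgroup.zpowers b := by
      rw [ht]; exact Subgroup.pow_mem _ hyD _
    have ht1 : t ≠ 1 := by
      rw [ht]; intro h
      have h1 := orderOf_dvd_of_pow_eq_one h
      rw [hr] at h1
      have h2 := (Nat.pow_dvd_pow_iff_le_right (by norm_num : 1 < 2)).mp h1
      omega
    have ht2 : t ^ 2 = 1 := by
      rw [ht, ← pow_mul, ← pow_succ, Nat.sub_add_cancel hr1, ← hr, pow_orderOf_eq_one]
    have hta := helper38.involution_of_mem_zpowers a' t m hoa' (hZa ▸ htD.1) ht1 ht2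
    have htb := helper38.involution_of_mem_zpowers b' t m hob' (hZb ▸ htD.2) ht1 ht2
    have hne : b' ∉ Subgroup.zpowers a' := by
      intro h
      apply hbK
      rw [hZa] at h
      have h1 : b ∈ Subgroup.zpowers b' := by rw [hZb]; exact Subgroup.mem_zpowers b
      exact Subgroup.mem_sup_left ((Subgroup.zpowers_le.mpr h) h1)
    have hNa : b' * a' * b'⁻¹ ∈ Subgroup.zpowers a' := by
      rw [hZa]; exact hNn.conj_mem _ (hZa ▸ Subgroup.mem_zpowers a') _
    have hNb : a' * b' * a'⁻¹ ∈ Subgroup.zpowers b' := by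
      rw [hZb]; exact hMn.conj_mem _ (hZb ▸ Subgroup.mem_zpowers b') _
    obtain ⟨q1, q2, q3, q4⟩ := helper38.quaternion_relations a' b' m hta.1 hoa' hob' hoab
      (by rw [← htb.2, ← hta.2]) hne hNa hNb
    apply helper73.nonempty_mulEquiv_quaternion a' b' q1 q2 q3 q4
    rw [eq_top_iff, ← hNM, sup_le_iff]
    constructor
    · rw [← hZa, Subgroup.zpowers_le]; exact Subgroup.subset_closure (by simp)
    · rw [← hZb, Subgroup.zpowers_le]; exact Subgroup.subset_closure (by simp)

end Cfsg.Agent.S1896
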