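import Cfsg.Statements.S2403
import Cfsg.Agent.Lib.helper45.SLGen

set_option autoImplicit false
open Cfsg

namespace Cfsg.Agent.S2403

/-- Explicit two-element generation of `PSL_{n+1}(K)` over the fields with two or three elements: with `x = 1 + E₁₂` and `w` the monomial matrix with entries `1` in positions `(i, i+1)` and `(−1)^n` in position `(n+1, 1)`, the elements `x` and `w` generate `SL_{n+1}(K)` modulo its centre. -/
theorem result {K : Type*} [Field K] [Fintype K] (hK : Fintype.card K ≤ 3) (n : ℕ) (hn : 1 ≤ n)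
    (x w : Matrix.SpecialLinearGroup (Fin (n + 1)) K)
    (hx : (x : Matrix (Fin (n + 1)) (Fin (n + 1)) K) = Matrix.transvection (0 : Fin (n + 1)) (1 : Fin (n + 1)) 1)
    (hw : (w : Matrix (Fin (n + 1)) (Fin (n + 1)) K) =
      Matrix.of (fun i j => if j.val = i.val + 1 then 1 else if i.val = n ∧ j.val = 0 then (-1) ^ n else 0)) :
    Subgroup.closure ({x, w} : Set (Matrix.SpecialLinearGroup (Fin (n + 1)) K)) ⊔
      Subgroup.center (Matrix.SpecialLinearGroup (Fin (n + 1)) K) = ⊤ := by
  have hxH : x ∈ Subgroup.closure ({x, w} : Set (Matrix.SpecialLinearGroup (Fin (n + 1)) K)) :=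
    Subgroup.subset_closure (by simp)
  have hwH : w ∈ Subgroup.closure ({x, w} : Set (Matrix.SpecialLinearGroup (Fin (n + 1)) K)) :=
    Subgroup.subset_closure (by simp)
  have key : Subgroup.closure ({x, w} : Set (Matrix.SpecialLinearGroup (Fin (n + 1)) K)) = ⊤ := by
    refine Cfsg.Agent.Lib.helper45.eq_top_of_cyc hn _ (Cfsg.Agent.Lib.helper45.cycEps K n)
      Cfsg.Agent.Lib.helper45.cycEps_mul_self w hwH ?_ ?_
    · intro i j
      rw [hw, Matrix.of_apply]
      exact Cfsg.Agent.Lib.helper45.cyc_apply i j
    · intro h t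
      have hx' : x = Matrix.SpecialLinearGroup.transvection h 1 := Subtype.ext hx
      rcases Cfsg.Agent.Lib.helper45.eq_zero_or_one_or_neg_one_of_card_le_three hK t with rfl | rfl | rfl
      · rw [Matrix.SpecialLinearGroup.transvection_coeff_zero]
        exact Subgroup.one_mem _
      · rw [← hx']
        exact hxH
      · rw [← Matrix.SpecialLinearGroup.transvection_inv, ← hx']
        exact Subgroup.inv_mem _ hxH
  rw [key, top_sup_eq]

end Cfsg.Agent.S2403
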