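import Cfsg.Statements.S1898
-- import your own Cfsg.Agent.* helpers here

set_option autoImplicit false
open Cfsg

namespace Cfsg.Agent.S1898

section
open scoped commutatorElement
variable {X : Type*} [Group X]

/-- the basic class-2 identity, with `c = ⁅x, y⁆` central of order dividing 2 -/
theorem comm_facts (hel : Cfsg.IsElementaryAbelian 2 (commutator X)) (hcen : commutator X ≤ Subgroup.center X)
    (x y : X) : (∀ w : X, ⁅x, y⁆ * w = w * ⁅x, y⁆) ∧ ⁅x, y⁆ ^ 2 = 1 := by
  have hm : ⁅x, y⁆ ∈ commutator X := by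
    rw [commutator_def]
    exact Subgroup.commutator_mem_commutator (Subgroup.mem_top x) (Subgroup.mem_top y)
  refine ⟨fun w => ?_, hel.2 _ hm⟩
  have := hcen hm
  rw [Subgroup.mem_center_iff] at this
  exact (this w).symm

/-- abstract class-2 computation: `c` central with `c * c = 1` and `x * y = c * (y * x)`. -/
theorem abs_sq_central {x y c : X} (hc : ∀ w : X, c * w = w * c) (hc2 : c * c = 1)
    (e1 : x * y = c * (y * x)) : x * x * y = y * (x * x) := by
  calc x * x * y = x * (x * y) := by group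
    _ = x * (c * (y * x)) := by rw [← e1]
    _ = (x * c) * (y * x) := by group
    _ = (c * x) * (y * x) := by rw [hc x]
    _ = c * ((x * y) * x) := by group
    _ = c * ((c * (y * x)) * x) := by rw [← e1]
    _ = (c * c) * (y * (x * x)) := by group
    _ = y * (x * x) := by rw [hc2, one_mul]

theorem abs_mul_sq {x y c : X} (hc : ∀ w : X, c * w = w * c) (hc2 : c * c = 1)
    (e1 : x * y = c * (y * x)) : (x * y) * (x * y) = c * ((x * x) * (y * y)) := by
  have e2 : y * x = c * (x * y) := by
    calc y * x = (c * c) * (y * x) := by rw [hc2, one_mul]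
      _ = c * (c * (y * x)) := by group
      _ = c * (x * y) := by rw [← e1]
  calc (x * y) * (x * y) = x * (y * x) * y := by group
    _ = x * (c * (x * y)) * y := by rw [← e2]
    _ = (x * c) * (x * y) * y := by group
    _ = (c * x) * (x * y) * y := by rw [hc x]
    _ = c * ((x * x) * (y * y)) := by group

theorem comm_e1 (x y : X) : x * y = ⁅x, y⁆ * (y * x) := by
  rw [commutatorElement_def]; group

theorem sq_central (hel : Cfsg.IsElementaryAbelian 2 (commutator X)) (hcen : commutator X ≤ Subgroup.center X)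
    (x y : X) : x ^ 2 * y = y * x ^ 2 := by
  obtain ⟨hc, hc2⟩ := comm_facts hel hcen x y
  rw [pow_two] at hc2 ⊢
  exact abs_sq_central hc hc2 (comm_e1 x y)

theorem mul_sq (hel : Cfsg.IsElementaryAbelian 2 (commutator X)) (hcen : commutator X ≤ Subgroup.center X)
    (x y : X) : (x * y) ^ 2 = ⁅x, y⁆ * (x ^ 2 * y ^ 2) := by
  obtain ⟨hc, hc2⟩ := comm_facts hel hcen x y
  rw [pow_two] at hc2
  rw [pow_two, pow_two, pow_two]
  exact abs_mul_sq hc hc2 (comm_e1 x y)

theorem mul_pow_four (hel : Cfsg.IsElementaryAbelian 2 (commutator X)) (hcen : commutator X ≤ Subgroup.center X)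
    (x y : X) : (x * y) ^ 4 = x ^ 4 * y ^ 4 := by
  obtain ⟨hc, hc2⟩ := comm_facts hel hcen x y
  have hx := sq_central hel hcen x
  obtain ⟨c, hcdef⟩ : ∃ c : X, c = ⁅x, y⁆ := ⟨_, rfl⟩
  obtain ⟨a, hadef⟩ : ∃ a : X, a = x ^ 2 := ⟨_, rfl⟩
  obtain ⟨b, hbdef⟩ : ∃ b : X, b = y ^ 2 := ⟨_, rfl⟩
  have hxa : x ^ 4 = a * a := by rw [hadef, ← pow_two, ← pow_mul]
  have hyb : y ^ 4 = b * b := by rw [hbdef, ← pow_two, ← pow_mul]
  rw [← hcdef] at hc hc2
  rw [← hadef] at hx
  rw [pow_two] at hc2
  calc (x * y) ^ 4 = ((x * y) ^ 2) ^ 2 := by rw [← pow_mul]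
    _ = (c * (a * b)) * (c * (a * b)) := by rw [mul_sq hel hcen, ← hcdef, ← hadef, ← hbdef, pow_two]
    _ = c * ((a * b) * c) * (a * b) := by group
    _ = c * (c * (a * b)) * (a * b) := by rw [← hc (a * b)]
    _ = (c * c) * (a * (b * a) * b) := by group
    _ = a * (a * b) * b := by rw [hc2, one_mul, ← hx b]
    _ = x ^ 4 * y ^ 4 := by rw [hxa, hyb]; group

/-- an automorphism of odd order fixing all elements with `g ^ 4 = 1` is trivial -/
theorem odd_aut_trivial (hX : IsPGroup 2 X)
    (hel : Cfsg.IsElementaryAbelian 2 (commutator X)) (hcen : commutator X ≤ Subgroup.center X)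
    (ψ : MulAut X) (hψ : ∀ g : X, g ^ 4 = 1 → ψ g = g) (m : ℕ) (hm : Odd m) (hψm : ψ ^ m = 1) :
    ∀ x : X, ψ x = x := by
  have key : ∀ e : ℕ, ∀ x : X, x ^ (2 ^ (e + 2)) = 1 → ψ x = x := by
    intro e
    induction e with
    | zero => intro x hx; exact hψ x (by simpa using hx)
    | succ e ih =>
      intro x hx
      have hx2 : ψ (x ^ 2) = x ^ 2 := by
        apply ih
        rw [← pow_mul, ← pow_succ']
        exact hx
      obtain ⟨z, hz⟩ : ∃ z : X, z = x⁻¹ * ψ x := ⟨_, rfl⟩
      have hψx : ψ x = x * z := by rw [hz]; group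
      obtain ⟨hc, hc2⟩ := comm_facts hel hcen x z
      have e1 : ⁅x, z⁆ * (x ^ 2 * z ^ 2) = x ^ 2 := by
        rw [← mul_sq hel hcen, ← hψx, ← map_pow, hx2]
      have e2 : ⁅x, z⁆ * z ^ 2 = 1 := by
        have : x ^ 2 * (⁅x, z⁆ * z ^ 2) = x ^ 2 * 1 := by
          rw [mul_one, ← mul_assoc, ← hc, mul_assoc]; exact e1
        exact mul_left_cancel this
      have e3 : z ^ 4 = 1 := by
        have : z ^ 2 = ⁅x, z⁆ := by
          calc z ^ 2 = ⁅x, z⁆ ^ 2 * z ^ 2 := by rw [hc2, one_mul]
            _ = ⁅x, z⁆ * (⁅x, z⁆ * z ^ 2) := by rw [pow_two, mul_assoc]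
            _ = ⁅x, z⁆ := by rw [e2, mul_one]
        calc z ^ 4 = (z ^ 2) ^ 2 := by rw [← pow_mul]
          _ = 1 := by rw [this, hc2]
      have hψz : ψ z = z := hψ z e3
      have hpow : ∀ j : ℕ, (ψ ^ j) x = x * z ^ j := by
        intro j
        induction j with
        | zero => simp
        | succ j ihj =>
          rw [pow_succ', MulAut.mul_apply, ihj, map_mul, map_pow, hψx, hψz]
          group
      have hzm : z ^ m = 1 := by
        have := hpow m
        rw [hψm] at this
        have h1 : x * 1 = x * z ^ m := by rw [mul_one]; exact this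
        exact (mul_left_cancel h1).symm
      have hz1 : z = 1 := by
        have d1 : orderOf z ∣ 4 := orderOf_dvd_of_pow_eq_one e3
        have d2 : orderOf z ∣ m := orderOf_dvd_of_pow_eq_one hzm
        have d3 : orderOf z ∣ Nat.gcd 4 m := Nat.dvd_gcd d1 d2
        have hcop : Nat.gcd 4 m = 1 := by
          have : Nat.Coprime (2 ^ 2) m := Nat.Coprime.pow_left 2 (Nat.coprime_two_left.mpr hm)
          exact this
        rw [hcop, Nat.dvd_one] at d3
        exact orderOf_eq_one_iff.mp d3
      rw [hψx, hz1, mul_one]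
  intro x
  obtain ⟨k, hk⟩ := hX x
  apply key k
  rw [pow_add, pow_mul, hk, one_pow]

end

/-- Let X be a finite 2-group whose derived subgroup is elementary abelian and central. Then the subgroup generated by the elements of order dividing 4 has exponent dividing 4, and every automorphism of X fixing each element of order dividing 4 has 2-power order. -/
theorem result {X : Type*} [Group X] [Finite X] (hX : IsPGroup 2 X)
    (hel : Cfsg.IsElementaryAbelian 2 (commutator X)) (hcen : commutator X ≤ Subgroup.center X) :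
    (∀ x ∈ Subgroup.closure {g : X | g ^ 4 = 1}, x ^ 4 = 1) ∧
      ∀ φ : MulAut X, (∀ g : X, g ^ 4 = 1 → φ g = g) → ∃ k : ℕ, φ ^ (2 ^ k) = 1 := by
  constructor
  · intro x hx
    induction hx using Subgroup.closure_induction with
    | mem x hx => exact hx
    | one => simp
    | mul x y _ _ hx hy => rw [mul_pow_four hel hcen, hx, hy, one_mul]
    | inv x _ hx => rw [inv_pow, hx, inv_one]
  · intro φ hφ
    have hfin : IsOfFinOrder φ := isOfFinOrder_of_finite φ
    have hN : orderOf φ ≠ 0 := (orderOf_pos_iff.mpr hfin).ne'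
    obtain ⟨k, m, hm, hkm⟩ := Nat.exists_eq_two_pow_mul_odd hN
    refine ⟨k, ?_⟩
    have hψ : ∀ g : X, g ^ 4 = 1 → (φ ^ (2 ^ k)) g = g := by
      intro g hg
      have : ∀ j : ℕ, (φ ^ j) g = g := by
        intro j
        induction j with
        | zero => simp
        | succ j ih => rw [pow_succ, MulAut.mul_apply, hφ g hg, ih]
      exact this _
    have hψm : (φ ^ (2 ^ k)) ^ m = 1 := by
      rw [← pow_mul, ← hkm, pow_orderOf_eq_one]
    have := odd_aut_trivial hX hel hcen (φ ^ (2 ^ k)) hψ m hm hψm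
    ext x
    exact this x

end Cfsg.Agent.S1898
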