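import Cfsg.Statements.S1899
-- import your own Cfsg.Agent.* helpers here

set_option autoImplicit false
open Cfsg

namespace Cfsg.Agent.S1899

theorem htd_aux {A : Type*} [CommGroup A] (d t : MulAut A) (hdt : t * d * t⁻¹ = d⁻¹) (x : A) :
    t (d x) = d⁻¹ (t x) := by
  have := congrArg (fun f : MulAut A => f (t x)) hdt
  simpa using this

theorem fix_of_sq {A : Type*} [CommGroup A] {n : ℕ} (hn : Odd n) (d : MulAut A) (hd : d ^ n = 1) (a : A)
    (h : d (d a) = a) : d a = a := by
  obtain ⟨k, rfl⟩ := hn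
  have h2 : ∀ j : ℕ, ((d ^ 2) ^ j) a = a := by
    intro j
    induction j with
    | zero => simp
    | succ j ih =>
      have e : (d ^ 2) a = a := by rw [pow_two, MulAut.mul_apply, h]
      rw [pow_succ, MulAut.mul_apply, e, ih]
  have h3 : (d ^ (2 * k + 1)) a = a := by rw [hd]; rfl
  rw [pow_succ', pow_mul, MulAut.mul_apply, h2] at h3
  exact h3

theorem inj_aux {A : Type*} [CommGroup A] (d : MulAut A) (P : Subgroup A)
    (h1 : ∀ x y : A, x ∈ P → y ∈ P → x = d y → x = 1) :
    Function.Injective (fun q : P × P => (q.1 : A) * d (q.2 : A)) := by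
  rintro ⟨x, y⟩ ⟨x', y'⟩ hq
  simp only at hq
  have e : (x' : A)⁻¹ * x = d ((y' : A) * (y : A)⁻¹) := by
    rw [map_mul, map_inv]
    calc (x' : A)⁻¹ * x = (x' : A)⁻¹ * ((x : A) * d y) * (d y)⁻¹ := by group
      _ = (x' : A)⁻¹ * ((x' : A) * d y') * (d y)⁻¹ := by rw [hq]
      _ = d y' * (d y)⁻¹ := by group
  have e1 := h1 _ _ (P.mul_mem (P.inv_mem x'.2) x.2) (P.mul_mem y'.2 (P.inv_mem y.2)) e
  have hx : (x : A) = x' := by
    have := inv_mul_eq_one.mp e1
    exact this.symm
  have hy : (y : A) = y' := by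
    rw [hx] at hq
    have := mul_left_cancel hq
    exact d.injective this
  exact Prod.ext (Subtype.ext hx) (Subtype.ext hy)

/-- Let a dihedral group of order 2n, n odd and n > 1, act on a finite abelian 2-group A through automorphisms d and t with d^n = 1, t² = 1 and t d t⁻¹ = d⁻¹, and suppose that d fixes only the identity. Then A is the internal direct product of C_A(t) and its image under d. -/
theorem result {A : Type*} [CommGroup A] [Finite A] (hA : IsPGroup 2 A)
    {n : ℕ} (hn : Odd n) (hn1 : 1 < n) (d t : MulAut A) (hd : d ^ n = 1) (ht : t ^ 2 = 1) (hdt : t * d * t⁻¹ = d⁻¹)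
    (hfix : ∀ a : A, d a = a → a = 1) :
    (MulEquiv.toMonoidHom t).eqLocus (MonoidHom.id A) ⊓ ((MulEquiv.toMonoidHom t).eqLocus (MonoidHom.id A)).map d.toMonoidHom = ⊥ ∧
      (MulEquiv.toMonoidHom t).eqLocus (MonoidHom.id A) ⊔ ((MulEquiv.toMonoidHom t).eqLocus (MonoidHom.id A)).map d.toMonoidHom = ⊤ := by
  classical
  have tt : ∀ a : A, t (t a) = a := by
    intro a
    have := congrArg (fun f : MulAut A => f a) ht
    simpa [pow_two] using this
  have htd := htd_aux d t hdt
  have hsq : ∀ a : A, d (d a) = a → a = 1 := fun a h => hfix a (fix_of_sq hn d hd a h)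
  have h1 : ∀ x y : A, t x = x → t y = y → x = d y → x = 1 := by
    intro x y hx hy hxy
    apply hsq
    have e1 : t (d x) = y := by rw [htd, hx, hxy]; simp
    have e2 : d x = y := by
      apply t.injective; rw [e1, hy]
    rw [e2, ← hxy]
  have h2 : ∀ x y : A, t x = x⁻¹ → t y = y⁻¹ → x = d y → x = 1 := by
    intro x y hx hy hxy
    apply hsq
    have e1 : t (d x) = y⁻¹ := by rw [htd, hx, hxy, map_inv]; simp
    have e2 : d x = y := by
      apply t.injective; rw [e1, hy]
    rw [e2, ← hxy]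
  -- the norm map
  let φ : A →* A :=
    { toFun := fun a => a * t a
      map_one' := by simp
      map_mul' := by intro a b; simp [mul_mul_mul_comm] }
  have hker : ∀ a : A, a ∈ φ.ker ↔ t a = a⁻¹ := by
    intro a
    rw [MonoidHom.mem_ker]
    show a * t a = 1 ↔ t a = a⁻¹
    constructor
    · intro h; exact eq_inv_of_mul_eq_one_right h
    · intro h; rw [h]; simp
  set C := (MulEquiv.toMonoidHom t).eqLocus (MonoidHom.id A) with hC
  have hCmem : ∀ a : A, a ∈ C ↔ t a = a := fun a => Iff.rfl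
  have hrange : φ.range ≤ C := by
    rintro _ ⟨a, rfl⟩
    rw [hCmem]
    show t (a * t a) = a * t a
    rw [map_mul, tt, mul_comm]
  have hcard1 : Nat.card A ≤ Nat.card φ.ker * Nat.card C := by
    rw [← φ.ker.card_mul_index, Subgroup.index_ker]
    exact Nat.mul_le_mul_left _ (Subgroup.card_le_of_le hrange)
  have hinjC := inj_aux d C (fun x y hx hy hxy => h1 x y ((hCmem x).1 hx) ((hCmem y).1 hy) hxy)
  have hinjK := inj_aux d φ.ker (fun x y hx hy hxy => h2 x y ((hker x).1 hx) ((hker y).1 hy) hxy)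
  have hcardC : Nat.card C * Nat.card C ≤ Nat.card A := by
    rw [← Nat.card_prod]
    exact Nat.card_le_card_of_injective _ hinjC
  have hcardK : Nat.card φ.ker * Nat.card φ.ker ≤ Nat.card A := by
    rw [← Nat.card_prod]
    exact Nat.card_le_card_of_injective _ hinjK
  have hApos : 0 < Nat.card A := Nat.card_pos
  have hcardeq : Nat.card A ≤ Nat.card C * Nat.card C := by
    have hA2 : Nat.card A * Nat.card A ≤ Nat.card A * (Nat.card C * Nat.card C) := by
      calc Nat.card A * Nat.card A ≤ (Nat.card φ.ker * Nat.card C) * (Nat.card φ.ker * Nat.card C) :=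
            Nat.mul_le_mul hcard1 hcard1
        _ = (Nat.card φ.ker * Nat.card φ.ker) * (Nat.card C * Nat.card C) := by ring
        _ ≤ Nat.card A * (Nat.card C * Nat.card C) := Nat.mul_le_mul_right _ hcardK
    exact Nat.le_of_mul_le_mul_left hA2 hApos
  have hbij := hinjC.bijective_of_nat_card_le (by rw [Nat.card_prod]; exact hcardeq)
  constructor
  · rw [eq_bot_iff]
    rintro a ⟨haC, haD⟩
    obtain ⟨y, hy, rfl⟩ := haD
    rw [Subgroup.mem_bot]
    exact h1 _ y ((hCmem _).1 haC) ((hCmem y).1 hy) rfl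
  · rw [eq_top_iff]
    intro a _
    obtain ⟨⟨x, y⟩, hxy⟩ := hbij.2 a
    simp only at hxy
    rw [← hxy]
    exact Subgroup.mul_mem_sup x.2 (Subgroup.mem_map_of_mem _ y.2)

end Cfsg.Agent.S1899
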