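import Cfsg.Statements.S1900
import Cfsg.Agent.S1324
import Cfsg.Agent.Lib.helper1.Coprime
import Cfsg.Agent.Lib.helper38.PGroupNormal
import Cfsg.Agent.Lib.helper28.Fitting
-- import your own Cfsg.Agent.* helpers here

set_option autoImplicit false
open Cfsg

namespace Cfsg.Agent.S1900

universe u

/-- Subgroups of prime order sharing a nontrivial element are equal. -/
theorem eq_of_mem_of_card_prime {S : Type*} [Group S] [Finite S] {q : ℕ} [hq : Fact q.Prime]
    {X Y : Subgroup S} (hX : Nat.card X = q) (hY : Nat.card Y = q) {x : S} (hxX : x ∈ X)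
    (hxY : x ∈ Y) (hx1 : x ≠ 1) : X = Y := by
  have ho : orderOf x = q := by
    have h1 : orderOf x ∣ q := by rw [← hX]; exact Subgroup.orderOf_dvd_natCard X hxX
    rcases (Nat.dvd_prime hq.out).mp h1 with h | h
    · exact absurd (orderOf_eq_one_iff.mp h) hx1
    · exact h
  have hz : Nat.card (Subgroup.zpowers x) = q := by rw [Nat.card_zpowers, ho]
  have e1 : Subgroup.zpowers x = X :=
    Subgroup.eq_of_le_of_card_ge (by rw [Subgroup.zpowers_le]; exact hxX) (by rw [hz, hX])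
  have e2 : Subgroup.zpowers x = Y :=
    Subgroup.eq_of_le_of_card_ge (by rw [Subgroup.zpowers_le]; exact hxY) (by rw [hz, hY])
  rw [← e1, e2]

theorem exists_ne_one_of_card_prime {S : Type*} [Group S] {q : ℕ} [hq : Fact q.Prime]
    {X : Subgroup S} (hX : Nat.card X = q) : ∃ x ∈ X, x ≠ 1 := by
  by_contra h
  push Not at h
  have : X = ⊥ := by
    rw [eq_bot_iff]; intro x hx; rw [Subgroup.mem_bot]; exact h x hx
  rw [this, Subgroup.card_bot] at hX
  exact hq.out.one_lt.ne hX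

/-- A subgroup all of whose elements conjugate `M` into itself normalizes `M`. -/
theorem le_normalizer_of_conj_mem {S : Type*} [Group S] {H M : Subgroup S}
    (h : ∀ g ∈ H, ∀ m ∈ M, g * m * g⁻¹ ∈ M) : H ≤ Subgroup.normalizer (M : Set S) := by
  intro g hg
  rw [Subgroup.mem_normalizer_iff]
  intro m
  constructor
  · exact h g hg m
  · intro hm
    have := h g⁻¹ (H.inv_mem hg) _ hm
    have e : g⁻¹ * (g * m * g⁻¹) * g⁻¹⁻¹ = m := by group
    rwa [e] at this

/-- A third subgroup of order `q`. -/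
theorem third_subgroup {S : Type*} [Group S] [Finite S] {q : ℕ} [hq : Fact q.Prime]
    {Q X₁ X₂ : Subgroup S} (hQ : Cfsg.IsElementaryAbelian q Q) (h₁ : X₁ ≤ Q) (h₂ : X₂ ≤ Q)
    (h₁₂ : X₁ ≠ X₂) (hc₁ : Nat.card X₁ = q) (hc₂ : Nat.card X₂ = q) :
    ∃ X₃ : Subgroup S, X₃ ≤ Q ∧ Nat.card X₃ = q ∧ X₃ ≠ X₁ ∧ X₃ ≠ X₂ := by
  obtain ⟨x₁, hx₁, hx₁1⟩ := exists_ne_one_of_card_prime hc₁
  obtain ⟨x₂, hx₂, hx₂1⟩ := exists_ne_one_of_card_prime hc₂
  have hx₃Q : x₁ * x₂ ∈ Q := Q.mul_mem (h₁ hx₁) (h₂ hx₂)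
  have hne1 : x₁ * x₂ ≠ 1 := by
    intro h
    have : x₂ = x₁⁻¹ := (eq_inv_of_mul_eq_one_right h)
    exact h₁₂ (eq_of_mem_of_card_prime hc₁ hc₂ (this ▸ X₁.inv_mem hx₁) hx₂ hx₂1)
  have ho : orderOf (x₁ * x₂) = q := by
    have h1 : orderOf (x₁ * x₂) ∣ q := orderOf_dvd_of_pow_eq_one (hQ.2 _ hx₃Q)
    rcases (Nat.dvd_prime hq.out).mp h1 with h | h
    · exact absurd (orderOf_eq_one_iff.mp h) hne1
    · exact h
  refine ⟨Subgroup.zpowers (x₁ * x₂), by rw [Subgroup.zpowers_le]; exact hx₃Q,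
    by rw [Nat.card_zpowers, ho], ?_, ?_⟩
  · intro h
    have h3 : x₁ * x₂ ∈ X₁ := h ▸ Subgroup.mem_zpowers _
    have h4 : x₂ ∈ X₁ := by
      have := X₁.mul_mem (X₁.inv_mem hx₁) h3
      simpa using this
    exact h₁₂ (eq_of_mem_of_card_prime hc₁ hc₂ h4 hx₂ hx₂1)
  · intro h
    have h3 : x₁ * x₂ ∈ X₂ := h ▸ Subgroup.mem_zpowers _
    have h4 : x₁ ∈ X₂ := by
      have := X₂.mul_mem h3 (X₂.inv_mem hx₂)
      simpa using this
    exact h₁₂ (eq_of_mem_of_card_prime hc₁ hc₂ hx₁ h4 hx₁1)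

/-- `C_P(Q) = 1`. -/
theorem inf_centralizer_eq_bot {S : Type*} [Group S] [Finite S] {q : ℕ} [hq : Fact q.Prime]
    {P Q X₁ X₂ : Subgroup S} (hQ : Cfsg.IsElementaryAbelian q Q) (h₁ : X₁ ≤ Q) (h₂ : X₂ ≤ Q)
    (h₁₂ : X₁ ≠ X₂) (hc₁ : Nat.card X₁ = q) (hc₂ : Nat.card X₂ = q)
    (honly : ∀ X : Subgroup S, X ≤ Q → Nat.card X = q →
      P ⊓ Subgroup.centralizer (X : Set S) ≠ ⊥ → X = X₁ ∨ X = X₂) :
    P ⊓ Subgroup.centralizer (Q : Set S) = ⊥ := by
  by_contra h
  obtain ⟨X₃, h₃, hc₃, h31, h32⟩ := third_subgroup hQ h₁ h₂ h₁₂ hc₁ hc₂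
  have h5 : P ⊓ Subgroup.centralizer (X₃ : Set S) ≠ ⊥ := by
    intro h'
    apply h
    rw [eq_bot_iff, ← h']
    exact inf_le_inf_left P (Subgroup.centralizer_le h₃)
  rcases honly X₃ h₃ hc₃ h5 with h6 | h6
  · exact h31 h6
  · exact h32 h6

/-- A subgroup of `Q` containing `X₁` and `X₂` is `Q`. -/
theorem eq_of_le_of_le {S : Type*} [Group S] [Finite S] {q : ℕ} [hq : Fact q.Prime]
    {Q X₁ X₂ R : Subgroup S} (hQc : Nat.card Q = q ^ 2)
    (h₁₂ : X₁ ≠ X₂) (hc₁ : Nat.card X₁ = q) (hc₂ : Nat.card X₂ = q) (hRQ : R ≤ Q) (hR₁ : X₁ ≤ R)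
    (hR₂ : X₂ ≤ R) : R = Q := by
  have h1 : Nat.card R ∣ q ^ 2 := hQc ▸ Subgroup.card_dvd_of_le hRQ
  obtain ⟨j, hj, hjc⟩ := (Nat.dvd_prime_pow hq.out).mp h1
  have hq2 := hq.out.two_le
  interval_cases j
  · exfalso
    have := Subgroup.card_le_of_le hR₁
    rw [hc₁, hjc] at this
    simp at this
    omega
  · exfalso
    have e1 : X₁ = R := Subgroup.eq_of_le_of_card_ge hR₁ (by rw [hjc, hc₁, pow_one])
    have e2 : X₂ = R := Subgroup.eq_of_le_of_card_ge hR₂ (by rw [hjc, hc₂, pow_one])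
    exact h₁₂ (e1.trans e2.symm)
  · exact Subgroup.eq_of_le_of_card_ge hRQ (by rw [hjc, hQc])

/-- An element of `P` centralizing `X₁` and `X₂` is trivial. -/
theorem eq_one_of_centralizes {S : Type*} [Group S] [Finite S] {q : ℕ} [hq : Fact q.Prime]
    {P Q X₁ X₂ : Subgroup S} (hQ : Cfsg.IsElementaryAbelian q Q) (hQc : Nat.card Q = q ^ 2)
    (h₁ : X₁ ≤ Q) (h₂ : X₂ ≤ Q)
    (h₁₂ : X₁ ≠ X₂) (hc₁ : Nat.card X₁ = q) (hc₂ : Nat.card X₂ = q)
    (honly : ∀ X : Subgroup S, X ≤ Q → Nat.card X = q →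
      P ⊓ Subgroup.centralizer (X : Set S) ≠ ⊥ → X = X₁ ∨ X = X₂)
    {c : S} (hcP : c ∈ P) (hc1 : c ∈ Subgroup.centralizer (X₁ : Set S))
    (hc2 : c ∈ Subgroup.centralizer (X₂ : Set S)) : c = 1 := by
  have hR : Q ⊓ Subgroup.centralizer ({c} : Set S) = Q := by
    apply eq_of_le_of_le hQc h₁₂ hc₁ hc₂ inf_le_left
    · intro x hx
      refine Subgroup.mem_inf.mpr ⟨h₁ hx, ?_⟩
      rw [Subgroup.mem_centralizer_singleton_iff]
      exact (Subgroup.mem_centralizer_iff.mp hc1 x hx)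
    · intro x hx
      refine Subgroup.mem_inf.mpr ⟨h₂ hx, ?_⟩
      rw [Subgroup.mem_centralizer_singleton_iff]
      exact (Subgroup.mem_centralizer_iff.mp hc2 x hx)
  have hcQ : c ∈ P ⊓ Subgroup.centralizer (Q : Set S) := by
    refine Subgroup.mem_inf.mpr ⟨hcP, ?_⟩
    rw [Subgroup.mem_centralizer_iff]
    intro x hx
    have : x ∈ Q ⊓ Subgroup.centralizer ({c} : Set S) := by rw [hR]; exact hx
    have h3 := (Subgroup.mem_inf.mp this).2
    rw [Subgroup.mem_centralizer_singleton_iff] at h3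
    exact h3
  rw [inf_centralizer_eq_bot hQ h₁ h₂ h₁₂ hc₁ hc₂ honly, Subgroup.mem_bot] at hcQ
  exact hcQ

/-- A subgroup of index at most `q` in `Q` is `Q` or has order `q`. -/
theorem hyperplane_cases {S : Type*} [Group S] [Finite S] {q : ℕ} [hq : Fact q.Prime]
    {Q B : Subgroup S} (hQc : Nat.card Q = q ^ 2) (hBQ : B ≤ Q) (hBi : B.relIndex Q ≤ q) :
    B = Q ∨ Nat.card B = q := by
  have h1 : Nat.card B * B.relIndex Q = q ^ 2 := by
    have := Subgroup.relIndex_mul_relIndex (⊥ : Subgroup S) B Q bot_le hBQ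
    rw [Subgroup.relIndex_bot_left, Subgroup.relIndex_bot_left, hQc] at this
    exact this
  have h2 : B.relIndex Q ∣ q ^ 2 := Dvd.intro_left _ h1
  obtain ⟨j, hj, hjc⟩ := (Nat.dvd_prime_pow hq.out).mp h2
  have hq2 := hq.out.two_le
  interval_cases j
  · left
    rw [pow_zero] at hjc
    exact le_antisymm hBQ (Subgroup.relIndex_eq_one.mp hjc)
  · right
    rw [hjc, pow_one, pow_two] at h1
    exact Nat.eq_of_mul_eq_mul_right hq.out.pos h1
  · exfalso
    rw [hjc, pow_two] at hBi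
    nlinarith

/-- Elements of a `p`-subgroup and of a subgroup of exponent `q` meet trivially. -/
theorem eq_one_of_mem_of_mem {S : Type*} [Group S] {p q : ℕ} [hp : Fact p.Prime] [hq : Fact q.Prime]
    (hpq : p ≠ q) {P Q : Subgroup S} (hP : IsPGroup p P) (hQ : Cfsg.IsElementaryAbelian q Q) {x : S}
    (hxP : x ∈ P) (hxQ : x ∈ Q) : x = 1 := by
  obtain ⟨k, hk⟩ := hP ⟨x, hxP⟩
  have hk' : x ^ p ^ k = 1 := by
    have := congrArg Subtype.val hk
    simpa using this
  have h1 : orderOf x ∣ p ^ k := orderOf_dvd_of_pow_eq_one hk'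
  have h2 : orderOf x ∣ q := orderOf_dvd_of_pow_eq_one (hQ.2 x hxQ)
  have hcop : Nat.Coprime (p ^ k) q :=
    Nat.Coprime.pow_left k ((Nat.coprime_primes hp.out hq.out).mpr hpq)
  have h3 : orderOf x = 1 := Nat.eq_one_of_dvd_coprimes hcop h1 h2
  exact orderOf_eq_one_iff.mp h3

/-- The quotient map by a subgroup of `P` preserves the order of subgroups of `Q`. -/
theorem card_map_eq {S : Type*} [Group S] [Finite S] {p q : ℕ} [hp : Fact p.Prime] [hq : Fact q.Prime]
    (hpq : p ≠ q) {P Q M R : Subgroup S} [M.Normal] (hP : IsPGroup p P)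
    (hQ : Cfsg.IsElementaryAbelian q Q) (hMP : M ≤ P) (hRQ : R ≤ Q) :
    Nat.card (R.map (QuotientGroup.mk' M)) = Nat.card R := by
  have h1 := Subgroup.relIndex_ker (QuotientGroup.mk' M) (K := R)
  rw [QuotientGroup.ker_mk'] at h1
  rw [← h1, ← Subgroup.inf_relIndex_right]
  have h2 : M ⊓ R = ⊥ := by
    rw [eq_bot_iff]
    intro x hx
    rw [Subgroup.mem_bot]
    exact eq_one_of_mem_of_mem hpq hP hQ (hMP (Subgroup.mem_inf.mp hx).1) (hRQ (Subgroup.mem_inf.mp hx).2)
  rw [h2, Subgroup.relIndex_bot_left]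

theorem isSolvable_of_isPGroup {S : Type*} [Group S] [Finite S] {p : ℕ} [Fact p.Prime]
    {M : Subgroup S} (hM : IsPGroup p M) : Group.IsSolvable M := by
  have := hM.isNilpotent
  infer_instance

/-- The commutation claim, by induction on the order of the group. -/
theorem core (p q : ℕ) [hp : Fact p.Prime] [hq : Fact q.Prime] (hpq : p ≠ q) :
    ∀ (n : ℕ) (S : Type u) [Group S] [Finite S], Nat.card S = n →
    ∀ (P Q X₁ X₂ : Subgroup S), P.Normal → IsPGroup p P → P ⊔ Q = ⊤ →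
    Cfsg.IsElementaryAbelian q Q → Nat.card Q = q ^ 2 → X₁ ≤ Q → X₂ ≤ Q → X₁ ≠ X₂ →
    Nat.card X₁ = q → Nat.card X₂ = q →
    (∀ X : Subgroup S, X ≤ Q → Nat.card X = q →
      P ⊓ Subgroup.centralizer (X : Set S) ≠ ⊥ → X = X₁ ∨ X = X₂) →
    ∀ a ∈ P ⊓ Subgroup.centralizer (X₁ : Set S), ∀ b ∈ P ⊓ Subgroup.centralizer (X₂ : Set S),
      a * b = b * a := by
  intro n
  induction n using Nat.strong_induction_on with
  | _ n ih =>
  intro S _ _ hcard P Q X₁ X₂ hPn hPp hPQ hQ hQc h₁ h₂ h₁₂ hc₁ hc₂ honly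
  have hQcomm : ∀ x ∈ Q, ∀ y ∈ Q, x * y = y * x := by
    intro x hx y hy
    have h := hQ.1.is_comm.comm (⟨x, hx⟩ : Q) ⟨y, hy⟩
    exact congrArg Subtype.val h
  -- the symmetric key step
  have key : ∀ (Y₁ Y₂ : Subgroup S), Y₁ ≤ Q → Y₂ ≤ Q → Y₁ ≠ Y₂ → Nat.card Y₁ = q → Nat.card Y₂ = q →
      (∀ X : Subgroup S, X ≤ Q → Nat.card X = q →
        P ⊓ Subgroup.centralizer (X : Set S) ≠ ⊥ → X = Y₁ ∨ X = Y₂) →
      P ⊓ Subgroup.centralizer (P : Set S) ⊓ Subgroup.centralizer (Y₁ : Set S) ≠ ⊥ →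
      ∀ a ∈ P ⊓ Subgroup.centralizer (Y₁ : Set S), ∀ b ∈ P ⊓ Subgroup.centralizer (Y₂ : Set S),
        a * b = b * a := by
    intro Y₁ Y₂ hY₁ hY₂ hY₁₂ hcY₁ hcY₂ honlyY hMne
    obtain ⟨M, hMdef⟩ : ∃ M : Subgroup S,
      M = P ⊓ Subgroup.centralizer (P : Set S) ⊓ Subgroup.centralizer (Y₁ : Set S) := ⟨_, rfl⟩
    rw [← hMdef] at hMne
    have hMP : M ≤ P := by rw [hMdef]; exact inf_le_left.trans inf_le_left
    have hMcP : ∀ m ∈ M, ∀ y ∈ P, y * m = m * y := by
      intro m hm y hy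
      rw [hMdef] at hm
      exact Subgroup.mem_centralizer_iff.mp (Subgroup.mem_inf.mp (Subgroup.mem_inf.mp hm).1).2 y hy
    have hMcY : ∀ m ∈ M, ∀ y ∈ Y₁, y * m = m * y := by
      intro m hm y hy
      rw [hMdef] at hm
      exact Subgroup.mem_centralizer_iff.mp (Subgroup.mem_inf.mp hm).2 y hy
    have hMp : IsPGroup p M := hPp.to_le hMP
    -- `M` is normal in `S`
    have hPM : P ≤ Subgroup.normalizer (M : Set S) := by
      apply le_normalizer_of_conj_mem
      intro g hg m hm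
      have : g * m * g⁻¹ = m := by rw [hMcP m hm g hg]; group
      rw [this]; exact hm
    have hQM : Q ≤ Subgroup.normalizer (M : Set S) := by
      apply le_normalizer_of_conj_mem
      intro g hg m hm
      rw [hMdef]
      refine Subgroup.mem_inf.mpr ⟨Subgroup.mem_inf.mpr ⟨hPn.conj_mem m (hMP hm) g, ?_⟩, ?_⟩
      · rw [Subgroup.mem_centralizer_iff]
        intro y hy
        have h1 : g⁻¹ * y * g ∈ P := by
          have := hPn.conj_mem y hy g⁻¹
          simpa using this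
        have h2 := hMcP m hm _ h1
        calc y * (g * m * g⁻¹) = g * ((g⁻¹ * y * g) * m) * g⁻¹ := by group
          _ = g * (m * (g⁻¹ * y * g)) * g⁻¹ := by rw [h2]
          _ = g * m * g⁻¹ * y := by group
      · rw [Subgroup.mem_centralizer_iff]
        intro y hy
        have h1 := hQcomm y (hY₁ hy) g hg
        have h2 := hMcY m hm y hy
        calc y * (g * m * g⁻¹) = (y * g) * m * g⁻¹ := by group
          _ = g * (y * m) * g⁻¹ := by rw [h1]; group
          _ = g * m * (y * g⁻¹) := by rw [h2]; group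
          _ = g * m * (g⁻¹ * (g * y) * g⁻¹) := by group
          _ = g * m * (g⁻¹ * (y * g) * g⁻¹) := by rw [h1]
          _ = g * m * g⁻¹ * y := by group
    have hMn : M.Normal := by
      rw [← Subgroup.normalizer_eq_top_iff, eq_top_iff, ← hPQ]
      exact sup_le hPM hQM
    have hlt : Nat.card (S ⧸ M) < n := by
      rw [← hcard]; exact Cfsg.Agent.Lib.helper28.card_quotient_lt_of_ne_bot hMne
    have hsurj := QuotientGroup.mk'_surjective M
    -- hypotheses in the quotient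
    have hQbar : Cfsg.IsElementaryAbelian q (Q.map (QuotientGroup.mk' M)) := by
      refine ⟨⟨⟨?_⟩⟩, ?_⟩
      · rintro ⟨_, x, hx, rfl⟩ ⟨_, y, hy, rfl⟩
        apply Subtype.ext
        show QuotientGroup.mk' M x * QuotientGroup.mk' M y = QuotientGroup.mk' M y * QuotientGroup.mk' M x
        rw [← map_mul, ← map_mul, hQcomm x hx y hy]
      · rintro _ ⟨x, hx, rfl⟩
        rw [← map_pow, hQ.2 x hx, map_one]
    have hinj : ∀ x ∈ Q, ∀ y ∈ Q, QuotientGroup.mk' M x = QuotientGroup.mk' M y → x = y := by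
      intro x hx y hy hxy
      have h1 : y⁻¹ * x ∈ M := by
        have : QuotientGroup.mk' M (y⁻¹ * x) = 1 := by rw [map_mul, map_inv, hxy, inv_mul_cancel]
        exact (QuotientGroup.eq_one_iff _).mp this
      have h2 := eq_one_of_mem_of_mem hpq hPp hQ (hMP h1) (Q.mul_mem (Q.inv_mem hy) hx)
      exact (inv_mul_eq_one.mp h2).symm
    have hY₁₂bar : Y₁.map (QuotientGroup.mk' M) ≠ Y₂.map (QuotientGroup.mk' M) := by
      intro h
      obtain ⟨y₁, hy₁, hy₁1⟩ := exists_ne_one_of_card_prime hcY₁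
      have h1 : QuotientGroup.mk' M y₁ ∈ Y₂.map (QuotientGroup.mk' M) :=
        h ▸ Subgroup.mem_map_of_mem _ hy₁
      obtain ⟨y₂, hy₂, hy₂e⟩ := h1
      have h2 := hinj y₂ (hY₂ hy₂) y₁ (hY₁ hy₁) hy₂e
      exact hY₁₂ (eq_of_mem_of_card_prime hcY₁ hcY₂ hy₁ (h2 ▸ hy₂) hy₁1)
    have honlybar : ∀ X : Subgroup (S ⧸ M), X ≤ Q.map (QuotientGroup.mk' M) → Nat.card X = q →
        P.map (QuotientGroup.mk' M) ⊓ Subgroup.centralizer (X : Set (S ⧸ M)) ≠ ⊥ →
        X = Y₁.map (QuotientGroup.mk' M) ∨ X = Y₂.map (QuotientGroup.mk' M) := by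
      intro X hXQ hXc hXne
      have hXmap : (Q ⊓ X.comap (QuotientGroup.mk' M)).map (QuotientGroup.mk' M) = X := by
        apply le_antisymm
        · rintro _ ⟨y, hy, rfl⟩
          exact (Subgroup.mem_inf.mp hy).2
        · intro x hx
          obtain ⟨y, hy, rfl⟩ := hXQ hx
          exact ⟨y, Subgroup.mem_inf.mpr ⟨hy, hx⟩, rfl⟩
      have hX'c : Nat.card ↥(Q ⊓ X.comap (QuotientGroup.mk' M)) = q := by
        rw [← card_map_eq (M := M) hpq hPp hQ hMP inf_le_left, hXmap, hXc]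
      have hX'ne : P ⊓ Subgroup.centralizer ((Q ⊓ X.comap (QuotientGroup.mk' M) : Subgroup S) : Set S) ≠ ⊥ := by
        obtain ⟨abar, habar1⟩ := (Subgroup.ne_bot_iff_exists_ne_one).mp hXne
        -- abar : ↥(...), not equal to one
        have hab := abar.2
        rw [Subgroup.mem_inf] at hab
        obtain ⟨a, haP, hae⟩ := hab.1
        have haM : a ∉ M := by
          intro haM
          apply habar1
          apply Subtype.ext
          rw [← hae]
          exact (QuotientGroup.eq_one_iff a).mpr haM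
        have hcomm : ∀ x ∈ Q ⊓ X.comap (QuotientGroup.mk' M), x * a * x⁻¹ * a⁻¹ ∈ M := by
          intro x hx
          have hxX : QuotientGroup.mk' M x ∈ X := (Subgroup.mem_inf.mp hx).2
          have h1 := Subgroup.mem_centralizer_iff.mp hab.2 _ hxX
          rw [← hae] at h1
          apply (QuotientGroup.eq_one_iff _).mp
          show QuotientGroup.mk' M (x * a * x⁻¹ * a⁻¹) = 1
          rw [map_mul, map_mul, map_mul, map_inv, map_inv, h1]
          group
        have hXM : (Q ⊓ X.comap (QuotientGroup.mk' M)) ≤ Subgroup.normalizer (M : Set S) := by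
          rw [Subgroup.normalizer_eq_top_iff.mpr hMn]; exact le_top
        have hcop : (Nat.card ↥(Q ⊓ X.comap (QuotientGroup.mk' M))).Coprime (Nat.card M) := by
          rw [hX'c]
          obtain ⟨k, hk⟩ := hMp.exists_card_eq
          rw [hk]
          exact Nat.Coprime.pow_right k ((Nat.coprime_primes hq.out hp.out).mpr (Ne.symm hpq))
        obtain ⟨c, hc, hca⟩ := Cfsg.Agent.Lib.helper1.coset_fixed _ M hXM hcop
          (Or.inr (isSolvable_of_isPGroup hMp)) a hcomm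
        intro hbot
        have hcP : c ∈ P := by
          have := P.mul_mem (hMP hca) haP
          simpa using this
        have hc1 : c ∈ P ⊓ Subgroup.centralizer ((Q ⊓ X.comap (QuotientGroup.mk' M) : Subgroup S) : Set S) :=
          Subgroup.mem_inf.mpr ⟨hcP, hc⟩
        rw [hbot, Subgroup.mem_bot] at hc1
        rw [hc1, one_mul] at hca
        exact haM (by simpa using M.inv_mem hca)
      rcases honlyY _ inf_le_left hX'c hX'ne with h | h
      · left; rw [← hXmap, h]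
      · right; rw [← hXmap, h]
    have hbar := ih _ hlt (S ⧸ M) rfl (P.map (QuotientGroup.mk' M)) (Q.map (QuotientGroup.mk' M))
      (Y₁.map (QuotientGroup.mk' M)) (Y₂.map (QuotientGroup.mk' M))
      (hPn.map _ hsurj) (hPp.map _)
      (by rw [← Subgroup.map_sup, hPQ, Subgroup.map_top_of_surjective _ hsurj])
      hQbar (by rw [card_map_eq (M := M) hpq hPp hQ hMP le_rfl, hQc])
      (Subgroup.map_mono hY₁) (Subgroup.map_mono hY₂) hY₁₂bar
      (by rw [card_map_eq (M := M) hpq hPp hQ hMP hY₁, hcY₁])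
      (by rw [card_map_eq (M := M) hpq hPp hQ hMP hY₂, hcY₂]) honlybar
    -- commutators land in `M`
    have hcommM : ∀ a ∈ P ⊓ Subgroup.centralizer (Y₁ : Set S),
        ∀ b ∈ P ⊓ Subgroup.centralizer (Y₂ : Set S), a * b * a⁻¹ * b⁻¹ ∈ M := by
      intro a ha b hb
      rw [Subgroup.mem_inf] at ha hb
      have h1 : QuotientGroup.mk' M a ∈ P.map (QuotientGroup.mk' M) ⊓
          Subgroup.centralizer ((Y₁.map (QuotientGroup.mk' M) : Subgroup (S ⧸ M)) : Set (S ⧸ M)) := by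
        refine Subgroup.mem_inf.mpr ⟨Subgroup.mem_map_of_mem _ ha.1, ?_⟩
        rw [Subgroup.mem_centralizer_iff]
        rintro _ ⟨y, hy, rfl⟩
        rw [← map_mul, ← map_mul, Subgroup.mem_centralizer_iff.mp ha.2 y hy]
      have h2 : QuotientGroup.mk' M b ∈ P.map (QuotientGroup.mk' M) ⊓
          Subgroup.centralizer ((Y₂.map (QuotientGroup.mk' M) : Subgroup (S ⧸ M)) : Set (S ⧸ M)) := by
        refine Subgroup.mem_inf.mpr ⟨Subgroup.mem_map_of_mem _ hb.1, ?_⟩
        rw [Subgroup.mem_centralizer_iff]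
        rintro _ ⟨y, hy, rfl⟩
        rw [← map_mul, ← map_mul, Subgroup.mem_centralizer_iff.mp hb.2 y hy]
      have h3 := hbar _ h1 _ h2
      apply (QuotientGroup.eq_one_iff _).mp
      show QuotientGroup.mk' M (a * b * a⁻¹ * b⁻¹) = 1
      rw [map_mul, map_mul, map_mul, map_inv, map_inv, h3]
      group
    -- conclusion
    intro a ha b hb
    have hC2 : ∀ c, c ∈ P → c ∈ Subgroup.centralizer (Y₁ : Set S) →
        c ∈ Subgroup.centralizer (Y₂ : Set S) → c = 1 := fun c h1 h2 h3 =>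
      eq_one_of_centralizes hQ hQc hY₁ hY₂ hY₁₂ hcY₁ hcY₂ honlyY h1 h2 h3
    have hP₂p : IsPGroup p ↥(P ⊓ Subgroup.centralizer (Y₂ : Set S)) := hPp.to_le inf_le_left
    have hYN : Y₁ ≤ Subgroup.normalizer ((P ⊓ Subgroup.centralizer (Y₂ : Set S) : Subgroup S) : Set S) := by
      apply le_normalizer_of_conj_mem
      intro g hg m hm
      rw [Subgroup.mem_inf] at hm
      refine Subgroup.mem_inf.mpr ⟨hPn.conj_mem m hm.1 g, ?_⟩
      rw [Subgroup.mem_centralizer_iff]
      intro y hy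
      have h1 := hQcomm y (hY₂ hy) g (hY₁ hg)
      have h2 := Subgroup.mem_centralizer_iff.mp hm.2 y hy
      calc y * (g * m * g⁻¹) = (y * g) * m * g⁻¹ := by group
        _ = g * (y * m) * g⁻¹ := by rw [h1]; group
        _ = g * m * (y * g⁻¹) := by rw [h2]; group
        _ = g * m * (g⁻¹ * (g * y) * g⁻¹) := by group
        _ = g * m * (g⁻¹ * (y * g) * g⁻¹) := by rw [h1]
        _ = g * m * g⁻¹ * y := by group
    have hcop : (Nat.card Y₁).Coprime (Nat.card ↥(P ⊓ Subgroup.centralizer (Y₂ : Set S))) := by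
      rw [hcY₁]
      obtain ⟨k, hk⟩ := hP₂p.exists_card_eq
      rw [hk]
      exact Nat.Coprime.pow_right k ((Nat.coprime_primes hq.out hp.out).mpr (Ne.symm hpq))
    have hsup := Cfsg.Agent.Lib.helper1.commutator_sup_fixed Y₁ (P ⊓ Subgroup.centralizer (Y₂ : Set S))
      hYN hcop (Or.inr (isSolvable_of_isPGroup hP₂p))
    have hfix : (P ⊓ Subgroup.centralizer (Y₂ : Set S)) ⊓ Subgroup.centralizer (Y₁ : Set S) = ⊥ := by
      rw [eq_bot_iff]
      intro c hc
      rw [Subgroup.mem_bot]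
      have h1 := Subgroup.mem_inf.mp hc
      have h2 := Subgroup.mem_inf.mp h1.1
      exact hC2 c h2.1 h1.2 h2.2
    rw [hfix, sup_bot_eq] at hsup
    -- `[P₂, Y₁] ≤ C(a)`
    have hle : ⁅P ⊓ Subgroup.centralizer (Y₂ : Set S), Y₁⁆ ≤ Subgroup.centralizer ({a} : Set S) := by
      rw [Subgroup.commutator_le]
      intro b' hb' x hx
      rw [Subgroup.mem_centralizer_singleton_iff, commutatorElement_def]
      have hcM := hcommM a ha b' hb'
      have hax : Commute a x := (Subgroup.mem_centralizer_iff.mp (Subgroup.mem_inf.mp ha).2 x hx).symm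
      have hcb : Commute (a * b' * a⁻¹ * b'⁻¹) b' := (hMcP _ hcM b' (Subgroup.mem_inf.mp hb').1).symm
      have hcx : Commute (a * b' * a⁻¹ * b'⁻¹) x := (hMcY _ hcM x hx).symm
      have s1 : SemiconjBy a b' ((a * b' * a⁻¹ * b'⁻¹) * b') := by
        unfold SemiconjBy; group
      have s2 : SemiconjBy a (b' * x * b'⁻¹ * x⁻¹)
          (((a * b' * a⁻¹ * b'⁻¹) * b') * x * ((a * b' * a⁻¹ * b'⁻¹) * b')⁻¹ * x⁻¹) :=
        ((s1.mul_right hax).mul_right s1.inv_right).mul_right hax.inv_right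
      have e : ((a * b' * a⁻¹ * b'⁻¹) * b') * x * ((a * b' * a⁻¹ * b'⁻¹) * b')⁻¹ * x⁻¹
          = b' * x * b'⁻¹ * x⁻¹ := by
        have h5 : Commute (a * b' * a⁻¹ * b'⁻¹) (b' * x * b'⁻¹) :=
          (hcb.mul_right hcx).mul_right hcb.inv_right
        calc ((a * b' * a⁻¹ * b'⁻¹) * b') * x * ((a * b' * a⁻¹ * b'⁻¹) * b')⁻¹ * x⁻¹
            = ((a * b' * a⁻¹ * b'⁻¹) * (b' * x * b'⁻¹)) * (a * b' * a⁻¹ * b'⁻¹)⁻¹ * x⁻¹ := by group
          _ = ((b' * x * b'⁻¹) * (a * b' * a⁻¹ * b'⁻¹)) * (a * b' * a⁻¹ * b'⁻¹)⁻¹ * x⁻¹ := by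
              rw [h5.eq]
          _ = b' * x * b'⁻¹ * x⁻¹ := by group
      rw [e] at s2
      exact s2.eq.symm
    have hb2 : b ∈ ⁅P ⊓ Subgroup.centralizer (Y₂ : Set S), Y₁⁆ := by rw [hsup]; exact hb
    have hb' : b ∈ Subgroup.centralizer ({a} : Set S) := hle hb2
    rw [Subgroup.mem_centralizer_singleton_iff] at hb'
    exact hb'.symm
  -- now choose which of `X₁`, `X₂` centralizes part of `Z(P)`
  intro a ha b hb
  by_cases hPbot : P = ⊥
  · have : a = 1 := by
      have := (Subgroup.mem_inf.mp ha).1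
      rw [hPbot, Subgroup.mem_bot] at this
      exact this
    rw [this]; simp
  · -- the centre of `P`
    have hZne : P ⊓ Subgroup.centralizer (P : Set S) ≠ ⊥ := by
      have hne : (⊤ : Subgroup P) ≠ ⊥ := by
        intro h
        apply hPbot
        rw [eq_bot_iff]
        intro x hx
        have : (⟨x, hx⟩ : P) ∈ (⊤ : Subgroup P) := Subgroup.mem_top _
        rw [h, Subgroup.mem_bot] at this
        rw [Subgroup.mem_bot]
        exact congrArg Subtype.val this
      obtain ⟨z, -, hz1, hz⟩ := Cfsg.Agent.Lib.helper38.exists_central_of_normal_ne_bot hPp ⊤ hne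
      intro hbot
      have : (z : S) ∈ P ⊓ Subgroup.centralizer (P : Set S) := by
        refine Subgroup.mem_inf.mpr ⟨z.2, ?_⟩
        rw [Subgroup.mem_centralizer_iff]
        intro y hy
        have h1 := congrArg Subtype.val (hz ⟨y, hy⟩)
        simp only [Subgroup.coe_mul, Subgroup.coe_inv] at h1
        calc y * (z : S) = (y * (z : S) * y⁻¹) * y := by group
          _ = (z : S) * y := by rw [h1]
      rw [hbot, Subgroup.mem_bot] at this
      exact hz1 (Subtype.ext this)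
    have hQZ : Q ≤ Subgroup.normalizer ((P ⊓ Subgroup.centralizer (P : Set S) : Subgroup S) : Set S) := by
      apply le_normalizer_of_conj_mem
      intro g hg m hm
      rw [Subgroup.mem_inf] at hm
      refine Subgroup.mem_inf.mpr ⟨hPn.conj_mem m hm.1 g, ?_⟩
      rw [Subgroup.mem_centralizer_iff]
      intro y hy
      have h1 : g⁻¹ * y * g ∈ P := by
        have := hPn.conj_mem y hy g⁻¹
        simpa using this
      have h2 := Subgroup.mem_centralizer_iff.mp hm.2 _ h1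
      calc y * (g * m * g⁻¹) = g * ((g⁻¹ * y * g) * m) * g⁻¹ := by group
        _ = g * (m * (g⁻¹ * y * g)) * g⁻¹ := by rw [h2]
        _ = g * m * g⁻¹ * y := by group
    have hZq : ¬ q ∣ Nat.card ↥(P ⊓ Subgroup.centralizer (P : Set S)) := by
      obtain ⟨k, hk⟩ := (hPp.to_le (inf_le_left : P ⊓ Subgroup.centralizer (P : Set S) ≤ P)).exists_card_eq
      rw [hk]
      intro hdvd
      exact hpq ((Nat.prime_dvd_prime_iff_eq hq.out hp.out).mp (hq.out.dvd_of_dvd_pow hdvd)).symm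
    have hgen := Cfsg.Agent.S1324.result q Q (P ⊓ Subgroup.centralizer (P : Set S)) hQ
      (by rw [hQc]) hZq hQZ
    have hex : ∃ B : {B : Subgroup S // B ≤ Q ∧ B.relIndex Q ≤ q},
        (P ⊓ Subgroup.centralizer (P : Set S)) ⊓ Subgroup.centralizer ((B : Subgroup S) : Set S) ≠ ⊥ := by
      by_contra hcon
      push Not at hcon
      apply hZne
      rw [hgen]
      simp only [hcon, iSup_bot]
    obtain ⟨⟨B, hBQ, hBi⟩, hBne⟩ := hex
    have hBne2 : P ⊓ Subgroup.centralizer (P : Set S) ⊓ Subgroup.centralizer (B : Set S) ≠ ⊥ := hBne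
    rcases hyperplane_cases hQc hBQ hBi with hB | hB
    · exfalso
      subst hB
      apply hBne2
      rw [eq_bot_iff, ← inf_centralizer_eq_bot hQ h₁ h₂ h₁₂ hc₁ hc₂ honly]
      exact inf_le_inf_right _ inf_le_left
    · have hBne' : P ⊓ Subgroup.centralizer (B : Set S) ≠ ⊥ := by
        intro h'
        apply hBne2
        rw [eq_bot_iff, ← h']
        exact inf_le_inf_right _ inf_le_left
      rcases honly B hBQ hB hBne' with h | h
      · subst h
        exact key B X₂ h₁ h₂ h₁₂ hc₁ hc₂ honly hBne2 a ha b hb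
      · subst h
        exact (key B X₁ h₂ h₁ (Ne.symm h₁₂) hc₂ hc₁
          (fun X hX hXc hXne => (honly X hX hXc hXne).symm) hBne2 b hb a ha).symm

/-- Let S = PQ be a finite group with P a normal Sylow p-subgroup and Q elementary abelian of order q², q a prime different from p. If exactly two subgroups X₁, X₂ of order q in Q have a nontrivial centralizer in P, then P is the internal direct product of C_P(X₁) and C_P(X₂): they commute elementwise, meet trivially and generate P. -/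
theorem result {S : Type*} [Group S] [Finite S] {p q : ℕ} [Fact p.Prime] [Fact q.Prime] (hpq : p ≠ q)
    (P : Sylow p S) [(P : Subgroup S).Normal] (Q : Subgroup S) (hQ : Cfsg.IsElementaryAbelian q Q) (hQc : Nat.card Q = q ^ 2)
    (hS : (P : Subgroup S) ⊔ Q = ⊤)
    (X₁ X₂ : Subgroup S) (h₁ : X₁ ≤ Q) (h₂ : X₂ ≤ Q) (h₁₂ : X₁ ≠ X₂) (hc₁ : Nat.card X₁ = q) (hc₂ : Nat.card X₂ = q)
    (hf₁ : (P : Subgroup S) ⊓ Subgroup.centralizer (X₁ : Set S) ≠ ⊥)
    (hf₂ : (P : Subgroup S) ⊓ Subgroup.centralizer (X₂ : Set S) ≠ ⊥)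
    (honly : ∀ X : Subgroup S, X ≤ Q → Nat.card X = q →
      (P : Subgroup S) ⊓ Subgroup.centralizer (X : Set S) ≠ ⊥ → X = X₁ ∨ X = X₂) :
    ⁅(P : Subgroup S) ⊓ Subgroup.centralizer (X₁ : Set S), (P : Subgroup S) ⊓ Subgroup.centralizer (X₂ : Set S)⁆ = ⊥ ∧
      ((P : Subgroup S) ⊓ Subgroup.centralizer (X₁ : Set S)) ⊓ ((P : Subgroup S) ⊓ Subgroup.centralizer (X₂ : Set S)) = ⊥ ∧
      ((P : Subgroup S) ⊓ Subgroup.centralizer (X₁ : Set S)) ⊔ ((P : Subgroup S) ⊓ Subgroup.centralizer (X₂ : Set S)) = P := by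
  have hPn : (P : Subgroup S).Normal := inferInstance
  have hq : Fact q.Prime := inferInstance
  have hp : Fact p.Prime := inferInstance
  refine ⟨?_, ?_, ?_⟩
  · rw [Subgroup.commutator_eq_bot_iff_le_centralizer]
    intro a ha
    rw [Subgroup.mem_centralizer_iff]
    intro b hb
    exact (core p q hpq _ S rfl (P : Subgroup S) Q X₁ X₂ hPn P.2 hS hQ hQc h₁ h₂ h₁₂ hc₁ hc₂ honly
      a ha b hb).symm
  · rw [eq_bot_iff]
    intro c hc
    rw [Subgroup.mem_bot]
    have h1 := Subgroup.mem_inf.mp hc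
    have h2 := Subgroup.mem_inf.mp h1.1
    have h3 := Subgroup.mem_inf.mp h1.2
    exact eq_one_of_centralizes hQ hQc h₁ h₂ h₁₂ hc₁ hc₂ honly h2.1 h2.2 h3.2
  · apply le_antisymm (sup_le inf_le_left inf_le_left)
    have hQP : Q ≤ Subgroup.normalizer ((P : Subgroup S) : Set S) := by
      rw [Subgroup.normalizer_eq_top_iff.mpr hPn]; exact le_top
    have hPq : ¬ q ∣ Nat.card ↥(P : Subgroup S) := by
      obtain ⟨k, hk⟩ := P.2.exists_card_eq
      rw [hk]
      intro hdvd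
      exact hpq ((Nat.prime_dvd_prime_iff_eq hq.out hp.out).mp (hq.out.dvd_of_dvd_pow hdvd)).symm
    have hgen := Cfsg.Agent.S1324.result q Q (P : Subgroup S) hQ (by rw [hQc]) hPq hQP
    refine le_trans (le_of_eq hgen) ?_
    apply iSup_le
    rintro ⟨B, hBQ, hBi⟩
    have hgoal : (P : Subgroup S) ⊓ Subgroup.centralizer (B : Set S) ≤
        ((P : Subgroup S) ⊓ Subgroup.centralizer (X₁ : Set S)) ⊔
          ((P : Subgroup S) ⊓ Subgroup.centralizer (X₂ : Set S)) := by
      by_cases hBne : (P : Subgroup S) ⊓ Subgroup.centralizer (B : Set S) = ⊥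
      · rw [hBne]; exact bot_le
      · rcases hyperplane_cases hQc hBQ hBi with hB | hB
        · exfalso
          apply hBne
          rw [hB]
          exact inf_centralizer_eq_bot hQ h₁ h₂ h₁₂ hc₁ hc₂ honly
        · rcases honly B hBQ hB hBne with h | h
          · rw [h]; exact le_sup_left
          · rw [h]; exact le_sup_right
    exact hgoal

end Cfsg.Agent.S1900
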