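import Cfsg.Statements.S1901
import Cfsg.Agent.Lib.helper38.PSolvable
import Cfsg.Agent.Lib.helper38.PPrimeP
import Cfsg.Agent.Lib.helper28.Fitting
-- import your own Cfsg.Agent.* helpers here

set_option autoImplicit false
open Cfsg

namespace Cfsg.Agent.S1901

open Cfsg.Agent.Lib.helper38 Cfsg.Agent.Lib.helper40 Cfsg.Agent.Lib.helper53

universe u

/-- In a finite `p`-soluble group, if the `p'`-subgroup `Q` normalizes a Sylow `p`-subgroup, then every
`p`-element normalizing `Q` centralizes `Q`. -/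
theorem core (p : ℕ) [hp : Fact p.Prime] : ∀ (n : ℕ) (G : Type u) [Group G] [Finite G],
    Nat.card G = n → Cfsg.IsPSolvable p G → ∀ (Q : Subgroup G), (Nat.card Q).Coprime p →
    ∀ P : Sylow p G, Q ≤ Subgroup.normalizer ((P : Subgroup G) : Set G) →
    ∀ x : G, x ∈ Subgroup.normalizer (Q : Set G) → (∃ k : ℕ, x ^ p ^ k = 1) →
    ∀ q ∈ Q, x * q * x⁻¹ * q⁻¹ = 1 := by
  intro n
  induction n using Nat.strong_induction_on with
  | _ n ih =>
  intro G _ _ hcard hS Q hQ P hQP x hx hxp q hq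
  have hxQ : ∀ q ∈ Q, x * q * x⁻¹ ∈ Q := fun q hq => (Subgroup.mem_normalizer_iff.mp hx q).mp hq
  have hquot : ∀ M : Subgroup G, M.Normal → M ≠ ⊥ → ∀ q ∈ Q, x * q * x⁻¹ * q⁻¹ ∈ M := by
    intro M hM hMne q hq
    have hlt : Nat.card (G ⧸ M) < n := by
      rw [← hcard]; exact Cfsg.Agent.Lib.helper28.card_quotient_lt_of_ne_bot hMne
    have hsurj := QuotientGroup.mk'_surjective M
    have h1 := ih _ hlt (G ⧸ M) rfl (isPSolvable_quotient M hS) (Q.map (QuotientGroup.mk' M))
      (Nat.Coprime.coprime_dvd_left (Subgroup.card_map_dvd Q _) hQ) (P.mapSurjective hsurj)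
      (by
        rw [Sylow.coe_mapSurjective]
        exact (Subgroup.map_mono hQP).trans (Subgroup.le_normalizer_map _))
      (QuotientGroup.mk' M x) (Subgroup.le_normalizer_map _ (Subgroup.mem_map_of_mem _ hx))
      (by obtain ⟨k, hk⟩ := hxp; exact ⟨k, by rw [← map_pow, hk, map_one]⟩)
      (QuotientGroup.mk' M q) (Subgroup.mem_map_of_mem _ hq)
    rw [← map_inv, ← map_inv, ← map_mul, ← map_mul, ← map_mul] at h1
    exact (QuotientGroup.eq_one_iff _).mp h1
  by_cases htriv : Subsingleton G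
  · exact Subsingleton.elim _ _
  · rw [not_subsingleton_iff_nontrivial] at htriv
    obtain ⟨M, hMn, hMne, hM | hM⟩ := exists_normal_ne_bot_pgroup_or_pprime hS
    · -- `M` a `p`-group
      have h1 := hquot M hMn hMne q hq
      have h2 : x * q * x⁻¹ * q⁻¹ ∈ Q := Q.mul_mem (hxQ q hq) (Q.inv_mem hq)
      exact eq_one_of_mem_pgroup_of_mem_coprime hM hQ h1 h2
    · -- `M` a `p'`-group
      have hcentP : ∀ q₁ ∈ Q ⊓ M, ∀ y ∈ (P : Subgroup G), q₁ * y = y * q₁ := by
        intro q₁ hq₁ y hy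
        rw [Subgroup.mem_inf] at hq₁
        have h1 : q₁ * y * q₁⁻¹ ∈ (P : Subgroup G) :=
          (Subgroup.mem_normalizer_iff.mp (hQP hq₁.1) y).mp hy
        have h2 : q₁ * y * q₁⁻¹ * y⁻¹ ∈ (P : Subgroup G) := mul_mem h1 (inv_mem hy)
        have h3 : q₁ * y * q₁⁻¹ * y⁻¹ ∈ M := by
          have : q₁ * y * q₁⁻¹ * y⁻¹ = q₁ * (y * q₁⁻¹ * y⁻¹) := by group
          rw [this]; exact mul_mem hq₁.2 (hMn.conj_mem _ (inv_mem hq₁.2) y)
        have h4 := eq_one_of_mem_pgroup_of_mem_coprime P.2 hM h2 h3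
        calc q₁ * y = (q₁ * y * q₁⁻¹ * y⁻¹) * (y * q₁) := by group
          _ = y * q₁ := by rw [h4, one_mul]
      have hxQ₁ : x ∈ Subgroup.normalizer ((Q ⊓ M : Subgroup G) : Set G) := by
        rw [Subgroup.mem_normalizer_iff]
        intro z
        simp only [Subgroup.mem_inf]
        constructor
        · intro hz; exact ⟨hxQ z hz.1, hMn.conj_mem z hz.2 x⟩
        · intro hz
          refine ⟨(Subgroup.mem_normalizer_iff.mp hx z).mpr hz.1, ?_⟩
          have := hMn.conj_mem _ hz.2 x⁻¹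
          have e : x⁻¹ * (x * z * x⁻¹) * x⁻¹⁻¹ = z := by group
          rwa [e] at this
      have hPN : (P : Subgroup G) ≤ Subgroup.normalizer ((Q ⊓ M : Subgroup G) : Set G) := by
        intro y hy
        rw [Subgroup.mem_normalizer_iff]
        intro z
        have key : ∀ z ∈ Q ⊓ M, y * z * y⁻¹ = z := by
          intro z hz
          rw [← hcentP z hz y hy]; group
        constructor
        · intro hz; rw [key z hz]; exact hz
        · intro hz
          have := key _ hz
          have e : y * z * y⁻¹ = z := by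
            have h5 := hcentP _ hz y hy
            calc y * z * y⁻¹ = y⁻¹ * (y * (y * z * y⁻¹)) := by group
              _ = y⁻¹ * ((y * z * y⁻¹) * y) := by rw [h5]
              _ = z := by group
          rw [← e]; exact hz
      have hxcent : ∀ q₁ ∈ Q ⊓ M, x * q₁ = q₁ * x := by
        obtain ⟨k, hk⟩ := hxp
        have hxpg : IsPGroup p (Subgroup.zpowers (⟨x, hxQ₁⟩ :
            ↥(Subgroup.normalizer ((Q ⊓ M : Subgroup G) : Set G)))) := by
          have h1 : orderOf (⟨x, hxQ₁⟩ :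
            ↥(Subgroup.normalizer ((Q ⊓ M : Subgroup G) : Set G))) ∣ p ^ k := by
            rw [Subgroup.orderOf_mk]; exact orderOf_dvd_of_pow_eq_one hk
          obtain ⟨j, -, hj⟩ := (Nat.dvd_prime_pow hp.out).mp h1
          apply IsPGroup.of_card (n := j)
          rw [Nat.card_zpowers, hj]
        obtain ⟨g, hg⟩ := exists_le_conj_sylow hxpg (P.subtype hPN)
        have h1 := mem_conj_iff.mp (hg (Subgroup.mem_zpowers _))
        rw [Sylow.coe_subtype, Subgroup.mem_subgroupOf] at h1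
        have hy : (g : G)⁻¹ * x * (g : G) ∈ (P : Subgroup G) := by
          simpa using h1
        intro q₁ hq₁
        have hg' : (g : G)⁻¹ * q₁ * (g : G) ∈ Q ⊓ M := by
          have h2 := (Subgroup.mem_normalizer_iff.mp g.2 ((g : G)⁻¹ * q₁ * (g : G))).mpr
          apply h2
          have e : (g : G) * ((g : G)⁻¹ * q₁ * (g : G)) * (g : G)⁻¹ = q₁ := by group
          rw [e]; exact hq₁
        have h3 := hcentP _ hg' _ hy
        calc x * q₁ = (g : G) * (((g : G)⁻¹ * x * (g : G)) * ((g : G)⁻¹ * q₁ * (g : G))) * (g : G)⁻¹ := by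
              group
          _ = (g : G) * (((g : G)⁻¹ * q₁ * (g : G)) * ((g : G)⁻¹ * x * (g : G))) * (g : G)⁻¹ := by
              rw [h3]
          _ = q₁ * x := by group
      have hc : x * q * x⁻¹ * q⁻¹ ∈ Q ⊓ M :=
        Subgroup.mem_inf.mpr ⟨Q.mul_mem (hxQ q hq) (Q.inv_mem hq), hquot M hMn hMne q hq⟩
      have hcomm : Commute x (x * q * x⁻¹ * q⁻¹) := hxcent _ hc
      have hpow : ∀ j : ℕ, x ^ j * q * (x ^ j)⁻¹ = (x * q * x⁻¹ * q⁻¹) ^ j * q := by
        intro j
        induction j with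
        | zero => simp
        | succ j ihj =>
          have e1 : x ^ (j + 1) * q * (x ^ (j + 1))⁻¹ = x * (x ^ j * q * (x ^ j)⁻¹) * x⁻¹ := by
            rw [pow_succ']; group
          have e2 : x * (x * q * x⁻¹ * q⁻¹) ^ j = (x * q * x⁻¹ * q⁻¹) ^ j * x :=
            (hcomm.pow_right j)
          rw [e1, ihj, ← mul_assoc, e2, pow_succ]
          group
      obtain ⟨k, hk⟩ := hxp
      have h5 := hpow (p ^ k)
      rw [hk] at h5
      have h6 : (x * q * x⁻¹ * q⁻¹) ^ p ^ k = 1 := by
        have : (x * q * x⁻¹ * q⁻¹) ^ p ^ k * q = 1 * q := by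
          rw [← h5]; group
        exact mul_right_cancel this
      have h7 : (orderOf (x * q * x⁻¹ * q⁻¹)).Coprime p :=
        Nat.Coprime.coprime_dvd_left (Subgroup.orderOf_dvd_natCard Q (Subgroup.mem_inf.mp hc).1) hQ
      exact eq_one_of_pow_eq_one_of_coprime h6 h7

/-- Let G be a finite p-solvable group and Q a subgroup of order prime to p such that p divides the index of C_G(Q) in N_G(Q). Then Q normalizes no Sylow p-subgroup of G. -/
theorem result {G : Type*} [Group G] [Finite G] {p : ℕ} [Fact p.Prime]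
    (hG : Cfsg.IsPSolvable p G) (Q : Subgroup G) (hQ : ¬ p ∣ Nat.card Q)
    (hA : p ∣ (Subgroup.centralizer (Q : Set G)).relIndex (Subgroup.normalizer (Q : Set G)))
    (P : Sylow p G) : ¬ Q ≤ Subgroup.normalizer ((P : Subgroup G) : Set G) := by
  intro hQP
  have hcop : (Nat.card Q).Coprime p := ((Nat.Prime.coprime_iff_not_dvd Fact.out).mpr hQ).symm
  obtain ⟨R⟩ : Nonempty (Sylow p ↥(Subgroup.normalizer (Q : Set G))) := inferInstance
  have hR : (R : Subgroup ↥(Subgroup.normalizer (Q : Set G))) ≤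
      (Subgroup.centralizer (Q : Set G)).subgroupOf (Subgroup.normalizer (Q : Set G)) := by
    intro r hr
    rw [Subgroup.mem_subgroupOf, Subgroup.mem_centralizer_iff]
    intro q hq
    obtain ⟨k, hk⟩ := R.2 ⟨r, hr⟩
    have hk' : (r : G) ^ p ^ k = 1 := by
      have := congrArg (fun z : (R : Subgroup ↥(Subgroup.normalizer (Q : Set G))) => ((z : ↥(Subgroup.normalizer (Q : Set G))) : G)) hk
      simpa using this
    have h1 := core p _ G rfl hG Q hcop P hQP (r : G) r.2 ⟨k, hk'⟩ q hq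
    calc q * (r : G) = ((r : G) * q * (r : G)⁻¹ * q⁻¹)⁻¹ * ((r : G) * q) := by group
      _ = (r : G) * q := by rw [h1, inv_one, one_mul]
  have h2 : (Subgroup.centralizer (Q : Set G)).relIndex (Subgroup.normalizer (Q : Set G)) ∣
      (R : Subgroup ↥(Subgroup.normalizer (Q : Set G))).index :=
    Subgroup.index_dvd_of_le hR
  exact R.not_dvd_index (hA.trans h2)

end Cfsg.Agent.S1901
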