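import Cfsg.Statements.S1902
import Cfsg.Agent.Lib.helper37.PConstrainedOdd
import Cfsg.Agent.Lib.helper38.HallHigman2

set_option autoImplicit false
open Cfsg

namespace Cfsg.Agent.S1902

/-- Let p be an odd prime, G a finite p-solvable group, and B an elementary abelian subgroup of order p² such that B is the subgroup generated by the elements of order p of some Sylow p-subgroup of C_G(b₀), for some nontrivial b₀ ∈ B. Then every B-invariant subgroup of G of order prime to p lies in O_{p'}(G). -/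
theorem result {G : Type*} [Group G] [Finite G] {p : ℕ} [Fact p.Prime] (hp : p ≠ 2)
    (hG : Cfsg.IsPSolvable p G) (B : Subgroup G) (hB : Cfsg.IsElementaryAbelian p B) (hBc : Nat.card B = p ^ 2)
    (b₀ : G) (hb₀ : b₀ ∈ B) (hb₁ : b₀ ≠ 1) (P : Sylow p ↥(Subgroup.centralizer ({b₀} : Set G)))
    (hBP : B = Subgroup.closure {x : G | x ∈ ((P : Subgroup ↥(Subgroup.centralizer ({b₀} : Set G))).map
      (Subgroup.centralizer ({b₀} : Set G)).subtype : Subgroup G) ∧ orderOf x = p})
    (Q : Subgroup G) (hQ : ¬ p ∣ Nat.card Q) (hinv : ∀ b ∈ B, ∀ x ∈ Q, b * x * b⁻¹ ∈ Q) :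
    Q ≤ Cfsg.pPrimeCore p G := by
  have hpp : p.Prime := Fact.out
  obtain ⟨S, hS⟩ : ∃ S : Subgroup G, S = (P : Subgroup ↥(Subgroup.centralizer ({b₀} : Set G))).map
      (Subgroup.centralizer ({b₀} : Set G)).subtype := ⟨_, rfl⟩
  rw [← hS] at hBP
  have hSC : S ≤ Subgroup.centralizer ({b₀} : Set G) := by
    rw [hS]; exact Subgroup.map_subtype_le _
  have hBS : B ≤ S := by
    rw [hBP]
    exact (Subgroup.closure_le _).mpr (fun y hy => hy.1)
  have hBp : IsPGroup p B := IsPGroup.of_card hBc
  have hord : ∀ b ∈ B, b ≠ 1 → orderOf b = p :=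
    fun b hb hb1 => orderOf_eq_prime (hB.2 b hb) hb1
  have hΩ : ∀ x ∈ Subgroup.centralizer (B : Set G), orderOf x = p → x ∈ B := by
    intro x hx hxo
    have hxC : x ∈ Subgroup.centralizer ({b₀} : Set G) := by
      rw [Subgroup.mem_centralizer_iff]
      intro h hh
      rw [Set.mem_singleton_iff] at hh
      rw [hh]
      exact Subgroup.mem_centralizer_iff.mp hx b₀ hb₀
    have hZp : IsPGroup p (Subgroup.zpowers x) := by
      apply IsPGroup.of_card (n := 1)
      rw [Nat.card_zpowers, hxo, pow_one]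
    have hZn : Subgroup.zpowers x ≤ Subgroup.normalizer (B : Set G) := by
      rw [Subgroup.zpowers_le]
      exact Subgroup.centralizer_le_normalizer _ hx
    have hTp : IsPGroup p ↥(Subgroup.zpowers x ⊔ B) :=
      IsPGroup.to_sup_of_normal_right' hZp hBp hZn
    have hTC : Subgroup.zpowers x ⊔ B ≤ Subgroup.centralizer ({b₀} : Set G) :=
      sup_le ((Subgroup.zpowers_le).mpr hxC) (hBS.trans hSC)
    obtain ⟨P', hP'⟩ := (hTp.comap_of_injective (Subgroup.centralizer ({b₀} : Set G)).subtype
      (Subgroup.centralizer ({b₀} : Set G)).subtype_injective).exists_le_sylow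
    obtain ⟨c, hc⟩ := MulAction.exists_smul_eq ↥(Subgroup.centralizer ({b₀} : Set G)) P P'
    have key : ∀ t ∈ Subgroup.zpowers x ⊔ B, (c : G)⁻¹ * t * c ∈ S := by
      intro t ht
      have h1 : (⟨t, hTC ht⟩ : ↥(Subgroup.centralizer ({b₀} : Set G))) ∈
          (P' : Subgroup ↥(Subgroup.centralizer ({b₀} : Set G))) := hP' ht
      rw [← hc, Sylow.coe_subgroup_smul, Subgroup.mem_smul_pointwise_iff_exists] at h1
      obtain ⟨s, hs, hst⟩ := h1
      rw [hS]
      refine ⟨s, hs, ?_⟩
      have h2 := congrArg Subtype.val hst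
      simp only [MulAut.smul_def, MulAut.conj_apply, Subgroup.coe_mul, Subgroup.coe_inv] at h2
      rw [← h2, Subgroup.coe_subtype]
      group
    have key2 : ∀ t ∈ Subgroup.zpowers x ⊔ B, orderOf t = p → (c : G)⁻¹ * t * c ∈ B := by
      intro t ht hto
      rw [hBP]
      apply Subgroup.subset_closure
      refine ⟨key t ht, ?_⟩
      rw [← hto]
      have h3 := MulEquiv.orderOf_eq (MulAut.conj (c : G)⁻¹) t
      simpa [MulAut.conj_apply] using h3
    have hBB : ∀ b ∈ B, (c : G)⁻¹ * b * c ∈ B := by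
      intro b hb
      by_cases hb1 : b = 1
      · rw [hb1]; simp
      · exact key2 b (Subgroup.mem_sup_right hb) (hord b hb hb1)
    let f : ↥B → ↥B := fun b => ⟨(c : G)⁻¹ * b * c, hBB b b.2⟩
    have hf : Function.Injective f := by
      intro a b hab
      have h4 : (c : G)⁻¹ * a * c = (c : G)⁻¹ * b * c := congrArg Subtype.val hab
      apply Subtype.ext
      simpa using h4
    obtain ⟨b, hb⟩ := Finite.surjective_of_injective hf
      ⟨(c : G)⁻¹ * x * c, key2 x (Subgroup.mem_sup_left (Subgroup.mem_zpowers x)) hxo⟩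
    have h5 : (c : G)⁻¹ * b * c = (c : G)⁻¹ * x * c := congrArg Subtype.val hb
    have hbx : (b : G) = x := by simpa using h5
    rw [← hbx]; exact b.2
  have hX := Cfsg.Agent.Lib.helper38.isPConstrained_of_isPSolvable hG
  have hAQ : B ≤ Subgroup.normalizer (Q : Set G) := by
    intro b hb
    rw [Subgroup.mem_normalizer_iff]
    intro h
    constructor
    · exact hinv b hb h
    · intro hh
      have h6 := hinv b⁻¹ (B.inv_mem hb) _ hh
      simpa [mul_assoc] using h6
  exact Cfsg.Agent.Lib.helper37.le_pPrimeCore_of_normalized_odd p hp hX B hBp hΩ Q hQ hAQ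

end Cfsg.Agent.S1902
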