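import Cfsg.Statements.S1905
import Cfsg.Agent.S0223
import Cfsg.Agent.S1225
import Cfsg.Agent.Lib.helper6.Dihedral
import Cfsg.Agent.Lib.helper53.Conj
-- import your own Cfsg.Agent.* helpers here

set_option autoImplicit false
open Cfsg

namespace Cfsg.Agent.S1905

open Cfsg.Agent.Lib.helper6 Cfsg.Agent.Lib.helper53

/-- If `M` contains the centralizers of its involutions, an involution in `M` and an involution
outside `M`, then all involutions are conjugate. -/
theorem all_conj {S : Type*} [Group S] [Finite S] (M : Subgroup S)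
    (hC : ∀ i ∈ M, orderOf i = 2 → Subgroup.centralizer ({i} : Set S) ≤ M) {i j : S}
    (hi : orderOf i = 2) (hiM : i ∈ M) (hj : orderOf j = 2) (hjM : j ∉ M) :
    ∀ x y : S, orderOf x = 2 → orderOf y = 2 → IsConj x y := by
  have key : ∀ x y : S, orderOf x = 2 → orderOf y = 2 → x ∈ M → y ∉ M → IsConj x y := by
    intro x y hx hy hxM hyM
    by_contra hcon
    obtain ⟨z, hz, hzx, hzy⟩ := exists_central_involution_of_not_isConj hx hy hcon
    have hzM : z ∈ M := hC x hxM hx (by
      rw [Subgroup.mem_centralizer_singleton_iff]; exact hzx.eq)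
    have hyM' : y ∈ M := hC z hzM hz (by
      rw [Subgroup.mem_centralizer_singleton_iff]; exact hzy.eq.symm)
    exact hyM hyM'
  have h2 : ∀ x, orderOf x = 2 → IsConj x j := by
    intro x hx
    by_cases hxM : x ∈ M
    · exact key x j hx hj hxM hjM
    · exact (key i x hi hx hiM hxM).symm.trans (key i j hi hj hiM hjM)
  intro x y hx hy
  exact (h2 x hx).trans (h2 y hy).symm

theorem exists_involution_not_mem {S : Type*} [Group S] [Finite S] (M : Subgroup S)
    (hcore : Odd (Nat.card M.normalCore)) {i : S} (hi : orderOf i = 2) :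
    ∃ j, orderOf j = 2 ∧ j ∉ M := by
  by_contra hcon
  push Not at hcon
  have hmem : i ∈ M.normalCore := fun b => hcon (b * i * b⁻¹) (orderOf_conj_two hi b)
  have h1 := not_involution_of_odd hcore ⟨i, hmem⟩
  apply h1
  rw [Subgroup.orderOf_mk, hi]

/-- Control of fusion of involutions. -/
theorem mem_of_conj_mem {S : Type*} [Group S] [Finite S] (M : Subgroup S)
    (hC : ∀ i ∈ M, orderOf i = 2 → Subgroup.centralizer ({i} : Set S) ≤ M) (X : Sylow 2 M) (I : S)
    (hIX : I ∈ (X : Subgroup M).map M.subtype)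
    (hIc : ∀ x ∈ (X : Subgroup M).map M.subtype, x * I = I * x) (hI : orderOf I = 2)
    (hN : Subgroup.normalizer (((X : Subgroup M).map M.subtype : Subgroup S) : Set S) ≤ M) :
    ∀ (u g : S), orderOf u = 2 → u ∈ M → g * u * g⁻¹ ∈ M → g ∈ M := by
  have hXM : (X : Subgroup M).map M.subtype ≤ M := by
    rintro _ ⟨y, -, rfl⟩; exact y.2
  have special : ∀ u g : S, orderOf u = 2 → u ∈ (X : Subgroup M).map M.subtype →
      g * u * g⁻¹ ∈ M → g ∈ M := by
    intro u g hu huX hv
    have hI'' : g * I * g⁻¹ ∈ M := by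
      apply hC (g * u * g⁻¹) hv (orderOf_conj_two hu g)
      rw [Subgroup.mem_centralizer_singleton_iff]
      have := hIc u huX
      calc g * I * g⁻¹ * (g * u * g⁻¹) = g * (I * u) * g⁻¹ := by group
        _ = g * (u * I) * g⁻¹ := by rw [this]
        _ = g * u * g⁻¹ * (g * I * g⁻¹) := by group
    have hI''2 : orderOf (g * I * g⁻¹) = 2 := orderOf_conj_two hI g
    have hconj : ∀ x ∈ (X : Subgroup M).map M.subtype, g * x * g⁻¹ ∈ M := by
      intro x hx
      apply hC _ hI'' hI''2
      rw [Subgroup.mem_centralizer_singleton_iff]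
      have := hIc x hx
      calc g * x * g⁻¹ * (g * I * g⁻¹) = g * (x * I) * g⁻¹ := by group
        _ = g * (I * x) * g⁻¹ := by rw [this]
        _ = g * I * g⁻¹ * (g * x * g⁻¹) := by group
    have hR : IsPGroup 2 ↥((((X : Subgroup M).map M.subtype).map (MulAut.conj g).toMonoidHom).subgroupOf M) :=
      (isPGroup_conj (X.2.map M.subtype) g).comap_subtype
    obtain ⟨m, hm⟩ := exists_le_conj_sylow hR X
    have hle : ((X : Subgroup M).map M.subtype).map (MulAut.conj ((m : S)⁻¹ * g)).toMonoidHom ≤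
        (X : Subgroup M).map M.subtype := by
      rw [conj_le_iff]
      intro x hx
      have h1 : (⟨g * x * g⁻¹, hconj x hx⟩ : M) ∈
          (((X : Subgroup M).map M.subtype).map (MulAut.conj g).toMonoidHom).subgroupOf M := by
        rw [Subgroup.mem_subgroupOf]
        exact conj_mem_conj hx
      have h2 := mem_conj_iff.mp (hm h1)
      have h3 : ((m⁻¹ * (⟨g * x * g⁻¹, hconj x hx⟩ : M) * m : M) : S) ∈ (X : Subgroup M).map M.subtype :=
        Subgroup.mem_map_of_mem M.subtype h2
      have e : ((m⁻¹ * (⟨g * x * g⁻¹, hconj x hx⟩ : M) * m : M) : S)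
          = (m : S)⁻¹ * g * x * ((m : S)⁻¹ * g)⁻¹ := by
        simp only [Subgroup.coe_mul, Subgroup.coe_inv]
        group
      rw [e] at h3
      exact h3
    have hnorm := hN (mem_normalizer_of_conj_le hle)
    have := M.mul_mem m.2 hnorm
    simpa using this
  intro u g hu huM hv
  have hz : IsPGroup 2 ↥(Subgroup.zpowers (⟨u, huM⟩ : M)) := by
    apply IsPGroup.of_card (n := 1)
    rw [Nat.card_zpowers, Subgroup.orderOf_mk, hu, pow_one]
  obtain ⟨m, hm⟩ := exists_le_conj_sylow hz X
  have h2 := mem_conj_iff.mp (hm (Subgroup.mem_zpowers _))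
  have h3 : ((m⁻¹ * (⟨u, huM⟩ : M) * m : M) : S) ∈ (X : Subgroup M).map M.subtype :=
    Subgroup.mem_map_of_mem M.subtype h2
  have e : ((m⁻¹ * (⟨u, huM⟩ : M) * m : M) : S) = (m : S)⁻¹ * u * ((m : S)⁻¹)⁻¹ := by
    simp only [Subgroup.coe_mul, Subgroup.coe_inv]
    group
  rw [e] at h3
  have h4 : orderOf ((m : S)⁻¹ * u * ((m : S)⁻¹)⁻¹) = 2 := orderOf_conj_two hu _
  have h5 : g * (m : S) * ((m : S)⁻¹ * u * ((m : S)⁻¹)⁻¹) * (g * (m : S))⁻¹ ∈ M := by
    have e2 : g * (m : S) * ((m : S)⁻¹ * u * ((m : S)⁻¹)⁻¹) * (g * (m : S))⁻¹ = g * u * g⁻¹ := by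
      group
    rw [e2]; exact hv
  have h6 := special _ _ h4 h3 h5
  have := M.mul_mem h6 (M.inv_mem m.2)
  simpa using this

/-- Let M be a subgroup of even order of a finite group S such that M contains the centralizer in S of each of its involutions and the normal core of M in S has odd order. Then all involutions of S are conjugate. If moreover N_S(X) ≤ M for a Sylow 2-subgroup X of M and I is an involution in the centre of X, then all involutions of M are conjugate in M and M = M₀ C_M(I) for some subgroup M₀ of M of odd order. -/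
theorem result {S : Type*} [Group S] [Finite S] (M : Subgroup S) (hM : Even (Nat.card M))
    (hC : ∀ i ∈ M, orderOf i = 2 → Subgroup.centralizer ({i} : Set S) ≤ M) (hcore : Odd (Nat.card M.normalCore)) :
    (∀ x y : S, orderOf x = 2 → orderOf y = 2 → IsConj x y) ∧
      ∀ (X : Sylow 2 M) (I : M), I ∈ (Subgroup.center ↥(X : Subgroup ↥M)).map (X : Subgroup ↥M).subtype → orderOf I = 2 →
        Subgroup.normalizer (((X : Subgroup M).map M.subtype : Subgroup S) : Set S) ≤ M →
        (∀ x y : M, orderOf x = 2 → orderOf y = 2 → IsConj x y) ∧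
          ∃ M₀ : Subgroup M, Odd (Nat.card M₀) ∧
            ∀ m : M, ∃ a ∈ M₀, ∃ c ∈ Subgroup.centralizer ({I} : Set M), m = a * c := by
  obtain ⟨i, hiM, hi⟩ := exists_involution_mem_of_even M hM
  obtain ⟨j, hj, hjM⟩ := exists_involution_not_mem M hcore hi
  have hall := all_conj M hC hi hiM hj hjM
  refine ⟨hall, ?_⟩
  intro X I hIZ hI hN
  -- translate the data on `I`
  have hI' : orderOf (I : S) = 2 := by rw [Subgroup.orderOf_coe, hI]
  obtain ⟨z, hz, hzI⟩ := hIZ
  have hIX : (I : S) ∈ (X : Subgroup M).map M.subtype := by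
    refine Subgroup.mem_map_of_mem M.subtype ?_
    rw [← hzI]; exact z.2
  have hIc : ∀ x ∈ (X : Subgroup M).map M.subtype, x * (I : S) = (I : S) * x := by
    rintro _ ⟨x₀, hx₀, rfl⟩
    have h1 := Subgroup.mem_center_iff.mp hz ⟨x₀, hx₀⟩
    have h2 := congrArg (fun w : (X : Subgroup M) => ((w : M) : S)) h1
    simp only [Subgroup.coe_mul] at h2
    rw [← hzI]
    exact h2
  have hfus := mem_of_conj_mem M hC X (I : S) hIX hIc hI' hN
  have hMtop : M ≠ ⊤ := by
    intro h
    exact hjM (h ▸ Subgroup.mem_top j)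
  have hSE : Cfsg.IsStronglyEmbedded M := by
    refine (Cfsg.Agent.S0223.result M hMtop hM).mpr ⟨hC, ?_⟩
    intro t ht s hs ht2 hs2 hconj
    obtain ⟨c, hc⟩ := isConj_iff.mp hconj
    exact ⟨c, hfus t c ht2 ht (hc ▸ hs), hc⟩
  refine ⟨?_, ?_⟩
  · intro x y hx hy
    have hx' : orderOf (x : S) = 2 := by rw [Subgroup.orderOf_coe, hx]
    have hy' : orderOf (y : S) = 2 := by rw [Subgroup.orderOf_coe, hy]
    obtain ⟨c, hc⟩ := isConj_iff.mp (hall x y hx' hy')
    have hcM : c ∈ M := hfus x c hx' x.2 (hc ▸ y.2)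
    rw [isConj_iff]
    exact ⟨⟨c, hcM⟩, Subtype.ext hc⟩
  · refine ⟨(M ⊓ M.map (MulAut.conj j).toMonoidHom).subgroupOf M, ?_, ?_⟩
    · have h1 := hSE.2.2 j hjM
      rw [Nat.card_congr (Subgroup.subgroupOfEquivOfLe
        (inf_le_left : M ⊓ M.map (MulAut.conj j).toMonoidHom ≤ M)).toEquiv]
      exact h1
    · intro m
      have htM : (m : S) * (I : S) * (m : S)⁻¹ ∈ M := M.mul_mem (M.mul_mem m.2 I.2) (M.inv_mem m.2)
      have ht2 : orderOf ((m : S) * (I : S) * (m : S)⁻¹) = 2 := orderOf_conj_two hI' _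
      obtain ⟨d, hd, hdI⟩ := (Cfsg.Agent.S1225.result M hSE j hj hjM (I : S) _ hI' I.2 ht2 htM
        ).1
      have hdM : d ∈ M := (Subgroup.mem_inf.mp hd).1
      refine ⟨⟨d, hdM⟩, ?_, (⟨d, hdM⟩ : M)⁻¹ * m, ?_, by group⟩
      · rw [Subgroup.mem_subgroupOf]; exact hd
      · rw [Subgroup.mem_centralizer_singleton_iff]
        apply Subtype.ext
        simp only [Subgroup.coe_mul, Subgroup.coe_inv]
        calc d⁻¹ * (m : S) * (I : S) = d⁻¹ * ((m : S) * (I : S) * (m : S)⁻¹) * (m : S) := by group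
          _ = d⁻¹ * (d * (I : S) * d⁻¹) * (m : S) := by rw [hdI]
          _ = (I : S) * (d⁻¹ * (m : S)) := by group

end Cfsg.Agent.S1905
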