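import Cfsg.Statements.S1906
import Cfsg.Agent.Lib.helper92.G3EL
import Cfsg.Agent.Lib.helper63.G3GC
import Cfsg.Agent.Lib.helper63.G3AUT
import Cfsg.Agent.Lib.helper13.G3TR
import Cfsg.Agent.Lib.helper13.G3IX
import Cfsg.Agent.Lib.helper38.G3TRC
import Cfsg.Agent.Lib.helper38.G3RK1
import Cfsg.Agent.Lib.helper49.G3KEY
import Cfsg.Agent.Lib.helper49.G3COMM
-- import your own Cfsg.Agent.* helpers here

set_option autoImplicit false
open Cfsg

namespace Cfsg.Agent.S1906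


/-- Traces and the key identity for two distinct commuting non-identity involutions of
determinant one. -/
theorem core_all {F : Type*} [Field F] (h2 : (2 : F) ≠ 0) (c₁ c₂ : Matrix (Fin 3) (Fin 3) F)
    (h1 : c₁ * c₁ = 1) (h2' : c₂ * c₂ = 1) (hc : c₁ * c₂ = c₂ * c₁)
    (hd1 : c₁.det = 1) (hd2 : c₂.det = 1) (hn1 : c₁ ≠ 1) (hn2 : c₂ ≠ 1) (hne : c₁ ≠ c₂) :
    c₁.trace = -1 ∧ c₂.trace = -1 ∧ (c₁ * c₂).trace = -1 ∧ c₁ + c₂ + c₁ * c₂ = -1 := by
  refine ⟨Cfsg.Agent.Lib.helper38.G3.inv_trace h2 c₁ h1 hd1 hn1, Cfsg.Agent.Lib.helper38.G3.inv_trace h2 c₂ h2' hd2 hn2,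
    Cfsg.Agent.Lib.helper38.G3.inv_trace h2 (c₁ * c₂) ?_ ?_ ?_, Cfsg.Agent.Lib.helper49.G3.key_id h2 c₁ c₂ h1 h2' hc hd1 hd2 hn1 hn2 hne⟩
  · calc c₁ * c₂ * (c₁ * c₂) = c₁ * (c₂ * c₁) * c₂ := by simp only [mul_assoc]
      _ = c₁ * (c₁ * c₂) * c₂ := by rw [hc]
      _ = (c₁ * c₁) * (c₂ * c₂) := by simp only [mul_assoc]
      _ = 1 := by rw [h1, h2', mul_one]
  · rw [Matrix.det_mul, hd1, hd2, mul_one]
  · intro h
    apply hne
    calc c₁ = c₁ * (c₂ * c₂) := by rw [h2', mul_one]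
      _ = (c₁ * c₂) * c₂ := by rw [mul_assoc]
      _ = c₂ := by rw [h, one_mul]

/-- Let G be a finite group with no subgroup of index 2 whose Sylow 2-subgroup X embeds in GL₃(F) for a finite field F of odd order. If X contains an elementary abelian subgroup of order 8, then X is abelian. -/
theorem result {G : Type*} [Group G] [Finite G] (hG : ∀ H : Subgroup G, H.index ≠ 2) (X : Sylow 2 G)
    {F : Type*} [Field F] [Fintype F] (hF : Odd (Fintype.card F))
    (f : ↥(X : Subgroup G) →* GL (Fin 3) F) (hf : Function.Injective f)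
    (E : Subgroup G) (hE : E ≤ (X : Subgroup G)) (hEa : Cfsg.IsElementaryAbelian 2 E) (hE8 : Nat.card E = 8) :
    IsMulCommutative (X : Subgroup G) := by
  classical
  by_contra hna
  have hP : IsPGroup 2 ↥(X : Subgroup G) := X.isPGroup'
  have hna' : ¬ ∀ a b : ↥(X : Subgroup G), a * b = b * a :=
    fun h => hna (isMulCommutative_iff.mpr h)
  have h2 : (2 : F) ≠ 0 := by
    intro h
    have hchar : ringChar F = 2 :=
      CharP.ringChar_of_prime_eq_zero Nat.prime_two (by exact_mod_cast h)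
    have h3 := FiniteField.even_card_of_char_two hchar
    obtain ⟨k, hk⟩ := hF
    omega
  have hneg : (-1 : Fˣ) ≠ 1 := by
    intro h
    have h3 : (-1 : F) = 1 := by simpa using congrArg Units.val h
    apply h2
    linear_combination (-1 : F) * h3
  -- the subgroup `E` inside `X`
  have hE'c : ∀ a ∈ E.subgroupOf (X : Subgroup G), ∀ b ∈ E.subgroupOf (X : Subgroup G),
      a * b = b * a := by
    intro a ha b hb
    apply Subtype.ext
    have hab := (isMulCommutative_iff.mp hEa.1) ⟨(a : G), Subgroup.mem_subgroupOf.mp ha⟩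
      ⟨(b : G), Subgroup.mem_subgroupOf.mp hb⟩
    have hab' : (a : G) * (b : G) = (b : G) * (a : G) := congrArg Subtype.val hab
    exact hab'
  have hE'2 : ∀ a ∈ E.subgroupOf (X : Subgroup G), a ^ 2 = 1 := by
    intro a ha
    apply Subtype.ext
    have h3 := hEa.2 (a : G) (Subgroup.mem_subgroupOf.mp ha)
    simpa using h3
  have hE'8 : Nat.card (E.subgroupOf (X : Subgroup G)) = 8 := by
    rw [← hE8]
    exact Nat.card_congr (Subgroup.subgroupOfEquivOfLe hE).toEquiv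
  -- the core matrix facts
  have hcoreInv : ∀ c₁ c₂ : Matrix (Fin 3) (Fin 3) F, c₁ * c₁ = 1 → c₂ * c₂ = 1 →
      c₁ * c₂ = c₂ * c₁ → c₁.det = 1 → c₂.det = 1 → c₁ ≠ 1 → c₂ ≠ 1 → c₁ ≠ c₂ →
      ∀ e : Matrix (Fin 3) (Fin 3) F, e * e = 1 → e * c₁ = c₁ * e → e * c₂ = c₂ * e →
        e = 1 ∨ e = -1 ∨ e = c₁ ∨ e = -c₁ ∨ e = c₂ ∨ e = -c₂ ∨ e = c₁ * c₂ ∨
          e = -(c₁ * c₂) := by
    intro c₁ c₂ h1 h2' hc hd1 hd2 hn1 hn2 hne e he he1 he2
    obtain ⟨t1, t2, t3, hkey⟩ := core_all h2 c₁ c₂ h1 h2' hc hd1 hd2 hn1 hn2 hne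
    exact Cfsg.Agent.Lib.helper49.G3.core_inv h2 c₁ c₂ h1 h2' hc t1 t2 t3 hkey
      (fun P A hP ht => Cfsg.Agent.Lib.helper38.G3.rank_one h2 P hP ht A) e he he1 he2
  obtain ⟨z₀, -, hfz⟩ := Cfsg.Agent.Lib.helper92.G3.neg_one_mem h2 f hf (E.subgroupOf (X : Subgroup G)) hE'c hE'2 hE'8
    hcoreInv
  have hfz' : f z₀ = -1 := Units.ext (by rw [hfz]; simp)
  have hz₀c : ∀ x : ↥(X : Subgroup G), x * z₀ = z₀ * x := by
    intro x
    apply hf
    rw [map_mul, map_mul, hfz']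
    simp
  have hz₀2 : z₀ * z₀ = 1 := by
    apply hf
    rw [map_mul, hfz', map_one]
    simp
  set φ : ↥(X : Subgroup G) →* Fˣ := Matrix.GeneralLinearGroup.det.comp f with hφ
  have hφdet : ∀ x : ↥(X : Subgroup G), ((φ x : Fˣ) : F) = ((f x : GL (Fin 3) F) :
      Matrix (Fin 3) (Fin 3) F).det := fun x => rfl
  have hφz : φ z₀ = -1 := by
    apply Units.ext
    rw [hφdet, hfz, Matrix.det_neg, Matrix.det_one, Fintype.card_fin]
    simp
    norm_num
  have hz₀1 : z₀ ≠ 1 := by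
    intro h
    rw [h, map_one] at hφz
    exact hneg hφz.symm
  obtain ⟨c, hcC, hcZ, hc1, hc2⟩ := Cfsg.Agent.Lib.helper63.G3.comm_center hP hna'
  have hφc : φ c = 1 := Abelianization.commutator_subset_ker φ hcC
  -- matrix translations
  have hsq : ∀ y : ↥(X : Subgroup G), y * y = 1 →
      ((f y : GL (Fin 3) F) : Matrix (Fin 3) (Fin 3) F) * (f y : GL (Fin 3) F) = 1 := by
    intro y hy
    rw [← Units.val_mul, ← map_mul, hy, map_one, Units.val_one]
  have hcm : ∀ a y : ↥(X : Subgroup G), a * y = y * a →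
      ((f a : GL (Fin 3) F) : Matrix (Fin 3) (Fin 3) F) * (f y : GL (Fin 3) F)
        = (f y : GL (Fin 3) F) * (f a : GL (Fin 3) F) := by
    intro a y hay
    rw [← Units.val_mul, ← map_mul, hay, map_mul, Units.val_mul]
  have hne1 : ∀ y : ↥(X : Subgroup G), y ≠ 1 →
      ((f y : GL (Fin 3) F) : Matrix (Fin 3) (Fin 3) F) ≠ 1 := by
    intro y hy h
    apply hy
    apply hf
    rw [map_one]
    exact Units.ext h
  -- uniqueness of the central involution with `φ = 1`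
  have huniq : ∀ y : ↥(X : Subgroup G), (∀ x : ↥(X : Subgroup G), x * y = y * x) → y * y = 1 →
      φ y = 1 → y ≠ 1 → y = c := by
    intro y hyc hy2 hφy hy1
    by_contra hyc'
    apply hna'
    intro a b
    apply hf
    apply Units.ext
    rw [map_mul, map_mul, Units.val_mul, Units.val_mul]
    have hdy : ((f y : GL (Fin 3) F) : Matrix (Fin 3) (Fin 3) F).det = 1 := by
      rw [← hφdet, hφy, Units.val_one]
    have hdc : ((f c : GL (Fin 3) F) : Matrix (Fin 3) (Fin 3) F).det = 1 := by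
      rw [← hφdet, hφc, Units.val_one]
    have hcc : ∀ x : ↥(X : Subgroup G), x * c = c * x := fun x =>
      (Subgroup.mem_center_iff.mp hcZ x)
    have hney : ((f y : GL (Fin 3) F) : Matrix (Fin 3) (Fin 3) F) ≠ (f c : GL (Fin 3) F) := by
      intro h
      exact hyc' (hf (Units.ext h))
    obtain ⟨t1, t2, t3, hkey⟩ := core_all h2 _ _ (hsq y hy2) (hsq c hc2) (hcm y c (hcc y))
      hdy hdc (hne1 y hy1) (hne1 c hc1) hney
    exact Cfsg.Agent.Lib.helper49.G3.core_comm h2 _ _ (hsq y hy2) (hsq c hc2) (hcm y c (hcc y)) t1 t2 t3 hkey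
      (fun P A hP ht => Cfsg.Agent.Lib.helper38.G3.rank_one h2 P hP ht A) _ _ (hcm a y (hyc a)) (hcm a c (hcc a))
      (hcm b y (hyc b)) (hcm b c (hcc b))
  -- the normalizer condition
  have hN : ∀ n : G, (∀ x ∈ (X : Subgroup G), n⁻¹ * x * n ∈ (X : Subgroup G)) →
      ∀ h : n⁻¹ * (z₀ : G) * n ∈ (X : Subgroup G), φ ⟨n⁻¹ * (z₀ : G) * n, h⟩ = -1 := by
    intro n hn h
    obtain ⟨α, hα⟩ := Cfsg.Agent.Lib.helper63.G3.conj_aut (X : Subgroup G) n hn
    have hy : (⟨n⁻¹ * (z₀ : G) * n, h⟩ : ↥(X : Subgroup G)) = α z₀ := Subtype.ext (hα z₀).symm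
    rw [hy]
    have hyc : ∀ x : ↥(X : Subgroup G), x * α z₀ = α z₀ * x := by
      intro x
      obtain ⟨x', rfl⟩ := α.surjective x
      rw [← map_mul, ← map_mul, hz₀c]
    have hy2 : α z₀ * α z₀ = 1 := by rw [← map_mul, hz₀2, map_one]
    have hy1 : α z₀ ≠ 1 := by
      intro h1
      apply hz₀1
      apply α.injective
      rw [h1, map_one]
    have hsq' : φ (α z₀) * φ (α z₀) = 1 := by rw [← map_mul, hy2, map_one]
    have hpm : φ (α z₀) = 1 ∨ φ (α z₀) = -1 := by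
      have h3 : ((φ (α z₀) : Fˣ) : F) * (φ (α z₀) : Fˣ) = 1 := by
        rw [← Units.val_mul, hsq', Units.val_one]
      rcases mul_self_eq_one_iff.mp h3 with h4 | h4
      · left; exact Units.ext h4
      · right; exact Units.ext (by rw [h4]; simp)
    rcases hpm with h1 | h1
    · exfalso
      have hyc' : α z₀ = c := huniq (α z₀) hyc hy2 h1 hy1
      have h3 : (φ.comp α.symm.toMonoidHom) c = 1 :=
        Abelianization.commutator_subset_ker _ hcC
      have h4 : α.symm c = z₀ := by rw [← hyc', α.symm_apply_apply]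
      have h5 : φ z₀ = 1 := by
        rw [← h4]
        exact h3
      rw [hφz] at h5
      exact hneg h5
    · exact h1
  obtain ⟨V, hV⟩ := Cfsg.Agent.Lib.helper13.G3.transfer_neg_one X φ (z₀ : G) z₀.2 (congrArg Subtype.val hz₀2)
    (fun x hx => congrArg Subtype.val (hz₀c ⟨x, hx⟩)) hN
  obtain ⟨H, hH⟩ := Cfsg.Agent.Lib.helper13.G3.index_two_of_hom h2 V _ hV
  exact hG H hH

end Cfsg.Agent.S1906
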