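import Cfsg.Statements.S1907
import Cfsg.Agent.Lib.helper38.PPrimeP

set_option autoImplicit false
open Cfsg

namespace Cfsg.Agent.S1907

open Subgroup Cfsg.Agent.Lib.helper38

theorem partA {G : Type*} [Group G] [Finite G] {p : ℕ} [Fact p.Prime] (P : Sylow p G) (y : G)
    (hyN : y ∈ normalizer (((P : Subgroup G) ⊓ Cfsg.pPrimePCore p G : Subgroup G) : Set G))
    (hyp : ∃ k : ℕ, orderOf y = p ^ k) (d : G) (hd : d ∈ Cfsg.pPrimeCore p G)
    (hdy : d⁻¹ * y * d ∈ normalizer (((P : Subgroup G) ⊓ Cfsg.pPrimePCore p G : Subgroup G) : Set G)) :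
    ∃ d₁ ∈ Cfsg.pPrimeCore p G ⊓ centralizer ({y} : Set G),
      ∃ d₂ ∈ Cfsg.pPrimeCore p G ⊓ centralizer (((P : Subgroup G) ⊓ Cfsg.pPrimePCore p G : Subgroup G) : Set G),
        d = d₁ * d₂ := by
  classical
  have hKn := pPrimePCore_normal p G
  have hDn : (Cfsg.pPrimeCore p G).Normal := Cfsg.pPrimeCore_normal p G
  have hDc := Cfsg.Agent.Lib.helper40.pPrimeCore_card_coprime p G
  obtain ⟨H, hHdef⟩ : ∃ H : Subgroup G, H = (P : Subgroup G) ⊓ Cfsg.pPrimePCore p G := ⟨_, rfl⟩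
  rw [← hHdef] at hyN hdy ⊢
  have hH : IsPGroup p H := by rw [hHdef]; exact P.2.to_inf_left
  have hHK : H ≤ Cfsg.pPrimePCore p G := by rw [hHdef]; exact inf_le_right
  have hY : IsPGroup p (zpowers y) := by
    obtain ⟨k, hk⟩ := hyp
    apply IsPGroup.of_card (n := k)
    rw [Nat.card_zpowers, hk]
  have hYN : zpowers y ≤ normalizer (H : Set G) := (zpowers_le).mpr hyN
  have hR₁ : IsPGroup p (H ⊔ zpowers y : Subgroup G) := hH.to_sup_of_normal_left' hY hYN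
  have hy2 : y ∈ normalizer ((H.map (MulAut.conj d).toMonoidHom : Subgroup G) : Set G) := by
    rw [Cfsg.Agent.Lib.helper53.normalizer_conj, Cfsg.Agent.Lib.helper53.mem_conj_iff]; exact hdy
  have hR₂ : IsPGroup p (H.map (MulAut.conj d).toMonoidHom ⊔ zpowers y : Subgroup G) :=
    (Cfsg.Agent.Lib.helper53.isPGroup_conj hH d).to_sup_of_normal_left' hY ((zpowers_le).mpr hy2)
  have hle : H.map (MulAut.conj d).toMonoidHom ⊔ zpowers y ≤ Cfsg.pPrimeCore p G ⊔ (H ⊔ zpowers y) := by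
    apply sup_le
    · rw [Cfsg.Agent.Lib.helper53.conj_le_iff]
      intro h hh
      have e : d * h * d⁻¹ = (d * (h * d⁻¹ * h⁻¹)) * h := by group
      rw [e]
      exact Subgroup.mul_mem_sup (mul_mem hd (hDn.conj_mem _ (inv_mem hd) h))
        (mem_sup_left hh)
    · exact le_sup_of_le_right le_sup_right
  obtain ⟨c, hc, hcR⟩ := exists_conj_le_of_le_sup (Cfsg.pPrimeCore p G) (H ⊔ zpowers y) _ hDc hR₁ hR₂ hle
  have hyR₁ : y ∈ H ⊔ zpowers y := mem_sup_right (mem_zpowers y)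
  have hcy : c⁻¹ * y * c = y := by
    have h1 : c⁻¹ * y * c ∈ H ⊔ zpowers y := hcR y (mem_sup_right (mem_zpowers y))
    have h2 : y⁻¹ * (c⁻¹ * y * c) ∈ H ⊔ zpowers y := mul_mem (inv_mem hyR₁) h1
    have h3 : y⁻¹ * (c⁻¹ * y * c) ∈ Cfsg.pPrimeCore p G := by
      have e : y⁻¹ * (c⁻¹ * y * c) = (y⁻¹ * c⁻¹ * y⁻¹⁻¹) * c := by group
      rw [e]
      exact mul_mem (hDn.conj_mem _ (inv_mem hc) _) hc
    have h4 := eq_one_of_mem_pgroup_of_mem_coprime hR₁ hDc h2 h3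
    calc c⁻¹ * y * c = y * (y⁻¹ * (c⁻¹ * y * c)) := by group
      _ = y := by rw [h4, mul_one]
  have hRK : (H ⊔ zpowers y) ⊓ Cfsg.pPrimePCore p G ≤ H := by
    have := le_sylow_inf_normal_of_isPGroup P (Cfsg.pPrimePCore p G)
      ((H ⊔ zpowers y) ⊓ Cfsg.pPrimePCore p G) (hR₁.to_inf_left)
      (by rw [← hHdef]; exact le_inf le_sup_left hHK) inf_le_right
    rwa [← hHdef] at this
  have hcdN : c⁻¹ * d ∈ normalizer (H : Set G) := by
    apply Cfsg.Agent.Lib.helper53.mem_normalizer_of_conj_le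
    rw [Cfsg.Agent.Lib.helper53.conj_le_iff]
    intro h hh
    apply hRK
    refine Subgroup.mem_inf.mpr ⟨?_, hKn.conj_mem _ (hHK hh) _⟩
    have e : c⁻¹ * d * h * (c⁻¹ * d)⁻¹ = c⁻¹ * (d * h * d⁻¹) * c := by group
    rw [e]
    exact hcR _ (mem_sup_left (Cfsg.Agent.Lib.helper53.conj_mem_conj hh))
  have hcdD : c⁻¹ * d ∈ Cfsg.pPrimeCore p G := mul_mem (inv_mem hc) hd
  refine ⟨c, Subgroup.mem_inf.mpr ⟨hc, ?_⟩, c⁻¹ * d,
    Subgroup.mem_inf.mpr ⟨hcdD, mem_centralizer_of_mem_pPrimeCore_normalizer hH hcdD hcdN⟩, by group⟩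
  rw [mem_centralizer_iff]
  intro h hh
  rw [Set.mem_singleton_iff] at hh
  subst hh
  have e : c * (c⁻¹ * h * c) = h * c := by group
  rw [hcy] at e
  exact e.symm

theorem partB {G : Type*} [Group G] [Finite G] {p : ℕ} [Fact p.Prime] (P : Sylow p G) (x y : G)
    (hx : x ∈ (P : Subgroup G)) (hy : y ∈ (P : Subgroup G)) (hxy : IsConj x y) :
    ∃ n ∈ normalizer (((P : Subgroup G) ⊓ Cfsg.pPrimePCore p G : Subgroup G) : Set G), n * x * n⁻¹ = y := by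
  classical
  have hKn := pPrimePCore_normal p G
  have hDn : (Cfsg.pPrimeCore p G).Normal := Cfsg.pPrimeCore_normal p G
  obtain ⟨g, hg⟩ := isConj_iff.mp hxy
  have hH : IsPGroup p ((P : Subgroup G) ⊓ Cfsg.pPrimePCore p G : Subgroup G) := P.2.to_inf_left
  have hPN : (P : Subgroup G) ≤ normalizer (((P : Subgroup G) ⊓ Cfsg.pPrimePCore p G : Subgroup G) : Set G) := by
    intro u hu
    apply Cfsg.Agent.Lib.helper53.mem_normalizer_of_conj_le
    rw [Cfsg.Agent.Lib.helper53.conj_le_iff]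
    intro h hh
    exact Subgroup.mem_inf.mpr ⟨mul_mem (mul_mem hu (Subgroup.mem_inf.mp hh).1) (inv_mem hu),
      hKn.conj_mem _ (Subgroup.mem_inf.mp hh).2 u⟩
  -- Frattini
  have hidx : ¬ p ∣ (((P : Subgroup G) ⊓ Cfsg.pPrimePCore p G).subgroupOf (Cfsg.pPrimePCore p G)).index :=
    not_dvd_relIndex_sylow_inf_normal P (Cfsg.pPrimePCore p G)
  have hfr := Sylow.normalizer_sup_eq_top ((hH.comap_subtype (K := Cfsg.pPrimePCore p G)).toSylow hidx)
  have hmap : (((P : Subgroup G) ⊓ Cfsg.pPrimePCore p G).subgroupOf (Cfsg.pPrimePCore p G)).map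
      (Cfsg.pPrimePCore p G).subtype = (P : Subgroup G) ⊓ Cfsg.pPrimePCore p G := by
    rw [Subgroup.subgroupOf_map_subtype, inf_of_le_left inf_le_right]
  have hfr' : normalizer (((P : Subgroup G) ⊓ Cfsg.pPrimePCore p G : Subgroup G) : Set G) ⊔
      Cfsg.pPrimePCore p G = ⊤ := by
    rw [← hfr]
    congr 2
    exact congrArg _ hmap.symm
  have hgmem : g ∈ normalizer (((P : Subgroup G) ⊓ Cfsg.pPrimePCore p G : Subgroup G) : Set G) ⊔
      Cfsg.pPrimeCore p G := by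
    have h1 : g ∈ normalizer (((P : Subgroup G) ⊓ Cfsg.pPrimePCore p G : Subgroup G) : Set G) ⊔
      Cfsg.pPrimePCore p G := by rw [hfr']; exact mem_top g
    have h2 : normalizer (((P : Subgroup G) ⊓ Cfsg.pPrimePCore p G : Subgroup G) : Set G) ⊔
        Cfsg.pPrimePCore p G ≤ normalizer (((P : Subgroup G) ⊓ Cfsg.pPrimePCore p G : Subgroup G) : Set G) ⊔
        Cfsg.pPrimeCore p G :=
      sup_le le_sup_left (le_trans (pPrimePCore_le_sup P) (sup_le le_sup_right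
        (le_sup_of_le_left le_normalizer)))
    exact h2 h1
  obtain ⟨n, hn, d, hd, hnd⟩ := Subgroup.mem_sup_of_normal_right.mp hgmem
  have hxN := hPN hx
  have hyN := hPN hy
  have hdx : (d⁻¹)⁻¹ * x * d⁻¹ ∈ normalizer (((P : Subgroup G) ⊓ Cfsg.pPrimePCore p G : Subgroup G) : Set G) := by
    have e : (d⁻¹)⁻¹ * x * d⁻¹ = n⁻¹ * y * n := by
      rw [← hg, ← hnd]; group
    rw [e]
    exact mul_mem (mul_mem (inv_mem hn) hyN) hn
  have hxord : ∃ k : ℕ, orderOf x = p ^ k := by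
    obtain ⟨k, hk⟩ := P.2.exists_orderOf_eq_pow ⟨x, hx⟩
    exact ⟨k, by rw [← hk, Subgroup.orderOf_mk]⟩
  obtain ⟨d₁, hd₁, d₂, hd₂, hdd⟩ := partA P x hxN hxord d⁻¹ (inv_mem hd) hdx
  have hd₁x : x * d₁ = d₁ * x :=
    (mem_centralizer_iff.mp (Subgroup.mem_inf.mp hd₁).2) x (Set.mem_singleton x)
  refine ⟨n * d₂⁻¹, mul_mem hn (inv_mem (Subgroup.centralizer_le_normalizer _ (Subgroup.mem_inf.mp hd₂).2)), ?_⟩
  rw [← hg, ← hnd]
  have hd' : d = d₂⁻¹ * d₁⁻¹ := by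
    have : d = (d⁻¹)⁻¹ := by group
    rw [this, hdd]; group
  rw [hd']
  calc n * d₂⁻¹ * x * (n * d₂⁻¹)⁻¹ = n * d₂⁻¹ * (d₁⁻¹ * (d₁ * x)) * d₂ * n⁻¹ := by group
    _ = n * d₂⁻¹ * (d₁⁻¹ * (x * d₁)) * d₂ * n⁻¹ := by rw [hd₁x]
    _ = n * (d₂⁻¹ * d₁⁻¹) * x * (n * (d₂⁻¹ * d₁⁻¹))⁻¹ := by group

/-- Let P be a Sylow p-subgroup of a finite group G, H = P ∩ O_{p',p}(G), N = N_G(H) and D = O_{p'}(G). (a) If y is an element of p-power order of N and d ∈ D with d⁻¹ y d ∈ N, then d = d₁ d₂ with d₁ ∈ C_D(y) and d₂ ∈ C_D(H). (b) Two elements of P that are conjugate in G are conjugate in N. -/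
theorem result {G : Type*} [Group G] [Finite G] {p : ℕ} [Fact p.Prime] (P : Sylow p G) :
    (∀ y ∈ Subgroup.normalizer (((P : Subgroup G) ⊓ Cfsg.pPrimePCore p G : Subgroup G) : Set G), (∃ k : ℕ, orderOf y = p ^ k) →
      ∀ d ∈ Cfsg.pPrimeCore p G, d⁻¹ * y * d ∈ Subgroup.normalizer (((P : Subgroup G) ⊓ Cfsg.pPrimePCore p G : Subgroup G) : Set G) →
        ∃ d₁ ∈ Cfsg.pPrimeCore p G ⊓ Subgroup.centralizer ({y} : Set G),
          ∃ d₂ ∈ Cfsg.pPrimeCore p G ⊓ Subgroup.centralizer (((P : Subgroup G) ⊓ Cfsg.pPrimePCore p G : Subgroup G) : Set G), d = d₁ * d₂) ∧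
    ∀ x y : G, x ∈ (P : Subgroup G) → y ∈ (P : Subgroup G) → IsConj x y →
      ∃ n ∈ Subgroup.normalizer (((P : Subgroup G) ⊓ Cfsg.pPrimePCore p G : Subgroup G) : Set G), n * x * n⁻¹ = y := by
  exact ⟨fun y hy hyp d hd hdy => partA P y hy hyp d hd hdy, fun x y hx hy hxy => partB P x y hx hy hxy⟩

end Cfsg.Agent.S1907
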