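import Cfsg.Statements.S1910
import Cfsg.Agent.Lib.helper38.TightEmb

set_option autoImplicit false
open Cfsg

namespace Cfsg.Agent.S1910

open Cfsg.Agent.Lib.helper38

/-- The conjugates of a tightly embedded subgroup form a `TEFamily`. -/
theorem teFamily_conj {G : Type*} [Group G] [Finite G] (Q : Subgroup G)
    (hQ : Cfsg.IsTightlyEmbedded Q) :
    TEFamily (fun H : Subgroup G => ∃ x : G, H = Q.map (MulAut.conj x).toMonoidHom) := by
  have hmapmap : ∀ x y : G, (Q.map (MulAut.conj x).toMonoidHom).map (MulAut.conj y).toMonoidHom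
      = Q.map (MulAut.conj (y * x)).toMonoidHom := by
    intro x y
    ext a
    simp only [mem_map_conj_iff, mul_inv_rev, mul_assoc]
  refine ⟨?_, ?_, ?_⟩
  · rintro H x ⟨y, rfl⟩
    exact ⟨x * y, hmapmap y x⟩
  · rintro H K ⟨x, rfl⟩ ⟨y, rfl⟩ hne a hax hay ⟨k, hk⟩
    rw [mem_map_conj_iff] at hax hay
    have hz : x⁻¹ * y ∉ Subgroup.normalizer (Q : Set G) := by
      intro hz
      apply hne
      have h1 := map_conj_eq_of_mem_normalizer hz
      calc Q.map (MulAut.conj x).toMonoidHom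
          = (Q.map (MulAut.conj (x⁻¹ * y)).toMonoidHom).map (MulAut.conj x).toMonoidHom := by
            rw [h1]
        _ = Q.map (MulAut.conj y).toMonoidHom := by
            rw [hmapmap, mul_inv_cancel_left]
    have hodd := hQ.2 _ hz
    have hq : x⁻¹ * a * x ∈ Q ⊓ Q.map (MulAut.conj (x⁻¹ * y)).toMonoidHom := by
      refine Subgroup.mem_inf.mpr ⟨hax, ?_⟩
      rw [mem_map_conj_iff]
      have h2 : (x⁻¹ * y)⁻¹ * (x⁻¹ * a * x) * (x⁻¹ * y) = y⁻¹ * a * y := by group
      rw [h2]; exact hay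
    have hqk : (x⁻¹ * a * x) ^ 2 ^ k = 1 := by
      have h3 : x⁻¹ * a * x = MulAut.conj x⁻¹ a := by simp
      rw [h3, ← map_pow, hk, map_one]
    have hd1 : orderOf (x⁻¹ * a * x) ∣ 2 ^ k := orderOf_dvd_of_pow_eq_one hqk
    have hd2 : orderOf (x⁻¹ * a * x) ∣
        Nat.card ↥(Q ⊓ Q.map (MulAut.conj (x⁻¹ * y)).toMonoidHom) := by
      have h4 := orderOf_dvd_natCard
        (⟨x⁻¹ * a * x, hq⟩ : ↥(Q ⊓ Q.map (MulAut.conj (x⁻¹ * y)).toMonoidHom))
      rwa [Subgroup.orderOf_mk] at h4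
    have hcop : Nat.Coprime (2 ^ k)
        (Nat.card ↥(Q ⊓ Q.map (MulAut.conj (x⁻¹ * y)).toMonoidHom)) :=
      Nat.Coprime.pow_left k (Nat.coprime_two_left.mpr hodd)
    have h5 := Nat.dvd_gcd hd1 hd2
    rw [Nat.Coprime.gcd_eq_one hcop, Nat.dvd_one, orderOf_eq_one_iff] at h5
    calc a = x * (x⁻¹ * a * x) * x⁻¹ := by group
      _ = 1 := by rw [h5]; group
  · rintro H K ⟨x, rfl⟩ ⟨y, rfl⟩
    rw [Subgroup.card_map_of_injective (MulAut.conj x).injective,
      Subgroup.card_map_of_injective (MulAut.conj y).injective]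

/-- Let Q be a tightly embedded subgroup of a finite group G, g an element outside N_G(Q), T a nontrivial Sylow 2-subgroup of Q^g ∩ N_G(Q), and S a Sylow 2-subgroup of QT containing T. Then T ∩ Q = 1, and N_S(T) is the direct product of T and N_S(T) ∩ Q, with N_S(T) ∩ Q isomorphic to T. -/
theorem result {G : Type*} [Group G] [Finite G] (Q : Subgroup G) (hQ : Cfsg.IsTightlyEmbedded Q)
    (g : G) (hg : g ∉ Subgroup.normalizer (Q : Set G))
    (T : Subgroup G) (hT1 : T ≠ ⊥) (hT : T ≤ Q.map (MulAut.conj g).toMonoidHom ⊓ Subgroup.normalizer (Q : Set G))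
    (hTsyl : IsPGroup 2 T ∧ ¬ 2 ∣ T.relIndex (Q.map (MulAut.conj g).toMonoidHom ⊓ Subgroup.normalizer (Q : Set G)))
    (S : Subgroup G) (hTS : T ≤ S) (hS : S ≤ Q ⊔ T) (hSsyl : IsPGroup 2 S ∧ ¬ 2 ∣ S.relIndex (Q ⊔ T)) :
    T ⊓ Q = ⊥ ∧
      T ⊓ (S ⊓ Subgroup.normalizer (T : Set G) ⊓ Q) = ⊥ ∧
      ⁅T, S ⊓ Subgroup.normalizer (T : Set G) ⊓ Q⁆ = ⊥ ∧
      T ⊔ (S ⊓ Subgroup.normalizer (T : Set G) ⊓ Q) = S ⊓ Subgroup.normalizer (T : Set G) ∧
      Nonempty (↥(S ⊓ Subgroup.normalizer (T : Set G) ⊓ Q) ≃* T) := by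
  classical
  have hfam := teFamily_conj Q hQ
  have hQ1 : Q.map (MulAut.conj (1 : G)).toMonoidHom = Q := by
    ext a; rw [mem_map_conj_iff]; simp
  have hCQ : (fun H : Subgroup G => ∃ x : G, H = Q.map (MulAut.conj x).toMonoidHom) Q :=
    ⟨1, hQ1.symm⟩
  have hCP : (fun H : Subgroup G => ∃ x : G, H = Q.map (MulAut.conj x).toMonoidHom)
      (Q.map (MulAut.conj g).toMonoidHom) := ⟨g, rfl⟩
  have hneQP : Q ≠ Q.map (MulAut.conj g).toMonoidHom :=
    fun h => hg (mem_normalizer_of_map_conj_eq h.symm)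
  have c : TEConfig (fun H : Subgroup G => ∃ x : G, H = Q.map (MulAut.conj x).toMonoidHom)
      Q (Q.map (MulAut.conj g).toMonoidHom) T S :=
    { fam := hfam
      hH := hCQ
      hK := hCP
      hne := hneQP
      hTK := hT.trans inf_le_left
      hTN := hT.trans inf_le_right
      hT2 := hTsyl.1
      hTS := hTS
      hS := hS
      hS2 := hSsyl.1
      hodd := hSsyl.2 }
  have hTR : T ⊓ (S ⊓ Subgroup.normalizer (T : Set G) ⊓ Q) = ⊥ := by
    rw [eq_bot_iff, ← c.inf_eq_bot]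
    exact inf_le_inf_left T inf_le_right
  refine ⟨c.inf_eq_bot, hTR, ?_, c.sup_eq, ?_⟩
  · rw [Subgroup.commutator_eq_bot_iff_le_centralizer]
    intro t ht
    rw [Subgroup.mem_centralizer_iff]
    intro r hr
    exact (c.comm ht hr.1.2 hr.2).symm
  -- the isomorphism
  obtain ⟨R, hRdef⟩ : ∃ R : Subgroup G, R = S ⊓ Subgroup.normalizer (T : Set G) ⊓ Q := ⟨_, rfl⟩
  rw [← hRdef]
  have hTRle : Nat.card T ≤ Nat.card R := by rw [hRdef]; exact c.card_le
  have hR2 : IsPGroup 2 R := by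
    rw [hRdef]; exact hSsyl.1.to_le (inf_le_left.trans inf_le_left)
  have hRQ : R ≤ Q := by rw [hRdef]; exact inf_le_right
  have hR1 : R ≠ ⊥ := by
    intro h
    apply hT1
    apply Subgroup.eq_bot_of_card_le
    rw [h, Subgroup.card_bot] at hTRle
    exact hTRle
  -- R normalizes P
  obtain ⟨t₁, ht₁, ht₁1⟩ := (Subgroup.ne_bot_iff_exists_ne_one (H := T)).mp hT1 |>.imp
    (fun t h => h) |> fun ⟨t, h⟩ => (⟨(t : G), t.2, fun h1 => h (Subtype.ext h1)⟩ :
      ∃ t₁ : G, t₁ ∈ T ∧ t₁ ≠ 1)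
  have hRNP : R ≤ Subgroup.normalizer ((Q.map (MulAut.conj g).toMonoidHom : Subgroup G) : Set G) := by
    intro r hr
    rw [hRdef] at hr
    exact hfam.mem_normalizer hCP (hT.trans inf_le_left ht₁) ht₁1
      (two_pow_of_mem_of_isPGroup hTsyl.1 ht₁) (c.comm ht₁ hr.1.2 hr.2).symm
  -- a Sylow 2-subgroup of P ⊔ R containing R
  obtain ⟨S₀, hS₀⟩ := (hR2.comap_subtype
    (K := Q.map (MulAut.conj g).toMonoidHom ⊔ R)).exists_le_sylow
  obtain ⟨S', hS'def⟩ : ∃ S' : Subgroup G, S' = (S₀ : Subgroup _).map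
    (Q.map (MulAut.conj g).toMonoidHom ⊔ R).subtype := ⟨_, rfl⟩
  have hS'le : S' ≤ Q.map (MulAut.conj g).toMonoidHom ⊔ R := by
    rw [hS'def]; exact Subgroup.map_subtype_le _
  have hRS' : R ≤ S' := by
    intro r hr
    rw [hS'def]
    exact ⟨⟨r, Subgroup.mem_sup_right hr⟩, hS₀ (Subgroup.mem_comap.mpr hr), rfl⟩
  have hS'2 : IsPGroup 2 S' := by
    rw [hS'def]; exact S₀.isPGroup'.map _
  have hS'odd : ¬ 2 ∣ S'.relIndex (Q.map (MulAut.conj g).toMonoidHom ⊔ R) := by
    have h1 : S'.subgroupOf (Q.map (MulAut.conj g).toMonoidHom ⊔ R) = S₀ := by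
      rw [hS'def]
      exact Subgroup.comap_map_eq_self_of_injective (Subgroup.subtype_injective _) _
    unfold Subgroup.relIndex
    rw [h1]
    exact S₀.not_dvd_index
  have c' : TEConfig (fun H : Subgroup G => ∃ x : G, H = Q.map (MulAut.conj x).toMonoidHom)
      (Q.map (MulAut.conj g).toMonoidHom) Q R S' :=
    { fam := hfam
      hH := hCP
      hK := hCQ
      hne := hneQP.symm
      hTK := hRQ
      hTN := hRNP
      hT2 := hR2
      hTS := hRS'
      hS := hS'le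
      hS2 := hS'2
      hodd := hS'odd }
  have hRR' := c'.card_le
  obtain ⟨r₁, hr₁, hr₁1⟩ : ∃ r₁ : G, r₁ ∈ R ∧ r₁ ≠ 1 := by
    obtain ⟨r, hr⟩ := (Subgroup.ne_bot_iff_exists_ne_one (H := R)).mp hR1
    exact ⟨(r : G), r.2, fun h1 => hr (Subtype.ext h1)⟩
  have hR'le : S' ⊓ Subgroup.normalizer (R : Set G) ⊓ Q.map (MulAut.conj g).toMonoidHom ≤
      Q.map (MulAut.conj g).toMonoidHom ⊓ Subgroup.normalizer (Q : Set G) := by
    intro r' hr'
    refine ⟨hr'.2, ?_⟩
    exact hfam.mem_normalizer hCQ (hRQ hr₁) hr₁1 (two_pow_of_mem_of_isPGroup hR2 hr₁)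
      (c'.comm hr₁ hr'.1.2 hr'.2).symm
  have hR'T : Nat.card ↥(S' ⊓ Subgroup.normalizer (R : Set G) ⊓
      Q.map (MulAut.conj g).toMonoidHom) ≤ Nat.card T := by
    have h1 := Subgroup.card_dvd_of_le hR'le
    rw [← Cfsg.Agent.Lib.helper13.relIndex_mul_card_of_le hT] at h1
    have hR'2 : IsPGroup 2 ↥(S' ⊓ Subgroup.normalizer (R : Set G) ⊓
        Q.map (MulAut.conj g).toMonoidHom) := hS'2.to_le (inf_le_left.trans inf_le_left)
    obtain ⟨n, hn⟩ := IsPGroup.iff_card.mp hR'2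
    have hcop : (Nat.card ↥(S' ⊓ Subgroup.normalizer (R : Set G) ⊓
        Q.map (MulAut.conj g).toMonoidHom)).Coprime
        (T.relIndex (Q.map (MulAut.conj g).toMonoidHom ⊓ Subgroup.normalizer (Q : Set G))) := by
      rw [hn]
      exact Nat.Coprime.pow_left n ((Nat.Prime.coprime_iff_not_dvd Nat.prime_two).mpr hTsyl.2)
    exact Nat.le_of_dvd Nat.card_pos (hcop.dvd_of_dvd_mul_left h1)
  have hcard : Nat.card T = Nat.card R := le_antisymm hTRle (hRR'.trans hR'T)
  have hE := c.lemmaE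
  rw [← hRdef] at hE
  rcases hE with h | ⟨f, hf⟩
  · -- R = S ⊓ Q is a Sylow 2-subgroup of Q; T and its conjugate are Sylow in P
    have hQcard := c.card_H
    rw [← h, ← hcard] at hQcard
    have hPcard : Nat.card ↥(Q.map (MulAut.conj g).toMonoidHom) = Nat.card Q :=
      Subgroup.card_map_of_injective (MulAut.conj g).injective
    have hTP : T ≤ Q.map (MulAut.conj g).toMonoidHom := hT.trans inf_le_left
    have hUP : R.map (MulAut.conj g).toMonoidHom ≤ Q.map (MulAut.conj g).toMonoidHom :=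
      Subgroup.map_mono hRQ
    have hUcard : Nat.card ↥(R.map (MulAut.conj g).toMonoidHom) = Nat.card T := by
      rw [Subgroup.card_map_of_injective (MulAut.conj g).injective, hcard]
    have hTpos : 0 < Nat.card T := Nat.card_pos
    have hidxT : T.relIndex (Q.map (MulAut.conj g).toMonoidHom) = S.relIndex (Q ⊔ T) := by
      have h1 := Cfsg.Agent.Lib.helper13.relIndex_mul_card_of_le hTP
      rw [hPcard, hQcard] at h1
      exact Nat.eq_of_mul_eq_mul_right hTpos h1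
    have hidxU : (R.map (MulAut.conj g).toMonoidHom).relIndex
        (Q.map (MulAut.conj g).toMonoidHom) = S.relIndex (Q ⊔ T) := by
      have h1 := Cfsg.Agent.Lib.helper13.relIndex_mul_card_of_le hUP
      rw [hPcard, hQcard, hUcard] at h1
      exact Nat.eq_of_mul_eq_mul_right hTpos h1
    have hT' : IsPGroup 2 ↥(T.subgroupOf (Q.map (MulAut.conj g).toMonoidHom)) :=
      hTsyl.1.comap_subtype
    have hU' : IsPGroup 2 ↥((R.map (MulAut.conj g).toMonoidHom).subgroupOf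
        (Q.map (MulAut.conj g).toMonoidHom)) :=
      (hR2.map _).comap_subtype
    have hiT : ¬ 2 ∣ (T.subgroupOf (Q.map (MulAut.conj g).toMonoidHom)).index := by
      have : (T.subgroupOf (Q.map (MulAut.conj g).toMonoidHom)).index
          = T.relIndex (Q.map (MulAut.conj g).toMonoidHom) := rfl
      rw [this, hidxT]; exact hSsyl.2
    have hiU : ¬ 2 ∣ ((R.map (MulAut.conj g).toMonoidHom).subgroupOf
        (Q.map (MulAut.conj g).toMonoidHom)).index := by
      have : ((R.map (MulAut.conj g).toMonoidHom).subgroupOf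
          (Q.map (MulAut.conj g).toMonoidHom)).index
          = (R.map (MulAut.conj g).toMonoidHom).relIndex
            (Q.map (MulAut.conj g).toMonoidHom) := rfl
      rw [this, hidxU]; exact hSsyl.2
    have e1 : ↥((R.map (MulAut.conj g).toMonoidHom).subgroupOf
        (Q.map (MulAut.conj g).toMonoidHom)) ≃*
        ↥(T.subgroupOf (Q.map (MulAut.conj g).toMonoidHom)) :=
      Sylow.equiv (hU'.toSylow hiU) (hT'.toSylow hiT)
    have e2 : R ≃* ↥(R.map (MulAut.conj g).toMonoidHom) :=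
      R.equivMapOfInjective _ (MulAut.conj g).injective
    exact ⟨(e2.trans (Subgroup.subgroupOfEquivOfLe hUP).symm).trans
      (e1.trans (Subgroup.subgroupOfEquivOfLe hTP))⟩
  · have hbij : Function.Bijective f :=
      (Nat.bijective_iff_injective_and_card f).mpr ⟨hf, hcard⟩
    exact ⟨(MulEquiv.ofBijective f hbij).symm⟩

end Cfsg.Agent.S1910
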