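import Cfsg.Statements.S1921
import Cfsg.Agent.Lib.helper28.Components
import Cfsg.Agent.Lib.helper40.Comp
import Cfsg.Agent.Lib.helper40.Cores

set_option autoImplicit false
open Cfsg
open scoped commutatorElement

namespace Cfsg.Agent.S1921

/-- Let a be an involution of a finite group H and L a component of H with a L a⁻¹ ≠ L; put M = ⟨L, aLa⁻¹⟩ and let J be the subgroup generated by the elements x · a x a⁻¹ with x ∈ L (the diagonal). Then every element of M outside J·Z(M) generates M together with J. -/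
theorem result {H : Type*} [Group H] [Finite H] (a : H) (ha : orderOf a = 2) (L : Subgroup H) (hL : Cfsg.IsComponent L)
    (hLa : L.map (MulAut.conj a).toMonoidHom ≠ L) (x : H) (hxM : x ∈ L ⊔ L.map (MulAut.conj a).toMonoidHom)
    (hxJ : x ∉ Subgroup.closure {y : H | ∃ l ∈ L, y = l * (a * l * a⁻¹)} ⊔
      ((L ⊔ L.map (MulAut.conj a).toMonoidHom) ⊓ Subgroup.centralizer ((L ⊔ L.map (MulAut.conj a).toMonoidHom : Subgroup H) : Set H))) :
    Subgroup.closure {y : H | ∃ l ∈ L, y = l * (a * l * a⁻¹)} ⊔ Subgroup.zpowers x = L ⊔ L.map (MulAut.conj a).toMonoidHom := by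
  classical
  obtain ⟨La, hLadef⟩ : ∃ La, La = L.map (MulAut.conj a).toMonoidHom := ⟨_, rfl⟩
  rw [← hLadef] at hLa hxM hxJ ⊢
  obtain ⟨J, hJdef⟩ : ∃ J, J = Subgroup.closure {y : H | ∃ l ∈ L, y = l * (a * l * a⁻¹)} := ⟨_, rfl⟩
  rw [← hJdef] at hxJ ⊢
  have hLacomp : Cfsg.IsComponent La := by
    rw [hLadef]
    exact Cfsg.Agent.Lib.helper28.isComponent_map_equiv (MulAut.conj a) hL
  have hcomm0 : ⁅L, La⁆ = ⊥ := Cfsg.Agent.Lib.helper28.isComponent_commute hL hLacomp (Ne.symm hLa)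
  -- elementwise commutation
  have hcomm : ∀ u ∈ L, ∀ v ∈ La, u * v = v * u := by
    intro u hu v hv
    have h1 : ⁅u, v⁆ ∈ ⁅L, La⁆ := Subgroup.commutator_mem_commutator hu hv
    rw [hcomm0, Subgroup.mem_bot] at h1
    exact (commutatorElement_eq_one_iff_mul_comm.mp h1)
  have hmemLa : ∀ l ∈ L, a * l * a⁻¹ ∈ La := by
    intro l hl
    rw [hLadef]
    exact ⟨l, hl, by simp [MulAut.conj_apply]⟩
  have hφ : ∀ l ∈ L, l * (a * l * a⁻¹) ∈ J := by
    intro l hl
    rw [hJdef]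
    exact Subgroup.subset_closure ⟨l, hl, rfl⟩
  obtain ⟨u, hu, v', hv', hxuv⟩ := Cfsg.Agent.Lib.helper40.exists_mul_of_mem_sup_of_commute hcomm hxM
  obtain ⟨v, hv, hvv'⟩ : ∃ v ∈ L, v' = a * v * a⁻¹ := by
    rw [hLadef] at hv'
    obtain ⟨v, hv, hvv'⟩ := hv'
    exact ⟨v, hv, by rw [← hvv']; simp [MulAut.conj_apply]⟩
  subst hvv'
  obtain ⟨T, hTdef⟩ : ∃ T, T = J ⊔ Subgroup.zpowers x := ⟨_, rfl⟩
  rw [← hTdef]
  have hJT : J ≤ T := by rw [hTdef]; exact le_sup_left
  have hxT : x ∈ T := by rw [hTdef]; exact (le_sup_right : Subgroup.zpowers x ≤ _) (Subgroup.mem_zpowers x)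
  -- w = u v⁻¹ ∈ T ∩ L
  have hwL : u * v⁻¹ ∈ L := L.mul_mem hu (L.inv_mem hv)
  have hwT : u * v⁻¹ ∈ T := by
    have h1 : u * v⁻¹ = x * (v * (a * v * a⁻¹))⁻¹ := by
      rw [hxuv]; group
    rw [h1]
    exact T.mul_mem hxT (T.inv_mem (hJT (hφ v hv)))
  -- T ⊓ L is normalised by L
  have hnormal : ((T ⊓ L).subgroupOf L).Normal := by
    constructor
    intro n hn g
    rw [Subgroup.mem_subgroupOf] at hn ⊢
    rw [Subgroup.mem_inf] at hn ⊢
    refine ⟨?_, ?_⟩
    · have hg : (g : H) ∈ L := g.2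
      have hnL : (n : H) ∈ L := n.2
      have hc : (a * (g : H) * a⁻¹) * (n : H) = (n : H) * (a * (g : H) * a⁻¹) :=
        (hcomm (n : H) hnL _ (hmemLa _ hg)).symm
      have h1 : ((g * n * g⁻¹ : L) : H) =
          ((g : H) * (a * (g : H) * a⁻¹)) * (n : H) * ((g : H) * (a * (g : H) * a⁻¹))⁻¹ := by
        push_cast
        have h2 : (g : H) * (a * (g : H) * a⁻¹) * (n : H) * ((g : H) * (a * (g : H) * a⁻¹))⁻¹
            = (g : H) * ((a * (g : H) * a⁻¹) * (n : H)) * (a * (g : H) * a⁻¹)⁻¹ * (g : H)⁻¹ := by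
          group
        rw [h2, hc]; group
      rw [h1]
      exact T.mul_mem (T.mul_mem (hJT (hφ _ hg)) hn.1) (T.inv_mem (hJT (hφ _ hg)))
    · exact (g * n * g⁻¹).2
  have hLT : L ≤ T := by
    by_contra hLT
    have hne : (T ⊓ L).subgroupOf L ≠ ⊤ := by
      intro htop
      apply hLT
      rw [Subgroup.subgroupOf_eq_top] at htop
      exact le_trans htop inf_le_left
    have hcen := Cfsg.Agent.Lib.helper40.quasisimple_normal_le_center hL.2 ((T ⊓ L).subgroupOf L) hne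
    have hwc : (⟨u * v⁻¹, hwL⟩ : L) ∈ Subgroup.center L := by
      apply hcen
      rw [Subgroup.mem_subgroupOf]
      exact Subgroup.mem_inf.mpr ⟨hwT, hwL⟩
    rw [Subgroup.mem_center_iff] at hwc
    have hwcL : ∀ l ∈ L, l * (u * v⁻¹) = (u * v⁻¹) * l := by
      intro l hl
      have := hwc ⟨l, hl⟩
      exact congrArg Subtype.val this
    apply hxJ
    have hwZ : u * v⁻¹ ∈ (L ⊔ La) ⊓ Subgroup.centralizer ((L ⊔ La : Subgroup H) : Set H) := by
      rw [Subgroup.mem_inf]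
      refine ⟨(le_sup_left : L ≤ L ⊔ La) hwL, ?_⟩
      have hle : L ⊔ La ≤ Subgroup.centralizer ({u * v⁻¹} : Set H) := by
        refine sup_le ?_ ?_
        · intro l hl
          rw [Subgroup.mem_centralizer_singleton_iff]
          exact hwcL l hl
        · intro l hl
          rw [Subgroup.mem_centralizer_singleton_iff]
          exact (hcomm _ hwL l hl).symm
      rw [Subgroup.mem_centralizer_iff]
      intro h hh
      have := hle hh
      rw [Subgroup.mem_centralizer_singleton_iff] at this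
      exact this
    have hx2 : x = (u * v⁻¹) * (v * (a * v * a⁻¹)) := by rw [hxuv]; group
    rw [hx2]
    have h3 : (u * v⁻¹) * (v * (a * v * a⁻¹)) = (v * (a * v * a⁻¹)) * (u * v⁻¹) := by
      have h4 : v * (a * v * a⁻¹) ∈ L ⊔ La :=
        Subgroup.mul_mem _ ((le_sup_left : L ≤ L ⊔ La) hv) ((le_sup_right : La ≤ L ⊔ La) (hmemLa v hv))
      have := (Subgroup.mem_centralizer_iff.mp (Subgroup.mem_inf.mp hwZ).2) _ h4
      exact this.symm
    rw [h3]
    exact Subgroup.mul_mem_sup (hφ v hv) hwZ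
  have hLaT : La ≤ T := by
    intro y hy
    rw [hLadef] at hy
    obtain ⟨l, hl, rfl⟩ := hy
    have h1 : (MulAut.conj a).toMonoidHom l = l⁻¹ * (l * (a * l * a⁻¹)) := by
      simp [MulAut.conj_apply]
    rw [h1]
    exact T.mul_mem (T.inv_mem (hLT hl)) (hJT (hφ l hl))
  apply le_antisymm
  · rw [hTdef]
    refine sup_le ?_ ?_
    · rw [hJdef, Subgroup.closure_le]
      rintro y ⟨l, hl, rfl⟩
      exact Subgroup.mul_mem _ ((le_sup_left : L ≤ L ⊔ La) hl) ((le_sup_right : La ≤ L ⊔ La) (hmemLa l hl))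
    · rw [Subgroup.zpowers_le]
      exact hxM
  · exact sup_le hLT hLaT

end Cfsg.Agent.S1921
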