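import Cfsg.Statements.S1922
import Cfsg.Agent.Lib.helper38.UniqueFix
import Cfsg.Agent.Lib.helper2.SylowExtra
import Cfsg.Agent.Lib.helper26.Basic
import Cfsg.Agent.Lib.helper76.SylowBasic
import Cfsg.Agent.Lib.helper21.SylowCosets

set_option autoImplicit false
open Cfsg

namespace Cfsg.Agent.S1922

open Cfsg.Agent.Lib.helper38

theorem mem_conj_iff {G : Type*} [Group G] (H : Subgroup G) (x a : G) :
    a ∈ H.map (MulAut.conj x).toMonoidHom ↔ x⁻¹ * a * x ∈ H := by
  constructor
  · rintro ⟨h, hh, rfl⟩
    simpa [MulAut.conj_apply, mul_assoc] using hh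
  · intro h
    exact ⟨x⁻¹ * a * x, h, by simp [MulAut.conj_apply, mul_assoc]⟩

/-- An element lying in `gHg⁻¹` exactly for `g ∈ H` fixes exactly the trivial coset. -/
theorem fixesOnly_one {G : Type*} [Group G] (H : Subgroup G) (v : G)
    (hv : ∀ g : G, v ∈ H.map (MulAut.conj g).toMonoidHom ↔ g ∈ H) :
    FixesOnly v (((1 : G) : G ⧸ H)) := by
  intro y
  obtain ⟨g, rfl⟩ := QuotientGroup.mk_surjective y
  rw [Cfsg.Agent.Lib.helper21.smul_mk_eq_mk_iff, ← mem_conj_iff, hv g, QuotientGroup.eq]
  simp

/-- Let z be an involution of a finite group G and H a proper subgroup such that z lies in gHg⁻¹ exactly when g ∈ H. Then the following are equivalent: (1) for every conjugate t ≠ z of z commuting with z, the product zt lies in gHg⁻¹ exactly when g ∈ H; (2) z lies in the centre of some Sylow 2-subgroup of G, and for every conjugate t ≠ z of z commuting with z, the centralizer of zt is contained in H. -/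
theorem result {G : Type*} [Group G] [Finite G] (z : G) (hz : orderOf z = 2) (H : Subgroup G) (hH : H ≠ ⊤)
    (h0 : ∀ g : G, z ∈ H.map (MulAut.conj g).toMonoidHom ↔ g ∈ H) :
    (∀ t : G, IsConj z t → t ≠ z → t * z = z * t → ∀ g : G, z * t ∈ H.map (MulAut.conj g).toMonoidHom ↔ g ∈ H) ↔
      ((∃ P : Sylow 2 G, z ∈ (Subgroup.center ↥(P : Subgroup G)).map (P : Subgroup G).subtype) ∧
        ∀ t : G, IsConj z t → t ≠ z → t * z = z * t → Subgroup.centralizer ({z * t} : Set G) ≤ H) := by
  classical
  have hz1 : z * z = 1 := by rw [← pow_two, ← hz, pow_orderOf_eq_one]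
  have hzz : ∀ x : G, z * (z * x) = x := fun x => by rw [← mul_assoc, hz1, one_mul]
  have hzH : z ∈ H := by
    have h := (h0 1).mpr H.one_mem
    rw [mem_conj_iff] at h
    simpa using h
  constructor
  · intro h1
    refine ⟨?_, ?_⟩
    · -- `z` is 2-central
      have hD : UFClass {a : G | IsConj z a} (G ⧸ H) :=
        { sq := by
            intro a ha
            obtain ⟨c, rfl⟩ := isConj_iff.mp ha
            simp [mul_assoc, hzz]
          conj := fun a ha g => IsConj.trans ha (isConj_iff.mpr ⟨g, rfl⟩)
          fix := by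
            intro a ha
            obtain ⟨c, rfl⟩ := isConj_iff.mp ha
            exact ⟨c • (((1 : G) : G ⧸ H)), (fixesOnly_one H z h0).conj c⟩
          prod := by
            intro a ha b hb hab hcomm
            obtain ⟨c, rfl⟩ := isConj_iff.mp ha
            have ht : IsConj z (c⁻¹ * b * c) :=
              IsConj.trans hb (isConj_iff.mpr ⟨c⁻¹, by simp⟩)
            have htz : c⁻¹ * b * c ≠ z := by
              intro h
              apply hab
              rw [← h]
              simp [mul_assoc]
            have htc : c⁻¹ * b * c * z = z * (c⁻¹ * b * c) := by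
              have h := congrArg (fun u => c⁻¹ * u * c) hcomm
              simp only [mul_assoc, inv_mul_cancel_left, inv_mul_cancel, mul_one] at h
              simp only [mul_assoc]
              exact h.symm
            have hfix := (fixesOnly_one H _ (h1 _ ht htz htc)).conj c
            have h2 : c * (z * (c⁻¹ * b * c)) * c⁻¹ = c * z * c⁻¹ * b := by
              simp [mul_assoc]
            rw [h2] at hfix
            exact ⟨_, hfix⟩ }
      have hΩ : ∃ x y : G ⧸ H, x ≠ y := by
        obtain ⟨g, hg⟩ : ∃ g : G, g ∉ H := by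
          by_contra hall
          push Not at hall
          exact hH ((Subgroup.eq_top_iff' H).mpr hall)
        refine ⟨((g : G) : G ⧸ H), ((1 : G) : G ⧸ H), fun h => hg ?_⟩
        rw [QuotientGroup.eq] at h
        simpa using h
      have hfib : ∀ y : G ⧸ H, ∃ b ∈ {a : G | IsConj z a}, FixesOnly b y := by
        intro y
        obtain ⟨g, rfl⟩ := QuotientGroup.mk_surjective y
        refine ⟨g * z * g⁻¹, isConj_iff.mpr ⟨g, rfl⟩, ?_⟩
        have h := (fixesOnly_one H z h0).conj g
        rw [MulAction.Quotient.smul_mk, smul_eq_mul, mul_one] at h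
        exact h
      obtain ⟨P⟩ : Nonempty (Sylow 2 G) := inferInstance
      obtain ⟨a, ha, hP⟩ := hD.exists_fixed_by_sylow hΩ hfib P
      obtain ⟨c, hc⟩ := isConj_iff.mp ha
      have hcomm : ∀ x ∈ ((c⁻¹ • P : Sylow 2 G) : Subgroup G), x * z = z * x := by
        intro x hx
        rw [Cfsg.Agent.Lib.helper2.mem_smul_sylow_iff, inv_inv] at hx
        have h := hP _ hx
        rw [← hc] at h
        have h' : x * z * x⁻¹ = z := by
          have h3 := congrArg (fun u => c⁻¹ * u * c) h
          simpa [mul_assoc] using h3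
        exact mul_inv_eq_iff_eq_mul.mp h'
      have hzP : z ∈ ((c⁻¹ • P : Sylow 2 G) : Subgroup G) := by
        apply Cfsg.Agent.Lib.helper76.mem_sylow_of_normalizes 2 _ z ⟨1, by rw [hz, pow_one]⟩
        intro y hy
        have h := hcomm y hy
        have h2 : z * y * z⁻¹ = y := by rw [← h, mul_inv_cancel_right]
        rw [h2]; exact hy
      refine ⟨c⁻¹ • P, ⟨z, hzP⟩, Subgroup.mem_center_iff.mpr ?_, rfl⟩
      intro y
      exact Subtype.ext (hcomm y.1 y.2)
    · intro t ht htz hcomm c hc
      rw [Subgroup.mem_centralizer_iff] at hc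
      have hc' : z * t * c = c * (z * t) := hc (z * t) rfl
      have h2 := h1 t ht htz hcomm
      have hztH : z * t ∈ H := by
        have h := (h2 1).mpr H.one_mem
        rw [mem_conj_iff] at h
        simpa using h
      rw [← h2 c, mem_conj_iff]
      have h3 : c⁻¹ * (z * t) * c = z * t := by rw [mul_assoc, hc', inv_mul_cancel_left]
      rw [h3]; exact hztH
  · rintro ⟨⟨P, hzP⟩, h2⟩ t ht htz hcomm g
    have hPc : ∀ x ∈ (P : Subgroup G), x * z = z * x := by
      obtain ⟨z', hzc, hzz'⟩ := hzP
      intro x hx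
      have h := Subgroup.mem_center_iff.mp hzc ⟨x, hx⟩
      have h' := congrArg Subtype.val h
      rw [← hzz']
      exact h'
    have hCz : ∀ c : G, c * z = z * c → c ∈ H := by
      intro c hc
      rw [← h0 c, mem_conj_iff]
      have h : c⁻¹ * z * c = z := by rw [mul_assoc, ← hc, inv_mul_cancel_left]
      rw [h]; exact hzH
    have hPH : (P : Subgroup G) ≤ H := fun x hx => hCz x (hPc x hx)
    have hyy : z * t ∈ Subgroup.centralizer ({z * t} : Set G) := by
      rw [Subgroup.mem_centralizer_iff]
      rintro _ rfl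
      rfl
    have hyH : z * t ∈ H := h2 t ht htz hcomm hyy
    have htt : t * t = 1 := by
      obtain ⟨c, rfl⟩ := isConj_iff.mp ht
      simp [mul_assoc, hzz]
    have hy2 : (z * t) * (z * t) = 1 := by
      calc z * t * (z * t) = z * (t * z) * t := by simp only [mul_assoc]
        _ = z * (z * t) * t := by rw [hcomm]
        _ = 1 := by rw [hzz, htt]
    constructor
    · intro hg
      rw [mem_conj_iff] at hg
      have hpow : ∃ k : ℕ, (g⁻¹ * (z * t) * g) ^ 2 ^ k = 1 := by
        refine ⟨1, ?_⟩
        rw [pow_one, pow_two]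
        have h : g⁻¹ * (z * t) * g * (g⁻¹ * (z * t) * g) = g⁻¹ * ((z * t) * (z * t)) * g := by
          group
        rw [h, hy2]; simp
      obtain ⟨m, hm, hmP⟩ :=
        Cfsg.Agent.Lib.helper26.exists_conj_mem_sylow_of_le P H hPH _ hg hpow
      have hc := hPc _ hmP
      have hz2 : g * m⁻¹ * z * m * g⁻¹ ∈ Subgroup.centralizer ({z * t} : Set G) := by
        rw [Subgroup.mem_centralizer_iff]
        rintro _ rfl
        have h := congrArg (fun w => g * m⁻¹ * w * (m * g⁻¹)) hc
        simpa [mul_assoc] using h
      have hz2H := h2 t ht htz hcomm hz2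
      have h3 : m * g⁻¹ ∈ H := by
        rw [← h0 (m * g⁻¹), mem_conj_iff]
        have h : (m * g⁻¹)⁻¹ * z * (m * g⁻¹) = g * m⁻¹ * z * m * g⁻¹ := by group
        rw [h]; exact hz2H
      have h4 : g⁻¹ ∈ H := by
        have h := H.mul_mem (H.inv_mem hm) h3
        simpa using h
      exact H.inv_mem_iff.mp h4
    · intro hg
      rw [mem_conj_iff]
      exact H.mul_mem (H.mul_mem (H.inv_mem hg) hyH) hg

end Cfsg.Agent.S1922
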