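import Cfsg.Statements.S1924
import Cfsg.Agent.Lib.helper38.ThompsonSign
import Cfsg.Agent.Lib.helper38.DihedralIndexTwo
import Cfsg.Agent.Lib.helper53.PCore
import Cfsg.Agent.Lib.helper53.PIrr

set_option autoImplicit false
open Cfsg

namespace Cfsg.Agent.S1924

open Cfsg.Agent.Lib.helper38 in
/-- A consequence of Thompson's transfer lemma. Let G be a finite group, L a subgroup with O²(L) = L, T a Sylow 2-subgroup of L and S a Sylow 2-subgroup of G containing T. Suppose D ≤ S is a dihedral subgroup of order at least 4 (the four-group counts) with D ∩ T = 1 and S = TD as a set of products (so |S| = |T|·|D|), and C ≤ D is cyclic of index 2 in D. If no involution of D outside C is G-conjugate to an involution of the subgroup generated by T and C, and the involution of C is not G-conjugate to any involution of T, then G has a normal subgroup K, containing every Sylow 2-subgroup of L as a Sylow 2-subgroup, with G = KD. -/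
theorem result {G : Type*} [Group G] [Finite G] (L T S D C : Subgroup G) (hL : Cfsg.pResidual 2 ↥L = ⊤)
    (hTL : T ≤ L) (hT2 : IsPGroup 2 T) (hTsyl : ¬ 2 ∣ T.relIndex L)
    (hS2 : IsPGroup 2 S) (hSsyl : ¬ 2 ∣ S.index) (hTS : T ≤ S)
    (hDS : D ≤ S) (hDih : ∃ n : ℕ, 2 ≤ n ∧ Nonempty (↥D ≃* DihedralGroup n)) (hDT : D ⊓ T = ⊥) (hTD : T ⊔ D = S) (hTDc : Nat.card T * Nat.card D = Nat.card S)
    (hCD : C ≤ D) (hC : IsCyclic ↥C) (hCi : C.relIndex D = 2)
    (h1 : ∀ x ∈ D, x ∉ C → orderOf x = 2 → ∀ g : G, g * x * g⁻¹ ∈ T ⊔ C → False)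
    (h2 : ∀ c ∈ C, orderOf c = 2 → ∀ g : G, g * c * g⁻¹ ∈ T → False) :
    ∃ K : Subgroup G, K.Normal ∧ K ⊔ D = ⊤ ∧
      ∀ T' : Subgroup G, T' ≤ L → IsPGroup 2 T' → ¬ 2 ∣ T'.relIndex L → T' ≤ K ∧ ¬ 2 ∣ T'.relIndex K := by
  classical
  haveI : Fact (Nat.Prime 2) := ⟨Nat.prime_two⟩
  obtain ⟨n, hn, ⟨e⟩⟩ := hDih
  -- elements of D outside C are involutions
  have hinv : ∀ x ∈ D, x ∉ C → orderOf x = 2 := fun x hxD hxC =>
    orderOf_two_of_dihedral_of_not_mem D C n hn e hCD hC hCi x hxD hxC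
  obtain ⟨x₀, hx₀D, hx₀C⟩ : ∃ x ∈ D, x ∉ C := by
    by_contra hcon
    push Not at hcon
    have : C.relIndex D = 1 := Subgroup.relIndex_eq_one.mpr hcon
    omega
  have hx₀2 := hinv x₀ hx₀D hx₀C
  obtain ⟨K, hKdef⟩ : ∃ K, K = Cfsg.pResidual 2 G := ⟨_, rfl⟩
  have hKn : K.Normal := by rw [hKdef]; exact Cfsg.Agent.Lib.helper53.pResidual_normal 2 G
  have hLK : L ≤ K := by
    intro l hl
    rw [hKdef]
    apply Cfsg.Agent.Lib.helper53.pResidual_map_le L.subtype
    exact ⟨⟨l, hl⟩, by rw [hL]; trivial, rfl⟩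
  have hTK : T ≤ K := le_trans hTL hLK
  -- cardinalities
  have hcardD : Nat.card D = 2 * Nat.card C := by
    have := Subgroup.card_mul_index (C.subgroupOf D)
    rw [Nat.card_congr (Subgroup.subgroupOfEquivOfLe hCD).toEquiv] at this
    have h3 : (C.subgroupOf D).index = 2 := hCi
    rw [h3] at this
    omega
  have hTC : T ⊓ C = ⊥ := by
    rw [eq_bot_iff, ← hDT]
    exact le_inf (le_trans inf_le_right hCD) inf_le_left
  obtain ⟨M, hMdef⟩ : ∃ M, M = T ⊔ C := ⟨_, rfl⟩
  have hTM : T ≤ M := by rw [hMdef]; exact le_sup_left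
  have hCM : C ≤ M := by rw [hMdef]; exact le_sup_right
  have hMS : M ≤ S := by rw [hMdef]; exact sup_le hTS (le_trans hCD hDS)
  have hx₀M : x₀ ∉ M := by
    intro hx
    apply h1 x₀ hx₀D hx₀C hx₀2 1
    rw [← hMdef]
    simpa using hx
  have hcardM_ge : Nat.card T * Nat.card C ≤ Nat.card M := by
    rw [← Nat.card_prod]
    apply Nat.card_le_card_of_injective (fun tc : T × C => (⟨(tc.1 : G) * (tc.2 : G), M.mul_mem (hTM tc.1.2) (hCM tc.2.2)⟩ : M))
    rintro ⟨t, c⟩ ⟨t', c'⟩ heq
    have heq' : (t : G) * (c : G) = (t' : G) * (c' : G) := congrArg Subtype.val heq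
    have h3 : (t' : G)⁻¹ * (t : G) = (c' : G) * (c : G)⁻¹ := by
      have : (t : G) = (t' : G) * (c' : G) * (c : G)⁻¹ := by rw [← heq']; group
      rw [this]; group
    have h4 : (t' : G)⁻¹ * (t : G) ∈ T ⊓ C := by
      rw [Subgroup.mem_inf]
      refine ⟨T.mul_mem (T.inv_mem t'.2) t.2, ?_⟩
      rw [h3]
      exact C.mul_mem c'.2 (C.inv_mem c.2)
    rw [hTC, Subgroup.mem_bot] at h4
    have h5 : (t : G) = (t' : G) := by
      have := inv_mul_eq_one.mp h4
      exact this.symm
    have h6 : (c : G) = (c' : G) := by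
      rw [h5] at heq'
      exact mul_left_cancel heq'
    exact Prod.ext (Subtype.ext h5) (Subtype.ext h6)
  have hcardM : Nat.card M = Nat.card T * Nat.card C := by
    have h3 := Subgroup.card_mul_index (M.subgroupOf S)
    rw [Nat.card_congr (Subgroup.subgroupOfEquivOfLe hMS).toEquiv] at h3
    have h4 : (M.subgroupOf S).index ≠ 1 := by
      intro h5
      have : S ≤ M := Subgroup.relIndex_eq_one.mp h5
      exact hx₀M (this (hDS hx₀D))
    have h5 : (M.subgroupOf S).index ≠ 0 := by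
      intro h0
      rw [h0, mul_zero] at h3
      have : 0 < Nat.card S := Nat.card_pos
      omega
    have h6 : 2 ≤ (M.subgroupOf S).index := by omega
    rw [← hTDc, hcardD] at h3
    have h7 : Nat.card M * 2 ≤ Nat.card T * (2 * Nat.card C) := by
      rw [← h3]
      exact Nat.mul_le_mul_left _ h6
    nlinarith
  obtain ⟨m, hmdef⟩ : ∃ m, m = S.index := ⟨_, rfl⟩
  have hm : Odd m := by
    rw [hmdef]
    exact Nat.not_even_iff_odd.mp (fun h => hSsyl h.two_dvd)
  have hcardG : Nat.card G = Nat.card S * m := by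
    rw [hmdef]; exact (Subgroup.card_mul_index S).symm
  have hMidx : M.index = m * 2 ^ (0 + 1) := by
    have h3 := Subgroup.card_mul_index M
    rw [hcardG, ← hTDc, hcardD, hcardM] at h3
    have hpos : 0 < Nat.card T * Nat.card C := by
      rw [← hcardM]; exact Nat.card_pos
    have : Nat.card T * Nat.card C * M.index = Nat.card T * Nat.card C * (m * 2 ^ (0 + 1)) := by
      rw [h3]; ring
    exact Nat.eq_of_mul_eq_mul_left hpos this
  -- the first sign character
  have hsgn : ∀ x ∈ D, x ∉ C → cosetSign M x = -1 := by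
    intro x hxD hxC
    apply cosetSign_eq_neg_one M x 0 m
    · have := hinv x hxD hxC
      rw [← this]
      simpa using pow_orderOf_eq_one x
    · intro h hmem
      apply h1 x hxD hxC (hinv x hxD hxC) h⁻¹
      rw [← hMdef]
      simpa using hmem
    · exact hm
    · exact hMidx
  obtain ⟨f, hfdef⟩ : ∃ f : G →* ℤˣ, f = cosetSign M := ⟨_, rfl⟩
  rw [← hfdef] at hsgn
  have hker2 : f.ker.index = 2 := index_ker_eq_two f x₀ (hsgn x₀ hx₀D hx₀C)
  have hKker : K ≤ f.ker := by
    rw [hKdef]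
    exact Cfsg.Agent.Lib.helper26.pResidual_le_ker isPGroup_two_int_units f
  have hCker : C ≤ f.ker := by
    intro c hc
    rw [MonoidHom.mem_ker]
    have h3 : x₀⁻¹ * c ∈ D := D.mul_mem (D.inv_mem hx₀D) (hCD hc)
    have h4 : x₀⁻¹ * c ∉ C := by
      intro h5
      apply hx₀C
      have : x₀ = c * (x₀⁻¹ * c)⁻¹ := by group
      rw [this]
      exact C.mul_mem hc (C.inv_mem h5)
    have h5 : c = x₀ * (x₀⁻¹ * c) := by group
    rw [h5, map_mul, hsgn x₀ hx₀D hx₀C, hsgn _ h3 h4]
    norm_num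
  -- generator of C
  obtain ⟨u, hu⟩ := IsCyclic.exists_generator (α := C)
  obtain ⟨k, hk⟩ := (IsPGroup.iff_card).mp (hS2.to_le (le_trans hCD hDS))
  have huord : orderOf (u : G) = 2 ^ k := by
    rw [Subgroup.orderOf_coe, orderOf_eq_card_of_forall_mem_zpowers hu, hk]
  have hcardker : Nat.card f.ker = m * (Nat.card T * 2 ^ k) := by
    have h3 := Subgroup.card_mul_index f.ker
    rw [hker2, hcardG, ← hTDc, hcardD, hk] at h3
    have : Nat.card f.ker * 2 = (m * (Nat.card T * 2 ^ k)) * 2 := by rw [h3]; ring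
    exact Nat.eq_of_mul_eq_mul_right (by norm_num) this
  have hodd : ¬ 2 ∣ T.relIndex K := by
    rw [hKdef]
    rw [hKdef] at hTK hKker
    apply relIndex_pResidual_odd T hTK m hm k f.ker (u : G) hKker (hCker u.2) huord hcardker
    intro hk1 g hmem
    apply h2 ((u : G) ^ (2 ^ (k - 1))) (C.pow_mem u.2 _) ?_ g hmem
    rw [orderOf_pow_of_dvd (by positivity) (by rw [huord]; exact pow_dvd_pow 2 (by omega)), huord]
    have : k = (k - 1) + 1 := by omega
    conv_lhs => rw [this, pow_succ]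
    exact Nat.mul_div_cancel_left _ (by positivity)
  refine ⟨K, hKn, ?_, ?_⟩
  · have h3 := Cfsg.Agent.Lib.helper53.pResidual_sup_sylow (hS2.toSylow hSsyl)
    rw [IsPGroup.toSylow_coe, ← hKdef] at h3
    rw [eq_top_iff, ← h3, ← hTD]
    exact sup_le le_sup_left (sup_le (le_trans hTK le_sup_left) le_sup_right)
  · intro T' hT'L hT'2 hT'syl
    have hT'K : T' ≤ K := le_trans hT'L hLK
    refine ⟨hT'K, ?_⟩
    -- |T'| = |T|
    have hc1 : Nat.card T * T.relIndex L = Nat.card L := by
      have := Subgroup.card_mul_index (T.subgroupOf L)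
      rw [Nat.card_congr (Subgroup.subgroupOfEquivOfLe hTL).toEquiv] at this
      exact this
    have hc2 : Nat.card T' * T'.relIndex L = Nat.card L := by
      have := Subgroup.card_mul_index (T'.subgroupOf L)
      rw [Nat.card_congr (Subgroup.subgroupOfEquivOfLe hT'L).toEquiv] at this
      exact this
    obtain ⟨a, ha⟩ := (IsPGroup.iff_card).mp hT2
    obtain ⟨b, hb⟩ := (IsPGroup.iff_card).mp hT'2
    have hcop1 : Nat.Coprime 2 (T.relIndex L) := (Nat.Prime.coprime_iff_not_dvd Nat.prime_two).mpr hTsyl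
    have hcop2 : Nat.Coprime 2 (T'.relIndex L) := (Nat.Prime.coprime_iff_not_dvd Nat.prime_two).mpr hT'syl
    have hab : a = b := by
      apply le_antisymm
      · have h3 : 2 ^ a ∣ 2 ^ b * T'.relIndex L := by
          rw [← hb, hc2, ← hc1, ha]; exact Dvd.intro _ rfl
        have h4 : 2 ^ a ∣ 2 ^ b := (Nat.Coprime.pow_left a hcop2).dvd_of_dvd_mul_right h3
        exact (Nat.pow_dvd_pow_iff_le_right (by norm_num)).mp h4
      · have h3 : 2 ^ b ∣ 2 ^ a * T.relIndex L := by
          rw [← ha, hc1, ← hc2, hb]; exact Dvd.intro _ rfl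
        have h4 : 2 ^ b ∣ 2 ^ a := (Nat.Coprime.pow_left b hcop1).dvd_of_dvd_mul_right h3
        exact (Nat.pow_dvd_pow_iff_le_right (by norm_num)).mp h4
    have hcardTT' : Nat.card T' = Nat.card T := by rw [ha, hb, hab]
    have hk1 : Nat.card T * T.relIndex K = Nat.card K := by
      have := Subgroup.card_mul_index (T.subgroupOf K)
      rw [Nat.card_congr (Subgroup.subgroupOfEquivOfLe hTK).toEquiv] at this
      exact this
    have hk2 : Nat.card T' * T'.relIndex K = Nat.card K := by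
      have := Subgroup.card_mul_index (T'.subgroupOf K)
      rw [Nat.card_congr (Subgroup.subgroupOfEquivOfLe hT'K).toEquiv] at this
      exact this
    have hrel : T'.relIndex K = T.relIndex K := by
      have hpos : 0 < Nat.card T := Nat.card_pos
      rw [hcardTT', ← hk1] at hk2
      exact Nat.eq_of_mul_eq_mul_left hpos hk2
    rw [hrel]
    exact hodd

end Cfsg.Agent.S1924
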