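import Cfsg.Statements.S1939
import Cfsg.Agent.Lib.helper38.WeaklyClosed

set_option autoImplicit false
open Cfsg

namespace Cfsg.Agent.S1939

/-- Let S be a Sylow p-subgroup of the finite group G and a an element of S that is the only G-conjugate of a lying in S. Then every power of a has the same property: for every n, the only G-conjugate of a^n lying in S is a^n. -/
theorem result {G : Type*} [Group G] [Finite G] {p : ℕ} [Fact p.Prime] (S : Sylow p G) (a : G)
    (haS : a ∈ (S : Subgroup G)) (hwc : ∀ g : G, g * a * g⁻¹ ∈ (S : Subgroup G) → g * a * g⁻¹ = a) (n : ℕ) :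
    ∀ g : G, g * a ^ n * g⁻¹ ∈ (S : Subgroup G) → g * a ^ n * g⁻¹ = a ^ n := by
  intro g hg
  refine Cfsg.Agent.Lib.helper38.weaklyClosed_key S a haS hwc (a ^ n) ?_ g hg
  intro h hh
  exact ((Commute.pow_right (show Commute h a from hh) n).eq)

end Cfsg.Agent.S1939
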