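import Cfsg.Statements.S1940
-- import your own Cfsg.Agent.* helpers here

set_option autoImplicit false
open Cfsg

namespace Cfsg.Agent.S1940

/-- Let the finite group L act by automorphisms on the finite abelian group M, and let N be an L-invariant subgroup of M such that M/N is a p-group on which L acts trivially (every l • m lies in the coset mN). If every element of M is a product of an element of N and an element fixed by a Sylow p-subgroup T of L, then every element of M is a product of an element of N and an element fixed by all of L. -/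
theorem result {L : Type*} [Group L] [Finite L] {M : Type*} [CommGroup M] [Finite M] [MulDistribMulAction L M]
    {p : ℕ} [Fact p.Prime] (N : Subgroup M) (hN : ∀ (l : L) (m : M), m ∈ N → l • m ∈ N)
    (hquot : IsPGroup p (M ⧸ N)) (htriv : ∀ (l : L) (m : M), (l • m) * m⁻¹ ∈ N) (T : Sylow p L)
    (hT : ∀ m : M, ∃ n ∈ N, ∃ c : M, (∀ t ∈ (T : Subgroup L), t • c = c) ∧ m = n * c) :
    ∀ m : M, ∃ n ∈ N, ∃ c : M, (∀ l : L, l • c = c) ∧ m = n * c := by
  classical
  intro m
  obtain ⟨n₀, hn₀, c, hc, hm⟩ := hT m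
  haveI : Fintype (L ⧸ (T : Subgroup L)) := Fintype.ofFinite _
  -- the averaged element
  obtain ⟨c', hc'def⟩ : ∃ c' : M, c' = ∏ q : L ⧸ (T : Subgroup L), (q.out • c) := ⟨_, rfl⟩
  -- invariance
  have hinv : ∀ l : L, l • c' = c' := by
    intro l
    rw [hc'def, Finset.smul_prod']
    have h1 : ∀ q : L ⧸ (T : Subgroup L), l • (q.out • c) = (l • q).out • c := by
      intro q
      have hq : ((l • q : L ⧸ (T : Subgroup L))) = QuotientGroup.mk (l * q.out) := by
        conv_lhs => rw [← QuotientGroup.out_eq' q]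
        rfl
      have hmem : ((l • q).out)⁻¹ * (l * q.out) ∈ (T : Subgroup L) := by
        rw [← QuotientGroup.eq, QuotientGroup.out_eq', hq]
      have := hc _ hmem
      rw [mul_smul, mul_smul] at this
      calc l • (q.out • c) = (l • q).out • ((l • q).out)⁻¹ • (l • (q.out • c)) := by
            rw [smul_inv_smul]
        _ = (l • q).out • c := by rw [this]
    simp_rw [h1]
    exact Equiv.prod_comp (MulAction.toPerm l) (fun q : L ⧸ (T : Subgroup L) => q.out • c)
  -- congruence modulo N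
  have hmk : ∀ (l : L) (x : M), (QuotientGroup.mk (l • x) : M ⧸ N) = QuotientGroup.mk x := by
    intro l x
    rw [QuotientGroup.eq]
    have := N.inv_mem (htriv l x)
    simpa [mul_comm] using this
  have hc'mk : (QuotientGroup.mk c' : M ⧸ N) = (QuotientGroup.mk c) ^ (Fintype.card (L ⧸ (T : Subgroup L))) := by
    rw [hc'def]
    have : (QuotientGroup.mk (∏ q : L ⧸ (T : Subgroup L), (q.out • c)) : M ⧸ N)
        = ∏ q : L ⧸ (T : Subgroup L), (QuotientGroup.mk (q.out • c) : M ⧸ N) :=
      map_prod (QuotientGroup.mk' N) _ _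
    rw [this]
    simp_rw [hmk]
    rw [Finset.prod_const, Finset.card_univ]
  obtain ⟨e, he⟩ := (IsPGroup.iff_card (p := p) (G := M ⧸ N)).mp hquot
  have hpe : (QuotientGroup.mk c : M ⧸ N) ^ (p ^ e) = 1 := by
    rw [← he]; exact pow_card_eq_one'
  have hk : Nat.Coprime (Fintype.card (L ⧸ (T : Subgroup L))) (p ^ e) := by
    apply Nat.Coprime.pow_right
    rw [Nat.coprime_comm, (Fact.out : p.Prime).coprime_iff_not_dvd]
    have := T.not_dvd_index
    rwa [Subgroup.index_eq_card, Nat.card_eq_fintype_card] at this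
  have hbez := Nat.gcd_eq_gcd_ab (Fintype.card (L ⧸ (T : Subgroup L))) (p ^ e)
  rw [hk.gcd_eq_one] at hbez
  obtain ⟨a, ha⟩ : ∃ a : ℤ, a = Nat.gcdA (Fintype.card (L ⧸ (T : Subgroup L))) (p ^ e) := ⟨_, rfl⟩
  obtain ⟨b, hb⟩ : ∃ b : ℤ, b = Nat.gcdB (Fintype.card (L ⧸ (T : Subgroup L))) (p ^ e) := ⟨_, rfl⟩
  rw [← ha, ← hb] at hbez
  have hfin : (QuotientGroup.mk (c' ^ a) : M ⧸ N) = QuotientGroup.mk c := by
    have h1 : (QuotientGroup.mk (c' ^ a) : M ⧸ N) = (QuotientGroup.mk c') ^ a := map_zpow (QuotientGroup.mk' N) c' a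
    rw [h1, hc'mk]
    have h2 : (QuotientGroup.mk c : M ⧸ N) = (QuotientGroup.mk c : M ⧸ N) ^ ((1 : ℕ) : ℤ) := by simp
    conv_rhs => rw [h2, hbez, zpow_add, zpow_mul, zpow_mul, zpow_natCast, zpow_natCast, hpe, one_zpow, mul_one]
  refine ⟨n₀ * (c * (c' ^ a)⁻¹), N.mul_mem hn₀ ?_, c' ^ a, ?_, ?_⟩
  · have : (c' ^ a)⁻¹ * c ∈ N := by
      rw [← QuotientGroup.eq]; exact hfin
    rwa [mul_comm] at this
  · intro l
    rw [smul_zpow', hinv]
  · rw [hm]
    simp [mul_assoc]

end Cfsg.Agent.S1940
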