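import Cfsg.Statements.S1941
import Cfsg.Agent.Lib.helper38.Cocycle
import Cfsg.Agent.Lib.helper28.PCores
import Cfsg.Agent.Lib.helper55.Basic
-- import your own Cfsg.Agent.* helpers here

set_option autoImplicit false
open Cfsg

namespace Cfsg.Agent.S1941

open scoped IsMulCommutative in
/-- Let G be a finite group with no nontrivial normal subgroup of order prime to p, T a Sylow p-subgroup of G and E(G) the layer of G (the subgroup generated by its components). An automorphism of G of p-power order that fixes T and E(G) elementwise is inner. -/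
theorem result {G : Type*} [Group G] [Finite G] {p : ℕ} [Fact p.Prime] (hcore : Cfsg.pPrimeCore p G = ⊥)
    (T : Sylow p G) (α : MulAut G) (hα : ∃ j : ℕ, orderOf α = p ^ j) (hfixT : ∀ x ∈ (T : Subgroup G), α x = x)
    (hfixE : ∀ x ∈ Cfsg.layer G, α x = x) : ∃ g : G, ∀ x : G, α x = g * x * g⁻¹ := by
  classical
  have hFn : (Cfsg.generalizedFittingSubgroup G).Normal :=
    Cfsg.Agent.Lib.helper28.generalizedFittingSubgroup_normal G
  have hCF := Cfsg.Agent.Lib.helper28.centralizer_generalizedFittingSubgroup_le G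
  have hFit : Cfsg.fittingSubgroup G = Cfsg.pCore p G :=
    Cfsg.Agent.Lib.helper28.fittingSubgroup_eq_pCore_of_pPrimeCore_eq_bot hcore
  have hPT : Cfsg.pCore p G ≤ (T : Subgroup G) := Cfsg.Agent.Lib.helper55.pCore_le_sylow T
  -- the fixed subgroup of `α`
  obtain ⟨Fix, hFix⟩ : ∃ Fix : Subgroup G, ∀ x, x ∈ Fix ↔ α x = x :=
    ⟨{ carrier := {x | α x = x}
       mul_mem' := by
         intro a b ha hb
         simp only [Set.mem_ofPred_eq] at ha hb ⊢
         rw [map_mul, ha, hb]
       one_mem' := by simp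
       inv_mem' := by
         intro a ha
         simp only [Set.mem_ofPred_eq] at ha ⊢
         rw [map_inv, ha] }, fun x => Iff.rfl⟩
  have hfixF : ∀ x ∈ Cfsg.generalizedFittingSubgroup G, α x = x := by
    have hle : Cfsg.generalizedFittingSubgroup G ≤ Fix := by
      unfold Cfsg.generalizedFittingSubgroup
      rw [hFit]
      apply sup_le
      · intro x hx; exact (hFix x).mpr (hfixE x hx)
      · intro x hx; exact (hFix x).mpr (hfixT x (hPT hx))
    intro x hx
    exact (hFix x).mp (hle hx)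
  -- `Z = C_G(F*(G))`
  obtain ⟨Z, hZ⟩ : ∃ Z : Subgroup G, Z = Subgroup.centralizer (Cfsg.generalizedFittingSubgroup G : Set G) :=
    ⟨_, rfl⟩
  have hZn : Z.Normal := by rw [hZ]; exact Subgroup.normal_centralizer
  have hZF : Z ≤ Cfsg.generalizedFittingSubgroup G := by rw [hZ]; exact hCF
  have hZc : IsMulCommutative Z := by
    refine ⟨⟨fun a b => ?_⟩⟩
    apply Subtype.ext
    have ha : (a : G) ∈ Subgroup.centralizer (Cfsg.generalizedFittingSubgroup G : Set G) := by
      rw [← hZ]; exact a.2
    have := (Subgroup.mem_centralizer_iff.mp ha) (b : G) (hZF b.2)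
    simp only [Subgroup.coe_mul]
    exact this.symm
  have hZP : Z ≤ Cfsg.pCore p G := by
    rw [← hFit]
    exact Cfsg.Agent.Lib.helper28.le_fittingSubgroup_of_isMulCommutative hZn hZc
  have hZp : IsPGroup p Z := (Cfsg.Agent.Lib.helper40.pCore_isPGroup p G).to_le hZP
  -- the cocycle
  have hδmem : ∀ g : G, α g * g⁻¹ ∈ Z := by
    intro g
    rw [hZ, Subgroup.mem_centralizer_iff]
    intro f hf
    have h1 : g⁻¹ * f * g ∈ Cfsg.generalizedFittingSubgroup G := by
      have := hFn.conj_mem f hf g⁻¹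
      simpa using this
    have h2 := hfixF _ h1
    rw [map_mul, map_mul, map_inv, hfixF f hf] at h2
    -- h2 : (α g)⁻¹ * f * α g = g⁻¹ * f * g
    calc f * (α g * g⁻¹) = α g * ((α g)⁻¹ * f * α g) * g⁻¹ := by group
      _ = α g * (g⁻¹ * f * g) * g⁻¹ := by rw [h2]
      _ = α g * g⁻¹ * f := by group
  letI : MulDistribMulAction G Z := MulDistribMulAction.compHom Z (MulAut.conjNormal (H := Z))
  have hsmul : ∀ (l : G) (a : Z), ((l • a : Z) : G) = l * (a : G) * l⁻¹ := fun l a => rfl
  have hTidx : ((T : Subgroup G).index).Coprime p := by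
    rw [Nat.coprime_comm, Nat.Prime.coprime_iff_not_dvd Fact.out]
    exact T.not_dvd_index
  obtain ⟨u, hu⟩ := Cfsg.Agent.Lib.helper38.cocycle_eq_coboundary (L := G) (M := Z) hZp
    (T : Subgroup G) hTidx (fun g => ⟨α g * g⁻¹, hδmem g⟩)
    (by
      intro g h
      apply Subtype.ext
      rw [Subgroup.coe_mul, hsmul]
      simp only [map_mul]
      group)
    (by
      intro t ht
      apply Subtype.ext
      simp only [hfixT t ht, mul_inv_cancel]
      rfl)
  refine ⟨(u : G)⁻¹, fun x => ?_⟩
  have h1 := congrArg Subtype.val (hu x)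
  rw [Subgroup.coe_mul, hsmul] at h1
  simp only [Subgroup.coe_inv] at h1
  -- h1 : α x * x⁻¹ = u⁻¹ * (x * u * x⁻¹)
  calc α x = (α x * x⁻¹) * x := by group
    _ = ((u : G)⁻¹ * (x * (u : G) * x⁻¹)) * x := by rw [h1]
    _ = (u : G)⁻¹ * x * ((u : G)⁻¹)⁻¹ := by group

end Cfsg.Agent.S1941
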