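import Cfsg.Statements.S1944
import Cfsg.Agent.Lib.helper38.PPrimeP
import Cfsg.Agent.Lib.helper38.Trace
import Cfsg.Agent.Lib.helper38.WeaklyClosed2

set_option autoImplicit false
open Cfsg

namespace Cfsg.Agent.S1944

/-- Let S be a Sylow p-subgroup of the finite group G and suppose that the centre Z(S) lies in O_{p',p}(G). The elements of S each of which is its only G-conjugate in S form a subgroup W of Z(S); W is then a direct factor of Z(S): there is a subgroup K of Z(S) with W ∩ K = 1 and WK = Z(S). -/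
theorem result {G : Type*} [Group G] [Finite G] {p : ℕ} [Fact p.Prime] (S : Sylow p G)
    (hZ : ((S : Subgroup G) ⊓ Subgroup.centralizer ((S : Subgroup G) : Set G)) ≤ Cfsg.pPrimePCore p G) :
    ∃ W K : Subgroup G, (∀ x : G, x ∈ W ↔ (x ∈ (S : Subgroup G) ∧ ∀ g : G, g * x * g⁻¹ ∈ (S : Subgroup G) → g * x * g⁻¹ = x)) ∧
      K ≤ ((S : Subgroup G) ⊓ Subgroup.centralizer ((S : Subgroup G) : Set G)) ∧ W ⊓ K = ⊥ ∧ W ⊔ K = ((S : Subgroup G) ⊓ Subgroup.centralizer ((S : Subgroup G) : Set G)) := by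
  classical
  have hDn : (Cfsg.pPrimeCore p G).Normal := Cfsg.pPrimeCore_normal p G
  have hDc := Cfsg.Agent.Lib.helper40.pPrimeCore_card_coprime p G
  have hKn := Cfsg.Agent.Lib.helper38.pPrimePCore_normal p G
  have hsurj : Function.Surjective (QuotientGroup.mk' (Cfsg.pPrimeCore p G)) := QuotientGroup.mk'_surjective _
  have hQp : IsPGroup p (Cfsg.pCore p (G ⧸ Cfsg.pPrimeCore p G)) :=
    Cfsg.Agent.Lib.helper40.pCore_isPGroup p _
  have hQn : (Cfsg.pCore p (G ⧸ Cfsg.pPrimeCore p G)).Normal := Cfsg.pCore_normal p _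
  -- the image of `S`
  have hidx : (((S : Subgroup G).map (QuotientGroup.mk' (Cfsg.pPrimeCore p G))).index).Coprime p := by
    rw [Nat.coprime_comm, (Fact.out : p.Prime).coprime_iff_not_dvd]
    intro h
    exact S.not_dvd_index (dvd_trans h (Subgroup.index_map_dvd _ hsurj))
  have hQS : Cfsg.pCore p (G ⧸ Cfsg.pPrimeCore p G) ≤ (S : Subgroup G).map (QuotientGroup.mk' (Cfsg.pPrimeCore p G)) := by
    have := IsPGroup.le_sylow_of_normal hQp (S.mapSurjective hsurj)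
    rwa [Sylow.coe_mapSurjective] at this
  -- the abelian normal p-subgroup `A = Z(Q)`
  have hAcomm : IsMulCommutative (Cfsg.pCore p (G ⧸ Cfsg.pPrimeCore p G) ⊓
      Subgroup.centralizer (Cfsg.pCore p (G ⧸ Cfsg.pPrimeCore p G) : Set (G ⧸ Cfsg.pPrimeCore p G)) : Subgroup _) := by
    rw [← Subgroup.le_centralizer_iff_isMulCommutative]
    exact le_trans inf_le_right (Subgroup.centralizer_le (by
      intro x hx; exact (Subgroup.mem_inf.mp hx).1))
  have hAp : IsPGroup p (Cfsg.pCore p (G ⧸ Cfsg.pPrimeCore p G) ⊓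
      Subgroup.centralizer (Cfsg.pCore p (G ⧸ Cfsg.pPrimeCore p G) : Set (G ⧸ Cfsg.pPrimeCore p G)) : Subgroup _) :=
    hQp.to_inf_left
  obtain ⟨K₀, hK₀A, hK₀T, hK₀L, hK₀split⟩ := Cfsg.Agent.Lib.helper38.trace_normal_abelian
    (Cfsg.pCore p (G ⧸ Cfsg.pPrimeCore p G) ⊓
      Subgroup.centralizer (Cfsg.pCore p (G ⧸ Cfsg.pPrimeCore p G) : Set (G ⧸ Cfsg.pPrimeCore p G))) hAp
    ((S : Subgroup G).map (QuotientGroup.mk' (Cfsg.pPrimeCore p G))) hidx
  -- basic facts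
  have hSD : ∀ x ∈ (S : Subgroup G), x ∈ Cfsg.pPrimeCore p G → x = 1 := fun x hx hxD =>
    Cfsg.Agent.Lib.helper38.eq_one_of_mem_pgroup_of_mem_coprime S.2 hDc hx hxD
  have hπZ : ∀ z ∈ (S : Subgroup G) ⊓ Subgroup.centralizer ((S : Subgroup G) : Set G),
      QuotientGroup.mk' (Cfsg.pPrimeCore p G) z ∈ (Cfsg.pCore p (G ⧸ Cfsg.pPrimeCore p G) ⊓
      Subgroup.centralizer (Cfsg.pCore p (G ⧸ Cfsg.pPrimeCore p G) : Set (G ⧸ Cfsg.pPrimeCore p G)) : Subgroup _) := by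
    intro z hz
    refine Subgroup.mem_inf.mpr ⟨?_, ?_⟩
    · have := hZ hz
      unfold Cfsg.pPrimePCore at this
      exact this
    · rw [Subgroup.mem_centralizer_iff]
      intro q hq
      obtain ⟨s, hs, rfl⟩ := hQS hq
      have h1 : s * z = z * s := (Subgroup.mem_centralizer_iff.mp (Subgroup.mem_inf.mp hz).2) s hs
      rw [← map_mul, ← map_mul, h1]
  have hfixT : ∀ z ∈ (S : Subgroup G) ⊓ Subgroup.centralizer ((S : Subgroup G) : Set G),
      ∀ t ∈ (S : Subgroup G).map (QuotientGroup.mk' (Cfsg.pPrimeCore p G)),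
        t * QuotientGroup.mk' (Cfsg.pPrimeCore p G) z * t⁻¹ = QuotientGroup.mk' (Cfsg.pPrimeCore p G) z := by
    intro z hz t ht
    obtain ⟨s, hs, rfl⟩ := ht
    have h1 : s * z = z * s := (Subgroup.mem_centralizer_iff.mp (Subgroup.mem_inf.mp hz).2) s hs
    rw [← map_mul, ← map_inv, ← map_mul, h1]
    congr 1
    group
  have hWcentral : ∀ w ∈ Cfsg.Agent.Lib.helper38.weaklyClosedSubgroup S, ∀ l : G ⧸ Cfsg.pPrimeCore p G,
      l * QuotientGroup.mk' (Cfsg.pPrimeCore p G) w * l⁻¹ = QuotientGroup.mk' (Cfsg.pPrimeCore p G) w := by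
    intro w hw l
    obtain ⟨g, rfl⟩ := hsurj l
    have hwZ := Cfsg.Agent.Lib.helper38.weaklyClosedSubgroup_le S hw
    have hwK : w ∈ Cfsg.pPrimePCore p G := hZ hwZ
    have hR₂ : IsPGroup p ((Subgroup.zpowers w).map (MulAut.conj g).toMonoidHom) :=
      (S.2.to_le (by rw [Subgroup.zpowers_le]; exact hw.1)).map _
    have hle : (Subgroup.zpowers w).map (MulAut.conj g).toMonoidHom ≤
        Cfsg.pPrimeCore p G ⊔ ((S : Subgroup G) ⊓ Cfsg.pPrimePCore p G) := by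
      refine le_trans ?_ (Cfsg.Agent.Lib.helper38.pPrimePCore_le_sup S)
      rw [Cfsg.Agent.Lib.helper53.conj_le_iff]
      intro x hx
      exact hKn.conj_mem _ ((Subgroup.zpowers_le.mpr hwK) hx) g
    obtain ⟨c, hc, hcR⟩ := Cfsg.Agent.Lib.helper38.exists_conj_le_of_le_sup (Cfsg.pPrimeCore p G)
      ((S : Subgroup G) ⊓ Cfsg.pPrimePCore p G) _ hDc S.2.to_inf_left hR₂ hle
    have h1 : c⁻¹ * (g * w * g⁻¹) * c ∈ (S : Subgroup G) :=
      (Subgroup.mem_inf.mp (hcR _ (Cfsg.Agent.Lib.helper53.conj_mem_conj (Subgroup.mem_zpowers w)))).1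
    have h2 : (c⁻¹ * g) * w * (c⁻¹ * g)⁻¹ = w := by
      apply hw.2
      have e : (c⁻¹ * g) * w * (c⁻¹ * g)⁻¹ = c⁻¹ * (g * w * g⁻¹) * c := by group
      rw [e]; exact h1
    have h3 : g * w * g⁻¹ = c * w * c⁻¹ := by
      calc g * w * g⁻¹ = c * ((c⁻¹ * g) * w * (c⁻¹ * g)⁻¹) * c⁻¹ := by group
        _ = c * w * c⁻¹ := by rw [h2]
    have hc1 : QuotientGroup.mk' (Cfsg.pPrimeCore p G) c = 1 := (QuotientGroup.eq_one_iff c).mpr hc
    rw [← map_mul, ← map_inv, ← map_mul, h3, map_mul, map_mul, map_inv, hc1]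
    simp
  have hcentralW : ∀ s ∈ (S : Subgroup G), (∀ l : G ⧸ Cfsg.pPrimeCore p G,
      l * QuotientGroup.mk' (Cfsg.pPrimeCore p G) s * l⁻¹ = QuotientGroup.mk' (Cfsg.pPrimeCore p G) s) →
      s ∈ Cfsg.Agent.Lib.helper38.weaklyClosedSubgroup S := by
    intro s hs hl
    refine ⟨hs, fun g hg => ?_⟩
    have h1 := hl (QuotientGroup.mk' (Cfsg.pPrimeCore p G) g)
    rw [← map_mul, ← map_inv, ← map_mul] at h1
    have h2 : s⁻¹ * (g * s * g⁻¹) ∈ Cfsg.pPrimeCore p G := QuotientGroup.eq.mp h1.symm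
    have h3 := hSD _ ((S : Subgroup G).mul_mem ((S : Subgroup G).inv_mem hs) hg) h2
    calc g * s * g⁻¹ = s * (s⁻¹ * (g * s * g⁻¹)) := by group
      _ = s := by rw [h3, mul_one]
  refine ⟨Cfsg.Agent.Lib.helper38.weaklyClosedSubgroup S,
    ((S : Subgroup G) ⊓ Subgroup.centralizer ((S : Subgroup G) : Set G)) ⊓
      K₀.comap (QuotientGroup.mk' (Cfsg.pPrimeCore p G)), fun x => Iff.rfl, inf_le_left, ?_, ?_⟩
  · rw [eq_bot_iff]
    intro x hx
    obtain ⟨hxW, hxK⟩ := Subgroup.mem_inf.mp hx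
    have hxK₀ : QuotientGroup.mk' (Cfsg.pPrimeCore p G) x ∈ K₀ := (Subgroup.mem_inf.mp hxK).2
    have h1 := hK₀L _ hxK₀ (hWcentral x hxW)
    rw [Subgroup.mem_bot]
    exact hSD x hxW.1 ((QuotientGroup.eq_one_iff x).mp h1)
  · apply le_antisymm
    · exact sup_le (Cfsg.Agent.Lib.helper38.weaklyClosedSubgroup_le S) inf_le_left
    · intro z hz
      obtain ⟨a, haA, haL, haK⟩ := hK₀split _ (hπZ z hz) (hfixT z hz)
      obtain ⟨s, hs, rfl⟩ := hQS (Subgroup.mem_inf.mp haA).1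
      have hsW := hcentralW s hs haL
      have e : z = s * (s⁻¹ * z) := by group
      rw [e]
      refine Subgroup.mul_mem_sup hsW (Subgroup.mem_inf.mpr ⟨?_, ?_⟩)
      · exact Subgroup.mul_mem _ (Subgroup.inv_mem _ (Cfsg.Agent.Lib.helper38.weaklyClosedSubgroup_le S hsW)) hz
      · rw [Subgroup.mem_comap, map_mul, map_inv]
        exact haK

end Cfsg.Agent.S1944
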