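import Mathlib
import Cfsg.Statements.S1945
import Cfsg.Agent.S1944
import Cfsg.Agent.S5295
import Cfsg.Agent.Lib.helper38.WeaklyClosed2
import Cfsg.Agent.Lib.helper88.GroupSat
import Cfsg.Agent.Lib.helper60.HallHigman
import Cfsg.Agent.Lib.helper60.OddCoreQuot

set_option autoImplicit false
open Cfsg

namespace Cfsg.Agent.S1945

open Cfsg.Agent.Lib.helper38 in
/-- Extension lemma: a conjugation map `P → S` can be realised by an element centralising every
weakly closed element of `S`. -/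
theorem exists_conj_fix_weaklyClosed {G : Type*} [Group G] [Finite G] {p : ℕ} [Fact p.Prime]
    (S : Sylow p G) (P : Subgroup G) (hP : P ≤ (S : Subgroup G)) (g : G)
    (hg : ∀ x ∈ P, g * x * g⁻¹ ∈ (S : Subgroup G)) :
    ∃ g' : G, (∀ x ∈ P, g' * x * g'⁻¹ = g * x * g⁻¹) ∧
      ∀ w ∈ weaklyClosedSubgroup S, g' * w * g'⁻¹ = w := by
  classical
  -- notation
  set W : Subgroup G := weaklyClosedSubgroup S with hWdef
  set C : Subgroup G := Subgroup.centralizer (P : Set G) with hCdef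
  have hWS : W ≤ (S : Subgroup G) := fun w hw => ((mem_weaklyClosedSubgroup S w).mp hw).1
  have hWiso : ∀ w ∈ W, ∀ k : G, k * w * k⁻¹ ∈ (S : Subgroup G) → k * w * k⁻¹ = w :=
    fun w hw => ((mem_weaklyClosedSubgroup S w).mp hw).2
  have hWcomm : ∀ w ∈ W, ∀ s ∈ (S : Subgroup G), s * w = w * s := by
    intro w hw s hs
    exact weaklyClosed_comm S w (hWS hw) (hWiso w hw) s hs
  have hWC : W ≤ C := by
    intro w hw
    rw [hCdef, Subgroup.mem_centralizer_iff]
    intro x hx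
    exact hWcomm w hw x (hP hx)
  -- the conjugate `g⁻¹ W g`
  set W' : Subgroup G := W.map (MulAut.conj g⁻¹).toMonoidHom with hW'def
  have hW'mem : ∀ w ∈ W, g⁻¹ * w * g ∈ W' := by
    intro w hw
    refine ⟨w, hw, ?_⟩
    simp
  have hW'C : W' ≤ C := by
    rintro _ ⟨w, hw, rfl⟩
    rw [hCdef, Subgroup.mem_centralizer_iff]
    intro x hx
    have h1 := hWcomm w hw (g * x * g⁻¹) (hg x hx)
    simp only [MulEquiv.coe_toMonoidHom, MulAut.conj_apply, inv_inv]
    calc x * (g⁻¹ * w * g) = g⁻¹ * ((g * x * g⁻¹) * w) * g := by group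
      _ = g⁻¹ * (w * (g * x * g⁻¹)) * g := by rw [h1]
      _ = g⁻¹ * w * g * x := by group
  have hWp : IsPGroup p W := S.isPGroup'.to_le hWS
  have hW'p : IsPGroup p W' := hWp.map _
  -- Sylow subgroups of `C`
  obtain ⟨R, hR⟩ := (hWp.comap_subtype (K := C)).exists_le_sylow
  obtain ⟨R', hR'⟩ := (hW'p.comap_subtype (K := C)).exists_le_sylow
  obtain ⟨c, hc⟩ := MulAction.exists_smul_eq ↥C R' R
  -- a Sylow subgroup of `G` above the image of `R`
  have hRG : IsPGroup p ((R : Subgroup C).map C.subtype) := R.isPGroup'.map _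
  obtain ⟨T, hT⟩ := hRG.exists_le_sylow
  obtain ⟨h, hh⟩ := MulAction.exists_smul_eq G S T
  have hTS : ∀ y ∈ (T : Subgroup G), h⁻¹ * y * h ∈ (S : Subgroup G) := by
    intro y hy
    rw [← hh, Sylow.coe_subgroup_smul] at hy
    obtain ⟨s, hs, rfl⟩ := (Subgroup.mem_smul_pointwise_iff_exists _ _ _).mp hy
    have e : h⁻¹ * (MulAut.conj h • s) * h = s := by
      simp only [MulAut.smul_def, MulAut.conj_apply]
      group
    rw [e]; exact hs
  -- elements of `W` lie in `T`
  have hWT : ∀ w ∈ W, w ∈ (T : Subgroup G) := by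
    intro w hw
    apply hT
    exact ⟨⟨w, hWC hw⟩, hR (Subgroup.mem_comap.mpr hw), rfl⟩
  have hW'T : ∀ w ∈ W, (c : G) * (g⁻¹ * w * g) * (c : G)⁻¹ ∈ (T : Subgroup G) := by
    intro w hw
    apply hT
    have hmem : (⟨g⁻¹ * w * g, hW'C (hW'mem w hw)⟩ : C) ∈ (R' : Subgroup C) :=
      hR' (Subgroup.mem_comap.mpr (hW'mem w hw))
    have h1 : c * ⟨g⁻¹ * w * g, hW'C (hW'mem w hw)⟩ * c⁻¹ ∈ ((c • R' : Sylow p C) : Subgroup C) := by
      rw [Sylow.coe_subgroup_smul]
      exact (Subgroup.mem_smul_pointwise_iff_exists _ _ _).mpr ⟨_, hmem, rfl⟩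
    rw [hc] at h1
    exact ⟨_, h1, rfl⟩
  have hhW : ∀ w ∈ W, h⁻¹ * w * h = w := by
    intro w hw
    have h1 := hTS w (hWT w hw)
    have h2 := hWiso w hw h⁻¹ (by simpa using h1)
    simpa using h2
  have hcW : ∀ w ∈ W, (c : G) * g⁻¹ * w * ((c : G) * g⁻¹)⁻¹ = w := by
    intro w hw
    have h1 := hTS _ (hW'T w hw)
    have e : h⁻¹ * ((c : G) * (g⁻¹ * w * g) * (c : G)⁻¹) * h
        = (h⁻¹ * (c : G) * g⁻¹) * w * (h⁻¹ * (c : G) * g⁻¹)⁻¹ := by group
    rw [e] at h1
    have h2 := hWiso w hw _ h1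
    have h3 := hhW w hw
    calc (c : G) * g⁻¹ * w * ((c : G) * g⁻¹)⁻¹
        = h * ((h⁻¹ * (c : G) * g⁻¹) * w * (h⁻¹ * (c : G) * g⁻¹)⁻¹) * h⁻¹ := by group
      _ = h * w * h⁻¹ := by rw [h2]
      _ = h * (h⁻¹ * w * h) * h⁻¹ := by rw [h3]
      _ = w := by group
  refine ⟨g * (c : G)⁻¹, ?_, ?_⟩
  · intro x hx
    have hcx : (c : G) * x = x * (c : G) := by
      have := (Subgroup.mem_centralizer_iff.mp c.2) x hx
      exact this.symm
    calc g * (c : G)⁻¹ * x * (g * (c : G)⁻¹)⁻¹ = g * ((c : G)⁻¹ * (x * (c : G))) * g⁻¹ := by group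
      _ = g * ((c : G)⁻¹ * ((c : G) * x)) * g⁻¹ := by rw [hcx]
      _ = g * x * g⁻¹ := by group
  · intro w hw
    have h1 := hcW w hw
    calc g * (c : G)⁻¹ * w * (g * (c : G)⁻¹)⁻¹
        = g * (c : G)⁻¹ * ((c : G) * g⁻¹ * w * ((c : G) * g⁻¹)⁻¹) * (g * (c : G)⁻¹)⁻¹ := by rw [h1]
      _ = w := by group

open Cfsg.Agent.Lib.helper38 in
/-- The centre of the fusion system of `G` on a Sylow `p`-subgroup `S` is the subgroup of weakly closed
elements of `S`. -/
theorem center_groupFusionSystem {G : Type*} [Group G] [Finite G] {p : ℕ} [Fact p.Prime]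
    (S : Sylow p G) :
    (Cfsg.groupFusionSystem (S : Subgroup G)).center = weaklyClosedSubgroup S := by
  classical
  apply le_antisymm
  · apply sSup_le
    rintro Q ⟨hQS, hQ⟩ t ht
    rw [mem_weaklyClosedSubgroup]
    refine ⟨hQS ht, ?_⟩
    intro g hgS
    have hPS : Subgroup.zpowers t ≤ (S : Subgroup G) := by
      rw [Subgroup.zpowers_le]
      exact hQS ht
    have hφ : conjHom (Subgroup.zpowers t) g ∈
        (Cfsg.groupFusionSystem (S : Subgroup G)).Hom (Subgroup.zpowers t) := by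
      refine ⟨hPS, ?_, g, fun x => rfl⟩
      intro x
      obtain ⟨i, hi⟩ := Subgroup.mem_zpowers_iff.mp x.2
      show g * (x : G) * g⁻¹ ∈ (S : Subgroup G)
      rw [← hi]
      have e : g * t ^ i * g⁻¹ = (g * t * g⁻¹) ^ i := by
        rw [← MulAut.conj_apply, ← MulAut.conj_apply, map_zpow]
      rw [e]
      exact Subgroup.zpow_mem _ hgS i
    obtain ⟨ψ, -, hψ1, hψ2⟩ := hQ _ _ hφ
    have h1 := hψ1 ⟨t, Subgroup.mem_zpowers _⟩
    have h2 := hψ2 ⟨t, ht⟩
    have e : (Subgroup.inclusion le_sup_left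
        (⟨t, Subgroup.mem_zpowers _⟩ : Subgroup.zpowers t) :
          (Subgroup.zpowers t ⊔ Q : Subgroup G)) =
        Subgroup.inclusion le_sup_right (⟨t, ht⟩ : Q) :=
      Subtype.ext rfl
    rw [e, h2] at h1
    exact h1.symm
  · apply le_sSup
    have hWS : weaklyClosedSubgroup S ≤ (S : Subgroup G) :=
      fun w hw => ((mem_weaklyClosedSubgroup S w).mp hw).1
    refine ⟨hWS, ?_⟩
    rintro P φ ⟨hP, hφS, g, hg⟩
    obtain ⟨g', hg'1, hg'2⟩ := exists_conj_fix_weaklyClosed S P hP g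
      (fun x hx => by have := hφS ⟨x, hx⟩; rw [hg] at this; exact this)
    have hle : P ⊔ weaklyClosedSubgroup S ≤ (S : Subgroup G) := sup_le hP hWS
    refine ⟨conjHom _ g', ⟨hle, ?_, g', fun x => rfl⟩, ?_, ?_⟩
    · have hT : P ⊔ weaklyClosedSubgroup S ≤
          (S : Subgroup G).comap (MulAut.conj g').toMonoidHom := by
        apply sup_le
        · intro x hx
          rw [Subgroup.mem_comap]
          show g' * x * g'⁻¹ ∈ (S : Subgroup G)
          rw [hg'1 x hx]
          have := hφS ⟨x, hx⟩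
          rw [hg] at this
          exact this
        · intro z hz
          rw [Subgroup.mem_comap]
          show g' * z * g'⁻¹ ∈ (S : Subgroup G)
          rw [hg'2 z hz]
          exact hWS hz
      intro y
      exact hT y.2
    · intro x
      show g' * (x : G) * g'⁻¹ = φ x
      rw [hg, hg'1 x x.2]
    · intro z
      show g' * (z : G) * g'⁻¹ = z
      exact hg'2 z z.2

/-- In a finite solvable group, `Z(S) ≤ O_{p',p}(G)` for a Sylow `p`-subgroup `S`. -/
theorem center_sylow_le_pPrimePCore {G : Type*} [Group G] [Finite G] {p : ℕ} [Fact p.Prime]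
    (S : Sylow p G) (hsol : Group.IsSolvable G) :
    ((S : Subgroup G) ⊓ Subgroup.centralizer ((S : Subgroup G) : Set G)) ≤ Cfsg.pPrimePCore p G := by
  classical
  have hsurj : Function.Surjective (QuotientGroup.mk' (Cfsg.pPrimeCore p G)) :=
    QuotientGroup.mk'_surjective _
  have hQp : IsPGroup p (Cfsg.pCore p (G ⧸ Cfsg.pPrimeCore p G)) :=
    Cfsg.Agent.Lib.helper40.pCore_isPGroup p _
  have hQS : Cfsg.pCore p (G ⧸ Cfsg.pPrimeCore p G) ≤
      (S : Subgroup G).map (QuotientGroup.mk' (Cfsg.pPrimeCore p G)) := by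
    have := IsPGroup.le_sylow_of_normal hQp (S.mapSurjective hsurj)
    rwa [Sylow.coe_mapSurjective] at this
  have hbot := Cfsg.Agent.Lib.helper60.pPrimeCore_quotient_eq_bot p G
  have hHH := Cfsg.Agent.Lib.helper60.centralizer_pCore_le (G := G ⧸ Cfsg.pPrimeCore p G) p hbot
  intro z hz
  unfold Cfsg.pPrimePCore
  rw [Subgroup.mem_comap]
  apply hHH
  rw [Subgroup.mem_centralizer_iff]
  intro q hq
  obtain ⟨s, hs, rfl⟩ := hQS hq
  have h1 : s * z = z * s := (Subgroup.mem_centralizer_iff.mp (Subgroup.mem_inf.mp hz).2) s hs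
  rw [← map_mul, ← map_mul, h1]

/-- Let S be a Sylow p-subgroup of the finite group G, and assume that p is odd or that G is solvable. The elements of S each of which is its only G-conjugate in S form a subgroup W of Z(S); W is then a direct factor of Z(S): there is a subgroup K of Z(S) with W ∩ K = 1 and WK = Z(S). (For p = 2 and G not solvable this can fail.) -/
theorem result {G : Type*} [Group G] [Finite G] {p : ℕ} [Fact p.Prime] (S : Sylow p G) (h : p ≠ 2 ∨ Group.IsSolvable G) :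
    ∃ W K : Subgroup G, (∀ x : G, x ∈ W ↔ (x ∈ (S : Subgroup G) ∧ ∀ g : G, g * x * g⁻¹ ∈ (S : Subgroup G) → g * x * g⁻¹ = x)) ∧
      K ≤ ((S : Subgroup G) ⊓ Subgroup.centralizer ((S : Subgroup G) : Set G)) ∧ W ⊓ K = ⊥ ∧ W ⊔ K = ((S : Subgroup G) ⊓ Subgroup.centralizer ((S : Subgroup G) : Set G)) := by
  rcases h with hp | hsol
  · have hsat := Cfsg.Agent.Lib.helper88.groupFusionSystem_saturated S
    obtain ⟨K, hK1, hK2, hK3⟩ := Cfsg.Agent.S5295.result (S := (S : Subgroup G)) p hp S.isPGroup'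
      (Cfsg.groupFusionSystem (S : Subgroup G)) hsat
    rw [center_groupFusionSystem S] at hK2 hK3
    exact ⟨Cfsg.Agent.Lib.helper38.weaklyClosedSubgroup S, K,
      fun x => Cfsg.Agent.Lib.helper38.mem_weaklyClosedSubgroup S x, hK1, hK2, hK3⟩
  · exact Cfsg.Agent.S1944.result S (center_sylow_le_pPrimePCore S hsol)

end Cfsg.Agent.S1945
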