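import Cfsg.Statements.S1947
import Cfsg.Agent.Lib.helper67.Frobenius
import Cfsg.Agent.Lib.helper97.PNilp

set_option autoImplicit false
open Cfsg

namespace Cfsg.Agent.S1947

/-- Let G be a finite group and p a prime. If every element of G of order dividing p (dividing 4 when p = 2) lies in some fixed term Z_n(G) of the upper central series, then G has a normal p-complement. -/
theorem result {G : Type*} [Group G] [Finite G] {p : ℕ} [Fact p.Prime] (n : ℕ)
    (h : ∀ a : G, (a ^ p = 1 ∨ (p = 2 ∧ a ^ 4 = 1)) → a ∈ Subgroup.upperCentralSeries G n) : Cfsg.HasNormalPComplement p G := by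
  have P : Sylow p G := default
  apply Cfsg.Agent.Lib.helper67.FrobCond.hasNormalPComplement
  apply Cfsg.Agent.Lib.helper67.frobCond_of_sylow P
  intro Q hQP g hgN hcop
  have hQ : IsPGroup p Q := P.isPGroup'.to_le hQP
  have hgQ : ∀ x ∈ Q, g * x * g⁻¹ ∈ Q := fun x hx => (Subgroup.mem_normalizer_iff.mp hgN x).mp hx
  have hpel : ∀ m ∈ Q, ∃ k : ℕ, m ^ p ^ k = 1 := by
    intro m hm
    obtain ⟨k, hk⟩ := hQ ⟨m, hm⟩
    exact ⟨k, by simpa [Subtype.ext_iff] using hk⟩
  have chain : ∀ i : ℕ, ∀ r ∈ Q, r ∈ Subgroup.upperCentralSeries G i → Commute g r := by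
    intro i
    induction i with
    | zero =>
      intro r _ hr
      rw [Subgroup.upperCentralSeries_zero, Subgroup.mem_bot] at hr
      rw [hr]
      exact Commute.one_right g
    | succ i ih =>
      intro r hrQ hr
      have hmQ : r⁻¹ * (g * r * g⁻¹) ∈ Q := Q.mul_mem (Q.inv_mem hrQ) (hgQ r hrQ)
      have hm : r⁻¹ * (g * r * g⁻¹) ∈ Subgroup.upperCentralSeries G i := by
        have h1 := (Subgroup.mem_upperCentralSeries_succ_iff).mp
          ((Subgroup.upperCentralSeries G (i + 1)).inv_mem hr) g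
        rw [commutatorElement_def, inv_inv] at h1
        have e : r⁻¹ * (g * r * g⁻¹) = r⁻¹ * g * r * g⁻¹ := by simp only [mul_assoc]
        rw [e]
        exact h1
      exact Cfsg.Agent.Lib.helper97.stab_comm hcop (hpel _ hmQ) (ih _ hmQ hm)
  rw [Subgroup.mem_centralizer_iff]
  intro r hr
  have := Cfsg.Agent.Lib.helper97.key_lemma Q hQ g hgN hcop
    (fun x hx hxΩ => chain n x hx (h x hxΩ)) r hr
  exact this.eq.symm

end Cfsg.Agent.S1947
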