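import Cfsg.Statements.S1949
import Cfsg.Agent.Lib.helper39.SmallExp

set_option autoImplicit false
open Cfsg

namespace Cfsg.Agent.S1949

theorem pRes_normal (p : ℕ) (H : Type*) [Group H] : (Cfsg.pResidual p H).Normal := by
  constructor
  intro n hn g
  have h1 : (Cfsg.pResidual p H).map (MulAut.conj g).toMonoidHom ≤ Cfsg.pResidual p H := by
    unfold Cfsg.pResidual
    rw [MonoidHom.map_closure, Subgroup.closure_le]
    rintro _ ⟨x, hx, rfl⟩
    apply Subgroup.subset_closure
    show Nat.Coprime (orderOf ((MulAut.conj g) x)) p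
    rw [MulEquiv.orderOf_eq]
    exact hx
  exact h1 ⟨n, hn, rfl⟩

/-- Let P be a finite p-group and G a group of automorphisms of P containing the inner automorphisms. Then there is a G-invariant subgroup D of P, contained in the subgroup generated by the elements x⁻¹α(x) with x in P and α in O^p(G), of exponent dividing p when p is odd and dividing 4 when p = 2, with [D, P] ≤ Z(D), such that every automorphism in G of order prime to p that fixes D elementwise is the identity; moreover every maximal abelian subgroup A of D is normal in P and every automorphism in G fixing A elementwise has p-power order. -/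
theorem result {P : Type*} [Group P] [Finite P] {p : ℕ} [Fact p.Prime] (hP : IsPGroup p P)
    (G : Subgroup (MulAut P)) (hG : Cfsg.Inn P ≤ G) :
    ∃ D : Subgroup P,
      (∀ α ∈ G, D.map α.toMonoidHom = D) ∧
      D ≤ Subgroup.closure {y : P | ∃ α ∈ Cfsg.pResidual p ↥G, ∃ x : P, y = x⁻¹ * (α : MulAut P) x} ∧
      (∀ d ∈ D, d ^ p = 1 ∨ (p = 2 ∧ d ^ 4 = 1)) ∧
      ⁅D, (⊤ : Subgroup P)⁆ ≤ D ⊓ Subgroup.centralizer (D : Set P) ∧
      (∀ α ∈ G, (orderOf α).Coprime p → (∀ d ∈ D, α d = d) → α = 1) ∧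
      ∀ A : Subgroup P, A ≤ D → IsMulCommutative ↥A →
        (∀ B : Subgroup P, A ≤ B → B ≤ D → IsMulCommutative ↥B → B = A) →
        A.Normal ∧ ∀ α ∈ G, (∀ a ∈ A, α a = a) → ∃ k : ℕ, orderOf α = p ^ k := by
  classical
  obtain ⟨S, hS⟩ : ∃ S : Set P, S = {y : P | ∃ α ∈ Cfsg.pResidual p ↥G, ∃ x : P, y = x⁻¹ * (α : MulAut P) x} := ⟨_, rfl⟩
  obtain ⟨Q, hQdef⟩ : ∃ Q : Subgroup P, Q = Subgroup.closure S := ⟨_, rfl⟩
  have hresn : (Cfsg.pResidual p ↥G).Normal := pRes_normal p ↥G
  have hQinv : ∀ β ∈ G, ∀ x ∈ Q, β x ∈ Q := by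
    intro β hβ x hx
    have h1 : S ⊆ ((Q.comap β.toMonoidHom : Subgroup P) : Set P) := by
      intro y hy
      rw [hS] at hy
      obtain ⟨α, hα, z, hy⟩ := hy
      show β y ∈ Q
      rw [hQdef]
      apply Subgroup.subset_closure
      rw [hS]
      have hc := hresn.conj_mem α hα ⟨β, hβ⟩
      refine ⟨_, hc, β z, ?_⟩
      rw [hy, map_mul, map_inv]
      congr 1
      show β ((α : MulAut P) z) = (β * (α : MulAut P) * β⁻¹) (β z)
      rw [MulAut.mul_apply, MulAut.mul_apply, MulAut.inv_apply_self]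
    have h2 : Subgroup.closure S ≤ Q.comap β.toMonoidHom := (Subgroup.closure_le _).mpr h1
    exact h2 (hQdef ▸ hx)
  obtain ⟨D, hDQ, hDinv, hDexp, hDcomm, hDfix⟩ :=
    Cfsg.Agent.Lib.helper39.exists_small_exponent hP G hG Q hQinv
  have hfixQ : ∀ α ∈ G, (orderOf α).Coprime p → (∀ x ∈ Q, α x = x) → α = 1 := by
    intro α hα hcop hfix
    ext x
    rw [MulAut.one_apply]
    apply Cfsg.Agent.Lib.helper39.aut_fix_of_fix_comm hP α hcop
    apply hfix
    rw [hQdef]
    apply Subgroup.subset_closure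
    rw [hS]
    refine ⟨⟨α, hα⟩, ?_, x, rfl⟩
    apply Subgroup.subset_closure
    show Nat.Coprime (orderOf (⟨α, hα⟩ : G)) p
    rw [Subgroup.orderOf_mk]
    exact hcop
  refine ⟨D, ?_, hS ▸ hQdef ▸ hDQ, ?_, ?_, ?_, ?_⟩
  · intro α hα
    apply le_antisymm
    · rintro _ ⟨x, hx, rfl⟩
      exact hDinv α hα x hx
    · intro x hx
      refine ⟨α⁻¹ x, hDinv _ (G.inv_mem hα) x hx, ?_⟩
      simp
  · intro d hd
    have h1 := hDexp d hd
    unfold Cfsg.Agent.Lib.helper39.expQ at h1
    split_ifs at h1 with h2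
    · exact Or.inr ⟨h2, h1⟩
    · exact Or.inl h1
  · rw [Subgroup.commutator_le]
    intro d hd r _
    exact hDcomm d hd r
  · intro α hα hcop hfix
    exact hfixQ α hα hcop (hDfix α hα hcop hfix)
  · intro A hAD hAc hAmax
    have hAab : ∀ a ∈ A, ∀ b ∈ A, a * b = b * a := by
      intro a ha b hb
      have h1 := hAc.is_comm.comm (⟨a, ha⟩ : A) ⟨b, hb⟩
      exact congrArg Subtype.val h1
    have hAself : ∀ x ∈ D, x ∈ Subgroup.centralizer (A : Set P) → x ∈ A := by
      intro x hxD hxc
      have hs : ((A : Set P) ∪ {x}) ⊆ Subgroup.centralizer ((A : Set P) ∪ {x}) := by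
        intro u hu
        show u ∈ Subgroup.centralizer ((A : Set P) ∪ {x})
        rw [Subgroup.mem_centralizer_iff]
        intro v hv
        rcases hu with hu | hu <;> rcases hv with hv | hv
        · exact hAab v hv u hu
        · rw [Set.mem_singleton_iff] at hv
          rw [hv]
          exact (Subgroup.mem_centralizer_iff.mp hxc u hu).symm
        · rw [Set.mem_singleton_iff] at hu
          rw [hu]
          exact Subgroup.mem_centralizer_iff.mp hxc v hv
        · rw [Set.mem_singleton_iff] at hu hv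
          rw [hu, hv]
      have hcl : Subgroup.closure ((A : Set P) ∪ {x}) ≤
          Subgroup.centralizer ((Subgroup.closure ((A : Set P) ∪ {x}) : Subgroup P) : Set P) := by
        rw [Subgroup.centralizer_closure, Subgroup.closure_le]
        exact hs
      have hB : Subgroup.closure ((A : Set P) ∪ {x}) = A := by
        apply hAmax
        · exact fun a ha => Subgroup.subset_closure (Or.inl ha)
        · rw [Subgroup.closure_le]
          rintro u (hu | hu)
          · exact hAD hu
          · rw [Set.mem_singleton_iff] at hu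
            rw [hu]
            exact hxD
        · refine ⟨⟨fun a b => ?_⟩⟩
          apply Subtype.ext
          exact (Subgroup.mem_centralizer_iff.mp (hcl b.2) a a.2)
      rw [← hB]
      exact Subgroup.subset_closure (Or.inr rfl)
    have hAn : A.Normal := by
      constructor
      intro a ha g
      have h1 := hDcomm a (hAD ha) g
      have h1' : a * g * a⁻¹ * g⁻¹ ∈ Subgroup.centralizer (D : Set P) := h1.2
      have h2 : a * g * a⁻¹ * g⁻¹ ∈ A :=
        hAself _ h1.1 (Subgroup.centralizer_le (show (A : Set P) ⊆ D from hAD) h1')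
      have h3 : g * a * g⁻¹ = (a * g * a⁻¹ * g⁻¹)⁻¹ * a := by group
      rw [h3]
      exact A.mul_mem (A.inv_mem h2) ha
    refine ⟨hAn, ?_⟩
    intro α hα hfixA
    have hfin : Finite (MulAut P) := inferInstance
    have hpos : 0 < orderOf α := orderOf_pos α
    obtain ⟨k, m, hm, hkm⟩ := Nat.exists_eq_pow_mul_and_not_dvd (Nat.pos_iff_ne_zero.mp hpos) p
      (Nat.Prime.ne_one Fact.out)
    have hβm : (α ^ (p ^ k)) ^ m = 1 := by
      rw [← pow_mul, ← hkm, pow_orderOf_eq_one]
    have hcop : (orderOf (α ^ (p ^ k))).Coprime p := by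
      apply Nat.Coprime.coprime_dvd_left (orderOf_dvd_of_pow_eq_one hβm)
      exact Nat.Coprime.symm ((Nat.Prime.coprime_iff_not_dvd Fact.out).mpr hm)
    have hβG : α ^ (p ^ k) ∈ G := G.pow_mem hα _
    have hpowfix : ∀ n : ℕ, ∀ a ∈ A, (α ^ n) a = a := by
      intro n
      induction n with
      | zero => intro a _; simp
      | succ n ih =>
        intro a ha
        rw [pow_succ, MulAut.mul_apply, hfixA a ha, ih a ha]
    have hβD : ∀ d ∈ D, (α ^ (p ^ k)) d = d :=
      Cfsg.Agent.Lib.helper39.aut_fix_of_fix_selfcent hP _ hcop A D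
        (fun x _ c hc => hAn.conj_mem c hc x) (hDinv _ hβG) (hpowfix _)
        (fun x hx => hAself x hx.1 hx.2)
    have hβ1 : α ^ (p ^ k) = 1 := hfixQ _ hβG hcop (hDfix _ hβG hcop hβD)
    obtain ⟨j, -, hj⟩ := (Nat.dvd_prime_pow Fact.out).mp (orderOf_dvd_of_pow_eq_one hβ1)
    exact ⟨j, hj⟩

end Cfsg.Agent.S1949
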