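import Cfsg.Statements.S1957
import Cfsg.Agent.Lib.helper24.Klein
import Cfsg.Agent.Lib.helper11.FourGroup
import Cfsg.Agent.Lib.helper39.Sections
import Cfsg.Agent.Lib.helper28.Fitting

set_option autoImplicit false
open Cfsg

namespace Cfsg.Agent.S1957

open Cfsg.Agent.Lib.helper11

section aux

variable {G : Type*} [Group G]

/-- the elements of a four-subgroup, in terms of two distinct nonidentity members -/
theorem klein_cases {U : Subgroup G} (hU : IsKleinFour U) {a b : G} (ha : a ∈ U) (hb : b ∈ U)
    (ha1 : a ≠ 1) (hb1 : b ≠ 1) (hab : a ≠ b) {w : G} (hw : w ∈ U) :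
    w = 1 ∨ w = a ∨ w = b ∨ w = a * b := by
  have haa := mul_self_of_mem_isKleinFour hU ha
  have hbb := mul_self_of_mem_isKleinFour hU hb
  have hc := mul_comm_of_mem_isKleinFour hU ha hb
  have hle : fourSubgroup a b haa hbb hc ≤ U := by
    intro x hx
    rcases (mem_fourSubgroup a b haa hbb hc x).1 hx with rfl | rfl | rfl | rfl
    · exact U.one_mem
    · exact ha
    · exact hb
    · exact U.mul_mem ha hb
  have hK := isKleinFour_fourSubgroup a b haa hbb hc ha1 hb1 hab
  have : Finite U := Nat.finite_of_card_ne_zero (by rw [hU.card_four]; norm_num)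
  have hcard : Nat.card U ≤ Nat.card (fourSubgroup a b haa hbb hc) := by
    rw [hU.card_four, hK.card_four]
  have heq := Subgroup.eq_of_le_of_card_ge hle hcard
  rw [← heq] at hw
  exact (mem_fourSubgroup a b haa hbb hc w).1 hw

/-- The `2`-core of the centralizer of an involution `u`, as a subgroup of `G`, with the
properties used below. -/
theorem exists_core [Finite G] (h2 : Cfsg.IsCharacteristicTwoType G) {u : G} (huu : u * u = 1)
    (hu1 : u ≠ 1) :
    ∃ Q : Subgroup G, IsPGroup 2 Q ∧ (∀ q ∈ Q, q * u = u * q) ∧
      (∀ x : G, x * u = u * x → ∀ q ∈ Q, x * q * x⁻¹ ∈ Q) ∧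
      (∀ x : G, x * u = u * x → (∀ q ∈ Q, x * q = q * x) → x ∈ Q) ∧
      (∀ E : Subgroup G, IsPGroup 2 E → (∀ e ∈ E, e * u = u * e) →
        (∀ x : G, x * u = u * x → ∀ e ∈ E, x * e * x⁻¹ ∈ E) → E ≤ Q) := by
  classical
  have : Fact (Nat.Prime 2) := ⟨Nat.prime_two⟩
  obtain ⟨T, hT⟩ : ∃ T : Subgroup G, T = Subgroup.zpowers u := ⟨_, rfl⟩
  have hmemT : ∀ g : G, g ∈ T ↔ g = 1 ∨ g = u := by
    intro g
    rw [hT]
    constructor
    · intro hg
      obtain ⟨k, rfl⟩ := Subgroup.mem_zpowers_iff.1 hg
      rcases Int.even_or_odd' k with ⟨j, rfl | rfl⟩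
      · left
        rw [zpow_mul, zpow_two, huu, one_zpow]
      · right
        rw [zpow_add, zpow_mul, zpow_two, huu, one_zpow, one_mul, zpow_one]
    · rintro (rfl | rfl)
      · exact Subgroup.one_mem _
      · exact Subgroup.mem_zpowers g
  have hTp : IsPGroup 2 T := by
    rintro ⟨g, hg⟩
    refine ⟨1, Subtype.ext ?_⟩
    rw [Subgroup.coe_pow, Subgroup.coe_one, pow_one, pow_two]
    rcases (hmemT g).1 hg with rfl | rfl
    · exact one_mul 1
    · exact huu
  have hTne : T ≠ ⊥ := by
    intro h
    have h1 : u ∈ T := (hmemT u).2 (Or.inr rfl)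
    rw [h, Subgroup.mem_bot] at h1
    exact hu1 h1
  obtain ⟨H, hH⟩ : ∃ H : Subgroup G, H = Subgroup.normalizer (T : Set G) := ⟨_, rfl⟩
  have hmemH : ∀ x : G, x ∈ H ↔ x * u = u * x := by
    intro x
    rw [hH, Subgroup.mem_normalizer_iff]
    constructor
    · intro h
      have h1 := (h u).1 ((hmemT u).2 (Or.inr rfl))
      rcases (hmemT _).1 h1 with h2 | h2
      · exfalso
        apply hu1
        have : u = x⁻¹ * (x * u * x⁻¹) * x := by group
        rw [this, h2]; group
      · calc x * u = (x * u * x⁻¹) * x := by group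
          _ = u * x := by rw [h2]
    · intro h g
      have hconj : ∀ y : G, y = 1 ∨ y = u → x * y * x⁻¹ = y := by
        rintro y (rfl | rfl)
        · group
        · rw [h]; group
      constructor
      · intro hg
        rw [hconj g ((hmemT g).1 hg)]
        exact hg
      · intro hg
        have h3 := hconj _ ((hmemT _).1 hg)
        have h4 : x * g * x⁻¹ = g := by
          have h5 : x⁻¹ * (x * (x * g * x⁻¹) * x⁻¹) * x = x⁻¹ * (x * g * x⁻¹) * x := by rw [h3]
          have e1 : x⁻¹ * (x * (x * g * x⁻¹) * x⁻¹) * x = x * g * x⁻¹ := by group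
          have e2 : x⁻¹ * (x * g * x⁻¹) * x = g := by group
          rw [e1, e2] at h5
          exact h5
        rw [← h4]
        exact hg
  have hchar : Cfsg.IsOfCharacteristicTwo ↥H := by
    rw [hH]
    exact h2.2 T hTp hTne
  have hQn : (Cfsg.pCore 2 ↥H).Normal := Cfsg.Agent.Lib.helper39.pCore_normal 2 ↥H
  have hQp : IsPGroup 2 (Cfsg.pCore 2 ↥H) := Cfsg.Agent.Lib.helper39.pCore_isPGroup 2 ↥H
  refine ⟨(Cfsg.pCore 2 ↥H).map H.subtype, hQp.map _, ?_, ?_, ?_, ?_⟩
  · rintro _ ⟨q, -, rfl⟩
    exact (hmemH _).1 q.2
  · rintro x hx _ ⟨q, hq, rfl⟩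
    refine ⟨(⟨x, (hmemH x).2 hx⟩ : ↥H) * q * (⟨x, (hmemH x).2 hx⟩ : ↥H)⁻¹, hQn.conj_mem q hq _, ?_⟩
    simp
  · intro x hx hxq
    have h1 : (⟨x, (hmemH x).2 hx⟩ : ↥H) ∈ Subgroup.centralizer
        ((Cfsg.pCore 2 ↥H : Subgroup ↥H) : Set ↥H) := by
      rw [Subgroup.mem_centralizer_iff]
      intro q hq
      apply Subtype.ext
      have := hxq (q : G) ⟨q, hq, rfl⟩
      simpa using this.symm
    exact ⟨_, hchar h1, rfl⟩
  · intro E hEp hEu hEn e he
    have heH : e ∈ H := (hmemH e).2 (hEu e he)
    have hEH : E ≤ H := fun e he => (hmemH e).2 (hEu e he)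
    have hn : (E.subgroupOf H).Normal := by
      constructor
      intro n hn g
      rw [Subgroup.mem_subgroupOf] at hn ⊢
      have := hEn (g : G) ((hmemH _).1 g.2) (n : G) hn
      simpa using this
    have hp : IsPGroup 2 (E.subgroupOf H) := hEp.comap_subtype
    have hle := Cfsg.Agent.Lib.helper39.le_pCore hn hp
    exact ⟨⟨e, heH⟩, hle (by rw [Subgroup.mem_subgroupOf]; exact he), rfl⟩

/-- If every element of the core `Q` of `C_G(u)` normalizes the four-group `U ∋ u`, then
`U ≤ Q`. -/
theorem le_core_of_normalizes {U : Subgroup G} (hU : IsKleinFour U) {u : G} (hu : u ∈ U)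
    (hu1 : u ≠ 1) (Q : Subgroup G) (hQp : IsPGroup 2 Q) (hQu : ∀ q ∈ Q, q * u = u * q)
    (hQn : ∀ x : G, x * u = u * x → ∀ q ∈ Q, x * q * x⁻¹ ∈ Q)
    (hQc : ∀ x : G, x * u = u * x → (∀ q ∈ Q, x * q = q * x) → x ∈ Q)
    (hQmax : ∀ E : Subgroup G, IsPGroup 2 E → (∀ e ∈ E, e * u = u * e) →
        (∀ x : G, x * u = u * x → ∀ e ∈ E, x * e * x⁻¹ ∈ E) → E ≤ Q)
    (hQU : ∀ q ∈ Q, ∀ v ∈ U, q * v * q⁻¹ ∈ U) : U ≤ Q := by
  classical
  have huu := mul_self_of_mem_isKleinFour hU hu
  have huQ : u ∈ Q := hQc u rfl (fun q hq => (hQu q hq).symm)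
  by_contra hUQ
  -- `U ∩ Q = {1, u}`
  have hint : ∀ w ∈ U, w ∈ Q → w = 1 ∨ w = u := by
    intro w hw hwQ
    by_contra hcon
    push Not at hcon
    apply hUQ
    intro v hv
    rcases klein_cases hU hu hw hu1 hcon.1 (Ne.symm hcon.2) hv with rfl | rfl | rfl | rfl
    · exact Q.one_mem
    · exact huQ
    · exact hwQ
    · exact Q.mul_mem huQ hwQ
  -- the subgroup of `C_G(u)` acting trivially on `Q / ⟨u⟩`
  let E : Subgroup G :=
    { carrier := {x | x * u = u * x ∧ ∀ q ∈ Q, x * q * x⁻¹ = q ∨ x * q * x⁻¹ = u * q}
      one_mem' := ⟨by simp, fun q _ => Or.inl (by group)⟩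
      mul_mem' := by
        rintro x y ⟨hx, hx'⟩ ⟨hy, hy'⟩
        refine ⟨by rw [mul_assoc, hy, ← mul_assoc, hx, mul_assoc], fun q hq => ?_⟩
        have e : x * y * q * (x * y)⁻¹ = x * (y * q * y⁻¹) * x⁻¹ := by group
        rw [e]
        rcases hy' q hq with h | h
        · rw [h]; exact hx' q hq
        · rw [h]
          have e2 : x * (u * q) * x⁻¹ = (x * u * x⁻¹) * (x * q * x⁻¹) := by group
          have e3 : x * u * x⁻¹ = u := by rw [hx]; group
          rw [e2, e3]
          rcases hx' q hq with h' | h'
          · right; rw [h']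
          · left; rw [h', ← mul_assoc, huu, one_mul]
      inv_mem' := by
        rintro x ⟨hx, hx'⟩
        have hxi : x⁻¹ * u = u * x⁻¹ := by
          have : x⁻¹ * u = x⁻¹ * (u * x) * x⁻¹ := by group
          rw [this, ← hx]; group
        refine ⟨hxi, fun q hq => ?_⟩
        have hq' : x⁻¹ * q * x⁻¹⁻¹ ∈ Q := hQn x⁻¹ hxi q hq
        have e : x * (x⁻¹ * q * x⁻¹⁻¹) * x⁻¹ = q := by group
        obtain ⟨q', hq'def⟩ : ∃ q' : G, q' = x⁻¹ * q * x⁻¹⁻¹ := ⟨_, rfl⟩
        rw [← hq'def] at hq' e ⊢
        rcases hx' _ hq' with h | h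
        · left; rw [e] at h; exact h.symm
        · right
          rw [e] at h
          rw [h, ← mul_assoc, huu, one_mul] }
  have hEp : IsPGroup 2 E := by
    rintro ⟨x, hxE⟩
    have hx : x * u = u * x := hxE.1
    have hx' := hxE.2
    have hxx : x * x ∈ Q := by
      apply hQc (x * x) (by rw [mul_assoc, hx, ← mul_assoc, hx, mul_assoc])
      intro q hq
      have e : x * x * q * (x * x)⁻¹ = x * (x * q * x⁻¹) * x⁻¹ := by group
      have h1 : x * x * q * (x * x)⁻¹ = q := by
        rw [e]
        rcases hx' q hq with h | h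
        · rw [h, h]
        · rw [h]
          have e2 : x * (u * q) * x⁻¹ = (x * u * x⁻¹) * (x * q * x⁻¹) := by group
          have e3 : x * u * x⁻¹ = u := by rw [hx]; group
          rw [e2, e3, h, ← mul_assoc, huu, one_mul]
      calc x * x * q = (x * x * q * (x * x)⁻¹) * (x * x) := by group
        _ = q * (x * x) := by rw [h1]
    obtain ⟨k, hk⟩ := hQp ⟨x * x, hxx⟩
    have hk' : (x * x) ^ 2 ^ k = 1 := by simpa using congrArg Subtype.val hk
    refine ⟨k + 1, Subtype.ext ?_⟩
    rw [Subgroup.coe_pow, Subgroup.coe_one]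
    show x ^ 2 ^ (k + 1) = 1
    rw [pow_succ, pow_mul', pow_two]
    exact hk'
  have hEQ : E ≤ Q := by
    apply hQmax E hEp
    · intro e he; exact he.1
    · intro h hh x hxE
      have hx : x * u = u * x := hxE.1
      have hx' := hxE.2
      have hhi : h⁻¹ * u = u * h⁻¹ := by
        have : h⁻¹ * u = h⁻¹ * (u * h) * h⁻¹ := by group
        rw [this, ← hh]; group
      refine ⟨?_, fun q hq => ?_⟩
      · calc h * x * h⁻¹ * u = h * x * (h⁻¹ * u) := by group
          _ = h * x * (u * h⁻¹) := by rw [hhi]
          _ = h * (x * u) * h⁻¹ := by group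
          _ = h * (u * x) * h⁻¹ := by rw [hx]
          _ = (h * u) * x * h⁻¹ := by group
          _ = (u * h) * x * h⁻¹ := by rw [hh]
          _ = u * (h * x * h⁻¹) := by group
      · have hq' : h⁻¹ * q * h⁻¹⁻¹ ∈ Q := hQn h⁻¹ hhi q hq
        have e : h * x * h⁻¹ * q * (h * x * h⁻¹)⁻¹ =
            h * (x * (h⁻¹ * q * h⁻¹⁻¹) * x⁻¹) * h⁻¹ := by group
        rw [e]
        rcases hx' _ hq' with h1 | h1
        · left; rw [h1]; group
        · right; rw [h1]
          have : h * (u * (h⁻¹ * q * h⁻¹⁻¹)) * h⁻¹ = (h * u * h⁻¹) * q := by group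
          rw [this, hh]; group
  have hUE : U ≤ E := by
    intro v hv
    have hvu : v * u = u * v := mul_comm_of_mem_isKleinFour hU hv hu
    refine ⟨hvu, fun q hq => ?_⟩
    have hc1 : v * q * v⁻¹ * q⁻¹ ∈ Q := Q.mul_mem (hQn v hvu q hq) (Q.inv_mem hq)
    have hc2 : v * q * v⁻¹ * q⁻¹ ∈ U := by
      have : v * q * v⁻¹ * q⁻¹ = v * (q * v⁻¹ * q⁻¹) := by group
      rw [this]
      exact U.mul_mem hv (hQU q hq v⁻¹ (U.inv_mem hv))
    rcases hint _ hc2 hc1 with h | h
    · left
      calc v * q * v⁻¹ = (v * q * v⁻¹ * q⁻¹) * q := by group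
        _ = q := by rw [h, one_mul]
    · right
      calc v * q * v⁻¹ = (v * q * v⁻¹ * q⁻¹) * q := by group
        _ = u * q := by rw [h]
  exact hUQ (hUE.trans hEQ)

/-- If `U` lies in the core `Q` of `C_G(u)`, then `U` centralizes `C_K(u)` for every subgroup `K`
of odd order normalized by `U`. -/
theorem commute_of_le_core {U K : Subgroup G} (hK : Odd (Nat.card K))
    (hUK : U ≤ Subgroup.normalizer (K : Set G)) {u : G} (Q : Subgroup G) (hQp : IsPGroup 2 Q)
    (hQn : ∀ x : G, x * u = u * x → ∀ q ∈ Q, x * q * x⁻¹ ∈ Q) (hUQ : U ≤ Q)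
    {m : G} (hm : m ∈ K) (hmu : u * m = m * u) {v : G} (hv : v ∈ U) : v * m = m * v := by
  obtain ⟨c, hc⟩ : ∃ c : G, c = m * v * m⁻¹ * v⁻¹ := ⟨_, rfl⟩
  have hcQ : c ∈ Q := by
    rw [hc]
    exact Q.mul_mem (hQn m hmu.symm v (hUQ hv)) (Q.inv_mem (hUQ hv))
  have hcK : c ∈ K := by
    have : c = m * (v * m⁻¹ * v⁻¹) := by rw [hc]; group
    rw [this]
    exact K.mul_mem hm ((Subgroup.mem_normalizer_iff.1 (hUK hv) m⁻¹).1 (K.inv_mem hm))
  have hc1 : c = 1 := by
    obtain ⟨k, hk⟩ := hQp ⟨c, hcQ⟩
    have h1 : c ^ 2 ^ k = 1 := by simpa using congrArg Subtype.val hk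
    have h2 : c ^ Nat.card K = 1 := by
      have h := congrArg Subtype.val (pow_card_eq_one' (G := K) (x := ⟨c, hcK⟩))
      rw [Subgroup.coe_pow, Subgroup.coe_one] at h
      exact h
    have h3 : c ^ Nat.gcd (2 ^ k) (Nat.card K) = 1 := pow_gcd_eq_one.2 ⟨h1, h2⟩
    have h4 : Nat.gcd (2 ^ k) (Nat.card K) = 1 :=
      Nat.Coprime.pow_left k (Nat.coprime_two_left.2 hK)
    rw [h4, pow_one] at h3
    exact h3
  calc v * m = (m * v * m⁻¹ * v⁻¹)⁻¹ * (m * v) := by group
    _ = m * v := by rw [← hc, hc1, inv_one, one_mul]

end aux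

/-- Let `G` be a finite non-abelian simple group in which every local subgroup is solvable and which is of characteristic 2 type. Let `P` be a Sylow 2-subgroup of `G` and `U` a normal subgroup of `P` that is a four-group, with `U` central in `P` if the centre of `P` is not cyclic. Then `U` centralizes every subgroup of odd order of `G` that it normalizes. -/
theorem result {G : Type*} [Group G] [Finite G]
    [IsSimpleGroup G] (hna : ¬ IsMulCommutative G) (hN : Cfsg.IsNGroup G) (h2 : Cfsg.IsCharacteristicTwoType G)
    (P : Sylow 2 G) (U : Subgroup G) (hUP : U ≤ (P : Subgroup G)) (hUn : (P : Subgroup G) ≤ Subgroup.normalizer (U : Set G))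
    (hU4 : IsKleinFour ↥U)
    (hUZ : ¬ IsCyclic ↥((P : Subgroup G) ⊓ Subgroup.centralizer ((P : Subgroup G) : Set G)) →
      U ≤ Subgroup.centralizer ((P : Subgroup G) : Set G))
    (K : Subgroup G) (hK : Odd (Nat.card K)) (hUK : U ≤ Subgroup.normalizer (K : Set G)) :
    U ≤ Subgroup.centralizer (K : Set G) := by
  classical
  have hp2 : Fact (Nat.Prime 2) := ⟨Nat.prime_two⟩
  have hmulself : ∀ {a : G}, a ∈ U → a * a = 1 := fun ha => mul_self_of_mem_isKleinFour hU4 ha
  have hcomm : ∀ {a b : G}, a ∈ U → b ∈ U → a * b = b * a :=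
    fun ha hb => mul_comm_of_mem_isKleinFour hU4 ha hb
  have hPU : ∀ s ∈ (P : Subgroup G), ∀ v ∈ U, s * v * s⁻¹ ∈ U := fun s hs v hv =>
    (Subgroup.mem_normalizer_iff.1 (hUn hs) v).1 hv
  -- a `2`-subgroup normalized by `C_G(u) ≥ P` lies in `P`
  have hT1 : ∀ u : G, (∀ s ∈ (P : Subgroup G), s * u = u * s) → ∀ Q : Subgroup G, IsPGroup 2 Q →
      (∀ x : G, x * u = u * x → ∀ q ∈ Q, x * q * x⁻¹ ∈ Q) → Q ≤ (P : Subgroup G) := by
    intro u hPu Q hQp hQn
    have hPQ : (P : Subgroup G) ≤ Subgroup.normalizer (Q : Set G) := by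
      intro s hs
      rw [Subgroup.mem_normalizer_iff]
      intro q
      constructor
      · exact hQn s (hPu s hs) q
      · intro hq
        have hsi : s⁻¹ * u = u * s⁻¹ := hPu s⁻¹ (Subgroup.inv_mem _ hs)
        have := hQn s⁻¹ hsi _ hq
        have e : s⁻¹ * (s * q * s⁻¹) * s⁻¹⁻¹ = q := by group
        rwa [e] at this
    have hsup : IsPGroup 2 ↥(Q ⊔ (P : Subgroup G)) := hQp.to_sup_of_normal_left' P.isPGroup' hPQ
    have := P.is_maximal' hsup le_sup_right
    rw [← this]
    exact le_sup_left
  have main : ∀ u ∈ U, u ≠ 1 → ∀ m ∈ K, u * m = m * u → ∀ v ∈ U, v * m = m * v := by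
    intro u hu hu1 m hm hmu v hv
    have huu := hmulself hu
    obtain ⟨Q, hQp, hQu, hQn, hQc, hQmax⟩ := exists_core h2 huu hu1
    suffices hQU : ∀ q ∈ Q, ∀ v ∈ U, q * v * q⁻¹ ∈ U by
      have hUQ := le_core_of_normalizes hU4 hu hu1 Q hQp hQu hQn hQc hQmax hQU
      exact commute_of_le_core hK hUK Q hQp hQn hUQ hm hmu hv
    by_cases hA : U ≤ Subgroup.centralizer ((P : Subgroup G) : Set G)
    · have hPu : ∀ s ∈ (P : Subgroup G), s * u = u * s := fun s hs =>
        Subgroup.mem_centralizer_iff.1 (hA hu) s hs
      intro q hq w hw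
      exact hPU q (hT1 u hPu Q hQp hQn hq) w hw
    · have hcyc : IsCyclic ↥((P : Subgroup G) ⊓
          Subgroup.centralizer ((P : Subgroup G) : Set G)) := by
        by_contra h
        exact hA (hUZ h)
      -- a central involution `z ∈ U`
      obtain ⟨z, hzU, hz1, hzP⟩ : ∃ z ∈ U, z ≠ 1 ∧ ∀ s ∈ (P : Subgroup G), s * z = z * s := by
        haveI : Group.IsNilpotent ↥(P : Subgroup G) := P.isPGroup'.isNilpotent
        haveI hn : (U.subgroupOf (P : Subgroup G)).Normal :=
          (Subgroup.normal_subgroupOf_iff_le_normalizer hUP).2 hUn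
        have hne : U.subgroupOf (P : Subgroup G) ≠ ⊥ := by
          intro h
          obtain ⟨a, ha, ha1, -⟩ := exists_mem_isKleinFour_ne hU4 (1 : G)
          have h1 : (⟨a, hUP ha⟩ : ↥(P : Subgroup G)) ∈ U.subgroupOf (P : Subgroup G) := by
            rw [Subgroup.mem_subgroupOf]; exact ha
          rw [h, Subgroup.mem_bot] at h1
          exact ha1 (congrArg Subtype.val h1)
        have h1 := Cfsg.Agent.Lib.helper28.normal_inf_center_ne_bot
          (U.subgroupOf (P : Subgroup G)) hne
        obtain ⟨⟨z, hz⟩, hz1⟩ := Subgroup.ne_bot_iff_exists_ne_one.1 h1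
        have hzU : (z : G) ∈ U := Subgroup.mem_subgroupOf.1 hz.1
        refine ⟨(z : G), hzU, ?_, ?_⟩
        · intro h
          apply hz1
          apply Subtype.ext
          apply Subtype.ext
          exact h
        · intro s hs
          have := Subgroup.mem_center_iff.1 hz.2 ⟨s, hs⟩
          exact congrArg Subtype.val this
      by_cases huz : u = z
      · intro q hq w hw
        exact hPU q (hT1 u (huz ▸ hzP) Q hQp hQn hq) w hw
      · have hUel : ∀ w ∈ U, w = 1 ∨ w = z ∨ w = u ∨ w = z * u := fun w hw =>
          klein_cases hU4 hzU hu hz1 hu1 (Ne.symm huz) hw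
        have hzz := hmulself hzU
        have hzu : z * u = u * z := hcomm hzU hu
        have hconj_u : ∀ s ∈ (P : Subgroup G), s * u * s⁻¹ = u ∨ s * u * s⁻¹ = z * u := by
          intro s hs
          rcases hUel _ (hPU s hs u hu) with h | h | h | h
          · exfalso
            apply hu1
            have : u = s⁻¹ * (s * u * s⁻¹) * s := by group
            rw [this, h]; group
          · exfalso
            apply huz
            have h2 := hzP s⁻¹ (inv_mem hs)
            calc u = s⁻¹ * (s * u * s⁻¹) * s := by group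
              _ = s⁻¹ * z * s := by rw [h]
              _ = z * s⁻¹ * s := by rw [h2]
              _ = z := by group
          · exact Or.inl h
          · exact Or.inr h
        obtain ⟨P₀, hP₀⟩ : ∃ P₀ : Subgroup G,
            P₀ = (P : Subgroup G) ⊓ Subgroup.centralizer (U : Set G) := ⟨_, rfl⟩
        have hP₀P : P₀ ≤ (P : Subgroup G) := by rw [hP₀]; exact inf_le_left
        have hP₀U : ∀ y ∈ P₀, ∀ w ∈ U, w * y = y * w := by
          intro y hy w hw
          rw [hP₀] at hy
          exact Subgroup.mem_centralizer_iff.1 hy.2 w hw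
        have hmemP₀ : ∀ y : G, y ∈ P₀ ↔ y ∈ (P : Subgroup G) ∧ y * u = u * y := by
          intro y
          constructor
          · intro hy
            exact ⟨hP₀P hy, (hP₀U y hy u hu).symm⟩
          · rintro ⟨h1, h2⟩
            rw [hP₀]
            refine ⟨h1, Subgroup.mem_centralizer_iff.2 (fun w hw => ?_)⟩
            rcases hUel w hw with rfl | rfl | rfl | rfl
            · simp
            · exact (hzP y h1).symm
            · exact h2.symm
            · calc z * u * y = z * (u * y) := by group
                _ = z * (y * u) := by rw [h2]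
                _ = (z * y) * u := by group
                _ = (y * z) * u := by rw [hzP y h1]
                _ = y * (z * u) := by group
        obtain ⟨x, hxP, hxu⟩ : ∃ x ∈ (P : Subgroup G), x * u * x⁻¹ = z * u := by
          by_contra hcon
          push Not at hcon
          apply hA
          intro w hw
          rw [Subgroup.mem_centralizer_iff]
          intro s hs
          have hsu : s * u * s⁻¹ = u := (hconj_u s hs).resolve_right (hcon s hs)
          have hsu' : s * u = u * s := by
            calc s * u = (s * u * s⁻¹) * s := by group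
              _ = u * s := by rw [hsu]
          rcases hUel w hw with rfl | rfl | rfl | rfl
          · simp
          · exact hzP s hs
          · exact hsu'
          · calc s * (z * u) = (s * z) * u := by group
              _ = (z * s) * u := by rw [hzP s hs]
              _ = z * (s * u) := by group
              _ = z * (u * s) := by rw [hsu']
              _ = z * u * s := by group
        have hxz : x * z = z * x := hzP x hxP
        have hxinv2 : x⁻¹ * (z * u) * x = u := by
          calc x⁻¹ * (z * u) * x = x⁻¹ * (x * u * x⁻¹) * x := by rw [hxu]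
            _ = u := by group
        have hD : ∀ y ∈ (P : Subgroup G), y ∈ P₀ ∨ x⁻¹ * y ∈ P₀ := by
          intro y hy
          rcases hconj_u y hy with h | h
          · left
            rw [hmemP₀]
            refine ⟨hy, ?_⟩
            calc y * u = (y * u * y⁻¹) * y := by group
              _ = u * y := by rw [h]
          · right
            rw [hmemP₀]
            refine ⟨mul_mem (inv_mem hxP) hy, ?_⟩
            have h3 : (x⁻¹ * y) * u * (x⁻¹ * y)⁻¹ = u := by
              calc (x⁻¹ * y) * u * (x⁻¹ * y)⁻¹ = x⁻¹ * (y * u * y⁻¹) * x := by group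
                _ = x⁻¹ * (z * u) * x := by rw [h]
                _ = u := hxinv2
            calc x⁻¹ * y * u = ((x⁻¹ * y) * u * (x⁻¹ * y)⁻¹) * (x⁻¹ * y) := by group
              _ = u * (x⁻¹ * y) := by rw [h3]
        have hxP₀ : x ∉ P₀ := by
          intro h
          have h1 := ((hmemP₀ x).1 h).2
          have h3 : x * u * x⁻¹ = u := by rw [h1]; group
          rw [hxu] at h3
          apply hz1
          calc z = (z * u) * u⁻¹ := by group
            _ = 1 := by rw [h3]; group
        have hidx : (P₀.subgroupOf (P : Subgroup G)).index = 2 := by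
          rw [Subgroup.index_eq_two_iff']
          refine ⟨⟨x⁻¹, inv_mem hxP⟩, fun b => ?_⟩
          rw [Subgroup.mem_subgroupOf, Subgroup.mem_subgroupOf]
          show Xor (x⁻¹ * (b : G) ∈ P₀) ((b : G) ∈ P₀)
          have hxe : x = (b : G) * (x⁻¹ * (b : G))⁻¹ := by group
          rcases hD b b.2 with h | h
          · right
            refine ⟨h, fun h' => hxP₀ ?_⟩
            rw [hxe]
            exact mul_mem h (inv_mem h')
          · left
            refine ⟨h, fun h' => hxP₀ ?_⟩
            rw [hxe]
            exact mul_mem h' (inv_mem h)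
        have hcardP : Nat.card (P : Subgroup G) = Nat.card P₀ * 2 := by
          have h1 := (P₀.subgroupOf (P : Subgroup G)).card_mul_index
          rw [hidx, Nat.card_congr (Subgroup.subgroupOfEquivOfLe hP₀P).toEquiv] at h1
          exact h1.symm
        -- every Sylow `2`-subgroup containing `P₀` normalizes it
        have hnormal : ∀ P' : Sylow 2 G, P₀ ≤ (P' : Subgroup G) → ∀ r ∈ (P' : Subgroup G),
            ∀ y ∈ P₀, r * y * r⁻¹ ∈ P₀ := by
          intro P' hle r hr y hy
          have h1 := (P₀.subgroupOf (P' : Subgroup G)).card_mul_index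
          rw [Nat.card_congr (Subgroup.subgroupOfEquivOfLe hle).toEquiv,
            Sylow.card_eq_multiplicity P', ← Sylow.card_eq_multiplicity P, hcardP] at h1
          have hidx' : (P₀.subgroupOf (P' : Subgroup G)).index = 2 :=
            Nat.eq_of_mul_eq_mul_left Nat.card_pos h1
          have hn := Subgroup.normal_of_index_eq_two hidx'
          have h3 := hn.conj_mem ⟨y, hle hy⟩ (by rw [Subgroup.mem_subgroupOf]; exact hy) ⟨r, hr⟩
          rw [Subgroup.mem_subgroupOf] at h3
          simpa using h3
        have hxx : x * x ∈ P₀ := by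
          rcases hD (x * x) (mul_mem hxP hxP) with h | h
          · exact h
          · exfalso
            apply hxP₀
            have : x = x⁻¹ * (x * x) := by group
            rw [this]
            exact h
        have hUP₀ : U ≤ P₀ := by
          intro w hw
          rw [hmemP₀]
          exact ⟨hUP hw, hcomm hw hu⟩
        -- central involutions of `P`
        have hZ : ∀ c ∈ (P : Subgroup G), (∀ s ∈ (P : Subgroup G), s * c = c * s) → c * c = 1 →
            c = 1 ∨ c = z := by
          intro c hcP hcc hc2
          by_contra hcon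
          push Not at hcon
          obtain ⟨Z, hZdef⟩ : ∃ Z : Subgroup G, Z = (P : Subgroup G) ⊓
            Subgroup.centralizer ((P : Subgroup G) : Set G) := ⟨_, rfl⟩
          rw [← hZdef] at hcyc
          have hmemZ : ∀ g : G, g ∈ (P : Subgroup G) → (∀ s ∈ (P : Subgroup G), s * g = g * s) →
              g ∈ Z := by
            intro g hg hgc
            rw [hZdef]
            exact ⟨hg, Subgroup.mem_centralizer_iff.2 hgc⟩
          obtain ⟨c', hc'⟩ : ∃ c' : ↥Z, (c' : G) = c := ⟨⟨c, hmemZ c hcP hcc⟩, rfl⟩
          obtain ⟨z', hz'⟩ : ∃ z' : ↥Z, (z' : G) = z := ⟨⟨z, hmemZ z (hUP hzU) hzP⟩, rfl⟩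
          haveI : Fintype ↥Z := Fintype.ofFinite _
          have hle := IsCyclic.card_pow_eq_one_le (α := ↥Z) (n := 2) (by norm_num)
          have hsub : ({1, z', c'} : Finset ↥Z) ⊆ Finset.univ.filter (fun a : ↥Z => a ^ 2 = 1) := by
            intro a ha
            simp only [Finset.mem_insert, Finset.mem_singleton] at ha
            rw [Finset.mem_filter]
            refine ⟨Finset.mem_univ _, ?_⟩
            rcases ha with rfl | rfl | rfl
            · exact one_pow 2
            · apply Subtype.ext
              rw [Subgroup.coe_pow, Subgroup.coe_one, hz', pow_two, hzz]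
            · apply Subtype.ext
              rw [Subgroup.coe_pow, Subgroup.coe_one, hc', pow_two, hc2]
          have h3 : ({1, z', c'} : Finset ↥Z).card = 3 := by
            rw [Finset.card_insert_of_notMem, Finset.card_insert_of_notMem, Finset.card_singleton]
            · simp only [Finset.mem_singleton]
              intro h
              apply hcon.2
              rw [← hc', ← hz', h]
            · simp only [Finset.mem_insert, Finset.mem_singleton]
              rintro (h | h)
              · apply hz1
                rw [← hz', ← h, Subgroup.coe_one]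
              · apply hcon.1
                rw [← hc', ← h, Subgroup.coe_one]
          have h4 := Finset.card_le_card hsub
          omega
        -- an element commuting with `P₀` and `x` is central in `P`
        have hPgen : ∀ c : G, (∀ y ∈ P₀, y * c = c * y) → x * c = c * x →
            ∀ s ∈ (P : Subgroup G), s * c = c * s := by
          intro c hc hxc s hs
          rcases hD s hs with h | h
          · exact hc s h
          · have h1 := hc _ h
            calc s * c = x * (x⁻¹ * s * c) := by group
              _ = x * (c * (x⁻¹ * s)) := by rw [h1]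
              _ = (x * c) * (x⁻¹ * s) := by group
              _ = (c * x) * (x⁻¹ * s) := by rw [hxc]
              _ = c * s := by group
        -- `Ω₁(Z(P₀)) ≤ U`
        have hV : ∀ w ∈ P₀, (∀ y ∈ P₀, y * w = w * y) → w * w = 1 → w ∈ U := by
          intro w hw hwc hww
          obtain ⟨w', hw'⟩ : ∃ w' : G, w' = x * w * x⁻¹ := ⟨_, rfl⟩
          have hw'P₀ : w' ∈ P₀ := by
            rw [hw']
            exact hnormal P hP₀P x hxP w hw
          have hw'c : ∀ y ∈ P₀, y * w' = w' * y := by
            intro y hy
            have hy' : x⁻¹ * y * x ∈ P₀ := by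
              have := hnormal P hP₀P x⁻¹ (inv_mem hxP) y hy
              simpa using this
            have h1 := hwc _ hy'
            rw [hw']
            calc y * (x * w * x⁻¹) = x * (x⁻¹ * y * x * w) * x⁻¹ := by group
              _ = x * (w * (x⁻¹ * y * x)) * x⁻¹ := by rw [h1]
              _ = x * w * x⁻¹ * y := by group
          have hw'w' : w' * w' = 1 := by
            rw [hw']
            calc x * w * x⁻¹ * (x * w * x⁻¹) = x * (w * w) * x⁻¹ := by group
              _ = 1 := by rw [hww]; group
          have hww' : w * w' = w' * w := (hwc w' hw'P₀).symm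
          have hxw' : x * w' * x⁻¹ = w := by
            have h1 := hwc (x * x) hxx
            rw [hw']
            calc x * (x * w * x⁻¹) * x⁻¹ = (x * x * w) * (x * x)⁻¹ := by group
              _ = (w * (x * x)) * (x * x)⁻¹ := by rw [h1]
              _ = w := by group
          have hcP₀ : w * w' ∈ P₀ := mul_mem hw hw'P₀
          have hcc : ∀ y ∈ P₀, y * (w * w') = (w * w') * y := by
            intro y hy
            calc y * (w * w') = (y * w) * w' := by group
              _ = (w * y) * w' := by rw [hwc y hy]
              _ = w * (y * w') := by group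
              _ = w * (w' * y) := by rw [hw'c y hy]
              _ = w * w' * y := by group
          have hcx : x * (w * w') = (w * w') * x := by
            calc x * (w * w') = (x * w * x⁻¹) * (x * w' * x⁻¹) * x := by group
              _ = w' * w * x := by rw [← hw', hxw']
              _ = (w * w') * x := by rw [hww']
          have hcsq : (w * w') * (w * w') = 1 := by
            calc (w * w') * (w * w') = w * (w' * w) * w' := by group
              _ = w * (w * w') * w' := by rw [hww']
              _ = (w * w) * (w' * w') := by group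
              _ = 1 := by rw [hww, hw'w', one_mul]
          have hwinv : w⁻¹ = w := inv_eq_of_mul_eq_one_left hww
          rcases hZ (w * w') (hP₀P hcP₀) (hPgen _ hcc hcx) hcsq with h | h
          · have hw'w : w' = w := by
              calc w' = w⁻¹ * (w * w') := by group
                _ = w := by rw [h, mul_one, hwinv]
            have hxw : x * w = w * x := by
              calc x * w = (x * w * x⁻¹) * x := by group
                _ = w * x := by rw [← hw', hw'w]
            rcases hZ w (hP₀P hw) (hPgen w hwc hxw) hww with h1 | h1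
            · rw [h1]; exact U.one_mem
            · rw [h1]; exact hzU
          · have hw'eq : w' = w * z := by
              calc w' = w⁻¹ * (w * w') := by group
                _ = w * z := by rw [h, hwinv]
            have hzw : w * z = z * w := hzP w (hP₀P hw)
            have huw : w * u = u * w := ((hmemP₀ w).1 hw).2
            have hdx : x * (u * w) = (u * w) * x := by
              calc x * (u * w) = (x * u * x⁻¹) * (x * w * x⁻¹) * x := by group
                _ = (z * u) * (w * z) * x := by rw [hxu, ← hw', hw'eq]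
                _ = (z * u) * (z * w) * x := by rw [hzw]
                _ = z * (u * z) * w * x := by group
                _ = z * (z * u) * w * x := by rw [← hzu]
                _ = (z * z) * (u * w) * x := by group
                _ = (u * w) * x := by rw [hzz, one_mul]
            have hdc : ∀ y ∈ P₀, y * (u * w) = (u * w) * y := by
              intro y hy
              have hyu := ((hmemP₀ y).1 hy).2
              calc y * (u * w) = (y * u) * w := by group
                _ = (u * y) * w := by rw [hyu]
                _ = u * (y * w) := by group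
                _ = u * (w * y) := by rw [hwc y hy]
                _ = u * w * y := by group
            have hdsq : (u * w) * (u * w) = 1 := by
              calc (u * w) * (u * w) = u * (w * u) * w := by group
                _ = u * (u * w) * w := by rw [huw]
                _ = (u * u) * (w * w) := by group
                _ = 1 := by rw [huu, hww, one_mul]
            have huinv : u⁻¹ = u := inv_eq_of_mul_eq_one_left huu
            rcases hZ (u * w) (hP₀P (mul_mem (hUP₀ hu) hw)) (hPgen _ hdc hdx) hdsq with h1 | h1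
            · have : w = u := by
                calc w = u⁻¹ * (u * w) := by group
                  _ = u := by rw [h1, mul_one, huinv]
              rw [this]; exact hu
            · have : w = u * z := by
                calc w = u⁻¹ * (u * w) := by group
                  _ = u * z := by rw [h1, huinv]
              rw [this]; exact U.mul_mem hu hzU
        -- finally, `Q` normalizes `U`
        intro q hq w hw
        have hP₀Q : P₀ ≤ Subgroup.normalizer (Q : Set G) := by
          intro y hy
          have hyu := ((hmemP₀ y).1 hy).2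
          rw [Subgroup.mem_normalizer_iff]
          intro q'
          constructor
          · exact hQn y hyu q'
          · intro hq'
            have hyi : y⁻¹ * u = u * y⁻¹ := ((hmemP₀ _).1 (inv_mem hy)).2
            have := hQn y⁻¹ hyi _ hq'
            have e : y⁻¹ * (y * q' * y⁻¹) * y⁻¹⁻¹ = q' := by group
            rwa [e] at this
        have hP₀p : IsPGroup 2 P₀ := P.isPGroup'.to_le hP₀P
        have hR : IsPGroup 2 ↥(Q ⊔ P₀) := hQp.to_sup_of_normal_left' hP₀p hP₀Q
        obtain ⟨P', hP'⟩ := hR.exists_le_sylow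
        have hqP' : q ∈ (P' : Subgroup G) := hP' (Subgroup.mem_sup_left hq)
        have hP₀P' : P₀ ≤ (P' : Subgroup G) := le_sup_right.trans hP'
        apply hV
        · exact hnormal P' hP₀P' q hqP' w (hUP₀ hw)
        · intro y hy
          have hy' : q⁻¹ * y * q ∈ P₀ := by
            have := hnormal P' hP₀P' q⁻¹ (inv_mem hqP') y hy
            simpa using this
          have h1 := hP₀U _ hy' w hw
          calc y * (q * w * q⁻¹) = q * ((q⁻¹ * y * q) * w) * q⁻¹ := by group
            _ = q * (w * (q⁻¹ * y * q)) * q⁻¹ := by rw [h1]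
            _ = q * w * q⁻¹ * y := by group
        · calc q * w * q⁻¹ * (q * w * q⁻¹) = q * (w * w) * q⁻¹ := by group
            _ = 1 := by rw [hmulself hw]; group
  -- generation by the three centralizers
  obtain ⟨a, ha, ha1, -⟩ := exists_mem_isKleinFour_ne hU4 (1 : G)
  obtain ⟨b, hb, hb1, hba⟩ := exists_mem_isKleinFour_ne hU4 a
  have hab : a * b = b * a := hcomm ha hb
  have hab1 : a * b ≠ 1 := by
    intro h
    apply hba
    have hainv : a⁻¹ = a := inv_eq_of_mul_eq_one_left (hmulself ha)
    calc b = a⁻¹ * (a * b) := by group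
      _ = a := by rw [h, mul_one, hainv]
  have hnK : ∀ v ∈ U, ∀ m ∈ K, v * m * v⁻¹ ∈ K := fun v hv m hm =>
    (Subgroup.mem_normalizer_iff.1 (hUK hv) m).1 hm
  have hKle : K ≤ Subgroup.centralizer (U : Set G) := by
    apply Cfsg.Agent.Lib.helper24.klein_gen hK (hmulself ha) (hmulself hb) hab (hnK a ha) (hnK b hb)
    · intro m hm hc
      rw [Subgroup.mem_centralizer_iff]
      exact fun v hv => main a ha ha1 m hm hc v hv
    · intro m hm hc
      rw [Subgroup.mem_centralizer_iff]
      exact fun v hv => main b hb hb1 m hm hc v hv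
    · intro m hm hc
      rw [Subgroup.mem_centralizer_iff]
      exact fun v hv => main (a * b) (U.mul_mem ha hb) hab1 m hm hc v hv
  intro v hv
  rw [Subgroup.mem_centralizer_iff]
  intro k hk
  exact (Subgroup.mem_centralizer_iff.1 (hKle hk) v hv).symm

end Cfsg.Agent.S1957
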