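import Cfsg.Statements.S1966
-- no helpers

set_option autoImplicit false
open Cfsg

namespace Cfsg.Agent.S1966

/-- Let p be a prime, G a finite group with Sylow p-subgroup S and 𝓕 a conjugation family for S in G. Then the members of 𝓕 containing O_p(G) still form a conjugation family for S in G. -/
theorem result {G : Type*} [Group G] [Finite G] {p : ℕ} [Fact p.Prime] (S : Sylow p G) (𝓕 : Set (Subgroup G)) (h : Cfsg.IsConjugationFamily 𝓕 (S : Subgroup G)) : Cfsg.IsConjugationFamily {T : Subgroup G | T ∈ 𝓕 ∧ Cfsg.pCore p G ≤ T} (S : Subgroup G) := by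
  have hnorm : (Cfsg.pCore p G).Normal := Subgroup.sSup_normal _ (fun H hH => hH.1)
  have hle : Cfsg.pCore p G ≤ (S : Subgroup G) := by
    apply sSup_le
    intro N hN
    haveI := hN.1
    exact hN.2.le_sylow_of_normal S
  refine ⟨fun T hT => h.1 T hT.1, ?_⟩
  intro A g hne hAS hgS
  have hA' : A ∪ (Cfsg.pCore p G : Set G) ⊆ (S : Subgroup G) := Set.union_subset hAS hle
  have hg' : (fun a => g⁻¹ * a * g) '' (A ∪ (Cfsg.pCore p G : Set G)) ⊆ (S : Subgroup G) := by
    rintro _ ⟨a, ha | ha, rfl⟩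
    · exact hgS ⟨a, ha, rfl⟩
    · apply hle
      have := hnorm.conj_mem a ha g⁻¹
      simpa using this
  obtain ⟨n, T, x, hprod, hT, hx, h0, hstep⟩ := h.2 (A ∪ (Cfsg.pCore p G : Set G)) g
    (hne.mono Set.subset_union_left) hA' hg'
  refine ⟨n, T, x, hprod, ?_, hx, ?_, ?_⟩
  · intro i
    refine ⟨hT i, ?_⟩
    rcases Nat.eq_zero_or_pos i.val with hi | hi
    · have hn : 0 < n := lt_of_le_of_lt (Nat.zero_le _) i.2
      have hi' : i = ⟨0, hn⟩ := Fin.ext hi
      rw [hi']
      exact fun z hz => h0 hn (Or.inr hz)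
    · have hlt : (i.val - 1) + 1 < n := by have := i.2; omega
      have := hstep ⟨i.val - 1, by omega⟩ hlt
      have hi' : (⟨(i.val - 1) + 1, hlt⟩ : Fin n) = i := Fin.ext (by simp; omega)
      rw [hi'] at this
      intro z hz
      apply this
      refine ⟨(List.take (i.val - 1 + 1) (List.ofFn x)).prod * z * ((List.take (i.val - 1 + 1) (List.ofFn x)).prod)⁻¹,
        Or.inr (hnorm.conj_mem z hz _), ?_⟩
      simp only
      group
  · intro hn
    exact fun a ha => h0 hn (Or.inl ha)
  · intro i hi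
    exact subset_trans (Set.image_mono Set.subset_union_left) (hstep i hi)

end Cfsg.Agent.S1966
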