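import Cfsg.Statements.S1968
import Cfsg.Agent.Lib.helper39.LocalFusion
import Mathlib.Data.Set.Finite.Lemmas

set_option autoImplicit false
open Cfsg

namespace Cfsg.Agent.S1968

open Cfsg.Agent.Lib.helper39 in
theorem first_move {G : Type*} [Group G] {𝓕 : Set (Subgroup G)} {l : List (Subgroup G × G)} :
    ∀ {B : Subgroup G}, RChain 𝓕 B l → rc (l.map Prod.snd).prod B ≠ B →
      ∃ T ∈ 𝓕, ∃ x ∈ Subgroup.normalizer (T : Set G), B ≤ T ∧ rc x B ≠ B := by
  induction l with
  | nil =>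
    intro B _ h
    exact absurd (by simpa using rc_one B) h
  | cons t l ih =>
    intro B h hne
    rw [rChain_cons] at h
    by_cases hx : rc t.2 B = B
    · rw [hx] at h
      apply ih h.2.2.2
      rw [List.map_cons, List.prod_cons, rc_mul, hx] at hne
      exact hne
    · exact ⟨t.1, h.1, t.2, h.2.1, h.2.2.1, hx⟩

/-- Let p be a prime, G a finite group with Sylow p-subgroup S and W a conjugacy functor for p on G with Z(P) ≤ W(P) for every p-subgroup P. Let A be a subgroup of Z(S) normalized by N_G(W(S)) that is not weakly closed in S with respect to G. Then there is a subgroup T of S, well placed in S with respect to W, such that: A ≤ T; N_G(W(N_S(T))) normalizes A; N_S(T) is a Sylow p-subgroup of N_G(T); A ≤ Z(N_S(T)); and A is not weakly closed in N_S(T) with respect to N_G(T), that is, some N_G(T)-conjugate of A other than A lies in N_S(T). -/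
theorem result {G : Type*} [Group G] [Finite G] {p : ℕ} [Fact p.Prime] (S : Sylow p G) (W : Subgroup G → Subgroup G) (hW : Cfsg.IsConjugacyFunctor p W) (hWZ : ∀ P : Subgroup G, IsPGroup p ↥P → P ⊓ Subgroup.centralizer (P : Set G) ≤ W P) (A : Subgroup G) (hAZ : A ≤ (S : Subgroup G) ⊓ Subgroup.centralizer ((S : Subgroup G) : Set G)) (hAN : Subgroup.normalizer ((W (S : Subgroup G) : Subgroup G) : Set G) ≤ Subgroup.normalizer ((A : Subgroup G) : Set G)) (hnwc : ¬ Cfsg.IsWeaklyClosed A (S : Subgroup G)) : ∃ T : Subgroup G, Cfsg.IsWellPlaced p W (S : Subgroup G) T ∧ A ≤ T ∧ Subgroup.normalizer ((W ((S : Subgroup G) ⊓ Subgroup.normalizer ((T : Subgroup G) : Set G)) : Subgroup G) : Set G) ≤ Subgroup.normalizer ((A : Subgroup G) : Set G) ∧ ¬ p ∣ ((S : Subgroup G) ⊓ Subgroup.normalizer ((T : Subgroup G) : Set G)).relIndex (Subgroup.normalizer ((T : Subgroup G) : Set G)) ∧ A ≤ Subgroup.centralizer (((S : Subgroup G) ⊓ Subgroup.normalizer ((T : Subgroup G)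 : Set G) : Subgroup G) : Set G) ∧ ∃ g ∈ Subgroup.normalizer ((T : Subgroup G) : Set G), A.map (MulAut.conj g).toMonoidHom ≤ (S : Subgroup G) ⊓ Subgroup.normalizer ((T : Subgroup G) : Set G) ∧ A.map (MulAut.conj g).toMonoidHom ≠ A := by
  classical
  have hS : IsPGroup p (S : Subgroup G) := S.2
  have hAS : A ≤ (S : Subgroup G) := le_trans hAZ inf_le_left
  have hAC : A ≤ Subgroup.centralizer ((S : Subgroup G) : Set G) := le_trans hAZ inf_le_right
  -- a conjugate of A in S different from A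
  have hex : ∃ g : G, A.map (MulAut.conj g).toMonoidHom ≤ (S : Subgroup G) ∧
      A.map (MulAut.conj g).toMonoidHom ≠ A := by
    by_contra hcon
    apply hnwc
    refine ⟨hAS, fun g hg => ?_⟩
    by_contra hne
    exact hcon ⟨g, hg, hne⟩
  obtain ⟨g, hgS, hgne⟩ := hex
  -- Step 1: a well-placed subgroup whose normalizer moves A
  have hdec : Cfsg.Agent.Lib.helper39.Dec {T : Subgroup G | Cfsg.IsWellPlaced p W (S : Subgroup G) T} A g⁻¹ := by
    apply Cfsg.Agent.Lib.helper39.alperin_dec S _ (fun U hU => hU.1) _ _ _ hAS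
    · show A.map (MulAut.conj g⁻¹⁻¹).toMonoidHom ≤ _
      rw [inv_inv]; exact hgS
    · intro T hT
      obtain ⟨k, hk⟩ := Cfsg.Agent.Lib.helper39.exists_isWellPlaced S hW T hT
      exact ⟨_, hk, ⟨k, rfl⟩, hk.2 0⟩
  obtain ⟨l, hl, hprod⟩ := hdec
  have hmove : Cfsg.Agent.Lib.helper39.rc (l.map Prod.snd).prod A ≠ A := by
    rw [hprod]
    show A.map (MulAut.conj g⁻¹⁻¹).toMonoidHom ≠ A
    rw [inv_inv]; exact hgne
  obtain ⟨T₀, hT₀, x₀, hx₀, hAT₀, hx₀A⟩ := first_move hl hmove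
  -- Step 2: choose T with N_S(T) of largest order
  let 𝒯 : Set (Subgroup G) := {T | Cfsg.IsWellPlaced p W (S : Subgroup G) T ∧ A ≤ T ∧
    ∃ x ∈ Subgroup.normalizer (T : Set G), A.map (MulAut.conj x).toMonoidHom ≠ A}
  have h𝒯ne : 𝒯.Nonempty := ⟨T₀, hT₀, hAT₀, x₀⁻¹, inv_mem hx₀, hx₀A⟩
  obtain ⟨T, hT𝒯, hTmax⟩ := Set.exists_max_image 𝒯
    (fun T => Nat.card ((S : Subgroup G) ⊓ Subgroup.normalizer (T : Set G) : Subgroup G))
    (Set.toFinite 𝒯) h𝒯ne
  obtain ⟨hwp, hAT, x, hx, hxA⟩ := hT𝒯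
  have hANS : A ≤ (S : Subgroup G) ⊓ Subgroup.normalizer (T : Set G) :=
    le_trans hAT (Cfsg.Agent.Lib.helper39.le_NS hwp.1)
  have hAcent : A ≤ Subgroup.centralizer
      ((((S : Subgroup G) ⊓ Subgroup.normalizer (T : Set G) : Subgroup G)) : Set G) :=
    le_trans hAC (Subgroup.centralizer_le (by exact_mod_cast (inf_le_left :
      (S : Subgroup G) ⊓ Subgroup.normalizer (T : Set G) ≤ (S : Subgroup G))))
  refine ⟨T, hwp, hAT, ?_, hwp.2 0, hAcent, x, hx, ?_, hxA⟩
  · -- N(W(N_S(T))) ≤ N(A)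
    by_contra hnot
    obtain ⟨y, hy, hyA⟩ := SetLike.not_le_iff_exists.mp hnot
    have hNp : IsPGroup p ((S : Subgroup G) ⊓ Subgroup.normalizer (T : Set G) : Subgroup G) :=
      hS.to_le inf_le_left
    have hAT1 : A ≤ W ((S : Subgroup G) ⊓ Subgroup.normalizer (T : Set G)) :=
      le_trans (le_inf hANS hAcent) (hWZ _ hNp)
    have hT1 : W ((S : Subgroup G) ⊓ Subgroup.normalizer (T : Set G)) ∈ 𝒯 := by
      refine ⟨Cfsg.Agent.Lib.helper39.wellPlaced_shift hW hS hwp, hAT1, y, hy, ?_⟩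
      intro h
      exact hyA (Cfsg.Agent.Lib.helper39.cj_eq_self_iff.mp h)
    have hle := hTmax _ hT1
    by_cases hN : (S : Subgroup G) ⊓ Subgroup.normalizer (T : Set G) = (S : Subgroup G)
    · rw [hN] at hy
      exact hyA (hAN hy)
    · have := Cfsg.Agent.Lib.helper39.card_NS_lt hW hS hN
      have hle' : Nat.card (Cfsg.Agent.Lib.helper39.NS (S : Subgroup G)
          (W (Cfsg.Agent.Lib.helper39.NS (S : Subgroup G) T))) ≤
          Nat.card (Cfsg.Agent.Lib.helper39.NS (S : Subgroup G) T) := hle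
      omega
  · have := Cfsg.Agent.Lib.helper39.cj_le_cj (g := x) |>.mpr hAT
    rw [Cfsg.Agent.Lib.helper39.cj_eq_self_iff.mpr hx] at this
    exact le_trans this (Cfsg.Agent.Lib.helper39.le_NS hwp.1)

end Cfsg.Agent.S1968
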