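import Cfsg.Statements.S1969
import Cfsg.Agent.Lib.helper39.SecFusion

set_option autoImplicit false
universe u
open Cfsg

namespace Cfsg.Agent.S1969

/-- Let p be a prime, G a finite group and W an isomorphism-invariant p-group functor (W assigns to every group Q a subgroup W(Q), nontrivial whenever Q is a nontrivial finite p-group, and every isomorphism from a finite p-group Q onto a group R carries W(Q) onto W(R)). Suppose that W(S*) is normal in G* whenever G* = K/R is a section of G with C_{G*}(O_p(G*)) ≤ O_p(G*) and S* is a Sylow p-subgroup of G*. Then W controls strong fusion in every section of G: for every section K/R and every Sylow p-subgroup T of K/R, the subgroup W(T) controls strong fusion in K/R. -/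
theorem result {G : Type u} [Group G] [Finite G] {p : ℕ} [Fact p.Prime] (W : ∀ (Q : Type u) [Group Q], Subgroup Q) (hW : Cfsg.IsCharPFunctor.{u} p W) (hloc : ∀ (K R : Subgroup G) [hR : (R.subgroupOf K).Normal], Subgroup.centralizer ((Cfsg.pCore p (↥K ⧸ R.subgroupOf K) : Subgroup (↥K ⧸ R.subgroupOf K)) : Set (↥K ⧸ R.subgroupOf K)) ≤ Cfsg.pCore p (↥K ⧸ R.subgroupOf K) → ∀ T : Sylow p (↥K ⧸ R.subgroupOf K), (Cfsg.inducedFunctor (G := (↥K ⧸ R.subgroupOf K)) W ((T : Subgroup (↥K ⧸ R.subgroupOf K)))).Normal) : ∀ (K R : Subgroup G) [hR : (R.subgroupOf K).Normal], ∀ T : Sylow p (↥K ⧸ R.subgroupOf K), Cfsg.ControlsStrongFusion p (Cfsg.inducedFunctor (G := (↥K ⧸ R.subgroupOf K)) W ((T : Subgroup (↥K ⧸ R.subgroupOf K)))) := by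
  intro K R hR T
  refine Lib.helper39.controlsStrongFusion_of_normal_sections hW (fun X _ => Lib.helper39.Sec G X)
    (fun X _ H hX => hX.sub H) (fun X _ N _ hX => hX.quot N) ?_ (↥K ⧸ R.subgroupOf K)
    (Lib.helper39.Sec.section G K R) T
  intro X _ _ hX hcon
  obtain ⟨K', R', hR', ⟨e⟩⟩ := hX.exists_equiv
  obtain ⟨T₀⟩ : Nonempty (Sylow p (↥K' ⧸ R'.subgroupOf K')) := inferInstance
  have h1 := hloc K' R' (Lib.helper39.constrained_of_equiv e hcon) T₀
  refine ⟨T₀.mapSurjective (f := e.toMonoidHom) e.surjective, ?_⟩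
  show (Cfsg.inducedFunctor W ((T₀ : Subgroup (↥K' ⧸ R'.subgroupOf K')).map e.toMonoidHom)).Normal
  have h2 := Lib.helper39.ind_map hW e.toMonoidHom (T₀ : Subgroup (↥K' ⧸ R'.subgroupOf K')) T₀.2
    e.injective.injOn
  rw [← h2]
  exact h1.map e.toMonoidHom e.surjective

end Cfsg.Agent.S1969
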