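import Cfsg.Statements.S1972
import Cfsg.Agent.Lib.helper39.MinTransfer

set_option autoImplicit false
universe u
open Cfsg

namespace Cfsg.Agent.S1972

/-- Let p be a prime, G a finite group and W an isomorphism-invariant p-group functor (W assigns to every group Q a subgroup W(Q), nontrivial whenever Q is a nontrivial finite p-group, and every isomorphism from a finite p-group Q onto a group R carries W(Q) onto W(R)). Suppose that whenever G* = K/R is a section of G with C_{G*}(O_p(G*)) ≤ O_p(G*) and S* is a Sylow p-subgroup of G* with W(S*) not normal in G*, there is an element g of S* outside O_p(G*) such that [X, g, …, g] ≤ Y with p − 1 entries g, for every chief factor X/Y of G* with X ≤ O_p(G*). Then W controls transfer in every section of G. -/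
theorem result {G : Type u} [Group G] [Finite G] {p : ℕ} [Fact p.Prime] (W : ∀ (Q : Type u) [Group Q], Subgroup Q) (hW : Cfsg.IsCharPFunctor.{u} p W) (hloc : ∀ (K R : Subgroup G) [hR : (R.subgroupOf K).Normal], Subgroup.centralizer ((Cfsg.pCore p (↥K ⧸ R.subgroupOf K) : Subgroup (↥K ⧸ R.subgroupOf K)) : Set (↥K ⧸ R.subgroupOf K)) ≤ Cfsg.pCore p (↥K ⧸ R.subgroupOf K) → ∀ T : Sylow p (↥K ⧸ R.subgroupOf K), ¬ (Cfsg.inducedFunctor (G := (↥K ⧸ R.subgroupOf K)) W ((T : Subgroup (↥K ⧸ R.subgroupOf K)))).Normal → ∃ g : (↥K ⧸ R.subgroupOf K), g ∈ (T : Subgroup (↥K ⧸ R.subgroupOf K)) ∧ g ∉ Cfsg.pCore p (↥K ⧸ R.subgroupOf K) ∧ ∀ U V : Subgroup (↥K ⧸ R.subgroupOf K), Cfsg.IsChiefFactor U V → U ≤ Cfsg.pCore p (↥K ⧸ R.subgroupOf K) → Cfsg.iterCommutator U (Subgroup.zpowers g) (p - 1) ≤ V) : ∀ (K R : Subgroup G) [hR : (R.subgroupOf K).Normal], Cfsg.ControlsTransferIn p (Cfsg.inducedFunctor (G := (↥K ⧸ R.subgroupOf K)) W) ⊤ := by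
  intro K R hR
  have h𝓦 := Lib.helper39.isCharPFunctor_singleton hW
  have key := Lib.helper39.secTransfer h𝓦 (fun X _ => Lib.helper39.Sec G X)
    (fun X _ H hX => hX.sub H) (fun X _ N _ hX => hX.quot N)
    (by
      intro X _ _ hX hcon ih'
      obtain ⟨K', R', hR', ⟨e⟩⟩ := hX.exists_equiv
      have hZcon := Lib.helper39.constrained_of_equiv e hcon
      have hcard : Nat.card (↥K' ⧸ R'.subgroupOf K') = Nat.card X := Nat.card_congr e.toEquiv
      obtain ⟨T⟩ : Nonempty (Sylow p (↥K' ⧸ R'.subgroupOf K')) := inferInstance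
      have hZ := Lib.helper39.control_of_engel h𝓦 (Set.singleton_nonempty W)
        (fun X _ => Lib.helper39.Sec G X) (fun X _ H hX => hX.sub H)
        (fun X _ N _ hX => hX.quot N) (Lib.helper39.Sec.section G K' R')
        (fun Y _ _ hY hlt => ih' Y hY (by rw [← hcard]; exact hlt)) T
        (fun hnn => hloc K' R' hZcon T (hnn W rfl))
      have h1 := Lib.helper39.familyControlsTransferIn_map h𝓦 e.toMonoidHom e.injective hZ
      rwa [MonoidHom.range_eq_top.mpr e.surjective] at h1)
    (↥K ⧸ R.subgroupOf K) (Lib.helper39.Sec.section G K R)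
  obtain ⟨T, h1, h2, h3, h4⟩ := key
  refine ⟨T, h1, h2, h3, ?_⟩
  rw [h4, Lib.helper39.indSet_singleton, iSup_singleton]

end Cfsg.Agent.S1972
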