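import Cfsg.Statements.S1978
import Cfsg.Agent.Lib.helper39.SelfCent

set_option autoImplicit false
open Cfsg

namespace Cfsg.Agent.S1978

/-- Let P be a finite p-group. Each of the two K-infinity subgroups of P contains its own centralizer in P, which in turn contains Z(P); in particular both are nontrivial when P is. -/
theorem result {P : Type*} [Group P] [Finite P] {p : ℕ} [Fact p.Prime] (hP : IsPGroup p P) : Subgroup.centralizer (Cfsg.kInfLower P : Set P) ≤ Cfsg.kInfLower P ∧ Subgroup.center P ≤ Subgroup.centralizer (Cfsg.kInfLower P : Set P) ∧ Subgroup.centralizer (Cfsg.kInfUpper P : Set P) ≤ Cfsg.kInfUpper P ∧ Subgroup.center P ≤ Subgroup.centralizer (Cfsg.kInfUpper P : Set P) := by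
  obtain ⟨A, hAn, hAc, hAC⟩ := Cfsg.Agent.Lib.helper39.exists_normal_abelian_selfcent hP
  have h1 : A ≤ Cfsg.kInfLower P := Cfsg.Agent.Lib.helper39.normal_abelian_le_kInfLower A hAc
  have h2 : A ≤ Cfsg.kInfUpper P := Cfsg.Agent.Lib.helper39.normal_abelian_le_kInfUpper A hAc
  refine ⟨?_, Subgroup.center_le_centralizer _, ?_, Subgroup.center_le_centralizer _⟩
  · exact le_trans (Subgroup.centralizer_le h1) (le_trans hAC h1)
  · exact le_trans (Subgroup.centralizer_le h2) (le_trans hAC h2)

end Cfsg.Agent.S1978
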