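import Cfsg.Statements.S2005
-- import your own Cfsg.Agent.* helpers here
import Cfsg.Agent.Lib.helper40.ThompsonW

set_option autoImplicit false
universe u
open Cfsg

namespace Cfsg.Agent.S2005

/-- Thompson's normal p-complement criterion in functor form. Let p be a prime, G a finite group with Sylow p-subgroup S, and W an isomorphism-invariant p-group functor (W assigns to every group Q a subgroup W(Q), nontrivial whenever Q is a nontrivial finite p-group, and every isomorphism from a finite p-group Q onto a group R carries W(Q) onto W(R)). Suppose N_G(W(S)) has a normal p-complement, and that W(S*) is normal in G* whenever G* = K/R is a section of G with C_{G*}(O_p(G*)) ≤ O_p(G*) such that G*/O_p(G*) has a normal p-complement, and S* is a Sylow p-subgroup of G* that is a maximal subgroup of G*. Then G has a normal p-complement. -/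
theorem result {G : Type u} [Group G] [Finite G] {p : ℕ} [Fact p.Prime] (W : ∀ (Q : Type u) [Group Q], Subgroup Q) (hW : Cfsg.IsCharPFunctor.{u} p W) (S : Sylow p G) (hN : Cfsg.HasNormalPComplement p ↥(Subgroup.normalizer ((Cfsg.inducedFunctor (G := G) W (S : Subgroup G) : Subgroup G) : Set G))) (hloc : ∀ (K R : Subgroup G) [hR : (R.subgroupOf K).Normal], Subgroup.centralizer ((Cfsg.pCore p (↥K ⧸ R.subgroupOf K) : Subgroup (↥K ⧸ R.subgroupOf K)) : Set (↥K ⧸ R.subgroupOf K)) ≤ Cfsg.pCore p (↥K ⧸ R.subgroupOf K) → Cfsg.HasNormalPComplement p ((↥K ⧸ R.subgroupOf K) ⧸ Cfsg.pCore p (↥K ⧸ R.subgroupOf K)) → ∀ T : Sylow p (↥K ⧸ R.subgroupOf K), IsCoatom (T : Subgroup (↥K ⧸ R.subgroupOf K)) → (Cfsg.inducedFunctor (G := (↥K ⧸ R.subgroupOf K)) W ((T : Subgroup (↥K ⧸ R.subgroupOf K)))).Normal) : Cfsg.HasNormalPComplement p G := by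
  have ax := Lib.helper40.redAx_hypW hW (fun X _ => Lib.helper39.Sec G X)
    (fun X _ H hX => hX.sub H) (fun X _ N _ hX => hX.quot N)
  refine Lib.helper40.thompson_reduction ax ?_ G (Lib.helper39.Sec.refl G)
    (Lib.helper40.hypW_of_sylow hW S hN)
  intro X _ _ hX hP _ hcent hquot hco
  obtain ⟨K, R, hR, ⟨e⟩⟩ := hX.exists_equiv
  obtain ⟨T⟩ : Nonempty (Sylow p X) := inferInstance
  obtain ⟨T₀, hT₀⟩ := Lib.helper40.exists_sylow_map_equiv e T
  have hn₀ := hloc K R (Lib.helper39.constrained_of_equiv e hcent)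
    (Lib.helper40.hasNPC_quot_pCore_of_equiv e hquot) T₀
    (Lib.helper40.isCoatom_of_map_equiv e (hT₀ ▸ hco T))
  apply Lib.helper40.hasNPC_of_hypW_normal hP T
  have h2 : (inducedFunctor W (T₀ : Subgroup (↥K ⧸ R.subgroupOf K))).map e.toMonoidHom =
      inducedFunctor W (T : Subgroup X) := by
    rw [← hT₀]
    exact Lib.helper39.ind_map hW _ _ T₀.isPGroup' e.injective.injOn
  rw [← h2]
  exact hn₀.map e.toMonoidHom e.surjective

end Cfsg.Agent.S2005
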