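import Cfsg.Statements.S1993
import Cfsg.Agent.Lib.helper39.KInfStable
import Cfsg.Agent.Lib.helper39.QStableSec
import Cfsg.Agent.Lib.helper39.SecFusion
import Cfsg.Agent.Lib.helper39.KInfTransfer

set_option autoImplicit false
universe u
open Cfsg

namespace Cfsg.Agent.S1993

/-- Let p be a prime, G a finite group with Sylow p-subgroup S, and K the upper K-infinity subgroup of S. If p ≥ 5 then S ∩ G' = S ∩ (N_G(K))'; and if p is odd and every section of G is p-stable in the normalizer form, then K controls strong fusion in G. -/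
theorem result {G : Type u} [Group G] [Finite G] {p : ℕ} [Fact p.Prime] (S : Sylow p G) : (5 ≤ p → (S : Subgroup G) ⊓ commutator G = (S : Subgroup G) ⊓ ⁅Subgroup.normalizer ((Cfsg.inducedFunctor Cfsg.kInfUpper (S : Subgroup G) : Subgroup G) : Set G), Subgroup.normalizer ((Cfsg.inducedFunctor Cfsg.kInfUpper (S : Subgroup G) : Subgroup G) : Set G)⁆) ∧ (p ≠ 2 → (∀ (K R : Subgroup G) [hR : (R.subgroupOf K).Normal], Cfsg.IsNormalizerPStable p (↥K ⧸ R.subgroupOf K)) → Cfsg.ControlsStrongFusion p (Cfsg.inducedFunctor Cfsg.kInfUpper (S : Subgroup G))) := by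
  refine ⟨fun hp5 => ?_, fun _ hst => ?_⟩
  · have h1 := Lib.helper39.CT.of_controls
      (Lib.helper39.isConjugacyFunctor_ind (Lib.helper39.isCharPFunctor_kInfUpper p) G)
      (Lib.helper39.kInfUpper_controlsTransfer hp5 G) (Lib.helper39.sylow_isSylIn_top S)
    have h2 : (S : Subgroup G) ⊓ ⁅(⊤ : Subgroup G), (⊤ : Subgroup G)⁆ =
        (S : Subgroup G) ⊓ ⁅(⊤ : Subgroup G) ⊓ Subgroup.normalizer
          ((Cfsg.inducedFunctor Cfsg.kInfUpper (S : Subgroup G) : Subgroup G) : Set G),
        (⊤ : Subgroup G) ⊓ Subgroup.normalizer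
          ((Cfsg.inducedFunctor Cfsg.kInfUpper (S : Subgroup G) : Subgroup G) : Set G)⁆ := h1
    rw [top_inf_eq] at h2
    exact h2
  · exact Lib.helper39.controlsStrongFusion_of_normal_sections
      (Lib.helper39.isCharPFunctor_kInfUpper p)
      (fun X _ => Lib.helper39.Sec G X) (fun X _ H hX => hX.sub H) (fun X _ N _ hX => hX.quot N)
      (by
        intro X _ _ hX hcon
        obtain ⟨T⟩ : Nonempty (Sylow p X) := inferInstance
        exact ⟨T, (Lib.helper39.kInf_normal_of_qStable
          (Lib.helper39.qStable_of_sections hst hX) hcon T).2⟩)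
      G (Lib.helper39.Sec.refl G) S

end Cfsg.Agent.S1993
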