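import Cfsg.Statements.S1997
import Cfsg.Agent.S1996
import Cfsg.Agent.Lib.helper39.TripleFacMain

set_option autoImplicit false
universe u
open Cfsg

namespace Cfsg.Agent.S1997

/-- Let p be a prime, G a finite group with Sylow p-subgroup S, and W₁, W₂ two isomorphism-invariant p-group functors (W assigns to every group Q a subgroup W(Q), nontrivial whenever Q is a nontrivial finite p-group, and every isomorphism from a finite p-group Q onto a group R carries W(Q) onto W(R)). Suppose that G* = C_{G*}(Ω₁Z(S*)) N_{G*}(W₁(S*)) = C_{G*}(Ω₁Z(S*)) N_{G*}(W₂(S*)) = N_{G*}(W₁(S*)) N_{G*}(W₂(S*)) whenever G* = K/R is a section of G with C_{G*}(O_p(G*)) ≤ O_p(G*) and S* is a Sylow p-subgroup of G*, where Ω₁Z denotes the subgroup generated by the elements of order dividing p in the centre. Suppose also Ω₁Z(S) ≤ W₁(S) ∩ W₂(S), and let A be the normal closure of Ω₁Z(S) in N_G(W₁(S)). Then A is an elementary abelian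 subgroup of S, strongly closed in S with respect to G, and A controls strong fusion in G. -/
theorem result {G : Type u} [Group G] [Finite G] {p : ℕ} [Fact p.Prime] (S : Sylow p G) (W₁ W₂ : ∀ (Q : Type u) [Group Q], Subgroup Q) (hW₁ : Cfsg.IsCharPFunctor.{u} p W₁) (hW₂ : Cfsg.IsCharPFunctor.{u} p W₂) (hfac : ∀ (K R : Subgroup G) [hR : (R.subgroupOf K).Normal], Subgroup.centralizer ((Cfsg.pCore p (↥K ⧸ R.subgroupOf K) : Subgroup (↥K ⧸ R.subgroupOf K)) : Set (↥K ⧸ R.subgroupOf K)) ≤ Cfsg.pCore p (↥K ⧸ R.subgroupOf K) → ∀ T : Sylow p (↥K ⧸ R.subgroupOf K), (∀ x : (↥K ⧸ R.subgroupOf K), ∃ a ∈ Subgroup.centralizer ((Cfsg.omegaOne p ((T : Subgroup (↥K ⧸ R.subgroupOf K)) ⊓ Subgroup.centralizer (((T : Subgroup (↥K ⧸ R.subgroupOf K)) : Subgroup (↥K ⧸ R.subgroupOf K)) : Set (↥K ⧸ R.subgroupOf K))) : Subgroup (↥K ⧸ R.subgroupOf K)) : Set (↥K ⧸ R.subgroupOf K)), ∃ b ∈ Subgroup.normalizer ((Cfsg.inducedFunctor (G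 := (↥K ⧸ R.subgroupOf K)) W₁ (T : Subgroup (↥K ⧸ R.subgroupOf K)) : Subgroup (↥K ⧸ R.subgroupOf K)) : Set (↥K ⧸ R.subgroupOf K)), x = a * b) ∧ (∀ x : (↥K ⧸ R.subgroupOf K), ∃ a ∈ Subgroup.centralizer ((Cfsg.omegaOne p ((T : Subgroup (↥K ⧸ R.subgroupOf K)) ⊓ Subgroup.centralizer (((T : Subgroup (↥K ⧸ R.subgroupOf K)) : Subgroup (↥K ⧸ R.subgroupOf K)) : Set (↥K ⧸ R.subgroupOf K))) : Subgroup (↥K ⧸ R.subgroupOf K)) : Set (↥K ⧸ R.subgroupOf K)), ∃ b ∈ Subgroup.normalizer ((Cfsg.inducedFunctor (G := (↥K ⧸ R.subgroupOf K)) W₂ (T : Subgroup (↥K ⧸ R.subgroupOf K)) : Subgroup (↥K ⧸ R.subgroupOf K)) : Set (↥K ⧸ R.subgroupOf K)), x = a * b) ∧ (∀ x : (↥K ⧸ R.subgroupOf K), ∃ a ∈ Subgroup.normalizer ((Cfsg.inducedFunctor (G := (↥K ⧸ R.subgroupOf K)) W₁ (T : Subgroup (↥K ⧸ R.subgroupOf K)) : Subgroup (↥K ⧸ R.subgroupOf K)) : Set (↥K ⧸ R.subgroupOf K)), ∃ b ∈ Subgroup.normalizer ((Cfsg.inducedFunctor (G := (↥K ⧸ R.subgroupOf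 K)) W₂ (T : Subgroup (↥K ⧸ R.subgroupOf K)) : Subgroup (↥K ⧸ R.subgroupOf K)) : Set (↥K ⧸ R.subgroupOf K)), x = a * b)) (hZ : Cfsg.omegaOne p ((S : Subgroup G) ⊓ Subgroup.centralizer (((S : Subgroup G) : Subgroup G) : Set G)) ≤ Cfsg.inducedFunctor (G := G) W₁ (S : Subgroup G) ⊓ Cfsg.inducedFunctor (G := G) W₂ (S : Subgroup G)) (N₁ : Subgroup G) (hN₁ : N₁ = Subgroup.normalizer ((Cfsg.inducedFunctor (G := G) W₁ (S : Subgroup G) : Subgroup G) : Set G)) (A : Subgroup G) (hA : A = (Subgroup.normalClosure (((Cfsg.omegaOne p ((S : Subgroup G) ⊓ Subgroup.centralizer (((S : Subgroup G) : Subgroup G) : Set G))).subgroupOf N₁ : Subgroup ↥N₁) : Set ↥N₁)).map N₁.subtype) : A ≤ (S : Subgroup G) ∧ Cfsg.IsElementaryAbelian p A ∧ Cfsg.IsStronglyClosed A (S : Subgroup G) ∧ Cfsg.ControlsStrongFusion p A := by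
  subst hN₁
  have hSN₁ : (S : Subgroup G) ≤ Subgroup.normalizer
      ((Cfsg.inducedFunctor (G := G) W₁ (S : Subgroup G) : Subgroup G) : Set G) :=
    fun s hs => Lib.helper39.cfun_normalizer_le (Lib.helper39.isConjugacyFunctor_ind hW₁ G) S.2
      (Subgroup.le_normalizer hs)
  have hZN : Lib.helper39.zOm p (S : Subgroup G) ≤ Subgroup.normalizer
      ((Cfsg.inducedFunctor (G := G) W₁ (S : Subgroup G) : Subgroup G) : Set G) :=
    ((Lib.helper39.zOm_le p _).trans inf_le_left).trans hSN₁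
  have hAeq : A = Lib.helper39.nclS (Subgroup.normalizer
      ((Cfsg.inducedFunctor (G := G) W₁ (S : Subgroup G) : Subgroup G) : Set G))
      (Lib.helper39.zOm p (S : Subgroup G)) := by
    rw [hA]
    exact Lib.helper39.map_normalClosure_subgroupOf hZN
  rw [hAeq]
  have hpair := Cfsg.Agent.S1996.result W₁ W₂ hW₁ hW₂ (fun K R hR hc T => (hfac K R hc T).2.2)
  have h1 : ∀ (X : Type u) [Group X] [Finite X], Lib.helper39.Sec G X →
      Subgroup.centralizer ((pCore p X : Subgroup X) : Set X) ≤ pCore p X →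
      ∀ T : Sylow p X, ∀ x : X,
        ∃ a ∈ Subgroup.centralizer ((Lib.helper39.zOm p (T : Subgroup X) : Subgroup X) : Set X),
        ∃ b ∈ Subgroup.normalizer ((inducedFunctor W₁ (T : Subgroup X) : Subgroup X) : Set X),
          x = a * b := by
    intro X _ _ hX hcon T x
    obtain ⟨K, R, hR, ⟨e⟩⟩ := hX.exists_equiv
    obtain ⟨T₀, hT₀⟩ := Lib.helper39.exists_sylow_map_equiv' e T
    have h : ∀ x : ↥K ⧸ R.subgroupOf K, ∃ a ∈ Subgroup.centralizer
        ((Lib.helper39.zOm p (T₀ : Subgroup (↥K ⧸ R.subgroupOf K)) :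
          Subgroup (↥K ⧸ R.subgroupOf K)) : Set (↥K ⧸ R.subgroupOf K)),
        ∃ b ∈ Subgroup.normalizer ((inducedFunctor W₁ (T₀ : Subgroup (↥K ⧸ R.subgroupOf K)) :
          Subgroup (↥K ⧸ R.subgroupOf K)) : Set (↥K ⧸ R.subgroupOf K)), x = a * b :=
      (hfac K R (Lib.helper39.constrained_of_equiv e hcon) T₀).1
    have h' := Lib.helper39.cn_fac_equiv hW₁ e (T₀ : Subgroup (↥K ⧸ R.subgroupOf K)) T₀.2 h x
    rw [hT₀] at h'
    exact h'
  have h2 : ∀ (X : Type u) [Group X] [Finite X], Lib.helper39.Sec G X →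
      Subgroup.centralizer ((pCore p X : Subgroup X) : Set X) ≤ pCore p X →
      ∀ T : Sylow p X, ∀ x : X,
        ∃ a ∈ Subgroup.centralizer ((Lib.helper39.zOm p (T : Subgroup X) : Subgroup X) : Set X),
        ∃ b ∈ Subgroup.normalizer ((inducedFunctor W₂ (T : Subgroup X) : Subgroup X) : Set X),
          x = a * b := by
    intro X _ _ hX hcon T x
    obtain ⟨K, R, hR, ⟨e⟩⟩ := hX.exists_equiv
    obtain ⟨T₀, hT₀⟩ := Lib.helper39.exists_sylow_map_equiv' e T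
    have h : ∀ x : ↥K ⧸ R.subgroupOf K, ∃ a ∈ Subgroup.centralizer
        ((Lib.helper39.zOm p (T₀ : Subgroup (↥K ⧸ R.subgroupOf K)) :
          Subgroup (↥K ⧸ R.subgroupOf K)) : Set (↥K ⧸ R.subgroupOf K)),
        ∃ b ∈ Subgroup.normalizer ((inducedFunctor W₂ (T₀ : Subgroup (↥K ⧸ R.subgroupOf K)) :
          Subgroup (↥K ⧸ R.subgroupOf K)) : Set (↥K ⧸ R.subgroupOf K)), x = a * b :=
      (hfac K R (Lib.helper39.constrained_of_equiv e hcon) T₀).2.1
    have h' := Lib.helper39.cn_fac_equiv hW₂ e (T₀ : Subgroup (↥K ⧸ R.subgroupOf K)) T₀.2 h x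
    rw [hT₀] at h'
    exact h'
  exact Lib.helper39.strongly_closed_of_triple S hW₁ hW₂ (fun X _ => Lib.helper39.Sec G X)
    (fun X _ H hX => hX.sub H) (fun X _ N _ hX => hX.quot N) (Lib.helper39.Sec.refl G) h1 h2
    hpair hZ

end Cfsg.Agent.S1997
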