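import Cfsg.Statements.S2001
import Cfsg.Agent.Lib.helper39.PairTransfer

set_option autoImplicit false
open Cfsg

namespace Cfsg.Agent.S2001

/-- Let p be a prime dividing the order of the finite group G, P a Sylow p-subgroup, W a conjugacy functor for p on G with Z(H) ≤ W(H) for every nontrivial p-subgroup H, and V a central functor: a conjugacy functor with V(H) ≤ Z(H), and V(H) ≤ V(K) whenever Z(H) ≤ Z(K), for nontrivial p-subgroups H, K. Say that W with V controls transfer in a subgroup L when some Sylow p-subgroup Q of L satisfies Q ∩ L' = (Q ∩ (N_L(W(Q)))')·(Q ∩ (C_L(V(Q)))') as a product of two subgroups. If W with V controls transfer in N_G(H) for every subgroup H with Z(P) ≤ H ≤ P, then W with V controls transfer in G. -/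
theorem result {G : Type*} [Group G] [Finite G] {p : ℕ} [Fact p.Prime] (hdiv : p ∣ Nat.card G) (P : Sylow p G) (W V : Subgroup G → Subgroup G) (hW : Cfsg.IsConjugacyFunctor p W) (hV : Cfsg.IsConjugacyFunctor p V) (hWZ : ∀ H : Subgroup G, IsPGroup p ↥H → H ⊓ Subgroup.centralizer ((H : Subgroup G) : Set G) ≤ W H) (hVZ : ∀ H : Subgroup G, IsPGroup p ↥H → V H ≤ H ⊓ Subgroup.centralizer ((H : Subgroup G) : Set G)) (hVmono : ∀ H K : Subgroup G, IsPGroup p ↥H → IsPGroup p ↥K → H ≠ ⊥ → K ≠ ⊥ → H ⊓ Subgroup.centralizer ((H : Subgroup G) : Set G) ≤ K ⊓ Subgroup.centralizer ((K : Subgroup G) : Set G) → V H ≤ V K) (hloc : ∀ H : Subgroup G, (P : Subgroup G) ⊓ Subgroup.centralizer (((P : Subgroup G) : Subgroup G) : Set G) ≤ H → H ≤ (P : Subgroup G) → ∃ Q : Subgroup G, Q ≤ Subgroup.normalizer ((H : Subgroup G) : Set G) ∧ IsPGroup p ↥Q ∧ ¬ p ∣ (Q).relIndex (Subgroup.normalizer ((H : Subgroup G) : Set G)) ∧ ∀ x : G, x ∈ Q ⊓ ⁅Subgroup.normalizer ((H : Subgroup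 G) : Set G), Subgroup.normalizer ((H : Subgroup G) : Set G)⁆ ↔ ∃ a ∈ Q ⊓ ⁅Subgroup.normalizer ((H : Subgroup G) : Set G) ⊓ Subgroup.normalizer ((W Q : Subgroup G) : Set G), Subgroup.normalizer ((H : Subgroup G) : Set G) ⊓ Subgroup.normalizer ((W Q : Subgroup G) : Set G)⁆, ∃ b ∈ Q ⊓ ⁅Subgroup.normalizer ((H : Subgroup G) : Set G) ⊓ Subgroup.centralizer ((V Q : Subgroup G) : Set G), Subgroup.normalizer ((H : Subgroup G) : Set G) ⊓ Subgroup.centralizer ((V Q : Subgroup G) : Set G)⁆, x = a * b) : ∃ Q : Subgroup G, IsPGroup p ↥Q ∧ ¬ p ∣ Q.index ∧ ∀ x : G, x ∈ Q ⊓ commutator G ↔ ∃ a ∈ Q ⊓ ⁅Subgroup.normalizer ((W Q : Subgroup G) : Set G), Subgroup.normalizer ((W Q : Subgroup G) : Set G)⁆, ∃ b ∈ Q ⊓ ⁅Subgroup.centralizer ((V Q : Subgroup G) : Set G), Subgroup.centralizer ((V Q : Subgroup G) : Set G)⁆, x = a * b := by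
  have hPp : IsPGroup p (P : Subgroup G) := P.2
  have key := Lib.helper39.pair_transfer_global P (P.ne_bot_of_dvd_card hdiv) hW hV hWZ hVmono (by
    intro H hZH hHP
    obtain ⟨Q, hQN, hQp, hQidx, hprop⟩ := hloc H hZH hHP
    refine ⟨Q, ⟨hQN, hQp, hQidx⟩, ?_⟩
    intro x hx
    obtain ⟨a, ha, b, hb, rfl⟩ := (hprop x).mp hx
    exact Subgroup.mul_mem_sup ha hb)
  refine ⟨(P : Subgroup G), hPp, P.not_dvd_index, ?_⟩
  have hPN : (P : Subgroup G) ≤ Subgroup.normalizer
      ((Subgroup.centralizer ((V (P : Subgroup G) : Subgroup G) : Set G) : Subgroup G) : Set G) :=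
    (Subgroup.le_normalizer.trans (Lib.helper39.cfun_normalizer_le hV hPp)).trans
      (Lib.helper39.normalizer_le_normalizer_centralizer _)
  have hnorm : (P : Subgroup G) ⊓ ⁅Subgroup.normalizer ((W (P : Subgroup G) : Subgroup G) : Set G),
      Subgroup.normalizer ((W (P : Subgroup G) : Subgroup G) : Set G)⁆ ≤
      Subgroup.normalizer ((((P : Subgroup G) ⊓
        ⁅Subgroup.centralizer ((V (P : Subgroup G) : Subgroup G) : Set G),
          Subgroup.centralizer ((V (P : Subgroup G) : Subgroup G) : Set G)⁆ : Subgroup G)) :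
            Set G) := by
    apply Lib.helper39.le_normalizer_of_forall_cj_le
    intro g hg
    have hgP : g ∈ (P : Subgroup G) := hg.1
    rw [Lib.helper39.cj_inf, Lib.helper39.cj_commutator, Lib.helper39.cj_eq_self_of_mem hgP,
      Lib.helper39.cj_eq_self_iff.mpr (hPN hgP)]
  intro x
  constructor
  · intro hx
    have hx' : x ∈ (P : Subgroup G) ⊓ ⁅(⊤ : Subgroup G), ⊤⁆ := hx
    have h1 := key hx'
    have e1 : Lib.helper39.ctTerm W ⊤ (P : Subgroup G) = (P : Subgroup G) ⊓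
        ⁅Subgroup.normalizer ((W (P : Subgroup G) : Subgroup G) : Set G),
          Subgroup.normalizer ((W (P : Subgroup G) : Subgroup G) : Set G)⁆ := by
      unfold Lib.helper39.ctTerm
      rw [top_inf_eq]
    have e2 : Lib.helper39.vTerm V ⊤ (P : Subgroup G) = (P : Subgroup G) ⊓
        ⁅Subgroup.centralizer ((V (P : Subgroup G) : Subgroup G) : Set G),
          Subgroup.centralizer ((V (P : Subgroup G) : Subgroup G) : Set G)⁆ := by
      unfold Lib.helper39.vTerm
      rw [top_inf_eq]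
    rw [e1, e2, ← SetLike.mem_coe, Subgroup.coe_mul_of_left_le_normalizer_right _ _ hnorm] at h1
    obtain ⟨a, ha, b, hb, hab⟩ := Set.mem_mul.mp h1
    exact ⟨a, ha, b, hb, hab.symm⟩
  · rintro ⟨a, ha, b, hb, rfl⟩
    refine ⟨(P : Subgroup G).mul_mem ha.1 hb.1, ?_⟩
    show a * b ∈ ⁅(⊤ : Subgroup G), (⊤ : Subgroup G)⁆
    exact Subgroup.mul_mem _ (Subgroup.commutator_mono le_top le_top ha.2)
      (Subgroup.commutator_mono le_top le_top hb.2)

end Cfsg.Agent.S2001
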