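import Cfsg.Statements.S2002
import Cfsg.Agent.Lib.helper39.PairFusion

set_option autoImplicit false
open Cfsg

namespace Cfsg.Agent.S2002

open Lib.helper39 in
theorem pfcsf_of_list {G : Type*} [Group G] {W V : Subgroup G → Subgroup G} {L Q : Subgroup G}
    (h : ∀ (X : Set G) (a : G), X ⊆ Q → a ∈ L → (fun x => a⁻¹ * x * a) '' X ⊆ Q →
      ∃ c ∈ L ⊓ Subgroup.centralizer X, ∃ (n : ℕ) (b : Fin n → G),
        (∀ i, b i ∈ L ⊓ Subgroup.normalizer ((W Q : Subgroup G) : Set G) ∨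
          b i ∈ L ⊓ Subgroup.centralizer ((V Q : Subgroup G) : Set G)) ∧
        a = c * (List.ofFn b).prod ∧
        ∀ k : ℕ, k ≤ n → (fun x => (((List.ofFn b).take k).prod)⁻¹ * x *
          ((List.ofFn b).take k).prod) '' ((fun x => c⁻¹ * x * c) '' X) ⊆ Q) :
    PFCSF W V L Q := by
  intro B a ha hB haB
  obtain ⟨c, hc, n, b, hb, hprod, hpart⟩ := h (B : Set G) a⁻¹ hB (inv_mem ha) (by
    rintro _ ⟨x, hx, rfl⟩
    show a⁻¹⁻¹ * x * a⁻¹ ∈ Q
    rw [inv_inv]
    exact haB (conj_mem_cj.mpr hx))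
  have hcC : ∀ x ∈ B, c⁻¹ * x * c = x := by
    intro x hx
    have h1 := (Subgroup.mem_centralizer_iff.mp hc.2) x hx
    rw [mul_assoc, h1, ← mul_assoc, inv_mul_cancel, one_mul]
  have hcj : ∀ k ≤ n, cj (((List.ofFn b).take k).prod)⁻¹ B ≤ Q := by
    intro k hk z hz
    rw [mem_cj, inv_inv] at hz
    apply hpart k hk
    refine ⟨((List.ofFn b).take k).prod * z * (((List.ofFn b).take k).prod)⁻¹,
      ⟨((List.ofFn b).take k).prod * z * (((List.ofFn b).take k).prod)⁻¹, hz, hcC _ hz⟩, ?_⟩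
    show (((List.ofFn b).take k).prod)⁻¹ * (((List.ofFn b).take k).prod * z *
      (((List.ofFn b).take k).prod)⁻¹) * ((List.ofFn b).take k).prod = z
    group
  have hreach : ∀ k ≤ n, Reach (stepWV W V L Q) Q B (((List.ofFn b).take k).prod)⁻¹ := by
    intro k
    induction k with
    | zero =>
      intro _
      simp only [List.take_zero, List.prod_nil, inv_one]
      exact Reach.one hB
    | succ k ih =>
      intro hk
      have hlt : k < (List.ofFn b).length := by rw [List.length_ofFn]; omega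
      have e : ((List.ofFn b).take (k + 1)).prod =
          ((List.ofFn b).take k).prod * b ⟨k, by omega⟩ := by
        rw [List.prod_take_succ _ _ hlt, List.getElem_ofFn]
      have hstep : Reach (stepWV W V L Q) Q B
          ((b ⟨k, by omega⟩)⁻¹ * (((List.ofFn b).take k).prod)⁻¹) := by
        refine Reach.step _ (b ⟨k, by omega⟩)⁻¹ (ih (by omega)) (stepWV_inv (hb _)) ?_
        rw [← mul_inv_rev, ← e]
        exact hcj (k + 1) hk
      rw [e, mul_inv_rev]
      exact hstep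
  refine ⟨((List.ofFn b).prod)⁻¹, ?_, ?_⟩
  · have h1 := hreach n le_rfl
    rwa [List.take_of_length_le (by rw [List.length_ofFn])] at h1
  · intro x hx
    have ha' : a = ((List.ofFn b).prod)⁻¹ * c⁻¹ := by
      rw [← mul_inv_rev, ← hprod, inv_inv]
    have h1 := hcC x hx
    calc ((List.ofFn b).prod)⁻¹ * x * (((List.ofFn b).prod)⁻¹)⁻¹
        = ((List.ofFn b).prod)⁻¹ * (c⁻¹ * x * c) * (List.ofFn b).prod := by rw [h1, inv_inv]
      _ = (((List.ofFn b).prod)⁻¹ * c⁻¹) * x * (((List.ofFn b).prod)⁻¹ * c⁻¹)⁻¹ := by group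
      _ = a * x * a⁻¹ := by rw [← ha']

open Lib.helper39 in
theorem reach_list {G : Type*} [Group G] {K : Set G} (hK : ∀ k ∈ K, k⁻¹ ∈ K) {T B : Subgroup G}
    {c : G} (h : Reach K T B c) :
    ∃ l : List G, (∀ y ∈ l, y ∈ K) ∧ l.prod = c⁻¹ ∧
      ∀ k : ℕ, cj ((l.take k).prod)⁻¹ B ≤ T := by
  induction h with
  | one h =>
    refine ⟨[], by simp, by simp, fun k => ?_⟩
    simp only [List.take_nil, List.prod_nil, inv_one]
    rw [cj_one]
    exact h
  | step c k hc hk hle ih =>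
    obtain ⟨l, hl, hprod, htake⟩ := ih
    refine ⟨l ++ [k⁻¹], ?_, ?_, ?_⟩
    · intro y hy
      rcases List.mem_append.mp hy with hy | hy
      · exact hl y hy
      · rw [List.mem_singleton] at hy
        rw [hy]
        exact hK k hk
    · rw [List.prod_append, List.prod_singleton, hprod, ← mul_inv_rev]
    · intro j
      by_cases hj : j ≤ l.length
      · rw [List.take_append_of_le_length hj]
        exact htake j
      · rw [List.take_of_length_le (by simp; omega), List.prod_append, List.prod_singleton,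
          hprod, ← mul_inv_rev, inv_inv]
        exact hle

open Lib.helper39 in
theorem list_of_good {G : Type*} [Group G] {W V : Subgroup G → Subgroup G} {Q : Subgroup G}
    (h : Good (Real (stepWV W V ⊤ Q) Q) ⊤ Q) :
    ∀ (X : Set G) (a : G), X ⊆ Q → (fun x => a⁻¹ * x * a) '' X ⊆ Q →
      ∃ c ∈ Subgroup.centralizer X, ∃ (n : ℕ) (b : Fin n → G),
        (∀ i, b i ∈ ⊤ ⊓ Subgroup.normalizer ((W Q : Subgroup G) : Set G) ∨
          b i ∈ ⊤ ⊓ Subgroup.centralizer ((V Q : Subgroup G) : Set G)) ∧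
        a = c * (List.ofFn b).prod ∧
        ∀ k : ℕ, k ≤ n → (fun x => (((List.ofFn b).take k).prod)⁻¹ * x *
          ((List.ofFn b).take k).prod) '' ((fun x => c⁻¹ * x * c) '' X) ⊆ Q := by
  intro X a hX haX
  have hB : Subgroup.closure X ≤ Q := (Subgroup.closure_le _).mpr hX
  have haB : cj a⁻¹ (Subgroup.closure X) ≤ Q := by
    show (Subgroup.closure _).map _ ≤ _
    rw [MonoidHom.map_closure, Subgroup.closure_le]
    rintro _ ⟨x, hx, rfl⟩
    have h1 := haX ⟨x, hx, rfl⟩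
    show a⁻¹ * x * a⁻¹⁻¹ ∈ Q
    rw [inv_inv]
    exact h1
  obtain ⟨c₀, hreach, hag⟩ := h a⁻¹ (Subgroup.mem_top _) _ hB haB
  obtain ⟨l, hl, hlprod, hltake⟩ := reach_list (fun k hk => stepWV_inv hk) hreach
  have hcx : ∀ x ∈ X, c₀ * x * c₀⁻¹ = a⁻¹ * x * a := by
    intro x hx
    have h1 := hag x (Subgroup.subset_closure hx)
    rwa [inv_inv] at h1
  have hc : a * c₀ ∈ Subgroup.centralizer X := by
    rw [Subgroup.mem_centralizer_iff]
    intro x hx
    have h1 := hcx x hx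
    calc x * (a * c₀) = a * (a⁻¹ * x * a) * c₀ := by group
      _ = a * (c₀ * x * c₀⁻¹) * c₀ := by rw [h1]
      _ = a * c₀ * x := by group
  refine ⟨a * c₀, hc, l.length, fun i => l.get i, ?_, ?_, ?_⟩
  · intro i
    exact hl _ (List.get_mem l i)
  · rw [List.ofFn_get, hlprod]
    group
  · intro k hk
    rw [List.ofFn_get]
    rintro _ ⟨_, ⟨x, hx, rfl⟩, rfl⟩
    have h1 : (a * c₀)⁻¹ * x * (a * c₀) = x := by
      have h2 := (Subgroup.mem_centralizer_iff.mp hc) x hx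
      rw [mul_assoc, h2, ← mul_assoc, inv_mul_cancel, one_mul]
    show ((l.take k).prod)⁻¹ * ((a * c₀)⁻¹ * x * (a * c₀)) * (l.take k).prod ∈ Q
    rw [h1]
    apply hltake k
    rw [mem_cj, inv_inv]
    have e : (l.take k).prod * ((l.take k).prod⁻¹ * x * (l.take k).prod) * (l.take k).prod⁻¹ = x := by
      group
    rw [e]
    exact Subgroup.subset_closure hx

/-- Let p be a prime dividing the order of the finite group G, P a Sylow p-subgroup, W a conjugacy functor for p on G with Z(H) ≤ W(H) for every nontrivial p-subgroup H, and V a central functor (a conjugacy functor with V(H) ≤ Z(H), and V(H) ≤ V(K) whenever Z(H) ≤ Z(K)). Say that W with V controls strong fusion in a subgroup L when some Sylow p-subgroup Q of L has the property: whenever X ⊆ Q and a ∈ L with a⁻¹Xa ⊆ Q, then a = c b with c ∈ C_L(X) and b = b₁ ⋯ bₙ a product of elements each in N_L(W(Q)) or in C_L(V(Q)) such that every partial conjugate (b₁ ⋯ bₖ)⁻¹ X (b₁ ⋯ bₖ)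 lies in Q. If W with V controls strong fusion in N_G(H) for every subgroup H with Z(P) ≤ H ≤ P, then W with V controls strong fusion in G. -/
theorem result {G : Type*} [Group G] [Finite G] {p : ℕ} [Fact p.Prime] (hdiv : p ∣ Nat.card G) (P : Sylow p G) (W V : Subgroup G → Subgroup G) (hW : Cfsg.IsConjugacyFunctor p W) (hV : Cfsg.IsConjugacyFunctor p V) (hWZ : ∀ H : Subgroup G, IsPGroup p ↥H → H ⊓ Subgroup.centralizer ((H : Subgroup G) : Set G) ≤ W H) (hVZ : ∀ H : Subgroup G, IsPGroup p ↥H → V H ≤ H ⊓ Subgroup.centralizer ((H : Subgroup G) : Set G)) (hVmono : ∀ H K : Subgroup G, IsPGroup p ↥H → IsPGroup p ↥K → H ≠ ⊥ → K ≠ ⊥ → H ⊓ Subgroup.centralizer ((H : Subgroup G) : Set G) ≤ K ⊓ Subgroup.centralizer ((K : Subgroup G) : Set G) → V H ≤ V K) (hloc : ∀ H : Subgroup G, (P : Subgroup G) ⊓ Subgroup.centralizer (((P : Subgroup G) : Subgroup G) : Set G) ≤ H → H ≤ (P : Subgroup G) → ∃ Q : Subgroup G, Q ≤ Subgroup.normalizer ((H : Subgroup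 G) : Set G) ∧ IsPGroup p ↥Q ∧ ¬ p ∣ (Q).relIndex (Subgroup.normalizer ((H : Subgroup G) : Set G)) ∧ ∀ (X : Set G) (a : G), X ⊆ Q → a ∈ Subgroup.normalizer ((H : Subgroup G) : Set G) → (fun x => a⁻¹ * x * a) '' X ⊆ Q → ∃ c ∈ Subgroup.normalizer ((H : Subgroup G) : Set G) ⊓ Subgroup.centralizer X, ∃ (n : ℕ) (b : Fin n → G), (∀ i, b i ∈ Subgroup.normalizer ((H : Subgroup G) : Set G) ⊓ Subgroup.normalizer ((W Q : Subgroup G) : Set G) ∨ b i ∈ Subgroup.normalizer ((H : Subgroup G) : Set G) ⊓ Subgroup.centralizer ((V Q : Subgroup G) : Set G)) ∧ a = c * (List.ofFn b).prod ∧ ∀ k : ℕ, k ≤ n → (fun x => (((List.ofFn b).take k).prod)⁻¹ * x * ((List.ofFn b).take k).prod) '' ((fun x => c⁻¹ * x * c) '' X) ⊆ Q) : ∃ Q : Subgroup G, IsPGroup p ↥Q ∧ ¬ p ∣ Q.index ∧ ∀ (X : Set G) (a : G), X ⊆ Q → (fun x => a⁻¹ * x * a) '' X ⊆ Q → ∃ c ∈ Subgroup.centralizer X, ∃ (n : ℕ) (b : Fin n → G), (∀ i, b i ∈ ⊤ ⊓ Subgroup.normalizer ((W Q : Subgroup G) : Set G)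 ∨ b i ∈ ⊤ ⊓ Subgroup.centralizer ((V Q : Subgroup G) : Set G)) ∧ a = c * (List.ofFn b).prod ∧ ∀ k : ℕ, k ≤ n → (fun x => (((List.ofFn b).take k).prod)⁻¹ * x * ((List.ofFn b).take k).prod) '' ((fun x => c⁻¹ * x * c) '' X) ⊆ Q := by
  refine ⟨(P : Subgroup G), P.2, P.not_dvd_index, ?_⟩
  apply list_of_good
  apply Lib.helper39.pair_fusion_global P (P.ne_bot_of_dvd_card hdiv) hW hV hWZ hVmono
  intro H hZH hHP
  obtain ⟨Q, hQN, hQp, hQidx, hprop⟩ := hloc H hZH hHP
  exact ⟨Q, ⟨hQN, hQp, hQidx⟩, pfcsf_of_list hprop⟩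

end Cfsg.Agent.S2002
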