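import Cfsg.Statements.S2003
import Cfsg.Agent.Lib.helper39.ChiefSeries

set_option autoImplicit false
open Cfsg

namespace Cfsg.Agent.S2003

/-- Let p be a prime, G a finite group, P a normal p-subgroup of G and Q a critical subgroup of P: a characteristic subgroup with Q/Z(Q) elementary abelian, [P, Q] ≤ Z(Q), C_P(Q) = Z(Q), and such that every automorphism of P of order prime to p fixing Q elementwise is trivial. Let g ∈ G and i, j ≥ 1, and suppose that [X, g, …, g] ≤ Y with i entries g for every chief factor X/Y of G with X ≤ Q, and with j entries g for every chief factor X/Y of G with X ≤ Z(Q). Then [X, g, …, g] ≤ Y with i + j − 1 entries g for every chief factor X/Y of G with X ≤ P. -/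
theorem result {G : Type*} [Group G] [Finite G] {p : ℕ} [Fact p.Prime] (P : Subgroup G) [P.Normal] (hP : IsPGroup p ↥P) (Q : Subgroup G) (hQP : Q ≤ P) (hQchar : (Q.subgroupOf P).Characteristic) (hQ1 : ∀ a ∈ Q, a ^ p ∈ Q ⊓ Subgroup.centralizer ((Q : Subgroup G) : Set G)) (hQ2 : ⁅Q, Q⁆ ≤ Subgroup.centralizer ((Q : Subgroup G) : Set G)) (hQ3 : ⁅P, Q⁆ ≤ Q ⊓ Subgroup.centralizer ((Q : Subgroup G) : Set G)) (hQ4 : P ⊓ Subgroup.centralizer ((Q : Subgroup G) : Set G) = Q ⊓ Subgroup.centralizer ((Q : Subgroup G) : Set G)) (hQ5 : ∀ φ : MulAut ↥P, (orderOf φ).Coprime p → (∀ a : ↥P, (a : G) ∈ Q → φ a = a) → φ = 1) (g : G) (i j : ℕ) (hi : 1 ≤ i) (hj : 1 ≤ j) (hQi : ∀ U V : Subgroup G, Cfsg.IsChiefFactor U V → U ≤ Q → Cfsg.iterCommutator U (Subgroup.zpowers g) i ≤ V) (hZj : ∀ U V : Subgroup G, Cfsg.IsChiefFactor U V → U ≤ Q ⊓ Subgroup.centralizer ((Q : Subgroup G) : Set G) → Cfsg.iterCommutator U (Subgroup.zpowers g) j ≤ V) : ∀ U V : Subgroup G, Cfsg.IsChiefFactor U V → U ≤ P → Cfsg.iterCommutator U (Subgroup.zpowers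 g) (i + j - 1) ≤ V := by
  classical
  obtain ⟨Γ, hΓ⟩ : ∃ Γ : Subgroup G, Γ = Subgroup.zpowers g := ⟨_, rfl⟩
  obtain ⟨n, hn⟩ : ∃ n : ℕ, n = i + j - 1 := ⟨_, rfl⟩
  obtain ⟨Zc, hZc⟩ : ∃ Zc : Subgroup G,
      Zc = Q ⊓ Subgroup.centralizer ((Q : Subgroup G) : Set G) := ⟨_, rfl⟩
  rw [← hΓ] at hQi hZj ⊢
  rw [← hZc] at hZj hQ3 hQ4
  rw [← hn]
  -- `Q` is normal in `G`
  have hQn : Q.Normal := by
    have h1 : ((Q.subgroupOf P).map P.subtype).Normal :=
      ConjAct.normal_of_characteristic_of_normal
    have h2 : (Q.subgroupOf P).map P.subtype = Q := by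
      rw [Subgroup.subgroupOf_map_subtype]; exact inf_eq_left.mpr hQP
    rwa [h2] at h1
  have hZn : Zc.Normal := by rw [hZc]; infer_instance
  have hZQ : Zc ≤ Q := by rw [hZc]; exact inf_le_left
  have hZcent : Zc ≤ Subgroup.centralizer ((Q : Subgroup G) : Set G) := by
    rw [hZc]; exact inf_le_right
  have hZP : Zc ≤ P := hZQ.trans hQP
  have hni : n = i - 1 + j := by omega
  have hjn : j ≤ n := by omega
  -- (1) the Engel condition below `Z(Q)`
  have CE1 : ∀ M : Subgroup G, M.Normal → M ≤ Zc →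
      Cfsg.Agent.Lib.helper39.ChiefEngelN Γ n M := by
    apply Cfsg.Agent.Lib.helper39.chief_induction_up
      (fun M => Cfsg.Agent.Lib.helper39.ChiefEngelN Γ n M) Zc
      (Cfsg.Agent.Lib.helper39.chiefEngelN_bot Γ n)
    intro N M hMN hMZ hN
    have hMn : M.Normal := hMN.2.1
    have hNn : N.Normal := hMN.2.2.1
    refine hN.ext ?_
    exact le_trans (Cfsg.Agent.Lib.helper39.iterCommutator_antitone
      (Subgroup.commutator_le_left M Γ) hjn) (hZj M N hMN hMZ)
  -- (2) the Engel condition on `{x ∈ P : [Q, x] ≤ N}` for normal `N ≤ Z(Q)`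
  have CE2 : ∀ N : Subgroup G, N.Normal → N ≤ Zc → ∀ hN : N.Normal,
      Cfsg.Agent.Lib.helper39.ChiefEngelN Γ n
        (P ⊓ @Cfsg.Agent.Lib.helper39.relCent G _ Q N hN) := by
    apply Cfsg.Agent.Lib.helper39.chief_induction_up
      (fun N => ∀ hN : N.Normal, Cfsg.Agent.Lib.helper39.ChiefEngelN Γ n
        (P ⊓ @Cfsg.Agent.Lib.helper39.relCent G _ Q N hN)) Zc
    · intro hN
      have hrc : @Cfsg.Agent.Lib.helper39.relCent G _ Q ⊥ hN =
          Subgroup.centralizer ((Q : Subgroup G) : Set G) := by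
        apply le_antisymm
        · rw [← Subgroup.commutator_eq_bot_iff_le_centralizer, Subgroup.commutator_comm]
          exact le_bot_iff.mp (Cfsg.Agent.Lib.helper39.le_relCent_iff.mp le_rfl)
        · rw [Cfsg.Agent.Lib.helper39.le_relCent_iff, Subgroup.commutator_comm,
            (Subgroup.commutator_eq_bot_iff_le_centralizer).mpr le_rfl]
      have h1 : P ⊓ @Cfsg.Agent.Lib.helper39.relCent G _ Q ⊥ hN = Zc := by
        rw [hrc, hQ4]
      exact (CE1 Zc hZn le_rfl).of_eq h1
    · intro N M hMN hMZ hPN hMn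
      have hNn : N.Normal := hMN.2.2.1
      have hNM : N ≤ M := hMN.1.le
      -- inner downward induction
      have inner : ∀ A : Subgroup G, A.Normal → A ≤ Q → ∀ hA : A.Normal,
          Cfsg.Agent.Lib.helper39.ChiefEngelN Γ n
            (P ⊓ Cfsg.Agent.Lib.helper39.relCent Q M ⊓
              Cfsg.Agent.Lib.helper39.relCent A N) := by
        apply Cfsg.Agent.Lib.helper39.chief_induction_down
          (fun A => ∀ hA : A.Normal, Cfsg.Agent.Lib.helper39.ChiefEngelN Γ n
            (P ⊓ Cfsg.Agent.Lib.helper39.relCent Q M ⊓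
              Cfsg.Agent.Lib.helper39.relCent A N)) Q
        · intro hA
          have h1 : P ⊓ Cfsg.Agent.Lib.helper39.relCent Q M ⊓
              Cfsg.Agent.Lib.helper39.relCent Q N = P ⊓ Cfsg.Agent.Lib.helper39.relCent Q N := by
            apply le_antisymm
            · exact le_inf (inf_le_left.trans inf_le_left) inf_le_right
            · refine le_inf (le_inf inf_le_left ?_) inf_le_right
              refine inf_le_right.trans ?_
              rw [Cfsg.Agent.Lib.helper39.le_relCent_iff]
              exact (Cfsg.Agent.Lib.helper39.le_relCent_iff.mp le_rfl).trans hNM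
          exact (hPN hNn).of_eq h1
        · intro A' A hAA' hAQ hA hA'n
          have hAn : A.Normal := hAA'.2.1
          have hDA : (P ⊓ Cfsg.Agent.Lib.helper39.relCent Q M ⊓
              Cfsg.Agent.Lib.helper39.relCent A N).Normal := inferInstance
          have hDA' : (P ⊓ Cfsg.Agent.Lib.helper39.relCent Q M ⊓
              Cfsg.Agent.Lib.helper39.relCent A' N).Normal := inferInstance
          refine (hA hAn).ext ?_
          refine le_inf (le_trans (Cfsg.Agent.Lib.helper39.iterCommutator_normal_le _ Γ n)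
            inf_le_left) ?_
          rw [Cfsg.Agent.Lib.helper39.le_relCent_iff, Subgroup.commutator_comm, hni]
          have hXQ : ⁅Q, P ⊓ Cfsg.Agent.Lib.helper39.relCent Q M ⊓
              Cfsg.Agent.Lib.helper39.relCent A' N⁆ ≤ M :=
            Cfsg.Agent.Lib.helper39.le_relCent_iff.mp (inf_le_left.trans inf_le_right)
          have hXA' : ⁅A', P ⊓ Cfsg.Agent.Lib.helper39.relCent Q M ⊓
              Cfsg.Agent.Lib.helper39.relCent A' N⁆ ≤ N :=
            Cfsg.Agent.Lib.helper39.le_relCent_iff.mp inf_le_right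
          apply Cfsg.Agent.Lib.helper39.engel_hom_rel Γ _ A A' M N hNM
            (Subgroup.commutator_le_left _ Γ) (Subgroup.commutator_le_left A Γ)
            (Subgroup.commutator_le_left M Γ)
          · rw [Subgroup.commutator_comm]
            exact (Subgroup.commutator_mono hAQ le_rfl).trans hXQ
          · exact (Subgroup.commutator_mono le_rfl (inf_le_left.trans inf_le_left)).trans
              (Cfsg.Agent.Lib.helper39.commutator_le_of_chief_pgroup P hP hMN (hMZ.trans hZP))
          · have h1 : ⁅M, A⁆ ≤ ⁅Subgroup.centralizer ((Q : Subgroup G) : Set G), Q⁆ :=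
              Subgroup.commutator_mono (hMZ.trans hZcent) hAQ
            rw [(Subgroup.commutator_eq_bot_iff_le_centralizer).mpr le_rfl] at h1
            exact h1.trans bot_le
          · rw [Subgroup.commutator_comm]; exact hXA'
          · have e : i - 1 + 1 = i := by omega
            rw [e]; exact hQi A A' hAA' hAQ
          · exact hZj M N hMN hMZ
      have h0 := inner ⊥ inferInstance bot_le inferInstance
      refine h0.of_eq ?_
      apply le_antisymm
      · refine le_inf le_rfl ?_
        rw [Cfsg.Agent.Lib.helper39.le_relCent_iff, Subgroup.commutator_bot_left]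
        exact bot_le
      · exact inf_le_left
  -- (3) conclusion
  have CE3 := CE2 Zc hZn le_rfl hZn
  intro U V hUV hUP
  have h1 := CE3 U V hUV
  have h2 : U ⊓ (P ⊓ Cfsg.Agent.Lib.helper39.relCent Q Zc) = U := by
    apply inf_eq_left.mpr
    refine le_trans hUP (le_inf le_rfl ?_)
    rw [Cfsg.Agent.Lib.helper39.le_relCent_iff, Subgroup.commutator_comm]
    exact hQ3
  rw [h2] at h1
  exact h1

end Cfsg.Agent.S2003
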