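import Cfsg.Statements.S2006
-- import your own Cfsg.Agent.* helpers here
import Cfsg.Agent.Lib.helper40.ThompsonW
import Cfsg.Agent.Lib.helper40.Engel

set_option autoImplicit false
universe u
open Cfsg

namespace Cfsg.Agent.S2006

/-- Let p be a prime, G a finite group with Sylow p-subgroup S, and W an isomorphism-invariant p-group functor (W assigns to every group Q a subgroup W(Q), nontrivial whenever Q is a nontrivial finite p-group, and every isomorphism from a finite p-group Q onto a group R carries W(Q) onto W(R)). Suppose N_G(W(S)) has a normal p-complement, and that whenever G* = K/R is a section of G with C_{G*}(O_p(G*)) ≤ O_p(G*) and S* is a Sylow p-subgroup of G* with W(S*) not normal in G*, there are an element g of S* outside O_p(G*) and a chief factor X/Y of G* with X ≤ O_p(G*) such that [X, g, …, g] ≤ Y with p − 1 entries g but [X, g] ≰ Y. Then G has a normal p-complement. -/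
theorem result {G : Type u} [Group G] [Finite G] {p : ℕ} [Fact p.Prime] (W : ∀ (Q : Type u) [Group Q], Subgroup Q) (hW : Cfsg.IsCharPFunctor.{u} p W) (S : Sylow p G) (hN : Cfsg.HasNormalPComplement p ↥(Subgroup.normalizer ((Cfsg.inducedFunctor (G := G) W (S : Subgroup G) : Subgroup G) : Set G))) (hloc : ∀ (K R : Subgroup G) [hR : (R.subgroupOf K).Normal], Subgroup.centralizer ((Cfsg.pCore p (↥K ⧸ R.subgroupOf K) : Subgroup (↥K ⧸ R.subgroupOf K)) : Set (↥K ⧸ R.subgroupOf K)) ≤ Cfsg.pCore p (↥K ⧸ R.subgroupOf K) → ∀ T : Sylow p (↥K ⧸ R.subgroupOf K), ¬ (Cfsg.inducedFunctor (G := (↥K ⧸ R.subgroupOf K)) W ((T : Subgroup (↥K ⧸ R.subgroupOf K)))).Normal → ∃ g : (↥K ⧸ R.subgroupOf K), g ∈ (T : Subgroup (↥K ⧸ R.subgroupOf K)) ∧ g ∉ Cfsg.pCore p (↥K ⧸ R.subgroupOf K) ∧ ∃ U V : Subgroup (↥K ⧸ R.subgroupOf K), Cfsg.IsChiefFactor U V ∧ U ≤ Cfsg.pCore p (↥K ⧸ R.subgroupOf K) ∧ Cfsg.iterCommutator U (Subgroup.zpowers g) (p - 1) ≤ V ∧ ¬ ⁅U, Subgroup.zpowers g⁆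 ≤ V) : Cfsg.HasNormalPComplement p G := by
  have ax := Lib.helper40.redAx_hypW hW (fun X _ => Lib.helper39.Sec G X)
    (fun X _ H hX => hX.sub H) (fun X _ N _ hX => hX.quot N)
  refine Lib.helper40.thompson_reduction ax ?_ G (Lib.helper39.Sec.refl G)
    (Lib.helper40.hypW_of_sylow hW S hN)
  intro X _ _ hX hP _ hcent hquot hco
  obtain ⟨K, R, hR, ⟨e⟩⟩ := hX.exists_equiv
  obtain ⟨T⟩ : Nonempty (Sylow p X) := inferInstance
  obtain ⟨T₀, hT₀⟩ := Lib.helper40.exists_sylow_map_equiv e T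
  apply Lib.helper40.hasNPC_of_hypW_normal hP T
  have h2 : (inducedFunctor W (T₀ : Subgroup (↥K ⧸ R.subgroupOf K))).map e.toMonoidHom =
      inducedFunctor W (T : Subgroup X) := by
    rw [← hT₀]
    exact Lib.helper39.ind_map hW _ _ T₀.isPGroup' e.injective.injOn
  rw [← h2]
  by_contra hnn
  have hn₀ : ¬ (inducedFunctor W (T₀ : Subgroup (↥K ⧸ R.subgroupOf K))).Normal :=
    fun h => hnn (h.map e.toMonoidHom e.surjective)
  obtain ⟨g, hgT, hgH, U, V, hUV, hU, hit, hnot⟩ :=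
    hloc K R (Lib.helper39.constrained_of_equiv e hcent) T₀ hn₀
  exact hnot (Lib.helper40.engel_endgame (Lib.helper40.hasNPC_quot_pCore_of_equiv e hquot) T₀
    (Lib.helper40.isCoatom_of_map_equiv e (hT₀ ▸ hco T)) g hgT hgH U V hUV hU hit)

end Cfsg.Agent.S2006
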