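import Cfsg.Statements.S2007
-- import your own Cfsg.Agent.* helpers here

import Cfsg.Agent.Lib.helper40.PComp

set_option autoImplicit false
open Cfsg

namespace Cfsg.Agent.S2007

open Subgroup Cfsg.Agent.Lib.helper40
open scoped Pointwise

/-- Let p be a prime, G a finite group with Sylow p-subgroup S, and T a normal subgroup of S containing C_S(T). If N_G(T)/C_G(T) is a p-group (every element of N_G(T) of order prime to p centralizes T), then N_G(T) has a normal p-complement. -/
theorem result {G : Type*} [Group G] [Finite G] {p : ℕ} [Fact p.Prime] (S : Sylow p G) (T : Subgroup G) (hTS : T ≤ (S : Subgroup G)) (hTn : (S : Subgroup G) ≤ Subgroup.normalizer ((T : Subgroup G) : Set G)) (hC : (S : Subgroup G) ⊓ Subgroup.centralizer ((T : Subgroup G) : Set G) ≤ T) (hN : ∀ g ∈ Subgroup.normalizer ((T : Subgroup G) : Set G), (orderOf g).Coprime p → g ∈ Subgroup.centralizer ((T : Subgroup G) : Set G)) : Cfsg.HasNormalPComplement p ↥(Subgroup.normalizer ((T : Subgroup G) : Set G)) := by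
  have hCN : Subgroup.centralizer ((T : Subgroup G) : Set G) ≤ Subgroup.normalizer ((T : Subgroup G) : Set G) :=
    Subgroup.centralizer_le_normalizer _
  -- Step 1: every `p`-element of `C_G(T)` lies in `T`.
  have step1 : ∀ c ∈ Subgroup.centralizer ((T : Subgroup G) : Set G), (∃ k : ℕ, c ^ p ^ k = 1) → c ∈ T := by
    rintro c hc ⟨k, hk⟩
    let c' : Subgroup.normalizer ((T : Subgroup G) : Set G) := ⟨c, hCN hc⟩
    have hpg : IsPGroup p (Subgroup.zpowers c') := by
      rintro ⟨x, hx⟩
      obtain ⟨i, rfl⟩ := Subgroup.mem_zpowers_iff.mp hx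
      refine ⟨k, ?_⟩
      apply Subtype.ext
      apply Subtype.ext
      show ((c' ^ i) ^ p ^ k : Subgroup.normalizer ((T : Subgroup G) : Set G)).1 = 1
      have : (c' ^ i) ^ p ^ k = (c' ^ p ^ k) ^ i := by
        rw [← zpow_natCast, ← zpow_natCast, ← zpow_mul, ← zpow_mul, mul_comm]
      rw [this]
      have h1 : c' ^ p ^ k = 1 := Subtype.ext (by simpa [c'] using hk)
      rw [h1]; simp
    obtain ⟨Q', hQ'⟩ := hpg.exists_le_sylow
    obtain ⟨n, hn⟩ := MulAction.exists_smul_eq (Subgroup.normalizer ((T : Subgroup G) : Set G)) (S.subtype hTn) Q'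
    have h1 : c' ∈ (n • (S.subtype hTn) : Sylow p (Subgroup.normalizer ((T : Subgroup G) : Set G))) := by
      rw [hn]; exact hQ' (Subgroup.mem_zpowers c')
    have h2 : n⁻¹ * c' * n ∈ (S.subtype hTn : Subgroup (Subgroup.normalizer ((T : Subgroup G) : Set G))) := by
      have h3 : c' ∈ MulAut.conj n • (S.subtype hTn : Subgroup (Subgroup.normalizer ((T : Subgroup G) : Set G))) := h1
      rw [Subgroup.mem_pointwise_smul_iff_inv_smul_mem] at h3
      simpa [MulAut.smul_def] using h3
    have h3 : (n : G)⁻¹ * c * n ∈ (S : Subgroup G) := by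
      have := h2
      rw [Sylow.coe_subtype, Subgroup.mem_subgroupOf] at this
      simpa [c'] using this
    have h4 : (n : G)⁻¹ * c * n ∈ Subgroup.centralizer ((T : Subgroup G) : Set G) := by
      rw [Subgroup.mem_centralizer_iff]
      intro t ht
      have ht' : (n : G) * t * (n : G)⁻¹ ∈ T := (Subgroup.mem_normalizer_iff.mp n.2 t).mp ht
      have hcomm := (Subgroup.mem_centralizer_iff.mp hc) _ ht'
      calc t * ((n : G)⁻¹ * c * n) = (n : G)⁻¹ * ((n : G) * t * (n : G)⁻¹ * c) * n := by group
        _ = (n : G)⁻¹ * (c * ((n : G) * t * (n : G)⁻¹)) * n := by rw [hcomm]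
        _ = (n : G)⁻¹ * c * n * t := by group
    have h5 : (n : G)⁻¹ * c * n ∈ T := hC ⟨h3, h4⟩
    have h6 := (Subgroup.mem_normalizer_iff.mp n.2 ((n : G)⁻¹ * c * n)).mp h5
    have h7 : (n : G) * ((n : G)⁻¹ * c * n) * (n : G)⁻¹ = c := by group
    rwa [h7] at h6
  -- Step 2: Burnside's theorem in `C_G(T)`.
  obtain ⟨Q⟩ : Nonempty (Sylow p (Subgroup.centralizer ((T : Subgroup G) : Set G))) := inferInstance
  have hQ : (Q : Subgroup (Subgroup.centralizer ((T : Subgroup G) : Set G))) ≤ Subgroup.center _ := by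
    intro q hq
    rw [Subgroup.mem_center_iff]
    intro g
    obtain ⟨k, hk⟩ := Q.2 ⟨q, hq⟩
    have hqT : (q : G) ∈ T := by
      apply step1 _ q.2
      refine ⟨k, ?_⟩
      have := congrArg Subtype.val (congrArg Subtype.val hk)
      simpa using this
    apply Subtype.ext
    exact (Subgroup.mem_centralizer_iff.mp g.2) _ hqT |>.symm
  obtain ⟨K₀, _, hK₀, -⟩ := central_sylow_pprime_subgroup Q hQ
  -- Step 3: the `p'`-elements of `N_G(T)` form a normal subgroup.
  let K : Subgroup (Subgroup.normalizer ((T : Subgroup G) : Set G)) :=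
    (K₀.map (Subgroup.centralizer ((T : Subgroup G) : Set G)).subtype).subgroupOf _
  have hK : ∀ n : Subgroup.normalizer ((T : Subgroup G) : Set G), n ∈ K ↔ (orderOf n).Coprime p := by
    intro n
    constructor
    · intro hn
      rw [Subgroup.mem_subgroupOf, Subgroup.mem_map] at hn
      obtain ⟨c, hc, hcn⟩ := hn
      have h1 := (hK₀ c).mp hc
      rw [← Subgroup.orderOf_coe] at h1
      rw [← Subgroup.orderOf_coe, ← hcn]
      exact h1
    · intro hn
      rw [← Subgroup.orderOf_coe] at hn
      have hnC := hN n n.2 hn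
      rw [Subgroup.mem_subgroupOf, Subgroup.mem_map]
      refine ⟨⟨n, hnC⟩, (hK₀ _).mpr ?_, rfl⟩
      rw [← Subgroup.orderOf_coe]
      exact hn
  have hKn : K.Normal := by
    refine ⟨fun n hn g => ?_⟩
    rw [hK] at hn ⊢
    have : orderOf (g * n * g⁻¹) = orderOf n := (MulAut.conj g).orderOf_eq n
    rwa [this]
  exact hasNormalPComplement_of_pprime_elements K hK

end Cfsg.Agent.S2007
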