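import Cfsg.Statements.S2009
-- import your own Cfsg.Agent.* helpers here

set_option autoImplicit false
open Cfsg

namespace Cfsg.Agent.S2009

/-- A proper normal subgroup is inverted by every non-identity element of `E`. -/
theorem inverts {H : Type*} [Group H] [Finite H] (z : H)
    (hN : ∀ N : Subgroup H, N.Normal → N ≠ ⊤ → N ⊓ Subgroup.centralizer ({z} : Set H) = ⊥)
    (N : Subgroup H) (hNn : N.Normal) (hNt : N ≠ ⊤) (e : H) (he2 : e * e = 1) (hc : IsConj z e) :
    (∀ n ∈ N, e * n * e⁻¹ = n⁻¹) ∧ ∀ n ∈ N, n * n = 1 → n = 1 := by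
  obtain ⟨c, hcz⟩ := hc
  have hcz' : (c : H) * z = e * c := hcz
  -- fixed-point-freeness
  have hfix : ∀ n ∈ N, e * n * e⁻¹ = n → n = 1 := by
    intro n hn hfix
    have h1 : (c : H)⁻¹ * n * c ∈ N ⊓ Subgroup.centralizer ({z} : Set H) := by
      refine ⟨?_, Subgroup.mem_centralizer_iff.mpr ?_⟩
      · have := hNn.conj_mem n hn (c : H)⁻¹
        simpa using this
      · intro y hy
        rw [Set.mem_singleton_iff] at hy
        subst hy
        have e_eq : e = c * y * (c : H)⁻¹ := by
          rw [hcz']; group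
        have hfix' : e * n = n * e := by
          calc e * n = e * n * e⁻¹ * e := by group
            _ = n * e := by rw [hfix]
        rw [e_eq] at hfix'
        have : (c : H)⁻¹ * (c * y * (c : H)⁻¹ * n) * c = (c : H)⁻¹ * (n * (c * y * (c : H)⁻¹)) * c := by
          rw [hfix']
        calc y * ((c : H)⁻¹ * n * c) = (c : H)⁻¹ * (c * y * (c : H)⁻¹ * n) * c := by group
          _ = (c : H)⁻¹ * (n * (c * y * (c : H)⁻¹)) * c := this
          _ = (c : H)⁻¹ * n * c * y := by group
    rw [hN N hNn hNt, Subgroup.mem_bot] at h1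
    have : n = c * ((c : H)⁻¹ * n * c) * (c : H)⁻¹ := by group
    rw [this, h1]; group
  have einv : e⁻¹ = e := by
    rw [inv_eq_iff_mul_eq_one]; exact he2
  -- the automorphism of N induced by e
  let φ : N →* N :=
    { toFun := fun n => ⟨e * n * e⁻¹, hNn.conj_mem n n.2 e⟩
      map_one' := by ext; simp
      map_mul' := by intro a b; ext; simp }
  have hφ : MonoidHom.FixedPointFree φ := by
    intro n hn
    have : e * (n : H) * e⁻¹ = n := congrArg Subtype.val hn
    exact Subtype.ext (hfix n n.2 this)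
  have hinv : Function.Involutive φ := by
    intro n
    apply Subtype.ext
    show e * (e * (n : H) * e⁻¹) * e⁻¹ = n
    rw [einv]
    calc e * (e * (n : H) * e) * e = (e * e) * n * (e * e) := by group
      _ = n := by rw [he2]; simp
  have key := hφ.coe_eq_inv_of_involutive hinv
  refine ⟨?_, ?_⟩
  · intro n hn
    have := congrFun key ⟨n, hn⟩
    exact congrArg Subtype.val this
  · intro n hn hn2
    by_contra hne
    have h2 : orderOf (⟨n, hn⟩ : N) = 2 := by
      apply orderOf_eq_prime
      · ext; simp [pow_two, hn2]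
      · intro h; apply hne; exact congrArg Subtype.val h
    exact hφ.orderOf_ne_two_of_involutive hinv _ h2

/-- Every proper normal subgroup is trivial. -/
theorem normal_eq_bot {H : Type*} [Group H] [Finite H] (z : H)
    (hN : ∀ N : Subgroup H, N.Normal → N ≠ ⊤ → N ⊓ Subgroup.centralizer ({z} : Set H) = ⊥)
    (E : Subgroup H) (hE : IsKleinFour ↥E) (hc : ∀ e ∈ E, e ≠ 1 → IsConj z e)
    (N : Subgroup H) (hNn : N.Normal) (hNt : N ≠ ⊤) : N = ⊥ := by
  have hexp : ∀ e ∈ E, e * e = 1 := by
    intro e he
    have h := Monoid.pow_exponent_eq_one (⟨e, he⟩ : E)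
    rw [IsKleinFour.exponent_two] at h
    have := congrArg Subtype.val h
    simpa [pow_two] using this
  -- two distinct non-identity elements
  have hcard : Nat.card E = 4 := IsKleinFour.card_four
  have : Finite E := Nat.finite_of_card_ne_zero (by rw [hcard]; norm_num)
  have : ∃ a b : E, a ≠ 1 ∧ b ≠ 1 ∧ a ≠ b := by
    by_contra hcon
    push Not at hcon
    have hne : Nontrivial E := by
      rw [← Finite.one_lt_card_iff_nontrivial, hcard]; norm_num
    obtain ⟨a, ha⟩ := exists_ne (1 : E)
    have hsub : ∀ x : E, x = 1 ∨ x = a := by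
      intro x
      by_cases hx : x = 1
      · exact Or.inl hx
      · exact Or.inr (hcon a x ha hx).symm
    have := Fintype.ofFinite E
    have hle : Fintype.card E ≤ 2 := by
      classical
      have : (Finset.univ : Finset E) ⊆ {1, a} := by
        intro x _
        rcases hsub x with h | h <;> simp [h]
      calc Fintype.card E = (Finset.univ : Finset E).card := rfl
        _ ≤ ({1, a} : Finset E).card := Finset.card_le_card this
        _ ≤ 2 := Finset.card_insert_le _ _
    rw [Nat.card_eq_fintype_card] at hcard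
    omega
  obtain ⟨a, b, ha, hb, hab⟩ := this
  have ha' : (a : H) ≠ 1 := fun h => ha (Subtype.ext h)
  have hb' : (b : H) ≠ 1 := fun h => hb (Subtype.ext h)
  have hab' : (a : H) * b ≠ 1 := by
    intro h
    apply hab
    apply Subtype.ext
    have h2 := hexp b b.2
    calc (a : H) = a * (b * b) := by rw [h2, mul_one]
      _ = (a * b) * b := by group
      _ = b := by rw [h, one_mul]
  have Ia := inverts z hN N hNn hNt a (hexp a a.2) (hc a a.2 ha')
  have Ib := inverts z hN N hNn hNt b (hexp b b.2) (hc b b.2 hb')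
  have Iab := inverts z hN N hNn hNt (a * b) (hexp _ (E.mul_mem a.2 b.2)) (hc _ (E.mul_mem a.2 b.2) hab')
  rw [eq_bot_iff]
  intro n hn
  rw [Subgroup.mem_bot]
  apply Ia.2 n hn
  have h1 : (a : H) * b * n * ((a : H) * b)⁻¹ = n⁻¹ := Iab.1 n hn
  have h2 : (a : H) * b * n * ((a : H) * b)⁻¹ = n := by
    calc (a : H) * b * n * ((a : H) * b)⁻¹ = a * (b * n * (b : H)⁻¹) * (a : H)⁻¹ := by group
      _ = a * n⁻¹ * (a : H)⁻¹ := by rw [Ib.1 n hn]
      _ = (n⁻¹)⁻¹ := Ia.1 _ (N.inv_mem hn)
      _ = n := inv_inv n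
  have h3 : n = n⁻¹ := h2.symm.trans h1
  calc n * n = n * n⁻¹ := by rw [← h3]
    _ = 1 := mul_inv_cancel n

/-- Let H be a finite group and z an involution such that every proper normal subgroup of H meets the centralizer of z trivially, and suppose z lies in a Klein four-subgroup E of H all three of whose involutions are conjugate to z in H. Then H is simple. -/
theorem result {H : Type*} [Group H] [Finite H] (z : H) (hz : orderOf z = 2) (hN : ∀ N : Subgroup H, N.Normal → N ≠ ⊤ → N ⊓ Subgroup.centralizer ({z} : Set H) = ⊥) (E : Subgroup H) (hE : IsKleinFour ↥E) (hzE : z ∈ E) (hc : ∀ e ∈ E, e ≠ 1 → IsConj z e) : IsSimpleGroup H := by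
  have : Nontrivial H := by
    refine ⟨⟨z, 1, ?_⟩⟩
    intro h
    rw [h, orderOf_one] at hz
    omega
  refine ⟨fun N hNn => ?_⟩
  by_cases hNt : N = ⊤
  · exact Or.inr hNt
  · exact Or.inl (normal_eq_bot z hN E hE hc N hNn hNt)

end Cfsg.Agent.S2009
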