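import Cfsg.Statements.S2008
import Cfsg.Agent.S2009

set_option autoImplicit false
open Cfsg

namespace Cfsg.Agent.S2008

/-- Let H be a finite group and z an involution such that every proper normal subgroup of H meets the centralizer of z trivially, and suppose z lies in a Klein four-subgroup E of H all three of whose involutions are conjugate to z in H. Then H has no non-trivial abelian normal subgroup. -/
theorem result {H : Type*} [Group H] [Finite H] (z : H) (hz : orderOf z = 2) (hN : ∀ N : Subgroup H, N.Normal → N ≠ ⊤ → N ⊓ Subgroup.centralizer ({z} : Set H) = ⊥) (E : Subgroup H) (hE : IsKleinFour ↥E) (hzE : z ∈ E) (hc : ∀ e ∈ E, e ≠ 1 → IsConj z e) (N : Subgroup H) [N.Normal] (hab : IsMulCommutative ↥N) : N = ⊥ := by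
  by_cases hNt : N = ⊤
  · exfalso
    subst hNt
    -- H is commutative, so every non-identity element of E equals z
    have hcomm : ∀ a b : H, a * b = b * a := by
      intro a b
      have := hab.is_comm.comm (⟨a, Subgroup.mem_top a⟩ : (⊤ : Subgroup H)) ⟨b, Subgroup.mem_top b⟩
      exact congrArg Subtype.val this
    have hall : ∀ e ∈ E, e ≠ 1 → e = z := by
      intro e he he1
      obtain ⟨c, hcz⟩ := hc e he he1
      have h1 : (c : H) * z = e * c := hcz
      rw [hcomm e c] at h1
      exact (mul_left_cancel h1).symm
    have hcard : Nat.card E = 4 := IsKleinFour.card_four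
    have : Finite E := Nat.finite_of_card_ne_zero (by rw [hcard]; norm_num)
    have := Fintype.ofFinite E
    have hle : Fintype.card E ≤ 2 := by
      classical
      have hsub : (Finset.univ : Finset E) ⊆ {1, ⟨z, hzE⟩} := by
        intro x _
        by_cases hx : x = 1
        · simp [hx]
        · have : (x : H) = z := hall x x.2 (fun h => hx (Subtype.ext h))
          have : x = ⟨z, hzE⟩ := Subtype.ext this
          simp [this]
      calc Fintype.card E = (Finset.univ : Finset E).card := rfl
        _ ≤ ({1, ⟨z, hzE⟩} : Finset E).card := Finset.card_le_card hsub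
        _ ≤ 2 := Finset.card_insert_le _ _
    rw [Nat.card_eq_fintype_card] at hcard
    omega
  · exact Cfsg.Agent.S2009.normal_eq_bot z hN E hE hc N inferInstance hNt

end Cfsg.Agent.S2008
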