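import Cfsg.Statements.S2015
-- import your own Cfsg.Agent.* helpers here
import Cfsg.Agent.Lib.helper39.KInfTransfer

set_option autoImplicit false
universe u
open Cfsg

namespace Cfsg.Agent.S2015

/-- For p ≥ 5, every finite p-group P has a characteristic subgroup K containing Z(P), depending only on P, whose normalizer controls transfer wherever P is a Sylow subgroup: for every finite group G and every embedding ι of P onto a Sylow p-subgroup of G, the intersection of ι(P) with the derived subgroup of G equals its intersection with the derived subgroup of N_G(ι(K)). -/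
theorem result (p : ℕ) [Fact p.Prime] (hp : 5 ≤ p) (P : Type u) [Group P] [Finite P] (hP : IsPGroup p P) : ∃ K : Subgroup P, K.Characteristic ∧ Subgroup.center P ≤ K ∧ ∀ (G : Type u) [Group G] [Finite G] (ι : P →* G), Function.Injective ι → (∃ T : Sylow p G, (T : Subgroup G) = ι.range) → ι.range ⊓ commutator G = ι.range ⊓ (commutator ↥(Subgroup.normalizer ((K.map ι : Subgroup G) : Set G))).map (Subgroup.normalizer ((K.map ι : Subgroup G) : Set G)).subtype := by
  refine ⟨kInfLower P, ?_, Lib.helper39.center_le_kInfLower P, ?_⟩
  · rw [Subgroup.characteristic_iff_map_eq]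
    intro φ
    exact Lib.helper39.map_kInfLower_equiv φ
  · intro G _ _ ι hι hT
    obtain ⟨T, hT⟩ := hT
    obtain ⟨T', -, hT'p, hT'i, hT'e⟩ := Lib.helper39.kInfLower_controlsTransfer hp G
    have hsyl' : Lib.helper39.IsSylIn p T' ⊤ := ⟨le_top, hT'p, hT'i⟩
    have hsyl : Lib.helper39.IsSylIn p (T : Subgroup G) ⊤ := Lib.helper39.sylow_isSylIn_top T
    obtain ⟨k, -, hk⟩ := hsyl'.exists_cj_eq hsyl
    have hW := Lib.helper39.isConjugacyFunctor_ind (Lib.helper39.isCharPFunctor_kInfLower p) G
    have hWk : inducedFunctor kInfLower (T : Subgroup G) =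
        Lib.helper39.cj k (inducedFunctor kInfLower T') := by
      rw [← hk]; exact (hW T' hT'p).2.2 k
    have hK : (kInfLower P).map ι = inducedFunctor kInfLower (T : Subgroup G) := by
      rw [hT]
      have h1 := Lib.helper39.map_kInfLower_equiv (MonoidHom.ofInjective hι)
      show _ = (kInfLower ↥ι.range).map ι.range.subtype
      rw [← h1, Subgroup.map_map]
      rfl
    rw [hK, ← hT, Subgroup.map_subtype_commutator, hWk, ← Lib.helper39.cj_normalizer, ← hk]
    have h2 := congrArg (Lib.helper39.cj k) hT'e
    rw [Lib.helper39.cj_inf, Lib.helper39.cj_inf, top_inf_eq] at h2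
    have h3 : Lib.helper39.cj k ⁅(⊤ : Subgroup G), (⊤ : Subgroup G)⁆ = commutator G := by
      show Subgroup.map (MulAut.conj k).toMonoidHom ⁅(⊤ : Subgroup G), (⊤ : Subgroup G)⁆ = commutator G
      rw [Subgroup.map_commutator, Subgroup.map_top_of_surjective _ (MulAut.conj k).surjective]
      rfl
    have h4 : Lib.helper39.cj k ⁅Subgroup.normalizer ((inducedFunctor kInfLower T' : Subgroup G) : Set G),
        Subgroup.normalizer ((inducedFunctor kInfLower T' : Subgroup G) : Set G)⁆ =
        ⁅Lib.helper39.cj k (Subgroup.normalizer ((inducedFunctor kInfLower T' : Subgroup G) : Set G)),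
          Lib.helper39.cj k (Subgroup.normalizer ((inducedFunctor kInfLower T' : Subgroup G) : Set G))⁆ :=
      Subgroup.map_commutator _ _ _
    rw [h3, h4] at h2
    exact h2

end Cfsg.Agent.S2015
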