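import Cfsg.Statements.S2037
import Cfsg.Agent.Lib.helper33.SchurM23

set_option autoImplicit false
open Cfsg

namespace Cfsg.Agent.S2037

open Cfsg.Agent.Lib.helper33

/-- The Schur multiplier of the Mathieu group M₂₃ (the stabiliser of one point in the automorphism group of the length-24 binary code) is trivial; here the Schur multiplier is described through stem extensions, as in the definitions: surjective homomorphisms onto the group from a finite group, whose kernel is central in that finite group and contained in that finite group's commutator subgroup. -/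
theorem result : Cfsg.HasCyclicSchurMultiplier ↥Cfsg.Spor.M23 1 := by
  apply hasCyclicSchurMultiplier_one_of_no_pstem
  intro p hp Γ _ _ σ hσ
  by_cases h2 : p = 2
  · subst h2; exact SM23.no_pstem_two σ hσ
  by_cases h3 : p = 3
  · subst h3; exact SM23.no_pstem_three σ hσ
  apply pstem_false_of_sq_not_dvd hp hσ
  rw [card_M23]
  intro hdvd
  have hcop : Nat.Coprime (p ^ 2) (2 ^ 7 * 3 ^ 2) := by
    apply Nat.Coprime.pow_left
    apply Nat.Coprime.mul_right
    · apply Nat.Coprime.pow_right; exact (Nat.coprime_primes hp Nat.prime_two).2 h2
    · apply Nat.Coprime.pow_right; exact (Nat.coprime_primes hp Nat.prime_three).2 h3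
  have h1 : p ^ 2 ∣ 8855 := by
    have : (10200960 : ℕ) = (2 ^ 7 * 3 ^ 2) * 8855 := by norm_num
    rw [this] at hdvd
    exact hcop.dvd_of_dvd_mul_left hdvd
  have hle := Nat.le_of_dvd (by norm_num) h1
  have hlt : p < 95 := by nlinarith
  interval_cases p <;> first | omega | (norm_num at hp)

end Cfsg.Agent.S2037
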