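import Cfsg.Statements.S2039
import Cfsg.Agent.Lib.helper33.J1Simple
import Cfsg.Agent.Lib.helper33.SchurPC

set_option autoImplicit false
open Cfsg

namespace Cfsg.Agent.S2039

open Cfsg.Agent.Lib.helper33 Cfsg.Agent.Lib.helper33.J1M

/-- The Schur multiplier of the Janko group J₁ (the group generated by two explicit 7 × 7 matrices over the integers modulo 11) is trivial; here the Schur multiplier is described through stem extensions, as in the definitions: surjective homomorphisms onto the group from a finite group, whose kernel is central in that finite group and contained in that finite group's commutator subgroup. -/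
theorem result : Cfsg.HasCyclicSchurMultiplier ↥Cfsg.Spor.J1 1 := by
  apply hasCyclicSchurMultiplier_one_of_no_pstem
  intro p hp Γ _ _ σ hσ
  by_cases h2 : p = 2
  · subst h2
    refine pstem_false_of_E8 hσ (elt sC inJ_s) (elt aC inJ_a) (elt bC inJ_b) (elt cC inJ_c)
      a_sq b_sq c_sq ab_comm ac_comm bc_comm conj_sa conj_sb conj_sc ?_
    have h := index_sylE
    unfold sylE at h
    rw [h]
    decide
  apply pstem_false_of_sq_not_dvd hp hσ
  rw [card_J1]
  intro hdvd
  have hcop : Nat.Coprime (p ^ 2) (2 ^ 3) := by
    apply Nat.Coprime.pow_left
    apply Nat.Coprime.pow_right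
    exact (Nat.coprime_primes hp Nat.prime_two).2 h2
  have h1 : p ^ 2 ∣ 21945 := by
    have : (175560 : ℕ) = 2 ^ 3 * 21945 := by norm_num
    rw [this] at hdvd
    exact hcop.dvd_of_dvd_mul_left hdvd
  have hle := Nat.le_of_dvd (by norm_num) h1
  have hlt : p < 149 := by nlinarith
  interval_cases p <;> first | omega | (norm_num at hp)

end Cfsg.Agent.S2039
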