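import Cfsg.Statements.S2062
import Cfsg.Agent.Lib.helper33.M22Aut
import Cfsg.Agent.Lib.helper33.M22Code

set_option autoImplicit false
open Cfsg

namespace Cfsg.Agent.S2062

open Cfsg.Agent.Lib.helper33 Cfsg.Agent.Lib.helper9
open scoped Pointwise

theorem swap_conj {g : Equiv.Perm GolayPt} (h0 : g none = none) (h1 : g (some 0) = some 0) :
    Equiv.swap (none : GolayPt) (some 0) * g * (Equiv.swap (none : GolayPt) (some 0))⁻¹ = g := by
  have h := Equiv.mul_swap_eq_swap_mul g none (some 0)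
  rw [h0, h1] at h
  rw [← h, mul_assoc, mul_inv_cancel, mul_one]

/-- Every automorphism of the stabiliser of two points is induced by an element of the group of
the code fixing or interchanging the two points. -/
theorem aut_conj (φ : ↥Spor.M22 ≃* ↥Spor.M22) :
    ∃ ρ ∈ M24, ((ρ none = none ∧ ρ (some 0) = some 0) ∨ (ρ none = some 0 ∧ ρ (some 0) = none)) ∧
      ∀ g : ↥Spor.M22, (φ g : Equiv.Perm GolayPt) = ρ * g * ρ⁻¹ := by
  classical
  have hfix : ∀ x, x ∉ pts22 → ∀ g ∈ Spor.M22, g x = x := by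
    intro x hx g hg
    obtain ⟨-, h1, h2⟩ := mem_M22.1 hg
    by_cases hxn : x = none
    · rw [hxn]; exact h1
    · by_cases hx0 : x = some 0
      · rw [hx0]; exact h2
      · exact absurd (mem_pts22.2 ⟨hxn, hx0⟩) hx
  have hdist : ∀ q ∈ pts22, ∀ q' ∈ pts22, q ≠ q' → ∃ g ∈ Spor.M22, g q = q ∧ g q' ≠ q' :=
    fun q hq q' hq' hne => M22_dist hq hq' hne
  have hφ : ∀ q ∈ pts22, ∃ f ∈ pts22, ∀ g : ↥Spor.M22,
      (g : Equiv.Perm GolayPt) q = q ↔ (φ g : Equiv.Perm GolayPt) f = f := by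
    intro q hq
    obtain ⟨f, hf, hK⟩ := index22_M22 (stabImage Spor.M22 φ q) (stabImage_le _ _ _)
      (by rw [card_stabImage, card_M22_stab hq])
    exact ⟨f, hf, stab_iff_of_stabImage hK⟩
  obtain ⟨π, hπfix, hπ⟩ := exists_perm_of_stab_map Spor.M22 pts22 hfix hdist φ hφ
  have hπn : π none = none := hπfix none (fun h => (mem_pts22.1 h).1 rfl)
  have hπ0 : π (some 0) = some 0 := hπfix (some 0) (fun h => (mem_pts22.1 h).2 rfl)
  have hπ' : ∀ g : ↥Spor.M22, (φ.symm g : Equiv.Perm GolayPt) = π⁻¹ * g * π := by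
    intro g
    have h1 := hπ (φ.symm g)
    rw [MulEquiv.apply_symm_apply] at h1
    rw [h1]
    group
  have hoct : ∀ O ∈ octads, (none : GolayPt) ∈ O → (some 0 : GolayPt) ∈ O → π • O ∈ octads := by
    intro O hO hn h0
    apply smul_octad_of_conj hO
    intro e he
    have he' : e ∈ Spor.M22 :=
      mem_M22.2 ⟨(mem_fixOct.1 he).1, (mem_fixOct.1 he).2 none hn, (mem_fixOct.1 he).2 _ h0⟩
    have h1 := hπ ⟨e, he'⟩
    rw [← h1]
    exact (mem_M22.1 (φ ⟨e, he'⟩).2).1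
  have hoct' : ∀ O ∈ octads, (none : GolayPt) ∈ O → (some 0 : GolayPt) ∈ O →
      π⁻¹ • O ∈ octads := by
    intro O hO hn h0
    apply smul_octad_of_conj hO
    intro e he
    have he' : e ∈ Spor.M22 :=
      mem_M22.2 ⟨(mem_fixOct.1 he).1, (mem_fixOct.1 he).2 none hn, (mem_fixOct.1 he).2 _ h0⟩
    have h1 := hπ' ⟨e, he'⟩
    rw [inv_inv, ← h1]
    exact (mem_M22.1 (φ.symm ⟨e, he'⟩).2).1
  rcases mem_M24_or_swap hπn hπ0 hoct hoct' with hM | hM
  · exact ⟨π, hM, Or.inl ⟨hπn, hπ0⟩, hπ⟩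
  · refine ⟨Equiv.swap none (some 0) * π, hM, Or.inr ⟨?_, ?_⟩, ?_⟩
    · show Equiv.swap none (some 0) (π none) = some 0
      rw [hπn, Equiv.swap_apply_left]
    · show Equiv.swap none (some 0) (π (some 0)) = none
      rw [hπ0, Equiv.swap_apply_right]
    · intro g
      have h1 := swap_conj (mem_M22.1 (φ g).2).2.1 (mem_M22.1 (φ g).2).2.2
      calc (φ g : Equiv.Perm GolayPt)
          = Equiv.swap (none : GolayPt) (some 0) * (φ g : Equiv.Perm GolayPt) *
              (Equiv.swap (none : GolayPt) (some 0))⁻¹ := h1.symm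
        _ = Equiv.swap (none : GolayPt) (some 0) * (π * g * π⁻¹) *
              (Equiv.swap (none : GolayPt) (some 0))⁻¹ := by rw [hπ g]
        _ = _ := by group

/-- Conjugation by a permutation normalising a subgroup. -/
def conjAut (G : Subgroup (Equiv.Perm GolayPt)) (t : Equiv.Perm GolayPt)
    (ht : ∀ g ∈ G, t * g * t⁻¹ ∈ G) (ht' : ∀ g ∈ G, t⁻¹ * g * t ∈ G) : ↥G ≃* ↥G where
  toFun g := ⟨t * g * t⁻¹, ht g g.2⟩
  invFun g := ⟨t⁻¹ * g * t, ht' g g.2⟩
  left_inv g := Subtype.ext (by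
    show t⁻¹ * (t * (g : Equiv.Perm GolayPt) * t⁻¹) * t = g
    group)
  right_inv g := Subtype.ext (by
    show t * (t⁻¹ * (g : Equiv.Perm GolayPt) * t) * t⁻¹ = g
    group)
  map_mul' a b := Subtype.ext (by
    show t * ((a : Equiv.Perm GolayPt) * b) * t⁻¹ = (t * a * t⁻¹) * (t * b * t⁻¹)
    group)

theorem conj_mem_M22 {t : Equiv.Perm GolayPt} (ht : t ∈ M24) (h1 : t none = some 0)
    (h2 : t (some 0) = none) : ∀ g ∈ Spor.M22, t * g * t⁻¹ ∈ Spor.M22 := by
  intro g hg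
  obtain ⟨hg24, hgn, hg0⟩ := mem_M22.1 hg
  have i1 : t⁻¹ none = some 0 := by rw [Equiv.Perm.inv_eq_iff_eq, h2]
  have i2 : t⁻¹ (some 0) = none := by rw [Equiv.Perm.inv_eq_iff_eq, h1]
  refine mem_M22.2 ⟨mul_mem (mul_mem ht hg24) (inv_mem ht), ?_, ?_⟩
  · show t (g (t⁻¹ none)) = none
    rw [i1, hg0, h2]
  · show t (g (t⁻¹ (some 0))) = some 0
    rw [i2, hgn, h1]

/-- The outer automorphism group of the Mathieu group M₂₂ (the permutations in the automorphism group of the length-24 binary code that fix each of two given points) has order 2. -/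
theorem result : Nat.card (Cfsg.Out ↥Cfsg.Spor.M22) = 2 := by
  obtain ⟨t, ht, t1, t2⟩ := m24_two_trans none (some 0) (some 0) none (by simp) (by simp)
  have i1 : t⁻¹ none = some 0 := by rw [Equiv.Perm.inv_eq_iff_eq, t2]
  have i2 : t⁻¹ (some 0) = none := by rw [Equiv.Perm.inv_eq_iff_eq, t1]
  have hτ1 := conj_mem_M22 ht t1 t2
  have hτ2 : ∀ g ∈ Spor.M22, t⁻¹ * g * t ∈ Spor.M22 := by
    intro g hg
    have := conj_mem_M22 (inv_mem ht) i1 i2 g hg
    rwa [inv_inv] at this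
  have hτ : ∀ g : ↥Spor.M22,
      ((conjAut Spor.M22 t hτ1 hτ2) g : Equiv.Perm GolayPt) = t * g * t⁻¹ := fun g => rfl
  show (Inn ↥Spor.M22).index = 2
  rw [Subgroup.index_eq_two_iff_exists_notMem_and]
  refine ⟨conjAut Spor.M22 t hτ1 hτ2, ?_, ?_⟩
  · rintro ⟨m, hm⟩
    have hcomm : ∀ g ∈ Spor.M22, (m : Equiv.Perm GolayPt)⁻¹ * t * g =
        g * ((m : Equiv.Perm GolayPt)⁻¹ * t) := by
      intro g hg
      have h1 := congrArg (fun ψ : MulAut ↥Spor.M22 =>
        ((ψ ⟨g, hg⟩ : ↥Spor.M22) : Equiv.Perm GolayPt)) hm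
      have h2 : (m : Equiv.Perm GolayPt) * g * (m : Equiv.Perm GolayPt)⁻¹ = t * g * t⁻¹ := h1
      calc (m : Equiv.Perm GolayPt)⁻¹ * t * g
          = (m : Equiv.Perm GolayPt)⁻¹ * (t * g * t⁻¹) * t := by group
        _ = (m : Equiv.Perm GolayPt)⁻¹ *
              ((m : Equiv.Perm GolayPt) * g * (m : Equiv.Perm GolayPt)⁻¹) * t := by rw [h2]
        _ = g * ((m : Equiv.Perm GolayPt)⁻¹ * t) := by group
    have hc24 : (m : Equiv.Perm GolayPt)⁻¹ * t ∈ M24 := mul_mem (inv_mem (mem_M22.1 m.2).1) ht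
    have hmn : (m : Equiv.Perm GolayPt)⁻¹ none = none := by
      rw [Equiv.Perm.inv_eq_iff_eq, (mem_M22.1 m.2).2.1]
    have hm0 : (m : Equiv.Perm GolayPt)⁻¹ (some 0) = some 0 := by
      rw [Equiv.Perm.inv_eq_iff_eq, (mem_M22.1 m.2).2.2]
    have hcn : ((m : Equiv.Perm GolayPt)⁻¹ * t) none = some 0 := by
      show (m : Equiv.Perm GolayPt)⁻¹ (t none) = some 0
      rw [t1, hm0]
    have hc0 : ((m : Equiv.Perm GolayPt)⁻¹ * t) (some 0) = none := by
      show (m : Equiv.Perm GolayPt)⁻¹ (t (some 0)) = none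
      rw [t2, hmn]
    have hfixall : ∀ x ∈ pts22, ((m : Equiv.Perm GolayPt)⁻¹ * t) x = x := by
      intro x hx
      by_contra hne
      have hcx22 : ((m : Equiv.Perm GolayPt)⁻¹ * t) x ∈ pts22 := by
        rw [mem_pts22] at hx ⊢
        constructor
        · intro h
          exact hx.2 (((m : Equiv.Perm GolayPt)⁻¹ * t).injective (h.trans hc0.symm))
        · intro h
          exact hx.1 (((m : Equiv.Perm GolayPt)⁻¹ * t).injective (h.trans hcn.symm))
      obtain ⟨g, hg, hgx, hgy⟩ := M22_dist hx hcx22 (Ne.symm hne)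
      apply hgy
      have h1 := congrArg (fun σ : Equiv.Perm GolayPt => σ x) (hcomm g hg)
      have h2 : ((m : Equiv.Perm GolayPt)⁻¹ * t) (g x) =
          g (((m : Equiv.Perm GolayPt)⁻¹ * t) x) := h1
      rw [← h2, hgx]
    have h22 : 9 ≤ (fixF ((m : Equiv.Perm GolayPt)⁻¹ * t)).card := by
      have hsub : pts22 ⊆ fixF ((m : Equiv.Perm GolayPt)⁻¹ * t) :=
        fun x hx => mem_fixF.2 (hfixall x hx)
      have := Finset.card_le_card hsub
      rw [card_pts22] at this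
      omega
    have hc1 := eq_one_of_nine_fixed hc24 h22
    rw [hc1] at hcn
    exact absurd hcn (by simp)
  · intro φ
    obtain ⟨ρ, hρ24, hρ, hconj⟩ := aut_conj φ
    rcases hρ with ⟨r1, r2⟩ | ⟨r1, r2⟩
    · right
      refine ⟨⟨ρ, mem_M22.2 ⟨hρ24, r1, r2⟩⟩, ?_⟩
      apply MulEquiv.ext
      intro g
      apply Subtype.ext
      rw [hconj g]
      rfl
    · left
      have hρt : ρ * t ∈ Spor.M22 := mem_M22.2 ⟨mul_mem hρ24 ht, by
        show ρ (t none) = none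
        rw [t1, r2], by
        show ρ (t (some 0)) = some 0
        rw [t2, r1]⟩
      refine ⟨⟨ρ * t, hρt⟩, ?_⟩
      apply MulEquiv.ext
      intro g
      apply Subtype.ext
      show _ = ((φ ((conjAut Spor.M22 t hτ1 hτ2) g) : ↥Spor.M22) : Equiv.Perm GolayPt)
      rw [hconj, hτ g]
      show (ρ * t) * g * (ρ * t)⁻¹ = ρ * (t * g * t⁻¹) * ρ⁻¹
      group

end Cfsg.Agent.S2062
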