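import Cfsg.Statements.S2063
import Cfsg.Agent.Lib.helper33.M24Aut
import Cfsg.Agent.Lib.helper33.M24AutGens

set_option autoImplicit false
open Cfsg

namespace Cfsg.Agent.S2063

open Cfsg.Agent.Lib.helper33 Cfsg.Agent.Lib.helper9
open scoped Pointwise

/-- Every automorphism of the stabiliser of a point in the group of the length-24 code is inner. -/
theorem aut_inner (φ : ↥Spor.M23 ≃* ↥Spor.M23) : ∃ m : ↥Spor.M23, φ = MulAut.conj m := by
  classical
  have hfix : ∀ x, x ∉ Finset.univ.erase (none : GolayPt) → ∀ g ∈ Spor.M23, g x = x := by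
    intro x hx g hg
    have h1 : x = none := by
      by_contra h
      exact hx (Finset.mem_erase.2 ⟨h, Finset.mem_univ _⟩)
    rw [h1]
    exact (mem_M23.1 hg).2
  have hdist : ∀ q ∈ Finset.univ.erase (none : GolayPt), ∀ q' ∈ Finset.univ.erase (none : GolayPt),
      q ≠ q' → ∃ g ∈ Spor.M23, g q = q ∧ g q' ≠ q' := by
    intro q hq q' hq' hne
    have hqn : q ≠ none := (Finset.mem_erase.1 hq).1
    have hq'n : q' ≠ none := (Finset.mem_erase.1 hq').1
    obtain ⟨q'', hq''⟩ : ∃ q'' : GolayPt, q'' ∉ ({none, q, q'} : Finset GolayPt) := by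
      by_contra h
      have h1 : (Finset.univ : Finset GolayPt) ⊆ {none, q, q'} := by
        intro x _
        by_contra hx
        exact h ⟨x, hx⟩
      have h2 := Finset.card_le_card h1
      rw [Finset.card_univ, golayPt_card] at h2
      have h3 : ({none, q, q'} : Finset GolayPt).card ≤ 3 := Finset.card_le_three
      omega
    simp only [Finset.mem_insert, Finset.mem_singleton, not_or] at hq''
    obtain ⟨g, hg, hgA⟩ := exists_mem_M24_of_injOn ({none, q, q'} : Finset GolayPt)
      (le_trans Finset.card_le_three (by norm_num))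
      (fun x => if x = q' then q'' else x) (by
        intro a ha b hb hab
        simp only [Finset.coe_insert, Finset.coe_singleton, Set.mem_insert_iff,
          Set.mem_singleton_iff] at ha hb
        by_cases h1 : a = q' <;> by_cases h2 : b = q'
        · rw [h1, h2]
        · simp only [h1, h2, if_true, if_false] at hab
          rcases hb with rfl | rfl | rfl
          · exact absurd hab hq''.1
          · exact absurd hab hq''.2.1
          · exact absurd rfl h2
        · simp only [h1, h2, if_true, if_false] at hab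
          rcases ha with rfl | rfl | rfl
          · exact absurd hab.symm hq''.1
          · exact absurd hab.symm hq''.2.1
          · exact absurd rfl h1
        · simp only [h1, h2, if_false] at hab
          exact hab)
    refine ⟨g, mem_M23.2 ⟨hg, ?_⟩, ?_, ?_⟩
    · rw [hgA none (by simp), if_neg (Ne.symm hq'n)]
    · rw [hgA q (by simp), if_neg hne]
    · rw [hgA q' (by simp), if_pos rfl]
      exact hq''.2.2
  have hφ : ∀ q ∈ Finset.univ.erase (none : GolayPt), ∃ f ∈ Finset.univ.erase (none : GolayPt),
      ∀ g : ↥Spor.M23, (g : Equiv.Perm GolayPt) q = q ↔ (φ g : Equiv.Perm GolayPt) f = f := by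
    intro q hq
    have hqn : q ≠ none := (Finset.mem_erase.1 hq).1
    obtain ⟨f, hf, hK⟩ := index23_M23 (stabImage Spor.M23 φ q) (stabImage_le _ _ _)
      (by rw [card_stabImage, card_M23_stab hqn])
    exact ⟨f, Finset.mem_erase.2 ⟨hf, Finset.mem_univ _⟩, stab_iff_of_stabImage hK⟩
  obtain ⟨π, hπfix, hπ⟩ := exists_perm_of_stab_map Spor.M23
    (Finset.univ.erase (none : GolayPt)) hfix hdist φ hφ
  have hπnone : π none = none := hπfix none (by simp)
  have hπM : π ∈ M24 := by
    apply mem_M24_of_octads_none
    intro O hO hnone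
    apply smul_octad_of_conj hO
    intro e he
    have he' : e ∈ Spor.M23 :=
      mem_M23.2 ⟨(mem_fixOct.1 he).1, (mem_fixOct.1 he).2 none hnone⟩
    have h1 := hπ ⟨e, he'⟩
    rw [← h1]
    exact (mem_M23.1 (φ ⟨e, he'⟩).2).1
  refine ⟨⟨π, mem_M23.2 ⟨hπM, hπnone⟩⟩, ?_⟩
  apply MulEquiv.ext
  intro g
  apply Subtype.ext
  rw [hπ g]
  rfl

/-- The outer automorphism group of the Mathieu group M₂₃ (the stabiliser of a point in the automorphism group of the length-24 binary code) is trivial: every automorphism is inner. -/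
theorem result : Nat.card (Cfsg.Out ↥Cfsg.Spor.M23) = 1 := by
  have h : Inn ↥Spor.M23 = ⊤ := by
    rw [eq_top_iff]
    intro φ _
    obtain ⟨m, rfl⟩ := aut_inner φ
    exact ⟨m, rfl⟩
  exact Subgroup.index_eq_one.2 h

end Cfsg.Agent.S2063
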