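import Cfsg.Statements.S2064
import Cfsg.Agent.Lib.helper33.M24Aut
import Cfsg.Agent.Lib.helper33.M24AutGens
import Cfsg.Agent.Lib.helper33.M24Aut2

set_option autoImplicit false
open Cfsg

namespace Cfsg.Agent.S2064

open Cfsg.Agent.Lib.helper33 Cfsg.Agent.Lib.helper9
open scoped Pointwise

/-- Every automorphism of the group of the length-24 code is inner. -/
theorem aut_inner (φ : ↥M24 ≃* ↥M24) : ∃ m : ↥M24, φ = MulAut.conj m := by
  classical
  have hfix : ∀ x, x ∉ (Finset.univ : Finset GolayPt) → ∀ g ∈ M24, g x = x := by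
    intro x hx g hg
    exact absurd (Finset.mem_univ x) hx
  have hdist : ∀ q ∈ (Finset.univ : Finset GolayPt), ∀ q' ∈ (Finset.univ : Finset GolayPt),
      q ≠ q' → ∃ g ∈ M24, g q = q ∧ g q' ≠ q' := by
    intro q hq q' hq' hne
    obtain ⟨q'', hq''⟩ : ∃ q'' : GolayPt, q'' ∉ ({q, q'} : Finset GolayPt) := by
      by_contra h
      have h1 : (Finset.univ : Finset GolayPt) ⊆ {q, q'} := by
        intro x _
        by_contra hx
        exact h ⟨x, hx⟩
      have h2 := Finset.card_le_card h1
      rw [Finset.card_univ, golayPt_card] at h2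
      have h3 : ({q, q'} : Finset GolayPt).card ≤ 2 := Finset.card_le_two
      omega
    simp only [Finset.mem_insert, Finset.mem_singleton, not_or] at hq''
    obtain ⟨g, hg, hgq, hgq'⟩ := m24_two_trans q q' q q'' hne (Ne.symm hq''.1)
    refine ⟨g, hg, hgq, ?_⟩
    rw [hgq']
    exact hq''.2
  have hφ : ∀ q ∈ (Finset.univ : Finset GolayPt), ∃ f ∈ (Finset.univ : Finset GolayPt),
      ∀ g : ↥M24, (g : Equiv.Perm GolayPt) q = q ↔ (φ g : Equiv.Perm GolayPt) f = f := by
    intro q hq
    obtain ⟨f, hK⟩ := index24_M24 (stabImage M24 φ q) (stabImage_le _ _ _)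
      (by rw [card_stabImage, card_M24_stab])
    exact ⟨f, Finset.mem_univ _, stab_iff_of_stabImage hK⟩
  obtain ⟨π, hπfix, hπ⟩ := exists_perm_of_stab_map M24
    (Finset.univ : Finset GolayPt) hfix hdist φ hφ
  have hπM : π ∈ M24 := by
    apply mem_M24_of_octads
    intro O hO
    apply smul_octad_of_conj hO
    intro e he
    have he' : e ∈ M24 := (mem_fixOct.1 he).1
    have h1 := hπ ⟨e, he'⟩
    rw [← h1]
    exact (φ ⟨e, he'⟩).2
  refine ⟨⟨π, hπM⟩, ?_⟩
  apply MulEquiv.ext
  intro g
  apply Subtype.ext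
  rw [hπ g]
  rfl

/-- The outer automorphism group of the Mathieu group M₂₄ (the automorphism group of the length-24 binary code) is trivial: every automorphism is inner. -/
theorem result : Nat.card (Cfsg.Out ↥Cfsg.M24) = 1 := by
  have h : Inn ↥M24 = ⊤ := by
    rw [eq_top_iff]
    intro φ _
    obtain ⟨m, rfl⟩ := aut_inner φ
    exact ⟨m, rfl⟩
  exact Subgroup.index_eq_one.2 h

end Cfsg.Agent.S2064
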