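import Cfsg.Statements.S2065
import Cfsg.Agent.Lib.helper33.J1Out

set_option autoImplicit false
open Cfsg

namespace Cfsg.Agent.S2065

/-- The outer automorphism group of the Janko group J₁ (the group generated by two explicit 7 × 7 matrices over the integers modulo 11) is trivial: every automorphism is inner. -/
theorem result : Nat.card (Cfsg.Out ↥Cfsg.Spor.J1) = 1 := by
  have h : Inn ↥Spor.J1 = ⊤ := by
    rw [eq_top_iff]
    intro φ _
    obtain ⟨m, rfl⟩ := Cfsg.Agent.Lib.helper33.J1M.aut_inner φ
    exact ⟨m, rfl⟩
  exact Subgroup.index_eq_one.2 h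

end Cfsg.Agent.S2065
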