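import Cfsg.Statements.S2117
import Mathlib
import Cfsg.Agent.Lib.helper69.SL2Mult


set_option autoImplicit false
open Cfsg

namespace Cfsg.Agent.S2117

/-- For a finite field with q elements, q ≠ 4 and q ≠ 9, the special linear group SL₂ has trivial Schur multiplier (here the Schur multiplier is described through stem extensions, as in the definitions). -/
theorem result {F : Type*} [Field F] [Fintype F] (h4 : Fintype.card F ≠ 4) (h9 : Fintype.card F ≠ 9) : Cfsg.HasCyclicSchurMultiplier (Matrix.SpecialLinearGroup (Fin 2) F) 1 := by
  classical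
  constructor
  · refine ⟨Matrix.SpecialLinearGroup (Fin 2) F, inferInstance, inferInstance, MonoidHom.id _,
      ⟨Function.surjective_id, ?_, ?_⟩, ?_⟩
    · intro x hx
      rw [MonoidHom.mem_ker, MonoidHom.id_apply] at hx
      rw [hx]
      exact Subgroup.one_mem _
    · intro x hx
      rw [MonoidHom.mem_ker, MonoidHom.id_apply] at hx
      rw [hx]
      exact Subgroup.one_mem _
    · refine ⟨{
        toFun := fun _ => 1
        invFun := fun _ => 1
        left_inv := ?_
        right_inv := ?_
        map_mul' := ?_ }⟩
      · intro x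
        apply Subtype.ext
        exact (MonoidHom.mem_ker.mp x.2).symm
      · intro y
        exact Multiplicative.toAdd.injective (Subsingleton.elim _ _)
      · intro x y
        exact (mul_one 1).symm
  · intro Γ _ _ σ hσ
    have hk := Cfsg.Agent.Lib.helper69.sl2_stem_ker_eq_bot h4 h9 σ hσ
    refine ⟨1, ?_⟩
    intro x
    refine ⟨1, ?_⟩
    have hx : (x : Γ) ∈ (⊥ : Subgroup Γ) := hk ▸ x.2
    rw [Subgroup.mem_bot] at hx
    exact (Subtype.ext hx).symm

end Cfsg.Agent.S2117
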