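import Cfsg.Statements.S3958
import Mathlib
import Cfsg.Agent.Lib.helper69.SchurCover

set_option autoImplicit false
universe u v
open Cfsg

namespace Cfsg.Agent.S3958

/-- Let `σ : Γ →* Q` be a finite stem extension of the finite group `Q` with `Γ` of trivial Schur multiplier. Then `σ` is a Schur covering group of `Q`: for every finite stem extension `τ : Δ →* Q` with `Δ` in the same universe as `Q`, the kernel of `τ` is a homomorphic image of the kernel of `σ`. -/
theorem result {Q : Type u} [Group Q] [Finite Q] {Γ : Type v} [Group Γ] [Finite Γ] (σ : Γ →* Q) (hσ : Cfsg.IsStemExtension σ) (hΓ : Cfsg.HasCyclicSchurMultiplier Γ 1) (Δ : Type u) [Group Δ] [Finite Δ] (τ : Δ →* Q) (hτ : Cfsg.IsStemExtension τ) : ∃ π : σ.ker →* τ.ker, Function.Surjective π := by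
  obtain ⟨Γs, _, _, σs, hσs, ⟨e₁⟩, β, hβ, hβσ⟩ := Cfsg.Agent.Lib.helper69.exists_cover_over_stem Q σ hσ
  have hkerle : β.ker ≤ σs.ker := by
    intro x hx
    rw [MonoidHom.mem_ker, ← hβσ]
    show σ (β x) = 1
    rw [MonoidHom.mem_ker.mp hx, map_one]
  obtain ⟨Γ', _, _, ⟨ι⟩⟩ := Cfsg.Agent.Lib.helper69.exists_mulEquiv_univ.{u, v} Γs
  have hstem' : Cfsg.IsStemExtension (β.comp ι.toMonoidHom) := by
    refine ⟨hβ.comp ι.surjective, ?_, ?_⟩
    · intro x hx
      have h1 : ι x ∈ Subgroup.center Γs := hσs.2.1 (hkerle hx)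
      rw [Subgroup.mem_center_iff] at h1 ⊢
      intro g
      apply ι.injective
      rw [map_mul, map_mul]
      exact h1 (ι g)
    · intro x hx
      have h1 : ι x ∈ commutator Γs := hσs.2.2 (hkerle hx)
      have h2 : commutator Γs = (commutator Γ').map ι.toMonoidHom := by
        rw [commutator_def, commutator_def, Subgroup.map_commutator,
          Subgroup.map_top_of_surjective ι.toMonoidHom ι.surjective]
      rw [h2] at h1
      obtain ⟨y, hy, hyx⟩ := h1
      have : y = x := ι.injective hyx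
      rw [← this]; exact hy
  have hker := Cfsg.Agent.Lib.helper69.ker_eq_bot_of_hasCyclicSchurMultiplier_one hΓ Γ'
    (β.comp ι.toMonoidHom) hstem'
  have hβinj : Function.Injective β := by
    rw [injective_iff_map_eq_one]
    intro x hx
    have h1 : ι.symm x ∈ (β.comp ι.toMonoidHom).ker := by
      rw [MonoidHom.mem_ker]
      show β (ι (ι.symm x)) = 1
      rw [ι.apply_symm_apply, hx]
    rw [hker, Subgroup.mem_bot] at h1
    have h2 : ι (ι.symm x) = ι 1 := by rw [h1]
    rw [ι.apply_symm_apply, map_one] at h2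
    exact h2
  obtain ⟨π₀, hπ₀⟩ := Cfsg.Agent.Lib.helper69.exists_surjective_mult_of_stem Q τ hτ
  let βe : Γs ≃* Γ := MulEquiv.ofBijective β ⟨hβinj, hβ⟩
  have hβe : ∀ x : Γs, βe x = β x := fun x => rfl
  let g : σ.ker →* σs.ker := (βe.symm.toMonoidHom.comp σ.ker.subtype).codRestrict σs.ker (fun k => by
    rw [MonoidHom.mem_ker, ← hβσ]
    show σ (β (βe.symm (k : Γ))) = 1
    rw [← hβe, βe.apply_symm_apply]
    exact MonoidHom.mem_ker.mp k.2)
  have hg : Function.Surjective g := by
    intro ks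
    have hmem : β (ks : Γs) ∈ σ.ker := by
      rw [MonoidHom.mem_ker]
      have h1 : σ (β (ks : Γs)) = σs (ks : Γs) := DFunLike.congr_fun hβσ (ks : Γs)
      rw [h1]; exact MonoidHom.mem_ker.mp ks.2
    refine ⟨⟨β (ks : Γs), hmem⟩, ?_⟩
    apply Subtype.ext
    show βe.symm (β (ks : Γs)) = (ks : Γs)
    rw [← hβe, βe.symm_apply_apply]
  exact ⟨π₀.comp (e₁.toMonoidHom.comp g), hπ₀.comp (e₁.surjective.comp hg)⟩

end Cfsg.Agent.S3958
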