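import Cfsg.Statements.S2087
import Mathlib
import Cfsg.Agent.S0255
import Cfsg.Agent.S2117
import Cfsg.Agent.S3958

set_option autoImplicit false
open Cfsg

namespace Cfsg.Agent.S2087

open Matrix
open scoped commutatorElement

universe u

section
variable {K : Type*} [Field K]

/-- The quaternion unit `i` in `SL₂`. -/
def qi : Matrix.SpecialLinearGroup (Fin 2) K := ⟨!![0, 1; -1, 0], by simp [Matrix.det_fin_two]⟩

/-- The quaternion unit `j` in `SL₂` over a field of characteristic `7`. -/
def qj (h : (14 : K) = 0) : Matrix.SpecialLinearGroup (Fin 2) K :=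
  ⟨!![2, 3; 3, -2], by rw [Matrix.det_fin_two_of]; linear_combination (-1 : K) * h⟩

/-- The matrix `-1` in `SL₂`. -/
def mone : Matrix.SpecialLinearGroup (Fin 2) K := ⟨!![-1, 0; 0, -1], by simp [Matrix.det_fin_two]⟩

theorem comm_eq (h : (14 : K) = 0) :
    ⁅(qi : Matrix.SpecialLinearGroup (Fin 2) K), qj h⁆ = mone := by
  rw [commutatorElement_def, mul_inv_eq_iff_eq_mul, mul_inv_eq_iff_eq_mul]
  apply Subtype.ext
  change ((qi : Matrix.SpecialLinearGroup (Fin 2) K).1 * (qj h).1 : Matrix (Fin 2) (Fin 2) K) =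
    (mone : Matrix.SpecialLinearGroup (Fin 2) K).1 * (qj h).1 *
      (qi : Matrix.SpecialLinearGroup (Fin 2) K).1
  simp only [qi, qj, mone]
  ext i j
  fin_cases i <;> fin_cases j <;> simp [Matrix.mul_apply, Fin.sum_univ_two]

theorem card_center (p : ℕ) [CharP K p] (hp : p ≠ 2) :
    Nat.card (Subgroup.center (Matrix.SpecialLinearGroup (Fin 2) K)) = 2 := by
  rw [Nat.card_congr (Matrix.SpecialLinearGroup.center_equiv_rootsOfUnity' (0 : Fin 2)).toEquiv]
  simp only [Fintype.card_fin]
  exact (IsPrimitiveRoot.neg_one p hp).card_rootsOfUnity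

theorem center_le (h14 : (14 : K) = 0) :
    Subgroup.center (Matrix.SpecialLinearGroup (Fin 2) K) ≤ commutator (Matrix.SpecialLinearGroup (Fin 2) K) := by
  intro z hz
  rw [Matrix.SpecialLinearGroup.mem_center_iff] at hz
  obtain ⟨r, hr, hz⟩ := hz
  simp only [Fintype.card_fin] at hr
  have hr2 : r = 1 ∨ r = -1 := by
    have h1 : (r - 1) * (r + 1) = 0 := by linear_combination hr
    rcases mul_eq_zero.mp h1 with h | h
    · left; linear_combination h
    · right; linear_combination h
  rcases hr2 with rfl | rfl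
  · have h1 : z = 1 := by
      apply Subtype.ext
      rw [← hz]
      simp
    rw [h1]
    exact one_mem _
  · have h1 : z = mone := by
      apply Subtype.ext
      rw [← hz]
      ext i j
      fin_cases i <;> fin_cases j <;> simp [mone]
    rw [h1, ← comm_eq h14, commutator_def]
    exact Subgroup.commutator_mem_commutator (Subgroup.mem_top _) (Subgroup.mem_top _)

end

theorem main {Q : Type u} [Group Q] [Finite Q] {K : Type u} [Field K] [Fintype K]
    (hK : Fintype.card K = 7)
    (e : Matrix.ProjectiveSpecialLinearGroup (Fin 2) K ≃* Q) :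
    Cfsg.HasCyclicSchurMultiplier Q 2 := by
  classical
  obtain ⟨p, hp⟩ := CharP.exists K
  haveI := hp
  obtain ⟨n, hpp, hcard⟩ := FiniteField.card K p
  have hp7 : p = 7 := by
    have hdvd : p ∣ 7 := by
      rw [← hK, hcard]
      exact dvd_pow_self p n.ne_zero
    exact (Nat.prime_dvd_prime_iff_eq hpp (by norm_num)).mp hdvd
  subst hp7
  have h14 : (14 : K) = 0 := by
    have h : ((14 : ℕ) : K) = 0 := (CharP.cast_eq_zero_iff K 7 14).mpr (by norm_num)
    exact_mod_cast h
  let π : Matrix.SpecialLinearGroup (Fin 2) K →* Matrix.ProjectiveSpecialLinearGroup (Fin 2) K :=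
    QuotientGroup.mk' (Subgroup.center (Matrix.SpecialLinearGroup (Fin 2) K))
  let σ : Matrix.SpecialLinearGroup (Fin 2) K →* Q := e.toMonoidHom.comp π
  have hker : σ.ker = Subgroup.center (Matrix.SpecialLinearGroup (Fin 2) K) := by
    ext x
    rw [MonoidHom.mem_ker]
    change e (π x) = 1 ↔ _
    rw [← map_one e, e.injective.eq_iff]
    change (x : Matrix.SpecialLinearGroup (Fin 2) K ⧸ Subgroup.center (Matrix.SpecialLinearGroup (Fin 2) K)) = 1 ↔ _
    rw [QuotientGroup.eq_one_iff]
  have hstem : Cfsg.IsStemExtension σ := by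
    refine ⟨?_, ?_, ?_⟩
    · exact e.surjective.comp (QuotientGroup.mk'_surjective _)
    · rw [hker]
    · rw [hker]
      exact center_le h14
  have hcardker : Nat.card σ.ker = 2 := by
    rw [hker]
    exact card_center 7 (by norm_num)
  haveI : Fact (Nat.Prime 2) := ⟨Nat.prime_two⟩
  have iso : σ.ker ≃* Multiplicative (ZMod 2) :=
    mulEquivOfPrimeCardEq (p := 2) hcardker (by rw [Nat.card_eq_fintype_card]; rfl)
  have hΓ : Cfsg.HasCyclicSchurMultiplier (Matrix.SpecialLinearGroup (Fin 2) K) 1 :=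
    Cfsg.Agent.S2117.result (by rw [hK]; norm_num) (by rw [hK]; norm_num)
  refine ⟨⟨Matrix.SpecialLinearGroup (Fin 2) K, inferInstance, inferInstance, σ, hstem, ⟨iso⟩⟩, ?_⟩
  intro Δ _ _ τ hτ
  obtain ⟨ρ, hρ⟩ := Cfsg.Agent.S3958.result σ hstem hΓ Δ τ hτ
  exact ⟨ρ.comp iso.symm.toMonoidHom, hρ.comp iso.symm.surjective⟩

/-- Exceptional Schur multiplier: over the field with 2 elements, PSL₃ has Schur multiplier cyclic of order 2 (here the Schur multiplier is described through stem extensions, as in the definitions). -/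
theorem result {F : Type*} [Field F] [Fintype F] (hF : Fintype.card F = 2) : Cfsg.HasCyclicSchurMultiplier (Matrix.ProjectiveSpecialLinearGroup (Fin 3) F) 2 := by
  haveI : Fact (Nat.Prime 7) := ⟨by norm_num⟩
  have hK : Fintype.card (ULift.{u_1} (ZMod 7)) = 7 := by
    rw [Fintype.card_ulift, ZMod.card]
  obtain ⟨e⟩ := Cfsg.Agent.S0255.result (F := ULift.{u_1} (ZMod 7)) (K := F) hK hF
  exact main hK e

end Cfsg.Agent.S2087
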