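import Cfsg.Statements.S2116
import Mathlib
import Cfsg.Agent.Lib.helper33.SchurSix
import Cfsg.Agent.Lib.helper33.A7Cover
import Cfsg.Agent.Lib.helper33.A6Cover
import Cfsg.Agent.S0891

set_option autoImplicit false
open Cfsg

namespace Cfsg.Agent.S2116

open Cfsg.Agent.Lib.helper33 Cfsg.Agent.Lib.helper33.A7C
open scoped commutatorElement

/-- No square of a prime at least 5 divides 360 or 2520. -/
theorem no_sq (N : ℕ) (hN : N = 360 ∨ N = 2520) (p : ℕ) (hp : p.Prime) (h5 : 5 ≤ p) :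
    ¬ p ^ 2 ∣ N := by
  intro h
  have hle : p ^ 2 ≤ 2520 := by
    rcases hN with rfl | rfl
    · exact (Nat.le_of_dvd (by norm_num) h).trans (by norm_num)
    · exact Nat.le_of_dvd (by norm_num) h
  have hp50 : p ≤ 50 := by nlinarith
  rcases hN with rfl | rfl <;> interval_cases p <;>
    first | exact absurd h (by decide) | exact absurd hp (by decide)

/-- The double cover, from the statement S0891. -/
theorem two_part (n : ℕ) (hn : 4 ≤ n) :
    ∃ (Γ : Type) (_ : Group Γ) (τ : Γ →* alternatingGroup (Fin n)) (ω : Γ),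
      Function.Surjective τ ∧ τ.ker ≤ Subgroup.center Γ ∧ ω ∈ τ.ker ⊓ commutator Γ ∧
      orderOf ω = 2 := by
  obtain ⟨Γ, i1, i2, z, hz, hoz, hzc, hnorm, ⟨e⟩⟩ := Cfsg.Agent.S0891.result n hn
  have := hnorm
  refine ⟨Γ, i1, e.toMonoidHom.comp (QuotientGroup.mk' (Subgroup.zpowers z)), z, ?_, ?_, ?_, hoz⟩
  · exact e.surjective.comp (QuotientGroup.mk'_surjective _)
  · intro x hx
    have h1 : (QuotientGroup.mk' (Subgroup.zpowers z)) x = 1 := by
      apply e.injective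
      rw [map_one]
      exact hx
    have h2 : x ∈ Subgroup.zpowers z := (QuotientGroup.eq_one_iff x).1 h1
    exact (Subgroup.zpowers_le.2 hz) h2
  · refine Subgroup.mem_inf.2 ⟨?_, hzc⟩
    rw [MonoidHom.mem_ker]
    show e ((QuotientGroup.mk' (Subgroup.zpowers z)) z) = 1
    have h1 : (QuotientGroup.mk' (Subgroup.zpowers z)) z = 1 :=
      (QuotientGroup.eq_one_iff z).2 (Subgroup.mem_zpowers z)
    rw [h1, map_one]

/-- The criterion: dihedral Sylow 2-subgroup with conjugate involutions, elementary abelian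
Sylow 3-subgroup of order 9, no other squares of primes, and a double and a triple cover. -/
theorem six_of_data {G : Type} [Group G] [Finite G] (r s g1 g2 a b : G)
    (hd : (r * r) * (r * r) = 1 ∧ s * s = 1 ∧ (s * r) * (s * r) = 1 ∧
      (r * r) * s = s * (r * r) ∧ r * s * r⁻¹ = (r * r) * s ∧
      g1 * (r * r) * g1⁻¹ = s ∧ g2 * (r * r) * g2⁻¹ = s * r)
    (hc8 : 8 ≤ Nat.card (Subgroup.closure {x | x ∈ [s, r, r * r]}))
    (m2 : ℕ) (hm2 : Nat.Coprime m2 2) (hG2 : Nat.card G = 8 * m2)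
    (he : a ^ 3 = 1 ∧ b ^ 3 = 1 ∧ a * b = b * a)
    (hc9 : 9 ≤ Nat.card (Subgroup.closure ({a, b} : Set G)))
    (m3 : ℕ) (hm3 : Nat.Coprime m3 3) (hG3 : Nat.card G = 9 * m3)
    (hp : ∀ p : ℕ, p.Prime → 5 ≤ p → ¬ p ^ 2 ∣ Nat.card G)
    (h2 : ∃ (Γ : Type) (_ : Group Γ) (τ : Γ →* G) (ω : Γ),
      Function.Surjective τ ∧ τ.ker ≤ Subgroup.center Γ ∧ ω ∈ τ.ker ⊓ commutator Γ ∧
      orderOf ω = 2)
    (h3 : ∃ (Γ : Type) (_ : Group Γ) (τ : Γ →* G) (ω : Γ),
      Function.Surjective τ ∧ τ.ker ≤ Subgroup.center Γ ∧ ω ∈ τ.ker ⊓ commutator Γ ∧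
      orderOf ω = 3) :
    Cfsg.HasCyclicSchurMultiplier G 6 := by
  obtain ⟨Γ2, _, τ2, ω2, h2s, h2c, hω2, ho2⟩ := h2
  obtain ⟨Γ3, _, τ3, ω3, h3s, h3c, hω3, ho3⟩ := h3
  refine hasCyclicSchurMultiplier_six ?_ τ2 h2s h2c ω2 hω2 ho2 τ3 h3s h3c ω3 hω3 ho3
  refine card_ker_dvd_six ?_ ?_ ?_
  · intro p hpp h5 Γ _ _ σ hσ
    exact pstem_false_of_sq_not_dvd hpp hσ (hp p hpp h5)
  · exact no_ker_four_of_D8 r s g1 g2 hd.1 hd.2.1 hd.2.2.1 hd.2.2.2.1 hd.2.2.2.2.1
      hd.2.2.2.2.2.1 hd.2.2.2.2.2.2 hc8 m2 hm2 hG2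
  · exact no_ker_nine_of_E9 a b he.1 he.2.1 he.2.2 hc9 m3 hm3 hG3

/-- Exceptional Schur multipliers of the alternating groups: for n = 6 and n = 7 the Schur multiplier of the alternating group of degree n is cyclic of order 6 (here the Schur multiplier is described through stem extensions, as in the definitions). -/
theorem result (n : ℕ) (hn : n = 6 ∨ n = 7) : Cfsg.HasCyclicSchurMultiplier (alternatingGroup (Fin n)) 6 := by
  rcases hn with rfl | rfl
  · refine six_of_data dR dS dG1 dG2 dA dB d8_rel6 card_D8_6 45 (by norm_num)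
      (by rw [card_alt6]) e9_rel6 card_E9_6 40 (by norm_num) (by rw [card_alt6])
      (fun p hp h5 => by rw [card_alt6]; exact no_sq 360 (Or.inl rfl) p hp h5)
      (two_part 6 (by norm_num)) ?_
    obtain ⟨ω, hω, ho⟩ := exists_three_six
    exact ⟨pull emb σ3, inferInstance, pullFst emb σ3, ω, pullFst_surjective emb σ3 σ3_surjective,
      pullFst_ker_le_center emb σ3 ker_le_center, hω, ho⟩
  · exact six_of_data eR eS eG1 eG2 eA eB d8_rel card_D8 315 (by norm_num)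
      (by rw [card_alt7]) e9_rel card_E9 280 (by norm_num) (by rw [card_alt7])
      (fun p hp h5 => by rw [card_alt7]; exact no_sq 2520 (Or.inr rfl) p hp h5)
      (two_part 7 (by norm_num))
      ⟨cover, inferInstance, σ3, ⁅LA, LB⁆, σ3_surjective, ker_le_center, comm_mem, orderOf_comm⟩

end Cfsg.Agent.S2116
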