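import Cfsg.Statements.S2118
import Mathlib
import Cfsg.Agent.Lib.helper69.Metacyclic
import Cfsg.Agent.Lib.helper6.SL29Cover

set_option autoImplicit false
open Cfsg

namespace Cfsg.Agent.S2118

/-- For the field with 9 elements, the special linear group SL₂ has Schur multiplier cyclic of order 3 (here the Schur multiplier is described through stem extensions, as in the definitions). -/
theorem result {F : Type*} [Field F] [Fintype F] (hF : Fintype.card F = 9) : Cfsg.HasCyclicSchurMultiplier (Matrix.SpecialLinearGroup (Fin 2) F) 3 := by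
  obtain ⟨Δ, _, τ, hτ, hker, ω, hω, hord⟩ := Cfsg.Agent.Lib.helper6.SL29.exists_cover hF
  exact Cfsg.Agent.Lib.helper69.hasCyclicSchurMultiplier_of_bounds 3 (by norm_num)
    (fun Γ _ _ σ hσ => Cfsg.Agent.Lib.helper6.SL29.stem_ker_cyclic hF σ hσ) τ hτ hker ω hω hord

end Cfsg.Agent.S2118
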