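import Cfsg.Statements.S2131
import Cfsg.Agent.Lib.helper61.J1Main
import Cfsg.Agent.Lib.helper61.Special6

set_option autoImplicit false
open Cfsg

namespace Cfsg.Agent.S2131

open Cfsg.Agent.Lib.helper61.J1

theorem wordM_tw : wordM tw = tm := by
  have h := tw_check
  rw [wordF_eq] at h
  exact M7.eq_of_beq h

theorem wordM_aw : wordM aw = am := by
  have h := aw_check
  rw [wordF_eq] at h
  exact M7.eq_of_beq h

theorem wordM_bw : wordM bw = bm := by
  have h := bw_check
  rw [wordF_eq] at h
  exact M7.eq_of_beq h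

theorem tm_normed : tm.normed := by
  rw [← wordM_tw]
  exact wordM_normed tw (by decide)

theorem am_normed : am.normed := by
  rw [← wordM_aw]
  exact wordM_normed aw (by decide)

theorem facts : mul am tm = mul tm am ∧ mul bm tm = mul tm bm ∧ pwP am 3 = one ∧
    pwP bm 5 = one ∧ pwP (mul am bm) 2 = one ∧ am ≠ one ∧ pwP tm 2 = one ∧ tm ≠ one := by
  obtain ⟨h1, h2, h3, h4, h5, h6, h7, h8⟩ := ab_check
  simp only [mulF_eq, pwF_eq] at h1 h2 h3 h4 h5 h7
  exact ⟨M7.eq_of_beq h1, M7.eq_of_beq h2, M7.eq_of_beq h3, M7.eq_of_beq h4, M7.eq_of_beq h5,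
    M7.ne_of_beq h6, M7.eq_of_beq h7, M7.ne_of_beq h8⟩

/-- The involution, in `GL₇(11)`. -/
def tG : GL (Fin 7) (ZMod 11) := wordGL tw

/-- An element of order 3 commuting with the involution. -/
def aG : GL (Fin 7) (ZMod 11) := wordGL aw

/-- An element of order 5 commuting with the involution. -/
def bG : GL (Fin 7) (ZMod 11) := wordGL bw

theorem tG_val : (tG : Matrix (Fin 7) (Fin 7) (ZMod 11)) = toMat tm := by
  rw [tG, wordGL_val, wordM_tw]

theorem aG_val : (aG : Matrix (Fin 7) (Fin 7) (ZMod 11)) = toMat am := by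
  rw [aG, wordGL_val, wordM_aw]

theorem bG_val : (bG : Matrix (Fin 7) (Fin 7) (ZMod 11)) = toMat bm := by
  rw [bG, wordGL_val, wordM_bw]

theorem tG_sq : tG ^ 2 = 1 := by
  apply Units.ext
  rw [Units.val_pow_eq_pow_val, tG_val, ← toMat_pwP _ (by decide), facts.2.2.2.2.2.2.1, toMat_one,
    Units.val_one]

theorem tG_ne : tG ≠ 1 := by
  intro h
  apply facts.2.2.2.2.2.2.2
  apply toMat_inj tm_normed one_normed
  rw [← tG_val, h, Units.val_one, toMat_one]

theorem aG_cube : aG ^ 3 = 1 := by
  apply Units.ext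
  rw [Units.val_pow_eq_pow_val, aG_val, ← toMat_pwP _ (by decide), facts.2.2.1, toMat_one,
    Units.val_one]

theorem bG_five : bG ^ 5 = 1 := by
  apply Units.ext
  rw [Units.val_pow_eq_pow_val, bG_val, ← toMat_pwP _ (by decide), facts.2.2.2.1, toMat_one,
    Units.val_one]

theorem abG_sq : (aG * bG) ^ 2 = 1 := by
  apply Units.ext
  rw [Units.val_pow_eq_pow_val, Units.val_mul, aG_val, bG_val, ← toMat_mul,
    ← toMat_pwP _ (by decide), facts.2.2.2.2.1, toMat_one, Units.val_one]

theorem aG_ne : aG ≠ 1 := by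
  intro h
  apply facts.2.2.2.2.2.1
  apply toMat_inj am_normed one_normed
  rw [← aG_val, h, Units.val_one, toMat_one]

theorem a_comm : aG * tG = tG * aG := by
  apply Units.ext
  rw [Units.val_mul, Units.val_mul, aG_val, tG_val, ← toMat_mul, ← toMat_mul, facts.1]

theorem b_comm : bG * tG = tG * bG := by
  apply Units.ext
  rw [Units.val_mul, Units.val_mul, bG_val, tG_val, ← toMat_mul, ← toMat_mul, facts.2.1]

theorem S_comm {s : M7} (hs : s ∈ Slist) : toMat s * toMat tm = toMat tm * toMat s := by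
  have h := chkT_true
  unfold chkT at h
  rw [List.all_eq_true] at h
  have h1 := h s hs
  simp only [mulF_eq] at h1
  have h2 := congrArg toMat (M7.eq_of_beq h1)
  rwa [toMat_mul, toMat_mul] at h2

theorem R_not_comm {blk : M7 × List ℕ} (hb : blk ∈ Blocks.drop 1) :
    toMat blk.1 * toMat tm ≠ toMat tm * toMat blk.1 := by
  have h := chkR_true
  unfold chkR at h
  rw [List.all_eq_true] at h
  have h1 := h blk hb
  simp only [mulF_eq, Bool.not_eq_true'] at h1
  intro hcon
  apply M7.ne_of_beq h1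
  apply toMat_inj (mul_normed _ _) (mul_normed _ _)
  rw [toMat_mul, toMat_mul]
  exact hcon

theorem Blocks_eq : Blocks = (one, [0]) :: Blocks.drop 1 := by rfl

/-- A cancellation lemma for square matrices. -/
theorem cancel_comm (A R B Tm Xv X' : Matrix (Fin 7) (Fin 7) (ZMod 11))
    (hM : Xv = A * (R * B)) (hxx : Xv * X' = 1)
    (hA : A * Tm = Tm * A) (hB : B * Tm = Tm * B) (hcm : Xv * Tm = Tm * Xv) :
    R * Tm = Tm * R := by
  subst hM
  have hxx' : X' * (A * (R * B)) = 1 := mul_eq_one_comm.mp hxx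
  have hAinv : A * (R * B * X') = 1 := by
    rw [← hxx]; simp only [mul_assoc]
  have hAinv' : (R * B * X') * A = 1 := mul_eq_one_comm.mp hAinv
  have hBinv : (X' * (A * R)) * B = 1 := by
    rw [← hxx']; simp only [mul_assoc]
  have hBinv' : B * (X' * (A * R)) = 1 := mul_eq_one_comm.mp hBinv
  have h1 : A * (R * Tm) * B = A * (Tm * R) * B := by
    calc A * (R * Tm) * B = A * R * (Tm * B) := by simp only [mul_assoc]
      _ = A * R * (B * Tm) := by rw [hB]
      _ = (A * (R * B)) * Tm := by simp only [mul_assoc]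
      _ = Tm * (A * (R * B)) := hcm
      _ = (Tm * A) * (R * B) := by simp only [mul_assoc]
      _ = (A * Tm) * (R * B) := by rw [hA]
      _ = A * (Tm * R) * B := by simp only [mul_assoc]
  calc R * Tm = (R * B * X' * A) * (R * Tm) * (B * (X' * (A * R))) := by
        rw [hAinv', hBinv', one_mul, mul_one]
    _ = (R * B * X') * (A * (R * Tm) * B) * (X' * (A * R)) := by simp only [mul_assoc]
    _ = (R * B * X') * (A * (Tm * R) * B) * (X' * (A * R)) := by rw [h1]
    _ = (R * B * X' * A) * (Tm * R) * (B * (X' * (A * R))) := by simp only [mul_assoc]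
    _ = Tm * R := by rw [hAinv', hBinv', one_mul, mul_one]

/-- An element of `J₁` commuting with the involution has its matrix in the list `Slist`. -/
theorem cent_sub {x : GL (Fin 7) (ZMod 11)} (hx : x ∈ Cfsg.Spor.J1) (hc : x * tG = tG * x) :
    ∃ s ∈ Slist, (x : Matrix (Fin 7) (Fin 7) (ZMod 11)) = toMat s := by
  obtain ⟨s, hs, blk, hblk, k, hk, hM⟩ := J1_sub hx
  have hcm : (x : Matrix (Fin 7) (Fin 7) (ZMod 11)) * toMat tm =
      toMat tm * (x : Matrix (Fin 7) (Fin 7) (ZMod 11)) := by
    have h1 := congrArg Units.val hc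
    rwa [Units.val_mul, Units.val_mul, tG_val] at h1
  have hA : toMat s * toMat tm = toMat tm * toMat s := S_comm hs
  have hB : toMat (Sget k) * toMat tm = toMat tm * toMat (Sget k) := S_comm (Sget_mem k)
  have hxx : (x : Matrix (Fin 7) (Fin 7) (ZMod 11)) *
      ((x⁻¹ : GL (Fin 7) (ZMod 11)) : Matrix (Fin 7) (Fin 7) (ZMod 11)) = 1 := by
    rw [← Units.val_mul, mul_inv_cancel, Units.val_one]
  have hR := cancel_comm _ _ _ _ _ _ hM hxx hA hB hcm
  rw [Blocks_eq, List.mem_cons] at hblk
  rcases hblk with hb | hb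
  · subst hb
    simp only [List.mem_singleton] at hk
    subst hk
    refine ⟨s, hs, ?_⟩
    rw [hM]
    have h0 : Sget 0 = one := by rfl
    rw [h0, toMat_one, mul_one, mul_one]
  · exact absurd hR (R_not_comm hb)

/-- Recognition of `2 × A₅`: a group of order at most `120` with a central involution and a
`(2,3,5)`-generated subgroup. -/
theorem prod_recog {C : Type*} [Group C] [Finite C] (t a b : C) (ht2 : t ^ 2 = 1) (ht : t ≠ 1)
    (hcen : ∀ c : C, Commute t c) (ha : a ^ 3 = 1) (hb : b ^ 5 = 1) (hab : (a * b) ^ 2 = 1)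
    (hne : a ≠ 1) (hcard : Nat.card C ≤ 120) :
    Nonempty (C ≃* Multiplicative (ZMod 2) × ↥(alternatingGroup (Fin 5))) := by
  classical
  obtain ⟨eA⟩ := Cfsg.Agent.Lib.helper61.CycGen.closure_equiv_A5 a b ha hb hab hne
  set A : Subgroup C := Subgroup.closure ({a, b} : Set C) with hA
  set Z : Subgroup C := Subgroup.zpowers t with hZ
  haveI : Fact (Nat.Prime 2) := ⟨Nat.prime_two⟩
  have hot : orderOf t = 2 := orderOf_eq_prime ht2 ht
  have hZcard : Nat.card Z = 2 := by rw [hZ, Nat.card_zpowers, hot]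
  have hAcard : Nat.card A = 60 := by
    rw [Nat.card_congr eA.toEquiv, Nat.card_eq_fintype_card]
    decide
  -- `t ∉ A`
  have htA : t ∉ A := by
    intro hmem
    have hc : (⟨t, hmem⟩ : A) ∈ Subgroup.center A := by
      rw [Subgroup.mem_center_iff]
      intro g
      apply Subtype.ext
      exact ((hcen g.1).eq).symm
    have hc2 : eA ⟨t, hmem⟩ ∈ Subgroup.center (alternatingGroup (Fin 5)) := by
      rw [Subgroup.mem_center_iff]
      intro g
      have h1 := Subgroup.mem_center_iff.mp hc (eA.symm g)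
      have h2 := congrArg eA h1
      rw [map_mul, map_mul, MulEquiv.apply_symm_apply] at h2
      exact h2
    rw [alternatingGroup.center_eq_bot (by simp), Subgroup.mem_bot] at hc2
    have h3 : (⟨t, hmem⟩ : A) = 1 := by
      rw [← map_one eA] at hc2
      exact eA.injective hc2
    exact ht (congrArg Subtype.val h3)
  have hZmem : ∀ z ∈ Z, z = 1 ∨ z = t := by
    intro z hz
    rw [hZ, Subgroup.mem_zpowers_iff] at hz
    obtain ⟨k, rfl⟩ := hz
    rcases Int.emod_two_eq_zero_or_one k with h | h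
    · left
      have : k = 2 * (k / 2) := by omega
      rw [this, zpow_mul, zpow_ofNat, ht2, one_zpow]
    · right
      have : k = 2 * (k / 2) + 1 := by omega
      rw [this, zpow_add, zpow_mul, zpow_ofNat, ht2, one_zpow, one_mul, zpow_one]
  have hcomm : ∀ (m : Z) (n : A), Commute (Z.subtype m) (A.subtype n) := by
    intro m n
    rcases hZmem m.1 m.2 with h | h
    · simp only [Subgroup.coe_subtype, h]
      exact Commute.one_left _
    · simp only [Subgroup.coe_subtype, h]
      exact hcen _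
  let ψ : Z × A →* C := Z.subtype.noncommCoprod A.subtype hcomm
  have hinj : Function.Injective ψ := by
    rw [MonoidHom.noncommCoprod_injective]
    refine ⟨Subtype.val_injective, Subtype.val_injective, ?_⟩
    rw [Subgroup.range_subtype, Subgroup.range_subtype, disjoint_iff, eq_bot_iff]
    intro z hz
    rw [Subgroup.mem_inf] at hz
    rw [Subgroup.mem_bot]
    rcases hZmem z hz.1 with h | h
    · exact h
    · exact absurd (h ▸ hz.2) htA
  have hbij : Function.Bijective ψ := by
    apply hinj.bijective_of_nat_card_le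
    rw [Nat.card_prod, hZcard, hAcard]
    exact hcard
  have eZ : Z ≃* Multiplicative (ZMod 2) :=
    mulEquivOfPrimeCardEq (p := 2) hZcard (by rw [Nat.card_eq_fintype_card]; rfl)
  exact ⟨(MulEquiv.ofBijective ψ hbij).symm.trans (MulEquiv.prodCongr eZ eA)⟩

/-- The involution, as an element of `J₁`. -/
def T : ↥Cfsg.Spor.J1 := ⟨tG, wordGL_mem tw⟩

theorem T_sq : T ^ 2 = 1 := by
  apply Subtype.ext
  rw [Subgroup.coe_pow, Subgroup.coe_one]
  exact tG_sq

theorem T_ne : T ≠ 1 := by
  intro h
  exact tG_ne (congrArg Subtype.val h)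

theorem card_C_le :
    Nat.card ↥(Subgroup.centralizer ({T} : Set ↥Cfsg.Spor.J1)) ≤ 120 := by
  have hex : ∀ c : ↥(Subgroup.centralizer ({T} : Set ↥Cfsg.Spor.J1)),
      ∃ i : Fin Slist.length, ((c.1.1 : GL (Fin 7) (ZMod 11)) :
        Matrix (Fin 7) (Fin 7) (ZMod 11)) = toMat (Slist[i]) := by
    intro c
    have hc : T * c.1 = c.1 * T := Subgroup.mem_centralizer_iff.mp c.2 T rfl
    obtain ⟨s, hs, h⟩ := cent_sub c.1.2 (congrArg Subtype.val hc).symm
    obtain ⟨i, hi, rfl⟩ := List.getElem_of_mem hs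
    exact ⟨⟨i, hi⟩, h⟩
  choose f hf using hex
  have hinj : Function.Injective f := by
    intro c d hcd
    apply Subtype.ext
    apply Subtype.ext
    apply Units.ext
    rw [hf c, hf d, hcd]
  have h := Nat.card_le_card_of_injective f hinj
  rwa [Nat.card_fin, Slist_length] at h

theorem T_mem : T ∈ Subgroup.centralizer ({T} : Set ↥Cfsg.Spor.J1) := by
  rw [Subgroup.mem_centralizer_iff]
  intro h hh
  rw [Set.mem_singleton_iff] at hh
  rw [hh]

theorem A_mem : (⟨aG, wordGL_mem aw⟩ : ↥Cfsg.Spor.J1) ∈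
    Subgroup.centralizer ({T} : Set ↥Cfsg.Spor.J1) := by
  rw [Subgroup.mem_centralizer_iff]
  intro h hh
  rw [Set.mem_singleton_iff] at hh
  rw [hh]
  apply Subtype.ext
  exact a_comm.symm

theorem B_mem : (⟨bG, wordGL_mem bw⟩ : ↥Cfsg.Spor.J1) ∈
    Subgroup.centralizer ({T} : Set ↥Cfsg.Spor.J1) := by
  rw [Subgroup.mem_centralizer_iff]
  intro h hh
  rw [Set.mem_singleton_iff] at hh
  rw [hh]
  apply Subtype.ext
  exact b_comm.symm

/-- The Janko group J₁ (the group generated by two explicit 7 × 7 matrices over the integers modulo 11) has an involution whose centraliser is isomorphic to the direct product of a group of order 2 with the alternating group of degree 5. -/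
theorem result : ∃ t : ↥Cfsg.Spor.J1, orderOf t = 2 ∧ Nonempty (↥(Subgroup.centralizer ({t} : Set ↥Cfsg.Spor.J1)) ≃* Multiplicative (ZMod 2) × ↥(alternatingGroup (Fin 5))) := by
  haveI : Fact (Nat.Prime 2) := ⟨Nat.prime_two⟩
  refine ⟨T, orderOf_eq_prime T_sq T_ne, ?_⟩
  haveI : Finite ↥(Subgroup.centralizer ({T} : Set ↥Cfsg.Spor.J1)) := inferInstance
  refine prod_recog (⟨T, T_mem⟩ : ↥(Subgroup.centralizer ({T} : Set ↥Cfsg.Spor.J1)))
    ⟨_, A_mem⟩ ⟨_, B_mem⟩ ?_ ?_ ?_ ?_ ?_ ?_ ?_ card_C_le
  · apply Subtype.ext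
    rw [Subgroup.coe_pow, Subgroup.coe_one]
    exact T_sq
  · intro h
    exact T_ne (congrArg Subtype.val h)
  · intro c
    apply Subtype.ext
    exact Subgroup.mem_centralizer_iff.mp c.2 T rfl
  · apply Subtype.ext
    apply Subtype.ext
    exact aG_cube
  · apply Subtype.ext
    apply Subtype.ext
    exact bG_five
  · apply Subtype.ext
    apply Subtype.ext
    exact abG_sq
  · intro h
    exact aG_ne (congrArg Subtype.val (congrArg Subtype.val h))

end Cfsg.Agent.S2131
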