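-- Statement S2149 (row 2149): minimal index of a proper subgroup of PSU₃(5).
-- Proof: helper94 (concrete field with 25 elements, packed 3 x 3 matrices, kernel-checked certificates)
-- with abstract pieces by helper70, helper96, helper53, helper77, helper72, helper27, helper39, helper17, helper58.
import Cfsg.Statements.S2149
import Cfsg.Agent.Lib.helper94.U35Main

set_option autoImplicit false
open Cfsg

namespace Cfsg.Agent.S2149

/-- Minimal index of a proper subgroup of PSU₃(5), realised over the field with 25 elements: every proper subgroup has index at least 50, and that index is attained. -/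
theorem result {F : Type*} [Field F] [Fintype F] (hF : Fintype.card F = 25) : (∀ H : Subgroup (Cfsg.PSU 3 F 5), H ≠ ⊤ → 50 ≤ H.index) ∧ (∃ H : Subgroup (Cfsg.PSU 3 F 5), H.index = 50) :=
  Cfsg.Agent.Lib.helper94.u35_result hF

end Cfsg.Agent.S2149
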