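import Cfsg.Statements.S2157
-- import your own Cfsg.Agent.* helpers here

set_option autoImplicit false
open Cfsg

namespace Cfsg.Agent.S2157

open Cfsg.Lie

/-- walk along a chain: each step is a `chainRoot r prev 1 = some next` fact with `prev` in range. -/
def walk (D : ChevalleyDatum) (r : ℕ) : ℕ → List (ℕ × ℤ) → Bool
  | _, [] => true
  | prev, (u, _) :: rest => decide (prev < D.nroots) && (D.chainRoot r prev 1 == some u) && walk D r u rest

def chainOK (D : ChevalleyDatum) : Bool :=
  (List.range D.nroots).all fun r => (D.chain.getD r #[]).toList.all fun e => walk D r e.1 e.2.toList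

theorem walk_spec {F : Type*} [Field F] (D : ChevalleyDatum) (χ : ℕ → Fˣ) (hχ : D.IsRootCharacter χ)
    (r : ℕ) (hr : r < D.nroots) :
    ∀ (lst : List (ℕ × ℤ)) (prev : ℕ), walk D r prev lst = true →
      ∀ (j : ℕ) (u : ℕ) (M : ℤ), lst[j]? = some (u, M) → χ u = χ r ^ (j + 1) * χ prev := by
  intro lst
  induction lst with
  | nil => intro prev _ j u M h; simp at h
  | cons a rest ih =>
    intro prev hw j u M hj
    obtain ⟨u0, M0⟩ := a
    simp only [walk, Bool.and_eq_true, decide_eq_true_eq, beq_iff_eq] at hw
    obtain ⟨⟨hprev, hstep⟩, hrest⟩ := hw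
    have h1 : χ u0 = χ r * χ prev := hχ.2 r prev u0 hr hprev hstep
    cases j with
    | zero =>
      simp only [List.getElem?_cons_zero, Option.some.injEq, Prod.mk.injEq] at hj
      rw [← hj.1, h1]; simp
    | succ j =>
      simp only [List.getElem?_cons_succ] at hj
      rw [ih u0 hrest j u M hj, h1, ← mul_assoc, ← pow_succ]

theorem chainCoeff_spec {F : Type*} [Field F] (D : ChevalleyDatum) (hOK : chainOK D = true)
    (χ : ℕ → Fˣ) (hχ : D.IsRootCharacter χ)
    (r : ℕ) (hr : r < D.nroots) (s u : ℕ) (km : ℕ × ℤ) (hkm : km ∈ D.chainCoeff r s u) :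
    χ u = χ r ^ km.1 * χ s := by
  unfold ChevalleyDatum.chainCoeff at hkm
  simp only [List.mem_flatMap, List.mem_filter, List.mem_map, decide_eq_true_eq] at hkm
  obtain ⟨e, ⟨he, hes⟩, q, ⟨hq, hqu⟩, rfl⟩ := hkm
  obtain ⟨⟨u', M⟩, j⟩ := q
  rw [List.mem_zipIdx_iff_getElem?] at hq
  simp only at hqu hq
  subst hqu
  simp only [chainOK, List.all_eq_true, List.mem_range] at hOK
  have hw := hOK r hr e he
  have := walk_spec D χ hχ r hr e.2.toList e.1 hw j u' M hq
  rw [hes] at this
  exact this

theorem key {F : Type*} [Field F] (D : ChevalleyDatum) (hOK : chainOK D = true) (χ : ℕ → Fˣ)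
    (hχ : D.IsRootCharacter χ) (r : ℕ) (hr : r < D.nroots) (t : F) :
    D.charDiag F χ * D.x F r t * D.charDiag F (fun s => (χ s)⁻¹) = D.x F r ((χ r : F) * t) := by
  unfold ChevalleyDatum.x
  rw [dif_pos hr, dif_pos hr]
  unfold ChevalleyDatum.charDiag
  ext row col
  rw [Matrix.mul_diagonal, Matrix.diagonal_mul]
  have hneg : χ (D.negIdx.getD r 0) = (χ r)⁻¹ := hχ.1 r hr
  rcases col with i | s
  · rcases row with i' | u
    · simp [ChevalleyDatum.xMat]
    · simp only [ChevalleyDatum.xMat, Matrix.of_apply, Sum.elim_inr, Sum.elim_inl]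
      by_cases hu : u = ⟨r, hr⟩
      · subst hu
        simp only [if_true]
        ring
      · simp [hu]
  · simp only [ChevalleyDatum.xMat, Matrix.of_apply, Sum.elim_inr]
    by_cases hs : s = ⟨r, hr⟩
    · subst hs
      simp only [if_true]
      rcases row with i' | u
      · simp
      · by_cases hu : u = ⟨r, hr⟩
        · subst hu; simp
        · simp [hu]
    · simp only [if_neg hs]
      by_cases hs2 : s.val = D.negIdx.getD r 0
      · simp only [if_pos hs2]
        have hχs : (χ s.val) = (χ r)⁻¹ := by rw [hs2]; exact hneg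
        rcases row with i' | u
        · simp only [Sum.elim_inl, one_mul]
          rw [hχs]; simp; ring
        · simp only [Sum.elim_inr]
          by_cases hu : u = s
          · subst hu; simp
          · simp only [if_neg hu]
            by_cases hu2 : u = ⟨r, hr⟩
            · subst hu2
              simp only [if_true]
              rw [hχs]; simp; ring
            · simp [hu2]
      · simp only [if_neg hs2]
        rcases row with i' | u
        · simp
        · simp only [Sum.elim_inr]
          rw [mul_add, add_mul]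
          congr 1
          · by_cases hu : u = s
            · subst hu; simp
            · simp [hu]
          · rw [← List.sum_map_mul_left, ← List.sum_map_mul_right]
            congr 1
            apply List.map_congr_left
            intro km hkm
            have := chainCoeff_spec D hOK χ hχ r hr s.val u.val km hkm
            rw [this]
            push_cast
            field_simp
            ring


theorem okG2 : chainOK chevG2 = true := by decide +kernel
theorem okB2 : chainOK chevB2 = true := by decide +kernel
theorem okD4 : chainOK chevD4 = true := by decide +kernel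
theorem okF4 : chainOK chevF4 = true := by decide +kernel
theorem okE6 : chainOK chevE6 = true := by decide +kernel
theorem okE7 : chainOK chevE7 = true := by decide +kernel
theorem okE8 : chainOK chevE8 = true := by decide +kernel


/-- In a Chevalley group of type G₂, B₂, D₄, F₄, E₆, E₇ or E₈, for every character `χ` of the root lattice with values in `Fˣ` the diagonal matrix `ĥ(χ)` (identity on the coroot coordinates, `χ(s)` on the coordinate of `e_s`) conjugates each root element `x_r(t)` to `x_r(χ(r) t)`: `ĥ(χ) x_r(t) ĥ(χ)⁻¹ = x_r(χ(r) t)` as matrices, with `ĥ(χ)⁻¹` written as `ĥ(χ⁻¹)`. -/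
theorem result {F : Type*} [Field F] (D : Cfsg.Lie.ChevalleyDatum) (hD : D ∈ [Cfsg.Lie.chevG2, Cfsg.Lie.chevB2, Cfsg.Lie.chevD4, Cfsg.Lie.chevF4, Cfsg.Lie.chevE6, Cfsg.Lie.chevE7, Cfsg.Lie.chevE8]) (χ : ℕ → Fˣ) (hχ : D.IsRootCharacter χ) (r : ℕ) (hr : r < D.nroots) (t : F) :
    D.charDiag F χ * D.x F r t * D.charDiag F (fun s => (χ s)⁻¹) = D.x F r ((χ r : F) * t) := by
  simp only [List.mem_cons, List.not_mem_nil, or_false] at hD
  rcases hD with rfl | rfl | rfl | rfl | rfl | rfl | rfl
  · exact key _ okG2 χ hχ r hr t
  · exact key _ okB2 χ hχ r hr t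
  · exact key _ okD4 χ hχ r hr t
  · exact key _ okF4 χ hχ r hr t
  · exact key _ okE6 χ hχ r hr t
  · exact key _ okE7 χ hχ r hr t
  · exact key _ okE8 χ hχ r hr t

end Cfsg.Agent.S2157
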