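import Cfsg.Statements.S2158
import Cfsg.Agent.S2157
import Cfsg.Agent.Lib.helper41.ChevAll
import Cfsg.Agent.Lib.helper41.ChevDiag

set_option autoImplicit false
open Cfsg

namespace Cfsg.Agent.S2158

open Cfsg.Lie Cfsg.Agent.Lib.helper41 Cfsg.Agent.Lib.helper22

/-- In a Chevalley group of type G₂, B₂, D₄, F₄, E₆, E₇ or E₈ over any field, an element of the group whose matrix is the diagonal matrix `ĥ(χ)` of a character `χ` of the root lattice already lies in the diagonal subgroup H (the non-trivial inclusion of the statement that the group meets the group of all such diagonal matrices in H). -/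
theorem result {F : Type*} [Field F] (D : Cfsg.Lie.ChevalleyDatum) (hD : D ∈ [Cfsg.Lie.chevG2, Cfsg.Lie.chevB2, Cfsg.Lie.chevD4, Cfsg.Lie.chevF4, Cfsg.Lie.chevE6, Cfsg.Lie.chevE7, Cfsg.Lie.chevE8]) (χ : ℕ → Fˣ) (hχ : D.IsRootCharacter χ) (g : GL D.Idx F) (hg : g ∈ D.group F)
    (hgχ : (g : Matrix D.Idx D.Idx F) = D.charDiag F χ) : g ∈ D.diagonalSubgroup F := by
  obtain ⟨P⟩ := chevPkg_all D hD F
  have hact : RootAct D F (g : Matrix D.Idx D.Idx F) (fun s => s) (fun s => (χ s : F)) := by
    intro s hs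
    refine ⟨hs, rfl, fun t => ?_⟩
    have h1 := Cfsg.Agent.S2157.result D hD χ hχ s hs t
    have h2 : D.charDiag F (fun s => (χ s)⁻¹) * D.charDiag F χ = 1 := by
      unfold ChevalleyDatum.charDiag
      rw [Matrix.diagonal_mul_diagonal, ← Matrix.diagonal_one]
      congr 1
      funext x
      rcases x with i | s
      · simp
      · simp
    rw [hgχ, ← h1, mul_assoc, mul_assoc, h2, mul_one]
  exact mem_diag_of_rootAct_diagonal P.I P.hp P.hA P.hpn P.hN P.hBG P.hNG P.hG hg hgχ hact

end Cfsg.Agent.S2158
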