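import Cfsg.Statements.S2160
import Cfsg.Agent.Lib.helper41.ChevGenG2
import Cfsg.Agent.Lib.helper41.ChevGenB2
import Cfsg.Agent.Lib.helper41.ChevGenD4
import Cfsg.Agent.Lib.helper41.ChevGenF4
import Cfsg.Agent.Lib.helper41.ChevGenE6
import Cfsg.Agent.Lib.helper41.ChevGenE7
import Cfsg.Agent.Lib.helper41.ChevGenE8

set_option autoImplicit false
open Cfsg

namespace Cfsg.Agent.S2160

/-- In a Chevalley group of type G₂, B₂, D₄, F₄, E₆, E₇ or E₈ over a finite field, every field automorphism commutes with every graph automorphism. -/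
theorem result {F : Type*} [Field F] [Finite F] (D : Cfsg.Lie.ChevalleyDatum) (hD : D ∈ [Cfsg.Lie.chevG2, Cfsg.Lie.chevB2, Cfsg.Lie.chevD4, Cfsg.Lie.chevF4, Cfsg.Lie.chevE6, Cfsg.Lie.chevE7, Cfsg.Lie.chevE8]) (f g : ↥(D.group F) ≃* ↥(D.group F))
    (hf : D.IsFieldAut f) (hg : D.IsGraphAut g) (y : ↥(D.group F)) : f (g y) = g (f y) := by
  simp only [List.mem_cons, List.not_mem_nil, or_false] at hD
  rcases hD with rfl | rfl | rfl | rfl | rfl | rfl | rfl
  · exact Cfsg.Agent.Lib.helper41.TabG2.fieldGraphComm f g hf hg y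
  · exact Cfsg.Agent.Lib.helper41.TabB2.fieldGraphComm f g hf hg y
  · exact Cfsg.Agent.Lib.helper41.TabD4.fieldGraphComm f g hf hg y
  · exact Cfsg.Agent.Lib.helper41.TabF4.fieldGraphComm f g hf hg y
  · exact Cfsg.Agent.Lib.helper41.TabE6.fieldGraphComm f g hf hg y
  · exact Cfsg.Agent.Lib.helper41.TabE7.fieldGraphComm f g hf hg y
  · exact Cfsg.Agent.Lib.helper41.TabE8.fieldGraphComm f g hf hg y

end Cfsg.Agent.S2160
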