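import Cfsg.Statements.S2162
-- import your own Cfsg.Agent.* helpers here

set_option autoImplicit false
open Cfsg

namespace Cfsg.Agent.S2162

open Module

section adapted

variable {F : Type*} [Field F] {V : Type*} [AddCommGroup V] [Module F V] [FiniteDimensional F V]

/-- A basis adapted to a square-zero endomorphism. -/
def Adapted (N : V →ₗ[F] V) {r m : ℕ} (B : Basis (Fin r ⊕ (Fin r ⊕ Fin m)) F V) : Prop :=
  (∀ i, N (B (Sum.inl i)) = B (Sum.inr (Sum.inl i))) ∧ ∀ x, N (B (Sum.inr x)) = 0

theorem exists_kerBasis (N : V →ₗ[F] V) (hN : N ∘ₗ N = 0) (r : ℕ)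
    (hr : finrank F (LinearMap.range N) = r) :
    ∃ (m : ℕ) (bK : Basis (Fin r ⊕ Fin m) F (LinearMap.ker N)),
      ∀ i, ((bK (Sum.inl i) : LinearMap.ker N) : V) ∈ LinearMap.range N := by
  classical
  have hIK : LinearMap.range N ≤ LinearMap.ker N := by
    rintro _ ⟨x, rfl⟩
    rw [LinearMap.mem_ker]
    have := LinearMap.congr_fun hN x
    simpa using this
  set K := LinearMap.ker N with hK
  set I' : Submodule F K := Submodule.comap K.subtype (LinearMap.range N) with hI'
  obtain ⟨D, hD⟩ := Submodule.exists_isCompl I'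
  have hfin : finrank F I' = r := by
    rw [← hr]
    exact LinearEquiv.finrank_eq (Submodule.comapSubtypeEquivOfLe hIK)
  let bI : Basis (Fin r) F I' := Module.finBasisOfFinrankEq F I' hfin
  let bD : Basis (Fin (finrank F D)) F D := Module.finBasis F D
  let bK : Basis (Fin r ⊕ Fin (finrank F D)) F K :=
    (bI.prod bD).map (Submodule.prodEquivOfIsCompl I' D hD)
  refine ⟨finrank F D, bK, ?_⟩
  intro i
  have h1 : bK (Sum.inl i) = (bI i : K) := by
    simp [bK]
  rw [h1]
  exact (bI i).2

theorem exists_adapted (N : V →ₗ[F] V) (hN : N ∘ₗ N = 0) (r : ℕ)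
    (hr : finrank F (LinearMap.range N) = r) :
    ∃ (m : ℕ) (B : Basis (Fin r ⊕ (Fin r ⊕ Fin m)) F V), Adapted N B := by
  classical
  obtain ⟨m, bK, hbK⟩ := exists_kerBasis N hN r hr
  refine ⟨m, ?_⟩
  choose e he using hbK
  let w : Fin r ⊕ (Fin r ⊕ Fin m) → V := Sum.elim e (fun x => (bK x : V))
  have hLIK : LinearIndependent F (fun x => (bK x : V)) :=
    bK.linearIndependent.map' (LinearMap.ker N).subtype (Submodule.ker_subtype _)
  have hLIf : LinearIndependent F (fun i => (bK (Sum.inl i) : V)) :=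
    hLIK.comp Sum.inl Sum.inl_injective
  have hLIe : LinearIndependent F e := by
    apply LinearIndependent.of_comp N
    have : N ∘ e = fun i => (bK (Sum.inl i) : V) := by
      funext i; exact he i
    rw [this]; exact hLIf
  have hLI : LinearIndependent F w := by
    rw [linearIndependent_sum]
    refine ⟨hLIe, hLIK, ?_⟩
    rw [Submodule.disjoint_def]
    intro x hx1 hx2
    have hxK : x ∈ LinearMap.ker N := by
      have : Submodule.span F (Set.range (w ∘ Sum.inr)) ≤ LinearMap.ker N := by
        rw [Submodule.span_le]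
        rintro _ ⟨y, rfl⟩
        exact (bK y).2
      exact this hx2
    have hx1' : x ∈ Submodule.span F (Set.range e) := hx1
    rw [Submodule.mem_span_range_iff_exists_fun] at hx1'
    obtain ⟨c, rfl⟩ := hx1'
    have hNx : N (∑ i, c i • e i) = 0 := hxK
    rw [map_sum] at hNx
    simp only [map_smul, he] at hNx
    have hc := (Fintype.linearIndependent_iff.mp hLIf) c hNx
    simp [hc]
  have hcard : Fintype.card (Fin r ⊕ (Fin r ⊕ Fin m)) = finrank F V := by
    have h1 := LinearMap.finrank_range_add_finrank_ker N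
    have h2 : finrank F (LinearMap.ker N) = Fintype.card (Fin r ⊕ Fin m) := Module.finrank_eq_card_basis bK
    rw [← h1, hr, h2]
    simp
  refine ⟨basisOfLinearIndependentOfCardEqFinrank' w hLI hcard, ?_, ?_⟩
  · intro i
    rw [coe_basisOfLinearIndependentOfCardEqFinrank']
    exact he i
  · intro x
    rw [coe_basisOfLinearIndependentOfCardEqFinrank']
    exact (bK x).2

omit [FiniteDimensional F V] in
theorem equiv_comm (N N' : V →ₗ[F] V) {r m : ℕ} (B B' : Basis (Fin r ⊕ (Fin r ⊕ Fin m)) F V)
    (hB : Adapted N B) (hB' : Adapted N' B') :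
    ((B.equiv B' (Equiv.refl _)) : V →ₗ[F] V) ∘ₗ N =
      N' ∘ₗ (B.equiv B' (Equiv.refl _) : V →ₗ[F] V) := by
  apply B.ext
  rintro (i | x)
  · simp [hB.1, hB'.1, Basis.equiv_apply]
  · simp [hB.2, hB'.2, Basis.equiv_apply]

omit [FiniteDimensional F V] in
theorem adapted_unitsSMul (N' : V →ₗ[F] V) {r m : ℕ} (B' : Basis (Fin r ⊕ (Fin r ⊕ Fin m)) F V)
    (hB' : Adapted N' B') (w : Fin r ⊕ (Fin r ⊕ Fin m) → Fˣ)
    (hw : ∀ i, w (Sum.inr (Sum.inl i)) = w (Sum.inl i)) :
    Adapted N' (B'.unitsSMul w) := by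
  constructor
  · intro i
    rw [Basis.unitsSMul_apply, Basis.unitsSMul_apply, Units.smul_def, Units.smul_def, map_smul,
      hB'.1, hw]
  · intro x
    rw [Basis.unitsSMul_apply, Units.smul_def, map_smul, hB'.2, smul_zero]

omit [FiniteDimensional F V] in
theorem det_equiv_unitsSMul {ι : Type*} [Fintype ι] [DecidableEq ι] (B B' : Basis ι F V) (w : ι → Fˣ) :
    LinearMap.det ((B.equiv (B'.unitsSMul w) (Equiv.refl _)) : V →ₗ[F] V) =
      (∏ i, (w i : F)) * B.det B' := by
  have h1 := Basis.det_basis (B'.unitsSMul w) B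
  have h2 : (LinearEquiv.toLinearMap (B.equiv (B'.unitsSMul w) (Equiv.refl ι))) =
      ((B.equiv (B'.unitsSMul w) (Equiv.refl _)) : V →ₗ[F] V) := rfl
  rw [← h2, h1]
  have h3 : (⇑(B'.unitsSMul w) : ι → V) = fun i => (w i : F) • B' i := by
    funext i
    rw [Basis.unitsSMul_apply]
    rfl
  rw [h3]
  have h4 := (B.det : V [⋀^ι]→ₗ[F] F).toMultilinearMap.map_smul_univ (fun i => (w i : F)) B'
  rw [smul_eq_mul] at h4
  exact h4

/-- Two square-zero endomorphisms of the same positive rank are conjugate by an automorphism of determinant 1,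
provided every element of the field is a square. -/
theorem exists_conj (hsq : ∀ x : F, IsSquare x) (N N' : V →ₗ[F] V) (hN : N ∘ₗ N = 0) (hN' : N' ∘ₗ N' = 0)
    (r : ℕ) (hr : finrank F (LinearMap.range N) = r) (hr' : finrank F (LinearMap.range N') = r)
    (hpos : 0 < r) :
    ∃ g : V →ₗ[F] V, LinearMap.det g = 1 ∧ g ∘ₗ N = N' ∘ₗ g := by
  classical
  obtain ⟨m, B, hB⟩ := exists_adapted N hN r hr
  obtain ⟨m', B', hB'⟩ := exists_adapted N' hN' r hr'
  have hm : m = m' := by
    have h1 := Module.finrank_eq_card_basis B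
    have h2 := Module.finrank_eq_card_basis B'
    simp only [Fintype.card_sum, Fintype.card_fin] at h1 h2
    omega
  subst hm
  have hδ : B.det B' ≠ 0 := (B.isUnit_det B').ne_zero
  obtain ⟨μ, hμ⟩ := hsq (B.det B')⁻¹
  have hμ0 : μ ≠ 0 := by
    rintro rfl
    simp only [mul_zero, inv_eq_zero] at hμ
    exact hδ hμ
  let μu : Fˣ := Units.mk0 μ hμ0
  let i0 : Fin r := ⟨0, hpos⟩
  let w : Fin r ⊕ (Fin r ⊕ Fin m) → Fˣ :=
    Sum.elim (fun i => if i = i0 then μu else 1) (Sum.elim (fun i => if i = i0 then μu else 1) (fun _ => 1))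
  have hw : ∀ i, w (Sum.inr (Sum.inl i)) = w (Sum.inl i) := fun i => rfl
  have hB'' := adapted_unitsSMul N' B' hB' w hw
  refine ⟨((B.equiv (B'.unitsSMul w) (Equiv.refl _)) : V →ₗ[F] V), ?_, equiv_comm N N' B _ hB hB''⟩
  rw [det_equiv_unitsSMul]
  have hone : (∏ x : Fin r, (((if x = i0 then μu else 1 : Fˣ)) : F)) = μ := by
    rw [Finset.prod_eq_single i0]
    · simp [μu]
    · intro b _ hb
      simp [hb]
    · intro h
      exact absurd (Finset.mem_univ _) h
  have hprod : (∏ i, (w i : F)) = μ * μ := by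
    simp only [w, Fintype.prod_sum_type, Sum.elim_inl, Sum.elim_inr]
    rw [hone]
    simp
  rw [hprod, ← hμ]
  exact inv_mul_cancel₀ hδ

end adapted

section matrices

variable {F : Type*} [Field F] {n : ℕ}

theorem coe_sq_zero [CharP F 2] (a : Matrix.SpecialLinearGroup (Fin n) F) (ha : orderOf a = 2) :
    ((a : Matrix (Fin n) (Fin n) F) - 1) * ((a : Matrix (Fin n) (Fin n) F) - 1) = 0 := by
  have h1 : a ^ 2 = 1 := by rw [← ha]; exact pow_orderOf_eq_one a
  have h2 : (a : Matrix (Fin n) (Fin n) F) * (a : Matrix (Fin n) (Fin n) F) = 1 := by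
    have := congrArg (fun x : Matrix.SpecialLinearGroup (Fin n) F => (x : Matrix (Fin n) (Fin n) F)) h1
    simpa [pow_two] using this
  rw [Matrix.sub_mul, Matrix.mul_sub, Matrix.mul_sub, h2]
  simp only [Matrix.mul_one, Matrix.one_mul]
  ext i j
  simp only [Matrix.sub_apply, Matrix.zero_apply]
  have h2' : (2 : F) = 0 := CharTwo.two_eq_zero
  linear_combination ((1 : Matrix (Fin n) (Fin n) F) i j - (a : Matrix (Fin n) (Fin n) F) i j) * h2'

theorem rank_pos_of_order_two (a : Matrix.SpecialLinearGroup (Fin n) F) (ha : orderOf a = 2) :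
    0 < ((a : Matrix (Fin n) (Fin n) F) - 1).rank := by
  rw [Nat.pos_iff_ne_zero]
  intro h
  rw [Matrix.rank, Submodule.finrank_eq_zero, LinearMap.range_eq_bot] at h
  have h0 : (a : Matrix (Fin n) (Fin n) F) - 1 = 0 := by
    have := congrArg LinearMap.toMatrix' h
    rw [← Matrix.toLin'_apply', LinearMap.toMatrix'_toLin'] at this
    simpa using this
  have h1 : a = 1 := by
    apply Matrix.SpecialLinearGroup.ext
    intro i j
    have := congrFun (congrFun h0 i) j
    simp only [Matrix.sub_apply, Matrix.zero_apply, sub_eq_zero] at this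
    simpa using this
  rw [h1, orderOf_one] at ha
  omega

end matrices


/-- Conjugacy of involutions in the special linear group over a finite field of characteristic two, in dimension at least 3: two elements of order 2 of SL_n(F) are conjugate in SL_n(F) exactly when the matrices a − 1 and b − 1 have the same rank (the rank of a − 1 is the dimension of the commutator space [V, a]). -/
theorem result {F : Type*} [Field F] [Fintype F] [CharP F 2] {n : ℕ} (hn : 3 ≤ n) (a b : Matrix.SpecialLinearGroup (Fin n) F) (ha : orderOf a = 2) (hb : orderOf b = 2) :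
    IsConj a b ↔ ((a : Matrix (Fin n) (Fin n) F) - 1).rank = ((b : Matrix (Fin n) (Fin n) F) - 1).rank := by
  classical
  constructor
  · intro h
    rw [isConj_iff] at h
    obtain ⟨c, hc⟩ := h
    have h1 : c * a = b * c := by rw [← hc]; group
    have h2 : (c : Matrix (Fin n) (Fin n) F) * ((a : Matrix (Fin n) (Fin n) F) - 1) =
        ((b : Matrix (Fin n) (Fin n) F) - 1) * (c : Matrix (Fin n) (Fin n) F) := by
      have := congrArg (fun x : Matrix.SpecialLinearGroup (Fin n) F => (x : Matrix (Fin n) (Fin n) F)) h1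
      simp only [Matrix.SpecialLinearGroup.coe_mul] at this
      rw [Matrix.mul_sub, Matrix.sub_mul, this, Matrix.mul_one, Matrix.one_mul]
    have hdet : IsUnit (c : Matrix (Fin n) (Fin n) F).det := by
      rw [c.det_coe]; exact isUnit_one
    rw [← Matrix.rank_mul_eq_right_of_isUnit_det _ ((a : Matrix (Fin n) (Fin n) F) - 1) hdet, h2,
      Matrix.rank_mul_eq_left_of_isUnit_det _ _ hdet]
  · intro h
    have hsq : ∀ x : F, IsSquare x := FiniteField.isSquare_of_char_two (ringChar.eq F 2)
    set A : Matrix (Fin n) (Fin n) F := (a : Matrix (Fin n) (Fin n) F) with hA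
    set B : Matrix (Fin n) (Fin n) F := (b : Matrix (Fin n) (Fin n) F) with hB
    have hN : Matrix.toLin' (A - 1) ∘ₗ Matrix.toLin' (A - 1) = 0 := by
      rw [← Matrix.toLin'_mul, coe_sq_zero a ha]; simp
    have hN' : Matrix.toLin' (B - 1) ∘ₗ Matrix.toLin' (B - 1) = 0 := by
      rw [← Matrix.toLin'_mul, coe_sq_zero b hb]; simp
    have hr : finrank F (LinearMap.range (Matrix.toLin' (A - 1))) = (A - 1).rank := by
      rw [Matrix.rank, Matrix.toLin'_apply']
    have hr' : finrank F (LinearMap.range (Matrix.toLin' (B - 1))) = (A - 1).rank := by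
      rw [h, Matrix.rank, Matrix.toLin'_apply']
    obtain ⟨g, hg1, hg2⟩ := exists_conj hsq _ _ hN hN' _ hr hr' (rank_pos_of_order_two a ha)
    have hdet : (LinearMap.toMatrix' g).det = 1 := by
      rw [LinearMap.det_toMatrix']; exact hg1
    let c : Matrix.SpecialLinearGroup (Fin n) F := ⟨LinearMap.toMatrix' g, hdet⟩
    have h3 : LinearMap.toMatrix' g * (A - 1) = (B - 1) * LinearMap.toMatrix' g := by
      have := congrArg LinearMap.toMatrix' hg2
      rw [LinearMap.toMatrix'_comp, LinearMap.toMatrix'_comp, LinearMap.toMatrix'_toLin',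
        LinearMap.toMatrix'_toLin'] at this
      exact this
    have h4 : LinearMap.toMatrix' g * A = B * LinearMap.toMatrix' g := by
      rw [Matrix.mul_sub, Matrix.sub_mul, Matrix.mul_one, Matrix.one_mul] at h3
      exact sub_left_injective h3
    have h5 : c * a = b * c := by
      apply Subtype.ext
      rw [Matrix.SpecialLinearGroup.coe_mul, Matrix.SpecialLinearGroup.coe_mul]
      exact h4
    rw [isConj_iff]
    exact ⟨c, by rw [h5, mul_inv_cancel_right]⟩

end Cfsg.Agent.S2162
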