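import Cfsg.Statements.S2163

set_option autoImplicit false
open Cfsg

namespace Cfsg.Agent.S2163

/-- the nilpotent part -/
def nil (F : Type*) [Field F] (n ℓ : ℕ) : Matrix (Fin n) (Fin n) F :=
  Matrix.of (fun i j : Fin n => if j.val < ℓ ∧ i.val = j.val + (n - ℓ) then (1 : F) else 0)

/-- the diagonal idempotent -/
def dg (F : Type*) [Field F] (n ℓ : ℕ) : Matrix (Fin n) (Fin n) F :=
  Matrix.diagonal (fun j : Fin n => if j.val < ℓ then (1 : F) else 0)

theorem nil_sq {F : Type*} [Field F] {n ℓ : ℕ} (h2 : 2 * ℓ ≤ n) :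
    nil F n ℓ * nil F n ℓ = 0 := by
  ext i k
  simp only [nil, Matrix.mul_apply, Matrix.of_apply, Matrix.zero_apply]
  apply Finset.sum_eq_zero
  intro j _
  by_cases h1 : j.val < ℓ ∧ i.val = j.val + (n - ℓ)
  · have h3 : ¬ (k.val < ℓ ∧ j.val = k.val + (n - ℓ)) := by
      intro h; omega
    simp [h3]
  · simp [h1]

theorem nil_mul_dg {F : Type*} [Field F] {n ℓ : ℕ} :
    nil F n ℓ * dg F n ℓ = nil F n ℓ := by
  ext i k
  simp only [nil, dg, Matrix.mul_diagonal, Matrix.of_apply]
  by_cases h : k.val < ℓ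
  · simp [h]
  · simp [h]

theorem tr_mul_nil {F : Type*} [Field F] {n ℓ : ℕ} (h2 : 2 * ℓ ≤ n) :
    (nil F n ℓ).transpose * nil F n ℓ = dg F n ℓ := by
  ext j k
  simp only [nil, dg, Matrix.mul_apply, Matrix.transpose_apply, Matrix.of_apply, Matrix.diagonal_apply]
  by_cases hjk : j = k
  · subst hjk
    by_cases hj : j.val < ℓ
    · have hlt : j.val + (n - ℓ) < n := by omega
      rw [Finset.sum_eq_single (⟨j.val + (n - ℓ), hlt⟩ : Fin n)]
      · simp [hj]
      · intro b _ hb
        have : ¬ (b.val = j.val + (n - ℓ)) := by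
          intro h; apply hb; ext; simpa using h
        simp [this]
      · intro h; exact absurd (Finset.mem_univ _) h
    · simp [hj]
  · simp only [hjk, if_false]
    apply Finset.sum_eq_zero
    intro i _
    by_cases h1 : j.val < ℓ ∧ i.val = j.val + (n - ℓ)
    · have h3 : ¬ (k.val < ℓ ∧ i.val = k.val + (n - ℓ)) := by
        intro h; apply hjk; ext; omega
      simp [h3]
    · simp [h1]

theorem rank_nil {F : Type*} [Field F] {n ℓ : ℕ} (h2 : 2 * ℓ ≤ n) :
    (nil F n ℓ).rank = ℓ := by
  classical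
  have hd : (dg F n ℓ).rank = ℓ := by
    rw [dg, Matrix.rank_diagonal]
    have : ∀ i : Fin n, ((if i.val < ℓ then (1 : F) else 0) ≠ 0) ↔ i.val < ℓ := by
      intro i; by_cases h : i.val < ℓ <;> simp [h]
    rw [Fintype.card_congr (Equiv.subtypeEquivRight this)]
    rw [Fintype.card_subtype]
    have h3 : (Finset.univ.filter (fun i : Fin n => i.val < ℓ)) = Finset.univ.map (Fin.castLEEmb (show ℓ ≤ n by omega)) := by
      ext i
      simp only [Finset.mem_filter, Finset.mem_univ, true_and, Finset.mem_map, Fin.castLEEmb_apply]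
      constructor
      · intro h; exact ⟨⟨i.val, h⟩, by ext; simp⟩
      · rintro ⟨a, rfl⟩; simp
    rw [h3, Finset.card_map, Finset.card_univ, Fintype.card_fin]
  apply le_antisymm
  · calc (nil F n ℓ).rank = (nil F n ℓ * dg F n ℓ).rank := by rw [nil_mul_dg]
      _ ≤ (dg F n ℓ).rank := Matrix.rank_mul_le_right _ _
      _ = ℓ := hd
  · calc ℓ = (dg F n ℓ).rank := hd.symm
      _ = ((nil F n ℓ).transpose * nil F n ℓ).rank := by rw [tr_mul_nil h2]
      _ ≤ (nil F n ℓ).rank := Matrix.rank_mul_le_right _ _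

theorem det_one_add_nil {F : Type*} [Field F] {n ℓ : ℕ} (h1 : 1 ≤ ℓ) (h2 : 2 * ℓ ≤ n) :
    (1 + nil F n ℓ).det = 1 := by
  rw [Matrix.det_of_isLowerTriangular]
  · apply Finset.prod_eq_one
    intro i _
    have : ¬ (i.val < ℓ ∧ i.val = i.val + (n - ℓ)) := by intro h; omega
    simp only [nil, Matrix.add_apply, Matrix.one_apply_eq, Matrix.of_apply, if_neg this, add_zero]
  · intro i j hij
    have hij' : i.val < j.val := hij
    have : ¬ (j.val < ℓ ∧ i.val = j.val + (n - ℓ)) := by intro h; omega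
    have hne : i ≠ j := by intro h; subst h; omega
    simp [nil, this, Matrix.one_apply_ne hne]

/-- Over a finite field of characteristic two and for n ≥ 3: for every ℓ with 1 ≤ ℓ and 2ℓ ≤ n, the matrix j_ℓ that is the identity plus the entries 1 in positions (n − ℓ + i, i) for i < ℓ (an identity block of size ℓ in the lower left corner) lies in SL_n(F), has order 2, and j_ℓ − 1 has rank ℓ. Together with the conjugacy criterion by rank, these matrices represent the conjugacy classes of involutions of SL_n(F). -/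
theorem result {F : Type*} [Field F] [Fintype F] [CharP F 2] {n : ℕ} (hn : 3 ≤ n) (ℓ : ℕ) (h1 : 1 ≤ ℓ) (h2 : 2 * ℓ ≤ n) :
    ∃ a : Matrix.SpecialLinearGroup (Fin n) F, (a : Matrix (Fin n) (Fin n) F) = 1 + Matrix.of (fun i j : Fin n => if j.val < ℓ ∧ i.val = j.val + (n - ℓ) then (1 : F) else 0) ∧ orderOf a = 2 ∧ ((a : Matrix (Fin n) (Fin n) F) - 1).rank = ℓ := by
  refine ⟨⟨1 + nil F n ℓ, det_one_add_nil h1 h2⟩, rfl, ?_, ?_⟩
  · have hne : nil F n ℓ ≠ 0 := by
      intro h
      have := rank_nil (F := F) h2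
      rw [h, Matrix.rank_zero] at this
      omega
    apply orderOf_eq_prime
    · apply Subtype.ext
      show (1 + nil F n ℓ) ^ 2 = 1
      have h22 : (2 : Matrix (Fin n) (Fin n) F) = 0 := by
        have : (2 : F) = 0 := CharTwo.two_eq_zero
        ext i j
        have h2' : (2 : Matrix (Fin n) (Fin n) F) = (2 : F) • (1 : Matrix (Fin n) (Fin n) F) := by
          rw [two_smul]; norm_num
        rw [h2', this]; simp
      calc (1 + nil F n ℓ) ^ 2 = 1 + 2 * nil F n ℓ + nil F n ℓ * nil F n ℓ := by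
            rw [pow_two]; noncomm_ring
        _ = 1 := by rw [nil_sq h2, h22]; simp
    · intro h
      apply hne
      have := congrArg (fun a : Matrix.SpecialLinearGroup (Fin n) F => (a : Matrix (Fin n) (Fin n) F)) h
      simpa using this
  · show ((1 + nil F n ℓ) - 1).rank = ℓ
    rw [add_sub_cancel_left]
    exact rank_nil h2

end Cfsg.Agent.S2163
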