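import Cfsg.Statements.S2164
import Cfsg.Agent.Lib.helper7.SUInv

set_option autoImplicit false
open Cfsg

namespace Cfsg.Agent.S2164

/-- Conjugacy of involutions in the special unitary group SU_n(q), q even, n ≥ 3, realised over the field F with q² elements as the matrices of determinant 1 preserving the form Σ u_i v_i^q: for two elements of order 2 of SU_n(q) the following are equivalent — they are conjugate in SU_n(q); they are conjugate in SL_n(F); the matrices a − 1 and b − 1 have the same rank. -/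
theorem result {F : Type*} [Field F] [Fintype F] [CharP F 2] {n q : ℕ} (hF : Fintype.card F = q ^ 2) (hn : 3 ≤ n) (a b : ↥(Cfsg.SU n F q)) (ha : orderOf a = 2) (hb : orderOf b = 2) :
    (IsConj a b ↔ IsConj (a : Matrix.SpecialLinearGroup (Fin n) F) (b : Matrix.SpecialLinearGroup (Fin n) F)) ∧
    (IsConj a b ↔ (((a : Matrix.SpecialLinearGroup (Fin n) F) : Matrix (Fin n) (Fin n) F) - 1).rank = (((b : Matrix.SpecialLinearGroup (Fin n) F) : Matrix (Fin n) (Fin n) F) - 1).rank) := by
  classical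
  obtain ⟨A, hAdef⟩ : ∃ A : Matrix (Fin n) (Fin n) F,
      A = ((a : Matrix.SpecialLinearGroup (Fin n) F) : Matrix (Fin n) (Fin n) F) := ⟨_, rfl⟩
  obtain ⟨B, hBdef⟩ : ∃ B : Matrix (Fin n) (Fin n) F,
      B = ((b : Matrix.SpecialLinearGroup (Fin n) F) : Matrix (Fin n) (Fin n) F) := ⟨_, rfl⟩
  have hA : Cfsg.Agent.Lib.helper7.IsIsom n q A := by
    rw [hAdef]; exact (Cfsg.Agent.Lib.helper7.mem_SU_iff n a.1).1 a.2
  have hB : Cfsg.Agent.Lib.helper7.IsIsom n q B := by
    rw [hBdef]; exact (Cfsg.Agent.Lib.helper7.mem_SU_iff n b.1).1 b.2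
  have hsq : ∀ x : ↥(Cfsg.SU n F q), orderOf x = 2 →
      ((x : Matrix.SpecialLinearGroup (Fin n) F) : Matrix (Fin n) (Fin n) F) *
        ((x : Matrix.SpecialLinearGroup (Fin n) F) : Matrix (Fin n) (Fin n) F) = 1 := by
    intro x hx
    have h1 : x * x = 1 := by
      have := pow_orderOf_eq_one x
      rw [hx, pow_two] at this
      exact this
    have h2 := congrArg (fun y : ↥(Cfsg.SU n F q) =>
      ((y : Matrix.SpecialLinearGroup (Fin n) F) : Matrix (Fin n) (Fin n) F)) h1
    simpa using h2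
  have hAA : A * A = 1 := by rw [hAdef]; exact hsq a ha
  have hBB : B * B = 1 := by rw [hBdef]; exact hsq b hb
  have hA1 : A ≠ 1 := by
    intro h
    have h1 : a = 1 := by
      apply Subtype.ext
      apply Subtype.ext
      rw [← hAdef, h]
      rfl
    rw [h1, orderOf_one] at ha
    omega
  -- conjugate in SL implies equal ranks
  have h23 : IsConj (a : Matrix.SpecialLinearGroup (Fin n) F) (b : Matrix.SpecialLinearGroup (Fin n) F) →
      (A - 1).rank = (B - 1).rank := by
    intro h
    obtain ⟨c, hc⟩ := isConj_iff.1 h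
    have hc' : c * (a : Matrix.SpecialLinearGroup (Fin n) F) =
        (b : Matrix.SpecialLinearGroup (Fin n) F) * c := by
      rw [← hc]; group
    have hC : (c : Matrix (Fin n) (Fin n) F) * A = B * (c : Matrix (Fin n) (Fin n) F) := by
      have := congrArg (fun y : Matrix.SpecialLinearGroup (Fin n) F =>
        (y : Matrix (Fin n) (Fin n) F)) hc'
      simpa [hAdef, hBdef] using this
    have hCdet : IsUnit (c : Matrix (Fin n) (Fin n) F).det := by
      rw [c.2]; exact isUnit_one
    have h1 : (c : Matrix (Fin n) (Fin n) F) * (A - 1) = (B - 1) * (c : Matrix (Fin n) (Fin n) F) := by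
      rw [Matrix.mul_sub, Matrix.sub_mul, hC, Matrix.mul_one, Matrix.one_mul]
    rw [← Matrix.rank_mul_eq_right_of_isUnit_det _ (A - 1) hCdet, h1,
      Matrix.rank_mul_eq_left_of_isUnit_det _ (B - 1) hCdet]
  have h31 : (A - 1).rank = (B - 1).rank → IsConj a b := by
    intro h
    obtain ⟨M, hM, hMdet, hMA⟩ :=
      Cfsg.Agent.Lib.helper7.SUInv.exists_su_conj hF A B hA hB hAA hBB hA1 h
    rw [isConj_iff]
    refine ⟨⟨⟨M, hMdet⟩, (Cfsg.Agent.Lib.helper7.mem_SU_iff n _).2 hM⟩, ?_⟩
    rw [mul_inv_eq_iff_eq_mul]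
    apply Subtype.ext
    apply Subtype.ext
    rw [Subgroup.coe_mul, Subgroup.coe_mul, Matrix.SpecialLinearGroup.coe_mul,
      Matrix.SpecialLinearGroup.coe_mul]
    rw [hAdef, hBdef] at hMA
    exact hMA
  have h12 : IsConj a b →
      IsConj (a : Matrix.SpecialLinearGroup (Fin n) F) (b : Matrix.SpecialLinearGroup (Fin n) F) :=
    fun h => (Cfsg.SU n F q).subtype.map_isConj h
  rw [← hAdef, ← hBdef]
  exact ⟨⟨h12, fun h => h31 (h23 h)⟩, ⟨fun h => h23 (h12 h), h31⟩⟩

end Cfsg.Agent.S2164
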