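import Cfsg.Statements.S2165
import Cfsg.Agent.S2163

set_option autoImplicit false
open Cfsg

namespace Cfsg.Agent.S2165

open Cfsg.Agent.S2163

/-- the permutation matrix of the statement -/
def pm (F : Type*) [Field F] (n ℓ : ℕ) : Matrix (Fin n) (Fin n) F :=
  Matrix.of (fun i j : Fin n => if (j.val < ℓ ∧ i.val = j.val + (n - ℓ)) ∨ (i.val < ℓ ∧ j.val = i.val + (n - ℓ)) ∨ (i = j ∧ ℓ ≤ i.val ∧ i.val < n - ℓ) then (1 : F) else 0)

/-- the diagonal idempotent on the last `ℓ` coordinates -/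
def dg' (F : Type*) [Field F] (n ℓ : ℕ) : Matrix (Fin n) (Fin n) F :=
  Matrix.diagonal (fun j : Fin n => if n - ℓ ≤ j.val then (1 : F) else 0)

theorem nil_mul_tr {F : Type*} [Field F] {n ℓ : ℕ} (h2 : 2 * ℓ ≤ n) :
    nil F n ℓ * (nil F n ℓ).transpose = dg' F n ℓ := by
  ext j k
  simp only [nil, dg', Matrix.mul_apply, Matrix.transpose_apply, Matrix.of_apply, Matrix.diagonal_apply]
  by_cases hjk : j = k
  · subst hjk
    by_cases hj : n - ℓ ≤ j.val
    · have hlt : j.val - (n - ℓ) < n := by omega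
      rw [Finset.sum_eq_single (⟨j.val - (n - ℓ), hlt⟩ : Fin n)]
      · have key : ∀ x : ℕ, x = j.val - (n - ℓ) → (x < ℓ ∧ j.val = x + (n - ℓ)) := by
          intro x hx; have := j.isLt; omega
        rw [if_pos (key _ rfl), if_pos hj, mul_one]; simp
      · intro b _ hb
        have : ¬ (b.val < ℓ ∧ j.val = b.val + (n - ℓ)) := by
          intro h; apply hb; ext; simp only []; omega
        simp [this]
      · intro h; exact absurd (Finset.mem_univ _) h
    · simp only [hj, if_false]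
      apply Finset.sum_eq_zero
      intro i _
      have : ¬ (i.val < ℓ ∧ j.val = i.val + (n - ℓ)) := by
        intro h; omega
      simp [this]
  · simp only [hjk, if_false]
    apply Finset.sum_eq_zero
    intro i _
    by_cases h1 : i.val < ℓ ∧ j.val = i.val + (n - ℓ)
    · have h3 : ¬ (i.val < ℓ ∧ k.val = i.val + (n - ℓ)) := by
        intro h; apply hjk; ext; omega
      simp [h3]
    · simp [h1]

theorem pm_add_one {F : Type*} [Field F] [CharP F 2] {n ℓ : ℕ} (h2 : 2 * ℓ ≤ n) :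
    pm F n ℓ + 1 = nil F n ℓ + (nil F n ℓ).transpose + dg F n ℓ + dg' F n ℓ := by
  ext i j
  simp only [pm, nil, dg, dg', Matrix.add_apply, Matrix.transpose_apply, Matrix.of_apply, Matrix.diagonal_apply, Matrix.one_apply]
  have h11 : (1 : F) + 1 = 0 := CharTwo.add_self_eq_zero 1
  by_cases hij : i = j
  · subst hij
    have hnl : n - ℓ ≠ 0 := by have := i.isLt; omega
    have e1 : ¬ (i.val < ℓ ∧ i.val = i.val + (n - ℓ)) := by intro h; omega
    rw [if_neg e1]
    simp only [if_true, true_and, add_zero]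
    by_cases c1 : i.val < ℓ
    · have c2 : ¬ (n - ℓ ≤ i.val) := by omega
      have c3 : ¬ (ℓ ≤ i.val ∧ i.val < n - ℓ) := by omega
      have c4 : ¬ (i.val < ℓ ∧ i.val = i.val + (n - ℓ) ∨ i.val < ℓ ∧ i.val = i.val + (n - ℓ) ∨ ℓ ≤ i.val ∧ i.val < n - ℓ) := by omega
      rw [if_neg c4, if_pos c1, if_neg c2]; simp
    · by_cases c2 : n - ℓ ≤ i.val
      · have c4 : ¬ (i.val < ℓ ∧ i.val = i.val + (n - ℓ) ∨ i.val < ℓ ∧ i.val = i.val + (n - ℓ) ∨ ℓ ≤ i.val ∧ i.val < n - ℓ) := by omega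
        rw [if_neg c4, if_neg c1, if_pos c2]; simp
      · have c4 : (i.val < ℓ ∧ i.val = i.val + (n - ℓ) ∨ i.val < ℓ ∧ i.val = i.val + (n - ℓ) ∨ ℓ ≤ i.val ∧ i.val < n - ℓ) := by omega
        rw [if_pos c4, if_neg c1, if_neg c2]; simp [h11]
  · simp only [hij, if_false, false_and, or_false, add_zero]
    by_cases c1 : j.val < ℓ ∧ i.val = j.val + (n - ℓ)
    · have c2 : ¬ (i.val < ℓ ∧ j.val = i.val + (n - ℓ)) := by intro h; omega
      rw [if_pos (Or.inl c1), if_pos c1, if_neg c2, add_zero]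
    · by_cases c2 : i.val < ℓ ∧ j.val = i.val + (n - ℓ)
      · rw [if_pos (Or.inr c2), if_neg c1, if_pos c2, zero_add]
      · rw [if_neg (by tauto), if_neg c1, if_neg c2, add_zero]

theorem add_self_mat {F : Type*} [Field F] [CharP F 2] {n : ℕ} (X : Matrix (Fin n) (Fin n) F) :
    X + X = 0 := by
  ext i j
  simp [CharTwo.add_self_eq_zero]

theorem pm_eq {F : Type*} [Field F] [CharP F 2] {n ℓ : ℕ} (h2 : 2 * ℓ ≤ n) :
    pm F n ℓ = (1 + (nil F n ℓ).transpose) * (1 + nil F n ℓ) * (1 + (nil F n ℓ).transpose) := by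
  have hA := pm_add_one (F := F) h2
  have hB := nil_mul_tr (F := F) h2
  have hC := tr_mul_nil (F := F) h2
  have hD : dg F n ℓ * (nil F n ℓ).transpose = (nil F n ℓ).transpose := by
    have := congrArg Matrix.transpose (nil_mul_dg (F := F) (n := n) (ℓ := ℓ))
    rw [Matrix.transpose_mul] at this
    rw [← this]
    congr 1
    simp [dg]
  have hE : (nil F n ℓ).transpose * (nil F n ℓ).transpose = 0 := by
    have := congrArg Matrix.transpose (nil_sq (F := F) h2)
    rw [Matrix.transpose_mul] at this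
    simpa using this
  have h1 : pm F n ℓ = nil F n ℓ + (nil F n ℓ).transpose + dg F n ℓ + dg' F n ℓ + 1 := by
    rw [← hA, add_assoc, add_self_mat, add_zero]
  rw [h1]
  have h3 : (1 + (nil F n ℓ).transpose) * (1 + nil F n ℓ) * (1 + (nil F n ℓ).transpose)
      = 1 + nil F n ℓ + ((nil F n ℓ).transpose + (nil F n ℓ).transpose) + (nil F n ℓ).transpose * (nil F n ℓ).transpose
        + nil F n ℓ * (nil F n ℓ).transpose + (nil F n ℓ).transpose * nil F n ℓ
        + ((nil F n ℓ).transpose * nil F n ℓ) * (nil F n ℓ).transpose := by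
    noncomm_ring
  rw [h3, hE, hB, hC, hD, add_self_mat]
  abel

theorem g_sq {F : Type*} [Field F] [CharP F 2] {n ℓ : ℕ} (h2 : 2 * ℓ ≤ n) :
    (1 + (nil F n ℓ).transpose) * (1 + (nil F n ℓ).transpose) = 1 := by
  have hE : (nil F n ℓ).transpose * (nil F n ℓ).transpose = 0 := by
    have := congrArg Matrix.transpose (nil_sq (F := F) h2)
    rw [Matrix.transpose_mul] at this
    simpa using this
  have : (1 + (nil F n ℓ).transpose) * (1 + (nil F n ℓ).transpose)
      = 1 + ((nil F n ℓ).transpose + (nil F n ℓ).transpose) + (nil F n ℓ).transpose * (nil F n ℓ).transpose := by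
    noncomm_ring
  rw [this, hE, add_self_mat]
  simp

theorem det_g {F : Type*} [Field F] {n ℓ : ℕ} (h1 : 1 ≤ ℓ) (h2 : 2 * ℓ ≤ n) :
    (1 + (nil F n ℓ).transpose).det = 1 := by
  have : (1 + (nil F n ℓ).transpose) = (1 + nil F n ℓ).transpose := by
    rw [Matrix.transpose_add, Matrix.transpose_one]
  rw [this, Matrix.det_transpose, det_one_add_nil h1 h2]

theorem det_pm {F : Type*} [Field F] [CharP F 2] {n ℓ : ℕ} (h1 : 1 ≤ ℓ) (h2 : 2 * ℓ ≤ n) :
    (pm F n ℓ).det = 1 := by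
  rw [pm_eq h2, Matrix.det_mul, Matrix.det_mul, det_g h1 h2, det_one_add_nil h1 h2]
  simp

theorem pm_sq {F : Type*} [Field F] [CharP F 2] {n ℓ : ℕ} (h2 : 2 * ℓ ≤ n) :
    pm F n ℓ * pm F n ℓ = 1 := by
  have hg := g_sq (F := F) h2
  have hN : (1 + nil F n ℓ) * (1 + nil F n ℓ) = 1 := by
    have : (1 + nil F n ℓ) * (1 + nil F n ℓ) = 1 + (nil F n ℓ + nil F n ℓ) + nil F n ℓ * nil F n ℓ := by
      noncomm_ring
    rw [this, nil_sq h2, add_self_mat]; simp
  rw [pm_eq h2]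
  calc (1 + (nil F n ℓ).transpose) * (1 + nil F n ℓ) * (1 + (nil F n ℓ).transpose) * ((1 + (nil F n ℓ).transpose) * (1 + nil F n ℓ) * (1 + (nil F n ℓ).transpose))
      = (1 + (nil F n ℓ).transpose) * ((1 + nil F n ℓ) * ((1 + (nil F n ℓ).transpose) * (1 + (nil F n ℓ).transpose)) * (1 + nil F n ℓ)) * (1 + (nil F n ℓ).transpose) := by
        simp only [mul_assoc]
    _ = 1 := by rw [hg, mul_one, hN, mul_one, hg]

theorem rank_pm_sub_one {F : Type*} [Field F] [CharP F 2] {n ℓ : ℕ} (h1 : 1 ≤ ℓ) (h2 : 2 * ℓ ≤ n) :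
    (pm F n ℓ - 1).rank = ℓ := by
  have hg := g_sq (F := F) h2
  have h3 : pm F n ℓ - 1 = (1 + (nil F n ℓ).transpose) * nil F n ℓ * (1 + (nil F n ℓ).transpose) := by
    rw [pm_eq h2]
    have : (1 + (nil F n ℓ).transpose) * (1 + nil F n ℓ) * (1 + (nil F n ℓ).transpose)
        = (1 + (nil F n ℓ).transpose) * (1 + (nil F n ℓ).transpose) + (1 + (nil F n ℓ).transpose) * nil F n ℓ * (1 + (nil F n ℓ).transpose) := by
      noncomm_ring
    rw [this, hg]
    abel
  rw [h3, Matrix.rank_mul_eq_left_of_isUnit_det _ _ (by rw [det_g h1 h2]; exact isUnit_one),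
    Matrix.rank_mul_eq_right_of_isUnit_det _ _ (by rw [det_g h1 h2]; exact isUnit_one)]
  exact rank_nil h2

/-- the involution of the index set -/
def sw (n ℓ : ℕ) (h2 : 2 * ℓ ≤ n) (i : Fin n) : Fin n :=
  if h : i.val < ℓ then ⟨i.val + (n - ℓ), by omega⟩
  else if h' : n - ℓ ≤ i.val then ⟨i.val - (n - ℓ), by omega⟩
  else i

theorem sw_val (n ℓ : ℕ) (h2 : 2 * ℓ ≤ n) (i : Fin n) :
    (sw n ℓ h2 i).val = if i.val < ℓ then i.val + (n - ℓ) else if n - ℓ ≤ i.val then i.val - (n - ℓ) else i.val := by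
  unfold sw
  split_ifs <;> rfl

theorem sw_invol (n ℓ : ℕ) (h2 : 2 * ℓ ≤ n) : Function.Involutive (sw n ℓ h2) := by
  intro i
  ext
  rw [sw_val, sw_val]
  have := i.isLt
  split_ifs <;> omega

theorem pm_apply {F : Type*} [Field F] {n ℓ : ℕ} (h2 : 2 * ℓ ≤ n) (i j : Fin n) :
    pm F n ℓ i j = if sw n ℓ h2 i = j then 1 else 0 := by
  have key : ((j.val < ℓ ∧ i.val = j.val + (n - ℓ)) ∨ (i.val < ℓ ∧ j.val = i.val + (n - ℓ)) ∨ (i = j ∧ ℓ ≤ i.val ∧ i.val < n - ℓ)) ↔ sw n ℓ h2 i = j := by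
    have e : (sw n ℓ h2 i = j) ↔ ((sw n ℓ h2 i).val = j.val) := Fin.ext_iff
    have e2 : (i = j) ↔ i.val = j.val := Fin.ext_iff
    rw [e, sw_val, e2]
    have := i.isLt
    have := j.isLt
    split_ifs <;> omega
  simp only [pm, Matrix.of_apply]
  by_cases h : sw n ℓ h2 i = j
  · rw [if_pos (key.mpr h), if_pos h]
  · rw [if_neg (fun h' => h (key.mp h')), if_neg h]

theorem pm_mulVec {F : Type*} [Field F] {n ℓ : ℕ} (h2 : 2 * ℓ ≤ n) (u : Fin n → F) (i : Fin n) :
    (pm F n ℓ).mulVec u i = u (sw n ℓ h2 i) := by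
  simp only [Matrix.mulVec, dotProduct, pm_apply h2]
  simp

theorem herm_pm {F : Type*} [Field F] {n ℓ q : ℕ} (h2 : 2 * ℓ ≤ n) (u v : Fin n → F) :
    Cfsg.hermForm n F q ((pm F n ℓ).mulVec u) ((pm F n ℓ).mulVec v) = Cfsg.hermForm n F q u v := by
  unfold Cfsg.hermForm
  simp only [pm_mulVec h2]
  exact Equiv.sum_comp (sw_invol n ℓ h2).toPerm (fun i => u i * v i ^ q)

/-- In SU_n(q), q even, n ≥ 3 (matrices of determinant 1 over the field with q² elements preserving Σ u_i v_i^q): for every ℓ with 1 ≤ ℓ and 2ℓ ≤ n, the permutation matrix of the involution of {0, …, n−1} exchanging i and n − ℓ + i for each i < ℓ lies in SU_n(q), has order 2, and differs from the identity by a matrix of rank ℓ. So every rank between 1 and n/2 occurs for involutions of SU_n(q). -/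
theorem result {F : Type*} [Field F] [Fintype F] [CharP F 2] {n q : ℕ} (hF : Fintype.card F = q ^ 2) (hn : 3 ≤ n) (ℓ : ℕ) (h1 : 1 ≤ ℓ) (h2 : 2 * ℓ ≤ n) :
    ∃ a : ↥(Cfsg.SU n F q), (((a : Matrix.SpecialLinearGroup (Fin n) F) : Matrix (Fin n) (Fin n) F) = Matrix.of (fun i j : Fin n => if (j.val < ℓ ∧ i.val = j.val + (n - ℓ)) ∨ (i.val < ℓ ∧ j.val = i.val + (n - ℓ)) ∨ (i = j ∧ ℓ ≤ i.val ∧ i.val < n - ℓ) then (1 : F) else 0)) ∧ orderOf a = 2 ∧ ((((a : Matrix.SpecialLinearGroup (Fin n) F) : Matrix (Fin n) (Fin n) F)) - 1).rank = ℓ := by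
  have hmem : (⟨pm F n ℓ, det_pm h1 h2⟩ : Matrix.SpecialLinearGroup (Fin n) F) ∈ Cfsg.SU n F q := by
    intro u v
    exact herm_pm h2 u v
  refine ⟨⟨⟨pm F n ℓ, det_pm h1 h2⟩, hmem⟩, rfl, ?_, ?_⟩
  · apply orderOf_eq_prime
    · apply Subtype.ext
      apply Subtype.ext
      show (pm F n ℓ) ^ 2 = 1
      rw [pow_two]
      exact pm_sq h2
    · intro h
      have h' := congrArg (fun a : ↥(Cfsg.SU n F q) => ((a : Matrix.SpecialLinearGroup (Fin n) F) : Matrix (Fin n) (Fin n) F)) h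
      have h'' : pm F n ℓ = 1 := by simpa using h'
      have := rank_pm_sub_one (F := F) h1 h2
      rw [h'', sub_self, Matrix.rank_zero] at this
      omega
  · exact rank_pm_sub_one h1 h2

end Cfsg.Agent.S2165
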