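import Cfsg.Statements.S2166
import Cfsg.Agent.Lib.helper50.InvConj2

set_option autoImplicit false
open Cfsg

namespace Cfsg.Agent.S2166

/-- Conjugacy of involutions in the symplectic group Sp_{2m}(F), F a finite field of characteristic two, m ≥ 2 (Sp taken as the matrices A with A J Aᵀ = J, acting on column vectors, with the alternating form f(u, v) = u ⬝ (J v)). For an involution t write V(t) for the set of vectors v with f(v, t v) = 0 (a subspace). Two involutions a, b are conjugate in Sp_{2m}(F) exactly when a − 1 and b − 1 have the same rank and, in case that rank is even, V(a) and V(b) have the same number of elements. -/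
theorem result {F : Type*} [Field F] [Fintype F] [CharP F 2] {m : ℕ} (hm : 2 ≤ m) (a b : ↥(Matrix.symplecticGroup (Fin m) F)) (ha : orderOf a = 2) (hb : orderOf b = 2) :
    IsConj a b ↔ ((((a : ↥(Matrix.symplecticGroup (Fin m) F)) : Matrix (Fin m ⊕ Fin m) (Fin m ⊕ Fin m) F) - 1).rank = (((b : ↥(Matrix.symplecticGroup (Fin m) F)) : Matrix (Fin m ⊕ Fin m) (Fin m ⊕ Fin m) F) - 1).rank ∧
      (Even (((a : ↥(Matrix.symplecticGroup (Fin m) F)) : Matrix (Fin m ⊕ Fin m) (Fin m ⊕ Fin m) F) - 1).rank → Nat.card {v : Fin m ⊕ Fin m → F // Cfsg.sympForm m F v (Matrix.mulVec ((a : ↥(Matrix.symplecticGroup (Fin m) F)) : Matrix (Fin m ⊕ Fin m) (Fin m ⊕ Fin m) F) v) = 0} = Nat.card {v : Fin m ⊕ Fin m → F // Cfsg.sympForm m F v (Matrix.mulVec ((b : ↥(Matrix.symplecticGroup (Fin m) F)) : Matrix (Fin m ⊕ Fin m) (Fin m ⊕ Fin m) F) v) = 0})) := by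
  classical
  have ha2 : a ^ 2 = 1 := ha ▸ pow_orderOf_eq_one a
  have hb2 : b ^ 2 = 1 := hb ▸ pow_orderOf_eq_one b
  have key : ∀ c : ↥(Matrix.symplecticGroup (Fin m) F),
      (∀ v, Cfsg.sympForm m F v (Matrix.mulVec c.1 v) = 0) ↔
        Nat.card {v : Fin m ⊕ Fin m → F // Cfsg.sympForm m F v (Matrix.mulVec c.1 v) = 0}
          = Nat.card (Fin m ⊕ Fin m → F) := by
    intro c
    constructor
    · intro h
      exact Nat.card_congr (Equiv.subtypeUnivEquiv h)
    · intro h
      by_contra hne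
      simp only [not_forall] at hne
      obtain ⟨v, hv⟩ := hne
      have := Fintype.card_subtype_lt (p := fun v : Fin m ⊕ Fin m → F =>
        Cfsg.sympForm m F v (Matrix.mulVec c.1 v) = 0) hv
      rw [Nat.card_eq_fintype_card, Nat.card_eq_fintype_card] at h
      omega
  constructor
  · intro h
    obtain ⟨g, hg⟩ := Cfsg.Agent.Lib.helper50.comm_of_isConj a b h
    exact ⟨Cfsg.Agent.Lib.helper50.rank_of_conj a b g hg,
      fun _ => Cfsg.Agent.Lib.helper50.card_of_conj a b g hg⟩
  · rintro ⟨hr, hc⟩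
    apply Cfsg.Agent.Lib.helper50.isConj_of_same_type a b ha2 hb2 hr
    intro he
    rw [key a, key b, hc he]

end Cfsg.Agent.S2166
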