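import Cfsg.Statements.S2168
import Cfsg.Agent.Lib.helper50.InvOrthPlus

set_option autoImplicit false
open Cfsg Cfsg.Agent.Lib.helper50 Cfsg.Agent.Lib.helper49 Cfsg.Agent.Lib.helper17

namespace Cfsg.Agent.S2168

/-- Involutions in the full isometry group O of the hyperbolic quadratic form Σ x_i y_i in dimension 2m over a finite field F of characteristic two, m ≥ 4 (plus type): two elements of order 2 of O are conjugate in O exactly when they are conjugate under the group of all invertible matrices preserving the polar bilinear form (u, v) ↦ Q(u + v) − Q(u) − Q(v) (the symplectic group of that form). -/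
theorem result {F : Type*} [Field F] [Fintype F] [CharP F 2] {m : ℕ} (hm : 4 ≤ m) (t s : ↥(Cfsg.isometryGroup F (Cfsg.quadFormPlus m F))) (ht : orderOf t = 2) (hs : orderOf s = 2) :
    IsConj t s ↔ ∃ g ∈ Cfsg.preserving (Units.coeHom (Matrix (Fin m ⊕ Fin m) (Fin m ⊕ Fin m) F)) (fun u v => Cfsg.quadFormPlus m F (u + v) - Cfsg.quadFormPlus m F u - Cfsg.quadFormPlus m F v), g * ((t : ↥(Cfsg.isometryGroup F (Cfsg.quadFormPlus m F))) : GL (Fin m ⊕ Fin m) F) * g⁻¹ = ((s : ↥(Cfsg.isometryGroup F (Cfsg.quadFormPlus m F))) : GL (Fin m ⊕ Fin m) F) := by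
  classical
  have ht2 : t ^ 2 = 1 := ht ▸ pow_orderOf_eq_one t
  have hs2 : s ^ 2 = 1 := hs ▸ pow_orderOf_eq_one s
  have hpol : ∀ u v : Fin m ⊕ Fin m → F, Cfsg.quadFormPlus m F (u + v)
      = Cfsg.quadFormPlus m F u + Cfsg.quadFormPlus m F v + Cfsg.sympForm m F u v := plus_hpol
  constructor
  · intro h
    rw [isConj_iff] at h
    obtain ⟨c, hc⟩ := h
    refine ⟨c.1, ?_, ?_⟩
    · intro u v
      change Cfsg.quadFormPlus m F (c.1.1.mulVec u + c.1.1.mulVec v)
        - Cfsg.quadFormPlus m F (c.1.1.mulVec u) - Cfsg.quadFormPlus m F (c.1.1.mulVec v) = _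
      rw [← Matrix.mulVec_add, orth_Q (Cfsg.quadFormPlus m F) c, orth_Q (Cfsg.quadFormPlus m F) c,
        orth_Q (Cfsg.quadFormPlus m F) c]
    · have := congrArg Subtype.val hc
      exact this
  · rintro ⟨g, hg, hgt⟩
    have hgsp : ∀ u v, Cfsg.sympForm m F (g.1.mulVec u) (g.1.mulVec v) = Cfsg.sympForm m F u v := by
      intro u v
      have h1 := hg u v
      change Cfsg.quadFormPlus m F (g.1.mulVec u + g.1.mulVec v)
        - Cfsg.quadFormPlus m F (g.1.mulVec u) - Cfsg.quadFormPlus m F (g.1.mulVec v)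
        = Cfsg.quadFormPlus m F (u + v) - Cfsg.quadFormPlus m F u - Cfsg.quadFormPlus m F v at h1
      have h2 := hpol (g.1.mulVec u) (g.1.mulVec v)
      have h3 := hpol u v
      linear_combination h1 - h2 + h3
    let g' : Matrix.symplecticGroup (Fin m) F := ⟨g.1, mem_symplectic_of_preserves m _ hgsp⟩
    have hcomm : g * t.1 = s.1 * g := by
      rw [← hgt]; group
    have hcomm' : g'.1 * (orthToSp (Cfsg.quadFormPlus m F) hpol t).1
        = (orthToSp (Cfsg.quadFormPlus m F) hpol s).1 * g'.1 := by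
      have := congrArg Units.val hcomm
      rw [Units.val_mul, Units.val_mul] at this
      rw [orthToSp_coe, orthToSp_coe]
      exact this
    apply orth_isConj_of_same_type (Cfsg.quadFormPlus m F) (plusForm m F) rfl hpol t s ht2 hs2
    · exact rank_of_conj (orthToSp (Cfsg.quadFormPlus m F) hpol t)
        (orthToSp (Cfsg.quadFormPlus m F) hpol s) g' hcomm'
    · intro _
      exact ⟨fun h => alt_of_conj' (orthToSp (Cfsg.quadFormPlus m F) hpol t)
          (orthToSp (Cfsg.quadFormPlus m F) hpol s) g' hcomm' h,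
        fun h => alt_of_conj (orthToSp (Cfsg.quadFormPlus m F) hpol t)
          (orthToSp (Cfsg.quadFormPlus m F) hpol s) g' hcomm' h⟩

end Cfsg.Agent.S2168
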