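import Cfsg.Statements.S2172
import Cfsg.Agent.Lib.helper50.OrthPlusSplit

set_option autoImplicit false
open Cfsg

namespace Cfsg.Agent.S2172

/-- Splitting of involution classes from O to Ω for the hyperbolic quadratic form Q = Σ x_i y_i in dimension 2m over a finite field F of characteristic two, m ≥ 4. Let t, s be involutions of the commutator subgroup Ω that are conjugate in the full isometry group O. If it is not the case that t − 1 has rank m and Q(v + t v) = 0 for every vector v, then t and s are conjugate by an element of Ω. If t − 1 has rank m and Q(v + t v) = 0 for all v, then t and s are conjugate by an element of Ω exactly when the intersection of the images of t − 1 and s − 1 has even dimension (so the class of t in O meets at most two classes of Ω). -/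
theorem result {F : Type*} [Field F] [Fintype F] [CharP F 2] {m : ℕ} (hm : 4 ≤ m) (t s : ↥(Cfsg.isometryGroup F (Cfsg.quadFormPlus m F))) (ht : orderOf t = 2) (hs : orderOf s = 2) (htO : t ∈ Cfsg.Omega F (Cfsg.quadFormPlus m F)) (hsO : s ∈ Cfsg.Omega F (Cfsg.quadFormPlus m F)) (hconj : IsConj t s) :
    (¬ (((((t : ↥(Cfsg.isometryGroup F (Cfsg.quadFormPlus m F))) : GL (Fin m ⊕ Fin m) F) : Matrix (Fin m ⊕ Fin m) (Fin m ⊕ Fin m) F) - 1).rank = m ∧ ∀ v : Fin m ⊕ Fin m → F, Cfsg.quadFormPlus m F (v + Matrix.mulVec (((t : ↥(Cfsg.isometryGroup F (Cfsg.quadFormPlus m F))) : GL (Fin m ⊕ Fin m) F) : Matrix (Fin m ⊕ Fin m) (Fin m ⊕ Fin m) F) v) = 0) →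
      ∃ g ∈ Cfsg.Omega F (Cfsg.quadFormPlus m F), g * t * g⁻¹ = s) ∧
    ((((((t : ↥(Cfsg.isometryGroup F (Cfsg.quadFormPlus m F))) : GL (Fin m ⊕ Fin m) F) : Matrix (Fin m ⊕ Fin m) (Fin m ⊕ Fin m) F) - 1).rank = m ∧ ∀ v : Fin m ⊕ Fin m → F, Cfsg.quadFormPlus m F (v + Matrix.mulVec (((t : ↥(Cfsg.isometryGroup F (Cfsg.quadFormPlus m F))) : GL (Fin m ⊕ Fin m) F) : Matrix (Fin m ⊕ Fin m) (Fin m ⊕ Fin m) F) v) = 0) →
      ((∃ g ∈ Cfsg.Omega F (Cfsg.quadFormPlus m F), g * t * g⁻¹ = s) ↔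
        Even (Module.finrank F ↥(LinearMap.range (Matrix.toLin' ((((t : ↥(Cfsg.isometryGroup F (Cfsg.quadFormPlus m F))) : GL (Fin m ⊕ Fin m) F) : Matrix (Fin m ⊕ Fin m) (Fin m ⊕ Fin m) F) - 1)) ⊓ LinearMap.range (Matrix.toLin' ((((s : ↥(Cfsg.isometryGroup F (Cfsg.quadFormPlus m F))) : GL (Fin m ⊕ Fin m) F) : Matrix (Fin m ⊕ Fin m) (Fin m ⊕ Fin m) F) - 1)))))) := by
  classical
  have h : Fintype.card F ≠ 2 ∨ m ≠ 2 := Or.inr (by omega)
  have ht2 : t ^ 2 = 1 := ht ▸ pow_orderOf_eq_one t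
  have hconv : ∀ v : Fin m ⊕ Fin m → F, Cfsg.quadFormPlus m F (v + Matrix.mulVec t.1.1 v)
      = Cfsg.sympForm m F v (Matrix.mulVec t.1.1 v) := by
    intro v
    rw [Cfsg.Agent.Lib.helper50.orth_val_eq, Matrix.sub_mulVec, Matrix.one_mulVec]
    congr 1
    funext i
    simp only [Pi.add_apply, Pi.sub_apply]
    rw [sub_eq_add_neg, CharTwo.neg_eq, add_comm]
  constructor
  · intro hne
    apply Cfsg.Agent.Lib.helper50.conj_Omega_of_conj h t s ht2 _ hconj
    intro hh
    exact hne ⟨hh.1, fun v => by rw [hconv]; exact hh.2 v⟩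
  · rintro ⟨hr, hQ⟩
    have halt : ∀ v : Fin m ⊕ Fin m → F, Cfsg.sympForm m F v (Matrix.mulVec t.1.1 v) = 0 :=
      fun v => by rw [← hconv]; exact hQ v
    obtain ⟨g, hg⟩ := isConj_iff.1 hconj
    subst hg
    rw [Cfsg.Agent.Lib.helper50.conj_Omega_iff_a (by omega) h t ht2 hr halt g,
      ← Cfsg.Agent.Lib.helper50.inter_parity_conj (by omega) h t ht2 hr halt g]
    have hmE : Even m := by
      rw [← hr]
      exact (Cfsg.Agent.Lib.helper50.mem_Omega_plus_iff h t).1 htO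
    have hle : Module.finrank F ↥(LinearMap.range (Matrix.toLin' (t.1.1 - 1)) ⊓
        LinearMap.range (Matrix.toLin' ((g * t * g⁻¹).1.1 - 1))) ≤ m := by
      have h1 := Submodule.finrank_mono (inf_le_left :
        LinearMap.range (Matrix.toLin' (t.1.1 - 1)) ⊓
        LinearMap.range (Matrix.toLin' ((g * t * g⁻¹).1.1 - 1))
          ≤ LinearMap.range (Matrix.toLin' (t.1.1 - 1)))
      have h2 : Module.finrank F ↥(LinearMap.range (Matrix.toLin' (t.1.1 - 1))) = m := hr
      omega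
    rw [Nat.even_sub hle]
    simp [hmE]

end Cfsg.Agent.S2172
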