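import Cfsg.Statements.S2202
import Cfsg.Agent.Lib.helper42.AICDefs
import Cfsg.Agent.Lib.helper42.AIC_E4
import Cfsg.Agent.Lib.helper4.AIC_KS
import Cfsg.Agent.Lib.helper4.AIC_F2
import Cfsg.Agent.Lib.helper18.AIC_I2
import Cfsg.Agent.Lib.helper69.AIC_F1
import Cfsg.Agent.Lib.helper42.AIC_W3
import Cfsg.Agent.Lib.helper42.AIC_W4

set_option autoImplicit false
open Cfsg

namespace Cfsg.Agent.S2202

/-- Finite groups in which the centralizer of every involution is abelian. Let G be a finite group of even order in which the centralizer of every element of order 2 is abelian. Then the Sylow 2-subgroups of G are cyclic, or a Sylow 2-subgroup of G is normal, or G is isomorphic to the direct product of SL₂(F) for a finite field F of characteristic two and an abelian group of odd order. -/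
theorem result {G : Type*} [Group G] [Finite G] (heven : Even (Nat.card G)) (h : ∀ t : G, orderOf t = 2 → IsMulCommutative ↥(Subgroup.centralizer ({t} : Set G))) :
    (∀ P : Sylow 2 G, IsCyclic ↥P) ∨ (∀ P : Sylow 2 G, (P : Subgroup G).Normal) ∨
    (∃ (F : Type) (_ : Field F) (_ : Fintype F) (A : Type) (_ : CommGroup A) (_ : Finite A), CharP F 2 ∧ Odd (Nat.card A) ∧ Nonempty (G ≃* Matrix.SpecialLinearGroup (Fin 2) F × A)) := by
  by_cases h1 : ∀ P : Sylow 2 G, IsCyclic ↥P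
  · exact Or.inl h1
  by_cases h2 : ∀ P : Sylow 2 G, (P : Subgroup G).Normal
  · exact Or.inr (Or.inl h2)
  refine Or.inr (Or.inr ?_)
  have hA : Cfsg.Agent.Lib.helper42.AIC.AIC G := h
  have hnc : Cfsg.Agent.Lib.helper42.AIC.NCyc G := by
    push Not at h1
    obtain ⟨P₀, hP₀⟩ := h1
    intro P hP
    apply hP₀
    obtain ⟨g, rfl⟩ := MulAction.exists_smul_eq G P P₀
    exact isCyclic_of_surjective _ (Sylow.equivSMul P g).surjective
  have hnn : Cfsg.Agent.Lib.helper42.AIC.NNor G := by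
    push Not at h2
    obtain ⟨P₁, hP₁⟩ := h2
    intro P hP
    apply hP₁
    obtain ⟨g, rfl⟩ := MulAction.exists_smul_eq G P P₁
    rw [Sylow.smul_eq_of_normal]
    exact hP
  have hE : Cfsg.Agent.Lib.helper42.AIC.KEq G :=
    Cfsg.Agent.Lib.helper42.AIC.keq_all (Nat.card G) G rfl hA hnc
  obtain ⟨Z, hZn, hZ⟩ := Cfsg.Agent.Lib.helper4.AIC.exists_ksub hA hnc
  have := hZn
  have hcen := Cfsg.Agent.Lib.helper42.AIC.ksub_central hA hnc hnn hE Z hZ
  obtain ⟨L, hL1, hL2⟩ := Cfsg.Agent.Lib.helper42.AIC.exists_complement hA hnc hnn hE Z hZ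
  obtain ⟨F, iF, iF', hF, ⟨e1⟩⟩ := Cfsg.Agent.Lib.helper69.AIC.quot_iso hA hnc hnn hE Z hZ
  obtain ⟨e2⟩ := Cfsg.Agent.Lib.helper4.AIC.prod_of_compl L Z hcen hL1 hL2
  have hZcomm : ∀ x y : Z, x * y = y * x := by
    intro x y
    exact Subtype.ext (hcen x.1 x.2 y.1)
  obtain ⟨A, iA, iA', ⟨e3⟩⟩ := Cfsg.Agent.Lib.helper18.AIC.exists_small_commGroup hZcomm
  refine ⟨F, iF, iF', A, iA, iA', hF, ?_, ⟨e2.trans (MulEquiv.prodCongr e1 e3)⟩⟩
  rw [← Nat.card_congr e3.toEquiv]
  by_contra hodd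
  rw [Nat.not_odd_iff_even] at hodd
  obtain ⟨x, hx⟩ := exists_prime_orderOf_dvd_card' (G := Z) 2 (even_iff_two_dvd.1 hodd)
  have hxo : Odd (orderOf (x : G)) := ((hZ x.1).1 x.2).1
  rw [Subgroup.orderOf_coe, hx] at hxo
  exact absurd hxo (by decide)

end Cfsg.Agent.S2202
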