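import Cfsg.Statements.S2221
import Cfsg.Agent.Lib.helper2.SylAltEven
import Cfsg.Agent.Lib.helper61.SylAlt_A
import Cfsg.Agent.Lib.helper61.SylAlt_C
import Cfsg.Agent.Lib.helper26.SylAlt_E0
import Cfsg.Agent.Lib.helper29.SylAlt_D
-- import your own Cfsg.Agent.* helpers here

set_option autoImplicit false
open Cfsg

namespace Cfsg.Agent.S2221

/-- Direct decomposability of the Sylow 2-subgroups of the alternating groups. Let n ≥ 4 and let P be a Sylow 2-subgroup of the alternating group of degree n. Then P is the internal direct product of two nontrivial subgroups if and only if n = 4, n = 5, or n ≡ 2, 3 (mod 4) with 4⌊n/4⌋ not a power of 2. In the remaining cases (n ≡ 0, 1 (mod 4) with n ≥ 8, or n ≡ 2, 3 (mod 4) with 4⌊n/4⌋ a power of 2) P is directly indecomposable. -/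
theorem result (n : ℕ) (hn : 4 ≤ n)
    (P : Sylow 2 (alternatingGroup (Fin n))) :
    (∃ S₁ S₂ : Subgroup (alternatingGroup (Fin n)), S₁ ≠ ⊥ ∧ S₂ ≠ ⊥ ∧
        Cfsg.IsInternalDirectProduct S₁ S₂ (P : Subgroup (alternatingGroup (Fin n)))) ↔
      (n = 4 ∨ n = 5 ∨ ((n % 4 = 2 ∨ n % 4 = 3) ∧ ∀ r : ℕ, 4 * (n / 4) ≠ 2 ^ r)) := by
  classical
  haveI : Fact (Nat.Prime 2) := ⟨Nat.prime_two⟩
  obtain ⟨σ, hσ⟩ : ∃ σ : alternatingGroup (Fin n) →* Equiv.Perm (Fin n),
      σ = (alternatingGroup (Fin n)).subtype := ⟨_, rfl⟩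
  have hinj : Function.Injective σ := by rw [hσ]; exact Subgroup.subtype_injective _
  have hrange : σ.range = alternatingGroup (Fin n) := by rw [hσ]; exact Subgroup.range_subtype _
  obtain ⟨P', hP'⟩ : ∃ P' : Subgroup (Equiv.Perm (Fin n)),
      P' = (P : Subgroup (alternatingGroup (Fin n))).map σ := ⟨_, rfl⟩
  have hP'2 : IsPGroup 2 P' := by rw [hP']; exact P.isPGroup'.map _
  obtain ⟨PS, hPS⟩ := hP'2.exists_le_sylow
  have hPS2 : IsPGroup 2 (PS : Subgroup (Equiv.Perm (Fin n))) := PS.isPGroup'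
  have hPSc : Nat.card (PS : Subgroup (Equiv.Perm (Fin n))) =
      2 ^ ((Fintype.card (Fin n)).factorial.factorization 2) := by
    rw [PS.card_eq_multiplicity, Nat.card_perm, Nat.card_eq_fintype_card]
  have hcardn : Fintype.card (Fin n) = n := Fintype.card_fin n
  have heq : P' = (PS : Subgroup (Equiv.Perm (Fin n))) ⊓ alternatingGroup (Fin n) := by
    apply le_antisymm
    · refine le_inf hPS ?_
      rw [hP']
      exact (Subgroup.map_le_range _ _).trans hrange.le
    · rintro p ⟨hp, hpa⟩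
      have hQ0 : IsPGroup 2 ((PS : Subgroup (Equiv.Perm (Fin n))).subgroupOf
          (alternatingGroup (Fin n))) := hPS2.comap_subtype
      have hle : (P : Subgroup (alternatingGroup (Fin n))) ≤
          (PS : Subgroup (Equiv.Perm (Fin n))).subgroupOf (alternatingGroup (Fin n)) := by
        intro t ht
        rw [Subgroup.mem_subgroupOf]
        apply hPS
        rw [hP', hσ]
        exact Subgroup.mem_map_of_mem _ ht
      have heq' := P.is_maximal' hQ0 hle
      have hmem : (⟨p, hpa⟩ : alternatingGroup (Fin n)) ∈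
          (PS : Subgroup (Equiv.Perm (Fin n))).subgroupOf (alternatingGroup (Fin n)) := by
        rw [Subgroup.mem_subgroupOf]; exact hp
      rw [heq'] at hmem
      rw [hP', hσ]
      exact ⟨_, hmem, rfl⟩
  constructor
  · rintro ⟨S₁, S₂, hS₁, hS₂, hle1, hle2, hcomm, hinf, hsup⟩
    by_cases h45 : n = 4 ∨ n = 5
    · rcases h45 with h | h
      · exact Or.inl h
      · exact Or.inr (Or.inl h)
    · push Not at h45
      have h6 : 6 ≤ n := by omega
      have hR₁ : S₁.map σ ≠ ⊥ := by
        rw [Ne, Subgroup.map_eq_bot_iff_of_injective _ hinj]; exact hS₁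
      have hR₂ : S₂.map σ ≠ ⊥ := by
        rw [Ne, Subgroup.map_eq_bot_iff_of_injective _ hinj]; exact hS₂
      have hdp : Cfsg.IsInternalDirectProduct (S₁.map σ) (S₂.map σ)
          ((PS : Subgroup (Equiv.Perm (Fin n))) ⊓ alternatingGroup (Fin n)) := by
        rw [← heq, hP']
        refine ⟨Subgroup.map_mono hle1, Subgroup.map_mono hle2, ?_, ?_, ?_⟩
        · rintro _ ⟨a, ha, rfl⟩ _ ⟨b, hb, rfl⟩
          rw [← map_mul, ← map_mul, hcomm a ha b hb]
        · rw [← Subgroup.map_inf _ _ σ hinj, hinf, Subgroup.map_bot]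
        · rw [← Subgroup.map_sup, hsup]
      right; right
      have hmod4 : n % 4 = 0 ∨ n % 4 = 1 ∨ n % 4 = 2 ∨ n % 4 = 3 := by omega
      rcases hmod4 with hm | hm | hm | hm
      · exfalso
        exact Cfsg.Agent.Lib.helper2.SylAlt.indecomp_even (PS : Subgroup (Equiv.Perm (Fin n)))
          hPS2 hPSc (by rw [hcardn]; omega) (by rw [hcardn]; exact Or.inl hm) _ _ hR₁ hR₂ hdp
      · exfalso
        exact Cfsg.Agent.Lib.helper2.SylAlt.indecomp_even (PS : Subgroup (Equiv.Perm (Fin n)))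
          hPS2 hPSc (by rw [hcardn]; omega) (by rw [hcardn]; exact Or.inr hm) _ _ hR₁ hR₂ hdp
      · refine ⟨Or.inl hm, ?_⟩
        intro r hr
        exact Cfsg.Agent.Lib.helper26.SylAlt.indecomp_odd_of (PS : Subgroup (Equiv.Perm (Fin n)))
          hPS2 hPSc (Cfsg.Agent.Lib.helper61.SylAlt.swaps_orbit_odd _ hPS2 hPSc)
          (by rw [hcardn]; exact h6) (by rw [hcardn]; exact Or.inl hm) r
          (by rw [hcardn]; exact hr) _ _ hR₁ hR₂ hdp
      · refine ⟨Or.inr hm, ?_⟩
        intro r hr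
        exact Cfsg.Agent.Lib.helper26.SylAlt.indecomp_odd_of (PS : Subgroup (Equiv.Perm (Fin n)))
          hPS2 hPSc (Cfsg.Agent.Lib.helper61.SylAlt.swaps_orbit_odd _ hPS2 hPSc)
          (by rw [hcardn]; exact h6) (by rw [hcardn]; exact Or.inr hm) r
          (by rw [hcardn]; exact hr) _ _ hR₁ hR₂ hdp
  · rintro (h | h | ⟨hm, hnp⟩)
    · exact Cfsg.Agent.Lib.helper61.SylAlt.small_decomp n (Or.inl h) P
    · exact Cfsg.Agent.Lib.helper61.SylAlt.small_decomp n (Or.inr h) P
    · obtain ⟨R₁, R₂, hR₁, hR₂, hle1, hle2, hcomm, hinf, hsup⟩ :=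
        Cfsg.Agent.Lib.helper29.SylAlt.decomp_of_mod (PS : Subgroup (Equiv.Perm (Fin n))) hPS2 hPSc
          (by rw [hcardn]; exact hm) (by rw [hcardn]; exact hnp) (by rw [hcardn]; exact hn)
      rw [← heq] at hle1 hle2 hsup
      have hPr : P' ≤ σ.range := by rw [hP']; exact Subgroup.map_le_range _ _
      have e1 : (R₁.comap σ).map σ = R₁ := Subgroup.map_comap_eq_self (hle1.trans hPr)
      have e2 : (R₂.comap σ).map σ = R₂ := Subgroup.map_comap_eq_self (hle2.trans hPr)
      refine ⟨R₁.comap σ, R₂.comap σ, ?_, ?_, ?_, ?_, ?_, ?_, ?_⟩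
      · intro h0
        rw [h0, Subgroup.map_bot] at e1
        exact hR₁ e1.symm
      · intro h0
        rw [h0, Subgroup.map_bot] at e2
        exact hR₂ e2.symm
      · rw [← Subgroup.map_le_map_iff_of_injective hinj, e1, ← hP']; exact hle1
      · rw [← Subgroup.map_le_map_iff_of_injective hinj, e2, ← hP']; exact hle2
      · intro a ha b hb
        apply hinj
        rw [map_mul, map_mul]
        exact hcomm _ ha _ hb
      · apply Subgroup.map_injective hinj
        rw [Subgroup.map_inf _ _ σ hinj, e1, e2, hinf, Subgroup.map_bot]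
      · apply Subgroup.map_injective hinj
        rw [Subgroup.map_sup, e1, e2, hsup, hP']

end Cfsg.Agent.S2221
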