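import Cfsg.Statements.S2231
import Cfsg.Agent.Lib.helper42.PComm

set_option autoImplicit false
open Cfsg

namespace Cfsg.Agent.S2231

open Cfsg.Agent.Lib.helper42

/-- the trace of a `p`-element of `SL₂` in characteristic `p` is `2` -/
theorem trace_eq_two {p : ℕ} [Fact p.Prime] {K : Type*} [Field K] [CharP K p]
    (g : Matrix.SpecialLinearGroup (Fin 2) K) (k : ℕ) (hg : g ^ p ^ k = 1) :
    (g : Matrix (Fin 2) (Fin 2) K) 0 0 + (g : Matrix (Fin 2) (Fin 2) K) 1 1 = 2 := by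
  have h1 : (g : Matrix (Fin 2) (Fin 2) K) ^ p ^ k = 1 := by
    have := congrArg Subtype.val hg
    simpa using this
  have h2 : ((g : Matrix (Fin 2) (Fin 2) K) - 1) ^ p ^ k = 0 := by
    rw [sub_pow_char_pow_of_commute p k (Commute.one_right _), h1, one_pow, sub_self]
  have h3 : IsNilpotent ((g : Matrix (Fin 2) (Fin 2) K) - 1) := ⟨p ^ k, h2⟩
  have h4 := (Matrix.isNilpotent_trace_of_isNilpotent h3).eq_zero
  rw [Matrix.trace_sub, Matrix.trace_one, Matrix.trace_fin_two] at h4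
  simp at h4
  linear_combination h4

theorem alg {K : Type*} [Field K] (h2 : (2 : K) ≠ 0) (g00 g01 g10 g11 h00 h01 h10 h11 : K)
    (T1 : g00 + g11 = 2) (D1 : g00 * g11 - g01 * g10 = 1) (T2 : h00 + h11 = 2) (D2 : h00 * h11 - h01 * h10 = 1)
    (T3 : g00 * h00 + g01 * h10 + (g10 * h01 + g11 * h11) = 2) :
    g01 * h10 = h01 * g10 ∧ g00 * h01 + g01 * h11 = h00 * g01 + h01 * g11 ∧
      g10 * h00 + g11 * h10 = h10 * g00 + h11 * g10 := by
  obtain rfl : g11 = 2 - g00 := by linear_combination T1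
  obtain rfl : h11 = 2 - h00 := by linear_combination T2
  have R1 : (g00 - 1) ^ 2 + g01 * g10 = 0 := by linear_combination (-1 : K) * D1
  have R2 : (h00 - 1) ^ 2 + h01 * h10 = 0 := by linear_combination (-1 : K) * D2
  have R3 : 2 * (g00 - 1) * (h00 - 1) + g01 * h10 + g10 * h01 = 0 := by linear_combination T3
  have X : (g01 * h10 - g10 * h01) ^ 2 = 0 := by
    linear_combination (g01 * h10 + g10 * h01 - 2 * (g00 - 1) * (h00 - 1)) * R3 - 4 * g01 * g10 * R2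
      + 4 * (h00 - 1) ^ 2 * R1
  have Y : ((g00 - 1) * h01 - g01 * (h00 - 1)) ^ 2 = 0 := by
    linear_combination h01 ^ 2 * R1 + g01 ^ 2 * R2 - g01 * h01 * R3
  have Z : (g10 * (h00 - 1) - (g00 - 1) * h10) ^ 2 = 0 := by
    linear_combination g10 ^ 2 * R2 + h10 ^ 2 * R1 - g10 * h10 * R3
  have X' := pow_eq_zero_iff (two_ne_zero) |>.mp X
  have Y' := pow_eq_zero_iff (two_ne_zero) |>.mp Y
  have Z' := pow_eq_zero_iff (two_ne_zero) |>.mp Z
  refine ⟨by linear_combination X', by linear_combination 2 * Y', by linear_combination 2 * Z'⟩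

theorem pcomm_SL2 {p : ℕ} [Fact p.Prime] (hp : p ≠ 2) {K : Type*} [Field K] [CharP K p] :
    PComm p (Matrix.SpecialLinearGroup (Fin 2) K) := by
  intro P hP g hg h hh
  obtain ⟨k1, hk1⟩ := hP ⟨g, hg⟩
  obtain ⟨k2, hk2⟩ := hP ⟨h, hh⟩
  obtain ⟨k3, hk3⟩ := hP ⟨g * h, P.mul_mem hg hh⟩
  have t1 := trace_eq_two g k1 (by simpa using congrArg Subtype.val hk1)
  have t2 := trace_eq_two h k2 (by simpa using congrArg Subtype.val hk2)
  have t3 := trace_eq_two (g * h) k3 (by simpa using congrArg Subtype.val hk3)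
  have d1 := g.det_coe
  have d2 := h.det_coe
  rw [Matrix.det_fin_two] at d1 d2
  simp only [Matrix.SpecialLinearGroup.coe_mul, Matrix.mul_apply, Fin.sum_univ_two] at t3
  have two_ne : (2 : K) ≠ 0 := by
    intro h0
    have : (p : ℕ) ∣ 2 := by
      have := (CharP.cast_eq_zero_iff K p 2).mp (by exact_mod_cast h0)
      exact this
    have hp' := (Nat.prime_dvd_prime_iff_eq (Fact.out : p.Prime) Nat.prime_two).mp this
    exact hp hp'
  obtain ⟨e1, e2, e3⟩ := alg two_ne _ _ _ _ _ _ _ _ t1 d1 t2 d2 t3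
  apply Subtype.ext
  ext i j
  simp only [Matrix.SpecialLinearGroup.coe_mul, Matrix.mul_apply, Fin.sum_univ_two]
  fin_cases i <;> fin_cases j
  · simp only [Fin.zero_eta, Fin.isValue]
    linear_combination e1
  · simp only [Fin.zero_eta, Fin.mk_one, Fin.isValue]
    linear_combination e2
  · simp only [Fin.zero_eta, Fin.mk_one, Fin.isValue]
    linear_combination e3
  · simp only [Fin.mk_one, Fin.isValue]
    linear_combination (-1 : K) * e1

theorem pcomm_PSL2 {p : ℕ} [Fact p.Prime] (hp : p ≠ 2) {K : Type*} [Field K] [Fintype K] [CharP K p] :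
    PComm p (Matrix.ProjectiveSpecialLinearGroup (Fin 2) K) :=
  (pcomm_SL2 hp).of_surjective (QuotientGroup.mk' _) (QuotientGroup.mk'_surjective _)

/-- the upper unitriangular matrices -/
def ut (p : ℕ) : Subgroup (Matrix.SpecialLinearGroup (Fin 3) (ZMod p)) where
  carrier := {M | M.1 1 0 = 0 ∧ M.1 2 0 = 0 ∧ M.1 2 1 = 0 ∧ M.1 0 0 = 1 ∧ M.1 1 1 = 1 ∧ M.1 2 2 = 1}
  mul_mem' := by
    rintro a b ⟨h1, h2, h3, h4, h5, h6⟩ ⟨k1, k2, k3, k4, k5, k6⟩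
    simp only [Set.mem_ofPred_eq, Matrix.SpecialLinearGroup.coe_mul, Matrix.mul_apply, Fin.sum_univ_three]
    simp [h1, h2, h3, h4, h5, h6, k1, k2, k3, k4, k5, k6]
  one_mem' := by simp
  inv_mem' := by
    rintro a ⟨h1, h2, h3, h4, h5, h6⟩
    simp only [Set.mem_ofPred_eq, Matrix.SpecialLinearGroup.coe_inv, Matrix.adjugate_fin_three, Matrix.of_apply,
      Matrix.cons_val', Matrix.cons_val_zero, Matrix.cons_val_one, Matrix.cons_val_two]
    simp [h1, h2, h3, h4, h5, h6]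

theorem ut_pow {p : ℕ} [Fact p.Prime] (hp : p ≠ 2) (g : Matrix.SpecialLinearGroup (Fin 3) (ZMod p)) (hg : g ∈ ut p) :
    g ^ p = 1 := by
  obtain ⟨h1, h2, h3, h4, h5, h6⟩ := hg
  have hp3 : 3 ≤ p := by
    have := (Fact.out : p.Prime).two_le
    omega
  apply Subtype.ext
  rw [Matrix.SpecialLinearGroup.coe_pow, Matrix.SpecialLinearGroup.coe_one]
  have hN : (g.1 - 1) * (g.1 - 1) * (g.1 - 1) = 0 := by
    ext i j
    fin_cases i <;> fin_cases j <;>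
      simp [Matrix.mul_apply, Fin.sum_univ_three, Matrix.sub_apply, Matrix.one_apply, h1, h2, h3, h4, h5, h6]
  have hN' : (g.1 - 1) ^ p = 0 := by
    apply pow_eq_zero_of_le hp3
    rw [pow_succ, pow_two]; exact hN
  have : g.1 = (g.1 - 1) + 1 := by abel
  rw [this, add_pow_char_of_commute p (Commute.one_right _), hN', one_pow, zero_add]

/-- Let p be an odd prime and K a finite field of characteristic p. Then Qd(p) (the natural semidirect product of an elementary abelian group of order p² by SL₂(p)) is not involved in the projective special linear group PSL₂(K). -/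
theorem result {p : ℕ} [Fact p.Prime] (hp : p ≠ 2) {K : Type*} [Field K] [Fintype K] [CharP K p] : ¬ Cfsg.Involves ↥(Cfsg.qd p) (Matrix.ProjectiveSpecialLinearGroup (Fin 2) K) := by
  intro hI
  have hc : PComm p ↥(Cfsg.qd p) := (pcomm_PSL2 (K := K) hp).of_involves hI
  let x : Matrix.SpecialLinearGroup (Fin 3) (ZMod p) := ⟨!![1, 1, 0; 0, 1, 0; 0, 0, 1], by simp [Matrix.det_fin_three]⟩
  let y : Matrix.SpecialLinearGroup (Fin 3) (ZMod p) := ⟨!![1, 0, 0; 0, 1, 1; 0, 0, 1], by simp [Matrix.det_fin_three]⟩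
  have hxq : x ∈ Cfsg.qd p := Subgroup.subset_closure (by
    show (!![1, 1, 0; 0, 1, 0; 0, 0, 1] : Matrix (Fin 3) (Fin 3) (ZMod p)) 2 0 = 0 ∧
      (!![1, 1, 0; 0, 1, 0; 0, 0, 1] : Matrix (Fin 3) (Fin 3) (ZMod p)) 2 1 = 0 ∧
      (!![1, 1, 0; 0, 1, 0; 0, 0, 1] : Matrix (Fin 3) (Fin 3) (ZMod p)) 2 2 = 1
    simp)
  have hyq : y ∈ Cfsg.qd p := Subgroup.subset_closure (by
    show (!![1, 0, 0; 0, 1, 1; 0, 0, 1] : Matrix (Fin 3) (Fin 3) (ZMod p)) 2 0 = 0 ∧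
      (!![1, 0, 0; 0, 1, 1; 0, 0, 1] : Matrix (Fin 3) (Fin 3) (ZMod p)) 2 1 = 0 ∧
      (!![1, 0, 0; 0, 1, 1; 0, 0, 1] : Matrix (Fin 3) (Fin 3) (ZMod p)) 2 2 = 1
    simp)
  have hxu : x ∈ ut p := by
    show (!![1, 1, 0; 0, 1, 0; 0, 0, 1] : Matrix (Fin 3) (Fin 3) (ZMod p)) 1 0 = 0 ∧
      (!![1, 1, 0; 0, 1, 0; 0, 0, 1] : Matrix (Fin 3) (Fin 3) (ZMod p)) 2 0 = 0 ∧
      (!![1, 1, 0; 0, 1, 0; 0, 0, 1] : Matrix (Fin 3) (Fin 3) (ZMod p)) 2 1 = 0 ∧
      (!![1, 1, 0; 0, 1, 0; 0, 0, 1] : Matrix (Fin 3) (Fin 3) (ZMod p)) 0 0 = 1 ∧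
      (!![1, 1, 0; 0, 1, 0; 0, 0, 1] : Matrix (Fin 3) (Fin 3) (ZMod p)) 1 1 = 1 ∧
      (!![1, 1, 0; 0, 1, 0; 0, 0, 1] : Matrix (Fin 3) (Fin 3) (ZMod p)) 2 2 = 1
    simp
  have hyu : y ∈ ut p := by
    show (!![1, 0, 0; 0, 1, 1; 0, 0, 1] : Matrix (Fin 3) (Fin 3) (ZMod p)) 1 0 = 0 ∧
      (!![1, 0, 0; 0, 1, 1; 0, 0, 1] : Matrix (Fin 3) (Fin 3) (ZMod p)) 2 0 = 0 ∧
      (!![1, 0, 0; 0, 1, 1; 0, 0, 1] : Matrix (Fin 3) (Fin 3) (ZMod p)) 2 1 = 0 ∧
      (!![1, 0, 0; 0, 1, 1; 0, 0, 1] : Matrix (Fin 3) (Fin 3) (ZMod p)) 0 0 = 1 ∧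
      (!![1, 0, 0; 0, 1, 1; 0, 0, 1] : Matrix (Fin 3) (Fin 3) (ZMod p)) 1 1 = 1 ∧
      (!![1, 0, 0; 0, 1, 1; 0, 0, 1] : Matrix (Fin 3) (Fin 3) (ZMod p)) 2 2 = 1
    simp
  have hP : IsPGroup p ((ut p).subgroupOf (Cfsg.qd p)) := by
    intro g
    refine ⟨1, ?_⟩
    apply Subtype.ext
    apply Subtype.ext
    have := ut_pow hp g.1.1 (Subgroup.mem_subgroupOf.mp g.2)
    simpa using this
  have h := hc ((ut p).subgroupOf (Cfsg.qd p)) hP ⟨x, hxq⟩ (Subgroup.mem_subgroupOf.mpr hxu) ⟨y, hyq⟩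
    (Subgroup.mem_subgroupOf.mpr hyu)
  have h' : x * y = y * x := congrArg Subtype.val h
  have hm : (!![1, 1, 0; 0, 1, 0; 0, 0, 1] : Matrix (Fin 3) (Fin 3) (ZMod p)) * !![1, 0, 0; 0, 1, 1; 0, 0, 1]
      = !![1, 0, 0; 0, 1, 1; 0, 0, 1] * !![1, 1, 0; 0, 1, 0; 0, 0, 1] := congrArg Subtype.val h'
  have h'' := congrFun (congrFun hm 0) 2
  simp [Matrix.mul_apply, Fin.sum_univ_three] at h''

end Cfsg.Agent.S2231
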