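import Cfsg.Statements.S2232
import Cfsg.Agent.Lib.helper99.QdLocal
import Cfsg.Agent.Lib.helper99.USyl3

set_option autoImplicit false
open Cfsg

namespace Cfsg.Agent.S2232

/-- Let p be an odd prime, q a power of p and K a finite field with q² elements. Then Qd(p) (the natural semidirect product of an elementary abelian group of order p² by SL₂(p)) is not involved in the projective special unitary group PSU₃(q) realised over K. -/
theorem result {p : ℕ} [Fact p.Prime] (hp : p ≠ 2) {K : Type*} [Field K] [Fintype K] [CharP K p] (n : ℕ) (hn : 1 ≤ n) (hK : Fintype.card K = (p ^ n) ^ 2) : ¬ Cfsg.Involves ↥(Cfsg.qd p) (Cfsg.PSU 3 K (p ^ n)) := by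
  intro hI
  obtain ⟨H, π, hπ⟩ := Cfsg.Agent.Lib.helper99.exists_of_involves_quotient
    (Subgroup.center ↥(Cfsg.SU 3 K (p ^ n))) hI
  have hp3 : 3 ≤ p := by
    have h2 := (Fact.out : p.Prime).two_le
    omega
  have hfin : Finite ↥(Cfsg.SU 3 K (p ^ n)) := inferInstance
  apply Cfsg.Agent.Lib.helper99.no_qd_of_local (p := p) (G := ↥(Cfsg.SU 3 K (p ^ n))) ?_ H π hπ
  intro P hP hne
  obtain ⟨v, hv0, hvv, hstab⟩ := Cfsg.Agent.Lib.helper99.normalizer_stab hK P hP hne
  refine ⟨(p ^ n) ^ 2 - 1, 1, ?_, ?_⟩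
  · have h1 : p ∣ (p ^ n) ^ 2 := dvd_pow (dvd_pow_self p (by omega)) (by norm_num)
    have h2 : 1 ≤ (p ^ n) ^ 2 :=
      Nat.one_le_pow _ _ (Nat.one_le_pow _ _ (Fact.out : p.Prime).pos)
    rw [Nat.coprime_comm, Nat.Prime.coprime_iff_not_dvd (Fact.out : p.Prime)]
    intro h3
    have h4 : p ∣ (p ^ n) ^ 2 - ((p ^ n) ^ 2 - 1) := Nat.dvd_sub h1 h3
    rw [Nat.sub_sub_self h2] at h4
    exact (Fact.out : p.Prime).one_lt.ne' (Nat.dvd_one.mp h4)
  · intro a ha b hb
    rw [pow_one]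
    exact Cfsg.Agent.Lib.helper99.stab_p_closed hK hp3 v hv0 hvv a b (hstab a ha) (hstab b hb)

end Cfsg.Agent.S2232
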