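import Cfsg.Statements.S2239
import Cfsg.Agent.Lib.helper8.SzSub5

set_option autoImplicit false
open Cfsg

namespace Cfsg.Agent.S2239

/-- Subfield subgroups of the Suzuki group: let q = 2^(2m+1) and s = 2^(2k+1) with m, k ≥ 1 and 2k+1 dividing 2m+1 (so q is a power of s), both groups realised as stabilisers in SL₄ of the Suzuki–Tits ovoid. Then Sz(q) has a subgroup isomorphic to Sz(s), and any two subgroups of Sz(q) isomorphic to Sz(s) are conjugate. -/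
theorem result {F : Type*} [Field F] [Fintype F] {m : ℕ} (hm : 1 ≤ m) (hF : Fintype.card F = 2 ^ (2 * m + 1)) {K : Type*} [Field K] [Fintype K] {k : ℕ} (hk : 1 ≤ k) (hK : Fintype.card K = 2 ^ (2 * k + 1)) (hdiv : 2 * k + 1 ∣ 2 * m + 1) :
    (∃ S : Subgroup ↥(Cfsg.Sz F m), Nonempty (↥S ≃* ↥(Cfsg.Sz K k))) ∧
    ∀ S₁ S₂ : Subgroup ↥(Cfsg.Sz F m), Nonempty (↥S₁ ≃* ↥(Cfsg.Sz K k)) → Nonempty (↥S₂ ≃* ↥(Cfsg.Sz K k)) →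
      ∃ g : ↥(Cfsg.Sz F m), S₂ = S₁.map (MulAut.conj g).toMonoidHom := by
  classical
  have hK' : Nat.card K = 2 ^ (2 * k + 1) := by rw [Nat.card_eq_fintype_card, hK]
  obtain ⟨K₀, hK₀⟩ := Cfsg.Agent.Lib.helper8.exists_subfield_card hF (n := 2 * k + 1)
    (by omega) hdiv
  have : Fintype K₀ := Fintype.ofFinite K₀
  have hcard : Fintype.card K = Fintype.card K₀ := by
    rw [hK, ← Nat.card_eq_fintype_card, hK₀]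
  obtain ⟨ι⟩ : Nonempty (K →+* F) :=
    ⟨K₀.subtype.comp (FiniteField.ringEquivOfCardEq hcard).toRingHom⟩
  have hinj := Cfsg.Agent.Lib.helper8.szEmb_injective hF hk hK' hdiv ι
  refine ⟨⟨(Cfsg.Agent.Lib.helper8.szEmb hF hk hK' hdiv ι).range,
    ⟨(MonoidHom.ofInjective hinj).symm⟩⟩, ?_⟩
  rintro S₁ S₂ ⟨e₁⟩ ⟨e₂⟩
  obtain ⟨c₁, h₁⟩ := Cfsg.Agent.Lib.helper8.conj_of_iso hm hF hk hK hK' hdiv ι S₁ e₁
  obtain ⟨c₂, h₂⟩ := Cfsg.Agent.Lib.helper8.conj_of_iso hm hF hk hK hK' hdiv ι S₂ e₂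
  refine ⟨c₂⁻¹ * c₁, ?_⟩
  ext g
  constructor
  · intro hg
    have hg' : c₂ * g * c₂⁻¹ ∈ S₂.map (MulAut.conj c₂).toMonoidHom := ⟨g, hg, rfl⟩
    rw [h₂, ← h₁] at hg'
    obtain ⟨x, hx, e⟩ := hg'
    have e' : c₁ * x * c₁⁻¹ = c₂ * g * c₂⁻¹ := e
    refine ⟨x, hx, ?_⟩
    show c₂⁻¹ * c₁ * x * (c₂⁻¹ * c₁)⁻¹ = g
    calc c₂⁻¹ * c₁ * x * (c₂⁻¹ * c₁)⁻¹ = c₂⁻¹ * (c₁ * x * c₁⁻¹) * c₂ := by group
      _ = c₂⁻¹ * (c₂ * g * c₂⁻¹) * c₂ := by rw [e']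
      _ = g := by group
  · rintro ⟨x, hx, rfl⟩
    have hx' : c₁ * x * c₁⁻¹ ∈ S₁.map (MulAut.conj c₁).toMonoidHom := ⟨x, hx, rfl⟩
    rw [h₁, ← h₂] at hx'
    obtain ⟨y, hy, e⟩ := hx'
    have e' : c₂ * y * c₂⁻¹ = c₁ * x * c₁⁻¹ := e
    have hxy : (MulAut.conj (c₂⁻¹ * c₁)).toMonoidHom x = y := by
      show c₂⁻¹ * c₁ * x * (c₂⁻¹ * c₁)⁻¹ = y
      calc c₂⁻¹ * c₁ * x * (c₂⁻¹ * c₁)⁻¹ = c₂⁻¹ * (c₁ * x * c₁⁻¹) * c₂ := by group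
        _ = c₂⁻¹ * (c₂ * y * c₂⁻¹) * c₂ := by rw [e']
        _ = y := by group
    rw [hxy]
    exact hy

end Cfsg.Agent.S2239
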