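import Cfsg.Statements.S2241
import Cfsg.Agent.Lib.helper8.SzSylow2

set_option autoImplicit false
open Cfsg

namespace Cfsg.Agent.S2241

/-- Real 2-elements of the Suzuki group: with q = 2^(2m+1), m ≥ 1, and the group realised as the stabiliser in SL₄ of the Suzuki–Tits ovoid, a non-identity element of a Sylow 2-subgroup is conjugate to its inverse if and only if it is an involution; in particular no element of order 4 is conjugate to its inverse. -/
theorem result {F : Type*} [Field F] [Fintype F] {m : ℕ} (hm : 1 ≤ m) (hF : Fintype.card F = 2 ^ (2 * m + 1)) (P : Sylow 2 ↥(Cfsg.Sz F m)) (g : ↥(Cfsg.Sz F m)) (hg : g ∈ (P : Subgroup ↥(Cfsg.Sz F m))) (h1 : g ≠ 1) :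
    IsConj g g⁻¹ ↔ orderOf g = 2 := by
  have h := Cfsg.Agent.Lib.helper8.szHyp_of_card hF
  obtain ⟨k, hk⟩ := Cfsg.Agent.Lib.helper8.sylow_conj hm hF P
  obtain ⟨a, b, hab⟩ := (hk g).1 hg
  constructor
  · intro hconj
    obtain ⟨c, hc⟩ := isConj_iff.1 hconj
    have ha : a = 0 := by
      by_contra ha
      apply Cfsg.Agent.Lib.helper8.sT_not_conj_inv hm hF (b := b) ha (k⁻¹ * c * k).2
      rw [← hab]
      have e : (k⁻¹ * c * k) * (k⁻¹ * g * k) * (k⁻¹ * c * k)⁻¹ = (k⁻¹ * g * k)⁻¹ := by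
        calc (k⁻¹ * c * k) * (k⁻¹ * g * k) * (k⁻¹ * c * k)⁻¹ = k⁻¹ * (c * g * c⁻¹) * k := by group
          _ = (k⁻¹ * g * k)⁻¹ := by rw [hc]; group
      exact congrArg Subtype.val e
    subst ha
    have hsq : (k⁻¹ * g * k) * (k⁻¹ * g * k) = 1 := by
      apply Subtype.ext
      rw [Subgroup.coe_mul, hab, Cfsg.Agent.Lib.helper8.sT_zero_sq h]
      rfl
    have hg2 : g ^ 2 = 1 := by
      have e : g * g = k * ((k⁻¹ * g * k) * (k⁻¹ * g * k)) * k⁻¹ := by group
      rw [pow_two, e, hsq]; group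
    exact orderOf_eq_prime hg2 h1
  · intro ho
    have hg2 : g ^ 2 = 1 := by rw [← ho]; exact pow_orderOf_eq_one g
    have e : g⁻¹ = g := by
      rw [inv_eq_iff_mul_eq_one, ← pow_two]; exact hg2
    rw [e]

end Cfsg.Agent.S2241
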