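import Cfsg.Statements.S2245
import Cfsg.Agent.Lib.helper25.SylMax6
-- import your own Cfsg.Agent.* helpers here

set_option autoImplicit false
open Cfsg
open Cfsg.Agent.Lib.helper25.SylMax

namespace Cfsg.Agent.S2245

/-- For n ≥ 5 with n ≠ 6, a Sylow 2-subgroup of the alternating group A_n lies in exactly one maximal subgroup of A_n if and only if n = 2^k + 1 for some k ≥ 2; the same holds for the symmetric group S_n. -/
theorem result (n : ℕ) (hn : 5 ≤ n) (h6 : n ≠ 6) :
    ((∀ R : Sylow 2 ↥(alternatingGroup (Fin n)), (∃! M : Subgroup ↥(alternatingGroup (Fin n)), IsCoatom M ∧ (R : Subgroup ↥(alternatingGroup (Fin n))) ≤ M) ↔ ∃ k : ℕ, 2 ≤ k ∧ n = 2 ^ k + 1) ∧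
    (∀ R : Sylow 2 (Equiv.Perm (Fin n)), (∃! M : Subgroup (Equiv.Perm (Fin n)), IsCoatom M ∧ (R : Subgroup (Equiv.Perm (Fin n))) ≤ M) ↔ ∃ k : ℕ, 2 ≤ k ∧ n = 2 ^ k + 1)) := by
  have hc : Fintype.card (Fin n) = n := Fintype.card_fin n
  refine ⟨fun R => ?_, fun R => ?_⟩
  · have h := main_generic (hostAlt (Fin n) (by rw [hc]; exact hn)) (by rw [hc]; exact hn)
      (by rw [hc]; exact h6) R
      (by
        rintro ⟨k, hk, hkn⟩ J hJ hRJ
        rw [hc] at hkn
        by_cases h5 : n = 5
        · subst h5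
          exact alt5_trans_top R J hJ.toIsPretransitive hRJ
        · have hk3 : 3 ≤ k := by
            by_contra hcon
            have hk2 : k = 2 := by omega
            rw [hk2] at hkn
            exact h5 (by rw [hkn]; norm_num)
          have h8 : 2 ^ 3 ≤ 2 ^ k := Nat.pow_le_pow_right (by norm_num) hk3
          exact alt_sylow_prim_top_nine k (by rw [hc]; exact hkn) (by rw [hc]; omega) R J hJ hRJ)
    rw [hc] at h
    exact h
  · have h := main_generic (hostPerm (Fin n)) (by rw [hc]; exact hn) (by rw [hc]; exact h6) R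
      (fun _ J hJ hRJ => perm_sylow_prim_top (by rw [hc]; omega) R J hJ hRJ)
    rw [hc] at h
    exact h

end Cfsg.Agent.S2245
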