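import Cfsg.Statements.S2247
import Cfsg.Agent.Lib.helper8.SzSylow2

set_option autoImplicit false
open Cfsg

namespace Cfsg.Agent.S2247

/-- In the Suzuki group with q = 2^(2m+1), m ≥ 1 (realised as the stabiliser in SL₄ of the Suzuki–Tits ovoid), the normalizer of a Sylow 2-subgroup P is a maximal subgroup and is the only maximal subgroup containing P. -/
theorem result {F : Type*} [Field F] [Fintype F] {m : ℕ} (hm : 1 ≤ m) (hF : Fintype.card F = 2 ^ (2 * m + 1)) (P : Sylow 2 ↥(Cfsg.Sz F m)) :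
    IsCoatom (Subgroup.normalizer ((P : Subgroup ↥(Cfsg.Sz F m)) : Set ↥(Cfsg.Sz F m))) ∧
    ∀ M : Subgroup ↥(Cfsg.Sz F m), IsCoatom M → (P : Subgroup ↥(Cfsg.Sz F m)) ≤ M → M = Subgroup.normalizer ((P : Subgroup ↥(Cfsg.Sz F m)) : Set ↥(Cfsg.Sz F m)) := by
  have h := Cfsg.Agent.Lib.helper8.szHyp_of_card hF
  obtain ⟨k, hk⟩ := Cfsg.Agent.Lib.helper8.sylow_conj hm hF P
  have hnorm : ∀ g : ↥(Cfsg.Sz F m),
      g ∈ Subgroup.normalizer ((P : Subgroup ↥(Cfsg.Sz F m)) : Set ↥(Cfsg.Sz F m)) ↔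
      ((k⁻¹ * g * k : ↥(Cfsg.Sz F m)) : Matrix.SpecialLinearGroup (Fin 4) F) •
        (Cfsg.Agent.Lib.helper8.pinf : Projectivization F (Fin 4 → F)) = Cfsg.Agent.Lib.helper8.pinf := by
    intro g
    rw [Subgroup.mem_normalizer_iff]
    constructor
    · intro hg
      have ht₀ : k * ⟨Cfsg.Agent.Lib.helper8.sT m 0 1, Cfsg.Agent.Lib.helper8.sT_mem h 0 1⟩ * k⁻¹ ∈
          (P : Subgroup ↥(Cfsg.Sz F m)) := by
        rw [hk]
        exact ⟨0, 1, congrArg Subtype.val (show k⁻¹ * (k * ⟨Cfsg.Agent.Lib.helper8.sT m 0 1,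
          Cfsg.Agent.Lib.helper8.sT_mem h 0 1⟩ * k⁻¹) * k = ⟨Cfsg.Agent.Lib.helper8.sT m 0 1,
          Cfsg.Agent.Lib.helper8.sT_mem h 0 1⟩ by group)⟩
      have h2 := (hg _).1 ht₀
      rw [hk] at h2
      obtain ⟨a', b', e⟩ := h2
      apply Cfsg.Agent.Lib.helper8.fix_of_conj_T h (k⁻¹ * g * k).2 (a := 0) (b := 1) (by simp)
        (a' := a') (b' := b')
      rw [← e]
      have e2 : (k⁻¹ * g * k) * ⟨Cfsg.Agent.Lib.helper8.sT m 0 1, Cfsg.Agent.Lib.helper8.sT_mem h 0 1⟩ *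
          (k⁻¹ * g * k)⁻¹ = k⁻¹ * (g * (k * ⟨Cfsg.Agent.Lib.helper8.sT m 0 1,
          Cfsg.Agent.Lib.helper8.sT_mem h 0 1⟩ * k⁻¹) * g⁻¹) * k := by group
      exact congrArg Subtype.val e2
    · intro hfix x
      rw [hk, hk]
      constructor
      · rintro ⟨a, b, e⟩
        obtain ⟨a', b', e'⟩ := Cfsg.Agent.Lib.helper8.conj_T_of_fix hm hF (k⁻¹ * g * k).2 hfix a b
        refine ⟨a', b', ?_⟩
        rw [← e', ← e]
        have e2 : k⁻¹ * (g * x * g⁻¹) * k = (k⁻¹ * g * k) * (k⁻¹ * x * k) * (k⁻¹ * g * k)⁻¹ := by group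
        exact congrArg Subtype.val e2
      · rintro ⟨a, b, e⟩
        obtain ⟨a', b', e'⟩ := Cfsg.Agent.Lib.helper8.conj_T_of_fix' hm hF (k⁻¹ * g * k).2 hfix a b
        refine ⟨a', b', ?_⟩
        rw [← e', ← e]
        have e2 : k⁻¹ * x * k = (k⁻¹ * g * k)⁻¹ * (k⁻¹ * (g * x * g⁻¹) * k) * (k⁻¹ * g * k) := by group
        exact congrArg Subtype.val e2
  have htop : ∀ M : Subgroup ↥(Cfsg.Sz F m), (P : Subgroup ↥(Cfsg.Sz F m)) ≤ M → ∀ g ∈ M,
      ((k⁻¹ * g * k : ↥(Cfsg.Sz F m)) : Matrix.SpecialLinearGroup (Fin 4) F) •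
        (Cfsg.Agent.Lib.helper8.pinf : Projectivization F (Fin 4 → F)) ≠ Cfsg.Agent.Lib.helper8.pinf →
      M = ⊤ := by
    intro M hPM g hgM hmove
    have hM' : ∀ x : Matrix.SpecialLinearGroup (Fin 4) F,
        x ∈ (M.map (Cfsg.Sz F m).subtype).comap
          (MulAut.conj (k : Matrix.SpecialLinearGroup (Fin 4) F)).toMonoidHom ↔
        (k : Matrix.SpecialLinearGroup (Fin 4) F) * x * (k : Matrix.SpecialLinearGroup (Fin 4) F)⁻¹ ∈
          M.map (Cfsg.Sz F m).subtype := fun x => Iff.rfl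
    have key := Cfsg.Agent.Lib.helper8.gen_top hm hF ((M.map (Cfsg.Sz F m).subtype).comap
          (MulAut.conj (k : Matrix.SpecialLinearGroup (Fin 4) F)).toMonoidHom) ?_
      (g₀ := ((k⁻¹ * g * k : ↥(Cfsg.Sz F m)) : Matrix.SpecialLinearGroup (Fin 4) F)) ?_
      (k⁻¹ * g * k).2 hmove
    · rw [eq_top_iff]
      intro x _
      have h3 := key (k⁻¹ * x * k).2
      rw [hM'] at h3
      have e : (k : Matrix.SpecialLinearGroup (Fin 4) F) *
          ((k⁻¹ * x * k : ↥(Cfsg.Sz F m)) : Matrix.SpecialLinearGroup (Fin 4) F) *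
          (k : Matrix.SpecialLinearGroup (Fin 4) F)⁻¹ = (x : Matrix.SpecialLinearGroup (Fin 4) F) :=
        congrArg Subtype.val (show k * (k⁻¹ * x * k) * k⁻¹ = x by group)
      rw [e] at h3
      exact (Cfsg.Agent.Lib.helper8.mem_map_subtype_iff x).1 h3
    · intro a b
      rw [hM']
      have h3 : k * ⟨Cfsg.Agent.Lib.helper8.sT m a b, Cfsg.Agent.Lib.helper8.sT_mem h a b⟩ * k⁻¹ ∈
          (P : Subgroup ↥(Cfsg.Sz F m)) := by
        rw [hk]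
        exact ⟨a, b, congrArg Subtype.val (show k⁻¹ * (k * ⟨Cfsg.Agent.Lib.helper8.sT m a b,
          Cfsg.Agent.Lib.helper8.sT_mem h a b⟩ * k⁻¹) * k = ⟨Cfsg.Agent.Lib.helper8.sT m a b,
          Cfsg.Agent.Lib.helper8.sT_mem h a b⟩ by group)⟩
      exact (Cfsg.Agent.Lib.helper8.mem_map_subtype_iff _).2 (hPM h3)
    · rw [hM']
      have e : (k : Matrix.SpecialLinearGroup (Fin 4) F) *
          ((k⁻¹ * g * k : ↥(Cfsg.Sz F m)) : Matrix.SpecialLinearGroup (Fin 4) F) *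
          (k : Matrix.SpecialLinearGroup (Fin 4) F)⁻¹ = (g : Matrix.SpecialLinearGroup (Fin 4) F) :=
        congrArg Subtype.val (show k * (k⁻¹ * g * k) * k⁻¹ = g by group)
      rw [e]
      exact (Cfsg.Agent.Lib.helper8.mem_map_subtype_iff g).2 hgM
  have hne : Subgroup.normalizer ((P : Subgroup ↥(Cfsg.Sz F m)) : Set ↥(Cfsg.Sz F m)) ≠ ⊤ := by
    intro e
    have h3 : k * ⟨Cfsg.Agent.Lib.helper8.sW, Cfsg.Agent.Lib.helper8.sW_mem h⟩ * k⁻¹ ∈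
        Subgroup.normalizer ((P : Subgroup ↥(Cfsg.Sz F m)) : Set ↥(Cfsg.Sz F m)) := by
      rw [e]; trivial
    rw [hnorm] at h3
    have e2 : ((k⁻¹ * (k * ⟨Cfsg.Agent.Lib.helper8.sW, Cfsg.Agent.Lib.helper8.sW_mem h⟩ * k⁻¹) * k :
        ↥(Cfsg.Sz F m)) : Matrix.SpecialLinearGroup (Fin 4) F) = Cfsg.Agent.Lib.helper8.sW :=
      congrArg Subtype.val (show k⁻¹ * (k * ⟨Cfsg.Agent.Lib.helper8.sW,
        Cfsg.Agent.Lib.helper8.sW_mem h⟩ * k⁻¹) * k = ⟨Cfsg.Agent.Lib.helper8.sW,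
        Cfsg.Agent.Lib.helper8.sW_mem h⟩ by group)
    rw [e2, Cfsg.Agent.Lib.helper8.sW_pinf m] at h3
    exact Cfsg.Agent.Lib.helper8.paff_ne_pinf m 0 0 h3
  have hle : ∀ M : Subgroup ↥(Cfsg.Sz F m), (P : Subgroup ↥(Cfsg.Sz F m)) ≤ M → M ≠ ⊤ →
      M ≤ Subgroup.normalizer ((P : Subgroup ↥(Cfsg.Sz F m)) : Set ↥(Cfsg.Sz F m)) := by
    intro M hPM hMne g hg
    rw [hnorm]
    by_contra hmove
    exact hMne (htop M hPM g hg hmove)
  refine ⟨⟨hne, ?_⟩, ?_⟩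
  · intro M hlt
    by_contra hMne
    exact (not_le_of_gt hlt) (hle M (le_trans Subgroup.le_normalizer hlt.le) hMne)
  · intro M hM hPM
    have h1 := hle M hPM hM.1
    rcases eq_or_lt_of_le h1 with e | hlt
    · exact e
    · exact absurd (hM.2 _ hlt) hne

end Cfsg.Agent.S2247
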