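import Cfsg.Statements.S2251
import Cfsg.Agent.Lib.helper8.SzSub4

set_option autoImplicit false
open Cfsg

namespace Cfsg.Agent.S2251

/-- The subgroups of the Suzuki group: with q = 2^(2m+1), m ≥ 1, r = 2^m and the group realised as the stabiliser in SL₄ of the Suzuki–Tits ovoid, every proper subgroup is contained in the normalizer of a Sylow 2-subgroup, or in the normalizer of a cyclic subgroup of order q − 1, q + 2r + 1 or q − 2r + 1, or in a subgroup isomorphic to a smaller Suzuki group Sz(s) with s = 2^(2k+1) ≥ 8 and 2k+1 a proper divisor of 2m+1. -/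
theorem result {F : Type*} [Field F] [Fintype F] {m : ℕ} (hm : 1 ≤ m) (hF : Fintype.card F = 2 ^ (2 * m + 1)) (M : Subgroup ↥(Cfsg.Sz F m)) (hM : M ≠ ⊤) :
    (∃ P : Sylow 2 ↥(Cfsg.Sz F m), M ≤ Subgroup.normalizer ((P : Subgroup ↥(Cfsg.Sz F m)) : Set ↥(Cfsg.Sz F m))) ∨
    (∃ U : Subgroup ↥(Cfsg.Sz F m), IsCyclic ↥U ∧ Nat.card ↥U ∈ ({2 ^ (2 * m + 1) - 1, 2 ^ (2 * m + 1) + 2 ^ (m + 1) + 1, 2 ^ (2 * m + 1) - 2 ^ (m + 1) + 1} : Set ℕ) ∧
      M ≤ Subgroup.normalizer (U : Set ↥(Cfsg.Sz F m))) ∨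
    (∃ (K : Type) (_ : Field K) (_ : Fintype K) (k : ℕ), 1 ≤ k ∧ k < m ∧ Fintype.card K = 2 ^ (2 * k + 1) ∧ 2 * k + 1 ∣ 2 * m + 1 ∧
      ∃ S : Subgroup ↥(Cfsg.Sz F m), Nonempty (↥S ≃* ↥(Cfsg.Sz K k)) ∧ M ≤ S) := by
  classical
  rcases Cfsg.Agent.Lib.helper8.sub_main hm hF M with ⟨p, hp, hfix⟩ | hZ | ⟨k, hk, hdiv, c, ι, hMc⟩
  · exact Or.inl (Cfsg.Agent.Lib.helper8.le_normalizer_of_fix hm hF M hp hfix)
  · by_cases hfix : ∃ p ∈ Cfsg.suzukiOvoid F m, ∀ g ∈ M, g.1 • p = p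
    · obtain ⟨p, hp, hfix⟩ := hfix
      exact Or.inl (Cfsg.Agent.Lib.helper8.le_normalizer_of_fix hm hF M hp hfix)
    · right; left
      have := hZ
      apply Cfsg.Agent.Lib.helper8.le_normalizer_of_isZGroup hm hF M
      intro p hp
      by_contra hcon
      push Not at hcon
      exact hfix ⟨p, hp, hcon⟩
  · right; right
    have hcard : Nat.card (GaloisField 2 (2 * k + 1)) = 2 ^ (2 * k + 1) :=
      GaloisField.card 2 (2 * k + 1) (by omega)
    have hinj := Cfsg.Agent.Lib.helper8.szEmb_injective hF hk hcard hdiv ι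
    have hkm : k < m := by
      have hle : 2 * k + 1 ≤ 2 * m + 1 := Nat.le_of_dvd (by omega) hdiv
      by_contra hlt
      have hkm : k = m := by omega
      subst hkm
      apply hM
      have : Fintype (GaloisField 2 (2 * k + 1)) := Fintype.ofFinite _
      have hc' : Fintype.card (GaloisField 2 (2 * k + 1)) = 2 ^ (2 * k + 1) := by
        rw [← Nat.card_eq_fintype_card]
        exact hcard
      have h1 := Cfsg.Agent.S0324.result hk hc'
      have h2 := Cfsg.Agent.S0324.result hk hF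
      have h3 : Nat.card (Cfsg.Agent.Lib.helper8.szEmb hF hk hcard hdiv ι).range =
          Nat.card ↥(Cfsg.Sz F k) := by
        rw [h2, ← h1]
        exact Nat.card_congr (MonoidHom.ofInjective hinj).toEquiv.symm
      have h4 : (Cfsg.Agent.Lib.helper8.szEmb hF hk hcard hdiv ι).range = ⊤ :=
        Subgroup.eq_top_of_card_eq _ h3
      rw [h4] at hMc
      rw [eq_top_iff]
      intro g _
      have hg : c * g * c⁻¹ ∈ M.map (MulAut.conj c).toMonoidHom := by
        rw [hMc]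
        exact Subgroup.mem_top _
      obtain ⟨x, hx, e⟩ := hg
      have e' : c * x * c⁻¹ = c * g * c⁻¹ := e
      have hxg : x = g := by
        calc x = c⁻¹ * (c * x * c⁻¹) * c := by group
          _ = c⁻¹ * (c * g * c⁻¹) * c := by rw [e']
          _ = g := by group
      rw [← hxg]
      exact hx
    refine ⟨GaloisField 2 (2 * k + 1), inferInstance, Fintype.ofFinite _, k, hk, hkm, ?_, hdiv,
      ((MulAut.conj c⁻¹).toMonoidHom.comp
        (Cfsg.Agent.Lib.helper8.szEmb hF hk hcard hdiv ι)).range, ⟨(MonoidHom.ofInjective ?_).symm⟩, ?_⟩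
    · exact (@Nat.card_eq_fintype_card (GaloisField 2 (2 * k + 1)) (Fintype.ofFinite _)).symm.trans
        hcard
    · exact (MulAut.conj c⁻¹).injective.comp hinj
    · intro g hg
      have hg' : c * g * c⁻¹ ∈ (Cfsg.Agent.Lib.helper8.szEmb hF hk hcard hdiv ι).range := by
        rw [← hMc]
        exact ⟨g, hg, rfl⟩
      obtain ⟨x, hx⟩ := hg'
      refine ⟨x, ?_⟩
      show c⁻¹ * Cfsg.Agent.Lib.helper8.szEmb hF hk hcard hdiv ι x * c⁻¹⁻¹ = g
      rw [hx]
      group

end Cfsg.Agent.S2251
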