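import Cfsg.Statements.S2256
import Mathlib
import Cfsg.Agent.Lib.helper69.NilpAlt2


set_option autoImplicit false
open Cfsg

namespace Cfsg.Agent.S2256

/-- Let n ≡ 3 (mod 4) with n ≥ 7. Then every nilpotent subgroup of the alternating group on n letters has order at most 3 times the order of a Sylow 2-subgroup of the alternating group on n − 3 letters; the bound is attained by a nilpotent subgroup isomorphic to the direct product of such a Sylow 2-subgroup with a cyclic group of order 3; and any two nilpotent subgroups of the alternating group attaining the bound are conjugate in it. -/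
theorem result  (n : ℕ) (hn : n % 4 = 3) (h7 : 7 ≤ n)
    (P : Sylow 2 (alternatingGroup (Fin (n - 3)))) :
    (∀ N : Subgroup (alternatingGroup (Fin n)), Group.IsNilpotent N → Nat.card N ≤ 3 * Nat.card P) ∧
    (∃ M : Subgroup (alternatingGroup (Fin n)), Group.IsNilpotent M ∧ Nat.card M = 3 * Nat.card P ∧
      Nonempty (M ≃* (↥(P : Subgroup (alternatingGroup (Fin (n - 3)))) × Multiplicative (ZMod 3)))) ∧
    (∀ N₁ N₂ : Subgroup (alternatingGroup (Fin n)), Group.IsNilpotent N₁ → Group.IsNilpotent N₂ →
      Nat.card N₁ = 3 * Nat.card P → Nat.card N₂ = 3 * Nat.card P →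
      ∃ g : alternatingGroup (Fin n), N₂ = N₁.map (MulAut.conj g).toMonoidHom) := by
  have hP := Cfsg.Agent.Lib.helper69.card_sylow_two_alt (n - 3) P
  have hbound : Cfsg.Agent.Lib.helper69.altBound n =
      3 * 2 ^ (Cfsg.Agent.Lib.helper69.v2f (n - 3) - 1) := by
    unfold Cfsg.Agent.Lib.helper69.altBound
    rw [if_neg (by omega), if_neg (by omega), if_neg (by omega), if_pos hn]
  refine ⟨?_, ?_, ?_⟩
  · intro N hN
    rw [hP, ← hbound]
    exact Cfsg.Agent.Lib.helper69.card_nilpotent_subgroup_alt_le n N hN
  · exact Cfsg.Agent.Lib.helper69.exists_nilpotent_sylow_prod_alt n (by omega) P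
  · intro N₁ N₂ h1 h2 c1 c2
    rw [hP] at c1 c2
    exact Cfsg.Agent.Lib.helper69.alt_extremal_conj n hn h7 N₁ N₂ h1 h2 c1 c2

end Cfsg.Agent.S2256
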