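import Cfsg.Statements.S2259
import Cfsg.Agent.Lib.helper8.SzSol6
import Cfsg.Agent.Lib.helper44.SzIso

set_option autoImplicit false
open Cfsg

namespace Cfsg.Agent.S2259

/-- Let G be the Suzuki group Sz(q), q = 2^(2m+1) with 2m + 1 prime and m ≥ 1, realised inside Sp_4(F) for F the field of order q, write r = 2^(m+1) (so r² = 2q), and for x ∈ G call the solubilizer of x the set of y ∈ G such that x and y generate a solvable subgroup. Then the solubilizer of an involution has q²(4q − 3) elements; that of an element of order 4 has q²(q + 3) elements; that of a non-identity element of order dividing q − 1 has 2q²(q − 1) elements; that of a non-identity element of order dividing q + r + 1 has 4(q + r + 1) elements; and that of a non-identity element of order dividing q − r + 1 has 4(q − r + 1) elements. -/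
theorem result {F : Type*} [Field F] [Fintype F] {m : ℕ} (hm : 1 ≤ m)
    (hp : (2 * m + 1).Prime) (hF : Fintype.card F = 2 ^ (2 * m + 1)) (x : ↥(Cfsg.Lie.Sz F (2 ^ (m + 1)))) :
    (orderOf x = 2 → Nat.card {y : ↥(Cfsg.Lie.Sz F (2 ^ (m + 1))) // Group.IsSolvable ↥(Subgroup.closure ({x, y} : Set (↥(Cfsg.Lie.Sz F (2 ^ (m + 1))))))} = (2 ^ (2 * m + 1)) ^ 2 * (4 * 2 ^ (2 * m + 1) - 3)) ∧
    (orderOf x = 4 → Nat.card {y : ↥(Cfsg.Lie.Sz F (2 ^ (m + 1))) // Group.IsSolvable ↥(Subgroup.closure ({x, y} : Set (↥(Cfsg.Lie.Sz F (2 ^ (m + 1))))))} = (2 ^ (2 * m + 1)) ^ 2 * (2 ^ (2 * m + 1) + 3)) ∧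
    (x ≠ 1 → orderOf x ∣ 2 ^ (2 * m + 1) - 1 →
      Nat.card {y : ↥(Cfsg.Lie.Sz F (2 ^ (m + 1))) // Group.IsSolvable ↥(Subgroup.closure ({x, y} : Set (↥(Cfsg.Lie.Sz F (2 ^ (m + 1))))))} = 2 * (2 ^ (2 * m + 1)) ^ 2 * (2 ^ (2 * m + 1) - 1)) ∧
    (x ≠ 1 → orderOf x ∣ 2 ^ (2 * m + 1) + 2 ^ (m + 1) + 1 → Nat.card {y : ↥(Cfsg.Lie.Sz F (2 ^ (m + 1))) // Group.IsSolvable ↥(Subgroup.closure ({x, y} : Set (↥(Cfsg.Lie.Sz F (2 ^ (m + 1))))))} = 4 * (2 ^ (2 * m + 1) + 2 ^ (m + 1) + 1)) ∧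
    (x ≠ 1 → orderOf x ∣ 2 ^ (2 * m + 1) - 2 ^ (m + 1) + 1 → Nat.card {y : ↥(Cfsg.Lie.Sz F (2 ^ (m + 1))) // Group.IsSolvable ↥(Subgroup.closure ({x, y} : Set (↥(Cfsg.Lie.Sz F (2 ^ (m + 1))))))} = 4 * (2 ^ (2 * m + 1) - 2 ^ (m + 1) + 1)) := by
  have hcount : Nat.card {y : ↥(Cfsg.Lie.Sz F (2 ^ (m + 1))) // Group.IsSolvable ↥(Subgroup.closure ({x, y} : Set (↥(Cfsg.Lie.Sz F (2 ^ (m + 1))))))} =
      Nat.card {y : ↥(Cfsg.Sz F m) // Group.IsSolvable ↥(Subgroup.closure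
        ({(Cfsg.Agent.Lib.helper44.szIso hm hF).symm x, y} : Set ↥(Cfsg.Sz F m)))} := by
    have h1 := Cfsg.Agent.Lib.helper8.solCount_equiv (Cfsg.Agent.Lib.helper44.szIso hm hF)
      ((Cfsg.Agent.Lib.helper44.szIso hm hF).symm x)
    rwa [MulEquiv.apply_symm_apply] at h1
  have hord : orderOf ((Cfsg.Agent.Lib.helper44.szIso hm hF).symm x) = orderOf x :=
    MulEquiv.orderOf_eq _ x
  have hne : x ≠ 1 → (Cfsg.Agent.Lib.helper44.szIso hm hF).symm x ≠ 1 := by
    intro hx1 e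
    apply hx1
    have e2 := congrArg (Cfsg.Agent.Lib.helper44.szIso hm hF) e
    rwa [MulEquiv.apply_symm_apply, map_one] at e2
  rw [hcount]
  refine ⟨?_, ?_, ?_, ?_, ?_⟩
  · intro h2
    have h2' : orderOf ((Cfsg.Agent.Lib.helper44.szIso hm hF).symm x) = 2 := by rw [hord]; exact h2
    apply Cfsg.Agent.Lib.helper8.solCount_invol hm hp hF
    · intro e1
      rw [e1, orderOf_one] at h2'
      omega
    · have h6 := pow_orderOf_eq_one ((Cfsg.Agent.Lib.helper44.szIso hm hF).symm x)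
      rw [h2'] at h6
      exact (pow_two _).symm.trans h6
  · intro h4
    have h4' : orderOf ((Cfsg.Agent.Lib.helper44.szIso hm hF).symm x) = 4 := by rw [hord]; exact h4
    apply Cfsg.Agent.Lib.helper8.solCount_four hm hp hF
    · have h6 := pow_orderOf_eq_one ((Cfsg.Agent.Lib.helper44.szIso hm hF).symm x)
      rw [h4'] at h6
      exact h6
    · intro e1
      have h5 : orderOf ((Cfsg.Agent.Lib.helper44.szIso hm hF).symm x) ∣ 2 :=
        orderOf_dvd_of_pow_eq_one (by rw [pow_two]; exact e1)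
      rw [h4'] at h5
      exact absurd h5 (by decide)
  · intro hx1 hdvd
    exact Cfsg.Agent.Lib.helper8.solCount_split hm hp hF _ (hne hx1) (by rw [hord]; exact hdvd)
  · intro hx1 hdvd
    exact Cfsg.Agent.Lib.helper8.solCount_plus hm hp hF _ (hne hx1) (by rw [hord]; exact hdvd)
  · intro hx1 hdvd
    exact Cfsg.Agent.Lib.helper8.solCount_minus hm hp hF _ (hne hx1) (by rw [hord]; exact hdvd)

end Cfsg.Agent.S2259
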