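import Cfsg.Statements.S2268
-- import your own Cfsg.Agent.* helpers here

set_option autoImplicit false
open Cfsg

namespace Cfsg.Agent.S2268

/-- Let G be a finite group with an abelian Sylow p-subgroup P and let Q ≤ P. Then N_G(Q) = (N_G(Q) ∩ N_G(P))·C_G(Q), so that N_G(Q)/C_G(Q) is a homomorphic image of the subgroup (N_G(Q) ∩ N_G(P))/C_G(P) of N_G(P)/C_G(P); in particular the order of N_G(Q)/C_G(Q) divides the order of N_G(P)/C_G(P). -/
theorem result {G : Type*} [Group G] [Finite G] {p : ℕ} [Fact p.Prime]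
    (P : Sylow p G) (hP : IsMulCommutative (P : Subgroup G)) (Q : Subgroup G) (hQ : Q ≤ (P : Subgroup G)) :
    Subgroup.normalizer (Q : Set G) =
      (Subgroup.normalizer (Q : Set G) ⊓ Subgroup.normalizer ((P : Subgroup G) : Set G)) ⊔ Subgroup.centralizer (Q : Set G) ∧
    ((Subgroup.centralizer (Q : Set G)).subgroupOf (Subgroup.normalizer (Q : Set G))).index ∣ ((Subgroup.centralizer ((P : Subgroup G) : Set G)).subgroupOf (Subgroup.normalizer ((P : Subgroup G) : Set G))).index := by
  classical
  have := hP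
  -- basic containments
  have hPC : (P : Subgroup G) ≤ Subgroup.centralizer (Q : Set G) := by
    intro x hx
    rw [Subgroup.mem_centralizer_iff]
    intro q hq
    have h1 : (⟨q, hQ hq⟩ : (P : Subgroup G)) * ⟨x, hx⟩ = ⟨x, hx⟩ * ⟨q, hQ hq⟩ :=
      isMulCommutative_iff.1 hP _ _
    exact congrArg Subtype.val h1
  have hCPQ : Subgroup.centralizer ((P : Subgroup G) : Set G) ≤ Subgroup.centralizer (Q : Set G) :=
    Subgroup.centralizer_le hQ
  have hCQN : Subgroup.centralizer (Q : Set G) ≤ Subgroup.normalizer (Q : Set G) :=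
    Subgroup.centralizer_le_normalizer (Q : Set G)
  have hCPN : Subgroup.centralizer ((P : Subgroup G) : Set G) ≤ Subgroup.normalizer ((P : Subgroup G) : Set G) :=
    Subgroup.centralizer_le_normalizer ((P : Subgroup G) : Set G)
  have hdecomp : ∀ g ∈ Subgroup.normalizer (Q : Set G), ∃ c ∈ Subgroup.centralizer (Q : Set G),
      ∃ a ∈ Subgroup.normalizer (Q : Set G) ⊓ Subgroup.normalizer ((P : Subgroup G) : Set G), g = c * a := by
    intro g hg
    have h2 : ((g • P : Sylow p G) : Subgroup G) ≤ Subgroup.centralizer (Q : Set G) := by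
      intro y hy
      rw [Sylow.smul_def, Sylow.pointwise_smul_def, Subgroup.mem_pointwise_smul_iff_inv_smul_mem] at hy
      rw [MulAut.smul_def, ← map_inv, MulAut.conj_apply, inv_inv] at hy
      -- hy : g⁻¹ * y * g ∈ P
      rw [Subgroup.mem_centralizer_iff]
      intro q hq
      have hq' : g⁻¹ * q * g ∈ Q := by
        have h3 := (Subgroup.mem_normalizer_iff.1 (inv_mem hg) q).1 hq
        simpa using h3
      have h4 := (Subgroup.mem_centralizer_iff.1 (hPC hy)) _ hq'
      have h5 : g * (g⁻¹ * q * g * (g⁻¹ * y * g)) * g⁻¹ = g * (g⁻¹ * y * g * (g⁻¹ * q * g)) * g⁻¹ := by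
        rw [h4]
      simpa [mul_assoc] using h5
    obtain ⟨h, hh⟩ := MulAction.exists_smul_eq (Subgroup.centralizer (Q : Set G))
      ((g • P).subtype h2) (P.subtype hPC)
    simp_rw [Sylow.smul_subtype, Subgroup.smul_def, smul_smul] at hh
    have h6 : (h : G) * g ∈ Subgroup.normalizer ((P : Subgroup G) : Set G) :=
      Sylow.smul_eq_iff_mem_normalizer.mp (Sylow.subtype_injective hh)
    have h7 : (h : G) * g ∈ Subgroup.normalizer (Q : Set G) := mul_mem (hCQN h.2) hg
    have h8 : g = (h : G)⁻¹ * ((h : G) * g) := by group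
    exact ⟨(h : G)⁻¹, inv_mem h.2, (h : G) * g, ⟨h7, h6⟩, h8⟩
  have hle : Subgroup.normalizer (Q : Set G) ≤
      (Subgroup.normalizer (Q : Set G) ⊓ Subgroup.normalizer ((P : Subgroup G) : Set G)) ⊔ Subgroup.centralizer (Q : Set G) := by
    intro g hg
    obtain ⟨c, hc, a, ha, rfl⟩ := hdecomp g hg
    exact mul_mem (Subgroup.mem_sup_right hc) (Subgroup.mem_sup_left ha)
  have heq : Subgroup.normalizer (Q : Set G) =
      (Subgroup.normalizer (Q : Set G) ⊓ Subgroup.normalizer ((P : Subgroup G) : Set G)) ⊔ Subgroup.centralizer (Q : Set G) :=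
    le_antisymm hle (sup_le inf_le_left hCQN)
  refine ⟨heq, ?_⟩
  set A : Subgroup G := Subgroup.normalizer (Q : Set G) ⊓ Subgroup.normalizer ((P : Subgroup G) : Set G) with hA
  have hAQ : A ≤ Subgroup.normalizer (Q : Set G) := inf_le_left
  have hAP : A ≤ Subgroup.normalizer ((P : Subgroup G) : Set G) := inf_le_right
  have hCPA : Subgroup.centralizer ((P : Subgroup G) : Set G) ≤ A := le_inf (hCPQ.trans hCQN) hCPN
  -- step 1: index of C(Q) in N(Q) equals relIndex of C(Q) in A
  have step1 : ((Subgroup.centralizer (Q : Set G)).subgroupOf (Subgroup.normalizer (Q : Set G))).index =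
      (Subgroup.centralizer (Q : Set G)).relIndex A := by
    rw [← Subgroup.relIndex_subgroupOf hAQ, ← Subgroup.normalizerMonoidHom_ker, Subgroup.index_ker,
      Subgroup.relIndex_ker]
    have h9 : (A.subgroupOf (Subgroup.normalizer (Q : Set G))).map Q.normalizerMonoidHom = Q.normalizerMonoidHom.range := by
      apply le_antisymm
      · exact Subgroup.map_le_range _ _
      · rintro _ ⟨y, rfl⟩
        obtain ⟨c, hc, a, ha, hac⟩ := hdecomp (y : G) y.2
        refine ⟨⟨a, hAQ ha⟩, ?_, ?_⟩
        · simpa [Subgroup.mem_subgroupOf] using ha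
        · have hc' : (⟨c, hCQN hc⟩ : Subgroup.normalizer (Q : Set G)) ∈ Q.normalizerMonoidHom.ker := by
            rw [Subgroup.normalizerMonoidHom_ker, Subgroup.mem_subgroupOf]
            exact hc
          have hy2 : y = ⟨c, hCQN hc⟩ * ⟨a, hAQ ha⟩ := Subtype.ext hac
          rw [hy2, map_mul, MonoidHom.mem_ker.1 hc', one_mul]
    rw [h9]
  rw [step1]
  have step2 : (Subgroup.centralizer (Q : Set G)).relIndex A ∣ (Subgroup.centralizer ((P : Subgroup G) : Set G)).relIndex A :=
    Subgroup.relIndex_dvd_of_le_left A hCPQ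
  have step3 : (Subgroup.centralizer ((P : Subgroup G) : Set G)).relIndex A ∣
      ((Subgroup.centralizer ((P : Subgroup G) : Set G)).subgroupOf (Subgroup.normalizer ((P : Subgroup G) : Set G))).index :=
    Dvd.intro _ (Subgroup.relIndex_mul_relIndex _ _ _ hCPA hAP)
  exact step2.trans step3

end Cfsg.Agent.S2268
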