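import Cfsg.Statements.S2269
import Cfsg.Agent.Lib.helper43.NCIndex

set_option autoImplicit false
open Cfsg

namespace Cfsg.Agent.S2269

section Helpers

open Equiv

theorem odd_case (n : ℕ) (hn : 5 ≤ n) {p : ℕ} [Fact p.Prime] (hp2 : p ≠ 2)
    (P : Sylow p (alternatingGroup (Fin n))) (hP : IsMulCommutative (P : Subgroup (alternatingGroup (Fin n)))) :
    2 ∣ ((Subgroup.centralizer ((P : Subgroup (alternatingGroup (Fin n))) : Set (alternatingGroup (Fin n)))).subgroupOf (Subgroup.normalizer ((P : Subgroup (alternatingGroup (Fin n))) : Set (alternatingGroup (Fin n))))).index ∨ IsCyclic (P : Subgroup (alternatingGroup (Fin n))) := by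
  classical
  have hpp : p.Prime := Fact.out
  by_cases hbot : (P : Subgroup (alternatingGroup (Fin n))) = ⊥
  · right
    rw [hbot]
    infer_instance
  obtain ⟨k, hk⟩ := IsPGroup.iff_card.1 P.isPGroup'
  have hk0 : k ≠ 0 := by
    rintro rfl
    apply hbot
    rw [pow_zero] at hk
    exact Subgroup.card_eq_one.1 hk
  have hpcard : p ∣ Nat.card (P : Subgroup (alternatingGroup (Fin n))) := by
    rw [hk]; exact dvd_pow_self p hk0
  obtain ⟨x, hx⟩ := exists_prime_orderOf_dvd_card' p hpcard
  set σ : Perm (Fin n) := ((x : alternatingGroup (Fin n)) : Perm (Fin n)) with hσdef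
  have hσ : orderOf σ = p := by
    rw [hσdef, Subgroup.orderOf_coe, Subgroup.orderOf_coe, hx]
  by_cases hcent : Subgroup.centralizer {σ} ≤ alternatingGroup (Fin n)
  · right
    rw [Equiv.Perm.centralizer_le_alternating_iff] at hcent
    obtain ⟨-, hcard, hcount⟩ := hcent
    obtain ⟨m, hm⟩ := Equiv.Perm.cycleType_prime_order (σ := σ) (by rw [hσ]; exact hpp)
    have hm0 : m = 0 := by
      have := hcount p
      rw [hm, hσ, Multiset.count_replicate_self] at this
      omega
    have hsum : σ.cycleType.sum = p := by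
      rw [hm, hm0, hσ]; simp
    have hnp : n ≤ p + 1 := by simpa [hsum] using hcard
    have hdvd1 : Nat.card (P : Subgroup (alternatingGroup (Fin n))) ∣ n.factorial := by
      have h1 := Subgroup.card_subgroup_dvd_card (P : Subgroup (alternatingGroup (Fin n)))
      have h2 := Subgroup.card_subgroup_dvd_card (alternatingGroup (Fin n))
      rw [Nat.card_eq_fintype_card (α := Perm (Fin n)), Fintype.card_perm, Fintype.card_fin] at h2
      exact h1.trans h2
    have hk1 : k = 1 := by
      by_contra hne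
      have hk2 : 2 ≤ k := by omega
      have h3 : p ^ 2 ∣ n.factorial := (pow_dvd_pow p hk2).trans (hk ▸ hdvd1)
      have hlog : Nat.log p n < 2 := by
        apply Nat.log_lt_of_lt_pow
        · omega
        · have := hpp.two_le
          nlinarith
      rw [hpp.pow_dvd_factorial_iff hlog] at h3
      simp at h3
      have h4 : n / p ≤ 1 := by
        have := hpp.two_le
        calc n / p ≤ (p + 1) / p := Nat.div_le_div_right hnp
          _ = 1 := by
            rw [Nat.add_div_of_dvd_right (dvd_refl p), Nat.div_self hpp.pos, Nat.div_eq_of_lt (by omega)]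
      omega
    rw [hk1, pow_one] at hk
    exact isCyclic_of_prime_card (p := p) hk
  · left
    obtain ⟨h, hh1, hh2⟩ := SetLike.not_le_iff_exists.1 hcent
    have hconj : IsConj σ σ⁻¹ := by
      rw [Equiv.Perm.isConj_iff_cycleType_eq, Equiv.Perm.cycleType_inv]
    obtain ⟨c, hc⟩ := isConj_iff.1 hconj
    have hcomm : h * σ = σ * h := by
      have := Subgroup.mem_centralizer_singleton_iff.1 hh1
      exact this
    have hsh : Perm.sign h = -1 := by
      rcases Int.units_eq_one_or (Perm.sign h) with h1 | h1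
      · exact absurd (Equiv.Perm.mem_alternatingGroup.2 h1) hh2
      · exact h1
    obtain ⟨g, hg1, hg2⟩ : ∃ g : Perm (Fin n), Perm.sign g = 1 ∧ g * σ * g⁻¹ = σ⁻¹ := by
      rcases Int.units_eq_one_or (Perm.sign c) with h1 | h1
      · exact ⟨c, h1, hc⟩
      · refine ⟨c * h, by rw [Perm.sign_mul, h1, hsh]; rfl, ?_⟩
        rw [mul_inv_rev, ← hc]
        have : h * σ * h⁻¹ = σ := by rw [hcomm, mul_inv_cancel_right]
        calc c * h * σ * (h⁻¹ * c⁻¹) = c * (h * σ * h⁻¹) * c⁻¹ := by group
          _ = c * σ * c⁻¹ := by rw [this]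
    set G : alternatingGroup (Fin n) := ⟨g, Equiv.Perm.mem_alternatingGroup.2 hg1⟩ with hG
    have hGx : G * (x : alternatingGroup (Fin n)) * G⁻¹ = (x : alternatingGroup (Fin n))⁻¹ := by
      apply Subtype.ext
      simpa [hG] using hg2
    have hxne : (x : alternatingGroup (Fin n)) ≠ (x : alternatingGroup (Fin n))⁻¹ := by
      intro hxx
      have h2 : (x : alternatingGroup (Fin n)) ^ 2 = 1 := by
        rw [pow_two]
        nth_rewrite 2 [hxx]
        exact mul_inv_cancel _
      have h3 : orderOf (x : alternatingGroup (Fin n)) ∣ 2 := orderOf_dvd_of_pow_eq_one h2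
      rw [Subgroup.orderOf_coe, hx] at h3
      exact hp2 ((Nat.prime_dvd_prime_iff_eq hpp Nat.prime_two).1 h3)
    refine Cfsg.Agent.Lib.helper43.two_dvd_index_centralizer_normalizer P hP (x : alternatingGroup (Fin n)) G⁻¹ x.2 ?_ hxne
    rw [inv_inv]
    exact hGx




/-- A group generated by an involution `a` inverting an element `x` of order dividing 4 is a 2-group. -/
theorem isPGroup_two_of_dihedral {G : Type*} [Group G] (a x : G) (ha : a ^ 2 = 1) (hx : x ^ 4 = 1)
    (hax : a * x * a⁻¹ = x⁻¹) : IsPGroup 2 (Subgroup.zpowers a ⊔ Subgroup.zpowers x : Subgroup G) := by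
  have h1 : IsPGroup 2 (Subgroup.zpowers a) := by
    rintro ⟨g, hg⟩
    obtain ⟨j, rfl⟩ := Subgroup.mem_zpowers_iff.1 hg
    refine ⟨1, Subtype.ext ?_⟩
    simp only [pow_one, Subgroup.coe_pow, Subgroup.coe_one]
    rw [← zpow_natCast, ← zpow_mul, mul_comm, zpow_mul, zpow_natCast, ha, one_zpow]
  have h2 : IsPGroup 2 (Subgroup.zpowers x) := by
    rintro ⟨g, hg⟩
    obtain ⟨j, rfl⟩ := Subgroup.mem_zpowers_iff.1 hg
    refine ⟨2, Subtype.ext ?_⟩
    simp only [Subgroup.coe_pow, Subgroup.coe_one]
    norm_num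
    rw [← zpow_natCast, ← zpow_mul, mul_comm, zpow_mul, zpow_natCast, hx, one_zpow]
  have hainv : a⁻¹ = a := by
    rw [inv_eq_iff_mul_eq_one, ← pow_two, ha]
  have h3 : ∀ h, h ∈ Subgroup.zpowers x → a * h * a⁻¹ ∈ Subgroup.zpowers x := by
    intro h hh
    obtain ⟨j, rfl⟩ := Subgroup.mem_zpowers_iff.1 hh
    have : a * x ^ j * a⁻¹ = (x⁻¹) ^ j := by
      rw [← hax]
      exact (conj_zpow (a := a) (b := x) (i := j)).symm
    rw [this]
    exact zpow_mem (inv_mem (Subgroup.mem_zpowers x)) j
  have h4 : Subgroup.zpowers a ≤ Subgroup.normalizer ((Subgroup.zpowers x : Subgroup G) : Set G) := by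
    rw [Subgroup.zpowers_le, Subgroup.mem_normalizer_iff]
    intro h
    refine ⟨h3 h, fun hh => ?_⟩
    have := h3 _ hh
    rw [hainv] at this
    have e : a * (a * h * a) * a = h := by
      have haa : a * a = 1 := by rw [← pow_two, ha]
      calc a * (a * h * a) * a = (a * a) * h * (a * a) := by group
        _ = h := by rw [haa]; group
    rwa [e] at this
  exact h1.to_sup_of_normal_right' h2 h4

def xx : Perm (Fin 6) := swap 0 1 * swap 1 2 * swap 2 3 * swap 4 5
def aa : Perm (Fin 6) := swap 0 2 * swap 4 5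

theorem aa_sq : aa ^ 2 = 1 := by decide
theorem xx_four : xx ^ 4 = 1 := by decide
theorem aa_xx : aa * xx * aa⁻¹ = xx⁻¹ := by decide
theorem xx_ne : aa * xx ≠ xx * aa := by decide
theorem sign_aa : Perm.sign aa = 1 := by decide
theorem sign_xx : Perm.sign xx = 1 := by decide

/-- the embedding of `Fin 6` as an initial segment of `Fin n` -/
def emb6 (n : ℕ) (hn : 6 ≤ n) : Fin 6 ≃ {i : Fin n // (i : ℕ) < 6} where
  toFun i := ⟨Fin.castLE hn i, i.2⟩
  invFun j := ⟨j.1.1, j.2⟩
  left_inv i := by simp
  right_inv j := by simp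

theorem exists_nonabelian_two_subgroup (n : ℕ) (hn : 6 ≤ n) :
    ∃ (H : Subgroup (alternatingGroup (Fin n))) (a x : alternatingGroup (Fin n)),
      IsPGroup 2 H ∧ a ∈ H ∧ x ∈ H ∧ a * x ≠ x * a := by
  classical
  set ι := Perm.extendDomainHom (emb6 n hn) with hι
  have hinj : Function.Injective ι := Perm.extendDomainHom_injective (emb6 n hn)
  have hsign : ∀ e : Perm (Fin 6), Perm.sign (ι e) = Perm.sign e := fun e =>
    Perm.sign_extendDomain e (emb6 n hn)
  set A : alternatingGroup (Fin n) := ⟨ι aa, Perm.mem_alternatingGroup.2 (by rw [hsign, sign_aa])⟩ with hA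
  set X : alternatingGroup (Fin n) := ⟨ι xx, Perm.mem_alternatingGroup.2 (by rw [hsign, sign_xx])⟩ with hX
  have hA2 : A ^ 2 = 1 := by
    apply Subtype.ext
    simp only [hA, Subgroup.coe_pow, Subgroup.coe_one]
    rw [← map_pow, aa_sq, map_one]
  have hX4 : X ^ 4 = 1 := by
    apply Subtype.ext
    simp only [hX, Subgroup.coe_pow, Subgroup.coe_one]
    rw [← map_pow, xx_four, map_one]
  have hAX : A * X * A⁻¹ = X⁻¹ := by
    apply Subtype.ext
    simp only [hA, hX, Subgroup.coe_mul, Subgroup.coe_inv]
    rw [← map_inv, ← map_mul, ← map_mul, aa_xx, map_inv]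
  have hne : A * X ≠ X * A := by
    intro h
    have h' := congrArg Subtype.val h
    simp only [hA, hX, Subgroup.coe_mul] at h'
    rw [← map_mul, ← map_mul] at h'
    exact xx_ne (hinj h')
  exact ⟨_, A, X, isPGroup_two_of_dihedral A X hA2 hX4 hAX,
    Subgroup.mem_sup_left (Subgroup.mem_zpowers A), Subgroup.mem_sup_right (Subgroup.mem_zpowers X), hne⟩

/-- An abelian Sylow `p`-subgroup forces every `p`-subgroup to be abelian. -/
theorem commute_of_abelian_sylow {G : Type*} [Group G] [Finite G] {p : ℕ} [Fact p.Prime]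
    (P : Sylow p G) (hP : IsMulCommutative (P : Subgroup G)) (H : Subgroup G) (hH : IsPGroup p H)
    (a x : G) (ha : a ∈ H) (hx : x ∈ H) : a * x = x * a := by
  obtain ⟨Q, hQ⟩ := hH.exists_le_sylow
  obtain ⟨g, hg⟩ := MulAction.exists_smul_eq G P Q
  have key : ∀ y ∈ H, g⁻¹ * y * g ∈ (P : Subgroup G) := by
    intro y hy
    have hy' : y ∈ ((g • P : Sylow p G) : Subgroup G) := by rw [hg]; exact hQ hy
    rw [Sylow.smul_def, Sylow.pointwise_smul_def, Subgroup.mem_pointwise_smul_iff_inv_smul_mem] at hy'
    rw [MulAut.smul_def, ← map_inv, MulAut.conj_apply, inv_inv] at hy'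
    exact hy'
  have h1 : (⟨_, key a ha⟩ : (P : Subgroup G)) * ⟨_, key x hx⟩ = ⟨_, key x hx⟩ * ⟨_, key a ha⟩ :=
    isMulCommutative_iff.1 hP _ _
  have h2 := congrArg Subtype.val h1
  simp only [Subgroup.coe_mul] at h2
  have h3 : g * (g⁻¹ * a * g * (g⁻¹ * x * g)) * g⁻¹ = g * (g⁻¹ * x * g * (g⁻¹ * a * g)) * g⁻¹ := by
    rw [h2]
  simpa [mul_assoc] using h3

theorem two_case_false (n : ℕ) (hn : 6 ≤ n)
    (P : Sylow 2 (alternatingGroup (Fin n))) (hP : IsMulCommutative (P : Subgroup (alternatingGroup (Fin n)))) :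
    False := by
  obtain ⟨H, a, x, hH, ha, hx, hne⟩ := exists_nonabelian_two_subgroup n hn
  exact hne (commute_of_abelian_sylow P hP H hH a x ha hx)




set_option maxRecDepth 100000 in
theorem a5_sq_of_four : ∀ σ : Perm (Fin 5), Perm.sign σ = 1 → σ ^ 4 = 1 → σ ^ 2 = 1 := by decide +kernel

theorem card_a5 : Nat.card (alternatingGroup (Fin 5)) = 60 := by
  rw [nat_card_alternatingGroup]
  simp [Nat.factorial]

theorem five_two_case (P : Sylow 2 (alternatingGroup (Fin 5))) :
    ((Subgroup.centralizer ((P : Subgroup (alternatingGroup (Fin 5))) : Set (alternatingGroup (Fin 5)))).subgroupOf (Subgroup.normalizer ((P : Subgroup (alternatingGroup (Fin 5))) : Set (alternatingGroup (Fin 5))))).index = 3 ∧ IsKleinFour (P : Subgroup (alternatingGroup (Fin 5))) := by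
  classical
  have hcardG := card_a5
  -- card P = 4
  have hidx : (P : Subgroup (alternatingGroup (Fin 5))).index * Nat.card (P : Subgroup (alternatingGroup (Fin 5))) = 60 := by
    rw [Subgroup.index_mul_card, hcardG]
  have hodd : ¬ 2 ∣ (P : Subgroup (alternatingGroup (Fin 5))).index := P.not_dvd_index
  obtain ⟨k, hk⟩ := IsPGroup.iff_card.1 P.isPGroup'
  have hk2 : k = 2 := by
    rw [hk] at hidx
    have hk5 : k < 6 := by
      by_contra hlt
      push Not at hlt
      have : 2 ^ 6 ≤ 2 ^ k := Nat.pow_le_pow_right (by norm_num) hlt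
      have h1 : 0 < (P : Subgroup (alternatingGroup (Fin 5))).index := by
        rcases Nat.eq_zero_or_pos (P : Subgroup (alternatingGroup (Fin 5))).index with h | h
        · rw [h] at hidx; omega
        · exact h
      nlinarith
    interval_cases k <;> omega
  have hcardP : Nat.card (P : Subgroup (alternatingGroup (Fin 5))) = 4 := by rw [hk, hk2]; norm_num
  have hPidx : (P : Subgroup (alternatingGroup (Fin 5))).index = 15 := by
    rw [hcardP] at hidx; omega
  -- exponent
  have hsq : ∀ y : (P : Subgroup (alternatingGroup (Fin 5))), y ^ 2 = 1 := by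
    intro y
    have h4 : y ^ 4 = 1 := by rw [← hcardP]; exact pow_card_eq_one'
    apply Subtype.ext
    apply Subtype.ext
    have h4' : ((y : alternatingGroup (Fin 5)) : Perm (Fin 5)) ^ 4 = 1 := by
      have := congrArg (fun z : (P : Subgroup (alternatingGroup (Fin 5))) => ((z : alternatingGroup (Fin 5)) : Perm (Fin 5))) h4
      simpa using this
    have := a5_sq_of_four _ (Perm.mem_alternatingGroup.1 (y : alternatingGroup (Fin 5)).2) h4'
    simpa using this
  have hklein : IsKleinFour (P : Subgroup (alternatingGroup (Fin 5))) := by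
    refine ⟨hcardP, ?_⟩
    have h1 : Monoid.exponent (P : Subgroup (alternatingGroup (Fin 5))) ∣ 2 :=
      Monoid.exponent_dvd_of_forall_pow_eq_one hsq
    rcases (Nat.dvd_prime Nat.prime_two).1 h1 with h | h
    · exfalso
      have := Monoid.exp_eq_one_iff.1 h
      have h2 : Nat.card (P : Subgroup (alternatingGroup (Fin 5))) = 1 := Nat.card_unique
      omega
    · exact h
  refine ⟨?_, hklein⟩
  set N := Subgroup.normalizer ((P : Subgroup (alternatingGroup (Fin 5))) : Set (alternatingGroup (Fin 5))) with hN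
  set C := Subgroup.centralizer ((P : Subgroup (alternatingGroup (Fin 5))) : Set (alternatingGroup (Fin 5))) with hC
  have hPC : (P : Subgroup (alternatingGroup (Fin 5))) ≤ C := by
    intro x hx
    rw [hC, Subgroup.mem_centralizer_iff]
    intro q hq
    -- P is abelian since exponent 2
    have h1 : (⟨q, hq⟩ : (P : Subgroup (alternatingGroup (Fin 5)))) * ⟨x, hx⟩ = ⟨x, hx⟩ * ⟨q, hq⟩ := by
      have := mul_comm_of_exponent_two (G := (P : Subgroup (alternatingGroup (Fin 5)))) hklein.exponent_two ⟨q, hq⟩ ⟨x, hx⟩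
      exact this
    exact congrArg Subtype.val h1
  have hCN : C ≤ N := Subgroup.centralizer_le_normalizer _
  -- (a) idx ∣ 24
  have ha : (C.subgroupOf N).index ∣ 24 := by
    rw [hC, hN, ← Subgroup.normalizerMonoidHom_ker, Subgroup.index_ker]
    have h1 := Subgroup.card_subgroup_dvd_card (P : Subgroup (alternatingGroup (Fin 5))).normalizerMonoidHom.range
    have h2 : Nat.card (MulAut (P : Subgroup (alternatingGroup (Fin 5)))) ∣ Nat.card (Perm (P : Subgroup (alternatingGroup (Fin 5)))) :=
      Subgroup.card_dvd_of_injective (MulAut.toPerm _) (fun a b h => MulEquiv.toEquiv_injective h)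
    rw [Nat.card_perm, hcardP] at h2
    exact h1.trans h2
  -- (b) idx ∣ 15
  have hb : (C.subgroupOf N).index ∣ 15 := by
    have h1 := Subgroup.relIndex_mul_relIndex _ _ _ hPC hCN
    have h2 := Subgroup.relIndex_mul_index (P.le_normalizer)
    rw [hPidx] at h2
    have h3 : C.relIndex N ∣ 15 := by
      refine ⟨(P : Subgroup (alternatingGroup (Fin 5))).relIndex C * N.index, ?_⟩
      rw [← h2, ← hN, ← h1]
      ring
    exact h3
  -- (c) idx ≠ 1
  have hc : (C.subgroupOf N).index ≠ 1 := by
    intro h1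
    have hNC : N ≤ C := Subgroup.relIndex_eq_one.1 h1
    have hcomp := MonoidHom.ker_transferSylow_isComplement' P hNC
    have hcard := hcomp.card_mul_card
    rw [hcardP, hcardG] at hcard
    rcases (MonoidHom.normal_ker (MonoidHom.transferSylow P hNC)).eq_bot_or_eq_top with h | h
    · rw [h, Subgroup.card_bot] at hcard; omega
    · rw [h, Subgroup.card_top, hcardG] at hcard; omega
  have h3 : (C.subgroupOf N).index ∣ 3 := by
    have := Nat.dvd_gcd ha hb
    simpa using this
  rcases (Nat.dvd_prime Nat.prime_three).1 h3 with h | h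
  · exact absurd h hc
  · exact h


end Helpers

/-- Let n ≥ 5 and let P be an abelian Sylow p-subgroup of the alternating group A_n. Then N(P)/C(P) (taken in A_n) has even order, or P is cyclic, except when n = 5 and p = 2, where P is a four-group and N(P)/C(P) has order 3. -/
theorem result (n : ℕ) (hn : 5 ≤ n) {p : ℕ} [Fact p.Prime]
    (P : Sylow p (alternatingGroup (Fin n))) (hP : IsMulCommutative (P : Subgroup (alternatingGroup (Fin n)))) :
    (¬ (n = 5 ∧ p = 2) → 2 ∣ ((Subgroup.centralizer ((P : Subgroup (alternatingGroup (Fin n))) : Set (alternatingGroup (Fin n)))).subgroupOf (Subgroup.normalizer ((P : Subgroup (alternatingGroup (Fin n))) : Set (alternatingGroup (Fin n))))).index ∨ IsCyclic (P : Subgroup (alternatingGroup (Fin n)))) ∧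
    ((n = 5 ∧ p = 2) → ((Subgroup.centralizer ((P : Subgroup (alternatingGroup (Fin n))) : Set (alternatingGroup (Fin n)))).subgroupOf (Subgroup.normalizer ((P : Subgroup (alternatingGroup (Fin n))) : Set (alternatingGroup (Fin n))))).index = 3 ∧ IsKleinFour (P : Subgroup (alternatingGroup (Fin n)))) := by
  have hpp : p.Prime := Fact.out
  refine ⟨fun hne => ?_, fun h => ?_⟩
  · by_cases hp2 : p = 2
    · subst hp2
      have h6 : 6 ≤ n := by
        rcases Nat.lt_or_ge n 6 with h | h
        · exact absurd ⟨by omega, rfl⟩ hne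
        · exact h
      exact (two_case_false n h6 P hP).elim
    · exact odd_case n hn hp2 P hP
  · obtain ⟨rfl, rfl⟩ := h
    exact five_two_case P

end Cfsg.Agent.S2269
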