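import Cfsg.Statements.S2270
import Cfsg.Agent.Lib.helper43.NCIndex

set_option autoImplicit false
open Cfsg

namespace Cfsg.Agent.S2270

/-- Let n ≥ 3, p an odd prime, and P an abelian Sylow p-subgroup of the symmetric group S_n (with p dividing n!, so that P ≠ 1). Then N(P)/C(P) has even order. -/
theorem result (n : ℕ) (hn : 3 ≤ n) {p : ℕ} [Fact p.Prime] (hp : p ≠ 2) (hpn : p ≤ n)
    (P : Sylow p (Equiv.Perm (Fin n))) (hP : IsMulCommutative (P : Subgroup (Equiv.Perm (Fin n)))) :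
    2 ∣ ((Subgroup.centralizer ((P : Subgroup (Equiv.Perm (Fin n))) : Set (Equiv.Perm (Fin n)))).subgroupOf (Subgroup.normalizer ((P : Subgroup (Equiv.Perm (Fin n))) : Set (Equiv.Perm (Fin n))))).index := by
  classical
  have hpp : p.Prime := Fact.out
  have hdvd : p ∣ Nat.card (Equiv.Perm (Fin n)) := by
    rw [Nat.card_eq_fintype_card, Fintype.card_perm, Fintype.card_fin]
    exact Nat.dvd_factorial hpp.pos hpn
  have hne : (P : Subgroup (Equiv.Perm (Fin n))) ≠ ⊥ := P.ne_bot_of_dvd_card hdvd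
  obtain ⟨x, hx1⟩ := (Subgroup.ne_bot_iff_exists_ne_one).1 hne
  have hx' : (x : Equiv.Perm (Fin n)) ∈ (P : Subgroup (Equiv.Perm (Fin n))) := x.2
  have hx1' : (x : Equiv.Perm (Fin n)) ≠ 1 := by
    intro h
    apply hx1
    exact Subtype.ext h
  have hxinv : (x : Equiv.Perm (Fin n)) ≠ (x : Equiv.Perm (Fin n))⁻¹ := by
    intro h
    have h2 : (x : Equiv.Perm (Fin n)) ^ 2 = 1 := by
      rw [pow_two]
      nth_rewrite 2 [h]
      exact mul_inv_cancel _
    have h3 : orderOf (x : Equiv.Perm (Fin n)) ∣ 2 := orderOf_dvd_of_pow_eq_one h2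
    obtain ⟨k, hk⟩ := (P.2 ⟨(x : Equiv.Perm (Fin n)), hx'⟩)
    have hk' : (x : Equiv.Perm (Fin n)) ^ p ^ k = 1 := by
      have := congrArg Subtype.val hk
      simpa using this
    have h4 : orderOf (x : Equiv.Perm (Fin n)) ∣ p ^ k := orderOf_dvd_of_pow_eq_one hk'
    have h5 : Nat.Coprime 2 (p ^ k) := by
      apply Nat.Coprime.pow_right
      rw [Nat.coprime_primes Nat.prime_two hpp]
      exact fun h => hp h.symm
    have h6 : orderOf (x : Equiv.Perm (Fin n)) = 1 := Nat.eq_one_of_dvd_coprimes h5 h3 h4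
    exact hx1' (orderOf_eq_one_iff.1 h6)
  have hconj : IsConj (x : Equiv.Perm (Fin n)) (x : Equiv.Perm (Fin n))⁻¹ := by
    rw [Equiv.Perm.isConj_iff_cycleType_eq, Equiv.Perm.cycleType_inv]
  obtain ⟨c, hc⟩ := isConj_iff.1 hconj
  refine Cfsg.Agent.Lib.helper43.two_dvd_index_centralizer_normalizer P hP (x : Equiv.Perm (Fin n)) c⁻¹ hx' ?_ hxinv
  rw [inv_inv]
  exact hc

end Cfsg.Agent.S2270
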