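import Mathlib
import Cfsg.Statements.S2271

set_option autoImplicit false
open Cfsg

namespace Cfsg.Agent.S2271

open Equiv

variable {Ω : Type*}


theorem inv_app (g : Perm Ω) (x : Ω) : g⁻¹ (g x) = x := g.symm_apply_apply x

theorem app_inv (g : Perm Ω) (x : Ω) : g (g⁻¹ x) = x := g.apply_symm_apply x

variable [Fintype Ω] [DecidableEq Ω]

theorem exists_notMem (S : Finset Ω) (h : S.card < Fintype.card Ω) : ∃ s, s ∉ S := by
  by_contra hc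
  have : S = Finset.univ := Finset.eq_univ_of_forall (by simpa using hc)
  rw [this, Finset.card_univ] at h
  exact lt_irrefl _ h

/-- 3-transitivity of the alternating group -/
theorem alt3 (h5 : 5 ≤ Fintype.card Ω) {u v w p q r : Ω} (huv : u ≠ v) (huw : u ≠ w)
    (hvw : v ≠ w) (hpq : p ≠ q) (hpr : p ≠ r) (hqr : q ≠ r) :
    ∃ g : Perm Ω, g ∈ alternatingGroup Ω ∧ g u = p ∧ g v = q ∧ g w = r := by
  have h1 := alternatingGroup.isMultiplyPretransitive Ω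
  have h2 : MulAction.IsMultiplyPretransitive (alternatingGroup Ω) Ω 3 :=
    MulAction.isMultiplyPretransitive_of_le (n := Nat.card Ω - 2)
      (by rw [Nat.card_eq_fintype_card]; omega) (Nat.sub_le _ _)
  let x : Fin 3 ↪ Ω := ⟨![u, v, w], by
    intro i j h
    fin_cases i <;> fin_cases j <;> simp_all⟩
  let y : Fin 3 ↪ Ω := ⟨![p, q, r], by
    intro i j h
    fin_cases i <;> fin_cases j <;> simp_all⟩
  obtain ⟨g, hg⟩ := MulAction.exists_smul_eq (alternatingGroup Ω) x y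
  refine ⟨g, g.2, ?_, ?_, ?_⟩
  · have := congrArg (fun f : Fin 3 ↪ Ω => f 0) hg
    simp only [Function.Embedding.smul_apply, Subgroup.smul_def, Perm.smul_def] at this
    exact this
  · have := congrArg (fun f : Fin 3 ↪ Ω => f 1) hg
    simp only [Function.Embedding.smul_apply, Subgroup.smul_def, Perm.smul_def] at this
    exact this
  · have := congrArg (fun f : Fin 3 ↪ Ω => f 2) hg
    simp only [Function.Embedding.smul_apply, Subgroup.smul_def, Perm.smul_def] at this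
    exact this

theorem alt2 (h5 : 5 ≤ Fintype.card Ω) {u v p q : Ω} (huv : u ≠ v) (hpq : p ≠ q) :
    ∃ g : Perm Ω, g ∈ alternatingGroup Ω ∧ g u = p ∧ g v = q := by
  obtain ⟨w, hw⟩ := exists_notMem ({u, v} : Finset Ω)
    (lt_of_le_of_lt (Finset.card_le_two) (by omega))
  obtain ⟨r, hr⟩ := exists_notMem ({p, q} : Finset Ω)
    (lt_of_le_of_lt (Finset.card_le_two) (by omega))
  simp only [Finset.mem_insert, Finset.mem_singleton, not_or] at hw hr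
  obtain ⟨g, hg, h1, h2, -⟩ := alt3 h5 huv (Ne.symm hw.1) (Ne.symm hw.2) hpq (Ne.symm hr.1)
    (Ne.symm hr.2)
  exact ⟨g, hg, h1, h2⟩

/-- LA: some conjugate maps `x ↦ y` and does not map `y ↦ z`. -/
theorem LA (h5 : 5 ≤ Fintype.card Ω) {a : Perm Ω} (ha : a ≠ 1) {x y z : Ω} (hxy : x ≠ y)
    (hxz : x ≠ z) (hyz : y ≠ z) :
    ∃ g : Perm Ω, g ∈ alternatingGroup Ω ∧ (g * a * g⁻¹) x = y ∧ (g * a * g⁻¹) y ≠ z := by
  obtain ⟨u, hu⟩ : ∃ u, a u ≠ u := by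
    by_contra hc
    exact ha (Equiv.ext (by simpa using hc))
  by_cases hw : a (a u) = u
  · obtain ⟨g, hg, h1, h2⟩ := alt2 h5 (Ne.symm hu) hxy
    refine ⟨g, hg, ?_, ?_⟩
    · simp only [Perm.mul_apply]
      rw [← h1, inv_app, h2]
    · simp only [Perm.mul_apply]
      rw [← h2, inv_app, hw, h1]
      exact hxz
  · obtain ⟨s, hs⟩ := exists_notMem ({x, y, z} : Finset Ω)
      (lt_of_le_of_lt (Finset.card_le_three) (by omega))
    simp only [Finset.mem_insert, Finset.mem_singleton, not_or] at hs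
    have hvw : a u ≠ a (a u) := fun h => hu (a.injective h).symm
    obtain ⟨g, hg, h1, h2, h3⟩ := alt3 h5 (Ne.symm hu) (Ne.symm hw) hvw hxy (Ne.symm hs.1)
      (Ne.symm hs.2.1)
    refine ⟨g, hg, ?_, ?_⟩
    · simp only [Perm.mul_apply]
      rw [← h1, inv_app, h2]
    · simp only [Perm.mul_apply]
      rw [← h2, inv_app, h3]
      exact hs.2.2

/-- LB: some conjugate maps `x ↦ y` and does not map `z ↦ x`. -/
theorem LB (h5 : 5 ≤ Fintype.card Ω) {a : Perm Ω} (ha : a ≠ 1) {x y z : Ω} (hxy : x ≠ y)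
    (hxz : x ≠ z) (hyz : y ≠ z) :
    ∃ g : Perm Ω, g ∈ alternatingGroup Ω ∧ (g * a * g⁻¹) x = y ∧ (g * a * g⁻¹) z ≠ x := by
  have ha' : a⁻¹ ≠ 1 := by simpa using ha
  obtain ⟨g, hg, h1, h2⟩ := LA h5 ha' (Ne.symm hxy) hyz hxz
  have e : g * a * g⁻¹ = (g * a⁻¹ * g⁻¹)⁻¹ := by group
  refine ⟨g, hg, ?_, ?_⟩
  · rw [e, Perm.inv_eq_iff_eq]
    exact h1.symm
  · rw [e]
    intro h
    rw [Perm.inv_eq_iff_eq] at h
    exact h2 h.symm

/-- LC: a 2-cycle can be moved anywhere. -/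
theorem LC (h5 : 5 ≤ Fintype.card Ω) {a : Perm Ω} {u v : Ω} (huv : u ≠ v) (h1 : a u = v)
    (h2 : a v = u) {x y : Ω} (hxy : x ≠ y) :
    ∃ g : Perm Ω, g ∈ alternatingGroup Ω ∧ (g * a * g⁻¹) x = y ∧ (g * a * g⁻¹) y = x := by
  obtain ⟨g, hg, e1, e2⟩ := alt2 h5 huv hxy
  refine ⟨g, hg, ?_, ?_⟩
  · simp only [Perm.mul_apply]
    rw [← e1, inv_app, h1, e2]
  · simp only [Perm.mul_apply]
    rw [← e2, inv_app, h2, e1]

/-- LD: a 3-cycle can be moved anywhere. -/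
theorem LD (h5 : 5 ≤ Fintype.card Ω) {a : Perm Ω} {u v w : Ω} (huv : u ≠ v) (h1 : a u = v)
    (h2 : a v = w) (h3 : a w = u) {x y z : Ω} (hxy : x ≠ y) (hxz : x ≠ z) (hyz : y ≠ z) :
    ∃ g : Perm Ω, g ∈ alternatingGroup Ω ∧ (g * a * g⁻¹) x = y ∧ (g * a * g⁻¹) y = z ∧
      (g * a * g⁻¹) z = x := by
  have hvw : v ≠ w := by
    intro h
    have : a v = a u := by rw [h2, h1]; exact h.symm
    exact huv (a.injective this).symm
  have huw : u ≠ w := by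
    intro h
    rw [← h, h1] at h3
    exact huv h3.symm
  obtain ⟨g, hg, e1, e2, e3⟩ := alt3 h5 huv huw hvw hxy hxz hyz
  refine ⟨g, hg, ?_, ?_, ?_⟩
  · simp only [Perm.mul_apply]
    rw [← e1, inv_app, h1, e2]
  · simp only [Perm.mul_apply]
    rw [← e2, inv_app, h2, e3]
  · simp only [Perm.mul_apply]
    rw [← e3, inv_app, h3, e1]

/-- LE: a fixed point and a moved point can be moved anywhere. -/
theorem LE (h5 : 5 ≤ Fintype.card Ω) {a : Perm Ω} {f u : Ω} (hf : a f = f) (hu : a u ≠ u)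
    {x y : Ω} (hxy : x ≠ y) :
    ∃ g : Perm Ω, g ∈ alternatingGroup Ω ∧ (g * a * g⁻¹) x = x ∧ (g * a * g⁻¹) y ≠ y := by
  have hfu : f ≠ u := by
    intro h
    rw [h] at hf
    exact hu hf
  obtain ⟨g, hg, e1, e2⟩ := alt2 h5 hfu hxy
  refine ⟨g, hg, ?_, ?_⟩
  · simp only [Perm.mul_apply]
    rw [← e1, inv_app, hf]
  · simp only [Perm.mul_apply]
    rw [← e2, inv_app]
    intro h
    exact hu (g.injective h)


/-- `Good a b`: some `A_n`-conjugate `a'` of `a` and some `A_n`-conjugate `b'` of `b` are such that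
the fixed points of `a' b'` form a proper subset of the fixed points of `a' b`. -/
def Good (a b : Perm Ω) : Prop :=
  ∃ g σ : Perm Ω, g ∈ alternatingGroup Ω ∧ σ ∈ alternatingGroup Ω ∧
    (∀ t, (g * a * g⁻¹) ((σ * b * σ⁻¹) t) = t → (g * a * g⁻¹) (b t) = t) ∧
    ∃ p, (g * a * g⁻¹) (b p) = p ∧ (g * a * g⁻¹) ((σ * b * σ⁻¹) p) ≠ p

theorem ss_mem {x y z w : Ω} (hxy : x ≠ y) (hzw : z ≠ w) :
    swap x y * swap z w ∈ alternatingGroup Ω := by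
  rw [Perm.mem_alternatingGroup, Perm.sign_mul, Perm.sign_swap hxy, Perm.sign_swap hzw]
  rfl

omit [Fintype Ω] in
theorem ss_inv (x y z w : Ω) : (swap x y * swap z w)⁻¹ = swap z w * swap x y := by
  rw [mul_inv_rev, swap_inv, swap_inv]

theorem good_mk {a b : Perm Ω} {g σ τ : Perm Ω} (hg : g ∈ alternatingGroup Ω)
    (hσ : σ ∈ alternatingGroup Ω) (hτ : σ⁻¹ = τ)
    (h1 : ∀ t, (g * a * g⁻¹) (σ (b (τ t))) = t → (g * a * g⁻¹) (b t) = t)
    (p : Ω) (hp : (g * a * g⁻¹) (b p) = p) (hp' : (g * a * g⁻¹) (σ (b (τ p))) ≠ p) :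
    Good a b := by
  refine ⟨g, σ, hg, hσ, ?_, p, hp, ?_⟩
  · intro t ht
    apply h1
    rw [← hτ]
    exact ht
  · rw [← hτ] at hp'
    exact hp'

/-- `b` has a cycle of length at least 4. -/
theorem M4 (h5 : 5 ≤ Fintype.card Ω) {a b : Perm Ω} (ha : a ≠ 1) {y : Ω} (h1 : b y ≠ y)
    (h2 : b (b y) ≠ y) (h3 : b (b (b y)) ≠ y) : Good a b := by
  have hb := b.injective
  obtain ⟨y₁, e1⟩ : ∃ y₁, b y = y₁ := ⟨_, rfl⟩
  obtain ⟨y₂, e2⟩ : ∃ y₂, b y₁ = y₂ := ⟨_, rfl⟩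
  obtain ⟨y₃, e3⟩ : ∃ y₃, b y₂ = y₃ := ⟨_, rfl⟩
  rw [e1] at h1 h2 h3
  rw [e2] at h2 h3
  rw [e3] at h3
  have h12 : y₁ ≠ y₂ := by grind
  have h13 : y₁ ≠ y₃ := by grind
  have h23 : y₂ ≠ y₃ := by grind
  obtain ⟨g, hg, f1, f2⟩ := LA h5 ha (Ne.symm h12) h23 h13
  refine good_mk hg (ss_mem h12 h23) (ss_inv _ _ _ _) ?_ y₁ ?_ ?_
  · generalize g * a * g⁻¹ = a' at *
    have ha' := a'.injective
    intro t
    simp only [Perm.mul_apply, Equiv.swap_apply_def]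
    grind
  · rw [e2]
    exact f1
  · generalize g * a * g⁻¹ = a' at *
    have ha' := a'.injective
    simp only [Perm.mul_apply, Equiv.swap_apply_def]
    grind

/-- `b` has a 2-cycle and a fixed point. -/
theorem M21 (h5 : 5 ≤ Fintype.card Ω) {a b : Perm Ω} (ha : a ≠ 1) {x y z : Ω} (hxy : x ≠ y)
    (e1 : b x = y) (e2 : b y = x) (e3 : b z = z) : Good a b := by
  have hb := b.injective
  have hxz : x ≠ z := by grind
  have hyz : y ≠ z := by grind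
  obtain ⟨g, hg, f1, f2⟩ := LB h5 ha (Ne.symm hxy) hyz hxz
  refine good_mk hg (ss_mem hxy hyz) (ss_inv _ _ _ _) ?_ x ?_ ?_
  · generalize g * a * g⁻¹ = a' at *
    have ha' := a'.injective
    intro t
    simp only [Perm.mul_apply, Equiv.swap_apply_def]
    grind
  · rw [e1]
    exact f1
  · generalize g * a * g⁻¹ = a' at *
    have ha' := a'.injective
    simp only [Perm.mul_apply, Equiv.swap_apply_def]
    grind

/-- `b` has a 3-cycle and a 2-cycle. -/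
theorem M32 (h5 : 5 ≤ Fintype.card Ω) {a b : Perm Ω} (ha : a ≠ 1) {x₁ x₂ x₃ x₄ x₅ : Ω}
    (h12 : x₁ ≠ x₂) (e1 : b x₁ = x₂) (e2 : b x₂ = x₃) (e3 : b x₃ = x₁) (h45 : x₄ ≠ x₅)
    (e4 : b x₄ = x₅) (e5 : b x₅ = x₄) : Good a b := by
  have hb := b.injective
  have h14 : x₁ ≠ x₄ := by grind
  have h25 : x₂ ≠ x₅ := by grind
  have h32 : x₃ ≠ x₂ := by grind
  have h34 : x₃ ≠ x₄ := by grind
  have h24 : x₂ ≠ x₄ := by grind
  obtain ⟨g, hg, f1, f2⟩ := LB h5 ha h32 h34 h24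
  refine good_mk hg (ss_mem h14 h25) (ss_inv _ _ _ _) ?_ x₂ ?_ ?_
  · generalize g * a * g⁻¹ = a' at *
    have ha' := a'.injective
    intro t
    simp only [Perm.mul_apply, Equiv.swap_apply_def]
    grind
  · rw [e2]
    exact f1
  · generalize g * a * g⁻¹ = a' at *
    have ha' := a'.injective
    simp only [Perm.mul_apply, Equiv.swap_apply_def]
    grind

/-- `b` has a 3-cycle and two fixed points, `a` has a fixed point. -/
theorem M311 (h5 : 5 ≤ Fintype.card Ω) {a b : Perm Ω} {f u : Ω} (hf : a f = f) (hu : a u ≠ u)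
    {x₁ x₂ x₃ z₁ z₂ : Ω}
    (h12 : x₁ ≠ x₂) (e1 : b x₁ = x₂) (e2 : b x₂ = x₃) (e3 : b x₃ = x₁) (hz : z₁ ≠ z₂)
    (e4 : b z₁ = z₁) (e5 : b z₂ = z₂) : Good a b := by
  have hb := b.injective
  have h1 : z₂ ≠ x₂ := by grind
  have h2 : z₁ ≠ x₂ := by grind
  obtain ⟨g, hg, f1, f2⟩ := LE h5 hf hu h2
  refine good_mk hg (ss_mem hz h1) (ss_inv _ _ _ _) ?_ z₁ ?_ ?_
  · generalize g * a * g⁻¹ = a' at *
    have ha' := a'.injective
    intro t
    simp only [Perm.mul_apply, Equiv.swap_apply_def]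
    grind
  · rw [e4]
    exact f1
  · generalize g * a * g⁻¹ = a' at *
    have ha' := a'.injective
    simp only [Perm.mul_apply, Equiv.swap_apply_def]
    grind

/-- `b` has two 2-cycles, `a` has a 2-cycle. -/
theorem M22a (h5 : 5 ≤ Fintype.card Ω) {a b : Perm Ω} {u v : Ω} (huv : u ≠ v) (hu : a u = v)
    (hv : a v = u) {x₁ x₂ x₃ x₄ : Ω}
    (h12 : x₁ ≠ x₂) (e1 : b x₁ = x₂) (e2 : b x₂ = x₁) (h34 : x₃ ≠ x₄) (e3 : b x₃ = x₄)
    (e4 : b x₄ = x₃) (h13 : x₁ ≠ x₃) (h14 : x₁ ≠ x₄) : Good a b := by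
  have hb := b.injective
  have h23 : x₂ ≠ x₃ := by grind
  obtain ⟨g, hg, f1, f2⟩ := LC h5 huv hu hv h12
  refine good_mk hg (ss_mem h12 h23) (ss_inv _ _ _ _) ?_ x₁ ?_ ?_
  · generalize g * a * g⁻¹ = a' at *
    have ha' := a'.injective
    intro t
    simp only [Perm.mul_apply, Equiv.swap_apply_def]
    grind
  · rw [e1]
    exact f2
  · generalize g * a * g⁻¹ = a' at *
    have ha' := a'.injective
    simp only [Perm.mul_apply, Equiv.swap_apply_def]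
    grind

/-- `b` has two 2-cycles, `a` has a 3-cycle. -/
theorem M22b (h5 : 5 ≤ Fintype.card Ω) {a b : Perm Ω} {u v w : Ω} (huv : u ≠ v) (hu : a u = v)
    (hv : a v = w) (hw : a w = u) {x₁ x₂ x₃ x₄ : Ω}
    (h12 : x₁ ≠ x₂) (e1 : b x₁ = x₂) (e2 : b x₂ = x₁) (h34 : x₃ ≠ x₄) (e3 : b x₃ = x₄)
    (e4 : b x₄ = x₃) (h13 : x₁ ≠ x₃) (h14 : x₁ ≠ x₄) : Good a b := by
  have hb := b.injective
  have h23 : x₂ ≠ x₃ := by grind
  obtain ⟨x₅, hx₅⟩ := exists_notMem ({x₁, x₂, x₃, x₄} : Finset Ω)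
    (lt_of_le_of_lt (Finset.card_le_four) (by omega))
  simp only [Finset.mem_insert, Finset.mem_singleton, not_or] at hx₅
  obtain ⟨g, hg, f1, f2, f3⟩ := LD h5 huv hu hv hw (Ne.symm h12) (Ne.symm hx₅.2.1)
    (Ne.symm hx₅.1)
  refine good_mk hg (ss_mem h12 h23) (ss_inv _ _ _ _) ?_ x₁ ?_ ?_
  · generalize g * a * g⁻¹ = a' at *
    have ha' := a'.injective
    intro t
    simp only [Perm.mul_apply, Equiv.swap_apply_def]
    grind
  · rw [e1]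
    exact f1
  · generalize g * a * g⁻¹ = a' at *
    have ha' := a'.injective
    simp only [Perm.mul_apply, Equiv.swap_apply_def]
    grind

/-- `b` has two 3-cycles, `a` has a 3-cycle. -/
theorem M33 (h5 : 5 ≤ Fintype.card Ω) {a b : Perm Ω} {u v w : Ω} (huv : u ≠ v) (hu : a u = v)
    (hv : a v = w) (hw : a w = u) {x₁ x₂ x₃ x₄ x₅ x₆ : Ω}
    (h12 : x₁ ≠ x₂) (e1 : b x₁ = x₂) (e2 : b x₂ = x₃) (e3 : b x₃ = x₁) (h45 : x₄ ≠ x₅)
    (e4 : b x₄ = x₅) (e5 : b x₅ = x₆) (e6 : b x₆ = x₄) (h14 : x₁ ≠ x₄) (h15 : x₁ ≠ x₅)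
    (h16 : x₁ ≠ x₆) : Good a b := by
  have hb := b.injective
  have h25 : x₂ ≠ x₅ := by grind
  have h32 : x₃ ≠ x₂ := by grind
  have h31 : x₃ ≠ x₁ := by grind
  obtain ⟨g, hg, f1, f2, f3⟩ := LD h5 huv hu hv hw h32 h31 (Ne.symm h12)
  refine good_mk hg (ss_mem h14 h25) (ss_inv _ _ _ _) ?_ x₂ ?_ ?_
  · generalize g * a * g⁻¹ = a' at *
    have ha' := a'.injective
    intro t
    simp only [Perm.mul_apply, Equiv.swap_apply_def]
    grind
  · rw [e2]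
    exact f1
  · generalize g * a * g⁻¹ = a' at *
    have ha' := a'.injective
    simp only [Perm.mul_apply, Equiv.swap_apply_def]
    grind


/-- The target statement. -/
def Tgt (a b : Perm Ω) : Prop :=
  ∃ g₁ h₁ g₂ h₂ : Perm Ω, g₁ ∈ alternatingGroup Ω ∧ h₁ ∈ alternatingGroup Ω ∧
    g₂ ∈ alternatingGroup Ω ∧ h₂ ∈ alternatingGroup Ω ∧
    Nat.card (Function.fixedPoints ⇑(g₁ * a * g₁⁻¹ * (h₁ * b * h₁⁻¹))) ≠
      Nat.card (Function.fixedPoints ⇑(g₂ * a * g₂⁻¹ * (h₂ * b * h₂⁻¹)))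

theorem tgt_of_good {a b : Perm Ω} (h : Good a b) : Tgt a b := by
  obtain ⟨g, σ, hg, hσ, h1, p, hp, hp'⟩ := h
  refine ⟨g, σ, g, 1, hg, hσ, hg, one_mem _, ?_⟩
  rw [Nat.card_coe_set_eq, Nat.card_coe_set_eq]
  apply ne_of_lt
  apply Set.ncard_lt_ncard _ (Set.toFinite _)
  refine ⟨?_, ?_⟩
  · intro t ht
    have ht' : (g * a * g⁻¹) ((σ * b * σ⁻¹) t) = t := ht
    show (g * a * g⁻¹ * (1 * b * 1⁻¹)) t = t
    simp only [one_mul, inv_one, mul_one, Perm.mul_apply]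
    exact h1 t ht'
  · intro hsub
    have hp2 : p ∈ Function.fixedPoints ⇑(g * a * g⁻¹ * (1 * b * 1⁻¹)) := by
      show (g * a * g⁻¹ * (1 * b * 1⁻¹)) p = p
      simp only [one_mul, inv_one, mul_one, Perm.mul_apply]
      exact hp
    exact hp' (hsub hp2)

omit [Fintype Ω] [DecidableEq Ω] in
theorem card_fix_comm [Finite Ω] (x y : Perm Ω) :
    Nat.card (Function.fixedPoints ⇑(x * y)) = Nat.card (Function.fixedPoints ⇑(y * x)) := by
  apply Nat.card_congr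
  refine ⟨fun t => ⟨y t.1, ?_⟩, fun t => ⟨x t.1, ?_⟩, ?_, ?_⟩
  · have ht : x (y t.1) = t.1 := t.2
    show y (x (y t.1)) = y t.1
    rw [ht]
  · have ht : y (x t.1) = t.1 := t.2
    show x (y (x t.1)) = x t.1
    rw [ht]
  · intro t
    have ht : x (y t.1) = t.1 := t.2
    exact Subtype.ext ht
  · intro t
    have ht : y (x t.1) = t.1 := t.2
    exact Subtype.ext ht

theorem tgt_symm {a b : Perm Ω} (h : Tgt a b) : Tgt b a := by
  obtain ⟨g₁, h₁, g₂, h₂, hg₁, hh₁, hg₂, hh₂, hne⟩ := h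
  refine ⟨h₁, g₁, h₂, g₂, hh₁, hg₁, hh₂, hg₂, ?_⟩
  rw [card_fix_comm, card_fix_comm (h₂ * b * h₂⁻¹)]
  exact hne

/-- Cycle structure predicates. -/
def Q4 (b : Perm Ω) : Prop := ∃ y, b y ≠ y ∧ b (b y) ≠ y ∧ b (b (b y)) ≠ y

def H2 (b : Perm Ω) : Prop := ∃ x y, x ≠ y ∧ b x = y ∧ b y = x

def H3 (b : Perm Ω) : Prop := ∃ x y z, x ≠ y ∧ b x = y ∧ b y = z ∧ b z = x

def Q21 (b : Perm Ω) : Prop := ∃ x y z, x ≠ y ∧ b x = y ∧ b y = x ∧ b z = z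

def Q32 (b : Perm Ω) : Prop :=
  ∃ x₁ x₂ x₃ x₄ x₅, x₁ ≠ x₂ ∧ b x₁ = x₂ ∧ b x₂ = x₃ ∧ b x₃ = x₁ ∧ x₄ ≠ x₅ ∧ b x₄ = x₅ ∧ b x₅ = x₄

def Q311 (b : Perm Ω) : Prop :=
  ∃ x₁ x₂ x₃ z₁ z₂, x₁ ≠ x₂ ∧ b x₁ = x₂ ∧ b x₂ = x₃ ∧ b x₃ = x₁ ∧ z₁ ≠ z₂ ∧ b z₁ = z₁ ∧ b z₂ = z₂

def Q22 (b : Perm Ω) : Prop :=
  ∃ x₁ x₂ x₃ x₄, x₁ ≠ x₂ ∧ b x₁ = x₂ ∧ b x₂ = x₁ ∧ x₃ ≠ x₄ ∧ b x₃ = x₄ ∧ b x₄ = x₃ ∧
    x₁ ≠ x₃ ∧ x₁ ≠ x₄

def Q33 (b : Perm Ω) : Prop :=
  ∃ x₁ x₂ x₃ x₄ x₅ x₆, x₁ ≠ x₂ ∧ b x₁ = x₂ ∧ b x₂ = x₃ ∧ b x₃ = x₁ ∧ x₄ ≠ x₅ ∧ b x₄ = x₅ ∧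
    b x₅ = x₆ ∧ b x₆ = x₄ ∧ x₁ ≠ x₄ ∧ x₁ ≠ x₅ ∧ x₁ ≠ x₆

theorem classify (h5 : 5 ≤ Fintype.card Ω) (b : Perm Ω) (hb1 : b ≠ 1) :
    Q4 b ∨ Q21 b ∨ Q32 b ∨ Q311 b ∨ Q22 b ∨ Q33 b := by
  have hb := b.injective
  by_cases h4 : Q4 b
  · exact Or.inl h4
  have h4' : ∀ y, b y = y ∨ b (b y) = y ∨ b (b (b y)) = y := by
    intro y
    by_contra hc
    rw [not_or, not_or] at hc
    exact h4 ⟨y, hc.1, hc.2.1, hc.2.2⟩
  obtain ⟨u, hu⟩ : ∃ u, b u ≠ u := by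
    by_contra hc
    exact hb1 (Equiv.ext (by simpa using hc))
  by_cases h2 : ∃ x, b x ≠ x ∧ b (b x) = x
  · obtain ⟨x, hx1, hx2⟩ := h2
    by_cases hf : ∃ z, b z = z
    · obtain ⟨z, hz⟩ := hf
      exact Or.inr (Or.inl ⟨x, b x, z, Ne.symm hx1, rfl, hx2, hz⟩)
    · rw [not_exists] at hf
      by_cases h3 : ∃ w, b (b w) ≠ w
      · obtain ⟨w, hw⟩ := h3
        refine Or.inr (Or.inr (Or.inl ⟨w, b w, b (b w), x, b x, Ne.symm (hf w), rfl, rfl, ?_,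
          Ne.symm hx1, rfl, hx2⟩))
        rcases h4' w with h | h | h
        · exact absurd h (hf w)
        · exact absurd h hw
        · exact h
      · rw [not_exists] at h3
        obtain ⟨w, hw⟩ := exists_notMem ({x, b x} : Finset Ω)
          (lt_of_le_of_lt (Finset.card_le_two) (by omega))
        simp only [Finset.mem_insert, Finset.mem_singleton, not_or] at hw
        have h3w := not_not.mp (h3 w)
        refine Or.inr (Or.inr (Or.inr (Or.inr (Or.inl ⟨x, b x, w, b w, Ne.symm hx1, rfl, hx2,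
          Ne.symm (hf w), rfl, h3w, Ne.symm hw.1, ?_⟩))))
        intro h
        apply hw.2
        rw [h, h3w]
  · rw [not_exists] at h2
    have h2' : ∀ x, b x ≠ x → b (b x) ≠ x := fun x hx h => h2 x ⟨hx, h⟩
    have h3' : ∀ x, b x ≠ x → b (b (b x)) = x := by
      intro x hx
      rcases h4' x with h | h | h
      · exact absurd h hx
      · exact absurd h (h2' x hx)
      · exact h
    obtain ⟨s₁, hs₁⟩ := exists_notMem ({u, b u, b (b u)} : Finset Ω)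
      (lt_of_le_of_lt (Finset.card_le_three) (by omega))
    obtain ⟨s₂, hs₂⟩ := exists_notMem ({u, b u, b (b u), s₁} : Finset Ω)
      (lt_of_le_of_lt (Finset.card_le_four) (by omega))
    simp only [Finset.mem_insert, Finset.mem_singleton, not_or] at hs₁ hs₂
    have key : ∀ s, s ≠ u → s ≠ b u → s ≠ b (b u) → b s ≠ s → Q33 b := by
      intro s hs1 hs2 hs3 hs
      refine ⟨u, b u, b (b u), s, b s, b (b s), Ne.symm hu, rfl, rfl, h3' u hu, Ne.symm hs, rfl,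
        rfl, h3' s hs, Ne.symm hs1, ?_, ?_⟩
      · have := h3' s hs
        have := h3' u hu
        grind
      · have := h3' s hs
        have := h3' u hu
        grind
    by_cases hs : b s₁ = s₁ ∧ b s₂ = s₂
    · exact Or.inr (Or.inr (Or.inr (Or.inl ⟨u, b u, b (b u), s₁, s₂, Ne.symm hu, rfl, rfl,
        h3' u hu, Ne.symm hs₂.2.2.2, hs.1, hs.2⟩)))
    · rw [not_and_or] at hs
      rcases hs with hs | hs
      · exact Or.inr (Or.inr (Or.inr (Or.inr (Or.inr (key s₁ hs₁.1 hs₁.2.1 hs₁.2.2 hs)))))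
      · exact Or.inr (Or.inr (Or.inr (Or.inr (Or.inr (key s₂ hs₂.1 hs₂.2.1 hs₂.2.2.1 hs)))))

omit [Fintype Ω] [DecidableEq Ω] in
theorem q311_h3 {b : Perm Ω} (h : Q311 b) : H3 b := by
  obtain ⟨x₁, x₂, x₃, z₁, z₂, h12, e1, e2, e3, -⟩ := h
  exact ⟨x₁, x₂, x₃, h12, e1, e2, e3⟩

omit [Fintype Ω] [DecidableEq Ω] in
theorem q33_h3 {b : Perm Ω} (h : Q33 b) : H3 b := by
  obtain ⟨x₁, x₂, x₃, x₄, x₅, x₆, h12, e1, e2, e3, -⟩ := h
  exact ⟨x₁, x₂, x₃, h12, e1, e2, e3⟩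

theorem good_q4 (h5 : 5 ≤ Fintype.card Ω) {a b : Perm Ω} (ha : a ≠ 1) (h : Q4 b) : Good a b := by
  obtain ⟨y, h1, h2, h3⟩ := h
  exact M4 h5 ha h1 h2 h3

theorem good_q21 (h5 : 5 ≤ Fintype.card Ω) {a b : Perm Ω} (ha : a ≠ 1) (h : Q21 b) :
    Good a b := by
  obtain ⟨x, y, z, hxy, e1, e2, e3⟩ := h
  exact M21 h5 ha hxy e1 e2 e3

theorem good_q32 (h5 : 5 ≤ Fintype.card Ω) {a b : Perm Ω} (ha : a ≠ 1) (h : Q32 b) :
    Good a b := by
  obtain ⟨x₁, x₂, x₃, x₄, x₅, h12, e1, e2, e3, h45, e4, e5⟩ := h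
  exact M32 h5 ha h12 e1 e2 e3 h45 e4 e5

theorem good_q22_h3 (h5 : 5 ≤ Fintype.card Ω) {a b : Perm Ω} (ha : H3 a) (h : Q22 b) :
    Good a b := by
  obtain ⟨u, v, w, huv, hu, hv, hw⟩ := ha
  obtain ⟨x₁, x₂, x₃, x₄, h12, e1, e2, h34, e3, e4, h13, h14⟩ := h
  exact M22b h5 huv hu hv hw h12 e1 e2 h34 e3 e4 h13 h14

theorem good_q33_h3 (h5 : 5 ≤ Fintype.card Ω) {a b : Perm Ω} (ha : H3 a) (h : Q33 b) :
    Good a b := by
  obtain ⟨u, v, w, huv, hu, hv, hw⟩ := ha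
  obtain ⟨x₁, x₂, x₃, x₄, x₅, x₆, h12, e1, e2, e3, h45, e4, e5, e6, h14, h15, h16⟩ := h
  exact M33 h5 huv hu hv hw h12 e1 e2 e3 h45 e4 e5 e6 h14 h15 h16

theorem good_or (h5 : 5 ≤ Fintype.card Ω) (a b : Perm Ω) (ha : a ≠ 1) (hb : b ≠ 1) :
    Good a b ∨ Good b a := by
  rcases classify h5 b hb with hb4 | hb21 | hb32 | hb311 | hb22 | hb33
  · exact Or.inl (good_q4 h5 ha hb4)
  · exact Or.inl (good_q21 h5 ha hb21)
  · exact Or.inl (good_q32 h5 ha hb32)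
  · rcases classify h5 a ha with ha4 | ha21 | ha32 | ha311 | ha22 | ha33
    · exact Or.inr (good_q4 h5 hb ha4)
    · exact Or.inr (good_q21 h5 hb ha21)
    · exact Or.inr (good_q32 h5 hb ha32)
    · left
      obtain ⟨y₁, y₂, y₃, w₁, w₂, k12, d1, d2, d3, kw, d4, d5⟩ := ha311
      obtain ⟨x₁, x₂, x₃, z₁, z₂, h12, e1, e2, e3, hz, e4, e5⟩ := hb311
      have hu : a y₁ ≠ y₁ := by rw [d1]; exact Ne.symm k12
      exact M311 h5 d4 hu h12 e1 e2 e3 hz e4 e5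
    · exact Or.inr (good_q22_h3 h5 (q311_h3 hb311) ha22)
    · exact Or.inr (good_q33_h3 h5 (q311_h3 hb311) ha33)
  · rcases classify h5 a ha with ha4 | ha21 | ha32 | ha311 | ha22 | ha33
    · exact Or.inr (good_q4 h5 hb ha4)
    · exact Or.inr (good_q21 h5 hb ha21)
    · exact Or.inr (good_q32 h5 hb ha32)
    · exact Or.inl (good_q22_h3 h5 (q311_h3 ha311) hb22)
    · left
      obtain ⟨y₁, y₂, y₃, y₄, k12, d1, d2, -⟩ := ha22
      obtain ⟨x₁, x₂, x₃, x₄, h12, e1, e2, h34, e3, e4, h13, h14⟩ := hb22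
      exact M22a h5 k12 d1 d2 h12 e1 e2 h34 e3 e4 h13 h14
    · exact Or.inl (good_q22_h3 h5 (q33_h3 ha33) hb22)
  · rcases classify h5 a ha with ha4 | ha21 | ha32 | ha311 | ha22 | ha33
    · exact Or.inr (good_q4 h5 hb ha4)
    · exact Or.inr (good_q21 h5 hb ha21)
    · exact Or.inr (good_q32 h5 hb ha32)
    · exact Or.inl (good_q33_h3 h5 (q311_h3 ha311) hb33)
    · exact Or.inr (good_q22_h3 h5 (q33_h3 hb33) ha22)
    · exact Or.inl (good_q33_h3 h5 (q33_h3 ha33) hb33)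

/-- Let n ≥ 5 and let a, b be non-identity permutations in the symmetric group S_n. Then the number of fixed points is not constant on the set of products a′b′ with a′ conjugate to a and b′ conjugate to b under the alternating group: there are even permutations g₁, h₁, g₂, h₂ such that (g₁ a g₁⁻¹)(h₁ b h₁⁻¹) and (g₂ a g₂⁻¹)(h₂ b h₂⁻¹) have different numbers of fixed points. -/
theorem result (n : ℕ) (hn : 5 ≤ n) (a b : Equiv.Perm (Fin n)) (ha : a ≠ 1) (hb : b ≠ 1) :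
    ∃ g₁ h₁ g₂ h₂ : Equiv.Perm (Fin n), g₁ ∈ alternatingGroup (Fin n) ∧ h₁ ∈ alternatingGroup (Fin n) ∧ g₂ ∈ alternatingGroup (Fin n) ∧ h₂ ∈ alternatingGroup (Fin n) ∧
      Nat.card (Function.fixedPoints ⇑(g₁ * a * g₁⁻¹ * (h₁ * b * h₁⁻¹))) ≠
        Nat.card (Function.fixedPoints ⇑(g₂ * a * g₂⁻¹ * (h₂ * b * h₂⁻¹))) := by
  have h5 : 5 ≤ Fintype.card (Fin n) := by rw [Fintype.card_fin]; exact hn
  rcases good_or h5 a b ha hb with h | h
  · exact tgt_of_good h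
  · exact tgt_symm (tgt_of_good h)

end Cfsg.Agent.S2271
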