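import Mathlib
import Cfsg.Agent.Lib.helper39.S2272L1
import Cfsg.Agent.Lib.helper39.S2272L2
import Cfsg.Agent.Lib.helper49.S2272L5a
import Cfsg.Agent.Lib.helper49.S2272L5b
import Cfsg.Agent.Lib.helper53.S2272L3a
import Cfsg.Agent.Lib.helper53.S2272L6
import Cfsg.Agent.Lib.helper72.S2272L3
import Cfsg.Agent.Lib.helper72.S2272L4

set_option autoImplicit false

open Cfsg

namespace Cfsg.Agent.S2272

open Matrix
open Cfsg.Agent.Lib.helper39.S2272
open Cfsg.Agent.Lib.helper49.S2272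
open Cfsg.Agent.Lib.helper53.S2272
open Cfsg.Agent.Lib.helper72.S2272

/-- Let F be a finite field and d ≥ 3, and let a, b be non-identity elements of PSL_d(F). Then the product of the conjugacy classes of a and b is not a single conjugacy class: there are conjugates a′ of a and b′ of b such that a′b′ is not conjugate to ab. -/
theorem result {F : Type*} [Field F] [Fintype F] (d : ℕ) (hd : 3 ≤ d)
    (a b : Matrix.ProjectiveSpecialLinearGroup (Fin d) F) (ha : a ≠ 1) (hb : b ≠ 1) :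
    ∃ g h : Matrix.ProjectiveSpecialLinearGroup (Fin d) F, ¬ IsConj (a * b) (g * a * g⁻¹ * (h * b * h⁻¹)) := by
  classical
  obtain ⟨A, rfl⟩ := QuotientGroup.mk_surjective a
  obtain ⟨B, rfl⟩ := QuotientGroup.mk_surjective b
  have hA := lift_not_scalar A ha
  have hB := lift_not_scalar B hb
  obtain ⟨u, hu⟩ := exists_not_eigenvector (A : Matrix (Fin d) (Fin d) F) hA
  obtain ⟨w, hw⟩ := exists_not_eigenvector (B : Matrix (Fin d) (Fin d) F) hB
  have hu0 : u ≠ 0 := by
    rintro rfl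
    exact hu 0 (by simp)
  have hw0 : w ≠ 0 := by
    rintro rfl
    exact hw 0 (by simp)
  obtain ⟨z, hli3, hli_uz, -⟩ :=
    exists_independent_triple hd u ((A : Matrix (Fin d) (Fin d) F) *ᵥ u) hu0 hu
  obtain ⟨z', -, -, hli_w⟩ :=
    exists_independent_triple hd w ((B : Matrix (Fin d) (Fin d) F) *ᵥ w) hw0 hw
  obtain ⟨h, hhw, hhBw⟩ :=
    exists_sl_map_pair hd w ((B : Matrix (Fin d) (Fin d) F) *ᵥ w) u z hli_w hli_uz
  have hB'u : ((h * B * h⁻¹ : Matrix.SpecialLinearGroup (Fin d) F) : Matrix (Fin d) (Fin d) F)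
      *ᵥ u = z := by
    have hinv : ((h⁻¹ : Matrix.SpecialLinearGroup (Fin d) F) : Matrix (Fin d) (Fin d) F) *ᵥ u
        = w := by
      rw [← hhw, Matrix.mulVec_mulVec, ← Matrix.SpecialLinearGroup.coe_mul, inv_mul_cancel]
      simp
    rw [Matrix.SpecialLinearGroup.coe_mul, Matrix.SpecialLinearGroup.coe_mul,
      ← Matrix.mulVec_mulVec, hinv, ← Matrix.mulVec_mulVec, hhBw]
  obtain ⟨B', hB'eq⟩ : ∃ B' : Matrix.SpecialLinearGroup (Fin d) F, B' = h * B * h⁻¹ := ⟨_, rfl⟩
  rw [← hB'eq] at hB'u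
  obtain ⟨f, hfu, hQ⟩ := exists_functional u ((A : Matrix (Fin d) (Fin d) F) *ᵥ u) z
    (((A : Matrix (Fin d) (Fin d) F) * (B' : Matrix (Fin d) (Fin d) F)
      - (B' : Matrix (Fin d) (Fin d) F) * (A : Matrix (Fin d) (Fin d) F)) *ᵥ u) hli3
    (if ((A : Matrix (Fin d) (Fin d) F) * (B' : Matrix (Fin d) (Fin d) F)).trace = 0 then 1
      else ((A : Matrix (Fin d) (Fin d) F) * (B' : Matrix (Fin d) (Fin d) F)).trace)
  obtain ⟨hinv, hdet, htr⟩ := trace_transvection_conj (A : Matrix (Fin d) (Fin d) F)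
    (B' : Matrix (Fin d) (Fin d) F) u f hfu
  rw [hB'u] at htr
  have htr' : ((1 + vecMulVec u f) * (A : Matrix (Fin d) (Fin d) F) * (1 - vecMulVec u f)
      * (B' : Matrix (Fin d) (Fin d) F)).trace
      = ((A : Matrix (Fin d) (Fin d) F) * (B' : Matrix (Fin d) (Fin d) F)).trace
        - (if ((A : Matrix (Fin d) (Fin d) F) * (B' : Matrix (Fin d) (Fin d) F)).trace = 0 then 1
          else ((A : Matrix (Fin d) (Fin d) F) * (B' : Matrix (Fin d) (Fin d) F)).trace) := by
    rw [htr, ← hQ]; ring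
  let g : Matrix.SpecialLinearGroup (Fin d) F := ⟨1 + vecMulVec u f, hdet⟩
  have hgcoe : (g : Matrix (Fin d) (Fin d) F) = 1 + vecMulVec u f := rfl
  have hginv : ((g⁻¹ : Matrix.SpecialLinearGroup (Fin d) F) : Matrix (Fin d) (Fin d) F)
      = 1 - vecMulVec u f := by
    have h1 : ((g⁻¹ : Matrix.SpecialLinearGroup (Fin d) F) : Matrix (Fin d) (Fin d) F)
        * (g : Matrix (Fin d) (Fin d) F) = 1 := by
      rw [← Matrix.SpecialLinearGroup.coe_mul, inv_mul_cancel]; rfl
    calc ((g⁻¹ : Matrix.SpecialLinearGroup (Fin d) F) : Matrix (Fin d) (Fin d) F)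
        = ((g⁻¹ : Matrix.SpecialLinearGroup (Fin d) F) : Matrix (Fin d) (Fin d) F)
          * ((g : Matrix (Fin d) (Fin d) F) * (1 - vecMulVec u f)) := by
          rw [hgcoe, hinv, mul_one]
      _ = 1 - vecMulVec u f := by rw [← mul_assoc, h1, one_mul]
  by_contra hall
  push Not at hall
  have h1 := hall 1 (QuotientGroup.mk h)
  have h2 := hall (QuotientGroup.mk g) (QuotientGroup.mk h)
  have e1 : (1 : Matrix.ProjectiveSpecialLinearGroup (Fin d) F) * QuotientGroup.mk A * 1⁻¹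
      * (QuotientGroup.mk h * QuotientGroup.mk B * (QuotientGroup.mk h)⁻¹)
      = QuotientGroup.mk (A * B') := by
    rw [hB'eq]; simp
  have e2 : (QuotientGroup.mk g : Matrix.ProjectiveSpecialLinearGroup (Fin d) F)
      * QuotientGroup.mk A * (QuotientGroup.mk g)⁻¹
      * (QuotientGroup.mk h * QuotientGroup.mk B * (QuotientGroup.mk h)⁻¹)
      = QuotientGroup.mk (g * A * g⁻¹ * B') := by
    rw [hB'eq]; simp
  rw [e1] at h1
  rw [e2] at h2
  have key := trace_zero_iff_of_isConj (A * B') (g * A * g⁻¹ * B') (h1.symm.trans h2)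
  rw [Matrix.SpecialLinearGroup.coe_mul, Matrix.SpecialLinearGroup.coe_mul,
    Matrix.SpecialLinearGroup.coe_mul, Matrix.SpecialLinearGroup.coe_mul, hginv, hgcoe,
    htr'] at key
  by_cases ht : ((A : Matrix (Fin d) (Fin d) F) * (B' : Matrix (Fin d) (Fin d) F)).trace = 0
  · rw [if_pos ht, ht] at key
    have := key.mp rfl
    simp at this
  · rw [if_neg ht, sub_self] at key
    exact ht (key.mpr rfl)

end Cfsg.Agent.S2272
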