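import Cfsg.Statements.S2276
import Cfsg.Agent.Lib.helper95.APCore

set_option autoImplicit false
open Cfsg

namespace Cfsg.Agent.S2276

/-- Let n ≥ 5, p ≥ 3 a prime, and u, w non-identity elements of p-power order in the alternating group A_n. Then there is g ∈ A_n such that u·(g w g⁻¹) does not have p-power order and ⟨u, g w g⁻¹⟩ is not solvable. -/
theorem result (n : ℕ) (hn : 5 ≤ n) (p : ℕ) (hp : p.Prime) (hp3 : 3 ≤ p) (u w : alternatingGroup (Fin n)) (hu : u ≠ 1) (hw : w ≠ 1)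
    (hu' : ∃ k : ℕ, orderOf u = p ^ k) (hw' : ∃ k : ℕ, orderOf w = p ^ k) :
    ∃ g : alternatingGroup (Fin n), (¬ ∃ k : ℕ, orderOf (u * (g * w * g⁻¹)) = p ^ k) ∧
      ¬ Group.IsSolvable ↥(Subgroup.closure ({u, g * w * g⁻¹} : Set (alternatingGroup (Fin n)))) := by
  classical
  have hU1 : (u : Equiv.Perm (Fin n)) ≠ 1 := fun h => hu (Subtype.ext h)
  have hW1 : (w : Equiv.Perm (Fin n)) ≠ 1 := fun h => hw (Subtype.ext h)
  have hUo : ∃ k : ℕ, orderOf (u : Equiv.Perm (Fin n)) = p ^ k := by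
    obtain ⟨k, hk⟩ := hu'
    exact ⟨k, by rw [← hk, Subgroup.orderOf_coe]⟩
  have hWo : ∃ k : ℕ, orderOf (w : Equiv.Perm (Fin n)) = p ^ k := by
    obtain ⟨k, hk⟩ := hw'
    exact ⟨k, by rw [← hk, Subgroup.orderOf_coe]⟩
  obtain ⟨g, hg, hgood1, hgood2⟩ :=
    Cfsg.Agent.Lib.helper95.AP.core n hn p hp hp3 (u : Equiv.Perm (Fin n)) (w : Equiv.Perm (Fin n))
      hU1 hW1 hUo hWo
  refine ⟨⟨g, Equiv.Perm.mem_alternatingGroup.2 hg⟩, ?_, ?_⟩
  · rintro ⟨k, hk⟩
    apply hgood1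
    refine ⟨k, ?_⟩
    rw [← hk, ← Subgroup.orderOf_coe]
    rfl
  · intro hsol
    apply hgood2
    have hmap : (Subgroup.closure ({u, (⟨g, Equiv.Perm.mem_alternatingGroup.2 hg⟩ : alternatingGroup (Fin n)) * w *
          (⟨g, Equiv.Perm.mem_alternatingGroup.2 hg⟩ : alternatingGroup (Fin n))⁻¹} :
          Set (alternatingGroup (Fin n)))).map (alternatingGroup (Fin n)).subtype
        = Subgroup.closure ({(u : Equiv.Perm (Fin n)), g * (w : Equiv.Perm (Fin n)) * g⁻¹} :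
          Set (Equiv.Perm (Fin n))) := by
      rw [MonoidHom.map_closure, Set.image_pair]
      rfl
    rw [← hmap]
    exact Group.isSolvable_of_surjective
      (MonoidHom.subgroupMap_surjective (alternatingGroup (Fin n)).subtype _)

end Cfsg.Agent.S2276
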