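import Cfsg.Statements.S2277
import Cfsg.Agent.Lib.helper60.FixCount

set_option autoImplicit false
open Cfsg
open Cfsg.Agent.Lib.helper60.FixCount

namespace Cfsg.Agent.S2277

universe u

section Grp

variable {G : Type u} [Group G] [Finite G]

open scoped IsMulCommutative in
theorem abel_case (p : ℕ) [Fact p.Prime] (hp3 : 3 ≤ p) {P N : Subgroup G} {C D : Set G}
    (S : Setting p P N C D) [hN : N.Normal] [IsMulCommutative ↥N]
    (hF1 : ∀ M : Subgroup G, M.Normal → M ≤ N → M ≠ ⊥ → M = N) :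
    ∀ y ∈ P, ∀ x ∈ N, y * x = x * y := by
  have hab : ∀ a ∈ N, ∀ b ∈ N, a * b = b * a := by
    intro a ha b hb
    have := mul_comm (⟨a, ha⟩ : ↥N) ⟨b, hb⟩
    exact congrArg Subtype.val this
  let κP : ↥P →* AddMonoid.End (Additive ↥N) := (kap N).comp P.subtype
  have hfix : ∀ (g : G) (x : ↥N),
      kap N g (Additive.ofMul x) = Additive.ofMul x ↔ g * (x : G) = x * g := kap_fix N
  have hfpf : ∀ ζ ∈ Subgroup.center (↥P ⧸ κP.ker), ζ ≠ 1 →
      ∀ a : Additive ↥N, QuotientGroup.lift κP.ker κP le_rfl ζ a = a → a = 0 := by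
    intro ζ hζc hζ1 a ha
    obtain ⟨z, rfl⟩ := QuotientGroup.mk_surjective ζ
    rw [QuotientGroup.lift_mk] at ha
    have hcz : ∀ y : ↥P, kap N z * kap N y = kap N y * kap N z := by
      intro y
      have h1 := Subgroup.mem_center_iff.1 hζc (y : ↥P ⧸ κP.ker)
      have h2 := congrArg (QuotientGroup.lift κP.ker κP le_rfl) h1
      rw [map_mul, map_mul, QuotientGroup.lift_mk, QuotientGroup.lift_mk] at h2
      exact h2.symm
    have hmemM : ∀ x : G, x ∈ N ⊓ Subgroup.centralizer {(z : G)} ↔ x ∈ N ∧ (z : G) * x = x * z := by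
      intro x
      rw [Subgroup.mem_inf, Subgroup.mem_centralizer_iff]
      simp
    have hMn : (N ⊓ Subgroup.centralizer {(z : G)}).Normal := by
      apply normal_of_sup S.hsup
      · intro g hg h hh
        have hh' := (hmemM h).1 hh
        have : g * h * g⁻¹ = h := by rw [hab g hg h hh'.1, mul_inv_cancel_right]
        rw [this]
        exact hh
      · intro g hg h hh
        have hh' := (hmemM h).1 hh
        rw [hmemM]
        refine ⟨hN.conj_mem _ hh'.1 g, ?_⟩
        have h1 := congrArg (fun f : AddMonoid.End (Additive ↥N) => f (Additive.ofMul ⟨h, hh'.1⟩))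
          (hcz ⟨g, hg⟩)
        have h2 : kap N z (kap N g (Additive.ofMul ⟨h, hh'.1⟩))
            = kap N g (kap N z (Additive.ofMul ⟨h, hh'.1⟩)) := h1
        rw [(hfix z ⟨h, hh'.1⟩).2 hh'.2] at h2
        have h3 : kap N g (Additive.ofMul ⟨h, hh'.1⟩)
            = Additive.ofMul ⟨g * h * g⁻¹, hN.conj_mem _ hh'.1 g⟩ := rfl
        rw [h3] at h2
        exact (hfix z _).1 h2
    by_contra ha0
    have hx0 : ((Additive.toMul a : ↥N) : G) ∈ N ⊓ Subgroup.centralizer {(z : G)} := by
      rw [hmemM]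
      exact ⟨(Additive.toMul a).2, (hfix z (Additive.toMul a)).1 ha⟩
    have hMbot : N ⊓ Subgroup.centralizer {(z : G)} ≠ ⊥ := by
      intro hb
      rw [hb, Subgroup.mem_bot] at hx0
      apply ha0
      have h1 : Additive.toMul a = 1 := Subtype.ext hx0
      exact Additive.toMul.injective h1
    have hMN := hF1 _ hMn inf_le_left hMbot
    apply hζ1
    rw [QuotientGroup.eq_one_iff, MonoidHom.mem_ker]
    apply AddMonoidHom.ext
    intro b
    have hb : ((Additive.toMul b : ↥N) : G) ∈ N ⊓ Subgroup.centralizer {(z : G)} := by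
      rw [hMN]
      exact (Additive.toMul b).2
    exact (hfix z (Additive.toMul b)).2 ((hmemM _).1 hb).2
  have hC' : Subgroup.closure ((QuotientGroup.mk' κP.ker) '' (Subtype.val ⁻¹' C)) = ⊤ := by
    rw [← MonoidHom.map_closure,
      closure_preimage_val P C (by rw [← S.hC]; exact Subgroup.subset_closure), S.hC,
      Subgroup.subgroupOf_self, Subgroup.map_top_of_surjective _ (QuotientGroup.mk'_surjective _)]
  have hD' : Subgroup.closure ((QuotientGroup.mk' κP.ker) '' (Subtype.val ⁻¹' D)) = ⊤ := by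
    rw [← MonoidHom.map_closure,
      closure_preimage_val P D (by rw [← S.hD]; exact Subgroup.subset_closure), S.hD,
      Subgroup.subgroupOf_self, Subgroup.map_top_of_surjective _ (QuotientGroup.mk'_surjective _)]
  have hdec : ∀ c ∈ (QuotientGroup.mk' κP.ker) '' (Subtype.val ⁻¹' C),
      ∀ d ∈ (QuotientGroup.mk' κP.ker) '' (Subtype.val ⁻¹' D), ∀ a : Additive ↥N,
      ∃ u v : Additive ↥N, QuotientGroup.lift κP.ker κP le_rfl c u = u ∧
        QuotientGroup.lift κP.ker κP le_rfl d v = v ∧ a = u + v := by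
    rintro c' ⟨c, hc, rfl⟩ d' ⟨d, hd, rfl⟩ a
    obtain ⟨v, hv, u, hu, hdv, hcu, hxu⟩ := S.dec hc hd (Additive.toMul a).2
    refine ⟨Additive.ofMul ⟨u, hu⟩, Additive.ofMul ⟨v, hv⟩, ?_, ?_, ?_⟩
    · show QuotientGroup.lift κP.ker κP le_rfl (c : ↥P ⧸ κP.ker) _ = _
      rw [QuotientGroup.lift_mk]
      exact (hfix c ⟨u, hu⟩).2 hcu
    · show QuotientGroup.lift κP.ker κP le_rfl (d : ↥P ⧸ κP.ker) _ = _
      rw [QuotientGroup.lift_mk]
      exact (hfix d ⟨v, hv⟩).2 hdv
    · show a = Additive.ofMul ((⟨u, hu⟩ : ↥N) * ⟨v, hv⟩)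
      have h1 : (Additive.toMul a : ↥N) = ⟨u, hu⟩ * ⟨v, hv⟩ :=
        Subtype.ext (by rw [hxu]; exact hab v hv u hu)
      rw [← h1]
      rfl
  have hcop : (Nat.card (Additive ↥N)).Coprime p := S.hcop
  have key := modthm p hp3 hcop (S.hP.to_quotient κP.ker) (QuotientGroup.lift κP.ker κP le_rfl)
    hfpf _ _ hC' hD' hdec
  rcases key with h | h
  · intro y hy x hx
    have h1 : ((⟨y, hy⟩ : ↥P) : ↥P ⧸ κP.ker) = 1 := Subsingleton.elim _ _
    have h2 : (⟨y, hy⟩ : ↥P) ∈ κP.ker := (QuotientGroup.eq_one_iff _).1 h1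
    have h3 : kap N y = 1 := h2
    have h4 : kap N y (Additive.ofMul ⟨x, hx⟩) = Additive.ofMul ⟨x, hx⟩ := by rw [h3]; rfl
    exact (hfix y ⟨x, hx⟩).1 h4
  · intro y hy x hx
    have h1 : (Additive.ofMul (⟨x, hx⟩ : ↥N)) = Additive.ofMul 1 := Subsingleton.elim _ _
    have h2 : x = 1 := congrArg (fun a : Additive ↥N => ((Additive.toMul a : ↥N) : G)) h1
    rw [h2, mul_one, one_mul]

theorem core (p : ℕ) [Fact p.Prime] (hp3 : 3 ≤ p) {P N : Subgroup G} {C D : Set G}
    (S : Setting p P N C D)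
    (hS : ∀ N₁ : Subgroup G, N₁ ≤ N → N₁ ≠ N → P ≤ Subgroup.normalizer (N₁ : Set G) →
      ∀ y ∈ P, ∀ x ∈ N₁, y * x = x * y)
    (hQ : ∀ M : Subgroup G, M.Normal → M ≤ N → M ≠ ⊥ →
      ∀ y ∈ P, ∀ x ∈ N, y * x * y⁻¹ * x⁻¹ ∈ M) :
    ∀ y ∈ P, ∀ x ∈ N, y * x = x * y := by
  by_contra hnc
  have hN := S.hN
  -- F1
  have hF1 : ∀ M : Subgroup G, M.Normal → M ≤ N → M ≠ ⊥ → M = N := by
    intro M hMn hMN hMb
    by_contra hne
    apply hnc
    intro y hy x hx
    have h1 := hS M hMN hne (by rw [Subgroup.normalizer_eq_top]; exact le_top)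
    have h2 := hQ M hMn hMN hMb y hy x hx
    obtain ⟨k, hk⟩ := S.pelt hy
    exact comm_of_comm_mod S.hcop y x (hMN h2) (h1 y hy _ h2) hk
  -- F2
  have hF2 : ∃ r k : ℕ, r.Prime ∧ Nat.card N = r ^ k := by
    by_contra hno
    apply hnc
    have hZ : ∀ r : ℕ, r.Prime →
        r ^ (Nat.card N).factorization r ∣ Nat.card (N ⊓ Subgroup.centralizer (P : Set G) : Subgroup G) := by
      intro r hr
      have : Fact r.Prime := ⟨hr⟩
      obtain ⟨R, hRN, hRn, hRc⟩ := exists_inv_sylow S r
      have hRne : R ≠ N := by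
        intro h
        exact hno ⟨r, _, hr, by rw [← hRc, h]⟩
      have h1 := hS R hRN hRne hRn
      have hle : R ≤ N ⊓ Subgroup.centralizer (P : Set G) := by
        intro x hx
        rw [Subgroup.mem_inf, Subgroup.mem_centralizer_iff]
        exact ⟨hRN hx, fun y hy => h1 y hy x hx⟩
      rw [← hRc]
      exact Subgroup.card_dvd_of_le hle
    have hdvd : Nat.card N ∣ Nat.card (N ⊓ Subgroup.centralizer (P : Set G) : Subgroup G) := by
      rw [← Nat.factorization_prime_le_iff_dvd Nat.card_pos.ne' Nat.card_pos.ne']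
      intro r hr
      exact (hr.pow_dvd_iff_le_factorization Nat.card_pos.ne').1 (hZ r hr)
    have hEq : N ⊓ Subgroup.centralizer (P : Set G) = N :=
      Subgroup.eq_of_le_of_card_ge inf_le_left (Nat.le_of_dvd Nat.card_pos hdvd)
    intro y hy x hx
    have hx' : x ∈ N ⊓ Subgroup.centralizer (P : Set G) := by rw [hEq]; exact hx
    rw [Subgroup.mem_inf, Subgroup.mem_centralizer_iff] at hx'
    exact hx'.2 y hy
  obtain ⟨r, k, hr, hrk⟩ := hF2
  have : Fact r.Prime := ⟨hr⟩
  -- F3
  have hNnt : Nontrivial ↥N := by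
    by_contra hnt
    rw [not_nontrivial_iff_subsingleton] at hnt
    apply hnc
    intro y hy x hx
    have h1 : (⟨x, hx⟩ : ↥N) = 1 := Subsingleton.elim _ _
    have h2 : x = 1 := congrArg Subtype.val h1
    rw [h2, mul_one, one_mul]
  have hNr : IsPGroup r ↥N := IsPGroup.of_card hrk
  have hcen : Nontrivial (Subgroup.center ↥N) := hNr.center_nontrivial
  have hMn : ((Subgroup.center ↥N).map N.subtype).Normal := inferInstance
  have hMb : (Subgroup.center ↥N).map N.subtype ≠ ⊥ := by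
    intro hb
    obtain ⟨z, hz⟩ := exists_ne (1 : Subgroup.center ↥N)
    have h1 : ((z : ↥N) : G) ∈ (Subgroup.center ↥N).map N.subtype :=
      ⟨(z : ↥N), z.2, rfl⟩
    rw [hb, Subgroup.mem_bot] at h1
    exact hz (Subtype.ext (Subtype.ext h1))
  have hMN := hF1 _ hMn (Subgroup.map_subtype_le _) hMb
  have hcomm : IsMulCommutative ↥N := by
    refine ⟨⟨fun a b => ?_⟩⟩
    have ha : (a : G) ∈ (Subgroup.center ↥N).map N.subtype := by rw [hMN]; exact a.2
    obtain ⟨a', ha', haa⟩ := ha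
    have h1 : a' = a := Subtype.ext haa
    rw [← h1]
    exact (Subgroup.mem_center_iff.1 ha' b).symm
  exact hnc (abel_case p hp3 S hF1)

theorem main (p : ℕ) [Fact p.Prime] (hp3 : 3 ≤ p) : ∀ (n : ℕ) (G : Type u) [Group G] [Finite G]
    (P N : Subgroup G) (C D : Set G), Setting p P N C D → Nat.card N = n →
    ∀ y ∈ P, ∀ x ∈ N, y * x = x * y := by
  intro n
  induction n using Nat.strong_induction_on with
  | _ n ih =>
    intro G _ _ P N C D S hn
    apply core p hp3 S
    · intro N₁ hle hne hnorm y hy x hx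
      have hlt : Nat.card N₁ < n := by
        rw [← hn]
        rcases Nat.lt_or_ge (Nat.card N₁) (Nat.card N) with h | h
        · exact h
        · exact absurd (Subgroup.eq_of_le_of_card_ge hle h) hne
      have e : Nat.card (N₁.subgroupOf (N₁ ⊔ P)) = Nat.card N₁ :=
        Nat.card_congr (Subgroup.subgroupOfEquivOfLe le_sup_left).toEquiv
      have h1 := ih (Nat.card N₁) hlt ↥(N₁ ⊔ P) _ _ _ _ (S.sub N₁ hle hnorm) e
        ⟨y, (le_sup_right : P ≤ N₁ ⊔ P) hy⟩ (by rw [Subgroup.mem_subgroupOf]; exact hy)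
        ⟨x, (le_sup_left : N₁ ≤ N₁ ⊔ P) hx⟩ (by rw [Subgroup.mem_subgroupOf]; exact hx)
      exact congrArg Subtype.val h1
    · intro M hMn hMN hMb y hy x hx
      have hlt : Nat.card (N.map (QuotientGroup.mk' M)) < n := by
        rw [← hn]
        apply card_lt_of_surj_not_inj ((QuotientGroup.mk' M).subgroupMap N)
          ((QuotientGroup.mk' M).subgroupMap_surjective N)
        intro hinj
        apply hMb
        rw [eq_bot_iff]
        intro m hm
        have h1 : (QuotientGroup.mk' M).subgroupMap N ⟨m, hMN hm⟩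
            = (QuotientGroup.mk' M).subgroupMap N 1 := by
          apply Subtype.ext
          show (QuotientGroup.mk' M) m = (QuotientGroup.mk' M) 1
          rw [map_one]
          exact (QuotientGroup.eq_one_iff m).2 hm
        have h2 := hinj h1
        exact Subgroup.mem_bot.2 (congrArg Subtype.val h2)
      have h1 := ih _ hlt (G ⧸ M) _ _ _ _ (S.map (QuotientGroup.mk' M) (QuotientGroup.mk'_surjective M)) rfl
        (QuotientGroup.mk' M y) (Subgroup.mem_map_of_mem _ hy)
        (QuotientGroup.mk' M x) (Subgroup.mem_map_of_mem _ hx)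
      have h2 : (QuotientGroup.mk' M) (y * x * y⁻¹ * x⁻¹) = 1 := by
        rw [map_mul, map_mul, map_mul, map_inv, map_inv, h1]
        group
      exact (QuotientGroup.eq_one_iff _).1 h2

end Grp

/-- Let p ≥ 3 be prime and G a finite group with a Sylow p-subgroup P and a normal p-complement N (N normal, of order prime to p, with NP = G). Suppose P is generated by a subset C and also by a subset D, and that ⟨x c x⁻¹, d⟩ is a p-group for all x ∈ N, c ∈ C, d ∈ D. Then P centralizes N, so that G = N × P. -/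
theorem result {G : Type*} [Group G] [Finite G] (p : ℕ) [Fact p.Prime] (hp3 : 3 ≤ p) (P : Sylow p G)
    (N : Subgroup G) [N.Normal] (hN : (Nat.card N).Coprime p) (hNP : N ⊔ (P : Subgroup G) = ⊤)
    (C D : Set G) (hC : Subgroup.closure C = (P : Subgroup G)) (hD : Subgroup.closure D = (P : Subgroup G))
    (h : ∀ x ∈ N, ∀ c ∈ C, ∀ d ∈ D, IsPGroup p ↥(Subgroup.closure ({x * c * x⁻¹, d} : Set G))) :
    ⁅(P : Subgroup G), N⁆ = ⊥ := by
  have S : Setting p (P : Subgroup G) N C D := ⟨P.isPGroup', inferInstance, hN, hNP, hC, hD, h⟩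
  have hm := main p hp3 (Nat.card N) G (P : Subgroup G) N C D S rfl
  rw [Subgroup.commutator_eq_bot_iff_le_centralizer]
  intro y hy
  rw [Subgroup.mem_centralizer_iff]
  intro x hx
  exact (hm y hy x hx).symm

end Cfsg.Agent.S2277
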