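import Cfsg.Statements.S2283
import Cfsg.Agent.Lib.helper45.SU3Cert

set_option autoImplicit false
open Cfsg Cfsg.Agent.Lib.helper45 Cfsg.Agent.Lib.helper47.UFus

namespace Cfsg.Agent.S2283

/-- Let F be a field with q² elements, q ≥ 3, and SU_3(q) the special unitary group of the standard Hermitian form. Then SU_3(q) is generated by two conjugate regular unipotent elements: there are u ∈ SU_3(q) with u − 1 nilpotent and (u − 1)² ≠ 0, and g ∈ SU_3(q), such that u and g u g⁻¹ generate SU_3(q). -/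
theorem result {F : Type*} [Field F] [Fintype F] (q : ℕ) (hq : 3 ≤ q) (hF : Fintype.card F = q ^ 2) :
    ∃ u g : ↥(Cfsg.SU 3 F q), (IsNilpotent (((u : Matrix.SpecialLinearGroup (Fin 3) F) : Matrix (Fin 3) (Fin 3) F) - 1) ∧ (((u : Matrix.SpecialLinearGroup (Fin 3) F) : Matrix (Fin 3) (Fin 3) F) - 1) ^ (3 - 1) ≠ 0) ∧
      Subgroup.closure ({u, g * u * g⁻¹} : Set ↥(Cfsg.SU 3 F q)) = ⊤ := by
  classical
  obtain ⟨σ, hσ, hFF⟩ := FF_of_card hF
  have hq0 : q ≠ 0 := by omega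
  have hex : ∃ u g : Matrix.SpecialLinearGroup (Fin 3) F, u ∈ UG 3 σ ∧ g ∈ UG 3 σ ∧
      IsNilpotent ((u : Matrix (Fin 3) (Fin 3) F) - 1) ∧
      ((u : Matrix (Fin 3) (Fin 3) F) - 1) ^ 2 ≠ 0 ∧
      Subgroup.closure ({u, g * u * g⁻¹} : Set (Matrix.SpecialLinearGroup (Fin 3) F)) =
        UG 3 σ := by
    by_cases h5 : q = 5
    · subst h5
      exact exists_two_gen_UG_five hF σ hσ hFF
    by_cases h8 : q = 8
    · subst h8
      exact exists_two_gen_UG_eight hF σ hσ hFF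
    exact exists_two_gen_UG_family hF hq h5 h8 σ hσ hFF
  obtain ⟨u, g, huU, hgU, hnil, hsq, hcl⟩ := hex
  obtain ⟨P, Q, hP, hQ⟩ := exists_P (n := 3) σ hFF
  have hQP := QP_one σ P Q hP hQ
  have hPQ := PQ_one σ P Q hP hQ
  obtain ⟨φ, hφ⟩ : ∃ φ, φ = bcHom σ P Q hσ hq0 hFF.inv hP hQ := ⟨_, rfl⟩
  have hsurj : Function.Surjective φ := by
    rw [hφ]; exact bcHom_surj σ P Q hσ hq0 hFF.inv hP hQ
  have hcoe : ∀ A : ↥(UG 3 σ), (φ A).1.1 = P * A.1.1 * Q := by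
    intro A; rw [hφ]; rfl
  have hsub : (φ ⟨u, huU⟩).1.1 - 1 = P * (u.1 - 1) * Q := by
    rw [hcoe, Matrix.mul_sub, Matrix.sub_mul, Matrix.mul_one, hPQ]
  have hpow : ∀ (N : Matrix (Fin 3) (Fin 3) F) (k : ℕ), (P * N * Q) ^ k = P * N ^ k * Q := by
    intro N k
    induction k with
    | zero => rw [pow_zero, pow_zero, Matrix.mul_one, hPQ]
    | succ k ih =>
      rw [pow_succ, ih, pow_succ]
      calc P * N ^ k * Q * (P * N * Q) = P * N ^ k * (Q * P) * N * Q := by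
            simp only [Matrix.mul_assoc]
        _ = P * (N ^ k * N) * Q := by
            rw [hQP, Matrix.mul_one]; simp only [Matrix.mul_assoc]
  refine ⟨φ ⟨u, huU⟩, φ ⟨g, hgU⟩, ⟨?_, ?_⟩, ?_⟩
  · obtain ⟨k, hk⟩ := hnil
    refine ⟨k, ?_⟩
    show ((φ ⟨u, huU⟩).1.1 - 1) ^ k = 0
    rw [hsub, hpow, hk, Matrix.mul_zero, Matrix.zero_mul]
  · show ((φ ⟨u, huU⟩).1.1 - 1) ^ 2 ≠ 0
    rw [hsub, hpow]
    intro h0
    apply hsq
    have e : (u.1 - 1) ^ 2 = Q * (P * (u.1 - 1) ^ 2 * Q) * P := by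
      calc (u.1 - 1) ^ 2 = (Q * P) * (u.1 - 1) ^ 2 * (Q * P) := by
            rw [hQP, Matrix.one_mul, Matrix.mul_one]
        _ = Q * (P * (u.1 - 1) ^ 2 * Q) * P := by simp only [Matrix.mul_assoc]
    rw [e, h0, Matrix.mul_zero, Matrix.zero_mul]
  · have h1 : Subgroup.closure
        ({⟨u, huU⟩, ⟨g, hgU⟩ * ⟨u, huU⟩ * ⟨g, hgU⟩⁻¹} : Set ↥(UG 3 σ)) = ⊤ := by
      rw [eq_top_iff]
      intro x _
      have hx : x.1 ∈ Subgroup.closure
          ({u, g * u * g⁻¹} : Set (Matrix.SpecialLinearGroup (Fin 3) F)) := by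
        rw [hcl]; exact x.2
      have hmap : Subgroup.closure
          ({u, g * u * g⁻¹} : Set (Matrix.SpecialLinearGroup (Fin 3) F)) =
          (Subgroup.closure
            ({⟨u, huU⟩, ⟨g, hgU⟩ * ⟨u, huU⟩ * ⟨g, hgU⟩⁻¹} : Set ↥(UG 3 σ))).map
            (UG 3 σ).subtype := by
        rw [MonoidHom.map_closure, Set.image_pair]
        rfl
      rw [hmap] at hx
      obtain ⟨y, hy, hyx⟩ := hx
      have hyx' : y = x := Subtype.ext hyx
      rwa [hyx'] at hy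
    have h2 : Subgroup.closure
        ({φ ⟨u, huU⟩, φ ⟨g, hgU⟩ * φ ⟨u, huU⟩ * (φ ⟨g, hgU⟩)⁻¹} : Set ↥(Cfsg.SU 3 F q)) =
        (Subgroup.closure
          ({⟨u, huU⟩, ⟨g, hgU⟩ * ⟨u, huU⟩ * ⟨g, hgU⟩⁻¹} : Set ↥(UG 3 σ))).map φ := by
      rw [MonoidHom.map_closure, Set.image_pair, map_mul, map_mul, map_inv]
    rw [h2, h1, ← MonoidHom.range_eq_map, MonoidHom.range_eq_top]
    exact hsurj

end Cfsg.Agent.S2283
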