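import Cfsg.Statements.S2282
import Cfsg.Agent.Lib.helper45.SURegH
import Cfsg.Agent.S2283

set_option autoImplicit false
open Cfsg Cfsg.Agent.Lib.helper45 Cfsg.Agent.Lib.helper47.UFus Cfsg.Agent.Lib.helper47.UGen Cfsg.Agent.Lib.helper45.SUReg

namespace Cfsg.Agent.S2282

/-- Let F be a field with q² elements, n ≥ 3 odd with (n, q) ≠ (3, 2), and SU_n(q) the special unitary group of the standard Hermitian form Σ u_i v_i^q. Then SU_n(q) is generated by three conjugate regular unipotent elements: there are u ∈ SU_n(q) with u − 1 nilpotent and (u − 1)^(n−1) ≠ 0, and g, h ∈ SU_n(q), such that u, g u g⁻¹ and h u h⁻¹ generate SU_n(q). -/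
theorem result {F : Type*} [Field F] [Fintype F] (q : ℕ) (hF : Fintype.card F = q ^ 2) (n : ℕ) (hn : 3 ≤ n) (hodd : Odd n) (h32 : ¬ (n = 3 ∧ q = 2)) :
    ∃ u g h : ↥(Cfsg.SU n F q), (IsNilpotent (((u : Matrix.SpecialLinearGroup (Fin n) F) : Matrix (Fin n) (Fin n) F) - 1) ∧ (((u : Matrix.SpecialLinearGroup (Fin n) F) : Matrix (Fin n) (Fin n) F) - 1) ^ (n - 1) ≠ 0) ∧
      Subgroup.closure ({u, g * u * g⁻¹, h * u * h⁻¹} : Set ↥(Cfsg.SU n F q)) = ⊤ := by
  classical
  obtain ⟨σ, hσ, hFF⟩ := FF_of_card hF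
  have hq2 : 2 ≤ q := by
    have h1 : 1 < Fintype.card F := Fintype.one_lt_card
    rw [hF] at h1
    by_contra h
    have h2 : q ≤ 1 := by omega
    interval_cases q <;> simp at h1
  have hq0 : q ≠ 0 := by omega
  by_cases h3 : n = 3
  · subst h3
    have hq3 : 3 ≤ q := by
      by_contra h
      exact h32 ⟨rfl, by omega⟩
    obtain ⟨u, g, hu, hcl⟩ := Cfsg.Agent.S2283.result q hq3 hF
    refine ⟨u, g, g, hu, ?_⟩
    rw [Set.pair_eq_singleton]
    exact hcl
  · obtain ⟨m, hm⟩ := hodd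
    have hm2 : 2 ≤ m := by omega
    have : NeZero n := ⟨by omega⟩
    obtain ⟨u, g, h, hnil, hreg, hcl⟩ := exists_three_UG hF hσ hFF m hm hm2
    obtain ⟨P, Q, hP, hQ⟩ := exists_P (n := n) σ hFF
    have hQP := QP_one σ P Q hP hQ
    have hPQ := PQ_one σ P Q hP hQ
    obtain ⟨φ, hφ⟩ : ∃ φ, φ = bcHom σ P Q hσ hq0 hFF.inv hP hQ := ⟨_, rfl⟩
    have hsurj : Function.Surjective φ := by
      rw [hφ]; exact bcHom_surj σ P Q hσ hq0 hFF.inv hP hQ
    have hcoe : ∀ A : ↥(UG n σ), (φ A).1.1 = P * A.1.1 * Q := by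
      intro A; rw [hφ]; rfl
    have hsub : (φ u).1.1 - 1 = P * (mt u - 1) * Q := by
      rw [hcoe, Matrix.mul_sub, Matrix.sub_mul, Matrix.mul_one, hPQ]
      rfl
    have hpow : ∀ (N : Matrix (Fin n) (Fin n) F) (k : ℕ), (P * N * Q) ^ k = P * N ^ k * Q := by
      intro N k
      induction k with
      | zero => rw [pow_zero, pow_zero, Matrix.mul_one, hPQ]
      | succ k ih =>
        rw [pow_succ, ih, pow_succ]
        calc P * N ^ k * Q * (P * N * Q) = P * N ^ k * (Q * P) * N * Q := by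
              simp only [Matrix.mul_assoc]
          _ = P * (N ^ k * N) * Q := by
              rw [hQP, Matrix.mul_one]; simp only [Matrix.mul_assoc]
    refine ⟨φ u, φ g, φ h, ⟨?_, ?_⟩, ?_⟩
    · obtain ⟨k, hk⟩ := hnil
      refine ⟨k, ?_⟩
      show ((φ u).1.1 - 1) ^ k = 0
      rw [hsub, hpow, hk, Matrix.mul_zero, Matrix.zero_mul]
    · show ((φ u).1.1 - 1) ^ (n - 1) ≠ 0
      rw [hsub, hpow]
      intro h0
      apply hreg
      have e : (mt u - 1) ^ (n - 1) = Q * (P * (mt u - 1) ^ (n - 1) * Q) * P := by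
        calc (mt u - 1) ^ (n - 1) = (Q * P) * (mt u - 1) ^ (n - 1) * (Q * P) := by
              rw [hQP, Matrix.one_mul, Matrix.mul_one]
          _ = Q * (P * (mt u - 1) ^ (n - 1) * Q) * P := by simp only [Matrix.mul_assoc]
      rw [e, h0, Matrix.mul_zero, Matrix.zero_mul]
    · have h2 : Subgroup.closure
          ({φ u, φ g * φ u * (φ g)⁻¹, φ h * φ u * (φ h)⁻¹} : Set ↥(Cfsg.SU n F q)) =
          (Subgroup.closure ({u, g * u * g⁻¹, h * u * h⁻¹} : Set ↥(UG n σ))).map φ := by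
        rw [MonoidHom.map_closure, Set.image_insert_eq, Set.image_pair, map_mul, map_mul, map_inv,
          map_mul, map_mul, map_inv]
      rw [h2, hcl, ← MonoidHom.range_eq_map, MonoidHom.range_eq_top]
      exact hsurj

end Cfsg.Agent.S2282
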