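import Cfsg.Statements.S2286
import Cfsg.Agent.Lib.helper44.PresGSL
import Cfsg.Agent.Lib.helper44.PresGPSL
import Cfsg.Agent.Lib.helper27.PresEV
import Cfsg.Agent.Lib.helper69.PresMAT2v
import Cfsg.Agent.Lib.helper66.PresOGcore
import Cfsg.Agent.Lib.helper66.PresO9core
import Cfsg.Agent.Lib.helper67.PresOPcore

set_option autoImplicit false
open Cfsg

namespace Cfsg.Agent.S2286

/-- For every finite field F, SL_2(F) and PSL_2(F) have presentations with 3 generators and at most 9 relations; when F has characteristic 2, PSL_2(F) has a presentation with 3 generators and at most 5 relations. -/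
theorem result {F : Type*} [Field F] [Fintype F] :
    (∃ rels : Finset (FreeGroup (Fin 3)), rels.card ≤ 9 ∧ Nonempty (PresentedGroup (↑rels : Set (FreeGroup (Fin 3))) ≃* Matrix.SpecialLinearGroup (Fin 2) F)) ∧ (∃ rels : Finset (FreeGroup (Fin 3)), rels.card ≤ 9 ∧ Nonempty (PresentedGroup (↑rels : Set (FreeGroup (Fin 3))) ≃* Matrix.ProjectiveSpecialLinearGroup (Fin 2) F)) ∧
    (CharP F 2 → ∃ rels : Finset (FreeGroup (Fin 3)), rels.card ≤ 5 ∧ Nonempty (PresentedGroup (↑rels : Set (FreeGroup (Fin 3))) ≃* Matrix.ProjectiveSpecialLinearGroup (Fin 2) F)) := by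
  obtain ⟨p, hp⟩ := CharP.exists F
  have hpf : Fact p.Prime := ⟨CharP.char_is_prime F p⟩
  let alg : Algebra (ZMod p) F := ZMod.algebra F p
  obtain ⟨e, _, he⟩ := FiniteField.card F p
  by_cases hp2 : p = 2
  · subst hp2
    obtain ⟨rels, hc, ⟨e1⟩⟩ := Cfsg.Agent.Lib.helper44.Pres.sl_even (F := F)
    obtain ⟨e2⟩ := Cfsg.Agent.Lib.helper44.Pres.psl_equiv_of_char_two (F := F)
    exact ⟨⟨rels, by omega, ⟨e1⟩⟩, ⟨rels, by omega, ⟨e1.trans e2⟩⟩,
      fun _ => ⟨rels, hc, ⟨e1.trans e2⟩⟩⟩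
  · have hodd : Odd (Fintype.card F) := by
      rw [he]
      exact Odd.pow (hpf.out.odd_of_ne_two hp2)
    have key : (∃ rels : Finset (FreeGroup (Fin 3)), rels.card ≤ 9 ∧ Nonempty (PresentedGroup (↑rels : Set (FreeGroup (Fin 3))) ≃* Matrix.SpecialLinearGroup (Fin 2) F)) ∧ (∃ rels : Finset (FreeGroup (Fin 3)), rels.card ≤ 9 ∧ Nonempty (PresentedGroup (↑rels : Set (FreeGroup (Fin 3))) ≃* Matrix.ProjectiveSpecialLinearGroup (Fin 2) F)) := by
      by_cases he1 : (e : ℕ) = 1
      · exact Cfsg.Agent.Lib.helper44.Pres.sl_psl_prime_field_core hp2 (by rw [he, he1, pow_one])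
          (fun ζ hζ i hμ extra hlen hSL hc =>
            Cfsg.Agent.Lib.helper44.Pres.sl_odd_generic hp2 ζ hζ i hμ extra hlen hSL hc)
          (fun ζ hζ i hμ extra hlen hPSL hc =>
            Cfsg.Agent.Lib.helper44.Pres.h44_psl_odd_generic hp2 ζ hζ i hμ extra hlen hPSL hc)
      · by_cases h9 : Fintype.card F = 9
        · have hp3 : p = 3 := by
            have hpp : p.Prime := hpf.out
            have h1 : p ∣ 3 ^ 2 := by
              have : p ∣ p ^ (e : ℕ) := dvd_pow_self p e.pos.ne'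
              rw [← he, h9] at this
              exact this
            exact (Nat.prime_dvd_prime_iff_eq hpp Nat.prime_three).mp (hpp.dvd_of_dvd_pow h1)
          subst hp3
          exact Cfsg.Agent.Lib.helper44.Pres.h66_o9_core h9
            (fun ζ hζ i hμ extra hlen hSL hc =>
              Cfsg.Agent.Lib.helper44.Pres.sl_odd_generic hp2 ζ hζ i hμ extra hlen hSL hc)
            (fun ζ hζ i hμ extra hlen hPSL hc =>
              Cfsg.Agent.Lib.helper44.Pres.h44_psl_odd_generic hp2 ζ hζ i hμ extra hlen hPSL hc)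
            (fun ζ hζ => Cfsg.Agent.Lib.helper44.Pres.mT_sq_eq hodd ζ hζ)
            Cfsg.Agent.Lib.helper44.Pres.mT_sq_mem_center
        · exact Cfsg.Agent.Lib.helper44.Pres.h66_og_core hp2 e he (by have := e.pos; omega) h9
            (fun ζ hζ i hμ extra hlen hSL hc =>
              Cfsg.Agent.Lib.helper44.Pres.sl_odd_generic hp2 ζ hζ i hμ extra hlen hSL hc)
            (fun ζ hζ i hμ extra hlen hPSL hc =>
              Cfsg.Agent.Lib.helper44.Pres.h44_psl_odd_generic hp2 ζ hζ i hμ extra hlen hPSL hc)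
            (fun ζ hζ => Cfsg.Agent.Lib.helper44.Pres.mT_sq_eq hodd ζ hζ)
            Cfsg.Agent.Lib.helper44.Pres.mT_sq_mem_center
    exact ⟨key.1, key.2, fun h2 => absurd (CharP.eq F hp h2) hp2⟩

end Cfsg.Agent.S2286
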