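import Cfsg.Statements.S2287
import Cfsg.Agent.Lib.helper44.SL3CG

set_option autoImplicit false
open Cfsg

namespace Cfsg.Agent.S2287

/-- For every finite field F other than the field with 9 elements, SL_3(F) has a presentation with 4 generators and at most 14 relations. -/
theorem result {F : Type*} [Field F] [Fintype F] (hq9 : Fintype.card F ≠ 9) : ∃ rels : Finset (FreeGroup (Fin 4)), rels.card ≤ 14 ∧ Nonempty (PresentedGroup (↑rels : Set (FreeGroup (Fin 4))) ≃* Matrix.SpecialLinearGroup (Fin 3) F) := by
  obtain ⟨p, hp⟩ := CharP.exists F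
  have hpf : Fact p.Prime := ⟨CharP.char_is_prime F p⟩
  let alg : Algebra (ZMod p) F := ZMod.algebra F p
  obtain ⟨e, _, he⟩ := FiniteField.card F p
  by_cases he1 : (e : ℕ) = 1
  · exact Cfsg.Agent.Lib.helper44.SL3.h44_sl3_case_prime (p := p) (by rw [he, he1, pow_one])
  · by_cases h4 : Fintype.card F = 4
    · have hp2 : p = 2 := by
        have hpp : p.Prime := hpf.out
        have h1 : p ∣ 2 ^ 2 := by
          have : p ∣ p ^ (e : ℕ) := dvd_pow_self p e.pos.ne'
          rw [← he, h4] at this
          exact this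
        exact (Nat.prime_dvd_prime_iff_eq hpp Nat.prime_two).mp (hpp.dvd_of_dvd_pow h1)
      subst hp2
      exact Cfsg.Agent.Lib.helper44.SL3.h44_sl3_case_four h4
    · refine Cfsg.Agent.Lib.helper44.SL3.h44_sl3_case_gen (p := p) ?_
      have hpp : p.Prime := hpf.out
      have he2 : 2 ≤ (e : ℕ) := by
        have := e.pos
        omega
      have h2 : 2 ≤ p := hpp.two_le
      have hle : p ^ 2 ≤ p ^ (e : ℕ) := Nat.pow_le_pow_right hpp.pos he2
      rw [he]
      rcases Nat.lt_or_ge p 3 with hlt | hge
      · have hp2 : p = 2 := by omega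
        subst hp2
        have he3 : 3 ≤ (e : ℕ) := by
          rcases Nat.lt_or_ge (e : ℕ) 3 with h | h
          · exfalso
            have : (e : ℕ) = 2 := by omega
            rw [he, this] at h4
            exact h4 (by norm_num)
          · exact h
        calc 5 ≤ 2 ^ 3 := by norm_num
          _ ≤ 2 ^ (e : ℕ) := Nat.pow_le_pow_right (by norm_num) he3
      · calc 5 ≤ 3 ^ 2 := by norm_num
          _ ≤ p ^ 2 := Nat.pow_le_pow_left hge 2
          _ ≤ p ^ (e : ℕ) := hle

end Cfsg.Agent.S2287
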