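import Cfsg.Statements.S2298
import Cfsg.Agent.Lib.helper43.GL2Deg

set_option autoImplicit false
open Cfsg

namespace Cfsg.Agent.S2298

/-- Over a finite field F with q elements, every irreducible complex character of GL₂ has degree 1, q − 1, q or q + 1; and when q ≥ 3 (so that these four numbers are distinct) there are exactly q − 1 irreducible characters of degree 1, exactly q − 1 of degree q, exactly (q − 1)(q − 2)/2 of degree q + 1 and exactly q(q − 1)/2 of degree q − 1. -/
theorem result {F : Type*} [Field F] [Fintype F] :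
    (∀ χ : Matrix.GeneralLinearGroup (Fin 2) F → ℂ, Cfsg.IsIrrCharacter (Matrix.GeneralLinearGroup (Fin 2) F) χ →
      χ 1 = 1 ∨ χ 1 = (Fintype.card F : ℂ) - 1 ∨ χ 1 = (Fintype.card F : ℂ) ∨ χ 1 = (Fintype.card F : ℂ) + 1) ∧
    (3 ≤ Fintype.card F →
      Nat.card {χ : Cfsg.IrrCharacter (Matrix.GeneralLinearGroup (Fin 2) F) // (χ : Matrix.GeneralLinearGroup (Fin 2) F → ℂ) 1 = 1} = Fintype.card F - 1 ∧
      Nat.card {χ : Cfsg.IrrCharacter (Matrix.GeneralLinearGroup (Fin 2) F) // (χ : Matrix.GeneralLinearGroup (Fin 2) F → ℂ) 1 = (Fintype.card F : ℂ)} = Fintype.card F - 1 ∧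
      Nat.card {χ : Cfsg.IrrCharacter (Matrix.GeneralLinearGroup (Fin 2) F) // (χ : Matrix.GeneralLinearGroup (Fin 2) F → ℂ) 1 = (Fintype.card F : ℂ) + 1} = (Fintype.card F - 1) * (Fintype.card F - 2) / 2 ∧
      Nat.card {χ : Cfsg.IrrCharacter (Matrix.GeneralLinearGroup (Fin 2) F) // (χ : Matrix.GeneralLinearGroup (Fin 2) F → ℂ) 1 = (Fintype.card F : ℂ) - 1} = Fintype.card F * (Fintype.card F - 1) / 2) := by
  classical
  have : Fintype (Matrix.GeneralLinearGroup (Fin 2) F) := Fintype.ofFinite _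
  have : Fintype (Cfsg.IrrCharacter (Matrix.GeneralLinearGroup (Fin 2) F)) := Fintype.ofFinite _
  obtain ⟨m, r, hdeg, -, hcls, c0, c1, c2, c3⟩ := Cfsg.Agent.Lib.helper43.gl2_classification F
  have hq : 2 ≤ Fintype.card F := Fintype.one_lt_card
  have hq1 : ((Fintype.card F - 1 : ℕ) : ℂ) = (Fintype.card F : ℂ) - 1 := by
    rw [Nat.cast_sub (by omega)]
    simp
  have hd : ∀ χ : Cfsg.IrrCharacter (Matrix.GeneralLinearGroup (Fin 2) F),
      (χ : Matrix.GeneralLinearGroup (Fin 2) F → ℂ) 1 =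
        ((m χ + (Fintype.card F - 1) * r χ : ℕ) : ℂ) := by
    intro χ
    rw [hdeg]
    push_cast [hq1]
    ring
  constructor
  · intro χ hχ
    have h := hdeg ⟨χ, hχ⟩
    simp only at h
    rcases hcls ⟨χ, hχ⟩ with ⟨hr, hm⟩ | ⟨hr, hm⟩
    · left
      rw [h, hr, hm]
      simp
    · have : m ⟨χ, hχ⟩ = 0 ∨ m ⟨χ, hχ⟩ = 1 ∨ m ⟨χ, hχ⟩ = 2 := by omega
      rcases this with h0 | h0 | h0
      · right; left
        rw [h, hr, h0]
        simp
      · right; right; left
        rw [h, hr, h0]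
        simp
      · right; right; right
        rw [h, hr, h0]
        push_cast
        ring
  · intro hq3
    have key : ∀ χ : Cfsg.IrrCharacter (Matrix.GeneralLinearGroup (Fin 2) F),
        ((χ : Matrix.GeneralLinearGroup (Fin 2) F → ℂ) 1 = 1 ↔ r χ = 0) ∧
        ((χ : Matrix.GeneralLinearGroup (Fin 2) F → ℂ) 1 = (Fintype.card F : ℂ) ↔
          (r χ = 1 ∧ m χ = 1)) ∧
        ((χ : Matrix.GeneralLinearGroup (Fin 2) F → ℂ) 1 = (Fintype.card F : ℂ) + 1 ↔
          (r χ = 1 ∧ m χ = 2)) ∧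
        ((χ : Matrix.GeneralLinearGroup (Fin 2) F → ℂ) 1 = (Fintype.card F : ℂ) - 1 ↔
          (r χ = 1 ∧ m χ = 0)) := by
      intro χ
      have e1 : ((χ : Matrix.GeneralLinearGroup (Fin 2) F → ℂ) 1 = 1 ↔
          m χ + (Fintype.card F - 1) * r χ = 1) := by
        rw [hd]
        exact_mod_cast Iff.rfl
      have e2 : ((χ : Matrix.GeneralLinearGroup (Fin 2) F → ℂ) 1 = (Fintype.card F : ℂ) ↔
          m χ + (Fintype.card F - 1) * r χ = Fintype.card F) := by
        rw [hd]
        exact_mod_cast Iff.rfl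
      have e3 : ((χ : Matrix.GeneralLinearGroup (Fin 2) F → ℂ) 1 = (Fintype.card F : ℂ) + 1 ↔
          m χ + (Fintype.card F - 1) * r χ = Fintype.card F + 1) := by
        rw [hd]
        exact_mod_cast Iff.rfl
      have e4 : ((χ : Matrix.GeneralLinearGroup (Fin 2) F → ℂ) 1 = (Fintype.card F : ℂ) - 1 ↔
          m χ + (Fintype.card F - 1) * r χ = Fintype.card F - 1) := by
        rw [hd, ← hq1]
        exact_mod_cast Iff.rfl
      rw [e1, e2, e3, e4]
      rcases hcls χ with ⟨hr, hm⟩ | ⟨hr, hm⟩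
      · have h0 : (Fintype.card F - 1) * r χ = 0 := by rw [hr]; simp
        omega
      · have h0 : (Fintype.card F - 1) * r χ = Fintype.card F - 1 := by rw [hr]; simp
        omega
    have hcard : ∀ (P : Cfsg.IrrCharacter (Matrix.GeneralLinearGroup (Fin 2) F) → Prop)
        (Q : Cfsg.IrrCharacter (Matrix.GeneralLinearGroup (Fin 2) F) → Prop) [DecidablePred Q],
        (∀ χ, P χ ↔ Q χ) →
        Nat.card {χ : Cfsg.IrrCharacter (Matrix.GeneralLinearGroup (Fin 2) F) // P χ} =
          (Finset.univ.filter Q).card := by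
      intro P Q _ hPQ
      rw [Nat.card_congr (Equiv.subtypeEquivRight hPQ), Nat.card_eq_fintype_card,
        Fintype.card_subtype]
    refine ⟨?_, ?_, ?_, ?_⟩
    · rw [hcard _ _ (fun χ => (key χ).1), c0]
    · rw [hcard _ _ (fun χ => (key χ).2.1), c1]
    · rw [hcard _ _ (fun χ => (key χ).2.2.1)]
      generalize (Fintype.card F - 1) * (Fintype.card F - 2) = X at c2 ⊢
      omega
    · rw [hcard _ _ (fun χ => (key χ).2.2.2)]
      generalize Fintype.card F * (Fintype.card F - 1) = X at c3 ⊢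
      omega

end Cfsg.Agent.S2298
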