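import Cfsg.Statements.S2299
import Cfsg.Agent.Lib.helper43.SL2OddClass

set_option autoImplicit false
open Cfsg

namespace Cfsg.Agent.S2299

/-- Over a finite field F with q elements, q odd, every irreducible complex character of SL₂ has degree 1, q, q + 1, q − 1, (q + 1)/2 or (q − 1)/2; and when q ≥ 5 (so that these six numbers are distinct) there are exactly one irreducible character of degree 1, one of degree q, (q − 3)/2 of degree q + 1, (q − 1)/2 of degree q − 1, two of degree (q + 1)/2 and two of degree (q − 1)/2. -/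
theorem result {F : Type*} [Field F] [Fintype F] (hodd : Odd (Fintype.card F)) :
    (∀ χ : Matrix.SpecialLinearGroup (Fin 2) F → ℂ, Cfsg.IsIrrCharacter (Matrix.SpecialLinearGroup (Fin 2) F) χ →
      χ 1 = 1 ∨ χ 1 = (Fintype.card F : ℂ) ∨ χ 1 = (Fintype.card F : ℂ) + 1 ∨ χ 1 = (Fintype.card F : ℂ) - 1 ∨
        χ 1 = (((Fintype.card F + 1) / 2 : ℕ) : ℂ) ∨ χ 1 = (((Fintype.card F - 1) / 2 : ℕ) : ℂ)) ∧
    (5 ≤ Fintype.card F →
      Nat.card {χ : Cfsg.IrrCharacter (Matrix.SpecialLinearGroup (Fin 2) F) // (χ : Matrix.SpecialLinearGroup (Fin 2) F → ℂ) 1 = 1} = 1 ∧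
      Nat.card {χ : Cfsg.IrrCharacter (Matrix.SpecialLinearGroup (Fin 2) F) // (χ : Matrix.SpecialLinearGroup (Fin 2) F → ℂ) 1 = (Fintype.card F : ℂ)} = 1 ∧
      Nat.card {χ : Cfsg.IrrCharacter (Matrix.SpecialLinearGroup (Fin 2) F) // (χ : Matrix.SpecialLinearGroup (Fin 2) F → ℂ) 1 = (Fintype.card F : ℂ) + 1} = (Fintype.card F - 3) / 2 ∧
      Nat.card {χ : Cfsg.IrrCharacter (Matrix.SpecialLinearGroup (Fin 2) F) // (χ : Matrix.SpecialLinearGroup (Fin 2) F → ℂ) 1 = (Fintype.card F : ℂ) - 1} = (Fintype.card F - 1) / 2 ∧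
      Nat.card {χ : Cfsg.IrrCharacter (Matrix.SpecialLinearGroup (Fin 2) F) // (χ : Matrix.SpecialLinearGroup (Fin 2) F → ℂ) 1 = (((Fintype.card F + 1) / 2 : ℕ) : ℂ)} = 2 ∧
      Nat.card {χ : Cfsg.IrrCharacter (Matrix.SpecialLinearGroup (Fin 2) F) // (χ : Matrix.SpecialLinearGroup (Fin 2) F → ℂ) 1 = (((Fintype.card F - 1) / 2 : ℕ) : ℂ)} = 2) := by
  classical
  have : Fintype (Matrix.SpecialLinearGroup (Fin 2) F) := Fintype.ofFinite _
  have : Fintype (Cfsg.IrrCharacter (Matrix.SpecialLinearGroup (Fin 2) F)) := Fintype.ofFinite _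
  have hF := Cfsg.Agent.Lib.helper43.ringChar_ne_two_of_odd hodd
  obtain ⟨k, hk⟩ := hodd
  obtain ⟨ψ, hψ1⟩ := AddChar.exists_apply_ne_zero.2 (one_ne_zero : (1 : F) ≠ 0)
  have hψ : ψ ≠ 1 := by
    rintro rfl
    exact hψ1 (by simp)
  obtain ⟨ε, hε⟩ := FiniteField.exists_nonsquare hF
  obtain ⟨m, rp, rm, hdeg, -, -, -, hcls, hL, hhalf, c1, c2, c0, cp1, cm1, cp0, cm0⟩ :=
    Cfsg.Agent.Lib.helper43.sl2_odd_classification k hk ψ hψ ε hε
  have hq1 : (Fintype.card F + 1) / 2 = k + 1 := by omega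
  have hq2 : (Fintype.card F - 1) / 2 = k := by omega
  rw [hq1, hq2]
  constructor
  · intro χ hχ
    have h := hdeg ⟨χ, hχ⟩
    simp only at h
    rw [h, hk]
    rcases hcls ⟨χ, hχ⟩ with ⟨h1, h2, h3⟩ | ⟨h1, h2⟩ | ⟨h1, h2⟩ | ⟨h1, h2, h3⟩
    · left
      rw [h1, h2, h3]
      simp
    · have hm := hhalf ⟨χ, hχ⟩ (by omega)
      have : m ⟨χ, hχ⟩ = 0 ∨ m ⟨χ, hχ⟩ = 1 := by omega
      rcases this with h0 | h0
      · right; right; right; right; right
        rw [h1, h2, h0]
        push_cast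
        ring
      · right; right; right; right; left
        rw [h1, h2, h0]
        push_cast
        ring
    · have hm := hhalf ⟨χ, hχ⟩ (by omega)
      have : m ⟨χ, hχ⟩ = 0 ∨ m ⟨χ, hχ⟩ = 1 := by omega
      rcases this with h0 | h0
      · right; right; right; right; right
        rw [h1, h2, h0]
        push_cast
        ring
      · right; right; right; right; left
        rw [h1, h2, h0]
        push_cast
        ring
    · have : m ⟨χ, hχ⟩ = 0 ∨ m ⟨χ, hχ⟩ = 1 ∨ m ⟨χ, hχ⟩ = 2 := by omega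
      rcases this with h0 | h0 | h0
      · right; right; right; left
        rw [h1, h2, h0]
        push_cast
        ring
      · right; left
        rw [h1, h2, h0]
        push_cast
        ring
      · right; right; left
        rw [h1, h2, h0]
        push_cast
        ring
  · intro hq5
    have hk2 : 2 ≤ k := by omega
    rw [hk]
    have key := fun χ : Cfsg.IrrCharacter (Matrix.SpecialLinearGroup (Fin 2) F) =>
      Cfsg.Agent.Lib.helper43.odd_deg_iff_type k hk2 (m χ) (rp χ) (rm χ) _ (hdeg χ) (hcls χ)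
        (hhalf χ)
    have hcard : ∀ (P : Cfsg.IrrCharacter (Matrix.SpecialLinearGroup (Fin 2) F) → Prop)
        (Q : Cfsg.IrrCharacter (Matrix.SpecialLinearGroup (Fin 2) F) → Prop) [DecidablePred Q],
        (∀ χ, P χ ↔ Q χ) →
        Nat.card {χ : Cfsg.IrrCharacter (Matrix.SpecialLinearGroup (Fin 2) F) // P χ} =
          (Finset.univ.filter Q).card := by
      intro P Q _ hPQ
      rw [Nat.card_congr (Equiv.subtypeEquivRight hPQ), Nat.card_eq_fintype_card,
        Fintype.card_subtype]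
    have hsplit : ∀ j : ℕ, (Finset.univ.filter (fun χ => rp χ + rm χ = 1 ∧ m χ = j)).card =
        (Finset.univ.filter (fun χ => rp χ = 1 ∧ rm χ = 0 ∧ m χ = j)).card +
        (Finset.univ.filter (fun χ => rp χ = 0 ∧ rm χ = 1 ∧ m χ = j)).card := by
      intro j
      rw [Finset.card_filter, Finset.card_filter, Finset.card_filter, ← Finset.sum_add_distrib]
      apply Finset.sum_congr rfl
      intro χ _
      rcases hcls χ with ⟨h1, h2, h3⟩ | ⟨h1, h2⟩ | ⟨h1, h2⟩ | ⟨h1, h2, h3⟩ <;> simp [h1, h2]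
    refine ⟨?_, ?_, ?_, ?_, ?_, ?_⟩
    · rw [hcard _ _ (fun χ => (key χ).1), hL]
    · rw [hcard _ _ (fun χ => (key χ).2.1), c1]
    · rw [hcard _ _ (fun χ => (key χ).2.2.1), c2]
      omega
    · rw [hcard _ _ (fun χ => (key χ).2.2.2.1), c0]
    · rw [hcard _ _ (fun χ => (key χ).2.2.2.2.1), hsplit 1, cp1, cm1]
    · rw [hcard _ _ (fun χ => (key χ).2.2.2.2.2), hsplit 0, cp0, cm0]

end Cfsg.Agent.S2299
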