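import Cfsg.Statements.S2300
import Cfsg.Agent.Lib.helper43.SL2Even

set_option autoImplicit false
open Cfsg

namespace Cfsg.Agent.S2300

/-- Over a finite field F with q elements, q even, every irreducible complex character of SL₂ has degree 1, q − 1, q or q + 1; and when q ≥ 4 (so that these four numbers are distinct) there are exactly one irreducible character of degree 1, one of degree q, (q − 2)/2 of degree q + 1 and q/2 of degree q − 1. -/
theorem result {F : Type*} [Field F] [Fintype F] [CharP F 2] :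
    (∀ χ : Matrix.SpecialLinearGroup (Fin 2) F → ℂ, Cfsg.IsIrrCharacter (Matrix.SpecialLinearGroup (Fin 2) F) χ →
      χ 1 = 1 ∨ χ 1 = (Fintype.card F : ℂ) - 1 ∨ χ 1 = (Fintype.card F : ℂ) ∨ χ 1 = (Fintype.card F : ℂ) + 1) ∧
    (4 ≤ Fintype.card F →
      Nat.card {χ : Cfsg.IrrCharacter (Matrix.SpecialLinearGroup (Fin 2) F) // (χ : Matrix.SpecialLinearGroup (Fin 2) F → ℂ) 1 = 1} = 1 ∧
      Nat.card {χ : Cfsg.IrrCharacter (Matrix.SpecialLinearGroup (Fin 2) F) // (χ : Matrix.SpecialLinearGroup (Fin 2) F → ℂ) 1 = (Fintype.card F : ℂ)} = 1 ∧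
      Nat.card {χ : Cfsg.IrrCharacter (Matrix.SpecialLinearGroup (Fin 2) F) // (χ : Matrix.SpecialLinearGroup (Fin 2) F → ℂ) 1 = (Fintype.card F : ℂ) + 1} = (Fintype.card F - 2) / 2 ∧
      Nat.card {χ : Cfsg.IrrCharacter (Matrix.SpecialLinearGroup (Fin 2) F) // (χ : Matrix.SpecialLinearGroup (Fin 2) F → ℂ) 1 = (Fintype.card F : ℂ) - 1} = Fintype.card F / 2) := by
  classical
  have : Fintype (Matrix.SpecialLinearGroup (Fin 2) F) := Fintype.ofFinite _
  have : Fintype (Cfsg.IrrCharacter (Matrix.SpecialLinearGroup (Fin 2) F)) := Fintype.ofFinite _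
  obtain ⟨m, r, hdeg, -, hcls, c0, c1, c2, c3⟩ :=
    Cfsg.Agent.Lib.helper43.sl2_even_classification F
  have hq : 2 ≤ Fintype.card F := Fintype.one_lt_card
  constructor
  · intro χ hχ
    have h := hdeg ⟨χ, hχ⟩
    simp only at h
    rcases hcls ⟨χ, hχ⟩ with ⟨hr, hm⟩ | ⟨hr, hm⟩
    · left
      rw [h, hr, hm]
      simp
    · have : m ⟨χ, hχ⟩ = 0 ∨ m ⟨χ, hχ⟩ = 1 ∨ m ⟨χ, hχ⟩ = 2 := by omega
      rcases this with h0 | h0 | h0
      · right; left
        rw [h, hr, h0]
        simp
      · right; right; left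
        rw [h, hr, h0]
        simp
      · right; right; right
        rw [h, hr, h0]
        push_cast
        ring
  · intro hq4
    have key := fun χ : Cfsg.IrrCharacter (Matrix.SpecialLinearGroup (Fin 2) F) =>
      Cfsg.Agent.Lib.helper43.deg_iff_type (Fintype.card F) (by omega) (m χ) (r χ) _ (hdeg χ)
        (hcls χ)
    have hcard : ∀ (P : Cfsg.IrrCharacter (Matrix.SpecialLinearGroup (Fin 2) F) → Prop)
        (Q : Cfsg.IrrCharacter (Matrix.SpecialLinearGroup (Fin 2) F) → Prop) [DecidablePred Q],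
        (∀ χ, P χ ↔ Q χ) →
        Nat.card {χ : Cfsg.IrrCharacter (Matrix.SpecialLinearGroup (Fin 2) F) // P χ} =
          (Finset.univ.filter Q).card := by
      intro P Q _ hPQ
      rw [Nat.card_congr (Equiv.subtypeEquivRight hPQ), Nat.card_eq_fintype_card,
        Fintype.card_subtype]
    refine ⟨?_, ?_, ?_, ?_⟩
    · rw [hcard _ _ (fun χ => (key χ).1), c0]
    · rw [hcard _ _ (fun χ => (key χ).2.1), c1]
    · rw [hcard _ _ (fun χ => (key χ).2.2.1)]
      omega
    · rw [hcard _ _ (fun χ => (key χ).2.2.2)]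
      omega

end Cfsg.Agent.S2300
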