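import Cfsg.Statements.S2301
import Cfsg.Agent.Lib.helper44.SL2

set_option autoImplicit false
open Cfsg

namespace Cfsg.Agent.S2301

section Helpers

open Matrix Cfsg.Agent.Lib.helper44



section

variable {F : Type*} [Field F]

/-- the upper unitriangular element of `SL₂` -/
def uu (β : F) : Matrix.SpecialLinearGroup (Fin 2) F := ⟨!![1, β; 0, 1], by simp [Matrix.det_fin_two_of]⟩

theorem uu_val (β : F) : ((uu β : Matrix.SpecialLinearGroup (Fin 2) F) : Matrix (Fin 2) (Fin 2) F) = !![1, β; 0, 1] := rfl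

theorem uu_ne_one {β : F} (hβ : β ≠ 0) : uu β ≠ 1 := by
  intro h
  have := congrArg (fun x : Matrix.SpecialLinearGroup (Fin 2) F => (x : Matrix (Fin 2) (Fin 2) F) 0 1) h
  simp [uu_val] at this
  exact hβ this

theorem uu_pow (β : F) (n : ℕ) : (uu β) ^ n = uu (n * β) := by
  induction n with
  | zero =>
    apply Subtype.ext
    simp [uu_val]
    exact Matrix.one_fin_two
  | succ n ih =>
    rw [pow_succ, ih]
    apply Subtype.ext
    simp only [Matrix.SpecialLinearGroup.coe_mul, uu_val]
    ext i j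
    fin_cases i <;> fin_cases j <;> simp [Matrix.mul_apply, Fin.sum_univ_two]
    ring

theorem orderOf_uu (p : ℕ) [Fact p.Prime] [CharP F p] {β : F} (hβ : β ≠ 0) : orderOf (uu β) = p := by
  apply orderOf_eq_prime
  · rw [uu_pow, CharP.cast_eq_zero, zero_mul]
    apply Subtype.ext
    simp [uu_val]
    exact Matrix.one_fin_two.symm
  · exact uu_ne_one hβ

/-- An element of order `p` in characteristic `p` has trace 2. -/
theorem trace_of_order_p (p : ℕ) [Fact p.Prime] [CharP F p]
    (g : Matrix.SpecialLinearGroup (Fin 2) F) (hg : orderOf g = p) :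
    g ≠ 1 ∧ (g : Matrix (Fin 2) (Fin 2) F).trace = 2 := by
  have hp : p.Prime := Fact.out
  have hgp : g ^ p = 1 := by rw [← hg]; exact pow_orderOf_eq_one g
  have hg1 : g ≠ 1 := by
    intro h
    rw [h, orderOf_one] at hg
    exact hp.one_lt.ne hg
  refine ⟨hg1, ?_⟩
  have hM : (g : Matrix (Fin 2) (Fin 2) F) ^ p = 1 := by
    have := congrArg (fun x : Matrix.SpecialLinearGroup (Fin 2) F => (x : Matrix (Fin 2) (Fin 2) F)) hgp
    simpa using this
  have hN : ((g : Matrix (Fin 2) (Fin 2) F) - 1) ^ p = 0 := by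
    rw [sub_pow_char_of_commute p (Commute.one_right _), hM, one_pow, sub_self]
  have hnil : IsNilpotent ((g : Matrix (Fin 2) (Fin 2) F) - 1) := ⟨p, hN⟩
  have htr : ((g : Matrix (Fin 2) (Fin 2) F) - 1).trace = 0 :=
    (Matrix.isNilpotent_trace_of_isNilpotent hnil).eq_zero
  rw [Matrix.trace_sub, Matrix.trace_one] at htr
  simp at htr
  linear_combination htr

/-- A non-identity element of trace 2 is conjugate to some `uu β`, `β ≠ 0`. -/
theorem exists_isConj_uu (g : Matrix.SpecialLinearGroup (Fin 2) F) (hg1 : g ≠ 1)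
    (htr : (g : Matrix (Fin 2) (Fin 2) F).trace = 2) : ∃ β : F, β ≠ 0 ∧ IsConj g (uu β) := by
  have hdet : (g : Matrix (Fin 2) (Fin 2) F).det = 1 := g.2
  rw [Matrix.det_fin_two] at hdet
  rw [Matrix.trace_fin_two] at htr
  set M : Matrix (Fin 2) (Fin 2) F := (g : Matrix (Fin 2) (Fin 2) F) with hM
  have h11 : M 1 1 = 2 - M 0 0 := by linear_combination htr
  have hsq : (M 0 0 - 1) ^ 2 + M 0 1 * M 1 0 = 0 := by
    rw [h11] at hdet
    linear_combination -hdet
  by_cases hc : M 1 0 = 0
  · have h00 : M 0 0 = 1 := by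
      rw [hc, mul_zero, add_zero] at hsq
      have := (pow_eq_zero_iff two_ne_zero).1 hsq
      linear_combination this
    have hb : M 0 1 ≠ 0 := by
      intro hb
      apply hg1
      apply Subtype.ext
      rw [← hM]
      ext i j
      fin_cases i <;> fin_cases j <;> simp [h00, hb, hc, h11]
      norm_num
    refine ⟨M 0 1, hb, ?_⟩
    have : g = uu (M 0 1) := by
      apply Subtype.ext
      rw [← hM, uu_val]
      ext i j
      fin_cases i <;> fin_cases j <;> simp [h00, hc, h11]
      norm_num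
    rw [← this]
  · refine ⟨-M 1 0, neg_ne_zero.2 hc, ?_⟩
    apply isConj_SL_of_intertwine !![-(M 0 0 - 1) / M 1 0, 1; -1, 0]
    · simp [Matrix.det_fin_two_of]
    · rw [← hM, uu_val]
      ext i j
      fin_cases i <;> fin_cases j
      · simp only [Fin.zero_eta, Fin.isValue, Matrix.mul_apply, Fin.sum_univ_two, Matrix.of_apply,
          Matrix.cons_val', Matrix.cons_val_zero, Matrix.cons_val_fin_one, Matrix.cons_val_one]
        field_simp
        linear_combination -hsq
      · simp only [Fin.zero_eta, Fin.isValue, Fin.mk_one, Matrix.mul_apply, Fin.sum_univ_two, Matrix.of_apply,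
          Matrix.cons_val', Matrix.cons_val_zero, Matrix.cons_val_fin_one, Matrix.cons_val_one]
        field_simp
        ring
      · simp only [Fin.zero_eta, Fin.isValue, Fin.mk_one, Matrix.mul_apply, Fin.sum_univ_two, Matrix.of_apply,
          Matrix.cons_val', Matrix.cons_val_zero, Matrix.cons_val_fin_one, Matrix.cons_val_one]
        rw [h11]
        field_simp
        ring
      · simp only [Fin.zero_eta, Fin.isValue, Fin.mk_one, Matrix.mul_apply, Fin.sum_univ_two, Matrix.of_apply,
          Matrix.cons_val', Matrix.cons_val_zero, Matrix.cons_val_fin_one, Matrix.cons_val_one]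
        ring

/-- `uu β` and `uu β'` are conjugate iff `β β'` is a square. -/
theorem isConj_uu_iff {β β' : F} (hβ : β ≠ 0) (hβ' : β' ≠ 0) :
    IsConj (uu β) (uu β') ↔ IsSquare (β * β') := by
  constructor
  · intro hc
    obtain ⟨P, hP⟩ := isConj_iff.1 hc
    have hP2 : P * uu β = uu β' * P := by rw [← hP]; group
    have hM := congrArg (fun x : Matrix.SpecialLinearGroup (Fin 2) F => (x : Matrix (Fin 2) (Fin 2) F)) hP2
    simp only [Matrix.SpecialLinearGroup.coe_mul, uu_val] at hM
    have e00 := congrFun (congrFun hM 0) 0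
    have e01 := congrFun (congrFun hM 0) 1
    simp [Matrix.mul_apply, Fin.sum_univ_two] at e00 e01
    have hz : (P : Matrix (Fin 2) (Fin 2) F) 1 0 = 0 := by
      rcases e00 with h | h
      · exact absurd h hβ'
      · exact h
    have hdet : (P : Matrix (Fin 2) (Fin 2) F).det = 1 := P.2
    rw [Matrix.det_fin_two, hz, mul_zero, sub_zero] at hdet
    refine ⟨β * (P : Matrix (Fin 2) (Fin 2) F) 0 0, ?_⟩
    linear_combination (-β * (P : Matrix (Fin 2) (Fin 2) F) 0 0) * e01 - β * β' * hdet
  · rintro ⟨r, hr⟩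
    have hr0 : r ≠ 0 := by
      rintro rfl
      simp at hr
      rcases hr with h | h
      · exact hβ h
      · exact hβ' h
    apply IsConj.symm
    apply isConj_SL_of_intertwine !![r / β, 0; 0, β / r]
    · simp [Matrix.det_fin_two_of]
      field_simp
    · rw [uu_val, uu_val]
      ext i j
      fin_cases i <;> fin_cases j <;> simp [Matrix.mul_apply, Fin.sum_univ_two]
      field_simp
      linear_combination hr

end




section

variable {F : Type*} [Field F]

/-- the trace-2 elements of `SL₂` -/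
def unip : Set (Matrix.SpecialLinearGroup (Fin 2) F) :=
  {h | (h : Matrix (Fin 2) (Fin 2) F).trace = 2}

/-- matrix of the parametrisation of trace-2 elements -/
noncomputable def unipMat (b z : F) : Matrix (Fin 2) (Fin 2) F := by
  classical exact if b = 0 then !![1, 0; z, 1] else !![1 + z, b; -(z ^ 2) / b, 1 - z]

theorem unipMat_det (b z : F) : (unipMat b z).det = 1 := by
  classical
  unfold unipMat
  split_ifs with hb
  · simp [Matrix.det_fin_two_of]
  · simp only [Matrix.det_fin_two_of]
    field_simp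
    ring

theorem unipMat_trace (b z : F) : (unipMat b z).trace = 2 := by
  classical
  unfold unipMat
  split_ifs with hb
  · simp [Matrix.trace_fin_two_of]; norm_num
  · simp [Matrix.trace_fin_two_of]; norm_num

noncomputable def unipEquiv : F × F ≃ (unip : Set (Matrix.SpecialLinearGroup (Fin 2) F)) := by
  classical exact
  { toFun := fun bz => ⟨⟨unipMat bz.1 bz.2, unipMat_det bz.1 bz.2⟩, unipMat_trace bz.1 bz.2⟩
    invFun := fun h => ((h.1 : Matrix (Fin 2) (Fin 2) F) 0 1,
      if (h.1 : Matrix (Fin 2) (Fin 2) F) 0 1 = 0 then (h.1 : Matrix (Fin 2) (Fin 2) F) 1 0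
      else (h.1 : Matrix (Fin 2) (Fin 2) F) 0 0 - 1)
    left_inv := by
      rintro ⟨b, z⟩
      by_cases hb : b = 0
      · simp [unipMat, hb]
      · simp [unipMat, hb]
    right_inv := by
      rintro ⟨h, ht⟩
      apply Subtype.ext
      apply Subtype.ext
      have hdet : (h : Matrix (Fin 2) (Fin 2) F).det = 1 := h.2
      have ht' : (h : Matrix (Fin 2) (Fin 2) F).trace = 2 := ht
      rw [Matrix.det_fin_two] at hdet
      rw [Matrix.trace_fin_two] at ht'
      set M : Matrix (Fin 2) (Fin 2) F := (h : Matrix (Fin 2) (Fin 2) F) with hM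
      have h11 : M 1 1 = 2 - M 0 0 := by linear_combination ht'
      have hsq : (M 0 0 - 1) ^ 2 + M 0 1 * M 1 0 = 0 := by
        rw [h11] at hdet
        linear_combination -hdet
      show unipMat (M 0 1) (if M 0 1 = 0 then M 1 0 else M 0 0 - 1) = M
      by_cases hb : M 0 1 = 0
      · have h00 : M 0 0 = 1 := by
          rw [hb, zero_mul, add_zero] at hsq
          have := (pow_eq_zero_iff two_ne_zero).1 hsq
          linear_combination this
        simp only [unipMat, hb, if_true]
        ext i j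
        fin_cases i <;> fin_cases j <;> simp [h00, hb, h11]
        norm_num
      · simp only [unipMat, hb, if_false]
        ext i j
        fin_cases i <;> fin_cases j
        · simp
        · simp
        · simp only [Fin.mk_one, Fin.isValue, Fin.zero_eta, Matrix.of_apply, Matrix.cons_val',
            Matrix.cons_val_zero, Matrix.cons_val_fin_one, Matrix.cons_val_one]
          field_simp
          linear_combination -hsq
        · simp [h11]
          ring }

theorem card_unip [Fintype F] :
    (unip : Set (Matrix.SpecialLinearGroup (Fin 2) F)).ncard = Fintype.card F ^ 2 := by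
  rw [← Nat.card_coe_set_eq, ← Nat.card_congr unipEquiv, Nat.card_prod, Nat.card_eq_fintype_card, pow_two]

end




section

variable {F : Type*} [Field F]


/-- conjugation by `diag(e, 1)` on matrices -/
def tauMat (e : F) (A : Matrix (Fin 2) (Fin 2) F) : Matrix (Fin 2) (Fin 2) F :=
  !![A 0 0, e * A 0 1; e⁻¹ * A 1 0, A 1 1]

theorem tauMat_mul {e : F} (he : e ≠ 0) (A B : Matrix (Fin 2) (Fin 2) F) :
    tauMat e (A * B) = tauMat e A * tauMat e B := by
  ext i j
  fin_cases i <;> fin_cases j <;> simp [tauMat, Matrix.mul_apply, Fin.sum_univ_two] <;> field_simp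

theorem tauMat_det {e : F} (he : e ≠ 0) (A : Matrix (Fin 2) (Fin 2) F) : (tauMat e A).det = A.det := by
  rw [tauMat, Matrix.det_fin_two_of, Matrix.det_fin_two]
  field_simp

/-- conjugation by `diag(e, 1)` on `SL₂` -/
def tau (e : F) (he : e ≠ 0) (h : Matrix.SpecialLinearGroup (Fin 2) F) : Matrix.SpecialLinearGroup (Fin 2) F :=
  ⟨tauMat e (h : Matrix (Fin 2) (Fin 2) F), by rw [tauMat_det he]; exact h.2⟩

theorem tau_val (e : F) (he : e ≠ 0) (h : Matrix.SpecialLinearGroup (Fin 2) F) :
    ((tau e he h : Matrix.SpecialLinearGroup (Fin 2) F) : Matrix (Fin 2) (Fin 2) F) = tauMat e (h : Matrix (Fin 2) (Fin 2) F) := rfl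

theorem tau_tau (e : F) (he : e ≠ 0) (h : Matrix.SpecialLinearGroup (Fin 2) F) :
    tau e⁻¹ (inv_ne_zero he) (tau e he h) = h := by
  apply Subtype.ext
  rw [tau_val, tau_val]
  ext i j
  fin_cases i <;> fin_cases j <;> simp [tauMat, he]

theorem tau_uu (e : F) (he : e ≠ 0) (β : F) : tau e he (uu β) = uu (e * β) := by
  apply Subtype.ext
  rw [tau_val, uu_val, uu_val]
  ext i j
  fin_cases i <;> fin_cases j <;> simp [tauMat]

theorem tau_isConj (e : F) (he : e ≠ 0) {g h : Matrix.SpecialLinearGroup (Fin 2) F} (hc : IsConj g h) :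
    IsConj (tau e he g) (tau e he h) := by
  obtain ⟨P, hP⟩ := isConj_iff.1 hc
  have hP2 : P * g = h * P := by rw [← hP]; group
  have hM := congrArg (fun x : Matrix.SpecialLinearGroup (Fin 2) F => (x : Matrix (Fin 2) (Fin 2) F)) hP2
  simp only [Matrix.SpecialLinearGroup.coe_mul] at hM
  apply IsConj.symm
  apply isConj_SL_of_intertwine (tauMat e (P : Matrix (Fin 2) (Fin 2) F))
  · rw [tauMat_det he]; exact P.2
  · rw [tau_val, tau_val, ← tauMat_mul he, ← tauMat_mul he, hM]

/-- the two classes have the same size -/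
theorem card_carrier_tau (e : F) (he : e ≠ 0) (β : F) :
    Nat.card (ConjClasses.mk (uu β)).carrier = Nat.card (ConjClasses.mk (uu (e * β))).carrier := by
  have key : ∀ (e : F) (he : e ≠ 0) (β : F) (h : Matrix.SpecialLinearGroup (Fin 2) F),
      h ∈ (ConjClasses.mk (uu β)).carrier → tau e he h ∈ (ConjClasses.mk (uu (e * β))).carrier := by
    intro e he β h hh
    rw [ConjClasses.mem_carrier_iff_mk_eq, ConjClasses.mk_eq_mk_iff_isConj] at hh ⊢
    rw [← tau_uu e he β]
    exact tau_isConj e he hh
  refine Nat.card_congr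
    { toFun := fun h => ⟨tau e he h.1, key e he β h.1 h.2⟩
      invFun := fun h => ⟨tau e⁻¹ (inv_ne_zero he) h.1, by
        have := key e⁻¹ (inv_ne_zero he) (e * β) h.1 h.2
        rwa [← mul_assoc, inv_mul_cancel₀ he, one_mul] at this⟩
      left_inv := fun h => Subtype.ext (tau_tau e he h.1)
      right_inv := fun h => Subtype.ext (by
        have := tau_tau e⁻¹ (inv_ne_zero he) h.1
        simp only [inv_inv] at this
        exact this) }

end


section

variable {F : Type*} [Field F] [Fintype F]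

theorem exists_nonsquare_and (p : ℕ) [Fact p.Prime] [CharP F p] (hp : p ≠ 2) :
    ∃ ε : F, ε ≠ 0 ∧ ¬ IsSquare ε ∧ ∀ β : F, β ≠ 0 → ¬ IsSquare β → IsSquare (β * ε) := by
  classical
  have hF : ringChar F ≠ 2 := by rw [ringChar.eq F p]; exact hp
  obtain ⟨ε, hε⟩ := FiniteField.exists_nonsquare hF
  have hε0 : ε ≠ 0 := by
    rintro rfl
    exact hε ⟨0, by simp⟩
  refine ⟨ε, hε0, hε, fun β hβ hβs => ?_⟩
  rw [← quadraticChar_one_iff_isSquare (mul_ne_zero hβ hε0), map_mul,
    quadraticChar_neg_one_iff_not_isSquare.2 hβs, quadraticChar_neg_one_iff_not_isSquare.2 hε]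
  norm_num

theorem main_aux (p : ℕ) [Fact p.Prime] [CharP F p] (hp : p ≠ 2) :
    ∃ ε : F, ε ≠ 0 ∧ ConjClasses.mk (uu (1 : F)) ≠ ConjClasses.mk (uu ε) ∧
      (∀ g : Matrix.SpecialLinearGroup (Fin 2) F, orderOf g = p →
        ConjClasses.mk g = ConjClasses.mk (uu 1) ∨ ConjClasses.mk g = ConjClasses.mk (uu ε)) ∧
      Nat.card (ConjClasses.mk (uu (1 : F))).carrier = (Fintype.card F ^ 2 - 1) / 2 ∧
      Nat.card (ConjClasses.mk (uu ε)).carrier = (Fintype.card F ^ 2 - 1) / 2 := by
  classical
  obtain ⟨ε, hε0, hεns, hεmul⟩ := exists_nonsquare_and (F := F) p hp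
  have h2 : (2 : F) ≠ 0 := by
    intro h
    have h' : ((2 : ℕ) : F) = 0 := by exact_mod_cast h
    rw [CharP.cast_eq_zero_iff F p] at h'
    exact hp ((Nat.prime_dvd_prime_iff_eq Fact.out Nat.prime_two).1 h')
  have hclass : ∀ g : Matrix.SpecialLinearGroup (Fin 2) F, g ≠ 1 →
      (g : Matrix (Fin 2) (Fin 2) F).trace = 2 → IsConj g (uu 1) ∨ IsConj g (uu ε) := by
    intro g hg1 htr
    obtain ⟨β, hβ, hc⟩ := exists_isConj_uu g hg1 htr
    by_cases hs : IsSquare β
    · left
      exact hc.trans ((isConj_uu_iff hβ one_ne_zero).2 (by rwa [mul_one]))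
    · right
      exact hc.trans ((isConj_uu_iff hβ hε0).2 (hεmul β hβ hs))
  have hne : ConjClasses.mk (uu (1 : F)) ≠ ConjClasses.mk (uu ε) := by
    rw [Ne, ConjClasses.mk_eq_mk_iff_isConj, isConj_uu_iff one_ne_zero hε0, one_mul]
    exact hεns
  have huu : ∀ β : F, β ≠ 0 → ∀ h : Matrix.SpecialLinearGroup (Fin 2) F, IsConj h (uu β) →
      h ∈ (unip : Set (Matrix.SpecialLinearGroup (Fin 2) F)) \ {1} := by
    intro β hβ h hc
    refine ⟨?_, ?_⟩
    · show (h : Matrix (Fin 2) (Fin 2) F).trace = 2
      rw [trace_eq_of_isConj_SL hc, uu_val, Matrix.trace_fin_two_of]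
      norm_num
    · rintro rfl
      obtain ⟨c, hc'⟩ := isConj_iff.1 hc
      apply uu_ne_one hβ
      rw [← hc']
      simp
  have hU : (ConjClasses.mk (uu (1 : F))).carrier ∪ (ConjClasses.mk (uu ε)).carrier =
      (unip : Set (Matrix.SpecialLinearGroup (Fin 2) F)) \ {1} := by
    ext h
    constructor
    · rintro (hh | hh)
      · rw [ConjClasses.mem_carrier_iff_mk_eq, ConjClasses.mk_eq_mk_iff_isConj] at hh
        exact huu 1 one_ne_zero h hh
      · rw [ConjClasses.mem_carrier_iff_mk_eq, ConjClasses.mk_eq_mk_iff_isConj] at hh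
        exact huu ε hε0 h hh
    · rintro ⟨htr, h1⟩
      rcases hclass h h1 htr with hh | hh
      · left
        rw [ConjClasses.mem_carrier_iff_mk_eq, ConjClasses.mk_eq_mk_iff_isConj]
        exact hh
      · right
        rw [ConjClasses.mem_carrier_iff_mk_eq, ConjClasses.mk_eq_mk_iff_isConj]
        exact hh
  have hdisj : Disjoint (ConjClasses.mk (uu (1 : F))).carrier (ConjClasses.mk (uu ε)).carrier := by
    rw [Set.disjoint_left]
    intro h h1 h2
    rw [ConjClasses.mem_carrier_iff_mk_eq] at h1 h2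
    exact hne (h1.symm.trans h2)
  have hmem1 : (1 : Matrix.SpecialLinearGroup (Fin 2) F) ∈ (unip : Set (Matrix.SpecialLinearGroup (Fin 2) F)) := by
    show ((1 : Matrix.SpecialLinearGroup (Fin 2) F) : Matrix (Fin 2) (Fin 2) F).trace = 2
    simp
  have hcard : ((ConjClasses.mk (uu (1 : F))).carrier ∪ (ConjClasses.mk (uu ε)).carrier).ncard =
      Fintype.card F ^ 2 - 1 := by
    rw [hU, Set.ncard_sdiff_singleton_of_mem hmem1, card_unip]
  rw [Set.ncard_union_eq hdisj (Set.toFinite _) (Set.toFinite _)] at hcard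
  have heq := card_carrier_tau ε hε0 (1 : F)
  rw [mul_one] at heq
  rw [Nat.card_coe_set_eq, Nat.card_coe_set_eq] at heq
  refine ⟨ε, hε0, hne, ?_, ?_, ?_⟩
  · intro g hg
    obtain ⟨hg1, htr⟩ := trace_of_order_p p g hg
    rcases hclass g hg1 htr with h | h
    · left; exact ConjClasses.mk_eq_mk_iff_isConj.2 h
    · right; exact ConjClasses.mk_eq_mk_iff_isConj.2 h
  · rw [Nat.card_coe_set_eq]
    omega
  · rw [Nat.card_coe_set_eq]
    omega

end

end Helpers


/-- Over a finite field with q elements of odd characteristic p, the elements of order p of SL₂ (the non-identity unipotent elements) fall into exactly two conjugacy classes, each of size (q² − 1)/2; two upper unitriangular matrices with non-zero off-diagonal entries b and b′ are conjugate exactly when bb′ is a square. -/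
theorem result {F : Type*} [Field F] [Fintype F] (p : ℕ) [Fact p.Prime] [CharP F p] (hp : p ≠ 2) :
    Nat.card {C : ConjClasses (Matrix.SpecialLinearGroup (Fin 2) F) // ∃ g : Matrix.SpecialLinearGroup (Fin 2) F, orderOf g = p ∧ ConjClasses.mk g = C} = 2 ∧
    (∀ g : Matrix.SpecialLinearGroup (Fin 2) F, orderOf g = p → Nat.card (ConjClasses.mk g).carrier = (Fintype.card F ^ 2 - 1) / 2) ∧
    ∀ g h : Matrix.SpecialLinearGroup (Fin 2) F, (g : Matrix (Fin 2) (Fin 2) F) 0 0 = 1 → (g : Matrix (Fin 2) (Fin 2) F) 1 1 = 1 → (g : Matrix (Fin 2) (Fin 2) F) 1 0 = 0 → (g : Matrix (Fin 2) (Fin 2) F) 0 1 ≠ 0 →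
      (h : Matrix (Fin 2) (Fin 2) F) 0 0 = 1 → (h : Matrix (Fin 2) (Fin 2) F) 1 1 = 1 → (h : Matrix (Fin 2) (Fin 2) F) 1 0 = 0 → (h : Matrix (Fin 2) (Fin 2) F) 0 1 ≠ 0 →
      (IsConj g h ↔ IsSquare ((g : Matrix (Fin 2) (Fin 2) F) 0 1 * (h : Matrix (Fin 2) (Fin 2) F) 0 1)) := by
  classical
  obtain ⟨ε, hε0, hne, hcl, hc1, hc2⟩ := main_aux (F := F) p hp
  refine ⟨?_, ?_, ?_⟩
  · have hset : {C : ConjClasses (Matrix.SpecialLinearGroup (Fin 2) F) |
        ∃ g : Matrix.SpecialLinearGroup (Fin 2) F, orderOf g = p ∧ ConjClasses.mk g = C} =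
        {ConjClasses.mk (uu (1 : F)), ConjClasses.mk (uu ε)} := by
      ext C
      constructor
      · rintro ⟨g, hg, rfl⟩
        rcases hcl g hg with h | h
        · left; exact h
        · right; exact h
      · rintro (rfl | rfl)
        · exact ⟨uu 1, orderOf_uu p one_ne_zero, rfl⟩
        · exact ⟨uu ε, orderOf_uu p hε0, rfl⟩
    have := Set.ncard_pair hne
    rw [← hset, ← Nat.card_coe_set_eq] at this
    exact this
  · intro g hg
    rcases hcl g hg with h | h
    · rw [h]; exact hc1
    · rw [h]; exact hc2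
  · intro g h g00 g11 g10 g01 h00 h11 h10 h01
    have hgu : g = uu ((g : Matrix (Fin 2) (Fin 2) F) 0 1) := by
      apply Subtype.ext
      rw [uu_val]
      ext i j
      fin_cases i <;> fin_cases j <;> simp [g00, g11, g10]
    have hhu : h = uu ((h : Matrix (Fin 2) (Fin 2) F) 0 1) := by
      apply Subtype.ext
      rw [uu_val]
      ext i j
      fin_cases i <;> fin_cases j <;> simp [h00, h11, h10]
    rw [hgu, hhu, isConj_uu_iff g01 h01, uu_val, uu_val]
    simp

end Cfsg.Agent.S2301
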