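import Cfsg.Statements.S2302
import Cfsg.Agent.Lib.helper44.SL2

set_option autoImplicit false
open Cfsg

namespace Cfsg.Agent.S2302

section Helpers

open Matrix Cfsg.Agent.Lib.helper44



section

variable {F : Type*} [Field F] [Fintype F] [CharP F 2]

/-- square root in a finite field of characteristic 2 -/
noncomputable def sqrt2 (a : F) : F :=
  Classical.choose (FiniteField.isSquare_of_char_two (ringChar.eq F 2) a)

theorem sqrt2_mul_self (a : F) : sqrt2 a * sqrt2 a = a :=
  (Classical.choose_spec (FiniteField.isSquare_of_char_two (ringChar.eq F 2) a)).symm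

theorem eq_sqrt2 (a r : F) (h : r * r = a) : r = sqrt2 a := by
  have h1 : (r + sqrt2 a) ^ 2 = 0 := by
    rw [CharTwo.add_sq, pow_two, pow_two, h, sqrt2_mul_self, CharTwo.add_self_eq_zero]
  have h2 : r + sqrt2 a = 0 := by simpa using h1
  have h3 : r = - sqrt2 a := eq_neg_of_add_eq_zero_left h2
  rw [h3, CharTwo.neg_eq]

/-- the trace-zero elements of `SL₂` in characteristic 2 are parametrised by the off-diagonal entries -/
noncomputable def traceZeroEquiv :
    F × F ≃ {h : Matrix.SpecialLinearGroup (Fin 2) F // (h : Matrix (Fin 2) (Fin 2) F).trace = 0} where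
  toFun bc := ⟨⟨!![1 + sqrt2 (bc.1 * bc.2), bc.1; bc.2, 1 + sqrt2 (bc.1 * bc.2)], by
      rw [Matrix.det_fin_two_of]
      have h2 : (2 : F) = 0 := CharTwo.two_eq_zero
      have hs := sqrt2_mul_self (bc.1 * bc.2)
      linear_combination hs + (1 + sqrt2 (bc.1 * bc.2)) * h2 - h2⟩, by
      simp only [Matrix.trace_fin_two_of]
      exact CharTwo.add_self_eq_zero _⟩
  invFun h := ((h.1 : Matrix (Fin 2) (Fin 2) F) 0 1, (h.1 : Matrix (Fin 2) (Fin 2) F) 1 0)
  left_inv bc := by simp
  right_inv h := by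
    obtain ⟨h, ht⟩ := h
    apply Subtype.ext
    apply Subtype.ext
    have hdet : (h : Matrix (Fin 2) (Fin 2) F).det = 1 := h.2
    rw [Matrix.det_fin_two] at hdet
    rw [Matrix.trace_fin_two] at ht
    have h11 : (h : Matrix (Fin 2) (Fin 2) F) 1 1 = (h : Matrix (Fin 2) (Fin 2) F) 0 0 := by
      have : (h : Matrix (Fin 2) (Fin 2) F) 1 1 = -(h : Matrix (Fin 2) (Fin 2) F) 0 0 := by
        linear_combination ht
      rw [this, CharTwo.neg_eq]
    have h2 : (2 : F) = 0 := CharTwo.two_eq_zero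
    have hr : (h : Matrix (Fin 2) (Fin 2) F) 0 0 + 1 =
        sqrt2 ((h : Matrix (Fin 2) (Fin 2) F) 0 1 * (h : Matrix (Fin 2) (Fin 2) F) 1 0) := by
      apply eq_sqrt2
      rw [h11] at hdet
      linear_combination hdet + ((h : Matrix (Fin 2) (Fin 2) F) 0 0 + 1) * h2
    have h00 : (h : Matrix (Fin 2) (Fin 2) F) 0 0 =
        1 + sqrt2 ((h : Matrix (Fin 2) (Fin 2) F) 0 1 * (h : Matrix (Fin 2) (Fin 2) F) 1 0) := by
      rw [← hr]
      linear_combination -h2
    ext i j
    fin_cases i <;> fin_cases j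
    · simpa using h00.symm
    · simp
    · simp
    · simp only [Fin.mk_one, Fin.isValue, Matrix.of_apply, Matrix.cons_val', Matrix.cons_val_one, Matrix.cons_val_fin_one]
      rw [h11]
      exact h00.symm

theorem card_traceZero :
    Nat.card {h : Matrix.SpecialLinearGroup (Fin 2) F // (h : Matrix (Fin 2) (Fin 2) F).trace = 0} =
      Fintype.card F ^ 2 := by
  rw [← Nat.card_congr traceZeroEquiv, Nat.card_prod, Nat.card_eq_fintype_card, pow_two]

end




section

variable {F : Type*} [Field F] [Fintype F] [CharP F 2]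

omit [Fintype F] in
theorem scalar_eq_one (h : Matrix.SpecialLinearGroup (Fin 2) F)
    (hs : IsScalar2 (h : Matrix (Fin 2) (Fin 2) F)) : h = 1 := by
  have h2 : (2 : F) = 0 := CharTwo.two_eq_zero
  have h1 := sq_eq_one_of_isScalar2_SL hs
  have h0 : ((h : Matrix (Fin 2) (Fin 2) F) 0 0 - 1) ^ 2 = 0 := by
    linear_combination h1 - (h : Matrix (Fin 2) (Fin 2) F) 0 0 * h2 + h2
  have h00 : (h : Matrix (Fin 2) (Fin 2) F) 0 0 = 1 := by
    have := (pow_eq_zero_iff two_ne_zero).1 h0
    linear_combination this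
  apply Subtype.ext
  rw [(isScalar2_iff _).1 hs, h00]
  simp

omit [Fintype F] in
/-- an involution of `SL₂` in characteristic 2 has trace 0 -/
theorem trace_of_involution (g : Matrix.SpecialLinearGroup (Fin 2) F) (hg : orderOf g = 2) :
    g ≠ 1 ∧ (g : Matrix (Fin 2) (Fin 2) F).trace = 0 := by
  have h2 : (2 : F) = 0 := CharTwo.two_eq_zero
  have hg1 : g ≠ 1 := by
    intro h
    rw [h, orderOf_one] at hg
    omega
  refine ⟨hg1, ?_⟩
  have hgg : g * g = 1 := by
    have := pow_orderOf_eq_one g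
    rwa [hg, pow_two] at this
  have hM : (g : Matrix (Fin 2) (Fin 2) F) * (g : Matrix (Fin 2) (Fin 2) F) = 1 := by
    have := congrArg (fun x : Matrix.SpecialLinearGroup (Fin 2) F => (x : Matrix (Fin 2) (Fin 2) F)) hgg
    simpa using this
  have hdet : (g : Matrix (Fin 2) (Fin 2) F).det = 1 := g.2
  rw [Matrix.det_fin_two] at hdet
  rw [Matrix.trace_fin_two]
  by_contra hne
  -- entries of g * g = 1
  have e01 := congrFun (congrFun hM 0) 1
  have e10 := congrFun (congrFun hM 1) 0
  have e00 := congrFun (congrFun hM 0) 0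
  have e11 := congrFun (congrFun hM 1) 1
  simp only [Matrix.mul_apply, Fin.sum_univ_two, Matrix.one_apply_eq, Matrix.one_apply_ne,
    ne_eq, zero_ne_one, one_ne_zero, not_false_eq_true] at e01 e10 e00 e11
  have hb : (g : Matrix (Fin 2) (Fin 2) F) 0 1 = 0 := by
    have : (g : Matrix (Fin 2) (Fin 2) F) 0 1 * ((g : Matrix (Fin 2) (Fin 2) F) 0 0 + (g : Matrix (Fin 2) (Fin 2) F) 1 1) = 0 := by
      linear_combination e01
    rcases mul_eq_zero.1 this with h | h
    · exact h
    · exact absurd h hne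
  have hc : (g : Matrix (Fin 2) (Fin 2) F) 1 0 = 0 := by
    have : (g : Matrix (Fin 2) (Fin 2) F) 1 0 * ((g : Matrix (Fin 2) (Fin 2) F) 0 0 + (g : Matrix (Fin 2) (Fin 2) F) 1 1) = 0 := by
      linear_combination e10
    rcases mul_eq_zero.1 this with h | h
    · exact h
    · exact absurd h hne
  rw [hb, hc] at e00 e11
  have ha : (g : Matrix (Fin 2) (Fin 2) F) 0 0 = 1 := by
    have h0 : ((g : Matrix (Fin 2) (Fin 2) F) 0 0 - 1) ^ 2 = 0 := by
      linear_combination e00 - (g : Matrix (Fin 2) (Fin 2) F) 0 0 * h2 + h2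
    have := (pow_eq_zero_iff two_ne_zero).1 h0
    linear_combination this
  have hd : (g : Matrix (Fin 2) (Fin 2) F) 1 1 = 1 := by
    have h0 : ((g : Matrix (Fin 2) (Fin 2) F) 1 1 - 1) ^ 2 = 0 := by
      linear_combination e11 - (g : Matrix (Fin 2) (Fin 2) F) 1 1 * h2 + h2
    have := (pow_eq_zero_iff two_ne_zero).1 h0
    linear_combination this
  apply hne
  rw [ha, hd]
  linear_combination h2

/-- non-identity trace-zero elements of `SL₂` in characteristic 2 are all conjugate -/
theorem isConj_of_trace_zero (g h : Matrix.SpecialLinearGroup (Fin 2) F)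
    (hg1 : g ≠ 1) (hgt : (g : Matrix (Fin 2) (Fin 2) F).trace = 0)
    (hh1 : h ≠ 1) (hht : (h : Matrix (Fin 2) (Fin 2) F).trace = 0) : IsConj g h := by
  have hN : ∀ t e : F, e ≠ 0 → ∃ x y : F, x ^ 2 + t * x * y + y ^ 2 = e := by
    intro t e _
    obtain ⟨r, hr⟩ := FiniteField.isSquare_of_char_two (ringChar.eq F 2) e
    exact ⟨r, 0, by rw [hr]; ring⟩
  have h1 := isConj_compSL g (fun hs => hg1 (scalar_eq_one g hs)) (hN _)
  have h2 := isConj_compSL h (fun hs => hh1 (scalar_eq_one h hs)) (hN _)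
  rw [hgt] at h1
  rw [hht] at h2
  exact h1.trans h2.symm

theorem carrier_eq (g : Matrix.SpecialLinearGroup (Fin 2) F) (hg : orderOf g = 2) :
    (ConjClasses.mk g).carrier =
      {h : Matrix.SpecialLinearGroup (Fin 2) F | (h : Matrix (Fin 2) (Fin 2) F).trace = 0} \ {1} := by
  obtain ⟨hg1, hgt⟩ := trace_of_involution g hg
  ext h
  rw [ConjClasses.mem_carrier_iff_mk_eq, ConjClasses.mk_eq_mk_iff_isConj]
  simp only [Set.mem_sdiff, Set.mem_ofPred_eq, Set.mem_singleton_iff]
  constructor
  · intro hc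
    refine ⟨?_, ?_⟩
    · rw [trace_eq_of_isConj_SL hc, hgt]
    · rintro rfl
      apply hg1
      obtain ⟨c, hc'⟩ := isConj_iff.1 hc
      rw [← hc']
      simp
  · rintro ⟨ht, h1⟩
    exact isConj_of_trace_zero h g h1 ht hg1 hgt

end


end Helpers


/-- Over a finite field with q elements of characteristic 2, the involutions of SL₂ (the non-identity unipotent elements) form a single conjugacy class, of size q² − 1. -/
theorem result {F : Type*} [Field F] [Fintype F] [CharP F 2] (g h : Matrix.SpecialLinearGroup (Fin 2) F) (hg : orderOf g = 2) (hh : orderOf h = 2) :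
    IsConj g h ∧ Nat.card (ConjClasses.mk g).carrier = Fintype.card F ^ 2 - 1 := by
  obtain ⟨hg1, hgt⟩ := trace_of_involution g hg
  obtain ⟨hh1, hht⟩ := trace_of_involution h hh
  refine ⟨isConj_of_trace_zero g h hg1 hgt hh1 hht, ?_⟩
  rw [carrier_eq g hg]
  have hS := card_traceZero (F := F)
  have hmem : (1 : Matrix.SpecialLinearGroup (Fin 2) F) ∈
      {h : Matrix.SpecialLinearGroup (Fin 2) F | (h : Matrix (Fin 2) (Fin 2) F).trace = 0} := by
    simp only [Set.mem_ofPred_eq, Matrix.SpecialLinearGroup.coe_one, Matrix.trace_one, Fintype.card_fin]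
    exact_mod_cast (CharTwo.two_eq_zero : (2 : F) = 0)
  rw [Nat.card_coe_set_eq, Set.ncard_sdiff_singleton_of_mem hmem, ← Nat.card_coe_set_eq]
  exact congrArg (· - 1) hS

end Cfsg.Agent.S2302
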