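import Cfsg.Statements.S2303
-- import your own Cfsg.Agent.* helpers here

set_option autoImplicit false
open Cfsg

namespace Cfsg.Agent.S2303

section Helpers

open Matrix



section

variable {F : Type*} [Field F] [Fintype F]

theorem card_centralizer_diag (g : Matrix.GeneralLinearGroup (Fin 2) F)
    (h01 : (g : Matrix (Fin 2) (Fin 2) F) 0 1 = 0) (h10 : (g : Matrix (Fin 2) (Fin 2) F) 1 0 = 0)
    (hne : (g : Matrix (Fin 2) (Fin 2) F) 0 0 ≠ (g : Matrix (Fin 2) (Fin 2) F) 1 1) :
    Nat.card (Subgroup.centralizer ({g} : Set (Matrix.GeneralLinearGroup (Fin 2) F))) = (Fintype.card F - 1) ^ 2 := by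
  classical
  -- matrix form of membership
  have hmem : ∀ h : Matrix.GeneralLinearGroup (Fin 2) F,
      h ∈ Subgroup.centralizer ({g} : Set (Matrix.GeneralLinearGroup (Fin 2) F)) ↔
        (h : Matrix (Fin 2) (Fin 2) F) 0 1 = 0 ∧ (h : Matrix (Fin 2) (Fin 2) F) 1 0 = 0 := by
    intro h
    rw [Subgroup.mem_centralizer_singleton_iff]
    constructor
    · intro hc
      have hM : (h : Matrix (Fin 2) (Fin 2) F) * (g : Matrix (Fin 2) (Fin 2) F) =
          (g : Matrix (Fin 2) (Fin 2) F) * (h : Matrix (Fin 2) (Fin 2) F) := by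
        have := congrArg (fun x : Matrix.GeneralLinearGroup (Fin 2) F => (x : Matrix (Fin 2) (Fin 2) F)) hc
        simpa using this
      have e01 := congrFun (congrFun hM 0) 1
      have e10 := congrFun (congrFun hM 1) 0
      simp only [Matrix.mul_apply, Fin.sum_univ_two, h01, h10] at e01 e10
      constructor
      · have : (h : Matrix (Fin 2) (Fin 2) F) 0 1 * ((g : Matrix (Fin 2) (Fin 2) F) 0 0 - (g : Matrix (Fin 2) (Fin 2) F) 1 1) = 0 := by
          linear_combination -e01
        rcases mul_eq_zero.1 this with h' | h'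
        · exact h'
        · exact absurd (sub_eq_zero.1 h') hne
      · have : (h : Matrix (Fin 2) (Fin 2) F) 1 0 * ((g : Matrix (Fin 2) (Fin 2) F) 0 0 - (g : Matrix (Fin 2) (Fin 2) F) 1 1) = 0 := by
          linear_combination e10
        rcases mul_eq_zero.1 this with h' | h'
        · exact h'
        · exact absurd (sub_eq_zero.1 h') hne
    · rintro ⟨k01, k10⟩
      apply Units.ext
      simp only [Units.val_mul]
      ext i j
      fin_cases i <;> fin_cases j <;> simp [Matrix.mul_apply, Fin.sum_univ_two, h01, h10, k01, k10, mul_comm]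
  let f : Fˣ × Fˣ → Subgroup.centralizer ({g} : Set (Matrix.GeneralLinearGroup (Fin 2) F)) := fun p =>
    ⟨Matrix.GeneralLinearGroup.mkOfDetNeZero !![(p.1 : F), 0; 0, (p.2 : F)]
      (by simp [Matrix.det_fin_two_of]), by
      rw [hmem]
      exact ⟨rfl, rfl⟩⟩
  have hf : Function.Bijective f := by
    constructor
    · intro p p' hpp
      have h1 := congrArg (fun x : Subgroup.centralizer ({g} : Set (Matrix.GeneralLinearGroup (Fin 2) F)) =>
        ((x : Matrix.GeneralLinearGroup (Fin 2) F) : Matrix (Fin 2) (Fin 2) F)) hpp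
      have e00 := congrFun (congrFun h1 0) 0
      have e11 := congrFun (congrFun h1 1) 1
      simp only [f] at e00 e11
      change (p.1 : F) = (p'.1 : F) at e00
      change (p.2 : F) = (p'.2 : F) at e11
      exact Prod.ext (Units.ext e00) (Units.ext e11)
    · rintro ⟨h, hh⟩
      obtain ⟨k01, k10⟩ := (hmem h).1 hh
      have hdet : (h : Matrix (Fin 2) (Fin 2) F).det ≠ 0 := by
        have := Matrix.GeneralLinearGroup.det_ne_zero h
        exact this
      rw [Matrix.det_fin_two, k01, k10] at hdet
      have hx : (h : Matrix (Fin 2) (Fin 2) F) 0 0 ≠ 0 := by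
        intro h0; apply hdet; rw [h0]; ring
      have hy : (h : Matrix (Fin 2) (Fin 2) F) 1 1 ≠ 0 := by
        intro h0; apply hdet; rw [h0]; ring
      refine ⟨(Units.mk0 _ hx, Units.mk0 _ hy), ?_⟩
      apply Subtype.ext
      apply Units.ext
      ext i j
      fin_cases i <;> fin_cases j
      · rfl
      · exact k01.symm
      · exact k10.symm
      · rfl
  rw [← Nat.card_congr (Equiv.ofBijective f hf), Nat.card_prod, Nat.card_eq_fintype_card, Fintype.card_units, pow_two]

end




section

variable {F : Type*} [Field F] [Fintype F]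

theorem card_centralizer_elliptic (g : Matrix.GeneralLinearGroup (Fin 2) F)
    (hg : ∀ (c : F) (v : Fin 2 → F), v ≠ 0 → (g : Matrix (Fin 2) (Fin 2) F).mulVec v ≠ c • v) :
    Nat.card (Subgroup.centralizer ({g} : Set (Matrix.GeneralLinearGroup (Fin 2) F))) = Fintype.card F ^ 2 - 1 := by
  classical
  set M : Matrix (Fin 2) (Fin 2) F := (g : Matrix (Fin 2) (Fin 2) F) with hM
  -- off-diagonal entries are nonzero
  have hc : M 1 0 ≠ 0 := by
    intro h0
    apply hg (M 0 0) ![1, 0] (by simp)
    ext i
    fin_cases i <;> simp [Matrix.mulVec, dotProduct, Fin.sum_univ_two, h0]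
  -- the matrices x + y M
  have hdet : ∀ x y : F, (x, y) ≠ (0, 0) → (x • (1 : Matrix (Fin 2) (Fin 2) F) + y • M).det ≠ 0 := by
    intro x y hxy hd
    obtain ⟨v, hv, hv0⟩ := Matrix.exists_mulVec_eq_zero_iff.2 hd
    by_cases hy : y = 0
    · subst hy
      have hx : x ≠ 0 := by
        intro hx; apply hxy; rw [hx]
      simp only [zero_smul, add_zero, Matrix.smul_mulVec, Matrix.one_mulVec] at hv0
      have : v = 0 := by
        have := congrArg (fun w => x⁻¹ • w) hv0
        simpa [smul_smul, hx] using this
      exact hv this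
    · apply hg (-(x / y)) v hv
      have h1 : x • v + y • (M *ᵥ v) = 0 := by
        simpa [Matrix.add_mulVec, Matrix.smul_mulVec] using hv0
      have h2 : y • (M *ᵥ v) = -(x • v) := eq_neg_of_add_eq_zero_right h1
      have h3 := congrArg (fun w => y⁻¹ • w) h2
      simp only [smul_smul, inv_mul_cancel₀ hy, one_smul, smul_neg] at h3
      rw [h3, neg_smul, div_eq_inv_mul, mul_comm]
  have hmem : ∀ h : Matrix.GeneralLinearGroup (Fin 2) F,
      h ∈ Subgroup.centralizer ({g} : Set (Matrix.GeneralLinearGroup (Fin 2) F)) ↔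
        (h : Matrix (Fin 2) (Fin 2) F) * M = M * (h : Matrix (Fin 2) (Fin 2) F) := by
    intro h
    rw [Subgroup.mem_centralizer_singleton_iff]
    constructor
    · intro hc
      have := congrArg (fun x : Matrix.GeneralLinearGroup (Fin 2) F => (x : Matrix (Fin 2) (Fin 2) F)) hc
      simpa using this
    · intro hc
      apply Units.ext
      simpa using hc
  let f : {p : F × F // p ≠ (0, 0)} → Subgroup.centralizer ({g} : Set (Matrix.GeneralLinearGroup (Fin 2) F)) := fun p =>
    ⟨Matrix.GeneralLinearGroup.mkOfDetNeZero (p.1.1 • (1 : Matrix (Fin 2) (Fin 2) F) + p.1.2 • M)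
      (hdet p.1.1 p.1.2 p.2), by
      rw [hmem]
      change (p.1.1 • (1 : Matrix (Fin 2) (Fin 2) F) + p.1.2 • M) * M = M * (p.1.1 • (1 : Matrix (Fin 2) (Fin 2) F) + p.1.2 • M)
      simp [Matrix.add_mul, Matrix.mul_add]⟩
  have hf : Function.Bijective f := by
    constructor
    · rintro ⟨⟨x, y⟩, hp⟩ ⟨⟨x', y'⟩, hp'⟩ hpp
      have h1 := congrArg (fun z : Subgroup.centralizer ({g} : Set (Matrix.GeneralLinearGroup (Fin 2) F)) =>
        ((z : Matrix.GeneralLinearGroup (Fin 2) F) : Matrix (Fin 2) (Fin 2) F)) hpp
      change x • (1 : Matrix (Fin 2) (Fin 2) F) + y • M = x' • (1 : Matrix (Fin 2) (Fin 2) F) + y' • M at h1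
      have e10 := congrFun (congrFun h1 1) 0
      have e00 := congrFun (congrFun h1 0) 0
      simp at e10 e00
      have hy : y = y' := by
        rcases e10 with h | h
        · exact h
        · exact absurd h hc
      subst hy
      have hx : x = x' := by simpa using e00
      subst hx
      rfl
    · rintro ⟨h, hh⟩
      have hcomm := (hmem h).1 hh
      set H : Matrix (Fin 2) (Fin 2) F := (h : Matrix (Fin 2) (Fin 2) F) with hH
      have e00 := congrFun (congrFun hcomm 0) 0
      have e10 := congrFun (congrFun hcomm 1) 0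
      simp only [Matrix.mul_apply, Fin.sum_univ_two] at e00 e10
      set y : F := H 1 0 / M 1 0 with hy
      set x : F := H 0 0 - y * M 0 0 with hx
      have hyc : y * M 1 0 = H 1 0 := by rw [hy]; field_simp
      have hmat : x • (1 : Matrix (Fin 2) (Fin 2) F) + y • M = H := by
        ext i j
        fin_cases i <;> fin_cases j
        · simp [hx]
        · simp only [Fin.zero_eta, Fin.isValue, Fin.mk_one, Matrix.add_apply, Matrix.smul_apply, ne_eq,
            zero_ne_one, not_false_eq_true, Matrix.one_apply_ne, smul_eq_mul, mul_zero, zero_add]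
          have : (y * M 0 1 - H 0 1) * M 1 0 = 0 := by
            linear_combination M 0 1 * hyc - e00
          rcases mul_eq_zero.1 this with h' | h'
          · linear_combination h'
          · exact absurd h' hc
        · simp [hyc]
        · simp only [Fin.mk_one, Fin.isValue, Matrix.add_apply, Matrix.smul_apply, Matrix.one_apply_eq,
            smul_eq_mul, mul_one]
          have : (x + y * M 1 1 - H 1 1) * M 1 0 = 0 := by
            rw [hx]
            linear_combination (M 1 1 - M 0 0) * hyc - e10
          rcases mul_eq_zero.1 this with h' | h'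
          · linear_combination h'
          · exact absurd h' hc
      have hxy : (x, y) ≠ (0, 0) := by
        intro h0
        have hx0 : x = 0 := (Prod.ext_iff.1 h0).1
        have hy0 : y = 0 := (Prod.ext_iff.1 h0).2
        rw [hx0, hy0] at hmat
        simp only [zero_smul, add_zero] at hmat
        have hu : IsUnit H := Units.isUnit h
        rw [← hmat] at hu
        exact not_isUnit_zero hu
      refine ⟨⟨(x, y), hxy⟩, ?_⟩
      apply Subtype.ext
      apply Units.ext
      exact hmat
  rw [← Nat.card_congr (Equiv.ofBijective f hf), Nat.card_eq_fintype_card,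
    Fintype.card_subtype_compl, Fintype.card_subtype_eq, Fintype.card_prod, pow_two]

end


end Helpers


/-- Over a finite field with q elements: a diagonal element of GL₂ with two distinct diagonal entries has centralizer of order (q − 1)² (so q(q + 1) conjugates), and an element of GL₂ with no eigenvector in F² has centralizer of order q² − 1 (so q(q − 1) conjugates). -/
theorem result {F : Type*} [Field F] [Fintype F] (g : Matrix.GeneralLinearGroup (Fin 2) F) :
    ((g : Matrix (Fin 2) (Fin 2) F) 0 1 = 0 → (g : Matrix (Fin 2) (Fin 2) F) 1 0 = 0 → (g : Matrix (Fin 2) (Fin 2) F) 0 0 ≠ (g : Matrix (Fin 2) (Fin 2) F) 1 1 →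
      Nat.card (Subgroup.centralizer ({g} : Set (Matrix.GeneralLinearGroup (Fin 2) F))) = (Fintype.card F - 1) ^ 2) ∧
    ((∀ (c : F) (v : Fin 2 → F), v ≠ 0 → (g : Matrix (Fin 2) (Fin 2) F).mulVec v ≠ c • v) →
      Nat.card (Subgroup.centralizer ({g} : Set (Matrix.GeneralLinearGroup (Fin 2) F))) = Fintype.card F ^ 2 - 1) := by
  exact ⟨fun h01 h10 hne => card_centralizer_diag g h01 h10 hne, fun hg => card_centralizer_elliptic g hg⟩

end Cfsg.Agent.S2303
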