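import Cfsg.Statements.S2304
import Cfsg.Agent.Lib.helper43.IndLinear

set_option autoImplicit false
open Cfsg

namespace Cfsg.Agent.S2304

section Helpers

open Matrix Cfsg.Agent.Lib.helper43

variable {F : Type*} [Field F]

theorem mem_upper_iff (g : Matrix.GeneralLinearGroup (Fin 2) F) :
    g ∈ Cfsg.upperTriangularGL 2 F ↔ (g : Matrix (Fin 2) (Fin 2) F) 1 0 = 0 := by
  constructor
  · intro h
    exact h (show (id (0 : Fin 2)) < id 1 by decide)
  · intro h i j hij
    fin_cases i <;> fin_cases j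
    · exact absurd hij (by decide)
    · exact absurd hij (by decide)
    · exact h
    · exact absurd hij (by decide)

/-- the linear character `b ↦ α(b₀₀) β(b₁₁)` of the Borel subgroup, as a monoid hom to `ℂ` -/
noncomputable def thetaHom (α β : MulChar F ℂ) : (Cfsg.upperTriangularGL 2 F) →* ℂ where
  toFun b := α (((b : Matrix.GeneralLinearGroup (Fin 2) F) : Matrix (Fin 2) (Fin 2) F) 0 0) *
    β (((b : Matrix.GeneralLinearGroup (Fin 2) F) : Matrix (Fin 2) (Fin 2) F) 1 1)
  map_one' := by simp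
  map_mul' := by
    intro b c
    have hb := (mem_upper_iff _).1 b.2
    have hc := (mem_upper_iff _).1 c.2
    simp only [Subgroup.coe_mul, Matrix.GeneralLinearGroup.coe_mul, Matrix.mul_apply,
      Fin.sum_univ_two, hb, hc, zero_mul, mul_zero, add_zero, zero_add, map_mul]
    ring

theorem thetaHom_apply (α β : MulChar F ℂ) (b : Cfsg.upperTriangularGL 2 F) :
    thetaHom α β b = α (((b : Matrix.GeneralLinearGroup (Fin 2) F) : Matrix (Fin 2) (Fin 2) F) 0 0) *
    β (((b : Matrix.GeneralLinearGroup (Fin 2) F) : Matrix (Fin 2) (Fin 2) F) 1 1) := rfl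

/-- the key torus element -/
theorem key (α β : MulChar F ℂ) (hαβ : α ≠ β) (x : Matrix.GeneralLinearGroup (Fin 2) F)
    (hx : x ∉ Cfsg.upperTriangularGL 2 F) :
    ∃ t : Cfsg.upperTriangularGL 2 F, ∃ ht : x⁻¹ * (t : Matrix.GeneralLinearGroup (Fin 2) F) * x ∈ Cfsg.upperTriangularGL 2 F,
      (thetaHom α β).toHomUnits t ≠ (thetaHom α β).toHomUnits ⟨x⁻¹ * (t : Matrix.GeneralLinearGroup (Fin 2) F) * x, ht⟩ := by
  have hr : (x : Matrix (Fin 2) (Fin 2) F) 1 0 ≠ 0 := fun h => hx ((mem_upper_iff x).2 h)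
  obtain ⟨a, ha⟩ : ∃ a : Fˣ, α a ≠ β a := by
    by_contra hcon
    exact hαβ (MulChar.ext fun a => by_contra fun h => hcon ⟨a, h⟩)
  set p := (x : Matrix (Fin 2) (Fin 2) F) 0 0 with hp
  set q := (x : Matrix (Fin 2) (Fin 2) F) 0 1 with hq
  set r := (x : Matrix (Fin 2) (Fin 2) F) 1 0 with hr'
  set u := (x : Matrix (Fin 2) (Fin 2) F) 1 1 with hu
  have hxm : (x : Matrix (Fin 2) (Fin 2) F) = !![p, q; r, u] := by
    ext i j
    fin_cases i <;> fin_cases j <;> rfl
  have ha0 : (a : F) ≠ 0 := a.ne_zero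
  let t : Matrix.GeneralLinearGroup (Fin 2) F :=
    Matrix.GeneralLinearGroup.mkOfDetNeZero !![(a : F), (1 - (a : F)) * p / r; 0, 1]
      (by simp [Matrix.det_fin_two_of, ha0])
  let y : Matrix.GeneralLinearGroup (Fin 2) F :=
    Matrix.GeneralLinearGroup.mkOfDetNeZero !![1, (1 - (a : F)) * u / r; 0, (a : F)]
      (by simp [Matrix.det_fin_two_of, ha0])
  have htm : (t : Matrix (Fin 2) (Fin 2) F) = !![(a : F), (1 - (a : F)) * p / r; 0, 1] := rfl
  have hym : (y : Matrix (Fin 2) (Fin 2) F) = !![1, (1 - (a : F)) * u / r; 0, (a : F)] := rfl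
  have htB : t ∈ Cfsg.upperTriangularGL 2 F := by
    rw [mem_upper_iff, htm]; simp
  have hyB : y ∈ Cfsg.upperTriangularGL 2 F := by
    rw [mem_upper_iff, hym]; simp
  have hxy : x * y = t * x := by
    apply Matrix.GeneralLinearGroup.ext
    intro i j
    simp only [Matrix.GeneralLinearGroup.coe_mul, hxm, htm, hym]
    fin_cases i <;> fin_cases j <;> simp [Matrix.mul_apply, Fin.sum_univ_two] <;> field_simp <;> ring
  have hconj : x⁻¹ * t * x = y := by
    rw [mul_assoc, ← hxy, inv_mul_cancel_left]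
  refine ⟨⟨t, htB⟩, by rw [hconj]; exact hyB, ?_⟩
  intro h
  have h2 := congrArg (fun v : ℂˣ => (v : ℂ)) h
  simp only [MonoidHom.coe_toHomUnits, thetaHom_apply] at h2
  simp only [hconj, htm, hym] at h2
  simp at h2
  exact ha h2

end Helpers

/-- Over a finite field F with q elements, for multiplicative characters α ≠ β of F, the function induced to GL₂ from the linear character b ↦ α(b₁₁) β(b₂₂) of the upper triangular subgroup B is an irreducible character (of degree q + 1). -/
theorem result {F : Type*} [Field F] [Fintype F] [DecidableEq F] (α β : MulChar F ℂ) (hαβ : α ≠ β) :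
    Cfsg.IsIrrCharacter (Matrix.GeneralLinearGroup (Fin 2) F) (Cfsg.indFun (Cfsg.upperTriangularGL 2 F) (fun b => α (((b : Matrix.GeneralLinearGroup (Fin 2) F) : Matrix (Fin 2) (Fin 2) F) 0 0) * β (((b : Matrix.GeneralLinearGroup (Fin 2) F) : Matrix (Fin 2) (Fin 2) F) 1 1))) := by
  classical
  have hθ : (fun b : Cfsg.upperTriangularGL 2 F => α (((b : Matrix.GeneralLinearGroup (Fin 2) F) : Matrix (Fin 2) (Fin 2) F) 0 0) * β (((b : Matrix.GeneralLinearGroup (Fin 2) F) : Matrix (Fin 2) (Fin 2) F) 1 1)) =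
      fun b => (((thetaHom α β).toHomUnits b : ℂˣ) : ℂ) := by
    funext b
    rw [MonoidHom.coe_toHomUnits, thetaHom_apply]
  rw [hθ]
  exact Cfsg.Agent.Lib.helper43.isIrrCharacter_indFun_hom _ _ (key α β hαβ)

end Cfsg.Agent.S2304
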