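import Cfsg.Statements.S2305
import Cfsg.Agent.Lib.helper44.GL2Ind

set_option autoImplicit false
open Cfsg

namespace Cfsg.Agent.S2305

open Cfsg.Agent.Lib.helper43 Cfsg.Agent.Lib.helper44

/-- If two sums of two complex-valued monoid homomorphisms agree, the first hom on the left is one
of the two on the right (linear independence of characters). -/
theorem hom_eq_of_add_eq {M : Type*} [Monoid M] (f₁ f₂ f₃ f₄ : M →* ℂ)
    (h : ∀ m, f₁ m + f₂ m = f₃ m + f₄ m) : f₁ = f₃ ∨ f₁ = f₄ := by
  classical
  by_contra hcon
  rw [not_or] at hcon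
  obtain ⟨h13, h14⟩ := hcon
  have li := linearIndependent_monoidHom M ℂ
  rw [linearIndependent_iff] at li
  have h0 := li (Finsupp.single f₁ 1 + Finsupp.single f₂ 1 - Finsupp.single f₃ 1 -
    Finsupp.single f₄ 1) (by
      simp only [map_sub, map_add, Finsupp.linearCombination_single, one_smul]
      funext m
      simp only [Pi.sub_apply, Pi.add_apply, Pi.zero_apply]
      linear_combination h m)
  have h1 := DFunLike.congr_fun h0 f₁
  simp only [Finsupp.coe_sub, Finsupp.coe_add, Pi.sub_apply, Pi.add_apply, Finsupp.single_apply,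
    if_true, Finsupp.coe_zero, Pi.zero_apply, if_neg (Ne.symm h13), if_neg (Ne.symm h14)] at h1
  split_ifs at h1 <;> norm_num at h1

/-- The induced function is symmetric in the two characters. -/
theorem indFun_borelChar_swap {F : Type*} [Field F] [Fintype F] [DecidableEq F]
    [Fintype (Matrix.GeneralLinearGroup (Fin 2) F)] (α β : MulChar F ℂ) :
    Cfsg.indFun (Cfsg.upperTriangularGL 2 F) (borelChar α β) =
      Cfsg.indFun (Cfsg.upperTriangularGL 2 F) (borelChar β α) := by
  funext g
  rw [indFun_borelChar_apply, indFun_borelChar_apply]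
  set a := (g : Matrix (Fin 2) (Fin 2) F) 0 0 with ha
  set b := (g : Matrix (Fin 2) (Fin 2) F) 0 1 with hb
  set c := (g : Matrix (Fin 2) (Fin 2) F) 1 0 with hc
  set d := (g : Matrix (Fin 2) (Fin 2) F) 1 1 with hd
  by_cases hb0 : b = 0
  · rw [if_pos hb0, if_pos hb0]
    simp only [hb0, zero_mul, sub_zero, add_zero]
    by_cases had : a = d
    · rw [had]
      congr 1
      · ring
      · refine Finset.sum_congr rfl (fun x _ => ?_)
        split_ifs
        · ring
        · rfl
    · have hda : d - a ≠ 0 := fun h => had (sub_eq_zero.mp h).symm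
      have hcond : ∀ x : F, (c + (d - a) * x = 0) ↔ x = -c / (d - a) := by
        intro x
        rw [eq_div_iff hda]
        constructor
        · intro h; linear_combination h
        · intro h; linear_combination h
      simp only [hcond, Finset.sum_ite_eq', Finset.mem_univ, if_true]
      ring
  · rw [if_neg hb0, if_neg hb0]
    congr 1
    refine Fintype.sum_equiv (Equiv.subLeft ((d - a) / b)) _ _ (fun x => ?_)
    have e1 : c + (d - a) * (Equiv.subLeft ((d - a) / b) x) - b * (Equiv.subLeft ((d - a) / b) x) ^ 2
        = c + (d - a) * x - b * x ^ 2 := by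
      simp only [Equiv.subLeft_apply]
      field_simp
      ring
    have e2 : a + b * (Equiv.subLeft ((d - a) / b) x) = d - b * x := by
      simp only [Equiv.subLeft_apply]
      field_simp
      ring
    have e3 : d - b * (Equiv.subLeft ((d - a) / b) x) = a + b * x := by
      simp only [Equiv.subLeft_apply]
      field_simp
      ring
    rw [e1, e2, e3]
    split_ifs
    · ring
    · rfl

/-- Value of the induced function at `diag(s, 1)`, `s ≠ 1`. -/
theorem indFun_borelChar_dGL {F : Type*} [Field F] [Fintype F] [DecidableEq F]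
    [Fintype (Matrix.GeneralLinearGroup (Fin 2) F)] (α β : MulChar F ℂ) (s : Fˣ) (hs : s ≠ 1) :
    Cfsg.indFun (Cfsg.upperTriangularGL 2 F) (borelChar α β) (dGL s) = α s + β s := by
  rw [indFun_borelChar_apply]
  have hs1 : (1 : F) - (s : F) ≠ 0 := by
    intro h
    apply hs
    ext
    rw [Units.val_one]
    exact (sub_eq_zero.mp h).symm
  have hcond : ∀ x : F, ((0 : F) + (1 - (s : F)) * x - 0 * x ^ 2 = 0) ↔ x = 0 := by
    intro x
    constructor
    · intro h
      have h' : (1 - (s : F)) * x = 0 := by linear_combination h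
      exact (mul_eq_zero.mp h').resolve_left hs1
    · intro h; rw [h]; ring
  simp only [dGL_val, Matrix.of_apply, Matrix.cons_val', Matrix.cons_val_zero, Matrix.cons_val_one,
    Matrix.cons_val_fin_one, if_true, hcond, Finset.sum_ite_eq', Finset.mem_univ, map_one,
    mul_zero, add_zero, sub_zero, one_mul, mul_one]
  ring

/-- Over a finite field F, for multiplicative characters α, β, α′, β′ of F, the characters of GL₂ induced from the linear characters b ↦ α(b₁₁) β(b₂₂) and b ↦ α′(b₁₁) β′(b₂₂) of the upper triangular subgroup coincide exactly when {α, β} = {α′, β′} as unordered pairs. -/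
theorem result {F : Type*} [Field F] [Fintype F] [DecidableEq F] (α β α' β' : MulChar F ℂ) :
    Cfsg.indFun (Cfsg.upperTriangularGL 2 F) (fun b => α (((b : Matrix.GeneralLinearGroup (Fin 2) F) : Matrix (Fin 2) (Fin 2) F) 0 0) * β (((b : Matrix.GeneralLinearGroup (Fin 2) F) : Matrix (Fin 2) (Fin 2) F) 1 1)) = Cfsg.indFun (Cfsg.upperTriangularGL 2 F) (fun b => α' (((b : Matrix.GeneralLinearGroup (Fin 2) F) : Matrix (Fin 2) (Fin 2) F) 0 0) * β' (((b : Matrix.GeneralLinearGroup (Fin 2) F) : Matrix (Fin 2) (Fin 2) F) 1 1)) ↔
      (α = α' ∧ β = β') ∨ (α = β' ∧ β = α') := by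
  change Cfsg.indFun (Cfsg.upperTriangularGL 2 F) (borelChar α β) =
    Cfsg.indFun (Cfsg.upperTriangularGL 2 F) (borelChar α' β') ↔ _
  constructor
  · intro h
    have hval : ∀ s : Fˣ, α s + β s = α' s + β' s := by
      intro s
      by_cases hs : s = 1
      · subst hs
        simp
      · rw [← indFun_borelChar_dGL α β s hs, ← indFun_borelChar_dGL α' β' s hs, h]
    have key := hom_eq_of_add_eq (α.toMonoidHom.comp (Units.coeHom F))
      (β.toMonoidHom.comp (Units.coeHom F)) (α'.toMonoidHom.comp (Units.coeHom F))
      (β'.toMonoidHom.comp (Units.coeHom F)) (fun s => hval s)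
    rcases key with h1 | h1
    · have hα : α = α' := by
        apply MulChar.ext
        intro s
        exact DFunLike.congr_fun h1 s
      refine Or.inl ⟨hα, ?_⟩
      apply MulChar.ext
      intro s
      have := hval s
      rw [hα] at this
      exact add_left_cancel this
    · have hα : α = β' := by
        apply MulChar.ext
        intro s
        exact DFunLike.congr_fun h1 s
      refine Or.inr ⟨hα, ?_⟩
      apply MulChar.ext
      intro s
      have := hval s
      rw [hα, add_comm (α' s)] at this
      exact add_left_cancel this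
  · rintro (⟨h1, h2⟩ | ⟨h1, h2⟩)
    · rw [h1, h2]
    · rw [h1, h2]
      exact indFun_borelChar_swap β' α'

end Cfsg.Agent.S2305
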