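import Cfsg.Statements.S2308
import Cfsg.Agent.Lib.helper43.GL2Values

set_option autoImplicit false
open Cfsg

namespace Cfsg.Agent.S2308

open Cfsg.Agent.Lib.helper43

/-- Cramer identity: the conjugate `x⁻¹ g x` is upper triangular iff the first column of `x` is an
eigenvector of `g`. -/
theorem conj_mem_iff {F : Type*} [Field F] (g x : Matrix.GeneralLinearGroup (Fin 2) F) :
    x⁻¹ * g * x ∈ Cfsg.upperTriangularGL 2 F ↔
      (x : Matrix (Fin 2) (Fin 2) F) 0 0 *
          ((g : Matrix (Fin 2) (Fin 2) F) 1 0 * (x : Matrix (Fin 2) (Fin 2) F) 0 0 +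
            (g : Matrix (Fin 2) (Fin 2) F) 1 1 * (x : Matrix (Fin 2) (Fin 2) F) 1 0) -
        (x : Matrix (Fin 2) (Fin 2) F) 1 0 *
          ((g : Matrix (Fin 2) (Fin 2) F) 0 0 * (x : Matrix (Fin 2) (Fin 2) F) 0 0 +
            (g : Matrix (Fin 2) (Fin 2) F) 0 1 * (x : Matrix (Fin 2) (Fin 2) F) 1 0) = 0 := by
  rw [mem_upperGL_iff]
  set y := x⁻¹ * g * x with hy
  have hxy : g * x = x * y := by rw [hy]; group
  have hM : (g : Matrix (Fin 2) (Fin 2) F) * (x : Matrix (Fin 2) (Fin 2) F) =
      (x : Matrix (Fin 2) (Fin 2) F) * (y : Matrix (Fin 2) (Fin 2) F) := by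
    have := congrArg (fun z : Matrix.GeneralLinearGroup (Fin 2) F => (z : Matrix (Fin 2) (Fin 2) F)) hxy
    simpa using this
  have e00 := congrFun (congrFun hM 0) 0
  have e10 := congrFun (congrFun hM 1) 0
  simp only [Matrix.mul_apply, Fin.sum_univ_two] at e00 e10
  have hdet : (x : Matrix (Fin 2) (Fin 2) F).det ≠ 0 := Matrix.GeneralLinearGroup.det_ne_zero x
  rw [Matrix.det_fin_two] at hdet
  have key : (y : Matrix (Fin 2) (Fin 2) F) 1 0 *
      ((x : Matrix (Fin 2) (Fin 2) F) 0 0 * (x : Matrix (Fin 2) (Fin 2) F) 1 1 -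
        (x : Matrix (Fin 2) (Fin 2) F) 0 1 * (x : Matrix (Fin 2) (Fin 2) F) 1 0) =
      (x : Matrix (Fin 2) (Fin 2) F) 0 0 *
          ((g : Matrix (Fin 2) (Fin 2) F) 1 0 * (x : Matrix (Fin 2) (Fin 2) F) 0 0 +
            (g : Matrix (Fin 2) (Fin 2) F) 1 1 * (x : Matrix (Fin 2) (Fin 2) F) 1 0) -
        (x : Matrix (Fin 2) (Fin 2) F) 1 0 *
          ((g : Matrix (Fin 2) (Fin 2) F) 0 0 * (x : Matrix (Fin 2) (Fin 2) F) 0 0 +
            (g : Matrix (Fin 2) (Fin 2) F) 0 1 * (x : Matrix (Fin 2) (Fin 2) F) 1 0) := by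
    rw [e00, e10]; ring
  constructor
  · intro h; rw [← key, h, zero_mul]
  · intro h; rw [h] at key; exact (mul_eq_zero.mp key).resolve_right hdet

/-- A coset `xB` is fixed by `g` iff `x⁻¹ g x ∈ B`. -/
theorem mk_mem_fixedBy_iff {G : Type*} [Group G] (H : Subgroup G) (g x : G) :
    (QuotientGroup.mk x : G ⧸ H) ∈ MulAction.fixedBy (G ⧸ H) g ↔ x⁻¹ * g * x ∈ H := by
  rw [MulAction.mem_fixedBy, MulAction.Quotient.smul_mk, eq_comm, QuotientGroup.eq, smul_eq_mul,
    mul_assoc]

theorem mk_eq_one_iff {F : Type*} [Field F] (x : Matrix.GeneralLinearGroup (Fin 2) F) :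
    (QuotientGroup.mk x : Matrix.GeneralLinearGroup (Fin 2) F ⧸ Cfsg.upperTriangularGL 2 F) =
        QuotientGroup.mk (1 : Matrix.GeneralLinearGroup (Fin 2) F) ↔
      (x : Matrix (Fin 2) (Fin 2) F) 1 0 = 0 := by
  rw [eq_comm, QuotientGroup.eq, inv_one, one_mul, mem_upperGL_iff]

theorem mk_eq_w_iff {F : Type*} [Field F] (x : Matrix.GeneralLinearGroup (Fin 2) F) :
    (QuotientGroup.mk x : Matrix.GeneralLinearGroup (Fin 2) F ⧸ Cfsg.upperTriangularGL 2 F) =
        QuotientGroup.mk (wGL : Matrix.GeneralLinearGroup (Fin 2) F) ↔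
      (x : Matrix (Fin 2) (Fin 2) F) 0 0 = 0 := by
  rw [eq_comm, QuotientGroup.eq, wGL_inv, mem_upperGL_iff]
  simp [wGL_val, Matrix.mul_apply, Fin.sum_univ_two]

/-- Values of the permutation character of GL₂ over a finite field F with q elements on the cosets of its upper triangular subgroup (equivalently, the number of lines of F² that an element maps to themselves): q + 1 at a scalar matrix, 2 at a diagonal matrix with two different diagonal entries, 0 at an element with no eigenvector in F², and 1 at an upper triangular matrix with equal diagonal entries and non-zero upper right entry. -/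
theorem result {F : Type*} [Field F] [Fintype F] (g : Matrix.GeneralLinearGroup (Fin 2) F) :
    ((∃ a : F, (g : Matrix (Fin 2) (Fin 2) F) = a • (1 : Matrix (Fin 2) (Fin 2) F)) → Cfsg.fixedPointCharacter (Cfsg.upperTriangularGL 2 F) g = Fintype.card F + 1) ∧
    ((g : Matrix (Fin 2) (Fin 2) F) 0 1 = 0 → (g : Matrix (Fin 2) (Fin 2) F) 1 0 = 0 → (g : Matrix (Fin 2) (Fin 2) F) 0 0 ≠ (g : Matrix (Fin 2) (Fin 2) F) 1 1 →
      Cfsg.fixedPointCharacter (Cfsg.upperTriangularGL 2 F) g = 2) ∧
    ((∀ (c : F) (v : Fin 2 → F), v ≠ 0 → (g : Matrix (Fin 2) (Fin 2) F).mulVec v ≠ c • v) → Cfsg.fixedPointCharacter (Cfsg.upperTriangularGL 2 F) g = 0) ∧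
    ((g : Matrix (Fin 2) (Fin 2) F) 1 0 = 0 → (g : Matrix (Fin 2) (Fin 2) F) 0 0 = (g : Matrix (Fin 2) (Fin 2) F) 1 1 → (g : Matrix (Fin 2) (Fin 2) F) 0 1 ≠ 0 →
      Cfsg.fixedPointCharacter (Cfsg.upperTriangularGL 2 F) g = 1) := by
  classical
  refine ⟨?_, ?_, ?_, ?_⟩
  · rintro ⟨a, ha⟩
    have hfix : MulAction.fixedBy (Matrix.GeneralLinearGroup (Fin 2) F ⧸ Cfsg.upperTriangularGL 2 F) g
        = Set.univ := by
      ext c
      refine ⟨fun _ => Set.mem_univ _, fun _ => ?_⟩
      induction c using QuotientGroup.induction_on with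
      | H x =>
        rw [mk_mem_fixedBy_iff, conj_mem_iff, ha]
        simp [Matrix.smul_apply]
        ring
    unfold Cfsg.fixedPointCharacter
    rw [hfix, Nat.card_congr (Equiv.Set.univ _)]
    have := index_upperGL (F := F)
    rw [Subgroup.index] at this
    rw [this]; push_cast; rfl
  · intro h01 h10 hne
    have hfix : MulAction.fixedBy (Matrix.GeneralLinearGroup (Fin 2) F ⧸ Cfsg.upperTriangularGL 2 F) g
        = {(QuotientGroup.mk (1 : Matrix.GeneralLinearGroup (Fin 2) F)), (QuotientGroup.mk wGL)} := by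
      ext c
      induction c using QuotientGroup.induction_on with
      | H x =>
        rw [mk_mem_fixedBy_iff, conj_mem_iff, h01, h10, Set.mem_insert_iff, Set.mem_singleton_iff,
          mk_eq_one_iff, mk_eq_w_iff]
        constructor
        · intro h
          have h' : ((g : Matrix (Fin 2) (Fin 2) F) 1 1 - (g : Matrix (Fin 2) (Fin 2) F) 0 0) *
              ((x : Matrix (Fin 2) (Fin 2) F) 0 0 * (x : Matrix (Fin 2) (Fin 2) F) 1 0) = 0 := by
            linear_combination h
          rcases mul_eq_zero.mp h' with h1 | h1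
          · exact absurd (sub_eq_zero.mp h1).symm hne
          · rcases mul_eq_zero.mp h1 with h2 | h2
            · exact Or.inr h2
            · exact Or.inl h2
        · rintro (h | h) <;> rw [h] <;> ring
    unfold Cfsg.fixedPointCharacter
    rw [hfix, Nat.card_coe_set_eq, Set.ncard_pair]
    · norm_num
    · intro h
      have h2 := (mk_eq_w_iff (1 : Matrix.GeneralLinearGroup (Fin 2) F)).mp h
      simp at h2
  · intro hg
    have hfix : MulAction.fixedBy (Matrix.GeneralLinearGroup (Fin 2) F ⧸ Cfsg.upperTriangularGL 2 F) g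
        = ∅ := by
      ext c
      refine ⟨fun hc => ?_, fun hc => absurd hc (Set.notMem_empty _)⟩
      induction c using QuotientGroup.induction_on with
      | H x =>
        rw [mk_mem_fixedBy_iff] at hc
        exact absurd hc (elliptic_not_conj_upper g hg x)
    unfold Cfsg.fixedPointCharacter
    rw [hfix]
    simp
  · intro h10 h00 h01
    have hfix : MulAction.fixedBy (Matrix.GeneralLinearGroup (Fin 2) F ⧸ Cfsg.upperTriangularGL 2 F) g
        = {(QuotientGroup.mk (1 : Matrix.GeneralLinearGroup (Fin 2) F))} := by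
      ext c
      induction c using QuotientGroup.induction_on with
      | H x =>
        rw [mk_mem_fixedBy_iff, conj_mem_iff, h10, h00, Set.mem_singleton_iff, mk_eq_one_iff]
        constructor
        · intro h
          have h' : (g : Matrix (Fin 2) (Fin 2) F) 0 1 *
              ((x : Matrix (Fin 2) (Fin 2) F) 1 0 * (x : Matrix (Fin 2) (Fin 2) F) 1 0) = 0 := by
            linear_combination -h
          rcases mul_eq_zero.mp h' with h1 | h1
          · exact absurd h1 h01
          · rcases mul_eq_zero.mp h1 with h2 | h2 <;> exact h2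
        · intro h; rw [h]; ring
    unfold Cfsg.fixedPointCharacter
    rw [hfix, Nat.card_coe_set_eq, Set.ncard_singleton]
    norm_num

end Cfsg.Agent.S2308
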