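import Cfsg.Statements.S2309
import Cfsg.Agent.Lib.helper43.GL2Values

set_option autoImplicit false
open Cfsg

namespace Cfsg.Agent.S2309

/-- Over a finite field F with q elements: every irreducible complex character of GL₂ of degree q − 1 vanishes at every diagonal matrix with two distinct entries, and every irreducible complex character of degree q + 1 vanishes at every element with no eigenvector in F². -/
theorem result {F : Type*} [Field F] [Fintype F] (χ : Matrix.GeneralLinearGroup (Fin 2) F → ℂ) (hχ : Cfsg.IsIrrCharacter (Matrix.GeneralLinearGroup (Fin 2) F) χ) (g : Matrix.GeneralLinearGroup (Fin 2) F) :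
    (χ 1 = (Fintype.card F : ℂ) - 1 → (g : Matrix (Fin 2) (Fin 2) F) 0 1 = 0 → (g : Matrix (Fin 2) (Fin 2) F) 1 0 = 0 → (g : Matrix (Fin 2) (Fin 2) F) 0 0 ≠ (g : Matrix (Fin 2) (Fin 2) F) 1 1 → χ g = 0) ∧
    (χ 1 = (Fintype.card F : ℂ) + 1 → (∀ (c : F) (v : Fin 2 → F), v ≠ 0 → (g : Matrix (Fin 2) (Fin 2) F).mulVec v ≠ c • v) → χ g = 0) := by
  classical
  have : Fintype (Matrix.GeneralLinearGroup (Fin 2) F) := Fintype.ofFinite _
  have : Fintype (Cfsg.IrrCharacter (Matrix.GeneralLinearGroup (Fin 2) F)) := Fintype.ofFinite _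
  have : Fintype (Cfsg.Agent.Lib.helper43.UGL F) := Fintype.ofFinite _
  obtain ⟨m, r, hdeg, hval, hcls, -⟩ := Cfsg.Agent.Lib.helper43.gl2_classification F
  have hq : 2 ≤ Fintype.card F := Fintype.one_lt_card
  have hq1 : ((Fintype.card F - 1 : ℕ) : ℂ) = (Fintype.card F : ℂ) - 1 := by
    rw [Nat.cast_sub (by omega)]
    simp
  have hd := hdeg ⟨χ, hχ⟩
  have hv := hval ⟨χ, hχ⟩
  have hc := hcls ⟨χ, hχ⟩
  simp only at hd hv
  have hchar := Cfsg.Agent.Lib.helper4.isCharacter_of_isIrrCharacter hχ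
  have hcf := Cfsg.Agent.Lib.helper4.isClassFunction_of_isCharacter hchar
  have hsum := Cfsg.Agent.Lib.helper43.sum_UGL χ hcf
  constructor
  · intro h1 h01 h10 hne
    by_cases hq3 : 3 ≤ Fintype.card F
    · obtain ⟨-, -, -, k4⟩ := Cfsg.Agent.Lib.helper43.deg_iff_type (Fintype.card F) hq3
        (m ⟨χ, hχ⟩) (r ⟨χ, hχ⟩) (χ 1) hd hc
      obtain ⟨hr, hm⟩ := k4.1 h1
      have hsum0 : ∑ u : Cfsg.Agent.Lib.helper43.UGL F,
          χ (u : Matrix.GeneralLinearGroup (Fin 2) F) = 0 := by
        rw [hsum, hv, hd, hr, hm]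
        push_cast
        ring
      have h0 := Cfsg.Agent.Lib.helper43.sum_mul_eq_zero_of_sum_eq_zero hchar
        (Cfsg.Agent.Lib.helper43.UGL F) hsum0 g
      rw [Cfsg.Agent.Lib.helper43.sum_UGL_mul_diag χ hcf g h01 h10 hne] at h0
      rcases mul_eq_zero.1 h0 with h2 | h2
      · exfalso
        have : Fintype.card F = 0 := by exact_mod_cast h2
        omega
      · exact h2
    · exfalso
      have hq2 : Fintype.card F = 2 := by omega
      have hdet : (g : Matrix (Fin 2) (Fin 2) F).det ≠ 0 :=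
        Matrix.GeneralLinearGroup.det_ne_zero g
      rw [Matrix.det_fin_two, h01, h10] at hdet
      have hx : (g : Matrix (Fin 2) (Fin 2) F) 0 0 ≠ 0 := by
        intro h0; apply hdet; rw [h0]; ring
      have hy : (g : Matrix (Fin 2) (Fin 2) F) 1 1 ≠ 0 := by
        intro h0; apply hdet; rw [h0]; ring
      have hcard : Fintype.card Fˣ = 1 := by rw [Fintype.card_units, hq2]
      have hsub : Subsingleton Fˣ := Fintype.card_le_one_iff_subsingleton.1 hcard.le
      have := congrArg (fun u : Fˣ => (u : F)) (Subsingleton.elim (Units.mk0 _ hx) (Units.mk0 _ hy))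
      exact hne this
  · intro h1 hell
    have hnat : m ⟨χ, hχ⟩ + (Fintype.card F - 1) * r ⟨χ, hχ⟩ = Fintype.card F + 1 := by
      rw [hd, ← hq1] at h1
      exact_mod_cast h1
    have hm : r ⟨χ, hχ⟩ = 1 ∧ m ⟨χ, hχ⟩ = 2 := by
      rcases hc with ⟨hr, hm⟩ | ⟨hr, hm⟩
      · rw [hr, hm] at hnat
        omega
      · rw [hr] at hnat
        refine ⟨hr, ?_⟩
        omega
    have hsum_ne : ∑ u : Cfsg.Agent.Lib.helper43.UGL F,
        χ (u : Matrix.GeneralLinearGroup (Fin 2) F) ≠ 0 := by
      rw [hsum, hv, hd, hm.1, hm.2]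
      have : (2 : ℂ) * (Fintype.card F : ℂ) ≠ 0 := by
        have : 2 * Fintype.card F ≠ 0 := by omega
        exact_mod_cast this
      intro h0
      apply this
      rw [← h0]
      push_cast
      ring
    obtain ⟨c, ψ, hψ, hind⟩ := Cfsg.Agent.Lib.helper43.exists_hom_indFun_eq_add hχ
      (Cfsg.upperTriangularGL 2 F) (Cfsg.Agent.Lib.helper43.UGL F)
      Cfsg.Agent.Lib.helper43.UGL_le_upper Cfsg.Agent.Lib.helper43.upper_comm_mod_UGL hsum_ne
    obtain ⟨k, hk⟩ := Cfsg.Agent.Lib.helper4.exists_nat_degree hψ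
    have hone := congrFun hind 1
    rw [Cfsg.Agent.Lib.helper4.indFun_one, Pi.add_apply, h1, hk] at hone
    simp only [map_one, Units.val_one, mul_one] at hone
    have hone' : (Cfsg.upperTriangularGL 2 F).index = Fintype.card F + 1 + k := by
      exact_mod_cast hone
    have hk0 : k = 0 := by
      have := Cfsg.Agent.Lib.helper43.index_upperGL_le (F := F)
      omega
    rw [hk0] at hk
    have hψ0 := Cfsg.Agent.Lib.helper43.isCharacter_eq_zero_of_one hψ (by simpa using hk)
    have hg := congrFun hind g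
    rw [Cfsg.Agent.Lib.helper43.indFun_eq_zero_of_forall_not_mem _ _ g
      (Cfsg.Agent.Lib.helper43.elliptic_not_conj_upper g hell), hψ0] at hg
    simpa using hg.symm

end Cfsg.Agent.S2309
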