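import Cfsg.Statements.S2310
import Cfsg.Agent.Lib.helper43.GL2Deg

set_option autoImplicit false
open Cfsg

namespace Cfsg.Agent.S2310

/-- Over a finite field F with q ≥ 3 elements, let u be the upper unitriangular matrix of GL₂ with off-diagonal entry 1. An irreducible complex character χ of GL₂ takes at u the value 1 if χ has degree 1 or q + 1, the value −1 if χ has degree q − 1, and the value 0 if χ has degree q. -/
theorem result {F : Type*} [Field F] [Fintype F] (hq : 3 ≤ Fintype.card F) (χ : Matrix.GeneralLinearGroup (Fin 2) F → ℂ) (hχ : Cfsg.IsIrrCharacter (Matrix.GeneralLinearGroup (Fin 2) F) χ)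
    (u : Matrix.GeneralLinearGroup (Fin 2) F) (hu : (u : Matrix (Fin 2) (Fin 2) F) = !![1, 1; 0, 1]) :
    (χ 1 = 1 → χ u = 1) ∧ (χ 1 = (Fintype.card F : ℂ) + 1 → χ u = 1) ∧
    (χ 1 = (Fintype.card F : ℂ) - 1 → χ u = -1) ∧ (χ 1 = (Fintype.card F : ℂ) → χ u = 0) := by
  classical
  have : Fintype (Matrix.GeneralLinearGroup (Fin 2) F) := Fintype.ofFinite _
  have : Fintype (Cfsg.IrrCharacter (Matrix.GeneralLinearGroup (Fin 2) F)) := Fintype.ofFinite _
  obtain ⟨m, r, hdeg, hval, hcls, -⟩ := Cfsg.Agent.Lib.helper43.gl2_classification F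
  have hu1 : u = Cfsg.Agent.Lib.helper43.uGL 1 := by
    apply Units.ext
    rw [hu]
    rfl
  have hd := hdeg ⟨χ, hχ⟩
  have hv := hval ⟨χ, hχ⟩
  simp only at hd hv
  obtain ⟨k1, k2, k3, k4⟩ := Cfsg.Agent.Lib.helper43.deg_iff_type (Fintype.card F) hq
    (m ⟨χ, hχ⟩) (r ⟨χ, hχ⟩) (χ 1) hd (hcls ⟨χ, hχ⟩)
  rw [hu1, hv]
  refine ⟨?_, ?_, ?_, ?_⟩
  · intro h
    have hr := k1.1 h
    rcases hcls ⟨χ, hχ⟩ with ⟨-, hm⟩ | ⟨hr', -⟩
    · rw [hr, hm]; simp
    · omega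
  · intro h
    obtain ⟨hr, hm⟩ := k3.1 h
    rw [hr, hm]; norm_num
  · intro h
    obtain ⟨hr, hm⟩ := k4.1 h
    rw [hr, hm]; norm_num
  · intro h
    obtain ⟨hr, hm⟩ := k2.1 h
    rw [hr, hm]; norm_num

end Cfsg.Agent.S2310
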