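import Cfsg.Statements.S2315
-- import your own Cfsg.Agent.* helpers here
import Cfsg.Agent.Lib.helper44.NilCount

set_option autoImplicit false
open Cfsg

namespace Cfsg.Agent.S2315

open Cfsg.Agent.Lib.helper44

/-- Steinberg's count of unipotent elements for the general linear group: over a finite field with q elements of characteristic p, the number of elements of GL_n of p-power order (the unipotent matrices) is q^(n(n−1)). -/
theorem result {F : Type*} [Field F] [Fintype F] (p : ℕ) [Fact p.Prime] [CharP F p] (n : ℕ) :
    Nat.card {g : Matrix.GeneralLinearGroup (Fin n) F // ∃ k : ℕ, orderOf g = p ^ k} = Fintype.card F ^ (n * (n - 1)) := by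
  classical
  have hp : p.Prime := Fact.out
  rw [← card_nilpotent_matrix (F := F) n]
  refine Nat.card_congr
    { toFun := fun g => ⟨(g.1 : Matrix (Fin n) (Fin n) F) - 1, by
        obtain ⟨k, hk⟩ := g.2
        have h1 : g.1 ^ p ^ k = 1 := by
          rw [← hk]
          exact pow_orderOf_eq_one _
        exact ⟨p ^ k, sub_one_pow_eq_zero_of_pow_eq_one p g.1 k h1⟩⟩
      invFun := fun N => ⟨(N.2.isUnit_add_one).unit, by
        have hnil : IsNilpotent ((((N.2.isUnit_add_one).unit :
            Matrix.GeneralLinearGroup (Fin n) F) : Matrix (Fin n) (Fin n) F) - 1) := by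
          rw [IsUnit.unit_spec, add_sub_cancel_right]
          exact N.2
        have hle : Fintype.card (Fin n) ≤ p ^ n := by
          rw [Fintype.card_fin]
          exact (Nat.lt_pow_self hp.one_lt).le
        have h1 := pow_eq_one_of_sub_one_isNilpotent p _ hnil n hle
        obtain ⟨j, -, hj⟩ := (Nat.dvd_prime_pow hp).mp (orderOf_dvd_of_pow_eq_one h1)
        exact ⟨j, hj⟩⟩
      left_inv := fun g => by
        apply Subtype.ext
        apply Units.ext
        simp
      right_inv := fun N => by
        apply Subtype.ext
        simp }

end Cfsg.Agent.S2315
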