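import Cfsg.Statements.S2317
import Cfsg.Agent.S2570

set_option autoImplicit false
open Cfsg

namespace Cfsg.Agent.S2317

open Matrix Polynomial Cfsg.Agent.Lib.helper48 Cfsg.Agent.S2570

section Main
variable {F : Type*} [Field F] {p : ℕ} [Fact p.Prime] [CharP F p]

theorem sub_one_pow_char_pow {n : ℕ} (A : Matrix (Fin n) (Fin n) F) (k : ℕ) :
    (A - 1) ^ (p ^ k) = A ^ (p ^ k) - 1 := by
  rcases Nat.eq_zero_or_pos n with rfl | hn
  · exact Subsingleton.elim _ _
  · have : Nonempty (Fin n) := ⟨⟨0, hn⟩⟩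
    have := sub_pow_char_pow_of_commute (p := p) (n := k) (Commute.one_right A)
    rw [one_pow] at this
    exact this

/-- unipotent matrices have a Jordan type -/
theorem exists_partition_of_unipotent {n : ℕ} (A : Matrix (Fin n) (Fin n) F) (N : ℕ)
    (hN : (A - 1) ^ N = 0) :
    ∃ μ : Nat.Partition n, ∀ k, ((A - 1) ^ k).rank = Rfun μ.parts k := by
  classical
  obtain ⟨ι, _, q, e, hq, hdec⟩ := exists_hasDecomp_irreducible (Matrix.toLin' A)
  have hirr : Irreducible (X - C 1 : F[X]) := irreducible_X_sub_C 1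
  have hdvd : ∀ i, q i ^ e i ∣ (X - C 1 : F[X]) ^ N := by
    intro i
    apply HasDecomp.dvd_of_aeval_eq_zero _ _ hdec
    rw [aeval_toLin', map_pow, map_sub, aeval_X, aeval_C, map_one, hN, map_zero]
  have hassoc : ∀ i, e i ≠ 0 → Associated (q i) (X - C 1 : F[X]) := by
    intro i hi
    have h1 : q i ∣ (X - C 1 : F[X]) ^ N := (dvd_pow_self (q i) hi).trans (hdvd i)
    exact (hq i).associated_of_dvd hirr ((hq i).prime.dvd_of_dvd_pow h1)
  have hdec' : HasDecomp (Matrix.toLin' A) (fun i => (X - C 1 : F[X]) ^ e i) := by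
    apply HasDecomp.congr _ _ _ _ hdec
    intro i
    by_cases hi : e i = 0
    · rw [hi, pow_zero, pow_zero]
    · rw [Ideal.span_singleton_eq_span_singleton]
      exact (hassoc i hi).pow_pow
  have hrank : ∀ k, ((A - 1) ^ k).rank = ∑ i, (e i - k) := rank_of_hasDecomp A e hdec'
  have hR : ∀ k, Rfun ((Finset.univ.val.map e).filter (· ≠ 0)) k = ∑ i, (e i - k) := by
    intro k
    rw [Rfun_filter]
    unfold Rfun
    rw [Multiset.map_map]
    rfl
  have hsum : ((Finset.univ.val.map e).filter (· ≠ 0)).sum = n := by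
    rw [← Rfun_zero, hR 0, ← hrank 0, pow_zero, Matrix.rank_one, Fintype.card_fin]
  refine ⟨⟨(Finset.univ.val.map e).filter (· ≠ 0), ?_, hsum⟩, ?_⟩
  · intro a ha
    exact Nat.pos_of_ne_zero (Multiset.mem_filter.1 ha).2
  · intro k
    rw [hrank k, hR k]

/-- every Jordan type occurs -/
theorem exists_of_partition' {n : ℕ} (μ : Nat.Partition n) :
    ∃ g : GL (Fin n) F, (∃ k : ℕ, orderOf g = p ^ k) ∧
      ∀ k, (((g : Matrix (Fin n) (Fin n) F) - 1) ^ k).rank = Rfun μ.parts k := by
  classical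
  have hp : p.Prime := Fact.out
  have hirr : Irreducible (X - C 1 : F[X]) := irreducible_X_sub_C 1
  let e : μ.parts.ToType → ℕ := fun x => x.1
  have hmap : ∀ φ : ℕ → ℕ, ∑ x : μ.parts.ToType, φ (e x) = (μ.parts.map φ).sum := by
    intro φ
    rw [Finset.sum_eq_multiset_sum]
    have : (Finset.univ : Finset μ.parts.ToType).val.map (fun x => φ (e x))
        = ((Finset.univ : Finset μ.parts.ToType).val.map (fun x => x.1)).map φ := by
      rw [Multiset.map_map]; rfl
    rw [this, Multiset.map_univ_coe]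
  have hn : ∑ x : μ.parts.ToType, ((X - C 1 : F[X]) ^ e x).natDegree = n := by
    simp only [natDegree_pow, natDegree_X_sub_C, mul_one]
    have := hmap id
    simp only [id, Multiset.map_id'] at this
    rw [this, μ.parts_sum]
  obtain ⟨A, hdec⟩ := exists_matrix_hasDecomp (fun x : μ.parts.ToType => (X - C 1 : F[X]) ^ e x)
    (fun x => pow_ne_zero _ hirr.ne_zero) n hn
  have hrank : ∀ k, ((A - 1) ^ k).rank = Rfun μ.parts k := by
    intro k
    rw [rank_of_hasDecomp A e hdec k]
    exact hmap (fun a => a - k)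
  have hNn : (A - 1) ^ n = 0 := by
    by_contra hne
    have h3 := Cfsg.Agent.S2577.rank_pos_of_ne_zero _ hne
    rw [hrank n] at h3
    have h4 : Rfun μ.parts n = 0 := by
      unfold Rfun
      apply Multiset.sum_eq_zero
      intro x hx
      obtain ⟨a, ha, rfl⟩ := Multiset.mem_map.1 hx
      have := Nat.Partition.le_of_mem_parts ha
      omega
    omega
  have hNp : (A - 1) ^ (p ^ n) = 0 :=
    pow_eq_zero_of_le (Nat.lt_pow_self hp.one_lt).le hNn
  have hAp : A ^ (p ^ n) = 1 := by
    have := sub_one_pow_char_pow (p := p) A n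
    rw [hNp] at this
    exact (sub_eq_zero.1 this.symm)
  have hp1 : p ^ n = (p ^ n - 1) + 1 := by have := pow_pos hp.pos n; omega
  let g : GL (Fin n) F := ⟨A, A ^ (p ^ n - 1), by rw [← pow_succ', ← hp1, hAp], by
    rw [← pow_succ, ← hp1, hAp]⟩
  refine ⟨g, ?_, hrank⟩
  have hg : g ^ (p ^ n) = 1 := by
    apply Units.ext
    rw [Units.val_pow_eq_pow_val, Units.val_one]
    exact hAp
  obtain ⟨j, -, hj⟩ := (Nat.dvd_prime_pow hp).1 (orderOf_dvd_of_pow_eq_one hg)
  exact ⟨j, hj⟩

theorem unipotent_of_order {n : ℕ} (g : GL (Fin n) F) (k : ℕ) (hg : orderOf g = p ^ k) :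
    ((g : Matrix (Fin n) (Fin n) F) - 1) ^ (p ^ k) = 0 := by
  have h1 : g ^ (p ^ k) = 1 := by rw [← hg]; exact pow_orderOf_eq_one g
  have h2 := congrArg (fun u : GL (Fin n) F => (u : Matrix (Fin n) (Fin n) F)) h1
  simp only [Units.val_pow_eq_pow_val, Units.val_one] at h2
  rw [sub_one_pow_char_pow, h2, sub_self]

/-- unipotent elements with the same rank sequence are conjugate -/
theorem isConj_of_rank_eq' {n : ℕ} (g g' : GL (Fin n) F) (N : ℕ)
    (hg : ((g : Matrix (Fin n) (Fin n) F) - 1) ^ N = 0)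
    (hg' : ((g' : Matrix (Fin n) (Fin n) F) - 1) ^ N = 0)
    (h : ∀ k, (((g : Matrix (Fin n) (Fin n) F) - 1) ^ k).rank
      = (((g' : Matrix (Fin n) (Fin n) F) - 1) ^ k).rank) : IsConj g g' := by
  have hirr : Irreducible (X - C 1 : F[X]) := irreducible_X_sub_C 1
  have hann : ∀ M : Matrix (Fin n) (Fin n) F, (M - 1) ^ N = 0 →
      aeval M ((X - C 1 : F[X]) ^ N) = 0 := by
    intro M hM
    rw [map_pow, map_sub, aeval_X, aeval_C, map_one, hM]
  obtain ⟨P, hP, e⟩ := exists_conj_matrix_of_annihilated (g : Matrix (Fin n) (Fin n) F)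
    (g' : Matrix (Fin n) (Fin n) F) ((X - C 1 : F[X]) ^ N) (hann _ hg) (hann _ hg')
    (by
      intro q hq hqm hqf k
      have hqe : q = X - C 1 :=
        eq_of_monic_of_associated hqm (monic_X_sub_C 1)
          (hq.associated_of_dvd hirr (hq.prime.dvd_of_dvd_pow hqf))
      subst hqe
      simp only [map_pow, map_sub, aeval_X, map_one]
      exact h k)
  rw [isConj_iff]
  refine ⟨hP.unit, ?_⟩
  rw [mul_inv_eq_iff_eq_mul]
  apply Units.ext
  simp only [Units.val_mul, IsUnit.unit_spec]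
  exact e

end Main

/-- Over a finite field of characteristic p, the conjugacy classes of GL_n consisting of elements of p-power order (the unipotent classes) are as many as the partitions of n. -/
theorem result {F : Type*} [Field F] [Fintype F] (p : ℕ) [Fact p.Prime] [CharP F p] (n : ℕ) :
    Nat.card {C : ConjClasses (Matrix.GeneralLinearGroup (Fin n) F) //
      ∃ g : Matrix.GeneralLinearGroup (Fin n) F, (∃ k : ℕ, orderOf g = p ^ k) ∧ ConjClasses.mk g = C} =
      Fintype.card (Nat.Partition n) := by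
  classical
  have hp : p.Prime := Fact.out
  choose G hGord hGrank using fun μ : Nat.Partition n => exists_of_partition' (F := F) (p := p) μ
  rw [← Nat.card_eq_fintype_card]
  symm
  refine Nat.card_congr (Equiv.ofBijective
    (fun μ : Nat.Partition n =>
      (⟨ConjClasses.mk (G μ), G μ, hGord μ, rfl⟩ :
        {C : ConjClasses (Matrix.GeneralLinearGroup (Fin n) F) //
          ∃ g : Matrix.GeneralLinearGroup (Fin n) F, (∃ k : ℕ, orderOf g = p ^ k) ∧ ConjClasses.mk g = C}))
    ⟨?_, ?_⟩)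
  · intro μ μ' h
    have h1 : ConjClasses.mk (G μ) = ConjClasses.mk (G μ') := congrArg Subtype.val h
    rw [ConjClasses.mk_eq_mk_iff_isConj] at h1
    apply partition_ext_of_Rfun
    intro k
    rw [← hGrank μ k, ← hGrank μ' k]
    exact rank_eq_of_isConj _ _ h1 k
  · rintro ⟨C, g, ⟨k, hg⟩, rfl⟩
    obtain ⟨μ, h3⟩ := exists_partition_of_unipotent (g : Matrix (Fin n) (Fin n) F) (p ^ k)
      (unipotent_of_order g k hg)
    refine ⟨μ, ?_⟩
    apply Subtype.ext
    show ConjClasses.mk (G μ) = ConjClasses.mk g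
    rw [ConjClasses.mk_eq_mk_iff_isConj]
    obtain ⟨k', hk'⟩ := hGord μ
    have hu1 := unipotent_of_order (G μ) k' hk'
    have hu2 := unipotent_of_order g k hg
    apply isConj_of_rank_eq' (G μ) g (p ^ k' + p ^ k)
      (pow_eq_zero_of_le (Nat.le_add_right _ _) hu1) (pow_eq_zero_of_le (Nat.le_add_left _ _) hu2)
    intro j
    rw [hGrank, h3]

end Cfsg.Agent.S2317
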