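import Cfsg.Statements.S2320
import Cfsg.Agent.Lib.helper43.GL2Values

set_option autoImplicit false
open Cfsg

namespace Cfsg.Agent.S2320

/-- Over a finite field F with q elements, every irreducible complex character of GL₂ of degree q takes a value of absolute value 1 at every diagonal matrix with two different diagonal entries and at every element with no eigenvector in F². -/
theorem result {F : Type*} [Field F] [Fintype F] (χ : Matrix.GeneralLinearGroup (Fin 2) F → ℂ) (hχ : Cfsg.IsIrrCharacter (Matrix.GeneralLinearGroup (Fin 2) F) χ) (hdeg : χ 1 = (Fintype.card F : ℂ)) (g : Matrix.GeneralLinearGroup (Fin 2) F) :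
    ((g : Matrix (Fin 2) (Fin 2) F) 0 1 = 0 → (g : Matrix (Fin 2) (Fin 2) F) 1 0 = 0 → (g : Matrix (Fin 2) (Fin 2) F) 0 0 ≠ (g : Matrix (Fin 2) (Fin 2) F) 1 1 → ‖χ g‖ = 1) ∧
    ((∀ (c : F) (v : Fin 2 → F), v ≠ 0 → (g : Matrix (Fin 2) (Fin 2) F).mulVec v ≠ c • v) → ‖χ g‖ = 1) := by
  classical
  have : Fintype (Matrix.GeneralLinearGroup (Fin 2) F) := Fintype.ofFinite _
  have : Fintype (Cfsg.IrrCharacter (Matrix.GeneralLinearGroup (Fin 2) F)) := Fintype.ofFinite _
  have : Fintype (Cfsg.Agent.Lib.helper43.UGL F) := Fintype.ofFinite _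
  obtain ⟨m, r, hdeg', hval, hcls, -⟩ := Cfsg.Agent.Lib.helper43.gl2_classification F
  have hq : 2 ≤ Fintype.card F := Fintype.one_lt_card
  have hq1 : ((Fintype.card F - 1 : ℕ) : ℂ) = (Fintype.card F : ℂ) - 1 := by
    rw [Nat.cast_sub (by omega)]
    simp
  have hd := hdeg' ⟨χ, hχ⟩
  have hv := hval ⟨χ, hχ⟩
  have hc := hcls ⟨χ, hχ⟩
  simp only at hd hv
  have hchar := Cfsg.Agent.Lib.helper4.isCharacter_of_isIrrCharacter hχ
  have hcf := Cfsg.Agent.Lib.helper4.isClassFunction_of_isCharacter hchar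
  have hsum := Cfsg.Agent.Lib.helper43.sum_UGL χ hcf
  have hnat : m ⟨χ, hχ⟩ + (Fintype.card F - 1) * r ⟨χ, hχ⟩ = Fintype.card F := by
    rw [hd, ← hq1] at hdeg
    exact_mod_cast hdeg
  have hm : r ⟨χ, hχ⟩ = 1 ∧ m ⟨χ, hχ⟩ = 1 := by
    rcases hc with ⟨hr, hm⟩ | ⟨hr, hm⟩
    · rw [hr, hm] at hnat
      omega
    · rw [hr] at hnat
      refine ⟨hr, ?_⟩
      omega
  have hsumU : ∑ u : Cfsg.Agent.Lib.helper43.UGL F,
      χ (u : Matrix.GeneralLinearGroup (Fin 2) F) = (Fintype.card F : ℂ) := by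
    rw [hsum, hv, hd, hm.1, hm.2]
    push_cast
    ring
  have hq0 : (Fintype.card F : ℂ) ≠ 0 := by
    have : Fintype.card F ≠ 0 := by omega
    exact_mod_cast this
  constructor
  · intro h01 h10 hne
    have hgB : g ∈ Cfsg.upperTriangularGL 2 F :=
      (Cfsg.Agent.Lib.helper43.mem_upperGL_iff g).2 h10
    have hg : ∀ u ∈ Cfsg.Agent.Lib.helper43.UGL F, g⁻¹ * u * g ∈ Cfsg.Agent.Lib.helper43.UGL F :=
      Cfsg.Agent.Lib.helper43.conj_mem_of_comm_mod _ _ Cfsg.Agent.Lib.helper43.UGL_le_upper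
        Cfsg.Agent.Lib.helper43.upper_comm_mod_UGL g hgB
    have hsumU' : ∑ u : Cfsg.Agent.Lib.helper43.UGL F,
        χ (u : Matrix.GeneralLinearGroup (Fin 2) F) =
          (Nat.card (Cfsg.Agent.Lib.helper43.UGL F) : ℂ) := by
      rw [hsumU, Cfsg.Agent.Lib.helper43.card_UGL, Nat.card_eq_fintype_card]
    obtain ⟨z, hz, hs⟩ := Cfsg.Agent.Lib.helper43.exists_norm_one_sum_mul hchar
      (Cfsg.Agent.Lib.helper43.UGL F) hsumU' g hg
    rw [Cfsg.Agent.Lib.helper43.sum_UGL_mul_diag χ hcf g h01 h10 hne,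
      Cfsg.Agent.Lib.helper43.card_UGL, Nat.card_eq_fintype_card] at hs
    rw [mul_left_cancel₀ hq0 hs]
    exact hz
  · intro hell
    have hsum_ne : ∑ u : Cfsg.Agent.Lib.helper43.UGL F,
        χ (u : Matrix.GeneralLinearGroup (Fin 2) F) ≠ 0 := by
      rw [hsumU]
      exact hq0
    obtain ⟨c, ψ, hψ, hind⟩ := Cfsg.Agent.Lib.helper43.exists_hom_indFun_eq_add hχ
      (Cfsg.upperTriangularGL 2 F) (Cfsg.Agent.Lib.helper43.UGL F)
      Cfsg.Agent.Lib.helper43.UGL_le_upper Cfsg.Agent.Lib.helper43.upper_comm_mod_UGL hsum_ne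
    have hone := congrFun hind 1
    rw [Cfsg.Agent.Lib.helper4.indFun_one, Pi.add_apply, hdeg,
      Cfsg.Agent.Lib.helper43.index_upperGL] at hone
    simp only [map_one, Units.val_one, mul_one] at hone
    have hψ1 : ψ 1 = 1 := by
      push_cast at hone
      linear_combination -hone
    obtain ⟨f, hf⟩ := Cfsg.Agent.Lib.helper19.exists_hom_of_linear ψ hψ hψ1
    have hg := congrFun hind g
    rw [Cfsg.Agent.Lib.helper43.indFun_eq_zero_of_forall_not_mem _ _ g
      (Cfsg.Agent.Lib.helper43.elliptic_not_conj_upper g hell), Pi.add_apply, hf g] at hg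
    have hχg : χ g = -((f g : ℂˣ) : ℂ) := by linear_combination -hg
    rw [hχg, norm_neg]
    exact Cfsg.Agent.Lib.helper43.hom_norm_eq_one f g

end Cfsg.Agent.S2320
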