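import Cfsg.Statements.S2321
import Cfsg.Agent.Lib.helper43.SL2Steinberg

set_option autoImplicit false
open Cfsg

namespace Cfsg.Agent.S2321

/-- Over a finite field F with q elements, an irreducible complex character of SL₂ of degree q (the Steinberg character) takes the value 1 at every diagonal matrix whose diagonal entry a has a² ≠ 1, the value −1 at every element with no eigenvector in F², and the value 0 at every upper triangular matrix with equal diagonal entries and non-zero upper right entry. -/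
theorem result {F : Type*} [Field F] [Fintype F] (χ : Matrix.SpecialLinearGroup (Fin 2) F → ℂ) (hχ : Cfsg.IsIrrCharacter (Matrix.SpecialLinearGroup (Fin 2) F) χ) (hdeg : χ 1 = (Fintype.card F : ℂ)) (g : Matrix.SpecialLinearGroup (Fin 2) F) :
    ((g : Matrix (Fin 2) (Fin 2) F) 0 1 = 0 → (g : Matrix (Fin 2) (Fin 2) F) 1 0 = 0 → (g : Matrix (Fin 2) (Fin 2) F) 0 0 ^ 2 ≠ 1 → χ g = 1) ∧
    ((∀ (c : F) (v : Fin 2 → F), v ≠ 0 → (g : Matrix (Fin 2) (Fin 2) F).mulVec v ≠ c • v) → χ g = -1) ∧
    ((g : Matrix (Fin 2) (Fin 2) F) 1 0 = 0 → (g : Matrix (Fin 2) (Fin 2) F) 0 0 = (g : Matrix (Fin 2) (Fin 2) F) 1 1 → (g : Matrix (Fin 2) (Fin 2) F) 0 1 ≠ 0 → χ g = 0) := by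
  classical
  have : Fintype (Matrix.SpecialLinearGroup (Fin 2) F) := Fintype.ofFinite _
  have : Fintype (Cfsg.IrrCharacter (Matrix.SpecialLinearGroup (Fin 2) F)) := Fintype.ofFinite _
  have : Fintype (Cfsg.Agent.Lib.helper43.BSL F) := Fintype.ofFinite _
  have hq2 : 2 ≤ Fintype.card F := Fintype.one_lt_card
  have hcf := Cfsg.Agent.Lib.helper4.isClassFunction_of_isCharacter
    (Cfsg.Agent.Lib.helper4.isCharacter_of_isIrrCharacter hχ)
  -- the sum over the unipotent subgroup
  have hU : ∑ b : F, χ (Cfsg.Agent.Lib.helper43.uSL b) = (Fintype.card F : ℂ) := by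
    by_cases h2 : ringChar F = 2
    · haveI : CharP F 2 := ringChar.of_eq h2
      obtain ⟨m, r, hdeg', hval, hcls, -⟩ := Cfsg.Agent.Lib.helper43.sl2_even_classification F
      have hd := hdeg' ⟨χ, hχ⟩
      have hv := hval ⟨χ, hχ⟩
      simp only at hd hv
      rw [hdeg] at hd
      have hr : r ⟨χ, hχ⟩ = 1 ∧ m ⟨χ, hχ⟩ = 1 := by
        rcases hcls ⟨χ, hχ⟩ with ⟨hr, hm⟩ | ⟨hr, hm⟩
        · exfalso
          rw [hr, hm] at hd
          simp only [Nat.cast_one, Nat.cast_zero, mul_zero, add_zero] at hd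
          have : Fintype.card F = 1 := by exact_mod_cast hd
          omega
        · refine ⟨hr, ?_⟩
          rw [hr] at hd
          have : (m ⟨χ, hχ⟩ : ℂ) = 1 := by
            push_cast at hd
            linear_combination -hd
          exact_mod_cast this
      rw [hr.1, hr.2] at hv
      have hvb : ∀ b : F, b ≠ 0 → χ (Cfsg.Agent.Lib.helper43.uSL b) = 0 := by
        intro b hb
        obtain ⟨x, hx⟩ := Cfsg.Agent.Lib.helper43.USL_conj_even (Cfsg.Agent.Lib.helper43.uSL b)
          (Cfsg.Agent.Lib.helper43.uSL_mem b)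
          (fun h => hb (Cfsg.Agent.Lib.helper43.uSL_injective
            (h.trans Cfsg.Agent.Lib.helper43.uSL_zero.symm)))
        rw [← hx, hcf (Cfsg.Agent.Lib.helper43.uSL 1) x, hv]
        simp
      rw [← Finset.add_sum_erase Finset.univ _ (Finset.mem_univ (0 : F)),
        Cfsg.Agent.Lib.helper43.uSL_zero, hdeg, Finset.sum_eq_zero, add_zero]
      intro b hb
      exact hvb b (Finset.ne_of_mem_erase hb)
    · have hodd : Odd (Fintype.card F) := by
        rw [Nat.odd_iff]
        have := (FiniteField.even_card_iff_char_two (F := F)).not.1 h2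
        omega
      obtain ⟨k, hk⟩ := hodd
      obtain ⟨ψ, hψ1⟩ := AddChar.exists_apply_ne_zero.2 (one_ne_zero : (1 : F) ≠ 0)
      have hψ : ψ ≠ 1 := by
        rintro rfl
        exact hψ1 (by simp)
      obtain ⟨ε, hε⟩ := FiniteField.exists_nonsquare h2
      obtain ⟨m, rp, rm, hdeg', -, -, hsumU, hcls, -, hhalf, -⟩ :=
        Cfsg.Agent.Lib.helper43.sl2_odd_classification k hk ψ hψ ε hε
      have hd := hdeg' ⟨χ, hχ⟩
      simp only at hd
      rw [hdeg, hk] at hd
      have hd' : 2 * k + 1 = m ⟨χ, hχ⟩ + k * (rp ⟨χ, hχ⟩ + rm ⟨χ, hχ⟩) := by exact_mod_cast hd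
      have hk1 : 1 ≤ k := by omega
      have hm : m ⟨χ, hχ⟩ = 1 := by
        rcases hcls ⟨χ, hχ⟩ with ⟨e1, e2, e3⟩ | ⟨e1, e2⟩ | ⟨e1, e2⟩ | ⟨e1, e2, e3⟩
        · rw [e1, e2] at hd'
          omega
        · rw [e1, e2] at hd'
          have := hhalf ⟨χ, hχ⟩ (by omega)
          omega
        · rw [e1, e2] at hd'
          have := hhalf ⟨χ, hχ⟩ (by omega)
          omega
        · rw [e1, e2] at hd'
          omega
      have := hsumU ⟨χ, hχ⟩
      rw [hm] at this
      simpa using this
  obtain ⟨f, hf⟩ := Cfsg.Agent.Lib.helper43.degree_q_eq_linear_mul χ hχ hdeg hU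
  have hdet := Cfsg.Agent.Lib.helper43.sl2_det g
  refine ⟨?_, ?_, ?_⟩
  · intro h01 h10 hne
    rw [h01, zero_mul, sub_zero] at hdet
    have h00 : (g : Matrix (Fin 2) (Fin 2) F) 0 0 ≠ 0 := by
      intro h
      rw [h, zero_mul] at hdet
      exact zero_ne_one hdet
    have h11 : (g : Matrix (Fin 2) (Fin 2) F) 1 1 ≠ 0 := by
      intro h
      rw [h, mul_zero] at hdet
      exact zero_ne_one hdet
    have hne' : (g : Matrix (Fin 2) (Fin 2) F) 0 0 ≠ (g : Matrix (Fin 2) (Fin 2) F) 1 1 := by
      intro h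
      apply hne
      rw [pow_two]
      rw [← h] at hdet
      exact hdet
    have hq4 : 4 ≤ Fintype.card F := by
      by_contra hlt
      push Not at hlt
      have hpow := FiniteField.pow_card_sub_one_eq_one _ h00
      rcases (by omega : Fintype.card F = 2 ∨ Fintype.card F = 3) with h | h
      · rw [h] at hpow
        apply hne
        have h1 : (g : Matrix (Fin 2) (Fin 2) F) 0 0 = 1 := by simpa using hpow
        rw [h1]
        norm_num
      · rw [h] at hpow
        exact hne hpow
    rw [hf g, Cfsg.Agent.Lib.helper43.sl2_hom_eq_one hq4 f g,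
      Cfsg.Agent.Lib.helper43.indFun_alphaB_diag 1 g h01 h10 hne',
      MulChar.one_apply h00.isUnit, MulChar.one_apply h11.isUnit]
    norm_num
  · intro hell
    have hfg : f g = 1 := by
      by_cases hq4 : 4 ≤ Fintype.card F
      · exact Cfsg.Agent.Lib.helper43.sl2_hom_eq_one hq4 f g
      · exact Cfsg.Agent.Lib.helper43.sl2_hom_elliptic_eq_one (by omega) f g hell
    rw [hf g, hfg, Cfsg.Agent.Lib.helper43.indFun_alphaB_elliptic 1 g hell]
    norm_num
  · intro h10 heq h01
    rw [h10, mul_zero, sub_zero] at hdet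
    have h00 : (g : Matrix (Fin 2) (Fin 2) F) 0 0 ≠ 0 := by
      intro h
      rw [h, zero_mul] at hdet
      exact zero_ne_one hdet
    rw [hf g, Cfsg.Agent.Lib.helper43.indFun_alphaB_unipotent 1 g h10 heq h01,
      MulChar.one_apply h00.isUnit]
    ring

end Cfsg.Agent.S2321
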