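import Cfsg.Statements.S2322
import Cfsg.Agent.Lib.helper43.SL2Elliptic

set_option autoImplicit false
open Cfsg

namespace Cfsg.Agent.S2322

/-- Over a finite field F with q elements, q odd: every irreducible complex character of SL₂ of degree q − 1 or (q − 1)/2 vanishes at every diagonal matrix whose diagonal entry a has a² ≠ 1, and every irreducible complex character of degree q + 1 or (q + 1)/2 vanishes at every element with no eigenvector in F². -/
theorem result {F : Type*} [Field F] [Fintype F] (hodd : Odd (Fintype.card F)) (χ : Matrix.SpecialLinearGroup (Fin 2) F → ℂ) (hχ : Cfsg.IsIrrCharacter (Matrix.SpecialLinearGroup (Fin 2) F) χ) (g : Matrix.SpecialLinearGroup (Fin 2) F) :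
    ((χ 1 = (Fintype.card F : ℂ) - 1 ∨ χ 1 = (((Fintype.card F - 1) / 2 : ℕ) : ℂ)) →
      (g : Matrix (Fin 2) (Fin 2) F) 0 1 = 0 → (g : Matrix (Fin 2) (Fin 2) F) 1 0 = 0 → (g : Matrix (Fin 2) (Fin 2) F) 0 0 ^ 2 ≠ 1 → χ g = 0) ∧
    ((χ 1 = (Fintype.card F : ℂ) + 1 ∨ χ 1 = (((Fintype.card F + 1) / 2 : ℕ) : ℂ)) →
      (∀ (c : F) (v : Fin 2 → F), v ≠ 0 → (g : Matrix (Fin 2) (Fin 2) F).mulVec v ≠ c • v) → χ g = 0) := by
  classical
  have : Fintype (Matrix.SpecialLinearGroup (Fin 2) F) := Fintype.ofFinite _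
  have : Fintype (Cfsg.IrrCharacter (Matrix.SpecialLinearGroup (Fin 2) F)) := Fintype.ofFinite _
  have : Fintype (Cfsg.Agent.Lib.helper43.USL F) := Fintype.ofFinite _
  have hF := Cfsg.Agent.Lib.helper43.ringChar_ne_two_of_odd hodd
  obtain ⟨k, hk⟩ := hodd
  have hk1 : 1 ≤ k := by
    have := Fintype.one_lt_card (α := F)
    omega
  have hq0 : (Fintype.card F : ℂ) ≠ 0 := by exact_mod_cast Fintype.card_ne_zero
  obtain ⟨ψ, hψ1⟩ := AddChar.exists_apply_ne_zero.2 (one_ne_zero : (1 : F) ≠ 0)
  have hψ : ψ ≠ 1 := by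
    rintro rfl
    exact hψ1 (by simp)
  obtain ⟨ε, hε⟩ := FiniteField.exists_nonsquare hF
  obtain ⟨m, rp, rm, hdeg, hsum, hdiff, hsumU, hcls, hL, hhalf, c1, c2, c0, cp1, cm1, cp0, cm0⟩ :=
    Cfsg.Agent.Lib.helper43.sl2_odd_classification k hk ψ hψ ε hε
  have hcf := Cfsg.Agent.Lib.helper4.isClassFunction_of_isCharacter
    (Cfsg.Agent.Lib.helper4.isCharacter_of_isIrrCharacter hχ)
  have hd := hdeg ⟨χ, hχ⟩
  have hU := hsumU ⟨χ, hχ⟩
  have hcl := hcls ⟨χ, hχ⟩
  have hhf := hhalf ⟨χ, hχ⟩
  have hS := hsum ⟨χ, hχ⟩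
  have hD := hdiff ⟨χ, hχ⟩
  simp only at hd hU hS hD
  have hq1 : (Fintype.card F + 1) / 2 = k + 1 := by omega
  have hq2 : (Fintype.card F - 1) / 2 = k := by omega
  rw [hq1, hq2, hk]
  constructor
  · intro hdegc h01 h10 hne
    have hdet := Cfsg.Agent.Lib.helper43.sl2_det g
    rw [h01, zero_mul, sub_zero] at hdet
    by_cases hk2 : 2 ≤ k
    · have hm0 : m ⟨χ, hχ⟩ = 0 := by
        have key := Cfsg.Agent.Lib.helper43.odd_deg_iff_type k hk2 (m ⟨χ, hχ⟩) (rp ⟨χ, hχ⟩)
          (rm ⟨χ, hχ⟩) _ hd hcl hhf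
        rcases hdegc with h | h
        · exact (key.2.2.2.1.1 h).2.2
        · exact (key.2.2.2.2.2.1 h).2
      have hU0 : ∑ u : Cfsg.Agent.Lib.helper43.USL F,
          χ (u : Matrix.SpecialLinearGroup (Fin 2) F) = 0 := by
        rw [Cfsg.Agent.Lib.helper43.sum_USL, hU, hm0]
        simp
      have hgU := Cfsg.Agent.Lib.helper43.sum_mul_eq_zero_of_sum_eq_zero
        (Cfsg.Agent.Lib.helper4.isCharacter_of_isIrrCharacter hχ)
        (Cfsg.Agent.Lib.helper43.USL F) hU0 g
      have hne' : (g : Matrix (Fin 2) (Fin 2) F) 0 0 ≠ (g : Matrix (Fin 2) (Fin 2) F) 1 1 := by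
        intro h
        apply hne
        rw [pow_two]
        rw [← h] at hdet
        exact hdet
      have hterm : ∀ u : Cfsg.Agent.Lib.helper43.USL F,
          χ (g * (u : Matrix.SpecialLinearGroup (Fin 2) F)) = χ g := by
        rintro ⟨_, c, rfl⟩
        obtain ⟨x, hx⟩ := Cfsg.Agent.Lib.helper43.exists_conj_diag_mul_uSL g h01 h10 hne' c
        show χ (g * Cfsg.Agent.Lib.helper43.uSL c) = χ g
        rw [← hx]
        exact hcf g x
      rw [Finset.sum_congr rfl (fun u _ => hterm u), Finset.sum_const, Finset.card_univ,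
        nsmul_eq_mul] at hgU
      rcases mul_eq_zero.1 hgU with h | h
      · exact absurd h (Nat.cast_ne_zero.2 Fintype.card_ne_zero)
      · exact h
    · exfalso
      have hk1' : k = 1 := by omega
      have h00 : (g : Matrix (Fin 2) (Fin 2) F) 0 0 ≠ 0 := by
        intro h
        rw [h, zero_mul] at hdet
        exact zero_ne_one hdet
      have hpow := FiniteField.pow_card_sub_one_eq_one _ h00
      rw [hk, hk1'] at hpow
      exact hne hpow
  · intro hdegc hell
    have hmpos : m ⟨χ, hχ⟩ ≠ 0 →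
        ∑ u : Cfsg.Agent.Lib.helper43.USL F,
          χ (u : Matrix.SpecialLinearGroup (Fin 2) F) ≠ 0 := by
      intro hm
      rw [Cfsg.Agent.Lib.helper43.sum_USL, hU]
      exact mul_ne_zero hq0 (Nat.cast_ne_zero.2 hm)
    rcases hdegc with h | h
    · -- degree q + 1
      rw [h] at hd
      have hd' : 2 * k + 1 + 1 = m ⟨χ, hχ⟩ + k * (rp ⟨χ, hχ⟩ + rm ⟨χ, hχ⟩) := by
        exact_mod_cast hd
      have hm : m ⟨χ, hχ⟩ ≠ 0 := by
        rcases hcl with ⟨e1, e2, e3⟩ | ⟨e1, e2⟩ | ⟨e1, e2⟩ | ⟨e1, e2, e3⟩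
        · omega
        · rw [e1, e2] at hd'
          have := hhf (by omega)
          omega
        · rw [e1, e2] at hd'
          have := hhf (by omega)
          omega
        · rw [e1, e2] at hd'
          omega
      obtain ⟨c, ψ', hψ', hind⟩ := Cfsg.Agent.Lib.helper43.exists_hom_indFun_eq_add hχ
        (Cfsg.Agent.Lib.helper43.BSL F) (Cfsg.Agent.Lib.helper43.USL F)
        Cfsg.Agent.Lib.helper43.USL_le_BSL Cfsg.Agent.Lib.helper43.BSL_comm_mod_USL (hmpos hm)
      have h1 := congrFun hind 1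
      rw [Cfsg.Agent.Lib.helper4.indFun_one, Pi.add_apply, h,
        Cfsg.Agent.Lib.helper43.index_BSL, hk, map_one] at h1
      have hψ0 : ψ' 1 = 0 := by
        push_cast at h1
        linear_combination -h1
      have hψz := Cfsg.Agent.Lib.helper43.isCharacter_eq_zero_of_one hψ' hψ0
      rw [hψz, add_zero] at hind
      rw [← hind]
      apply Cfsg.Agent.Lib.helper43.indFun_eq_zero_of_forall_not_mem
      intro x hx
      rw [Cfsg.Agent.Lib.helper43.mem_BSL_iff] at hx
      exact Cfsg.Agent.Lib.helper43.elliptic_not_conj_BSL g hell x hx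
    · -- degree (q + 1) / 2
      have h' : χ 1 = (k : ℂ) + 1 := by
        rw [h]
        push_cast
        ring
      by_cases hm : m ⟨χ, hχ⟩ = 0
      · -- only for q = 3: twist by a linear character
        rw [h] at hd
        have hd' : k + 1 = m ⟨χ, hχ⟩ + k * (rp ⟨χ, hχ⟩ + rm ⟨χ, hχ⟩) := by
          exact_mod_cast hd
        have htype : rp ⟨χ, hχ⟩ = 1 ∧ rm ⟨χ, hχ⟩ = 1 ∧ k = 1 := by
          rcases hcl with ⟨e1, e2, e3⟩ | ⟨e1, e2⟩ | ⟨e1, e2⟩ | ⟨e1, e2, e3⟩
          · omega
          · rw [e1, e2] at hd'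
            omega
          · rw [e1, e2] at hd'
            omega
          · rw [e1, e2] at hd'
            refine ⟨e1, e2, ?_⟩
            omega
        obtain ⟨e1, e2, hk1'⟩ := htype
        rw [e1, e2, hm] at hS
        rw [e1, e2] at hD
        have hv1 : χ (Cfsg.Agent.Lib.helper43.uSL 1) = -1 := by
          push_cast at hS hD
          linear_combination (1 / 2 : ℂ) * hS + (1 / 2 : ℂ) * hD
        have hvε : χ (Cfsg.Agent.Lib.helper43.uSL ε) = -1 := by
          push_cast at hS hD
          linear_combination (1 / 2 : ℂ) * hS - (1 / 2 : ℂ) * hD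
        have hvb : ∀ b : F, b ≠ 0 → χ (Cfsg.Agent.Lib.helper43.uSL b) = -1 := by
          intro b hb
          by_cases hsq : IsSquare b
          · have := Cfsg.Agent.Lib.helper43.classFun_uSL_of_isSquare χ hcf 1 hb hsq
            rw [mul_one] at this
            rw [this, hv1]
          · rw [Cfsg.Agent.Lib.helper43.classFun_uSL_of_not_isSquare χ hcf hε hsq, hvε]
        -- a linear character with `m = 0`
        have hpos : 0 < (Finset.univ.filter (fun χ => rp χ = 1 ∧ rm χ = 0 ∧ m χ = 0)).card := by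
          rw [cp0]
          norm_num
        obtain ⟨l, hl⟩ := Finset.card_pos.1 hpos
        simp only [Finset.mem_filter, Finset.mem_univ, true_and] at hl
        obtain ⟨l1, l2, l3⟩ := hl
        have hl1 : (l : Matrix.SpecialLinearGroup (Fin 2) F → ℂ) 1 = 1 := by
          rw [hdeg l, l1, l2, l3, hk1']
          norm_num
        obtain ⟨f, hf⟩ := Cfsg.Agent.Lib.helper19.exists_hom_of_linear _
          (Cfsg.Agent.Lib.helper4.isCharacter_of_isIrrCharacter l.2) hl1
        have hlU : ∑ b : F, ((f (Cfsg.Agent.Lib.helper43.uSL b) : ℂˣ) : ℂ) = 0 := by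
          have := hsumU l
          rw [l3] at this
          simp only [hf] at this
          simpa using this
        have hirr := Cfsg.Agent.Lib.helper43.isIrrCharacter_mul_hom hχ f
        have hval : ∀ b : F, χ (Cfsg.Agent.Lib.helper43.uSL b) *
            ((f (Cfsg.Agent.Lib.helper43.uSL b) : ℂˣ) : ℂ) =
            -((f (Cfsg.Agent.Lib.helper43.uSL b) : ℂˣ) : ℂ) + (if b = 0 then 3 else 0) := by
          intro b
          by_cases hb : b = 0
          · rw [hb, Cfsg.Agent.Lib.helper43.uSL_zero, h', hk1', map_one, if_pos rfl]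
            norm_num
          · rw [hvb b hb, if_neg hb]
            ring
        have hsumf : ∑ b : F, (fun x => χ x * ((f x : ℂˣ) : ℂ))
            (Cfsg.Agent.Lib.helper43.uSL b) ≠ 0 := by
          simp only [hval]
          rw [Finset.sum_add_distrib, Finset.sum_neg_distrib, hlU]
          simp
        have hz := Cfsg.Agent.Lib.helper43.sl2_half_vanish_elliptic k hk _ hirr
          (by
            show χ 1 * ((f 1 : ℂˣ) : ℂ) = _
            rw [map_one, h']
            simp) hsumf g hell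
        rcases mul_eq_zero.1 hz with hz' | hz'
        · exact hz'
        · exact absurd hz' (Units.ne_zero _)
      · have hne : ∑ b : F, χ (Cfsg.Agent.Lib.helper43.uSL b) ≠ 0 := by
          rw [hU]
          exact mul_ne_zero hq0 (Nat.cast_ne_zero.2 hm)
        exact Cfsg.Agent.Lib.helper43.sl2_half_vanish_elliptic k hk χ hχ h' hne g hell

end Cfsg.Agent.S2322
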