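import Cfsg.Statements.S2323
import Cfsg.Agent.Lib.helper43.SL2OddClass
import Cfsg.Agent.Lib.helper43.SL2Even

set_option autoImplicit false
open Cfsg

namespace Cfsg.Agent.S2323

/-- Over a finite field F with q ≥ 4 elements, let u be the upper unitriangular matrix of SL₂ with off-diagonal entry 1. An irreducible complex character of SL₂ takes at u the value 1 if its degree is q + 1 and the value −1 if its degree is q − 1. -/
theorem result {F : Type*} [Field F] [Fintype F] (hq : 4 ≤ Fintype.card F) (χ : Matrix.SpecialLinearGroup (Fin 2) F → ℂ) (hχ : Cfsg.IsIrrCharacter (Matrix.SpecialLinearGroup (Fin 2) F) χ)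
    (u : Matrix.SpecialLinearGroup (Fin 2) F) (hu : (u : Matrix (Fin 2) (Fin 2) F) = !![1, 1; 0, 1]) :
    (χ 1 = (Fintype.card F : ℂ) + 1 → χ u = 1) ∧ (χ 1 = (Fintype.card F : ℂ) - 1 → χ u = -1) := by
  classical
  have : Fintype (Matrix.SpecialLinearGroup (Fin 2) F) := Fintype.ofFinite _
  have : Fintype (Cfsg.IrrCharacter (Matrix.SpecialLinearGroup (Fin 2) F)) := Fintype.ofFinite _
  have hu' : u = Cfsg.Agent.Lib.helper43.uSL 1 :=
    Subtype.ext (hu.trans (Cfsg.Agent.Lib.helper43.uSL_val 1).symm)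
  subst hu'
  by_cases h2 : ringChar F = 2
  · haveI : CharP F 2 := ringChar.of_eq h2
    obtain ⟨m, r, hdeg, hval, hcls, -⟩ := Cfsg.Agent.Lib.helper43.sl2_even_classification F
    have key := Cfsg.Agent.Lib.helper43.deg_iff_type (Fintype.card F) (by omega)
      (m ⟨χ, hχ⟩) (r ⟨χ, hχ⟩) _ (hdeg ⟨χ, hχ⟩) (hcls ⟨χ, hχ⟩)
    have hv := hval ⟨χ, hχ⟩
    simp only at hv key
    constructor
    · intro h
      obtain ⟨hr, hm⟩ := key.2.2.1.1 h
      rw [hv, hr, hm]
      norm_num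
    · intro h
      obtain ⟨hr, hm⟩ := key.2.2.2.1 h
      rw [hv, hr, hm]
      norm_num
  · have hodd : Odd (Fintype.card F) := by
      rw [Nat.odd_iff]
      have := (FiniteField.even_card_iff_char_two (F := F)).not.1 h2
      omega
    obtain ⟨k, hk⟩ := hodd
    obtain ⟨ψ, hψ1⟩ := AddChar.exists_apply_ne_zero.2 (one_ne_zero : (1 : F) ≠ 0)
    have hψ : ψ ≠ 1 := by
      rintro rfl
      exact hψ1 (by simp)
    obtain ⟨ε, hε⟩ := FiniteField.exists_nonsquare h2
    obtain ⟨m, rp, rm, hdeg, hsum, hdiff, -, hcls, -, hhalf, -⟩ :=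
      Cfsg.Agent.Lib.helper43.sl2_odd_classification k hk ψ hψ ε hε
    have hk2 : 2 ≤ k := by omega
    have key := Cfsg.Agent.Lib.helper43.odd_deg_iff_type k hk2 (m ⟨χ, hχ⟩) (rp ⟨χ, hχ⟩)
      (rm ⟨χ, hχ⟩) _ (hdeg ⟨χ, hχ⟩) (hcls ⟨χ, hχ⟩) (hhalf ⟨χ, hχ⟩)
    have hS := hsum ⟨χ, hχ⟩
    have hD := hdiff ⟨χ, hχ⟩
    simp only at hS hD key
    rw [hk]
    constructor
    · intro h
      obtain ⟨h1, h2', h3⟩ := key.2.2.1.1 h
      rw [h1, h2', h3] at hS
      rw [h1, h2'] at hD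
      push_cast at hS hD
      linear_combination (1 / 2 : ℂ) * hS + (1 / 2 : ℂ) * hD
    · intro h
      obtain ⟨h1, h2', h3⟩ := key.2.2.2.1.1 h
      rw [h1, h2', h3] at hS
      rw [h1, h2'] at hD
      push_cast at hS hD
      linear_combination (1 / 2 : ℂ) * hS + (1 / 2 : ℂ) * hD

end Cfsg.Agent.S2323
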