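import Cfsg.Statements.S2324
import Cfsg.Agent.Lib.helper43.SL2OddClass

set_option autoImplicit false
open Cfsg

namespace Cfsg.Agent.S2324

/-- Over a finite field F with q elements, q odd and q ≥ 5, let u be the upper unitriangular matrix of SL₂ with off-diagonal entry 1 and let δ = (−1)^((q−1)/2). Every irreducible complex character χ of SL₂ of degree (q + 1)/2 satisfies (2χ(u) − 1)² = δq, and every irreducible complex character χ of degree (q − 1)/2 satisfies (2χ(u) + 1)² = δq; that is, χ(u) = (1 ± √(δq))/2 in the first case and χ(u) = (−1 ± √(δq))/2 in the second. Moreover two different irreducible characters of degree (q + 1)/2 take the two different values (their values at u add up to 1), and likewise for degree (q − 1)/2 (values adding up to −1). -/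
theorem result {F : Type*} [Field F] [Fintype F] (hodd : Odd (Fintype.card F)) (hq : 5 ≤ Fintype.card F)
    (u : Matrix.SpecialLinearGroup (Fin 2) F) (hu : (u : Matrix (Fin 2) (Fin 2) F) = !![1, 1; 0, 1]) :
    (∀ χ : Matrix.SpecialLinearGroup (Fin 2) F → ℂ, Cfsg.IsIrrCharacter (Matrix.SpecialLinearGroup (Fin 2) F) χ → χ 1 = (((Fintype.card F + 1) / 2 : ℕ) : ℂ) → (2 * χ u - 1) ^ 2 = (-1 : ℂ) ^ ((Fintype.card F - 1) / 2) * (Fintype.card F : ℂ)) ∧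
    (∀ χ : Matrix.SpecialLinearGroup (Fin 2) F → ℂ, Cfsg.IsIrrCharacter (Matrix.SpecialLinearGroup (Fin 2) F) χ → χ 1 = (((Fintype.card F - 1) / 2 : ℕ) : ℂ) → (2 * χ u + 1) ^ 2 = (-1 : ℂ) ^ ((Fintype.card F - 1) / 2) * (Fintype.card F : ℂ)) ∧
    (∀ χ₁ χ₂ : Matrix.SpecialLinearGroup (Fin 2) F → ℂ, Cfsg.IsIrrCharacter (Matrix.SpecialLinearGroup (Fin 2) F) χ₁ → Cfsg.IsIrrCharacter (Matrix.SpecialLinearGroup (Fin 2) F) χ₂ → χ₁ ≠ χ₂ →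
      χ₁ 1 = (((Fintype.card F + 1) / 2 : ℕ) : ℂ) → χ₂ 1 = (((Fintype.card F + 1) / 2 : ℕ) : ℂ) → χ₁ u + χ₂ u = 1) ∧
    (∀ χ₁ χ₂ : Matrix.SpecialLinearGroup (Fin 2) F → ℂ, Cfsg.IsIrrCharacter (Matrix.SpecialLinearGroup (Fin 2) F) χ₁ → Cfsg.IsIrrCharacter (Matrix.SpecialLinearGroup (Fin 2) F) χ₂ → χ₁ ≠ χ₂ →
      χ₁ 1 = (((Fintype.card F - 1) / 2 : ℕ) : ℂ) → χ₂ 1 = (((Fintype.card F - 1) / 2 : ℕ) : ℂ) → χ₁ u + χ₂ u = -1) := by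
  classical
  have : Fintype (Matrix.SpecialLinearGroup (Fin 2) F) := Fintype.ofFinite _
  have : Fintype (Cfsg.IrrCharacter (Matrix.SpecialLinearGroup (Fin 2) F)) := Fintype.ofFinite _
  have hu' : u = Cfsg.Agent.Lib.helper43.uSL 1 :=
    Subtype.ext (hu.trans (Cfsg.Agent.Lib.helper43.uSL_val 1).symm)
  subst hu'
  have hF := Cfsg.Agent.Lib.helper43.ringChar_ne_two_of_odd hodd
  obtain ⟨k, hk⟩ := hodd
  obtain ⟨ψ, hψ1⟩ := AddChar.exists_apply_ne_zero.2 (one_ne_zero : (1 : F) ≠ 0)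
  have hψ : ψ ≠ 1 := by
    rintro rfl
    exact hψ1 (by simp)
  obtain ⟨ε, hε⟩ := FiniteField.exists_nonsquare hF
  obtain ⟨m, rp, rm, hdeg, hsum, hdiff, -, hcls, -, hhalf, -, -, -, cp1, cm1, cp0, cm0⟩ :=
    Cfsg.Agent.Lib.helper43.sl2_odd_classification k hk ψ hψ ε hε
  have hk2 : 2 ≤ k := by omega
  have hq1 : (Fintype.card F + 1) / 2 = k + 1 := by omega
  have hq2 : (Fintype.card F - 1) / 2 = k := by omega
  rw [hq1, hq2]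
  have key := fun χ : Cfsg.IrrCharacter (Matrix.SpecialLinearGroup (Fin 2) F) =>
    Cfsg.Agent.Lib.helper43.odd_deg_iff_type k hk2 (m χ) (rp χ) (rm χ) _ (hdeg χ) (hcls χ)
      (hhalf χ)
  obtain ⟨g, hg⟩ : ∃ g, g = gaussSum (Cfsg.Agent.Lib.helper43.etaC F) ψ := ⟨_, rfl⟩
  rw [← hg] at hdiff
  have hg2 : g ^ 2 = (-1 : ℂ) ^ k * (Fintype.card F : ℂ) := by
    rw [hg, Cfsg.Agent.Lib.helper43.gauss_sq hF ψ hψ, Cfsg.Agent.Lib.helper43.etaC_apply,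
      quadraticChar_neg_one hF, ZMod.χ₄_eq_neg_one_pow (by omega)]
    have : Fintype.card F / 2 = k := by omega
    rw [this]
    push_cast
    ring
  have hval : ∀ χ : Cfsg.IrrCharacter (Matrix.SpecialLinearGroup (Fin 2) F), rp χ + rm χ = 1 →
      2 * (χ : Matrix.SpecialLinearGroup (Fin 2) F → ℂ) (Cfsg.Agent.Lib.helper43.uSL 1) =
        2 * (m χ : ℂ) - 1 + ((rp χ : ℂ) - rm χ) * g := by
    intro χ h
    have hS := hsum χ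
    have hD := hdiff χ
    have : ((rp χ : ℂ) + rm χ) = 1 := by exact_mod_cast h
    linear_combination hS + hD - this
  have hd2 : ∀ χ : Cfsg.IrrCharacter (Matrix.SpecialLinearGroup (Fin 2) F), rp χ + rm χ = 1 →
      ((rp χ : ℂ) - rm χ) ^ 2 = 1 := by
    intro χ h
    have : (rp χ = 1 ∧ rm χ = 0) ∨ (rp χ = 0 ∧ rm χ = 1) := by omega
    rcases this with ⟨h1, h2⟩ | ⟨h1, h2⟩ <;> rw [h1, h2] <;> norm_num
  have uniq : ∀ (P : Cfsg.IrrCharacter (Matrix.SpecialLinearGroup (Fin 2) F) → Prop)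
      [DecidablePred P], (Finset.univ.filter P).card = 1 → ∀ a b, P a → P b → a = b := by
    intro P _ hc a b ha hb
    obtain ⟨x, hx⟩ := Finset.card_eq_one.1 hc
    have e1 : a ∈ ({x} : Finset _) := by
      rw [← hx]; simp [ha]
    have e2 : b ∈ ({x} : Finset _) := by
      rw [← hx]; simp [hb]
    rw [Finset.mem_singleton] at e1 e2
    rw [e1, e2]
  have hopp : ∀ (j : ℕ) (χ₁ χ₂ : Cfsg.IrrCharacter (Matrix.SpecialLinearGroup (Fin 2) F)),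
      (Finset.univ.filter (fun χ => rp χ = 1 ∧ rm χ = 0 ∧ m χ = j)).card = 1 →
      (Finset.univ.filter (fun χ => rp χ = 0 ∧ rm χ = 1 ∧ m χ = j)).card = 1 →
      χ₁ ≠ χ₂ → rp χ₁ + rm χ₁ = 1 → m χ₁ = j → rp χ₂ + rm χ₂ = 1 → m χ₂ = j →
      ((rp χ₁ : ℂ) - rm χ₁) + ((rp χ₂ : ℂ) - rm χ₂) = 0 := by
    intro j χ₁ χ₂ cp cm hne hs1 hm1 hs2 hm2
    have t1 : (rp χ₁ = 1 ∧ rm χ₁ = 0) ∨ (rp χ₁ = 0 ∧ rm χ₁ = 1) := by omega
    have t2 : (rp χ₂ = 1 ∧ rm χ₂ = 0) ∨ (rp χ₂ = 0 ∧ rm χ₂ = 1) := by omega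
    rcases t1 with ⟨a1, b1⟩ | ⟨a1, b1⟩ <;> rcases t2 with ⟨a2, b2⟩ | ⟨a2, b2⟩
    · exfalso
      exact hne (uniq _ cp _ _ ⟨a1, b1, hm1⟩ ⟨a2, b2, hm2⟩)
    · rw [a1, b1, a2, b2]; norm_num
    · rw [a1, b1, a2, b2]; norm_num
    · exfalso
      exact hne (uniq _ cm _ _ ⟨a1, b1, hm1⟩ ⟨a2, b2, hm2⟩)
  refine ⟨?_, ?_, ?_, ?_⟩
  · intro χ hχ h1
    obtain ⟨hs, hm⟩ := (key ⟨χ, hχ⟩).2.2.2.2.1.1 h1
    have hv := hval ⟨χ, hχ⟩ hs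
    have hd := hd2 ⟨χ, hχ⟩ hs
    simp only at hv
    rw [hm] at hv
    have : 2 * χ (Cfsg.Agent.Lib.helper43.uSL 1) - 1 =
        ((rp ⟨χ, hχ⟩ : ℂ) - rm ⟨χ, hχ⟩) * g := by
      rw [hv]; push_cast; ring
    rw [this, mul_pow, hd, one_mul, hg2]
  · intro χ hχ h1
    obtain ⟨hs, hm⟩ := (key ⟨χ, hχ⟩).2.2.2.2.2.1 h1
    have hv := hval ⟨χ, hχ⟩ hs
    have hd := hd2 ⟨χ, hχ⟩ hs
    simp only at hv
    rw [hm] at hv
    have : 2 * χ (Cfsg.Agent.Lib.helper43.uSL 1) + 1 =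
        ((rp ⟨χ, hχ⟩ : ℂ) - rm ⟨χ, hχ⟩) * g := by
      rw [hv]; push_cast; ring
    rw [this, mul_pow, hd, one_mul, hg2]
  · intro χ₁ χ₂ hχ₁ hχ₂ hne h1 h2
    obtain ⟨hs1, hm1⟩ := (key ⟨χ₁, hχ₁⟩).2.2.2.2.1.1 h1
    obtain ⟨hs2, hm2⟩ := (key ⟨χ₂, hχ₂⟩).2.2.2.2.1.1 h2
    have ho := hopp 1 ⟨χ₁, hχ₁⟩ ⟨χ₂, hχ₂⟩ cp1 cm1 (fun h => hne (congrArg Subtype.val h))
      hs1 hm1 hs2 hm2
    have hv1 := hval ⟨χ₁, hχ₁⟩ hs1
    have hv2 := hval ⟨χ₂, hχ₂⟩ hs2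
    simp only at hv1 hv2
    rw [hm1] at hv1
    rw [hm2] at hv2
    push_cast at hv1 hv2
    linear_combination (1 / 2 : ℂ) * hv1 + (1 / 2 : ℂ) * hv2 + (1 / 2 : ℂ) * g * ho
  · intro χ₁ χ₂ hχ₁ hχ₂ hne h1 h2
    obtain ⟨hs1, hm1⟩ := (key ⟨χ₁, hχ₁⟩).2.2.2.2.2.1 h1
    obtain ⟨hs2, hm2⟩ := (key ⟨χ₂, hχ₂⟩).2.2.2.2.2.1 h2
    have ho := hopp 0 ⟨χ₁, hχ₁⟩ ⟨χ₂, hχ₂⟩ cp0 cm0 (fun h => hne (congrArg Subtype.val h))
      hs1 hm1 hs2 hm2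
    have hv1 := hval ⟨χ₁, hχ₁⟩ hs1
    have hv2 := hval ⟨χ₂, hχ₂⟩ hs2
    simp only at hv1 hv2
    rw [hm1] at hv1
    rw [hm2] at hv2
    push_cast at hv1 hv2
    linear_combination (1 / 2 : ℂ) * hv1 + (1 / 2 : ℂ) * hv2 + (1 / 2 : ℂ) * g * ho

end Cfsg.Agent.S2324
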