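import Cfsg.Statements.S2329
import Cfsg.Agent.Lib.helper44.GL2

set_option autoImplicit false
open Cfsg

namespace Cfsg.Agent.S2329

open Matrix Cfsg.Agent.Lib.helper44

/-- An element of order `p` of `GL₂` in characteristic `p` is non-scalar with trace 2 and
determinant 1. -/
theorem order_p_invariants {F : Type*} [Field F] (p : ℕ) [Fact p.Prime] [CharP F p]
    (g : Matrix.GeneralLinearGroup (Fin 2) F) (hg : orderOf g = p) :
    ¬ IsScalar2 (g : Matrix (Fin 2) (Fin 2) F) ∧ (g : Matrix (Fin 2) (Fin 2) F).trace = 2 ∧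
      Matrix.GeneralLinearGroup.det g = 1 := by
  have hp : p.Prime := Fact.out
  have hgp : g ^ p = 1 := by rw [← hg]; exact pow_orderOf_eq_one g
  have hg1 : g ≠ 1 := by
    intro h
    rw [h, orderOf_one] at hg
    exact hp.one_lt.ne hg
  have hM : (g : Matrix (Fin 2) (Fin 2) F) ^ p = 1 := by
    have := congrArg (Units.val) hgp
    simpa using this
  have hN : ((g : Matrix (Fin 2) (Fin 2) F) - 1) ^ p = 0 := by
    rw [sub_pow_char_of_commute p (Commute.one_right _), hM, one_pow, sub_self]
  have hnil : IsNilpotent ((g : Matrix (Fin 2) (Fin 2) F) - 1) := ⟨p, hN⟩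
  have htr : ((g : Matrix (Fin 2) (Fin 2) F) - 1).trace = 0 :=
    (Matrix.isNilpotent_trace_of_isNilpotent hnil).eq_zero
  have hdet : ((g : Matrix (Fin 2) (Fin 2) F) - 1).det = 0 := by
    have h1 := congrArg Matrix.det hN
    rw [Matrix.det_pow, Matrix.det_zero] at h1
    exact (pow_eq_zero_iff hp.ne_zero).1 h1
  have htr2 : (g : Matrix (Fin 2) (Fin 2) F).trace = 2 := by
    rw [Matrix.trace_sub, Matrix.trace_one] at htr
    simp at htr
    linear_combination htr
  have hdet1 : (g : Matrix (Fin 2) (Fin 2) F).det = 1 := by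
    rw [Matrix.det_fin_two] at hdet ⊢
    rw [Matrix.trace_fin_two] at htr2
    simp at hdet
    linear_combination hdet + htr2
  refine ⟨?_, htr2, ?_⟩
  · intro hs
    apply hg1
    have h11 : (g : Matrix (Fin 2) (Fin 2) F) 1 1 = (g : Matrix (Fin 2) (Fin 2) F) 0 0 := hs.2.2.symm
    rw [Matrix.det_fin_two, hs.1, h11] at hdet1
    rw [Matrix.trace_fin_two, h11] at htr2
    have h0 : ((g : Matrix (Fin 2) (Fin 2) F) 0 0 - 1) ^ 2 = 0 := by
      linear_combination hdet1 - htr2
    have h00 : (g : Matrix (Fin 2) (Fin 2) F) 0 0 = 1 := by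
      have := pow_eq_zero_iff (two_ne_zero) |>.1 h0
      linear_combination this
    ext : 1
    rw [(isScalar2_iff _).1 hs, h00]
    simp
  · ext
    simpa using hdet1

/-- Over a finite field of characteristic p, any two elements of order p of GL₂ are conjugate: there is a single conjugacy class of non-identity unipotent elements. -/
theorem result {F : Type*} [Field F] [Fintype F] (p : ℕ) [Fact p.Prime] [CharP F p] (g h : Matrix.GeneralLinearGroup (Fin 2) F)
    (hg : orderOf g = p) (hh : orderOf h = p) : IsConj g h := by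
  obtain ⟨hg1, hg2, hg3⟩ := order_p_invariants p g hg
  obtain ⟨hh1, hh2, hh3⟩ := order_p_invariants p h hh
  exact isConj_of_trace_det hg1 hh1 (hg2.trans hh2.symm) (hg3.trans hh3.symm)

end Cfsg.Agent.S2329
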