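import Cfsg.Statements.S2336
-- import your own Cfsg.Agent.* helpers here
import Cfsg.Agent.Lib.helper44.TwistedBurnside
import Cfsg.Agent.Lib.helper44.IsotypicChar
import Cfsg.Agent.Lib.helper44.SLPairs
import Cfsg.Agent.Lib.helper4.CharTheory
import Cfsg.Agent.Lib.helper4.CharDecomp
import Cfsg.Agent.Lib.helper43.Constituent

set_option autoImplicit false
open Cfsg

namespace Cfsg.Agent.S2336

open Cfsg.Agent.Lib.helper44 Cfsg.Agent.Lib.helper4 Cfsg.Agent.Lib.helper43
open scoped ComplexConjugate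

section Action

variable {F : Type*} [Field F] {n : ℕ}

/-- Non-zero vectors. -/
abbrev NZ (n : ℕ) (F : Type*) [Field F] : Type _ := {v : Fin n → F // v ≠ 0}

/-- The action of the special linear group on the non-zero vectors. -/
def actG (g : Matrix.SpecialLinearGroup (Fin n) F) (x : NZ n F) : NZ n F :=
  ⟨(g : Matrix (Fin n) (Fin n) F).mulVec x.1, by
    intro h
    apply x.2
    have h1 := congrArg
      ((g⁻¹ : Matrix.SpecialLinearGroup (Fin n) F) : Matrix (Fin n) (Fin n) F).mulVec h
    rwa [Matrix.mulVec_mulVec, ← Matrix.SpecialLinearGroup.coe_mul, inv_mul_cancel,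
      Matrix.SpecialLinearGroup.coe_one, Matrix.one_mulVec, Matrix.mulVec_zero] at h1⟩

/-- The action of the scalars on the non-zero vectors. -/
def actA (c : Fˣ) (x : NZ n F) : NZ n F := ⟨(c : F) • x.1, smul_ne_zero c.ne_zero x.2⟩

theorem actG_mul (g h : Matrix.SpecialLinearGroup (Fin n) F) (x : NZ n F) :
    actG (g * h) x = actG g (actG h x) := by
  apply Subtype.ext
  simp [actG, Matrix.mulVec_mulVec]

theorem actG_one (x : NZ n F) : actG (1 : Matrix.SpecialLinearGroup (Fin n) F) x = x :=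
  Subtype.ext (by simp [actG])

theorem actA_mul (a b : Fˣ) (x : NZ n F) : actA (a * b) x = actA a (actA b x) :=
  Subtype.ext (by simp [actA, mul_smul])

theorem actA_one (x : NZ n F) : actA 1 x = x := Subtype.ext (by simp [actA])

theorem actG_actA (g : Matrix.SpecialLinearGroup (Fin n) F) (a : Fˣ) (x : NZ n F) :
    actG g (actA a x) = actA a (actG g x) :=
  Subtype.ext (by simp [actG, actA, Matrix.mulVec_smul])

/-- The invariant of a pair of non-zero vectors: the ratio if they are proportional. -/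
noncomputable def inv2 (y : NZ n F × NZ n F) : Option Fˣ :=
  open Classical in if h : ∃ t : Fˣ, y.2.1 = (t : F) • y.1.1 then some h.choose else none

theorem inv2_eq_some (y : NZ n F × NZ n F) (t : Fˣ) :
    inv2 y = some t ↔ y.2.1 = (t : F) • y.1.1 := by
  classical
  unfold inv2
  constructor
  · intro h
    split_ifs at h with h1
    have h2 := h1.choose_spec
    rw [Option.some.injEq] at h
    rw [← h]
    exact h2
  · intro h
    have h1 : ∃ t : Fˣ, y.2.1 = (t : F) • y.1.1 := ⟨t, h⟩
    rw [dif_pos h1]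
    congr 1
    have h2 := h1.choose_spec
    have h2' : (t : F) • y.1.1 = ((h1.choose : Fˣ) : F) • y.1.1 := h.symm.trans h2
    have h3 : ((h1.choose : Fˣ) : F) = (t : F) := (smul_left_injective F y.1.2 h2').symm
    exact Units.ext h3

theorem inv2_eq_none (y : NZ n F × NZ n F) :
    inv2 y = none ↔ ∀ t : Fˣ, y.2.1 ≠ (t : F) • y.1.1 := by
  constructor
  · intro h t ht
    rw [← inv2_eq_some, h] at ht
    cases ht
  · intro h
    cases h1 : inv2 y with
    | none => rfl
    | some t => exact absurd ((inv2_eq_some y t).mp h1) (h t)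

/-- The diagonal action on pairs. -/
def act2 (g : Matrix.SpecialLinearGroup (Fin n) F) (y : NZ n F × NZ n F) : NZ n F × NZ n F :=
  (actG g y.1, actG g y.2)

/-- The twist on pairs. -/
def tw (a b : Fˣ) (y : NZ n F × NZ n F) : NZ n F × NZ n F := (actA a y.1, actA b y.2)

theorem act2_mul (g h : Matrix.SpecialLinearGroup (Fin n) F) (y : NZ n F × NZ n F) :
    act2 (g * h) y = act2 g (act2 h y) := by
  simp only [act2, actG_mul]

theorem act2_one (y : NZ n F × NZ n F) :
    act2 (1 : Matrix.SpecialLinearGroup (Fin n) F) y = y := by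
  simp only [act2, actG_one]

theorem inv2_act2 (g : Matrix.SpecialLinearGroup (Fin n) F) (y : NZ n F × NZ n F) (t : Fˣ)
    (h : inv2 y = some t) : inv2 (act2 g y) = some t := by
  rw [inv2_eq_some] at h ⊢
  simp only [act2, actG]
  rw [h, Matrix.mulVec_smul]

theorem linInd_of_inv2_none (y : NZ n F × NZ n F) (h : inv2 y = none) :
    LinearIndependent F ![y.1.1, y.2.1] := by
  rw [inv2_eq_none] at h
  rw [LinearIndependent.pair_iff]
  intro s t hst
  by_cases ht : t = 0
  · subst ht
    rw [zero_smul, add_zero] at hst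
    rcases smul_eq_zero.mp hst with h1 | h1
    · exact ⟨h1, rfl⟩
    · exact absurd h1 y.1.2
  · exfalso
    have h1 : y.2.1 = (-(t⁻¹ * s)) • y.1.1 := by
      have h2 : t • y.2.1 = -(s • y.1.1) := eq_neg_of_add_eq_zero_right hst
      calc y.2.1 = t⁻¹ • (t • y.2.1) := by rw [smul_smul, inv_mul_cancel₀ ht, one_smul]
        _ = _ := by rw [h2, smul_neg, smul_smul, neg_smul]
    have h3 : -(t⁻¹ * s) ≠ 0 := by
      intro h0
      rw [h0, zero_smul] at h1
      exact y.2.2 h1
    exact h (Units.mk0 _ h3) h1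

theorem inv2_eq_iff (hn : 3 ≤ n) (y y' : NZ n F × NZ n F) :
    inv2 y = inv2 y' ↔ ∃ g : Matrix.SpecialLinearGroup (Fin n) F, act2 g y = y' := by
  constructor
  · intro h
    cases h1 : inv2 y with
    | some t =>
      have h2 : inv2 y' = some t := by rw [← h, h1]
      rw [inv2_eq_some] at h1 h2
      obtain ⟨g, hg⟩ := exists_SL_mulVec_eq hn y.1.1 y'.1.1 y.1.2 y'.1.2
      refine ⟨g, Prod.ext (Subtype.ext hg) (Subtype.ext ?_)⟩
      change (g : Matrix (Fin n) (Fin n) F).mulVec y.2.1 = y'.2.1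
      rw [h1, Matrix.mulVec_smul, hg, h2]
    | none =>
      have h2 : inv2 y' = none := by rw [← h, h1]
      obtain ⟨g, hg1, hg2⟩ := exists_SL_mulVec_pair hn _ _ _ _ (linInd_of_inv2_none y h1)
        (linInd_of_inv2_none y' h2)
      exact ⟨g, Prod.ext (Subtype.ext hg1) (Subtype.ext hg2)⟩
  · rintro ⟨g, rfl⟩
    cases h1 : inv2 y with
    | some t => exact (inv2_act2 g y t h1).symm
    | none =>
      cases h2 : inv2 (act2 g y) with
      | none => rfl
      | some t =>
        have h3 := inv2_act2 g⁻¹ (act2 g y) t h2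
        have h4 : act2 g⁻¹ (act2 g y) = y := by
          rw [← act2_mul, inv_mul_cancel, act2_one]
        rw [h4, h1] at h3
        cases h3

theorem inv2_tw (a b : Fˣ) (y : NZ n F × NZ n F) :
    inv2 (tw a b y) = Option.map (fun t => b * t * a⁻¹) (inv2 y) := by
  have key : ∀ (a b : Fˣ) (y : NZ n F × NZ n F) (t : Fˣ), inv2 y = some t →
      inv2 (tw a b y) = some (b * t * a⁻¹) := by
    intro a b y t h
    rw [inv2_eq_some] at h ⊢
    simp only [tw, actA]
    rw [h, smul_smul, smul_smul]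
    congr 1
    simp [mul_assoc]
  cases h1 : inv2 y with
  | some t =>
    rw [key a b y t h1]
    rfl
  | none =>
    cases h2 : inv2 (tw a b y) with
    | none => rfl
    | some s =>
      have h3 := key a⁻¹ b⁻¹ (tw a b y) s h2
      have h4 : tw a⁻¹ b⁻¹ (tw a b y) = y := by
        simp only [tw]
        rw [← actA_mul, ← actA_mul, inv_mul_cancel, inv_mul_cancel, actA_one, actA_one]
      rw [h4, h1] at h3
      cases h3

/-- A fixed non-zero vector. -/
def e0 (hn : 3 ≤ n) : NZ n F :=
  ⟨Pi.single (⟨0, by omega⟩ : Fin n) (1 : F), by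
    intro h
    have h1 := congrFun h ⟨0, by omega⟩
    simp at h1⟩

theorem inv2_surjective (hn : 3 ≤ n) :
    Function.Surjective (inv2 : NZ n F × NZ n F → Option Fˣ) := by
  have hfr : 1 < Module.finrank F (Fin n → F) := by
    rw [Module.finrank_fin_fun]
    omega
  intro o
  cases o with
  | none =>
    obtain ⟨w, hw⟩ := exists_linearIndependent_pair_of_one_lt_finrank hfr (e0 (F := F) hn).2
    have hw0 : w ≠ 0 := by
      have h1 := hw.ne_zero 1
      simpa using h1
    refine ⟨(e0 hn, ⟨w, hw0⟩), ?_⟩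
    rw [inv2_eq_none]
    intro t ht
    rw [LinearIndependent.pair_iff] at hw
    have ht' : w = (t : F) • (e0 (F := F) hn).1 := ht
    have h2 := hw (t : F) (-1) (by
      rw [neg_smul, one_smul, ← ht']
      exact add_neg_cancel _)
    exact one_ne_zero (neg_eq_zero.mp h2.2)
  | some t =>
    refine ⟨(e0 hn, actA t (e0 hn)), ?_⟩
    rw [inv2_eq_some]
    rfl

end Action

section Count

variable {F : Type*} [Field F] [Fintype F] [DecidableEq F] {n : ℕ}

/-- The number of non-zero eigenvectors with eigenvalue `c`. -/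
noncomputable def cnt (c : Fˣ) (g : Matrix.SpecialLinearGroup (Fin n) F) : ℂ :=
  ((Finset.univ.filter (fun x : NZ n F => actG g x = actA c x)).card : ℂ)

theorem sum_cnt (hn : 3 ≤ n) (a : Fˣ) :
    ∑ g : Matrix.SpecialLinearGroup (Fin n) F, cnt a g =
      (Fintype.card (Matrix.SpecialLinearGroup (Fin n) F) : ℂ) := by
  have h := sum_card_twisted_fixed (G := Matrix.SpecialLinearGroup (Fin n) F) (Y := NZ n F)
    (ι := Unit) actG actG_mul actG_one (actA a) (fun _ => ())
    (fun y y' => ⟨fun _ => by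
      obtain ⟨g, hg⟩ := exists_SL_mulVec_eq hn y.1 y'.1 y.2 y'.2
      exact ⟨g, Subtype.ext hg⟩, fun _ => rfl⟩) id (fun _ => rfl) (fun _ => ⟨e0 hn, rfl⟩)
  unfold cnt
  rw [← Nat.cast_sum, h]
  simp

theorem sum_cnt_mul_cnt (hn : 3 ≤ n) (a b : Fˣ) :
    ∑ g : Matrix.SpecialLinearGroup (Fin n) F, cnt a g * cnt b g =
      (Fintype.card (Matrix.SpecialLinearGroup (Fin n) F) : ℂ) *
        (1 + if a = b then (Fintype.card Fˣ : ℂ) else 0) := by
  have h := sum_card_twisted_fixed (G := Matrix.SpecialLinearGroup (Fin n) F)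
    (Y := NZ n F × NZ n F) (ι := Option Fˣ) act2 act2_mul act2_one (tw a b) inv2
    (inv2_eq_iff hn) (Option.map (fun t => b * t * a⁻¹)) (inv2_tw a b) (inv2_surjective hn)
  have h1 : ∀ g : Matrix.SpecialLinearGroup (Fin n) F, cnt a g * cnt b g =
      ((Finset.univ.filter (fun y : NZ n F × NZ n F => act2 g y = tw a b y)).card : ℂ) := by
    intro g
    unfold cnt
    rw [← Nat.cast_mul, ← Finset.card_product, ← Finset.filter_product, Finset.univ_product_univ]
    congr 2
    refine Finset.filter_congr fun y _ => ?_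
    simp only [act2, tw, Prod.ext_iff]
  rw [Finset.sum_congr rfl (fun g _ => h1 g), ← Nat.cast_sum, h]
  push_cast
  congr 1
  have h2 : (Finset.univ.filter (fun i : Option Fˣ => Option.map (fun t => b * t * a⁻¹) i = i)).card
      = 1 + if a = b then Fintype.card Fˣ else 0 := by
    rw [Finset.card_filter, Fintype.sum_option]
    congr 1
    by_cases hab : a = b
    · subst hab
      simp
    · rw [if_neg hab]
      apply Finset.sum_eq_zero
      intro t _
      rw [if_neg]
      intro h3
      apply hab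
      simp only [Option.map_some, Option.some.injEq] at h3
      have h4 : b * a⁻¹ = 1 := by
        have h5 : b * a⁻¹ * t = 1 * t := by
          rw [one_mul, mul_assoc, mul_comm a⁻¹ t, ← mul_assoc]
          exact h3
        exact mul_right_cancel h5
      exact (mul_inv_eq_one.mp h4).symm
  rw [h2]
  push_cast
  split_ifs <;> rfl

theorem classInner_cnt (hn : 3 ≤ n) (a b : Fˣ) :
    classInner (cnt a : Matrix.SpecialLinearGroup (Fin n) F → ℂ) (cnt b) =
      1 + if a = b then (Fintype.card Fˣ : ℂ) else 0 := by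
  unfold classInner
  have h1 : ∀ g : Matrix.SpecialLinearGroup (Fin n) F,
      cnt a g * conj (cnt b g) = cnt a g * cnt b g := by
    intro g
    unfold cnt
    rw [Complex.conj_natCast]
  rw [Finset.sum_congr rfl (fun g _ => h1 g), sum_cnt_mul_cnt hn, Nat.card_eq_fintype_card,
    ← mul_assoc, inv_mul_cancel₀, one_mul]
  exact_mod_cast Fintype.card_ne_zero

theorem classInner_cnt_one (hn : 3 ≤ n) (a : Fˣ) :
    classInner (cnt a : Matrix.SpecialLinearGroup (Fin n) F → ℂ) (fun _ => 1) = 1 := by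
  unfold classInner
  simp only [map_one, mul_one]
  rw [sum_cnt hn, Nat.card_eq_fintype_card, inv_mul_cancel₀]
  exact_mod_cast Fintype.card_ne_zero

/-- The isotypic parts of the permutation character. -/
noncomputable def piFun (lam : Fˣ →* ℂˣ) : Matrix.SpecialLinearGroup (Fin n) F → ℂ :=
  fun g => (Fintype.card Fˣ : ℂ)⁻¹ * ∑ c : Fˣ, (lam c : ℂ) * cnt c g

theorem piFun_isCharacter (lam : Fˣ →* ℂˣ) :
    IsCharacter (Matrix.SpecialLinearGroup (Fin n) F) (piFun (n := n) lam) := by
  have h := isCharacter_isotypic (G := Matrix.SpecialLinearGroup (Fin n) F) (A := Fˣ)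
    (Y := NZ n F) actG actG_mul actG_one (fun c => actA c⁻¹)
    (fun a b y => by rw [mul_inv, actA_mul]) (fun y => by rw [inv_one, actA_one])
    (fun g a y => actG_actA g a⁻¹ y) lam
  have h1 : piFun (n := n) lam = (fun g => (Fintype.card Fˣ : ℂ)⁻¹ *
      ∑ c : Fˣ, (lam c : ℂ) *
        ((Finset.univ.filter (fun y : NZ n F => actG g (actA c⁻¹ y) = y)).card : ℂ)) := by
    funext g
    unfold piFun cnt
    congr 1
    refine Finset.sum_congr rfl fun c _ => ?_
    congr 3
    refine Finset.filter_congr fun y _ => ?_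
    rw [actG_actA]
    constructor
    · intro h2
      rw [h2, ← actA_mul, inv_mul_cancel, actA_one]
    · intro h2
      have h3 : actA c (actA c⁻¹ (actG g y)) = actA c y := by rw [h2]
      rwa [← actA_mul, mul_inv_cancel, actA_one] at h3
  rw [h1]
  exact h

theorem piFun_eq (lam : Fˣ →* ℂˣ) :
    piFun (n := n) lam = (Fintype.card Fˣ : ℂ)⁻¹ • ∑ c : Fˣ, (lam c : ℂ) • cnt (n := n) c := by
  funext g
  simp [piFun, Finset.sum_apply]

theorem sum_hom (lam : Fˣ →* ℂˣ) :
    ∑ c : Fˣ, (lam c : ℂ) = if lam = 1 then (Fintype.card Fˣ : ℂ) else 0 := by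
  split_ifs with h
  · subst h
    simp
  · have h2 := sum_hom_units_eq_zero ((Units.coeHom ℂ).comp lam) (by
      intro h1
      apply h
      ext c
      have h3 := DFunLike.congr_fun h1 c
      simpa using h3)
    simpa using h2

theorem conj_hom (mu : Fˣ →* ℂˣ) (c : Fˣ) : conj (mu c : ℂ) = ((mu⁻¹ c : ℂˣ) : ℂ) := by
  have h1 : (mu c : ℂ) ^ (Fintype.card Fˣ) = 1 := by
    rw [← Units.val_pow_eq_pow_val, ← map_pow, pow_card_eq_one, map_one, Units.val_one]
  have h2 : ‖(mu c : ℂ)‖ = 1 := Complex.norm_eq_one_of_pow_eq_one h1 Fintype.card_ne_zero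
  rw [← Complex.inv_eq_conj h2]
  simp

theorem card_units_ne_zero : (Fintype.card Fˣ : ℂ) ≠ 0 := by
  exact_mod_cast Fintype.card_ne_zero

theorem classInner_piFun (hn : 3 ≤ n) (lam mu : Fˣ →* ℂˣ) :
    classInner (piFun (n := n) lam) (piFun mu) =
      (if lam = 1 ∧ mu = 1 then 1 else 0) + (if lam = mu then 1 else 0) := by
  have hm : (Fintype.card Fˣ : ℂ) ≠ 0 := card_units_ne_zero
  rw [piFun_eq lam, piFun_eq mu, classInner_smul_left, classInner_smul_right, classInner_sum_left]
  have h1 : ∀ a : Fˣ, classInner ((lam a : ℂ) • cnt (n := n) a) (∑ c : Fˣ, (mu c : ℂ) • cnt c) =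
      (lam a : ℂ) * ((if mu = 1 then (Fintype.card Fˣ : ℂ) else 0) +
        (Fintype.card Fˣ : ℂ) * ((mu⁻¹ a : ℂˣ) : ℂ)) := by
    intro a
    rw [classInner_smul_left, classInner_sum_right]
    congr 1
    have h2 : ∀ b : Fˣ, classInner (cnt (n := n) a) ((mu b : ℂ) • cnt b) =
        ((mu⁻¹ b : ℂˣ) : ℂ) +
          (if a = b then (Fintype.card Fˣ : ℂ) * ((mu⁻¹ b : ℂˣ) : ℂ) else 0) := by
      intro b
      rw [classInner_smul_right, classInner_cnt hn, conj_hom]
      split_ifs <;> ring
    rw [Finset.sum_congr rfl (fun b _ => h2 b), Finset.sum_add_distrib, Finset.sum_ite_eq,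
      if_pos (Finset.mem_univ a)]
    congr 1
    rw [sum_hom mu⁻¹]
    have hinv : mu⁻¹ = 1 ↔ mu = 1 := inv_eq_one (α := Fˣ →* ℂˣ)
    by_cases hmu : mu = 1
    · rw [if_pos hmu, if_pos (hinv.mpr hmu)]
    · rw [if_neg hmu, if_neg (fun h => hmu (hinv.mp h))]
  rw [Finset.sum_congr rfl (fun a _ => h1 a)]
  have h3 : ∑ a : Fˣ, (lam a : ℂ) * ((if mu = 1 then (Fintype.card Fˣ : ℂ) else 0) +
        (Fintype.card Fˣ : ℂ) * ((mu⁻¹ a : ℂˣ) : ℂ)) =
      (if lam = 1 then (Fintype.card Fˣ : ℂ) else 0) *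
        (if mu = 1 then (Fintype.card Fˣ : ℂ) else 0) +
      (Fintype.card Fˣ : ℂ) * (if lam = mu then (Fintype.card Fˣ : ℂ) else 0) := by
    have h4 : ∀ a : Fˣ, (lam a : ℂ) * ((if mu = 1 then (Fintype.card Fˣ : ℂ) else 0) +
        (Fintype.card Fˣ : ℂ) * ((mu⁻¹ a : ℂˣ) : ℂ)) =
        (lam a : ℂ) * (if mu = 1 then (Fintype.card Fˣ : ℂ) else 0) +
          (Fintype.card Fˣ : ℂ) * (((lam * mu⁻¹) a : ℂˣ) : ℂ) := by
      intro a
      rw [MonoidHom.mul_apply, Units.val_mul]
      ring
    rw [Finset.sum_congr rfl (fun a _ => h4 a), Finset.sum_add_distrib, ← Finset.sum_mul,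
      ← Finset.mul_sum, sum_hom lam, sum_hom (lam * mu⁻¹)]
    have hinv : lam * mu⁻¹ = 1 ↔ lam = mu := mul_inv_eq_one (G := Fˣ →* ℂˣ)
    by_cases hlm : lam = mu
    · rw [if_pos hlm, if_pos (hinv.mpr hlm)]
    · rw [if_neg hlm, if_neg (fun h => hlm (hinv.mp h))]
  rw [h3, map_inv₀, Complex.conj_natCast]
  by_cases h5 : lam = 1 <;> by_cases h6 : mu = 1 <;> by_cases h7 : lam = mu <;>
    simp [h5, h6, h7] <;> field_simp

theorem classInner_piFun_one (hn : 3 ≤ n) (lam : Fˣ →* ℂˣ) :
    classInner (piFun (n := n) lam) (fun _ => 1) = if lam = 1 then 1 else 0 := by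
  have hm : (Fintype.card Fˣ : ℂ) ≠ 0 := card_units_ne_zero
  rw [piFun_eq lam, classInner_smul_left, classInner_sum_left]
  have h1 : ∀ a : Fˣ, classInner ((lam a : ℂ) • cnt (n := n) a) (fun _ => 1) = (lam a : ℂ) := by
    intro a
    rw [classInner_smul_left, classInner_cnt_one hn, mul_one]
  rw [Finset.sum_congr rfl (fun a _ => h1 a), sum_hom]
  split_ifs
  · exact inv_mul_cancel₀ hm
  · exact mul_zero _

theorem sum_piFun (L : Fˣ → (Fˣ →* ℂˣ))
    (hL : ∀ c : Fˣ, ∑ t : Fˣ, (L t c : ℂ) = if c = 1 then (Fintype.card Fˣ : ℂ) else 0)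
    (g : Matrix.SpecialLinearGroup (Fin n) F) : ∑ t : Fˣ, piFun (L t) g = cnt 1 g := by
  have hm : (Fintype.card Fˣ : ℂ) ≠ 0 := card_units_ne_zero
  unfold piFun
  rw [← Finset.mul_sum, Finset.sum_comm]
  have h1 : ∀ c : Fˣ, ∑ t : Fˣ, (L t c : ℂ) * cnt c g =
      if c = 1 then (Fintype.card Fˣ : ℂ) * cnt 1 g else 0 := by
    intro c
    rw [← Finset.sum_mul, hL]
    split_ifs with h
    · rw [h]
    · exact zero_mul _
  rw [Finset.sum_congr rfl (fun c _ => h1 c), Finset.sum_ite_eq' , if_pos (Finset.mem_univ 1),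
    ← mul_assoc, inv_mul_cancel₀ hm, one_mul]

end Count

/-- Let F be a finite field with q elements and n ≥ 3. The permutation character of SL_n(F) on the non-zero vectors of F^n (the function sending a matrix to the number of non-zero vectors it fixes) is the sum of the principal character and q − 1 pairwise distinct irreducible complex characters. -/
theorem result {F : Type*} [Field F] [Fintype F] [DecidableEq F] (n : ℕ) (hn : 3 ≤ n) :
    ∃ χ : Fin (Fintype.card F - 1) → (Matrix.SpecialLinearGroup (Fin n) F → ℂ),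
      (∀ i, Cfsg.IsIrrCharacter (Matrix.SpecialLinearGroup (Fin n) F) (χ i)) ∧ Function.Injective χ ∧
      ∀ g : Matrix.SpecialLinearGroup (Fin n) F,
        (Nat.card {v : Fin n → F // v ≠ 0 ∧ (g : Matrix (Fin n) (Fin n) F).mulVec v = v} : ℂ) = 1 + ∑ i, χ i g := by
  classical
  have hm : (Fintype.card Fˣ : ℂ) ≠ 0 := card_units_ne_zero
  have hexp : NeZero (Monoid.exponent Fˣ) := ⟨Monoid.exponent_ne_zero_of_finite⟩
  obtain ⟨e⟩ := CommGroup.monoidHom_mulEquiv_of_hasEnoughRootsOfUnity Fˣ ℂ
  let L : Fˣ → (Fˣ →* ℂˣ) := fun t => e.symm t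
  have hL1 : L 1 = 1 := map_one e.symm
  have hLmul : ∀ s t, L (s * t) = L s * L t := fun s t => map_mul e.symm s t
  have hLinj : Function.Injective L := e.symm.injective
  have hLone : ∀ t, L t = 1 ↔ t = 1 := by
    intro t
    constructor
    · intro h
      apply hLinj
      rw [h, hL1]
    · intro h
      rw [h, hL1]
  -- dual orthogonality
  have hdual : ∀ c : Fˣ, ∑ t : Fˣ, (L t c : ℂ) = if c = 1 then (Fintype.card Fˣ : ℂ) else 0 := by
    intro c
    split_ifs with hc
    · subst hc
      simp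
    · obtain ⟨φ, hφ⟩ := CommGroup.exists_apply_ne_one_of_hasEnoughRootsOfUnity Fˣ ℂ hc
      have h1 : ∑ t : Fˣ, (L t c : ℂ) = (φ c : ℂ) * ∑ t : Fˣ, (L t c : ℂ) := by
        rw [Finset.mul_sum, ← Fintype.sum_equiv (Equiv.mulLeft (e φ))
          (fun t => (L (e φ * t) c : ℂ)) (fun t => (L t c : ℂ)) (fun t => rfl)]
        refine Finset.sum_congr rfl fun t _ => ?_
        have h0 : L (e φ) = φ := e.symm_apply_apply φ
        rw [hLmul, h0, MonoidHom.mul_apply, Units.val_mul]
      have h2 : (φ c : ℂ) ≠ 1 := fun h => hφ (Units.ext h)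
      have h3 : (1 - (φ c : ℂ)) * ∑ t : Fˣ, (L t c : ℂ) = 0 := by
        rw [sub_mul, one_mul, ← h1, sub_self]
      rcases mul_eq_zero.mp h3 with h4 | h4
      · exact absurd (sub_eq_zero.mp h4).symm h2
      · exact h4
  -- the trivial character
  have htriv : IsIrrCharacter (Matrix.SpecialLinearGroup (Fin n) F) (fun _ => (1 : ℂ)) := by
    apply isIrrCharacter_of_isCharacter_of_norm_one isCharacter_one
    unfold classInner
    simp only [map_one, mul_one, Finset.sum_const, Finset.card_univ, nsmul_eq_mul]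
    rw [Nat.card_eq_fintype_card, inv_mul_cancel₀]
    exact_mod_cast Fintype.card_ne_zero
  -- the non-trivial constituent of the trivial isotypic part
  have h11 : classInner (piFun (n := n) (1 : Fˣ →* ℂˣ)) (fun _ => 1) = 1 := by
    rw [classInner_piFun_one hn, if_pos rfl]
  obtain ⟨ψ, hψ, hψeq⟩ := exists_add_of_classInner_ne_zero
    (piFun_isCharacter (n := n) (1 : Fˣ →* ℂˣ)) htriv (by rw [h11]; exact one_ne_zero)
  have hψ' : ψ = piFun (n := n) (1 : Fˣ →* ℂˣ) - (fun _ => 1) := by
    rw [hψeq, add_sub_cancel_left]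
  have h1pi : ∀ mu : Fˣ →* ℂˣ,
      classInner (fun _ : Matrix.SpecialLinearGroup (Fin n) F => (1 : ℂ)) (piFun (n := n) mu) =
        if mu = 1 then 1 else 0 := by
    intro mu
    rw [← classInner_conj_symm, classInner_piFun_one hn]
    split_ifs <;> simp
  have hψψ : classInner ψ ψ = 1 := by
    rw [hψ', classInner_sub_left, classInner_sub_right, classInner_sub_right,
      classInner_piFun hn, h11, h1pi, classInner_irr_self htriv]
    norm_num
  have hψirr : IsIrrCharacter (Matrix.SpecialLinearGroup (Fin n) F) ψ :=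
    isIrrCharacter_of_isCharacter_of_norm_one hψ hψψ
  -- the family
  let χ' : Fˣ → (Matrix.SpecialLinearGroup (Fin n) F → ℂ) :=
    fun t => if t = 1 then ψ else piFun (L t)
  have hχ'irr : ∀ t, IsIrrCharacter (Matrix.SpecialLinearGroup (Fin n) F) (χ' t) := by
    intro t
    by_cases ht : t = 1
    · simp only [χ', if_pos ht]
      exact hψirr
    · simp only [χ', if_neg ht]
      apply isIrrCharacter_of_isCharacter_of_norm_one (piFun_isCharacter _)
      rw [classInner_piFun hn, if_neg (fun h => ht ((hLone t).mp h.1)), if_pos rfl, zero_add]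
  have hχ'orth : ∀ t t', t ≠ t' → t' ≠ 1 → classInner (χ' t) (χ' t') = 0 := by
    intro t t' htt ht'
    have hL' : L t' ≠ 1 := fun h => ht' ((hLone t').mp h)
    simp only [χ', if_neg ht']
    by_cases ht : t = 1
    · simp only [if_pos ht]
      rw [hψ', classInner_sub_left, classInner_piFun hn, h1pi, if_neg hL',
        if_neg (fun h => hL' h.2), if_neg (fun h => hL' h.symm)]
      simp
    · simp only [if_neg ht]
      rw [classInner_piFun hn, if_neg (fun h => hL' h.2), if_neg (fun h => htt (hLinj h))]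
      simp
  have hχ'inj : Function.Injective χ' := by
    intro t t' h
    by_contra htt
    have key : ∀ s s', s ≠ s' → s' ≠ 1 → χ' s = χ' s' → False := by
      intro s s' hss hs' heq
      have h1 := hχ'orth s s' hss hs'
      rw [heq, classInner_irr_self (hχ'irr s')] at h1
      exact one_ne_zero h1
    by_cases ht' : t' = 1
    · have ht : t ≠ 1 := fun h => htt (h.trans ht'.symm)
      exact key t' t (Ne.symm htt) ht h.symm
    · exact key t t' htt ht' h
  have hsum : ∀ g : Matrix.SpecialLinearGroup (Fin n) F, ∑ t : Fˣ, χ' t g = cnt 1 g - 1 := by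
    intro g
    have h1 : ∀ t : Fˣ, χ' t g = piFun (L t) g - if t = 1 then 1 else 0 := by
      intro t
      by_cases ht : t = 1
      · simp only [χ', if_pos ht]
        rw [ht, hL1, hψ']
        rfl
      · simp only [χ', if_neg ht, sub_zero]
    rw [Finset.sum_congr rfl (fun t _ => h1 t), Finset.sum_sub_distrib, sum_piFun L hdual g,
      Finset.sum_ite_eq', if_pos (Finset.mem_univ 1)]
  -- reindexing
  let ε : Fin (Fintype.card F - 1) ≃ Fˣ :=
    (Fintype.equivFinOfCardEq (Fintype.card_units F)).symm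
  refine ⟨fun i => χ' (ε i), fun i => hχ'irr (ε i), fun i j h => ε.injective (hχ'inj h),
    fun g => ?_⟩
  change _ = 1 + ∑ i, χ' (ε i) g
  rw [Equiv.sum_comp ε (fun t => χ' t g), hsum g]
  have hc : (Nat.card {v : Fin n → F //
      v ≠ 0 ∧ (g : Matrix (Fin n) (Fin n) F).mulVec v = v} : ℂ) = cnt 1 g := by
    unfold cnt
    rw [← Fintype.card_subtype, ← Nat.card_eq_fintype_card]
    congr 1
    exact Nat.card_congr ⟨fun v => ⟨⟨v.1, v.2.1⟩, Subtype.ext (by simpa [actG, actA] using v.2.2)⟩,
      fun x => ⟨x.1.1, x.1.2, by simpa [actG, actA] using congrArg Subtype.val x.2⟩,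
      fun v => rfl, fun x => rfl⟩
  rw [hc]
  ring

end Cfsg.Agent.S2336
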