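import Cfsg.Statements.S2337
-- import your own Cfsg.Agent.* helpers here
import Cfsg.Agent.Lib.helper44.SzStruct
import Cfsg.Agent.Lib.helper44.SzChar
import Cfsg.Agent.S1162

set_option autoImplicit false
open Cfsg

namespace Cfsg.Agent.S2337

open Cfsg.Agent.Lib.helper44 Cfsg.Agent.Lib.helper8

/-- For the Suzuki group Sz(q), q = 2^(2m+1) with m ≥ 1 (realised inside Sp₄ over the field with q elements), every irreducible complex representation of degree at least 2 has degree at least 2^m·(q − 1). -/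
theorem result {F : Type*} [Field F] [Fintype F] (m : ℕ) (hm : 1 ≤ m) (hF : Fintype.card F = 2 ^ (2 * m + 1)) :
    (∀ (k : ℕ) (ρ : Representation ℂ (Cfsg.Lie.Sz F (2 ^ (m + 1))) (Fin k → ℂ)), ρ.IsIrreducible → 2 ≤ k → 2 ^ m * (2 ^ (2 * m + 1) - 1) ≤ k) := by
  classical
  intro k ρ hirr hk
  have h := szHyp_of_card hF
  have : CharP F 2 := h.charP
  let _ : Fintype ↥(Cfsg.Lie.Sz F (2 ^ (m + 1))) := Fintype.ofFinite _
  let _ : Fintype ↥(subT h) := Fintype.ofFinite _
  have hsimple : IsSimpleGroup ↥(Cfsg.Lie.Sz F (2 ^ (m + 1))) := Cfsg.Agent.S1162.result hm hF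
  have hχ : Cfsg.IsCharacter ↥(Cfsg.Lie.Sz F (2 ^ (m + 1))) ρ.character := ⟨k, ρ, rfl⟩
  have hχirr : Cfsg.IsIrrCharacter ↥(Cfsg.Lie.Sz F (2 ^ (m + 1))) ρ.character := ⟨k, ρ, hirr, rfl⟩
  have hdeg : ρ.character 1 = (k : ℂ) := by
    rw [Representation.char_one]
    simp
  have hne : ∃ b : F, ρ.character (szHeisHom hm hF (psiT h (0, b))) ≠ ρ.character 1 := by
    refine ⟨1, fun hcon => ?_⟩
    have h1 : ρ (szHeisHom hm hF (psiT h (0, 1))) = LinearMap.id := by
      rw [← Cfsg.Agent.Lib.helper4.char_eq_finrank_iff, hcon, Representation.char_one]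
    have hz1 : szHeisHom hm hF (psiT h (0, 1)) ≠ 1 := by
      intro h0
      have h2 : psiT h ((0 : F), (1 : F)) = psiT h (0, 0) := by
        apply szHeisHom_injective hm hF
        rw [h0, heis_one (psiT h) (fun a b c d => psiT_mul h a b c d), map_one]
      have h3 := (psiT_bijective h).injective h2
      simp at h3
    have hker : MonoidHom.ker ρ = ⊤ := by
      rcases hsimple.eq_bot_or_eq_top_of_normal (MonoidHom.ker ρ) (MonoidHom.normal_ker ρ) with hb | ht
      · exfalso
        apply hz1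
        have hmem : szHeisHom hm hF (psiT h (0, 1)) ∈ MonoidHom.ker ρ := by
          rw [MonoidHom.mem_ker]
          exact h1
        rw [hb] at hmem
        exact Subgroup.mem_bot.1 hmem
      · exact ht
    have hall : ∀ g : ↥(Cfsg.Lie.Sz F (2 ^ (m + 1))), ρ.character g = (k : ℂ) := by
      intro g
      have hg : g ∈ MonoidHom.ker ρ := by
        rw [hker]
        trivial
      rw [MonoidHom.mem_ker] at hg
      show LinearMap.trace ℂ _ (ρ g) = (k : ℂ)
      rw [hg, ← map_one ρ]
      exact hdeg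
    have hinner := Cfsg.Agent.Lib.helper4.classInner_irr_self hχirr
    unfold Cfsg.classInner at hinner
    simp only [hall] at hinner
    have hcard : (Nat.card ↥(Cfsg.Lie.Sz F (2 ^ (m + 1))) : ℂ) ≠ 0 := by
      exact_mod_cast Nat.card_pos.ne'
    rw [Finset.sum_const, Finset.card_univ, ← Nat.card_eq_fintype_card, nsmul_eq_mul,
      ← mul_assoc, inv_mul_cancel₀ hcard, one_mul] at hinner
    simp only [map_natCast] at hinner
    have hk1 : k * k = 1 := by exact_mod_cast hinner
    nlinarith
  obtain ⟨k', hk', hbound⟩ := suzuki_degree_bound h hF (psiT h) (psiT_bijective h)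
    (fun a b c d => psiT_mul h a b c d) (szHeisHom hm hF) hχ
    (fun b b' hb hb' => szHeisHom_isConj hm hF hb hb') hne
  have hkk : k' = k := by
    rw [hdeg] at hk'
    exact_mod_cast hk'.symm
  rw [hkk] at hbound
  rw [mul_comm]
  exact hbound

end Cfsg.Agent.S2337
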