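import Cfsg.Statements.S2343
import Cfsg.Agent.Lib.helper44.ReeLSA
import Cfsg.Agent.Lib.helper44.ReeWardD
import Cfsg.Agent.Lib.helper44.ReeWardA
import Cfsg.Agent.S1073
import Cfsg.Agent.Lib.helper79.S2343E2
import Cfsg.Agent.Lib.helper25.S2343E3

set_option autoImplicit false
open Cfsg

namespace Cfsg.Agent.S2343

/-- For the Ree group ²G₂(q), q = 3^(2m+1) with m ≥ 1 (realised over the field with q elements), every irreducible complex representation of degree at least 2 has degree at least q² − q + 1. -/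
theorem result {K : Type*} [Field K] [Fintype K] (m : ℕ) (hm : 1 ≤ m) (hK : Fintype.card K = 3 ^ (2 * m + 1)) :
    (∀ (k : ℕ) (ρ : Representation ℂ (Cfsg.Lie.twistedG2 K (3 ^ m)) (Fin k → ℂ)), ρ.IsIrreducible → 2 ≤ k → (3 ^ (2 * m + 1)) ^ 2 - 3 ^ (2 * m + 1) + 1 ≤ k) := by
  classical
  intro k ρ hirr hk
  obtain ⟨R⟩ := Cfsg.Agent.Lib.helper23.exists_reeData hK
  obtain ⟨t, ht⟩ := Cfsg.Agent.Lib.helper44.ree_q_form m
  obtain ⟨hfin, hG⟩ := Cfsg.Agent.Lib.helper44.ree_finite hK R t ht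
  have hKt : Fintype.card K = 8 * t + 3 := hK.trans ht
  have hchar : CharP K 3 := R.char3
  have h3 : (3 : K) = 0 := by
    have h := CharP.cast_eq_zero K 3
    exact_mod_cast h
  let _ : Fintype ↥(Cfsg.Lie.twistedG2 K (3 ^ m)) := Fintype.ofFinite _
  have hsimple : IsSimpleGroup ↥(Cfsg.Lie.twistedG2 K (3 ^ m)) := (Cfsg.Agent.S1073.result hm hK).1
  obtain ⟨P, ζ, s, hinj, hζ, hcent, hfus, hcardP, hconj, hs1, hs2, hsinv⟩ :=
    Cfsg.Agent.Lib.helper44.ReeLS.ree_ls_pack R
  let _ : Fintype ↥P := Fintype.ofFinite _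
  have hcardP' : Fintype.card ↥P = Fintype.card K ^ 3 := by
    rw [← Nat.card_eq_fintype_card]
    exact hcardP
  have hζ0 : ζ 0 = 1 := by
    have h := hζ 0 0
    rw [add_zero] at h
    have h' : ζ 0 * ζ 0 = ζ 0 * 1 := by
      rw [mul_one]
      exact h.symm
    exact mul_left_cancel h'
  have hχ : Cfsg.IsCharacter ↥(Cfsg.Lie.twistedG2 K (3 ^ m)) ρ.character := ⟨k, ρ, rfl⟩
  have hχirr : Cfsg.IsIrrCharacter ↥(Cfsg.Lie.twistedG2 K (3 ^ m)) ρ.character := ⟨k, ρ, hirr, rfl⟩
  have hdeg : ρ.character 1 = (k : ℂ) := by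
    rw [Representation.char_one]
    simp
  obtain ⟨ψ, hψ⟩ := (AddChar.exists_apply_ne_zero (a := (1 : K))).mpr one_ne_zero
  have hne : ∃ b : K, ρ.character (P.subtype (ζ b)) ≠ ρ.character 1 := by
    refine ⟨1, fun hcon => ?_⟩
    have h1 : ρ (P.subtype (ζ 1)) = LinearMap.id := by
      rw [← Cfsg.Agent.Lib.helper4.char_eq_finrank_iff, hcon, Representation.char_one]
    have hz1 : P.subtype (ζ 1) ≠ 1 := by
      intro h0
      have h2 : ζ 1 = ζ 0 := by
        rw [hζ0]
        exact Subtype.ext h0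
      exact one_ne_zero (hinj h2)
    have hker : MonoidHom.ker ρ = ⊤ := by
      rcases hsimple.eq_bot_or_eq_top_of_normal (MonoidHom.ker ρ) (MonoidHom.normal_ker ρ) with hb | ht'
      · exfalso
        apply hz1
        have hmem : P.subtype (ζ 1) ∈ MonoidHom.ker ρ := by
          rw [MonoidHom.mem_ker]
          exact h1
        rw [hb] at hmem
        exact Subgroup.mem_bot.1 hmem
      · exact ht'
    have hall : ∀ g : ↥(Cfsg.Lie.twistedG2 K (3 ^ m)), ρ.character g = (k : ℂ) := by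
      intro g
      have hg : g ∈ MonoidHom.ker ρ := by
        rw [hker]
        trivial
      rw [MonoidHom.mem_ker] at hg
      show LinearMap.trace ℂ _ (ρ g) = (k : ℂ)
      rw [hg, ← map_one ρ]
      exact hdeg
    have hinner := Cfsg.Agent.Lib.helper4.classInner_irr_self hχirr
    unfold Cfsg.classInner at hinner
    simp only [hall] at hinner
    have hcard : (Nat.card ↥(Cfsg.Lie.twistedG2 K (3 ^ m)) : ℂ) ≠ 0 := by
      exact_mod_cast Nat.card_pos.ne'
    rw [Finset.sum_const, Finset.card_univ, ← Nat.card_eq_fintype_card, nsmul_eq_mul,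
      ← mul_assoc, inv_mul_cancel₀ hcard, one_mul] at hinner
    simp only [map_natCast] at hinner
    have hk1 : k * k = 1 := by exact_mod_cast hinner
    nlinarith
  obtain ⟨k', hk', hbound, heq⟩ := Cfsg.Agent.Lib.helper79.ReeLS.ls_degree_bound ζ hinj hζ hcent hfus hcardP'
    (fun x => ψ x) (fun a b => AddChar.map_add_eq_mul ψ a b) ⟨1, hψ⟩ P.subtype hχ
    (fun b b' hb hb' => hconj b b' hb hb') hne
  have hkk : k' = k := by
    rw [hdeg] at hk'
    exact_mod_cast hk'.symm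
  rw [hkk, hKt] at hbound heq
  rw [ht]
  have e81 : 8 * t + 3 - 1 = 8 * t + 2 := by omega
  rw [e81] at hbound heq
  by_contra hlt
  have hkeq : k = (8 * t + 2) * (8 * t + 3) := by
    have e1 : (8 * t + 3) ^ 2 = (8 * t + 2) * (8 * t + 3) + (8 * t + 3) := by ring
    omega
  have hsum := heq hkeq
  have hχs : ρ.character s = 0 :=
    Cfsg.Agent.Lib.helper25.ReeLS.char_eq_zero_of_inverting ρ (F := K)
      (fun b => by linear_combination b * h3) (fun b => (ζ b : ↥(Cfsg.Lie.twistedG2 K (3 ^ m))))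
      (fun a b => by rw [hζ]; rfl) s hsinv hsum
  obtain ⟨A₀, Z, a, b, φG, -, -, hT, -, haA, hbA, ha1, hb1, hab, ha2, hb2, -, -, -, -, -, hinvc⟩ :=
    Cfsg.Agent.Lib.helper44.ree_pack hm hK R t ht
  have hcf := Cfsg.Agent.Lib.helper4.isClassFunction_of_isCharacter hχ
  have hinvol : ∀ z : ↥(Cfsg.Lie.twistedG2 K (3 ^ m)), z ≠ 1 → z * z = 1 → ρ.character z = 0 := by
    intro z hz1 hz2
    obtain ⟨c, hc⟩ := hinvc z hz1 hz2
    obtain ⟨c', hc'⟩ := hinvc s hs1 hs2
    rw [← hc, hcf a c, ← hcf a c', hc']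
    exact hχs
  have hcomm : a * b = b * a := hT.comm a haA b hbA
  have hab1 : a * b ≠ 1 := by
    intro h
    apply hab
    have h' : a * b = b * b := by rw [h, hb2]
    exact mul_right_cancel h'
  have hab2 : (a * b) * (a * b) = 1 := by
    calc a * b * (a * b) = a * (b * a) * b := by group
      _ = a * (a * b) * b := by rw [hcomm]
      _ = (a * a) * (b * b) := by group
      _ = 1 := by rw [ha2, hb2, one_mul]
  have h4 := Cfsg.Agent.Lib.helper25.ReeLS.four_dvd_of_char_zero ρ a b ha2 hb2 hcomm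
    (hinvol a ha1 ha2) (hinvol b hb1 hb2) (hinvol (a * b) hab1 hab2)
  rw [hkeq] at h4
  have e : (8 * t + 2) * (8 * t + 3) = 4 * (16 * t ^ 2 + 10 * t + 1) + 2 := by ring
  rw [e] at h4
  omega

end Cfsg.Agent.S2343
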