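import Cfsg.Statements.S2353
-- import your own Cfsg.Agent.* helpers here
import Cfsg.Agent.Lib.helper44.SL2Law

set_option autoImplicit false
open Cfsg

namespace Cfsg.Agent.S2353

open Cfsg.Agent.Lib.helper44

/-- A non-trivial law holds in PSL_2 over only finitely many finite fields: for every non-trivial element w of the free group on countably many generators there is N such that over every finite field with at least N elements some substitution of elements of PSL_2 into w is not the identity. -/
theorem result (w : FreeGroup ℕ) (hw : w ≠ 1) :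
    ∃ N : ℕ, ∀ (F : Type*) [Field F] [Fintype F], N ≤ Fintype.card F →
      ∃ f : ℕ → Matrix.ProjectiveSpecialLinearGroup (Fin 2) F, FreeGroup.lift f w ≠ 1 := by
  refine ⟨wordBound w.toWord + 1, fun F _ _ hF => ?_⟩
  obtain ⟨g, hg⟩ := exists_SL2_lift_not_scalar (F := F) w hw (by omega)
  refine ⟨fun i => QuotientGroup.mk (g i), fun h => ?_⟩
  have hcomp : (QuotientGroup.mk' (Subgroup.center (Matrix.SpecialLinearGroup (Fin 2) F))).comp
      (FreeGroup.lift g) = FreeGroup.lift (fun i =>
        (QuotientGroup.mk (g i) : Matrix.ProjectiveSpecialLinearGroup (Fin 2) F)) := by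
    apply FreeGroup.ext_hom
    intro i
    simp
  have h1 := DFunLike.congr_fun hcomp w
  simp only [MonoidHom.comp_apply] at h1
  rw [h] at h1
  have hmem : FreeGroup.lift g w ∈ Subgroup.center (Matrix.SpecialLinearGroup (Fin 2) F) :=
    (QuotientGroup.eq_one_iff _).1 h1
  obtain ⟨r, _, hr⟩ := Matrix.SpecialLinearGroup.mem_center_iff.1 hmem
  apply hg
  rw [← hr]
  simp

end Cfsg.Agent.S2353
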