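import Cfsg.Statements.S2355
-- import your own Cfsg.Agent.* helpers here
import Cfsg.Agent.Lib.helper44.ClassicalLaw

set_option autoImplicit false
open Cfsg

namespace Cfsg.Agent.S2355

open Cfsg.Agent.Lib.helper44

/-- Rank bound. -/
def rk (w : FreeGroup ℕ) : ℕ := max (2 * (w.toWord.length + 1)) 5

/-- Field size bound. -/
def fb (w : FreeGroup ℕ) : ℕ := max (wordBound w.toWord) 3 + 1

/-- Order bound. -/
def ob (w : FreeGroup ℕ) : ℕ := (rk w).factorial + (fb w ^ 2) ^ ((2 * rk w) * (2 * rk w))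

theorem pow_bound (w : FreeGroup ℕ) (c d : ℕ) (hc0 : 0 < c) (hc : c ≤ fb w ^ 2)
    (hd : d ≤ 2 * rk w) : c ^ (d * d) ≤ ob w := by
  have h1 : c ^ (d * d) ≤ c ^ ((2 * rk w) * (2 * rk w)) :=
    Nat.pow_le_pow_right hc0 (Nat.mul_le_mul hd hd)
  have h2 : c ^ ((2 * rk w) * (2 * rk w)) ≤ (fb w ^ 2) ^ ((2 * rk w) * (2 * rk w)) :=
    Nat.pow_le_pow_left hc _
  unfold ob
  omega

theorem le_sq_fb (w : FreeGroup ℕ) (c : ℕ) (hc : c < fb w) : c ≤ fb w ^ 2 := by
  have : fb w ≤ fb w ^ 2 := by
    have h1 : 1 ≤ fb w := by unfold fb; omega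
    calc fb w = fb w * 1 := (mul_one _).symm
      _ ≤ fb w * fb w := Nat.mul_le_mul_left _ h1
      _ = fb w ^ 2 := (sq _).symm
  omega

theorem transfer {w : FreeGroup ℕ} {G X : Type*} [Group G] [Group X] (e : G ≃* X)
    (hlaw : ∀ f : ℕ → G, FreeGroup.lift f w = 1) : ∀ f : ℕ → X, FreeGroup.lift f w = 1 := by
  intro f
  by_contra hne
  obtain ⟨f', hf'⟩ := not_law_of_mulEquiv e ⟨f, hne⟩
  exact hf' (hlaw f')

theorem alt_case (w : FreeGroup ℕ) (hw : w ≠ 1) (n : ℕ)
    (hlaw : ∀ f : ℕ → alternatingGroup (Fin n), FreeGroup.lift f w = 1) :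
    Nat.card (alternatingGroup (Fin n)) ≤ ob w := by
  have hn : n < 2 * (w.toWord.length + 1) := by
    by_contra hge
    obtain ⟨f, hf⟩ := exists_alternating_lift_ne_one w hw n (by omega)
    exact hf (hlaw f)
  have h1 : Nat.card (alternatingGroup (Fin n)) ≤ Nat.card (Equiv.Perm (Fin n)) :=
    Nat.card_le_card_of_injective _ Subtype.val_injective
  rw [Nat.card_perm, Nat.card_fin] at h1
  have h2 : n.factorial ≤ (rk w).factorial := Nat.factorial_le (by unfold rk; omega)
  unfold ob
  omega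

theorem psl_case (w : FreeGroup ℕ) (hw : w ≠ 1) (F : Type) [Field F] [Fintype F] (n : ℕ)
    (hn2 : 2 ≤ n)
    (hlaw : ∀ f : ℕ → Matrix.ProjectiveSpecialLinearGroup (Fin n) F, FreeGroup.lift f w = 1) :
    Nat.card (Matrix.ProjectiveSpecialLinearGroup (Fin n) F) ≤ ob w := by
  have hn : n < 2 * (w.toWord.length + 1) := by
    by_contra hge
    obtain ⟨f, hf⟩ := not_law_PSL (F := F) (NC_alternating w hw n (by omega)) (altRep n)
      (altRep_injective n) (det_altRep n)
    exact hf (hlaw f)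
  have hF : Fintype.card F ≤ wordBound w.toWord := by
    by_contra hge
    obtain ⟨f, hf⟩ := not_law_PSL (NC_SL2 w hw F (by omega)) (sl2Block n hn2)
      (sl2Block_injective n hn2) (det_sl2Block n hn2)
    exact hf (hlaw f)
  have h1 := card_quot_center_le (F := F) (K := Matrix.SpecialLinearGroup (Fin n) F)
    (fun g => g.1) (fun _ _ h => Subtype.ext h)
  rw [Nat.card_eq_fintype_card (α := F), Fintype.card_fin] at h1
  refine h1.trans (pow_bound w _ _ Fintype.card_pos (le_sq_fb w _ ?_) ?_)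
  · unfold fb; omega
  · unfold rk; omega

theorem psp_case (w : FreeGroup ℕ) (hw : w ≠ 1) (F : Type) [Field F] [Fintype F] (m : ℕ)
    (hm2 : 2 ≤ m)
    (hlaw : ∀ f : ℕ → Cfsg.PSp m F, FreeGroup.lift f w = 1) :
    Nat.card (Cfsg.PSp m F) ≤ ob w := by
  have hm : m < 2 * (w.toWord.length + 1) := by
    by_contra hge
    obtain ⟨f, hf⟩ := not_law_PSp (F := F) (NC_alternating w hw m (by omega)) (altRep m)
      (altRep_injective m)
    exact hf (hlaw f)
  have hF : Fintype.card F ≤ wordBound w.toWord := by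
    by_contra hge
    obtain ⟨f, hf⟩ := not_law_PSp (NC_SL2 w hw F (by omega)) (sl2Block m hm2)
      (sl2Block_injective m hm2)
    exact hf (hlaw f)
  have h1 := card_quot_center_le (F := F) (K := Matrix.symplecticGroup (Fin m) F)
    (fun g => g.1) (fun _ _ h => Subtype.ext h)
  rw [Nat.card_eq_fintype_card (α := F), Fintype.card_sum, Fintype.card_fin] at h1
  refine h1.trans (pow_bound w _ _ Fintype.card_pos (le_sq_fb w _ ?_) ?_)
  · unfold fb; omega
  · unfold rk; omega

theorem psu_case (w : FreeGroup ℕ) (hw : w ≠ 1) (F : Type) [Field F] [Fintype F] (n q : ℕ)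
    (hq : Fintype.card F = q ^ 2) (hn2 : 2 ≤ n)
    (hlaw : ∀ f : ℕ → Cfsg.PSU n F q, FreeGroup.lift f w = 1) :
    Nat.card (Cfsg.PSU n F q) ≤ ob w := by
  have hn : n < 2 * (w.toWord.length + 1) := by
    by_contra hge
    obtain ⟨f, hf⟩ := not_law_PSU (F := F) (NC_alternating w hw n (by omega)) q (altRep n)
      (altRep_injective n) (det_altRep n) (hermForm_altRep n q)
    exact hf (hlaw f)
  have hF : q ≤ wordBound w.toWord := by
    by_contra hge
    obtain ⟨f, hf⟩ := (NC_SU_of_field (F := F) hw n q hn2 hq (by omega)).quotient_center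
    exact hf (hlaw f)
  have h1 := card_quot_center_le (F := F) (K := Cfsg.SU n F q)
    (fun g => g.1.1) (fun _ _ h => Subtype.ext (Subtype.ext h))
  rw [Nat.card_eq_fintype_card (α := F), Fintype.card_fin] at h1
  refine h1.trans (pow_bound w _ _ Fintype.card_pos ?_ ?_)
  · rw [hq]
    exact Nat.pow_le_pow_left (by unfold fb; omega) 2
  · unfold rk; omega

theorem omega_bound (w : FreeGroup ℕ) (F : Type) [Field F] [Fintype F] {ι : Type} [Fintype ι]
    [DecidableEq ι] (Q : (ι → F) → F) (hF : Fintype.card F < fb w)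
    (hι : Fintype.card ι ≤ 2 * rk w) : Nat.card (Cfsg.POmega F Q) ≤ ob w := by
  have h1 := card_quot_center_le (F := F) (K := Cfsg.Omega F Q)
    (fun g => ((g.1.1 : Matrix.GeneralLinearGroup ι F) : Matrix ι ι F))
    (fun _ _ h => Subtype.ext (Subtype.ext (Units.ext h)))
  rw [Nat.card_eq_fintype_card (α := F)] at h1
  exact h1.trans (pow_bound w _ _ Fintype.card_pos (le_sq_fb w _ hF) hι)

theorem omega_odd_case (w : FreeGroup ℕ) (hw : w ≠ 1) (F : Type) [Field F] [Fintype F] (m : ℕ)
    (hm2 : 2 ≤ m)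
    (hlaw : ∀ f : ℕ → Cfsg.POmega F (Cfsg.quadFormOdd m F), FreeGroup.lift f w = 1) :
    Nat.card (Cfsg.POmega F (Cfsg.quadFormOdd m F)) ≤ ob w := by
  have hm : m < rk w := by
    by_contra hge
    have h5 : 5 ≤ m := by unfold rk at hge; omega
    obtain ⟨f, hf⟩ := not_law_POmegaOdd (F := F)
      (NC_alternating w hw m (by unfold rk at hge; omega)) (alt_perfect m h5) (altRep m)
      (altRep_injective m)
    exact hf (hlaw f)
  have hF : Fintype.card F < fb w := by
    by_contra hge
    obtain ⟨f, hf⟩ := not_law_POmegaOdd (NC_SL2 w hw F (by unfold fb at hge; omega))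
      (SL2_perfect (by unfold fb at hge; omega)) (sl2Block m hm2) (sl2Block_injective m hm2)
    exact hf (hlaw f)
  apply omega_bound w F _ hF
  simp only [Fintype.card_sum, Fintype.card_fin, Fintype.card_unit]
  omega

theorem omega_plus_case (w : FreeGroup ℕ) (hw : w ≠ 1) (F : Type) [Field F] [Fintype F] (m : ℕ)
    (hm2 : 2 ≤ m)
    (hlaw : ∀ f : ℕ → Cfsg.POmega F (Cfsg.quadFormPlus m F), FreeGroup.lift f w = 1) :
    Nat.card (Cfsg.POmega F (Cfsg.quadFormPlus m F)) ≤ ob w := by
  have hm : m < rk w := by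
    by_contra hge
    have h5 : 5 ≤ m := by unfold rk at hge; omega
    obtain ⟨f, hf⟩ := not_law_POmegaPlus (F := F)
      (NC_alternating w hw m (by unfold rk at hge; omega)) (alt_perfect m h5) (altRep m)
      (altRep_injective m)
    exact hf (hlaw f)
  have hF : Fintype.card F < fb w := by
    by_contra hge
    obtain ⟨f, hf⟩ := not_law_POmegaPlus (NC_SL2 w hw F (by unfold fb at hge; omega))
      (SL2_perfect (by unfold fb at hge; omega)) (sl2Block m hm2) (sl2Block_injective m hm2)
    exact hf (hlaw f)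
  apply omega_bound w F _ hF
  simp only [Fintype.card_sum, Fintype.card_fin]
  omega

theorem omega_minus_case (w : FreeGroup ℕ) (hw : w ≠ 1) (F : Type) [Field F] [Fintype F] (m : ℕ)
    (a b : F) (hm2 : 2 ≤ m)
    (hlaw : ∀ f : ℕ → Cfsg.POmega F (Cfsg.quadFormMinus m F a b), FreeGroup.lift f w = 1) :
    Nat.card (Cfsg.POmega F (Cfsg.quadFormMinus m F a b)) ≤ ob w := by
  have hm : m < rk w := by
    by_contra hge
    have h5 : 5 ≤ m := by unfold rk at hge; omega
    obtain ⟨f, hf⟩ := not_law_POmegaMinus (F := F)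
      (NC_alternating w hw m (by unfold rk at hge; omega)) (alt_perfect m h5) a b (altRep m)
      (altRep_injective m)
    exact hf (hlaw f)
  have hF : Fintype.card F < fb w := by
    by_contra hge
    obtain ⟨f, hf⟩ := not_law_POmegaMinus (NC_SL2 w hw F (by unfold fb at hge; omega))
      (SL2_perfect (by unfold fb at hge; omega)) a b (sl2Block m hm2) (sl2Block_injective m hm2)
    exact hf (hlaw f)
  apply omega_bound w F _ hF
  simp only [Fintype.card_sum, Fintype.card_fin]
  omega

/-- A non-trivial law is satisfied by only finitely many finite simple groups that are alternating or classical, up to isomorphism: for every non-trivial element w of the free group on countably many generators there is a bound N such that every alternating group of degree ≥ 5 and every simple classical group (linear, symplectic, unitary or orthogonal, in this problem's sense) in which w is a law has order at most N. -/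
theorem result (w : FreeGroup ℕ) (hw : w ≠ 1) :
    ∃ N : ℕ, ∀ (G : Type*) [Group G] [Finite G],
      (Cfsg.IsAlternating G ∨ Cfsg.IsPSL G ∨ Cfsg.IsPSp G ∨ Cfsg.IsPSU G ∨ Cfsg.IsPOmegaOdd G ∨
          Cfsg.IsPOmegaPlus G ∨ Cfsg.IsPOmegaMinus G) →
      (∀ f : ℕ → G, FreeGroup.lift f w = 1) → Nat.card G ≤ N := by
  refine ⟨ob w, ?_⟩
  intro G _ _ hG hlaw
  rcases hG with ⟨n, -, ⟨e⟩⟩ | ⟨F, _, _, n, hn2, -, ⟨e⟩⟩ | ⟨F, _, _, m, hm2, -, ⟨e⟩⟩ |
    ⟨F, _, _, n, q, hq, hn3, -, ⟨e⟩⟩ | ⟨F, _, _, m, hm3, -, ⟨e⟩⟩ | ⟨F, _, _, m, hm4, ⟨e⟩⟩ |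
    ⟨F, _, _, m, a, b, hm4, -, ⟨e⟩⟩
  · rw [Nat.card_congr e.toEquiv]
    exact alt_case w hw n (transfer e hlaw)
  · rw [Nat.card_congr e.toEquiv]
    exact psl_case w hw F n hn2 (transfer e hlaw)
  · rw [Nat.card_congr e.toEquiv]
    exact psp_case w hw F m hm2 (transfer e hlaw)
  · rw [Nat.card_congr e.toEquiv]
    exact psu_case w hw F n q hq (by omega) (transfer e hlaw)
  · rw [Nat.card_congr e.toEquiv]
    exact omega_odd_case w hw F m (by omega) (transfer e hlaw)
  · rw [Nat.card_congr e.toEquiv]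
    exact omega_plus_case w hw F m (by omega) (transfer e hlaw)
  · rw [Nat.card_congr e.toEquiv]
    exact omega_minus_case w hw F (m - 1) a b (by omega) (transfer e hlaw)

end Cfsg.Agent.S2355
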