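import Cfsg.Statements.S2360
import Cfsg.Agent.Lib.helper99.SuInvB

set_option autoImplicit false
open Cfsg

namespace Cfsg.Agent.S2360

open Cfsg.Agent.Lib.helper7 Cfsg.Agent.Lib.helper99.SuInv

/-- Let q be odd, F the field with q² elements and S = SU_3(F) (determinant-one isometries of the standard Hermitian form). Then all involutions of S are conjugate; there are exactly q²(q²−q+1) of them; the centralizer of an involution has order q(q+1)(q²−1), the order of the full unitary group of degree 2; and for two distinct commuting involutions t and x there is exactly one further involution commuting with both. -/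
theorem result {F : Type*} [Field F] [Fintype F] {q : ℕ} (hq : Odd q)
    (hF : Fintype.card F = q ^ 2) (t : ↥(Cfsg.SU 3 F q)) (ht : t ≠ 1) (ht2 : t * t = 1) :
    (∀ x : ↥(Cfsg.SU 3 F q), x ≠ 1 → x * x = 1 → ∃ g : ↥(Cfsg.SU 3 F q), g * t * g⁻¹ = x) ∧
    Nat.card {x : ↥(Cfsg.SU 3 F q) // x ≠ 1 ∧ x * x = 1} = q ^ 2 * (q ^ 2 - q + 1) ∧
    Nat.card ↥(Subgroup.centralizer ({t} : Set ↥(Cfsg.SU 3 F q))) = q * (q + 1) * (q ^ 2 - 1) ∧
    ∀ x : ↥(Cfsg.SU 3 F q), x ≠ 1 → x * x = 1 → x ≠ t → Commute t x →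
      Nat.card {y : ↥(Cfsg.SU 3 F q) // y ≠ 1 ∧ y * y = 1 ∧ y ≠ t ∧ y ≠ x ∧ Commute t y ∧ Commute x y} = 1 := by
  classical
  have hq2 := two_le_of_card_sq hF
  have hiso : ∀ x : ↥(Cfsg.SU 3 F q), IsIsom 3 q x.1.1 := fun x => (mem_SU_iff 3 x.1).1 x.2
  have hdet : ∀ x : ↥(Cfsg.SU 3 F q), x.1.1.det = 1 := fun x => x.1.2
  have hext : ∀ x y : ↥(Cfsg.SU 3 F q), x.1.1 = y.1.1 → x = y :=
    fun x y h => Subtype.ext (Subtype.ext h)
  have hone : ∀ x : ↥(Cfsg.SU 3 F q), x ≠ 1 → x.1.1 ≠ 1 := by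
    intro x hx h
    exact hx (hext x 1 h)
  have hmul : ∀ x y z : ↥(Cfsg.SU 3 F q), x * y = z → x.1.1 * y.1.1 = z.1.1 := by
    intro x y z h
    exact congrArg (fun g : ↥(Cfsg.SU 3 F q) => g.1.1) h
  have hsq : ∀ x : ↥(Cfsg.SU 3 F q), x * x = 1 → x.1.1 * x.1.1 = 1 := fun x hx => hmul x x 1 hx
  have hconj : ∀ x : ↥(Cfsg.SU 3 F q), x ≠ 1 → x * x = 1 →
      ∃ g : ↥(Cfsg.SU 3 F q), g * t * g⁻¹ = x := by
    intro x hx hx2
    obtain ⟨v, hv, htv⟩ := invol_eq_rf hF hq t.1.1 (hiso t) (hsq t ht2) (hdet t) (hone t ht)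
    obtain ⟨w, hw, hxw⟩ := invol_eq_rf hF hq x.1.1 (hiso x) (hsq x hx2) (hdet x) (hone x hx)
    obtain ⟨M, hM, hMdet, hMc⟩ := rf_conj_exists hF v w hv hw
    refine ⟨(suEquiv 3).symm ⟨M, hM, hMdet⟩, ?_⟩
    rw [mul_inv_eq_iff_eq_mul]
    apply hext
    change M * t.1.1 = x.1.1 * M
    rw [htv, hxw, hMc]
  have hcount : Nat.card {x : ↥(Cfsg.SU 3 F q) // x ≠ 1 ∧ x * x = 1} * (q + 1)
      = q ^ 2 * (q ^ 3 + 1) := by
    rw [← card_norm_one_three hF, ← card_invol hF hq]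
    congr 1
    refine Nat.card_congr ⟨fun x => ⟨x.1.1.1, hiso x.1, hdet x.1, hone x.1 x.2.1, hsq x.1 x.2.2⟩,
      fun M => ⟨(suEquiv 3).symm ⟨M.1, M.2.1, M.2.2.1⟩, ?_, ?_⟩, ?_, ?_⟩
    · intro h
      exact M.2.2.2.1 (congrArg (fun g : ↥(Cfsg.SU 3 F q) => g.1.1) h)
    · apply hext
      exact M.2.2.2.2
    · intro x
      rfl
    · intro M
      rfl
  have hle : q ≤ q ^ 2 := by nlinarith
  have hle1 : 1 ≤ q ^ 2 := by nlinarith
  have hN : Nat.card {x : ↥(Cfsg.SU 3 F q) // x ≠ 1 ∧ x * x = 1} = q ^ 2 * (q ^ 2 - q + 1) := by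
    apply Nat.eq_of_mul_eq_mul_right (show 0 < q + 1 by omega)
    rw [hcount]
    zify [hle]
    ring
  have hP : ∀ x : ↥(Cfsg.SU 3 F q), (x ≠ 1 ∧ x * x = 1) ↔ ∃ g : ↥(Cfsg.SU 3 F q), g * t * g⁻¹ = x := by
    intro x
    constructor
    · rintro ⟨hx, hx2⟩
      exact hconj x hx hx2
    · rintro ⟨g, rfl⟩
      constructor
      · intro h
        apply ht
        calc t = g⁻¹ * (g * t * g⁻¹) * g := by group
          _ = 1 := by rw [h]; group
      · calc g * t * g⁻¹ * (g * t * g⁻¹) = g * (t * t) * g⁻¹ := by group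
          _ = 1 := by rw [ht2]; group
  have hclass := card_conj_class t (fun x : ↥(Cfsg.SU 3 F q) => x ≠ 1 ∧ x * x = 1) hP
  have hSU := card_SU hF 3 (by norm_num)
  have hSU' : (q + 1) * Nat.card ↥(Cfsg.SU 3 F q) = q ^ 3 * ((q + 1) * (q ^ 2 - 1) * (q ^ 3 + 1)) := by
    rw [hSU]
    simp [Finset.prod_range_succ]
  refine ⟨hconj, hN, ?_, ?_⟩
  · apply Nat.eq_of_mul_eq_mul_left (show 0 < q ^ 2 * (q ^ 3 + 1) by positivity)
    calc q ^ 2 * (q ^ 3 + 1) * Nat.card ↥(Subgroup.centralizer ({t} : Set ↥(Cfsg.SU 3 F q)))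
        = (q + 1) * (Nat.card {x : ↥(Cfsg.SU 3 F q) // x ≠ 1 ∧ x * x = 1}
            * Nat.card ↥(Subgroup.centralizer ({t} : Set ↥(Cfsg.SU 3 F q)))) := by
          rw [← hcount]; ring
      _ = (q + 1) * Nat.card ↥(Cfsg.SU 3 F q) := by rw [hclass]
      _ = q ^ 2 * (q ^ 3 + 1) * (q * (q + 1) * (q ^ 2 - 1)) := by rw [hSU']; ring
  · intro x hx hx2 hxt hc
    rw [Nat.card_eq_one_iff_unique]
    have htx : t * x = x * t := hc
    constructor
    · refine ⟨fun a b => ?_⟩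
      have key : ∀ y : ↥(Cfsg.SU 3 F q), y ≠ 1 ∧ y * y = 1 ∧ y ≠ t ∧ y ≠ x ∧ Commute t y ∧ Commute x y →
          y = t * x := by
        rintro y ⟨hy, hy2, hyt, hyx, hty, hxy⟩
        apply hext
        change y.1.1 = t.1.1 * x.1.1
        exact third_invol hF hq t.1.1 x.1.1 y.1.1 (hiso t) (hsq t ht2) (hdet t) (hone t ht)
          (hiso x) (hsq x hx2) (hdet x) (hone x hx) (hiso y) (hsq y hy2) (hdet y) (hone y hy)
          (hmul t x (x * t) htx) (hmul t y (y * t) hty) (hmul x y (y * x) hxy)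
          (fun h => hxt (hext x t h.symm)) (fun h => hyt (hext y t h.symm))
          (fun h => hyx (hext y x h.symm))
      apply Subtype.ext
      rw [key a.1 a.2, key b.1 b.2]
    · refine ⟨⟨t * x, ?_, ?_, ?_, ?_, ?_, ?_⟩⟩
      · intro h
        apply hxt
        calc x = t * (t * x) := by rw [← mul_assoc, ht2, one_mul]
          _ = t := by rw [h, mul_one]
      · calc t * x * (t * x) = t * (x * t) * x := by group
          _ = t * (t * x) * x := by rw [htx]
          _ = (t * t) * (x * x) := by group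
          _ = 1 := by rw [ht2, hx2, mul_one]
      · intro h
        apply hx
        calc x = t * (t * x) := by rw [← mul_assoc, ht2, one_mul]
          _ = 1 := by rw [h, ht2]
      · intro h
        apply ht
        calc t = (t * x) * x := by rw [mul_assoc, hx2, mul_one]
          _ = 1 := by rw [h, hx2]
      · change t * (t * x) = t * x * t
        rw [mul_assoc t x t, htx]
      · change x * (t * x) = t * x * x
        rw [← mul_assoc, htx]

end Cfsg.Agent.S2360
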