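import Cfsg.Statements.S2356
import Cfsg.Agent.S2360
import Cfsg.Agent.Lib.helper99.SuInvD

set_option autoImplicit false
open Cfsg

namespace Cfsg.Agent.S2356

open Cfsg.Agent.Lib.helper7 Cfsg.Agent.Lib.helper99.SuInv

theorem card_split {α : Type*} [Finite α] (p r : α → Prop) :
    Nat.card {x : α // p x} = Nat.card {x : α // p x ∧ r x} + Nat.card {x : α // p x ∧ ¬ r x} := by
  classical
  have := Fintype.ofFinite α
  rw [Nat.card_eq_fintype_card, Nat.card_eq_fintype_card, Nat.card_eq_fintype_card,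
    Fintype.card_subtype, Fintype.card_subtype, Fintype.card_subtype, ← Finset.filter_filter,
    ← Finset.filter_filter]
  exact (Finset.card_filter_add_card_filter_not _).symm

set_option maxHeartbeats 1000000 in
/-- Let q be odd, F the field with q² elements, S = SU_3(F) (determinant-one isometries of the standard Hermitian form) and t an involution of S. Then: exactly q(q−1) involutions other than t commute with t; exactly q(q−2)(q²−1) involutions do not commute with t but commute with some involution commuting with t; exactly (q+1)(q²−1) involutions x do not commute with t and admit no involution commuting with both t and x; and every involution can be reached from t in at most three steps, each step going to an involution that commutes with the previous one (the commuting involution graph is connected of diameter 3). -/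
theorem result {F : Type*} [Field F] [Fintype F] {q : ℕ} (hq : Odd q)
    (hF : Fintype.card F = q ^ 2) (t : ↥(Cfsg.SU 3 F q)) (ht : t ≠ 1) (ht2 : t * t = 1) :
    Nat.card {x : ↥(Cfsg.SU 3 F q) // x ≠ 1 ∧ x * x = 1 ∧ x ≠ t ∧ Commute t x} = q * (q - 1) ∧
    Nat.card {x : ↥(Cfsg.SU 3 F q) // x ≠ 1 ∧ x * x = 1 ∧ ¬ Commute t x ∧
        ∃ y : ↥(Cfsg.SU 3 F q), y ≠ 1 ∧ y * y = 1 ∧ Commute t y ∧ Commute y x} = q * (q - 2) * (q ^ 2 - 1) ∧
    Nat.card {x : ↥(Cfsg.SU 3 F q) // x ≠ 1 ∧ x * x = 1 ∧ ¬ Commute t x ∧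
        ∀ y : ↥(Cfsg.SU 3 F q), y ≠ 1 → y * y = 1 → ¬ (Commute t y ∧ Commute y x)} = (q + 1) * (q ^ 2 - 1) ∧
    ∀ x : ↥(Cfsg.SU 3 F q), x ≠ 1 → x * x = 1 →
      ∃ y z : ↥(Cfsg.SU 3 F q), y ≠ 1 ∧ y * y = 1 ∧ z ≠ 1 ∧ z * z = 1 ∧
        Commute t y ∧ Commute y z ∧ Commute z x := by
  classical
  have hq2 := two_le_of_card_sq hF
  have hq3 : 3 ≤ q := by
    rcases hq with ⟨k, rfl⟩
    omega
  have hq0 : q ≠ 0 := by omega
  have h20 := two_ne_zero_of_odd hF hq
  have hle1 : 1 ≤ q ^ 2 := by nlinarith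
  have hleq : q ≤ q ^ 2 := by nlinarith
  have hNtot := (Cfsg.Agent.S2360.result hq hF t ht ht2).2.1
  obtain ⟨v0, hv0, rfl⟩ := exists_suRf hF hq t ht ht2
  have hct : ∀ (w : Fin 3 → F) (hw : hermForm 3 F q w w = 1),
      Commute (suRf hF v0 hv0) (suRf hF w hw) ↔ rf q v0 = rf q w ∨ hermForm 3 F q w v0 = 0 :=
    fun w hw => commute_suRf_iff hF hq v0 w hv0 hw
  -- (1)
  have h1 : Nat.card {x : ↥(Cfsg.SU 3 F q) // x ≠ 1 ∧ x * x = 1 ∧ x ≠ suRf hF v0 hv0 ∧
      Commute (suRf hF v0 hv0) x} = q * (q - 1) := by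
    have hc := card_su_rf hF hq
      (fun x => x ≠ 1 ∧ x * x = 1 ∧ x ≠ suRf hF v0 hv0 ∧ Commute (suRf hF v0 hv0) x)
      (fun w => hermForm 3 F q w v0 = 0)
      (by
        intro a u ha hu
        rw [herm_smul_left, hu, mul_zero])
      (by
        intro w hw hQ
        refine ⟨suRf_ne_one hF hq w hw, suRf_sq hF w hw, ?_, (hct w hw).2 (Or.inr hQ)⟩
        intro h
        exact rf_ne_of_ortho hF hq v0 w hv0 hw hQ ((suRf_eq_iff hF _ _ _ _).1 h))
      (by
        rintro x ⟨hx, hx2, hxt, hxc⟩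
        obtain ⟨w, hw, rfl⟩ := exists_suRf hF hq x hx hx2
        refine ⟨w, hw, ?_, rfl⟩
        rcases (hct w hw).1 hxc with h | h
        · exact absurd ((suRf_eq_iff hF _ _ _ _).2 h.symm) hxt
        · exact h)
    have e : Nat.card {v : Fin 3 → F // hermForm 3 F q v v = 1 ∧ hermForm 3 F q v v0 = 0}
        = q * (q ^ 2 - 1) := by
      rw [← card_perp_one hF v0 hv0]
      exact Nat.card_congr (Equiv.subtypeEquivRight (fun v => and_comm))
    rw [e] at hc
    apply Nat.eq_of_mul_eq_mul_right (show 0 < q + 1 by omega)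
    rw [hc]
    have h1q : 1 ≤ q := by omega
    zify [h1q, hle1]
    ring
  -- (3)
  have h3 : Nat.card {x : ↥(Cfsg.SU 3 F q) // x ≠ 1 ∧ x * x = 1 ∧ ¬ Commute (suRf hF v0 hv0) x ∧
      ∀ y : ↥(Cfsg.SU 3 F q), y ≠ 1 → y * y = 1 → ¬ (Commute (suRf hF v0 hv0) y ∧ Commute y x)}
      = (q + 1) * (q ^ 2 - 1) := by
    have hcard : Nat.card {n : Fin 3 → F // hermForm 3 F q n v0 = 0 ∧ hermForm 3 F q n n = 0 ∧ n ≠ 0}
        = (q + 1) * (q ^ 2 - 1) := by
      have e0 := card_perp_zero hF v0 hv0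
      have e1 : ({n : Fin 3 → F | hermForm 3 F q n v0 = 0 ∧ hermForm 3 F q n n = 0 ∧ n ≠ 0} : Set _)
          = {n : Fin 3 → F | hermForm 3 F q n v0 = 0 ∧ hermForm 3 F q n n = 0} \ {0} := by
        ext n
        simp [and_assoc]
      have e2 : (0 : Fin 3 → F) ∈
          ({n : Fin 3 → F | hermForm 3 F q n v0 = 0 ∧ hermForm 3 F q n n = 0} : Set _) := by
        simp [hermForm, hq0]
      have e3 : Nat.card {n : Fin 3 → F // hermForm 3 F q n v0 = 0 ∧ hermForm 3 F q n n = 0 ∧ n ≠ 0}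
          = q ^ 3 + q ^ 2 - q - 1 := by
        calc Nat.card {n : Fin 3 → F // hermForm 3 F q n v0 = 0 ∧ hermForm 3 F q n n = 0 ∧ n ≠ 0}
            = Set.ncard {n : Fin 3 → F | hermForm 3 F q n v0 = 0 ∧ hermForm 3 F q n n = 0 ∧ n ≠ 0} :=
              Nat.card_coe_set_eq _
          _ = Set.ncard {n : Fin 3 → F | hermForm 3 F q n v0 = 0 ∧ hermForm 3 F q n n = 0} - 1 := by
              rw [e1, Set.ncard_sdiff_singleton_of_mem e2]
          _ = q ^ 3 + q ^ 2 - q - 1 := by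
              rw [← e0]
              rfl
      rw [e3]
      have hA : q + 1 ≤ q ^ 3 + q ^ 2 := by nlinarith
      rw [Nat.sub_sub]
      zify [hA, hle1]
      ring
    rw [← hcard]
    symm
    have hnorm : ∀ n : Fin 3 → F, hermForm 3 F q n v0 = 0 → hermForm 3 F q n n = 0 →
        hermForm 3 F q (v0 + n) (v0 + n) = 1 := by
      intro n h1 h2
      rw [herm_add_left, herm_add_right hF, herm_add_right hF, hv0, h1, h2,
        herm_zero_comm hF n v0 h1]
      ring
    refine Nat.card_congr (Equiv.ofBijective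
      (fun n : {n : Fin 3 → F // hermForm 3 F q n v0 = 0 ∧ hermForm 3 F q n n = 0 ∧ n ≠ 0} =>
        (⟨suRf hF (v0 + n.1) (hnorm n.1 n.2.1 n.2.2.1), ?_⟩ :
          {x : ↥(Cfsg.SU 3 F q) // x ≠ 1 ∧ x * x = 1 ∧ ¬ Commute (suRf hF v0 hv0) x ∧
            ∀ y : ↥(Cfsg.SU 3 F q), y ≠ 1 → y * y = 1 →
              ¬ (Commute (suRf hF v0 hv0) y ∧ Commute y x)})) ⟨?_, ?_⟩)
    · have hw := hnorm n.1 n.2.1 n.2.2.1
      have hwv : hermForm 3 F q (v0 + n.1) v0 = 1 := by
        rw [herm_add_left, hv0, n.2.1, add_zero]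
      have hnc : ¬ Commute (suRf hF v0 hv0) (suRf hF (v0 + n.1) hw) := by
        intro hc
        rcases (hct _ hw).1 hc with h | h
        · obtain ⟨a, ha, hav⟩ := (rf_eq_iff hF hq v0 (v0 + n.1) hv0 hw).1 h.symm
          have h2 := congrArg (fun u => hermForm 3 F q u v0) hav
          simp only [herm_add_left, herm_smul_left, hv0, n.2.1] at h2
          have ha1 : a = 1 := by linear_combination -h2
          rw [ha1, one_smul] at hav
          exact n.2.2.2 (by simpa using hav)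
        · rw [hwv] at h
          exact one_ne_zero h
      refine ⟨suRf_ne_one hF hq _ hw, suRf_sq hF _ hw, hnc, ?_⟩
      rintro y hy hy2 ⟨hty, hyx⟩
      obtain ⟨u, hu, rfl⟩ := exists_suRf hF hq y hy hy2
      rcases (hct u hu).1 hty with h | h
      · have e : suRf hF u hu = suRf hF v0 hv0 := (suRf_eq_iff hF _ _ _ _).2 h.symm
        rw [e] at hyx
        exact hnc hyx
      · rcases (commute_suRf_iff hF hq u (v0 + n.1) hu hw).1 hyx with h' | h'
        · have e : suRf hF u hu = suRf hF (v0 + n.1) hw := (suRf_eq_iff hF _ _ _ _).2 h'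
          rw [e] at hty
          exact hnc hty
        · have hnu : hermForm 3 F q n.1 u = 0 := by
            have h5 := h'
            rw [herm_add_left, herm_zero_comm hF u v0 h, zero_add] at h5
            exact h5
          exact n.2.2.2 (no_perp hF hq v0 u n.1 hv0 hu h n.2.1 hnu n.2.2.1)
    · intro n n' h
      have h0 : suRf hF (v0 + n.1) (hnorm n.1 n.2.1 n.2.2.1)
          = suRf hF (v0 + n'.1) (hnorm n'.1 n'.2.1 n'.2.2.1) := congrArg Subtype.val h
      have h1 : rf q (v0 + n.1) = rf q (v0 + n'.1) := (suRf_eq_iff hF _ _ _ _).1 h0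
      obtain ⟨a, ha, hav⟩ := (rf_eq_iff hF hq (v0 + n'.1) (v0 + n.1)
        (hnorm n'.1 n'.2.1 n'.2.2.1) (hnorm n.1 n.2.1 n.2.2.1)).1 h1
      have h2 := congrArg (fun u => hermForm 3 F q u v0) hav
      simp only [herm_add_left, herm_smul_left, hv0, n.2.1, n'.2.1] at h2
      have ha1 : a = 1 := by linear_combination -h2
      rw [ha1, one_smul] at hav
      apply Subtype.ext
      exact add_left_cancel hav
    · rintro ⟨x, hx, hx2, hxc, hall⟩
      obtain ⟨w, hw, rfl⟩ := exists_suRf hF hq x hx hx2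
      set α := hermForm 3 F q w v0 with hα
      have hα0 : α ≠ 0 := by
        intro h
        exact hxc ((hct w hw).2 (Or.inr h))
      have hne : rf q v0 ≠ rf q w := by
        intro h
        exact hxc ((hct w hw).2 (Or.inl h))
      have hN : α * α ^ q = 1 := by
        by_contra hN
        obtain ⟨u, hu, huv, huw⟩ := exists_perp' hF hq v0 w hv0 hw hN
        exact hall (suRf hF u hu) (suRf_ne_one hF hq u hu) (suRf_sq hF u hu)
          ⟨(hct u hu).2 (Or.inr huv),
            (commute_suRf_iff hF hq u w hu hw).2 (Or.inr (herm_zero_comm hF u w huw))⟩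
      have hvw : hermForm 3 F q v0 w = α ^ q := by rw [hα, herm_conj hF]
      have hαq : α ^ q ≠ 0 := pow_ne_zero _ hα0
      have hnv : hermForm 3 F q (α⁻¹ • w - v0) v0 = 0 := by
        rw [herm_sub_left, herm_smul_left, hv0, ← hα, inv_mul_cancel₀ hα0, sub_self]
      have hnn : hermForm 3 F q (α⁻¹ • w - v0) (α⁻¹ • w - v0) = 0 := by
        rw [herm_sub_left, herm_sub_right hF, herm_sub_right hF, herm_smul_left, herm_smul_left,
          herm_smul_right, herm_smul_right, hv0, hw, hvw, ← hα, inv_pow]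
        field_simp
        linear_combination -hN
      have hn0 : α⁻¹ • w - v0 ≠ 0 := by
        intro h
        apply hne
        have h5 : v0 = α⁻¹ • w := (sub_eq_zero.1 h).symm
        rw [h5]
        exact rf_smul α⁻¹ (inv_ne_zero hα0) w
      refine ⟨⟨α⁻¹ • w - v0, hnv, hnn, hn0⟩, Subtype.ext ?_⟩
      refine (suRf_eq_iff hF _ _ (hnorm _ hnv hnn) hw).2 ?_
      rw [add_sub_cancel]
      exact rf_smul α⁻¹ (inv_ne_zero hα0) w
  -- (2) by complement
  have h2 : Nat.card {x : ↥(Cfsg.SU 3 F q) // x ≠ 1 ∧ x * x = 1 ∧ ¬ Commute (suRf hF v0 hv0) x ∧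
      ∃ y : ↥(Cfsg.SU 3 F q), y ≠ 1 ∧ y * y = 1 ∧ Commute (suRf hF v0 hv0) y ∧ Commute y x}
      = q * (q - 2) * (q ^ 2 - 1) := by
    have s1 := card_split (fun x : ↥(Cfsg.SU 3 F q) => x ≠ 1 ∧ x * x = 1)
      (fun x => Commute (suRf hF v0 hv0) x)
    have s2 := card_split
      (fun x : ↥(Cfsg.SU 3 F q) => (x ≠ 1 ∧ x * x = 1) ∧ Commute (suRf hF v0 hv0) x)
      (fun x => x = suRf hF v0 hv0)
    have s3 := card_split
      (fun x : ↥(Cfsg.SU 3 F q) => (x ≠ 1 ∧ x * x = 1) ∧ ¬ Commute (suRf hF v0 hv0) x)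
      (fun x => ∃ y : ↥(Cfsg.SU 3 F q), y ≠ 1 ∧ y * y = 1 ∧ Commute (suRf hF v0 hv0) y ∧ Commute y x)
    have c1 : Nat.card {x : ↥(Cfsg.SU 3 F q) // ((x ≠ 1 ∧ x * x = 1) ∧
        Commute (suRf hF v0 hv0) x) ∧ x = suRf hF v0 hv0} = 1 := by
      rw [Nat.card_eq_one_iff_unique]
      refine ⟨⟨fun a b => Subtype.ext (a.2.2.trans b.2.2.symm)⟩,
        ⟨⟨suRf hF v0 hv0, ⟨⟨ht, ht2⟩, Commute.refl _⟩, rfl⟩⟩⟩
    have c2 : Nat.card {x : ↥(Cfsg.SU 3 F q) // ((x ≠ 1 ∧ x * x = 1) ∧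
        Commute (suRf hF v0 hv0) x) ∧ ¬ x = suRf hF v0 hv0} = q * (q - 1) := by
      rw [← h1]
      exact Nat.card_congr (Equiv.subtypeEquivRight (fun x =>
        ⟨fun ⟨⟨⟨a, b⟩, c⟩, d⟩ => ⟨a, b, d, c⟩, fun ⟨a, b, d, c⟩ => ⟨⟨⟨a, b⟩, c⟩, d⟩⟩))
    have c3 : Nat.card {x : ↥(Cfsg.SU 3 F q) // ((x ≠ 1 ∧ x * x = 1) ∧
        ¬ Commute (suRf hF v0 hv0) x) ∧ ¬ ∃ y : ↥(Cfsg.SU 3 F q), y ≠ 1 ∧ y * y = 1 ∧
          Commute (suRf hF v0 hv0) y ∧ Commute y x} = (q + 1) * (q ^ 2 - 1) := by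
      rw [← h3]
      refine Nat.card_congr (Equiv.subtypeEquivRight (fun x => ?_))
      constructor
      · rintro ⟨⟨⟨hx, hx2⟩, hxc⟩, hno⟩
        exact ⟨hx, hx2, hxc, fun y hy hy2 hyy => hno ⟨y, hy, hy2, hyy.1, hyy.2⟩⟩
      · rintro ⟨hx, hx2, hxc, hall⟩
        refine ⟨⟨⟨hx, hx2⟩, hxc⟩, ?_⟩
        rintro ⟨y, hy, hy2, h5, h6⟩
        exact hall y hy hy2 ⟨h5, h6⟩
    have c4 : Nat.card {x : ↥(Cfsg.SU 3 F q) // x ≠ 1 ∧ x * x = 1 ∧ ¬ Commute (suRf hF v0 hv0) x ∧
        ∃ y : ↥(Cfsg.SU 3 F q), y ≠ 1 ∧ y * y = 1 ∧ Commute (suRf hF v0 hv0) y ∧ Commute y x}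
        = Nat.card {x : ↥(Cfsg.SU 3 F q) // ((x ≠ 1 ∧ x * x = 1) ∧
          ¬ Commute (suRf hF v0 hv0) x) ∧ ∃ y : ↥(Cfsg.SU 3 F q), y ≠ 1 ∧ y * y = 1 ∧
            Commute (suRf hF v0 hv0) y ∧ Commute y x} :=
      Nat.card_congr (Equiv.subtypeEquivRight (fun x =>
        ⟨fun ⟨a, b, c, d⟩ => ⟨⟨⟨a, b⟩, c⟩, d⟩, fun ⟨⟨⟨a, b⟩, c⟩, d⟩ => ⟨a, b, c, d⟩⟩))
    rw [c4]
    rw [hNtot, s2, c1, c2, s3, c3] at s1
    have h1q : 1 ≤ q := by omega
    have h2q : 2 ≤ q := by omega
    zify [h1q, h2q, hle1, hleq] at s1 ⊢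
    linear_combination -s1
  refine ⟨h1, h2, h3, ?_⟩
  -- (4)
  intro x hx hx2
  obtain ⟨w, hw, rfl⟩ := exists_suRf hF hq x hx hx2
  by_cases hc : Commute (suRf hF v0 hv0) (suRf hF w hw)
  · exact ⟨_, _, ht, ht2, ht, ht2, Commute.refl _, Commute.refl _, hc⟩
  set α := hermForm 3 F q w v0 with hα
  by_cases hN : α * α ^ q = 1
  · obtain ⟨b0, hb0v, hb0⟩ : ∃ b0 : Fin 3 → F, hermForm 3 F q b0 v0 = 0 ∧
        hermForm 3 F q b0 b0 = 1 := by
      have hpos : 0 < Nat.card {n : Fin 3 → F // hermForm 3 F q n v0 = 0 ∧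
          hermForm 3 F q n n = 1} := by
        rw [card_perp_one hF v0 hv0]
        have : 0 < q ^ 2 - 1 := by
          have : 9 ≤ q ^ 2 := by nlinarith
          omega
        positivity
      obtain ⟨⟨b0, hb⟩⟩ := (Nat.card_pos_iff.1 hpos).1
      exact ⟨b0, hb.1, hb.2⟩
    obtain ⟨b, hb, hbv, hbN⟩ : ∃ b : Fin 3 → F, hermForm 3 F q b b = 1 ∧
        hermForm 3 F q b v0 = 0 ∧ hermForm 3 F q w b * hermForm 3 F q w b ^ q ≠ 1 := by
      by_cases hβ1 : hermForm 3 F q w b0 * hermForm 3 F q w b0 ^ q = 1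
      · set β := hermForm 3 F q w b0 with hβ
        have hβ0 : β ≠ 0 := by
          rintro h
          rw [h, zero_mul] at hβ1
          exact zero_ne_one hβ1
        have hβq : β ^ q ≠ 0 := pow_ne_zero _ hβ0
        have hvw : hermForm 3 F q v0 w = α ^ q := by rw [hα, herm_conj hF]
        have hv0b0 : hermForm 3 F q v0 b0 = 0 := herm_zero_comm hF b0 v0 hb0v
        have hnv : hermForm 3 F q (w - α • v0) v0 = 0 := by
          rw [herm_sub_left, herm_smul_left, hv0, mul_one, ← hα, sub_self]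
        have hnn : hermForm 3 F q (w - α • v0) (w - α • v0) = 0 := by
          rw [herm_sub_left, herm_sub_right hF, herm_sub_right hF, herm_smul_left, herm_smul_left,
            herm_smul_right, herm_smul_right, hv0, hw, hvw, ← hα]
          linear_combination -hN
        have hwn : hermForm 3 F q w (w - α • v0) = 0 := by
          rw [herm_sub_right hF, herm_smul_right, hw, ← hα]
          linear_combination -hN
        have hnb0 : hermForm 3 F q (w - α • v0) b0 = β := by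
          rw [herm_sub_left, herm_smul_left, hv0b0, mul_zero, sub_zero]
        have hb0n : hermForm 3 F q b0 (w - α • v0) = β ^ q := by
          rw [← hnb0, herm_conj hF]
        have hb1 : hermForm 3 F q (b0 - β⁻¹ • (w - α • v0)) (b0 - β⁻¹ • (w - α • v0)) = -1 := by
          rw [herm_sub_left, herm_sub_right hF, herm_sub_right hF, herm_smul_left, herm_smul_left,
            herm_smul_right, herm_smul_right, hb0, hb0n, hnb0, hnn, inv_pow]
          field_simp
          ring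
        have hb1v : hermForm 3 F q (b0 - β⁻¹ • (w - α • v0)) v0 = 0 := by
          rw [herm_sub_left, herm_smul_left, hb0v, hnv, mul_zero, sub_zero]
        have hwb1 : hermForm 3 F q w (b0 - β⁻¹ • (w - α • v0)) = β := by
          rw [herm_sub_right hF, herm_smul_right, hwn, mul_zero, sub_zero]
        obtain ⟨a, ha, hab⟩ := exists_norm_one hF (b0 - β⁻¹ • (w - α • v0))
          (by rw [hb1]; exact neg_ne_zero.2 one_ne_zero)
        have haa : a * a ^ q = -1 := by
          have h5 := hab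
          rw [herm_smul_left, herm_smul_right, hb1] at h5
          linear_combination -h5
        refine ⟨a • (b0 - β⁻¹ • (w - α • v0)), hab, ?_, ?_⟩
        · rw [herm_smul_left, hb1v, mul_zero]
        · rw [herm_smul_right, hwb1, mul_pow, frob_frob hF]
          intro h
          apply h20
          have h6 : a ^ q * β * (a * β ^ q) = (a * a ^ q) * (β * β ^ q) := by ring
          rw [h6, haa, hβ1] at h
          linear_combination -h
      · exact ⟨b0, hb0, hb0v, hβ1⟩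
    obtain ⟨c, hc1, hcb, hcw⟩ := exists_perp' hF hq b w hb hw hbN
    refine ⟨suRf hF b hb, suRf hF c hc1, suRf_ne_one hF hq b hb, suRf_sq hF b hb,
      suRf_ne_one hF hq c hc1, suRf_sq hF c hc1, (hct b hb).2 (Or.inr hbv),
      (commute_suRf_iff hF hq b c hb hc1).2 (Or.inr hcb),
      (commute_suRf_iff hF hq c w hc1 hw).2 (Or.inr (herm_zero_comm hF c w hcw))⟩
  · obtain ⟨u, hu, huv, huw⟩ := exists_perp' hF hq v0 w hv0 hw hN
    exact ⟨suRf hF u hu, suRf hF u hu, suRf_ne_one hF hq u hu, suRf_sq hF u hu,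
      suRf_ne_one hF hq u hu, suRf_sq hF u hu, (hct u hu).2 (Or.inr huv), Commute.refl _,
      (commute_suRf_iff hF hq u w hu hw).2 (Or.inr (herm_zero_comm hF u w huw))⟩

end Cfsg.Agent.S2356
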