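import Cfsg.Statements.S2357
import Cfsg.Agent.Lib.helper44.ReeWardJ

set_option autoImplicit false
open Cfsg

namespace Cfsg.Agent.S2357

/-- Let R be the small Ree group over the field with q = 3^(2m+1) ≥ 27 elements and write φ for Euler's totient function. Then R has exactly q²(q²−q+1) involutions, (q²−1)(q³+1) elements of order 3, and q²(q−1)(q³+1) elements of order 6 and as many of order 9; for i > 2 dividing q−1 it has φ(i)q³(q³+1)/2 elements of order i; for i > 1 dividing (q+1)/4 it has φ(i)q³(q−1)(q²−q+1)/6 elements of order i and φ(i)q³(q−1)(q²−q+1)/2 elements of order 2i; and for i > 1 dividing q − 3^(m+1) + 1 (respectively q + 3^(m+1) + 1) it has φ(i)q³(q²−1)(q + 3^(m+1) + 1)/6 (respectively φ(i)q³(q²−1)(q − 3^(m+1) + 1)/6) elements of order i. -/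
theorem result {K : Type*} [Field K] [Fintype K] {m : ℕ} (hm : 1 ≤ m)
    (hK : Fintype.card K = 3 ^ (2 * m + 1)) :
    Nat.card {g : ↥(Cfsg.Lie.twistedG2 K (3 ^ m)) // orderOf g = 2} = (3 ^ (2 * m + 1)) ^ 2 * ((3 ^ (2 * m + 1)) ^ 2 - 3 ^ (2 * m + 1) + 1) ∧
    Nat.card {g : ↥(Cfsg.Lie.twistedG2 K (3 ^ m)) // orderOf g = 3} = ((3 ^ (2 * m + 1)) ^ 2 - 1) * ((3 ^ (2 * m + 1)) ^ 3 + 1) ∧
    Nat.card {g : ↥(Cfsg.Lie.twistedG2 K (3 ^ m)) // orderOf g = 6} = (3 ^ (2 * m + 1)) ^ 2 * (3 ^ (2 * m + 1) - 1) * ((3 ^ (2 * m + 1)) ^ 3 + 1) ∧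
    Nat.card {g : ↥(Cfsg.Lie.twistedG2 K (3 ^ m)) // orderOf g = 9} = (3 ^ (2 * m + 1)) ^ 2 * (3 ^ (2 * m + 1) - 1) * ((3 ^ (2 * m + 1)) ^ 3 + 1) ∧
    (∀ i : ℕ, 2 < i → i ∣ 3 ^ (2 * m + 1) - 1 →
      2 * Nat.card {g : ↥(Cfsg.Lie.twistedG2 K (3 ^ m)) // orderOf g = i} = Nat.totient i * (3 ^ (2 * m + 1)) ^ 3 * ((3 ^ (2 * m + 1)) ^ 3 + 1)) ∧
    (∀ i : ℕ, 1 < i → i ∣ (3 ^ (2 * m + 1) + 1) / 4 →
      6 * Nat.card {g : ↥(Cfsg.Lie.twistedG2 K (3 ^ m)) // orderOf g = i} =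
          Nat.totient i * (3 ^ (2 * m + 1)) ^ 3 * (3 ^ (2 * m + 1) - 1) * ((3 ^ (2 * m + 1)) ^ 2 - 3 ^ (2 * m + 1) + 1) ∧
        2 * Nat.card {g : ↥(Cfsg.Lie.twistedG2 K (3 ^ m)) // orderOf g = 2 * i} =
          Nat.totient i * (3 ^ (2 * m + 1)) ^ 3 * (3 ^ (2 * m + 1) - 1) * ((3 ^ (2 * m + 1)) ^ 2 - 3 ^ (2 * m + 1) + 1)) ∧
    (∀ i : ℕ, 1 < i → i ∣ 3 ^ (2 * m + 1) - 3 ^ (m + 1) + 1 →
      6 * Nat.card {g : ↥(Cfsg.Lie.twistedG2 K (3 ^ m)) // orderOf g = i} =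
        Nat.totient i * (3 ^ (2 * m + 1)) ^ 3 * ((3 ^ (2 * m + 1)) ^ 2 - 1) * (3 ^ (2 * m + 1) + 3 ^ (m + 1) + 1)) ∧
    (∀ i : ℕ, 1 < i → i ∣ 3 ^ (2 * m + 1) + 3 ^ (m + 1) + 1 →
      6 * Nat.card {g : ↥(Cfsg.Lie.twistedG2 K (3 ^ m)) // orderOf g = i} =
        Nat.totient i * (3 ^ (2 * m + 1)) ^ 3 * ((3 ^ (2 * m + 1)) ^ 2 - 1) * (3 ^ (2 * m + 1) - 3 ^ (m + 1) + 1)) := by
  obtain ⟨R⟩ := Cfsg.Agent.Lib.helper23.exists_reeData hK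
  obtain ⟨t, ht⟩ := Cfsg.Agent.Lib.helper44.ree_q_form m
  have hr : 3 ^ (m + 1) ≤ 8 * t + 3 := by
    rw [← ht]
    exact Nat.pow_le_pow_right (by norm_num) (by omega)
  have hP : (8 * t + 3) ^ 2 - (8 * t + 3) + 1 = 64 * t ^ 2 + 40 * t + 7 := by
    have h : (8 * t + 3) ^ 2 = (64 * t ^ 2 + 40 * t + 6) + (8 * t + 3) := by ring
    rw [h, Nat.add_sub_cancel]
  have hq2 : (8 * t + 3) ^ 2 - 1 = (8 * t + 2) * (8 * t + 4) := by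
    have h : (8 * t + 3) ^ 2 = (8 * t + 2) * (8 * t + 4) + 1 := by ring
    rw [h, Nat.add_sub_cancel]
  have e1 : 8 * t + 3 - 1 = 8 * t + 2 := by omega
  have e2 : (8 * t + 3 + 1) / 4 = 2 * t + 1 := by omega
  have e3 : 8 * t + 3 - 3 ^ (m + 1) + 1 = 8 * t + 3 + 1 - 3 ^ (m + 1) := by omega
  have e4 : 8 * t + 3 + 3 ^ (m + 1) + 1 = 8 * t + 3 + 1 + 3 ^ (m + 1) := by omega
  rw [ht, hP, hq2, e1, e2, e3, e4]
  obtain ⟨hT1, hT2⟩ := Cfsg.Agent.Lib.helper44.ree_card_order_tori hm hK R t ht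
  exact ⟨Cfsg.Agent.Lib.helper44.ree_card_invol hm hK R t ht,
    Cfsg.Agent.Lib.helper44.ree_card_order_three hK R t ht,
    Cfsg.Agent.Lib.helper44.ree_card_order_six hm hK R t ht,
    Cfsg.Agent.Lib.helper44.ree_card_order_nine hK R t ht,
    fun i hi2 hi => Cfsg.Agent.Lib.helper44.ree_card_order_split hm hK R t ht i hi2 hi,
    fun i hi1 hi => Cfsg.Agent.Lib.helper44.ree_card_order_quarter hm hK R t ht i hi1 hi,
    hT1, hT2⟩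

end Cfsg.Agent.S2357
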