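import Cfsg.Statements.S2359
import Cfsg.Agent.Lib.helper44.ReeTori

set_option autoImplicit false
open Cfsg

namespace Cfsg.Agent.S2359

/-- Let R be the small Ree group over the field with q = 3^(2m+1) ≥ 27 elements. If H is a cyclic subgroup of R of order (q−1)/2, then the centralizer of H in R is cyclic of order q−1, and every non-trivial subgroup of H has the same centralizer as H. If H is a cyclic subgroup of order (q+1)/4, then the centralizer of H is abelian of order q+1 with no element of order 4 (so it is the direct product of H and a group of order 4 whose non-identity elements all have order 2), and every non-trivial subgroup of H has the same centralizer as H. -/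
theorem result {K : Type*} [Field K] [Fintype K] {m : ℕ} (hm : 1 ≤ m)
    (hK : Fintype.card K = 3 ^ (2 * m + 1)) (H : Subgroup ↥(Cfsg.Lie.twistedG2 K (3 ^ m))) (hH : IsCyclic H) :
    (Nat.card H = (3 ^ (2 * m + 1) - 1) / 2 →
      IsCyclic ↥(Subgroup.centralizer (H : Set ↥(Cfsg.Lie.twistedG2 K (3 ^ m)))) ∧
        Nat.card ↥(Subgroup.centralizer (H : Set ↥(Cfsg.Lie.twistedG2 K (3 ^ m)))) = 3 ^ (2 * m + 1) - 1 ∧
        ∀ A : Subgroup ↥(Cfsg.Lie.twistedG2 K (3 ^ m)), A ≤ H → A ≠ ⊥ →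
          Subgroup.centralizer (A : Set ↥(Cfsg.Lie.twistedG2 K (3 ^ m))) = Subgroup.centralizer (H : Set ↥(Cfsg.Lie.twistedG2 K (3 ^ m)))) ∧
    (Nat.card H = (3 ^ (2 * m + 1) + 1) / 4 →
      IsMulCommutative ↥(Subgroup.centralizer (H : Set ↥(Cfsg.Lie.twistedG2 K (3 ^ m)))) ∧
        Nat.card ↥(Subgroup.centralizer (H : Set ↥(Cfsg.Lie.twistedG2 K (3 ^ m)))) = 3 ^ (2 * m + 1) + 1 ∧
        (∀ x ∈ Subgroup.centralizer (H : Set ↥(Cfsg.Lie.twistedG2 K (3 ^ m))), orderOf x ≠ 4) ∧
        ∀ A : Subgroup ↥(Cfsg.Lie.twistedG2 K (3 ^ m)), A ≤ H → A ≠ ⊥ →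
          Subgroup.centralizer (A : Set ↥(Cfsg.Lie.twistedG2 K (3 ^ m))) = Subgroup.centralizer (H : Set ↥(Cfsg.Lie.twistedG2 K (3 ^ m)))) := by
  obtain ⟨R⟩ := Cfsg.Agent.Lib.helper23.exists_reeData hK
  have hHcomm : ∀ x ∈ H, ∀ y ∈ H, x * y = y * x := by
    intro x hx y hy
    have e1 := isMulCommutative_iff.mp (IsCyclic.isMulCommutative (α := ↥H)) ⟨x, hx⟩ ⟨y, hy⟩
    exact congrArg Subtype.val e1
  constructor
  · intro hcard
    exact Cfsg.Agent.Lib.helper44.ree_split_torus hm hK R H hHcomm hcard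
  · intro hcard
    obtain ⟨h1, h2, h3⟩ := Cfsg.Agent.Lib.helper44.ree_quarter_torus hm hK R H hHcomm hcard
    refine ⟨isMulCommutative_iff.mpr ?_, h2, ?_, h3⟩
    · intro x y
      exact Subtype.ext (h1 x.1 x.2 y.1 y.2)
    · intro x hx ho
      have h2' : Fact (Nat.Prime 2) := ⟨Nat.prime_two⟩
      have hz : IsPGroup 2 ↥(Subgroup.zpowers x) := by
        apply IsPGroup.of_card (n := 2)
        rw [Nat.card_zpowers, ho]
        norm_num
      obtain ⟨P, hP⟩ := hz.exists_le_sylow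
      obtain ⟨a₀, haH, ha1', ha2'⟩ := Cfsg.Agent.Lib.helper44.ree_exists_invol2 R
      have hexp := ((Cfsg.Agent.S1152.result hK ⟨a₀, (Subgroup.mem_inf.mp haH).2⟩ (Subgroup.mem_inf.mp haH).1
        (fun h => ha1' (congrArg Subtype.val h)) (Subtype.ext ha2')).2 P).2
      have hxx : x * x = 1 := hexp x (hP (Subgroup.mem_zpowers x))
      have hd : orderOf x ∣ 2 := orderOf_dvd_of_pow_eq_one (by rw [pow_two]; exact hxx)
      rw [ho] at hd
      norm_num at hd

end Cfsg.Agent.S2359
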