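import Cfsg.Statements.S2361
import Cfsg.Agent.Lib.helper44.ReeSolvB
import Cfsg.Agent.Lib.helper32.S2361P3

set_option autoImplicit false
open Cfsg

namespace Cfsg.Agent.S2361

/-- Let R be the small Ree group over the field with q = 3^(2m+1) ≥ 27 elements. Every solvable subgroup of R lies in the normalizer of a Sylow 2-subgroup, of a Sylow 3-subgroup, or of a cyclic subgroup of order (q−1)/2, (q+1)/4, q − 3^(m+1) + 1 or q + 3^(m+1) + 1. -/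
theorem result {K : Type*} [Field K] [Fintype K] {m : ℕ} (hm : 1 ≤ m)
    (hK : Fintype.card K = 3 ^ (2 * m + 1)) (S : Subgroup ↥(Cfsg.Lie.twistedG2 K (3 ^ m)))
    (hS : Group.IsSolvable S) :
    ∃ A : Subgroup ↥(Cfsg.Lie.twistedG2 K (3 ^ m)), S ≤ Subgroup.normalizer (A : Set ↥(Cfsg.Lie.twistedG2 K (3 ^ m))) ∧
      ((∃ P : Sylow 2 ↥(Cfsg.Lie.twistedG2 K (3 ^ m)), A = P) ∨
       (∃ P : Sylow 3 ↥(Cfsg.Lie.twistedG2 K (3 ^ m)), A = P) ∨
       (IsCyclic A ∧ (Nat.card A = (3 ^ (2 * m + 1) - 1) / 2 ∨ Nat.card A = (3 ^ (2 * m + 1) + 1) / 4 ∨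
          Nat.card A = 3 ^ (2 * m + 1) - 3 ^ (m + 1) + 1 ∨ Nat.card A = 3 ^ (2 * m + 1) + 3 ^ (m + 1) + 1))) := by
  obtain ⟨R⟩ := Cfsg.Agent.Lib.helper23.exists_reeData hK
  obtain ⟨t, ht⟩ := Cfsg.Agent.Lib.helper44.ree_q_form m
  obtain ⟨hfin, hG⟩ := Cfsg.Agent.Lib.helper44.ree_finite hK R t ht
  have hrle : 3 ^ (m + 1) ≤ 8 * t + 3 := by
    rw [← ht]
    exact Nat.pow_le_pow_right (by norm_num) (by omega)
  have e1 : (3 ^ (2 * m + 1) - 1) / 2 = 4 * t + 1 := by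
    rw [ht]
    omega
  have e2 : (3 ^ (2 * m + 1) + 1) / 4 = 2 * t + 1 := by
    rw [ht]
    omega
  have e3 : 3 ^ (2 * m + 1) - 3 ^ (m + 1) + 1 = 8 * t + 3 + 1 - 3 ^ (m + 1) := by
    rw [ht]
    omega
  have e4 : 3 ^ (2 * m + 1) + 3 ^ (m + 1) + 1 = 8 * t + 3 + 1 + 3 ^ (m + 1) := by
    rw [ht]
    omega
  rw [e1, e2, e3, e4]
  have h2F : Fact (Nat.Prime 2) := ⟨Nat.prime_two⟩
  by_cases hS1 : S = ⊥
  · obtain ⟨Q⟩ : Nonempty (Sylow 2 ↥(Cfsg.Lie.twistedG2 K (3 ^ m))) := inferInstance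
    refine ⟨Q, ?_, Or.inl ⟨Q, rfl⟩⟩
    rw [hS1]
    exact bot_le
  obtain ⟨D, hDS, hD1, hDcomm, hSD, hDalt⟩ := Cfsg.Agent.Lib.helper32.P3_solvable S hS hS1
  rcases Nat.eq_two_pow_or_exists_odd_prime_and_dvd (Nat.card D) with ⟨k, hk⟩ | ⟨p, hp, hpD, hpodd⟩
  · have hDp : IsPGroup 2 D := IsPGroup.of_card hk
    obtain ⟨Q, hQ⟩ := hDp.exists_le_sylow
    rcases hDalt with hDS' | hDcomm'
    · refine ⟨Q, ?_, Or.inl ⟨Q, rfl⟩⟩
      rw [← hDS']
      exact hQ.trans Subgroup.le_normalizer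
    · have hQ8 := Cfsg.Agent.Lib.helper44.ree_sylow_two_card hK R t ht Q
      have hk3 : k ≤ 3 := by
        have h1 := Subgroup.card_le_of_le hQ
        rw [hk, hQ8] at h1
        by_contra hk4
        have h2 : 2 ^ 4 ≤ 2 ^ k := Nat.pow_le_pow_right (by norm_num) (by omega)
        omega
      interval_cases k
      · exact absurd (Subgroup.card_eq_one.mp (by rw [hk]; norm_num)) hD1
      · exact (Cfsg.Agent.Lib.helper44.ree_two_not_comm hm hK R t ht D S (by rw [hk]; norm_num) hSD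
          hDcomm').elim
      · obtain ⟨A, hAcyc, hAcard, hN⟩ :=
          Cfsg.Agent.Lib.helper44.ree_four_norm hm hK R t ht D (by rw [hk]; norm_num)
        exact ⟨A, hSD.trans hN, Or.inr (Or.inr ⟨hAcyc, Or.inr (Or.inl hAcard)⟩)⟩
      · have hDQ : D = Q := Subgroup.eq_of_le_of_card_ge hQ (by rw [hk, hQ8]; norm_num)
        refine ⟨Q, ?_, Or.inl ⟨Q, rfl⟩⟩
        rw [← hDQ]
        exact hSD
  · obtain ⟨E, hED, hE1, hEp, hNE⟩ := Cfsg.Agent.Lib.helper44.exists_omega_sub D hDcomm p hp hpD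
    have hp2 : p ≠ 2 := by
      rintro rfl
      exact absurd hpodd (by decide)
    obtain ⟨A, hN, hA⟩ := Cfsg.Agent.Lib.helper44.ree_odd_local hm hK R t ht p hp hp2 E hE1 hEp
    refine ⟨A, (hSD.trans hNE).trans hN, ?_⟩
    rcases hA with h | h
    · exact Or.inr (Or.inl h)
    · exact Or.inr (Or.inr h)

end Cfsg.Agent.S2361
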