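import Cfsg.Statements.S2362
import Cfsg.Agent.Lib.helper64.OmD
import Cfsg.Agent.S0292

set_option autoImplicit false
open Cfsg

namespace Cfsg.Agent.S2362

/-- Let F be a finite field of odd order and n ≥ 3. The simple orthogonal group PΩ(2n+1, F) (type B_n) and the projective symplectic group PSp(2n, F) (type C_n), which have the same order, do not have the same set of element orders. -/
theorem result {F : Type*} [Field F] [Fintype F] (hodd : Odd (Fintype.card F)) (n : ℕ) (hn : 3 ≤ n) :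
    Set.range (orderOf : Cfsg.POmega F (Cfsg.quadFormOdd n F) → ℕ) ≠ Set.range (orderOf : Cfsg.PSp n F → ℕ) := by
  classical
  obtain ⟨p, hchar⟩ := CharP.exists F
  have : Fact p.Prime := ⟨CharP.char_is_prime F p⟩
  have hp2 : p ≠ 2 := by
    rintro rfl
    obtain ⟨a, -, ha⟩ := FiniteField.card F 2
    rw [ha] at hodd
    exact (Nat.not_odd_iff_even.2 (Nat.even_pow.2 ⟨even_two, a.ne_zero⟩)) hodd
  have h2 : (2 : F) ≠ 0 := Cfsg.Agent.Lib.helper64.OmD.two_ne_zero' p hp2
  intro heq
  have h1 := Cfsg.Agent.Lib.helper64.OmD.psp_mem (F := F) p hp2 n (by omega)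
  rw [← heq] at h1
  obtain ⟨x, hx⟩ := h1
  have hcen := Cfsg.Agent.S0292.center_eq_bot h2 n (by omega)
  obtain ⟨y, rfl⟩ := QuotientGroup.mk_surjective x
  have hinj : Function.Injective (QuotientGroup.mk' (Subgroup.center
      (Cfsg.Omega F (Cfsg.quadFormOdd n F)))) := by
    rw [← MonoidHom.ker_eq_bot_iff, QuotientGroup.ker_mk', hcen]
  have hy : orderOf y = p * (Fintype.card F ^ (n - 1) + 1) := by
    rw [← hx]
    exact (orderOf_injective _ hinj y).symm
  obtain ⟨k, rfl⟩ : ∃ k, n = k + 1 := ⟨n - 1, by omega⟩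
  rw [Nat.add_sub_cancel] at hy
  exact Cfsg.Agent.Lib.helper64.OmD.omega_not_mem p hp2 k (by omega) y.1 y.2 (by
    rw [Subgroup.orderOf_coe]
    exact hy)

end Cfsg.Agent.S2362
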