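import Cfsg.Statements.S2364
import Cfsg.Agent.Lib.helper44.UnipCent
import Cfsg.Agent.Lib.helper44.SLCard

set_option autoImplicit false
open Cfsg

namespace Cfsg.Agent.S2364

open Cfsg.Agent.Lib.helper44

/-- Key step: a prime `r ≠ p` dividing the order of an element `b` of `PSL_n(F)` commuting with an
element of order `p` divides `q ^ i - 1` for some `1 ≤ i ≤ n - 2`. -/
theorem key {F : Type*} [Field F] [Fintype F] (p : ℕ) [Fact p.Prime] [CharP F p] (n : ℕ)
    (hn : 3 ≤ n) (a b : Matrix.ProjectiveSpecialLinearGroup (Fin n) F) (ha : orderOf a = p)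
    (hab : Commute a b) (r : ℕ) [Fact r.Prime] (hrp : r ≠ p) (hr : r ∣ orderOf b) :
    ∃ i, 1 ≤ i ∧ i ≤ n - 2 ∧ r ∣ Fintype.card F ^ i - 1 := by
  classical
  have hp : p.Prime := Fact.out
  have hrprime : r.Prime := Fact.out
  have : NeZero n := ⟨by omega⟩
  -- an element of order `r` commuting with `a`
  have hb0 : orderOf b ≠ 0 := (orderOf_pos b).ne'
  set b' := b ^ (orderOf b / r) with hb'
  have hb'ord : orderOf b' = r := orderOf_pow_orderOf_div hb0 hr
  have hab' : Commute a b' := hab.pow_right _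
  -- lifts
  obtain ⟨A, rfl⟩ := QuotientGroup.mk_surjective a
  obtain ⟨B, hB⟩ := QuotientGroup.mk_surjective b'
  -- `A ^ p` is central
  have hAp : A ^ p ∈ Subgroup.center (Matrix.SpecialLinearGroup (Fin n) F) := by
    rw [← QuotientGroup.eq_one_iff, QuotientGroup.mk_pow, ← ha]
    exact pow_orderOf_eq_one _
  obtain ⟨ζ, hζn, hζ⟩ := Matrix.SpecialLinearGroup.mem_center_iff.mp hAp
  have hζ0 : ζ ≠ 0 := by
    intro h0
    rw [h0, zero_pow (by simp; omega)] at hζn
    exact zero_ne_one hζn
  -- `A` is not central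
  have hAnc : A ∉ Subgroup.center (Matrix.SpecialLinearGroup (Fin n) F) := by
    intro hc
    have h1 : (QuotientGroup.mk A : Matrix.ProjectiveSpecialLinearGroup (Fin n) F) = 1 :=
      (QuotientGroup.eq_one_iff A).mpr hc
    rw [h1, orderOf_one] at ha
    exact hp.one_lt.ne ha
  -- a p-th root of ζ
  have hfrob : Function.Surjective (frobenius F p) :=
    Finite.injective_iff_surjective.mp (frobenius_inj F p)
  obtain ⟨μ, hμ⟩ := hfrob ζ
  rw [frobenius_def] at hμ
  have hμ0 : μ ≠ 0 := by
    intro h0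
    rw [h0, zero_pow hp.ne_zero] at hμ
    exact hζ0 hμ.symm
  -- the nilpotent matrix
  set Am : Matrix (Fin n) (Fin n) F := (A : Matrix (Fin n) (Fin n) F) with hAm
  set Bm : Matrix (Fin n) (Fin n) F := (B : Matrix (Fin n) (Fin n) F) with hBm
  have hAmp : Am ^ p = ζ • (1 : Matrix (Fin n) (Fin n) F) := by
    have : ((A ^ p : Matrix.SpecialLinearGroup (Fin n) F) : Matrix (Fin n) (Fin n) F) = Am ^ p := by
      simp [hAm]
    rw [← this, ← hζ]
    ext i j
    simp [Matrix.one_apply, Matrix.diagonal_apply]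
  have hNp : (Am - μ • (1 : Matrix (Fin n) (Fin n) F)) ^ p = 0 := by
    have hc : Commute Am (μ • (1 : Matrix (Fin n) (Fin n) F)) :=
      (Commute.one_right Am).smul_right μ
    rw [sub_pow_char_of_commute p hc, hAmp, smul_pow, one_pow, hμ, sub_self]
  have hN0 : Am - μ • (1 : Matrix (Fin n) (Fin n) F) ≠ 0 := by
    intro h0
    have hAeq : Am = μ • (1 : Matrix (Fin n) (Fin n) F) := sub_eq_zero.mp h0
    apply hAnc
    rw [Matrix.SpecialLinearGroup.mem_center_iff]
    refine ⟨μ, ?_, ?_⟩
    · have hdet : Am.det = 1 := A.2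
      rw [hAeq, Matrix.det_smul, Matrix.det_one, mul_one] at hdet
      exact hdet
    · rw [← hAm, hAeq]
      ext i j
      simp [Matrix.one_apply, Matrix.diagonal_apply]
  -- commutation up to a scalar
  have hcomm1 : (QuotientGroup.mk (A * B) : Matrix.ProjectiveSpecialLinearGroup (Fin n) F) =
      QuotientGroup.mk (B * A) := by
    rw [QuotientGroup.mk_mul, QuotientGroup.mk_mul, hB]
    exact hab'
  rw [QuotientGroup.eq] at hcomm1
  obtain ⟨z, -, hz⟩ := Matrix.SpecialLinearGroup.mem_center_iff.mp hcomm1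
  have hBA : Bm * Am = z • (Am * Bm) := by
    obtain ⟨Z, hZ⟩ : ∃ Z : Matrix.SpecialLinearGroup (Fin n) F, Z = (A * B)⁻¹ * (B * A) := ⟨_, rfl⟩
    rw [← hZ] at hz
    have h1 : B * A = (A * B) * Z := by rw [hZ]; group
    have h2 : Bm * Am = Am * Bm * (Z : Matrix (Fin n) (Fin n) F) := by
      have := congrArg (fun x : Matrix.SpecialLinearGroup (Fin n) F =>
        (x : Matrix (Fin n) (Fin n) F)) h1
      simpa [hAm, hBm] using this
    have hs : Matrix.scalar (Fin n) z = z • (1 : Matrix (Fin n) (Fin n) F) := by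
      ext i j
      simp [Matrix.one_apply, Matrix.diagonal_apply]
    rw [h2, ← hz, hs, Matrix.mul_smul, Matrix.mul_one]
  have hBm0 : Bm ≠ 0 := by
    intro h0
    have hdet : Bm.det = 1 := B.2
    rw [h0, Matrix.det_zero] at hdet
    exact zero_ne_one hdet
  have hz1 : z = 1 := twist_eq_one_of_nilpotent p Am Bm hBm0 z μ hμ0 hBA hNp
  rw [hz1, one_smul] at hBA
  -- the element of order r
  have hBord : r ∣ orderOf B := by
    have h1 : orderOf (QuotientGroup.mk' (Subgroup.center (Matrix.SpecialLinearGroup (Fin n) F)) B)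
        ∣ orderOf B := orderOf_map_dvd _ B
    have h2 : QuotientGroup.mk' (Subgroup.center (Matrix.SpecialLinearGroup (Fin n) F)) B = b' := hB
    rw [h2, hb'ord] at h1
    exact h1
  have hB0 : orderOf B ≠ 0 := (orderOf_pos B).ne'
  set c := B ^ (orderOf B / r) with hc
  have hcord : orderOf c = r := orderOf_pow_orderOf_div hB0 hBord
  set Cm : Matrix (Fin n) (Fin n) F := (c : Matrix (Fin n) (Fin n) F) with hCm
  have hCmpow : Cm = Bm ^ (orderOf B / r) := by
    simp [hCm, hc, hBm]
  have hCr : Cm ^ r = 1 := by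
    have h1 : c ^ r = 1 := by rw [← hcord]; exact pow_orderOf_eq_one c
    have h2 := congrArg (fun x : Matrix.SpecialLinearGroup (Fin n) F =>
      (x : Matrix (Fin n) (Fin n) F)) h1
    simpa [hCm] using h2
  have hC1 : Cm ≠ 1 := by
    intro h1
    have h2 : c = 1 := by
      apply Subtype.ext
      simpa [hCm] using h1
    rw [h2, orderOf_one] at hcord
    exact hrprime.one_lt.ne hcord
  have hNC : (Am - μ • (1 : Matrix (Fin n) (Fin n) F)) * Cm =
      Cm * (Am - μ • (1 : Matrix (Fin n) (Fin n) F)) := by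
    have h1 : Commute (Am - μ • (1 : Matrix (Fin n) (Fin n) F)) Bm := by
      have hAB : Commute Am Bm := hBA.symm
      exact hAB.sub_left ((Commute.one_left Bm).smul_left μ)
    rw [hCmpow]
    exact h1.pow_right _
  have hrq : ¬ r ∣ Fintype.card F := by
    intro hdiv
    obtain ⟨k, -, hk⟩ := FiniteField.card F p
    rw [hk] at hdiv
    have := (Nat.prime_dvd_prime_iff_eq hrprime hp).mp (hrprime.dvd_of_dvd_pow hdiv)
    exact hrp this
  exact exists_dvd_pow_sub_one_of_commute_nilpotent_matrix r hrq _ Cm ⟨p, hNp⟩ hN0 hCr hC1 hNC hn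

/-- Let F be a finite field of characteristic p, n ≥ 4, and let a, b be commuting elements of PSL(n, F) with a of order p. Then every prime divisor of the order of b divides the order of SL(n − 2, F). -/
theorem result {F : Type*} [Field F] [Fintype F] (p : ℕ) [Fact p.Prime] [CharP F p] (n : ℕ) (hn : 4 ≤ n)
    (a b : Matrix.ProjectiveSpecialLinearGroup (Fin n) F) (ha : orderOf a = p) (hab : Commute a b) :
    (orderOf b).primeFactors ⊆ (Nat.card (Matrix.SpecialLinearGroup (Fin (n - 2)) F)).primeFactors := by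
  classical
  intro r hr
  rw [Nat.mem_primeFactors] at hr ⊢
  obtain ⟨hrprime, hrdvd, -⟩ := hr
  have : Fact r.Prime := ⟨hrprime⟩
  refine ⟨hrprime, ?_, Nat.card_pos.ne'⟩
  by_cases hrp : r = p
  · subst hrp
    exact char_dvd_card_SL r (n - 2) (by omega)
  · obtain ⟨i, hi1, hi2, hdvd⟩ := key p n (by omega) a b ha hab r hrp hrdvd
    rcases Nat.lt_or_ge i 2 with h | h
    · have hi : i = 1 := by omega
      subst hi
      have h2 := pow_sub_one_dvd_card_SL (F := F) (n - 2) 2 (le_refl 2) (by omega)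
      refine Dvd.dvd.trans (Dvd.dvd.trans hdvd ?_) h2
      rw [pow_one]
      have hq : 1 ≤ Fintype.card F := Fintype.card_pos
      refine ⟨Fintype.card F + 1, ?_⟩
      zify [hq, Nat.one_le_pow 2 _ hq]
      ring
    · exact hdvd.trans (pow_sub_one_dvd_card_SL (n - 2) i h hi2)

end Cfsg.Agent.S2364
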