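import Cfsg.Statements.S2365
import Cfsg.Agent.Lib.helper99.UCentC

set_option autoImplicit false
open Cfsg

namespace Cfsg.Agent.S2365

open Cfsg.Agent.Lib.helper7 Cfsg.Agent.Lib.helper44 Cfsg.Agent.Lib.helper99.UCent

theorem coe_pow_su {F : Type*} [Field F] (m q : ℕ) (g : SU m F q) (k : ℕ) :
    (g ^ k).1.1 = g.1.1 ^ k := by
  simp

theorem mem_center_iff_scalar {F : Type*} [Field F] [Fintype F] (m q : ℕ) (hm : 0 < m)
    (hF : Fintype.card F = q ^ 2) (g : SU m F q) :
    g ∈ Subgroup.center (SU m F q) ↔ ∃ c : F, g.1.1 = c • (1 : Matrix (Fin m) (Fin m) F) := by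
  constructor
  · intro hz
    have hZ : ∀ M : Matrix (Fin m) (Fin m) F, IsIsom m q M → M.det = 1 →
        g.1.1 * M = M * g.1.1 := by
      intro M hM hMdet
      have h := Subgroup.mem_center_iff.1 hz ((suEquiv m).symm ⟨M, hM, hMdet⟩)
      have h2 := congrArg (fun g : SU m F q => g.1.1) h
      exact h2.symm
    exact ⟨_, scalar_of_commute hF m _ hZ ⟨0, hm⟩⟩
  · rintro ⟨c, hc⟩
    rw [Subgroup.mem_center_iff]
    intro h
    apply Subtype.ext
    apply Subtype.ext
    change h.1.1 * g.1.1 = g.1.1 * h.1.1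
    rw [hc, Matrix.mul_smul, Matrix.smul_mul, mul_one, one_mul]

/-- Key step: a prime `r ≠ p` dividing the order of an element `b` of `PSU_m(q)` commuting with
an element of order `p`. -/
theorem key {F : Type*} [Field F] [Fintype F] (p : ℕ) [Fact p.Prime] [CharP F p] (m q : ℕ)
    (hm : 4 ≤ m) (hF : Fintype.card F = q ^ 2)
    (a b : Cfsg.PSU m F q) (ha : orderOf a = p)
    (hab : Commute a b) (r : ℕ) [Fact r.Prime] (hrp : r ≠ p) (hr : r ∣ orderOf b) :
    ∃ w, 1 ≤ w ∧ w ≤ m - 2 ∧ ((q : ZMod r) = 1 ∨ (q : ZMod r) ^ w = (-1) ^ w) := by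
  classical
  have hp : p.Prime := Fact.out
  have hrprime : r.Prime := Fact.out
  have : NeZero m := ⟨by omega⟩
  have hm0 : 0 < m := by omega
  have : Finite (SU m F q) := inferInstance
  -- an element of order `r` commuting with `a`
  have hb0 : orderOf b ≠ 0 := (orderOf_pos b).ne'
  set b' := b ^ (orderOf b / r) with hb'
  have hb'ord : orderOf b' = r := orderOf_pow_orderOf_div hb0 hr
  have hab' : Commute a b' := hab.pow_right _
  -- lifts
  obtain ⟨A, rfl⟩ := QuotientGroup.mk_surjective a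
  obtain ⟨B, hB⟩ := QuotientGroup.mk_surjective b'
  -- `A ^ p` is central
  have hAp : A ^ p ∈ Subgroup.center (SU m F q) := by
    rw [← QuotientGroup.eq_one_iff, QuotientGroup.mk_pow, ← ha]
    exact pow_orderOf_eq_one _
  obtain ⟨ζ, hζ⟩ := (mem_center_iff_scalar m q hm0 hF _).1 hAp
  rw [coe_pow_su] at hζ
  -- `A` is not central
  have hAnc : A ∉ Subgroup.center (SU m F q) := by
    intro hc
    have h1 : (QuotientGroup.mk A : Cfsg.PSU m F q) = 1 :=
      (QuotientGroup.eq_one_iff A).mpr hc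
    rw [h1, orderOf_one] at ha
    exact hp.one_lt.ne ha
  set Am : Matrix (Fin m) (Fin m) F := A.1.1 with hAm
  set Bm : Matrix (Fin m) (Fin m) F := B.1.1 with hBm
  have hAdet : Am.det = 1 := A.1.2
  have hBdet : Bm.det = 1 := B.1.2
  have hζ0 : ζ ≠ 0 := by
    intro h0
    have := congrArg Matrix.det hζ
    rw [h0, zero_smul, Matrix.det_pow, hAdet, one_pow, Matrix.det_zero] at this
    exact one_ne_zero this
  -- a p-th root of ζ
  have hfrob : Function.Surjective (frobenius F p) :=
    Finite.injective_iff_surjective.mp (frobenius_inj F p)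
  obtain ⟨μ, hμ⟩ := hfrob ζ
  rw [frobenius_def] at hμ
  have hμ0 : μ ≠ 0 := by
    intro h0
    rw [h0, zero_pow hp.ne_zero] at hμ
    exact hζ0 hμ.symm
  have hNp : (Am - μ • (1 : Matrix (Fin m) (Fin m) F)) ^ p = 0 := by
    have hc : Commute Am (μ • (1 : Matrix (Fin m) (Fin m) F)) :=
      (Commute.one_right Am).smul_right μ
    rw [sub_pow_char_of_commute p hc, hζ, smul_pow, one_pow, hμ, sub_self]
  have hN0 : Am - μ • (1 : Matrix (Fin m) (Fin m) F) ≠ 0 := by
    intro h0
    have hAeq : Am = μ • (1 : Matrix (Fin m) (Fin m) F) := sub_eq_zero.mp h0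
    exact hAnc ((mem_center_iff_scalar m q hm0 hF _).2 ⟨μ, hAeq⟩)
  -- commutation up to a scalar
  have hcomm1 : (QuotientGroup.mk (A * B) : Cfsg.PSU m F q) = QuotientGroup.mk (B * A) := by
    rw [QuotientGroup.mk_mul, QuotientGroup.mk_mul, hB]
    exact hab'
  rw [QuotientGroup.eq] at hcomm1
  obtain ⟨z, hz⟩ := (mem_center_iff_scalar m q hm0 hF _).1 hcomm1
  have hBA : Bm * Am = z • (Am * Bm) := by
    obtain ⟨Z, hZ⟩ : ∃ Z : SU m F q, Z = (A * B)⁻¹ * (B * A) := ⟨_, rfl⟩
    rw [← hZ] at hz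
    have h1 : B * A = (A * B) * Z := by rw [hZ]; group
    have h2 : Bm * Am = Am * Bm * Z.1.1 := by
      have := congrArg (fun x : SU m F q => x.1.1) h1
      exact this
    rw [h2, hz, Matrix.mul_smul, Matrix.mul_one]
  have hBm0 : Bm ≠ 0 := by
    intro h0
    rw [h0, Matrix.det_zero] at hBdet
    exact zero_ne_one hBdet
  have hz1 : z = 1 := twist_eq_one_of_nilpotent p Am Bm hBm0 z μ hμ0 hBA hNp
  rw [hz1, one_smul] at hBA
  -- the element of order r
  have hBord : r ∣ orderOf B := by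
    have h1 : orderOf (QuotientGroup.mk' (Subgroup.center (SU m F q)) B)
        ∣ orderOf B := orderOf_map_dvd _ B
    have h2 : QuotientGroup.mk' (Subgroup.center (SU m F q)) B = b' := hB
    rw [h2, hb'ord] at h1
    exact h1
  have hB0 : orderOf B ≠ 0 := (orderOf_pos B).ne'
  set c := B ^ (orderOf B / r) with hc
  have hcord : orderOf c = r := orderOf_pow_orderOf_div hB0 hBord
  set Cm : Matrix (Fin m) (Fin m) F := c.1.1 with hCm
  have hCmpow : Cm = Bm ^ (orderOf B / r) := by
    rw [hCm, hc, coe_pow_su]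
  have hCr : Cm ^ r = 1 := by
    have h1 : c ^ r = 1 := by rw [← hcord]; exact pow_orderOf_eq_one c
    have h2 := congrArg (fun x : SU m F q => x.1.1) h1
    simp only [coe_pow_su] at h2
    exact h2
  have hC1 : Cm ≠ 1 := by
    intro h1
    have h2 : c = 1 := by
      apply Subtype.ext
      apply Subtype.ext
      exact h1
    rw [h2, orderOf_one] at hcord
    exact hrprime.one_lt.ne hcord
  have hAC : Am * Cm = Cm * Am := by
    have hAB : Commute Am Bm := hBA.symm
    rw [hCmpow]
    exact hAB.pow_right _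
  have hAiso : IsIsom m q Am := (mem_SU_iff m A.1).1 A.2
  have hCiso : IsIsom m q Cm := (mem_SU_iff m c.1).1 c.2
  exact key_mat hF p hm r hrp Am Cm hAiso hCiso hCr hC1 hAC μ hμ0 hNp hN0

/-- Let q be a power of the prime p, F the field with q² elements, m ≥ 4, and let a, b be commuting elements of PSU(m, q) with a of order p. Then every prime divisor of the order of b divides the order of SU(m − 2, q). -/
theorem result {F : Type*} [Field F] [Fintype F] (p : ℕ) [Fact p.Prime] [CharP F p] (m q : ℕ) (hm : 4 ≤ m) (hF : Fintype.card F = q ^ 2)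
    (a b : Cfsg.PSU m F q) (ha : orderOf a = p) (hab : Commute a b) :
    (orderOf b).primeFactors ⊆ (Nat.card ↥(Cfsg.SU (m - 2) F q)).primeFactors := by
  classical
  intro r hr
  rw [Nat.mem_primeFactors] at hr ⊢
  obtain ⟨hrprime, hrdvd, -⟩ := hr
  have : Fact r.Prime := ⟨hrprime⟩
  refine ⟨hrprime, ?_, Nat.card_pos.ne'⟩
  by_cases hrp : r = p
  · subst hrp
    exact char_dvd_card_SU hF r (m - 2) (by omega)
  · obtain ⟨w, hw1, hw2, hw⟩ := key p m q hm hF a b ha hab r hrp hrdvd
    exact dvd_card_SU hF (m - 2) (by omega) r w hw1 hw2 hw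

end Cfsg.Agent.S2365
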