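import Cfsg.Statements.S2366
import Cfsg.Agent.Lib.helper99.PsuSpecC
import Cfsg.Agent.Lib.helper99.PsuSpecD

set_option autoImplicit false
open Cfsg

namespace Cfsg.Agent.S2366

open Cfsg.Agent.Lib.helper99.PsuSpec Cfsg.Agent.Lib.helper7 Cfsg.Agent.Lib.helper48

/-- The set of element orders of PSU(3, q) for an odd prime power q = p^n: writing d = gcd(3, q + 1), a positive integer is the order of some element exactly when it divides one of q + 1, p(q + 1)/d, (q² − 1)/d, (q² − q + 1)/d. -/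
theorem result {F : Type*} [Field F] [Fintype F] (p : ℕ) [Fact p.Prime] [CharP F p] (hp : p ≠ 2) (q : ℕ) (hF : Fintype.card F = q ^ 2) :
    Set.range (orderOf : Cfsg.PSU 3 F q → ℕ) =
      {s : ℕ | s ∣ q + 1} ∪ {s : ℕ | s ∣ p * (q + 1) / Nat.gcd 3 (q + 1)} ∪
        {s : ℕ | s ∣ (q ^ 2 - 1) / Nat.gcd 3 (q + 1)} ∪ {s : ℕ | s ∣ (q ^ 2 - q + 1) / Nat.gcd 3 (q + 1)} := by
  classical
  obtain ⟨p', j, hp', hchar, hqj⟩ := exists_char_pow hF
  have hpp : p' = p := CharP.eq F hchar ‹CharP F p›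
  subst hpp
  have hp3 : 3 ≤ p' := by
    have := hp'.two_le
    omega
  have hj : j ≠ 0 := by
    rintro rfl
    rw [hqj] at hF
    have := Fintype.one_lt_card (α := F)
    rw [hF] at this
    simp at this
  have hq : 3 ≤ q := by
    rw [hqj]
    calc 3 ≤ p' := hp3
      _ = p' ^ 1 := (pow_one p').symm
      _ ≤ p' ^ j := Nat.pow_le_pow_right (by omega) (by omega)
  have hpq : p' ∣ q := by rw [hqj]; exact dvd_pow_self p' hj
  let σ : F →+* F := iterateFrobenius F p' j
  have hσ : ∀ x, σ x = x ^ q := fun x => by rw [hqj]; rfl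
  have hσ2 : ∀ x, σ (σ x) = x := by
    intro x
    rw [hσ, hσ, ← pow_mul, ← pow_two, ← hF, FiniteField.pow_card]
  have hσne : σ ≠ RingHom.id F := by
    intro h
    obtain ⟨m, hm⟩ := exists_orderOf (F := F) (q ^ 2 - 1) (by rw [hF])
    have h1 : m ^ q = m := by
      rw [← hσ, h]; rfl
    have hQ : 0 < q ^ 2 - 1 := by
      have : 1 < q ^ 2 := Nat.one_lt_pow (by norm_num) (by omega)
      omega
    have hm1 : m ^ (q ^ 2 - 1) = 1 := by rw [← hm]; exact pow_orderOf_eq_one m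
    have hm0 : m ≠ 0 := by
      rintro rfl
      rw [zero_pow (by omega)] at hm1
      exact zero_ne_one hm1
    have h2 : m ^ (q - 1) = 1 := by
      have : m ^ (q - 1) * m = 1 * m := by
        rw [← pow_succ, Nat.sub_add_cancel (by omega), h1, one_mul]
      exact mul_right_cancel₀ hm0 this
    have h3 : q ^ 2 - 1 ∣ q - 1 := by rw [← hm]; exact orderOf_dvd_of_pow_eq_one h2
    have h4 := Nat.le_of_dvd (by omega) h3
    have : q < q ^ 2 := by nlinarith
    omega
  have hdiv : p' * (q + 1) / Nat.gcd 3 (q + 1) = p' * ((q + 1) / Nat.gcd 3 (q + 1)) :=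
    Nat.mul_div_assoc _ (Nat.gcd_dvd_right _ _)
  rw [hdiv]
  ext s
  simp only [Set.mem_range, Set.mem_union, Set.mem_ofPred_eq]
  constructor
  · rintro ⟨x, rfl⟩
    obtain ⟨g, rfl⟩ := QuotientGroup.mk_surjective x
    have hI : IsIsom 3 q g.1.1 := (mem_SU_iff 3 g.1).1 g.2
    have hM := (isIsom_iff_cstar q (by omega) σ hσ _).1 hI
    obtain ⟨k, c, hk, hc⟩ := spec_sub_mat p' hp q j hqj hF σ hσ g.1.1 hM g.1.2
    have hdvd := psu_order_dvd q hF g k c hc
    rcases hk with rfl | rfl | rfl | rfl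
    · exact Or.inl (Or.inl (Or.inl hdvd))
    · exact Or.inl (Or.inl (Or.inr hdvd))
    · exact Or.inl (Or.inr hdvd)
    · exact Or.inr hdvd
  · intro hs
    have key : ∀ N : ℕ, (∃ M : Matrix (Fin 3) (Fin 3) F, IsIsom 3 q M ∧ M.det = 1 ∧
        ∀ (k : ℕ) (c : F), M ^ k = c • (1 : Matrix (Fin 3) (Fin 3) F) → N ∣ k) → s ∣ N →
        ∃ x : PSU 3 F q, orderOf x = s := by
      rintro N ⟨M, hI, hdet, hM⟩ hsN
      let g : SU 3 F q := (suEquiv 3).symm ⟨M, hI, hdet⟩
      have h1 : N ∣ orderOf (QuotientGroup.mk g : PSU 3 F q) := psu_dvd_order q hF g N hM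
      have hpos : 0 < orderOf (QuotientGroup.mk g : PSU 3 F q) := orderOf_pos _
      have hs2 : s ∣ orderOf (QuotientGroup.mk g : PSU 3 F q) := hsN.trans h1
      obtain ⟨t, ht⟩ := hs2
      have ht0 : t ≠ 0 := by
        rintro rfl
        omega
      refine ⟨(QuotientGroup.mk g : PSU 3 F q) ^ t, ?_⟩
      rw [orderOf_pow_of_dvd ht0 (by rw [ht]; exact dvd_mul_left t s), ht,
        Nat.mul_div_cancel _ (Nat.pos_of_ne_zero ht0)]
    rcases hs with ((h | h) | h) | h
    · exact key _ (ex1 q (by omega) hF) h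
    · exact key _ (ex2 p' q hq hpq hF σ hσ hσne hσ2) h
    · exact key _ (ex3 q hq hF σ hσ hσne hσ2) h
    · exact key _ (ex4 p' q j hqj hq hF σ hσ hσne hσ2) h

end Cfsg.Agent.S2366
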