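import Cfsg.Statements.S2367
-- import your own Cfsg.Agent.* helpers here
import Mathlib

set_option autoImplicit false
open Cfsg

namespace Cfsg.Agent.S2367

open Nat

theorem prime_mem_of_dvd_prod (p : ℕ) (hp : p.Prime) :
    ∀ (l : List (ℕ × ℕ)), (∀ x ∈ l, x.1.Prime) → p ∣ (l.map fun x => x.1 ^ x.2).prod →
      ∃ x ∈ l, x.1 = p
  | [], _, h => by
      simp at h
      exact absurd h hp.one_lt.ne'
  | x :: l, hl, h => by
      rw [List.map_cons, List.prod_cons, hp.dvd_mul] at h
      rcases h with h | h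
      · have h1 := hp.dvd_of_dvd_pow h
        have h2 := (Nat.prime_dvd_prime_iff_eq hp (hl x (by simp))).1 h1
        exact ⟨x, by simp, h2.symm⟩
      · obtain ⟨y, hy, hyp⟩ := prime_mem_of_dvd_prod p hp l (fun y hy => hl y (by simp [hy])) h
        exact ⟨y, by simp [hy], hyp⟩

theorem spor_case (N : ℕ) (l : List (ℕ × ℕ)) (k : ℕ) (hN : N = (l.map fun x => x.1 ^ x.2).prod)
    (hprime : ∀ x ∈ l, x.1.Prime) (hk : 2 ^ k ∣ N)
    (hcheck : ∀ x ∈ l, x.1 = 2 ∨ ¬ x.1 ^ 3 ∣ N ∨ x.1 ^ 4 ∣ N ∨ x.1 ^ 3 < 2 ^ k) (hN0 : N ≠ 0)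
    (p : ℕ) (hp : p.Prime) (hodd : p ≠ 2) (h3 : N.factorization p = 3) :
    p ^ 3 < 2 ^ N.factorization 2 := by
  have hdvd3 : p ^ 3 ∣ N := by rw [← h3]; exact Nat.ordProj_dvd N p
  have hndvd4 : ¬ p ^ 4 ∣ N := by
    rw [hp.pow_dvd_iff_le_factorization hN0, h3]
    norm_num
  have hpN : p ∣ N := dvd_trans (dvd_pow_self p (by norm_num)) hdvd3
  obtain ⟨x, hx, rfl⟩ := prime_mem_of_dvd_prod p hp l hprime (hN ▸ hpN)
  have hk2 : k ≤ N.factorization 2 := (Nat.prime_two.pow_dvd_iff_le_factorization hN0).1 hk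
  rcases hcheck x hx with h | h | h | h
  · exact absurd h hodd
  · exact absurd hdvd3 h
  · exact absurd h hndvd4
  · exact lt_of_lt_of_le h (Nat.pow_le_pow_right (by norm_num) hk2)

theorem spor_M11 (p : ℕ) (hp : p.Prime) (hodd : p ≠ 2) (h3 : (7920).factorization p = 3) :
    p ^ 3 < 2 ^ (7920).factorization 2 :=
  spor_case 7920 [(2, 4), (3, 2), (5, 1), (11, 1)] 4 (by norm_num) (by decide) (by norm_num) (by decide) (by norm_num) p hp hodd h3

theorem spor_M12 (p : ℕ) (hp : p.Prime) (hodd : p ≠ 2) (h3 : (95040).factorization p = 3) :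
    p ^ 3 < 2 ^ (95040).factorization 2 :=
  spor_case 95040 [(2, 6), (3, 3), (5, 1), (11, 1)] 6 (by norm_num) (by decide) (by norm_num) (by decide) (by norm_num) p hp hodd h3

theorem spor_M22 (p : ℕ) (hp : p.Prime) (hodd : p ≠ 2) (h3 : (443520).factorization p = 3) :
    p ^ 3 < 2 ^ (443520).factorization 2 :=
  spor_case 443520 [(2, 7), (3, 2), (5, 1), (7, 1), (11, 1)] 7 (by norm_num) (by decide) (by norm_num) (by decide) (by norm_num) p hp hodd h3

theorem spor_M23 (p : ℕ) (hp : p.Prime) (hodd : p ≠ 2) (h3 : (10200960).factorization p = 3) :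
    p ^ 3 < 2 ^ (10200960).factorization 2 :=
  spor_case 10200960 [(2, 7), (3, 2), (5, 1), (7, 1), (11, 1), (23, 1)] 7 (by norm_num) (by decide) (by norm_num) (by decide) (by norm_num) p hp hodd h3

theorem spor_M24 (p : ℕ) (hp : p.Prime) (hodd : p ≠ 2) (h3 : (244823040).factorization p = 3) :
    p ^ 3 < 2 ^ (244823040).factorization 2 :=
  spor_case 244823040 [(2, 10), (3, 3), (5, 1), (7, 1), (11, 1), (23, 1)] 10 (by norm_num) (by decide) (by norm_num) (by decide) (by norm_num) p hp hodd h3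

theorem spor_J1 (p : ℕ) (hp : p.Prime) (hodd : p ≠ 2) (h3 : (175560).factorization p = 3) :
    p ^ 3 < 2 ^ (175560).factorization 2 :=
  spor_case 175560 [(2, 3), (3, 1), (5, 1), (7, 1), (11, 1), (19, 1)] 3 (by norm_num) (by decide) (by norm_num) (by decide) (by norm_num) p hp hodd h3

theorem spor_J2 (p : ℕ) (hp : p.Prime) (hodd : p ≠ 2) (h3 : (604800).factorization p = 3) :
    p ^ 3 < 2 ^ (604800).factorization 2 :=
  spor_case 604800 [(2, 7), (3, 3), (5, 2), (7, 1)] 7 (by norm_num) (by decide) (by norm_num) (by decide) (by norm_num) p hp hodd h3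

theorem spor_J3 (p : ℕ) (hp : p.Prime) (hodd : p ≠ 2) (h3 : (50232960).factorization p = 3) :
    p ^ 3 < 2 ^ (50232960).factorization 2 :=
  spor_case 50232960 [(2, 7), (3, 5), (5, 1), (17, 1), (19, 1)] 7 (by norm_num) (by decide) (by norm_num) (by decide) (by norm_num) p hp hodd h3

theorem spor_J4 (p : ℕ) (hp : p.Prime) (hodd : p ≠ 2) (h3 : (86775571046077562880).factorization p = 3) :
    p ^ 3 < 2 ^ (86775571046077562880).factorization 2 :=
  spor_case 86775571046077562880 [(2, 21), (3, 3), (5, 1), (7, 1), (11, 3), (23, 1), (29, 1), (31, 1), (37, 1), (43, 1)] 21 (by norm_num) (by decide) (by norm_num) (by decide) (by norm_num) p hp hodd h3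

theorem spor_Co1 (p : ℕ) (hp : p.Prime) (hodd : p ≠ 2) (h3 : (4157776806543360000).factorization p = 3) :
    p ^ 3 < 2 ^ (4157776806543360000).factorization 2 :=
  spor_case 4157776806543360000 [(2, 21), (3, 9), (5, 4), (7, 2), (11, 1), (13, 1), (23, 1)] 21 (by norm_num) (by decide) (by norm_num) (by decide) (by norm_num) p hp hodd h3

theorem spor_Co2 (p : ℕ) (hp : p.Prime) (hodd : p ≠ 2) (h3 : (42305421312000).factorization p = 3) :
    p ^ 3 < 2 ^ (42305421312000).factorization 2 :=
  spor_case 42305421312000 [(2, 18), (3, 6), (5, 3), (7, 1), (11, 1), (23, 1)] 18 (by norm_num) (by decide) (by norm_num) (by decide) (by norm_num) p hp hodd h3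

theorem spor_Co3 (p : ℕ) (hp : p.Prime) (hodd : p ≠ 2) (h3 : (495766656000).factorization p = 3) :
    p ^ 3 < 2 ^ (495766656000).factorization 2 :=
  spor_case 495766656000 [(2, 10), (3, 7), (5, 3), (7, 1), (11, 1), (23, 1)] 10 (by norm_num) (by decide) (by norm_num) (by decide) (by norm_num) p hp hodd h3

theorem spor_Fi22 (p : ℕ) (hp : p.Prime) (hodd : p ≠ 2) (h3 : (64561751654400).factorization p = 3) :
    p ^ 3 < 2 ^ (64561751654400).factorization 2 :=
  spor_case 64561751654400 [(2, 17), (3, 9), (5, 2), (7, 1), (11, 1), (13, 1)] 17 (by norm_num) (by decide) (by norm_num) (by decide) (by norm_num) p hp hodd h3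

theorem spor_Fi23 (p : ℕ) (hp : p.Prime) (hodd : p ≠ 2) (h3 : (4089470473293004800).factorization p = 3) :
    p ^ 3 < 2 ^ (4089470473293004800).factorization 2 :=
  spor_case 4089470473293004800 [(2, 18), (3, 13), (5, 2), (7, 1), (11, 1), (13, 1), (17, 1), (23, 1)] 18 (by norm_num) (by decide) (by norm_num) (by decide) (by norm_num) p hp hodd h3

theorem spor_Fi24p (p : ℕ) (hp : p.Prime) (hodd : p ≠ 2) (h3 : (1255205709190661721292800).factorization p = 3) :
    p ^ 3 < 2 ^ (1255205709190661721292800).factorization 2 :=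
  spor_case 1255205709190661721292800 [(2, 21), (3, 16), (5, 2), (7, 3), (11, 1), (13, 1), (17, 1), (23, 1), (29, 1)] 21 (by norm_num) (by decide) (by norm_num) (by decide) (by norm_num) p hp hodd h3

theorem spor_HS (p : ℕ) (hp : p.Prime) (hodd : p ≠ 2) (h3 : (44352000).factorization p = 3) :
    p ^ 3 < 2 ^ (44352000).factorization 2 :=
  spor_case 44352000 [(2, 9), (3, 2), (5, 3), (7, 1), (11, 1)] 9 (by norm_num) (by decide) (by norm_num) (by decide) (by norm_num) p hp hodd h3

theorem spor_McL (p : ℕ) (hp : p.Prime) (hodd : p ≠ 2) (h3 : (898128000).factorization p = 3) :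
    p ^ 3 < 2 ^ (898128000).factorization 2 :=
  spor_case 898128000 [(2, 7), (3, 6), (5, 3), (7, 1), (11, 1)] 7 (by norm_num) (by decide) (by norm_num) (by decide) (by norm_num) p hp hodd h3

theorem spor_He (p : ℕ) (hp : p.Prime) (hodd : p ≠ 2) (h3 : (4030387200).factorization p = 3) :
    p ^ 3 < 2 ^ (4030387200).factorization 2 :=
  spor_case 4030387200 [(2, 10), (3, 3), (5, 2), (7, 3), (17, 1)] 10 (by norm_num) (by decide) (by norm_num) (by decide) (by norm_num) p hp hodd h3

theorem spor_Ru (p : ℕ) (hp : p.Prime) (hodd : p ≠ 2) (h3 : (145926144000).factorization p = 3) :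
    p ^ 3 < 2 ^ (145926144000).factorization 2 :=
  spor_case 145926144000 [(2, 14), (3, 3), (5, 3), (7, 1), (13, 1), (29, 1)] 14 (by norm_num) (by decide) (by norm_num) (by decide) (by norm_num) p hp hodd h3

theorem spor_Suz (p : ℕ) (hp : p.Prime) (hodd : p ≠ 2) (h3 : (448345497600).factorization p = 3) :
    p ^ 3 < 2 ^ (448345497600).factorization 2 :=
  spor_case 448345497600 [(2, 13), (3, 7), (5, 2), (7, 1), (11, 1), (13, 1)] 13 (by norm_num) (by decide) (by norm_num) (by decide) (by norm_num) p hp hodd h3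

theorem spor_ON (p : ℕ) (hp : p.Prime) (hodd : p ≠ 2) (h3 : (460815505920).factorization p = 3) :
    p ^ 3 < 2 ^ (460815505920).factorization 2 :=
  spor_case 460815505920 [(2, 9), (3, 4), (5, 1), (7, 3), (11, 1), (19, 1), (31, 1)] 9 (by norm_num) (by decide) (by norm_num) (by decide) (by norm_num) p hp hodd h3

theorem spor_HN (p : ℕ) (hp : p.Prime) (hodd : p ≠ 2) (h3 : (273030912000000).factorization p = 3) :
    p ^ 3 < 2 ^ (273030912000000).factorization 2 :=
  spor_case 273030912000000 [(2, 14), (3, 6), (5, 6), (7, 1), (11, 1), (19, 1)] 14 (by norm_num) (by decide) (by norm_num) (by decide) (by norm_num) p hp hodd h3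

theorem spor_Ly (p : ℕ) (hp : p.Prime) (hodd : p ≠ 2) (h3 : (51765179004000000).factorization p = 3) :
    p ^ 3 < 2 ^ (51765179004000000).factorization 2 :=
  spor_case 51765179004000000 [(2, 8), (3, 7), (5, 6), (7, 1), (11, 1), (31, 1), (37, 1), (67, 1)] 8 (by norm_num) (by decide) (by norm_num) (by decide) (by norm_num) p hp hodd h3

theorem spor_Th (p : ℕ) (hp : p.Prime) (hodd : p ≠ 2) (h3 : (90745943887872000).factorization p = 3) :
    p ^ 3 < 2 ^ (90745943887872000).factorization 2 :=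
  spor_case 90745943887872000 [(2, 15), (3, 10), (5, 3), (7, 2), (13, 1), (19, 1), (31, 1)] 15 (by norm_num) (by decide) (by norm_num) (by decide) (by norm_num) p hp hodd h3

theorem spor_B (p : ℕ) (hp : p.Prime) (hodd : p ≠ 2) (h3 : (4154781481226426191177580544000000).factorization p = 3) :
    p ^ 3 < 2 ^ (4154781481226426191177580544000000).factorization 2 :=
  spor_case 4154781481226426191177580544000000 [(2, 41), (3, 13), (5, 6), (7, 2), (11, 1), (13, 1), (17, 1), (19, 1), (23, 1), (31, 1), (47, 1)] 41 (by norm_num) (by decide) (by norm_num) (by decide) (by norm_num) p hp hodd h3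

theorem spor_M (p : ℕ) (hp : p.Prime) (hodd : p ≠ 2) (h3 : (808017424794512875886459904961710757005754368000000000).factorization p = 3) :
    p ^ 3 < 2 ^ (808017424794512875886459904961710757005754368000000000).factorization 2 :=
  spor_case 808017424794512875886459904961710757005754368000000000 [(2, 46), (3, 20), (5, 9), (7, 6), (11, 2), (13, 3), (17, 1), (19, 1), (23, 1), (29, 1), (31, 1), (41, 1), (47, 1), (59, 1), (71, 1)] 46 (by norm_num) (by decide) (by norm_num) (by decide) (by norm_num) p hp hodd h3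

theorem two_mul_cube_lt (p : ℕ) (hp : 3 ≤ p) : 2 * p ^ 3 < 4 ^ p := by
  induction p, hp using Nat.le_induction with
  | base => norm_num
  | succ p hp ih =>
    have h1 : (p + 1) ^ 3 ≤ 4 * p ^ 3 := by nlinarith [mul_le_mul hp hp (by norm_num) (by omega : 0 ≤ p)]
    calc 2 * (p + 1) ^ 3 ≤ 4 * (2 * p ^ 3) := by omega
      _ < 4 * 4 ^ p := by omega
      _ = 4 ^ (p + 1) := by ring

theorem alt_case (n N : ℕ) (hn : 5 ≤ n) (h2N : 2 * N = n !) (p : ℕ) (hp : p.Prime) (hodd : p ≠ 2)
    (h3 : N.factorization p = 3) : p ^ 3 < 2 ^ N.factorization 2 := by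
  have hN0 : N ≠ 0 := by
    rintro rfl
    simp at h2N
    exact (Nat.factorial_ne_zero n) h2N.symm
  have hp3 : 3 ≤ p := by
    have := hp.two_le
    omega
  have hfp : (n !).factorization p = 3 := by
    rw [← h2N, Nat.factorization_mul two_ne_zero hN0, Nat.prime_two.factorization]
    simp [h3, hodd]
  have hf2 : (n !).factorization 2 = N.factorization 2 + 1 := by
    rw [← h2N, Nat.factorization_mul two_ne_zero hN0, Nat.prime_two.factorization]
    simp
    ring
  have h3p : 3 * p ≤ n := by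
    by_contra hlt
    have hlt' : n < 3 * p := not_le.1 hlt
    have hlog : Nat.log p n < 2 := Nat.log_lt_of_lt_pow (by omega) (by nlinarith)
    have h1 := Nat.factorization_factorial hp hlog
    rw [hfp] at h1
    simp at h1
    have h2 : n / p < 3 := Nat.div_lt_of_lt_mul (by linarith)
    omega
  have hv2 : n / 2 + n / 4 + n / 8 ≤ (n !).factorization 2 := by
    have hb : Nat.log 2 n < Nat.log 2 n + 4 := by omega
    rw [Nat.factorization_factorial Nat.prime_two hb]
    have hsub : Finset.Ico 1 4 ⊆ Finset.Ico 1 (Nat.log 2 n + 4) :=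
      Finset.Ico_subset_Ico le_rfl (by omega)
    have hsum : ∑ i ∈ Finset.Ico 1 4, n / 2 ^ i = n / 2 + n / 4 + n / 8 := by
      have : Finset.Ico 1 4 = {1, 2, 3} := by decide
      rw [this]
      simp
      ring
    rw [← hsum]
    exact Finset.sum_le_sum_of_subset hsub
  have hE : 2 * p - 1 ≤ N.factorization 2 := by omega
  have hpow : 2 * p ^ 3 < 4 ^ p := two_mul_cube_lt p hp3
  have h4 : 4 ^ p = 2 * 2 ^ (2 * p - 1) := by
    rw [show (4 : ℕ) = 2 ^ 2 by norm_num, ← pow_mul, ← _root_.pow_succ']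
    congr 1
    omega
  calc p ^ 3 < 2 ^ (2 * p - 1) := by omega
    _ ≤ 2 ^ N.factorization 2 := Nat.pow_le_pow_right (by norm_num) hE

/-- Let G be an alternating group of degree at least 5 or a simple group with the order of one of the 26 sporadic groups, and let p be an odd prime such that p³ is the exact power of p dividing the order of G. Then p³ is less than the 2-part of the order of G. -/
theorem result {G : Type*} [Group G] [Finite G] (hG : Cfsg.IsAlternating G ∨ Cfsg.IsSporadic G)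
    (p : ℕ) (hp : p.Prime) (hodd : p ≠ 2) (h3 : (Nat.card G).factorization p = 3) :
    p ^ 3 < 2 ^ (Nat.card G).factorization 2 := by
  rcases hG with hA | hS
  · obtain ⟨n, hn, ⟨e⟩⟩ := hA
    have hcard : Nat.card G = Nat.card (alternatingGroup (Fin n)) := Nat.card_congr e.toEquiv
    have : Nontrivial (Fin n) := Fin.nontrivial_iff_two_le.2 (by omega)
    have h2N : 2 * Nat.card G = n ! := by
      rw [hcard, two_mul_nat_card_alternatingGroup, Nat.card_perm]
      simp
    exact alt_case n (Nat.card G) hn h2N p hp hodd h3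
  · unfold IsSporadic at hS
    rcases hS with h | h | h | h | h | h | h | h | h | h | h | h | h | h | h | h | h | h | h | h | h | h | h | h | h | h
    · obtain ⟨_, hN⟩ := h
      rw [hN] at h3 ⊢
      exact spor_M11 p hp hodd h3
    · obtain ⟨_, hN⟩ := h
      rw [hN] at h3 ⊢
      exact spor_M12 p hp hodd h3
    · obtain ⟨_, hN⟩ := h
      rw [hN] at h3 ⊢
      exact spor_M22 p hp hodd h3
    · obtain ⟨_, hN⟩ := h
      rw [hN] at h3 ⊢
      exact spor_M23 p hp hodd h3
    · obtain ⟨_, hN⟩ := h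
      rw [hN] at h3 ⊢
      exact spor_M24 p hp hodd h3
    · obtain ⟨_, hN⟩ := h
      rw [hN] at h3 ⊢
      exact spor_J1 p hp hodd h3
    · obtain ⟨_, hN⟩ := h
      rw [hN] at h3 ⊢
      exact spor_J2 p hp hodd h3
    · obtain ⟨_, hN⟩ := h
      rw [hN] at h3 ⊢
      exact spor_J3 p hp hodd h3
    · obtain ⟨_, hN⟩ := h
      rw [hN] at h3 ⊢
      exact spor_J4 p hp hodd h3
    · obtain ⟨_, hN⟩ := h
      rw [hN] at h3 ⊢
      exact spor_Co1 p hp hodd h3
    · obtain ⟨_, hN⟩ := h
      rw [hN] at h3 ⊢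
      exact spor_Co2 p hp hodd h3
    · obtain ⟨_, hN⟩ := h
      rw [hN] at h3 ⊢
      exact spor_Co3 p hp hodd h3
    · obtain ⟨_, hN⟩ := h
      rw [hN] at h3 ⊢
      exact spor_Fi22 p hp hodd h3
    · obtain ⟨_, hN⟩ := h
      rw [hN] at h3 ⊢
      exact spor_Fi23 p hp hodd h3
    · obtain ⟨_, hN⟩ := h
      rw [hN] at h3 ⊢
      exact spor_Fi24p p hp hodd h3
    · obtain ⟨_, hN⟩ := h
      rw [hN] at h3 ⊢
      exact spor_HS p hp hodd h3
    · obtain ⟨_, hN⟩ := h
      rw [hN] at h3 ⊢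
      exact spor_McL p hp hodd h3
    · obtain ⟨_, hN⟩ := h
      rw [hN] at h3 ⊢
      exact spor_He p hp hodd h3
    · obtain ⟨_, hN⟩ := h
      rw [hN] at h3 ⊢
      exact spor_Ru p hp hodd h3
    · obtain ⟨_, hN⟩ := h
      rw [hN] at h3 ⊢
      exact spor_Suz p hp hodd h3
    · obtain ⟨_, hN⟩ := h
      rw [hN] at h3 ⊢
      exact spor_ON p hp hodd h3
    · obtain ⟨_, hN⟩ := h
      rw [hN] at h3 ⊢
      exact spor_HN p hp hodd h3
    · obtain ⟨_, hN⟩ := h
      rw [hN] at h3 ⊢
      exact spor_Ly p hp hodd h3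
    · obtain ⟨_, hN⟩ := h
      rw [hN] at h3 ⊢
      exact spor_Th p hp hodd h3
    · obtain ⟨_, hN⟩ := h
      rw [hN] at h3 ⊢
      exact spor_B p hp hodd h3
    · obtain ⟨_, hN⟩ := h
      rw [hN] at h3 ⊢
      exact spor_M p hp hodd h3

end Cfsg.Agent.S2367
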