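import Cfsg.Statements.S2368
-- import your own Cfsg.Agent.* helpers here
import Cfsg.Agent.Lib.helper44.Unipotent

set_option autoImplicit false
open Cfsg

namespace Cfsg.Agent.S2368

open Cfsg.Agent.Lib.helper44

/-- Let F be a finite field of characteristic p and m ≥ 1. Every element of GL(m, F) of p-power order has order less than p·m, and GL(m, F) has an element of p-power order at least m; so the largest order of a p-element of GL(m, F) is the least power of p that is at least m. -/
theorem result {F : Type*} [Field F] [Fintype F] (p : ℕ) [Fact p.Prime] [CharP F p] (m : ℕ) (hm : 1 ≤ m) :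
    (∀ g : Matrix.GeneralLinearGroup (Fin m) F, (∃ j : ℕ, orderOf g = p ^ j) → orderOf g < p * m) ∧
      ∃ g : Matrix.GeneralLinearGroup (Fin m) F, (∃ j : ℕ, orderOf g = p ^ j) ∧ m ≤ orderOf g := by
  classical
  have hp : p.Prime := Fact.out
  have hex : ∃ k, m ≤ p ^ k := ⟨m, (Nat.lt_pow_self hp.one_lt).le⟩
  have hk : m ≤ p ^ Nat.find hex := Nat.find_spec hex
  have hkmin : ∀ k' < Nat.find hex, ¬ m ≤ p ^ k' := fun k' h => Nat.find_min hex h
  generalize Nat.find hex = k at hk hkmin
  have hpk : p ^ k < p * m := by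
    rcases Nat.eq_zero_or_pos k with h0 | h0
    · rw [h0, pow_zero]
      have := hp.two_le
      nlinarith
    · have h1 := hkmin (k - 1) (by omega)
      have e : p ^ k = p * p ^ (k - 1) := by
        rw [← pow_succ']
        congr 1
        omega
      rw [e]
      exact Nat.mul_lt_mul_of_pos_left (by omega) hp.pos
  have hcard : Fintype.card (Fin m) ≤ p ^ k := by simpa using hk
  constructor
  · rintro g ⟨j, hj⟩
    have hgj : g ^ p ^ j = 1 := by rw [← hj]; exact pow_orderOf_eq_one g
    have hnil : IsNilpotent ((g : Matrix (Fin m) (Fin m) F) - 1) :=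
      ⟨p ^ j, sub_one_pow_eq_zero_of_pow_eq_one p g j hgj⟩
    have h1 := pow_eq_one_of_sub_one_isNilpotent p g hnil k hcard
    have h2 := orderOf_dvd_of_pow_eq_one h1
    exact lt_of_le_of_lt (Nat.le_of_dvd (pow_pos hp.pos k) h2) hpk
  · have hJnil : IsNilpotent (shiftMat F m) := ⟨m, shiftMat_pow_self F m⟩
    have hu : IsUnit (1 + shiftMat F m) := hJnil.isUnit_one_add
    have hgval : ((hu.unit : Matrix.GeneralLinearGroup (Fin m) F) : Matrix (Fin m) (Fin m) F) =
        1 + shiftMat F m := rfl
    have hsub : ((hu.unit : Matrix.GeneralLinearGroup (Fin m) F) : Matrix (Fin m) (Fin m) F) - 1 =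
        shiftMat F m := by rw [hgval]; simp
    have hgnil : IsNilpotent (((hu.unit : Matrix.GeneralLinearGroup (Fin m) F) :
        Matrix (Fin m) (Fin m) F) - 1) := by rw [hsub]; exact hJnil
    have h1 := pow_eq_one_of_sub_one_isNilpotent p hu.unit hgnil k hcard
    have h2 := orderOf_dvd_of_pow_eq_one h1
    obtain ⟨j, _, hj⟩ := (Nat.dvd_prime_pow hp).1 h2
    refine ⟨hu.unit, ⟨j, hj⟩, ?_⟩
    rw [hj]
    by_contra hlt
    have hlt' : p ^ j < m := not_le.1 hlt
    have hgj : hu.unit ^ p ^ j = 1 := by rw [← hj]; exact pow_orderOf_eq_one _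
    have h3 := sub_one_pow_eq_zero_of_pow_eq_one p hu.unit j hgj
    rw [hsub] at h3
    exact shiftMat_pow_ne_zero F m (p ^ j) hlt' h3

end Cfsg.Agent.S2368
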