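import Cfsg.Statements.S2369
import Cfsg.Agent.Lib.helper23.F4Sigma
import Cfsg.Agent.Lib.helper23.F4Inv

set_option autoImplicit false
open Cfsg

namespace Cfsg.Agent.S2369

/-- Let q = 2^(2m+1) with m ≥ 1 and let a, b be commuting elements of the large Ree group ²F₄(q) with a an involution. Then every prime divisor of the order of b divides q(q⁴ − 1). -/
theorem result {K : Type*} [Field K] [Fintype K] (m : ℕ) (hm : 1 ≤ m) (hK : Fintype.card K = 2 ^ (2 * m + 1))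
    (a b : ↥(Cfsg.Lie.twistedF4 K (2 ^ m))) (ha : orderOf a = 2) (hab : Commute a b) :
    (orderOf b).primeFactors ⊆ (2 ^ (2 * m + 1) * ((2 ^ (2 * m + 1)) ^ 4 - 1)).primeFactors := by
  obtain ⟨R⟩ := Cfsg.Agent.Lib.helper23.exists_f4Data hK
  intro r hr
  rw [Nat.mem_primeFactors] at hr ⊢
  obtain ⟨hrp, hrb, hb0⟩ := hr
  have h2 : 2 ≤ 2 ^ (2 * m + 1) := by
    calc 2 = 2 ^ 1 := rfl
      _ ≤ 2 ^ (2 * m + 1) := Nat.pow_le_pow_right (by norm_num) (by omega)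
  have h3 : 2 ≤ (2 ^ (2 * m + 1)) ^ 4 := le_trans h2 (Nat.le_self_pow (by norm_num) _)
  refine ⟨hrp, ?_, Nat.mul_ne_zero (by omega) (by omega)⟩
  by_contra hnd
  have : Fact r.Prime := ⟨hrp⟩
  obtain ⟨p, hp⟩ : ∃ p, 2 ^ (2 * m + 1) = p + 1 := ⟨2 ^ (2 * m + 1) - 1, by omega⟩
  rw [hp] at hnd
  have hKp : Fintype.card K = p + 1 := hK.trans hp
  have e4 : (p + 1) ^ 4 - 1 = p * (p + 2) * ((p + 1) ^ 2 + 1) := by
    apply Nat.sub_eq_of_eq_add
    ring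
  rw [e4] at hnd
  have hrB : ¬ r ∣ Fintype.card K ^ 12 * (Fintype.card K - 1) ^ 2 := by
    rw [hKp, Nat.add_sub_cancel]
    intro h
    apply hnd
    rcases (Nat.Prime.dvd_mul hrp).mp h with h | h
    · exact Dvd.dvd.mul_right (hrp.dvd_of_dvd_pow h) _
    · exact Dvd.dvd.mul_left (Dvd.dvd.mul_right (Dvd.dvd.mul_right (hrp.dvd_of_dvd_pow h) _) _) _
  have hr1 : ¬ r ∣ Fintype.card K + 1 := by
    rw [hKp]
    intro h
    apply hnd
    exact Dvd.dvd.mul_left (Dvd.dvd.mul_right (Dvd.dvd.mul_left h _) _) _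
  have hr2 : ¬ r ∣ Fintype.card K ^ 2 + 1 := by
    rw [hKp]
    intro h
    apply hnd
    exact Dvd.dvd.mul_left (Dvd.dvd.mul_left h _) _
  have ho : orderOf (b ^ (orderOf b / r)) = r := orderOf_pow_orderOf_div hb0 hrb
  have hab₀ : Commute a (b ^ (orderOf b / r)) := hab.pow_right _
  generalize b ^ (orderOf b / r) = b₀ at ho hab₀
  have hb₀r : b₀ ^ r = 1 := by
    rw [← ho]
    exact pow_orderOf_eq_one b₀
  have hb₀1 : b₀ ≠ 1 := by
    intro h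
    rw [h, orderOf_one] at ho
    exact hrp.one_lt.ne ho
  obtain ⟨g, hg⟩ := R.two_conj_U1 (k := 2 * m + 1) (by omega) hK a ⟨1, by rw [ha, pow_one]⟩
  have ha' : ((g * a * g⁻¹ : ↥(Cfsg.Lie.twistedF4 K (2 ^ m))) : GL Cfsg.Lie.chevF4.Idx K) ∈
      Cfsg.Lie.chevF4.posUnipotent K := (Subgroup.mem_subgroupOf.mp hg).1
  have ha1 : g * a * g⁻¹ ≠ 1 := by
    intro h
    have h4 : a = 1 := by
      have e : a = g⁻¹ * (g * a * g⁻¹) * g := by group
      rw [e, h]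
      group
    rw [h4, orderOf_one] at ha
    omega
  have hab' : Commute (g * a * g⁻¹) (g * b₀ * g⁻¹) := by
    have h4 := hab₀.eq
    show g * a * g⁻¹ * (g * b₀ * g⁻¹) = g * b₀ * g⁻¹ * (g * a * g⁻¹)
    calc g * a * g⁻¹ * (g * b₀ * g⁻¹) = g * (a * b₀) * g⁻¹ := by group
      _ = g * (b₀ * a) * g⁻¹ := by rw [h4]
      _ = g * b₀ * g⁻¹ * (g * a * g⁻¹) := by group
  have hb' : (g * b₀ * g⁻¹) ^ r = 1 := by rw [conj_pow, hb₀r, mul_one, mul_inv_cancel]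
  have hb1' : g * b₀ * g⁻¹ ≠ 1 := by
    intro h
    apply hb₀1
    have e : b₀ = g⁻¹ * (g * b₀ * g⁻¹) * g := by group
    rw [e, h]
    group
  exact R.no_commute ha' ha1 hab' hb' hb1' hrB hr1 hr2

end Cfsg.Agent.S2369
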