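import Cfsg.Statements.S2391
import Cfsg.Agent.Lib.helper45.PGroupFixed

set_option autoImplicit false
open Cfsg

namespace Cfsg.Agent.S2391

section aux

variable {F : Type*} [Field F] {n : ℕ}

/-- The vectors moved by `U` into `W`. -/
def nxt (U : Subgroup (Matrix.SpecialLinearGroup (Fin n) F)) (W : Submodule F (Fin n → F)) :
    Submodule F (Fin n → F) :=
  ⨅ u : ↥U, W.comap (Matrix.mulVecLin ((u : Matrix.SpecialLinearGroup (Fin n) F) : Matrix (Fin n) (Fin n) F) - LinearMap.id)

theorem mem_nxt (U : Subgroup (Matrix.SpecialLinearGroup (Fin n) F)) (W : Submodule F (Fin n → F))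
    (v : Fin n → F) :
    v ∈ nxt U W ↔ ∀ u ∈ U, (u : Matrix (Fin n) (Fin n) F).mulVec v - v ∈ W := by
  unfold nxt
  rw [Submodule.mem_iInf]
  constructor
  · intro h u hu
    have := h ⟨u, hu⟩
    simpa using this
  · intro h u
    have := h u.1 u.2
    simpa using this

/-- The ascending series. -/
def ser (U : Subgroup (Matrix.SpecialLinearGroup (Fin n) F)) : ℕ → Submodule F (Fin n → F)
  | 0 => ⊥
  | (j + 1) => nxt U (ser U j)

theorem ser_stable (U : Subgroup (Matrix.SpecialLinearGroup (Fin n) F)) (j : ℕ) :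
    ∀ u ∈ U, ∀ v ∈ ser U j, (u : Matrix (Fin n) (Fin n) F).mulVec v ∈ ser U j := by
  induction j with
  | zero =>
    intro u _ v hv
    have : v = 0 := by simpa [ser] using hv
    rw [this, Matrix.mulVec_zero]
    exact Submodule.zero_mem _
  | succ j ih =>
    intro u hu v hv
    change v ∈ nxt U (ser U j) at hv
    change _ ∈ nxt U (ser U j)
    rw [mem_nxt] at hv ⊢
    intro u' hu'
    have h1 := hv (u' * u) (U.mul_mem hu' hu)
    have h2 := hv u hu
    have e : (u' : Matrix (Fin n) (Fin n) F).mulVec ((u : Matrix (Fin n) (Fin n) F).mulVec v) -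
        (u : Matrix (Fin n) (Fin n) F).mulVec v =
        (((u' * u : Matrix.SpecialLinearGroup (Fin n) F) : Matrix (Fin n) (Fin n) F).mulVec v - v) -
          ((u : Matrix (Fin n) (Fin n) F).mulVec v - v) := by
      rw [Matrix.SpecialLinearGroup.coe_mul, Matrix.mulVec_mulVec]
      abel
    rw [e]
    exact Submodule.sub_mem _ h1 h2

theorem ser_le_succ (U : Subgroup (Matrix.SpecialLinearGroup (Fin n) F)) (j : ℕ) :
    ser U j ≤ ser U (j + 1) := by
  intro v hv
  change v ∈ nxt U (ser U j)
  rw [mem_nxt]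
  intro u hu
  exact Submodule.sub_mem _ (ser_stable U j u hu v hv) hv

theorem ser_map_le (U : Subgroup (Matrix.SpecialLinearGroup (Fin n) F)) (j : ℕ) :
    ∀ g ∈ Subgroup.normalizer (U : Set (Matrix.SpecialLinearGroup (Fin n) F)),
      (ser U j).map (Matrix.mulVecLin (g : Matrix (Fin n) (Fin n) F)) ≤ ser U j := by
  induction j with
  | zero =>
    intro g _
    simp [ser]
  | succ j ih =>
    intro g hg
    rw [Submodule.map_le_iff_le_comap]
    intro v hv
    change v ∈ nxt U (ser U j) at hv
    rw [Submodule.mem_comap]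
    change _ ∈ nxt U (ser U j)
    rw [mem_nxt] at hv ⊢
    intro u hu
    have hu' : g⁻¹ * u * g ∈ U := by
      have := (Subgroup.mem_normalizer_iff.mp (Subgroup.inv_mem _ hg) u).mp hu
      simpa using this
    have h1 := hv _ hu'
    have h2 : (Matrix.mulVecLin (g : Matrix (Fin n) (Fin n) F))
        (((g⁻¹ * u * g : Matrix.SpecialLinearGroup (Fin n) F) : Matrix (Fin n) (Fin n) F).mulVec v - v) ∈
        (ser U j).map (Matrix.mulVecLin (g : Matrix (Fin n) (Fin n) F)) :=
      Submodule.mem_map_of_mem h1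
    have h3 := ih g hg h2
    have e : (Matrix.mulVecLin (g : Matrix (Fin n) (Fin n) F))
        (((g⁻¹ * u * g : Matrix.SpecialLinearGroup (Fin n) F) : Matrix (Fin n) (Fin n) F).mulVec v - v) =
        (u : Matrix (Fin n) (Fin n) F).mulVec ((Matrix.mulVecLin (g : Matrix (Fin n) (Fin n) F)) v) -
          (Matrix.mulVecLin (g : Matrix (Fin n) (Fin n) F)) v := by
      simp only [Matrix.mulVecLin_apply, Matrix.mulVec_sub, Matrix.mulVec_mulVec]
      rw [← Matrix.SpecialLinearGroup.coe_mul, ← Matrix.SpecialLinearGroup.coe_mul,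
        show g * (g⁻¹ * u * g) = u * g by group]
    rw [e] at h3
    exact h3

theorem ser_map_eq (U : Subgroup (Matrix.SpecialLinearGroup (Fin n) F)) (j : ℕ)
    (g : Matrix.SpecialLinearGroup (Fin n) F)
    (hg : g ∈ Subgroup.normalizer (U : Set (Matrix.SpecialLinearGroup (Fin n) F))) :
    (ser U j).map (Matrix.mulVecLin (g : Matrix (Fin n) (Fin n) F)) = ser U j := by
  apply le_antisymm (ser_map_le U j g hg)
  intro v hv
  have h1 : (Matrix.mulVecLin ((g⁻¹ : Matrix.SpecialLinearGroup (Fin n) F) : Matrix (Fin n) (Fin n) F)) v ∈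
      ser U j :=
    ser_map_le U j g⁻¹ (Subgroup.inv_mem _ hg) (Submodule.mem_map_of_mem hv)
  refine ⟨_, h1, ?_⟩
  simp only [Matrix.mulVecLin_apply, Matrix.mulVec_mulVec]
  rw [← Matrix.SpecialLinearGroup.coe_mul, mul_inv_cancel, Matrix.SpecialLinearGroup.coe_one,
    Matrix.one_mulVec]

theorem ser_lt_succ [Fintype F] (p : ℕ) [Fact p.Prime] [CharP F p]
    (U : Subgroup (Matrix.SpecialLinearGroup (Fin n) F)) (hU : IsPGroup p ↥U) (j : ℕ)
    (hj : ser U j ≠ ⊤) : ser U j < ser U (j + 1) := by
  refine lt_of_le_of_ne (ser_le_succ U j) ?_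
  intro heq
  have hstab : ∀ u : ↥U, ser U j ≤ (ser U j).comap
      (Matrix.mulVecLin ((u : Matrix.SpecialLinearGroup (Fin n) F) : Matrix (Fin n) (Fin n) F)) := by
    intro u v hv
    exact ser_stable U j u.1 u.2 v hv
  let φ : ↥U →* Module.End F ((Fin n → F) ⧸ ser U j) :=
    { toFun := fun u => (ser U j).mapQ (ser U j)
        (Matrix.mulVecLin ((u : Matrix.SpecialLinearGroup (Fin n) F) : Matrix (Fin n) (Fin n) F)) (hstab u)
      map_one' := by
        apply LinearMap.ext
        intro x
        obtain ⟨v, rfl⟩ := Submodule.Quotient.mk_surjective _ x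
        simp
      map_mul' := by
        intro u1 u2
        apply LinearMap.ext
        intro x
        obtain ⟨v, rfl⟩ := Submodule.Quotient.mk_surjective _ x
        simp [Matrix.mulVec_mulVec] }
  have : Nontrivial ((Fin n → F) ⧸ ser U j) := Submodule.Quotient.nontrivial_iff.mpr hj
  obtain ⟨b, hb0, hb⟩ := Cfsg.Agent.Lib.helper45.exists_ne_zero_fixed_of_isPGroup p hU φ
  obtain ⟨v, rfl⟩ := Submodule.Quotient.mk_surjective _ b
  have hv : v ∉ ser U j := by
    intro h
    exact hb0 ((Submodule.Quotient.mk_eq_zero _).mpr h)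
  apply hv
  rw [heq]
  change v ∈ nxt U (ser U j)
  rw [mem_nxt]
  intro u hu
  have := hb ⟨u, hu⟩
  simp only [φ, MonoidHom.coe_mk, OneHom.coe_mk, Submodule.mapQ_apply, Matrix.mulVecLin_apply] at this
  exact (Submodule.Quotient.eq _).mp this

end aux

/-- The Borel–Tits property of `SL_n(q)` in flag form: for a field `F` of characteristic `p` with finitely many elements and a non-trivial `p`-subgroup `U` of `SL_n(F)`, there is a flag `0 = V₀ < V₁ < ⋯ < V_{k+1} = F^n` with at least one proper non-zero member such that every element of the normaliser of `U` maps each `V_i` onto itself and every element of `U` acts trivially on each quotient `V_{i+1}/V_i` (so the normaliser lies in the parabolic subgroup of the flag and `U` in its unipotent radical). -/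
theorem result {F : Type*} [Field F] [Fintype F] (p : ℕ) [Fact p.Prime] [CharP F p] (n : ℕ)
    (U : Subgroup (Matrix.SpecialLinearGroup (Fin n) F)) (hU : IsPGroup p ↥U) (hne : U ≠ ⊥) :
    ∃ (k : ℕ) (V : Fin (k + 2) → Submodule F (Fin n → F)), 1 ≤ k ∧ StrictMono V ∧ V 0 = ⊥ ∧ V (Fin.last (k + 1)) = ⊤ ∧
      (∀ g ∈ Subgroup.normalizer (U : Set (Matrix.SpecialLinearGroup (Fin n) F)), ∀ i, (V i).map (Matrix.mulVecLin (g : Matrix (Fin n) (Fin n) F)) = V i) ∧
      (∀ u ∈ U, ∀ i : Fin (k + 1), ∀ v ∈ V i.succ, (u : Matrix (Fin n) (Fin n) F).mulVec v - v ∈ V (Fin.castSucc i)) := by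
  classical
  -- the series reaches the top
  have hex : ∃ j, ser U j = ⊤ := by
    by_contra hne'
    have hne : ∀ j, ser U j ≠ ⊤ := fun j hj => hne' ⟨j, hj⟩
    have hfin : ∀ j, j ≤ Module.finrank F ↥(ser U j) := by
      intro j
      induction j with
      | zero => exact Nat.zero_le _
      | succ j ih =>
        have := Submodule.finrank_lt_finrank_of_lt (ser_lt_succ p U hU j (hne j))
        omega
    have h1 := hfin (n + 1)
    have h2 : Module.finrank F ↥(ser U (n + 1)) ≤ Module.finrank F (Fin n → F) := Submodule.finrank_le _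
    rw [Module.finrank_fintype_fun_eq_card, Fintype.card_fin] at h2
    omega
  -- the fixed space is proper
  have h1 : ser U 1 ≠ ⊤ := by
    intro htop
    apply hne
    rw [Subgroup.eq_bot_iff_forall]
    intro u hu
    apply Subtype.ext
    rw [Matrix.ext_iff_mulVec]
    intro v
    have hv : v ∈ ser U 1 := by rw [htop]; exact Submodule.mem_top
    change v ∈ nxt U (ser U 0) at hv
    rw [mem_nxt] at hv
    have := hv u hu
    have h0 : (u : Matrix (Fin n) (Fin n) F).mulVec v - v = 0 := by simpa [ser] using this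
    rw [Matrix.SpecialLinearGroup.coe_one, Matrix.one_mulVec]
    exact sub_eq_zero.mp h0
  have h0 : ser U 0 ≠ ⊤ := by
    intro htop
    apply h1
    exact top_le_iff.mp (htop ▸ ser_le_succ U 0)
  have hk2 : 2 ≤ Nat.find hex := by
    by_contra hlt
    have hcases : Nat.find hex = 0 ∨ Nat.find hex = 1 := by omega
    rcases hcases with h | h
    · exact h0 (h ▸ Nat.find_spec hex)
    · exact h1 (h ▸ Nat.find_spec hex)
  refine ⟨Nat.find hex - 1, fun i => ser U i.val, by omega, ?_, rfl, ?_, ?_, ?_⟩
  · rw [Fin.strictMono_iff_lt_succ]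
    intro i
    simp only [Fin.val_castSucc, Fin.val_succ]
    apply ser_lt_succ p U hU
    intro htop
    have := Nat.find_min' hex htop
    have := i.isLt
    omega
  · simp only [Fin.val_last]
    have e : Nat.find hex - 1 + 1 = Nat.find hex := by omega
    rw [e]
    exact Nat.find_spec hex
  · intro g hg i
    exact ser_map_eq U i.val g hg
  · intro u hu i v hv
    simp only [Fin.val_succ] at hv
    simp only [Fin.val_castSucc]
    change v ∈ nxt U (ser U i.val) at hv
    rw [mem_nxt] at hv
    exact hv u hu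

end Cfsg.Agent.S2391
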