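import Cfsg.Statements.S2392
import Cfsg.Agent.Lib.helper45.CrossCharSL

set_option autoImplicit false
open scoped MatrixGroups
open Cfsg Cfsg.Agent.Lib.helper45

namespace Cfsg.Agent.S2392

/-- A lower bound for representations in cross characteristic: for `n ≥ 3` and a field `F` with `q` elements, every homomorphism from `SL_n(F)` to `GL_d(K)`, `K` a field of characteristic different from that of `F`, whose kernel is central has `d ≥ q^(n-1) - 1`. -/
theorem result {F : Type*} [Field F] [Fintype F] {q : ℕ} (hq : Fintype.card F = q) (n : ℕ) (hn : 3 ≤ n)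
    {K : Type*} [Field K] (hK : ringChar K ≠ ringChar F) {d : ℕ}
    (ρ : Matrix.SpecialLinearGroup (Fin n) F →* GL (Fin d) K) (hker : ρ.ker ≤ Subgroup.center (Matrix.SpecialLinearGroup (Fin n) F)) :
    q ^ (n - 1) - 1 ≤ d := by
  subst hq
  obtain ⟨m, rfl⟩ : ∃ m, n = m + 1 := ⟨n - 1, by omega⟩
  have hm : 2 ≤ m := by omega
  obtain ⟨N, ψ, hψ⟩ := AddChar.FiniteField.primitiveChar F K hK
  have h1 : (Fintype.card F : K) ≠ 0 := by
    intro h0
    have hdvd : ringChar K ∣ Fintype.card F := (ringChar.spec K _).mp h0
    obtain ⟨k, hp, hk⟩ := FiniteField.card F (ringChar F)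
    rcases CharP.char_is_prime_or_zero K (ringChar K) with hr | hr
    · rw [hk] at hdvd
      exact hK ((Nat.prime_dvd_prime_iff_eq hr hp).mp (hr.dvd_of_dvd_pow hdvd))
    · rw [hr, zero_dvd_iff] at hdvd
      exact Fintype.card_ne_zero hdvd
  have hcard : (Fintype.card F : CyclotomicField N K) ≠ 0 := by
    have h2 : (Fintype.card F : CyclotomicField N K) =
        algebraMap K (CyclotomicField N K) (Fintype.card F : K) := by
      rw [map_natCast]
    rw [h2]
    exact (map_ne_zero _).mpr h1
  have hmain := card_pow_sub_one_le_of_rep hm ψ hψ hcard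
    ((Matrix.GeneralLinearGroup.map (algebraMap K (CyclotomicField N K))).comp ρ) (by
      refine ⟨Pi.single ⟨0, by omega⟩ 1, ?_⟩
      intro h2
      have h3 : ρ (uSL (Pi.single ⟨0, by omega⟩ 1)) = 1 := by
        apply Units.ext
        ext i j
        have h4 := congrArg (fun g : GL (Fin d) (CyclotomicField N K) => g i j) h2
        simp only [MonoidHom.comp_apply, Matrix.GeneralLinearGroup.map_apply] at h4
        rw [Units.val_one]
        by_cases hij : i = j
        · subst hij
          rw [Units.val_one, Matrix.one_apply_eq] at h4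
          rw [Matrix.one_apply_eq]
          exact (algebraMap K (CyclotomicField N K)).injective (by rw [h4, map_one])
        · rw [Units.val_one, Matrix.one_apply_ne hij] at h4
          rw [Matrix.one_apply_ne hij]
          exact (algebraMap K (CyclotomicField N K)).injective (by rw [h4, map_zero])
      have h5 : uSL (Pi.single (⟨0, by omega⟩ : Fin m) (1 : F)) ∈
          Subgroup.center (Matrix.SpecialLinearGroup (Fin (m + 1)) F) := hker (MonoidHom.mem_ker.mpr h3)
      rw [Matrix.SpecialLinearGroup.mem_center_iff] at h5
      obtain ⟨r, -, hr⟩ := h5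
      have h6 := congrFun (congrFun hr 0) (Fin.succ ⟨0, by omega⟩)
      rw [uSL_apply_zero_succ] at h6
      simp [Matrix.scalar_apply, Matrix.diagonal_apply] at h6)
  simpa using hmain

end Cfsg.Agent.S2392
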