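import Cfsg.Statements.S2393
import Cfsg.Agent.Lib.helper45.CrossCharSp

set_option autoImplicit false
open scoped MatrixGroups
open Cfsg Cfsg.Agent.Lib.helper45

namespace Cfsg.Agent.S2393

/-- A lower bound for representations in cross characteristic: for `n ≥ 2` and a field `F` with `q` elements, `q` odd, every homomorphism from the symplectic group `Sp_{2n}(F)` to `GL_d(K)`, `K` a field of characteristic different from that of `F`, whose kernel is central has `d ≥ q^(n-1)(q-1)/2`. -/
theorem result {F : Type*} [Field F] [Fintype F] {q : ℕ} (hq : Fintype.card F = q) (hodd : Odd q) (n : ℕ) (hn : 2 ≤ n)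
    {K : Type*} [Field K] (hK : ringChar K ≠ ringChar F) {d : ℕ}
    (ρ : ↥(Matrix.symplecticGroup (Fin n) F) →* GL (Fin d) K) (hker : ρ.ker ≤ Subgroup.center ↥(Matrix.symplecticGroup (Fin n) F)) :
    q ^ (n - 1) * (q - 1) / 2 ≤ d := by
  subst hq
  obtain ⟨m, rfl⟩ : ∃ m, n = m + 1 := ⟨n - 1, by omega⟩
  obtain ⟨N, ψ, hψ⟩ := AddChar.FiniteField.primitiveChar F K hK
  have h1 : (Fintype.card F : K) ≠ 0 := by
    intro h0
    have hdvd : ringChar K ∣ Fintype.card F := (ringChar.spec K _).mp h0
    obtain ⟨k, hp, hk⟩ := FiniteField.card F (ringChar F)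
    rcases CharP.char_is_prime_or_zero K (ringChar K) with hr | hr
    · rw [hk] at hdvd
      exact hK ((Nat.prime_dvd_prime_iff_eq hr hp).mp (hr.dvd_of_dvd_pow hdvd))
    · rw [hr, zero_dvd_iff] at hdvd
      exact Fintype.card_ne_zero hdvd
  have hcard : (Fintype.card F : CyclotomicField N K) ≠ 0 := by
    have h2 : (Fintype.card F : CyclotomicField N K) =
        algebraMap K (CyclotomicField N K) (Fintype.card F : K) := by
      rw [map_natCast]
    rw [h2]
    exact (map_ne_zero _).mpr h1
  have h2 : (2 : F) ≠ 0 := by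
    intro h0
    have hdvd : ringChar F ∣ 2 := (ringChar.spec F 2).mp (by exact_mod_cast h0)
    obtain ⟨k, hp, hk⟩ := FiniteField.card F (ringChar F)
    have h2' : ringChar F = 2 := (Nat.prime_dvd_prime_iff_eq hp Nat.prime_two).mp hdvd
    rw [h2'] at hk
    rw [hk] at hodd
    exact (Nat.not_even_iff_odd.mpr hodd) (Even.pow_of_ne_zero even_two k.ne_zero)
  have hmain := sp_card_le_of_rep ψ hψ hcard
    ((Matrix.GeneralLinearGroup.map (algebraMap K (CyclotomicField N K))).comp ρ) (by
      refine ⟨1, ?_⟩
      intro h3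
      have h4 : ρ (uSp 0 (Pi.single 0 1)) = 1 := by
        apply Units.ext
        ext i j
        have h5 := congrArg (fun g : GL (Fin d) (CyclotomicField N K) => g i j) h3
        simp only [MonoidHom.comp_apply, Matrix.GeneralLinearGroup.map_apply] at h5
        rw [Units.val_one]
        by_cases hij : i = j
        · subst hij
          rw [Units.val_one, Matrix.one_apply_eq] at h5
          rw [Matrix.one_apply_eq]
          exact (algebraMap K (CyclotomicField N K)).injective (by rw [h5, map_one])
        · rw [Units.val_one, Matrix.one_apply_ne hij] at h5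
          rw [Matrix.one_apply_ne hij]
          exact (algebraMap K (CyclotomicField N K)).injective (by rw [h5, map_zero])
      have h5 : uSp (0 : Fin (m + 1)) (Pi.single 0 (1 : F)) ∈
          Subgroup.center ↥(Matrix.symplecticGroup (Fin (m + 1)) F) := hker (MonoidHom.mem_ker.mpr h4)
      have h6 := Subgroup.mem_center_iff.mp h5 (SymplecticGroup.symJ (Fin (m + 1)) F)
      have h7 : Matrix.J (Fin (m + 1)) F * Matrix.fromBlocks 1 (sMat 0 (Pi.single 0 (1 : F))) 0 1 =
          Matrix.fromBlocks 1 (sMat 0 (Pi.single 0 (1 : F))) 0 1 * Matrix.J (Fin (m + 1)) F :=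
        congrArg Subtype.val h6
      unfold Matrix.J at h7
      rw [Matrix.fromBlocks_multiply, Matrix.fromBlocks_multiply] at h7
      have h8 := congrFun (congrFun h7 (Sum.inl 0)) (Sum.inl 0)
      rw [Matrix.fromBlocks_apply₁₁, Matrix.fromBlocks_apply₁₁] at h8
      simp only [Matrix.zero_mul, Matrix.mul_zero, Matrix.mul_one, Matrix.one_mul, add_zero, zero_add,
        Matrix.zero_apply, Matrix.neg_apply, neg_zero] at h8
      rw [sMat_apply_self] at h8
      simp only [Pi.single_eq_same, mul_one] at h8
      exact h2 h8.symm)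
  simpa using hmain

end Cfsg.Agent.S2393
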