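import Cfsg.Statements.S2394
import Cfsg.Agent.S0245
import Cfsg.Agent.S2904

set_option autoImplicit false
open scoped MatrixGroups
open Cfsg

namespace Cfsg.Agent.S2394

/-- The smallest degree of a faithful representation of the symplectic group `Sp_{2n}(q)` over its own field `F_q` is `2n`: every injective homomorphism from `Sp_{2n}(F)` to `GL_d(F)`, `F` the field with `q` elements, has `d ≥ 2n`. -/
theorem result {F : Type*} [Field F] [Fintype F] (n : ℕ) {d : ℕ}
    (ρ : ↥(Matrix.symplecticGroup (Fin n) F) →* GL (Fin d) F) (hρ : Function.Injective ρ) : 2 * n ≤ d := by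
  classical
  by_contra hlt
  rw [not_le] at hlt
  obtain ⟨q, hq⟩ : ∃ q, q = Fintype.card F := ⟨_, rfl⟩
  have hq1 : 1 < q := hq ▸ Fintype.one_lt_card
  have hdvd : Nat.card (Matrix.symplecticGroup (Fin n) F) ∣ Nat.card (GL (Fin d) F) := by
    have h1 : Nat.card ρ.range = Nat.card (Matrix.symplecticGroup (Fin n) F) :=
      (Nat.card_congr (MonoidHom.ofInjective hρ).toEquiv).symm
    rw [← h1]; exact Subgroup.card_subgroup_dvd_card _
  rw [Cfsg.Agent.S0245.result hq.symm n, Matrix.card_GL_field, ← hq] at hdvd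
  have hn1 : 1 ≤ n := by omega
  -- the factor q^(2n) - 1 divides the order of Sp
  have hfac : q ^ (2 * n) - 1 ∣ q ^ (n ^ 2) * ∏ i ∈ Finset.range n, (q ^ (2 * (i + 1)) - 1) := by
    apply Dvd.dvd.mul_left
    have : q ^ (2 * n) - 1 = q ^ (2 * ((n - 1) + 1)) - 1 := by
      congr 2; omega
    rw [this]
    exact Finset.dvd_prod_of_mem _ (Finset.mem_range.mpr (by omega))
  have hpos : ∀ k, 0 < k → 0 < q ^ k - 1 := by
    intro k hk
    have : 1 < q ^ k := Nat.one_lt_pow (by omega) hq1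
    omega
  have hgl : ∀ i : Fin d, q ^ d - q ^ (i : ℕ) = q ^ (i : ℕ) * (q ^ (d - (i : ℕ)) - 1) := by
    intro i
    rw [Nat.mul_sub, mul_one, ← pow_add]
    congr 2
    have := i.2
    omega
  by_cases hex1 : n = 1
  · -- size argument
    subst hex1
    have hd : d = 0 ∨ d = 1 := by omega
    have hle := Nat.le_of_dvd (by
      apply Finset.prod_pos
      intro i _
      rw [hgl i]
      exact Nat.mul_pos (pow_pos (by omega) _) (hpos _ (by have := i.2; omega))) hdvd
    have h2 : q ^ (1 ^ 2) * ∏ i ∈ Finset.range 1, (q ^ (2 * (i + 1)) - 1) = q * (q ^ 2 - 1) := by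
      simp
    rw [h2] at hle
    have hq2 : q ≤ q ^ 2 := by nlinarith
    rcases hd with rfl | rfl
    · simp at hle
      have h5 : 2 ≤ q ^ 2 - 1 := by
        have : 4 ≤ q ^ 2 := by nlinarith
        omega
      have h6 : q * 2 ≤ q * (q ^ 2 - 1) := Nat.mul_le_mul_left _ h5
      omega
    · simp at hle
      have h5 : 2 ≤ q ^ 2 - 1 := by
        have : 4 ≤ q ^ 2 := by nlinarith
        omega
      have h6 : q * 2 ≤ q * (q ^ 2 - 1) := Nat.mul_le_mul_left _ h5
      omega
  by_cases hex2 : q = 2 ∧ 2 * n = 6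
  · obtain ⟨rfl, h6⟩ := hex2
    have hn3 : n = 3 := by omega
    subst hn3
    have hd : d < 6 := by omega
    have h2 : (2:ℕ) ^ (3 ^ 2) * ∏ i ∈ Finset.range 3, (2 ^ (2 * (i + 1)) - 1) = 1451520 := by
      simp [Finset.prod_range_succ]
    rw [h2] at hdvd
    interval_cases d <;> simp [Fin.prod_univ_succ] at hdvd <;> omega
  obtain ⟨r, hr, hrdvd, hprim⟩ := Cfsg.Agent.S2904.result q (2 * n) hq1 (by omega) hex2 (by
    rintro ⟨h2, -⟩
    omega)
  have hr1 : r ∣ ∏ i : Fin d, (q ^ d - q ^ (i : ℕ)) := (hrdvd.trans hfac).trans hdvd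
  obtain ⟨i, -, hi⟩ := (hr.prime.dvd_finsetProd_iff _).mp hr1
  rw [hgl i] at hi
  rcases (Nat.Prime.dvd_mul hr).mp hi with h | h
  · have hrq : r ∣ q := hr.dvd_of_dvd_pow h
    have h1 : r ∣ q ^ (2 * n) := dvd_pow hrq (by omega)
    have h2 : r ∣ 1 := by
      have := Nat.dvd_sub h1 hrdvd
      rwa [Nat.sub_sub_self (Nat.one_le_pow _ _ (by omega))] at this
    exact hr.one_lt.ne' (Nat.dvd_one.mp h2)
  · exact hprim (d - (i : ℕ)) (by have := i.2; omega) (by omega) h

end Cfsg.Agent.S2394
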