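import Cfsg.Statements.S2395
import Cfsg.Agent.Lib.helper45.SteinbergAb

set_option autoImplicit false
open Cfsg Cfsg.Lie Cfsg.Agent.Lib.helper45

namespace Cfsg.Agent.S2395

/-- The group presented by Steinberg's generators x̄_r(t) subject only to (R1) (additivity) and (R2) (the commutator formula) is perfect, for each of the types G₂, B₂, D₄, F₄, E₆, E₇, E₈ over any field (for types B₂ and G₂ the field must have more than two elements — the cases where the Chevalley group is not simple are set aside). -/
theorem result {K : Type*} [Field K] (D : Cfsg.Lie.ChevalleyDatum) (hD : D ∈ [Cfsg.Lie.chevG2, Cfsg.Lie.chevB2, Cfsg.Lie.chevD4, Cfsg.Lie.chevF4, Cfsg.Lie.chevE6, Cfsg.Lie.chevE7, Cfsg.Lie.chevE8]) (hK : D ∈ [Cfsg.Lie.chevB2, Cfsg.Lie.chevG2] → ∃ x : K, x ≠ 0 ∧ x ≠ 1) :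
    commutator (D.SteinbergCover K) = ⊤ := by
  simp only [List.mem_cons, List.not_mem_nil, or_false] at hD hK
  rcases hD with rfl | rfl | rfl | rfl | rfl | rfl | rfl
  · -- G2
    obtain ⟨x, hx0, hx1⟩ := hK (Or.inr rfl)
    apply commutator_eq_top_of_abGen
    have l0 : ∀ v : K, abGen chevG2 0 v = 1 := abGen_of_chkSingle chevG2 0 (1, 5) (by decide +kernel)
    have l1 : ∀ v : K, abGen chevG2 1 v = 1 := abGen_of_chkSingle chevG2 1 (0, 6) (by decide +kernel)
    have l5 : ∀ v : K, abGen chevG2 5 v = 1 := abGen_of_chkSingle chevG2 5 (0, 10) (by decide +kernel)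
    have l6 : ∀ v : K, abGen chevG2 6 v = 1 := abGen_of_chkSingle chevG2 6 (1, 11) (by decide +kernel)
    have l10 : ∀ v : K, abGen chevG2 10 v = 1 := abGen_of_chkSingle chevG2 10 (5, 11) (by decide +kernel)
    have l11 : ∀ v : K, abGen chevG2 11 v = 1 := abGen_of_chkSingle chevG2 11 (6, 10) (by decide +kernel)
    obtain ⟨s7, s3⟩ := abGen_pair chevG2 x hx0 hx1 7 3 2 10 (-1) 1 [(0, 1, 3, 1), (5, 1, 3, 2)]
      (by decide) (by decide) (by decide) (by decide) (Or.inr rfl) (Or.inl rfl) (by decide +kernel)
      (by
        intro e he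
        simp only [List.mem_cons, List.not_mem_nil, or_false] at he
        rcases he with rfl | rfl
        · exact l0
        · exact l5)
    obtain ⟨s8, s4⟩ := abGen_pair chevG2 x hx0 hx1 8 4 2 11 (-1) (-1) [(1, -1, 3, 1), (6, -1, 3, 2)]
      (by decide) (by decide) (by decide) (by decide) (Or.inr rfl) (Or.inr rfl) (by decide +kernel)
      (by
        intro e he
        simp only [List.mem_cons, List.not_mem_nil, or_false] at he
        rcases he with rfl | rfl
        · exact l1
        · exact l6)
    obtain ⟨_, s2⟩ := abGen_pair chevG2 x hx0 hx1 4 2 3 6 1 (-1) [(0, 1, 3, 1), (1, -1, 3, 2)]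
      (by decide) (by decide) (by decide) (by decide) (Or.inl rfl) (Or.inr rfl) (by decide +kernel)
      (by
        intro e he
        simp only [List.mem_cons, List.not_mem_nil, or_false] at he
        rcases he with rfl | rfl
        · exact l0
        · exact l1)
    obtain ⟨s9, _⟩ := abGen_pair chevG2 x hx0 hx1 9 7 3 11 1 1 [(5, -1, 3, 1), (10, 1, 3, 2)]
      (by decide) (by decide) (by decide) (by decide) (Or.inl rfl) (Or.inl rfl) (by decide +kernel)
      (by
        intro e he
        simp only [List.mem_cons, List.not_mem_nil, or_false] at he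
        rcases he with rfl | rfl
        · exact l5
        · exact l10)
    intro γ hγ v
    have hγ' : γ < 12 := hγ
    interval_cases γ
    · exact l0 v
    · exact l1 v
    · exact s2 v
    · exact s3 v
    · exact s4 v
    · exact l5 v
    · exact l6 v
    · exact s7 v
    · exact s8 v
    · exact s9 v
    · exact l10 v
    · exact l11 v
  · -- B2
    obtain ⟨x, hx0, hx1⟩ := hK (Or.inl rfl)
    apply commutator_eq_top_of_abGen
    obtain ⟨s2, s0⟩ := abGen_pair chevB2 x hx0 hx1 2 0 1 4 1 1 []
      (by decide) (by decide) (by decide) (by decide) (Or.inl rfl) (Or.inl rfl) (by decide +kernel)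
      (by simp)
    obtain ⟨s5, s3⟩ := abGen_pair chevB2 x hx0 hx1 5 3 1 7 (-1) 1 []
      (by decide) (by decide) (by decide) (by decide) (Or.inr rfl) (Or.inl rfl) (by decide +kernel)
      (by simp)
    obtain ⟨s6, s4⟩ := abGen_pair chevB2 x hx0 hx1 6 4 2 7 1 (-1) []
      (by decide) (by decide) (by decide) (by decide) (Or.inl rfl) (Or.inr rfl) (by decide +kernel)
      (by simp)
    obtain ⟨_, s7⟩ := abGen_pair chevB2 x hx0 hx1 6 7 5 4 (-1) (-1) []
      (by decide) (by decide) (by decide) (by decide) (Or.inr rfl) (Or.inr rfl) (by decide +kernel)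
      (by simp)
    obtain ⟨s1, _⟩ := abGen_pair chevB2 x hx0 hx1 1 0 2 3 1 (-1) []
      (by decide) (by decide) (by decide) (by decide) (Or.inl rfl) (Or.inr rfl) (by decide +kernel)
      (by simp)
    intro γ hγ v
    have hγ' : γ < 8 := hγ
    interval_cases γ
    · exact s0 v
    · exact s1 v
    · exact s2 v
    · exact s3 v
    · exact s4 v
    · exact s5 v
    · exact s6 v
    · exact s7 v
  · exact commutator_eq_top_of_cert chevD4 certD4 (by decide +kernel)
  · exact commutator_eq_top_of_cert chevF4 certF4 (by decide +kernel)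
  · exact commutator_eq_top_of_cert chevE6 certE6 (by decide +kernel)
  · exact commutator_eq_top_of_cert chevE7 certE7 (by decide +kernel)
  · exact commutator_eq_top_of_cert chevE8 certE8 (by decide +kernel)

end Cfsg.Agent.S2395
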