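import Cfsg.Statements.S2402
import Cfsg.Agent.Lib.helper45.SLGen
import Cfsg.Agent.Lib.helper45.SLDiag

set_option autoImplicit false
open Cfsg

namespace Cfsg.Agent.S2402

/-- Explicit two-element generation of `PSL_{n+1}(K)` for a finite field `K` with more than three elements: let `k` generate the multiplicative group of `K`, `h = diag(k, k⁻¹, 1, …, 1)`, `x = 1 + E₁₂` (the elementary transvection) and `w` the monomial matrix with entries `1` in positions `(i, i+1)` and `(−1)^n` in position `(n+1, 1)`. Then `h` and `x·w` generate `SL_{n+1}(K)` modulo its centre: the subgroup they generate together with the centre is everything. -/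
theorem result {K : Type*} [Field K] [Fintype K] (hK : 3 < Fintype.card K) (n : ℕ) (hn : 1 ≤ n)
    (k : Kˣ) (hk : ∀ u : Kˣ, u ∈ Subgroup.zpowers k)
    (h x w : Matrix.SpecialLinearGroup (Fin (n + 1)) K)
    (hh : (h : Matrix (Fin (n + 1)) (Fin (n + 1)) K) =
      Matrix.diagonal (fun i => if i.val = 0 then (k : K) else if i.val = 1 then ((k⁻¹ : Kˣ) : K) else 1))
    (hx : (x : Matrix (Fin (n + 1)) (Fin (n + 1)) K) = Matrix.transvection (0 : Fin (n + 1)) (1 : Fin (n + 1)) 1)
    (hw : (w : Matrix (Fin (n + 1)) (Fin (n + 1)) K) =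
      Matrix.of (fun i j => if j.val = i.val + 1 then 1 else if i.val = n ∧ j.val = 0 then (-1) ^ n else 0)) :
    Subgroup.closure ({h, x * w} : Set (Matrix.SpecialLinearGroup (Fin (n + 1)) K)) ⊔
      Subgroup.center (Matrix.SpecialLinearGroup (Fin (n + 1)) K) = ⊤ := by
  classical
  obtain ⟨m, rfl⟩ : ∃ m, n = m + 1 := ⟨n - 1, by omega⟩
  have h01 : (0 : Fin (m + 1 + 1)) ≠ 1 := by
    intro e
    exact absurd (Fin.one_eq_zero_iff.mp e.symm) (by omega)
  have hhH : h ∈ Subgroup.closure ({h, x * w} : Set (Matrix.SpecialLinearGroup (Fin (m + 1 + 1)) K)) :=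
    Subgroup.subset_closure (by simp)
  have hyH : x * w ∈ Subgroup.closure ({h, x * w} : Set (Matrix.SpecialLinearGroup (Fin (m + 1 + 1)) K)) :=
    Subgroup.subset_closure (by simp)
  generalize Subgroup.closure ({h, x * w} : Set (Matrix.SpecialLinearGroup (Fin (m + 1 + 1)) K)) = H
    at hhH hyH ⊢
  have hx' : x = Matrix.SpecialLinearGroup.transvection h01 1 := Subtype.ext hx
  have hw' : ∀ i j, (w : Matrix (Fin (m + 1 + 1)) (Fin (m + 1 + 1)) K) i j =
      if j = i + 1 then Cfsg.Agent.Lib.helper45.cycEps K (m + 1) i else 0 := by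
    intro i j
    rw [hw, Matrix.of_apply]
    exact Cfsg.Agent.Lib.helper45.cyc_apply i j
  -- facts about `k`
  have hord : orderOf k = Fintype.card K - 1 := by
    rw [orderOf_eq_card_of_forall_mem_zpowers hk, Nat.card_eq_fintype_card, Fintype.card_units]
  have hk0 : (k : K) ≠ 0 := k.ne_zero
  have hk2 : (k : K) ^ 2 ≠ 1 := by
    intro e
    have e' : k ^ 2 = 1 := by
      apply Units.ext
      rw [Units.val_pow_eq_pow_val, Units.val_one]
      exact e
    have := Nat.le_of_dvd (by norm_num) (orderOf_dvd_of_pow_eq_one e')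
    omega
  have hk1 : (k : K) ≠ 1 := by
    intro e
    exact hk2 (by rw [e, one_pow])
  have hkinv : ((k⁻¹ : Kˣ) : K) = (k : K)⁻¹ := Units.val_inv_eq_inv_val k
  -- the diagonal of `h`
  set d : Fin (m + 1 + 1) → K :=
    fun i => if i.val = 0 then (k : K) else if i.val = 1 then ((k⁻¹ : Kˣ) : K) else 1 with hd
  have d0 : d 0 = (k : K) := by simp [hd]
  have d1 : d 1 = (k : K)⁻¹ := by simp [hd, hkinv]
  have d2 : d (1 + 1) ≠ d 1 := by
    have hv : ((1 : Fin (m + 1 + 1)) + 1).val ≠ 1 := by
      intro e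
      have e2 : (1 : Fin (m + 1 + 1)) + 1 = 1 := Fin.ext (by rw [e]; simp)
      have : (1 : Fin (m + 1 + 1)) = 0 := by simpa using e2
      exact h01 this.symm
    rw [d1]
    simp only [hd, hv, if_false]
    split_ifs
    · intro e
      apply hk2
      rw [pow_two]
      nth_rewrite 2 [e]
      exact mul_inv_cancel₀ hk0
    · intro e
      apply hk1
      have := congrArg (fun z => z⁻¹) e
      simpa using this.symm
  have d2ne : d (1 + 1) ≠ 0 := by
    simp only [hd]
    split_ifs
    · exact hk0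
    · rw [hkinv]; exact inv_ne_zero hk0
    · exact one_ne_zero
  -- the conjugate `h' = w h w⁻¹`
  have hh'coe := Cfsg.Agent.Lib.helper45.cyc_conj_diagonal (Cfsg.Agent.Lib.helper45.cycEps K (m + 1)) w hw' h d hh
  generalize hh'def : w * h * w⁻¹ = h' at hh'coe
  have F1 : h' * h = h * h' := by
    apply Subtype.ext
    simp only [Matrix.SpecialLinearGroup.coe_mul, hh, hh'coe, Matrix.diagonal_mul_diagonal]
    congr 1
    ext a
    exact mul_comm _ _
  have F2 : ∀ c : K, h * Matrix.SpecialLinearGroup.transvection h01 c =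
      Matrix.SpecialLinearGroup.transvection h01 ((k : K) ^ 2 * c) * h := by
    intro c
    refine Cfsg.Agent.Lib.helper45.diag_mul_transvection h d hh h01 c _ ?_
    rw [d0, d1]
    field_simp
  have F3 : ∀ c : K, h' * Matrix.SpecialLinearGroup.transvection h01 c =
      Matrix.SpecialLinearGroup.transvection h01 (d 1 / d (1 + 1) * c) * h' := by
    intro c
    refine Cfsg.Agent.Lib.helper45.diag_mul_transvection h' _ hh'coe h01 c _ ?_
    simp only [zero_add]
    field_simp
  have hr1 : d 1 / d (1 + 1) ≠ 1 := by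
    intro e
    rw [div_eq_one_iff_eq d2ne] at e
    exact d2 e.symm
  -- the element `g₁ = x h' x⁻¹`
  have hg1H : x * h' * x⁻¹ ∈ H := by
    have e : x * h' * x⁻¹ = (x * w) * h * (x * w)⁻¹ := by
      rw [← hh'def]; group
    rw [e]
    exact H.mul_mem (H.mul_mem hyH hhH) (H.inv_mem hyH)
  have hg1 : x * h' * x⁻¹ = Matrix.SpecialLinearGroup.transvection h01 (1 - d 1 / d (1 + 1)) * h' := by
    rw [hx', Matrix.SpecialLinearGroup.transvection_inv, mul_assoc, F3, ← mul_assoc,
      ← Matrix.SpecialLinearGroup.transvection_add]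
    congr 2
    ring
  have hz : Matrix.SpecialLinearGroup.transvection h01 ((1 - d 1 / d (1 + 1)) * (1 - (k : K) ^ 2)) ∈ H := by
    have e : x * h' * x⁻¹ * h =
        Matrix.SpecialLinearGroup.transvection h01 ((1 - d 1 / d (1 + 1)) * (1 - (k : K) ^ 2)) *
          (h * (x * h' * x⁻¹)) := by
      rw [hg1, mul_assoc, F1, ← mul_assoc h, F2, mul_assoc _ h h', ← mul_assoc _ _ (h * h'),
        ← Matrix.SpecialLinearGroup.transvection_add]
      congr 2
      ring
    have e2 : Matrix.SpecialLinearGroup.transvection h01 ((1 - d 1 / d (1 + 1)) * (1 - (k : K) ^ 2)) =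
        x * h' * x⁻¹ * h * (h * (x * h' * x⁻¹))⁻¹ := by
      rw [e]; group
    rw [e2]
    exact H.mul_mem (H.mul_mem hg1H hhH) (H.inv_mem (H.mul_mem hhH hg1H))
  have ha0 : (1 - d 1 / d (1 + 1)) * (1 - (k : K) ^ 2) ≠ 0 :=
    mul_ne_zero (sub_ne_zero.mpr hr1.symm) (sub_ne_zero.mpr hk2.symm)
  have hscale : ∀ a : K, Matrix.SpecialLinearGroup.transvection h01 a ∈ H →
      Matrix.SpecialLinearGroup.transvection h01 ((k : K) ^ 2 * a) ∈ H := by
    intro a ha
    have e : Matrix.SpecialLinearGroup.transvection h01 ((k : K) ^ 2 * a) =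
        h * Matrix.SpecialLinearGroup.transvection h01 a * h⁻¹ := by
      rw [F2]; group
    rw [e]
    exact H.mul_mem (H.mul_mem hhH ha) (H.inv_mem hhH)
  have hall : ∀ t : K, Matrix.SpecialLinearGroup.transvection h01 t ∈ H :=
    Cfsg.Agent.Lib.helper45.forall_transvection_mem_of_scaling hK k hk H h01 hscale _ ha0 hz
  have hxH : x ∈ H := by
    rw [hx']
    exact hall 1
  have hwH : w ∈ H := by
    have e : w = x⁻¹ * (x * w) := by group
    rw [e]
    exact H.mul_mem (H.inv_mem hxH) hyH
  have key : H = ⊤ :=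
    Cfsg.Agent.Lib.helper45.eq_top_of_cyc hn H (Cfsg.Agent.Lib.helper45.cycEps K (m + 1))
      Cfsg.Agent.Lib.helper45.cycEps_mul_self w hwH hw' (fun _ t => hall t)
  rw [key, top_sup_eq]

end Cfsg.Agent.S2402
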