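import Cfsg.Statements.S2410
import Cfsg.Agent.Lib.helper8.SzGen

set_option autoImplicit false
open Cfsg

namespace Cfsg.Agent.S2410

/-- The Suzuki group over the field with `2^(2m+1)` elements, `m ≥ 1` (realised as the stabiliser in `SL₄` of the Suzuki–Tits ovoid), is generated by two of its elements. -/
theorem result {F : Type*} [Field F] [Fintype F] {m : ℕ} (hm : 1 ≤ m) (hF : Fintype.card F = 2 ^ (2 * m + 1)) :
    ∃ a b : ↥(Cfsg.Sz F m), Subgroup.closure ({a, b} : Set ↥(Cfsg.Sz F m)) = ⊤ := by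
  classical
  have h := Cfsg.Agent.Lib.helper8.szHyp_of_card hF
  have h2 := h.two
  obtain ⟨ζ, hζ⟩ := IsCyclic.exists_generator (α := Fˣ)
  have hζ1 : ζ ≠ 1 := by
    rintro rfl
    obtain ⟨z, hz⟩ := Cfsg.Agent.Lib.helper8.exists_unit_ne_one hm hF
    apply hz
    obtain ⟨k, hk⟩ := Subgroup.mem_zpowers_iff.1 (hζ z)
    rw [← hk, one_zpow]
  refine ⟨Cfsg.Agent.Lib.helper8.gD h ζ,
    Cfsg.Agent.Lib.helper8.gW h * Cfsg.Agent.Lib.helper8.gT h 1 0, ?_⟩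
  obtain ⟨L, hL⟩ : ∃ L : Subgroup ↥(Cfsg.Sz F m), L = Subgroup.closure
      ({Cfsg.Agent.Lib.helper8.gD h ζ,
        Cfsg.Agent.Lib.helper8.gW h * Cfsg.Agent.Lib.helper8.gT h 1 0} : Set ↥(Cfsg.Sz F m)) :=
    ⟨_, rfl⟩
  rw [← hL]
  have ha : Cfsg.Agent.Lib.helper8.gD h ζ ∈ L := by
    rw [hL]; exact Subgroup.subset_closure (by simp)
  have hb : Cfsg.Agent.Lib.helper8.gW h * Cfsg.Agent.Lib.helper8.gT h 1 0 ∈ L := by
    rw [hL]; exact Subgroup.subset_closure (by simp)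
  have hD : ∀ z : Fˣ, Cfsg.Agent.Lib.helper8.gD h z ∈ L := by
    intro z
    obtain ⟨k, hk⟩ := Subgroup.mem_zpowers_iff.1 (hζ z)
    rw [← hk, map_zpow]
    exact L.zpow_mem ha k
  have ht₀ : Cfsg.Agent.Lib.helper8.gT h (1 + Cfsg.Agent.Lib.helper8.th m ((ζ⁻¹ : Fˣ) : F))
      (0 + 1 * Cfsg.Agent.Lib.helper8.th m 1 + 0 +
        Cfsg.Agent.Lib.helper8.th m 1 * Cfsg.Agent.Lib.helper8.th m ((ζ⁻¹ : Fˣ) : F)) ∈ L := by
    have hmem : (Cfsg.Agent.Lib.helper8.gW h * Cfsg.Agent.Lib.helper8.gT h 1 0)⁻¹ *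
        Cfsg.Agent.Lib.helper8.gD h ζ *
        (Cfsg.Agent.Lib.helper8.gW h * Cfsg.Agent.Lib.helper8.gT h 1 0) *
        Cfsg.Agent.Lib.helper8.gD h ζ ∈ L :=
      L.mul_mem (L.mul_mem (L.mul_mem (L.inv_mem hb) ha) hb) ha
    have e : (Cfsg.Agent.Lib.helper8.gW h * Cfsg.Agent.Lib.helper8.gT h 1 0)⁻¹ *
        Cfsg.Agent.Lib.helper8.gD h ζ *
        (Cfsg.Agent.Lib.helper8.gW h * Cfsg.Agent.Lib.helper8.gT h 1 0) *
        Cfsg.Agent.Lib.helper8.gD h ζ =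
        Cfsg.Agent.Lib.helper8.gT h (1 + Cfsg.Agent.Lib.helper8.th m ((ζ⁻¹ : Fˣ) : F))
          (0 + 1 * Cfsg.Agent.Lib.helper8.th m 1 + 0 +
            Cfsg.Agent.Lib.helper8.th m 1 * Cfsg.Agent.Lib.helper8.th m ((ζ⁻¹ : Fˣ) : F)) := by
      apply Subtype.ext
      show (Cfsg.Agent.Lib.helper8.sW * Cfsg.Agent.Lib.helper8.sT m 1 0)⁻¹ *
        Cfsg.Agent.Lib.helper8.sD m ζ *
        (Cfsg.Agent.Lib.helper8.sW * Cfsg.Agent.Lib.helper8.sT m 1 0) *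
        Cfsg.Agent.Lib.helper8.sD m ζ = Cfsg.Agent.Lib.helper8.sT m _ _
      have e1 : (Cfsg.Agent.Lib.helper8.sW : Matrix.SpecialLinearGroup (Fin 4) F)⁻¹ *
          Cfsg.Agent.Lib.helper8.sD m ζ * Cfsg.Agent.Lib.helper8.sW =
          Cfsg.Agent.Lib.helper8.sD m ζ⁻¹ := by
        rw [Cfsg.Agent.Lib.helper8.sW_inv, Cfsg.Agent.Lib.helper8.sW_sD, mul_assoc,
          Cfsg.Agent.Lib.helper8.sW_sq, mul_one]
      have e2 : Cfsg.Agent.Lib.helper8.sD m ζ⁻¹ * Cfsg.Agent.Lib.helper8.sT m 1 0 *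
          Cfsg.Agent.Lib.helper8.sD m ζ =
          Cfsg.Agent.Lib.helper8.sT m (Cfsg.Agent.Lib.helper8.th m ((ζ⁻¹ : Fˣ) : F)) 0 := by
        have e3 := Cfsg.Agent.Lib.helper8.sD_conj_sT h ζ⁻¹ (1 : F) 0
        rw [mul_one, mul_zero] at e3
        rw [← e3]
        congr 1
        rw [eq_inv_iff_mul_eq_one, ← Cfsg.Agent.Lib.helper8.sD_mul, mul_inv_cancel,
          Cfsg.Agent.Lib.helper8.sD_one]
      calc (Cfsg.Agent.Lib.helper8.sW * Cfsg.Agent.Lib.helper8.sT m 1 0)⁻¹ *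
            Cfsg.Agent.Lib.helper8.sD m ζ *
            (Cfsg.Agent.Lib.helper8.sW * Cfsg.Agent.Lib.helper8.sT m 1 0) *
            Cfsg.Agent.Lib.helper8.sD m ζ
          = (Cfsg.Agent.Lib.helper8.sT m 1 0)⁻¹ *
            ((Cfsg.Agent.Lib.helper8.sW⁻¹ * Cfsg.Agent.Lib.helper8.sD m ζ *
              Cfsg.Agent.Lib.helper8.sW) * Cfsg.Agent.Lib.helper8.sT m 1 0 *
              Cfsg.Agent.Lib.helper8.sD m ζ) := by group
        _ = (Cfsg.Agent.Lib.helper8.sT m 1 0)⁻¹ *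
            Cfsg.Agent.Lib.helper8.sT m (Cfsg.Agent.Lib.helper8.th m ((ζ⁻¹ : Fˣ) : F)) 0 := by
              rw [e1, e2]
        _ = _ := by rw [Cfsg.Agent.Lib.helper8.sT_inv h, Cfsg.Agent.Lib.helper8.sT_mul h]
    rw [e] at hmem
    exact hmem
  have ha₀ : (1 : F) + Cfsg.Agent.Lib.helper8.th m ((ζ⁻¹ : Fˣ) : F) ≠ 0 := by
    intro e
    have e1 : (1 : F) = Cfsg.Agent.Lib.helper8.th m ((ζ⁻¹ : Fˣ) : F) :=
      (Cfsg.Agent.Lib.helper8.add_eq_zero_iff_of_two h2).1 e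
    have e2 : ((ζ⁻¹ : Fˣ) : F) = 1 := by
      apply Cfsg.Agent.Lib.helper8.th_inj h
      rw [Cfsg.Agent.Lib.helper8.th_one]; exact e1.symm
    apply hζ1
    have e3 : ζ⁻¹ = 1 := Units.ext (by rw [e2, Units.val_one])
    exact inv_eq_one.1 e3
  have hT : ∀ a b : F, Cfsg.Agent.Lib.helper8.gT h a b ∈ L :=
    Cfsg.Agent.Lib.helper8.T_le_of_D h L hD ha₀ ht₀
  rw [eq_top_iff]
  intro x _
  have key := Cfsg.Agent.Lib.helper8.gen_top hm hF (L.map (Cfsg.Sz F m).subtype)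
    (fun a b => (Cfsg.Agent.Lib.helper8.mem_map_subtype_iff (Cfsg.Agent.Lib.helper8.gT h a b)).2 (hT a b))
    (g₀ := Cfsg.Agent.Lib.helper8.sW * Cfsg.Agent.Lib.helper8.sT m 1 0)
    ((Cfsg.Agent.Lib.helper8.mem_map_subtype_iff
      (Cfsg.Agent.Lib.helper8.gW h * Cfsg.Agent.Lib.helper8.gT h 1 0)).2 hb)
    (Cfsg.Agent.Lib.helper8.gW h * Cfsg.Agent.Lib.helper8.gT h 1 0).2
    (by
      rw [mul_smul, Cfsg.Agent.Lib.helper8.sT_pinf, Cfsg.Agent.Lib.helper8.sW_pinf m]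
      exact Cfsg.Agent.Lib.helper8.paff_ne_pinf m 0 0)
  exact (Cfsg.Agent.Lib.helper8.mem_map_subtype_iff x).1 (key x.2)

end Cfsg.Agent.S2410
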