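import Mathlib
import Cfsg.Statements.S2412
import Cfsg.Agent.Lib.helper47.UGenG
import Cfsg.Agent.Lib.helper47.UGenI
import Cfsg.Agent.Lib.helper47.UGenJ

set_option autoImplicit false
open Cfsg

namespace Cfsg.Agent.S2412

open Cfsg.Agent.Lib.helper47.UGen Cfsg.Agent.Lib.helper47.UFus

/-- the antidiagonal-form special unitary group is generated by two elements -/
theorem ug_two_gen {K : Type*} [Field K] [Fintype K] {q : ℕ} (hqq : 2 ≤ q)
    (hK : Fintype.card K = q ^ 2) (σ : K →+* K) (hσ : ∀ x, σ x = x ^ q) (hF : FF σ) (n : ℕ)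
    (hn : 3 ≤ n) (h32 : n = 3 → q ≠ 2) :
    ∃ a b : ↥(UG n σ), Subgroup.closure ({a, b} : Set ↥(UG n σ)) = ⊤ := by
  rcases Nat.even_or_odd' n with ⟨m, rfl | rfl⟩
  · by_cases hm : 3 ≤ m
    · exact gen_even hK hσ hF m hm
    · have hm2 : m = 2 := by omega
      subst hm2
      by_cases hq3 : 3 ≤ q
      · exact gen_four hK hσ hF hq3
      · have hq2 : q = 2 := by omega
        subst hq2
        exact gen_four_two hK hσ hF
  · by_cases hm : 2 ≤ m
    · exact gen_odd hK hσ hF m hm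
    · have hm1 : m = 1 := by omega
      subst hm1
      have hq3 : 3 ≤ q := by
        have := h32 rfl
        omega
      exact gen_three hK hσ hF hq3

/-- The projective special unitary group `PSU_n(q)` with `n ≥ 3`, realised over the field with `q²` elements, `(n, q) ≠ (3, 2)`, is generated by two of its elements. -/
theorem result {F : Type*} [Field F] [Fintype F] {q : ℕ} (hq : IsPrimePow q) (hF : Fintype.card F = q ^ 2) (n : ℕ) (hn : 3 ≤ n) (h32 : n = 3 → q ≠ 2) :
    ∃ a b : Cfsg.PSU n F q, Subgroup.closure ({a, b} : Set (Cfsg.PSU n F q)) = ⊤ := by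
  obtain ⟨σ, hσ, hFF⟩ := FF_of_card hF
  have hq2 : 2 ≤ q := hq.two_le
  have hq0 : q ≠ 0 := by omega
  obtain ⟨P, Q, hP, hQ⟩ := exists_P (n := n) σ hFF
  obtain ⟨φ, hφ⟩ : ∃ φ, φ = bcHom σ P Q hσ hq0 hFF.inv hP hQ := ⟨_, rfl⟩
  have hφsurj : Function.Surjective φ := by
    rw [hφ]
    exact bcHom_surj σ P Q hσ hq0 hFF.inv hP hQ
  obtain ⟨π, hπdef⟩ : ∃ π : ↥(UG n σ) →* Cfsg.PSU n F q,
      π = (QuotientGroup.mk' (Subgroup.center ↥(SU n F q))).comp φ := ⟨_, rfl⟩
  have hπ : Function.Surjective π := by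
    rw [hπdef]
    exact (QuotientGroup.mk'_surjective _).comp hφsurj
  obtain ⟨a, b, hab⟩ := ug_two_gen hq2 hF σ hσ hFF n hn h32
  refine ⟨π a, π b, ?_⟩
  have h1 : Subgroup.map π (Subgroup.closure ({a, b} : Set ↥(UG n σ))) = ⊤ := by
    rw [hab]
    exact Subgroup.map_top_of_surjective π hπ
  rw [MonoidHom.map_closure, Set.image_pair] at h1
  exact h1

end Cfsg.Agent.S2412
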