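import Mathlib
import Cfsg.Statements.S2413
import Cfsg.Agent.S0295
import Cfsg.Agent.S0301
import Cfsg.Agent.S2411
import Cfsg.Agent.Lib.helper47.OGenE

set_option autoImplicit false
open Cfsg

namespace Cfsg.Agent.S2413

/-- The simple orthogonal group `PΩ_{2m+1}(q)` (commutator subgroup of the orthogonal group of `x₀² + Σ x_i y_i` modulo its centre) with `m ≥ 2` and `q` odd is generated by two of its elements. -/
theorem result {F : Type*} [Field F] [Fintype F] (hodd : Odd (Fintype.card F)) (m : ℕ) (hm : 2 ≤ m) :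
    ∃ a b : Cfsg.POmega F (Cfsg.quadFormOdd m F), Subgroup.closure ({a, b} : Set (Cfsg.POmega F (Cfsg.quadFormOdd m F))) = ⊤ := by
  have hF : (2 : F) ≠ 0 := by
    apply Ring.two_ne_zero
    intro hchar
    have := FiniteField.even_card_of_char_two hchar
    rcases hodd with ⟨t, ht⟩
    omega
  have hq : 3 ≤ Fintype.card F := by
    have h1 : 1 < Fintype.card F := Fintype.one_lt_card
    rcases hodd with ⟨t, ht⟩
    omega
  by_cases hm3 : 3 ≤ m
  · obtain ⟨n, rfl⟩ : ∃ n, m = n + 1 := ⟨m - 1, by omega⟩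
    have hQ := Cfsg.Agent.S0295.oddForm_nondegenerate hF (n + 1)
    exact Cfsg.Agent.Lib.helper47.OGen.pomega_two_gen _
      (Cfsg.Agent.Lib.helper47.OGen.omega_odd_two_gen hF hq n (by omega) hQ)
  · have hm2 : m = 2 := by omega
    subst hm2
    obtain ⟨φ⟩ := Cfsg.Agent.S0301.result hodd
    obtain ⟨a, b, hab⟩ := Cfsg.Agent.S2411.result (F := F) 2 le_rfl (fun _ => by omega)
    refine ⟨φ.symm a, φ.symm b, ?_⟩
    have h1 := congrArg (Subgroup.map φ.symm.toMonoidHom) hab
    rw [MonoidHom.map_closure, Set.image_pair,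
      Subgroup.map_top_of_surjective _ φ.symm.surjective] at h1
    exact h1

end Cfsg.Agent.S2413
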