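import Cfsg.Statements.S2416
import Cfsg.Agent.Lib.helper45.ChevShortCert

set_option autoImplicit false
open scoped MatrixGroups
open Cfsg Cfsg.Agent.Lib.helper45

namespace Cfsg.Agent.S2416

/-- A Chevalley group of type G₂, B₂, D₄, F₄, E₆, E₇ or E₈ over a finite field lies in (indeed equals) the subgroup generated by its monomial subgroup `N` and a single fundamental root subgroup `X_p`, where `p` is a short fundamental root if there are two root lengths (any fundamental root otherwise), provided the characteristic is not 2 for types B₂, F₄ and not 3 for type G₂ (and the field has more than two elements for B₂, G₂). -/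
theorem result {K : Type*} [Field K] [Finite K] (D : Cfsg.Lie.ChevalleyDatum) (hD : D ∈ [Cfsg.Lie.chevG2, Cfsg.Lie.chevB2, Cfsg.Lie.chevD4, Cfsg.Lie.chevF4, Cfsg.Lie.chevE6, Cfsg.Lie.chevE7, Cfsg.Lie.chevE8])
    (hK : D ∈ [Cfsg.Lie.chevB2, Cfsg.Lie.chevG2] → ∃ x : K, x ≠ 0 ∧ x ≠ 1)
    (h2 : D ∈ [Cfsg.Lie.chevB2, Cfsg.Lie.chevF4] → ringChar K ≠ 2) (h3 : D = Cfsg.Lie.chevG2 → ringChar K ≠ 3)
    (i : ℕ) (hi : i < D.rank) (hshort : D.isLong (D.simple i) = false) :
    D.group K ≤ D.monomialSubgroup K ⊔ D.rootSubgroup K (D.simple i) := by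
  simp only [List.mem_cons, List.not_mem_nil, or_false] at hD
  rcases hD with rfl | rfl | rfl | rfl | rfl | rfl | rfl
  · have h3' := h3 rfl
    refine short_gen_G2 ?_ i hi hshort
    intro h
    have h' : ((3 : ℕ) : K) = 0 := by exact_mod_cast h
    have hdvd := (ringChar.spec K 3).mp h'
    rcases (Nat.dvd_prime Nat.prime_three).mp hdvd with h1 | h1
    · exact CharP.ringChar_ne_one h1
    · exact h3' h1
  · have h2' := h2 (by simp)
    refine short_gen_B2 ?_ i hi hshort
    have := Ring.two_ne_zero h2'
    exact_mod_cast this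
  · exact short_gen_D4 i hi hshort
  · have h2' := h2 (by simp)
    refine short_gen_F4 ?_ i hi hshort
    have := Ring.two_ne_zero h2'
    exact_mod_cast this
  · exact short_gen_E6 i hi hshort
  · exact short_gen_E7 i hi hshort
  · exact short_gen_E8 i hi hshort

end Cfsg.Agent.S2416
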