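import Cfsg.Statements.S2417
import Cfsg.Agent.Lib.helper45.ChevOrbit
import Cfsg.Agent.Lib.helper41.ChevReflB2
import Cfsg.Agent.Lib.helper41.ChevReflF4
import Cfsg.Agent.Lib.helper41.ChevReflG2
import Cfsg.Agent.Lib.helper23.ChevCertsB2
import Cfsg.Agent.Lib.helper23.ChevCertsF4
import Cfsg.Agent.Lib.helper23.ChevCertsG2

set_option autoImplicit false
open scoped MatrixGroups
open Cfsg Cfsg.Agent.Lib.helper45

namespace Cfsg.Agent.S2417

/-- In the characteristics with an exceptional graph symmetry — type B₂ or F₄ in characteristic 2 (field of more than two elements for B₂) and type G₂ in characteristic 3 — the Chevalley group lies in the subgroup generated by its monomial subgroup `N` and the two fundamental root subgroups `X_a`, `X_b` of a short root `a` and a long root `b` joined in the Dynkin diagram. -/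
theorem result {K : Type*} [Field K] [Finite K] (e : Cfsg.Lie.ChevalleyDatum × ℕ)
    (he : e ∈ [(Cfsg.Lie.chevB2, 2), (Cfsg.Lie.chevF4, 2), (Cfsg.Lie.chevG2, 3)]) [CharP K e.2]
    (hK : e.1 = Cfsg.Lie.chevB2 → ∃ x : K, x ≠ 0 ∧ x ≠ 1)
    (i j : ℕ) (hi : i < e.1.rank) (hj : j < e.1.rank) (hshort : e.1.isLong (e.1.simple i) = false)
    (hlong : e.1.isLong (e.1.simple j) = true) (hbond : e.1.bonds i j ≠ 0) :
    e.1.group K ≤ e.1.monomialSubgroup K ⊔ e.1.rootSubgroup K (e.1.simple i) ⊔ e.1.rootSubgroup K (e.1.simple j) := by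
  have hsimp : ∀ (D : Cfsg.Lie.ChevalleyDatum) (k : ℕ), k < D.rank → D.rank = D.simpleIdx.size →
      (∀ m < D.simpleIdx.size, D.simpleIdx[m]! < D.nroots) → D.simple k < D.nroots := by
    intro D k hk h1 h2
    exact h2 k (h1 ▸ hk)
  simp only [List.mem_cons, List.not_mem_nil, or_false] at he
  rcases he with rfl | rfl | rfl
  · -- B2
    have hi' : i < 2 := hi
    have hj' : j < 2 := hj
    have hij : i = 0 ∧ j = 1 := by
      revert hshort hlong hbond
      interval_cases i <;> interval_cases j <;> decide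
    obtain ⟨rfl, rfl⟩ := hij
    refine group_le_of_walks Cfsg.Lie.chevB2 0 1
      (fun k s hk hs => Cfsg.Agent.Lib.helper41.TabB2.refl k s hk hs) ?_
      [(1,[0,1]),(0,[1,0]),(0,[0]),(1,[1]),(1,[]),(0,[]),(0,[1]),(1,[0])] (by decide +kernel)
    intro k hk
    have hk' : k < 2 := hk
    have hs : Cfsg.Lie.chevB2.simple k < Cfsg.Lie.chevB2.nroots := by
      interval_cases k <;> decide
    exact exists_nMat_unit Cfsg.Lie.chevB2 k hs (Cfsg.Agent.Lib.helper23.stringDataB2 ⟨_, hs⟩)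
  · -- F4
    have hi' : i < 4 := hi
    have hj' : j < 4 := hj
    have hij : i = 1 ∧ j = 2 := by
      revert hshort hlong hbond
      interval_cases i <;> interval_cases j <;> decide
    obtain ⟨rfl, rfl⟩ := hij
    refine group_le_of_walks Cfsg.Lie.chevF4 1 2
      (fun k s hk hs => Cfsg.Agent.Lib.helper41.TabF4.refl k s hk hs) ?_
      [(2, [3, 2, 1, 2, 3, 0, 1, 2]), (2, [2, 1, 2, 3, 0, 1, 2]), (2, [1, 2, 3, 0, 1, 2]), (1, [0, 1, 2, 3, 1, 2, 0, 1]), (2, [2, 3, 0, 1, 2]), (2, [3, 0, 1, 2]), (2, [0, 1, 2]), (1, [1, 2, 3, 1, 2, 0, 1]), (1, [2, 3, 1, 2, 0, 1]), (1, [3, 1, 2, 0, 1]), (1, [1, 2, 0, 1]), (1, [3, 2, 0, 1]), (1, [2, 0, 1]), (1, [0, 1]), (1, [0, 1, 0]), (2, [2, 3, 1, 2]), (2, [3, 1, 2]), (2, [1, 2]), (1, [3, 2, 1]), (1, [2, 1]), (1, [1]), (2, [3, 2]), (2, [2]), (2, [2, 3, 2]), (2, [2, 3]), (2, []), (2, [3]), (1, []), (1, [2]), (1, [3, 2]), (2, [1]), (2, [3, 1]), (2, [2, 3, 1]), (1, [1, 0]), (1, [0]), (1, [2, 0]),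 (1, [3, 2, 0]), (1, [1, 2, 0]), (1, [3, 1, 2, 0]), (1, [2, 3, 1, 2, 0]), (1, [1, 2, 3, 1, 2, 0]), (2, [0, 1]), (2, [3, 0, 1]), (2, [2, 3, 0, 1]), (1, [0, 1, 2, 3, 1, 2, 0]), (2, [1, 2, 3, 0, 1]), (2, [2, 1, 2, 3, 0, 1]), (2, [3, 2, 1, 2, 3, 0, 1])]
      (by decide +kernel)
    intro k hk
    have hk' : k < 4 := hk
    have hs : Cfsg.Lie.chevF4.simple k < Cfsg.Lie.chevF4.nroots := by
      interval_cases k <;> decide
    exact exists_nMat_unit Cfsg.Lie.chevF4 k hs (Cfsg.Agent.Lib.helper23.stringDataF4 ⟨_, hs⟩)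
  · -- G2
    have hi' : i < 2 := hi
    have hj' : j < 2 := hj
    have hij : i = 0 ∧ j = 1 := by
      revert hshort hlong hbond
      interval_cases i <;> interval_cases j <;> decide
    obtain ⟨rfl, rfl⟩ := hij
    refine group_le_of_walks Cfsg.Lie.chevG2 0 1
      (fun k s hk hs => Cfsg.Agent.Lib.helper41.TabG2.refl k s hk hs) ?_
      [(1, [1, 0, 1]), (1, [0, 1]), (0, [0, 1, 0]), (0, [1, 0]), (0, [0]), (1, [1]), (1, []), (0, []), (0, [1]), (0, [0, 1]), (1, [0]), (1, [1, 0])]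
      (by decide +kernel)
    intro k hk
    have hk' : k < 2 := hk
    have hs : Cfsg.Lie.chevG2.simple k < Cfsg.Lie.chevG2.nroots := by
      interval_cases k <;> decide
    exact exists_nMat_unit Cfsg.Lie.chevG2 k hs (Cfsg.Agent.Lib.helper23.stringDataG2 ⟨_, hs⟩)

end Cfsg.Agent.S2417
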