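import Cfsg.Statements.S2419
import Cfsg.Agent.Lib.helper45.CoxGen

set_option autoImplicit false
open Cfsg

namespace Cfsg.Agent.S2419

open Cfsg.Agent.Lib.helper45

theorem gen_rank2 (M : CoxeterMatrix (Fin 2)) : ∃ T : Finset M.Group, T.card = 1 ∧
    (∀ t ∈ T, ∃ (g : M.Group) (i : Fin 2), t = g * M.simple i * g⁻¹) ∧
    Subgroup.closure (({((List.finRange 2).map M.simple).prod} : Set M.Group) ∪ ↑T) = ⊤ := by
  let cs := M.toCoxeterSystem
  refine ⟨{M.simple 0}, Finset.card_singleton _, ?_, ?_⟩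
  · intro t ht
    rw [Finset.mem_singleton] at ht
    exact ⟨1, 0, by rw [ht]; simp⟩
  · have key : ∀ H : Subgroup M.Group, cs.wordProd [0, 1] ∈ H → cs.simple 0 ∈ H →
        ∀ i, cs.simple i ∈ H := by
      intro H hc h0
      have h1 : cs.simple 1 ∈ H := by
        have e : cs.simple 1 = (cs.simple 0)⁻¹ * cs.wordProd [0, 1] := by
          simp [CoxeterSystem.wordProd_cons]
        rw [e]
        exact H.mul_mem (H.inv_mem h0) hc
      intro i
      fin_cases i
      · exact h0
      · exact h1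
    rw [eq_top_iff, ← cs.subgroup_closure_range_simple, Subgroup.closure_le]
    rintro _ ⟨i, rfl⟩
    exact key _ (Subgroup.subset_closure (Or.inl rfl))
      (Subgroup.subset_closure (Or.inr (Finset.mem_coe.mpr (Finset.mem_singleton.mpr rfl)))) i

theorem gen_E6 : ∃ T : Finset CoxeterMatrix.E₆.Group, T.card = 1 ∧
    (∀ t ∈ T, ∃ (g : CoxeterMatrix.E₆.Group) (i : Fin 6), t = g * CoxeterMatrix.E₆.simple i * g⁻¹) ∧
    Subgroup.closure (({((List.finRange 6).map CoxeterMatrix.E₆.simple).prod} : Set CoxeterMatrix.E₆.Group) ∪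
      ↑T) = ⊤ := by
  let cs := CoxeterMatrix.E₆.toCoxeterSystem
  refine ⟨{CoxeterMatrix.E₆.simple 5}, Finset.card_singleton _, ?_, ?_⟩
  · intro t ht
    rw [Finset.mem_singleton] at ht
    exact ⟨1, 5, by rw [ht]; simp⟩
  · have key : ∀ H : Subgroup CoxeterMatrix.E₆.Group, cs.wordProd [0, 1, 2, 3, 4, 5] ∈ H →
        cs.simple 5 ∈ H → ∀ i, cs.simple i ∈ H := by
      intro H hc h5
      have h4 := cox_shift_list cs H [0, 1, 2, 3] [] 4 5 (by decide) (by decide) (by decide) hc h5
      have h3 := cox_shift_list cs H [0, 1, 2] [5] 3 4 (by decide) (by decide) (by decide) hc h4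
      obtain ⟨h0, h1, h2⟩ := cox_E_head_list cs H 0 1 2 3 4 [5] (by decide) (by decide) (by decide)
        (by decide) (by decide) hc h3 h4 (by
          intro i hi
          simp only [List.mem_cons, List.not_mem_nil, or_false] at hi
          rcases hi with rfl
          exact h5)
      intro i
      fin_cases i
      · exact h0
      · exact h1
      · exact h2
      · exact h3
      · exact h4
      · exact h5
    rw [eq_top_iff, ← cs.subgroup_closure_range_simple, Subgroup.closure_le]
    rintro _ ⟨i, rfl⟩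
    exact key _ (Subgroup.subset_closure (Or.inl rfl))
      (Subgroup.subset_closure (Or.inr (Finset.mem_coe.mpr (Finset.mem_singleton.mpr rfl)))) i

theorem gen_E7 : ∃ T : Finset CoxeterMatrix.E₇.Group, T.card = 1 ∧
    (∀ t ∈ T, ∃ (g : CoxeterMatrix.E₇.Group) (i : Fin 7), t = g * CoxeterMatrix.E₇.simple i * g⁻¹) ∧
    Subgroup.closure (({((List.finRange 7).map CoxeterMatrix.E₇.simple).prod} : Set CoxeterMatrix.E₇.Group) ∪
      ↑T) = ⊤ := by
  let cs := CoxeterMatrix.E₇.toCoxeterSystem
  refine ⟨{CoxeterMatrix.E₇.simple 6}, Finset.card_singleton _, ?_, ?_⟩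
  · intro t ht
    rw [Finset.mem_singleton] at ht
    exact ⟨1, 6, by rw [ht]; simp⟩
  · have key : ∀ H : Subgroup CoxeterMatrix.E₇.Group, cs.wordProd [0, 1, 2, 3, 4, 5, 6] ∈ H →
        cs.simple 6 ∈ H → ∀ i, cs.simple i ∈ H := by
      intro H hc h6
      have h5 := cox_shift_list cs H [0, 1, 2, 3, 4] [] 5 6 (by decide) (by decide) (by decide) hc h6
      have h4 := cox_shift_list cs H [0, 1, 2, 3] [6] 4 5 (by decide) (by decide) (by decide) hc h5
      have h3 := cox_shift_list cs H [0, 1, 2] [5, 6] 3 4 (by decide) (by decide) (by decide) hc h4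
      obtain ⟨h0, h1, h2⟩ := cox_E_head_list cs H 0 1 2 3 4 [5, 6] (by decide) (by decide) (by decide)
        (by decide) (by decide) hc h3 h4 (by
          intro i hi
          simp only [List.mem_cons, List.not_mem_nil, or_false] at hi
          rcases hi with rfl | rfl
          · exact h5
          · exact h6)
      intro i
      fin_cases i
      · exact h0
      · exact h1
      · exact h2
      · exact h3
      · exact h4
      · exact h5
      · exact h6
    rw [eq_top_iff, ← cs.subgroup_closure_range_simple, Subgroup.closure_le]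
    rintro _ ⟨i, rfl⟩
    exact key _ (Subgroup.subset_closure (Or.inl rfl))
      (Subgroup.subset_closure (Or.inr (Finset.mem_coe.mpr (Finset.mem_singleton.mpr rfl)))) i

theorem gen_E8 : ∃ T : Finset CoxeterMatrix.E₈.Group, T.card = 1 ∧
    (∀ t ∈ T, ∃ (g : CoxeterMatrix.E₈.Group) (i : Fin 8), t = g * CoxeterMatrix.E₈.simple i * g⁻¹) ∧
    Subgroup.closure (({((List.finRange 8).map CoxeterMatrix.E₈.simple).prod} : Set CoxeterMatrix.E₈.Group) ∪
      ↑T) = ⊤ := by
  let cs := CoxeterMatrix.E₈.toCoxeterSystem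
  refine ⟨{CoxeterMatrix.E₈.simple 7}, Finset.card_singleton _, ?_, ?_⟩
  · intro t ht
    rw [Finset.mem_singleton] at ht
    exact ⟨1, 7, by rw [ht]; simp⟩
  · have key : ∀ H : Subgroup CoxeterMatrix.E₈.Group, cs.wordProd [0, 1, 2, 3, 4, 5, 6, 7] ∈ H →
        cs.simple 7 ∈ H → ∀ i, cs.simple i ∈ H := by
      intro H hc h7
      have h6 := cox_shift_list cs H [0, 1, 2, 3, 4, 5] [] 6 7 (by decide) (by decide) (by decide) hc h7
      have h5 := cox_shift_list cs H [0, 1, 2, 3, 4] [7] 5 6 (by decide) (by decide) (by decide) hc h6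
      have h4 := cox_shift_list cs H [0, 1, 2, 3] [6, 7] 4 5 (by decide) (by decide) (by decide) hc h5
      have h3 := cox_shift_list cs H [0, 1, 2] [5, 6, 7] 3 4 (by decide) (by decide) (by decide) hc h4
      obtain ⟨h0, h1, h2⟩ := cox_E_head_list cs H 0 1 2 3 4 [5, 6, 7] (by decide) (by decide) (by decide)
        (by decide) (by decide) hc h3 h4 (by
          intro i hi
          simp only [List.mem_cons, List.not_mem_nil, or_false] at hi
          rcases hi with rfl | rfl | rfl
          · exact h5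
          · exact h6
          · exact h7)
      intro i
      fin_cases i
      · exact h0
      · exact h1
      · exact h2
      · exact h3
      · exact h4
      · exact h5
      · exact h6
      · exact h7
    rw [eq_top_iff, ← cs.subgroup_closure_range_simple, Subgroup.closure_le]
    rintro _ ⟨i, rfl⟩
    exact key _ (Subgroup.subset_closure (Or.inl rfl))
      (Subgroup.subset_closure (Or.inr (Finset.mem_coe.mpr (Finset.mem_singleton.mpr rfl)))) i

theorem gen_D4 : ∃ T : Finset Cfsg.Lie.coxeterD4.Group, T.card = 2 ∧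
    (∀ t ∈ T, ∃ (g : Cfsg.Lie.coxeterD4.Group) (i : Fin 4), t = g * Cfsg.Lie.coxeterD4.simple i * g⁻¹) ∧
    Subgroup.closure (({((List.finRange 4).map Cfsg.Lie.coxeterD4.simple).prod} :
      Set Cfsg.Lie.coxeterD4.Group) ∪ ↑T) = ⊤ := by
  let cs := Cfsg.Lie.coxeterD4.toCoxeterSystem
  have hne : cs.simple 0 ≠ cs.simple 2 := by
    intro h
    let f : Fin 4 → Equiv.Perm (Fin 4) := ![Equiv.swap 0 1, Equiv.swap 1 2, Equiv.swap 2 3, Equiv.swap 2 3]
    have hf : Cfsg.Lie.coxeterD4.IsLiftable f := by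
      intro i j
      revert i j
      decide
    have h1 := congrArg (cs.lift ⟨f, hf⟩) h
    rw [cs.lift_apply_simple, cs.lift_apply_simple] at h1
    revert h1
    decide
  refine ⟨Finset.cons (cs.simple 0) {cs.simple 2} (by simpa using hne), by simp, ?_, ?_⟩
  · intro t ht
    rw [Finset.mem_cons, Finset.mem_singleton] at ht
    rcases ht with rfl | rfl
    · exact ⟨1, 0, by simp; rfl⟩
    · exact ⟨1, 2, by simp; rfl⟩
  · have key : ∀ H : Subgroup Cfsg.Lie.coxeterD4.Group, cs.wordProd [0, 1, 2, 3] ∈ H →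
        cs.simple 0 ∈ H → cs.simple 2 ∈ H → ∀ i, cs.simple i ∈ H := by
      intro H hc h0 h2
      have h1 := cox_shift_list' cs H [] [2, 3] 0 1 (by decide) (by decide) (by decide) hc h0
      have h3 : cs.simple 3 ∈ H := by
        have e : cs.simple 3 = (cs.simple 2)⁻¹ * ((cs.simple 1)⁻¹ * ((cs.simple 0)⁻¹ * cs.wordProd [0, 1, 2, 3])) := by
          simp [CoxeterSystem.wordProd_cons]
        rw [e]
        exact H.mul_mem (H.inv_mem h2) (H.mul_mem (H.inv_mem h1) (H.mul_mem (H.inv_mem h0) hc))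
      intro i
      fin_cases i
      · exact h0
      · exact h1
      · exact h2
      · exact h3
    rw [eq_top_iff, ← cs.subgroup_closure_range_simple, Subgroup.closure_le]
    rintro _ ⟨i, rfl⟩
    exact key _ (Subgroup.subset_closure (Or.inl rfl)) (Subgroup.subset_closure (Or.inr (by simp)))
      (Subgroup.subset_closure (Or.inr (by simp))) i

theorem gen_F4 : ∃ T : Finset CoxeterMatrix.F₄.Group, T.card = 2 ∧
    (∀ t ∈ T, ∃ (g : CoxeterMatrix.F₄.Group) (i : Fin 4), t = g * CoxeterMatrix.F₄.simple i * g⁻¹) ∧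
    Subgroup.closure (({((List.finRange 4).map CoxeterMatrix.F₄.simple).prod} :
      Set CoxeterMatrix.F₄.Group) ∪ ↑T) = ⊤ := by
  let cs := CoxeterMatrix.F₄.toCoxeterSystem
  have hne : cs.simple 0 ≠ cs.simple 3 := by
    intro h
    let f : Fin 4 → Equiv.Perm (Fin 2) := ![1, 1, Equiv.swap 0 1, Equiv.swap 0 1]
    have hf : CoxeterMatrix.F₄.IsLiftable f := by
      intro i j
      revert i j
      decide
    have h1 := congrArg (cs.lift ⟨f, hf⟩) h
    rw [cs.lift_apply_simple, cs.lift_apply_simple] at h1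
    revert h1
    decide
  refine ⟨Finset.cons (cs.simple 0) {cs.simple 3} (by simpa using hne), by simp, ?_, ?_⟩
  · intro t ht
    rw [Finset.mem_cons, Finset.mem_singleton] at ht
    rcases ht with rfl | rfl
    · exact ⟨1, 0, by simp; rfl⟩
    · exact ⟨1, 3, by simp; rfl⟩
  · have key : ∀ H : Subgroup CoxeterMatrix.F₄.Group, cs.wordProd [0, 1, 2, 3] ∈ H →
        cs.simple 0 ∈ H → cs.simple 3 ∈ H → ∀ i, cs.simple i ∈ H := by
      intro H hc h0 h3
      have h1 := cox_shift_list' cs H [] [2, 3] 0 1 (by decide) (by decide) (by decide) hc h0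
      have h2 : cs.simple 2 ∈ H := by
        have e : cs.simple 2 = (cs.simple 1)⁻¹ * ((cs.simple 0)⁻¹ * cs.wordProd [0, 1, 2, 3]) * (cs.simple 3)⁻¹ := by
          simp [CoxeterSystem.wordProd_cons]
        rw [e]
        exact H.mul_mem (H.mul_mem (H.inv_mem h1) (H.mul_mem (H.inv_mem h0) hc)) (H.inv_mem h3)
      intro i
      fin_cases i
      · exact h0
      · exact h1
      · exact h2
      · exact h3
    rw [eq_top_iff, ← cs.subgroup_closure_range_simple, Subgroup.closure_le]
    rintro _ ⟨i, rfl⟩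
    exact key _ (Subgroup.subset_closure (Or.inl rfl)) (Subgroup.subset_closure (Or.inr (by simp)))
      (Subgroup.subset_closure (Or.inr (by simp))) i

/-- The Coxeter groups of types B₂, G₂, E₆, E₇, E₈ are generated by the Coxeter element `s₁ s₂ ⋯ s_l` together with one suitable reflection (a conjugate of a simple reflection); for types D₄ and F₄ the Coxeter element together with two suitable reflections suffices. -/
theorem result (c : (Σ n : ℕ, CoxeterMatrix (Fin n)) × ℕ)
    (hc : c ∈ [(⟨2, CoxeterMatrix.B 2⟩, 1), (⟨2, CoxeterMatrix.G₂⟩, 1), (⟨4, Cfsg.Lie.coxeterD4⟩, 2), (⟨4, CoxeterMatrix.F₄⟩, 2),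
      (⟨6, CoxeterMatrix.E₆⟩, 1), (⟨7, CoxeterMatrix.E₇⟩, 1), (⟨8, CoxeterMatrix.E₈⟩, 1)]) :
    ∃ T : Finset c.1.2.Group, T.card = c.2 ∧ (∀ t ∈ T, ∃ (g : c.1.2.Group) (i : Fin c.1.1), t = g * c.1.2.simple i * g⁻¹) ∧
      Subgroup.closure (({((List.finRange c.1.1).map c.1.2.simple).prod} : Set c.1.2.Group) ∪ ↑T) = ⊤ := by
  simp only [List.mem_cons, List.not_mem_nil, or_false] at hc
  rcases hc with rfl | rfl | rfl | rfl | rfl | rfl | rfl
  · exact gen_rank2 _
  · exact gen_rank2 _
  · exact gen_D4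
  · exact gen_F4
  · exact gen_E6
  · exact gen_E7
  · exact gen_E8

end Cfsg.Agent.S2419
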