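import Mathlib
import Cfsg.Statements.S2427

set_option autoImplicit false
open Cfsg

namespace Cfsg.Agent.S2427

open Matrix

/-- The group `SL₂(𝔽₃)`. -/
abbrev G : Type := Matrix.SpecialLinearGroup (Fin 2) (ZMod 3)

/-! ### Facts checked by enumeration -/

theorem card_G : Fintype.card G = 24 := by decide +kernel

theorem mul_mem_Q : ∀ g h : G, g ^ 4 = 1 → h ^ 4 = 1 → (g * h) ^ 4 = 1 := by decide +kernel

theorem conj_mem_Q : ∀ g h : G, h ^ 4 = 1 → (g * h * g⁻¹) ^ 4 = 1 := by decide +kernel

theorem comm_mem_Q : ∀ a b : G, (a * b * a⁻¹ * b⁻¹) ^ 4 = 1 := by decide +kernel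

theorem Q_comm : ∀ h : G, h ^ 4 = 1 → ∃ a b : G, h = a * b * a⁻¹ * b⁻¹ := by decide +kernel

theorem card_Q_filter : (Finset.univ.filter (fun g : G => g ^ 4 = 1)).card = 8 := by decide +kernel

theorem center_iff : ∀ g : G, (∀ h : G, h * g = g * h) ↔ g ^ 2 = 1 := by decide +kernel

theorem card_center_filter : (Finset.univ.filter (fun g : G => g ^ 2 = 1)).card = 2 := by
  decide +kernel

theorem sq_unique : ∀ x z : G, x ^ 2 = 1 → z ^ 2 = 1 → x ≠ 1 → z = 1 ∨ z = x := by decide +kernel

theorem gen_Q : ∀ x : G, x ^ 4 = 1 → x ^ 2 ≠ 1 → ∀ h : G, h ^ 4 = 1 →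
    ∃ a b : G, h = a * x * a⁻¹ ∨ h = (a * x * a⁻¹) * (b * x * b⁻¹) := by decide +kernel

theorem gen_top : ∀ x : G, x ^ 4 ≠ 1 → ∀ h : G, h ^ 4 = 1 →
    ∃ a b : G, h = (a * x * a⁻¹ * x⁻¹) * (b * x * b⁻¹ * x⁻¹) := by decide +kernel

/-! ### The quaternion subgroup -/

/-- The subgroup of elements of order dividing 4. -/
def Q : Subgroup G where
  carrier := {g | g ^ 4 = 1}
  mul_mem' := fun {a b} ha hb => mul_mem_Q a b ha hb
  one_mem' := one_pow 4
  inv_mem' := fun {a} ha => by
    show (a⁻¹) ^ 4 = 1
    rw [inv_pow, ha, inv_one]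

theorem mem_Q (g : G) : g ∈ Q ↔ g ^ 4 = 1 := Iff.rfl

instance Q_normal : Q.Normal := ⟨fun h hh g => conj_mem_Q g h hh⟩

theorem commutator_eq_Q : commutator G = Q := by
  apply le_antisymm
  · rw [commutator_eq_closure, Subgroup.closure_le]
    rintro g ⟨a, b, rfl⟩
    rw [commutatorElement_def]
    exact comm_mem_Q a b
  · intro h hh
    obtain ⟨a, b, rfl⟩ := Q_comm h hh
    rw [commutator_eq_closure]
    exact Subgroup.subset_closure ⟨a, b, (commutatorElement_def a b)⟩

theorem card_Q : Nat.card Q = 8 := by
  have : ∀ g : G, g ∈ Q ↔ g ∈ (Finset.univ.filter (fun g : G => g ^ 4 = 1)) := by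
    intro g
    rw [mem_Q]
    simp
  rw [Nat.card_congr (Equiv.subtypeEquivRight this), Nat.card_eq_fintype_card, Fintype.card_coe]
  exact card_Q_filter

theorem center_eq : ∀ g : G, g ∈ Subgroup.center G ↔ g ^ 2 = 1 := by
  intro g
  rw [Subgroup.mem_center_iff]
  exact center_iff g

theorem card_center : Nat.card (Subgroup.center G) = 2 := by
  have : ∀ g : G, g ∈ Subgroup.center G ↔ g ∈ (Finset.univ.filter (fun g : G => g ^ 2 = 1)) := by
    intro g
    rw [center_eq]
    simp
  rw [Nat.card_congr (Equiv.subtypeEquivRight this), Nat.card_eq_fintype_card, Fintype.card_coe]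
  exact card_center_filter

/-! ### The isomorphism with the quaternion group -/

/-- An element of order 4. -/
def A : G := ⟨!![0, -1; 1, 0], by decide +kernel⟩

/-- A second element of order 4. -/
def X : G := ⟨!![1, 1; 1, -1], by decide +kernel⟩

/-- The map from the quaternion group of order 8. -/
def toSL : QuaternionGroup 2 → G
  | .a i => A ^ i.val
  | .xa i => X * A ^ i.val

theorem toSL_mul : ∀ x y : QuaternionGroup 2, toSL (x * y) = toSL x * toSL y := by decide +kernel

theorem toSL_inj : ∀ x y : QuaternionGroup 2, toSL x = toSL y → x = y := by decide +kernel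

theorem toSL_mem : ∀ x : QuaternionGroup 2, toSL x ^ 4 = 1 := by decide +kernel

theorem toSL_surj : ∀ h : G, h ^ 4 = 1 → ∃ x : QuaternionGroup 2, toSL x = h := by decide +kernel

/-- `toSL` as a monoid homomorphism. -/
def toSLHom : QuaternionGroup 2 →* G :=
  MonoidHom.mk' toSL toSL_mul

theorem range_toSLHom : toSLHom.range = commutator G := by
  rw [commutator_eq_Q]
  ext h
  constructor
  · rintro ⟨x, rfl⟩
    exact toSL_mem x
  · intro hh
    obtain ⟨x, hx⟩ := toSL_surj h hh
    exact ⟨x, hx⟩

/-! ### Normal subgroups -/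

theorem normal_cases (N : Subgroup G) (hN : N.Normal) :
    N = ⊥ ∨ N = ⊤ ∨ N = Subgroup.center G ∨ N = commutator G := by
  by_cases hA : ∃ x ∈ N, x ^ 4 ≠ 1
  · -- `N` contains an element outside `Q`, so it is everything
    obtain ⟨x, hxN, hx⟩ := hA
    right; left
    have hQN : Q ≤ N := by
      intro h hh
      obtain ⟨a, b, rfl⟩ := gen_top x hx h hh
      have h1 : a * x * a⁻¹ * x⁻¹ ∈ N := N.mul_mem (hN.conj_mem x hxN a) (N.inv_mem hxN)
      have h2 : b * x * b⁻¹ * x⁻¹ ∈ N := N.mul_mem (hN.conj_mem x hxN b) (N.inv_mem hxN)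
      exact N.mul_mem h1 h2
    have hdvd : Nat.card Q ∣ Nat.card N := Subgroup.card_dvd_of_le hQN
    have hdvd2 : Nat.card N ∣ Nat.card G := Subgroup.card_subgroup_dvd_card N
    rw [card_Q] at hdvd
    rw [Nat.card_eq_fintype_card (α := G), card_G] at hdvd2
    have hne : Nat.card N ≠ 8 := by
      intro h8
      have : Q = N := Subgroup.eq_of_le_of_card_ge hQN (by rw [card_Q, h8])
      rw [← this] at hxN
      exact hx hxN
    have h24 : Nat.card N = 24 := by
      obtain ⟨k, hk⟩ := hdvd
      obtain ⟨l, hl⟩ := hdvd2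
      have hk3 : k ≤ 3 := by
        by_contra hcon
        have : 24 < Nat.card N := by omega
        have hl0 : l ≠ 0 := by rintro rfl; simp at hl
        have : Nat.card N ≤ 24 := by
          rw [hl]; exact Nat.le_mul_of_pos_right _ (Nat.pos_of_ne_zero hl0)
        omega
      interval_cases k
      · simp at hk
        have := Nat.card_pos (α := N)
        omega
      · omega
      · exfalso
        rw [hk] at hl
        omega
      · omega
    rw [← Subgroup.card_eq_iff_eq_top, h24, Nat.card_eq_fintype_card (α := G), card_G]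
  · push Not at hA
    by_cases hB : ∃ x ∈ N, x ^ 2 ≠ 1
    · obtain ⟨x, hxN, hx⟩ := hB
      right; right; right
      rw [commutator_eq_Q]
      apply le_antisymm
      · intro y hy
        exact hA y hy
      · intro h hh
        obtain ⟨a, b, hab | hab⟩ := gen_Q x (hA x hxN) hx h hh
        · rw [hab]
          exact hN.conj_mem x hxN a
        · rw [hab]
          exact N.mul_mem (hN.conj_mem x hxN a) (hN.conj_mem x hxN b)
    · push Not at hB
      by_cases hC : ∃ x ∈ N, x ≠ 1
      · obtain ⟨x, hxN, hx⟩ := hC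
        right; right; left
        apply le_antisymm
        · intro y hy
          rw [center_eq]
          exact hB y hy
        · intro z hz
          rw [center_eq] at hz
          rcases sq_unique x z (hB x hxN) hz hx with rfl | rfl
          · exact N.one_mem
          · exact hxN
      · push Not at hC
        left
        rw [Subgroup.eq_bot_iff_forall]
        exact hC

/-- The group SL₂ over the field with 3 elements has order 24 and centre of order 2; its commutator subgroup has order 8, is isomorphic to the quaternion group of order 8 and is complemented by every Sylow 3-subgroup (so the group is a semidirect product of a quaternion group of order 8 by a cyclic group of order 3); and its only normal subgroups besides the trivial subgroup and the whole group are the centre and the commutator subgroup. -/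
theorem result :
    Nat.card (Matrix.SpecialLinearGroup (Fin 2) (ZMod 3)) = 24 ∧
    Nat.card (Subgroup.center (Matrix.SpecialLinearGroup (Fin 2) (ZMod 3))) = 2 ∧
    Nat.card (commutator (Matrix.SpecialLinearGroup (Fin 2) (ZMod 3))) = 8 ∧
    Nonempty (commutator (Matrix.SpecialLinearGroup (Fin 2) (ZMod 3)) ≃* QuaternionGroup 2) ∧
    (∀ P : Sylow 3 (Matrix.SpecialLinearGroup (Fin 2) (ZMod 3)),
      Subgroup.IsComplement' (commutator (Matrix.SpecialLinearGroup (Fin 2) (ZMod 3)))
        (P : Subgroup (Matrix.SpecialLinearGroup (Fin 2) (ZMod 3)))) ∧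
    ∀ N : Subgroup (Matrix.SpecialLinearGroup (Fin 2) (ZMod 3)), N.Normal →
      N = ⊥ ∨ N = ⊤ ∨ N = Subgroup.center (Matrix.SpecialLinearGroup (Fin 2) (ZMod 3)) ∨
        N = commutator (Matrix.SpecialLinearGroup (Fin 2) (ZMod 3)) := by
  have hcardG : Nat.card G = 24 := by rw [Nat.card_eq_fintype_card, card_G]
  have hcardC : Nat.card (commutator G) = 8 := by rw [commutator_eq_Q, card_Q]
  refine ⟨hcardG, card_center, hcardC, ?_, ?_, normal_cases⟩
  · have e1 : QuaternionGroup 2 ≃* toSLHom.range :=
      MonoidHom.ofInjective (f := toSLHom) (fun x y h => toSL_inj x y h)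
    exact ⟨(MulEquiv.subgroupCongr range_toSLHom.symm).trans e1.symm⟩
  · intro P
    have : Fact (Nat.Prime 3) := ⟨Nat.prime_three⟩
    have hP : Nat.card P = 3 := by
      have h1 := P.card_eq_multiplicity
      rw [hcardG] at h1
      have h2 : (24 : ℕ).factorization 3 = 1 := by
        rw [show (24 : ℕ) = 3 ^ 1 * 8 from rfl, Nat.factorization_mul (by norm_num) (by norm_num),
          Nat.Prime.factorization_pow Nat.prime_three]
        simp [Nat.factorization_eq_zero_of_not_dvd (show ¬ 3 ∣ 8 by norm_num)]
      rw [h2] at h1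
      simpa using h1
    apply Subgroup.isComplement'_of_coprime
    · rw [hcardC, hP, hcardG]
    · rw [hcardC, hP]
      decide

end Cfsg.Agent.S2427
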