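import Mathlib
import Cfsg.Statements.S2428
import Cfsg.Agent.Lib.helper46.SL2Tori

set_option autoImplicit false
open Cfsg

namespace Cfsg.Agent.S2428

open Cfsg.Agent.Lib.helper46

/-- Let F be a finite field with q elements, q odd, and let d be a diagonal element of SL₂ over F whose diagonal entry a has a² ≠ 1 (such d exist exactly when q > 3). Then the centraliser of d is precisely the diagonal subgroup T; the normaliser of T has order 2(q − 1) and exactly (q + 5)/2 conjugacy classes; and every element of that normaliser outside T has square equal to −1. -/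
theorem result {F : Type*} [Field F] [Fintype F] (hodd : Odd (Fintype.card F))
    (d : Matrix.SpecialLinearGroup (Fin 2) F) (hd01 : (d : Matrix (Fin 2) (Fin 2) F) 0 1 = 0) (hd10 : (d : Matrix (Fin 2) (Fin 2) F) 1 0 = 0) (hda : (d : Matrix (Fin 2) (Fin 2) F) 0 0 ^ 2 ≠ 1) :
    (∀ g : Matrix.SpecialLinearGroup (Fin 2) F, g ∈ Subgroup.centralizer ({d} : Set (Matrix.SpecialLinearGroup (Fin 2) F)) ↔ ((g : Matrix (Fin 2) (Fin 2) F) 0 1 = 0 ∧ (g : Matrix (Fin 2) (Fin 2) F) 1 0 = 0)) ∧
    Nat.card (Subgroup.normalizer ((Subgroup.centralizer ({d} : Set (Matrix.SpecialLinearGroup (Fin 2) F))) : Set (Matrix.SpecialLinearGroup (Fin 2) F))) = 2 * (Fintype.card F - 1) ∧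
    Nat.card (ConjClasses (Subgroup.normalizer ((Subgroup.centralizer ({d} : Set (Matrix.SpecialLinearGroup (Fin 2) F))) : Set (Matrix.SpecialLinearGroup (Fin 2) F)))) = (Fintype.card F + 5) / 2 ∧
    ∀ g : Matrix.SpecialLinearGroup (Fin 2) F, g ∈ Subgroup.normalizer ((Subgroup.centralizer ({d} : Set (Matrix.SpecialLinearGroup (Fin 2) F))) : Set (Matrix.SpecialLinearGroup (Fin 2) F)) →
      g ∉ Subgroup.centralizer ({d} : Set (Matrix.SpecialLinearGroup (Fin 2) F)) → ((g * g) : Matrix (Fin 2) (Fin 2) F) = -1 := by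
  classical
  obtain ⟨k, hk⟩ := hodd
  have hq2 : 1 < Fintype.card F := Fintype.one_lt_card
  -- `q ≥ 5`, since otherwise `q = 3` and every nonzero `a` has `a² = 1`
  have h5 : 5 ≤ Fintype.card F := by
    by_contra hlt
    have h3 : Fintype.card F = 3 := by omega
    have hd0 : (d : Matrix (Fin 2) (Fin 2) F) 0 0 ≠ 0 := by
      intro h0
      have hdet := d.det_coe
      rw [Matrix.det_fin_two, hd01, hd10, h0] at hdet
      simp at hdet
    have := FiniteField.pow_card_sub_one_eq_one _ hd0
    rw [h3] at this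
    exact hda this
  obtain ⟨t, w, hord, hdiag, hC, hconj, hinv, hw, htn⟩ := split_torus_data (F := F) ⟨k, hk⟩ h5
  have hcent : Subgroup.centralizer ({d} : Set (Matrix.SpecialLinearGroup (Fin 2) F))
      = Subgroup.zpowers t := by
    ext g
    rw [mem_centralizer_diag d hd01 hd10 hda, hdiag]
  have hn : (Fintype.card F - 1) / 2 = k := by omega
  have hn2 : 2 ≤ (Fintype.card F - 1) / 2 := by omega
  have hnz : NeZero ((Fintype.card F - 1) / 2) := ⟨by omega⟩
  obtain ⟨h1, h2, h3⟩ :=
    torus_normalizer_structure ((Fintype.card F - 1) / 2) hn2 t w hord hC hconj hinv hw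
  refine ⟨mem_centralizer_diag d hd01 hd10 hda, ?_, ?_, ?_⟩
  · rw [hcent, h1]
    omega
  · rw [hcent, h2]
    omega
  · intro g hg hgT
    rw [hcent] at hg hgT
    rw [← Matrix.SpecialLinearGroup.coe_mul, h3 g hg hgT]
    exact htn

end Cfsg.Agent.S2428
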