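import Mathlib
import Cfsg.Statements.S2429
import Cfsg.Agent.Lib.helper46.SL2NonSplit

set_option autoImplicit false
open Cfsg

namespace Cfsg.Agent.S2429

open Cfsg.Agent.Lib.helper46

/-- Let F be a finite field with q elements, q odd. Then SL₂ over F contains a cyclic subgroup T′ of order q + 1 (a non-split torus) with the following properties: T′ is its own centraliser, and indeed the centraliser of each element of T′ other than 1 and −1 is exactly T′; every element of SL₂ having no eigenvector in F² is conjugate to an element of T′; the normaliser of T′ has order 2(q + 1) and exactly (q + 7)/2 conjugacy classes; and every element of that normaliser outside T′ has square −1. -/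
theorem result {F : Type*} [Field F] [Fintype F] (hodd : Odd (Fintype.card F)) :
    ∃ T' : Subgroup (Matrix.SpecialLinearGroup (Fin 2) F), IsCyclic T' ∧ Nat.card T' = Fintype.card F + 1 ∧
      Subgroup.centralizer ((T' : Set (Matrix.SpecialLinearGroup (Fin 2) F))) = T' ∧
      (∀ g : Matrix.SpecialLinearGroup (Fin 2) F, g ∈ T' → (g : Matrix (Fin 2) (Fin 2) F) ≠ 1 → (g : Matrix (Fin 2) (Fin 2) F) ≠ -1 → Subgroup.centralizer ({g} : Set (Matrix.SpecialLinearGroup (Fin 2) F)) = T') ∧
      (∀ g : Matrix.SpecialLinearGroup (Fin 2) F, (∀ (c : F) (v : Fin 2 → F), v ≠ 0 → (g : Matrix (Fin 2) (Fin 2) F).mulVec v ≠ c • v) → ∃ h : Matrix.SpecialLinearGroup (Fin 2) F, h * g * h⁻¹ ∈ T') ∧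
      Nat.card (Subgroup.normalizer (T' : Set (Matrix.SpecialLinearGroup (Fin 2) F))) = 2 * (Fintype.card F + 1) ∧
      Nat.card (ConjClasses (Subgroup.normalizer (T' : Set (Matrix.SpecialLinearGroup (Fin 2) F)))) = (Fintype.card F + 7) / 2 ∧
      ∀ g : Matrix.SpecialLinearGroup (Fin 2) F, g ∈ Subgroup.normalizer (T' : Set (Matrix.SpecialLinearGroup (Fin 2) F)) → g ∉ T' → ((g * g) : Matrix (Fin 2) (Fin 2) F) = -1 := by
  classical
  obtain ⟨t, w, hord, hC, hconj, hinv, hw, htn, hN8, hN9⟩ := nonsplit_torus_data (F := F) hodd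
  obtain ⟨k, hk⟩ := hodd
  have hq2 : 1 < Fintype.card F := Fintype.one_lt_card
  have hn2 : 2 ≤ (Fintype.card F + 1) / 2 := by omega
  have hnz : NeZero ((Fintype.card F + 1) / 2) := ⟨by omega⟩
  obtain ⟨h1, h2, h3⟩ :=
    torus_normalizer_structure ((Fintype.card F + 1) / 2) hn2 t w hord hC hconj hinv hw
  have hcomm : ∀ x y : Matrix.SpecialLinearGroup (Fin 2) F, x ∈ Subgroup.zpowers t →
      y ∈ Subgroup.zpowers t → x * y = y * x := by
    intro x y hx hy
    obtain ⟨i, rfl⟩ := Subgroup.mem_zpowers_iff.mp hx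
    obtain ⟨j, rfl⟩ := Subgroup.mem_zpowers_iff.mp hy
    rw [← zpow_add, ← zpow_add, add_comm]
  refine ⟨Subgroup.zpowers t, inferInstance, ?_, ?_, ?_, hN9, ?_, ?_, ?_⟩
  · rw [Nat.card_zpowers, hord]
    omega
  · ext g
    rw [Subgroup.mem_centralizer_iff]
    constructor
    · intro hg
      exact hC g (hg t (Subgroup.mem_zpowers t)).symm
    · intro hg h hh
      exact hcomm h g hh hg
  · intro g hg hg1 hg2
    ext h
    rw [Subgroup.mem_centralizer_iff]
    constructor
    · intro hh
      exact hN8 g hg hg1 hg2 h (hh g (Set.mem_singleton g)).symm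
    · intro hh x hx
      rw [Set.mem_singleton_iff] at hx
      subst hx
      exact hcomm x h hg hh
  · rw [h1]
    omega
  · rw [h2]
    omega
  · intro g hg hgT
    rw [← Matrix.SpecialLinearGroup.coe_mul, h3 g hg hgT]
    exact htn

end Cfsg.Agent.S2429
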