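import Mathlib
import Cfsg.Statements.S2430
import Cfsg.Agent.Lib.helper46.SL2Sylow

set_option autoImplicit false
open Cfsg

namespace Cfsg.Agent.S2430

open Cfsg.Agent.Lib.helper46

/-- Let F be a finite field with q elements, q odd, ℓ an odd prime, and P a Sylow ℓ-subgroup of SL₂ over F. If ℓ divides q − 1, the centraliser of P is cyclic of order q − 1 (a split torus) and the normaliser of P has order 2(q − 1); if ℓ divides q + 1, the centraliser of P is cyclic of order q + 1 (a non-split torus) and the normaliser of P has order 2(q + 1). -/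
theorem result {F : Type*} [Field F] [Fintype F] (hodd : Odd (Fintype.card F)) (ℓ : ℕ) [Fact ℓ.Prime] (hℓ : ℓ ≠ 2)
    (P : Sylow ℓ (Matrix.SpecialLinearGroup (Fin 2) F)) :
    (ℓ ∣ Fintype.card F - 1 →
      Nat.card (Subgroup.centralizer ((P : Subgroup (Matrix.SpecialLinearGroup (Fin 2) F)) : Set (Matrix.SpecialLinearGroup (Fin 2) F))) = Fintype.card F - 1 ∧
      IsCyclic (Subgroup.centralizer ((P : Subgroup (Matrix.SpecialLinearGroup (Fin 2) F)) : Set (Matrix.SpecialLinearGroup (Fin 2) F))) ∧
      Nat.card (Subgroup.normalizer ((P : Subgroup (Matrix.SpecialLinearGroup (Fin 2) F)) : Set (Matrix.SpecialLinearGroup (Fin 2) F))) = 2 * (Fintype.card F - 1)) ∧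
    (ℓ ∣ Fintype.card F + 1 →
      Nat.card (Subgroup.centralizer ((P : Subgroup (Matrix.SpecialLinearGroup (Fin 2) F)) : Set (Matrix.SpecialLinearGroup (Fin 2) F))) = Fintype.card F + 1 ∧
      IsCyclic (Subgroup.centralizer ((P : Subgroup (Matrix.SpecialLinearGroup (Fin 2) F)) : Set (Matrix.SpecialLinearGroup (Fin 2) F))) ∧
      Nat.card (Subgroup.normalizer ((P : Subgroup (Matrix.SpecialLinearGroup (Fin 2) F)) : Set (Matrix.SpecialLinearGroup (Fin 2) F))) = 2 * (Fintype.card F + 1)) := by
  classical
  have hq2 : 1 < Fintype.card F := Fintype.one_lt_card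
  have hℓp : ℓ.Prime := Fact.out
  have hℓ3 : 3 ≤ ℓ := by
    have := hℓp.two_le
    omega
  have hcard := card_SL2_factored (F := F)
  have hℓ1 : ¬ ℓ ∣ 1 := by
    intro h
    have := Nat.le_of_dvd (by norm_num) h
    omega
  have hℓ2 : ¬ ℓ ∣ 2 := by
    intro h
    have := Nat.le_of_dvd (by norm_num) h
    omega
  constructor
  · intro hdvd
    obtain ⟨k, hk⟩ := hodd
    have h5 : 5 ≤ Fintype.card F := by
      have := Nat.le_of_dvd (by omega) hdvd
      omega
    obtain ⟨t, w, hord, hdiag, hC, hconj, hinv, hw, htn⟩ :=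
      split_torus_data (F := F) ⟨k, hk⟩ h5
    have hn : 2 * ((Fintype.card F - 1) / 2) = Fintype.card F - 1 := by omega
    have hn2 : 2 ≤ (Fintype.card F - 1) / 2 := by omega
    have hnz : NeZero ((Fintype.card F - 1) / 2) := ⟨by omega⟩
    obtain ⟨h1, -, -⟩ :=
      torus_normalizer_structure ((Fintype.card F - 1) / 2) hn2 t w hord hC hconj hinv hw
    rw [hn] at hord
    have hidx : ¬ ℓ ∣ Nat.card (Matrix.SpecialLinearGroup (Fin 2) F) / orderOf t := by
      rw [hcard, hord]
      have e : Fintype.card F * ((Fintype.card F - 1) * (Fintype.card F + 1))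
          / (Fintype.card F - 1) = Fintype.card F * (Fintype.card F + 1) := by
        apply Nat.div_eq_of_eq_mul_left (by omega)
        ring
      rw [e]
      intro hd
      rcases (Nat.Prime.dvd_mul hℓp).mp hd with h | h
      · have h3 := Nat.dvd_sub h hdvd
        have e2 : Fintype.card F - (Fintype.card F - 1) = 1 := by omega
        rw [e2] at h3
        exact hℓ1 h3
      · have h3 := Nat.dvd_sub h hdvd
        have e2 : Fintype.card F + 1 - (Fintype.card F - 1) = 2 := by omega
        rw [e2] at h3
        exact hℓ2 h3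
    have hcent : ∀ x ∈ Subgroup.zpowers t, x * x ≠ 1 →
        ∀ h : Matrix.SpecialLinearGroup (Fin 2) F, h * x = x * h → h ∈ Subgroup.zpowers t := by
      intro x hx hxx h hh
      obtain ⟨hx01, hx10⟩ := (hdiag x).mp hx
      have hxa : (x : Matrix (Fin 2) (Fin 2) F) 0 0 ^ 2 ≠ 1 := by
        intro ha
        apply hxx
        have hdet := x.det_coe
        rw [Matrix.det_fin_two, hx01, hx10, mul_zero, sub_zero] at hdet
        apply Subtype.ext
        rw [Matrix.SpecialLinearGroup.coe_mul, Matrix.SpecialLinearGroup.coe_one]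
        ext i j
        fin_cases i <;> fin_cases j <;>
          simp [Matrix.mul_apply, Fin.sum_univ_two, hx01, hx10]
        · linear_combination ha
        · linear_combination (-((x : Matrix (Fin 2) (Fin 2) F) 1 1) ^ 2) * ha
            + ((x : Matrix (Fin 2) (Fin 2) F) 0 0 * (x : Matrix (Fin 2) (Fin 2) F) 1 1 + 1) * hdet
      rw [hdiag]
      apply (mem_centralizer_diag x hx01 hx10 hxa h).mp
      rw [Subgroup.mem_centralizer_iff]
      intro y hy
      rw [Set.mem_singleton_iff] at hy
      subst hy
      exact hh.symm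
    obtain ⟨r1, r2, r3⟩ := sylow_cyclic_torus ℓ hℓ t (by rw [hord]; exact hdvd) hidx hcent P
    refine ⟨by rw [r1, hord], r2, ?_⟩
    rw [r3, h1]
    omega
  · intro hdvd
    obtain ⟨t, w, hord, hC, hconj, hinv, hw, htn, hN8, hN9⟩ := nonsplit_torus_data (F := F) hodd
    obtain ⟨k, hk⟩ := hodd
    have hn : 2 * ((Fintype.card F + 1) / 2) = Fintype.card F + 1 := by omega
    have hn2 : 2 ≤ (Fintype.card F + 1) / 2 := by omega
    have hnz : NeZero ((Fintype.card F + 1) / 2) := ⟨by omega⟩
    obtain ⟨h1, -, -⟩ :=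
      torus_normalizer_structure ((Fintype.card F + 1) / 2) hn2 t w hord hC hconj hinv hw
    rw [hn] at hord
    have hidx : ¬ ℓ ∣ Nat.card (Matrix.SpecialLinearGroup (Fin 2) F) / orderOf t := by
      rw [hcard, hord]
      have e : Fintype.card F * ((Fintype.card F - 1) * (Fintype.card F + 1))
          / (Fintype.card F + 1) = Fintype.card F * (Fintype.card F - 1) := by
        apply Nat.div_eq_of_eq_mul_left (by omega)
        ring
      rw [e]
      intro hd
      rcases (Nat.Prime.dvd_mul hℓp).mp hd with h | h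
      · have h3 := Nat.dvd_sub hdvd h
        have e2 : Fintype.card F + 1 - Fintype.card F = 1 := by omega
        rw [e2] at h3
        exact hℓ1 h3
      · have h3 := Nat.dvd_sub hdvd h
        have e2 : Fintype.card F + 1 - (Fintype.card F - 1) = 2 := by omega
        rw [e2] at h3
        exact hℓ2 h3
    have hcent : ∀ x ∈ Subgroup.zpowers t, x * x ≠ 1 →
        ∀ h : Matrix.SpecialLinearGroup (Fin 2) F, h * x = x * h → h ∈ Subgroup.zpowers t := by
      intro x hx hxx h hh
      refine hN8 x hx ?_ ?_ h hh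
      · intro h1
        apply hxx
        apply Subtype.ext
        rw [Matrix.SpecialLinearGroup.coe_mul, h1, Matrix.SpecialLinearGroup.coe_one, mul_one]
      · intro h1
        apply hxx
        apply Subtype.ext
        rw [Matrix.SpecialLinearGroup.coe_mul, h1, Matrix.SpecialLinearGroup.coe_one, neg_mul_neg,
          mul_one]
    obtain ⟨r1, r2, r3⟩ := sylow_cyclic_torus ℓ hℓ t (by rw [hord]; exact hdvd) hidx hcent P
    refine ⟨by rw [r1, hord], r2, ?_⟩
    rw [r3, h1]
    omega

end Cfsg.Agent.S2430
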