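import Mathlib
import Cfsg.Statements.S2431
import Cfsg.Agent.Lib.helper46.Sylow2Torus

set_option autoImplicit false
open Cfsg

namespace Cfsg.Agent.S2431

open Cfsg.Agent.Lib.helper46

/-- The relation `w u = - u w` for `u` in the torus with `u² = -1`. -/
theorem anticomm {F : Type*} [Field F] (t w u : Matrix.SpecialLinearGroup (Fin 2) F)
    (hw : w * t * w⁻¹ = t⁻¹) (hu : u ∈ Subgroup.zpowers t)
    (huu : (u : Matrix (Fin 2) (Fin 2) F) * (u : Matrix (Fin 2) (Fin 2) F) = -1) :
    (w : Matrix (Fin 2) (Fin 2) F) * (u : Matrix (Fin 2) (Fin 2) F)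
      = -((u : Matrix (Fin 2) (Fin 2) F) * (w : Matrix (Fin 2) (Fin 2) F)) := by
  have h1 := conj_eq_inv_of_mem_zpowers t w hw u hu
  have h2 : w * u = u⁻¹ * w := by rw [← h1]; group
  have h3 : ((u⁻¹ : Matrix.SpecialLinearGroup (Fin 2) F) : Matrix (Fin 2) (Fin 2) F)
      = -(u : Matrix (Fin 2) (Fin 2) F) := by
    have e1 : ((u⁻¹ : Matrix.SpecialLinearGroup (Fin 2) F) : Matrix (Fin 2) (Fin 2) F)
        * (u : Matrix (Fin 2) (Fin 2) F) = 1 := by
      rw [← Matrix.SpecialLinearGroup.coe_mul, inv_mul_cancel, Matrix.SpecialLinearGroup.coe_one]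
    calc ((u⁻¹ : Matrix.SpecialLinearGroup (Fin 2) F) : Matrix (Fin 2) (Fin 2) F)
        = ((u⁻¹ : Matrix.SpecialLinearGroup (Fin 2) F) : Matrix (Fin 2) (Fin 2) F)
          * (-((u : Matrix (Fin 2) (Fin 2) F) * (u : Matrix (Fin 2) (Fin 2) F))) := by
          rw [huu, neg_neg, mul_one]
      _ = -((((u⁻¹ : Matrix.SpecialLinearGroup (Fin 2) F) : Matrix (Fin 2) (Fin 2) F)
          * (u : Matrix (Fin 2) (Fin 2) F)) * (u : Matrix (Fin 2) (Fin 2) F)) := by
          rw [mul_neg, mul_assoc]
      _ = -(u : Matrix (Fin 2) (Fin 2) F) := by rw [e1, one_mul]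
  rw [← Matrix.SpecialLinearGroup.coe_mul, h2, Matrix.SpecialLinearGroup.coe_mul, h3, neg_mul]

/-- Let F be a finite field with q elements, q odd, and S a Sylow 2-subgroup of SL₂ over F. The centraliser of S is the centre of SL₂ (of order 2); S is its own normaliser when q ≡ ±1 mod 8, and has index 3 in its normaliser when q ≡ ±3 mod 8. -/
theorem result {F : Type*} [Field F] [Fintype F] (hodd : Odd (Fintype.card F)) (S : Sylow 2 (Matrix.SpecialLinearGroup (Fin 2) F)) :
    Subgroup.centralizer ((S : Subgroup (Matrix.SpecialLinearGroup (Fin 2) F)) : Set (Matrix.SpecialLinearGroup (Fin 2) F)) = Subgroup.center (Matrix.SpecialLinearGroup (Fin 2) F) ∧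
    ((Fintype.card F % 8 = 1 ∨ Fintype.card F % 8 = 7) →
      Subgroup.normalizer ((S : Subgroup (Matrix.SpecialLinearGroup (Fin 2) F)) : Set (Matrix.SpecialLinearGroup (Fin 2) F)) = (S : Subgroup (Matrix.SpecialLinearGroup (Fin 2) F))) ∧
    ((Fintype.card F % 8 = 3 ∨ Fintype.card F % 8 = 5) →
      Nat.card (Subgroup.normalizer ((S : Subgroup (Matrix.SpecialLinearGroup (Fin 2) F)) : Set (Matrix.SpecialLinearGroup (Fin 2) F))) = 3 * Nat.card S) := by
  classical
  have hq2 : 1 < Fintype.card F := Fintype.one_lt_card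
  have h2 : (2 : F) ≠ 0 := two_ne_zero_of_odd_card hodd
  obtain ⟨k, hk⟩ := hodd
  have hcard := card_SL2_factored (F := F)
  have e1 : Fintype.card F - 1 = 2 * k := by omega
  have e2 : Fintype.card F + 1 = 2 * (k + 1) := by omega
  have hqodd : ¬ 2 ∣ Fintype.card F := by omega
  rcases Nat.even_or_odd k with hke | hko
  · -- `q ≡ 1 mod 4`: the split torus
    obtain ⟨r, hr⟩ := hke
    have h5 : 5 ≤ Fintype.card F := by omega
    obtain ⟨t, w, hord, hdiag, hC, hconj, hinv, hw, htn⟩ :=
      split_torus_data (F := F) ⟨k, hk⟩ h5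
    have hn : (Fintype.card F - 1) / 2 = k := by omega
    rw [hn] at hord hinv htn
    have hk2 : 2 ≤ k := by omega
    have hnz : NeZero k := ⟨by omega⟩
    have hcent : ∀ x ∈ Subgroup.zpowers t, x * x ≠ 1 →
        ∀ h : Matrix.SpecialLinearGroup (Fin 2) F, h * x = x * h → h ∈ Subgroup.zpowers t := by
      intro x hx hxx h hh
      obtain ⟨hx01, hx10⟩ := (hdiag x).mp hx
      have hxa : (x : Matrix (Fin 2) (Fin 2) F) 0 0 ^ 2 ≠ 1 := by
        intro ha
        apply hxx
        have hdet := x.det_coe
        rw [Matrix.det_fin_two, hx01, hx10, mul_zero, sub_zero] at hdet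
        apply Subtype.ext
        rw [Matrix.SpecialLinearGroup.coe_mul, Matrix.SpecialLinearGroup.coe_one]
        ext i j
        fin_cases i <;> fin_cases j <;>
          simp [Matrix.mul_apply, Fin.sum_univ_two, hx01, hx10]
        · linear_combination ha
        · linear_combination (-((x : Matrix (Fin 2) (Fin 2) F) 1 1) ^ 2) * ha
            + ((x : Matrix (Fin 2) (Fin 2) F) 0 0 * (x : Matrix (Fin 2) (Fin 2) F) 1 1 + 1) * hdet
      rw [hdiag]
      apply (mem_centralizer_diag x hx01 hx10 hxa h).mp
      rw [Subgroup.mem_centralizer_iff]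
      intro y hy
      rw [Set.mem_singleton_iff] at hy
      subst hy
      exact hh.symm
    have hfac : (Nat.card (Matrix.SpecialLinearGroup (Fin 2) F)).factorization 2
        = (2 * k).factorization 2 + 1 := by
      rw [hcard, e1, e2, Nat.factorization_mul (by omega)
          (Nat.mul_ne_zero (by omega) (by omega)),
        Nat.factorization_mul (by omega) (by omega),
        Nat.factorization_mul (a := 2) (b := k + 1) (by norm_num) (by omega)]
      simp only [Finsupp.add_apply]
      rw [Nat.factorization_eq_zero_of_not_dvd hqodd,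
        Nat.factorization_eq_zero_of_not_dvd (n := k + 1) (by omega),
        Nat.Prime.factorization_self Nat.prime_two]
      omega
    obtain ⟨r1, r2, r3⟩ :=
      sylow_two_torus k hk2 ⟨r, hr⟩ t w hord hC hconj hinv hw hcent hfac S
    refine ⟨r1, ?_, ?_⟩
    · intro hq8
      apply r2
      omega
    · intro hq8
      apply r3
      · omega
      · have huT : t ^ (k / 2) ∈ Subgroup.zpowers t :=
          Subgroup.pow_mem _ (Subgroup.mem_zpowers t) _
        have huu : ((t ^ (k / 2) : Matrix.SpecialLinearGroup (Fin 2) F) :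
            Matrix (Fin 2) (Fin 2) F) * ((t ^ (k / 2) : Matrix.SpecialLinearGroup (Fin 2) F) :
            Matrix (Fin 2) (Fin 2) F) = -1 := by
          rw [← Matrix.SpecialLinearGroup.coe_mul, ← pow_add,
            (show k / 2 + k / 2 = k by omega)]
          exact htn
        apply exists_omega h2 (t ^ (k / 2)) w huu
        · rw [← Matrix.SpecialLinearGroup.coe_mul, (torus_w_sq k hk2 t w hord hC hinv hw).2]
          exact htn
        · exact anticomm t w _ hw huT huu
  · -- `q ≡ 3 mod 4`: the non-split torus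
    obtain ⟨r, hr⟩ := hko
    obtain ⟨t, w, hord, hC, hconj, hinv, hw, htn, hN8, hN9⟩ :=
      nonsplit_torus_data (F := F) ⟨k, hk⟩
    have hn : (Fintype.card F + 1) / 2 = k + 1 := by omega
    rw [hn] at hord hinv htn
    have hk2 : 2 ≤ k + 1 := by omega
    have hnz : NeZero (k + 1) := ⟨by omega⟩
    have hcent : ∀ x ∈ Subgroup.zpowers t, x * x ≠ 1 →
        ∀ h : Matrix.SpecialLinearGroup (Fin 2) F, h * x = x * h → h ∈ Subgroup.zpowers t := by
      intro x hx hxx h hh
      refine hN8 x hx ?_ ?_ h hh
      · intro h1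
        apply hxx
        apply Subtype.ext
        rw [Matrix.SpecialLinearGroup.coe_mul, h1, Matrix.SpecialLinearGroup.coe_one, mul_one]
      · intro h1
        apply hxx
        apply Subtype.ext
        rw [Matrix.SpecialLinearGroup.coe_mul, h1, Matrix.SpecialLinearGroup.coe_one, neg_mul_neg,
          mul_one]
    have hfac : (Nat.card (Matrix.SpecialLinearGroup (Fin 2) F)).factorization 2
        = (2 * (k + 1)).factorization 2 + 1 := by
      rw [hcard, e1, e2, Nat.factorization_mul (by omega)
          (Nat.mul_ne_zero (by omega) (by omega)),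
        Nat.factorization_mul (by omega) (by omega),
        Nat.factorization_mul (a := 2) (b := k) (by norm_num) (by omega)]
      simp only [Finsupp.add_apply]
      rw [Nat.factorization_eq_zero_of_not_dvd hqodd,
        Nat.factorization_eq_zero_of_not_dvd (n := k) (by omega),
        Nat.Prime.factorization_self Nat.prime_two]
      omega
    obtain ⟨r1, r2, r3⟩ :=
      sylow_two_torus (k + 1) hk2 ⟨r + 1, by omega⟩ t w hord hC hconj hinv hw hcent hfac S
    refine ⟨r1, ?_, ?_⟩
    · intro hq8
      apply r2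
      omega
    · intro hq8
      apply r3
      · omega
      · have huT : t ^ ((k + 1) / 2) ∈ Subgroup.zpowers t :=
          Subgroup.pow_mem _ (Subgroup.mem_zpowers t) _
        have huu : ((t ^ ((k + 1) / 2) : Matrix.SpecialLinearGroup (Fin 2) F) :
            Matrix (Fin 2) (Fin 2) F) * ((t ^ ((k + 1) / 2) : Matrix.SpecialLinearGroup (Fin 2) F) :
            Matrix (Fin 2) (Fin 2) F) = -1 := by
          rw [← Matrix.SpecialLinearGroup.coe_mul, ← pow_add,
            (show (k + 1) / 2 + (k + 1) / 2 = k + 1 by omega)]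
          exact htn
        apply exists_omega h2 (t ^ ((k + 1) / 2)) w huu
        · rw [← Matrix.SpecialLinearGroup.coe_mul,
            (torus_w_sq (k + 1) hk2 t w hord hC hinv hw).2]
          exact htn
        · exact anticomm t w _ hw huT huu

end Cfsg.Agent.S2431
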