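import Cfsg.Statements.S2437
import Mathlib
-- import your own Cfsg.Agent.* helpers here

set_option autoImplicit false
open Cfsg

namespace Cfsg.Agent.S2437


open Matrix

/-- the Borel subgroup of SL₂ -/
abbrev borel (F : Type*) [Field F] : Subgroup (Matrix.SpecialLinearGroup (Fin 2) F) :=
  (Cfsg.upperTriangularGL 2 F).comap Matrix.SpecialLinearGroup.toGL

theorem mem_borel_iff {F : Type*} [Field F] (g : Matrix.SpecialLinearGroup (Fin 2) F) :
    g ∈ borel F ↔ (g : Matrix (Fin 2) (Fin 2) F) 1 0 = 0 := by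
  constructor
  · intro h
    have h1 : ((Matrix.SpecialLinearGroup.toGL g : GL (Fin 2) F) : Matrix (Fin 2) (Fin 2) F).BlockTriangular id := h
    have := h1 (i := 1) (j := 0) (by decide)
    simpa using this
  · intro h
    show ((Matrix.SpecialLinearGroup.toGL g : GL (Fin 2) F) : Matrix (Fin 2) (Fin 2) F).BlockTriangular id
    intro i j hij
    have hij' : j < i := hij
    fin_cases i <;> fin_cases j <;> simp at hij' ⊢
    exact h

theorem borel_det {F : Type*} [Field F] (g : borel F) :
    (g.1 : Matrix (Fin 2) (Fin 2) F) 0 0 * (g.1 : Matrix (Fin 2) (Fin 2) F) 1 1 = 1 := by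
  have h0 := (mem_borel_iff g.1).1 g.2
  have hd := g.1.2
  rw [Matrix.det_fin_two, h0] at hd
  simpa using hd

theorem borel_inv {F : Type*} [Field F] (g : borel F) :
    (g.1 : Matrix (Fin 2) (Fin 2) F) 1 1 = ((g.1 : Matrix (Fin 2) (Fin 2) F) 0 0)⁻¹ :=
  eq_inv_of_mul_eq_one_right (borel_det g)

/-- coordinates of an element of the Borel subgroup -/
noncomputable def coords {F : Type*} [Field F] (g : borel F) : Fˣ × F :=
  (Units.mkOfMulEqOne _ _ (borel_det g), (g.1 : Matrix (Fin 2) (Fin 2) F) 0 1)

/-- the element with given coordinates -/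
noncomputable def ofCoordsSL {F : Type*} [Field F] (t : Fˣ × F) :
    Matrix.SpecialLinearGroup (Fin 2) F :=
  ⟨!![(t.1 : F), t.2; 0, ((t.1⁻¹ : Fˣ) : F)], by simp [Matrix.det_fin_two]⟩

theorem ofCoordsSL_coe {F : Type*} [Field F] (t : Fˣ × F) :
    ((ofCoordsSL t : Matrix.SpecialLinearGroup (Fin 2) F) : Matrix (Fin 2) (Fin 2) F)
      = !![(t.1 : F), t.2; 0, ((t.1⁻¹ : Fˣ) : F)] := rfl

/-- the element with given coordinates -/
noncomputable def ofCoords {F : Type*} [Field F] (t : Fˣ × F) : borel F :=
  ⟨ofCoordsSL t, (mem_borel_iff _).2 (by rw [ofCoordsSL_coe]; simp)⟩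

theorem ofCoords_coe {F : Type*} [Field F] (t : Fˣ × F) :
    (((ofCoords t : borel F) : Matrix.SpecialLinearGroup (Fin 2) F) : Matrix (Fin 2) (Fin 2) F)
      = !![(t.1 : F), t.2; 0, ((t.1⁻¹ : Fˣ) : F)] := rfl

/-- the Borel subgroup is in bijection with `Fˣ × F` -/
noncomputable def borelEquiv (F : Type*) [Field F] : borel F ≃ Fˣ × F where
  toFun := coords
  invFun := ofCoords
  left_inv g := by
    have h0 := (mem_borel_iff g.1).1 g.2
    have h1 := borel_inv g
    apply Subtype.ext; apply Subtype.ext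
    ext i j
    rw [ofCoords_coe]
    fin_cases i <;> fin_cases j <;> simp [coords, h0, h1]
  right_inv t := by
    ext <;> simp [coords, ofCoords_coe]

theorem commute_iff {F : Type*} [Field F] (g h : borel F) : Commute g h ↔
    ((coords g).1 : F) * (coords h).2 + (coords g).2 * (((coords h).1⁻¹ : Fˣ) : F)
      = ((coords h).1 : F) * (coords g).2 + (coords h).2 * (((coords g).1⁻¹ : Fˣ) : F) := by
  have hg := (mem_borel_iff g.1).1 g.2
  have hh := (mem_borel_iff h.1).1 h.2
  have hg1 := borel_inv g
  have hh1 := borel_inv h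
  constructor
  · intro hc
    have := congrArg (fun x : borel F => (x.1 : Matrix (Fin 2) (Fin 2) F) 0 1) hc.eq
    simpa [coords, Matrix.mul_apply, Fin.sum_univ_two, hg1, hh1] using this
  · intro hc
    apply Subtype.ext; apply Subtype.ext
    ext i j
    simp only [coords, Units.val_mkOfMulEqOne, Units.val_inv_eq_inv_val] at hc
    fin_cases i <;> fin_cases j <;> simp [Matrix.mul_apply, Fin.sum_univ_two, hg, hh, hg1, hh1]
    · ring
    · exact hc
    · ring

theorem card_fiber {F : Type*} [Field F] [Fintype F] [DecidableEq F] (u v : F) :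
    Nat.card {bd : F × F // bd.2 * u = bd.1 * v} =
      if u = 0 ∧ v = 0 then Fintype.card F * Fintype.card F else Fintype.card F := by
  classical
  split_ifs with h
  · obtain ⟨rfl, rfl⟩ := h
    rw [← Fintype.card_prod, ← Nat.card_eq_fintype_card]
    exact Nat.card_congr (Equiv.subtypeUnivEquiv (by simp))
  · rw [← Nat.card_eq_fintype_card]
    by_cases hu : u = 0
    · have hv : v ≠ 0 := fun hv => h ⟨hu, hv⟩
      subst hu
      refine Nat.card_congr ⟨fun bd => bd.1.2, fun d => ⟨(0, d), by simp⟩, ?_, ?_⟩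
      · rintro ⟨⟨b, d⟩, hbd⟩
        simp only [mul_zero] at hbd
        have hb : b = 0 := by
          rcases mul_eq_zero.1 hbd.symm with hb | hb
          · exact hb
          · exact absurd hb hv
        subst hb
        rfl
      · intro d; rfl
    · refine Nat.card_congr ⟨fun bd => bd.1.1, fun b => ⟨(b, b * v / u), by field_simp⟩, ?_, ?_⟩
      · rintro ⟨⟨b, d⟩, hbd⟩
        apply Subtype.ext
        simp only [Prod.mk.injEq, true_and]
        rw [← hbd]
        field_simp
      · intro b; rfl

theorem unit_sub_inv_eq_zero_iff {F : Type*} [Field F] (a : Fˣ) :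
    (a : F) - ((a⁻¹ : Fˣ) : F) = 0 ↔ a = 1 ∨ a = -1 := by
  have ha : (a : F) ≠ 0 := a.ne_zero
  rw [Units.val_inv_eq_inv_val, sub_eq_zero]
  constructor
  · intro h
    have h2 : (a : F) * (a : F) = 1 := by
      nth_rewrite 2 [h]
      exact mul_inv_cancel₀ ha
    rcases mul_self_eq_one_iff.1 h2 with h3 | h3
    · left; exact Units.ext h3
    · right; exact Units.ext (by simpa using h3)
  · rintro (rfl | rfl) <;> simp

theorem card_special {F : Type*} [Field F] [Fintype F] [DecidableEq F] (h2 : (2 : F) ≠ 0) :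
    (Finset.univ.filter (fun a : Fˣ => (a : F) - ((a⁻¹ : Fˣ) : F) = 0)).card = 2 := by
  have : Finset.univ.filter (fun a : Fˣ => (a : F) - ((a⁻¹ : Fˣ) : F) = 0) = {1, -1} := by
    ext a
    rw [Finset.mem_filter, unit_sub_inv_eq_zero_iff]
    simp
  rw [this, Finset.card_pair]
  intro h
  have h' : (1 : F) = -1 := by simpa using congrArg (fun x : Fˣ => (x : F)) h
  apply h2
  linear_combination h'



/-- Over a finite field F with q elements, q odd, the upper triangular subgroup of SL₂ (a Borel subgroup, of order q(q − 1)) has exactly q + 3 conjugacy classes. -/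
theorem result {F : Type*} [Field F] [Fintype F] (hodd : Odd (Fintype.card F)) :
    Nat.card (ConjClasses ((Cfsg.upperTriangularGL 2 F).comap Matrix.SpecialLinearGroup.toGL)) = Fintype.card F + 3 := by
  classical
  have hchar : (2 : F) ≠ 0 := by
    apply Ring.two_ne_zero
    intro h2
    have := (FiniteField.even_card_iff_char_two (F := F)).1 h2
    rcases hodd with ⟨m, hm⟩
    omega
  show Nat.card (ConjClasses (borel F)) = _
  have hq : 1 ≤ Fintype.card F := Fintype.card_pos
  obtain ⟨r, hr⟩ : ∃ r, Fintype.card F = r + 1 := ⟨Fintype.card F - 1, by omega⟩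
  have hr0 : 0 < r := by
    have := Fintype.one_lt_card (α := F)
    omega
  have hunits : Fintype.card Fˣ = r := by rw [Fintype.card_units, hr]; rfl
  have hcardB : Nat.card (borel F) = r * (r + 1) := by
    rw [Nat.card_congr (borelEquiv F), Nat.card_prod, Nat.card_eq_fintype_card,
      Nat.card_eq_fintype_card, hunits, hr]
  have hcomm := card_comm_eq_card_conjClasses_mul_card (borel F)
  have hpairs : Nat.card {p : borel F × borel F // Commute p.1 p.2}
      = r * r * (r + 1) + 4 * ((r + 1) * r) := by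
    let P : (Fˣ × Fˣ) → (F × F) → Prop := fun ac bd =>
      bd.2 * ((ac.1 : F) - ((ac.1⁻¹ : Fˣ) : F)) = bd.1 * ((ac.2 : F) - ((ac.2⁻¹ : Fˣ) : F))
    have e1 : {p : borel F × borel F // Commute p.1 p.2} ≃
        {t : (Fˣ × F) × (Fˣ × F) // P (t.1.1, t.2.1) (t.1.2, t.2.2)} :=
      Equiv.subtypeEquiv ((borelEquiv F).prodCongr (borelEquiv F)) (by
        intro p
        rw [commute_iff]
        show _ ↔ (coords p.2).2 * (((coords p.1).1 : F) - (((coords p.1).1⁻¹ : Fˣ) : F))
          = (coords p.1).2 * (((coords p.2).1 : F) - (((coords p.2).1⁻¹ : Fˣ) : F))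
        constructor
        · intro h; linear_combination h
        · intro h; linear_combination h)
    have e2 : {t : (Fˣ × F) × (Fˣ × F) // P (t.1.1, t.2.1) (t.1.2, t.2.2)} ≃
        {t : (Fˣ × Fˣ) × (F × F) // P t.1 t.2} :=
      Equiv.subtypeEquiv (Equiv.prodProdProdComm _ _ _ _) (by intro t; rfl)
    have e3 := Equiv.subtypeProdEquivSigmaSubtype P
    rw [Nat.card_congr (e1.trans (e2.trans e3)), Nat.card_sigma]
    have hf : ∀ ac : Fˣ × Fˣ, Nat.card {bd : F × F // P ac bd} =
        (r + 1) + (if ac ∈ (Finset.univ.filter (fun a : Fˣ => (a : F) - ((a⁻¹ : Fˣ) : F) = 0)) ×ˢ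
          (Finset.univ.filter (fun a : Fˣ => (a : F) - ((a⁻¹ : Fˣ) : F) = 0))
          then (r + 1) * r else 0) := by
      intro ac
      have := card_fiber ((ac.1 : F) - ((ac.1⁻¹ : Fˣ) : F)) ((ac.2 : F) - ((ac.2⁻¹ : Fˣ) : F))
      rw [show Nat.card {bd : F × F // P ac bd} = _ from this, hr]
      simp only [Finset.mem_product, Finset.mem_filter, Finset.mem_univ, true_and]
      split_ifs <;> ring
    rw [Finset.sum_congr rfl (fun ac _ => hf ac), Finset.sum_add_distrib, Finset.sum_const,
      Finset.sum_ite_mem, Finset.univ_inter, Finset.sum_const, Finset.card_product,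
      card_special hchar, Finset.card_univ, Fintype.card_prod, hunits]
    simp only [smul_eq_mul]
  rw [hpairs, hcardB] at hcomm
  have h3 : r * (r + 1) * (r + 4) = Nat.card (ConjClasses (borel F)) * (r * (r + 1)) := by
    rw [← hcomm]; ring
  have h4 : 0 < r * (r + 1) := by positivity
  have h5 : Nat.card (ConjClasses (borel F)) = r + 4 := by
    have : (r + 4) * (r * (r + 1)) = Nat.card (ConjClasses (borel F)) * (r * (r + 1)) := by
      rw [← h3]; ring
    exact (Nat.eq_of_mul_eq_mul_right h4 this).symm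
  rw [h5, hr]

end Cfsg.Agent.S2437
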