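import Cfsg.Statements.S2436
import Cfsg.Agent.Lib.helper43.McKaySL2
import Cfsg.Agent.Lib.helper46.Sylow2Torus
import Cfsg.Agent.Lib.helper46.SL2Sylow
import Cfsg.Agent.S2431
import Cfsg.Agent.S2437

set_option autoImplicit false
open Cfsg

namespace Cfsg.Agent.S2436

/-- Let F be a finite field with q elements, q odd, ℓ any prime and S a Sylow ℓ-subgroup of SL₂ over F with normaliser N. Then SL₂ and N have the same number of irreducible complex characters of degree not divisible by ℓ (the McKay equality holds for SL₂ over F at every prime). -/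
theorem result {F : Type*} [Field F] [Fintype F] (hodd : Odd (Fintype.card F)) (ℓ : ℕ) [Fact ℓ.Prime] (S : Sylow ℓ (Matrix.SpecialLinearGroup (Fin 2) F)) :
    Nat.card {χ : Cfsg.IrrCharacter (Matrix.SpecialLinearGroup (Fin 2) F) // ¬ ℓ ∣ Cfsg.charDegree (χ : Matrix.SpecialLinearGroup (Fin 2) F → ℂ)} =
      Nat.card {ψ : Cfsg.IrrCharacter (Subgroup.normalizer ((S : Subgroup (Matrix.SpecialLinearGroup (Fin 2) F)) : Set (Matrix.SpecialLinearGroup (Fin 2) F))) //
        ¬ ℓ ∣ Cfsg.charDegree (ψ : Subgroup.normalizer ((S : Subgroup (Matrix.SpecialLinearGroup (Fin 2) F)) : Set (Matrix.SpecialLinearGroup (Fin 2) F)) → ℂ)} := by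
  classical
  have hq2 : 1 < Fintype.card F := Fintype.one_lt_card
  have hℓp : ℓ.Prime := Fact.out
  obtain ⟨k, hk⟩ := hodd
  have hk1 : 1 ≤ k := by omega
  have hcount := Cfsg.Agent.Lib.helper43.sl2_odd_count (F := F) k hk (fun d => ¬ ℓ ∣ d)
  have hcard := Cfsg.Agent.Lib.helper46.card_SL2_factored (F := F)
  have e1 : Fintype.card F - 1 = 2 * k := by omega
  have e2 : Fintype.card F + 1 = 2 * (k + 1) := by omega
  have hℓ1 : ¬ ℓ ∣ 1 := by
    intro h
    have := Nat.le_of_dvd (by norm_num) h
    have := hℓp.two_le
    omega
  rw [hcount]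
  by_cases hℓ2 : ℓ = 2
  · -- the prime `2`
    subst hℓ2
    have h2 : (2 : F) ≠ 0 := Cfsg.Agent.Lib.helper46.two_ne_zero_of_odd_card ⟨k, hk⟩
    have hqodd : ¬ 2 ∣ Fintype.card F := by omega
    have hN : Nat.card {ψ : Cfsg.IrrCharacter (Subgroup.normalizer ((S : Subgroup (Matrix.SpecialLinearGroup (Fin 2) F)) : Set (Matrix.SpecialLinearGroup (Fin 2) F))) //
        ¬ 2 ∣ Cfsg.charDegree (ψ : Subgroup.normalizer ((S : Subgroup (Matrix.SpecialLinearGroup (Fin 2) F)) : Set (Matrix.SpecialLinearGroup (Fin 2) F)) → ℂ)} = 4 := by
      rcases Nat.even_or_odd k with hke | hko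
      · -- `q ≡ 1 mod 4`: the split torus
        obtain ⟨r, hr⟩ := hke
        have h5 : 5 ≤ Fintype.card F := by omega
        obtain ⟨t, w, hord, hdiag, hC, hconj, hinv, hw, htn⟩ :=
          Cfsg.Agent.Lib.helper46.split_torus_data (F := F) ⟨k, hk⟩ h5
        have hn : (Fintype.card F - 1) / 2 = k := by omega
        rw [hn] at hord hinv htn
        have hk2 : 2 ≤ k := by omega
        have hnz : NeZero k := ⟨by omega⟩
        have hcent : ∀ x ∈ Subgroup.zpowers t, x * x ≠ 1 →
            ∀ h : Matrix.SpecialLinearGroup (Fin 2) F, h * x = x * h → h ∈ Subgroup.zpowers t := by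
          intro x hx hxx h hh
          obtain ⟨hx01, hx10⟩ := (hdiag x).mp hx
          have hxa : (x : Matrix (Fin 2) (Fin 2) F) 0 0 ^ 2 ≠ 1 := by
            intro ha
            apply hxx
            have hdet := x.det_coe
            rw [Matrix.det_fin_two, hx01, hx10, mul_zero, sub_zero] at hdet
            apply Subtype.ext
            rw [Matrix.SpecialLinearGroup.coe_mul, Matrix.SpecialLinearGroup.coe_one]
            ext i j
            fin_cases i <;> fin_cases j <;>
              simp [Matrix.mul_apply, Fin.sum_univ_two, hx01, hx10]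
            · linear_combination ha
            · linear_combination (-((x : Matrix (Fin 2) (Fin 2) F) 1 1) ^ 2) * ha
                + ((x : Matrix (Fin 2) (Fin 2) F) 0 0 * (x : Matrix (Fin 2) (Fin 2) F) 1 1 + 1) * hdet
          rw [hdiag]
          apply (Cfsg.Agent.Lib.helper46.mem_centralizer_diag x hx01 hx10 hxa h).mp
          rw [Subgroup.mem_centralizer_iff]
          intro y hy
          rw [Set.mem_singleton_iff] at hy
          subst hy
          exact hh.symm
        have hfac : (Nat.card (Matrix.SpecialLinearGroup (Fin 2) F)).factorization 2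
            = (2 * k).factorization 2 + 1 := by
          rw [hcard, e1, e2, Nat.factorization_mul (by omega)
              (Nat.mul_ne_zero (by omega) (by omega)),
            Nat.factorization_mul (by omega) (by omega),
            Nat.factorization_mul (a := 2) (b := k + 1) (by norm_num) (by omega)]
          simp only [Finsupp.add_apply]
          rw [Nat.factorization_eq_zero_of_not_dvd hqodd,
            Nat.factorization_eq_zero_of_not_dvd (n := k + 1) (by omega),
            Nat.Prime.factorization_self Nat.prime_two]
          omega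
        have hω : ¬ 4 ∣ k → ∃ ω : Matrix.SpecialLinearGroup (Fin 2) F,
            ω * t ^ (k / 2) * ω⁻¹ = t ^ (k / 2) * w ∧ ω * w * ω⁻¹ = t ^ (k / 2) := by
          intro _
          have huT : t ^ (k / 2) ∈ Subgroup.zpowers t :=
            Subgroup.pow_mem _ (Subgroup.mem_zpowers t) _
          have huu : ((t ^ (k / 2) : Matrix.SpecialLinearGroup (Fin 2) F) :
              Matrix (Fin 2) (Fin 2) F) * ((t ^ (k / 2) : Matrix.SpecialLinearGroup (Fin 2) F) :
              Matrix (Fin 2) (Fin 2) F) = -1 := by
            rw [← Matrix.SpecialLinearGroup.coe_mul, ← pow_add,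
              (show k / 2 + k / 2 = k by omega)]
            exact htn
          apply Cfsg.Agent.Lib.helper46.exists_omega h2 (t ^ (k / 2)) w huu
          · rw [← Matrix.SpecialLinearGroup.coe_mul,
              (Cfsg.Agent.Lib.helper46.torus_w_sq k hk2 t w hord hC hinv hw).2]
            exact htn
          · exact Cfsg.Agent.S2431.anticomm t w _ hw huT huu
        exact Cfsg.Agent.Lib.helper43.sylow_two_torus_odd_count k hk2 ⟨r, hr⟩ t w hord hC hconj
          hinv hw hcent hfac hω S
      · -- `q ≡ 3 mod 4`: the non-split torus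
        obtain ⟨r, hr⟩ := hko
        obtain ⟨t, w, hord, hC, hconj, hinv, hw, htn, hN8, hN9⟩ :=
          Cfsg.Agent.Lib.helper46.nonsplit_torus_data (F := F) ⟨k, hk⟩
        have hn : (Fintype.card F + 1) / 2 = k + 1 := by omega
        rw [hn] at hord hinv htn
        have hk2 : 2 ≤ k + 1 := by omega
        have hnz : NeZero (k + 1) := ⟨by omega⟩
        have hcent : ∀ x ∈ Subgroup.zpowers t, x * x ≠ 1 →
            ∀ h : Matrix.SpecialLinearGroup (Fin 2) F, h * x = x * h → h ∈ Subgroup.zpowers t := by
          intro x hx hxx h hh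
          refine hN8 x hx ?_ ?_ h hh
          · intro h1
            apply hxx
            apply Subtype.ext
            rw [Matrix.SpecialLinearGroup.coe_mul, h1, Matrix.SpecialLinearGroup.coe_one, mul_one]
          · intro h1
            apply hxx
            apply Subtype.ext
            rw [Matrix.SpecialLinearGroup.coe_mul, h1, Matrix.SpecialLinearGroup.coe_one,
              neg_mul_neg, mul_one]
        have hfac : (Nat.card (Matrix.SpecialLinearGroup (Fin 2) F)).factorization 2
            = (2 * (k + 1)).factorization 2 + 1 := by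
          rw [hcard, e1, e2, Nat.factorization_mul (by omega)
              (Nat.mul_ne_zero (by omega) (by omega)),
            Nat.factorization_mul (by omega) (by omega),
            Nat.factorization_mul (a := 2) (b := k) (by norm_num) (by omega)]
          simp only [Finsupp.add_apply]
          rw [Nat.factorization_eq_zero_of_not_dvd hqodd,
            Nat.factorization_eq_zero_of_not_dvd (n := k) (by omega),
            Nat.Prime.factorization_self Nat.prime_two]
          omega
        have hω : ¬ 4 ∣ k + 1 → ∃ ω : Matrix.SpecialLinearGroup (Fin 2) F,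
            ω * t ^ ((k + 1) / 2) * ω⁻¹ = t ^ ((k + 1) / 2) * w ∧
              ω * w * ω⁻¹ = t ^ ((k + 1) / 2) := by
          intro _
          have huT : t ^ ((k + 1) / 2) ∈ Subgroup.zpowers t :=
            Subgroup.pow_mem _ (Subgroup.mem_zpowers t) _
          have huu : ((t ^ ((k + 1) / 2) : Matrix.SpecialLinearGroup (Fin 2) F) :
              Matrix (Fin 2) (Fin 2) F) * ((t ^ ((k + 1) / 2) : Matrix.SpecialLinearGroup (Fin 2) F) :
              Matrix (Fin 2) (Fin 2) F) = -1 := by
            rw [← Matrix.SpecialLinearGroup.coe_mul, ← pow_add,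
              (show (k + 1) / 2 + (k + 1) / 2 = k + 1 by omega)]
            exact htn
          apply Cfsg.Agent.Lib.helper46.exists_omega h2 (t ^ ((k + 1) / 2)) w huu
          · rw [← Matrix.SpecialLinearGroup.coe_mul,
              (Cfsg.Agent.Lib.helper46.torus_w_sq (k + 1) hk2 t w hord hC hinv hw).2]
            exact htn
          · exact Cfsg.Agent.S2431.anticomm t w _ hw huT huu
        exact Cfsg.Agent.Lib.helper43.sylow_two_torus_odd_count (k + 1) hk2 ⟨r + 1, by omega⟩ t w
          hord hC hconj hinv hw hcent hfac hω S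
    rw [hN]
    split_ifs <;> omega
  · have hℓ3 : 3 ≤ ℓ := by
      have := hℓp.two_le
      omega
    have hℓ2' : ¬ ℓ ∣ 2 := by
      intro h
      have := Nat.le_of_dvd (by norm_num) h
      omega
    by_cases hq : ℓ ∣ Fintype.card F
    · -- the defining characteristic
      obtain ⟨p, hp⟩ := CharP.exists F
      obtain ⟨n, hpprime, hn⟩ := FiniteField.card F p
      have hℓp' : ℓ = p := by
        rw [hn] at hq
        exact (Nat.prime_dvd_prime_iff_eq hℓp hpprime).mp (hℓp.dvd_of_dvd_pow hq)
      subst hℓp'
      have hU := Cfsg.Agent.Lib.helper43.card_USL_eq_pow_factorization (F := F) ℓ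
      obtain ⟨e, hS⟩ := Cfsg.Agent.Lib.helper46.sylow_eq_map_of_card ℓ
        (Cfsg.Agent.Lib.helper43.USL F) hU S
      have hSc : ∀ a ∈ (S : Subgroup (Matrix.SpecialLinearGroup (Fin 2) F)),
          ∀ b ∈ (S : Subgroup (Matrix.SpecialLinearGroup (Fin 2) F)), a * b = b * a := by
        intro a ha b hb
        rw [hS] at ha hb
        obtain ⟨a', ha', rfl⟩ := Subgroup.mem_map.mp ha
        obtain ⟨b', hb', rfl⟩ := Subgroup.mem_map.mp hb
        rw [← map_mul, ← map_mul, Cfsg.Agent.Lib.helper43.USL_comm a' ha' b' hb']
      obtain ⟨φ⟩ := Cfsg.Agent.Lib.helper43.nonempty_mulEquiv_normalizer_map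
        (Cfsg.Agent.Lib.helper43.USL F) (Cfsg.Agent.Lib.helper43.BSL F)
        Cfsg.Agent.Lib.helper43.normalizer_USL e
        (S : Subgroup (Matrix.SpecialLinearGroup (Fin 2) F)) hS
      have hB : Nat.card (ConjClasses (Cfsg.Agent.Lib.helper43.BSL F)) = Fintype.card F + 3 :=
        Cfsg.Agent.S2437.result ⟨k, hk⟩
      rw [Cfsg.Agent.Lib.helper43.card_pprime_normalizer_of_comm S hSc,
        ← Cfsg.Agent.Lib.helper46.card_conjClasses_congr φ, hB]
      have c2 : ℓ ∣ 2 * k + 1 := hk ▸ hq
      have c3 : ¬ ℓ ∣ 2 * k + 2 := by
        intro h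
        apply hℓ1
        have h3 := Nat.dvd_sub h c2
        have e3 : 2 * k + 2 - (2 * k + 1) = 1 := by omega
        rwa [e3] at h3
      have c4 : ¬ ℓ ∣ 2 * k := by
        intro h
        apply hℓ1
        have h3 := Nat.dvd_sub c2 h
        have e3 : 2 * k + 1 - 2 * k = 1 := by omega
        rwa [e3] at h3
      have c5 : ¬ ℓ ∣ k + 1 := by
        intro h
        apply c3
        have := Dvd.dvd.mul_left h 2
        rwa [show 2 * (k + 1) = 2 * k + 2 by ring] at this
      have c6 : ¬ ℓ ∣ k := fun h => c4 (Dvd.dvd.mul_left h 2)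
      rw [if_pos hℓ1, if_neg (not_not.mpr c2), if_pos c3, if_pos c4, if_pos c5, if_pos c6, hk]
      omega
    · by_cases hm : ℓ ∣ Fintype.card F - 1
      · -- the split torus
        have h5 : 5 ≤ Fintype.card F := by
          have := Nat.le_of_dvd (by omega) hm
          omega
        obtain ⟨t, w, hord, hdiag, hC, hconj, hinv, hw, htn⟩ :=
          Cfsg.Agent.Lib.helper46.split_torus_data (F := F) ⟨k, hk⟩ h5
        have hn : 2 * ((Fintype.card F - 1) / 2) = Fintype.card F - 1 := by omega
        have hn2 : 2 ≤ (Fintype.card F - 1) / 2 := by omega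
        have hnz : NeZero ((Fintype.card F - 1) / 2) := ⟨by omega⟩
        obtain ⟨-, hcls, -⟩ := Cfsg.Agent.Lib.helper46.torus_normalizer_structure
          ((Fintype.card F - 1) / 2) hn2 t w hord hC hconj hinv hw
        rw [hn] at hord
        have hidx : ¬ ℓ ∣ Nat.card (Matrix.SpecialLinearGroup (Fin 2) F) / orderOf t := by
          rw [hcard, hord]
          have e : Fintype.card F * ((Fintype.card F - 1) * (Fintype.card F + 1))
              / (Fintype.card F - 1) = Fintype.card F * (Fintype.card F + 1) := by
            apply Nat.div_eq_of_eq_mul_left (by omega)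
            ring
          rw [e]
          intro hd
          rcases (Nat.Prime.dvd_mul hℓp).mp hd with h | h
          · exact hq h
          · have h3 := Nat.dvd_sub h hm
            have e3 : Fintype.card F + 1 - (Fintype.card F - 1) = 2 := by omega
            rw [e3] at h3
            exact hℓ2' h3
        have hcent : ∀ x ∈ Subgroup.zpowers t, x * x ≠ 1 →
            ∀ h : Matrix.SpecialLinearGroup (Fin 2) F, h * x = x * h → h ∈ Subgroup.zpowers t := by
          intro x hx hxx h hh
          obtain ⟨hx01, hx10⟩ := (hdiag x).mp hx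
          have hxa : (x : Matrix (Fin 2) (Fin 2) F) 0 0 ^ 2 ≠ 1 := by
            intro ha
            apply hxx
            have hdet := x.det_coe
            rw [Matrix.det_fin_two, hx01, hx10, mul_zero, sub_zero] at hdet
            apply Subtype.ext
            rw [Matrix.SpecialLinearGroup.coe_mul, Matrix.SpecialLinearGroup.coe_one]
            ext i j
            fin_cases i <;> fin_cases j <;>
              simp [Matrix.mul_apply, Fin.sum_univ_two, hx01, hx10]
            · linear_combination ha
            · linear_combination (-((x : Matrix (Fin 2) (Fin 2) F) 1 1) ^ 2) * ha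
                + ((x : Matrix (Fin 2) (Fin 2) F) 0 0 * (x : Matrix (Fin 2) (Fin 2) F) 1 1 + 1) * hdet
          rw [hdiag]
          apply (Cfsg.Agent.Lib.helper46.mem_centralizer_diag x hx01 hx10 hxa h).mp
          rw [Subgroup.mem_centralizer_iff]
          intro y hy
          rw [Set.mem_singleton_iff] at hy
          subst hy
          exact hh.symm
        obtain ⟨hSc, ⟨φ⟩⟩ := Cfsg.Agent.Lib.helper43.sylow_cyclic_torus_equiv ℓ hℓ2 t
          (by rw [hord]; exact hm) hidx hcent S
        rw [Cfsg.Agent.Lib.helper43.card_pprime_normalizer_of_comm S hSc,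
          ← Cfsg.Agent.Lib.helper46.card_conjClasses_congr φ, hcls]
        have c4 : ℓ ∣ 2 * k := e1 ▸ hm
        have c6 : ℓ ∣ k := by
          rcases (Nat.Prime.dvd_mul hℓp).mp c4 with h | h
          · exact absurd h hℓ2'
          · exact h
        have c2 : ¬ ℓ ∣ 2 * k + 1 := hk ▸ hq
        have c3 : ¬ ℓ ∣ 2 * k + 2 := by
          intro h
          apply hℓ2'
          have h3 := Nat.dvd_sub h c4
          have e3 : 2 * k + 2 - 2 * k = 2 := by omega
          rwa [e3] at h3
        have c5 : ¬ ℓ ∣ k + 1 := by
          intro h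
          apply hℓ1
          have h3 := Nat.dvd_sub h c6
          have e3 : k + 1 - k = 1 := by omega
          rwa [e3] at h3
        rw [if_pos hℓ1, if_pos c2, if_pos c3, if_neg (not_not.mpr c4), if_pos c5,
          if_neg (not_not.mpr c6)]
        omega
      · by_cases hpl : ℓ ∣ Fintype.card F + 1
        · -- the non-split torus
          obtain ⟨t, w, hord, hC, hconj, hinv, hw, htn, hN8, hN9⟩ :=
            Cfsg.Agent.Lib.helper46.nonsplit_torus_data (F := F) ⟨k, hk⟩
          have hn : 2 * ((Fintype.card F + 1) / 2) = Fintype.card F + 1 := by omega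
          have hn2 : 2 ≤ (Fintype.card F + 1) / 2 := by omega
          have hnz : NeZero ((Fintype.card F + 1) / 2) := ⟨by omega⟩
          obtain ⟨-, hcls, -⟩ := Cfsg.Agent.Lib.helper46.torus_normalizer_structure
            ((Fintype.card F + 1) / 2) hn2 t w hord hC hconj hinv hw
          rw [hn] at hord
          have hidx : ¬ ℓ ∣ Nat.card (Matrix.SpecialLinearGroup (Fin 2) F) / orderOf t := by
            rw [hcard, hord]
            have e : Fintype.card F * ((Fintype.card F - 1) * (Fintype.card F + 1))
                / (Fintype.card F + 1) = Fintype.card F * (Fintype.card F - 1) := by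
              apply Nat.div_eq_of_eq_mul_left (by omega)
              ring
            rw [e]
            intro hd
            rcases (Nat.Prime.dvd_mul hℓp).mp hd with h | h
            · exact hq h
            · exact hm h
          have hcent : ∀ x ∈ Subgroup.zpowers t, x * x ≠ 1 →
              ∀ h : Matrix.SpecialLinearGroup (Fin 2) F, h * x = x * h →
                h ∈ Subgroup.zpowers t := by
            intro x hx hxx h hh
            refine hN8 x hx ?_ ?_ h hh
            · intro h1
              apply hxx
              apply Subtype.ext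
              rw [Matrix.SpecialLinearGroup.coe_mul, h1, Matrix.SpecialLinearGroup.coe_one,
                mul_one]
            · intro h1
              apply hxx
              apply Subtype.ext
              rw [Matrix.SpecialLinearGroup.coe_mul, h1, Matrix.SpecialLinearGroup.coe_one,
                neg_mul_neg, mul_one]
          obtain ⟨hSc, ⟨φ⟩⟩ := Cfsg.Agent.Lib.helper43.sylow_cyclic_torus_equiv ℓ hℓ2 t
            (by rw [hord]; exact hpl) hidx hcent S
          rw [Cfsg.Agent.Lib.helper43.card_pprime_normalizer_of_comm S hSc,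
            ← Cfsg.Agent.Lib.helper46.card_conjClasses_congr φ, hcls]
          have c3 : ℓ ∣ 2 * k + 2 := by
            have := e2 ▸ hpl
            rwa [show 2 * (k + 1) = 2 * k + 2 by ring] at this
          have c5 : ℓ ∣ k + 1 := by
            have h3 : ℓ ∣ 2 * (k + 1) := e2 ▸ hpl
            rcases (Nat.Prime.dvd_mul hℓp).mp h3 with h | h
            · exact absurd h hℓ2'
            · exact h
          have c2 : ¬ ℓ ∣ 2 * k + 1 := hk ▸ hq
          have c4 : ¬ ℓ ∣ 2 * k := e1 ▸ hm
          have c6 : ¬ ℓ ∣ k := fun h => c4 (Dvd.dvd.mul_left h 2)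
          rw [if_pos hℓ1, if_pos c2, if_neg (not_not.mpr c3), if_pos c4,
            if_neg (not_not.mpr c5), if_pos c6]
          omega
        · -- `ℓ` does not divide the order
          have hnd : ¬ ℓ ∣ Nat.card (Matrix.SpecialLinearGroup (Fin 2) F) := by
            rw [hcard]
            intro hd
            rcases (Nat.Prime.dvd_mul hℓp).mp hd with h | h
            · exact hq h
            · rcases (Nat.Prime.dvd_mul hℓp).mp h with h | h
              · exact hm h
              · exact hpl h
          have hS1 : Nat.card (S : Subgroup (Matrix.SpecialLinearGroup (Fin 2) F)) = 1 := by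
            rw [Sylow.card_eq_multiplicity, Nat.factorization_eq_zero_of_not_dvd hnd, pow_zero]
          have hSbot : (S : Subgroup (Matrix.SpecialLinearGroup (Fin 2) F)) = ⊥ :=
            Subgroup.eq_bot_of_card_eq _ hS1
          have hNtop : Subgroup.normalizer ((S : Subgroup (Matrix.SpecialLinearGroup (Fin 2) F)) :
              Set (Matrix.SpecialLinearGroup (Fin 2) F)) = ⊤ := by
            rw [hSbot]
            exact Subgroup.normalizer_eq_top (⊥ : Subgroup (Matrix.SpecialLinearGroup (Fin 2) F))
          rw [Cfsg.Agent.Lib.helper43.card_irr_degree_congr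
            ((MulEquiv.subgroupCongr hNtop).trans Subgroup.topEquiv) (fun d => ¬ ℓ ∣ d), hcount]

end Cfsg.Agent.S2436
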