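import Cfsg.Statements.S2438
import Cfsg.Agent.Lib.helper43.SL2OddClass

set_option autoImplicit false
open Cfsg

namespace Cfsg.Agent.S2438

theorem sum_unitriangular {F : Type*} [Field F] [Fintype F] [DecidableEq F]
    [Fintype (Matrix.SpecialLinearGroup (Fin 2) F)]
    (f : Matrix.SpecialLinearGroup (Fin 2) F → ℂ) :
    (∑ g : Matrix.SpecialLinearGroup (Fin 2) F, if (g : Matrix (Fin 2) (Fin 2) F) 1 0 = 0 ∧ (g : Matrix (Fin 2) (Fin 2) F) 0 0 = 1 ∧ (g : Matrix (Fin 2) (Fin 2) F) 1 1 = 1 then f g else 0) =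
      ∑ b : F, f (Cfsg.Agent.Lib.helper43.uSL b) := by
  rw [← Finset.sum_filter]
  symm
  refine Finset.sum_bij (fun b _ => Cfsg.Agent.Lib.helper43.uSL b) ?_ ?_ ?_ ?_
  · intro b _
    simp [Cfsg.Agent.Lib.helper43.uSL_val]
  · intro a _ b _ h
    exact Cfsg.Agent.Lib.helper43.uSL_injective h
  · intro g hg
    simp only [Finset.mem_filter, Finset.mem_univ, true_and] at hg
    refine ⟨(g : Matrix (Fin 2) (Fin 2) F) 0 1, Finset.mem_univ _, ?_⟩
    apply Cfsg.Agent.Lib.helper43.sl2_ext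
    · simp [Cfsg.Agent.Lib.helper43.uSL_val, hg.2.1]
    · simp [Cfsg.Agent.Lib.helper43.uSL_val]
    · simp [Cfsg.Agent.Lib.helper43.uSL_val, hg.1]
    · simp [Cfsg.Agent.Lib.helper43.uSL_val, hg.2.2]
  · intro b _
    rfl


/-- Let F be a finite field with q elements, q odd, q ≥ 5, U the upper unitriangular subgroup of SL₂ over F, and χ an irreducible complex character. The sum of the values of χ over U equals 2q, q, 0, q, 0 according as the degree of χ is q + 1, q, q − 1, (q + 1)/2, (q − 1)/2; so among these five degrees the sum vanishes exactly for the degrees q − 1 and (q − 1)/2, i.e. the irreducible characters of those two degrees are the ones whose restriction to U does not contain the trivial character (the cuspidal characters), while those of degree q + 1, q and (q + 1)/2 are not cuspidal. -/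
theorem result {F : Type*} [Field F] [Fintype F] [DecidableEq F] (hodd : Odd (Fintype.card F)) (hq : 5 ≤ Fintype.card F)
    (χ : Matrix.SpecialLinearGroup (Fin 2) F → ℂ) (hχ : Cfsg.IsIrrCharacter (Matrix.SpecialLinearGroup (Fin 2) F) χ) :
    (χ 1 = (Fintype.card F : ℂ) + 1 →
      (∑ g : Matrix.SpecialLinearGroup (Fin 2) F, if (g : Matrix (Fin 2) (Fin 2) F) 1 0 = 0 ∧ (g : Matrix (Fin 2) (Fin 2) F) 0 0 = 1 ∧ (g : Matrix (Fin 2) (Fin 2) F) 1 1 = 1 then χ g else 0) = 2 * (Fintype.card F : ℂ)) ∧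
    (χ 1 = (Fintype.card F : ℂ) →
      (∑ g : Matrix.SpecialLinearGroup (Fin 2) F, if (g : Matrix (Fin 2) (Fin 2) F) 1 0 = 0 ∧ (g : Matrix (Fin 2) (Fin 2) F) 0 0 = 1 ∧ (g : Matrix (Fin 2) (Fin 2) F) 1 1 = 1 then χ g else 0) = (Fintype.card F : ℂ)) ∧
    (χ 1 = (Fintype.card F : ℂ) - 1 →
      (∑ g : Matrix.SpecialLinearGroup (Fin 2) F, if (g : Matrix (Fin 2) (Fin 2) F) 1 0 = 0 ∧ (g : Matrix (Fin 2) (Fin 2) F) 0 0 = 1 ∧ (g : Matrix (Fin 2) (Fin 2) F) 1 1 = 1 then χ g else 0) = 0) ∧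
    (χ 1 = (((Fintype.card F + 1) / 2 : ℕ) : ℂ) →
      (∑ g : Matrix.SpecialLinearGroup (Fin 2) F, if (g : Matrix (Fin 2) (Fin 2) F) 1 0 = 0 ∧ (g : Matrix (Fin 2) (Fin 2) F) 0 0 = 1 ∧ (g : Matrix (Fin 2) (Fin 2) F) 1 1 = 1 then χ g else 0) = (Fintype.card F : ℂ)) ∧
    (χ 1 = (((Fintype.card F - 1) / 2 : ℕ) : ℂ) →
      (∑ g : Matrix.SpecialLinearGroup (Fin 2) F, if (g : Matrix (Fin 2) (Fin 2) F) 1 0 = 0 ∧ (g : Matrix (Fin 2) (Fin 2) F) 0 0 = 1 ∧ (g : Matrix (Fin 2) (Fin 2) F) 1 1 = 1 then χ g else 0) = 0) := by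
  classical
  have : Fintype (Cfsg.IrrCharacter (Matrix.SpecialLinearGroup (Fin 2) F)) := Fintype.ofFinite _
  simp only [sum_unitriangular]
  have h2 : ringChar F ≠ 2 := by
    intro h
    have := (FiniteField.even_card_iff_char_two (F := F)).1 h
    rcases hodd with ⟨k, hk⟩
    omega
  obtain ⟨k, hk⟩ := hodd
  obtain ⟨ψ, hψ1⟩ := AddChar.exists_apply_ne_zero.2 (one_ne_zero : (1 : F) ≠ 0)
  have hψ : ψ ≠ 1 := by
    rintro rfl
    exact hψ1 (by simp)
  obtain ⟨ε, hε⟩ := FiniteField.exists_nonsquare h2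
  obtain ⟨m, rp, rm, hdeg, -, -, hU, hcls, -, hhalf, -⟩ :=
    Cfsg.Agent.Lib.helper43.sl2_odd_classification k hk ψ hψ ε hε
  have hk2 : 2 ≤ k := by omega
  have key := Cfsg.Agent.Lib.helper43.odd_deg_iff_type k hk2 (m ⟨χ, hχ⟩) (rp ⟨χ, hχ⟩)
    (rm ⟨χ, hχ⟩) _ (hdeg ⟨χ, hχ⟩) (hcls ⟨χ, hχ⟩) (hhalf ⟨χ, hχ⟩)
  have hS := hU ⟨χ, hχ⟩
  simp only at hS key
  have e1 : (Fintype.card F + 1) / 2 = k + 1 := by omega
  have e2 : (Fintype.card F - 1) / 2 = k := by omega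
  rw [hS, e1, e2, hk]
  refine ⟨?_, ?_, ?_, ?_, ?_⟩
  · intro h
    obtain ⟨h1, h2', h3⟩ := key.2.2.1.1 h
    rw [h3]
    push_cast
    ring
  · intro h
    obtain ⟨h1, h2', h3⟩ := key.2.1.1 h
    rw [h3]
    push_cast
    ring
  · intro h
    obtain ⟨h1, h2', h3⟩ := key.2.2.2.1.1 h
    rw [h3]
    push_cast
    ring
  · intro h
    obtain ⟨h1, h3⟩ := key.2.2.2.2.1.1 h
    rw [h3]
    push_cast
    ring
  · intro h
    obtain ⟨h1, h3⟩ := key.2.2.2.2.2.1 h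
    rw [h3]
    push_cast
    ring

end Cfsg.Agent.S2438
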