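import Mathlib
import Cfsg.Statements.S2450
import Cfsg.Agent.Lib.helper46.SL2Products

set_option autoImplicit false
open Cfsg

namespace Cfsg.Agent.S2450

open Cfsg.Agent.Lib.helper46

/-- A quadratic polynomial over a finite field has at most two roots. -/
theorem card_quadratic_roots_le {F : Type*} [Field F] [Fintype F] [DecidableEq F] (a b c : F)
    (ha : a ≠ 0) : (Finset.univ.filter (fun x : F => a * x ^ 2 + b * x + c = 0)).card ≤ 2 := by
  by_contra hlt
  push Not at hlt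
  have hp := Polynomial.eq_zero_of_natDegree_lt_card_of_eval_eq_zero'
    (Polynomial.C a * Polynomial.X ^ 2 + Polynomial.C b * Polynomial.X + Polynomial.C c)
    (Finset.univ.filter (fun x : F => a * x ^ 2 + b * x + c = 0))
    (by
      intro x hx
      simp only [Finset.mem_filter, Finset.mem_univ, true_and] at hx
      simp only [Polynomial.eval_add, Polynomial.eval_mul, Polynomial.eval_C, Polynomial.eval_pow,
        Polynomial.eval_X]
      exact hx)
    (by rw [Polynomial.natDegree_quadratic ha]; exact hlt)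
  have h2 := Polynomial.natDegree_quadratic ha (b := b) (c := c)
  rw [hp] at h2
  simp at h2

/-- For a quadratic `f` over a finite field with at least four elements, `f²` is not constant. -/
theorem exists_sq_ne {F : Type*} [Field F] [Fintype F] (h4 : 4 ≤ Fintype.card F) (a b c : F)
    (ha : a ≠ 0) : ∃ x : F, (a * x ^ 2 + b * x + c) ^ 2 ≠ c ^ 2 := by
  classical
  by_contra hall
  push Not at hall
  have hcover : ∀ x : F, a * x ^ 2 + b * x + 0 = 0 ∨ a * x ^ 2 + b * x + 2 * c = 0 := by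
    intro x
    have hfac : (a * x ^ 2 + b * x + 0) * (a * x ^ 2 + b * x + 2 * c) = 0 := by
      linear_combination hall x
    exact mul_eq_zero.mp hfac
  have h1 := card_quadratic_roots_le a b 0 ha
  have h2 := card_quadratic_roots_le a b (2 * c) ha
  have hunion : (Finset.univ : Finset F)
      = (Finset.univ.filter (fun x : F => a * x ^ 2 + b * x + 0 = 0))
        ∪ (Finset.univ.filter (fun x : F => a * x ^ 2 + b * x + 2 * c = 0)) := by
    ext x
    simp only [Finset.mem_univ, Finset.mem_union, Finset.mem_filter, true_and, true_iff]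
    exact hcover x
  have hq : Fintype.card F ≤ 4 := by
    calc Fintype.card F = (Finset.univ : Finset F).card := Finset.card_univ.symm
      _ = ((Finset.univ.filter (fun x : F => a * x ^ 2 + b * x + 0 = 0))
        ∪ (Finset.univ.filter (fun x : F => a * x ^ 2 + b * x + 2 * c = 0))).card := by
          rw [← hunion]
      _ ≤ (Finset.univ.filter (fun x : F => a * x ^ 2 + b * x + 0 = 0)).card
        + (Finset.univ.filter (fun x : F => a * x ^ 2 + b * x + 2 * c = 0)).card :=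
          Finset.card_union_le _ _
      _ ≤ 4 := by omega
  have hq4 : Fintype.card F = 4 := by omega
  have h20 : (2 : F) = 0 := by
    have h3 := FiniteField.even_card_iff_char_two.mpr (by rw [hq4])
    have h5 : ((ringChar F : ℕ) : F) = 0 := CharP.cast_eq_zero F (ringChar F)
    rw [h3] at h5
    exact_mod_cast h5
  have hall' : ∀ x : F, a * x ^ 2 + b * x + 0 = 0 := by
    intro x
    rcases hcover x with h | h
    · exact h
    · rw [h20, zero_mul] at h
      exact h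
  have huniv : Finset.univ.filter (fun x : F => a * x ^ 2 + b * x + 0 = 0) = Finset.univ := by
    ext x
    simp only [Finset.mem_filter, Finset.mem_univ, true_and, iff_true]
    exact hall' x
  rw [huniv, Finset.card_univ, hq4] at h1
  omega

/-- The Arad–Herzog conjecture for PSL(2,q): let F be a finite field with q ≥ 4 elements. For any two non-identity elements a, b of PSL(2,F), the set of products of a conjugate of a with a conjugate of b is not a single conjugacy class. -/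
theorem result {F : Type*} [Field F] [Fintype F] (h4 : 4 ≤ Fintype.card F)
    (a b : Matrix.ProjectiveSpecialLinearGroup (Fin 2) F) (ha : a ≠ 1) (hb : b ≠ 1) (c : Matrix.ProjectiveSpecialLinearGroup (Fin 2) F) :
    {g : Matrix.ProjectiveSpecialLinearGroup (Fin 2) F | ∃ u v : Matrix.ProjectiveSpecialLinearGroup (Fin 2) F, g = (u * a * u⁻¹) * (v * b * v⁻¹)} ≠ {g | IsConj c g} := by
  classical
  intro hEq
  obtain ⟨A, rfl⟩ := QuotientGroup.mk_surjective a
  obtain ⟨B, rfl⟩ := QuotientGroup.mk_surjective b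
  have hAc : A ∉ Subgroup.center (Matrix.SpecialLinearGroup (Fin 2) F) :=
    fun hc => ha ((QuotientGroup.eq_one_iff A).mpr hc)
  have hBc : B ∉ Subgroup.center (Matrix.SpecialLinearGroup (Fin 2) F) :=
    fun hc => hb ((QuotientGroup.eq_one_iff B).mpr hc)
  obtain ⟨Q₁, c₁, d₁, hcd₁, hQ₁⟩ := exists_companion A hAc
  obtain ⟨Q₂, c₂, d₂, hcd₂, hQ₂⟩ := exists_companion B hBc
  generalize (A : Matrix (Fin 2) (Fin 2) F) 0 0 + (A : Matrix (Fin 2) (Fin 2) F) 1 1 = α at hQ₁
  generalize (B : Matrix (Fin 2) (Fin 2) F) 0 0 + (B : Matrix (Fin 2) (Fin 2) F) 1 1 = β at hQ₂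
  have hd₁ : d₁ ≠ 0 := by
    rintro rfl
    simp at hcd₁
  have hd₂ : d₂ ≠ 0 := by
    rintro rfl
    simp at hcd₂
  obtain ⟨C₁, hC₁⟩ : ∃ C₁ : Matrix.SpecialLinearGroup (Fin 2) F,
      (C₁ : Matrix (Fin 2) (Fin 2) F) = !![0, -c₁; d₁, α] :=
    ⟨mkSL 0 (-c₁) d₁ α (by linear_combination hcd₁), rfl⟩
  obtain ⟨C₂, hC₂⟩ : ∃ C₂ : Matrix.SpecialLinearGroup (Fin 2) F,
      (C₂ : Matrix (Fin 2) (Fin 2) F) = !![0, -c₂; d₂, β] :=
    ⟨mkSL 0 (-c₂) d₂ β (by linear_combination hcd₂), rfl⟩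
  have hA : A * Q₁ = Q₁ * C₁ := by
    apply Subtype.ext
    rw [Matrix.SpecialLinearGroup.coe_mul, Matrix.SpecialLinearGroup.coe_mul, hC₁]
    exact hQ₁
  have hB : B * Q₂ = Q₂ * C₂ := by
    apply Subtype.ext
    rw [Matrix.SpecialLinearGroup.coe_mul, Matrix.SpecialLinearGroup.coe_mul, hC₂]
    exact hQ₂
  have e1 : C₁ = Q₁⁻¹ * A * Q₁ := by rw [mul_assoc, hA]; group
  have e2 : C₂ = Q₂⁻¹ * B * Q₂ := by rw [mul_assoc, hB]; group
  -- the family of products
  have hmem : ∀ x : F, (QuotientGroup.mk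
        (C₁ * (mkSL 1 x 0 1 (by ring) * C₂ * (mkSL 1 x 0 1 (by ring))⁻¹)) :
        Matrix.ProjectiveSpecialLinearGroup (Fin 2) F)
      ∈ {g : Matrix.ProjectiveSpecialLinearGroup (Fin 2) F | IsConj c g} := by
    intro x
    rw [← hEq]
    refine ⟨QuotientGroup.mk Q₁⁻¹, QuotientGroup.mk (mkSL 1 x 0 1 (by ring) * Q₂⁻¹), ?_⟩
    rw [e1, e2]
    simp only [QuotientGroup.mk_mul, QuotientGroup.mk_inv]
    group
  have htr : ∀ x : F,
      ((C₁ * (mkSL 1 x 0 1 (by ring) * C₂ * (mkSL 1 x 0 1 (by ring))⁻¹) :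
        Matrix.SpecialLinearGroup (Fin 2) F) : Matrix (Fin 2) (Fin 2) F) 0 0
      + ((C₁ * (mkSL 1 x 0 1 (by ring) * C₂ * (mkSL 1 x 0 1 (by ring))⁻¹) :
        Matrix.SpecialLinearGroup (Fin 2) F) : Matrix (Fin 2) (Fin 2) F) 1 1
      = -(d₁ * d₂) * x ^ 2 + (d₁ * β - α * d₂) * x + (α * β - c₁ * d₂ - d₁ * c₂) := by
    intro x
    simp only [Matrix.SpecialLinearGroup.coe_mul, Matrix.SpecialLinearGroup.coe_inv, mkSL_coe,
      Matrix.adjugate_fin_two_of, hC₁, hC₂, Matrix.mul_fin_two]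
    simp
    ring
  have hconj : ∀ x : F,
      (-(d₁ * d₂) * x ^ 2 + (d₁ * β - α * d₂) * x + (α * β - c₁ * d₂ - d₁ * c₂)) ^ 2
        = (α * β - c₁ * d₂ - d₁ * c₂) ^ 2 := by
    intro x
    have h0 := hmem 0
    have hx := hmem x
    have hc : IsConj (QuotientGroup.mk
        (C₁ * (mkSL 1 0 0 1 (by ring) * C₂ * (mkSL 1 0 0 1 (by ring))⁻¹)) :
        Matrix.ProjectiveSpecialLinearGroup (Fin 2) F)
        (QuotientGroup.mk (C₁ * (mkSL 1 x 0 1 (by ring) * C₂ * (mkSL 1 x 0 1 (by ring))⁻¹))) :=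
      (IsConj.symm h0).trans hx
    obtain ⟨h, hh⟩ := isConj_iff.mp hc
    obtain ⟨H, rfl⟩ := QuotientGroup.mk_surjective h
    have t0 := htr 0
    have tx := htr x
    generalize C₁ * (mkSL 1 0 0 1 (by ring) * C₂ * (mkSL 1 0 0 1 (by ring))⁻¹) = M₀ at hh t0
    generalize C₁ * (mkSL 1 x 0 1 (by ring) * C₂ * (mkSL 1 x 0 1 (by ring))⁻¹) = Mx at hh tx
    have h1 : (QuotientGroup.mk (H * M₀ * H⁻¹) : Matrix.ProjectiveSpecialLinearGroup (Fin 2) F)
        = QuotientGroup.mk Mx := hh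
    rw [QuotientGroup.eq, mem_center_iff_smul] at h1
    obtain ⟨ε, hε, hε'⟩ := h1
    have h2 : (Mx : Matrix (Fin 2) (Fin 2) F)
        = ε • ((H * M₀ * H⁻¹ : Matrix.SpecialLinearGroup (Fin 2) F) : Matrix (Fin 2) (Fin 2) F) := by
      have h3 : Mx = (H * M₀ * H⁻¹) * ((H * M₀ * H⁻¹)⁻¹ * Mx) := by group
      calc (Mx : Matrix (Fin 2) (Fin 2) F)
          = (((H * M₀ * H⁻¹) * ((H * M₀ * H⁻¹)⁻¹ * Mx) : Matrix.SpecialLinearGroup (Fin 2) F) :
            Matrix (Fin 2) (Fin 2) F) := by rw [← h3]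
        _ = ε • ((H * M₀ * H⁻¹ : Matrix.SpecialLinearGroup (Fin 2) F) :
            Matrix (Fin 2) (Fin 2) F) := by
          rw [Matrix.SpecialLinearGroup.coe_mul, hε', mul_smul_comm, mul_one]
    have h4 := trace_conj H M₀
    have h5 : (Mx : Matrix (Fin 2) (Fin 2) F) 0 0 + (Mx : Matrix (Fin 2) (Fin 2) F) 1 1
        = ε * ((M₀ : Matrix (Fin 2) (Fin 2) F) 0 0 + (M₀ : Matrix (Fin 2) (Fin 2) F) 1 1) := by
      rw [h2, Matrix.smul_apply, Matrix.smul_apply, smul_eq_mul, smul_eq_mul, ← mul_add, h4]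
    rw [tx, t0] at h5
    have h6 : (-(d₁ * d₂) * x ^ 2 + (d₁ * β - α * d₂) * x + (α * β - c₁ * d₂ - d₁ * c₂)) ^ 2
        = ε ^ 2 * (α * β - c₁ * d₂ - d₁ * c₂) ^ 2 := by
      rw [h5]
      ring
    rw [h6, hε, one_mul]
  obtain ⟨x, hx⟩ := exists_sq_ne h4 (-(d₁ * d₂)) (d₁ * β - α * d₂) (α * β - c₁ * d₂ - d₁ * c₂)
    (neg_ne_zero.mpr (mul_ne_zero hd₁ hd₂))
  exact hx (hconj x)

end Cfsg.Agent.S2450
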