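import Mathlib
import Cfsg.Statements.S2455
import Cfsg.Agent.Lib.helper46.SL2Products

set_option autoImplicit false
open Cfsg

namespace Cfsg.Agent.S2455

open Cfsg.Agent.Lib.helper46

/-- A strong covering result in the direction of Thompson's conjecture (non-identity elements) for PSL(2,q), q odd: let F be a finite field of odd characteristic p with at least 5 elements and let x ∈ PSL(2,F) have order greater than 2 and not divisible by p (so x is not unipotent). Then every non-identity element of PSL(2,F) is a product of two conjugates of x. -/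
theorem result {F : Type*} [Field F] [Fintype F] (p : ℕ) [Fact p.Prime] [CharP F p] (hp : p ≠ 2) (h5 : 5 ≤ Fintype.card F)
    (x : Matrix.ProjectiveSpecialLinearGroup (Fin 2) F) (hx2 : 2 < orderOf x) (hxp : ¬ p ∣ orderOf x) : ∀ g : Matrix.ProjectiveSpecialLinearGroup (Fin 2) F, g ≠ 1 → ∃ u v : Matrix.ProjectiveSpecialLinearGroup (Fin 2) F, g = (u * x * u⁻¹) * (v * x * v⁻¹) := by
  classical
  intro g hg
  obtain ⟨X, rfl⟩ := QuotientGroup.mk_surjective x
  obtain ⟨G, rfl⟩ := QuotientGroup.mk_surjective g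
  have hpp : p.Prime := Fact.out
  have hodd : Odd (Fintype.card F) := by
    rw [Nat.odd_iff]
    by_contra h
    have h0 : Fintype.card F % 2 = 0 := by omega
    have h1 := FiniteField.even_card_iff_char_two.mpr h0
    rw [ringChar.eq F p] at h1
    exact hp h1
  have h2 : (2 : F) ≠ 0 := two_ne_zero_of_odd_card hodd
  generalize hτ : (X : Matrix (Fin 2) (Fin 2) F) 0 0 + (X : Matrix (Fin 2) (Fin 2) F) 1 1 = τ
  have hτ0 : τ ≠ 0 := by
    intro h0
    have hCH := cayley_two (X : Matrix (Fin 2) (Fin 2) F) X.det_coe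
    rw [hτ, h0, zero_smul, zero_sub] at hCH
    have h1 : (QuotientGroup.mk X : Matrix.ProjectiveSpecialLinearGroup (Fin 2) F) ^ 2 = 1 := by
      rw [mk_pow_eq_one_iff]
      exact ⟨-1, by norm_num, by rw [pow_two, hCH, neg_smul, one_smul]⟩
    have := orderOf_le_of_pow_eq_one (by norm_num) h1
    omega
  have hτ4 : τ ^ 2 ≠ 4 := by
    intro h4
    have hfac : (τ - 2) * (τ + 2) = 0 := by linear_combination h4
    have key : ∀ l : F, l * l = 1 → τ = 2 * l → False := by
      intro l hl ht
      have h1 := pow_char_eq_of_trace p (X : Matrix (Fin 2) (Fin 2) F) X.det_coe l hl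
        (by rw [hτ]; exact ht)
      have h2' : (QuotientGroup.mk X : Matrix.ProjectiveSpecialLinearGroup (Fin 2) F) ^ p = 1 := by
        rw [mk_pow_eq_one_iff]
        exact ⟨l ^ p, by rw [← pow_mul, mul_comm, pow_mul, pow_two, hl, one_pow], h1⟩
      have h3 := orderOf_dvd_of_pow_eq_one h2'
      rcases (Nat.dvd_prime hpp).mp h3 with h4 | h4
      · omega
      · exact hxp (h4 ▸ dvd_rfl)
    rcases mul_eq_zero.mp hfac with h | h
    · exact key 1 (by ring) (by linear_combination h)
    · exact key (-1) (by ring) (by linear_combination h)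
  have hGc : G ∉ Subgroup.center (Matrix.SpecialLinearGroup (Fin 2) F) := by
    intro hc
    apply hg
    exact (QuotientGroup.eq_one_iff G).mpr hc
  have lift : ∀ G' : Matrix.SpecialLinearGroup (Fin 2) F,
      (QuotientGroup.mk G' : Matrix.ProjectiveSpecialLinearGroup (Fin 2) F) = QuotientGroup.mk G →
      (∃ h₁ h₂ : Matrix.SpecialLinearGroup (Fin 2) F, G' = (h₁ * X * h₁⁻¹) * (h₂ * X * h₂⁻¹)) →
      ∃ u v : Matrix.ProjectiveSpecialLinearGroup (Fin 2) F,
        (QuotientGroup.mk G : Matrix.ProjectiveSpecialLinearGroup (Fin 2) F)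
          = (u * QuotientGroup.mk X * u⁻¹) * (v * QuotientGroup.mk X * v⁻¹) := by
    rintro G' hG' ⟨h₁, h₂, hh⟩
    refine ⟨QuotientGroup.mk h₁, QuotientGroup.mk h₂, ?_⟩
    rw [← hG', hh]
    rfl
  by_cases hroot : ∃ l : F, l ^ 2 - τ * l + 1 = 0
  · obtain ⟨l, hl⟩ := hroot
    have hl2 : l ^ 2 ≠ 1 := by
      intro h
      apply hτ4
      have h3 : τ * l = 2 := by linear_combination (-1 : F) * hl + h
      calc τ ^ 2 = (τ * l) ^ 2 := by rw [mul_pow, h, mul_one]
        _ = 4 := by rw [h3]; norm_num
    exact lift G rfl (prod_of_split X G hGc l (by rw [hτ]; exact hl) hl2)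
  · push Not at hroot
    by_cases hσ : (G : Matrix (Fin 2) (Fin 2) F) 0 0 + (G : Matrix (Fin 2) (Fin 2) F) 1 1 = 2
    · -- pass to `-G`
      have hZc : mkSL (-1 : F) 0 0 (-1) (by ring)
          ∈ Subgroup.center (Matrix.SpecialLinearGroup (Fin 2) F) := by
        rw [mem_center_iff_smul]
        refine ⟨-1, by norm_num, ?_⟩
        rw [mkSL_coe]
        ext i j
        fin_cases i <;> fin_cases j <;> simp
      have hG'c : mkSL (-1 : F) 0 0 (-1) (by ring) * G
          ∉ Subgroup.center (Matrix.SpecialLinearGroup (Fin 2) F) := by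
        intro hc
        apply hGc
        have := Subgroup.mul_mem _ (Subgroup.inv_mem _ hZc) hc
        rwa [inv_mul_cancel_left] at this
      have hmk : (QuotientGroup.mk (mkSL (-1 : F) 0 0 (-1) (by ring) * G) :
          Matrix.ProjectiveSpecialLinearGroup (Fin 2) F) = QuotientGroup.mk G := by
        rw [QuotientGroup.mk_mul, (QuotientGroup.eq_one_iff _).mpr hZc, one_mul]
      have hσ' : ((mkSL (-1 : F) 0 0 (-1) (by ring) * G : Matrix.SpecialLinearGroup (Fin 2) F) :
            Matrix (Fin 2) (Fin 2) F) 0 0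
          + ((mkSL (-1 : F) 0 0 (-1) (by ring) * G : Matrix.SpecialLinearGroup (Fin 2) F) :
            Matrix (Fin 2) (Fin 2) F) 1 1 ≠ 2 := by
        rw [Matrix.SpecialLinearGroup.coe_mul, mkSL_coe]
        simp only [Matrix.mul_apply, Fin.sum_univ_two, Matrix.of_apply, Matrix.cons_val',
          Matrix.cons_val_zero, Matrix.cons_val_one, Matrix.cons_val_fin_one]
        intro h
        apply h2
        have h4 : (4 : F) = 0 := by linear_combination (-1 : F) * h - hσ
        have h5' : (2 : F) * 2 = 0 := by linear_combination h4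
        rcases mul_eq_zero.mp h5' with h6 | h6 <;> exact h6
      exact lift _ hmk (prod_of_nonsplit hodd X _ hG'c (by rw [hτ]; exact hτ0)
        (by rw [hτ]; exact hroot) hσ')
    · exact lift G rfl (prod_of_nonsplit hodd X G hGc (by rw [hτ]; exact hτ0)
        (by rw [hτ]; exact hroot) hσ)

end Cfsg.Agent.S2455
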