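import Mathlib
import Cfsg.Statements.S2456
import Cfsg.Agent.Lib.helper46.SL2Products

set_option autoImplicit false
open Cfsg

namespace Cfsg.Agent.S2456

open Cfsg.Agent.Lib.helper46

/-- A strong covering result in the direction of Thompson's conjecture (non-identity elements) for PSL(2,q), q even: let F be a finite field of characteristic 2 with q ≥ 4 elements and let x ∈ PSL(2,F) have order greater than 2 and not dividing q + 1. Then every non-identity element of PSL(2,F) is a product of two conjugates of x. -/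
theorem result {F : Type*} [Field F] [Fintype F] [CharP F 2] (h4 : 4 ≤ Fintype.card F)
    (x : Matrix.ProjectiveSpecialLinearGroup (Fin 2) F) (hx2 : 2 < orderOf x) (hxq : ¬ orderOf x ∣ Fintype.card F + 1) : ∀ g : Matrix.ProjectiveSpecialLinearGroup (Fin 2) F, g ≠ 1 → ∃ u v : Matrix.ProjectiveSpecialLinearGroup (Fin 2) F, g = (u * x * u⁻¹) * (v * x * v⁻¹) := by
  classical
  intro g hg
  obtain ⟨X, rfl⟩ := QuotientGroup.mk_surjective x
  obtain ⟨G, rfl⟩ := QuotientGroup.mk_surjective g
  have h20 : (2 : F) = 0 := by exact_mod_cast CharP.cast_eq_zero F 2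
  generalize hτ : (X : Matrix (Fin 2) (Fin 2) F) 0 0 + (X : Matrix (Fin 2) (Fin 2) F) 1 1 = τ
  have hτ0 : τ ≠ 0 := by
    intro h0
    have hCH := cayley_two (X : Matrix (Fin 2) (Fin 2) F) X.det_coe
    rw [hτ, h0, zero_smul, zero_sub] at hCH
    have h1 : (QuotientGroup.mk X : Matrix.ProjectiveSpecialLinearGroup (Fin 2) F) ^ 2 = 1 := by
      rw [mk_pow_eq_one_iff]
      exact ⟨-1, by norm_num, by rw [pow_two, hCH, neg_smul, one_smul]⟩
    have := orderOf_le_of_pow_eq_one (by norm_num) h1
    omega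
  have hroot : ∃ l : F, l ^ 2 - τ * l + 1 = 0 := by
    by_contra hno
    push Not at hno
    have h1 := pow_card_add_one_of_noroot (X : Matrix (Fin 2) (Fin 2) F) X.det_coe
      (by rw [hτ]; exact hno)
    have h2 : (QuotientGroup.mk X : Matrix.ProjectiveSpecialLinearGroup (Fin 2) F)
        ^ (Fintype.card F + 1) = 1 := by
      rw [mk_pow_eq_one_iff]
      exact ⟨1, by norm_num, by rw [h1, one_smul]⟩
    exact hxq (orderOf_dvd_of_pow_eq_one h2)
  obtain ⟨l, hl⟩ := hroot
  have hl2 : l ^ 2 ≠ 1 := by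
    intro h
    apply hτ0
    have h3 : τ * l = 0 := by linear_combination (-1 : F) * hl + h + h20
    have hl0 : l ≠ 0 := by
      rintro rfl
      simp at h
    rcases mul_eq_zero.mp h3 with h5 | h5
    · exact h5
    · exact absurd h5 hl0
  have hGc : G ∉ Subgroup.center (Matrix.SpecialLinearGroup (Fin 2) F) := by
    intro hc
    apply hg
    exact (QuotientGroup.eq_one_iff G).mpr hc
  obtain ⟨h₁, h₂, hh⟩ := prod_of_split X G hGc l (by rw [hτ]; exact hl) hl2
  refine ⟨QuotientGroup.mk h₁, QuotientGroup.mk h₂, ?_⟩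
  rw [hh]
  rfl

end Cfsg.Agent.S2456
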