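import Cfsg.Statements.S2459
import Cfsg.Agent.Lib.helper64.SL3Cover

set_option autoImplicit false
open Cfsg

namespace Cfsg.Agent.S2459

open Matrix MatrixGroups Cfsg.Agent.Lib.helper64.SL3Cover

/-- the covering statement in `SL(3,F)`: a semisimple `x` whose class squared contains every
noncentral element -/
theorem cover_sl {F : Type*} [Field F] [Fintype F] (p : ℕ) [Fact p.Prime] [CharP F p]
    (h3 : 3 ≤ Fintype.card F) :
    ∃ (x : SL(3, F)) (m : ℕ), ¬ p ∣ m ∧ x ^ m = 1 ∧
      ∀ g : SL(3, F), g ∉ Subgroup.center SL(3, F) →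
        ∃ u v : SL(3, F), g = u * x * u⁻¹ * (v * x * v⁻¹) := by
  classical
  have hp : p.Prime := Fact.out
  have hpq : p ∣ Fintype.card F :=
    (CharP.cast_eq_zero_iff F p _).mp (Nat.cast_card_eq_zero F)
  by_cases h4 : 4 ≤ Fintype.card F
  · obtain ⟨t, ht0, ht1, htm⟩ : ∃ t : F, t ≠ 0 ∧ t ≠ 1 ∧ t ≠ -1 := by
      by_contra hcon
      push Not at hcon
      have hsub : (Finset.univ : Finset F) ⊆ {0, 1, -1} := by
        intro t _
        by_cases h0 : t = 0
        · simp [h0]
        · by_cases h1 : t = 1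
          · simp [h1]
          · simp [hcon t h0 h1]
      have hle := Finset.card_le_card hsub
      have h3' := Finset.card_le_three (a := (0 : F)) (b := 1) (c := -1)
      rw [Finset.card_univ] at hle
      omega
    have ht2 : t * t ≠ 1 := by
      intro h
      have h' : (t - 1) * (t + 1) = 0 := by linear_combination h
      rcases mul_eq_zero.mp h' with h | h
      · exact ht1 (by linear_combination h)
      · exact htm (by linear_combination h)
    let x : SL(3, F) := ⟨!![1, 0, 0; 0, t, 0; 0, 0, t⁻¹], by simp [det_fin_three, ht0]⟩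
    refine ⟨x, Fintype.card F - 1, ?_, ?_, fun g hg => cover_of_four t ht0 ht1 ht2 x rfl g hg⟩
    · intro hdvd
      have h1 : p ∣ 1 := by
        have h := Nat.dvd_sub hpq hdvd
        rwa [show Fintype.card F - (Fintype.card F - 1) = 1 by omega] at h
      exact hp.one_lt.ne' (Nat.dvd_one.mp h1)
    · apply Subtype.ext
      rw [Matrix.SpecialLinearGroup.coe_pow, Matrix.SpecialLinearGroup.coe_one]
      show (!![1, 0, 0; 0, t, 0; 0, 0, t⁻¹] : Matrix (Fin 3) (Fin 3) F) ^ (Fintype.card F - 1) = 1
      have hd : (!![1, 0, 0; 0, t, 0; 0, 0, t⁻¹] : Matrix (Fin 3) (Fin 3) F)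
          = Matrix.diagonal ![1, t, t⁻¹] := by
        ext i j
        fin_cases i <;> fin_cases j <;> simp
      rw [hd, Matrix.diagonal_pow]
      ext i j
      fin_cases i <;> fin_cases j <;> simp [FiniteField.pow_card_sub_one_eq_one, ht0]
  · have hF : Fintype.card F = 3 := by omega
    obtain ⟨x, hx, hcov⟩ := cover_of_three hF
    refine ⟨x, 8, ?_, hx, hcov⟩
    intro hdvd
    have hp3 : p ∣ 3 := hF ▸ hpq
    have h3eq : p = 3 := (Nat.prime_dvd_prime_iff_eq hp Nat.prime_three).mp hp3
    rw [h3eq] at hdvd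
    omega

/-- A form of Thompson's conjecture for PSL(3,q), q > 2 (covering the non-identity elements), with a semisimple class: for F a finite field of characteristic p with more than 2 elements there is an element x of PSL(3,F) of order prime to p such that every non-identity element of PSL(3,F) is a product of two conjugates of x. -/
theorem result {F : Type*} [Field F] [Fintype F] (p : ℕ) [Fact p.Prime] [CharP F p] (h3 : 3 ≤ Fintype.card F) :
    ∃ x : Matrix.ProjectiveSpecialLinearGroup (Fin 3) F, ¬ p ∣ orderOf x ∧ ∀ g : Matrix.ProjectiveSpecialLinearGroup (Fin 3) F, g ≠ 1 → ∃ u v : Matrix.ProjectiveSpecialLinearGroup (Fin 3) F, g = (u * x * u⁻¹) * (v * x * v⁻¹) := by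
  obtain ⟨x, m, hm, hxm, hcov⟩ := cover_sl (F := F) p h3
  refine ⟨(QuotientGroup.mk x : Matrix.ProjectiveSpecialLinearGroup (Fin 3) F), ?_, ?_⟩
  · intro hdvd
    apply hm
    refine hdvd.trans (orderOf_dvd_of_pow_eq_one ?_)
    rw [← QuotientGroup.mk_pow, hxm, QuotientGroup.mk_one]
  · intro g hg
    obtain ⟨g', rfl⟩ := QuotientGroup.mk_surjective g
    have hg' : g' ∉ Subgroup.center SL(3, F) := by
      intro h
      exact hg ((QuotientGroup.eq_one_iff g').mpr h)
    obtain ⟨u, v, huv⟩ := hcov g' hg'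
    exact ⟨QuotientGroup.mk u, QuotientGroup.mk v, by rw [huv]; rfl⟩

end Cfsg.Agent.S2459
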