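import Mathlib
import Cfsg.Statements.S2466

set_option autoImplicit false
open Cfsg

namespace Cfsg.Agent.S2466

/-- A prime dividing the lcm of a multiset of naturals divides one of its members. -/
theorem prime_dvd_lcm_multiset {p : ℕ} (hp : p.Prime) (m : Multiset ℕ) (h : p ∣ m.lcm) :
    ∃ a ∈ m, p ∣ a := by
  induction m using Multiset.induction_on with
  | empty =>
    simp only [Multiset.lcm_zero, Nat.dvd_one] at h
    exact absurd h hp.one_lt.ne'
  | cons a s ih =>
    rw [Multiset.lcm_cons] at h
    rcases Nat.Prime.dvd_or_dvd_of_dvd_lcm hp h with h | h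
    · exact ⟨a, Multiset.mem_cons_self a s, h⟩
    · obtain ⟨b, hb, hpb⟩ := ih h
      exact ⟨b, Multiset.mem_cons_of_mem hb, hpb⟩

/-- Adjacency of odd primes in the prime graph of the alternating groups: let r ≠ s be odd primes at most n. The alternating group of degree n has an element of order r·s if and only if r + s ≤ n. -/
theorem result (n r s : ℕ) (hr : r.Prime) (hs : s.Prime) (hr2 : r ≠ 2) (hs2 : s ≠ 2) (hrs : r ≠ s) (hrn : r ≤ n) (hsn : s ≤ n) :
    (r * s ∈ Set.range (orderOf : alternatingGroup (Fin n) → ℕ)) ↔ r + s ≤ n := by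
  constructor
  · rintro ⟨g, hg⟩
    rw [← Subgroup.orderOf_coe, ← Equiv.Perm.lcm_cycleType] at hg
    have hsum : (g : Equiv.Perm (Fin n)).cycleType.sum ≤ n := by
      simpa using Equiv.Perm.sum_cycleType_le (g : Equiv.Perm (Fin n))
    obtain ⟨a, ha, hra⟩ := prime_dvd_lcm_multiset hr _ (hg ▸ Dvd.intro _ rfl)
    obtain ⟨b, hb, hsb⟩ := prime_dvd_lcm_multiset hs _ (hg ▸ Dvd.intro_left _ rfl)
    have hcop : Nat.Coprime r s := (Nat.coprime_primes hr hs).mpr hrs
    have hr2' : 2 ≤ r := hr.two_le
    have hs2' : 2 ≤ s := hs.two_le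
    by_cases hab : a = b
    · subst hab
      have hrsa : r * s ∣ a := hcop.mul_dvd_of_dvd_of_dvd hra hsb
      have ha0 : 0 < a := by
        have := Equiv.Perm.two_le_of_mem_cycleType ha
        omega
      have h1 : r * s ≤ a := Nat.le_of_dvd ha0 hrsa
      have h2 : a ≤ (g : Equiv.Perm (Fin n)).cycleType.sum := Multiset.le_sum_of_mem ha
      nlinarith
    · have hb' : b ∈ (g : Equiv.Perm (Fin n)).cycleType.erase a :=
        (Multiset.mem_erase_of_ne (Ne.symm hab)).mpr hb
      have h1 : (g : Equiv.Perm (Fin n)).cycleType.sum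
          = a + ((g : Equiv.Perm (Fin n)).cycleType.erase a).sum := by
        rw [← Multiset.sum_cons, Multiset.cons_erase ha]
      have h2 : b ≤ ((g : Equiv.Perm (Fin n)).cycleType.erase a).sum := Multiset.le_sum_of_mem hb'
      have ha0 : 0 < a := by
        have := Equiv.Perm.two_le_of_mem_cycleType ha
        omega
      have hb0 : 0 < b := by
        have := Equiv.Perm.two_le_of_mem_cycleType hb
        omega
      have h3 : r ≤ a := Nat.le_of_dvd ha0 hra
      have h4 : s ≤ b := Nat.le_of_dvd hb0 hsb
      omega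
  · intro h
    have hex : ∃ g : Equiv.Perm (Fin n), g.cycleType = ({r, s} : Multiset ℕ) := by
      rw [Equiv.Perm.exists_with_cycleType_iff]
      refine ⟨by simpa using h, ?_⟩
      intro a ha
      simp only [Multiset.insert_eq_cons, Multiset.mem_cons, Multiset.mem_singleton] at ha
      rcases ha with rfl | rfl
      · exact hr.two_le
      · exact hs.two_le
    obtain ⟨g, hg⟩ := hex
    have hrodd : Odd r := hr.odd_of_ne_two hr2
    have hsodd : Odd s := hs.odd_of_ne_two hs2
    have hsign : Equiv.Perm.sign g = 1 := by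
      rw [Equiv.Perm.sign_of_cycleType, hg]
      have : Even (({r, s} : Multiset ℕ).sum + Multiset.card ({r, s} : Multiset ℕ)) := by
        simp only [Multiset.insert_eq_cons, Multiset.sum_cons, Multiset.sum_singleton,
          Multiset.card_cons, Multiset.card_singleton]
        exact (hrodd.add_odd hsodd).add (by decide)
      exact Even.neg_one_pow this
    have hmem : g ∈ alternatingGroup (Fin n) := Equiv.Perm.mem_alternatingGroup.mpr hsign
    refine ⟨⟨g, hmem⟩, ?_⟩
    rw [← Subgroup.orderOf_coe]
    change orderOf g = r * s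
    rw [← Equiv.Perm.lcm_cycleType, hg]
    have hcop : Nat.Coprime r s := (Nat.coprime_primes hr hs).mpr hrs
    simp only [Multiset.insert_eq_cons, Multiset.lcm_cons, Multiset.lcm_singleton]
    simp [lcm_eq_nat_lcm, hcop.lcm_eq_mul]

end Cfsg.Agent.S2466
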