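import Mathlib
import Cfsg.Statements.S2467

set_option autoImplicit false
open Cfsg

namespace Cfsg.Agent.S2467

/-- A prime dividing the lcm of a multiset of naturals divides one of its members. -/
theorem prime_dvd_lcm_multiset {p : ℕ} (hp : p.Prime) (m : Multiset ℕ) (h : p ∣ m.lcm) :
    ∃ a ∈ m, p ∣ a := by
  induction m using Multiset.induction_on with
  | empty =>
    simp only [Multiset.lcm_zero, Nat.dvd_one] at h
    exact absurd h hp.one_lt.ne'
  | cons a s ih =>
    rw [Multiset.lcm_cons] at h
    rcases Nat.Prime.dvd_or_dvd_of_dvd_lcm hp h with h | h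
    · exact ⟨a, Multiset.mem_cons_self a s, h⟩
    · obtain ⟨b, hb, hpb⟩ := ih h
      exact ⟨b, Multiset.mem_cons_of_mem hb, hpb⟩

/-- The combinatorial core: a multiset of parts `≥ 2` with even `sum + card` whose lcm is `2 * r`
(`r` an odd prime) has sum at least `r + 4`. -/
theorem sum_ge_of_lcm (T : Multiset ℕ) (r : ℕ) (hr : r.Prime) (hr2 : r ≠ 2)
    (h2 : ∀ a ∈ T, 2 ≤ a) (hpar : Even (T.sum + Multiset.card T)) (hlcm : T.lcm = 2 * r) :
    r + 4 ≤ T.sum := by
  have hr3 : 3 ≤ r := by
    have := hr.two_le
    omega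
  obtain ⟨a, ha, hra⟩ := prime_dvd_lcm_multiset hr T (hlcm ▸ Dvd.intro_left _ rfl)
  have ha2 : 2 ≤ a := h2 a ha
  have hra' : r ≤ a := Nat.le_of_dvd (by omega) hra
  have hT : T = a ::ₘ T.erase a := (Multiset.cons_erase ha).symm
  by_cases hae : Even a
  · -- `a` is divisible by `2 * r`
    have h2ra : 2 * r ∣ a := by
      have hcop : Nat.Coprime 2 r := (Nat.coprime_primes Nat.prime_two hr).mpr (Ne.symm hr2)
      exact hcop.mul_dvd_of_dvd_of_dvd hae.two_dvd hra
    have h2ra' : 2 * r ≤ a := Nat.le_of_dvd (by omega) h2ra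
    rcases Multiset.empty_or_exists_mem (T.erase a) with h0 | ⟨c, hc⟩
    · exfalso
      rw [hT, h0] at hpar
      simp only [Multiset.cons_zero, Multiset.sum_singleton, Multiset.card_singleton] at hpar
      exact (Nat.not_even_iff_odd.mpr (hae.add_one)) hpar
    · have hc2 : 2 ≤ c := h2 c (Multiset.mem_of_mem_erase hc)
      have h1 : c ≤ (T.erase a).sum := Multiset.le_sum_of_mem hc
      have h3 : T.sum = a + (T.erase a).sum := by
        conv_lhs => rw [hT]
        rw [Multiset.sum_cons]
      omega
  · -- `a` is odd; find an even part `b ≠ a`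
    obtain ⟨b, hb, h2b⟩ := prime_dvd_lcm_multiset Nat.prime_two T (hlcm ▸ Dvd.intro _ rfl)
    have hab : b ≠ a := by
      rintro rfl
      exact hae (even_iff_two_dvd.mpr h2b)
    have hb' : b ∈ T.erase a := (Multiset.mem_erase_of_ne hab).mpr hb
    have hb2 : 2 ≤ b := h2 b hb
    have hT' : T.erase a = b ::ₘ (T.erase a).erase b := (Multiset.cons_erase hb').symm
    have h3 : T.sum = a + (b + ((T.erase a).erase b).sum) := by
      conv_lhs => rw [hT, hT']
      rw [Multiset.sum_cons, Multiset.sum_cons]
    rcases Multiset.empty_or_exists_mem ((T.erase a).erase b) with h0 | ⟨c, hc⟩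
    · exfalso
      rw [hT, hT', h0] at hpar
      simp only [Multiset.cons_zero, Multiset.sum_cons, Multiset.sum_singleton, Multiset.card_cons,
        Multiset.card_singleton] at hpar
      have hodd : Odd a := Nat.not_even_iff_odd.mp hae
      have hbe : Even b := even_iff_two_dvd.mpr h2b
      have : Odd (a + b + (1 + 1)) := (hodd.add_even hbe).add_even (by decide)
      exact (Nat.not_even_iff_odd.mpr this) hpar
    · have hc2 : 2 ≤ c := h2 c (Multiset.mem_of_mem_erase (Multiset.mem_of_mem_erase hc))
      have h1 : c ≤ ((T.erase a).erase b).sum := Multiset.le_sum_of_mem hc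
      omega

/-- Adjacency of 2 and an odd prime in the prime graph of the alternating groups: let r be an odd prime at most n, with n ≥ 4. The alternating group of degree n has an element of order 2r if and only if r + 4 ≤ n. -/
theorem result (n r : ℕ) (hn : 4 ≤ n) (hr : r.Prime) (hr2 : r ≠ 2) (hrn : r ≤ n) :
    (2 * r ∈ Set.range (orderOf : alternatingGroup (Fin n) → ℕ)) ↔ r + 4 ≤ n := by
  constructor
  · rintro ⟨g, hg⟩
    rw [← Subgroup.orderOf_coe, ← Equiv.Perm.lcm_cycleType] at hg
    have hsum : (g : Equiv.Perm (Fin n)).cycleType.sum ≤ n := by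
      simpa using Equiv.Perm.sum_cycleType_le (g : Equiv.Perm (Fin n))
    have hsign : Equiv.Perm.sign (g : Equiv.Perm (Fin n)) = 1 :=
      Equiv.Perm.mem_alternatingGroup.mp g.2
    rw [Equiv.Perm.sign_of_cycleType] at hsign
    have hpar : Even ((g : Equiv.Perm (Fin n)).cycleType.sum
        + Multiset.card (g : Equiv.Perm (Fin n)).cycleType) := by
      by_contra hne
      rw [Nat.not_even_iff_odd] at hne
      rw [hne.neg_one_pow] at hsign
      exact absurd hsign (by decide)
    have := sum_ge_of_lcm _ r hr hr2 (fun a ha => Equiv.Perm.two_le_of_mem_cycleType ha) hpar hg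
    omega
  · intro h
    have hex : ∃ g : Equiv.Perm (Fin n), g.cycleType = ({r, 2, 2} : Multiset ℕ) := by
      rw [Equiv.Perm.exists_with_cycleType_iff]
      refine ⟨by simpa using by omega, ?_⟩
      intro a ha
      simp only [Multiset.insert_eq_cons, Multiset.mem_cons, Multiset.mem_singleton] at ha
      rcases ha with rfl | rfl | rfl
      · exact hr.two_le
      · exact le_rfl
      · exact le_rfl
    obtain ⟨g, hg⟩ := hex
    have hrodd : Odd r := hr.odd_of_ne_two hr2
    have hsign : Equiv.Perm.sign g = 1 := by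
      rw [Equiv.Perm.sign_of_cycleType, hg]
      have : Even (({r, 2, 2} : Multiset ℕ).sum + Multiset.card ({r, 2, 2} : Multiset ℕ)) := by
        simp only [Multiset.insert_eq_cons, Multiset.sum_cons, Multiset.sum_singleton,
          Multiset.card_cons, Multiset.card_singleton]
        have : r + (2 + 2) + (1 + 1 + 1) = (r + 1) + 6 := by ring
        rw [this]
        exact (hrodd.add_one).add (by decide)
      exact Even.neg_one_pow this
    have hmem : g ∈ alternatingGroup (Fin n) := Equiv.Perm.mem_alternatingGroup.mpr hsign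
    refine ⟨⟨g, hmem⟩, ?_⟩
    rw [← Subgroup.orderOf_coe]
    change orderOf g = 2 * r
    rw [← Equiv.Perm.lcm_cycleType, hg]
    have hcop : Nat.Coprime r 2 := (Nat.coprime_primes hr Nat.prime_two).mpr hr2
    simp only [Multiset.insert_eq_cons, Multiset.lcm_cons, Multiset.lcm_singleton]
    simp [lcm_eq_nat_lcm, hcop.lcm_eq_mul, mul_comm]

end Cfsg.Agent.S2467
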