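import Cfsg.Statements.S2468
import Cfsg.Agent.Lib.helper64.PGBlocks

set_option autoImplicit false
open Cfsg

namespace Cfsg.Agent.S2468

open Polynomial Matrix Cfsg.Agent.Lib.helper64.PGBasic Cfsg.Agent.Lib.helper64.PGBlocks

/-- Adjacency of two odd primes in the prime graph of PSL(n,q): let F be a finite field of characteristic p with q elements, n ≥ 2 with PSL(n,F) simple, and let r ≠ s be odd primes different from p dividing the order of PSL(n,F). Let k and l be the multiplicative orders of q modulo r and modulo s, and suppose 2 ≤ k ≤ l. Then PSL(n,F) has NO element of order r·s if and only if k + l > n and k does not divide l. -/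
theorem result {F : Type*} [Field F] [Fintype F] (p : ℕ) [Fact p.Prime] [CharP F p] (n : ℕ) (hn : 2 ≤ n) (hsmall : n = 2 → 4 ≤ Fintype.card F)
    (r s : ℕ) (hr : r.Prime) (hs : s.Prime) (hr2 : r ≠ 2) (hs2 : s ≠ 2) (hrp : r ≠ p) (hsp : s ≠ p) (hrs : r ≠ s)
    (hrG : r ∣ Nat.card (Matrix.ProjectiveSpecialLinearGroup (Fin n) F)) (hsG : s ∣ Nat.card (Matrix.ProjectiveSpecialLinearGroup (Fin n) F))
    (k l : ℕ) (hk : k = orderOf ((Fintype.card F : ℕ) : ZMod r)) (hl : l = orderOf ((Fintype.card F : ℕ) : ZMod s))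
    (h2k : 2 ≤ k) (hkl : k ≤ l) :
    (r * s ∉ Set.range (orderOf : Matrix.ProjectiveSpecialLinearGroup (Fin n) F → ℕ)) ↔ (n < k + l ∧ ¬ k ∣ l) := by
  classical
  obtain ⟨q, hq⟩ : ∃ q : ℕ, q = Fintype.card F := ⟨_, rfl⟩
  rw [← hq] at hk hl
  have hq1 : 1 ≤ q := by rw [hq]; exact Fintype.card_pos
  have hpp : p.Prime := Fact.out
  have : Nonempty (Fin n) := ⟨⟨0, by omega⟩⟩
  have hrF : ((r : ℕ) : F) ≠ 0 := by
    rw [Ne, CharP.cast_eq_zero_iff F p]
    intro h
    exact hrp ((Nat.prime_dvd_prime_iff_eq hpp hr).1 h).symm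
  have hsF : ((s : ℕ) : F) ≠ 0 := by
    rw [Ne, CharP.cast_eq_zero_iff F p]
    intro h
    exact hsp ((Nat.prime_dvd_prime_iff_eq hpp hs).1 h).symm
  have hrsF : ((r * s : ℕ) : F) ≠ 0 := by
    rw [Nat.cast_mul]
    exact mul_ne_zero hrF hsF
  have hr1 : ¬ r ∣ q - 1 := by
    intro h
    have h1 : orderOf ((q : ℕ) : ZMod r) ∣ 1 := ord_dvd_of_dvd hq1 (by rwa [pow_one])
    rw [← hk] at h1
    have := Nat.le_of_dvd one_pos h1
    omega
  have hs1 : ¬ s ∣ q - 1 := by
    intro h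
    have h1 : orderOf ((q : ℕ) : ZMod s) ∣ 1 := ord_dvd_of_dvd hq1 (by rwa [pow_one])
    rw [← hl] at h1
    have := Nat.le_of_dvd one_pos h1
    omega
  have hcopr : Nat.Coprime r (q - 1) := (Nat.Prime.coprime_iff_not_dvd hr).2 hr1
  have hcops : Nat.Coprime s (q - 1) := (Nat.Prime.coprime_iff_not_dvd hs).2 hs1
  have hcoprs : Nat.Coprime r s := (Nat.coprime_primes hr hs).2 hrs
  have hcop : Nat.Coprime (r * s) (q - 1) := Nat.Coprime.mul_left hcopr hcops
  have hk0 : 0 < k := by omega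
  have hl0 : 0 < l := by omega
  have hdeg : ∀ (B : Matrix (Fin n) (Fin n) F) (f : F[X]), f ∣ minpoly F B → f.natDegree ≤ n := by
    intro B f hf
    have h1 := Polynomial.natDegree_le_of_dvd hf (minpoly.monic (Matrix.isIntegral B)).ne_zero
    have h2 := natDegree_minpoly_le_card B
    rw [Fintype.card_fin] at h2
    omega
  constructor
  · intro hno
    by_contra hcon
    apply hno
    by_cases hkl' : k + l ≤ n
    · obtain ⟨A₁, hA₁, hA₁min⟩ := exists_block (F := F) p k hk0 r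
        (by rw [← hq]; exact dvd_of_ord_dvd hq1 (by rw [← hk]))
      obtain ⟨A₂, hA₂, hA₂min⟩ := exists_block (F := F) p l hl0 s
        (by rw [← hq]; exact dvd_of_ord_dvd hq1 (by rw [← hl]))
      obtain ⟨hd₁, hsc₁⟩ := block_coprime A₁ r hr.pos hA₁ hA₁min (by rw [← hq]; exact hcopr)
      obtain ⟨hd₂, hsc₂⟩ := block_coprime A₂ s hs.pos hA₂ hA₂min (by rw [← hq]; exact hcops)
      apply mem_range_of_blocks (ι := Fin k) (κ := Fin l ⊕ Fin (n - k - l))
        (by simp only [Fintype.card_sum, Fintype.card_fin]; omega) A₁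
        (Matrix.fromBlocks A₂ 0 0 1) hd₁
        (by rw [Matrix.det_fromBlocks_zero₂₁, hd₂, Matrix.det_one, mul_one]) (r * s)
      · refine ⟨1, ?_, ?_⟩
        · rw [pow_mul, hA₁, one_pow, one_smul]
        · rw [Matrix.fromBlocks_diagonal_pow, one_pow, mul_comm r s, pow_mul, hA₂, one_pow,
            one_smul, Matrix.fromBlocks_one]
      · intro j c h1 h2
        rw [Matrix.fromBlocks_diagonal_pow, fromBlocks_eq_smul_one] at h2
        exact Nat.Coprime.mul_dvd_of_dvd_of_dvd hcoprs (hsc₁ j c h1) (hsc₂ j c h2.1)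
    · have hkdl : k ∣ l := by
        by_contra h
        exact hcon ⟨by omega, h⟩
      have hln : l ≤ n := by
        have : Fact s.Prime := ⟨hs⟩
        obtain ⟨x, hx⟩ := exists_prime_orderOf_dvd_card' s hsG
        obtain ⟨A, hdet, hA⟩ := exists_lift x
        rw [hx] at hA
        have hB := pure_of_lift A hdet s hA (by rw [← hq]; exact hcops)
        obtain ⟨B, hBdef⟩ : ∃ B : Matrix (Fin n) (Fin n) F, B = A ^ (Fintype.card F - 1) :=
          ⟨_, rfl⟩
        rw [← hBdef] at hB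
        have hBs : B ^ s = 1 := (hB s).2 (dvd_refl s)
        have hB1 : B ^ 1 ≠ 1 := by
          intro h
          have := (hB 1).1 h
          exact hs.one_lt.ne' (Nat.dvd_one.1 this)
        obtain ⟨f, hf, hfμ, hfN, hfJ⟩ := exists_factor_of_order B s hsF hBs 1 hB1
        have h1 := ord_dvd_of_factor f hf s hs s 1 hfN hfJ (by rw [one_mul])
        rw [← hq, ← hl] at h1
        exact (Nat.le_of_dvd hf.natDegree_pos h1).trans (hdeg B f hfμ)
      have hdvd : r * s ∣ q ^ l - 1 :=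
        Nat.Coprime.mul_dvd_of_dvd_of_dvd hcoprs
          (dvd_of_ord_dvd hq1 (by rw [← hk]; exact hkdl)) (dvd_of_ord_dvd hq1 (by rw [← hl]))
      obtain ⟨A, hA, hAmin⟩ := exists_block (F := F) p l hl0 (r * s) (by rw [← hq]; exact hdvd)
      obtain ⟨hd, hsc⟩ := block_coprime A (r * s) (Nat.mul_pos hr.pos hs.pos) hA hAmin
        (by rw [← hq]; exact hcop)
      apply mem_range_of_blocks (ι := Fin l) (κ := Fin (n - l))
        (by simp only [Fintype.card_fin]; omega) A 1 hd Matrix.det_one (r * s)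
      · exact ⟨1, by rw [hA, one_smul], by rw [one_pow, one_smul]⟩
      · intro j c h1 _
        exact hsc j c h1
  · rintro ⟨hnkl, hndvd⟩ ⟨x, hx⟩
    obtain ⟨A, hdet, hA⟩ := exists_lift x
    rw [hx] at hA
    have hB := pure_of_lift A hdet (r * s) hA (by rw [← hq]; exact hcop)
    obtain ⟨B, hBdef⟩ : ∃ B : Matrix (Fin n) (Fin n) F, B = A ^ (Fintype.card F - 1) :=
      ⟨_, rfl⟩
    rw [← hBdef] at hB
    have hBN : B ^ (r * s) = 1 := (hB _).2 (dvd_refl _)
    have hBs : B ^ s ≠ 1 := by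
      intro h
      have h1 : r * s ∣ 1 * s := by rw [one_mul]; exact (hB s).1 h
      exact hr.one_lt.ne' (Nat.dvd_one.1 (Nat.dvd_of_mul_dvd_mul_right hs.pos h1))
    have hBr : B ^ r ≠ 1 := by
      intro h
      have h1 : r * s ∣ r * 1 := by rw [mul_one]; exact (hB r).1 h
      exact hs.one_lt.ne' (Nat.dvd_one.1 (Nat.dvd_of_mul_dvd_mul_left hr.pos h1))
    obtain ⟨f₁, hf₁, hf₁μ, hf₁N, hf₁s⟩ := exists_factor_of_order B (r * s) hrsF hBN s hBs
    obtain ⟨f₂, hf₂, hf₂μ, hf₂N, hf₂r⟩ := exists_factor_of_order B (r * s) hrsF hBN r hBr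
    have hk₁ : k ∣ f₁.natDegree := by
      have h1 := ord_dvd_of_factor f₁ hf₁ r hr (r * s) s hf₁N hf₁s (by rw [mul_comm])
      rwa [← hq, ← hk] at h1
    have hl₂ : l ∣ f₂.natDegree := by
      have h1 := ord_dvd_of_factor f₂ hf₂ s hs (r * s) r hf₂N hf₂r (dvd_refl _)
      rwa [← hq, ← hl] at h1
    have hf₁r : f₁ ∣ X ^ r - 1 := by
      by_contra hcon
      have h1 := ord_dvd_of_factor f₁ hf₁ s hs (r * s) r hf₁N hcon (dvd_refl _)
      rw [← hq, ← hl] at h1
      have h3 := hdeg B f₁ hf₁μ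
      have h4 := hf₁.natDegree_pos
      obtain ⟨t, ht⟩ := h1
      have ht1 : t = 1 := by
        rcases Nat.lt_or_ge t 2 with h | h
        · rcases Nat.eq_zero_or_pos t with h0 | h0
          · rw [h0, mul_zero] at ht
            omega
          · omega
        · have : l * 2 ≤ l * t := Nat.mul_le_mul_left l h
          omega
      rw [ht1, mul_one] at ht
      rw [ht] at hk₁
      exact hndvd hk₁
    have hcopf : IsCoprime f₁ f₂ := by
      rw [hf₁.coprime_iff_not_dvd]
      intro h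
      exact hf₂r ((hf₁.dvd_symm hf₂ h).trans hf₁r)
    have hmul : f₁ * f₂ ∣ minpoly F B := hcopf.mul_dvd hf₁μ hf₂μ
    have h1 := hdeg B _ hmul
    rw [Polynomial.natDegree_mul hf₁.ne_zero hf₂.ne_zero] at h1
    have h3 := Nat.le_of_dvd hf₁.natDegree_pos hk₁
    have h4 := Nat.le_of_dvd hf₂.natDegree_pos hl₂
    omega

end Cfsg.Agent.S2468
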