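import Cfsg.Statements.S2470
import Cfsg.Agent.Lib.helper64.PGBlocks

set_option autoImplicit false
open Cfsg

namespace Cfsg.Agent.S2470

open Polynomial Matrix Cfsg.Agent.Lib.helper64.PGBasic Cfsg.Agent.Lib.helper64.PGBlocks
  Cfsg.Agent.Lib.helper64.UIso

section

variable {F : Type*} [Field F] [Fintype F]

/-- a determinant-one matrix of projective order `r p` forces `k + 2 ≤ n`, and excludes the
exceptional case -/
theorem analysis (p : ℕ) [hp : Fact p.Prime] [CharP F p] (n : ℕ) (hn : 2 ≤ n) (r : ℕ)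
    (hr : r.Prime) (hrp : r ≠ p) (k : ℕ) (hk : k = orderOf ((Fintype.card F : ℕ) : ZMod r))
    (A : Matrix (Fin n) (Fin n) F) (hdet : A.det = 1)
    (hA : ∀ j : ℕ, (∃ c : F, A ^ j = c • (1 : Matrix (Fin n) (Fin n) F)) ↔ r * p ∣ j) :
    k + 2 ≤ n ∧ ¬ (n = 3 ∧ r = 3 ∧ ¬ 9 ∣ Fintype.card F - 1) := by
  classical
  have hpp : p.Prime := hp.out
  have : Fact r.Prime := ⟨hr⟩
  have : Nonempty (Fin n) := ⟨⟨0, by omega⟩⟩
  obtain ⟨q, hq⟩ : ∃ q : ℕ, q = Fintype.card F := ⟨_, rfl⟩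
  rw [← hq] at hk ⊢
  have hq1 : 1 ≤ q := by rw [hq]; exact Fintype.card_pos
  have hrF : ((r : ℕ) : F) ≠ 0 := by
    rw [Ne, CharP.cast_eq_zero_iff F p]
    intro h
    exact hrp ((Nat.prime_dvd_prime_iff_eq hpp hr).1 h).symm
  obtain ⟨c₀, hc₀⟩ := (hA (r * p)).2 (dvd_refl _)
  have hc₀0 : c₀ ≠ 0 := by
    rintro rfl
    have h1 := congrArg Matrix.det hc₀
    rw [Matrix.det_pow, hdet, one_pow, zero_smul, Matrix.det_zero] at h1
    exact one_ne_zero h1
  obtain ⟨c', hc'⟩ : ∃ c' : F, c' ^ p = c₀ := by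
    have hsurj : Function.Surjective (frobenius F p) :=
      Finite.injective_iff_surjective.1 (frobenius_inj F p)
    obtain ⟨c', h⟩ := hsurj c₀
    exact ⟨c', by rw [← frobenius_def]; exact h⟩
  have hc'0 : c' ≠ 0 := by
    rintro rfl
    rw [zero_pow hpp.ne_zero] at hc'
    exact hc₀0 hc'.symm
  obtain ⟨g, hg⟩ : ∃ g : F[X], g = X ^ r - C c' := ⟨_, rfl⟩
  have hgp : g ^ p = X ^ (r * p) - C c₀ := by
    rw [hg, sub_pow_char, ← pow_mul, ← C_pow, hc']
  have hsep : g.Separable := by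
    rw [hg]
    exact separable_X_pow_sub_C c' hrF hc'0
  have hgsq : Squarefree g := hsep.squarefree
  obtain ⟨μ, hμ⟩ : ∃ μ : F[X], μ = minpoly F A := ⟨_, rfl⟩
  have hμmonic : μ.Monic := by rw [hμ]; exact minpoly.monic (Matrix.isIntegral A)
  have hμ0 : μ ≠ 0 := hμmonic.ne_zero
  have hμA : aeval A μ = 0 := by rw [hμ]; exact minpoly.aeval F A
  have hμdeg : μ.natDegree ≤ n := by
    have := natDegree_minpoly_le_card A
    rwa [Fintype.card_fin, ← hμ] at this
  have hμg : μ ∣ g ^ p := by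
    rw [hμ]
    apply minpoly.dvd
    rw [hgp, map_sub, map_pow, aeval_X, aeval_C, hc₀, Algebra.algebraMap_eq_smul_one, sub_self]
  have hμng : ¬ μ ∣ g := by
    intro h
    have h1 := Polynomial.aeval_eq_zero_of_dvd_aeval_eq_zero h hμA
    rw [hg, map_sub, map_pow, aeval_X, aeval_C, sub_eq_zero,
      Algebra.algebraMap_eq_smul_one] at h1
    have h3 : r * p ∣ r * 1 := by rw [mul_one]; exact (hA r).1 ⟨c', h1⟩
    exact hpp.one_lt.ne' (Nat.dvd_one.1 (Nat.dvd_of_mul_dvd_mul_left hr.pos h3))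
  have hμns : ¬ Squarefree μ := fun hsq => hμng ((hsq.dvd_pow_iff_dvd hpp.ne_zero).1 hμg)
  obtain ⟨f, hf, hff⟩ := exists_sq_factor μ hμ0 hμns
  have hfμ : f ∣ μ := dvd_of_mul_left_dvd hff
  have hfg : f ∣ g := hf.prime.dvd_of_dvd_pow (hfμ.trans hμg)
  -- degrees of the irreducible factors of `g`
  have hD : ∀ f' : F[X], Irreducible f' → f' ∣ g → f'.natDegree = 1 ∨ k ∣ f'.natDegree := by
    intro f' hf' hf'g
    by_cases hd : f'.natDegree = 1
    · exact Or.inl hd
    · right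
      have : Fact (Irreducible f') := ⟨hf'⟩
      have hρ := root_pow_card_ne f' hf' hd
      rw [← hq] at hρ
      have hρr : (AdjoinRoot.root f') ^ r = AdjoinRoot.of f' c' := by
        have h1 : AdjoinRoot.mk f' g = 0 := AdjoinRoot.mk_eq_zero.2 hf'g
        rw [hg, map_sub, map_pow, AdjoinRoot.mk_X, AdjoinRoot.mk_C, sub_eq_zero] at h1
        exact h1
      have h1 := ord_dvd_natDegree f' hf' r hr ((AdjoinRoot.root f') ^ (q - 1)) ?_ ?_
      · rwa [← hq, ← hk] at h1
      · intro h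
        apply hρ
        have h3 : (AdjoinRoot.root f') ^ q =
            (AdjoinRoot.root f') ^ (q - 1) * AdjoinRoot.root f' := by
          rw [← pow_succ]
          congr 1
          omega
        rw [h3, h, one_mul]
      · rw [← pow_mul, mul_comm, pow_mul, hρr, ← map_pow, hq,
          FiniteField.pow_card_sub_one_eq_one c' hc'0, map_one]
  have hnlin : ∀ b : F, ¬ μ ∣ (X - C b) ^ p := by
    intro b h
    have h1 := Polynomial.aeval_eq_zero_of_dvd_aeval_eq_zero h hμA
    rw [sub_pow_char, ← C_pow, map_sub, map_pow, aeval_X, aeval_C, sub_eq_zero,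
      Algebra.algebraMap_eq_smul_one] at h1
    have h3 : r * p ∣ 1 * p := by rw [one_mul]; exact (hA p).1 ⟨b ^ p, h1⟩
    exact hr.one_lt.ne' (Nat.dvd_one.1 (Nat.dvd_of_mul_dvd_mul_right hpp.pos h3))
  have hfd := hf.natDegree_pos
  have hff_deg : 2 * f.natDegree ≤ n := by
    have h1 := Polynomial.natDegree_le_of_dvd hff hμ0
    rw [Polynomial.natDegree_mul hf.ne_zero hf.ne_zero] at h1
    omega
  by_cases hd : f.natDegree = 1
  swap
  · have h1 : k ∣ f.natDegree := (hD f hf hfg).resolve_left hd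
    have h3 := Nat.le_of_dvd hfd h1
    refine ⟨by omega, ?_⟩
    rintro ⟨h3', -, -⟩
    omega
  -- the repeated factor is linear
  obtain ⟨b, hb⟩ : ∃ b : F, f.IsRoot b := by
    apply Polynomial.exists_root_of_degree_eq_one
    rw [Polynomial.degree_eq_natDegree hf.ne_zero, hd]
    rfl
  have hXb : X - C b ∣ f := Polynomial.dvd_iff_isRoot.2 hb
  have hXbg : X - C b ∣ g := hXb.trans hfg
  have hbr : b ^ r = c' := by
    have h1 := Polynomial.dvd_iff_isRoot.1 hXbg
    rw [Polynomial.IsRoot, hg, eval_sub, eval_pow, eval_X, eval_C, sub_eq_zero] at h1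
    exact h1
  have hb0 : b ≠ 0 := by
    rintro rfl
    rw [zero_pow hr.ne_zero] at hbr
    exact hc'0 hbr.symm
  have hXX : (X - C b) * (X - C b) ∣ μ := (mul_dvd_mul hXb hXb).trans hff
  obtain ⟨g₁, hg₁⟩ := hXbg
  have hirrXb := irreducible_X_sub_C b
  have hcop1 : IsCoprime (X - C b) g₁ := by
    rw [hirrXb.coprime_iff_not_dvd]
    intro h
    have h1 : (X - C b) * (X - C b) ∣ g := by rw [hg₁]; exact mul_dvd_mul_left _ h
    exact hirrXb.not_isUnit (hgsq _ h1)
  have hncop : ¬ IsCoprime μ g₁ := by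
    intro h
    apply hnlin b
    have h1 : μ ∣ (X - C b) ^ p * g₁ ^ p := by rw [← mul_pow, ← hg₁]; exact hμg
    exact (h.pow_right).dvd_of_dvd_mul_right h1
  obtain ⟨f', hf', hf'μ, hf'g₁⟩ := exists_common_irr μ g₁ hμ0 hncop
  have hf'g : f' ∣ g := by rw [hg₁]; exact dvd_mul_of_dvd_right hf'g₁ _
  have hcop2 : IsCoprime (X - C b) f' := by
    rw [hirrXb.coprime_iff_not_dvd]
    intro h
    have h1 : X - C b ∣ g₁ := h.trans hf'g₁
    exact hirrXb.not_isUnit (hcop1.isUnit_of_dvd' (dvd_refl _) h1)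
  have hcop3 : IsCoprime ((X - C b) * (X - C b)) f' := hcop2.mul_left hcop2
  have hmul : (X - C b) * (X - C b) * f' ∣ μ := hcop3.mul_dvd hXX hf'μ
  have hdeg3 : 2 + f'.natDegree ≤ n := by
    have h1 := Polynomial.natDegree_le_of_dvd hmul hμ0
    rw [Polynomial.natDegree_mul (mul_ne_zero (X_sub_C_ne_zero b) (X_sub_C_ne_zero b))
      hf'.ne_zero, Polynomial.natDegree_mul (X_sub_C_ne_zero b) (X_sub_C_ne_zero b),
      natDegree_X_sub_C] at h1
    omega
  have hf'd := hf'.natDegree_pos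
  by_cases hd' : f'.natDegree = 1
  swap
  · have h1 : k ∣ f'.natDegree := (hD f' hf' hf'g).resolve_left hd'
    have h3 := Nat.le_of_dvd hf'd h1
    refine ⟨by omega, ?_⟩
    rintro ⟨h3', -, -⟩
    omega
  obtain ⟨b', hb'⟩ : ∃ b' : F, f'.IsRoot b' := by
    apply Polynomial.exists_root_of_degree_eq_one
    rw [Polynomial.degree_eq_natDegree hf'.ne_zero, hd']
    rfl
  have hXb' : X - C b' ∣ f' := Polynomial.dvd_iff_isRoot.2 hb'
  have hb'r : b' ^ r = c' := by
    have h1 := Polynomial.dvd_iff_isRoot.1 (hXb'.trans hf'g)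
    rw [Polynomial.IsRoot, hg, eval_sub, eval_pow, eval_X, eval_C, sub_eq_zero] at h1
    exact h1
  have hbb' : b' ≠ b := by
    rintro rfl
    exact hirrXb.not_isUnit (hcop2.isUnit_of_dvd' (dvd_refl _) hXb')
  obtain ⟨ζ, hζ⟩ : ∃ ζ : F, ζ = b' * b⁻¹ := ⟨_, rfl⟩
  have hb'ζ : b' = ζ * b := by rw [hζ, mul_assoc, inv_mul_cancel₀ hb0, mul_one]
  have hζr : ζ ^ r = 1 := by rw [hζ, mul_pow, inv_pow, hb'r, hbr, mul_inv_cancel₀ hc'0]
  have hζ1 : ζ ≠ 1 := by
    intro h
    apply hbb'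
    rw [hb'ζ, h, one_mul]
  have hζ0 : ζ ≠ 0 := by
    rintro rfl
    rw [zero_pow hr.ne_zero] at hζr
    exact zero_ne_one hζr
  have hordζ : orderOf ζ = r := orderOf_eq_prime hζr hζ1
  have hrq : r ∣ q - 1 := by
    rw [← hordζ, hq]
    exact orderOf_dvd_of_pow_eq_one (FiniteField.pow_card_sub_one_eq_one ζ hζ0)
  have hk1 : k = 1 := by
    have h1 : orderOf ((q : ℕ) : ZMod r) ∣ 1 := ord_dvd_of_dvd hq1 (by rwa [pow_one])
    rw [← hk] at h1
    exact Nat.dvd_one.1 h1
  refine ⟨by omega, ?_⟩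
  rintro ⟨hn3, hr3, h9⟩
  obtain ⟨P, hP⟩ : ∃ P : F[X], P = (X - C b) * (X - C b) * (X - C b') := ⟨_, rfl⟩
  have hPmonic : P.Monic := by
    rw [hP]
    exact ((monic_X_sub_C b).mul (monic_X_sub_C b)).mul (monic_X_sub_C b')
  have hPdeg : P.natDegree = 3 := by
    rw [hP, Polynomial.natDegree_mul (mul_ne_zero (X_sub_C_ne_zero b) (X_sub_C_ne_zero b))
      (X_sub_C_ne_zero b'), Polynomial.natDegree_mul (X_sub_C_ne_zero b) (X_sub_C_ne_zero b),
      natDegree_X_sub_C, natDegree_X_sub_C]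
  have hPμ : P ∣ μ := by
    rw [hP]
    exact (hcop3.of_isCoprime_of_dvd_right hXb').mul_dvd hXX (hXb'.trans hf'μ)
  have hμP : μ = P :=
    eq_of_monic_of_dvd_of_natDegree_le hPmonic hμmonic hPμ (by rw [hPdeg]; omega)
  have hχ : A.charpoly = μ := by
    apply eq_of_monic_of_dvd_of_natDegree_le hμmonic (Matrix.charpoly_monic A)
      (by rw [hμ]; exact Matrix.minpoly_dvd_charpoly A)
    rw [Matrix.charpoly_natDegree_eq_dim, Fintype.card_fin, hμP, hPdeg]
    omega
  have hdet' : b ^ 2 * b' = 1 := by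
    have h1 := Matrix.det_eq_sign_charpoly_coeff A
    rw [hdet, hχ, hμP, Fintype.card_fin, hn3, Polynomial.coeff_zero_eq_eval_zero, hP] at h1
    simp only [eval_mul, eval_sub, eval_X, eval_C] at h1
    linear_combination -h1
  have h3 : b ^ 3 * ζ = 1 := by
    rw [hb'ζ] at hdet'
    linear_combination hdet'
  have h4 : ζ ^ 3 = 1 := by rw [← hr3]; exact hζr
  have hb9 : b ^ 9 = 1 := by
    linear_combination (-b ^ 9) * h4 + ((b ^ 3 * ζ) ^ 2 + b ^ 3 * ζ + 1) * h3
  have hord9 : orderOf b ∣ 3 ^ 2 := orderOf_dvd_of_pow_eq_one (by norm_num; exact hb9)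
  have hordq : orderOf b ∣ q - 1 := by
    rw [hq]
    exact orderOf_dvd_of_pow_eq_one (FiniteField.pow_card_sub_one_eq_one b hb0)
  have hb3 : b ^ 3 = 1 := by
    obtain ⟨i, hi, hoi⟩ := (Nat.dvd_prime_pow Nat.prime_three).1 hord9
    have hi1 : i ≤ 1 := by
      by_contra hlt
      have hi2 : i = 2 := by omega
      rw [hi2] at hoi
      rw [hoi] at hordq
      exact h9 (by norm_num at hordq; exact hordq)
    have h5 : orderOf b ∣ 3 := by
      rw [hoi]
      exact pow_dvd_pow 3 hi1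
    exact orderOf_dvd_iff_pow_eq_one.1 h5
  apply hζ1
  rw [hb3, one_mul] at h3
  exact h3

/-- existence of an element of order `r p` -/
theorem exists_elem (p : ℕ) [hp : Fact p.Prime] [CharP F p] (n : ℕ) (r : ℕ) (hr : r.Prime)
    (hrp : r ≠ p) (k : ℕ) (hk : k = orderOf ((Fintype.card F : ℕ) : ZMod r)) (hk0 : 0 < k)
    (hkn : k + 2 ≤ n)
    (hspecial : ¬ (n = 3 ∧ r = 3 ∧ 3 ∣ Fintype.card F - 1 ∧ ¬ 9 ∣ Fintype.card F - 1)) :
    r * p ∈ Set.range (orderOf : Matrix.ProjectiveSpecialLinearGroup (Fin n) F → ℕ) := by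
  classical
  have hpp : p.Prime := hp.out
  obtain ⟨q, hq⟩ : ∃ q : ℕ, q = Fintype.card F := ⟨_, rfl⟩
  rw [← hq] at hk hspecial
  have hq1 : 1 ≤ q := by rw [hq]; exact Fintype.card_pos
  have hcoprp : Nat.Coprime r p := (Nat.coprime_primes hr hpp).2 hrp
  have hcast : ((r * p : ℕ) : F) = 0 := by
    rw [Nat.cast_mul, CharP.cast_eq_zero F p, mul_zero]
  have hpj : ∀ j : ℕ, (j : F) = 0 → p ∣ j := fun j h => (CharP.cast_eq_zero_iff F p j).1 h
  by_cases hk2 : 2 ≤ k
  · have hr1 : ¬ r ∣ q - 1 := by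
      intro h
      have h1 : orderOf ((q : ℕ) : ZMod r) ∣ 1 := ord_dvd_of_dvd hq1 (by rwa [pow_one])
      rw [← hk] at h1
      have := Nat.le_of_dvd one_pos h1
      omega
    have hcopr : Nat.Coprime r (q - 1) := (Nat.Prime.coprime_iff_not_dvd hr).2 hr1
    obtain ⟨A₁, hA₁, hA₁min⟩ := exists_block (F := F) p k hk0 r
      (by rw [← hq]; exact dvd_of_ord_dvd hq1 (by rw [← hk]))
    obtain ⟨hd₁, hsc₁⟩ := block_coprime A₁ r hr.pos hA₁ hA₁min (by rw [← hq]; exact hcopr)
    apply mem_range_of_blocks (ι := Fin k) (κ := Fin 2 ⊕ Fin (n - k - 2))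
      (by simp only [Fintype.card_sum, Fintype.card_fin]; omega) A₁
      (Matrix.fromBlocks ((1 : F) • (1 + E12 F)) 0 0 1) hd₁
      (by rw [Matrix.det_fromBlocks_zero₂₁, one_smul, J2_det, Matrix.det_one, mul_one]) (r * p)
    · refine ⟨1, ?_, ?_⟩
      · rw [pow_mul, hA₁, one_pow, one_smul]
      · rw [Matrix.fromBlocks_diagonal_pow, J2_smul_pow 1 (r * p) hcast, one_pow, one_pow,
          one_smul, one_smul, Matrix.fromBlocks_one]
    · intro j c h1 h2
      rw [Matrix.fromBlocks_diagonal_pow, fromBlocks_eq_smul_one] at h2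
      have h3 := (J2_scalar 1 c one_ne_zero j h2.1).1
      exact Nat.Coprime.mul_dvd_of_dvd_of_dvd hcoprp (hsc₁ j c h1) (hpj j h3)
  · have hk1 : k = 1 := by omega
    have hrq : r ∣ q - 1 := by
      have := dvd_of_ord_dvd hq1 (r := r) (d := 1) (by rw [← hk, hk1])
      rwa [pow_one] at this
    have hn3 : 3 ≤ n := by omega
    obtain ⟨R, hRq, hR4, hR3⟩ : ∃ R : ℕ, R ∣ q - 1 ∧ (4 ≤ n → R = r) ∧
        (n = 3 → (r ≠ 3 ∧ R = r) ∨ (r = 3 ∧ R = 9)) := by
      by_cases h : n = 3 ∧ r = 3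
      · refine ⟨9, ?_, fun h4 => by omega, fun _ => Or.inr ⟨h.2, rfl⟩⟩
        by_contra h9
        exact hspecial ⟨h.1, h.2, by rw [← h.2]; exact hrq, h9⟩
      · exact ⟨r, hrq, fun _ => rfl, fun h3 => Or.inl ⟨fun h' => h ⟨h3, h'⟩, rfl⟩⟩
    have hRpos : 0 < R := by
      rcases Nat.lt_or_ge n 4 with h | h
      · rcases hR3 (by omega) with ⟨-, hRr⟩ | ⟨-, hR9⟩
        · rw [hRr]; exact hr.pos
        · rw [hR9]; norm_num
      · rw [hR4 h]; exact hr.pos
    have hR3rp : R ∣ 3 * (r * p) := by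
      rcases Nat.lt_or_ge n 4 with h | h
      · rcases hR3 (by omega) with ⟨-, hRr⟩ | ⟨hr3, hR9⟩
        · rw [hRr]; exact ⟨3 * p, by ring⟩
        · rw [hR9, hr3]; exact ⟨p, by ring⟩
      · rw [hR4 h]; exact ⟨3 * p, by ring⟩
    obtain ⟨a, ha⟩ := exists_orderOf (K := F) R (by rw [Nat.card_eq_fintype_card, ← hq]; exact hRq)
    have ha0 : a ≠ 0 := by
      rintro rfl
      have := pow_orderOf_eq_one (0 : F)
      rw [ha, zero_pow hRpos.ne'] at this
      exact zero_ne_one this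
    obtain ⟨b, hb⟩ : ∃ b : F, b = (a ^ 2)⁻¹ := ⟨_, rfl⟩
    have hab : a ^ 2 * b = 1 := by rw [hb]; exact mul_inv_cancel₀ (pow_ne_zero 2 ha0)
    have hpow_b : ∀ j : ℕ, a ^ j = b ^ j → R ∣ 3 * j := by
      intro j h
      rw [← ha]
      apply orderOf_dvd_of_pow_eq_one
      calc a ^ (3 * j) = a ^ j * (a ^ 2) ^ j := by
            rw [← pow_mul, ← pow_add]
            congr 1
            ring
        _ = (a ^ 2 * b) ^ j := by rw [h, mul_pow, mul_comm]
        _ = 1 := by rw [hab, one_pow]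
    have hpow_b' : ∀ j : ℕ, R ∣ 3 * j → a ^ j = b ^ j := by
      intro j h
      have h1 : a ^ (3 * j) = 1 := by
        rw [← ha] at h
        exact orderOf_dvd_iff_pow_eq_one.1 h
      have h3 : a ^ j * (a ^ 2) ^ j = 1 := by
        rw [← pow_mul, ← pow_add, ← h1]
        congr 1
        ring
      rw [hb, inv_pow]
      exact eq_inv_of_mul_eq_one_left h3
    apply mem_range_of_blocks' (ι := Fin 2) (κ := Fin 1 ⊕ Fin (n - 3))
      (by simp only [Fintype.card_sum, Fintype.card_fin]; omega) (a • (1 + E12 F))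
      (Matrix.fromBlocks (b • (1 : Matrix (Fin 1) (Fin 1) F)) 0 0 1)
      (by
        rw [Matrix.det_smul, J2_det, Fintype.card_fin, mul_one, Matrix.det_fromBlocks_zero₂₁,
          Matrix.det_smul, Matrix.det_one, Matrix.det_one, Fintype.card_fin, pow_one, mul_one,
          mul_one]
        exact hab) (r * p)
    · refine ⟨a ^ (r * p), J2_smul_pow a (r * p) hcast, ?_⟩
      rw [Matrix.fromBlocks_diagonal_pow, fromBlocks_eq_smul_one, _root_.smul_pow, one_pow, one_pow]
      constructor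
      · rw [hpow_b' (r * p) hR3rp]
      · rcases Nat.lt_or_ge n 4 with h | h
        · have h0 : n - 3 = 0 := by omega
          have : IsEmpty (Fin (n - 3)) := by
            rw [h0]
            infer_instance
          exact Subsingleton.elim _ _
        · have h5 : a ^ (r * p) = 1 := by
            rw [pow_mul, ← hR4 h, ← ha, pow_orderOf_eq_one, one_pow]
          rw [h5, one_smul]
    · intro j c h1 h2
      obtain ⟨hj0, hajc⟩ := J2_scalar a c ha0 j h1
      rw [Matrix.fromBlocks_diagonal_pow, fromBlocks_eq_smul_one, _root_.smul_pow, one_pow,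
        one_pow] at h2
      obtain ⟨h2a, h2b⟩ := h2
      have hbjc : b ^ j = c := by
        have := congrFun (congrFun h2a 0) 0
        simpa using this
      have hR3j : R ∣ 3 * j := hpow_b j (by rw [hajc, hbjc])
      have hpdj : p ∣ j := hpj j hj0
      have hrj : r ∣ j := by
        rcases Nat.lt_or_ge n 4 with h | h
        · rcases hR3 (by omega) with ⟨hr3, hRr⟩ | ⟨hr3, hR9⟩
          · rw [hRr] at hR3j
            exact Nat.Coprime.dvd_of_dvd_mul_left
              ((Nat.coprime_primes hr Nat.prime_three).2 hr3) hR3j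
          · rw [hR9] at hR3j
            rw [hr3]
            omega
        · have hc1 : c = 1 := by
            have := congrFun (congrFun h2b ⟨0, by omega⟩) ⟨0, by omega⟩
            simpa using this.symm
          rw [← hR4 h, ← ha]
          apply orderOf_dvd_of_pow_eq_one
          rw [hajc, hc1]
      exact Nat.Coprime.mul_dvd_of_dvd_of_dvd hcoprp hrj hpdj

end

/-- Adjacency of an odd prime and the characteristic in the prime graph of PSL(n,q): let F be a finite field of characteristic p with q elements, n ≥ 2 with PSL(n,F) simple, and let r ≠ p be an odd prime dividing the order of PSL(n,F), with k the multiplicative order of q modulo r. Then PSL(n,F) has NO element of order r·p if and only if either k > n − 2, or n = 3, r = 3 and 3 divides q − 1 exactly once. -/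
theorem result {F : Type*} [Field F] [Fintype F] (p : ℕ) [Fact p.Prime] [CharP F p] (n : ℕ) (hn : 2 ≤ n) (hsmall : n = 2 → 4 ≤ Fintype.card F)
    (r : ℕ) (hr : r.Prime) (hr2 : r ≠ 2) (hrp : r ≠ p) (hrG : r ∣ Nat.card (Matrix.ProjectiveSpecialLinearGroup (Fin n) F))
    (k : ℕ) (hk : k = orderOf ((Fintype.card F : ℕ) : ZMod r)) :
    (r * p ∉ Set.range (orderOf : Matrix.ProjectiveSpecialLinearGroup (Fin n) F → ℕ)) ↔
      (n - 2 < k ∨ (n = 3 ∧ r = 3 ∧ 3 ∣ Fintype.card F - 1 ∧ ¬ 9 ∣ Fintype.card F - 1)) := by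
  classical
  have hpp : p.Prime := Fact.out
  have hk0 : 0 < k := by
    rw [hk]
    have : Fact r.Prime := ⟨hr⟩
    have hne : ((Fintype.card F : ℕ) : ZMod r) ≠ 0 := by
      rw [Ne, ZMod.natCast_eq_zero_iff]
      intro h
      obtain ⟨m, -, hm⟩ := FiniteField.card F p
      rw [hm] at h
      exact hrp ((Nat.prime_dvd_prime_iff_eq hr hpp).1 (hr.dvd_of_dvd_pow h))
    apply orderOf_pos_iff.2
    exact isOfFinOrder_iff_pow_eq_one.2
      ⟨r - 1, by have := hr.two_le; omega, ZMod.pow_card_sub_one_eq_one hne⟩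
  constructor
  · intro hno
    by_contra hcon
    obtain ⟨h1, h2⟩ := not_or.1 hcon
    apply hno
    exact exists_elem p n r hr hrp k hk hk0 (by omega) h2
  · intro hR ⟨x, hx⟩
    obtain ⟨A, hdet, hA⟩ := exists_lift x
    rw [hx] at hA
    obtain ⟨h1, h2⟩ := analysis p n hn r hr hrp k hk A hdet hA
    rcases hR with h | ⟨hn3, hr3, -, h9⟩
    · omega
    · exact h2 ⟨hn3, hr3, h9⟩

end Cfsg.Agent.S2470
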