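import Mathlib
import Cfsg.Statements.S2471

set_option autoImplicit false
open Cfsg

namespace Cfsg.Agent.S2471

open Matrix

/-- Cayley–Hamilton for a `2 × 2` matrix of determinant one. -/
theorem cayley_two {F : Type*} [Field F] (M : Matrix (Fin 2) (Fin 2) F) (hdet : M.det = 1) :
    M * M = (M 0 0 + M 1 1) • M - 1 := by
  rw [Matrix.det_fin_two] at hdet
  ext i j
  fin_cases i <;> fin_cases j <;>
    simp [Matrix.mul_apply, Fin.sum_univ_two] <;>
    first | ring1 | linear_combination (-1 : F) * hdet

/-- The matrix-level core: a determinant-one `2 × 2` matrix over a field of odd characteristic `p`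
whose `2p`-th power is `±1` has square `-1` or `p`-th power `±1`. -/
theorem matrix_core {F : Type*} [Field F] (p : ℕ) [Fact p.Prime] [CharP F p] (hp : p ≠ 2)
    (M : Matrix (Fin 2) (Fin 2) F) (hdet : M.det = 1)
    (hM : M ^ (2 * p) = 1 ∨ M ^ (2 * p) = -1) :
    M ^ 2 = -1 ∨ M ^ p = 1 ∨ M ^ p = -1 := by
  have h2 : (2 : F) ≠ 0 := by
    intro h
    have h' : ((2 : ℕ) : F) = 0 := by exact_mod_cast h
    rw [CharP.cast_eq_zero_iff F p 2] at h'
    exact hp ((Nat.prime_dvd_prime_iff_eq (Fact.out : p.Prime) Nat.prime_two).mp h')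
  have hCH := cayley_two M hdet
  set t : F := M 0 0 + M 1 1 with ht
  have h4p : M ^ (4 * p) = 1 := by
    have : 4 * p = (2 * p) * 2 := by ring
    rw [this, pow_mul]
    rcases hM with h | h <;> rw [h] <;> simp
  by_cases ht0 : t = 0
  · left
    rw [pow_two, hCH, ht0, zero_smul, zero_sub]
  · right
    -- `M * M + 1 = t • M` is a unit
    have hu1 : IsUnit (M * M + 1) := by
      have : M * M + 1 = t • M := by rw [hCH]; abel
      rw [this, Matrix.isUnit_iff_isUnit_det, Matrix.det_smul, hdet]
      simp [ht0]
    have hfac : (M * M) * (M * M) - 1 = (M * M - 1) * (M * M + 1) := by noncomm_ring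
    have hc1 : Commute (M * M - 1) (M * M + 1) :=
      ((Commute.refl (M * M)).sub_left (Commute.one_left _)).add_right
        ((Commute.one_right (M * M)).sub_left (Commute.one_left _))
    have hzero : ((M * M) * (M * M) - 1) ^ p = 0 := by
      rw [sub_pow_char_of_commute p (Commute.one_right _), one_pow]
      have : (M * M * (M * M)) ^ p = M ^ (4 * p) := by
        rw [← pow_two, ← pow_two, ← pow_mul, ← pow_mul]
        congr 1
        ring
      rw [this, h4p, sub_self]
    rw [hfac, hc1.mul_pow] at hzero
    have hA : (M * M - 1) ^ p = 0 := (hu1.pow p).mul_left_eq_zero.mp hzero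
    -- now split `M * M - 1 = (M - 1) * (M + 1)`
    have hfac2 : M * M - 1 = (M - 1) * (M + 1) := by noncomm_ring
    have hc2 : Commute (M - 1) (M + 1) :=
      ((Commute.refl M).sub_left (Commute.one_left _)).add_right
        ((Commute.one_right M).sub_left (Commute.one_left _))
    rw [hfac2, hc2.mul_pow] at hA
    have hdm : (M - 1).det = 2 - t := by
      rw [Matrix.det_fin_two] at hdet ⊢
      simp only [Matrix.sub_apply, Matrix.one_apply_eq, Matrix.one_apply_ne, ne_eq,
        Fin.isValue, zero_ne_one, one_ne_zero, not_false_eq_true, sub_zero]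
      rw [ht]
      linear_combination hdet
    have hdp : (M + 1).det = 2 + t := by
      rw [Matrix.det_fin_two] at hdet ⊢
      simp only [Matrix.add_apply, Matrix.one_apply_eq, Matrix.one_apply_ne, ne_eq,
        Fin.isValue, zero_ne_one, one_ne_zero, not_false_eq_true, add_zero]
      rw [ht]
      linear_combination hdet
    by_cases hm : (2 : F) - t = 0
    · -- then `M + 1` is a unit
      have hu : IsUnit (M + 1) := by
        rw [Matrix.isUnit_iff_isUnit_det, hdp, isUnit_iff_ne_zero]
        intro h
        apply h2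
        have h22 : (2 : F) * 2 = 0 := by linear_combination hm + h
        exact mul_self_eq_zero.mp h22
      have hB : (M - 1) ^ p = 0 := (hu.pow p).mul_left_eq_zero.mp hA
      rw [sub_pow_char_of_commute p (Commute.one_right _), one_pow, sub_eq_zero] at hB
      exact Or.inl hB
    · have hu : IsUnit (M - 1) := by
        rw [Matrix.isUnit_iff_isUnit_det, hdm, isUnit_iff_ne_zero]
        exact hm
      have hB : (M + 1) ^ p = 0 := (hu.pow p).mul_right_eq_zero.mp hA
      rw [add_pow_char_of_commute p (Commute.one_right _), one_pow] at hB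
      exact Or.inr (eq_neg_of_add_eq_zero_left hB)

/-- In PSL(2,q) with q odd, the characteristic p is isolated from 2 in the prime graph: for F a finite field of odd characteristic p with at least 5 elements, PSL(2,F) has no element of order 2p. -/
theorem result {F : Type*} [Field F] [Fintype F] (p : ℕ) [Fact p.Prime] [CharP F p] (hp : p ≠ 2) (h5 : 5 ≤ Fintype.card F) (g : Matrix.ProjectiveSpecialLinearGroup (Fin 2) F) :
    orderOf g ≠ 2 * p := by
  intro hord
  obtain ⟨h, rfl⟩ := QuotientGroup.mk_surjective g
  have hp2 : 2 ≤ p := (Fact.out : p.Prime).two_le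
  -- `h ^ (2p)` is central
  have hcen : h ^ (2 * p) ∈ Subgroup.center (Matrix.SpecialLinearGroup (Fin 2) F) := by
    rw [← QuotientGroup.eq_one_iff, QuotientGroup.mk_pow, ← hord, pow_orderOf_eq_one]
  obtain ⟨r, hr, hr'⟩ := Matrix.SpecialLinearGroup.mem_center_iff.mp hcen
  rw [Fintype.card_fin] at hr
  have hr1 : r = 1 ∨ r = -1 := by
    have : (r - 1) * (r + 1) = 0 := by linear_combination hr
    rcases mul_eq_zero.mp this with h | h
    · exact Or.inl (sub_eq_zero.mp h)
    · exact Or.inr (eq_neg_of_add_eq_zero_left h)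
  have hM : (h : Matrix (Fin 2) (Fin 2) F) ^ (2 * p) = 1 ∨ (h : Matrix (Fin 2) (Fin 2) F) ^ (2 * p) = -1 := by
    rw [← Matrix.SpecialLinearGroup.coe_pow, ← hr']
    rcases hr1 with rfl | rfl
    · left; simp only [map_one]
    · right; simp only [map_neg, map_one]
  rcases matrix_core p hp (h : Matrix (Fin 2) (Fin 2) F) h.2 hM with h1 | h1 | h1
  · -- `h ^ 2` central
    have hc : h ^ 2 ∈ Subgroup.center (Matrix.SpecialLinearGroup (Fin 2) F) := by
      rw [Matrix.SpecialLinearGroup.mem_center_iff]
      refine ⟨-1, by simp, ?_⟩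
      rw [Matrix.SpecialLinearGroup.coe_pow, h1]
      simp only [map_neg, map_one]
    have h1' : (QuotientGroup.mk h : Matrix.ProjectiveSpecialLinearGroup (Fin 2) F) ^ 2 = 1 := by
      rw [← QuotientGroup.mk_pow, QuotientGroup.eq_one_iff]
      exact hc
    have hdvd := orderOf_dvd_of_pow_eq_one h1'
    rw [hord] at hdvd
    have := Nat.le_of_dvd (by norm_num) hdvd
    have hp3 : p ≠ 1 := (Fact.out : p.Prime).ne_one
    omega
  · have hc : h ^ p ∈ Subgroup.center (Matrix.SpecialLinearGroup (Fin 2) F) := by
      rw [Matrix.SpecialLinearGroup.mem_center_iff]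
      refine ⟨1, by simp, ?_⟩
      rw [Matrix.SpecialLinearGroup.coe_pow, h1]
      simp only [map_neg, map_one]
    have h1' : (QuotientGroup.mk h : Matrix.ProjectiveSpecialLinearGroup (Fin 2) F) ^ p = 1 := by
      rw [← QuotientGroup.mk_pow, QuotientGroup.eq_one_iff]
      exact hc
    have hdvd := orderOf_dvd_of_pow_eq_one h1'
    rw [hord] at hdvd
    have := Nat.le_of_dvd (by omega) hdvd
    omega
  · have hc : h ^ p ∈ Subgroup.center (Matrix.SpecialLinearGroup (Fin 2) F) := by
      rw [Matrix.SpecialLinearGroup.mem_center_iff]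
      refine ⟨-1, by simp, ?_⟩
      rw [Matrix.SpecialLinearGroup.coe_pow, h1]
      simp only [map_neg, map_one]
    have h1' : (QuotientGroup.mk h : Matrix.ProjectiveSpecialLinearGroup (Fin 2) F) ^ p = 1 := by
      rw [← QuotientGroup.mk_pow, QuotientGroup.eq_one_iff]
      exact hc
    have hdvd := orderOf_dvd_of_pow_eq_one h1'
    rw [hord] at hdvd
    have := Nat.le_of_dvd (by omega) hdvd
    omega

end Cfsg.Agent.S2471
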