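import Mathlib
import Cfsg.Statements.S2475
import Cfsg.Agent.Lib.helper46.SL2

set_option autoImplicit false
open Cfsg

namespace Cfsg.Agent.S2475

open Cfsg.Agent.Lib.helper46

/-- The set of element orders of PSL(2,q): let F be a finite field of characteristic p with q ≥ 4 elements and d = gcd(2, q − 1). The orders of elements of PSL(2,F) are exactly the divisors of p, of (q − 1)/d and of (q + 1)/d. -/
theorem result {F : Type*} [Field F] [Fintype F] (p : ℕ) [Fact p.Prime] [CharP F p] (h4 : 4 ≤ Fintype.card F) :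
    Set.range (orderOf : Matrix.ProjectiveSpecialLinearGroup (Fin 2) F → ℕ) =
      {m : ℕ | m ∣ p ∨ m ∣ (Fintype.card F - 1) / Nat.gcd 2 (Fintype.card F - 1) ∨ m ∣ (Fintype.card F + 1) / Nat.gcd 2 (Fintype.card F - 1)} := by
  have hd2 : Nat.gcd 2 (Fintype.card F - 1) ≤ 2 := Nat.le_of_dvd (by norm_num) (Nat.gcd_dvd_left 2 _)
  have hd0 : 0 < Nat.gcd 2 (Fintype.card F - 1) := Nat.gcd_pos_of_pos_left _ (by norm_num)
  ext m
  simp only [Set.mem_range, Set.mem_setOf_eq]
  constructor
  · rintro ⟨g, rfl⟩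
    obtain ⟨h, rfl⟩ := QuotientGroup.mk_surjective g
    rcases pow_central_cases p (h : Matrix (Fin 2) (Fin 2) F) h.det_coe with hc | hc | hc
    · left
      rw [orderOf_dvd_iff_pow_eq_one, mk_pow_eq_one_iff]
      exact hc
    · right; left
      rw [orderOf_dvd_iff_pow_eq_one, mk_pow_eq_one_iff]
      exact hc
    · right; right
      rw [orderOf_dvd_iff_pow_eq_one, mk_pow_eq_one_iff]
      exact hc
  · rintro (hm | hm | hm)
    · obtain ⟨g, hg⟩ := exists_order_char (F := F) p
      exact exists_orderOf_eq_of_dvd g m (hg ▸ hm) (hg ▸ (Fact.out : p.Prime).ne_zero)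
    · obtain ⟨h, hh⟩ := exists_split_order (F := F) h4
      refine exists_orderOf_eq_of_dvd _ m (hh ▸ hm) ?_
      rw [hh]
      exact (Nat.div_pos (by omega) hd0).ne'
    · obtain ⟨h, hh⟩ := exists_nonsplit_order (F := F)
      refine exists_orderOf_eq_of_dvd _ m (hh ▸ hm) ?_
      rw [hh]
      exact (Nat.div_pos (by omega) hd0).ne'

end Cfsg.Agent.S2475
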