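import Cfsg.Statements.S2476
import Cfsg.Agent.Lib.helper99.PslSpecB

set_option autoImplicit false
open Cfsg

namespace Cfsg.Agent.S2476

open Cfsg.Agent.Lib.helper99.PslSpec

/-- The set of element orders of PSL(3,q): let F be a finite field of characteristic p with q elements and d = gcd(3, q − 1). The orders of elements of PSL(3,F) are exactly the divisors of (q² + q + 1)/d, of (q² − 1)/d, of q − 1, of p(q − 1)/d, and, when p = 2, of 4. -/
theorem result {F : Type*} [Field F] [Fintype F] (p : ℕ) [Fact p.Prime] [CharP F p] :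
    Set.range (orderOf : Matrix.ProjectiveSpecialLinearGroup (Fin 3) F → ℕ) =
      {m : ℕ | m ∣ (Fintype.card F ^ 2 + Fintype.card F + 1) / Nat.gcd 3 (Fintype.card F - 1) ∨
        m ∣ (Fintype.card F ^ 2 - 1) / Nat.gcd 3 (Fintype.card F - 1) ∨ m ∣ Fintype.card F - 1 ∨
        m ∣ p * (Fintype.card F - 1) / Nat.gcd 3 (Fintype.card F - 1) ∨ (p = 2 ∧ m ∣ 4)} := by
  classical
  obtain ⟨n, -, hn⟩ := FiniteField.card F p
  set q := Fintype.card F with hq
  have hpq : p ∣ q := by rw [hn]; exact dvd_pow_self p n.ne_zero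
  have hdiv : p * (q - 1) / Nat.gcd 3 (q - 1) = p * ((q - 1) / Nat.gcd 3 (q - 1)) :=
    Nat.mul_div_assoc _ (Nat.gcd_dvd_right _ _)
  rw [hdiv]
  ext s
  simp only [Set.mem_range, Set.mem_ofPred_eq]
  constructor
  · rintro ⟨x, rfl⟩
    obtain ⟨g, rfl⟩ := QuotientGroup.mk_surjective x
    obtain ⟨k, c, hk, hc⟩ := spec_sub_mat_psl p q n hn hq.symm g.1 g.2
    have hdvd : orderOf (QuotientGroup.mk g : Matrix.ProjectiveSpecialLinearGroup (Fin 3) F) ∣ k :=
      orderOf_dvd_of_pow_eq_one ((psl_pow_eq_one_iff g k).2 ⟨c, hc⟩)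
    rcases hk with rfl | rfl | rfl | rfl | ⟨h2, rfl⟩
    · exact Or.inl hdvd
    · exact Or.inr (Or.inl hdvd)
    · exact Or.inr (Or.inr (Or.inl hdvd))
    · exact Or.inr (Or.inr (Or.inr (Or.inl hdvd)))
    · exact Or.inr (Or.inr (Or.inr (Or.inr ⟨h2, hdvd⟩)))
  · intro hs
    have key : ∀ N : ℕ, (∃ M : Matrix (Fin 3) (Fin 3) F, M.det = 1 ∧
        ∀ (k : ℕ) (c : F), M ^ k = c • (1 : Matrix (Fin 3) (Fin 3) F) → N ∣ k) → s ∣ N →
        ∃ x : Matrix.ProjectiveSpecialLinearGroup (Fin 3) F, orderOf x = s := by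
      rintro N ⟨M, hdet, hM⟩ hsN
      let g : Matrix.SpecialLinearGroup (Fin 3) F := ⟨M, hdet⟩
      have h1 : N ∣ orderOf (QuotientGroup.mk g : Matrix.ProjectiveSpecialLinearGroup (Fin 3) F) := by
        obtain ⟨c, hc⟩ := (psl_pow_eq_one_iff g _).1
          (pow_orderOf_eq_one (QuotientGroup.mk g : Matrix.ProjectiveSpecialLinearGroup (Fin 3) F))
        exact hM _ c hc
      have hpos : 0 < orderOf (QuotientGroup.mk g : Matrix.ProjectiveSpecialLinearGroup (Fin 3) F) :=
        orderOf_pos _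
      have hs2 : s ∣ orderOf (QuotientGroup.mk g : Matrix.ProjectiveSpecialLinearGroup (Fin 3) F) :=
        hsN.trans h1
      obtain ⟨t, ht⟩ := hs2
      have ht0 : t ≠ 0 := by
        rintro rfl
        omega
      refine ⟨(QuotientGroup.mk g : Matrix.ProjectiveSpecialLinearGroup (Fin 3) F) ^ t, ?_⟩
      rw [orderOf_pow_of_dvd ht0 (by rw [ht]; exact dvd_mul_left t s), ht,
        Nat.mul_div_cancel _ (Nat.pos_of_ne_zero ht0)]
    rcases hs with h | h | h | h | ⟨h2, h⟩
    · exact key _ (pl_ex4 p q hq.symm) h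
    · exact key _ (pl_ex3 p q hq.symm) h
    · exact key _ (pl_ex1 q hq.symm) h
    · exact key _ (pl_ex2 p q hpq hq.symm) h
    · subst h2
      exact key _ pl_ex5 h

end Cfsg.Agent.S2476
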