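import Mathlib
import Cfsg.Statements.S2477

set_option autoImplicit false
open Cfsg

namespace Cfsg.Agent.S2477

/-- All triples `(lcm, sum, card mod 2)` of multisets of parts `≥ 2` with sum `≤ 10`. -/
def reach : List (ℕ × ℕ × ℕ) :=
  [(1, 0, 0), (2, 2, 1), (2, 4, 0), (2, 6, 1), (2, 8, 0), (2, 10, 1), (3, 3, 1), (3, 6, 0), (3, 9, 1),
   (4, 4, 1), (4, 6, 0), (4, 8, 0), (4, 8, 1), (4, 10, 0), (4, 10, 1), (5, 5, 1), (5, 10, 0), (6, 5, 0),
   (6, 6, 1), (6, 7, 1), (6, 8, 0), (6, 8, 1), (6, 9, 0), (6, 10, 0), (6, 10, 1), (7, 7, 1), (8, 8, 1),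
   (8, 10, 0), (9, 9, 1), (10, 7, 0), (10, 9, 1), (10, 10, 1), (12, 7, 0), (12, 9, 1), (12, 10, 0),
   (12, 10, 1), (14, 9, 0), (15, 8, 0), (20, 9, 0), (21, 10, 0), (30, 10, 1)]

theorem reach_step : ∀ x ∈ reach, ∀ a ∈ Finset.Icc 2 10, a + x.2.1 ≤ 10 →
    (Nat.lcm a x.1, a + x.2.1, (x.2.2 + 1) % 2) ∈ reach := by
  decide +kernel

theorem reach_final : ∀ x ∈ reach, (x.2.1 + x.2.2) % 2 = 0 →
    x.1 ∈ [1, 2, 3, 4, 5, 6, 7, 8, 9, 10, 12, 15, 21] := by
  decide +kernel

theorem mem_reach (T : Multiset ℕ) : (∀ a ∈ T, 2 ≤ a) → T.sum ≤ 10 →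
    (T.lcm, T.sum, Multiset.card T % 2) ∈ reach := by
  induction T using Multiset.induction_on with
  | empty =>
    intro _ _
    simp [reach]
  | cons a s ih =>
    intro h2 hsum
    rw [Multiset.sum_cons] at hsum
    have ha2 : 2 ≤ a := h2 a (Multiset.mem_cons_self a s)
    have hx := ih (fun b hb => h2 b (Multiset.mem_cons_of_mem hb)) (by omega)
    have hstep := reach_step _ hx a (by rw [Finset.mem_Icc]; omega) hsum
    rw [Multiset.lcm_cons, Multiset.sum_cons, Multiset.card_cons]
    have h1 : (Multiset.card s + 1) % 2 = (Multiset.card s % 2 + 1) % 2 := by omega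
    rw [h1]
    exact hstep

theorem lcm_mem_range (T : Multiset ℕ) (h2 : ∀ a ∈ T, 2 ≤ a) (hsum : T.sum ≤ 10)
    (hpar : Even (T.sum + Multiset.card T)) :
    T.lcm ∈ Set.range (orderOf : alternatingGroup (Fin 10) → ℕ) := by
  have hex : ∃ g : Equiv.Perm (Fin 10), g.cycleType = T := by
    rw [Equiv.Perm.exists_with_cycleType_iff]
    exact ⟨by simpa using hsum, h2⟩
  obtain ⟨g, hg⟩ := hex
  have hsign : Equiv.Perm.sign g = 1 := by
    rw [Equiv.Perm.sign_of_cycleType, hg]
    exact Even.neg_one_pow hpar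
  refine ⟨⟨g, Equiv.Perm.mem_alternatingGroup.mpr hsign⟩, ?_⟩
  rw [← Subgroup.orderOf_coe]
  change orderOf g = T.lcm
  rw [← Equiv.Perm.lcm_cycleType, hg]

/-- The set of element orders of the alternating group of degree 10 is {1, 2, 3, 4, 5, 6, 7, 8, 9, 10, 12, 15, 21}. -/
theorem result : Set.range (orderOf : alternatingGroup (Fin 10) → ℕ) = {1, 2, 3, 4, 5, 6, 7, 8, 9, 10, 12, 15, 21} := by
  apply Set.eq_of_subset_of_subset
  · rintro m ⟨g, rfl⟩
    rw [← Subgroup.orderOf_coe, ← Equiv.Perm.lcm_cycleType]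
    have hsum : (g : Equiv.Perm (Fin 10)).cycleType.sum ≤ 10 := by
      simpa using Equiv.Perm.sum_cycleType_le (g : Equiv.Perm (Fin 10))
    have hsign : Equiv.Perm.sign (g : Equiv.Perm (Fin 10)) = 1 :=
      Equiv.Perm.mem_alternatingGroup.mp g.2
    rw [Equiv.Perm.sign_of_cycleType] at hsign
    have hpar : Even ((g : Equiv.Perm (Fin 10)).cycleType.sum
        + Multiset.card (g : Equiv.Perm (Fin 10)).cycleType) := by
      by_contra hne
      rw [Nat.not_even_iff_odd] at hne
      rw [hne.neg_one_pow] at hsign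
      exact absurd hsign (by decide)
    have hmem := mem_reach _ (fun a ha => Equiv.Perm.two_le_of_mem_cycleType ha) hsum
    have hfin := reach_final _ hmem (by
      show ((g : Equiv.Perm (Fin 10)).cycleType.sum
        + Multiset.card (g : Equiv.Perm (Fin 10)).cycleType % 2) % 2 = 0
      have := Nat.even_iff.mp hpar
      omega)
    simpa using hfin
  · intro m hm
    simp only [Set.mem_insert_iff, Set.mem_singleton_iff] at hm
    rcases hm with rfl | rfl | rfl | rfl | rfl | rfl | rfl | rfl | rfl | rfl | rfl | rfl | rfl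
    · exact lcm_mem_range 0 (by decide) (by decide) (by decide)
    · exact lcm_mem_range {2, 2} (by decide) (by decide) (by decide)
    · exact lcm_mem_range {3} (by decide) (by decide) (by decide)
    · exact lcm_mem_range {4, 2} (by decide) (by decide) (by decide)
    · exact lcm_mem_range {5} (by decide) (by decide) (by decide)
    · exact lcm_mem_range {3, 2, 2} (by decide) (by decide) (by decide)
    · exact lcm_mem_range {7} (by decide) (by decide) (by decide)
    · exact lcm_mem_range {8, 2} (by decide) (by decide) (by decide)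
    · exact lcm_mem_range {9} (by decide) (by decide) (by decide)
    · exact lcm_mem_range {5, 2, 2} (by decide) (by decide) (by decide)
    · exact lcm_mem_range {4, 3, 2} (by decide) (by decide) (by decide)
    · exact lcm_mem_range {5, 3} (by decide) (by decide) (by decide)
    · exact lcm_mem_range {7, 3} (by decide) (by decide) (by decide)

end Cfsg.Agent.S2477
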