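import Cfsg.Statements.S2485
import Mathlib
-- import your own Cfsg.Agent.* helpers here

set_option autoImplicit false
open scoped Pointwise
open Cfsg

namespace Cfsg.Agent.S2485

section prep

variable {q : ℕ} [Fact q.Prime]

/-- the quotient map -/
abbrev pr (g : GL (Fin 2) (ZMod q)) : GL (Fin 2) (ZMod q) ⧸ Subgroup.center (GL (Fin 2) (ZMod q)) :=
  (g : GL (Fin 2) (ZMod q) ⧸ Subgroup.center (GL (Fin 2) (ZMod q)))

theorem pr_eq_iff (g h : GL (Fin 2) (ZMod q)) :
    pr g = pr h ↔ ∃ c : ZMod q, (h : Matrix (Fin 2) (Fin 2) (ZMod q)) =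
      c • (g : Matrix (Fin 2) (Fin 2) (ZMod q)) := by
  rw [pr, pr, QuotientGroup.eq, Matrix.GeneralLinearGroup.mem_center_iff_val_mem_range_scalar]
  constructor
  · rintro ⟨c, hc⟩
    refine ⟨c, ?_⟩
    have h1 : (h : Matrix (Fin 2) (Fin 2) (ZMod q)) =
        (g : Matrix (Fin 2) (Fin 2) (ZMod q)) * ((g⁻¹ * h : GL (Fin 2) (ZMod q)) :
          Matrix (Fin 2) (Fin 2) (ZMod q)) := by
      rw [← Units.val_mul, mul_inv_cancel_left]
    rw [h1, ← hc]
    simp [Matrix.scalar_apply, Matrix.smul_eq_mul_diagonal]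
  · rintro ⟨c, hc⟩
    refine ⟨c, ?_⟩
    have h1 : ((g⁻¹ * h : GL (Fin 2) (ZMod q)) : Matrix (Fin 2) (Fin 2) (ZMod q)) =
        ((g⁻¹ : GL (Fin 2) (ZMod q)) : Matrix (Fin 2) (Fin 2) (ZMod q)) *
          (h : Matrix (Fin 2) (Fin 2) (ZMod q)) := by
      rw [Units.val_mul]
    rw [h1, hc, Matrix.mul_smul, ← Units.val_mul, inv_mul_cancel]
    simp [Matrix.scalar_apply, Matrix.smul_one_eq_diagonal]

theorem pr_comm_iff (g h : GL (Fin 2) (ZMod q)) :
    pr g * pr h = pr h * pr g ↔ ∃ c : ZMod q,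
      (g : Matrix (Fin 2) (Fin 2) (ZMod q)) * (h : Matrix (Fin 2) (Fin 2) (ZMod q)) =
      c • ((h : Matrix (Fin 2) (Fin 2) (ZMod q)) * (g : Matrix (Fin 2) (Fin 2) (ZMod q))) := by
  have h1 : pr g * pr h = pr (g * h) := rfl
  have h2 : pr h * pr g = pr (h * g) := rfl
  rw [h1, h2, eq_comm, pr_eq_iff]
  simp only [Units.val_mul]

end prep

section core

variable {q : ℕ} [Fact q.Prime]

/-- the matrix of the non-split involution -/
def mZ (q : ℕ) : Matrix (Fin 2) (Fin 2) (ZMod q) := !![0, -1; 1, 0]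
/-- `1 + mZ` -/
def mU (q : ℕ) : Matrix (Fin 2) (Fin 2) (ZMod q) := !![1, -1; 1, 1]
/-- a matrix anticommuting with `mZ` -/
def mK (q : ℕ) : Matrix (Fin 2) (Fin 2) (ZMod q) := !![1, 0; 0, -1]

theorem det_mZ : (mZ q).det = 1 := by simp [mZ, Matrix.det_fin_two_of]
theorem det_mU : (mU q).det = 2 := by
  simp [mU, Matrix.det_fin_two_of]; norm_num
theorem det_mK : (mK q).det = -1 := by simp [mK, Matrix.det_fin_two_of]

theorem mZ_sq : mZ q * mZ q = -1 := by
  ext i j
  fin_cases i <;> fin_cases j <;> simp [mZ, Matrix.mul_apply, Fin.sum_univ_two]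

/-- hypothesis package: `q` odd with `-1` a non-square -/
def Good (q : ℕ) [Fact q.Prime] : Prop :=
  (2 : ZMod q) ≠ 0 ∧ ∀ a b : ZMod q, a ^ 2 + b ^ 2 = 0 → a = 0 ∧ b = 0

theorem good_of (k : ℕ) (hk : q + 1 = 2 ^ k) (hq : 7 ≤ q) : Good q ∧ q % 4 = 3 := by
  have hk3 : 3 ≤ k := by
    by_contra hcon
    have : k ≤ 2 := by omega
    have : 2 ^ k ≤ 2 ^ 2 := Nat.pow_le_pow_right (by norm_num) this
    omega
  have h4 : q % 4 = 3 := by
    obtain ⟨m, rfl⟩ : ∃ m, k = m + 2 := ⟨k - 2, by omega⟩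
    rw [pow_add] at hk
    omega
  have hns : ¬ IsSquare (-1 : ZMod q) := by
    rw [ZMod.exists_sq_eq_neg_one_iff]
    omega
  refine ⟨⟨?_, ?_⟩, h4⟩
  · intro h
    have h2 : ((2 : ℕ) : ZMod q) = 0 := by exact_mod_cast h
    rw [ZMod.natCast_eq_zero_iff] at h2
    have := Nat.le_of_dvd (by norm_num) h2
    omega
  · intro a b hab
    by_cases hb : b = 0
    · subst hb
      simp at hab
      exact ⟨hab, rfl⟩
    · exfalso
      apply hns
      refine ⟨a / b, ?_⟩
      field_simp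
      linear_combination -hab

theorem comm_form (M : Matrix (Fin 2) (Fin 2) (ZMod q)) (h : M * mZ q = mZ q * M) :
    M = !![M 0 0, -(M 1 0); M 1 0, M 0 0] := by
  have h00 := congrFun (congrFun h 0) 0
  have h01 := congrFun (congrFun h 0) 1
  simp [mZ, Matrix.mul_apply, Fin.sum_univ_two] at h00 h01
  ext i j
  fin_cases i <;> fin_cases j <;> simp [h00, h01]

theorem anti_form (M : Matrix (Fin 2) (Fin 2) (ZMod q)) (h : M * mZ q = -(mZ q * M)) :
    M = !![M 0 0, M 1 0; M 1 0, -(M 0 0)] := by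
  have h00 := congrFun (congrFun h 0) 0
  have h01 := congrFun (congrFun h 0) 1
  simp only [Matrix.neg_apply, Matrix.mul_apply, Fin.sum_univ_two] at h00 h01
  simp [mZ] at h00 h01
  ext i j
  fin_cases i <;> fin_cases j <;> simp [h00, h01]

theorem scal_pm (M : Matrix (Fin 2) (Fin 2) (ZMod q)) (hM : M.det ≠ 0) (c : ZMod q)
    (h : M * mZ q = c • (mZ q * M)) : c = 1 ∨ c = -1 := by
  have h00 := congrFun (congrFun h 0) 0
  have h01 := congrFun (congrFun h 0) 1
  have h10 := congrFun (congrFun h 1) 0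
  have h11 := congrFun (congrFun h 1) 1
  simp only [Matrix.smul_apply, Matrix.mul_apply, Fin.sum_univ_two, smul_eq_mul] at h00 h01 h10 h11
  simp [mZ] at h00 h01 h10 h11
  -- h00 : M 0 1 = -(c * M 1 0), h01 : M 0 0 = c * M 1 1, h10 : M 1 1 = c * M 0 0, h11 : M 1 0 = -(c * M 0 1)
  by_contra hcon
  push Not at hcon
  have hc : c ^ 2 - 1 ≠ 0 := by
    intro h0
    have : (c - 1) * (c + 1) = 0 := by linear_combination h0
    rcases mul_eq_zero.mp this with h1 | h1
    · exact hcon.1 (by linear_combination h1)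
    · exact hcon.2 (by linear_combination h1)
  have ha : M 0 0 = 0 := by
    have : (c ^ 2 - 1) * M 0 0 = 0 := by linear_combination (-1 : ZMod q) * h01 - c * h10
    exact (mul_eq_zero.mp this).resolve_left hc
  have hb : M 0 1 = 0 := by
    have : (c ^ 2 - 1) * M 0 1 = 0 := by linear_combination (-1 : ZMod q) * h00 - c * h11
    exact (mul_eq_zero.mp this).resolve_left hc
  apply hM
  rw [Matrix.det_fin_two, ha, hb]
  simp

end core

section grp

variable {q : ℕ} [Fact q.Prime]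

/-- the non-split involution as an element of `GL` -/
noncomputable def gZ (q : ℕ) [Fact q.Prime] : GL (Fin 2) (ZMod q) :=
  Matrix.GeneralLinearGroup.mkOfDetNeZero (mZ q) (by rw [det_mZ]; exact one_ne_zero)

theorem gZ_val : ((gZ q : GL (Fin 2) (ZMod q)) : Matrix (Fin 2) (Fin 2) (ZMod q)) = mZ q := rfl

/-- `1 + mZ` as an element of `GL` -/
noncomputable def gU (hg : Good q) : GL (Fin 2) (ZMod q) :=
  Matrix.GeneralLinearGroup.mkOfDetNeZero (mU q) (by rw [det_mU]; exact hg.1)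

theorem gU_val (hg : Good q) :
    ((gU hg : GL (Fin 2) (ZMod q)) : Matrix (Fin 2) (Fin 2) (ZMod q)) = mU q := rfl

/-- `mK` as an element of `GL` -/
noncomputable def gK (q : ℕ) [Fact q.Prime] : GL (Fin 2) (ZMod q) :=
  Matrix.GeneralLinearGroup.mkOfDetNeZero (mK q) (by rw [det_mK]; simp)

theorem gK_val : ((gK q : GL (Fin 2) (ZMod q)) : Matrix (Fin 2) (Fin 2) (ZMod q)) = mK q := rfl

theorem mZ_pow (h4 : q % 4 = 3) : mZ q ^ q = -mZ q := by
  obtain ⟨m, hm⟩ : ∃ m, q = 2 * (2 * m + 1) + 1 := ⟨q / 4, by omega⟩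
  have h2 : mZ q ^ 2 = -1 := by rw [pow_two, mZ_sq]
  have h3 : mZ q ^ q = mZ q ^ (2 * (2 * m + 1) + 1) := congrArg (fun n => mZ q ^ n) hm
  rw [h3, pow_succ, pow_mul, h2, Odd.neg_one_pow ⟨m, rfl⟩]
  simp

theorem comm_pow (h4 : q % 4 = 3) (a b : ZMod q) :
    (!![a, -b; b, a] : Matrix (Fin 2) (Fin 2) (ZMod q)) ^ (q + 1) =
      (a ^ 2 + b ^ 2) • (1 : Matrix (Fin 2) (Fin 2) (ZMod q)) := by
  have h1 : (!![a, -b; b, a] : Matrix (Fin 2) (Fin 2) (ZMod q)) =
      a • (1 : Matrix (Fin 2) (Fin 2) (ZMod q)) + b • mZ q := by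
    ext i j
    fin_cases i <;> fin_cases j <;> simp [mZ]
  have hcomm : Commute (a • (1 : Matrix (Fin 2) (Fin 2) (ZMod q))) (b • mZ q) := by
    exact ((Commute.one_left (mZ q)).smul_left a).smul_right b
  have h2 : (a • (1 : Matrix (Fin 2) (Fin 2) (ZMod q)) + b • mZ q) ^ q =
      a • (1 : Matrix (Fin 2) (Fin 2) (ZMod q)) + b • (-mZ q) := by
    rw [add_pow_char_of_commute q hcomm, smul_pow, smul_pow, one_pow, ZMod.pow_card, ZMod.pow_card,
      mZ_pow h4]
  rw [pow_succ, h1, h2]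
  ext i j
  fin_cases i <;> fin_cases j <;> simp [mZ, Matrix.mul_apply, Fin.sum_univ_two] <;> ring

theorem anti_sq (a b : ZMod q) :
    (!![a, b; b, -a] : Matrix (Fin 2) (Fin 2) (ZMod q)) ^ 2 =
      (a ^ 2 + b ^ 2) • (1 : Matrix (Fin 2) (Fin 2) (ZMod q)) := by
  rw [pow_two]
  ext i j
  fin_cases i <;> fin_cases j <;> simp [Matrix.mul_apply, Fin.sum_univ_two] <;> ring

theorem pr_eq_one_of_scalar (g : GL (Fin 2) (ZMod q)) (c : ZMod q)
    (h : (g : Matrix (Fin 2) (Fin 2) (ZMod q)) = c • (1 : Matrix (Fin 2) (Fin 2) (ZMod q))) :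
    pr g = 1 := by
  have : pr (1 : GL (Fin 2) (ZMod q)) = pr g := by
    rw [pr_eq_iff]
    exact ⟨c, by rw [h]; rfl⟩
  rw [← this]; rfl

theorem z0_ne_one : pr (gZ q) ≠ 1 := by
  intro h
  have h1 : pr (1 : GL (Fin 2) (ZMod q)) = pr (gZ q) := by rw [h]; rfl
  rw [pr_eq_iff] at h1
  obtain ⟨c, hc⟩ := h1
  have h00 := congrFun (congrFun hc 0) 0
  have h10 := congrFun (congrFun hc 1) 0
  rw [gZ_val] at h00 h10
  simp [mZ] at h00 h10

theorem isPGroup_cent (h4 : q % 4 = 3) (k : ℕ) (hk : q + 1 = 2 ^ k) :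
    IsPGroup 2 (Subgroup.centralizer
      ({pr (gZ q)} : Set (GL (Fin 2) (ZMod q) ⧸ Subgroup.center (GL (Fin 2) (ZMod q))))) := by
  rintro ⟨x, hx⟩
  obtain ⟨g, rfl⟩ := QuotientGroup.mk_surjective x
  rw [Subgroup.mem_centralizer_iff] at hx
  have h1 := hx (pr (gZ q)) rfl
  have h2 : pr g * pr (gZ q) = pr (gZ q) * pr g := h1.symm
  rw [pr_comm_iff] at h2
  obtain ⟨c, hc⟩ := h2
  rw [gZ_val] at hc
  have hdet : (g : Matrix (Fin 2) (Fin 2) (ZMod q)).det ≠ 0 := by
    have := Matrix.GeneralLinearGroup.det_ne_zero g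
    simpa using this
  rcases scal_pm _ hdet c hc with rfl | rfl
  · rw [one_smul] at hc
    have hform := comm_form _ hc
    refine ⟨k, ?_⟩
    apply Subtype.ext
    show pr g ^ 2 ^ k = 1
    have : pr g ^ 2 ^ k = pr (g ^ (q + 1)) := by rw [hk]; rfl
    rw [this]
    apply pr_eq_one_of_scalar _ _ (c := (g : Matrix (Fin 2) (Fin 2) (ZMod q)) 0 0 ^ 2 +
      (g : Matrix (Fin 2) (Fin 2) (ZMod q)) 1 0 ^ 2)
    rw [Units.val_pow_eq_pow_val, hform]
    exact comm_pow h4 _ _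
  · rw [neg_smul, one_smul] at hc
    have hform := anti_form _ hc
    refine ⟨1, ?_⟩
    apply Subtype.ext
    show pr g ^ 2 ^ 1 = 1
    have : pr g ^ 2 ^ 1 = pr (g ^ 2) := by rw [pow_one]; rfl
    rw [this]
    apply pr_eq_one_of_scalar _ _ (c := (g : Matrix (Fin 2) (Fin 2) (ZMod q)) 0 0 ^ 2 +
      (g : Matrix (Fin 2) (Fin 2) (ZMod q)) 1 0 ^ 2)
    rw [Units.val_pow_eq_pow_val, hform]
    exact anti_sq _ _

theorem mem_cent_iff (x : GL (Fin 2) (ZMod q) ⧸ Subgroup.center (GL (Fin 2) (ZMod q))) :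
    x ∈ Subgroup.centralizer
      ({pr (gZ q)} : Set (GL (Fin 2) (ZMod q) ⧸ Subgroup.center (GL (Fin 2) (ZMod q)))) ↔
    x * pr (gZ q) = pr (gZ q) * x := by
  rw [Subgroup.mem_centralizer_iff]
  constructor
  · intro h; exact (h _ rfl).symm
  · intro h y hy
    rw [Set.mem_singleton_iff] at hy
    rw [hy, h]

theorem gU_mem (hg : Good q) : pr (gU hg) * pr (gZ q) = pr (gZ q) * pr (gU hg) := by
  rw [pr_comm_iff]
  refine ⟨1, ?_⟩
  rw [gU_val, gZ_val, one_smul]
  ext i j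
  fin_cases i <;> fin_cases j <;> simp [mU, mZ, Matrix.mul_apply, Fin.sum_univ_two]

theorem gK_mem : pr (gK q) * pr (gZ q) = pr (gZ q) * pr (gK q) := by
  rw [pr_comm_iff]
  refine ⟨-1, ?_⟩
  rw [gK_val, gZ_val, neg_smul, one_smul]
  ext i j
  fin_cases i <;> fin_cases j <;> simp [mK, mZ, Matrix.mul_apply, Fin.sum_univ_two]

/-- an element commuting with `z0`, `U`, `K` is `1` or `z0` -/
theorem center_elt (hg : Good q)
    (c : GL (Fin 2) (ZMod q) ⧸ Subgroup.center (GL (Fin 2) (ZMod q)))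
    (h1 : c * pr (gZ q) = pr (gZ q) * c) (h2 : c * pr (gU hg) = pr (gU hg) * c)
    (h3 : c * pr (gK q) = pr (gK q) * c) : c = 1 ∨ c = pr (gZ q) := by
  obtain ⟨w, rfl⟩ := QuotientGroup.mk_surjective c
  have h1' : pr w * pr (gZ q) = pr (gZ q) * pr w := h1
  have h2' : pr w * pr (gU hg) = pr (gU hg) * pr w := h2
  have h3' : pr w * pr (gK q) = pr (gK q) * pr w := h3
  rw [pr_comm_iff] at h1' h2' h3'
  obtain ⟨c1, hc1⟩ := h1'
  obtain ⟨c2, hc2⟩ := h2'
  obtain ⟨c3, hc3⟩ := h3'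
  rw [gZ_val] at hc1
  rw [gU_val] at hc2
  rw [gK_val] at hc3
  have hdet : (w : Matrix (Fin 2) (Fin 2) (ZMod q)).det ≠ 0 := by
    have := Matrix.GeneralLinearGroup.det_ne_zero w
    simpa using this
  set a := (w : Matrix (Fin 2) (Fin 2) (ZMod q)) 0 0 with ha
  set b := (w : Matrix (Fin 2) (Fin 2) (ZMod q)) 1 0 with hb
  rcases scal_pm _ hdet c1 hc1 with rfl | rfl
  · rw [one_smul] at hc1
    have hform := comm_form _ hc1
    rw [← ha, ← hb] at hform
    rw [hform] at hc3 hdet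
    have e00 := congrFun (congrFun hc3 0) 0
    have e10 := congrFun (congrFun hc3 1) 0
    simp only [Matrix.smul_apply, Matrix.mul_apply, Fin.sum_univ_two, smul_eq_mul] at e00 e10
    simp [mK] at e00 e10
    -- e00 : a = c3 * a, e10 : b = -(c3 * b) or similar
    by_cases ha0 : a = 0
    · right
      show pr w = pr (gZ q)
      rw [eq_comm, pr_eq_iff]
      refine ⟨b, ?_⟩
      rw [hform, gZ_val, ha0]
      ext i j
      fin_cases i <;> fin_cases j <;> simp [mZ]
    · left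
      have hc3' : c3 = 1 := by
        have : (c3 - 1) * a = 0 := by linear_combination -e00
        rcases mul_eq_zero.mp this with h | h
        · linear_combination h
        · exact absurd h ha0
      rw [hc3'] at e10
      have hb0 : b = 0 := by
        have : (2 : ZMod q) * b = 0 := by linear_combination e10
        exact (mul_eq_zero.mp this).resolve_left hg.1
      apply pr_eq_one_of_scalar _ a
      rw [hform, hb0]
      ext i j
      fin_cases i <;> fin_cases j <;> simp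
  · exfalso
    rw [neg_smul, one_smul] at hc1
    have hform := anti_form _ hc1
    rw [← ha, ← hb] at hform
    rw [hform] at hc2 hdet
    have e00 := congrFun (congrFun hc2 0) 0
    have e01 := congrFun (congrFun hc2 0) 1
    simp only [Matrix.smul_apply, Matrix.mul_apply, Fin.sum_univ_two, smul_eq_mul] at e00 e01
    simp [mU] at e00 e01
    -- e00 : a + b = c2 * (a - b), e01 : -a + b = c2 * (b + a)
    have hc : (1 : ZMod q) + c2 ^ 2 ≠ 0 := by
      intro h
      have := hg.2 1 c2 (by rw [one_pow]; exact h)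
      exact one_ne_zero this.1
    have hab : b = a := by
      have : (1 + c2 ^ 2) * (b - a) = 0 := by linear_combination e01 + c2 * e00
      have := (mul_eq_zero.mp this).resolve_left hc
      linear_combination this
    rw [hab] at e00
    have ha0 : a = 0 := by
      have : (2 : ZMod q) * a = 0 := by linear_combination e00
      exact (mul_eq_zero.mp this).resolve_left hg.1
    apply hdet
    rw [hab, ha0]
    simp [Matrix.det_fin_two_of]

/-- the centralizer of `z0` is a Sylow 2-subgroup -/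
theorem exists_sylow (hg : Good q) (h4 : q % 4 = 3) (k : ℕ) (hk : q + 1 = 2 ^ k) :
    ∃ P : Sylow 2 (GL (Fin 2) (ZMod q) ⧸ Subgroup.center (GL (Fin 2) (ZMod q))),
      (P : Subgroup (GL (Fin 2) (ZMod q) ⧸ Subgroup.center (GL (Fin 2) (ZMod q)))) =
        Subgroup.centralizer
          ({pr (gZ q)} : Set (GL (Fin 2) (ZMod q) ⧸ Subgroup.center (GL (Fin 2) (ZMod q)))) := by
  obtain ⟨P, hP⟩ := (isPGroup_cent h4 k hk).exists_le_sylow
  refine ⟨P, le_antisymm ?_ hP⟩
  have hz0 : pr (gZ q) ∈ (P : Subgroup (GL (Fin 2) (ZMod q) ⧸ Subgroup.center (GL (Fin 2) (ZMod q)))) :=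
    hP ((mem_cent_iff _).mpr rfl)
  have hU : pr (gU hg) ∈ (P : Subgroup (GL (Fin 2) (ZMod q) ⧸ Subgroup.center (GL (Fin 2) (ZMod q)))) :=
    hP ((mem_cent_iff _).mpr (gU_mem hg))
  have hK : pr (gK q) ∈ (P : Subgroup (GL (Fin 2) (ZMod q) ⧸ Subgroup.center (GL (Fin 2) (ZMod q)))) :=
    hP ((mem_cent_iff _).mpr gK_mem)
  haveI : Nontrivial (P : Subgroup (GL (Fin 2) (ZMod q) ⧸ Subgroup.center (GL (Fin 2) (ZMod q)))) :=
    ⟨⟨⟨pr (gZ q), hz0⟩, 1, fun h => z0_ne_one (congrArg Subtype.val h)⟩⟩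
  haveI : Fact (Nat.Prime 2) := ⟨Nat.prime_two⟩
  haveI := IsPGroup.center_nontrivial P.isPGroup'
  obtain ⟨c, hc⟩ := exists_ne (1 : Subgroup.center
    (P : Subgroup (GL (Fin 2) (ZMod q) ⧸ Subgroup.center (GL (Fin 2) (ZMod q)))))
  have hcc := Subgroup.mem_center_iff.mp c.2
  -- c commutes with z0, U, K
  have e1 := congrArg Subtype.val (hcc ⟨pr (gZ q), hz0⟩)
  have e2 := congrArg Subtype.val (hcc ⟨pr (gU hg), hU⟩)
  have e3 := congrArg Subtype.val (hcc ⟨pr (gK q), hK⟩)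
  simp only [Subgroup.coe_mul] at e1 e2 e3
  have hcz : ((c : (P : Subgroup (GL (Fin 2) (ZMod q) ⧸ Subgroup.center (GL (Fin 2) (ZMod q))))) :
      GL (Fin 2) (ZMod q) ⧸ Subgroup.center (GL (Fin 2) (ZMod q))) = pr (gZ q) := by
    rcases center_elt hg _ e1.symm e2.symm e3.symm with h | h
    · exfalso
      apply hc
      apply Subtype.ext
      apply Subtype.ext
      exact h
    · exact h
  intro x hx
  rw [mem_cent_iff]
  have e4 := congrArg Subtype.val (hcc ⟨x, hx⟩)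
  simp only [Subgroup.coe_mul] at e4
  rw [hcz] at e4
  exact e4

/-- the core computation: two conjugates of `z0` have a common non-trivial centralizing element -/
theorem core (hg : Good q) (g : GL (Fin 2) (ZMod q) ⧸ Subgroup.center (GL (Fin 2) (ZMod q))) :
    ∃ w : GL (Fin 2) (ZMod q) ⧸ Subgroup.center (GL (Fin 2) (ZMod q)), w ≠ 1 ∧
      w * pr (gZ q) = pr (gZ q) * w ∧
      w * (g * pr (gZ q) * g⁻¹) = (g * pr (gZ q) * g⁻¹) * w := by
  obtain ⟨M, rfl⟩ := QuotientGroup.mk_surjective g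
  have hconj : pr M * pr (gZ q) * (pr M)⁻¹ = pr (M * gZ q * M⁻¹) := rfl
  rw [hconj]
  set X := mZ q with hX
  set Y := ((M * gZ q * M⁻¹ : GL (Fin 2) (ZMod q)) : Matrix (Fin 2) (Fin 2) (ZMod q)) with hY
  have hXX : X * X = -1 := mZ_sq
  have hYY : Y * Y = -1 := by
    have h1 : (M * gZ q * M⁻¹) * (M * gZ q * M⁻¹) = M * (gZ q * gZ q) * M⁻¹ := by group
    have h2 : ((gZ q * gZ q : GL (Fin 2) (ZMod q)) : Matrix (Fin 2) (Fin 2) (ZMod q)) = -1 := by
      rw [Units.val_mul, gZ_val]; exact mZ_sq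
    have h3 := congrArg (fun u : GL (Fin 2) (ZMod q) => (u : Matrix (Fin 2) (Fin 2) (ZMod q))) h1
    simp only [Units.val_mul] at h3
    rw [Units.val_mul] at h2
    rw [hY]
    simp only [Units.val_mul]
    rw [h3, h2]
    have h4 : (M : Matrix (Fin 2) (Fin 2) (ZMod q)) *
        ((M⁻¹ : GL (Fin 2) (ZMod q)) : Matrix (Fin 2) (Fin 2) (ZMod q)) = 1 := by
      rw [← Units.val_mul, mul_inv_cancel]; rfl
    rw [Matrix.mul_neg, Matrix.mul_one, Matrix.neg_mul, h4]
  set W := X * Y - Y * X with hW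
  have hWX : W * X = -(X * W) := by
    have e : W * X + X * W = (X * X) * Y - Y * (X * X) := by
      rw [hW]; noncomm_ring
    rw [hXX] at e
    have e' : W * X + X * W = 0 := by rw [e]; simp
    exact eq_neg_of_add_eq_zero_left e'
  have hWY : W * Y = -(Y * W) := by
    have e : W * Y + Y * W = X * (Y * Y) - (Y * Y) * X := by
      rw [hW]; noncomm_ring
    rw [hYY] at e
    have e' : W * Y + Y * W = 0 := by rw [e]; simp
    exact eq_neg_of_add_eq_zero_left e'
  by_cases hW0 : W = 0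
  · refine ⟨pr (M * gZ q * M⁻¹), ?_, ?_, rfl⟩
    · intro h
      rw [← hconj] at h
      apply z0_ne_one (q := q)
      have : pr (gZ q) = (pr M)⁻¹ * (pr M * pr (gZ q) * (pr M)⁻¹) * pr M := by group
      rw [this, h]; group
    · rw [pr_comm_iff]
      refine ⟨1, ?_⟩
      rw [one_smul, gZ_val, ← hY, ← hX]
      have : X * Y - Y * X = 0 := hW0
      exact (sub_eq_zero.mp this).symm
  · have hform := anti_form W hWX
    have hdet : W.det ≠ 0 := by
      intro hd
      rw [hform, Matrix.det_fin_two_of] at hd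
      have h0 := hg.2 (W 0 0) (W 1 0) (by linear_combination -hd)
      apply hW0
      rw [hform, h0.1, h0.2]
      ext i j
      fin_cases i <;> fin_cases j <;> simp
    refine ⟨pr (Matrix.GeneralLinearGroup.mkOfDetNeZero W hdet), ?_, ?_, ?_⟩
    · intro h
      have h1 : pr (1 : GL (Fin 2) (ZMod q)) = pr (Matrix.GeneralLinearGroup.mkOfDetNeZero W hdet) := by
        rw [h]; rfl
      rw [pr_eq_iff] at h1
      obtain ⟨c, hc⟩ := h1
      have hc' : W = c • (1 : Matrix (Fin 2) (Fin 2) (ZMod q)) := hc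
      have e00 := congrFun (congrFun hc' 0) 0
      have e10 := congrFun (congrFun hc' 1) 0
      have e11 := congrFun (congrFun hc' 1) 1
      have f11 := congrFun (congrFun hform 1) 1
      simp at e00 e10 e11 f11
      have ha : W 0 0 = 0 := by
        have : (2 : ZMod q) * W 0 0 = 0 := by linear_combination e00 - e11 + f11
        exact (mul_eq_zero.mp this).resolve_left hg.1
      apply hW0
      rw [hform, ha, e10]
      ext i j
      fin_cases i <;> fin_cases j <;> simp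
    · rw [pr_comm_iff]
      refine ⟨-1, ?_⟩
      rw [neg_smul, one_smul]
      exact hWX
    · rw [pr_comm_iff]
      refine ⟨-1, ?_⟩
      rw [neg_smul, one_smul]
      exact hWY

end grp

/-- Let q = 2^k − 1 ≥ 7 be a prime and let G = PGL(2,q), the general linear group of degree 2 over the field with q elements modulo its centre. Then any two Sylow 2-subgroups of G have a non-trivial intersection: for a Sylow 2-subgroup H and every x ∈ G, H ∩ H^x ≠ 1. -/
theorem result {q k : ℕ} [Fact q.Prime] (hk : q + 1 = 2 ^ k) (hq : 7 ≤ q)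
    (H : Sylow 2 (GL (Fin 2) (ZMod q) ⧸ Subgroup.center (GL (Fin 2) (ZMod q))))
    (x : GL (Fin 2) (ZMod q) ⧸ Subgroup.center (GL (Fin 2) (ZMod q))) :
    (H : Subgroup (GL (Fin 2) (ZMod q) ⧸ Subgroup.center (GL (Fin 2) (ZMod q)))) ⊓ MulAut.conj x • (H : Subgroup _) ≠ ⊥ := by
  obtain ⟨hg, h4⟩ := good_of k hk hq
  obtain ⟨P0, hP0⟩ := exists_sylow hg h4 k hk
  obtain ⟨g, hg'⟩ := MulAction.exists_smul_eq
    (GL (Fin 2) (ZMod q) ⧸ Subgroup.center (GL (Fin 2) (ZMod q))) P0 H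
  have hH : (H : Subgroup (GL (Fin 2) (ZMod q) ⧸ Subgroup.center (GL (Fin 2) (ZMod q)))) =
      MulAut.conj g • Subgroup.centralizer
        ({pr (gZ q)} : Set (GL (Fin 2) (ZMod q) ⧸ Subgroup.center (GL (Fin 2) (ZMod q)))) := by
    rw [← hg', Sylow.coe_subgroup_smul, hP0]
  obtain ⟨w, hw1, hw2, hw3⟩ := core hg (g⁻¹ * x * g)
  intro hbot
  have hmem : g * w * g⁻¹ ∈
      (H : Subgroup (GL (Fin 2) (ZMod q) ⧸ Subgroup.center (GL (Fin 2) (ZMod q)))) ⊓
        MulAut.conj x • (H : Subgroup _) := by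
    rw [hH, Subgroup.mem_inf]
    constructor
    · rw [Subgroup.mem_pointwise_smul_iff_inv_smul_mem, ← map_inv, MulAut.smul_def,
        MulAut.conj_apply, mem_cent_iff]
      have : g⁻¹ * (g * w * g⁻¹) * g⁻¹⁻¹ = w := by group
      rw [this]; exact hw2
    · rw [Subgroup.mem_pointwise_smul_iff_inv_smul_mem, ← map_inv, MulAut.smul_def,
        MulAut.conj_apply, Subgroup.mem_pointwise_smul_iff_inv_smul_mem, ← map_inv,
        MulAut.smul_def, MulAut.conj_apply, mem_cent_iff]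
      have e1 : g⁻¹ * (x⁻¹ * (g * w * g⁻¹) * x⁻¹⁻¹) * g⁻¹⁻¹ =
          (g⁻¹ * x * g)⁻¹ * w * (g⁻¹ * x * g) := by group
      rw [e1]
      calc (g⁻¹ * x * g)⁻¹ * w * (g⁻¹ * x * g) * pr (gZ q)
          = (g⁻¹ * x * g)⁻¹ * (w * (g⁻¹ * x * g * pr (gZ q) * (g⁻¹ * x * g)⁻¹)) * (g⁻¹ * x * g) := by
            group
        _ = (g⁻¹ * x * g)⁻¹ * ((g⁻¹ * x * g * pr (gZ q) * (g⁻¹ * x * g)⁻¹) * w) * (g⁻¹ * x * g) := by
            rw [hw3]
        _ = pr (gZ q) * ((g⁻¹ * x * g)⁻¹ * w * (g⁻¹ * x * g)) := by group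
  rw [hbot, Subgroup.mem_bot] at hmem
  apply hw1
  have : w = g⁻¹ * (g * w * g⁻¹) * g := by group
  rw [this, hmem]; group

end Cfsg.Agent.S2485
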