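import Cfsg.Statements.S2495
import Cfsg.Agent.S2904
import Cfsg.Agent.Lib.helper64.UIso
import Cfsg.Agent.Lib.helper64.PSLSpec
import Cfsg.Agent.Lib.helper64.SpecProd

set_option autoImplicit false
open Cfsg

namespace Cfsg.Agent.S2495

open Polynomial Matrix Cfsg.Agent.Lib.helper64.IsoPow Cfsg.Agent.Lib.helper64.UIso
  Cfsg.Agent.Lib.helper64.PSLAttach

theorem Dn_modEq (q m : ℕ) (hq : 1 ≤ q) : Dn q m ≡ m [MOD (q - 1)] := by
  unfold Dn
  induction m with
  | zero => simp [Nat.ModEq]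
  | succ m ih =>
    rw [Finset.sum_range_succ]
    have h2 : q ^ m ≡ 1 [MOD (q - 1)] := by
      have h3 : q ≡ 1 [MOD (q - 1)] := by
        have : q = (q - 1) + 1 := by omega
        conv_lhs => rw [this]
        simp [Nat.ModEq]
      simpa using h3.pow m
    exact ih.add h2

theorem Dn_two_mul (q m : ℕ) : Dn q (2 * m) = (q ^ m + 1) * Dn q m := by
  rw [two_mul, Dn_add]
  ring

theorem gcd_Dn_dvd (q m : ℕ) (hq : 1 ≤ q) : Nat.gcd (q - 1) (Dn q m) ∣ m :=
  ((Dn_modEq q m hq).dvd_iff (Nat.gcd_dvd_left _ _)).1 (Nat.gcd_dvd_right _ _)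

/-- the Singer number is divisible by `q ^ m + 1` when the `2`-part of `n = 2 m` exceeds that
of `q - 1` -/
theorem singer_dvd (q m : ℕ) (hq : 2 ≤ q)
    (h : padicValNat 2 (q - 1) < padicValNat 2 (2 * m)) (hm : 0 < m) :
    q ^ m + 1 ∣ N1 q (2 * m) := by
  set a := padicValNat 2 (q - 1) with ha
  have h1 : 2 ^ (a + 1) ∣ 2 * m :=
    (pow_dvd_pow 2 (by omega)).trans pow_padicValNat_dvd
  have h2 : ¬ 2 ^ (a + 1) ∣ q - 1 := pow_succ_padicValNat_not_dvd (by omega)
  set d := Nat.gcd (2 * m) (q - 1) with hd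
  have hd0 : 0 < d := Nat.gcd_pos_of_pos_left _ (by omega)
  have hdm : d ∣ m := by
    obtain ⟨e, he⟩ : d ∣ 2 * m := Nat.gcd_dvd_left _ _
    rcases Nat.even_or_odd e with hev | hodd
    · obtain ⟨e', rfl⟩ := hev
      exact ⟨e', by nlinarith⟩
    · exfalso
      apply h2
      have hcop : Nat.Coprime (2 ^ (a + 1)) e :=
        Nat.Coprime.pow_left _ (Nat.coprime_two_left.2 hodd)
      rw [he] at h1
      exact (hcop.dvd_of_dvd_mul_right h1).trans (Nat.gcd_dvd_right _ _)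
  have h3 : d ∣ Dn q m :=
    (Nat.dvd_gcd hdm (Nat.gcd_dvd_right _ _)).trans (gcd_dvd_Dn q m (by omega))
  obtain ⟨e, he⟩ := h3
  have h4 := N1_mul_gcd q (2 * m) (by omega)
  rw [Dn_two_mul, he, ← hd] at h4
  refine ⟨e, ?_⟩
  have : N1 q (2 * m) * d = (q ^ m + 1) * e * d := by rw [h4]; ring
  exact Nat.eq_of_mul_eq_mul_right hd0 this

section mat

variable {F : Type*} [Field F] [Fintype F] {n : ℕ}

/-- the key statement: a determinant-one matrix of projective order `q ^ m + 1` forces the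
`2`-part of `n = 2 m` to exceed that of `q - 1` -/
theorem key (m : ℕ) (hm : 2 ≤ m) (hnm : n = 2 * m) (hodd : Odd (Fintype.card F))
    (A : Matrix (Fin n) (Fin n) F) (hdet : A.det = 1)
    (hA : ∀ k : ℕ, (∃ c : F, A ^ k = c • (1 : Matrix (Fin n) (Fin n) F)) ↔
      Fintype.card F ^ m + 1 ∣ k) :
    padicValNat 2 (Fintype.card F - 1) < padicValNat 2 n := by
  classical
  set q := Fintype.card F with hq
  have hq1 : 1 < q := Fintype.one_lt_card
  have hq3 : 3 ≤ q := by
    rcases hodd with ⟨t, ht⟩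
    omega
  have hn4 : 4 ≤ n := by omega
  have hn0 : 0 < n := by omega
  have : Nonempty (Fin n) := ⟨⟨0, hn0⟩⟩
  set Q₁ := q ^ m + 1 with hQ₁
  have hQ₁pos : 0 < Q₁ := by positivity
  have hQ₁even : 2 ∣ Q₁ := by
    have : Odd (q ^ m) := hodd.pow
    have := this.add_one
    exact even_iff_two_dvd.1 this
  -- Zsigmondy
  obtain ⟨r, hr, hrdvd, hrprim⟩ := Cfsg.Agent.S2904.result q n hq1 (by omega) (by omega)
    (by omega)
  have : Fact r.Prime := ⟨hr⟩
  have hfac : q ^ n - 1 = (q ^ m - 1) * Q₁ := by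
    have h1 : 1 ≤ q ^ m := Nat.one_le_pow _ _ (by omega)
    have h2 : q ^ n = q ^ m * q ^ m := by rw [hnm, two_mul, pow_add]
    rw [h2, hQ₁]
    have h3 : 1 ≤ q ^ m * q ^ m := Nat.mul_pos h1 h1
    zify [h1, h3]
    ring
  have hrQ : r ∣ Q₁ := by
    rw [hfac] at hrdvd
    rcases hr.dvd_mul.1 hrdvd with h | h
    · exact absurd h (hrprim m (by omega) (by omega))
    · exact h
  have hr1 : ¬ r ∣ q - 1 := by
    have := hrprim 1 (by omega) (by omega)
    rwa [pow_one] at this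
  obtain ⟨j₀, hj₀⟩ := hrQ
  -- the scalar
  obtain ⟨c₀, hc₀⟩ := (hA Q₁).2 (dvd_refl _)
  have hc₀0 : c₀ ≠ 0 := by
    rintro rfl
    have h1 := congrArg Matrix.det hc₀
    rw [Matrix.det_pow, hdet, one_pow, zero_smul, Matrix.det_zero] at h1
    exact one_ne_zero h1
  set N := Q₁ * (q - 1) with hN
  have hAN : A ^ N = 1 := by
    rw [hN, pow_mul, hc₀, _root_.smul_pow, one_pow, FiniteField.pow_card_sub_one_eq_one c₀ hc₀0,
      one_smul]
  have hN0 : (N : F) ≠ 0 := by
    have h1 : ((q : ℕ) : F) = 0 := FiniteField.cast_card_eq_zero F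
    have hm0 : m ≠ 0 := by omega
    rw [hN, Nat.cast_mul, hQ₁, Nat.cast_add, Nat.cast_pow, h1, zero_pow hm0, zero_add,
      Nat.cast_one, one_mul, Nat.cast_sub (by omega), h1, Nat.cast_one, zero_sub]
    exact neg_ne_zero.2 one_ne_zero
  set J := j₀ * (q - 1) with hJ
  have hJr : J * r = N := by rw [hJ, hN, hj₀]; ring
  have hY : A ^ J ≠ 1 := by
    intro h
    have h1 : Q₁ ∣ J := (hA J).1 ⟨1, by rw [h, one_smul]⟩
    rw [hJ, hj₀] at h1
    have hj₀pos : 0 < j₀ := by
      rcases Nat.eq_zero_or_pos j₀ with h0 | h0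
      · rw [h0, mul_zero] at hj₀; omega
      · exact h0
    have h2 : r ∣ q - 1 := by
      have : j₀ * r ∣ j₀ * (q - 1) := by rwa [mul_comm j₀ r]
      exact (Nat.mul_dvd_mul_iff_left hj₀pos).1 this
    exact hr1 h2
  -- irreducibility of the minimal polynomial
  set μ := minpoly F A with hμ
  have hμmonic : μ.Monic := minpoly.monic (Matrix.isIntegral A)
  have hμ0 : μ ≠ 0 := hμmonic.ne_zero
  have hdvdN : μ ∣ X ^ N - C (1 : F) := minpoly.dvd F A (by simp [hAN])
  have hsq : Squarefree μ :=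
    ((separable_X_pow_sub_C (1 : F) hN0 one_ne_zero).of_dvd hdvdN).squarefree
  have hnd : ¬ μ ∣ X ^ J - C (1 : F) := by
    intro h
    apply hY
    have h1 := Polynomial.aeval_eq_zero_of_dvd_aeval_eq_zero h (minpoly.aeval F A)
    simpa [sub_eq_zero] using h1
  obtain ⟨f, hfirr, hfμ, hfh⟩ :
      ∃ f : F[X], Irreducible f ∧ f ∣ μ ∧ ¬ f ∣ X ^ J - C (1 : F) := by
    set h := X ^ J - C (1 : F) with hh
    set d := EuclideanDomain.gcd μ h with hd
    obtain ⟨g, hg⟩ : d ∣ μ := EuclideanDomain.gcd_dvd_left μ h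
    have hgu : ¬ IsUnit g := by
      intro hu
      apply hnd
      have h1 : μ ∣ d := by
        obtain ⟨u, rfl⟩ := hu
        exact ⟨(↑u⁻¹ : F[X]), by rw [hg, mul_assoc, Units.mul_inv, mul_one]⟩
      exact h1.trans (EuclideanDomain.gcd_dvd_right μ h)
    have hg0 : g ≠ 0 := by
      rintro rfl
      rw [mul_zero] at hg
      exact hμ0 hg
    obtain ⟨f, hfirr, hfg⟩ := WfDvdMonoid.exists_irreducible_factor hgu hg0
    refine ⟨f, hfirr, hfg.trans ⟨d, by rw [hg, mul_comm]⟩, ?_⟩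
    intro hfh
    have hfd : f ∣ d := EuclideanDomain.dvd_gcd (hfg.trans ⟨d, by rw [hg, mul_comm]⟩) hfh
    have h2 : f * f ∣ μ := by rw [hg]; exact mul_dvd_mul hfd hfg
    exact hfirr.not_isUnit (hsq f h2)
  have hirr : Irreducible μ := by
    have : Fact (Irreducible f) := ⟨hfirr⟩
    have hf0 : f ≠ 0 := hfirr.ne_zero
    have : Finite (AdjoinRoot f) := finite_adjoinRoot f hf0
    have : Fintype (AdjoinRoot f) := Fintype.ofFinite _
    set ρ := AdjoinRoot.root f with hρ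
    have hρN : ρ ^ N = 1 := by
      have h1 : AdjoinRoot.mk f (X ^ N - C (1 : F)) = 0 :=
        AdjoinRoot.mk_eq_zero.2 (hfμ.trans hdvdN)
      rw [map_sub, map_pow, AdjoinRoot.mk_X, map_one, map_one, sub_eq_zero] at h1
      exact h1
    have hy1 : ρ ^ J ≠ 1 := by
      intro h
      apply hfh
      apply AdjoinRoot.mk_eq_zero.1
      rw [map_sub, map_pow, AdjoinRoot.mk_X, map_one, map_one, sub_eq_zero]
      exact h
    have hyr : (ρ ^ J) ^ r = 1 := by rw [← pow_mul, hJr, hρN]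
    have hord : orderOf (ρ ^ J) = r := orderOf_eq_prime hyr hy1
    have hy0 : ρ ^ J ≠ 0 := by
      intro h
      rw [h, zero_pow hr.ne_zero] at hyr
      exact zero_ne_one hyr
    have hcard : Fintype.card (AdjoinRoot f) = q ^ f.natDegree := by
      rw [← Nat.card_eq_fintype_card, card_adjoinRoot f hf0]
    have hdvd : r ∣ q ^ f.natDegree - 1 := by
      rw [← hord, ← hcard]
      exact orderOf_dvd_of_pow_eq_one (FiniteField.pow_card_sub_one_eq_one _ hy0)
    have hdegpos : 0 < f.natDegree := hfirr.natDegree_pos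
    have hdeg1 : n ≤ f.natDegree := by
      by_contra hlt
      exact hrprim f.natDegree hdegpos (by omega) hdvd
    have hdeg2 : μ.natDegree ≤ n := by
      have h1 := Polynomial.natDegree_le_of_dvd (Matrix.minpoly_dvd_charpoly A)
        (Matrix.charpoly_monic A).ne_zero
      rw [Matrix.charpoly_natDegree_eq_dim, Fintype.card_fin] at h1
      exact h1
    obtain ⟨g, hg⟩ := hfμ
    have hg0 : g ≠ 0 := by
      rintro rfl
      rw [mul_zero] at hg
      exact hμ0 hg
    have hdeg3 : μ.natDegree = f.natDegree + g.natDegree := by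
      rw [hg, Polynomial.natDegree_mul hf0 hg0]
    have hg1 : g.natDegree = 0 := by omega
    have hgu : IsUnit g := by
      rw [Polynomial.eq_C_of_natDegree_eq_zero hg1] at hg0 ⊢
      exact Polynomial.isUnit_C.2 (isUnit_iff_ne_zero.2 (by
        intro h
        apply hg0
        rw [h, map_zero]))
    rw [hg]
    exact (irreducible_mul_isUnit hgu).2 hfirr
  -- the field F[A]
  have : Fact (Irreducible μ) := ⟨hirr⟩
  have hμA : aeval A μ = 0 := minpoly.aeval F A
  have : Finite (AdjoinRoot μ) := finite_adjoinRoot μ hμ0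
  set ρ := AdjoinRoot.root μ with hρ
  have hφρ : phi μ A hμA ρ = A := phi_root μ A hμA
  have hinj := phi_injective μ hn0 A hμA
  have hscal : ∀ j : ℕ, (∃ c : F, ρ ^ j = algebraMap F (AdjoinRoot μ) c) → Q₁ ∣ j := by
    rintro j ⟨c, hc⟩
    apply (hA j).1
    refine ⟨c, ?_⟩
    have h1 := congrArg (phi μ A hμA) hc
    rw [map_pow, hφρ, AlgHom.commutes, Algebra.algebraMap_eq_smul_one] at h1
    exact h1
  have hρQ : ρ ^ Q₁ = algebraMap F (AdjoinRoot μ) c₀ := by
    apply hinj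
    rw [map_pow, hφρ, AlgHom.commutes, Algebra.algebraMap_eq_smul_one, hc₀]
  have hρ1 : ρ ^ (Q₁ * (q - 1)) = 1 := by
    rw [pow_mul, hρQ, ← map_pow, FiniteField.pow_card_sub_one_eq_one c₀ hc₀0, map_one]
  have hρ2 : ρ ^ (Q₁ * Dn q m) = 1 := by
    have h1 := (pow_Dn_eq_det μ A hμA).2 ρ
    rw [hφρ, hdet, map_one, hnm, Dn_two_mul] at h1
    exact h1
  set o := orderOf ρ with ho
  have ho1 : o ∣ Q₁ * Nat.gcd (q - 1) (Dn q m) := by
    rw [← Nat.gcd_mul_left]
    exact Nat.dvd_gcd (orderOf_dvd_of_pow_eq_one hρ1) (orderOf_dvd_of_pow_eq_one hρ2)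
  have hopos : 0 < o := by
    apply orderOf_pos_iff.2
    exact isOfFinOrder_iff_pow_eq_one.2 ⟨Q₁ * (q - 1), Nat.mul_pos hQ₁pos (by omega), hρ1⟩
  set a := padicValNat 2 (q - 1) with ha
  set b := min (padicValNat 2 o) a with hb
  have hbo : 2 ^ b ∣ o := (pow_dvd_pow 2 (min_le_left _ _)).trans pow_padicValNat_dvd
  have hbq : 2 ^ b ∣ q - 1 := (pow_dvd_pow 2 (min_le_right _ _)).trans pow_padicValNat_dvd
  have hkey : Q₁ * 2 ^ b ∣ o := by
    have h1 : (ρ ^ (o / 2 ^ b)) ^ (q - 1) = 1 := by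
      obtain ⟨e, he⟩ := hbq
      rw [he, pow_mul, ← pow_mul ρ, Nat.div_mul_cancel hbo, pow_orderOf_eq_one, one_pow]
    have h2 : (ρ ^ (o / 2 ^ b)) ^ q = ρ ^ (o / 2 ^ b) := by
      have : q = (q - 1) + 1 := by omega
      rw [this, pow_succ, h1, one_mul]
    obtain ⟨c, hc⟩ := mem_range_of_pow_card (F := F) (ρ ^ (o / 2 ^ b)) h2
    obtain ⟨e, he⟩ := hscal _ ⟨c, hc.symm⟩
    refine ⟨e, ?_⟩
    rw [mul_right_comm, ← he, Nat.div_mul_cancel hbo]
  rcases le_total a (padicValNat 2 o) with hle | hle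
  · have hba : b = a := min_eq_right hle
    rw [hba] at hkey
    have h1 : 2 ^ a ∣ Nat.gcd (q - 1) (Dn q m) :=
      (Nat.mul_dvd_mul_iff_left hQ₁pos).1 (hkey.trans ho1)
    have h2 : 2 ^ a ∣ m := h1.trans (gcd_Dn_dvd q m (by omega))
    have h3 : 2 ^ (a + 1) ∣ n := by
      rw [hnm, pow_succ, mul_comm]
      exact Nat.mul_dvd_mul_left 2 h2
    have h4 := (padicValNat_dvd_iff_le (p := 2) (by omega : n ≠ 0)).1 h3
    omega
  · exfalso
    have hbv : b = padicValNat 2 o := min_eq_left hle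
    rw [hbv] at hkey
    obtain ⟨Q', hQ'⟩ := hQ₁even
    have h1 : 2 ^ (padicValNat 2 o + 1) ∣ o := by
      refine dvd_trans ?_ hkey
      rw [hQ', pow_succ]
      exact ⟨Q', by ring⟩
    exact pow_succ_padicValNat_not_dvd hopos.ne' h1

end mat

/-- Let q be an odd prime power, n ≥ 4 even, and L = PSL(n,q). Then L has an element of order q^(n/2) + 1 if and only if the 2-part of n exceeds the 2-part of q − 1. -/
theorem result {F : Type*} [Field F] [Fintype F] {q : ℕ} (hF : Fintype.card F = q) (hodd : Odd q)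
    {n : ℕ} (hn : 4 ≤ n) (heven : Even n) :
    (∃ g : Matrix.ProjectiveSpecialLinearGroup (Fin n) F, orderOf g = q ^ (n / 2) + 1) ↔
      padicValNat 2 (q - 1) < padicValNat 2 n := by
  classical
  subst hF
  obtain ⟨m, hm⟩ := heven
  have hnm : n = 2 * m := by omega
  have hdiv : n / 2 = m := by omega
  rw [hdiv]
  constructor
  · rintro ⟨g, hg⟩
    obtain ⟨A, rfl⟩ := QuotientGroup.mk_surjective g
    refine key m (by omega) hnm hodd A.1 A.2 ?_
    intro k
    rw [← mk_pow_eq_one_iff, ← hg]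
    exact orderOf_dvd_iff_pow_eq_one.symm
  · intro h
    obtain ⟨p, hp⟩ := CharP.exists F
    have : Fact p.Prime := ⟨CharP.char_is_prime F p⟩
    obtain ⟨A, hdet, hA⟩ := exists_singer (F := F) (n := n) (by omega) p
    set σ : Matrix.ProjectiveSpecialLinearGroup (Fin n) F :=
      QuotientGroup.mk (⟨A, hdet⟩ : Matrix.SpecialLinearGroup (Fin n) F) with hσ
    have h1 : N1 (Fintype.card F) n ∣ orderOf σ :=
      hA _ ((mk_pow_eq_one_iff _ _).1 (pow_orderOf_eq_one _))
    have h2 : Fintype.card F ^ m + 1 ∣ N1 (Fintype.card F) n := by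
      rw [hnm]
      exact singer_dvd _ m Fintype.one_lt_card (by rw [← hnm]; exact h) (by omega)
    exact Cfsg.Agent.Lib.helper64.SpecProd.mem_range_of_dvd ⟨σ, rfl⟩ (h2.trans h1)

end Cfsg.Agent.S2495
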