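import Cfsg.Statements.S2496
import Cfsg.Agent.S2904
import Cfsg.Agent.Lib.helper64.UPG
import Cfsg.Agent.Lib.helper64.USpec
import Cfsg.Agent.Lib.helper64.SpecProd

set_option autoImplicit false
open Cfsg

namespace Cfsg.Agent.S2496


open Polynomial Matrix Cfsg.Agent.Lib.helper64.UBasic Cfsg.Agent.Lib.helper64.UAttach
  Cfsg.Agent.Lib.helper64.UOrtho Cfsg.Agent.Lib.helper64.UArith Cfsg.Agent.Lib.helper64.UTypeA
  Cfsg.Agent.Lib.helper64.UTypeB Cfsg.Agent.Lib.helper64.UPG Cfsg.Agent.Lib.helper64.PGBasic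
  Cfsg.Agent.Lib.helper64.IsoPow Cfsg.Agent.Lib.helper64.SpPG

theorem Dn_modEq' (q m : ℕ) (hq : 1 ≤ q) : Dn q m ≡ m [MOD (q - 1)] := by
  unfold Dn
  induction m with
  | zero => simp [Nat.ModEq]
  | succ m ih =>
    rw [Finset.sum_range_succ]
    have h2 : q ^ m ≡ 1 [MOD (q - 1)] := by
      have h3 : q ≡ 1 [MOD (q - 1)] := by
        have : q = (q - 1) + 1 := by omega
        conv_lhs => rw [this]
        simp [Nat.ModEq]
      simpa using h3.pow m
    exact ih.add h2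

theorem fac (q m : ℕ) (hq : 1 ≤ q) : q ^ (2 * m) - 1 = (q ^ m - 1) * (q ^ m + 1) := by
  have hqm1 : 1 ≤ q ^ m := Nat.one_le_pow _ _ hq
  have h2 : q ^ (2 * m) = q ^ m * q ^ m := by rw [two_mul, pow_add]
  rw [h2]
  have h3 : 1 ≤ q ^ m * q ^ m := Nat.mul_pos hqm1 hqm1
  zify [hqm1, h3]
  ring

/-- the arithmetic behind the necessity -/
theorem arith_nec (q m : ℕ) (hodd : Odd q) (hq3 : 3 ≤ q) (hm : 2 ≤ m) (N : ℕ)
    (hN : N = if Even m then q ^ m + 1 else q ^ m - 1) (h : N ∣ Np q (2 * m)) :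
    padicValNat 2 (q + 1) < padicValNat 2 (2 * m) := by
  have hqm1 : 1 ≤ q ^ m := Nat.one_le_pow _ _ (by omega)
  have hqm3 : 3 ≤ q ^ m := by
    calc 3 ≤ q := hq3
      _ = q ^ 1 := (pow_one q).symm
      _ ≤ q ^ m := Nat.pow_le_pow_right (by omega) (by omega)
  have hDp : Dp q (2 * m) * (q + 1) = q ^ (2 * m) - 1 := Dp_mul_even q (2 * m) ⟨m, by ring⟩
  have hDp2 : Dp q (2 * m) = (q - 1) * Dn (q ^ 2) m := Dp_even q m (by omega)
  obtain ⟨g, hg⟩ : ∃ g : ℕ, g = Nat.gcd (Dp q (2 * m)) (Nat.gcd (2 * m) (q + 1)) := ⟨_, rfl⟩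
  have hNp : Np q (2 * m) * g = Dp q (2 * m) := by
    rw [hg]
    exact Nat.div_mul_cancel (Nat.gcd_dvd_left _ _)
  have h1 : N * g * (q + 1) ∣ q ^ (2 * m) - 1 := by
    rw [← hDp, ← hNp]
    exact Nat.mul_dvd_mul (Nat.mul_dvd_mul h (dvd_refl g)) (dvd_refl _)
  have hfac := fac q m (by omega)
  have hqodd2 : 2 ∣ q - 1 := by
    obtain ⟨t, ht⟩ := hodd
    exact ⟨t, by omega⟩
  have hq1even : 2 ∣ q + 1 := by
    obtain ⟨t, ht⟩ := hodd
    exact ⟨t + 1, by omega⟩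
  have hDn : Dn (q ^ 2) m ≡ m [MOD (q ^ 2 - 1)] :=
    Dn_modEq' (q ^ 2) m (Nat.one_le_pow _ _ (by omega))
  have hm0 : m ≠ 0 := by omega
  by_cases hev : Even m
  · rw [if_pos hev] at hN
    have h2 : g * (q + 1) ∣ q ^ m - 1 := by
      rw [hfac, hN] at h1
      have h3 : (q ^ m + 1) * (g * (q + 1)) ∣ (q ^ m + 1) * (q ^ m - 1) := by
        rw [mul_comm (q ^ m + 1) (q ^ m - 1), ← mul_assoc]
        exact h1
      exact Nat.dvd_of_mul_dvd_mul_left (by omega) h3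
    by_contra hcon
    push Not at hcon
    have hv2m : padicValNat 2 (2 * m) = 1 + padicValNat 2 m := by
      rw [padicValNat.mul (by norm_num) hm0, padicValNat_self]
    obtain ⟨b, hb⟩ : ∃ b : ℕ, b = padicValNat 2 m := ⟨_, rfl⟩
    obtain ⟨a, ha⟩ : ∃ a : ℕ, a = padicValNat 2 (q + 1) := ⟨_, rfl⟩
    rw [← hb] at hv2m
    rw [← ha, hv2m] at hcon
    have h2b : 2 ^ b ∣ m := by rw [hb]; exact pow_padicValNat_dvd
    have h2a : 2 ^ a ∣ q + 1 := by rw [ha]; exact pow_padicValNat_dvd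
    have h2b1 : 2 ^ (b + 1) ∣ q + 1 := (pow_dvd_pow 2 (by omega)).trans h2a
    have hb1 : 1 ≤ b := by
      have : 2 ^ 1 ∣ m := by rw [pow_one]; exact even_iff_two_dvd.1 hev
      rw [hb]
      exact (padicValNat_dvd_iff_le hm0).1 this
    have hgb : 2 ^ (b + 1) ∣ g := by
      rw [hg]
      apply Nat.dvd_gcd
      · rw [hDp2, pow_succ, mul_comm]
        apply Nat.mul_dvd_mul hqodd2
        have h3 : 2 ^ b ∣ q ^ 2 - 1 := by
          rw [sq_sub_one]
          exact Dvd.dvd.mul_right ((pow_dvd_pow 2 (by omega)).trans h2b1) _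
        exact (hDn.dvd_iff h3).2 h2b
      · apply Nat.dvd_gcd
        · rw [pow_succ, mul_comm]
          exact Nat.mul_dvd_mul (dvd_refl 2) h2b
        · exact h2b1
    have h3 : 2 ^ (b + 1 + a) ∣ q ^ m - 1 := by
      rw [pow_add]
      exact (Nat.mul_dvd_mul hgb h2a).trans h2
    have hqm0 : q ^ m - 1 ≠ 0 := by omega
    have h4 := (padicValNat_dvd_iff_le hqm0).1 h3
    have hLTE := padicValNat.pow_two_sub_pow (x := q) (y := 1) (by omega) hqodd2 (by
      intro h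
      obtain ⟨t, ht⟩ := hodd
      omega) hm0 hev
    rw [one_pow, ← ha, ← hb] at hLTE
    have h5 : 2 ≤ padicValNat 2 (q - 1) := by omega
    have h6 : 2 ^ 2 ∣ q - 1 := (padicValNat_dvd_iff_le (by omega)).2 h5
    have h7 : 2 ^ 2 ∣ q + 1 := (pow_dvd_pow 2 (by omega)).trans h2b1
    obtain ⟨s, hs⟩ := h6
    obtain ⟨t, ht⟩ := h7
    omega
  · rw [if_neg hev] at hN
    exfalso
    have hmo : Odd m := Nat.not_even_iff_odd.1 hev
    have h2 : g * (q + 1) ∣ q ^ m + 1 := by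
      rw [hfac, hN] at h1
      have h3 : (q ^ m - 1) * (g * (q + 1)) ∣ (q ^ m - 1) * (q ^ m + 1) := by
        rw [← mul_assoc]
        exact h1
      exact Nat.dvd_of_mul_dvd_mul_left (by omega) h3
    have hg2 : 2 ∣ g := by
      rw [hg]
      apply Nat.dvd_gcd
      · rw [hDp2]
        exact Dvd.dvd.mul_right hqodd2 _
      · exact Nat.dvd_gcd (dvd_mul_right 2 m) hq1even
    have h3 : 2 * (q + 1) ∣ q ^ m + 1 := (Nat.mul_dvd_mul hg2 (dvd_refl _)).trans h2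
    have h4 : q ^ 2 ≡ 1 [MOD 2 * (q + 1)] := by
      have h5 : 2 * (q + 1) ∣ q ^ 2 - 1 := by
        rw [sq_sub_one, mul_comm 2]
        exact Nat.mul_dvd_mul (dvd_refl _) hqodd2
      exact ((Nat.modEq_iff_dvd' (Nat.one_le_pow _ _ (by omega))).2 h5).symm
    obtain ⟨u, hu⟩ := hmo
    have h5 : q ^ m ≡ q [MOD 2 * (q + 1)] := by
      rw [hu, pow_succ, pow_mul]
      have := (h4.pow u).mul_right q
      simpa using this
    have h6 : q ^ m + 1 ≡ q + 1 [MOD 2 * (q + 1)] := h5.add_right 1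
    have h7 : 2 * (q + 1) ∣ q + 1 := (h6.dvd_iff (dvd_refl _)).1 h3
    have := Nat.le_of_dvd (by omega) h7
    omega

/-- the arithmetic behind the existence -/
theorem arith_ex (q m : ℕ) (hodd : Odd q) (hq3 : 3 ≤ q) (hm : 2 ≤ m)
    (h : padicValNat 2 (q + 1) < padicValNat 2 (2 * m)) :
    Even m ∧ ((q ^ m + 1) * 2 ^ padicValNat 2 (q + 1) ∣ (q ^ 2) ^ m - 1) ∧
      ((q ^ m + 1) * 2 ^ padicValNat 2 (q + 1) ∣ Dn (q ^ 2) m * (q - 1)) ∧
      ∀ j : ℕ, (q ^ m + 1) * 2 ^ padicValNat 2 (q + 1) ∣ j * (q + 1) → q ^ m + 1 ∣ j := by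
  have hm0 : m ≠ 0 := by omega
  have hqm1 : 1 ≤ q ^ m := Nat.one_le_pow _ _ (by omega)
  have hqodd2 : 2 ∣ q - 1 := by
    obtain ⟨t, ht⟩ := hodd
    exact ⟨t, by omega⟩
  have hq1even : 2 ∣ q + 1 := by
    obtain ⟨t, ht⟩ := hodd
    exact ⟨t + 1, by omega⟩
  have hv2m : padicValNat 2 (2 * m) = 1 + padicValNat 2 m := by
    rw [padicValNat.mul (by norm_num) hm0, padicValNat_self]
  obtain ⟨a, ha⟩ : ∃ a : ℕ, a = padicValNat 2 (q + 1) := ⟨_, rfl⟩
  rw [← ha] at h ⊢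
  have h2aq : 2 ^ a ∣ q + 1 := by rw [ha]; exact pow_padicValNat_dvd
  have ha1 : 1 ≤ a := by
    rw [ha]
    exact (padicValNat_dvd_iff_le (by omega)).1 (by rw [pow_one]; exact hq1even)
  have hab : a ≤ padicValNat 2 m := by omega
  have h2am : 2 ^ a ∣ m := (pow_dvd_pow 2 hab).trans pow_padicValNat_dvd
  have hev : Even m := even_iff_two_dvd.2 ((dvd_pow_self 2 (by omega : a ≠ 0)).trans h2am)
  obtain ⟨h', hh'⟩ := hev
  have hmh : m = 2 * h' := by omega
  have hqm : q ^ m - 1 = (q - 1) * Dn (q ^ 2) h' * (q + 1) := by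
    rw [hmh, ← Dp_even q h' (by omega), Dp_mul_even q (2 * h') ⟨h', by ring⟩]
  have hfac : (q ^ 2) ^ m - 1 = (q ^ m - 1) * (q ^ m + 1) := by
    rw [← pow_mul]
    exact fac q m (by omega)
  have h2a' : 2 ^ a ∣ (q - 1) * Dn (q ^ 2) h' := by
    obtain ⟨a', ha'⟩ : ∃ a', a = a' + 1 := ⟨a - 1, by omega⟩
    rw [ha', pow_succ, mul_comm]
    apply Nat.mul_dvd_mul hqodd2
    have h3 : 2 ^ a' ∣ q ^ 2 - 1 := by
      rw [sq_sub_one]
      exact Dvd.dvd.mul_right ((pow_dvd_pow 2 (by omega)).trans h2aq) _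
    have h4 : 2 ^ a' ∣ h' := by
      have : 2 ^ (a' + 1) ∣ 2 * h' := by rw [← ha', ← hmh]; exact h2am
      rw [pow_succ, mul_comm] at this
      exact Nat.dvd_of_mul_dvd_mul_left (by norm_num) this
    exact ((Dn_modEq' (q ^ 2) h' (Nat.one_le_pow _ _ (by omega))).dvd_iff h3).2 h4
  refine ⟨⟨h', hh'⟩, ?_, ?_, ?_⟩
  · rw [hfac, mul_comm (q ^ m - 1)]
    apply Nat.mul_dvd_mul (dvd_refl _)
    rw [hqm]
    exact Dvd.dvd.mul_right h2a' _
  · have h5 := pred_mul_Dn (q ^ 2) m (Nat.one_le_pow _ _ (by omega))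
    rw [sq_sub_one, hfac, hqm] at h5
    have h6 : Dn (q ^ 2) m * (q - 1) = (q ^ m + 1) * ((q - 1) * Dn (q ^ 2) h') := by
      apply Nat.eq_of_mul_eq_mul_left (Nat.succ_pos q)
      calc (q + 1) * (Dn (q ^ 2) m * (q - 1)) = (q + 1) * (q - 1) * Dn (q ^ 2) m := by ring
        _ = (q - 1) * Dn (q ^ 2) h' * (q + 1) * (q ^ m + 1) := h5
        _ = (q + 1) * ((q ^ m + 1) * ((q - 1) * Dn (q ^ 2) h')) := by ring
    rw [h6]
    exact Nat.mul_dvd_mul (dvd_refl _) h2a'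
  · intro j hj
    obtain ⟨u, hu⟩ := h2aq
    have huodd : ¬ 2 ∣ u := by
      intro h2
      have h3 : 2 ^ (a + 1) ∣ q + 1 := by
        rw [hu, pow_succ]
        exact Nat.mul_dvd_mul (dvd_refl _) h2
      rw [ha] at h3
      exact pow_succ_padicValNat_not_dvd (by omega) h3
    rw [hu] at hj
    have h7 : (q ^ m + 1) ∣ j * u := by
      have h8 : 2 ^ a * (q ^ m + 1) ∣ 2 ^ a * (j * u) := by
        have e1 : (q ^ m + 1) * 2 ^ a = 2 ^ a * (q ^ m + 1) := mul_comm _ _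
        have e2 : j * (2 ^ a * u) = 2 ^ a * (j * u) := by ring
        rw [← e1, ← e2]
        exact hj
      exact Nat.dvd_of_mul_dvd_mul_left (by positivity) h8
    have hcop : Nat.Coprime (q ^ m + 1) u := by
      have hd1 : Nat.gcd (q ^ m + 1) u ∣ q ^ m + 1 := Nat.gcd_dvd_left _ _
      have hd2 : Nat.gcd (q ^ m + 1) u ∣ q ^ m - 1 := by
        refine (Nat.gcd_dvd_right _ _).trans ?_
        rw [hqm, hu]
        exact Dvd.dvd.mul_left (dvd_mul_left u _) _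
      have hd3 : Nat.gcd (q ^ m + 1) u ∣ 2 := by
        have h9 := Nat.dvd_sub hd1 hd2
        have e : q ^ m + 1 - (q ^ m - 1) = 2 := by omega
        rwa [e] at h9
      rcases (Nat.dvd_prime Nat.prime_two).1 hd3 with h1 | h2
      · exact h1
      · exact absurd (h2 ▸ Nat.gcd_dvd_right (q ^ m + 1) u) huodd
    exact hcop.dvd_of_dvd_mul_right h7

section mat

variable {F : Type*} [Field F] [Fintype F] {n q : ℕ}

/-- necessity: an element of order `q ^ m + (-1) ^ m` forces the `2`-part of `n = 2 m` to exceed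
that of `q + 1` -/
theorem key (hF : Fintype.card F = q ^ 2) (hodd : Odd q) (m : ℕ) (hm : 2 ≤ m) (hnm : n = 2 * m)
    (g : SU n F q) (N : ℕ) (hN : N = if Even m then q ^ m + 1 else q ^ m - 1)
    (hord : orderOf (QuotientGroup.mk g : PSU n F q) = N) :
    padicValNat 2 (q + 1) < padicValNat 2 n := by
  classical
  obtain ⟨σ, hσ, hσ2, hσne⟩ := exists_sigma hF
  obtain ⟨p, k, hp, hchar, hqp⟩ := Cfsg.Agent.Lib.helper7.exists_char_pow hF
  have : Fact p.Prime := ⟨hp⟩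
  have hq2 : 2 ≤ q := two_le_q hF
  have hq3 : 3 ≤ q := by
    obtain ⟨t, ht⟩ := hodd
    omega
  have hk1 : 1 ≤ k := by
    rcases Nat.eq_zero_or_pos k with h0 | h0
    · rw [h0, pow_zero] at hqp
      omega
    · exact h0
  have hn0 : 0 < n := by omega
  have : Nonempty (Fin n) := ⟨⟨0, hn0⟩⟩
  have hqF : ((q : ℕ) : F) = 0 := by
    rw [hqp, Nat.cast_pow, CharP.cast_eq_zero F p, zero_pow (by omega)]
  obtain ⟨S, hSdef⟩ : ∃ S : Matrix (Fin n) (Fin n) F, S = g.1.1 := ⟨_, rfl⟩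
  have hSu : cs σ S * S = 1 := by rw [hSdef]; exact su_cs hF σ hσ g
  have hSdet : S.det = 1 := by rw [hSdef]; exact g.1.2
  have hA : ∀ j : ℕ, (∃ c : F, S ^ j = c • (1 : Matrix (Fin n) (Fin n) F)) ↔ N ∣ j := by
    intro j
    rw [hSdef, ← psu_pow_eq_one_iff hF hn0 g j, ← hord]
    exact orderOf_dvd_iff_pow_eq_one.symm
  have hunit : ∀ j : ℕ, cs σ (S ^ j) * S ^ j = 1 := by
    intro j
    have := su_cs hF σ hσ (g ^ j)
    rwa [coe_pow_su, ← hSdef] at this
  have hqm1 : 1 ≤ q ^ m := Nat.one_le_pow _ _ (by omega)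
  have hqm3 : 3 ≤ q ^ m := by
    calc 3 ≤ q := hq3
      _ = q ^ 1 := (pow_one q).symm
      _ ≤ q ^ m := Nat.pow_le_pow_right (by omega) (by omega)
  have hNpos : 0 < N := by
    rw [hN]
    split_ifs <;> omega
  -- a primitive prime divisor
  obtain ⟨K, hK⟩ : ∃ K : ℕ, K = if Even m then 2 * m else m := ⟨_, rfl⟩
  have hK2 : 1 < K := by
    rw [hK]
    split_ifs <;> omega
  have hKne : K ≠ 2 := by
    rw [hK]
    split_ifs with hev
    · omega
    · intro h2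
      rw [h2] at hev
      exact hev (by decide)
  obtain ⟨r, hr, hrdvd, hrprim⟩ := Cfsg.Agent.S2904.result q K (by omega) hK2 (by omega)
    (fun h => hKne h.1)
  have : Fact r.Prime := ⟨hr⟩
  have hr1 : ¬ r ∣ q - 1 := by
    have := hrprim 1 (by omega) hK2
    rwa [pow_one] at this
  have hr2 : r ≠ 2 := by
    rintro rfl
    apply hr1
    obtain ⟨t, ht⟩ := hodd
    exact ⟨t, by omega⟩
  have hrq : Nat.Coprime r q := by
    rw [Nat.Prime.coprime_iff_not_dvd hr]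
    intro h
    have h1 : r ∣ q ^ K := dvd_pow h (by omega)
    have h2 : 1 ≤ q ^ K := Nat.one_le_pow _ _ (by omega)
    have h3 : r ∣ 1 := by
      have h4 := Nat.dvd_sub h1 hrdvd
      rwa [Nat.sub_sub_self h2] at h4
    exact hr.one_lt.ne' (Nat.dvd_one.1 h3)
  have hrF : ((r : ℕ) : F) ≠ 0 := by
    rw [Ne, CharP.cast_eq_zero_iff F p]
    intro h
    have hpr : p = r := (Nat.prime_dvd_prime_iff_eq hp hr).1 h
    have h1 : r ∣ q := by
      rw [hqp, ← hpr]
      exact dvd_pow_self p (by omega)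
    exact hr.one_lt.ne' (Nat.Coprime.eq_one_of_dvd hrq h1)
  have hordK : orderOf ((q : ℕ) : ZMod r) = K := by
    have h1 : orderOf ((q : ℕ) : ZMod r) ∣ K := ord_dvd_of_dvd (by omega) hrdvd
    have h2 : r ∣ q ^ orderOf ((q : ℕ) : ZMod r) - 1 := dvd_of_ord_dvd (by omega) (dvd_refl _)
    have h3 : 0 < orderOf ((q : ℕ) : ZMod r) := Nat.pos_of_dvd_of_pos h1 (by omega)
    by_contra hne
    have h4 : orderOf ((q : ℕ) : ZMod r) < K :=
      lt_of_le_of_ne (Nat.le_of_dvd (by omega) h1) hne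
    exact hrprim _ h3 h4 h2
  have hP : ∀ d : ℕ, 0 < d → r ∣ (q ^ 2) ^ d - 1 → m ≤ d := by
    intro d hd h
    rw [← pow_mul] at h
    have h1 : K ∣ 2 * d := by
      rw [← hordK]
      exact ord_dvd_of_dvd (by omega) h
    rw [hK] at h1
    split_ifs at h1 with hev
    · exact Nat.le_of_dvd hd (Nat.dvd_of_mul_dvd_mul_left (by norm_num) h1)
    · have hmo : Odd m := Nat.not_even_iff_odd.1 hev
      exact Nat.le_of_dvd hd
        (Nat.Coprime.dvd_of_dvd_mul_left (Nat.coprime_two_right.2 hmo) h1)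
  have hP' : ∀ j : ℕ, Odd j → ¬ r ∣ q ^ j + 1 := by
    intro j hj h
    obtain ⟨h1, h2⟩ := ord_of_dvd_add_one hr hr2 h
    rw [hordK, hK] at h1 h2
    split_ifs at h1 h2 with hev
    · have h3 : m ∣ j := Nat.dvd_of_mul_dvd_mul_left (by norm_num) h1
      exact (Nat.not_even_iff_odd.2 hj) (hev.trans_dvd h3)
    · have hmo : Odd m := Nat.not_even_iff_odd.1 hev
      exact h2 (Nat.Coprime.dvd_of_dvd_mul_left (Nat.coprime_two_right.2 hmo) h1)
  have hrN : r ∣ N := by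
    rw [hN]
    rw [hK] at hrdvd hrprim
    split_ifs with hev
    · rw [if_pos hev] at hrdvd hrprim
      rw [fac q m (by omega)] at hrdvd
      rcases hr.dvd_mul.1 hrdvd with h | h
      · exact absurd h (hrprim m (by omega) (by omega))
      · exact h
    · rw [if_neg hev] at hrdvd
      exact hrdvd
  obtain ⟨j₀, hj₀⟩ := hrN
  obtain ⟨c₀, hc₀⟩ := (hA N).2 (dvd_refl _)
  have hc₀q : c₀ ^ (q + 1) = 1 := by
    have h1 := hunit N
    rw [hc₀, cs_smul, cs_one, Matrix.smul_mul, Matrix.mul_smul, mul_one, smul_smul] at h1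
    have h2 := congrFun (congrFun h1 ⟨0, hn0⟩) ⟨0, hn0⟩
    simp only [Matrix.smul_apply, Matrix.one_apply_eq, smul_eq_mul, mul_one] at h2
    rw [pow_succ, ← hσ]
    exact h2
  obtain ⟨M, hM⟩ : ∃ M : ℕ, M = N * (q + 1) := ⟨_, rfl⟩
  have hSM : S ^ M = 1 := by
    rw [hM, pow_mul, hc₀, _root_.smul_pow, one_pow, hc₀q, one_smul]
  have hNF : ((N : ℕ) : F) ≠ 0 := by
    rw [hN]
    split_ifs
    · rw [Nat.cast_add, Nat.cast_pow, hqF, zero_pow (by omega), zero_add, Nat.cast_one]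
      exact one_ne_zero
    · rw [Nat.cast_sub hqm1, Nat.cast_pow, hqF, zero_pow (by omega), zero_sub, Nat.cast_one]
      exact neg_ne_zero.2 one_ne_zero
  have hMF : ((M : ℕ) : F) ≠ 0 := by
    rw [hM, Nat.cast_mul]
    refine mul_ne_zero hNF ?_
    rw [Nat.cast_add, hqF, zero_add, Nat.cast_one]
    exact one_ne_zero
  obtain ⟨J, hJ⟩ : ∃ J : ℕ, J = j₀ * (q + 1) := ⟨_, rfl⟩
  have hJr : J * r = M := by rw [hJ, hM, hj₀]; ring
  obtain ⟨Y, hY⟩ : ∃ Y : Matrix (Fin n) (Fin n) F, Y = S ^ J := ⟨_, rfl⟩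
  have hYr : Y ^ r = 1 := by rw [hY, ← pow_mul, hJr, hSM]
  have hYu : cs σ Y * Y = 1 := by rw [hY]; exact hunit J
  have hY1 : Y ≠ 1 := by
    intro h
    have h1 : N ∣ J := (hA J).1 ⟨1, by rw [one_smul, ← hY]; exact h⟩
    rw [hJ, hj₀] at h1
    have hj₀pos : 0 < j₀ := by
      rcases Nat.eq_zero_or_pos j₀ with h0 | h0
      · rw [h0, mul_zero] at hj₀
        omega
      · exact h0
    have h2 : r ∣ q + 1 := by
      have : j₀ * r ∣ j₀ * (q + 1) := by rwa [mul_comm j₀ r]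
      exact (Nat.mul_dvd_mul_iff_left hj₀pos).1 this
    have h3 : r ∣ (q ^ 2) ^ 1 - 1 := by
      rw [pow_one, sq_sub_one]
      exact Dvd.dvd.mul_right h2 _
    have := hP 1 one_pos h3
    omega
  have hdeg : ∀ f : F[X], Irreducible f → f ∣ X ^ r - 1 → ¬ f ∣ X - 1 →
      m ≤ f.natDegree ∧ ¬ f ∣ (f.map σ).reverse := by
    intro f hf hfr hf1
    refine ⟨?_, not_dvd_ureverse hF σ hσ hσ2 f hf r hr hfr hf1 hrq hP'⟩
    have h1 := ord_dvd_of_factor f hf r hr r 1 hfr (by rwa [pow_one]) (by rw [one_mul])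
    have h2 : r ∣ Fintype.card F ^ f.natDegree - 1 := dvd_of_ord_dvd Fintype.card_pos h1
    rw [hF] at h2
    exact hP _ hf.natDegree_pos h2
  -- no non-trivial self-adjoint idempotent
  have hH : ∀ g₁ : F[X], aeval S g₁ * aeval S g₁ = aeval S g₁ →
      cs σ (aeval S g₁) = aeval S g₁ → aeval S g₁ = 0 ∨ aeval S g₁ = 1 := by
    intro g₁ hee hcse
    by_contra hcon
    obtain ⟨he0, he1⟩ := not_or.1 hcon
    obtain ⟨e, he⟩ : ∃ e : Matrix (Fin n) (Fin n) F, e = aeval S g₁ := ⟨_, rfl⟩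
    rw [← he] at hee hcse he0 he1
    have hcomm : Y * e = e * Y := by
      have h1 : Y = aeval S (X ^ J : F[X]) := by rw [map_pow, aeval_X, hY]
      rw [h1, he]
      exact aeval_comm S (X ^ J : F[X]) g₁
    have hcard : Fintype.card (Fin n) ≤ 2 * m := by rw [Fintype.card_fin, hnm]
    have hee' : e * (1 - e) = 0 := by rw [mul_sub, mul_one, hee, sub_self]
    have he'e : (1 - e) * e = 0 := by rw [sub_mul, one_mul, hee, sub_self]
    obtain ⟨hu1, hr1'⟩ := proj_unitary σ Y e hYu hee hcse hcomm r hYr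
    have hZ1 := eq_one_of_fix σ (Y * e + (1 - e)) hu1 r hr hrF hr1' m hcard hdeg (1 - e)
      (sub_ne_zero.2 (Ne.symm he1)) (by
        have h3 : Y * e + (1 - e) - 1 = Y * e - e := by abel
        rw [h3, sub_mul, mul_assoc, hee', mul_zero, sub_zero])
    have hee2 : (1 - e) * (1 - e) = 1 - e := by
      rw [mul_sub, mul_one, he'e, sub_zero]
    have hcse2 : cs σ (1 - e) = 1 - e := by rw [cs_sub, cs_one, hcse]
    have hcomm2 : Y * (1 - e) = (1 - e) * Y := by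
      rw [mul_sub, sub_mul, mul_one, one_mul, hcomm]
    obtain ⟨hu2, hr2'⟩ := proj_unitary σ Y (1 - e) hYu hee2 hcse2 hcomm2 r hYr
    have hZ2 := eq_one_of_fix σ (Y * (1 - e) + (1 - (1 - e))) hu2 r hr hrF hr2' m hcard hdeg e
      he0 (by
        have h3 : Y * (1 - e) + (1 - (1 - e)) - 1 = Y * (1 - e) - (1 - e) := by abel
        rw [h3, sub_mul, mul_assoc, he'e, mul_zero, sub_zero])
    apply hY1
    have h1 : Y * e = e := by
      calc Y * e = (Y * e + (1 - e)) - (1 - e) := by abel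
        _ = e := by rw [hZ1]; abel
    have h2 : Y * (1 - e) = 1 - e := by
      calc Y * (1 - e) = (Y * (1 - e) + (1 - (1 - e))) - (1 - (1 - e)) := by abel
        _ = 1 - e := by rw [hZ2]; abel
    calc Y = Y * e + Y * (1 - e) := by rw [← mul_add]; simp
      _ = 1 := by rw [h1, h2]; abel
  have hmain : ∃ c : F, S ^ Np q n = c • (1 : Matrix (Fin n) (Fin n) F) := by
    by_cases hirr : Irreducible (minpoly F S)
    · exact (typeA hF p k hp hk1 hqp σ hσ hσ2 hσne hn0 S hSu hSdet hirr).1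
    · exact (typeB hF hq2 σ hσ hσ2 hn0 S hSu hSdet M hMF hSM
        (H_idem σ hσ2 S hSu M hMF hSM hH) hirr).1
  have hNNp : N ∣ Np q n := (hA _).1 hmain
  rw [hnm] at hNNp ⊢
  exact arith_nec q m hodd hq3 hm N hN hNNp

/-- existence of an element of order `q ^ m + 1` -/
theorem exists_elem (hF : Fintype.card F = q ^ 2) (hodd : Odd q) (m : ℕ) (hm : 2 ≤ m)
    (hnm : n = 2 * m) (h : padicValNat 2 (q + 1) < padicValNat 2 n) :
    Even m ∧ ∃ g : PSU n F q, orderOf g = q ^ m + 1 := by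
  classical
  obtain ⟨σ, hσ, hσ2, hσne⟩ := exists_sigma hF
  obtain ⟨p, k, hp, hchar, hqp⟩ := Cfsg.Agent.Lib.helper7.exists_char_pow hF
  have : Fact p.Prime := ⟨hp⟩
  have hq2 : 2 ≤ q := two_le_q hF
  have hq3 : 3 ≤ q := by
    obtain ⟨t, ht⟩ := hodd
    omega
  have hn0 : 0 < n := by omega
  rw [hnm] at h
  obtain ⟨hev, hE1, hE2, hE3⟩ := arith_ex q m hodd hq3 hm h
  refine ⟨hev, ?_⟩
  obtain ⟨E, hE⟩ : ∃ E : ℕ, E = (q ^ m + 1) * 2 ^ padicValNat 2 (q + 1) := ⟨_, rfl⟩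
  rw [← hE] at hE1 hE2 hE3
  have hEpos : 0 < E := by rw [hE]; positivity
  obtain ⟨A, hAE, hAmin, hAdet⟩ := exists_block_det (F := F) p m (by omega) E
    (by rw [hF]; exact hE1)
  have hdetq : A.det ^ (q - 1) = 1 := hAdet (q - 1) (by rw [hF]; exact hE2)
  have hσdet : σ A.det = A.det := by
    rw [hσ]
    have h1 : q = (q - 1) + 1 := by omega
    rw [h1, pow_succ, hdetq, one_mul]
  obtain ⟨t, htu, htdet, htsc⟩ := exists_hyp σ hσ2 hσne m A E hEpos hAE
  have htdet1 : t.det = 1 := by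
    rw [htdet, hσdet, ← pow_succ', Nat.sub_add_cancel hEpos, ← Matrix.det_pow, hAE,
      Matrix.det_one]
  let e : Fin m ⊕ Fin m ≃ Fin n := finSumFinEquiv.trans (finCongr (by omega))
  let φ := Matrix.reindexAlgEquiv F F e
  have hcsφ : ∀ X : Matrix (Fin m ⊕ Fin m) (Fin m ⊕ Fin m) F, cs σ (φ X) = φ (cs σ X) :=
    fun X => rfl
  have h1 : cs σ (φ t) * φ t = 1 := by rw [hcsφ, ← map_mul, htu, map_one]
  have h2 : (φ t).det = 1 := by
    rw [Matrix.det_reindexAlgEquiv]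
    exact htdet1
  have hdvd : q ^ m + 1 ∣ orderOf (QuotientGroup.mk (mkSU hF σ hσ (φ t) h1 h2) : PSU n F q) := by
    obtain ⟨c, hc⟩ := (psu_pow_eq_one_iff hF hn0 (mkSU hF σ hσ (φ t) h1 h2) _).1
      (pow_orderOf_eq_one (QuotientGroup.mk (mkSU hF σ hσ (φ t) h1 h2) : PSU n F q))
    rw [mkSU_coe] at hc
    obtain ⟨o, ho⟩ : ∃ o : ℕ,
        o = orderOf (QuotientGroup.mk (mkSU hF σ hσ (φ t) h1 h2) : PSU n F q) := ⟨_, rfl⟩
    rw [← ho] at hc ⊢
    have hc' : t ^ o = c • (1 : Matrix (Fin m ⊕ Fin m) (Fin m ⊕ Fin m) F) := by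
      apply φ.injective
      rw [map_pow, map_smul, map_one]
      exact hc
    have hAo := htsc o c hc'
    have hcq : c ^ (q + 1) = 1 := by
      have h9 : t * cs σ t = 1 := mul_eq_one_comm.1 htu
      have hcomm : Commute (cs σ t) t := by
        show cs σ t * t = t * cs σ t
        rw [htu, h9]
      have h3 : cs σ (t ^ o) * t ^ o = 1 := by
        rw [cs_pow, ← hcomm.mul_pow, htu, one_pow]
      rw [hc', cs_smul, cs_one, Matrix.smul_mul, Matrix.mul_smul, mul_one, smul_smul] at h3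
      have h4 := congrFun (congrFun h3 (Sum.inl ⟨0, by omega⟩)) (Sum.inl ⟨0, by omega⟩)
      simp only [Matrix.smul_apply, Matrix.one_apply_eq, smul_eq_mul, mul_one] at h4
      rw [pow_succ, ← hσ]
      exact h4
    apply hE3
    apply hAmin
    rw [pow_mul, hAo, _root_.smul_pow, one_pow, hcq, one_smul]
  exact Cfsg.Agent.Lib.helper64.SpecProd.mem_range_of_dvd ⟨_, rfl⟩ hdvd

end mat

/-- Let q be an odd prime power, n ≥ 4 even, and U = PSU(n,q) (realised over the field with q² elements). Then U has an element of order q^(n/2) + (−1)^(n/2) — that is, q^(n/2) + 1 when n/2 is even and q^(n/2) − 1 when n/2 is odd — if and only if the 2-part of n exceeds the 2-part of q + 1. -/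
theorem result {F : Type*} [Field F] [Fintype F] {q : ℕ} (hF : Fintype.card F = q ^ 2) (hodd : Odd q)
    {n : ℕ} (hn : 4 ≤ n) (heven : Even n) :
    (∃ g : Cfsg.PSU n F q, orderOf g = if Even (n / 2) then q ^ (n / 2) + 1 else q ^ (n / 2) - 1) ↔
      padicValNat 2 (q + 1) < padicValNat 2 n := by
  classical
  obtain ⟨m, hm⟩ := heven
  have hnm : n = 2 * m := by omega
  have hdiv : n / 2 = m := by omega
  rw [hdiv]
  constructor
  · rintro ⟨g, hg⟩
    obtain ⟨g', rfl⟩ := QuotientGroup.mk_surjective g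
    exact key hF hodd m (by omega) hnm g' _ rfl hg
  · intro h
    obtain ⟨hev, hex⟩ := exists_elem (F := F) hF hodd m (by omega) hnm h
    rw [if_pos hev]
    exact hex

end Cfsg.Agent.S2496
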