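import Cfsg.Statements.S2503
import Mathlib
-- import your own Cfsg.Agent.* helpers here

set_option autoImplicit false
set_option linter.unusedSectionVars false
open Cfsg

namespace Cfsg.Agent.S2503

open Polynomial in
/-- the quadratic `X^2 + X + δ` -/
noncomputable def quad {F : Type*} [Field F] (δ : F) : F[X] := X ^ 2 + X + C δ

/-- the matrix of multiplication by `x + y ω`, `ω^2 = ω + δ` -/
def mulMat {F : Type*} [Field F] (δ x y : F) : Matrix (Fin 2) (Fin 2) F := !![x, δ * y; y, x + y]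

section char2

variable {F : Type*} [Field F] [Fintype F]

theorem charTwo_of_even (h2 : 2 ∣ Fintype.card F) : CharP F 2 := by
  obtain ⟨p, hp⟩ := CharP.exists F
  obtain ⟨n, hprime, hcard⟩ := FiniteField.card F p
  rw [hcard] at h2
  have h3 : 2 ∣ p := Nat.Prime.dvd_of_dvd_pow Nat.prime_two h2
  have h4 : 2 = p := (Nat.prime_dvd_prime_iff_eq Nat.prime_two hprime).mp h3
  rw [h4]
  exact hp

variable [CharP F 2]

theorem exists_sqrt (c : F) : ∃ d : F, d ^ 2 = c := by
  obtain ⟨d, hd⟩ := surjective_frobenius F 2 c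
  exact ⟨d, by rwa [frobenius_def] at hd⟩

theorem exists_delta : ∃ δ : F, ∀ t : F, t ^ 2 + t ≠ δ := by
  by_contra hcon
  push Not at hcon
  have hsurj : Function.Surjective (fun t : F => t ^ 2 + t) := fun δ => hcon δ
  have hinj := Finite.injective_iff_surjective.mpr hsurj
  have h01 : (fun t : F => t ^ 2 + t) 0 = (fun t : F => t ^ 2 + t) 1 := by
    simp only
    rw [one_pow, CharTwo.add_self_eq_zero]
    simp
  exact zero_ne_one (hinj h01)

theorem aniso {δ : F} (hδ : ∀ t : F, t ^ 2 + t ≠ δ) (x y : F)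
    (h : x ^ 2 + x * y + δ * y ^ 2 = 0) : x = 0 ∧ y = 0 := by
  have hy : y = 0 := by
    by_contra hy
    apply hδ (x / y)
    have h1 : (x / y) ^ 2 + x / y = (x ^ 2 + x * y) / y ^ 2 := by
      field_simp
    rw [h1, div_eq_iff (pow_ne_zero 2 hy)]
    have h2 : x ^ 2 + x * y = -(δ * y ^ 2) := by linear_combination h
    rw [h2, CharTwo.neg_eq]
  subst hy
  simp at h
  exact ⟨h, rfl⟩

theorem det_mulMat (δ x y : F) : (mulMat δ x y).det = x ^ 2 + x * y + δ * y ^ 2 := by
  rw [mulMat, Matrix.det_fin_two_of]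
  have h2 : (2 : F) = 0 := CharTwo.two_eq_zero
  linear_combination (-δ * y ^ 2) * h2

theorem mulMat_mul (δ x y x' y' : F) :
    mulMat δ x y * mulMat δ x' y' = mulMat δ (x * x' + δ * y * y') (x * y' + y * x' + y * y') := by
  rw [mulMat, mulMat, mulMat, Matrix.mul_fin_two]
  congr 1
  ext i j
  fin_cases i <;> fin_cases j <;> simp <;> ring

open Polynomial in
theorem quad_natDegree (δ : F) : (quad δ).natDegree = 2 := by
  unfold quad
  compute_degree!

open Polynomial in
theorem quad_irreducible {δ : F} (hδ : ∀ t : F, t ^ 2 + t ≠ δ) : Irreducible (quad δ) := by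
  apply irreducible_of_degree_le_three_of_not_isRoot
  · rw [quad_natDegree]
    decide
  · intro t ht
    rw [IsRoot, quad] at ht
    simp only [eval_add, eval_pow, eval_X, eval_C] at ht
    apply hδ t
    have : t ^ 2 + t = -δ := by linear_combination ht
    rw [this, CharTwo.neg_eq]

end char2

section torus

open Polynomial

variable {F : Type*} [Field F] [Fintype F] [CharP F 2]

theorem aeval_quad (δ : F) : aeval (mulMat δ 0 1) (quad δ) = 0 := by
  unfold quad
  simp only [map_add, map_pow, aeval_X, aeval_C]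
  rw [pow_two, mulMat_mul]
  have h2 : (2 : F) = 0 := CharTwo.two_eq_zero
  ext i j
  fin_cases i <;> fin_cases j <;>
    simp [mulMat, Matrix.algebraMap_matrix_apply] <;>
    first
      | linear_combination (1 : F) * h2
      | linear_combination (δ) * h2
      | linear_combination (-1 : F) * h2
      | linear_combination (-δ) * h2
      | linear_combination (δ + 1) * h2

/-- the embedding of `F[ω]` into the matrix ring -/
noncomputable def phi (δ : F) : AdjoinRoot (quad δ) →+* Matrix (Fin 2) (Fin 2) F :=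
  Ideal.Quotient.lift (Ideal.span {quad δ}) (aeval (mulMat δ 0 1)).toRingHom (by
    intro a ha
    rw [Ideal.mem_span_singleton] at ha
    obtain ⟨b, rfl⟩ := ha
    show aeval (mulMat δ 0 1) (quad δ * b) = 0
    rw [map_mul, aeval_quad, zero_mul])

theorem phi_apply (δ x y : F) :
    phi δ (AdjoinRoot.of (quad δ) x + AdjoinRoot.of (quad δ) y * AdjoinRoot.root (quad δ)) =
      mulMat δ x y := by
  have h1 : AdjoinRoot.of (quad δ) x + AdjoinRoot.of (quad δ) y * AdjoinRoot.root (quad δ) =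
      AdjoinRoot.mk (quad δ) (C x + C y * X) := by
    simp [AdjoinRoot.mk_C, AdjoinRoot.mk_X]
  rw [h1]
  show aeval (mulMat δ 0 1) (C x + C y * X) = mulMat δ x y
  simp only [map_add, map_mul, aeval_X, aeval_C]
  ext i j
  fin_cases i <;> fin_cases j <;>
    simp [mulMat, Matrix.algebraMap_matrix_apply, Matrix.mul_apply, mul_comm]

/-- the norm homomorphism on units -/
noncomputable def nu (δ : F) : (AdjoinRoot (quad δ))ˣ →* Fˣ :=
  Units.map ((Matrix.detMonoidHom).comp (phi δ).toMonoidHom)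

theorem nu_apply (δ : F) (u : (AdjoinRoot (quad δ))ˣ) :
    ((nu δ u : Fˣ) : F) = (phi δ (u : AdjoinRoot (quad δ))).det := rfl

/-- the norm-one units, mapped into `SL₂` -/
noncomputable def psi (δ : F) : (nu δ).ker →* Matrix.SpecialLinearGroup (Fin 2) F where
  toFun u := ⟨phi δ ((u : (AdjoinRoot (quad δ))ˣ) : AdjoinRoot (quad δ)), by
    have h := u.2
    rw [MonoidHom.mem_ker] at h
    have h' := congrArg Units.val h
    rw [nu_apply] at h'
    simpa using h'⟩
  map_one' := by
    apply Subtype.ext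
    simp
  map_mul' a b := by
    apply Subtype.ext
    simp
    rfl

theorem psi_coe (δ : F) (u : (nu δ).ker) :
    ((psi δ u : Matrix.SpecialLinearGroup (Fin 2) F) : Matrix (Fin 2) (Fin 2) F) =
      phi δ ((u : (AdjoinRoot (quad δ))ˣ) : AdjoinRoot (quad δ)) := rfl

section fieldK

variable (δ : F) [hirr : Fact (Irreducible (quad δ))]

theorem quad_ne_zero : quad δ ≠ 0 := hirr.out.ne_zero

instance finiteK : Finite (AdjoinRoot (quad δ)) := by
  have : Module.Finite F (AdjoinRoot (quad δ)) :=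
    PowerBasis.finite (AdjoinRoot.powerBasis (quad_ne_zero δ))
  exact Module.finite_of_finite F

theorem card_K : Nat.card (AdjoinRoot (quad δ)) = Fintype.card F ^ 2 := by
  have : Module.Finite F (AdjoinRoot (quad δ)) :=
    PowerBasis.finite (AdjoinRoot.powerBasis (quad_ne_zero δ))
  rw [Module.natCard_eq_pow_finrank (K := F), (AdjoinRoot.powerBasis (quad_ne_zero δ)).finrank,
    AdjoinRoot.powerBasis_dim, quad_natDegree, Nat.card_eq_fintype_card]

theorem phi_injective : Function.Injective (phi δ) := (phi δ).injective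

theorem nu_surjective : Function.Surjective (nu δ) := by
  intro c
  obtain ⟨d, hd⟩ := exists_sqrt (c : F)
  have hd0 : d ≠ 0 := by
    rintro rfl
    have : (c : F) = 0 := by rw [← hd]; simp
    exact c.ne_zero this
  have hne : AdjoinRoot.of (quad δ) d ≠ 0 := by
    intro h
    apply hd0
    have := (AdjoinRoot.of (quad δ)).injective (h.trans (map_zero _).symm)
    exact this
  refine ⟨Units.mk0 _ hne, ?_⟩
  apply Units.ext
  rw [nu_apply, Units.val_mk0]
  have h1 := phi_apply δ d 0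
  simp only [map_zero, zero_mul, add_zero] at h1
  rw [h1, det_mulMat, ← hd]
  ring

theorem card_ker_nu : Nat.card (nu δ).ker = Fintype.card F + 1 := by
  have h1 := Subgroup.card_mul_index (nu δ).ker
  rw [Subgroup.index_ker, Nat.card_units, card_K] at h1
  have h2 : Nat.card (nu δ).range = Fintype.card F - 1 := by
    rw [MonoidHom.range_eq_top.mpr (nu_surjective δ), Subgroup.card_top, Nat.card_units,
      Nat.card_eq_fintype_card]
  rw [h2] at h1
  have hq : 2 ≤ Fintype.card F := Fintype.one_lt_card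
  have h3 : Fintype.card F ^ 2 - 1 = (Fintype.card F + 1) * (Fintype.card F - 1) := by
    obtain ⟨k, hk⟩ : ∃ k, Fintype.card F = k + 2 := ⟨Fintype.card F - 2, by omega⟩
    rw [hk]
    have h5 : k + 2 - 1 = k + 1 := by omega
    have h6 : (k + 2) ^ 2 = (k + 2 + 1) * (k + 1) + 1 := by ring
    rw [h5, h6]
    simp
  rw [h3] at h1
  have hpos : 0 < Fintype.card F - 1 := by omega
  exact Nat.eq_of_mul_eq_mul_right hpos h1

theorem psi_injective : Function.Injective (psi δ) := by
  intro u v h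
  have h1 := congrArg (fun M : Matrix.SpecialLinearGroup (Fin 2) F =>
    (M : Matrix (Fin 2) (Fin 2) F)) h
  simp only [psi_coe] at h1
  exact Subtype.ext (Units.ext (phi_injective δ h1))

theorem mem_range_psi (x y : F) (hdet : (mulMat δ x y).det = 1) :
    (⟨mulMat δ x y, hdet⟩ : Matrix.SpecialLinearGroup (Fin 2) F) ∈ (psi δ).range := by
  have hne : AdjoinRoot.of (quad δ) x + AdjoinRoot.of (quad δ) y * AdjoinRoot.root (quad δ) ≠ 0 := by
    intro h
    have h1 := phi_apply δ x y
    rw [h, map_zero] at h1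
    rw [← h1] at hdet
    simp at hdet
  have hker : Units.mk0 _ hne ∈ (nu δ).ker := by
    rw [MonoidHom.mem_ker]
    apply Units.ext
    rw [nu_apply, Units.val_mk0, phi_apply, hdet]
    rfl
  refine ⟨⟨Units.mk0 _ hne, hker⟩, ?_⟩
  apply Subtype.ext
  rw [psi_coe]
  exact phi_apply δ x y

end fieldK

end torus

section sl2

variable {F : Type*} [Field F] [Fintype F] [CharP F 2]

theorem center_eq_bot : Subgroup.center (Matrix.SpecialLinearGroup (Fin 2) F) = ⊥ := by
  rw [eq_bot_iff]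
  intro A hA
  rw [Matrix.SpecialLinearGroup.mem_center_iff] at hA
  obtain ⟨r, hr, hA⟩ := hA
  rw [Subgroup.mem_bot]
  have hr1 : r = 1 := by
    have h2 : (2 : F) = 0 := CharTwo.two_eq_zero
    have h3 : (r + 1) ^ 2 = 0 := by
      simp only [Fintype.card_fin] at hr
      linear_combination hr + r * h2 + h2
    have h4 : r + 1 = 0 := by simpa using h3
    have h5 : r = -1 := by linear_combination h4
    rw [h5, CharTwo.neg_eq]
  subst hr1
  apply Subtype.ext
  rw [← hA]
  simp

/-- upper unitriangular matrices -/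
def tMat (x : F) : Matrix.SpecialLinearGroup (Fin 2) F :=
  ⟨!![1, x; 0, 1], by simp [Matrix.det_fin_two_of]⟩

theorem tMat_coe (x : F) : (tMat x : Matrix (Fin 2) (Fin 2) F) = !![1, x; 0, 1] := rfl

theorem tMat_mul (x y : F) : tMat x * tMat y = tMat (x + y) := by
  apply Subtype.ext
  rw [Matrix.SpecialLinearGroup.coe_mul, tMat_coe, tMat_coe, tMat_coe, Matrix.mul_fin_two]
  congr 1
  ext i j
  fin_cases i <;> fin_cases j <;> simp [add_comm]

theorem tMat_zero : tMat (0 : F) = 1 := by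
  apply Subtype.ext
  rw [tMat_coe, Matrix.SpecialLinearGroup.coe_one]
  ext i j
  fin_cases i <;> fin_cases j <;> simp

theorem tMat_injective : Function.Injective (tMat : F → Matrix.SpecialLinearGroup (Fin 2) F) := by
  intro x y h
  have h1 := congrArg (fun M : Matrix.SpecialLinearGroup (Fin 2) F =>
    (M : Matrix (Fin 2) (Fin 2) F) 0 1) h
  simpa [tMat_coe] using h1

/-- the unipotent subgroup as a homomorphism -/
def beta : Multiplicative F →* Matrix.SpecialLinearGroup (Fin 2) F where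
  toFun x := tMat (Multiplicative.toAdd x)
  map_one' := by simp [tMat_zero]
  map_mul' x y := by simp [tMat_mul]

/-- torus elements as elements of `SL₂` -/
def torusElt (δ x y : F) (h : (mulMat δ x y).det = 1) : Matrix.SpecialLinearGroup (Fin 2) F :=
  ⟨mulMat δ x y, h⟩

theorem torusElt_coe (δ x y : F) (h : (mulMat δ x y).det = 1) :
    (torusElt δ x y h : Matrix (Fin 2) (Fin 2) F) = mulMat δ x y := rfl

theorem sl_factor (δ : F) (hδ : ∀ t : F, t ^ 2 + t ≠ δ)
    (g : Matrix.SpecialLinearGroup (Fin 2) F) :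
    ∃ (u₁ u₂ v₁ v₂ x : F) (h1 : (mulMat δ u₁ u₂).det = 1) (h2 : (mulMat δ v₁ v₂).det = 1),
      g = torusElt δ v₁ v₂ h2 * tMat x * (torusElt δ u₁ u₂ h1)⁻¹ := by
  have h2 : (2 : F) = 0 := CharTwo.two_eq_zero
  have hdet : (g : Matrix (Fin 2) (Fin 2) F) 0 0 * (g : Matrix (Fin 2) (Fin 2) F) 1 1 -
      (g : Matrix (Fin 2) (Fin 2) F) 0 1 * (g : Matrix (Fin 2) (Fin 2) F) 1 0 = 1 := by
    rw [← Matrix.det_fin_two]
    exact g.det_coe
  set a := (g : Matrix (Fin 2) (Fin 2) F) 0 0 with ha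
  set b := (g : Matrix (Fin 2) (Fin 2) F) 0 1 with hb
  set c := (g : Matrix (Fin 2) (Fin 2) F) 1 0 with hc
  set d := (g : Matrix (Fin 2) (Fin 2) F) 1 1 with hd
  obtain ⟨s, hs⟩ := exists_sqrt (a ^ 2 + a * c + δ * c ^ 2 + 1)
  obtain ⟨r, hr⟩ := exists_sqrt (b ^ 2 + b * d + δ * d ^ 2 + δ)
  have hu : ∃ u₁ u₂ : F, u₁ ^ 2 + u₁ * u₂ + δ * u₂ ^ 2 = 1 ∧ s * u₁ + r * u₂ = 0 := by
    by_cases h : r = 0 ∧ s = 0
    · refine ⟨1, 0, by ring, ?_⟩
      rw [h.1, h.2]
      ring
    · have hn : r ^ 2 + r * s + δ * s ^ 2 ≠ 0 := fun h0 => h (aniso hδ r s h0)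
      obtain ⟨e, he⟩ := exists_sqrt (r ^ 2 + r * s + δ * s ^ 2)⁻¹
      refine ⟨e * r, e * s, ?_, ?_⟩
      · have : (e * r) ^ 2 + e * r * (e * s) + δ * (e * s) ^ 2 =
            e ^ 2 * (r ^ 2 + r * s + δ * s ^ 2) := by ring
        rw [this, he, inv_mul_cancel₀ hn]
      · linear_combination (e * r * s) * h2
  obtain ⟨u₁, u₂, hN, hz⟩ := hu
  have hNv : (a * u₁ + b * u₂) ^ 2 + (a * u₁ + b * u₂) * (c * u₁ + d * u₂) +
      δ * (c * u₁ + d * u₂) ^ 2 = 1 := by
    linear_combination (-u₁ ^ 2) * hs + (-u₂ ^ 2) * hr + (u₁ * u₂) * hdet +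
      (s * u₁ + r * u₂) * hz - hN +
      (b * c * u₁ * u₂ + (a * b + δ * c * d) * u₁ * u₂ - 1 + u₁ * u₂ - s * r * u₁ * u₂) * h2
  have hd1 : (mulMat δ u₁ u₂).det = 1 := by rw [det_mulMat, hN]
  have hd2 : (mulMat δ (a * u₁ + b * u₂) (c * u₁ + d * u₂)).det = 1 := by rw [det_mulMat, hNv]
  set A1 : Matrix.SpecialLinearGroup (Fin 2) F := torusElt δ u₁ u₂ hd1 with hA1
  set A2 : Matrix.SpecialLinearGroup (Fin 2) F :=
    torusElt δ (a * u₁ + b * u₂) (c * u₁ + d * u₂) hd2 with hA2
  set B0 : Matrix.SpecialLinearGroup (Fin 2) F := A2⁻¹ * (g * A1) with hB0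
  have key : ∀ i, ((g * A1 : Matrix.SpecialLinearGroup (Fin 2) F) : Matrix (Fin 2) (Fin 2) F) i 0 =
      (A2 : Matrix (Fin 2) (Fin 2) F) i 0 := by
    intro i
    rw [Matrix.SpecialLinearGroup.coe_mul, hA1, hA2, torusElt_coe, torusElt_coe, Matrix.mul_apply,
      Fin.sum_univ_two]
    fin_cases i <;> simp [mulMat, ← ha, ← hb, ← hc, ← hd]
  have hcol : ∀ i, (B0 : Matrix (Fin 2) (Fin 2) F) i 0 = (1 : Matrix (Fin 2) (Fin 2) F) i 0 := by
    intro i
    have h1 : (B0 : Matrix (Fin 2) (Fin 2) F) i 0 =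
        ∑ k, ((A2⁻¹ : Matrix.SpecialLinearGroup (Fin 2) F) : Matrix (Fin 2) (Fin 2) F) i k *
          ((g * A1 : Matrix.SpecialLinearGroup (Fin 2) F) : Matrix (Fin 2) (Fin 2) F) k 0 := by
      rw [hB0, Matrix.SpecialLinearGroup.coe_mul, Matrix.mul_apply]
    have h3 : (1 : Matrix (Fin 2) (Fin 2) F) i 0 =
        ∑ k, ((A2⁻¹ : Matrix.SpecialLinearGroup (Fin 2) F) : Matrix (Fin 2) (Fin 2) F) i k *
          (A2 : Matrix (Fin 2) (Fin 2) F) k 0 := by
      rw [← Matrix.mul_apply, ← Matrix.SpecialLinearGroup.coe_mul, inv_mul_cancel,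
        Matrix.SpecialLinearGroup.coe_one]
    rw [h1, h3]
    exact Finset.sum_congr rfl (fun k _ => by rw [key k])
  have h00 : (B0 : Matrix (Fin 2) (Fin 2) F) 0 0 = 1 := by rw [hcol 0]; simp
  have h10 : (B0 : Matrix (Fin 2) (Fin 2) F) 1 0 = 0 := by rw [hcol 1]; simp
  have h11 : (B0 : Matrix (Fin 2) (Fin 2) F) 1 1 = 1 := by
    have h5 := B0.det_coe
    rw [Matrix.det_fin_two, h00, h10] at h5
    linear_combination h5
  have hB : B0 = tMat ((B0 : Matrix (Fin 2) (Fin 2) F) 0 1) := by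
    apply Subtype.ext
    rw [tMat_coe]
    ext i j
    fin_cases i <;> fin_cases j <;> simp [h00, h10, h11]
  refine ⟨u₁, u₂, a * u₁ + b * u₂, c * u₁ + d * u₂, (B0 : Matrix (Fin 2) (Fin 2) F) 0 1,
    hd1, hd2, ?_⟩
  calc g = A2 * B0 * A1⁻¹ := by rw [hB0]; group
    _ = A2 * tMat ((B0 : Matrix (Fin 2) (Fin 2) F) 0 1) * A1⁻¹ := by rw [← hB]

end sl2

/-- Let F be a finite field with q = 2^t ≥ 4 elements and L = PSL(2,F). Then L has a cyclic subgroup A of order q + 1 and an elementary abelian 2-subgroup B of order q such that L = ABA: every element of L is a product a·b·a' with a, a' ∈ A and b ∈ B. -/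
theorem result {F : Type*} [Field F] [Fintype F]
    (h2 : 2 ∣ Fintype.card F) (h4 : 4 ≤ Fintype.card F) :
    ∃ A B : Subgroup (Matrix.ProjectiveSpecialLinearGroup (Fin 2) F),
      IsCyclic A ∧ Nat.card A = Fintype.card F + 1 ∧ IsMulCommutative B ∧ (∀ b ∈ B, b * b = 1) ∧
        Nat.card B = Fintype.card F ∧
        ∀ g : Matrix.ProjectiveSpecialLinearGroup (Fin 2) F, ∃ a ∈ A, ∃ b ∈ B, ∃ c ∈ A, g = a * b * c := by
  classical
  have : CharP F 2 := charTwo_of_even h2
  obtain ⟨δ, hδ⟩ := exists_delta (F := F)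
  have : Fact (Irreducible (quad δ)) := ⟨quad_irreducible hδ⟩
  set π := QuotientGroup.mk' (Subgroup.center (Matrix.SpecialLinearGroup (Fin 2) F)) with hπ
  have hπinj : Function.Injective π := by
    rw [← MonoidHom.ker_eq_bot_iff, QuotientGroup.ker_mk', center_eq_bot]
  have hβinj : Function.Injective (beta : Multiplicative F →* _) := by
    intro x y h
    exact Multiplicative.toAdd.injective (tMat_injective h)
  have hinjA : Function.Injective (π.comp (psi δ)) := by
    rw [MonoidHom.coe_comp]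
    exact hπinj.comp (psi_injective δ)
  have hinjB : Function.Injective (π.comp (beta : Multiplicative F →* _)) := by
    rw [MonoidHom.coe_comp]
    exact hπinj.comp hβinj
  refine ⟨(π.comp (psi δ)).range, (π.comp beta).range, ?_, ?_, ?_, ?_, ?_, ?_⟩
  · have : IsCyclic (nu δ).ker := inferInstance
    exact isCyclic_of_surjective (π.comp (psi δ)).rangeRestrict
      (MonoidHom.rangeRestrict_surjective _)
  · rw [← card_ker_nu δ]
    exact (Nat.card_congr (MonoidHom.ofInjective hinjA).toEquiv).symm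
  · infer_instance
  · rintro b ⟨x, rfl⟩
    rw [← map_mul]
    have hx : x * x = 1 := by
      apply Multiplicative.toAdd.injective
      simp [CharTwo.add_self_eq_zero]
    rw [hx, map_one]
  · rw [← Nat.card_congr (MonoidHom.ofInjective hinjB).toEquiv,
      Nat.card_eq_fintype_card]
    exact Fintype.card_congr Multiplicative.toAdd
  · intro g
    obtain ⟨g0, rfl⟩ := QuotientGroup.mk'_surjective _ g
    obtain ⟨u₁, u₂, v₁, v₂, x, h1, h2, hg⟩ := sl_factor δ hδ g0
    refine ⟨π (torusElt δ v₁ v₂ h2), ?_, π (tMat x), ?_, π (torusElt δ u₁ u₂ h1)⁻¹, ?_, ?_⟩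
    · obtain ⟨w, hw⟩ := mem_range_psi δ v₁ v₂ h2
      exact ⟨w, congrArg π hw⟩
    · exact ⟨Multiplicative.ofAdd x, rfl⟩
    · obtain ⟨w, hw⟩ := mem_range_psi δ u₁ u₂ h1
      refine ⟨w⁻¹, ?_⟩
      show π (psi δ w⁻¹) = π (torusElt δ u₁ u₂ h1)⁻¹
      rw [map_inv, hw]
      rfl
    · rw [← map_mul, ← map_mul, ← hg]

end Cfsg.Agent.S2503
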