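import Cfsg.Statements.S2506
import Cfsg.Agent.Lib.helper98.AbAltC

set_option autoImplicit false
open scoped Pointwise
open Cfsg

namespace Cfsg.Agent.S2506

/-- In the alternating group of any degree, any two abelian subgroups of the largest possible order (among abelian subgroups) are conjugate. -/
theorem result (n : ℕ)
    (A B : Subgroup (alternatingGroup (Fin n))) (hA : IsMulCommutative A) (hB : IsMulCommutative B)
    (hAmax : ∀ C : Subgroup (alternatingGroup (Fin n)), IsMulCommutative C → Nat.card C ≤ Nat.card A)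
    (hBmax : ∀ C : Subgroup (alternatingGroup (Fin n)), IsMulCommutative C → Nat.card C ≤ Nat.card B) :
    ∃ g : alternatingGroup (Fin n), B = MulAut.conj g • A := by
  have hAB : Nat.card A = Nat.card B := le_antisymm (hBmax A hA) (hAmax B hB)
  rcases Nat.lt_or_ge n 3 with hn3 | hn3
  · have := Cfsg.Agent.Lib.helper98.abalt_subsingleton_alt n hn3
    exact Cfsg.Agent.Lib.helper98.abalt_trivial A B
  rcases eq_or_ne n 5 with rfl | hn5
  · exact Cfsg.Agent.Lib.helper98.abalt_five_case A B hA hB hAmax hBmax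
  obtain ⟨k, hn⟩ : ∃ k, n = 3 * k ∨ n = 3 * k + 1 ∨ n = 3 * k + 2 := ⟨n / 3, by omega⟩
  rcases hn with rfl | rfl | rfl
  · -- n = 3k, k ≥ 1
    have hk : 1 ≤ k := by omega
    have key : ∀ A : Subgroup (alternatingGroup (Fin (3 * k))), IsMulCommutative A →
        (∀ C : Subgroup (alternatingGroup (Fin (3 * k))), IsMulCommutative C →
          Nat.card C ≤ Nat.card A) →
        Cfsg.Agent.Lib.helper98.AbGood (A.map (alternatingGroup (Fin (3 * k))).subtype) := by
      intro A hA hAmax
      refine Cfsg.Agent.Lib.helper98.abalt_good_of_max A hA hAmax (3 ^ k)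
        (Cfsg.Agent.S2504.toSub (Cfsg.Agent.S2504.hasAbEven_three_mul k)) (fun A' hA' _ => ?_) ?_
      · have := Cfsg.Agent.Lib.helper98.abalt_pi_le_maxProd A'
        rwa [Fintype.card_fin, Cfsg.Agent.S2505.maxProd_three_mul k hk] at this
      · have e : (3 ^ k) ^ 3 = 3 ^ (3 * k) := by rw [← pow_mul, mul_comm]
        rw [e]
        omega
    exact Cfsg.Agent.Lib.helper98.abalt_conj_of_good A B (key A hA hAmax) (key B hB hBmax) hAB
  · -- n = 3k + 1, k ≥ 1
    obtain ⟨k', rfl⟩ : ∃ k', k = k' + 1 := ⟨k - 1, by omega⟩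
    have hex : Cfsg.Agent.S2504.HasAbEven (3 * (k' + 1) + 1) (4 * 3 ^ k') := by
      have h := Cfsg.Agent.S2504.hasAbEven_mul (Cfsg.Agent.S2504.hasAbEven_three_mul k')
        Cfsg.Agent.S2504.hasAbEven_four
      have e : 3 * (k' + 1) + 1 = 3 * k' + 4 := by omega
      rw [e, mul_comm 4]
      exact h
    have key : ∀ A : Subgroup (alternatingGroup (Fin (3 * (k' + 1) + 1))), IsMulCommutative A →
        (∀ C : Subgroup (alternatingGroup (Fin (3 * (k' + 1) + 1))), IsMulCommutative C →
          Nat.card C ≤ Nat.card A) →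
        Cfsg.Agent.Lib.helper98.AbGood
          (A.map (alternatingGroup (Fin (3 * (k' + 1) + 1))).subtype) := by
      intro A hA hAmax
      refine Cfsg.Agent.Lib.helper98.abalt_good_of_max A hA hAmax (4 * 3 ^ k')
        (Cfsg.Agent.S2504.toSub hex) (fun A' hA' _ => ?_) ?_
      · have := Cfsg.Agent.Lib.helper98.abalt_pi_le_maxProd A'
        rwa [Fintype.card_fin, Cfsg.Agent.S2505.maxProd_three_mul_add_one (k' + 1) (by omega),
          Nat.add_sub_cancel] at this
      · have e1 : (4 * 3 ^ k') ^ 3 = 64 * 3 ^ (3 * k') := by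
          rw [mul_pow, ← pow_mul, mul_comm k' 3]
          norm_num
        have e2 : 3 ^ (3 * (k' + 1) + 1) = 81 * 3 ^ (3 * k') := by
          rw [show 3 * (k' + 1) + 1 = 3 * k' + 4 by omega, pow_add]
          norm_num [mul_comm]
        rw [e1, e2]
        omega
    exact Cfsg.Agent.Lib.helper98.abalt_conj_of_good A B (key A hA hAmax) (key B hB hBmax) hAB
  · -- n = 3k + 2, k ≥ 2
    obtain ⟨k', rfl⟩ : ∃ k', k = k' + 2 := ⟨k - 2, by omega⟩
    have hex := (Cfsg.Agent.S2504.result (k' + 2) (by omega)).2.2.1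
    have key : ∀ A : Subgroup (alternatingGroup (Fin (3 * (k' + 2) + 2))), IsMulCommutative A →
        (∀ C : Subgroup (alternatingGroup (Fin (3 * (k' + 2) + 2))), IsMulCommutative C →
          Nat.card C ≤ Nat.card A) →
        Cfsg.Agent.Lib.helper98.AbGood
          (A.map (alternatingGroup (Fin (3 * (k' + 2) + 2))).subtype) := by
      intro A hA hAmax
      refine Cfsg.Agent.Lib.helper98.abalt_good_of_max A hA hAmax (16 * 3 ^ (k' + 2 - 2))
        hex (fun A' hA' heven => ?_) ?_
      · exact Cfsg.Agent.Lib.helper98.abalt_pi_le_sixteen A' hA' heven (k' + 2) (by omega)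
          (by rw [Fintype.card_fin])
      · rw [Nat.add_sub_cancel]
        have e1 : (16 * 3 ^ k') ^ 3 = 4096 * 3 ^ (3 * k') := by
          rw [mul_pow, ← pow_mul, mul_comm k' 3]
          norm_num
        have e2 : 3 ^ (3 * (k' + 2) + 2) = 6561 * 3 ^ (3 * k') := by
          rw [show 3 * (k' + 2) + 2 = 3 * k' + 8 by omega, pow_add]
          norm_num [mul_comm]
        rw [e1, e2]
        omega
    exact Cfsg.Agent.Lib.helper98.abalt_conj_of_good A B (key A hA hAmax) (key B hB hBmax) hAB

end Cfsg.Agent.S2506
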