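import Cfsg.Statements.S2507
import Mathlib
import Cfsg.Agent.S2503
import Cfsg.Agent.Lib.helper47.SL2Cent
import Cfsg.Agent.Lib.helper7.CardSL
-- import your own Cfsg.Agent.* helpers here

set_option autoImplicit false
set_option linter.unusedSectionVars false
open Cfsg

namespace Cfsg.Agent.S2507

open Cfsg.Agent.S2503 Cfsg.Agent.Lib.helper47

section counts

variable {F : Type*} [Field F] [Fintype F] [CharP F 2]

theorem count_zero :
    Nat.card {p : F × F // p.1 ^ 2 + (0 : F) * p.1 * p.2 + p.2 ^ 2 = 1} = Fintype.card F := by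
  have h2 : (2 : F) = 0 := CharTwo.two_eq_zero
  have key : ∀ p : F × F, p.1 ^ 2 + (0 : F) * p.1 * p.2 + p.2 ^ 2 = 1 → p.1 = p.2 + 1 := by
    intro p hp
    have h3 : (p.1 + p.2 + 1) ^ 2 = 0 := by
      linear_combination hp + (p.1 * p.2 + p.1 + p.2 + 1) * h2
    have h4 : p.1 + p.2 + 1 = 0 := by simpa using h3
    linear_combination h4 - (p.2 + 1) * h2
  rw [← Nat.card_eq_fintype_card]
  apply Nat.card_eq_of_bijective
    (fun p : {p : F × F // p.1 ^ 2 + (0 : F) * p.1 * p.2 + p.2 ^ 2 = 1} => p.1.2)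
  constructor
  · intro p p' h
    simp only at h
    apply Subtype.ext
    apply Prod.ext
    · rw [key p.1 p.2, key p'.1 p'.2, h]
    · exact h
  · intro y
    refine ⟨⟨(y + 1, y), ?_⟩, rfl⟩
    show (y + 1) ^ 2 + (0 : F) * (y + 1) * y + y ^ 2 = 1
    linear_combination (y ^ 2 + y) * h2

theorem count_split (t lam : F) (ht : t ≠ 0) (hl : lam ^ 2 + t * lam + 1 = 0) :
    Nat.card {p : F × F // p.1 ^ 2 + t * p.1 * p.2 + p.2 ^ 2 = 1} = Fintype.card F - 1 := by
  have h2 : (2 : F) = 0 := CharTwo.two_eq_zero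
  have key : ∀ p : F × F, p.1 ^ 2 + t * p.1 * p.2 + p.2 ^ 2 = 1 →
      (p.1 + lam * p.2) * (p.1 + (lam + t) * p.2) = 1 := by
    intro p hp
    linear_combination hp + (p.2 ^ 2) * hl + (lam * p.1 * p.2 - p.2 ^ 2) * h2
  have hne : ∀ p : {p : F × F // p.1 ^ 2 + t * p.1 * p.2 + p.2 ^ 2 = 1},
      p.1.1 + lam * p.1.2 ≠ 0 := by
    intro p h0
    have := key p.1 p.2
    rw [h0, zero_mul] at this
    exact zero_ne_one this
  rw [← Nat.card_eq_fintype_card, ← Nat.card_units]
  apply Nat.card_eq_of_bijective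
    (fun p : {p : F × F // p.1 ^ 2 + t * p.1 * p.2 + p.2 ^ 2 = 1} =>
      Units.mk0 (p.1.1 + lam * p.1.2) (hne p))
  constructor
  · intro p p' h
    have h1 : p.1.1 + lam * p.1.2 = p'.1.1 + lam * p'.1.2 := congrArg Units.val h
    have h3 := key p.1 p.2
    have h4 := key p'.1 p'.2
    rw [h1] at h3
    have h5 : p.1.1 + (lam + t) * p.1.2 = p'.1.1 + (lam + t) * p'.1.2 :=
      mul_left_cancel₀ (hne p') (h3.trans h4.symm)
    have h6 : t * (p.1.2 - p'.1.2) = 0 := by linear_combination h5 - h1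
    have h7 : p.1.2 = p'.1.2 := by
      rcases mul_eq_zero.mp h6 with h | h
      · exact absurd h ht
      · exact sub_eq_zero.mp h
    apply Subtype.ext
    apply Prod.ext
    · rw [h7] at h1
      linear_combination h1
    · exact h7
  · intro u
    have hu : (u : F) ≠ 0 := u.ne_zero
    have hx : ((u : F) - lam * (((u : F) + (u : F)⁻¹) / t)) ^ 2 +
        t * ((u : F) - lam * (((u : F) + (u : F)⁻¹) / t)) * (((u : F) + (u : F)⁻¹) / t) +
        (((u : F) + (u : F)⁻¹) / t) ^ 2 = 1 := by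
      field_simp
      linear_combination ((u : F) ^ 2 + 1) ^ 2 * hl +
        (-(u : F) ^ 2 * t ^ 2 - lam * t * ((u : F) ^ 2 + 1) * (u : F) ^ 2 +
          (-2 * (u : F) ^ 2 * t * lam + (u : F) ^ 2 * t ^ 2 - (u : F) ^ 4 * t * lam +
            (u : F) ^ 4 * t ^ 2 - t * lam)) * h2
    refine ⟨⟨((u : F) - lam * (((u : F) + (u : F)⁻¹) / t), ((u : F) + (u : F)⁻¹) / t), hx⟩, ?_⟩
    apply Units.ext
    simp

end counts

section nonsplit

variable {F : Type*} [Field F] [Fintype F] [CharP F 2]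

theorem mulMat_injective (δ x y x' y' : F) (h : mulMat δ x y = mulMat δ x' y') :
    x = x' ∧ y = y' := by
  have h00 := congrFun (congrFun h 0) 0
  have h10 := congrFun (congrFun h 1) 0
  simp only [mulMat, Matrix.of_apply, Matrix.cons_val', Matrix.cons_val_zero, Matrix.cons_val_one,
    Matrix.empty_val', Matrix.cons_val_fin_one] at h00 h10
  exact ⟨h00, h10⟩

theorem exists_rep (δ : F) [Fact (Irreducible (quad δ))] (k : AdjoinRoot (quad δ)) :
    ∃ x y : F, k = AdjoinRoot.of (quad δ) x +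
      AdjoinRoot.of (quad δ) y * AdjoinRoot.root (quad δ) := by
  have hinj : Function.Injective (fun p : F × F => AdjoinRoot.of (quad δ) p.1 +
      AdjoinRoot.of (quad δ) p.2 * AdjoinRoot.root (quad δ)) := by
    intro p p' h
    have h1 := congrArg (phi δ) h
    simp only [phi_apply] at h1
    obtain ⟨h2, h3⟩ := mulMat_injective δ _ _ _ _ h1
    exact Prod.ext h2 h3
  have hbij := hinj.bijective_of_nat_card_le (by
    rw [card_K, Nat.card_prod, Nat.card_eq_fintype_card, sq])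
  obtain ⟨p, hp⟩ := hbij.2 k
  exact ⟨p.1, p.2, hp.symm⟩

theorem count_norm (δ : F) (hδ : ∀ z : F, z ^ 2 + z ≠ δ) :
    Nat.card {p : F × F // p.1 ^ 2 + p.1 * p.2 + δ * p.2 ^ 2 = 1} = Fintype.card F + 1 := by
  have : Fact (Irreducible (quad δ)) := ⟨quad_irreducible hδ⟩
  rw [← card_ker_nu δ]
  have hne : ∀ p : {p : F × F // p.1 ^ 2 + p.1 * p.2 + δ * p.2 ^ 2 = 1},
      AdjoinRoot.of (quad δ) p.1.1 + AdjoinRoot.of (quad δ) p.1.2 * AdjoinRoot.root (quad δ) ≠ 0 := by
    intro p h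
    have h1 := phi_apply δ p.1.1 p.1.2
    rw [h, map_zero] at h1
    have h3 := det_mulMat δ p.1.1 p.1.2
    rw [← h1, p.2] at h3
    simp at h3
  have hker : ∀ p : {p : F × F // p.1 ^ 2 + p.1 * p.2 + δ * p.2 ^ 2 = 1},
      Units.mk0 _ (hne p) ∈ (nu δ).ker := by
    intro p
    rw [MonoidHom.mem_ker]
    apply Units.ext
    rw [nu_apply, Units.val_mk0, phi_apply, det_mulMat, p.2]
    rfl
  apply Nat.card_eq_of_bijective
    (fun p : {p : F × F // p.1 ^ 2 + p.1 * p.2 + δ * p.2 ^ 2 = 1} =>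
      (⟨Units.mk0 _ (hne p), hker p⟩ : (nu δ).ker))
  constructor
  · intro p p' h
    have h1 : AdjoinRoot.of (quad δ) p.1.1 + AdjoinRoot.of (quad δ) p.1.2 * AdjoinRoot.root (quad δ) =
        AdjoinRoot.of (quad δ) p'.1.1 + AdjoinRoot.of (quad δ) p'.1.2 * AdjoinRoot.root (quad δ) :=
      congrArg (fun z : (nu δ).ker => ((z : (AdjoinRoot (quad δ))ˣ) : AdjoinRoot (quad δ))) h
    have h3 := congrArg (phi δ) h1
    simp only [phi_apply] at h3
    obtain ⟨h4, h5⟩ := mulMat_injective δ _ _ _ _ h3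
    exact Subtype.ext (Prod.ext h4 h5)
  · rintro ⟨u, hu⟩
    obtain ⟨x, y, hxy⟩ := exists_rep δ (u : AdjoinRoot (quad δ))
    have hN : x ^ 2 + x * y + δ * y ^ 2 = 1 := by
      rw [MonoidHom.mem_ker] at hu
      have h1 := congrArg Units.val hu
      rw [nu_apply, hxy, phi_apply, det_mulMat] at h1
      exact h1
    refine ⟨⟨(x, y), hN⟩, ?_⟩
    apply Subtype.ext
    apply Units.ext
    exact hxy.symm

theorem count_nonsplit (t : F) (ht : t ≠ 0) (hno : ∀ lam : F, lam ^ 2 + t * lam + 1 ≠ 0) :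
    Nat.card {p : F × F // p.1 ^ 2 + t * p.1 * p.2 + p.2 ^ 2 = 1} = Fintype.card F + 1 := by
  have h2 : (2 : F) = 0 := CharTwo.two_eq_zero
  have ht2 : t ^ 2 ≠ 0 := pow_ne_zero 2 ht
  have hδ : ∀ z : F, z ^ 2 + z ≠ (t ^ 2)⁻¹ := by
    intro z hz
    apply hno (t * z)
    have h3 : t ^ 2 * (z ^ 2 + z) = 1 := by rw [hz, mul_inv_cancel₀ ht2]
    linear_combination h3 + h2
  rw [← count_norm (t ^ 2)⁻¹ hδ]
  apply Nat.card_eq_of_bijective
    (fun p : {p : F × F // p.1 ^ 2 + t * p.1 * p.2 + p.2 ^ 2 = 1} =>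
      (⟨(p.1.1, t * p.1.2), by
        have h3 := p.2
        show p.1.1 ^ 2 + p.1.1 * (t * p.1.2) + (t ^ 2)⁻¹ * (t * p.1.2) ^ 2 = 1
        field_simp
        linear_combination h3⟩ :
        {p : F × F // p.1 ^ 2 + p.1 * p.2 + (t ^ 2)⁻¹ * p.2 ^ 2 = 1}))
  constructor
  · intro p p' h
    have h1 := congrArg (fun z : {p : F × F // p.1 ^ 2 + p.1 * p.2 + (t ^ 2)⁻¹ * p.2 ^ 2 = 1} =>
      z.1.1) h
    have h3 := congrArg (fun z : {p : F × F // p.1 ^ 2 + p.1 * p.2 + (t ^ 2)⁻¹ * p.2 ^ 2 = 1} =>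
      z.1.2) h
    simp only at h1 h3
    exact Subtype.ext (Prod.ext h1 (mul_left_cancel₀ ht h3))
  · rintro ⟨⟨x, y⟩, hxy⟩
    simp only at hxy
    refine ⟨⟨(x, y / t), ?_⟩, ?_⟩
    · show x ^ 2 + t * x * (y / t) + (y / t) ^ 2 = 1
      field_simp
      field_simp at hxy
      linear_combination hxy
    · apply Subtype.ext
      apply Prod.ext
      · rfl
      · show t * (y / t) = y
        field_simp

end nonsplit

section main

variable {F : Type*} [Field F] [Fintype F] [CharP F 2]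

theorem nonScalar_of_ne_one (g : Matrix.SpecialLinearGroup (Fin 2) F) (hg : g ≠ 1) :
    IsNonScalar (g : Matrix (Fin 2) (Fin 2) F) := by
  by_contra hns
  unfold IsNonScalar at hns
  push Not at hns
  obtain ⟨h01, h10, h00⟩ := hns
  apply hg
  have hdet := g.det_coe
  rw [Matrix.det_fin_two, h01, h10, ← h00] at hdet
  have h2 : (2 : F) = 0 := CharTwo.two_eq_zero
  have h3 : ((g : Matrix (Fin 2) (Fin 2) F) 0 0 + 1) ^ 2 = 0 := by
    linear_combination hdet + ((g : Matrix (Fin 2) (Fin 2) F) 0 0 + 1) * h2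
  have h4 : (g : Matrix (Fin 2) (Fin 2) F) 0 0 + 1 = 0 := by simpa using h3
  have h5 : (g : Matrix (Fin 2) (Fin 2) F) 0 0 = 1 := by linear_combination h4 - h2
  apply Subtype.ext
  rw [Matrix.SpecialLinearGroup.coe_one]
  ext i j
  fin_cases i <;> fin_cases j <;> simp [h01, h10, h5, ← h00]

theorem card_mul_index_eq (g : Matrix.SpecialLinearGroup (Fin 2) F) :
    Nat.card (Subgroup.centralizer ({g} : Set (Matrix.SpecialLinearGroup (Fin 2) F))) *
      (Subgroup.centralizer ({g} : Set (Matrix.SpecialLinearGroup (Fin 2) F))).index =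
      Fintype.card F * (Fintype.card F ^ 2 - 1) := by
  rw [Subgroup.card_mul_index, Cfsg.Agent.Lib.helper7.card_SL2 rfl]

theorem sq_sub_one (q : ℕ) (hq : 2 ≤ q) : q ^ 2 - 1 = (q - 1) * (q + 1) := by
  obtain ⟨k, rfl⟩ : ∃ k, q = k + 2 := ⟨q - 2, by omega⟩
  have h5 : k + 2 - 1 = k + 1 := by omega
  have h6 : (k + 2) ^ 2 = (k + 1) * (k + 2 + 1) + 1 := by ring
  rw [h5, h6]
  simp

theorem index_zero (g : Matrix.SpecialLinearGroup (Fin 2) F)
    (hg : IsNonScalar (g : Matrix (Fin 2) (Fin 2) F))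
    (ht : (g : Matrix (Fin 2) (Fin 2) F) 0 0 + (g : Matrix (Fin 2) (Fin 2) F) 1 1 = 0) :
    (Subgroup.centralizer ({g} : Set (Matrix.SpecialLinearGroup (Fin 2) F))).index =
      Fintype.card F ^ 2 - 1 := by
  have h1 := card_mul_index_eq g
  rw [card_centralizer g hg, ht, count_zero] at h1
  exact Nat.eq_of_mul_eq_mul_left Fintype.card_pos h1

theorem index_split (g : Matrix.SpecialLinearGroup (Fin 2) F)
    (hg : IsNonScalar (g : Matrix (Fin 2) (Fin 2) F)) (lam : F)
    (ht : (g : Matrix (Fin 2) (Fin 2) F) 0 0 + (g : Matrix (Fin 2) (Fin 2) F) 1 1 ≠ 0)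
    (hl : lam ^ 2 + ((g : Matrix (Fin 2) (Fin 2) F) 0 0 + (g : Matrix (Fin 2) (Fin 2) F) 1 1) * lam +
      1 = 0) :
    (Subgroup.centralizer ({g} : Set (Matrix.SpecialLinearGroup (Fin 2) F))).index =
      Fintype.card F * (Fintype.card F + 1) := by
  have h1 := card_mul_index_eq g
  have hq : 2 ≤ Fintype.card F := Fintype.one_lt_card
  rw [card_centralizer g hg, count_split _ lam ht hl, sq_sub_one _ hq] at h1
  have hpos : 0 < Fintype.card F - 1 := by omega
  apply Nat.eq_of_mul_eq_mul_left hpos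
  rw [h1]
  ring

theorem index_nonsplit (g : Matrix.SpecialLinearGroup (Fin 2) F)
    (hg : IsNonScalar (g : Matrix (Fin 2) (Fin 2) F))
    (ht : (g : Matrix (Fin 2) (Fin 2) F) 0 0 + (g : Matrix (Fin 2) (Fin 2) F) 1 1 ≠ 0)
    (hno : ∀ lam : F, lam ^ 2 +
      ((g : Matrix (Fin 2) (Fin 2) F) 0 0 + (g : Matrix (Fin 2) (Fin 2) F) 1 1) * lam + 1 ≠ 0) :
    (Subgroup.centralizer ({g} : Set (Matrix.SpecialLinearGroup (Fin 2) F))).index =
      Fintype.card F * (Fintype.card F - 1) := by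
  have h1 := card_mul_index_eq g
  have hq : 2 ≤ Fintype.card F := Fintype.one_lt_card
  rw [card_centralizer g hg, count_nonsplit _ ht hno, sq_sub_one _ hq] at h1
  have hpos : 0 < Fintype.card F + 1 := by omega
  apply Nat.eq_of_mul_eq_mul_left hpos
  rw [h1]
  ring

/-- an element of `SL₂` from a matrix -/
def mk2 (M : Matrix (Fin 2) (Fin 2) F) (h : M.det = 1) : Matrix.SpecialLinearGroup (Fin 2) F :=
  ⟨M, h⟩

theorem mk2_coe (M : Matrix (Fin 2) (Fin 2) F) (h : M.det = 1) :
    (mk2 M h : Matrix (Fin 2) (Fin 2) F) = M := rfl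

theorem exists_unipotent : ∃ g : Matrix.SpecialLinearGroup (Fin 2) F,
    (Subgroup.centralizer ({g} : Set (Matrix.SpecialLinearGroup (Fin 2) F))).index =
      Fintype.card F ^ 2 - 1 := by
  refine ⟨tMat 1, index_zero _ ?_ ?_⟩
  · left
    rw [tMat_coe]
    simp
  · rw [tMat_coe]
    simp [CharTwo.add_self_eq_zero]

theorem exists_split (h4 : 4 ≤ Fintype.card F) : ∃ g : Matrix.SpecialLinearGroup (Fin 2) F,
    (Subgroup.centralizer ({g} : Set (Matrix.SpecialLinearGroup (Fin 2) F))).index =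
      Fintype.card F * (Fintype.card F + 1) := by
  classical
  have h2 : (2 : F) = 0 := CharTwo.two_eq_zero
  have hu : 1 < Fintype.card Fˣ := by
    rw [Fintype.card_units]
    omega
  obtain ⟨u, hu1⟩ := Fintype.exists_ne_of_one_lt_card hu (1 : Fˣ)
  have hl0 : (u : F) ≠ 0 := u.ne_zero
  have hl1 : (u : F) ≠ 1 := fun h => hu1 (Units.ext h)
  have hsq : (u : F) ^ 2 ≠ 1 := by
    intro h
    have h3 : ((u : F) + 1) ^ 2 = 0 := by linear_combination h + ((u : F) + 1) * h2
    have h4 : (u : F) + 1 = 0 := by simpa using h3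
    exact hl1 (by linear_combination h4 - h2)
  have hdet : (!![(u : F), 0; 0, (u : F)⁻¹] : Matrix (Fin 2) (Fin 2) F).det = 1 := by
    rw [Matrix.det_fin_two_of]
    field_simp
    ring
  have hne : (u : F) ≠ (u : F)⁻¹ := by
    intro h
    apply hsq
    rw [sq]
    nth_rewrite 2 [h]
    exact mul_inv_cancel₀ hl0
  have htr : (u : F) + (u : F)⁻¹ ≠ 0 := by
    intro h
    apply hne
    linear_combination h - (u : F)⁻¹ * h2
  refine ⟨mk2 !![(u : F), 0; 0, (u : F)⁻¹] hdet, index_split _ ?_ (u : F) ?_ ?_⟩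
  · right; right
    rw [mk2_coe]
    simpa using hne
  · rw [mk2_coe]
    simpa using htr
  · rw [mk2_coe]
    simp only [Matrix.of_apply, Matrix.cons_val', Matrix.cons_val_zero, Matrix.cons_val_one,
      Matrix.empty_val', Matrix.cons_val_fin_one]
    field_simp
    linear_combination ((u : F) ^ 2 + 1) * h2

theorem exists_nonsplit : ∃ g : Matrix.SpecialLinearGroup (Fin 2) F,
    (Subgroup.centralizer ({g} : Set (Matrix.SpecialLinearGroup (Fin 2) F))).index =
      Fintype.card F * (Fintype.card F - 1) := by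
  have h2 : (2 : F) = 0 := CharTwo.two_eq_zero
  obtain ⟨δ, hδ⟩ := exists_delta (F := F)
  obtain ⟨s, hs⟩ := exists_sqrt δ
  have hδ0 : δ ≠ 0 := by
    intro h
    apply hδ 0
    rw [h]
    ring
  have hs0 : s ≠ 0 := by
    rintro rfl
    apply hδ0
    rw [← hs]
    ring
  have hdet : (!![(0 : F), 1; 1, s⁻¹] : Matrix (Fin 2) (Fin 2) F).det = 1 := by
    rw [Matrix.det_fin_two_of]
    linear_combination (-1 : F) * h2
  refine ⟨mk2 !![(0 : F), 1; 1, s⁻¹] hdet, index_nonsplit _ ?_ ?_ ?_⟩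
  · left
    rw [mk2_coe]
    simp
  · rw [mk2_coe]
    simpa using hs0
  · intro lam hl
    rw [mk2_coe] at hl
    simp only [Matrix.of_apply, Matrix.cons_val', Matrix.cons_val_zero, Matrix.cons_val_one,
      Matrix.empty_val', Matrix.cons_val_fin_one, zero_add] at hl
    apply hδ (lam * s)
    have h3 : s⁻¹ * s = 1 := inv_mul_cancel₀ hs0
    rw [← hs]
    linear_combination (s ^ 2) * hl + (-(lam * s)) * h3 - (s ^ 2) * h2

end main


/-- Let F be a finite field with q = 2^f ≥ 4 elements. The conjugacy class sizes of PSL(2,F) are exactly 1, q(q − 1), q² − 1 and q(q + 1). -/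
theorem result {F : Type*} [Field F] [Fintype F]
    (h2 : 2 ∣ Fintype.card F) (h4 : 4 ≤ Fintype.card F) :
    Set.range (fun g : (Matrix.ProjectiveSpecialLinearGroup (Fin 2) F) => (Subgroup.centralizer ({g} : Set (Matrix.ProjectiveSpecialLinearGroup (Fin 2) F))).index) =
      {1, Fintype.card F * (Fintype.card F - 1), Fintype.card F ^ 2 - 1, Fintype.card F * (Fintype.card F + 1)} := by
  classical
  have : CharP F 2 := charTwo_of_even h2
  set π := QuotientGroup.mk' (Subgroup.center (Matrix.SpecialLinearGroup (Fin 2) F)) with hπ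
  have hπinj : Function.Injective π := by
    rw [← MonoidHom.ker_eq_bot_iff, QuotientGroup.ker_mk', center_eq_bot]
  have hπsurj : Function.Surjective π := QuotientGroup.mk'_surjective _
  have hidx : ∀ g₀ : Matrix.SpecialLinearGroup (Fin 2) F,
      (Subgroup.centralizer ({π g₀} : Set (Matrix.ProjectiveSpecialLinearGroup (Fin 2) F))).index =
        (Subgroup.centralizer ({g₀} : Set (Matrix.SpecialLinearGroup (Fin 2) F))).index := by
    intro g₀
    rw [← Subgroup.index_comap_of_surjective (f := π) _ hπsurj]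
    congr 1
    ext h
    rw [Subgroup.mem_comap, Subgroup.mem_centralizer_singleton_iff,
      Subgroup.mem_centralizer_singleton_iff, ← map_mul, ← map_mul, hπinj.eq_iff]
  ext n
  simp only [Set.mem_range, Set.mem_insert_iff, Set.mem_singleton_iff]
  constructor
  · rintro ⟨g, rfl⟩
    obtain ⟨g₀, rfl⟩ := hπsurj g
    rw [hidx g₀]
    by_cases hg : g₀ = 1
    · left
      subst hg
      have : Subgroup.centralizer ({1} : Set (Matrix.SpecialLinearGroup (Fin 2) F)) = ⊤ := by
        rw [Subgroup.centralizer_eq_top_iff_subset]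
        intro x hx
        rw [Set.mem_singleton_iff] at hx
        rw [hx]
        exact Subgroup.one_mem _
      rw [this, Subgroup.index_top]
    · have hns := nonScalar_of_ne_one g₀ hg
      by_cases ht : (g₀ : Matrix (Fin 2) (Fin 2) F) 0 0 + (g₀ : Matrix (Fin 2) (Fin 2) F) 1 1 = 0
      · right; right; left
        exact index_zero g₀ hns ht
      · by_cases hl : ∃ lam : F, lam ^ 2 + ((g₀ : Matrix (Fin 2) (Fin 2) F) 0 0 +
            (g₀ : Matrix (Fin 2) (Fin 2) F) 1 1) * lam + 1 = 0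
        · obtain ⟨lam, hl⟩ := hl
          right; right; right
          exact index_split g₀ hns lam ht hl
        · push Not at hl
          right; left
          exact index_nonsplit g₀ hns ht hl
  · rintro (rfl | rfl | rfl | rfl)
    · refine ⟨1, ?_⟩
      have : Subgroup.centralizer ({1} : Set (Matrix.ProjectiveSpecialLinearGroup (Fin 2) F)) = ⊤ := by
        rw [Subgroup.centralizer_eq_top_iff_subset]
        intro x hx
        rw [Set.mem_singleton_iff] at hx
        rw [hx]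
        exact Subgroup.one_mem _
      rw [this, Subgroup.index_top]
    · obtain ⟨g₀, hg₀⟩ := exists_nonsplit (F := F)
      exact ⟨π g₀, by rw [hidx g₀, hg₀]⟩
    · obtain ⟨g₀, hg₀⟩ := exists_unipotent (F := F)
      exact ⟨π g₀, by rw [hidx g₀, hg₀]⟩
    · obtain ⟨g₀, hg₀⟩ := exists_split (F := F) h4
      exact ⟨π g₀, by rw [hidx g₀, hg₀]⟩

end Cfsg.Agent.S2507
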