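import Cfsg.Statements.S2508
import Mathlib
import Cfsg.Agent.Lib.helper47.SL2Cent
import Cfsg.Agent.Lib.helper47.NormTorus
import Cfsg.Agent.Lib.helper47.PSL2Cent
import Cfsg.Agent.Lib.helper7.CardSL
-- import your own Cfsg.Agent.* helpers here

set_option autoImplicit false
set_option linter.unusedSectionVars false
open Cfsg

namespace Cfsg.Agent.S2508

open Cfsg.Agent.Lib.helper47

section main

variable {F : Type*} [Field F] [Fintype F]

local notation "SL" => Matrix.SpecialLinearGroup (Fin 2) F
local notation "PSL" => Matrix.ProjectiveSpecialLinearGroup (Fin 2) F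
local notation "proj" => QuotientGroup.mk' (Subgroup.center (Matrix.SpecialLinearGroup (Fin 2) F))
local notation "M2" => Matrix (Fin 2) (Fin 2) F

theorem card_mul_index_eq (g : SL) :
    Nat.card (Subgroup.centralizer ({g} : Set SL)) * (Subgroup.centralizer ({g} : Set SL)).index =
      Fintype.card F * (Fintype.card F ^ 2 - 1) := by
  rw [Subgroup.card_mul_index, Cfsg.Agent.Lib.helper7.card_SL2 rfl]

theorem sq_sub_one (q : ℕ) (hq : 2 ≤ q) : q ^ 2 - 1 = (q - 1) * (q + 1) := by
  obtain ⟨k, rfl⟩ : ∃ k, q = k + 2 := ⟨q - 2, by omega⟩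
  have h5 : k + 2 - 1 = k + 1 := by omega
  have h6 : (k + 2) ^ 2 = (k + 1) * (k + 2 + 1) + 1 := by ring
  rw [h5, h6]
  simp

theorem index_sl_split (g : SL) (hg : IsNonScalar (g : M2)) (lam : F)
    (ht : ((g : M2) 0 0 + (g : M2) 1 1) ^ 2 ≠ 4)
    (hl : lam ^ 2 - ((g : M2) 0 0 + (g : M2) 1 1) * lam + 1 = 0) :
    (Subgroup.centralizer ({g} : Set SL)).index = Fintype.card F * (Fintype.card F + 1) := by
  have h1 := card_mul_index_eq g
  have hq : 2 ≤ Fintype.card F := Fintype.one_lt_card
  rw [card_centralizer g hg, count_split_gen _ lam ht hl, sq_sub_one _ hq] at h1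
  have hpos : 0 < Fintype.card F - 1 := by omega
  apply Nat.eq_of_mul_eq_mul_left hpos
  rw [h1]
  ring

theorem index_sl_nonsplit (hodd : Fintype.card F % 2 = 1) (g : SL) (hg : IsNonScalar (g : M2))
    (hno : ∀ lam : F, lam ^ 2 - ((g : M2) 0 0 + (g : M2) 1 1) * lam + 1 ≠ 0) :
    (Subgroup.centralizer ({g} : Set SL)).index = Fintype.card F * (Fintype.card F - 1) := by
  have h1 := card_mul_index_eq g
  have hq : 2 ≤ Fintype.card F := Fintype.one_lt_card
  rw [card_centralizer g hg, count_nonsplit_odd hodd _ hno, sq_sub_one _ hq] at h1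
  have hpos : 0 < Fintype.card F + 1 := by omega
  apply Nat.eq_of_mul_eq_mul_left hpos
  rw [h1]
  ring

theorem index_sl_degenerate (hodd : Fintype.card F % 2 = 1) (g : SL) (hg : IsNonScalar (g : M2))
    (ht : ((g : M2) 0 0 + (g : M2) 1 1) ^ 2 = 4) :
    2 * (Subgroup.centralizer ({g} : Set SL)).index = Fintype.card F ^ 2 - 1 := by
  have h1 := card_mul_index_eq g
  rw [card_centralizer g hg, count_degenerate (two_ne_zero_of_card_odd hodd) _ ht] at h1
  apply Nat.eq_of_mul_eq_mul_left (Fintype.card_pos (α := F))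
  rw [← h1]
  ring

theorem four_ne_zero' (hodd : Fintype.card F % 2 = 1) : (4 : F) ≠ 0 := by
  have h2 := two_ne_zero_of_card_odd (F := F) hodd
  have : (4 : F) = 2 * 2 := by norm_num
  rw [this]
  exact mul_ne_zero h2 h2

theorem psl_index_one (g : SL) (hg : ¬ IsNonScalar (g : M2)) :
    (Subgroup.centralizer ({proj g} : Set PSL)).index = 1 := by
  have hc : g ∈ Subgroup.center SL := by
    rw [Matrix.SpecialLinearGroup.mem_center_iff]
    unfold IsNonScalar at hg
    push Not at hg
    obtain ⟨h01, h10, h00⟩ := hg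
    refine ⟨(g : M2) 0 0, ?_, ?_⟩
    · have hdet := g.det_coe
      rw [Matrix.det_fin_two, h01, h10, ← h00] at hdet
      simp only [Fintype.card_fin]
      linear_combination hdet
    · ext i j
      fin_cases i <;> fin_cases j <;> simp [h01, h10, h00]
  have h1 : proj g = 1 := by
    rw [QuotientGroup.mk'_apply, QuotientGroup.eq_one_iff]
    exact hc
  rw [h1]
  have : Subgroup.centralizer ({1} : Set PSL) = ⊤ := by
    rw [Subgroup.centralizer_eq_top_iff_subset]
    intro x hx
    rw [Set.mem_singleton_iff] at hx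
    rw [hx]
    exact Subgroup.one_mem _
  rw [this, Subgroup.index_top]

theorem psl_index_degenerate (hodd : Fintype.card F % 2 = 1) (g : SL) (hg : IsNonScalar (g : M2))
    (ht : ((g : M2) 0 0 + (g : M2) 1 1) ^ 2 = 4) :
    (Subgroup.centralizer ({proj g} : Set PSL)).index = (Fintype.card F ^ 2 - 1) / 2 := by
  have h2 := two_ne_zero_of_card_odd (F := F) hodd
  have ht0 : (g : M2) 0 0 + (g : M2) 1 1 ≠ 0 := by
    intro h
    rw [h] at ht
    apply four_ne_zero' (F := F) hodd
    rw [← ht]
    ring
  rw [index_of_trace_ne_zero h2 g ht0]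
  have := index_sl_degenerate hodd g hg ht
  omega

theorem psl_index_split (hodd : Fintype.card F % 2 = 1) (g : SL) (hg : IsNonScalar (g : M2))
    (lam : F) (ht0 : (g : M2) 0 0 + (g : M2) 1 1 ≠ 0)
    (ht : ((g : M2) 0 0 + (g : M2) 1 1) ^ 2 ≠ 4)
    (hl : lam ^ 2 - ((g : M2) 0 0 + (g : M2) 1 1) * lam + 1 = 0) :
    (Subgroup.centralizer ({proj g} : Set PSL)).index = Fintype.card F * (Fintype.card F + 1) := by
  have h2 := two_ne_zero_of_card_odd (F := F) hodd
  rw [index_of_trace_ne_zero h2 g ht0]
  exact index_sl_split g hg lam ht hl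

theorem psl_index_nonsplit (hodd : Fintype.card F % 2 = 1) (g : SL) (hg : IsNonScalar (g : M2))
    (ht0 : (g : M2) 0 0 + (g : M2) 1 1 ≠ 0)
    (hno : ∀ lam : F, lam ^ 2 - ((g : M2) 0 0 + (g : M2) 1 1) * lam + 1 ≠ 0) :
    (Subgroup.centralizer ({proj g} : Set PSL)).index = Fintype.card F * (Fintype.card F - 1) := by
  have h2 := two_ne_zero_of_card_odd (F := F) hodd
  rw [index_of_trace_ne_zero h2 g ht0]
  exact index_sl_nonsplit hodd g hg hno

theorem nonScalar_of_trace_zero (hodd : Fintype.card F % 2 = 1) (g : SL)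
    (ht0 : (g : M2) 0 0 + (g : M2) 1 1 = 0) : IsNonScalar (g : M2) := by
  have h2 := two_ne_zero_of_card_odd (F := F) hodd
  by_contra hg
  unfold IsNonScalar at hg
  push Not at hg
  obtain ⟨h01, h10, h00⟩ := hg
  have hdet := g.det_coe
  rw [Matrix.det_fin_two, h01, h10, ← h00] at hdet
  rw [← h00] at ht0
  have h3 : (2 : F) * (g : M2) 0 0 = 0 := by linear_combination ht0
  rcases mul_eq_zero.mp h3 with h | h
  · exact h2 h
  · rw [h] at hdet
    simp at hdet

theorem psl_index_zero_split (hodd : Fintype.card F % 2 = 1) (g : SL)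
    (ht0 : (g : M2) 0 0 + (g : M2) 1 1 = 0) (lam : F) (hl : lam ^ 2 + 1 = 0) :
    (Subgroup.centralizer ({proj g} : Set PSL)).index =
      Fintype.card F * (Fintype.card F + 1) / 2 := by
  have h2 := two_ne_zero_of_card_odd (F := F) hodd
  have hg := nonScalar_of_trace_zero hodd g ht0
  obtain ⟨w, hw⟩ := exists_anticomm (Nat.odd_iff.mpr hodd) g ht0
  have h1 := two_mul_index_of_anticomm h2 g w hw
  have h3 : (Subgroup.centralizer ({g} : Set SL)).index =
      Fintype.card F * (Fintype.card F + 1) := by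
    apply index_sl_split g hg lam
    · rw [ht0]
      intro h
      apply four_ne_zero' (F := F) hodd
      rw [← h]
      ring
    · rw [ht0]
      linear_combination hl
  omega

theorem psl_index_zero_nonsplit (hodd : Fintype.card F % 2 = 1) (g : SL)
    (ht0 : (g : M2) 0 0 + (g : M2) 1 1 = 0) (hno : ∀ lam : F, lam ^ 2 + 1 ≠ 0) :
    (Subgroup.centralizer ({proj g} : Set PSL)).index =
      Fintype.card F * (Fintype.card F - 1) / 2 := by
  have h2 := two_ne_zero_of_card_odd (F := F) hodd
  have hg := nonScalar_of_trace_zero hodd g ht0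
  obtain ⟨w, hw⟩ := exists_anticomm (Nat.odd_iff.mpr hodd) g ht0
  have h1 := two_mul_index_of_anticomm h2 g w hw
  have h3 : (Subgroup.centralizer ({g} : Set SL)).index =
      Fintype.card F * (Fintype.card F - 1) := by
    apply index_sl_nonsplit hodd g hg
    intro lam hl
    rw [ht0] at hl
    apply hno lam
    linear_combination hl
  omega

theorem psl_cases (hodd : Fintype.card F % 2 = 1) (g : SL) :
    (Subgroup.centralizer ({proj g} : Set PSL)).index = 1 ∨
    (Subgroup.centralizer ({proj g} : Set PSL)).index = (Fintype.card F ^ 2 - 1) / 2 ∨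
    (Subgroup.centralizer ({proj g} : Set PSL)).index = Fintype.card F * (Fintype.card F + 1) ∨
    (Subgroup.centralizer ({proj g} : Set PSL)).index = Fintype.card F * (Fintype.card F - 1) ∨
    ((Subgroup.centralizer ({proj g} : Set PSL)).index =
      Fintype.card F * (Fintype.card F + 1) / 2 ∧ ∃ lam : F, lam ^ 2 + 1 = 0) ∨
    ((Subgroup.centralizer ({proj g} : Set PSL)).index =
      Fintype.card F * (Fintype.card F - 1) / 2 ∧ ∀ lam : F, lam ^ 2 + 1 ≠ 0) := by
  by_cases hg : IsNonScalar (g : M2)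
  · by_cases ht0 : (g : M2) 0 0 + (g : M2) 1 1 = 0
    · by_cases hl : ∃ lam : F, lam ^ 2 + 1 = 0
      · obtain ⟨lam, hl'⟩ := hl
        right; right; right; right; left
        exact ⟨psl_index_zero_split hodd g ht0 lam hl', ⟨lam, hl'⟩⟩
      · push Not at hl
        right; right; right; right; right
        exact ⟨psl_index_zero_nonsplit hodd g ht0 hl, hl⟩
    · by_cases ht : ((g : M2) 0 0 + (g : M2) 1 1) ^ 2 = 4
      · right; left
        exact psl_index_degenerate hodd g hg ht
      · by_cases hl : ∃ lam : F, lam ^ 2 - ((g : M2) 0 0 + (g : M2) 1 1) * lam + 1 = 0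
        · obtain ⟨lam, hl'⟩ := hl
          right; right; left
          exact psl_index_split hodd g hg lam ht0 ht hl'
        · push Not at hl
          right; right; right; left
          exact psl_index_nonsplit hodd g hg ht0 hl
  · left
    exact psl_index_one g hg

/-- an element of `SL₂` from a matrix -/
def mk2 (M : M2) (h : M.det = 1) : SL := ⟨M, h⟩

theorem mk2_coe (M : M2) (h : M.det = 1) : (mk2 M h : M2) = M := rfl

theorem ex_unip (hodd : Fintype.card F % 2 = 1) : ∃ g : SL,
    (Subgroup.centralizer ({proj g} : Set PSL)).index = (Fintype.card F ^ 2 - 1) / 2 := by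
  have hdet : (!![(1 : F), 1; 0, 1] : M2).det = 1 := by simp [Matrix.det_fin_two_of]
  refine ⟨mk2 !![(1 : F), 1; 0, 1] hdet, psl_index_degenerate hodd _ ?_ ?_⟩
  · left
    rw [mk2_coe]
    simp
  · rw [mk2_coe]
    simp only [Matrix.of_apply, Matrix.cons_val', Matrix.cons_val_zero, Matrix.cons_val_one,
      Matrix.empty_val', Matrix.cons_val_fin_one]
    norm_num

theorem ex_split (hodd : Fintype.card F % 2 = 1) (h7 : 7 ≤ Fintype.card F) : ∃ g : SL,
    (Subgroup.centralizer ({proj g} : Set PSL)).index =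
      Fintype.card F * (Fintype.card F + 1) := by
  classical
  obtain ⟨u, hu⟩ := IsCyclic.exists_ofOrder_eq_natCard (α := Fˣ)
  rw [Nat.card_units, Nat.card_eq_fintype_card] at hu
  have hu4 : (u : F) ^ 4 ≠ 1 := by
    intro h
    have h1 : u ^ 4 = 1 := Units.ext (by simpa using h)
    have h3 := orderOf_dvd_of_pow_eq_one h1
    rw [hu] at h3
    have := Nat.le_of_dvd (by norm_num) h3
    omega
  have hu0 : (u : F) ≠ 0 := u.ne_zero
  have hinv : (u : F) * (u : F)⁻¹ = 1 := mul_inv_cancel₀ hu0
  have hdet : (!![(u : F), 0; 0, (u : F)⁻¹] : M2).det = 1 := by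
    rw [Matrix.det_fin_two_of]
    linear_combination hinv
  have hne : (u : F) ≠ (u : F)⁻¹ := by
    intro h
    apply hu4
    have h1 : (u : F) ^ 2 = 1 := by
      rw [sq]
      nth_rewrite 2 [h]
      exact hinv
    linear_combination ((u : F) ^ 2 + 1) * h1
  refine ⟨mk2 !![(u : F), 0; 0, (u : F)⁻¹] hdet, psl_index_split hodd _ ?_ (u : F) ?_ ?_ ?_⟩
  · right; right
    rw [mk2_coe]
    simpa using hne
  · rw [mk2_coe]
    simp only [Matrix.of_apply, Matrix.cons_val', Matrix.cons_val_zero, Matrix.cons_val_one,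
      Matrix.empty_val', Matrix.cons_val_fin_one]
    intro h
    apply hu4
    have h1 : (u : F) ^ 2 + 1 = 0 := by linear_combination (u : F) * h - hinv
    linear_combination ((u : F) ^ 2 - 1) * h1
  · rw [mk2_coe]
    simp only [Matrix.of_apply, Matrix.cons_val', Matrix.cons_val_zero, Matrix.cons_val_one,
      Matrix.empty_val', Matrix.cons_val_fin_one]
    intro h
    apply hne
    have h1 : ((u : F) - (u : F)⁻¹) ^ 2 = 0 := by linear_combination h - 4 * hinv
    have h3 : (u : F) - (u : F)⁻¹ = 0 := by simpa using h1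
    linear_combination h3
  · rw [mk2_coe]
    simp only [Matrix.of_apply, Matrix.cons_val', Matrix.cons_val_zero, Matrix.cons_val_one,
      Matrix.empty_val', Matrix.cons_val_fin_one]
    linear_combination (-1 : F) * hinv

theorem ex_nonsplit (hodd : Fintype.card F % 2 = 1) (h7 : 7 ≤ Fintype.card F) : ∃ g : SL,
    (Subgroup.centralizer ({proj g} : Set PSL)).index =
      Fintype.card F * (Fintype.card F - 1) := by
  obtain ⟨t, ht0, hno⟩ := exists_nonsplit_trace (F := F) (by omega)
  have hdet : (!![(0 : F), -1; 1, t] : M2).det = 1 := by simp [Matrix.det_fin_two_of]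
  refine ⟨mk2 !![(0 : F), -1; 1, t] hdet, psl_index_nonsplit hodd _ ?_ ?_ ?_⟩
  · left
    rw [mk2_coe]
    simp
  · rw [mk2_coe]
    simpa using ht0
  · rw [mk2_coe]
    simpa using hno

theorem ex_zero_split (hodd : Fintype.card F % 2 = 1) (lam : F) (hl : lam ^ 2 + 1 = 0) :
    ∃ g : SL, (Subgroup.centralizer ({proj g} : Set PSL)).index =
      Fintype.card F * (Fintype.card F + 1) / 2 := by
  have hdet : (!![(0 : F), -1; 1, 0] : M2).det = 1 := by simp [Matrix.det_fin_two_of]
  refine ⟨mk2 !![(0 : F), -1; 1, 0] hdet, psl_index_zero_split hodd _ ?_ lam hl⟩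
  rw [mk2_coe]
  simp

theorem ex_zero_nonsplit (hodd : Fintype.card F % 2 = 1) (hno : ∀ lam : F, lam ^ 2 + 1 ≠ 0) :
    ∃ g : SL, (Subgroup.centralizer ({proj g} : Set PSL)).index =
      Fintype.card F * (Fintype.card F - 1) / 2 := by
  have hdet : (!![(0 : F), -1; 1, 0] : M2).det = 1 := by simp [Matrix.det_fin_two_of]
  refine ⟨mk2 !![(0 : F), -1; 1, 0] hdet, psl_index_zero_nonsplit hodd _ ?_ hno⟩
  rw [mk2_coe]
  simp

end main


/-- Let F be a finite field with q elements, q odd and q ≥ 7. If q ≡ 1 (mod 4) the conjugacy class sizes of PSL(2,F) are exactly 1, (q² − 1)/2, q(q + 1)/2, q(q − 1) and q(q + 1); if q ≡ 3 (mod 4) they are exactly 1, (q² − 1)/2, q(q − 1)/2, q(q + 1) and q(q − 1). -/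
theorem result {F : Type*} [Field F] [Fintype F]
    (hodd : ¬ 2 ∣ Fintype.card F) (h7 : 7 ≤ Fintype.card F) :
    (Fintype.card F % 4 = 1 →
      Set.range (fun g : (Matrix.ProjectiveSpecialLinearGroup (Fin 2) F) => (Subgroup.centralizer ({g} : Set (Matrix.ProjectiveSpecialLinearGroup (Fin 2) F))).index) =
        {1, (Fintype.card F ^ 2 - 1) / 2, Fintype.card F * (Fintype.card F + 1) / 2,
          Fintype.card F * (Fintype.card F - 1), Fintype.card F * (Fintype.card F + 1)}) ∧
    (Fintype.card F % 4 = 3 →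
      Set.range (fun g : (Matrix.ProjectiveSpecialLinearGroup (Fin 2) F) => (Subgroup.centralizer ({g} : Set (Matrix.ProjectiveSpecialLinearGroup (Fin 2) F))).index) =
        {1, (Fintype.card F ^ 2 - 1) / 2, Fintype.card F * (Fintype.card F - 1) / 2,
          Fintype.card F * (Fintype.card F + 1), Fintype.card F * (Fintype.card F - 1)}) := by
  classical
  have hodd' : Fintype.card F % 2 = 1 := by omega
  have hsurj : Function.Surjective
      (QuotientGroup.mk' (Subgroup.center (Matrix.SpecialLinearGroup (Fin 2) F))) :=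
    QuotientGroup.mk'_surjective _
  have hone : ∃ g : Matrix.ProjectiveSpecialLinearGroup (Fin 2) F,
      (Subgroup.centralizer ({g} : Set (Matrix.ProjectiveSpecialLinearGroup (Fin 2) F))).index = 1 := by
    refine ⟨1, ?_⟩
    have : Subgroup.centralizer ({1} : Set (Matrix.ProjectiveSpecialLinearGroup (Fin 2) F)) = ⊤ := by
      rw [Subgroup.centralizer_eq_top_iff_subset]
      intro x hx
      rw [Set.mem_singleton_iff] at hx
      rw [hx]
      exact Subgroup.one_mem _
    rw [this, Subgroup.index_top]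
  constructor
  · intro h4
    have hsq : IsSquare (-1 : F) := by
      rw [FiniteField.isSquare_neg_one_iff]
      omega
    obtain ⟨r, hr⟩ := hsq
    have hl : r ^ 2 + 1 = 0 := by linear_combination -hr
    ext n
    simp only [Set.mem_range, Set.mem_insert_iff, Set.mem_singleton_iff]
    constructor
    · rintro ⟨g, rfl⟩
      obtain ⟨g₀, rfl⟩ := hsurj g
      rcases psl_cases hodd' g₀ with h | h | h | h | ⟨h, -⟩ | ⟨-, h⟩
      · left; exact h
      · right; left; exact h
      · right; right; right; right; exact h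
      · right; right; right; left; exact h
      · right; right; left; exact h
      · exact absurd hl (h r)
    · rintro (rfl | rfl | rfl | rfl | rfl)
      · exact hone
      · obtain ⟨g₀, hg₀⟩ := ex_unip (F := F) hodd'
        exact ⟨_, hg₀⟩
      · obtain ⟨g₀, hg₀⟩ := ex_zero_split (F := F) hodd' r hl
        exact ⟨_, hg₀⟩
      · obtain ⟨g₀, hg₀⟩ := ex_nonsplit (F := F) hodd' h7
        exact ⟨_, hg₀⟩
      · obtain ⟨g₀, hg₀⟩ := ex_split (F := F) hodd' h7
        exact ⟨_, hg₀⟩
  · intro h4
    have hsq : ¬ IsSquare (-1 : F) := by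
      rw [FiniteField.isSquare_neg_one_iff]
      omega
    have hno : ∀ lam : F, lam ^ 2 + 1 ≠ 0 := by
      intro lam hl
      apply hsq
      exact ⟨lam, by linear_combination -hl⟩
    ext n
    simp only [Set.mem_range, Set.mem_insert_iff, Set.mem_singleton_iff]
    constructor
    · rintro ⟨g, rfl⟩
      obtain ⟨g₀, rfl⟩ := hsurj g
      rcases psl_cases hodd' g₀ with h | h | h | h | ⟨-, ⟨lam, hl⟩⟩ | ⟨h, -⟩
      · left; exact h
      · right; left; exact h
      · right; right; right; left; exact h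
      · right; right; right; right; exact h
      · exact absurd hl (hno lam)
      · right; right; left; exact h
    · rintro (rfl | rfl | rfl | rfl | rfl)
      · exact hone
      · obtain ⟨g₀, hg₀⟩ := ex_unip (F := F) hodd'
        exact ⟨_, hg₀⟩
      · obtain ⟨g₀, hg₀⟩ := ex_zero_nonsplit (F := F) hodd' hno
        exact ⟨_, hg₀⟩
      · obtain ⟨g₀, hg₀⟩ := ex_split (F := F) hodd' h7
        exact ⟨_, hg₀⟩
      · obtain ⟨g₀, hg₀⟩ := ex_nonsplit (F := F) hodd' h7
        exact ⟨_, hg₀⟩

end Cfsg.Agent.S2508
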