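import Cfsg.Statements.S2510
import Cfsg.Agent.Lib.helper64.PSLSpec
import Cfsg.Agent.Lib.helper64.SpecProd

set_option autoImplicit false
open Cfsg

namespace Cfsg.Agent.S2510

/-- Let F be a finite field with q = p^a elements, n ≥ 2 (with q ≥ 4 when n = 2), L = PSL(n, F), and let r be a prime dividing q − 1 and not dividing n. Then for every m the direct product L × L × L × (ℤ/r)^m has the same set of element orders as L × L × L; and if n − 1 ≠ p^j for every j ≥ 0 (so never when n = 2, since 1 = p^0), then already L × L × (ℤ/r)^m has the same set of element orders as L × L. -/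
theorem result {F : Type*} [Field F] [Fintype F] (p a n r m : ℕ) (hp : p.Prime) (ha : 1 ≤ a) (hF : Fintype.card F = p ^ a)
    (hn : 2 ≤ n) (hn2 : n = 2 → 4 ≤ Fintype.card F) (hr : r.Prime) (hrq : r ∣ Fintype.card F - 1) (hrn : ¬ r ∣ n) :
    Set.range (orderOf : Matrix.ProjectiveSpecialLinearGroup (Fin n) F × Matrix.ProjectiveSpecialLinearGroup (Fin n) F × Matrix.ProjectiveSpecialLinearGroup (Fin n) F × Multiplicative (Fin m → ZMod r) → ℕ) =
      Set.range (orderOf : Matrix.ProjectiveSpecialLinearGroup (Fin n) F × Matrix.ProjectiveSpecialLinearGroup (Fin n) F × Matrix.ProjectiveSpecialLinearGroup (Fin n) F → ℕ) ∧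
    ((¬ ∃ j : ℕ, n - 1 = p ^ j) →
      Set.range (orderOf : Matrix.ProjectiveSpecialLinearGroup (Fin n) F × Matrix.ProjectiveSpecialLinearGroup (Fin n) F × Multiplicative (Fin m → ZMod r) → ℕ) =
        Set.range (orderOf : Matrix.ProjectiveSpecialLinearGroup (Fin n) F × Matrix.ProjectiveSpecialLinearGroup (Fin n) F → ℕ)) := by
  classical
  have hn0 : 0 < n := by omega
  have hpairAux : ∀ x y : Matrix.ProjectiveSpecialLinearGroup (Fin n) F,
      ¬ r ∣ orderOf x → ¬ r ∣ orderOf y → p ∣ orderOf x → p ∣ orderOf y →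
      p ^ (orderOf x).factorization p ∣ p ^ (orderOf y).factorization p →
      Cfsg.Agent.Lib.helper64.SpecProd.PairOK r x y := by
    intro x y hx hy hpx hpy hle
    obtain ⟨x', hx'⟩ := Cfsg.Agent.Lib.helper64.PSLSpec.attach_pprime_part hp ha hF hr hrq hrn
      hn0 x hx hpx
    refine ⟨x', y, ?_⟩
    apply Cfsg.Agent.Lib.helper64.SpecProd.key_dvd hp hr (orderOf_pos x) (orderOf_pos y) hx hy
    · exact dvd_trans hle (dvd_trans (Nat.ordProj_dvd _ _) (Nat.dvd_lcm_right _ _))
    · exact dvd_trans (dvd_mul_right _ r) (dvd_trans hx' (Nat.dvd_lcm_left _ _))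
    · exact dvd_trans (Nat.ordProj_dvd _ _) (Nat.dvd_lcm_right _ _)
    · exact dvd_trans (Nat.div_dvd_of_dvd (Nat.ordProj_dvd _ _)) (Nat.dvd_lcm_right _ _)
    · exact dvd_trans (dvd_mul_left r _) (dvd_trans hx' (Nat.dvd_lcm_left _ _))
  have hpairA : ∀ x y : Matrix.ProjectiveSpecialLinearGroup (Fin n) F,
      ¬ r ∣ orderOf x → ¬ r ∣ orderOf y → p ∣ orderOf x → p ∣ orderOf y →
      Cfsg.Agent.Lib.helper64.SpecProd.PairOK r x y := by
    intro x y hx hy hpx hpy
    rcases le_total ((orderOf x).factorization p) ((orderOf y).factorization p) with h | h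
    · exact hpairAux x y hx hy hpx hpy (pow_dvd_pow p h)
    · exact (hpairAux y x hy hx hpy hpx (pow_dvd_pow p h)).symm
  -- the generic dichotomy for a pair, given a fallback pair covering the Singer number,
  -- the `p`-parts and `r`
  have hpairGen : ∀ x y : Matrix.ProjectiveSpecialLinearGroup (Fin n) F,
      ¬ r ∣ orderOf x → ¬ r ∣ orderOf y →
      (∃ T : ℕ, (∃ s t : Matrix.ProjectiveSpecialLinearGroup (Fin n) F,
          T = Nat.lcm (orderOf s) (orderOf t)) ∧
        Cfsg.Agent.Lib.helper64.IsoPow.N1 (Fintype.card F) n ∣ T ∧ r ∣ T ∧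
        p ^ (orderOf x).factorization p ∣ T ∧ p ^ (orderOf y).factorization p ∣ T) →
      Cfsg.Agent.Lib.helper64.SpecProd.PairOK r x y := by
    intro x y hx hy hT
    have attachL : ∀ u v : Matrix.ProjectiveSpecialLinearGroup (Fin n) F,
        ¬ r ∣ orderOf u → ¬ r ∣ orderOf v →
        (∃ u' : Matrix.ProjectiveSpecialLinearGroup (Fin n) F, orderOf u * r ∣ orderOf u') →
        Cfsg.Agent.Lib.helper64.SpecProd.PairOK r u v := by
      rintro u v hu hv ⟨u', hu'⟩
      refine ⟨u', v, ?_⟩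
      have e1 : orderOf u ∣ Nat.lcm (orderOf u') (orderOf v) :=
        dvd_trans (dvd_mul_right _ r) (dvd_trans hu' (Nat.dvd_lcm_left _ _))
      apply Cfsg.Agent.Lib.helper64.SpecProd.key_dvd hp hr (orderOf_pos u) (orderOf_pos v) hu hv
      · exact dvd_trans (Nat.ordProj_dvd _ _) e1
      · exact dvd_trans (Nat.div_dvd_of_dvd (Nat.ordProj_dvd _ _)) e1
      · exact dvd_trans (Nat.ordProj_dvd _ _) (Nat.dvd_lcm_right _ _)
      · exact dvd_trans (Nat.div_dvd_of_dvd (Nat.ordProj_dvd _ _)) (Nat.dvd_lcm_right _ _)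
      · exact dvd_trans (dvd_mul_left r _) (dvd_trans hu' (Nat.dvd_lcm_left _ _))
    rcases Cfsg.Agent.Lib.helper64.PSLSpec.attach_or_dvd hp ha hF hr hrq hrn hn0 x hx with
      h1 | h1
    · exact attachL x y hx hy h1
    rcases Cfsg.Agent.Lib.helper64.PSLSpec.attach_or_dvd hp ha hF hr hrq hrn hn0 y hy with
      h2 | h2
    · exact (attachL y x hy hx h2).symm
    obtain ⟨T, ⟨s, t, rfl⟩, hT1, hT2, hT3, hT4⟩ := hT
    refine ⟨s, t, ?_⟩
    exact Cfsg.Agent.Lib.helper64.SpecProd.key_dvd hp hr (orderOf_pos x) (orderOf_pos y) hx hy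
      hT3 (dvd_trans h1 hT1) hT4 (dvd_trans h2 hT1) hT2
  obtain ⟨σ, hσ⟩ := Cfsg.Agent.Lib.helper64.PSLSpec.exists_singer_psl (n := n) hp ha hF hn0
  obtain ⟨zr, hzr⟩ := Cfsg.Agent.Lib.helper64.PSLSpec.exists_order_r (F := F) hr hrq hrn hn
  have hpairB : ∀ x y : Matrix.ProjectiveSpecialLinearGroup (Fin n) F,
      ¬ r ∣ orderOf x → ¬ r ∣ orderOf y → ¬ p ∣ orderOf x → ¬ p ∣ orderOf y →
      Cfsg.Agent.Lib.helper64.SpecProd.PairOK r x y := by
    intro x y hx hy hpx hpy
    apply hpairGen x y hx hy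
    refine ⟨Nat.lcm (orderOf σ) (orderOf zr), ⟨σ, zr, rfl⟩, ?_, ?_, ?_, ?_⟩
    · exact dvd_trans hσ (Nat.dvd_lcm_left _ _)
    · rw [hzr]
      exact Nat.dvd_lcm_right _ _
    · rw [Nat.factorization_eq_zero_of_not_dvd hpx, pow_zero]
      exact one_dvd _
    · rw [Nat.factorization_eq_zero_of_not_dvd hpy, pow_zero]
      exact one_dvd _
  constructor
  · apply Cfsg.Agent.Lib.helper64.SpecProd.range_three r m hr
    intro x y z hx hy hz
    by_cases hpx : p ∣ orderOf x
    · by_cases hpy : p ∣ orderOf y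
      · exact Or.inl (hpairA x y hx hy hpx hpy)
      · by_cases hpz : p ∣ orderOf z
        · exact Or.inr (Or.inl (hpairA x z hx hz hpx hpz))
        · exact Or.inr (Or.inr (hpairB y z hy hz hpy hpz))
    · by_cases hpy : p ∣ orderOf y
      · by_cases hpz : p ∣ orderOf z
        · exact Or.inr (Or.inr (hpairA y z hy hz hpy hpz))
        · exact Or.inr (Or.inl (hpairB x z hx hz hpx hpz))
      · exact Or.inl (hpairB x y hx hy hpx hpy)
  · intro hnp
    obtain ⟨w, hw⟩ := Cfsg.Agent.Lib.helper64.PSLSpec.exists_big (F := F) hp ha hF hr hrq hrn hn hnp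
    apply Cfsg.Agent.Lib.helper64.SpecProd.range_two r m hr
    intro x y hx hy
    apply hpairGen x y hx hy
    refine ⟨Nat.lcm (orderOf σ) (orderOf w), ⟨σ, w, rfl⟩, ?_, ?_, ?_, ?_⟩
    · exact dvd_trans hσ (Nat.dvd_lcm_left _ _)
    · exact dvd_trans (dvd_mul_left r _) (dvd_trans (hw x) (Nat.dvd_lcm_right _ _))
    · exact dvd_trans (dvd_mul_right _ r) (dvd_trans (hw x) (Nat.dvd_lcm_right _ _))
    · exact dvd_trans (dvd_mul_right _ r) (dvd_trans (hw y) (Nat.dvd_lcm_right _ _))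

end Cfsg.Agent.S2510
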