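import Cfsg.Statements.S2511
import Cfsg.Agent.Lib.helper64.USpec
import Cfsg.Agent.Lib.helper64.SpecProd

set_option autoImplicit false
open Cfsg

namespace Cfsg.Agent.S2511

/-- Let F be a finite field with q² elements, q = p^a, n ≥ 3 with (n, q) ≠ (3, 2), L = PSU(n, q) realised over F, and let r be a prime dividing q + 1 and not dividing n. Then for every m the direct product L × L × L × (ℤ/r)^m has the same set of element orders as L × L × L; and if n − 1 is not a power of p, then already L × L × (ℤ/r)^m has the same set of element orders as L × L. -/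
theorem result {F : Type*} [Field F] [Fintype F] (p a n q r m : ℕ) (hp : p.Prime) (ha : 1 ≤ a) (hq : q = p ^ a) (hF : Fintype.card F = q ^ 2)
    (hn : 3 ≤ n) (hn3 : ¬ (n = 3 ∧ q = 2)) (hr : r.Prime) (hrq : r ∣ q + 1) (hrn : ¬ r ∣ n) :
    Set.range (orderOf : Cfsg.PSU n F q × Cfsg.PSU n F q × Cfsg.PSU n F q × Multiplicative (Fin m → ZMod r) → ℕ) = Set.range (orderOf : Cfsg.PSU n F q × Cfsg.PSU n F q × Cfsg.PSU n F q → ℕ) ∧
    ((¬ ∃ j : ℕ, n - 1 = p ^ j) →
      Set.range (orderOf : Cfsg.PSU n F q × Cfsg.PSU n F q × Multiplicative (Fin m → ZMod r) → ℕ) = Set.range (orderOf : Cfsg.PSU n F q × Cfsg.PSU n F q → ℕ)) := by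
  classical
  have hn0 : 0 < n := by omega
  have hn2 : 2 ≤ n := by omega
  have tri := fun (x : Cfsg.PSU n F q) (hx : ¬ r ∣ orderOf x) =>
    Cfsg.Agent.Lib.helper64.USpec.trichotomy hp ha hq hF hr hrq hrn hn0 x hx
  have attachL : ∀ u v : Cfsg.PSU n F q, ¬ r ∣ orderOf u → ¬ r ∣ orderOf v →
      (∃ u' : Cfsg.PSU n F q, orderOf u * r ∣ orderOf u') →
      Cfsg.Agent.Lib.helper64.SpecProd.PairOK r u v := by
    rintro u v hu hv ⟨u', hu'⟩
    refine ⟨u', v, ?_⟩
    have e1 : orderOf u ∣ Nat.lcm (orderOf u') (orderOf v) :=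
      dvd_trans (dvd_mul_right _ r) (dvd_trans hu' (Nat.dvd_lcm_left _ _))
    apply Cfsg.Agent.Lib.helper64.SpecProd.key_dvd hp hr (orderOf_pos u) (orderOf_pos v) hu hv
    · exact dvd_trans (Nat.ordProj_dvd _ _) e1
    · exact dvd_trans (Nat.div_dvd_of_dvd (Nat.ordProj_dvd _ _)) e1
    · exact dvd_trans (Nat.ordProj_dvd _ _) (Nat.dvd_lcm_right _ _)
    · exact dvd_trans (Nat.div_dvd_of_dvd (Nat.ordProj_dvd _ _)) (Nat.dvd_lcm_right _ _)
    · exact dvd_trans (dvd_mul_left r _) (dvd_trans hu' (Nat.dvd_lcm_left _ _))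
  -- the generic argument for a pair, given (when one of the two orders is prime to `p`) an
  -- element whose order is divisible by `r` and by both `p`-parts
  have hpairGen : ∀ x y : Cfsg.PSU n F q, ¬ r ∣ orderOf x → ¬ r ∣ orderOf y →
      ((¬ p ∣ orderOf x ∨ ¬ p ∣ orderOf y) → ∃ w : Cfsg.PSU n F q,
        p ^ (orderOf x).factorization p * r ∣ orderOf w ∧
          p ^ (orderOf y).factorization p * r ∣ orderOf w) →
      Cfsg.Agent.Lib.helper64.SpecProd.PairOK r x y := by
    intro x y hx hy hw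
    rcases tri x hx with h1 | ⟨hMx, hx2⟩
    · exact attachL x y hx hy h1
    rcases tri y hy with h2 | ⟨hMy, hy2⟩
    · exact (attachL y x hy hx h2).symm
    have torus : ∀ τ : Cfsg.PSU n F q,
        Cfsg.Agent.Lib.helper64.UArith.Np q n ∣ orderOf τ →
        (¬ p ∣ orderOf x ∨ ¬ p ∣ orderOf y) →
        Cfsg.Agent.Lib.helper64.SpecProd.PairOK r x y := by
      intro τ hτ hpxy
      obtain ⟨w, hwx, hwy⟩ := hw hpxy
      refine ⟨τ, w, ?_⟩
      apply Cfsg.Agent.Lib.helper64.SpecProd.key_dvd hp hr (orderOf_pos x) (orderOf_pos y) hx hy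
      · exact dvd_trans (dvd_mul_right _ r) (dvd_trans hwx (Nat.dvd_lcm_right _ _))
      · exact dvd_trans hMx (dvd_trans hτ (Nat.dvd_lcm_left _ _))
      · exact dvd_trans (dvd_mul_right _ r) (dvd_trans hwy (Nat.dvd_lcm_right _ _))
      · exact dvd_trans hMy (dvd_trans hτ (Nat.dvd_lcm_left _ _))
      · exact dvd_trans (dvd_mul_left r _) (dvd_trans hwx (Nat.dvd_lcm_right _ _))
    rcases hx2 with ⟨x'', hx''⟩ | ⟨hpx, τ, hτ⟩
    · rcases hy2 with ⟨y'', hy''⟩ | ⟨hpy, τ, hτ⟩
      · rcases le_total ((orderOf x).factorization p) ((orderOf y).factorization p) with h | h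
        · refine ⟨x'', y, ?_⟩
          apply Cfsg.Agent.Lib.helper64.SpecProd.key_dvd hp hr (orderOf_pos x) (orderOf_pos y)
            hx hy
          · exact dvd_trans (pow_dvd_pow p h)
              (dvd_trans (Nat.ordProj_dvd _ _) (Nat.dvd_lcm_right _ _))
          · exact dvd_trans (dvd_mul_right _ r) (dvd_trans hx'' (Nat.dvd_lcm_left _ _))
          · exact dvd_trans (Nat.ordProj_dvd _ _) (Nat.dvd_lcm_right _ _)
          · exact dvd_trans (Nat.div_dvd_of_dvd (Nat.ordProj_dvd _ _)) (Nat.dvd_lcm_right _ _)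
          · exact dvd_trans (dvd_mul_left r _) (dvd_trans hx'' (Nat.dvd_lcm_left _ _))
        · refine ⟨x, y'', ?_⟩
          apply Cfsg.Agent.Lib.helper64.SpecProd.key_dvd hp hr (orderOf_pos x) (orderOf_pos y)
            hx hy
          · exact dvd_trans (Nat.ordProj_dvd _ _) (Nat.dvd_lcm_left _ _)
          · exact dvd_trans (Nat.div_dvd_of_dvd (Nat.ordProj_dvd _ _)) (Nat.dvd_lcm_left _ _)
          · exact dvd_trans (pow_dvd_pow p h)
              (dvd_trans (Nat.ordProj_dvd _ _) (Nat.dvd_lcm_left _ _))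
          · exact dvd_trans (dvd_mul_right _ r) (dvd_trans hy'' (Nat.dvd_lcm_right _ _))
          · exact dvd_trans (dvd_mul_left r _) (dvd_trans hy'' (Nat.dvd_lcm_right _ _))
      · exact torus τ hτ (Or.inr hpy)
    · exact torus τ hτ (Or.inl hpx)
  obtain ⟨zr, hzr⟩ := Cfsg.Agent.Lib.helper64.UAttach.exists_order_r_u (F := F) hF hr hrq hrn hn2
  constructor
  · apply Cfsg.Agent.Lib.helper64.SpecProd.range_three r m hr
    intro x y z hx hy hz
    have same : ∀ u v : Cfsg.PSU n F q, ¬ r ∣ orderOf u → ¬ r ∣ orderOf v →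
        (p ∣ orderOf u ↔ p ∣ orderOf v) → Cfsg.Agent.Lib.helper64.SpecProd.PairOK r u v := by
      intro u v hu hv huv
      apply hpairGen u v hu hv
      intro hpuv
      have hpu : ¬ p ∣ orderOf u := by
        rcases hpuv with h | h
        · exact h
        · exact fun h' => h (huv.1 h')
      have hpv : ¬ p ∣ orderOf v := fun h' => hpu (huv.2 h')
      refine ⟨zr, ?_, ?_⟩
      · rw [Nat.factorization_eq_zero_of_not_dvd hpu, pow_zero, one_mul, hzr]
      · rw [Nat.factorization_eq_zero_of_not_dvd hpv, pow_zero, one_mul, hzr]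
    by_cases hpx : p ∣ orderOf x
    · by_cases hpy : p ∣ orderOf y
      · exact Or.inl (same x y hx hy ⟨fun _ => hpy, fun _ => hpx⟩)
      · by_cases hpz : p ∣ orderOf z
        · exact Or.inr (Or.inl (same x z hx hz ⟨fun _ => hpz, fun _ => hpx⟩))
        · exact Or.inr (Or.inr (same y z hy hz
            ⟨fun h => absurd h hpy, fun h => absurd h hpz⟩))
    · by_cases hpy : p ∣ orderOf y
      · by_cases hpz : p ∣ orderOf z
        · exact Or.inr (Or.inr (same y z hy hz ⟨fun _ => hpz, fun _ => hpy⟩))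
        · exact Or.inr (Or.inl (same x z hx hz
            ⟨fun h => absurd h hpx, fun h => absurd h hpz⟩))
      · exact Or.inl (same x y hx hy ⟨fun h => absurd h hpx, fun h => absurd h hpy⟩)
  · intro hnp
    obtain ⟨w, hw⟩ := Cfsg.Agent.Lib.helper64.USpec.exists_big_u (F := F) hp ha hq hF hr hrq hrn
      hn2 hnp
    apply Cfsg.Agent.Lib.helper64.SpecProd.range_two r m hr
    intro x y hx hy
    exact hpairGen x y hx hy (fun _ => ⟨w, hw x, hw y⟩)

end Cfsg.Agent.S2511
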