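import Cfsg.Statements.S2512
import Cfsg.Agent.Lib.helper64.SpMain
import Cfsg.Agent.Lib.helper64.SpecProd

set_option autoImplicit false
open Cfsg

namespace Cfsg.Agent.S2512

open Cfsg.Agent.Lib.helper64.SpBasic Cfsg.Agent.Lib.helper64.SpGlue
  Cfsg.Agent.Lib.helper64.SpExist Cfsg.Agent.Lib.helper64.SpMain
  Cfsg.Agent.Lib.helper64.SpecProd Cfsg.Agent.Lib.helper64.UJordan

/-- Let F be a finite field of odd order q = p^a, n ≥ 2 (with q ≥ 3 automatic), and L = PSp(2n, F). Then for every m the direct product L × L × L × (ℤ/2)^m has the same set of element orders as L × L × L; and if 2n − 1 is not a power of p, then already L × L × (ℤ/2)^m has the same set of element orders as L × L. -/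
theorem result {F : Type*} [Field F] [Fintype F] (p a n m : ℕ) (hp : p.Prime) (ha : 1 ≤ a) (hF : Fintype.card F = p ^ a) (hodd : Odd (Fintype.card F))
    (hn : 2 ≤ n) :
    Set.range (orderOf : Cfsg.PSp n F × Cfsg.PSp n F × Cfsg.PSp n F × Multiplicative (Fin m → ZMod 2) → ℕ) = Set.range (orderOf : Cfsg.PSp n F × Cfsg.PSp n F × Cfsg.PSp n F → ℕ) ∧
    ((¬ ∃ j : ℕ, 2 * n - 1 = p ^ j) →
      Set.range (orderOf : Cfsg.PSp n F × Cfsg.PSp n F × Multiplicative (Fin m → ZMod 2) → ℕ) = Set.range (orderOf : Cfsg.PSp n F × Cfsg.PSp n F → ℕ)) := by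
  classical
  have hn1 : 1 ≤ n := by omega
  have hN0 : 0 < n + n := by omega
  have : Nonempty (Fin (n + n)) := ⟨⟨0, hN0⟩⟩
  have : Fact p.Prime := ⟨hp⟩
  have hchar : CharP F p := Cfsg.Agent.Lib.helper64.PSLSpec.charP_of_card hp ha hF
  have hpodd : Odd p := by
    have h := hodd
    rw [hF] at h
    exact Odd.of_dvd_nat h (dvd_pow_self p (by omega))
  have hp2 : p ≠ 2 := by
    rintro rfl
    exact absurd hpodd (by decide)
  have h2 : (2 : F) ≠ 0 := by
    intro h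
    have h1 : ((2 : ℕ) : F) = 0 := by exact_mod_cast h
    rw [CharP.cast_eq_zero_iff F p] at h1
    exact hp2 ((Nat.prime_dvd_prime_iff_eq hp Nat.prime_two).1 h1)
  obtain ⟨q, hq⟩ : ∃ q : ℕ, q = Fintype.card F := ⟨_, rfl⟩
  have hqodd : Odd q := by rw [hq]; exact hodd
  obtain ⟨c, hc⟩ : Odd (q ^ n) := hqodd.pow
  have hdp : (q ^ n + 1) / 2 = c + 1 := by omega
  have hdm : (q ^ n - 1) / 2 = c := by omega
  -- the elements of maximal orders
  obtain ⟨τm, hτm⟩ := exists_minus (F := F) p n hn1 hodd h2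
  rw [← hq, hdm] at hτm
  obtain ⟨t2, ht2⟩ := exists_even (F := F) n hn h2
  obtain ⟨υ, hυ⟩ : ∃ υ : PSp n F, p ^ Nat.clog p (n + n) ∣ orderOf υ := by
    obtain ⟨R, hR1, hR2, hR3⟩ := exists_reg_unip (F := F) (n + n) h2
    obtain ⟨hR4, hR5⟩ := unip_order p (by omega : 2 ≤ n + n) R hR2 (hR3 _ (by omega))
    apply transfer n hn1 (by rw [Fintype.card_fin]) h2 (Hm (n + n) 1) (-Hm (n + n) 1)
      (skewInv_Hm (n + n) ⟨n, rfl⟩) R hR1
    intro k hk
    rcases hk with hk | hk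
    · exact hR5 k hk
    · exact absurd hk (pow_ne_neg_one h2 R (p ^ Nat.clog p (n + n)) hpodd.pow hR4 k)
  -- the classification of odd orders
  have hbad : ∀ x : PSp n F, ¬ 2 ∣ orderOf x →
      (∃ x' : PSp n F, orderOf x * 2 ∣ orderOf x') ∨
      ((∃ τ : PSp n F, c + 1 ∣ orderOf τ) ∧ orderOf x ∣ c + 1) ∨
      orderOf x ∣ c ∨
      ((∃ j : ℕ, 2 * n - 1 = p ^ j) ∧ orderOf x ∣ p ^ Nat.clog p (n + n)) := by
    intro x hx
    have hxodd : Odd (orderOf x) := by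
      rw [← Nat.not_even_iff_odd, even_iff_two_dvd]
      exact hx
    have hcop : Nat.Coprime (orderOf x) 2 := Nat.coprime_two_right.2 hxodd
    obtain ⟨g, hg, hgo, hgmin⟩ := lift n hn1 x hxodd
    have h := analysis p a n hp ha hF hodd hn (Ω₀ F n) (-Ω₀ F n) (skewInv_Ω₀ n) g hg
      (orderOf x) hxodd hgo hgmin
    rw [← hq, hdp] at h
    rcases h with ⟨x', hx'⟩ | ⟨h1, h3⟩ | h1 | h1
    · left
      exact ⟨x', by rw [mul_comm]; exact hx'⟩
    · right; left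
      refine ⟨h3, ?_⟩
      have h4 : q ^ n + 1 = (c + 1) * 2 := by omega
      rw [h4] at h1
      exact hcop.dvd_of_dvd_mul_right h1
    · right; right; left
      have h4 : q ^ n - 1 = c * 2 := by omega
      rw [h4] at h1
      exact hcop.dvd_of_dvd_mul_right h1
    · right; right; right
      exact h1
  have hT : ∃ T₁ T₂ T₃ : PSp n F, 2 ∣ Nat.lcm (orderOf T₁) (orderOf T₂) ∧
      ∀ x : PSp n F, ¬ 2 ∣ orderOf x → (∃ x' : PSp n F, orderOf x * 2 ∣ orderOf x') ∨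
        orderOf x ∣ orderOf T₁ ∨ orderOf x ∣ orderOf T₂ ∨
        ((∃ j : ℕ, 2 * n - 1 = p ^ j) ∧ orderOf x ∣ orderOf T₃) := by
    by_cases hEP : ∃ τ : PSp n F, c + 1 ∣ orderOf τ
    · obtain ⟨τp, hτp⟩ := hEP
      refine ⟨τp, τm, υ, ?_, ?_⟩
      · rcases Nat.even_or_odd c with he | ho
        · exact dvd_trans (dvd_trans (even_iff_two_dvd.1 he) hτm) (Nat.dvd_lcm_right _ _)
        · exact dvd_trans (dvd_trans (even_iff_two_dvd.1 ho.add_one) hτp) (Nat.dvd_lcm_left _ _)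
      · intro x hx
        rcases hbad x hx with h | ⟨_, h⟩ | h | ⟨hj, h⟩
        · exact Or.inl h
        · exact Or.inr (Or.inl (dvd_trans h hτp))
        · exact Or.inr (Or.inr (Or.inl (dvd_trans h hτm)))
        · exact Or.inr (Or.inr (Or.inr ⟨hj, dvd_trans h hυ⟩))
    · refine ⟨t2, τm, υ, dvd_trans ht2 (Nat.dvd_lcm_left _ _), ?_⟩
      intro x hx
      rcases hbad x hx with h | ⟨hE, _⟩ | h | ⟨hj, h⟩
      · exact Or.inl h
      · exact absurd hE hEP
      · exact Or.inr (Or.inr (Or.inl (dvd_trans h hτm)))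
      · exact Or.inr (Or.inr (Or.inr ⟨hj, dvd_trans h hυ⟩))
  obtain ⟨T₁, T₂, T₃, hT2, hTx⟩ := hT
  refine ⟨?_, ?_⟩
  · have h1 : Set.range (orderOf : PSp n F × PSp n F × PSp n F ×
        Multiplicative (Fin m → ZMod 2) → ℕ) =
        Set.range (orderOf : (PSp n F × PSp n F × PSp n F) ×
          Multiplicative (Fin m → ZMod 2) → ℕ) := by
      ext k
      constructor
      · rintro ⟨⟨x, y, z, e⟩, rfl⟩
        exact ⟨((x, y, z), e), by simp only [Prod.orderOf_mk, Nat.lcm_assoc]⟩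
      · rintro ⟨⟨⟨x, y, z⟩, e⟩, rfl⟩
        exact ⟨(x, y, z, e), by simp only [Prod.orderOf_mk, Nat.lcm_assoc]⟩
    rw [h1]
    apply range_prod_elem 2 m Nat.prime_two
    rintro ⟨x, y, z⟩ hg
    rw [Prod.orderOf_mk, Prod.orderOf_mk] at hg ⊢
    have hx : ¬ 2 ∣ orderOf x := fun h' => hg (dvd_trans h' (Nat.dvd_lcm_left _ _))
    have hy : ¬ 2 ∣ orderOf y := fun h' =>
      hg (dvd_trans h' (dvd_trans (Nat.dvd_lcm_left _ _) (Nat.dvd_lcm_right _ _)))
    have hz : ¬ 2 ∣ orderOf z := fun h' =>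
      hg (dvd_trans h' (dvd_trans (Nat.dvd_lcm_right _ _) (Nat.dvd_lcm_right _ _)))
    rcases hTx x hx with ⟨x', hx'⟩ | hxb
    · refine ⟨(x', y, z), ?_⟩
      rw [Prod.orderOf_mk, Prod.orderOf_mk]
      have e0 : orderOf x * 2 ∣ Nat.lcm (orderOf x') (Nat.lcm (orderOf y) (orderOf z)) :=
        dvd_trans hx' (Nat.dvd_lcm_left _ _)
      exact mul_dvd_of_parts Nat.prime_two hg
        (Nat.lcm_dvd (dvd_trans (dvd_mul_right _ _) e0) (Nat.dvd_lcm_right _ _))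
        (dvd_trans (dvd_mul_left _ _) e0)
    rcases hTx y hy with ⟨y', hy'⟩ | hyb
    · refine ⟨(x, y', z), ?_⟩
      rw [Prod.orderOf_mk, Prod.orderOf_mk]
      have e0 : orderOf y * 2 ∣ Nat.lcm (orderOf x) (Nat.lcm (orderOf y') (orderOf z)) :=
        dvd_trans hy' (dvd_trans (Nat.dvd_lcm_left _ _) (Nat.dvd_lcm_right _ _))
      exact mul_dvd_of_parts Nat.prime_two hg
        (Nat.lcm_dvd (Nat.dvd_lcm_left _ _) (Nat.lcm_dvd (dvd_trans (dvd_mul_right _ _) e0)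
          (dvd_trans (Nat.dvd_lcm_right _ _) (Nat.dvd_lcm_right _ _))))
        (dvd_trans (dvd_mul_left _ _) e0)
    rcases hTx z hz with ⟨z', hz'⟩ | hzb
    · refine ⟨(x, y, z'), ?_⟩
      rw [Prod.orderOf_mk, Prod.orderOf_mk]
      have e0 : orderOf z * 2 ∣ Nat.lcm (orderOf x) (Nat.lcm (orderOf y) (orderOf z')) :=
        dvd_trans hz' (dvd_trans (Nat.dvd_lcm_right _ _) (Nat.dvd_lcm_right _ _))
      exact mul_dvd_of_parts Nat.prime_two hg
        (Nat.lcm_dvd (Nat.dvd_lcm_left _ _) (Nat.lcm_dvd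
          (dvd_trans (Nat.dvd_lcm_left _ _) (Nat.dvd_lcm_right _ _))
          (dvd_trans (dvd_mul_right _ _) e0)))
        (dvd_trans (dvd_mul_left _ _) e0)
    refine ⟨(T₁, T₂, T₃), ?_⟩
    rw [Prod.orderOf_mk, Prod.orderOf_mk]
    have d1 : orderOf T₁ ∣ Nat.lcm (orderOf T₁) (Nat.lcm (orderOf T₂) (orderOf T₃)) :=
      Nat.dvd_lcm_left _ _
    have d2 : orderOf T₂ ∣ Nat.lcm (orderOf T₁) (Nat.lcm (orderOf T₂) (orderOf T₃)) :=
      dvd_trans (Nat.dvd_lcm_left _ _) (Nat.dvd_lcm_right _ _)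
    have d3 : orderOf T₃ ∣ Nat.lcm (orderOf T₁) (Nat.lcm (orderOf T₂) (orderOf T₃)) :=
      dvd_trans (Nat.dvd_lcm_right _ _) (Nat.dvd_lcm_right _ _)
    have hall : ∀ w : PSp n F, (orderOf w ∣ orderOf T₁ ∨ orderOf w ∣ orderOf T₂ ∨
        ((∃ j : ℕ, 2 * n - 1 = p ^ j) ∧ orderOf w ∣ orderOf T₃)) →
        orderOf w ∣ Nat.lcm (orderOf T₁) (Nat.lcm (orderOf T₂) (orderOf T₃)) := by
      intro w hw
      rcases hw with h | h | ⟨_, h⟩
      · exact dvd_trans h d1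
      · exact dvd_trans h d2
      · exact dvd_trans h d3
    exact mul_dvd_of_parts Nat.prime_two hg
      (Nat.lcm_dvd (hall x hxb) (Nat.lcm_dvd (hall y hyb) (hall z hzb)))
      (dvd_trans hT2 (Nat.lcm_dvd d1 d2))
  · intro hj
    have h1 : Set.range (orderOf : PSp n F × PSp n F × Multiplicative (Fin m → ZMod 2) → ℕ) =
        Set.range (orderOf : (PSp n F × PSp n F) × Multiplicative (Fin m → ZMod 2) → ℕ) := by
      ext k
      constructor
      · rintro ⟨⟨x, y, e⟩, rfl⟩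
        exact ⟨((x, y), e), by simp only [Prod.orderOf_mk, Nat.lcm_assoc]⟩
      · rintro ⟨⟨⟨x, y⟩, e⟩, rfl⟩
        exact ⟨(x, y, e), by simp only [Prod.orderOf_mk, Nat.lcm_assoc]⟩
    rw [h1]
    apply range_prod_elem 2 m Nat.prime_two
    rintro ⟨x, y⟩ hg
    rw [Prod.orderOf_mk] at hg ⊢
    have hx : ¬ 2 ∣ orderOf x := fun h' => hg (dvd_trans h' (Nat.dvd_lcm_left _ _))
    have hy : ¬ 2 ∣ orderOf y := fun h' => hg (dvd_trans h' (Nat.dvd_lcm_right _ _))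
    rcases hTx x hx with ⟨x', hx'⟩ | hxb
    · refine ⟨(x', y), ?_⟩
      rw [Prod.orderOf_mk]
      have e0 : orderOf x * 2 ∣ Nat.lcm (orderOf x') (orderOf y) :=
        dvd_trans hx' (Nat.dvd_lcm_left _ _)
      exact mul_dvd_of_parts Nat.prime_two hg
        (Nat.lcm_dvd (dvd_trans (dvd_mul_right _ _) e0) (Nat.dvd_lcm_right _ _))
        (dvd_trans (dvd_mul_left _ _) e0)
    rcases hTx y hy with ⟨y', hy'⟩ | hyb
    · refine ⟨(x, y'), ?_⟩
      rw [Prod.orderOf_mk]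
      have e0 : orderOf y * 2 ∣ Nat.lcm (orderOf x) (orderOf y') :=
        dvd_trans hy' (Nat.dvd_lcm_right _ _)
      exact mul_dvd_of_parts Nat.prime_two hg
        (Nat.lcm_dvd (Nat.dvd_lcm_left _ _) (dvd_trans (dvd_mul_right _ _) e0))
        (dvd_trans (dvd_mul_left _ _) e0)
    refine ⟨(T₁, T₂), ?_⟩
    rw [Prod.orderOf_mk]
    have hall : ∀ w : PSp n F, (orderOf w ∣ orderOf T₁ ∨ orderOf w ∣ orderOf T₂ ∨
        ((∃ j : ℕ, 2 * n - 1 = p ^ j) ∧ orderOf w ∣ orderOf T₃)) →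
        orderOf w ∣ Nat.lcm (orderOf T₁) (orderOf T₂) := by
      intro w hw
      rcases hw with h | h | ⟨h, _⟩
      · exact dvd_trans h (Nat.dvd_lcm_left _ _)
      · exact dvd_trans h (Nat.dvd_lcm_right _ _)
      · exact absurd h hj
    exact mul_dvd_of_parts Nat.prime_two hg (Nat.lcm_dvd (hall x hxb) (hall y hyb)) hT2

end Cfsg.Agent.S2512
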