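import Cfsg.Statements.S2514
import Mathlib
-- import your own Cfsg.Agent.* helpers here

set_option autoImplicit false
open Cfsg

namespace Cfsg.Agent.S2514

section helpers

/-- the set of element orders of a finite group is closed under divisors -/
theorem spec_dvd_closed {X : Type*} [Group X] [Finite X] {n d : ℕ}
    (hn : n ∈ Set.range (orderOf : X → ℕ)) (hd : d ∣ n) : d ∈ Set.range (orderOf : X → ℕ) := by
  obtain ⟨x, rfl⟩ := hn
  have hpos : 0 < orderOf x := orderOf_pos x
  obtain ⟨e, he⟩ := hd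
  have he0 : e ≠ 0 := by
    rintro rfl
    rw [mul_zero] at he
    omega
  refine ⟨x ^ e, ?_⟩
  rw [orderOf_pow_of_dvd he0 ⟨d, by rw [he, mul_comm]⟩, he, Nat.mul_div_cancel _ (Nat.pos_of_ne_zero he0)]

/-- every element order divides a maximal one -/
theorem exists_mu {X : Type*} [Group X] [Finite X] {n : ℕ}
    (hn : n ∈ Set.range (orderOf : X → ℕ)) :
    ∃ m ∈ {n : ℕ | n ∈ Set.range (orderOf : X → ℕ) ∧ ∀ m ∈ Set.range (orderOf : X → ℕ), n ∣ m → m = n},
      n ∣ m := by
  classical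
  have hbound : ∀ m ∈ Set.range (orderOf : X → ℕ), 0 < m ∧ m ≤ Nat.card X := by
    rintro m ⟨x, rfl⟩
    exact ⟨orderOf_pos x, orderOf_le_card⟩
  let cand : Finset ℕ := (Finset.range (Nat.card X + 1)).filter
    (fun m => m ∈ Set.range (orderOf : X → ℕ) ∧ n ∣ m)
  have hne : cand.Nonempty := ⟨n, by
    simp only [cand, Finset.mem_filter, Finset.mem_range]
    exact ⟨Nat.lt_succ_of_le (hbound n hn).2, hn, dvd_rfl⟩⟩
  obtain ⟨m, hm, hmax⟩ := Finset.exists_max_image cand id hne
  simp only [cand, Finset.mem_filter, Finset.mem_range] at hm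
  refine ⟨m, ⟨hm.2.1, ?_⟩, hm.2.2⟩
  intro m' hm' hdvd
  have h1 : m' ∈ cand := by
    simp only [cand, Finset.mem_filter, Finset.mem_range]
    exact ⟨Nat.lt_succ_of_le (hbound m' hm').2, hm', dvd_trans hm.2.2 hdvd⟩
  have h2 : m' ≤ m := hmax m' h1
  have h3 : m ≤ m' := Nat.le_of_dvd (hbound m' hm').1 hdvd
  exact le_antisymm h2 h3

/-- divisors of an lcm of `k` element orders are element orders of the `k`-th power -/
theorem mem_spec_pi {G : Type*} [Group G] [Finite G] {k : ℕ} (c : Fin k → ℕ)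
    (hc : ∀ i, c i ∈ Set.range (orderOf : G → ℕ)) {n : ℕ} (hn : n ∣ Finset.univ.lcm c) :
    n ∈ Set.range (orderOf : (Fin k → G) → ℕ) := by
  choose x hx using hc
  apply spec_dvd_closed (X := Fin k → G) ⟨x, rfl⟩
  rw [Pi.orderOf]
  have : (fun i => orderOf (x i)) = c := funext hx
  rw [this]
  exact hn

theorem mem_spec_pi_prod {G H : Type*} [Group G] [Finite G] [Group H] [Finite H] {k : ℕ}
    (c : Fin k → ℕ) (hc : ∀ i, c i ∈ Set.range (orderOf : G → ℕ)) {d : ℕ}
    (hd : d ∈ Set.range (orderOf : H → ℕ)) {n : ℕ} (hn : n ∣ Nat.lcm (Finset.univ.lcm c) d) :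
    n ∈ Set.range (orderOf : (Fin k → G) × H → ℕ) := by
  choose x hx using hc
  obtain ⟨h, rfl⟩ := hd
  apply spec_dvd_closed (X := (Fin k → G) × H) ⟨(x, h), rfl⟩
  rw [Prod.orderOf_mk, Pi.orderOf]
  have : (fun i => orderOf (x i)) = c := funext hx
  rw [this]
  exact hn

theorem exists_mu_of_mem_spec_pi {G : Type*} [Group G] [Finite G] {k : ℕ} {n : ℕ}
    (hn : n ∈ Set.range (orderOf : (Fin k → G) → ℕ)) :
    ∃ c : Fin k → ℕ, (∀ i, c i ∈ {n : ℕ | n ∈ Set.range (orderOf : G → ℕ) ∧
      ∀ m ∈ Set.range (orderOf : G → ℕ), n ∣ m → m = n}) ∧ n ∣ Finset.univ.lcm c := by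
  obtain ⟨f, rfl⟩ := hn
  have := fun i => exists_mu (X := G) (n := orderOf (f i)) ⟨f i, rfl⟩
  choose c hc hdvd using this
  refine ⟨c, hc, ?_⟩
  rw [Pi.orderOf]
  apply Finset.lcm_dvd
  intro i _
  exact dvd_trans (hdvd i) (Finset.dvd_lcm (Finset.mem_univ i))

end helpers

/-- For a finite group X write μ(X) for the set of element orders of X that are maximal under divisibility. Let G and H be finite groups and k ≥ 1 such that μ(H) ⊆ μ(G) and μ(G) has fewer than k elements outside μ(H). Then the direct product of k copies of G has the same set of element orders as the direct product of k − 1 copies of G with H. -/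
theorem result {G H : Type*} [Group G] [Finite G] [Group H] [Finite H] (k : ℕ) (hk : 1 ≤ k)
    (hsub : {n : ℕ | n ∈ Set.range (orderOf : H → ℕ) ∧ ∀ m ∈ Set.range (orderOf : H → ℕ), n ∣ m → m = n} ⊆ {n : ℕ | n ∈ Set.range (orderOf : G → ℕ) ∧ ∀ m ∈ Set.range (orderOf : G → ℕ), n ∣ m → m = n})
    (hfew : ({n : ℕ | n ∈ Set.range (orderOf : G → ℕ) ∧ ∀ m ∈ Set.range (orderOf : G → ℕ), n ∣ m → m = n} \ {n : ℕ | n ∈ Set.range (orderOf : H → ℕ) ∧ ∀ m ∈ Set.range (orderOf : H → ℕ), n ∣ m → m = n}).ncard < k) :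
    Set.range (orderOf : (Fin k → G) → ℕ) = Set.range (orderOf : (Fin (k - 1) → G) × H → ℕ) := by
  classical
  obtain ⟨k', rfl⟩ : ∃ k', k = k' + 1 := ⟨k - 1, by omega⟩
  show Set.range (orderOf : (Fin (k' + 1) → G) → ℕ) = Set.range (orderOf : (Fin k' → G) × H → ℕ)
  have hsubG : ∀ n, n ∈ {n : ℕ | n ∈ Set.range (orderOf : G → ℕ) ∧ ∀ m ∈ Set.range (orderOf : G → ℕ), n ∣ m → m = n} →
      n ∈ Set.range (orderOf : G → ℕ) := fun n hn => hn.1
  apply Set.eq_of_subset_of_subset
  · intro n hn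
    obtain ⟨c, hc, hnc⟩ := exists_mu_of_mem_spec_pi hn
    -- find a coordinate to drop
    have key : ∃ (i : Fin (k' + 1)) (d : ℕ), d ∈ Set.range (orderOf : H → ℕ) ∧
        Finset.univ.lcm c ∣ Nat.lcm (Finset.univ.lcm (fun j => c (i.succAbove j))) d := by
      by_cases h1 : ∃ i, c i ∈ {n : ℕ | n ∈ Set.range (orderOf : H → ℕ) ∧ ∀ m ∈ Set.range (orderOf : H → ℕ), n ∣ m → m = n}
      · obtain ⟨i, hi⟩ := h1
        refine ⟨i, c i, hi.1, ?_⟩
        apply Finset.lcm_dvd
        intro j _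
        by_cases hji : j = i
        · rw [hji]
          exact Nat.dvd_lcm_right _ _
        · obtain ⟨j', rfl⟩ := Fin.exists_succAbove_eq hji
          exact dvd_trans (Finset.dvd_lcm (f := fun j => c (i.succAbove j)) (Finset.mem_univ j')) (Nat.dvd_lcm_left _ _)
      · have h1' : ∀ i, c i ∉ {n : ℕ | n ∈ Set.range (orderOf : H → ℕ) ∧ ∀ m ∈ Set.range (orderOf : H → ℕ), n ∣ m → m = n} :=
          fun i hi => h1 ⟨i, hi⟩
        have hninj : ¬ Function.Injective c := by
          intro hinj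
          have hfin : ({n : ℕ | n ∈ Set.range (orderOf : G → ℕ) ∧ ∀ m ∈ Set.range (orderOf : G → ℕ), n ∣ m → m = n} \ {n : ℕ | n ∈ Set.range (orderOf : H → ℕ) ∧ ∀ m ∈ Set.range (orderOf : H → ℕ), n ∣ m → m = n}).Finite := by
            apply Set.Finite.subset (Set.finite_range (orderOf : G → ℕ))
            intro n hn
            exact hn.1.1
          have hsubset : Set.range c ⊆ ({n : ℕ | n ∈ Set.range (orderOf : G → ℕ) ∧ ∀ m ∈ Set.range (orderOf : G → ℕ), n ∣ m → m = n} \ {n : ℕ | n ∈ Set.range (orderOf : H → ℕ) ∧ ∀ m ∈ Set.range (orderOf : H → ℕ), n ∣ m → m = n}) := by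
            rintro _ ⟨i, rfl⟩
            exact ⟨hc i, h1' i⟩
          have hle := Set.ncard_le_ncard hsubset hfin
          have hcard : (Set.range c).ncard = k' + 1 := by
            rw [← Set.image_univ, Set.ncard_image_of_injective _ hinj, Set.ncard_univ, Nat.card_fin]
          omega
        obtain ⟨i, j, hij, hne⟩ : ∃ i j, c i = c j ∧ i ≠ j := by
          by_contra hcon
          apply hninj
          intro i j hij
          by_contra hne
          exact hcon ⟨i, j, hij, hne⟩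
        obtain ⟨d, hd, _⟩ := exists_mu (X := H) (n := 1) ⟨1, orderOf_one⟩
        refine ⟨i, d, hd.1, ?_⟩
        apply Finset.lcm_dvd
        intro l _
        have hl : ∀ l, l ≠ i → c l ∣ Finset.univ.lcm (fun j => c (i.succAbove j)) := by
          intro l hli
          obtain ⟨l', rfl⟩ := Fin.exists_succAbove_eq hli
          exact Finset.dvd_lcm (f := fun j => c (i.succAbove j)) (Finset.mem_univ l')
        by_cases hli : l = i
        · rw [hli, hij]
          exact dvd_trans (hl j (Ne.symm hne)) (Nat.dvd_lcm_left _ _)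
        · exact dvd_trans (hl l hli) (Nat.dvd_lcm_left _ _)
    obtain ⟨i, d, hd, hdvd⟩ := key
    exact mem_spec_pi_prod (fun j => c (i.succAbove j)) (fun j => (hc _).1) hd (dvd_trans hnc hdvd)
  · rintro n ⟨⟨f, h⟩, rfl⟩
    obtain ⟨d, hd, hhd⟩ := exists_mu (X := H) (n := orderOf h) ⟨h, rfl⟩
    have hdG : d ∈ Set.range (orderOf : G → ℕ) := (hsub hd).1
    apply mem_spec_pi (G := G) (Fin.cons d (fun j => orderOf (f j)) : Fin (k' + 1) → ℕ)
    · intro i
      refine Fin.cases ?_ ?_ i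
      · simpa using hdG
      · intro j
        simp
    · rw [Prod.orderOf_mk, Pi.orderOf]
      apply Nat.lcm_dvd
      · apply Finset.lcm_dvd
        intro j _
        have := Finset.dvd_lcm (f := (Fin.cons d (fun j => orderOf (f j)) : Fin (k' + 1) → ℕ)) (Finset.mem_univ j.succ)
        simpa using this
      · have := Finset.dvd_lcm (f := (Fin.cons d (fun j => orderOf (f j)) : Fin (k' + 1) → ℕ)) (Finset.mem_univ 0)
        exact dvd_trans hhd (by simpa using this)

end Cfsg.Agent.S2514
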