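import Cfsg.Statements.S2515
import Cfsg.Agent.Lib.helper98.TwE

set_option autoImplicit false
open Cfsg

namespace Cfsg.Agent.S2515

/-- Let q = 3^α with α ≥ 3 odd. There is a finite group H having a non-trivial normal 3-subgroup and whose element orders maximal under divisibility are exactly 6, 9, q − 1 and (q + 1)/2. -/
theorem result (α : ℕ) (hα : 3 ≤ α) (hodd : Odd α) :
    ∃ (H : Type) (_ : Group H) (_ : Fintype H), (∃ P : Subgroup H, P.Normal ∧ P ≠ ⊥ ∧ IsPGroup 3 ↥P) ∧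
      {n : ℕ | n ∈ Set.range (orderOf : H → ℕ) ∧ ∀ m ∈ Set.range (orderOf : H → ℕ), n ∣ m → m = n} = ({6, 9, 3 ^ α - 1, (3 ^ α + 1) / 2} : Set ℕ) := by
  classical
  have hα0 : α ≠ 0 := by omega
  let _ : Fintype (GaloisField 3 α) := Fintype.ofFinite _
  have hcard : Fintype.card (GaloisField 3 α) = 3 ^ α := by
    rw [← Nat.card_eq_fintype_card]; exact GaloisField.card 3 α hα0
  obtain ⟨j, hj⟩ := hodd
  have h9 : ∀ i : ℕ, 9 ^ i % 4 = 1 := by
    intro i
    induction i with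
    | zero => rfl
    | succ i ih => rw [pow_succ]; omega
  have hq4 : Fintype.card (GaloisField 3 α) % 4 = 3 := by
    rw [hcard, hj, pow_succ, pow_mul]
    have h := h9 j
    have h' : (3 : ℕ) ^ 2 = 9 := by norm_num
    rw [h']
    omega
  have hq3 : Fintype.card (GaloisField 3 α) % 3 = 0 := by
    rw [hcard, hj, pow_succ]
    omega
  have hq27 : 27 ≤ Fintype.card (GaloisField 3 α) := by
    rw [hcard]
    calc 27 = 3 ^ 3 := by norm_num
      _ ≤ 3 ^ α := Nat.pow_le_pow_right (by norm_num) hα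
  refine ⟨Cfsg.Agent.Lib.helper98.twGroup (GaloisField 3 α), inferInstance, Fintype.ofFinite _,
    ⟨Cfsg.Agent.Lib.helper98.twTrans (GaloisField 3 α), Cfsg.Agent.Lib.helper98.twTrans_normal,
      Cfsg.Agent.Lib.helper98.twTrans_ne_bot, Cfsg.Agent.Lib.helper98.twTrans_isPGroup⟩, ?_⟩
  rw [← hcard]
  exact Cfsg.Agent.Lib.helper98.tw_max_orders hq4 hq3 hq27

end Cfsg.Agent.S2515
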