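import Cfsg.Statements.S2516
-- import your own Cfsg.Agent.* helpers here

set_option autoImplicit false
open Cfsg

namespace Cfsg.Agent.S2516

section helpers

variable {F : Type*} [Field F] {V : Type*} [AddCommGroup V] [Module F V] {G : Type*} [Group G]
  (ρ : Representation F G V)

/-- the action of `G` on `Multiplicative V` used in the statement -/
noncomputable abbrev act : G →* MulAut (Multiplicative V) :=
  (MulAutMultiplicative V).symm.toMonoidHom.comp
    ((DistribMulAction.toAddAut ((V →ₗ[F] V)ˣ) V).comp ρ.asGroupHom)

theorem act_apply (g : G) (v : V) :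
    act ρ g (Multiplicative.ofAdd v) = Multiplicative.ofAdd (ρ g v) := rfl

theorem pow_eq (g : G) (v : V) (k : ℕ) :
    (⟨Multiplicative.ofAdd v, g⟩ : Multiplicative V ⋊[act ρ] G) ^ k =
      ⟨Multiplicative.ofAdd (∑ i ∈ Finset.range k, (ρ g ^ i) v), g ^ k⟩ := by
  induction k with
  | zero =>
    simp
  | succ k ih =>
    rw [pow_succ', ih]
    ext
    · simp only [SemidirectProduct.mul_left, act_apply]
      rw [Finset.sum_range_succ', map_sum, ← ofAdd_add, add_comm]
      simp [pow_succ']
    · simp only [SemidirectProduct.mul_right, pow_succ']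

end helpers

/-- Let F be a field of characteristic p > 0, V a non-zero finite-dimensional F-vector space, G a finite group and ρ a representation of G on V; form the semidirect product V ⋊ G. For g ∈ G of order k, the coset Vg contains an element of order pk if and only if the minimal polynomial of ρ(g) does not divide 1 + X + ⋯ + X^(k−1). -/
theorem result {F : Type*} [Field F] (p : ℕ) [Fact p.Prime] [CharP F p] {V : Type*} [AddCommGroup V] [Module F V] [FiniteDimensional F V] [Nontrivial V]
    {G : Type*} [Group G] [Finite G] (ρ : Representation F G V) (g : G) :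
    (∃ x : Multiplicative V ⋊[(MulAutMultiplicative V).symm.toMonoidHom.comp
        ((DistribMulAction.toAddAut ((V →ₗ[F] V)ˣ) V).comp ρ.asGroupHom)] G,
        x.right = g ∧ orderOf x = p * orderOf g) ↔
      ¬ (minpoly F (ρ g) ∣ ∑ i ∈ Finset.range (orderOf g), (Polynomial.X : Polynomial F) ^ i) := by
  classical
  have hkpos : 0 < orderOf g := orderOf_pos g
  have hp : p.Prime := Fact.out
  have haeval : Polynomial.aeval (ρ g) (∑ i ∈ Finset.range (orderOf g), (Polynomial.X : Polynomial F) ^ i) =
      ∑ i ∈ Finset.range (orderOf g), (ρ g) ^ i := by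
    simp
  rw [minpoly.dvd_iff, haeval]
  generalize hN : (∑ i ∈ Finset.range (orderOf g), (ρ g) ^ i : V →ₗ[F] V) = N
  -- key computation of the order
  have key : ∀ v : V, orderOf (⟨Multiplicative.ofAdd v, g⟩ : Multiplicative V ⋊[act ρ] G) =
      if N v = 0 then orderOf g else p * orderOf g := by
    intro v
    generalize hx : (⟨Multiplicative.ofAdd v, g⟩ : Multiplicative V ⋊[act ρ] G) = x
    have hxk : x ^ orderOf g = SemidirectProduct.inl (Multiplicative.ofAdd (N v)) := by
      rw [← hx, pow_eq, pow_orderOf_eq_one, ← hN, LinearMap.sum_apply]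
      rfl
    have hdvd : orderOf g ∣ orderOf x := by
      have h1 := orderOf_map_dvd (SemidirectProduct.rightHom : Multiplicative V ⋊[act ρ] G →* G) x
      simpa [← hx] using h1
    split_ifs with h0
    · apply Nat.dvd_antisymm _ hdvd
      apply orderOf_dvd_of_pow_eq_one
      rw [hxk, h0]
      simp
    · have hy1 : x ^ orderOf g ≠ 1 := by
        rw [hxk]
        intro h
        rw [← map_one (SemidirectProduct.inl : Multiplicative V →* Multiplicative V ⋊[act ρ] G)] at h
        have := SemidirectProduct.inl_injective h
        exact h0 (by simpa using this)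
      have hyp : (x ^ orderOf g) ^ p = 1 := by
        rw [hxk, ← map_pow, ← ofAdd_nsmul]
        have hp0 : (p : F) = 0 := CharP.cast_eq_zero F p
        have : p • N v = 0 := by
          rw [← Nat.cast_smul_eq_nsmul F, hp0, zero_smul]
        rw [this]
        simp
      have hord : orderOf (x ^ orderOf g) = p := orderOf_eq_prime hyp hy1
      have hx0 : orderOf x ≠ 0 := by
        intro h0'
        rw [orderOf_pow' x hkpos.ne', h0'] at hord
        simp at hord
        exact hp.ne_zero hord.symm
      rw [orderOf_pow' x hkpos.ne', Nat.gcd_eq_right hdvd] at hord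
      obtain ⟨c, hc⟩ := hdvd
      rw [hc, Nat.mul_div_cancel_left _ hkpos] at hord
      rw [hc, hord, mul_comm]
  constructor
  · rintro ⟨x, hxg, hxo⟩ hN0
    obtain ⟨n, g'⟩ := x
    simp only at hxg
    subst hxg
    have := key (Multiplicative.toAdd n)
    simp only [ofAdd_toAdd, hN0, LinearMap.zero_apply, if_true] at this
    rw [this] at hxo
    have h1 : 1 * orderOf g' = p * orderOf g' := by simpa using hxo
    have := Nat.eq_of_mul_eq_mul_right hkpos h1
    exact hp.one_lt.ne this
  · intro hN0
    have : ∃ v, N v ≠ 0 := by
      by_contra hcon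
      exact hN0 (LinearMap.ext fun v => by
        by_contra hv
        exact hcon ⟨v, hv⟩)
    obtain ⟨v, hv⟩ := this
    refine ⟨⟨Multiplicative.ofAdd v, g⟩, rfl, ?_⟩
    rw [key v, if_neg hv]

end Cfsg.Agent.S2516
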