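import Cfsg.Statements.S2531
import Mathlib
-- import your own Cfsg.Agent.* helpers here

set_option autoImplicit false
open Cfsg

namespace Cfsg.Agent.S2531

open scoped LinearAlgebra.Projectivization

section geometry

variable {F : Type*} [Field F] {V : Type*} [AddCommGroup V] [Module F V]

/-- points of a subspace -/
def pts (W : Submodule F V) : Set (ℙ F V) := {p | p.submodule ≤ W}

theorem mk_mem_pts (W : Submodule F V) (v : V) (hv : v ≠ 0) :
    Projectivization.mk F v hv ∈ pts W ↔ v ∈ W := by
  simp [pts, Projectivization.submodule_mk]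

theorem pts_inf (W₁ W₂ : Submodule F V) : pts (W₁ ⊓ W₂) = pts W₁ ∩ pts W₂ := by
  ext p
  simp [pts]

theorem ncard_pts [Finite F] (W : Submodule F V) (m : ℕ) (h : Module.finrank F W = m) :
    (pts W).ncard = ∑ i ∈ Finset.range m, Nat.card F ^ i := by
  rw [← Projectivization.card_of_finrank F W h]
  have hinj : Function.Injective (Projectivization.map W.subtype (Submodule.injective_subtype W)) :=
    Projectivization.map_injective _ _
  rw [← Set.ncard_range_of_injective hinj]
  congr 1
  ext p
  constructor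
  · intro hp
    induction p using Projectivization.ind with
    | h v hv =>
      rw [mk_mem_pts] at hp
      refine ⟨Projectivization.mk F (⟨v, hp⟩ : W) (by simpa [Subtype.ext_iff] using hv), ?_⟩
      rw [Projectivization.map_mk]
      rfl
  · rintro ⟨p', rfl⟩
    induction p' using Projectivization.ind with
    | h v hv =>
      rw [Projectivization.map_mk, mk_mem_pts]
      exact v.2

theorem finrank_comap [Finite F] [Finite V] [Module.Finite F V] {σ : F ≃+* F}
    (f : V →ₛₗ[(σ : F →+* F)] V) (hf : Function.Injective f) (W : Submodule F V) :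
    Module.finrank F (W.comap f) = Module.finrank F W := by
  have hsurj : Function.Surjective f := Finite.surjective_of_injective hf
  have hcard : Nat.card (W.comap f) = Nat.card W := by
    apply Nat.card_eq_of_bijective (fun v : W.comap f => (⟨f v.1, v.2⟩ : W))
    constructor
    · intro v w hvw
      exact Subtype.ext (hf (congrArg Subtype.val hvw))
    · intro w
      obtain ⟨v, hv⟩ := hsurj w.1
      exact ⟨⟨v, by rw [Submodule.mem_comap, hv]; exact w.2⟩, Subtype.ext hv⟩
  have e1 : Nat.card (W.comap f) = Nat.card F ^ Module.finrank F (W.comap f) :=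
    Module.natCard_eq_pow_finrank
  have e2 : Nat.card W = Nat.card F ^ Module.finrank F W := Module.natCard_eq_pow_finrank
  rw [e1, e2] at hcard
  exact Nat.pow_right_injective (Finite.one_lt_card (α := F)) hcard

theorem finrank_inf_hyperplanes [FiniteDimensional F V] {m : ℕ} (hV : Module.finrank F V = m + 2)
    (W₁ W₂ : Submodule F V) (h1 : Module.finrank F W₁ = m + 1) (h2 : Module.finrank F W₂ = m + 1)
    (hne : W₁ ≠ W₂) : Module.finrank F ↥(W₁ ⊓ W₂) = m := by
  have hsum := Submodule.finrank_sup_add_finrank_inf_eq W₁ W₂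
  have hle : Module.finrank F ↥(W₁ ⊔ W₂) ≤ m + 2 := hV ▸ Submodule.finrank_le _
  have hgt : m + 1 < Module.finrank F ↥(W₁ ⊔ W₂) := by
    by_contra hcon
    have hge : m + 1 ≤ Module.finrank F ↥(W₁ ⊔ W₂) := h1 ▸ Submodule.finrank_mono le_sup_left
    have heq : Module.finrank F W₁ = Module.finrank F ↥(W₁ ⊔ W₂) := by omega
    have e1 : W₁ = W₁ ⊔ W₂ := Submodule.eq_of_le_of_finrank_eq le_sup_left heq
    have heq2 : Module.finrank F W₂ = Module.finrank F ↥(W₁ ⊔ W₂) := by omega
    have e2 : W₂ = W₁ ⊔ W₂ := Submodule.eq_of_le_of_finrank_eq le_sup_right heq2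
    exact hne (e1.trans e2.symm)
  omega

end geometry

theorem arith (q A B x y : ℕ) (hq : 2 ≤ q) (hB : 1 ≤ B) (hA : A = q * B + 1)
    (h1 : x + y = q * A) (h2 : x * A + y * B = A * A) : False := by
  subst hA
  have h3 : x * B + y * B = q * B * (q * B + 1) := by
    have : (x + y) * B = q * (q * B + 1) * B := by rw [h1]
    nlinarith [this]
  have h4 : x * (q * B + 1) = q * B + 1 + x * B := by nlinarith [h2, h3]
  rcases Nat.lt_or_ge x 2 with hx | hx
  · interval_cases x
    · omega
    · nlinarith [h4]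
  · obtain ⟨x', rfl⟩ : ∃ x', x = x' + 2 := ⟨x - 2, by omega⟩
    obtain ⟨q', rfl⟩ : ∃ q', q = q' + 2 := ⟨q - 2, by omega⟩
    obtain ⟨B', rfl⟩ : ∃ B', B = B' + 1 := ⟨B - 1, by omega⟩
    nlinarith [h4, Nat.zero_le (x' * q' * B'), Nat.zero_le (x' * q'), Nat.zero_le (x' * B'),
      Nat.zero_le (q' * B')]

/-- Let `F` be a finite field and `n ≥ 3`. No set of permutations of the points of the projective space of `Fⁿ`, each induced by an invertible semilinear transformation of `Fⁿ` (so a subset of the full projective semilinear group), is sharply 2-transitive on the points: it is impossible that for all pairs of distinct points `(a, b)` and `(c, d)` exactly one member of the set sends `a` to `c` and `b` to `d`. -/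
theorem result {F : Type*} [Field F] [Finite F]
    (n : ℕ) (hn : 3 ≤ n) (S : Set (Equiv.Perm (Projectivization F (Fin n → F))))
    (hS : ∀ s ∈ S, ∃ (σ : F ≃+* F) (f : (Fin n → F) →ₛₗ[(σ : F →+* F)] (Fin n → F)) (hf : Function.Injective f),
      ∀ x, s x = Projectivization.map f hf x) :
    ¬ (∀ a b c d : Projectivization F (Fin n → F), a ≠ b → c ≠ d →
        ∃! s, s ∈ S ∧ s a = c ∧ s b = d) := by
  classical
  intro hST
  obtain ⟨k, rfl⟩ : ∃ k, n = k + 3 := ⟨n - 3, by omega⟩
  have hq2 : 2 ≤ Nat.card F := Finite.one_lt_card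
  have hV : Module.finrank F (Fin (k + 3) → F) = k + 3 := Module.finrank_fin_fun F
  -- the hyperplane
  let φ : (Fin (k + 3) → F) →ₗ[F] F := LinearMap.proj 0
  have hφ : φ ≠ 0 := by
    intro h
    have := congrArg (fun g : (Fin (k + 3) → F) →ₗ[F] F => g (Pi.single 0 1)) h
    simp [φ] at this
  let W₀ : Submodule F (Fin (k + 3) → F) := LinearMap.ker φ
  have hW₀ : Module.finrank F W₀ = k + 2 := by
    have := Module.Dual.finrank_ker_add_one_of_ne_zero hφ
    rw [hV] at this
    show Module.finrank F (LinearMap.ker φ) = k + 2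
    omega
  -- the point a
  have he0 : (Pi.single 0 1 : Fin (k + 3) → F) ≠ 0 := by
    intro h
    have := congrFun h 0
    simp at this
  let a : ℙ F (Fin (k + 3) → F) := Projectivization.mk F (Pi.single 0 1) he0
  have ha : a ∉ pts W₀ := by
    rw [mk_mem_pts]
    simp [W₀, φ]
  have : Fintype (ℙ F (Fin (k + 3) → F)) := Fintype.ofFinite _
  -- counts
  have hAB : ∑ i ∈ Finset.range (k + 2), Nat.card F ^ i =
      Nat.card F * (∑ i ∈ Finset.range (k + 1), Nat.card F ^ i) + 1 := geom_sum_succ
  have hB1 : 1 ≤ ∑ i ∈ Finset.range (k + 1), Nat.card F ^ i := by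
    rw [geom_sum_succ]
    omega
  let h : Finset (ℙ F (Fin (k + 3) → F)) := Finset.univ.filter (fun p => p ∈ pts W₀)
  have hmem_h : ∀ p, p ∈ h ↔ p ∈ pts W₀ := fun p => by simp [h]
  have hcard_h : h.card = ∑ i ∈ Finset.range (k + 2), Nat.card F ^ i := by
    rw [← ncard_pts W₀ (k + 2) hW₀, ← Set.ncard_coe_finset]
    congr 1
    ext p
    simp [h]
  let T : Finset (Equiv.Perm (ℙ F (Fin (k + 3) → F))) := Finset.univ.filter (fun s => s ∈ S ∧ s a = a)
  have hmem_T : ∀ s, s ∈ T ↔ s ∈ S ∧ s a = a := fun s => by simp [T]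
  have hcardX : Fintype.card (ℙ F (Fin (k + 3) → F)) =
      Nat.card F * (∑ i ∈ Finset.range (k + 2), Nat.card F ^ i) + 1 := by
    rw [← Nat.card_eq_fintype_card, Projectivization.card_of_finrank F _ hV, geom_sum_succ]
  obtain ⟨p₀, hp₀⟩ : h.Nonempty := by
    rw [← Finset.card_pos, hcard_h, hAB]
    omega
  have hp₀a : a ≠ p₀ := by
    rintro rfl
    exact ha ((hmem_h _).mp hp₀)
  have hcardT : T.card = Nat.card F * (∑ i ∈ Finset.range (k + 2), Nat.card F ^ i) := by
    have e : T.card = (Finset.univ.erase a).card := by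
      apply Finset.card_bij (fun s _ => s p₀)
      · intro s hs
        rw [hmem_T] at hs
        rw [Finset.mem_erase]
        refine ⟨?_, Finset.mem_univ _⟩
        intro h'
        apply hp₀a
        apply s.injective
        rw [hs.2, h']
      · intro s hs s' hs' heq
        rw [hmem_T] at hs hs'
        have hd : a ≠ s p₀ := by
          intro h'
          apply hp₀a
          apply s.injective
          rw [hs.2, ← h']
        obtain ⟨s₀, _, huniq⟩ := hST a p₀ a (s p₀) hp₀a hd
        rw [huniq s ⟨hs.1, hs.2, rfl⟩, huniq s' ⟨hs'.1, hs'.2, heq.symm⟩]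
      · intro d hd
        rw [Finset.mem_erase] at hd
        obtain ⟨s₀, hs₀, _⟩ := hST a p₀ a d hp₀a (Ne.symm hd.1)
        exact ⟨s₀, (hmem_T _).mpr ⟨hs₀.1, hs₀.2.1⟩, hs₀.2.2⟩
    rw [e, Finset.card_erase_of_mem (Finset.mem_univ a), Finset.card_univ, hcardX]
    simp
  -- the function g
  let g : Equiv.Perm (ℙ F (Fin (k + 3) → F)) → ℕ := fun s => (h.filter (fun p => s p ∈ h)).card
  have hg : ∀ s ∈ S, g s = ∑ i ∈ Finset.range (k + 2), Nat.card F ^ i ∨
      g s = ∑ i ∈ Finset.range (k + 1), Nat.card F ^ i := by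
    intro s hs
    obtain ⟨σ, f, hf, hsf⟩ := hS s hs
    have hU : Module.finrank F (W₀.comap f) = k + 2 := by rw [finrank_comap f hf W₀, hW₀]
    have hset : ((h.filter (fun p => s p ∈ h) : Finset _) : Set (ℙ F (Fin (k + 3) → F))) =
        pts (W₀ ⊓ W₀.comap f) := by
      ext p
      rw [Finset.coe_filter, Set.mem_ofPred_eq, hmem_h, hmem_h, pts_inf, Set.mem_inter_iff, hsf p]
      apply and_congr_right
      intro _
      induction p using Projectivization.ind with
      | h v hv => rw [Projectivization.map_mk, mk_mem_pts, mk_mem_pts, Submodule.mem_comap]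
    have hgs : g s = (pts (W₀ ⊓ W₀.comap f)).ncard := by rw [← hset, Set.ncard_coe_finset]
    by_cases hUW : W₀ = W₀.comap f
    · left
      rw [hgs, ← hUW, inf_idem]
      exact ncard_pts W₀ (k + 2) hW₀
    · right
      rw [hgs]
      exact ncard_pts _ (k + 1) (finrank_inf_hyperplanes hV W₀ _ hW₀ hU hUW)
  -- double counting
  have hdc : ∑ s ∈ T, g s = h.card * h.card := by
    have key := Finset.sum_card_bipartiteAbove_eq_sum_card_bipartiteBelow (s := T) (t := h ×ˢ h)
      (r := fun (s : Equiv.Perm (ℙ F (Fin (k + 3) → F))) (x : ℙ F (Fin (k + 3) → F) × ℙ F (Fin (k + 3) → F)) => s x.1 = x.2)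
    have lhs : ∀ s ∈ T, ((h ×ˢ h).bipartiteAbove (fun (s : Equiv.Perm (ℙ F (Fin (k + 3) → F))) (x : ℙ F (Fin (k + 3) → F) × ℙ F (Fin (k + 3) → F)) => s x.1 = x.2) s).card = g s := by
      intro s _
      apply Finset.card_nbij' (fun x => x.1) (fun p => (p, s p))
      · intro x hx
        simp only [Finset.bipartiteAbove, Finset.coe_filter, Finset.mem_product, Set.mem_ofPred_eq] at hx
        simp only [Finset.coe_filter, Set.mem_ofPred_eq]
        exact ⟨hx.1.1, by rw [hx.2]; exact hx.1.2⟩
      · intro p hp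
        simp only [Finset.coe_filter, Set.mem_ofPred_eq] at hp
        simp only [Finset.bipartiteAbove, Finset.coe_filter, Finset.mem_product, Set.mem_ofPred_eq]
        exact ⟨⟨hp.1, hp.2⟩, trivial⟩
      · intro x hx
        simp only [Finset.bipartiteAbove, Finset.coe_filter, Finset.mem_product, Set.mem_ofPred_eq] at hx
        exact Prod.ext rfl hx.2
      · intro p _
        rfl
    have rhs : ∀ x ∈ h ×ˢ h, (T.bipartiteBelow (fun (s : Equiv.Perm (ℙ F (Fin (k + 3) → F))) (x : ℙ F (Fin (k + 3) → F) × ℙ F (Fin (k + 3) → F)) => s x.1 = x.2) x).card = 1 := by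
      rintro ⟨p, d⟩ hx
      rw [Finset.mem_product] at hx
      have hpa : a ≠ p := by
        rintro rfl
        exact ha ((hmem_h _).mp hx.1)
      have had : a ≠ d := by
        rintro rfl
        exact ha ((hmem_h _).mp hx.2)
      obtain ⟨s₀, hs₀, huniq⟩ := hST a p a d hpa had
      rw [Finset.card_eq_one]
      refine ⟨s₀, ?_⟩
      ext s
      simp only [Finset.bipartiteBelow, Finset.mem_filter, Finset.mem_singleton, hmem_T]
      constructor
      · rintro ⟨⟨hsS, hsa⟩, hsp⟩
        exact huniq s ⟨hsS, hsa, hsp⟩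
      · rintro rfl
        exact ⟨⟨hs₀.1, hs₀.2.1⟩, hs₀.2.2⟩
    rw [Finset.sum_congr rfl lhs, Finset.sum_congr rfl rhs] at key
    rw [key]
    simp
  -- split the sum
  have hsplit := Finset.sum_filter_add_sum_filter_not T
    (fun s => g s = ∑ i ∈ Finset.range (k + 2), Nat.card F ^ i) g
  have hc1 : ∑ s ∈ T.filter (fun s => g s = ∑ i ∈ Finset.range (k + 2), Nat.card F ^ i), g s =
      (T.filter (fun s => g s = ∑ i ∈ Finset.range (k + 2), Nat.card F ^ i)).card *
        ∑ i ∈ Finset.range (k + 2), Nat.card F ^ i := by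
    rw [Finset.sum_congr rfl (fun s hs => (Finset.mem_filter.mp hs).2), Finset.sum_const, smul_eq_mul]
  have hc2 : ∑ s ∈ T.filter (fun s => ¬ g s = ∑ i ∈ Finset.range (k + 2), Nat.card F ^ i), g s =
      (T.filter (fun s => ¬ g s = ∑ i ∈ Finset.range (k + 2), Nat.card F ^ i)).card *
        ∑ i ∈ Finset.range (k + 1), Nat.card F ^ i := by
    rw [Finset.sum_congr rfl (fun s hs => ?_), Finset.sum_const, smul_eq_mul]
    rw [Finset.mem_filter, hmem_T] at hs
    exact (hg s hs.1.1).resolve_left hs.2
  have hcnt := Finset.card_filter_add_card_filter_not (s := T)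
    (fun s => g s = ∑ i ∈ Finset.range (k + 2), Nat.card F ^ i)
  rw [hc1, hc2, hdc, hcard_h] at hsplit
  rw [hcardT] at hcnt
  exact arith _ _ _ _ _ hq2 hB1 hAB hcnt hsplit

end Cfsg.Agent.S2531
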