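import Cfsg.Statements.S2532
-- import your own Cfsg.Agent.* helpers here

set_option autoImplicit false
open Cfsg

namespace Cfsg.Agent.S2532

section helpers

open MulAction

/-- pigeonhole: `r` points in pairwise distinct orbits with a common stabilizer -/
theorem exists_points {X : Type*} [Fintype X] {H : Type*} [Group H] [Fintype H]
    [MulAction H X] (r : ℕ)
    (hcard : Fintype.card H * (2 ^ Fintype.card H * r) < Fintype.card X) :
    ∃ (L : Subgroup H) (x : Fin r → X), (∀ i, stabilizer H (x i) = L) ∧
      ∀ i j, x i ∈ orbit H (x j) → i = j := by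
  classical
  let Ω := orbitRel.Quotient H X
  let s : Ω → X := Quotient.out
  have hs : ∀ ω : Ω, (Quotient.mk'' (s ω) : Ω) = ω := fun ω => Quotient.out_eq' ω
  -- step 1
  have h1 : Fintype.card X ≤ Fintype.card H * Fintype.card Ω := by
    have := Finset.card_le_mul_card_image (f := (Quotient.mk'' : X → Ω)) Finset.univ (Fintype.card H) (by
      intro a _
      induction a using Quotient.inductionOn' with
      | h y =>
        have hsub : (Finset.univ.filter fun x : X => (Quotient.mk'' x : Ω) = Quotient.mk'' y) ⊆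
            Finset.univ.image (fun h : H => h • y) := by
          intro x hx
          simp only [Finset.mem_filter, Finset.mem_univ, true_and] at hx
          have hx' : x ∈ orbit H y := by
            have := Quotient.exact' hx
            exact (orbitRel_apply).mp this
          obtain ⟨h, hh⟩ := hx'
          exact Finset.mem_image.mpr ⟨h, Finset.mem_univ _, hh⟩
        exact le_trans (Finset.card_le_card hsub) Finset.card_image_le)
    refine le_trans this ?_
    exact Nat.mul_le_mul_left _ (Finset.card_le_univ _)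
  have hHpos : 0 < Fintype.card H := Fintype.card_pos
  have h2 : Fintype.card (Set H) * r < Fintype.card Ω := by
    rw [Fintype.card_set]
    have : Fintype.card H * (2 ^ Fintype.card H * r) < Fintype.card H * Fintype.card Ω :=
      lt_of_lt_of_le hcard h1
    exact Nat.lt_of_mul_lt_mul_left this
  obtain ⟨Lset, hL⟩ := Fintype.exists_lt_card_fiber_of_mul_lt_card
    (fun ω : Ω => ((stabilizer H (s ω) : Subgroup H) : Set H)) h2
  have hne : (Finset.univ.filter fun ω : Ω => ((stabilizer H (s ω) : Subgroup H) : Set H) = Lset).Nonempty := by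
    rw [← Finset.card_pos]
    exact lt_of_le_of_lt (Nat.zero_le _) hL
  obtain ⟨ω₀, hω₀⟩ := hne
  simp only [Finset.mem_filter, Finset.mem_univ, true_and] at hω₀
  have hcardsub : Fintype.card (Fin r) ≤ Fintype.card {ω : Ω // ((stabilizer H (s ω) : Subgroup H) : Set H) = Lset} := by
    rw [Fintype.card_fin, Fintype.card_subtype]
    exact hL.le
  obtain ⟨e⟩ := Function.Embedding.nonempty_of_card_le hcardsub
  refine ⟨stabilizer H (s ω₀), fun i => s (e i).1, ?_, ?_⟩
  · intro i
    apply SetLike.coe_injective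
    rw [(e i).2, hω₀]
  · intro i j hij
    have h3 : (Quotient.mk'' (s (e i).1) : Ω) = Quotient.mk'' (s (e j).1) :=
      Quotient.sound' ((orbitRel_apply).mpr hij)
    rw [hs, hs] at h3
    exact e.injective (Subtype.ext h3)

variable {X : Type*} {H : Type*} [Group H] [MulAction H X]

/-- the map `(i, hL) ↦ h • x i` -/
def iota (L : Subgroup H) {r : ℕ} (x : Fin r → X) (hx : ∀ i, stabilizer H (x i) = L) :
    Fin r × (H ⧸ L) → X :=
  fun p => Quotient.liftOn' p.2 (fun h => h • x p.1) (by
    intro a b hab
    rw [QuotientGroup.leftRel_apply] at hab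
    rw [← hx p.1, mem_stabilizer_iff] at hab
    show a • x p.1 = b • x p.1
    calc a • x p.1 = a • ((a⁻¹ * b) • x p.1) := by rw [hab]
      _ = b • x p.1 := by rw [smul_smul, mul_inv_cancel_left])

theorem iota_mk (L : Subgroup H) {r : ℕ} (x : Fin r → X) (hx : ∀ i, stabilizer H (x i) = L)
    (i : Fin r) (h : H) : iota L x hx (i, (h : H ⧸ L)) = h • x i := rfl

theorem iota_injective (L : Subgroup H) {r : ℕ} (x : Fin r → X) (hx : ∀ i, stabilizer H (x i) = L)
    (hdis : ∀ i j, x i ∈ orbit H (x j) → i = j) : Function.Injective (iota L x hx) := by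
  rintro ⟨i, q⟩ ⟨j, q'⟩ heq
  induction q using QuotientGroup.induction_on with
  | H a =>
  induction q' using QuotientGroup.induction_on with
  | H b =>
  rw [iota_mk, iota_mk] at heq
  have hij : i = j := by
    apply hdis
    refine ⟨a⁻¹ * b, ?_⟩
    show (a⁻¹ * b) • x j = x i
    rw [mul_smul, ← heq, smul_smul, inv_mul_cancel, one_smul]
  subst hij
  have : a⁻¹ * b ∈ L := by
    rw [← hx i, mem_stabilizer_iff, mul_smul, ← heq, smul_smul, inv_mul_cancel, one_smul]
  rw [Prod.mk.injEq]
  exact ⟨rfl, QuotientGroup.eq.mpr this⟩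

theorem iota_smul (L : Subgroup H) {r : ℕ} (x : Fin r → X) (hx : ∀ i, stabilizer H (x i) = L)
    (h : H) (i : Fin r) (q : H ⧸ L) : h • iota L x hx (i, q) = iota L x hx (i, h • q) := by
  induction q using QuotientGroup.induction_on with
  | H a =>
  rw [iota_mk]
  show h • a • x i = iota L x hx (i, ((h * a : H) : H ⧸ L))
  rw [iota_mk, mul_smul]

/-- permutations of `Fin r` acting on the first factor of a product -/
def liftHom (Q : Type*) (r : ℕ) : Equiv.Perm (Fin r) →* Equiv.Perm (Fin r × Q) where
  toFun σ := Equiv.prodCongr σ (Equiv.refl Q)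
  map_one' := by ext p <;> simp
  map_mul' σ τ := by ext p <;> simp

theorem liftHom_apply (Q : Type*) (r : ℕ) (σ : Equiv.Perm (Fin r)) (p : Fin r × Q) :
    liftHom Q r σ p = (σ p.1, p.2) := rfl

theorem exists_centralizing_hom {X : Type*} [Fintype X] {H : Type*} [Group H] [Fintype H]
    [MulAction H X] (r : ℕ)
    (hcard : Fintype.card H * (2 ^ Fintype.card H * r) < Fintype.card X) :
    ∃ Φ : Equiv.Perm (Fin r) →* Equiv.Perm X, Function.Injective Φ ∧
      ∀ (h : H) (σ : Equiv.Perm (Fin r)) (y : X), Φ σ (h • y) = h • Φ σ y := by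
  classical
  obtain ⟨L, x, hx, hdis⟩ := exists_points (X := X) (H := H) r hcard
  let ι : Fin r × (H ⧸ L) ↪ X := ⟨iota L x hx, iota_injective L x hx hdis⟩
  refine ⟨(Equiv.Perm.viaEmbeddingHom ι).comp (liftHom (H ⧸ L) r), ?_, ?_⟩
  · apply (Equiv.Perm.viaEmbeddingHom_injective ι).comp
    intro σ τ hστ
    ext i
    have := congrArg (fun e : Equiv.Perm (Fin r × (H ⧸ L)) => (e (i, ((1 : H) : H ⧸ L))).1) hστ
    simp only [liftHom_apply] at this
    rw [this]
  · intro h σ y
    simp only [MonoidHom.comp_apply, Equiv.Perm.viaEmbeddingHom_apply]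
    by_cases hy : y ∈ Set.range ι
    · obtain ⟨⟨i, q⟩, rfl⟩ := hy
      have e1 : h • ι (i, q) = ι (i, h • q) := iota_smul L x hx h i q
      rw [e1, Equiv.Perm.viaEmbedding_apply, Equiv.Perm.viaEmbedding_apply, liftHom_apply, liftHom_apply]
      exact (iota_smul L x hx h (σ i) q).symm
    · have hy' : h • y ∉ Set.range ι := by
        rintro ⟨⟨i, q⟩, hq⟩
        apply hy
        refine ⟨(i, h⁻¹ • q), ?_⟩
        have e1 : ι (i, h⁻¹ • q) = h⁻¹ • ι (i, q) := (iota_smul L x hx h⁻¹ i q).symm
        rw [e1, hq, smul_smul, inv_mul_cancel, one_smul]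
      rw [Equiv.Perm.viaEmbedding_apply_of_notMem _ _ _ hy', Equiv.Perm.viaEmbedding_apply_of_notMem _ _ _ hy]

/-- any homomorphism from a symmetric group to a symmetric group maps even permutations to even permutations -/
theorem map_mem_alternating {α β : Type*} [Fintype α] [DecidableEq α] [Fintype β] [DecidableEq β]
    (Φ : Equiv.Perm α →* Equiv.Perm β) (σ : Equiv.Perm α) (hσ : σ ∈ alternatingGroup α) :
    Φ σ ∈ alternatingGroup β := by
  have hle : alternatingGroup α ≤ (Equiv.Perm.sign.comp Φ).ker := by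
    rw [← Equiv.Perm.closure_three_cycles_eq_alternating, Subgroup.closure_le]
    intro c hc
    have h3 : c ^ 3 = 1 := by
      have := hc.orderOf
      rw [← this]
      exact pow_orderOf_eq_one c
    rw [SetLike.mem_coe, MonoidHom.mem_ker]
    have h4 : (Equiv.Perm.sign.comp Φ) c ^ 3 = 1 := by rw [← map_pow, h3, map_one]
    have h5 : (Equiv.Perm.sign.comp Φ) c ^ 2 = 1 := Int.units_sq _
    calc (Equiv.Perm.sign.comp Φ) c = (Equiv.Perm.sign.comp Φ) c ^ 3 * ((Equiv.Perm.sign.comp Φ) c ^ 2)⁻¹ := by group
      _ = 1 := by rw [h4, h5]; simp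
  have := hle hσ
  rw [MonoidHom.mem_ker] at this
  exact Equiv.Perm.mem_alternatingGroup.mpr this

end helpers

/-- There is a function `f` of two natural-number arguments such that, whenever `m ≥ f(n, r)`, every subgroup of order `n` of the alternating group of degree `m` centralizes some subgroup of that alternating group isomorphic to the alternating group of degree `r`. -/
theorem result :
    ∃ f : ℕ → ℕ → ℕ, ∀ (m r : ℕ) (H : Subgroup ↥(alternatingGroup (Fin m))), f (Nat.card H) r ≤ m →
      ∃ K : Subgroup ↥(alternatingGroup (Fin m)), Nonempty (↥K ≃* ↥(alternatingGroup (Fin r))) ∧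
        K ≤ Subgroup.centralizer (H : Set ↥(alternatingGroup (Fin m))) := by
  classical
  refine ⟨fun n r => n * (2 ^ n * r) + 1, ?_⟩
  intro m r H hm
  have : Fintype H := Fintype.ofFinite H
  have hcard : Fintype.card H * (2 ^ Fintype.card H * r) < Fintype.card (Fin m) := by
    rw [Fintype.card_fin]
    rw [Nat.card_eq_fintype_card] at hm
    exact hm
  obtain ⟨Φ, hΦinj, hΦ⟩ := exists_centralizing_hom (X := Fin m) (H := H) r hcard
  let Ψ : alternatingGroup (Fin r) →* alternatingGroup (Fin m) :=
    MonoidHom.codRestrict (Φ.comp (alternatingGroup (Fin r)).subtype) (alternatingGroup (Fin m))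
      (fun σ => map_mem_alternating Φ σ.1 σ.2)
  have hΨinj : Function.Injective Ψ := by
    intro a b hab
    have := congrArg (fun z : alternatingGroup (Fin m) => (z : Equiv.Perm (Fin m))) hab
    exact Subtype.ext (hΦinj this)
  refine ⟨Ψ.range, ⟨(MonoidHom.ofInjective hΨinj).symm⟩, ?_⟩
  rintro _ ⟨σ, rfl⟩
  rw [Subgroup.mem_centralizer_iff]
  intro h hh
  apply Subtype.ext
  ext y
  have := hΦ ⟨h, hh⟩ σ.1 y
  simp only [Subgroup.coe_mul]
  rw [Equiv.Perm.mul_apply, Equiv.Perm.mul_apply]
  exact congrArg _ this.symm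

end Cfsg.Agent.S2532
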