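import Cfsg.Statements.S2533
import Mathlib
import Cfsg.Agent.Lib.helper47.SLReindex
-- import your own Cfsg.Agent.* helpers here

set_option autoImplicit false
set_option linter.unusedSectionVars false
open Cfsg

namespace Cfsg.Agent.S2533

open Cfsg.Agent.Lib.helper47

/-- the generalized dihedral group on `(ZMod p)^3` -/
@[ext] structure Dih (p : ℕ) where
  /-- the translation part -/
  v : Fin 3 → ZMod p
  /-- the sign -/
  s : ℤˣ

section dih

variable {p : ℕ}

instance : Mul (Dih p) := ⟨fun a b => ⟨a.v + (a.s : ℤ) • b.v, a.s * b.s⟩⟩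
instance : One (Dih p) := ⟨⟨0, 1⟩⟩
instance : Inv (Dih p) := ⟨fun a => ⟨-((a.s : ℤ) • a.v), a.s⟩⟩

theorem mul_v (a b : Dih p) : (a * b).v = a.v + (a.s : ℤ) • b.v := rfl
theorem mul_s (a b : Dih p) : (a * b).s = a.s * b.s := rfl
theorem one_v : (1 : Dih p).v = 0 := rfl
theorem one_s : (1 : Dih p).s = 1 := rfl
theorem inv_v (a : Dih p) : (a⁻¹).v = -((a.s : ℤ) • a.v) := rfl
theorem inv_s (a : Dih p) : (a⁻¹).s = a.s := rfl

instance : Group (Dih p) where
  mul_assoc a b c := by
    apply Dih.ext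
    · simp only [mul_v, mul_s, Units.val_mul, smul_add, mul_smul, add_assoc]
    · simp only [mul_s, mul_assoc]
  one_mul a := by
    apply Dih.ext
    · simp [mul_v, one_v, one_s]
    · simp [mul_s, one_s]
  mul_one a := by
    apply Dih.ext
    · simp [mul_v, one_v]
    · simp [mul_s, one_s]
  inv_mul_cancel a := by
    apply Dih.ext
    · simp [mul_v, inv_v, inv_s, one_v]
    · simp [mul_s, inv_s, one_s]

/-- `Dih p` as a product -/
def dihEquiv : Dih p ≃ (Fin 3 → ZMod p) × ℤˣ where
  toFun a := (a.v, a.s)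
  invFun q := ⟨q.1, q.2⟩
  left_inv a := rfl
  right_inv q := rfl

theorem card_dih [Fact p.Prime] : Nat.card (Dih p) = 2 * p ^ 3 := by
  rw [Nat.card_congr dihEquiv, Nat.card_prod, Nat.card_eq_fintype_card, Nat.card_eq_fintype_card,
    Fintype.card_units_int, Fintype.card_fun, ZMod.card, Fintype.card_fin, mul_comm]

instance [Fact p.Prime] : Finite (Dih p) := Finite.of_equiv _ dihEquiv.symm

end dih

section matrices

variable {F : Type*} [Field F] {m : ℕ} [NeZero m]

/-- the cyclic shift -/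
def shiftM : Matrix (ZMod m) (ZMod m) F := Matrix.of fun i j => if i = j + 1 then 1 else 0

/-- the corner idempotent -/
def cornerM : Matrix (ZMod m) (ZMod m) F := Matrix.of fun i j => if i = 0 ∧ j = 0 then 1 else 0

theorem shiftM_apply (i j : ZMod m) : (shiftM : Matrix (ZMod m) (ZMod m) F) i j =
    if i = j + 1 then 1 else 0 := rfl

theorem cornerM_apply (i j : ZMod m) : (cornerM : Matrix (ZMod m) (ZMod m) F) i j =
    if i = 0 ∧ j = 0 then 1 else 0 := rfl

/-- a matrix commuting with the shift and the corner idempotent is scalar -/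
theorem comm_lemma (a : Matrix (ZMod m) (ZMod m) F) (hS : a * shiftM = shiftM * a)
    (hE : a * cornerM = cornerM * a) : a = a 0 0 • (1 : Matrix (ZMod m) (ZMod m) F) := by
  classical
  have h1 : ∀ i j : ZMod m, a i (j + 1) = a (i - 1) j := by
    intro i j
    have h := congrFun (congrFun hS i) j
    rw [Matrix.mul_apply, Matrix.mul_apply] at h
    rw [Finset.sum_eq_single (j + 1), Finset.sum_eq_single (i - 1)] at h
    · simpa [shiftM_apply] using h
    · intro b _ hb
      have : ¬ i = b + 1 := by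
        intro h'
        apply hb
        rw [h']
        ring
      simp [shiftM_apply, this]
    · intro h'
      exact absurd (Finset.mem_univ _) h'
    · intro b _ hb
      simp [shiftM_apply, hb]
    · intro h'
      exact absurd (Finset.mem_univ _) h'
  have h2 : ∀ i : ZMod m, i ≠ 0 → a i 0 = 0 := by
    intro i hi
    have h := congrFun (congrFun hE i) 0
    rw [Matrix.mul_apply, Matrix.mul_apply] at h
    rw [Finset.sum_eq_single 0, Finset.sum_eq_single 0] at h
    · simpa [cornerM_apply, hi] using h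
    · intro b _ hb
      simp [cornerM_apply, hi]
    · intro h'
      exact absurd (Finset.mem_univ _) h'
    · intro b _ hb
      simp [cornerM_apply, hb]
    · intro h'
      exact absurd (Finset.mem_univ _) h'
  have h3 : ∀ (k : ℕ) (i j : ZMod m), a (i + k) (j + k) = a i j := by
    intro k
    induction k with
    | zero => intro i j; simp
    | succ k ih =>
      intro i j
      have := h1 (i + (k + 1 : ℕ)) (j + k)
      have e1 : j + ((k + 1 : ℕ) : ZMod m) = j + k + 1 := by push_cast; ring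
      have e2 : i + ((k + 1 : ℕ) : ZMod m) - 1 = i + k := by push_cast; ring
      rw [e1, this, e2, ih]
  ext i j
  have h4 : a i j = a (i - j) 0 := by
    have := h3 j.val (i - j) 0
    rw [ZMod.natCast_zmod_val] at this
    rw [← this]
    congr 1 <;> ring
  rw [h4, Matrix.smul_apply, Matrix.one_apply]
  by_cases hij : i = j
  · subst hij
    simp
  · have : i - j ≠ 0 := sub_ne_zero.mpr hij
    rw [h2 _ this]
    simp [hij]

/-- the off-diagonal block of the representation -/
def xMat (v : Fin 3 → F) : Matrix (ZMod m) (ZMod m) F :=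
  v 0 • (1 : Matrix (ZMod m) (ZMod m) F) + v 1 • shiftM + v 2 • cornerM

theorem xMat_add (v w : Fin 3 → F) : (xMat (v + w) : Matrix (ZMod m) (ZMod m) F) =
    xMat v + xMat w := by
  simp only [xMat, Pi.add_apply, add_smul]
  abel

theorem xMat_smul (c : F) (v : Fin 3 → F) : (xMat (c • v) : Matrix (ZMod m) (ZMod m) F) =
    c • xMat v := by
  simp only [xMat, Pi.smul_apply, smul_eq_mul, smul_add, mul_smul]

theorem xMat_zero : (xMat (0 : Fin 3 → F) : Matrix (ZMod m) (ZMod m) F) = 0 := by
  simp [xMat]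

theorem xMat_eq_zero (hm : 2 ≤ m) (v : Fin 3 → F)
    (h : (xMat v : Matrix (ZMod m) (ZMod m) F) = 0) : v = 0 := by
  have : Fact (1 < m) := ⟨by omega⟩
  have h10 : (1 : ZMod m) ≠ 0 := one_ne_zero
  have e10 := congrFun (congrFun h 1) 0
  have e11 := congrFun (congrFun h 1) 1
  have e00 := congrFun (congrFun h 0) 0
  simp [xMat, shiftM_apply, cornerM_apply, h10] at e10 e11 e00
  ext i
  fin_cases i
  · exact e11
  · exact e10
  · simpa [e11] using e00

end matrices

section rep

variable {p : ℕ} [Fact p.Prime] {m : ℕ} [NeZero m]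

/-- the matrix of an element of `Dih p` -/
def repMat (a : Dih p) : Matrix (ZMod m ⊕ ZMod m) (ZMod m ⊕ ZMod m) (ZMod p) :=
  Matrix.fromBlocks 1 0 (xMat a.v) (((a.s : ℤ) : ZMod p) • (1 : Matrix (ZMod m) (ZMod m) (ZMod p)))

theorem repMat_mul (a b : Dih p) :
    (repMat (a * b) : Matrix (ZMod m ⊕ ZMod m) (ZMod m ⊕ ZMod m) (ZMod p)) =
      repMat a * repMat b := by
  rw [repMat, repMat, repMat, Matrix.fromBlocks_multiply]
  congr 1
  · simp
  · simp
  · rw [mul_v, xMat_add, ← Int.cast_smul_eq_zsmul (ZMod p), xMat_smul]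
    simp
  · rw [mul_s]
    simp [mul_smul]
    rw [smul_comm]

theorem repMat_one :
    (repMat (1 : Dih p) : Matrix (ZMod m ⊕ ZMod m) (ZMod m ⊕ ZMod m) (ZMod p)) = 1 := by
  rw [repMat, one_v, one_s, xMat_zero]
  simp [Matrix.fromBlocks_one]

theorem det_repMat (hm : Even m) (a : Dih p) :
    (repMat a : Matrix (ZMod m ⊕ ZMod m) (ZMod m ⊕ ZMod m) (ZMod p)).det = 1 := by
  rw [repMat, Matrix.det_fromBlocks_zero₁₂, Matrix.det_one, one_mul, Matrix.det_smul,
    Matrix.det_one, mul_one, ZMod.card]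
  obtain ⟨k, rfl⟩ := hm
  rcases Int.units_eq_one_or a.s with h | h
  · simp [h]
  · simp [h, ← two_mul, pow_mul]

/-- an element of `SL` from a matrix -/
def mkSL (M : Matrix (ZMod m ⊕ ZMod m) (ZMod m ⊕ ZMod m) (ZMod p)) (h : M.det = 1) :
    Matrix.SpecialLinearGroup (ZMod m ⊕ ZMod m) (ZMod p) := ⟨M, h⟩

theorem mkSL_coe (M : Matrix (ZMod m ⊕ ZMod m) (ZMod m ⊕ ZMod m) (ZMod p)) (h : M.det = 1) :
    (mkSL M h : Matrix (ZMod m ⊕ ZMod m) (ZMod m ⊕ ZMod m) (ZMod p)) = M := rfl

/-- the representation -/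
def psi (hm : Even m) : Dih p →* Matrix.SpecialLinearGroup (ZMod m ⊕ ZMod m) (ZMod p) where
  toFun a := mkSL (repMat a) (det_repMat hm a)
  map_one' := by
    apply Subtype.ext
    rw [mkSL_coe, repMat_one, Matrix.SpecialLinearGroup.coe_one]
  map_mul' a b := by
    apply Subtype.ext
    rw [mkSL_coe, Matrix.SpecialLinearGroup.coe_mul, mkSL_coe, mkSL_coe, repMat_mul]

theorem psi_coe (hm : Even m) (a : Dih p) :
    ((psi hm a : Matrix.SpecialLinearGroup (ZMod m ⊕ ZMod m) (ZMod p)) :
      Matrix (ZMod m ⊕ ZMod m) (ZMod m ⊕ ZMod m) (ZMod p)) = repMat a := rfl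

theorem two_ne_zero' (hp : p ≠ 2) : (2 : ZMod p) ≠ 0 := by
  intro h
  have h1 : ((2 : ℕ) : ZMod p) = 0 := by exact_mod_cast h
  rw [ZMod.natCast_eq_zero_iff] at h1
  exact hp ((Nat.prime_dvd_prime_iff_eq (Fact.out : p.Prime) Nat.prime_two).mp h1)

/-- scalar elements of the image are trivial -/
theorem eq_one_of_scalar (hp : p ≠ 2) (hm : 2 ≤ m) (a : Dih p) (r : ZMod p)
    (h : Matrix.scalar (ZMod m ⊕ ZMod m) r = repMat a) : a = 1 := by
  have h00 := congrFun (congrFun h (Sum.inl 0)) (Sum.inl 0)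
  have h11 := congrFun (congrFun h (Sum.inr 0)) (Sum.inr 0)
  simp [repMat] at h00 h11
  have hX : (xMat a.v : Matrix (ZMod m) (ZMod m) (ZMod p)) = 0 := by
    ext i j
    have := congrFun (congrFun h (Sum.inr i)) (Sum.inl j)
    simp [repMat] at this
    rw [← this]
    rfl
  have hv := xMat_eq_zero hm a.v hX
  have hs : a.s = 1 := by
    rcases Int.units_eq_one_or a.s with h' | h'
    · exact h'
    · exfalso
      rw [h', h00] at h11
      apply two_ne_zero' hp
      simp at h11
      linear_combination h11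
  apply Dih.ext
  · rw [hv, one_v]
  · rw [hs, one_s]

theorem trace_lemma {ι : Type*} [Fintype ι] [DecidableEq ι] {K : Type*} [Field K]
    (G Gi M : Matrix ι ι K) (h1 : G * Gi = 1) (r : K) (h : G * M = r • (M * G))
    (htr : M.trace ≠ 0) : r = 1 := by
  have h2 : Gi * G = 1 := mul_eq_one_comm.mp h1
  have h3 : M.trace = r * M.trace := by
    calc M.trace = (Gi * G * M).trace := by rw [h2, Matrix.one_mul]
      _ = (Gi * (r • (M * G))).trace := by rw [Matrix.mul_assoc, h]
      _ = r * (Gi * (M * G)).trace := by rw [Matrix.mul_smul, Matrix.trace_smul, smul_eq_mul]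
      _ = r * (M * G * Gi).trace := by rw [Matrix.trace_mul_comm]
      _ = r * M.trace := by rw [Matrix.mul_assoc, h1, Matrix.mul_one]
  have h4 : (r - 1) * M.trace = 0 := by linear_combination -h3
  rcases mul_eq_zero.mp h4 with h5 | h5
  · linear_combination h5
  · exact absurd h5 htr

/-- the main computation: a matrix normalizing the image up to scalars is scalar -/
theorem scalar_of_twisted_comm (hp : p ≠ 2) (htr : (m : ZMod p) + (m : ZMod p) ≠ 0)
    (G : Matrix.SpecialLinearGroup (ZMod m ⊕ ZMod m) (ZMod p))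
    (hG : ∀ a : Dih p, ∃ r : ZMod p,
      (G : Matrix (ZMod m ⊕ ZMod m) (ZMod m ⊕ ZMod m) (ZMod p)) * repMat a =
        r • (repMat a * (G : Matrix (ZMod m ⊕ ZMod m) (ZMod m ⊕ ZMod m) (ZMod p)))) :
    ∃ μ : ZMod p, Matrix.scalar (ZMod m ⊕ ZMod m) μ =
      (G : Matrix (ZMod m ⊕ ZMod m) (ZMod m ⊕ ZMod m) (ZMod p)) := by
  have h2 := two_ne_zero' hp
  have hGi : (G : Matrix (ZMod m ⊕ ZMod m) (ZMod m ⊕ ZMod m) (ZMod p)) *
      ((G⁻¹ : Matrix.SpecialLinearGroup (ZMod m ⊕ ZMod m) (ZMod p)) :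
        Matrix (ZMod m ⊕ ZMod m) (ZMod m ⊕ ZMod m) (ZMod p)) = 1 := by
    rw [← Matrix.SpecialLinearGroup.coe_mul, mul_inv_cancel, Matrix.SpecialLinearGroup.coe_one]
  -- unipotent elements commute honestly
  have hcomm : ∀ v : Fin 3 → ZMod p,
      (G : Matrix (ZMod m ⊕ ZMod m) (ZMod m ⊕ ZMod m) (ZMod p)) * repMat ⟨v, 1⟩ =
        repMat ⟨v, 1⟩ * (G : Matrix (ZMod m ⊕ ZMod m) (ZMod m ⊕ ZMod m) (ZMod p)) := by
    intro v
    obtain ⟨r, hr⟩ := hG ⟨v, 1⟩
    have htr' : (repMat (⟨v, 1⟩ : Dih p) :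
        Matrix (ZMod m ⊕ ZMod m) (ZMod m ⊕ ZMod m) (ZMod p)).trace ≠ 0 := by
      have h5 : (repMat (⟨v, 1⟩ : Dih p) :
          Matrix (ZMod m ⊕ ZMod m) (ZMod m ⊕ ZMod m) (ZMod p)).trace = (m : ZMod p) + m := by
        rw [repMat, Matrix.trace, Fintype.sum_sum_type]
        simp [Matrix.diag, Matrix.one_apply, ZMod.card]
      rw [h5]
      exact htr
    have hr1 := trace_lemma _ _ _ hGi r hr htr'
    rw [hr, hr1, one_smul]
  set a := (G : Matrix (ZMod m ⊕ ZMod m) (ZMod m ⊕ ZMod m) (ZMod p)).toBlocks₁₁ with ha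
  set b := (G : Matrix (ZMod m ⊕ ZMod m) (ZMod m ⊕ ZMod m) (ZMod p)).toBlocks₁₂ with hb
  set c := (G : Matrix (ZMod m ⊕ ZMod m) (ZMod m ⊕ ZMod m) (ZMod p)).toBlocks₂₁ with hc
  set d := (G : Matrix (ZMod m ⊕ ZMod m) (ZMod m ⊕ ZMod m) (ZMod p)).toBlocks₂₂ with hd
  have hGb : (G : Matrix (ZMod m ⊕ ZMod m) (ZMod m ⊕ ZMod m) (ZMod p)) =
      Matrix.fromBlocks a b c d := (Matrix.fromBlocks_toBlocks _).symm
  have hblocks : ∀ v : Fin 3 → ZMod p, b * xMat v = 0 ∧ d * xMat v = xMat v * a := by
    intro v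
    have h := hcomm v
    rw [hGb, repMat, Matrix.fromBlocks_multiply, Matrix.fromBlocks_multiply,
      Matrix.fromBlocks_inj] at h
    obtain ⟨h11, -, h21, -⟩ := h
    simp only [Units.val_one, Int.cast_one, one_smul, Matrix.mul_one, Matrix.one_mul,
      Matrix.zero_mul, Matrix.mul_zero, add_zero, zero_add] at h11 h21
    refine ⟨?_, ?_⟩
    · have := h11
      rw [add_eq_left] at this
      exact this
    · have := h21
      rw [add_comm] at this
      exact add_right_cancel this
  -- the three basis vectors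
  have hx0 : (xMat (fun i : Fin 3 => if i = 0 then (1 : ZMod p) else 0) :
      Matrix (ZMod m) (ZMod m) (ZMod p)) = 1 := by
    simp [xMat]
  have hx1 : (xMat (fun i : Fin 3 => if i = 1 then (1 : ZMod p) else 0) :
      Matrix (ZMod m) (ZMod m) (ZMod p)) = shiftM := by
    simp [xMat]
  have hx2 : (xMat (fun i : Fin 3 => if i = 2 then (1 : ZMod p) else 0) :
      Matrix (ZMod m) (ZMod m) (ZMod p)) = cornerM := by
    simp [xMat]
  have hb0 : b = 0 := by
    have := (hblocks (fun i : Fin 3 => if i = 0 then (1 : ZMod p) else 0)).1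
    rw [hx0, Matrix.mul_one] at this
    exact this
  have hda : d = a := by
    have := (hblocks (fun i : Fin 3 => if i = 0 then (1 : ZMod p) else 0)).2
    rw [hx0, Matrix.mul_one, Matrix.one_mul] at this
    exact this
  have hS : a * shiftM = shiftM * a := by
    have := (hblocks (fun i : Fin 3 => if i = 1 then (1 : ZMod p) else 0)).2
    rw [hx1, hda] at this
    exact this
  have hE : a * cornerM = cornerM * a := by
    have := (hblocks (fun i : Fin 3 => if i = 2 then (1 : ZMod p) else 0)).2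
    rw [hx2, hda] at this
    exact this
  have hscal := comm_lemma a hS hE
  set μ := a 0 0 with hμ
  have hμ0 : μ ≠ 0 := by
    intro h0
    have hdet := G.det_coe
    rw [hGb, hb0, Matrix.det_fromBlocks_zero₁₂, hscal, h0, zero_smul, Matrix.det_zero, zero_mul]
      at hdet
    exact zero_ne_one hdet
  -- the involution
  obtain ⟨r, hr⟩ := hG ⟨0, -1⟩
  rw [hGb, repMat, xMat_zero, Matrix.fromBlocks_multiply, Matrix.fromBlocks_multiply,
    Matrix.fromBlocks_smul, Matrix.fromBlocks_inj] at hr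
  obtain ⟨h11, -, h21, -⟩ := hr
  simp only [Matrix.mul_one, Matrix.one_mul, Matrix.zero_mul, Matrix.mul_zero, add_zero,
    zero_add] at h11 h21
  have hr1 : r = 1 := by
    rw [hscal] at h11
    have := congrFun (congrFun h11 0) 0
    simp at this
    have h5 : (r - 1) * μ = 0 := by linear_combination -this
    rcases mul_eq_zero.mp h5 with h6 | h6
    · linear_combination h6
    · exact absurd h6 hμ0
  have hc0 : c = 0 := by
    rw [hr1, one_smul] at h21
    simp at h21
    ext i j
    have := congrFun (congrFun h21 i) j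
    simp at this
    have h5 : (2 : ZMod p) * c i j = 0 := by linear_combination this
    rcases mul_eq_zero.mp h5 with h6 | h6
    · exact absurd h6 h2
    · simpa using h6
  refine ⟨μ, ?_⟩
  rw [hGb, hb0, hc0, hda, hscal]
  ext i j
  rcases i with i | i <;> rcases j with j | j <;>
    simp [Matrix.scalar_apply, Matrix.diagonal_apply, Matrix.one_apply]

end rep


/-- For every odd prime `p` there is a finite group `H` of order `2p³` which, for infinitely many `n`, embeds in the projective special linear group `PSL(n, p)` as a subgroup with trivial centralizer. -/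
theorem result
    (p : ℕ) [Fact p.Prime] (hp : p ≠ 2) :
    ∃ (H : Type) (_ : Group H) (_ : Finite H), Nat.card H = 2 * p ^ 3 ∧
      ∀ N : ℕ, ∃ n, N ≤ n ∧ ∃ φ : H →* Matrix.ProjectiveSpecialLinearGroup (Fin n) (ZMod p),
        Function.Injective φ ∧ Subgroup.centralizer (φ.range : Set (Matrix.ProjectiveSpecialLinearGroup (Fin n) (ZMod p))) = ⊥ := by
  classical
  refine ⟨Dih p, inferInstance, inferInstance, card_dih, ?_⟩
  intro N
  have hpp : p.Prime := Fact.out
  have hNle : N ≤ p * N := Nat.le_mul_of_pos_left N hpp.pos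
  obtain ⟨m, hm⟩ : ∃ m, m = 2 * (p * N + 1) := ⟨_, rfl⟩
  have : NeZero m := ⟨by omega⟩
  have hmeven : Even m := ⟨p * N + 1, by omega⟩
  have hm2 : 2 ≤ m := by omega
  have htr : (m : ZMod p) + (m : ZMod p) ≠ 0 := by
    intro h
    have h1 : ((m + m : ℕ) : ZMod p) = 0 := by
      push_cast
      exact h
    rw [ZMod.natCast_eq_zero_iff] at h1
    have h3 : m + m = p * (4 * N) + 4 := by rw [hm]; ring
    rw [h3] at h1
    have h4 : p ∣ 4 := (Nat.dvd_add_right (Dvd.intro _ rfl)).mp h1
    have h5 : p ∣ 2 := by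
      have h6 : p ∣ 2 ^ 2 := by
        norm_num
        exact h4
      exact hpp.dvd_of_dvd_pow h6
    exact hp ((Nat.prime_dvd_prime_iff_eq hpp Nat.prime_two).mp h5)
  have hcard : Fintype.card (ZMod m ⊕ ZMod m) = m + m := by simp [ZMod.card]
  obtain ⟨R, hR⟩ : ∃ R : Matrix.SpecialLinearGroup (ZMod m ⊕ ZMod m) (ZMod p) ≃*
      Matrix.SpecialLinearGroup (Fin (m + m)) (ZMod p), R = R :=
    ⟨slReindex (Fintype.equivFinOfCardEq hcard), rfl⟩
  refine ⟨m + m, by omega,
    (QuotientGroup.mk' (Subgroup.center (Matrix.SpecialLinearGroup (Fin (m + m)) (ZMod p)))).comp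
      (R.toMonoidHom.comp (psi hmeven)), ?_, ?_⟩
  · rw [injective_iff_map_eq_one]
    intro a ha
    have h1 : R (psi hmeven a) ∈
        Subgroup.center (Matrix.SpecialLinearGroup (Fin (m + m)) (ZMod p)) := by
      rw [← QuotientGroup.eq_one_iff]
      exact ha
    rw [mulEquiv_mem_center_iff, Matrix.SpecialLinearGroup.mem_center_iff] at h1
    obtain ⟨r, -, hr⟩ := h1
    exact eq_one_of_scalar hp hm2 a r hr
  · rw [eq_bot_iff]
    intro x hx
    rw [Subgroup.mem_bot]
    obtain ⟨g, rfl⟩ := QuotientGroup.mk'_surjective _ x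
    rw [Subgroup.mem_centralizer_iff] at hx
    obtain ⟨G, hGdef⟩ : ∃ G, G = R.symm g := ⟨_, rfl⟩
    have hG : ∀ a : Dih p, ∃ r : ZMod p,
        (G : Matrix (ZMod m ⊕ ZMod m) (ZMod m ⊕ ZMod m) (ZMod p)) * repMat a =
          r • (repMat a * (G : Matrix (ZMod m ⊕ ZMod m) (ZMod m ⊕ ZMod m) (ZMod p))) := by
      intro a
      have h1 := hx (QuotientGroup.mk'
        (Subgroup.center (Matrix.SpecialLinearGroup (Fin (m + m)) (ZMod p)))
        (R (psi hmeven a))) ⟨a, rfl⟩
      rw [← map_mul, ← map_mul, QuotientGroup.mk'_apply, QuotientGroup.mk'_apply,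
        QuotientGroup.eq] at h1
      have h3 := (mulEquiv_mem_center_iff R.symm _).mpr h1
      rw [map_mul, map_inv, map_mul, map_mul, MulEquiv.symm_apply_apply, ← hGdef] at h3
      obtain ⟨z, hz⟩ : ∃ z, z = (psi hmeven a * G)⁻¹ * (G * psi hmeven a) := ⟨_, rfl⟩
      rw [← hz, Matrix.SpecialLinearGroup.mem_center_iff] at h3
      obtain ⟨r, -, hr⟩ := h3
      refine ⟨r, ?_⟩
      have h4 : G * psi hmeven a = psi hmeven a * G * z := by
        rw [hz]
        group
      have h5 := congrArg (fun w : Matrix.SpecialLinearGroup (ZMod m ⊕ ZMod m) (ZMod p) =>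
        (w : Matrix (ZMod m ⊕ ZMod m) (ZMod m ⊕ ZMod m) (ZMod p))) h4
      simp only [Matrix.SpecialLinearGroup.coe_mul, psi_coe] at h5
      rw [h5, ← hr, Matrix.scalar_apply, ← Matrix.smul_one_eq_diagonal, Matrix.mul_smul,
        Matrix.mul_one]
    obtain ⟨μ, hμ⟩ := scalar_of_twisted_comm hp htr G hG
    have hGc : G ∈ Subgroup.center (Matrix.SpecialLinearGroup (ZMod m ⊕ ZMod m) (ZMod p)) := by
      rw [Matrix.SpecialLinearGroup.mem_center_iff]
      refine ⟨μ, ?_, hμ⟩
      have hdet := G.det_coe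
      rw [← hμ, Matrix.scalar_apply, Matrix.det_diagonal, Finset.prod_const, Finset.card_univ]
        at hdet
      exact hdet
    have hgc : g ∈ Subgroup.center (Matrix.SpecialLinearGroup (Fin (m + m)) (ZMod p)) := by
      have h7 : R G = g := by rw [hGdef, MulEquiv.apply_symm_apply]
      rw [← h7, mulEquiv_mem_center_iff]
      exact hGc
    rw [QuotientGroup.mk'_apply, QuotientGroup.eq_one_iff]
    exact hgc

end Cfsg.Agent.S2533
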