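import Mathlib
import Cfsg.Statements.S2537
import Cfsg.Agent.Lib.helper46.Hall23
import Cfsg.Agent.S0802
import Cfsg.Agent.S0803

set_option autoImplicit false
open Cfsg

namespace Cfsg.Agent.S2537

open Cfsg.Agent.Lib.helper46 in
/-- Let `F` be a finite field with `q` elements of characteristic `p ≥ 5`, and `ε = 1` if `q ≡ 1 (mod 4)`, `ε = -1` otherwise. Then `PSL(2, F)` has a Hall `{2, 3}`-subgroup if and only if `3` divides `q − ε`, or the `{2,3}`-part of `q² − 1` is 24, or the `{2,3}`-part of `q² − 1` is 48 (the `{2,3}`-part of `m` being the largest divisor of `m` with no prime factor other than 2 and 3). -/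
theorem result {F : Type*} [Field F] [Fintype F] {p : ℕ} [Fact p.Prime] [CharP F p]
    (hp : 5 ≤ p) (q : ℕ) (hq : Fintype.card F = q) :
    (∃ H : Subgroup (Matrix.ProjectiveSpecialLinearGroup (Fin 2) F), Cfsg.IsPiHall ({2, 3} : Set ℕ) H) ↔
      (3 ∣ q - 1 ∧ q % 4 = 1) ∨ (3 ∣ q + 1 ∧ q % 4 = 3) ∨
        2 ^ (q ^ 2 - 1).factorization 2 * 3 ^ (q ^ 2 - 1).factorization 3 = 24 ∨
        2 ^ (q ^ 2 - 1).factorization 2 * 3 ^ (q ^ 2 - 1).factorization 3 = 48 := by
  classical
  subst hq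
  have hpi : ∀ H : Subgroup (Matrix.ProjectiveSpecialLinearGroup (Fin 2) F),
      Cfsg.IsPiHall ({2, 3} : Set ℕ) H ↔
      ((∀ r : ℕ, r.Prime → r ∣ Nat.card H → r = 2 ∨ r = 3) ∧ ¬ 2 ∣ H.index ∧ ¬ 3 ∣ H.index) := by
    intro H
    unfold Cfsg.IsPiHall
    constructor
    · rintro ⟨h1, h2⟩
      exact ⟨fun r hr hd => h1 r hr hd, h2 2 Nat.prime_two (Or.inl rfl),
        h2 3 Nat.prime_three (Or.inr rfl)⟩
    · rintro ⟨h1, h2, h3⟩
      refine ⟨fun r hr hd => h1 r hr hd, ?_⟩
      intro r hr hmem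
      rcases hmem with rfl | hmem
      · exact h2
      · rw [Set.mem_singleton_iff] at hmem
        rw [hmem]
        exact h3
  constructor
  · rintro ⟨H, hH⟩
    obtain ⟨h1, h2, h3⟩ := (hpi H).mp hH
    exact hall23_cases p hp H h1 h2 h3
  · intro h
    have hq2 : 2 ≤ Fintype.card F := Fintype.one_lt_card
    rcases h with h | h | h | h
    · obtain ⟨H, hH⟩ := hall23_exists_of_torus (F := F) p hp (Or.inl h)
      exact ⟨H, (hpi H).mpr hH⟩
    · obtain ⟨H, hH⟩ := hall23_exists_of_torus (F := F) p hp (Or.inr h)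
      exact ⟨H, (hpi H).mpr hH⟩
    · obtain ⟨e, -, hqe⟩ := FiniteField.card F p
      obtain ⟨H, ⟨eH⟩⟩ := (Cfsg.Agent.S0802.result p e hqe).mpr (by rintro ⟨hp2, -⟩; omega)
      have hc : Nat.card H = 12 := by
        rw [Nat.card_congr eH.toEquiv, Nat.card_eq_fintype_card]
        have h1 := two_mul_card_alternatingGroup (α := Fin 4)
        rw [Fintype.card_perm, Fintype.card_fin] at h1
        have h2 : (4 : ℕ).factorial = 24 := by decide
        omega
      exact ⟨H, (hpi H).mpr (hall23_of_card p hp H 12 hc (Or.inl rfl) (by rw [h]))⟩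
    · have h0 := sq_sub_one_ne_zero (Fintype.card F) hq2
      obtain ⟨r, hr, -, -⟩ := p23_split _ h0
      rw [h] at hr
      have h16 : Fintype.card F ^ 2 % 16 = 1 := by omega
      obtain ⟨H, ⟨eH⟩⟩ := (Cfsg.Agent.S0803.result rfl).mpr h16
      have hc : Nat.card H = 24 := by
        rw [Nat.card_congr eH.toEquiv, Nat.card_eq_fintype_card, Fintype.card_perm,
          Fintype.card_fin]
        decide
      exact ⟨H, (hpi H).mpr (hall23_of_card p hp H 24 hc (Or.inr rfl) (by rw [h]))⟩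

end Cfsg.Agent.S2537
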