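import Cfsg.Statements.S2540
import Mathlib
import Cfsg.Agent.S0248
import Cfsg.Agent.S0249
-- import your own Cfsg.Agent.* helpers here

set_option autoImplicit false
open Cfsg

namespace Cfsg.Agent.S2540

open Matrix in
/-- a matrix `g` with `T * g = r • (g * T)` for a transvection `T` commutes with `T` -/
theorem commute_of_twisted {F : Type*} [Field F] {n : ℕ} (t : TransvectionStruct (Fin n) F)
    (A A' : Matrix (Fin n) (Fin n) F) (hA : A' * A = 1) (hA' : A * A' = 1) (r : F)
    (h : t.toMatrix * A = r • (A * t.toMatrix)) : Commute t.toMatrix A := by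
  obtain ⟨i, j, hij, c⟩ := t
  simp only [TransvectionStruct.toMatrix] at h ⊢
  set E : Matrix (Fin n) (Fin n) F := Matrix.single i j c with hE
  have hT : Matrix.transvection i j c = 1 + E := rfl
  have hE2 : E * E = 0 := by
    rw [hE]
    simp [hij.symm]
  -- A' * T * A = r • T
  have h1 : A' * (1 + E) * A = r • (1 + E) := by
    rw [← hT, mul_assoc, h, mul_smul_comm, ← mul_assoc, hA, one_mul]
  have h2 : r • (1 + E) - 1 = A' * E * A := by
    rw [← h1, mul_add, add_mul, mul_one, hA]
    abel
  have h3 : (r • (1 + E) - 1) * (r • (1 + E) - 1) = 0 := by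
    rw [h2]
    calc A' * E * A * (A' * E * A) = A' * E * (A * A') * E * A := by simp only [mul_assoc]
      _ = 0 := by rw [hA', mul_one, mul_assoc A' E E, hE2]; simp
  have h4 : r • (1 + E) - 1 = (r - 1) • (1 : Matrix (Fin n) (Fin n) F) + r • E := by
    rw [smul_add, sub_smul, one_smul]
    abel
  have h5 : (r • (1 + E) - 1) * (r • (1 + E) - 1) =
      ((r - 1) ^ 2) • (1 : Matrix (Fin n) (Fin n) F) + (2 * r * (r - 1)) • E := by
    rw [h4]
    simp only [add_mul, mul_add, smul_mul_assoc, mul_smul_comm, one_mul, mul_one, hE2, smul_zero,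
      smul_smul, add_zero]
    rw [smul_add, smul_smul, smul_smul, add_assoc, ← add_smul]
    congr 2 <;> ring
  rw [h5] at h3
  have h6 := congrFun (congrFun h3 i) i
  have hEii : E i i = 0 := by
    rw [hE, Matrix.single_apply]
    simp only [true_and, ite_eq_right_iff]
    intro h
    exact absurd h.symm hij
  simp only [Matrix.add_apply, Matrix.smul_apply, Matrix.one_apply_eq, hEii, smul_eq_mul, mul_zero,
    add_zero, mul_one, Matrix.zero_apply] at h6
  have hr : r = 1 := by
    have := pow_eq_zero_iff (two_ne_zero) |>.mp h6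
    exact sub_eq_zero.mp this
  rw [hr, one_smul] at h
  exact h

open Matrix in
open scoped commutatorElement in
/-- the dichotomy, given simplicity of `PSL` and perfectness of `SL` -/
theorem main_of_simple {F : Type*} [Field F] {n : ℕ}
    (hsimple : IsSimpleGroup (Matrix.ProjectiveSpecialLinearGroup (Fin n) F))
    (hperf : commutator (Matrix.SpecialLinearGroup (Fin n) F) = ⊤)
    (G : Subgroup (Matrix.GeneralLinearGroup (Fin n) F))
    (hG : ∀ s : Matrix.SpecialLinearGroup (Fin n) F, ∀ g ∈ G,
      (Matrix.SpecialLinearGroup.toGL s) * g * (Matrix.SpecialLinearGroup.toGL s)⁻¹ ∈ G) :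
    (∀ g ∈ G, ∃ c : F, (g : Matrix (Fin n) (Fin n) F) = c • (1 : Matrix (Fin n) (Fin n) F)) ∨
      (Matrix.SpecialLinearGroup.toGL : Matrix.SpecialLinearGroup (Fin n) F →* _).range ≤ G := by
  classical
  let ι : Matrix.SpecialLinearGroup (Fin n) F →* Matrix.GeneralLinearGroup (Fin n) F :=
    Matrix.SpecialLinearGroup.toGL
  let N : Subgroup (Matrix.SpecialLinearGroup (Fin n) F) := G.comap ι
  have hN : N.Normal := ⟨fun x hx s => by
    show ι (s * x * s⁻¹) ∈ G
    rw [map_mul, map_mul, map_inv]
    exact hG s _ hx⟩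
  let π := QuotientGroup.mk' (Subgroup.center (Matrix.SpecialLinearGroup (Fin n) F))
  have hNbar : (N.map π).Normal := hN.map π (QuotientGroup.mk'_surjective _)
  rcases hNbar.eq_bot_or_eq_top with hbot | htop
  · left
    have hNc : ∀ u ∈ N, u ∈ Subgroup.center (Matrix.SpecialLinearGroup (Fin n) F) := by
      intro u hu
      have : π u ∈ N.map π := Subgroup.mem_map_of_mem π hu
      rw [hbot, Subgroup.mem_bot] at this
      exact (QuotientGroup.eq_one_iff u).mp this
    intro g hg
    have hcomm : ∀ t : TransvectionStruct (Fin n) F,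
        Commute t.toMatrix (g : Matrix (Fin n) (Fin n) F) := by
      intro t
      let ts : Matrix.SpecialLinearGroup (Fin n) F := t.toSpecialLinearGroup
      let k : Matrix.GeneralLinearGroup (Fin n) F := ι ts * g * (ι ts)⁻¹ * g⁻¹
      have hk : k ∈ G := G.mul_mem (hG ts g hg) (G.inv_mem hg)
      have hdet : (k : Matrix (Fin n) (Fin n) F).det = 1 := by
        have : Matrix.GeneralLinearGroup.det k = 1 := by
          simp only [k, map_mul, map_inv]
          rw [mul_comm (Matrix.GeneralLinearGroup.det (ι ts)), mul_assoc, mul_assoc]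
          simp
        have h2 := congrArg Units.val this
        simpa using h2
      let u : Matrix.SpecialLinearGroup (Fin n) F := ⟨(k : Matrix (Fin n) (Fin n) F), hdet⟩
      have hu : ι u = k := by
        apply Units.ext
        rfl
      have huN : u ∈ N := by
        show ι u ∈ G
        rw [hu]
        exact hk
      obtain ⟨r, _, hr⟩ := Matrix.SpecialLinearGroup.mem_center_iff.mp (hNc u huN)
      have hr' : (k : Matrix (Fin n) (Fin n) F) = Matrix.scalar (Fin n) r := hr.symm
      -- matrix identities
      have hgg : ((g⁻¹ : Matrix.GeneralLinearGroup (Fin n) F) : Matrix (Fin n) (Fin n) F) * (g : Matrix (Fin n) (Fin n) F) = 1 := by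
        rw [← Units.val_mul, inv_mul_cancel]
        rfl
      have hgg' : (g : Matrix (Fin n) (Fin n) F) * ((g⁻¹ : Matrix.GeneralLinearGroup (Fin n) F) : Matrix (Fin n) (Fin n) F) = 1 := by
        rw [← Units.val_mul, mul_inv_cancel]
        rfl
      have htt : (((ι ts)⁻¹ : Matrix.GeneralLinearGroup (Fin n) F) : Matrix (Fin n) (Fin n) F) * t.toMatrix = 1 := by
        have : t.toMatrix = ((ι ts : Matrix.GeneralLinearGroup (Fin n) F) : Matrix (Fin n) (Fin n) F) := rfl
        rw [this, ← Units.val_mul, inv_mul_cancel]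
        rfl
      have hkm : (k : Matrix (Fin n) (Fin n) F) = t.toMatrix * (g : Matrix (Fin n) (Fin n) F) *
          (((ι ts)⁻¹ : Matrix.GeneralLinearGroup (Fin n) F) : Matrix (Fin n) (Fin n) F) *
          ((g⁻¹ : Matrix.GeneralLinearGroup (Fin n) F) : Matrix (Fin n) (Fin n) F) := rfl
      apply commute_of_twisted t _ _ hgg hgg' r
      have e1 : (k : Matrix (Fin n) (Fin n) F) * ((g : Matrix (Fin n) (Fin n) F) * t.toMatrix) =
          t.toMatrix * (g : Matrix (Fin n) (Fin n) F) := by
        rw [hkm]
        calc t.toMatrix * (g : Matrix (Fin n) (Fin n) F) *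
              (((ι ts)⁻¹ : Matrix.GeneralLinearGroup (Fin n) F) : Matrix (Fin n) (Fin n) F) *
              ((g⁻¹ : Matrix.GeneralLinearGroup (Fin n) F) : Matrix (Fin n) (Fin n) F) *
              ((g : Matrix (Fin n) (Fin n) F) * t.toMatrix)
            = t.toMatrix * (g : Matrix (Fin n) (Fin n) F) *
              (((ι ts)⁻¹ : Matrix.GeneralLinearGroup (Fin n) F) : Matrix (Fin n) (Fin n) F) *
              (((g⁻¹ : Matrix.GeneralLinearGroup (Fin n) F) : Matrix (Fin n) (Fin n) F) *
              (g : Matrix (Fin n) (Fin n) F)) * t.toMatrix := by simp only [mul_assoc]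
          _ = t.toMatrix * (g : Matrix (Fin n) (Fin n) F) *
              ((((ι ts)⁻¹ : Matrix.GeneralLinearGroup (Fin n) F) : Matrix (Fin n) (Fin n) F) * t.toMatrix) := by
              rw [hgg, mul_one, mul_assoc]
          _ = t.toMatrix * (g : Matrix (Fin n) (Fin n) F) := by rw [htt, mul_one]
      rw [← e1, hr']
      simp [Matrix.scalar_apply, Matrix.smul_eq_diagonal_mul]
    obtain ⟨c, hc⟩ := Matrix.mem_range_scalar_of_commute_transvectionStruct hcomm
    refine ⟨c, ?_⟩
    rw [← hc]
    ext i j
    simp [Matrix.scalar_apply, Matrix.diagonal_apply, Matrix.one_apply]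
  · right
    have hNtop : N = ⊤ := by
      rw [eq_top_iff, ← hperf, commutator_def, Subgroup.commutator_le]
      intro a _ b _
      have hdecomp : ∀ a : Matrix.SpecialLinearGroup (Fin n) F, ∃ x ∈ N, ∃ z ∈ Subgroup.center (Matrix.SpecialLinearGroup (Fin n) F), a = x * z := by
        intro a
        have : π a ∈ N.map π := by rw [htop]; exact Subgroup.mem_top _
        obtain ⟨x, hx, hxa⟩ := this
        refine ⟨x, hx, x⁻¹ * a, ?_, by group⟩
        exact QuotientGroup.eq.mp hxa
      obtain ⟨x, hx, z, hz, rfl⟩ := hdecomp a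
      obtain ⟨y, hy, w, hw, rfl⟩ := hdecomp b
      have hx1 : (QuotientGroup.mk' N) x = 1 := (QuotientGroup.eq_one_iff x).mpr hx
      have hy1 : (QuotientGroup.mk' N) y = 1 := (QuotientGroup.eq_one_iff y).mpr hy
      have hzw : ⁅z, w⁆ = 1 := by
        rw [commutatorElement_eq_one_iff_commute]
        exact Subgroup.mem_center_iff.mp hw z
      have : (QuotientGroup.mk' N) ⁅x * z, y * w⁆ = 1 := by
        rw [map_commutatorElement, map_mul, map_mul, hx1, hy1, one_mul, one_mul,
          ← map_commutatorElement, hzw, map_one]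
      exact (QuotientGroup.eq_one_iff _).mp this
    rintro _ ⟨s, rfl⟩
    have : s ∈ N := hNtop ▸ Subgroup.mem_top s
    exact this

/-- Let F be a finite field and n ≥ 1, excluding the case n = 2 with #F ≤ 3. A subgroup of GL_n(F) that is normalized by every element of SL_n(F) either consists of scalar matrices or contains SL_n(F). -/
theorem result {F : Type*} [Field F] [Fintype F] (n : ℕ) (hn : 1 ≤ n) (hex : ¬ (n = 2 ∧ Fintype.card F ≤ 3)) (G : Subgroup (Matrix.GeneralLinearGroup (Fin n) F)) (hG : ∀ s : Matrix.SpecialLinearGroup (Fin n) F, ∀ g ∈ G, (Matrix.SpecialLinearGroup.toGL s) * g * (Matrix.SpecialLinearGroup.toGL s)⁻¹ ∈ G) : (∀ g ∈ G, ∃ c : F, (g : Matrix (Fin n) (Fin n) F) = c • (1 : Matrix (Fin n) (Fin n) F)) ∨ (Matrix.SpecialLinearGroup.toGL : Matrix.SpecialLinearGroup (Fin n) F →* _).range ≤ G := by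
  classical
  rcases Nat.lt_or_ge n 2 with h1 | h2
  · -- n = 1
    obtain rfl : n = 1 := by omega
    left
    intro g _
    refine ⟨(g : Matrix (Fin 1) (Fin 1) F) 0 0, ?_⟩
    ext i j
    fin_cases i
    fin_cases j
    simp
  · rcases Nat.eq_or_lt_of_le h2 with h2' | h3
    · -- n = 2
      subst h2'
      have hF : 4 ≤ Nat.card F := by
        rw [Nat.card_eq_fintype_card]
        by_contra hcon
        exact hex ⟨rfl, by omega⟩
      have hsimple := Matrix.ProjectiveSpecialLinearGroup.rank_two_simple (F := F) hF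
      have hperf : commutator (Matrix.SpecialLinearGroup (Fin 2) F) = ⊤ := by
        obtain ⟨x, hx⟩ := IsCyclic.exists_generator (α := Fˣ)
        have hord : orderOf x = Fintype.card F - 1 := by
          rw [orderOf_eq_card_of_forall_mem_zpowers hx, Nat.card_eq_fintype_card, Fintype.card_units]
        rw [Nat.card_eq_fintype_card] at hF
        apply Matrix.SL2.commutator_eq_top (a := (x : F)) (Units.ne_zero x)
        intro hsq
        have h1 : x ^ 2 = 1 := Units.ext (by simpa using hsq)
        have h2 := orderOf_le_of_pow_eq_one zero_lt_two h1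
        omega
      exact main_of_simple hsimple hperf G hG
    · exact main_of_simple (Cfsg.Agent.S0249.result n h3) (Cfsg.Agent.S0248.result n h3) G hG

end Cfsg.Agent.S2540
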