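import Cfsg.Statements.S2541
-- import your own Cfsg.Agent.* helpers here

set_option autoImplicit false
open Cfsg

namespace Cfsg.Agent.S2541

/-- every permutation of six points has order dividing 60 -/
theorem orderOf_dvd_sixty (σ : Equiv.Perm (Fin 6)) : orderOf σ ∣ 60 := by
  rw [← Equiv.Perm.lcm_cycleType]
  apply Multiset.lcm_dvd.mpr
  intro n hn
  have h1 : n ≤ σ.support.card := Equiv.Perm.le_card_support_of_mem_cycleType hn
  have h2 : σ.support.card ≤ 6 := by
    have := Finset.card_le_univ σ.support
    simpa using this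
  have h3 : n ≤ 6 := le_trans h1 h2
  have h4 : 2 ≤ n := Equiv.Perm.two_le_of_mem_cycleType hn
  interval_cases n <;> decide

/-- the embedding of the units of the field as diagonal matrices `diag(u, 1)` -/
noncomputable def diagHom (F : Type*) [Field F] : Fˣ →* GL (Fin 2) F :=
  Units.map ((Matrix.diagonalRingHom (Fin 2) F).toMonoidHom.comp (MonoidHom.mulSingle (fun _ : Fin 2 => F) 0))

theorem diagHom_apply {F : Type*} [Field F] (u : Fˣ) :
    ((diagHom F u : GL (Fin 2) F) : Matrix (Fin 2) (Fin 2) F) = Matrix.diagonal (Pi.mulSingle 0 (u : F)) := rfl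

theorem proj_diag_injective {F : Type*} [Field F] :
    Function.Injective (Matrix.ProjGenLinGroup.mk.comp (diagHom F)) := by
  rw [injective_iff_map_eq_one]
  intro u hu
  rw [MonoidHom.comp_apply, Matrix.ProjGenLinGroup.mk_eq_one,
    Matrix.GeneralLinearGroup.center_eq_range_scalar] at hu
  obtain ⟨c, hc⟩ := hu
  have h := congrArg (fun g : GL (Fin 2) F => (g : Matrix (Fin 2) (Fin 2) F)) hc
  simp only [diagHom_apply] at h
  have h0 := congrFun (congrFun h 0) 0
  have h1 := congrFun (congrFun h 1) 1
  simp [Matrix.GeneralLinearGroup.scalar] at h0 h1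
  ext
  rw [← h0, h1]

/-- Let F be a field with 9 elements. The symmetric group S_6 is not isomorphic to PGL_2(F) (although both have index-2 subgroups isomorphic to A_6). -/
theorem result {F : Type*} [Field F] [Fintype F] (hF : Fintype.card F = 9) : ¬ Nonempty (Equiv.Perm (Fin 6) ≃* Matrix.ProjGenLinGroup (Fin 2) F) := by
  classical
  rintro ⟨e⟩
  have hcard : Nat.card Fˣ = 8 := by
    rw [Nat.card_eq_fintype_card, Fintype.card_units, hF]
  obtain ⟨ζ, hζ⟩ := IsCyclic.exists_generator (α := Fˣ)
  have hord : orderOf ζ = 8 := by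
    rw [orderOf_eq_card_of_forall_mem_zpowers hζ, hcard]
  let ψ : Fˣ →* Equiv.Perm (Fin 6) := e.symm.toMonoidHom.comp (Matrix.ProjGenLinGroup.mk.comp (diagHom F))
  have hψ : Function.Injective ψ := e.symm.injective.comp proj_diag_injective
  have h8 : orderOf (ψ ζ) = 8 := by rw [orderOf_injective ψ hψ, hord]
  have := orderOf_dvd_sixty (ψ ζ)
  rw [h8] at this
  omega

end Cfsg.Agent.S2541
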