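import Cfsg.Statements.S2542
import Mathlib
import Cfsg.Agent.S3377
import Cfsg.Agent.Lib.helper7.CardSL
import Cfsg.Agent.Lib.helper47.PSL2Cent
import Cfsg.Agent.Lib.helper47.NormTorus
-- import your own Cfsg.Agent.* helpers here

set_option autoImplicit false
set_option linter.unusedSectionVars false
open Cfsg

namespace Cfsg.Agent.S2542

open Cfsg.Agent.Lib.helper47

/-- an element of order 3 -/
def mX : Matrix.SpecialLinearGroup (Fin 2) (ZMod 11) := ⟨!![0, 1; 10, 10], by decide⟩
/-- an element of order 5 -/
def mY : Matrix.SpecialLinearGroup (Fin 2) (ZMod 11) := ⟨!![9, 6; 0, 5], by decide⟩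
/-- an element of order 11 -/
def mS : Matrix.SpecialLinearGroup (Fin 2) (ZMod 11) := ⟨!![1, 1; 0, 1], by decide⟩

theorem mX3 : mX ^ 3 = 1 := by decide
theorem mY5 : mY ^ 5 = 1 := by decide
theorem mXY2 : (mX * mY) ^ 2 = -1 := by decide
theorem mS11 : mS ^ 11 = 1 := by decide

section main

variable {F : Type*} [Field F] [Fintype F]

/-- the map from `SL₂(ZMod 11)` to `PSL₂(F)` -/
noncomputable def rho (hF : Fintype.card F = 11) :
    Matrix.SpecialLinearGroup (Fin 2) (ZMod 11) →* Matrix.ProjectiveSpecialLinearGroup (Fin 2) F :=
  (QuotientGroup.mk' (Subgroup.center (Matrix.SpecialLinearGroup (Fin 2) F))).comp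
    (Matrix.SpecialLinearGroup.map (ZMod.ringEquivOfPrime F (by norm_num) hF).toRingHom)

theorem rho_neg_one (hF : Fintype.card F = 11) : rho hF (-1) = 1 := by
  have h1 : Matrix.SpecialLinearGroup.map (ZMod.ringEquivOfPrime F (by norm_num) hF).toRingHom
      (-1 : Matrix.SpecialLinearGroup (Fin 2) (ZMod 11)) = -1 := by
    apply Subtype.ext
    rw [Matrix.SpecialLinearGroup.map_apply_coe]
    ext i j
    fin_cases i <;> fin_cases j <;> simp
  rw [rho, MonoidHom.comp_apply, h1, QuotientGroup.mk'_apply, QuotientGroup.eq_one_iff,
    mem_center_sl2_iff]
  right; rfl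

theorem rho_neg (hF : Fintype.card F = 11) (A : Matrix.SpecialLinearGroup (Fin 2) (ZMod 11)) :
    rho hF (-A) = rho hF A := by
  rw [← neg_one_mul, map_mul, rho_neg_one, one_mul]

theorem rho_ne_one (hF : Fintype.card F = 11) (A : Matrix.SpecialLinearGroup (Fin 2) (ZMod 11))
    (hA : (A : Matrix (Fin 2) (Fin 2) (ZMod 11)) 0 1 ≠ 0) : rho hF A ≠ 1 := by
  intro h
  rw [rho, MonoidHom.comp_apply, QuotientGroup.mk'_apply, QuotientGroup.eq_one_iff,
    mem_center_sl2_iff] at h
  have h01 : ((Matrix.SpecialLinearGroup.map (ZMod.ringEquivOfPrime F (by norm_num) hF).toRingHom A :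
      Matrix.SpecialLinearGroup (Fin 2) F) : Matrix (Fin 2) (Fin 2) F) 0 1 = 0 := by
    rcases h with h | h
    · rw [h]; simp
    · rw [h]; simp
  apply hA
  rw [Matrix.SpecialLinearGroup.map_apply_coe] at h01
  simpa using h01

/-- the key step: a word identity in `SL₂(ZMod 11)` gives a coset identity -/
theorem step (hF : Fintype.card F = 11)
    (H : Subgroup (Matrix.ProjectiveSpecialLinearGroup (Fin 2) F)) (i : ℕ)
    (W W' : Matrix.SpecialLinearGroup (Fin 2) (ZMod 11))
    (hW : rho hF W ∈ H) (hW' : rho hF W' ∈ H)
    (h : W * mS = mS ^ i * W' ∨ W * mS = -(mS ^ i * W')) :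
    ∃ k ∈ H, ((k * rho hF mS : Matrix.ProjectiveSpecialLinearGroup (Fin 2) F) :
      Matrix.ProjectiveSpecialLinearGroup (Fin 2) F ⧸ H) =
      ((rho hF mS ^ i : Matrix.ProjectiveSpecialLinearGroup (Fin 2) F) :
        Matrix.ProjectiveSpecialLinearGroup (Fin 2) F ⧸ H) := by
  refine ⟨rho hF W, hW, ?_⟩
  have h1 : rho hF W * rho hF mS = rho hF mS ^ i * rho hF W' := by
    rw [← map_mul, ← map_pow, ← map_mul]
    rcases h with h | h
    · rw [h]
    · rw [h, rho_neg]
  rw [h1, QuotientGroup.eq]
  have h3 : (rho hF mS ^ i * rho hF W')⁻¹ * rho hF mS ^ i = (rho hF W')⁻¹ := by group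
  rw [h3]
  exact inv_mem hW'

/-- the relations of the presentation of `A₅` -/
abbrev rels : Set (FreeGroup (Fin 2)) :=
  {FreeGroup.of (0 : Fin 2) ^ 3, FreeGroup.of (1 : Fin 2) ^ 5,
    (FreeGroup.of (0 : Fin 2) * FreeGroup.of 1) ^ 2}

theorem rels_ok (hF : Fintype.card F = 11) :
    ∀ r ∈ rels, FreeGroup.lift ![rho hF mX, rho hF mY] r = 1 := by
  intro r hr
  simp only [rels, Set.mem_insert_iff, Set.mem_singleton_iff] at hr
  rcases hr with rfl | rfl | rfl
  · rw [map_pow, FreeGroup.lift_apply_of]
    show rho hF mX ^ 3 = 1
    rw [← map_pow, mX3, map_one]
  · rw [map_pow, FreeGroup.lift_apply_of]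
    show rho hF mY ^ 5 = 1
    rw [← map_pow, mY5, map_one]
  · rw [map_pow, map_mul, FreeGroup.lift_apply_of, FreeGroup.lift_apply_of]
    show (rho hF mX * rho hF mY) ^ 2 = 1
    rw [← map_mul, ← map_pow, mXY2, rho_neg_one]

/-- the map from the presented group -/
noncomputable def f0 (hF : Fintype.card F = 11) :
    PresentedGroup rels →* Matrix.ProjectiveSpecialLinearGroup (Fin 2) F :=
  PresentedGroup.toGroup (rels_ok hF)

theorem f0_x (hF : Fintype.card F = 11) : f0 hF (PresentedGroup.of 0) = rho hF mX := by
  simp [f0]

theorem f0_y (hF : Fintype.card F = 11) : f0 hF (PresentedGroup.of 1) = rho hF mY := by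
  simp [f0]

theorem card_psl (hF : Fintype.card F = 11) :
    Nat.card (Matrix.ProjectiveSpecialLinearGroup (Fin 2) F) = 660 := by
  have h2 : (2 : F) ≠ 0 := two_ne_zero_of_card_odd (by rw [hF])
  have := Cfsg.Agent.Lib.helper7.two_mul_card_PSL2 hF h2
  omega

theorem s_pow (hF : Fintype.card F = 11) : rho hF mS ^ 11 = 1 := by
  rw [← map_pow, mS11, map_one]

theorem s_ne (hF : Fintype.card F = 11) : rho hF mS ≠ 1 := rho_ne_one hF mS (by decide)

theorem s_order (hF : Fintype.card F = 11) : orderOf (rho hF mS) = 11 := by
  haveI : Fact (Nat.Prime 11) := ⟨by norm_num⟩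
  exact orderOf_eq_prime (s_pow hF) (s_ne hF)

/-- the ten coset identities -/
theorem key (hF : Fintype.card F = 11)
    (H : Subgroup (Matrix.ProjectiveSpecialLinearGroup (Fin 2) F))
    (hX : rho hF mX ∈ H) (hY : rho hF mY ∈ H) (i : ℕ) (hi0 : 0 < i) (hi : i < 11) :
    ∃ k ∈ H, ((k * rho hF mS : Matrix.ProjectiveSpecialLinearGroup (Fin 2) F) :
      Matrix.ProjectiveSpecialLinearGroup (Fin 2) F ⧸ H) =
      ((rho hF mS ^ i : Matrix.ProjectiveSpecialLinearGroup (Fin 2) F) :
        Matrix.ProjectiveSpecialLinearGroup (Fin 2) F ⧸ H) := by
  have h1 : rho hF 1 ∈ H := by rw [map_one]; exact one_mem H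
  interval_cases i
  · exact step hF H 1 (1) (1) (by (try simp only [map_mul]); first | exact h1 | exact hX | exact hY | exact mul_mem (by first | exact hX | exact hY | exact mul_mem (by first | exact hX | exact hY | exact mul_mem (by first | exact hX | exact hY | exact mul_mem (by first | exact hX | exact hY | exact mul_mem (by first | exact hX | exact hY | exact mul_mem hX hY | exact mul_mem hY hX | exact mul_mem hX hX | exact mul_mem hY hY) (by first | exact hX | exact hY)) (by first | exact hX | exact hY)) (by first | exact hX | exact hY)) (by first | exact hX | exact hY)) (by first | exact hX | exact hY)) (by (try simp only [map_mul]); first | exact h1 | exact hX | exact hY | exact mul_mem (by first | exact hX | exact hY | exact mul_mem (by first | exact hX | exact hY | exact mul_mem (by first | exact hX | exact hY | exact mul_mem (by first | exact hX | exact hY | exact mul_mem (by first | exact hX | exact hY | exact mul_mem hX hY | exact mul_mem hY hX | exact mul_mem hX hX | exact mul_mem hY hY) (by first | exact hX | exact hY)) (by first | exact hX | exact hY)) (by first | exact hX | exact hY)) (by first | exact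 hX | exact hY)) (by first | exact hX | exact hY)) (by decide)
  · exact step hF H 2 (mY * mY * mX * mX * mY * mY) (mX * mX) (by (try simp only [map_mul]); first | exact h1 | exact hX | exact hY | exact mul_mem (by first | exact hX | exact hY | exact mul_mem (by first | exact hX | exact hY | exact mul_mem (by first | exact hX | exact hY | exact mul_mem (by first | exact hX | exact hY | exact mul_mem (by first | exact hX | exact hY | exact mul_mem hX hY | exact mul_mem hY hX | exact mul_mem hX hX | exact mul_mem hY hY) (by first | exact hX | exact hY)) (by first | exact hX | exact hY)) (by first | exact hX | exact hY)) (by first | exact hX | exact hY)) (by first | exact hX | exact hY)) (by (try simp only [map_mul]); first | exact h1 | exact hX | exact hY | exact mul_mem (by first | exact hX | exact hY | exact mul_mem (by first | exact hX | exact hY | exact mul_mem (by first | exact hX | exact hY | exact mul_mem (by first | exact hX | exact hY | exact mul_mem (by first | exact hX | exact hY | exact mul_mem hX hY | exact mul_mem hY hX | exact mul_mem hX hX | exact mul_mem hY hY) (by first | exact hX | exact hY)) (by first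 | exact hX | exact hY)) (by first | exact hX | exact hY)) (by first | exact hX | exact hY)) (by first | exact hX | exact hY)) (by decide)
  · exact step hF H 3 (mX * mY * mX) (mX * mY * mX) (by (try simp only [map_mul]); first | exact h1 | exact hX | exact hY | exact mul_mem (by first | exact hX | exact hY | exact mul_mem (by first | exact hX | exact hY | exact mul_mem (by first | exact hX | exact hY | exact mul_mem (by first | exact hX | exact hY | exact mul_mem (by first | exact hX | exact hY | exact mul_mem hX hY | exact mul_mem hY hX | exact mul_mem hX hX | exact mul_mem hY hY) (by first | exact hX | exact hY)) (by first | exact hX | exact hY)) (by first | exact hX | exact hY)) (by first | exact hX | exact hY)) (by first | exact hX | exact hY)) (by (try simp only [map_mul]); first | exact h1 | exact hX | exact hY | exact mul_mem (by first | exact hX | exact hY | exact mul_mem (by first | exact hX | exact hY | exact mul_mem (by first | exact hX | exact hY | exact mul_mem (by first | exact hX | exact hY | exact mul_mem (by first | exact hX | exact hY | exact mul_mem hX hY | exact mul_mem hY hX | exact mul_mem hX hX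 | exact mul_mem hY hY) (by first | exact hX | exact hY)) (by first | exact hX | exact hY)) (by first | exact hX | exact hY)) (by first | exact hX | exact hY)) (by first | exact hX | exact hY)) (by decide)
  · exact step hF H 4 (mY) (mY) (by (try simp only [map_mul]); first | exact h1 | exact hX | exact hY | exact mul_mem (by first | exact hX | exact hY | exact mul_mem (by first | exact hX | exact hY | exact mul_mem (by first | exact hX | exact hY | exact mul_mem (by first | exact hX | exact hY | exact mul_mem (by first | exact hX | exact hY | exact mul_mem hX hY | exact mul_mem hY hX | exact mul_mem hX hX | exact mul_mem hY hY) (by first | exact hX | exact hY)) (by first | exact hX | exact hY)) (by first | exact hX | exact hY)) (by first | exact hX | exact hY)) (by first | exact hX | exact hY)) (by (try simp only [map_mul]); first | exact h1 | exact hX | exact hY | exact mul_mem (by first | exact hX | exact hY | exact mul_mem (by first | exact hX | exact hY | exact mul_mem (by first | exact hX | exact hY | exact mul_mem (by first | exact hX | exact hY | exact mul_mem (by first | exact hX | exact hY | exact mul_mem hX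 hY | exact mul_mem hY hX | exact mul_mem hX hX | exact mul_mem hY hY) (by first | exact hX | exact hY)) (by first | exact hX | exact hY)) (by first | exact hX | exact hY)) (by first | exact hX | exact hY)) (by first | exact hX | exact hY)) (by decide)
  · exact step hF H 5 (mY * mY) (mY * mY) (by (try simp only [map_mul]); first | exact h1 | exact hX | exact hY | exact mul_mem (by first | exact hX | exact hY | exact mul_mem (by first | exact hX | exact hY | exact mul_mem (by first | exact hX | exact hY | exact mul_mem (by first | exact hX | exact hY | exact mul_mem (by first | exact hX | exact hY | exact mul_mem hX hY | exact mul_mem hY hX | exact mul_mem hX hX | exact mul_mem hY hY) (by first | exact hX | exact hY)) (by first | exact hX | exact hY)) (by first | exact hX | exact hY)) (by first | exact hX | exact hY)) (by first | exact hX | exact hY)) (by (try simp only [map_mul]); first | exact h1 | exact hX | exact hY | exact mul_mem (by first | exact hX | exact hY | exact mul_mem (by first | exact hX | exact hY | exact mul_mem (by first | exact hX | exact hY | exact mul_mem (by first | exact hX | exact hY | exact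 mul_mem (by first | exact hX | exact hY | exact mul_mem hX hY | exact mul_mem hY hX | exact mul_mem hX hX | exact mul_mem hY hY) (by first | exact hX | exact hY)) (by first | exact hX | exact hY)) (by first | exact hX | exact hY)) (by first | exact hX | exact hY)) (by first | exact hX | exact hY)) (by decide)
  · exact step hF H 6 (mY * mY * mX * mX) (mY * mY * mX) (by (try simp only [map_mul]); first | exact h1 | exact hX | exact hY | exact mul_mem (by first | exact hX | exact hY | exact mul_mem (by first | exact hX | exact hY | exact mul_mem (by first | exact hX | exact hY | exact mul_mem (by first | exact hX | exact hY | exact mul_mem (by first | exact hX | exact hY | exact mul_mem hX hY | exact mul_mem hY hX | exact mul_mem hX hX | exact mul_mem hY hY) (by first | exact hX | exact hY)) (by first | exact hX | exact hY)) (by first | exact hX | exact hY)) (by first | exact hX | exact hY)) (by first | exact hX | exact hY)) (by (try simp only [map_mul]); first | exact h1 | exact hX | exact hY | exact mul_mem (by first | exact hX | exact hY | exact mul_mem (by first | exact hX | exact hY | exact mul_mem (by first | exact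 hX | exact hY | exact mul_mem (by first | exact hX | exact hY | exact mul_mem (by first | exact hX | exact hY | exact mul_mem hX hY | exact mul_mem hY hX | exact mul_mem hX hX | exact mul_mem hY hY) (by first | exact hX | exact hY)) (by first | exact hX | exact hY)) (by first | exact hX | exact hY)) (by first | exact hX | exact hY)) (by first | exact hX | exact hY)) (by decide)
  · exact step hF H 7 (mY * mX * mX) (mY * mX) (by (try simp only [map_mul]); first | exact h1 | exact hX | exact hY | exact mul_mem (by first | exact hX | exact hY | exact mul_mem (by first | exact hX | exact hY | exact mul_mem (by first | exact hX | exact hY | exact mul_mem (by first | exact hX | exact hY | exact mul_mem (by first | exact hX | exact hY | exact mul_mem hX hY | exact mul_mem hY hX | exact mul_mem hX hX | exact mul_mem hY hY) (by first | exact hX | exact hY)) (by first | exact hX | exact hY)) (by first | exact hX | exact hY)) (by first | exact hX | exact hY)) (by first | exact hX | exact hY)) (by (try simp only [map_mul]); first | exact h1 | exact hX | exact hY | exact mul_mem (by first | exact hX | exact hY | exact mul_mem (by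 first | exact hX | exact hY | exact mul_mem (by first | exact hX | exact hY | exact mul_mem (by first | exact hX | exact hY | exact mul_mem (by first | exact hX | exact hY | exact mul_mem hX hY | exact mul_mem hY hX | exact mul_mem hX hX | exact mul_mem hY hY) (by first | exact hX | exact hY)) (by first | exact hX | exact hY)) (by first | exact hX | exact hY)) (by first | exact hX | exact hY)) (by first | exact hX | exact hY)) (by decide)
  · exact step hF H 8 (mX * mY) (mX * mY * mX * mX) (by (try simp only [map_mul]); first | exact h1 | exact hX | exact hY | exact mul_mem (by first | exact hX | exact hY | exact mul_mem (by first | exact hX | exact hY | exact mul_mem (by first | exact hX | exact hY | exact mul_mem (by first | exact hX | exact hY | exact mul_mem (by first | exact hX | exact hY | exact mul_mem hX hY | exact mul_mem hY hX | exact mul_mem hX hX | exact mul_mem hY hY) (by first | exact hX | exact hY)) (by first | exact hX | exact hY)) (by first | exact hX | exact hY)) (by first | exact hX | exact hY)) (by first | exact hX | exact hY)) (by (try simp only [map_mul]); first | exact h1 | exact hX | exact hY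 | exact mul_mem (by first | exact hX | exact hY | exact mul_mem (by first | exact hX | exact hY | exact mul_mem (by first | exact hX | exact hY | exact mul_mem (by first | exact hX | exact hY | exact mul_mem (by first | exact hX | exact hY | exact mul_mem hX hY | exact mul_mem hY hX | exact mul_mem hX hX | exact mul_mem hY hY) (by first | exact hX | exact hY)) (by first | exact hX | exact hY)) (by first | exact hX | exact hY)) (by first | exact hX | exact hY)) (by first | exact hX | exact hY)) (by decide)
  · exact step hF H 9 (mY * mY * mY) (mY * mY * mY) (by (try simp only [map_mul]); first | exact h1 | exact hX | exact hY | exact mul_mem (by first | exact hX | exact hY | exact mul_mem (by first | exact hX | exact hY | exact mul_mem (by first | exact hX | exact hY | exact mul_mem (by first | exact hX | exact hY | exact mul_mem (by first | exact hX | exact hY | exact mul_mem hX hY | exact mul_mem hY hX | exact mul_mem hX hX | exact mul_mem hY hY) (by first | exact hX | exact hY)) (by first | exact hX | exact hY)) (by first | exact hX | exact hY)) (by first | exact hX | exact hY)) (by first | exact hX | exact hY)) (by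 (try simp only [map_mul]); first | exact h1 | exact hX | exact hY | exact mul_mem (by first | exact hX | exact hY | exact mul_mem (by first | exact hX | exact hY | exact mul_mem (by first | exact hX | exact hY | exact mul_mem (by first | exact hX | exact hY | exact mul_mem (by first | exact hX | exact hY | exact mul_mem hX hY | exact mul_mem hY hX | exact mul_mem hX hX | exact mul_mem hY hY) (by first | exact hX | exact hY)) (by first | exact hX | exact hY)) (by first | exact hX | exact hY)) (by first | exact hX | exact hY)) (by first | exact hX | exact hY)) (by decide)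
  · exact step hF H 10 (mX * mX) (mX) (by (try simp only [map_mul]); first | exact h1 | exact hX | exact hY | exact mul_mem (by first | exact hX | exact hY | exact mul_mem (by first | exact hX | exact hY | exact mul_mem (by first | exact hX | exact hY | exact mul_mem (by first | exact hX | exact hY | exact mul_mem (by first | exact hX | exact hY | exact mul_mem hX hY | exact mul_mem hY hX | exact mul_mem hX hX | exact mul_mem hY hY) (by first | exact hX | exact hY)) (by first | exact hX | exact hY)) (by first | exact hX | exact hY)) (by first | exact hX | exact hY)) (by first | exact hX | exact hY)) (by (try simp only [map_mul]); first | exact h1 | exact hX | exact hY | exact mul_mem (by first | exact hX | exact hY | exact mul_mem (by first | exact hX | exact hY | exact mul_mem (by first | exact hX | exact hY | exact mul_mem (by first | exact hX | exact hY | exact mul_mem (by first | exact hX | exact hY | exact mul_mem hX hY | exact mul_mem hY hX | exact mul_mem hX hX | exact mul_mem hY hY) (by first | exact hX | exact hY)) (by first | exact hX | exact hY)) (by first | exact hX | exact hY)) (by first | exact hX | exact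 hY)) (by first | exact hX | exact hY)) (by decide)

end main

/-- Let F be a field with 11 elements. PSL_2(F) has a subgroup H of index 11 isomorphic to the alternating group A_5, and the action of PSL_2(F) on the cosets of H is 2-transitive (of degree 11). -/
theorem result {F : Type*} [Field F] [Fintype F] (hF : Fintype.card F = 11) : ∃ H : Subgroup (Matrix.ProjectiveSpecialLinearGroup (Fin 2) F), H.index = 11 ∧ Nonempty (H ≃* alternatingGroup (Fin 5)) ∧ MulAction.IsMultiplyPretransitive (Matrix.ProjectiveSpecialLinearGroup (Fin 2) F) ((Matrix.ProjectiveSpecialLinearGroup (Fin 2) F) ⧸ H) 2 := by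
  obtain ⟨iso⟩ := Cfsg.Agent.S3377.result
  let f : alternatingGroup (Fin 5) →* Matrix.ProjectiveSpecialLinearGroup (Fin 2) F :=
    (f0 hF).comp iso.symm.toMonoidHom
  have hfx : f (iso (PresentedGroup.of 0)) = rho hF mX := by simp [f, f0_x]
  have hfy : f (iso (PresentedGroup.of 1)) = rho hF mY := by simp [f, f0_y]
  have hinj : Function.Injective f := by
    rw [← MonoidHom.ker_eq_bot_iff]
    have := alternatingGroup.isSimpleGroup_five
    rcases (MonoidHom.normal_ker f).eq_bot_or_eq_top with h | h
    · exact h
    · exfalso
      have h1 : iso (PresentedGroup.of 0) ∈ f.ker := by rw [h]; trivial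
      rw [MonoidHom.mem_ker, hfx] at h1
      exact rho_ne_one hF mX (by decide) h1
  have hcardH : Nat.card f.range = 60 := by
    rw [← Nat.card_congr (MonoidHom.ofInjective hinj).toEquiv]
    exact Cfsg.Agent.S3377.card_alt
  have hidx : f.range.index = 11 := by
    have h1 := f.range.card_mul_index
    rw [hcardH, card_psl hF] at h1
    omega
  have hX : rho hF mX ∈ f.range := ⟨_, hfx⟩
  have hY : rho hF mY ∈ f.range := ⟨_, hfy⟩
  refine ⟨f.range, hidx, ⟨(MonoidHom.ofInjective hinj).symm⟩, ?_⟩
  -- notation
  set H := f.range with hH
  set s := rho hF mS with hs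
  have hs11 : s ^ 11 = 1 := s_pow hF
  have hsord : orderOf s = 11 := s_order hF
  -- powers of s outside H
  have hnot : ∀ i : ℕ, 0 < i → i < 11 → s ^ i ∉ H := by
    intro i hi0 hi hmem
    have h1 : orderOf (s ^ i) = 11 := by
      rw [Nat.Coprime.orderOf_pow, hsord]
      rw [hsord]
      exact (Nat.Prime.coprime_iff_not_dvd (by norm_num)).mpr (Nat.not_dvd_of_pos_of_lt hi0 hi)
    have h2 := Subgroup.orderOf_dvd_natCard H hmem
    rw [h1, hcardH] at h2
    omega
  have hne : ∀ i j : ℕ, i < j → j < 11 →
      ((s ^ i : Matrix.ProjectiveSpecialLinearGroup (Fin 2) F) :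
        Matrix.ProjectiveSpecialLinearGroup (Fin 2) F ⧸ H) ≠
      ((s ^ j : Matrix.ProjectiveSpecialLinearGroup (Fin 2) F) :
        Matrix.ProjectiveSpecialLinearGroup (Fin 2) F ⧸ H) := by
    intro i j hij hj h
    rw [QuotientGroup.eq] at h
    have h1 : (s ^ i)⁻¹ * s ^ j = s ^ (j - i) := by
      have : s ^ j = s ^ i * s ^ (j - i) := by rw [← pow_add]; congr 1; omega
      rw [this]; group
    rw [h1] at h
    exact hnot (j - i) (by omega) (by omega) h
  haveI : Finite (Matrix.ProjectiveSpecialLinearGroup (Fin 2) F ⧸ H) :=
    Nat.finite_of_card_ne_zero (by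
      have : Nat.card (Matrix.ProjectiveSpecialLinearGroup (Fin 2) F ⧸ H) = 11 := hidx
      omega)
  have hbij : Function.Bijective (fun i : Fin 11 =>
      ((s ^ (i : ℕ) : Matrix.ProjectiveSpecialLinearGroup (Fin 2) F) :
        Matrix.ProjectiveSpecialLinearGroup (Fin 2) F ⧸ H)) := by
    apply Function.Injective.bijective_of_nat_card_le
    · intro i j hij
      by_contra hcon
      rcases lt_or_gt_of_ne (fun h => hcon (Fin.ext h) : (i : ℕ) ≠ j) with h | h
      · exact hne i j h j.isLt hij
      · exact hne j i h i.isLt hij.symm
    · have : Nat.card (Matrix.ProjectiveSpecialLinearGroup (Fin 2) F ⧸ H) = 11 := hidx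
      rw [this]; simp
  -- Lemma E
  have hE : ∀ a b : Matrix.ProjectiveSpecialLinearGroup (Fin 2) F ⧸ H, a ≠ b →
      ∃ g : Matrix.ProjectiveSpecialLinearGroup (Fin 2) F,
        g • ((1 : Matrix.ProjectiveSpecialLinearGroup (Fin 2) F) :
          Matrix.ProjectiveSpecialLinearGroup (Fin 2) F ⧸ H) = a ∧
        g • ((s : Matrix.ProjectiveSpecialLinearGroup (Fin 2) F) :
          Matrix.ProjectiveSpecialLinearGroup (Fin 2) F ⧸ H) = b := by
    intro a b hab
    obtain ⟨x, rfl⟩ := QuotientGroup.mk_surjective a
    obtain ⟨i, hi⟩ := hbij.2 (x⁻¹ • b)
    simp only at hi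
    have hi0 : (i : ℕ) ≠ 0 := by
      intro h0
      rw [h0, pow_zero] at hi
      apply hab
      have : x • (x⁻¹ • b) = b := smul_inv_smul x b
      rw [← this, ← hi, MulAction.Quotient.smul_mk, smul_eq_mul, mul_one]
    obtain ⟨k, hk, hks⟩ := key hF H hX hY i (by omega) i.isLt
    refine ⟨x * k, ?_, ?_⟩
    · rw [MulAction.Quotient.smul_mk, smul_eq_mul, mul_one, QuotientGroup.eq]
      have : (x * k)⁻¹ * x = k⁻¹ := by group
      rw [this]
      exact inv_mem hk
    · rw [MulAction.Quotient.smul_mk, smul_eq_mul, mul_assoc, ← smul_eq_mul x,
        ← MulAction.Quotient.smul_mk, hks, hi, smul_inv_smul]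
  rw [MulAction.is_two_pretransitive_iff]
  intro a b c d hab hcd
  obtain ⟨g1, h1a, h1b⟩ := hE a b hab
  obtain ⟨g2, h2a, h2b⟩ := hE c d hcd
  refine ⟨g2 * g1⁻¹, ?_, ?_⟩
  · rw [← h1a, mul_smul, inv_smul_smul, h2a]
  · rw [← h1b, mul_smul, inv_smul_smul, h2b]

end Cfsg.Agent.S2542
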