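import Cfsg.Statements.S2543
import Mathlib
import Cfsg.Agent.Lib.helper6.PSL11A5

set_option autoImplicit false
open scoped Pointwise
open Cfsg

namespace Cfsg.Agent.S2543

/-- Let F be a field with 11 elements. PSL_2(F) has exactly 22 subgroups isomorphic to the alternating group A_5, and they form two conjugacy classes: there are two such subgroups that are not conjugate, and every such subgroup is conjugate to one of these two. -/
theorem result {F : Type*} [Field F] [Fintype F] (hF : Fintype.card F = 11) : Nat.card {H : Subgroup (Matrix.ProjectiveSpecialLinearGroup (Fin 2) F) // Nonempty (H ≃* alternatingGroup (Fin 5))} = 22 ∧ ∃ H K : Subgroup (Matrix.ProjectiveSpecialLinearGroup (Fin 2) F), Nonempty (H ≃* alternatingGroup (Fin 5)) ∧ Nonempty (K ≃* alternatingGroup (Fin 5)) ∧ (∀ g : Matrix.ProjectiveSpecialLinearGroup (Fin 2) F, MulAut.conj g • H ≠ K) ∧ ∀ L : Subgroup (Matrix.ProjectiveSpecialLinearGroup (Fin 2) F), Nonempty (L ≃* alternatingGroup (Fin 5)) → ∃ g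 : Matrix.ProjectiveSpecialLinearGroup (Fin 2) F, MulAut.conj g • L = H ∨ MulAut.conj g • L = K := by
  obtain ⟨f, M⟩ := Cfsg.Agent.Lib.helper6.PSL11.exists_model hF
  have hfin : Finite (Matrix.ProjectiveSpecialLinearGroup (Fin 2) F) :=
    Nat.finite_of_card_ne_zero (by rw [Cfsg.Agent.Lib.helper6.PSL11.card_of_model M]; norm_num)
  refine ⟨Cfsg.Agent.Lib.helper6.PSL11.count M, Cfsg.Agent.Lib.helper6.PSL11.Hs M false,
    Cfsg.Agent.Lib.helper6.PSL11.Hs M true, Cfsg.Agent.Lib.helper6.PSL11.iso_Hs M false,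
    Cfsg.Agent.Lib.helper6.PSL11.iso_Hs M true, Cfsg.Agent.Lib.helper6.PSL11.conj_ne_Hs M,
    fun L hL => ?_⟩
  obtain ⟨g, i, h⟩ := Cfsg.Agent.Lib.helper6.PSL11.key M L hL
  cases i
  · exact ⟨g, Or.inl h⟩
  · exact ⟨g, Or.inr h⟩

end Cfsg.Agent.S2543
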