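import Cfsg.Statements.S2550
import Mathlib
import Cfsg.Agent.Lib.helper18.Transvection
import Cfsg.Agent.Lib.helper6.SLCard
-- import your own Cfsg.Agent.* helpers here

set_option autoImplicit false
set_option linter.unusedSectionVars false
open Cfsg

namespace Cfsg.Agent.S2550

open Cfsg.Agent.Lib.helper6 Cfsg.Agent.Lib.helper18

theorem rank_ne_zero_of_ne_zero {n : Type*} [Fintype n] [DecidableEq n] {K : Type*} [Field K]
    (N : Matrix n n K) (hN : N ≠ 0) : N.rank ≠ 0 := by
  intro h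
  apply hN
  unfold Matrix.rank at h
  rw [Submodule.finrank_eq_zero, LinearMap.range_eq_bot] at h
  ext i j
  have := congrFun (congrArg (fun f => f (Pi.single j 1)) h) i
  simpa using this

theorem card_psl4 {F : Type*} [Field F] [Fintype F] (hF : Fintype.card F = 2) :
    Nat.card (Matrix.ProjectiveSpecialLinearGroup (Fin 4) F) = 20160 := by
  have h := card_PSL (F := F) 4 (by norm_num)
  rw [hF, Fin.prod_univ_four] at h
  norm_num at h
  omega

theorem card_psl3 {K : Type*} [Field K] [Fintype K] (hK : Fintype.card K = 4) :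
    Nat.card (Matrix.ProjectiveSpecialLinearGroup (Fin 3) K) = 20160 := by
  have h := card_PSL (F := K) 3 (by norm_num)
  rw [hK, Fin.prod_univ_three] at h
  norm_num at h
  omega

section three

variable {K : Type*} [Field K] [CharP K 2]

/-- an element of `SL₃` from a matrix -/
def mk3 (M : Matrix (Fin 3) (Fin 3) K) (h : M.det = 1) : Matrix.SpecialLinearGroup (Fin 3) K :=
  ⟨M, h⟩

theorem mk3_coe (M : Matrix (Fin 3) (Fin 3) K) (h : M.det = 1) :
    (mk3 M h : Matrix (Fin 3) (Fin 3) K) = M := rfl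

theorem det_stdE : (!![(1 : K), 0, 0; 1, 1, 0; 0, 0, 1] : Matrix (Fin 3) (Fin 3) K).det = 1 := by
  rw [Matrix.det_fin_three]
  simp

/-- the standard transvection -/
def stdE : Matrix.SpecialLinearGroup (Fin 3) K := mk3 _ det_stdE

/-- every involution of `SL₃(K)`, `char K = 2`, is conjugate to the standard transvection -/
theorem invol_conj_std (t : Matrix.SpecialLinearGroup (Fin 3) K) (ht : t * t = 1) (ht1 : t ≠ 1) :
    ∃ Q : Matrix.SpecialLinearGroup (Fin 3) K, t = Q * stdE * Q⁻¹ := by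
  have hTT : (t : Matrix (Fin 3) (Fin 3) K) * (t : Matrix (Fin 3) (Fin 3) K) = 1 := by
    rw [← Matrix.SpecialLinearGroup.coe_mul, ht, Matrix.SpecialLinearGroup.coe_one]
  have hN2 : ((t : Matrix (Fin 3) (Fin 3) K) - 1) * ((t : Matrix (Fin 3) (Fin 3) K) - 1) = 0 := by
    have h1 : ((t : Matrix (Fin 3) (Fin 3) K) - 1) * ((t : Matrix (Fin 3) (Fin 3) K) - 1) =
        ((t : Matrix (Fin 3) (Fin 3) K) * (t : Matrix (Fin 3) (Fin 3) K) + 1) -
          ((t : Matrix (Fin 3) (Fin 3) K) + (t : Matrix (Fin 3) (Fin 3) K)) := by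
      noncomm_ring
    rw [h1, hTT, CharTwo.add_self_eq_zero, CharTwo.add_self_eq_zero, sub_zero]
  have hN0 : (t : Matrix (Fin 3) (Fin 3) K) - 1 ≠ 0 := by
    intro h
    apply ht1
    apply Subtype.ext
    rw [Matrix.SpecialLinearGroup.coe_one]
    exact sub_eq_zero.mp h
  have hrank : ((t : Matrix (Fin 3) (Fin 3) K) - 1).rank = 1 := by
    have h1 := Matrix.rank_add_rank_le_card_of_mul_eq_zero hN2
    rw [Fintype.card_fin] at h1
    have h3 := rank_ne_zero_of_ne_zero _ hN0
    omega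
  obtain ⟨g, v, hv0, hvne, hconj⟩ := transvection_conj 2 t ⟨hrank, hN2⟩
  have hv : v 1 ≠ 0 ∨ v 2 ≠ 0 := by
    by_contra hcon
    push Not at hcon
    apply hvne
    ext i
    fin_cases i
    · exact hv0
    · exact hcon.1
    · exact hcon.2
  have key : ∃ P : Matrix.SpecialLinearGroup (Fin 3) K,
      (P : Matrix (Fin 3) (Fin 3) K) * (1 + Matrix.vecMulVec v (Pi.single 0 1)) =
        ((stdE : Matrix.SpecialLinearGroup (Fin 3) K) : Matrix (Fin 3) (Fin 3) K) *
          (P : Matrix (Fin 3) (Fin 3) K) := by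
    by_cases h1 : v 1 = 0
    · have h2 : v 2 ≠ 0 := by
        rcases hv with h | h
        · exact absurd h1 h
        · exact h
      have hdet : (!![(1 : K), 0, 0; 0, 0, (v 2)⁻¹; 0, -(v 2), 0] :
          Matrix (Fin 3) (Fin 3) K).det = 1 := by
        rw [Matrix.det_fin_three]
        simp
        field_simp
      refine ⟨mk3 _ hdet, ?_⟩
      rw [mk3_coe, stdE, mk3_coe]
      ext i j
      fin_cases i <;> fin_cases j <;>
        simp [Matrix.mul_apply, Fin.sum_univ_three, Matrix.vecMulVec_apply, hv0, h1, h2]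
    · have hdet : (!![(1 : K), 0, 0; 0, (v 1)⁻¹, 0; 0, -(v 2), v 1] :
          Matrix (Fin 3) (Fin 3) K).det = 1 := by
        rw [Matrix.det_fin_three]
        simp
        field_simp
      refine ⟨mk3 _ hdet, ?_⟩
      rw [mk3_coe, stdE, mk3_coe]
      ext i j
      fin_cases i <;> fin_cases j <;>
        simp [Matrix.mul_apply, Fin.sum_univ_three, Matrix.vecMulVec_apply, hv0, h1] <;> ring
  obtain ⟨P, hP⟩ := key
  have h5 : P * (g⁻¹ * t * g) = stdE * P := by
    apply Subtype.ext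
    rw [Matrix.SpecialLinearGroup.coe_mul, hconj, Matrix.SpecialLinearGroup.coe_mul]
    exact hP
  refine ⟨g * P⁻¹, ?_⟩
  have h6 : t = g * P⁻¹ * (P * (g⁻¹ * t * g)) * g⁻¹ := by group
  rw [h5] at h6
  calc t = g * P⁻¹ * (stdE * P) * g⁻¹ := h6
    _ = g * P⁻¹ * stdE * (g * P⁻¹)⁻¹ := by group

end three

section psl3

variable {K : Type*} [Field K] [CharP K 2]

theorem psl3_invol_lift (a : Matrix.ProjectiveSpecialLinearGroup (Fin 3) K) (ha : a * a = 1)
    (ha1 : a ≠ 1) :
    ∃ t : Matrix.SpecialLinearGroup (Fin 3) K,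
      QuotientGroup.mk' (Subgroup.center (Matrix.SpecialLinearGroup (Fin 3) K)) t = a ∧
        t * t = 1 ∧ t ≠ 1 := by
  obtain ⟨g, rfl⟩ := QuotientGroup.mk'_surjective _ a
  have hc : g * g ∈ Subgroup.center (Matrix.SpecialLinearGroup (Fin 3) K) := by
    have h1 : QuotientGroup.mk' (Subgroup.center (Matrix.SpecialLinearGroup (Fin 3) K)) (g * g) = 1 := by
      rw [map_mul]
      exact ha
    rwa [QuotientGroup.mk'_apply, QuotientGroup.eq_one_iff] at h1
  have hc' := hc
  rw [Matrix.SpecialLinearGroup.mem_center_iff] at hc'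
  obtain ⟨r, hr, hrg⟩ := hc'
  simp only [Fintype.card_fin] at hr
  have hdet : (Matrix.scalar (Fin 3) r).det = 1 := by
    rw [Matrix.scalar_apply, Matrix.det_diagonal, Finset.prod_const, Finset.card_univ,
      Fintype.card_fin]
    exact hr
  have hs_eq : mk3 (Matrix.scalar (Fin 3) r) hdet = g * g := Subtype.ext hrg
  have hs_c : mk3 (Matrix.scalar (Fin 3) r) hdet ∈
      Subgroup.center (Matrix.SpecialLinearGroup (Fin 3) K) := by
    rw [hs_eq]
    exact hc
  have hsss : mk3 (Matrix.scalar (Fin 3) r) hdet * mk3 (Matrix.scalar (Fin 3) r) hdet *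
      mk3 (Matrix.scalar (Fin 3) r) hdet = 1 := by
    apply Subtype.ext
    rw [Matrix.SpecialLinearGroup.coe_mul, Matrix.SpecialLinearGroup.coe_mul, mk3_coe,
      ← map_mul, ← map_mul, Matrix.SpecialLinearGroup.coe_one]
    have : r * r * r = 1 := by rw [← hr]; ring
    rw [this, map_one]
  set s := mk3 (Matrix.scalar (Fin 3) r) hdet with hs
  have hπs : QuotientGroup.mk' (Subgroup.center (Matrix.SpecialLinearGroup (Fin 3) K)) s = 1 := by
    rw [QuotientGroup.mk'_apply, QuotientGroup.eq_one_iff]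
    exact hs_c
  have hπ : QuotientGroup.mk' (Subgroup.center (Matrix.SpecialLinearGroup (Fin 3) K)) (s * g) =
      QuotientGroup.mk' (Subgroup.center (Matrix.SpecialLinearGroup (Fin 3) K)) g := by
    rw [map_mul, hπs, one_mul]
  refine ⟨s * g, hπ, ?_, ?_⟩
  · have hcomm : g * s = s * g := Subgroup.mem_center_iff.mp hs_c g
    calc s * g * (s * g) = s * (g * s) * g := by group
      _ = s * (s * g) * g := by rw [hcomm]
      _ = s * s * (g * g) := by group
      _ = s * s * s := by rw [← hs_eq]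
      _ = 1 := hsss
  · intro h
    apply ha1
    rw [← hπ, h, map_one]

theorem psl3_invol_conj (a b : Matrix.ProjectiveSpecialLinearGroup (Fin 3) K) (ha : a * a = 1)
    (ha1 : a ≠ 1) (hb : b * b = 1) (hb1 : b ≠ 1) : ∃ x, b = x * a * x⁻¹ := by
  obtain ⟨ta, rfl, hta, hta1⟩ := psl3_invol_lift a ha ha1
  obtain ⟨tb, rfl, htb, htb1⟩ := psl3_invol_lift b hb hb1
  obtain ⟨Qa, hQa⟩ := invol_conj_std ta hta hta1
  obtain ⟨Qb, hQb⟩ := invol_conj_std tb htb htb1
  refine ⟨QuotientGroup.mk' (Subgroup.center (Matrix.SpecialLinearGroup (Fin 3) K)) (Qb * Qa⁻¹), ?_⟩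
  rw [← map_inv, ← map_mul, ← map_mul]
  congr 1
  rw [hQb, hQa]
  group

end psl3

section psl4

variable {F : Type*} [Field F] [Fintype F]

theorem charTwo_of_card (h2 : 2 ∣ Fintype.card F) : CharP F 2 := by
  obtain ⟨p, hp⟩ := CharP.exists F
  obtain ⟨n, hprime, hcard⟩ := FiniteField.card F p
  rw [hcard] at h2
  have h3 : 2 ∣ p := Nat.Prime.dvd_of_dvd_pow Nat.prime_two h2
  have h4 : 2 = p := (Nat.prime_dvd_prime_iff_eq Nat.prime_two hprime).mp h3
  rw [h4]
  exact hp

theorem eq_zero_or_one (hF : Fintype.card F = 2) (x : F) : x = 0 ∨ x = 1 := by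
  have h := FiniteField.pow_card x
  rw [hF] at h
  have h1 : x * (x - 1) = 0 := by linear_combination h
  rcases mul_eq_zero.mp h1 with h | h
  · left; exact h
  · right; linear_combination h

theorem center_sl4_eq_bot (hF : Fintype.card F = 2) :
    Subgroup.center (Matrix.SpecialLinearGroup (Fin 4) F) = ⊥ := by
  rw [eq_bot_iff]
  intro A hA
  rw [Matrix.SpecialLinearGroup.mem_center_iff] at hA
  obtain ⟨r, hr, hA⟩ := hA
  have hr1 : r = 1 := by
    rcases eq_zero_or_one hF r with h | h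
    · rw [h] at hr
      simp at hr
    · exact h
  subst hr1
  rw [Subgroup.mem_bot]
  apply Subtype.ext
  rw [← hA]
  simp

/-- an element of `SL₄` from a matrix -/
def mk4 (M : Matrix (Fin 4) (Fin 4) F) (h : M.det = 1) : Matrix.SpecialLinearGroup (Fin 4) F :=
  ⟨M, h⟩

theorem mk4_coe (M : Matrix (Fin 4) (Fin 4) F) (h : M.det = 1) :
    (mk4 M h : Matrix (Fin 4) (Fin 4) F) = M := rfl

/-- a transvection -/
def matT1 : Matrix (Fin 4) (Fin 4) F := !![1, 1, 0, 0; 0, 1, 0, 0; 0, 0, 1, 0; 0, 0, 0, 1]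

/-- a product of two commuting transvections -/
def matT2 : Matrix (Fin 4) (Fin 4) F := !![1, 1, 0, 0; 0, 1, 0, 0; 0, 0, 1, 1; 0, 0, 0, 1]

theorem det_matT1 : (matT1 : Matrix (Fin 4) (Fin 4) F).det = 1 := by
  rw [Matrix.det_of_upperTriangular]
  · simp [matT1, Fin.prod_univ_four]
  · intro i j hij
    fin_cases i <;> fin_cases j <;> simp [matT1] at hij ⊢

theorem det_matT2 : (matT2 : Matrix (Fin 4) (Fin 4) F).det = 1 := by
  rw [Matrix.det_of_upperTriangular]
  · simp [matT2, Fin.prod_univ_four]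
  · intro i j hij
    fin_cases i <;> fin_cases j <;> simp [matT2] at hij ⊢

theorem matT1_sq [CharP F 2] : (matT1 : Matrix (Fin 4) (Fin 4) F) * matT1 = 1 := by
  ext i j
  fin_cases i <;> fin_cases j <;>
    simp [matT1, Matrix.mul_apply, Fin.sum_univ_four, CharTwo.add_self_eq_zero]

theorem matT2_sq [CharP F 2] : (matT2 : Matrix (Fin 4) (Fin 4) F) * matT2 = 1 := by
  ext i j
  fin_cases i <;> fin_cases j <;>
    simp [matT2, Matrix.mul_apply, Fin.sum_univ_four, CharTwo.add_self_eq_zero]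

theorem matT1_key (X : Matrix (Fin 4) (Fin 4) F) :
    ((matT1 : Matrix (Fin 4) (Fin 4) F) - 1) * X * (matT1 - 1) = X 1 0 • (matT1 - 1) := by
  ext i j
  fin_cases i <;> fin_cases j <;>
    simp [matT1, Matrix.mul_apply, Fin.sum_univ_four]

/-- a test matrix -/
def matY : Matrix (Fin 4) (Fin 4) F := !![0, 0, 0, 0; 0, 0, 1, 0; 0, 0, 0, 0; 0, 0, 0, 0]

theorem matT2_key :
    (((matT2 : Matrix (Fin 4) (Fin 4) F) - 1) * matY * (matT2 - 1) :
      Matrix (Fin 4) (Fin 4) F) 0 3 = 1 := by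
  simp [matT2, matY, Matrix.mul_apply, Fin.sum_univ_four]

theorem matT2_entry : ((matT2 : Matrix (Fin 4) (Fin 4) F) - 1) 0 3 = 0 := by
  simp [matT2]

theorem not_conj (g : Matrix.SpecialLinearGroup (Fin 4) F)
    (h : mk4 matT2 det_matT2 = g * mk4 matT1 det_matT1 * g⁻¹) : False := by
  have hGG : (g : Matrix (Fin 4) (Fin 4) F) * ((g⁻¹ : Matrix.SpecialLinearGroup (Fin 4) F) :
      Matrix (Fin 4) (Fin 4) F) = 1 := by
    rw [← Matrix.SpecialLinearGroup.coe_mul, mul_inv_cancel, Matrix.SpecialLinearGroup.coe_one]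
  have h1 : (matT2 : Matrix (Fin 4) (Fin 4) F) = (g : Matrix (Fin 4) (Fin 4) F) * matT1 *
      ((g⁻¹ : Matrix.SpecialLinearGroup (Fin 4) F) : Matrix (Fin 4) (Fin 4) F) := by
    have := congrArg (fun z : Matrix.SpecialLinearGroup (Fin 4) F =>
      (z : Matrix (Fin 4) (Fin 4) F)) h
    simpa [mk4_coe] using this
  have h2 : (matT2 : Matrix (Fin 4) (Fin 4) F) - 1 = (g : Matrix (Fin 4) (Fin 4) F) * (matT1 - 1) *
      ((g⁻¹ : Matrix.SpecialLinearGroup (Fin 4) F) : Matrix (Fin 4) (Fin 4) F) := by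
    rw [h1, Matrix.mul_sub, Matrix.sub_mul, Matrix.mul_one, hGG]
  have h3 : ∀ Y : Matrix (Fin 4) (Fin 4) F, ∃ c : F,
      ((matT2 : Matrix (Fin 4) (Fin 4) F) - 1) * Y * (matT2 - 1) = c • (matT2 - 1) := by
    intro Y
    refine ⟨(((g⁻¹ : Matrix.SpecialLinearGroup (Fin 4) F) : Matrix (Fin 4) (Fin 4) F) * Y *
      (g : Matrix (Fin 4) (Fin 4) F)) 1 0, ?_⟩
    have h4 := matT1_key (((g⁻¹ : Matrix.SpecialLinearGroup (Fin 4) F) :
      Matrix (Fin 4) (Fin 4) F) * Y * (g : Matrix (Fin 4) (Fin 4) F))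
    calc ((matT2 : Matrix (Fin 4) (Fin 4) F) - 1) * Y * (matT2 - 1)
        = (g : Matrix (Fin 4) (Fin 4) F) * ((matT1 - 1) *
          (((g⁻¹ : Matrix.SpecialLinearGroup (Fin 4) F) : Matrix (Fin 4) (Fin 4) F) * Y *
            (g : Matrix (Fin 4) (Fin 4) F)) * (matT1 - 1)) *
          ((g⁻¹ : Matrix.SpecialLinearGroup (Fin 4) F) : Matrix (Fin 4) (Fin 4) F) := by
          rw [h2]
          simp only [Matrix.mul_assoc]
      _ = _ := by
          rw [h4, h2, Matrix.mul_smul, Matrix.smul_mul]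
  obtain ⟨c, hc⟩ := h3 matY
  have h5 := congrFun (congrFun hc 0) 3
  rw [matT2_key, Matrix.smul_apply, matT2_entry, smul_zero] at h5
  exact one_ne_zero h5

theorem psl4_two_classes (hF : Fintype.card F = 2) :
    ∃ a b : Matrix.ProjectiveSpecialLinearGroup (Fin 4) F,
      a * a = 1 ∧ a ≠ 1 ∧ b * b = 1 ∧ b ≠ 1 ∧ ∀ x, b ≠ x * a * x⁻¹ := by
  have : CharP F 2 := charTwo_of_card (by rw [hF])
  set π := QuotientGroup.mk' (Subgroup.center (Matrix.SpecialLinearGroup (Fin 4) F)) with hπ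
  have hπinj : Function.Injective π := by
    rw [← MonoidHom.ker_eq_bot_iff, QuotientGroup.ker_mk', center_sl4_eq_bot hF]
  have h1sq : mk4 (matT1 : Matrix (Fin 4) (Fin 4) F) det_matT1 * mk4 matT1 det_matT1 = 1 := by
    apply Subtype.ext
    rw [Matrix.SpecialLinearGroup.coe_mul, mk4_coe, matT1_sq, Matrix.SpecialLinearGroup.coe_one]
  have h2sq : mk4 (matT2 : Matrix (Fin 4) (Fin 4) F) det_matT2 * mk4 matT2 det_matT2 = 1 := by
    apply Subtype.ext
    rw [Matrix.SpecialLinearGroup.coe_mul, mk4_coe, matT2_sq, Matrix.SpecialLinearGroup.coe_one]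
  have h1ne : mk4 (matT1 : Matrix (Fin 4) (Fin 4) F) det_matT1 ≠ 1 := by
    intro h
    have := congrArg (fun z : Matrix.SpecialLinearGroup (Fin 4) F =>
      (z : Matrix (Fin 4) (Fin 4) F) 0 1) h
    simp [mk4_coe, matT1] at this
  have h2ne : mk4 (matT2 : Matrix (Fin 4) (Fin 4) F) det_matT2 ≠ 1 := by
    intro h
    have := congrArg (fun z : Matrix.SpecialLinearGroup (Fin 4) F =>
      (z : Matrix (Fin 4) (Fin 4) F) 0 1) h
    simp [mk4_coe, matT2] at this
  refine ⟨π (mk4 matT1 det_matT1), π (mk4 matT2 det_matT2), ?_, ?_, ?_, ?_, ?_⟩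
  · rw [← map_mul, h1sq, map_one]
  · intro h
    apply h1ne
    apply hπinj
    rw [h, map_one]
  · rw [← map_mul, h2sq, map_one]
  · intro h
    apply h2ne
    apply hπinj
    rw [h, map_one]
  · intro x hx
    obtain ⟨g, rfl⟩ := QuotientGroup.mk'_surjective _ x
    rw [← map_inv, ← map_mul, ← map_mul] at hx
    exact not_conj g (hπinj hx)

end psl4


/-- Let F be a field with 2 elements and K a field with 4 elements. PSL_4(F) and PSL_3(K) have the same order (20160) but are not isomorphic. -/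
theorem result {F K : Type*} [Field F] [Fintype F] [Field K] [Fintype K] (hF : Fintype.card F = 2) (hK : Fintype.card K = 4) : Nat.card (Matrix.ProjectiveSpecialLinearGroup (Fin 4) F) = Nat.card (Matrix.ProjectiveSpecialLinearGroup (Fin 3) K) ∧ ¬ Nonempty (Matrix.ProjectiveSpecialLinearGroup (Fin 4) F ≃* Matrix.ProjectiveSpecialLinearGroup (Fin 3) K) := by
  refine ⟨by rw [card_psl4 hF, card_psl3 hK], ?_⟩
  rintro ⟨e⟩
  have : CharP K 2 := charTwo_of_card (by rw [hK]; decide)
  obtain ⟨a, b, ha, ha1, hb, hb1, hab⟩ := psl4_two_classes hF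
  have hea : e a * e a = 1 := by rw [← map_mul, ha, map_one]
  have heb : e b * e b = 1 := by rw [← map_mul, hb, map_one]
  have hea1 : e a ≠ 1 := by
    intro h
    apply ha1
    apply e.injective
    rw [h, map_one]
  have heb1 : e b ≠ 1 := by
    intro h
    apply hb1
    apply e.injective
    rw [h, map_one]
  obtain ⟨x, hx⟩ := psl3_invol_conj (e a) (e b) hea hea1 heb heb1
  apply hab (e.symm x)
  apply e.injective
  rw [hx]
  simp

end Cfsg.Agent.S2550
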