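import Cfsg.Statements.S2551
import Cfsg.Agent.S0256
import Cfsg.Agent.Lib.helper61.Act16

set_option autoImplicit false
open Cfsg

namespace Cfsg.Agent.S2551

open Cfsg.Agent.Lib.helper61

section Action

variable {F : Type*} [Field F]

/-- The natural action of a subgroup of `GL_4(F)` on `F^4`. -/
@[reducible] def act (H : Subgroup (Matrix.GeneralLinearGroup (Fin 4) F)) :
    DistribMulAction H (Fin 4 → F) where
  smul g v := ((g : Matrix.GeneralLinearGroup (Fin 4) F) : Matrix (Fin 4) (Fin 4) F).mulVec v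
  one_smul v := by
    show (((1 : H) : Matrix.GeneralLinearGroup (Fin 4) F) : Matrix (Fin 4) (Fin 4) F).mulVec v = v
    simp
  mul_smul g h v := by
    show (((g * h : H) : Matrix.GeneralLinearGroup (Fin 4) F) : Matrix (Fin 4) (Fin 4) F).mulVec v
      = ((g : Matrix.GeneralLinearGroup (Fin 4) F) : Matrix (Fin 4) (Fin 4) F).mulVec
        (((h : Matrix.GeneralLinearGroup (Fin 4) F) : Matrix (Fin 4) (Fin 4) F).mulVec v)
    simp [Matrix.mulVec_mulVec]
  smul_zero g := Matrix.mulVec_zero _
  smul_add g v w := Matrix.mulVec_add _ v w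

theorem act_faithful (H : Subgroup (Matrix.GeneralLinearGroup (Fin 4) F)) :
    @FaithfulSMul H (Fin 4 → F) (act H).toSMul := by
  let _act : DistribMulAction H (Fin 4 → F) := act H
  refine ⟨?_⟩
  intro g g' h
  apply Subtype.ext
  apply Units.ext
  apply Matrix.toLin'.injective
  apply LinearMap.ext
  intro v
  rw [Matrix.toLin'_apply, Matrix.toLin'_apply]
  exact h v

end Action

theorem part2 {F : Type*} [Field F] [Fintype F] (hF : Fintype.card F = 2)
    (H : Subgroup (Matrix.GeneralLinearGroup (Fin 4) F))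
    (hH : Nonempty (H ≃* alternatingGroup (Fin 7)))
    (v w v' w' : Fin 4 → F) (hv : v ≠ 0) (hw : w ≠ 0) (hvw : v ≠ w) (hv' : v' ≠ 0)
    (hw' : w' ≠ 0) (hvw' : v' ≠ w') :
    ∃ g ∈ H, (g : Matrix (Fin 4) (Fin 4) F).mulVec v = v' ∧
      (g : Matrix (Fin 4) (Fin 4) F).mulVec w = w' := by
  classical
  obtain ⟨e⟩ := hH
  let _act : DistribMulAction H (Fin 4 → F) := act H
  have _faith : FaithfulSMul H (Fin 4 → F) := act_faithful H
  have hcard : Nat.card H = 2520 := by
    rw [Nat.card_congr e.toEquiv, nat_card_alternatingGroup, Nat.card_eq_fintype_card,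
      Fintype.card_fin]
    decide
  have hV : Fintype.card (Fin 4 → F) = 16 := by
    rw [Fintype.card_fun, hF, Fintype.card_fin]
    norm_num
  have h2F : (2 : F) = 0 := by
    have := Nat.cast_card_eq_zero F
    rw [hF] at this
    exact_mod_cast this
  have h2 : ∀ x : Fin 4 → F, x + x = 0 := by
    intro x
    funext i
    show x i + x i = 0
    rw [← two_mul, h2F, zero_mul]
  obtain ⟨g, hg1, hg2⟩ := Act16.two_transitive (H := H) hV h2 hcard v w v' w' hv hw hvw hv' hw'
    hvw'
  exact ⟨g.1, g.2, hg1, hg2⟩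

/-- `A_7` embeds in `A_8`. -/
theorem exists_A7_A8 : ∃ f : alternatingGroup (Fin 7) →* alternatingGroup (Fin 8),
    Function.Injective f := by
  classical
  let e : Fin 7 ≃ {i : Fin 8 // i ∈ Set.range (Fin.castSucc : Fin 7 → Fin 8)} :=
    Equiv.ofInjective Fin.castSucc (Fin.castSucc_injective 7)
  let f0 : alternatingGroup (Fin 7) →* Equiv.Perm (Fin 8) :=
    (Equiv.Perm.extendDomainHom e).comp (alternatingGroup (Fin 7)).subtype
  have hf0 : Function.Injective f0 :=
    (Equiv.Perm.extendDomainHom_injective e).comp Subtype.val_injective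
  have hmem : ∀ σ, f0 σ ∈ alternatingGroup (Fin 8) := by
    intro σ
    rw [Equiv.Perm.mem_alternatingGroup]
    show Equiv.Perm.sign (Equiv.Perm.extendDomain (σ : Equiv.Perm (Fin 7)) e) = 1
    rw [Equiv.Perm.sign_extendDomain]
    exact Equiv.Perm.mem_alternatingGroup.mp σ.2
  refine ⟨f0.codRestrict (alternatingGroup (Fin 8)) hmem, ?_⟩
  intro a b hab
  apply hf0
  exact congrArg Subtype.val hab

theorem part1 {F : Type*} [Field F] [Fintype F] (hF : Fintype.card F = 2) :
    ∃ H : Subgroup (Matrix.GeneralLinearGroup (Fin 4) F),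
      Nonempty (H ≃* alternatingGroup (Fin 7)) := by
  classical
  obtain ⟨e1⟩ := Cfsg.Agent.S0256.main
  obtain ⟨e2⟩ := Cfsg.Agent.S0256.sl_equiv_psl
  obtain ⟨ι, hι⟩ := exists_A7_A8
  have eF : ZMod 2 ≃+* F := ZMod.ringEquivOfPrime F (by norm_num) hF
  let l : Matrix.GeneralLinearGroup (Fin 4) (ZMod 2) ≃* Matrix.GeneralLinearGroup (Fin 4) F :=
    Units.mapEquiv (RingEquiv.mapMatrix eF).toMulEquiv
  let j : alternatingGroup (Fin 8) ≃* Matrix.SpecialLinearGroup (Fin 4) (ZMod 2) :=
    e1.symm.trans e2.symm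
  let f : alternatingGroup (Fin 7) →* Matrix.GeneralLinearGroup (Fin 4) F :=
    l.toMonoidHom.comp (Matrix.SpecialLinearGroup.toGL.comp (j.toMonoidHom.comp ι))
  have hf : Function.Injective f :=
    l.injective.comp (Matrix.SpecialLinearGroup.toGL_injective.comp (j.injective.comp hι))
  exact ⟨f.range, ⟨(MonoidHom.ofInjective hf).symm⟩⟩

/-- Let F be the field with 2 elements. GL_4(F) (≅ A_8) has a subgroup isomorphic to the alternating group A_7, and every such subgroup acts 2-transitively on the 15 non-zero vectors of F⁴: any ordered pair of distinct non-zero vectors is carried to any other by some element of the subgroup. -/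
theorem result {F : Type*} [Field F] [Fintype F] (hF : Fintype.card F = 2) : (∃ H : Subgroup (Matrix.GeneralLinearGroup (Fin 4) F), Nonempty (H ≃* alternatingGroup (Fin 7))) ∧ ∀ H : Subgroup (Matrix.GeneralLinearGroup (Fin 4) F), Nonempty (H ≃* alternatingGroup (Fin 7)) → ∀ v w v' w' : Fin 4 → F, v ≠ 0 → w ≠ 0 → v ≠ w → v' ≠ 0 → w' ≠ 0 → v' ≠ w' → ∃ g ∈ H, (g : Matrix (Fin 4) (Fin 4) F).mulVec v = v' ∧ (g : Matrix (Fin 4) (Fin 4) F).mulVec w = w' := by
  refine ⟨part1 hF, ?_⟩
  intro H hH v w v' w' hv hw hvw hv' hw' hvw'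
  exact part2 hF H hH v w v' w' hv hw hvw hv' hw' hvw'

end Cfsg.Agent.S2551
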