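import Cfsg.Statements.S2552

set_option autoImplicit false
open Cfsg

namespace Cfsg.Agent.S2552

open Module

theorem exists_equiv_map {F V : Type*} [Field F] [AddCommGroup V] [Module F V] [FiniteDimensional F V]
    (U₁ U₂ : Submodule F V) (h : finrank F U₁ = finrank F U₂) :
    ∃ e : V ≃ₗ[F] V, U₁.map (e : V →ₗ[F] V) = U₂ := by
  obtain ⟨W₁, hW₁⟩ := Submodule.exists_isCompl U₁
  obtain ⟨W₂, hW₂⟩ := Submodule.exists_isCompl U₂
  have hW : finrank F W₁ = finrank F W₂ := by
    have h1 := Submodule.finrank_add_eq_of_isCompl hW₁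
    have h2 := Submodule.finrank_add_eq_of_isCompl hW₂
    omega
  let eU : U₁ ≃ₗ[F] U₂ := LinearEquiv.ofFinrankEq _ _ h
  let eW : W₁ ≃ₗ[F] W₂ := LinearEquiv.ofFinrankEq _ _ hW
  let e : V ≃ₗ[F] V := (Submodule.prodEquivOfIsCompl U₁ W₁ hW₁).symm ≪≫ₗ (eU.prodCongr eW) ≪≫ₗ (Submodule.prodEquivOfIsCompl U₂ W₂ hW₂)
  refine ⟨e, ?_⟩
  apply le_antisymm
  · rintro _ ⟨u, hu, rfl⟩
    have : (Submodule.prodEquivOfIsCompl U₁ W₁ hW₁).symm u = (⟨u, hu⟩, 0) := by
      rw [LinearEquiv.symm_apply_eq]; simp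
    simp [e, this]
  · intro u hu
    refine ⟨(eU.symm ⟨u, hu⟩ : V), (eU.symm ⟨u, hu⟩).2, ?_⟩
    have : (Submodule.prodEquivOfIsCompl U₁ W₁ hW₁).symm (eU.symm ⟨u, hu⟩ : V) = (eU.symm ⟨u, hu⟩, 0) := by
      rw [LinearEquiv.symm_apply_eq]; simp
    simp [e, this]

/-- Let F be a finite field and n ≥ 1. For every k, the special linear group SL_n(F) acts transitively on the set of k-dimensional subspaces of F^n: any two subspaces of the same dimension are carried onto each other by some matrix of determinant 1. -/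
theorem result {F : Type*} [Field F] [Fintype F] (n : ℕ) (hn : 1 ≤ n) (U₁ U₂ : Submodule F (Fin n → F)) (h : Module.finrank F U₁ = Module.finrank F U₂) : ∃ g : Matrix.SpecialLinearGroup (Fin n) F, U₁.map ((Matrix.SpecialLinearGroup.toLin' g : (Fin n → F) ≃ₗ[F] (Fin n → F)) : (Fin n → F) →ₗ[F] (Fin n → F)) = U₂ := by
  classical
  obtain ⟨e, he⟩ := exists_equiv_map U₁ U₂ h
  by_cases hU : U₂ = ⊥
  · refine ⟨1, ?_⟩
    have : U₁ = ⊥ := by
      rw [hU] at h
      simpa using h
    rw [this, hU]; simp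
  · obtain ⟨u, hu, hu0⟩ := Submodule.exists_mem_ne_zero_of_ne_bot hU
    obtain ⟨j, hj⟩ : ∃ j, u j ≠ 0 := by
      by_contra hc; exact hu0 (funext fun i => by_contra fun hi => hc ⟨i, hi⟩)
    set E : Matrix (Fin n) (Fin n) F := LinearMap.toMatrix' (e : (Fin n → F) →ₗ[F] (Fin n → F)) with hE
    have hEdet : E.det ≠ 0 := by
      have h1 : E * LinearMap.toMatrix' (e.symm : (Fin n → F) →ₗ[F] (Fin n → F)) = 1 := by
        rw [hE, ← LinearMap.toMatrix'_comp]
        have : (e : (Fin n → F) →ₗ[F] (Fin n → F)) ∘ₗ (e.symm : (Fin n → F) →ₗ[F] (Fin n → F)) = LinearMap.id := by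
          ext v; simp
        rw [this, LinearMap.toMatrix'_id]
      intro h0
      have := congrArg Matrix.det h1
      rw [Matrix.det_mul, h0] at this
      simp at this
    set c : F := E.det⁻¹ with hc
    set D : Matrix (Fin n) (Fin n) F := 1 + Matrix.replicateCol Unit ((c - 1) • u) * Matrix.replicateRow Unit (Pi.single j (u j)⁻¹) with hDdef
    have hD : D.det = c := by
      rw [hDdef, Matrix.det_one_add_replicateCol_mul_replicateRow]
      simp [dotProduct, Pi.single_apply]
      field_simp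
      ring
    have hDv : ∀ v, Matrix.toLin' D v = v + ((c - 1) * (v j * (u j)⁻¹)) • u := by
      intro v
      ext i
      simp [hDdef, Matrix.mulVec, dotProduct, Matrix.mul_apply, Pi.single_apply]
      ring
    have hDU : U₂.map (Matrix.toLin' D) = U₂ := by
      apply Submodule.eq_of_le_of_finrank_eq
      · rintro _ ⟨v, hv, rfl⟩
        rw [hDv]
        exact U₂.add_mem hv (U₂.smul_mem _ hu)
      · have hcne : c ≠ 0 := by rw [hc]; exact inv_ne_zero hEdet
        have hinj : Function.Injective (Matrix.toLin' D) := by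
          have hl : Function.LeftInverse (Matrix.toLin' D⁻¹) (Matrix.toLin' D) := by
            intro v
            have h1 : D⁻¹ * D = 1 := Matrix.nonsing_inv_mul D (by rw [hD]; exact isUnit_iff_ne_zero.mpr hcne)
            have h2 := congrArg (fun M => Matrix.toLin' M v) h1
            simpa [Matrix.toLin'_mul] using h2
          exact hl.injective
        exact (LinearEquiv.finrank_eq (Submodule.equivMapOfInjective _ hinj U₂)).symm
    have hdet : (D * E).det = 1 := by
      rw [Matrix.det_mul, hD, hc, inv_mul_cancel₀ hEdet]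
    refine ⟨⟨D * E, hdet⟩, ?_⟩
    show U₁.map (Matrix.toLin' (D * E)) = U₂
    rw [Matrix.toLin'_mul, Submodule.map_comp, hE, Matrix.toLin'_toMatrix', he, hDU]

end Cfsg.Agent.S2552
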