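import Cfsg.Statements.S2553
import Cfsg.Agent.S0256
import Cfsg.Agent.S0144
import Cfsg.Agent.S2551
import Cfsg.Agent.Lib.helper61.SolvPQ
import Cfsg.Agent.Lib.helper61.Perm8
import Cfsg.Agent.Lib.helper61.GL3Rec

set_option autoImplicit false
open Cfsg

namespace Cfsg.Agent.S2553

open Cfsg.Agent.Lib.helper61

/-- `GL_4(2)` is isomorphic to `A_8`. -/
theorem gl42_equiv_a8 :
    Nonempty (Matrix.GeneralLinearGroup (Fin 4) (ZMod 2) ≃* alternatingGroup (Fin 8)) := by
  classical
  obtain ⟨e1⟩ := Cfsg.Agent.S0256.main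
  obtain ⟨e2⟩ := Cfsg.Agent.S0256.sl_equiv_psl
  have htoGL : Function.Bijective (Matrix.SpecialLinearGroup.toGL :
      Matrix.SpecialLinearGroup (Fin 4) (ZMod 2) →* Matrix.GeneralLinearGroup (Fin 4) (ZMod 2)) := by
    apply Matrix.SpecialLinearGroup.toGL_injective.bijective_of_nat_card_le
    rw [Cfsg.Agent.S0256.card_sl42, Matrix.card_GL_field]
    simp [Fin.prod_univ_four]
  let e3 : Matrix.SpecialLinearGroup (Fin 4) (ZMod 2) ≃*
      Matrix.GeneralLinearGroup (Fin 4) (ZMod 2) := MulEquiv.ofBijective _ htoGL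
  exact ⟨(e3.symm.trans e2).trans e1⟩

/-- A number dividing `20160` and prime to `5` and `7` is of the form `2 ^ a * 3 ^ b`. -/
theorem two_three_of_dvd {n : ℕ} (hn : n ∣ 20160) (h5 : ¬ 5 ∣ n) (h7 : ¬ 7 ∣ n) :
    ∃ a b : ℕ, n = 2 ^ a * 3 ^ b := by
  have hc5 : Nat.Coprime n 5 := ((Nat.Prime.coprime_iff_not_dvd (by norm_num)).mpr h5).symm
  have hc7 : Nat.Coprime n 7 := ((Nat.Prime.coprime_iff_not_dvd (by norm_num)).mpr h7).symm
  have hc35 : Nat.Coprime n (5 * 7) := Nat.Coprime.mul_right hc5 hc7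
  have hd : n ∣ 2 ^ 6 * 3 ^ 2 := by
    apply Nat.Coprime.dvd_of_dvd_mul_right hc35
    exact hn
  obtain ⟨y, z, hy, hz, hyz⟩ := (Nat.dvd_mul).mp hd
  obtain ⟨a, _, rfl⟩ := (Nat.dvd_prime_pow Nat.prime_two).mp hy
  obtain ⟨b, _, rfl⟩ := (Nat.dvd_prime_pow Nat.prime_three).mp hz
  exact ⟨a, b, hyz.symm⟩

/-- Let H be a nontrivial subgroup of GL(4,2) (a group isomorphic to the alternating group of degree 8) whose largest normal 2-subgroup and largest normal subgroup of odd order are both trivial. Then H is isomorphic to an alternating group of degree n for some 5 ≤ n ≤ 8, to the symmetric group of degree 5 or 6, or to GL(3,2). -/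
theorem result (H : Subgroup (GL (Fin 4) (ZMod 2))) (hH : H ≠ ⊥) (hO : Cfsg.pPrimeCore 2 ↥H = ⊥) (hO2 : Cfsg.pCore 2 ↥H = ⊥) :
    (∃ n : ℕ, 5 ≤ n ∧ n ≤ 8 ∧ Nonempty (↥H ≃* alternatingGroup (Fin n))) ∨
    Nonempty (↥H ≃* Equiv.Perm (Fin 5)) ∨ Nonempty (↥H ≃* Equiv.Perm (Fin 6)) ∨ Nonempty (↥H ≃* GL (Fin 3) (ZMod 2)) := by
  classical
  have hN2 : ∀ N : Subgroup H, N.Normal → IsPGroup 2 N → N = ⊥ := by
    intro N hN hp
    rw [eq_bot_iff, ← hO2]
    exact le_sSup ⟨hN, hp⟩
  have hNodd : ∀ N : Subgroup H, N.Normal → (Nat.card N).Coprime 2 → N = ⊥ := by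
    intro N hN hp
    rw [eq_bot_iff, ← hO]
    exact le_sSup ⟨hN, hp⟩
  have hnt : Nontrivial H := (Subgroup.nontrivial_iff_ne_bot H).mpr hH
  have hns : ¬ Group.IsSolvable H := by
    intro hsol
    obtain ⟨p, N, hp, hN, hNne, hexp⟩ := solvable_exists_normal_exp hsol hnt
    apply hNne
    have : Fact p.Prime := ⟨hp⟩
    have hpg : IsPGroup p N := by
      intro k
      refine ⟨1, ?_⟩
      apply Subtype.ext
      rw [pow_one]
      exact hexp k.1 k.2
    by_cases hp2 : p = 2
    · subst hp2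
      exact hN2 N hN hpg
    · apply hNodd N hN
      obtain ⟨n, hn⟩ := IsPGroup.iff_card.mp hpg
      rw [hn]
      apply Nat.Coprime.pow_left
      exact (Nat.coprime_primes hp Nat.prime_two).mpr hp2
  -- the linear action
  let _act : DistribMulAction H (Fin 4 → ZMod 2) := Cfsg.Agent.S2551.act H
  have _faith : FaithfulSMul H (Fin 4 → ZMod 2) := Cfsg.Agent.S2551.act_faithful H
  have hV : Fintype.card (Fin 4 → ZMod 2) = 16 := by
    rw [Fintype.card_fun, ZMod.card, Fintype.card_fin]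
    norm_num
  have h2 : ∀ x : Fin 4 → ZMod 2, x + x = 0 := by
    intro x
    funext i
    show x i + x i = 0
    exact CharTwo.add_self_eq_zero (x i)
  -- the permutation representation
  obtain ⟨e⟩ := gl42_equiv_a8
  let ι : H →* Equiv.Perm (Fin 8) :=
    ((alternatingGroup (Fin 8)).subtype.comp e.toMonoidHom).comp H.subtype
  have hι : Function.Injective ι :=
    (Subtype.val_injective.comp e.injective).comp Subtype.val_injective
  have hιA : ∀ x, ι x ∈ alternatingGroup (Fin 8) := fun x => (e x.1).2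
  have hcard : Nat.card H ∣ 20160 := by
    have h1 := Subgroup.card_subgroup_dvd_card H
    have h3 : Nat.card (alternatingGroup (Fin 8)) = 20160 := by
      rw [nat_card_alternatingGroup, Nat.card_fin]
      decide
    rwa [Nat.card_congr e.toEquiv, h3] at h1
  by_cases h5 : 5 ∣ Nat.card H
  · rcases Perm8.permA ι hι hιA hns hNodd h5 with h | h | h
    · exact Or.inl h
    · exact Or.inr (Or.inl h)
    · exact Or.inr (Or.inr (Or.inl h))
  · have h7 : 7 ∣ Nat.card H := by
      by_contra h7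
      apply hns
      obtain ⟨a, b, hab⟩ := two_three_of_dvd hcard h5 h7
      exact Cfsg.Agent.S0144.result 2 3 a b Nat.prime_two Nat.prime_three hab
    have : Fact (Nat.Prime 7) := ⟨by norm_num⟩
    obtain ⟨g, hg⟩ := exists_prime_orderOf_dvd_card' 7 h7
    rcases GL3Rec.linA hV h2 hN2 hns g hg with h | h
    · exact Or.inr (Or.inr (Or.inr h))
    · exact absurd h h5

end Cfsg.Agent.S2553
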