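import Cfsg.Statements.S2562
import Cfsg.Agent.Lib.helper48.QuadF2Witt

set_option autoImplicit false
open Cfsg

namespace Cfsg.Agent.S2562

open Cfsg.Agent.Lib.helper48

/-- embedding `x ↦ (x, 0)` -/
def inlMap (m : ℕ) : (Fin m → ZMod 2) →ₗ[ZMod 2] (Fin m ⊕ Fin m → ZMod 2) where
  toFun x := Sum.elim x 0
  map_add' x y := by ext j; cases j <;> simp
  map_smul' c x := by ext j; cases j <;> simp

theorem inlMap_inj (m : ℕ) : Function.Injective (inlMap m) := by
  intro x y h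
  ext i
  have := congrFun h (Sum.inl i)
  simpa [inlMap] using this

theorem plus_ts (m : ℕ) : ∃ U : Submodule (ZMod 2) (Fin m ⊕ Fin m → ZMod 2),
    (∀ u ∈ U, Cfsg.quadFormPlus m (ZMod 2) u = 0) ∧ Module.finrank (ZMod 2) U = m := by
  refine ⟨LinearMap.range (inlMap m), ?_, ?_⟩
  · rintro _ ⟨x, rfl⟩
    unfold Cfsg.quadFormPlus
    simp [inlMap]
  · rw [LinearMap.finrank_range_of_inj (inlMap_inj m)]
    simp

theorem finrank_plus (m : ℕ) : Module.finrank (ZMod 2) (Fin m ⊕ Fin m → ZMod 2) = m + m := by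
  simp

theorem charSum_plus (m : ℕ) :
    ∑ v : (Fin m ⊕ Fin m → ZMod 2), chi (Cfsg.quadFormPlus m (ZMod 2) v) = 2 ^ m := by
  obtain ⟨U, hU, hdim⟩ := plus_ts m
  have := charSum_of_ts_half (Cfsg.quadFormPlus m (ZMod 2)) (polPlus m (ZMod 2))
    (quadFormPlus_add m (ZMod 2)) (polPlus_add_left m (ZMod 2)) (polPlus_nondeg m (ZMod 2)) U hU
    (by rw [hdim, finrank_plus]; ring)
  rw [this, hdim]

/-- polar form of the minus-type form -/
def polMinus (k : ℕ) (u v : (Fin k ⊕ Fin k) ⊕ Fin 2 → ZMod 2) : ZMod 2 :=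
  polPlus k (ZMod 2) (fun j => u (.inl j)) (fun j => v (.inl j))
    + (u (.inr 0) * v (.inr 1) + v (.inr 0) * u (.inr 1))

theorem quadFormMinus_eq (k : ℕ) (v : (Fin k ⊕ Fin k) ⊕ Fin 2 → ZMod 2) :
    Cfsg.quadFormMinus k (ZMod 2) 1 1 v = Cfsg.quadFormPlus k (ZMod 2) (fun j => v (.inl j))
      + (v (.inr 0) ^ 2 + v (.inr 0) * v (.inr 1) + v (.inr 1) ^ 2) := by
  unfold Cfsg.quadFormMinus Cfsg.quadFormPlus
  simp

theorem quadFormMinus_add (k : ℕ) (u v : (Fin k ⊕ Fin k) ⊕ Fin 2 → ZMod 2) :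
    Cfsg.quadFormMinus k (ZMod 2) 1 1 (u + v) = Cfsg.quadFormMinus k (ZMod 2) 1 1 u
      + Cfsg.quadFormMinus k (ZMod 2) 1 1 v + polMinus k u v := by
  rw [quadFormMinus_eq, quadFormMinus_eq, quadFormMinus_eq]
  have : (fun j => (u + v) (Sum.inl j)) = (fun j => u (.inl j)) + (fun j => v (.inl j)) := rfl
  rw [this, quadFormPlus_add]
  unfold polMinus
  simp only [Pi.add_apply]
  have h2 : (2 : ZMod 2) = 0 := rfl
  linear_combination (u (.inr 0) * v (.inr 0) + u (.inr 1) * v (.inr 1)) * h2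

theorem polMinus_add_left (k : ℕ) (u u' v : (Fin k ⊕ Fin k) ⊕ Fin 2 → ZMod 2) :
    polMinus k (u + u') v = polMinus k u v + polMinus k u' v := by
  unfold polMinus
  have : (fun j => (u + u') (Sum.inl j)) = (fun j => u (.inl j)) + (fun j => u' (.inl j)) := rfl
  rw [this, polPlus_add_left]
  simp only [Pi.add_apply]
  ring

theorem polMinus_nondeg (k : ℕ) (t : (Fin k ⊕ Fin k) ⊕ Fin 2 → ZMod 2) (ht : t ≠ 0) :
    ∃ u, polMinus k u t = 1 := by
  classical
  have : ∃ j, t j ≠ 0 := by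
    by_contra h
    push Not at h
    exact ht (funext h)
  obtain ⟨j, hj⟩ := this
  rcases j with j | j
  · have ht' : (fun j => t (.inl j)) ≠ 0 := by
      intro h
      exact hj (congrFun h j)
    obtain ⟨u', hu'⟩ := polPlus_nondeg k (ZMod 2) _ ht'
    refine ⟨Sum.elim u' 0, ?_⟩
    unfold polMinus
    simp [hu']
  · have hj1 : t (.inr j) = 1 := by
      rcases zmod2_eq_zero_or_one (t (.inr j)) with h | h
      · exact absurd h hj
      · exact h
    fin_cases j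
    · refine ⟨Pi.single (Sum.inr 1) 1, ?_⟩
      unfold polMinus
      have h0 : (fun j => (Pi.single (Sum.inr 1) 1 : (Fin k ⊕ Fin k) ⊕ Fin 2 → ZMod 2) (Sum.inl j)) = 0 := by
        ext j; simp
      rw [h0, polPlus_zero_left]
      simpa using hj1
    · refine ⟨Pi.single (Sum.inr 0) 1, ?_⟩
      unfold polMinus
      have h0 : (fun j => (Pi.single (Sum.inr 0) 1 : (Fin k ⊕ Fin k) ⊕ Fin 2 → ZMod 2) (Sum.inl j)) = 0 := by
        ext j; simp
      rw [h0, polPlus_zero_left]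
      simpa using hj1

theorem charSum_aniso :
    ∑ b : (Fin 2 → ZMod 2), chi (b 0 ^ 2 + b 0 * b 1 + b 1 ^ 2) = -2 := by
  decide

theorem charSum_minus (k : ℕ) :
    ∑ v : ((Fin k ⊕ Fin k) ⊕ Fin 2 → ZMod 2), chi (Cfsg.quadFormMinus k (ZMod 2) 1 1 v)
      = - 2 ^ (k + 1) := by
  rw [← Equiv.sum_comp (Equiv.sumArrowEquivProdArrow (Fin k ⊕ Fin k) (Fin 2) (ZMod 2)).symm,
    Fintype.sum_prod_type]
  have h : ∀ (a : Fin k ⊕ Fin k → ZMod 2) (b : Fin 2 → ZMod 2),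
      chi (Cfsg.quadFormMinus k (ZMod 2) 1 1
        ((Equiv.sumArrowEquivProdArrow (Fin k ⊕ Fin k) (Fin 2) (ZMod 2)).symm (a, b)))
      = chi (Cfsg.quadFormPlus k (ZMod 2) a) * chi (b 0 ^ 2 + b 0 * b 1 + b 1 ^ 2) := by
    intro a b
    rw [quadFormMinus_eq, chi_add]
    rfl
  simp_rw [h]
  rw [← Finset.sum_mul_sum, charSum_plus, charSum_aniso, pow_succ]
  ring

/-- embedding `x ↦ ((x, 0), 0)` -/
def inlMap' (k : ℕ) : (Fin k → ZMod 2) →ₗ[ZMod 2] ((Fin k ⊕ Fin k) ⊕ Fin 2 → ZMod 2) where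
  toFun x := Sum.elim (Sum.elim x 0) 0
  map_add' x y := by ext j; rcases j with (j | j) | j <;> simp
  map_smul' c x := by ext j; rcases j with (j | j) | j <;> simp

theorem inlMap'_inj (k : ℕ) : Function.Injective (inlMap' k) := by
  intro x y h
  ext i
  have := congrFun h (Sum.inl (Sum.inl i))
  simpa [inlMap'] using this

theorem finrank_minus (k : ℕ) :
    Module.finrank (ZMod 2) ((Fin k ⊕ Fin k) ⊕ Fin 2 → ZMod 2) = k + k + 2 := by
  simp

/-- Witt indices over the field of two elements, m ≥ 1: for the plus-type form Σ xᵢyᵢ in dimension 2m some m-dimensional subspace is totally singular and no totally singular subspace has larger dimension; for the minus-type form Σ xᵢyᵢ + (z₁² + z₁z₂ + z₂²) in dimension 2m the maximal dimension of a totally singular subspace is m − 1. -/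
theorem result (m : ℕ) (hm : 1 ≤ m) :
    (∃ U : Submodule (ZMod 2) (Fin m ⊕ Fin m → ZMod 2), (∀ u ∈ U, Cfsg.quadFormPlus m (ZMod 2) u = 0) ∧ Module.finrank (ZMod 2) ↥U = m) ∧
    (∀ U : Submodule (ZMod 2) (Fin m ⊕ Fin m → ZMod 2), (∀ u ∈ U, Cfsg.quadFormPlus m (ZMod 2) u = 0) → Module.finrank (ZMod 2) ↥U ≤ m) ∧
    (∃ U : Submodule (ZMod 2) ((Fin (m - 1) ⊕ Fin (m - 1)) ⊕ Fin 2 → ZMod 2), (∀ u ∈ U, Cfsg.quadFormMinus (m - 1) (ZMod 2) 1 1 u = 0) ∧ Module.finrank (ZMod 2) ↥U = m - 1) ∧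
    (∀ U : Submodule (ZMod 2) ((Fin (m - 1) ⊕ Fin (m - 1)) ⊕ Fin 2 → ZMod 2), (∀ u ∈ U, Cfsg.quadFormMinus (m - 1) (ZMod 2) 1 1 u = 0) → Module.finrank (ZMod 2) ↥U ≤ m - 1) := by
  refine ⟨plus_ts m, ?_, ?_, ?_⟩
  · intro U hU
    have := ts_finrank_le (Cfsg.quadFormPlus m (ZMod 2)) (polPlus m (ZMod 2))
      (quadFormPlus_add m (ZMod 2)) (polPlus_add_left m (ZMod 2)) (polPlus_nondeg m (ZMod 2)) U hU
    rw [finrank_plus] at this
    omega
  · refine ⟨LinearMap.range (inlMap' (m - 1)), ?_, ?_⟩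
    · rintro _ ⟨x, rfl⟩
      rw [quadFormMinus_eq]
      unfold Cfsg.quadFormPlus
      simp [inlMap']
    · rw [LinearMap.finrank_range_of_inj (inlMap'_inj (m - 1))]
      simp
  · intro U hU
    have h1 := ts_finrank_le (Cfsg.quadFormMinus (m - 1) (ZMod 2) 1 1) (polMinus (m - 1))
      (quadFormMinus_add (m - 1)) (polMinus_add_left (m - 1)) (polMinus_nondeg (m - 1)) U hU
    rw [finrank_minus] at h1
    by_contra hcon
    have h2 : Module.finrank (ZMod 2) U = (m - 1) + 1 := by omega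
    have h3 := charSum_of_ts_half (Cfsg.quadFormMinus (m - 1) (ZMod 2) 1 1) (polMinus (m - 1))
      (quadFormMinus_add (m - 1)) (polMinus_add_left (m - 1)) (polMinus_nondeg (m - 1)) U hU
      (by rw [finrank_minus, h2]; ring)
    rw [charSum_minus, h2] at h3
    have h4 : (0 : ℤ) < 2 ^ (m - 1 + 1) := by positivity
    omega

end Cfsg.Agent.S2562
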