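import Cfsg.Statements.S2564
import Cfsg.Agent.Lib.helper48.QuadF2

set_option autoImplicit false
open Cfsg

namespace Cfsg.Agent.S2564

open Cfsg.Agent.Lib.helper48

/-- the transvection `v ↦ v + f(v, w) w` as a linear map -/
def transv (m : ℕ) (w : Fin m ⊕ Fin m → ZMod 2) :
    (Fin m ⊕ Fin m → ZMod 2) →ₗ[ZMod 2] (Fin m ⊕ Fin m → ZMod 2) where
  toFun v := v + polPlus m (ZMod 2) v w • w
  map_add' u v := by
    rw [polPlus_add_left, add_smul]; abel
  map_smul' c v := by
    simp only [RingHom.id_apply]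
    rw [polPlus_smul_left, smul_add, mul_smul]

theorem transv_apply (m : ℕ) (w v : Fin m ⊕ Fin m → ZMod 2) :
    transv m w v = v + polPlus m (ZMod 2) v w • w := rfl

theorem transv_invol (m : ℕ) (w : Fin m ⊕ Fin m → ZMod 2) : Function.Involutive (transv m w) := by
  intro v
  rw [transv_apply, transv_apply, polPlus_add_left, polPlus_smul_left, polPlus_self, mul_zero,
    add_zero, add_assoc, ← add_smul, zmod2_add_self, zero_smul, add_zero]

/-- On the 2m-dimensional space over the field of two elements (m ≥ 1) let f be the alternating form obtained by polarizing the plus-type form Σ xᵢyᵢ, and let q be any quadratic form polarizing to f. For a vector w, the function q + f(·, w) again polarizes to f, and it is equivalent to q under an invertible linear map (that is, has the same type) if and only if q(w) = 0. -/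
theorem result (m : ℕ) (hm : 1 ≤ m) (q : (Fin m ⊕ Fin m → ZMod 2) → ZMod 2) (hq : (∀ u v : (Fin m ⊕ Fin m → ZMod 2), q (u + v) = q u + q v + (Cfsg.quadFormPlus m (ZMod 2) (u + v) - Cfsg.quadFormPlus m (ZMod 2) u - Cfsg.quadFormPlus m (ZMod 2) v))) (w : (Fin m ⊕ Fin m → ZMod 2)) :
    (∀ u v : (Fin m ⊕ Fin m → ZMod 2), (q (u + v) + (Cfsg.quadFormPlus m (ZMod 2) (u + v + w) - Cfsg.quadFormPlus m (ZMod 2) (u + v) - Cfsg.quadFormPlus m (ZMod 2) w)) =
        (q u + (Cfsg.quadFormPlus m (ZMod 2) (u + w) - Cfsg.quadFormPlus m (ZMod 2) u - Cfsg.quadFormPlus m (ZMod 2) w)) + (q v + (Cfsg.quadFormPlus m (ZMod 2) (v + w) - Cfsg.quadFormPlus m (ZMod 2) v - Cfsg.quadFormPlus m (ZMod 2) w)) +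
        (Cfsg.quadFormPlus m (ZMod 2) (u + v) - Cfsg.quadFormPlus m (ZMod 2) u - Cfsg.quadFormPlus m (ZMod 2) v)) ∧
    ((∃ g : (Fin m ⊕ Fin m → ZMod 2) ≃ₗ[ZMod 2] (Fin m ⊕ Fin m → ZMod 2), ∀ v, q v + (Cfsg.quadFormPlus m (ZMod 2) (v + w) - Cfsg.quadFormPlus m (ZMod 2) v - Cfsg.quadFormPlus m (ZMod 2) w) = q (g v)) ↔ q w = 0) := by
  simp only [polar_plus] at hq ⊢
  have hq0 : q 0 = 0 := by
    have := hq 0 0
    have h0 : polPlus m (ZMod 2) 0 0 = 0 := by
      have := polPlus_add_left m (ZMod 2) 0 0 0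
      simpa using this
    simpa [h0] using this
  refine ⟨?_, ?_, ?_⟩
  · intro u v
    rw [hq, polPlus_add_left]
    ring
  · rintro ⟨g, hg⟩
    by_contra hw
    have hw1 : q w = 1 := by
      rcases zmod2_eq_zero_or_one (q w) with h | h
      · exact absurd h hw
      · exact h
    have hS := charSum_sq_plus m q hq
    have h1 : ∑ v, chi (q v) = ∑ v, chi (q (g v)) :=
      (Equiv.sum_comp g.toEquiv (fun v => chi (q v))).symm
    have h2 : ∑ v, chi (q (g v)) = ∑ v, - chi (q (v + w)) := by
      refine Finset.sum_congr rfl (fun v _ => ?_)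
      rw [← hg, hq v w, hw1, ← chi_add_one]
      congr 1
      calc q v + polPlus m (ZMod 2) v w
          = q v + polPlus m (ZMod 2) v w + (1 + 1) := by rw [zmod2_add_self, add_zero]
        _ = q v + 1 + polPlus m (ZMod 2) v w + 1 := by ring
    have h3 : ∑ v, - chi (q (v + w)) = - ∑ v, chi (q v) := by
      rw [Finset.sum_neg_distrib]
      congr 1
      exact Equiv.sum_comp (Equiv.addRight w) (fun v => chi (q v))
    have h4 : ∑ v, chi (q v) = 0 := by
      have := h1.trans (h2.trans h3)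
      omega
    rw [h4] at hS
    have hpos : 0 < Fintype.card (Fin m ⊕ Fin m → ZMod 2) := Fintype.card_pos
    have h5 : ((Fintype.card (Fin m ⊕ Fin m → ZMod 2) : ℕ) : ℤ) = 0 := by
      rw [← hS]; norm_num
    exact hpos.ne' (by exact_mod_cast h5)
  · intro hw
    refine ⟨LinearEquiv.ofInvolutive (transv m w) (transv_invol m w), ?_⟩
    intro v
    rw [LinearEquiv.coe_ofInvolutive, transv_apply, hq]
    rcases zmod2_eq_zero_or_one (polPlus m (ZMod 2) v w) with h | h
    · rw [h, zero_smul, hq0, polPlus_zero_right]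
      ring
    · rw [h, one_smul, hw, h]
      ring

end Cfsg.Agent.S2564
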