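import Cfsg.Statements.S2561
import Cfsg.Agent.Lib.helper48.QuadF2Witt
import Cfsg.Agent.S2562
import Cfsg.Agent.S2564

set_option autoImplicit false
open Cfsg

namespace Cfsg.Agent.S2561

open Cfsg.Agent.Lib.helper48

theorem quadFormPlus_smul (m : ℕ) (c : ZMod 2) (u : Fin m ⊕ Fin m → ZMod 2) :
    Cfsg.quadFormPlus m (ZMod 2) (c • u) = c * Cfsg.quadFormPlus m (ZMod 2) u := by
  rcases zmod2_eq_zero_or_one c with h | h
  · subst h
    unfold Cfsg.quadFormPlus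
    simp
  · subst h
    simp

theorem quadFormPlus_zero (m : ℕ) : Cfsg.quadFormPlus m (ZMod 2) 0 = 0 := by
  unfold Cfsg.quadFormPlus
  simp

theorem vec_add_self (m : ℕ) (u : Fin m ⊕ Fin m → ZMod 2) : u + u = 0 := by
  ext j
  simp [zmod2_add_self]

/-- A linear isometry of the plus form preserves the polar form. -/
theorem isom_polar (m : ℕ) (g : (Fin m ⊕ Fin m → ZMod 2) →ₗ[ZMod 2] (Fin m ⊕ Fin m → ZMod 2))
    (hg : ∀ v, Cfsg.quadFormPlus m (ZMod 2) (g v) = Cfsg.quadFormPlus m (ZMod 2) v)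
    (u v : Fin m ⊕ Fin m → ZMod 2) : polPlus m (ZMod 2) (g u) (g v) = polPlus m (ZMod 2) u v := by
  rw [← polar_plus, ← polar_plus, ← map_add, hg, hg, hg]

/-- A linear isometry of the plus form is injective. -/
theorem isom_inj (m : ℕ) (g : (Fin m ⊕ Fin m → ZMod 2) →ₗ[ZMod 2] (Fin m ⊕ Fin m → ZMod 2))
    (hg : ∀ v, Cfsg.quadFormPlus m (ZMod 2) (g v) = Cfsg.quadFormPlus m (ZMod 2) v) :
    Function.Injective g := by
  rw [← LinearMap.ker_eq_bot, LinearMap.ker_eq_bot']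
  intro v hv
  by_contra hne
  obtain ⟨u, hu⟩ := polPlus_nondeg m (ZMod 2) v hne
  have := isom_polar m g hg u v
  rw [hv, polPlus_zero_right, hu] at this
  exact zero_ne_one this

/-- the transvection is an isometry when `Q(u) = 1` -/
theorem transv_isom (m : ℕ) (u : Fin m ⊕ Fin m → ZMod 2)
    (hu : Cfsg.quadFormPlus m (ZMod 2) u = 1) (v : Fin m ⊕ Fin m → ZMod 2) :
    Cfsg.quadFormPlus m (ZMod 2) (Cfsg.Agent.S2564.transv m u v) = Cfsg.quadFormPlus m (ZMod 2) v := by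
  rw [Cfsg.Agent.S2564.transv_apply, quadFormPlus_add, quadFormPlus_smul, polPlus_smul_right, hu,
    mul_one, add_assoc, zmod2_mul_self, zmod2_add_self, add_zero]

/-- the translate `Q + f(·, w)` equals `Q ∘ transvection` when `Q(w) = 0` -/
theorem transv_shift (m : ℕ) (w : Fin m ⊕ Fin m → ZMod 2)
    (hw : Cfsg.quadFormPlus m (ZMod 2) w = 0) (v : Fin m ⊕ Fin m → ZMod 2) :
    Cfsg.quadFormPlus m (ZMod 2) (Cfsg.Agent.S2564.transv m w v)
      = Cfsg.quadFormPlus m (ZMod 2) v + polPlus m (ZMod 2) v w := by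
  rw [Cfsg.Agent.S2564.transv_apply, quadFormPlus_add, quadFormPlus_smul, polPlus_smul_right, hw,
    mul_zero, add_zero, zmod2_mul_self]

/-- The Eichler (Siegel) transformation attached to a singular `u` and `x ⟂ u`. -/
def eichler (m : ℕ) (u x : Fin m ⊕ Fin m → ZMod 2) :
    (Fin m ⊕ Fin m → ZMod 2) →ₗ[ZMod 2] (Fin m ⊕ Fin m → ZMod 2) where
  toFun v := v + polPlus m (ZMod 2) v u • x
    + (polPlus m (ZMod 2) v x + Cfsg.quadFormPlus m (ZMod 2) x * polPlus m (ZMod 2) v u) • u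
  map_add' a b := by
    rw [polPlus_add_left, polPlus_add_left, mul_add, add_smul]
    rw [show polPlus m (ZMod 2) a x + polPlus m (ZMod 2) b x
        + (Cfsg.quadFormPlus m (ZMod 2) x * polPlus m (ZMod 2) a u
          + Cfsg.quadFormPlus m (ZMod 2) x * polPlus m (ZMod 2) b u)
        = (polPlus m (ZMod 2) a x + Cfsg.quadFormPlus m (ZMod 2) x * polPlus m (ZMod 2) a u)
          + (polPlus m (ZMod 2) b x + Cfsg.quadFormPlus m (ZMod 2) x * polPlus m (ZMod 2) b u) by ring]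
    rw [add_smul]
    abel
  map_smul' c a := by
    simp only [RingHom.id_apply]
    rw [polPlus_smul_left, polPlus_smul_left, smul_add, smul_add, smul_smul, smul_smul]
    have : c * polPlus m (ZMod 2) a x + Cfsg.quadFormPlus m (ZMod 2) x * (c * polPlus m (ZMod 2) a u)
        = c * (polPlus m (ZMod 2) a x + Cfsg.quadFormPlus m (ZMod 2) x * polPlus m (ZMod 2) a u) := by
      ring
    rw [this]

theorem eichler_apply (m : ℕ) (u x v : Fin m ⊕ Fin m → ZMod 2) :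
    eichler m u x v = v + polPlus m (ZMod 2) v u • x
      + (polPlus m (ZMod 2) v x + Cfsg.quadFormPlus m (ZMod 2) x * polPlus m (ZMod 2) v u) • u := rfl

theorem eichler_isom (m : ℕ) (u x : Fin m ⊕ Fin m → ZMod 2)
    (hu : Cfsg.quadFormPlus m (ZMod 2) u = 0) (hux : polPlus m (ZMod 2) x u = 0)
    (v : Fin m ⊕ Fin m → ZMod 2) :
    Cfsg.quadFormPlus m (ZMod 2) (eichler m u x v) = Cfsg.quadFormPlus m (ZMod 2) v := by
  rw [eichler_apply, quadFormPlus_add, quadFormPlus_add, quadFormPlus_smul, quadFormPlus_smul,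
    polPlus_smul_right, polPlus_smul_right, polPlus_add_left, polPlus_smul_left, hu, hux]
  have h2 : (2 : ZMod 2) = 0 := rfl
  have ha := zmod2_mul_self (polPlus m (ZMod 2) v u)
  linear_combination (Cfsg.quadFormPlus m (ZMod 2) x * polPlus m (ZMod 2) v u
    + polPlus m (ZMod 2) v u * polPlus m (ZMod 2) v x) * h2
    + Cfsg.quadFormPlus m (ZMod 2) x * ha

/-- Isometries of the plus form are transitive on non-singular vectors. -/
theorem transitive (m : ℕ) (w w' : Fin m ⊕ Fin m → ZMod 2)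
    (hw : Cfsg.quadFormPlus m (ZMod 2) w = 1) (hw' : Cfsg.quadFormPlus m (ZMod 2) w' = 1) :
    ∃ g : (Fin m ⊕ Fin m → ZMod 2) ≃ₗ[ZMod 2] (Fin m ⊕ Fin m → ZMod 2),
      (∀ v, Cfsg.quadFormPlus m (ZMod 2) (g v) = Cfsg.quadFormPlus m (ZMod 2) v) ∧ g w = w' := by
  by_cases hww : w = w'
  · exact ⟨LinearEquiv.refl _ _, fun v => rfl, hww⟩
  rcases zmod2_eq_zero_or_one (polPlus m (ZMod 2) w w') with h | h
  · -- Eichler
    have hw0 : w ≠ 0 := by
      intro h0; rw [h0, quadFormPlus_zero] at hw; exact zero_ne_one hw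
    have hw'0 : w' ≠ 0 := by
      intro h0; rw [h0, quadFormPlus_zero] at hw'; exact zero_ne_one hw'
    have hx : ∃ x, polPlus m (ZMod 2) x w = 1 ∧ polPlus m (ZMod 2) x w' = 1 := by
      obtain ⟨u1, hu1⟩ := polPlus_nondeg m (ZMod 2) w hw0
      obtain ⟨u3, hu3⟩ := polPlus_nondeg m (ZMod 2) w' hw'0
      rcases zmod2_eq_zero_or_one (polPlus m (ZMod 2) u1 w') with h1 | h1
      · rcases zmod2_eq_zero_or_one (polPlus m (ZMod 2) u3 w) with h3 | h3
        · refine ⟨u1 + u3, ?_, ?_⟩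
          · rw [polPlus_add_left, hu1, h3, add_zero]
          · rw [polPlus_add_left, hu3, h1, zero_add]
        · exact ⟨u3, h3, hu3⟩
      · exact ⟨u1, hu1, h1⟩
    obtain ⟨x, hx1, hx2⟩ := hx
    have hu : Cfsg.quadFormPlus m (ZMod 2) (w + w') = 0 := by
      rw [quadFormPlus_add, hw, hw', h]; decide
    have hux : polPlus m (ZMod 2) x (w + w') = 0 := by
      rw [polPlus_add_right, hx1, hx2]; decide
    refine ⟨LinearEquiv.ofInjectiveEndo (eichler m (w + w') x)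
      (isom_inj m _ (eichler_isom m _ _ hu hux)), ?_, ?_⟩
    · intro v
      rw [LinearEquiv.coe_ofInjectiveEndo]
      exact eichler_isom m _ _ hu hux v
    · rw [LinearEquiv.coe_ofInjectiveEndo, eichler_apply, polPlus_add_right, polPlus_self, h,
        polPlus_comm m (ZMod 2) w x, hx1]
      simp only [add_zero, zero_smul, mul_zero, one_smul]
      rw [← add_assoc, vec_add_self, zero_add]
  · -- transvection
    have hu : Cfsg.quadFormPlus m (ZMod 2) (w + w') = 1 := by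
      rw [quadFormPlus_add, hw, hw', h]; decide
    refine ⟨LinearEquiv.ofInjectiveEndo (Cfsg.Agent.S2564.transv m (w + w'))
      (isom_inj m _ (transv_isom m _ hu)), ?_, ?_⟩
    · intro v
      rw [LinearEquiv.coe_ofInjectiveEndo]
      exact transv_isom m _ hu v
    · rw [LinearEquiv.coe_ofInjectiveEndo, Cfsg.Agent.S2564.transv_apply, polPlus_add_right,
        polPlus_self, h, zero_add, one_smul, ← add_assoc, vec_add_self, zero_add]


theorem isom_polar_equiv (m : ℕ) (g : (Fin m ⊕ Fin m → ZMod 2) ≃ₗ[ZMod 2] (Fin m ⊕ Fin m → ZMod 2))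
    (hg : ∀ v, Cfsg.quadFormPlus m (ZMod 2) (g v) = Cfsg.quadFormPlus m (ZMod 2) v)
    (u v : Fin m ⊕ Fin m → ZMod 2) : polPlus m (ZMod 2) (g u) (g v) = polPlus m (ZMod 2) u v := by
  rw [← polar_plus, ← polar_plus, ← map_add, hg, hg, hg]

/-- representation of additive functionals by the polar form -/
theorem represent (m : ℕ) (lam : (Fin m ⊕ Fin m → ZMod 2) → ZMod 2)
    (hlam : ∀ u v, lam (u + v) = lam u + lam v) :
    ∃ w, ∀ v, lam v = polPlus m (ZMod 2) v w := by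
  classical
  let L : (Fin m ⊕ Fin m → ZMod 2) →+ ZMod 2 := AddMonoidHom.mk' lam hlam
  have hL : ∀ v, L v = lam v := fun v => rfl
  have hsingle : ∀ (j : Fin m ⊕ Fin m) (c : ZMod 2),
      lam (Pi.single j c) = c * lam (Pi.single j 1) := by
    intro j c
    rcases zmod2_eq_zero_or_one c with h | h
    · subst h; rw [Pi.single_zero, ← hL, map_zero, zero_mul]
    · subst h; rw [one_mul]
  refine ⟨fun j => Sum.elim (fun i => lam (Pi.single (Sum.inr i) 1))
    (fun i => lam (Pi.single (Sum.inl i) 1)) j, ?_⟩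
  intro v
  have hv : v = ∑ j, Pi.single j (v j) := (Finset.univ_sum_single v).symm
  conv_lhs => rw [hv, ← hL, map_sum]
  have h2 : ∑ j, L (Pi.single j (v j)) = ∑ j, v j * lam (Pi.single j 1) :=
    Finset.sum_congr rfl (fun j _ => by rw [hL, hsingle])
  rw [h2, Fintype.sum_sum_type]
  unfold polPlus
  rw [← Finset.sum_add_distrib]
  refine Finset.sum_congr rfl (fun i _ => ?_)
  simp only [Sum.elim_inl, Sum.elim_inr]
  ring

theorem represent_unique (m : ℕ) (w w' : Fin m ⊕ Fin m → ZMod 2)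
    (h : ∀ v, polPlus m (ZMod 2) v w = polPlus m (ZMod 2) v w') : w = w' := by
  classical
  ext j
  rcases j with i | i
  · have := h (Pi.single (Sum.inr i) 1)
    rw [polPlus_single_inr, polPlus_single_inr, mul_one, mul_one] at this
    exact this
  · have := h (Pi.single (Sum.inl i) 1)
    rw [polPlus_single_inl, polPlus_single_inl, one_mul, one_mul] at this
    exact this

/-- index map identifying the minus-type coordinates with the plus-type ones -/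
def idx (k : ℕ) : (Fin k ⊕ Fin k) ⊕ Fin 2 → Fin (k + 1) ⊕ Fin (k + 1) :=
  Sum.elim (Sum.elim (fun i => Sum.inl i.castSucc) (fun i => Sum.inr i.castSucc))
    (fun j => if j = 0 then Sum.inl (Fin.last k) else Sum.inr (Fin.last k))

theorem idx_surj (k : ℕ) : Function.Surjective (idx k) := by
  rintro (i | i)
  · induction i using Fin.lastCases with
    | last => exact ⟨Sum.inr 0, by simp [idx]⟩
    | cast i => exact ⟨Sum.inl (Sum.inl i), by simp [idx]⟩
  · induction i using Fin.lastCases with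
    | last => exact ⟨Sum.inr 1, by simp [idx]⟩
    | cast i => exact ⟨Sum.inl (Sum.inr i), by simp [idx]⟩

/-- the index map as an equivalence -/
noncomputable def idxEquiv (k : ℕ) : (Fin k ⊕ Fin k) ⊕ Fin 2 ≃ Fin (k + 1) ⊕ Fin (k + 1) :=
  Equiv.ofBijective (idx k)
    ((Fintype.bijective_iff_surjective_and_card _).2 ⟨idx_surj k, by simp; omega⟩)

/-- the coordinate isomorphism -/
noncomputable def rho (k : ℕ) : (Fin (k + 1) ⊕ Fin (k + 1) → ZMod 2) ≃ₗ[ZMod 2]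
    ((Fin k ⊕ Fin k) ⊕ Fin 2 → ZMod 2) :=
  LinearEquiv.funCongrLeft (ZMod 2) (ZMod 2) (idxEquiv k)

theorem rho_apply (k : ℕ) (v : Fin (k + 1) ⊕ Fin (k + 1) → ZMod 2) (j : (Fin k ⊕ Fin k) ⊕ Fin 2) :
    rho k v j = v (idx k j) := rfl

/-- the standard non-singular vector -/
def w0 (k : ℕ) : Fin (k + 1) ⊕ Fin (k + 1) → ZMod 2 :=
  Pi.single (Sum.inl (Fin.last k)) 1 + Pi.single (Sum.inr (Fin.last k)) 1

theorem quadFormPlus_single (m : ℕ) (j : Fin m ⊕ Fin m) (c : ZMod 2) :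
    Cfsg.quadFormPlus m (ZMod 2) (Pi.single j c) = 0 := by
  classical
  unfold Cfsg.quadFormPlus
  refine Finset.sum_eq_zero (fun i _ => ?_)
  rcases j with j | j <;> simp

theorem w0_nonsing (k : ℕ) : Cfsg.quadFormPlus (k + 1) (ZMod 2) (w0 k) = 1 := by
  classical
  unfold w0
  rw [quadFormPlus_add, quadFormPlus_single, quadFormPlus_single, polPlus_single_inl]
  simp

theorem minus_std (k : ℕ) (v : Fin (k + 1) ⊕ Fin (k + 1) → ZMod 2) :
    Cfsg.quadFormPlus (k + 1) (ZMod 2) v + polPlus (k + 1) (ZMod 2) v (w0 k)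
      = Cfsg.quadFormMinus k (ZMod 2) 1 1 (rho k v) := by
  classical
  rw [Cfsg.Agent.S2562.quadFormMinus_eq]
  unfold w0
  rw [polPlus_add_right, polPlus_comm _ _ v, polPlus_comm _ _ v, polPlus_single_inl,
    polPlus_single_inr]
  unfold Cfsg.quadFormPlus
  rw [Fin.sum_univ_castSucc]
  simp only [rho_apply, idx, Sum.elim_inl, Sum.elim_inr, if_true, one_ne_zero, if_false]
  have hx := zmod2_mul_self (v (Sum.inl (Fin.last k)))
  have hy := zmod2_mul_self (v (Sum.inr (Fin.last k)))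
  linear_combination (-1 : ZMod 2) * hx + (-1 : ZMod 2) * hy

theorem exists_shift (m : ℕ) (q : (Fin m ⊕ Fin m → ZMod 2) → ZMod 2)
    (hq : ∀ u v, q (u + v) = q u + q v + polPlus m (ZMod 2) u v) :
    ∃ w, ∀ v, q v = Cfsg.quadFormPlus m (ZMod 2) v + polPlus m (ZMod 2) v w := by
  obtain ⟨w, hw⟩ := represent m (fun v => q v - Cfsg.quadFormPlus m (ZMod 2) v) (by
    intro u v
    show q (u + v) - Cfsg.quadFormPlus m (ZMod 2) (u + v)
      = (q u - Cfsg.quadFormPlus m (ZMod 2) u) + (q v - Cfsg.quadFormPlus m (ZMod 2) v)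
    rw [hq, quadFormPlus_add]; ring)
  refine ⟨w, fun v => ?_⟩
  have h : q v - Cfsg.quadFormPlus m (ZMod 2) v = polPlus m (ZMod 2) v w := hw v
  rw [← h]; ring

theorem shift_plus (m : ℕ) (w : Fin m ⊕ Fin m → ZMod 2)
    (hw : Cfsg.quadFormPlus m (ZMod 2) w = 0) :
    ∃ g : (Fin m ⊕ Fin m → ZMod 2) ≃ₗ[ZMod 2] (Fin m ⊕ Fin m → ZMod 2),
      ∀ v, Cfsg.quadFormPlus m (ZMod 2) v + polPlus m (ZMod 2) v w
        = Cfsg.quadFormPlus m (ZMod 2) (g v) :=
  ⟨LinearEquiv.ofInvolutive (Cfsg.Agent.S2564.transv m w) (Cfsg.Agent.S2564.transv_invol m w),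
    fun v => by rw [LinearEquiv.coe_ofInvolutive, transv_shift m w hw]⟩

theorem shift_minus (k : ℕ) (w : Fin (k + 1) ⊕ Fin (k + 1) → ZMod 2)
    (hw : Cfsg.quadFormPlus (k + 1) (ZMod 2) w = 1) :
    ∃ g : (Fin (k + 1) ⊕ Fin (k + 1) → ZMod 2) ≃ₗ[ZMod 2] ((Fin k ⊕ Fin k) ⊕ Fin 2 → ZMod 2),
      ∀ v, Cfsg.quadFormPlus (k + 1) (ZMod 2) v + polPlus (k + 1) (ZMod 2) v w
        = Cfsg.quadFormMinus k (ZMod 2) 1 1 (g v) := by
  obtain ⟨g, hg, hgw⟩ := transitive (k + 1) (w0 k) w (w0_nonsing k) hw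
  refine ⟨g.symm.trans (rho k), fun v => ?_⟩
  rw [LinearEquiv.trans_apply, ← minus_std]
  have h1 : v = g (g.symm v) := (g.apply_symm_apply v).symm
  conv_lhs => rw [h1, ← hgw]
  rw [hg, isom_polar_equiv (k + 1) g hg]

theorem not_both (k : ℕ) (q : (Fin (k + 1) ⊕ Fin (k + 1) → ZMod 2) → ZMod 2)
    (g1 : (Fin (k + 1) ⊕ Fin (k + 1) → ZMod 2) ≃ₗ[ZMod 2] (Fin (k + 1) ⊕ Fin (k + 1) → ZMod 2))
    (h1 : ∀ v, q v = Cfsg.quadFormPlus (k + 1) (ZMod 2) (g1 v))
    (g2 : (Fin (k + 1) ⊕ Fin (k + 1) → ZMod 2) ≃ₗ[ZMod 2] ((Fin k ⊕ Fin k) ⊕ Fin 2 → ZMod 2))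
    (h2 : ∀ v, q v = Cfsg.quadFormMinus k (ZMod 2) 1 1 (g2 v)) : False := by
  have s1 : ∑ v, chi (q v) = 2 ^ (k + 1) := by
    rw [← Cfsg.Agent.S2562.charSum_plus (k + 1),
      ← Equiv.sum_comp g1.toEquiv (fun v => chi (Cfsg.quadFormPlus (k + 1) (ZMod 2) v))]
    exact Finset.sum_congr rfl (fun v _ => by rw [h1]; rfl)
  have s2 : ∑ v, chi (q v) = - 2 ^ (k + 1) := by
    rw [← Cfsg.Agent.S2562.charSum_minus k,
      ← Equiv.sum_comp g2.toEquiv (fun v => chi (Cfsg.quadFormMinus k (ZMod 2) 1 1 v))]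
    exact Finset.sum_congr rfl (fun v _ => by rw [h2]; rfl)
  have : (0 : ℤ) < 2 ^ (k + 1) := by positivity
  omega


/-- `q` polarizes to the polar form of the plus-type form -/
def IsPol (m : ℕ) (q : (Fin m ⊕ Fin m → ZMod 2) → ZMod 2) : Prop :=
  ∀ u v : (Fin m ⊕ Fin m → ZMod 2), q (u + v) = q u + q v + polPlus m (ZMod 2) u v

/-- `q` is of plus type -/
def IsPlus (m : ℕ) (q : (Fin m ⊕ Fin m → ZMod 2) → ZMod 2) : Prop :=
  ∃ g : (Fin m ⊕ Fin m → ZMod 2) ≃ₗ[ZMod 2] (Fin m ⊕ Fin m → ZMod 2),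
    ∀ v, q v = Cfsg.quadFormPlus m (ZMod 2) (g v)

/-- `q` is of minus type -/
def IsMinus (k : ℕ) (q : (Fin (k + 1) ⊕ Fin (k + 1) → ZMod 2) → ZMod 2) : Prop :=
  ∃ g : (Fin (k + 1) ⊕ Fin (k + 1) → ZMod 2) ≃ₗ[ZMod 2] ((Fin k ⊕ Fin k) ⊕ Fin 2 → ZMod 2),
    ∀ v, q v = Cfsg.quadFormMinus k (ZMod 2) 1 1 (g v)

/-- the translate `Q + f(·, w)` -/
def shiftFun (m : ℕ) (w : Fin m ⊕ Fin m → ZMod 2) : (Fin m ⊕ Fin m → ZMod 2) → ZMod 2 :=
  fun v => Cfsg.quadFormPlus m (ZMod 2) v + polPlus m (ZMod 2) v w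

theorem shiftFun_isPol (m : ℕ) (w : Fin m ⊕ Fin m → ZMod 2) : IsPol m (shiftFun m w) := by
  intro u v
  unfold shiftFun
  rw [quadFormPlus_add, polPlus_add_left]; ring

/-- the bijection between vectors and quadratic functions polarizing to the polar form -/
noncomputable def shiftEquiv (m : ℕ) :
    (Fin m ⊕ Fin m → ZMod 2) ≃ {q : (Fin m ⊕ Fin m → ZMod 2) → ZMod 2 // IsPol m q} :=
  Equiv.ofBijective (fun w => ⟨shiftFun m w, shiftFun_isPol m w⟩) (by
    constructor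
    · intro w w' h
      have h1 : shiftFun m w = shiftFun m w' := congrArg Subtype.val h
      apply represent_unique
      intro v
      have h2 := congrFun h1 v
      unfold shiftFun at h2
      exact add_left_cancel h2
    · rintro ⟨q, hq⟩
      obtain ⟨w, hw⟩ := exists_shift m q hq
      exact ⟨w, Subtype.ext (funext fun v => (hw v).symm)⟩)

theorem shiftEquiv_apply (m : ℕ) (w : Fin m ⊕ Fin m → ZMod 2) :
    ((shiftEquiv m w : {q : (Fin m ⊕ Fin m → ZMod 2) → ZMod 2 // IsPol m q}) :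
      (Fin m ⊕ Fin m → ZMod 2) → ZMod 2) = shiftFun m w := rfl

theorem shift_isPlus_iff (k : ℕ) (w : Fin (k + 1) ⊕ Fin (k + 1) → ZMod 2) :
    Cfsg.quadFormPlus (k + 1) (ZMod 2) w = 0 ↔ IsPlus (k + 1) (shiftFun (k + 1) w) := by
  constructor
  · intro hw
    exact shift_plus (k + 1) w hw
  · rintro ⟨g1, h1⟩
    by_contra hne
    have hw1 : Cfsg.quadFormPlus (k + 1) (ZMod 2) w = 1 := by
      rcases zmod2_eq_zero_or_one (Cfsg.quadFormPlus (k + 1) (ZMod 2) w) with h | h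
      · exact absurd h hne
      · exact h
    obtain ⟨g2, h2⟩ := shift_minus k w hw1
    exact not_both k (shiftFun (k + 1) w) g1 h1 g2 h2

theorem shift_isMinus_iff (k : ℕ) (w : Fin (k + 1) ⊕ Fin (k + 1) → ZMod 2) :
    Cfsg.quadFormPlus (k + 1) (ZMod 2) w = 1 ↔ IsMinus k (shiftFun (k + 1) w) := by
  constructor
  · intro hw
    exact shift_minus k w hw
  · rintro ⟨g2, h2⟩
    rcases zmod2_eq_zero_or_one (Cfsg.quadFormPlus (k + 1) (ZMod 2) w) with h | h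
    · obtain ⟨g1, h1⟩ := shift_plus (k + 1) w h
      exact (not_both k (shiftFun (k + 1) w) g1 h1 g2 h2).elim
    · exact h

theorem card_space (m : ℕ) : Fintype.card (Fin m ⊕ Fin m → ZMod 2) = 2 ^ (2 * m) := by
  simp [two_mul]

theorem card_zeros_ones (k : ℕ) :
    Nat.card {w : Fin (k + 1) ⊕ Fin (k + 1) → ZMod 2 // Cfsg.quadFormPlus (k + 1) (ZMod 2) w = 0}
      = 2 ^ (2 * (k + 1) - 1) + 2 ^ (k + 1 - 1) ∧
    Nat.card {w : Fin (k + 1) ⊕ Fin (k + 1) → ZMod 2 // Cfsg.quadFormPlus (k + 1) (ZMod 2) w = 1}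
      = 2 ^ (2 * (k + 1) - 1) - 2 ^ (k + 1 - 1) := by
  classical
  rw [Nat.card_eq_fintype_card, Nat.card_eq_fintype_card, Fintype.card_subtype, Fintype.card_subtype]
  have hS := Cfsg.Agent.S2562.charSum_plus (k + 1)
  have hfilter : (Finset.univ.filter
      (fun w : Fin (k + 1) ⊕ Fin (k + 1) → ZMod 2 => Cfsg.quadFormPlus (k + 1) (ZMod 2) w = 1))
      = (Finset.univ.filter
      (fun w : Fin (k + 1) ⊕ Fin (k + 1) → ZMod 2 => ¬ Cfsg.quadFormPlus (k + 1) (ZMod 2) w = 0)) := by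
    refine Finset.filter_congr (fun w _ => ?_)
    rcases zmod2_eq_zero_or_one (Cfsg.quadFormPlus (k + 1) (ZMod 2) w) with h | h <;> rw [h] <;> decide
  rw [hfilter]
  have hsum := Finset.card_filter_add_card_filter_not (s := (Finset.univ : Finset (Fin (k + 1) ⊕ Fin (k + 1) → ZMod 2)))
    (fun w : Fin (k + 1) ⊕ Fin (k + 1) → ZMod 2 => Cfsg.quadFormPlus (k + 1) (ZMod 2) w = 0)
  rw [Finset.card_univ, card_space] at hsum
  have h1 : ∑ v : Fin (k + 1) ⊕ Fin (k + 1) → ZMod 2, chi (Cfsg.quadFormPlus (k + 1) (ZMod 2) v)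
      = ((Finset.univ.filter (fun w : Fin (k + 1) ⊕ Fin (k + 1) → ZMod 2 =>
          Cfsg.quadFormPlus (k + 1) (ZMod 2) w = 0)).card : ℤ)
        - ((Finset.univ.filter (fun w : Fin (k + 1) ⊕ Fin (k + 1) → ZMod 2 =>
          ¬ Cfsg.quadFormPlus (k + 1) (ZMod 2) w = 0)).card : ℤ) := by
    unfold chi
    rw [Finset.sum_ite, Finset.sum_const, Finset.sum_const]
    simp
    ring
  rw [hS] at h1
  have e1 : 2 ^ (2 * (k + 1)) = 2 * 2 ^ (2 * (k + 1) - 1) := by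
    rw [← pow_succ']; congr 1
  have e2 : 2 ^ (k + 1) = 2 * 2 ^ (k + 1 - 1) := by
    rw [← pow_succ']; congr 1
  have e3 : 2 ^ (k + 1 - 1) ≤ 2 ^ (2 * (k + 1) - 1) :=
    Nat.pow_le_pow_right (by norm_num) (by omega)
  have h1' : (Finset.univ.filter (fun w : Fin (k + 1) ⊕ Fin (k + 1) → ZMod 2 =>
          Cfsg.quadFormPlus (k + 1) (ZMod 2) w = 0)).card
      = (Finset.univ.filter (fun w : Fin (k + 1) ⊕ Fin (k + 1) → ZMod 2 =>
          ¬ Cfsg.quadFormPlus (k + 1) (ZMod 2) w = 0)).card + 2 ^ (k + 1) := by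
    have : ((Finset.univ.filter (fun w : Fin (k + 1) ⊕ Fin (k + 1) → ZMod 2 =>
          Cfsg.quadFormPlus (k + 1) (ZMod 2) w = 0)).card : ℤ)
      = ((Finset.univ.filter (fun w : Fin (k + 1) ⊕ Fin (k + 1) → ZMod 2 =>
          ¬ Cfsg.quadFormPlus (k + 1) (ZMod 2) w = 0)).card : ℤ) + 2 ^ (k + 1) := by
      linarith
    exact_mod_cast this
  constructor
  · omega
  · omega


theorem main (k : ℕ) :
    Nat.card {q : (Fin (k + 1) ⊕ Fin (k + 1) → ZMod 2) → ZMod 2 // IsPol (k + 1) q}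
      = 2 ^ (2 * (k + 1)) ∧
    (∀ q : (Fin (k + 1) ⊕ Fin (k + 1) → ZMod 2) → ZMod 2, IsPol (k + 1) q →
      IsPlus (k + 1) q ∨ IsMinus k q) ∧
    Nat.card {q : (Fin (k + 1) ⊕ Fin (k + 1) → ZMod 2) → ZMod 2 //
        IsPol (k + 1) q ∧ IsPlus (k + 1) q} = 2 ^ (2 * (k + 1) - 1) + 2 ^ (k + 1 - 1) ∧
    Nat.card {q : (Fin (k + 1) ⊕ Fin (k + 1) → ZMod 2) → ZMod 2 //
        IsPol (k + 1) q ∧ IsMinus k q} = 2 ^ (2 * (k + 1) - 1) - 2 ^ (k + 1 - 1) := by
  refine ⟨?_, ?_, ?_, ?_⟩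
  · rw [← Nat.card_congr (shiftEquiv (k + 1)), Nat.card_eq_fintype_card, card_space]
  · intro q hq
    obtain ⟨w, hw⟩ := exists_shift (k + 1) q hq
    have hqw : q = shiftFun (k + 1) w := funext hw
    rcases zmod2_eq_zero_or_one (Cfsg.quadFormPlus (k + 1) (ZMod 2) w) with h | h
    · left; rw [hqw]; exact (shift_isPlus_iff k w).1 h
    · right; rw [hqw]; exact (shift_isMinus_iff k w).1 h
  · rw [← (card_zeros_ones k).1]
    refine Nat.card_congr ?_
    exact (Equiv.subtypeSubtypeEquivSubtypeInter _ _).symm.trans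
      ((shiftEquiv (k + 1)).subtypeEquiv (fun w => shift_isPlus_iff k w)).symm
  · rw [← (card_zeros_ones k).2]
    refine Nat.card_congr ?_
    exact (Equiv.subtypeSubtypeEquivSubtypeInter _ _).symm.trans
      ((shiftEquiv (k + 1)).subtypeEquiv (fun w => shift_isMinus_iff k w)).symm

/-- Fix the non-singular alternating form on the 2m-dimensional space over the field of two elements obtained by polarizing the plus-type form Σ xᵢyᵢ (m ≥ 1). The functions q on the space with q(u + v) = q(u) + q(v) + f(u, v) (the quadratic forms polarizing to f) number 2^(2m); each is equivalent under an invertible linear map either to the plus-type form or to the minus-type form Σ xᵢyᵢ + (z₁² + z₁z₂ + z₂²); and those of plus type number 2^(2m−1) + 2^(m−1), those of minus type 2^(2m−1) − 2^(m−1). -/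
theorem result (m : ℕ) (hm : 1 ≤ m) :
    Nat.card {q : (Fin m ⊕ Fin m → ZMod 2) → ZMod 2 // (∀ u v : (Fin m ⊕ Fin m → ZMod 2), q (u + v) = q u + q v + (Cfsg.quadFormPlus m (ZMod 2) (u + v) - Cfsg.quadFormPlus m (ZMod 2) u - Cfsg.quadFormPlus m (ZMod 2) v))} = 2 ^ (2 * m) ∧
    (∀ q : (Fin m ⊕ Fin m → ZMod 2) → ZMod 2, (∀ u v : (Fin m ⊕ Fin m → ZMod 2), q (u + v) = q u + q v + (Cfsg.quadFormPlus m (ZMod 2) (u + v) - Cfsg.quadFormPlus m (ZMod 2) u - Cfsg.quadFormPlus m (ZMod 2) v)) →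
      (∃ g : (Fin m ⊕ Fin m → ZMod 2) ≃ₗ[ZMod 2] (Fin m ⊕ Fin m → ZMod 2), ∀ v, q v = Cfsg.quadFormPlus m (ZMod 2) (g v)) ∨
      (∃ g : (Fin m ⊕ Fin m → ZMod 2) ≃ₗ[ZMod 2] ((Fin (m - 1) ⊕ Fin (m - 1)) ⊕ Fin 2 → ZMod 2), ∀ v, q v = Cfsg.quadFormMinus (m - 1) (ZMod 2) 1 1 (g v))) ∧
    Nat.card {q : (Fin m ⊕ Fin m → ZMod 2) → ZMod 2 // (∀ u v : (Fin m ⊕ Fin m → ZMod 2), q (u + v) = q u + q v + (Cfsg.quadFormPlus m (ZMod 2) (u + v) - Cfsg.quadFormPlus m (ZMod 2) u - Cfsg.quadFormPlus m (ZMod 2) v)) ∧ ∃ g : (Fin m ⊕ Fin m → ZMod 2) ≃ₗ[ZMod 2] (Fin m ⊕ Fin m → ZMod 2), ∀ v, q v = Cfsg.quadFormPlus m (ZMod 2) (g v)} = 2 ^ (2 * m - 1) + 2 ^ (m - 1) ∧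
    Nat.card {q : (Fin m ⊕ Fin m → ZMod 2) → ZMod 2 // (∀ u v : (Fin m ⊕ Fin m → ZMod 2), q (u + v) = q u + q v + (Cfsg.quadFormPlus m (ZMod 2) (u + v) - Cfsg.quadFormPlus m (ZMod 2) u - Cfsg.quadFormPlus m (ZMod 2) v)) ∧ ∃ g : (Fin m ⊕ Fin m → ZMod 2) ≃ₗ[ZMod 2] ((Fin (m - 1) ⊕ Fin (m - 1)) ⊕ Fin 2 → ZMod 2), ∀ v, q v = Cfsg.quadFormMinus (m - 1) (ZMod 2) 1 1 (g v)} = 2 ^ (2 * m - 1) - 2 ^ (m - 1) := by
  obtain ⟨k, rfl⟩ : ∃ k, m = k + 1 := ⟨m - 1, by omega⟩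
  simp only [polar_plus]
  exact main k

end Cfsg.Agent.S2561
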