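import Cfsg.Statements.S2563
import Cfsg.Agent.S2561

set_option autoImplicit false
open Cfsg

namespace Cfsg.Agent.S2563

open Cfsg.Agent.Lib.helper48 Cfsg.Agent.S2561

/-! ### sums over `Fin m` above / below an index -/

/-- sum over the indices above `i` -/
def above {m : ℕ} (f : Fin m → ZMod 2) (i : Fin m) : ZMod 2 := ∑ j, if i < j then f j else 0

/-- sum over the indices below `i` -/
def below {m : ℕ} (f : Fin m → ZMod 2) (i : Fin m) : ZMod 2 := ∑ j, if j < i then f j else 0

theorem split {m : ℕ} (f : Fin m → ZMod 2) (i : Fin m) :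
    ∑ j, f j = below f i + f i + above f i := by
  unfold below above
  have h : f i = ∑ j, if j = i then f j else 0 := by simp
  conv_rhs => rw [h]
  rw [← Finset.sum_add_distrib, ← Finset.sum_add_distrib]
  refine Finset.sum_congr rfl fun j _ => ?_
  rcases lt_trichotomy j i with h | h | h
  · simp [h, h.ne, h.not_gt]
  · simp [h]
  · simp [h, h.ne', h.not_gt]

theorem swap {m : ℕ} (f g : Fin m → ZMod 2) :
    ∑ i, g i * above f i = ∑ j, f j * below g j := by
  unfold above below
  simp only [Finset.mul_sum]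
  rw [Finset.sum_comm]
  refine Finset.sum_congr rfl fun j _ => Finset.sum_congr rfl fun i _ => ?_
  split_ifs <;> ring

theorem above_add {m : ℕ} (f g : Fin m → ZMod 2) (i : Fin m) :
    above (fun j => f j + g j) i = above f i + above g i := by
  unfold above
  rw [← Finset.sum_add_distrib]
  refine Finset.sum_congr rfl fun j _ => ?_
  split_ifs <;> simp

theorem below_add {m : ℕ} (f g : Fin m → ZMod 2) (i : Fin m) :
    below (fun j => f j + g j) i = below f i + below g i := by
  unfold below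
  rw [← Finset.sum_add_distrib]
  refine Finset.sum_congr rfl fun j _ => ?_
  split_ifs <;> simp

/-! ### weights -/

/-- the weight of a vector -/
def wt {P : Type*} [Fintype P] (v : P → ZMod 2) : ℕ := ∑ p, (v p).val

/-- half the weight modulo two -/
def qt {P : Type*} [Fintype P] (v : P → ZMod 2) : ZMod 2 := ((wt v / 2 : ℕ) : ZMod 2)

/-- the dot product -/
def dot {P : Type*} [Fintype P] (u v : P → ZMod 2) : ZMod 2 := ∑ p, u p * v p

theorem wt_perm {P : Type*} [Fintype P] (σ : Equiv.Perm P) (v : P → ZMod 2) :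
    wt (v ∘ σ.symm) = wt v :=
  Equiv.sum_comp σ.symm (fun p => (v p).val)

theorem wt_add {P : Type*} [Fintype P] (u v : P → ZMod 2) :
    wt (u + v) + 2 * ∑ p, (u p).val * (v p).val = wt u + wt v := by
  unfold wt
  rw [Finset.mul_sum, ← Finset.sum_add_distrib, ← Finset.sum_add_distrib]
  refine Finset.sum_congr rfl fun p _ => ?_
  have : ∀ a b : ZMod 2, (a + b).val + 2 * (a.val * b.val) = a.val + b.val := by decide
  exact this _ _

theorem wt_cast {P : Type*} [Fintype P] (v : P → ZMod 2) :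
    ((wt v : ℕ) : ZMod 2) = ∑ p, v p := by
  unfold wt
  push_cast
  refine Finset.sum_congr rfl fun p _ => ?_
  exact ZMod.natCast_zmod_val (v p)

theorem wt_even {P : Type*} [Fintype P] (v : P → ZMod 2) (hv : ∑ p, v p = 0) : Even (wt v) := by
  rw [← wt_cast] at hv
  exact ZMod.natCast_eq_zero_iff_even.mp hv

theorem qt_perm {P : Type*} [Fintype P] (σ : Equiv.Perm P) (v : P → ZMod 2) :
    qt (v ∘ σ.symm) = qt v := by
  unfold qt; rw [wt_perm]

theorem qt_add {P : Type*} [Fintype P] (u v : P → ZMod 2) (hu : ∑ p, u p = 0)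
    (hv : ∑ p, v p = 0) : qt (u + v) = qt u + qt v + dot u v := by
  have h1 := wt_add u v
  have huv : ∑ p, (u + v) p = 0 := by
    simp only [Pi.add_apply, Finset.sum_add_distrib, hu, hv, add_zero]
  obtain ⟨s, hs⟩ := wt_even u hu
  obtain ⟨t, ht⟩ := wt_even v hv
  obtain ⟨r, hr⟩ := wt_even (u + v) huv
  set c := ∑ p, (u p).val * (v p).val with hc
  have h2 : r + c = s + t := by omega
  have hcd : ((c : ℕ) : ZMod 2) = dot u v := by
    rw [hc]; unfold dot
    push_cast
    refine Finset.sum_congr rfl fun p _ => ?_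
    rw [ZMod.natCast_zmod_val, ZMod.natCast_zmod_val]
  unfold qt
  have e1 : wt (u + v) / 2 = r := by omega
  have e2 : wt u / 2 = s := by omega
  have e3 : wt v / 2 = t := by omega
  rw [e1, e2, e3, ← hcd]
  have h3 := congrArg (Nat.cast : ℕ → ZMod 2) h2
  push_cast at h3
  linear_combination h3 - zmod2_add_self (c : ZMod 2)

/-! ### the explicit coordinates -/

/-- the points: two rows of `m` points and two extra points -/
abbrev Pt (m : ℕ) := (Fin m ⊕ Fin m) ⊕ Fin 2

/-- the coordinate space -/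
abbrev X (m : ℕ) := Fin m ⊕ Fin m → ZMod 2

/-- the lift of the symplectic basis -/
def Sfun (m : ℕ) (x : X m) : Pt m → ZMod 2 :=
  Sum.elim (Sum.elim (fun i => x (Sum.inl i) + above (fun j => x (Sum.inr j)) i)
      (fun i => x (Sum.inl i) + x (Sum.inr i) + above (fun j => x (Sum.inr j)) i))
    (fun t => if t = 0 then ∑ j, x (Sum.inr j) else 0)

/-- the coordinates of a vector -/
def Cfun (m : ℕ) (v : Pt m → ZMod 2) : X m :=
  Sum.elim (fun i => v (Sum.inl (Sum.inr i)) + v (Sum.inr 0)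
      + below (fun l => v (Sum.inl (Sum.inl l)) + v (Sum.inl (Sum.inr l))) i)
    (fun i => v (Sum.inl (Sum.inl i)) + v (Sum.inl (Sum.inr i)))

theorem Sfun_ll (m : ℕ) (x : X m) (i : Fin m) :
    Sfun m x (Sum.inl (Sum.inl i)) = x (Sum.inl i) + above (fun j => x (Sum.inr j)) i := rfl

theorem Sfun_lr (m : ℕ) (x : X m) (i : Fin m) :
    Sfun m x (Sum.inl (Sum.inr i))
      = x (Sum.inl i) + x (Sum.inr i) + above (fun j => x (Sum.inr j)) i := rfl

theorem Sfun_r0 (m : ℕ) (x : X m) : Sfun m x (Sum.inr 0) = ∑ j, x (Sum.inr j) := rfl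

theorem Sfun_r1 (m : ℕ) (x : X m) : Sfun m x (Sum.inr 1) = 0 := rfl

theorem Cfun_l (m : ℕ) (v : Pt m → ZMod 2) (i : Fin m) :
    Cfun m v (Sum.inl i) = v (Sum.inl (Sum.inr i)) + v (Sum.inr 0)
      + below (fun l => v (Sum.inl (Sum.inl l)) + v (Sum.inl (Sum.inr l))) i := rfl

theorem Cfun_r (m : ℕ) (v : Pt m → ZMod 2) (i : Fin m) :
    Cfun m v (Sum.inr i) = v (Sum.inl (Sum.inl i)) + v (Sum.inl (Sum.inr i)) := rfl

theorem sum_Pt' {M : Type*} [AddCommMonoid M] (m : ℕ) (v : Pt m → M) :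
    ∑ p, v p = ∑ i, (v (Sum.inl (Sum.inl i)) + v (Sum.inl (Sum.inr i)))
      + (v (Sum.inr 0) + v (Sum.inr 1)) := by
  rw [Fintype.sum_sum_type, Fintype.sum_sum_type, Fin.sum_univ_two, Finset.sum_add_distrib]

theorem sum_Pt (m : ℕ) (v : Pt m → ZMod 2) :
    ∑ p, v p = ∑ i, (v (Sum.inl (Sum.inl i)) + v (Sum.inl (Sum.inr i)))
      + (v (Sum.inr 0) + v (Sum.inr 1)) := sum_Pt' m v

theorem Sfun_pair (m : ℕ) (x : X m) (i : Fin m) :
    Sfun m x (Sum.inl (Sum.inl i)) + Sfun m x (Sum.inl (Sum.inr i)) = x (Sum.inr i) := by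
  rw [Sfun_ll, Sfun_lr]
  linear_combination zmod2_add_self (x (Sum.inl i))
    + zmod2_add_self (above (fun j => x (Sum.inr j)) i)

theorem Sfun_sum (m : ℕ) (x : X m) : ∑ p, Sfun m x p = 0 := by
  rw [sum_Pt, Sfun_r0, Sfun_r1]
  simp only [Sfun_pair, add_zero]
  exact zmod2_add_self _

theorem Cfun_Sfun (m : ℕ) (x : X m) : Cfun m (Sfun m x) = x := by
  funext j
  rcases j with i | i
  · rw [Cfun_l]
    simp only [Sfun_pair]
    rw [Sfun_lr, Sfun_r0]
    have h := split (fun j => x (Sum.inr j)) i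
    linear_combination zmod2_add_self (∑ j, x (Sum.inr j)) - h
  · rw [Cfun_r, Sfun_pair]

theorem below_zero {m : ℕ} (i : Fin m) : below (fun _ => (0 : ZMod 2)) i = 0 := by
  simp [below]

theorem Cfun_one (m : ℕ) : Cfun m (fun _ => 1) = 0 := by
  funext j
  have h11 : (1 : ZMod 2) + 1 = 0 := by decide
  rcases j with i | i
  · rw [Cfun_l]
    simp only [h11, below_zero]
    rfl
  · rw [Cfun_r]
    exact h11

theorem Sfun_Cfun (m : ℕ) (v : Pt m → ZMod 2) (hv : ∑ p, v p = 0) :
    Sfun m (Cfun m v) = v + fun _ => v (Sum.inr 1) := by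
  rw [sum_Pt] at hv
  have h2 : (2 : ZMod 2) = 0 := by decide
  set g : Fin m → ZMod 2 := fun l => v (Sum.inl (Sum.inl l)) + v (Sum.inl (Sum.inr l)) with hg
  have hCr : (fun j => Cfun m v (Sum.inr j)) = g := rfl
  funext p
  rcases p with (i | i) | t
  · rw [Sfun_ll, Cfun_l, hCr]
    have h := split g i
    simp only [Pi.add_apply]
    have hgi : g i = v (Sum.inl (Sum.inl i)) + v (Sum.inl (Sum.inr i)) := rfl
    linear_combination hv - h - hgi - (v (Sum.inl (Sum.inl i)) + v (Sum.inr 1)) * h2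
  · rw [Sfun_lr, Cfun_l, Cfun_r, hCr]
    have h := split g i
    simp only [Pi.add_apply]
    have hgi : g i = v (Sum.inl (Sum.inl i)) + v (Sum.inl (Sum.inr i)) := rfl
    linear_combination hv - h - hgi - v (Sum.inr 1) * h2
  · fin_cases t
    · show Sfun m (Cfun m v) (Sum.inr 0) = v (Sum.inr 0) + v (Sum.inr 1)
      rw [Sfun_r0, hCr]
      linear_combination hv - (v (Sum.inr 0) + v (Sum.inr 1)) * h2
    · show Sfun m (Cfun m v) (Sum.inr 1) = v (Sum.inr 1) + v (Sum.inr 1)
      rw [Sfun_r1]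
      exact (zmod2_add_self _).symm

theorem Sfun_add (m : ℕ) (x y : X m) : Sfun m (x + y) = Sfun m x + Sfun m y := by
  funext p
  rcases p with (i | i) | t
  · simp only [Sfun_ll, Pi.add_apply, above_add]
    ring
  · simp only [Sfun_lr, Pi.add_apply, above_add]
    ring
  · fin_cases t
    · show Sfun m (x + y) (Sum.inr 0) = Sfun m x (Sum.inr 0) + Sfun m y (Sum.inr 0)
      simp only [Sfun_r0, Pi.add_apply, Finset.sum_add_distrib]
    · show Sfun m (x + y) (Sum.inr 1) = Sfun m x (Sum.inr 1) + Sfun m y (Sum.inr 1)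
      simp only [Sfun_r1, add_zero]

theorem Cfun_add (m : ℕ) (u v : Pt m → ZMod 2) : Cfun m (u + v) = Cfun m u + Cfun m v := by
  funext j
  rcases j with i | i
  · simp only [Cfun_l, Pi.add_apply]
    have : (fun l => u (Sum.inl (Sum.inl l)) + v (Sum.inl (Sum.inl l))
        + (u (Sum.inl (Sum.inr l)) + v (Sum.inl (Sum.inr l))))
        = fun l => (u (Sum.inl (Sum.inl l)) + u (Sum.inl (Sum.inr l)))
          + (v (Sum.inl (Sum.inl l)) + v (Sum.inl (Sum.inr l))) := by
      funext l; ring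
    rw [this, below_add]
    ring
  · simp only [Cfun_r, Pi.add_apply]
    ring

/-! ### the polar form -/

theorem dot_Sfun (m : ℕ) (x y : X m) : dot (Sfun m x) (Sfun m y) = polPlus m (ZMod 2) x y := by
  unfold dot
  rw [sum_Pt]
  simp only [Sfun_ll, Sfun_lr, Sfun_r0, Sfun_r1, mul_zero, add_zero]
  have h2 : (2 : ZMod 2) = 0 := by decide
  have hsw := swap (fun j => x (Sum.inr j)) (fun j => y (Sum.inr j))
  have hsp : ∀ j, ∑ l, y (Sum.inr l) = below (fun j => y (Sum.inr j)) j + y (Sum.inr j)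
      + above (fun j => y (Sum.inr j)) j := fun j => split (fun j => y (Sum.inr j)) j
  have key : ∑ i, (y (Sum.inr i) * above (fun j => x (Sum.inr j)) i
      + x (Sum.inr i) * above (fun j => y (Sum.inr j)) i + x (Sum.inr i) * y (Sum.inr i))
      = (∑ j, x (Sum.inr j)) * (∑ j, y (Sum.inr j)) := by
    rw [Finset.sum_add_distrib, Finset.sum_add_distrib, hsw, ← Finset.sum_add_distrib,
      ← Finset.sum_add_distrib, Finset.sum_mul]
    refine Finset.sum_congr rfl fun j _ => ?_
    rw [hsp j]; ring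
  unfold polPlus
  have e : ∀ i, (x (Sum.inl i) + above (fun j => x (Sum.inr j)) i)
        * (y (Sum.inl i) + above (fun j => y (Sum.inr j)) i)
      + (x (Sum.inl i) + x (Sum.inr i) + above (fun j => x (Sum.inr j)) i)
        * (y (Sum.inl i) + y (Sum.inr i) + above (fun j => y (Sum.inr j)) i)
      = (x (Sum.inl i) * y (Sum.inr i) + y (Sum.inl i) * x (Sum.inr i))
        + (y (Sum.inr i) * above (fun j => x (Sum.inr j)) i
          + x (Sum.inr i) * above (fun j => y (Sum.inr j)) i + x (Sum.inr i) * y (Sum.inr i)) := by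
    intro i
    linear_combination ((x (Sum.inl i) + above (fun j => x (Sum.inr j)) i)
        * (y (Sum.inl i) + above (fun j => y (Sum.inr j)) i)) * h2
  simp only [e]
  rw [Finset.sum_add_distrib, key]
  linear_combination ((∑ j, x (Sum.inr j)) * (∑ j, y (Sum.inr j))) * h2

theorem qS_pol (m : ℕ) (u v : X m) :
    qt (Sfun m (u + v)) = qt (Sfun m u) + qt (Sfun m v) + polPlus m (ZMod 2) u v := by
  rw [Sfun_add, qt_add _ _ (Sfun_sum m u) (Sfun_sum m v), dot_Sfun]

theorem above_zero {m : ℕ} (i : Fin m) : above (fun _ => (0 : ZMod 2)) i = 0 := by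
  simp [above]

theorem above_single {m : ℕ} (i j : Fin m) :
    above (fun l => if l = i then (1 : ZMod 2) else 0) j = if j < i then 1 else 0 := by
  unfold above
  rw [Finset.sum_eq_single i]
  · simp
  · intro l _ hl
    simp [hl]
  · intro h; exact absurd (Finset.mem_univ i) h

theorem wt_Sfun_inl (m : ℕ) (i : Fin m) : wt (Sfun m (Pi.single (Sum.inl i) 1)) = 2 := by
  classical
  unfold wt
  rw [sum_Pt']
  simp only [Sfun_ll, Sfun_lr, Sfun_r0, Sfun_r1, Pi.single_apply, Sum.inl.injEq, reduceCtorEq,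
    if_false, above_zero, add_zero, Finset.sum_const_zero, ZMod.val_zero]
  rw [Finset.sum_add_distrib]
  simp [apply_ite ZMod.val, ZMod.val_one]

theorem wt_Sfun_inr (m : ℕ) (i : Fin m) :
    wt (Sfun m (Pi.single (Sum.inr i) 1)) = 2 * (i : ℕ) + 2 := by
  classical
  unfold wt
  rw [sum_Pt']
  simp only [Sfun_ll, Sfun_lr, Sfun_r0, Sfun_r1, Pi.single_apply, Sum.inr.injEq, reduceCtorEq,
    if_false, zero_add, above_single, ZMod.val_zero, add_zero]
  have h1 : ∀ j : Fin m, ((if j < i then (1 : ZMod 2) else 0).val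
      + ((if j = i then (1 : ZMod 2) else 0) + (if j < i then (1 : ZMod 2) else 0)).val)
      = (if j = i then 1 else 0) + 2 * (if j < i then 1 else 0) := by
    intro j
    rcases lt_trichotomy j i with h | h | h
    · simp [h, h.ne, ZMod.val_one]
    · simp [h, ZMod.val_one]
    · simp [h.ne', h.not_gt]
  simp only [h1]
  have hA : ∑ j : Fin m, (if j = i then 1 else 0 : ℕ) = 1 := by simp
  have hB : ∑ j : Fin m, (if j < i then 1 else 0 : ℕ) = i := by
    rw [Finset.sum_boole, Finset.filter_gt_eq_Iio, Fin.card_Iio]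
    simp
  have hC : (∑ j : Fin m, if j = i then (1 : ZMod 2) else 0) = 1 := by simp
  rw [Finset.sum_add_distrib, ← Finset.mul_sum, hA, hB, hC, ZMod.val_one]
  ring

theorem arf_sum (k : ℕ) :
    ∑ i : Fin (2 * k + 1), (((i : ℕ) + 1 : ℕ) : ZMod 2) = ((k + 1 : ℕ) : ZMod 2) := by
  rw [Fin.sum_univ_eq_sum_range (fun i => ((i + 1 : ℕ) : ZMod 2)) (2 * k + 1)]
  induction k with
  | zero => simp
  | succ k ih =>
    have : 2 * (k + 1) + 1 = 2 * k + 1 + 1 + 1 := by ring
    rw [this, Finset.sum_range_succ, Finset.sum_range_succ, ih]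
    push_cast
    have h2 : (2 : ZMod 2) = 0 := by decide
    linear_combination (2 * (k : ZMod 2) + 2) * h2

theorem exists_w (m : ℕ) : ∃ w : X m,
    (∀ v, qt (Sfun m v) = Cfsg.quadFormPlus m (ZMod 2) v + polPlus m (ZMod 2) v w) ∧
    Cfsg.quadFormPlus m (ZMod 2) w = ∑ i : Fin m, (((i : ℕ) + 1 : ℕ) : ZMod 2) := by
  classical
  obtain ⟨w, hw⟩ := exists_shift m (fun v => qt (Sfun m v)) (qS_pol m)
  refine ⟨w, hw, ?_⟩
  have h1 : ∀ i, w (Sum.inr i) = 1 := by
    intro i
    have h := hw (Pi.single (Sum.inl i) 1)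
    rw [quadFormPlus_single, polPlus_single_inl, zero_add, one_mul] at h
    rw [← h]
    show qt (Sfun m (Pi.single (Sum.inl i) 1)) = 1
    unfold qt
    rw [wt_Sfun_inl]
    rfl
  have h2 : ∀ i, w (Sum.inl i) = (((i : ℕ) + 1 : ℕ) : ZMod 2) := by
    intro i
    have h := hw (Pi.single (Sum.inr i) 1)
    rw [quadFormPlus_single, polPlus_single_inr, zero_add, mul_one] at h
    rw [← h]
    show qt (Sfun m (Pi.single (Sum.inr i) 1)) = _
    unfold qt
    rw [wt_Sfun_inr]
    congr 1
    omega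
  unfold Cfsg.quadFormPlus
  refine Finset.sum_congr rfl fun i _ => ?_
  rw [h1, h2, mul_one]

/-! ### the action of the symmetric group -/

/-- the action of a permutation in coordinates -/
def Aend (m : ℕ) (σ : Equiv.Perm (Pt m)) : Module.End (ZMod 2) (X m) :=
  (AddMonoidHom.mk' (fun x : X m => Cfun m (Sfun m x ∘ σ.symm)) (by
    intro x y
    rw [Sfun_add]
    exact Cfun_add m _ _)).toZModLinearMap 2

theorem Aend_apply (m : ℕ) (σ : Equiv.Perm (Pt m)) (x : X m) :
    Aend m σ x = Cfun m (Sfun m x ∘ σ.symm) := rfl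

theorem Cfun_const (m : ℕ) (c : ZMod 2) : Cfun m (fun _ => c) = 0 := by
  rcases zmod2_eq_zero_or_one c with h | h
  · subst h
    have h1 := Cfun_add m 0 0
    rw [add_zero] at h1
    have h0 : Cfun m 0 = 0 := by simpa using h1
    exact h0
  · subst h; exact Cfun_one m

theorem sum_comp_perm (m : ℕ) (σ : Equiv.Perm (Pt m)) (v : Pt m → ZMod 2) :
    ∑ p, (v ∘ σ.symm) p = ∑ p, v p := Equiv.sum_comp σ.symm v

theorem S_Aend (m : ℕ) (σ : Equiv.Perm (Pt m)) (x : X m) :
    Sfun m (Aend m σ x) = Sfun m x ∘ σ.symm + fun _ => Sfun m x (σ.symm (Sum.inr 1)) := by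
  rw [Aend_apply, Sfun_Cfun]
  · rfl
  · rw [sum_comp_perm, Sfun_sum]

theorem Aend_one (m : ℕ) : Aend m 1 = 1 := by
  apply LinearMap.ext
  intro x
  rw [Aend_apply]
  exact Cfun_Sfun m x

theorem Aend_mul (m : ℕ) (σ τ : Equiv.Perm (Pt m)) : Aend m (σ * τ) = Aend m σ * Aend m τ := by
  apply LinearMap.ext
  intro x
  show Aend m (σ * τ) x = Aend m σ (Aend m τ x)
  rw [Aend_apply m σ, S_Aend, Aend_apply]
  have h : (Sfun m x ∘ τ.symm + fun _ => Sfun m x (τ.symm (Sum.inr 1))) ∘ σ.symm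
      = Sfun m x ∘ (σ * τ).symm + fun _ => Sfun m x (τ.symm (Sum.inr 1)) := by
    funext p; rfl
  rw [h, Cfun_add, Cfun_const, add_zero]

theorem card_Pt (m : ℕ) : Fintype.card (Pt m) = 2 * m + 2 := by
  simp only [Fintype.card_sum, Fintype.card_fin]
  ring

theorem wt_one (m : ℕ) : wt (fun _ : Pt m => (1 : ZMod 2)) = 2 * m + 2 := by
  show ∑ _p : Pt m, (1 : ZMod 2).val = 2 * m + 2
  rw [ZMod.val_one, Finset.sum_const, Finset.card_univ, card_Pt]
  simp

theorem qt_add_const (m : ℕ) (hm : Odd m) (v : Pt m → ZMod 2) (hv : ∑ p, v p = 0)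
    (c : ZMod 2) : qt (v + fun _ => c) = qt v := by
  rcases zmod2_eq_zero_or_one c with h | h
  · subst h
    congr 1
    funext p
    simp
  · subst h
    have h1 : ∑ p : Pt m, (fun _ => (1 : ZMod 2)) p = 0 := by
      rw [← wt_cast, wt_one, ZMod.natCast_eq_zero_iff_even]
      exact ⟨m + 1, by ring⟩
    rw [qt_add v _ hv h1]
    have h2 : dot v (fun _ => 1) = 0 := by
      unfold dot
      simp only [mul_one]
      exact hv
    have h3 : qt (fun _ : Pt m => (1 : ZMod 2)) = 0 := by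
      unfold qt
      rw [wt_one]
      have : (2 * m + 2) / 2 = m + 1 := by omega
      rw [this, ZMod.natCast_eq_zero_iff_even]
      exact hm.add_one
    rw [h2, h3, add_zero, add_zero]

theorem qS_Aend (m : ℕ) (hm : Odd m) (σ : Equiv.Perm (Pt m)) (x : X m) :
    qt (Sfun m (Aend m σ x)) = qt (Sfun m x) := by
  rw [S_Aend, qt_add_const m hm _ (by rw [sum_comp_perm, Sfun_sum]), qt_perm]

theorem wt_single {P : Type*} [Fintype P] [DecidableEq P] (p : P) :
    wt (Pi.single p (1 : ZMod 2)) = 1 := by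
  unfold wt
  simp [Pi.single_apply, apply_ite ZMod.val, ZMod.val_one]

theorem wt_pair {P : Type*} [Fintype P] [DecidableEq P] (p p' : P) (h : p ≠ p') :
    wt (Pi.single p (1 : ZMod 2) + Pi.single p' 1) = 2 := by
  have e := wt_add (Pi.single p (1 : ZMod 2)) (Pi.single p' 1)
  have e0 : ∑ q, ((Pi.single p (1 : ZMod 2) : P → ZMod 2) q).val
      * ((Pi.single p' (1 : ZMod 2) : P → ZMod 2) q).val = 0 := by
    refine Finset.sum_eq_zero fun q _ => ?_
    by_cases hq : q = p
    · subst hq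
      simp [h]
    · simp [Pi.single_apply, hq]
  rw [e0, wt_single, wt_single] at e
  omega

theorem Aend_inj (m : ℕ) (hm : 2 ≤ m) (σ : Equiv.Perm (Pt m)) (h : Aend m σ = 1) : σ = 1 := by
  classical
  have h2 : (2 : ZMod 2) = 0 := by decide
  have h1 : ∀ x : X m, Sfun m x ∘ σ.symm
      = Sfun m x + fun _ => Sfun m x (σ.symm (Sum.inr 1)) := by
    intro x
    have h0 := S_Aend m σ x
    rw [h] at h0
    funext p
    have hp := congrFun h0 p
    simp only [Pi.add_apply, Function.comp_apply, Module.End.one_apply] at hp ⊢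
    linear_combination (-1 : ZMod 2) * hp - Sfun m x (σ.symm (Sum.inr 1)) * h2
  have h2' : ∀ v : Pt m → ZMod 2, ∑ p, v p = 0 → ∃ c : ZMod 2, v ∘ σ.symm = v + fun _ => c := by
    intro v hv
    have e1 := Sfun_Cfun m v hv
    obtain ⟨c', hc'⟩ : ∃ c' : ZMod 2, Sfun m (Cfun m v) ∘ σ.symm
        = Sfun m (Cfun m v) + fun _ => c' := ⟨_, h1 (Cfun m v)⟩
    rw [e1] at hc'
    refine ⟨c', ?_⟩
    funext p
    have hp := congrFun hc' p
    simp only [Pi.add_apply, Function.comp_apply] at hp ⊢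
    linear_combination hp
  have h3 : ∀ p p' : Pt m, p ≠ p' → σ p = p ∨ σ p = p' := by
    intro p p' hpp'
    have hwt : wt (Pi.single p (1 : ZMod 2) + Pi.single p' 1) = 2 := wt_pair p p' hpp'
    have hsum : ∑ q, (Pi.single p (1 : ZMod 2) + Pi.single p' 1 : Pt m → ZMod 2) q = 0 := by
      rw [← wt_cast, hwt]
      rfl
    obtain ⟨c, hc⟩ := h2' _ hsum
    have hc0 : c = 0 := by
      rcases zmod2_eq_zero_or_one c with h0 | h1'
      · exact h0
      · exfalso
        subst h1'
        have e1 := wt_perm σ (Pi.single p (1 : ZMod 2) + Pi.single p' 1 : Pt m → ZMod 2)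
        rw [hc] at e1
        have e2 := wt_add (Pi.single p (1 : ZMod 2) + Pi.single p' 1 : Pt m → ZMod 2)
          (fun _ => (1 : ZMod 2))
        rw [e1, wt_one] at e2
        have e3 : ∑ q, ((Pi.single p (1 : ZMod 2) + Pi.single p' 1 : Pt m → ZMod 2) q).val
            * ((1 : ZMod 2)).val = wt (Pi.single p (1 : ZMod 2) + Pi.single p' 1 : Pt m → ZMod 2) := by
          unfold wt
          simp [ZMod.val_one]
        rw [e3, hwt] at e2
        omega
    subst hc0
    have e4 := congrFun hc (σ p)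
    simp only [Function.comp_apply, Equiv.symm_apply_apply, Pi.add_apply, add_zero] at e4
    by_contra hcon
    rw [not_or] at hcon
    have hp1 : (Pi.single p (1 : ZMod 2) : Pt m → ZMod 2) p = 1 := by simp
    have hp2 : (Pi.single p' (1 : ZMod 2) : Pt m → ZMod 2) p = 0 := by
      simp [hpp']
    have hp3 : (Pi.single p (1 : ZMod 2) : Pt m → ZMod 2) (σ p) = 0 := by
      simp [hcon.1]
    have hp4 : (Pi.single p' (1 : ZMod 2) : Pt m → ZMod 2) (σ p) = 0 := by
      simp [hcon.2]
    rw [hp1, hp2, hp3, hp4] at e4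
    exact absurd e4 (by decide)
  ext p
  by_contra hne
  have hne' : σ p ≠ p := hne
  have h4 : ∀ p' : Pt m, p' = p ∨ p' = σ p := by
    intro p'
    by_cases hp : p' = p
    · left; exact hp
    · right
      rcases h3 p p' (Ne.symm hp) with h | h
      · exact absurd h hne'
      · exact h.symm
  have hcard : Fintype.card (Pt m) ≤ 2 := by
    have hsub : (Finset.univ : Finset (Pt m)) ⊆ {p, σ p} := by
      intro q _
      simp only [Finset.mem_insert, Finset.mem_singleton]
      exact h4 q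
    calc Fintype.card (Pt m) = (Finset.univ : Finset (Pt m)).card := Finset.card_univ.symm
      _ ≤ ({p, σ p} : Finset (Pt m)).card := Finset.card_le_card hsub
      _ ≤ 2 := Finset.card_le_two
  rw [card_Pt] at hcard
  omega

/-! ### the embedding -/

theorem embed {ι : Type} [Fintype ι] [DecidableEq ι] {G : Type*} [Group G]
    (Q : (ι → ZMod 2) → ZMod 2) (B : G →* Module.End (ZMod 2) (ι → ZMod 2))
    (hB : ∀ σ y, Q (B σ y) = Q y) (hinj : ∀ σ, B σ = 1 → σ = 1) :
    ∃ φ : G →* ↥(Cfsg.isometryGroup (ZMod 2) Q), Function.Injective φ := by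
  let ψ : G →* Matrix ι ι (ZMod 2) :=
    { toFun := fun σ => LinearMap.toMatrix' (B σ)
      map_one' := by rw [map_one]; exact LinearMap.toMatrix'_one
      map_mul' := by
        intro σ τ
        rw [map_mul]
        exact LinearMap.toMatrix'_mul _ _ }
  have hψ : ∀ σ, ψ σ = LinearMap.toMatrix' (B σ) := fun σ => rfl
  have hmem : ∀ σ, ψ.toHomUnits σ ∈ Cfsg.isometryGroup (ZMod 2) Q := by
    intro σ u _
    show Q ((LinearMap.toMatrix' (B σ)).mulVec u) = Q u
    rw [← Matrix.toLin'_apply, Matrix.toLin'_toMatrix', hB]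
  refine ⟨ψ.toHomUnits.codRestrict _ hmem, ?_⟩
  rw [injective_iff_map_eq_one]
  intro σ hσ
  apply hinj
  have h1 : ψ.toHomUnits σ = 1 := congrArg Subtype.val hσ
  have h2 : ψ σ = 1 := congrArg Units.val h1
  rw [hψ] at h2
  apply LinearMap.toMatrix'.injective
  rw [h2]
  exact LinearMap.toMatrix'_one.symm

theorem main (m : ℕ) (hm : Odd m) (hm2 : 2 ≤ m) {ι : Type} [Fintype ι] [DecidableEq ι]
    (Q : (ι → ZMod 2) → ZMod 2) (g : X m ≃ₗ[ZMod 2] (ι → ZMod 2))
    (hg : ∀ v, qt (Sfun m v) = Q (g v)) :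
    ∃ φ : Equiv.Perm (Pt m) →* ↥(Cfsg.isometryGroup (ZMod 2) Q), Function.Injective φ := by
  let B : Equiv.Perm (Pt m) →* Module.End (ZMod 2) (ι → ZMod 2) :=
    { toFun := fun σ => (g : X m →ₗ[ZMod 2] (ι → ZMod 2)) ∘ₗ (Aend m σ)
        ∘ₗ (g.symm : (ι → ZMod 2) →ₗ[ZMod 2] X m)
      map_one' := by
        rw [Aend_one]
        apply LinearMap.ext
        intro y
        simp
      map_mul' := by
        intro σ τ
        rw [Aend_mul]
        apply LinearMap.ext
        intro y
        simp }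
  have hB : ∀ σ y, B σ y = g (Aend m σ (g.symm y)) := fun σ y => rfl
  refine embed Q B ?_ ?_
  · intro σ y
    rw [hB, ← hg, qS_Aend m hm, hg, LinearEquiv.apply_symm_apply]
  · intro σ hσ
    apply Aend_inj m hm2
    apply LinearMap.ext
    intro x
    have h1 := congrArg (fun f : Module.End (ZMod 2) (ι → ZMod 2) => g.symm (f (g x))) hσ
    simp only [hB, LinearEquiv.symm_apply_apply, Module.End.one_apply] at h1
    exact h1

/-- For k ≥ 1 the symmetric group of degree 4k + 4 embeds in a full orthogonal group in dimension 4k + 2 over the field of two elements: in the isometry group of the plus-type form Σ xᵢyᵢ when k is odd, and in that of the minus-type form Σ xᵢyᵢ + (z₁² + z₁z₂ + z₂²) when k is even (through its action on even partitions of a (4k+4)-set, with the form 'half the size of a part, modulo 2'). -/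
theorem result (k : ℕ) (hk : 1 ≤ k) :
    (Odd k → ∃ φ : Equiv.Perm (Fin (4 * k + 4)) →* ↥(Cfsg.isometryGroup (ZMod 2) (Cfsg.quadFormPlus (2 * k + 1) (ZMod 2))), Function.Injective φ) ∧
    (Even k → ∃ φ : Equiv.Perm (Fin (4 * k + 4)) →* ↥(Cfsg.isometryGroup (ZMod 2) (Cfsg.quadFormMinus (2 * k) (ZMod 2) 1 1)), Function.Injective φ) := by
  have hcard : Fintype.card (Pt (2 * k + 1)) = 4 * k + 4 := by rw [card_Pt]; ring
  let e : Pt (2 * k + 1) ≃ Fin (4 * k + 4) := Fintype.equivFinOfCardEq hcard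
  obtain ⟨w, hw, hQw⟩ := exists_w (2 * k + 1)
  rw [arf_sum] at hQw
  constructor
  · intro hodd
    have h0 : Cfsg.quadFormPlus (2 * k + 1) (ZMod 2) w = 0 := by
      rw [hQw, ZMod.natCast_eq_zero_iff_even]
      exact hodd.add_one
    obtain ⟨g, hg⟩ := shift_plus (2 * k + 1) w h0
    obtain ⟨φ, hφ⟩ := main (2 * k + 1) ⟨k, rfl⟩ (by omega)
      (Cfsg.quadFormPlus (2 * k + 1) (ZMod 2)) g (fun v => by rw [hw, hg])
    exact ⟨φ.comp (e.symm.permCongrHom).toMonoidHom,
      hφ.comp (e.symm.permCongrHom).injective⟩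
  · intro heven
    have h1 : Cfsg.quadFormPlus (2 * k + 1) (ZMod 2) w = 1 := by
      rw [hQw]
      obtain ⟨r, hr⟩ := heven
      have h2 : (2 : ZMod 2) = 0 := by decide
      rw [hr]
      push_cast
      linear_combination (r : ZMod 2) * h2
    obtain ⟨g, hg⟩ := shift_minus (2 * k) w h1
    obtain ⟨φ, hφ⟩ := main (2 * k + 1) ⟨k, rfl⟩ (by omega)
      (Cfsg.quadFormMinus (2 * k) (ZMod 2) 1 1) g (fun v => by rw [hw, hg])
    exact ⟨φ.comp (e.symm.permCongrHom).toMonoidHom,
      hφ.comp (e.symm.permCongrHom).injective⟩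

end Cfsg.Agent.S2563
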