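import Cfsg.Statements.S2566
import Cfsg.Agent.S0287

set_option autoImplicit false
open Cfsg

namespace Cfsg.Agent.S2566

/-- the Gram matrix of the polar form -/
def G : Matrix (Fin 2 ⊕ Fin 2) (Fin 2 ⊕ Fin 2) (ZMod 2) := Matrix.of fun a b => match a, b with
  | .inl i, .inr j => if i = j then 1 else 0
  | .inr i, .inl j => if i = j then 1 else 0
  | _, _ => 0

/-- a vector with given coordinates -/
def vec (a b c d : ZMod 2) : Fin 2 ⊕ Fin 2 → ZMod 2 := Sum.elim ![a, b] ![c, d]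

/-- the first triangle of non-singular vectors -/
def t1 : Fin 3 → (Fin 2 ⊕ Fin 2 → ZMod 2) := ![vec 1 0 1 0, vec 1 1 0 1, vec 0 1 1 1]

/-- the second triangle of non-singular vectors -/
def t2 : Fin 3 → (Fin 2 ⊕ Fin 2 → ZMod 2) := ![vec 0 1 0 1, vec 1 1 1 0, vec 1 0 1 1]

/-- the isometry permuting a triangle and fixing the other -/
def M (t : Fin 3 → (Fin 2 ⊕ Fin 2 → ZMod 2)) (σ : Equiv.Perm (Fin 3)) :
    Matrix (Fin 2 ⊕ Fin 2) (Fin 2 ⊕ Fin 2) (ZMod 2) :=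
  1 + ∑ i, Matrix.vecMulVec (t i + t (σ i)) (G.mulVec (t i))

/-- the swap of the two hyperbolic planes -/
def gswap : Matrix (Fin 2 ⊕ Fin 2) (Fin 2 ⊕ Fin 2) (ZMod 2) := Matrix.of fun a b => match a, b with
  | .inl i, .inl j => if i = j then 0 else 1
  | .inr i, .inr j => if i = j then 0 else 1
  | _, _ => 0

set_option maxRecDepth 100000 in
theorem M_one1 : M t1 1 = 1 := by decide +kernel

set_option maxRecDepth 100000 in
theorem M_one2 : M t2 1 = 1 := by decide +kernel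

set_option maxRecDepth 100000 in
theorem M_mul1 : ∀ σ τ : Equiv.Perm (Fin 3), M t1 (σ * τ) = M t1 σ * M t1 τ := by decide +kernel

set_option maxRecDepth 100000 in
theorem M_mul2 : ∀ σ τ : Equiv.Perm (Fin 3), M t2 (σ * τ) = M t2 σ * M t2 τ := by decide +kernel

set_option maxRecDepth 100000 in
theorem M_pres1 : ∀ (σ : Equiv.Perm (Fin 3)) (u : Fin 2 ⊕ Fin 2 → ZMod 2),
    Cfsg.quadFormPlus 2 (ZMod 2) ((M t1 σ).mulVec u) = Cfsg.quadFormPlus 2 (ZMod 2) u := by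
  decide +kernel

set_option maxRecDepth 100000 in
theorem M_pres2 : ∀ (σ : Equiv.Perm (Fin 3)) (u : Fin 2 ⊕ Fin 2 → ZMod 2),
    Cfsg.quadFormPlus 2 (ZMod 2) ((M t2 σ).mulVec u) = Cfsg.quadFormPlus 2 (ZMod 2) u := by
  decide +kernel

set_option maxRecDepth 100000 in
theorem M_comm : ∀ σ τ : Equiv.Perm (Fin 3), M t1 σ * M t2 τ = M t2 τ * M t1 σ := by
  decide +kernel

set_option maxRecDepth 100000 in
theorem M_inj : ∀ σ τ : Equiv.Perm (Fin 3), M t1 σ * M t2 τ = 1 → σ = 1 ∧ τ = 1 := by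
  decide +kernel

set_option maxRecDepth 100000 in
theorem gswap_sq : gswap * gswap = 1 := by decide +kernel

set_option maxRecDepth 100000 in
theorem gswap_pres : ∀ u : Fin 2 ⊕ Fin 2 → ZMod 2,
    Cfsg.quadFormPlus 2 (ZMod 2) (gswap.mulVec u) = Cfsg.quadFormPlus 2 (ZMod 2) u := by
  decide +kernel

set_option maxRecDepth 100000 in
theorem gswap_conj : ∀ σ : Equiv.Perm (Fin 3), gswap * M t1 σ * gswap = M t2 σ := by
  decide +kernel

/-- the homomorphism into the orthogonal group attached to a triangle -/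
def hom (t : Fin 3 → (Fin 2 ⊕ Fin 2 → ZMod 2)) (h1 : M t 1 = 1)
    (hm : ∀ σ τ : Equiv.Perm (Fin 3), M t (σ * τ) = M t σ * M t τ)
    (hp : ∀ (σ : Equiv.Perm (Fin 3)) (u : Fin 2 ⊕ Fin 2 → ZMod 2),
      Cfsg.quadFormPlus 2 (ZMod 2) ((M t σ).mulVec u) = Cfsg.quadFormPlus 2 (ZMod 2) u) :
    Equiv.Perm (Fin 3) →* ↥(Cfsg.isometryGroup (ZMod 2) (Cfsg.quadFormPlus 2 (ZMod 2))) :=
  (MonoidHom.toHomUnits (⟨⟨M t, h1⟩, hm⟩ :
      Equiv.Perm (Fin 3) →* Matrix (Fin 2 ⊕ Fin 2) (Fin 2 ⊕ Fin 2) (ZMod 2))).codRestrict _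
    (fun σ u _ => hp σ u)

theorem hom_val (t : Fin 3 → (Fin 2 ⊕ Fin 2 → ZMod 2)) (h1 : M t 1 = 1)
    (hm : ∀ σ τ : Equiv.Perm (Fin 3), M t (σ * τ) = M t σ * M t τ)
    (hp : ∀ (σ : Equiv.Perm (Fin 3)) (u : Fin 2 ⊕ Fin 2 → ZMod 2),
      Cfsg.quadFormPlus 2 (ZMod 2) ((M t σ).mulVec u) = Cfsg.quadFormPlus 2 (ZMod 2) u)
    (σ : Equiv.Perm (Fin 3)) :
    (((hom t h1 hm hp σ : ↥(Cfsg.isometryGroup (ZMod 2) (Cfsg.quadFormPlus 2 (ZMod 2))))
      : GL (Fin 2 ⊕ Fin 2) (ZMod 2)) : Matrix (Fin 2 ⊕ Fin 2) (Fin 2 ⊕ Fin 2) (ZMod 2)) = M t σ := rfl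

/-- equality in the orthogonal group from equality of matrices -/
theorem ext_mat (x y : ↥(Cfsg.isometryGroup (ZMod 2) (Cfsg.quadFormPlus 2 (ZMod 2))))
    (h : ((x : GL (Fin 2 ⊕ Fin 2) (ZMod 2)) : Matrix (Fin 2 ⊕ Fin 2) (Fin 2 ⊕ Fin 2) (ZMod 2))
      = ((y : GL (Fin 2 ⊕ Fin 2) (ZMod 2)) : Matrix (Fin 2 ⊕ Fin 2) (Fin 2 ⊕ Fin 2) (ZMod 2))) :
    x = y := Subtype.ext (Units.ext h)

/-- The full orthogonal group of the plus-type form x₁y₁ + x₂y₂ in dimension 4 over the field of two elements has order 72 and is isomorphic to the wreath product of the symmetric group of degree 3 by a group of order 2: it has a normal subgroup isomorphic to the direct product of two symmetric groups of degree 3, of index 2, whose two direct factors are interchanged by conjugation by some element. -/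
theorem result :
    Nat.card ↥(Cfsg.isometryGroup (ZMod 2) (Cfsg.quadFormPlus 2 (ZMod 2))) = 72 ∧
    ∃ (A B : Subgroup ↥(Cfsg.isometryGroup (ZMod 2) (Cfsg.quadFormPlus 2 (ZMod 2)))),
      Nonempty (↥A ≃* Equiv.Perm (Fin 3)) ∧ Nonempty (↥B ≃* Equiv.Perm (Fin 3)) ∧ A ⊓ B = ⊥ ∧ (∀ a ∈ A, ∀ b ∈ B, a * b = b * a) ∧
      (A ⊔ B).index = 2 ∧ ∃ g : ↥(Cfsg.isometryGroup (ZMod 2) (Cfsg.quadFormPlus 2 (ZMod 2))), A.map (MulAut.conj g).toMonoidHom = B := by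
  have hcard : Nat.card ↥(Cfsg.isometryGroup (ZMod 2) (Cfsg.quadFormPlus 2 (ZMod 2))) = 72 := by
    rw [Cfsg.Agent.S0287.result (F := ZMod 2) (q := 2) (by simp) 2 (by norm_num)]
    decide
  refine ⟨hcard, ?_⟩
  set fA := hom t1 M_one1 M_mul1 M_pres1 with hfA
  set fB := hom t2 M_one2 M_mul2 M_pres2 with hfB
  have hcomm : ∀ σ τ, Commute (fA σ) (fB τ) := by
    intro σ τ
    apply ext_mat
    show M t1 σ * M t2 τ = M t2 τ * M t1 σ
    exact M_comm σ τ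
  have hinj : Function.Injective (MonoidHom.noncommCoprod fA fB hcomm) := by
    rw [injective_iff_map_eq_one]
    rintro ⟨σ, τ⟩ h
    rw [MonoidHom.noncommCoprod_apply] at h
    have h1 : M t1 σ * M t2 τ = 1 := by
      have := congrArg (fun x : ↥(Cfsg.isometryGroup (ZMod 2) (Cfsg.quadFormPlus 2 (ZMod 2))) =>
        ((x : GL (Fin 2 ⊕ Fin 2) (ZMod 2)) : Matrix (Fin 2 ⊕ Fin 2) (Fin 2 ⊕ Fin 2) (ZMod 2))) h
      exact this
    obtain ⟨h2, h3⟩ := M_inj σ τ h1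
    rw [h2, h3]
    rfl
  obtain ⟨hiA, hiB, hdisj⟩ := (MonoidHom.noncommCoprod_injective fA fB hcomm).mp hinj
  refine ⟨fA.range, fB.range, ⟨(MonoidHom.ofInjective hiA).symm⟩, ⟨(MonoidHom.ofInjective hiB).symm⟩,
    disjoint_iff.mp hdisj, ?_, ?_, ?_⟩
  · rintro _ ⟨σ, rfl⟩ _ ⟨τ, rfl⟩
    exact hcomm σ τ
  · rw [← MonoidHom.noncommCoprod_range fA fB hcomm]
    have h1 : Nat.card (MonoidHom.noncommCoprod fA fB hcomm).range = 36 := by
      rw [← Nat.card_congr (MonoidHom.ofInjective hinj).toEquiv, Nat.card_prod,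
        Nat.card_eq_fintype_card, Fintype.card_perm, Fintype.card_fin]
      rfl
    have h2 := Subgroup.index_mul_card (MonoidHom.noncommCoprod fA fB hcomm).range
    rw [h1, hcard] at h2
    omega
  · let g0 : GL (Fin 2 ⊕ Fin 2) (ZMod 2) := ⟨gswap, gswap, gswap_sq, gswap_sq⟩
    let g : ↥(Cfsg.isometryGroup (ZMod 2) (Cfsg.quadFormPlus 2 (ZMod 2))) :=
      ⟨g0, fun u _ => gswap_pres u⟩
    refine ⟨g, ?_⟩
    rw [MonoidHom.map_range]
    congr 1
    apply MonoidHom.ext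
    intro σ
    apply ext_mat
    show gswap * M t1 σ * gswap = M t2 σ
    exact gswap_conj σ

end Cfsg.Agent.S2566
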