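import Cfsg.Statements.S2567

set_option autoImplicit false
open Cfsg

namespace Cfsg.Agent.S2567

/-- Abstract version: unique lift of prime order through a central quotient whose kernel has
exponent prime to `r`. -/
theorem unique_lift {G : Type*} [Group G] (N r : ℕ) (hr : r.Prime) (hcop : Nat.Coprime r N)
    (hZ : ∀ z ∈ Subgroup.center G, z ^ N = 1) (x : G ⧸ Subgroup.center G) (hx : orderOf x = r) :
    ∃! g : G, (QuotientGroup.mk g : G ⧸ Subgroup.center G) = x ∧ orderOf g = r := by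
  obtain ⟨g0, rfl⟩ := QuotientGroup.mk_surjective x
  have hx1 : (QuotientGroup.mk g0 : G ⧸ Subgroup.center G) ≠ 1 := by
    intro h
    rw [h, orderOf_one] at hx
    exact hr.one_lt.ne hx
  have hz0 : g0 ^ r ∈ Subgroup.center G := by
    rw [← QuotientGroup.eq_one_iff, QuotientGroup.mk_pow, ← hx, pow_orderOf_eq_one]
  -- Bezout
  have hbez : (1 : ℤ) = (r : ℤ) * Int.gcdA r N + (N : ℤ) * Int.gcdB r N := by
    have := Int.gcd_eq_gcd_ab (r : ℤ) (N : ℤ)
    rw [Int.gcd_natCast_natCast, hcop] at this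
    exact_mod_cast this
  set a := Int.gcdA r N with ha
  set b := Int.gcdB r N with hb
  set w : G := (g0 ^ r) ^ a with hw
  have hwZ : w ∈ Subgroup.center G := Subgroup.zpow_mem _ hz0 a
  have hwr : w ^ r = g0 ^ r := by
    have h1 : (g0 ^ r) ^ ((N : ℤ) * b) = 1 := by
      rw [zpow_mul, zpow_natCast, hZ _ hz0, one_zpow]
    calc w ^ r = (g0 ^ r) ^ (a * (r : ℤ)) := by rw [hw, zpow_mul, zpow_natCast]
      _ = (g0 ^ r) ^ ((r : ℤ) * a + (N : ℤ) * b) := by rw [zpow_add, h1, mul_one, mul_comm]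
      _ = g0 ^ r := by rw [← hbez, zpow_one]
  have hcomm : Commute g0 w⁻¹ := by
    have := Subgroup.mem_center_iff.1 (Subgroup.inv_mem _ hwZ) g0
    exact this
  refine ⟨g0 * w⁻¹, ⟨?_, ?_⟩, ?_⟩
  · rw [QuotientGroup.mk_mul, (QuotientGroup.eq_one_iff _).2 (Subgroup.inv_mem _ hwZ), mul_one]
  · have h1 : (g0 * w⁻¹) ^ r = 1 := by
      rw [hcomm.mul_pow, inv_pow, hwr, mul_inv_cancel]
    have h2 : g0 * w⁻¹ ≠ 1 := by
      intro h
      apply hx1
      have : (QuotientGroup.mk (g0 * w⁻¹) : G ⧸ Subgroup.center G) = QuotientGroup.mk g0 := by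
        rw [QuotientGroup.mk_mul, (QuotientGroup.eq_one_iff _).2 (Subgroup.inv_mem _ hwZ), mul_one]
      rw [← this, h]; rfl
    have h3 := orderOf_dvd_of_pow_eq_one h1
    rcases (Nat.dvd_prime hr).1 h3 with h4 | h4
    · exact absurd (orderOf_eq_one_iff.1 h4) h2
    · exact h4
  · rintro g' ⟨hg', hg'r⟩
    -- g' = g0 * w⁻¹ * z with z central, z ^ r = 1
    set g := g0 * w⁻¹ with hg
    have hgq : (QuotientGroup.mk g : G ⧸ Subgroup.center G) = QuotientGroup.mk g0 := by
      rw [hg, QuotientGroup.mk_mul, (QuotientGroup.eq_one_iff _).2 (Subgroup.inv_mem _ hwZ), mul_one]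
    have hgr : g ^ r = 1 := by
      rw [hg, hcomm.mul_pow, inv_pow, hwr, mul_inv_cancel]
    have hz : g⁻¹ * g' ∈ Subgroup.center G := by
      rw [← QuotientGroup.eq, hgq, hg']
    set z := g⁻¹ * g' with hzdef
    have hg'z : g' = g * z := by rw [hzdef, mul_inv_cancel_left]
    have hcz : Commute g z := Subgroup.mem_center_iff.1 hz g
    have hzr : z ^ r = 1 := by
      have h1 : g' ^ r = 1 := by rw [← hg'r, pow_orderOf_eq_one]
      rw [hg'z, hcz.mul_pow, hgr, one_mul] at h1
      exact h1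
    have hzN : z ^ N = 1 := hZ z hz
    have h1 : orderOf z ∣ Nat.gcd r N := Nat.dvd_gcd (orderOf_dvd_of_pow_eq_one hzr) (orderOf_dvd_of_pow_eq_one hzN)
    rw [hcop, Nat.dvd_one, orderOf_eq_one_iff] at h1
    rw [hg'z, h1, mul_one]

theorem center_pow {F : Type*} [Field F] [Fintype F] {n : ℕ} (z : GL (Fin n) F)
    (hz : z ∈ Subgroup.center (GL (Fin n) F)) : z ^ (Fintype.card F - 1) = 1 := by
  classical
  rw [Matrix.GeneralLinearGroup.center_eq_range_scalar] at hz
  obtain ⟨a, rfl⟩ := hz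
  rw [← map_pow]
  have : a ^ (Fintype.card F - 1) = 1 := by
    rw [← Fintype.card_units, pow_card_eq_one]
  rw [this, map_one]

/-- Lifting elements of prime order from PGL to GL: let F be a finite field with q elements, r a prime not dividing q − 1, and x an element of order r in GL_n(F) modulo its centre (the scalar matrices). Then x has exactly one preimage in GL_n(F) of order r. -/
theorem result {F : Type*} [Field F] [Fintype F] {q n r : ℕ} (hF : Fintype.card F = q) (hr : r.Prime) (hdiv : ¬ r ∣ q - 1) (x : GL (Fin n) F ⧸ Subgroup.center (GL (Fin n) F)) (hx : orderOf x = r) : ∃! g : GL (Fin n) F, (QuotientGroup.mk g : GL (Fin n) F ⧸ Subgroup.center (GL (Fin n) F)) = x ∧ orderOf g = r := by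
  subst hF
  exact unique_lift (Fintype.card F - 1) r hr ((Nat.Prime.coprime_iff_not_dvd hr).2 hdiv)
    (fun z hz => center_pow z hz) x hx

end Cfsg.Agent.S2567
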