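import Cfsg.Statements.S2568
import Cfsg.Agent.Lib.helper48.ConjClass
import Cfsg.Agent.S2577

set_option autoImplicit false
open Cfsg

namespace Cfsg.Agent.S2568

open Matrix Polynomial Cfsg.Agent.Lib.helper48

section Semisimple
universe u
variable {F : Type u} [Field F]

/-- kernel dimensions for an endomorphism annihilated by a squarefree polynomial -/
theorem squarefree_structure {V : Type*} [AddCommGroup V] [Module F V] [FiniteDimensional F V]
    (φ : V →ₗ[F] V) (f : F[X]) (hf : Squarefree f) (hann : aeval φ f = 0)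
    (S : Finset F[X]) (hS : ∀ P ∈ S, P.Monic ∧ Irreducible P)
    (hS' : ∀ P : F[X], P.Monic → Irreducible P → P ∣ f → P ∈ S) :
    (∀ P : F[X], Irreducible P → ∀ k : ℕ, 1 ≤ k →
      Module.finrank F (LinearMap.ker (aeval φ (P ^ k)))
        = Module.finrank F (LinearMap.ker (aeval φ P))) ∧
    (∀ P : F[X], Irreducible P → P.natDegree ∣ Module.finrank F (LinearMap.ker (aeval φ P))) ∧
    Module.finrank F V = ∑ P ∈ S, Module.finrank F (LinearMap.ker (aeval φ P)) := by
  classical
  obtain ⟨ι, _, q, e, hq, hdec⟩ := exists_hasDecomp_irreducible φ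
  have hdvd : ∀ j, q j ^ e j ∣ f := fun j => HasDecomp.dvd_of_aeval_eq_zero _ _ hdec f hann j
  have he : ∀ j, e j ≤ 1 := by
    intro j
    by_contra hcon
    have h2 : 2 ≤ e j := by omega
    have h3 : q j * q j ∣ f := by
      rw [← pow_two]
      exact (pow_dvd_pow (q j) h2).trans (hdvd j)
    exact (hq j).not_isUnit (hf (q j) h3)
  have hker : ∀ P : F[X], Irreducible P → ∀ k : ℕ, 1 ≤ k →
      Module.finrank F (LinearMap.ker (aeval φ (P ^ k)))
        = P.natDegree * ∑ j, (if Associated (q j) P then e j else 0) := by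
    intro P hP k hk
    rw [HasDecomp.finrank_ker_pow φ q e hq hdec hP k]
    congr 1
    refine Finset.sum_congr rfl (fun j _ => ?_)
    have := he j
    split_ifs
    · omega
    · rfl
  have hker1 : ∀ P : F[X], Irreducible P →
      Module.finrank F (LinearMap.ker (aeval φ P))
        = P.natDegree * ∑ j, (if Associated (q j) P then e j else 0) := by
    intro P hP
    have := hker P hP 1 le_rfl
    rwa [pow_one] at this
  refine ⟨?_, ?_, ?_⟩
  · intro P hP k hk
    rw [hker P hP k hk, hker1 P hP]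
  · intro P hP
    rw [hker1 P hP]
    exact dvd_mul_right _ _
  · rw [HasDecomp.finrank_eq φ _ (fun j => pow_ne_zero _ (hq j).ne_zero) hdec]
    have h1 : ∀ P ∈ S, Module.finrank F (LinearMap.ker (aeval φ P))
        = ∑ j, (if Associated (q j) P then e j * P.natDegree else 0) := by
      intro P hP
      rw [hker1 P (hS P hP).2, Finset.mul_sum]
      refine Finset.sum_congr rfl (fun j _ => ?_)
      split_ifs
      · ring
      · rfl
    rw [Finset.sum_congr rfl h1, Finset.sum_comm]
    refine Finset.sum_congr rfl (fun j _ => ?_)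
    rw [natDegree_pow]
    by_cases hj : e j = 0
    · rw [hj, zero_mul]
      symm
      apply Finset.sum_eq_zero
      intro P _
      split_ifs <;> simp
    · have hj1 : e j = 1 := by have := he j; omega
      have hqf : q j ∣ f := by
        have := hdvd j
        rwa [hj1, pow_one] at this
      set c := (q j).leadingCoeff with hc
      have hc0 : c ≠ 0 := leadingCoeff_ne_zero.2 (hq j).ne_zero
      set P₀ := q j * C c⁻¹ with hP₀
      have hP₀m : P₀.Monic := monic_mul_leadingCoeff_inv (hq j).ne_zero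
      have hP₀i : Irreducible P₀ := irreducible_mul_leadingCoeff_inv.2 (hq j)
      have hassoc : Associated (q j) P₀ := by
        refine ⟨⟨C c⁻¹, C c, ?_, ?_⟩, rfl⟩
        · rw [← C_mul, inv_mul_cancel₀ hc0, C_1]
        · rw [← C_mul, mul_inv_cancel₀ hc0, C_1]
      have hP₀f : P₀ ∣ f := hassoc.symm.dvd.trans hqf
      have hP₀S : P₀ ∈ S := hS' P₀ hP₀m hP₀i hP₀f
      rw [Finset.sum_eq_single P₀]
      · rw [if_pos hassoc, hj1, one_mul, one_mul]
        exact natDegree_eq_of_degree_eq (degree_eq_degree_of_associated hassoc)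
      · intro P hP hne
        rw [if_neg]
        intro hqP
        apply hne
        exact eq_of_monic_of_associated (hS P hP).1 hP₀m (hqP.symm.trans hassoc)
      · intro h; exact absurd hP₀S h

end Semisimple

section Cyclo
variable {F : Type*} [Field F]

/-- the monic irreducible factors of the `r`-th cyclotomic polynomial -/
abbrev CycFac (F : Type*) [Field F] (r : ℕ) : Type _ :=
  {P : F[X] // P.Monic ∧ Irreducible P ∧ P ∣ cyclotomic r F}

theorem natDegree_factor [Fintype F] {p q r : ℕ} [Fact p.Prime] [CharP F p]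
    (hF : Fintype.card F = q) (hr : r.Prime) (hrp : r ≠ p) {P : F[X]} (hP : Irreducible P)
    (hdvd : P ∣ cyclotomic r F) : P.natDegree = orderOf (q : ZMod r) := by
  obtain ⟨f, -, hcard⟩ := FiniteField.card F p
  have hcop : p.Coprime r := (Nat.coprime_primes (Fact.out : p.Prime) hr).2 (Ne.symm hrp)
  have := natDegree_of_dvd_cyclotomic_of_irreducible hcard hcop hdvd hP
  rw [this, ← orderOf_units, ZMod.coe_unitOfCoprime, ← hF, hcard]

theorem cast_ne_zero_of_ne {p r : ℕ} [Fact p.Prime] [CharP F p] (hr : r.Prime) (hrp : r ≠ p) :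
    (r : F) ≠ 0 := by
  intro h
  rw [CharP.cast_eq_zero_iff F p r] at h
  exact hrp ((Nat.prime_dvd_prime_iff_eq (Fact.out : p.Prime) hr).1 h).symm

theorem not_dvd_cyclotomic {p r : ℕ} [Fact p.Prime] [CharP F p] (hr : r.Prime) (hrp : r ≠ p) :
    ¬ (X - C 1 : F[X]) ∣ cyclotomic r F := by
  intro h
  have : Fact r.Prime := ⟨hr⟩
  have h1 : (cyclotomic r F).IsRoot 1 := dvd_iff_isRoot.1 h
  rw [IsRoot, eval_one_cyclotomic_prime] at h1
  exact cast_ne_zero_of_ne (F := F) hr hrp h1

theorem card_cycFac [Fintype F] {p q r : ℕ} [Fact p.Prime] [CharP F p]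
    (hF : Fintype.card F = q) (hr : r.Prime) (hrp : r ≠ p) :
    Finite (CycFac F r) ∧ Nat.card (CycFac F r) * orderOf (q : ZMod r) = r - 1 := by
  classical
  have : NeZero (r : F) := ⟨cast_ne_zero_of_ne hr hrp⟩
  have hΦ0 : cyclotomic r F ≠ 0 := cyclotomic_ne_zero r F
  set s := UniqueFactorizationMonoid.normalizedFactors (cyclotomic r F) with hs
  have E : CycFac F r ≃ {P // P ∈ s.toFinset} := Equiv.subtypeEquivRight (fun P => by
    rw [Multiset.mem_toFinset, hs, UniqueFactorizationMonoid.mem_normalizedFactors_iff' hΦ0]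
    constructor
    · rintro ⟨h1, h2, h3⟩
      exact ⟨h2, h1.normalize_eq_self, h3⟩
    · rintro ⟨h1, h2, h3⟩
      refine ⟨?_, h1, h3⟩
      rw [← h2]
      exact monic_normalize h1.ne_zero)
  have hfin : Finite (CycFac F r) := Finite.of_equiv _ E.symm
  refine ⟨hfin, ?_⟩
  have hnodup : s.Nodup :=
    (UniqueFactorizationMonoid.squarefree_iff_nodup_normalizedFactors hΦ0).1
      (squarefree_cyclotomic r F)
  have hcard : Nat.card (CycFac F r) = Multiset.card s := by
    rw [Nat.card_congr E, Nat.card_eq_fintype_card, Fintype.card_coe,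
      Multiset.toFinset_card_of_nodup hnodup]
  have hdeg : ∀ P ∈ s, P.natDegree = orderOf (q : ZMod r) := fun P hP =>
    natDegree_factor hF hr hrp (UniqueFactorizationMonoid.irreducible_of_normalized_factor P hP)
      (UniqueFactorizationMonoid.dvd_of_mem_normalizedFactors hP)
  have h0 : (0 : F[X]) ∉ s := fun h =>
    (UniqueFactorizationMonoid.irreducible_of_normalized_factor 0 h).ne_zero rfl
  have h1 := natDegree_multiset_prod s h0
  have h2 : s.map natDegree = Multiset.replicate (Multiset.card s) (orderOf (q : ZMod r)) := by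
    rw [Multiset.eq_replicate]
    refine ⟨Multiset.card_map _ _, ?_⟩
    intro b hb
    obtain ⟨P, hP, rfl⟩ := Multiset.mem_map.1 hb
    exact hdeg P hP
  rw [h2, Multiset.sum_replicate, smul_eq_mul] at h1
  have h3 : s.prod.natDegree = (cyclotomic r F).natDegree :=
    natDegree_eq_of_degree_eq (degree_eq_degree_of_associated
      (UniqueFactorizationMonoid.prod_normalizedFactors hΦ0))
  rw [hcard, ← h1, h3, natDegree_cyclotomic, Nat.totient_prime hr]

end Cyclo

section Inv
variable {F : Type*} [Field F] [Fintype F] {p q r : ℕ} [Fact p.Prime] [CharP F p]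

/-- kernel dimension of `P(A)` -/
noncomputable def dk {n : ℕ} (A : Matrix (Fin n) (Fin n) F) (P : F[X]) : ℕ :=
  Module.finrank F (LinearMap.ker (aeval (Matrix.toLin' A) P))

theorem dk_eq {n : ℕ} (A : Matrix (Fin n) (Fin n) F) (P : F[X]) :
    dk A P = n - (aeval A P).rank := by
  unfold dk
  rw [aeval_toLin', finrank_ker_toLin', Fintype.card_fin]

theorem rank_eq_of_dk {n : ℕ} (A : Matrix (Fin n) (Fin n) F) (P : F[X]) :
    (aeval A P).rank = n - dk A P := by
  have h1 := dk_eq A P
  have h2 := Matrix.rank_le_card_width (aeval A P)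
  rw [Fintype.card_fin] at h2
  omega

theorem key_facts [Fintype (CycFac F r)] (hr : r.Prime) (hrp : r ≠ p) {n : ℕ}
    (A : Matrix (Fin n) (Fin n) F) (hA : A ^ r = 1) :
    (∀ P : F[X], Irreducible P → ∀ k, 1 ≤ k → dk A (P ^ k) = dk A P) ∧
    (∀ P : F[X], Irreducible P → P.natDegree ∣ dk A P) ∧
    n = dk A (X - C 1) + ∑ P : CycFac F r, dk A P.1 := by
  classical
  have : Fact r.Prime := ⟨hr⟩
  have hsq : Squarefree (X ^ r - C 1 : F[X]) :=
    (separable_X_pow_sub_C (1 : F) (cast_ne_zero_of_ne hr hrp) one_ne_zero).squarefree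
  have hann : aeval (Matrix.toLin' A) (X ^ r - C 1 : F[X]) = 0 := by
    rw [aeval_toLin', map_sub, map_pow, aeval_X, aeval_C, map_one, hA, sub_self, map_zero]
  have hfac : (X ^ r - C 1 : F[X]) = cyclotomic r F * (X - C 1) := by
    rw [C_1, cyclotomic_prime_mul_X_sub_one]
  set S : Finset F[X] := insert (X - C 1) (Finset.univ.image (fun P : CycFac F r => P.1)) with hSdef
  have hnotin : (X - C 1 : F[X]) ∉ Finset.univ.image (fun P : CycFac F r => P.1) := by
    intro h
    obtain ⟨P, -, hP⟩ := Finset.mem_image.1 h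
    apply not_dvd_cyclotomic (F := F) hr hrp
    rw [← hP]
    exact P.2.2.2
  have hS : ∀ P ∈ S, P.Monic ∧ Irreducible P := by
    intro P hP
    rcases Finset.mem_insert.1 hP with rfl | h
    · exact ⟨monic_X_sub_C 1, irreducible_X_sub_C 1⟩
    · obtain ⟨P', -, rfl⟩ := Finset.mem_image.1 h
      exact ⟨P'.2.1, P'.2.2.1⟩
  have hS' : ∀ P : F[X], P.Monic → Irreducible P → P ∣ (X ^ r - C 1 : F[X]) → P ∈ S := by
    intro P hm hi hd
    rw [hfac] at hd
    rcases hi.prime.dvd_or_dvd hd with h | h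
    · exact Finset.mem_insert_of_mem (Finset.mem_image.2 ⟨⟨P, hm, hi, h⟩, Finset.mem_univ _, rfl⟩)
    · have : P = X - C 1 := eq_of_monic_of_associated hm (monic_X_sub_C 1)
        (hi.associated_of_dvd (irreducible_X_sub_C 1) h)
      rw [this]
      exact Finset.mem_insert_self _ _
  obtain ⟨h1, h2, h3⟩ := squarefree_structure (Matrix.toLin' A) _ hsq hann S hS hS'
  refine ⟨h1, h2, ?_⟩
  rw [Module.finrank_fin_fun, hSdef, Finset.sum_insert hnotin,
    Finset.sum_image (fun x _ y _ h => Subtype.ext h)] at h3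
  exact h3

/-- the multiplicity function of a semisimple element of order dividing `r` -/
noncomputable def inv (i : ℕ) {n : ℕ} (A : Matrix (Fin n) (Fin n) F) : CycFac F r → ℕ :=
  fun P => dk A P.1 / i

theorem dk_eq_mul_inv [Fintype (CycFac F r)] (hF : Fintype.card F = q) (hr : r.Prime)
    (hrp : r ≠ p) {i : ℕ} (hi : i = orderOf (q : ZMod r)) {n : ℕ}
    (A : Matrix (Fin n) (Fin n) F) (hA : A ^ r = 1) (P : CycFac F r) :
    dk A P.1 = i * inv (r := r) i A P := by
  obtain ⟨-, h2, -⟩ := key_facts hr hrp A hA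
  have h := h2 P.1 P.2.2.1
  rw [natDegree_factor hF hr hrp P.2.2.1 P.2.2.2, ← hi] at h
  unfold inv
  rw [Nat.mul_div_cancel' h]

theorem inv_props [Fintype (CycFac F r)] (hF : Fintype.card F = q) (hr : r.Prime)
    (hrp : r ≠ p) {i : ℕ} (hi : i = orderOf (q : ZMod r)) {n : ℕ}
    (A : Matrix (Fin n) (Fin n) F) (hA : A ^ r = 1) :
    i * ∑ P, inv (r := r) i A P ≤ n ∧ (inv (r := r) i A = 0 → A = 1) := by
  obtain ⟨-, -, h3⟩ := key_facts hr hrp A hA
  have hsum : i * ∑ P, inv (r := r) i A P = ∑ P : CycFac F r, dk A P.1 := by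
    rw [Finset.mul_sum]
    exact Finset.sum_congr rfl (fun P _ => (dk_eq_mul_inv hF hr hrp hi A hA P).symm)
  refine ⟨by rw [hsum]; omega, ?_⟩
  intro h0
  have hz : ∑ P : CycFac F r, dk A P.1 = 0 := by
    rw [← hsum, h0]; simp
  have h4 : dk A (X - C 1) = n := by omega
  rw [dk_eq, map_sub, aeval_X, aeval_C, map_one] at h4
  by_contra hne
  have := Cfsg.Agent.S2577.rank_pos_of_ne_zero (A - 1) (sub_ne_zero.2 hne)
  have h5 := Matrix.rank_le_card_width (A - 1)
  rw [Fintype.card_fin] at h5
  have hn : 0 < n := by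
    by_contra hn0
    have : n = 0 := by omega
    subst this
    exact hne (Subsingleton.elim _ _)
  omega

theorem conj_of_inv_eq [Fintype (CycFac F r)] (hF : Fintype.card F = q) (hr : r.Prime)
    (hrp : r ≠ p) {i : ℕ} (hi : i = orderOf (q : ZMod r)) {n : ℕ}
    (A B : Matrix (Fin n) (Fin n) F) (hA : A ^ r = 1) (hB : B ^ r = 1)
    (h : inv (r := r) i A = inv (r := r) i B) :
    ∃ P : Matrix (Fin n) (Fin n) F, IsUnit P ∧ P * A = B * P := by
  have : Fact r.Prime := ⟨hr⟩
  obtain ⟨a1, -, a3⟩ := key_facts hr hrp A hA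
  obtain ⟨b1, -, b3⟩ := key_facts hr hrp B hB
  have hdk : ∀ P : CycFac F r, dk A P.1 = dk B P.1 := by
    intro P
    rw [dk_eq_mul_inv hF hr hrp hi A hA P, dk_eq_mul_inv hF hr hrp hi B hB P, h]
  have hdk1 : dk A (X - C 1) = dk B (X - C 1) := by
    have : ∑ P : CycFac F r, dk A P.1 = ∑ P : CycFac F r, dk B P.1 :=
      Finset.sum_congr rfl (fun P _ => hdk P)
    omega
  have hann : ∀ M : Matrix (Fin n) (Fin n) F, M ^ r = 1 → aeval M (X ^ r - C 1 : F[X]) = 0 := by
    intro M hM
    rw [map_sub, map_pow, aeval_X, aeval_C, map_one, hM, sub_self]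
  have hfac : (X ^ r - C 1 : F[X]) = cyclotomic r F * (X - C 1) := by
    rw [C_1, cyclotomic_prime_mul_X_sub_one]
  apply exists_conj_matrix_of_annihilated A B (X ^ r - C 1) (hann A hA) (hann B hB)
  intro P hPi hPm hPf k
  rcases Nat.eq_zero_or_pos k with rfl | hk
  · simp
  · rw [rank_eq_of_dk, rank_eq_of_dk, a1 P hPi k hk, b1 P hPi k hk]
    rw [hfac] at hPf
    rcases hPi.prime.dvd_or_dvd hPf with h' | h'
    · rw [hdk ⟨P, hPm, hPi, h'⟩]
    · have : P = X - C 1 := eq_of_monic_of_associated hPm (monic_X_sub_C 1)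
        (hPi.associated_of_dvd (irreducible_X_sub_C 1) h')
      rw [this, hdk1]

end Inv


section Exist
variable {F : Type*} [Field F]

theorem HasDecomp.aeval_eq_zero_of_dvd {V : Type*} [AddCommGroup V] [Module F V]
    (φ : V →ₗ[F] V) {ι : Type*} (f : ι → F[X]) (h : HasDecomp φ f) (g : F[X])
    (hg : ∀ j, f j ∣ g) : aeval φ g = 0 := by
  obtain ⟨Λ, hΛ⟩ := h
  ext v
  apply Λ.injective
  rw [LinearMap.zero_apply, map_zero]
  have h1 := aeval_of_intertwine φ (Λ : V →ₗ[F] (∀ i, Cyc (f i))) hΛ g v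
  rw [LinearEquiv.coe_coe] at h1
  rw [h1]
  funext j
  obtain ⟨x, hx⟩ := Ideal.Quotient.mk_surjective (Λ v j)
  show g • (Λ v j) = 0
  rw [← hx]
  show Ideal.Quotient.mk _ (g * x) = 0
  rw [Ideal.Quotient.eq_zero_iff_mem, Ideal.mem_span_singleton]
  exact (hg j).mul_right x

theorem dk_conj [Fintype F] {n : ℕ} (A B P : Matrix (Fin n) (Fin n) F) (hP : IsUnit P)
    (h : P * A = B * P) (g : F[X]) : dk A g = dk B g := by
  rw [dk_eq, dk_eq]
  have hcomm : P * aeval A g = aeval B g * P := by
    induction g using Polynomial.induction_on with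
    | C a => rw [aeval_C, aeval_C, Algebra.algebraMap_eq_smul_one, Matrix.mul_smul, Matrix.smul_mul,
        mul_one, one_mul]
    | add p q hp hq => rw [map_add, map_add, mul_add, add_mul, hp, hq]
    | monomial k a ih =>
      have e1 : aeval A (C a * X ^ (k + 1)) = aeval A (C a * X ^ k) * A := by
        rw [pow_succ, ← mul_assoc, map_mul (aeval A) (C a * X ^ k) X, aeval_X]
      have e2 : aeval B (C a * X ^ (k + 1)) = aeval B (C a * X ^ k) * B := by
        rw [pow_succ, ← mul_assoc, map_mul (aeval B) (C a * X ^ k) X, aeval_X]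
      rw [e1, e2, ← mul_assoc, ih, mul_assoc, h, ← mul_assoc]
  have hdet := (Matrix.isUnit_iff_isUnit_det _).1 hP
  rw [← Matrix.rank_mul_eq_right_of_isUnit_det P (aeval A g) hdet, hcomm,
    Matrix.rank_mul_eq_left_of_isUnit_det P _ hdet]

theorem exists_of_inv [Fintype F] {p q r : ℕ} [Fact p.Prime] [CharP F p] [Fintype (CycFac F r)]
    (hF : Fintype.card F = q) (hr : r.Prime) (hrp : r ≠ p) {i : ℕ}
    (hi : i = orderOf (q : ZMod r)) (hi0 : 0 < i) {n : ℕ} (a : CycFac F r → ℕ)
    (ha : i * ∑ P, a P ≤ n) :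
    ∃ A : Matrix (Fin n) (Fin n) F, A ^ r = 1 ∧ inv (r := r) i A = a := by
  classical
  have : Fact r.Prime := ⟨hr⟩
  let qf : ((Σ P : CycFac F r, Fin (a P)) ⊕ Fin (n - i * ∑ P, a P)) → F[X] :=
    Sum.elim (fun x => x.1.1) (fun _ => X - C 1)
  have hqirr : ∀ j, Irreducible (qf j) := by
    rintro (x | x)
    · exact x.1.2.2.1
    · exact irreducible_X_sub_C 1
  have hdegP : ∀ P : CycFac F r, (P.1).natDegree = i := fun P => by
    rw [natDegree_factor hF hr hrp P.2.2.1 P.2.2.2, ← hi]
  have hn : ∑ j, ((qf j) ^ 1).natDegree = n := by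
    simp only [pow_one]
    rw [Fintype.sum_sum_type, Fintype.sum_sigma]
    simp only [qf, Sum.elim_inl, Sum.elim_inr, natDegree_X_sub_C, hdegP, Finset.sum_const,
      Finset.card_univ, Fintype.card_fin, smul_eq_mul, mul_one]
    have : ∑ P : CycFac F r, a P * i = i * ∑ P, a P := by
      rw [Finset.mul_sum]; exact Finset.sum_congr rfl (fun P _ => mul_comm _ _)
    rw [this]
    omega
  obtain ⟨A, hdec⟩ := exists_matrix_hasDecomp (fun j => qf j ^ 1)
    (fun j => pow_ne_zero _ (hqirr j).ne_zero) n hn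
  have hfac : (X ^ r - C 1 : F[X]) = cyclotomic r F * (X - C 1) := by
    rw [C_1, cyclotomic_prime_mul_X_sub_one]
  have hAr : A ^ r = 1 := by
    have h := HasDecomp.aeval_eq_zero_of_dvd _ _ hdec (X ^ r - C 1) (fun j => by
      rw [pow_one, hfac]
      rcases j with x | x
      · exact (x.1.2.2.2).mul_right _
      · exact dvd_mul_left _ _)
    rw [aeval_toLin', map_sub, map_pow, aeval_X, aeval_C, map_one] at h
    have := Matrix.toLin'.injective (h.trans (map_zero _).symm)
    exact sub_eq_zero.1 this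
  refine ⟨A, hAr, ?_⟩
  funext P
  have hk := HasDecomp.finrank_ker_pow (Matrix.toLin' A) qf (fun _ => 1) hqirr hdec P.2.2.1 1
  rw [pow_one] at hk
  have h1 : ∀ P' : CycFac F r, Associated P'.1 P.1 ↔ P' = P := fun P' =>
    ⟨fun h => Subtype.ext (eq_of_monic_of_associated P'.2.1 P.2.1 h), fun h => by rw [h]⟩
  have h2 : ¬ Associated (X - C 1 : F[X]) P.1 := by
    intro h
    have := eq_of_monic_of_associated (monic_X_sub_C 1) P.2.1 h
    apply not_dvd_cyclotomic (F := F) hr hrp
    rw [this]; exact P.2.2.2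
  have hcount : ∑ j, (if Associated (qf j) P.1 then min 1 1 else 0) = a P := by
    rw [Fintype.sum_sum_type, Fintype.sum_sigma]
    simp only [qf, Sum.elim_inl, Sum.elim_inr, h1, h2, if_false, Finset.sum_const_zero, add_zero,
      min_self, Finset.sum_const, Finset.card_univ, Fintype.card_fin, smul_eq_mul]
    rw [Finset.sum_eq_single P]
    · simp
    · intro P' _ hne
      simp [hne]
    · intro h; exact absurd (Finset.mem_univ P) h
  unfold inv dk
  rw [hk, hcount, hdegP, Nat.mul_div_cancel_left _ hi0]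

theorem card_tuples {α : Type*} [Fintype α] (N : ℕ) :
    Nat.card {a : α → ℕ // ∑ x, a x ≤ N} = (N + Fintype.card α).choose (Fintype.card α) := by
  classical
  let E : {a : α → ℕ // ∑ x, a x ≤ N} ≃ {b : Option α → ℕ // ∑ o, b o = N} :=
    { toFun := fun a => ⟨fun o => Option.elim o (N - ∑ x, a.1 x) a.1, by
        rw [Fintype.sum_option]
        have := a.2
        simp only [Option.elim]
        omega⟩
      invFun := fun b => ⟨fun x => b.1 (some x), by
        have := b.2
        rw [Fintype.sum_option] at this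
        show ∑ x, b.1 (some x) ≤ N
        omega⟩
      left_inv := fun a => rfl
      right_inv := fun b => by
        apply Subtype.ext
        funext o
        rcases o with _ | x
        · have := b.2
          rw [Fintype.sum_option] at this
          simp only [Option.elim]
          omega
        · rfl }
  rw [Nat.card_congr (E.trans (Sym.equivNatSumOfFintype (Option α) N).symm),
    Nat.card_eq_fintype_card, Sym.card_sym_eq_choose, Fintype.card_option]
  have : Fintype.card α + 1 + N - 1 = Fintype.card α + N := by omega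
  rw [this, ← Nat.choose_symm_add, add_comm]

theorem card_tuples' {α : Type*} [Fintype α] (n i : ℕ) (hi : 0 < i) :
    Nat.card {a : α → ℕ // a ≠ 0 ∧ i * ∑ x, a x ≤ n}
      = (n / i + Fintype.card α).choose (Fintype.card α) - 1 := by
  classical
  set S : Set (α → ℕ) := {a | ∑ x, a x ≤ n / i} with hS
  have h1 : Nat.card S = (n / i + Fintype.card α).choose (Fintype.card α) := card_tuples (n / i)
  have hpos : 0 < (n / i + Fintype.card α).choose (Fintype.card α) :=
    Nat.choose_pos (Nat.le_add_left _ _)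
  have hfin : S.Finite := by
    have : Finite S := Nat.finite_of_card_ne_zero (by rw [h1]; omega)
    exact Set.toFinite S
  have h0 : (0 : α → ℕ) ∈ S := by simp [hS]
  have h2 : {a : α → ℕ | a ≠ 0 ∧ i * ∑ x, a x ≤ n} = S \ {0} := by
    ext a
    simp only [Set.mem_ofPred_eq, Set.mem_sdiff, Set.mem_singleton_iff, hS]
    rw [Nat.le_div_iff_mul_le hi, mul_comm]
    tauto
  have h3 : Nat.card {a : α → ℕ // a ≠ 0 ∧ i * ∑ x, a x ≤ n}
      = ({a : α → ℕ | a ≠ 0 ∧ i * ∑ x, a x ≤ n}).ncard := Nat.card_coe_set_eq _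
  rw [h3, h2, Set.ncard_sdiff_singleton_of_mem h0, ← Nat.card_coe_set_eq, h1]

end Exist


/-- Number of conjugacy classes of elements of a given prime order r, coprime to the characteristic, in GL_n(q): if i is the multiplicative order of q modulo r and t = (r − 1)/i, the classes correspond to the non-zero t-tuples of natural numbers (a_1, …, a_t) with i(a_1 + ⋯ + a_t) ≤ n (a_j is the multiplicity of the j-th Frobenius orbit of nontrivial r-th roots of unity among the eigenvalues), so there are exactly C(⌊n/i⌋ + t, t) − 1 of them. -/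
theorem result {F : Type*} [Field F] [Fintype F] {p q : ℕ} [Fact p.Prime] [CharP F p] (hF : Fintype.card F = q) (n r i t : ℕ) (hr : r.Prime) (hrp : r ≠ p) (hi : i = orderOf (q : ZMod r)) (ht : t * i = r - 1) : Nat.card {C : ConjClasses (GL (Fin n) F) // ∃ g : GL (Fin n) F, ConjClasses.mk g = C ∧ orderOf g = r} = Nat.choose (n / i + t) t - 1 := by
  classical
  have hr2 := hr.two_le
  have hi0 : 0 < i := by
    rcases Nat.eq_zero_or_pos i with h | h
    · rw [h, mul_zero] at ht; omega
    · exact h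
  obtain ⟨hfin, hcard⟩ := card_cycFac (F := F) hF hr hrp
  have : Fintype (CycFac F r) := Fintype.ofFinite _
  have hct : Fintype.card (CycFac F r) = t := by
    rw [Nat.card_eq_fintype_card, ← hi, ← ht] at hcard
    exact Nat.eq_of_mul_eq_mul_right hi0 hcard
  rw [← hct, ← card_tuples' n i hi0]
  -- existence
  have hex : ∀ a : {a : CycFac F r → ℕ // a ≠ 0 ∧ i * ∑ x, a x ≤ n},
      ∃ g : GL (Fin n) F, orderOf g = r ∧
        inv (r := r) i (g : Matrix (Fin n) (Fin n) F) = a.1 := by
    intro a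
    obtain ⟨A, hAr, hAinv⟩ := exists_of_inv hF hr hrp hi hi0 a.1 a.2.2
    have hr1 : r = (r - 1) + 1 := by omega
    let g : GL (Fin n) F := ⟨A, A ^ (r - 1), by rw [← pow_succ', ← hr1, hAr],
      by rw [← pow_succ, ← hr1, hAr]⟩
    refine ⟨g, ?_, hAinv⟩
    have : Fact r.Prime := ⟨hr⟩
    apply orderOf_eq_prime
    · apply Units.ext
      rw [Units.val_pow_eq_pow_val]; exact hAr
    · intro hg1
      have hA1 : A = 1 := congrArg Units.val hg1
      apply a.2.1
      rw [← hAinv, hA1]
      obtain ⟨-, -, h3⟩ := key_facts (F := F) hr hrp (1 : Matrix (Fin n) (Fin n) F) (one_pow r)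
      have h4 : dk (1 : Matrix (Fin n) (Fin n) F) (X - C 1) = n := by
        rw [dk_eq, map_sub, aeval_X, aeval_C, map_one, sub_self, Matrix.rank_zero]
        omega
      have h5 : ∑ P : CycFac F r, dk (1 : Matrix (Fin n) (Fin n) F) P.1 = 0 := by omega
      funext P
      have h6 := (Finset.sum_eq_zero_iff.1 h5) P (Finset.mem_univ P)
      show dk 1 P.1 / i = 0
      rw [h6, Nat.zero_div]
  choose G hGord hGinv using hex
  have hpowG : ∀ g : GL (Fin n) F, orderOf g = r →
      (g : Matrix (Fin n) (Fin n) F) ^ r = 1 := by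
    intro g hg
    rw [← Units.val_pow_eq_pow_val, ← hg, pow_orderOf_eq_one, Units.val_one]
  have hinvconj : ∀ g h : GL (Fin n) F, IsConj g h →
      inv (r := r) i (g : Matrix (Fin n) (Fin n) F)
        = inv (r := r) i (h : Matrix (Fin n) (Fin n) F) := by
    intro g h hc
    obtain ⟨c, hc⟩ := isConj_iff.1 hc
    have h1 : (c : Matrix (Fin n) (Fin n) F) * g = h * c := by
      rw [← Units.val_mul, ← Units.val_mul, ← hc]
      simp
    funext P
    show dk _ P.1 / i = dk _ P.1 / i
    rw [dk_conj _ _ _ c.isUnit h1]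
  symm
  refine Nat.card_congr (Equiv.ofBijective
    (fun a => ⟨ConjClasses.mk (G a), G a, rfl, hGord a⟩) ⟨?_, ?_⟩)
  · intro a b hab
    have h1 : ConjClasses.mk (G a) = ConjClasses.mk (G b) := congrArg Subtype.val hab
    have h2 := hinvconj _ _ (ConjClasses.mk_eq_mk_iff_isConj.1 h1)
    rw [hGinv, hGinv] at h2
    exact Subtype.ext h2
  · rintro ⟨C, g, rfl, hg⟩
    have hgr := hpowG g hg
    obtain ⟨hle, hne⟩ := inv_props hF hr hrp hi (g : Matrix (Fin n) (Fin n) F) hgr
    have hne0 : inv (r := r) i (g : Matrix (Fin n) (Fin n) F) ≠ 0 := by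
      intro h0
      have hg1 : g = 1 := Units.ext (hne h0)
      rw [hg1, orderOf_one] at hg
      omega
    set a₀ : {a : CycFac F r → ℕ // a ≠ 0 ∧ i * ∑ x, a x ≤ n} :=
      ⟨inv (r := r) i (g : Matrix (Fin n) (Fin n) F), hne0, hle⟩ with ha₀
    refine ⟨a₀, ?_⟩
    apply Subtype.ext
    show ConjClasses.mk (G a₀) = ConjClasses.mk g
    rw [ConjClasses.mk_eq_mk_iff_isConj]
    obtain ⟨P, hP, hPc⟩ := conj_of_inv_eq hF hr hrp hi _ _ (hpowG _ (hGord a₀)) hgr (hGinv a₀)
    rw [isConj_iff]
    refine ⟨hP.unit, ?_⟩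
    apply Units.ext
    rw [Units.val_mul, Units.val_mul, hP.unit_spec, hPc, mul_assoc, hP.mul_val_inv, mul_one]

end Cfsg.Agent.S2568
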