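import Cfsg.Statements.S2569

set_option autoImplicit false
open Cfsg

namespace Cfsg.Agent.S2569

open Polynomial

theorem exists_commuting_det {F V K : Type*} [Field F] [AddCommGroup V] [Module F V] [FiniteDimensional F V]
    [Field K] [Algebra F K] [Finite K]
    (φ : V →ₗ[F] V) (P : V →ₗ[F] K) (I : K →ₗ[F] V) (hPI : ∀ k, P (I k) = k)
    (hcomm : ∀ (a : K) v, I (a * P (φ v)) = φ (I (a * P v))) (d : F) :
    ∃ z : V →ₗ[F] V, z ∘ₗ φ = φ ∘ₗ z ∧ LinearMap.det z = d := by
  classical
  obtain ⟨a, ha⟩ := FiniteField.norm_surjective F K d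
  refine ⟨LinearMap.id + I ∘ₗ (LinearMap.mul F K (a - 1)) ∘ₗ P, ?_, ?_⟩
  · ext v
    have h1 := hcomm 1 v
    simp only [one_mul] at h1
    simp [hcomm, h1]
  · have : FiniteDimensional F K := Module.Finite.of_finite
    let bV := Module.finBasis F V
    let bK := Module.finBasis F K
    rw [← LinearMap.det_toMatrix bV]
    have h1 : LinearMap.toMatrix bV bV (LinearMap.id + I ∘ₗ (LinearMap.mul F K (a - 1)) ∘ₗ P)
        = 1 + LinearMap.toMatrix bK bV (I ∘ₗ LinearMap.mul F K (a - 1)) * LinearMap.toMatrix bV bK P := by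
      rw [map_add, LinearMap.toMatrix_id, ← LinearMap.toMatrix_comp]
      rfl
    have h2 : (1 : Matrix (Fin (Module.finrank F K)) (Fin (Module.finrank F K)) F) + LinearMap.toMatrix bV bK P * LinearMap.toMatrix bK bV (I ∘ₗ LinearMap.mul F K (a - 1))
        = LinearMap.toMatrix bK bK (LinearMap.mul F K a) := by
      rw [← LinearMap.toMatrix_comp, ← LinearMap.toMatrix_id (v₁ := bK), ← map_add]
      congr 1
      ext k
      simp [hPI]
    rw [h1, Matrix.det_one_add_mul_comm, h2, LinearMap.det_toMatrix, ← ha, Algebra.norm_apply]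
    rfl

/-- centraliser of a semisimple element has surjective determinant -/
theorem exists_commuting_matrix {F : Type*} [Field F] [Fintype F] {n : ℕ} (hn : 0 < n)
    (A : Matrix (Fin n) (Fin n) F) (k : ℕ) (hk : (k : F) ≠ 0) (hA : A ^ k = 1) (d : F) :
    ∃ Z : Matrix (Fin n) (Fin n) F, Z * A = A * Z ∧ Z.det = d := by
  classical
  let φ : (Fin n → F) →ₗ[F] (Fin n → F) := Matrix.toLin' A
  have hφk : φ ^ k = 1 := by
    rw [← Matrix.toLin'_pow, hA, Matrix.toLin'_one]; rfl
  have hT : Module.IsTorsion F[X] (Module.AEval' φ) :=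
    Module.AEval.isTorsion_of_finiteDimensional F (Fin n → F) φ
  obtain ⟨ι, _, p, hp, e, ⟨L⟩⟩ := Module.equiv_directSum_of_isTorsion hT
  have comp_rsmul : ∀ (i : ι) (r : F[X]) (m : Module.AEval' φ),
      (L (r • m)) i = Ideal.Quotient.mk (Ideal.span {p i ^ e i}) r * (L m i) := by
    intro i r m
    rw [map_smul, DirectSum.smul_apply]
    rfl
  -- nontrivial component
  obtain ⟨i₀, v₀, hi₀⟩ : ∃ i₀, ∃ v : Fin n → F, L (Module.AEval'.of φ v) i₀ ≠ 0 := by
    by_contra hcon
    push Not at hcon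
    have : ∀ v : Fin n → F, v = 0 := by
      intro v
      have h1 : L (Module.AEval'.of φ v) = 0 := by
        ext i; exact hcon i v
      have := L.injective (h1.trans (map_zero L).symm)
      exact (Module.AEval'.of φ).injective (this.trans (map_zero _).symm)
    have h1 := this (fun _ => 1)
    have := congrFun h1 ⟨0, hn⟩
    simp at this
  -- X^k - 1 lies in the ideal
  have hkill : ∀ m : Module.AEval' φ, ((X : F[X]) ^ k - 1) • m = 0 := by
    intro m
    obtain ⟨v, rfl⟩ := (Module.AEval'.of φ).surjective m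
    rw [sub_smul, one_smul, Module.AEval'.X_pow_smul_of, hφk]
    simp
  have hmem : Ideal.Quotient.mk (Ideal.span {p i₀ ^ e i₀}) ((X : F[X]) ^ k - 1) = 0 := by
    have h1 := comp_rsmul i₀ ((X : F[X]) ^ k - 1) (L.symm (DirectSum.lof F[X] ι (fun i => F[X] ⧸ (Ideal.span {p i ^ e i} : Ideal F[X])) i₀ 1))
    rw [hkill, map_zero, LinearEquiv.apply_symm_apply, DirectSum.lof_apply, mul_one] at h1
    exact h1.symm
  have hdvd : p i₀ ^ e i₀ ∣ (X : F[X]) ^ k - 1 := by
    rw [Ideal.Quotient.eq_zero_iff_mem, Ideal.mem_span_singleton] at hmem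
    exact hmem
  have he0 : e i₀ ≠ 0 := by
    intro h0
    apply hi₀
    have : Subsingleton (F[X] ⧸ (Ideal.span {p i₀ ^ e i₀} : Ideal F[X])) := by
      rw [Ideal.Quotient.subsingleton_iff, h0, pow_zero, Ideal.span_singleton_one]
    exact Subsingleton.elim _ _
  have hsep : ((X : F[X]) ^ k - 1).Separable := by
    have := Polynomial.separable_X_pow_sub_C (1 : F) hk one_ne_zero
    simpa using this
  have he1 : e i₀ = 1 := by
    by_contra hne
    have h2 : 2 ≤ e i₀ := by omega
    have h3 : p i₀ * p i₀ ∣ (X : F[X]) ^ k - 1 := by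
      refine dvd_trans ?_ hdvd
      rw [← pow_two]
      exact pow_dvd_pow _ h2
    exact (hp i₀).not_isUnit (hsep.squarefree _ h3)
  have hmax : (Ideal.span {p i₀ ^ e i₀} : Ideal F[X]).IsMaximal := by
    rw [he1, pow_one]
    exact PrincipalIdealRing.isMaximal_of_irreducible (hp i₀)
  letI : Field (F[X] ⧸ (Ideal.span {p i₀ ^ e i₀} : Ideal F[X])) := Ideal.Quotient.field _
  let P : (Fin n → F) →ₗ[F] (F[X] ⧸ (Ideal.span {p i₀ ^ e i₀} : Ideal F[X])) :=
    { toFun := fun v => L (Module.AEval'.of φ v) i₀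
      map_add' := by
        intro v w
        simp only [map_add, DirectSum.add_apply]
      map_smul' := by
        intro c v
        have h1 : ∀ a : F[X] ⧸ (Ideal.span {p i₀ ^ e i₀} : Ideal F[X]),
            c • a = Ideal.Quotient.mk (Ideal.span {p i₀ ^ e i₀}) (C c) * a := by
          intro a
          rw [Algebra.smul_def]
          rfl
        rw [RingHom.id_apply, h1, ← comp_rsmul, Module.AEval.C_smul, map_smul] }
  let I : (F[X] ⧸ (Ideal.span {p i₀ ^ e i₀} : Ideal F[X])) →ₗ[F] (Fin n → F) :=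
    { toFun := fun a => (Module.AEval'.of φ).symm (L.symm (DirectSum.lof F[X] ι (fun i => F[X] ⧸ (Ideal.span {p i ^ e i} : Ideal F[X])) i₀ a))
      map_add' := by
        intro a b
        simp only [map_add]
      map_smul' := by
        intro c a
        have h1 : c • a = (C c : F[X]) • a := by
          rw [Algebra.smul_def]
          rfl
        rw [RingHom.id_apply, h1, map_smul, map_smul, Module.AEval.C_smul, map_smul] }
  have hPI : ∀ a, P (I a) = a := by
    intro a
    show L (Module.AEval'.of φ ((Module.AEval'.of φ).symm (L.symm (DirectSum.lof F[X] ι (fun i => F[X] ⧸ (Ideal.span {p i ^ e i} : Ideal F[X])) i₀ a)))) i₀ = a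
    rw [LinearEquiv.apply_symm_apply, LinearEquiv.apply_symm_apply, DirectSum.lof_apply]
  have hPφ : ∀ v, P (φ v) = Ideal.Quotient.mk _ X * P v := by
    intro v
    show L (Module.AEval'.of φ (φ v)) i₀ = _ * L (Module.AEval'.of φ v) i₀
    rw [← comp_rsmul, Module.AEval'.X_smul_of]
  have hIφ : ∀ a, I (Ideal.Quotient.mk _ X * a) = φ (I a) := by
    intro a
    have h1 : Ideal.Quotient.mk (Ideal.span {p i₀ ^ e i₀}) X * a = (X : F[X]) • a := rfl
    show (Module.AEval'.of φ).symm (L.symm (DirectSum.lof F[X] ι (fun i => F[X] ⧸ (Ideal.span {p i ^ e i} : Ideal F[X])) i₀ (Ideal.Quotient.mk (Ideal.span {p i₀ ^ e i₀}) X * a))) = φ ((Module.AEval'.of φ).symm (L.symm (DirectSum.lof F[X] ι (fun i => F[X] ⧸ (Ideal.span {p i ^ e i} : Ideal F[X])) i₀ a)))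
    rw [h1, map_smul, map_smul, Module.AEval'.of_symm_X_smul]
  have hfin : Finite (F[X] ⧸ (Ideal.span {p i₀ ^ e i₀} : Ideal F[X])) :=
    Finite.of_surjective P (fun a => ⟨I a, hPI a⟩)
  obtain ⟨z, hz, hdet⟩ := exists_commuting_det φ P I hPI (by
    intro a v
    rw [hPφ, ← hIφ]
    congr 1
    ring) d
  refine ⟨LinearMap.toMatrix' z, ?_, ?_⟩
  · have h1 := congrArg LinearMap.toMatrix' hz
    rw [LinearMap.toMatrix'_comp, LinearMap.toMatrix'_comp, LinearMap.toMatrix'_toLin'] at h1
    exact h1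
  · rw [LinearMap.det_toMatrix', hdet]

/-- In GL_n over a finite field of characteristic p, the conjugacy class of a semisimple element (an element of order prime to p) under the special linear group is its whole GL-conjugacy class: for every such x and every invertible g there is h of determinant one with h x h⁻¹ = g x g⁻¹. -/
theorem result {F : Type*} [Field F] [Fintype F] {p : ℕ} [Fact p.Prime] [CharP F p] {n : ℕ} (x g : GL (Fin n) F) (hx : (orderOf x).Coprime p) : ∃ h : GL (Fin n) F, (h : Matrix (Fin n) (Fin n) F).det = 1 ∧ h * x * h⁻¹ = g * x * g⁻¹ := by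
  classical
  rcases Nat.eq_zero_or_pos n with hn | hn
  · subst hn
    exact ⟨g, Matrix.det_isEmpty, rfl⟩
  · set k := orderOf x with hk
    have hk0 : (k : F) ≠ 0 := by
      intro h0
      rw [CharP.cast_eq_zero_iff F p k] at h0
      have h1 : p ∣ Nat.gcd k p := Nat.dvd_gcd h0 dvd_rfl
      rw [Nat.Coprime] at hx
      rw [hx] at h1
      exact (Fact.out : p.Prime).one_lt.ne' (Nat.dvd_one.mp h1)
    have hxk : (x : Matrix (Fin n) (Fin n) F) ^ k = 1 := by
      have h1 : x ^ k = 1 := pow_orderOf_eq_one x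
      have := congrArg (fun u : GL (Fin n) F => (u : Matrix (Fin n) (Fin n) F)) h1
      simpa using this
    have hgdet : (g : Matrix (Fin n) (Fin n) F).det ≠ 0 := Matrix.GeneralLinearGroup.det_ne_zero g
    obtain ⟨Z, hZ, hZdet⟩ := exists_commuting_matrix hn (x : Matrix (Fin n) (Fin n) F) k hk0 hxk (g : Matrix (Fin n) (Fin n) F).det
    let Zgl : GL (Fin n) F := Matrix.GeneralLinearGroup.mkOfDetNeZero Z (by rw [hZdet]; exact hgdet)
    have hZgl : (Zgl : Matrix (Fin n) (Fin n) F) = Z := rfl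
    have hc : Zgl * x = x * Zgl := Units.ext hZ
    refine ⟨g * Zgl⁻¹, ?_, ?_⟩
    · have h1 : ((Zgl⁻¹ : GL (Fin n) F) : Matrix (Fin n) (Fin n) F).det * Z.det = 1 := by
        rw [← hZgl, ← Matrix.det_mul, ← Units.val_mul, inv_mul_cancel]
        simp
      rw [Units.val_mul, Matrix.det_mul, ← hZdet, mul_comm]
      exact h1
    · calc g * Zgl⁻¹ * x * (g * Zgl⁻¹)⁻¹ = g * (Zgl⁻¹ * x * Zgl) * g⁻¹ := by group
        _ = g * x * g⁻¹ := by
          rw [show Zgl⁻¹ * x * Zgl = x from by rw [mul_assoc, ← hc, ← mul_assoc, inv_mul_cancel, one_mul]]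

end Cfsg.Agent.S2569
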