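import Cfsg.Statements.S2579

set_option autoImplicit false
open Cfsg

namespace Cfsg.Agent.S2579

open Module

/-- a basis of a finite-dimensional space with prescribed first vector -/
theorem exists_basis_first {F K : Type*} [Field F] [AddCommGroup K] [Module F K]
    [FiniteDimensional F K] (m : ℕ) (hK : finrank F K = m + 1) (b0 : K) (hb0 : b0 ≠ 0) :
    ∃ b : Basis (Fin (m + 1)) F K, b 0 = b0 := by
  obtain ⟨K', hK'⟩ := Submodule.exists_isCompl (Submodule.span F {b0})
  have hdim : finrank F K' = m := by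
    have := Submodule.finrank_add_eq_of_isCompl hK'
    rw [finrank_span_singleton hb0, hK] at this
    omega
  let bK' : Basis (Fin m) F K' := Module.finBasisOfFinrankEq F K' hdim
  have hli : ∀ (c : F), ∀ x ∈ K', c • b0 + x = 0 → c = 0 := by
    intro c x hx h
    have h1 : c • b0 ∈ Submodule.span F {b0} ⊓ K' := by
      refine ⟨Submodule.smul_mem _ _ (Submodule.mem_span_singleton_self b0), ?_⟩
      have : c • b0 = -x := eq_neg_of_add_eq_zero_left h
      rw [this]; exact K'.neg_mem hx
    rw [hK'.inf_eq_bot, Submodule.mem_bot] at h1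
    exact (smul_eq_zero.1 h1).resolve_right hb0
  have hsp : ∀ z : K, ∃ c : F, z + c • b0 ∈ K' := by
    intro z
    have hz : z ∈ Submodule.span F {b0} ⊔ K' := by rw [hK'.sup_eq_top]; trivial
    obtain ⟨y, hy, k, hk, rfl⟩ := Submodule.mem_sup.1 hz
    obtain ⟨a, rfl⟩ := Submodule.mem_span_singleton.1 hy
    refine ⟨-a, ?_⟩
    have : a • b0 + k + -a • b0 = k := by rw [neg_smul]; abel
    rw [this]; exact hk
  refine ⟨Basis.mkFinCons b0 bK' hli hsp, ?_⟩
  rw [Basis.coe_mkFinCons]
  rfl

/-- Every rank-one square-zero matrix is conjugate, by a matrix of determinant one, to the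
standard elementary one (in dimension at least three). -/
theorem exists_conj_std {F : Type*} [Field F] (m : ℕ) (N : Matrix (Fin (m + 3)) (Fin (m + 3)) F)
    (hrank : N.rank = 1) (hsq : N * N = 0) :
    ∃ G : Matrix (Fin (m + 3)) (Fin (m + 3)) F, G.det = 1 ∧
      G * Matrix.single (1 : Fin (m + 3)) (0 : Fin (m + 3)) (1 : F) = N * G := by
  classical
  set f : (Fin (m + 3) → F) →ₗ[F] (Fin (m + 3) → F) := Matrix.toLin' N with hf
  have hV : finrank F (Fin (m + 3) → F) = m + 3 := by simp
  have hrange : finrank F (LinearMap.range f) = 1 := by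
    rw [← hrank, hf, Matrix.rank, Matrix.toLin'_apply']
  have hker : finrank F (LinearMap.ker f) = m + 2 := by
    have h1 := LinearMap.finrank_range_add_finrank_ker f
    omega
  have hff : ∀ v, f (f v) = 0 := by
    intro v
    rw [hf, Matrix.toLin'_apply, Matrix.toLin'_apply, Matrix.mulVec_mulVec, hsq, Matrix.zero_mulVec]
  have hw : ∃ w, f w ≠ 0 := by
    by_contra hcon
    push Not at hcon
    have : LinearMap.range f = ⊥ := by
      rw [LinearMap.range_eq_bot]
      exact LinearMap.ext hcon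
    rw [this, finrank_bot] at hrange
    exact zero_ne_one hrange
  obtain ⟨w, hw⟩ := hw
  let b0K : LinearMap.ker f := ⟨f w, hff w⟩
  have hb0K : b0K ≠ 0 := fun h => hw (congrArg Subtype.val h)
  obtain ⟨bK, hbK⟩ := exists_basis_first (m + 1) hker b0K hb0K
  have hli : ∀ (c : F), ∀ x ∈ LinearMap.ker f, c • w + x = 0 → c = 0 := by
    intro c x hx h
    have h1 := congrArg f h
    rw [map_add, map_smul, LinearMap.mem_ker.1 hx, add_zero, map_zero] at h1
    exact (smul_eq_zero.1 h1).resolve_right hw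
  have hsp : ∀ z : Fin (m + 3) → F, ∃ c : F, z + c • w ∈ LinearMap.ker f := by
    intro z
    have h1 := (finrank_eq_one_iff_of_nonzero' (⟨f w, LinearMap.mem_range_self f w⟩ :
      LinearMap.range f) (fun h => hw (congrArg Subtype.val h))).1 hrange
      ⟨f z, LinearMap.mem_range_self f z⟩
    obtain ⟨a, ha⟩ := h1
    have ha' : a • f w = f z := congrArg Subtype.val ha
    refine ⟨-a, ?_⟩
    rw [LinearMap.mem_ker, map_add, map_smul, ← ha', neg_smul, add_neg_cancel]
  let bV : Basis (Fin (m + 3)) F (Fin (m + 3) → F) := Basis.mkFinCons w bK hli hsp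
  have hbV : (bV : Fin (m + 3) → (Fin (m + 3) → F)) = Fin.cons w ((↑) ∘ bK) :=
    Basis.coe_mkFinCons w bK hli hsp
  have hbV0 : f (bV 0) = f w := by rw [hbV]; rfl
  have hbV1 : bV 1 = f w := by
    rw [hbV]
    show (bK 0 : Fin (m + 3) → F) = f w
    rw [hbK]
  have hbVsucc : ∀ j : Fin (m + 2), f (bV j.succ) = 0 := by
    intro j
    rw [hbV]
    show f (bK j : Fin (m + 3) → F) = 0
    exact (bK j).2
  let G0 : Matrix (Fin (m + 3)) (Fin (m + 3)) F := Matrix.of fun r c => bV c r
  have hG0v : ∀ a : Fin (m + 3) → F, Matrix.mulVec G0 a = ∑ c, a c • bV c := by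
    intro a
    ext r
    simp only [Matrix.mulVec, dotProduct, G0, Matrix.of_apply, Finset.sum_apply, Pi.smul_apply,
      smul_eq_mul]
    exact Finset.sum_congr rfl (fun c _ => mul_comm _ _)
  have hG0unit : IsUnit G0 := by
    rw [← Matrix.mulVec_injective_iff_isUnit]
    intro a a' haa'
    have h1 : Matrix.mulVec G0 (a - a') = 0 := by
      rw [Matrix.mulVec_sub, haa', sub_self]
    rw [hG0v] at h1
    have h2 := Fintype.linearIndependent_iff.1 bV.linearIndependent (a - a') h1
    ext i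
    have := h2 i
    simpa [sub_eq_zero] using this
  have hG0N : G0 * Matrix.single (1 : Fin (m + 3)) (0 : Fin (m + 3)) (1 : F) = N * G0 := by
    ext r c
    have hR : (N * G0) r c = f (bV c) r := by
      rw [hf, Matrix.toLin'_apply, Matrix.mul_apply]
      rfl
    rw [hR]
    induction c using Fin.cases with
    | zero =>
      rw [Matrix.mul_single_apply_same, mul_one, hbV0]
      show bV 1 r = f w r
      rw [hbV1]
    | succ j =>
      rw [Matrix.mul_single_apply_of_ne (hbj := Fin.succ_ne_zero j), hbVsucc]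
      rfl
  -- adjust the determinant
  have hdet0 : G0.det ≠ 0 := by
    have := (Matrix.isUnit_iff_isUnit_det G0).1 hG0unit
    exact this.ne_zero
  let D : Matrix (Fin (m + 3)) (Fin (m + 3)) F :=
    Matrix.diagonal (Function.update (fun _ => (1 : F)) (2 : Fin (m + 3)) (G0.det)⁻¹)
  have hDdet : D.det = (G0.det)⁻¹ := by
    rw [Matrix.det_diagonal, Finset.prod_update_of_mem (Finset.mem_univ _)]
    simp
  have hDS : D * Matrix.single (1 : Fin (m + 3)) (0 : Fin (m + 3)) (1 : F)
      = Matrix.single (1 : Fin (m + 3)) (0 : Fin (m + 3)) (1 : F) * D := by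
    ext i j
    rw [Matrix.diagonal_mul, Matrix.mul_diagonal, Matrix.single_apply]
    by_cases hij : (1 : Fin (m + 3)) = i ∧ (0 : Fin (m + 3)) = j
    · obtain ⟨rfl, rfl⟩ := hij
      have hmod : 2 % (m + 3) = 2 := Nat.mod_eq_of_lt (by omega)
      have h12 : (1 : Fin (m + 3)) ≠ 2 := by
        intro h; have := congrArg Fin.val h; simp at this; omega
      have h02 : (0 : Fin (m + 3)) ≠ 2 := by
        intro h; have := congrArg Fin.val h; simp at this; omega
      simp [Function.update_of_ne h12, Function.update_of_ne h02]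
    · simp [hij]
  refine ⟨G0 * D, ?_, ?_⟩
  · rw [Matrix.det_mul, hDdet, mul_inv_cancel₀ hdet0]
  · rw [mul_assoc, hDS, ← mul_assoc, hG0N, mul_assoc]

/-- In SL_n(F) with n ≥ 3, over a finite field F, any two transvections (matrices t with t − 1 of rank one and square zero) are conjugate by an element of SL_n(F). -/
theorem result {F : Type*} [Field F] [Finite F] {n : ℕ} (hn : 3 ≤ n) (s t : Matrix.SpecialLinearGroup (Fin n) F) (hs : Cfsg.IsTransvection (s : Matrix (Fin n) (Fin n) F)) (ht : Cfsg.IsTransvection (t : Matrix (Fin n) (Fin n) F)) : IsConj s t := by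
  obtain ⟨m, rfl⟩ : ∃ m, n = m + 3 := ⟨n - 3, by omega⟩
  have key : ∀ (x : Matrix.SpecialLinearGroup (Fin (m + 3)) F),
      Cfsg.IsTransvection (x : Matrix (Fin (m + 3)) (Fin (m + 3)) F) →
      ∃ g : Matrix.SpecialLinearGroup (Fin (m + 3)) F,
        ((g⁻¹ * x * g : Matrix.SpecialLinearGroup (Fin (m + 3)) F) :
          Matrix (Fin (m + 3)) (Fin (m + 3)) F)
          = 1 + Matrix.single (1 : Fin (m + 3)) (0 : Fin (m + 3)) (1 : F) := by
    intro x hx
    obtain ⟨G, hG1, hGN⟩ := exists_conj_std m ((x : Matrix (Fin (m + 3)) (Fin (m + 3)) F) - 1)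
      hx.1 hx.2
    let g : Matrix.SpecialLinearGroup (Fin (m + 3)) F := ⟨G, hG1⟩
    refine ⟨g, ?_⟩
    have h1 : G * (1 + Matrix.single (1 : Fin (m + 3)) (0 : Fin (m + 3)) (1 : F))
        = (x : Matrix (Fin (m + 3)) (Fin (m + 3)) F) * G := by
      rw [mul_add, mul_one, hGN, sub_mul, one_mul]; abel
    have h2 : ((g⁻¹ : Matrix.SpecialLinearGroup (Fin (m + 3)) F) :
        Matrix (Fin (m + 3)) (Fin (m + 3)) F) * G = 1 := by
      have : (g⁻¹ * g : Matrix.SpecialLinearGroup (Fin (m + 3)) F) = 1 := inv_mul_cancel g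
      exact congrArg Subtype.val this
    rw [Matrix.SpecialLinearGroup.coe_mul, Matrix.SpecialLinearGroup.coe_mul]
    show ((g⁻¹ : Matrix.SpecialLinearGroup (Fin (m + 3)) F) :
        Matrix (Fin (m + 3)) (Fin (m + 3)) F) * (x : Matrix (Fin (m + 3)) (Fin (m + 3)) F) * G = _
    rw [mul_assoc, ← h1, ← mul_assoc, h2, one_mul]
  obtain ⟨gs, hgs⟩ := key s hs
  obtain ⟨gt, hgt⟩ := key t ht
  have heq : gs⁻¹ * s * gs = gt⁻¹ * t * gt := Subtype.ext (hgs.trans hgt.symm)
  rw [isConj_iff]
  refine ⟨gt * gs⁻¹, ?_⟩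
  calc gt * gs⁻¹ * s * (gt * gs⁻¹)⁻¹ = gt * (gs⁻¹ * s * gs) * gt⁻¹ := by group
    _ = gt * (gt⁻¹ * t * gt) * gt⁻¹ := by rw [heq]
    _ = t := by group

end Cfsg.Agent.S2579
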