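import Cfsg.Statements.S2572
import Cfsg.Agent.S2579

set_option autoImplicit false
open Cfsg

namespace Cfsg.Agent.S2572

open Module Cfsg.Agent.S2579

/-- Every rank-one square-zero matrix is conjugate to the standard elementary one
(in dimension at least two). -/
theorem exists_conj_std' {F : Type*} [Field F] (k : ℕ) (N : Matrix (Fin (k + 2)) (Fin (k + 2)) F)
    (hrank : N.rank = 1) (hsq : N * N = 0) :
    ∃ G : Matrix (Fin (k + 2)) (Fin (k + 2)) F, IsUnit G ∧
      G * Matrix.single (1 : Fin (k + 2)) (0 : Fin (k + 2)) (1 : F) = N * G := by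
  classical
  set f : (Fin (k + 2) → F) →ₗ[F] (Fin (k + 2) → F) := Matrix.toLin' N with hf
  have hV : finrank F (Fin (k + 2) → F) = k + 2 := by simp
  have hrange : finrank F (LinearMap.range f) = 1 := by
    rw [← hrank, hf, Matrix.rank, Matrix.toLin'_apply']
  have hker : finrank F (LinearMap.ker f) = k + 1 := by
    have h1 := LinearMap.finrank_range_add_finrank_ker f
    omega
  have hff : ∀ v, f (f v) = 0 := by
    intro v
    rw [hf, Matrix.toLin'_apply, Matrix.toLin'_apply, Matrix.mulVec_mulVec, hsq, Matrix.zero_mulVec]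
  have hw : ∃ w, f w ≠ 0 := by
    by_contra hcon
    push Not at hcon
    have : LinearMap.range f = ⊥ := by
      rw [LinearMap.range_eq_bot]
      exact LinearMap.ext hcon
    rw [this, finrank_bot] at hrange
    exact zero_ne_one hrange
  obtain ⟨w, hw⟩ := hw
  let b0K : LinearMap.ker f := ⟨f w, hff w⟩
  have hb0K : b0K ≠ 0 := fun h => hw (congrArg Subtype.val h)
  obtain ⟨bK, hbK⟩ := exists_basis_first k hker b0K hb0K
  have hli : ∀ (c : F), ∀ x ∈ LinearMap.ker f, c • w + x = 0 → c = 0 := by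
    intro c x hx h
    have h1 := congrArg f h
    rw [map_add, map_smul, LinearMap.mem_ker.1 hx, add_zero, map_zero] at h1
    exact (smul_eq_zero.1 h1).resolve_right hw
  have hsp : ∀ z : Fin (k + 2) → F, ∃ c : F, z + c • w ∈ LinearMap.ker f := by
    intro z
    have h1 := (finrank_eq_one_iff_of_nonzero' (⟨f w, LinearMap.mem_range_self f w⟩ :
      LinearMap.range f) (fun h => hw (congrArg Subtype.val h))).1 hrange
      ⟨f z, LinearMap.mem_range_self f z⟩
    obtain ⟨a, ha⟩ := h1
    have ha' : a • f w = f z := congrArg Subtype.val ha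
    refine ⟨-a, ?_⟩
    rw [LinearMap.mem_ker, map_add, map_smul, ← ha', neg_smul, add_neg_cancel]
  let bV : Basis (Fin (k + 2)) F (Fin (k + 2) → F) := Basis.mkFinCons w bK hli hsp
  have hbV : (bV : Fin (k + 2) → (Fin (k + 2) → F)) = Fin.cons w ((↑) ∘ bK) :=
    Basis.coe_mkFinCons w bK hli hsp
  have hbV0 : f (bV 0) = f w := by rw [hbV]; rfl
  have hbV1 : bV 1 = f w := by
    rw [hbV]
    show (bK 0 : Fin (k + 2) → F) = f w
    rw [hbK]
  have hbVsucc : ∀ j : Fin (k + 1), f (bV j.succ) = 0 := by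
    intro j
    rw [hbV]
    show f (bK j : Fin (k + 2) → F) = 0
    exact (bK j).2
  let G0 : Matrix (Fin (k + 2)) (Fin (k + 2)) F := Matrix.of fun r c => bV c r
  have hG0v : ∀ a : Fin (k + 2) → F, Matrix.mulVec G0 a = ∑ c, a c • bV c := by
    intro a
    ext r
    simp only [Matrix.mulVec, dotProduct, G0, Matrix.of_apply, Finset.sum_apply, Pi.smul_apply,
      smul_eq_mul]
    exact Finset.sum_congr rfl (fun c _ => mul_comm _ _)
  have hG0unit : IsUnit G0 := by
    rw [← Matrix.mulVec_injective_iff_isUnit]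
    intro a a' haa'
    have h1 : Matrix.mulVec G0 (a - a') = 0 := by
      rw [Matrix.mulVec_sub, haa', sub_self]
    rw [hG0v] at h1
    have h2 := Fintype.linearIndependent_iff.1 bV.linearIndependent (a - a') h1
    ext i
    have := h2 i
    simpa [sub_eq_zero] using this
  have hG0N : G0 * Matrix.single (1 : Fin (k + 2)) (0 : Fin (k + 2)) (1 : F) = N * G0 := by
    ext r c
    have hR : (N * G0) r c = f (bV c) r := by
      rw [hf, Matrix.toLin'_apply, Matrix.mul_apply]
      rfl
    rw [hR]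
    induction c using Fin.cases with
    | zero =>
      rw [Matrix.mul_single_apply_same, mul_one, hbV0]
      show bV 1 r = f w r
      rw [hbV1]
    | succ j =>
      rw [Matrix.mul_single_apply_of_ne (hbj := Fin.succ_ne_zero j), hbVsucc]
      rfl
  exact ⟨G0, hG0unit, hG0N⟩

/-- the parametrization of the commutant of the standard elementary matrix -/
def Phi {F : Type*} [Field F] {k : ℕ} (a : F) (h : Matrix (Fin k) (Fin k) F) (v : Fin (k + 1) → F)
    (r : Fin k → F) : Matrix (Fin (k + 2)) (Fin (k + 2)) F :=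
  Matrix.of (Matrix.vecCons (Matrix.vecCons a (fun _ => 0))
    (fun i' => Matrix.vecCons (v i')
      (Matrix.vecCons (Matrix.vecCons a r) (fun i'' => Matrix.vecCons 0 (h i'')) i')))

section

variable {F : Type*} [Field F] {k : ℕ}

theorem Phi_00 (a : F) (h : Matrix (Fin k) (Fin k) F) (v : Fin (k + 1) → F) (r : Fin k → F) :
    Phi a h v r 0 0 = a := rfl

theorem Phi_0s (a : F) (h : Matrix (Fin k) (Fin k) F) (v : Fin (k + 1) → F) (r : Fin k → F)
    (j : Fin (k + 1)) : Phi a h v r 0 j.succ = 0 := rfl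

theorem Phi_s0 (a : F) (h : Matrix (Fin k) (Fin k) F) (v : Fin (k + 1) → F) (r : Fin k → F)
    (i : Fin (k + 1)) : Phi a h v r i.succ 0 = v i := rfl

theorem Phi_11 (a : F) (h : Matrix (Fin k) (Fin k) F) (v : Fin (k + 1) → F) (r : Fin k → F) :
    Phi a h v r (Fin.succ 0) (Fin.succ 0) = a := rfl

theorem Phi_1s (a : F) (h : Matrix (Fin k) (Fin k) F) (v : Fin (k + 1) → F) (r : Fin k → F)
    (j : Fin k) : Phi a h v r (Fin.succ 0) j.succ.succ = r j := rfl

theorem Phi_s1 (a : F) (h : Matrix (Fin k) (Fin k) F) (v : Fin (k + 1) → F) (r : Fin k → F)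
    (i : Fin k) : Phi a h v r i.succ.succ (Fin.succ 0) = 0 := rfl

theorem Phi_ss (a : F) (h : Matrix (Fin k) (Fin k) F) (v : Fin (k + 1) → F) (r : Fin k → F)
    (i j : Fin k) : Phi a h v r i.succ.succ j.succ.succ = h i j := rfl

theorem comm_iff (M : Matrix (Fin (k + 2)) (Fin (k + 2)) F) :
    M * Matrix.single (1 : Fin (k + 2)) (0 : Fin (k + 2)) (1 : F)
      = Matrix.single (1 : Fin (k + 2)) (0 : Fin (k + 2)) (1 : F) * M ↔
    (∀ j : Fin (k + 1), M 0 j.succ = 0) ∧ M 0 0 = M (Fin.succ 0) (Fin.succ 0) ∧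
      (∀ i : Fin k, M i.succ.succ (Fin.succ 0) = 0) := by
  have h1 : (Fin.succ 0 : Fin (k + 2)) = 1 := Fin.succ_zero_eq_one
  rw [h1]
  constructor
  · intro h
    refine ⟨fun j => ?_, ?_, fun i => ?_⟩
    · have := congrFun (congrFun h 1) j.succ
      rw [Matrix.mul_single_apply_of_ne (hbj := Fin.succ_ne_zero j),
        Matrix.single_mul_apply_same, one_mul] at this
      exact this.symm
    · have := congrFun (congrFun h 1) 0
      rw [Matrix.mul_single_apply_same, Matrix.single_mul_apply_same, one_mul, mul_one] at this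
      exact this.symm
    · have := congrFun (congrFun h i.succ.succ) 0
      have hne : (i.succ.succ : Fin (k + 2)) ≠ 1 := by
        rw [← h1]
        intro h'
        exact Fin.succ_ne_zero i (Fin.succ_injective _ h')
      rw [Matrix.mul_single_apply_same, Matrix.single_mul_apply_of_ne (h := hne), mul_one] at this
      exact this
  · rintro ⟨ha, hb, hc⟩
    ext x y
    refine Fin.cases ?_ (fun y' => ?_) y
    · rw [Matrix.mul_single_apply_same, mul_one]
      refine Fin.cases ?_ (fun x' => ?_) x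
      · rw [Matrix.single_mul_apply_of_ne (h := by rw [← h1]; exact (Fin.succ_ne_zero 0).symm)]
        rw [← h1]
        exact ha 0
      · refine Fin.cases ?_ (fun x'' => ?_) x'
        · rw [h1, Matrix.single_mul_apply_same, one_mul, hb]
        · have hne : (x''.succ.succ : Fin (k + 2)) ≠ 1 := by
            rw [← h1]
            intro h'
            exact Fin.succ_ne_zero x'' (Fin.succ_injective _ h')
          rw [Matrix.single_mul_apply_of_ne (h := hne), ← h1]
          exact hc x''
    · rw [Matrix.mul_single_apply_of_ne (hbj := Fin.succ_ne_zero y')]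
      by_cases hx : x = 1
      · subst hx
        rw [Matrix.single_mul_apply_same, one_mul, ha]
      · rw [Matrix.single_mul_apply_of_ne (h := hx)]

theorem eq_Phi (M : Matrix (Fin (k + 2)) (Fin (k + 2)) F)
    (ha : ∀ j : Fin (k + 1), M 0 j.succ = 0) (hb : M 0 0 = M (Fin.succ 0) (Fin.succ 0))
    (hc : ∀ i : Fin k, M i.succ.succ (Fin.succ 0) = 0) :
    M = Phi (M 0 0) (M.submatrix (fun i => i.succ.succ) (fun j => j.succ.succ))
      (fun i => M i.succ 0) (fun j => M (Fin.succ 0) j.succ.succ) := by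
  ext x y
  refine Fin.cases ?_ (fun x' => ?_) x
  · refine Fin.cases ?_ (fun y' => ?_) y
    · rfl
    · rw [Phi_0s, ha]
  · refine Fin.cases ?_ (fun y' => ?_) y
    · rfl
    · refine Fin.cases ?_ (fun x'' => ?_) x'
      · refine Fin.cases ?_ (fun y'' => ?_) y'
        · rw [Phi_11, hb]
        · rfl
      · refine Fin.cases ?_ (fun y'' => ?_) y'
        · rw [Phi_s1, hc]
        · rfl

theorem Phi_comm (a : F) (h : Matrix (Fin k) (Fin k) F) (v : Fin (k + 1) → F) (r : Fin k → F) :
    Phi a h v r * Matrix.single (1 : Fin (k + 2)) (0 : Fin (k + 2)) (1 : F)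
      = Matrix.single (1 : Fin (k + 2)) (0 : Fin (k + 2)) (1 : F) * Phi a h v r := by
  rw [comm_iff]
  exact ⟨fun j => rfl, rfl, fun i => rfl⟩

theorem det_row0 {n : ℕ} (A : Matrix (Fin (n + 1)) (Fin (n + 1)) F)
    (h : ∀ j : Fin n, A 0 j.succ = 0) : A.det = A 0 0 * (A.submatrix Fin.succ Fin.succ).det := by
  rw [Matrix.det_succ_row_zero, Finset.sum_eq_single 0]
  · simp [Fin.succAbove_zero]
  · intro j _ hj
    obtain ⟨j', rfl⟩ := Fin.exists_succ_eq.mpr hj
    rw [h]; simp
  · intro h0; exact absurd (Finset.mem_univ _) h0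

theorem det_col0 {n : ℕ} (A : Matrix (Fin (n + 1)) (Fin (n + 1)) F)
    (h : ∀ i : Fin n, A i.succ 0 = 0) : A.det = A 0 0 * (A.submatrix Fin.succ Fin.succ).det := by
  rw [Matrix.det_succ_column_zero, Finset.sum_eq_single 0]
  · simp [Fin.succAbove_zero]
  · intro j _ hj
    obtain ⟨j', rfl⟩ := Fin.exists_succ_eq.mpr hj
    rw [h]; simp
  · intro h0; exact absurd (Finset.mem_univ _) h0

theorem det_Phi (a : F) (h : Matrix (Fin k) (Fin k) F) (v : Fin (k + 1) → F) (r : Fin k → F) :
    (Phi a h v r).det = a * a * h.det := by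
  rw [det_row0 _ (fun j => Phi_0s a h v r j), det_col0 _ (fun i => Phi_s1 a h v r i), Phi_00]
  have h1 : ((Phi a h v r).submatrix Fin.succ Fin.succ) 0 0 = a := rfl
  have h2 : ((Phi a h v r).submatrix Fin.succ Fin.succ).submatrix Fin.succ Fin.succ = h := by
    ext i j; rfl
  rw [h1, h2, mul_assoc]

end

theorem card_std {F : Type*} [Field F] [Fintype F] (k : ℕ) :
    Nat.card {M : Matrix (Fin (k + 2)) (Fin (k + 2)) F // IsUnit M ∧
        M * Matrix.single (1 : Fin (k + 2)) (0 : Fin (k + 2)) (1 : F)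
          = Matrix.single (1 : Fin (k + 2)) (0 : Fin (k + 2)) (1 : F) * M}
      = (Fintype.card F - 1) * Nat.card (GL (Fin k) F) * Fintype.card F ^ (k + 1)
        * Fintype.card F ^ k := by
  classical
  let Ψ : Fˣ × GL (Fin k) F × (Fin (k + 1) → F) × (Fin k → F) →
      {M : Matrix (Fin (k + 2)) (Fin (k + 2)) F // IsUnit M ∧
        M * Matrix.single (1 : Fin (k + 2)) (0 : Fin (k + 2)) (1 : F)
          = Matrix.single (1 : Fin (k + 2)) (0 : Fin (k + 2)) (1 : F) * M} :=
    fun x => ⟨Phi (x.1 : F) (x.2.1 : Matrix (Fin k) (Fin k) F) x.2.2.1 x.2.2.2, by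
      rw [Matrix.isUnit_iff_isUnit_det, det_Phi]
      exact (x.1.isUnit.mul x.1.isUnit).mul ((Matrix.isUnit_iff_isUnit_det _).mp x.2.1.isUnit),
      Phi_comm _ _ _ _⟩
  have hinj : Function.Injective Ψ := by
    rintro ⟨a, h, v, r⟩ ⟨a', h', v', r'⟩ hx
    have hM : Phi (a : F) (h : Matrix (Fin k) (Fin k) F) v r
        = Phi (a' : F) (h' : Matrix (Fin k) (Fin k) F) v' r' := congrArg Subtype.val hx
    have e1 : a = a' := Units.ext (congrFun (congrFun hM 0) 0)
    have e2 : h = h' := Units.ext (by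
      ext i j
      exact congrFun (congrFun hM i.succ.succ) j.succ.succ)
    have e3 : v = v' := by
      funext i
      exact congrFun (congrFun hM i.succ) 0
    have e4 : r = r' := by
      funext j
      exact congrFun (congrFun hM (Fin.succ 0)) j.succ.succ
    rw [e1, e2, e3, e4]
  have hsurj : Function.Surjective Ψ := by
    rintro ⟨M, hu, hc⟩
    obtain ⟨ha, hb, hc'⟩ := (comm_iff M).mp hc
    have hM := eq_Phi M ha hb hc'
    have hdet : IsUnit M.det := (Matrix.isUnit_iff_isUnit_det M).mp hu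
    rw [hM, det_Phi] at hdet
    have h1 : M 0 0 ≠ 0 := by
      intro h0
      rw [h0] at hdet
      simp at hdet
    have h2 : (M.submatrix (fun i : Fin k => i.succ.succ) (fun j : Fin k => j.succ.succ)).det ≠ 0 := by
      intro h0
      rw [h0] at hdet
      simp at hdet
    refine ⟨(Units.mk0 (M 0 0) h1, Matrix.GeneralLinearGroup.mkOfDetNeZero _ h2,
      fun i => M i.succ 0, fun j => M (Fin.succ 0) j.succ.succ), ?_⟩
    apply Subtype.ext
    exact hM.symm
  rw [← Nat.card_congr (Equiv.ofBijective Ψ ⟨hinj, hsurj⟩), Nat.card_prod, Nat.card_prod,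
    Nat.card_prod, Nat.card_units, Nat.card_eq_fintype_card (α := F),
    Nat.card_eq_fintype_card (α := Fin (k + 1) → F), Nat.card_eq_fintype_card (α := Fin k → F),
    Fintype.card_fun, Fintype.card_fun, Fintype.card_fin, Fintype.card_fin]
  ring

/-- Centraliser of a transvection in GL_n(q), n ≥ 2: if t − 1 has rank one and square zero, the centraliser of t in GL_n(q) has order q^(2n−3) (q − 1) |GL_(n−2)(q)| (a group of order q^(2n−3) extended by GL_1(q) × GL_(n−2)(q)). -/
theorem result {F : Type*} [Field F] [Fintype F] {q n : ℕ} (hF : Fintype.card F = q) (hn : 2 ≤ n) (t : GL (Fin n) F) (ht : Cfsg.IsTransvection (t : Matrix (Fin n) (Fin n) F)) : Nat.card ↥(Subgroup.centralizer ({t} : Set (GL (Fin n) F))) = q ^ (2 * n - 3) * (q - 1) * ∏ i : Fin (n - 2), (q ^ (n - 2) - q ^ (i : ℕ)) := by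
  classical
  subst hF
  obtain ⟨k, rfl⟩ : ∃ k, n = k + 2 := ⟨n - 2, by omega⟩
  set T : Matrix (Fin (k + 2)) (Fin (k + 2)) F := (t : Matrix (Fin (k + 2)) (Fin (k + 2)) F) with hT
  obtain ⟨G0, hG0u, hG0⟩ := exists_conj_std' k (T - 1) ht.1 ht.2
  obtain ⟨G0', hl, hr⟩ : ∃ G0' : Matrix (Fin (k + 2)) (Fin (k + 2)) F, G0' * G0 = 1 ∧ G0 * G0' = 1 := by
    obtain ⟨u, hu⟩ := hG0u
    exact ⟨(u⁻¹ : (Matrix (Fin (k + 2)) (Fin (k + 2)) F)ˣ), by rw [← hu]; exact u.inv_mul,
      by rw [← hu]; exact u.mul_inv⟩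
  have hG0'u : IsUnit G0' := ⟨⟨G0', G0, hl, hr⟩, rfl⟩
  have hN0 : Matrix.single (1 : Fin (k + 2)) (0 : Fin (k + 2)) (1 : F) * G0' = G0' * (T - 1) := by
    calc Matrix.single (1 : Fin (k + 2)) (0 : Fin (k + 2)) (1 : F) * G0'
        = G0' * G0 * Matrix.single (1 : Fin (k + 2)) (0 : Fin (k + 2)) (1 : F) * G0' := by
          rw [hl, one_mul]
      _ = G0' * (G0 * Matrix.single (1 : Fin (k + 2)) (0 : Fin (k + 2)) (1 : F)) * G0' := by
          simp only [mul_assoc]
      _ = G0' * ((T - 1) * G0) * G0' := by rw [hG0]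
      _ = G0' * (T - 1) * (G0 * G0') := by simp only [mul_assoc]
      _ = G0' * (T - 1) := by rw [hr, mul_one]
  have hcent : ∀ g : GL (Fin (k + 2)) F, g ∈ Subgroup.centralizer ({t} : Set (GL (Fin (k + 2)) F)) ↔
      (T - 1) * (g : Matrix (Fin (k + 2)) (Fin (k + 2)) F)
        = (g : Matrix (Fin (k + 2)) (Fin (k + 2)) F) * (T - 1) := by
    intro g
    rw [Subgroup.mem_centralizer_iff]
    constructor
    · intro h
      have h1 := congrArg (fun u : GL (Fin (k + 2)) F => (u : Matrix (Fin (k + 2)) (Fin (k + 2)) F))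
        (h t rfl)
      simp only [Units.val_mul] at h1
      rw [sub_mul, mul_sub, one_mul, mul_one, hT, h1]
    · intro h s hs
      rw [Set.mem_singleton_iff] at hs
      subst hs
      apply Units.ext
      simp only [Units.val_mul]
      rw [sub_mul, mul_sub, one_mul, mul_one] at h
      exact sub_left_injective h
  let e : ↥(Subgroup.centralizer ({t} : Set (GL (Fin (k + 2)) F))) ≃
      {M : Matrix (Fin (k + 2)) (Fin (k + 2)) F // IsUnit M ∧
        M * Matrix.single (1 : Fin (k + 2)) (0 : Fin (k + 2)) (1 : F)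
          = Matrix.single (1 : Fin (k + 2)) (0 : Fin (k + 2)) (1 : F) * M} :=
    { toFun := fun g => ⟨G0' * (g.1 : Matrix (Fin (k + 2)) (Fin (k + 2)) F) * G0,
        (hG0'u.mul g.1.isUnit).mul hG0u, by
          have hg := (hcent g.1).mp g.2
          calc G0' * (g.1 : Matrix (Fin (k + 2)) (Fin (k + 2)) F) * G0
                * Matrix.single (1 : Fin (k + 2)) (0 : Fin (k + 2)) (1 : F)
              = G0' * (g.1 : Matrix (Fin (k + 2)) (Fin (k + 2)) F)
                * (G0 * Matrix.single (1 : Fin (k + 2)) (0 : Fin (k + 2)) (1 : F)) := by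
                simp only [mul_assoc]
            _ = G0' * ((g.1 : Matrix (Fin (k + 2)) (Fin (k + 2)) F) * (T - 1)) * G0 := by
                rw [hG0]; simp only [mul_assoc]
            _ = G0' * (T - 1) * (g.1 : Matrix (Fin (k + 2)) (Fin (k + 2)) F) * G0 := by
                rw [← hg]; simp only [mul_assoc]
            _ = Matrix.single (1 : Fin (k + 2)) (0 : Fin (k + 2)) (1 : F)
                * (G0' * (g.1 : Matrix (Fin (k + 2)) (Fin (k + 2)) F) * G0) := by
                rw [← hN0]; simp only [mul_assoc]⟩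
      invFun := fun M => ⟨((hG0u.mul M.2.1).mul hG0'u).unit, by
          rw [hcent]
          show (T - 1) * (G0 * M.1 * G0') = G0 * M.1 * G0' * (T - 1)
          calc (T - 1) * (G0 * M.1 * G0') = (T - 1) * G0 * M.1 * G0' := by simp only [mul_assoc]
            _ = G0 * (Matrix.single (1 : Fin (k + 2)) (0 : Fin (k + 2)) (1 : F) * M.1) * G0' := by
                rw [← hG0]; simp only [mul_assoc]
            _ = G0 * M.1 * (Matrix.single (1 : Fin (k + 2)) (0 : Fin (k + 2)) (1 : F) * G0') := by
                rw [← M.2.2]; simp only [mul_assoc]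
            _ = G0 * M.1 * G0' * (T - 1) := by
                rw [hN0]; simp only [mul_assoc]⟩
      left_inv := by
        intro g
        apply Subtype.ext
        apply Units.ext
        show G0 * (G0' * (g.1 : Matrix (Fin (k + 2)) (Fin (k + 2)) F) * G0) * G0' = _
        calc G0 * (G0' * (g.1 : Matrix (Fin (k + 2)) (Fin (k + 2)) F) * G0) * G0'
            = (G0 * G0') * (g.1 : Matrix (Fin (k + 2)) (Fin (k + 2)) F) * (G0 * G0') := by
              simp only [mul_assoc]
          _ = (g.1 : Matrix (Fin (k + 2)) (Fin (k + 2)) F) := by rw [hr, one_mul, mul_one]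
      right_inv := by
        intro M
        apply Subtype.ext
        show G0' * (G0 * M.1 * G0') * G0 = M.1
        calc G0' * (G0 * M.1 * G0') * G0 = (G0' * G0) * M.1 * (G0' * G0) := by
              simp only [mul_assoc]
          _ = M.1 := by rw [hl, one_mul, mul_one] }
  rw [Nat.card_congr e, card_std, Matrix.card_GL_field]
  show _ = Fintype.card F ^ (2 * (k + 2) - 3) * (Fintype.card F - 1)
    * ∏ i : Fin k, (Fintype.card F ^ k - Fintype.card F ^ (i : ℕ))
  have h3 : 2 * (k + 2) - 3 = (k + 1) + k := by omega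
  rw [h3, pow_add]
  ring

end Cfsg.Agent.S2572
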