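import Cfsg.Statements.S2575

set_option autoImplicit false
open Cfsg

namespace Cfsg.Agent.S2575

theorem two_pow_mul_odd (N : ℕ) (hN : N ≠ 0) : ∃ N', Odd N' ∧ N = 2 ^ padicValNat 2 N * N' := by
  obtain ⟨N', hN'⟩ := pow_padicValNat_dvd (p := 2) (n := N)
  refine ⟨N', ?_, hN'⟩
  by_contra h
  rw [Nat.not_odd_iff_even] at h
  obtain ⟨r, hr⟩ := h
  apply pow_succ_padicValNat_not_dvd (p := 2) hN
  refine ⟨r, ?_⟩
  rw [pow_succ]
  calc N = 2 ^ padicValNat 2 N * N' := hN'
    _ = 2 ^ padicValNat 2 N * (r + r) := by rw [hr]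
    _ = 2 ^ padicValNat 2 N * 2 * r := by ring

theorem neg_one_ne_one_of_odd_card {F : Type*} [Field F] [Fintype F] (hq : Odd (Fintype.card F)) :
    (-1 : F) ≠ 1 := by
  apply Ring.neg_one_ne_one_of_char_ne_two
  intro h
  rw [FiniteField.even_card_iff_char_two] at h
  rcases hq with ⟨k, hk⟩
  omega

/-- an element whose `2^a`-th power is `-1`, when `2^(a+1)` divides `q - 1` -/
theorem exists_pow_two_pow_eq_neg_one {F : Type*} [Field F] [Fintype F] (a : ℕ)
    (ha : 2 ^ (a + 1) ∣ Fintype.card F - 1) :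
    ∃ c : F, c ≠ 0 ∧ c ^ (2 ^ a) = -1 := by
  classical
  obtain ⟨g, hg⟩ := IsCyclic.exists_ofOrder_eq_natCard (α := Fˣ)
  rw [Nat.card_eq_fintype_card, Fintype.card_units] at hg
  obtain ⟨M, hM⟩ := ha
  have hNpos : 0 < Fintype.card F - 1 := by
    have := Fintype.one_lt_card (α := F)
    omega
  have hMpos : 0 < M := by
    rcases Nat.eq_zero_or_pos M with h | h
    · rw [h] at hM; omega
    · exact h
  have h1 : (g ^ M) ^ (2 ^ (a + 1)) = 1 := by
    rw [← pow_mul, mul_comm, ← hM, ← hg, pow_orderOf_eq_one]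
  have h2 : (g ^ M) ^ (2 ^ a) ≠ 1 := by
    rw [← pow_mul]
    apply pow_ne_one_of_lt_orderOf
    · positivity
    · rw [hg, hM, pow_succ]
      have : 0 < 2 ^ a := by positivity
      nlinarith
  refine ⟨((g ^ M : Fˣ) : F), Units.ne_zero _, ?_⟩
  have h3 : (((g ^ M : Fˣ) : F) ^ (2 ^ a)) ^ 2 = 1 := by
    rw [← pow_mul, ← pow_succ]
    have := congrArg (fun u : Fˣ => (u : F)) h1
    simpa using this
  have h4 : (((g ^ M : Fˣ) : F) ^ (2 ^ a)) ≠ 1 := by
    intro h
    apply h2
    apply Units.ext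
    simpa using h
  rcases sq_eq_one_iff.mp h3 with h | h
  · exact absurd h h4
  · exact h

/-- Which diagonal involutions of PGL_n(q) lie in PSL_n(q), q odd: for the diagonal matrix t with i entries −1 and n − i entries 1, some non-zero scalar multiple of t has determinant one if and only if i is even or the 2-part of q − 1 exceeds the 2-part of n (that is, −1 is an n-th power in the field exactly in the latter case). -/
theorem result {F : Type*} [Field F] [Fintype F] {q : ℕ} (hF : Fintype.card F = q) (hq : Odd q) {n : ℕ} (hn : 1 ≤ n) (i : ℕ) (hi : i ≤ n) : (∃ c : F, c ≠ 0 ∧ (c • Matrix.diagonal (fun j : Fin n => if (j : ℕ) < i then (-1 : F) else 1)).det = 1) ↔ (Even i ∨ padicValNat 2 n < padicValNat 2 (q - 1)) := by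
  classical
  subst hF
  have hdet : ∀ c : F, (c • Matrix.diagonal (fun j : Fin n => if (j : ℕ) < i then (-1 : F) else 1)).det = c ^ n * (-1) ^ i := by
    intro c
    rw [Matrix.det_smul, Matrix.det_diagonal, Fintype.card_fin, Finset.prod_ite]
    simp only [Finset.prod_const, one_pow, mul_one]
    rw [Fin.card_filter_val_lt, min_eq_right hi]
  have hne : (-1 : F) ≠ 1 := neg_one_ne_one_of_odd_card hq
  have hNpos : Fintype.card F - 1 ≠ 0 := by
    have := Fintype.one_lt_card (α := F)
    omega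
  simp only [hdet]
  constructor
  · rintro ⟨c, hc0, hc⟩
    by_contra hcon
    rw [not_or, not_lt] at hcon
    obtain ⟨hi_odd, hle⟩ := hcon
    have hi' : Odd i := Nat.not_even_iff_odd.mp hi_odd
    rw [hi'.neg_one_pow] at hc
    have hcn : c ^ n = -1 := by linear_combination -hc
    obtain ⟨N', hN', hNeq⟩ := two_pow_mul_odd (Fintype.card F - 1) hNpos
    have hdvd : 2 ^ padicValNat 2 (Fintype.card F - 1) ∣ n :=
      dvd_trans (pow_dvd_pow 2 hle) pow_padicValNat_dvd
    obtain ⟨t, ht⟩ := hdvd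
    have h1 : c ^ (n * N') = 1 := by
      rw [ht, mul_assoc, mul_comm t, ← mul_assoc, ← hNeq, pow_mul,
        FiniteField.pow_card_sub_one_eq_one c hc0, one_pow]
    rw [pow_mul, hcn, hN'.neg_one_pow] at h1
    exact hne h1
  · rintro (hev | hlt)
    · exact ⟨1, one_ne_zero, by rw [hev.neg_one_pow]; simp⟩
    · by_cases hev : Even i
      · exact ⟨1, one_ne_zero, by rw [hev.neg_one_pow]; simp⟩
      · have hi' : Odd i := Nat.not_even_iff_odd.mp hev
        obtain ⟨c, hc0, hc⟩ := exists_pow_two_pow_eq_neg_one (F := F) (padicValNat 2 n)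
          (dvd_trans (pow_dvd_pow 2 hlt) pow_padicValNat_dvd)
        obtain ⟨n', hn', hneq⟩ := two_pow_mul_odd n (by omega)
        refine ⟨c, hc0, ?_⟩
        rw [hi'.neg_one_pow]
        have : c ^ n = -1 := by
          conv_lhs => rw [hneq]
          rw [pow_mul, hc, hn'.neg_one_pow]
        rw [this]; simp

end Cfsg.Agent.S2575
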