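import Cfsg.Statements.S2576
import Cfsg.Agent.S2575

set_option autoImplicit false
open Cfsg

namespace Cfsg.Agent.S2576

open Cfsg.Agent.S2575

/-- Which involutions of PGL_2m(q) coming from a scalar of the quadratic extension field lie in PSL_2m(q), q odd: let μ generate the Sylow 2-subgroup of the multiplicative group of the field with q elements (μ has order the 2-part of q − 1) and let t be the block-diagonal matrix with m diagonal blocks [[0, 1], [μ, 0]] (so t² is the scalar μ and t is an involution modulo scalars). Then some non-zero scalar multiple of t has determinant one if and only if q ≡ 3 (mod 4) or the 2-part of q − 1 is less than the 2-part of 2m. -/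
theorem result {F : Type*} [Field F] [Fintype F] {q : ℕ} (hF : Fintype.card F = q) (hq : Odd q) {m : ℕ} (hm : 1 ≤ m) (μ : F) (hμ : orderOf μ = 2 ^ padicValNat 2 (q - 1)) : (∃ c : F, c ≠ 0 ∧ (c • Matrix.blockDiagonal (fun _ : Fin m => !![(0 : F), 1; μ, 0])).det = 1) ↔ (q % 4 = 3 ∨ padicValNat 2 (q - 1) < padicValNat 2 (2 * m)) := by
  classical
  subst hF
  have hdet : ∀ c : F, (c • Matrix.blockDiagonal (fun _ : Fin m => !![(0 : F), 1; μ, 0])).det = c ^ (2 * m) * (-μ) ^ m := by
    intro c
    rw [Matrix.det_smul, Matrix.det_blockDiagonal]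
    simp [Matrix.det_fin_two]
  have hne : (-1 : F) ≠ 1 := neg_one_ne_one_of_odd_card hq
  have hNpos : Fintype.card F - 1 ≠ 0 := by
    have := Fintype.one_lt_card (α := F)
    omega
  set b := padicValNat 2 (Fintype.card F - 1) with hb
  have hb1 : 1 ≤ b := by
    rw [hb, ← padicValNat_dvd_iff_le hNpos]
    rcases hq with ⟨k, hk⟩
    exact ⟨k, by omega⟩
  have hb2 : 2 ≤ b ↔ Fintype.card F % 4 = 1 := by
    rw [hb, ← padicValNat_dvd_iff_le hNpos]
    constructor
    · rintro ⟨k, hk⟩
      have := Fintype.one_lt_card (α := F)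
      omega
    · intro h
      exact ⟨Fintype.card F / 4, by omega⟩
  have hμ1 : μ ^ (2 ^ b) = 1 := by rw [← hμ]; exact pow_orderOf_eq_one μ
  have hμ2 : μ ^ (2 ^ (b - 1)) = -1 := by
    have h3 : (μ ^ (2 ^ (b - 1))) ^ 2 = 1 := by
      rw [← pow_mul, ← pow_succ, Nat.sub_add_cancel hb1, hμ1]
    have h4 : μ ^ (2 ^ (b - 1)) ≠ 1 := by
      apply pow_ne_one_of_lt_orderOf
      · positivity
      · rw [hμ]
        exact Nat.pow_lt_pow_right (by norm_num) (by omega)
    rcases sq_eq_one_iff.mp h3 with h | h
    · exact absurd h h4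
    · exact h
  have hval : padicValNat 2 (2 * m) = 1 + padicValNat 2 m := by
    rw [padicValNat.mul (by norm_num) (by omega), padicValNat_self]
  obtain ⟨m', hm', hmeq⟩ := two_pow_mul_odd m (by omega)
  set a := padicValNat 2 m with ha
  simp only [hdet]
  constructor
  · rintro ⟨c, hc0, hc⟩
    by_contra hcon
    rw [not_or, not_lt] at hcon
    obtain ⟨hq3, hle⟩ := hcon
    have hb2' : 2 ≤ b := by
      rw [hb2]
      rcases hq with ⟨k, hk⟩
      omega
    rw [hval] at hle
    obtain ⟨d, hd⟩ : ∃ d, b = a + 1 + d := ⟨b - (a + 1), by omega⟩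
    obtain ⟨N', hN', hNeq⟩ := two_pow_mul_odd (Fintype.card F - 1) hNpos
    rw [← hb] at hNeq
    have hν : (-μ) ^ (2 ^ (b - 1)) = -1 := by
      rw [neg_pow, hμ2]
      have : Even (2 ^ (b - 1)) := by
        obtain ⟨r, hr⟩ : ∃ r, b - 1 = r + 1 := ⟨b - 2, by omega⟩
        rw [hr, pow_succ]
        exact even_two.mul_left _
      rw [this.neg_one_pow, one_mul]
    have h1 := congrArg (fun z : F => z ^ (2 ^ d * N')) hc
    simp only [one_pow, mul_pow] at h1
    have e1 : 2 * m * (2 ^ d * N') = (Fintype.card F - 1) * m' := by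
      rw [hNeq, hd]
      conv_lhs => rw [hmeq]
      rw [pow_add, pow_add]
      ring
    have e2 : m * (2 ^ d * N') = 2 ^ (b - 1) * (m' * N') := by
      have : b - 1 = a + d := by omega
      rw [this]
      conv_lhs => rw [hmeq]
      rw [pow_add]
      ring
    rw [← pow_mul, ← pow_mul, e1, e2, pow_mul, FiniteField.pow_card_sub_one_eq_one c hc0, one_pow,
      pow_mul, hν, (hm'.mul hN').neg_one_pow] at h1
    apply hne
    linear_combination h1
  · rintro (h3 | hlt)
    · have hb' : b = 1 := by
        by_contra hcon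
        have : 2 ≤ b := by omega
        rw [hb2] at this
        omega
      have hμ' : μ = -1 := by
        rw [hb'] at hμ2
        simpa using hμ2
      refine ⟨1, one_ne_zero, ?_⟩
      rw [hμ']; simp
    · rw [hval] at hlt
      have hba : b ≤ a := by omega
      obtain ⟨t, ht⟩ : 2 ^ b ∣ m := dvd_trans (pow_dvd_pow 2 hba) pow_padicValNat_dvd
      have hev : Even m := by
        rw [ht]
        obtain ⟨r, hr⟩ : ∃ r, b = r + 1 := ⟨b - 1, by omega⟩
        rw [hr, pow_succ]
        exact (even_two.mul_left _).mul_right _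
      refine ⟨1, one_ne_zero, ?_⟩
      have h5 : μ ^ m = 1 := by
        rw [ht, pow_mul, hμ1, one_pow]
      rw [neg_pow, hev.neg_one_pow, h5]; simp

end Cfsg.Agent.S2576
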