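import Cfsg.Statements.S2578
import Cfsg.Agent.Lib.helper48.RegUnip

set_option autoImplicit false
open Cfsg

namespace Cfsg.Agent.S2578

open Cfsg.Agent.Lib.helper48 Cfsg.Agent.S2571

/-- the standard regular unipotent matrix -/
def U0mat (k : ℕ) (F : Type*) [Field F] : Matrix (Fin (k + 1)) (Fin (k + 1)) F :=
  1 + shiftN (k + 1) F

theorem U0mat_det (k : ℕ) (F : Type*) [Field F] : (U0mat k F).det = 1 := by
  have := det_smul_one_add_nilpotent (shiftN (k + 1) F) (shiftN_isNilpotent _ _) 1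
  rw [one_smul, one_pow] at this
  exact this

/-- the standard regular unipotent element of `SL` -/
def u0 (k : ℕ) (F : Type*) [Field F] : Matrix.SpecialLinearGroup (Fin (k + 1)) F :=
  ⟨U0mat k F, U0mat_det k F⟩

/-- the standard regular unipotent element of `GL` -/
def U0gl (k : ℕ) (F : Type*) [Field F] : GL (Fin (k + 1)) F :=
  Matrix.SpecialLinearGroup.toGL (u0 k F)

theorem U0gl_val (k : ℕ) (F : Type*) [Field F] :
    ((U0gl k F : GL (Fin (k + 1)) F) : Matrix (Fin (k + 1)) (Fin (k + 1)) F) = U0mat k F := rfl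

/-- regular unipotent matrices -/
def RU (k : ℕ) {F : Type*} [Field F] (M : Matrix (Fin (k + 1)) (Fin (k + 1)) F) : Prop :=
  (M - 1) ^ (k + 1) = 0 ∧ (M - 1).rank = k

theorem lemmaA {F : Type*} [Field F] (k : ℕ) (M : Matrix (Fin (k + 1)) (Fin (k + 1)) F)
    (hM : RU k M) : ∃ g : GL (Fin (k + 1)) F,
      (g : Matrix (Fin (k + 1)) (Fin (k + 1)) F) * U0mat k F
        = M * (g : Matrix (Fin (k + 1)) (Fin (k + 1)) F) := by
  obtain ⟨G, hG, hGN⟩ := exists_conj_shiftN k (M - 1) hM.1 hM.2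
  refine ⟨hG.unit, ?_⟩
  rw [IsUnit.unit_spec]
  unfold U0mat
  rw [mul_add, mul_one, hGN, sub_mul, one_mul]
  abel

theorem polyMap_det {F : Type*} [Field F] {k : ℕ} (N : Matrix (Fin (k + 1)) (Fin (k + 1)) F)
    (hnil : N ^ (k + 1) = 0) (a : Fin (k + 1) → F) : (polyMap N a).det = (a 0) ^ (k + 1) := by
  have hsplit : polyMap N a = a 0 • 1 + N * ∑ i : Fin k, a i.succ • N ^ (i : ℕ) := by
    rw [polyMap_apply, Fin.sum_univ_succ]
    simp only [Fin.val_zero, pow_zero, Fin.val_succ]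
    rw [Finset.mul_sum]
    congr 1
    refine Finset.sum_congr rfl (fun i _ => ?_)
    rw [Matrix.mul_smul, ← pow_succ']
  have hcomm : Commute N (∑ i : Fin k, a i.succ • N ^ (i : ℕ)) := by
    refine Commute.sum_right _ _ _ (fun i _ => ?_)
    exact (Commute.pow_right (Commute.refl N) _).smul_right _
  rw [hsplit]
  exact det_smul_one_add_nilpotent _ (Commute.isNilpotent_mul_right hcomm ⟨k + 1, hnil⟩) _

theorem lemmaB {F : Type*} [Field F] (k : ℕ) (z : GL (Fin (k + 1)) F)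
    (hz : (z : Matrix (Fin (k + 1)) (Fin (k + 1)) F) * U0mat k F
      = U0mat k F * (z : Matrix (Fin (k + 1)) (Fin (k + 1)) F)) :
    ∃ c : Fˣ, Matrix.GeneralLinearGroup.det z = c ^ (k + 1) := by
  have hzN : (z : Matrix (Fin (k + 1)) (Fin (k + 1)) F) * shiftN (k + 1) F
      = shiftN (k + 1) F * (z : Matrix (Fin (k + 1)) (Fin (k + 1)) F) := by
    unfold U0mat at hz
    rw [mul_add, add_mul, mul_one, one_mul] at hz
    exact add_left_cancel hz
  obtain ⟨hk, hinj, hsurj⟩ := regular_structure (by omega) (shiftN (k + 1) F)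
    (shiftN_pow_self _ _) (by rw [shiftN_rank]; simp)
  obtain ⟨a, ha⟩ := hsurj _ hzN
  have ha0 : a 0 ≠ 0 := (isUnit_polyMap_iff _ (shiftN_pow_self _ _) (by simpa using hk) a).1
    (by rw [ha]; exact z.isUnit)
  refine ⟨Units.mk0 (a 0) ha0, ?_⟩
  apply Units.ext
  show (z : Matrix (Fin (k + 1)) (Fin (k + 1)) F).det = _
  rw [← ha, polyMap_det _ (shiftN_pow_self _ _)]
  simp

theorem conj_eq_of {F : Type*} [Field F] (k : ℕ) (g uG : GL (Fin (k + 1)) F)
    (h : (g : Matrix (Fin (k + 1)) (Fin (k + 1)) F) * U0mat k F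
      = (uG : Matrix (Fin (k + 1)) (Fin (k + 1)) F) * (g : Matrix (Fin (k + 1)) (Fin (k + 1)) F)) :
    uG = g * U0gl k F * g⁻¹ := by
  have : g * U0gl k F = uG * g := Units.ext h
  rw [this]; group

theorem det_class_of_conj {F : Type*} [Field F] (k : ℕ)
    (u u' : Matrix.SpecialLinearGroup (Fin (k + 1)) F) (hc : IsConj u u')
    (g g' : GL (Fin (k + 1)) F)
    (hg : (g : Matrix (Fin (k + 1)) (Fin (k + 1)) F) * U0mat k F
      = (u : Matrix (Fin (k + 1)) (Fin (k + 1)) F) * (g : Matrix (Fin (k + 1)) (Fin (k + 1)) F))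
    (hg' : (g' : Matrix (Fin (k + 1)) (Fin (k + 1)) F) * U0mat k F
      = (u' : Matrix (Fin (k + 1)) (Fin (k + 1)) F) * (g' : Matrix (Fin (k + 1)) (Fin (k + 1)) F)) :
    ∃ c : Fˣ, (Matrix.GeneralLinearGroup.det g')⁻¹ * Matrix.GeneralLinearGroup.det g
      = c ^ (k + 1) := by
  obtain ⟨s, hs⟩ := isConj_iff.1 hc
  have e1 := conj_eq_of k g (Matrix.SpecialLinearGroup.toGL u) hg
  have e2 := conj_eq_of k g' (Matrix.SpecialLinearGroup.toGL u') hg'
  have e3 : Matrix.SpecialLinearGroup.toGL u' = Matrix.SpecialLinearGroup.toGL s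
      * Matrix.SpecialLinearGroup.toGL u * (Matrix.SpecialLinearGroup.toGL s)⁻¹ := by
    rw [← hs, map_mul, map_mul, map_inv]
  have h4 : g' * U0gl k F * g'⁻¹ = Matrix.SpecialLinearGroup.toGL s * (g * U0gl k F * g⁻¹)
      * (Matrix.SpecialLinearGroup.toGL s)⁻¹ := by rw [← e2, e3, e1]
  set z := g'⁻¹ * Matrix.SpecialLinearGroup.toGL s * g with hz
  have hzc : z * U0gl k F = U0gl k F * z := by
    calc z * U0gl k F = g'⁻¹ * (Matrix.SpecialLinearGroup.toGL s * (g * U0gl k F * g⁻¹)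
          * (Matrix.SpecialLinearGroup.toGL s)⁻¹) * g' * z := by rw [hz]; group
      _ = g'⁻¹ * (g' * U0gl k F * g'⁻¹) * g' * z := by rw [h4]
      _ = U0gl k F * z := by group
  obtain ⟨c, hc⟩ := lemmaB k z (congrArg Units.val hzc)
  refine ⟨c, ?_⟩
  rw [← hc, hz, map_mul, map_mul, map_inv, Matrix.SpecialLinearGroup.coeToGL_det, mul_one]

theorem conj_of_det_class {F : Type*} [Field F] (k : ℕ)
    (u u' : Matrix.SpecialLinearGroup (Fin (k + 1)) F)
    (g g' : GL (Fin (k + 1)) F)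
    (hg : (g : Matrix (Fin (k + 1)) (Fin (k + 1)) F) * U0mat k F
      = (u : Matrix (Fin (k + 1)) (Fin (k + 1)) F) * (g : Matrix (Fin (k + 1)) (Fin (k + 1)) F))
    (hg' : (g' : Matrix (Fin (k + 1)) (Fin (k + 1)) F) * U0mat k F
      = (u' : Matrix (Fin (k + 1)) (Fin (k + 1)) F) * (g' : Matrix (Fin (k + 1)) (Fin (k + 1)) F))
    (c : Fˣ) (hc : (Matrix.GeneralLinearGroup.det g')⁻¹ * Matrix.GeneralLinearGroup.det g
      = c ^ (k + 1)) : IsConj u u' := by
  have e1 := conj_eq_of k g (Matrix.SpecialLinearGroup.toGL u) hg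
  have e2 := conj_eq_of k g' (Matrix.SpecialLinearGroup.toGL u') hg'
  set zc := Matrix.GeneralLinearGroup.scalar (Fin (k + 1)) c with hzc
  set S : GL (Fin (k + 1)) F := g' * zc * g⁻¹ with hS
  have hdet : Matrix.GeneralLinearGroup.det S = 1 := by
    rw [hS, map_mul, map_mul, map_inv, hzc, Matrix.GeneralLinearGroup.det_scalar, Fintype.card_fin,
      ← hc, mul_inv_cancel_left, mul_inv_cancel]
  have hconj : S * Matrix.SpecialLinearGroup.toGL u * S⁻¹ = Matrix.SpecialLinearGroup.toGL u' := by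
    rw [e1, e2, hS]
    have hcomm : zc * U0gl k F = U0gl k F * zc :=
      Matrix.GeneralLinearGroup.scalar_commute c _
    calc g' * zc * g⁻¹ * (g * U0gl k F * g⁻¹) * (g' * zc * g⁻¹)⁻¹
        = g' * (zc * U0gl k F) * zc⁻¹ * g'⁻¹ := by group
      _ = g' * (U0gl k F * zc) * zc⁻¹ * g'⁻¹ := by rw [hcomm]
      _ = g' * U0gl k F * g'⁻¹ := by group
  let s : Matrix.SpecialLinearGroup (Fin (k + 1)) F :=
    ⟨(S : Matrix (Fin (k + 1)) (Fin (k + 1)) F), congrArg Units.val hdet⟩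
  have hsS : Matrix.SpecialLinearGroup.toGL s = S := Units.ext rfl
  rw [isConj_iff]
  refine ⟨s, ?_⟩
  apply Matrix.SpecialLinearGroup.toGL_injective
  rw [map_mul, map_mul, map_inv, hsS, hconj]


theorem main {F : Type*} [Field F] [Fintype F] (k : ℕ) :
    Nat.card {C : ConjClasses (Matrix.SpecialLinearGroup (Fin (k + 1)) F) //
      ∃ u : Matrix.SpecialLinearGroup (Fin (k + 1)) F, ConjClasses.mk u = C ∧
        RU k (u : Matrix (Fin (k + 1)) (Fin (k + 1)) F)}
      = Nat.gcd (k + 1) (Fintype.card F - 1) := by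
  classical
  set H : Subgroup Fˣ := (powMonoidHom (k + 1) : Fˣ →* Fˣ).range with hH
  have hcardQ : Nat.card (Fˣ ⧸ H) = Nat.gcd (k + 1) (Fintype.card F - 1) := by
    rw [← Subgroup.index_eq_card, hH, IsCyclic.index_powMonoidHom_range, Nat.card_eq_fintype_card,
      Fintype.card_units, Nat.gcd_comm]
  rw [← hcardQ]
  have hg : ∀ C : {C : ConjClasses (Matrix.SpecialLinearGroup (Fin (k + 1)) F) //
      ∃ u : Matrix.SpecialLinearGroup (Fin (k + 1)) F, ConjClasses.mk u = C ∧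
        RU k (u : Matrix (Fin (k + 1)) (Fin (k + 1)) F)},
      ∃ (u : Matrix.SpecialLinearGroup (Fin (k + 1)) F) (g : GL (Fin (k + 1)) F),
        ConjClasses.mk u = C.1 ∧
        (g : Matrix (Fin (k + 1)) (Fin (k + 1)) F) * U0mat k F
          = (u : Matrix (Fin (k + 1)) (Fin (k + 1)) F)
            * (g : Matrix (Fin (k + 1)) (Fin (k + 1)) F) := by
    rintro ⟨C, u, hu, hRU⟩
    obtain ⟨g, hg⟩ := lemmaA k _ hRU
    exact ⟨u, g, hu, hg⟩
  choose uC gC huC hgC using hg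
  refine Nat.card_congr (Equiv.ofBijective
    (fun C => (QuotientGroup.mk (Matrix.GeneralLinearGroup.det (gC C)) : Fˣ ⧸ H)) ⟨?_, ?_⟩)
  · intro C C' h
    have h' : (QuotientGroup.mk (Matrix.GeneralLinearGroup.det (gC C)) : Fˣ ⧸ H)
        = QuotientGroup.mk (Matrix.GeneralLinearGroup.det (gC C')) := h
    rw [QuotientGroup.eq] at h'
    obtain ⟨c, hc⟩ := h'
    have hc' : (Matrix.GeneralLinearGroup.det (gC C))⁻¹ * Matrix.GeneralLinearGroup.det (gC C')
        = c ^ (k + 1) := hc.symm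
    have hconj := conj_of_det_class k (uC C') (uC C) (gC C') (gC C) (hgC C') (hgC C) c hc'
    apply Subtype.ext
    rw [← huC C, ← huC C']
    exact (ConjClasses.mk_eq_mk_iff_isConj.2 hconj).symm
  · intro x
    obtain ⟨d, rfl⟩ := QuotientGroup.mk_surjective x
    obtain ⟨gd, hgd⟩ := Matrix.GeneralLinearGroup.det_surjective (n := Fin (k + 1)) (R := F) d
    set Ugl : GL (Fin (k + 1)) F := gd * U0gl k F * gd⁻¹ with hUgl
    have hUdet : (Ugl : Matrix (Fin (k + 1)) (Fin (k + 1)) F).det = 1 := by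
      have h1 : Matrix.GeneralLinearGroup.det Ugl = 1 := by
        rw [hUgl, map_mul, map_mul, map_inv, U0gl, Matrix.SpecialLinearGroup.coeToGL_det, mul_one,
          mul_inv_cancel]
      exact congrArg Units.val h1
    let u : Matrix.SpecialLinearGroup (Fin (k + 1)) F :=
      ⟨(Ugl : Matrix (Fin (k + 1)) (Fin (k + 1)) F), hUdet⟩
    have hgd' : (gd : Matrix (Fin (k + 1)) (Fin (k + 1)) F) * U0mat k F
        = (u : Matrix (Fin (k + 1)) (Fin (k + 1)) F)
          * (gd : Matrix (Fin (k + 1)) (Fin (k + 1)) F) := by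
      have h1 : gd * U0gl k F = Ugl * gd := by rw [hUgl]; group
      exact congrArg Units.val h1
    have hRU : RU k (u : Matrix (Fin (k + 1)) (Fin (k + 1)) F) := by
      have h1 : (u : Matrix (Fin (k + 1)) (Fin (k + 1)) F) - 1
          = (gd : Matrix (Fin (k + 1)) (Fin (k + 1)) F) * shiftN (k + 1) F
            * ((gd⁻¹ : GL (Fin (k + 1)) F) : Matrix (Fin (k + 1)) (Fin (k + 1)) F) := by
        show (Ugl : Matrix (Fin (k + 1)) (Fin (k + 1)) F) - 1 = _
        rw [hUgl, Units.val_mul, Units.val_mul, U0gl_val, U0mat, mul_add, add_mul, mul_one,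
          Units.mul_inv, add_sub_cancel_left]
      refine ⟨?_, ?_⟩
      · rw [h1, Units.conj_pow, shiftN_pow_self, mul_zero, zero_mul]
      · rw [h1, Matrix.rank_mul_eq_left_of_isUnit_det _ _
          ((Matrix.isUnit_iff_isUnit_det _).1 (gd⁻¹).isUnit),
          Matrix.rank_mul_eq_right_of_isUnit_det _ _
          ((Matrix.isUnit_iff_isUnit_det _).1 gd.isUnit), shiftN_rank]
    refine ⟨⟨ConjClasses.mk u, u, rfl, hRU⟩, ?_⟩
    have hconj : IsConj (uC ⟨ConjClasses.mk u, u, rfl, hRU⟩) u :=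
      ConjClasses.mk_eq_mk_iff_isConj.1 (huC ⟨ConjClasses.mk u, u, rfl, hRU⟩)
    obtain ⟨c, hc⟩ := det_class_of_conj k _ u hconj (gC ⟨ConjClasses.mk u, u, rfl, hRU⟩) gd
      (hgC _) hgd'
    show (QuotientGroup.mk (Matrix.GeneralLinearGroup.det (gC ⟨ConjClasses.mk u, u, rfl, hRU⟩)) :
      Fˣ ⧸ H) = QuotientGroup.mk d
    rw [QuotientGroup.eq]
    refine ⟨c⁻¹, ?_⟩
    show (c⁻¹) ^ (k + 1) = _
    rw [inv_pow, ← hc, hgd, mul_inv_rev, inv_inv]

/-- Regular unipotent classes of SL_n(q): for n ≥ 2 over the field with q elements, the matrices u of determinant one with (u − 1)^n = 0 and rank(u − 1) = n − 1 form a single GL_n(q)-class which splits into exactly gcd(n, q − 1) conjugacy classes of SL_n(q). -/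
theorem result {F : Type*} [Field F] [Fintype F] {q : ℕ} (hF : Fintype.card F = q) {n : ℕ} (hn : 2 ≤ n) : Nat.card {C : ConjClasses (Matrix.SpecialLinearGroup (Fin n) F) // ∃ u : Matrix.SpecialLinearGroup (Fin n) F, ConjClasses.mk u = C ∧ ((u : Matrix (Fin n) (Fin n) F) - 1) ^ n = 0 ∧ ((u : Matrix (Fin n) (Fin n) F) - 1).rank = n - 1} = Nat.gcd n (q - 1) := by
  obtain ⟨k, rfl⟩ : ∃ k, n = k + 1 := ⟨n - 1, by omega⟩
  subst hF
  simp only [Nat.add_sub_cancel]
  exact main k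

end Cfsg.Agent.S2578
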