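import Cfsg.Statements.S2582
import Cfsg.Agent.Lib.helper48.JordanType
import Cfsg.Agent.Lib.helper50.InvConj

set_option autoImplicit false
open Cfsg

namespace Cfsg.Agent.S2582

open Matrix Cfsg.Agent.Lib.helper48

section
variable {F : Type*} [Field F]

theorem J_alt (m : ℕ) (v : Fin m ⊕ Fin m → F) : v ⬝ᵥ Matrix.J (Fin m) F *ᵥ v = 0 := by
  have hv : v = Sum.elim (v ∘ Sum.inl) (v ∘ Sum.inr) := (Sum.elim_comp_inl_inr v).symm
  unfold Matrix.J
  rw [Matrix.fromBlocks_mulVec]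
  nth_rewrite 1 [hv]
  rw [sumElim_dotProduct_sumElim]
  simp only [Matrix.zero_mulVec, zero_add, add_zero, Matrix.neg_mulVec, Matrix.one_mulVec,
    dotProduct_neg]
  rw [dotProduct_comm (v ∘ Sum.inr)]
  exact neg_add_cancel _

theorem J_isUnit_det (m : ℕ) : IsUnit (Matrix.J (Fin m) F).det := by
  have : Matrix.J (Fin m) F * (-Matrix.J (Fin m) F) = 1 := by
    rw [mul_neg, Matrix.J_squared, neg_neg]
  exact (Matrix.isUnit_iff_isUnit_det _).1 (IsUnit.of_mul_eq_one _ this)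

/-- a symplectic matrix of every admissible Jordan type -/
theorem exists_symp_of_type [Fintype F] {m t : ℕ} (d : Fin t → ℕ) (hsum : ∑ k, d k = 2 * m)
    (h : ∀ j : ℕ, Odd j → Even (Finset.univ.filter (fun k : Fin t => d k = j)).card) :
    ∃ A : Matrix.symplecticGroup (Fin m) F, ∀ k,
      (((A : Matrix (Fin m ⊕ Fin m) (Fin m ⊕ Fin m) F) - 1) ^ k).rank = ∑ b, (d b - k) := by
  classical
  obtain ⟨Ω, A, h1, h2, -, h4, h5⟩ := (formReal_symp_of_type (F := F) d h).exists_index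
    (κ' := Fin m ⊕ Fin m) (by simp [hsum, two_mul])
  obtain ⟨B, hB, hBΩ⟩ := Cfsg.Agent.Lib.helper50.exists_frame_alt m Ω h1.ne_zero
    (fun x => by rw [Cfsg.Agent.Lib.helper50.gform_apply]; exact h2 rfl x)
  have hBu : IsUnit B.det := hB.isUnit
  have hBB : B * B⁻¹ = 1 := Matrix.mul_nonsing_inv _ hBu
  have hBB' : B⁻¹ * B = 1 := Matrix.nonsing_inv_mul _ hBu
  have hmem : B⁻¹ * A * B ∈ Matrix.symplecticGroup (Fin m) F := by
    rw [SymplecticGroup.mem_iff', ← hBΩ]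
    have e1 : (B⁻¹ * A * B)ᵀ = Bᵀ * Aᵀ * (B⁻¹)ᵀ := by
      rw [Matrix.transpose_mul, Matrix.transpose_mul, mul_assoc]
    have e2 : (B⁻¹)ᵀ * Bᵀ = 1 := by rw [← Matrix.transpose_mul, hBB, Matrix.transpose_one]
    calc (B⁻¹ * A * B)ᵀ * (Bᵀ * Ω * B) * (B⁻¹ * A * B)
        = Bᵀ * Aᵀ * ((B⁻¹)ᵀ * Bᵀ) * Ω * (B * B⁻¹) * A * B := by
          rw [e1]; simp only [mul_assoc]
      _ = Bᵀ * (Aᵀ * Ω * A) * B := by
          rw [e2, hBB]; simp only [mul_assoc, mul_one, one_mul]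
      _ = Bᵀ * Ω * B := by rw [h4]
  refine ⟨⟨B⁻¹ * A * B, hmem⟩, fun k => ?_⟩
  rw [← h5 k]
  exact rank_pow_eq_of_conj (B⁻¹ * A * B) A B ((Matrix.isUnit_iff_isUnit_det _).2 hBu)
    (by rw [← mul_assoc, ← mul_assoc, hBB, one_mul]) k

end

/-- Which unipotent Jordan types occur in the finite symplectic group: over a finite field, a unipotent matrix with Jordan block sizes d_1, …, d_t (sum 2m, all at least 1) is similar to an element of Sp_2m(F) if and only if every odd block size occurs an even number of times. -/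
theorem result {F : Type*} [Field F] [Fintype F] {m t : ℕ} (d : Fin t → ℕ) (hd : ∀ k, 1 ≤ d k) (hsum : ∑ k, d k = 2 * m) : (∃ e : ((k : Fin t) × Fin (d k)) ≃ (Fin m ⊕ Fin m), ∃ A : Matrix.symplecticGroup (Fin m) F, IsConj (Matrix.reindex e e (Cfsg.jordanTypeMatrix d F)) (A : Matrix (Fin m ⊕ Fin m) (Fin m ⊕ Fin m) F)) ↔ ∀ j : ℕ, Odd j → Even (Finset.univ.filter (fun k : Fin t => d k = j)).card := by
  classical
  constructor
  · rintro ⟨e, A, hconj⟩ j hj
    exact parity_of_alt d e (Matrix.J (Fin m) F) (A : Matrix (Fin m ⊕ Fin m) (Fin m ⊕ Fin m) F)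
      (J_isUnit_det m) (J_alt m) (SymplecticGroup.mem_iff'.1 A.2) hconj j hj
  · intro h
    obtain ⟨A, hA⟩ := exists_symp_of_type (F := F) d hsum h
    have hcard : Fintype.card ((k : Fin t) × Fin (d k)) = Fintype.card (Fin m ⊕ Fin m) := by
      simp [hsum, two_mul]
    exact ⟨Fintype.equivOfCardEq hcard, A, isConj_jordanType_of_profile d _ _ hA⟩

end Cfsg.Agent.S2582
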