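import Cfsg.Statements.S2583
import Cfsg.Agent.Lib.helper48.JordanType

set_option autoImplicit false
open Cfsg

namespace Cfsg.Agent.S2583

open Matrix Cfsg.Agent.Lib.helper48

section
variable {F : Type*} [Field F]

/-- a quadratic form with a unipotent isometry of every admissible Jordan type -/
theorem exists_orth_of_type (h2 : (2 : F) ≠ 0) {n t : ℕ} (d : Fin t → ℕ) (hsum : ∑ k, d k = n)
    (h : ∀ j : ℕ, Even j → 0 < j → Even (Finset.univ.filter (fun k : Fin t => d k = j)).card) :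
    ∃ (Q : QuadraticForm F (Fin n → F)) (A : Matrix (Fin n) (Fin n) F),
      (QuadraticMap.polarBilin Q).Nondegenerate ∧ IsUnit A.det ∧ (∀ v, Q (A *ᵥ v) = Q v) ∧
      ∀ k, ((A - 1) ^ k).rank = ∑ b, (d b - k) := by
  classical
  obtain ⟨Ω, A, h1, -, h3, h4, h5⟩ := (formReal_orth_of_type (F := F) h2 d h).exists_index
    (κ' := Fin n) (by simp [hsum])
  have hsym : Ωᵀ = Ω := h3 rfl
  have hQ : ∀ v : Fin n → F,
      LinearMap.BilinMap.toQuadraticMap (Matrix.toBilin' Ω) v = v ⬝ᵥ Ω *ᵥ v := by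
    intro v
    rw [LinearMap.BilinMap.toQuadraticMap_apply, Matrix.toBilin'_apply']
  have hswap : ∀ x y : Fin n → F, y ⬝ᵥ Ω *ᵥ x = x ⬝ᵥ Ω *ᵥ y := by
    intro x y
    rw [Matrix.dotProduct_mulVec, ← Matrix.mulVec_transpose, hsym, dotProduct_comm]
  have hpol : QuadraticMap.polarBilin (LinearMap.BilinMap.toQuadraticMap (Matrix.toBilin' Ω))
      = Matrix.toBilin' ((2 : F) • Ω) := by
    apply LinearMap.ext₂
    intro x y
    rw [Matrix.toBilin'_apply']
    show QuadraticMap.polar _ x y = _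
    unfold QuadraticMap.polar
    rw [hQ, hQ, hQ, Matrix.mulVec_add, add_dotProduct, dotProduct_add, dotProduct_add, hswap x y,
      Matrix.smul_mulVec, dotProduct_smul, smul_eq_mul]
    ring
  refine ⟨LinearMap.BilinMap.toQuadraticMap (Matrix.toBilin' Ω), A, ?_,
    isUnit_det_of_preserve Ω A h1 h4, ?_, h5⟩
  · rw [hpol]
    apply LinearMap.BilinForm.nondegenerate_toBilin'_iff_det_ne_zero.2
    rw [Matrix.det_smul]
    exact mul_ne_zero (pow_ne_zero _ h2) h1.ne_zero
  · intro v
    rw [hQ, hQ]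
    calc (A *ᵥ v) ⬝ᵥ Ω *ᵥ (A *ᵥ v) = v ⬝ᵥ (Aᵀ * Ω * A) *ᵥ v := by
          rw [← Matrix.mulVec_mulVec, ← Matrix.mulVec_mulVec, Matrix.dotProduct_mulVec v,
            Matrix.vecMul_transpose]
      _ = v ⬝ᵥ Ω *ᵥ v := by rw [h4]

end

/-- Which unipotent Jordan types occur in a finite orthogonal group in odd characteristic: over a finite field of odd order, a unipotent matrix with Jordan block sizes d_1, …, d_t (sum n, all at least 1) is similar to an isometry of some quadratic form on F^n with non-degenerate polar form if and only if every even block size occurs an even number of times. -/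
theorem result {F : Type*} [Field F] [Fintype F] (h2 : (2 : F) ≠ 0) {n t : ℕ} (d : Fin t → ℕ) (hd : ∀ k, 1 ≤ d k) (hsum : ∑ k, d k = n) : (∃ Q : QuadraticForm F (Fin n → F), (QuadraticMap.polarBilin Q).Nondegenerate ∧ ∃ e : ((k : Fin t) × Fin (d k)) ≃ Fin n, ∃ A : ↥(Cfsg.isometryGroup F ⇑Q), IsConj (Matrix.reindex e e (Cfsg.jordanTypeMatrix d F)) ((A : Matrix.GeneralLinearGroup (Fin n) F) : Matrix (Fin n) (Fin n) F)) ↔ ∀ j : ℕ, Even j → 0 < j → Even (Finset.univ.filter (fun k : Fin t => d k = j)).card := by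
  classical
  constructor
  · rintro ⟨Q, hQ, e, A, hconj⟩ j hj hj0
    have hiso : ∀ v, Q (((A : Matrix.GeneralLinearGroup (Fin n) F) : Matrix (Fin n) (Fin n) F) *ᵥ v)
        = Q v := fun v => A.2 v v
    obtain ⟨p1, p2, p3, -⟩ := polar_matrix_props Q hQ _ hiso
    exact parity_of_symm h2 d e _ _ p1 p2 p3 hconj j hj hj0
  · intro h
    obtain ⟨Q, A, hQ, hAdet, hiso, hprof⟩ := exists_orth_of_type h2 d hsum h
    have hcard : Fintype.card ((k : Fin t) × Fin (d k)) = Fintype.card (Fin n) := by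
      simp [hsum]
    let g : Matrix.GeneralLinearGroup (Fin n) F :=
      ⟨A, A⁻¹, Matrix.mul_nonsing_inv A hAdet, Matrix.nonsing_inv_mul A hAdet⟩
    have hg : g ∈ Cfsg.isometryGroup F ⇑Q := by
      intro u v
      exact hiso u
    exact ⟨Q, hQ, Fintype.equivOfCardEq hcard, ⟨g, hg⟩,
      isConj_jordanType_of_profile d _ A hprof⟩

end Cfsg.Agent.S2583
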