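import Cfsg.Statements.S2585

set_option autoImplicit false
open Cfsg

namespace Cfsg.Agent.S2585

open Matrix

/-- the bilinear form `Σ u(inl i) v(inr i)` -/
noncomputable def B0 (m : ℕ) (F : Type*) [Field F] : LinearMap.BilinForm F (Fin m ⊕ Fin m → F) :=
  Matrix.toBilin' (Matrix.fromBlocks 0 1 0 0 : Matrix (Fin m ⊕ Fin m) (Fin m ⊕ Fin m) F)

theorem B0_apply (m : ℕ) (F : Type*) [Field F] (u v : Fin m ⊕ Fin m → F) :
    B0 m F u v = ∑ i, u (Sum.inl i) * v (Sum.inr i) := by
  simp [B0, Matrix.toBilin'_apply, Fintype.sum_sum_type, Matrix.fromBlocks, Matrix.one_apply]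

theorem sympForm_apply (m : ℕ) (F : Type*) [Field F] (u v : Fin m ⊕ Fin m → F) :
    Cfsg.sympForm m F u v = ∑ i, (u (Sum.inr i) * v (Sum.inl i) - u (Sum.inl i) * v (Sum.inr i)) := by
  simp [Cfsg.sympForm, Matrix.J, dotProduct, Matrix.mulVec, Fintype.sum_sum_type, Matrix.fromBlocks, Matrix.one_apply, Finset.sum_sub_distrib]
  ring

theorem sympForm_eq (m : ℕ) (F : Type*) [Field F] [CharP F 2] (u v : Fin m ⊕ Fin m → F) :
    Cfsg.sympForm m F u v = B0 m F u v + B0 m F v u := by
  rw [sympForm_apply, B0_apply, B0_apply, ← Finset.sum_add_distrib]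
  refine Finset.sum_congr rfl fun i _ => ?_
  rw [sub_eq_add_neg, CharTwo.neg_eq]
  ring

/-- Over a finite field of characteristic two every element of the symplectic group is orthogonal for a suitable quadratic form: for each A in Sp_2m(F) there is a quadratic form Q on F^(2m) whose polar form is the alternating form defining Sp_2m(F) (so Q is non-degenerate) and which A preserves. Equivalently, for m ≥ 1, Sp_2m(F) is the union of the conjugates of its two orthogonal subgroups O⁺_2m(F) and O⁻_2m(F). -/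
theorem result {F : Type*} [Field F] [Fintype F] [CharP F 2] {m : ℕ} (A : Matrix.symplecticGroup (Fin m) F) : ∃ Q : QuadraticForm F (Fin m ⊕ Fin m → F), (∀ u v : Fin m ⊕ Fin m → F, QuadraticMap.polar ⇑Q u v = Cfsg.sympForm m F u v) ∧ ∀ v : Fin m ⊕ Fin m → F, Q ((A : Matrix (Fin m ⊕ Fin m) (Fin m ⊕ Fin m) F).mulVec v) = Q v := by
  classical
  set U : Matrix (Fin m ⊕ Fin m) (Fin m ⊕ Fin m) F := (A : Matrix (Fin m ⊕ Fin m) (Fin m ⊕ Fin m) F) with hU
  have h2 : ∀ a : F, a + a = 0 := fun a => CharTwo.add_self_eq_zero a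
  have hUJ : U.transpose * Matrix.J (Fin m) F * U = Matrix.J (Fin m) F :=
    SymplecticGroup.mem_iff'.1 A.2
  have hB : ∀ v w, Cfsg.sympForm m F (U.mulVec v) (U.mulVec w) = Cfsg.sympForm m F v w := by
    intro v w
    unfold Cfsg.sympForm
    rw [← Matrix.vecMul_transpose U v, ← Matrix.dotProduct_mulVec, Matrix.mulVec_mulVec,
      Matrix.mulVec_mulVec, hUJ]
  -- the defect
  set D : (Fin m ⊕ Fin m → F) → F := fun v => B0 m F (U.mulVec v) (U.mulVec v) + B0 m F v v with hD
  have hDadd : ∀ u v, D (u + v) = D u + D v := by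
    intro u v
    have h1 := hB u v
    rw [sympForm_eq, sympForm_eq] at h1
    simp only [hD, Matrix.mulVec_add, map_add, LinearMap.add_apply]
    linear_combination h1 + h2 (B0 m F u v) + h2 ((B0 m F v) u)
  have hDsmul : ∀ (c : F) v, D (c • v) = c ^ 2 * D v := by
    intro c v
    simp only [hD, Matrix.mulVec_smul, map_smul, LinearMap.smul_apply, smul_eq_mul]
    ring
  -- square root
  let sq : F ≃+* F := (frobeniusEquiv F 2).symm
  have hsq : ∀ a : F, sq a ^ 2 = a := fun a => frobeniusEquiv_symm_pow_p F 2 a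
  have hsq' : ∀ a : F, sq (a ^ 2) = a := fun a => frobeniusEquiv_symm_pow F 2 a
  let lam : (Fin m ⊕ Fin m → F) →ₗ[F] F :=
    { toFun := fun v => sq (D v)
      map_add' := by
        intro u v
        show sq (D (u + v)) = sq (D u) + sq (D v)
        rw [hDadd, map_add]
      map_smul' := by
        intro c v
        show sq (D (c • v)) = c • sq (D v)
        rw [hDsmul, map_mul, hsq', smul_eq_mul] }
  have hlam : ∀ v, lam v ^ 2 = D v := fun v => hsq _
  set T : (Fin m ⊕ Fin m → F) →ₗ[F] (Fin m ⊕ Fin m → F) := Matrix.toLin' U + LinearMap.id with hT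
  have hker : lam ∈ (LinearMap.ker T).dualAnnihilator := by
    rw [Submodule.mem_dualAnnihilator]
    intro v hv
    have h1 : U.mulVec v + v = 0 := by simpa [hT] using hv
    have h3 : U.mulVec v = v := by
      have : U.mulVec v = (U.mulVec v + v) + v := by
        rw [add_assoc]
        have : v + v = 0 := by ext i; exact h2 _
        rw [this, add_zero]
      rw [this, h1, zero_add]
    show sq (D v) = 0
    have : D v = 0 := by
      simp only [hD]
      rw [h3]; exact h2 _
    rw [this, map_zero]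
  rw [← LinearMap.range_dualMap_eq_dualAnnihilator_ker] at hker
  obtain ⟨mu, hmu⟩ := hker
  have hmu' : ∀ v, mu (U.mulVec v) + mu v = lam v := by
    intro v
    have := congrArg (fun g : Module.Dual F (Fin m ⊕ Fin m → F) => g v) hmu
    simpa [hT] using this
  refine ⟨(B0 m F + LinearMap.BilinForm.linMulLin mu mu).toQuadraticMap, ?_, ?_⟩
  · intro u v
    rw [sympForm_eq]
    simp only [QuadraticMap.polar, LinearMap.BilinMap.toQuadraticMap_apply, LinearMap.add_apply,
      LinearMap.BilinForm.linMulLin_apply, map_add]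
    linear_combination h2 (mu u * mu v)
  · intro v
    simp only [LinearMap.BilinMap.toQuadraticMap_apply, LinearMap.add_apply,
      LinearMap.BilinForm.linMulLin_apply]
    have h1 := hlam v
    rw [← hmu' v] at h1
    simp only [hD] at h1
    linear_combination (-1 : F) * h1 + h2 (mu (U.mulVec v) * mu (U.mulVec v)) - h2 (B0 m F v v) + h2 (mu (U.mulVec v) * mu v)

end Cfsg.Agent.S2585
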