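import Cfsg.Statements.S2584
import Cfsg.Agent.S2582
import Cfsg.Agent.S2585

set_option autoImplicit false
open Cfsg

namespace Cfsg.Agent.S2584

open Matrix Cfsg.Agent.Lib.helper48

/-- Which unipotent Jordan types occur in a finite orthogonal group in characteristic two: over a finite field of characteristic 2 and in even dimension 2m, a unipotent matrix with Jordan block sizes d_1, …, d_t (sum 2m, all at least 1) is similar to an isometry of some quadratic form on F^(2m) with non-degenerate polar form if and only if every odd block size occurs an even number of times (the same condition as for the symplectic group, which contains these orthogonal groups). -/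
theorem result {F : Type*} [Field F] [Fintype F] [CharP F 2] {m t : ℕ} (d : Fin t → ℕ) (hd : ∀ k, 1 ≤ d k) (hsum : ∑ k, d k = 2 * m) : (∃ Q : QuadraticForm F (Fin (2 * m) → F), (QuadraticMap.polarBilin Q).Nondegenerate ∧ ∃ e : ((k : Fin t) × Fin (d k)) ≃ Fin (2 * m), ∃ A : ↥(Cfsg.isometryGroup F ⇑Q), IsConj (Matrix.reindex e e (Cfsg.jordanTypeMatrix d F)) ((A : Matrix.GeneralLinearGroup (Fin (2 * m)) F) : Matrix (Fin (2 * m)) (Fin (2 * m)) F)) ↔ ∀ j : ℕ, Odd j → Even (Finset.univ.filter (fun k : Fin t => d k = j)).card := by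
  classical
  constructor
  · rintro ⟨Q, hQ, e, A, hconj⟩ j hj
    have hiso : ∀ v, Q (((A : Matrix.GeneralLinearGroup (Fin (2 * m)) F) :
        Matrix (Fin (2 * m)) (Fin (2 * m)) F) *ᵥ v) = Q v := fun v => A.2 v v
    obtain ⟨p1, -, p3, p4⟩ := polar_matrix_props Q hQ _ hiso
    refine parity_of_alt d e _ _ p1 (fun v => ?_) p3 hconj j hj
    rw [p4, QuadraticMap.polar_self, two_smul]
    exact CharTwo.add_self_eq_zero _
  · intro h
    obtain ⟨A, hA⟩ := Cfsg.Agent.S2582.exists_symp_of_type (F := F) d hsum h
    obtain ⟨Q₁, hpol, hpres⟩ := Cfsg.Agent.S2585.result A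
    let ε : Fin m ⊕ Fin m ≃ Fin (2 * m) := finSumFinEquiv.trans (finCongr (two_mul m).symm)
    let L : (Fin (2 * m) → F) ≃ₗ[F] (Fin m ⊕ Fin m → F) := LinearEquiv.funCongrLeft F F ε
    have hL : ∀ v : Fin (2 * m) → F, L v = v ∘ ε := fun v => rfl
    set Q : QuadraticForm F (Fin (2 * m) → F) :=
      Q₁.comp (L : (Fin (2 * m) → F) →ₗ[F] (Fin m ⊕ Fin m → F)) with hQdef
    have hQ : ∀ v, Q v = Q₁ (L v) := fun v => rfl
    have hpolQ : ∀ x y, QuadraticMap.polarBilin Q x y = Cfsg.sympForm m F (L x) (L y) := by
      intro x y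
      show QuadraticMap.polar Q x y = _
      rw [← hpol]
      unfold QuadraticMap.polar
      rw [hQ, hQ, hQ, map_add]
    have hJ : (Matrix.J (Fin m) F).det ≠ 0 := (Cfsg.Agent.S2582.J_isUnit_det m).ne_zero
    have hnd : (QuadraticMap.polarBilin Q).Nondegenerate := by
      constructor
      · intro x hx
        have h1 : ∀ w : Fin m ⊕ Fin m → F, (L x) ⬝ᵥ (Matrix.J (Fin m) F *ᵥ w) = 0 := by
          intro w
          have := hx (L.symm w)
          rw [hpolQ, LinearEquiv.apply_symm_apply] at this
          exact this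
        have h2 : (L x) ᵥ* Matrix.J (Fin m) F = 0 := by
          apply dotProduct_eq_zero
          intro w
          rw [← Matrix.dotProduct_mulVec]
          exact h1 w
        have h3 := Matrix.eq_zero_of_vecMul_eq_zero hJ h2
        exact L.map_eq_zero_iff.1 h3
      · intro y hy
        have h1 : ∀ w : Fin m ⊕ Fin m → F, w ⬝ᵥ (Matrix.J (Fin m) F *ᵥ (L y)) = 0 := by
          intro w
          have := hy (L.symm w)
          rw [hpolQ, LinearEquiv.apply_symm_apply] at this
          exact this
        have h2 : Matrix.J (Fin m) F *ᵥ (L y) = 0 := by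
          apply dotProduct_eq_zero
          intro w
          rw [dotProduct_comm]
          exact h1 w
        have h3 := Matrix.eq_zero_of_mulVec_eq_zero hJ h2
        exact L.map_eq_zero_iff.1 h3
    set A' : Matrix (Fin (2 * m)) (Fin (2 * m)) F :=
      Matrix.reindex ε ε (A : Matrix (Fin m ⊕ Fin m) (Fin m ⊕ Fin m) F) with hA'
    have hAdet : IsUnit A'.det := by
      rw [hA', Matrix.det_reindex_self]
      exact SymplecticGroup.symplectic_det A.2
    have hiso : ∀ v, Q (A' *ᵥ v) = Q v := by
      intro v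
      rw [hQ, hQ, ← hpres (L v)]
      congr 1
      rw [hL, hL, hA', Matrix.reindex_apply, Matrix.submatrix_mulVec_equiv]
      funext i
      simp
    have hprof : ∀ k, ((A' - 1) ^ k).rank = ∑ b, (d b - k) := by
      intro k
      rw [hA', rank_reindex_sub_one_pow, hA]
    have hcard : Fintype.card ((k : Fin t) × Fin (d k)) = Fintype.card (Fin (2 * m)) := by
      simp [hsum]
    let g : Matrix.GeneralLinearGroup (Fin (2 * m)) F :=
      ⟨A', A'⁻¹, Matrix.mul_nonsing_inv A' hAdet, Matrix.nonsing_inv_mul A' hAdet⟩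
    have hg : g ∈ Cfsg.isometryGroup F ⇑Q := by
      intro u v
      exact hiso u
    exact ⟨Q, hnd, Fintype.equivOfCardEq hcard, ⟨g, hg⟩,
      isConj_jordanType_of_profile d _ A' hprof⟩

end Cfsg.Agent.S2584
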