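import Cfsg.Statements.S2586
import Cfsg.Agent.Lib.helper48.ConjTranspose

set_option autoImplicit false
open Cfsg

namespace Cfsg.Agent.S2586

open Cfsg.Agent.Lib.helper48

/-- Over a finite field, every element of the symplectic group Sp_2m(F) is conjugate by an invertible matrix to its inverse. -/
theorem result {F : Type*} [Field F] [Finite F] {m : ℕ} (A : Matrix.symplecticGroup (Fin m) F) : IsConj (A : Matrix (Fin m ⊕ Fin m) (Fin m ⊕ Fin m) F) ((A⁻¹ : Matrix.symplecticGroup (Fin m) F) : Matrix (Fin m ⊕ Fin m) (Fin m ⊕ Fin m) F) := by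
  have h1 : IsConj (A : Matrix (Fin m ⊕ Fin m) (Fin m ⊕ Fin m) F)
      (A : Matrix (Fin m ⊕ Fin m) (Fin m ⊕ Fin m) F).transpose := conj_transpose _
  refine h1.trans ?_
  rw [SymplecticGroup.coe_inv]
  have hJ1 : (-Matrix.J (Fin m) F) * Matrix.J (Fin m) F = 1 := by
    rw [neg_mul, Matrix.J_squared, neg_neg]
  have hJ2 : Matrix.J (Fin m) F * (-Matrix.J (Fin m) F) = 1 := by
    rw [mul_neg, Matrix.J_squared, neg_neg]
  let c : (Matrix (Fin m ⊕ Fin m) (Fin m ⊕ Fin m) F)ˣ :=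
    ⟨-Matrix.J (Fin m) F, Matrix.J (Fin m) F, hJ1, hJ2⟩
  refine ⟨c, ?_⟩
  show (-Matrix.J (Fin m) F) * (A : Matrix (Fin m ⊕ Fin m) (Fin m ⊕ Fin m) F).transpose
    = (-Matrix.J (Fin m) F) * (A : Matrix (Fin m ⊕ Fin m) (Fin m ⊕ Fin m) F).transpose
      * Matrix.J (Fin m) F * (-Matrix.J (Fin m) F)
  rw [mul_assoc _ (Matrix.J (Fin m) F), hJ2, mul_one]

end Cfsg.Agent.S2586
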