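import Cfsg.Statements.S2589
import Cfsg.Agent.Lib.helper48.IsomConj
import Cfsg.Agent.Lib.helper17.SympBasis
import Cfsg.Agent.Lib.helper50.SymForm2

set_option autoImplicit false
open Cfsg

namespace Cfsg.Agent.S2589

open Cfsg.Agent.Lib.helper48 Cfsg.Agent.Lib.helper17

section aux

universe u
variable {F : Type u} [Field F]

theorem range_fix {κ : Type*} [Fintype κ] [DecidableEq κ] (E : Matrix κ κ F) (hE : E * E = E)
    (u : κ → F) (hu : u ∈ LinearMap.range (Matrix.toLin' E)) : E.mulVec u = u := by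
  obtain ⟨w, rfl⟩ := hu
  rw [Matrix.toLin'_apply, Matrix.mulVec_mulVec, hE]

theorem symp_dot (m : ℕ) (Z : Matrix (Fin m ⊕ Fin m) (Fin m ⊕ Fin m) F)
    (u v : Fin m ⊕ Fin m → F) :
    sympForm m F (Z.mulVec u) (Z.mulVec v)
      = u ⬝ᵥ (Z.transpose * Matrix.J (Fin m) F * Z).mulVec v := by
  unfold sympForm
  rw [← Matrix.mulVec_mulVec, ← Matrix.mulVec_mulVec, Matrix.dotProduct_mulVec u,
    Matrix.vecMul_transpose]

theorem nondeg_range (m : ℕ) (E : Matrix (Fin m ⊕ Fin m) (Fin m ⊕ Fin m) F) (hE : E * E = E)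
    (hT : E.transpose * Matrix.J (Fin m) F = Matrix.J (Fin m) F * E) :
    ∀ u ∈ LinearMap.range (Matrix.toLin' E),
      (∀ v ∈ LinearMap.range (Matrix.toLin' E), sympForm m F u v = 0) → u = 0 := by
  intro u hu h
  have hfix := range_fix E hE u hu
  have hall : ∀ v, sympForm m F u v = 0 := by
    intro v
    have h1 : sympForm m F u v = sympForm m F u (E.mulVec v) := by
      conv_lhs => rw [← hfix]
      unfold sympForm
      rw [← Matrix.vecMul_transpose E u, ← Matrix.dotProduct_mulVec, Matrix.mulVec_mulVec, hT,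
        ← Matrix.mulVec_mulVec]
    rw [h1]
    exact h _ ⟨v, Matrix.toLin'_apply E v⟩
  exact (sympBilin_nondegenerate m).1 u (fun v => by rw [sympBilin_apply]; exact hall v)

theorem J_mul_neg (m : ℕ) : Matrix.J (Fin m) F * (-Matrix.J (Fin m) F) = 1 := by
  rw [Matrix.mul_neg, Matrix.J_squared, neg_neg]

theorem neg_J_mul (m : ℕ) : (-Matrix.J (Fin m) F) * Matrix.J (Fin m) F = 1 := by
  rw [Matrix.neg_mul, Matrix.J_squared, neg_neg]

theorem J_transpose' (m : ℕ) : (Matrix.J (Fin m) F).transpose = (-1 : F) • Matrix.J (Fin m) F := by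
  rw [Matrix.J_transpose, neg_one_smul]

/-- two self-adjoint idempotents conjugate in `GL` are conjugate in `Sp` -/
theorem sp_conj_idem (m : ℕ) (Ea Eb P : Matrix (Fin m ⊕ Fin m) (Fin m ⊕ Fin m) F)
    (hEa : Ea * Ea = Ea) (hEb : Eb * Eb = Eb)
    (hTa : Ea.transpose * Matrix.J (Fin m) F = Matrix.J (Fin m) F * Ea)
    (hTb : Eb.transpose * Matrix.J (Fin m) F = Matrix.J (Fin m) F * Eb)
    (hP : IsUnit P) (hPE : P * Ea = Eb * P) :
    ∃ h : Matrix.symplecticGroup (Fin m) F, h.1 * Ea = Eb * h.1 := by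
  classical
  obtain ⟨Wa, hWa⟩ : ∃ Wa, Wa = LinearMap.range (Matrix.toLin' Ea) := ⟨_, rfl⟩
  obtain ⟨Wb, hWb⟩ : ∃ Wb, Wb = LinearMap.range (Matrix.toLin' Eb) := ⟨_, rfl⟩
  have hrank : Module.finrank F Wa = Module.finrank F Wb := by
    obtain ⟨Pi, hPi⟩ := hP.exists_right_inv
    have hPdet : IsUnit P.det := (Matrix.isUnit_iff_isUnit_det P).mp hP
    have hPidet : IsUnit Pi.det :=
      (Matrix.isUnit_iff_isUnit_det Pi).mp (IsUnit.of_mul_eq_one _ (mul_eq_one_comm.mp hPi))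
    have hEb' : Eb = P * Ea * Pi := by
      rw [hPE, Matrix.mul_assoc, hPi, Matrix.mul_one]
    have h1 : Ea.rank = Eb.rank := by
      rw [hEb', Matrix.rank_mul_eq_left_of_isUnit_det Pi _ hPidet,
        Matrix.rank_mul_eq_right_of_isUnit_det P _ hPdet]
    rw [hWa, hWb, Matrix.toLin'_apply', Matrix.toLin'_apply']
    exact h1
  have hnda := nondeg_range m Ea hEa hTa
  have hndb := nondeg_range m Eb hEb hTb
  rw [← hWa] at hnda
  rw [← hWb] at hndb
  have heven : Even (Module.finrank F Wa) :=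
    Cfsg.Agent.Lib.helper50.even_finrank_of_alt_nondeg (F := F) _ Wa
      ((sympBilin m (F := F)).domRestrict₁₂ Wa Wa)
      (fun v => by rw [LinearMap.domRestrict₁₂_apply]; exact sympBilin_alt _ _)
      (fun v hv => Subtype.ext (hnda v.1 v.2 (fun w hw => by
        have := hv ⟨w, hw⟩
        rwa [LinearMap.domRestrict₁₂_apply] at this))) rfl
  obtain ⟨k, hk⟩ := heven
  have hkm : k ≤ m := by
    have := Submodule.finrank_le Wa
    rw [Module.finrank_fintype_fun_eq_card, Fintype.card_sum, Fintype.card_fin] at this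
    omega
  obtain ⟨d, rfl⟩ : ∃ d, m = k + d := ⟨m - k, by omega⟩
  obtain ⟨ga, hga⟩ := exists_sp_map_stdSub k d Wa (by rw [hk]; ring) hnda
  obtain ⟨gb, hgb⟩ := exists_sp_map_stdSub k d Wb (by rw [← hrank, hk]; ring) hndb
  have key : ∀ (g₁ g₂ : Matrix.symplecticGroup (Fin (k + d)) F)
      (E₁ E₂ : Matrix (Fin (k + d) ⊕ Fin (k + d)) (Fin (k + d) ⊕ Fin (k + d)) F),
      E₂ * E₂ = E₂ →
      (∀ u, u ∈ stdSub F (k + d) k ↔ g₁.1.mulVec u ∈ LinearMap.range (Matrix.toLin' E₁)) →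
      (∀ u, u ∈ stdSub F (k + d) k ↔ g₂.1.mulVec u ∈ LinearMap.range (Matrix.toLin' E₂)) →
      E₂ * ((g₂ * g₁⁻¹).1 * E₁) = (g₂ * g₁⁻¹).1 * E₁ := by
    intro g₁ g₂ E₁ E₂ hE₂ h₁ h₂
    apply Matrix.mulVec_injective
    funext v
    have hmul : (g₂ * g₁⁻¹).1 = g₂.1 * (g₁⁻¹).1 := rfl
    rw [← Matrix.mulVec_mulVec, ← Matrix.mulVec_mulVec, hmul, ← Matrix.mulVec_mulVec]
    have h3 : (g₁⁻¹).1.mulVec (E₁.mulVec v) ∈ stdSub F (k + d) k := by
      rw [h₁, Matrix.mulVec_mulVec]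
      have : g₁.1 * (g₁⁻¹).1 = 1 := congrArg Subtype.val (mul_inv_cancel g₁)
      rw [this, Matrix.one_mulVec]
      exact ⟨v, Matrix.toLin'_apply E₁ v⟩
    exact range_fix E₂ hE₂ _ ((h₂ _).mp h3)
  rw [hWa] at hga
  rw [hWb] at hgb
  have hI := key ga gb Ea Eb hEb hga hgb
  have hII := key gb ga Eb Ea hEa hgb hga
  obtain ⟨h, hh⟩ : ∃ h, h = gb * ga⁻¹ := ⟨_, rfl⟩
  have hinv : ga * gb⁻¹ = h⁻¹ := by rw [hh, mul_inv_rev, inv_inv]
  rw [← hh] at hI
  rw [hinv] at hII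
  have hhi : h.1 * (h⁻¹).1 = 1 := congrArg Subtype.val (mul_inv_cancel h)
  have hih : (h⁻¹).1 * h.1 = 1 := congrArg Subtype.val (inv_mul_cancel h)
  have hhΩ : h.1.transpose * Matrix.J (Fin (k + d)) F * h.1 = Matrix.J (Fin (k + d)) F :=
    SymplecticGroup.mem_iff'.mp h.2
  have hhΩ' : h.1.transpose * Matrix.J (Fin (k + d)) F
      = Matrix.J (Fin (k + d)) F * (h⁻¹).1 := by
    calc h.1.transpose * Matrix.J (Fin (k + d)) F
        = h.1.transpose * Matrix.J (Fin (k + d)) F * (h.1 * (h⁻¹).1) := by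
          rw [hhi, Matrix.mul_one]
      _ = (h.1.transpose * Matrix.J (Fin (k + d)) F * h.1) * (h⁻¹).1 := by
          simp only [Matrix.mul_assoc]
      _ = Matrix.J (Fin (k + d)) F * (h⁻¹).1 := by rw [hhΩ]
  -- `Ea * hi * (1 - Eb) = 0`
  have e2 : (1 - Eb) * (h.1 * Ea) = 0 := by
    rw [Matrix.sub_mul, Matrix.one_mul, hI, sub_self]
  have hTb1 : (1 - Eb).transpose * Matrix.J (Fin (k + d)) F
      = Matrix.J (Fin (k + d)) F * (1 - Eb) := by
    rw [Matrix.transpose_sub, Matrix.transpose_one, Matrix.sub_mul, Matrix.one_mul, hTb,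
      Matrix.mul_sub, Matrix.mul_one]
  have e3 : Ea * (h⁻¹).1 * (1 - Eb) = 0 := by
    have t := congrArg Matrix.transpose e2
    rw [Matrix.transpose_mul, Matrix.transpose_mul, Matrix.transpose_zero] at t
    have t3 : Matrix.J (Fin (k + d)) F * (Ea * (h⁻¹).1 * (1 - Eb)) = 0 := by
      calc Matrix.J (Fin (k + d)) F * (Ea * (h⁻¹).1 * (1 - Eb))
          = (Matrix.J (Fin (k + d)) F * Ea) * (h⁻¹).1 * (1 - Eb) := by
            simp only [Matrix.mul_assoc]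
        _ = Ea.transpose * (Matrix.J (Fin (k + d)) F * (h⁻¹).1) * (1 - Eb) := by
            rw [← hTa]; simp only [Matrix.mul_assoc]
        _ = Ea.transpose * h.1.transpose * (Matrix.J (Fin (k + d)) F * (1 - Eb)) := by
            rw [← hhΩ']; simp only [Matrix.mul_assoc]
        _ = Ea.transpose * h.1.transpose * (1 - Eb).transpose * Matrix.J (Fin (k + d)) F := by
            rw [← hTb1]; simp only [Matrix.mul_assoc]
        _ = 0 := by rw [t, Matrix.zero_mul]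
    calc Ea * (h⁻¹).1 * (1 - Eb)
        = ((-Matrix.J (Fin (k + d)) F) * Matrix.J (Fin (k + d)) F)
            * (Ea * (h⁻¹).1 * (1 - Eb)) := by rw [neg_J_mul, Matrix.one_mul]
      _ = (-Matrix.J (Fin (k + d)) F)
            * (Matrix.J (Fin (k + d)) F * (Ea * (h⁻¹).1 * (1 - Eb))) := by
          rw [Matrix.mul_assoc]
      _ = 0 := by rw [t3, Matrix.mul_zero]
  have e5 : (h⁻¹).1 * Eb = Ea * (h⁻¹).1 := by
    have a2 : Ea * (h⁻¹).1 = Ea * (h⁻¹).1 * Eb := by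
      have := e3
      rw [Matrix.mul_sub, Matrix.mul_one] at this
      exact sub_eq_zero.mp this
    rw [a2, Matrix.mul_assoc, hII]
  refine ⟨h, ?_⟩
  calc h.1 * Ea = h.1 * Ea * ((h⁻¹).1 * h.1) := by rw [hih, Matrix.mul_one]
    _ = h.1 * (Ea * (h⁻¹).1) * h.1 := by simp only [Matrix.mul_assoc]
    _ = (h.1 * (h⁻¹).1) * Eb * h.1 := by rw [← e5]; simp only [Matrix.mul_assoc]
    _ = Eb * h.1 := by rw [hhi, Matrix.one_mul]

theorem sp_witt_glue (m : ℕ) (a b e e' Z Z' : Matrix (Fin m ⊕ Fin m) (Fin m ⊕ Fin m) F)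
    (hee : e * e = e)
    (hTe : e.transpose * Matrix.J (Fin m) F = Matrix.J (Fin m) F * e)
    (hTe' : e'.transpose * Matrix.J (Fin m) F = Matrix.J (Fin m) F * e')
    (heA : e * a = e) (hBe' : b * e' = e')
    (hZe : Z * e = 0) (he'Z : e' * Z = 0) (heZ' : e * Z' = 0)
    (hZ'Z : Z' * Z = 1 - e) (hZZ' : Z * Z' = 1 - e')
    (hZJ : Z.transpose * Matrix.J (Fin m) F * Z = Matrix.J (Fin m) F * (1 - e))
    (hZA : Z * a = b * Z) :
    ∃ g : Matrix.symplecticGroup (Fin m) F, g.1 * a = b * g.1 := by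
  classical
  have hff : (1 - e) * (1 - e) = 1 - e := by
    rw [Matrix.mul_sub, Matrix.mul_one, Matrix.sub_mul, Matrix.one_mul, hee, sub_self, sub_zero]
  obtain ⟨n', x, hx, hfx, hspan⟩ := exists_family_range (1 - e) hff
  have hy : LinearIndependent F (fun i => Z.mulVec (x i)) := by
    apply LinearIndependent.of_comp (Matrix.toLin' Z')
    have : (Matrix.toLin' Z') ∘ (fun i => Z.mulVec (x i)) = x := by
      funext i
      simp only [Function.comp_apply, Matrix.toLin'_apply, Matrix.mulVec_mulVec, hZ'Z, hfx i]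
    rw [this]; exact hx
  have hG : ∀ i j, sympForm m F (x i) (x j)
      = sympForm m F (Z.mulVec (x i)) (Z.mulVec (x j)) := by
    intro i j
    rw [symp_dot, hZJ, ← Matrix.mulVec_mulVec, hfx j]
    rfl
  obtain ⟨g, hg⟩ := sp_witt_family' m x (fun i => Z.mulVec (x i)) hx hy hG
  have hgZ : g.1 * (1 - e) = Z := by
    have hZf : Z * (1 - e) = Z := by rw [Matrix.mul_sub, Matrix.mul_one, hZe, sub_zero]
    rw [← hZf]
    apply Matrix.mulVec_injective
    funext v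
    obtain ⟨c, hc⟩ := hspan v
    rw [← Matrix.mulVec_mulVec, ← Matrix.mulVec_mulVec, hc, Matrix.mulVec_sum,
      Matrix.mulVec_sum]
    apply Finset.sum_congr rfl
    intro i _
    rw [Matrix.mulVec_smul, Matrix.mulVec_smul, hg i]
  have hgΩ : g.1.transpose * Matrix.J (Fin m) F * g.1 = Matrix.J (Fin m) F :=
    SymplecticGroup.mem_iff'.mp g.2
  have hgi : g.1 * (g⁻¹).1 = 1 := congrArg Subtype.val (mul_inv_cancel g)
  exact ⟨g, isom_glue (Matrix.J (Fin m) F) (-Matrix.J (Fin m) F) (neg_J_mul m) a b e e' Z Z'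
    g.1 (g⁻¹).1 hTe hTe' heA hBe' he'Z heZ' hZZ' hZA hgΩ hgi hgZ⟩

theorem avg2_symm (m : ℕ) (X : Matrix (Fin m ⊕ Fin m) (Fin m ⊕ Fin m) F)
    (hXΩ : X.transpose * Matrix.J (Fin m) F * X = Matrix.J (Fin m) F) (k : ℕ)
    (hkF : (k : F) ≠ 0) (hXk : X ^ k = 1) :
    (avg2 k X).transpose * Matrix.J (Fin m) F = Matrix.J (Fin m) F * avg2 k X := by
  have hTX : fadj (Matrix.J (Fin m) F) (-Matrix.J (Fin m) F) X * X = 1 :=
    fadj_mul_self _ _ (neg_J_mul m) X hXΩ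
  have h3 := avg2_fadj (Matrix.J (Fin m) F) (-Matrix.J (Fin m) F) (J_mul_neg m) (neg_J_mul m)
    (-1) (by ring) (J_transpose' m) hkF hXk hTX
  have h4 := form_of_fadj (Matrix.J (Fin m) F) (-Matrix.J (Fin m) F) (J_mul_neg m) (avg2 k X) 1
  rw [h3, Matrix.mul_one, Matrix.mul_one] at h4
  exact h4

theorem sp_core_odd [Finite F] (m : ℕ) (a b P : Matrix (Fin m ⊕ Fin m) (Fin m ⊕ Fin m) F)
    (haΩ : a.transpose * Matrix.J (Fin m) F * a = Matrix.J (Fin m) F)
    (hbΩ : b.transpose * Matrix.J (Fin m) F * b = Matrix.J (Fin m) F)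
    (hP : IsUnit P) (hPa : P * a = b * P) (k : ℕ) (hkF : (k : F) ≠ 0) (hkodd : Odd k)
    (hak : a ^ k = 1) (hbk : b ^ k = 1) :
    ∃ g : Matrix.symplecticGroup (Fin m) F, g.1 * a = b * g.1 := by
  obtain ⟨Z, Z', z1, z2, z3, z4, z5, z6, z7, z8⟩ :=
    isom_core (Matrix.J (Fin m) F) (-Matrix.J (Fin m) F) (J_mul_neg m) (neg_J_mul m) (-1)
      (by ring) (J_transpose' m) a b P haΩ hbΩ hP hPa k hkF hak
  have hee : avg2 k a * avg2 k a = avg2 k a := avg2_idem hkF hak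
  have heA : avg2 k a * a = avg2 k a := by rw [← avg2_comm k a]; exact avg2_odd hkodd hak
  have hBe' : b * avg2 k b = avg2 k b := avg2_odd hkodd hbk
  exact sp_witt_glue m a b (avg2 k a) (avg2 k b) Z Z' hee (avg2_symm m a haΩ k hkF hak)
    (avg2_symm m b hbΩ k hkF hbk) heA hBe' z1 z2 z3 z5 z6 z7 z8

/-- properties of the projection onto the `-1`-eigenspace -/
theorem minus_proj_props (m : ℕ) (X : Matrix (Fin m ⊕ Fin m) (Fin m ⊕ Fin m) F)
    (hXΩ : X.transpose * Matrix.J (Fin m) F * X = Matrix.J (Fin m) F) (k : ℕ)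
    (hkF : (k : F) ≠ 0) (hXk : X ^ k = 1) (h2 : (2 : F) ≠ 0) :
    ((2 : F)⁻¹ • (avg2 k X * (1 - X))) * ((2 : F)⁻¹ • (avg2 k X * (1 - X)))
        = (2 : F)⁻¹ • (avg2 k X * (1 - X)) ∧
    ((2 : F)⁻¹ • (avg2 k X * (1 - X))).transpose * Matrix.J (Fin m) F
        = Matrix.J (Fin m) F * ((2 : F)⁻¹ • (avg2 k X * (1 - X))) ∧
    avg2 k X * ((2 : F)⁻¹ • (avg2 k X * (1 - X))) = (2 : F)⁻¹ • (avg2 k X * (1 - X)) ∧
    ((2 : F)⁻¹ • (avg2 k X * (1 - X))) * avg2 k X = (2 : F)⁻¹ • (avg2 k X * (1 - X)) ∧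
    ((2 : F)⁻¹ • (avg2 k X * (1 - X))) * X = -((2 : F)⁻¹ • (avg2 k X * (1 - X))) ∧
    X * ((2 : F)⁻¹ • (avg2 k X * (1 - X))) = -((2 : F)⁻¹ • (avg2 k X * (1 - X))) ∧
    avg2 k X * X = avg2 k X - (2 : F) • ((2 : F)⁻¹ • (avg2 k X * (1 - X))) := by
  obtain ⟨e, he⟩ : ∃ e, e = avg2 k X := ⟨_, rfl⟩
  rw [← he]
  have hee : e * e = e := by rw [he]; exact avg2_idem hkF hXk
  have hXe : X * e = e * X := by rw [he]; exact avg2_comm k X
  have hXXe : X * X * e = e := by rw [he]; exact avg2_mul_left hXk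
  have heXX : e * X * X = e := by
    calc e * X * X = X * X * e := by rw [← hXe, Matrix.mul_assoc, ← hXe, ← Matrix.mul_assoc]
      _ = e := hXXe
  have hTe : e.transpose * Matrix.J (Fin m) F = Matrix.J (Fin m) F * e := by
    rw [he]; exact avg2_symm m X hXΩ k hkF hXk
  obtain ⟨N, hN⟩ : ∃ N, N = e * (1 - X) := ⟨_, rfl⟩
  rw [← hN]
  have hN' : N = e - e * X := by rw [hN, Matrix.mul_sub, Matrix.mul_one]
  have heN : e * N = N := by rw [hN, ← Matrix.mul_assoc, hee]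
  have hNe : N * e = N := by
    rw [hN', Matrix.sub_mul, hee, Matrix.mul_assoc, hXe, ← Matrix.mul_assoc, hee]
  have hNX : N * X = -N := by
    rw [hN', Matrix.sub_mul, heXX]; abel
  have hXN : X * N = -N := by
    rw [hN', Matrix.mul_sub, hXe, ← Matrix.mul_assoc, hXe, heXX]; abel
  have hNN : N * N = (2 : F) • N := by
    calc N * N = N * (e - e * X) := by rw [← hN']
      _ = N * e - N * e * X := by rw [Matrix.mul_sub, Matrix.mul_assoc]
      _ = N - N * X := by rw [hNe]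
      _ = (2 : F) • N := by rw [hNX, two_smul]; abel
  have hTN : N.transpose * Matrix.J (Fin m) F = Matrix.J (Fin m) F * N := by
    -- `N = e - X * e`, `Xᵀ J = J X⁻¹` and `X⁻¹ e = X e`
    have h1 : X.transpose * Matrix.J (Fin m) F * e = Matrix.J (Fin m) F * (X * e) := by
      calc X.transpose * Matrix.J (Fin m) F * e
          = X.transpose * Matrix.J (Fin m) F * (X * X * e) := by rw [hXXe]
        _ = (X.transpose * Matrix.J (Fin m) F * X) * (X * e) := by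
            simp only [Matrix.mul_assoc]
        _ = Matrix.J (Fin m) F * (X * e) := by rw [hXΩ]
    rw [hN', Matrix.transpose_sub, Matrix.transpose_mul, Matrix.sub_mul, hTe, Matrix.mul_assoc,
      hTe, ← Matrix.mul_assoc, h1, hXe, Matrix.mul_sub]
  have h22 : (2 : F)⁻¹ * 2 = 1 := inv_mul_cancel₀ h2
  have h22' : (2 : F) * 2⁻¹ = 1 := mul_inv_cancel₀ h2
  refine ⟨?_, ?_, ?_, ?_, ?_, ?_, ?_⟩
  · rw [Matrix.smul_mul, Matrix.mul_smul, hNN, smul_smul, smul_smul, mul_assoc, h22, mul_one]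
  · rw [Matrix.transpose_smul, Matrix.smul_mul, hTN, Matrix.mul_smul]
  · rw [Matrix.mul_smul, heN]
  · rw [Matrix.smul_mul, hNe]
  · rw [Matrix.smul_mul, hNX, smul_neg]
  · rw [Matrix.mul_smul, hXN, smul_neg]
  · rw [smul_smul, h22', one_smul, hN']; abel

theorem sp_core_minus [Finite F] (m : ℕ) (a b P : Matrix (Fin m ⊕ Fin m) (Fin m ⊕ Fin m) F)
    (haΩ : a.transpose * Matrix.J (Fin m) F * a = Matrix.J (Fin m) F)
    (hbΩ : b.transpose * Matrix.J (Fin m) F * b = Matrix.J (Fin m) F)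
    (hP : IsUnit P) (hPa : P * a = b * P) (k : ℕ) (hkF : (k : F) ≠ 0)
    (hak : a ^ k = 1) (hbk : b ^ k = 1) (h2 : (2 : F) ≠ 0)
    (hE : avg2 k a * (1 - a) = avg2 k b * (1 - b)) :
    ∃ g : Matrix.symplecticGroup (Fin m) F, g.1 * a = b * g.1 := by
  obtain ⟨Z, Z', z1, z2, z3, z4, z5, z6, z7, z8⟩ :=
    isom_core (Matrix.J (Fin m) F) (-Matrix.J (Fin m) F) (J_mul_neg m) (neg_J_mul m) (-1)
      (by ring) (J_transpose' m) a b P haΩ hbΩ hP hPa k hkF hak
  obtain ⟨EE, TE, eE, Ee, Ea, -, hea⟩ := minus_proj_props m a haΩ k hkF hak h2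
  obtain ⟨-, -, e'E, Ee', -, bE, he'b⟩ := minus_proj_props m b hbΩ k hkF hbk h2
  rw [← hE] at e'E Ee' bE he'b
  obtain ⟨E, hEdef⟩ : ∃ E, E = (2 : F)⁻¹ • (avg2 k a * (1 - a)) := ⟨_, rfl⟩
  rw [← hEdef] at EE TE eE Ee Ea hea e'E Ee' bE he'b
  obtain ⟨e, he⟩ : ∃ e, e = avg2 k a := ⟨_, rfl⟩
  obtain ⟨e', he'⟩ : ∃ e', e' = avg2 k b := ⟨_, rfl⟩
  rw [← he] at z1 z3 z5 z7 eE Ee hea
  rw [← he'] at z2 z4 z6 e'E Ee' he'b
  have hee : e * e = e := by rw [he]; exact avg2_idem hkF hak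
  have hTe : e.transpose * Matrix.J (Fin m) F = Matrix.J (Fin m) F * e := by
    rw [he]; exact avg2_symm m a haΩ k hkF hak
  have hTe' : e'.transpose * Matrix.J (Fin m) F = Matrix.J (Fin m) F * e' := by
    rw [he']; exact avg2_symm m b hbΩ k hkF hbk
  have hbe' : b * e' = e' * b := by rw [he']; exact avg2_comm k b
  have ZE : Z * E = 0 := by rw [← eE, ← Matrix.mul_assoc, z1, Matrix.zero_mul]
  have EZ : E * Z = 0 := by rw [← Ee', Matrix.mul_assoc, z2, Matrix.mul_zero]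
  have EZ' : E * Z' = 0 := by rw [← Ee, Matrix.mul_assoc, z3, Matrix.mul_zero]
  have Z'E : Z' * E = 0 := by rw [← e'E, ← Matrix.mul_assoc, z4, Matrix.zero_mul]
  have hZJE : Z.transpose * Matrix.J (Fin m) F * E = 0 := by
    rw [Matrix.mul_assoc, ← TE, ← Matrix.mul_assoc, ← Matrix.transpose_mul, EZ,
      Matrix.transpose_zero, Matrix.zero_mul]
  refine sp_witt_glue m a b (e - E) (e' - E) (Z + E) (Z' + E) ?_ ?_ ?_ ?_ ?_ ?_ ?_ ?_ ?_ ?_ ?_ ?_
  · rw [Matrix.sub_mul, Matrix.mul_sub, Matrix.mul_sub, hee, eE, Ee, EE]; abel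
  · rw [Matrix.transpose_sub, Matrix.sub_mul, hTe, TE, Matrix.mul_sub]
  · rw [Matrix.transpose_sub, Matrix.sub_mul, hTe', TE, Matrix.mul_sub]
  · rw [Matrix.sub_mul, hea, Ea, two_smul]; abel
  · rw [Matrix.mul_sub, hbe', he'b, bE, two_smul]; abel
  · rw [Matrix.add_mul, Matrix.mul_sub, Matrix.mul_sub, z1, ZE, Ee, EE]; abel
  · rw [Matrix.sub_mul, Matrix.mul_add, Matrix.mul_add, z2, e'E, EZ, EE]; abel
  · rw [Matrix.sub_mul, Matrix.mul_add, Matrix.mul_add, z3, eE, EZ', EE]; abel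
  · rw [Matrix.add_mul, Matrix.mul_add, Matrix.mul_add, z5, Z'E, EZ, EE]; abel
  · rw [Matrix.add_mul, Matrix.mul_add, Matrix.mul_add, z6, ZE, EZ', EE]; abel
  · rw [Matrix.transpose_add, Matrix.add_mul, Matrix.add_mul, Matrix.mul_add, Matrix.mul_add,
      z7, hZJE, TE, Matrix.mul_assoc _ E Z, EZ, Matrix.mul_assoc _ E E, EE, Matrix.mul_zero,
      Matrix.mul_sub, Matrix.mul_sub, Matrix.mul_sub]
    abel
  · rw [Matrix.add_mul, Matrix.mul_add, z8, Ea, bE]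

end aux

/-- Two semisimple elements of the finite symplectic group Sp_2m(F) (elements of order prime to the characteristic) are conjugate in Sp_2m(F) if and only if they are conjugate in GL_2m(F). -/
theorem result {F : Type*} [Field F] [Fintype F] {p : ℕ} [Fact p.Prime] [CharP F p] {m : ℕ} (A B : Matrix.symplecticGroup (Fin m) F) (hA : (orderOf A).Coprime p) : IsConj A B ↔ IsConj (A : Matrix (Fin m ⊕ Fin m) (Fin m ⊕ Fin m) F) (B : Matrix (Fin m ⊕ Fin m) (Fin m ⊕ Fin m) F) := by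
  classical
  constructor
  · intro h
    obtain ⟨c, hc⟩ := isConj_iff.mp h
    have h1 : c * A = B * c := by rw [← hc]; group
    have hcu : IsUnit (c.1) :=
      IsUnit.of_mul_eq_one (c⁻¹).1 (congrArg Subtype.val (mul_inv_cancel c))
    refine ⟨hcu.unit, ?_⟩
    exact congrArg Subtype.val h1
  · rintro ⟨P, hP⟩
    have hPa : (P : Matrix (Fin m ⊕ Fin m) (Fin m ⊕ Fin m) F) * A.1
        = B.1 * (P : Matrix (Fin m ⊕ Fin m) (Fin m ⊕ Fin m) F) := hP
    have haΩ : A.1.transpose * Matrix.J (Fin m) F * A.1 = Matrix.J (Fin m) F :=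
      SymplecticGroup.mem_iff'.mp A.2
    have hbΩ : B.1.transpose * Matrix.J (Fin m) F * B.1 = Matrix.J (Fin m) F :=
      SymplecticGroup.mem_iff'.mp B.2
    obtain ⟨k, hk⟩ : ∃ k, k = orderOf A := ⟨_, rfl⟩
    have hkF : (k : F) ≠ 0 := by
      intro h0
      have hdvd : p ∣ k := (CharP.cast_eq_zero_iff F p k).mp h0
      rw [hk] at hdvd
      have := Nat.Coprime.eq_one_of_dvd hA.symm hdvd
      exact (Fact.out : p.Prime).one_lt.ne' this
    have hAk : A ^ k = 1 := by rw [hk]; exact pow_orderOf_eq_one A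
    have hak : A.1 ^ k = 1 := by
      have := congrArg Subtype.val hAk
      simpa using this
    have hbk : B.1 ^ k = 1 := by
      have h3 : SemiconjBy (P : Matrix (Fin m ⊕ Fin m) (Fin m ⊕ Fin m) F) (A.1 ^ k) (B.1 ^ k) :=
        SemiconjBy.pow_right hPa k
      have h4 : (P : Matrix (Fin m ⊕ Fin m) (Fin m ⊕ Fin m) F) * A.1 ^ k
          = B.1 ^ k * (P : Matrix (Fin m ⊕ Fin m) (Fin m ⊕ Fin m) F) := h3
      rw [hak, Matrix.mul_one] at h4
      have h5 : B.1 ^ k * (P : Matrix (Fin m ⊕ Fin m) (Fin m ⊕ Fin m) F)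
          * ((P⁻¹ : (Matrix (Fin m ⊕ Fin m) (Fin m ⊕ Fin m) F)ˣ) :
            Matrix (Fin m ⊕ Fin m) (Fin m ⊕ Fin m) F) = 1 := by rw [← h4]; exact P.mul_inv
      rw [Matrix.mul_assoc] at h5
      rw [show (P : Matrix (Fin m ⊕ Fin m) (Fin m ⊕ Fin m) F)
          * ((P⁻¹ : (Matrix (Fin m ⊕ Fin m) (Fin m ⊕ Fin m) F)ˣ) :
            Matrix (Fin m ⊕ Fin m) (Fin m ⊕ Fin m) F) = 1 from P.mul_inv, Matrix.mul_one] at h5
      exact h5
    have hfinal : ∀ g : Matrix.symplecticGroup (Fin m) F, g.1 * A.1 = B.1 * g.1 → IsConj A B := by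
      intro g hg
      refine isConj_iff.mpr ⟨g, ?_⟩
      rw [mul_inv_eq_iff_eq_mul]
      exact Subtype.ext hg
    by_cases h2F : (2 : F) = 0
    · have hp2 : p = 2 := by
        have hdvd : p ∣ 2 := (CharP.cast_eq_zero_iff F p 2).mp (by exact_mod_cast h2F)
        exact (Nat.prime_dvd_prime_iff_eq Fact.out Nat.prime_two).mp hdvd
      have hkodd : Odd k := by
        rw [hk]
        rw [hp2] at hA
        exact Nat.Coprime.odd_of_right hA
      obtain ⟨g, hg⟩ := sp_core_odd m A.1 B.1 P haΩ hbΩ P.isUnit hPa k hkF hkodd hak hbk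
      exact hfinal g hg
    · obtain ⟨EaEa, TEa, -, -, -, -, -⟩ := minus_proj_props m A.1 haΩ k hkF hak h2F
      obtain ⟨EbEb, TEb, -, -, -, -, -⟩ := minus_proj_props m B.1 hbΩ k hkF hbk h2F
      have hPe : (P : Matrix (Fin m ⊕ Fin m) (Fin m ⊕ Fin m) F) * avg2 k A.1
          = avg2 k B.1 * (P : Matrix (Fin m ⊕ Fin m) (Fin m ⊕ Fin m) F) := avg2_conj hPa
      have hPE : (P : Matrix (Fin m ⊕ Fin m) (Fin m ⊕ Fin m) F)
            * ((2 : F)⁻¹ • (avg2 k A.1 * (1 - A.1)))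
          = ((2 : F)⁻¹ • (avg2 k B.1 * (1 - B.1)))
            * (P : Matrix (Fin m ⊕ Fin m) (Fin m ⊕ Fin m) F) := by
        rw [Matrix.mul_smul, Matrix.smul_mul, ← Matrix.mul_assoc, hPe, Matrix.mul_assoc,
          Matrix.mul_assoc, Matrix.mul_sub, Matrix.sub_mul, Matrix.mul_one, Matrix.one_mul, hPa]
      obtain ⟨h, hh⟩ := sp_conj_idem m _ _ (P : Matrix (Fin m ⊕ Fin m) (Fin m ⊕ Fin m) F)
        EaEa EbEb TEa TEb P.isUnit hPE
      have hhi : h.1 * (h⁻¹).1 = 1 := congrArg Subtype.val (mul_inv_cancel h)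
      have hih : (h⁻¹).1 * h.1 = 1 := congrArg Subtype.val (inv_mul_cancel h)
      obtain ⟨A₁, hA₁⟩ : ∃ A₁, A₁ = h * A * h⁻¹ := ⟨_, rfl⟩
      have ha₁ : A₁.1 = h.1 * A.1 * (h⁻¹).1 := by rw [hA₁]; rfl
      have hha : h.1 * A.1 = A₁.1 * h.1 := by
        rw [ha₁, Matrix.mul_assoc, hih, Matrix.mul_one]
      have ha₁Ω : A₁.1.transpose * Matrix.J (Fin m) F * A₁.1 = Matrix.J (Fin m) F :=
        SymplecticGroup.mem_iff'.mp A₁.2
      have ha₁k : A₁.1 ^ k = 1 := by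
        have h3 : A₁ ^ k = 1 := by rw [hA₁, conj_pow, hAk, mul_one, mul_inv_cancel]
        have := congrArg Subtype.val h3
        simpa using this
      have hP₁ : IsUnit ((P : Matrix (Fin m ⊕ Fin m) (Fin m ⊕ Fin m) F) * (h⁻¹).1) :=
        P.isUnit.mul (IsUnit.of_mul_eq_one _ hih)
      have hP₁a : (P : Matrix (Fin m ⊕ Fin m) (Fin m ⊕ Fin m) F) * (h⁻¹).1 * A₁.1
          = B.1 * ((P : Matrix (Fin m ⊕ Fin m) (Fin m ⊕ Fin m) F) * (h⁻¹).1) := by
        calc (P : Matrix (Fin m ⊕ Fin m) (Fin m ⊕ Fin m) F) * (h⁻¹).1 * A₁.1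
            = (P : Matrix (Fin m ⊕ Fin m) (Fin m ⊕ Fin m) F) * ((h⁻¹).1 * h.1) * A.1 * (h⁻¹).1 := by
              rw [ha₁]; simp only [Matrix.mul_assoc]
          _ = B.1 * ((P : Matrix (Fin m ⊕ Fin m) (Fin m ⊕ Fin m) F) * (h⁻¹).1) := by
              rw [hih, Matrix.mul_one, hPa, Matrix.mul_assoc]
      have hE₁ : avg2 k A₁.1 * (1 - A₁.1) = avg2 k B.1 * (1 - B.1) := by
        have he₁ : h.1 * avg2 k A.1 = avg2 k A₁.1 * h.1 := avg2_conj hha
        have h3 : avg2 k A₁.1 * (1 - A₁.1) * h.1 = h.1 * (avg2 k A.1 * (1 - A.1)) := by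
          calc avg2 k A₁.1 * (1 - A₁.1) * h.1 = avg2 k A₁.1 * (h.1 - A₁.1 * h.1) := by
                rw [Matrix.mul_assoc, Matrix.sub_mul, Matrix.one_mul]
            _ = avg2 k A₁.1 * h.1 * (1 - A.1) := by
                rw [← hha, Matrix.mul_assoc _ h.1 (1 - A.1), Matrix.mul_sub h.1, Matrix.mul_one]
            _ = h.1 * (avg2 k A.1 * (1 - A.1)) := by rw [← he₁, Matrix.mul_assoc]
        have h4 : h.1 * (avg2 k A.1 * (1 - A.1)) = avg2 k B.1 * (1 - B.1) * h.1 := by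
          have := congrArg (fun X => (2 : F) • X) hh
          simp only [Matrix.mul_smul, Matrix.smul_mul, smul_smul, mul_inv_cancel₀ h2F,
            one_smul] at this
          exact this
        calc avg2 k A₁.1 * (1 - A₁.1) = avg2 k A₁.1 * (1 - A₁.1) * (h.1 * (h⁻¹).1) := by
              rw [hhi, Matrix.mul_one]
          _ = (avg2 k A₁.1 * (1 - A₁.1) * h.1) * (h⁻¹).1 := by simp only [Matrix.mul_assoc]
          _ = avg2 k B.1 * (1 - B.1) * (h.1 * (h⁻¹).1) := by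
              rw [h3, h4, Matrix.mul_assoc]
          _ = avg2 k B.1 * (1 - B.1) := by rw [hhi, Matrix.mul_one]
      obtain ⟨g, hg⟩ := sp_core_minus m A₁.1 B.1 _ ha₁Ω hbΩ hP₁ hP₁a k hkF ha₁k hbk h2F hE₁
      refine hfinal (g * h) ?_
      show g.1 * h.1 * A.1 = B.1 * (g.1 * h.1)
      rw [Matrix.mul_assoc, hha, ← Matrix.mul_assoc, hg, Matrix.mul_assoc]

end Cfsg.Agent.S2589
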