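import Cfsg.Statements.S2590
import Cfsg.Agent.Lib.helper48.IsomConj
import Cfsg.Agent.Lib.helper48.JordanType
import Cfsg.Agent.Lib.helper50.InvOrth

set_option autoImplicit false
open Cfsg

namespace Cfsg.Agent.S2590

open Cfsg.Agent.Lib.helper48

section aux

variable {F : Type*} [Field F] {κ : Type} [Fintype κ] [DecidableEq κ]

theorem polar_eq_dot (Q : QuadraticForm F (κ → F)) (u v : κ → F) :
    QuadraticMap.polar Q u v
      = u ⬝ᵥ (LinearMap.BilinForm.toMatrix' (QuadraticMap.polarBilin Q)).mulVec v := by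
  have hBΩ : Matrix.toBilin' (LinearMap.BilinForm.toMatrix' (QuadraticMap.polarBilin Q))
      = QuadraticMap.polarBilin Q := Matrix.toBilin'_toMatrix' _
  rw [← Matrix.toBilin'_apply', hBΩ]
  rfl

theorem dot_mulVec_mulVec (Ω Z : Matrix κ κ F) (u v : κ → F) :
    (Z.mulVec u) ⬝ᵥ Ω.mulVec (Z.mulVec v) = u ⬝ᵥ (Z.transpose * Ω * Z).mulVec v := by
  rw [← Matrix.mulVec_mulVec, ← Matrix.mulVec_mulVec, Matrix.dotProduct_mulVec u,
    Matrix.vecMul_transpose]

/-- the isometry `Z` on the complement of the fixed space preserves the quadratic form -/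
theorem quad_preserved (Q : QuadraticForm F (κ → F)) (a b e g Z : Matrix κ κ F)
    (ha : ∀ v, Q (a.mulVec v) = Q v) (hb : ∀ v, Q (b.mulVec v) = Q v)
    (hZ : Z.transpose * LinearMap.BilinForm.toMatrix' (QuadraticMap.polarBilin Q) * Z
      = LinearMap.BilinForm.toMatrix' (QuadraticMap.polarBilin Q) * (1 - e))
    (hZA : Z * a = b * Z) (hg : (a * a - 1) * g = 1 - e) (hae : a * e = e * a)
    (heg : e * g = g * e) (w : κ → F) (hw : e.mulVec w = 0) : Q (Z.mulVec w) = Q w := by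
  have hadd : ∀ u v : κ → F, e.mulVec v = 0 →
      Q (Z.mulVec (u + v)) - Q (u + v) = (Q (Z.mulVec u) - Q u) + (Q (Z.mulVec v) - Q v) := by
    intro u v hv
    have h1 : QuadraticMap.polar Q (Z.mulVec u) (Z.mulVec v) = QuadraticMap.polar Q u v := by
      rw [polar_eq_dot, polar_eq_dot, dot_mulVec_mulVec, hZ, ← Matrix.mulVec_mulVec,
        Matrix.sub_mulVec, Matrix.one_mulVec, hv, sub_zero]
    have h2 : Q (Z.mulVec u + Z.mulVec v)
        = Q (Z.mulVec u) + Q (Z.mulVec v) + QuadraticMap.polar Q (Z.mulVec u) (Z.mulVec v) := by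
      unfold QuadraticMap.polar; ring
    have h3 : Q (u + v) = Q u + Q v + QuadraticMap.polar Q u v := by
      unfold QuadraticMap.polar; ring
    rw [Matrix.mulVec_add, h2, h3, h1]; ring
  have hinv : ∀ w : κ → F, Q (Z.mulVec (a.mulVec w)) - Q (a.mulVec w) = Q (Z.mulVec w) - Q w := by
    intro w
    rw [Matrix.mulVec_mulVec, hZA, ← Matrix.mulVec_mulVec, hb, ha]
  have hneg : ∀ w : κ → F, Q (Z.mulVec (-w)) - Q (-w) = Q (Z.mulVec w) - Q w := by
    intro w
    rw [Matrix.mulVec_neg, QuadraticMap.map_neg, QuadraticMap.map_neg]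
  obtain ⟨w', hw'⟩ : ∃ w', w' = ((a + 1) * g).mulVec w := ⟨_, rfl⟩
  have hew' : e.mulVec w' = 0 := by
    rw [hw', Matrix.mulVec_mulVec]
    have : e * ((a + 1) * g) = ((a + 1) * g) * e := by
      calc e * ((a + 1) * g) = (e * a) * g + e * g := by
            rw [← Matrix.mul_assoc, Matrix.mul_add, Matrix.mul_one, Matrix.add_mul]
        _ = a * (g * e) + g * e := by rw [← hae, Matrix.mul_assoc, heg]
        _ = ((a + 1) * g) * e := by rw [Matrix.mul_assoc, Matrix.add_mul, Matrix.one_mul]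
    rw [this, ← Matrix.mulVec_mulVec, hw, Matrix.mulVec_zero]
  have hww' : w = a.mulVec w' + (-w') := by
    have h1 : (a - 1) * ((a + 1) * g) = 1 - e := by
      rw [← hg, ← Matrix.mul_assoc]
      congr 1
      noncomm_ring
    have h2 : a.mulVec w' + (-w') = ((a - 1) * ((a + 1) * g)).mulVec w := by
      rw [← Matrix.mulVec_mulVec, ← hw', Matrix.sub_mulVec, Matrix.one_mulVec, sub_eq_add_neg]
    rw [h2, h1, Matrix.sub_mulVec, Matrix.one_mulVec, hw, sub_zero]
  have hnegw' : e.mulVec (-w') = 0 := by rw [Matrix.mulVec_neg, hew', neg_zero]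
  have hD1 := hadd (a.mulVec w') (-w') hnegw'
  have hD2 := hadd w' (-w') hnegw'
  rw [← hww', hinv, hneg] at hD1
  rw [add_neg_cancel, hneg] at hD2
  have h0 : Q (Z.mulVec 0) - Q (0 : κ → F) = 0 := by
    rw [Matrix.mulVec_zero, sub_self]
  rw [h0] at hD2
  have : Q (Z.mulVec w) - Q w = 0 := by rw [hD1, ← hD2]
  exact sub_eq_zero.mp this

end aux

/-- Two semisimple elements of odd order of a finite orthogonal group (isometry group of a quadratic form on F^n with non-degenerate polar form, F finite of characteristic p; the elements have odd order prime to p) are conjugate in the orthogonal group if and only if they are conjugate in GL_n(F). -/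
theorem result {F : Type*} [Field F] [Fintype F] {p : ℕ} [Fact p.Prime] [CharP F p] {n : ℕ} (Q : QuadraticForm F (Fin n → F)) (hQ : (QuadraticMap.polarBilin Q).Nondegenerate) (A B : ↥(Cfsg.isometryGroup F ⇑Q)) (hodd : Odd (orderOf A)) (hA : (orderOf A).Coprime p) : IsConj A B ↔ IsConj ((A : Matrix.GeneralLinearGroup (Fin n) F) : Matrix (Fin n) (Fin n) F) ((B : Matrix.GeneralLinearGroup (Fin n) F) : Matrix (Fin n) (Fin n) F) := by
  classical
  constructor
  · intro h
    obtain ⟨c, hc⟩ := isConj_iff.mp h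
    refine ⟨c.1, ?_⟩
    have h1 : c * A = B * c := by rw [← hc]; group
    have h2 := congrArg (fun g : ↥(Cfsg.isometryGroup F ⇑Q) =>
      ((g : Matrix.GeneralLinearGroup (Fin n) F) : Matrix (Fin n) (Fin n) F)) h1
    exact h2
  · rintro ⟨P, hP⟩
    obtain ⟨a, ha⟩ : ∃ a : Matrix (Fin n) (Fin n) F,
      a = ((A : Matrix.GeneralLinearGroup (Fin n) F) : Matrix (Fin n) (Fin n) F) := ⟨_, rfl⟩
    obtain ⟨b, hb⟩ : ∃ b : Matrix (Fin n) (Fin n) F,
      b = ((B : Matrix.GeneralLinearGroup (Fin n) F) : Matrix (Fin n) (Fin n) F) := ⟨_, rfl⟩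
    have hPa : (P : Matrix (Fin n) (Fin n) F) * a = b * (P : Matrix (Fin n) (Fin n) F) := by
      rw [ha, hb]; exact hP
    have haQ : ∀ v, Q (a.mulVec v) = Q v := by
      intro v; rw [ha]; exact A.2 v v
    have hbQ : ∀ v, Q (b.mulVec v) = Q v := by
      intro v; rw [hb]; exact B.2 v v
    obtain ⟨Ω, hΩdef⟩ : ∃ Ω, Ω = LinearMap.BilinForm.toMatrix' (QuadraticMap.polarBilin Q) :=
      ⟨_, rfl⟩
    obtain ⟨hΩu, hΩs, haΩ, -⟩ := polar_matrix_props Q hQ a haQ
    obtain ⟨-, -, hbΩ, -⟩ := polar_matrix_props Q hQ b hbQ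
    rw [← hΩdef] at hΩu hΩs haΩ hbΩ
    have h1 : Ω * Ω⁻¹ = 1 := Matrix.mul_nonsing_inv Ω hΩu
    have h2 : Ω⁻¹ * Ω = 1 := Matrix.nonsing_inv_mul Ω hΩu
    have hΩ1 : Ω.transpose = (1 : F) • Ω := by rw [one_smul]; exact hΩs
    obtain ⟨k, hk⟩ : ∃ k, k = orderOf A := ⟨_, rfl⟩
    have hkF : (k : F) ≠ 0 := by
      intro h0
      have hdvd : p ∣ k := (CharP.cast_eq_zero_iff F p k).mp h0
      rw [hk] at hdvd
      have := Nat.Coprime.eq_one_of_dvd hA.symm hdvd
      exact (Fact.out : p.Prime).one_lt.ne' this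
    have hak : a ^ k = 1 := by
      have h3 : A ^ k = 1 := by rw [hk]; exact pow_orderOf_eq_one A
      have h4 := congrArg (fun g : ↥(Cfsg.isometryGroup F ⇑Q) =>
        ((g : Matrix.GeneralLinearGroup (Fin n) F) : Matrix (Fin n) (Fin n) F)) h3
      rw [ha]; simpa using h4
    have hbk : b ^ k = 1 := by
      have h3 : SemiconjBy (P : Matrix (Fin n) (Fin n) F) (a ^ k) (b ^ k) :=
        SemiconjBy.pow_right hPa k
      have h4 : (P : Matrix (Fin n) (Fin n) F) * a ^ k = b ^ k * (P : Matrix (Fin n) (Fin n) F) :=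
        h3
      rw [hak, Matrix.mul_one] at h4
      have h5 : b ^ k * (P : Matrix (Fin n) (Fin n) F) * ((P⁻¹ : (Matrix (Fin n) (Fin n) F)ˣ) :
          Matrix (Fin n) (Fin n) F) = 1 := by rw [← h4]; exact P.mul_inv
      rw [Matrix.mul_assoc] at h5
      rw [show (P : Matrix (Fin n) (Fin n) F) * ((P⁻¹ : (Matrix (Fin n) (Fin n) F)ˣ) :
          Matrix (Fin n) (Fin n) F) = 1 from P.mul_inv, Matrix.mul_one] at h5
      exact h5
    have hkodd : Odd k := by rw [hk]; exact hodd
    obtain ⟨Z, Z', z1, z2, z3, z4, z5, z6, z7, z8⟩ :=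
      isom_core Ω Ω⁻¹ h1 h2 1 (one_mul 1) hΩ1 a b P haΩ hbΩ P.isUnit hPa k hkF hak
    obtain ⟨e, he⟩ : ∃ e, e = avg2 k a := ⟨_, rfl⟩
    obtain ⟨e', he'⟩ : ∃ e', e' = avg2 k b := ⟨_, rfl⟩
    rw [← he] at z1 z3 z5 z7
    rw [← he'] at z2 z4 z6
    have hee : e * e = e := by rw [he]; exact avg2_idem hkF hak
    have hTA : fadj Ω Ω⁻¹ a * a = 1 := fadj_mul_self Ω Ω⁻¹ h2 a haΩ
    have hTB : fadj Ω Ω⁻¹ b * b = 1 := fadj_mul_self Ω Ω⁻¹ h2 b hbΩ
    have hTe : e.transpose * Ω = Ω * e := by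
      have h3 := avg2_fadj Ω Ω⁻¹ h1 h2 1 (one_mul 1) hΩ1 hkF hak hTA
      have h4 := form_of_fadj Ω Ω⁻¹ h1 (avg2 k a) 1
      rw [h3, Matrix.mul_one, Matrix.mul_one] at h4
      rw [he]; exact h4
    have hTe' : e'.transpose * Ω = Ω * e' := by
      have h3 := avg2_fadj Ω Ω⁻¹ h1 h2 1 (one_mul 1) hΩ1 hkF hbk hTB
      have h4 := form_of_fadj Ω Ω⁻¹ h1 (avg2 k b) 1
      rw [h3, Matrix.mul_one, Matrix.mul_one] at h4
      rw [he']; exact h4
    have hae : a * e = e * a := by rw [he]; exact avg2_comm k a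
    have heA : e * a = e := by rw [← hae, he]; exact avg2_odd hkodd hak
    have hBe' : b * e' = e' := by rw [he']; exact avg2_odd hkodd hbk
    -- Witt extension
    have hff : (1 - e) * (1 - e) = 1 - e := by
      rw [Matrix.mul_sub, Matrix.mul_one, Matrix.sub_mul, Matrix.one_mul, hee, sub_self,
        sub_zero]
    obtain ⟨n', x, hx, hfx, hspan⟩ := exists_family_range (1 - e) hff
    have hex : ∀ i, e.mulVec (x i) = 0 := by
      intro i
      have := hfx i
      rw [Matrix.sub_mulVec, Matrix.one_mulVec] at this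
      have h3 : x i - e.mulVec (x i) = x i - 0 := by rw [this, sub_zero]
      exact sub_right_injective h3
    have hy : LinearIndependent F (fun i => Z.mulVec (x i)) := by
      apply LinearIndependent.of_comp (Matrix.toLin' Z')
      have : (Matrix.toLin' Z') ∘ (fun i => Z.mulVec (x i)) = x := by
        funext i
        simp only [Function.comp_apply, Matrix.toLin'_apply, Matrix.mulVec_mulVec, z5, hfx i]
      rw [this]; exact hx
    have hZQ : ∀ w, e.mulVec w = 0 → Q (Z.mulVec w) = Q w := by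
      intro w hw
      refine quad_preserved Q a b e (avg2g k a) Z haQ hbQ ?_ z8 ?_ hae ?_ w hw
      · rw [← hΩdef]; exact z7
      · rw [he]; exact avg2_g hkF a
      · rw [he]; exact avg2g_comm_avg2 k a
    have hframe : ∀ c : Fin n' → F,
        Q (∑ i, c i • x i) = Q (∑ i, c i • Z.mulVec (x i)) := by
      intro c
      have h3 : ∑ i, c i • Z.mulVec (x i) = Z.mulVec (∑ i, c i • x i) := by
        rw [Matrix.mulVec_sum]
        apply Finset.sum_congr rfl
        intro i _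
        rw [Matrix.mulVec_smul]
      rw [h3]
      symm
      apply hZQ
      rw [Matrix.mulVec_sum]
      apply Finset.sum_eq_zero
      intro i _
      rw [Matrix.mulVec_smul, hex i, smul_zero]
    obtain ⟨g, hg⟩ := Cfsg.Agent.Lib.helper50.witt_frames Q hQ x (fun i => Z.mulVec (x i)) hx hy
      hframe
    have hgZ : (g.1.1 : Matrix (Fin n) (Fin n) F) * (1 - e) = Z := by
      have hZf : Z * (1 - e) = Z := by rw [Matrix.mul_sub, Matrix.mul_one, z1, sub_zero]
      rw [← hZf]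
      apply Matrix.mulVec_injective
      funext v
      obtain ⟨c, hc⟩ := hspan v
      rw [← Matrix.mulVec_mulVec, ← Matrix.mulVec_mulVec, hc, Matrix.mulVec_sum,
        Matrix.mulVec_sum]
      apply Finset.sum_congr rfl
      intro i _
      rw [Matrix.mulVec_smul, Matrix.mulVec_smul, hg i]
    have hgQ : ∀ v, Q ((g.1.1 : Matrix (Fin n) (Fin n) F).mulVec v) = Q v := fun v => g.2 v v
    obtain ⟨-, -, hgΩ, -⟩ := polar_matrix_props Q hQ (g.1.1 : Matrix (Fin n) (Fin n) F) hgQ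
    rw [← hΩdef] at hgΩ
    have hglue := isom_glue Ω Ω⁻¹ h2 a b e e' Z Z' (g.1.1 : Matrix (Fin n) (Fin n) F)
      ((g.1⁻¹ : Matrix.GeneralLinearGroup (Fin n) F) : Matrix (Fin n) (Fin n) F)
      hTe hTe' heA hBe' z2 z3 z6 z8 hgΩ g.1.mul_inv hgZ
    refine isConj_iff.mpr ⟨g, ?_⟩
    rw [mul_inv_eq_iff_eq_mul]
    apply Subtype.ext
    apply Units.ext
    show (g.1.1 : Matrix (Fin n) (Fin n) F) * (A.1.1 : Matrix (Fin n) (Fin n) F)
      = (B.1.1 : Matrix (Fin n) (Fin n) F) * (g.1.1 : Matrix (Fin n) (Fin n) F)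
    rw [← ha, ← hb]; exact hglue

end Cfsg.Agent.S2590
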