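import Cfsg.Statements.S2591
import Cfsg.Agent.Lib.helper48.SpRegUnip2

set_option autoImplicit false
open Cfsg

namespace Cfsg.Agent.S2591

open Matrix Cfsg.Agent.Lib.helper48

/-- Over a finite field of odd order and for m ≥ 1, the regular unipotent elements of Sp_2m(F) (u − 1 nilpotent of rank 2m − 1, a single Jordan block) form exactly two conjugacy classes of Sp_2m(F) (one class under the similarity group, which splits in two). -/
theorem result {F : Type*} [Field F] [Fintype F] {q : ℕ} (hF : Fintype.card F = q) (hq : Odd q) {m : ℕ} (hm : 1 ≤ m) : Nat.card {C : ConjClasses ↥(Matrix.symplecticGroup (Fin m) F) // ∃ u : Matrix.symplecticGroup (Fin m) F, ConjClasses.mk u = C ∧ ((u : Matrix (Fin m ⊕ Fin m) (Fin m ⊕ Fin m) F) - 1) ^ (2 * m) = 0 ∧ ((u : Matrix (Fin m ⊕ Fin m) (Fin m ⊕ Fin m) F) - 1).rank = 2 * m - 1} = 2 := by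
  classical
  subst hF
  rw [two_mul]
  obtain ⟨U₀, hU₀, h01, h02⟩ := exists_reg_symp hq hm
  have hchar : ringChar F ≠ 2 := by
    intro h
    rw [FiniteField.even_card_iff_char_two] at h
    rcases hq with ⟨k, hk⟩
    omega
  obtain ⟨δ, hδ⟩ := FiniteField.exists_nonsquare hchar
  obtain ⟨⟨hU₁, h11, h12⟩, hnc, hall⟩ := symp_reg_classes hq hm U₀ hU₀ h01 h02 δ hδ
  set U₁ := gd F m δ * U₀ * gd F m δ⁻¹ with hU₁def
  let u₀ : ↥(Matrix.symplecticGroup (Fin m) F) := ⟨U₀, (mem_symplectic_iff_sig U₀).2 hU₀⟩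
  let u₁ : ↥(Matrix.symplecticGroup (Fin m) F) := ⟨U₁, (mem_symplectic_iff_sig U₁).2 hU₁⟩
  -- conjugacy in the group versus matrix intertwiners
  have hconj : ∀ a b : ↥(Matrix.symplecticGroup (Fin m) F),
      ConjClasses.mk a = ConjClasses.mk b ↔
        ∃ h : Matrix (Fin m ⊕ Fin m) (Fin m ⊕ Fin m) F, sig h * h = 1 ∧
          h * (a : Matrix (Fin m ⊕ Fin m) (Fin m ⊕ Fin m) F)
            = (b : Matrix (Fin m ⊕ Fin m) (Fin m ⊕ Fin m) F) * h := by
    intro a b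
    rw [ConjClasses.mk_eq_mk_iff_isConj, isConj_iff]
    constructor
    · rintro ⟨c, hc⟩
      refine ⟨(c : Matrix (Fin m ⊕ Fin m) (Fin m ⊕ Fin m) F), (mem_symplectic_iff_sig _).1 c.2, ?_⟩
      have h1 : c * a = b * c := mul_inv_eq_iff_eq_mul.1 hc
      exact congrArg Subtype.val h1
    · rintro ⟨h, hh, e⟩
      refine ⟨⟨h, (mem_symplectic_iff_sig h).2 hh⟩, ?_⟩
      rw [mul_inv_eq_iff_eq_mul]
      exact Subtype.ext e
  have hset : {C : ConjClasses ↥(Matrix.symplecticGroup (Fin m) F) |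
      ∃ u : Matrix.symplecticGroup (Fin m) F, ConjClasses.mk u = C ∧
        ((u : Matrix (Fin m ⊕ Fin m) (Fin m ⊕ Fin m) F) - 1) ^ (m + m) = 0 ∧
        ((u : Matrix (Fin m ⊕ Fin m) (Fin m ⊕ Fin m) F) - 1).rank = m + m - 1}
      = {ConjClasses.mk u₀, ConjClasses.mk u₁} := by
    ext C
    simp only [Set.mem_ofPred_eq, Set.mem_insert_iff, Set.mem_singleton_iff]
    constructor
    · rintro ⟨u, rfl, hu1, hu2⟩
      rcases hall (u : Matrix (Fin m ⊕ Fin m) (Fin m ⊕ Fin m) F)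
        ((mem_symplectic_iff_sig _).1 u.2) hu1 hu2 with h | h
      · left
        exact ((hconj u₀ u).2 h).symm
      · right
        exact ((hconj u₁ u).2 h).symm
    · rintro (rfl | rfl)
      · exact ⟨u₀, rfl, h01, h02⟩
      · exact ⟨u₁, rfl, h11, h12⟩
  have hne : ConjClasses.mk u₀ ≠ ConjClasses.mk u₁ := by
    intro h
    exact hnc ((hconj u₀ u₁).1 h)
  have hcard : Nat.card {C : ConjClasses ↥(Matrix.symplecticGroup (Fin m) F) //
      ∃ u : Matrix.symplecticGroup (Fin m) F, ConjClasses.mk u = C ∧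
        ((u : Matrix (Fin m ⊕ Fin m) (Fin m ⊕ Fin m) F) - 1) ^ (m + m) = 0 ∧
        ((u : Matrix (Fin m ⊕ Fin m) (Fin m ⊕ Fin m) F) - 1).rank = m + m - 1}
      = ({C : ConjClasses ↥(Matrix.symplecticGroup (Fin m) F) |
      ∃ u : Matrix.symplecticGroup (Fin m) F, ConjClasses.mk u = C ∧
        ((u : Matrix (Fin m ⊕ Fin m) (Fin m ⊕ Fin m) F) - 1) ^ (m + m) = 0 ∧
        ((u : Matrix (Fin m ⊕ Fin m) (Fin m ⊕ Fin m) F) - 1).rank = m + m - 1}).ncard :=
    Nat.card_coe_set_eq _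
  rw [hcard, hset, Set.ncard_pair hne]

end Cfsg.Agent.S2591
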