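import Cfsg.Statements.S2593
import Cfsg.Agent.Lib.helper50.InvReps

set_option autoImplicit false
open Cfsg Cfsg.Agent.Lib.helper50

namespace Cfsg.Agent.S2593

/-- Number of conjugacy classes of involutions in the symplectic group Sp_2m(F) over a finite field of characteristic two (m ≥ 1): for each s with 1 ≤ s ≤ m there is one class with rank(t − 1) = s if s is odd and two if s is even (according as v ↦ f(v, tv), f the symplectic form, vanishes identically or not), so m + ⌊m/2⌋ classes in all. -/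
theorem result {F : Type*} [Field F] [Fintype F] [CharP F 2] {m : ℕ} (hm : 1 ≤ m) : Nat.card {C : ConjClasses ↥(Matrix.symplecticGroup (Fin m) F) // ∃ g : Matrix.symplecticGroup (Fin m) F, ConjClasses.mk g = C ∧ orderOf g = 2} = m + m / 2 := by
  classical
  have hF2 : Fact (Nat.Prime 2) := ⟨Nat.prime_two⟩
  -- the representatives
  have hσ1 : ∀ i : Fin m, (1 : Equiv.Perm (Fin m)) ((1 : Equiv.Perm (Fin m)) i) = i := fun i => rfl
  have hs1 : ∀ (s : ℕ) (i : Fin m), ((1 : Equiv.Perm (Fin m)) i).val < s ↔ i.val < s :=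
    fun s i => Iff.rfl
  let repNA : Fin m → ↥(Matrix.symplecticGroup (Fin m) F) := fun i =>
    ⟨trep F (1 : Equiv.Perm (Fin m)) (i.val + 1), trep_mem _ _ hσ1 (hs1 _)⟩
  have hle2 : ∀ j : Fin (m / 2), 2 * (j.val + 1) ≤ m := by
    intro j
    have := j.2
    omega
  let repA : Fin (m / 2) → ↥(Matrix.symplecticGroup (Fin m) F) := fun j =>
    ⟨trep F (revPerm m (2 * (j.val + 1))) (2 * (j.val + 1)),
      trep_mem _ _ (revPerm_invol _) (revPerm_lt (hle2 j))⟩
  let rep : Fin m ⊕ Fin (m / 2) → ↥(Matrix.symplecticGroup (Fin m) F) := Sum.elim repNA repA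
  have hsq : ∀ x, rep x ^ 2 = 1 := by
    intro x
    rw [sq]
    apply Subtype.ext
    rcases x with i | j
    · exact trep_sq _ _
    · exact trep_sq _ _
  have hrankNA : ∀ i : Fin m, ((repNA i).1 - 1).rank = i.val + 1 := fun i =>
    trep_rank _ _ (by have := i.2; omega)
  have hrankA : ∀ j : Fin (m / 2), ((repA j).1 - 1).rank = 2 * (j.val + 1) := fun j =>
    trep_rank _ _ (hle2 j)
  have hnalt : ∀ i : Fin m, ¬ ∀ v, Cfsg.sympForm m F v (Matrix.mulVec (repNA i).1 v) = 0 := by
    intro i h
    obtain ⟨v, hv⟩ := trep_nonalt (F := F) hm (i.val + 1) (by omega)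
    exact hv (h v)
  have halt : ∀ (j : Fin (m / 2)) v, Cfsg.sympForm m F v (Matrix.mulVec (repA j).1 v) = 0 := by
    intro j v
    exact trep_alt _ _ (revPerm_invol _) (revPerm_lt (hle2 j))
      (revPerm_ne (hle2 j) (even_two_mul _)) v
  have hne1 : ∀ x, rep x ≠ 1 := by
    intro x h
    have h0 : ((rep x).1 - 1).rank = 0 := by
      rw [h]
      change ((1 : Matrix (Fin m ⊕ Fin m) (Fin m ⊕ Fin m) F) - 1).rank = 0
      rw [sub_self, Matrix.rank_zero]
    rcases x with i | j
    · have := hrankNA i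
      change ((repNA i).1 - 1).rank = 0 at h0
      omega
    · have := hrankA j
      change ((repA j).1 - 1).rank = 0 at h0
      omega
  have hord : ∀ x, orderOf (rep x) = 2 := fun x => orderOf_eq_prime (hsq x) (hne1 x)
  let f : Fin m ⊕ Fin (m / 2) → {C : ConjClasses ↥(Matrix.symplecticGroup (Fin m) F) //
      ∃ g : Matrix.symplecticGroup (Fin m) F, ConjClasses.mk g = C ∧ orderOf g = 2} :=
    fun x => ⟨ConjClasses.mk (rep x), rep x, rfl, hord x⟩
  have hinj : Function.Injective f := by
    intro x y hxy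
    have h1 : IsConj (rep x) (rep y) :=
      ConjClasses.mk_eq_mk_iff_isConj.1 (congrArg Subtype.val hxy)
    obtain ⟨g, hg⟩ := comm_of_isConj _ _ h1
    obtain ⟨g', hg'⟩ := comm_of_isConj _ _ h1.symm
    have hr := rank_of_conj _ _ g hg
    rcases x with i | j <;> rcases y with i' | j'
    · change ((repNA i).1 - 1).rank = ((repNA i').1 - 1).rank at hr
      rw [hrankNA, hrankNA] at hr
      congr 1
      apply Fin.ext
      omega
    · exact absurd (alt_of_conj _ _ g hg (halt j')) (hnalt i)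
    · exact absurd (alt_of_conj _ _ g' hg' (halt j)) (hnalt i')
    · change ((repA j).1 - 1).rank = ((repA j').1 - 1).rank at hr
      rw [hrankA, hrankA] at hr
      congr 1
      apply Fin.ext
      omega
  have hsurj : Function.Surjective f := by
    rintro ⟨C, g, rfl, hg⟩
    have hg2 : g ^ 2 = 1 := hg ▸ pow_orderOf_eq_one g
    have hg1 : g ≠ 1 := by
      rintro rfl
      rw [orderOf_one] at hg
      omega
    have hle := rank_le g hg2
    have hpos : 1 ≤ (g.1 - 1).rank := by
      by_contra h0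
      apply hg1
      apply Subtype.ext
      have := eq_zero_of_rank_eq_zero (g.1 - 1) (by omega)
      exact sub_eq_zero.1 this
    by_cases hcase : Even (g.1 - 1).rank ∧ ∀ v, Cfsg.sympForm m F v (Matrix.mulVec g.1 v) = 0
    · obtain ⟨⟨k, hk⟩, hgalt⟩ := hcase
      have hk1 : 1 ≤ k := by omega
      have hkm : k - 1 < m / 2 := by omega
      refine ⟨Sum.inr ⟨k - 1, hkm⟩, ?_⟩
      apply Subtype.ext
      apply ConjClasses.mk_eq_mk_iff_isConj.2
      have hrk : ((rep (Sum.inr ⟨k - 1, hkm⟩)).1 - 1).rank = (g.1 - 1).rank := by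
        have := hrankA ⟨k - 1, hkm⟩
        simp only at this
        change ((repA ⟨k - 1, hkm⟩).1 - 1).rank = _
        omega
      exact isConj_of_same_type (rep (Sum.inr ⟨k - 1, hkm⟩)) g (hsq _) hg2 hrk
        (fun _ => ⟨fun _ => hgalt, fun _ => halt ⟨k - 1, hkm⟩⟩)
    · have hkm : (g.1 - 1).rank - 1 < m := by omega
      refine ⟨Sum.inl ⟨(g.1 - 1).rank - 1, hkm⟩, ?_⟩
      apply Subtype.ext
      apply ConjClasses.mk_eq_mk_iff_isConj.2
      have hrk : ((rep (Sum.inl ⟨(g.1 - 1).rank - 1, hkm⟩)).1 - 1).rank = (g.1 - 1).rank := by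
        have := hrankNA ⟨(g.1 - 1).rank - 1, hkm⟩
        simp only at this
        change ((repNA ⟨(g.1 - 1).rank - 1, hkm⟩).1 - 1).rank = _
        omega
      refine isConj_of_same_type (rep (Sum.inl ⟨(g.1 - 1).rank - 1, hkm⟩)) g (hsq _) hg2 hrk ?_
      intro he
      rw [hrk] at he
      constructor
      · intro h
        exact absurd h (hnalt ⟨(g.1 - 1).rank - 1, hkm⟩)
      · intro h
        exact absurd ⟨he, h⟩ hcase
  rw [← Nat.card_congr (Equiv.ofBijective f ⟨hinj, hsurj⟩), Nat.card_eq_fintype_card]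
  simp

end Cfsg.Agent.S2593
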