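import Cfsg.Statements.S2594
import Cfsg.Agent.S0245
import Cfsg.Agent.Lib.helper7.Sp

set_option autoImplicit false
open Cfsg

namespace Cfsg.Agent.S2594

open Matrix Cfsg.Agent.Lib.helper50 Cfsg.Agent.Lib.helper7

section
variable {F : Type*} [Field F]

/-- rank one matrices are outer products -/
theorem exists_vecMulVec_of_rank_one {n : Type*} [Fintype n] [DecidableEq n] (N : Matrix n n F)
    (h : N.rank = 1) : ∃ u w : n → F, u ≠ 0 ∧ N = vecMulVec u w := by
  have h1 : Module.finrank F (LinearMap.range N.mulVecLin) = 1 := h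
  obtain ⟨⟨u, hu⟩, hu0, hspan⟩ := finrank_eq_one_iff'.1 h1
  have hcol : ∀ j, ∃ c : F, c • u = N *ᵥ Pi.single j 1 := by
    intro j
    obtain ⟨c, hc⟩ := hspan ⟨N *ᵥ Pi.single j 1, ⟨Pi.single j 1, rfl⟩⟩
    exact ⟨c, congrArg Subtype.val hc⟩
  choose w hw using hcol
  refine ⟨u, w, fun h0 => hu0 (Subtype.ext h0), ?_⟩
  ext i j
  have := congrFun (hw j) i
  rw [Matrix.mulVec_single_one] at this
  simp only [Pi.smul_apply, smul_eq_mul, Matrix.col_apply] at this
  rw [vecMulVec_apply, ← this, mul_comm]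

theorem mat_ext_mulVec {n : Type*} [Fintype n] [DecidableEq n] (A B : Matrix n n F)
    (h : ∀ x, A *ᵥ x = B *ᵥ x) : A = B := by
  ext i j
  have := congrFun (h (Pi.single j 1)) i
  simpa [Matrix.mulVec_single_one] using this

variable {m : ℕ}

/-- the symplectic form -/
def om (x y : Fin m ⊕ Fin m → F) : F := (J (Fin m) F *ᵥ x) ⬝ᵥ y

theorem om_add_left (x x' y : Fin m ⊕ Fin m → F) : om (x + x') y = om x y + om x' y := by
  unfold om; rw [Matrix.mulVec_add, add_dotProduct]

theorem om_add_right (x y y' : Fin m ⊕ Fin m → F) : om x (y + y') = om x y + om x y' := by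
  unfold om; rw [dotProduct_add]

theorem om_smul_left (c : F) (x y : Fin m ⊕ Fin m → F) : om (c • x) y = c * om x y := by
  unfold om; rw [Matrix.mulVec_smul, smul_dotProduct, smul_eq_mul]

theorem om_smul_right (c : F) (x y : Fin m ⊕ Fin m → F) : om x (c • y) = c * om x y := by
  unfold om; rw [dotProduct_smul, smul_eq_mul]

theorem om_self (x : Fin m ⊕ Fin m → F) : om x x = 0 := J_mulVec_dotProduct_self x

theorem om_skew (x y : Fin m ⊕ Fin m → F) : om x y = - om y x := by
  have h := om_self (x + y)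
  rw [om_add_left, om_add_right, om_add_right, om_self, om_self] at h
  linear_combination h

theorem om_nondeg (x : Fin m ⊕ Fin m → F) (hx : x ≠ 0) : ∃ y, om x y ≠ 0 := by
  by_contra hcon
  simp only [not_exists, not_not] at hcon
  apply hx
  have h1 : J (Fin m) F *ᵥ x = 0 := by
    funext j
    have := hcon (Pi.single j 1)
    unfold om at this
    rw [dotProduct_single_one] at this
    exact this
  have := J_mulVec_J_mulVec x
  rw [h1, Matrix.mulVec_zero] at this
  exact neg_eq_zero.1 this.symm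

theorem om_sp (g : Matrix.symplecticGroup (Fin m) F) (x y : Fin m ⊕ Fin m → F) :
    om (g.1 *ᵥ x) (g.1 *ᵥ y) = om x y := by
  have hg := SymplecticGroup.mem_iff'.1 g.2
  unfold om
  rw [Matrix.dotProduct_mulVec, ← Matrix.mulVec_transpose, Matrix.mulVec_mulVec,
    Matrix.mulVec_mulVec, hg]

/-- a symplectic matrix `t` with `rank (t - 1) = 1` is a symplectic transvection -/
theorem transvection_form (t : Matrix.symplecticGroup (Fin m) F)
    (ht : (t.1 - 1).rank = 1) :
    ∃ (u : Fin m ⊕ Fin m → F) (c : F), u ≠ 0 ∧ c ≠ 0 ∧ ∀ x, t.1 *ᵥ x = x + (c * om u x) • u := by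
  obtain ⟨u, w, hu, hN⟩ := exists_vecMulVec_of_rank_one _ ht
  have ht1 : ∀ x, t.1 *ᵥ x = x + (w ⬝ᵥ x) • u := by
    intro x
    have : t.1 = 1 + vecMulVec u w := by rw [← hN]; abel
    rw [this, Matrix.add_mulVec, Matrix.one_mulVec, Matrix.vecMulVec_mulVec, op_smul_eq_smul]
  have hw : ∀ x y, (w ⬝ᵥ x) * om u y = (w ⬝ᵥ y) * om u x := by
    intro x y
    have h := om_sp t x y
    rw [ht1, ht1, om_add_left, om_add_right, om_add_right, om_smul_left, om_smul_right,
      om_smul_left, om_smul_right, om_self, om_skew x u] at h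
    linear_combination h
  obtain ⟨y₀, hy₀⟩ := om_nondeg u hu
  have hwx : ∀ x, w ⬝ᵥ x = (w ⬝ᵥ y₀ / om u y₀) * om u x := by
    intro x
    have := hw x y₀
    field_simp
    linear_combination this
  refine ⟨u, w ⬝ᵥ y₀ / om u y₀, hu, ?_, fun x => by rw [ht1, hwx]⟩
  intro hc
  have h1 : t.1 - 1 = 0 := by
    apply mat_ext_mulVec
    intro x
    rw [Matrix.sub_mulVec, ht1, hwx, hc, Matrix.one_mulVec, Matrix.zero_mulVec]
    simp
  rw [h1, Matrix.rank_zero] at ht
  exact zero_ne_one ht

end

/-- the natural action of the symplectic group -/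
@[reducible] noncomputable def spAct (m : ℕ) (F : Type*) [Field F] :
    MulAction (Matrix.symplecticGroup (Fin m) F) (Fin m ⊕ Fin m → F) where
  smul g v := g.1 *ᵥ v
  one_smul v := Matrix.one_mulVec v
  mul_smul g h v := (Matrix.mulVec_mulVec v g.1 h.1).symm

/-- Over a finite field with q elements, q even, an element t of Sp_2m(F) with rank(t − 1) = 1 (a symplectic transvection) has centraliser in Sp_2m(F) of order q^(2m−1) · |Sp_(2m−2)(q)| = q^(2m−1) · q^((m−1)²) · Π_(i=1)^(m−1) (q^(2i) − 1). -/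
theorem result {F : Type*} [Field F] [Fintype F] [CharP F 2] {q : ℕ} (hF : Fintype.card F = q) {m : ℕ} (hm : 1 ≤ m) (t : Matrix.symplecticGroup (Fin m) F) (ht : ((t : Matrix (Fin m ⊕ Fin m) (Fin m ⊕ Fin m) F) - 1).rank = 1) : Nat.card ↥(Subgroup.centralizer ({t} : Set ↥(Matrix.symplecticGroup (Fin m) F))) = q ^ (2 * m - 1) * (q ^ ((m - 1) ^ 2) * ∏ i : Fin (m - 1), (q ^ (2 * ((i : ℕ) + 1)) - 1)) := by
  classical
  subst hF
  obtain ⟨n, rfl⟩ : ∃ n, m = n + 1 := ⟨m - 1, by omega⟩
  obtain ⟨u, c, hu, hc, htx⟩ := transvection_form t ht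
  let _ := spAct (n + 1) F
  have hsmul : ∀ (g : Matrix.symplecticGroup (Fin (n + 1)) F) (v : Fin (n + 1) ⊕ Fin (n + 1) → F),
      g • v = g.1 *ᵥ v := fun g v => rfl
  -- the centraliser is the stabiliser of `u`
  have hcent : Subgroup.centralizer ({t} : Set (Matrix.symplecticGroup (Fin (n + 1)) F))
      = MulAction.stabilizer (Matrix.symplecticGroup (Fin (n + 1)) F) u := by
    ext g
    rw [Subgroup.mem_centralizer_iff, MulAction.mem_stabilizer_iff, hsmul]
    constructor
    · intro h
      have h1 := h t rfl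
      have h2 : ∀ x, om u x • (g.1 *ᵥ u) = om u (g.1 *ᵥ x) • u := by
        intro x
        have h3 := congrArg (fun (k : Matrix.symplecticGroup (Fin (n + 1)) F) => k.1 *ᵥ x) h1
        simp only [Submonoid.coe_mul] at h3
        rw [← Matrix.mulVec_mulVec, ← Matrix.mulVec_mulVec, htx, htx, Matrix.mulVec_add,
          Matrix.mulVec_smul] at h3
        have h4 : (c * om u (g.1 *ᵥ x)) • u = (c * om u x) • (g.1 *ᵥ u) := add_left_cancel h3
        have h5 := congrArg (fun v => c⁻¹ • v) h4
        simp only [smul_smul, ← mul_assoc, inv_mul_cancel₀ hc, one_mul] at h5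
        exact h5.symm
      obtain ⟨x₀, hx₀⟩ := om_nondeg u hu
      have h6 : g.1 *ᵥ u = (om u (g.1 *ᵥ x₀) / om u x₀) • u := by
        have := congrArg (fun v => (om u x₀)⁻¹ • v) (h2 x₀)
        simp only [smul_smul, inv_mul_cancel₀ hx₀, one_smul] at this
        rw [this, div_eq_inv_mul]
      set lam := om u (g.1 *ᵥ x₀) / om u x₀ with hlam
      have h7 : lam * om u (g.1 *ᵥ x₀) = om u x₀ := by
        have := om_sp g u x₀
        rw [h6, om_smul_left] at this
        exact this
      have h8 : lam * lam = 1 := by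
        have : om u (g.1 *ᵥ x₀) = lam * om u x₀ := by
          rw [hlam]; field_simp
        rw [this] at h7
        have h9 : (lam * lam - 1) * om u x₀ = 0 := by linear_combination h7
        rcases mul_eq_zero.1 h9 with h | h
        · exact sub_eq_zero.1 h
        · exact absurd h hx₀
      have h10 : lam = 1 := by
        have : (lam - 1) ^ 2 = 0 := by
          have h2' : (2 : F) = 0 := CharTwo.two_eq_zero
          linear_combination h8 - (lam - 1) * h2'
        exact sub_eq_zero.1 (pow_eq_zero_iff two_ne_zero |>.1 this)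
      rw [h6, h10, one_smul]
    · intro hgu h ht'
      rw [Set.mem_singleton_iff] at ht'
      subst ht'
      apply Subtype.ext
      apply mat_ext_mulVec
      intro x
      simp only [Submonoid.coe_mul]
      rw [← Matrix.mulVec_mulVec, ← Matrix.mulVec_mulVec, htx, htx, Matrix.mulVec_add,
        Matrix.mulVec_smul, hgu]
      have := om_sp g u x
      rw [hgu] at this
      rw [this]
  rw [hcent]
  -- orbit-stabiliser
  have horb : Nat.card (MulAction.orbit (Matrix.symplecticGroup (Fin (n + 1)) F) u)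
      = Fintype.card F ^ (2 * (n + 1)) - 1 := by
    have e : MulAction.orbit (Matrix.symplecticGroup (Fin (n + 1)) F) u
        ≃ {v : Fin (n + 1) ⊕ Fin (n + 1) → F // v ≠ 0} :=
      Equiv.subtypeEquivRight (fun v => by
        constructor
        · rintro ⟨g, rfl⟩ h0
          apply hu
          have h1 : g⁻¹ • (g • u) = u := inv_smul_smul g u
          have h0' : g • u = 0 := h0
          rw [h0', hsmul, Matrix.mulVec_zero] at h1
          exact h1.symm
        · intro hv
          obtain ⟨g, hg⟩ := symplectic_transitive u v hu hv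
          exact ⟨g, hg⟩)
    rw [Nat.card_congr e, card_ne_zero_subtype (F := F)]
    congr 2
    simp [two_mul]
  have hos := Subgroup.card_eq_card_quotient_mul_card_subgroup
    (MulAction.stabilizer (Matrix.symplecticGroup (Fin (n + 1)) F) u)
  rw [← Nat.card_congr (MulAction.orbitEquivQuotientStabilizer _ u), horb,
    Cfsg.Agent.S0245.result rfl (n + 1), Finset.prod_range_succ] at hos
  have hpos : 0 < Fintype.card F ^ (2 * (n + 1)) - 1 := by
    have : 1 < Fintype.card F ^ (2 * (n + 1)) :=
      Nat.one_lt_pow (by omega) Fintype.one_lt_card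
    omega
  change Nat.card _ = Fintype.card F ^ (2 * (n + 1) - 1) * (Fintype.card F ^ (n ^ 2)
    * ∏ i : Fin n, (Fintype.card F ^ (2 * ((i : ℕ) + 1)) - 1))
  rw [← Finset.prod_range (fun i => Fintype.card F ^ (2 * (i + 1)) - 1)]
  apply Nat.eq_of_mul_eq_mul_left hpos
  rw [← hos]
  have e1 : (n + 1) ^ 2 = (2 * (n + 1) - 1) + n ^ 2 := by
    have : 2 * (n + 1) - 1 = 2 * n + 1 := by omega
    rw [this]; ring
  rw [e1, pow_add]
  generalize Fintype.card F ^ (2 * (n + 1)) - 1 = X
  generalize (∏ i ∈ Finset.range n, (Fintype.card F ^ (2 * (i + 1)) - 1)) = P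
  generalize Fintype.card F ^ (2 * (n + 1) - 1) = Y
  ring

end Cfsg.Agent.S2594
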