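import Cfsg.Statements.S2595
import Cfsg.Agent.Lib.helper50.InvOrthReps

set_option autoImplicit false
open Cfsg Cfsg.Agent.Lib.helper50 Cfsg.Agent.Lib.helper49 Cfsg.Agent.Lib.helper17

namespace Cfsg.Agent.S2595

/-- Number of conjugacy classes of involutions in the full orthogonal group O⁺_2m(F) of the hyperbolic quadratic form Σ x_i y_i over a finite field of characteristic two (m ≥ 1): one class for each odd s ≤ m and two for each even s with 2 ≤ s ≤ m, where s = rank(t − 1); in all m + ⌊m/2⌋. -/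
theorem result {F : Type*} [Field F] [Fintype F] [CharP F 2] {m : ℕ} (hm : 1 ≤ m) : Nat.card {C : ConjClasses ↥(Cfsg.isometryGroup F (Cfsg.quadFormPlus m F)) // ∃ g : ↥(Cfsg.isometryGroup F (Cfsg.quadFormPlus m F)), ConjClasses.mk g = C ∧ orderOf g = 2} = m + m / 2 := by
  classical
  have hF2 : Fact (Nat.Prime 2) := ⟨Nat.prime_two⟩
  have hpol : ∀ u v : Fin m ⊕ Fin m → F, Cfsg.quadFormPlus m F (u + v)
      = Cfsg.quadFormPlus m F u + Cfsg.quadFormPlus m F v + Cfsg.sympForm m F u v := plus_hpol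
  -- the representatives
  have hle2 : ∀ j : Fin (m / 2), 2 * (j.val + 1) ≤ m := by
    intro j
    have := j.2
    omega
  have haltS : ∀ (j : Fin (m / 2)) (v : Fin m ⊕ Fin m → F),
      Cfsg.sympForm m F v (Matrix.mulVec (trep F (revPerm m (2 * (j.val + 1))) (2 * (j.val + 1))) v)
        = 0 := fun j v =>
    trep_alt _ _ (revPerm_invol _) (revPerm_lt (hle2 j)) (revPerm_ne (hle2 j) (even_two_mul _)) v
  let repNA : Fin m → ↥(Cfsg.isometryGroup F (Cfsg.quadFormPlus m F)) := fun i =>
    orthOfInvol (Cfsg.quadFormPlus m F) (swapMat F m (i.val + 1)) swapMat_sq swapMat_Q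
  have hQA : ∀ (j : Fin (m / 2)) (v : Fin m ⊕ Fin m → F), Cfsg.quadFormPlus m F
      (Matrix.mulVec (trep F (revPerm m (2 * (j.val + 1))) (2 * (j.val + 1))) v)
        = Cfsg.quadFormPlus m F v := fun j v => by
    rw [trep_Q, ← trep_val, haltS j v, add_zero]
  let repA : Fin (m / 2) → ↥(Cfsg.isometryGroup F (Cfsg.quadFormPlus m F)) := fun j =>
    orthOfInvol (Cfsg.quadFormPlus m F) (trep F (revPerm m (2 * (j.val + 1))) (2 * (j.val + 1)))
      (trep_sq _ _) (hQA j)
  let rep : Fin m ⊕ Fin (m / 2) → ↥(Cfsg.isometryGroup F (Cfsg.quadFormPlus m F)) :=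
    Sum.elim repNA repA
  let I : ↥(Cfsg.isometryGroup F (Cfsg.quadFormPlus m F)) → ℕ × Prop := fun g =>
    ((g.1.1 - 1).rank, Even (g.1.1 - 1).rank ∧ ∀ v, Cfsg.sympForm m F v (Matrix.mulVec g.1.1 v) = 0)
  have hsq : ∀ x, rep x ^ 2 = 1 := by
    intro x
    rcases x with i | j
    · exact orthOfInvol_sq (Cfsg.quadFormPlus m F) (swapMat F m (i.val + 1)) swapMat_sq swapMat_Q
    · exact orthOfInvol_sq (Cfsg.quadFormPlus m F) _ (trep_sq _ _) (hQA j)
  have hrankNA : ∀ i : Fin m, ((rep (Sum.inl i)).1.1 - 1).rank = i.val + 1 := fun i =>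
    swapMat_rank (by have := i.2; omega)
  have hrankA : ∀ j : Fin (m / 2), ((rep (Sum.inr j)).1.1 - 1).rank = 2 * (j.val + 1) := fun j =>
    trep_rank _ _ (hle2 j)
  have hnalt : ∀ i : Fin m,
      ¬ ∀ v, Cfsg.sympForm m F v (Matrix.mulVec (rep (Sum.inl i)).1.1 v) = 0 := by
    intro i h
    obtain ⟨v, hv⟩ := swapMat_nonalt (F := F) (m := m) (s := i.val + 1) (by omega) hm
    exact hv (h v)
  have halt : ∀ (j : Fin (m / 2)) v,
      Cfsg.sympForm m F v (Matrix.mulVec (rep (Sum.inr j)).1.1 v) = 0 := haltS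
  have hne1 : ∀ x, rep x ≠ 1 := by
    intro x h
    have h0 : ((rep x).1.1 - 1).rank = 0 := by
      rw [h]
      change ((1 : Matrix (Fin m ⊕ Fin m) (Fin m ⊕ Fin m) F) - 1).rank = 0
      rw [sub_self, Matrix.rank_zero]
    rcases x with i | j
    · have := hrankNA i
      omega
    · have := hrankA j
      omega
  have hord : ∀ x, orderOf (rep x) = 2 := fun x => orderOf_eq_prime (hsq x) (hne1 x)
  have hI : ∀ a b : ↥(Cfsg.isometryGroup F (Cfsg.quadFormPlus m F)), I a = I b ↔
      ((a.1.1 - 1).rank = (b.1.1 - 1).rank ∧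
        ((Even (a.1.1 - 1).rank ∧ ∀ v, Cfsg.sympForm m F v (Matrix.mulVec a.1.1 v) = 0) ↔
          (Even (b.1.1 - 1).rank ∧ ∀ v, Cfsg.sympForm m F v (Matrix.mulVec b.1.1 v) = 0))) := by
    intro a b
    constructor
    · intro h
      have h1 := congrArg Prod.fst h
      have h2 := congrArg Prod.snd h
      exact ⟨h1, by simp only [I] at h2; rw [h2]⟩
    · rintro ⟨h1, h2⟩
      exact Prod.ext h1 (propext h2)
  have hcount := card_inv_classes_of_reps I rep hord
    (by
      intro a b hab
      have h1 := (orthToSp (Cfsg.quadFormPlus m F) hpol).map_isConj hab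
      obtain ⟨g, hg⟩ := comm_of_isConj _ _ h1
      have hr := rank_of_conj _ _ g hg
      rw [orthToSp_coe, orthToSp_coe] at hr hg
      rw [hI]
      refine ⟨hr, ?_⟩
      rw [hr]
      constructor
      · rintro ⟨he, h⟩
        exact ⟨he, alt_of_conj' (orthToSp (Cfsg.quadFormPlus m F) hpol a)
          (orthToSp (Cfsg.quadFormPlus m F) hpol b) g hg h⟩
      · rintro ⟨he, h⟩
        exact ⟨he, alt_of_conj (orthToSp (Cfsg.quadFormPlus m F) hpol a)
          (orthToSp (Cfsg.quadFormPlus m F) hpol b) g hg h⟩)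
    (by
      intro a b ha hb hab
      rw [hI] at hab
      obtain ⟨hr, h2⟩ := hab
      have ha2 : a ^ 2 = 1 := ha ▸ pow_orderOf_eq_one a
      have hb2 : b ^ 2 = 1 := hb ▸ pow_orderOf_eq_one b
      apply orth_isConj_of_same_type (Cfsg.quadFormPlus m F) (plusForm m F) rfl hpol a b ha2 hb2 hr
      intro he
      constructor
      · intro h
        exact (h2.1 ⟨he, h⟩).2
      · intro h
        exact (h2.2 ⟨hr ▸ he, h⟩).2)
    (by
      intro x y hxy
      rw [hI] at hxy
      obtain ⟨hr, h2⟩ := hxy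
      rcases x with i | j <;> rcases y with i' | j'
      · rw [hrankNA, hrankNA] at hr
        congr 1
        apply Fin.ext
        omega
      · exfalso
        have := h2.2 ⟨by rw [hrankA]; exact even_two_mul _, halt j'⟩
        exact hnalt i this.2
      · exfalso
        have := h2.1 ⟨by rw [hrankA]; exact even_two_mul _, halt j⟩
        exact hnalt i' this.2
      · rw [hrankA, hrankA] at hr
        congr 1
        apply Fin.ext
        omega)
    (by
      intro g hg
      have hg2 : g ^ 2 = 1 := hg ▸ pow_orderOf_eq_one g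
      have hg1 : g ≠ 1 := by
        rintro rfl
        rw [orderOf_one] at hg
        omega
      have hle := rank_le (orthToSp (Cfsg.quadFormPlus m F) hpol g)
        (orth_sq (Cfsg.quadFormPlus m F) hpol g hg2)
      rw [orthToSp_coe] at hle
      have hpos : 1 ≤ (g.1.1 - 1).rank := by
        by_contra h0
        apply hg1
        apply Subtype.ext
        apply Units.ext
        have := eq_zero_of_rank_eq_zero (g.1.1 - 1) (by omega)
        exact sub_eq_zero.1 this
      by_cases hcase : Even (g.1.1 - 1).rank ∧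
          ∀ v, Cfsg.sympForm m F v (Matrix.mulVec g.1.1 v) = 0
      · obtain ⟨k, hk⟩ := hcase.1
        have hk1 : 1 ≤ k := by omega
        have hkm : k - 1 < m / 2 := by omega
        refine ⟨Sum.inr ⟨k - 1, hkm⟩, ?_⟩
        rw [hI]
        have hrk : ((rep (Sum.inr ⟨k - 1, hkm⟩)).1.1 - 1).rank = (g.1.1 - 1).rank := by
          rw [hrankA]
          simp only
          omega
        refine ⟨hrk, ?_⟩
        rw [hrk]
        exact ⟨fun _ => hcase, fun _ => ⟨hcase.1, halt _⟩⟩
      · have hkm : (g.1.1 - 1).rank - 1 < m := by omega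
        refine ⟨Sum.inl ⟨(g.1.1 - 1).rank - 1, hkm⟩, ?_⟩
        rw [hI]
        have hrk : ((rep (Sum.inl ⟨(g.1.1 - 1).rank - 1, hkm⟩)).1.1 - 1).rank
            = (g.1.1 - 1).rank := by
          rw [hrankNA]
          simp only
          omega
        refine ⟨hrk, ?_⟩
        constructor
        · intro h
          exact absurd h.2 (hnalt _)
        · intro h
          exact absurd h hcase)
  rw [hcount]
  simp

end Cfsg.Agent.S2595
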