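import Cfsg.Statements.S2597
import Cfsg.Agent.Lib.helper50.OrthPlusSplit2

set_option autoImplicit false
open Cfsg

namespace Cfsg.Agent.S2597

/-- Number of conjugacy classes of involutions in Ω⁺_2m(F) (the commutator subgroup of the orthogonal group of Σ x_i y_i) over a finite field F of characteristic two, m ≥ 1, excluding the case m = 2 over the field of two elements: the involutions of Ω are those with s = rank(t − 1) even, giving two O-classes for each even s with 2 ≤ s ≤ m, each of which is a single Ω-class except that for m even the class with s = m and v ↦ f(v, tv) identically zero splits in two; in all 2⌊m/2⌋ + 1 classes if m is even and 2⌊m/2⌋ if m is odd. -/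
theorem result {F : Type*} [Field F] [Fintype F] [CharP F 2] {m : ℕ} (hm : 1 ≤ m) (h : Fintype.card F ≠ 2 ∨ m ≠ 2) : Nat.card {C : ConjClasses ↥(Cfsg.Omega F (Cfsg.quadFormPlus m F)) // ∃ g : ↥(Cfsg.Omega F (Cfsg.quadFormPlus m F)), ConjClasses.mk g = C ∧ orderOf g = 2} = 2 * (m / 2) + (if Even m then 1 else 0) := by
  classical
  let rep : (Fin (m / 2) ⊕ Fin (m / 2)) ⊕ {_u : Unit // Even m} →
      ↥(Cfsg.Omega F (Cfsg.quadFormPlus m F)) := fun x =>
    ⟨Cfsg.Agent.Lib.helper50.repO F m x, Cfsg.Agent.Lib.helper50.repO_mem h x⟩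
  have hsqG : ∀ g : ↥(Cfsg.Omega F (Cfsg.quadFormPlus m F)), orderOf g = 2 → g.1 ^ 2 = 1 := by
    intro g hg
    have h1 : g ^ 2 = 1 := hg ▸ pow_orderOf_eq_one g
    exact congrArg Subtype.val h1
  have hcount := Cfsg.Agent.Lib.helper50.card_inv_classes_of_reps
    (fun g : ↥(Cfsg.Omega F (Cfsg.quadFormPlus m F)) => Cfsg.Agent.Lib.helper50.invI g.1) rep
    (by
      intro x
      apply orderOf_eq_prime
      · apply Subtype.ext
        exact Cfsg.Agent.Lib.helper50.repO_sq x
      · intro h1
        exact Cfsg.Agent.Lib.helper50.repO_ne_one hm x (congrArg Subtype.val h1))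
    (by
      intro a b hab
      obtain ⟨c, hc⟩ := isConj_iff.1 hab
      have h1 : b.1 = c.1 * a.1 * c.1⁻¹ := by rw [← hc]; rfl
      change Cfsg.Agent.Lib.helper50.invI a.1 = Cfsg.Agent.Lib.helper50.invI b.1
      rw [h1, Cfsg.Agent.Lib.helper50.invI_conj hm h a.1 c.1 c.2])
    (by
      intro a b ha hb hab
      obtain ⟨g, hg, hgab⟩ := Cfsg.Agent.Lib.helper50.conj_of_invI hm h a.1 b.1
        (hsqG a ha) (hsqG b hb) hab
      rw [isConj_iff]
      exact ⟨⟨g, hg⟩, Subtype.ext hgab⟩)
    (by
      intro x y hxy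
      exact Cfsg.Agent.Lib.helper50.repO_inj hm h x y hxy)
    (by
      intro g hg
      have hg1 : g.1 ≠ 1 := by
        intro h1
        have : g = 1 := Subtype.ext h1
        rw [this, orderOf_one] at hg
        omega
      obtain ⟨x, hx⟩ := Cfsg.Agent.Lib.helper50.repO_surj hm h g.1 (hsqG g hg) hg1 g.2
      exact ⟨x, hx⟩)
  rw [hcount]
  by_cases hE : Even m
  · simp [hE]
    ring
  · simp [hE]
    ring

end Cfsg.Agent.S2597
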