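import Cfsg.Statements.S2599

set_option autoImplicit false
open Cfsg

namespace Cfsg.Agent.S2599

/-- An irreducible invariant subspace of a semisimple isometry is non-degenerate or totally singular: let Q be a quadratic form on F^n (F finite of characteristic p) with non-degenerate polar form f, x an isometry of Q of order prime to p, and U a non-zero x-invariant subspace containing no x-invariant subspace other than 0 and U. Then U meets its f-orthogonal trivially, or Q vanishes on U, or p = 2, U is a line spanned by a non-singular vector and x fixes U pointwise. -/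
theorem result {F : Type*} [Field F] [Fintype F] {p : ℕ} [Fact p.Prime] [CharP F p] {n : ℕ} (Q : QuadraticForm F (Fin n → F)) (hQ : (QuadraticMap.polarBilin Q).Nondegenerate) (x : ↥(Cfsg.isometryGroup F ⇑Q)) (hx : (orderOf x).Coprime p) (U : Submodule F (Fin n → F)) (hU0 : U ≠ ⊥) (hUx : ∀ u ∈ U, ((x : Matrix.GeneralLinearGroup (Fin n) F) : Matrix (Fin n) (Fin n) F).mulVec u ∈ U) (hirr : ∀ W : Submodule F (Fin n → F), W ≤ U → (∀ w ∈ W, ((x : Matrix.GeneralLinearGroup (Fin n) F) : Matrix (Fin n) (Fin n) F).mulVec w ∈ W) → W = ⊥ ∨ W = U) : U ⊓ LinearMap.BilinForm.orthogonal (QuadraticMap.polarBilin Q) U = ⊥ ∨ (∀ u ∈ U, Q u = 0) ∨ (p = 2 ∧ Module.finrank F U = 1 ∧ (∃ u ∈ U, Q u ≠ 0) ∧ ∀ u ∈ U, ((x : Matrix.GeneralLinearGroup (Fin n) F) : Matrix (Fin n) (Fin n) F).mulVec u = u) := by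
  classical
  set A : Matrix (Fin n) (Fin n) F := ((x : Matrix.GeneralLinearGroup (Fin n) F) : Matrix (Fin n) (Fin n) F) with hA
  have hQA : ∀ u, Q (A.mulVec u) = Q u := fun u => x.2 u 0
  have hpol : ∀ u v, QuadraticMap.polar Q (A.mulVec u) (A.mulVec v) = QuadraticMap.polar Q u v := by
    intro u v
    simp only [QuadraticMap.polar]
    rw [← Matrix.mulVec_add, hQA, hQA, hQA]
  have hBA : (((x : Matrix.GeneralLinearGroup (Fin n) F)⁻¹ : Matrix.GeneralLinearGroup (Fin n) F) : Matrix (Fin n) (Fin n) F) * A = 1 := by
    rw [hA, ← Units.val_mul, inv_mul_cancel]; rfl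
  -- A restricted to U is surjective
  have hsurj : ∀ u ∈ U, ∃ u' ∈ U, A.mulVec u' = u := by
    let g : U →ₗ[F] U := (Matrix.toLin' A).restrict (fun u hu => hUx u hu)
    have hinj : Function.Injective g := by
      intro a b hab
      have h1 : A.mulVec a = A.mulVec b := congrArg Subtype.val hab
      have h2 := congrArg (fun v => Matrix.mulVec (((x : Matrix.GeneralLinearGroup (Fin n) F)⁻¹ : Matrix.GeneralLinearGroup (Fin n) F) : Matrix (Fin n) (Fin n) F) v) h1
      simp only [Matrix.mulVec_mulVec, hBA, Matrix.one_mulVec] at h2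
      exact Subtype.ext h2
    have hs := LinearMap.surjective_of_injective hinj
    intro u hu
    obtain ⟨u', hu'⟩ := hs ⟨u, hu⟩
    exact ⟨u', u'.2, congrArg Subtype.val hu'⟩
  set f := QuadraticMap.polarBilin Q with hf
  rcases hirr (U ⊓ LinearMap.BilinForm.orthogonal f U) inf_le_left (by
      intro w hw
      refine ⟨hUx w hw.1, ?_⟩
      show A.mulVec w ∈ LinearMap.BilinForm.orthogonal f U
      rw [LinearMap.BilinForm.mem_orthogonal_iff]
      intro u hu
      obtain ⟨u', hu', rfl⟩ := hsurj u hu
      show QuadraticMap.polar Q (A.mulVec u') (A.mulVec w) = 0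
      rw [hpol]
      exact (LinearMap.BilinForm.mem_orthogonal_iff.mp hw.2) u' hu') with h | h
  · left; exact h
  · right
    have hUU : ∀ u ∈ U, ∀ v ∈ U, QuadraticMap.polar Q u v = 0 := by
      intro u hu v hv
      have : v ∈ U ⊓ LinearMap.BilinForm.orthogonal f U := by rw [h]; exact hv
      exact (LinearMap.BilinForm.mem_orthogonal_iff.mp this.2) u hu
    have hadd : ∀ u ∈ U, ∀ v ∈ U, Q (u + v) = Q u + Q v := by
      intro u hu v hv
      have := hUU u hu v hv
      simp only [QuadraticMap.polar] at this
      linear_combination this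
    by_cases hp : p = 2
    · subst hp
      have h2 : ∀ a : F, a + a = 0 := fun a => CharTwo.add_self_eq_zero a
      -- singular vectors
      let S : Submodule F (Fin n → F) := 
        { carrier := {u | u ∈ U ∧ Q u = 0}
          add_mem' := by
            rintro a b ⟨ha, ha0⟩ ⟨hb, hb0⟩
            exact ⟨U.add_mem ha hb, by rw [hadd a ha b hb, ha0, hb0, add_zero]⟩
          zero_mem' := ⟨U.zero_mem, by simp⟩
          smul_mem' := by
            rintro c a ⟨ha, ha0⟩
            exact ⟨U.smul_mem c ha, by rw [QuadraticMap.map_smul, ha0, smul_zero]⟩ }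
      rcases hirr S (fun u hu => hu.1) (fun w hw => ⟨hUx w hw.1, by rw [hQA]; exact hw.2⟩) with hS | hS
      · right
        have hS0 : ∀ u ∈ U, Q u = 0 → u = 0 := by
          intro u hu hu0
          have : u ∈ S := ⟨hu, hu0⟩
          rw [hS] at this
          simpa using this
        obtain ⟨u₀, hu₀, hu₀0⟩ := Submodule.exists_mem_ne_zero_of_ne_bot hU0
        have hQu₀ : Q u₀ ≠ 0 := fun h0 => hu₀0 (hS0 u₀ hu₀ h0)
        refine ⟨rfl, ?_, ⟨u₀, hu₀, hQu₀⟩, ?_⟩
        · have hUspan : U = Submodule.span F {u₀} := by
            apply le_antisymm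
            · intro u hu
              obtain ⟨c, hc⟩ := FiniteField.isSquare_of_char_two (F := F) (CharP.ringChar_of_prime_eq_zero Nat.prime_two (by simpa using CharP.cast_eq_zero F 2)) (Q u / Q u₀)
              have h0 : Q (u + c • u₀) = 0 := by
                rw [hadd u hu _ (U.smul_mem c hu₀), QuadraticMap.map_smul, smul_eq_mul, ← hc,
                  div_mul_cancel₀ _ hQu₀]
                exact h2 _
              have h1 := hS0 _ (U.add_mem hu (U.smul_mem c hu₀)) h0
              have h3 : u = c • u₀ := by
                have : u = (u + c • u₀) + c • u₀ := by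
                  rw [add_assoc, ← add_smul, h2, zero_smul, add_zero]
                rw [this, h1, zero_add]
              rw [h3]
              exact Submodule.smul_mem _ _ (Submodule.mem_span_singleton_self _)
            · rw [Submodule.span_singleton_le_iff_mem]; exact hu₀
          rw [hUspan]
          exact finrank_span_singleton hu₀0
        · intro u hu
          have h0 : Q (A.mulVec u + u) = 0 := by
            rw [hadd _ (hUx u hu) u hu, hQA]
            exact h2 _
          have h1 := hS0 _ (U.add_mem (hUx u hu) hu) h0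
          have : A.mulVec u = (A.mulVec u + u) + u := by
            rw [add_assoc]
            have : u + u = 0 := by
              ext i; exact h2 _
            rw [this, add_zero]
          rw [this, h1, zero_add]
      · left
        intro u hu
        have : u ∈ S := by rw [hS]; exact hu
        exact this.2
    · left
      intro u hu
      have h1 := hUU u hu u hu
      rw [QuadraticMap.polar_self] at h1
      have h2 : (2 : F) ≠ 0 := by
        intro h0
        have : ((2 : ℕ) : F) = 0 := by exact_mod_cast h0
        rw [CharP.cast_eq_zero_iff F p 2] at this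
        have hp' := (Nat.prime_dvd_prime_iff_eq (Fact.out : p.Prime) Nat.prime_two).mp this
        exact hp hp'
      have h3 : (2 : F) * Q u = 0 := by
        rw [← h1]; simp
      exact (mul_eq_zero.mp h3).resolve_left h2

end Cfsg.Agent.S2599
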