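import Cfsg.Statements.S2602
import Mathlib
import Cfsg.Agent.Lib.helper47.AutPSL2Out

set_option autoImplicit false
open Cfsg
open Cfsg.Agent.Lib.helper47.AutPSL2

namespace Cfsg.Agent.S2602

/-- Structure of the outer automorphism group of PSL_2(q), q = p^f ≥ 4: it has a normal cyclic subgroup of order gcd(2, q − 1) (diagonal automorphisms) with cyclic quotient of order f (field automorphisms); there is no graph automorphism in dimension 2. -/
theorem result {F : Type*} [Field F] [Fintype F] {p f : ℕ} [Fact p.Prime] (hf : 1 ≤ f) (hF : Fintype.card F = p ^ f) (h4 : 4 ≤ p ^ f) : ∃ φ : Cfsg.Out (Matrix.ProjectiveSpecialLinearGroup (Fin 2) F) →* Multiplicative (ZMod f), Function.Surjective φ ∧ IsCyclic φ.ker ∧ Nat.card φ.ker = Nat.gcd 2 (p ^ f - 1) := by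
  classical
  haveI : CharP F p := charP_of_card_eq_prime_pow hF
  haveI : NeZero f := ⟨by omega⟩
  have hp : p.Prime := Fact.out
  have hInn : Cfsg.Inn (Matrix.ProjectiveSpecialLinearGroup (Fin 2) F) ≤ (phi0 hF).ker := by
    rintro _ ⟨h, rfl⟩
    rw [MonoidHom.mem_ker, phi0_eq hF _ 0 (rel_conj p h)]
    simp
  obtain ⟨φ, hφ⟩ : ∃ φ : Cfsg.Out (Matrix.ProjectiveSpecialLinearGroup (Fin 2) F) →*
      Multiplicative (ZMod f), ∀ α, φ (QuotientGroup.mk α) = phi0 hF α :=
    ⟨QuotientGroup.lift _ (phi0 hF) hInn, fun α => rfl⟩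
  have hmk : ∀ x : Cfsg.Out (Matrix.ProjectiveSpecialLinearGroup (Fin 2) F),
      ∃ α : MulAut (Matrix.ProjectiveSpecialLinearGroup (Fin 2) F), x = QuotientGroup.mk α := by
    intro x
    obtain ⟨α, rfl⟩ := QuotientGroup.mk_surjective x
    exact ⟨α, rfl⟩
  have hinner : ∀ h : Matrix.ProjectiveSpecialLinearGroup (Fin 2) F,
      (QuotientGroup.mk (MulAut.conj h) :
        Cfsg.Out (Matrix.ProjectiveSpecialLinearGroup (Fin 2) F)) = 1 := fun h =>
    (QuotientGroup.eq_one_iff _).mpr ⟨h, rfl⟩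
  have hker : ∀ x : Cfsg.Out (Matrix.ProjectiveSpecialLinearGroup (Fin 2) F), φ x = 1 →
      ∃ c : Fˣ, x = QuotientGroup.mk (dAut c) := by
    intro x hx
    obtain ⟨α, rfl⟩ := hmk x
    rw [hφ] at hx
    obtain ⟨h, c, rfl⟩ := eq_conj_mul_dAut hF α hx
    exact ⟨c, by rw [QuotientGroup.mk_mul, hinner, one_mul]⟩
  have hsqinner : ∀ s : Fˣ, (QuotientGroup.mk (dAut (s ^ 2)) :
      Cfsg.Out (Matrix.ProjectiveSpecialLinearGroup (Fin 2) F)) = 1 := fun s => by
    rw [dAut_sq]; exact hinner _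
  refine ⟨φ, ?_, ?_⟩
  · intro z
    refine ⟨QuotientGroup.mk (frobAut p ^ (Multiplicative.toAdd z).val), ?_⟩
    rw [hφ, phi0_eq hF _ _ (rel_frob_pow p _), ZMod.natCast_zmod_val]
    rfl
  · by_cases h2 : p = 2
    · have hchar : ringChar F = 2 := by rw [← h2]; exact ringChar.eq F p
      have hbot : φ.ker = ⊥ := by
        rw [Subgroup.eq_bot_iff_forall]
        intro x hx
        obtain ⟨c, rfl⟩ := hker x hx
        obtain ⟨s, hs⟩ := FiniteField.isSquare_of_char_two hchar (c : F)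
        have hs0 : s ≠ 0 := by rintro rfl; exact c.ne_zero (by rw [hs, mul_zero])
        have : c = (Units.mk0 s hs0) ^ 2 := Units.ext (by simp [hs, sq])
        rw [this]; exact hsqinner _
      rw [hbot]
      refine ⟨inferInstance, ?_⟩
      rw [Subgroup.card_bot, h2]
      symm
      exact Nat.coprime_two_left.mpr
        (Nat.Even.sub_odd Nat.one_le_two_pow (Nat.even_pow.mpr ⟨even_two, by omega⟩) odd_one)
    · have hchar : ringChar F ≠ 2 := by rw [ringChar.eq F p]; exact h2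
      have h2F : (2 : F) ≠ 0 := by
        intro h
        have : p ∣ 2 := (CharP.cast_eq_zero_iff F p 2).mp (by exact_mod_cast h)
        exact h2 ((Nat.prime_dvd_prime_iff_eq hp Nat.prime_two).mp this)
      obtain ⟨ν, hν⟩ := FiniteField.exists_nonsquare hchar
      have hν0 : ν ≠ 0 := by rintro rfl; exact hν ⟨0, by simp⟩
      obtain ⟨νu, hνu⟩ : ∃ νu : Fˣ, (νu : F) = ν := ⟨Units.mk0 ν hν0, rfl⟩
      obtain ⟨x₀, hx₀⟩ : ∃ x₀ : Cfsg.Out (Matrix.ProjectiveSpecialLinearGroup (Fin 2) F),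
          x₀ = QuotientGroup.mk (dAut νu) := ⟨_, rfl⟩
      have hx₀ker : x₀ ∈ φ.ker := by
        rw [MonoidHom.mem_ker, hx₀, hφ, phi0_eq hF _ 0 (rel_dAut p νu)]; simp
      have hx₀ne : x₀ ≠ 1 := by
        intro h
        rw [hx₀, QuotientGroup.eq_one_iff] at h
        obtain ⟨g, hg⟩ := h
        exact dAut_not_inner h2F νu (by rw [hνu]; exact hν) g hg.symm
      have hall : ∀ x ∈ φ.ker, x = 1 ∨ x = x₀ := by
        intro x hx
        obtain ⟨c, rfl⟩ := hker x hx
        rcases sq_or_nu_sq hchar ν hν (c : F) c.ne_zero with ⟨s, hs0, hs⟩ | ⟨s, hs0, hs⟩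
        · left
          have : c = (Units.mk0 s hs0) ^ 2 := Units.ext (by simp [hs])
          rw [this]; exact hsqinner _
        · right
          have : c = νu * (Units.mk0 s hs0) ^ 2 := Units.ext (by simp [hs, hνu])
          rw [this, dAut_mul, QuotientGroup.mk_mul, hsqinner, mul_one, hx₀]
      have hcard : Nat.card φ.ker = 2 := by
        rw [Nat.card_eq_two_iff]
        refine ⟨⟨1, φ.ker.one_mem⟩, ⟨x₀, hx₀ker⟩, ?_, ?_⟩
        · intro h; exact hx₀ne (congrArg Subtype.val h).symm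
        · ext ⟨x, hx⟩
          simp only [Set.mem_insert_iff, Set.mem_singleton_iff, Set.mem_univ, iff_true,
            Subtype.mk.injEq]
          exact hall x hx
      refine ⟨?_, ?_⟩
      · haveI : Fact (Nat.Prime 2) := ⟨Nat.prime_two⟩
        exact isCyclic_of_prime_card hcard
      · rw [hcard]
        symm
        apply Nat.gcd_eq_left
        have hodd : Odd (p ^ f) := (hp.odd_of_ne_two h2).pow
        exact (Nat.Odd.sub_odd hodd odd_one).two_dvd

end Cfsg.Agent.S2602
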