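-- Statement S2610 (row 2610).
import Cfsg.Statements.S2610
import Cfsg.Agent.Lib.helper49.Gram
import Cfsg.Agent.Lib.helper49.QuadOdd
import Cfsg.Agent.Lib.helper49.SpinorApps

set_option autoImplicit false
open Cfsg

namespace Cfsg.Agent.S2610

open Module Cfsg.Agent.Lib.helper49

/-- For a quadratic form Q on F^n with non-degenerate polar form, F finite of odd order and n ≥ 2 even, the isometry −1 lies in Ω (the commutator subgroup of the orthogonal group) if and only if the discriminant of Q (the determinant of the Gram matrix of its polar form) is a square. -/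
theorem result {F : Type*} [Field F] [Fintype F] (h2 : (2 : F) ≠ 0) {n : ℕ} (hn : 2 ≤ n) (he : Even n) (Q : QuadraticForm F (Fin n → F)) (hQ : (QuadraticMap.polarBilin Q).Nondegenerate) : (∃ g : ↥(Cfsg.isometryGroup F ⇑Q), g ∈ Cfsg.Omega F ⇑Q ∧ ((g : Matrix.GeneralLinearGroup (Fin n) F) : Matrix (Fin n) (Fin n) F) = -1) ↔ IsSquare (Matrix.of (fun i j : Fin n => QuadraticMap.polar ⇑Q (Pi.single i 1) (Pi.single j 1))).det := by
  classical
  let _ : Invertible (2 : F) := invertibleOfNonzero h2
  obtain ⟨b, hb⟩ := LinearMap.BilinForm.exists_orthogonal_basis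
    (LinearMap.BilinForm.isSymm_iff.mp (polarBilin_isSymm Q))
  have horth : ∀ i j, i ≠ j → QuadraticMap.polar Q (b i) (b j) = 0 := by
    intro i j hij
    have := hb hij
    simpa using this
  have hne : ∀ i, Q (b i) ≠ 0 := by
    intro i h0
    have := LinearMap.BilinForm.iIsOrtho.not_isOrtho_basis_self_of_nondegenerate hb hQ i
    apply this
    rw [QuadraticMap.polarBilin_apply_apply, QuadraticMap.polar_self, h0, smul_zero]
  set vs : List (Fin n → F) := (Finset.univ : Finset (Fin (finrank F (Fin n → F)))).toList.map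
    (fun i => b i) with hvs_def
  have hvs : ∀ v ∈ vs, Q v ≠ 0 := by
    intro v hv
    rw [hvs_def, List.mem_map] at hv
    obtain ⟨i, -, rfl⟩ := hv
    exact hne i
  have hprodM : (vs.map (fun v => Cfsg.reflectionMatrix ⇑Q v)).prod = -1 :=
    prod_refl_basis Q b horth hne
  have hlen : vs.length = n := by
    rw [hvs_def, List.length_map, Finset.length_toList, Finset.card_univ, Fintype.card_fin]
    simp
  have hprodQ : (vs.map (fun v => Q v)).prod = ∏ i, Q (b i) := by
    rw [hvs_def, List.map_map]
    exact Finset.prod_map_toList _ _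
  -- the Gram determinant
  have hgram : Matrix.of (fun i j : Fin n => QuadraticMap.polar ⇑Q (Pi.single i 1) (Pi.single j 1))
      = LinearMap.BilinForm.toMatrix' (QuadraticMap.polarBilin Q) := by
    ext i j
    simp [LinearMap.BilinForm.toMatrix'_apply]
  obtain ⟨e, he0, hdet⟩ := det_gram_eq (QuadraticMap.polarBilin Q) b
  have hdiag : Matrix.of (fun i j => QuadraticMap.polarBilin Q (b i) (b j))
      = Matrix.diagonal (fun i => 2 * Q (b i)) := by
    ext i j
    by_cases hij : i = j
    · subst hij
      simp [QuadraticMap.polar_self]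
    · simp [Matrix.diagonal_apply_ne _ hij, horth i j hij]
  rw [hdiag, Matrix.det_diagonal, Finset.prod_mul_distrib, Finset.prod_const, Finset.card_univ,
    Fintype.card_fin] at hdet
  have hfin : finrank F (Fin n → F) = n := by simp
  obtain ⟨k, hk⟩ := he
  have h2k : (2 : F) ^ k ≠ 0 := pow_ne_zero _ h2
  have hpow : (2 : F) ^ finrank F (Fin n → F) = 2 ^ k * 2 ^ k := by
    rw [hfin, hk, pow_add]
  rw [hpow] at hdet
  have hiff : IsSquare (LinearMap.BilinForm.toMatrix' (QuadraticMap.polarBilin Q)).det
      ↔ IsSquare (∏ i, Q (b i)) := by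
    rw [← isSquare_mul_sq_iff he0, ← hdet, mul_assoc,
      mul_comm ((2 : F) ^ k) (∏ i, Q (b i)), ← mul_assoc, isSquare_mul_sq_iff h2k]
  rw [hgram, hiff, ← hprodQ]
  constructor
  · rintro ⟨g, hgmem, hg⟩
    exact ((spinor_criterion h2 Q g vs hvs (hg.trans hprodM.symm)).mp hgmem).2
  · intro hsq
    refine ⟨(vs.map (reflG' Q)).prod, ?_, ?_⟩
    · refine (spinor_criterion h2 Q _ vs hvs (prod_reflG'_val Q vs hvs)).mpr ⟨?_, hsq⟩
      rw [hlen, hk]
      exact ⟨k, rfl⟩
    · rw [← hprodM]
      exact prod_reflG'_val Q vs hvs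

end Cfsg.Agent.S2610
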