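-- Statement S2612 (row 2612).
import Cfsg.Statements.S2612
import Cfsg.Agent.Lib.helper49.OPlus
import Cfsg.Agent.Lib.helper49.PermIso

set_option autoImplicit false
open Cfsg

namespace Cfsg.Agent.S2612

open Matrix Cfsg.Agent.Lib.helper49

theorem det_swap (m : ℕ) (F : Type*) [Field F] :
    (Matrix.fromBlocks 0 1 1 0 : Matrix (Fin m ⊕ Fin m) (Fin m ⊕ Fin m) F).det = (-1) ^ m := by
  have h : (Matrix.fromBlocks 1 0 1 1 : Matrix (Fin m ⊕ Fin m) (Fin m ⊕ Fin m) F)
      * Matrix.fromBlocks 0 1 1 0 = Matrix.fromBlocks 0 1 1 1 := by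
    rw [Matrix.fromBlocks_multiply]
    simp
  have h2 := congrArg Matrix.det h
  rw [Matrix.det_mul, Matrix.det_fromBlocks_zero₁₂, Matrix.det_fromBlocks_one₂₂] at h2
  simpa [Matrix.det_neg] using h2

theorem det_antidiag {m : ℕ} {F : Type*} [Field F] (B C : Matrix (Fin m) (Fin m) F) :
    (Matrix.fromBlocks 0 B C 0).det = (-1) ^ m * (B.det * C.det) := by
  have h : Matrix.fromBlocks 0 B C 0
      = Matrix.fromBlocks B 0 0 C * (Matrix.fromBlocks 0 1 1 0 : Matrix (Fin m ⊕ Fin m) (Fin m ⊕ Fin m) F) := by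
    rw [Matrix.fromBlocks_multiply]
    simp
  rw [h, Matrix.det_mul, Matrix.det_fromBlocks_zero₂₁, det_swap]
  ring

/-- For the hyperbolic quadratic form Σ x_i y_i on F^(2m) (F finite, m ≥ 1, excluding m = 2 over the field of two elements), Ω⁺_2m(F) (the commutator subgroup of the orthogonal group) contains an element interchanging the two complementary maximal totally singular subspaces {y = 0} and {x = 0} if and only if m is even (dimension divisible by 4). -/
theorem result {F : Type*} [Field F] [Fintype F] {m : ℕ} (hm : 1 ≤ m) (h : Fintype.card F ≠ 2 ∨ m ≠ 2) : (∃ g : ↥(Cfsg.isometryGroup F (Cfsg.quadFormPlus m F)), g ∈ Cfsg.Omega F (Cfsg.quadFormPlus m F) ∧ (∀ v : Fin m ⊕ Fin m → F, (∀ i, v (Sum.inr i) = 0) → ∀ i, (((g : Matrix.GeneralLinearGroup (Fin m ⊕ Fin m) F) : Matrix (Fin m ⊕ Fin m) (Fin m ⊕ Fin m) F).mulVec v) (Sum.inl i) = 0) ∧ (∀ v : Fin m ⊕ Fin m → F, (∀ i, v (Sum.inl i) = 0) → ∀ i, (((g : Matrix.GeneralLinearGroup (Fin m ⊕ Fin m) F) : Matrix (Fin m ⊕ Fin m) (Fin m ⊕ Fin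 m) F).mulVec v) (Sum.inr i) = 0)) ↔ Even m := by
  constructor
  · rintro ⟨g, hg, h1, h2⟩
    set M := ((g : Matrix.GeneralLinearGroup (Fin m ⊕ Fin m) F) : Matrix (Fin m ⊕ Fin m) (Fin m ⊕ Fin m) F)
      with hM
    have hA : M.toBlocks₁₁ = 0 := by
      ext i j
      have := h1 (Pi.single (Sum.inl j) 1) (by intro i; simp) i
      rw [Matrix.mulVec_single_one] at this
      exact this
    have hD : M.toBlocks₂₂ = 0 := by
      ext i j
      have := h2 (Pi.single (Sum.inr j) 1) (by intro i; simp) i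
      rw [Matrix.mulVec_single_one] at this
      exact this
    have hMb : M = Matrix.fromBlocks 0 M.toBlocks₁₂ M.toBlocks₂₁ 0 := by
      conv_lhs => rw [← Matrix.fromBlocks_toBlocks M, hA, hD]
    have hP : PresPlus M := presPlus_of_mem g
    have hP' := hP
    rw [hMb] at hP'
    obtain ⟨-, -, r3, -, -, -⟩ := presPlus_blocks hP'
    have hBC : M.toBlocks₁₂ᵀ * M.toBlocks₂₁ = 1 := by simpa using r3
    by_cases h20 : (2 : F) = 0
    · -- characteristic two: the Dickson invariant
      have hd := dicksonTrace_eq_zero_of_mem_Omega h20 g hg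
      rw [dicksonTrace, hBC, Matrix.trace_one, Fintype.card_fin] at hd
      by_contra hodd
      rw [Nat.not_even_iff_odd] at hodd
      obtain ⟨j, rfl⟩ := hodd
      push_cast at hd
      rw [h20, zero_mul, zero_add] at hd
      exact one_ne_zero hd
    · -- odd characteristic: the determinant
      have hdet : detHom (Cfsg.quadFormPlus m F) g = 1 :=
        MonoidHom.mem_ker.mp (Abelianization.commutator_subset_ker (detHom (Cfsg.quadFormPlus m F)) hg)
      have hdet' : M.det = 1 := by
        have := congrArg Units.val hdet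
        simpa [detHom] using this
      rw [hMb, det_antidiag] at hdet'
      have hBCdet : M.toBlocks₁₂.det * M.toBlocks₂₁.det = 1 := by
        have := congrArg Matrix.det hBC
        rwa [Matrix.det_mul, Matrix.det_transpose, Matrix.det_one] at this
      rw [hBCdet, mul_one] at hdet'
      by_contra hodd
      rw [Nat.not_even_iff_odd] at hodd
      rw [hodd.neg_one_pow] at hdet'
      apply h20
      linear_combination -hdet'
  · rintro ⟨k, rfl⟩
    obtain ⟨g, hg, hgv⟩ := exists_swap_mem_Omega (F := F) k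
    refine ⟨g, hg, fun v hv i => ?_, fun v hv i => ?_⟩
    · rw [hgv]
      exact hv i
    · rw [hgv]
      exact hv i

end Cfsg.Agent.S2612
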