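-- Statement S2613 (row 2613).
import Cfsg.Statements.S2613
import Cfsg.Agent.Lib.helper49.Forms
import Cfsg.Agent.Lib.helper49.SpinorApps

set_option autoImplicit false
open Cfsg

namespace Cfsg.Agent.S2613

open Cfsg.Agent.Lib.helper49

/-- For the hyperbolic form Σ x_j y_j on F^(2m), F finite with q elements, q odd, and 1 ≤ i ≤ m: the involution negating the first i hyperbolic pairs (x_j, y_j ↦ −x_j, −y_j for j < i) and fixing the rest lies in Ω⁺_2m(q) (commutator subgroup of the orthogonal group) if and only if q^i ≡ 1 (mod 4); its (−1)-eigenspace is a hyperbolic 2i-space. -/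
theorem result {F : Type*} [Field F] [Fintype F] {q : ℕ} (hF : Fintype.card F = q) (hq : Odd q) {m : ℕ} (i : ℕ) (hi : 1 ≤ i) (him : i ≤ m) : (∃ g : ↥(Cfsg.isometryGroup F (Cfsg.quadFormPlus m F)), g ∈ Cfsg.Omega F (Cfsg.quadFormPlus m F) ∧ ((g : Matrix.GeneralLinearGroup (Fin m ⊕ Fin m) F) : Matrix (Fin m ⊕ Fin m) (Fin m ⊕ Fin m) F) = Matrix.diagonal (fun k : Fin m ⊕ Fin m => if (Sum.elim (fun j : Fin m => (j : ℕ)) (fun j : Fin m => (j : ℕ)) k) < i then (-1 : F) else 1)) ↔ q ^ i % 4 = 1 := by
  classical
  have h2 : (2 : F) ≠ 0 := by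
    have hchar : ringChar F ≠ 2 := by
      intro h
      have := FiniteField.even_card_iff_char_two.mp h
      rw [hF] at this
      obtain ⟨j, rfl⟩ := hq
      omega
    exact Ring.two_ne_zero hchar
  rw [← plusForm_coe, ← isSquare_neg_one_pow_iff_mod hF hq i]
  set Q := plusForm m F with hQdef
  let e : Fin i → Fin m ⊕ Fin m := fun j => Sum.inl (Fin.castLE him j)
  let f : Fin i → Fin m ⊕ Fin m := fun j => Sum.inr (Fin.castLE him j)
  obtain ⟨vs, hvs, hlen, hprodQ, hprodM⟩ := neg_pairs h2 Q i e f
    (fun j => plusForm_single m _) (fun j => plusForm_single m _)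
    (fun j j' => by
      rw [polar_plusForm_single]
      simp only [e, f, gramPlus, Matrix.fromBlocks_apply₁₂, Matrix.one_apply, Fin.castLE_inj])
    (fun j j' _ => by
      rw [polar_plusForm_single]
      simp only [e, gramPlus, Matrix.fromBlocks_apply₁₁, Matrix.zero_apply])
    (fun j j' _ => by
      rw [polar_plusForm_single]
      simp only [f, gramPlus, Matrix.fromBlocks_apply₂₂, Matrix.zero_apply])
    (fun k hk1 hk2 j => by
      rw [polar_plusForm_single, polar_plusForm_single]
      rcases k with k | k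
      · simp only [e, f, gramPlus, Matrix.fromBlocks_apply₁₁, Matrix.zero_apply,
          Matrix.fromBlocks_apply₂₁, Matrix.one_apply, true_and]
        rw [if_neg]
        intro h
        exact hk1 j (by simp only [e]; rw [h])
      · simp only [e, f, gramPlus, Matrix.fromBlocks_apply₁₂, Matrix.one_apply,
          Matrix.fromBlocks_apply₂₂, Matrix.zero_apply, and_true]
        rw [if_neg]
        intro h
        exact hk2 j (by simp only [f]; rw [h]))
  have hdiag : (fun k : Fin m ⊕ Fin m =>
      if (Sum.elim (fun j : Fin m => (j : ℕ)) (fun j : Fin m => (j : ℕ)) k) < i then (-1 : F) else 1)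
      = (fun k => if (∃ j, k = e j) ∨ (∃ j, k = f j) then (-1 : F) else 1) := by
    funext k
    congr 1
    rcases k with k | k
    · simp only [Sum.elim_inl, e, f, Sum.inl.injEq, reduceCtorEq, exists_false, or_false, eq_iff_iff]
      constructor
      · intro h
        exact ⟨⟨k, h⟩, Fin.ext rfl⟩
      · rintro ⟨j, rfl⟩
        exact j.2
    · simp only [Sum.elim_inr, e, f, Sum.inr.injEq, reduceCtorEq, exists_false, false_or, eq_iff_iff]
      constructor
      · intro h
        exact ⟨⟨k, h⟩, Fin.ext rfl⟩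
      · rintro ⟨j, rfl⟩
        exact j.2
  rw [hdiag, ← hprodM, ← hprodQ]
  constructor
  · rintro ⟨g, hgmem, hg⟩
    exact ((spinor_criterion h2 Q g vs hvs hg).mp hgmem).2
  · intro hsq
    exact ⟨(vs.map (reflG' Q)).prod,
      (spinor_criterion h2 Q _ vs hvs (prod_reflG'_val Q vs hvs)).mpr ⟨hlen, hsq⟩,
      prod_reflG'_val Q vs hvs⟩

end Cfsg.Agent.S2613
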