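-- Statement S2614 (row 2614).
import Cfsg.Statements.S2614
import Cfsg.Agent.Lib.helper49.Forms
import Cfsg.Agent.Lib.helper49.SpinorApps

set_option autoImplicit false
open Cfsg

namespace Cfsg.Agent.S2614

open Cfsg.Agent.Lib.helper49

/-- For the form x_0² + Σ x_j y_j on F^(2m+1), F finite with q elements, q odd, and 1 ≤ i ≤ m: the involution of determinant one negating the first i hyperbolic pairs (and fixing x_0 and the other pairs) lies in Ω_(2m+1)(q) (commutator subgroup of the orthogonal group) if and only if q^i ≡ 1 (mod 4); its (−1)-eigenspace is a hyperbolic 2i-space. -/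
theorem result {F : Type*} [Field F] [Fintype F] {q : ℕ} (hF : Fintype.card F = q) (hq : Odd q) {m : ℕ} (i : ℕ) (hi : 1 ≤ i) (him : i ≤ m) : (∃ g : ↥(Cfsg.isometryGroup F (Cfsg.quadFormOdd m F)), g ∈ Cfsg.Omega F (Cfsg.quadFormOdd m F) ∧ ((g : Matrix.GeneralLinearGroup (Unit ⊕ (Fin m ⊕ Fin m)) F) : Matrix (Unit ⊕ (Fin m ⊕ Fin m)) (Unit ⊕ (Fin m ⊕ Fin m)) F) = Matrix.diagonal (fun k : Unit ⊕ (Fin m ⊕ Fin m) => if (Sum.elim (fun _ : Unit => i) (Sum.elim (fun j : Fin m => (j : ℕ)) (fun j : Fin m => (j : ℕ))) k) < i then (-1 : F) else 1)) ↔ q ^ i % 4 = 1 := by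
  classical
  have h2 : (2 : F) ≠ 0 := by
    have hchar : ringChar F ≠ 2 := by
      intro h
      have := FiniteField.even_card_iff_char_two.mp h
      rw [hF] at this
      obtain ⟨j, rfl⟩ := hq
      omega
    exact Ring.two_ne_zero hchar
  rw [← oddForm_coe, ← isSquare_neg_one_pow_iff_mod hF hq i]
  set Q := oddForm m F with hQdef
  let e : Fin i → Unit ⊕ (Fin m ⊕ Fin m) := fun j => Sum.inr (Sum.inl (Fin.castLE him j))
  let f : Fin i → Unit ⊕ (Fin m ⊕ Fin m) := fun j => Sum.inr (Sum.inr (Fin.castLE him j))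
  obtain ⟨vs, hvs, hlen, hprodQ, hprodM⟩ := neg_pairs h2 Q i e f
    (fun j => oddForm_single_inr m _) (fun j => oddForm_single_inr m _)
    (fun j j' => by
      rw [polar_oddForm_single]
      simp only [e, f, gramOdd, Matrix.fromBlocks_apply₂₂, Matrix.fromBlocks_apply₁₂, Matrix.one_apply,
        Fin.castLE_inj])
    (fun j j' _ => by
      rw [polar_oddForm_single]
      simp only [e, gramOdd, Matrix.fromBlocks_apply₂₂, Matrix.fromBlocks_apply₁₁, Matrix.zero_apply])
    (fun j j' _ => by
      rw [polar_oddForm_single]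
      simp only [f, gramOdd, Matrix.fromBlocks_apply₂₂, Matrix.zero_apply])
    (fun k hk1 hk2 j => by
      rw [polar_oddForm_single, polar_oddForm_single]
      rcases k with k | k | k
      · simp only [e, f, gramOdd, Matrix.fromBlocks_apply₂₁, Matrix.zero_apply, and_self]
      · simp only [e, f, gramOdd, Matrix.fromBlocks_apply₂₂, Matrix.fromBlocks_apply₁₁,
          Matrix.zero_apply, Matrix.fromBlocks_apply₂₁, Matrix.one_apply, true_and]
        rw [if_neg]
        intro h
        exact hk1 j (by simp only [e]; rw [h])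
      · simp only [e, f, gramOdd, Matrix.fromBlocks_apply₂₂, Matrix.fromBlocks_apply₁₂,
          Matrix.one_apply, Matrix.zero_apply, and_true]
        rw [if_neg]
        intro h
        exact hk2 j (by simp only [f]; rw [h]))
  have hdiag : (fun k : Unit ⊕ (Fin m ⊕ Fin m) =>
      if (Sum.elim (fun _ : Unit => i) (Sum.elim (fun j : Fin m => (j : ℕ)) (fun j : Fin m => (j : ℕ))) k) < i
        then (-1 : F) else 1)
      = (fun k => if (∃ j, k = e j) ∨ (∃ j, k = f j) then (-1 : F) else 1) := by
    funext k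
    congr 1
    rcases k with k | k | k
    · simp [e, f]
    · simp only [Sum.elim_inr, Sum.elim_inl, e, f, Sum.inr.injEq, Sum.inl.injEq, reduceCtorEq,
        exists_false, or_false, eq_iff_iff]
      constructor
      · intro h
        exact ⟨⟨k, h⟩, Fin.ext rfl⟩
      · rintro ⟨j, rfl⟩
        exact j.2
    · simp only [Sum.elim_inr, e, f, Sum.inr.injEq, reduceCtorEq, exists_false, false_or, eq_iff_iff]
      constructor
      · intro h
        exact ⟨⟨k, h⟩, Fin.ext rfl⟩
      · rintro ⟨j, rfl⟩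
        exact j.2
  rw [hdiag, ← hprodM, ← hprodQ]
  constructor
  · rintro ⟨g, hgmem, hg⟩
    exact ((spinor_criterion h2 Q g vs hvs hg).mp hgmem).2
  · intro hsq
    exact ⟨(vs.map (reflG' Q)).prod,
      (spinor_criterion h2 Q _ vs hvs (prod_reflG'_val Q vs hvs)).mpr ⟨hlen, hsq⟩,
      prod_reflG'_val Q vs hvs⟩

end Cfsg.Agent.S2614
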