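-- Statement S2618 (row 2618).
import Cfsg.Statements.S2618
import Cfsg.Agent.Lib.helper49.Witt

set_option autoImplicit false
open Cfsg

namespace Cfsg.Agent.S2618

open Module Cfsg.Agent.Lib.helper49

/-- Standard (parabolic) basis of a non-degenerate quadratic space of odd dimension 2m + 1 over a finite field (the non-degeneracy of the polar form forces the characteristic to be odd): there is a basis e_i, f_i (i < m), x with Q(e_i) = Q(f_i) = 0, B(e_i, f_j) = δ_ij (B the polar form), the e's pairwise orthogonal and the f's pairwise orthogonal, x orthogonal to all of them and Q(x) ≠ 0. -/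
theorem result {F V : Type*} [Field F] [Finite F] [AddCommGroup V] [Module F V] [FiniteDimensional F V] {m : ℕ} (hV : Module.finrank F V = 2 * m + 1) (Q : QuadraticForm F V) (hQ : (QuadraticMap.polarBilin Q).Nondegenerate) : ∃ b : Module.Basis (Unit ⊕ (Fin m ⊕ Fin m)) F V, Q (b (Sum.inl ())) ≠ 0 ∧ (∀ i, QuadraticMap.polar ⇑Q (b (Sum.inl ())) (b (Sum.inr (Sum.inl i))) = 0 ∧ QuadraticMap.polar ⇑Q (b (Sum.inl ())) (b (Sum.inr (Sum.inr i))) = 0) ∧ (∀ i, Q (b (Sum.inr (Sum.inl i))) = 0 ∧ Q (b (Sum.inr (Sum.inr i))) = 0) ∧ (∀ i j, QuadraticMap.polar ⇑Q (b (Sum.inr (Sum.inl i))) (b (Sum.inr (Sum.inr j))) = if i = j then 1 else 0) ∧ (∀ i j, QuadraticMap.polar ⇑Q (b (Sum.inr (Sum.inl i))) (b (Sum.inr (Sum.inl j))) = 0 ∧ QuadraticMap.polar ⇑Q (b (Sum.inr (Sum.inr i))) (b (Sum.inr (Sum.inr j))) = 0) := by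
  classical
  obtain ⟨k, e, f, W, h1, h2, h3, h4, h5, h6, h7, h8, h9⟩ := witt_decomp (2 * m + 1) hV Q hQ
  have hWnd : (QuadraticMap.polarBilin (restrictQ Q W)).Nondegenerate :=
    (nondegenerate_restrictQ_iff Q W).mpr h8
  have hW2 : finrank F W ≤ 2 :=
    finrank_le_two_of_anisotropic (restrictQ Q W) hWnd (fun w hw => Subtype.ext (h7 w w.2 hw))
  have hW1 : finrank F W = 1 := by omega
  have hk : k = m := by omega
  subst hk
  have hWpos : 0 < finrank F W := by omega
  obtain ⟨x, hx⟩ : ∃ x : W, x ≠ 0 := Module.finrank_pos_iff_exists_ne_zero.mp hWpos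
  have hQx : Q (x : V) ≠ 0 := fun h0 => hx (Subtype.ext (h7 x x.2 h0))
  have hxx : QuadraticMap.polar Q (x : V) (x : V) ≠ 0 := by
    intro h0
    apply hx
    apply Subtype.ext
    apply h8 x x.2
    intro w' hw'
    obtain ⟨c, hc⟩ := (finrank_eq_one_iff_of_nonzero' x hx).mp hW1 ⟨w', hw'⟩
    have : w' = c • (x : V) := by
      have := congrArg Subtype.val hc
      simpa using this.symm
    rw [this, QuadraticMap.polar_smul_right, h0, smul_zero]
  have h6' : ∀ i, QuadraticMap.polar Q (x : V) (e i) = 0 ∧ QuadraticMap.polar Q (x : V) (f i) = 0 := by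
    intro i
    rw [QuadraticMap.polar_comm Q _ (e i), QuadraticMap.polar_comm Q _ (f i)]
    exact h6 x x.2 i
  have h3' : ∀ i j, QuadraticMap.polar Q (f i) (e j) = if i = j then 1 else 0 := by
    intro i j
    rw [QuadraticMap.polar_comm, h3]
    simp [eq_comm]
  let v : Unit ⊕ (Fin k ⊕ Fin k) → V := Sum.elim (fun _ => (x : V)) (Sum.elim e f)
  let v' : Unit ⊕ (Fin k ⊕ Fin k) → V :=
    Sum.elim (fun _ => (QuadraticMap.polar Q (x : V) (x : V))⁻¹ • (x : V)) (Sum.elim f e)
  have hli : LinearIndependent F v := by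
    apply linearIndependent_of_dual (QuadraticMap.polarBilin Q) v v'
    rintro (⟨⟩ | i | i) (⟨⟩ | j | j)
    · show QuadraticMap.polar Q (x : V) ((QuadraticMap.polar Q (x : V) (x : V))⁻¹ • (x : V)) = _
      rw [QuadraticMap.polar_smul_right, smul_eq_mul, inv_mul_cancel₀ hxx]
      simp
    all_goals simp [v, v', h6', (h6 x x.2 _).1, (h6 x x.2 _).2, h3, h3', h4, h5]
  have hcard : Fintype.card (Unit ⊕ (Fin k ⊕ Fin k)) = finrank F V := by
    simp [hV]
    omega
  let b := basisOfLinearIndependentOfCardEqFinrank hli hcard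
  have hb : ⇑b = v := coe_basisOfLinearIndependentOfCardEqFinrank hli hcard
  refine ⟨b, ?_, ?_, ?_, ?_, ?_⟩
  · rw [hb]
    exact hQx
  · intro i
    rw [hb]
    exact h6' i
  · intro i
    rw [hb]
    exact ⟨h1 i, h2 i⟩
  · intro i j
    rw [hb]
    exact h3 i j
  · intro i j
    rw [hb]
    exact ⟨h4 i j, h5 i j⟩

end Cfsg.Agent.S2618
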