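-- Statement S2619 (row 2619).
import Cfsg.Statements.S2619

set_option autoImplicit false
open Cfsg

namespace Cfsg.Agent.S2619

/-- Over a finite field of characteristic two, given an alternating bilinear form B on a finite-dimensional space, a basis (v_i) and scalars (λ_i), there is exactly one quadratic form whose polar form is B and whose value at each v_i is λ_i. -/
theorem result {F V ι : Type*} [Field F] [Finite F] [CharP F 2] [AddCommGroup V] [Module F V] [Fintype ι] (b : Module.Basis ι F V) (B : LinearMap.BilinForm F V) (hB : B.IsAlt) (c : ι → F) : ∃! Q : QuadraticForm F V, QuadraticMap.polarBilin Q = B ∧ ∀ i, Q (b i) = c i := by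
  classical
  have h2 : (2 : F) = 0 := by exact_mod_cast CharP.cast_eq_zero F 2
  let ord : ι → ℕ := fun i => (Fintype.equivFin ι i : ℕ)
  have hord : ∀ i j, ord i = ord j → i = j := by
    intro i j h
    exact (Fintype.equivFin ι).injective (Fin.ext h)
  let M : Matrix ι ι F := fun i j => if ord i < ord j then B (b i) (b j) else if i = j then c i else 0
  let A : LinearMap.BilinForm F V := Matrix.toBilin b M
  let Q : QuadraticForm F V := LinearMap.BilinMap.toQuadraticMap A
  have hA : ∀ i j, A (b i) (b j) = M i j := by
    intro i j
    rw [← LinearMap.BilinForm.toMatrix_apply b, LinearMap.BilinForm.toMatrix_toBilin]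
  have hsymm : ∀ x y, B x y = B y x := by
    intro x y
    have := hB.neg_eq x y
    rw [← this]
    have h3 : B x y + B x y = 0 := by linear_combination (B x y) * h2
    linear_combination h3
  have hpol : QuadraticMap.polarBilin Q = B := by
    apply LinearMap.BilinForm.ext_basis b
    intro i j
    rw [QuadraticMap.polarBilin_apply_apply, LinearMap.BilinMap.polar_toQuadraticMap, hA, hA]
    simp only [M]
    rcases lt_trichotomy (ord i) (ord j) with h | h | h
    · have hji : j ≠ i := by
        rintro rfl
        exact lt_irrefl _ h
      rw [if_pos h, if_neg (not_lt.mpr h.le), if_neg hji, add_zero]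
    · have hij := hord i j h
      subst hij
      rw [if_neg (lt_irrefl _), if_pos rfl, hB.self_eq_zero]
      linear_combination (c i) * h2
    · have hij : i ≠ j := by
        rintro rfl
        exact lt_irrefl _ h
      rw [if_neg (not_lt.mpr h.le), if_neg hij, if_pos h, zero_add, hsymm]
  refine ⟨Q, ⟨hpol, fun i => ?_⟩, ?_⟩
  · show A (b i) (b i) = c i
    rw [hA]
    simp [M]
  · rintro Q' ⟨hQ'1, hQ'2⟩
    ext x
    have hx : x ∈ Submodule.span F (Set.range b) := by
      rw [b.span_eq]
      exact Submodule.mem_top
    induction hx using Submodule.span_induction with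
    | mem x hx =>
      obtain ⟨i, rfl⟩ := hx
      rw [hQ'2]
      show c i = A (b i) (b i)
      rw [hA]
      simp [M]
    | zero => rw [map_zero, map_zero]
    | add x y _ _ hx hy =>
      rw [QuadraticMap.map_add Q', QuadraticMap.map_add Q, hx, hy]
      congr 1
      rw [← QuadraticMap.polarBilin_apply_apply, ← QuadraticMap.polarBilin_apply_apply, hQ'1, hpol]
    | smul a x _ hx =>
      rw [QuadraticMap.map_smul, QuadraticMap.map_smul, hx]

end Cfsg.Agent.S2619
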