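-- Statement S2620 (row 2620).
import Cfsg.Statements.S2620
import Cfsg.Agent.Lib.helper49.Gram

set_option autoImplicit false
open Cfsg

namespace Cfsg.Agent.S2620

open Matrix Cfsg.Agent.Lib.helper49

/-- The polar form of the hyperbolic form is given by the matrix `[0 1; 1 0]`. -/
theorem polar_plus (m : ℕ) (F : Type*) [Field F] (u v : Fin m ⊕ Fin m → F) :
    QuadraticMap.polar (Cfsg.quadFormPlus m F) u v
      = Matrix.toBilin' (Matrix.fromBlocks 0 1 1 0 : Matrix (Fin m ⊕ Fin m) (Fin m ⊕ Fin m) F) u v := by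
  rw [Matrix.toBilin'_apply']
  simp only [QuadraticMap.polar, Cfsg.quadFormPlus, Matrix.fromBlocks_mulVec, dotProduct,
    Fintype.sum_sum_type, Pi.add_apply, Matrix.zero_mulVec, Matrix.one_mulVec, zero_add, add_zero,
    Sum.elim_inl, Sum.elim_inr, Function.comp_apply]
  rw [← Finset.sum_sub_distrib, ← Finset.sum_sub_distrib, ← Finset.sum_add_distrib]
  refine Finset.sum_congr rfl (fun i _ => ?_)
  ring

theorem det_plus (m : ℕ) (F : Type*) [Field F] :
    (Matrix.fromBlocks 0 1 1 0 : Matrix (Fin m ⊕ Fin m) (Fin m ⊕ Fin m) F).det = (-1) ^ m := by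
  have h : (Matrix.fromBlocks 1 0 1 1 : Matrix (Fin m ⊕ Fin m) (Fin m ⊕ Fin m) F)
      * Matrix.fromBlocks 0 1 1 0 = Matrix.fromBlocks 0 1 1 1 := by
    rw [Matrix.fromBlocks_multiply]
    simp
  have h2 := congrArg Matrix.det h
  rw [Matrix.det_mul, Matrix.det_fromBlocks_zero₁₂, Matrix.det_fromBlocks_one₂₂] at h2
  simpa [Matrix.det_neg] using h2

theorem isSquare_neg_one_pow_iff {F : Type*} [Field F] [Fintype F] {q : ℕ} (hF : Fintype.card F = q)
    (hq : Odd q) (m : ℕ) : IsSquare ((-1 : F) ^ m) ↔ Even (m * (q - 1) / 2) := by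
  obtain ⟨j, rfl⟩ := hq
  have e1 : m * (2 * j + 1 - 1) / 2 = m * j := by
    rw [Nat.add_sub_cancel, ← mul_assoc, mul_comm m 2, mul_assoc, Nat.mul_div_cancel_left _ (by norm_num)]
  rw [e1]
  rcases Nat.even_or_odd m with hm | hm
  · rw [hm.neg_one_pow]
    simp [hm, Nat.even_mul]
  · rw [hm.neg_one_pow, FiniteField.isSquare_neg_one_iff, hF, Nat.even_mul]
    have : ¬ Even m := Nat.not_even_iff_odd.mpr hm
    simp only [this, false_or]
    rw [Nat.even_iff]
    omega

/-- Discriminant of the hyperbolic quadratic form Σ_(i<m) x_i y_i over a field with q elements, q odd, m ≥ 1: the determinant of the Gram matrix of its polar form in any basis is a square if and only if m(q − 1)/2 is even (equivalently q^m ≡ 1 (mod 4)). -/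
theorem result {F : Type*} [Field F] [Fintype F] {q : ℕ} (hF : Fintype.card F = q) (hq : Odd q) {m : ℕ} (hm : 1 ≤ m) {ι : Type*} [Fintype ι] [DecidableEq ι] (b : Module.Basis ι F (Fin m ⊕ Fin m → F)) : IsSquare (Matrix.of (fun i j : ι => QuadraticMap.polar (Cfsg.quadFormPlus m F) (b i) (b j))).det ↔ Even (m * (q - 1) / 2) := by
  have h1 : (Matrix.of (fun i j : ι => QuadraticMap.polar (Cfsg.quadFormPlus m F) (b i) (b j)))
      = Matrix.of (fun i j : ι => Matrix.toBilin'
          (Matrix.fromBlocks 0 1 1 0 : Matrix (Fin m ⊕ Fin m) (Fin m ⊕ Fin m) F) (b i) (b j)) := by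
    ext i j
    simp only [Matrix.of_apply]
    exact polar_plus m F _ _
  rw [h1, isSquare_det_gram_iff, LinearMap.BilinForm.toMatrix'_toBilin', det_plus]
  exact isSquare_neg_one_pow_iff hF hq m

end Cfsg.Agent.S2620
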