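-- Statement S2621 (row 2621).
import Cfsg.Statements.S2621
import Cfsg.Agent.Lib.helper49.Gram

set_option autoImplicit false
open Cfsg

namespace Cfsg.Agent.S2621

open Matrix Cfsg.Agent.Lib.helper49

/-- Gram matrix of the polar form of `quadFormMinus`. -/
def gramMinus (k : ℕ) (F : Type*) [Field F] (a c : F) :
    Matrix ((Fin k ⊕ Fin k) ⊕ Fin 2) ((Fin k ⊕ Fin k) ⊕ Fin 2) F :=
  Matrix.fromBlocks (Matrix.fromBlocks 0 1 1 0) 0 0 !![2, a; a, 2 * c]

theorem polar_minus (k : ℕ) (F : Type*) [Field F] (a c : F) (u v : (Fin k ⊕ Fin k) ⊕ Fin 2 → F) :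
    QuadraticMap.polar (Cfsg.quadFormMinus k F a c) u v
      = Matrix.toBilin' (gramMinus k F a c) u v := by
  rw [Matrix.toBilin'_apply']
  simp only [gramMinus, QuadraticMap.polar, Cfsg.quadFormMinus, Matrix.fromBlocks_mulVec, dotProduct,
    Fintype.sum_sum_type, Pi.add_apply, Matrix.zero_mulVec, Matrix.one_mulVec, zero_add, add_zero,
    Sum.elim_inl, Sum.elim_inr, Function.comp_apply, Fin.sum_univ_two]
  simp only [Matrix.mulVec, dotProduct, Fin.sum_univ_two, Matrix.of_apply,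
    Matrix.cons_val_zero, Matrix.cons_val_one, Matrix.cons_val', Matrix.cons_val_fin_one,
    Function.comp_apply]
  have e : ∀ (f g h : Fin k → F) (x y z : F),
      (∑ i, f i + x) - (∑ i, g i + y) - (∑ i, h i + z) = ∑ i, (f i - g i - h i) + (x - y - z) := by
    intro f g h x y z
    rw [Finset.sum_sub_distrib, Finset.sum_sub_distrib]; ring
  rw [e, ← Finset.sum_add_distrib]
  congr 1
  · refine Finset.sum_congr rfl (fun i _ => ?_)
    ring
  · ring

theorem det_gramMinus (k : ℕ) (F : Type*) [Field F] (a c : F) :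
    (gramMinus k F a c).det = (-1) ^ k * (4 * c - a ^ 2) := by
  have h : (Matrix.fromBlocks 1 0 1 1 : Matrix (Fin k ⊕ Fin k) (Fin k ⊕ Fin k) F)
      * Matrix.fromBlocks 0 1 1 0 = Matrix.fromBlocks 0 1 1 1 := by
    rw [Matrix.fromBlocks_multiply]
    simp
  have h2 := congrArg Matrix.det h
  rw [Matrix.det_mul, Matrix.det_fromBlocks_zero₁₂, Matrix.det_fromBlocks_one₂₂] at h2
  have h3 : (Matrix.fromBlocks 0 1 1 0 : Matrix (Fin k ⊕ Fin k) (Fin k ⊕ Fin k) F).det = (-1) ^ k := by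
    simpa [Matrix.det_neg] using h2
  rw [gramMinus, Matrix.det_fromBlocks_zero₂₁, h3, Matrix.det_fin_two_of]
  ring

theorem isSquare_neg_one_pow_iff {F : Type*} [Field F] [Fintype F] {q : ℕ} (hF : Fintype.card F = q)
    (hq : Odd q) (m : ℕ) : IsSquare ((-1 : F) ^ m) ↔ Even (m * (q - 1) / 2) := by
  obtain ⟨j, rfl⟩ := hq
  have e1 : m * (2 * j + 1 - 1) / 2 = m * j := by
    rw [Nat.add_sub_cancel, ← mul_assoc, mul_comm m 2, mul_assoc, Nat.mul_div_cancel_left _ (by norm_num)]
  rw [e1]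
  rcases Nat.even_or_odd m with hm | hm
  · rw [hm.neg_one_pow]
    simp [hm]
  · rw [hm.neg_one_pow, FiniteField.isSquare_neg_one_iff, hF, Nat.even_mul]
    have : ¬ Even m := Nat.not_even_iff_odd.mpr hm
    simp only [this, false_or]
    rw [Nat.even_iff]
    omega

/-- Discriminant of an elliptic quadratic form Σ_(i<m−1) x_i y_i + z₁² + a z₁z₂ + c z₂² (binary part anisotropic) in dimension 2m over a field with q elements, q odd, m ≥ 1: the determinant of the Gram matrix of its polar form in any basis is a square if and only if m(q − 1)/2 is odd (equivalently q^m ≡ 3 (mod 4)). -/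
theorem result {F : Type*} [Field F] [Fintype F] {q : ℕ} (hF : Fintype.card F = q) (hq : Odd q) {m : ℕ} (hm : 1 ≤ m) (a c : F) (hac : ∀ z₁ z₂ : F, z₁ ^ 2 + a * z₁ * z₂ + c * z₂ ^ 2 = 0 → z₁ = 0 ∧ z₂ = 0) {ι : Type*} [Fintype ι] [DecidableEq ι] (b : Module.Basis ι F ((Fin (m - 1) ⊕ Fin (m - 1)) ⊕ Fin 2 → F)) : IsSquare (Matrix.of (fun i j : ι => QuadraticMap.polar (Cfsg.quadFormMinus (m - 1) F a c) (b i) (b j))).det ↔ ¬ Even (m * (q - 1) / 2) := by
  classical
  have h1 : (Matrix.of (fun i j : ι => QuadraticMap.polar (Cfsg.quadFormMinus (m - 1) F a c) (b i) (b j)))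
      = Matrix.of (fun i j : ι => Matrix.toBilin' (gramMinus (m - 1) F a c) (b i) (b j)) := by
    ext i j
    simp only [Matrix.of_apply]
    exact polar_minus (m - 1) F a c _ _
  rw [h1, isSquare_det_gram_iff, LinearMap.BilinForm.toMatrix'_toBilin', det_gramMinus,
    ← isSquare_neg_one_pow_iff hF hq m]
  -- characteristic is odd
  have hchar : ringChar F ≠ 2 := by
    intro h
    have := FiniteField.even_card_iff_char_two.mp h
    rw [hF] at this
    obtain ⟨j, rfl⟩ := hq
    omega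
  have h2 : (2 : F) ≠ 0 := Ring.two_ne_zero hchar
  -- the discriminant a² - 4c is a non-square
  have hδ : ¬ IsSquare (a ^ 2 - 4 * c) := by
    rintro ⟨d, hd⟩
    have := (hac ((d - a) / 2) 1 (by field_simp; linear_combination (-1 : F) * hd)).2
    exact one_ne_zero this
  have hδ0 : a ^ 2 - 4 * c ≠ 0 := by
    intro h
    exact hδ (h ▸ ⟨0, by simp⟩)
  have e : (-1 : F) ^ (m - 1) * (4 * c - a ^ 2) = (-1) ^ m * (a ^ 2 - 4 * c) := by
    obtain ⟨k, rfl⟩ : ∃ k, m = k + 1 := ⟨m - 1, by omega⟩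
    rw [Nat.add_sub_cancel, pow_succ]; ring
  rw [e]
  have hne : ((-1 : F) ^ m) ≠ 0 := pow_ne_zero _ (neg_ne_zero.mpr one_ne_zero)
  rw [← quadraticChar_one_iff_isSquare (mul_ne_zero hne hδ0), ← quadraticChar_one_iff_isSquare hne,
    map_mul, quadraticChar_neg_one_iff_not_isSquare.mpr hδ]
  rcases quadraticChar_dichotomy hne with h | h
  · rw [h]; decide
  · rw [h]; decide

end Cfsg.Agent.S2621
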