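-- Statement S2622 (row 2622).
import Cfsg.Statements.S2622

set_option autoImplicit false
open Cfsg

namespace Cfsg.Agent.S2622

open Module LinearMap

/-- In a finite field of characteristic two every element is a square. -/
theorem exists_sq {F : Type*} [Field F] [Finite F] [CharP F 2] (a : F) : ∃ s : F, s * s = a := by
  have h : ringChar F = 2 := (ringChar.eq F 2)
  obtain ⟨s, hs⟩ := FiniteField.isSquare_of_char_two h a
  exact ⟨s, hs.symm⟩

theorem two_eq_zero {F : Type*} [Field F] [CharP F 2] : (2 : F) = 0 := by
  have := CharP.cast_eq_zero F 2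
  exact_mod_cast this

/-- Key step: a vector of norm one whose orthogonal complement is either zero or not alternating. -/
theorem exists_good {F V : Type*} [Field F] [Finite F] [CharP F 2] [AddCommGroup V] [Module F V]
    [FiniteDimensional F V] (B : LinearMap.BilinForm F V) (hS : B.IsSymm) (hB : B.Nondegenerate)
    (hna : ∃ v : V, B v v ≠ 0) :
    ∃ x : V, B x x = 1 ∧ ((B.orthogonal (F ∙ x) = ⊥) ∨ ∃ w ∈ B.orthogonal (F ∙ x), B w w ≠ 0) := by
  obtain ⟨v, hv⟩ := hna
  obtain ⟨s, hs⟩ := exists_sq ((B v v)⁻¹)
  have hx0 : B (s • v) (s • v) = 1 := by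
    simp only [map_smul, LinearMap.smul_apply, smul_eq_mul]
    rw [← mul_assoc, hs, inv_mul_cancel₀ hv]
  set x₀ := s • v with hx₀
  by_cases halt : ∃ w ∈ B.orthogonal (F ∙ x₀), B w w ≠ 0
  · exact ⟨x₀, hx0, Or.inr halt⟩
  by_cases hbot : B.orthogonal (F ∙ x₀) = ⊥
  · exact ⟨x₀, hx0, Or.inl hbot⟩
  push Not at halt
  -- the complement is alternating and non-zero
  obtain ⟨e, heW, he0⟩ := (Submodule.ne_bot_iff _).mp hbot
  have hne : B x₀ x₀ ≠ 0 := by rw [hx0]; exact one_ne_zero
  have hnd := LinearMap.BilinForm.restrict_nondegenerate_orthogonal_spanSingleton B hB hS.isRefl hne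
  -- find f in the complement with B e f ≠ 0
  have : ∃ f : B.orthogonal (F ∙ x₀), B e f ≠ 0 := by
    by_contra hcon
    push Not at hcon
    have := hnd.1 ⟨e, heW⟩ (fun f => by simpa using hcon f)
    exact he0 (congrArg Subtype.val this)
  obtain ⟨⟨f, hfW⟩, hef⟩ := this
  simp only at hef
  have hx0e : B x₀ e = 0 := heW x₀ (Submodule.mem_span_singleton_self x₀)
  have hx0f : B x₀ f = 0 := hfW x₀ (Submodule.mem_span_singleton_self x₀)
  have hex0 : B e x₀ = 0 := by rw [← hS.eq]; simpa using hx0e
  have hfx0 : B f x₀ = 0 := by rw [← hS.eq]; simpa using hx0f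
  have hee : B e e = 0 := halt e heW
  have hff : B f f = 0 := halt f hfW
  set f' := (B e f)⁻¹ • f with hf'
  have hef' : B e f' = 1 := by
    simp only [hf', map_smul, smul_eq_mul]
    exact inv_mul_cancel₀ hef
  have hx0f' : B x₀ f' = 0 := by simp [hf', hx0f]
  have hf'x0 : B f' x₀ = 0 := by simp [hf', hfx0]
  have hf'f' : B f' f' = 0 := by simp [hf', hff]
  have h2 : (2 : F) = 0 := two_eq_zero
  refine ⟨x₀ + e, ?_, Or.inr ⟨x₀ + f', ?_, ?_⟩⟩
  · simp only [map_add, LinearMap.add_apply, hx0, hx0e, hex0, hee]; ring
  · intro y hy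
    obtain ⟨c, rfl⟩ := Submodule.mem_span_singleton.mp hy
    simp only [map_add, map_smul, LinearMap.add_apply, LinearMap.smul_apply, smul_eq_mul, hx0, hx0f',
      hex0, hef']
    linear_combination c * h2
  · simp only [map_add, LinearMap.add_apply, hx0, hx0f', hf'x0, hf'f']
    simp

/-- Induction. -/
theorem main {F : Type*} [Field F] [Finite F] [CharP F 2] (n : ℕ) :
    ∀ {V : Type*} [AddCommGroup V] [Module F V] [FiniteDimensional F V]
      (_hV : Module.finrank F V = n) (B : LinearMap.BilinForm F V) (_hS : B.IsSymm)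
      (_hB : B.Nondegenerate) (_hna : ∃ v : V, B v v ≠ 0),
      ∃ b : Module.Basis (Fin n) F V, ∀ i j, B (b i) (b j) = if i = j then 1 else 0 := by
  induction n with
  | zero =>
    intro V _ _ _ hV B hS hB hna
    exfalso
    obtain ⟨v, hv⟩ := hna
    have : v = 0 := by
      have := Module.finrank_zero_iff.mp hV
      exact Subsingleton.elim _ _
    rw [this] at hv
    simp at hv
  | succ d ih =>
    intro V _ _ _ hV B hS hB hna
    obtain ⟨x, hx1, hx⟩ := exists_good B hS hB hna
    have hne : B x x ≠ 0 := by rw [hx1]; exact one_ne_zero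
    have hcompl := LinearMap.BilinForm.isCompl_span_singleton_orthogonal hne
    have hd : finrank F (B.orthogonal (F ∙ x)) = d := by
      have h1 := Submodule.finrank_add_eq_of_isCompl hcompl
      rw [finrank_span_singleton (LinearMap.BilinForm.ne_zero_of_not_isOrtho_self x hne), hV] at h1
      omega
    have hnd := LinearMap.BilinForm.restrict_nondegenerate_orthogonal_spanSingleton B hB hS.isRefl hne
    -- orthonormal basis of the complement
    have hv' : ∃ v' : Module.Basis (Fin d) F (B.orthogonal (F ∙ x)),
        ∀ i j, B (v' i) (v' j) = if i = j then 1 else 0 := by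
      rcases hx with hbot | ⟨w, hwW, hww⟩
      · have hd0 : d = 0 := by
          rw [← hd, hbot]; simp
        subst hd0
        exact ⟨basisOfFinrankZero hd, fun i => i.elim0⟩
      · have hS' : (B.restrict (B.orthogonal (F ∙ x))).IsSymm := by
          refine ⟨fun a b => ?_⟩
          simpa using hS.eq a b
        obtain ⟨v', hv'⟩ := ih hd (B.restrict (B.orthogonal (F ∙ x))) hS' hnd ⟨⟨w, hwW⟩, by simpa using hww⟩
        exact ⟨v', fun i j => by simpa using hv' i j⟩
    obtain ⟨v', hv'⟩ := hv'
    let b := Basis.mkFinCons x v'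
      (by
        rintro c y hy hc
        rw [add_eq_zero_iff_neg_eq] at hc
        rw [← hc, Submodule.neg_mem_iff] at hy
        have := hcompl.disjoint
        rw [Submodule.disjoint_def] at this
        have := this (c • x) (Submodule.smul_mem _ _ <| Submodule.mem_span_singleton_self _) hy
        exact (smul_eq_zero.1 this).resolve_right fun h => hne <| h.symm ▸ map_zero _)
      (by
        intro y
        refine ⟨-B x y / B x x, fun z hz => ?_⟩
        obtain ⟨c, rfl⟩ := Submodule.mem_span_singleton.1 hz
        rw [map_smul, LinearMap.smul_apply, map_add, map_smul, smul_eq_mul, smul_eq_mul,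
          div_mul_cancel₀ _ hne, add_neg_cancel, mul_zero])
    refine ⟨b, ?_⟩
    have hb : ⇑b = Fin.cons x (fun i => (v' i : V)) := by
      simp only [b]
      rw [Basis.coe_mkFinCons]
      rfl
    rw [hb]
    intro i j
    refine Fin.cases ?_ (fun i => ?_) i <;> refine Fin.cases ?_ (fun j => ?_) j <;>
      simp only [Fin.cons_zero, Fin.cons_succ]
    · simpa using hx1
    · have : B x (v' j) = 0 := (v' j).prop _ (Submodule.mem_span_singleton_self x)
      rw [this, if_neg (Fin.succ_ne_zero j).symm]
    · have : B (v' i) x = 0 := by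
        rw [← hS.eq]
        simpa using (v' i).prop _ (Submodule.mem_span_singleton_self x)
      rw [this, if_neg (Fin.succ_ne_zero i)]
    · rw [hv' i j]
      simp [Fin.succ_inj]

/-- Over a finite field of characteristic two, a non-degenerate symmetric bilinear form that is not alternating (some vector v has B(v, v) ≠ 0) admits an orthonormal basis. -/
theorem result {F V : Type*} [Field F] [Finite F] [CharP F 2] [AddCommGroup V] [Module F V] [FiniteDimensional F V] {n : ℕ} (hV : Module.finrank F V = n) (B : LinearMap.BilinForm F V) (hS : B.IsSymm) (hB : B.Nondegenerate) (hna : ∃ v : V, B v v ≠ 0) : ∃ b : Module.Basis (Fin n) F V, ∀ i j, B (b i) (b j) = if i = j then 1 else 0 := by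
  exact main n hV B hS hB hna

end Cfsg.Agent.S2622
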