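-- Statement S2623 (row 2623).
import Cfsg.Statements.S2623
import Cfsg.Agent.Lib.helper49.Gram
import Cfsg.Agent.Lib.helper49.QuadOdd

set_option autoImplicit false
open Cfsg

namespace Cfsg.Agent.S2623

open Module Cfsg.Agent.Lib.helper49

theorem gram_eq_toMatrix' {F : Type*} [Field F] {n : ℕ} (Q : QuadraticForm F (Fin n → F)) :
    Matrix.of (fun i j : Fin n => QuadraticMap.polar ⇑Q (Pi.single i 1) (Pi.single j 1))
      = LinearMap.BilinForm.toMatrix' (QuadraticMap.polarBilin Q) := by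
  ext i j
  simp [LinearMap.BilinForm.toMatrix'_apply]

theorem det_ne_zero_of_nondegenerate {F : Type*} [Field F] {n : ℕ} (Q : QuadraticForm F (Fin n → F))
    (hQ : (QuadraticMap.polarBilin Q).Nondegenerate) :
    (LinearMap.BilinForm.toMatrix' (QuadraticMap.polarBilin Q)).det ≠ 0 := by
  have := (LinearMap.BilinForm.nondegenerate_iff_det_ne_zero (Pi.basisFun F (Fin n))).mp hQ
  rwa [LinearMap.BilinForm.toMatrix_basisFun] at this

/-- Gram determinant in a normal basis. -/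
theorem det_normal {F : Type*} [Field F] {d : ℕ} (Q : QuadraticForm F (Fin (d + 1) → F))
    (b : Basis (Fin (d + 1)) F (Fin (d + 1) → F))
    (h1 : ∀ i j, i ≠ j → QuadraticMap.polar Q (b i) (b j) = 0)
    (h2 : ∀ i, i ≠ Fin.last d → Q (b i) = 1) :
    (Matrix.of (fun i j : Fin (d + 1) => QuadraticMap.polarBilin Q (b i) (b j))).det
      = 2 ^ (d + 1) * Q (b (Fin.last d)) := by
  have hdiag : Matrix.of (fun i j : Fin (d + 1) => QuadraticMap.polarBilin Q (b i) (b j))
      = Matrix.diagonal (fun i => 2 * Q (b i)) := by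
    ext i j
    by_cases hij : i = j
    · subst hij
      simp [QuadraticMap.polar_self]
    · simp [Matrix.diagonal_apply_ne _ hij, h1 i j hij]
  rw [hdiag, Matrix.det_diagonal, Fin.prod_univ_castSucc]
  have : ∀ i : Fin d, 2 * Q (b (Fin.castSucc i)) = 2 := by
    intro i
    rw [h2 _ (Fin.castSucc_lt_last i).ne, mul_one]
  simp only [this, Finset.prod_const, Finset.card_univ, Fintype.card_fin]
  ring

/-- The backward direction in positive dimension. -/
theorem exists_isometry {F : Type*} [Field F] [Fintype F] (h2 : (2 : F) ≠ 0) {d : ℕ}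
    (Q₁ Q₂ : QuadraticForm F (Fin (d + 1) → F)) (h₁ : (QuadraticMap.polarBilin Q₁).Nondegenerate)
    (h₂ : (QuadraticMap.polarBilin Q₂).Nondegenerate)
    (hsq : IsSquare ((LinearMap.BilinForm.toMatrix' (QuadraticMap.polarBilin Q₁)).det
      * (LinearMap.BilinForm.toMatrix' (QuadraticMap.polarBilin Q₂)).det)) :
    ∃ g : (Fin (d + 1) → F) ≃ₗ[F] (Fin (d + 1) → F), ∀ v, Q₂ (g v) = Q₁ v := by
  classical
  have hfin : finrank F (Fin (d + 1) → F) = d + 1 := by simp
  obtain ⟨b₁, ho₁, hn₁⟩ := exists_normal_basis h2 d hfin Q₁ h₁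
  obtain ⟨b₂, ho₂, hn₂⟩ := exists_normal_basis h2 d hfin Q₂ h₂
  obtain ⟨e₁, he₁, hd₁⟩ := det_gram_eq (QuadraticMap.polarBilin Q₁) b₁
  obtain ⟨e₂, he₂, hd₂⟩ := det_gram_eq (QuadraticMap.polarBilin Q₂) b₂
  rw [det_normal Q₁ b₁ ho₁ hn₁] at hd₁
  rw [det_normal Q₂ b₂ ho₂ hn₂] at hd₂
  have hD₁ := det_ne_zero_of_nondegenerate Q₁ h₁
  have hD₂ := det_ne_zero_of_nondegenerate Q₂ h₂
  set D₁ := (LinearMap.BilinForm.toMatrix' (QuadraticMap.polarBilin Q₁)).det with hD₁def
  set D₂ := (LinearMap.BilinForm.toMatrix' (QuadraticMap.polarBilin Q₂)).det with hD₂def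
  set d₁ := Q₁ (b₁ (Fin.last d)) with hd₁def
  set d₂ := Q₂ (b₂ (Fin.last d)) with hd₂def
  obtain ⟨r, hr⟩ := hsq
  have h2p : (2 : F) ^ (d + 1) ≠ 0 := pow_ne_zero _ h2
  have hd₁0 : d₁ ≠ 0 := by
    intro h
    rw [h, mul_zero] at hd₁
    have : e₁ * D₁ * e₁ ≠ 0 := mul_ne_zero (mul_ne_zero he₁ hD₁) he₁
    exact this hd₁.symm
  have hd₂0 : d₂ ≠ 0 := by
    intro h
    rw [h, mul_zero] at hd₂
    have : e₂ * D₂ * e₂ ≠ 0 := mul_ne_zero (mul_ne_zero he₂ hD₂) he₂
    exact this hd₂.symm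
  -- d₁ * d₂ is a square
  set s := e₁ * e₂ * r / 2 ^ (d + 1) with hs
  have hs2 : d₁ * d₂ = s * s := by
    rw [hs]
    field_simp
    linear_combination (2 : F) ^ (d + 1) * d₂ * hd₁ + e₁ ^ 2 * D₁ * hd₂ + e₁ ^ 2 * e₂ ^ 2 * hr
  have hs0 : s ≠ 0 := by
    intro h
    rw [h, mul_zero] at hs2
    exact mul_ne_zero hd₁0 hd₂0 hs2
  set c := s / d₂ with hc
  have hc0 : c ≠ 0 := div_ne_zero hs0 hd₂0
  have hc2 : c * c * d₂ = d₁ := by
    rw [hc]
    field_simp
    linear_combination -hs2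
  let w : Fin (d + 1) → Fˣ := fun i => if i = Fin.last d then Units.mk0 c hc0 else 1
  let b₂' := b₂.unitsSMul w
  have hb₂' : ∀ i, b₂' i = (w i : F) • b₂ i := by
    intro i
    simp only [b₂', Basis.unitsSMul_apply]
    rfl
  have ho₂' : ∀ i j, i ≠ j → QuadraticMap.polar Q₂ (b₂' i) (b₂' j) = 0 := by
    intro i j hij
    rw [hb₂', hb₂', QuadraticMap.polar_smul_left, QuadraticMap.polar_smul_right, ho₂ i j hij]
    simp
  have hval : ∀ i, Q₂ (b₂' i) = Q₁ (b₁ i) := by
    intro i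
    rw [hb₂', QuadraticMap.map_smul]
    by_cases hi : i = Fin.last d
    · subst hi
      simp only [w, if_true, Units.val_mk0, smul_eq_mul]
      exact hc2
    · simp only [w, if_neg hi, Units.val_one, one_mul, smul_eq_mul]
      rw [hn₁ i hi, hn₂ i hi]
  refine ⟨b₁.equiv b₂' (Equiv.refl _), fun v => ?_⟩
  have hv : v = ∑ i, b₁.repr v i • b₁ i := (b₁.sum_repr v).symm
  have hgv : b₁.equiv b₂' (Equiv.refl _) v = ∑ i, b₁.repr v i • b₂' i := by
    conv_lhs => rw [hv]
    rw [map_sum]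
    refine Finset.sum_congr rfl (fun i _ => ?_)
    rw [map_smul, Basis.equiv_apply]
    rfl
  rw [hgv, map_sum_ortho Q₂ _ ho₂']
  conv_rhs => rw [hv]
  rw [map_sum_ortho Q₁ _ ho₁]
  refine Finset.sum_congr rfl (fun i _ => ?_)
  rw [hval]

/-- Over a finite field of odd order, two quadratic forms on F^n with non-degenerate polar forms are isometric (related by an invertible linear change of variables) if and only if their discriminants (determinants of the Gram matrices of their polar forms) lie in the same square class. -/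
theorem result {F : Type*} [Field F] [Fintype F] (h2 : (2 : F) ≠ 0) {n : ℕ} (Q₁ Q₂ : QuadraticForm F (Fin n → F)) (h₁ : (QuadraticMap.polarBilin Q₁).Nondegenerate) (h₂ : (QuadraticMap.polarBilin Q₂).Nondegenerate) : (∃ g : (Fin n → F) ≃ₗ[F] (Fin n → F), ∀ v, Q₂ (g v) = Q₁ v) ↔ IsSquare ((Matrix.of (fun i j : Fin n => QuadraticMap.polar ⇑Q₁ (Pi.single i 1) (Pi.single j 1))).det * (Matrix.of (fun i j : Fin n => QuadraticMap.polar ⇑Q₂ (Pi.single i 1) (Pi.single j 1))).det) := by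
  rw [gram_eq_toMatrix', gram_eq_toMatrix']
  constructor
  · rintro ⟨g, hg⟩
    have hcomp : LinearMap.BilinForm.comp (QuadraticMap.polarBilin Q₂) (g : (Fin n → F) →ₗ[F] (Fin n → F))
        (g : (Fin n → F) →ₗ[F] (Fin n → F)) = QuadraticMap.polarBilin Q₁ := by
      refine LinearMap.ext₂ (fun u v => ?_)
      simp only [LinearMap.BilinForm.comp_apply, LinearEquiv.coe_coe, QuadraticMap.polarBilin_apply_apply,
        QuadraticMap.polar]
      rw [← map_add, hg, hg, hg]
    rw [← hcomp, LinearMap.BilinForm.toMatrix'_comp, Matrix.det_mul, Matrix.det_mul, Matrix.det_transpose]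
    exact ⟨(LinearMap.toMatrix' (g : (Fin n → F) →ₗ[F] (Fin n → F))).det
      * (LinearMap.BilinForm.toMatrix' (QuadraticMap.polarBilin Q₂)).det, by ring⟩
  · intro hsq
    cases n with
    | zero =>
      refine ⟨LinearEquiv.refl F _, fun v => ?_⟩
      have : v = 0 := Subsingleton.elim _ _
      rw [this, map_zero, QuadraticMap.map_zero, QuadraticMap.map_zero]
    | succ d => exact exists_isometry h2 Q₁ Q₂ h₁ h₂ hsq

end Cfsg.Agent.S2623
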