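-- Statement S2624 (row 2624).
import Cfsg.Statements.S2624
import Cfsg.Agent.S2623

set_option autoImplicit false
open Cfsg

namespace Cfsg.Agent.S2624

theorem polarBilin_smul {F : Type*} [Field F] {n : ℕ} (Q : QuadraticForm F (Fin n → F)) (c : F) :
    QuadraticMap.polarBilin (c • Q) = c • QuadraticMap.polarBilin Q := by
  refine LinearMap.ext₂ (fun u v => ?_)
  simp only [QuadraticMap.polarBilin_apply_apply, QuadraticMap.polar, QuadraticMap.smul_apply,
    LinearMap.smul_apply, smul_eq_mul]
  ring

/-- For a quadratic form Q on F^n with non-degenerate polar form, F finite and n ≥ 2 even, every non-zero scalar c is the multiplier of some similarity: there is an invertible linear map g with Q(g v) = c·Q(v) for all v. -/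
theorem result {F : Type*} [Field F] [Fintype F] {n : ℕ} (hn : 2 ≤ n) (he : Even n) (Q : QuadraticForm F (Fin n → F)) (hQ : (QuadraticMap.polarBilin Q).Nondegenerate) (c : F) (hc : c ≠ 0) : ∃ g : (Fin n → F) ≃ₗ[F] (Fin n → F), ∀ v, Q (g v) = c * Q v := by
  classical
  by_cases h2 : (2 : F) = 0
  · -- characteristic two: every element is a square
    have hchar : ringChar F = 2 := by
      have h := (ringChar.spec F 2).mp (by exact_mod_cast h2)
      rcases (Nat.dvd_prime Nat.prime_two).mp h with h1 | h1
      · exact absurd h1 (CharP.ringChar_ne_one)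
      · exact h1
    obtain ⟨d, hd⟩ := FiniteField.isSquare_of_char_two hchar c
    have hd0 : d ≠ 0 := by
      rintro rfl
      simp at hd
      exact hc hd
    refine ⟨LinearEquiv.smulOfNeZero F _ d hd0, fun v => ?_⟩
    rw [LinearEquiv.smulOfNeZero_apply, QuadraticMap.map_smul, hd, smul_eq_mul]
  · have hD := Cfsg.Agent.S2623.det_ne_zero_of_nondegenerate Q hQ
    have hM : LinearMap.BilinForm.toMatrix' (QuadraticMap.polarBilin (c • Q))
        = c • LinearMap.BilinForm.toMatrix' (QuadraticMap.polarBilin Q) := by
      rw [polarBilin_smul, map_smul]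
    have h₁ : (QuadraticMap.polarBilin (c • Q)).Nondegenerate := by
      have := (LinearMap.BilinForm.nondegenerate_iff_det_ne_zero (B := QuadraticMap.polarBilin (c • Q))
        (Pi.basisFun F (Fin n))).mpr
      apply this
      rw [LinearMap.BilinForm.toMatrix_basisFun, hM, Matrix.det_smul]
      exact mul_ne_zero (pow_ne_zero _ hc) hD
    obtain ⟨g, hg⟩ := (Cfsg.Agent.S2623.result h2 (c • Q) Q h₁ hQ).mpr (by
      rw [Cfsg.Agent.S2623.gram_eq_toMatrix', Cfsg.Agent.S2623.gram_eq_toMatrix', hM, Matrix.det_smul]
      obtain ⟨k, rfl⟩ := he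
      simp only [Fintype.card_fin]
      exact ⟨c ^ k * (LinearMap.BilinForm.toMatrix' (QuadraticMap.polarBilin Q)).det, by ring⟩)
    exact ⟨g, fun v => by rw [hg]; simp⟩

end Cfsg.Agent.S2624
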