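import Cfsg.Statements.S2626

set_option autoImplicit false
open Cfsg

namespace Cfsg.Agent.S2626

open scoped Matrix

/-- The block-diagonal embedding `GL_k × GL_l → GL_(k+l)`. -/
def blockGL (F : Type*) [Field F] (k l : ℕ) :
    Matrix.GeneralLinearGroup (Fin k) F × Matrix.GeneralLinearGroup (Fin l) F →*
      Matrix.GeneralLinearGroup (Fin k ⊕ Fin l) F where
  toFun p :=
    { val := Matrix.fromBlocks (p.1 : Matrix (Fin k) (Fin k) F) 0 0 (p.2 : Matrix (Fin l) (Fin l) F)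
      inv := Matrix.fromBlocks ((p.1⁻¹ : Matrix.GeneralLinearGroup (Fin k) F) : Matrix (Fin k) (Fin k) F) 0 0
        ((p.2⁻¹ : Matrix.GeneralLinearGroup (Fin l) F) : Matrix (Fin l) (Fin l) F)
      val_inv := by
        rw [Matrix.fromBlocks_multiply]
        simp [← Units.val_mul, Matrix.fromBlocks_one]
      inv_val := by
        rw [Matrix.fromBlocks_multiply]
        simp [← Units.val_mul, Matrix.fromBlocks_one] }
  map_one' := by
    apply Units.ext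
    simp [Matrix.fromBlocks_one]
  map_mul' p q := by
    apply Units.ext
    simp [Matrix.fromBlocks_multiply]

theorem blockGL_val (F : Type*) [Field F] (k l : ℕ)
    (p : Matrix.GeneralLinearGroup (Fin k) F × Matrix.GeneralLinearGroup (Fin l) F) :
    ((blockGL F k l p : Matrix.GeneralLinearGroup (Fin k ⊕ Fin l) F) : Matrix (Fin k ⊕ Fin l) (Fin k ⊕ Fin l) F)
      = Matrix.fromBlocks (p.1 : Matrix (Fin k) (Fin k) F) 0 0 (p.2 : Matrix (Fin l) (Fin l) F) := rfl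

theorem blockGL_mem {F : Type*} [Field F] {k l : ℕ} (Q₁ : (Fin k → F) → F) (Q₂ : (Fin l → F) → F)
    (p : Matrix.GeneralLinearGroup (Fin k) F × Matrix.GeneralLinearGroup (Fin l) F)
    (h1 : p.1 ∈ Cfsg.isometryGroup F Q₁) (h2 : p.2 ∈ Cfsg.isometryGroup F Q₂) :
    blockGL F k l p ∈ Cfsg.isometryGroup F
      (fun v : Fin k ⊕ Fin l → F => Q₁ (v ∘ Sum.inl) + Q₂ (v ∘ Sum.inr)) := by
  intro u v
  have e1 := h1 (u ∘ Sum.inl) (u ∘ Sum.inl)
  have e2 := h2 (u ∘ Sum.inr) (u ∘ Sum.inr)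
  simp only [Units.coeHom_apply] at e1 e2 ⊢
  rw [blockGL_val, Matrix.fromBlocks_mulVec]
  simp only [Matrix.zero_mulVec, add_zero, zero_add]
  have a1 : (Sum.elim ((p.1 : Matrix (Fin k) (Fin k) F) *ᵥ (u ∘ Sum.inl))
      ((p.2 : Matrix (Fin l) (Fin l) F) *ᵥ (u ∘ Sum.inr))) ∘ Sum.inl
      = (p.1 : Matrix (Fin k) (Fin k) F) *ᵥ (u ∘ Sum.inl) := by
    funext i; rfl
  have a2 : (Sum.elim ((p.1 : Matrix (Fin k) (Fin k) F) *ᵥ (u ∘ Sum.inl))
      ((p.2 : Matrix (Fin l) (Fin l) F) *ᵥ (u ∘ Sum.inr))) ∘ Sum.inr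
      = (p.2 : Matrix (Fin l) (Fin l) F) *ᵥ (u ∘ Sum.inr) := by
    funext i; rfl
  rw [a1, a2, e1, e2]

/-- The block-diagonal embedding of isometry groups. -/
def blockIso {F : Type*} [Field F] {k l : ℕ} (Q₁ : (Fin k → F) → F) (Q₂ : (Fin l → F) → F) :
    ↥(Cfsg.isometryGroup F Q₁) × ↥(Cfsg.isometryGroup F Q₂) →*
      ↥(Cfsg.isometryGroup F (fun v : Fin k ⊕ Fin l → F => Q₁ (v ∘ Sum.inl) + Q₂ (v ∘ Sum.inr))) :=
  ((blockGL F k l).comp
    (MonoidHom.prodMap (Cfsg.isometryGroup F Q₁).subtype (Cfsg.isometryGroup F Q₂).subtype)).codRestrict _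
    (fun p => blockGL_mem Q₁ Q₂ _ p.1.2 p.2.2)

theorem map_commutator_le {G H : Type*} [Group G] [Group H] (f : G →* H) :
    (commutator G).map f ≤ commutator H := by
  rw [commutator_def, Subgroup.map_commutator, commutator_def]
  exact Subgroup.commutator_mono le_top le_top

theorem mem_commutator_prod {G H : Type*} [Group G] [Group H] {g : G} {h : H}
    (hg : g ∈ commutator G) (hh : h ∈ commutator H) : (g, h) ∈ commutator (G × H) := by
  have e : (g, h) = MonoidHom.inl G H g * MonoidHom.inr G H h := by simp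
  rw [e]
  refine mul_mem ?_ ?_
  · exact map_commutator_le (MonoidHom.inl G H) (Subgroup.mem_map_of_mem _ hg)
  · exact map_commutator_le (MonoidHom.inr G H) (Subgroup.mem_map_of_mem _ hh)

/-- Ω of an orthogonal direct sum contains the product of the Ω's: for quadratic forms Q₁ on F^k and Q₂ on F^l with non-degenerate polar forms (F finite) and Q = Q₁ ⊕ Q₂ on F^(k+l), if g₁ lies in Ω(Q₁) and g₂ in Ω(Q₂) (commutator subgroups of the orthogonal groups) then the block-diagonal isometry diag(g₁, g₂) lies in Ω(Q). -/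
theorem result {F : Type*} [Field F] [Fintype F] {k l : ℕ} (Q₁ : QuadraticForm F (Fin k → F)) (Q₂ : QuadraticForm F (Fin l → F)) (h₁ : (QuadraticMap.polarBilin Q₁).Nondegenerate) (h₂ : (QuadraticMap.polarBilin Q₂).Nondegenerate) (g₁ : ↥(Cfsg.isometryGroup F ⇑Q₁)) (g₂ : ↥(Cfsg.isometryGroup F ⇑Q₂)) (hg₁ : g₁ ∈ Cfsg.Omega F ⇑Q₁) (hg₂ : g₂ ∈ Cfsg.Omega F ⇑Q₂) : ∃ g : ↥(Cfsg.isometryGroup F (fun v : Fin k ⊕ Fin l → F => Q₁ (v ∘ Sum.inl) + Q₂ (v ∘ Sum.inr))), g ∈ Cfsg.Omega F (fun v : Fin k ⊕ Fin l → F => Q₁ (v ∘ Sum.inl) + Q₂ (v ∘ Sum.inr)) ∧ ((g : Matrix.GeneralLinearGroup (Fin k ⊕ Fin l) F) : Matrix (Fin k ⊕ Fin l) (Fin k ⊕ Fin l) F) = Matrix.fromBlocks ((g₁ : Matrix.GeneralLinearGroup (Fin k) F) : Matrix (Fin k) (Fin k) F) 0 0 ((g₂ : Matrix.GeneralLinearGroup (Fin l) F) : Matrix (Fin l) (Fin l) F) := by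
  refine ⟨blockIso ⇑Q₁ ⇑Q₂ (g₁, g₂), ?_, rfl⟩
  exact map_commutator_le (blockIso ⇑Q₁ ⇑Q₂) (Subgroup.mem_map_of_mem _ (mem_commutator_prod hg₁ hg₂))

end Cfsg.Agent.S2626
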