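import Cfsg.Statements.S2627
import Cfsg.Agent.S0786
import Cfsg.Agent.Lib.helper42.OrthSum

set_option autoImplicit false
open Cfsg

namespace Cfsg.Agent.S2627

open Cfsg.Agent.Lib.helper42 Cfsg.Agent.Lib.helper17

/-- For an orthogonal direct sum Q = Q₁ ⊕ Q₂ of quadratic forms with non-degenerate polar forms over a finite field, an isometry g₁ of Q₁ extended by the identity on the second summand lies in Ω(Q) (the commutator subgroup of the orthogonal group of Q) if and only if g₁ lies in Ω(Q₁). (Excluded: the field of two elements when the first summand or the whole space has dimension 4, where the commutator subgroup of O⁺₄(2) is smaller than the group usually called Ω.) -/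
theorem result {F : Type*} [Field F] [Fintype F] {k l : ℕ} (h : Fintype.card F ≠ 2 ∨ (k ≠ 4 ∧ k + l ≠ 4)) (Q₁ : QuadraticForm F (Fin k → F)) (Q₂ : QuadraticForm F (Fin l → F)) (h₁ : (QuadraticMap.polarBilin Q₁).Nondegenerate) (h₂ : (QuadraticMap.polarBilin Q₂).Nondegenerate) (g₁ : ↥(Cfsg.isometryGroup F ⇑Q₁)) : (∃ g : ↥(Cfsg.isometryGroup F (fun v : Fin k ⊕ Fin l → F => Q₁ (v ∘ Sum.inl) + Q₂ (v ∘ Sum.inr))), g ∈ Cfsg.Omega F (fun v : Fin k ⊕ Fin l → F => Q₁ (v ∘ Sum.inl) + Q₂ (v ∘ Sum.inr)) ∧ ((g : Matrix.GeneralLinearGroup (Fin k ⊕ Fin l) F) : Matrix (Fin k ⊕ Fin l) (Fin k ⊕ Fin l) F) = Matrix.fromBlocks ((g₁ : Matrix.GeneralLinearGroup (Fin k) F) : Matrix (Fin k) (Fin k) F) 0 0 1) ↔ g₁ ∈ Cfsg.Omega F ⇑Q₁ := by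
  have hs := sumForm_nondegenerate Q₁ Q₂ h₁ h₂
  have hgen₁ : reflSubgroup Q₁ = ⊤ := Cfsg.Agent.S0786.reflSubgroup_eq_top' Q₁ h₁ (by
    rcases h with h | h
    · exact Or.inl h
    · exact Or.inr (by simpa using h.1))
  have hgens : reflSubgroup (sumForm Q₁ Q₂) = ⊤ :=
    Cfsg.Agent.S0786.reflSubgroup_eq_top' (sumForm Q₁ Q₂) hs (by
      rcases h with h | h
      · exact Or.inl h
      · exact Or.inr (by simpa using h.2))
  obtain ⟨vs, hvs, hg₁⟩ := exists_refl_list Q₁ g₁ (by rw [hgen₁]; trivial)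
  have hvs' : ∀ v ∈ vs.map (fun v => Sum.elim v (0 : Fin l → F)), sumForm Q₁ Q₂ v ≠ 0 := by
    intro v hv
    obtain ⟨w, hw, rfl⟩ := List.mem_map.mp hv
    rw [sumForm_elim_zero]
    exact hvs w hw
  have hprod : ((vs.map (fun v => Sum.elim v (0 : Fin l → F))).map
      (fun v => sumForm Q₁ Q₂ v)).prod = (vs.map (fun v => Q₁ v)).prod := by
    rw [List.map_map]
    congr 1
    apply List.map_congr_left
    intro v _
    exact sumForm_elim_zero Q₁ Q₂ v
  have hmat := prod_refl_sumForm Q₁ Q₂ vs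
  rw [← hg₁] at hmat
  have c1 := mem_Omega_iff_list Q₁ h₁ hgen₁ g₁ vs hvs hg₁
  change (∃ g : ↥(Cfsg.isometryGroup F ⇑(sumForm Q₁ Q₂)), g ∈ Cfsg.Omega F ⇑(sumForm Q₁ Q₂) ∧ _) ↔ _
  constructor
  · rintro ⟨g, hgΩ, hgm⟩
    have c2 := mem_Omega_iff_list (sumForm Q₁ Q₂) hs hgens g _ hvs' (by rw [hgm, hmat])
    rw [c1]
    obtain ⟨he, hsq⟩ := c2.mp hgΩ
    rw [List.length_map] at he
    rw [hprod] at hsq
    exact ⟨he, hsq⟩
  · intro hg
    obtain ⟨he, hsq⟩ := c1.mp hg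
    refine ⟨((vs.map (fun v => Sum.elim v (0 : Fin l → F))).map (reflT (sumForm Q₁ Q₂))).prod, ?_, ?_⟩
    · rw [mem_Omega_iff_list (sumForm Q₁ Q₂) hs hgens _ _ hvs' (coe_prod_reflT _ _ hvs'),
        List.length_map, hprod]
      exact ⟨he, hsq⟩
    · rw [coe_prod_reflT _ _ hvs', hmat]

end Cfsg.Agent.S2627
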