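-- Statement S2628 (row 2628).
import Cfsg.Statements.S2628
import Cfsg.Agent.Lib.helper49.PlusOmega
import Cfsg.Agent.Lib.helper42.OrthoRank
import Cfsg.Agent.S0788

set_option autoImplicit false
open Cfsg

namespace Cfsg.Agent.S2628

open Module Matrix Cfsg.Agent.Lib.helper49

section
variable {F : Type*} [Field F] {k : ℕ}

/-- The orthogonal sum `Q ⊕ Q` as a quadratic form. -/
noncomputable def dblForm (Q : QuadraticForm F (Fin k → F)) : QuadraticForm F (Fin k ⊕ Fin k → F) :=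
  { toFun := fun v => Q (v ∘ Sum.inl) + Q (v ∘ Sum.inr)
    toFun_smul := (Q.comp (LinearMap.funLeft F F (Sum.inl : Fin k → Fin k ⊕ Fin k))
      + Q.comp (LinearMap.funLeft F F (Sum.inr : Fin k → Fin k ⊕ Fin k))).toFun_smul
    exists_companion' := (Q.comp (LinearMap.funLeft F F (Sum.inl : Fin k → Fin k ⊕ Fin k))
      + Q.comp (LinearMap.funLeft F F (Sum.inr : Fin k → Fin k ⊕ Fin k))).exists_companion' }

theorem dblForm_apply (Q : QuadraticForm F (Fin k → F)) (v : Fin k ⊕ Fin k → F) :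
    dblForm Q v = Q (v ∘ Sum.inl) + Q (v ∘ Sum.inr) := rfl

theorem dblForm_elim (Q : QuadraticForm F (Fin k → F)) (x y : Fin k → F) :
    dblForm Q (Sum.elim x y) = Q x + Q y := rfl

theorem polar_dblForm (Q : QuadraticForm F (Fin k → F)) (u v : Fin k ⊕ Fin k → F) :
    QuadraticMap.polar (dblForm Q) u v
      = QuadraticMap.polar Q (u ∘ Sum.inl) (v ∘ Sum.inl) + QuadraticMap.polar Q (u ∘ Sum.inr) (v ∘ Sum.inr) := by
  simp only [QuadraticMap.polar, dblForm_apply]
  have h1 : (u + v) ∘ Sum.inl = u ∘ Sum.inl + v ∘ Sum.inl := rfl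
  have h2 : (u + v) ∘ Sum.inr = u ∘ Sum.inr + v ∘ Sum.inr := rfl
  rw [h1, h2]
  ring

theorem refl_inl (Q : QuadraticForm F (Fin k → F)) (v : Fin k → F) :
    Cfsg.reflectionMatrix ⇑(dblForm Q) (Sum.elim v 0)
      = Matrix.fromBlocks (Cfsg.reflectionMatrix ⇑Q v) 0 0 1 := by
  apply matrix_eq_of_basis (Pi.basisFun F (Fin k ⊕ Fin k))
  intro j
  generalize (Pi.basisFun F (Fin k ⊕ Fin k)) j = x
  rw [refl_mulVec, Matrix.fromBlocks_mulVec, refl_mulVec, polar_dblForm, dblForm_elim]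
  simp only [Sum.elim_comp_inl, Sum.elim_comp_inr, QuadraticMap.map_zero, add_zero,
    QuadraticMap.polar_zero_left, Matrix.zero_mulVec, Matrix.one_mulVec, zero_add]
  funext i
  rcases i with i | i
  · simp
  · simp

theorem refl_inr (Q : QuadraticForm F (Fin k → F)) (v : Fin k → F) :
    Cfsg.reflectionMatrix ⇑(dblForm Q) (Sum.elim 0 v)
      = Matrix.fromBlocks 1 0 0 (Cfsg.reflectionMatrix ⇑Q v) := by
  apply matrix_eq_of_basis (Pi.basisFun F (Fin k ⊕ Fin k))
  intro j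
  generalize (Pi.basisFun F (Fin k ⊕ Fin k)) j = x
  rw [refl_mulVec, Matrix.fromBlocks_mulVec, refl_mulVec, polar_dblForm, dblForm_elim]
  simp only [Sum.elim_comp_inl, Sum.elim_comp_inr, QuadraticMap.map_zero, zero_add,
    QuadraticMap.polar_zero_left, Matrix.zero_mulVec, Matrix.one_mulVec, add_zero]
  funext i
  rcases i with i | i
  · simp
  · simp

theorem prod_inl (Q : QuadraticForm F (Fin k → F)) (vs : List (Fin k → F)) :
    (vs.map (fun v => (Matrix.fromBlocks (Cfsg.reflectionMatrix ⇑Q v) 0 0 1 :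
      Matrix (Fin k ⊕ Fin k) (Fin k ⊕ Fin k) F))).prod
      = Matrix.fromBlocks (vs.map (fun v => Cfsg.reflectionMatrix ⇑Q v)).prod 0 0 1 := by
  induction vs with
  | nil => simp [Matrix.fromBlocks_one]
  | cons a l ih =>
    rw [List.map_cons, List.prod_cons, ih, List.map_cons, List.prod_cons, Matrix.fromBlocks_multiply]
    simp

theorem prod_inr (Q : QuadraticForm F (Fin k → F)) (vs : List (Fin k → F)) :
    (vs.map (fun v => (Matrix.fromBlocks 1 0 0 (Cfsg.reflectionMatrix ⇑Q v) :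
      Matrix (Fin k ⊕ Fin k) (Fin k ⊕ Fin k) F))).prod
      = Matrix.fromBlocks 1 0 0 (vs.map (fun v => Cfsg.reflectionMatrix ⇑Q v)).prod := by
  induction vs with
  | nil => simp [Matrix.fromBlocks_one]
  | cons a l ih =>
    rw [List.map_cons, List.prod_cons, ih, List.map_cons, List.prod_cons, Matrix.fromBlocks_multiply]
    simp

/-- Odd characteristic: `diag(g, g)` is a product of an even number of reflections with square norm
product. -/
theorem odd_part [Fintype F] (h2 : (2 : F) ≠ 0) (Q : QuadraticForm F (Fin k → F))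
    (hQ : (QuadraticMap.polarBilin Q).Nondegenerate) (g : ↥(Cfsg.isometryGroup F ⇑Q)) :
    ∃ x : ↥(Cfsg.isometryGroup F ⇑(dblForm Q)), x ∈ Cfsg.Omega F ⇑(dblForm Q) ∧
      ((x : Matrix.GeneralLinearGroup (Fin k ⊕ Fin k) F) : Matrix (Fin k ⊕ Fin k) (Fin k ⊕ Fin k) F)
        = Matrix.fromBlocks ((g : Matrix.GeneralLinearGroup (Fin k) F) : Matrix (Fin k) (Fin k) F) 0 0
            ((g : Matrix.GeneralLinearGroup (Fin k) F) : Matrix (Fin k) (Fin k) F) := by
  obtain ⟨vs, hvs, hprod⟩ := Cfsg.Agent.S0788.exists_list_of_mem Q g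
    (Cfsg.Agent.Lib.helper17.cartan_dieudonne h2 Q hQ g)
  set ws : List (Fin k ⊕ Fin k → F) :=
    vs.map (fun v : Fin k → F => (Sum.elim v (0 : Fin k → F) : Fin k ⊕ Fin k → F))
      ++ vs.map (fun v : Fin k → F => (Sum.elim (0 : Fin k → F) v : Fin k ⊕ Fin k → F)) with hws
  have hws0 : ∀ w ∈ ws, dblForm Q w ≠ 0 := by
    intro w hw
    rw [hws, List.mem_append] at hw
    rcases hw with hw | hw
    · obtain ⟨v, hv, rfl⟩ := List.mem_map.mp hw
      rw [dblForm_elim, QuadraticMap.map_zero, add_zero]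
      exact hvs v hv
    · obtain ⟨v, hv, rfl⟩ := List.mem_map.mp hw
      rw [dblForm_elim, QuadraticMap.map_zero, zero_add]
      exact hvs v hv
  have hmat : (ws.map (fun w => Cfsg.reflectionMatrix ⇑(dblForm Q) w)).prod
      = Matrix.fromBlocks ((g : Matrix.GeneralLinearGroup (Fin k) F) : Matrix (Fin k) (Fin k) F) 0 0
            ((g : Matrix.GeneralLinearGroup (Fin k) F) : Matrix (Fin k) (Fin k) F) := by
    rw [hws, List.map_append, List.prod_append, List.map_map, List.map_map]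
    have e1 : ((fun w => Cfsg.reflectionMatrix ⇑(dblForm Q) w) ∘ fun v : Fin k → F => Sum.elim v 0)
        = fun v => (Matrix.fromBlocks (Cfsg.reflectionMatrix ⇑Q v) 0 0 1 :
          Matrix (Fin k ⊕ Fin k) (Fin k ⊕ Fin k) F) := by
      funext v
      exact refl_inl Q v
    have e2 : ((fun w => Cfsg.reflectionMatrix ⇑(dblForm Q) w) ∘ fun v : Fin k → F => Sum.elim 0 v)
        = fun v => (Matrix.fromBlocks 1 0 0 (Cfsg.reflectionMatrix ⇑Q v) :
          Matrix (Fin k ⊕ Fin k) (Fin k ⊕ Fin k) F) := by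
      funext v
      exact refl_inr Q v
    rw [e1, e2, prod_inl, prod_inr, ← hprod, Matrix.fromBlocks_multiply]
    simp
  refine ⟨(ws.map (reflG' (dblForm Q))).prod, ?_, ?_⟩
  · rw [spinor_criterion h2 (dblForm Q) _ ws hws0 (prod_reflG'_val (dblForm Q) ws hws0)]
    constructor
    · rw [hws, List.length_append, List.length_map, List.length_map]
      exact ⟨vs.length, rfl⟩
    · rw [hws, List.map_append, List.prod_append, List.map_map, List.map_map]
      have e1 : ((fun w => dblForm Q w) ∘ fun v : Fin k → F => Sum.elim v 0) = fun v => Q v := by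
        funext v
        show dblForm Q (Sum.elim v 0) = Q v
        rw [dblForm_elim, QuadraticMap.map_zero, add_zero]
      have e2 : ((fun w => dblForm Q w) ∘ fun v : Fin k → F => Sum.elim 0 v) = fun v => Q v := by
        funext v
        show dblForm Q (Sum.elim 0 v) = Q v
        rw [dblForm_elim, QuadraticMap.map_zero, zero_add]
      rw [e1, e2]
      exact ⟨_, rfl⟩
  · rw [prod_reflG'_val (dblForm Q) ws hws0, hmat]

/-- `diag(g, g)` as an isometry of `Q ⊕ Q`. -/
def dblIso (Q : QuadraticForm F (Fin k → F)) (g : ↥(Cfsg.isometryGroup F ⇑Q)) :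
    ↥(Cfsg.isometryGroup F ⇑(dblForm Q)) :=
  ⟨⟨Matrix.fromBlocks ((g : Matrix.GeneralLinearGroup (Fin k) F) : Matrix (Fin k) (Fin k) F) 0 0
      ((g : Matrix.GeneralLinearGroup (Fin k) F) : Matrix (Fin k) (Fin k) F),
    Matrix.fromBlocks ((g⁻¹ : ↥(Cfsg.isometryGroup F ⇑Q)) : Matrix.GeneralLinearGroup (Fin k) F).1 0 0
      ((g⁻¹ : ↥(Cfsg.isometryGroup F ⇑Q)) : Matrix.GeneralLinearGroup (Fin k) F).1,
    by
      rw [Matrix.fromBlocks_multiply]
      simp [Matrix.fromBlocks_one],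
    by
      rw [Matrix.fromBlocks_multiply]
      simp [Matrix.fromBlocks_one]⟩, by
    rw [mem_isometryGroup_iff]
    intro u
    show dblForm Q (Matrix.fromBlocks ((g : Matrix.GeneralLinearGroup (Fin k) F) : Matrix (Fin k) (Fin k) F)
      0 0 ((g : Matrix.GeneralLinearGroup (Fin k) F) : Matrix (Fin k) (Fin k) F) *ᵥ u) = dblForm Q u
    rw [Matrix.fromBlocks_mulVec, dblForm_elim, dblForm_apply]
    simp only [Matrix.zero_mulVec, add_zero, zero_add]
    rw [isometry_apply (⇑Q) g, isometry_apply (⇑Q) g]⟩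

theorem dblIso_val (Q : QuadraticForm F (Fin k → F)) (g : ↥(Cfsg.isometryGroup F ⇑Q)) :
    ((dblIso Q g : Matrix.GeneralLinearGroup (Fin k ⊕ Fin k) F) : Matrix (Fin k ⊕ Fin k) (Fin k ⊕ Fin k) F)
      = Matrix.fromBlocks ((g : Matrix.GeneralLinearGroup (Fin k) F) : Matrix (Fin k) (Fin k) F) 0 0
          ((g : Matrix.GeneralLinearGroup (Fin k) F) : Matrix (Fin k) (Fin k) F) := rfl

/-- Characteristic two: in suitable coordinates `Q ⊕ Q` is the hyperbolic form and `diag(g, g)` has zero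
upper right block, so its Dickson invariant vanishes. -/
theorem even_part [Fintype F] (h2 : (2 : F) = 0) (hk : 0 < k) (h : Fintype.card F ≠ 2 ∨ k ≠ 2)
    (Q : QuadraticForm F (Fin k → F))
    (hQ : (QuadraticMap.polarBilin Q).Nondegenerate) (g : ↥(Cfsg.isometryGroup F ⇑Q)) :
    dblIso Q g ∈ Cfsg.Omega F ⇑(dblForm Q) := by
  set A : Matrix (Fin k) (Fin k) F :=
    LinearMap.BilinForm.toMatrix' (QuadraticMap.toBilin Q (Pi.basisFun F (Fin k))) with hA
  set G : Matrix (Fin k) (Fin k) F := LinearMap.BilinForm.toMatrix' (QuadraticMap.polarBilin Q) with hG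
  have hAQ : ∀ s : Fin k → F, s ⬝ᵥ A *ᵥ s = Q s := by
    intro s
    rw [hA, ← Matrix.toBilin'_apply', Matrix.toBilin'_toMatrix']
    have := congrArg (fun q : QuadraticForm F (Fin k → F) => q s)
      (QuadraticMap.toQuadraticMap_toBilin Q (Pi.basisFun F (Fin k)))
    exact this
  have hGQ : ∀ s y : Fin k → F, s ⬝ᵥ G *ᵥ y = QuadraticMap.polar Q s y := by
    intro s y
    rw [hG, ← Matrix.toBilin'_apply', Matrix.toBilin'_toMatrix']
    rfl
  have hGdet : G.det ≠ 0 := by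
    rw [← Matrix.nondegenerate_iff_det_ne_zero, hG, LinearMap.BilinForm.nondegenerate_toMatrix'_iff]
    exact hQ
  set R : Matrix (Fin k ⊕ Fin k) (Fin k ⊕ Fin k) F := Matrix.fromBlocks 1 1 A (A + G) with hR
  have hRdet : R.det ≠ 0 := by
    rw [hR, Matrix.det_fromBlocks_one₁₁, Matrix.mul_one, add_sub_cancel_left]
    exact hGdet
  have hRQ : ∀ v, Cfsg.quadFormPlus k F (R *ᵥ v) = dblForm Q v := by
    intro v
    rw [quadFormPlus_eq_dot, hR, Matrix.fromBlocks_mulVec, dblForm_apply]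
    simp only [Sum.elim_comp_inl, Sum.elim_comp_inr, Matrix.one_mulVec]
    set x := v ∘ Sum.inl
    set y := v ∘ Sum.inr
    have e1 : (A *ᵥ x + (A + G) *ᵥ y) ⬝ᵥ (x + y) = (x + y) ⬝ᵥ A *ᵥ (x + y) + (x + y) ⬝ᵥ G *ᵥ y := by
      rw [dotProduct_comm, Matrix.add_mulVec, Matrix.mulVec_add, dotProduct_add, dotProduct_add,
        dotProduct_add]
      ring
    rw [e1, hAQ, hGQ, QuadraticMap.polar_add_left, QuadraticMap.polar_self, QuadraticMap.map_add Q]
    have h3 : (2 : F) • Q y = 0 := by rw [smul_eq_mul, h2, zero_mul]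
    have h4 : (2 : ℕ) • Q y = 0 := by
      rw [nsmul_eq_mul]
      push_cast
      rw [h2, zero_mul]
    rw [h4]
    linear_combination (QuadraticMap.polar Q x y) * h2
  let Rg : Matrix.GeneralLinearGroup (Fin k ⊕ Fin k) F := Matrix.GeneralLinearGroup.mkOfDetNeZero R hRdet
  have hRg : (Rg : Matrix (Fin k ⊕ Fin k) (Fin k ⊕ Fin k) F) = R := rfl
  have hP : ∀ y, dblForm Q (((Rg⁻¹ : Matrix.GeneralLinearGroup (Fin k ⊕ Fin k) F) :
      Matrix (Fin k ⊕ Fin k) (Fin k ⊕ Fin k) F) *ᵥ y) = Cfsg.quadFormPlus k F y := by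
    intro y
    rw [← hRQ, Matrix.mulVec_mulVec, ← hRg, ← Units.val_mul, mul_inv_cancel, Units.val_one,
      Matrix.one_mulVec]
  -- the conjugate in the hyperbolic coordinates
  set x' : ↥(Cfsg.isometryGroup F (Cfsg.quadFormPlus k F)) :=
    Cfsg.Agent.Lib.helper42.conjIso (Cfsg.quadFormPlus k F) (⇑(dblForm Q)) Rg hRQ (dblIso Q g) with hx'
  have hX : ((x' : Matrix.GeneralLinearGroup (Fin k ⊕ Fin k) F) : Matrix (Fin k ⊕ Fin k) (Fin k ⊕ Fin k) F)
      * R = R * Matrix.fromBlocks ((g : Matrix.GeneralLinearGroup (Fin k) F) : Matrix (Fin k) (Fin k) F) 0 0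
          ((g : Matrix.GeneralLinearGroup (Fin k) F) : Matrix (Fin k) (Fin k) F) := by
    have e : (x' : Matrix.GeneralLinearGroup (Fin k ⊕ Fin k) F) * Rg
        = Rg * (dblIso Q g : Matrix.GeneralLinearGroup (Fin k ⊕ Fin k) F) := by
      show Rg * (dblIso Q g : Matrix.GeneralLinearGroup (Fin k ⊕ Fin k) F) * Rg⁻¹ * Rg = _
      group
    have e' := congrArg (fun w : Matrix.GeneralLinearGroup (Fin k ⊕ Fin k) F =>
      (w : Matrix (Fin k ⊕ Fin k) (Fin k ⊕ Fin k) F)) e
    simp only [Units.val_mul] at e'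
    rw [hRg, dblIso_val] at e'
    exact e'
  have hB : ((x' : Matrix.GeneralLinearGroup (Fin k ⊕ Fin k) F) :
      Matrix (Fin k ⊕ Fin k) (Fin k ⊕ Fin k) F).toBlocks₁₂ = 0 := by
    set X := ((x' : Matrix.GeneralLinearGroup (Fin k ⊕ Fin k) F) :
      Matrix (Fin k ⊕ Fin k) (Fin k ⊕ Fin k) F) with hXdef
    rw [← Matrix.fromBlocks_toBlocks X, hR, Matrix.fromBlocks_multiply, Matrix.fromBlocks_multiply,
      Matrix.fromBlocks_inj] at hX
    obtain ⟨h11, h12, -, -⟩ := hX
    simp only [Matrix.mul_one, Matrix.one_mul, Matrix.mul_zero, add_zero, zero_add] at h11 h12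
    have h5 : X.toBlocks₁₂ * G = 0 := by
      have : X.toBlocks₁₁ + X.toBlocks₁₂ * (A + G) = X.toBlocks₁₁ + X.toBlocks₁₂ * A := by
        rw [h12, h11]
      rw [Matrix.mul_add, ← add_assoc] at this
      exact left_eq_add.mp this.symm
    have hGu : IsUnit G.det := isUnit_iff_ne_zero.mpr hGdet
    calc X.toBlocks₁₂ = X.toBlocks₁₂ * (G * G⁻¹) := by rw [Matrix.mul_nonsing_inv _ hGu, Matrix.mul_one]
      _ = (X.toBlocks₁₂ * G) * G⁻¹ := by rw [Matrix.mul_assoc]
      _ = 0 := by rw [h5, Matrix.zero_mul]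
  have hx'Ω : x' ∈ Cfsg.Omega F (Cfsg.quadFormPlus k F) := by
    rw [mem_Omega_iff_dicksonTrace h2 hk h, dicksonTrace, hB, Matrix.transpose_zero, Matrix.zero_mul,
      Matrix.trace_zero]
  have hback : dblIso Q g
      = Cfsg.Agent.Lib.helper42.conjIso (⇑(dblForm Q)) (Cfsg.quadFormPlus k F) Rg⁻¹ hP x' := by
    apply Subtype.ext
    show (dblIso Q g : Matrix.GeneralLinearGroup (Fin k ⊕ Fin k) F)
      = Rg⁻¹ * (Rg * (dblIso Q g : Matrix.GeneralLinearGroup (Fin k ⊕ Fin k) F) * Rg⁻¹) * Rg⁻¹⁻¹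
    group
  rw [hback]
  exact map_commutator_le' _ (Subgroup.mem_map_of_mem _ hx'Ω)

end

/-- Let Q be a non-degenerate quadratic form on F^k over a finite field (excluding k = 2 over F_2) and g an isometry of Q. Then diag(g, g) lies in Ω of Q ⊕ Q. (The centraliser of an element of order r acting irreducibly with the sum of two isometric summands, such as GU_n(q) ≤ O_{2n}(q) restricted to Ω.) -/
theorem result {F : Type*} [Field F] [Fintype F] {k : ℕ} (h : Fintype.card F ≠ 2 ∨ k ≠ 2) (Q : QuadraticForm F (Fin k → F)) (hQ : (QuadraticMap.polarBilin Q).Nondegenerate) (g : ↥(Cfsg.isometryGroup F ⇑Q)) : ∃ x : ↥(Cfsg.isometryGroup F (fun v : Fin k ⊕ Fin k → F => Q (v ∘ Sum.inl) + Q (v ∘ Sum.inr))), x ∈ Cfsg.Omega F (fun v : Fin k ⊕ Fin k → F => Q (v ∘ Sum.inl) + Q (v ∘ Sum.inr)) ∧ ((x : Matrix.GeneralLinearGroup (Fin k ⊕ Fin k) F) : Matrix (Fin k ⊕ Fin k) (Fin k ⊕ Fin k) F) = Matrix.fromBlocks ((g : Matrix.GeneralLinearGroup (Fin k) F) : Matrix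 (Fin k) (Fin k) F) 0 0 ((g : Matrix.GeneralLinearGroup (Fin k) F) : Matrix (Fin k) (Fin k) F) := by
  by_cases h2 : (2 : F) = 0
  · rcases Nat.eq_zero_or_pos k with hk | hk
    · subst hk
      refine ⟨1, one_mem _, ?_⟩
      ext i j
      exact isEmptyElim i
    · exact ⟨dblIso Q g, even_part h2 hk h Q hQ g, dblIso_val Q g⟩
  · exact odd_part h2 Q hQ g

end Cfsg.Agent.S2628
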