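-- Statement S2629 (row 2629).
import Cfsg.Statements.S2629
import Cfsg.Agent.Lib.helper49.OPlus
import Cfsg.Agent.Lib.helper49.SpinorApps

set_option autoImplicit false
open Cfsg

namespace Cfsg.Agent.S2629

open Module Matrix Cfsg.Agent.Lib.helper49

variable {F : Type*} [Field F] {m : ℕ}

/-- The maximal totally singular subspace `y = 0`. -/
noncomputable def U0 (m : ℕ) (F : Type*) [Field F] : Submodule F (Fin m ⊕ Fin m → F) :=
  LinearMap.ker (LinearMap.funLeft F F (Sum.inr : Fin m → Fin m ⊕ Fin m))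

theorem mem_U0 (x : Fin m ⊕ Fin m → F) : x ∈ U0 m F ↔ ∀ i, x (Sum.inr i) = 0 := by
  rw [U0, LinearMap.mem_ker]
  constructor
  · intro h i
    exact congrFun h i
  · intro h
    funext i
    exact h i

theorem finrank_U0 : finrank F (U0 m F) = m := by
  have h1 := LinearMap.finrank_range_add_finrank_ker
    (LinearMap.funLeft F F (Sum.inr : Fin m → Fin m ⊕ Fin m))
  have h2 : LinearMap.range (LinearMap.funLeft F F (Sum.inr : Fin m → Fin m ⊕ Fin m)) = ⊤ := by
    rw [LinearMap.range_eq_top]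
    intro y
    exact ⟨Sum.elim 0 y, by funext i; simp [LinearMap.funLeft_apply]⟩
  rw [h2, finrank_top] at h1
  simp only [Module.finrank_fintype_fun_eq_card, Fintype.card_fin, Fintype.card_sum] at h1
  rw [U0]
  omega

theorem polar_plus (u v : Fin m ⊕ Fin m → F) :
    QuadraticMap.polar (plusForm m F) u v
      = ∑ i, (u (Sum.inl i) * v (Sum.inr i) + u (Sum.inr i) * v (Sum.inl i)) := by
  show Cfsg.quadFormPlus m F (u + v) - Cfsg.quadFormPlus m F u - Cfsg.quadFormPlus m F v = _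
  simp only [Cfsg.quadFormPlus, ← Finset.sum_sub_distrib]
  refine Finset.sum_congr rfl (fun i _ => ?_)
  simp only [Pi.add_apply]
  ring

theorem polar_U0 {u v : Fin m ⊕ Fin m → F} (hu : u ∈ U0 m F) (hv : v ∈ U0 m F) :
    QuadraticMap.polar (plusForm m F) u v = 0 := by
  rw [polar_plus]
  rw [mem_U0] at hu hv
  refine Finset.sum_eq_zero (fun i _ => ?_)
  rw [hu i, hv i]
  simp

theorem Q_U0 {u : Fin m ⊕ Fin m → F} (hu : u ∈ U0 m F) : plusForm m F u = 0 := by
  show Cfsg.quadFormPlus m F u = 0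
  rw [mem_U0] at hu
  refine Finset.sum_eq_zero (fun i _ => ?_)
  rw [hu i]
  simp

theorem mem_U0_of_orth {x : Fin m ⊕ Fin m → F}
    (h : ∀ u ∈ U0 m F, QuadraticMap.polar (plusForm m F) u x = 0) : x ∈ U0 m F := by
  rw [mem_U0]
  intro i
  have h1 : (Pi.single (Sum.inl i) 1 : Fin m ⊕ Fin m → F) ∈ U0 m F := by
    rw [mem_U0]
    intro j
    simp
  have := h _ h1
  rw [polar_plus] at this
  simpa [Pi.single_apply] using this

/-- The image of `U0` under an isometry. -/
noncomputable def U1 (g : ↥(Cfsg.isometryGroup F (Cfsg.quadFormPlus m F))) :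
    Submodule F (Fin m ⊕ Fin m → F) :=
  (U0 m F).map (Matrix.mulVecLin
    ((g : Matrix.GeneralLinearGroup (Fin m ⊕ Fin m) F) : Matrix (Fin m ⊕ Fin m) (Fin m ⊕ Fin m) F))

theorem mem_U1 (g : ↥(Cfsg.isometryGroup F (Cfsg.quadFormPlus m F))) (x : Fin m ⊕ Fin m → F) :
    x ∈ U1 g ↔ ∃ u ∈ U0 m F,
      ((g : Matrix.GeneralLinearGroup (Fin m ⊕ Fin m) F) : Matrix (Fin m ⊕ Fin m) (Fin m ⊕ Fin m) F) *ᵥ u
        = x := by
  rw [U1, Submodule.mem_map]
  rfl

theorem polar_U1 (g : ↥(Cfsg.isometryGroup F (Cfsg.quadFormPlus m F))) {u v : Fin m ⊕ Fin m → F}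
    (hu : u ∈ U1 g) (hv : v ∈ U1 g) : QuadraticMap.polar (plusForm m F) u v = 0 := by
  obtain ⟨u', hu', rfl⟩ := (mem_U1 g u).mp hu
  obtain ⟨v', hv', rfl⟩ := (mem_U1 g v).mp hv
  rw [isometry_polar (plusForm m F) g, polar_U0 hu' hv']

theorem Q_U1 (g : ↥(Cfsg.isometryGroup F (Cfsg.quadFormPlus m F))) {u : Fin m ⊕ Fin m → F}
    (hu : u ∈ U1 g) : plusForm m F u = 0 := by
  obtain ⟨u', hu', rfl⟩ := (mem_U1 g u).mp hu
  have := isometry_apply (Cfsg.quadFormPlus m F) g u'
  show Cfsg.quadFormPlus m F _ = 0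
  rw [this]
  exact Q_U0 hu'

theorem mulVec_injective (g : ↥(Cfsg.isometryGroup F (Cfsg.quadFormPlus m F))) :
    Function.Injective (Matrix.mulVecLin
      ((g : Matrix.GeneralLinearGroup (Fin m ⊕ Fin m) F) : Matrix (Fin m ⊕ Fin m) (Fin m ⊕ Fin m) F)) := by
  intro x y hxy
  have h1 : ((g : Matrix.GeneralLinearGroup (Fin m ⊕ Fin m) F)⁻¹ :
      Matrix.GeneralLinearGroup (Fin m ⊕ Fin m) F).1
      * ((g : Matrix.GeneralLinearGroup (Fin m ⊕ Fin m) F) : Matrix (Fin m ⊕ Fin m) (Fin m ⊕ Fin m) F) = 1 := by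
    rw [← Units.val_mul, inv_mul_cancel]
    rfl
  have h2 := congrArg (fun z => ((g : Matrix.GeneralLinearGroup (Fin m ⊕ Fin m) F)⁻¹ :
      Matrix.GeneralLinearGroup (Fin m ⊕ Fin m) F).1 *ᵥ z) hxy
  simp only [Matrix.mulVecLin_apply, Matrix.mulVec_mulVec, h1, Matrix.one_mulVec] at h2
  exact h2

theorem finrank_U1 (g : ↥(Cfsg.isometryGroup F (Cfsg.quadFormPlus m F))) : finrank F (U1 g) = m := by
  rw [U1, ← (Submodule.equivMapOfInjective _ (mulVec_injective g) (U0 m F)).finrank_eq, finrank_U0]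

/-- The determinant of an isometry of the hyperbolic form is `(-1) ^ (m - dim (U0 ∩ g U0))`. -/
theorem det_eq (r : ℕ) : ∀ g : ↥(Cfsg.isometryGroup F (Cfsg.quadFormPlus m F)),
    finrank F ↥(U0 m F ⊓ U1 g) + r = m →
    ((g : Matrix.GeneralLinearGroup (Fin m ⊕ Fin m) F) : Matrix (Fin m ⊕ Fin m) (Fin m ⊕ Fin m) F).det
      = (-1) ^ r := by
  induction r with
  | zero =>
    intro g hg
    rw [add_zero] at hg
    set M := ((g : Matrix.GeneralLinearGroup (Fin m ⊕ Fin m) F) : Matrix (Fin m ⊕ Fin m) (Fin m ⊕ Fin m) F)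
      with hM
    have h1 : U0 m F ⊓ U1 g = U0 m F :=
      Submodule.eq_of_le_of_finrank_eq inf_le_left (by rw [hg, finrank_U0])
    have h2 : U0 m F ≤ U1 g := by
      rw [← h1]
      exact inf_le_right
    have h3 : U0 m F = U1 g :=
      Submodule.eq_of_le_of_finrank_eq h2 (by rw [finrank_U0, finrank_U1])
    have hC : M.toBlocks₂₁ = 0 := by
      ext i j
      have h4 : (Pi.single (Sum.inl j) 1 : Fin m ⊕ Fin m → F) ∈ U0 m F := by
        rw [mem_U0]
        intro j
        simp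
      have h5 : M *ᵥ (Pi.single (Sum.inl j) 1 : Fin m ⊕ Fin m → F) ∈ U0 m F := by
        rw [h3]
        exact (mem_U1 g _).mpr ⟨_, h4, rfl⟩
      rw [mem_U0] at h5
      have := h5 i
      rw [Matrix.mulVec_single_one] at this
      exact this
    have hMb : M = Matrix.fromBlocks M.toBlocks₁₁ M.toBlocks₁₂ 0 M.toBlocks₂₂ := by
      conv_lhs => rw [← Matrix.fromBlocks_toBlocks M, hC]
    have hP : PresPlus M := presPlus_of_mem g
    rw [hMb] at hP
    obtain ⟨-, r2, -, -, -, -⟩ := presPlus_blocks hP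
    rw [Matrix.transpose_zero, Matrix.zero_mul, add_zero] at r2
    have := congrArg Matrix.det r2
    rw [Matrix.det_mul, Matrix.det_transpose, Matrix.det_one] at this
    rw [hMb, Matrix.det_fromBlocks_zero₂₁, this, pow_zero]
  | succ r ih =>
    intro g hg
    set M := ((g : Matrix.GeneralLinearGroup (Fin m ⊕ Fin m) F) : Matrix (Fin m ⊕ Fin m) (Fin m ⊕ Fin m) F)
      with hM
    -- vectors `u₀ ∈ U0`, `u₁ ∈ U1 g` that are not orthogonal
    obtain ⟨u₀, hu₀, u₁, hu₁, hne⟩ : ∃ u₀ ∈ U0 m F, ∃ u₁ ∈ U1 g,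
        QuadraticMap.polar (plusForm m F) u₀ u₁ ≠ 0 := by
      by_contra hcon
      have hle : U1 g ≤ U0 m F := by
        intro x hx
        apply mem_U0_of_orth
        intro u hu
        by_contra h
        exact hcon ⟨u, hu, x, hx, h⟩
      have h1 : U0 m F ⊓ U1 g = U1 g := inf_eq_right.mpr hle
      rw [h1, finrank_U1] at hg
      omega
    set Q := plusForm m F with hQ
    set w := u₁ - u₀ with hw
    have hQu₀ : Q u₀ = 0 := Q_U0 hu₀
    have hQu₁ : Q u₁ = 0 := Q_U1 g hu₁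
    have hne' : QuadraticMap.polar Q u₁ u₀ ≠ 0 := by rw [QuadraticMap.polar_comm]; exact hne
    have hQw : Q w = - QuadraticMap.polar Q u₁ u₀ := by
      rw [hw, sub_eq_add_neg, QuadraticMap.map_add Q, QuadraticMap.map_neg, hQu₀, hQu₁,
        QuadraticMap.polar_neg_right]
      ring
    have hQw0 : Q w ≠ 0 := by rw [hQw]; exact neg_ne_zero.mpr hne'
    have hRu₁ : Cfsg.reflectionMatrix ⇑Q w *ᵥ u₁ = u₀ := by
      rw [refl_mulVec, hQw, hw, QuadraticMap.polar_sub_left, QuadraticMap.polar_self, hQu₁,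
        QuadraticMap.polar_comm Q u₀ u₁]
      have : (-QuadraticMap.polar (⇑Q) u₁ u₀)⁻¹ * (2 • (0 : F) - QuadraticMap.polar (⇑Q) u₁ u₀) = 1 := by
        rw [smul_zero, zero_sub]
        exact inv_mul_cancel₀ (neg_ne_zero.mpr hne')
      rw [this, one_smul]
      abel
    let r₀ : ↥(Cfsg.isometryGroup F (Cfsg.quadFormPlus m F)) := reflG Q w hQw0
    let g' : ↥(Cfsg.isometryGroup F (Cfsg.quadFormPlus m F)) := r₀ * g
    have hg'M : ((g' : Matrix.GeneralLinearGroup (Fin m ⊕ Fin m) F) :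
        Matrix (Fin m ⊕ Fin m) (Fin m ⊕ Fin m) F) = Cfsg.reflectionMatrix ⇑Q w * M := rfl
    have hU1' : ∀ x, x ∈ U1 g' ↔ ∃ y ∈ U1 g, Cfsg.reflectionMatrix ⇑Q w *ᵥ y = x := by
      intro x
      rw [mem_U1, hg'M]
      constructor
      · rintro ⟨u, hu, rfl⟩
        exact ⟨M *ᵥ u, (mem_U1 g _).mpr ⟨u, hu, rfl⟩, by rw [Matrix.mulVec_mulVec]⟩
      · rintro ⟨y, hy, rfl⟩
        obtain ⟨u, hu, rfl⟩ := (mem_U1 g y).mp hy
        exact ⟨u, hu, by rw [Matrix.mulVec_mulVec]⟩
    have hu₀Z : u₀ ∉ U0 m F ⊓ U1 g := by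
      intro h
      exact hne (polar_U1 g h.2 hu₁)
    have hu₀0 : u₀ ≠ 0 := by
      rintro rfl
      exact hu₀Z (Submodule.zero_mem _)
    have hZ' : U0 m F ⊓ U1 g' = (U0 m F ⊓ U1 g) ⊔ Submodule.span F {u₀} := by
      apply le_antisymm
      · rintro x ⟨hx0, hx1⟩
        obtain ⟨y, hy, rfl⟩ := (hU1' x).mp hx1
        rw [refl_mulVec] at hx0 ⊢
        set c := (Q w)⁻¹ * QuadraticMap.polar (⇑Q) w y with hc
        have hz : y - c • w - c • u₀ = y - c • u₁ := by
          rw [hw, smul_sub]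
          abel
        have hz0 : y - c • w - c • u₀ ∈ U0 m F :=
          Submodule.sub_mem _ hx0 (Submodule.smul_mem _ _ hu₀)
        have hz1 : y - c • w - c • u₀ ∈ U1 g := by
          rw [hz]
          exact Submodule.sub_mem _ hy (Submodule.smul_mem _ _ hu₁)
        have : y - c • w = (y - c • w - c • u₀) + c • u₀ := by abel
        rw [this]
        exact Submodule.add_mem_sup ⟨hz0, hz1⟩
          (Submodule.smul_mem _ _ (Submodule.mem_span_singleton_self u₀))
      · apply sup_le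
        · rintro z ⟨hz0, hz1⟩
          refine ⟨hz0, (hU1' z).mpr ⟨z, hz1, ?_⟩⟩
          apply refl_mulVec_of_orth
          rw [hw, QuadraticMap.polar_sub_left, polar_U1 g hu₁ hz1, polar_U0 hu₀ hz0, sub_zero]
        · rw [Submodule.span_singleton_le_iff_mem]
          exact ⟨hu₀, (hU1' u₀).mpr ⟨u₁, hu₁, hRu₁⟩⟩
    have hdisj : (U0 m F ⊓ U1 g) ⊓ Submodule.span F {u₀} = ⊥ := by
      rw [eq_bot_iff]
      rintro x ⟨hx1, hx2⟩
      obtain ⟨c, rfl⟩ := Submodule.mem_span_singleton.mp hx2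
      by_cases hc : c = 0
      · rw [hc, zero_smul]
        exact Submodule.zero_mem _
      · exfalso
        apply hu₀Z
        have := Submodule.smul_mem _ c⁻¹ hx1
        rwa [smul_smul, inv_mul_cancel₀ hc, one_smul] at this
    have hdim : finrank F ↥(U0 m F ⊓ U1 g') = finrank F ↥(U0 m F ⊓ U1 g) + 1 := by
      have := Submodule.finrank_sup_add_finrank_inf_eq (U0 m F ⊓ U1 g) (Submodule.span F {u₀})
      rw [hdisj, finrank_bot, add_zero, finrank_span_singleton hu₀0, ← hZ'] at this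
      exact this
    have hdet' := ih g' (by rw [hdim]; omega)
    rw [hg'M, Matrix.det_mul, det_refl Q w hQw0] at hdet'
    rw [pow_succ]
    linear_combination -hdet'

/-- For the hyperbolic form Σ x_i y_i on F^(2m) over a finite field of odd order (m ≥ 1), an isometry g preserves the class of the maximal totally singular subspace U₀ = {y = 0} (that is, m − dim(U₀ ∩ gU₀) is even) if and only if det g = 1: the stabiliser of each of the two classes of maximal totally singular subspaces is SO. -/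
theorem result {F : Type*} [Field F] [Fintype F] (h2 : (2 : F) ≠ 0) {m : ℕ} (hm : 1 ≤ m) (g : ↥(Cfsg.isometryGroup F (Cfsg.quadFormPlus m F))) : Even (m - Module.finrank F ↥(LinearMap.ker (LinearMap.funLeft F F (Sum.inr : Fin m → Fin m ⊕ Fin m)) ⊓ (LinearMap.ker (LinearMap.funLeft F F (Sum.inr : Fin m → Fin m ⊕ Fin m))).map (Matrix.mulVecLin ((g : Matrix.GeneralLinearGroup (Fin m ⊕ Fin m) F) : Matrix (Fin m ⊕ Fin m) (Fin m ⊕ Fin m) F)))) ↔ ((g : Matrix.GeneralLinearGroup (Fin m ⊕ Fin m) F) : Matrix (Fin m ⊕ Fin m) (Fin m ⊕ Fin m) F).det = 1 := by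
  have hle : finrank F ↥(U0 m F ⊓ U1 g) ≤ m := by
    have := Submodule.finrank_mono (inf_le_left : U0 m F ⊓ U1 g ≤ U0 m F)
    rwa [finrank_U0] at this
  have hdet := det_eq (m - finrank F ↥(U0 m F ⊓ U1 g)) g (by omega)
  show Even (m - finrank F ↥(U0 m F ⊓ U1 g)) ↔ _
  rw [hdet]
  constructor
  · intro he
    exact he.neg_one_pow
  · intro h1
    by_contra hodd
    rw [Nat.not_even_iff_odd] at hodd
    rw [hodd.neg_one_pow] at h1
    apply h2
    linear_combination -h1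

end Cfsg.Agent.S2629
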