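-- Statement S2631 (row 2631).
import Cfsg.Statements.S2631
import Cfsg.Agent.Lib.helper49.PlusOmega
import Cfsg.Agent.S0788

set_option autoImplicit false
open Cfsg

namespace Cfsg.Agent.S2631

open Module Matrix Cfsg.Agent.Lib.helper49

section
variable {F : Type*} [Field F] {m : ℕ}

/-- An isometry with zero lower left block stabilises the standard maximal totally singular subspace. -/
theorem map_plusU0_of_block (g : ↥(Cfsg.isometryGroup F (Cfsg.quadFormPlus m F)))
    (hC : ((g : Matrix.GeneralLinearGroup (Fin m ⊕ Fin m) F) :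
      Matrix (Fin m ⊕ Fin m) (Fin m ⊕ Fin m) F).toBlocks₂₁ = 0) :
    (plusU0 m F).map (Matrix.mulVecLin ((g : Matrix.GeneralLinearGroup (Fin m ⊕ Fin m) F) :
      Matrix (Fin m ⊕ Fin m) (Fin m ⊕ Fin m) F)) = plusU0 m F := by
  apply Submodule.eq_of_le_of_finrank_eq
  · intro x hx
    obtain ⟨u, hu, rfl⟩ := Submodule.mem_map.mp hx
    rw [mem_plusU0] at hu ⊢
    intro i
    rw [Matrix.mulVecLin_apply, Matrix.mulVec, dotProduct, Fintype.sum_sum_type]
    have h1 : ∀ j : Fin m, ((g : Matrix.GeneralLinearGroup (Fin m ⊕ Fin m) F) :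
        Matrix (Fin m ⊕ Fin m) (Fin m ⊕ Fin m) F) (Sum.inr i) (Sum.inl j) = 0 := by
      intro j
      exact congrFun (congrFun hC i) j
    simp only [h1, hu, zero_mul, mul_zero, Finset.sum_const_zero, add_zero]
  · rw [finrank_map_isometry]

theorem detHom_reflPlus (w : Fin m ⊕ Fin m → F) (hw : plusForm m F w ≠ 0) :
    detHom (Cfsg.quadFormPlus m F) (reflPlus w hw) = -1 := by
  apply Units.ext
  rw [detHom, MonoidHom.comp_apply, Matrix.GeneralLinearGroup.val_det_apply]
  simp only [Subgroup.coe_subtype, Units.val_neg, Units.val_one]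
  rw [reflPlus_val, det_refl _ w hw]

/-- In odd characteristic there is an isometry stabilising the standard maximal totally singular
subspace with determinant one and non-trivial spinor sign. -/
theorem exists_stab_spinor [Fintype F] (h2 : (2 : F) ≠ 0) (hm : 1 ≤ m) :
    ∃ x : ↥(Cfsg.isometryGroup F (Cfsg.quadFormPlus m F)),
      (plusU0 m F).map (Matrix.mulVecLin ((x : Matrix.GeneralLinearGroup (Fin m ⊕ Fin m) F) :
        Matrix (Fin m ⊕ Fin m) (Fin m ⊕ Fin m) F)) = plusU0 m F ∧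
      detHom (Cfsg.quadFormPlus m F) x = 1 ∧ spinorSign (Cfsg.quadFormPlus m F) x = -1 := by
  have hchar : ringChar F ≠ 2 := by
    intro h
    apply h2
    have := CharP.cast_eq_zero F (ringChar F)
    rw [h] at this
    exact_mod_cast this
  obtain ⟨c, hc⟩ := FiniteField.exists_nonsquare hchar
  have hc0 : c ≠ 0 := by
    rintro rfl
    exact hc IsSquare.zero
  let i₀ : Fin m := ⟨0, hm⟩
  set e : Fin m ⊕ Fin m → F := Pi.single (Sum.inl i₀) 1 with he
  set f : Fin m ⊕ Fin m → F := Pi.single (Sum.inr i₀) 1 with hf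
  have hQe : plusForm m F e = 0 := plusForm_single m _
  have hQf : plusForm m F f = 0 := plusForm_single m _
  have hef : QuadraticMap.polar (plusForm m F) e f = 1 := by
    rw [he, hf, polar_plusForm_single]
    simp [gramPlus]
  have hQ1 : plusForm m F (e - (1 : F) • f) = -1 := hyp_Q (plusForm m F) e f hQe hQf hef 1
  have hQc : plusForm m F (e - c • f) = -c := hyp_Q (plusForm m F) e f hQe hQf hef c
  have hQ1' : plusForm m F (e - (1 : F) • f) ≠ 0 := by
    rw [hQ1]
    exact neg_ne_zero.mpr one_ne_zero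
  have hQc' : plusForm m F (e - c • f) ≠ 0 := by
    rw [hQc]
    exact neg_ne_zero.mpr hc0
  set D := diagGL (Function.update (1 : Fin m → F) i₀ c) (update_one_ne_zero i₀ c hc0) with hD
  have hx : levi D = reflPlus (e - (1 : F) • f) hQ1' * reflPlus (e - c • f) hQc' := by
    apply isometry_ext
    rw [levi_val, Subgroup.coe_mul, Units.val_mul, reflPlus_val, reflPlus_val, ← Matrix.coe_units_inv,
      hD, diagGL_inv_val, diagGL_val, Matrix.diagonal_transpose]
    exact diag_eq_rot i₀ c hc0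
  refine ⟨levi D, ?_, ?_, ?_⟩
  · apply map_plusU0_of_block
    rw [levi_val, Matrix.toBlocks_fromBlocks₂₁]
  · rw [hx, map_mul, detHom_reflPlus, detHom_reflPlus]
    simp
  · rw [hx, map_mul]
    have s1 := spinorSign_refl h2 (plusForm m F) (e - (1 : F) • f) hQ1'
    have s2 := spinorSign_refl h2 (plusForm m F) (e - c • f) hQc'
    rw [hQ1] at s1
    rw [hQc] at s2
    have hiff := isSquare_mul_iff h2 (a := (-1 : F)) (b := c) (neg_ne_zero.mpr one_ne_zero) hc0
    rw [neg_one_mul] at hiff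
    by_cases hsq : IsSquare (-1 : F)
    · have hnc : ¬ IsSquare (-c) := fun h => hc ((hiff.mp h).mp hsq)
      have e1 : spinorSign (Cfsg.quadFormPlus m F) (reflPlus (e - (1 : F) • f) hQ1') = -1 := s1.1 hsq
      have e2 : spinorSign (Cfsg.quadFormPlus m F) (reflPlus (e - c • f) hQc') = 1 := s2.2 hnc
      rw [e1, e2, mul_one]
    · have hnc : IsSquare (-c) := hiff.mpr ⟨fun h => absurd h hsq, fun h => absurd h hc⟩
      have e1 : spinorSign (Cfsg.quadFormPlus m F) (reflPlus (e - (1 : F) • f) hQ1') = 1 := s1.2 hsq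
      have e2 : spinorSign (Cfsg.quadFormPlus m F) (reflPlus (e - c • f) hQc') = -1 := s2.1 hnc
      rw [e1, e2, one_mul]

/-- In odd characteristic `Ω` is cut out by the determinant and the spinor sign. -/
theorem mem_Omega_of_det_spinor [Fintype F] (h2 : (2 : F) ≠ 0)
    (g : ↥(Cfsg.isometryGroup F (Cfsg.quadFormPlus m F)))
    (hdet : detHom (Cfsg.quadFormPlus m F) g = 1) (hs : spinorSign (Cfsg.quadFormPlus m F) g = 1) :
    g ∈ Cfsg.Omega F (Cfsg.quadFormPlus m F) := by
  have h : (g : ↥(Cfsg.isometryGroup F ⇑(plusForm m F))) ∈ (Cfsg.Agent.S0788.Phi (plusForm m F)).ker :=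
    MonoidHom.mem_ker.mpr (Prod.ext hdet hs)
  rw [← Cfsg.Agent.S0788.Omega_eq_ker h2 (plusForm m F) nondegenerate_plusForm] at h
  exact h

end

/-- For the hyperbolic form Σ x_i y_i on F^(2m) over a finite field (m ≥ 1, excluding m = 2 over F_2), Ω is transitive on each of the two classes of maximal totally singular subspaces: if U and W are totally singular of dimension m and m − dim(U ∩ W) is even, then some element of Ω carries U to W. -/
theorem result {F : Type*} [Field F] [Fintype F] {m : ℕ} (hm : 1 ≤ m) (h : Fintype.card F ≠ 2 ∨ m ≠ 2) (U W : Submodule F (Fin m ⊕ Fin m → F)) (hU : Module.finrank F U = m) (hW : Module.finrank F W = m) (hU0 : ∀ u ∈ U, Cfsg.quadFormPlus m F u = 0) (hW0 : ∀ w ∈ W, Cfsg.quadFormPlus m F w = 0) (he : Even (m - Module.finrank F ↥(U ⊓ W))) : ∃ g : ↥(Cfsg.isometryGroup F (Cfsg.quadFormPlus m F)), g ∈ Cfsg.Omega F (Cfsg.quadFormPlus m F) ∧ U.map (Matrix.mulVecLin ((g : Matrix.GeneralLinearGroup (Fin m ⊕ Fin m) F) : Matrix (Fin m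 ⊕ Fin m) (Fin m ⊕ Fin m) F)) = W := by
  obtain ⟨gU, hgU⟩ := exists_isometry_map_plusU0 U hU hU0
  obtain ⟨gW, hgW⟩ := exists_isometry_map_plusU0 W hW hW0
  have hW' : (plusU0 m F).map (Matrix.mulVecLin ((gW⁻¹ : ↥(Cfsg.isometryGroup F (Cfsg.quadFormPlus m F))) :
      Matrix.GeneralLinearGroup (Fin m ⊕ Fin m) F).1) = W := by
    rw [← hgW, ← map_mul_isometry, inv_mul_cancel, map_one_isometry]
  set h₀ := gU * gW⁻¹ with hh₀
  have hU1 : plusU1 h₀ = W.map (Matrix.mulVecLin ((gU : Matrix.GeneralLinearGroup (Fin m ⊕ Fin m) F) :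
      Matrix (Fin m ⊕ Fin m) (Fin m ⊕ Fin m) F)) := by
    unfold plusU1
    rw [hh₀, map_mul_isometry, hW']
  have hinf : plusU0 m F ⊓ plusU1 h₀
      = (U ⊓ W).map (Matrix.mulVecLin ((gU : Matrix.GeneralLinearGroup (Fin m ⊕ Fin m) F) :
      Matrix (Fin m ⊕ Fin m) (Fin m ⊕ Fin m) F)) := by
    rw [hU1, ← hgU, Submodule.map_inf _ (isometry_mulVec_injective gU)]
  have hrank : finrank F ↥(plusU0 m F ⊓ plusU1 h₀) = finrank F ↥(U ⊓ W) := by
    rw [hinf, finrank_map_isometry]
  have key : ∃ x : ↥(Cfsg.isometryGroup F (Cfsg.quadFormPlus m F)),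
      (plusU0 m F).map (Matrix.mulVecLin ((x : Matrix.GeneralLinearGroup (Fin m ⊕ Fin m) F) :
        Matrix (Fin m ⊕ Fin m) (Fin m ⊕ Fin m) F)) = plusU0 m F ∧
      x * h₀ ∈ Cfsg.Omega F (Cfsg.quadFormPlus m F) := by
    by_cases h2 : (2 : F) = 0
    · refine ⟨1, map_one_isometry _, ?_⟩
      rw [one_mul]
      exact (mem_Omega_iff_even_char_two h2 hm h h₀).mpr (by rw [hrank]; exact he)
    · have hdet : detHom (Cfsg.quadFormPlus m F) h₀ = 1 := by
        rw [detHom_eq_pow, hrank, he.neg_one_pow]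
      rcases Int.units_eq_one_or (spinorSign (Cfsg.quadFormPlus m F) h₀) with hs | hs
      · refine ⟨1, map_one_isometry _, ?_⟩
        rw [one_mul]
        exact mem_Omega_of_det_spinor h2 h₀ hdet hs
      · obtain ⟨x, hx1, hx2, hx3⟩ := exists_stab_spinor (F := F) h2 hm
        refine ⟨x, hx1, ?_⟩
        apply mem_Omega_of_det_spinor h2
        · rw [map_mul, hx2, hdet, one_mul]
        · rw [map_mul, hx3, hs]
          rfl
  obtain ⟨x, hx, hxΩ⟩ := key
  refine ⟨gW⁻¹ * (x * h₀) * gW, ?_, ?_⟩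
  · have hn : (Cfsg.Omega F (Cfsg.quadFormPlus m F)).Normal := by
      unfold Cfsg.Omega
      infer_instance
    have := hn.conj_mem _ hxΩ gW⁻¹
    rwa [inv_inv] at this
  · have e1 : gW⁻¹ * (x * h₀) * gW = gW⁻¹ * (x * gU) := by
      rw [hh₀]
      group
    rw [e1, map_mul_isometry, map_mul_isometry, hgU, hx, hW']

end Cfsg.Agent.S2631
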