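-- Statement S2632 (row 2632).
import Cfsg.Statements.S2632
import Cfsg.Agent.Lib.helper49.WittIso

set_option autoImplicit false
open Cfsg

namespace Cfsg.Agent.S2632

open Module Matrix Cfsg.Agent.Lib.helper49

/-- Let Q be a non-degenerate quadratic form on F^n over a finite field (n ≥ 3, excluding n = 4 over F_2). If U and W are non-degenerate subspaces and some linear isometry carries U to W, then some element of Ω(Q) carries U to W. -/
theorem result {F : Type*} [Field F] [Fintype F] {n : ℕ} (hn : 3 ≤ n) (h : Fintype.card F ≠ 2 ∨ n ≠ 4) (Q : QuadraticForm F (Fin n → F)) (hQ : (QuadraticMap.polarBilin Q).Nondegenerate) (U W : Submodule F (Fin n → F)) (hU : U ⊓ LinearMap.BilinForm.orthogonal (QuadraticMap.polarBilin Q) U = ⊥) (hW : W ⊓ LinearMap.BilinForm.orthogonal (QuadraticMap.polarBilin Q) W = ⊥) (e : U ≃ₗ[F] W) (he : ∀ u : U, Q (e u : Fin n → F) = Q (u : Fin n → F)) : ∃ g : ↥(Cfsg.isometryGroup F ⇑Q), g ∈ Cfsg.Omega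 F ⇑Q ∧ U.map (Matrix.mulVecLin ((g : Matrix.GeneralLinearGroup (Fin n) F) : Matrix (Fin n) (Fin n) F)) = W := by
  obtain ⟨g₀, hg₀⟩ := exists_isometry_map_eq Q hQ U W e he
  have key : ∃ s : ↥(Cfsg.isometryGroup F ⇑Q),
      U.map (Matrix.mulVecLin ((s : Matrix.GeneralLinearGroup (Fin n) F) : Matrix (Fin n) (Fin n) F)) = U ∧
      g₀ * s ∈ Cfsg.Omega F ⇑Q := by
    by_cases h2 : (2 : F) = 0
    · have hgen := Cfsg.Agent.S0786.reflSubgroup_eq_top' Q hQ (by simpa using h)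
      have : Nonempty (Fin n) := ⟨⟨0, by omega⟩⟩
      obtain ⟨w, hw, hs₁⟩ := exists_refl_stab_nondeg Q hQ U hU
      exact exists_correction_even h2 Q hQ hgen U (reflG Q w hw) hs₁
        (reflG_not_mem_Omega_char_two h2 Q hQ hgen w hw) g₀
    · obtain ⟨s₁, s₂, h₁, h₂, hd₁, hd₂, hs₂⟩ :=
        exists_stab_nondeg_odd h2 Q hQ (by rw [Fintype.card_fin]; exact hn) U hU
      exact exists_correction_odd h2 Q hQ U s₁ s₂ h₁ h₂ hd₁ hd₂ hs₂ g₀
  obtain ⟨s, hs, hsΩ⟩ := key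
  exact ⟨g₀ * s, hsΩ, by rw [map_mul_iso, hs, hg₀]⟩

end Cfsg.Agent.S2632
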