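-- Statement S2633 (row 2633).
import Cfsg.Statements.S2633
import Cfsg.Agent.Lib.helper49.WittIso

set_option autoImplicit false
open Cfsg

namespace Cfsg.Agent.S2633

open Module Matrix Cfsg.Agent.Lib.helper49

/-- Let Q be a non-degenerate quadratic form on F^n over a finite field (excluding n = 4 over F_2) and 2k < n. Then Ω(Q) is transitive on the totally singular subspaces of dimension k. -/
theorem result {F : Type*} [Field F] [Fintype F] {n : ℕ} (h : Fintype.card F ≠ 2 ∨ n ≠ 4) (Q : QuadraticForm F (Fin n → F)) (hQ : (QuadraticMap.polarBilin Q).Nondegenerate) (U W : Submodule F (Fin n → F)) {k : ℕ} (hk : 2 * k < n) (hU : Module.finrank F U = k) (hW : Module.finrank F W = k) (hU0 : ∀ u ∈ U, Q u = 0) (hW0 : ∀ w ∈ W, Q w = 0) : ∃ g : ↥(Cfsg.isometryGroup F ⇑Q), g ∈ Cfsg.Omega F ⇑Q ∧ U.map (Matrix.mulVecLin ((g : Matrix.GeneralLinearGroup (Fin n) F) : Matrix (Fin n) (Fin n) F)) = W := by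
  let φ : U ≃ₗ[F] W := LinearEquiv.ofFinrankEq U W (by rw [hU, hW])
  obtain ⟨g₀, hg₀⟩ := exists_isometry_map_eq Q hQ U W φ
    (fun x => by rw [hU0 _ x.2, hW0 _ (φ x).2])
  have key : ∃ s : ↥(Cfsg.isometryGroup F ⇑Q),
      U.map (Matrix.mulVecLin ((s : Matrix.GeneralLinearGroup (Fin n) F) : Matrix (Fin n) (Fin n) F)) = U ∧
      g₀ * s ∈ Cfsg.Omega F ⇑Q := by
    obtain ⟨w, hw, horth⟩ := exists_nonsingular_orth Q hQ U (by rw [hU, Fintype.card_fin]; exact hk)
    have hs₁ := refl_map_of_orth Q U w hw horth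
    by_cases h2 : (2 : F) = 0
    · have hgen := Cfsg.Agent.S0786.reflSubgroup_eq_top' Q hQ (by simpa using h)
      exact exists_correction_even h2 Q hQ hgen U (reflG Q w hw) hs₁
        (reflG_not_mem_Omega_char_two h2 Q hQ hgen w hw) g₀
    · by_cases hUbot : U = ⊥
      · exact ⟨g₀⁻¹, by rw [hUbot, Submodule.map_bot], by rw [mul_inv_cancel]; exact one_mem _⟩
      · obtain ⟨s₂, hs₂, hd₂, hsp₂⟩ := exists_rot_stab h2 Q hQ U hU0 hUbot
        exact exists_correction_odd h2 Q hQ U (reflG Q w hw) s₂ hs₁ hs₂ (detHom_reflG Q w hw) hd₂ hsp₂ g₀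
  obtain ⟨s, hs, hsΩ⟩ := key
  exact ⟨g₀ * s, hsΩ, by rw [map_mul_iso, hs, hg₀]⟩

end Cfsg.Agent.S2633
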