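-- Statement S2634 (row 2634).
import Cfsg.Statements.S2634
import Cfsg.Agent.Lib.helper42.Dickson2
import Cfsg.Agent.Lib.helper49.Witt
import Cfsg.Agent.Lib.helper49.SpinorApps
import Cfsg.Agent.S0786

set_option autoImplicit false
open Cfsg

namespace Cfsg.Agent.S2634

open Cfsg.Agent.Lib.helper42 Cfsg.Agent.Lib.helper17

theorem two_eq_zero_of_charP {F : Type*} [Field F] [CharP F 2] : (2 : F) = 0 := by
  have := CharP.cast_eq_zero F 2
  exact_mod_cast this

theorem eq_ofAdd_one_of_ne_one : ∀ x : Multiplicative (ZMod 2), x ≠ 1 → x = Multiplicative.ofAdd 1 := by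
  decide

/-- Let Q be a non-degenerate quadratic form on F^n over a finite field of characteristic two (excluding n = 4 over F_2). Then Ω(Q) is transitive on the non-singular points: for non-singular vectors u, v some element of Ω carries the line of u to the line of v. -/
theorem result {F : Type*} [Field F] [Fintype F] [CharP F 2] {n : ℕ} (h : Fintype.card F ≠ 2 ∨ n ≠ 4) (Q : QuadraticForm F (Fin n → F)) (hQ : (QuadraticMap.polarBilin Q).Nondegenerate) (u v : Fin n → F) (hu : Q u ≠ 0) (hv : Q v ≠ 0) : ∃ g : ↥(Cfsg.isometryGroup F ⇑Q), g ∈ Cfsg.Omega F ⇑Q ∧ (F ∙ ((g : Matrix.GeneralLinearGroup (Fin n) F) : Matrix (Fin n) (Fin n) F).mulVec u) = F ∙ v := by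
  have h2 : (2 : F) = 0 := two_eq_zero_of_charP
  have hgen := Cfsg.Agent.S0786.reflSubgroup_eq_top' Q hQ (by simpa using h)
  obtain ⟨c, hc⟩ := Cfsg.Agent.Lib.helper49.exists_mul_self_of_two_eq_zero h2 (Q u / Q v)
  have hc0 : c ≠ 0 := by
    rintro rfl
    rw [mul_zero] at hc
    exact (div_ne_zero hu hv) hc.symm
  have hv' : Q (c • v) = Q u := by
    rw [QuadraticMap.map_smul, smul_eq_mul, hc]
    field_simp
  obtain ⟨g₀, hg₀⟩ := exists_isometry_map Q hQ u (c • v) hu hv'
  by_cases hg : g₀ ∈ Cfsg.Omega F ⇑Q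
  · refine ⟨g₀, hg, ?_⟩
    rw [hg₀]
    exact Submodule.span_singleton_smul_eq (isUnit_iff_ne_zero.mpr hc0) v
  · refine ⟨g₀ * reflectionIsom Q u hu, ?_, ?_⟩
    · rw [Omega_eq_ker_dickson h2 Q hQ hgen, MonoidHom.mem_ker] at hg ⊢
      rw [map_mul, dickson_refl, eq_ofAdd_one_of_ne_one _ hg]
      rfl
    · rw [Subgroup.coe_mul, Units.val_mul, reflectionIsom_coe, ← Matrix.mulVec_mulVec,
        Cfsg.Agent.Lib.helper49.refl_mulVec_self Q u hu, Matrix.mulVec_neg, hg₀, ← neg_smul]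
      exact Submodule.span_singleton_smul_eq (isUnit_iff_ne_zero.mpr (neg_ne_zero.mpr hc0)) v

end Cfsg.Agent.S2634
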