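-- Statement S2636 (row 2636).
import Cfsg.Statements.S2636

set_option autoImplicit false
open Cfsg

namespace Cfsg.Agent.S2636

open Module

variable {F : Type*} [Field F]

theorem mem_fixed_iff (σ : F ≃+* F) (x : F) :
    x ∈ FixedPoints.subfield (Subgroup.zpowers σ) F ↔ σ x = x := by
  constructor
  · intro h
    exact h ⟨σ, Subgroup.mem_zpowers σ⟩
  · intro h g
    have hle : Subgroup.zpowers σ ≤ MulAction.stabilizer (F ≃+* F) x := by
      rw [Subgroup.zpowers_le]
      exact h
    exact hle g.2

theorem card_fixed [Fintype F] (σ : F ≃+* F) {q₀ r : ℕ} (hr : r.Prime) (hF : Fintype.card F = q₀ ^ r)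
    (hσ : orderOf σ = r) : Nat.card (FixedPoints.subfield (Subgroup.zpowers σ) F) = q₀ := by
  classical
  have hfin : IsOfFinOrder σ := orderOf_pos_iff.mp (hσ ▸ hr.pos)
  have : Finite (Subgroup.zpowers σ) := (finite_zpowers.mpr hfin).to_subtype
  have : Fintype (Subgroup.zpowers σ) := Fintype.ofFinite _
  have : Fintype (FixedPoints.subfield (Subgroup.zpowers σ) F) := Fintype.ofFinite _
  have h1 : Module.finrank (FixedPoints.subfield (Subgroup.zpowers σ) F) F = r := by
    rw [FixedPoints.finrank_eq_card, ← Nat.card_eq_fintype_card, Nat.card_zpowers, hσ]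
  have h2 := Module.card_eq_pow_finrank (K := FixedPoints.subfield (Subgroup.zpowers σ) F) (V := F)
  rw [h1, hF] at h2
  rw [Nat.card_eq_fintype_card]
  exact (Nat.pow_left_injective hr.ne_zero h2).symm

/-- The homomorphism `F^× × GL_n(K) → GL_n(F)`, `(a, h) ↦ a h`. -/
noncomputable def psi (K : Subfield F) (n : ℕ) : Fˣ × GL (Fin n) K →* GL (Fin n) F where
  toFun p := Matrix.GeneralLinearGroup.scalar (Fin n) p.1 * Matrix.GeneralLinearGroup.map K.subtype p.2
  map_one' := by simp
  map_mul' p p' := by
    have h : Commute (Matrix.GeneralLinearGroup.scalar (Fin n) p'.1)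
        (Matrix.GeneralLinearGroup.map K.subtype p.2) :=
      Matrix.GeneralLinearGroup.scalar_commute _ _
    simp only [Prod.fst_mul, Prod.snd_mul, map_mul]
    exact h.mul_mul_mul_comm _ _

theorem psi_apply (K : Subfield F) (n : ℕ) (a : Fˣ) (h : GL (Fin n) K) (i j : Fin n) :
    (psi K n (a, h) : Matrix (Fin n) (Fin n) F) i j = (a : F) * ((h : Matrix (Fin n) (Fin n) K) i j : F) := by
  show ((Matrix.GeneralLinearGroup.scalar (Fin n) a * Matrix.GeneralLinearGroup.map K.subtype h : GL (Fin n) F)
    : Matrix (Fin n) (Fin n) F) i j = _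
  rw [Units.val_mul, Matrix.GeneralLinearGroup.coe_scalar]
  simp

theorem mem_range_psi_iff (σ : F ≃+* F) {n : ℕ} (hn : 1 ≤ n) (g : GL (Fin n) F) :
    (∃ c : F, c ≠ 0 ∧ (g : Matrix (Fin n) (Fin n) F).map σ = c • (g : Matrix (Fin n) (Fin n) F)) ↔
      g ∈ (psi (FixedPoints.subfield (Subgroup.zpowers σ) F) n).range := by
  constructor
  · rintro ⟨c, hc, hg⟩
    have hne : Nonempty (Fin n) := ⟨⟨0, hn⟩⟩
    obtain ⟨i, j, hij⟩ : ∃ i j, (g : Matrix (Fin n) (Fin n) F) i j ≠ 0 := by
      by_contra hcon
      have h0 : (g : Matrix (Fin n) (Fin n) F) = 0 := by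
        ext i j
        by_contra h
        exact hcon ⟨i, j, h⟩
      have := Matrix.GeneralLinearGroup.det_ne_zero g
      rw [h0, Matrix.det_zero] at this
      exact this rfl
    have hσ : ∀ k l, σ ((g : Matrix (Fin n) (Fin n) F) k l) = c * (g : Matrix (Fin n) (Fin n) F) k l := by
      intro k l
      have := congrFun (congrFun hg k) l
      simpa using this
    obtain ⟨a, ha⟩ : ∃ a : F, a = (g : Matrix (Fin n) (Fin n) F) i j := ⟨_, rfl⟩
    rw [← ha] at hij
    have hσa : σ a = c * a := by rw [ha]; exact hσ i j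
    have hfix : ∀ k l, σ (a⁻¹ * (g : Matrix (Fin n) (Fin n) F) k l)
        = a⁻¹ * (g : Matrix (Fin n) (Fin n) F) k l := by
      intro k l
      rw [map_mul, map_inv₀, hσ, hσa]
      field_simp
    let hK : Matrix (Fin n) (Fin n) (FixedPoints.subfield (Subgroup.zpowers σ) F) :=
      fun k l => ⟨a⁻¹ * (g : Matrix (Fin n) (Fin n) F) k l, (mem_fixed_iff σ _).mpr (hfix k l)⟩
    have hmap : hK.map (FixedPoints.subfield (Subgroup.zpowers σ) F).subtype
        = a⁻¹ • (g : Matrix (Fin n) (Fin n) F) := by
      ext k l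
      rfl
    have hdet : hK.det ≠ 0 := by
      intro h0
      have h1 := RingHom.map_det (FixedPoints.subfield (Subgroup.zpowers σ) F).subtype hK
      rw [h0, map_zero] at h1
      have h2 : (hK.map (FixedPoints.subfield (Subgroup.zpowers σ) F).subtype).det = 0 := h1.symm
      rw [hmap, Matrix.det_smul] at h2
      have h3 := Matrix.GeneralLinearGroup.det_ne_zero g
      have h4 : a⁻¹ ^ Fintype.card (Fin n) ≠ 0 := pow_ne_zero _ (inv_ne_zero hij)
      exact (mul_ne_zero h4 h3) h2
    refine ⟨(Units.mk0 a hij, Matrix.GeneralLinearGroup.mkOfDetNeZero hK hdet), ?_⟩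
    apply Units.ext
    ext k l
    rw [psi_apply]
    show a * (a⁻¹ * (g : Matrix (Fin n) (Fin n) F) k l) = _
    rw [mul_inv_cancel_left₀ hij]
  · rintro ⟨⟨a, h⟩, rfl⟩
    refine ⟨σ (a : F) / (a : F), div_ne_zero ((map_ne_zero σ).mpr a.ne_zero) a.ne_zero, ?_⟩
    ext k l
    rw [Matrix.map_apply, Matrix.smul_apply, psi_apply, map_mul, smul_eq_mul,
      (mem_fixed_iff σ _).mp (h.1 k l).2]
    have := a.ne_zero
    field_simp

/-- The kernel of `psi` is the image of `K^×`. -/
theorem card_ker_psi (K : Subfield F) {n : ℕ} (hn : 1 ≤ n) : Nat.card (psi K n).ker = Nat.card Kˣ := by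
  let κ : Kˣ →* Fˣ × GL (Fin n) K :=
    MonoidHom.prod ((Units.map (K.subtype : K →* F)).comp invMonoidHom)
      (Matrix.GeneralLinearGroup.scalar (Fin n))
  have hκ : Function.Injective κ := by
    intro t t' htt
    have h1 := congrArg Prod.fst htt
    simp only [κ, MonoidHom.prod_apply, MonoidHom.comp_apply, invMonoidHom_apply] at h1
    have h2 := congrArg (fun u : Fˣ => (u : F)) h1
    simp only [Units.coe_map, MonoidHom.coe_coe, Subfield.coe_subtype, Units.val_inv_eq_inv_val,
      Subfield.coe_inv] at h2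
    apply Units.ext
    apply Subtype.ext
    exact inv_injective h2
  have hrange : κ.range = (psi K n).ker := by
    ext ⟨a, h⟩
    constructor
    · rintro ⟨t, ht⟩
      rw [MonoidHom.mem_ker, ← ht]
      apply Units.ext
      ext k l
      rw [psi_apply]
      simp [κ, Matrix.one_apply, Matrix.diagonal_apply]
      by_cases hkl : k = l
      · simp [hkl]
      · simp [hkl]
    · intro hmem
      rw [MonoidHom.mem_ker] at hmem
      have hent : ∀ k l, (a : F) * ((h : Matrix (Fin n) (Fin n) K) k l : F)
          = (1 : Matrix (Fin n) (Fin n) F) k l := by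
        intro k l
        rw [← psi_apply, hmem]
        rfl
      let i₀ : Fin n := ⟨0, hn⟩
      have h00 := hent i₀ i₀
      rw [Matrix.one_apply_eq] at h00
      have ht0 : (h : Matrix (Fin n) (Fin n) K) i₀ i₀ ≠ 0 := by
        intro h0
        rw [h0] at h00
        simp at h00
      refine ⟨Units.mk0 _ ht0, ?_⟩
      apply Prod.ext
      · apply Units.ext
        simp only [κ, MonoidHom.prod_apply, MonoidHom.comp_apply, invMonoidHom_apply, Units.coe_map,
          MonoidHom.coe_coe, Subfield.coe_subtype, Units.val_inv_eq_inv_val, Subfield.coe_inv,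
          Units.val_mk0]
        exact (eq_inv_of_mul_eq_one_left h00).symm
      · apply Units.ext
        ext k l
        simp only [κ, MonoidHom.prod_apply, Matrix.GeneralLinearGroup.coe_scalar, Units.val_mk0,
          Matrix.scalar_apply, Matrix.diagonal_apply]
        have hkl := hent k l
        have ha : (a : F) ≠ 0 := a.ne_zero
        by_cases hk : k = l
        · subst hk
          rw [if_pos rfl]
          rw [Matrix.one_apply_eq] at hkl
          exact mul_left_cancel₀ ha (h00.trans hkl.symm)
        · rw [if_neg hk]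
          rw [Matrix.one_apply_ne hk] at hkl
          have := (mul_eq_zero.mp hkl).resolve_left ha
          simpa using this.symm
  rw [← hrange]
  exact (Nat.card_congr (Equiv.ofInjective κ hκ)).symm

/-- Centraliser of a field automorphism in PGL_n: let F be the field with q = q₀^r elements, σ a field automorphism of F of prime order r (so its fixed field has q₀ elements) and n ≥ 1. The invertible matrices g whose entrywise image under σ is a scalar multiple of g — those whose coset modulo scalars is fixed by σ — number (q − 1)/(q₀ − 1) · |GL_n(q₀)|; equivalently the centraliser in PGL_n(q) of the induced automorphism has the order of PGL_n(q₀). -/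
theorem result {F : Type*} [Field F] [Fintype F] {q₀ r n : ℕ} (hr : r.Prime) (hn : 1 ≤ n) (hF : Fintype.card F = q₀ ^ r) (σ : F ≃+* F) (hσ : orderOf σ = r) : Nat.card {g : GL (Fin n) F // ∃ c : F, c ≠ 0 ∧ (g : Matrix (Fin n) (Fin n) F).map σ = c • (g : Matrix (Fin n) (Fin n) F)} = (q₀ ^ r - 1) / (q₀ - 1) * ∏ i : Fin n, (q₀ ^ n - q₀ ^ (i : ℕ)) := by
  classical
  set K := FixedPoints.subfield (Subgroup.zpowers σ) F with hK
  have : Fintype K := Fintype.ofFinite _
  have hKcard : Nat.card K = q₀ := card_fixed σ hr hF hσ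
  have hKcard' : Fintype.card K = q₀ := by rw [← Nat.card_eq_fintype_card]; exact hKcard
  have hS : Nat.card {g : GL (Fin n) F // ∃ c : F, c ≠ 0 ∧
      (g : Matrix (Fin n) (Fin n) F).map σ = c • (g : Matrix (Fin n) (Fin n) F)}
      = Nat.card (psi K n).range :=
    Nat.card_congr (Equiv.subtypeEquivRight (fun g => mem_range_psi_iff σ hn g))
  have hcard1 := Subgroup.card_eq_card_quotient_mul_card_subgroup (psi K n).ker
  rw [Nat.card_congr (QuotientGroup.quotientKerEquivRange (psi K n)).toEquiv, card_ker_psi K hn,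
    Nat.card_prod, Nat.card_units, Nat.card_units, hKcard, Nat.card_eq_fintype_card (α := F), hF,
    Matrix.card_GL_field, hKcard'] at hcard1
  rw [hS]
  have hq₀ : 2 ≤ q₀ := by
    rw [← hKcard']
    exact Fintype.one_lt_card
  obtain ⟨M, hM⟩ : q₀ - 1 ∣ q₀ ^ r - 1 := Nat.sub_one_dvd_pow_sub_one q₀ r
  rw [hM, Nat.mul_div_cancel_left _ (by omega : 0 < q₀ - 1)]
  rw [hM, mul_assoc, mul_comm (Nat.card _)] at hcard1
  exact (Nat.eq_of_mul_eq_mul_left (by omega : 0 < q₀ - 1) hcard1).symm

end Cfsg.Agent.S2636
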