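import Cfsg.Statements.S2637
import Cfsg.Agent.Lib.helper49.UnitaryRes
import Cfsg.Agent.Lib.helper17.HermForm
import Cfsg.Agent.Lib.helper7.GU

set_option autoImplicit false
open Cfsg

namespace Cfsg.Agent.S2637

open Cfsg.Agent.Lib.helper49 Matrix

section Alt

variable {F : Type*} [Field F] {m : ℕ}

/-- The standard alternating form `u ⬝ J v`. -/
def altF (u v : Fin m ⊕ Fin m → F) : F := u ⬝ᵥ (Matrix.J (Fin m) F) *ᵥ v

theorem altF_add_left (u u' v : Fin m ⊕ Fin m → F) : altF (u + u') v = altF u v + altF u' v := by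
  unfold altF
  rw [add_dotProduct]

theorem altF_add_right (u v v' : Fin m ⊕ Fin m → F) : altF u (v + v') = altF u v + altF u v' := by
  unfold altF
  rw [Matrix.mulVec_add, dotProduct_add]

theorem altF_smul_left (c : F) (u v : Fin m ⊕ Fin m → F) : altF (c • u) v = c * altF u v := by
  unfold altF
  rw [smul_dotProduct, smul_eq_mul]

theorem altF_smul_right (c : F) (u v : Fin m ⊕ Fin m → F) : altF u (c • v) = c * altF u v := by
  unfold altF
  rw [Matrix.mulVec_smul, dotProduct_smul, smul_eq_mul]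

theorem altF_neg_right (u v : Fin m ⊕ Fin m → F) : altF u (-v) = - altF u v := by
  unfold altF
  rw [Matrix.mulVec_neg, dotProduct_neg]

theorem altF_swap (u v : Fin m ⊕ Fin m → F) : altF v u = - altF u v := by
  unfold altF
  rw [dotProduct_comm, ← Matrix.vecMul_transpose, ← Matrix.dotProduct_mulVec, Matrix.J_transpose,
    Matrix.neg_mulVec, dotProduct_neg]

theorem altF_inv {g : Matrix (Fin m ⊕ Fin m) (Fin m ⊕ Fin m) F}
    (hg : gᵀ * Matrix.J (Fin m) F * g = Matrix.J (Fin m) F) (u v : Fin m ⊕ Fin m → F) :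
    altF (g *ᵥ u) (g *ᵥ v) = altF u v := by
  unfold altF
  have e : u ⬝ᵥ (gᵀ * Matrix.J (Fin m) F * g) *ᵥ v = (g *ᵥ u) ⬝ᵥ Matrix.J (Fin m) F *ᵥ (g *ᵥ v) := by
    rw [Matrix.mul_assoc, ← Matrix.mulVec_mulVec, Matrix.dotProduct_mulVec, Matrix.vecMul_transpose,
      ← Matrix.mulVec_mulVec]
  rw [← e, hg]

theorem altF_nondeg (u : Fin m ⊕ Fin m → F) (h : ∀ v, altF u v = 0) : u = 0 := by
  funext k
  have := h ((-(Matrix.J (Fin m) F)) *ᵥ Pi.single k 1)
  unfold altF at this
  rw [Matrix.mulVec_mulVec, mul_neg, Matrix.J_squared, neg_neg, Matrix.one_mulVec,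
    dotProduct_single_one] at this
  exact this

end Alt

section Core

variable {K F : Type*} [Field K] [Fintype K] [Field F] [Fintype F] {q : ℕ} {m : ℕ}

set_option maxHeartbeats 1600000 in
/-- Coordinates over `K = F(ω)` adapted to a symplectic matrix `x` with `x² + x + 1 = 0`: an
`x`-orthonormal basis for the associated Hermitian form. -/
theorem core (hK : Fintype.card K = q ^ 2) (hF : Fintype.card F = q) (i : F →+* K) (ω : K)
    (hω : ω ^ 2 + ω + 1 = 0) (hωF : ∀ a, i a ≠ ω)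
    (x : Matrix (Fin m ⊕ Fin m) (Fin m ⊕ Fin m) F)
    (hxJ : xᵀ * Matrix.J (Fin m) F * x = Matrix.J (Fin m) F) (hx2 : x * x + x + 1 = 0)
    (ρ : K →+* Module.End F (Fin m ⊕ Fin m → F))
    (hρi : ∀ a, ρ (i a) = a • (1 : Module.End F (Fin m ⊕ Fin m → F)))
    (hρω : ρ ω = Matrix.toLin' x) :
    ∃ Ψ : (Fin m ⊕ Fin m → F) ≃+ (Fin m → K),
      (∀ (c : F) (w : Fin m ⊕ Fin m → F), Ψ (c • w) = i c • Ψ w) ∧
      (∀ w, Ψ (x *ᵥ w) = ω • Ψ w) ∧
      (∀ k : K, ∃ a b : F, k = i a + i b * ω) ∧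
      ∀ u v, Cfsg.hermForm m K q (Ψ v) (Ψ u) = ω ^ 2 * i (altF u v) - i (altF u (x *ᵥ v)) := by
  classical
  obtain ⟨σ, -, hσ, hσσ, hσi, -, hfix⟩ := exists_field_data_of_hom hK hF i
  have hq2 : 2 ≤ q := Cfsg.Agent.Lib.helper17.two_le_of_card_eq_sq hK
  have hσω : σ ω ≠ ω := fun h => by
    obtain ⟨a, ha⟩ := hfix ω h
    exact hωF a ha
  have hσω2 : σ ω = ω ^ 2 := by
    have h1 : σ ω ^ 2 + σ ω + 1 = 0 := by
      have := congrArg σ hω
      rw [map_add, map_add, map_pow, map_one, map_zero] at this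
      exact this
    have h2 : (σ ω - ω) * (σ ω - ω ^ 2) = 0 := by
      linear_combination h1 + (ω - 1 - σ ω) * hω
    rcases mul_eq_zero.mp h2 with h | h
    · exact absurd (sub_eq_zero.mp h) hσω
    · exact sub_eq_zero.mp h
  set e := pairEquiv hK hF i σ hσi ω hσω with he
  have hpair : ∀ k : K, ∃ a b : F, k = i a + i b * ω := by
    intro k
    obtain ⟨⟨a, b⟩, hab⟩ := e.surjective k
    exact ⟨a, b, by rw [← hab, he, pairEquiv_apply]⟩
  -- the `K`-module structure
  let modK : Module K (Fin m ⊕ Fin m → F) := Module.compHom (Fin m ⊕ Fin m → F) ρ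
  have hsmul : ∀ (k : K) (w : Fin m ⊕ Fin m → F), k • w = ρ k w := fun _ _ => rfl
  have hsmul_i : ∀ (a : F) (w : Fin m ⊕ Fin m → F), (i a) • w = a • w := by
    intro a w
    rw [hsmul, hρi]
    rfl
  have hsmul_ω : ∀ (w : Fin m ⊕ Fin m → F), ω • w = x *ᵥ w := by
    intro w
    rw [hsmul, hρω, Matrix.toLin'_apply]
  have hsmul_pair : ∀ (a b : F) (w : Fin m ⊕ Fin m → F),
      (i a + i b * ω) • w = a • w + b • (x *ᵥ w) := by
    intro a b w
    rw [add_smul, mul_smul, hsmul_i, hsmul_i, hsmul_ω]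
  have hxx : ∀ w : Fin m ⊕ Fin m → F, x *ᵥ (x *ᵥ w) = - w - x *ᵥ w := by
    intro w
    have := congrArg (fun M : Matrix (Fin m ⊕ Fin m) (Fin m ⊕ Fin m) F => M *ᵥ w) hx2
    simp only [Matrix.add_mulVec, Matrix.one_mulVec, Matrix.zero_mulVec,
      ← Matrix.mulVec_mulVec] at this
    rw [eq_sub_iff_add_eq, eq_neg_iff_add_eq_zero]
    exact this
  have hB1 : ∀ u v : Fin m ⊕ Fin m → F,
      altF (x *ᵥ u) v = - altF u v - altF u (x *ᵥ v) := by
    intro u v
    have h3 : x *ᵥ (x *ᵥ (x *ᵥ v)) = v := by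
      rw [hxx, hxx]
      abel
    calc altF (x *ᵥ u) v = altF (x *ᵥ u) (x *ᵥ (x *ᵥ (x *ᵥ v))) := by rw [h3]
      _ = altF u (x *ᵥ (x *ᵥ v)) := altF_inv hxJ _ _
      _ = - altF u v - altF u (x *ᵥ v) := by
        rw [hxx, sub_eq_add_neg, altF_add_right, altF_neg_right, altF_neg_right]
        ring
  -- the Hermitian form
  let hfun : (Fin m ⊕ Fin m → F) → (Fin m ⊕ Fin m → F) → K :=
    fun u v => ω ^ 2 * i (altF u v) - i (altF u (x *ᵥ v))
  have H1 : ∀ u u' v, hfun (u + u') v = hfun u v + hfun u' v := by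
    intro u u' v
    simp only [hfun, altF_add_left, map_add]
    ring
  have H3 : ∀ u v v', hfun u (v + v') = hfun u v + hfun u v' := by
    intro u v v'
    simp only [hfun, Matrix.mulVec_add, altF_add_right, map_add]
    ring
  have H2 : ∀ (k : K) u v, hfun (k • u) v = σ k • hfun u v := by
    intro k u v
    obtain ⟨a, b, rfl⟩ := hpair k
    rw [hsmul_pair]
    simp only [hfun, altF_add_left, altF_smul_left, altF_inv hxJ, hB1, map_add, map_mul, map_sub,
      map_neg, hσi, hσω2, smul_eq_mul]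
    linear_combination (-(i b) * i (altF u v) * (1 + ω * (ω - 1))) * hω
  have H4 : ∀ (k : K) u v, hfun u (k • v) = (RingHom.id K) k • hfun u v := by
    intro k u v
    obtain ⟨a, b, rfl⟩ := hpair k
    rw [hsmul_pair]
    simp only [hfun, Matrix.mulVec_add, Matrix.mulVec_smul, hxx, altF_add_right, altF_smul_right,
      sub_eq_add_neg, altF_neg_right, map_add, map_mul, map_neg, RingHom.id_apply, smul_eq_mul]
    linear_combination (i b * i (altF u (x *ᵥ v)) - i b * i (altF u v) * (ω - 1)) * hω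
  let h : (Fin m ⊕ Fin m → F) →ₛₗ[σ] (Fin m ⊕ Fin m → F) →ₗ[K] K :=
    LinearMap.mk₂'ₛₗ σ (RingHom.id K) hfun H1 H2 H3 H4
  have hh : ∀ u v, h u v = ω ^ 2 * i (altF u v) - i (altF u (x *ᵥ v)) := fun _ _ => rfl
  have hS : h.IsSymm := by
    refine ⟨fun u v => ?_⟩
    rw [hh, hh, altF_swap u v, altF_swap (x *ᵥ u) v, hB1]
    simp only [map_sub, map_mul, map_pow, map_neg, hσi, hσω2]
    linear_combination (i (altF u v) * (1 + ω * (ω - 1))) * hω
  have hind : ∀ a b : F, ω ^ 2 * i a - i b = 0 → a = 0 := by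
    intro a b hab
    by_contra ha
    have hia : i a ≠ 0 := (map_ne_zero i).mpr ha
    have h1 : ω ^ 2 = i (b / a) := by
      rw [map_div₀, eq_div_iff hia]
      linear_combination hab
    have h2 : σ (ω ^ 2) = ω ^ 2 := by rw [h1, hσi]
    rw [map_pow, hσω2] at h2
    -- ω^4 = ω^2 gives ω = 1... contradiction with σ ω ≠ ω
    apply hσω
    rw [hσω2]
    linear_combination -h2 + (ω * (ω - 1)) * hω
  have hB : h.Nondegenerate := by
    constructor
    · intro u hu
      apply altF_nondeg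
      intro v
      exact hind _ _ (by rw [← hh]; exact hu v)
    · intro v hv
      apply altF_nondeg
      intro u
      rw [altF_swap u v, neg_eq_zero]
      exact hind _ _ (by rw [← hh]; exact hv u)
  have hσne : σ ≠ RingHom.id K := fun hc => hσω (by rw [hc]; rfl)
  obtain ⟨b, hb⟩ := Cfsg.Agent.Lib.helper17.exists_orthonormal_basis_herm σ hσne hσσ h hS hB
  have hr : Module.finrank K (Fin m ⊕ Fin m → F) = m := by
    have h1 := Module.card_eq_pow_finrank (K := K) (V := (Fin m ⊕ Fin m → F))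
    rw [Fintype.card_fun, Fintype.card_sum, Fintype.card_fin, hF, hK, ← pow_mul] at h1
    have h2 := Nat.pow_right_injective hq2 h1
    omega
  let b' : Module.Basis (Fin m) K (Fin m ⊕ Fin m → F) := b.reindex (finCongr hr)
  have hb' : ∀ j k, h (b' j) (b' k) = if j = k then 1 else 0 := by
    intro j k
    simp only [b', Module.Basis.reindex_apply, hb]
    simp
  have key : ∀ (cu cv : Fin m → K), h (∑ j, cu j • b' j) (∑ k, cv k • b' k)
      = ∑ j, σ (cu j) * cv j := by
    intro cu cv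
    simp only [map_sum, LinearMap.sum_apply, map_smulₛₗ, LinearMap.smul_apply, smul_eq_mul,
      RingHom.id_apply, hb', mul_ite, mul_one, mul_zero, Finset.sum_ite_eq, Finset.sum_ite_eq',
      Finset.mem_univ, if_true]
    exact Finset.sum_congr rfl (fun j _ => mul_comm _ _)
  refine ⟨b'.equivFun.toAddEquiv, ?_, ?_, hpair, ?_⟩
  · intro c w
    show b'.equivFun (c • w) = i c • b'.equivFun w
    rw [← hsmul_i, map_smul]
  · intro w
    show b'.equivFun (x *ᵥ w) = ω • b'.equivFun w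
    rw [← hsmul_ω, map_smul]
  · intro u v
    show Cfsg.hermForm m K q (b'.equivFun v) (b'.equivFun u) = _
    rw [← hh, Cfsg.Agent.Lib.helper17.hermForm_eq m q σ hσ]
    conv_rhs => rw [← b'.sum_equivFun u, ← b'.sum_equivFun v]
    rw [key]
    exact Finset.sum_congr rfl (fun j _ => mul_comm _ _)

end Core

section Central

variable {K F : Type*} [Field K] [Fintype K] [Field F] [Fintype F] {q : ℕ} {m : ℕ}

set_option maxHeartbeats 1600000 in
/-- With adapted coordinates, the centraliser of `x` in the symplectic group is the image of `GU_m(q)`. -/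
theorem central (i : F →+* K) (ω : K) (hω : ω ^ 2 + ω + 1 = 0) (hω1 : ω ^ 2 ≠ ω)
    (x : Matrix.symplecticGroup (Fin m) F) (hx2 : x.1 * x.1 + x.1 + 1 = 0)
    (Ψ : (Fin m ⊕ Fin m → F) ≃+ (Fin m → K))
    (hΨ : ∀ (c : F) (w : Fin m ⊕ Fin m → F), Ψ (c • w) = i c • Ψ w)
    (hΨx : ∀ w, Ψ (x.1 *ᵥ w) = ω • Ψ w)
    (hpair : ∀ k : K, ∃ a b : F, k = i a + i b * ω)
    (hform : ∀ u v, Cfsg.hermForm m K q (Ψ v) (Ψ u)
      = ω ^ 2 * i (altF u v) - i (altF u (x.1 *ᵥ v))) :
    Nat.card ↥(Subgroup.centralizer ({x} : Set ↥(Matrix.symplecticGroup (Fin m) F)))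
      = Nat.card ↥(Cfsg.GU m K q) := by
  classical
  have hJ : ∀ g : Matrix.symplecticGroup (Fin m) F,
      g.1ᵀ * Matrix.J (Fin m) F * g.1 = Matrix.J (Fin m) F := fun g => SymplecticGroup.mem_iff'.mp g.2
  have hxJ := hJ x
  have hxx : ∀ w : Fin m ⊕ Fin m → F, x.1 *ᵥ (x.1 *ᵥ w) = - w - x.1 *ᵥ w := by
    intro w
    have := congrArg (fun M : Matrix (Fin m ⊕ Fin m) (Fin m ⊕ Fin m) F => M *ᵥ w) hx2
    simp only [Matrix.add_mulVec, Matrix.one_mulVec, Matrix.zero_mulVec,
      ← Matrix.mulVec_mulVec] at this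
    rw [eq_sub_iff_add_eq, eq_neg_iff_add_eq_zero]
    exact this
  have hB1 : ∀ u v : Fin m ⊕ Fin m → F,
      altF (x.1 *ᵥ u) v = - altF u v - altF u (x.1 *ᵥ v) := by
    intro u v
    have h3 : x.1 *ᵥ (x.1 *ᵥ (x.1 *ᵥ v)) = v := by
      rw [hxx, hxx]
      abel
    calc altF (x.1 *ᵥ u) v = altF (x.1 *ᵥ u) (x.1 *ᵥ (x.1 *ᵥ (x.1 *ᵥ v))) := by rw [h3]
      _ = altF u (x.1 *ᵥ (x.1 *ᵥ v)) := altF_inv hxJ _ _
      _ = - altF u v - altF u (x.1 *ᵥ v) := by
        rw [hxx, sub_eq_add_neg, altF_add_right, altF_neg_right, altF_neg_right]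
        ring
  have hdiff : ∀ u v, Cfsg.hermForm m K q (Ψ u) (Ψ v) - Cfsg.hermForm m K q (Ψ v) (Ψ u)
      = (ω - ω ^ 2) * i (altF u v) := by
    intro u v
    rw [hform v u, hform u v, altF_swap u v, altF_swap (x.1 *ᵥ u) v, hB1]
    simp only [map_neg, map_sub]
    linear_combination (-i (altF u v)) * hω
  have hne : ω - ω ^ 2 ≠ 0 := sub_ne_zero.mpr (Ne.symm hω1)
  have hmem : ∀ g : ↥(Cfsg.GU m K q), resHom i Ψ hΨ g.1.1 ∈ Matrix.symplecticGroup (Fin m) F := by
    intro g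
    rw [SymplecticGroup.mem_iff']
    apply Matrix.toBilin'.injective
    refine LinearMap.ext₂ (fun u v => ?_)
    rw [← Matrix.toBilin'_comp, LinearMap.BilinForm.comp_apply, Matrix.toLin'_apply,
      Matrix.toLin'_apply, Matrix.toBilin'_apply', Matrix.toBilin'_apply']
    show altF (resHom i Ψ hΨ g.1.1 *ᵥ u) (resHom i Ψ hΨ g.1.1 *ᵥ v) = altF u v
    apply i.injective
    apply mul_left_cancel₀ hne
    rw [← hdiff, ← hdiff, resHom_mulVec, resHom_mulVec]
    have h1 : Cfsg.hermForm m K q (g.1.1 *ᵥ Ψ u) (g.1.1 *ᵥ Ψ v) = Cfsg.hermForm m K q (Ψ u) (Ψ v) :=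
      g.2 (Ψ u) (Ψ v)
    have h2 : Cfsg.hermForm m K q (g.1.1 *ᵥ Ψ v) (g.1.1 *ᵥ Ψ u) = Cfsg.hermForm m K q (Ψ v) (Ψ u) :=
      g.2 (Ψ v) (Ψ u)
    rw [h1, h2]
  let φ : ↥(Cfsg.GU m K q) →* ↥(Matrix.symplecticGroup (Fin m) F) :=
    { toFun := fun g => ⟨resHom i Ψ hΨ g.1.1, hmem g⟩
      map_one' := by
        apply Subtype.ext
        show resHom i Ψ hΨ ((1 : ↥(Cfsg.GU m K q)).1.1) = 1
        rw [Subgroup.coe_one, Units.val_one, map_one]
      map_mul' := by
        intro g g'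
        apply Subtype.ext
        show resHom i Ψ hΨ ((g * g').1.1) = resHom i Ψ hΨ g.1.1 * resHom i Ψ hΨ g'.1.1
        rw [Subgroup.coe_mul, Units.val_mul, map_mul] }
  have hφ : ∀ g : ↥(Cfsg.GU m K q), (φ g).1 = resHom i Ψ hΨ g.1.1 := fun _ => rfl
  have hinj : Function.Injective φ := by
    intro g g' h
    have h1 : resHom i Ψ hΨ g.1.1 = resHom i Ψ hΨ g'.1.1 := congrArg Subtype.val h
    apply Subtype.ext
    apply Units.ext
    exact resHom_injective i Ψ hΨ h1
  -- matrices over `K` from symplectic matrices commuting with `x`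
  have exM : ∀ g : ↥(Matrix.symplecticGroup (Fin m) F), g.1 * x.1 = x.1 * g.1 →
      ∃ M : Matrix (Fin m) (Fin m) K, ∀ w, M *ᵥ Ψ w = Ψ (g.1 *ᵥ w) := by
    intro g hg
    have hgx : ∀ w, g.1 *ᵥ (x.1 *ᵥ w) = x.1 *ᵥ (g.1 *ᵥ w) := by
      intro w
      rw [Matrix.mulVec_mulVec, Matrix.mulVec_mulVec, hg]
    let TL : (Fin m → K) →ₗ[K] (Fin m → K) :=
      { toFun := fun a => Ψ (g.1 *ᵥ Ψ.symm a)
        map_add' := by
          intro a a'
          rw [map_add, Matrix.mulVec_add, map_add]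
        map_smul' := by
          intro k a
          obtain ⟨c, d, rfl⟩ := hpair k
          have e1 : Ψ.symm ((i c + i d * ω) • a) = c • Ψ.symm a + d • (x.1 *ᵥ Ψ.symm a) := by
            apply Ψ.injective
            rw [Ψ.apply_symm_apply, map_add, hΨ, hΨ, hΨx, Ψ.apply_symm_apply, add_smul, mul_smul]
          rw [e1, Matrix.mulVec_add, Matrix.mulVec_smul, Matrix.mulVec_smul, hgx, map_add, hΨ, hΨ,
            hΨx, RingHom.id_apply, add_smul, mul_smul] }
    refine ⟨LinearMap.toMatrix' TL, fun w => ?_⟩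
    rw [← Matrix.toLin'_apply, Matrix.toLin'_toMatrix']
    show Ψ (g.1 *ᵥ Ψ.symm (Ψ w)) = _
    rw [Ψ.symm_apply_apply]
  have hrange : φ.range = Subgroup.centralizer ({x} : Set ↥(Matrix.symplecticGroup (Fin m) F)) := by
    ext g
    rw [Subgroup.mem_centralizer_iff]
    constructor
    · rintro ⟨M, rfl⟩ y hy
      rw [Set.mem_singleton_iff] at hy
      subst hy
      apply Subtype.ext
      show y.1 * (φ M).1 = (φ M).1 * y.1
      rw [hφ]
      apply Matrix.toLin'.injective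
      apply LinearMap.ext
      intro w
      apply Ψ.injective
      rw [Matrix.toLin'_apply, Matrix.toLin'_apply, ← Matrix.mulVec_mulVec, ← Matrix.mulVec_mulVec,
        hΨx, resHom_mulVec, resHom_mulVec, hΨx, Matrix.mulVec_smul]
    · intro hg
      have hgx : x * g = g * x := hg x (Set.mem_singleton x)
      have hgx' : g.1 * x.1 = x.1 * g.1 := (congrArg Subtype.val hgx).symm
      have hgx'' : (g⁻¹).1 * x.1 = x.1 * (g⁻¹).1 := by
        have h1 : g⁻¹ * x = x * g⁻¹ := by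
          rw [eq_mul_inv_iff_mul_eq, mul_assoc, hgx, ← mul_assoc, inv_mul_cancel, one_mul]
        exact congrArg Subtype.val h1
      obtain ⟨M, hM⟩ := exM g hgx'
      obtain ⟨M', hM'⟩ := exM g⁻¹ hgx''
      have hgg : g.1 * (g⁻¹).1 = 1 := congrArg Subtype.val (mul_inv_cancel g)
      have hgg' : (g⁻¹).1 * g.1 = 1 := congrArg Subtype.val (inv_mul_cancel g)
      have hMM' : M * M' = 1 := by
        apply Matrix.toLin'.injective
        apply LinearMap.ext
        intro a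
        obtain ⟨w, rfl⟩ := Ψ.surjective a
        rw [Matrix.toLin'_apply, ← Matrix.mulVec_mulVec, hM', hM, Matrix.mulVec_mulVec, hgg,
          Matrix.one_mulVec, Matrix.toLin'_one, LinearMap.id_apply]
      have hM'M : M' * M = 1 := by
        apply Matrix.toLin'.injective
        apply LinearMap.ext
        intro a
        obtain ⟨w, rfl⟩ := Ψ.surjective a
        rw [Matrix.toLin'_apply, ← Matrix.mulVec_mulVec, hM, hM', Matrix.mulVec_mulVec, hgg',
          Matrix.one_mulVec, Matrix.toLin'_one, LinearMap.id_apply]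
      let Mu : Matrix.GeneralLinearGroup (Fin m) K := ⟨M, M', hMM', hM'M⟩
      have hMu : Mu ∈ Cfsg.GU m K q := by
        intro a b
        obtain ⟨v, rfl⟩ := Ψ.surjective a
        obtain ⟨u, rfl⟩ := Ψ.surjective b
        show Cfsg.hermForm m K q (M *ᵥ Ψ v) (M *ᵥ Ψ u) = Cfsg.hermForm m K q (Ψ v) (Ψ u)
        rw [hM, hM, hform, hform, altF_inv (hJ g)]
        have h1 : x.1 *ᵥ (g.1 *ᵥ v) = g.1 *ᵥ (x.1 *ᵥ v) := by
          rw [Matrix.mulVec_mulVec, Matrix.mulVec_mulVec, hgx']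
        rw [h1, altF_inv (hJ g)]
      refine ⟨⟨Mu, hMu⟩, ?_⟩
      apply Subtype.ext
      show resHom i Ψ hΨ M = g.1
      apply Matrix.toLin'.injective
      apply LinearMap.ext
      intro w
      apply Ψ.injective
      rw [Matrix.toLin'_apply, Matrix.toLin'_apply, resHom_mulVec, hM]
  rw [← hrange]
  exact (Nat.card_congr (Equiv.ofInjective φ hinj)).symm

end Central

section Final

open Polynomial

variable {F : Type*} [Field F] [Fintype F]

theorem no_root {q : ℕ} (hF : Fintype.card F = q) (hq : q % 3 = 2) (a : F) : a ^ 2 + a + 1 ≠ 0 := by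
  intro h
  have h3 : a ^ 3 = 1 := by linear_combination (a - 1) * h
  have ha0 : a ≠ 0 := by
    rintro rfl
    simp at h
  have hq1 : a ^ (q - 1) = 1 := by
    rw [← hF]
    exact FiniteField.pow_card_sub_one_eq_one a ha0
  obtain ⟨k, hk⟩ : ∃ k, q - 1 = 3 * k + 1 := ⟨q / 3, by omega⟩
  rw [hk, pow_succ, pow_mul, h3, one_pow, one_mul] at hq1
  subst hq1
  have h30 : (3 : F) = 0 := by linear_combination h
  have hq0 : (q : F) = 0 := by
    rw [← hF]
    exact FiniteField.cast_card_eq_zero F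
  obtain ⟨j, hj⟩ : ∃ j, q = 3 * j + 2 := ⟨q / 3, by omega⟩
  rw [hj] at hq0
  push_cast at hq0
  have h2 : (2 : F) = 0 := by linear_combination hq0 - (j : F) * h30
  have h1 : (1 : F) = 0 := by linear_combination h30 - h2
  exact one_ne_zero h1

/-- The polynomial `X² + X + 1`. -/
noncomputable def cyc (F : Type*) [Field F] : F[X] := X ^ 2 + X + 1

theorem cyc_aeval {F : Type*} [Field F] {A : Type*} [Ring A] [Algebra F A] (a : A) :
    Polynomial.aeval a (cyc F) = a ^ 2 + a + 1 := by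
  simp [cyc]

theorem cyc_eval₂ {F : Type*} [Field F] {S : Type*} [CommRing S] (f : F →+* S) (s : S) :
    (cyc F).eval₂ f s = s ^ 2 + s + 1 := by
  simp [cyc, Polynomial.eval₂_add, Polynomial.eval₂_pow]

theorem cyc_natDegree (F : Type*) [Field F] : (cyc F).natDegree = 2 := by
  unfold cyc
  compute_degree!

theorem cyc_ne_zero (F : Type*) [Field F] : cyc F ≠ 0 := by
  intro h
  have := cyc_natDegree F
  rw [h, natDegree_zero] at this
  omega

theorem cyc_irreducible {q : ℕ} (hF : Fintype.card F = q) (hq : q % 3 = 2) : Irreducible (cyc F) := by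
  apply Polynomial.irreducible_of_degree_le_three_of_not_isRoot
  · rw [cyc_natDegree]
    decide
  · intro a ha
    apply no_root hF hq a
    simpa [cyc, IsRoot] using ha

end Final

open Polynomial in
set_option maxHeartbeats 1600000 in
/-- Centraliser of a fixed-point-free element of order three in Sp_2m(q) when q ≡ 2 (mod 3): if x ∈ Sp_2m(F) (|F| = q, m ≥ 1) satisfies x³ = 1 and x − 1 is invertible, then its centraliser in Sp_2m(F) has the order of the unitary group GU_m(q), namely q^(m(m−1)/2) Π_(i=1)^m (q^i − (−1)^i) (x lies in the centre of a subgroup GU_m(q) of Sp_2m(q)). -/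
theorem result {F : Type*} [Field F] [Fintype F] {q : ℕ} (hF : Fintype.card F = q) (hq : q % 3 = 2) {m : ℕ} (hm : 1 ≤ m) (x : Matrix.symplecticGroup (Fin m) F) (hx3 : x ^ 3 = 1) (hfpf : IsUnit ((x : Matrix (Fin m ⊕ Fin m) (Fin m ⊕ Fin m) F) - 1)) : (Nat.card ↥(Subgroup.centralizer ({x} : Set ↥(Matrix.symplecticGroup (Fin m) F))) : ℤ) = (q : ℤ) ^ (m * (m - 1) / 2) * ∏ i : Fin m, ((q : ℤ) ^ ((i : ℕ) + 1) - (-1) ^ ((i : ℕ) + 1)) := by
  classical
  haveI hirr : Fact (Irreducible (cyc F)) := ⟨cyc_irreducible hF hq⟩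
  haveI hmf : Module.Finite F (AdjoinRoot (cyc F)) := (AdjoinRoot.powerBasis (cyc_ne_zero F)).finite
  haveI hfin : Finite (AdjoinRoot (cyc F)) := Module.finite_of_finite F
  letI : Fintype (AdjoinRoot (cyc F)) := Fintype.ofFinite _
  have hfr : Module.finrank F (AdjoinRoot (cyc F)) = 2 := by
    rw [(AdjoinRoot.powerBasis (cyc_ne_zero F)).finrank, AdjoinRoot.powerBasis_dim, cyc_natDegree]
  have hK : Fintype.card (AdjoinRoot (cyc F)) = q ^ 2 := by
    rw [Module.card_eq_pow_finrank (K := F) (V := AdjoinRoot (cyc F)), hfr, hF]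
  set i : F →+* AdjoinRoot (cyc F) := AdjoinRoot.of (cyc F) with hi
  set ω : AdjoinRoot (cyc F) := AdjoinRoot.root (cyc F) with hωdef
  have hω : ω ^ 2 + ω + 1 = 0 := by
    have := AdjoinRoot.eval₂_root (cyc F)
    rw [cyc_eval₂] at this
    exact this
  have hωF : ∀ a, i a ≠ ω := by
    intro a ha
    apply no_root hF hq a
    apply i.injective
    rw [map_add, map_add, map_pow, map_one, map_zero, ha]
    exact hω
  have hω1 : ω ^ 2 ≠ ω := by
    intro h
    have h1 : ω * (ω - 1) = 0 := by linear_combination h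
    rcases mul_eq_zero.mp h1 with h0 | h0
    · rw [h0] at hω
      simp at hω
    · exact hωF 1 (by rw [map_one]; exact (sub_eq_zero.mp h0).symm)
  -- facts on x
  have hx3' : x.1 ^ 3 = 1 := by
    have := congrArg Subtype.val hx3
    simpa using this
  have hx2 : x.1 * x.1 + x.1 + 1 = 0 := by
    obtain ⟨u, hu⟩ := hfpf
    have h1 : (x.1 - 1) * (x.1 * x.1 + x.1 + 1) = 0 := by
      have : (x.1 - 1) * (x.1 * x.1 + x.1 + 1) = x.1 ^ 3 - 1 := by noncomm_ring
      rw [this, hx3', sub_self]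
    rw [← hu] at h1
    have h2 := congrArg (fun Y => ((u⁻¹ : (Matrix (Fin m ⊕ Fin m) (Fin m ⊕ Fin m) F)ˣ) :
      Matrix (Fin m ⊕ Fin m) (Fin m ⊕ Fin m) F) * Y) h1
    simp only [← mul_assoc, Units.inv_mul, one_mul, mul_zero] at h2
    exact h2
  have hxJ : x.1ᵀ * Matrix.J (Fin m) F * x.1 = Matrix.J (Fin m) F := SymplecticGroup.mem_iff'.mp x.2
  have hev : Polynomial.aeval (Matrix.toLin' x.1) (cyc F) = 0 := by
    have h1 := congrArg Matrix.toLin' hx2
    rw [map_add, map_add, Matrix.toLin'_mul, Matrix.toLin'_one, map_zero] at h1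
    rw [cyc_aeval, pow_two]
    exact h1
  let ρ : AdjoinRoot (cyc F) →+* Module.End F (Fin m ⊕ Fin m → F) :=
    Ideal.Quotient.lift (Ideal.span {cyc F}) (Polynomial.aeval (Matrix.toLin' x.1)).toRingHom (by
      intro a ha
      obtain ⟨c, rfl⟩ := Ideal.mem_span_singleton.mp ha
      show Polynomial.aeval (Matrix.toLin' x.1) (cyc F * c) = 0
      rw [map_mul, hev, zero_mul])
  have hρmk : ∀ p : F[X], ρ (AdjoinRoot.mk (cyc F) p) = Polynomial.aeval (Matrix.toLin' x.1) p :=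
    fun p => rfl
  have hρi : ∀ a, ρ (i a) = a • (1 : Module.End F (Fin m ⊕ Fin m → F)) := by
    intro a
    rw [hi, ← AdjoinRoot.mk_C, hρmk, Polynomial.aeval_C, Algebra.algebraMap_eq_smul_one]
  have hρω : ρ ω = Matrix.toLin' x.1 := by
    rw [hωdef, ← AdjoinRoot.mk_X, hρmk, Polynomial.aeval_X]
  obtain ⟨Ψ, hΨ, hΨx, hpair, hform⟩ := core hK hF i ω hω hωF x.1 hxJ hx2 ρ hρi hρω
  have hcard := central i ω hω hω1 x hx2 Ψ hΨ hΨx hpair hform
  have hq2 : 2 ≤ q := by omega
  rw [hcard, Cfsg.Agent.Lib.helper7.card_GU hK m, Nat.cast_mul, Nat.cast_pow, Nat.cast_prod,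
    Fin.prod_univ_eq_prod_range (fun j => ((q : ℤ) ^ (j + 1) - (-1) ^ (j + 1))) m]
  congr 1
  refine Finset.prod_congr rfl (fun j _ => ?_)
  have h1 : 1 ≤ q ^ (j + 1) := Nat.one_le_pow _ _ (by omega)
  split_ifs with hj
  · rw [Odd.neg_one_pow (Even.add_one hj)]
    push_cast
    ring
  · rw [Nat.not_even_iff_odd] at hj
    rw [Even.neg_one_pow (Odd.add_one hj), Nat.cast_sub h1]
    push_cast
    ring

end Cfsg.Agent.S2637
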