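import Cfsg.Statements.S2638
import Cfsg.Agent.Lib.helper77.Singer

set_option autoImplicit false
open Cfsg

namespace Cfsg.Agent.S2638

/-- A group isomorphism carries the centralizer of an element to the centralizer of its image. -/
theorem map_centralizer_singleton {G H : Type*} [Group G] [Group H] (e : G ≃* H) (x : G) :
    (Subgroup.centralizer ({x} : Set G)).map e.toMonoidHom = Subgroup.centralizer ({e x} : Set H) := by
  ext g
  simp only [Subgroup.mem_map, Subgroup.mem_centralizer_iff, Set.mem_singleton_iff, forall_eq,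
    MulEquiv.coe_toMonoidHom]
  constructor
  · rintro ⟨h, hh, rfl⟩
    rw [← map_mul, ← map_mul, hh]
  · intro hg
    refine ⟨e.symm g, ?_, by simp⟩
    apply e.injective
    simpa using hg

/-- If an element x of GL_n(q), n ≥ 1, has prime order r and the multiplicative order of q modulo r is n (r is a primitive prime divisor of q^n − 1, so x acts irreducibly), then the centraliser of x in GL_n(q) is cyclic of order q^n − 1 (the multiplicative group of the field with q^n elements, a Singer cycle). -/
theorem result {F : Type*} [Field F] [Fintype F] {p q : ℕ} [Fact p.Prime] [CharP F p] (hF : Fintype.card F = q) {n r : ℕ} (hn : 1 ≤ n) (hr : r.Prime) (hrp : r ≠ p) (hi : orderOf (q : ZMod r) = n) (x : GL (Fin n) F) (hx : orderOf x = r) : IsCyclic ↥(Subgroup.centralizer ({x} : Set (GL (Fin n) F))) ∧ Nat.card ↥(Subgroup.centralizer ({x} : Set (GL (Fin n) F))) = q ^ n - 1 := by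
  have e : GL (Fin n) F ≃* (Module.End F (Fin n → F))ˣ := Matrix.GeneralLinearGroup.toLin
  have hu_ord : orderOf (e x) = r := by rw [MulEquiv.orderOf_eq, hx]
  have hu : ((e x : (Module.End F (Fin n → F))ˣ) : Module.End F (Fin n → F)) ^ r = 1 := by
    rw [← Units.val_pow_eq_pow_val, ← hu_ord, pow_orderOf_eq_one]
    rfl
  have hu1 : ((e x : (Module.End F (Fin n → F))ˣ) : Module.End F (Fin n → F)) ≠ 1 := by
    intro h
    have h1 : e x = 1 := Units.ext h
    rw [h1, orderOf_one] at hu_ord
    exact hr.one_lt.ne hu_ord
  have hord : orderOf ((Fintype.card F : ℕ) : ZMod r) = Module.finrank F (Fin n → F) := by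
    rw [Module.finrank_fin_fun, hF, hi]
  have hcyc := Cfsg.Agent.Lib.helper77.isCyclic_centralizer_units hr hu hu1 hord
  have hcard := Cfsg.Agent.Lib.helper77.card_centralizer_units hr hu hu1 hord
  rw [Module.finrank_fin_fun, hF] at hcard
  have hmap := map_centralizer_singleton e x
  let ψ : Subgroup.centralizer ({x} : Set (GL (Fin n) F)) ≃*
      Subgroup.centralizer ({e x} : Set (Module.End F (Fin n → F))ˣ) :=
    (e.subgroupMap _).trans (MulEquiv.subgroupCongr hmap)
  refine ⟨?_, ?_⟩
  · exact isCyclic_of_surjective ψ.symm ψ.symm.surjective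
  · rw [Nat.card_congr ψ.toEquiv, hcard]

end Cfsg.Agent.S2638
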