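import Cfsg.Statements.S2639
import Cfsg.Agent.Lib.helper49.UnitaryRes

set_option autoImplicit false
open Cfsg

namespace Cfsg.Agent.S2639

open Cfsg.Agent.Lib.helper49 Matrix

/-- The unitary group embeds in the symplectic group of twice the dimension over the subfield: for a field K with q² elements and a field F with q elements (isomorphic to the subfield of K of order q), there is an injective homomorphism GU_m(q) → Sp_2m(F). -/
theorem result {K F : Type*} [Field K] [Fintype K] [Field F] [Fintype F] {q : ℕ} (hK : Fintype.card K = q ^ 2) (hF : Fintype.card F = q) (m : ℕ) : ∃ φ : ↥(Cfsg.GU m K q) →* ↥(Matrix.symplecticGroup (Fin m) F), Function.Injective φ := by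
  classical
  obtain ⟨i, σ, β, hσ, hσσ, hσi, hβ, hfix⟩ := exists_field_data hK hF
  set e := pairEquiv hK hF i σ hσi β hβ with he
  have hes : ∀ (c : F) (p : F × F), e (c • p) = i c * e p := by
    intro c p
    rw [he, pairEquiv_apply, pairEquiv_apply]
    simp only [Prod.smul_fst, Prod.smul_snd, smul_eq_mul, map_mul]
    ring
  set Ψ := psiOne e (Fin m) with hΨdef
  have hΨ : ∀ (c : F) (x : Fin m ⊕ Fin m → F), Ψ (c • x) = i c • Ψ x := psiOne_smul i e hes
  -- the alternating form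
  have hdiff : ∀ x y : Fin m ⊕ Fin m → F, hermForm m K q (Ψ x) (Ψ y) - hermForm m K q (Ψ y) (Ψ x)
      = (σ β - β) * i (∑ j, (x (Sum.inl j) * y (Sum.inr j) - x (Sum.inr j) * y (Sum.inl j))) := by
    intro x y
    rw [Cfsg.Agent.Lib.helper17.hermForm_eq m q σ hσ, Cfsg.Agent.Lib.helper17.hermForm_eq m q σ hσ,
      ← Finset.sum_sub_distrib, map_sum, Finset.mul_sum]
    refine Finset.sum_congr rfl (fun j _ => ?_)
    rw [hΨdef, psiOne_apply, psiOne_apply, he, pairEquiv_apply, pairEquiv_apply]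
    simp only [map_add, map_mul, map_sub, hσi]
    ring
  have hJ : ∀ x y : Fin m ⊕ Fin m → F, Matrix.toBilin' (Matrix.J (Fin m) F) x y
      = - ∑ j, (x (Sum.inl j) * y (Sum.inr j) - x (Sum.inr j) * y (Sum.inl j)) := by
    intro x y
    rw [Matrix.toBilin'_apply', Matrix.J, Matrix.fromBlocks_mulVec]
    simp only [dotProduct, Fintype.sum_sum_type, Sum.elim_inl, Sum.elim_inr, Matrix.zero_mulVec,
      Matrix.neg_mulVec, Matrix.one_mulVec, zero_add, add_zero, Pi.neg_apply, Function.comp_apply,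
      Finset.sum_sub_distrib, mul_neg, Finset.sum_neg_distrib]
    ring
  have hmem : ∀ g : ↥(Cfsg.GU m K q), resHom i Ψ hΨ g.1.1 ∈ Matrix.symplecticGroup (Fin m) F := by
    intro g
    rw [SymplecticGroup.mem_iff']
    apply Matrix.toBilin'.injective
    refine LinearMap.ext₂ (fun u v => ?_)
    rw [← Matrix.toBilin'_comp, LinearMap.BilinForm.comp_apply, Matrix.toLin'_apply,
      Matrix.toLin'_apply, hJ, hJ]
    congr 1
    apply i.injective
    have hne : σ β - β ≠ 0 := sub_ne_zero.mpr hβ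
    apply mul_left_cancel₀ hne
    rw [← hdiff, ← hdiff, resHom_mulVec, resHom_mulVec]
    have h1 : hermForm m K q (g.1.1 *ᵥ Ψ u) (g.1.1 *ᵥ Ψ v) = hermForm m K q (Ψ u) (Ψ v) :=
      g.2 (Ψ u) (Ψ v)
    have h2 : hermForm m K q (g.1.1 *ᵥ Ψ v) (g.1.1 *ᵥ Ψ u) = hermForm m K q (Ψ v) (Ψ u) :=
      g.2 (Ψ v) (Ψ u)
    rw [h1, h2]
  refine ⟨{ toFun := fun g => ⟨resHom i Ψ hΨ g.1.1, hmem g⟩, map_one' := ?_, map_mul' := ?_ }, ?_⟩
  · apply Subtype.ext
    show resHom i Ψ hΨ ((1 : ↥(Cfsg.GU m K q)).1.1) = 1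
    rw [Subgroup.coe_one, Units.val_one, map_one]
  · intro g g'
    apply Subtype.ext
    show resHom i Ψ hΨ ((g * g').1.1) = resHom i Ψ hΨ g.1.1 * resHom i Ψ hΨ g'.1.1
    rw [Subgroup.coe_mul, Units.val_mul, map_mul]
  · intro g g' h
    have h1 : resHom i Ψ hΨ g.1.1 = resHom i Ψ hΨ g'.1.1 := congrArg Subtype.val h
    apply Subtype.ext
    apply Units.ext
    exact resHom_injective i Ψ hΨ h1

end Cfsg.Agent.S2639
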