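import Cfsg.Statements.S2640
import Cfsg.Agent.Lib.helper7.ResScal

set_option autoImplicit false
open Cfsg

namespace Cfsg.Agent.S2640

open Cfsg.Agent.Lib.helper7.ResScal

/-- For m even, the unitary group GU_m(q) (over the field with q² elements) embeds in the orthogonal group O⁺_2m(q) of the hyperbolic form Σ x_i y_i over the field with q elements (there is an injective homomorphism). -/
theorem result {K F : Type*} [Field K] [Fintype K] [Field F] [Fintype F] {q : ℕ} (hK : Fintype.card K = q ^ 2) (hF : Fintype.card F = q) (m : ℕ) (hm : Even m) : ∃ φ : ↥(Cfsg.GU m K q) →* ↥(Cfsg.isometryGroup F (Cfsg.quadFormPlus m F)), Function.Injective φ := by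
  classical
  subst hF
  obtain ⟨a, b, D, hσq⟩ := exists_qd_free (F := F) (K := K) hK
  obtain ⟨c, hc⟩ := exists_norm_neg_one hK D hσq
  obtain ⟨k, hk⟩ := hm
  subst hk
  let e : Fin k ⊕ Fin k ≃ Fin (k + k) := finSumFinEquiv
  let T : SemiEquiv D (Fin (k + k) ⊕ Fin (k + k)) (Fin (k + k)) :=
    (Tpair D c hc (Fin k)).reindex (Equiv.sumCongr e e) e
  apply exists_gu_hom D T hσq
  intro v
  rw [hσ_reindex, hσ_Tpair, Cfsg.quadFormPlus, ← Equiv.sum_comp e]
  rfl

end Cfsg.Agent.S2640
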