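import Cfsg.Statements.S2641
import Cfsg.Agent.Lib.helper7.ResScal

set_option autoImplicit false
open Cfsg

namespace Cfsg.Agent.S2641

open Cfsg.Agent.Lib.helper7.ResScal

/-- For m odd, the unitary group GU_m(q) (over the field with q² elements) embeds in the orthogonal group O⁻_2m(q) of an elliptic form (Σ_(i<m−1) x_i y_i plus an anisotropic binary form) over the field with q elements (there is an injective homomorphism). -/
theorem result {K F : Type*} [Field K] [Fintype K] [Field F] [Fintype F] {q : ℕ} (hK : Fintype.card K = q ^ 2) (hF : Fintype.card F = q) (m : ℕ) (hm : Odd m) (a b : F) (hab : ∀ z₁ z₂ : F, z₁ ^ 2 + a * z₁ * z₂ + b * z₂ ^ 2 = 0 → z₁ = 0 ∧ z₂ = 0) : ∃ φ : ↥(Cfsg.GU m K q) →* ↥(Cfsg.isometryGroup F (Cfsg.quadFormMinus (m - 1) F a b)), Function.Injective φ := by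
  classical
  subst hF
  obtain ⟨D, hσq⟩ := exists_qd (F := F) (K := K) hK a b hab
  obtain ⟨c, hc⟩ := exists_norm_neg_one hK D hσq
  obtain ⟨k, hk⟩ := hm
  subst hk
  have hkk : 2 * k + 1 - 1 = k + k := by omega
  rw [hkk]
  let e : Fin k ⊕ Fin k ≃ Fin (k + k) := finSumFinEquiv
  have hcard : Fintype.card ((Fin k ⊕ Fin k) ⊕ Unit) = 2 * k + 1 := by
    simp
    ring
  let eι : (Fin k ⊕ Fin k) ⊕ Unit ≃ Fin (2 * k + 1) := Fintype.equivFinOfCardEq hcard
  let T : SemiEquiv D ((Fin (k + k) ⊕ Fin (k + k)) ⊕ Fin 2) (Fin (2 * k + 1)) :=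
    ((Tpair D c hc (Fin k)).sum (Tone D)).reindex
      (Equiv.sumCongr (Equiv.sumCongr e e) (Equiv.refl (Fin 2))) eι
  apply exists_gu_hom D T hσq
  intro v
  rw [hσ_reindex, hσ_sum, hσ_Tpair, hσ_Tone, Cfsg.quadFormMinus, ← Equiv.sum_comp e, map_add]
  rfl

end Cfsg.Agent.S2641
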