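import Cfsg.Statements.S2643
import Cfsg.Agent.S2578
import Cfsg.Agent.S2587
import Cfsg.Agent.S2588
import Cfsg.Agent.Lib.helper48.ConjClass

set_option autoImplicit false
open Cfsg

namespace Cfsg.Agent.S2643

open Cfsg.Agent.Lib.helper48 Cfsg.Agent.S2571 Cfsg.Agent.S2578
open scoped Matrix

variable {K : Type*} [Field K]

theorem lemmaB2 (k : ℕ) (z : GL (Fin (k + 1)) K)
    (hz : (z : Matrix (Fin (k + 1)) (Fin (k + 1)) K) * U0mat k K
      = U0mat k K * (z : Matrix (Fin (k + 1)) (Fin (k + 1)) K)) :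
    ∃ c : Kˣ, Matrix.GeneralLinearGroup.det z = c ^ (k + 1) ∧
      IsNilpotent ((z : Matrix (Fin (k + 1)) (Fin (k + 1)) K) - (c : K) • 1) := by
  have hzN : (z : Matrix (Fin (k + 1)) (Fin (k + 1)) K) * shiftN (k + 1) K
      = shiftN (k + 1) K * (z : Matrix (Fin (k + 1)) (Fin (k + 1)) K) := by
    unfold U0mat at hz
    rw [mul_add, add_mul, mul_one, one_mul] at hz
    exact add_left_cancel hz
  obtain ⟨hk, hinj, hsurj⟩ := regular_structure (by omega) (shiftN (k + 1) K)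
    (shiftN_pow_self _ _) (by rw [shiftN_rank]; simp)
  obtain ⟨a, ha⟩ := hsurj _ hzN
  have ha0 : a 0 ≠ 0 := (isUnit_polyMap_iff _ (shiftN_pow_self _ _) (by simpa using hk) a).1
    (by rw [ha]; exact z.isUnit)
  have hsplit : polyMap (shiftN (k + 1) K) a = a 0 • 1
      + shiftN (k + 1) K * ∑ i : Fin k, a i.succ • shiftN (k + 1) K ^ (i : ℕ) := by
    rw [polyMap_apply, Fin.sum_univ_succ]
    simp only [Fin.val_zero, pow_zero, Fin.val_succ]
    rw [Finset.mul_sum]
    congr 1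
    refine Finset.sum_congr rfl (fun i _ => ?_)
    rw [Matrix.mul_smul, ← pow_succ']
  have hcomm : Commute (shiftN (k + 1) K) (∑ i : Fin k, a i.succ • shiftN (k + 1) K ^ (i : ℕ)) := by
    refine Commute.sum_right _ _ _ (fun i _ => ?_)
    exact (Commute.pow_right (Commute.refl _) _).smul_right _
  have hnil : IsNilpotent (shiftN (k + 1) K * ∑ i : Fin k, a i.succ • shiftN (k + 1) K ^ (i : ℕ)) :=
    Commute.isNilpotent_mul_right hcomm ⟨k + 1, shiftN_pow_self _ _⟩
  refine ⟨Units.mk0 (a 0) ha0, ?_, ?_⟩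
  · apply Units.ext
    show (z : Matrix (Fin (k + 1)) (Fin (k + 1)) K).det = _
    rw [← ha, polyMap_det _ (shiftN_pow_self _ _)]
    simp
  · rw [← ha, hsplit]
    simpa using hnil

theorem cent_det (k : ℕ) (P B z : GL (Fin (k + 1)) K)
    (hP : P * U0gl k K = B * P) (hz : z * B = B * z) :
    ∃ c : Kˣ, Matrix.GeneralLinearGroup.det z = c ^ (k + 1) ∧
      IsNilpotent ((z : Matrix (Fin (k + 1)) (Fin (k + 1)) K) - (c : K) • 1) := by
  set z' := P⁻¹ * z * P with hz'
  have hB : B = P * U0gl k K * P⁻¹ := by rw [hP]; group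
  have hcomm : z' * U0gl k K = U0gl k K * z' := by
    calc z' * U0gl k K = P⁻¹ * (z * B) * P := by rw [hz', hB]; group
      _ = P⁻¹ * (B * z) * P := by rw [hz]
      _ = U0gl k K * z' := by rw [hz', hB]; group
  have hcomm' : (z' : Matrix (Fin (k + 1)) (Fin (k + 1)) K) * U0mat k K
      = U0mat k K * (z' : Matrix (Fin (k + 1)) (Fin (k + 1)) K) := by
    have h1 : (z' * U0gl k K).1 = (U0gl k K * z').1 := by rw [hcomm]
    exact h1
  obtain ⟨c, hc, hnil⟩ := lemmaB2 k z' hcomm'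
  refine ⟨c, ?_, ?_⟩
  · rw [← hc, hz', map_mul, map_mul, map_inv, mul_comm, ← mul_assoc, mul_inv_cancel, one_mul]
  · have hzz : z = P * z' * P⁻¹ := by rw [hz']; group
    have h1 : (z : Matrix (Fin (k + 1)) (Fin (k + 1)) K) - (c : K) • 1
        = (P : Matrix (Fin (k + 1)) (Fin (k + 1)) K)
          * ((z' : Matrix (Fin (k + 1)) (Fin (k + 1)) K) - (c : K) • 1)
          * ((P⁻¹ : GL (Fin (k + 1)) K) : Matrix (Fin (k + 1)) (Fin (k + 1)) K) := by
      have h2 : (z : Matrix (Fin (k + 1)) (Fin (k + 1)) K)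
          = (P : Matrix (Fin (k + 1)) (Fin (k + 1)) K) * (z' : Matrix (Fin (k + 1)) (Fin (k + 1)) K)
            * ((P⁻¹ : GL (Fin (k + 1)) K) : Matrix (Fin (k + 1)) (Fin (k + 1)) K) := by
        have h3 : z.1 = (P * z' * P⁻¹).1 := by rw [← hzz]
        exact h3
      rw [mul_sub, sub_mul, ← h2, Matrix.mul_smul, Matrix.smul_mul, mul_one, Units.mul_inv]
    obtain ⟨m, hm⟩ := hnil
    refine ⟨m, ?_⟩
    rw [h1, Units.conj_pow, hm, mul_zero, zero_mul]

theorem cstar_pow' {ι : Type*} [Fintype ι] [DecidableEq ι] (σ : K →+* K) (X : Matrix ι ι K)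
    (m : ℕ) : cstar σ (X ^ m) = cstar σ X ^ m := by
  induction m with
  | zero => simp [cstar_one]
  | succ m ih => rw [pow_succ, cstar_mul, ih, ← pow_succ']

theorem unit_eigen (σ : K →+* K) (k q : ℕ) (hσ : ∀ x, σ x = x ^ q)
    (Z : Matrix (Fin (k + 1)) (Fin (k + 1)) K) (hZ : cstar σ Z * Z = 1) (c : Kˣ)
    (hnil : IsNilpotent (Z - (c : K) • 1)) : c ^ (q + 1) = 1 := by
  have hZ' : Z * cstar σ Z = 1 := mul_eq_one_comm.mp hZ
  have hW : cstar σ Z - σ (c : K) • 1 = cstar σ (Z - (c : K) • 1) := by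
    ext i j
    simp only [cstar_apply, Matrix.sub_apply, Matrix.smul_apply, Matrix.one_apply, smul_eq_mul,
      map_sub, map_mul]
    by_cases h : i = j
    · subst h; simp
    · simp [h, Ne.symm h]
  have hWn : IsNilpotent (cstar σ Z - σ (c : K) • 1) := by
    obtain ⟨m, hm⟩ := hnil
    refine ⟨m, ?_⟩
    rw [hW, ← cstar_pow', hm]
    ext i j; simp [cstar_apply]
  have hdet0 : (cstar σ Z - σ (c : K) • 1).det = 0 := by
    obtain ⟨m, hm⟩ := hWn
    have h1 : IsNilpotent (cstar σ Z - σ (c : K) • 1).det :=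
      ⟨m, by rw [← Matrix.det_pow, hm, Matrix.det_zero]⟩
    exact h1.eq_zero
  have hc0 : (c : K) ≠ 0 := c.ne_zero
  have hcommZ : Commute (cstar σ Z) (Z - (c : K) • 1) := by
    show cstar σ Z * (Z - (c : K) • 1) = (Z - (c : K) • 1) * cstar σ Z
    rw [mul_sub, sub_mul, hZ, hZ', Matrix.mul_smul, Matrix.smul_mul, mul_one, one_mul]
  have hM' : cstar σ Z - (c : K)⁻¹ • 1 = (-(c : K)⁻¹) • (cstar σ Z * (Z - (c : K) • 1)) := by
    rw [mul_sub, hZ, Matrix.mul_smul, mul_one, smul_sub, smul_smul, neg_mul, inv_mul_cancel₀ hc0,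
      neg_smul, neg_smul, one_smul]
    abel
  have hM'n : IsNilpotent (cstar σ Z - (c : K)⁻¹ • 1) := by
    rw [hM']
    exact (Commute.isNilpotent_mul_left hcommZ hnil).smul _
  have hsplit : cstar σ Z - σ (c : K) • 1
      = ((c : K)⁻¹ - σ (c : K)) • 1 + (cstar σ Z - (c : K)⁻¹ • 1) := by
    rw [sub_smul]; abel
  rw [hsplit, det_smul_one_add_nilpotent _ hM'n] at hdet0
  have h2 : (c : K)⁻¹ - σ (c : K) = 0 := by
    exact (pow_eq_zero_iff (Nat.succ_ne_zero k)).mp hdet0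
  apply Units.ext
  rw [Units.val_pow_eq_pow_val, Units.val_one, pow_succ, ← hσ, ← sub_eq_zero.mp h2,
    inv_mul_cancel₀ hc0]


/-- the embedding `SU → GU` -/
def suToGU (n q : ℕ) : ↥(Cfsg.SU n K q) →* ↥(Cfsg.GU n K q) where
  toFun s := ⟨Matrix.SpecialLinearGroup.toGL s.1, fun u v => s.2 u v⟩
  map_one' := by apply Subtype.ext; simp
  map_mul' a b := by apply Subtype.ext; simp

theorem suToGU_det (n q : ℕ) (s : ↥(Cfsg.SU n K q)) :
    Matrix.GeneralLinearGroup.det (suToGU n q s : GL (Fin n) K) = 1 := by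
  show Matrix.GeneralLinearGroup.det (Matrix.SpecialLinearGroup.toGL s.1) = 1
  rw [Matrix.SpecialLinearGroup.coeToGL_det]

theorem suToGU_injective (n q : ℕ) : Function.Injective (suToGU (K := K) n q) := by
  intro a b h
  apply Subtype.ext
  apply Matrix.SpecialLinearGroup.toGL_injective
  exact congrArg Subtype.val h

theorem det_GU (σ : K →+* K) {n q : ℕ} (hσ : ∀ x, σ x = x ^ q) (g : GL (Fin n) K)
    (hg : g ∈ Cfsg.GU n K q) : Matrix.GeneralLinearGroup.det g ^ (q + 1) = 1 := by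
  have h := (mem_GU_iff_cstar σ hσ g).mp hg
  have h1 := congrArg Matrix.det h
  rw [Matrix.det_mul, Matrix.det_one] at h1
  have h2 : (cstar σ (g : Matrix (Fin n) (Fin n) K)).det
      = σ ((g : Matrix (Fin n) (Fin n) K).det) := by
    unfold cstar
    rw [Matrix.det_transpose]
    exact (RingHom.map_det σ _).symm
  rw [h2, hσ] at h1
  apply Units.ext
  rw [Units.val_pow_eq_pow_val, Units.val_one, pow_succ]
  exact h1

/-- the scalar matrices in `GU` -/
theorem scalar_mem_GU (σ : K →+* K) {n q : ℕ} (hσ : ∀ x, σ x = x ^ q) (c : Kˣ)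
    (hc : c ^ (q + 1) = 1) : Matrix.GeneralLinearGroup.scalar (Fin n) c ∈ Cfsg.GU n K q := by
  rw [mem_GU_iff_cstar σ hσ]
  have hc' : (c : K) ^ q * (c : K) = 1 := by
    have := congrArg Units.val hc
    rwa [Units.val_pow_eq_pow_val, Units.val_one, pow_succ] at this
  ext i j
  rw [Matrix.mul_apply]
  simp only [cstar_apply, Matrix.GeneralLinearGroup.coe_scalar, Matrix.scalar_apply,
    Matrix.diagonal_apply]
  by_cases h : i = j
  · subst h
    rw [Finset.sum_eq_single i]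
    · simp [hσ, hc']
    · intro b _ hb; simp [hb]
    · intro hi; exact absurd (Finset.mem_univ i) hi
  · rw [Matrix.one_apply_ne h]
    apply Finset.sum_eq_zero
    intro b _
    by_cases hb : b = i
    · subst hb; simp [h]
    · simp [hb]

/-- a diagonal element of `GU` with prescribed determinant -/
theorem exists_GU_det (σ : K →+* K) {q : ℕ} (hσ : ∀ x, σ x = x ^ q) (k : ℕ) (d : Kˣ)
    (hd : d ^ (q + 1) = 1) :
    ∃ g : GL (Fin (k + 1)) K, g ∈ Cfsg.GU (k + 1) K q ∧ Matrix.GeneralLinearGroup.det g = d := by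
  classical
  have hd' : (d : K) ^ q * (d : K) = 1 := by
    have := congrArg Units.val hd
    rwa [Units.val_pow_eq_pow_val, Units.val_one, pow_succ] at this
  let f : Fin (k + 1) → K := fun i => if i = 0 then (d : K) else 1
  let f' : Fin (k + 1) → K := fun i => if i = 0 then ((d⁻¹ : Kˣ) : K) else 1
  have hff' : Matrix.diagonal f * Matrix.diagonal f' = 1 := by
    rw [Matrix.diagonal_mul_diagonal, ← Matrix.diagonal_one]
    congr 1
    funext i
    by_cases hi : i = 0 <;> simp [f, f', hi]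
  have hf'f : Matrix.diagonal f' * Matrix.diagonal f = 1 := mul_eq_one_comm.mp hff'
  let g : GL (Fin (k + 1)) K := ⟨Matrix.diagonal f, Matrix.diagonal f', hff', hf'f⟩
  refine ⟨g, ?_, ?_⟩
  · rw [mem_GU_iff_cstar σ hσ]
    show cstar σ (Matrix.diagonal f) * Matrix.diagonal f = 1
    have h1 : cstar σ (Matrix.diagonal f) = Matrix.diagonal (fun i => σ (f i)) := by
      ext i j
      rw [cstar_apply]
      by_cases h : i = j
      · subst h; simp
      · simp [h, Ne.symm h]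
    rw [h1, Matrix.diagonal_mul_diagonal, ← Matrix.diagonal_one]
    congr 1
    funext i
    by_cases hi : i = 0
    · simp [f, hi, hσ, hd']
    · simp [f, hi]
  · apply Units.ext
    show (Matrix.diagonal f).det = (d : K)
    rw [Matrix.det_diagonal, Fin.prod_univ_succ]
    simp [f, Fin.succ_ne_zero]


theorem main [Fintype K] (σ : K →+* K) (q : ℕ) (hσ : ∀ x, σ x = x ^ q)
    (hK : Fintype.card K = q ^ 2) (k : ℕ) :
    Nat.card {C : ConjClasses ↥(Cfsg.SU (k + 1) K q) //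
      ∃ u : ↥(Cfsg.SU (k + 1) K q), ConjClasses.mk u = C ∧
        (((u : GL (Fin (k + 1)) K) : Matrix (Fin (k + 1)) (Fin (k + 1)) K) - 1) ^ (k + 1) = 0 ∧
        (((u : GL (Fin (k + 1)) K) : Matrix (Fin (k + 1)) (Fin (k + 1)) K) - 1).rank = k}
      = Nat.gcd (k + 1) (q + 1) := by
  classical
  set D : Subgroup Kˣ := (powMonoidHom (q + 1) : Kˣ →* Kˣ).ker with hD
  have hq1 : 1 ≤ q := by
    rcases Nat.eq_zero_or_pos q with h | h
    · subst h
      have := Fintype.one_lt_card (α := K)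
      omega
    · exact h
  have hcardD : Nat.card D = q + 1 := by
    rw [hD, IsCyclic.card_powMonoidHom_ker, Nat.card_eq_fintype_card, Fintype.card_units, hK]
    apply Nat.gcd_eq_right
    obtain ⟨r, rfl⟩ : ∃ r, q = r + 1 := ⟨q - 1, by omega⟩
    refine ⟨r, ?_⟩
    apply Nat.sub_eq_of_eq_add
    ring
  set H : Subgroup D := (powMonoidHom (k + 1) : D →* D).range with hH
  have hcardQ : Nat.card (D ⧸ H) = Nat.gcd (k + 1) (q + 1) := by
    rw [← Subgroup.index_eq_card, hH, IsCyclic.index_powMonoidHom_range, hcardD, Nat.gcd_comm]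
  have hmemD : ∀ c : Kˣ, c ∈ D ↔ c ^ (q + 1) = 1 := by
    intro c
    rw [hD, MonoidHom.mem_ker, powMonoidHom_apply]
  let detD : ↥(Cfsg.GU (k + 1) K q) →* D :=
    (Matrix.GeneralLinearGroup.det.comp (Cfsg.GU (k + 1) K q).subtype).codRestrict D
      (fun g => (hmemD _).2 (det_GU σ hσ g.1 g.2))
  -- base element
  have hmapU : (U0mat k K).map (fun x : K => x ^ q) = U0mat k K := by
    ext i j
    simp only [Matrix.map_apply, U0mat, Matrix.add_apply, Matrix.one_apply, shiftN_apply]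
    split_ifs with h1 h2 h2
    · exfalso; subst h1; omega
    · simp
    · simp
    · simp [Nat.pos_iff_ne_zero.mp hq1]
  have hXdet : IsUnit ((U0mat k K)ᵀ).det := by
    rw [Matrix.det_transpose, U0mat_det]; exact isUnit_one
  set X := ((U0mat k K)ᵀ)⁻¹ with hX
  have hXU : X * (U0mat k K)ᵀ = 1 := Matrix.nonsing_inv_mul _ hXdet
  have hUX : (U0mat k K)ᵀ * X = 1 := Matrix.mul_nonsing_inv _ hXdet
  have hUT : (U0mat k K)ᵀ = 1 + (shiftN (k + 1) K)ᵀ := by
    unfold U0mat; rw [Matrix.transpose_add, Matrix.transpose_one]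
  have hX1 : X - 1 = X * (-(shiftN (k + 1) K)ᵀ) := by
    have h1 := hXU
    rw [hUT, mul_add, mul_one] at h1
    rw [mul_neg]
    calc X - 1 = X - (X + X * (shiftN (k + 1) K)ᵀ) := by rw [h1]
      _ = -(X * (shiftN (k + 1) K)ᵀ) := by abel
  have hcommX : Commute X (-(shiftN (k + 1) K)ᵀ) := by
    have h1 : Commute X ((U0mat k K)ᵀ) := by
      show X * _ = _ * X
      rw [hXU, hUX]
    rw [hUT] at h1
    have h2 : Commute X ((shiftN (k + 1) K)ᵀ) := by
      have := h1.sub_right (Commute.one_right X)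
      simpa using this
    exact h2.neg_right
  have hXdetu : IsUnit X.det := by
    have := congrArg Matrix.det hXU
    rw [Matrix.det_mul, Matrix.det_one] at this
    exact IsUnit.of_mul_eq_one _ this
  have hRUX : RU k X := by
    refine ⟨?_, ?_⟩
    · rw [hX1, hcommX.mul_pow, neg_pow, ← Matrix.transpose_pow, shiftN_pow_self]
      simp
    · rw [hX1, Matrix.rank_mul_eq_right_of_isUnit_det _ _ hXdetu]
      have h1 : -(shiftN (k + 1) K)ᵀ = (-1 : K) • (shiftN (k + 1) K)ᵀ := by simp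
      rw [h1, rank_smul_of_ne_zero _ (neg_ne_zero.mpr one_ne_zero), Matrix.rank_transpose,
        shiftN_rank]
  obtain ⟨gX, hgX⟩ := lemmaA k X hRUX
  have hconj0 : IsConj ((U0gl k K : GL (Fin (k + 1)) K) : Matrix (Fin (k + 1)) (Fin (k + 1)) K)
      (((((U0gl k K : GL (Fin (k + 1)) K) : Matrix (Fin (k + 1)) (Fin (k + 1)) K).map
        (fun x : K => x ^ q)).transpose)⁻¹) := by
    rw [U0gl_val, hmapU]
    exact ⟨gX, hgX⟩
  obtain ⟨B, hB⟩ := (Cfsg.Agent.S2588.result hK (U0gl k K)).mpr hconj0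
  obtain ⟨P, hP⟩ := isConj_iff.mp hB
  have hP' : P * U0gl k K = (B : GL (Fin (k + 1)) K) * P := by rw [← hP]; group
  have hex : ∀ u : ↥(Cfsg.SU (k + 1) K q),
      RU k ((u.1 : Matrix.SpecialLinearGroup (Fin (k + 1)) K) : Matrix (Fin (k + 1)) (Fin (k + 1)) K) →
      ∃ g : ↥(Cfsg.GU (k + 1) K q), g * B = suToGU (k + 1) q u * g := by
    intro u hu
    obtain ⟨g₁, hg₁⟩ := lemmaA k _ hu
    have h1 : g₁ * U0gl k K = (suToGU (k + 1) q u : GL (Fin (k + 1)) K) * g₁ := Units.ext hg₁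
    have h2 : IsConj (B : GL (Fin (k + 1)) K) (suToGU (k + 1) q u : GL (Fin (k + 1)) K) := by
      rw [isConj_iff]
      refine ⟨g₁ * P⁻¹, ?_⟩
      have hB' : (B : GL (Fin (k + 1)) K) = P * U0gl k K * P⁻¹ := by rw [hP']; group
      have hu' : (suToGU (k + 1) q u : GL (Fin (k + 1)) K) = g₁ * U0gl k K * g₁⁻¹ := by
        rw [h1]; group
      rw [hB', hu']; group
    obtain ⟨g, hg⟩ := isConj_iff.mp ((Cfsg.Agent.S2587.result hK B (suToGU (k + 1) q u)).mpr h2)
    exact ⟨g, by rw [← hg]; group⟩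
  have hcent : ∀ z : ↥(Cfsg.GU (k + 1) K q), z * B = B * z → detD z ∈ H := by
    intro z hz
    obtain ⟨c, hc, hnil⟩ := cent_det k P B.1 z.1 hP' (congrArg Subtype.val hz)
    have hcD : c ∈ D :=
      (hmemD c).2 (unit_eigen σ k q hσ _ ((mem_GU_iff_cstar σ hσ z.1).mp z.2) c hnil)
    refine ⟨⟨c, hcD⟩, ?_⟩
    apply Subtype.ext
    show c ^ (k + 1) = Matrix.GeneralLinearGroup.det z.1
    exact hc.symm
  have hBdet : detD B = 1 := by
    apply Subtype.ext
    show Matrix.GeneralLinearGroup.det B.1 = 1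
    rw [← hP, map_mul, map_mul, map_inv, mul_comm, ← mul_assoc, inv_mul_cancel, one_mul]
    show Matrix.GeneralLinearGroup.det (Matrix.SpecialLinearGroup.toGL (u0 k K)) = 1
    rw [Matrix.SpecialLinearGroup.coeToGL_det]
  have hg : ∀ C : {C : ConjClasses ↥(Cfsg.SU (k + 1) K q) //
      ∃ u : ↥(Cfsg.SU (k + 1) K q), ConjClasses.mk u = C ∧
        (((u : GL (Fin (k + 1)) K) : Matrix (Fin (k + 1)) (Fin (k + 1)) K) - 1) ^ (k + 1) = 0 ∧
        (((u : GL (Fin (k + 1)) K) : Matrix (Fin (k + 1)) (Fin (k + 1)) K) - 1).rank = k},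
      ∃ (u : ↥(Cfsg.SU (k + 1) K q)) (g : ↥(Cfsg.GU (k + 1) K q)),
        ConjClasses.mk u = C.1 ∧ g * B = suToGU (k + 1) q u * g := by
    rintro ⟨C, u, hu, hRU⟩
    obtain ⟨g, hg⟩ := hex u hRU
    exact ⟨u, g, hu, hg⟩
  choose uC gC huC hgC using hg
  rw [← hcardQ]
  refine Nat.card_congr (Equiv.ofBijective
    (fun C => (QuotientGroup.mk (detD (gC C)) : D ⧸ H)) ⟨?_, ?_⟩)
  · intro C C' h
    have h' : (QuotientGroup.mk (detD (gC C)) : D ⧸ H) = QuotientGroup.mk (detD (gC C')) := h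
    rw [QuotientGroup.eq] at h'
    obtain ⟨c, hc⟩ := h'
    have hc' : c ^ (k + 1) = (detD (gC C))⁻¹ * detD (gC C') := hc
    let zc : ↥(Cfsg.GU (k + 1) K q) := ⟨Matrix.GeneralLinearGroup.scalar (Fin (k + 1)) c.1,
      scalar_mem_GU σ hσ c.1 ((hmemD _).1 c.2)⟩
    have hzc : ∀ x : ↥(Cfsg.GU (k + 1) K q), zc * x = x * zc :=
      fun x => Subtype.ext (Matrix.GeneralLinearGroup.scalar_commute c.1 x.1)
    have hdetzc : detD zc = c ^ (k + 1) := by
      apply Subtype.ext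
      show Matrix.GeneralLinearGroup.det (Matrix.GeneralLinearGroup.scalar (Fin (k + 1)) c.1) = _
      rw [Matrix.GeneralLinearGroup.det_scalar, Fintype.card_fin]
      rfl
    set S := gC C * zc * (gC C')⁻¹ with hS
    have hdetS : detD S = 1 := by
      rw [hS, map_mul, map_mul, map_inv, hdetzc, hc', mul_inv_cancel_left, mul_inv_cancel]
    have hconjS : S * suToGU (k + 1) q (uC C') * S⁻¹ = suToGU (k + 1) q (uC C) := by
      have e1 : suToGU (k + 1) q (uC C) = gC C * B * (gC C)⁻¹ := by rw [hgC C]; group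
      have e2 : suToGU (k + 1) q (uC C') = gC C' * B * (gC C')⁻¹ := by rw [hgC C']; group
      rw [e1, e2, hS]
      calc gC C * zc * (gC C')⁻¹ * (gC C' * B * (gC C')⁻¹) * (gC C * zc * (gC C')⁻¹)⁻¹
          = gC C * (zc * B) * zc⁻¹ * (gC C)⁻¹ := by group
        _ = gC C * (B * zc) * zc⁻¹ * (gC C)⁻¹ := by rw [hzc B]
        _ = gC C * B * (gC C)⁻¹ := by group
    have hSdet : ((S.1 : GL (Fin (k + 1)) K) : Matrix (Fin (k + 1)) (Fin (k + 1)) K).det = 1 :=
      congrArg (fun d : D => ((d : Kˣ) : K)) hdetS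
    let s : ↥(Cfsg.SU (k + 1) K q) :=
      ⟨⟨((S.1 : GL (Fin (k + 1)) K) : Matrix (Fin (k + 1)) (Fin (k + 1)) K), hSdet⟩,
        fun u v => S.2 u v⟩
    have hsS : suToGU (k + 1) q s = S := Subtype.ext (Units.ext rfl)
    have hconj : IsConj (uC C') (uC C) := by
      rw [isConj_iff]
      refine ⟨s, ?_⟩
      apply suToGU_injective
      rw [map_mul, map_mul, map_inv, hsS, hconjS]
    apply Subtype.ext
    rw [← huC C, ← huC C']
    exact (ConjClasses.mk_eq_mk_iff_isConj.2 hconj).symm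
  · intro x
    obtain ⟨d, rfl⟩ := QuotientGroup.mk_surjective x
    obtain ⟨gd0, hgd0, hgd0det⟩ := exists_GU_det σ hσ k d.1 ((hmemD _).1 d.2)
    let gd : ↥(Cfsg.GU (k + 1) K q) := ⟨gd0, hgd0⟩
    have hgd : detD gd = d := Subtype.ext hgd0det
    set Ug := gd * B * gd⁻¹ with hUg
    have hUdet : detD Ug = 1 := by
      rw [hUg, map_mul, map_mul, map_inv, hBdet, mul_one, mul_inv_cancel]
    have hUdet' : ((Ug.1 : GL (Fin (k + 1)) K) : Matrix (Fin (k + 1)) (Fin (k + 1)) K).det = 1 :=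
      congrArg (fun d : D => ((d : Kˣ) : K)) hUdet
    let u : ↥(Cfsg.SU (k + 1) K q) :=
      ⟨⟨((Ug.1 : GL (Fin (k + 1)) K) : Matrix (Fin (k + 1)) (Fin (k + 1)) K), hUdet'⟩,
        fun a b => Ug.2 a b⟩
    have huU : suToGU (k + 1) q u = Ug := Subtype.ext (Units.ext rfl)
    have hRU : RU k ((u.1 : Matrix.SpecialLinearGroup (Fin (k + 1)) K) :
        Matrix (Fin (k + 1)) (Fin (k + 1)) K) := by
      set R : GL (Fin (k + 1)) K := gd.1 * P with hR
      have h1 : (Ug.1 : GL (Fin (k + 1)) K) = R * U0gl k K * R⁻¹ := by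
        have h0 : (Ug.1 : GL (Fin (k + 1)) K) = gd.1 * B.1 * gd.1⁻¹ := rfl
        rw [h0, ← hP, hR]; group
      have h2 : ((Ug.1 : GL (Fin (k + 1)) K) : Matrix (Fin (k + 1)) (Fin (k + 1)) K) - 1
          = (R : Matrix (Fin (k + 1)) (Fin (k + 1)) K) * shiftN (k + 1) K
            * ((R⁻¹ : GL (Fin (k + 1)) K) : Matrix (Fin (k + 1)) (Fin (k + 1)) K) := by
        have h3 : ((Ug.1 : GL (Fin (k + 1)) K) : Matrix (Fin (k + 1)) (Fin (k + 1)) K)
            = (R : Matrix (Fin (k + 1)) (Fin (k + 1)) K) * U0mat k K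
              * ((R⁻¹ : GL (Fin (k + 1)) K) : Matrix (Fin (k + 1)) (Fin (k + 1)) K) := by
          have h4 : (Ug.1).1 = (R * U0gl k K * R⁻¹).1 := by rw [h1]
          exact h4
        rw [h3, U0mat, mul_add, add_mul, mul_one, Units.mul_inv, add_sub_cancel_left]
      refine ⟨?_, ?_⟩
      · show (((Ug.1 : GL (Fin (k + 1)) K) : Matrix (Fin (k + 1)) (Fin (k + 1)) K) - 1) ^ (k + 1) = 0
        rw [h2, Units.conj_pow, shiftN_pow_self, mul_zero, zero_mul]
      · show (((Ug.1 : GL (Fin (k + 1)) K) : Matrix (Fin (k + 1)) (Fin (k + 1)) K) - 1).rank = k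
        rw [h2, Matrix.rank_mul_eq_left_of_isUnit_det _ _
          ((Matrix.isUnit_iff_isUnit_det _).1 (R⁻¹).isUnit),
          Matrix.rank_mul_eq_right_of_isUnit_det _ _
          ((Matrix.isUnit_iff_isUnit_det _).1 R.isUnit), shiftN_rank]
    refine ⟨⟨ConjClasses.mk u, u, rfl, hRU⟩, ?_⟩
    have hconj : IsConj (uC ⟨ConjClasses.mk u, u, rfl, hRU⟩) u :=
      ConjClasses.mk_eq_mk_iff_isConj.1 (huC ⟨ConjClasses.mk u, u, rfl, hRU⟩)
    obtain ⟨s, hs⟩ := isConj_iff.mp hconj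
    set g₀ := gC ⟨ConjClasses.mk u, u, rfl, hRU⟩ with hg₀
    have hg₀C := hgC ⟨ConjClasses.mk u, u, rfl, hRU⟩
    rw [← hg₀] at hg₀C
    set u₁ := uC ⟨ConjClasses.mk u, u, rfl, hRU⟩ with hu₁
    set z := gd⁻¹ * suToGU (k + 1) q s * g₀ with hz
    have hzB : z * B = B * z := by
      have e1 : suToGU (k + 1) q u₁ = g₀ * B * g₀⁻¹ := by rw [hg₀C]; group
      have e2 : suToGU (k + 1) q u = suToGU (k + 1) q s * suToGU (k + 1) q u₁
          * (suToGU (k + 1) q s)⁻¹ := by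
        rw [← hs, map_mul, map_mul, map_inv]
      have e3 : gd * B * gd⁻¹ = suToGU (k + 1) q s * (g₀ * B * g₀⁻¹)
          * (suToGU (k + 1) q s)⁻¹ := by
        rw [← e1, ← e2, huU]
      calc z * B = gd⁻¹ * (suToGU (k + 1) q s * (g₀ * B * g₀⁻¹)
            * (suToGU (k + 1) q s)⁻¹) * gd * z := by rw [hz]; group
        _ = gd⁻¹ * (gd * B * gd⁻¹) * gd * z := by rw [e3]
        _ = B * z := by group
    have hmem := hcent z hzB
    show (QuotientGroup.mk (detD g₀) : D ⧸ H) = QuotientGroup.mk d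
    rw [QuotientGroup.eq]
    have hdz : detD z = d⁻¹ * detD g₀ := by
      have h1 : detD (suToGU (k + 1) q s) = 1 := Subtype.ext (suToGU_det _ _ s)
      rw [hz, map_mul, map_mul, map_inv, hgd, h1, mul_one]
    have := H.inv_mem hmem
    rw [hdz, mul_inv_rev, inv_inv] at this
    exact this

/-- Regular unipotent classes of SU_n(q), n ≥ 2: the elements u of the special unitary group (isometries of Σ u_i v_i^q of determinant one over the field with q² elements) with (u − 1)^n = 0 and rank(u − 1) = n − 1 form exactly gcd(n, q + 1) conjugacy classes of SU_n(q). -/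
theorem result {K : Type*} [Field K] [Fintype K] {q n : ℕ} (hK : Fintype.card K = q ^ 2) (hn : 2 ≤ n) : Nat.card {C : ConjClasses ↥(Cfsg.SU n K q) // ∃ u : ↥(Cfsg.SU n K q), ConjClasses.mk u = C ∧ (((u : GL (Fin n) K) : Matrix (Fin n) (Fin n) K) - 1) ^ n = 0 ∧ (((u : GL (Fin n) K) : Matrix (Fin n) (Fin n) K) - 1).rank = n - 1} = Nat.gcd n (q + 1) := by
  obtain ⟨k, rfl⟩ : ∃ k, n = k + 1 := ⟨n - 1, by omega⟩
  obtain ⟨σ, hσ, hne, hσ2⟩ := Cfsg.Agent.Lib.helper17.exists_frob' hK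
  simp only [Nat.add_sub_cancel]
  exact main σ q hσ hK k

end Cfsg.Agent.S2643
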