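-- Statement S2648: derived length of the Sylow 2-subgroups of Sp_{2n}(q), q odd.
import Cfsg.Statements.S2648
import Cfsg.Agent.Lib.helper73.SpDLC
import Cfsg.Agent.Lib.helper73.DLinC

set_option autoImplicit false
open Cfsg

namespace Cfsg.Agent.S2648

/-- Let q be odd, F a field with q elements and n ≥ 1. A Sylow 2-subgroup R of the symplectic group Sp_{2n}(F) has derived length exactly k + 1, where 2^k ≤ 2n < 2^{k+1}: the (k+1)-st term of its derived series is trivial and the k-th is not. -/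
theorem result {F : Type*} [Field F] [Fintype F] [DecidableEq F] (q : ℕ) (hF : Fintype.card F = q) (hq : Odd q) (n : ℕ) (hn : 1 ≤ n) (R : Sylow 2 ↥(Matrix.symplecticGroup (Fin n) F)) : derivedSeries ↥(R : Subgroup ↥(Matrix.symplecticGroup (Fin n) F)) (Nat.log 2 (2 * n) + 1) = ⊥ ∧ derivedSeries ↥(R : Subgroup ↥(Matrix.symplecticGroup (Fin n) F)) (Nat.log 2 (2 * n)) ≠ ⊥ := by
  classical
  obtain ⟨r, hr⟩ := CharP.exists F
  haveI := hr
  obtain ⟨⟨f, hfpos⟩, hr', hcard⟩ := FiniteField.card F r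
  have hq' : q = r ^ f := by rw [← hF]; exact hcard
  have hr2 : r ≠ 2 := by
    rintro rfl
    rw [hq'] at hq
    exact (Nat.not_even_iff_odd.2 hq) (Nat.even_pow.2 ⟨even_two, hfpos.ne'⟩)
  have h2F : (2 : F) ≠ 0 := by
    intro h
    have h1 : r ∣ 2 := (CharP.cast_eq_zero_iff F r 2).1 (by exact_mod_cast h)
    exact hr2 ((Nat.prime_dvd_prime_iff_eq hr' Nat.prime_two).1 h1)
  constructor
  · let K := AlgebraicClosure F
    have h2K : ((2 : ℕ) : K) ≠ 0 := by
      intro h
      apply h2F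
      have h1 : algebraMap F K 2 = 0 := by
        rw [map_ofNat]
        exact_mod_cast h
      exact (map_eq_zero (algebraMap F K)).1 h1
    let φ₁ : Matrix (Fin n ⊕ Fin n) (Fin n ⊕ Fin n) K →* Module.End K (Fin n ⊕ Fin n → K) :=
      ((Matrix.toLinAlgEquiv' : Matrix (Fin n ⊕ Fin n) (Fin n ⊕ Fin n) K ≃ₐ[K]
          Module.End K (Fin n ⊕ Fin n → K)) :
          Matrix (Fin n ⊕ Fin n) (Fin n ⊕ Fin n) K →* Module.End K (Fin n ⊕ Fin n → K))
    let φ₂ : Matrix (Fin n ⊕ Fin n) (Fin n ⊕ Fin n) F →*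
        Matrix (Fin n ⊕ Fin n) (Fin n ⊕ Fin n) K :=
      (((algebraMap F K).mapMatrix : Matrix (Fin n ⊕ Fin n) (Fin n ⊕ Fin n) F →+*
          Matrix (Fin n ⊕ Fin n) (Fin n ⊕ Fin n) K) :
          Matrix (Fin n ⊕ Fin n) (Fin n ⊕ Fin n) F →*
            Matrix (Fin n ⊕ Fin n) (Fin n ⊕ Fin n) K)
    let φ : Matrix.symplecticGroup (Fin n) F →* Module.End K (Fin n ⊕ Fin n → K) :=
      φ₁.comp (φ₂.comp (Matrix.symplecticGroup (Fin n) F).subtype)
    have hφ : Function.Injective φ := by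
      intro A B h
      apply Subtype.ext
      have h1 := (Matrix.toLinAlgEquiv' : Matrix (Fin n ⊕ Fin n) (Fin n ⊕ Fin n) K ≃ₐ[K]
          Module.End K (Fin n ⊕ Fin n → K)).injective h
      exact Matrix.map_injective (algebraMap F K).injective h1
    let ρ' : ↥(R : Subgroup ↥(Matrix.symplecticGroup (Fin n) F)) →*
        Module.End K (Fin n ⊕ Fin n → K) :=
      φ.comp (R : Subgroup ↥(Matrix.symplecticGroup (Fin n) F)).subtype
    have hker : ρ'.ker = ⊥ :=
      (MonoidHom.ker_eq_bot_iff _).2 (hφ.comp (Subgroup.subtype_injective _))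
    have hfin : Module.finrank K (Fin n ⊕ Fin n → K) = 2 * n := by
      rw [Module.finrank_fintype_fun_eq_card, Fintype.card_sum, Fintype.card_fin]
      ring
    rw [eq_bot_iff, ← hker]
    exact Cfsg.Agent.Lib.helper73.DLin.main_ne 2 K h2K (2 * n) (Fin n ⊕ Fin n → K) hfin
      ↥(R : Subgroup ↥(Matrix.symplecticGroup (Fin n) F)) R.isPGroup' ρ' _
      (Nat.lt_pow_succ_log_self (by norm_num) _)
  · have hlog : Nat.log 2 (2 * n) = Nat.log 2 n + 1 := by
      rw [mul_comm]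
      exact Nat.log_mul_base (by norm_num) (by omega)
    rw [hlog]
    obtain ⟨Q, hQ, hQd⟩ := Cfsg.Agent.Lib.helper73.SpDL.exists_sub_Sp F h2F n (Nat.log 2 n)
      (Nat.pow_log_le_self 2 (by omega))
    obtain ⟨f', hf'⟩ := Cfsg.Agent.Lib.helper69.exists_injective_hom_sylow Q hQ R
    exact Cfsg.Agent.Lib.helper69.derivedSeries_ne_bot_of_injective f' hf' _ hQd

end Cfsg.Agent.S2648
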