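import Cfsg.Statements.S2665
-- import your own Cfsg.Agent.* helpers here

set_option autoImplicit false
open scoped MatrixGroups
open Cfsg

namespace Cfsg.Agent.S2665

open Matrix

open Polynomial in
/-- Artin–Schreier-type surjectivity: `d ↦ d - d^q` is onto an algebraically closed field. -/
theorem exists_sub_pow {K : Type*} [Field K] [IsAlgClosed K] (q : ℕ) (hq : 2 ≤ q) (c : K) :
    ∃ d : K, d - d ^ q = c := by
  let P : K[X] := X ^ q - X + C c
  have hdeg : P.degree ≠ 0 := by
    intro h
    have h1 := eq_C_of_degree_eq_zero h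
    have h2 : P.coeff q = 1 := by
      simp only [P, coeff_add, coeff_sub, coeff_X_pow, coeff_X, coeff_C]
      have : q ≠ 1 := by omega
      have : q ≠ 0 := by omega
      simp [*]
      omega
    rw [h1, coeff_C] at h2
    have : q ≠ 0 := by omega
    simp [this] at h2
  obtain ⟨d, hd⟩ := IsAlgClosed.exists_root P hdeg
  refine ⟨d, ?_⟩
  have : d ^ q - d + c = 0 := by simpa [P, IsRoot] using hd
  linear_combination (-1 : K) * this

open Polynomial in
/-- the auxiliary polynomials -/
noncomputable def Bpoly {K : Type*} [Field K] (q : ℕ) (c : ℕ → K) : ℕ → K[X]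
  | 0 => C (c 0)
  | (i + 1) => X ^ (q * (q - 1)) * (Bpoly q c i) ^ q + C (c (i + 1))

open Polynomial in
theorem Bpoly_ne_zero {K : Type*} [Field K] (q : ℕ) (hq : 2 ≤ q) (c : ℕ → K) (hc : c 0 ≠ 0) (i : ℕ) :
    Bpoly q c i ≠ 0 := by
  induction i with
  | zero => simpa [Bpoly] using hc
  | succ i ih =>
    intro h
    have hk : q * (q - 1) ≠ 0 := by
      have : 1 ≤ q - 1 := by omega
      positivity
    have h0 := congrArg (Polynomial.eval 0) h
    simp only [Bpoly, eval_add, eval_mul, eval_pow, eval_X, eval_C, eval_zero, zero_pow hk,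
      zero_mul, zero_add] at h0
    simp only [Bpoly, h0, map_zero, add_zero] at h
    have := mul_eq_zero.1 h
    rcases this with h1 | h1
    · exact (pow_ne_zero _ X_ne_zero) h1
    · exact ih (pow_eq_zero_iff (by omega) |>.1 h1)

open Polynomial in
/-- a nonzero root making the last coefficient consistent -/
theorem exists_t {K : Type*} [Field K] [IsAlgClosed K] (q : ℕ) (hq : 2 ≤ q) (c : ℕ → K) (hc : c 0 ≠ 0)
    (e : ℕ) : ∃ t : K, t ≠ 0 ∧ t ^ q * (Bpoly q c e).eval t = t := by
  let R : K[X] := X ^ (q - 1) * Bpoly q c e - 1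
  have hq1 : q - 1 ≠ 0 := by omega
  have hdeg : R.degree ≠ 0 := by
    intro h
    have h1 := eq_C_of_degree_eq_zero h
    have h2 : X ^ (q - 1) * Bpoly q c e = C (R.coeff 0 + 1) := by
      have : X ^ (q - 1) * Bpoly q c e = R + 1 := by simp [R]
      rw [this, h1]; simp
    have h0 := congrArg (Polynomial.eval 0) h2
    simp only [eval_mul, eval_pow, eval_X, zero_pow hq1, zero_mul, eval_C] at h0
    rw [← h0, map_zero] at h2
    rcases mul_eq_zero.1 h2 with h3 | h3
    · exact (pow_ne_zero _ X_ne_zero) h3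
    · exact Bpoly_ne_zero q hq c hc e h3
  obtain ⟨t, ht⟩ := IsAlgClosed.exists_root R hdeg
  have ht' : t ^ (q - 1) * (Bpoly q c e).eval t = 1 := by
    have : t ^ (q - 1) * (Bpoly q c e).eval t - 1 = 0 := by simpa [R, IsRoot] using ht
    linear_combination this
  have ht0 : t ≠ 0 := by
    rintro rfl
    rw [zero_pow hq1, zero_mul] at ht'
    exact zero_ne_one ht'
  refine ⟨t, ht0, ?_⟩
  have hpow : t ^ q = t * t ^ (q - 1) := by
    rw [← pow_succ']; congr 1; omega
  rw [hpow, mul_assoc, ht', mul_one]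


theorem span_fixed_eq_top {K : Type*} [Field K] [IsAlgClosed K] (q : ℕ) (hq : 2 ≤ q)
    {M : Type*} [AddCommGroup M] [Module K M] [FiniteDimensional K M]
    (φ : M →+ M) (hsmul : ∀ (c : K) (x : M), φ (c • x) = c ^ q • φ x)
    (hinj : Function.Injective φ) :
    Submodule.span K {v : M | φ v = v} = ⊤ := by
  classical
  set W := Submodule.span K {v : M | φ v = v} with hW
  by_contra hne
  obtain ⟨m, hm⟩ : ∃ m, m ∉ W := by
    by_contra h
    simp only [not_exists, not_not] at h
    exact hne (Submodule.eq_top_iff'.2 h)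
  have hq0 : 0 < q := by omega
  have W2 : ∀ w ∈ W, ∀ c : K, ∃ w' ∈ W, φ w' = c • w := by
    intro w hw
    induction hw using Submodule.span_induction with
    | mem x hx =>
      intro c
      obtain ⟨d, hd⟩ := IsAlgClosed.exists_pow_nat_eq c hq0
      have hx' : φ x = x := hx
      exact ⟨d • x, W.smul_mem _ (Submodule.subset_span hx), by rw [hsmul, hd, hx']⟩
    | zero => intro c; exact ⟨0, W.zero_mem, by simp⟩
    | add x y _ _ hx hy =>
      intro c
      obtain ⟨x', hx', hx''⟩ := hx c
      obtain ⟨y', hy', hy''⟩ := hy c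
      exact ⟨x' + y', W.add_mem hx' hy', by rw [map_add, hx'', hy'', smul_add]⟩
    | smul a x _ hx =>
      intro c
      obtain ⟨x', hx', hx''⟩ := hx (c * a)
      exact ⟨x', hx', by rw [hx'', mul_smul]⟩
  have W3 : ∀ w ∈ W, ∀ c : K, ∃ w' ∈ W, w' - φ w' = c • w := by
    intro w hw
    induction hw using Submodule.span_induction with
    | mem x hx =>
      intro c
      obtain ⟨d, hd⟩ := exists_sub_pow q hq c
      have hx' : φ x = x := hx
      exact ⟨d • x, W.smul_mem _ (Submodule.subset_span hx), by rw [hsmul, hx', ← sub_smul, hd]⟩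
    | zero => intro c; exact ⟨0, W.zero_mem, by simp⟩
    | add x y _ _ hx hy =>
      intro c
      obtain ⟨x', hx', hx''⟩ := hx c
      obtain ⟨y', hy', hy''⟩ := hy c
      refine ⟨x' + y', W.add_mem hx' hy', ?_⟩
      rw [map_add, smul_add, ← hx'', ← hy'']; abel
    | smul a x _ hx =>
      intro c
      obtain ⟨x', hx', hx''⟩ := hx (c * a)
      exact ⟨x', hx', by rw [hx'', mul_smul]⟩
  -- the chain
  let U : ℕ →o Submodule K M :=
    ⟨fun d => W ⊔ Submodule.span K (Set.range fun i : Fin d => (⇑φ)^[i] m), by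
      intro d d' hdd'
      apply sup_le_sup_left
      apply Submodule.span_mono
      rintro _ ⟨i, rfl⟩
      exact ⟨Fin.castLE hdd' i, rfl⟩⟩
  have Uform : ∀ d x, x ∈ U d ↔
      ∃ w₀ ∈ W, ∃ c : ℕ → K, x = w₀ + ∑ i ∈ Finset.range d, c i • (⇑φ)^[i] m := by
    intro d x
    constructor
    · intro hx
      obtain ⟨w₀, hw₀, u, hu, rfl⟩ := Submodule.mem_sup.1 hx
      obtain ⟨c, rfl⟩ := (Submodule.mem_span_range_iff_exists_fun K).1 hu
      refine ⟨w₀, hw₀, fun i => if h : i < d then c ⟨i, h⟩ else 0, ?_⟩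
      congr 1
      rw [← Fin.sum_univ_eq_sum_range (fun i => (if h : i < d then c ⟨i, h⟩ else 0) • (⇑φ)^[i] m) d]
      refine Finset.sum_congr rfl fun i _ => ?_
      simp
    · rintro ⟨w₀, hw₀, c, rfl⟩
      refine Submodule.add_mem _ (Submodule.mem_sup_left hw₀) (Submodule.sum_mem _ fun i hi => ?_)
      exact Submodule.smul_mem _ _ (Submodule.mem_sup_right
        (Submodule.subset_span ⟨⟨i, Finset.mem_range.1 hi⟩, rfl⟩))
  have hex : ∃ d, (⇑φ)^[d] m ∈ U d := by
    obtain ⟨N, hN⟩ := monotone_stabilizes_iff_noetherian.2 (inferInstance : IsNoetherian K M) U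
    refine ⟨N, ?_⟩
    rw [hN (N + 1) (Nat.le_succ N)]
    exact Submodule.mem_sup_right (Submodule.subset_span ⟨Fin.last N, rfl⟩)
  have hd : (⇑φ)^[Nat.find hex] m ∈ U (Nat.find hex) := Nat.find_spec hex
  have hdmin : ∀ d' < Nat.find hex, (⇑φ)^[d'] m ∉ U d' := fun d' h => Nat.find_min hex h
  have hd0 : Nat.find hex ≠ 0 := by
    intro h0
    rw [h0] at hd
    obtain ⟨w₀, hw₀, c, hc⟩ := (Uform 0 _).1 hd
    simp at hc
    exact hm (hc ▸ hw₀)
  obtain ⟨e, he⟩ := Nat.exists_eq_succ_of_ne_zero hd0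
  rw [he] at hd
  have hemin : (⇑φ)^[e] m ∉ U e := hdmin e (by omega)
  obtain ⟨w₀, hw₀, c, hc⟩ := (Uform _ _).1 hd
  have hc0 : c 0 ≠ 0 := by
    intro h0
    apply hemin
    rw [Uform]
    obtain ⟨w₀', hw₀', hw₀''⟩ := W2 w₀ hw₀ 1
    rw [one_smul] at hw₀''
    choose c' hc' using fun i => IsAlgClosed.exists_pow_nat_eq (c (i + 1)) hq0
    refine ⟨w₀', hw₀', c', ?_⟩
    apply hinj
    rw [← Function.iterate_succ_apply' (⇑φ) e m, hc, Finset.sum_range_succ', h0, zero_smul,
      add_zero, map_add, hw₀'', map_sum]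
    congr 1
    refine Finset.sum_congr rfl fun i _ => ?_
    rw [hsmul, hc', Function.iterate_succ_apply']
  obtain ⟨t, ht0, ht⟩ := exists_t q hq c hc0 e
  set a : ℕ → K := fun i => t ^ q * (Bpoly q c i).eval t with ha
  have ha0 : a 0 = c 0 * t ^ q := by simp [ha, Bpoly, mul_comm]
  have hasucc : ∀ i, a (i + 1) = (a i) ^ q + c (i + 1) * t ^ q := by
    intro i
    simp only [ha, Bpoly, Polynomial.eval_add, Polynomial.eval_mul, Polynomial.eval_pow,
      Polynomial.eval_X, Polynomial.eval_C]
    have h1 : t ^ q * t ^ (q * (q - 1)) = (t ^ q) ^ q := by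
      rw [← pow_add, ← pow_mul]; congr 1
      obtain ⟨k, rfl⟩ : ∃ k, q = k + 1 := ⟨q - 1, by omega⟩
      simp; ring
    rw [mul_pow, ← h1]; ring
  have hae : a e = t := ht
  obtain ⟨w, hw, hww⟩ := W3 w₀ hw₀ (t ^ q)
  set v := w + ∑ i ∈ Finset.range (e + 1), a i • (⇑φ)^[i] m with hv
  have hfix : φ v = v := by
    have e1 : φ v = φ w + (∑ i ∈ Finset.range e, (a i) ^ q • (⇑φ)^[i + 1] m
        + t ^ q • (⇑φ)^[e + 1] m) := by
      rw [hv, map_add, map_sum, Finset.sum_range_succ]
      congr 1
      rw [hsmul, hae, ← Function.iterate_succ_apply' (⇑φ) e m]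
      congr 1
      refine Finset.sum_congr rfl fun i _ => ?_
      rw [hsmul, Function.iterate_succ_apply']
    have e2 : v = w + (c 0 * t ^ q) • m
        + ∑ i ∈ Finset.range e, ((a i) ^ q + c (i + 1) * t ^ q) • (⇑φ)^[i + 1] m := by
      rw [hv, Finset.sum_range_succ', ha0]
      simp only [hasucc, Function.iterate_zero, id]
      abel
    have e3 : t ^ q • (⇑φ)^[e + 1] m = t ^ q • w₀ + (c 0 * t ^ q) • m
        + ∑ i ∈ Finset.range e, (c (i + 1) * t ^ q) • (⇑φ)^[i + 1] m := by
      rw [hc, Finset.sum_range_succ', smul_add, smul_add, Finset.smul_sum]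
      simp only [Function.iterate_zero, id, smul_smul, mul_comm (t ^ q)]
      abel
    have e4 : φ w = w - t ^ q • w₀ := by rw [← hww]; abel
    rw [e1, e3, e4]
    conv_rhs => rw [e2]
    simp only [add_smul, Finset.sum_add_distrib]
    abel
  have hvW : v ∈ W := Submodule.subset_span hfix
  apply hemin
  rw [Uform]
  refine ⟨t⁻¹ • (v - w), W.smul_mem _ (W.sub_mem hvW hw), fun i => -(t⁻¹ * a i), ?_⟩
  have h5 : v - w = ∑ i ∈ Finset.range e, a i • (⇑φ)^[i] m + t • (⇑φ)^[e] m := by
    rw [hv, Finset.sum_range_succ, hae]; abel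
  rw [h5, smul_add, smul_smul, inv_mul_cancel₀ ht0, one_smul, Finset.smul_sum]
  simp only [neg_smul, Finset.sum_neg_distrib, smul_smul]
  abel


/-- The Lang–Steinberg Theorem for the general linear group. Let `K` be an algebraically closed field of prime characteristic `p`, let `q = p^f` with `f ≥ 1`, and let `σ` be the endomorphism of GL_n(K) raising every matrix entry to the `q`-th power. Then every element `g` of GL_n(K) can be written `g = x · σ(x)⁻¹` for some `x` in GL_n(K): the map `x ↦ x σ(x)⁻¹` is surjective. -/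
theorem result {K : Type*} [Field K] [IsAlgClosed K] (p : ℕ) [Fact p.Prime] [CharP K p]
    (f : ℕ) (hf : 1 ≤ f) (n : ℕ) (g : GL (Fin n) K) :
    ∃ x : GL (Fin n) K, g = x * (Matrix.GeneralLinearGroup.map (iterateFrobenius K p f) x)⁻¹ := by
  classical
  have hp2 : 2 ≤ p := (Fact.out : p.Prime).two_le
  have hq2 : 2 ≤ p ^ f := by
    calc 2 ≤ p := hp2
      _ = p ^ 1 := (pow_one p).symm
      _ ≤ p ^ f := Nat.pow_le_pow_right (by omega) hf
  have hσ : ∀ c : K, iterateFrobenius K p f c = c ^ p ^ f := fun c => rfl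
  let φ : (Fin n → K) →+ (Fin n → K) :=
    { toFun := fun v => g.1 *ᵥ (fun i => iterateFrobenius K p f (v i))
      map_zero' := by
        have : (fun i : Fin n => iterateFrobenius K p f ((0 : Fin n → K) i)) = 0 := by
          ext i; simp
        rw [this, Matrix.mulVec_zero]
      map_add' := fun u v => by
        rw [← Matrix.mulVec_add]; congr 1; ext i; simp }
  have hφ : ∀ v, φ v = g.1 *ᵥ (fun i => iterateFrobenius K p f (v i)) := fun v => rfl
  have hsmul : ∀ (c : K) (x : Fin n → K), φ (c • x) = c ^ p ^ f • φ x := by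
    intro c x
    rw [hφ, hφ, ← Matrix.mulVec_smul]; congr 1; ext i; simp [hσ, mul_pow]
  have hinj : Function.Injective φ := by
    intro u v huv
    rw [hφ, hφ] at huv
    have h1 := Matrix.mulVec_injective_of_isUnit g.isUnit huv
    ext i
    exact (iterateFrobenius K p f).injective (congrFun h1 i)
  have hspan := span_fixed_eq_top (p ^ f) hq2 φ hsmul hinj
  obtain ⟨b, hbsub, hbspan, hbli⟩ := exists_linearIndependent K {v : Fin n → K | φ v = v}
  rw [hspan] at hbspan
  let B := Module.Basis.mk hbli (by rw [Subtype.range_coe]; exact hbspan.ge)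
  have : Fintype b := FiniteDimensional.fintypeBasisIndex B
  have hcard : Fintype.card b = n := by
    rw [← Module.finrank_eq_card_basis B]; simp
  let e : b ≃ Fin n := Fintype.equivFinOfCardEq hcard
  let x : Matrix (Fin n) (Fin n) K := Matrix.of fun i j => (e.symm j).1 i
  have hxunit : IsUnit x := by
    rw [← Matrix.linearIndependent_cols_iff_isUnit]
    have h2 : x.col = (fun v : b => v.1) ∘ e.symm := by ext j i; rfl
    rw [h2]
    exact hbli.comp _ e.symm.injective
  have hfixx : g.1 * x.map (iterateFrobenius K p f) = x := by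
    ext i j
    have hj : φ (e.symm j).1 = (e.symm j).1 := hbsub (e.symm j).2
    have h3 := congrFun hj i
    rw [hφ] at h3
    simpa [Matrix.mul_apply, Matrix.mulVec, dotProduct, x] using h3
  refine ⟨hxunit.unit, ?_⟩
  rw [eq_mul_inv_iff_mul_eq]
  apply Units.ext
  rw [Units.val_mul]
  exact hfixx

end Cfsg.Agent.S2665
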