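import Cfsg.Statements.S2666
-- import your own Cfsg.Agent.* helpers here

set_option autoImplicit false
open Cfsg

namespace Cfsg.Agent.S2666

theorem mem_fix {X : Type*} [Group X] (τ : MulAut X) (y : X) :
    y ∈ (MulEquiv.toMonoidHom τ).eqLocus (MonoidHom.id X) ↔ τ y = y := Iff.rfl

theorem pow_fix {X : Type*} [Group X] (σ : MulAut X) (e : ℕ) (y : X) (hy : σ y = y) :
    (σ ^ e) y = y := by
  induction e with
  | zero => simp
  | succ n ih => rw [pow_succ, MulAut.mul_apply, hy, ih]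

theorem norm_eq {X : Type*} [Group X] (σ : MulAut X) (a : X) (d : ℕ) :
    ((List.range d).map (fun i => (σ ^ i) (a * (σ a)⁻¹))).prod = a * ((σ ^ d) a)⁻¹ := by
  induction d with
  | zero => simp
  | succ n ih =>
    rw [List.range_succ, List.map_append, List.prod_append, ih]
    simp only [List.map_cons, List.map_nil, List.prod_cons, List.prod_nil, mul_one, map_mul, map_inv]
    rw [pow_succ, MulAut.mul_apply]
    group

theorem pow_comm_apply {X : Type*} [Group X] (σ : MulAut X) (e : ℕ) (a : X) :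
    (σ ^ e) (σ a) = σ ((σ ^ e) a) := by
  rw [← MulAut.mul_apply, ← MulAut.mul_apply, ← pow_succ, ← pow_succ']

theorem x_fix {X : Type*} [Group X] (σ : MulAut X) (e : ℕ) (a : X)
    (hg : (σ ^ e) (a * (σ a)⁻¹) = a * (σ a)⁻¹) :
    σ (((σ ^ e) a)⁻¹ * a) = ((σ ^ e) a)⁻¹ * a := by
  have hc := pow_comm_apply σ e a
  simp only [map_mul, map_inv, hc] at hg ⊢
  generalize (σ ^ e) a = u at hg ⊢
  generalize σ u = v at hg ⊢
  generalize σ a = s at hg ⊢
  have h1 : v⁻¹ = u⁻¹ * (a * s⁻¹) := by rw [← hg]; group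
  rw [h1]; group

/-- Shintani descent, in an abstract form. Let `σ` be an automorphism of a group `X` such that the maps `a ↦ a·σ(a)⁻¹` and `a ↦ a·σᵉ(a)⁻¹` are surjective on `X` (the Lang–Steinberg property, which holds when `X` is a connected algebraic group and `σ` a Steinberg endomorphism), where `e ≥ 1`. Write `G` for the subgroup of fixed points of `σᵉ` and `H` for the subgroup of fixed points of `σ`. The `G`-conjugacy classes in the coset `G σ` of the semidirect product of `G` by `σ` correspond to the orbits of `G` on itself under twisted conjugation `g ↦ k g σ(k)⁻¹`, and the `e`-th power of `g σ` has `G`-part the norm `g σ(g) ⋯ σ^(e-1)(g)`. For `g` in `G` and any `a` with `g = a σ(a)⁻¹`, put `x = σᵉ(a)⁻¹ a`. Then: (1) `x` lies in `H`, and `a⁻¹ · (g σ(g) ⋯ σ^(e-1)(g)) · a = x`; (2) for `g, g'` in `G` with such elements `a, b` and `x, x'`, the elements `g, g'` are twisted-conjugate under `G` if and only if `x, x'` are conjugate in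 `H`; (3) every element of `H` arises as such an `x`. So `g ↦ x` induces a well-defined bijection from the twisted `G`-classes of `G` onto the conjugacy classes of `H` (the Shintani map). -/
theorem result {X : Type*} [Group X] (σ : MulAut X) (e : ℕ) (he : 1 ≤ e)
    (hL : ∀ g : X, ∃ a : X, g = a * (σ a)⁻¹) (hLe : ∀ g : X, ∃ a : X, g = a * ((σ ^ e) a)⁻¹) :
    (∀ g ∈ (MulEquiv.toMonoidHom (σ ^ e)).eqLocus (MonoidHom.id X), ∀ a : X, g = a * (σ a)⁻¹ →
        ((σ ^ e) a)⁻¹ * a ∈ (MulEquiv.toMonoidHom σ).eqLocus (MonoidHom.id X) ∧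
          a⁻¹ * ((List.range e).map (fun i => (σ ^ i) g)).prod * a = ((σ ^ e) a)⁻¹ * a) ∧
    (∀ g ∈ (MulEquiv.toMonoidHom (σ ^ e)).eqLocus (MonoidHom.id X), ∀ g' ∈ (MulEquiv.toMonoidHom (σ ^ e)).eqLocus (MonoidHom.id X), ∀ a b : X,
        g = a * (σ a)⁻¹ → g' = b * (σ b)⁻¹ →
          ((∃ k ∈ (MulEquiv.toMonoidHom (σ ^ e)).eqLocus (MonoidHom.id X), g' = k * g * (σ k)⁻¹) ↔
            (∃ h ∈ (MulEquiv.toMonoidHom σ).eqLocus (MonoidHom.id X), ((σ ^ e) b)⁻¹ * b = h * (((σ ^ e) a)⁻¹ * a) * h⁻¹))) ∧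
    (∀ x ∈ (MulEquiv.toMonoidHom σ).eqLocus (MonoidHom.id X), ∃ g ∈ (MulEquiv.toMonoidHom (σ ^ e)).eqLocus (MonoidHom.id X), ∃ a : X,
        g = a * (σ a)⁻¹ ∧ ((σ ^ e) a)⁻¹ * a = x) := by
  refine ⟨?_, ?_, ?_⟩
  · intro g hg a ha
    subst ha
    rw [mem_fix] at hg
    refine ⟨x_fix σ e a hg, ?_⟩
    rw [norm_eq]; group
  · intro g hg g' hg' a b ha hb
    subst ha hb
    rw [mem_fix] at hg hg'
    have hxa := x_fix σ e a hg
    have hxb := x_fix σ e b hg'
    constructor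
    · rintro ⟨k, hk, hkk⟩
      rw [mem_fix] at hk
      have hh : σ (b⁻¹ * k * a) = b⁻¹ * k * a := by
        simp only [map_mul, map_inv]
        have h1 : (σ b)⁻¹ = b⁻¹ * (b * (σ b)⁻¹) := by group
        rw [h1, hkk]; group
      refine ⟨b⁻¹ * k * a, hh, ?_⟩
      have h2 := pow_fix σ e _ hh
      simp only [map_mul, map_inv, hk] at h2
      have h3 : ((σ ^ e) a)⁻¹ = a⁻¹ * k⁻¹ * (b * (((σ ^ e) b)⁻¹ * k * (σ ^ e) a)) * ((σ ^ e) a)⁻¹ := by
        rw [h2]; group
      rw [h3]; group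
    · rintro ⟨h, hh, hx⟩
      rw [mem_fix] at hh
      refine ⟨b * h * a⁻¹, ?_, ?_⟩
      · rw [mem_fix]
        simp only [map_mul, map_inv, pow_fix σ e h hh]
        have h1 : (σ ^ e) b = b * (((σ ^ e) b)⁻¹ * b)⁻¹ := by group
        rw [h1, hx]; group
      · simp only [map_mul, map_inv, hh]; group
  · intro x hx
    rw [mem_fix] at hx
    obtain ⟨c, hc⟩ := hLe x⁻¹
    have hxc : x = (σ ^ e) c * c⁻¹ := by
      have : x = (x⁻¹)⁻¹ := by group
      rw [this, hc]; group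
    have hcc : (σ ^ e) c⁻¹ = c⁻¹ * x⁻¹ := by
      rw [map_inv, hxc]; group
    generalize c⁻¹ = a at hcc
    refine ⟨a * (σ a)⁻¹, ?_, a, rfl, ?_⟩
    · rw [mem_fix]
      have h5 : (σ ^ e) (σ a) = σ a * x⁻¹ := by
        rw [pow_comm_apply, hcc, map_mul, map_inv, hx]
      rw [map_mul, map_inv, h5, hcc]; group
    · rw [hcc]; group

end Cfsg.Agent.S2666
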