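import Cfsg.Statements.S2667
-- import your own Cfsg.Agent.* helpers here

set_option autoImplicit false
open Cfsg

namespace Cfsg.Agent.S2667

theorem mem_fix {X : Type*} [Group X] (τ : MulAut X) (y : X) :
    y ∈ (MulEquiv.toMonoidHom τ).eqLocus (MonoidHom.id X) ↔ τ y = y := Iff.rfl

theorem pow_fix {X : Type*} [Group X] (σ : MulAut X) (e : ℕ) (y : X) (hy : σ y = y) :
    (σ ^ e) y = y := by
  induction e with
  | zero => simp
  | succ n ih => rw [pow_succ, MulAut.mul_apply, hy, ih]

/-- Shintani descent, in an abstract form. Let `σ` be an automorphism of a group `X` and `e ≥ 1` (no surjectivity of the Lang maps is needed for this part; in the classical setting `X` is a connected algebraic group and `σ` a Steinberg endomorphism). Write `G` for the subgroup of fixed points of `σᵉ` and `H` for the subgroup of fixed points of `σ`. The `G`-conjugacy classes in the coset `G σ` of the semidirect product of `G` by `σ` correspond to the orbits of `G` on itself under twisted conjugation `g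 ↦ k g σ(k)⁻¹`, and the `e`-th power of `g σ` has `G`-part the norm `g σ(g) ⋯ σ^(e-1)(g)`. For `g` in `G` and any `a` with `g = a σ(a)⁻¹`, put `x = σᵉ(a)⁻¹ a`. Then conjugation by `a⁻¹` carries the twisted centralizer `{k ∈ G : k g σ(k)⁻¹ = g}` (the centralizer of `g σ` in `G`) exactly onto the centralizer of `x` in `H`: an element `k` of `X` lies in `G` and satisfies `k g σ(k)⁻¹ = g` if and only if `a⁻¹ k a` lies in `H` and commutes with `x`. In particular the two centralizers are conjugate in `X` and have the same order. -/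
theorem result {X : Type*} [Group X] (σ : MulAut X) (e : ℕ) (he : 1 ≤ e)
    (g : X) (hg : g ∈ (MulEquiv.toMonoidHom (σ ^ e)).eqLocus (MonoidHom.id X)) (a : X) (ha : g = a * (σ a)⁻¹) (k : X) :
    (k ∈ (MulEquiv.toMonoidHom (σ ^ e)).eqLocus (MonoidHom.id X) ∧ k * g * (σ k)⁻¹ = g) ↔
      (a⁻¹ * k * a ∈ (MulEquiv.toMonoidHom σ).eqLocus (MonoidHom.id X) ∧
        (a⁻¹ * k * a) * (((σ ^ e) a)⁻¹ * a) = (((σ ^ e) a)⁻¹ * a) * (a⁻¹ * k * a)) := by
  subst ha
  simp only [mem_fix, map_mul, map_inv]
  generalize hs : σ a = s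
  generalize hu : (σ ^ e) a = u
  constructor
  · rintro ⟨hk1, hk2⟩
    have h1 : σ k = s * a⁻¹ * k * a * s⁻¹ := by
      have := congrArg (fun z => (a * s⁻¹)⁻¹ * z) hk2
      simp only [mul_assoc, inv_mul_cancel_left, mul_inv_rev, inv_inv] at this
      -- this : s * (a⁻¹ * (k * (a * (s⁻¹ * (σ k)⁻¹)))) = 1
      have h := eq_of_mul_inv_eq_one (a := s * (a⁻¹ * (k * (a * s⁻¹)))) (b := σ k) (by simpa [mul_assoc] using this)
      rw [← h]; simp [mul_assoc]
    have h2 : s⁻¹ * σ k * s = a⁻¹ * k * a := by rw [h1]; group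
    refine ⟨h2, ?_⟩
    have h3 := pow_fix σ e (a⁻¹ * k * a) (by simp only [map_mul, map_inv, hs]; exact h2)
    simp only [map_mul, map_inv, hu, hk1] at h3
    calc (a⁻¹ * k * a) * (u⁻¹ * a) = (u⁻¹ * k * u) * (u⁻¹ * a) := by rw [h3]
      _ = (u⁻¹ * a) * (a⁻¹ * k * a) := by group
  · rintro ⟨hh1, hh2⟩
    have h1 : σ k = s * a⁻¹ * k * a * s⁻¹ := by
      have : σ k = s * (s⁻¹ * σ k * s) * s⁻¹ := by group
      rw [this, hh1]; group
    have h3 := pow_fix σ e (a⁻¹ * k * a) (by simp only [map_mul, map_inv, hs]; exact hh1)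
    simp only [map_mul, map_inv, hu] at h3
    constructor
    · have h4 : (σ ^ e) k = u * (u⁻¹ * (σ ^ e) k * u) * u⁻¹ := by group
      rw [h4, h3]
      have h5 : u * (a⁻¹ * k * a) * u⁻¹ = u * ((a⁻¹ * k * a) * (u⁻¹ * a)) * a⁻¹ := by group
      rw [h5, hh2]; group
    · rw [h1]; group

end Cfsg.Agent.S2667
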