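import Cfsg.Statements.S2669
-- import your own Cfsg.Agent.* helpers here

set_option autoImplicit false
open Cfsg

namespace Cfsg.Agent.S2669

theorem mem_fix {X : Type*} [Group X] (τ : MulAut X) (y : X) :
    y ∈ (MulEquiv.toMonoidHom τ).eqLocus (MonoidHom.id X) ↔ τ y = y := Iff.rfl

theorem pow_fix {X : Type*} [Group X] (σ : MulAut X) (e : ℕ) (y : X) (hy : σ y = y) :
    (σ ^ e) y = y := by
  induction e with
  | zero => simp
  | succ n ih => rw [pow_succ, MulAut.mul_apply, hy, ih]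

theorem pow_comm_apply {X : Type*} [Group X] (σ : MulAut X) (e : ℕ) (a : X) :
    (σ ^ e) (σ a) = σ ((σ ^ e) a) := by
  rw [← MulAut.mul_apply, ← MulAut.mul_apply, ← pow_succ, ← pow_succ']

theorem x_fix {X : Type*} [Group X] (σ : MulAut X) (e : ℕ) (a : X)
    (hg : (σ ^ e) (a * (σ a)⁻¹) = a * (σ a)⁻¹) :
    σ (((σ ^ e) a)⁻¹ * a) = ((σ ^ e) a)⁻¹ * a := by
  have hc := pow_comm_apply σ e a
  simp only [map_mul, map_inv, hc] at hg ⊢
  generalize (σ ^ e) a = u at hg ⊢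
  generalize σ u = v at hg ⊢
  generalize σ a = s at hg ⊢
  have h1 : v⁻¹ = u⁻¹ * (a * s⁻¹) := by rw [← hg]; group
  rw [h1]; group

theorem pow_mem {X : Type*} [Group X] (σ : MulAut X) (Y : Subgroup X)
    (hY : ∀ y : X, y ∈ Y ↔ σ y ∈ Y) (e : ℕ) (y : X) (hy : y ∈ Y) : (σ ^ e) y ∈ Y := by
  induction e with
  | zero => simpa using hy
  | succ n ih => rw [pow_succ', MulAut.mul_apply]; exact (hY _).1 ih

/-- counting pairs fibrewise -/
theorem card_pairs {α β γ : Type*} (P : α → Prop) (R : α → β → Prop) (hR : ∀ a b, R a b → P a)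
    (f : ∀ a, P a → Nonempty ({b // R a b} ≃ γ)) :
    Nat.card {p : α × β // R p.1 p.2} = Nat.card {a // P a} * Nat.card γ := by
  classical
  rw [← Nat.card_prod]
  apply Nat.card_congr
  let F : ∀ a, P a → ({b // R a b} ≃ γ) := fun a ha => Classical.choice (f a ha)
  refine
    { toFun := fun p => (⟨p.1.1, hR _ _ p.2⟩, F p.1.1 (hR _ _ p.2) ⟨p.1.2, p.2⟩)
      invFun := fun q => ⟨(q.1.1, ((F q.1.1 q.1.2).symm q.2).1), ((F q.1.1 q.1.2).symm q.2).2⟩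
      left_inv := ?_
      right_inv := ?_ }
  · rintro ⟨⟨a, b⟩, h⟩
    simp
  · rintro ⟨⟨a, ha⟩, c⟩
    simp

/-- a nonempty "left coset" of a subgroup is equinumerous with it -/
theorem coset_equiv {X : Type*} [Group X] (S : Subgroup X) (T : X → Prop) (t₀ : X)
    (h1 : ∀ t, T t → t₀⁻¹ * t ∈ S) (h2 : ∀ s ∈ S, T (t₀ * s)) :
    Nonempty ({t // T t} ≃ ↥S) :=
  ⟨{ toFun := fun t => ⟨t₀⁻¹ * t.1, h1 _ t.2⟩
     invFun := fun s => ⟨t₀ * s.1, h2 _ s.2⟩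
     left_inv := by rintro ⟨t, ht⟩; simp
     right_inv := by rintro ⟨s, hs⟩; simp }⟩

/-- Shintani descent preserves numbers of fixed points on coset spaces (abstract form). Let `σ` be an automorphism of a group `X` and `e ≥ 1`; write `G` for the fixed points of `σᵉ` and `H` for the fixed points of `σ`, and assume `G` is finite. Let `Y` be a `σ`-stable subgroup of `X` on which the maps `a ↦ a σ(a)⁻¹` and `a ↦ a σᵉ(a)⁻¹` are surjective (as for a closed connected `σ`-stable subgroup of an algebraic group). Let `g ∈ G`, let `a ∈ X` satisfy `g = a σ(a)⁻¹` and put `x = σᵉ(a)⁻¹ a` (the Shintani image, an element of `H`). The element `g σ` of the semidirect product acts on the cosets of `Y ∩ G` in `G` by `k (Y ∩ G) ↦ g σ(k) (Y ∩ G)`, fixing that coset exactly when `k⁻¹ g σ(k) ∈ Y`; and `x` fixes the coset `h (Y ∩ H)` of `H` exactly when `h⁻¹ x h ∈ Y`. Then the two numbers of fixed cosets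 agree; in cross-multiplied form, `#{k ∈ G : k⁻¹ g σ(k) ∈ Y} · |Y ∩ H| = #{h ∈ H : h⁻¹ x h ∈ Y} · |Y ∩ G|`. -/
theorem result {X : Type*} [Group X] (σ : MulAut X) (e : ℕ) (he : 1 ≤ e)
    [Finite ↥((MulEquiv.toMonoidHom (σ ^ e)).eqLocus (MonoidHom.id X))]
    (Y : Subgroup X) (hY : ∀ y : X, y ∈ Y ↔ σ y ∈ Y)
    (hYL : ∀ y ∈ Y, ∃ a ∈ Y, y = a * (σ a)⁻¹) (hYLe : ∀ y ∈ Y, ∃ a ∈ Y, y = a * ((σ ^ e) a)⁻¹)
    (g : X) (hg : g ∈ (MulEquiv.toMonoidHom (σ ^ e)).eqLocus (MonoidHom.id X)) (a : X) (ha : g = a * (σ a)⁻¹) :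
    Nat.card {k : ↥((MulEquiv.toMonoidHom (σ ^ e)).eqLocus (MonoidHom.id X)) // (k : X)⁻¹ * g * σ k ∈ Y} *
        Nat.card ↥(Y ⊓ (MulEquiv.toMonoidHom σ).eqLocus (MonoidHom.id X)) =
      Nat.card {h : ↥((MulEquiv.toMonoidHom σ).eqLocus (MonoidHom.id X)) // (h : X)⁻¹ * (((σ ^ e) a)⁻¹ * a) * h ∈ Y} *
        Nat.card ↥(Y ⊓ (MulEquiv.toMonoidHom (σ ^ e)).eqLocus (MonoidHom.id X)) := by
  subst ha
  rw [mem_fix] at hg
  have hx := x_fix σ e a hg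
  set x := ((σ ^ e) a)⁻¹ * a with hxdef
  have hτa : (σ ^ e) a = a * x⁻¹ := by rw [hxdef]; group
  -- the relation
  let R : X → X → Prop := fun k h => (σ ^ e) k = k ∧ σ h = h ∧ h⁻¹ * a⁻¹ * k ∈ Y
  let PA : X → Prop := fun k => (σ ^ e) k = k ∧ k⁻¹ * (a * (σ a)⁻¹) * σ k ∈ Y
  let PB : X → Prop := fun h => σ h = h ∧ h⁻¹ * x * h ∈ Y
  -- R implies both conditions
  have hRA : ∀ k h, R k h → PA k := by
    rintro k h ⟨hk, hh, hm⟩
    refine ⟨hk, ?_⟩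
    have h1 : k⁻¹ * (a * (σ a)⁻¹) * σ k = (h⁻¹ * a⁻¹ * k)⁻¹ * σ (h⁻¹ * a⁻¹ * k) := by
      simp only [map_mul, map_inv, hh]; group
    rw [h1]
    exact Y.mul_mem (Y.inv_mem hm) ((hY _).1 hm)
  have hRB : ∀ h k, R k h → PB h := by
    rintro h k ⟨hk, hh, hm⟩
    refine ⟨hh, ?_⟩
    have h2 : (σ ^ e) (h⁻¹ * a⁻¹ * k) = h⁻¹ * x * a⁻¹ * k := by
      simp only [map_mul, map_inv, hk, pow_fix σ e h hh, hτa]; group
    have h1 : h⁻¹ * x * h = (σ ^ e) (h⁻¹ * a⁻¹ * k) * (h⁻¹ * a⁻¹ * k)⁻¹ := by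
      rw [h2]; group
    rw [h1]
    exact Y.mul_mem (pow_mem σ Y hY e _ hm) (Y.inv_mem hm)
  -- fibres over k
  have hfA : ∀ k, PA k → Nonempty ({h // R k h} ≃ ↥(Y ⊓ (MulEquiv.toMonoidHom σ).eqLocus (MonoidHom.id X))) := by
    rintro k ⟨hk, hkY⟩
    obtain ⟨y, hy, hyy⟩ := hYL _ hkY
    -- h₀ = a⁻¹ * k * y
    have hh0 : σ (a⁻¹ * k * y) = a⁻¹ * k * y := by
      simp only [map_mul, map_inv]
      have h1 : σ k = (a * (σ a)⁻¹)⁻¹ * k * (k⁻¹ * (a * (σ a)⁻¹) * σ k) := by group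
      rw [h1, hyy]; group
    apply coset_equiv _ (fun h => R k h) (a⁻¹ * k * y)
    · rintro t ⟨_, ht, htm⟩
      rw [Subgroup.mem_inf, mem_fix]
      refine ⟨?_, ?_⟩
      · have h1 : (a⁻¹ * k * y)⁻¹ * t = y⁻¹ * (t⁻¹ * a⁻¹ * k)⁻¹ := by group
        rw [h1]
        exact Y.mul_mem (Y.inv_mem hy) (Y.inv_mem htm)
      · rw [map_mul, map_inv, hh0, ht]
    · intro s hs
      rw [Subgroup.mem_inf, mem_fix] at hs
      refine ⟨hk, ?_, ?_⟩
      · rw [map_mul, hh0, hs.2]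
      · have h1 : (a⁻¹ * k * y * s)⁻¹ * a⁻¹ * k = s⁻¹ * y⁻¹ := by group
        rw [h1]
        exact Y.mul_mem (Y.inv_mem hs.1) (Y.inv_mem hy)
  -- fibres over h
  have hfB : ∀ h, PB h → Nonempty ({k // R k h} ≃ ↥(Y ⊓ (MulEquiv.toMonoidHom (σ ^ e)).eqLocus (MonoidHom.id X))) := by
    rintro h ⟨hh, hhY⟩
    have hhY' : h⁻¹ * x⁻¹ * h ∈ Y := by
      have : h⁻¹ * x⁻¹ * h = (h⁻¹ * x * h)⁻¹ := by group
      rw [this]; exact Y.inv_mem hhY
    obtain ⟨y, hy, hyy⟩ := hYLe _ hhY'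
    -- k₀ = a * h * y
    have hk0 : (σ ^ e) (a * h * y) = a * h * y := by
      simp only [map_mul, pow_fix σ e h hh, hτa]
      have h1 : (σ ^ e) y = ((σ ^ e) y * y⁻¹) * y := by group
      have h2 : (σ ^ e) y * y⁻¹ = (h⁻¹ * x⁻¹ * h)⁻¹ := by rw [hyy]; group
      rw [h1, h2]; group
    apply coset_equiv _ (fun k => R k h) (a * h * y)
    · rintro t ⟨ht, _, htm⟩
      rw [Subgroup.mem_inf, mem_fix]
      refine ⟨?_, ?_⟩
      · have h1 : (a * h * y)⁻¹ * t = y⁻¹ * (h⁻¹ * a⁻¹ * t) := by group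
        rw [h1]
        exact Y.mul_mem (Y.inv_mem hy) htm
      · rw [map_mul, map_inv, hk0, ht]
    · intro s hs
      rw [Subgroup.mem_inf, mem_fix] at hs
      refine ⟨?_, hh, ?_⟩
      · rw [map_mul, hk0, hs.2]
      · have h1 : h⁻¹ * a⁻¹ * (a * h * y * s) = y * s := by group
        rw [h1]
        exact Y.mul_mem hy hs.1
  have cA := card_pairs PA R hRA hfA
  have cB := card_pairs PB (fun h k => R k h) hRB hfB
  have hswap : Nat.card {p : X × X // R p.1 p.2} = Nat.card {p : X × X // R p.2 p.1} := by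
    apply Nat.card_congr
    exact
      { toFun := fun p => ⟨(p.1.2, p.1.1), p.2⟩
        invFun := fun p => ⟨(p.1.2, p.1.1), p.2⟩
        left_inv := by rintro ⟨⟨a, b⟩, h⟩; rfl
        right_inv := by rintro ⟨⟨a, b⟩, h⟩; rfl }
  have eA : Nat.card {k : ↥((MulEquiv.toMonoidHom (σ ^ e)).eqLocus (MonoidHom.id X)) // (k : X)⁻¹ * (a * (σ a)⁻¹) * σ k ∈ Y}
      = Nat.card {k // PA k} :=
    Nat.card_congr (Equiv.subtypeSubtypeEquivSubtypeInter
      (fun k : X => k ∈ (MulEquiv.toMonoidHom (σ ^ e)).eqLocus (MonoidHom.id X))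
      (fun k : X => k⁻¹ * (a * (σ a)⁻¹) * σ k ∈ Y))
  have eB : Nat.card {h : ↥((MulEquiv.toMonoidHom σ).eqLocus (MonoidHom.id X)) // (h : X)⁻¹ * x * h ∈ Y}
      = Nat.card {h // PB h} :=
    Nat.card_congr (Equiv.subtypeSubtypeEquivSubtypeInter
      (fun h : X => h ∈ (MulEquiv.toMonoidHom σ).eqLocus (MonoidHom.id X))
      (fun h : X => h⁻¹ * x * h ∈ Y))
  rw [eA, eB, ← cA, ← cB, hswap]

end Cfsg.Agent.S2669
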