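import Cfsg.Statements.S2670
import Cfsg.Agent.Lib.helper45.PGClasses

set_option autoImplicit false
open Cfsg Cfsg.Agent.Lib.helper45

namespace Cfsg.Agent.S2670

/-- Number of conjugacy classes of elements of prime order r in PGL_n(q) = GL_n(q)/scalars when r divides q − 1 (n ≥ 2): the classes of elements with a diagonalisable lift correspond to the orbits of the cyclic rotation on the r-tuples of eigenvalue multiplicities (a_0, …, a_(r−1)) summing to n with every a_j < n, and when r divides n there are r − 1 further classes (lifts acting irreducibly on blocks of size r); in all (C(n+r−1, r−1) − r − [r ∣ n])/r + r·[r ∣ n] classes. -/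
theorem result {F : Type*} [Field F] [Fintype F] {q : ℕ} (hF : Fintype.card F = q) {n r : ℕ} (hn : 2 ≤ n) (hr : r.Prime) (hrq : r ∣ q - 1) : Nat.card {C : ConjClasses (GL (Fin n) F ⧸ Subgroup.center (GL (Fin n) F)) // ∃ g : GL (Fin n) F ⧸ Subgroup.center (GL (Fin n) F), ConjClasses.mk g = C ∧ orderOf g = r} = (Nat.choose (n + r - 1) (r - 1) - r - (if r ∣ n then 1 else 0)) / r + r * (if r ∣ n then 1 else 0) := by
  classical
  have : Fact r.Prime := ⟨hr⟩
  have : NeZero r := ⟨hr.ne_zero⟩
  have hq1 : 1 ≤ q := by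
    rw [← hF]
    exact Fintype.card_pos
  have hrK : (r : F) ≠ 0 := by
    intro h0
    obtain ⟨t, ht⟩ := hrq
    have h1 : (q : F) = 0 := by
      rw [← hF]
      exact Nat.cast_card_eq_zero F
    have h2 : q = r * t + 1 := by omega
    rw [h2] at h1
    push_cast at h1
    rw [h0, zero_mul, zero_add] at h1
    exact one_ne_zero h1
  have hcardU : Fintype.card Fˣ = q - 1 := by rw [Fintype.card_units, hF]
  obtain ⟨ζ, hζ⟩ := exists_prime_orderOf_dvd_card (G := Fˣ) r (by rw [hcardU]; exact hrq)
  refine pg_classes_count (MonoidHom.id (GL (Fin n) F)) ⊤ Function.injective_id hn hr hrK ζ hζ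
    (fun _ _ => Subgroup.mem_top _) ?_ ?_ (fun g h hgh => hgh) ?_ ?_ ?_
  · intro z hz
    rw [Matrix.GeneralLinearGroup.center_eq_range_scalar] at hz
    obtain ⟨u, rfl⟩ := hz
    exact ⟨u, Subgroup.mem_top _, Matrix.GeneralLinearGroup.coe_scalar u⟩
  · intro c _
    refine ⟨Matrix.GeneralLinearGroup.scalar (Fin n) c, ?_, Matrix.GeneralLinearGroup.coe_scalar c⟩
    rw [Matrix.GeneralLinearGroup.center_eq_range_scalar]
    exact ⟨c, rfl⟩
  · intro v hv
    refine ⟨⟨Matrix.diagonal (fun i => (v i : F)), Matrix.diagonal (fun i => ((v i)⁻¹ : Fˣ)),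
      ?_, ?_⟩, rfl⟩
    · rw [Matrix.diagonal_mul_diagonal, ← Matrix.diagonal_one]
      congr 1
      funext i
      exact Units.mul_inv (v i)
    · rw [Matrix.diagonal_mul_diagonal, ← Matrix.diagonal_one]
      congr 1
      funext i
      exact Units.inv_mul (v i)
  · intro hrn c _
    obtain ⟨A, hA, _⟩ := exists_mono_matrix (r := r) n hrn (c : F)
    have hdet : A.det ≠ 0 := by
      intro h0
      have h1 := congrArg Matrix.det hA
      rw [Matrix.det_pow, h0, zero_pow hr.ne_zero, Matrix.scalar_apply, Matrix.det_diagonal,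
        Finset.prod_const] at h1
      exact (pow_ne_zero _ c.ne_zero) h1.symm
    exact ⟨Matrix.GeneralLinearGroup.mkOfDetNeZero A hdet, hA⟩
  · intro c _ hc
    apply X_pow_sub_C_irreducible_of_prime hr
    intro b hb
    have hb0 : b ≠ 0 := by
      rintro rfl
      rw [zero_pow hr.ne_zero] at hb
      exact c.ne_zero hb.symm
    exact hc (Units.mk0 b hb0) (Subgroup.mem_top _) (Units.ext hb)

end Cfsg.Agent.S2670
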