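import Cfsg.Statements.S2672
import Cfsg.Agent.Lib.helper45.PGClasses
import Cfsg.Agent.Lib.helper17.GUdet
import Cfsg.Agent.S2587

set_option autoImplicit false
open Cfsg Cfsg.Agent.Lib.helper45

namespace Cfsg.Agent.S2672

/-- Number of conjugacy classes of elements of odd prime order r in PGU_n(q) = GU_n(q)/scalars (n ≥ 3) when r divides q + 1: as in the linear case with q − 1 replaced by q + 1, the classes correspond to the rotation orbits on r-tuples of eigenvalue multiplicities summing to n with every entry < n, plus r − 1 further classes when r divides n; in all (C(n+r−1, r−1) − r − [r ∣ n])/r + r·[r ∣ n]. -/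
theorem result {K : Type*} [Field K] [Fintype K] {q n r : ℕ} (hK : Fintype.card K = q ^ 2) (hn : 3 ≤ n) (hr : r.Prime) (hr2 : r ≠ 2) (hrq : r ∣ q + 1) : Nat.card {C : ConjClasses (↥(Cfsg.GU n K q) ⧸ Subgroup.center ↥(Cfsg.GU n K q)) // ∃ g : ↥(Cfsg.GU n K q) ⧸ Subgroup.center ↥(Cfsg.GU n K q), ConjClasses.mk g = C ∧ orderOf g = r} = (Nat.choose (n + r - 1) (r - 1) - r - (if r ∣ n then 1 else 0)) / r + r * (if r ∣ n then 1 else 0) := by
  classical
  have : Fact r.Prime := ⟨hr⟩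
  have : NeZero r := ⟨hr.ne_zero⟩
  have hq2 : 2 ≤ q := Cfsg.Agent.Lib.helper17.two_le_of_card_eq_sq hK
  obtain ⟨σ, hσ, hσne, hσ2⟩ := Cfsg.Agent.Lib.helper17.exists_frob' hK
  have hrK : (r : K) ≠ 0 := by
    intro h0
    obtain ⟨t, ht⟩ := hrq
    have h1 : ((q ^ 2 : ℕ) : K) = 0 := by
      rw [← hK]
      exact Nat.cast_card_eq_zero K
    have h2 : (q : K) = 0 := by
      rw [Nat.cast_pow] at h1
      exact pow_eq_zero_iff (two_ne_zero) |>.mp h1
    have h3 : ((q + 1 : ℕ) : K) = ((r * t : ℕ) : K) := by rw [ht]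
    rw [Nat.cast_add, Nat.cast_one, h2, zero_add, Nat.cast_mul, h0, zero_mul] at h3
    exact one_ne_zero h3
  have hcardU : Fintype.card Kˣ = q ^ 2 - 1 := by rw [Fintype.card_units, hK]
  have hfac : q ^ 2 - 1 = (q - 1) * (q + 1) := by
    obtain ⟨k, rfl⟩ : ∃ k, q = k + 1 := ⟨q - 1, by omega⟩
    have : (k + 1) ^ 2 = (k + 1 - 1) * (k + 1 + 1) + 1 := by
      rw [Nat.add_sub_cancel]
      ring
    omega
  obtain ⟨ζ, hζ⟩ := exists_prime_orderOf_dvd_card (G := Kˣ) r (by
    rw [hcardU, hfac]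
    exact hrq.mul_left _)
  have hcop : Nat.Coprime r (q - 1) := by
    rw [Nat.Prime.coprime_iff_not_dvd hr]
    intro h
    have h1 : r ∣ (q + 1) - (q - 1) := Nat.dvd_sub hrq h
    have h2 : (q + 1) - (q - 1) = 2 := by omega
    rw [h2] at h1
    have h3 := Nat.le_of_dvd (by norm_num) h1
    have h4 := hr.two_le
    exact hr2 (by omega)
  refine pg_classes_count (Subgroup.subtype (Cfsg.GU n K q))
    (Cfsg.Agent.Lib.helper17.rootsUnity K q) (Subgroup.subtype_injective _) (by omega) hr hrK ζ hζ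
    ?_ ?_ ?_ ?_ ?_ ?_ ?_
  · intro c hc
    rw [Cfsg.Agent.Lib.helper17.mem_rootsUnity_iff]
    obtain ⟨t, ht⟩ := hrq
    rw [ht, pow_mul, hc, one_pow]
  · intro z hz
    obtain ⟨l, rfl⟩ := Cfsg.Agent.Lib.helper17.center_GU_scalar hK n (by omega) z hz
    refine ⟨l.1, l.2, ?_⟩
    show Matrix.diagonal (fun _ => ((l : Kˣ) : K)) = _
    rw [Matrix.scalar_apply]
  · intro c hc
    refine ⟨Cfsg.Agent.Lib.helper17.scalarGU n q ⟨c, hc⟩,
      Cfsg.Agent.Lib.helper17.scalarGU_mem_center n q ⟨c, hc⟩, ?_⟩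
    show Matrix.diagonal (fun _ => (c : K)) = _
    rw [Matrix.scalar_apply]
  · intro g h hgh
    exact (Cfsg.Agent.S2587.result hK g h).mpr hgh
  · intro v hv
    have hv' : ∀ i, ((v i : Kˣ) : K) ^ (q + 1) = 1 := by
      intro i
      obtain ⟨t, ht⟩ := hrq
      rw [ht, pow_mul, ← Units.val_pow_eq_pow_val, hv i, Units.val_one, one_pow]
    exact ⟨Cfsg.Agent.Lib.helper17.diagGU n q (fun i => ((v i : Kˣ) : K)) hv', rfl⟩
  · intro hrn c hc
    obtain ⟨A, hA, hA2⟩ := exists_mono_matrix (r := r) n hrn (c : K)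
    have hc1 : σ (c : K) * (c : K) = 1 := by
      rw [hσ, ← pow_succ]
      have := (Cfsg.Agent.Lib.helper17.mem_rootsUnity_iff q c).mp hc
      rw [← Units.val_pow_eq_pow_val, this, Units.val_one]
    have h1 := hA2 σ hc1
    have h2 : A * (A.map σ).transpose = 1 := mul_eq_one_comm.mp h1
    let g : GL (Fin n) K := ⟨A, (A.map σ).transpose, h2, h1⟩
    have hg : g ∈ Cfsg.GU n K q :=
      (Cfsg.Agent.Lib.helper48.mem_GU_iff_cstar σ hσ g).mpr h1
    exact ⟨⟨g, hg⟩, hA⟩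
  · intro c hc hcb
    apply X_pow_sub_C_irreducible_of_prime hr
    intro b hb
    have hb0 : b ≠ 0 := by
      rintro rfl
      rw [zero_pow hr.ne_zero] at hb
      exact c.ne_zero hb.symm
    have hbu : (Units.mk0 b hb0) ^ r = c := Units.ext hb
    have h1 : (Units.mk0 b hb0) ^ (r * (q + 1)) = 1 := by
      rw [pow_mul, hbu]
      exact (Cfsg.Agent.Lib.helper17.mem_rootsUnity_iff q c).mp hc
    have h2 : orderOf (Units.mk0 b hb0) ∣ r * (q + 1) := orderOf_dvd_of_pow_eq_one h1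
    have h3 : orderOf (Units.mk0 b hb0) ∣ (q - 1) * (q + 1) := by
      rw [← hfac, ← hcardU]
      exact orderOf_dvd_card
    have h4 : orderOf (Units.mk0 b hb0) ∣ q + 1 := by
      have h5 := Nat.dvd_gcd h2 h3
      rw [Nat.gcd_mul_right, hcop.gcd_eq_one, one_mul] at h5
      exact h5
    have h6 : (Units.mk0 b hb0) ^ (q + 1) = 1 := orderOf_dvd_iff_pow_eq_one.mp h4
    exact hcb (Units.mk0 b hb0) ((Cfsg.Agent.Lib.helper17.mem_rootsUnity_iff q _).mpr h6) hbu

end Cfsg.Agent.S2672
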