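import Cfsg.Statements.S2677
import Cfsg.Agent.Lib.helper50.FieldAutGU

set_option autoImplicit false
open Cfsg

namespace Cfsg.Agent.S2677

/-- Centraliser of a field automorphism of odd prime order in PGU_n(q): let q = q₀^r with r an odd prime, K the field with q² elements and σ a field automorphism of K of order r (fixed field of order q₀²). The elements g of GU_n(q) whose entrywise image under σ is a scalar multiple of g — those whose coset modulo the q + 1 unitary scalars is fixed by σ — number (q + 1)/(q₀ + 1) · |GU_n(q₀)|; equivalently the centraliser in PGU_n(q) of the induced automorphism has the order of PGU_n(q₀). -/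
theorem result {K : Type*} [Field K] [Fintype K] {q₀ q r n : ℕ} (hr : r.Prime) (hr2 : r ≠ 2) (hn : 1 ≤ n) (hq : q = q₀ ^ r) (hK : Fintype.card K = q ^ 2) (σ : K ≃+* K) (hσ : orderOf σ = r) : (Nat.card {g : ↥(Cfsg.GU n K q) // ∃ c : K, c ≠ 0 ∧ ((g : GL (Fin n) K) : Matrix (Fin n) (Fin n) K).map σ = c • ((g : GL (Fin n) K) : Matrix (Fin n) (Fin n) K)} : ℤ) = ((q + 1) / (q₀ + 1) : ℕ) * ((q₀ : ℤ) ^ (n * (n - 1) / 2) * ∏ i : Fin n, ((q₀ : ℤ) ^ ((i : ℕ) + 1) - (-1) ^ ((i : ℕ) + 1))) := by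
  classical
  have hmul := Cfsg.Agent.Lib.helper50.card_GU_fixed_mul hr hr2 hn hq hK σ hσ
  have hq₀ : q₀ ≠ 0 := by
    rintro rfl
    rw [zero_pow hr.ne_zero] at hq
    rw [hq] at hK
    have h1 : 0 < Fintype.card K := Fintype.card_pos
    rw [hK] at h1
    simp at h1
  have hodd : Odd r := hr.odd_of_ne_two hr2
  obtain ⟨M, hM⟩ : q₀ + 1 ∣ q + 1 := by
    have h1 := Odd.nat_add_dvd_pow_add_pow q₀ 1 hodd
    rw [one_pow, ← hq] at h1
    exact h1
  rw [hM, Nat.mul_div_cancel_left _ (by omega : 0 < q₀ + 1)]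
  rw [hM, mul_assoc, mul_comm] at hmul
  have hcard := Nat.eq_of_mul_eq_mul_left (by omega : 0 < q₀ + 1) hmul
  rw [hcard]
  push_cast
  congr 2
  rw [Fin.prod_univ_eq_prod_range (fun i : ℕ => ((q₀ : ℤ) ^ (i + 1) - (-1) ^ (i + 1))) n]
  refine Finset.prod_congr rfl fun i _ => ?_
  have hpos : 1 ≤ q₀ ^ (i + 1) := Nat.one_le_pow _ _ (by omega)
  split_ifs with hi
  · rw [Odd.neg_one_pow (Even.add_one hi)]
    ring
  · rw [Even.neg_one_pow (by rw [Nat.even_add_one]; exact hi)]
    rw [Nat.cast_sub hpos]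
    push_cast
    rfl

end Cfsg.Agent.S2677
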