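import Cfsg.Statements.S2678
import Cfsg.Agent.Lib.helper50.FiniteFieldEmb

set_option autoImplicit false
open Cfsg

namespace Cfsg.Agent.S2678

open Matrix

section B
variable {F K : Type*} [Field F] [Field K] [Algebra F K] (b : Module.Basis (Fin 2) F K)

/-- Gram matrix of the trace form on the basis `b` -/
noncomputable def S2 : Matrix (Fin 2) (Fin 2) F := Matrix.of fun s t => Algebra.trace F K (b s * b t)

theorem rho_sum (c : K) (t : Fin 2) : ∑ u, (Algebra.leftMulMatrix b c) u t • b u = c * b t := by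
  simp only [Algebra.leftMulMatrix_apply, LinearMap.toMatrix_apply]
  exact b.sum_repr _

theorem S2_mul_rho (c : K) : S2 b * Algebra.leftMulMatrix b c = (Algebra.leftMulMatrix b c)ᵀ * S2 b := by
  ext s t
  have h1 : (S2 b * Algebra.leftMulMatrix b c) s t = Algebra.trace F K (b s * (c * b t)) := by
    rw [← rho_sum b c t, Finset.mul_sum, map_sum, Matrix.mul_apply]
    refine Finset.sum_congr rfl fun u _ => ?_
    rw [mul_smul_comm, map_smul, smul_eq_mul, mul_comm]
    rfl
  have h2 : ((Algebra.leftMulMatrix b c)ᵀ * S2 b) s t = Algebra.trace F K ((c * b s) * b t) := by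
    rw [← rho_sum b c s, Finset.sum_mul, map_sum, Matrix.mul_apply]
    refine Finset.sum_congr rfl fun u _ => ?_
    rw [smul_mul_assoc, map_smul, smul_eq_mul]
    rfl
  rw [h1, h2]
  congr 1
  ring

theorem S2_transpose : (S2 b)ᵀ = S2 b := by
  ext s t
  simp [S2, mul_comm]

theorem S2_det_ne_zero [Algebra.IsSeparable F K] : (S2 b).det ≠ 0 := by
  have h := det_traceForm_ne_zero (K := F) (L := K) b
  have : (Algebra.traceForm F K).toMatrix b = S2 b := by
    ext s t
    simp [S2, LinearMap.BilinForm.toMatrix_apply, Algebra.traceForm_apply]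
  rwa [this] at h

variable {l : Type*} [Fintype l] [DecidableEq l]

/-- block expansion of a matrix over `K` to a matrix over `F` -/
noncomputable def E0 : Matrix l l K →+* Matrix (l × Fin 2) (l × Fin 2) F :=
  (Matrix.compRingEquiv l (Fin 2) F).toRingHom.comp (Algebra.leftMulMatrix b).toRingHom.mapMatrix

theorem E0_apply (X : Matrix l l K) (x y : l × Fin 2) :
    E0 b X x y = Algebra.leftMulMatrix b (X x.1 y.1) x.2 y.2 := rfl

theorem E0_injective : Function.Injective (E0 b (l := l)) := by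
  intro X Y h
  ext i j
  apply Algebra.leftMulMatrix_injective b
  ext s t
  have := congrFun (congrFun h (i, s)) (j, t)
  simpa [E0_apply] using this

/-- the block-scalar matrix -/
def S0 (M : Matrix (Fin 2) (Fin 2) F) : Matrix (l × Fin 2) (l × Fin 2) F :=
  Matrix.of fun x y => if x.1 = y.1 then M x.2 y.2 else 0

theorem S0_mul (M N : Matrix (Fin 2) (Fin 2) F) : S0 (l := l) M * S0 N = S0 (M * N) := by
  ext ⟨x, s⟩ ⟨y, t⟩
  simp [S0, Matrix.mul_apply, Fintype.sum_prod_type]

theorem S0_one : S0 (l := l) (1 : Matrix (Fin 2) (Fin 2) F) = 1 := by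
  ext ⟨x, s⟩ ⟨y, t⟩
  simp [S0, Matrix.one_apply, Prod.ext_iff, ite_and]

theorem S0_transpose (M : Matrix (Fin 2) (Fin 2) F) : (S0 (l := l) M)ᵀ = S0 Mᵀ := by
  ext ⟨x, s⟩ ⟨y, t⟩
  simp [S0, eq_comm]

theorem S0_mul_E0_transpose (X : Matrix l l K) :
    S0 (S2 b) * E0 b Xᵀ = (E0 b X)ᵀ * S0 (S2 b) := by
  ext ⟨x, s⟩ ⟨y, t⟩
  have h := congrFun (congrFun (S2_mul_rho b (X y x)) s) t
  simp only [Matrix.mul_apply, Matrix.transpose_apply, Fin.sum_univ_two] at h
  simp [S0, Matrix.mul_apply, Fintype.sum_prod_type, E0_apply]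
  exact h

end B


section C
variable {F K : Type*} [Field F] [Field K] {l l' : Type*} [Fintype l] [DecidableEq l] [Fintype l']
  [DecidableEq l']

theorem exists_blocks {R : Type*} (M : Matrix (l ⊕ l) (l ⊕ l) R) :
    ∃ A B C D : Matrix l l R, M = fromBlocks A B C D :=
  ⟨_, _, _, _, (fromBlocks_toBlocks M).symm⟩

/-- blockwise application of a ring hom between matrix rings -/
def blk (E : Matrix l l K →+* Matrix l' l' F) :
    Matrix (l ⊕ l) (l ⊕ l) K →* Matrix (l' ⊕ l') (l' ⊕ l') F where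
  toFun M := fromBlocks (E M.toBlocks₁₁) (E M.toBlocks₁₂) (E M.toBlocks₂₁) (E M.toBlocks₂₂)
  map_one' := by
    have h : (1 : Matrix (l ⊕ l) (l ⊕ l) K) = fromBlocks 1 0 0 1 := fromBlocks_one.symm
    rw [h, toBlocks_fromBlocks₁₁, toBlocks_fromBlocks₁₂, toBlocks_fromBlocks₂₁,
      toBlocks_fromBlocks₂₂, map_one, map_zero, fromBlocks_one]
  map_mul' M N := by
    obtain ⟨A, B, C, D, rfl⟩ := exists_blocks M
    obtain ⟨A', B', C', D', rfl⟩ := exists_blocks N
    simp only [fromBlocks_multiply, toBlocks_fromBlocks₁₁, toBlocks_fromBlocks₁₂,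
      toBlocks_fromBlocks₂₁, toBlocks_fromBlocks₂₂, map_add, map_mul]

theorem blk_fromBlocks (E : Matrix l l K →+* Matrix l' l' F) (A B C D : Matrix l l K) :
    blk E (fromBlocks A B C D) = fromBlocks (E A) (E B) (E C) (E D) := by
  simp [blk]

theorem blk_J (E : Matrix l l K →+* Matrix l' l' F) : blk E (J l K) = J l' F := by
  simp [J, blk_fromBlocks]

theorem blk_transpose (E : Matrix l l K →+* Matrix l' l' F) (S S' : Matrix l' l' F)
    (hE : ∀ X, E Xᵀ = S' * (E X)ᵀ * S) (M : Matrix (l ⊕ l) (l ⊕ l) K) :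
    blk E Mᵀ = fromBlocks S' 0 0 S' * (blk E M)ᵀ * fromBlocks S 0 0 S := by
  obtain ⟨A, B, C, D, rfl⟩ := exists_blocks M
  simp [blk_fromBlocks, fromBlocks_transpose, fromBlocks_multiply, hE]

theorem blk_injective (E : Matrix l l K →+* Matrix l' l' F) (hE : Function.Injective E) :
    Function.Injective (blk E) := by
  intro M N h
  obtain ⟨A, B, C, D, rfl⟩ := exists_blocks M
  obtain ⟨A', B', C', D', rfl⟩ := exists_blocks N
  rw [blk_fromBlocks, blk_fromBlocks, fromBlocks_inj] at h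
  rw [fromBlocks_inj]
  exact ⟨hE h.1, hE h.2.1, hE h.2.2.1, hE h.2.2.2⟩

theorem symp_conj (E : Matrix l l K →+* Matrix l' l' F) (S S' : Matrix l' l' F) (h1 : S * S' = 1)
    (h2 : S' * S = 1) (hS : Sᵀ = S) (hS' : S'ᵀ = S') (hE : ∀ X, E Xᵀ = S' * (E X)ᵀ * S)
    (M : Matrix (l ⊕ l) (l ⊕ l) K) (hM : M ∈ symplecticGroup l K) :
    fromBlocks 1 0 0 S * blk E M * fromBlocks 1 0 0 S' ∈ symplecticGroup l' F := by
  rw [SymplecticGroup.mem_iff] at hM ⊢
  set A := blk E M with hA
  have h_i : A * J l' F * blk E Mᵀ = J l' F := by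
    rw [← blk_J E, hA, ← map_mul, ← map_mul, hM]
  rw [blk_transpose E S S' hE M, ← hA] at h_i
  have hSt : fromBlocks S 0 0 S * fromBlocks S' 0 0 S' = (1 : Matrix (l' ⊕ l') (l' ⊕ l') F) := by
    simp [fromBlocks_multiply, h1, fromBlocks_one]
  have h_iii : A * (J l' F * fromBlocks S' 0 0 S') * Aᵀ = J l' F * fromBlocks S' 0 0 S' := by
    calc A * (J l' F * fromBlocks S' 0 0 S') * Aᵀ
        = A * J l' F * (fromBlocks S' 0 0 S' * Aᵀ * fromBlocks S 0 0 S) * fromBlocks S' 0 0 S' := by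
          simp only [Matrix.mul_assoc, hSt, Matrix.mul_one]
      _ = J l' F * fromBlocks S' 0 0 S' := by rw [h_i]
  have h_iv1 : fromBlocks 1 0 0 S' * J l' F * (fromBlocks 1 0 0 S')ᵀ
      = J l' F * fromBlocks S' 0 0 S' := by
    simp [J, fromBlocks_multiply, fromBlocks_transpose, hS']
  have h_iv2 : fromBlocks 1 0 0 S * (J l' F * fromBlocks S' 0 0 S') * (fromBlocks 1 0 0 S)ᵀ
      = J l' F := by
    simp [J, fromBlocks_multiply, fromBlocks_transpose, hS, h1, h2]
  calc fromBlocks 1 0 0 S * A * fromBlocks 1 0 0 S' * J l' F *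
        (fromBlocks 1 0 0 S * A * fromBlocks 1 0 0 S')ᵀ
      = fromBlocks 1 0 0 S * (A * (fromBlocks 1 0 0 S' * J l' F * (fromBlocks 1 0 0 S')ᵀ) * Aᵀ) *
          (fromBlocks 1 0 0 S)ᵀ := by
        simp only [Matrix.transpose_mul, Matrix.mul_assoc]
    _ = J l' F := by rw [h_iv1, h_iii, h_iv2]

/-- conjugation by an invertible matrix as a monoid hom -/
def conjHom {n R : Type*} [Fintype n] [DecidableEq n] [CommRing R] (P P' : Matrix n n R)
    (h : P * P' = 1) (h' : P' * P = 1) : Matrix n n R →* Matrix n n R where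
  toFun M := P * M * P'
  map_one' := by rw [Matrix.mul_one, h]
  map_mul' M N := by
    have e : P * M * P' * (P * N * P') = P * M * (P' * P) * (N * P') := by
      simp only [Matrix.mul_assoc]
    rw [e, h', Matrix.mul_one]
    simp only [Matrix.mul_assoc]

theorem conjHom_injective {n R : Type*} [Fintype n] [DecidableEq n] [CommRing R] (P P' : Matrix n n R)
    (h : P * P' = 1) (h' : P' * P = 1) : Function.Injective (conjHom P P' h h') := by
  intro M N hMN
  have h6 : P' * (P * M * P') * P = P' * (P * N * P') * P := congrArg (fun Z => P' * Z * P) hMN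
  have e : ∀ Z : Matrix n n R, P' * (P * Z * P') * P = (P' * P) * Z * (P' * P) := by
    intro Z; simp only [Matrix.mul_assoc]
  rw [e, e, h', Matrix.one_mul, Matrix.mul_one, Matrix.one_mul, Matrix.mul_one] at h6
  exact h6

theorem exists_emb (E : Matrix l l K →+* Matrix l' l' F) (hEinj : Function.Injective E)
    (S S' : Matrix l' l' F) (h1 : S * S' = 1)
    (h2 : S' * S = 1) (hS : Sᵀ = S) (hS' : S'ᵀ = S') (hE : ∀ X, E Xᵀ = S' * (E X)ᵀ * S) :
    ∃ φ : ↥(symplecticGroup l K) →* ↥(symplecticGroup l' F), Function.Injective φ := by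
  have hP : fromBlocks 1 0 0 S * fromBlocks 1 0 0 S' = (1 : Matrix (l' ⊕ l') (l' ⊕ l') F) := by
    simp [fromBlocks_multiply, h1, fromBlocks_one]
  have hP' : fromBlocks 1 0 0 S' * fromBlocks 1 0 0 S = (1 : Matrix (l' ⊕ l') (l' ⊕ l') F) := by
    simp [fromBlocks_multiply, h2, fromBlocks_one]
  let Φ : Matrix (l ⊕ l) (l ⊕ l) K →* Matrix (l' ⊕ l') (l' ⊕ l') F :=
    (conjHom _ _ hP hP').comp (blk E)
  have hΦinj : Function.Injective Φ :=
    (conjHom_injective _ _ hP hP').comp (blk_injective E hEinj)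
  refine ⟨(Φ.comp (symplecticGroup l K).subtype).codRestrict (symplecticGroup l' F)
    (fun M => symp_conj E S S' h1 h2 hS hS' hE M.1 M.2), ?_⟩
  intro M N hMN
  apply Subtype.ext
  apply hΦinj
  exact congrArg Subtype.val hMN

end C

section A
variable {F : Type*} [Field F] {l₁ l₂ : Type*} [Fintype l₁] [DecidableEq l₁] [Fintype l₂]
  [DecidableEq l₂]

theorem exists_reindex (e : l₁ ≃ l₂) :
    ∃ φ : ↥(symplecticGroup l₁ F) →* ↥(symplecticGroup l₂ F), Function.Injective φ := by
  let r : Matrix (l₁ ⊕ l₁) (l₁ ⊕ l₁) F →* Matrix (l₂ ⊕ l₂) (l₂ ⊕ l₂) F :=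
    (reindexAlgEquiv F F (e.sumCongr e)).toRingEquiv.toMonoidHom
  have hr : ∀ M, r M = reindex (e.sumCongr e) (e.sumCongr e) M := fun M => rfl
  have hJ : r (J l₁ F) = J l₂ F := by
    rw [hr]
    ext (x | x) (y | y) <;> simp [J, Matrix.one_apply]
  have hmem : ∀ M ∈ symplecticGroup l₁ F, r M ∈ symplecticGroup l₂ F := by
    intro M hM
    rw [SymplecticGroup.mem_iff] at hM ⊢
    have ht : (r M)ᵀ = r Mᵀ := by rw [hr, hr]; rfl
    rw [ht, ← hJ, ← map_mul, ← map_mul, hM]
  have hrinj : Function.Injective r := (reindexAlgEquiv F F (e.sumCongr e)).injective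
  refine ⟨(r.comp (symplecticGroup l₁ F).subtype).codRestrict (symplecticGroup l₂ F)
    (fun M => hmem M.1 M.2), ?_⟩
  intro M N hMN
  apply Subtype.ext
  apply hrinj
  exact congrArg Subtype.val hMN

end A

theorem main {K F : Type*} [Field K] [Fintype K] [Field F] [Fintype F]
    (hK : Fintype.card K = Fintype.card F ^ 2) (a : ℕ) :
    ∃ φ : ↥(Matrix.symplecticGroup (Fin a) K) →* ↥(Matrix.symplecticGroup (Fin (2 * a)) F),
      Function.Injective φ := by
  classical
  obtain ⟨i⟩ := Cfsg.Agent.Lib.helper50.exists_ringHom_of_card_pow (d := 2) two_ne_zero hK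
  let _ := i.toAlgebra
  have hfr : Module.finrank F K = 2 := Cfsg.Agent.Lib.helper50.finrank_of_card_pow hK i
  let b : Module.Basis (Fin 2) F K := Module.finBasisOfFinrankEq F K hfr
  have hdet : IsUnit (S2 b).det := isUnit_iff_ne_zero.2 (S2_det_ne_zero b)
  have hinvT : ((S2 b)⁻¹)ᵀ = (S2 b)⁻¹ := by
    rw [Matrix.transpose_nonsing_inv, S2_transpose]
  obtain ⟨φ₁, hφ₁⟩ := exists_emb (l := Fin a) (E0 b) (E0_injective b) (S0 (S2 b)) (S0 (S2 b)⁻¹)
    (by rw [S0_mul, Matrix.mul_nonsing_inv _ hdet, S0_one])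
    (by rw [S0_mul, Matrix.nonsing_inv_mul _ hdet, S0_one])
    (by rw [S0_transpose, S2_transpose])
    (by rw [S0_transpose, hinvT])
    (by
      intro X
      have h := S0_mul_E0_transpose b X
      calc E0 b Xᵀ = S0 (S2 b)⁻¹ * S0 (S2 b) * E0 b Xᵀ := by
            rw [S0_mul, Matrix.nonsing_inv_mul _ hdet, S0_one, Matrix.one_mul]
        _ = S0 (S2 b)⁻¹ * (E0 b X)ᵀ * S0 (S2 b) := by
            rw [Matrix.mul_assoc, h, Matrix.mul_assoc])
  obtain ⟨φ₂, hφ₂⟩ := exists_reindex (F := F)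
    ((finProdFinEquiv (m := a) (n := 2)).trans (finCongr (Nat.mul_comm a 2)))
  exact ⟨φ₂.comp φ₁, hφ₂.comp hφ₁⟩


/-- Field-extension embedding of symplectic groups: for a field K with q² elements and a field F with q elements there is an injective homomorphism Sp_2a(K) → Sp_4a(F). -/
theorem result {K F : Type*} [Field K] [Fintype K] [Field F] [Fintype F] {q : ℕ} (hK : Fintype.card K = q ^ 2) (hF : Fintype.card F = q) (a : ℕ) : ∃ φ : ↥(Matrix.symplecticGroup (Fin a) K) →* ↥(Matrix.symplecticGroup (Fin (2 * a)) F), Function.Injective φ := by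
  exact main (by rw [hK, hF]) a

end Cfsg.Agent.S2678
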