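import Cfsg.Statements.S2679
import Cfsg.Agent.Lib.helper50.FiniteFieldEmb

set_option autoImplicit false
open Cfsg

namespace Cfsg.Agent.S2679

open Matrix


section
variable {R : Type*} [CommRing R] {J : Type*} [Fintype J] [DecidableEq J]

/-- the quadratic form of a square matrix -/
def qf (A : Matrix J J R) (v : J → R) : R := v ⬝ᵥ (A *ᵥ v)

theorem qf_mulVec (A g : Matrix J J R) (v : J → R) : qf A (g *ᵥ v) = qf (gᵀ * A * g) v := by
  unfold qf
  rw [← Matrix.mulVec_mulVec, ← Matrix.mulVec_mulVec, Matrix.dotProduct_mulVec v gᵀ,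
    Matrix.vecMul_transpose]

theorem qf_sub (A B : Matrix J J R) (v : J → R) : qf (A - B) v = qf A v - qf B v := by
  unfold qf
  rw [Matrix.sub_mulVec, dotProduct_sub]

/-- alternating matrices -/
def IsAlt (S : Matrix J J R) : Prop := (∀ i, S i i = 0) ∧ ∀ i j, S i j + S j i = 0

theorem qf_eq_zero_of_isAlt (S : Matrix J J R) (h : IsAlt S) (v : J → R) : qf S v = 0 := by
  unfold qf
  simp only [dotProduct, mulVec, Finset.mul_sum]
  rw [← Finset.sum_product']
  apply Finset.sum_involution (fun p _ => (p.2, p.1))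
  · rintro ⟨i, j⟩ _
    have := h.2 i j
    simp only
    linear_combination (v i * v j) * this
  · rintro ⟨i, j⟩ _ hne hEq
    simp only [Prod.mk.injEq] at hEq
    obtain ⟨rfl, -⟩ := hEq
    apply hne
    simp [h.1 j]
  · intro p _; simp
  · intro p _; rfl

theorem isAlt_of_qf_eq_zero (S : Matrix J J R) (h : ∀ v, qf S v = 0) : IsAlt S := by
  have hdiag : ∀ i, S i i = 0 := by
    intro i
    have := h (Pi.single i 1)
    simpa [qf] using this
  refine ⟨hdiag, fun i j => ?_⟩
  have := h (Pi.single i 1 + Pi.single j 1)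
  simp only [qf, Matrix.mulVec_add, add_dotProduct, dotProduct_add, single_one_dotProduct,
    Matrix.mulVec_single_one, Matrix.col_apply, hdiag] at this
  rw [add_comm]; simpa using this

theorem isAlt_map {R' : Type*} [CommRing R'] (i : R →+* R') (S : Matrix J J R) (h : IsAlt S) :
    IsAlt (S.map i) := by
  refine ⟨fun j => by simp [h.1 j], fun j k => ?_⟩
  simp only [Matrix.map_apply]
  rw [← map_add, h.2, map_zero]

end

/-- Gram-type matrix of the minus form -/
def Am (k : ℕ) {R : Type*} [CommRing R] (a c : R) :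
    Matrix ((Fin k ⊕ Fin k) ⊕ Fin 2) ((Fin k ⊕ Fin k) ⊕ Fin 2) R :=
  fromBlocks (fromBlocks 0 1 0 0) 0 0 !![1, a; 0, c]

theorem quadFormMinus_eq (k : ℕ) {F : Type*} [Field F] (a c : F) (v : (Fin k ⊕ Fin k) ⊕ Fin 2 → F) :
    Cfsg.quadFormMinus k F a c v = qf (Am k a c) v := by
  unfold Cfsg.quadFormMinus qf Am
  simp [dotProduct, mulVec, Fintype.sum_sum_type, Fin.sum_univ_two, Matrix.one_apply]
  ring

theorem Am_map (k : ℕ) {R R' : Type*} [CommRing R] [CommRing R'] (i : R →+* R') (a c : R) :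
    (Am k a c).map i = Am k (i a) (i c) := by
  unfold Am
  rw [Matrix.fromBlocks_map, Matrix.fromBlocks_map]
  congr 1
  · congr 1 <;> simp
  · simp
  · simp
  · ext x y; fin_cases x <;> fin_cases y <;> simp




section T
variable {K : Type*} [Field K] (k : ℕ) (α β : K)

/-- change of coordinates from the (split) minus form to the plus form -/
def Tfun (v : (Fin k ⊕ Fin k) ⊕ Fin 2 → K) : Fin (k + 1) ⊕ Fin (k + 1) → K :=
  Sum.elim
    (Fin.snoc (α := fun _ => K) (fun j => v (.inl (.inl j))) (v (.inr 0) - α * v (.inr 1)))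
    (Fin.snoc (α := fun _ => K) (fun j => v (.inl (.inr j))) (v (.inr 0) - β * v (.inr 1)))

/-- inverse change of coordinates -/
def Tinv (w : Fin (k + 1) ⊕ Fin (k + 1) → K) : (Fin k ⊕ Fin k) ⊕ Fin 2 → K :=
  Sum.elim (Sum.elim (fun j => w (.inl j.castSucc)) (fun j => w (.inr j.castSucc)))
    ![w (.inl (Fin.last k)) + α * ((w (.inl (Fin.last k)) - w (.inr (Fin.last k))) / (β - α)),
      (w (.inl (Fin.last k)) - w (.inr (Fin.last k))) / (β - α)]

/-- the change of coordinates as a linear equivalence -/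
def Tequiv (hαβ : α ≠ β) :
    ((Fin k ⊕ Fin k) ⊕ Fin 2 → K) ≃ₗ[K] (Fin (k + 1) ⊕ Fin (k + 1) → K) where
  toFun := Tfun k α β
  invFun := Tinv k α β
  map_add' := by
    intro v w
    ext (j | j)
    · refine Fin.lastCases ?_ (fun j' => ?_) j
      · simp [Tfun]; ring
      · simp [Tfun]
    · refine Fin.lastCases ?_ (fun j' => ?_) j
      · simp [Tfun]; ring
      · simp [Tfun]
  map_smul' := by
    intro r v
    ext (j | j)
    · refine Fin.lastCases ?_ (fun j' => ?_) j
      · simp [Tfun]; ring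
      · simp [Tfun]
    · refine Fin.lastCases ?_ (fun j' => ?_) j
      · simp [Tfun]; ring
      · simp [Tfun]
  left_inv := by
    intro v
    have hne : β - α ≠ 0 := sub_ne_zero.2 (Ne.symm hαβ)
    ext ((j | j) | j)
    · simp [Tfun, Tinv]
    · simp [Tfun, Tinv]
    · fin_cases j
      · simp [Tfun, Tinv]; field_simp; try ring
      · simp [Tfun, Tinv]; field_simp; try ring
  right_inv := by
    intro w
    have hne : β - α ≠ 0 := sub_ne_zero.2 (Ne.symm hαβ)
    ext (j | j)
    · refine Fin.lastCases ?_ (fun j' => ?_) j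
      · simp [Tfun, Tinv]
      · simp [Tfun, Tinv]
    · refine Fin.lastCases ?_ (fun j' => ?_) j
      · simp [Tfun, Tinv]; field_simp; try ring
      · simp [Tfun, Tinv]

theorem quadFormPlus_Tfun (v : (Fin k ⊕ Fin k) ⊕ Fin 2 → K) :
    Cfsg.quadFormPlus (k + 1) K (Tfun k α β v) = Cfsg.quadFormMinus k K (-(α + β)) (α * β) v := by
  unfold Cfsg.quadFormPlus Cfsg.quadFormMinus
  rw [Fin.sum_univ_castSucc]
  simp [Tfun]
  ring

end T


theorem mem_iso {ι : Type} [Fintype ι] [DecidableEq ι] {F : Type*} [Field F] (Q : (ι → F) → F)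
    (g : GL ι F) : g ∈ Cfsg.isometryGroup F Q ↔ ∀ u, Q ((g : Matrix ι ι F) *ᵥ u) = Q u :=
  ⟨fun h u => h u u, fun h u _ => h u⟩

theorem base_change (k : ℕ) {F K : Type*} [Field F] [Field K] (i : F →+* K) (a c : F)
    (g : Matrix ((Fin k ⊕ Fin k) ⊕ Fin 2) ((Fin k ⊕ Fin k) ⊕ Fin 2) F)
    (hg : ∀ u, Cfsg.quadFormMinus k F a c (g *ᵥ u) = Cfsg.quadFormMinus k F a c u) :
    ∀ u, Cfsg.quadFormMinus k K (i a) (i c) (g.map i *ᵥ u) = Cfsg.quadFormMinus k K (i a) (i c) u := by
  have h1 : IsAlt (gᵀ * Am k a c * g - Am k a c) := by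
    apply isAlt_of_qf_eq_zero
    intro v
    rw [qf_sub, ← qf_mulVec, ← quadFormMinus_eq, ← quadFormMinus_eq, hg, sub_self]
  have h2 := isAlt_map i _ h1
  have h3 : (gᵀ * Am k a c * g - Am k a c).map i
      = (g.map i)ᵀ * Am k (i a) (i c) * g.map i - Am k (i a) (i c) := by
    rw [Matrix.map_sub (hf := fun x y => map_sub i x y), Matrix.map_mul, Matrix.map_mul,
      Matrix.transpose_map, Am_map]
  intro u
  have h4 := qf_eq_zero_of_isAlt _ h2 u
  rw [h3, qf_sub, ← qf_mulVec, ← quadFormMinus_eq, ← quadFormMinus_eq] at h4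
  exact sub_eq_zero.1 h4

theorem toMatrix'_mulVec' {K : Type*} [Field K] {m n : Type*} [Fintype m] [Fintype n] [DecidableEq n]
    [DecidableEq m] (f : (n → K) →ₗ[K] (m → K)) (v : n → K) :
    (LinearMap.toMatrix' f) *ᵥ v = f v := by
  rw [← Matrix.toLin'_apply, Matrix.toLin'_toMatrix']

theorem main (k : ℕ) {F K : Type*} [Field F] [Fintype F] [Field K] [Fintype K]
    (hK : Fintype.card K = Fintype.card F ^ 2) (a c : F)
    (hac : ∀ z₁ z₂ : F, z₁ ^ 2 + a * z₁ * z₂ + c * z₂ ^ 2 = 0 → z₁ = 0 ∧ z₂ = 0) :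
    ∃ φ : ↥(Cfsg.isometryGroup F (Cfsg.quadFormMinus k F a c)) →*
        ↥(Cfsg.isometryGroup K (Cfsg.quadFormPlus (k + 1) K)), Function.Injective φ := by
  classical
  obtain ⟨i⟩ := Cfsg.Agent.Lib.helper50.exists_ringHom_of_card_pow (d := 2) two_ne_zero hK
  obtain ⟨α, β, hαβ, hsum, hprod⟩ := Cfsg.Agent.Lib.helper50.exists_roots_of_anisotropic hK i a c hac
  let T := Tequiv k α β hαβ
  let MT := LinearMap.toMatrix' T.toLinearMap
  let MT' := LinearMap.toMatrix' T.symm.toLinearMap
  have h1 : MT * MT' = 1 := by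
    simp only [MT, MT']
    rw [← LinearMap.toMatrix'_comp, LinearEquiv.comp_coe, LinearEquiv.symm_trans_self,
      LinearEquiv.refl_toLinearMap, LinearMap.toMatrix'_id]
  have h2 : MT' * MT = 1 := by
    simp only [MT, MT']
    rw [← LinearMap.toMatrix'_comp, LinearEquiv.comp_coe, LinearEquiv.self_trans_symm,
      LinearEquiv.refl_toLinearMap, LinearMap.toMatrix'_id]
  let Φ : Matrix ((Fin k ⊕ Fin k) ⊕ Fin 2) ((Fin k ⊕ Fin k) ⊕ Fin 2) F →*
      Matrix (Fin (k + 1) ⊕ Fin (k + 1)) (Fin (k + 1) ⊕ Fin (k + 1)) K :=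
    { toFun := fun M => MT * M.map i * MT'
      map_one' := by
        rw [Matrix.map_one _ (map_zero i) (map_one i), Matrix.mul_one, h1]
      map_mul' := fun M N => by
        rw [Matrix.map_mul]
        have e : MT * M.map i * MT' * (MT * N.map i * MT')
            = MT * M.map i * (MT' * MT) * (N.map i * MT') := by
          simp only [Matrix.mul_assoc]
        rw [e, h2, Matrix.mul_one]
        simp only [Matrix.mul_assoc] }
  have hΦ : ∀ M, Φ M = MT * M.map i * MT' := fun M => rfl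
  have hΦinj : Function.Injective Φ := by
    intro M N hMN
    rw [hΦ, hΦ] at hMN
    have h5 : M.map i = N.map i := by
      have h6 := congrArg (fun Z => MT' * Z * MT) hMN
      simp only [← Matrix.mul_assoc, h2, Matrix.one_mul] at h6
      simpa only [Matrix.mul_assoc, h2, Matrix.mul_one] using h6
    exact Matrix.map_injective i.injective h5
  have hΨ : ∀ g ∈ Cfsg.isometryGroup F (Cfsg.quadFormMinus k F a c),
      Units.map Φ g ∈ Cfsg.isometryGroup K (Cfsg.quadFormPlus (k + 1) K) := by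
    intro g hg
    rw [mem_iso] at hg ⊢
    intro w
    have hb := base_change k i a c g.1 hg
    rw [Units.coe_map]
    show Cfsg.quadFormPlus (k + 1) K ((MT * (g.1).map i * MT') *ᵥ w) = _
    have hw : w = T (T.symm w) := (T.apply_symm_apply w).symm
    have e1 : (MT * (g.1).map i * MT') *ᵥ w = T ((g.1).map i *ᵥ (T.symm w)) := by
      rw [← Matrix.mulVec_mulVec, ← Matrix.mulVec_mulVec]
      simp only [MT, MT']
      rw [toMatrix'_mulVec', toMatrix'_mulVec']
      rfl
    have hT : ∀ v, Cfsg.quadFormPlus (k + 1) K (T v) = Cfsg.quadFormMinus k K (i a) (i c) v := by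
      intro v
      have := quadFormPlus_Tfun k α β v
      rw [hsum, neg_neg, hprod] at this
      exact this
    rw [e1, hT, hb, ← hT, ← hw]
  refine ⟨((Units.map Φ).comp (Subgroup.subtype _)).codRestrict _ (fun g => hΨ g.1 g.2), ?_⟩
  intro g g' hgg'
  have h7 : Units.map Φ g.1 = Units.map Φ g'.1 := congrArg Subtype.val hgg'
  have h8 : g.1.1 = g'.1.1 := by
    apply hΦinj
    have := congrArg Units.val h7
    simpa only [Units.coe_map] using this
  exact Subtype.ext (Units.ext h8)

/-- An elliptic orthogonal group embeds in the hyperbolic orthogonal group of the same dimension over the quadratic extension: for a field F with q elements and a field K with q² elements there is an injective homomorphism from O⁻_2m(F) (isometries of Σ_(j<m−1) x_j y_j + z₁² + a z₁z₂ + c z₂², binary part anisotropic) to O⁺_2m(K) (isometries of Σ_(j<m) x_j y_j over K). -/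
theorem result {F K : Type*} [Field F] [Fintype F] [Field K] [Fintype K] {q : ℕ} (hF : Fintype.card F = q) (hK : Fintype.card K = q ^ 2) {m : ℕ} (hm : 1 ≤ m) (a c : F) (hac : ∀ z₁ z₂ : F, z₁ ^ 2 + a * z₁ * z₂ + c * z₂ ^ 2 = 0 → z₁ = 0 ∧ z₂ = 0) : ∃ φ : ↥(Cfsg.isometryGroup F (Cfsg.quadFormMinus (m - 1) F a c)) →* ↥(Cfsg.isometryGroup K (Cfsg.quadFormPlus m K)), Function.Injective φ := by
  obtain ⟨k, rfl⟩ : ∃ k, m = k + 1 := ⟨m - 1, by omega⟩
  exact main k (by rw [hK, hF]) a c hac

end Cfsg.Agent.S2679
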