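import Cfsg.Statements.S2682
import Cfsg.Agent.Lib.helper50.InvCent2

set_option autoImplicit false
open Cfsg

namespace Cfsg.Agent.S2682

open Matrix Cfsg Cfsg.Agent.Lib.helper50 Cfsg.Agent.Lib.helper17

/-- Centraliser order of an involution t of Sp_2m(q), q even, with s = rank(t − 1) even and f(v, tv) ≠ 0 for some v, f the symplectic form (type c_s): |C(t)| = q^(2ms − (3s² − 3s)/2 − 1) · |Sp_(s−2)(q)| · |Sp_(2m−2s)(q)|. -/
theorem result {F : Type*} [Field F] [Fintype F] [CharP F 2] {q : ℕ} (hF : Fintype.card F = q) {m s : ℕ} (t : Matrix.symplecticGroup (Fin m) F) (ht : t ^ 2 = 1) (hs : ((t : Matrix (Fin m ⊕ Fin m) (Fin m ⊕ Fin m) F) - 1).rank = s) (heven : Even s) (hna : ∃ v : Fin m ⊕ Fin m → F, Cfsg.sympForm m F v ((t : Matrix (Fin m ⊕ Fin m) (Fin m ⊕ Fin m) F).mulVec v) ≠ 0) : Nat.card ↥(Subgroup.centralizer ({t} : Set ↥(Matrix.symplecticGroup (Fin m) F))) = q ^ (2 * m * s - (3 * s ^ 2 -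 3 * s) / 2 - 1) * ((q : ℕ) ^ (((s - 2) / 2) ^ 2) * ∏ i : Fin ((s - 2) / 2), (q ^ (2 * ((i : ℕ) + 1)) - 1)) * ((q : ℕ) ^ ((m - s) ^ 2) * ∏ i : Fin (m - s), (q ^ (2 * ((i : ℕ) + 1)) - 1)) := by
  classical
  subst hF
  obtain ⟨k', hk'⟩ := heven
  have hsm : s ≤ m := by rw [← hs]; exact rank_le t ht
  have hk0 : k' ≠ 0 := by
    rintro rfl
    let e₀ : Fin 0 ⊕ Fin 0 ≃ Fin s := Fintype.equivFinOfCardEq (by simp [hk'])
    obtain ⟨D₀, hD₀⟩ := exists_invData t ht hs e₀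
    obtain ⟨v, hv⟩ := hna
    obtain ⟨c, hc⟩ := D₀.quad_val t.1 (by rw [hD₀, sub_add_cancel]) v
    apply hv
    rw [hc]
    have : c = 0 := Subsingleton.elim _ _
    rw [this]
    simp
  obtain ⟨k, rfl⟩ : ∃ k, k' = k + 1 := ⟨k' - 1, by omega⟩
  obtain ⟨d, rfl⟩ : ∃ d, m = s + d := ⟨m - s, by omega⟩
  let e : Fin (k + 1) ⊕ Fin (k + 1) ≃ Fin s := Fintype.equivFinOfCardEq (by simp [hk'])
  obtain ⟨D, hD⟩ := exists_invData t ht hs e
  have hcard := D.card_centralizer t hD e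
  have hfs := card_frameStab s d (fun i : Fin s => D.x (e.symm i))
    (D.hli.comp _ e.symm.injective) (fun i j => D.symp_xx _ _)
  have hog := card_OG_nonalt k D.Γ D.Γ_symm D.Γ_det (by
    obtain ⟨v, hv⟩ := hna
    obtain ⟨c, hc⟩ := D.quad_val t.1 (by rw [hD, sub_add_cancel]) v
    exact ⟨c, by rw [← hc]; exact hv⟩)
  rw [hcard, hog, hfs, Fin.prod_univ_eq_prod_range (fun i => Fintype.card F ^ (2 * (i + 1)) - 1),
    Fin.prod_univ_eq_prod_range (fun i => Fintype.card F ^ (2 * (i + 1)) - 1)]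
  rw [show (s - 2) / 2 = k by omega, show s + d - s = d by omega, exp_c s d (by omega),
    show s - 1 = 2 * k + 1 by omega, pow_add]
  unfold spOrd
  ring

end Cfsg.Agent.S2682
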