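import Cfsg.Statements.S2684
import Cfsg.Agent.Lib.helper50.OrthPlusArith
import Cfsg.Agent.Lib.helper50.OrthPlusCentO

set_option autoImplicit false
open Cfsg

namespace Cfsg.Agent.S2684

/-- For the hyperbolic form Q = Σ x_j y_j on F^(2m) over a finite field with q elements, q even (excluding m = 2 over the field of two elements), and an involution x ≠ 1 of the orthogonal group with s = rank(x − 1) even and Q vanishing on the image of x − 1 (equivalently f(v, xv) = 0 for all v, where f(u, w) = Q(u + w) − Q(u) − Q(w) is the bilinear form of Q; type a_s, which lies in Ω): its centraliser in Ω (the commutator subgroup of the orthogonal group) has order q^(2ms − (3s² + s)/2) · |Sp_s(q)| · |Ω⁺_(2m−2s)(q)|, where |Ω⁺_2k(q)| = q^(k(k−1)) (q^k − 1) Π_(i=1)^(k−1) (q^(2i) − 1) for k ≥ 1 and the last factor is 1 when s = m. -/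
theorem result {F : Type*} [Field F] [Fintype F] [CharP F 2] {q : ℕ} (hF : Fintype.card F = q) {m s : ℕ} (h : Fintype.card F ≠ 2 ∨ m ≠ 2) (x : ↥(Cfsg.isometryGroup F (Cfsg.quadFormPlus m F))) (hx : x ^ 2 = 1) (hx1 : x ≠ 1) (hs : (((x : Matrix.GeneralLinearGroup (Fin m ⊕ Fin m) F) : Matrix (Fin m ⊕ Fin m) (Fin m ⊕ Fin m) F) - 1).rank = s) (heven : Even s) (halt : ∀ v : Fin m ⊕ Fin m → F, Cfsg.quadFormPlus m F ((((x : Matrix.GeneralLinearGroup (Fin m ⊕ Fin m) F) : Matrix (Fin m ⊕ Fin m) (Fin m ⊕ Fin m) F) - 1).mulVec v) = 0) : Nat.card {g : ↥(Cfsg.Omega F (Cfsg.quadFormPlus m F)) // (g : ↥(Cfsg.isometryGroup F (Cfsg.quadFormPlus m F))) * x = x * (g : ↥(Cfsg.isometryGroup F (Cfsg.quadFormPlus m F)))} = q ^ (2 * m * s - (3 * s ^ 2 + s) / 2) * ((q : ℕ) ^ ((s / 2) ^ 2) * ∏ i : Fin (s / 2), (q ^ (2 * ((i : ℕ) + 1)) - 1)) * (if s = m then 1 else q ^ ((m - s) * (m - s - 1)) * (q ^ (m - s) - 1) * ∏ i : Fin (m - s - 1), (q ^ (2 * ((i : ℕ) + 1)) - 1))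 := by
  classical
  subst hF
  have hq : 1 ≤ Fintype.card F := Fintype.card_pos
  have halt' : ∀ v, Cfsg.sympForm m F v (x.1.1.mulVec v) = 0 := fun v => by
    rw [Cfsg.Agent.Lib.helper50.orth_val_eq]; exact halt v
  have hs0 : s ≠ 0 := by
    rintro rfl
    have h0 := Cfsg.Agent.Lib.helper50.eq_zero_of_rank_eq_zero _ hs
    apply hx1
    apply Subtype.ext
    apply Units.ext
    have : (x.1.1 : Matrix (Fin m ⊕ Fin m) (Fin m ⊕ Fin m) F) = 1 := sub_eq_zero.1 h0
    exact this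
  obtain ⟨k, hk⟩ := heven
  have hk' : s = 2 * k := by omega
  have hsm : s ≤ m := by
    have := Cfsg.Agent.Lib.helper50.orth_rank_le x hx
    rw [hs] at this
    exact this
  obtain ⟨d, rfl⟩ : ∃ d, m = s + d := ⟨m - s, by omega⟩
  have h2 := Cfsg.Agent.Lib.helper50.card_cent_a s d k hk' x hx hs halt'
  have e1 : s / 2 = k := by omega
  rw [Cfsg.Agent.Lib.helper50.exp_oa, e1,
    Fin.prod_univ_eq_prod_range (fun i => Fintype.card F ^ (2 * (i + 1)) - 1) k]
  rcases d with _ | d'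
  · rw [if_pos (by omega)]
    have hle := Cfsg.Agent.Lib.helper50.cent_le_Omega_a (m := s + 0) (by omega) h x hx hs halt'
    rw [Cfsg.Agent.Lib.helper50.card_cent_of_le _ x hle, h2]
    unfold Cfsg.Agent.Lib.helper50.spOrd
    simp [Cfsg.Agent.Lib.helper50.oP]
    ring
  · rw [if_neg (by omega)]
    obtain ⟨u, hu, hxu⟩ := Cfsg.Agent.Lib.helper50.exists_nonsing_fixed s d' x hx hs halt'
    have h1 := Cfsg.Agent.Lib.helper50.card_centOmega_of_refl h x u hu hxu
    rw [h2, Cfsg.Agent.Lib.helper50.oP_succ_eq _ hq] at h1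
    have h3 : Nat.card {g : ↥(Cfsg.Omega F (Cfsg.quadFormPlus (s + (d' + 1)) F)) //
        (g : ↥(Cfsg.isometryGroup F (Cfsg.quadFormPlus (s + (d' + 1)) F))) * x = x * g}
        = Cfsg.Agent.Lib.helper50.spOrd (Fintype.card F) k
          * (Fintype.card F ^ (Cfsg.Agent.Lib.helper50.tri s + 2 * s * (d' + 1))
            * (Fintype.card F ^ ((d' + 1) * d') * (Fintype.card F ^ (d' + 1) - 1)
              * ∏ i ∈ Finset.range d', (Fintype.card F ^ (2 * (i + 1)) - 1))) := by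
      have h4 : (2 : ℕ) * Nat.card {g : ↥(Cfsg.Omega F (Cfsg.quadFormPlus (s + (d' + 1)) F)) //
        (g : ↥(Cfsg.isometryGroup F (Cfsg.quadFormPlus (s + (d' + 1)) F))) * x = x * g}
        = 2 * (Cfsg.Agent.Lib.helper50.spOrd (Fintype.card F) k
          * (Fintype.card F ^ (Cfsg.Agent.Lib.helper50.tri s + 2 * s * (d' + 1))
            * (Fintype.card F ^ ((d' + 1) * d') * (Fintype.card F ^ (d' + 1) - 1)
              * ∏ i ∈ Finset.range d', (Fintype.card F ^ (2 * (i + 1)) - 1)))) := by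
        rw [h1]; ring
      exact Nat.eq_of_mul_eq_mul_left (by norm_num) h4
    rw [h3]
    have e2 : s + (d' + 1) - s = d' + 1 := by omega
    have e3 : d' + 1 - 1 = d' := by omega
    rw [e2, e3, Fin.prod_univ_eq_prod_range (fun i => Fintype.card F ^ (2 * (i + 1)) - 1) d']
    unfold Cfsg.Agent.Lib.helper50.spOrd
    ring

end Cfsg.Agent.S2684
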