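import Cfsg.Statements.S2685
import Cfsg.Agent.Lib.helper50.OrthPlusArith
import Cfsg.Agent.Lib.helper50.OrthPlusCentO

set_option autoImplicit false
open Cfsg

namespace Cfsg.Agent.S2685

/-- For the hyperbolic form Q = Σ x_j y_j on F^(2m) over a finite field with q elements, q even (excluding m = 2 over the field of two elements), and an involution x of the orthogonal group with s = rank(x − 1) even and Q not vanishing on the image of x − 1 (f(v, xv) ≠ 0 for some v, where f(u, w) = Q(u + w) − Q(u) − Q(w) is the bilinear form of Q; type c_s, which lies in Ω): its centraliser in Ω (the commutator subgroup of the orthogonal group) has order q^(2m(s−1) − (3s² − 5s)/2 − 1) · |Sp_(s−2)(q)| · |Sp_(2m−2s)(q)|. -/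
theorem result {F : Type*} [Field F] [Fintype F] [CharP F 2] {q : ℕ} (hF : Fintype.card F = q) {m s : ℕ} (h : Fintype.card F ≠ 2 ∨ m ≠ 2) (x : ↥(Cfsg.isometryGroup F (Cfsg.quadFormPlus m F))) (hx : x ^ 2 = 1) (hs : (((x : Matrix.GeneralLinearGroup (Fin m ⊕ Fin m) F) : Matrix (Fin m ⊕ Fin m) (Fin m ⊕ Fin m) F) - 1).rank = s) (heven : Even s) (hna : ∃ v : Fin m ⊕ Fin m → F, Cfsg.quadFormPlus m F ((((x : Matrix.GeneralLinearGroup (Fin m ⊕ Fin m) F) : Matrix (Fin m ⊕ Fin m) (Fin m ⊕ Fin m) F) - 1).mulVec v) ≠ 0) : Nat.card {g : ↥(Cfsg.Omega F (Cfsg.quadFormPlus m F)) // (g : ↥(Cfsg.isometryGroup F (Cfsg.quadFormPlus m F))) * x = x * (g : ↥(Cfsg.isometryGroup F (Cfsg.quadFormPlus m F)))} = q ^ (2 * m * (s - 1) - (3 * s ^ 2 - 5 * s) / 2 - 1) * ((q : ℕ) ^ (((s - 2) / 2) ^ 2) * ∏ i : Fin ((s - 2) / 2), (q ^ (2 * ((i : ℕ) + 1)) - 1)) * ((q : ℕ) ^ ((m - s) ^ 2) * ∏ i : Fin (m - s), (q ^ (2 * ((i : ℕ) + 1)) - 1))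 := by
  classical
  subst hF
  obtain ⟨v, hv⟩ := hna
  have hs0 : s ≠ 0 := by
    rintro rfl
    have h0 := Cfsg.Agent.Lib.helper50.eq_zero_of_rank_eq_zero _ hs
    rw [h0, Matrix.zero_mulVec] at hv
    exact hv (by simp [Cfsg.quadFormPlus])
  obtain ⟨j, rfl⟩ := heven
  obtain ⟨k, rfl⟩ : ∃ k, j = k + 1 := ⟨j - 1, by omega⟩
  have hs' : (((x : Matrix.GeneralLinearGroup (Fin m ⊕ Fin m) F) :
      Matrix (Fin m ⊕ Fin m) (Fin m ⊕ Fin m) F) - 1).rank = 2 * k + 2 := by rw [hs]; omega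
  have hsm : 2 * k + 2 ≤ m := by
    have := Cfsg.Agent.Lib.helper50.orth_rank_le x hx
    rw [hs'] at this
    exact this
  obtain ⟨d, rfl⟩ : ∃ d, m = 2 * k + 1 + d + 1 := ⟨m - (2 * k + 2), by omega⟩
  have h1 := Cfsg.Agent.Lib.helper50.card_centOmega_of_refl h x _ hv
    (Cfsg.Agent.Lib.helper50.orth_fix_of_sq x hx v)
  have h2 := Cfsg.Agent.Lib.helper50.card_cent_c k d x hx hs'
    ⟨v, by rw [Cfsg.Agent.Lib.helper50.orth_val_eq]; exact hv⟩
  rw [h2] at h1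
  have h3 : Nat.card {g : ↥(Cfsg.Omega F (Cfsg.quadFormPlus (2 * k + 1 + d + 1) F)) //
      (g : ↥(Cfsg.isometryGroup F (Cfsg.quadFormPlus (2 * k + 1 + d + 1) F))) * x = x * g}
      = Fintype.card F ^ (2 * k + 1) * Cfsg.Agent.Lib.helper50.spOrd (Fintype.card F) k
        * (Fintype.card F ^ (Cfsg.Agent.Lib.helper50.tri (2 * k + 1 + 1) + 2 * (2 * k + 1) * d)
          * Cfsg.Agent.Lib.helper50.spOrd (Fintype.card F) d) := by
    have h4 : (2 : ℕ) * Nat.card {g : ↥(Cfsg.Omega F (Cfsg.quadFormPlus (2 * k + 1 + d + 1) F)) //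
      (g : ↥(Cfsg.isometryGroup F (Cfsg.quadFormPlus (2 * k + 1 + d + 1) F))) * x = x * g}
      = 2 * (Fintype.card F ^ (2 * k + 1) * Cfsg.Agent.Lib.helper50.spOrd (Fintype.card F) k
        * (Fintype.card F ^ (Cfsg.Agent.Lib.helper50.tri (2 * k + 1 + 1) + 2 * (2 * k + 1) * d)
          * Cfsg.Agent.Lib.helper50.spOrd (Fintype.card F) d)) := by
      rw [h1]; ring
    exact Nat.eq_of_mul_eq_mul_left (by norm_num) h4
  rw [h3]
  have e0 : k + 1 + (k + 1) = 2 * k + 2 := by omega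
  have e1 : (2 * k + 2 - 2) / 2 = k := by omega
  have e2 : 2 * k + 1 + d + 1 - (2 * k + 2) = d := by omega
  rw [e0, Cfsg.Agent.Lib.helper50.exp_oc, e1, e2,
    Fin.prod_univ_eq_prod_range (fun i => Fintype.card F ^ (2 * (i + 1)) - 1) k,
    Fin.prod_univ_eq_prod_range (fun i => Fintype.card F ^ (2 * (i + 1)) - 1) d]
  unfold Cfsg.Agent.Lib.helper50.spOrd
  rw [pow_add (Fintype.card F) (2 * k + 1)]
  ring

end Cfsg.Agent.S2685
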