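import Cfsg.Statements.S2699
import Cfsg.Agent.Lib.helper50.GraphOdd2

set_option autoImplicit false
open Cfsg

namespace Cfsg.Agent.S2699

/-- Let T = PSL_n(F) over the field with p^f elements with n ≥ 3 odd, n = 2m + 1, and G = Inndiag(T) the image of PGL_n(F). Every involutory graph automorphism γ of T (an inner-diagonal automorphism followed by inverse-transpose, of order 2) has centralizer C_G(γ) isomorphic to the projective conformal orthogonal group of the form x₀² + Σ xᵢ yᵢ in dimension n (for q even this group is isomorphic to Sp_{n−1}(q)), and any two involutory graph automorphisms are G-conjugate. -/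
theorem result {F : Type*} [Field F] [Fintype F] {p f : ℕ} [Fact p.Prime] (hF : Fintype.card F = p ^ f) (hf : 1 ≤ f) {n : ℕ} (hn : 3 ≤ n) {m : ℕ} (hnm : n = 2 * m + 1) (γ γ' : MulAut (Matrix.ProjectiveSpecialLinearGroup (Fin n) F)) (hγ : Cfsg.IsGraphAutClassPSL γ) (hγ2 : orderOf γ = 2) (hγ' : Cfsg.IsGraphAutClassPSL γ') (hγ'2 : orderOf γ' = 2) :
    Nonempty (↥(Cfsg.inndiagPSL n F ⊓ Subgroup.centralizer {γ}) ≃* Cfsg.PGO F (Cfsg.quadFormOdd m F)) ∧ Cfsg.IsConjUnder (Cfsg.inndiagPSL n F) γ γ' := by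
  classical
  obtain ⟨A, rfl⟩ := (Cfsg.Agent.Lib.helper50.isGraphAutClass_iff hn γ).mp hγ
  obtain ⟨A', rfl⟩ := (Cfsg.Agent.Lib.helper50.isGraphAutClass_iff hn γ').mp hγ'
  have hn1 : n = 1 + (m + m) := by omega
  obtain ⟨e, -⟩ : ∃ e : Fin n ≃ Unit ⊕ (Fin m ⊕ Fin m), True :=
    ⟨(finCongr hn1).trans (finSumFinEquiv.symm.trans
      (Equiv.sumCongr finOneEquiv finSumFinEquiv.symm)), trivial⟩
  obtain ⟨c, hc⟩ := (Cfsg.Agent.Lib.helper50.orderOf_graphAut_eq_two_iff hn A).mp hγ2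
  obtain ⟨c', hc'⟩ := (Cfsg.Agent.Lib.helper50.orderOf_graphAut_eq_two_iff hn A').mp hγ'2
  by_cases h2 : (2 : F) = 0
  · haveI : CharP F 2 := CharTwo.of_one_ne_zero_of_two_eq_zero one_ne_zero h2
    have hsym : ∀ (B : GL (Fin n) F) (c : F),
        (B : Matrix (Fin n) (Fin n) F) = c • (B : Matrix (Fin n) (Fin n) F).transpose →
        (B : Matrix (Fin n) (Fin n) F).transpose = (B : Matrix (Fin n) (Fin n) F) := by
      intro B c hB
      rcases Cfsg.Agent.Lib.helper50.symm_or_skew (by omega) B c hB with h | h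
      · exact h
      · rw [h]
        have h3 : (B : Matrix (Fin n) (Fin n) F) + (B : Matrix (Fin n) (Fin n) F) = 0 := by
          rw [← two_smul F, h2, zero_smul]
        exact neg_eq_of_add_eq_zero_left h3
    have c1 := Cfsg.Agent.Lib.helper50.conj_all_odd2 e A (hsym A c hc)
    have c2 := Cfsg.Agent.Lib.helper50.conj_all_odd2 e A' (hsym A' c' hc')
    refine ⟨?_, Cfsg.Agent.Lib.helper50.isConjUnder_trans _
      (Cfsg.Agent.Lib.helper50.isConjUnder_symm _ c1) c2⟩
    obtain ⟨e₁⟩ := Cfsg.Agent.Lib.helper50.cent_equiv_of_conj _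
      (Cfsg.Agent.Lib.helper50.isConjUnder_symm _ c1)
    obtain ⟨e₂⟩ := Cfsg.Agent.Lib.helper50.cent_odd2 (F := F) e
    exact ⟨e₁.trans e₂⟩
  · have hsym : ∀ (B : GL (Fin n) F) (c : F),
        (B : Matrix (Fin n) (Fin n) F) = c • (B : Matrix (Fin n) (Fin n) F).transpose →
        (B : Matrix (Fin n) (Fin n) F).transpose = (B : Matrix (Fin n) (Fin n) F) := by
      intro B c hB
      rcases Cfsg.Agent.Lib.helper50.symm_or_skew (by omega) B c hB with h | h
      · exact h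
      · exact (Cfsg.Agent.Lib.helper50.not_skew_of_odd h2 hnm B h).elim
    have c1 := Cfsg.Agent.Lib.helper50.conj_all_odd h2 hnm A (Cfsg.Agent.Lib.helper50.Aodd h2 e)
      (hsym A c hc) (Cfsg.Agent.Lib.helper50.Aodd_transpose h2 e)
    refine ⟨?_, Cfsg.Agent.Lib.helper50.conj_all_odd h2 hnm A A' (hsym A c hc) (hsym A' c' hc')⟩
    obtain ⟨e₁⟩ := Cfsg.Agent.Lib.helper50.cent_equiv_of_conj _ c1
    obtain ⟨e₂⟩ := Cfsg.Agent.Lib.helper50.cent_odd h2 e
    exact ⟨e₁.trans e₂⟩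

end Cfsg.Agent.S2699
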