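import Cfsg.Statements.S2700
import Cfsg.Agent.Lib.helper50.GraphClass

set_option autoImplicit false
open Cfsg

namespace Cfsg.Agent.S2700

/-- Let T = PSL_n(F) over a finite field of odd order with n = 2m ≥ 4 even, and G = Inndiag(T) the image of PGL_n(F). The involutory graph automorphisms of T fall into exactly three G-classes, with representatives γ₁, γ₂, γ₃ whose centralizers in G are isomorphic respectively to the projective conformal symplectic group PGSp_n(F), the projective conformal orthogonal group of the plus-type form Σ xᵢ yᵢ, and that of a minus-type form Σ xᵢ yᵢ + z₁² + a z₁ z₂ + b z₂² (anisotropic binary part) in dimension n. -/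
theorem result {F : Type*} [Field F] [Fintype F] (hodd : Odd (Fintype.card F)) {n m : ℕ} (hm : 2 ≤ m) (hnm : n = 2 * m) :
    ∃ (γ₁ γ₂ γ₃ : MulAut (Matrix.ProjectiveSpecialLinearGroup (Fin n) F)) (a b : F), (∀ z₁ z₂ : F, z₁ ^ 2 + a * z₁ * z₂ + b * z₂ ^ 2 = 0 → z₁ = 0 ∧ z₂ = 0) ∧ Cfsg.IsGraphAutClassPSL γ₁ ∧ orderOf γ₁ = 2 ∧ Cfsg.IsGraphAutClassPSL γ₂ ∧ orderOf γ₂ = 2 ∧ Cfsg.IsGraphAutClassPSL γ₃ ∧ orderOf γ₃ = 2 ∧ ¬ Cfsg.IsConjUnder (Cfsg.inndiagPSL n F) γ₁ γ₂ ∧ ¬ Cfsg.IsConjUnder (Cfsg.inndiagPSL n F) γ₁ γ₃ ∧ ¬ Cfsg.IsConjUnder (Cfsg.inndiagPSL n F) γ₂ γ₃ ∧ (∀ γ : MulAut (Matrix.ProjectiveSpecialLinearGroup (Fin n) F), Cfsg.IsGraphAutClassPSL γ → orderOf γ = 2 → Cfsg.IsConjUnder (Cfsg.inndiagPSL n F) γ₁ γ ∨ Cfsg.IsConjUnder (Cfsg.inndiagPSL n F) γ₂ γ ∨ Cfsg.IsConjUnder (Cfsg.inndiagPSL n F) γ₃ γ) ∧ Nonempty (↥(Cfsg.inndiagPSL n F ⊓ Subgroup.centralizer {γ₁}) ≃* Cfsg.PGSp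 m F) ∧ Nonempty (↥(Cfsg.inndiagPSL n F ⊓ Subgroup.centralizer {γ₂}) ≃* Cfsg.PGO F (Cfsg.quadFormPlus m F)) ∧ Nonempty (↥(Cfsg.inndiagPSL n F ⊓ Subgroup.centralizer {γ₃}) ≃* Cfsg.PGO F (Cfsg.quadFormMinus (m - 1) F a b)) := by
  classical
  have hq2 : Fintype.card F % 2 = 1 := Nat.odd_iff.mp hodd
  have hchar : ringChar F ≠ 2 := by
    intro h
    have := FiniteField.even_card_iff_char_two.mp h
    omega
  have h2 : (2 : F) ≠ 0 := Ring.two_ne_zero hchar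
  obtain ⟨α, hα⟩ := FiniteField.exists_nonsquare hchar
  have hα0 : α ≠ 0 := by
    rintro rfl
    exact hα ⟨0, by simp⟩
  have hb : -α ≠ 0 := neg_ne_zero.mpr hα0
  have hn3 : 3 ≤ n := by omega
  have hn2 : n = m + m := by omega
  have hn2' : n = ((m - 1) + (m - 1)) + 2 := by omega
  obtain ⟨e, -⟩ : ∃ e : Fin n ≃ Fin m ⊕ Fin m, True := ⟨(finCongr hn2).trans finSumFinEquiv.symm, trivial⟩
  obtain ⟨e', -⟩ : ∃ e' : Fin n ≃ (Fin (m - 1) ⊕ Fin (m - 1)) ⊕ Fin 2, True :=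
    ⟨(finCongr hn2').trans (finSumFinEquiv.symm.trans
      (Equiv.sumCongr finSumFinEquiv.symm (Equiv.refl (Fin 2)))), trivial⟩
  refine ⟨Cfsg.Agent.Lib.helper50.graphAut (Cfsg.Agent.Lib.helper50.Aalt (F := F) e),
    Cfsg.Agent.Lib.helper50.graphAut (Cfsg.Agent.Lib.helper50.Aplus (F := F) e),
    Cfsg.Agent.Lib.helper50.graphAut (Cfsg.Agent.Lib.helper50.Aminus h2 hb e'), 0, -α,
    ?_, ?_, ?_, ?_, ?_, ?_, ?_, ?_, ?_, ?_, ?_, ?_, ?_, ?_⟩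
  · intro z₁ z₂ hz
    have hz' : z₁ ^ 2 = α * z₂ ^ 2 := by linear_combination hz
    by_cases hz2 : z₂ = 0
    · rw [hz2] at hz'
      simp at hz'
      exact ⟨hz', hz2⟩
    · exfalso
      apply hα
      refine ⟨z₁ / z₂, ?_⟩
      field_simp
      linear_combination -hz'
  · exact (Cfsg.Agent.Lib.helper50.isGraphAutClass_iff hn3 _).mpr ⟨_, rfl⟩
  · exact Cfsg.Agent.Lib.helper50.order_alt hn3 e
  · exact (Cfsg.Agent.Lib.helper50.isGraphAutClass_iff hn3 _).mpr ⟨_, rfl⟩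
  · exact Cfsg.Agent.Lib.helper50.order_plus hn3 e
  · exact (Cfsg.Agent.Lib.helper50.isGraphAutClass_iff hn3 _).mpr ⟨_, rfl⟩
  · exact Cfsg.Agent.Lib.helper50.order_minus hn3 h2 hb e'
  · exact Cfsg.Agent.Lib.helper50.not_conj_skew_sym h2 (by omega) _ _
      (Cfsg.Agent.Lib.helper50.Aalt_transpose e) (Cfsg.Agent.Lib.helper50.Aplus_transpose e)
  · exact Cfsg.Agent.Lib.helper50.not_conj_skew_sym h2 (by omega) _ _
      (Cfsg.Agent.Lib.helper50.Aalt_transpose e) (Cfsg.Agent.Lib.helper50.Aminus_transpose h2 hb e')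
  · exact Cfsg.Agent.Lib.helper50.not_conj_plus_minus h2 (by omega) hnm e e' hα hb
  · intro γ hγ hγ2
    obtain ⟨A, rfl⟩ := (Cfsg.Agent.Lib.helper50.isGraphAutClass_iff hn3 γ).mp hγ
    exact Cfsg.Agent.Lib.helper50.graph_invol_class h2 (by omega) hnm e e' hα hb hn3 A hγ2
  · exact Cfsg.Agent.Lib.helper50.cent_alt e
  · exact Cfsg.Agent.Lib.helper50.cent_plus h2 e
  · exact Cfsg.Agent.Lib.helper50.cent_minus h2 hb e'

end Cfsg.Agent.S2700
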