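-- Statement S2702 (row 2702): class splitting of involutory graph automorphisms of PSL_n.
import Cfsg.Statements.S2702
import Cfsg.Agent.Lib.helper48.GraphSplit
import Cfsg.Agent.Lib.helper17.OmRank2

set_option autoImplicit false
open Cfsg

namespace Cfsg.Agent.S2702

/-- Let T = PSL_n(F) over the field with q = p^f elements, n ≥ 3, G = Inndiag(T) the image of PGL_n(F), and γ an involutory graph automorphism of T. The G-class of γ is the union of exactly c T-classes, where: if n is even and q is odd, c = gcd(n/2, q − 1) when C_G(γ) is isomorphic to the projective conformal symplectic group PGSp_n(F) (symplectic type) and c = gcd(n, q − 1)/2 otherwise; and c = gcd(n, q − 1) when n is odd or q is even. -/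
theorem result {F : Type*} [Field F] [Fintype F] {p f : ℕ} [Fact p.Prime] (hF : Fintype.card F = p ^ f) (hf : 1 ≤ f) {n : ℕ} (hn : 3 ≤ n) (γ : MulAut (Matrix.ProjectiveSpecialLinearGroup (Fin n) F)) (hγ : Cfsg.IsGraphAutClassPSL γ) (hγ2 : orderOf γ = 2) :
    ((Even n ∧ Odd p ∧ Nonempty (↥(Cfsg.inndiagPSL n F ⊓ Subgroup.centralizer {γ}) ≃* Cfsg.PGSp (n / 2) F)) → Cfsg.splitClassCount (Cfsg.inndiagPSL n F) (Cfsg.Inn (Matrix.ProjectiveSpecialLinearGroup (Fin n) F)) γ = Nat.gcd (n / 2) (p ^ f - 1)) ∧ ((Even n ∧ Odd p ∧ ¬ Nonempty (↥(Cfsg.inndiagPSL n F ⊓ Subgroup.centralizer {γ}) ≃* Cfsg.PGSp (n / 2) F)) → Cfsg.splitClassCount (Cfsg.inndiagPSL n F) (Cfsg.Inn (Matrix.ProjectiveSpecialLinearGroup (Fin n) F)) γ = Nat.gcd n (p ^ f - 1) / 2) ∧ (¬ (Even n ∧ Odd p) → Cfsg.splitClassCount (Cfsg.inndiagPSL n F) (Cfsg.Inn (Matrix.ProjectiveSpecialLinearGroup (Fin n) F)) γ = Nat.gcd n (p ^ f - 1)) := by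
  obtain ⟨A, rfl⟩ := (Cfsg.Agent.Lib.helper50.isGraphAutClass_iff hn γ).mp hγ
  rw [Cfsg.Agent.Lib.helper48.Split.splitClassCount_eq_index ⟨0, by omega⟩]
  obtain ⟨c, hc⟩ := (Cfsg.Agent.Lib.helper50.orderOf_graphAut_eq_two_iff hn A).mp hγ2
  by_cases hcase : Even n ∧ Odd p
  · obtain ⟨hev, hpodd⟩ := hcase
    obtain ⟨m, hm⟩ := hev
    have hnm : n = 2 * m := by omega
    have hn2 : n / 2 = m := by omega
    have hqodd : Odd (p ^ f) := hpodd.pow
    have h2 : (2 : F) ≠ 0 :=
      Cfsg.Agent.Lib.helper17.two_ne_zero_of_odd_card (by rw [hF]; exact hqodd)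
    rw [hn2]
    rcases Cfsg.Agent.Lib.helper50.symm_or_skew (by omega) A c hc with hsym | hskew
    · have hno := Cfsg.Agent.Lib.helper48.GraphSplit.graph_sym_no_iso hF hqodd h2 hnm hn A hsym hγ2
      exact ⟨fun h => absurd h.2.2 hno,
        fun _ => Cfsg.Agent.Lib.helper48.GraphSplit.index_case_sym hF hqodd h2 hnm (by omega) A hsym,
        fun h => absurd ⟨⟨m, hm⟩, hpodd⟩ h⟩
    · have halt := Cfsg.Agent.Lib.helper50.skew_alt h2 _ hskew
      obtain ⟨e⟩ : Nonempty (Fin n ≃ Fin m ⊕ Fin m) :=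
        ⟨(finCongr (by omega : n = m + m)).trans finSumFinEquiv.symm⟩
      have hyes := Cfsg.Agent.Lib.helper48.GraphSplit.graph_alt_iso A halt e
      exact ⟨fun _ => Cfsg.Agent.Lib.helper48.GraphSplit.index_case_alt hF A halt e,
        fun h => absurd hyes h.2.2,
        fun h => absurd ⟨⟨m, hm⟩, hpodd⟩ h⟩
  · refine ⟨fun h => absurd ⟨h.1, h.2.1⟩ hcase, fun h => absurd ⟨h.1, h.2.1⟩ hcase, fun _ => ?_⟩
    apply Cfsg.Agent.Lib.helper48.GraphSplit.index_case_one hF
    by_cases hev : Even n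
    · right
      have hp2 : p = 2 := by
        have hnodd : ¬ Odd p := fun h => hcase ⟨hev, h⟩
        rcases (Fact.out : p.Prime).eq_two_or_odd' with h | h
        · exact h
        · exact absurd h hnodd
      subst hp2
      exact charP_of_card_eq_prime_pow hF
    · left
      exact Nat.not_even_iff_odd.mp hev

end Cfsg.Agent.S2702
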