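import Cfsg.Statements.S2703
import Cfsg.Agent.Lib.helper50.GraphCent

set_option autoImplicit false
open Cfsg

namespace Cfsg.Agent.S2703

/-- Let T = PSL_n(F) over the field with q elements, q odd, n = 2m ≥ 4 even, and ι the inverse-transpose automorphism. Its centralizer in G = Inndiag(T) (the image of PGL_n(F)) is isomorphic to the projective conformal orthogonal group of the plus-type form Σ xᵢ yᵢ in dimension n when n(q − 1)/4 is even, and to that of a minus-type form (Σ xᵢ yᵢ + z₁² + a z₁ z₂ + b z₂² with anisotropic binary part) when n(q − 1)/4 is odd. -/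
theorem result {F : Type*} [Field F] [Fintype F] (hodd : Odd (Fintype.card F)) {n m : ℕ} (hm : 2 ≤ m) (hnm : n = 2 * m) (ι : MulAut (Matrix.ProjectiveSpecialLinearGroup (Fin n) F)) (hι : Cfsg.IsInverseTransposeAutPSL ι) :
    (Even (n * (Fintype.card F - 1) / 4) → Nonempty (↥(Cfsg.inndiagPSL n F ⊓ Subgroup.centralizer {ι}) ≃* Cfsg.PGO F (Cfsg.quadFormPlus m F))) ∧ (¬ Even (n * (Fintype.card F - 1) / 4) → ∃ a b : F, (∀ z₁ z₂ : F, z₁ ^ 2 + a * z₁ * z₂ + b * z₂ ^ 2 = 0 → z₁ = 0 ∧ z₂ = 0) ∧ Nonempty (↥(Cfsg.inndiagPSL n F ⊓ Subgroup.centralizer {ι}) ≃* Cfsg.PGO F (Cfsg.quadFormMinus (m - 1) F a b))) := by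
  classical
  have hq2 : Fintype.card F % 2 = 1 := Nat.odd_iff.mp hodd
  have hchar : ringChar F ≠ 2 := by
    intro h
    have := FiniteField.even_card_iff_char_two.mp h
    omega
  have h2 : (2 : F) ≠ 0 := Ring.two_ne_zero hchar
  obtain ⟨a, b, hab⟩ : ∃ a b : F, a ^ 2 + b ^ 2 = -1 := by
    have hf : (Polynomial.X ^ 2 : Polynomial F).degree = 2 := Polynomial.degree_X_pow 2
    have hg : (Polynomial.X ^ 2 + Polynomial.C 1 : Polynomial F).degree = 2 :=
      Polynomial.degree_X_pow_add_C (by norm_num) 1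
    obtain ⟨a, b, hab⟩ := FiniteField.exists_root_sum_quadratic hf hg hq2
    refine ⟨a, b, ?_⟩
    simp only [Polynomial.eval_pow, Polynomial.eval_X, Polynomial.eval_add, Polynomial.eval_C] at hab
    linear_combination hab
  obtain ⟨e₀⟩ := Cfsg.Agent.Lib.helper50.graph_cent_iota h2 hι
  obtain ⟨t, ht⟩ : ∃ t, Fintype.card F = 2 * t + 1 := ⟨Fintype.card F / 2, by omega⟩
  have hnq : n * (Fintype.card F - 1) / 4 = m * t := by
    rw [hnm, ht, Nat.add_sub_cancel]
    have : 2 * m * (2 * t) = 4 * (m * t) := by ring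
    rw [this, Nat.mul_div_cancel_left _ (by norm_num : 0 < 4)]
  rw [hnq]
  constructor
  · intro hev
    obtain ⟨L, hL⟩ : ∃ L : Matrix (Fin m) (Fin m) F, L.transpose * L = -1 := by
      rcases Nat.even_mul.mp hev with hme | hte
      · exact Cfsg.Agent.Lib.helper50.exists_L_of_even a b hab hme
      · have hsq : IsSquare (-1 : F) := by
          rw [FiniteField.isSquare_neg_one_iff, ht]
          obtain ⟨r, hr⟩ := hte
          omega
        obtain ⟨i, hi⟩ := hsq
        exact Cfsg.Agent.Lib.helper50.exists_L_of_sq i hi.symm m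
    have hn2 : n = m + m := by omega
    obtain ⟨e₁⟩ := Cfsg.Agent.Lib.helper50.pgo_sumSq_reindex (F := F)
      ((finCongr hn2).trans finSumFinEquiv.symm)
    obtain ⟨e₂⟩ := (Cfsg.Agent.Lib.helper50.qiso_sumSq_plus h2 L hL).pgo
    exact ⟨e₀.trans (e₁.trans e₂)⟩
  · intro hev
    have hmo : ¬ Even m := fun h => hev (Nat.even_mul.mpr (Or.inl h))
    have hto : ¬ Even t := fun h => hev (Nat.even_mul.mpr (Or.inr h))
    have hnsq : ¬ IsSquare (-1 : F) := by
      rw [FiniteField.isSquare_neg_one_iff, ht]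
      rw [Nat.not_even_iff_odd] at hto
      obtain ⟨r, hr⟩ := hto
      omega
    have hme : Even (m - 1) := by
      rw [Nat.not_even_iff_odd] at hmo
      obtain ⟨r, hr⟩ := hmo
      exact ⟨r, by omega⟩
    obtain ⟨L, hL⟩ := Cfsg.Agent.Lib.helper50.exists_L_of_even (m := m - 1) a b hab hme
    refine ⟨0, 1, ?_, ?_⟩
    · intro z₁ z₂ hz
      have hz' : z₁ ^ 2 + z₂ ^ 2 = 0 := by linear_combination hz
      by_cases hz2 : z₂ = 0
      · rw [hz2] at hz'
        simp at hz'
        exact ⟨hz', hz2⟩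
      · exfalso
        apply hnsq
        refine ⟨z₁ / z₂, ?_⟩
        field_simp
        linear_combination -hz'
    · have hn2 : n = ((m - 1) + (m - 1)) + 2 := by omega
      obtain ⟨e₁⟩ := Cfsg.Agent.Lib.helper50.pgo_sumSq_reindex (F := F)
        ((finCongr hn2).trans (finSumFinEquiv.symm.trans
          (Equiv.sumCongr finSumFinEquiv.symm (Equiv.refl (Fin 2)))))
      obtain ⟨e₂⟩ := (Cfsg.Agent.Lib.helper50.qiso_sumSq_minus h2 L hL).pgo
      exact ⟨e₀.trans (e₁.trans e₂)⟩

end Cfsg.Agent.S2703
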