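import Cfsg.Statements.S2704
import Cfsg.Agent.Lib.helper48.SplitClass
import Cfsg.Agent.Lib.helper48.OutPSLn
import Cfsg.Agent.Lib.helper48.UnitaryConj

set_option autoImplicit false
open Cfsg
open Cfsg.Agent.Lib.helper47.PSLn Cfsg.Agent.Lib.helper48.Split

namespace Cfsg.Agent.S2704

section aux
variable {n : ℕ} {F : Type*} [Field F]

theorem frob_half [Fintype F] {p f : ℕ} [Fact p.Prime] (hF : Fintype.card F = p ^ f) (hf : 1 ≤ f)
    (σ : F ≃+* F) (hσ1 : σ ≠ 1) (hσ2 : σ * σ = 1) :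
    Even f ∧ ∀ x : F, σ x = x ^ (p ^ (f / 2)) := by
  have hc : CharP F p := charP_of_card_eq_prime_pow hF
  obtain ⟨j, rfl⟩ := Cfsg.Agent.Lib.helper48.exists_frobE_pow p σ
  rw [← pow_add] at hσ2
  have h1 : j + j ≡ 0 [MOD f] := by
    apply Cfsg.Agent.Lib.helper48.frob_pow_congr p hF
    intro a
    rw [← Cfsg.Agent.Lib.helper48.frobE_pow_apply, hσ2, pow_zero, pow_one]
    rfl
  obtain ⟨m, s, hj, hs⟩ : ∃ m s : ℕ, j = f * m + s ∧ s < f :=
    ⟨j / f, j % f, (Nat.div_add_mod j f).symm, Nat.mod_lt _ (by omega)⟩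
  have hpow : Cfsg.Agent.Lib.helper48.frobE (F := F) p ^ j
      = Cfsg.Agent.Lib.helper48.frobE (F := F) p ^ s := by
    rw [hj, pow_add, pow_mul, Cfsg.Agent.Lib.helper48.frobE_pow_card p hF, one_pow, one_mul]
  have hs0 : s ≠ 0 := by
    intro h
    apply hσ1
    rw [hpow, h, pow_zero]
  have h2 : (s + s) % f = 0 := by
    have h3 : j + j = s + s + f * (2 * m) := by rw [hj]; ring
    have h4 : (j + j) % f = 0 % f := h1
    rw [h3, Nat.add_mul_mod_self_left, Nat.zero_mod] at h4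
    exact h4
  obtain ⟨t, ht⟩ := Nat.dvd_of_mod_eq_zero h2
  have ht1 : t = 1 := by
    rcases t with _ | _ | t
    · omega
    · rfl
    · exfalso
      have : f * (t + 1 + 1) = f * t + f + f := by ring
      have : 0 ≤ f * t := Nat.zero_le _
      omega
  rw [ht1, mul_one] at ht
  refine ⟨⟨s, ht.symm⟩, fun x => ?_⟩
  rw [hpow, Cfsg.Agent.Lib.helper48.frobE_pow_apply]
  congr 2
  omega

/-- the norm-one group of an involutory field automorphism -/
def normU (σ : F ≃+* F) : Subgroup Fˣ where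
  carrier := {u | (u : F) * σ (u : F) = 1}
  one_mem' := by simp
  mul_mem' := by
    intro a b ha hb
    show ((a * b : Fˣ) : F) * σ ((a * b : Fˣ) : F) = 1
    rw [Units.val_mul, map_mul]
    calc (a : F) * b * (σ a * σ b) = ((a : F) * σ a) * ((b : F) * σ b) := by ring
      _ = 1 := by rw [ha, hb, one_mul]
  inv_mem' := by
    intro a ha
    show ((a⁻¹ : Fˣ) : F) * σ ((a⁻¹ : Fˣ) : F) = 1
    rw [Units.val_inv_eq_inv_val, map_inv₀, ← mul_inv, ha, inv_one]

theorem mem_normU (σ : F ≃+* F) (u : Fˣ) : u ∈ normU σ ↔ (u : F) * σ (u : F) = 1 := Iff.rfl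

theorem orderOf_two_of (σ : F ≃+* F) (hσ1 : σ ≠ 1) (hσ2 : σ * σ = 1) : orderOf σ = 2 := by
  have : Fact (Nat.Prime 2) := ⟨Nat.prime_two⟩
  exact orderOf_eq_prime (by rw [pow_two]; exact hσ2) hσ1

theorem exists_norm_two [Finite F] (σ : F ≃+* F) (hσ1 : σ ≠ 1) (hσ2 : σ * σ = 1) (c : F)
    (hc : σ c = c) : ∃ μ : F, μ * σ μ = c := by
  obtain ⟨μ, hμ⟩ := exists_norm_eq σ c hc
  rw [orderOf_two_of σ hσ1 hσ2, Finset.prod_range_succ, Finset.prod_range_one, pow_zero, pow_one] at hμ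
  exact ⟨μ, hμ⟩

theorem card_normU [Fintype F] {p f : ℕ} [Fact p.Prime] (hF : Fintype.card F = p ^ f)
    (σ : F ≃+* F) (hσ1 : σ ≠ 1) (hσ2 : σ * σ = 1) :
    Nat.card Fˣ = Nat.card (normU σ) * (p ^ (f / 2) - 1) := by
  have hss : ∀ x, σ (σ x) = x := fun x => DFunLike.congr_fun hσ2 x
  let N : Fˣ →* Fˣ :=
    { toFun := fun u => u * Units.map (σ : F →* F) u
      map_one' := by simp
      map_mul' := fun a b => by rw [map_mul]; exact mul_mul_mul_comm _ _ _ _ }
  have hN : ∀ u : Fˣ, ((N u : Fˣ) : F) = (u : F) * σ (u : F) := fun u => rfl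
  have hker : N.ker = normU σ := by
    ext u
    rw [MonoidHom.mem_ker, mem_normU, ← hN, Units.ext_iff, Units.val_one]
  have hrange : N.range = fixU σ := by
    ext c
    rw [MonoidHom.mem_range, mem_fixU]
    constructor
    · rintro ⟨u, rfl⟩
      rw [hN, map_mul, hss, mul_comm]
    · intro hc
      obtain ⟨μ, hμ⟩ := exists_norm_two σ hσ1 hσ2 (c : F) hc
      have hμ0 : μ ≠ 0 := by
        rintro rfl
        rw [zero_mul] at hμ
        exact c.ne_zero hμ.symm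
      exact ⟨Units.mk0 μ hμ0, Units.ext (by rw [hN]; exact hμ)⟩
  have h1 := Subgroup.card_mul_index N.ker
  rw [Subgroup.index_ker, hker, hrange, card_fixU, (card_fixK hF σ (orderOf_two_of σ hσ1 hσ2)).2] at h1
  exact h1.symm

theorem cstar_smul' (σ : F →+* F) (a : F) (X : Matrix (Fin n) (Fin n) F) :
    Cfsg.Agent.Lib.helper48.cstar σ (a • X) = σ a • Cfsg.Agent.Lib.helper48.cstar σ X := by
  ext i j
  simp [Cfsg.Agent.Lib.helper48.cstar_apply]

theorem det_cstar (σ : F →+* F) (X : Matrix (Fin n) (Fin n) F) :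
    (Cfsg.Agent.Lib.helper48.cstar σ X).det = σ X.det := by
  unfold Cfsg.Agent.Lib.helper48.cstar
  rw [Matrix.det_transpose]
  exact (RingHom.map_det σ X).symm

end aux


section graph
variable {n : ℕ} {F : Type*} [Field F]

/-- `cAut w` commutes with the graph-field automorphism `fAut σ * gAut` iff a scalar multiple of
`w` is unitary. -/
theorem comm_graph_iff [Finite F] (hn : 2 ≤ n) (σ : F ≃+* F) (hσ1 : σ ≠ 1) (hσ2 : σ * σ = 1)
    (q₀ : ℕ) (hq : ∀ x : F, σ x = x ^ q₀) (w : GL (Fin n) F) :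
    cAut w * (fAut σ * gAut) = (fAut σ * gAut) * cAut w ↔
      ∃ μ : Fˣ, ∃ u : GL (Fin n) F, u ∈ Cfsg.GU n F q₀ ∧ u.1 = (μ : F) • w.1 := by
  have hss : ∀ x, (σ : F →+* F) ((σ : F →+* F) x) = x := fun x => DFunLike.congr_fun hσ2 x
  have hq' : ∀ x : F, (σ : F →+* F) x = x ^ q₀ := hq
  have hswap : ∀ v : GL (Fin n) F, (fAut σ * gAut) * cAut v
      = cAut (Matrix.GeneralLinearGroup.map (σ : F →+* F) (itGL v)) * (fAut σ * gAut) := by
    intro v
    rw [mul_assoc, gAut_mul_cAut, ← mul_assoc, fAut_mul_cAut, mul_assoc]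
  have hval : ∀ v : GL (Fin n) F, (Matrix.GeneralLinearGroup.map (σ : F →+* F) (itGL v)).1
      = Cfsg.Agent.Lib.helper48.cstar (σ : F →+* F) v⁻¹.1 := by
    intro v
    show (itGL v).1.map σ = _
    rw [itGL_coe]
    unfold Cfsg.Agent.Lib.helper48.cstar
    rw [Matrix.transpose_map]
    rfl
  constructor
  · intro h
    rw [hswap, mul_left_inj] at h
    have h1 : cAut (w⁻¹ * Matrix.GeneralLinearGroup.map (σ : F →+* F) (itGL w)) = 1 := by
      rw [map_mul, map_inv, ← h, inv_mul_cancel]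
    obtain ⟨c, hc⟩ := (cAut_eq_one_iff hn _).mp h1
    have h2 : Cfsg.Agent.Lib.helper48.cstar (σ : F →+* F) w⁻¹.1 = (c : F) • w.1 := by
      rw [← hval]
      have h3 : w.1 * (w⁻¹ * Matrix.GeneralLinearGroup.map (σ : F →+* F) (itGL w)).1
          = (Matrix.GeneralLinearGroup.map (σ : F →+* F) (itGL w)).1 := by
        rw [← Units.val_mul, mul_inv_cancel_left]
      rw [← h3, hc, Matrix.mul_smul, Matrix.mul_one]
    have h4 : Cfsg.Agent.Lib.helper48.cstar (σ : F →+* F) w.1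
        * Cfsg.Agent.Lib.helper48.cstar (σ : F →+* F) w⁻¹.1 = 1 := by
      rw [← Cfsg.Agent.Lib.helper48.cstar_mul]
      have : w⁻¹.1 * w.1 = 1 := w.inv_mul
      rw [this, Cfsg.Agent.Lib.helper48.cstar_one]
    rw [h2, Matrix.mul_smul] at h4
    obtain ⟨H, hH⟩ : ∃ H : Matrix (Fin n) (Fin n) F,
        H = Cfsg.Agent.Lib.helper48.cstar (σ : F →+* F) w.1 * w.1 := ⟨_, rfl⟩
    rw [← hH] at h4
    have hH2 : H = ((c⁻¹ : Fˣ) : F) • (1 : Matrix (Fin n) (Fin n) F) := by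
      rw [← h4, smul_smul, Units.inv_mul, one_smul]
    have hHs : Cfsg.Agent.Lib.helper48.cstar (σ : F →+* F) H = H := by
      rw [hH, Cfsg.Agent.Lib.helper48.cstar_mul, Cfsg.Agent.Lib.helper48.cstar_cstar _ hss]
    have hcfix : σ ((c⁻¹ : Fˣ) : F) = ((c⁻¹ : Fˣ) : F) := by
      rw [hH2, cstar_smul', Cfsg.Agent.Lib.helper48.cstar_one] at hHs
      have i₀ : Fin n := ⟨0, by omega⟩
      have := congrFun (congrFun hHs i₀) i₀
      rw [Matrix.smul_apply, Matrix.smul_apply, Matrix.one_apply_eq, smul_eq_mul, smul_eq_mul,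
        mul_one, mul_one] at this
      exact this
    obtain ⟨μ, hμ⟩ := exists_norm_two σ hσ1 hσ2 _ hcfix
    have hμ0 : μ ≠ 0 := by
      rintro rfl
      rw [zero_mul] at hμ
      exact (c⁻¹).ne_zero hμ.symm
    obtain ⟨u, hu⟩ : ∃ u : GL (Fin n) F, u.1 = μ⁻¹ • w.1 := by
      refine ⟨⟨μ⁻¹ • w.1, μ • w⁻¹.1, ?_, ?_⟩, rfl⟩
      · rw [Matrix.smul_mul, Matrix.mul_smul, smul_smul, inv_mul_cancel₀ hμ0, one_smul]
        exact w.mul_inv
      · rw [Matrix.smul_mul, Matrix.mul_smul, smul_smul, mul_inv_cancel₀ hμ0, one_smul]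
        exact w.inv_mul
    refine ⟨(Units.mk0 μ hμ0)⁻¹, u, ?_, ?_⟩
    · rw [Cfsg.Agent.Lib.helper48.mem_GU_iff_cstar (σ : F →+* F) hq', hu, cstar_smul',
        Matrix.smul_mul, Matrix.mul_smul, smul_smul, ← hH, hH2, smul_smul]
      have h5 : (σ : F →+* F) μ⁻¹ * μ⁻¹ * ((c⁻¹ : Fˣ) : F) = 1 := by
        have h6 : (σ : F →+* F) μ⁻¹ = (σ μ)⁻¹ := map_inv₀ σ μ
        rw [h6, ← hμ]
        have hσμ : σ μ ≠ 0 := by
          intro h0
          rw [h0, mul_zero] at hμ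
          exact (c⁻¹).ne_zero hμ.symm
        field_simp
      rw [h5, one_smul]
    · rw [hu, Units.val_inv_eq_inv_val, Units.val_mk0]
  · rintro ⟨μ, u, hu, huw⟩
    have h1 : cAut u = cAut w := by
      have h2 : cAut (u * w⁻¹) = 1 := by
        apply cAut_eq_one_of_scalar _ μ
        rw [Units.val_mul, huw, Matrix.smul_mul]
        congr 1
        exact w.mul_inv
      rw [map_mul, map_inv, mul_inv_eq_one] at h2
      exact h2
    rw [Cfsg.Agent.Lib.helper48.mem_GU_iff_cstar (σ : F →+* F) hq'] at hu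
    have h3 : Matrix.GeneralLinearGroup.map (σ : F →+* F) (itGL u) = u := by
      apply Units.ext
      rw [hval]
      have h4 : Cfsg.Agent.Lib.helper48.cstar (σ : F →+* F) u.1 = u⁻¹.1 := by
        have h5 : Cfsg.Agent.Lib.helper48.cstar (σ : F →+* F) u.1 * u.1 * u⁻¹.1 = u⁻¹.1 := by
          rw [hu, Matrix.one_mul]
        rw [Matrix.mul_assoc] at h5
        have h6 : u.1 * u⁻¹.1 = 1 := u.mul_inv
        rw [h6, Matrix.mul_one] at h5
        exact h5
      rw [← h4, Cfsg.Agent.Lib.helper48.cstar_cstar _ hss]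
    rw [← h1, hswap, h3]

end graph

section graph2
variable {n : ℕ} {F : Type*} [Field F]

theorem dgl_mem_GU (σ : F ≃+* F) (q₀ : ℕ) (hq : ∀ x : F, σ x = x ^ q₀) (i₀ : Fin n) (u : Fˣ)
    (hu : u ∈ normU σ) : dgl i₀ u ∈ Cfsg.GU n F q₀ := by
  have hq' : ∀ x : F, (σ : F →+* F) x = x ^ q₀ := hq
  rw [Cfsg.Agent.Lib.helper48.mem_GU_iff_cstar (σ : F →+* F) hq', dgl_coe]
  ext a b
  rw [Matrix.mul_apply, Matrix.one_apply]
  by_cases hab : a = b
  · subst hab
    rw [if_pos rfl, Finset.sum_eq_single a]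
    · rw [Cfsg.Agent.Lib.helper48.cstar_apply, Matrix.diagonal_apply_eq]
      by_cases ha : a = i₀
      · rw [ha, Function.update_self, mul_comm]; exact hu
      · rw [Function.update_of_ne ha, Units.val_one, map_one, mul_one]
    · intro k _ hk
      rw [Matrix.diagonal_apply_ne _ hk, mul_zero]
    · intro h; exact absurd (Finset.mem_univ _) h
  · rw [if_neg hab]
    apply Finset.sum_eq_zero
    intro k _
    by_cases hk : k = b
    · rw [Cfsg.Agent.Lib.helper48.cstar_apply, Matrix.diagonal_apply_ne _ (by rw [hk]; exact fun h => hab h.symm),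
        map_zero, zero_mul]
    · rw [Matrix.diagonal_apply_ne _ hk, mul_zero]

theorem mem_detCent_graph [Finite F] (hn : 2 ≤ n) (σ : F ≃+* F) (hσ1 : σ ≠ 1) (hσ2 : σ * σ = 1)
    (q₀ : ℕ) (hq : ∀ x : F, σ x = x ^ q₀) (c : Fˣ) :
    c ∈ detCent (n := n) (fAut σ * gAut) ↔ ∃ μ : Fˣ, ∃ u ∈ normU σ, c = μ ^ n * u := by
  have hq' : ∀ x : F, (σ : F →+* F) x = x ^ q₀ := hq
  rw [mem_detCent]
  constructor
  · rintro ⟨w, hw, rfl⟩
    obtain ⟨μ, u, hu, huw⟩ := (comm_graph_iff hn σ hσ1 hσ2 q₀ hq w).mp hw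
    have h1 : Matrix.GeneralLinearGroup.det u = μ ^ n * Matrix.GeneralLinearGroup.det w := by
      apply Units.ext
      show u.1.det = _
      rw [huw, Matrix.det_smul, Fintype.card_fin, Units.val_mul, Units.val_pow_eq_pow_val]
      rfl
    refine ⟨μ⁻¹, Matrix.GeneralLinearGroup.det u, ?_, ?_⟩
    · rw [mem_normU]
      rw [Cfsg.Agent.Lib.helper48.mem_GU_iff_cstar (σ : F →+* F) hq'] at hu
      have h2 := congrArg Matrix.det hu
      rw [Matrix.det_mul, det_cstar, Matrix.det_one, mul_comm] at h2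
      exact h2
    · rw [h1, inv_pow, inv_mul_cancel_left]
  · rintro ⟨μ, u, hu, rfl⟩
    have i₀ : Fin n := ⟨0, by omega⟩
    refine ⟨dg (fun i => μ * Function.update (fun _ => (1 : Fˣ)) i₀ u i), ?_, ?_⟩
    · rw [comm_graph_iff hn σ hσ1 hσ2 q₀ hq]
      refine ⟨μ⁻¹, dgl i₀ u, dgl_mem_GU σ q₀ hq i₀ u hu, ?_⟩
      rw [dgl_coe]
      show _ = ((μ⁻¹ : Fˣ) : F) • Matrix.diagonal
          (fun i => ((μ * Function.update (fun _ => (1 : Fˣ)) i₀ u i : Fˣ) : F))
      ext a b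
      rw [Matrix.smul_apply, Matrix.diagonal_apply, Matrix.diagonal_apply]
      split_ifs
      · rw [Units.val_mul, smul_eq_mul, ← mul_assoc, Units.inv_mul, one_mul]
      · rw [smul_zero]
    · rw [det_dg, Finset.prod_mul_distrib, Finset.prod_const, Finset.card_univ, Fintype.card_fin]
      congr 1
      rw [Finset.prod_eq_single i₀]
      · rw [Function.update_self]
      · intro b _ hb
        rw [Function.update_of_ne hb]
      · intro h; exact absurd (Finset.mem_univ _) h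

/-- **Centralizer of the standard graph-field involution in `Inndiag`** is `PGU_n`. -/
theorem cent_graph_equiv [Finite F] (hn : 2 ≤ n) (σ : F ≃+* F) (hσ1 : σ ≠ 1) (hσ2 : σ * σ = 1)
    (q₀ : ℕ) (hq : ∀ x : F, σ x = x ^ q₀) :
    Nonempty (↥(Cfsg.inndiagPSL n F ⊓ Subgroup.centralizer {(fAut σ * gAut :
      MulAut (Matrix.ProjectiveSpecialLinearGroup (Fin n) F))}) ≃* Cfsg.PGU n F q₀) := by
  let ψ : ↥(Cfsg.GU n F q₀) →* MulAut (Matrix.ProjectiveSpecialLinearGroup (Fin n) F) :=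
    (cAut (n := n) (F := F)).comp (Cfsg.GU n F q₀).subtype
  have hψ : ∀ u, ψ u = cAut u.1 := fun u => rfl
  have hrange : ψ.range = Cfsg.inndiagPSL n F ⊓ Subgroup.centralizer {(fAut σ * gAut :
      MulAut (Matrix.ProjectiveSpecialLinearGroup (Fin n) F))} := by
    ext a
    rw [MonoidHom.mem_range, Subgroup.mem_inf, Subgroup.mem_centralizer_singleton_iff,
      inndiag_eq_range]
    constructor
    · rintro ⟨u, rfl⟩
      refine ⟨⟨_, rfl⟩, ?_⟩
      rw [hψ, comm_graph_iff hn σ hσ1 hσ2 q₀ hq]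
      exact ⟨1, u.1, u.2, by rw [Units.val_one, one_smul]⟩
    · rintro ⟨⟨w, rfl⟩, hw⟩
      obtain ⟨μ, u, hu, huw⟩ := (comm_graph_iff hn σ hσ1 hσ2 q₀ hq w).mp hw
      refine ⟨⟨u, hu⟩, ?_⟩
      rw [hψ]
      have h2 : cAut (u * w⁻¹) = 1 := by
        apply cAut_eq_one_of_scalar _ μ
        rw [Units.val_mul, huw, Matrix.smul_mul]
        congr 1
        exact w.mul_inv
      rw [map_mul, map_inv, mul_inv_eq_one] at h2
      exact h2
  have hker : ψ.ker = (Cfsg.Geo.scalars (Fin n) F).subgroupOf (Cfsg.GU n F q₀) := by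
    ext u
    rw [MonoidHom.mem_ker, hψ, cAut_eq_one_iff hn, Subgroup.mem_subgroupOf, Cfsg.Geo.mem_scalars_iff]
  exact ⟨(MulEquiv.subgroupCongr hrange).symm.trans
    ((QuotientGroup.quotientKerEquivRange ψ).symm.trans (QuotientGroup.quotientMulEquivOfEq hker))⟩

theorem graph_field_std [Fintype F] {p f : ℕ} [Fact p.Prime] (hF : Fintype.card F = p ^ f)
    (x : MulAut (Matrix.ProjectiveSpecialLinearGroup (Fin n) F))
    (hx : Cfsg.IsGraphFieldAutClassPSL x) (hx2 : orderOf x = 2) :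
    ∃ (σ : F ≃+* F) (g : GL (Fin n) F), σ ≠ 1 ∧ σ * σ = 1 ∧
      x = cAut g * (fAut σ * gAut) * (cAut g)⁻¹ := by
  obtain ⟨hn3, α, φ, γ, σ, hσ, hφ, hγ, e⟩ := hx
  have hφ' := eq_fAut_of_isStd σ _ hφ
  have hγ' := eq_gAut_of_isInvT _ hγ
  subst hφ'; subst hγ'
  have hn2 : 2 ≤ n := by omega
  obtain ⟨g, hg⟩ := exists_cAut_conj hF hn2 α⁻¹ σ gAut (Or.inr rfl)
  refine ⟨σ, g, hσ, ?_, ?_⟩
  · have h1 : (fAut σ * gAut : MulAut (Matrix.ProjectiveSpecialLinearGroup (Fin n) F)) ^ 2 = 1 := by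
      rw [← e, ← hx2, ← orderOf_conj' α x]
      exact pow_orderOf_eq_one _
    have h2 : (fAut σ * gAut : MulAut (Matrix.ProjectiveSpecialLinearGroup (Fin n) F)) ^ 2
        = fAut (σ * σ) := by
      rw [pow_two, map_mul]
      calc fAut σ * gAut * (fAut σ * gAut) = fAut σ * (gAut * fAut σ) * gAut := by
            simp only [mul_assoc]
        _ = fAut σ * fAut σ * (gAut * gAut) := by rw [gAut_mul_fAut]; simp only [mul_assoc]
        _ = fAut σ * fAut σ := by rw [gAut_mul_self, mul_one]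
    rw [h2] at h1
    exact fAut_injective hn2 (by rw [h1, map_one])
  · have h1 : x = α⁻¹ * (fAut σ * gAut) * α⁻¹⁻¹ := by rw [← e]; group
    rw [h1, hg]

end graph2

/-- Let T = PSL_n(F) over the field F with p^f elements, n ≥ 3, and G = Inndiag(T) the image of PGL_n(F). If x is an involutory graph-field automorphism of T then f is even; x is G-conjugate to every other involutory graph-field automorphism; C_G(x) is isomorphic to the projective general unitary group PGU_n(q₀) with q₀² = p^f, realised over F itself through the Hermitian form Σ uᵢ vᵢ^{q₀}; and the G-class of x is the union of exactly gcd(n, q₀ − 1) T-classes. -/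
theorem result {F : Type*} [Field F] [Fintype F] {p f : ℕ} [Fact p.Prime] (hF : Fintype.card F = p ^ f) (hf : 1 ≤ f) {n : ℕ} (hn : 3 ≤ n) (x : MulAut (Matrix.ProjectiveSpecialLinearGroup (Fin n) F)) (hx : Cfsg.IsGraphFieldAutClassPSL x) (hx2 : orderOf x = 2) :
    Even f ∧ (∀ y : MulAut (Matrix.ProjectiveSpecialLinearGroup (Fin n) F), Cfsg.IsGraphFieldAutClassPSL y → orderOf y = 2 → Cfsg.IsConjUnder (Cfsg.inndiagPSL n F) x y) ∧ Nonempty (↥(Cfsg.inndiagPSL n F ⊓ Subgroup.centralizer {x}) ≃* Cfsg.PGU n F (p ^ (f / 2))) ∧ Cfsg.splitClassCount (Cfsg.inndiagPSL n F) (Cfsg.Inn (Matrix.ProjectiveSpecialLinearGroup (Fin n) F)) x = Nat.gcd n (p ^ (f / 2) - 1) := by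
  classical
  have hn2 : 2 ≤ n := by omega
  obtain ⟨σ, g, hσ1, hσ2, hxg⟩ := graph_field_std hF x hx hx2
  obtain ⟨hev, hq⟩ := frob_half hF hf σ hσ1 hσ2
  refine ⟨hev, ?_, ?_, ?_⟩
  · intro y hy hy2
    obtain ⟨σ', g', hσ1', hσ2', hyg⟩ := graph_field_std hF y hy hy2
    obtain ⟨-, hq'⟩ := frob_half hF hf σ' hσ1' hσ2'
    have hσσ : σ' = σ := by
      ext a
      rw [hq, hq']
    subst hσσ
    refine ⟨cAut (g' * g⁻¹), by rw [inndiag_eq_range]; exact ⟨_, rfl⟩, ?_⟩
    rw [hyg, hxg, map_mul, map_inv]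
    group
  · rw [hxg]
    obtain ⟨e1⟩ := centralizerInf_conj_equiv (Cfsg.inndiagPSL n F) (cAut g) (inndiag_conj_iff g)
      (fAut σ * gAut)
    obtain ⟨e2⟩ := cent_graph_equiv hn2 σ hσ1 hσ2 (p ^ (f / 2)) hq
    exact ⟨e1.trans e2⟩
  · rw [hxg, splitClassCount_conj _ _ (cAut g) (inndiag_conj_iff g) (inn_conj_iff (cAut g)),
      splitClassCount_eq_index ⟨0, by omega⟩]
    apply index_pow_mul_cyclic n _ (normU σ) (card_normU hF σ hσ1 hσ2)
    intro c
    exact mem_detCent_graph hn2 σ hσ1 hσ2 (p ^ (f / 2)) hq c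

end Cfsg.Agent.S2704
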