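import Cfsg.Statements.S2707
import Cfsg.Agent.Lib.helper50.PSUTransfer
import Cfsg.Agent.S2700

set_option autoImplicit false
open Cfsg

namespace Cfsg.Agent.S2707

/-- Let T = PSU_n(q) with n = 2m ≥ 4 even and q odd, realised over the field F with q² elements, and G = Inndiag(T) the image of PGU_n(q). The involutory graph automorphisms of T fall into exactly three G-classes, with representatives whose centralizers in G are isomorphic respectively to the projective conformal symplectic group PGSp_n(F₀), the projective conformal orthogonal group of the plus-type form Σ xᵢ yᵢ, and that of a minus-type form Σ xᵢ yᵢ + z₁² + a z₁ z₂ + b z₂² (anisotropic binary part) in dimension n, all over a field F₀ with q elements. -/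
theorem result {F : Type*} [Field F] [Fintype F] {q : ℕ} (hodd : Odd q) (hF : Fintype.card F = q ^ 2) {n m : ℕ} (hm : 2 ≤ m) (hnm : n = 2 * m) (F₀ : Type*) [Field F₀] [Fintype F₀] (hF₀ : Fintype.card F₀ = q) :
    ∃ (γ₁ γ₂ γ₃ : MulAut (Cfsg.PSU n F q)) (a b : F₀), (∀ z₁ z₂ : F₀, z₁ ^ 2 + a * z₁ * z₂ + b * z₂ ^ 2 = 0 → z₁ = 0 ∧ z₂ = 0) ∧ Cfsg.IsGraphAutClassPSU γ₁ ∧ orderOf γ₁ = 2 ∧ Cfsg.IsGraphAutClassPSU γ₂ ∧ orderOf γ₂ = 2 ∧ Cfsg.IsGraphAutClassPSU γ₃ ∧ orderOf γ₃ = 2 ∧ ¬ Cfsg.IsConjUnder (Cfsg.inndiagPSU n F q) γ₁ γ₂ ∧ ¬ Cfsg.IsConjUnder (Cfsg.inndiagPSU n F q) γ₁ γ₃ ∧ ¬ Cfsg.IsConjUnder (Cfsg.inndiagPSU n F q) γ₂ γ₃ ∧ (∀ γ : MulAut (Cfsg.PSU n F q), Cfsg.IsGraphAutClassPSU γ → orderOf γ = 2 → Cfsg.IsConjUnder (Cfsg.inndiagPSU n F q) γ₁ γ ∨ Cfsg.IsConjUnder (Cfsg.inndiagPSU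 n F q) γ₂ γ ∨ Cfsg.IsConjUnder (Cfsg.inndiagPSU n F q) γ₃ γ) ∧ Nonempty (↥(Cfsg.inndiagPSU n F q ⊓ Subgroup.centralizer {γ₁}) ≃* Cfsg.PGSp m F₀) ∧ Nonempty (↥(Cfsg.inndiagPSU n F q ⊓ Subgroup.centralizer {γ₂}) ≃* Cfsg.PGO F₀ (Cfsg.quadFormPlus m F₀)) ∧ Nonempty (↥(Cfsg.inndiagPSU n F q ⊓ Subgroup.centralizer {γ₃}) ≃* Cfsg.PGO F₀ (Cfsg.quadFormMinus (m - 1) F₀ a b)) := by
  have hn : 3 ≤ n := by omega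
  obtain ⟨R, h1, h2, h3, h4, -⟩ := Cfsg.Agent.Lib.helper50.psu_transfer (n := n) hF hF₀ hn
  have hodd' : Odd (Fintype.card F₀) := by rw [hF₀]; exact hodd
  obtain ⟨δ₁, δ₂, δ₃, a, b, hab, hg1, ho1, hg2, ho2, hg3, ho3, hn12, hn13, hn23, hall, ⟨c1⟩, ⟨c2⟩, ⟨c3⟩⟩ :=
    Cfsg.Agent.S2700.result (F := F₀) hodd' hm hnm
  obtain ⟨γ₁, hR1⟩ := h4 δ₁ hg1 ho1
  obtain ⟨γ₂, hR2⟩ := h4 δ₂ hg2 ho2
  obtain ⟨γ₃, hR3⟩ := h4 δ₃ hg3 ho3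
  obtain ⟨hG1, hO1, -, -, ⟨e1⟩⟩ := h1 γ₁ δ₁ hR1
  obtain ⟨hG2, hO2, -, -, ⟨e2⟩⟩ := h1 γ₂ δ₂ hR2
  obtain ⟨hG3, hO3, -, -, ⟨e3⟩⟩ := h1 γ₃ δ₃ hR3
  refine ⟨γ₁, γ₂, γ₃, a, b, hab, hG1, hO1, hG2, hO2, hG3, hO3, ?_, ?_, ?_, ?_, ⟨e1.trans c1⟩,
    ⟨e2.trans c2⟩, ⟨e3.trans c3⟩⟩
  · exact fun h => hn12 ((h2 γ₁ γ₂ δ₁ δ₂ hR1 hR2).mp h)
  · exact fun h => hn13 ((h2 γ₁ γ₃ δ₁ δ₃ hR1 hR3).mp h)
  · exact fun h => hn23 ((h2 γ₂ γ₃ δ₂ δ₃ hR2 hR3).mp h)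
  · intro γ hγ hγ2
    obtain ⟨δ, hRδ⟩ := h3 γ hγ hγ2
    obtain ⟨-, -, hgδ, hoδ, -⟩ := h1 γ δ hRδ
    rcases hall δ hgδ hoδ with h | h | h
    · exact Or.inl ((h2 γ₁ γ δ₁ δ hR1 hRδ).mpr h)
    · exact Or.inr (Or.inl ((h2 γ₂ γ δ₂ δ hR2 hRδ).mpr h))
    · exact Or.inr (Or.inr ((h2 γ₃ γ δ₃ δ hR3 hRδ).mpr h))

end Cfsg.Agent.S2707
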