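import Cfsg.Statements.S2708
import Cfsg.Agent.Lib.helper50.PSUTransfer
import Cfsg.Agent.S2701

set_option autoImplicit false
open Cfsg

namespace Cfsg.Agent.S2708

/-- Let T = PSU_n(q) with n = 2m ≥ 4 even and q even, realised over the field F (of characteristic 2) with q² elements, and G = Inndiag(T) the image of PGU_n(q). The involutory graph automorphisms of T fall into exactly two G-classes, with representatives whose centralizers in G are isomorphic respectively to the symplectic group Sp_n(F₀) and to the centralizer in Sp_n(F₀) of a symplectic transvection, F₀ a field with q elements. -/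
theorem result {F : Type*} [Field F] [Fintype F] [CharP F 2] {q : ℕ} (hF : Fintype.card F = q ^ 2) {n m : ℕ} (hm : 2 ≤ m) (hnm : n = 2 * m) (F₀ : Type*) [Field F₀] [Fintype F₀] (hF₀ : Fintype.card F₀ = q) :
    ∃ (γ₁ γ₃ : MulAut (Cfsg.PSU n F q)) (t : ↥(Matrix.symplecticGroup (Fin m) F₀)), Cfsg.IsTransvection (t : Matrix (Fin m ⊕ Fin m) (Fin m ⊕ Fin m) F₀) ∧ Cfsg.IsGraphAutClassPSU γ₁ ∧ orderOf γ₁ = 2 ∧ Cfsg.IsGraphAutClassPSU γ₃ ∧ orderOf γ₃ = 2 ∧ ¬ Cfsg.IsConjUnder (Cfsg.inndiagPSU n F q) γ₁ γ₃ ∧ (∀ γ : MulAut (Cfsg.PSU n F q), Cfsg.IsGraphAutClassPSU γ → orderOf γ = 2 → Cfsg.IsConjUnder (Cfsg.inndiagPSU n F q) γ₁ γ ∨ Cfsg.IsConjUnder (Cfsg.inndiagPSU n F q) γ₃ γ) ∧ Nonempty (↥(Cfsg.inndiagPSU n F q ⊓ Subgroup.centralizer {γ₁}) ≃* ↥(Matrix.symplecticGroup (Fin m) F₀)) ∧ Nonempty (↥(Cfsg.inndiagPSU n F q ⊓ Subgroup.centralizer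 {γ₃}) ≃* ↥(Subgroup.centralizer ({t} : Set ↥(Matrix.symplecticGroup (Fin m) F₀)))) := by
  have hn : 3 ≤ n := by omega
  obtain ⟨R, h1, h2, h3, h4, -⟩ := Cfsg.Agent.Lib.helper50.psu_transfer (n := n) hF hF₀ hn
  obtain ⟨ι⟩ := Cfsg.Agent.Lib.helper50.exists_ringHom_of_card_sq hF₀ hF
  haveI : CharP F₀ 2 := by
    have h2F : (2 : F) = 0 := CharTwo.two_eq_zero
    have h2' : (2 : F₀) = 0 := by
      apply ι.injective
      rw [map_ofNat, map_zero]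
      exact h2F
    exact CharTwo.of_one_ne_zero_of_two_eq_zero one_ne_zero h2'
  obtain ⟨δ₁, δ₃, t, ht, hg1, ho1, hg3, ho3, hn13, hall, ⟨c1⟩, ⟨c3⟩⟩ :=
    Cfsg.Agent.S2701.result (F := F₀) hm hnm
  obtain ⟨γ₁, hR1⟩ := h4 δ₁ hg1 ho1
  obtain ⟨γ₃, hR3⟩ := h4 δ₃ hg3 ho3
  obtain ⟨hG1, hO1, -, -, ⟨e1⟩⟩ := h1 γ₁ δ₁ hR1
  obtain ⟨hG3, hO3, -, -, ⟨e3⟩⟩ := h1 γ₃ δ₃ hR3
  refine ⟨γ₁, γ₃, t, ht, hG1, hO1, hG3, hO3, ?_, ?_, ⟨e1.trans c1⟩, ⟨e3.trans c3⟩⟩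
  · exact fun h => hn13 ((h2 γ₁ γ₃ δ₁ δ₃ hR1 hR3).mp h)
  · intro γ hγ hγ2
    obtain ⟨δ, hRδ⟩ := h3 γ hγ hγ2
    obtain ⟨-, -, hgδ, hoδ, -⟩ := h1 γ δ hRδ
    rcases hall δ hgδ hoδ with h | h
    · exact Or.inl ((h2 γ₁ γ δ₁ δ hR1 hRδ).mpr h)
    · exact Or.inr ((h2 γ₃ γ δ₃ δ hR3 hRδ).mpr h)

end Cfsg.Agent.S2708
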