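-- Statement S2709 (row 2709): class splitting of involutory graph automorphisms of PSU_n.
import Cfsg.Statements.S2709
import Cfsg.Agent.Lib.helper48.GraphSplitU
import Cfsg.Agent.Lib.helper17.OmRank2

set_option autoImplicit false
open Cfsg

namespace Cfsg.Agent.S2709

/-- Let T = PSU_n(q) be simple (n ≥ 3, (n,q) ≠ (3,2), q = p^f), realised over the field F with q² elements, G = Inndiag(T) the image of PGU_n(q), and γ an involutory graph automorphism of T. The G-class of γ is the union of exactly c T-classes, where: if n is even and q is odd, c = gcd(n/2, q + 1) when C_G(γ) is isomorphic to PGSp_n(F₀) for a field F₀ with q elements (symplectic type) and c = gcd(n, q + 1)/2 otherwise; and c = gcd(n, q + 1) when n is odd or q is even. -/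
theorem result {F : Type*} [Field F] [Fintype F] {p f q : ℕ} [Fact p.Prime] (hq : q = p ^ f) (hf : 1 ≤ f) (hF : Fintype.card F = q ^ 2) {n : ℕ} (hn : 3 ≤ n) (hs : ¬ (n = 3 ∧ q = 2)) (F₀ : Type*) [Field F₀] [Fintype F₀] (hF₀ : Fintype.card F₀ = q) (γ : MulAut (Cfsg.PSU n F q)) (hγ : Cfsg.IsGraphAutClassPSU γ) (hγ2 : orderOf γ = 2) :
    ((Even n ∧ Odd q ∧ Nonempty (↥(Cfsg.inndiagPSU n F q ⊓ Subgroup.centralizer {γ}) ≃* Cfsg.PGSp (n / 2) F₀)) → Cfsg.splitClassCount (Cfsg.inndiagPSU n F q) (Cfsg.Inn (Cfsg.PSU n F q)) γ = Nat.gcd (n / 2) (q + 1)) ∧ ((Even n ∧ Odd q ∧ ¬ Nonempty (↥(Cfsg.inndiagPSU n F q ⊓ Subgroup.centralizer {γ}) ≃* Cfsg.PGSp (n / 2) F₀)) → Cfsg.splitClassCount (Cfsg.inndiagPSU n F q) (Cfsg.Inn (Cfsg.PSU n F q)) γ = Nat.gcd n (q + 1) / 2) ∧ (¬ (Even n ∧ Odd q) → Cfsg.splitClassCount (Cfsg.inndiagPSU n F q) (Cfsg.Inn (Cfsg.PSU n F q)) γ = Nat.gcd n (q + 1)) := by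
  obtain ⟨σ, ι, δs, hσ, hι1, hι2, hδs0, hδs⟩ := Cfsg.Agent.Lib.helper50.exists_setup hF hF₀
  obtain ⟨A, rfl⟩ := Cfsg.Agent.Lib.helper50.exists_graphU_of_order_two hF hn σ hσ γ hγ hγ2
  rw [Cfsg.Agent.Lib.helper50.PSUF.splitClassCount_eq_index_U hF (by omega)]
  by_cases hcase : Even n ∧ Odd q
  · obtain ⟨hev, hqodd⟩ := hcase
    obtain ⟨m, hm⟩ := hev
    have hnm : n = 2 * m := by omega
    have hn2 : n / 2 = m := by omega
    have h2₀ : (2 : F₀) ≠ 0 :=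
      Cfsg.Agent.Lib.helper17.two_ne_zero_of_odd_card (by rw [hF₀]; exact hqodd)
    have h2 : (2 : F) ≠ 0 :=
      Cfsg.Agent.Lib.helper17.two_ne_zero_of_odd_card (by rw [hF]; exact hqodd.pow)
    rw [hn2]
    obtain ⟨A₀, hrel⟩ := Cfsg.Agent.Lib.helper50.exists_rel_of_GU hF hn σ hσ ι hι2 δs hδs0 hδs A hγ2
    obtain ⟨ec⟩ := Cfsg.Agent.Lib.helper50.rel_cent hF hn σ hσ ι hι1 hι2 δs hδs0 A A₀ hrel
    have hord := (Cfsg.Agent.Lib.helper50.rel_order hF hn σ hσ ι δs A A₀ hrel).2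
    rcases hrel with ⟨hsA, hsA₀, hcorr⟩ | ⟨-, hsA, hsA₀, hcorr⟩
    · have hno := Cfsg.Agent.Lib.helper48.GraphSplit.graph_sym_no_iso hF₀ hqodd h2₀ hnm hn A₀ hsA₀ hord
      have hno' : ¬ Nonempty (↥(Cfsg.inndiagPSU n F q
          ⊓ Subgroup.centralizer {Cfsg.Agent.Lib.helper50.graphU σ A}) ≃* Cfsg.PGSp m F₀) := by
        rintro ⟨ψ⟩
        exact hno ⟨ec.symm.trans ψ⟩
      exact ⟨fun h => absurd h.2.2 hno',
        fun _ => Cfsg.Agent.Lib.helper48.GraphSplitU.index_U_sym hF hn hnm hqodd σ hσ ι hι1 hι2 δs hδs0 hδs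
          h2 A A₀ hsA hsA₀ hcorr,
        fun h => absurd ⟨⟨m, hm⟩, hqodd⟩ h⟩
    · have halt := Cfsg.Agent.Lib.helper50.skew_alt h2₀ _ hsA₀
      obtain ⟨e⟩ : Nonempty (Fin n ≃ Fin m ⊕ Fin m) :=
        ⟨(finCongr (by omega : n = m + m)).trans finSumFinEquiv.symm⟩
      obtain ⟨ψ⟩ := Cfsg.Agent.Lib.helper48.GraphSplit.graph_alt_iso A₀ halt e
      exact ⟨fun _ => Cfsg.Agent.Lib.helper48.GraphSplitU.index_U_alt hF hn hnm σ hσ ι hι1 hι2 δs hδs0 hδs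
          h2 A A₀ hsA hsA₀ hcorr,
        fun h => absurd ⟨ec.trans ψ⟩ h.2.2,
        fun h => absurd ⟨⟨m, hm⟩, hqodd⟩ h⟩
  · refine ⟨fun h => absurd ⟨h.1, h.2.1⟩ hcase, fun h => absurd ⟨h.1, h.2.1⟩ hcase, fun _ => ?_⟩
    apply Cfsg.Agent.Lib.helper48.GraphSplitU.index_U_one hF hn σ hσ
    by_cases hev : Even n
    · right
      have hqe : ¬ Odd q := fun h => hcase ⟨hev, h⟩
      have hp2 : p = 2 := by
        rcases (Fact.out : p.Prime).eq_two_or_odd' with h | h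
        · exact h
        · exact absurd (by rw [hq]; exact h.pow) hqe
      subst hp2
      have hF' : Fintype.card F = 2 ^ (f * 2) := by rw [hF, hq, ← pow_mul]
      exact charP_of_card_eq_prime_pow hF'
    · left
      exact Nat.not_even_iff_odd.mp hev

end Cfsg.Agent.S2709
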