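import Cfsg.Statements.S2710
import Cfsg.Agent.Lib.helper50.PSUTransfer
import Cfsg.Agent.S2703

set_option autoImplicit false
open Cfsg

namespace Cfsg.Agent.S2710

/-- Let T = PSU_n(q) with n ≥ 4 divisible by 4 (n = 2m) and q odd, realised over the field F with q² elements, G = Inndiag(T) the image of PGU_n(q), and φ the standard field automorphism of T attached to the q-th power map of F (it induces inverse-transpose on the unitary matrices and is a graph automorphism). Its centralizer in G is isomorphic to the projective conformal orthogonal group of the plus-type form Σ xᵢ yᵢ in dimension n over a field F₀ with q elements. (Dimensions n ≡ 2 (mod 4) are not covered.) -/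
theorem result {F : Type*} [Field F] [Fintype F] {q : ℕ} (hodd : Odd q) (hF : Fintype.card F = q ^ 2) {n m : ℕ} (hm : 2 ≤ m) (hnm : n = 2 * m) (h4 : 4 ∣ n) (F₀ : Type*) [Field F₀] [Fintype F₀] (hF₀ : Fintype.card F₀ = q) (σ : F ≃+* F) (hσ : ∀ a : F, σ a = a ^ q) (φ : MulAut (Cfsg.PSU n F q)) (hφ : Cfsg.IsFieldAutPSUOf σ φ) :
    Nonempty (↥(Cfsg.inndiagPSU n F q ⊓ Subgroup.centralizer {φ}) ≃* Cfsg.PGO F₀ (Cfsg.quadFormPlus m F₀)) := by
  have hn : 3 ≤ n := by omega
  obtain ⟨R, h1, -, -, -, h5⟩ := Cfsg.Agent.Lib.helper50.psu_transfer (n := n) hF hF₀ hn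
  have hR := h5 σ φ Cfsg.Agent.Lib.helper50.iotaPSL hσ hφ Cfsg.Agent.Lib.helper50.iotaPSL_spec
  obtain ⟨-, -, -, -, ⟨e⟩⟩ := h1 φ _ hR
  have hodd' : Odd (Fintype.card F₀) := by rw [hF₀]; exact hodd
  obtain ⟨hplus, -⟩ := Cfsg.Agent.S2703.result (F := F₀) hodd' hm hnm Cfsg.Agent.Lib.helper50.iotaPSL
    Cfsg.Agent.Lib.helper50.iotaPSL_spec
  have heven : Even (n * (Fintype.card F₀ - 1) / 4) := by
    obtain ⟨k, rfl⟩ := h4
    obtain ⟨j, hj⟩ := hodd
    rw [hF₀, hj, Nat.add_sub_cancel, Nat.mul_assoc, Nat.mul_div_cancel_left _ (by norm_num : 0 < 4)]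
    exact ⟨k * j, by ring⟩
  obtain ⟨e'⟩ := hplus heven
  exact ⟨e.trans e'⟩

end Cfsg.Agent.S2710
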