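import Cfsg.Statements.S2712
import Cfsg.Agent.Lib.helper48.PSpSplit

set_option autoImplicit false
open Cfsg

namespace Cfsg.Agent.S2712

/-- Let T = PSp_{2m}(F) be simple over the field F with p^f elements (m ≥ 2, (2m, |F|) ≠ (4, 2)), G = Inndiag(T) the image of the projective conformal symplectic group PGSp_{2m}(F), and x a field automorphism of T of prime order r. Then r divides f; C_G(x) is isomorphic to PGSp_{2m}(F₀) for a field F₀ with p^(f/r) elements; and the G-class of x is the union of exactly gcd(gcd(2, p^f − 1), r) T-classes. -/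
theorem result {F : Type*} [Field F] [Fintype F] {p f : ℕ} [Fact p.Prime] (hF : Fintype.card F = p ^ f) (hf : 1 ≤ f) {m : ℕ} (hm : 2 ≤ m) (hs : m = 2 → 3 ≤ Fintype.card F) (x : MulAut (Cfsg.PSp m F)) (hx : Cfsg.IsFieldAutClassPSp x) {r : ℕ} (hr : r.Prime) (hxr : orderOf x = r) (F₀ : Type*) [Field F₀] [Fintype F₀] (hF₀ : Fintype.card F₀ = p ^ (f / r)) :
    r ∣ f ∧ Nonempty (↥(Cfsg.inndiagPSp m F ⊓ Subgroup.centralizer {x}) ≃* Cfsg.PGSp m F₀) ∧ Cfsg.splitClassCount (Cfsg.inndiagPSp m F) (Cfsg.Inn (Cfsg.PSp m F)) x = Nat.gcd (Nat.gcd 2 (p ^ f - 1)) r := by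
  have hp : p.Prime := Fact.out
  have ord_conj : ∀ a y : MulAut (Cfsg.PSp m F), orderOf (a * y * a⁻¹) = orderOf y := by
    intro a y
    have := MulEquiv.orderOf_eq (MulAut.conj a) y
    rwa [MulAut.conj_apply] at this
  obtain ⟨α, σ, hσ1, hstd⟩ := hx
  rw [Cfsg.Agent.Lib.helper48.PSp.isStd_iff] at hstd
  have hσr : orderOf σ = r := by
    have h1 : orderOf (Cfsg.Agent.Lib.helper48.PSp.fAut σ : MulAut (Cfsg.PSp m F)) = r := by
      rw [← hstd, ord_conj, hxr]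
    rw [← h1]
    exact (orderOf_injective Cfsg.Agent.Lib.helper48.PSp.fAut
      (Cfsg.Agent.Lib.helper48.PSp.fAut_injective hm) σ).symm
  obtain ⟨hrf, hK⟩ := Cfsg.Agent.Lib.helper48.Split.card_fixK hF σ hσr
  have hx' : x = α⁻¹ * Cfsg.Agent.Lib.helper48.PSp.fAut σ * α⁻¹⁻¹ := by rw [← hstd]; group
  have hnorm := Cfsg.Agent.Lib.helper48.PSp.inndiag_normal (F := F) hm
  have hG : ∀ g : MulAut (Cfsg.PSp m F), g ∈ Cfsg.inndiagPSp m F ↔
      α⁻¹ * g * α⁻¹⁻¹ ∈ Cfsg.inndiagPSp m F := by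
    intro g
    constructor
    · intro hg
      exact hnorm.conj_mem g hg α⁻¹
    · intro hg
      have h1 : g = α * (α⁻¹ * g * α⁻¹⁻¹) * α⁻¹ := by group
      rw [h1]
      exact hnorm.conj_mem _ hg α
  have hT : ∀ t : MulAut (Cfsg.PSp m F), t ∈ Cfsg.Inn (Cfsg.PSp m F) ↔
      α⁻¹ * t * α⁻¹⁻¹ ∈ Cfsg.Inn (Cfsg.PSp m F) := by
    intro t
    constructor
    · intro ht
      exact (Cfsg.innNormal _).conj_mem t ht α⁻¹
    · intro ht
      have h1 : t = α * (α⁻¹ * t * α⁻¹⁻¹) * α⁻¹ := by group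
      rw [h1]
      exact (Cfsg.innNormal _).conj_mem _ ht α
  refine ⟨hrf, ?_, ?_⟩
  · rw [hx']
    obtain ⟨e1⟩ := Cfsg.Agent.Lib.helper48.Split.centralizerInf_conj_equiv
      (Cfsg.inndiagPSp m F) α⁻¹ hG (Cfsg.Agent.Lib.helper48.PSp.fAut σ)
    obtain ⟨e2⟩ := Cfsg.Agent.Lib.helper48.PSp.cent_fAut_equiv_psp hm σ F₀ (by rw [hF₀, hK])
    exact ⟨e1.trans e2⟩
  · rw [hx', Cfsg.Agent.Lib.helper48.Split.splitClassCount_conj _ _ _ hG hT,
      Cfsg.Agent.Lib.helper48.PSp.splitClassCount_fAut_psp hF hm σ hσr]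
    exact Cfsg.Agent.Lib.helper48.PSp.gcd_two_arith hp hf hr hrf

end Cfsg.Agent.S2712
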