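import Cfsg.Statements.S2713
import Cfsg.Agent.Lib.helper48.PSpField

set_option autoImplicit false
open Cfsg

namespace Cfsg.Agent.S2713

/-- Let T = PSp_{2m}(F) be simple over a finite field (m ≥ 2, (2m, |F|) ≠ (4, 2)) and let x be a field automorphism of T of prime order r. Then an element y of the coset Inndiag(T)·x (y = δ x with δ in the image of the projective conformal symplectic group) has order r if and only if y is conjugate to x by an element of Inndiag(T). -/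
theorem result {F : Type*} [Field F] [Fintype F] {m : ℕ} (hm : 2 ≤ m) (hs : m = 2 → 3 ≤ Fintype.card F) (x δ : MulAut (Cfsg.PSp m F)) (hx : Cfsg.IsFieldAutClassPSp x) {r : ℕ} (hr : r.Prime) (hxr : orderOf x = r) (hδ : δ ∈ Cfsg.inndiagPSp m F) :
    orderOf (δ * x) = r ↔ Cfsg.IsConjUnder (Cfsg.inndiagPSp m F) x (δ * x) := by
  have ord_conj : ∀ a y : MulAut (Cfsg.PSp m F), orderOf (a * y * a⁻¹) = orderOf y := by
    intro a y
    have := MulEquiv.orderOf_eq (MulAut.conj a) y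
    rwa [MulAut.conj_apply] at this
  obtain ⟨α, σ, hσ1, hstd⟩ := hx
  rw [Cfsg.Agent.Lib.helper48.PSp.isStd_iff] at hstd
  constructor
  · intro hord
    have hσr : orderOf σ = r := by
      have h1 : orderOf (Cfsg.Agent.Lib.helper48.PSp.fAut σ : MulAut (Cfsg.PSp m F)) = r := by
        rw [← hstd, ord_conj, hxr]
      rw [← h1]
      exact (orderOf_injective Cfsg.Agent.Lib.helper48.PSp.fAut
        (Cfsg.Agent.Lib.helper48.PSp.fAut_injective hm) σ).symm
    rw [Cfsg.Agent.Lib.helper48.PSp.inndiag_eq] at hδ ⊢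
    obtain ⟨d, rfl⟩ := hδ
    obtain ⟨g, hg⟩ := Cfsg.Agent.Lib.helper48.PSp.conj_cAut_mem hm α d
    have hpow : (Cfsg.Agent.Lib.helper48.PSp.cAut g * Cfsg.Agent.Lib.helper48.PSp.fAut σ :
        MulAut (Cfsg.PSp m F)) ^ r = 1 := by
      have e0 : Cfsg.Agent.Lib.helper48.PSp.cAut g * Cfsg.Agent.Lib.helper48.PSp.fAut σ =
          α * (Cfsg.Agent.Lib.helper48.PSp.cAut d * x) * α⁻¹ := by
        rw [← hg, ← hstd]; group
      rw [e0, conj_pow, ← hord, pow_orderOf_eq_one, mul_one, mul_inv_cancel]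
    obtain ⟨h, hh⟩ := Cfsg.Agent.Lib.helper48.PSp.field_case hm σ r hr.pos hσr g hpow
    obtain ⟨h', hh'⟩ := Cfsg.Agent.Lib.helper48.PSp.conj_cAut_mem hm α⁻¹ h
    refine ⟨Cfsg.Agent.Lib.helper48.PSp.cAut h', ⟨h', rfl⟩, ?_⟩
    have e1 : Cfsg.Agent.Lib.helper48.PSp.cAut d =
        α⁻¹ * Cfsg.Agent.Lib.helper48.PSp.cAut g * α := by rw [← hg]; group
    have e2 : x = α⁻¹ * Cfsg.Agent.Lib.helper48.PSp.fAut σ * α := by rw [← hstd]; group
    have e3 : Cfsg.Agent.Lib.helper48.PSp.cAut h' =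
        α⁻¹ * Cfsg.Agent.Lib.helper48.PSp.cAut h * α := by rw [← hh']; group
    calc Cfsg.Agent.Lib.helper48.PSp.cAut d * x
        = α⁻¹ * (Cfsg.Agent.Lib.helper48.PSp.cAut g * Cfsg.Agent.Lib.helper48.PSp.fAut σ) * α := by
          rw [e1]; nth_rewrite 1 [e2]; group
      _ = α⁻¹ * (Cfsg.Agent.Lib.helper48.PSp.cAut h * Cfsg.Agent.Lib.helper48.PSp.fAut σ *
            (Cfsg.Agent.Lib.helper48.PSp.cAut h)⁻¹) * α := by rw [hh]
      _ = Cfsg.Agent.Lib.helper48.PSp.cAut h' * x * (Cfsg.Agent.Lib.helper48.PSp.cAut h')⁻¹ := by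
          rw [e3]; nth_rewrite 1 [e2]; group
  · rintro ⟨h, -, hh⟩
    rw [hh, ord_conj, hxr]

end Cfsg.Agent.S2713
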