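import Cfsg.Statements.S2714
import Cfsg.Agent.Lib.helper49.OddField6

set_option autoImplicit false
open Cfsg
open Cfsg.Agent.Lib.helper49.OddField

namespace Cfsg.Agent.S2714

/-- Let T = Ω_{2m+1}(F) (m ≥ 3, |F| = p^f odd; realised as PΩ of the form x₀² + Σ xᵢ yᵢ), G = Inndiag(T) the image of the conformal orthogonal group in Aut(T), and x a field automorphism of T of prime order r. Then r divides f; C_G(x) is isomorphic to Inndiag(Ω_{2m+1}(F₀)) for a field F₀ with p^(f/r) elements; and the G-class of x is a single T-class when r is odd and the union of exactly two T-classes when r = 2. -/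
theorem result {F : Type*} [Field F] [Fintype F] {p f : ℕ} [Fact p.Prime] (hF : Fintype.card F = p ^ f) (hf : 1 ≤ f) (hodd : Odd (Fintype.card F)) {m : ℕ} (hm : 3 ≤ m) (x : MulAut (Cfsg.POmega F (Cfsg.quadFormOdd m F))) (hx : Cfsg.IsFieldAutClassPOmega (Cfsg.quadFormOdd m F) x) {r : ℕ} (hr : r.Prime) (hxr : orderOf x = r) (F₀ : Type*) [Field F₀] [Fintype F₀] (hF₀ : Fintype.card F₀ = p ^ (f / r)) :
    r ∣ f ∧ Nonempty (↥(Cfsg.inndiagPOmegaOdd m F ⊓ Subgroup.centralizer {x}) ≃* ↥(Cfsg.inndiagPOmegaOdd m F₀)) ∧ (Odd r → Cfsg.splitClassCount (Cfsg.inndiagPOmegaOdd m F) (Cfsg.Inn (Cfsg.POmega F (Cfsg.quadFormOdd m F))) x = 1) ∧ (r = 2 → Cfsg.splitClassCount (Cfsg.inndiagPOmegaOdd m F) (Cfsg.Inn (Cfsg.POmega F (Cfsg.quadFormOdd m F))) x = 2) := by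
  have h2 : (2 : F) ≠ 0 := Cfsg.Agent.Lib.helper17.two_ne_zero_of_odd_card hodd
  have hQ := Cfsg.Agent.Lib.helper17.oddForm_nondeg17 h2 m
  have hcard := card_oddIdx m
  have h5 : 5 ≤ Fintype.card (Unit ⊕ (Fin m ⊕ Fin m)) := by rw [hcard]; omega
  obtain ⟨α, φ, σ, hσ1, hφ, hαx⟩ := hx
  have hφr : φ ^ r = 1 := by
    rw [← hαx, conj_pow, ← hxr, pow_orderOf_eq_one, mul_one, mul_inv_cancel]
  have hσr : orderOf σ = r := by
    obtain ⟨p1, i1⟩ := field_induced m σ φ hφ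
    have hpr := pair_pow (quadFormOdd m F) 1 σ p1 r
    have hir := induced_pow (quadFormOdd m F) 1 σ p1 φ i1 r
    rw [hφr] at hir
    have hσr : σ ^ r = 1 :=
      RingEquiv.ext (Cfsg.Agent.Lib.helper42.sigma_fix_of_induced_one h2
        (Cfsg.Agent.Lib.helper49.oddForm m F) hQ (Cfsg.Agent.Lib.helper49.AutOm.oddFrame m hm) h5
        (NkGL σ 1 r) (σ ^ r) hpr hir)
    have := Fact.mk hr
    exact orderOf_eq_prime hσr hσ1
  obtain ⟨hrf, hK⟩ := Cfsg.Agent.Lib.helper48.Split.card_fixK hF σ hσr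
  have hx' : x = α⁻¹ * φ * α⁻¹⁻¹ := by rw [← hαx]; group
  have hG : ∀ g : MulAut (Cfsg.POmega F (Cfsg.quadFormOdd m F)),
      g ∈ Cfsg.inndiagPOmegaOdd m F ↔ α⁻¹ * g * α⁻¹⁻¹ ∈ Cfsg.inndiagPOmegaOdd m F :=
    fun g => inndiagOdd_conj_iff hodd hm α⁻¹ g
  have hT : ∀ t : MulAut (Cfsg.POmega F (Cfsg.quadFormOdd m F)),
      t ∈ Cfsg.Inn (Cfsg.POmega F (Cfsg.quadFormOdd m F)) ↔
        α⁻¹ * t * α⁻¹⁻¹ ∈ Cfsg.Inn (Cfsg.POmega F (Cfsg.quadFormOdd m F)) :=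
    fun t => inn_conj_iff' α⁻¹ t
  refine ⟨hrf, ?_, ?_, ?_⟩
  · rw [hx']
    obtain ⟨e1⟩ := Cfsg.Agent.Lib.helper48.Split.centralizerInf_conj_equiv
      (Cfsg.inndiagPOmegaOdd m F) α⁻¹ hG φ
    obtain ⟨e2⟩ := cent_field_odd h2 hm σ φ hφ F₀ (by rw [hF₀, hK])
    exact ⟨e1.trans e2⟩
  · intro hrodd
    rw [hx', Cfsg.Agent.Lib.helper48.Split.splitClassCount_conj _ _ _ hG hT]
    obtain ⟨c, hc, hns⟩ := exists_fixed_nonsquare_of_odd h2 σ hrodd
      (by rw [← hσr]; exact pow_orderOf_eq_one σ)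
    exact count_field_one h2 hm σ φ hφ c hc hns
  · intro hr2
    rw [hx', Cfsg.Agent.Lib.helper48.Split.splitClassCount_conj _ _ _ hG hT]
    exact count_field_two h2 hm σ φ hφ
      (fun y hy => fixed_isSquare_of_order_two hF h2 σ (by rw [hσr, hr2]) y hy)

end Cfsg.Agent.S2714
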