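-- Statement S2720 (row 2720).
import Cfsg.Statements.S2720
import Cfsg.Agent.Lib.helper42.OddClassB
import Cfsg.Agent.Lib.helper42.InndiagPlus
import Cfsg.Agent.S2722

set_option autoImplicit false
open Cfsg

namespace Cfsg.Agent.S2720

open Cfsg.Agent.Lib.helper42 Cfsg.Agent.Lib.helper49 Matrix

theorem isConjUnder_mono {X : Type*} [Group X] {K L : Subgroup X} (hKL : K ≤ L) {x y : X}
    (h : Cfsg.IsConjUnder K x y) : Cfsg.IsConjUnder L x y := by
  obtain ⟨g, hg, e⟩ := h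
  exact ⟨g, hKL hg, e⟩

set_option maxHeartbeats 4000000 in
/-- Let T = PΩ⁺_{2m}(F) (m ≥ 4, F finite of odd characteristic p), G = Inndiag(T), and let x be an automorphism of T induced by a similarity of the form (an element of the image G̃ of the conformal orthogonal group) of odd prime order r ≠ p. Then the T-class, the PSO-class and the G-class of x coincide (conjugacy under inner automorphisms, under the image of the special orthogonal group, and under G), and the PO-class of x coincides with its G̃-class. (In characteristic 2 the first equality fails: there the special orthogonal group is the full orthogonal group and some such classes split.) -/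
theorem result {F : Type*} [Field F] [Fintype F] {p : ℕ} [Fact p.Prime] [CharP F p] (hp : p ≠ 2) {m : ℕ} (hm : 4 ≤ m) (x : MulAut (Cfsg.POmega F (Cfsg.quadFormPlus m F))) (hx : x ∈ Cfsg.pgoAut F (Cfsg.quadFormPlus m F)) {r : ℕ} (hr : r.Prime) (hro : Odd r) (hrp : r ≠ p) (hxr : orderOf x = r) :
    (∀ y : MulAut (Cfsg.POmega F (Cfsg.quadFormPlus m F)), (Cfsg.IsConjUnder (Cfsg.Inn (Cfsg.POmega F (Cfsg.quadFormPlus m F))) x y ↔ Cfsg.IsConjUnder (Cfsg.inndiagPOmegaPlus m F) x y) ∧ (Cfsg.IsConjUnder (Cfsg.psoAut F (Cfsg.quadFormPlus m F)) x y ↔ Cfsg.IsConjUnder (Cfsg.inndiagPOmegaPlus m F) x y)) ∧ (∀ y : MulAut (Cfsg.POmega F (Cfsg.quadFormPlus m F)), Cfsg.IsConjUnder (Cfsg.poAut F (Cfsg.quadFormPlus m F)) x y ↔ Cfsg.IsConjUnder (Cfsg.pgoAut F (Cfsg.quadFormPlus m F)) x y) := by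
  have hodd : Odd (Fintype.card F) := by
    rw [← Nat.not_even_iff_odd, Nat.even_iff]
    have h := FiniteField.odd_card_of_char_ne_two (F := F) (by rw [ringChar.eq F p]; exact hp)
    omega
  have h2 := two_ne_zero_of_odd_card hodd
  have hrF : (r : F) ≠ 0 := by
    intro h
    rw [CharP.cast_eq_zero_iff F p r] at h
    rcases (Nat.dvd_prime hr).mp h with h1 | h1
    · exact (Fact.out : p.Prime).one_lt.ne' h1
    · exact hrp h1.symm
  have hm3 : 3 ≤ m := by omega
  obtain ⟨c, hc⟩ := Cfsg.Agent.S2722.exists_nonsquare_unit h2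
  have hQf : ⇑(plusForm m F) = Cfsg.quadFormPlus m F := rfl
  have hQ := plusForm_nondegenerate (F := F) m
  have h5 : 5 ≤ Fintype.card (Fin m ⊕ Fin m) := by
    rw [card_sum_fin]
    omega
  have hcard : Fintype.card (Fin m ⊕ Fin m) = 2 * m := card_sum_fin m
  have heven : Even (Fintype.card (Fin m ⊕ Fin m)) := ⟨m, by rw [hcard]; ring⟩
  have hgen : Cfsg.Agent.Lib.helper17.reflSubgroup (plusForm m F) = ⊤ :=
    reflSubgroup_plusForm_eq_top hodd m
  have hx1 : x ≠ 1 := by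
    intro h
    rw [h, orderOf_one] at hxr
    exact hr.one_lt.ne hxr
  obtain ⟨x', hx'⟩ : ∃ x' : MulAut (POmega F ⇑(plusForm m F)), x' = x := ⟨x, rfl⟩
  subst hx'
  have hxr' : x' ^ r = 1 := by
    rw [← hxr]
    exact pow_orderOf_eq_one x'
  obtain ⟨s, hs, hsx, hsr⟩ := exists_special_of_odd_order h2 (plusForm m F) hQ
    (plusFrame m hm3) h5 heven x' hx hro hxr'
  have hs1 : s ≠ 1 := by
    intro h
    apply hx1
    rw [← hsx, h]
    exact map_one _
  obtain ⟨H, hHs, hHm, hHδ⟩ := exists_commuting_sim h2 (plusForm m F) hQ hgen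
    (plusFrame m hm3) m hcard s hs hro hrF hsr c
  have hHns : ¬ IsSquare ((mult ⇑(plusForm m F) H : Fˣ) : F) := by
    rw [hHm]
    exact hc
  have hHx : PsiAut ⇑(plusForm m F) H * x' = x' * PsiAut ⇑(plusForm m F) H := by
    rw [← hsx, ← map_mul, ← map_mul, hHs]
  have hinn : inndiagPOmegaPlus m F
      = inndiagGen ⇑(plusForm m F) _ (plusFrame m hm3).Q_x1_ne :=
    inndiagPOmegaPlus_eq hodd m _ _
  have hwit : (¬ ∃ w : ↥(Omega F ⇑(plusForm m F)),
      (((w : ↥(isometryGroup F ⇑(plusForm m F))) : GL (Fin m ⊕ Fin m) F)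
        : Matrix (Fin m ⊕ Fin m) (Fin m ⊕ Fin m) F) = -1) ∨
      ∃ z ∈ psoAut F ⇑(plusForm m F), z ∉ Inn (POmega F ⇑(plusForm m F)) ∧ z * x' = x' * z := by
    by_cases hneg : ∃ w : ↥(Omega F ⇑(plusForm m F)),
        (((w : ↥(isometryGroup F ⇑(plusForm m F))) : GL (Fin m ⊕ Fin m) F)
          : Matrix (Fin m ⊕ Fin m) (Fin m ⊕ Fin m) F) = -1
    · right
      obtain ⟨z, hz1, hz2, hz3⟩ := exists_pso_witness h2 (plusForm m F) hQ hgen (plusFrame m hm3) h5
        hneg s hs hro hrF hsr hs1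
      rw [hsx] at hz3
      exact ⟨z, hz1, hz2, hz3⟩
    · left
      exact hneg
  have key1 : ∀ y : MulAut (Cfsg.POmega F (Cfsg.quadFormPlus m F)),
      Cfsg.IsConjUnder (Cfsg.inndiagPOmegaPlus m F) x' y →
        Cfsg.IsConjUnder (Cfsg.Inn (Cfsg.POmega F (Cfsg.quadFormPlus m F))) x' y := by
    rintro y ⟨g', hg', rfl⟩
    rw [hinn] at hg'
    obtain ⟨g, hgδ, rfl⟩ := hg'
    obtain ⟨o, ho, hog⟩ := conj_reduce_special h2 (plusForm m F) hQ heven _
      (plusFrame m hm3).Q_x1_ne x' H hHx hHδ hHns g (MonoidHom.mem_ker.mp hgδ)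
    have hopso : PsiAut ⇑(plusForm m F) o ∈ psoAut F ⇑(plusForm m F) := by
      rw [psoAut_eq, mem_img]
      exact ⟨o, ho, rfl⟩
    obtain ⟨t, ht, htx⟩ := conj_special_to_inn h2 (plusForm m F) hQ (plusFrame m hm3) h5
      heven x' hwit _ hopso
    exact ⟨t, ht, hog.trans htx⟩
  have key2 : ∀ y : MulAut (Cfsg.POmega F (Cfsg.quadFormPlus m F)),
      Cfsg.IsConjUnder (Cfsg.pgoAut F (Cfsg.quadFormPlus m F)) x' y →
        Cfsg.IsConjUnder (Cfsg.poAut F (Cfsg.quadFormPlus m F)) x' y := by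
    rintro y ⟨g', hg', rfl⟩
    obtain ⟨g₂, hg₂⟩ : ∃ g₂ : MulAut (POmega F ⇑(plusForm m F)), g₂ = g' := ⟨g', rfl⟩
    subst hg₂
    have hg'' : g₂ ∈ pgoAut F ⇑(plusForm m F) := hg'
    rw [pgoAut_eq, mem_img] at hg''
    obtain ⟨g, -, rfl⟩ := hg''
    obtain ⟨o, ho, hog⟩ := conj_reduce_isom (plusForm m F) _
      (plusFrame m hm3).Q_x1_ne x' H hHx hHns g
    have hopo : PsiAut ⇑(plusForm m F) o ∈ poAut F ⇑(plusForm m F) := by
      rw [poAut_eq, mem_img]
      exact ⟨o, ho, rfl⟩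
    exact ⟨PsiAut ⇑(plusForm m F) o, hopo, hog⟩
  have hIP : Cfsg.Inn (Cfsg.POmega F (Cfsg.quadFormPlus m F))
      ≤ Cfsg.psoAut F (Cfsg.quadFormPlus m F) := Inn_le_psoAut _
  have hPD : Cfsg.psoAut F (Cfsg.quadFormPlus m F) ≤ Cfsg.inndiagPOmegaPlus m F := by
    rw [hinn]
    exact psoAut_le_inndiagGen h2 (plusForm m F) hQ heven _ _
  have hOG : Cfsg.poAut F (Cfsg.quadFormPlus m F) ≤ Cfsg.pgoAut F (Cfsg.quadFormPlus m F) := by
    have h : poAut F ⇑(plusForm m F) ≤ pgoAut F ⇑(plusForm m F) := by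
      rw [poAut_eq, pgoAut_eq]
      exact img_mono _ (isometryGroup_le_similarity _)
    exact h
  refine ⟨fun y => ⟨⟨fun h => isConjUnder_mono (hIP.trans hPD) h, key1 y⟩,
    ⟨fun h => isConjUnder_mono hPD h, fun h => isConjUnder_mono hIP (key1 y h)⟩⟩,
    fun y => ⟨fun h => isConjUnder_mono hOG h, key2 y⟩⟩

end Cfsg.Agent.S2720
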