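-- Statement S2726 (row 2726).
import Cfsg.Statements.S2726
import Cfsg.Agent.S2722

set_option autoImplicit false
open Cfsg

namespace Cfsg.Agent.S2726

open Cfsg.Agent.Lib.helper42 Cfsg.Agent.Lib.helper49

/-- Let T = PΩ⁻_{2m+2}(F) with m ≥ 3 and |F| = q odd (form with anisotropic binary part). Inside Aut(T), the image G̃ of the conformal orthogonal group of the form modulo the image of the special orthogonal group is elementary abelian of order 4. -/
theorem result {F : Type*} [Field F] [Fintype F] (hodd : Odd (Fintype.card F)) {m : ℕ} (hm : 3 ≤ m) (a b : F) (hab : (∀ z₁ z₂ : F, z₁ ^ 2 + a * z₁ * z₂ + b * z₂ ^ 2 = 0 → z₁ = 0 ∧ z₂ = 0)) :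
    (∃ φ : ↥(Cfsg.pgoAut F (Cfsg.quadFormMinus m F a b)) →* Multiplicative (ZMod 2 × ZMod 2), Function.Surjective φ ∧ φ.ker = (Cfsg.psoAut F (Cfsg.quadFormMinus m F a b)).subgroupOf (Cfsg.pgoAut F (Cfsg.quadFormMinus m F a b))) := by
  have h2 := two_ne_zero_of_odd_card hodd
  have hcard : Fintype.card ((Fin m ⊕ Fin m) ⊕ Fin 2) = 2 * m + 2 := by
    simp only [Fintype.card_sum, Fintype.card_fin]
    omega
  obtain ⟨c, hc⟩ := Cfsg.Agent.S2722.exists_nonsquare_unit h2
  obtain ⟨s₀, hs₀⟩ := exists_similarity_minus h2 m a b hab c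
  exact pgo_mod_pso_klein h2 (minusForm m F a b) (minusForm_nondegenerate m a b hab) (minusFrame' m hm a b)
    (by rw [hcard]; omega) (by rw [hcard]; exact ⟨m + 1, by ring⟩) s₀ c hc hs₀

end Cfsg.Agent.S2726
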