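import Cfsg.Statements.S2738
import Mathlib

set_option autoImplicit false
open Cfsg

namespace Cfsg.Agent.S2738

open Matrix in
/-- an involution-free criterion: any element of square one lies in every complement of the
centre, when the centre has order three. -/
theorem mem_complement_of_sq_eq_one {G : Type*} [Group G] (K : Subgroup G)
    (hK : Subgroup.IsComplement' (Subgroup.center G) K) (hc : Nat.card ↥(Subgroup.center G) = 3)
    (t : G) (ht : t * t = 1) : t ∈ K := by
  have hbij := hK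
  rw [Subgroup.isComplement'_def, Subgroup.isComplement_iff_bijective] at hbij
  obtain ⟨⟨z, k⟩, hzk⟩ := hbij.2 t
  have hzk' : (z : G) * (k : G) = t := hzk
  have hzc : ∀ g : G, g * (z : G) = (z : G) * g := fun g => Subgroup.mem_center_iff.mp z.2 g
  have h1 : ((z * z : ↥(Subgroup.center G)) : G) * ((k * k : ↥K) : G) = ((1 : ↥(Subgroup.center G)) : G) * ((1 : ↥K) : G) := by
    simp only [Subgroup.coe_mul, Subgroup.coe_one, mul_one]
    calc (z : G) * z * (k * k) = (z : G) * ((z : G) * k) * k := by group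
      _ = (z : G) * (k * (z : G)) * k := by rw [hzc k]
      _ = ((z : G) * k) * ((z : G) * k) := by group
      _ = 1 := by rw [hzk', ht]
  have h2 : ((z * z, k * k) : ↥(Subgroup.center G) × ↥K) = (1, 1) := hbij.1 h1
  have hz2 : z * z = 1 := (Prod.ext_iff.mp h2).1
  have hz3 : z ^ 3 = 1 := by
    have := pow_card_eq_one' (G := ↥(Subgroup.center G)) (x := z)
    rwa [hc] at this
  have hz1 : z = 1 := by
    have : z ^ 3 = z * z * z := by rw [pow_succ, pow_two]
    rw [this, hz2, one_mul] at hz3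
    exact hz3
  rw [← hzk', hz1]
  simpa using k.2

/-- The special linear group SL(3, 4) has centre of order 3 and does not split over it: no subgroup is a complement to the centre (so SL(3, 4) is a non-split central extension of PSL(3, 4) by a group of order 3). -/
theorem result (F : Type*) [Field F] [Fintype F] (hF : Fintype.card F = 4) : Nat.card ↥(Subgroup.center (Matrix.SpecialLinearGroup (Fin 3) F)) = 3 ∧ ¬ ∃ K : Subgroup (Matrix.SpecialLinearGroup (Fin 3) F), Subgroup.IsComplement' (Subgroup.center (Matrix.SpecialLinearGroup (Fin 3) F)) K := by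
  classical
  have h4 : (4 : F) = 0 := by
    have := Nat.cast_card_eq_zero F
    rw [hF] at this
    exact_mod_cast this
  have h2 : (2 : F) = 0 := by
    have h22 : (2 : F) * 2 = 0 := by
      have : (2 : F) * 2 = 4 := by norm_num
      rw [this, h4]
    exact mul_self_eq_zero.mp h22
  obtain ⟨ω, hω0, hω1⟩ : ∃ ω : F, ω ≠ 0 ∧ ω ≠ 1 := by
    by_contra hcon
    push Not at hcon
    have hsub : (Finset.univ : Finset F) ⊆ {0, 1} := by
      intro x _
      by_cases hx : x = 0
      · simp [hx]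
      · simp [hcon x hx]
    have hle := Finset.card_le_card hsub
    rw [Finset.card_univ, hF] at hle
    have h' : ({0, 1} : Finset F).card ≤ 2 := Finset.card_le_two
    omega
  have hω3 : ω ^ 3 = 1 := by
    have := FiniteField.pow_card_sub_one_eq_one ω hω0
    rwa [hF] at this
  have hcard : Nat.card ↥(Subgroup.center (Matrix.SpecialLinearGroup (Fin 3) F)) = 3 := by
    rw [Nat.card_congr (Matrix.SpecialLinearGroup.center_equiv_rootsOfUnity' (0 : Fin 3)).toEquiv]
    have htop : rootsOfUnity (Fintype.card (Fin 3)) F = ⊤ := by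
      rw [eq_top_iff]
      intro u _
      rw [mem_rootsOfUnity]
      simp only [Fintype.card_fin]
      have hu : (u : F) ^ 3 = 1 := by
        have := FiniteField.pow_card_sub_one_eq_one (u : F) u.ne_zero
        rwa [hF] at this
      exact Units.ext (by simpa using hu)
    rw [htop, Subgroup.card_top, Nat.card_eq_fintype_card, Fintype.card_units, hF]
  refine ⟨hcard, ?_⟩
  rintro ⟨K, hK⟩
  -- four involutions
  have hd1 : (!![0, ω, 0; ω ^ 2, 0, 0; 0, 0, 1] : Matrix (Fin 3) (Fin 3) F).det = 1 := by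
    rw [Matrix.det_fin_three]
    simp
    linear_combination (-1 : F) * hω3 - h2
  have hd2 : (!![0, 1, 0; 1, 0, 0; 0, 0, 1] : Matrix (Fin 3) (Fin 3) F).det = 1 := by
    rw [Matrix.det_fin_three]
    simp
    linear_combination (-1 : F) * h2
  have hd3 : (!![1, 0, 0; 0, 0, ω ^ 2; 0, ω, 0] : Matrix (Fin 3) (Fin 3) F).det = 1 := by
    rw [Matrix.det_fin_three]
    simp
    linear_combination (-1 : F) * hω3 - h2
  have hd4 : (!![1, 0, 0; 0, 0, 1; 0, 1, 0] : Matrix (Fin 3) (Fin 3) F).det = 1 := by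
    rw [Matrix.det_fin_three]
    simp
    linear_combination (-1 : F) * h2
  let A₁ : Matrix.SpecialLinearGroup (Fin 3) F := ⟨_, hd1⟩
  let A₂ : Matrix.SpecialLinearGroup (Fin 3) F := ⟨_, hd2⟩
  let A₃ : Matrix.SpecialLinearGroup (Fin 3) F := ⟨_, hd3⟩
  let A₄ : Matrix.SpecialLinearGroup (Fin 3) F := ⟨_, hd4⟩
  have hA₁ : A₁ * A₁ = 1 := by
    apply Subtype.ext
    change (!![0, ω, 0; ω ^ 2, 0, 0; 0, 0, 1] : Matrix (Fin 3) (Fin 3) F) *
      !![0, ω, 0; ω ^ 2, 0, 0; 0, 0, 1] = 1
    ext i j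
    fin_cases i <;> fin_cases j <;>
      simp [Matrix.mul_apply, Fin.sum_univ_three, Matrix.one_apply] <;>
      linear_combination hω3
  have hA₂ : A₂ * A₂ = 1 := by
    apply Subtype.ext
    change (!![0, 1, 0; 1, 0, 0; 0, 0, 1] : Matrix (Fin 3) (Fin 3) F) *
      !![0, 1, 0; 1, 0, 0; 0, 0, 1] = 1
    ext i j
    fin_cases i <;> fin_cases j <;>
      simp [Matrix.mul_apply, Fin.sum_univ_three, Matrix.one_apply]
  have hA₃ : A₃ * A₃ = 1 := by
    apply Subtype.ext
    change (!![1, 0, 0; 0, 0, ω ^ 2; 0, ω, 0] : Matrix (Fin 3) (Fin 3) F) *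
      !![1, 0, 0; 0, 0, ω ^ 2; 0, ω, 0] = 1
    ext i j
    fin_cases i <;> fin_cases j <;>
      simp [Matrix.mul_apply, Fin.sum_univ_three, Matrix.one_apply] <;>
      linear_combination hω3
  have hA₄ : A₄ * A₄ = 1 := by
    apply Subtype.ext
    change (!![1, 0, 0; 0, 0, 1; 0, 1, 0] : Matrix (Fin 3) (Fin 3) F) *
      !![1, 0, 0; 0, 0, 1; 0, 1, 0] = 1
    ext i j
    fin_cases i <;> fin_cases j <;>
      simp [Matrix.mul_apply, Fin.sum_univ_three, Matrix.one_apply]
  have hprod : ((A₁ * A₂ * A₃ * A₄ : Matrix.SpecialLinearGroup (Fin 3) F) :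
      Matrix (Fin 3) (Fin 3) F) = Matrix.scalar (Fin 3) ω := by
    change (!![0, ω, 0; ω ^ 2, 0, 0; 0, 0, 1] : Matrix (Fin 3) (Fin 3) F) *
      !![0, 1, 0; 1, 0, 0; 0, 0, 1] * !![1, 0, 0; 0, 0, ω ^ 2; 0, ω, 0] *
      !![1, 0, 0; 0, 0, 1; 0, 1, 0] = Matrix.scalar (Fin 3) ω
    ext i j
    fin_cases i <;> fin_cases j <;>
      simp [Matrix.mul_apply, Fin.sum_univ_three, Matrix.scalar_apply, Matrix.diagonal_apply] <;>
      linear_combination ω * hω3
  have hmemK : A₁ * A₂ * A₃ * A₄ ∈ K := by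
    have m1 := mem_complement_of_sq_eq_one K hK hcard A₁ hA₁
    have m2 := mem_complement_of_sq_eq_one K hK hcard A₂ hA₂
    have m3 := mem_complement_of_sq_eq_one K hK hcard A₃ hA₃
    have m4 := mem_complement_of_sq_eq_one K hK hcard A₄ hA₄
    exact K.mul_mem (K.mul_mem (K.mul_mem m1 m2) m3) m4
  have hmemZ : A₁ * A₂ * A₃ * A₄ ∈ Subgroup.center (Matrix.SpecialLinearGroup (Fin 3) F) := by
    rw [Matrix.SpecialLinearGroup.mem_center_iff]
    exact ⟨ω, by simpa using hω3, hprod.symm⟩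
  have hbot : A₁ * A₂ * A₃ * A₄ ∈
      Subgroup.center (Matrix.SpecialLinearGroup (Fin 3) F) ⊓ K := ⟨hmemZ, hmemK⟩
  rw [hK.disjoint.eq_bot, Subgroup.mem_bot] at hbot
  have h00 : ((A₁ * A₂ * A₃ * A₄ : Matrix.SpecialLinearGroup (Fin 3) F) :
      Matrix (Fin 3) (Fin 3) F) 0 0 = 1 := by
    rw [hbot]; simp
  rw [hprod] at h00
  simp [Matrix.scalar_apply] at h00
  exact hω1 h00

end Cfsg.Agent.S2738
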