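import Cfsg.Statements.S2739
import Cfsg.Agent.Lib.helper51.Order3

set_option autoImplicit false
open scoped Pointwise
open Cfsg

namespace Cfsg.Agent.S2739

open Cfsg.Agent.Lib.helper51

/-- In the projective special linear group PSL(3, 4) all subgroups of order 3 are conjugate. -/
theorem result (F : Type*) [Field F] [Fintype F] (hF : Fintype.card F = 4) (X Y : Subgroup (Matrix.ProjectiveSpecialLinearGroup (Fin 3) F)) (hX : Nat.card ↥X = 3) (hY : Nat.card ↥Y = 3) : ∃ g : Matrix.ProjectiveSpecialLinearGroup (Fin 3) F, MulAut.conj g • X = Y := by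
  classical
  obtain ⟨ω, hω⟩ := exists_omega_of_card_four hF
  have hω3 : ω ^ 3 = 1 := by linear_combination (ω - 1) * hω
  obtain ⟨D, hD⟩ : ∃ D : Matrix.SpecialLinearGroup (Fin 3) F,
      D.1 = Matrix.diagonal ![1, ω, ω ^ 2] :=
    ⟨⟨Matrix.diagonal ![1, ω, ω ^ 2], by
      rw [Matrix.det_diagonal, Fin.prod_univ_three]
      simp
      linear_combination hω3⟩, rfl⟩
  have key : ∀ X : Subgroup (Matrix.ProjectiveSpecialLinearGroup (Fin 3) F), Nat.card ↥X = 3 →
      ∃ g : Matrix.ProjectiveSpecialLinearGroup (Fin 3) F,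
        MulAut.conj g • X = Subgroup.zpowers (QuotientGroup.mk D) := by
    intro X hX
    have hp3 : Fact (Nat.Prime 3) := ⟨Nat.prime_three⟩
    have hfin : Finite ↥X := Nat.finite_of_card_ne_zero (by rw [hX]; norm_num)
    obtain ⟨xb, hxb⟩ : ∃ xb : ↥X, xb ≠ 1 := by
      have : Nontrivial ↥X := Finite.one_lt_card_iff_nontrivial.mp (by rw [hX]; norm_num)
      exact exists_ne 1
    have hz : Subgroup.zpowers xb = ⊤ := zpowers_eq_top_of_prime_card hX hxb
    have hXz : X = Subgroup.zpowers (xb : Matrix.ProjectiveSpecialLinearGroup (Fin 3) F) := by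
      have h1 := congrArg (Subgroup.map X.subtype) hz
      rw [MonoidHom.map_zpowers, ← MonoidHom.range_eq_map, Subgroup.range_subtype] at h1
      exact h1.symm
    have hxb3 : (xb : Matrix.ProjectiveSpecialLinearGroup (Fin 3) F) ^ 3 = 1 := by
      have h := pow_card_eq_one' (G := ↥X) (x := xb)
      rw [hX] at h
      have h' := congrArg Subtype.val h
      simpa using h'
    obtain ⟨x, hx⟩ := QuotientGroup.mk_surjective
      (xb : Matrix.ProjectiveSpecialLinearGroup (Fin 3) F)
    have hx3c : x ^ 3 ∈ Subgroup.center (Matrix.SpecialLinearGroup (Fin 3) F) := by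
      rw [← QuotientGroup.eq_one_iff, QuotientGroup.mk_pow, hx]; exact hxb3
    obtain ⟨l, -, hl⟩ := Matrix.SpecialLinearGroup.mem_center_iff.mp hx3c
    have hx3 : x.1 * x.1 * x.1 = l • (1 : Matrix (Fin 3) (Fin 3) F) := by
      have h : (x ^ 3).1 = x.1 * x.1 * x.1 := by
        rw [Matrix.SpecialLinearGroup.coe_pow, pow_succ, pow_two]
      rw [← h, ← hl, Matrix.scalar_apply, Matrix.smul_one_eq_diagonal]
    have hns : ∀ c : F, x.1 ≠ c • (1 : Matrix (Fin 3) (Fin 3) F) := by
      intro c hc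
      apply hxb
      have hxc : x ∈ Subgroup.center (Matrix.SpecialLinearGroup (Fin 3) F) := by
        rw [Matrix.SpecialLinearGroup.mem_center_iff]
        refine ⟨c, ?_, ?_⟩
        · have hd := x.2
          rw [hc, Matrix.det_smul, Matrix.det_one, mul_one] at hd
          simpa using hd
        · rw [hc, Matrix.scalar_apply, Matrix.smul_one_eq_diagonal]
      have h1 : (xb : Matrix.ProjectiveSpecialLinearGroup (Fin 3) F) = 1 := by
        rw [← hx]; exact (QuotientGroup.eq_one_iff x).mpr hxc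
      exact Subtype.ext h1
    obtain ⟨g, hgdet, hg⟩ := exists_diagonalize_of_card_four hF hω x.1 x.2 hx3 hns
    obtain ⟨G₁, hG₁⟩ : ∃ G₁ : Matrix.SpecialLinearGroup (Fin 3) F, G₁.1 = g :=
      ⟨⟨g, hgdet⟩, rfl⟩
    have hSL : x * G₁ = G₁ * D := by
      apply Subtype.ext
      rw [Matrix.SpecialLinearGroup.coe_mul, Matrix.SpecialLinearGroup.coe_mul, hD, hG₁]
      exact hg
    refine ⟨((QuotientGroup.mk G₁ : Matrix.ProjectiveSpecialLinearGroup (Fin 3) F))⁻¹, ?_⟩
    rw [hXz]
    show (Subgroup.zpowers _).map (MulAut.conj _).toMonoidHom = _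
    rw [MonoidHom.map_zpowers]
    congr 1
    rw [← hx]
    show ((QuotientGroup.mk G₁ : Matrix.ProjectiveSpecialLinearGroup (Fin 3) F))⁻¹ *
        (QuotientGroup.mk x : Matrix.ProjectiveSpecialLinearGroup (Fin 3) F) *
        ((QuotientGroup.mk G₁ : Matrix.ProjectiveSpecialLinearGroup (Fin 3) F))⁻¹⁻¹ =
      (QuotientGroup.mk D : Matrix.ProjectiveSpecialLinearGroup (Fin 3) F)
    rw [inv_inv, mul_assoc, ← QuotientGroup.mk_mul, hSL, QuotientGroup.mk_mul,
      inv_mul_cancel_left]
  obtain ⟨g1, hg1⟩ := key X hX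
  obtain ⟨g2, hg2⟩ := key Y hY
  refine ⟨g2⁻¹ * g1, ?_⟩
  rw [map_mul, mul_smul, hg1, ← hg2, map_inv, inv_smul_smul]

end Cfsg.Agent.S2739
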