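import Cfsg.Statements.S2758
import Cfsg.Agent.Lib.helper51.DihedralInv

set_option autoImplicit false
open Cfsg

namespace Cfsg.Agent.S2758

open Cfsg.Agent.Lib.helper51

/-- For an odd prime p and a finite group G the following are equivalent: the dihedral group of order 2p is involved in G; some element of 2-power order normalizes but does not centralize some p-subgroup of G; some element of 2-power order inverts some nonidentity element of p-power order. -/
theorem result {G : Type*} [Group G] [Finite G] {p : ℕ} [Fact p.Prime] (hp : p ≠ 2) : (Cfsg.Involves (DihedralGroup p) G ↔ ∃ (x : G) (P : Subgroup G), (∃ k : ℕ, orderOf x = 2 ^ k) ∧ IsPGroup p ↥P ∧ x ∈ Subgroup.normalizer (P : Set G) ∧ x ∉ Subgroup.centralizer (P : Set G)) ∧ (Cfsg.Involves (DihedralGroup p) G ↔ ∃ x y : G, (∃ k : ℕ, orderOf x = 2 ^ k) ∧ (∃ k : ℕ, orderOf y = p ^ k) ∧ y ≠ 1 ∧ x * y * x⁻¹ = y⁻¹) := by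
  classical
  have hpp : p.Prime := Fact.out
  have hIA : Cfsg.Involves (DihedralGroup p) G → ∃ (x : G) (P : Subgroup G),
      (∃ k : ℕ, orderOf x = 2 ^ k) ∧ IsPGroup p ↥P ∧ x ∈ Subgroup.normalizer (P : Set G) ∧
        x ∉ Subgroup.centralizer (P : Set G) := by
    intro hI
    obtain ⟨K, π, hπ⟩ := exists_surjective_of_involves hI
    obtain ⟨x, P, ⟨k, hk⟩, hP, hxN, hxC⟩ := exists_two_element_normalizing_of_surjective hp π hπ
    refine ⟨(x : G), P.map K.subtype, ⟨k, ?_⟩, hP.map _, ?_, ?_⟩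
    · rw [Subgroup.orderOf_coe]; exact hk
    · exact Subgroup.le_normalizer_map K.subtype (Subgroup.mem_map.mpr ⟨x, hxN, rfl⟩)
    · intro hc
      apply hxC
      rw [Subgroup.mem_centralizer_iff]
      intro h hh
      have h1 := Subgroup.mem_centralizer_iff.mp hc (h : G) (Subgroup.mem_map.mpr ⟨h, hh, rfl⟩)
      exact Subtype.ext h1
  have hAB : (∃ (x : G) (P : Subgroup G),
      (∃ k : ℕ, orderOf x = 2 ^ k) ∧ IsPGroup p ↥P ∧ x ∈ Subgroup.normalizer (P : Set G) ∧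
        x ∉ Subgroup.centralizer (P : Set G)) → ∃ x y : G, (∃ k : ℕ, orderOf x = 2 ^ k) ∧
        (∃ k : ℕ, orderOf y = p ^ k) ∧ y ≠ 1 ∧ x * y * x⁻¹ = y⁻¹ := by
    rintro ⟨x, P, ⟨k, hk⟩, hP, hxN, hxC⟩
    exact exists_inverting_of_normalizing k x P (by rw [← hk]; exact pow_orderOf_eq_one x) hP hxN hxC
  have hBI : (∃ x y : G, (∃ k : ℕ, orderOf x = 2 ^ k) ∧
        (∃ k : ℕ, orderOf y = p ^ k) ∧ y ≠ 1 ∧ x * y * x⁻¹ = y⁻¹) →
      Cfsg.Involves (DihedralGroup p) G := by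
    rintro ⟨x, y, -, hy, hy1, hxy⟩
    exact involves_dihedral_of_inverting hp hy hy1 hxy
  exact ⟨⟨hIA, fun h => hBI (hAB h)⟩, ⟨fun h => hAB (hIA h), hBI⟩⟩

end Cfsg.Agent.S2758
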