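import Cfsg.Statements.S2759
import Cfsg.Agent.Lib.helper51.S4Crit

set_option autoImplicit false
open Cfsg

namespace Cfsg.Agent.S2759

open Cfsg.Agent.Lib.helper51

/-- `S₄` involved gives a `2`-subgroup on which `S₃` is induced. -/
theorem forward {G : Type*} [Group G] [Finite G] (h : Cfsg.Involves (Equiv.Perm (Fin 4)) G) :
    ∃ T : Subgroup G, IsPGroup 2 ↥T ∧ Cfsg.Involves (Equiv.Perm (Fin 3))
      (↥(Subgroup.normalizer (T : Set G)) ⧸
        (Subgroup.centralizer (T : Set G)).subgroupOf (Subgroup.normalizer (T : Set G))) := by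
  classical
  obtain ⟨K₀, π₀, hπ₀⟩ := exists_surjective_of_involves h
  have : Fact (Nat.Prime 2) := ⟨Nat.prime_two⟩
  obtain ⟨ρ, hρdef⟩ : ∃ ρ : ↥K₀ →* Equiv.Perm (Fin 3), ρ = s4ToS3.comp π₀ := ⟨_, rfl⟩
  have hρ : Function.Surjective ρ := hρdef ▸ s4ToS3_surjective.comp hπ₀
  have hρapp : ∀ k : ↥K₀, ρ k = s4ToS3 (π₀ k) := fun k => by rw [hρdef]; rfl
  obtain ⟨T₀⟩ : Nonempty (Sylow 2 ↥ρ.ker) := inferInstance
  obtain ⟨T₁, hT₁⟩ : ∃ T₁ : Subgroup ↥K₀, T₁ = (T₀ : Subgroup ↥ρ.ker).map ρ.ker.subtype :=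
    ⟨_, rfl⟩
  have hT₁p : IsPGroup 2 T₁ := hT₁ ▸ T₀.isPGroup'.map _
  have hfr : Subgroup.normalizer (T₁ : Set ↥K₀) ⊔ ρ.ker = ⊤ := by
    rw [hT₁]; exact Sylow.normalizer_sup_eq_top T₀
  -- the image of `T₁` covers the kernel of `S₄ → S₃`
  have hcover : ∀ v : Equiv.Perm (Fin 4), s4ToS3 v = 1 → ∃ t ∈ T₁, π₀ t = v := by
    let f₁ : ↥ρ.ker →* ↥s4ToS3.ker := (π₀.comp ρ.ker.subtype).codRestrict s4ToS3.ker (fun k => by
      rw [MonoidHom.mem_ker]
      have := MonoidHom.mem_ker.1 k.2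
      rw [hρapp] at this
      exact this)
    have hf₁ : Function.Surjective f₁ := by
      rintro ⟨v, hv⟩
      obtain ⟨k, rfl⟩ := hπ₀ v
      exact ⟨⟨k, by rw [MonoidHom.mem_ker, hρapp]; exact MonoidHom.mem_ker.1 hv⟩, rfl⟩
    have hVp : IsPGroup 2 ↥s4ToS3.ker := by
      rintro ⟨v, hv⟩
      refine ⟨1, ?_⟩
      apply Subtype.ext
      show v ^ 2 ^ 1 = 1
      rw [pow_one]; exact s4ToS3_ker_sq (MonoidHom.mem_ker.1 hv)
    have htop : ((T₀.mapSurjective hf₁ : Sylow 2 ↥s4ToS3.ker) : Subgroup ↥s4ToS3.ker) = ⊤ :=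
      ((T₀.mapSurjective hf₁).is_maximal' (hVp.to_subgroup ⊤) le_top).symm
    rw [Sylow.coe_mapSurjective] at htop
    intro v hv
    have hmem : (⟨v, MonoidHom.mem_ker.2 hv⟩ : ↥s4ToS3.ker) ∈ (T₀ : Subgroup ↥ρ.ker).map f₁ := by
      rw [htop]; trivial
    obtain ⟨t₀, ht₀, h⟩ := hmem
    refine ⟨(t₀ : ↥K₀), ?_, ?_⟩
    · rw [hT₁]; exact ⟨t₀, ht₀, rfl⟩
    · exact congrArg Subtype.val h
  refine ⟨T₁.map K₀.subtype, hT₁p.map _, ?_⟩
  obtain ⟨T, hT⟩ : ∃ T : Subgroup G, T = T₁.map K₀.subtype := ⟨_, rfl⟩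
  rw [← hT]
  -- the embedding of `N_{K₀}(T₁)` into `N_G(T)`
  let j : ↥(Subgroup.normalizer (T₁ : Set ↥K₀)) →* ↥(Subgroup.normalizer (T : Set G)) :=
    (K₀.subtype.comp (Subgroup.normalizer (T₁ : Set ↥K₀)).subtype).codRestrict _ (fun k => by
      rw [hT]
      exact Subgroup.le_normalizer_map K₀.subtype ⟨k, k.2, rfl⟩)
  have hjval : ∀ k, ((j k : ↥(Subgroup.normalizer (T : Set G))) : G) = ((k : ↥K₀) : G) :=
    fun k => rfl
  have hj : Function.Injective j := by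
    intro k₁ k₂ h
    have h1 : ((k₁ : ↥K₀) : G) = ((k₂ : ↥K₀) : G) := by rw [← hjval, ← hjval, h]
    exact Subtype.ext (Subtype.ext h1)
  let e : ↥(Subgroup.normalizer (T₁ : Set ↥K₀)) ≃* ↥j.range := MonoidHom.ofInjective hj
  have heval : ∀ k, (((e k : ↥j.range) : ↥(Subgroup.normalizer (T : Set G))) : G)
      = ((k : ↥K₀) : G) := fun k => rfl
  let π' : ↥j.range →* Equiv.Perm (Fin 3) :=
    (ρ.comp (Subgroup.normalizer (T₁ : Set ↥K₀)).subtype).comp e.symm.toMonoidHom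
  have hπ'app : ∀ k, π' (e k) = ρ (k : ↥K₀) := by
    intro k
    show ρ ((e.symm (e k) : ↥(Subgroup.normalizer (T₁ : Set ↥K₀))) : ↥K₀) = ρ (k : ↥K₀)
    rw [MulEquiv.symm_apply_apply]
  have hπ' : Function.Surjective π' := by
    intro s
    obtain ⟨k, hk⟩ := hρ s
    have hk' : k ∈ Subgroup.normalizer (T₁ : Set ↥K₀) ⊔ ρ.ker := by rw [hfr]; trivial
    obtain ⟨n, hn, v, hv, rfl⟩ := Subgroup.mem_sup_of_normal_right.1 hk'
    refine ⟨e ⟨n, hn⟩, ?_⟩
    rw [hπ'app, ← hk, map_mul, MonoidHom.mem_ker.1 hv, mul_one]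
  apply involves_quotient_of_le_ker _ j.range π' hπ'
  intro x hx
  rw [MonoidHom.mem_ker]
  obtain ⟨n, rfl⟩ := e.surjective x
  rw [hπ'app, hρapp]
  have hnC : ((n : ↥K₀) : G) ∈ Subgroup.centralizer (T : Set G) := by
    have h1 := Subgroup.mem_subgroupOf.1 hx
    have h2 := Subgroup.mem_subgroupOf.1 h1
    rw [heval] at h2
    exact h2
  apply s4ToS3_eq_one_of_commute
  intro v hv
  obtain ⟨t, ht, rfl⟩ := hcover v hv
  have hcomm : (t : G) * ((n : ↥K₀) : G) = ((n : ↥K₀) : G) * (t : G) :=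
    Subgroup.mem_centralizer_iff.1 hnC (t : G) (by rw [hT]; exact ⟨t, ht, rfl⟩)
  have hcomm' : t * (n : ↥K₀) = (n : ↥K₀) * t := Subtype.ext hcomm
  rw [← map_mul, ← map_mul, hcomm']

/-- `S₃` induced on a `2`-subgroup gives `S₄`. -/
theorem backward {G : Type*} [Group G] [Finite G] (T : Subgroup G) (hT : IsPGroup 2 ↥T)
    (hinv : Cfsg.Involves (Equiv.Perm (Fin 3))
      (↥(Subgroup.normalizer (T : Set G)) ⧸
        (Subgroup.centralizer (T : Set G)).subgroupOf (Subgroup.normalizer (T : Set G)))) :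
    Cfsg.Involves (Equiv.Perm (Fin 4)) G := by
  classical
  obtain ⟨xb, yb, ⟨k, hk⟩, ⟨j, hj⟩, hy1, hxy⟩ := exists_inverting_of_involves_s3 hinv
  have hj0 : j ≠ 0 := by
    rintro rfl
    rw [pow_zero, orderOf_eq_one_iff] at hj
    exact hy1 hj
  obtain ⟨yb', hyb'⟩ : ∃ z, z = yb ^ 3 ^ (j - 1) := ⟨_, rfl⟩
  have h3 : yb' ^ 3 = 1 := by
    rw [hyb', ← pow_mul, ← pow_succ, Nat.sub_add_cancel (Nat.pos_of_ne_zero hj0), ← hj,
      pow_orderOf_eq_one]
  have hne : yb' ≠ 1 := by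
    intro h
    rw [hyb'] at h
    have h1 := orderOf_dvd_of_pow_eq_one h
    rw [hj] at h1
    have h2 := Nat.le_of_dvd (by positivity) h1
    have h4 : 3 ^ (j - 1) < 3 ^ j := Nat.pow_lt_pow_right (by norm_num) (by omega)
    omega
  have hinv' : xb * yb' * xb⁻¹ = yb'⁻¹ := by rw [hyb', ← conj_pow, hxy, inv_pow]
  obtain ⟨a, rfl⟩ := QuotientGroup.mk_surjective xb
  obtain ⟨y₀, hy₀⟩ := QuotientGroup.mk_surjective yb'
  obtain ⟨π, hπ⟩ : ∃ π : ↥(Subgroup.normalizer (T : Set G)) →*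
      ↥(Subgroup.normalizer (T : Set G)) ⧸
        (Subgroup.centralizer (T : Set G)).subgroupOf (Subgroup.normalizer (T : Set G)),
      π = QuotientGroup.mk' _ := ⟨_, rfl⟩
  have hπ1 : ∀ g : ↥(Subgroup.normalizer (T : Set G)),
      π g = 1 ↔ (g : G) ∈ Subgroup.centralizer (T : Set G) := by
    intro g
    rw [hπ, QuotientGroup.mk'_apply, QuotientGroup.eq_one_iff, Subgroup.mem_subgroupOf]
  have hπa : π a = (a : ↥(Subgroup.normalizer (T : Set G)) ⧸ _) := by rw [hπ]; rfl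
  have hπy₀ : π y₀ = yb' := by rw [hπ]; exact hy₀
  obtain ⟨y, hyodd, hyπ⟩ := exists_odd_pow_lift π y₀ (r := 3) (by decide)
    (by rw [hπy₀]; exact h3)
  rw [hπy₀] at hyπ
  obtain ⟨m, hm, hym⟩ := hyodd
  refine involves_s4_of_three_action T hT (y : G) (a : G) y.2 a.2
    ⟨m, hm, by simpa using congrArg Subtype.val hym⟩ ?_ ?_ ⟨k, ?_⟩ ?_
  · intro hc
    apply hne
    rw [← hyπ]
    exact (hπ1 y).2 hc
  · have h1 : π (y ^ 3) = 1 := by rw [map_pow, hyπ, h3]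
    have := (hπ1 _).1 h1
    simpa using this
  · have h1 : π (a ^ 2 ^ k) = 1 := by rw [map_pow, hπa, ← hk, pow_orderOf_eq_one]
    have := (hπ1 _).1 h1
    simpa using this
  · have h1 : π (a * y * a⁻¹ * y) = 1 := by
      rw [map_mul, map_mul, map_mul, map_inv, hyπ, hπa, hinv', inv_mul_cancel]
    have := (hπ1 _).1 h1
    simpa using this

/-- For a finite group G, the symmetric group of degree 4 is involved in G if and only if there is a 2-subgroup T of G such that the symmetric group of degree 3 is involved in N(T)/C(T). -/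
theorem result {G : Type*} [Group G] [Finite G] : Cfsg.Involves (Equiv.Perm (Fin 4)) G ↔ ∃ T : Subgroup G, IsPGroup 2 ↥T ∧ Cfsg.Involves (Equiv.Perm (Fin 3)) (↥(Subgroup.normalizer (T : Set G)) ⧸ (Subgroup.centralizer (T : Set G)).subgroupOf (Subgroup.normalizer (T : Set G))) := by
  constructor
  · exact forward
  · rintro ⟨T, hT, hinv⟩
    exact backward T hT hinv

end Cfsg.Agent.S2759
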