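import Cfsg.Statements.S2760
import Cfsg.Agent.Lib.helper51.PCoreOf

set_option autoImplicit false
open Cfsg

namespace Cfsg.Agent.S2760

open Cfsg.Agent.Lib.helper51

/-- Let G be a finite group with C_G(O₂(G)) ≤ O₂(G) and H a subgroup of G such that H is normal in G, or the subgroup O²(H) generated by the elements of H of odd order is normal in G. Then C_H(O₂(H)) ≤ O₂(H). -/
theorem result {G : Type*} [Group G] [Finite G] (hchar : Subgroup.centralizer (Cfsg.pCore 2 G : Set G) ≤ Cfsg.pCore 2 G) (H : Subgroup G) (hH : H.Normal ∨ ((Cfsg.pResidual 2 ↥H).map H.subtype).Normal) : Subgroup.centralizer (Cfsg.pCore 2 ↥H : Set ↥H) ≤ Cfsg.pCore 2 ↥H := by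
  classical
  have : Fact (Nat.Prime 2) := ⟨Nat.prime_two⟩
  suffices key : ∀ z ∈ H, (∀ x ∈ pCoreOf 2 H, x * z = z * x) → z ∈ pCoreOf 2 H by
    intro c hc
    have hc' := Subgroup.mem_centralizer_iff.mp hc
    have h1 : (c : G) ∈ pCoreOf 2 H := by
      apply key _ c.2
      rintro x hx
      obtain ⟨x', hx', rfl⟩ := Subgroup.mem_map.mp hx
      have := hc' x' hx'
      exact congrArg Subtype.val this
    obtain ⟨c', hc'', hcc⟩ := Subgroup.mem_map.mp h1
    have : c' = c := Subtype.ext hcc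
    rw [← this]; exact hc''
  rcases hH with hH | hH
  · exact charp_normal_ambient hchar H hH
  · obtain ⟨H₀, hH₀def⟩ : ∃ H₀, H₀ = (Cfsg.pResidual 2 ↥H).map H.subtype := ⟨_, rfl⟩
    rw [← hH₀def] at hH
    have hH₀le : H₀ ≤ H := by
      rw [hH₀def]; exact Subgroup.map_subtype_le _
    have A := charp_normal_ambient hchar H₀ hH
    have hle : pCoreOf 2 H₀ ≤ pCoreOf 2 H := by
      apply le_pCoreOf ((pCoreOf_le 2 H₀).trans hH₀le)
      · refine le_trans ?_ (normalizer_le_normalizer_pCoreOf H₀)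
        rw [Subgroup.normalizer_eq_top_iff.mpr hH]
        exact le_top
      · exact isPGroup_pCoreOf H₀
    have hCp : IsPGroup 2 ↥(H ⊓ Subgroup.centralizer (pCoreOf 2 H : Set G)) := by
      apply isPGroup_two_of_odd_trivial
      intro c hc m hm hcm
      obtain ⟨hcH, hcR⟩ := Subgroup.mem_inf.mp hc
      have hcH₀ : c ∈ H₀ := by
        rw [hH₀def]
        refine Subgroup.mem_map.mpr ⟨⟨c, hcH⟩, ?_, rfl⟩
        apply Subgroup.subset_closure
        show Nat.Coprime (orderOf (⟨c, hcH⟩ : ↥H)) 2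
        have hd : orderOf (⟨c, hcH⟩ : ↥H) ∣ m := by
          apply orderOf_dvd_of_pow_eq_one
          exact Subtype.ext (by simpa using hcm)
        exact Nat.Coprime.coprime_dvd_left hd (Nat.coprime_two_right.mpr hm)
      have h2 : c ∈ pCoreOf 2 H₀ := by
        apply A c hcH₀
        intro x hx
        exact Subgroup.mem_centralizer_iff.mp hcR x (hle hx)
      obtain ⟨a, ha⟩ := (isPGroup_pCoreOf (p := 2) H₀) ⟨c, h2⟩
      exact eq_one_of_pow_two_pow_of_odd (by simpa using congrArg Subtype.val ha) hm hcm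
    have hCle := inf_centralizer_pCoreOf_le H hCp
    intro z hz hzc
    apply hCle
    exact Subgroup.mem_inf.mpr ⟨hz, Subgroup.mem_centralizer_iff.mpr (fun x hx => hzc x hx)⟩

end Cfsg.Agent.S2760
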