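import Cfsg.Statements.S2761
import Cfsg.Agent.Lib.helper51.Qd

set_option autoImplicit false
open Cfsg

namespace Cfsg.Agent.S2761

/-- the four points of the affine plane over the field with two elements -/
def e4 : ZMod 2 × ZMod 2 ≃ Fin 4 := (finProdFinEquiv : Fin 2 × Fin 2 ≃ Fin 4)

open Cfsg.Agent.Lib.helper51 in
/-- The affine group of the plane over the field with two elements, acting on the four points. -/
def toPerm4 : ↥(affSubgroup (ZMod 2)) →* Equiv.Perm (Fin 4) :=
  (e4.permCongrHom).toMonoidHom.comp (affPermHom (ZMod 2))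

open Cfsg.Agent.Lib.helper51 in
theorem toPerm4_apply (g : ↥(affSubgroup (ZMod 2))) (k : Fin 4) :
    toPerm4 g k = e4 (affAct (R := ZMod 2) g.1 (e4.symm k)) := rfl

open Cfsg.Agent.Lib.helper51 in
theorem toPerm4_injective : Function.Injective toPerm4 := by
  intro a b hab
  have h1 : e4.permCongrHom (affPermHom (ZMod 2) a) = e4.permCongrHom (affPermHom (ZMod 2) b) := hab
  exact affPermHom_injective (e4.permCongrHom.injective h1)

/-- the matrix of the four-cycle -/
def matσ : Matrix.SpecialLinearGroup (Fin 3) (ZMod 2) :=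
  ⟨!![1, 1, 0; 0, 1, 1; 0, 0, 1], by decide⟩

/-- the matrix of a transposition -/
def matτ : Matrix.SpecialLinearGroup (Fin 3) (ZMod 2) :=
  ⟨!![1, 0, 0; 1, 1, 1; 0, 0, 1], by decide⟩

open Cfsg.Agent.Lib.helper51 in
theorem matσ_mem : matσ ∈ affSubgroup (ZMod 2) := by
  refine ⟨?_, ?_, ?_⟩ <;> decide

open Cfsg.Agent.Lib.helper51 in
theorem matτ_mem : matτ ∈ affSubgroup (ZMod 2) := by
  refine ⟨?_, ?_, ?_⟩ <;> decide

open Cfsg.Agent.Lib.helper51 in
theorem toPerm4_matσ : toPerm4 ⟨matσ, matσ_mem⟩ = finRotate 4 := by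
  ext k
  rw [toPerm4_apply]
  fin_cases k <;> decide

open Cfsg.Agent.Lib.helper51 in
theorem toPerm4_matτ : toPerm4 ⟨matτ, matτ_mem⟩ = Equiv.swap (0 : Fin 4) (finRotate 4 0) := by
  ext k
  rw [toPerm4_apply]
  fin_cases k <;> decide

open Cfsg.Agent.Lib.helper51 in
theorem toPerm4_surjective : Function.Surjective toPerm4 := by
  rw [← MonoidHom.range_eq_top, eq_top_iff,
    ← Equiv.Perm.closure_cycle_adjacent_swap (isCycle_finRotate (n := 2))
      (support_finRotate (n := 2)) (0 : Fin 4),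
    Subgroup.closure_le]
  rintro x (rfl | rfl)
  · exact ⟨_, toPerm4_matσ⟩
  · exact ⟨_, toPerm4_matτ⟩

/-- The group Qd(2), the natural semidirect product of an elementary abelian group of order 4 by SL₂(2) (realised as the affine subgroup of SL₃(2)), is isomorphic to the symmetric group of degree 4. -/
theorem result : Nonempty (↥(Cfsg.qd 2) ≃* Equiv.Perm (Fin 4)) := by
  rw [Cfsg.Agent.Lib.helper51.qd_eq]
  exact ⟨MulEquiv.ofBijective toPerm4 ⟨toPerm4_injective, toPerm4_surjective⟩⟩

end Cfsg.Agent.S2761
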