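import Cfsg.Statements.S2762
import Cfsg.Agent.Lib.helper51.QdStruct

set_option autoImplicit false
open Cfsg

namespace Cfsg.Agent.S2762

open Cfsg.Agent.Lib.helper51

theorem aux {F : Type*} [Field F] [Fintype F] {p : ℕ} [Fact p.Prime] [CharP F p]
    (Q : Subgroup (Matrix.SpecialLinearGroup (Fin 3) F)) (hQ : Q = affSubgroup F) :
    (∀ M : ↥Q, M ∈ Cfsg.pCore p ↥Q ↔ ((M : Matrix.SpecialLinearGroup (Fin 3) F) : Matrix (Fin 3) (Fin 3) F) 0 0 = 1 ∧ ((M : Matrix.SpecialLinearGroup (Fin 3) F) : Matrix (Fin 3) (Fin 3) F) 0 1 = 0 ∧ ((M : Matrix.SpecialLinearGroup (Fin 3) F) : Matrix (Fin 3) (Fin 3) F) 1 0 = 0 ∧ ((M : Matrix.SpecialLinearGroup (Fin 3) F) : Matrix (Fin 3) (Fin 3) F) 1 1 = 1) ∧ ∃ K : Subgroup ↥Q, (∀ M : ↥Q, M ∈ K ↔ ((M : Matrix.SpecialLinearGroup (Fin 3) F) : Matrix (Fin 3) (Fin 3) F) 0 2 = 0 ∧ ((M : Matrix.SpecialLinearGroup (Fin 3) F) : Matrix (Fin 3) (Fin 3) F) 1 2 = 0) ∧ K ⊓ Cfsg.pCore p ↥Q = ⊥ ∧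 K ⊔ Cfsg.pCore p ↥Q = ⊤ ∧ Nonempty (↥K ≃* Matrix.SpecialLinearGroup (Fin 2) F) ∧ Cfsg.IsNaturalSL2Module F (Cfsg.pCore p ↥Q) K := by
  subst hQ
  have hV : Cfsg.pCore p ↥(affSubgroup F) = affV F := pCore_affSubgroup p
  rw [hV]
  refine ⟨fun M => Iff.rfl, affK F, fun M => Iff.rfl, affK_inf_affV, affK_sup_affV,
    ⟨affKEquiv F⟩, ?_⟩
  refine ⟨?_, (affKEquiv F).toMonoidHom, affVAddEquiv F, (affKEquiv F).surjective, ?_, ?_⟩
  · rw [Subgroup.normalizer_eq_top_iff.mpr affV_normal]; exact le_top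
  · ext k
    rw [MonoidHom.mem_ker, Subgroup.mem_subgroupOf]
    constructor
    · intro hk
      have h1 : k = 1 := (affKEquiv F).injective (by rw [map_one]; exact hk)
      rw [h1]; exact Subgroup.one_mem _
    · intro hk
      have h1 := Subgroup.mem_centralizer_iff.mp hk
      have key : ∀ v : ↥(affSubgroup F), v ∈ affV F →
          affA k.1 * affX v + affB k.1 * affY v = affX v ∧
            affC k.1 * affX v + affD k.1 * affY v = affY v := by
        intro v hv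
        have h2 : k.1 * v * k.1⁻¹ = v := by
          rw [← h1 v hv]; group
        constructor
        · rw [← affX_conj_of_mem_affV k.1 hv, h2]
        · rw [← affY_conj_of_mem_affV k.1 hv, h2]
      have he1 : mkAff (1 : F) 0 0 1 1 0 (by ring) ∈ affV F :=
        ⟨affA_mkAff _ _ _ _ _ _ _, affB_mkAff _ _ _ _ _ _ _, affC_mkAff _ _ _ _ _ _ _,
          affD_mkAff _ _ _ _ _ _ _⟩
      have he2 : mkAff (1 : F) 0 0 1 0 1 (by ring) ∈ affV F :=
        ⟨affA_mkAff _ _ _ _ _ _ _, affB_mkAff _ _ _ _ _ _ _, affC_mkAff _ _ _ _ _ _ _,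
          affD_mkAff _ _ _ _ _ _ _⟩
      obtain ⟨k1, k2⟩ := key _ he1
      obtain ⟨k3, k4⟩ := key _ he2
      rw [affX_mkAff, affY_mkAff] at k1 k2 k3 k4
      have hA : affA k.1 = 1 := by linear_combination k1
      have hC : affC k.1 = 0 := by linear_combination k2
      have hB : affB k.1 = 0 := by linear_combination k3
      have hD : affD k.1 = 1 := by linear_combination k4
      show affLin k.1 = 1
      apply Subtype.ext
      show !![affA k.1, affB k.1; affC k.1, affD k.1] = (1 : Matrix (Fin 2) (Fin 2) F)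
      rw [hA, hB, hC, hD]
      exact Matrix.one_fin_two.symm
  · intro l v
    refine ⟨⟨l.1 * v.1 * l.1⁻¹, affV_normal.conj_mem _ v.2 _⟩, rfl, ?_⟩
    ext i
    fin_cases i
    · show affX (l.1 * v.1 * l.1⁻¹) = Matrix.mulVec !![affA l.1, affB l.1; affC l.1, affD l.1]
        ![affX v.1, affY v.1] 0
      rw [affX_conj_of_mem_affV _ v.2]
      simp [Matrix.mulVec, dotProduct, Fin.sum_univ_two]
    · show affY (l.1 * v.1 * l.1⁻¹) = Matrix.mulVec !![affA l.1, affB l.1; affC l.1, affD l.1]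
        ![affX v.1, affY v.1] 1
      rw [affY_conj_of_mem_affV _ v.2]
      simp [Matrix.mulVec, dotProduct, Fin.sum_univ_two]

/-- Structure of Qd over a finite field F of characteristic p (the affine subgroup of SL₃(F)): its largest normal p-subgroup is the group of translations (matrices with upper-left block the identity), the block-diagonal matrices form a complement isomorphic to SL₂(F), and the translation subgroup is a natural SL₂(F)-module for that complement. -/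
theorem result {F : Type*} [Field F] [Fintype F] {p : ℕ} [Fact p.Prime] [CharP F p] : (∀ M : ↥(Cfsg.qdOver F), M ∈ Cfsg.pCore p ↥(Cfsg.qdOver F) ↔ ((M : Matrix.SpecialLinearGroup (Fin 3) F) : Matrix (Fin 3) (Fin 3) F) 0 0 = 1 ∧ ((M : Matrix.SpecialLinearGroup (Fin 3) F) : Matrix (Fin 3) (Fin 3) F) 0 1 = 0 ∧ ((M : Matrix.SpecialLinearGroup (Fin 3) F) : Matrix (Fin 3) (Fin 3) F) 1 0 = 0 ∧ ((M : Matrix.SpecialLinearGroup (Fin 3) F) : Matrix (Fin 3) (Fin 3) F) 1 1 = 1) ∧ ∃ K : Subgroup ↥(Cfsg.qdOver F), (∀ M : ↥(Cfsg.qdOver F), M ∈ K ↔ ((M : Matrix.SpecialLinearGroup (Fin 3) F) : Matrix (Fin 3) (Fin 3) F) 0 2 = 0 ∧ ((M : Matrix.SpecialLinearGroup (Fin 3) F) : Matrix (Fin 3) (Fin 3) F) 1 2 = 0) ∧ K ⊓ Cfsg.pCore p ↥(Cfsg.qdOver F) = ⊥ ∧ K ⊔ Cfsg.pCore p ↥(Cfsg.qdOver F) = ⊤ ∧ Nonempty (↥K ≃* Matrix.SpecialLinearGroup (Fin 2) F) ∧ Cfsg.IsNaturalSL2Module F (Cfsg.pCore p ↥(Cfsg.qdOver F)) K := by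
  exact aux (Cfsg.qdOver F) (qdOver_eq F)

end Cfsg.Agent.S2762
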