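import Cfsg.Statements.S2763
import Cfsg.Agent.Lib.helper51.QdSylow

set_option autoImplicit false
open Cfsg

namespace Cfsg.Agent.S2763

open Cfsg.Agent.Lib.helper51

theorem aux {p : ℕ} [Fact p.Prime] (Q : Subgroup (Matrix.SpecialLinearGroup (Fin 3) (ZMod p)))
    (hQ : Q = affSubgroup (ZMod p)) (S : Sylow p ↥Q) (T : Subgroup ↥(S : Subgroup ↥Q))
    (hT : T ≠ ⊥) (hTc : T.Characteristic) :
    Subgroup.normalizer ((T.map (S : Subgroup ↥Q).subtype : Subgroup ↥Q) : Set ↥Q) =
        Subgroup.normalizer ((S : Subgroup ↥Q) : Set ↥Q) ∧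
      Subgroup.normalizer ((S : Subgroup ↥Q) : Set ↥Q) ≠ ⊤ := by
  subst hQ
  have hp : p.Prime := Fact.out
  have : NeZero p := ⟨hp.ne_zero⟩
  have hv : ((mkAffS (0 : ZMod p) 0 1 : ↥(affS (ZMod p))) : ↥(affSubgroup (ZMod p))) ∈
      affV (ZMod p) := by
    unfold mkAffS
    refine ⟨?_, ?_, ?_, ?_⟩
    · simp only [affA_mkAff]
    · simp only [affB_mkAff]
    · simp only [affC_mkAff]
    · simp only [affD_mkAff]
  have hαv : ((affSAut (ZMod p) (mkAffS (0 : ZMod p) 0 1) : ↥(affS (ZMod p))) :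
      ↥(affSubgroup (ZMod p))) ∉ affV (ZMod p) := by
    intro h
    have h1 := h.2.1
    rw [affB_affSAut, affY_mkAffS] at h1
    have h2 : (1 : ZMod p) = 0 := by linear_combination -h1
    exact one_ne_zero h2
  exact char_sylow_transport (affSylow (ZMod p) p) (affV (ZMod p)) normalizer_affS_ne_top
    (fun T' h1 h2 h3 h4 => normalizer_le_normalizer_affS h1 h2 h3 h4)
    (affSAut (ZMod p)) (mkAffS 0 0 1) hv hαv S T hT hTc

/-- In the group Qd(p) (p prime; the natural semidirect product of an elementary abelian group of order p² by SL₂(p)), the normalizer of every nontrivial characteristic subgroup of a Sylow p-subgroup S equals the normalizer of S, which is a proper subgroup; in particular no such characteristic subgroup is normal. -/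
theorem result {p : ℕ} [Fact p.Prime] (S : Sylow p ↥(Cfsg.qd p)) (T : Subgroup ↥(S : Subgroup ↥(Cfsg.qd p))) (hT : T ≠ ⊥) (hTc : T.Characteristic) : Subgroup.normalizer ((T.map (S : Subgroup ↥(Cfsg.qd p)).subtype : Subgroup ↥(Cfsg.qd p)) : Set ↥(Cfsg.qd p)) = Subgroup.normalizer ((S : Subgroup ↥(Cfsg.qd p)) : Set ↥(Cfsg.qd p)) ∧ Subgroup.normalizer ((S : Subgroup ↥(Cfsg.qd p)) : Set ↥(Cfsg.qd p)) ≠ ⊤ := by
  exact aux (Cfsg.qd p) (qd_eq p) S T hT hTc

end Cfsg.Agent.S2763
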