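import Cfsg.Statements.S2770
import Cfsg.Agent.Lib.helper86.GenTop

set_option autoImplicit false
open Cfsg

namespace Cfsg.Agent.S2770

/-- Let G be a finite group and p a prime with C_G(O_p(G)) ≤ O_p(G), S a Sylow p-subgroup lying in exactly one maximal subgroup of G, and G/K ≅ PSL₂(p^n) for some normal K and n ≥ 1. If Z(S) is not elementary abelian, then either ℧¹(Z(S)) (the subgroup generated by the p-th powers of the elements of Z(S)) is normal in G or C_S(Z(J(S))) is normal in G, J(S) being generated by the abelian subgroups of S of largest order. -/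
theorem result {G : Type*} [Group G] [Finite G] {p : ℕ} [Fact p.Prime] (S : Sylow p G) (hE₁ : Subgroup.centralizer (Cfsg.pCore p G : Set G) ≤ Cfsg.pCore p G) (hE₂ : ∃! M : Subgroup G, IsCoatom M ∧ (S : Subgroup G) ≤ M) (K : Subgroup G) [K.Normal] (F : Type) [Field F] [Fintype F] (n : ℕ) (hn : 1 ≤ n) (hF : Fintype.card F = p ^ n) (hE₃ : Nonempty (G ⧸ K ≃* Matrix.ProjectiveSpecialLinearGroup (Fin 2) F)) (h : ¬ Cfsg.IsElementaryAbelian p ((S : Subgroup G) ⊓ Subgroup.centralizer ((S : Subgroup G) : Set G))) : (Cfsg.powerClosure p 1 ((S : Subgroup G) ⊓ Subgroup.centralizer ((S : Subgroup G) : Set G))).Normal ∨ (((S : Subgroup G) ⊓ Subgroup.centralizer (Cfsg.centerThompsonAOf (S : Subgroup G) : Set G))).Normal := by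
  classical
  obtain ⟨M, ⟨hMco, hSM⟩, hMuniq⟩ := hE₂
  have hZle := Cfsg.Agent.Lib.helper86.powerClosure_center_le p (S : Subgroup G)
  -- a central `Z(S)` gives the first alternative
  have hcentral : (∀ z ∈ (S : Subgroup G) ⊓ Subgroup.centralizer ((S : Subgroup G) : Set G),
      ∀ g : G, g * z = z * g) →
      (Cfsg.powerClosure p 1 ((S : Subgroup G) ⊓
        Subgroup.centralizer ((S : Subgroup G) : Set G))).Normal := by
    intro hz
    constructor
    intro x hx g
    rw [hz x (hZle hx) g]
    simpa using hx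
  rcases Cfsg.Agent.Lib.helper86.central_or_normal_of_unique_coatom S hE₁ hMco hMuniq with
    hC | hJn
  · left
    constructor
    intro x hx g
    have hg : g ∈ Subgroup.centralizer ((Cfsg.powerClosure p 1 ((S : Subgroup G) ⊓
        Subgroup.centralizer ((S : Subgroup G) : Set G)) : Subgroup G) : Set G) := by
      rw [hC]
      trivial
    have h1 := (Subgroup.mem_centralizer_iff.mp hg) x hx
    rw [← h1]
    simpa using hx
  -- `J(S)` is normal
  have hJS : Cfsg.thompsonSubgroupAOf (S : Subgroup G) ≤ S := Subgroup.map_subtype_le _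
  have hVn : (Cfsg.centerThompsonAOf (S : Subgroup G)).Normal := by
    unfold Cfsg.centerThompsonAOf
    exact Subgroup.normal_inf_normal _ _
  have hCn : (Subgroup.centralizer
      ((Cfsg.centerThompsonAOf (S : Subgroup G) : Subgroup G) : Set G)).Normal :=
    Subgroup.normal_centralizer
  by_cases hT : Subgroup.normalizer ((((S : Subgroup G) ⊓ Subgroup.centralizer
      (Cfsg.centerThompsonAOf (S : Subgroup G) : Set G) : Subgroup G)) : Set G) = ⊤
  · right
    exact Subgroup.normalizer_eq_top_iff.mp hT
  left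
  apply hcentral
  have hSN' : (S : Subgroup G) ≤ Subgroup.normalizer ((((S : Subgroup G) ⊓ Subgroup.centralizer
      (Cfsg.centerThompsonAOf (S : Subgroup G) : Set G) : Subgroup G)) : Set G) := by
    intro s hs
    apply Cfsg.Agent.Lib.helper88.mem_normalizer_of_conj_mem
    intro x hx
    have hx1 : x ∈ (S : Subgroup G) := hx.1
    have hs1 : s ∈ (S : Subgroup G) := hs
    have h1 : s * x * s⁻¹ ∈ (S : Subgroup G) :=
      (S : Subgroup G).mul_mem ((S : Subgroup G).mul_mem hs1 hx1) ((S : Subgroup G).inv_mem hs1)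
    exact ⟨h1, hCn.conj_mem x hx.2 s⟩
  have hNM := Cfsg.Agent.Lib.helper86.le_of_unique_coatom hMuniq hSN' hT
  have hfr := Cfsg.Agent.Lib.helper86.normal_sup_normalizer_inf_eq_top S (Subgroup.centralizer
      ((Cfsg.centerThompsonAOf (S : Subgroup G) : Subgroup G) : Set G))
  have hCS : Subgroup.centralizer
      ((Cfsg.centerThompsonAOf (S : Subgroup G) : Subgroup G) : Set G) ⊔ (S : Subgroup G) = ⊤ := by
    by_contra hne
    have h1 := Cfsg.Agent.Lib.helper86.le_of_unique_coatom hMuniq le_sup_right hne
    have h3 : (⊤ : Subgroup G) ≤ M := by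
      rw [← hfr]
      exact sup_le (le_sup_left.trans h1) hNM
    exact hMco.1 (top_le_iff.mp h3)
  intro z hz g
  have hzcJ : z ∈ Subgroup.centralizer
      ((Cfsg.thompsonSubgroupAOf (S : Subgroup G) : Subgroup G) : Set G) := by
    rw [Subgroup.mem_centralizer_iff]
    intro x hx
    exact (Subgroup.mem_centralizer_iff.mp hz.2) x (hJS hx)
  have hzV : z ∈ Cfsg.centerThompsonAOf (S : Subgroup G) := by
    unfold Cfsg.centerThompsonAOf
    exact ⟨Cfsg.Agent.Lib.helper86.inf_centralizer_thompsonA_le (S : Subgroup G) ⟨hz.1, hzcJ⟩,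
      hzcJ⟩
  have hle : Subgroup.centralizer
      ((Cfsg.centerThompsonAOf (S : Subgroup G) : Subgroup G) : Set G) ⊔ (S : Subgroup G) ≤
      Subgroup.centralizer ({z} : Set G) := by
    apply sup_le
    · intro c hc
      rw [Subgroup.mem_centralizer_iff]
      intro k hk
      rw [Set.mem_singleton_iff] at hk
      subst hk
      exact (Subgroup.mem_centralizer_iff.mp hc) k hzV
    · intro s hs
      rw [Subgroup.mem_centralizer_iff]
      intro k hk
      rw [Set.mem_singleton_iff] at hk
      subst hk
      exact ((Subgroup.mem_centralizer_iff.mp hz.2) s hs).symm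
  have hg : g ∈ Subgroup.centralizer ({z} : Set G) := hle (by rw [hCS]; trivial)
  exact ((Subgroup.mem_centralizer_iff.mp hg) z rfl).symm

end Cfsg.Agent.S2770
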