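import Cfsg.Statements.S2779
import Cfsg.Agent.Lib.helper52.NatSL2

set_option autoImplicit false
open Cfsg

namespace Cfsg.Agent.S2779

open Cfsg.Agent.Lib.helper52 Matrix

/-- Let L act on the elementary abelian p-group V (inside a finite group, by conjugation, faithfully) as SL₂(F) on its natural module, F a field with p^n elements, and let S be a Sylow p-subgroup of L. Then [V, S, S] = 1; |V| = p^(2n) and |C_V(S)| = p^n; and for every nonidentity s ∈ S and every v ∈ V outside C_V(S): C_V(s) = C_V(S) = [V, S] = [V, s] = the subgroup generated by the commutators [v, t], t ∈ S. -/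
theorem result {G : Type*} [Group G] [Finite G] {p : ℕ} [Fact p.Prime] {F : Type*} [Field F] [Fintype F] (n : ℕ) (hF : Fintype.card F = p ^ n) (V L : Subgroup G) (hnat : Cfsg.IsNaturalSL2Module F V L) (hf : L ⊓ Subgroup.centralizer (V : Set G) = ⊥) (S : Sylow p ↥L) (T : Subgroup G) (hT : T = ((S : Subgroup ↥L).map L.subtype)) : ⁅⁅V, T⁆, T⁆ = ⊥ ∧ Nat.card V = p ^ (2 * n) ∧ Nat.card ↥(V ⊓ Subgroup.centralizer ((T : Subgroup G) : Set G)) = p ^ n ∧ ∀ s ∈ T, s ≠ 1 → (V ⊓ Subgroup.centralizer ({s} : Set G)) = (V ⊓ Subgroup.centralizer ((T : Subgroup G) : Set G)) ∧ ⁅V, T⁆ = (V ⊓ Subgroup.centralizer ((T : Subgroup G) : Set G)) ∧ ⁅V, Subgroup.zpowers s⁆ = (V ⊓ Subgroup.centralizer ((T : Subgroup G) : Set G)) ∧ ∀ v ∈ V, v ∉ Subgroup.centralizer (T : Set G) → Subgroup.closure {x : G | ∃ t ∈ T, x = v * t * v⁻¹ * t⁻¹} = (V ⊓ Subgroup.centralizer ((T : Subgroup G) : Set G)) := by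
  obtain ⟨c, r, h⟩ := exists_natCoord hF V L hnat hf S T hT
  -- `[V, T] ≤ C_V(T)`
  have hVT : ⁅V, T⁆ ≤ V ⊓ Subgroup.centralizer (T : Set G) := by
    rw [Subgroup.commutator_le]
    intro v hv t ht
    rw [commutatorElement_def]
    exact h.comm_mem_inf ht hv
  have hcomm0 : ⁅V ⊓ Subgroup.centralizer (T : Set G), T⁆ = ⊥ :=
    Subgroup.commutator_eq_bot_iff_le_centralizer.mpr inf_le_right
  refine ⟨?_, ?_, ?_, ?_⟩
  · exact le_bot_iff.mp (hcomm0 ▸ Subgroup.commutator_mono hVT le_rfl)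
  · rw [Nat.card_eq_of_bijective c h.c_bij, Nat.card_fun, Nat.card_eq_fintype_card,
      Nat.card_eq_fintype_card, Fintype.card_fin, hF, ← pow_mul, mul_comm]
  · have hbij : Function.Bijective
        (fun w : ↥(V ⊓ Subgroup.centralizer (T : Set G)) =>
          c ⟨(w : G), (Subgroup.mem_inf.mp w.2).1⟩ 0) := by
      constructor
      · intro w₁ w₂ h12
        have h1 := (h.mem_centralizer_T_iff (Subgroup.mem_inf.mp w₁.2).1).mp
          (Subgroup.mem_inf.mp w₁.2).2
        have h2 := (h.mem_centralizer_T_iff (Subgroup.mem_inf.mp w₂.2).1).mp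
          (Subgroup.mem_inf.mp w₂.2).2
        exact Subtype.ext (h.eq_of_coords _ _ h12 (h1.trans h2.symm))
      · intro a
        obtain ⟨v, hv, hcv⟩ := h.exists_V a 0
        have hvC : v ∈ Subgroup.centralizer (T : Set G) := by
          rw [h.mem_centralizer_T_iff hv, hcv]; rfl
        refine ⟨⟨v, Subgroup.mem_inf.mpr ⟨hv, hvC⟩⟩, ?_⟩
        show c ⟨v, _⟩ 0 = a
        rw [hcv]; rfl
    rw [Nat.card_eq_of_bijective _ hbij, Nat.card_eq_fintype_card, hF]
  · intro s hs hs1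
    obtain ⟨a, ha⟩ := h.exists_uMat hs
    have ha0 := h.ne_zero_of_ne_one hs hs1 ha
    have hge : V ⊓ Subgroup.centralizer (T : Set G) ≤ ⁅V, Subgroup.zpowers s⁆ := by
      intro w hw
      have hwV := (Subgroup.mem_inf.mp hw).1
      have hw1 := (h.mem_centralizer_T_iff hwV).mp (Subgroup.mem_inf.mp hw).2
      obtain ⟨v, hv, hcv⟩ := h.exists_V 0 (- (c ⟨w, hwV⟩ 0 / a))
      have hc := h.c_comm hs ha hv
      have hwe : w = v * s * v⁻¹ * s⁻¹ := by
        apply h.eq_of_coords hwV (h.comm_mem hs hv)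
        · rw [hc, hcv]
          show _ = - (a * - (c ⟨w, hwV⟩ 0 / a))
          field_simp
        · rw [hc, hw1]; rfl
      rw [hwe, ← commutatorElement_def]
      exact Subgroup.commutator_mem_commutator hv (Subgroup.mem_zpowers s)
    have hzT : Subgroup.zpowers s ≤ T := (Subgroup.zpowers_le).mpr hs
    have hle : ⁅V, Subgroup.zpowers s⁆ ≤ ⁅V, T⁆ := Subgroup.commutator_mono le_rfl hzT
    refine ⟨?_, le_antisymm hVT (hge.trans hle), le_antisymm (hle.trans hVT) hge, ?_⟩
    · ext v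
      rw [Subgroup.mem_inf, Subgroup.mem_inf]
      constructor
      · rintro ⟨hv, hvs⟩
        exact ⟨hv, (h.mem_centralizer_T_iff hv).mpr
          ((h.mem_centralizer_singleton_iff hs hs1 hv).mp hvs)⟩
      · rintro ⟨hv, hvT⟩
        exact ⟨hv, (h.mem_centralizer_singleton_iff hs hs1 hv).mpr
          ((h.mem_centralizer_T_iff hv).mp hvT)⟩
    · intro v hv hvT
      have hy : c ⟨v, hv⟩ 1 ≠ 0 := fun h0 => hvT ((h.mem_centralizer_T_iff hv).mpr h0)
      apply le_antisymm
      · rw [Subgroup.closure_le]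
        rintro x ⟨t, ht, rfl⟩
        exact h.comm_mem_inf ht hv
      · intro w hw
        have hwV := (Subgroup.mem_inf.mp hw).1
        have hw1 := (h.mem_centralizer_T_iff hwV).mp (Subgroup.mem_inf.mp hw).2
        obtain ⟨t, ht, hta⟩ := h.exists_T (- (c ⟨w, hwV⟩ 0 / c ⟨v, hv⟩ 1))
        have hc := h.c_comm ht hta hv
        have hwe : w = v * t * v⁻¹ * t⁻¹ := by
          apply h.eq_of_coords hwV (h.comm_mem ht hv)
          · rw [hc]
            show _ = - (- (c ⟨w, hwV⟩ 0 / c ⟨v, hv⟩ 1) * c ⟨v, hv⟩ 1)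
            field_simp
          · rw [hc, hw1]; rfl
        exact Subgroup.subset_closure ⟨t, ht, hwe⟩

end Cfsg.Agent.S2779
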