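import Cfsg.Statements.S2780
import Cfsg.Agent.Lib.helper52.NatSL2

set_option autoImplicit false
open Cfsg

namespace Cfsg.Agent.S2780

open Cfsg.Agent.Lib.helper52 Matrix

/-- Let L act on the elementary abelian p-group V (inside a finite group, faithfully) as SL₂(F) on its natural module, F a field with p^n elements, S a Sylow p-subgroup of L. Then: for every g ∈ L not normalizing S, V is the internal direct product of C_V(S) and C_V(gSg⁻¹); every nonidentity element of L of order prime to p acts on V without nonidentity fixed points; and C_V(S) and V/C_V(S) are irreducible for N_L(S): the only N_L(S)-invariant subgroups of C_V(S) are 1 and C_V(S), and the only N_L(S)-invariant subgroups between C_V(S) and V are those two. -/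
theorem result {G : Type*} [Group G] [Finite G] {p : ℕ} [Fact p.Prime] {F : Type*} [Field F] [Fintype F] (n : ℕ) (hF : Fintype.card F = p ^ n) (V L : Subgroup G) (hnat : Cfsg.IsNaturalSL2Module F V L) (hf : L ⊓ Subgroup.centralizer (V : Set G) = ⊥) (S : Sylow p ↥L) (T : Subgroup G) (hT : T = ((S : Subgroup ↥L).map L.subtype)) : (∀ g ∈ L, g ∉ Subgroup.normalizer (T : Set G) → Cfsg.IsInternalDirectProduct (V ⊓ Subgroup.centralizer ((T : Subgroup G) : Set G)) (V ⊓ Subgroup.centralizer ((T.map (MulAut.conj g).toMonoidHom : Subgroup G) : Set G)) V) ∧ (∀ x ∈ L, x ≠ 1 → (orderOf x).Coprime p → (V ⊓ Subgroup.centralizer ({x} : Set G)) = ⊥) ∧ (∀ U : Subgroup G, U ≤ (V ⊓ Subgroup.centralizer ((T : Subgroup G) : Set G)) → L ⊓ Subgroup.normalizer (T : Set G) ≤ Subgroup.normalizer (U : Set G) → U = ⊥ ∨ U = (V ⊓ Subgroup.centralizer ((T : Subgroup G) : Set G))) ∧ (∀ U : Subgroup G, (V ⊓ Subgroup.centralizer ((T : Subgroup G) : Set G)) ≤ U → U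 ≤ V → L ⊓ Subgroup.normalizer (T : Set G) ≤ Subgroup.normalizer (U : Set G) → U = (V ⊓ Subgroup.centralizer ((T : Subgroup G) : Set G)) ∨ U = V) := by
  obtain ⟨c, r, h⟩ := exists_natCoord hF V L hnat hf S T hT
  have hpF : (p : F) = 0 := by
    have h1 := Nat.cast_card_eq_zero F
    rw [hF, Nat.cast_pow] at h1
    have hn : n ≠ 0 := by
      rintro rfl
      have h2 : 1 < Fintype.card F := Fintype.one_lt_card
      rw [hF] at h2
      simp at h2
    exact (pow_eq_zero_iff hn).mp h1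
  have hone : ∀ {u : G} (huV : u ∈ V), c ⟨u, huV⟩ 0 = 0 → c ⟨u, huV⟩ 1 = 0 → u = 1 := by
    intro u huV h0 h1
    apply h.eq_of_coords huV V.one_mem
    · rw [h0]; exact (congrFun h.c_one 0).symm
    · rw [h1]; exact (congrFun h.c_one 1).symm
  refine ⟨?_, ?_, ?_, ?_⟩
  · intro g hg hgN
    have hm : (r ⟨g, hg⟩).1 1 0 ≠ 0 := fun h0 => hgN (h.mem_normalizer_T hg h0)
    have hconjC : ∀ u ∈ V ⊓ Subgroup.centralizer (T : Set G), g * u * g⁻¹ ∈
        V ⊓ Subgroup.centralizer ((T.map (MulAut.conj g).toMonoidHom : Subgroup G) : Set G) := by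
      intro u hu
      refine Subgroup.mem_inf.mpr ⟨h.conj_mem hg (Subgroup.mem_inf.mp hu).1, ?_⟩
      rw [Subgroup.mem_centralizer_iff]
      rintro _ ⟨t, ht, rfl⟩
      show g * t * g⁻¹ * (g * u * g⁻¹) = g * u * g⁻¹ * (g * t * g⁻¹)
      have h1 := Subgroup.mem_centralizer_iff.mp (Subgroup.mem_inf.mp hu).2 t ht
      calc g * t * g⁻¹ * (g * u * g⁻¹) = g * (t * u) * g⁻¹ := by group
        _ = g * (u * t) * g⁻¹ := by rw [h1]
        _ = _ := by group
    have hconjC' : ∀ v ∈ V ⊓ Subgroup.centralizer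
        ((T.map (MulAut.conj g).toMonoidHom : Subgroup G) : Set G),
        g⁻¹ * v * g ∈ V ⊓ Subgroup.centralizer (T : Set G) := by
      intro v hv
      have hgi : g⁻¹ ∈ L := L.inv_mem hg
      have h1 := h.conj_mem hgi (Subgroup.mem_inf.mp hv).1
      rw [inv_inv] at h1
      refine Subgroup.mem_inf.mpr ⟨h1, ?_⟩
      rw [Subgroup.mem_centralizer_iff]
      intro t ht
      have h2 := Subgroup.mem_centralizer_iff.mp (Subgroup.mem_inf.mp hv).2 (g * t * g⁻¹)
        ⟨t, ht, rfl⟩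
      calc t * (g⁻¹ * v * g) = g⁻¹ * (g * t * g⁻¹ * v) * g := by group
        _ = g⁻¹ * (v * (g * t * g⁻¹)) * g := by rw [h2]
        _ = _ := by group
    refine ⟨inf_le_left, inf_le_left, ?_, ?_, ?_⟩
    · intro a ha b hb
      exact h.comm_V (Subgroup.mem_inf.mp ha).1 (Subgroup.mem_inf.mp hb).1
    · rw [eq_bot_iff]
      intro v hv
      obtain ⟨hv1, hv2⟩ := Subgroup.mem_inf.mp hv
      have hvV := (Subgroup.mem_inf.mp hv1).1
      have hy : c ⟨v, hvV⟩ 1 = 0 :=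
        (h.mem_centralizer_T_iff hvV).mp (Subgroup.mem_inf.mp hv1).2
      have hu := hconjC' v hv2
      have huV := (Subgroup.mem_inf.mp hu).1
      have huy : c ⟨g⁻¹ * v * g, huV⟩ 1 = 0 :=
        (h.mem_centralizer_T_iff huV).mp (Subgroup.mem_inf.mp hu).2
      have hvu : v = g * (g⁻¹ * v * g) * g⁻¹ := by group
      have hcv := h.c_conj hg huV
      have h1 : c ⟨v, hvV⟩ 1 = (r ⟨g, hg⟩).1 1 0 * c ⟨g⁻¹ * v * g, huV⟩ 0 := by
        have e : (⟨v, hvV⟩ : ↥V) = ⟨g * (g⁻¹ * v * g) * g⁻¹, h.conj_mem hg huV⟩ :=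
          Subtype.ext hvu
        rw [e, hcv]
        simp [Matrix.mulVec, dotProduct, Fin.sum_univ_two, huy]
      rw [hy] at h1
      have hu0 : c ⟨g⁻¹ * v * g, huV⟩ 0 = 0 := (mul_eq_zero.mp h1.symm).resolve_left hm
      have hu1 : g⁻¹ * v * g = 1 := hone huV hu0 huy
      rw [Subgroup.mem_bot, hvu, hu1]
      group
    · apply le_antisymm (sup_le inf_le_left inf_le_left)
      intro v hv
      obtain ⟨u', hu'V, hcu'⟩ := h.exists_V (c ⟨v, hv⟩ 1 / (r ⟨g, hg⟩).1 1 0) 0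
      have hu'C : u' ∈ V ⊓ Subgroup.centralizer (T : Set G) :=
        Subgroup.mem_inf.mpr ⟨hu'V, (h.mem_centralizer_T_iff hu'V).mpr (by rw [hcu']; rfl)⟩
      have hu := hconjC u' hu'C
      have huV := h.conj_mem hg hu'V
      have hcu := h.c_conj hg hu'V
      have hwV : v * (g * u' * g⁻¹)⁻¹ ∈ V := V.mul_mem hv (V.inv_mem huV)
      have hw1 : c ⟨v * (g * u' * g⁻¹)⁻¹, hwV⟩ 1 = 0 := by
        have e : (⟨v * (g * u' * g⁻¹)⁻¹, hwV⟩ : ↥V) =
            ⟨v, hv⟩ * (⟨g * u' * g⁻¹, huV⟩ : ↥V)⁻¹ := rfl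
        rw [e, h.c_mul, h.c_inv, hcu, hcu']
        simp [Matrix.mulVec, dotProduct, Fin.sum_univ_two]
        field_simp
        ring
      have hwC : v * (g * u' * g⁻¹)⁻¹ ∈ V ⊓ Subgroup.centralizer (T : Set G) :=
        Subgroup.mem_inf.mpr ⟨hwV, (h.mem_centralizer_T_iff hwV).mpr hw1⟩
      have e2 : v = v * (g * u' * g⁻¹)⁻¹ * (g * u' * g⁻¹) := by group
      rw [e2]
      exact Subgroup.mul_mem_sup hwC hu
  · intro x hx hx1 hcop
    rw [eq_bot_iff]
    intro v hv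
    rw [Subgroup.mem_bot]
    by_contra hv1
    obtain ⟨hvV, hvC⟩ := Subgroup.mem_inf.mp hv
    have hxv : x * v = v * x := Subgroup.mem_centralizer_iff.mp hvC x rfl
    have hfix : (r ⟨x, hx⟩).1 *ᵥ c ⟨v, hvV⟩ = c ⟨v, hvV⟩ := by
      rw [← h.c_conj hx hvV]
      congr 1
      exact Subtype.ext (by show x * v * x⁻¹ = v; rw [hxv, mul_inv_cancel_right])
    have hcv : c ⟨v, hvV⟩ ≠ 0 :=
      fun h0 => hv1 (congrArg Subtype.val ((h.c_eq_zero_iff _).mp h0))
    have hpow := sl2_pow_eq_one_of_fixed hpF (r ⟨x, hx⟩) hcv hfix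
    rw [← map_pow] at hpow
    have hxp : (⟨x, hx⟩ : ↥L) ^ p = 1 := h.r_bij.1 (hpow.trans (map_one r).symm)
    have hxp' : x ^ p = 1 := by
      have h2 := congrArg Subtype.val hxp
      simpa using h2
    have hdvd : orderOf x ∣ p := orderOf_dvd_of_pow_eq_one hxp'
    exact hx1 (orderOf_eq_one_iff.mp (Nat.Coprime.eq_one_of_dvd hcop hdvd))
  · intro U hU hN
    by_cases hUbot : U = ⊥
    · exact Or.inl hUbot
    · right
      obtain ⟨u, huU, hu1⟩ : ∃ u ∈ U, u ≠ 1 := by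
        by_contra hcon
        push Not at hcon
        exact hUbot ((Subgroup.eq_bot_iff_forall U).mpr hcon)
      apply le_antisymm hU
      intro w hw
      have huV := (Subgroup.mem_inf.mp (hU huU)).1
      have huy := (h.mem_centralizer_T_iff huV).mp (Subgroup.mem_inf.mp (hU huU)).2
      have hwV := (Subgroup.mem_inf.mp hw).1
      have hwy := (h.mem_centralizer_T_iff hwV).mp (Subgroup.mem_inf.mp hw).2
      have hux : c ⟨u, huV⟩ 0 ≠ 0 := fun h0 => hu1 (hone huV h0 huy)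
      by_cases hwx : c ⟨w, hwV⟩ 0 = 0
      · rw [hone hwV hwx hwy]
        exact U.one_mem
      · have ha : c ⟨w, hwV⟩ 0 / c ⟨u, huV⟩ 0 ≠ 0 := div_ne_zero hwx hux
        obtain ⟨d, hd, hdN, hda⟩ := h.exists_torus _ ha
        have hdu : d * u * d⁻¹ ∈ U :=
          (Subgroup.mem_normalizer_iff.mp (hN (Subgroup.mem_inf.mpr ⟨hd, hdN⟩)) u).mp huU
        have hc := h.c_conj_torus hd hda huV
        have hwe : w = d * u * d⁻¹ := by
          apply h.eq_of_coords hwV (h.conj_mem hd huV)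
          · rw [hc]
            show _ = c ⟨w, hwV⟩ 0 / c ⟨u, huV⟩ 0 * c ⟨u, huV⟩ 0
            field_simp
          · rw [hc, hwy, huy]
            show (0 : F) = _ * 0
            rw [mul_zero]
        rw [hwe]
        exact hdu
  · intro U hU1 hU2 hN
    by_cases hUeq : U = V ⊓ Subgroup.centralizer (T : Set G)
    · exact Or.inl hUeq
    · right
      obtain ⟨u, huU, huC⟩ : ∃ u ∈ U, u ∉ Subgroup.centralizer (T : Set G) := by
        by_contra hcon
        push Not at hcon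
        exact hUeq (le_antisymm (fun u hu => Subgroup.mem_inf.mpr ⟨hU2 hu, hcon u hu⟩) hU1)
      have huV := hU2 huU
      have huy : c ⟨u, huV⟩ 1 ≠ 0 := fun h0 => huC ((h.mem_centralizer_T_iff huV).mpr h0)
      apply le_antisymm hU2
      intro w hwV
      by_cases hwy : c ⟨w, hwV⟩ 1 = 0
      · exact hU1 (Subgroup.mem_inf.mpr ⟨hwV, (h.mem_centralizer_T_iff hwV).mpr hwy⟩)
      · have ha : c ⟨u, huV⟩ 1 / c ⟨w, hwV⟩ 1 ≠ 0 := div_ne_zero huy hwy
        obtain ⟨d, hd, hdN, hda⟩ := h.exists_torus _ ha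
        have hdu : d * u * d⁻¹ ∈ U :=
          (Subgroup.mem_normalizer_iff.mp (hN (Subgroup.mem_inf.mpr ⟨hd, hdN⟩)) u).mp huU
        have hduV := h.conj_mem hd huV
        have hc := h.c_conj_torus hd hda huV
        have hzV : w * (d * u * d⁻¹)⁻¹ ∈ V := V.mul_mem hwV (V.inv_mem hduV)
        have hz1 : c ⟨w * (d * u * d⁻¹)⁻¹, hzV⟩ 1 = 0 := by
          have e : (⟨w * (d * u * d⁻¹)⁻¹, hzV⟩ : ↥V) =
              ⟨w, hwV⟩ * (⟨d * u * d⁻¹, hduV⟩ : ↥V)⁻¹ := rfl
          rw [e, h.c_mul, h.c_inv, hc]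
          show c ⟨w, hwV⟩ 1 + - ((c ⟨u, huV⟩ 1 / c ⟨w, hwV⟩ 1)⁻¹ * c ⟨u, huV⟩ 1) = 0
          field_simp
          ring
        have hzU : w * (d * u * d⁻¹)⁻¹ ∈ U :=
          hU1 (Subgroup.mem_inf.mpr ⟨hzV, (h.mem_centralizer_T_iff hzV).mpr hz1⟩)
        have e2 : w = w * (d * u * d⁻¹)⁻¹ * (d * u * d⁻¹) := by group
        rw [e2]
        exact U.mul_mem hzU hdu

end Cfsg.Agent.S2780
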