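-- Statement S2781 (row 2781).
import Cfsg.Statements.S2781
import Cfsg.Agent.Lib.helper52.Transfer
import Cfsg.Agent.Lib.helper52.SupTools
import Cfsg.Agent.Lib.helper53.PCore

set_option autoImplicit false
open Cfsg

namespace Cfsg.Agent.S2781

open Cfsg.Agent.Lib.helper52

/-- Faithful H on elementary abelian V with V = ⟨C_V(T)^H⟩ for T ∈ Syl_p(O^p(H)): V = [V, O^p(H)] C_V(O^p(H)). -/
theorem result {G : Type*} [Group G] [Finite G] {p : ℕ} [Fact p.Prime] (V H : Subgroup G) (hV : Cfsg.IsElementaryAbelian p V) (hHV : H ≤ Subgroup.normalizer (V : Set G)) (hf : H ⊓ Subgroup.centralizer (V : Set G) = ⊥) (R : Subgroup G) (hR : R = (Cfsg.pResidual p ↥H).map H.subtype) (S : Sylow p ↥R) (T : Subgroup G) (hT : T = ((S : Subgroup ↥R).map R.subtype)) (hgen : ∀ W : Subgroup G, H ≤ Subgroup.normalizer (W : Set G) → (V ⊓ Subgroup.centralizer ((T : Subgroup G) : Set G)) ≤ W → V ≤ W) : ⁅V, R⁆ ⊔ (V ⊓ Subgroup.centralizer ((R : Subgroup G) : Set G)) = V := by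
  have hRH : R ≤ H := by
    rw [hR]
    rintro r hr
    obtain ⟨r', _, rfl⟩ := Subgroup.mem_map.mp hr
    exact r'.2
  have hRN : R ≤ Subgroup.normalizer (V : Set G) := hRH.trans hHV
  have hHR : H ≤ Subgroup.normalizer (R : Set G) := by
    rw [hR]
    have := Cfsg.Agent.Lib.helper53.pResidual_normal p ↥H
    exact le_normalizer_map_subtype H (Cfsg.pResidual p ↥H)
  apply le_antisymm
  · exact sup_le (Subgroup.le_normalizer_iff_commutator_le_left.mp hRN) inf_le_left
  · apply hgen
    · apply le_normalizer_sup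
      · intro g hg
        rw [Subgroup.mem_normalizer_iff_map_conj_eq, Subgroup.map_commutator,
          Subgroup.mem_normalizer_iff_map_conj_eq.mp (hHV hg),
          Subgroup.mem_normalizer_iff_map_conj_eq.mp (hHR hg)]
      · intro g hg
        exact Subgroup.inf_normalizer_le_normalizer_inf
          ⟨hHV hg, normalizer_le_normalizer_centralizer R (hHR hg)⟩
    · rintro z ⟨hzV, hzT⟩
      apply mem_commutator_sup_centralizer_of_sylow V R hV hRN S hzV
      intro t ht
      have htT : (t : G) ∈ T := by rw [hT]; exact Subgroup.mem_map_of_mem _ ht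
      exact Subgroup.mem_centralizer_iff.mp hzT _ htT

end Cfsg.Agent.S2781
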