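import Cfsg.Statements.S2787
import Cfsg.Agent.Lib.helper52.QuadNoQuat
import Cfsg.Agent.Lib.helper52.QuadPSL2
import Cfsg.Agent.Lib.helper52.QuadRee

set_option autoImplicit false
open Cfsg

namespace Cfsg.Agent.S2787

/-- Let p be a prime and let H act by conjugation on the elementary abelian p-subgroup V of a finite group, irreducibly (no H-invariant subgroups of V other than 1 and V) and nontrivially, and suppose H/C_H(V) is isomorphic to PSL₂(F) for a field F with p^n elements, p^n odd, or p = 3 and H/C_H(V) is isomorphic to a Ree group ²G₂(3^(2m+1)), m ≥ 1. Then no subgroup A of H acting nontrivially on V acts quadratically: [V, A, A] = 1 forces [V, A] = 1. -/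
theorem result {G : Type*} [Group G] [Finite G] {p : ℕ} [Fact p.Prime] (V H : Subgroup G) (hV : Cfsg.IsElementaryAbelian p V) (hHV : H ≤ Subgroup.normalizer (V : Set G)) (hirr : ∀ U : Subgroup G, U ≤ V → H ≤ Subgroup.normalizer (U : Set G) → U = ⊥ ∨ U = V) (hnt : ¬ H ≤ Subgroup.centralizer (V : Set G)) [hn : ((Subgroup.centralizer (V : Set G)).subgroupOf H).Normal] (hq : (∃ (F : Type) (_ : Field F) (_ : Fintype F) (n : ℕ), Fintype.card F = p ^ n ∧ Odd (Fintype.card F) ∧ Nonempty (↥H ⧸ (Subgroup.centralizer (V : Set G)).subgroupOf H ≃* Matrix.ProjectiveSpecialLinearGroup (Fin 2) F)) ∨ (p = 3 ∧ Cfsg.Lie.IsoRee (↥H ⧸ (Subgroup.centralizer (V : Set G)).subgroupOf H))) (A : Subgroup G) (hA : A ≤ H) (hquad : ⁅⁅V, A⁆, A⁆ = ⊥) : ⁅V, A⁆ = ⊥ := by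
  classical
  rcases hq with ⟨F, iF, iFt, n, hcard, hodd, ⟨e⟩⟩ | ⟨h3, hree⟩
  · -- `PSL₂(F)`, `|F| = p ^ n` odd
    have hp2 : p ≠ 2 := by
      intro h
      rw [hcard, h] at hodd
      rcases Nat.eq_zero_or_pos n with h0 | h0
      · have h1 := Fintype.one_lt_card (α := F)
        rw [hcard, h0, pow_zero] at h1
        exact lt_irrefl 1 h1
      · exact (Nat.not_even_iff_odd.mpr hodd) ((Nat.even_pow.mpr ⟨even_two, h0.ne'⟩))
    haveI : CharP F p := by
      obtain ⟨q, hq⟩ := CharP.exists F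
      haveI := hq
      obtain ⟨k, hqp, hk⟩ := FiniteField.card F q
      have h1 : q ∣ p ^ n := by
        rw [← hcard, hk]
        exact dvd_pow_self q k.ne_zero
      have h2 : q = p :=
        (Nat.prime_dvd_prime_iff_eq hqp (Fact.out : p.Prime)).mp (hqp.dvd_of_dvd_pow h1)
      rw [← h2]
      exact hq
    have h2 : (2 : F) ≠ 0 := by
      intro h
      have h' : ((2 : ℕ) : F) = 0 := by exact_mod_cast h
      rw [CharP.cast_eq_zero_iff F p] at h'
      exact hp2 ((Nat.prime_dvd_prime_iff_eq (Fact.out : p.Prime) Nat.prime_two).mp h')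
    obtain ⟨k1, k2⟩ := Cfsg.Agent.Lib.helper52.QuadNoQuat.transport_hyps e p
      (fun N hN hNp => Cfsg.Agent.Lib.helper52.QuadPSL2.psl2_normal_pgroup_eq_bot p hp2 N hN hNp)
      (fun T hT n hn g => Cfsg.Agent.Lib.helper52.QuadPSL2.psl2_no_quat_quotient h2 hodd T hT n hn g)
    exact Cfsg.Agent.Lib.helper52.QuadNoQuat.no_quad_of_noQuat hp2 V H hV hHV k1 k2 A hA hquad
  · -- Ree groups
    subst h3
    unfold Cfsg.Lie.IsoRee at hree
    obtain ⟨K, iK, iKt, m, hm, hK, ⟨e⟩⟩ := hree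
    obtain ⟨k1, k2⟩ := Cfsg.Agent.Lib.helper52.QuadNoQuat.transport_hyps e 3
      (fun N hN hNp => Cfsg.Agent.Lib.helper52.QuadRee.ree_normal_pgroup_eq_bot hm hK N hN hNp)
      (fun T hT n hn g => Cfsg.Agent.Lib.helper52.QuadRee.ree_no_quat_quotient hm hK T hT n hn g)
    exact Cfsg.Agent.Lib.helper52.QuadNoQuat.no_quad_of_noQuat (by norm_num) V H hV hHV k1 k2 A hA
      hquad

end Cfsg.Agent.S2787
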