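import Mathlib
import Cfsg.Statements.S2788
import Cfsg.Agent.Lib.helper46.PPDBound

set_option autoImplicit false
open Cfsg

namespace Cfsg.Agent.S2788

open Cfsg.Agent.Lib.helper46 in
/-- Let H act faithfully by conjugation on the elementary abelian p-subgroup V of a finite group with H ≅ SL₂(F), F a field with p^n elements, S a Sylow p-subgroup of H, and A ≤ S a subgroup of order at least 3 acting quadratically on V ([V, A, A] = 1). Then |V/C_V(a)| ≥ p^n for every nonidentity a ∈ A. -/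
theorem result {G : Type*} [Group G] [Finite G] {p : ℕ} [Fact p.Prime] (V H : Subgroup G) (hV : Cfsg.IsElementaryAbelian p V) (hHV : H ≤ Subgroup.normalizer (V : Set G)) (hf : H ⊓ Subgroup.centralizer (V : Set G) = ⊥) {F : Type*} [Field F] [Fintype F] (n : ℕ) (hF : Fintype.card F = p ^ n) (hiso : Nonempty (↥H ≃* Matrix.SpecialLinearGroup (Fin 2) F)) (S : Sylow p ↥H) (T : Subgroup G) (hT : T = ((S : Subgroup ↥H).map H.subtype)) (A : Subgroup G) (hA : A ≤ T) (hA3 : 3 ≤ Nat.card A) (hquad : ⁅⁅V, A⁆, A⁆ = ⊥) : ∀ a ∈ A, a ≠ 1 → p ^ n ≤ ((V ⊓ Subgroup.centralizer ({a} : Set G))).relIndex V := by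
  intro a haA ha1
  obtain ⟨hVcomm, hVp⟩ := hV
  obtain ⟨e⟩ := hiso
  have haT : a ∈ T := hA haA
  rw [hT] at haT
  obtain ⟨a', ha'S, ha'⟩ := haT
  have haH : a ∈ H := by
    rw [← ha']
    exact a'.2
  obtain ⟨k, hk⟩ := S.isPGroup' ⟨a', ha'S⟩
  have hak : a ^ p ^ k = 1 := by
    have h1 : a' ^ p ^ k = 1 := by
      have h2 := congrArg Subtype.val hk
      exact h2
    rw [← ha']
    have h3 := congrArg (H.subtype) h1
    rw [map_pow, map_one] at h3
    exact h3
  have hVc : ∀ x ∈ V, ∀ y ∈ V, x * y = y * x := by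
    intro x hx y hy
    have h1 := hVcomm.is_comm.comm (⟨x, hx⟩ : ↥V) ⟨y, hy⟩
    exact congrArg Subtype.val h1
  exact sl2_faithful_bound V H hVc hVp hHV hf n hF e a haH ha1 k hak

end Cfsg.Agent.S2788
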