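import Cfsg.Statements.S2792
-- import your own Cfsg.Agent.* helpers here
import Cfsg.Agent.Lib.helper40.YoshidaCore
import Cfsg.Agent.Lib.helper40.EngelNorm

set_option autoImplicit false
open Cfsg

namespace Cfsg.Agent.S2792

/-- Let S be a Sylow p-subgroup of the finite group G and W a subgroup of S weakly closed in S with respect to G. If S ∩ G' ≠ S ∩ (N_G(W))', then there are x ∈ S, z ∈ W and a maximal subgroup W₀ of W such that the iterated commutator [x, z; p−1] (with [x, z] = x⁻¹z⁻¹xz and [x, z; i+1] = [[x, z; i], z]) lies in W₀ but not in the Frattini subgroup of W₀; in particular [x, z; p−1] ≠ 1. -/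
theorem mem_normalizer_of_map_conj_eq {G : Type*} [Group G] (W : Subgroup G) (g : G)
    (h : W.map (MulAut.conj g).toMonoidHom = W) : g ∈ Subgroup.normalizer (W : Set G) := by
  rw [Subgroup.mem_normalizer_iff]
  intro x
  constructor
  · intro hx
    have h1 : g * x * g⁻¹ ∈ W.map (MulAut.conj g).toMonoidHom := ⟨x, hx, rfl⟩
    rwa [h] at h1
  · intro hx
    rw [← h] at hx
    obtain ⟨w, hw, hwx⟩ := hx
    have h1 : g * w * g⁻¹ = g * x * g⁻¹ := hwx
    have h2 : w = x := by
      have h3 := congrArg (fun t => g⁻¹ * t * g) h1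
      simpa [mul_assoc] using h3
    rwa [← h2]

theorem normal_of_relIndex_p {G : Type*} [Group G] {p : ℕ} [Fact p.Prime] (B M : Subgroup G)
    [Finite B] (hB : IsPGroup p B) (hMB : M ≤ B) (hidx : M.relIndex B = p) :
    ∀ b ∈ B, ∀ m ∈ M, b * m * b⁻¹ ∈ M := by
  have hp := (Fact.out : p.Prime)
  have hn : (M.subgroupOf B).Normal := by
    apply Subgroup.normal_of_index_eq_minFac_card
    obtain ⟨n, hn⟩ := IsPGroup.iff_card.1 hB
    have hn0 : n ≠ 0 := by
      rintro rfl
      have h1 : (M.subgroupOf B).index ∣ Nat.card B := (M.subgroupOf B).index_dvd_card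
      have h2 : (M.subgroupOf B).index = p := hidx
      rw [hn, pow_zero, h2] at h1
      exact hp.one_lt.ne' (Nat.dvd_one.1 h1)
    have h2 : (M.subgroupOf B).index = p := hidx
    rw [h2, hn, Nat.pow_minFac hn0, hp.minFac_eq]
  intro b hb m hm
  have h1 := hn.conj_mem ⟨m, hMB hm⟩ (Subgroup.mem_subgroupOf.2 hm) ⟨b, hb⟩
  exact Subgroup.mem_subgroupOf.1 h1

theorem result {G : Type*} [Group G] [Finite G] {p : ℕ} [Fact p.Prime] (S : Sylow p G) (W : Subgroup G) (hW : Cfsg.IsWeaklyClosed W (S : Subgroup G)) (h : (S : Subgroup G) ⊓ commutator G ≠ (S : Subgroup G) ⊓ ⁅Subgroup.normalizer (W : Set G), Subgroup.normalizer (W : Set G)⁆) : ∃ x ∈ (S : Subgroup G), ∃ z ∈ W, ∃ W₀ : Subgroup ↥W, IsCoatom W₀ ∧ (fun y : G => y⁻¹ * z⁻¹ * y * z)^[p - 1] x ∈ W₀.map W.subtype ∧ (fun y : G => y⁻¹ * z⁻¹ * y * z)^[p - 1] x ∉ ((frattini ↥W₀).map W₀.subtype).map W.subtype := by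
  classical
  have hp := (Fact.out : p.Prime)
  by_contra hcon
  push Not at hcon
  apply h
  have hWS : W ≤ (S : Subgroup G) := hW.1
  have hSN : (S : Subgroup G) ≤ Subgroup.normalizer (W : Set G) := by
    intro s hs
    apply mem_normalizer_of_map_conj_eq
    apply hW.2
    rintro _ ⟨w, hw, rfl⟩
    exact (S : Subgroup G).mul_mem ((S : Subgroup G).mul_mem hs (hWS hw))
      ((S : Subgroup G).inv_mem hs)
  apply le_antisymm
  · apply le_inf inf_le_left
    apply Cfsg.Agent.Lib.helper40.focal_le_of_star S _ hSN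
    intro u hu _
    have huB : u ∈ W ⊔ Subgroup.zpowers u :=
      (le_sup_right : Subgroup.zpowers u ≤ _) (Subgroup.mem_zpowers u)
    have hBS : W ⊔ Subgroup.zpowers u ≤ (S : Subgroup G) :=
      sup_le hWS ((Subgroup.zpowers_le).2 hu)
    refine ⟨W ⊔ Subgroup.zpowers u, hBS, huB, ?_, ?_⟩
    · intro g hg
      have h1 : W.map (MulAut.conj g⁻¹).toMonoidHom ≤ (S : Subgroup G) := by
        rintro _ ⟨w, hw, rfl⟩
        have h2 := hg w ((le_sup_left : W ≤ _) hw)
        show g⁻¹ * w * g⁻¹⁻¹ ∈ (S : Subgroup G)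
        rwa [inv_inv]
      have h3 := mem_normalizer_of_map_conj_eq W g⁻¹ (hW.2 g⁻¹ h1)
      have h4 := (Subgroup.normalizer (W : Set G)).inv_mem h3
      rwa [inv_inv] at h4
    · intro M hMB hidx huM
      have : Finite ↥(W ⊔ Subgroup.zpowers u) := Finite.of_injective (Subgroup.inclusion hBS)
        (Subgroup.inclusion_injective hBS)
      have hBp : IsPGroup p ↥(W ⊔ Subgroup.zpowers u) := S.2.to_le hBS
      have hnorm := normal_of_relIndex_p (W ⊔ Subgroup.zpowers u) M hBp hMB hidx
      have hWM : ¬ W ≤ M := by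
        intro hWM
        have h1 : W ⊔ Subgroup.zpowers u ≤ M := sup_le hWM ((Subgroup.zpowers_le).2 huM)
        rw [Subgroup.relIndex_eq_one.2 h1] at hidx
        exact hp.one_lt.ne hidx
      obtain ⟨z, hzW, hzM⟩ := SetLike.not_le_iff_exists.1 hWM
      have hzB : z ∈ W ⊔ Subgroup.zpowers u := (le_sup_left : W ≤ _) hzW
      refine ⟨z, hzB, hzM, ?_⟩
      have hzn : ∀ m ∈ M, z⁻¹ * m * z ∈ M := by
        intro m hm
        have h1 := hnorm z⁻¹ (Subgroup.inv_mem _ hzB) m hm
        rwa [inv_inv] at h1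
      apply Cfsg.Agent.Lib.helper40.star_of_engel M z u hzn huM
      have hfM : ∀ k : ℕ, (fun y : G => y⁻¹ * z⁻¹ * y * z)^[k] u ∈ M := by
        intro k
        induction k with
        | zero => exact huM
        | succ k ih =>
          rw [Function.iterate_succ_apply']
          have h1 := M.mul_mem (M.inv_mem ih) (hzn _ ih)
          simpa [mul_assoc] using h1
      have hfS : ∀ k : ℕ, (fun y : G => y⁻¹ * z⁻¹ * y * z)^[k] u ∈ (S : Subgroup G) := by
        intro k
        induction k with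
        | zero => exact hu
        | succ k ih =>
          rw [Function.iterate_succ_apply']
          exact (S : Subgroup G).mul_mem ((S : Subgroup G).mul_mem ((S : Subgroup G).mul_mem
            ((S : Subgroup G).inv_mem ih) ((S : Subgroup G).inv_mem (hWS hzW))) ih) (hWS hzW)
      have hfW : (fun y : G => y⁻¹ * z⁻¹ * y * z)^[p - 1] u ∈ W := by
        obtain ⟨k, hk⟩ : ∃ k, p - 1 = k + 1 := ⟨p - 2, by have := hp.two_le; omega⟩
        rw [hk, Function.iterate_succ_apply']
        have h1 : ((fun y : G => y⁻¹ * z⁻¹ * y * z)^[k] u)⁻¹ ∈ Subgroup.normalizer (W : Set G) :=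
          Subgroup.inv_mem _ (hSN (hfS k))
        have h2 := (Subgroup.mem_normalizer_iff.1 h1 z⁻¹).1 (W.inv_mem hzW)
        rw [inv_inv] at h2
        exact W.mul_mem h2 hzW
      refine ⟨hfM (p - 1), ?_⟩
      have hcoatom : IsCoatom (M.subgroupOf W) := by
        constructor
        · intro htop
          exact hzM (Subgroup.subgroupOf_eq_top.1 htop hzW)
        · intro K hK
          obtain ⟨k, hkK, hkM⟩ := SetLike.exists_of_lt hK
          have hkM' : (k : G) ∉ M := fun hc => hkM (Subgroup.mem_subgroupOf.2 hc)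
          obtain ⟨hcos, -⟩ := Cfsg.Agent.Lib.helper40.cosets_of_relIndex_p
            (W ⊔ Subgroup.zpowers u) M hidx hnorm (k : G) ((le_sup_left : W ≤ _) k.2) hkM'
          rw [eq_top_iff]
          intro w _
          obtain ⟨i, -, hi⟩ := hcos (w : G) ((le_sup_left : W ≤ _) w.2)
          have h1 : (k ^ i)⁻¹ * w ∈ M.subgroupOf W :=
            Subgroup.mem_subgroupOf.2 (by simpa using hi)
          have h2 := K.mul_mem (K.pow_mem hkK i) (hK.le h1)
          simpa using h2
      have hcW₀ : (fun y : G => y⁻¹ * z⁻¹ * y * z)^[p - 1] u ∈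
          (M.subgroupOf W).map W.subtype :=
        ⟨⟨_, hfW⟩, Subgroup.mem_subgroupOf.2 (hfM (p - 1)), rfl⟩
      obtain ⟨_, ⟨y, hy, rfl⟩, hyc⟩ := hcon u hu z hzW (M.subgroupOf W) hcoatom hcW₀
      have hy1 : Cfsg.Agent.Lib.helper40.eaHom ↥(M.subgroupOf W) p y = 1 :=
        Cfsg.Agent.Lib.helper40.eaHom_frattini y hy
      let ι : ↥(M.subgroupOf W) →* ↥M :=
        { toFun := fun w => ⟨(w.1 : G), Subgroup.mem_subgroupOf.1 w.2⟩
          map_one' := rfl
          map_mul' := fun _ _ => rfl }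
      have h5 := Cfsg.Agent.Lib.helper40.hom_eq_one_of_eaHom
        ((Cfsg.Agent.Lib.helper40.eaHom ↥M p).comp ι)
        (fun x => Cfsg.Agent.Lib.helper40.ea_pow _) y hy1
      have e : ι y = ⟨_, hfM (p - 1)⟩ := Subtype.ext hyc
      rw [MonoidHom.comp_apply, e] at h5
      exact h5
  · apply le_inf inf_le_left
    exact inf_le_right.trans (Subgroup.commutator_mono le_top le_top)

end Cfsg.Agent.S2792
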