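-- Statement S2801 (row 2801).
import Cfsg.Statements.S2801
import Cfsg.Agent.Lib.helper52.PReduced

set_option autoImplicit false
open Cfsg

namespace Cfsg.Agent.S2801

open Cfsg.Agent.Lib.helper52

/-- A finite group of characteristic p has a unique maximal p-reduced normal subgroup Y_L. -/
theorem result {L : Type*} [Group L] [Finite L] {p : ℕ} [Fact p.Prime] (hchar : Subgroup.centralizer (Cfsg.pCore p L : Set L) ≤ Cfsg.pCore p L) : ∃ Y : Subgroup L, (Cfsg.IsPReducedNormal p Y ∧ ∀ V : Subgroup L, Cfsg.IsPReducedNormal p V → V ≤ Y) :=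
  ⟨Cfsg.largestPReduced p L, largestPReduced_isPReducedNormal p L, fun _ hV => le_largestPReduced hV⟩

end Cfsg.Agent.S2801
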