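import Cfsg.Statements.S2807
-- import your own Cfsg.Agent.* helpers here
import Cfsg.Agent.Lib.helper40.YoshidaCore

set_option autoImplicit false
open Cfsg

namespace Cfsg.Agent.S2807

/-- Let S be a Sylow p-subgroup of the finite group G. If S ∩ G' ≠ S ∩ (N_G(S))' (derived subgroups), then the wreath product Z_p ≀ Z_p — realised as a Sylow p-subgroup of the symmetric group of degree p² — is a homomorphic image of S. -/
theorem result {G : Type*} [Group G] [Finite G] {p : ℕ} [Fact p.Prime] (S : Sylow p G) (h : (S : Subgroup G) ⊓ commutator G ≠ (S : Subgroup G) ⊓ ⁅Subgroup.normalizer ((S : Subgroup G) : Set G), Subgroup.normalizer ((S : Subgroup G) : Set G)⁆) : ∃ (P : Sylow p (Equiv.Perm (Fin (p ^ 2)))) (f : ↥(S : Subgroup G) →* ↥(P : Subgroup (Equiv.Perm (Fin (p ^ 2))))), Function.Surjective f := by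
  by_contra hno
  apply h
  apply le_antisymm
  · apply le_inf inf_le_left
    apply Cfsg.Agent.Lib.helper40.focal_le_of_star S _ Subgroup.le_normalizer
    intro u hu _
    refine ⟨(S : Subgroup G), le_rfl, hu, ?_, ?_⟩
    · -- conjugating `S` into `S` normalizes `S`
      intro g hg
      have hinj : Function.Injective (fun b : ↥(S : Subgroup G) =>
          (⟨g⁻¹ * b.1 * g, hg b.1 b.2⟩ : ↥(S : Subgroup G))) := by
        intro a b hab
        have h1 := congrArg Subtype.val hab
        apply Subtype.ext
        simpa using h1
      have hsurj := Finite.injective_iff_surjective.1 hinj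
      rw [Subgroup.mem_normalizer_iff]
      intro x
      constructor
      · intro hx
        obtain ⟨b, hb⟩ := hsurj ⟨x, hx⟩
        have h1 : g⁻¹ * b.1 * g = x := congrArg Subtype.val hb
        rw [← h1]
        have e : g * (g⁻¹ * b.1 * g) * g⁻¹ = b.1 := by group
        rw [e]
        exact b.2
      · intro hx
        have h1 := hg _ hx
        have e : g⁻¹ * (g * x * g⁻¹) * g = x := by group
        rwa [e] at h1
    · intro M hMS hidx huM
      exact Cfsg.Agent.Lib.helper40.star_of_no_wreath S.2 hno (S : Subgroup G).subtype
        (S : Subgroup G) (Subgroup.range_subtype _) u M hMS hidx huM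
  · apply le_inf inf_le_left
    exact inf_le_right.trans (Subgroup.commutator_mono le_top le_top)

end Cfsg.Agent.S2807
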