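import Cfsg.Statements.S2809
import Cfsg.Agent.Lib.helper52.Chain

set_option autoImplicit false
open Cfsg
open scoped commutatorElement

namespace Cfsg.Agent.S2809

theorem iter_le_normalizer {H : Type*} [Group H] (R L : Subgroup H)
    (hL : L ≤ Subgroup.normalizer (R : Set H)) (i : ℕ) :
    L ≤ Subgroup.normalizer ((Cfsg.iterCommutator R L i : Subgroup H) : Set H) := by
  cases i with
  | zero => exact hL
  | succ i => exact Subgroup.normalizer_commutator_ge_right (H₁ := Cfsg.iterCommutator R L i) (H₂ := L)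

/-- If C_H(R) ≤ R for a p-subgroup R and L ≤ N_H(R) acts nilpotently on R, then L is a p-group. -/
theorem result {H : Type*} [Group H] [Finite H] {p : ℕ} [Fact p.Prime] (R : Subgroup H) (hR : IsPGroup p ↥R) (hC : Subgroup.centralizer (R : Set H) ≤ R) (L : Subgroup H) (hL : L ≤ Subgroup.normalizer (R : Set H)) (hnil : ∃ n : ℕ, Cfsg.iterCommutator R L n = ⊥) : IsPGroup p ↥L := by
  obtain ⟨n, hn⟩ := hnil
  have hpR : ∀ r ∈ R, ∃ k : ℕ, r ^ (p ^ k) = 1 := by
    intro r hr
    obtain ⟨k, hk⟩ := hR ⟨r, hr⟩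
    exact ⟨k, by simpa using congrArg Subtype.val hk⟩
  -- every element of L of order prime to p is trivial
  have key : ∀ x ∈ L, (orderOf x).Coprime p → x = 1 := by
    intro x hxL hx
    have hcomm : ∀ r ∈ Cfsg.iterCommutator R L 0, x * r = r * x := by
      apply Cfsg.Agent.Lib.helper52.commute_of_stabilizes_chain x hx (Cfsg.iterCommutator R L) n hn hpR
      · intro i
        exact Subgroup.le_normalizer_iff_commutator_le_left.mp (iter_le_normalizer R L hL i)
      · intro i r hr
        have h1 : ⁅r, x⁆ ∈ ⁅Cfsg.iterCommutator R L i, L⁆ := Subgroup.commutator_mem_commutator hr hxL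
        have h2 : ⁅x, r⁆ ∈ ⁅Cfsg.iterCommutator R L i, L⁆ := by
          rw [← commutatorElement_inv]; exact inv_mem h1
        exact h2
    have hxc : x ∈ Subgroup.centralizer (R : Set H) := by
      rw [Subgroup.mem_centralizer_iff]
      intro r hr
      exact (hcomm r hr).symm
    obtain ⟨k, hk⟩ := hpR x (hC hxc)
    have hd : orderOf x ∣ p ^ k := orderOf_dvd_of_pow_eq_one hk
    have h1 : orderOf x = 1 :=
      Nat.eq_one_of_dvd_coprimes (Nat.Coprime.pow_right k hx) dvd_rfl hd
    exact orderOf_eq_one_iff.mp h1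
  intro g
  obtain ⟨a, ha⟩ := Cfsg.Agent.Lib.helper52.exists_pow_prime_pow_coprime (p := p) (g : H) (orderOf_pos _)
  refine ⟨a, ?_⟩
  have := key ((g : H) ^ (p ^ a)) (pow_mem g.2 _) ha
  exact Subtype.ext (by simpa using this)

end Cfsg.Agent.S2809
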