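-- Statement S2810 (row 2810).
import Cfsg.Statements.S2810
import Cfsg.Agent.Lib.helper52.PCore

set_option autoImplicit false
open Cfsg
open scoped commutatorElement

namespace Cfsg.Agent.S2810

open Cfsg.Agent.Lib.helper52

/-- The stabilizer of a chain of normal subgroups. -/
def chainStab {H : Type*} [Group H] (n : ℕ) (A : Fin (n + 1) → Subgroup H)
    (hnorm : ∀ i, (A i).Normal) : Subgroup H where
  carrier := {g | ∀ i : Fin n, ∀ a ∈ A i.succ, ⁅a, g⁆ ∈ A i.castSucc}
  one_mem' := by
    intro i a _
    rw [commutatorElement_one_right]; exact one_mem _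
  mul_mem' := by
    intro g h hg hh i a ha
    rw [commutatorElement_mul_right_eq_mul_conj, mul_assoc, mul_assoc]
    refine mul_mem (hg i a ha) ?_
    rw [← mul_assoc]
    exact (hnorm i.castSucc).conj_mem _ (hh i a ha) g
  inv_mem' := by
    intro g hg i a ha
    rw [commutatorElement_inv_right]
    have h1 : ⁅g, a⁆ ∈ A i.castSucc := by
      rw [← commutatorElement_inv]; exact inv_mem (hg i a ha)
    have := (hnorm i.castSucc).conj_mem _ h1 g⁻¹
    simpa using this

theorem chainStab_normal {H : Type*} [Group H] (n : ℕ) (A : Fin (n + 1) → Subgroup H)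
    (hnorm : ∀ i, (A i).Normal) : (chainStab n A hnorm).Normal := by
  constructor
  intro g hg h i a ha
  have h1 : h⁻¹ * a * h⁻¹⁻¹ ∈ A i.succ := (hnorm i.succ).conj_mem _ ha h⁻¹
  have h2 := hg i _ h1
  have h3 := (hnorm i.castSucc).conj_mem _ h2 h
  rw [conjugate_commutatorElement] at h3
  have e1 : h * (h⁻¹ * a * h⁻¹⁻¹) * h⁻¹ = a := by group
  rwa [e1] at h3

/-- Characteristic p: a subgroup centralizing the factors of an H-invariant chain of normal subgroups from 1 to O_p(H) lies in O_p(H). -/
theorem result {H : Type*} [Group H] [Finite H] {p : ℕ} [Fact p.Prime] (hchar : Subgroup.centralizer (Cfsg.pCore p H : Set H) ≤ Cfsg.pCore p H) (L : Subgroup H) (n : ℕ) (A : Fin (n + 1) → Subgroup H) (h0 : A 0 = ⊥) (hn : A (Fin.last n) = Cfsg.pCore p H) (hmono : Monotone A) (hnorm : ∀ i, (A i).Normal) (hcent : ∀ i : Fin n, ⁅A i.succ, L⁆ ≤ A i.castSucc) : L ≤ Cfsg.pCore p H := by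
  have hLS : L ≤ chainStab n A hnorm := by
    intro g hg i a ha
    exact hcent i (Subgroup.commutator_mem_commutator ha hg)
  refine hLS.trans (le_pCore (chainStab_normal n A hnorm) ?_)
  apply isPGroup_of_coprime_trivial
  intro x hx hxc
  -- the chain C j = A (n - j)
  let C : ℕ → Subgroup H := fun j => if h : j ≤ n then A ⟨n - j, by omega⟩ else ⊥
  have hC0 : C 0 = Cfsg.pCore p H := by
    simp only [C, Nat.zero_le, ↓reduceDIte, Nat.sub_zero]
    rw [← hn]; rfl
  have hCn : C n = ⊥ := by
    simp only [C, le_refl, ↓reduceDIte, Nat.sub_self]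
    rw [← h0]; rfl
  have hcomm : ∀ r ∈ C 0, x * r = r * x := by
    apply commute_of_stabilizes_chain (p := p) x hxc C n hCn
    · intro r hr
      rw [hC0] at hr
      exact pow_eq_one_of_mem_isPGroup (pCore_isPGroup p H) hr
    · intro i
      by_cases h1 : i + 1 ≤ n
      · have h2 : i ≤ n := by omega
        simp only [C, h1, h2, ↓reduceDIte]
        apply hmono
        rw [Fin.le_def]
        simp only
        omega
      · simp only [C, h1, ↓reduceDIte]
        exact bot_le
    · intro i r hr
      by_cases h1 : i + 1 ≤ n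
      · have h2 : i ≤ n := by omega
        simp only [C, h1, h2, ↓reduceDIte] at hr ⊢
        have e1 : (⟨n - i, by omega⟩ : Fin (n + 1)) = (⟨n - (i + 1), by omega⟩ : Fin n).succ := by
          rw [Fin.ext_iff]; simp only [Fin.succ_mk]; omega
        have e2 : (⟨n - (i + 1), by omega⟩ : Fin (n + 1)) = (⟨n - (i + 1), by omega⟩ : Fin n).castSucc := by
          rw [Fin.ext_iff]; simp
        rw [e1] at hr
        rw [e2]
        have h3 := hx _ r hr
        have h4 : ⁅x, r⁆ ∈ A (⟨n - (i + 1), by omega⟩ : Fin n).castSucc := by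
          rw [← commutatorElement_inv]; exact inv_mem h3
        exact h4
      · by_cases h2 : i ≤ n
        · have h3 : i = n := by omega
          subst h3
          rw [hCn] at hr
          rw [Subgroup.mem_bot] at hr
          subst hr
          simp
        · simp only [C, h2, ↓reduceDIte] at hr
          rw [Subgroup.mem_bot] at hr
          subst hr
          simp
  have hxcent : x ∈ Subgroup.centralizer (Cfsg.pCore p H : Set H) := by
    rw [Subgroup.mem_centralizer_iff]
    intro r hr
    rw [← hC0] at hr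
    exact (hcomm r hr).symm
  obtain ⟨k, hk⟩ := pow_eq_one_of_mem_isPGroup (pCore_isPGroup p H) (hchar hxcent)
  exact eq_one_of_coprime_of_pow hxc hk

end Cfsg.Agent.S2810
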