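-- Statement S2813 (row 2813).
import Cfsg.Statements.S2813
import Cfsg.Agent.Lib.helper52.PCore

set_option autoImplicit false
open Cfsg
open scoped commutatorElement

namespace Cfsg.Agent.S2813

open Cfsg.Agent.Lib.helper52

/-- If `y` commutes with every commutator `⁅k, y ^ m⁆`, then `⁅k, y ^ m⁆ = ⁅k, y⁆ ^ m`. -/
theorem commutator_pow_right {G : Type*} [Group G] (k y : G)
    (h : ∀ m : ℕ, y * ⁅k, y ^ m⁆ = ⁅k, y ^ m⁆ * y) (m : ℕ) : ⁅k, y ^ m⁆ = ⁅k, y⁆ ^ m := by
  induction m with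
  | zero => simp
  | succ m ih =>
    rw [pow_succ', commutatorElement_mul_right_eq_mul_conj, mul_assoc ⁅k, y⁆, h m, pow_succ', ← ih]
    group

/-- If O_p(K) = 1 and a p-subgroup Y ≤ N(K) satisfies [K,Y,Y] = 1, then [K,Y] = 1. -/
theorem result {H : Type*} [Group H] [Finite H] {p : ℕ} [Fact p.Prime] (K : Subgroup H) (hO : Cfsg.pCore p ↥K = ⊥) (Y : Subgroup H) (hY : IsPGroup p ↥Y) (hYK : Y ≤ Subgroup.normalizer (K : Set H)) (hq : ⁅⁅K, Y⁆, Y⁆ = ⊥) : ⁅K, Y⁆ = ⊥ := by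
  set N : Subgroup H := ⁅K, Y⁆ with hN
  have hNK : N ≤ K := Subgroup.le_normalizer_iff_commutator_le_left.mp hYK
  have hKN : K ≤ Subgroup.normalizer (N : Set H) := Subgroup.normalizer_commutator_ge_left K Y
  -- N is abelian
  have hNN : ⁅N, N⁆ = ⊥ := by
    have h1 : ⁅⁅Y, N⁆, K⁆ = ⊥ := by
      rw [Subgroup.commutator_comm Y N, hq, Subgroup.commutator_bot_left]
    have h2 : ⁅⁅N, K⁆, Y⁆ = ⊥ := by
      have h3 : ⁅N, K⁆ ≤ N := Subgroup.le_normalizer_iff_commutator_le_left.mp hKN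
      exact le_bot_iff.mp (hq ▸ Subgroup.commutator_mono h3 le_rfl)
    exact Subgroup.commutator_commutator_eq_bot_of_rotate h1 h2
  have hcomm : ∀ a ∈ N, ∀ b ∈ N, a * b = b * a := by
    intro a ha b hb
    have : ⁅a, b⁆ ∈ ⁅N, N⁆ := Subgroup.commutator_mem_commutator ha hb
    rw [hNN, Subgroup.mem_bot] at this
    exact commutatorElement_eq_one_iff_mul_comm.mp this
  -- Y centralizes N
  have hYN : ∀ y ∈ Y, ∀ a ∈ N, y * a = a * y := by
    intro y hy a ha
    have : ⁅a, y⁆ ∈ ⁅N, Y⁆ := Subgroup.commutator_mem_commutator ha hy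
    rw [hq, Subgroup.mem_bot] at this
    exact (commutatorElement_eq_one_iff_mul_comm.mp this).symm
  -- N is a p-group
  have hNp : IsPGroup p ↥N := by
    have hdef : N = Subgroup.closure {g | ∃ g₁ ∈ K, ∃ g₂ ∈ Y, ⁅g₁, g₂⁆ = g} := Subgroup.commutator_def K Y
    rw [hdef]
    apply isPGroup_closure_of_commute
    · rw [← hdef]; exact hcomm
    · rintro s ⟨k, hk, y, hy, rfl⟩
      obtain ⟨e, he⟩ := pow_eq_one_of_mem_isPGroup hY hy
      refine ⟨e, ?_⟩
      rw [← commutator_pow_right k y, he, commutatorElement_one_right]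
      intro m
      exact hYN y hy _ (Subgroup.commutator_mem_commutator hk (pow_mem hy m))
  -- N is a normal p-subgroup of K
  have hnorm : (N.subgroupOf K).Normal := (Subgroup.normal_subgroupOf_iff_le_normalizer hNK).mpr hKN
  have hp' : IsPGroup p ↥(N.subgroupOf K) := hNp.comap_subtype
  have hle : N.subgroupOf K ≤ Cfsg.pCore p ↥K := le_pCore hnorm hp'
  rw [hO, le_bot_iff, Subgroup.subgroupOf_eq_bot] at hle
  exact disjoint_self.mp (hle.mono_right hNK)

end Cfsg.Agent.S2813
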