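import Cfsg.Statements.S2815
import Cfsg.Agent.Lib.helper52.QSResidual

set_option autoImplicit false
open Cfsg

namespace Cfsg.Agent.S2815

open Cfsg.Agent.Lib.helper52 in
open scoped commutatorElement in
/-- Let H be a finite group and p a prime dividing its order with O_p(H) = 1, and suppose K = O^p(H) (generated by the elements of order prime to p) is quasisimple. Then K = F*(H); for every nontrivial p-subgroup Y of H, K = [K, Y] and K lies in the subgroup generated by the K-conjugates of Y; every normal subgroup of H not containing K has order prime to p; and H is p-irreducible. -/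
theorem result {H : Type*} [Group H] [Finite H] {p : ℕ} [Fact p.Prime] (hp : p ∣ Nat.card H) (hO : Cfsg.pCore p H = ⊥) (hq : Cfsg.IsQuasisimple ↥(Cfsg.pResidual p H)) : Cfsg.pResidual p H = Cfsg.generalizedFittingSubgroup H ∧ (∀ Y : Subgroup H, IsPGroup p ↥Y → Y ≠ ⊥ → ⁅Cfsg.pResidual p H, Y⁆ = Cfsg.pResidual p H ∧ Cfsg.pResidual p H ≤ ⨆ k : ↥(Cfsg.pResidual p H), Y.map (MulAut.conj (k : H)).toMonoidHom) ∧ (∀ C : Subgroup H, C.Normal → ¬ Cfsg.pResidual p H ≤ C → (Nat.card ↥C).Coprime p) ∧ Cfsg.IsPIrreducible p H := by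
  have hKn : (Cfsg.pResidual p H).Normal := Cfsg.Agent.Lib.helper53.pResidual_normal p H
  have hperfI : Group.IsPerfect ↥(Cfsg.pResidual p H) := hq.1
  have hperf : ⁅Cfsg.pResidual p H, Cfsg.pResidual p H⁆ = Cfsg.pResidual p H :=
    Subgroup.isPerfect_iff.mp hperfI
  have hCcop := coprime_card_centralizer_pResidual (p := p) hO
  -- normal subgroups not containing `K` centralize `K`
  have h3' : ∀ C : Subgroup H, C.Normal → ¬ Cfsg.pResidual p H ≤ C →
      C ≤ Subgroup.centralizer (Cfsg.pResidual p H : Set H) := by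
    intro C hC hKC
    apply le_centralizer_of_commutator_le_centralizer hperf
    have h1 : ⁅C, Cfsg.pResidual p H⁆ ≤ C ⊓ Cfsg.pResidual p H :=
      le_inf
        (Cfsg.Agent.Lib.helper53.commutator_le_left_of_le_normalizer
          (by rw [Subgroup.normalizer_eq_top]; exact le_top))
        (Cfsg.Agent.Lib.helper53.commutator_le_right_of_le_normalizer
          (by rw [Subgroup.normalizer_eq_top]; exact le_top))
    have hn : (C ⊓ Cfsg.pResidual p H).Normal := inferInstance
    rcases le_or_le_centralizer_of_isQuasisimple hq (N := C ⊓ Cfsg.pResidual p H) inf_le_right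
      (by rw [Subgroup.normalizer_eq_top]; exact le_top) with h | h
    · exact absurd (h.trans inf_le_left) hKC
    · exact h1.trans h
  have h3 : ∀ C : Subgroup H, C.Normal → ¬ Cfsg.pResidual p H ≤ C → (Nat.card ↥C).Coprime p := by
    intro C hC hKC
    exact Nat.Coprime.coprime_dvd_left (Subgroup.card_dvd_of_le (h3' C hC hKC)) hCcop
  refine ⟨?_, ?_, h3, ?_, ?_⟩
  · -- `K = F*(H)`
    apply le_antisymm
    · refine le_trans ?_ (le_sup_left)
      exact le_sSup ⟨hKn.isSubnormal, hq⟩
    · refine sup_le (sSup_le ?_) (sSup_le ?_)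
      · rintro L ⟨-, hLq⟩
        exact le_pResidual_of_isPerfect hLq.1
      · rintro N ⟨hNn, hNnil⟩
        obtain ⟨P⟩ : Nonempty (Sylow p ↥N) := inferInstance
        have hPn : (P : Subgroup ↥N).Normal := inferInstance
        exact le_pResidual_of_coprime_card (coprime_card_of_sylow_normal hO hNn.isSubnormal P hPn)
  · -- nontrivial `p`-subgroups
    intro Y hY hYne
    have hD : ⁅Cfsg.pResidual p H, Y⁆ = Cfsg.pResidual p H := by
      have hDK : ⁅Cfsg.pResidual p H, Y⁆ ≤ Cfsg.pResidual p H :=
        Cfsg.Agent.Lib.helper53.commutator_le_left_of_le_normalizer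
          (by rw [Subgroup.normalizer_eq_top]; exact le_top)
      apply le_antisymm hDK
      rcases le_or_le_centralizer_of_isQuasisimple hq hDK
        (Cfsg.Agent.Lib.helper53.le_normalizer_commutator_left _ _) with h | h
      · exact h
      · exfalso
        apply hYne
        have hYC : Y ≤ Subgroup.centralizer (Cfsg.pResidual p H : Set H) := by
          apply le_centralizer_of_commutator_le_centralizer hperf
          rw [Subgroup.commutator_comm]; exact h
        exact eq_bot_of_isPGroup_of_coprime_card hY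
          (Nat.Coprime.coprime_dvd_left (Subgroup.card_dvd_of_le hYC) hCcop)
    refine ⟨hD, ?_⟩
    conv_lhs => rw [← hD]
    rw [Subgroup.commutator_le]
    intro k hk y hy
    rw [commutatorElement_def]
    have h1 : k * y * k⁻¹ ∈ ⨆ k : ↥(Cfsg.pResidual p H), Y.map (MulAut.conj (k : H)).toMonoidHom := by
      refine le_iSup (fun k : ↥(Cfsg.pResidual p H) => Y.map (MulAut.conj (k : H)).toMonoidHom)
        ⟨k, hk⟩ ?_
      exact ⟨y, hy, by simp⟩
    have h2 : y⁻¹ ∈ ⨆ k : ↥(Cfsg.pResidual p H), Y.map (MulAut.conj (k : H)).toMonoidHom := by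
      refine le_iSup (fun k : ↥(Cfsg.pResidual p H) => Y.map (MulAut.conj (k : H)).toMonoidHom)
        ⟨1, one_mem _⟩ ?_
      exact ⟨y⁻¹, inv_mem hy, by simp⟩
    exact mul_mem h1 h2
  · -- not `p`-closed
    intro hcl
    obtain ⟨P⟩ : Nonempty (Sylow p H) := inferInstance
    have hle := le_pCore (hcl P) P.isPGroup'
    rw [hO] at hle
    exact P.ne_bot_of_dvd_card hp (le_bot_iff.mp hle)
  · intro N hN hNcl
    by_contra hKN
    apply hNcl
    intro P
    have hPb : (P : Subgroup ↥N) = ⊥ :=
      eq_bot_of_isPGroup_of_coprime_card P.isPGroup'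
        (Nat.Coprime.coprime_dvd_left (Subgroup.card_subgroup_dvd_card _) (h3 N hN hKN))
    rw [hPb]; infer_instance

end Cfsg.Agent.S2815
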