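import Cfsg.Statements.S2816
import Cfsg.Agent.Lib.helper52.FStarComm

set_option autoImplicit false
open Cfsg

namespace Cfsg.Agent.S2816

open Cfsg.Agent.Lib.helper52 in
open scoped commutatorElement in
/-- Let H be a finite group and p a prime with O_p(H) = 1, and Y a p-subgroup of H. Then for every subnormal subgroup K of H containing Y, [F*(H), Y] = [F*(K), Y] = [F*(K), Y, Y]; and if Y₀ ≤ Y with [F*(H), Y, Y₀] = 1 then Y₀ = 1 (in particular [F*(H), Y] = 1 forces Y = 1). -/
theorem result {H : Type*} [Group H] [Finite H] {p : ℕ} [Fact p.Prime] (hO : Cfsg.pCore p H = ⊥) (Y : Subgroup H) (hY : IsPGroup p ↥Y) : (∀ K : Subgroup H, K.IsSubnormal → Y ≤ K → ⁅Cfsg.generalizedFittingSubgroup H, Y⁆ = ⁅(Cfsg.generalizedFittingSubgroup ↥K).map K.subtype, Y⁆ ∧ ⁅(Cfsg.generalizedFittingSubgroup ↥K).map K.subtype, Y⁆ = ⁅⁅(Cfsg.generalizedFittingSubgroup ↥K).map K.subtype, Y⁆, Y⁆) ∧ (∀ Y₀ : Subgroup H, Y₀ ≤ Y → ⁅⁅Cfsg.generalizedFittingSubgroup H, Y⁆, Y₀⁆ = ⊥ → Y₀ = ⊥) := by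
  have hFsn : (Cfsg.generalizedFittingSubgroup H).Normal :=
    Cfsg.Agent.Lib.helper28.generalizedFittingSubgroup_normal H
  have hA := commutator_generalizedFittingSubgroup_eq hO Y hY
  have hWF : ⁅Cfsg.generalizedFittingSubgroup H, Y⁆ ≤ Cfsg.generalizedFittingSubgroup H :=
    Cfsg.Agent.Lib.helper53.commutator_le_left_of_le_normalizer
      (by rw [Subgroup.normalizer_eq_top]; exact le_top)
  refine ⟨?_, ?_⟩
  · intro K hK hYK
    have hWK : ⁅Cfsg.generalizedFittingSubgroup H, Y⁆ ≤ K := by
      apply le_of_le_commutator_of_isSubnormal hK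
      exact (le_of_eq hA.symm).trans (Subgroup.commutator_mono le_rfl hYK)
    have hW : ⁅Cfsg.generalizedFittingSubgroup H, Y⁆ ≤
        (Cfsg.generalizedFittingSubgroup ↥K).map K.subtype :=
      (le_inf hWF hWK).trans (generalizedFittingSubgroup_inf_le hK)
    have h1 : ⁅Cfsg.generalizedFittingSubgroup H, Y⁆ =
        ⁅(Cfsg.generalizedFittingSubgroup ↥K).map K.subtype, Y⁆ := by
      apply le_antisymm
      · rw [← hA]
        exact Subgroup.commutator_mono hW le_rfl
      · exact Subgroup.commutator_mono (map_generalizedFittingSubgroup_le hK) le_rfl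
    refine ⟨h1, ?_⟩
    rw [← h1, hA]
  · intro Y₀ hY₀Y hcomm
    have hY₀ : IsPGroup p ↥Y₀ := hY.to_le hY₀Y
    have hA₀ := commutator_generalizedFittingSubgroup_eq hO Y₀ hY₀
    have h1 : ⁅Cfsg.generalizedFittingSubgroup H, Y₀⁆ = ⊥ := by
      rw [eq_bot_iff, ← hcomm, ← hA₀]
      exact Subgroup.commutator_mono (Subgroup.commutator_mono le_rfl hY₀Y) le_rfl
    have h2 : Y₀ ≤ Subgroup.centralizer (Cfsg.generalizedFittingSubgroup H : Set H) := by
      rw [← Subgroup.commutator_eq_bot_iff_le_centralizer, Subgroup.commutator_comm]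
      exact h1
    have h3 : Y₀ ≤ Cfsg.generalizedFittingSubgroup H ⊓
        Subgroup.centralizer (Cfsg.generalizedFittingSubgroup H : Set H) :=
      le_inf (h2.trans (Cfsg.Agent.Lib.helper28.centralizer_generalizedFittingSubgroup_le H)) h2
    have hCn : (Subgroup.centralizer (Cfsg.generalizedFittingSubgroup H : Set H)).Normal :=
      Subgroup.normal_centralizer
    have hZn : (Cfsg.generalizedFittingSubgroup H ⊓
        Subgroup.centralizer (Cfsg.generalizedFittingSubgroup H : Set H)).Normal := inferInstance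
    obtain ⟨P⟩ : Nonempty (Sylow p ↥(Cfsg.generalizedFittingSubgroup H ⊓
        Subgroup.centralizer (Cfsg.generalizedFittingSubgroup H : Set H))) := inferInstance
    have hPn : (P : Subgroup ↥(Cfsg.generalizedFittingSubgroup H ⊓
        Subgroup.centralizer (Cfsg.generalizedFittingSubgroup H : Set H))).Normal := by
      constructor
      intro n hn g
      have hc : (g : H) * (n : H) = (n : H) * (g : H) :=
        (Subgroup.mem_centralizer_iff.mp g.2.2 (n : H) n.2.1).symm
      have : g * n * g⁻¹ = n := by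
        apply Subtype.ext
        rw [Subgroup.coe_mul, Subgroup.coe_mul, Subgroup.coe_inv, hc]
        group
      rw [this]; exact hn
    have hcop := coprime_card_of_sylow_normal hO hZn.isSubnormal P hPn
    exact eq_bot_of_isPGroup_of_coprime_card hY₀
      (Nat.Coprime.coprime_dvd_left (Subgroup.card_dvd_of_le h3) hcop)

end Cfsg.Agent.S2816
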