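import Cfsg.Statements.S2817
import Cfsg.Agent.Lib.helper52.FStarQ

set_option autoImplicit false
open Cfsg

namespace Cfsg.Agent.S2817

open Cfsg.Agent.Lib.helper52 in
open scoped commutatorElement in
/-- Let H be a finite group and p a prime with O_p(H) = 1, Q a p-subgroup of H, L = [F*(H), Q], and F the largest normal subgroup of F*(H) centralized by Q (a normal subgroup of F*(H) centralized by Q and containing every such). Then F = C_{F*(H)}(LQ); L = [L, Q]; L ∩ F ≤ Φ(L); every p-subgroup B of N_H(Q) with [L, B] ≤ F satisfies [L, B] = 1; and C_H(FL) has order prime to p. -/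
theorem result {H : Type*} [Group H] [Finite H] {p : ℕ} [Fact p.Prime] (hO : Cfsg.pCore p H = ⊥) (Q : Subgroup H) (hQ : IsPGroup p ↥Q) (L : Subgroup H) (hL : L = ⁅Cfsg.generalizedFittingSubgroup H, Q⁆) (F : Subgroup H) (hF : F ≤ Cfsg.generalizedFittingSubgroup H ∧ Cfsg.generalizedFittingSubgroup H ≤ Subgroup.normalizer (F : Set H) ∧ Q ≤ Subgroup.centralizer (F : Set H) ∧ ∀ N : Subgroup H, N ≤ Cfsg.generalizedFittingSubgroup H → Cfsg.generalizedFittingSubgroup H ≤ Subgroup.normalizer (N : Set H) → Q ≤ Subgroup.centralizer (N : Set H) → N ≤ F) : F = Cfsg.generalizedFittingSubgroup H ⊓ Subgroup.centralizer ((L ⊔ Q : Subgroup H) : Set H) ∧ ⁅L, Q⁆ = L ∧ L ⊓ F ≤ (frattini ↥L).map L.subtype ∧ (∀ B : Subgroup H, IsPGroup p ↥B → B ≤ Subgroup.normalizer (Q : Set H) → ⁅L, B⁆ ≤ F → ⁅L, B⁆ = ⊥) ∧ (Nat.card ↥(Subgroup.centralizer ((F ⊔ L : Subgroup H) : Set H))).Coprime p := by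
  subst hL
  have hFsn : (Cfsg.generalizedFittingSubgroup H).Normal :=
    Cfsg.Agent.Lib.helper28.generalizedFittingSubgroup_normal H
  have hFeq := largest_centralized_eq (Cfsg.generalizedFittingSubgroup H) Q F hF
  have hLL := commutator_generalizedFittingSubgroup_eq hO Q hQ
  have hLFs : ⁅Cfsg.generalizedFittingSubgroup H, Q⁆ ≤ Cfsg.generalizedFittingSubgroup H :=
    Cfsg.Agent.Lib.helper53.commutator_le_left_of_le_normalizer
      (by rw [Subgroup.normalizer_eq_top]; exact le_top)
  have hLsn : (⁅Cfsg.generalizedFittingSubgroup H, Q⁆).IsSubnormal :=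
    isSubnormal_of_le_of_le_normalizer hFsn.isSubnormal hLFs
      (Cfsg.Agent.Lib.helper53.le_normalizer_commutator_left _ _)
  have hQL : Q ≤ Subgroup.normalizer
      ((⁅Cfsg.generalizedFittingSubgroup H, Q⁆ : Subgroup H) : Set H) :=
    Cfsg.Agent.Lib.helper53.le_normalizer_commutator_right _ _
  have hFCL : F ≤ Subgroup.centralizer
      ((⁅Cfsg.generalizedFittingSubgroup H, Q⁆ : Subgroup H) : Set H) := by
    rw [hFeq]
    exact inf_le_right.trans (Subgroup.centralizer_le (SetLike.coe_subset_coe.mpr le_sup_left))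
  have hFCQ : F ≤ Subgroup.centralizer (Q : Set H) := Subgroup.le_centralizer_iff.mp hF.2.2.1
  refine ⟨hFeq, hLL, ?_, ?_, ?_⟩
  · intro x hx
    have hxL := (Subgroup.mem_inf.mp hx).1
    have hxF := (Subgroup.mem_inf.mp hx).2
    exact mem_map_frattini_of_mem_center_of_centralized hO hLsn hQ hQL (le_of_eq hLL.symm) hxL
      (hFCL hxF) (hFCQ hxF)
  · intro B hB hBQ hBF
    have hBL : B ≤ Subgroup.normalizer
        ((⁅Cfsg.generalizedFittingSubgroup H, Q⁆ : Subgroup H) : Set H) := by
      intro b hb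
      exact Cfsg.Agent.Lib.helper53.mem_normalizer_commutator
        (by rw [Subgroup.normalizer_eq_top]; trivial) (hBQ hb)
    exact commutator_eq_bot_of_le_center_of_centralized hO hLsn hQ hQL (le_of_eq hLL.symm) hB
      (Cfsg.Agent.Lib.helper53.commutator_le_left_of_le_normalizer hBL)
      (hBF.trans hFCL) (hBF.trans hFCQ)
  · apply coprime_card_of_forall_isPGroup_eq_bot
    intro P hP hPC
    exact eq_bot_of_isPGroup_of_le_centralizer_of_largest hO Q hQ F hF P hP
      (hPC.trans (Subgroup.centralizer_le (SetLike.coe_subset_coe.mpr le_sup_left)))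
      (hPC.trans (Subgroup.centralizer_le (SetLike.coe_subset_coe.mpr le_sup_right)))

end Cfsg.Agent.S2817
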