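-- Statement S2818 (row 2818).
import Cfsg.Statements.S2818
import Cfsg.Agent.Lib.helper52.PReduced
import Cfsg.Agent.Lib.helper71.Frattini

set_option autoImplicit false
open Cfsg
open scoped commutatorElement

namespace Cfsg.Agent.S2818

open Cfsg.Agent.Lib.helper52

/-- Commutators are unchanged by central factors. -/
theorem commutator_mul_central {G : Type*} [Group G] {z a w b : G} (hza : Commute z a)
    (hzw : Commute z w) (hzb : Commute z b) (hwa : Commute w a) (hwb : Commute w b) :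
    (z * a) * (w * b) * (z * a)⁻¹ * (w * b)⁻¹ = a * b * a⁻¹ * b⁻¹ := by
  have h1 : (z * a)⁻¹ = z⁻¹ * a⁻¹ := hza.mul_inv
  have h2 : (w * b)⁻¹ = w⁻¹ * b⁻¹ := hwb.mul_inv
  have h3 : Commute z (a * w * b) := (hza.mul_right hzw).mul_right hzb
  have h4 : Commute w (b * a⁻¹) := hwb.mul_right hwa.inv_right
  calc (z * a) * (w * b) * (z * a)⁻¹ * (w * b)⁻¹
      = (z * (a * w * b)) * z⁻¹ * a⁻¹ * w⁻¹ * b⁻¹ := by rw [h1, h2]; group
    _ = ((a * w * b) * z) * z⁻¹ * a⁻¹ * w⁻¹ * b⁻¹ := by rw [h3.eq]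
    _ = a * (w * (b * a⁻¹)) * w⁻¹ * b⁻¹ := by group
    _ = a * ((b * a⁻¹) * w) * w⁻¹ * b⁻¹ := by rw [h4.eq]
    _ = a * b * a⁻¹ * b⁻¹ := by group

/-- If [P,H] ≤ Ω₁Z(P) for a p-group P then [Φ(P),H] = 1. -/
theorem result {G : Type*} [Group G] [Finite G] {p : ℕ} [Fact p.Prime] (P : Subgroup G) (hP : IsPGroup p ↥P) (H : Subgroup G) (hH : H ≤ Subgroup.normalizer (P : Set G)) (h : ⁅P, H⁆ ≤ Cfsg.omegaOne p (P ⊓ Subgroup.centralizer (P : Set G))) : ⁅(frattini ↥P).map P.subtype, H⁆ = ⊥ := by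
  have hp : p.Prime := Fact.out
  rw [omegaOne_center_eq] at h
  -- for h ∈ H, x ∈ P: h x h⁻¹ = z x with z ∈ Ω₁Z(P)
  have key : ∀ g ∈ H, ∀ x ∈ P, g * x * g⁻¹ * x⁻¹ ∈ omegaZ p P := by
    intro g hg x hx
    have h1 : ⁅x, g⁆ ∈ ⁅P, H⁆ := Subgroup.commutator_mem_commutator hx hg
    have h2 : ⁅g, x⁆ ∈ omegaZ p P := by
      rw [← commutatorElement_inv]; exact inv_mem (h h1)
    exact h2
  have hcen : ∀ z ∈ omegaZ p P, ∀ x ∈ P, Commute z x := fun z hz x hx =>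
    (Subgroup.mem_centralizer_iff.mp hz.2.1 x hx).symm
  have hconj : ∀ g x : G, g * x * g⁻¹ = (g * x * g⁻¹ * x⁻¹) * x := by intro g x; group
  have hle : frattini ↥P ≤ (Subgroup.centralizer (H : Set G)).subgroupOf P := by
    apply Cfsg.Agent.Lib.helper71.frattini_le_of_comm_pow hp
    · intro x y
      rw [Subgroup.mem_subgroupOf, Subgroup.mem_centralizer_iff]
      intro g hg
      have hzx := key g hg x x.2
      have hzy := key g hg y y.2
      have e : g * ((x : G) * (y : G) * (x : G)⁻¹ * (y : G)⁻¹) * g⁻¹ = ((x : G) * (y : G) * (x : G)⁻¹ * (y : G)⁻¹) := by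
        calc g * ((x : G) * (y : G) * (x : G)⁻¹ * (y : G)⁻¹) * g⁻¹
            = (g * x * g⁻¹) * (g * y * g⁻¹) * (g * x * g⁻¹)⁻¹ * (g * y * g⁻¹)⁻¹ := by group
          _ = ((g * x * g⁻¹ * (x : G)⁻¹) * x) * ((g * y * g⁻¹ * (y : G)⁻¹) * y) *
                ((g * x * g⁻¹ * (x : G)⁻¹) * x)⁻¹ * ((g * y * g⁻¹ * (y : G)⁻¹) * y)⁻¹ := by
              rw [← hconj g x, ← hconj g y]
          _ = ((x : G) * (y : G) * (x : G)⁻¹ * (y : G)⁻¹) :=
              commutator_mul_central (hcen _ hzx x x.2) (hcen _ hzx _ hzy.1) (hcen _ hzx y y.2)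
                (hcen _ hzy x x.2) (hcen _ hzy y y.2)
      have e2 : g * ((x : G) * (y : G) * (x : G)⁻¹ * (y : G)⁻¹) = ((x : G) * (y : G) * (x : G)⁻¹ * (y : G)⁻¹) * g := by
        calc g * ((x : G) * (y : G) * (x : G)⁻¹ * (y : G)⁻¹) = (g * ((x : G) * (y : G) * (x : G)⁻¹ * (y : G)⁻¹) * g⁻¹) * g := by group
          _ = ((x : G) * (y : G) * (x : G)⁻¹ * (y : G)⁻¹) * g := by rw [e]
      simpa using e2
    · intro x
      rw [Subgroup.mem_subgroupOf, Subgroup.mem_centralizer_iff]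
      intro g hg
      have hzx := key g hg x x.2
      have e : g * (x : G) ^ p * g⁻¹ = (x : G) ^ p := by
        rw [← conj_pow, hconj g x, (hcen _ hzx x x.2).mul_pow, hzx.2.2, one_mul]
      have e2 : g * (x : G) ^ p = (x : G) ^ p * g := by
        calc g * (x : G) ^ p = (g * (x : G) ^ p * g⁻¹) * g := by group
          _ = (x : G) ^ p * g := by rw [e]
      simpa using e2
  rw [Subgroup.commutator_eq_bot_iff_le_centralizer]
  rintro y hy
  obtain ⟨y', hy', rfl⟩ := Subgroup.mem_map.mp hy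
  exact Subgroup.mem_subgroupOf.mp (hle hy')

end Cfsg.Agent.S2818
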