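-- Statement S2819 (row 2819).
import Cfsg.Statements.S2819
import Cfsg.Agent.Lib.helper52.PReduced
import Cfsg.Agent.Lib.helper71.Frattini
import Cfsg.Agent.Lib.helper3.PGroupFrattini

set_option autoImplicit false
open Cfsg
open scoped commutatorElement

namespace Cfsg.Agent.S2819

open Cfsg.Agent.Lib.helper52

/-- `(a b)^n ≡ b^n` modulo the commutator subgroup when `a^n = 1`. -/
theorem mul_pow_mul_inv_mem_commutator {P : Type*} [Group P] (a b : P) (n : ℕ) (ha : a ^ n = 1) :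
    (a * b) ^ n * (b ^ n)⁻¹ ∈ commutator P := by
  rw [← Abelianization.ker_of, MonoidHom.mem_ker]
  rw [map_mul, map_inv, map_pow, map_mul, mul_pow, ← map_pow, ha, map_one, one_mul, map_pow,
    mul_inv_cancel]

theorem le_normalizer_commutator_self {G : Type*} [Group G] {R P : Subgroup G}
    (h : R ≤ Subgroup.normalizer (P : Set G)) :
    R ≤ Subgroup.normalizer ((⁅P, P⁆ : Subgroup G) : Set G) := by
  intro g hg
  rw [Subgroup.mem_normalizer_iff_map_conj_eq, Subgroup.map_commutator,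
    Subgroup.mem_normalizer_iff_map_conj_eq.mp (h hg)]

/-- The elements of `P` moved by every `g ∈ S` only by an element of `P'`. -/
def stabMod {G : Type*} [Group G] (P P' : Subgroup G)
    (hn : P ≤ Subgroup.normalizer (P' : Set G)) (S : Set G) : Subgroup ↥P where
  carrier := {x | ∀ g ∈ S, g * (x : G) * g⁻¹ * (x : G)⁻¹ ∈ P'}
  one_mem' := by
    intro g _
    simp
  mul_mem' := by
    intro x y hx hy g hg
    have h1 := hx g hg
    have h2 := hy g hg
    have h3 : (x : G) * (g * (y : G) * g⁻¹ * (y : G)⁻¹) * (x : G)⁻¹ ∈ P' :=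
      (Subgroup.mem_normalizer_iff.mp (hn x.2) _).mp h2
    have e : g * ((x * y : ↥P) : G) * g⁻¹ * ((x * y : ↥P) : G)⁻¹ =
        (g * (x : G) * g⁻¹ * (x : G)⁻¹) * ((x : G) * (g * (y : G) * g⁻¹ * (y : G)⁻¹) * (x : G)⁻¹) := by
      rw [Subgroup.coe_mul]; group
    rw [e]
    exact mul_mem h1 h3
  inv_mem' := by
    intro x hx g hg
    have h1 := hx g hg
    have h3 : (x : G)⁻¹ * (g * (x : G) * g⁻¹ * (x : G)⁻¹)⁻¹ * (x : G)⁻¹⁻¹ ∈ P' :=
      (Subgroup.mem_normalizer_iff.mp (hn (inv_mem x.2)) _).mp (inv_mem h1)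
    have e : g * ((x⁻¹ : ↥P) : G) * g⁻¹ * ((x⁻¹ : ↥P) : G)⁻¹ =
        (x : G)⁻¹ * (g * (x : G) * g⁻¹ * (x : G)⁻¹)⁻¹ * (x : G)⁻¹⁻¹ := by
      rw [Subgroup.coe_inv]; group
    rw [e]
    exact h3

/-- H acting on a p-group P, Y ≤ C_H(P') with [P,Y] elementary abelian: O^p(⟨Y^H⟩) centralizes Φ(P). -/
theorem result {G : Type*} [Group G] [Finite G] {p : ℕ} [Fact p.Prime] (P : Subgroup G) (hP : IsPGroup p ↥P) (H : Subgroup G) (hH : H ≤ Subgroup.normalizer (P : Set G)) (Y : Subgroup G) (hYH : Y ≤ H) (hYc : Y ≤ Subgroup.centralizer ((⁅P, P⁆ : Subgroup G) : Set G)) (hel : Cfsg.IsElementaryAbelian p ⁅P, Y⁆) (NY : Subgroup G) (hNY : NY = (Subgroup.normalClosure ((Y.subgroupOf H : Subgroup ↥H) : Set ↥H)).map H.subtype) : (Cfsg.pResidual p ↥NY).map NY.subtype ≤ Subgroup.centralizer (((frattini ↥P).map P.subtype : Subgroup G) : Set G) := by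
  have hp : p.Prime := Fact.out
  set P' : Subgroup G := ⁅P, P⁆ with hP'
  have hHP' : H ≤ Subgroup.normalizer (P' : Set G) := le_normalizer_commutator_self hH
  have hPnP' : P ≤ Subgroup.normalizer (P' : Set G) :=
    le_normalizer_commutator_self Subgroup.le_normalizer
  have hconjP' : ∀ g ∈ H, ∀ c ∈ P', g * c * g⁻¹ ∈ P' := fun g hg c hc =>
    (Subgroup.mem_normalizer_iff.mp (hHP' hg) c).mp hc
  have hconjP : ∀ g ∈ H, ∀ x ∈ P, g * x * g⁻¹ ∈ P := fun g hg x hx =>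
    (Subgroup.mem_normalizer_iff.mp (hH hg) x).mp hx
  -- the case of elements of Y
  have hYcase : ∀ y ∈ Y, ∀ x ∈ P, y * x ^ p * y⁻¹ * (x ^ p)⁻¹ ∈ P' := by
    intro y hy x hx
    have hw : y * x * y⁻¹ * x⁻¹ ∈ ⁅P, Y⁆ := by
      have h1 : ⁅x, y⁆ ∈ ⁅P, Y⁆ := Subgroup.commutator_mem_commutator hx hy
      have h2 : ⁅y, x⁆ ∈ ⁅P, Y⁆ := by rw [← commutatorElement_inv]; exact inv_mem h1
      exact h2
    have hwP : y * x * y⁻¹ * x⁻¹ ∈ P := mul_mem (hconjP y (hYH hy) x hx) (inv_mem hx)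
    have hwp : (y * x * y⁻¹ * x⁻¹) ^ p = 1 := hel.2 _ hw
    have h3 := mul_pow_mul_inv_mem_commutator (⟨y * x * y⁻¹ * x⁻¹, hwP⟩ : ↥P) ⟨x, hx⟩ p
      (Subtype.ext (by simpa using hwp))
    have h4 := Subgroup.mem_map_of_mem P.subtype h3
    rw [Subgroup.map_subtype_commutator] at h4
    have e : y * x ^ p * y⁻¹ * (x ^ p)⁻¹ = ((y * x * y⁻¹ * x⁻¹) * x) ^ p * (x ^ p)⁻¹ := by
      rw [← conj_pow]; group
    rw [e]
    simpa using h4
  -- the property for all elements of the normal closure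
  have hQ : ∀ g : ↥H, g ∈ Subgroup.normalClosure ((Y.subgroupOf H : Subgroup ↥H) : Set ↥H) →
      (∀ c ∈ P', (g : G) * c = c * (g : G)) ∧
      (∀ x ∈ P, (g : G) * x ^ p * (g : G)⁻¹ * (x ^ p)⁻¹ ∈ P') := by
    intro g hg
    unfold Subgroup.normalClosure at hg
    induction hg using Subgroup.closure_induction with
    | mem g hg =>
      obtain ⟨b, hb, hbg⟩ := Group.mem_conjugatesOfSet_iff.mp hg
      obtain ⟨c, rfl⟩ := isConj_iff.mp hbg
      have hbY : (b : G) ∈ Y := Subgroup.mem_subgroupOf.mp hb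
      refine ⟨?_, ?_⟩
      · intro c' hc'
        have h1 : (c : G)⁻¹ * c' * (c : G)⁻¹⁻¹ ∈ P' := hconjP' _ (inv_mem c.2) c' hc'
        have h2 := Subgroup.mem_centralizer_iff.mp (hYc hbY) _ h1
        simp only [Subgroup.coe_mul, Subgroup.coe_inv]
        calc (c : G) * (b : G) * (c : G)⁻¹ * c'
            = (c : G) * ((b : G) * ((c : G)⁻¹ * c' * (c : G)⁻¹⁻¹)) * (c : G)⁻¹ := by group
          _ = (c : G) * (((c : G)⁻¹ * c' * (c : G)⁻¹⁻¹) * (b : G)) * (c : G)⁻¹ := by rw [h2]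
          _ = c' * ((c : G) * (b : G) * (c : G)⁻¹) := by group
      · intro x hx
        have h1 : (c : G)⁻¹ * x * (c : G)⁻¹⁻¹ ∈ P := hconjP _ (inv_mem c.2) x hx
        have h2 := hYcase _ hbY _ h1
        have h3 := hconjP' _ c.2 _ h2
        simp only [Subgroup.coe_mul, Subgroup.coe_inv]
        have e : (c : G) * (b : G) * (c : G)⁻¹ * x ^ p * ((c : G) * (b : G) * (c : G)⁻¹)⁻¹ * (x ^ p)⁻¹ =
            (c : G) * ((b : G) * ((c : G)⁻¹ * x * (c : G)⁻¹⁻¹) ^ p * (b : G)⁻¹ *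
              (((c : G)⁻¹ * x * (c : G)⁻¹⁻¹) ^ p)⁻¹) * (c : G)⁻¹ := by
          rw [conj_pow]; group
        rw [e]
        exact h3
    | one =>
      refine ⟨fun c _ => by simp, fun x _ => by simp⟩
    | mul g₁ g₂ _ _ ih₁ ih₂ =>
      refine ⟨?_, ?_⟩
      · intro c hc
        simp only [Subgroup.coe_mul]
        rw [mul_assoc, ih₂.1 c hc, ← mul_assoc, ih₁.1 c hc, mul_assoc]
      · intro x hx
        have h1 := hconjP' _ g₁.2 _ (ih₂.2 x hx)
        have h2 := ih₁.2 x hx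
        have e : ((g₁ * g₂ : ↥H) : G) * x ^ p * ((g₁ * g₂ : ↥H) : G)⁻¹ * (x ^ p)⁻¹ =
            ((g₁ : G) * ((g₂ : G) * x ^ p * (g₂ : G)⁻¹ * (x ^ p)⁻¹) * (g₁ : G)⁻¹) *
              ((g₁ : G) * x ^ p * (g₁ : G)⁻¹ * (x ^ p)⁻¹) := by
          rw [Subgroup.coe_mul]; group
        rw [e]
        exact mul_mem h1 h2
    | inv g _ ih =>
      refine ⟨?_, ?_⟩
      · intro c hc
        simp only [Subgroup.coe_inv]
        have := ih.1 c hc
        calc (g : G)⁻¹ * c = (g : G)⁻¹ * (c * (g : G)) * (g : G)⁻¹ := by group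
          _ = (g : G)⁻¹ * ((g : G) * c) * (g : G)⁻¹ := by rw [this]
          _ = c * (g : G)⁻¹ := by group
      · intro x hx
        have h1 := hconjP' _ (inv_mem g.2) _ (inv_mem (ih.2 x hx))
        have e : ((g⁻¹ : ↥H) : G) * x ^ p * ((g⁻¹ : ↥H) : G)⁻¹ * (x ^ p)⁻¹ =
            (g : G)⁻¹ * ((g : G) * x ^ p * (g : G)⁻¹ * (x ^ p)⁻¹)⁻¹ * (g : G)⁻¹⁻¹ := by
          rw [Subgroup.coe_inv]; group
        rw [e]
        exact h1
  have hQ' : ∀ g ∈ NY, (∀ c ∈ P', g * c = c * g) ∧ (∀ x ∈ P, g * x ^ p * g⁻¹ * (x ^ p)⁻¹ ∈ P') := by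
    intro g hg
    rw [hNY] at hg
    obtain ⟨g', hg', rfl⟩ := Subgroup.mem_map.mp hg
    exact hQ g' hg'
  -- Φ(P) is moved only by P'
  have hfr : frattini ↥P ≤ stabMod P P' hPnP' (NY : Set G) := by
    apply Cfsg.Agent.Lib.helper71.frattini_le_of_comm_pow hp
    · intro x y g hg
      have hc : ((x * y * x⁻¹ * y⁻¹ : ↥P) : G) ∈ P' := by
        have : ⁅(x : G), (y : G)⁆ ∈ ⁅P, P⁆ := Subgroup.commutator_mem_commutator x.2 y.2
        simpa [commutatorElement_def] using this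
      have h1 := (hQ' g hg).1 _ hc
      have e : g * ((x * y * x⁻¹ * y⁻¹ : ↥P) : G) * g⁻¹ * ((x * y * x⁻¹ * y⁻¹ : ↥P) : G)⁻¹ = 1 := by
        rw [h1]; group
      rw [e]
      exact one_mem _
    · intro x g hg
      have := (hQ' g hg).2 (x : G) x.2
      simpa using this
  have hP'Φ : P' ≤ (frattini ↥P).map P.subtype := by
    rw [hP', ← Subgroup.map_subtype_commutator]
    exact Subgroup.map_mono (Cfsg.Agent.Lib.helper3.commutator_le_frattini hP)
  -- p'-elements of NY centralize Φ(P)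
  have hmain : Cfsg.pResidual p ↥NY ≤
      (Subgroup.centralizer (((frattini ↥P).map P.subtype : Subgroup G) : Set G)).subgroupOf NY := by
    unfold Cfsg.pResidual
    rw [Subgroup.closure_le]
    intro g hg
    have hgc : (orderOf (g : G)).Coprime p := by
      rw [Subgroup.orderOf_coe]; exact hg
    rw [SetLike.mem_coe, Subgroup.mem_subgroupOf, Subgroup.mem_centralizer_iff]
    let C : ℕ → Subgroup G := fun i =>
      match i with
      | 0 => (frattini ↥P).map P.subtype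
      | 1 => P'
      | _ + 2 => ⊥
    have hcomm : ∀ r ∈ C 0, (g : G) * r = r * (g : G) := by
      apply commute_of_stabilizes_chain (p := p) (g : G) hgc C 2 rfl
      · intro r hr
        obtain ⟨r', _, rfl⟩ := Subgroup.mem_map.mp hr
        exact pow_eq_one_of_mem_isPGroup hP r'.2
      · intro i
        rcases i with _ | _ | i
        · exact hP'Φ
        · exact bot_le
        · exact le_rfl
      · intro i r hr
        rcases i with _ | _ | i
        · obtain ⟨r', hr', rfl⟩ := Subgroup.mem_map.mp hr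
          exact hfr hr' (g : G) g.2
        · have h1 := (hQ' (g : G) g.2).1 r hr
          have e : (g : G) * r * (g : G)⁻¹ * r⁻¹ = 1 := by rw [h1]; group
          rw [e]; exact one_mem _
        · have hr1 : r = 1 := Subgroup.mem_bot.mp hr
          rw [hr1]
          simp
    intro r hr
    exact (hcomm r hr).symm
  rintro u hu
  obtain ⟨u', hu', rfl⟩ := Subgroup.mem_map.mp hu
  exact Subgroup.mem_subgroupOf.mp (hmain hu')

end Cfsg.Agent.S2819
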