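import Cfsg.Statements.S2820
import Cfsg.Agent.Lib.helper52.Subn
import Cfsg.Agent.Lib.helper52.PCore
import Cfsg.Agent.Lib.helper27.Radical

set_option autoImplicit false
open Cfsg

namespace Cfsg.Agent.S2820

open Cfsg.Agent.Lib.helper52 in
/-- Let A and B be subnormal subgroups of the finite group H with A a p-group and B = O^p(B) (B generated by its elements of order prime to p). Then A normalizes B and B = O^p(AB), the subgroup of ⟨A, B⟩ generated by its elements of order prime to p. -/
theorem result {H : Type*} [Group H] [Finite H] {p : ℕ} [Fact p.Prime] (A B : Subgroup H) (hA : A.IsSubnormal) (hB : B.IsSubnormal) (hAp : IsPGroup p ↥A) (hBres : (Cfsg.pResidual p ↥B).map B.subtype = B) : A ≤ Subgroup.normalizer (B : Set H) ∧ (Cfsg.pResidual p ↥(A ⊔ B)).map (A ⊔ B).subtype = B := by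
  have hAQ : A ≤ Cfsg.pCore p H :=
    Cfsg.Agent.Lib.helper27.subnormal_pGroup_le_pCore p A hA hAp
  have hQn : (Cfsg.pCore p H).Normal := inferInstance
  have hQp : IsPGroup p ↥(Cfsg.pCore p H) := pCore_isPGroup p H
  have hcl : Subgroup.closure {g : H | g ∈ B ∧ (orderOf g).Coprime p} = B := by
    rw [← map_pResidual_subtype]; exact hBres
  refine ⟨?_, ?_⟩
  · exact (hAQ.trans le_sup_right).trans
      (sup_le_normalizer_of_isSubnormal_of_pResidual_eq hB hQp hBres)
  · rw [map_pResidual_subtype]
    apply le_antisymm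
    · rw [Subgroup.closure_le]
      rintro g ⟨hg, hgp⟩
      exact mem_of_isSubnormal_of_mem_sup_of_coprime hB hQp g
        ((sup_le (hAQ.trans le_sup_right) le_sup_left) hg) hgp
    · conv_lhs => rw [← hcl]
      apply Subgroup.closure_mono
      rintro g ⟨hg, hgp⟩
      exact ⟨le_sup_right (a := A) hg, hgp⟩

end Cfsg.Agent.S2820
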