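-- Statement S2823 (row 2823).
import Cfsg.Statements.S2823
import Cfsg.Agent.Lib.helper52.Transfer
import Cfsg.Agent.Lib.helper52.ZL
import Cfsg.Agent.Lib.helper53.PCore
import Cfsg.Agent.Lib.helper53.Comm

set_option autoImplicit false
open Cfsg
open scoped commutatorElement

namespace Cfsg.Agent.S2823

open Cfsg.Agent.Lib.helper52

/-- T ≤ L of characteristic p: Z_L = Ω₁Z(L)[Z_L, O^p(L)] and [Z_L, L] = [Z_L, O^p(L)]. -/
theorem result {H : Type*} [Group H] [Finite H] {p : ℕ} [Fact p.Prime] (T : Sylow p H) (L : Subgroup H) (hTL : (T : Subgroup H) ≤ L) (hL : Subgroup.centralizer (Cfsg.pCore p ↥L : Set ↥L) ≤ Cfsg.pCore p ↥L) : Cfsg.sylowCenterClosure p L = (Cfsg.omegaOne p (L ⊓ Subgroup.centralizer ((L : Subgroup H) : Set H))) ⊔ ⁅Cfsg.sylowCenterClosure p L, (Cfsg.pResidual p ↥L).map L.subtype⁆ ∧ ⁅Cfsg.sylowCenterClosure p L, L⁆ = ⁅Cfsg.sylowCenterClosure p L, (Cfsg.pResidual p ↥L).map L.subtype⁆ := by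
  set Z : Subgroup H := Cfsg.sylowCenterClosure p L with hZ
  set R : Subgroup H := (Cfsg.pResidual p ↥L).map L.subtype with hR
  set W : Subgroup H := ⁅Z, R⁆ with hW
  have hZL : Z ≤ L := sylowCenterClosure_le p L
  have hLZ : L ≤ Subgroup.normalizer (Z : Set H) := le_normalizer_sylowCenterClosure p L
  have hZe : Cfsg.IsElementaryAbelian p Z :=
    isElementaryAbelian_of_le (sylowCenterClosure_le_omegaZ_pCoreOf L hL) (omegaZ_isElementaryAbelian p _)
  have hRL : R ≤ L := by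
    rintro r hr
    obtain ⟨r', _, rfl⟩ := Subgroup.mem_map.mp hr
    exact r'.2
  have hLR : L ≤ Subgroup.normalizer (R : Set H) := by
    have := Cfsg.Agent.Lib.helper53.pResidual_normal p ↥L
    exact le_normalizer_map_subtype L (Cfsg.pResidual p ↥L)
  have hTmap : ((T.subtype hTL : Sylow p ↥L) : Subgroup ↥L).map L.subtype = (T : Subgroup H) := by
    rw [Sylow.coe_subtype, Subgroup.map_subgroupOf_eq_of_le hTL]
  have hRT : R ⊔ (T : Subgroup H) = L := by
    have h1 := Cfsg.Agent.Lib.helper53.pResidual_sup_sylow (T.subtype hTL)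
    have h2 := congrArg (Subgroup.map L.subtype) h1
    rw [Subgroup.map_sup, hTmap, ← MonoidHom.range_eq_map, Subgroup.range_subtype] at h2
    exact h2
  have hLW : L ≤ Subgroup.normalizer (W : Set H) := by
    intro g hg
    rw [Subgroup.mem_normalizer_iff_map_conj_eq, hW, Subgroup.map_commutator,
      Subgroup.mem_normalizer_iff_map_conj_eq.mp (hLZ hg),
      Subgroup.mem_normalizer_iff_map_conj_eq.mp (hLR hg)]
  have hWZ : W ≤ Z := Subgroup.le_normalizer_iff_commutator_le_left.mp (hRL.trans hLZ)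
  have hconjW : ∀ g ∈ L, ∀ w ∈ W, g * w * g⁻¹ ∈ W := fun g hg w hw =>
    (Subgroup.mem_normalizer_iff.mp (hLW hg) w).mp hw
  set Z₁ : Subgroup H := omegaZ p (T : Subgroup H) with hZ₁
  have hZ₁Z : Z₁ ≤ Z := by
    have := omegaZ_sylow_le_sylowCenterClosure p L (T.subtype hTL)
    rwa [hTmap] at this
  -- Z ≤ Z₁ W
  have hZdec : Z ≤ Z₁ ⊔ W := by
    rw [hZ, sylowCenterClosure_eq]
    refine iSup_le (fun S => ?_)
    intro x hx
    obtain ⟨g, hg⟩ := MulAction.exists_smul_eq ↥L (T.subtype hTL) S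
    have hgRT : (g : H) ∈ R ⊔ (T : Subgroup H) := by rw [hRT]; exact g.2
    obtain ⟨r, hr, t, ht, hrt⟩ :=
      (Cfsg.Agent.Lib.helper53.mem_sup_of_le_normalizer (hTL.trans hLR)).mp hgRT
    -- x' = g⁻¹ x g ∈ Ω₁Z(T)
    have hx' : (g : H)⁻¹ * x * (g : H)⁻¹⁻¹ ∈ Z₁ := by
      apply conj_mem_omegaZ_of_iff (P := (S : Subgroup ↥L).map L.subtype) _ hx
      intro y
      rw [← hg, mem_smul_sylow_map, hTmap, inv_inv]
      constructor
      · intro hy
        have e : (g : H)⁻¹ * ((g : H) * y * (g : H)⁻¹) * (g : H) = y := by group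
        rw [e]; exact hy
      · intro hy
        have e : (g : H)⁻¹ * ((g : H) * y * (g : H)⁻¹) * (g : H) = y := by group
        rwa [e] at hy
    set x' := (g : H)⁻¹ * x * (g : H)⁻¹⁻¹ with hx'def
    have htx' : t * x' * t⁻¹ = x' := by
      have := Subgroup.mem_centralizer_iff.mp hx'.2.1 t ht
      rw [this]; group
    have hxeq : x = ⁅r, x'⁆ * x' := by
      have e1 : x = (g : H) * x' * (g : H)⁻¹ := by rw [hx'def]; group
      rw [e1, ← hrt, commutatorElement_def]
      calc r * t * x' * (r * t)⁻¹ = r * (t * x' * t⁻¹) * r⁻¹ := by group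
        _ = r * x' * r⁻¹ := by rw [htx']
        _ = r * x' * r⁻¹ * x'⁻¹ * x' := by group
    have hcomm : ⁅r, x'⁆ ∈ W := by
      rw [← commutatorElement_inv]
      exact inv_mem (Subgroup.commutator_mem_commutator (hZ₁Z hx') hr)
    rw [hxeq]
    exact mul_mem ((le_sup_right : W ≤ Z₁ ⊔ W) hcomm) ((le_sup_left : Z₁ ≤ Z₁ ⊔ W) hx')
  -- part 2
  have hpart2 : ⁅Z, L⁆ = W := by
    apply le_antisymm
    · have hZT : ⁅Z, (T : Subgroup H)⁆ ≤ W := by
        rw [Subgroup.commutator_le]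
        intro z hz t ht
        obtain ⟨z₁, hz₁, w, hw, rfl⟩ := exists_mul_of_mem_sup ((hZ₁Z.trans hZL).trans hLW) (hZdec hz)
        rw [commutatorElement_mul_left_eq_conj_mul]
        have h1 : ⁅z₁, t⁆ = 1 := by
          rw [commutatorElement_eq_one_iff_mul_comm]
          exact (Subgroup.mem_centralizer_iff.mp hz₁.2.1 t ht).symm
        have h2 : ⁅w, t⁆ ∈ W := by
          have h3 : t * w⁻¹ * t⁻¹ ∈ W := hconjW t (hTL ht) _ (inv_mem hw)
          have e : ⁅w, t⁆ = w * (t * w⁻¹ * t⁻¹) := by rw [commutatorElement_def]; group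
          rw [e]; exact mul_mem hw h3
        rw [h1, mul_one]
        exact hconjW z₁ (hZL (hZ₁Z hz₁)) _ h2
      have h4 := Cfsg.Agent.Lib.helper53.commutator_sup_le hWZ (le_refl W) hZT
      rw [hRT] at h4
      exact h4
    · exact Subgroup.commutator_mono le_rfl hRL
  refine ⟨?_, hpart2⟩
  rw [omegaOne_center_eq]
  apply le_antisymm
  · refine hZdec.trans (sup_le ?_ le_sup_right)
    intro z hz
    have h1 := mem_commutator_sup_centralizer_of_sylow Z L hZe hLZ (T.subtype hTL) (hZ₁Z hz)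
      (by
        intro t ht
        have htT : (t : H) ∈ (T : Subgroup H) := by
          have ht' : t ∈ ((T.subtype hTL : Sylow p ↥L) : Subgroup ↥L) := ht
          rw [Sylow.coe_subtype] at ht'
          exact Subgroup.mem_subgroupOf.mp ht'
        exact Subgroup.mem_centralizer_iff.mp hz.2.1 _ htT)
    rw [hpart2] at h1
    refine (sup_le le_sup_right ?_ : W ⊔ (Z ⊓ Subgroup.centralizer (L : Set H)) ≤ omegaZ p L ⊔ W) h1
    refine le_trans ?_ le_sup_left
    rintro x ⟨hxZ, hxc⟩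
    exact ⟨hZL hxZ, hxc, hZe.2 x hxZ⟩
  · refine sup_le ?_ hWZ
    -- Ω₁Z(L) ≤ Ω₁Z(T)
    refine le_trans ?_ hZ₁Z
    rintro x ⟨hxL, hxc, hxp⟩
    have hxQ : (⟨x, hxL⟩ : ↥L) ∈ Cfsg.pCore p ↥L := by
      apply hL
      rw [Subgroup.mem_centralizer_iff]
      intro q _
      have := Subgroup.mem_centralizer_iff.mp hxc (q : H) q.2
      exact Subtype.ext (by simpa using this)
    have hxT : x ∈ (T : Subgroup H) := by
      have h1 : Cfsg.pCore p ↥L ≤ ((T.subtype hTL : Sylow p ↥L) : Subgroup ↥L) :=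
        (pCore_isPGroup p ↥L).le_sylow_of_normal (T.subtype hTL)
      have h2 := h1 hxQ
      rw [Sylow.coe_subtype] at h2
      exact Subgroup.mem_subgroupOf.mp h2
    refine ⟨hxT, ?_, hxp⟩
    rw [Subgroup.mem_centralizer_iff]
    intro t ht
    exact Subgroup.mem_centralizer_iff.mp hxc t (hTL ht)

end Cfsg.Agent.S2823
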