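import Cfsg.Statements.S2825
import Cfsg.Agent.Lib.helper52.RelPRed2

set_option autoImplicit false
open Cfsg

namespace Cfsg.Agent.S2825

open Cfsg.Agent.Lib.helper52 in
open scoped commutatorElement in
/-- Let L be a subnormal subgroup of the finite group H, p a prime, Y_H and Y_L the largest p-reduced normal subgroups. Then Y_H ∩ L = Y_H ∩ Y_L and this subgroup is a p-reduced normal subgroup of L; C_L(Y_L) = C_L(Y_H) = C_L(Y_H ∩ L); and if O^p(H) ≤ L, then [Y_L, L] = 1 if and only if [Y_H, H] = 1. -/
theorem result {H : Type*} [Group H] [Finite H] {p : ℕ} [Fact p.Prime] (L : Subgroup H) (hL : L.IsSubnormal) : Cfsg.largestPReduced p H ⊓ L = Cfsg.largestPReduced p H ⊓ (Cfsg.largestPReducedOf p L) ∧ Cfsg.IsPReducedNormal p ((Cfsg.largestPReduced p H ⊓ L).subgroupOf L) ∧ L ⊓ Subgroup.centralizer ((Cfsg.largestPReducedOf p L : Subgroup H) : Set H) = L ⊓ Subgroup.centralizer (Cfsg.largestPReduced p H : Set H) ∧ L ⊓ Subgroup.centralizer (Cfsg.largestPReduced p H : Set H) = L ⊓ Subgroup.centralizer ((Cfsg.largestPReduced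 p H ⊓ L : Subgroup H) : Set H) ∧ (Cfsg.pResidual p H ≤ L → (⁅(Cfsg.largestPReducedOf p L), L⁆ = ⊥ ↔ ⁅Cfsg.largestPReduced p H, (⊤ : Subgroup H)⁆ = ⊥)) := by
  have hYH : Cfsg.IsPReducedNormal p (Cfsg.largestPReduced p H) :=
    largestPReduced_isPReducedNormal p H
  have hYn : (Cfsg.largestPReduced p H).Normal := hYH.1
  have hYE : Cfsg.IsElementaryAbelian p (Cfsg.largestPReduced p H) := hYH.2.1
  -- subnormal subgroups of `L` normalized by `L` acting as `p`-groups on `Y_H ∩ L`
  have hsub : ∀ D : Subgroup H, D ≤ L → L ≤ Subgroup.normalizer (D : Set H) →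
      (∀ d ∈ D, ∃ k : ℕ, d ^ (p ^ k) ∈
        Subgroup.centralizer ((Cfsg.largestPReduced p H ⊓ L : Subgroup H) : Set H)) →
      D ≤ Subgroup.centralizer (Cfsg.largestPReduced p H : Set H) := by
    intro D hDL hLD hDp
    apply le_centralizer_of_isSubnormal_of_isPReducedNormal hYH
      (isSubnormal_of_le_of_le_normalizer hL hDL hLD)
    intro d hd
    obtain ⟨j, hj⟩ := hDp d hd
    obtain ⟨k, hk⟩ := exists_pow_mem_centralizer_of_isSubnormal hYn hYE hL (d ^ (p ^ j))
      (pow_mem (hDL hd) _) hj
    exact ⟨j + k, by rw [pow_add, pow_mul]; exact hk⟩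
  have hLYH : L ≤ Subgroup.normalizer ((Cfsg.largestPReduced p H ⊓ L : Subgroup H) : Set H) :=
    le_normalizer_inf (by rw [Subgroup.normalizer_eq_top]; exact le_top) Subgroup.le_normalizer
  have hb' : RelPRed p L (Cfsg.largestPReduced p H ⊓ L) :=
    ⟨inf_le_right, hLYH, isElementaryAbelian_of_le inf_le_left hYE,
      fun D hDL hLD hDp => (hsub D hDL hLD hDp).trans (Subgroup.centralizer_le inf_le_left)⟩
  have hd : L ⊓ Subgroup.centralizer (Cfsg.largestPReduced p H : Set H)
      = L ⊓ Subgroup.centralizer ((Cfsg.largestPReduced p H ⊓ L : Subgroup H) : Set H) := by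
    apply le_antisymm (inf_le_inf_left _ (Subgroup.centralizer_le inf_le_left))
    refine le_inf inf_le_left ?_
    apply hsub _ inf_le_left
      (le_normalizer_inf Subgroup.le_normalizer
        (hLYH.trans (normalizer_le_normalizer_centralizer _)))
    intro d hd
    exact ⟨0, by simpa using hd.2⟩
  -- `C_L(Y_H) ≤ C_L(Y_L)` by induction along the subnormal series
  have hP : ∀ L : Subgroup H, L.IsSubnormal →
      L ⊓ Subgroup.centralizer (Cfsg.largestPReduced p H : Set H) ≤
        Subgroup.centralizer ((Cfsg.largestPReducedOf p L : Subgroup H) : Set H) := by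
    intro L hL
    induction hL with
    | top =>
      have h1 : Cfsg.largestPReducedOf p (⊤ : Subgroup H) ≤ Cfsg.largestPReduced p H :=
        le_largestPReduced (relPRed_top_iff.mp (relPRed_largestPReducedOf p ⊤))
      exact inf_le_right.trans (Subgroup.centralizer_le h1)
    | step L M hle hM hN ih =>
      have hML : M ≤ Subgroup.normalizer (L : Set H) :=
        (Subgroup.normal_subgroupOf_iff_le_normalizer hle).mp hN
      rintro x ⟨hxL, hxC⟩
      exact inf_centralizer_largestPReducedOf_le_of_normal hle hML ⟨hxL, ih ⟨hle hxL, hxC⟩⟩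
  have hc : L ⊓ Subgroup.centralizer ((Cfsg.largestPReducedOf p L : Subgroup H) : Set H)
      = L ⊓ Subgroup.centralizer (Cfsg.largestPReduced p H : Set H) := by
    apply le_antisymm
    · rw [hd]
      exact inf_le_inf_left _ (Subgroup.centralizer_le hb'.le_largestPReducedOf)
    · exact le_inf inf_le_left (hP L hL)
  refine ⟨?_, (relPRed_iff inf_le_right).mp hb', hc, hd, ?_⟩
  · exact le_antisymm (le_inf inf_le_left hb'.le_largestPReducedOf)
      (inf_le_inf_left _ (largestPReducedOf_le p L))
  · intro hKL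
    rw [Subgroup.commutator_eq_bot_iff_le_centralizer,
      Subgroup.commutator_eq_bot_iff_le_centralizer, Subgroup.le_centralizer_iff,
      Subgroup.le_centralizer_iff (H := Cfsg.largestPReduced p H)]
    constructor
    · intro h
      have h1 : L ≤ Subgroup.centralizer (Cfsg.largestPReduced p H : Set H) := by
        have : L ≤ L ⊓ Subgroup.centralizer ((Cfsg.largestPReducedOf p L : Subgroup H) : Set H) :=
          le_inf le_rfl h
        rw [hc] at this
        exact this.trans inf_le_right
      apply ((isPReducedNormal_iff p _).mp hYH).2.2 ⊤ inferInstance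
      intro d _
      obtain ⟨k, hk⟩ := Cfsg.Agent.Lib.helper40.exists_pow_mem_pResidual (p := p) d
      exact ⟨k, h1 (hKL hk)⟩
    · intro h
      have : L ≤ L ⊓ Subgroup.centralizer (Cfsg.largestPReduced p H : Set H) :=
        le_inf le_rfl (le_top.trans h)
      rw [← hc] at this
      exact this.trans inf_le_right

end Cfsg.Agent.S2825
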