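import Cfsg.Statements.S2826
import Cfsg.Agent.Lib.helper52.Transfer2
import Cfsg.Agent.Lib.helper52.SupTools
import Cfsg.Agent.Lib.helper53.PCore

set_option autoImplicit false
open Cfsg

namespace Cfsg.Agent.S2826

open Cfsg.Agent.Lib.helper52 in
open scoped commutatorElement in
/-- Let H be a finite group of characteristic p, T a Sylow p-subgroup, and V a normal elementary abelian p-subgroup of H containing Ω₁(Z(T)). Then C_H(Ω₁(Z(T))) = C_H([V, O^p(H)] ∩ Ω₁(Z(T))), O^p(H) being generated by the elements of order prime to p. -/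
theorem result {H : Type*} [Group H] [Finite H] {p : ℕ} [Fact p.Prime] (hH : Subgroup.centralizer (Cfsg.pCore p H : Set H) ≤ Cfsg.pCore p H) (T : Sylow p H) (V : Subgroup H) [V.Normal] (hV : Cfsg.IsElementaryAbelian p V) (hZV : (Cfsg.omegaOne p ((T : Subgroup H) ⊓ Subgroup.centralizer (((T : Subgroup H) : Subgroup H) : Set H))) ≤ V) : Subgroup.centralizer ((Cfsg.omegaOne p ((T : Subgroup H) ⊓ Subgroup.centralizer (((T : Subgroup H) : Subgroup H) : Set H))) : Set H) = Subgroup.centralizer (((⁅V, Cfsg.pResidual p H⁆ ⊓ (Cfsg.omegaOne p ((T : Subgroup H) ⊓ Subgroup.centralizer (((T : Subgroup H) : Subgroup H) : Set H)))) : Subgroup H) : Set H) := by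
  rw [omegaOne_center_eq] at hZV ⊢
  have hKn : (Cfsg.pResidual p H).Normal := Cfsg.Agent.Lib.helper53.pResidual_normal p H
  have hVT : V ≤ (T : Subgroup H) :=
    (le_pCore inferInstance (IsElementaryAbelian.isPGroup hV)).trans
      (Cfsg.Agent.Lib.helper53.pCore_le_sylow T)
  apply le_antisymm
  · exact Subgroup.centralizer_le (fun x hx => hx.2)
  · intro x hx
    rw [Subgroup.mem_centralizer_iff] at hx ⊢
    intro z hz
    obtain ⟨hzT, hzC, hzp⟩ := mem_omegaZ.mp hz
    have hzV : z ∈ V := hZV hz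
    have hidx : ((T : Subgroup H).relIndex ⊤).Coprime p := by
      rw [Subgroup.relIndex_top_right]
      exact (Nat.Coprime.symm ((Nat.Prime.coprime_iff_not_dvd Fact.out).mpr T.not_dvd_index))
    have hzS : ∀ t ∈ (T : Subgroup H), t * z = z * t := Subgroup.mem_centralizer_iff.mp hzC
    have hX : ∀ r ∈ (⊤ : Subgroup H), ⁅r, z⁆ ∈ ⁅V, Cfsg.pResidual p H⁆ := by
      intro r _
      have hr : r ∈ (T : Subgroup H) ⊔ Cfsg.pResidual p H := by
        rw [sup_comm, Cfsg.Agent.Lib.helper53.pResidual_sup_sylow T]; exact Subgroup.mem_top r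
      obtain ⟨t, ht, k, hk, rfl⟩ := exists_mul_of_mem_sup
        (by rw [Subgroup.normalizer_eq_top]; exact le_top) hr
      have e : ⁅t * k, z⁆ = t * ⁅k, z⁆ * t⁻¹ * ⁅t, z⁆ := by
        simp only [commutatorElement_def]; group
      have e2 : ⁅t, z⁆ = 1 := commutatorElement_eq_one_iff_mul_comm.mpr (hzS t ht)
      rw [e, e2, mul_one]
      have h1 : ⁅k, z⁆ ∈ ⁅V, Cfsg.pResidual p H⁆ := by
        rw [Subgroup.commutator_comm]; exact Subgroup.commutator_mem_commutator hk hzV
      have hn : (⁅V, Cfsg.pResidual p H⁆).Normal := inferInstance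
      exact hn.conj_mem _ h1 t
    obtain ⟨w, hwX, c, hc, hwV, hzwc⟩ := exists_mul_of_centralized_of_coprime_relIndex V ⊤
      (T : Subgroup H) ⁅V, Cfsg.pResidual p H⁆ hV
      (by rw [Subgroup.normalizer_eq_top]) hidx hzV hzS hX
    have hcT : c ∈ Subgroup.centralizer ((T : Subgroup H) : Set H) :=
      Subgroup.centralizer_le (Set.subset_univ _) hc.2
    have hwC : w ∈ Subgroup.centralizer ((T : Subgroup H) : Set H) := by
      have : w = z * c⁻¹ := by rw [hzwc]; group
      rw [this]; exact mul_mem hzC (inv_mem hcT)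
    have hw : w ∈ omegaZ p (T : Subgroup H) := mem_omegaZ.mpr ⟨hVT hwV, hwC, hV.2 w hwV⟩
    have h1 : w * x = x * w := hx w ⟨hwX, hw⟩
    have h2 : x * c = c * x := Subgroup.mem_centralizer_iff.mp hc.2 x (Subgroup.mem_top x)
    rw [hzwc]
    calc w * c * x = w * (c * x) := by group
      _ = w * (x * c) := by rw [h2]
      _ = (w * x) * c := by group
      _ = (x * w) * c := by rw [h1]
      _ = x * (w * c) := by group

end Cfsg.Agent.S2826
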