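import Cfsg.Statements.S2827
import Cfsg.Agent.Lib.helper53.PCore
import Cfsg.Agent.Lib.helper53.Comm

set_option autoImplicit false
open Cfsg

namespace Cfsg.Agent.S2827

open scoped commutatorElement

/-- Let H be a finite p-irreducible group (not p-closed, and O^p(H) lies in every normal subgroup that is not p-closed) and T a Sylow p-subgroup. Then H is generated by the conjugates of T and H = H'·T; O^p(H) ≤ H'; and for every normal subgroup Y of T not contained in O_p(H), O^p(H) = [O^p(H), Y] and O^p(H) is contained in the normal closure of Y in H. -/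
theorem result {H : Type*} [Group H] [Finite H] {p : ℕ} [Fact p.Prime] (hH : Cfsg.IsPIrreducible p H) (T : Sylow p H) : Subgroup.normalClosure ((T : Subgroup H) : Set H) = ⊤ ∧ commutator H ⊔ (T : Subgroup H) = ⊤ ∧ Cfsg.pResidual p H ≤ commutator H ∧ ∀ Y : Subgroup H, Y ≤ (T : Subgroup H) → (T : Subgroup H) ≤ Subgroup.normalizer (Y : Set H) → ¬ Y ≤ Cfsg.pCore p H → ⁅Cfsg.pResidual p H, Y⁆ = Cfsg.pResidual p H ∧ Cfsg.pResidual p H ≤ Subgroup.normalClosure (Y : Set H) := by
  haveI hRn := Lib.helper53.pResidual_normal p H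
  have hRT : Cfsg.pResidual p H ⊔ (T : Subgroup H) = ⊤ := Lib.helper53.pResidual_sup_sylow T
  -- (1)
  have h1 : Subgroup.normalClosure ((T : Subgroup H) : Set H) = ⊤ := by
    have hncl : ¬ Cfsg.IsPClosed p ↥(Subgroup.normalClosure ((T : Subgroup H) : Set H)) := by
      intro hcl
      have hT : (T : Subgroup H) ≤ Cfsg.pCore p H :=
        Lib.helper53.IsPClosed.le_pCore_of_normal hcl Subgroup.le_normalClosure T.2
      have hTe : (T : Subgroup H) = Cfsg.pCore p H :=
        le_antisymm hT (Lib.helper53.pCore_le_sylow T)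
      apply hH.1
      apply Lib.helper53.isPClosed_of_normal_sylow T
      rw [hTe]; exact Lib.helper53.pCore_normal p H
    have hR := hH.2 _ Subgroup.normalClosure_normal hncl
    rw [eq_top_iff, ← hRT]
    exact sup_le hR Subgroup.le_normalClosure
  -- (2)
  have h2 : commutator H ⊔ (T : Subgroup H) = ⊤ := by
    have hKn : (commutator H ⊔ (T : Subgroup H)).Normal := by
      constructor
      intro x hx g
      have e : g * x * g⁻¹ = ⁅g, x⁆ * x := by rw [commutatorElement_def]; group
      rw [e]
      apply Subgroup.mul_mem _ _ hx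
      apply (le_sup_left : commutator H ≤ commutator H ⊔ (T : Subgroup H))
      rw [commutator_def]
      exact Subgroup.commutator_mem_commutator (Subgroup.mem_top g) (Subgroup.mem_top x)
    rw [eq_top_iff, ← h1]
    exact Subgroup.normalClosure_le_normal (le_sup_right : (T : Subgroup H) ≤ _)
  -- (3)
  have h3 : Cfsg.pResidual p H ≤ commutator H := Lib.helper53.pResidual_le_of_sup_eq_top T.2 h2
  refine ⟨h1, h2, h3, ?_⟩
  intro Y hYT hTY hYO
  have hYp : IsPGroup p Y := T.2.to_le hYT
  -- K = [R, Y] is normal in H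
  have hKle : ⁅Cfsg.pResidual p H, Y⁆ ≤ Cfsg.pResidual p H := Subgroup.commutator_le_left _ _
  have hTK : (T : Subgroup H) ≤ Subgroup.normalizer ((⁅Cfsg.pResidual p H, Y⁆ : Subgroup H) : Set H) := by
    intro t ht
    apply Lib.helper53.mem_normalizer_commutator
    · rw [Subgroup.normalizer_eq_top_iff.mpr hRn]; exact Subgroup.mem_top t
    · exact hTY ht
  have hRK : Cfsg.pResidual p H ≤ Subgroup.normalizer ((⁅Cfsg.pResidual p H, Y⁆ : Subgroup H) : Set H) :=
    Lib.helper53.le_normalizer_commutator_left _ _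
  haveI hKn : (⁅Cfsg.pResidual p H, Y⁆ : Subgroup H).Normal := by
    rw [← Subgroup.normalizer_eq_top_iff, eq_top_iff, ← hRT]
    exact sup_le hRK hTK
  -- K ⊔ Y is normal in H
  have hKYn : (⁅Cfsg.pResidual p H, Y⁆ ⊔ Y : Subgroup H).Normal := by
    rw [← Subgroup.normalizer_eq_top_iff, eq_top_iff, ← hRT]
    apply sup_le
    · intro r hr
      apply Lib.helper53.mem_normalizer_of_conj_le
      rw [Lib.helper53.conj_le_iff]
      intro x hx
      rw [Subgroup.mem_sup_of_normal_left] at hx ⊢
      obtain ⟨k, hk, y, hy, rfl⟩ := hx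
      refine ⟨r * k * r⁻¹ * ⁅r, y⁆, ?_, y, hy, ?_⟩
      · exact Subgroup.mul_mem _ (hKn.conj_mem k hk r) (Subgroup.commutator_mem_commutator hr hy)
      · rw [commutatorElement_def]; group
    · intro t ht
      apply Lib.helper53.mem_normalizer_of_conj_le
      rw [Lib.helper53.conj_le_iff]
      intro x hx
      rw [Subgroup.mem_sup_of_normal_left] at hx ⊢
      obtain ⟨k, hk, y, hy, rfl⟩ := hx
      refine ⟨t * k * t⁻¹, hKn.conj_mem k hk t, t * y * t⁻¹, ?_, by group⟩
      exact (Subgroup.mem_normalizer_iff.mp (hTY ht) y).mp hy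
  -- normal closure of Y is not p-closed
  have hncl : ¬ Cfsg.IsPClosed p ↥(Subgroup.normalClosure ((Y : Subgroup H) : Set H)) := by
    intro hcl
    exact hYO (Lib.helper53.IsPClosed.le_pCore_of_normal hcl Subgroup.le_normalClosure hYp)
  have hR := hH.2 _ Subgroup.normalClosure_normal hncl
  refine ⟨le_antisymm hKle ?_, hR⟩
  apply Lib.helper53.pResidual_le_of_le_sup hYp
  refine le_trans hR ?_
  haveI := hKYn
  exact Subgroup.normalClosure_le_normal (le_sup_right : Y ≤ ⁅Cfsg.pResidual p H, Y⁆ ⊔ Y)

end Cfsg.Agent.S2827
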