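import Cfsg.Statements.S2829
import Cfsg.Agent.Lib.helper53.PCore

set_option autoImplicit false
open Cfsg

namespace Cfsg.Agent.S2829

open scoped commutatorElement

/-- Every strongly p-irreducible finite group is p-irreducible. -/
theorem result {H : Type*} [Group H] [Finite H] {p : ℕ} [Fact p.Prime] (hH : Cfsg.IsStronglyPIrreducible p H) : Cfsg.IsPIrreducible p H := by
  refine ⟨hH.1, fun N hN hNc => hH.2 N hN ?_⟩
  intro hcomm
  apply hNc
  apply Lib.helper53.isPClosed_of_forall_sylow_le (D := Cfsg.pCore p H)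
    ((Lib.helper53.pCore_normal p H).subgroupOf N) (Lib.helper53.pCore_isPGroup p H)
  intro P
  have hP'p : IsPGroup p ((P : Subgroup N).map N.subtype) := P.2.map _
  have hP'N : (P : Subgroup N).map N.subtype ≤ N := Subgroup.map_subtype_le _
  haveI := Lib.helper53.pCore_normal p H
  have hR : IsPGroup p ((P : Subgroup N).map N.subtype ⊔ Cfsg.pCore p H : Subgroup H) :=
    hP'p.to_sup_of_normal_right (Lib.helper53.pCore_isPGroup p H)
  have hRn : ((P : Subgroup N).map N.subtype ⊔ Cfsg.pCore p H).Normal := by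
    constructor
    intro x hx g
    rw [Subgroup.mem_sup_of_normal_right] at hx ⊢
    obtain ⟨y, hy, z, hz, rfl⟩ := hx
    refine ⟨y, hy, (y⁻¹ * g * y * g⁻¹) * (g * z * g⁻¹), ?_, by group⟩
    apply Subgroup.mul_mem
    · have : y⁻¹ * g * y * g⁻¹ = ⁅y⁻¹, g⁆ := by rw [commutatorElement_def]; group
      rw [this]
      exact hcomm (Subgroup.commutator_mem_commutator (N.inv_mem (hP'N hy)) (Subgroup.mem_top g))
    · exact (Lib.helper53.pCore_normal p H).conj_mem z hz g
  exact le_trans le_sup_left (Lib.helper53.le_pCore hRn hR)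

end Cfsg.Agent.S2829
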