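import Cfsg.Statements.S2830
import Cfsg.Agent.Lib.helper53.PIrr2

set_option autoImplicit false
open Cfsg

namespace Cfsg.Agent.S2830

/-- Let H act by conjugation on the elementary abelian p-subgroup V of a finite group G (H ≤ N(V)), with H p-irreducible and O^p(H) not centralizing V. Then C_H(V) is p-closed and C_T(V) ≤ O_p(H) for every p-subgroup T of H. If in addition O_p(H) centralizes V, then C_T(V) = T ∩ O_p(H) for every p-subgroup T of H, and V is p-reduced for H: O_p(H/C_H(V)) = 1. -/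
theorem result {G : Type*} [Group G] [Finite G] {p : ℕ} [Fact p.Prime] (V H : Subgroup G) (hV : Cfsg.IsElementaryAbelian p V) (hHV : H ≤ Subgroup.normalizer (V : Set G)) (hH : Cfsg.IsPIrreducible p ↥H) (hnc : ¬ (Cfsg.pResidual p ↥H).map H.subtype ≤ Subgroup.centralizer (V : Set G)) [hn : ((Subgroup.centralizer (V : Set G)).subgroupOf H).Normal] : Cfsg.IsPClosed p ↥(H ⊓ Subgroup.centralizer (V : Set G)) ∧ (∀ T : Subgroup G, T ≤ H → IsPGroup p ↥T → T ⊓ Subgroup.centralizer (V : Set G) ≤ Cfsg.pCoreOf p H) ∧ (Cfsg.pCoreOf p H ≤ Subgroup.centralizer (V : Set G) → (∀ T : Subgroup G, T ≤ H → IsPGroup p ↥T → T ⊓ Subgroup.centralizer (V : Set G) = T ⊓ Cfsg.pCoreOf p H) ∧ Cfsg.pCore p (↥H ⧸ (Subgroup.centralizer (V : Set G)).subgroupOf H) = ⊥) := by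
  have hnc' : ¬ Cfsg.pResidual p ↥H ≤ (Subgroup.centralizer (V : Set G)).subgroupOf H := by
    intro h
    apply hnc
    rw [Subgroup.map_le_iff_le_comap]
    exact h
  have hker : IsPGroup p (H.subtype).ker := by
    rw [Subgroup.ker_subtype]
    exact IsPGroup.of_bot
  have h2 : ∀ T : Subgroup G, T ≤ H → IsPGroup p ↥T →
      T ⊓ Subgroup.centralizer (V : Set G) ≤ Cfsg.pCoreOf p H := by
    intro T hTH hT
    have hT' : IsPGroup p (T.subgroupOf H) := hT.comap_subtype
    have h3 := Cfsg.Agent.Lib.helper53.pirr_inf_le_pCore hH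
      ((Subgroup.centralizer (V : Set G)).subgroupOf H) hnc' hT'
    intro x hx
    have hxH : x ∈ H := hTH (Subgroup.mem_inf.mp hx).1
    refine ⟨⟨x, hxH⟩, h3 (Subgroup.mem_inf.mpr ⟨?_, ?_⟩), rfl⟩
    · exact Subgroup.mem_subgroupOf.mpr (Subgroup.mem_inf.mp hx).1
    · exact Subgroup.mem_subgroupOf.mpr (Subgroup.mem_inf.mp hx).2
  refine ⟨?_, h2, ?_⟩
  · have h1 := Cfsg.Agent.Lib.helper53.pirr_isPClosed_of_not_le hH
      ((Subgroup.centralizer (V : Set G)).subgroupOf H) hnc'
    rw [Cfsg.Agent.Lib.helper53.isPClosed_map_iff H.subtype hker,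
      Subgroup.subgroupOf_map_subtype, inf_comm] at h1
    exact h1
  · intro hle
    refine ⟨?_, ?_⟩
    · intro T hTH hT
      exact le_antisymm (le_inf inf_le_left (h2 T hTH hT)) (inf_le_inf_left _ hle)
    · apply Cfsg.Agent.Lib.helper53.pirr_pCore_quotient_eq_bot hH _ hnc'
      unfold Cfsg.pCoreOf at hle
      rw [Subgroup.map_le_iff_le_comap] at hle
      exact hle

end Cfsg.Agent.S2830
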