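import Cfsg.Statements.S2831
import Cfsg.Agent.Lib.helper53.PCore

set_option autoImplicit false
open Cfsg

namespace Cfsg.Agent.S2831

/-- Let H be a finite group with Sylow p-subgroup T such that H is T-minimal (H is generated by the conjugates of T and T lies in exactly one maximal subgroup of H). Then H is p-irreducible: H is not p-closed and O^p(H) lies in every normal subgroup of H that is not p-closed. -/
theorem result {H : Type*} [Group H] [Finite H] {p : ℕ} [Fact p.Prime] (T : Sylow p H) (hmin : Cfsg.IsMinimalOver (T : Subgroup H)) : Cfsg.IsPIrreducible p H := by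
  obtain ⟨hnc, M, ⟨hMco, hTM⟩, hMuniq⟩ := hmin
  constructor
  · intro hcl
    haveI hTn : (T : Subgroup H).Normal := hcl T
    have h1 : Subgroup.normalClosure ((T : Subgroup H) : Set H) = T :=
      Subgroup.normalClosure_eq_self (T : Subgroup H)
    rw [h1] at hnc
    exact hMco.1 (top_le_iff.mp (hnc ▸ hTM))
  · intro N hN hNc
    haveI := hN
    have hTN : N ⊔ (T : Subgroup H) = ⊤ := by
      by_contra hne
      obtain ⟨K, hK, hle⟩ := (eq_top_or_exists_le_coatom (N ⊔ (T : Subgroup H))).resolve_left hne
      have hKM : K = M := hMuniq K ⟨hK, le_trans le_sup_right hle⟩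
      have hNM : N ≤ M := hKM ▸ le_trans le_sup_left hle
      obtain ⟨Q, hQ⟩ := Lib.helper53.exists_sylow_eq_inf_normal T N
      have hfr := Sylow.normalizer_sup_eq_top Q
      rw [hQ] at hfr
      have hnorm_ne : Subgroup.normalizer (((T : Subgroup H) ⊓ N : Subgroup H) : Set H) ≠ ⊤ := by
        intro htop
        apply hNc
        apply Lib.helper53.isPClosed_of_inf_normal T N
        have h2 : ((T : Subgroup H) ⊓ N : Subgroup H).Normal := Subgroup.normalizer_eq_top_iff.mp htop
        exact h2.subgroupOf N
      obtain ⟨K', hK', hle'⟩ := (eq_top_or_exists_le_coatom _).resolve_left hnorm_ne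
      have hT_le : (T : Subgroup H) ≤ Subgroup.normalizer (((T : Subgroup H) ⊓ N : Subgroup H) : Set H) := by
        intro t ht
        rw [Subgroup.mem_normalizer_iff]
        intro x
        constructor
        · intro hx
          have hxT : x ∈ (T : Subgroup H) := (Subgroup.mem_inf.mp hx).1
          have hxN : x ∈ N := (Subgroup.mem_inf.mp hx).2
          exact Subgroup.mem_inf.mpr ⟨(T : Subgroup H).mul_mem ((T : Subgroup H).mul_mem ht hxT)
            ((T : Subgroup H).inv_mem ht), hN.conj_mem x hxN t⟩
        · intro hx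
          have hxT : t * x * t⁻¹ ∈ (T : Subgroup H) := (Subgroup.mem_inf.mp hx).1
          have hxN : t * x * t⁻¹ ∈ N := (Subgroup.mem_inf.mp hx).2
          refine Subgroup.mem_inf.mpr ⟨?_, ?_⟩
          · have h3 : x = t⁻¹ * (t * x * t⁻¹) * t := by group
            rw [h3]; exact (T : Subgroup H).mul_mem ((T : Subgroup H).mul_mem
              ((T : Subgroup H).inv_mem ht) hxT) ht
          · have h3 : x = t⁻¹ * (t * x * t⁻¹) * t⁻¹⁻¹ := by group
            rw [h3]; exact hN.conj_mem _ hxN t⁻¹
      have hK'M : K' = M := hMuniq K' ⟨hK', le_trans hT_le hle'⟩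
      have h4 : (⊤ : Subgroup H) ≤ M := by
        rw [← hfr]
        exact sup_le (hK'M ▸ hle') hNM
      exact hMco.1 (top_le_iff.mp h4)
    exact Lib.helper53.pResidual_le_of_sup_eq_top T.2 hTN

end Cfsg.Agent.S2831
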