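import Cfsg.Statements.S2832
import Cfsg.Agent.Lib.helper53.MinOver
import Cfsg.Agent.Lib.helper53.Quot

set_option autoImplicit false
open Cfsg

namespace Cfsg.Agent.S2832

/-- Let H be a finite group with Sylow p-subgroup T such that H is T-minimal (generated by the conjugates of T, with T in exactly one maximal subgroup), and let N be a normal subgroup of H. Then either H/N is a p-group or H/N is minimal over the image of T in the same sense. -/
theorem result {H : Type*} [Group H] [Finite H] {p : ℕ} [Fact p.Prime] (T : Sylow p H) (hmin : Cfsg.IsMinimalOver (T : Subgroup H)) (N : Subgroup H) [N.Normal] : IsPGroup p (H ⧸ N) ∨ Cfsg.IsMinimalOver ((T : Subgroup H).map (QuotientGroup.mk' N)) := by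
  by_cases htop : N ⊔ (T : Subgroup H) = ⊤
  · left
    exact Lib.helper53.isPGroup_quotient_of_sup_eq_top T.2 htop
  · right
    have hsurj : Function.Surjective (QuotientGroup.mk' N) := QuotientGroup.mk'_surjective N
    obtain ⟨hnc, M, ⟨hMco, hTM⟩, huniq⟩ := id hmin
    have hNM : N ≤ M :=
      le_sup_left.trans (Lib.helper53.minOver_le_of_ne_top hmin hMco hTM le_sup_right htop)
    constructor
    · -- normal closure
      have h1 : (T : Subgroup H) ≤ (Subgroup.normalClosure
          (((T : Subgroup H).map (QuotientGroup.mk' N) : Subgroup (H ⧸ N)) : Set (H ⧸ N))).comap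
            (QuotientGroup.mk' N) := by
        rw [← Subgroup.map_le_iff_le_comap]
        exact Subgroup.le_normalClosure
      haveI : ((Subgroup.normalClosure
          (((T : Subgroup H).map (QuotientGroup.mk' N) : Subgroup (H ⧸ N)) : Set (H ⧸ N))).comap
            (QuotientGroup.mk' N)).Normal := Subgroup.Normal.comap Subgroup.normalClosure_normal _
      have h2 := Lib.helper53.minOver_eq_top_of_normal hmin h1
      apply Subgroup.comap_injective hsurj
      rw [h2, Subgroup.comap_top]
    · refine ⟨M.map (QuotientGroup.mk' N),
        ⟨Lib.helper53.map_mk'_isCoatom hNM hMco, Subgroup.map_mono hTM⟩, ?_⟩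
      rintro K ⟨hK, hTK⟩
      have h3 : IsCoatom (K.comap (QuotientGroup.mk' N)) :=
        Subgroup.isCoatom_comap_of_surjective hsurj hK
      have h4 : (T : Subgroup H) ≤ K.comap (QuotientGroup.mk' N) :=
        Subgroup.map_le_iff_le_comap.mp hTK
      have h5 := huniq _ ⟨h3, h4⟩
      rw [← h5, Lib.helper53.map_comap_mk']

end Cfsg.Agent.S2832
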