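import Cfsg.Statements.S2833
import Cfsg.Agent.Lib.helper53.Comm

set_option autoImplicit false
open Cfsg

namespace Cfsg.Agent.S2833

open scoped commutatorElement

/-- Let V be a subgroup of a finite group G normalized by the subgroup L, let X ≤ L and g ∈ L with [V, X, X] = 1 and L generated by X and gXg⁻¹. Put W = [V, L]. Then W = [V, X]·[V, gXg⁻¹], C_W(X) = [V, X], and C_W(L) = [V, X] ∩ [V, gXg⁻¹]. -/
theorem result {G : Type*} [Group G] [Finite G] (V L : Subgroup G) (hLV : L ≤ Subgroup.normalizer (V : Set G)) (X : Subgroup G) (hX : X ≤ L) (g : G) (hg : g ∈ L) (hq : ⁅⁅V, X⁆, X⁆ = ⊥) (hgen : X ⊔ X.map (MulAut.conj g).toMonoidHom = L) (W : Subgroup G) (hW : W = ⁅V, L⁆) : ⁅V, X⁆ ⊔ ⁅V, X.map (MulAut.conj g).toMonoidHom⁆ = W ∧ W ⊓ Subgroup.centralizer (X : Set G) = ⁅V, X⁆ ∧ W ⊓ Subgroup.centralizer (L : Set G) = ⁅V, X⁆ ⊓ ⁅V, X.map (MulAut.conj g).toMonoidHom⁆ := by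
  subst hW
  have hXV : X ≤ Subgroup.normalizer (V : Set G) := hX.trans hLV
  have hgV : g ∈ Subgroup.normalizer (V : Set G) := hLV hg
  have hX'L : X.map (MulAut.conj g).toMonoidHom ≤ L := by
    rw [Lib.helper53.conj_le_iff]
    intro x hx
    exact L.mul_mem (L.mul_mem hg (hX hx)) (L.inv_mem hg)
  have hX'V : X.map (MulAut.conj g).toMonoidHom ≤ Subgroup.normalizer (V : Set G) := hX'L.trans hLV
  -- B = A^g
  have hB : ⁅V, X.map (MulAut.conj g).toMonoidHom⁆ = (⁅V, X⁆ : Subgroup G).map (MulAut.conj g).toMonoidHom := by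
    rw [Subgroup.map_commutator, Lib.helper53.conj_eq_self_of_mem_normalizer hgV]
  have hAV : ⁅V, X⁆ ≤ V := Lib.helper53.commutator_le_left_of_le_normalizer hXV
  have hBV : ⁅V, X.map (MulAut.conj g).toMonoidHom⁆ ≤ V :=
    Lib.helper53.commutator_le_left_of_le_normalizer hX'V
  have hAW : ⁅V, X⁆ ≤ ⁅V, L⁆ := Subgroup.commutator_mono le_rfl hX
  have hBW : ⁅V, X.map (MulAut.conj g).toMonoidHom⁆ ≤ ⁅V, L⁆ := Subgroup.commutator_mono le_rfl hX'L
  -- X centralizes A, X' centralizes B
  have hXA : X ≤ Subgroup.centralizer ((⁅V, X⁆ : Subgroup G) : Set G) :=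
    Lib.helper53.commutator_eq_bot_iff_le_centralizer'.mp hq
  have hX'B : X.map (MulAut.conj g).toMonoidHom ≤
      Subgroup.centralizer ((⁅V, X.map (MulAut.conj g).toMonoidHom⁆ : Subgroup G) : Set G) := by
    apply Lib.helper53.commutator_eq_bot_iff_le_centralizer'.mp
    rw [hB, ← Subgroup.map_commutator, hq, Subgroup.map_bot]
  -- part 1
  have h1 : ⁅V, X⁆ ⊔ ⁅V, X.map (MulAut.conj g).toMonoidHom⁆ = ⁅V, L⁆ := by
    apply le_antisymm (sup_le hAW hBW)
    rw [← hgen]
    exact Lib.helper53.commutator_sup_le (sup_le hAV hBV) le_sup_left le_sup_right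
  -- V normalizes A
  have hVA : V ≤ Subgroup.normalizer ((⁅V, X⁆ : Subgroup G) : Set G) :=
    Lib.helper53.le_normalizer_commutator_left V X
  -- centralizing both X and X' means centralizing L
  have hcent : ∀ b : G, (∀ x ∈ X, x * b = b * x) →
      (∀ x ∈ X.map (MulAut.conj g).toMonoidHom, x * b = b * x) → ∀ l ∈ L, l * b = b * l := by
    intro b hb1 hb2 l hl
    have h2 : X ⊔ X.map (MulAut.conj g).toMonoidHom ≤ Subgroup.centralizer ({b} : Set G) := by
      apply sup_le
      · intro x hx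
        rw [Subgroup.mem_centralizer_iff]
        intro z hz
        rw [Set.mem_singleton_iff] at hz
        subst hz
        exact (hb1 x hx).symm
      · intro x hx
        rw [Subgroup.mem_centralizer_iff]
        intro z hz
        rw [Set.mem_singleton_iff] at hz
        subst hz
        exact (hb2 x hx).symm
    rw [hgen] at h2
    exact (Subgroup.mem_centralizer_iff.mp (h2 hl) b (Set.mem_singleton b)).symm
  -- key: elements of B centralized by X lie in A
  have hkey : ∀ b ∈ ⁅V, X.map (MulAut.conj g).toMonoidHom⁆, (∀ x ∈ X, x * b = b * x) → b ∈ ⁅V, X⁆ := by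
    intro b hb hbX
    have hbL := hcent b hbX (fun x hx => by
      have := Subgroup.mem_centralizer_iff.mp (hX'B hx) b hb
      exact this.symm)
    rw [hB, Lib.helper53.mem_conj_iff] at hb
    have e : g⁻¹ * b * g = b := by
      have := hbL g hg
      calc g⁻¹ * b * g = g⁻¹ * (b * g) := by group
        _ = g⁻¹ * (g * b) := by rw [← this]
        _ = b := by group
    rwa [e] at hb
  -- part 2
  have h2 : ⁅V, L⁆ ⊓ Subgroup.centralizer (X : Set G) = ⁅V, X⁆ := by
    apply le_antisymm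
    · intro w hw
      have hw1 : w ∈ ⁅V, L⁆ := (Subgroup.mem_inf.mp hw).1
      have hw2 : w ∈ Subgroup.centralizer (X : Set G) := (Subgroup.mem_inf.mp hw).2
      rw [← h1, Lib.helper53.mem_sup_of_le_normalizer (hBV.trans hVA)] at hw1
      obtain ⟨a, ha, b, hb, rfl⟩ := hw1
      have hbA : b ∈ ⁅V, X⁆ := by
        apply hkey b hb
        intro x hx
        have e1 : x * a = a * x := (Subgroup.mem_centralizer_iff.mp (hXA hx) a ha).symm
        have e2 : x * (a * b) = (a * b) * x := Subgroup.mem_centralizer_iff.mp hw2 x hx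
        calc x * b = a⁻¹ * (a * x) * b := by group
          _ = a⁻¹ * (x * a) * b := by rw [e1]
          _ = a⁻¹ * (x * (a * b)) := by group
          _ = a⁻¹ * ((a * b) * x) := by rw [e2]
          _ = b * x := by group
      exact Subgroup.mul_mem _ ha hbA
    · intro a ha
      refine Subgroup.mem_inf.mpr ⟨hAW ha, ?_⟩
      rw [Subgroup.mem_centralizer_iff]
      intro x hx
      exact (Subgroup.mem_centralizer_iff.mp (hXA hx) a ha).symm
  refine ⟨h1, h2, ?_⟩
  apply le_antisymm
  · intro w hw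
    have hw1 : w ∈ ⁅V, L⁆ := (Subgroup.mem_inf.mp hw).1
    have hw2 : w ∈ Subgroup.centralizer (L : Set G) := (Subgroup.mem_inf.mp hw).2
    have hwA : w ∈ ⁅V, X⁆ := by
      rw [← h2]
      exact Subgroup.mem_inf.mpr ⟨hw1, Subgroup.centralizer_le hX hw2⟩
    refine Subgroup.mem_inf.mpr ⟨hwA, ?_⟩
    rw [hB, Lib.helper53.mem_conj_iff]
    have e : g⁻¹ * w * g = w := by
      have := Subgroup.mem_centralizer_iff.mp hw2 g hg
      calc g⁻¹ * w * g = g⁻¹ * (w * g) := by group
        _ = g⁻¹ * (g * w) := by rw [← this]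
        _ = w := by group
    rw [e]; exact hwA
  · intro w hw
    have hwA : w ∈ ⁅V, X⁆ := (Subgroup.mem_inf.mp hw).1
    have hwB : w ∈ ⁅V, X.map (MulAut.conj g).toMonoidHom⁆ := (Subgroup.mem_inf.mp hw).2
    refine Subgroup.mem_inf.mpr ⟨hAW hwA, ?_⟩
    rw [Subgroup.mem_centralizer_iff]
    intro l hl
    refine (hcent w ?_ ?_ l hl)
    · intro x hx
      exact (Subgroup.mem_centralizer_iff.mp (hXA hx) w hwA).symm
    · intro x hx
      exact (Subgroup.mem_centralizer_iff.mp (hX'B hx) w hwB).symm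

end Cfsg.Agent.S2833
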