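import Cfsg.Statements.S2835
import Cfsg.Agent.Lib.helper53.MinOver

set_option autoImplicit false
open Cfsg

namespace Cfsg.Agent.S2835

/-- Let L be a finite group, L₀ a maximal subgroup, T a Sylow p-subgroup of L₀ and Y ≤ T, and suppose L is Y-minimal (generated by the conjugates of Y, with Y in exactly one maximal subgroup, necessarily L₀). Then N_L(T) ≤ L₀, O_p(L) ≤ L₀ and T is a Sylow p-subgroup of L; N_L(L₀) = L₀; L = ⟨Y, gYg⁻¹⟩ for each g ∈ L outside L₀; and if Y is abelian then Y ∩ gYg⁻¹ = C_Y(L) for each such g. -/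
theorem result {L : Type*} [Group L] [Finite L] {p : ℕ} [Fact p.Prime] (L₀ : Subgroup L) (hL₀ : IsCoatom L₀) (T : Sylow p ↥L₀) (Y : Subgroup L) (hYT : Y ≤ (T : Subgroup ↥L₀).map L₀.subtype) (hmin : Cfsg.IsMinimalOver Y) : Subgroup.normalizer (((T : Subgroup ↥L₀).map L₀.subtype : Subgroup L) : Set L) ≤ L₀ ∧ Cfsg.pCore p L ≤ L₀ ∧ (∃ P : Sylow p L, (P : Subgroup L) = (T : Subgroup ↥L₀).map L₀.subtype) ∧ Subgroup.normalizer (L₀ : Set L) = L₀ ∧ (∀ g : L, g ∉ L₀ → Y ⊔ Y.map (MulAut.conj g).toMonoidHom = ⊤) ∧ (IsMulCommutative ↥Y → ∀ g : L, g ∉ L₀ → Y ⊓ Y.map (MulAut.conj g).toMonoidHom = Y ⊓ Subgroup.center L) := by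
  have hTL : (T : Subgroup L₀).map L₀.subtype ≤ L₀ := Subgroup.map_subtype_le _
  have hY : Y ≤ L₀ := hYT.trans hTL
  have hTp : IsPGroup p ((T : Subgroup L₀).map L₀.subtype) := T.2.map _
  have hYp : IsPGroup p Y := hTp.to_le hYT
  refine ⟨Lib.helper53.minOver_normalizer_le hmin hL₀ hY hYT hTL,
    Lib.helper53.minOver_pCore_le hmin hL₀ hY hYp,
    Lib.helper53.minOver_sylow hmin hL₀ T hYT,
    Lib.helper53.minOver_normalizer_coatom hmin hL₀ hY,
    fun g hg => Lib.helper53.minOver_sup_conj_eq_top hmin hL₀ hY hg, ?_⟩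
  intro hc g hg
  apply Lib.helper53.minOver_inf_conj hmin hL₀ hY _ hg
  intro a ha b hb
  have := hc.is_comm.comm (⟨a, ha⟩ : Y) ⟨b, hb⟩
  exact congrArg Subtype.val this

end Cfsg.Agent.S2835
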