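import Cfsg.Statements.S2836
import Cfsg.Agent.Lib.helper53.MinOver
import Cfsg.Agent.Lib.helper53.Quot
import Cfsg.Agent.Lib.helper53.SylowExtra

set_option autoImplicit false
open Cfsg

namespace Cfsg.Agent.S2836

open Cfsg.Agent.Lib.helper53

/-- Let L be a finite group, L₀ a maximal subgroup, T a Sylow p-subgroup of L₀, Y ≤ T, and suppose L is Y-minimal. Let D be the intersection of the conjugates of L₀ (the core of L₀). Then D contains O_p(L) and D/O_p(L) is the Frattini subgroup of L/O_p(L), so D is p-closed; and every normal subgroup N of L contained in L₀ is p-closed with N/O_p(N) a nilpotent group of order prime to p. -/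
theorem result {L : Type*} [Group L] [Finite L] {p : ℕ} [Fact p.Prime] (L₀ : Subgroup L) (hL₀ : IsCoatom L₀) (T : Sylow p ↥L₀) (Y : Subgroup L) (hYT : Y ≤ (T : Subgroup ↥L₀).map L₀.subtype) (hmin : Cfsg.IsMinimalOver Y) : (Cfsg.pCore p L ≤ L₀.normalCore ∧ (L₀.normalCore).map (QuotientGroup.mk' (Cfsg.pCore p L)) = frattini (L ⧸ Cfsg.pCore p L) ∧ Cfsg.IsPClosed p ↥(L₀.normalCore)) ∧ ∀ (N : Subgroup L) [N.Normal], N ≤ L₀ → Cfsg.IsPClosed p ↥N ∧ Group.IsNilpotent (↥N ⧸ Cfsg.pCore p ↥N) ∧ (Nat.card (↥N ⧸ Cfsg.pCore p ↥N)).Coprime p := by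
  classical
  have hTL : (T : Subgroup L₀).map L₀.subtype ≤ L₀ := Subgroup.map_subtype_le _
  have hY : Y ≤ L₀ := hYT.trans hTL
  have hTp : IsPGroup p ((T : Subgroup L₀).map L₀.subtype) := T.2.map _
  have hYp : IsPGroup p Y := hTp.to_le hYT
  have hO : Cfsg.pCore p L ≤ L₀ := minOver_pCore_le hmin hL₀ hY hYp
  obtain ⟨TL, hTLe⟩ := minOver_sylow hmin hL₀ T hYT
  have hYTL : Y ≤ (TL : Subgroup L) := hTLe ▸ hYT
  have hsurj := QuotientGroup.mk'_surjective (Cfsg.pCore p L)
  -- every normal subgroup inside L₀ is p-closed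
  have claimP : ∀ (N : Subgroup L) [N.Normal], N ≤ L₀ → Cfsg.IsPClosed p ↥N := by
    intro N hN hNL
    apply isPClosed_of_inf_normal TL N
    suffices h : ((TL : Subgroup L) ⊓ N).Normal from h.subgroupOf N
    rw [← Subgroup.normalizer_eq_top_iff]
    by_contra hne
    have h1 := minOver_le_of_ne_top hmin hL₀ hY
      (hYTL.trans (le_normalizer_inf_of_normal (TL : Subgroup L) N)) hne
    obtain ⟨Q, hQ⟩ := exists_sylow_eq_inf_normal TL N
    have hfr := Sylow.normalizer_sup_eq_top Q
    rw [hQ] at hfr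
    have h2 : (⊤ : Subgroup L) ≤ L₀ := by rw [← hfr]; exact sup_le h1 hNL
    exact hL₀.1 (top_le_iff.mp h2)
  have hOD : Cfsg.pCore p L ≤ L₀.normalCore := Subgroup.normal_le_normalCore.mpr hO
  have hDcl : Cfsg.IsPClosed p ↥(L₀.normalCore) := claimP L₀.normalCore (Subgroup.normalCore_le L₀)
  have hfrat : (L₀.normalCore).map (QuotientGroup.mk' (Cfsg.pCore p L)) =
      frattini (L ⧸ Cfsg.pCore p L) := by
    apply le_antisymm
    · unfold frattini Order.radical
      apply le_iInf₂
      intro Mb hMb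
      by_contra hnot
      have hMco : IsCoatom (Mb.comap (QuotientGroup.mk' (Cfsg.pCore p L))) :=
        Subgroup.isCoatom_comap_of_surjective hsurj hMb
      have hOM : Cfsg.pCore p L ≤ Mb.comap (QuotientGroup.mk' (Cfsg.pCore p L)) := le_comap_mk' _ _
      have hDM : ¬ L₀.normalCore ≤ Mb.comap (QuotientGroup.mk' (Cfsg.pCore p L)) :=
        fun h => hnot (Subgroup.map_le_iff_le_comap.mpr h)
      have hsup : L₀.normalCore ⊔ Mb.comap (QuotientGroup.mk' (Cfsg.pCore p L)) = ⊤ := by
        apply hMco.2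
        refine lt_of_le_of_ne le_sup_right (fun h => hDM ?_)
        rw [h]; exact le_sup_left
      have hidx : ¬ p ∣ (Mb.comap (QuotientGroup.mk' (Cfsg.pCore p L))).index := by
        rw [index_eq_relIndex_of_sup_eq_top hsup]
        intro hd
        have h1 : (Mb.comap (QuotientGroup.mk' (Cfsg.pCore p L))).relIndex L₀.normalCore ∣
            (Cfsg.pCore p L).relIndex L₀.normalCore := Subgroup.relIndex_dvd_of_le_left _ hOM
        have h2 : ¬ p ∣ (Cfsg.pCore p L).relIndex L₀.normalCore := by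
          have h3 := IsPClosed.not_dvd_index_pCore hDcl
          rw [pCore_subgroupOf_normal] at h3
          exact h3
        exact h2 (dvd_trans hd h1)
      obtain ⟨g, hg⟩ := exists_conj_sylow_le_of_not_dvd_index TL hidx
      have hYg : Y ≤ (Mb.comap (QuotientGroup.mk' (Cfsg.pCore p L))).map
          (MulAut.conj g⁻¹).toMonoidHom := by
        rw [le_conj_iff, inv_inv]; exact (conj_mono hYTL g).trans hg
      have hco : IsCoatom ((Mb.comap (QuotientGroup.mk' (Cfsg.pCore p L))).map
          (MulAut.conj g⁻¹).toMonoidHom) :=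
        (OrderIso.isCoatom_iff ((MulAut.conj g⁻¹).mapSubgroup) _).mpr hMco
      have heq := minOver_coatom_unique hmin hL₀ hY hco hYg
      apply hDM
      intro x hx
      have h5 : g⁻¹ * x * g⁻¹⁻¹ ∈ L₀ :=
        Subgroup.normalCore_le L₀ ((Subgroup.normalCore_normal L₀).conj_mem x hx g⁻¹)
      rw [← heq, mem_conj_iff] at h5
      have e : g⁻¹⁻¹ * (g⁻¹ * x * g⁻¹⁻¹) * g⁻¹ = x := by group
      rwa [e] at h5
    · have h1 : (frattini (L ⧸ Cfsg.pCore p L)).comap (QuotientGroup.mk' (Cfsg.pCore p L)) ≤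
          L₀.normalCore := by
        haveI : ((frattini (L ⧸ Cfsg.pCore p L)).comap
            (QuotientGroup.mk' (Cfsg.pCore p L))).Normal :=
          Subgroup.Normal.comap (Subgroup.normal_of_characteristic _) _
        rw [Subgroup.normal_le_normalCore]
        have h2 : frattini (L ⧸ Cfsg.pCore p L) ≤ L₀.map (QuotientGroup.mk' (Cfsg.pCore p L)) :=
          frattini_le_coatom (map_mk'_isCoatom hO hL₀)
        have h3 := Subgroup.comap_mono (f := QuotientGroup.mk' (Cfsg.pCore p L)) h2
        rw [comap_map_mk', sup_eq_left.mpr hO] at h3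
        exact h3
      have h4 := Subgroup.map_mono (f := QuotientGroup.mk' (Cfsg.pCore p L)) h1
      rwa [map_comap_mk'] at h4
  refine ⟨⟨hOD, hfrat, hDcl⟩, ?_⟩
  intro N hN hNL
  have hNcl := claimP N hNL
  refine ⟨hNcl, ?_, ?_⟩
  · have hND : N ≤ L₀.normalCore := Subgroup.normal_le_normalCore.mpr hNL
    let f : ↥N →* ↥(frattini (L ⧸ Cfsg.pCore p L)) :=
      ((QuotientGroup.mk' (Cfsg.pCore p L)).comp N.subtype).codRestrict
        (frattini (L ⧸ Cfsg.pCore p L)) (fun n => by
          rw [← hfrat]; exact ⟨n, hND n.2, rfl⟩)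
    have hker : Cfsg.pCore p ↥N = f.ker := by
      rw [pCore_subgroupOf_normal]
      ext n
      rw [Subgroup.mem_subgroupOf, MonoidHom.mem_ker]
      constructor
      · intro h
        apply Subtype.ext
        exact (QuotientGroup.eq_one_iff _).mpr h
      · intro h
        have h6 := congrArg Subtype.val h
        exact (QuotientGroup.eq_one_iff _).mp h6
    haveI : Group.IsNilpotent ↥(frattini (L ⧸ Cfsg.pCore p L)) := frattini_nilpotent
    have e1 : ↥N ⧸ f.ker ≃* f.range := QuotientGroup.quotientKerEquivRange f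
    haveI : Group.IsNilpotent (↥N ⧸ f.ker) := Group.nilpotent_of_mulEquiv e1.symm
    exact Group.nilpotent_of_mulEquiv (QuotientGroup.quotientMulEquivOfEq hker).symm
  · have h3 := IsPClosed.not_dvd_index_pCore hNcl
    rw [Subgroup.index_eq_card] at h3
    exact (Nat.Coprime.symm ((Nat.Prime.coprime_iff_not_dvd Fact.out).mpr h3))

end Cfsg.Agent.S2836
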