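import Cfsg.Statements.S2847
import Cfsg.Agent.Lib.helper52.BasicProp

set_option autoImplicit false
open Cfsg

namespace Cfsg.Agent.S2847

/-- Let H be a finite group of parabolic characteristic p, T a Sylow p-subgroup and L a subgroup containing T with O_p(L) ≠ 1 and C_H(O_p(L)) ≤ O_p(L). Then there are M ≥ T with the basic property (M ∈ 𝔐_H) and L* with T ≤ L* ≤ M, O_p(L*) ≠ 1, C_H(O_p(L*)) ≤ O_p(L*), such that Y_L = Y_{L*} ≤ Y_M and L·C_H(Y_L) = L*·C_H(Y_L), Y denoting largest p-reduced normal subgroups. -/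
theorem result {H : Type*} [Group H] [Finite H] {p : ℕ} [Fact p.Prime] (hH : Cfsg.IsOfParabolicCharacteristic p H) (T : Sylow p H) (L : Subgroup H) (hTL : (T : Subgroup H) ≤ L) (hL : L ∈ Cfsg.charPSubgroups p H) : ∃ M Ls : Subgroup H, (T : Subgroup H) ≤ M ∧ Cfsg.IsInFrakM p M ∧ (T : Subgroup H) ≤ Ls ∧ Ls ≤ M ∧ Ls ∈ Cfsg.charPSubgroups p H ∧ (Cfsg.largestPReducedOf p L) = (Cfsg.largestPReducedOf p Ls) ∧ (Cfsg.largestPReducedOf p L) ≤ (Cfsg.largestPReducedOf p M) ∧ L ⊔ Subgroup.centralizer (((Cfsg.largestPReducedOf p L) : Subgroup H) : Set H) = Ls ⊔ Subgroup.centralizer (((Cfsg.largestPReducedOf p L) : Subgroup H) : Set H) := by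
  have hpar : ∀ R : Subgroup H, IsPGroup p R → R ≠ ⊥ →
      (T : Subgroup H) ≤ Subgroup.normalizer (R : Set H) →
      Subgroup.normalizer (R : Set H) ∈ Cfsg.charPSubgroups p H := by
    intro R hRp hR1 hTR
    have hint := hH R hRp hR1 ⟨T, hTR⟩
    rw [Cfsg.Agent.Lib.helper53.mem_charPSubgroups_iff]
    refine ⟨Cfsg.Agent.Lib.helper53.pCoreOf_normalizer_ne_bot hRp hR1, ?_⟩
    intro x hx
    have hRO : R ≤ Cfsg.pCoreOf p (Subgroup.normalizer (R : Set H)) :=
      Cfsg.Agent.Lib.helper53.le_pCoreOf Subgroup.le_normalizer le_rfl hRp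
    have hxN : x ∈ Subgroup.normalizer (R : Set H) :=
      Subgroup.centralizer_le_normalizer _
        (Subgroup.centralizer_le (SetLike.coe_subset_coe.mpr hRO) hx)
    have h1 : (⟨x, hxN⟩ : ↥(Subgroup.normalizer (R : Set H))) ∈ Subgroup.centralizer
        (Cfsg.pCore p ↥(Subgroup.normalizer (R : Set H)) :
          Set ↥(Subgroup.normalizer (R : Set H))) := by
      rw [Subgroup.mem_centralizer_iff]
      intro y hy
      have h2 := Subgroup.mem_centralizer_iff.mp hx (y : H) (Subgroup.mem_map_of_mem _ hy)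
      exact Subtype.ext h2
    exact ⟨⟨x, hxN⟩, hint h1, rfl⟩
  exact Cfsg.Agent.Lib.helper52.exists_frakM T hpar L hTL hL

end Cfsg.Agent.S2847
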