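import Cfsg.Statements.S2850
import Cfsg.Agent.Lib.helper53.FrakM2

set_option autoImplicit false
open Cfsg

namespace Cfsg.Agent.S2850

/-- Standing hypotheses: G a finite group, S a Sylow p-subgroup, Q a nontrivial large p-subgroup of G contained in S (C_G(Q) ≤ Q and N_G(U) ≤ N_G(Q) for all nontrivial U ≤ C_G(Q)), and M a subgroup containing S with the basic property (M ∈ 𝔐_G(S)); Y_M denotes the largest p-reduced normal subgroup of M and M† = M·C_G(Y_M). Suppose Y_M is asymmetric in G. Then N_G(L) ≤ N_G(O_p(M)) ≤ M† for every p-subgroup L containing O_p(M); O_p(M) is a weakly closed subgroup of G; for every subgroup L containing O_p(M), L ∩ M† contains a Sylow p-subgroup of L; and two elements of Y_M conjugate in G are conjugate in M. -/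
theorem result {G : Type*} [Group G] [Finite G] {p : ℕ} [Fact p.Prime] (S : Sylow p G) (Q : Subgroup G) (hQp : IsPGroup p ↥Q) (hQ1 : Q ≠ ⊥) (hQS : Q ≤ (S : Subgroup G)) (hQ : Cfsg.IsLarge Q) (M : Subgroup G) (hSM : (S : Subgroup G) ≤ M) (hM : Cfsg.IsInFrakM p M) (hasym : ¬ Cfsg.IsSymmetricIn (Cfsg.largestPReducedOf p M)) : (∀ L : Subgroup G, IsPGroup p ↥L → (Cfsg.pCoreOf p M) ≤ L → Subgroup.normalizer ((L : Subgroup G) : Set G) ≤ Subgroup.normalizer (((Cfsg.pCoreOf p M) : Subgroup G) : Set G) ∧ Subgroup.normalizer (((Cfsg.pCoreOf p M) : Subgroup G) : Set G) ≤ (M ⊔ Subgroup.centralizer (((Cfsg.largestPReducedOf p M) : Subgroup G) : Set G))) ∧ Cfsg.IsWeaklyClosedSubgroup p (Cfsg.pCoreOf p M) ∧ (∀ L : Subgroup G, (Cfsg.pCoreOf p M) ≤ L → Cfsg.IsParabolic p ((L ⊓ (M ⊔ Subgroup.centralizer (((Cfsg.largestPReducedOf p M) : Subgroup G) : Set G))).subgroupOf L)) ∧ (∀ x ∈ (Cfsg.largestPReducedOf p M), ∀ g : G, g * x * g⁻¹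 ∈ (Cfsg.largestPReducedOf p M) → ∃ m ∈ M, m * x * m⁻¹ = g * x * g⁻¹) := by
  refine ⟨?_, ?_, ?_, ?_⟩
  · intro L hLp hPL
    exact ⟨((Cfsg.Agent.Lib.helper53.frakM_normalizer_le S hQp hQ hSM hM hasym hLp hPL).2).trans
      inf_le_right, Cfsg.Agent.Lib.helper53.frakM_normalizer_pCoreOf_le hM⟩
  · exact Cfsg.Agent.Lib.helper53.frakM_pCoreOf_wc S hQp hQ hSM hM hasym
  · intro L hPL
    obtain ⟨T, -, -, hT⟩ :=
      Cfsg.Agent.Lib.helper53.frakM_exists_sylow_le S hQp hQ hSM hM hasym hPL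
    refine ⟨T, ?_⟩
    intro y hy
    rw [Subgroup.mem_subgroupOf]
    exact ⟨y.2, hT ⟨y, hy, rfl⟩⟩
  · intro x hx g hgx
    exact Cfsg.Agent.Lib.helper53.frakM_fusion S hQp hQ hSM hM hasym hx hgx

end Cfsg.Agent.S2850
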