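import Cfsg.Statements.S2854
import Cfsg.Agent.Lib.helper53.FrakH3

set_option autoImplicit false
open Cfsg

namespace Cfsg.Agent.S2854

/-- Standing hypotheses: G a finite group, S a Sylow p-subgroup, Q a nontrivial large p-subgroup of G contained in S, M a subgroup containing S with the basic property (M ∈ 𝔐_G(S)); Y_M the largest p-reduced normal subgroup of M and M† = M·C_G(Y_M). Suppose Y_M is asymmetric in G, H ∈ ℌ_G(O_p(M)), and H ≤ N_G(gQg⁻¹) for some g ∈ G. Then gQg⁻¹ ≤ O_p(H·gQg⁻¹) ≤ N_G(O_p(M)) ≤ N_G(Y_M) = M†; H is normal in H·gQg⁻¹ with O^p(H) = O^p(H·gQg⁻¹); and H·gQg⁻¹ is p-irreducible. -/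
theorem result {G : Type*} [Group G] [Finite G] {p : ℕ} [Fact p.Prime] (S : Sylow p G) (Q : Subgroup G) (hQp : IsPGroup p ↥Q) (hQ1 : Q ≠ ⊥) (hQS : Q ≤ (S : Subgroup G)) (hQ : Cfsg.IsLarge Q) (M : Subgroup G) (hSM : (S : Subgroup G) ≤ M) (hM : Cfsg.IsInFrakM p M) (hasym : ¬ Cfsg.IsSymmetricIn (Cfsg.largestPReducedOf p M)) (H : Subgroup G) (hH : Cfsg.IsInFrakH p M H) (g : G) (hHQ : H ≤ Subgroup.normalizer ((((Q : Subgroup G).map (MulAut.conj (g : G)).toMonoidHom) : Subgroup G) : Set G)) : ((Q : Subgroup G).map (MulAut.conj (g : G)).toMonoidHom) ≤ Cfsg.pCoreOf p (H ⊔ ((Q : Subgroup G).map (MulAut.conj (g : G)).toMonoidHom)) ∧ Cfsg.pCoreOf p (H ⊔ ((Q : Subgroup G).map (MulAut.conj (g : G)).toMonoidHom)) ≤ Subgroup.normalizer (((Cfsg.pCoreOf p M) : Subgroup G) : Set G) ∧ Subgroup.normalizer (((Cfsg.pCoreOf p M) : Subgroup G) : Set G) ≤ Subgroup.normalizer (((Cfsg.largestPReducedOf p M) : Subgroup G) : Set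 G) ∧ Subgroup.normalizer (((Cfsg.largestPReducedOf p M) : Subgroup G) : Set G) = (M ⊔ Subgroup.centralizer (((Cfsg.largestPReducedOf p M) : Subgroup G) : Set G)) ∧ (H.subgroupOf (H ⊔ ((Q : Subgroup G).map (MulAut.conj (g : G)).toMonoidHom))).Normal ∧ (Cfsg.pResidual p ↥H).map H.subtype = (Cfsg.pResidual p ↥(H ⊔ ((Q : Subgroup G).map (MulAut.conj (g : G)).toMonoidHom))).map (H ⊔ ((Q : Subgroup G).map (MulAut.conj (g : G)).toMonoidHom)).subtype ∧ Cfsg.IsPIrreducible p ↥(H ⊔ ((Q : Subgroup G).map (MulAut.conj (g : G)).toMonoidHom)) := by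
  have hQgp : IsPGroup p ((Q : Subgroup G).map (MulAut.conj (g : G)).toMonoidHom) :=
    Cfsg.Agent.Lib.helper53.isPGroup_conj hQp g
  refine ⟨?_, ?_, ?_, ?_, ?_, ?_, ?_⟩
  · exact Cfsg.Agent.Lib.helper53.le_pCoreOf le_sup_right (sup_le hHQ Subgroup.le_normalizer) hQgp
  · exact (Cfsg.Agent.Lib.helper53.frakH_pCoreOf_le S hQp hQ hSM hM hasym
      (hH.2.1.trans le_sup_left)).trans inf_le_left
  · exact ((Cfsg.Agent.Lib.helper53.frakM_normalizer_le S hQp hQ hSM hM hasym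
      (Cfsg.Agent.Lib.helper53.pCoreOf_isPGroup p M) le_rfl).2).trans inf_le_left
  · exact Cfsg.Agent.Lib.helper53.frakM_normalizer_largestPReducedOf_eq S hQp hQ hSM hM
  · exact (Subgroup.normal_subgroupOf_iff_le_normalizer le_sup_left).mpr
      (Cfsg.Agent.Lib.helper53.frakH_sup_le_normalizer S hQp hQ hSM hM hasym hH hQgp hHQ)
  · exact Cfsg.Agent.Lib.helper53.frakH_sup_map_pResidual S hQp hQ hSM hM hasym hH hQgp hHQ
  · exact Cfsg.Agent.Lib.helper53.frakH_sup_isPIrreducible S hQp hQ hSM hM hasym hH hQgp hHQ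

end Cfsg.Agent.S2854
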