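import Cfsg.Statements.S2872
import Cfsg.Agent.Lib.helper53.TransferTwo

set_option autoImplicit false
open Cfsg

namespace Cfsg.Agent.S2872

/-- Let S be a Sylow 2-subgroup of the finite group G. Then G has a proper normal subgroup of 2-power index (O²(G) ≠ G), or Ω₁(Z(S)) is contained in the Frattini subgroup of S, or N_G(S) acts nontrivially on Ω₁(Z(S)) by conjugation. -/
theorem result {G : Type*} [Group G] [Finite G] (S : Sylow 2 G) : Cfsg.pResidual 2 G ≠ ⊤ ∨ Cfsg.omegaOne 2 ((S : Subgroup G) ⊓ Subgroup.centralizer ((S : Subgroup G) : Set G)) ≤ (frattini ↥(S : Subgroup G)).map (S : Subgroup G).subtype ∨ ∃ g ∈ Subgroup.normalizer ((S : Subgroup G) : Set G), ∃ z ∈ Cfsg.omegaOne 2 ((S : Subgroup G) ⊓ Subgroup.centralizer ((S : Subgroup G) : Set G)), g * z * g⁻¹ ≠ z := by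
  classical
  haveI : Fact (Nat.Prime 2) := ⟨Nat.prime_two⟩
  by_contra hcon
  push_neg at hcon
  obtain ⟨h1, h2, h3⟩ := hcon
  apply h2
  unfold Cfsg.omegaOne
  rw [Subgroup.closure_le]
  rintro z ⟨hzZ, hz2⟩
  have hzS : z ∈ (S : Subgroup G) := hzZ.1
  have hzC : z ∈ Subgroup.centralizer ((S : Subgroup G) : Set G) := hzZ.2
  by_contra hzF
  have hzF' : (⟨z, hzS⟩ : (S : Subgroup G)) ∉ frattini (S : Subgroup G) := fun h => hzF ⟨_, h, rfl⟩
  obtain ⟨M, hM, hzM⟩ : ∃ M : Subgroup (S : Subgroup G), IsCoatom M ∧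
      (⟨z, hzS⟩ : (S : Subgroup G)) ∉ M := by
    by_contra hno
    push_neg at hno
    apply hzF'
    unfold frattini Order.radical
    simp only [Subgroup.mem_iInf]
    intro M hM
    exact hno M hM
  haveI : Group.IsNilpotent (S : Subgroup G) := S.2.isNilpotent
  haveI hMn : M.Normal :=
    Subgroup.NormalizerCondition.normal_of_coatom M Group.normalizerCondition_of_isNilpotent hM
  have hQ2 : IsPGroup 2 ((S : Subgroup G) ⧸ M) := S.2.to_quotient M
  have hexp : ∀ a : (S : Subgroup G) ⧸ M, a ^ 2 = 1 := by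
    intro a
    by_contra ha
    have hMK : M ≤ (Subgroup.zpowers (a ^ 2)).comap (QuotientGroup.mk' M) := by
      intro m hm
      rw [Subgroup.mem_comap]
      have : (QuotientGroup.mk' M) m = 1 := (QuotientGroup.eq_one_iff m).mpr hm
      rw [this]; exact Subgroup.one_mem _
    obtain ⟨s, rfl⟩ := QuotientGroup.mk_surjective a
    rcases hM.le_iff.mp hMK with h | h
    · have hs : s ∈ (Subgroup.zpowers ((s : (S : Subgroup G) ⧸ M) ^ 2)).comap (QuotientGroup.mk' M) := by
        rw [h]; trivial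
      rw [Subgroup.mem_comap] at hs
      obtain ⟨m, hm⟩ := Subgroup.mem_zpowers_iff.mp hs
      have hm' : ((s : (S : Subgroup G) ⧸ M)) ^ (2 * m - 1) = 1 := by
        have e1 : ((s : (S : Subgroup G) ⧸ M) ^ 2) ^ m = (s : (S : Subgroup G) ⧸ M) ^ (2 * m) := by
          rw [← zpow_natCast, ← zpow_mul]; rfl
        rw [e1] at hm
        rw [zpow_sub_one, hm]
        exact mul_inv_cancel _
      obtain ⟨k, hk⟩ := hQ2 (s : (S : Subgroup G) ⧸ M)
      have hd1 : (orderOf (s : (S : Subgroup G) ⧸ M) : ℤ) ∣ 2 * m - 1 :=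
        orderOf_dvd_iff_zpow_eq_one.mpr hm'
      have hd2 : orderOf (s : (S : Subgroup G) ⧸ M) ∣ 2 ^ k := orderOf_dvd_of_pow_eq_one hk
      obtain ⟨j, -, hj⟩ := (Nat.dvd_prime_pow Nat.prime_two).mp hd2
      rcases Nat.eq_zero_or_pos j with hj0 | hj0
      · rw [hj0, pow_zero, orderOf_eq_one_iff] at hj
        apply ha
        rw [hj]; exact one_pow 2
      · have h2d : (2 : ℤ) ∣ (orderOf (s : (S : Subgroup G) ⧸ M) : ℤ) := by
          rw [hj]
          exact_mod_cast dvd_pow_self 2 (by omega : j ≠ 0)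
        have := dvd_trans h2d hd1
        omega
    · have hs : s ^ 2 ∈ (Subgroup.zpowers ((s : (S : Subgroup G) ⧸ M) ^ 2)).comap
          (QuotientGroup.mk' M) := by
        rw [Subgroup.mem_comap]
        exact Subgroup.mem_zpowers _
      rw [h] at hs
      apply ha
      exact (QuotientGroup.eq_one_iff _).mpr hs
  letI : CommGroup ((S : Subgroup G) ⧸ M) :=
    { (inferInstance : Group ((S : Subgroup G) ⧸ M)) with
      mul_comm := fun a b => by
        have hab := hexp (a * b)
        have ha := hexp a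
        have hb := hexp b
        rw [pow_two] at hab ha hb
        calc a * b = a * (a * b * (a * b)) * b := by rw [hab, mul_one]
          _ = (a * a) * b * a * (b * b) := by group
          _ = b * a := by rw [ha, hb, one_mul, mul_one] }
  have hV := Lib.helper53.transfer_central_involution S hexp (QuotientGroup.mk' M) z hzS hz2
    (fun s hs => Subgroup.mem_centralizer_iff.mp hzC s hs)
    (fun n hn => h3 n hn z (Subgroup.subset_closure ⟨hzZ, hz2⟩))
  have hker : Cfsg.pResidual 2 G ≤ (MonoidHom.transfer (QuotientGroup.mk' M)).ker := by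
    unfold Cfsg.pResidual
    rw [Subgroup.closure_le]
    intro g hg
    rw [SetLike.mem_coe, MonoidHom.mem_ker]
    have e1 : (MonoidHom.transfer (QuotientGroup.mk' M) g) ^ 2 = 1 := hexp _
    have e2 : (MonoidHom.transfer (QuotientGroup.mk' M) g) ^ orderOf g = 1 := by
      rw [← map_pow, pow_orderOf_eq_one, map_one]
    have e3 := Nat.dvd_gcd (orderOf_dvd_of_pow_eq_one e2) (orderOf_dvd_of_pow_eq_one e1)
    have e4 : Nat.gcd (orderOf g) 2 = 1 := hg
    rw [e4, Nat.dvd_one] at e3
    exact orderOf_eq_one_iff.mp e3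
  have hz1 : z ∈ (MonoidHom.transfer (QuotientGroup.mk' M)).ker := hker (h1 ▸ Subgroup.mem_top z)
  rw [MonoidHom.mem_ker, hV] at hz1
  exact hzM ((QuotientGroup.eq_one_iff _).mp hz1)

end Cfsg.Agent.S2872
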