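import Cfsg.Statements.S2873
import Mathlib
-- import your own Cfsg.Agent.* helpers here

set_option autoImplicit false
open Cfsg

namespace Cfsg.Agent.S2873


open DihedralGroup

section dih
variable {l : ℕ} [hl : Fact l.Prime]

theorem two_ne_zero_zmod (hl2 : l ≠ 2) : (2 : ZMod l) ≠ 0 := by
  intro h
  have h2 : ((2 : ℕ) : ZMod l) = 0 := by exact_mod_cast h
  rw [ZMod.natCast_eq_zero_iff] at h2
  have := (Nat.prime_dvd_prime_iff_eq hl.out Nat.prime_two).1 h2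
  exact hl2 this

theorem odd_of_ne_two (hl2 : l ≠ 2) : Odd l := hl.out.odd_of_ne_two hl2

/-- an involution of the dihedral group of odd prime degree is a reflection -/
theorem dih_invol (hl2 : l ≠ 2) (d : DihedralGroup l) (h1 : d ≠ 1) (h2 : d * d = 1) :
    ∃ i, d = sr i := by
  rcases d with j | i
  · exfalso
    rw [r_mul_r, one_def] at h2
    have h3 : j + j = 0 := r.inj h2
    have h4 : (2 : ZMod l) * j = 0 := by rw [two_mul]; exact h3
    rcases mul_eq_zero.1 h4 with h5 | h5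
    · exact two_ne_zero_zmod hl2 h5
    · exact h1 (by rw [h5]; rfl)
  · exact ⟨i, rfl⟩

omit hl in
theorem sr_pow_odd (i : ZMod l) {m : ℕ} (hm : Odd m) : (sr i : DihedralGroup l) ^ m = sr i := by
  obtain ⟨k, rfl⟩ := hm
  rw [pow_succ, pow_mul, pow_two, sr_mul_self, one_pow, one_mul]

/-- an element of the dihedral group of odd prime degree killed by `l` is a rotation -/
theorem dih_rot (hl2 : l ≠ 2) (d : DihedralGroup l) (h : d ^ l = 1) : ∃ j, d = r j := by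
  rcases d with j | i
  · exact ⟨j, rfl⟩
  · exfalso
    rw [sr_pow_odd i (odd_of_ne_two hl2), one_def] at h
    cases h

theorem dih_conj (hl2 : l ≠ 2) (i i₁ : ZMod l) :
    ∃ k : ZMod l, (r k) * sr i₁ * (r k)⁻¹ = sr i := by
  refine ⟨(i₁ - i) / 2, ?_⟩
  have h2 := two_ne_zero_zmod hl2
  rw [inv_r, r_mul_sr, sr_mul_r]
  congr 1
  field_simp
  ring

end dih

section cores
variable {G : Type*} [Group G] [Finite G]

theorem pCore_isPGroup' (p : ℕ) [Fact p.Prime] : IsPGroup p ↥(Cfsg.pCore p G) := by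
  obtain ⟨P⟩ : Nonempty (Sylow p G) := inferInstance
  have hle : Cfsg.pCore p G ≤ (P : Subgroup G) := by
    apply sSup_le
    rintro N ⟨hN, hNp⟩
    obtain ⟨P', hP'⟩ := hNp.exists_le_sylow
    obtain ⟨g, hg⟩ := MulAction.exists_smul_eq G P' P
    intro y hy
    rw [← hg, Sylow.coe_subgroup_smul, Subgroup.mem_pointwise_smul_iff_inv_smul_mem]
    apply hP'
    have := hN.conj_mem y hy g⁻¹
    simpa [MulAut.smul_def] using this
  exact P.isPGroup'.to_le hle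

end cores

section main
variable {G : Type*} [Group G] [Finite G] {l : ℕ} [hl : Fact l.Prime]

/-- the rotation subgroup -/
def rot (l : ℕ) : Subgroup (DihedralGroup l) where
  carrier := {d | ∃ j, d = r j}
  mul_mem' := by
    rintro _ _ ⟨i, rfl⟩ ⟨j, rfl⟩
    exact ⟨i + j, r_mul_r i j⟩
  one_mem' := ⟨0, rfl⟩
  inv_mem' := by
    rintro _ ⟨i, rfl⟩
    exact ⟨-i, inv_r i⟩

instance rot_normal (l : ℕ) : (rot l).Normal := by
  constructor
  rintro _ ⟨j, rfl⟩ g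
  rcases g with i | i
  · exact ⟨j, by rw [inv_r, r_mul_r, r_mul_r]; congr 1; ring⟩
  · exact ⟨-j, by rw [inv_sr, sr_mul_r, sr_mul_sr]; congr 1; ring⟩

theorem sr_pow_two_pow_ne (i : ZMod l) (hl2 : l ≠ 2) (k : ℕ) : (sr i : DihedralGroup l) ^ l ^ k ≠ 1 := by
  rw [sr_pow_odd i ((odd_of_ne_two hl2).pow), one_def]
  intro h; cases h

theorem mem_normalizer_zpowers_of_inv {u c : G} (hu : u * u = 1) (h : u * c * u⁻¹ = c⁻¹) :
    u ∈ Subgroup.normalizer ((Subgroup.zpowers c : Subgroup G) : Set G) := by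
  have huinv : u⁻¹ = u := inv_eq_of_mul_eq_one_left hu
  have key : ∀ y, y ∈ Subgroup.zpowers c → u * y * u⁻¹ ∈ Subgroup.zpowers c := by
    rintro _ ⟨i, rfl⟩
    have h1 : u * c ^ i * u⁻¹ = (c⁻¹) ^ i := by rw [← h, conj_zpow]
    show u * c ^ i * u⁻¹ ∈ Subgroup.zpowers c
    rw [h1]
    exact Subgroup.zpow_mem _ (Subgroup.inv_mem _ (Subgroup.mem_zpowers c)) i
  rw [Subgroup.mem_normalizer_iff]
  intro y
  constructor
  · exact key y
  · intro hy
    have := key _ hy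
    have h2 : u * (u * y * u⁻¹) * u⁻¹ = y := by
      rw [huinv]
      calc u * (u * y * u) * u = (u * u) * y * (u * u) := by group
        _ = y := by rw [hu, one_mul, mul_one]
    rw [h2] at this
    exact this

variable (hl2 : l ≠ 2) (Q : Subgroup G) [hQn : Q.Normal] (hQ2 : IsPGroup 2 Q)
  (φ : G →* DihedralGroup l) (hφ : Function.Surjective φ) (hker : ∀ g, φ g = 1 ↔ g ∈ Q)
  (R : Sylow l G) (hC : Q ⊓ Subgroup.centralizer ((R : Subgroup G) : Set G) = ⊥)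

include hl2 hQ2 in
theorem R_inf_Q {y : G} (hyR : y ∈ (R : Subgroup G)) (hyQ : y ∈ Q) : y = 1 := by
  have hd : Disjoint (R : Subgroup G) Q :=
    IsPGroup.disjoint_of_ne l 2 hl2 _ _ R.isPGroup' hQ2
  exact Subgroup.disjoint_def.1 hd hyR hyQ

include hl2 hQ2 hC in
theorem N_inf_Q {q : G} (hqN : q ∈ Subgroup.normalizer ((R : Subgroup G) : Set G)) (hqQ : q ∈ Q) :
    q = 1 := by
  have hcen : q ∈ Subgroup.centralizer ((R : Subgroup G) : Set G) := by
    rw [Subgroup.mem_centralizer_iff]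
    intro y hy
    have h1 : q * y * q⁻¹ ∈ (R : Subgroup G) := (Subgroup.mem_normalizer_iff.1 hqN y).1 hy
    have h2 : q * y * q⁻¹ * y⁻¹ ∈ (R : Subgroup G) := Subgroup.mul_mem _ h1 (Subgroup.inv_mem _ hy)
    have h3 : q * y * q⁻¹ * y⁻¹ ∈ Q := by
      have : y * q⁻¹ * y⁻¹ ∈ Q := hQn.conj_mem _ (Q.inv_mem hqQ) y
      have := Q.mul_mem hqQ this
      simpa [mul_assoc] using this
    have h4 := R_inf_Q hl2 Q hQ2 R h2 h3
    have h5 : q * y = y * q := by
      have : q * y * q⁻¹ * y⁻¹ * (y * q) = y * q := by rw [h4, one_mul]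
      rw [← this]; group
    exact h5.symm
  have : q ∈ Q ⊓ Subgroup.centralizer ((R : Subgroup G) : Set G) := ⟨hqQ, hcen⟩
  rw [hC, Subgroup.mem_bot] at this
  exact this

include hl2 hQ2 hker hC in
theorem inj_N {n n' : G} (hn : n ∈ Subgroup.normalizer ((R : Subgroup G) : Set G))
    (hn' : n' ∈ Subgroup.normalizer ((R : Subgroup G) : Set G)) (h : φ n = φ n') : n = n' := by
  have h1 : n⁻¹ * n' ∈ Q := by
    rw [← hker, map_mul, map_inv, h, inv_mul_cancel]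
  have h2 := N_inf_Q hl2 Q hQ2 R hC (Subgroup.mul_mem _ (Subgroup.inv_mem _ hn) hn') h1
  exact (inv_mul_eq_one.1 h2)

include hl2 in
theorem phi_R_rot {y : G} (hy : y ∈ (R : Subgroup G)) : ∃ j, φ y = r j := by
  obtain ⟨k, hk⟩ := R.isPGroup' ⟨y, hy⟩
  have hk' : y ^ l ^ k = 1 := by simpa using congrArg Subtype.val hk
  have h1 : φ y ^ l ^ k = 1 := by rw [← map_pow, hk', map_one]
  rcases hd : φ y with j | i
  · exact ⟨j, rfl⟩
  · exfalso
    rw [hd] at h1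
    exact sr_pow_two_pow_ne i hl2 k h1

include hl2 hQ2 hφ hker in
theorem exists_x : ∃ x ∈ (R : Subgroup G), ∃ j : ZMod l, j ≠ 0 ∧ φ x = r j := by
  have hdvd : l ∣ Nat.card G := by
    have h1 := Subgroup.card_dvd_of_surjective φ hφ
    rw [DihedralGroup.nat_card] at h1
    exact (dvd_mul_left l 2).trans h1
  have hne := R.ne_bot_of_dvd_card hdvd
  obtain ⟨⟨x, hx⟩, hx1'⟩ := Subgroup.ne_bot_iff_exists_ne_one.1 hne
  have hx1 : x ≠ 1 := fun h => hx1' (Subtype.ext h)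
  obtain ⟨j, hj⟩ := phi_R_rot hl2 φ R hx
  refine ⟨x, hx, j, ?_, hj⟩
  rintro rfl
  have : φ x = 1 := hj
  rw [hker] at this
  exact hx1 (R_inf_Q hl2 Q hQ2 R hx this)

include hl2 hQ2 hφ hker in
theorem surj_N (d : DihedralGroup l) :
    ∃ n ∈ Subgroup.normalizer ((R : Subgroup G) : Set G), φ n = d := by
  have hRK : (R : Subgroup G) ≤ (rot l).comap φ := by
    intro y hy
    exact phi_R_rot hl2 φ R hy
  have hfr := Sylow.normalizer_sup_eq_top (R.subtype hRK)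
  have hmap : ((R.subtype hRK : Sylow l ↥((rot l).comap φ)) : Subgroup ↥((rot l).comap φ)).map
      ((rot l).comap φ).subtype = (R : Subgroup G) := by
    rw [Sylow.coe_subtype, Subgroup.subgroupOf_map_subtype]
    exact inf_eq_left.2 hRK
  rw [hmap] at hfr
  obtain ⟨g, rfl⟩ := hφ d
  have hg : g ∈ Subgroup.normalizer ((R : Subgroup G) : Set G) ⊔ (rot l).comap φ := by
    rw [hfr]; trivial
  obtain ⟨n, hn, k, hk, rfl⟩ := Subgroup.mem_sup_of_normal_right.1 hg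
  obtain ⟨j, hj⟩ : ∃ j, φ k = r j := hk
  obtain ⟨x, hx, j₀, hj₀, hxj⟩ := exists_x hl2 Q hQ2 φ hφ hker R
  refine ⟨n * x ^ (j / j₀).val, ?_, ?_⟩
  · exact Subgroup.mul_mem _ hn (Subgroup.le_normalizer (Subgroup.pow_mem _ hx _))
  · rw [map_mul, map_mul, map_pow, hxj, hj, r_pow]
    congr 2
    rw [ZMod.natCast_zmod_val]
    field_simp

include hl2 hQ2 hφ hker in
theorem card_R : Nat.card (R : Subgroup G) = l := by
  obtain ⟨n, hn⟩ := R.isPGroup'.exists_card_eq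
  have hinj : Function.Injective (φ.comp (R : Subgroup G).subtype) := by
    rw [injective_iff_map_eq_one]
    intro y hy
    have : (y : G) ∈ Q := (hker _).1 hy
    exact Subtype.ext (R_inf_Q hl2 Q hQ2 R y.2 this)
  have hdvd := Subgroup.card_dvd_of_injective _ hinj
  rw [DihedralGroup.nat_card, hn] at hdvd
  have hn1 : n ≠ 0 := by
    rintro rfl
    obtain ⟨x, hx, j, hj, hxj⟩ := exists_x hl2 Q hQ2 φ hφ hker R
    have : (R : Subgroup G) = ⊥ := Subgroup.card_eq_one.1 (by simpa using hn)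
    rw [this, Subgroup.mem_bot] at hx
    subst hx
    rw [map_one, one_def] at hxj
    exact hj (r.inj hxj).symm
  have hn2 : n < 2 := by
    by_contra hcon
    push Not at hcon
    have h1 : l ^ 2 ∣ 2 * l := (pow_dvd_pow l hcon).trans hdvd
    have h2 : l ∣ 2 := by
      have : l * l ∣ 2 * l := by rwa [pow_two] at h1
      exact Nat.dvd_of_mul_dvd_mul_right hl.out.pos this
    have := (Nat.prime_dvd_prime_iff_eq hl.out Nat.prime_two).1 h2
    exact hl2 this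
  have : n = 1 := by omega
  rw [hn, this, pow_one]

include hl2 hQ2 hφ hker in
theorem key {u v : G} (hu : u * u = 1) (hv : v * v = 1) {m : ZMod l} (hm : m ≠ 0)
    (huv : φ (u * v) = r m) :
    ∃ q₀ ∈ Q, q₀⁻¹ * u * q₀ ∈ Subgroup.normalizer ((R : Subgroup G) : Set G) ∧
      q₀⁻¹ * v * q₀ ∈ Subgroup.normalizer ((R : Subgroup G) : Set G) := by
  have hcl : (u * v) ^ l ∈ Q := by
    rw [← hker, map_pow, huv, r_pow, ZMod.natCast_self, mul_zero]; rfl
  obtain ⟨k, hk⟩ := hQ2 ⟨(u * v) ^ l, hcl⟩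
  have hk' : ((u * v) ^ l) ^ 2 ^ k = 1 := by simpa using congrArg Subtype.val hk
  have hc'l : ((u * v) ^ 2 ^ k) ^ l = 1 := by rw [← pow_mul, mul_comm, pow_mul]; exact hk'
  have hφc' : φ ((u * v) ^ 2 ^ k) = r (m * ((2 ^ k : ℕ) : ZMod l)) := by
    rw [map_pow, huv, r_pow]
  have hc'1 : (u * v) ^ 2 ^ k ≠ 1 := by
    intro h
    rw [h, map_one, one_def] at hφc'
    have h0 : m * ((2 ^ k : ℕ) : ZMod l) = 0 := (r.inj hφc').symm
    rcases mul_eq_zero.1 h0 with h1 | h1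
    · exact hm h1
    · rw [Nat.cast_pow] at h1
      exact pow_ne_zero k (two_ne_zero_zmod hl2) (by exact_mod_cast h1)
  have hord : orderOf ((u * v) ^ 2 ^ k) = l := orderOf_eq_prime hc'l hc'1
  have hcard : Nat.card (Subgroup.zpowers ((u * v) ^ 2 ^ k)) = l ^ (Nat.card G).factorization l := by
    rw [Nat.card_zpowers, hord, ← R.card_eq_multiplicity, card_R hl2 Q hQ2 φ hφ hker R]
  obtain ⟨g, hg⟩ := MulAction.exists_smul_eq G R (Sylow.ofCard (Subgroup.zpowers ((u * v) ^ 2 ^ k)) hcard)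
  have huinv : u⁻¹ = u := inv_eq_of_mul_eq_one_left hu
  have hvinv : v⁻¹ = v := inv_eq_of_mul_eq_one_left hv
  have huc : u * (u * v) * u⁻¹ = (u * v)⁻¹ := by
    rw [huinv, mul_inv_rev, huinv, hvinv]
    calc u * (u * v) * u = (u * u) * v * u := by group
      _ = v * u := by rw [hu, one_mul]
  have hvc : v * (u * v) * v⁻¹ = (u * v)⁻¹ := by
    rw [hvinv, mul_inv_rev, huinv, hvinv]
    calc v * (u * v) * v = v * u * (v * v) := by group
      _ = v * u := by rw [hv, mul_one]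
  have huc' : u * (u * v) ^ 2 ^ k * u⁻¹ = ((u * v) ^ 2 ^ k)⁻¹ := by rw [← conj_pow, huc, inv_pow]
  have hvc' : v * (u * v) ^ 2 ^ k * v⁻¹ = ((u * v) ^ 2 ^ k)⁻¹ := by rw [← conj_pow, hvc, inv_pow]
  have huN : u • (Sylow.ofCard (Subgroup.zpowers ((u * v) ^ 2 ^ k)) hcard)
      = Sylow.ofCard (Subgroup.zpowers ((u * v) ^ 2 ^ k)) hcard :=
    Sylow.smul_eq_iff_mem_normalizer.2 (mem_normalizer_zpowers_of_inv hu huc')
  have hvN : v • (Sylow.ofCard (Subgroup.zpowers ((u * v) ^ 2 ^ k)) hcard)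
      = Sylow.ofCard (Subgroup.zpowers ((u * v) ^ 2 ^ k)) hcard :=
    Sylow.smul_eq_iff_mem_normalizer.2 (mem_normalizer_zpowers_of_inv hv hvc')
  have h1 : ∀ w : G, w • (Sylow.ofCard (Subgroup.zpowers ((u * v) ^ 2 ^ k)) hcard)
      = Sylow.ofCard (Subgroup.zpowers ((u * v) ^ 2 ^ k)) hcard →
      g⁻¹ * w * g ∈ Subgroup.normalizer ((R : Subgroup G) : Set G) := by
    intro w hw
    apply Sylow.smul_eq_iff_mem_normalizer.1
    rw [mul_smul, mul_smul, hg, hw, ← hg, inv_smul_smul]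
  obtain ⟨n, hn, hng⟩ := surj_N hl2 Q hQ2 φ hφ hker R (φ g)
  refine ⟨g * n⁻¹, ?_, ?_, ?_⟩
  · rw [← hker, map_mul, map_inv, hng, mul_inv_cancel]
  · have := Subgroup.mul_mem _ (Subgroup.mul_mem _ hn (h1 u huN)) (Subgroup.inv_mem _ hn)
    convert this using 1
    group
  · have := Subgroup.mul_mem _ (Subgroup.mul_mem _ hn (h1 v hvN)) (Subgroup.inv_mem _ hn)
    convert this using 1
    group

include hl2 hQ2 hφ hker hC in
theorem phi_invol_N {a : G} (haN : a ∈ Subgroup.normalizer ((R : Subgroup G) : Set G))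
    (ha : a * a = 1) (ha1 : a ≠ 1) : ∃ i, φ a = sr i := by
  have ha1' : φ a ≠ 1 := by
    intro h
    exact ha1 (N_inf_Q hl2 Q hQ2 R hC haN ((hker a).1 h))
  exact dih_invol hl2 (φ a) ha1' (by rw [← map_mul, ha, map_one])

include hl2 hQ2 hφ hker hC in
theorem partB {a : G} (haN : a ∈ Subgroup.normalizer ((R : Subgroup G) : Set G))
    (ha : a * a = 1) (ha1 : a ≠ 1) {b : G} (hb : b * b = 1) (hbQ : b ∉ Q) :
    ∃ g : G, g * a * g⁻¹ = b := by
  obtain ⟨x, hx, j, hj, hxj⟩ := exists_x hl2 Q hQ2 φ hφ hker R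
  have hb1 : φ b ≠ 1 := fun h => hbQ ((hker b).1 h)
  obtain ⟨i, hi⟩ := dih_invol hl2 (φ b) hb1 (by rw [← map_mul, hb, map_one])
  have huv : φ (b * (x⁻¹ * b * x)) = r (2 * j) := by
    rw [map_mul, map_mul, map_mul, map_inv, hi, hxj, inv_r, r_mul_sr, sr_mul_r, sr_mul_sr]
    congr 1; ring
  have hv : (x⁻¹ * b * x) * (x⁻¹ * b * x) = 1 := by
    calc (x⁻¹ * b * x) * (x⁻¹ * b * x) = x⁻¹ * (b * b) * x := by group
      _ = 1 := by rw [hb]; group
  obtain ⟨q₀, hq₀, h1, -⟩ := key hl2 Q hQ2 φ hφ hker R hb hv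
    (mul_ne_zero (two_ne_zero_zmod hl2) hj) huv
  have hφb₀ : φ (q₀⁻¹ * b * q₀) = sr i := by
    rw [map_mul, map_mul, map_inv, (hker q₀).2 hq₀, hi]; simp
  obtain ⟨i₁, hi₁⟩ := phi_invol_N hl2 Q hQ2 φ hφ hker R hC haN ha ha1
  obtain ⟨k, hk⟩ := dih_conj hl2 i i₁
  obtain ⟨n, hn, hnk⟩ := surj_N hl2 Q hQ2 φ hφ hker R (r k)
  have h2 : n * a * n⁻¹ = q₀⁻¹ * b * q₀ := by
    apply inj_N hl2 Q hQ2 φ hker R hC
      (Subgroup.mul_mem _ (Subgroup.mul_mem _ hn haN) (Subgroup.inv_mem _ hn)) h1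
    rw [map_mul, map_mul, map_inv, hnk, hi₁, hk, hφb₀]
  refine ⟨q₀ * n, ?_⟩
  calc q₀ * n * a * (q₀ * n)⁻¹ = q₀ * (n * a * n⁻¹) * q₀⁻¹ := by group
    _ = b := by rw [h2]; group

include hl2 hQ2 hφ hker hC in
theorem partC {a : G} (haN : a ∈ Subgroup.normalizer ((R : Subgroup G) : Set G))
    (ha : a * a = 1) (ha1 : a ≠ 1) :
    Nat.card ↥(Q ⊓ Subgroup.centralizer ({a} : Set G)) ^ 2 = Nat.card ↥Q := by
  obtain ⟨x, hx, j, hj, hxj⟩ := exists_x hl2 Q hQ2 φ hφ hker R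
  have hxN : x ∈ Subgroup.normalizer ((R : Subgroup G) : Set G) := Subgroup.le_normalizer hx
  have ha'N : x * a * x⁻¹ ∈ Subgroup.normalizer ((R : Subgroup G) : Set G) :=
    Subgroup.mul_mem _ (Subgroup.mul_mem _ hxN haN) (Subgroup.inv_mem _ hxN)
  have ha'2 : (x * a * x⁻¹) * (x * a * x⁻¹) = 1 := by
    calc (x * a * x⁻¹) * (x * a * x⁻¹) = x * (a * a) * x⁻¹ := by group
      _ = 1 := by rw [ha]; group
  obtain ⟨i₁, hi₁⟩ := phi_invol_N hl2 Q hQ2 φ hφ hker R hC haN ha ha1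
  have hφa' : φ (x * a * x⁻¹) = sr (i₁ - 2 * j) := by
    rw [map_mul, map_mul, map_inv, hxj, hi₁, inv_r, r_mul_sr, sr_mul_r]
    congr 1; ring
  have h2j : -(2 * j) ≠ 0 := neg_ne_zero.2 (mul_ne_zero (two_ne_zero_zmod hl2) hj)
  have hφy : φ (a * (x * a * x⁻¹)) = r (-(2 * j)) := by
    rw [map_mul, hφa', hi₁, sr_mul_sr]
    congr 1; ring
  have hyN : a * (x * a * x⁻¹) ∈ Subgroup.normalizer ((R : Subgroup G) : Set G) :=
    Subgroup.mul_mem _ haN ha'N
  -- surjectivity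
  have hsurj : ∀ q ∈ Q, ∃ u ∈ Q ⊓ Subgroup.centralizer ({x * a * x⁻¹} : Set G),
      ∃ v ∈ Q ⊓ Subgroup.centralizer ({a} : Set G), u * v = q := by
    intro q hq
    have hb2 : (q⁻¹ * (x * a * x⁻¹) * q) * (q⁻¹ * (x * a * x⁻¹) * q) = 1 := by
      calc (q⁻¹ * (x * a * x⁻¹) * q) * (q⁻¹ * (x * a * x⁻¹) * q)
          = q⁻¹ * ((x * a * x⁻¹) * (x * a * x⁻¹)) * q := by group
        _ = 1 := by rw [ha'2]; group
    have hφb : φ (q⁻¹ * (x * a * x⁻¹) * q) = sr (i₁ - 2 * j) := by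
      rw [map_mul, map_mul, map_inv, (hker q).2 hq, hφa']; simp
    have huv : φ (a * (q⁻¹ * (x * a * x⁻¹) * q)) = r (-(2 * j)) := by
      rw [map_mul, hφb, hi₁, sr_mul_sr]
      congr 1; ring
    obtain ⟨q₀, hq₀, h1, h2⟩ := key hl2 Q hQ2 φ hφ hker R ha hb2 h2j huv
    have e1 : q₀⁻¹ * a * q₀ = a := by
      apply inj_N hl2 Q hQ2 φ hker R hC h1 haN
      rw [map_mul, map_mul, map_inv, (hker q₀).2 hq₀]; simp
    have e2 : q₀⁻¹ * (q⁻¹ * (x * a * x⁻¹) * q) * q₀ = x * a * x⁻¹ := by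
      apply inj_N hl2 Q hQ2 φ hker R hC h2 ha'N
      rw [map_mul, map_mul, map_inv, (hker q₀).2 hq₀, hφb, hφa']; simp
    refine ⟨q * q₀, ⟨Q.mul_mem hq hq₀, ?_⟩, q₀⁻¹, ⟨Q.inv_mem hq₀, ?_⟩, by group⟩
    · show q * q₀ ∈ Subgroup.centralizer ({x * a * x⁻¹} : Set G)
      rw [Subgroup.mem_centralizer_singleton_iff]
      calc q * q₀ * (x * a * x⁻¹)
          = q * q₀ * (q₀⁻¹ * (q⁻¹ * (x * a * x⁻¹) * q) * q₀) := by rw [e2]
        _ = x * a * x⁻¹ * (q * q₀) := by group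
    · show q₀⁻¹ ∈ Subgroup.centralizer ({a} : Set G)
      rw [Subgroup.mem_centralizer_singleton_iff]
      calc q₀⁻¹ * a = q₀⁻¹ * a * q₀ * q₀⁻¹ := by group
        _ = a * q₀⁻¹ := by rw [e1]
  -- trivial intersection
  have hinj : ∀ w ∈ Q, w * (x * a * x⁻¹) = (x * a * x⁻¹) * w → w * a = a * w → w = 1 := by
    intro w hw h1 h2
    have h3 : w * (a * (x * a * x⁻¹)) = (a * (x * a * x⁻¹)) * w := by
      calc w * (a * (x * a * x⁻¹)) = (w * a) * (x * a * x⁻¹) := by group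
        _ = a * (w * (x * a * x⁻¹)) := by rw [h2]; group
        _ = (a * (x * a * x⁻¹)) * w := by rw [h1]; group
    have hcen : w ∈ Subgroup.centralizer ((R : Subgroup G) : Set G) := by
      rw [Subgroup.mem_centralizer_iff]
      intro z hz
      obtain ⟨j', hj'⟩ := phi_R_rot hl2 φ R hz
      have hz' : z = (a * (x * a * x⁻¹)) ^ (j' / (-(2 * j))).val := by
        apply inj_N hl2 Q hQ2 φ hker R hC (Subgroup.le_normalizer hz) (Subgroup.pow_mem _ hyN _)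
        rw [map_pow, hφy, hj', r_pow]
        congr 1
        rw [ZMod.natCast_zmod_val]
        have h2' := two_ne_zero_zmod hl2
        field_simp
      rw [hz']
      exact ((Commute.pow_right (show Commute w (a * (x * a * x⁻¹)) from h3) _).eq).symm
    have : w ∈ Q ⊓ Subgroup.centralizer ((R : Subgroup G) : Set G) := ⟨hw, hcen⟩
    rw [hC, Subgroup.mem_bot] at this
    exact this
  -- cardinalities
  have hcard_eq : Nat.card ↥(Q ⊓ Subgroup.centralizer ({x * a * x⁻¹} : Set G))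
      = Nat.card ↥(Q ⊓ Subgroup.centralizer ({a} : Set G)) := by
    refine Nat.card_congr ⟨fun u => ⟨x⁻¹ * u.1 * x, ?_⟩, fun v => ⟨x * v.1 * x⁻¹, ?_⟩, ?_, ?_⟩
    · refine ⟨by simpa using hQn.conj_mem _ u.2.1 x⁻¹, ?_⟩
      show x⁻¹ * u.1 * x ∈ Subgroup.centralizer ({a} : Set G)
      rw [Subgroup.mem_centralizer_singleton_iff]
      have := Subgroup.mem_centralizer_singleton_iff.1 u.2.2
      calc x⁻¹ * ↑u * x * a = x⁻¹ * (↑u * (x * a * x⁻¹)) * x := by group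
        _ = a * (x⁻¹ * ↑u * x) := by rw [this]; group
    · refine ⟨hQn.conj_mem _ v.2.1 x, ?_⟩
      show x * v.1 * x⁻¹ ∈ Subgroup.centralizer ({x * a * x⁻¹} : Set G)
      rw [Subgroup.mem_centralizer_singleton_iff]
      have := Subgroup.mem_centralizer_singleton_iff.1 v.2.2
      calc x * ↑v * x⁻¹ * (x * a * x⁻¹) = x * (↑v * a) * x⁻¹ := by group
        _ = x * a * x⁻¹ * (x * ↑v * x⁻¹) := by rw [this]; group
    · intro u; apply Subtype.ext; simp [mul_assoc]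
    · intro v; apply Subtype.ext; simp [mul_assoc]
  have hprod : Nat.card (↥(Q ⊓ Subgroup.centralizer ({x * a * x⁻¹} : Set G)) ×
      ↥(Q ⊓ Subgroup.centralizer ({a} : Set G))) = Nat.card ↥Q := by
    refine Nat.card_congr (Equiv.ofBijective
      (fun p => (⟨p.1.1 * p.2.1, Q.mul_mem p.1.2.1 p.2.2.1⟩ : ↥Q)) ⟨?_, ?_⟩)
    · rintro ⟨⟨u, hu⟩, ⟨v, hv⟩⟩ ⟨⟨u', hu'⟩, ⟨v', hv'⟩⟩ h
      have h0 : u * v = u' * v' := congrArg Subtype.val h
      have hw : u'⁻¹ * u = v' * v⁻¹ := by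
        calc u'⁻¹ * u = u'⁻¹ * (u * v) * v⁻¹ := by group
          _ = v' * v⁻¹ := by rw [h0]; group
      have hc1 : u'⁻¹ * u * (x * a * x⁻¹) = (x * a * x⁻¹) * (u'⁻¹ * u) :=
        Subgroup.mem_centralizer_singleton_iff.1
          (Subgroup.mul_mem _ (Subgroup.inv_mem _ hu'.2) hu.2)
      have hc2 : u'⁻¹ * u * a = a * (u'⁻¹ * u) := by
        rw [hw]
        exact Subgroup.mem_centralizer_singleton_iff.1
          (Subgroup.mul_mem _ hv'.2 (Subgroup.inv_mem _ hv.2))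
      have hw1 := hinj (u'⁻¹ * u) (Q.mul_mem (Q.inv_mem hu'.1) hu.1) hc1 hc2
      have hu_eq : u = u' := by
        have := inv_mul_eq_one.1 hw1
        exact this.symm
      have hv_eq : v = v' := by
        rw [hw1] at hw
        have : v' * v⁻¹ = 1 := hw.symm
        exact (mul_inv_eq_one.1 this).symm
      subst hu_eq; subst hv_eq; rfl
    · rintro ⟨q, hq⟩
      obtain ⟨u, hu, v, hv, huv⟩ := hsurj q hq
      exact ⟨(⟨u, hu⟩, ⟨v, hv⟩), Subtype.ext huv⟩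
  rw [pow_two, ← hprod, Nat.card_prod, hcard_eq]

end main


/-- Let G be a finite group and r an odd prime such that G ⧸ O₂(G) is dihedral of order 2r, and let R be a Sylow r-subgroup of G with C_{O₂(G)}(R) = 1. Then N_G(R) is dihedral of order 2r; for any involution a of N_G(R), every involution of G outside O₂(G) is conjugate to a; and |C_{O₂(G)}(a)|² = |O₂(G)|. -/
theorem result {G : Type*} [Group G] [Finite G] {r : ℕ} [Fact r.Prime] (hr : r ≠ 2) [hN : (Cfsg.pCore 2 G).Normal] (hquot : Nonempty (G ⧸ Cfsg.pCore 2 G ≃* DihedralGroup r)) (R : Sylow r G) (hC : Cfsg.pCore 2 G ⊓ Subgroup.centralizer ((R : Subgroup G) : Set G) = ⊥) : Nonempty (↥(Subgroup.normalizer ((R : Subgroup G) : Set G)) ≃* DihedralGroup r) ∧ ∀ a : G, a ∈ Subgroup.normalizer ((R : Subgroup G) : Set G) → orderOf a = 2 → (∀ b : G, orderOf b = 2 → b ∉ Cfsg.pCore 2 G → ∃ g : G, g * a * g⁻¹ = b) ∧ Nat.card ↥(Cfsg.pCore 2 G ⊓ Subgroup.centralizer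 ({a} : Set G)) ^ 2 = Nat.card ↥(Cfsg.pCore 2 G) := by
  obtain ⟨e⟩ := hquot
  have hQ2 : IsPGroup 2 ↥(Cfsg.pCore 2 G) := pCore_isPGroup' 2
  have hφ : Function.Surjective (e.toMonoidHom.comp (QuotientGroup.mk' (Cfsg.pCore 2 G))) :=
    e.surjective.comp (QuotientGroup.mk'_surjective _)
  have hker : ∀ g, (e.toMonoidHom.comp (QuotientGroup.mk' (Cfsg.pCore 2 G))) g = 1
      ↔ g ∈ Cfsg.pCore 2 G := by
    intro g
    show e (QuotientGroup.mk' _ g) = 1 ↔ _
    rw [MulEquiv.map_eq_one_iff, QuotientGroup.mk'_apply, QuotientGroup.eq_one_iff]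
  refine ⟨⟨MulEquiv.ofBijective ((e.toMonoidHom.comp (QuotientGroup.mk' (Cfsg.pCore 2 G))).comp
    (Subgroup.normalizer ((R : Subgroup G) : Set G)).subtype) ⟨?_, ?_⟩⟩, ?_⟩
  · intro n n' h
    exact Subtype.ext (inj_N hr _ hQ2 _ hker R hC n.2 n'.2 h)
  · intro d
    obtain ⟨n, hn, hnd⟩ := surj_N hr _ hQ2 _ hφ hker R d
    exact ⟨⟨n, hn⟩, hnd⟩
  · intro a haN ha
    have ha2 : a * a = 1 := by rw [← pow_two, ← ha, pow_orderOf_eq_one]
    have ha1 : a ≠ 1 := by rintro rfl; simp at ha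
    refine ⟨?_, partC hr _ hQ2 _ hφ hker R hC haN ha2 ha1⟩
    intro b hb hbQ
    have hb2 : b * b = 1 := by rw [← pow_two, ← hb, pow_orderOf_eq_one]
    exact partB hr _ hQ2 _ hφ hker R hC haN ha2 ha1 hb2 hbQ

end Cfsg.Agent.S2873
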