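import Cfsg.Statements.S2874
import Mathlib

set_option autoImplicit false
open Cfsg

namespace Cfsg.Agent.S2874

/-! ### Facts about `A₄` and about `2 × 2` matrices over `𝔽₂`, by computation -/

theorem alt4_rel : ∀ c v : alternatingGroup (Fin 4), (c ^ 3 = 1 ∧ c ≠ 1 ∧ v * v = 1 ∧ v ≠ 1) →
    v * (c * v * c⁻¹) = c⁻¹ * v * c := by
  decide

theorem alt4_decomp : ∀ c x : alternatingGroup (Fin 4), c ^ 3 = 1 → c ≠ 1 →
    ∃ v : alternatingGroup (Fin 4), v * v = 1 ∧ (x = v ∨ x = v * c ∨ x = v * c * c) := by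
  decide

theorem alt4_exists : ∃ c : alternatingGroup (Fin 4), c ^ 3 = 1 ∧ c ≠ 1 := by
  decide

theorem alt4_card_inv :
    (Finset.univ.filter (fun v : alternatingGroup (Fin 4) => v * v = 1)).card = 4 := by
  decide

theorem f2_inv : ∀ m : Matrix (Fin 2) (Fin 2) (ZMod 2), m * m = 1 →
    m * (!![0, 1; 1, 1] * m * !![1, 1; 1, 0]) = !![1, 1; 1, 0] * m * !![0, 1; 1, 1] → m = 1 := by
  decide

theorem f2_ord3 : ∀ m : Matrix (Fin 2) (Fin 2) (ZMod 2), m * m * m = 1 → m ≠ 1 →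
    m 1 0 = 1 ∧ (m - 1).det = 1 := by
  decide

/-! ### Arithmetic in `ℤ/2ᵏ` -/

section Arith

variable {k : ℕ}

/-- reduction mod 2 -/
noncomputable def rho (k : ℕ) (hk : k ≠ 0) : ZMod (2 ^ k) →+* ZMod 2 :=
  ZMod.castHom (dvd_pow_self 2 hk) (ZMod 2)

theorem isUnit_of_rho (hk : k ≠ 0) (x : ZMod (2 ^ k)) (h : rho k hk x = 1) : IsUnit x := by
  have : NeZero (2 ^ k) := ⟨by positivity⟩
  have hx : ((x.val : ℕ) : ZMod (2 ^ k)) = x := ZMod.natCast_zmod_val x
  rw [← hx, map_natCast] at h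
  rw [← hx, ZMod.isUnit_iff_coprime]
  have hodd : Odd x.val := (ZMod.natCast_eq_one_iff_odd).mp h
  exact Nat.Coprime.pow_right k (Nat.coprime_two_right.mpr hodd)

theorem even_of_rho (hk : k ≠ 0) (x : ZMod (2 ^ k)) (h : rho k hk x = 0) : ∃ y, x = 2 * y := by
  have : NeZero (2 ^ k) := ⟨by positivity⟩
  have hx : ((x.val : ℕ) : ZMod (2 ^ k)) = x := ZMod.natCast_zmod_val x
  rw [← hx, map_natCast] at h
  have hev : Even x.val := (ZMod.natCast_eq_zero_iff_even).mp h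
  obtain ⟨m, hm⟩ := hev
  refine ⟨(m : ZMod (2 ^ k)), ?_⟩
  rw [← hx, hm]
  push_cast
  ring

theorem two_torsion (hk : k ≠ 0) (z : ZMod (2 ^ k)) (h : 2 * z = 0) :
    z = 0 ∨ z = 2 ^ (k - 1) := by
  have : NeZero (2 ^ k) := ⟨by positivity⟩
  have hz : ((z.val : ℕ) : ZMod (2 ^ k)) = z := ZMod.natCast_zmod_val z
  have h' : ((2 * z.val : ℕ) : ZMod (2 ^ k)) = 0 := by
    push_cast; rw [hz]; exact h
  have h'' : 2 ^ k ∣ 2 * z.val := (ZMod.natCast_eq_zero_iff _ _).mp h'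
  have hk' : 2 ^ k = 2 * 2 ^ (k - 1) := by
    rw [← pow_succ']; congr 1; omega
  have hdvd : 2 ^ (k - 1) ∣ z.val := by
    have h3 : 2 * 2 ^ (k - 1) ∣ 2 * z.val := by
      obtain ⟨t, ht⟩ := h''
      refine ⟨t, ?_⟩
      rw [ht, hk']
    exact (Nat.mul_dvd_mul_iff_left (by norm_num)).mp h3
  have hlt : z.val < 2 * 2 ^ (k - 1) := by
    rw [← hk']; exact ZMod.val_lt z
  obtain ⟨t, ht⟩ := hdvd
  have hpos : 0 < 2 ^ (k - 1) := by positivity
  have ht2 : t < 2 := by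
    by_contra hcon
    push Not at hcon
    have : 2 * 2 ^ (k - 1) ≤ 2 ^ (k - 1) * t := by nlinarith
    omega
  interval_cases t
  · left
    rw [← hz, ht]; simp
  · right
    rw [← hz, ht]; simp

theorem three_unit (hk : k ≠ 0) : ∃ u : ZMod (2 ^ k), 3 * u = 1 := by
  have h : IsUnit (3 : ZMod (2 ^ k)) := by
    apply isUnit_of_rho hk
    rw [map_ofNat]
    decide
  exact h.exists_right_inv

theorem isUnit_one_add_two (hk : k ≠ 0) (t : ZMod (2 ^ k)) : IsUnit (1 + 2 * t) := by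
  apply isUnit_of_rho hk
  rw [map_add, map_mul, map_one, map_ofNat]
  have : (2 : ZMod 2) = 0 := by decide
  rw [this, zero_mul, add_zero]

end Arith

/-! ### The matrix computation -/

section Mat

variable {k : ℕ}

/-- the companion matrix of `X² + X + 1` -/
def C0 (k : ℕ) : Matrix (Fin 2) (Fin 2) (ZMod (2 ^ k)) := !![0, -1; 1, -1]

/-- its inverse -/
def C0i (k : ℕ) : Matrix (Fin 2) (Fin 2) (ZMod (2 ^ k)) := !![-1, 1; -1, 0]

theorem C0_mul_C0i : C0 k * C0i k = 1 := by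
  ext i j
  fin_cases i <;> fin_cases j <;> simp [C0, C0i, Matrix.mul_apply, Fin.sum_univ_two]

theorem C0i_mul_C0 : C0i k * C0 k = 1 := by
  ext i j
  fin_cases i <;> fin_cases j <;> simp [C0, C0i, Matrix.mul_apply, Fin.sum_univ_two]

/-- the standard element of order three -/
def c0 (k : ℕ) : GL (Fin 2) (ZMod (2 ^ k)) := ⟨C0 k, C0i k, C0_mul_C0i, C0i_mul_C0⟩

theorem core_mat (hk : 2 ≤ k) (M : Matrix (Fin 2) (Fin 2) (ZMod (2 ^ k))) (h1 : M * M = 1)
    (h2 : M * (C0 k * M * C0i k) = C0i k * M * C0 k) :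
    ∃ z w : ZMod (2 ^ k), 2 * z = 0 ∧ 2 * w = 0 ∧ M = !![1 + w, z; z + w, 1 + w] := by
  have hk0 : k ≠ 0 := by omega
  have hm1 : (rho k hk0) (-1) = 1 := by
    rw [map_neg, map_one]; decide
  have hbar : M.map (rho k hk0) = 1 := by
    apply f2_inv
    · rw [← Matrix.map_mul, h1]
      simp [Matrix.map_one]
    · have hC : (C0 k).map (rho k hk0) = !![0, 1; 1, 1] := by
        ext i j
        fin_cases i <;> fin_cases j <;> simp [C0, hm1]
      have hCi : (C0i k).map (rho k hk0) = !![1, 1; 1, 0] := by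
        ext i j
        fin_cases i <;> fin_cases j <;> simp [C0i, hm1]
      rw [← hC, ← hCi, ← Matrix.map_mul, ← Matrix.map_mul, ← Matrix.map_mul, ← Matrix.map_mul,
        ← Matrix.map_mul, h2]
  have h00 : rho k hk0 (M 0 0) = 1 := by
    have := congrFun (congrFun hbar 0) 0
    simpa using this
  have h01 : rho k hk0 (M 0 1) = 0 := by
    have := congrFun (congrFun hbar 0) 1
    simpa using this
  have h10 : rho k hk0 (M 1 0) = 0 := by
    have := congrFun (congrFun hbar 1) 0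
    simpa using this
  have h11 : rho k hk0 (M 1 1) = 1 := by
    have := congrFun (congrFun hbar 1) 1
    simpa using this
  obtain ⟨u3, h3⟩ := three_unit hk0
  obtain ⟨p, q, r, s, hM⟩ : ∃ p q r s : ZMod (2 ^ k), M = !![p, q; r, s] :=
    ⟨M 0 0, M 0 1, M 1 0, M 1 1, by ext i j; fin_cases i <;> fin_cases j <;> rfl⟩
  subst hM
  simp only [Matrix.of_apply, Matrix.cons_val', Matrix.cons_val_zero, Matrix.cons_val_one,
    Matrix.cons_val_fin_one] at h00 h01 h10 h11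
  set y : ZMod (2 ^ k) := u3 * ((s - p) + 2 * (r - q)) with hy
  set w : ZMod (2 ^ k) := u3 * (2 * (s - p) + (r - q)) with hw
  set x : ZMod (2 ^ k) := p + w with hx
  set z : ZMod (2 ^ k) := q + y with hz
  have hp : p = x - w := by rw [hx]; ring
  have hq : q = z - y := by rw [hz]; ring
  have hr : r = y + z - w := by
    rw [hz, hy, hw]; linear_combination (q - r) * h3
  have hs : s = x - y + w := by
    rw [hx, hy, hw]; linear_combination (p - s) * h3
  -- parities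
  have hρy : rho k hk0 y = 0 := by
    rw [hy]; simp [map_mul, map_add, map_sub, h00, h01, h10, h11]
  have hρw : rho k hk0 w = 0 := by
    rw [hw]; simp [map_mul, map_add, map_sub, h00, h01, h10, h11]
  have hρz : rho k hk0 z = 0 := by
    rw [hz, map_add, h01, hρy, add_zero]
  obtain ⟨z', hz'⟩ := even_of_rho hk0 z hρz
  obtain ⟨w', hw'⟩ := even_of_rho hk0 w hρw
  clear_value x y z w
  subst hp hq hr hs
  subst hz' hw'
  -- the entry equations
  have e00 := congrFun (congrFun h1 0) 0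
  have e01 := congrFun (congrFun h1 0) 1
  have e10 := congrFun (congrFun h1 1) 0
  have e11 := congrFun (congrFun h1 1) 1
  have f00 := congrFun (congrFun h2 0) 0
  have f01 := congrFun (congrFun h2 0) 1
  have f10 := congrFun (congrFun h2 1) 0
  have f11 := congrFun (congrFun h2 1) 1
  simp [Matrix.mul_apply, Fin.sum_univ_two, C0, C0i] at e00 e01 e10 e11 f00 f01 f10 f11
  have hI1 : 3 * (x - 1 + ((2 * z') * (2 * z') - (2 * z') * (2 * w') + (2 * w') * (2 * w'))) = 0 := by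
    linear_combination e00 - e01 + e10 + 2 * e11 - f00 + f01 - f10 - 2 * f11
  have hI2 : 3 * (y - ((2 * z') * (2 * z') - (2 * z') * (2 * w') + (2 * w') * (2 * w'))) = 0 := by
    linear_combination -e00 - 2 * e01 + 2 * e10 + e11 + f00 + 2 * f01 - 2 * f10 - f11
  have hII1 : 3 * ((2 * z') * (2 * x - y)) = 0 := by
    linear_combination -e00 + e01 + 2 * e10 + e11
  have hII2 : 3 * ((2 * w') * (2 * x - y)) = 0 := by
    linear_combination -2 * e00 - e01 + e10 + 2 * e11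
  have cancel3 : ∀ t : ZMod (2 ^ k), 3 * t = 0 → t = 0 := by
    intro t ht
    linear_combination u3 * ht - t * h3
  have hx1 : x = 1 - ((2 * z') * (2 * z') - (2 * z') * (2 * w') + (2 * w') * (2 * w')) := by
    linear_combination cancel3 _ hI1
  have hy1 : y = (2 * z') * (2 * z') - (2 * z') * (2 * w') + (2 * w') * (2 * w') := by
    linear_combination cancel3 _ hI2
  have hII1' := cancel3 _ hII1
  have hII2' := cancel3 _ hII2
  subst hx1 hy1
  have hA : (2 * (2 * z')) * (1 + 2 * (-3 * (z' * z' - z' * w' + w' * w'))) = 0 := by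
    linear_combination hII1'
  have hB : (2 * (2 * w')) * (1 + 2 * (-3 * (z' * z' - z' * w' + w' * w'))) = 0 := by
    linear_combination hII2'
  have hA' : 2 * (2 * z') = 0 := (isUnit_one_add_two hk0 _).mul_left_eq_zero.mp hA
  have hB' : 2 * (2 * w') = 0 := (isUnit_one_add_two hk0 _).mul_left_eq_zero.mp hB
  refine ⟨2 * z', 2 * w', hA', hB', ?_⟩
  have g00 : (1 - ((2 * z') * (2 * z') - (2 * z') * (2 * w') + (2 * w') * (2 * w'))) - 2 * w'
      = 1 + 2 * w' := by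
    linear_combination (-z' + w') * hA' - w' * hB' - hB'
  have g01 : 2 * z' - ((2 * z') * (2 * z') - (2 * z') * (2 * w') + (2 * w') * (2 * w'))
      = 2 * z' := by
    linear_combination (-z' + w') * hA' - w' * hB'
  have g10 : ((2 * z') * (2 * z') - (2 * z') * (2 * w') + (2 * w') * (2 * w')) + 2 * z' - 2 * w'
      = 2 * z' + 2 * w' := by
    linear_combination (z' - w') * hA' + w' * hB' - hB'
  have g11 : (1 - ((2 * z') * (2 * z') - (2 * z') * (2 * w') + (2 * w') * (2 * w')))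
      - ((2 * z') * (2 * z') - (2 * z') * (2 * w') + (2 * w') * (2 * w')) + 2 * w' = 1 + 2 * w' := by
    linear_combination 2 * ((-z' + w') * hA' - w' * hB')
  rw [g00, g01, g10, g11]

open Classical in
/-- the four candidates for the involutions -/
noncomputable def Tm (k : ℕ) : Finset (Matrix (Fin 2) (Fin 2) (ZMod (2 ^ k))) :=
  ((({0, 2 ^ (k - 1)} : Finset (ZMod (2 ^ k))) ×ˢ
    ({0, 2 ^ (k - 1)} : Finset (ZMod (2 ^ k)))).image
    (fun zw => !![1 + zw.2, zw.1; zw.1 + zw.2, 1 + zw.2]))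

theorem Tm_card (k : ℕ) : (Tm k).card ≤ 4 := by
  classical
  unfold Tm
  refine Finset.card_image_le.trans ?_
  rw [Finset.card_product]
  have : ({0, 2 ^ (k - 1)} : Finset (ZMod (2 ^ k))).card ≤ 2 := Finset.card_le_two
  nlinarith

theorem core_gl (hk : 2 ≤ k) (v : GL (Fin 2) (ZMod (2 ^ k))) (h1 : v * v = 1)
    (h2 : v = 1 ∨ v * (c0 k * v * (c0 k)⁻¹) = (c0 k)⁻¹ * v * c0 k) :
    (v : Matrix (Fin 2) (Fin 2) (ZMod (2 ^ k))) ∈ Tm k := by
  classical
  have hk0 : k ≠ 0 := by omega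
  have key : ∃ z w : ZMod (2 ^ k), 2 * z = 0 ∧ 2 * w = 0 ∧
      (v : Matrix (Fin 2) (Fin 2) (ZMod (2 ^ k))) = !![1 + w, z; z + w, 1 + w] := by
    rcases h2 with rfl | h2
    · refine ⟨0, 0, by simp, by simp, ?_⟩
      ext i j
      fin_cases i <;> fin_cases j <;> simp
    · apply core_mat hk
      · have := congrArg Units.val h1
        simpa using this
      · have := congrArg Units.val h2
        simpa [c0] using this
  obtain ⟨z, w, hz, hw, hv⟩ := key
  rw [hv, Tm, Finset.mem_image]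
  refine ⟨(z, w), ?_, rfl⟩
  rw [Finset.mem_product]
  constructor
  · rcases two_torsion hk0 z hz with h | h <;> simp [h]
  · rcases two_torsion hk0 w hw with h | h <;> simp [h]

theorem conj_std (hk : 2 ≤ k) (c : GL (Fin 2) (ZMod (2 ^ k))) (h3 : c ^ 3 = 1) (hne : c ≠ 1) :
    ∃ g : GL (Fin 2) (ZMod (2 ^ k)), g * c * g⁻¹ = c0 k := by
  have hk0 : k ≠ 0 := by omega
  obtain ⟨m, hm⟩ : ∃ m : Matrix (Fin 2) (Fin 2) (ZMod (2 ^ k)),
      m = (c : Matrix (Fin 2) (Fin 2) (ZMod (2 ^ k))) := ⟨_, rfl⟩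
  have hm3 : m * m * m = 1 := by
    have := congrArg Units.val h3
    rw [hm]
    simpa [pow_succ] using this
  have hmap3 : m.map (rho k hk0) * m.map (rho k hk0) * m.map (rho k hk0) = 1 := by
    rw [← Matrix.map_mul, ← Matrix.map_mul, hm3]
    simp [Matrix.map_one]
  have hbar_ne : m.map (rho k hk0) ≠ 1 := by
    intro hbar
    apply hne
    have hX : (rho k hk0).mapMatrix (m - 1) = 0 := by
      rw [map_sub, map_one, RingHom.mapMatrix_apply, hbar, sub_self]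
    have hXU : (m - 1) * (3 + 3 * (m - 1) + (m - 1) * (m - 1)) = 0 := by
      have : (m - 1) * (3 + 3 * (m - 1) + (m - 1) * (m - 1)) = m * m * m - 1 := by
        noncomm_ring
      rw [this, hm3, sub_self]
    have hU : IsUnit (3 + 3 * (m - 1) + (m - 1) * (m - 1)) := by
      rw [Matrix.isUnit_iff_isUnit_det]
      apply isUnit_of_rho hk0
      rw [RingHom.map_det, map_add, map_add, map_mul, map_mul, hX]
      simp only [mul_zero, add_zero, map_ofNat]
      decide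
    have hm1 : m - 1 = 0 := hU.mul_left_eq_zero.mp hXU
    apply Units.ext
    rw [← hm]
    simpa [sub_eq_zero] using hm1
  obtain ⟨hf1, hf2⟩ := f2_ord3 _ hmap3 hbar_ne
  have hu10 : IsUnit (m 1 0) := by
    apply isUnit_of_rho hk0
    simpa using hf1
  have hdet : IsUnit (m - 1) := by
    rw [Matrix.isUnit_iff_isUnit_det]
    apply isUnit_of_rho hk0
    rw [RingHom.map_det, map_sub, map_one, RingHom.mapMatrix_apply]
    exact hf2
  have hquad : m * m + m + 1 = 0 := by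
    have : (m - 1) * (m * m + m + 1) = 0 := by
      have h' : (m - 1) * (m * m + m + 1) = m * m * m - 1 := by noncomm_ring
      rw [h', hm3, sub_self]
    exact hdet.mul_right_eq_zero.mp this
  have q00 := congrFun (congrFun hquad 0) 0
  have q10 := congrFun (congrFun hquad 1) 0
  simp [Matrix.mul_apply, Fin.sum_univ_two] at q00 q10
  have hPdet : IsUnit (!![1, m 0 0; 0, m 1 0] : Matrix (Fin 2) (Fin 2) (ZMod (2 ^ k))).det := by
    rw [Matrix.det_fin_two_of]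
    simpa using hu10
  have hmat : m * !![1, m 0 0; 0, m 1 0] = !![1, m 0 0; 0, m 1 0] * C0 k := by
    ext i j
    fin_cases i <;> fin_cases j <;> simp [Matrix.mul_apply, Fin.sum_univ_two, C0]
    · linear_combination q00
    · linear_combination q10
  have hgl : c * Matrix.GeneralLinearGroup.mk'' _ hPdet = Matrix.GeneralLinearGroup.mk'' _ hPdet * c0 k := by
    apply Units.ext
    rw [Units.val_mul, Units.val_mul, ← hm]
    exact hmat
  refine ⟨(Matrix.GeneralLinearGroup.mk'' _ hPdet)⁻¹, ?_⟩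
  rw [inv_inv, mul_assoc, hgl, ← mul_assoc, inv_mul_cancel, one_mul]

end Mat

/-! ### Group-theoretic glue -/

section Glue

variable {k : ℕ}

theorem alt4_ncard_inv : ({a : alternatingGroup (Fin 4) | a * a = 1} : Set _).ncard = 4 := by
  have : ({a : alternatingGroup (Fin 4) | a * a = 1} : Set _) =
      ↑(Finset.univ.filter (fun v : alternatingGroup (Fin 4) => v * v = 1)) := by
    ext a; simp
  rw [this, Set.ncard_coe_finset]
  exact alt4_card_inv

theorem image_eq_Tm (hk : 2 ≤ k) (F : alternatingGroup (Fin 4) →* GL (Fin 2) (ZMod (2 ^ k)))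
    (hF : Function.Injective F) (a₀ : alternatingGroup (Fin 4)) (ha3 : a₀ ^ 3 = 1) (ha1 : a₀ ≠ 1)
    (h₀ : F a₀ = c0 k) :
    (fun a => ((F a : GL (Fin 2) (ZMod (2 ^ k))) : Matrix (Fin 2) (Fin 2) (ZMod (2 ^ k)))) ''
      {a : alternatingGroup (Fin 4) | a * a = 1} = ↑(Tm k) := by
  apply Set.eq_of_subset_of_ncard_le
  · rintro _ ⟨a, ha, rfl⟩
    have ha' : a * a = 1 := ha
    rw [Finset.mem_coe]
    apply core_gl hk
    · rw [← map_mul, ha', map_one]
    · by_cases h1 : a = 1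
      · left; rw [h1, map_one]
      · right
        have := alt4_rel a₀ a ⟨ha3, ha1, ha', h1⟩
        have h2 := congrArg F this
        simpa [map_mul, map_inv, h₀] using h2
  · rw [Set.ncard_coe_finset]
    have hinj : Function.Injective
        (fun a => ((F a : GL (Fin 2) (ZMod (2 ^ k))) : Matrix (Fin 2) (Fin 2) (ZMod (2 ^ k)))) :=
      fun a b hab => hF (Units.ext hab)
    rw [Set.ncard_image_of_injective _ hinj, alt4_ncard_inv]
    exact Tm_card k
  · exact Finset.finite_toSet _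

theorem range_le (hk : 2 ≤ k) (F₁ F₂ : alternatingGroup (Fin 4) →* GL (Fin 2) (ZMod (2 ^ k)))
    (hF₁ : Function.Injective F₁) (hF₂ : Function.Injective F₂)
    (a₁ a₂ : alternatingGroup (Fin 4)) (ha₁3 : a₁ ^ 3 = 1) (ha₁1 : a₁ ≠ 1)
    (ha₂3 : a₂ ^ 3 = 1) (ha₂1 : a₂ ≠ 1)
    (h₁ : F₁ a₁ = c0 k) (h₂ : F₂ a₂ = c0 k) : F₁.range ≤ F₂.range := by
  have hW₁ := image_eq_Tm hk F₁ hF₁ a₁ ha₁3 ha₁1 h₁
  have hW₂ := image_eq_Tm hk F₂ hF₂ a₂ ha₂3 ha₂1 h₂
  rintro _ ⟨x, rfl⟩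
  obtain ⟨v, hv, hx⟩ := alt4_decomp a₁ x ha₁3 ha₁1
  have hmem : ((F₁ v : GL (Fin 2) (ZMod (2 ^ k))) : Matrix (Fin 2) (Fin 2) (ZMod (2 ^ k))) ∈
      (fun a => ((F₂ a : GL (Fin 2) (ZMod (2 ^ k))) : Matrix (Fin 2) (Fin 2) (ZMod (2 ^ k)))) ''
        {a : alternatingGroup (Fin 4) | a * a = 1} := by
    rw [hW₂, ← hW₁]
    exact ⟨v, hv, rfl⟩
  obtain ⟨v', -, hv'⟩ := hmem
  have hvv : F₂ v' = F₁ v := Units.ext hv'
  rcases hx with rfl | rfl | rfl
  · exact ⟨v', hvv⟩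
  · refine ⟨v' * a₂, ?_⟩
    rw [map_mul, map_mul, hvv, h₁, h₂]
  · refine ⟨v' * a₂ * a₂, ?_⟩
    rw [map_mul, map_mul, map_mul, map_mul, hvv, h₁, h₂]

end Glue

/-- For k ≥ 2, any two subgroups of GL₂(ℤ/2ᵏℤ) (the automorphism group of the homocyclic group ℤ/2ᵏ × ℤ/2ᵏ) that are isomorphic to the alternating group of degree 4 are conjugate. -/
theorem result (k : ℕ) (hk : 2 ≤ k) (H₁ H₂ : Subgroup (GL (Fin 2) (ZMod (2 ^ k)))) (h₁ : Nonempty (↥H₁ ≃* ↥(alternatingGroup (Fin 4)))) (h₂ : Nonempty (↥H₂ ≃* ↥(alternatingGroup (Fin 4)))) : ∃ g : GL (Fin 2) (ZMod (2 ^ k)), H₂ = H₁.map (MulAut.conj g).toMonoidHom := by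
  obtain ⟨e₁⟩ := h₁
  obtain ⟨e₂⟩ := h₂
  have key : ∀ (H : Subgroup (GL (Fin 2) (ZMod (2 ^ k))))
      (e : ↥H ≃* ↥(alternatingGroup (Fin 4))),
      ∃ (g : GL (Fin 2) (ZMod (2 ^ k)))
        (F : alternatingGroup (Fin 4) →* GL (Fin 2) (ZMod (2 ^ k)))
        (a : alternatingGroup (Fin 4)),
        Function.Injective F ∧ a ^ 3 = 1 ∧ a ≠ 1 ∧ F a = c0 k ∧
          ∀ x, x ∈ F.range ↔ ∃ y ∈ H, g * y * g⁻¹ = x := by
    intro H e
    obtain ⟨a, ha3, ha1⟩ := alt4_exists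
    obtain ⟨F₀, hF₀⟩ : ∃ F₀ : alternatingGroup (Fin 4) →* GL (Fin 2) (ZMod (2 ^ k)),
        F₀ = H.subtype.comp e.symm.toMonoidHom := ⟨_, rfl⟩
    have hF₀a : ∀ b, F₀ b = ((e.symm b : ↥H) : GL (Fin 2) (ZMod (2 ^ k))) := by
      intro b; rw [hF₀]; rfl
    have hinj : Function.Injective F₀ := by
      intro b b' hbb
      rw [hF₀a, hF₀a] at hbb
      exact e.symm.injective (Subtype.ext hbb)
    have hc3 : (F₀ a) ^ 3 = 1 := by rw [← map_pow, ha3, map_one]
    have hc1 : F₀ a ≠ 1 := fun h => ha1 (hinj (h.trans (map_one F₀).symm))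
    obtain ⟨g, hg⟩ := conj_std hk (F₀ a) hc3 hc1
    refine ⟨g, (MulAut.conj g).toMonoidHom.comp F₀, a, ?_, ha3, ha1, ?_, ?_⟩
    · exact (MulAut.conj g).injective.comp hinj
    · simpa [MulAut.conj_apply] using hg
    · intro x
      constructor
      · rintro ⟨b, rfl⟩
        exact ⟨F₀ b, by rw [hF₀a]; exact (e.symm b).2, by simp [MulAut.conj_apply]⟩
      · rintro ⟨y, hy, rfl⟩
        refine ⟨e ⟨y, hy⟩, ?_⟩
        simp [MulAut.conj_apply, hF₀a]
  obtain ⟨g₁, F₁, a₁, hi₁, ha₁3, ha₁1, hF₁, hr₁⟩ := key H₁ e₁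
  obtain ⟨g₂, F₂, a₂, hi₂, ha₂3, ha₂1, hF₂, hr₂⟩ := key H₂ e₂
  have heq : F₁.range = F₂.range :=
    le_antisymm (range_le hk F₁ F₂ hi₁ hi₂ a₁ a₂ ha₁3 ha₁1 ha₂3 ha₂1 hF₁ hF₂)
      (range_le hk F₂ F₁ hi₂ hi₁ a₂ a₁ ha₂3 ha₂1 ha₁3 ha₁1 hF₂ hF₁)
  refine ⟨g₂⁻¹ * g₁, ?_⟩
  ext x
  simp only [Subgroup.mem_map, MulEquiv.coe_toMonoidHom, MulAut.conj_apply]
  constructor
  · intro hx
    have h2 : g₂ * x * g₂⁻¹ ∈ F₂.range := (hr₂ _).mpr ⟨x, hx, rfl⟩
    rw [← heq] at h2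
    obtain ⟨y, hy, hyx⟩ := (hr₁ _).mp h2
    refine ⟨y, hy, ?_⟩
    calc g₂⁻¹ * g₁ * y * (g₂⁻¹ * g₁)⁻¹ = g₂⁻¹ * (g₁ * y * g₁⁻¹) * g₂ := by group
      _ = g₂⁻¹ * (g₂ * x * g₂⁻¹) * g₂ := by rw [hyx]
      _ = x := by group
  · rintro ⟨y, hy, rfl⟩
    have h1 : g₁ * y * g₁⁻¹ ∈ F₁.range := (hr₁ _).mpr ⟨y, hy, rfl⟩
    rw [heq] at h1
    obtain ⟨x, hx, hxy⟩ := (hr₂ _).mp h1
    have : g₂⁻¹ * g₁ * y * (g₂⁻¹ * g₁)⁻¹ = x := by
      calc g₂⁻¹ * g₁ * y * (g₂⁻¹ * g₁)⁻¹ = g₂⁻¹ * (g₁ * y * g₁⁻¹) * g₂ := by group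
        _ = g₂⁻¹ * (g₂ * x * g₂⁻¹) * g₂ := by rw [hxy]
        _ = x := by group
    rw [this]
    exact hx

end Cfsg.Agent.S2874
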