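import Cfsg.Statements.S2879
import Cfsg.Agent.Lib.helper3.QuatSylow
import Cfsg.Agent.Lib.helper60.HallHigman
import Cfsg.Agent.Lib.helper40.Cores
import Cfsg.Agent.Lib.helper55.Basic

set_option autoImplicit false
open Cfsg

namespace Cfsg.Agent.S2879

/-- Core lemma: a 2-group `Q` with a cyclic subgroup `⟨a⟩` of index 2, normalized but not
centralized by an odd-order element `g`, is a quaternion group of order 8 on which `g` acts
with order 3 (the case `|Q| = 4` being excluded by an invariant subgroup of order 2). -/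
theorem q8_core {G : Type*} [Group G] [Finite G] (Q : Subgroup G) (hQ : IsPGroup 2 Q)
    (a g : G) (haQ : a ∈ Q) (hcardQ : Nat.card Q = 2 * orderOf a)
    (hgN : g ∈ Subgroup.normalizer (Q : Set G)) (hodd : (orderOf g).Coprime 2)
    (hgC : g ∉ Subgroup.centralizer (Q : Set G))
    (hZ : Nat.card Q = 4 → ∃ Z₀ : Subgroup G, Z₀ ≤ Q ∧ Z₀ ≠ ⊥ ∧ Z₀ ≠ Q ∧
      ∀ k ∈ Z₀, g * k * g⁻¹ ∈ Z₀) :
    ∃ b : G, b ∈ Q ∧ b ∉ Subgroup.zpowers a ∧ a ^ 4 = 1 ∧ a ^ 2 ≠ 1 ∧ b ^ 2 = a ^ 2 ∧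
      b * a * b⁻¹ = a⁻¹ ∧ g * a * g⁻¹ = b ∧ (g * b * g⁻¹ = b * a ∨ g * b * g⁻¹ = a * b) ∧
      g ^ 3 ∈ Subgroup.centralizer (Q : Set G) := by
  haveI : Fact (Nat.Prime 2) := ⟨Nat.prime_two⟩
  have hconj : ∀ {u : G}, u ∈ Subgroup.normalizer (Q : Set G) → ∀ {s : G}, s ∈ Q →
      u * s * u⁻¹ ∈ Q := fun hu s hs => (Subgroup.mem_normalizer_iff.mp hu s).mp hs
  have hL1 : ∀ (u c : G), u ∈ Subgroup.normalizer (Q : Set G) → (orderOf u).Coprime 2 →
      c ∈ Q → Nat.card Q = 2 * orderOf c → u * c * u⁻¹ ∈ Subgroup.zpowers c →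
      u ∈ Subgroup.centralizer (Q : Set G) := by
    intro u c hu hou hc hcc hmem
    refine Cfsg.Agent.Lib.helper3.mem_centralizer_of_cyclic_index_two hQ
      (Subgroup.zpowers_le.mpr hc) (by rw [Nat.card_zpowers]; exact hcc) hu hou ?_
    intro k hk
    obtain ⟨i, rfl⟩ := Subgroup.mem_zpowers_iff.mp hk
    rw [← conj_zpow]; exact Subgroup.zpow_mem _ hmem i
  obtain ⟨b, hb_def⟩ : ∃ b : G, b = g * a * g⁻¹ := ⟨_, rfl⟩
  have hbQ : b ∈ Q := by rw [hb_def]; exact hconj hgN haQ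
  have hb : b ∉ Subgroup.zpowers a := by
    rw [hb_def]; exact fun h => hgC (hL1 g a hgN hodd haQ hcardQ h)
  have hob : orderOf b = orderOf a := by
    rw [hb_def]
    exact orderOf_injective (MulAut.conj g).toMonoidHom (MulAut.conj g).injective a
  have hcardb : Nat.card Q = 2 * orderOf b := by rw [hob]; exact hcardQ
  have ha_nb : a ∉ Subgroup.zpowers b := by
    intro h
    have hle : Subgroup.zpowers a ≤ Subgroup.zpowers b := Subgroup.zpowers_le.mpr h
    have heq : Subgroup.zpowers a = Subgroup.zpowers b :=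
      Subgroup.eq_of_le_of_card_ge hle (by rw [Nat.card_zpowers, Nat.card_zpowers, hob])
    exact hb (heq ▸ Subgroup.mem_zpowers b)
  have hAle : Subgroup.zpowers a ≤ Q := Subgroup.zpowers_le.mpr haQ
  have hBle : Subgroup.zpowers b ≤ Q := Subgroup.zpowers_le.mpr hbQ
  have hcA : Nat.card Q = 2 * Nat.card (Subgroup.zpowers a) := by
    rw [Nat.card_zpowers]; exact hcardQ
  have hcB : Nat.card Q = 2 * Nat.card (Subgroup.zpowers b) := by
    rw [Nat.card_zpowers]; exact hcardb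
  have ha2b : a ^ 2 ∈ Subgroup.zpowers b := by
    have := Cfsg.Agent.Lib.helper3.mul_inv_mem_of_card_eq_two_mul hBle hcB haQ
      (Q.inv_mem haQ) ha_nb (fun h => ha_nb (by simpa using Subgroup.inv_mem _ h))
    simpa [sq] using this
  have hb2a : b ^ 2 ∈ Subgroup.zpowers a := by
    have := Cfsg.Agent.Lib.helper3.mul_inv_mem_of_card_eq_two_mul hAle hcA hbQ
      (Q.inv_mem hbQ) hb (fun h => hb (by simpa using Subgroup.inv_mem _ h))
    simpa [sq] using this
  have hz2' : ∀ (x : G) (j : ℤ), x ^ (2 * j) = (x ^ 2) ^ j := by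
    intro x j; rw [zpow_mul]; norm_cast
  have hz2 : ∀ j : ℤ, a ^ (2 * j) = (a ^ 2) ^ j := hz2' a
  have hwb : Commute (a ^ 2) b := by
    obtain ⟨i, hi⟩ := Subgroup.mem_zpowers_iff.mp ha2b
    rw [← hi]; exact (Commute.refl b).zpow_left i
  have hwa : Commute (a ^ 2) a := (Commute.refl a).pow_left 2
  -- `b² ∈ ⟨a²⟩`
  have hb2w : b ^ 2 ∈ Subgroup.zpowers (a ^ 2) := by
    obtain ⟨k, hk⟩ := Subgroup.mem_zpowers_iff.mp hb2a
    rcases Int.even_or_odd' k with ⟨j, rfl | rfl⟩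
    · exact Subgroup.mem_zpowers_iff.mpr ⟨j, by rw [← hk, hz2]⟩
    · exfalso
      apply ha_nb
      have h1 : a = b ^ 2 * (a ^ 2) ^ (-j) := by
        rw [← hk, ← hz2]; group
      rw [h1]
      exact Subgroup.mul_mem _ (Subgroup.pow_mem _ (Subgroup.mem_zpowers b) 2)
        (Subgroup.zpow_mem _ ha2b _)
  have hgw : g * a ^ 2 * g⁻¹ = a ^ 2 := by
    have hN : g ∈ Subgroup.normalizer ((Subgroup.zpowers (a ^ 2) : Subgroup G) : Set G) := by
      apply Cfsg.Agent.Lib.helper26.mem_normalizer_of_forall_conj_mem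
      intro x hx
      obtain ⟨i, rfl⟩ := Subgroup.mem_zpowers_iff.mp hx
      rw [← conj_zpow, ← conj_pow, ← hb_def]
      exact Subgroup.zpow_mem _ hb2w i
    have hP : IsPGroup 2 (Subgroup.zpowers (a ^ 2)) :=
      hQ.to_le (Subgroup.zpowers_le.mpr (Q.pow_mem haQ 2))
    have hC := Cfsg.Agent.Lib.helper26.mem_centralizer_of_normalizer_cyclic_two
      (Subgroup.zpowers (a ^ 2)) hP g hN hodd
    have := Subgroup.mem_centralizer_iff.mp hC (a ^ 2) (Subgroup.mem_zpowers _)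
    rw [← this]; group
  have hb2 : b ^ 2 = a ^ 2 := by rw [hb_def, conj_pow]; exact hgw
  obtain ⟨e, he_def⟩ : ∃ e : G, e = g * b * g⁻¹ := ⟨_, rfl⟩
  have heQ : e ∈ Q := by rw [he_def]; exact hconj hgN hbQ
  have he1 : e ∉ Subgroup.zpowers b := by
    rw [he_def]; exact fun h => hgC (hL1 g b hgN hodd hbQ hcardb h)
  have he2 : e ∉ Subgroup.zpowers a := by
    intro h
    have hg2N : g ^ 2 ∈ Subgroup.normalizer (Q : Set G) := Subgroup.pow_mem _ hgN 2
    have hg2o : (orderOf (g ^ 2)).Coprime 2 :=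
      Nat.Coprime.coprime_dvd_left (orderOf_pow_dvd 2) hodd
    have hmem : g ^ 2 * a * (g ^ 2)⁻¹ ∈ Subgroup.zpowers a := by
      have : g ^ 2 * a * (g ^ 2)⁻¹ = e := by
        rw [he_def, hb_def]
        simp only [sq, _root_.mul_inv_rev, mul_assoc]
      rw [this]; exact h
    have hg2C := hL1 (g ^ 2) a hg2N hg2o haQ hcardQ hmem
    obtain ⟨m, hm⟩ := exists_pow_eq_self_of_coprime (x := g) (n := 2) hodd.symm
    have := Subgroup.pow_mem _ hg2C m
    rw [hm] at this
    exact hgC this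
  have h1 : e * b⁻¹ ∈ Subgroup.zpowers a :=
    Cfsg.Agent.Lib.helper3.mul_inv_mem_of_card_eq_two_mul hAle hcA heQ hbQ he2 hb
  obtain ⟨k, hk⟩ := Subgroup.mem_zpowers_iff.mp h1
  have hek : e = a ^ k * b := by rw [hk]; group
  obtain ⟨j, hj⟩ : ∃ j : ℤ, k = 2 * j + 1 := by
    rcases Int.even_or_odd' k with ⟨j, hj | hj⟩
    · exfalso
      apply he1
      rw [hek, hj, hz2, ← hb2]
      exact Subgroup.mul_mem _ (Subgroup.zpow_mem _
        (Subgroup.pow_mem _ (Subgroup.mem_zpowers b) 2) _) (Subgroup.mem_zpowers b)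
    · exact ⟨j, hj⟩
  obtain ⟨ζ, hζ_def⟩ : ∃ ζ : G, ζ = (a ^ 2) ^ j := ⟨_, rfl⟩
  have hζa : Commute ζ a := by rw [hζ_def]; exact hwa.zpow_left j
  have hζb : Commute ζ b := by rw [hζ_def]; exact hwb.zpow_left j
  have heζ : e = ζ * (a * b) := by
    rw [hek, hj, hζ_def, ← hz2]; group
  have he_sq : e ^ 2 = a ^ 2 := by rw [he_def, conj_pow, hb2, hgw]
  obtain ⟨κ, hκ_def⟩ : ∃ κ : G, κ = a * b * a⁻¹ * b⁻¹ := ⟨_, rfl⟩
  have hab2 : (a * b) ^ 2 = κ * a ^ 2 * a ^ 2 := by
    have h2 : b * a ^ 2 = a ^ 2 * b := hwb.eq.symm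
    calc (a * b) ^ 2 = κ * (b * a ^ 2) * b := by rw [hκ_def, sq, sq]; group
      _ = κ * a ^ 2 * b ^ 2 := by rw [h2, sq b]; simp only [mul_assoc]
      _ = κ * a ^ 2 * a ^ 2 := by rw [hb2]
  have hκ : κ = (ζ ^ 2)⁻¹ * (a ^ 2)⁻¹ := by
    have h3 : e ^ 2 = ζ ^ 2 * (a * b) ^ 2 := by
      rw [heζ]; exact (hζa.mul_right hζb).mul_pow 2
    rw [he_sq, hab2] at h3
    have h4 : ζ ^ 2 * κ * a ^ 2 = 1 := by
      have : (ζ ^ 2 * κ * a ^ 2) * a ^ 2 = a ^ 2 := by
        calc (ζ ^ 2 * κ * a ^ 2) * a ^ 2 = ζ ^ 2 * (κ * a ^ 2 * a ^ 2) := by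
              simp only [mul_assoc]
          _ = a ^ 2 := h3.symm
      exact mul_eq_right.mp this
    calc κ = (ζ ^ 2)⁻¹ * (ζ ^ 2 * κ * a ^ 2) * (a ^ 2)⁻¹ := by group
      _ = (ζ ^ 2)⁻¹ * (a ^ 2)⁻¹ := by rw [h4, mul_one]
  have hκz : κ = (a ^ 2) ^ (-(2 * j + 1)) := by
    rw [hκ, hζ_def]; group
  have hκa : Commute κ a := by rw [hκz]; exact hwa.zpow_left _
  have hbab : b * a * b⁻¹ = κ⁻¹ * a := by rw [hκ_def]; group
  have hκ2 : κ ^ 2 = 1 := by
    have h5 : (b * a * b⁻¹) ^ 2 = a ^ 2 := by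
      rw [conj_pow, ← hwb.eq]; group
    rw [hbab, hκa.inv_left.mul_pow 2] at h5
    have h6 : κ⁻¹ ^ 2 = 1 := mul_eq_right.mp h5
    rw [inv_pow, inv_eq_one] at h6
    exact h6
  -- `a⁴ = 1`
  have ha4 : a ^ 4 = 1 := by
    have h7 : (a ^ 4) ^ (2 * j + 1) = 1 := by
      have : (a ^ 4) ^ (2 * j + 1) = (κ ^ 2)⁻¹ := by rw [hκz]; group
      rw [this, hκ2, inv_one]
    have h8 : ((orderOf (a ^ 4) : ℕ) : ℤ) ∣ 2 * j + 1 := orderOf_dvd_iff_zpow_eq_one.mpr h7
    have h9 : (orderOf (a ^ 4)).Coprime 2 := by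
      rw [Nat.coprime_comm, Nat.Prime.coprime_iff_not_dvd Nat.prime_two]
      intro h
      have : ((2 : ℕ) : ℤ) ∣ 2 * j + 1 := dvd_trans (Int.natCast_dvd_natCast.mpr h) h8
      omega
    obtain ⟨s, hs⟩ := hQ ⟨a ^ 4, Q.pow_mem haQ 4⟩
    have hs' : (a ^ 4) ^ 2 ^ s = 1 := by
      have := congrArg Subtype.val hs
      simpa using this
    exact Cfsg.Agent.Lib.helper40.eq_one_of_pow_eq_one_of_coprime hs' h9
  have ha1 : a ≠ 1 := by
    rintro rfl
    apply hb; rw [hb_def]; simp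
  have ha2 : a ^ 2 ≠ 1 := by
    intro h
    have ho : orderOf a = 2 := orderOf_eq_prime h ha1
    have hc4 : Nat.card Q = 4 := by rw [hcardQ, ho]
    obtain ⟨Z₀, hZle, hZbot, hZQ, hZg⟩ := hZ hc4
    have hdvd : Nat.card Z₀ ∣ 4 := hc4 ▸ Subgroup.card_dvd_of_le hZle
    have hcz : Nat.card Z₀ = 2 := by
      have hle : Nat.card Z₀ ≤ 4 := Nat.le_of_dvd (by norm_num) hdvd
      have h1 : Nat.card Z₀ ≠ 1 := fun h => hZbot (Subgroup.card_eq_one.mp h)
      have h4 : Nat.card Z₀ ≠ 4 := fun h =>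
        hZQ (Subgroup.eq_of_le_of_card_ge hZle (by rw [h, hc4]))
      have hmem : Nat.card Z₀ ∈ Nat.divisors 4 := Nat.mem_divisors.mpr ⟨hdvd, by norm_num⟩
      have h4d : Nat.divisors 4 = {1, 2, 4} := by decide
      rw [h4d] at hmem
      simp only [Finset.mem_insert, Finset.mem_singleton] at hmem
      rcases hmem with h | h | h
      · exact absurd h h1
      · exact h
      · exact absurd h h4
    haveI : IsCyclic Z₀ := isCyclic_of_prime_card hcz
    exact hgC (Cfsg.Agent.Lib.helper3.mem_centralizer_of_cyclic_index_two hQ hZle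
      (by rw [hc4, hcz]) hgN hodd hZg)
  have ha22 : (a ^ 2) ^ 2 = 1 := by rw [← pow_mul]; exact ha4
  have hκw : κ = a ^ 2 := by
    have : (a ^ 2) ^ (-(2 * j + 1)) = ((a ^ 2) ^ 2) ^ (-(j + 1)) * a ^ 2 := by group
    rw [hκz, this, ha22, one_zpow, one_mul]
  have hba : b * a * b⁻¹ = a⁻¹ := by
    rw [hbab, hκw]; group
  have hbab' : b * a * b = a := by
    calc b * a * b = (b * a * b⁻¹) * b ^ 2 := by group
      _ = a := by rw [hba, hb2]; group
  have hecase : e = b * a ∨ e = a * b := by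
    rcases Int.even_or_odd' j with ⟨i, hi | hi⟩
    · right
      have : ζ = 1 := by
        rw [hζ_def, hi, hz2' (a ^ 2), ha22, one_zpow]
      rw [heζ, this, one_mul]
    · left
      have : ζ = a ^ 2 := by
        have h : (a ^ 2) ^ (2 * i + 1) = ((a ^ 2) ^ 2) ^ i * a ^ 2 := by group
        rw [hζ_def, hi, h, ha22, one_zpow, one_mul]
      rw [heζ, this]
      have hba' : b * a = a⁻¹ * b := by rw [← hba]; group
      calc a ^ 2 * (a * b) = a ^ 4 * (a⁻¹ * b) := by group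
        _ = b * a := by rw [ha4, one_mul, hba']
  have hg3 : g ^ 3 ∈ Subgroup.centralizer (Q : Set G) := by
    have hg3N : g ^ 3 ∈ Subgroup.normalizer (Q : Set G) := Subgroup.pow_mem _ hgN 3
    have hg3o : (orderOf (g ^ 3)).Coprime 2 :=
      Nat.Coprime.coprime_dvd_left (orderOf_pow_dvd 3) hodd
    have hmem : g ^ 3 * a * (g ^ 3)⁻¹ ∈ Subgroup.zpowers a := by
      have h1 : g ^ 3 * a * (g ^ 3)⁻¹ = g * e * g⁻¹ := by
        rw [he_def, hb_def]
        simp only [pow_succ, pow_zero, one_mul, mul_inv_rev, mul_assoc]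
      have h2 : g * e * g⁻¹ = a := by
        rcases hecase with h | h
        · have : g * e * g⁻¹ = (g * b * g⁻¹) * (g * a * g⁻¹) := by rw [h]; group
          rw [this, ← he_def, ← hb_def, h]; exact hbab'
        · have : g * e * g⁻¹ = (g * a * g⁻¹) * (g * b * g⁻¹) := by rw [h]; group
          rw [this, ← he_def, ← hb_def, h, ← mul_assoc]; exact hbab'
      rw [h1, h2]; exact Subgroup.mem_zpowers a
    exact hL1 (g ^ 3) a hg3N hg3o haQ hcardQ hmem
  exact ⟨b, hbQ, hb, ha4, ha2, hb2, hba, hb_def.symm, he_def ▸ hecase, hg3⟩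

/-- A group with a self-centralizing normal quaternion subgroup of order 8 has order at
most 60 (in fact at most 48). -/
theorem card_le_sixty {G : Type*} [Group G] [Finite G] (Q : Subgroup G) (hQn : Q.Normal)
    (hC : Subgroup.centralizer (Q : Set G) ≤ Q) (a b : G) (haQ : a ∈ Q) (hbQ : b ∈ Q)
    (hcard : Nat.card Q = 8) (hb : b ∉ Subgroup.zpowers a) (ha4 : a ^ 4 = 1)
    (ha2 : a ^ 2 ≠ 1) (hb2 : b ^ 2 = a ^ 2) (hba : b * a * b⁻¹ = a⁻¹) :
    Nat.card G ≤ 60 := by
  classical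
  haveI : Fintype G := Fintype.ofFinite G
  have hoa : orderOf a = 4 := by
    have h1 : ¬ a ^ 2 ^ 1 = 1 := by rw [pow_one]; exact ha2
    have h2 : a ^ 2 ^ (1 + 1) = 1 := by
      have e : (2 : ℕ) ^ (1 + 1) = 4 := by norm_num
      rw [e]; exact ha4
    have := orderOf_eq_prime_pow h1 h2
    rw [this]; norm_num
  have hAle : Subgroup.zpowers a ≤ Q := Subgroup.zpowers_le.mpr haQ
  have hcA : Nat.card Q = 2 * Nat.card (Subgroup.zpowers a) := by
    rw [Nat.card_zpowers, hoa, hcard]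
  have hform : ∀ x ∈ Q, ∃ k : ℤ, x = a ^ k ∨ x = a ^ k * b := by
    intro x hx
    by_cases hxa : x ∈ Subgroup.zpowers a
    · obtain ⟨k, hk⟩ := Subgroup.mem_zpowers_iff.mp hxa
      exact ⟨k, Or.inl hk.symm⟩
    · have := Cfsg.Agent.Lib.helper3.mul_inv_mem_of_card_eq_two_mul hAle hcA hx hbQ hxa hb
      obtain ⟨k, hk⟩ := Subgroup.mem_zpowers_iff.mp this
      exact ⟨k, Or.inr (by rw [hk]; group)⟩
  have hz2' : ∀ (x : G) (j : ℤ), x ^ (2 * j) = (x ^ 2) ^ j := by
    intro x j; rw [zpow_mul]; norm_cast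
  have ha22 : (a ^ 2) ^ 2 = 1 := by rw [← pow_mul]; exact ha4
  have hab : a ≠ b := fun h => hb (h ▸ Subgroup.mem_zpowers a)
  -- elements commuting with `a` and `b` are `1` or `a²`
  have hcent : ∀ d : G, Commute d a → Commute d b → d = 1 ∨ d = a ^ 2 := by
    intro d hda hdb
    have hdQ : d ∈ Q := by
      apply hC
      rw [Subgroup.mem_centralizer_iff]
      intro q hq
      obtain ⟨k, rfl | rfl⟩ := hform q hq
      · exact (hda.zpow_right k).eq.symm
      · exact ((hda.zpow_right k).mul_right hdb).eq.symm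
    obtain ⟨k, rfl | rfl⟩ := hform d hdQ
    · have h1 : b * a ^ k * b⁻¹ = a ^ k := by rw [← hdb.eq]; group
      rw [← conj_zpow, hba, inv_zpow] at h1
      have h2 : a ^ (2 * k) = 1 := by
        have : a ^ k * a ^ k = 1 := by nth_rewrite 1 [← h1]; exact inv_mul_cancel _
        rw [two_mul, zpow_add]; exact this
      rcases Int.even_or_odd' k with ⟨i, hi | hi⟩
      · rcases Int.even_or_odd' i with ⟨m, hm | hm⟩
        · left
          rw [hi, hz2' a, hm, hz2' (a ^ 2), ha22, one_zpow]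
        · right
          have h : (a ^ 2) ^ (2 * m + 1) = ((a ^ 2) ^ 2) ^ m * a ^ 2 := by group
          rw [hi, hz2' a, hm, h, ha22, one_zpow, one_mul]
      · exfalso
        apply ha2
        have h : a ^ (2 * (2 * i + 1)) = (a ^ 4) ^ i * a ^ 2 := by group
        rw [hi, h, ha4, one_zpow, one_mul] at h2
        exact h2
    · exfalso
      have h := hda.eq
      have h1 : b * a = a * b := by
        calc b * a = (a ^ k)⁻¹ * (a ^ k * b * a) := by group
          _ = (a ^ k)⁻¹ * (a * (a ^ k * b)) := by rw [h]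
          _ = a * b := by group
      have h2 : a⁻¹ = a := by rw [← hba, h1]; group
      apply ha2
      rw [sq]
      nth_rewrite 1 [← h2]
      exact inv_mul_cancel a
  -- the set of elements of `Q` with nontrivial square
  set S : Finset G := Finset.univ.filter (fun q => q ∈ Q ∧ q ^ 2 ≠ 1) with hS
  have hScard : S.card ≤ 6 := by
    have hsub : S ⊆ (Finset.univ.filter (fun q => q ∈ Q)) \ {1, a ^ 2} := by
      intro q hq
      rw [hS, Finset.mem_filter] at hq
      rw [Finset.mem_sdiff, Finset.mem_filter]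
      refine ⟨⟨Finset.mem_univ _, hq.2.1⟩, ?_⟩
      intro hmem
      rw [Finset.mem_insert, Finset.mem_singleton] at hmem
      rcases hmem with rfl | rfl
      · exact hq.2.2 (one_pow 2)
      · exact hq.2.2 ha22
    have h2 : ({1, a ^ 2} : Finset G) ⊆ Finset.univ.filter (fun q => q ∈ Q) := by
      intro q hq
      rw [Finset.mem_insert, Finset.mem_singleton] at hq
      rw [Finset.mem_filter]
      rcases hq with rfl | rfl
      · exact ⟨Finset.mem_univ _, Q.one_mem⟩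
      · exact ⟨Finset.mem_univ _, Q.pow_mem haQ 2⟩
    have h3 : (Finset.univ.filter (fun q => q ∈ Q)).card = 8 := by
      rw [← hcard, Nat.card_eq_fintype_card, Fintype.card_subtype]
    have h4 : ({1, a ^ 2} : Finset G).card = 2 := Finset.card_pair (fun h => ha2 h.symm)
    calc S.card ≤ ((Finset.univ.filter (fun q => q ∈ Q)) \ {1, a ^ 2}).card :=
          Finset.card_le_card hsub
      _ = 6 := by rw [Finset.card_sdiff_of_subset h2, h3, h4]
  have hoff : S.offDiag.card ≤ 30 := by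
    rw [Finset.offDiag_card]
    have h6 : ∀ n : ℕ, n ≤ 6 → n * n - n ≤ 30 := by decide
    exact h6 _ hScard
  let f : G → G × G := fun h => (h * a * h⁻¹, h * b * h⁻¹)
  have hmaps : ∀ h ∈ (Finset.univ : Finset G), f h ∈ S.offDiag := by
    intro h _
    rw [Finset.mem_offDiag, hS, Finset.mem_filter, Finset.mem_filter]
    refine ⟨⟨Finset.mem_univ _, hQn.conj_mem a haQ h, ?_⟩,
      ⟨Finset.mem_univ _, hQn.conj_mem b hbQ h, ?_⟩, ?_⟩
    · show (h * a * h⁻¹) ^ 2 ≠ 1
      rw [conj_pow]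
      intro h1
      apply ha2
      have := congrArg (fun t => h⁻¹ * t * h) h1
      simpa [mul_assoc] using this
    · show (h * b * h⁻¹) ^ 2 ≠ 1
      rw [conj_pow, hb2]
      intro h1
      apply ha2
      have := congrArg (fun t => h⁻¹ * t * h) h1
      simpa [mul_assoc] using this
    · show h * a * h⁻¹ ≠ h * b * h⁻¹
      intro h1
      apply hab
      have := congrArg (fun t => h⁻¹ * t * h) h1
      simpa [mul_assoc] using this
  have hfib : ∀ y ∈ S.offDiag, (Finset.univ.filter (fun x => f x = y)).card ≤ 2 := by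
    intro y _
    by_cases hne : (Finset.univ.filter (fun x => f x = y)).Nonempty
    · obtain ⟨h₀, hh₀⟩ := hne
      rw [Finset.mem_filter] at hh₀
      have hsub : Finset.univ.filter (fun x => f x = y) ⊆ {h₀, h₀ * a ^ 2} := by
        intro x hx
        rw [Finset.mem_filter] at hx
        have hfx : f x = f h₀ := hx.2.trans hh₀.2.symm
        have hx1 : x * a * x⁻¹ = h₀ * a * h₀⁻¹ := congrArg Prod.fst hfx
        have hx2 : x * b * x⁻¹ = h₀ * b * h₀⁻¹ := congrArg Prod.snd hfx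
        have hda : Commute (h₀⁻¹ * x) a := by
          have : (h₀⁻¹ * x) * a * (h₀⁻¹ * x)⁻¹ = a := by
            calc (h₀⁻¹ * x) * a * (h₀⁻¹ * x)⁻¹ = h₀⁻¹ * (x * a * x⁻¹) * h₀ := by group
              _ = h₀⁻¹ * (h₀ * a * h₀⁻¹) * h₀ := by rw [hx1]
              _ = a := by group
          exact mul_inv_eq_iff_eq_mul.mp this
        have hdb : Commute (h₀⁻¹ * x) b := by
          have : (h₀⁻¹ * x) * b * (h₀⁻¹ * x)⁻¹ = b := by
            calc (h₀⁻¹ * x) * b * (h₀⁻¹ * x)⁻¹ = h₀⁻¹ * (x * b * x⁻¹) * h₀ := by group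
              _ = h₀⁻¹ * (h₀ * b * h₀⁻¹) * h₀ := by rw [hx2]
              _ = b := by group
          exact mul_inv_eq_iff_eq_mul.mp this
        rw [Finset.mem_insert, Finset.mem_singleton]
        rcases hcent _ hda hdb with h | h
        · left
          calc x = h₀ * (h₀⁻¹ * x) := by group
            _ = h₀ := by rw [h, mul_one]
        · right
          calc x = h₀ * (h₀⁻¹ * x) := by group
            _ = h₀ * a ^ 2 := by rw [h]
      exact (Finset.card_le_card hsub).trans Finset.card_le_two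
    · rw [Finset.not_nonempty_iff_eq_empty] at hne
      rw [hne]; simp
  have hmain := Finset.card_le_mul_card_image_of_maps_to hmaps 2 hfib
  rw [Nat.card_eq_fintype_card, ← Finset.card_univ]
  omega

/-- Let G be a finite solvable group with O(G) = 1 whose Sylow 2-subgroup T is dihedral of order at least 8 or semidihedral, with G ≠ T and Z(T) normal in G. Then G has a normal subgroup isomorphic to SL₂(3). -/
theorem result {G : Type*} [Group G] [Finite G] (hsol : IsSolvable G) (hO : Cfsg.oddCore G = ⊥) (T : Sylow 2 G) (hT : (∃ n : ℕ, 4 ≤ n ∧ Nonempty (↥(T : Subgroup G) ≃* DihedralGroup n)) ∨ Cfsg.IsQuasiDihedral ↥(T : Subgroup G)) (hne : (T : Subgroup G) ≠ ⊤) (hZ : ((T : Subgroup G) ⊓ Subgroup.centralizer ((T : Subgroup G) : Set G)).Normal) : ∃ U : Subgroup G, U.Normal ∧ Nonempty (↥U ≃* Matrix.SpecialLinearGroup (Fin 2) (ZMod 3)) := by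
  classical
  haveI : Fact (Nat.Prime 2) := ⟨Nat.prime_two⟩
  haveI : Group.IsSolvable G := hsol
  -- a cyclic subgroup of index 2 in `T`
  obtain ⟨x, hxT, hcardT, h8⟩ : ∃ x : G, x ∈ (T : Subgroup G) ∧
      Nat.card (T : Subgroup G) = 2 * orderOf x ∧ 8 ≤ Nat.card (T : Subgroup G) := by
    rcases hT with ⟨n, hn, ⟨e⟩⟩ | ⟨n, hn, hcard, x, y, hx, hy, hxy⟩
    · have hc : Nat.card (T : Subgroup G) = 2 * n := by
        rw [Nat.card_congr e.toEquiv, DihedralGroup.nat_card]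
      refine ⟨(e.symm (DihedralGroup.r 1) : G), (e.symm _).2, ?_, by rw [hc]; omega⟩
      rw [Subgroup.orderOf_coe, MulEquiv.orderOf_eq, DihedralGroup.orderOf_r_one, hc]
    · refine ⟨(x : G), x.2, ?_, ?_⟩
      · rw [Subgroup.orderOf_coe, hx, hcard, pow_succ, mul_comm]
      · rw [hcard]
        calc 8 ≤ 2 ^ (3 + 1) := by norm_num
          _ ≤ 2 ^ (n + 1) := Nat.pow_le_pow_right (by norm_num) (by omega)
  obtain ⟨Q, hQ_def⟩ : ∃ Q : Subgroup G, Q = Cfsg.pCore 2 G := ⟨_, rfl⟩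
  have hQn : Q.Normal := hQ_def ▸ Cfsg.Agent.Lib.helper40.pCore_normal' 2 G
  have hQp : IsPGroup 2 Q := hQ_def ▸ Cfsg.Agent.Lib.helper40.pCore_isPGroup 2 G
  have hCQ : Subgroup.centralizer (Q : Set G) ≤ Q :=
    hQ_def ▸ Cfsg.Agent.Lib.helper60.centralizer_pCore_le 2 hO
  have hQT : Q ≤ (T : Subgroup G) := hQ_def ▸ Cfsg.Agent.Lib.helper55.pCore_le_sylow T
  have hodd1 : ∀ u ∈ Q, (orderOf u).Coprime 2 → u = 1 := by
    intro u hu hou
    obtain ⟨s, hs⟩ := hQp ⟨u, hu⟩
    have hs' : u ^ 2 ^ s = 1 := by simpa using congrArg Subtype.val hs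
    exact Cfsg.Agent.Lib.helper40.eq_one_of_pow_eq_one_of_coprime hs' hou
  -- an element of odd prime order
  obtain ⟨g, hg1, hgodd⟩ : ∃ g : G, g ≠ 1 ∧ (orderOf g).Coprime 2 := by
    have hidx : (T : Subgroup G).index ≠ 1 := fun h => hne (Subgroup.index_eq_one.mp h)
    obtain ⟨p, hp, hpd⟩ := Nat.exists_prime_and_dvd hidx
    have hp2 : p ≠ 2 := by
      rintro rfl
      exact T.not_dvd_index hpd
    haveI := Fact.mk hp
    obtain ⟨g, hg⟩ := exists_prime_orderOf_dvd_card' p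
      (dvd_trans hpd (Subgroup.index_dvd_card _))
    refine ⟨g, ?_, ?_⟩
    · rintro rfl
      rw [orderOf_one] at hg
      exact hp.one_lt.ne' hg.symm
    · rw [hg]; exact (Nat.coprime_primes hp Nat.prime_two).mpr hp2
  have hgC : g ∉ Subgroup.centralizer (Q : Set G) := fun h => hg1 (hodd1 g (hCQ h) hgodd)
  have hgN : g ∈ Subgroup.normalizer (Q : Set G) := by
    rw [Subgroup.normalizer_eq_top]; exact Subgroup.mem_top g
  -- a cyclic subgroup of index 2 in `Q`
  obtain ⟨a, haQ, hcardQ⟩ : ∃ a : G, a ∈ Q ∧ Nat.card Q = 2 * orderOf a := by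
    have hA : IsCyclic ↥(Subgroup.zpowers x ⊓ Q) := Subgroup.isCyclic_of_le inf_le_left
    obtain ⟨a, ha⟩ := (Subgroup.isCyclic_iff_exists_zpowers_eq_top _).mp hA
    have haA : a ∈ Subgroup.zpowers x ⊓ Q := ha ▸ Subgroup.mem_zpowers a
    refine ⟨a, haA.2, ?_⟩
    have hrel : (Subgroup.zpowers x).relIndex (T : Subgroup G) = 2 := by
      have h1 := Cfsg.Agent.Lib.helper66.card_mul_relIndex (Subgroup.zpowers_le.mpr hxT)
      rw [Nat.card_zpowers, hcardT, mul_comm] at h1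
      exact Nat.eq_of_mul_eq_mul_right (orderOf_pos x) h1
    have hle2 : (Subgroup.zpowers x ⊓ Q).relIndex Q ≤ 2 := by
      rw [Subgroup.inf_relIndex_right, ← hrel]
      exact Subgroup.relIndex_le_of_le_right hQT (by rw [hrel]; norm_num)
    have hne1 : (Subgroup.zpowers x ⊓ Q).relIndex Q ≠ 1 := by
      intro h
      have hQle : Q ≤ Subgroup.zpowers x ⊓ Q := Subgroup.relIndex_eq_one.mp h
      haveI : IsCyclic Q := Subgroup.isCyclic_of_le hQle
      exact hgC (Cfsg.Agent.Lib.helper26.mem_centralizer_of_normalizer_cyclic_two Q hQp g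
        hgN hgodd)
    have hne0 : (Subgroup.zpowers x ⊓ Q).relIndex Q ≠ 0 :=
      Subgroup.index_ne_zero_of_finite (H := (Subgroup.zpowers x ⊓ Q).subgroupOf Q)
    have h2 : (Subgroup.zpowers x ⊓ Q).relIndex Q = 2 := by omega
    have h3 := Cfsg.Agent.Lib.helper66.card_mul_relIndex
      (inf_le_right : Subgroup.zpowers x ⊓ Q ≤ Q)
    rw [h2, ← ha, Nat.card_zpowers] at h3
    omega
  -- the invariant subgroup `Z(T)` (used only when `|Q| = 4`)
  have hZ4 : Nat.card Q = 4 → ∃ Z₁ : Subgroup G, Z₁ ≤ Q ∧ Z₁ ≠ ⊥ ∧ Z₁ ≠ Q ∧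
      ∀ k ∈ Z₁, g * k * g⁻¹ ∈ Z₁ := by
    intro h4
    refine ⟨(T : Subgroup G) ⊓ Subgroup.centralizer ((T : Subgroup G) : Set G), ?_, ?_, ?_,
      fun k hk => hZ.conj_mem k hk g⟩
    · exact fun z hz => hCQ (Subgroup.centralizer_le (by exact_mod_cast hQT) hz.2)
    · intro hbot
      haveI : Nontrivial (T : Subgroup G) := by
        rw [← Finite.one_lt_card_iff_nontrivial]; omega
      haveI : Nontrivial (Subgroup.center (T : Subgroup G)) := T.isPGroup'.center_nontrivial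
      obtain ⟨z, hz1⟩ := exists_ne (1 : Subgroup.center (T : Subgroup G))
      have hzmem : ((z : (T : Subgroup G)) : G) ∈
          (T : Subgroup G) ⊓ Subgroup.centralizer ((T : Subgroup G) : Set G) := by
        refine Subgroup.mem_inf.mpr ⟨(z : (T : Subgroup G)).2, ?_⟩
        rw [Subgroup.mem_centralizer_iff]
        intro t ht
        have := Subgroup.mem_center_iff.mp z.2 ⟨t, ht⟩
        exact congrArg Subtype.val this
      rw [hbot, Subgroup.mem_bot] at hzmem
      exact hz1 (Subtype.ext (Subtype.ext hzmem))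
    · intro hZQ
      have hTQ : (T : Subgroup G) ≤ Q := by
        intro t ht
        apply hCQ
        rw [Subgroup.mem_centralizer_iff]
        intro q hq
        have hq' : q ∈ (T : Subgroup G) ⊓ Subgroup.centralizer ((T : Subgroup G) : Set G) :=
          hZQ ▸ hq
        exact (Subgroup.mem_centralizer_iff.mp hq'.2 t ht).symm
      have : Nat.card (T : Subgroup G) ≤ Nat.card Q := Subgroup.card_le_of_le hTQ
      omega
  obtain ⟨b, hbQ, hb, ha4, ha2, hb2, hba, hgab, hgb, hg3C⟩ :=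
    q8_core Q hQp a g haQ hcardQ hgN hgodd hgC hZ4
  have hg3 : g ^ 3 = 1 :=
    hodd1 (g ^ 3) (hCQ hg3C) (Nat.Coprime.coprime_dvd_left (orderOf_pow_dvd 3) hgodd)
  have hoa : orderOf a = 4 := by
    have h1 : ¬ a ^ 2 ^ 1 = 1 := by rw [pow_one]; exact ha2
    have h2 : a ^ 2 ^ (1 + 1) = 1 := by
      have e : (2 : ℕ) ^ (1 + 1) = 4 := by norm_num
      rw [e]; exact ha4
    have := orderOf_eq_prime_pow h1 h2
    rw [this]; norm_num
  have hQ8 : Nat.card Q = 8 := by rw [hcardQ, hoa]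
  have hbab' : b * a * b = a := by
    calc b * a * b = (b * a * b⁻¹) * b ^ 2 := by group
      _ = a := by rw [hba, hb2]; group
  -- generators satisfying the `SL(2,3)` relations
  obtain ⟨b', c, hb'Q, hb', hb'2, hb'a, hca, hcb, hc3⟩ : ∃ b' c : G, b' ∈ Q ∧
      b' ∉ Subgroup.zpowers a ∧ b' ^ 2 = a ^ 2 ∧ b' * a * b'⁻¹ = a⁻¹ ∧ c * a * c⁻¹ = b' ∧
      c * b' * c⁻¹ = b' * a ∧ c ^ 3 = 1 := by
    rcases hgb with hgb | hgb
    · exact ⟨b, g, hbQ, hb, hb2, hba, hgab, hgb, hg3⟩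
    · have hgab' : g * (a * b) * g⁻¹ = a := by
        calc g * (a * b) * g⁻¹ = (g * a * g⁻¹) * (g * b * g⁻¹) := by group
          _ = b * (a * b) := by rw [hgab, hgb]
          _ = a := by rw [← mul_assoc]; exact hbab'
      refine ⟨a * b, g⁻¹, Q.mul_mem haQ hbQ, ?_, ?_, ?_, ?_, ?_, ?_⟩
      · intro h
        apply hb
        have : b = a⁻¹ * (a * b) := by group
        rw [this]
        exact Subgroup.mul_mem _ (Subgroup.inv_mem _ (Subgroup.mem_zpowers a)) h
      · calc (a * b) ^ 2 = a * (b * a * b⁻¹) * b ^ 2 := by rw [sq]; group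
          _ = a ^ 2 := by rw [hba, hb2]; group
      · calc a * b * a * (a * b)⁻¹ = a * (b * a * b⁻¹) * a⁻¹ := by group
          _ = a⁻¹ := by rw [hba]; group
      · rw [inv_inv]
        calc g⁻¹ * a * g = g⁻¹ * (g * (a * b) * g⁻¹) * g := by rw [hgab']
          _ = a * b := by group
      · rw [inv_inv]
        calc g⁻¹ * (a * b) * g = g⁻¹ * (g * b * g⁻¹) * g := by rw [hgb]
          _ = b := by group
          _ = a * (b * a * b⁻¹) * b := by rw [hba]; group
          _ = a * b * a := by group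
      · rw [inv_pow, hg3, inv_one]
  -- the subgroup `U`
  obtain ⟨U, hU⟩ : ∃ U : Subgroup G, U = Subgroup.closure {a, b', c} := ⟨_, rfl⟩
  have haU : a ∈ U := hU ▸ Subgroup.subset_closure (by simp)
  have hbU : b' ∈ U := hU ▸ Subgroup.subset_closure (by simp)
  have hcU : c ∈ U := hU ▸ Subgroup.subset_closure (by simp)
  have hgenU : Subgroup.closure ({⟨a, haU⟩, ⟨b', hbU⟩, ⟨c, hcU⟩} : Set U) = ⊤ := by
    subst hU
    have h := Subgroup.closure_closure_coe_preimage (k := ({a, b', c} : Set G))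
    convert h using 2
    ext ⟨u, hu⟩
    simp [Subtype.ext_iff]
  obtain ⟨eU⟩ := Cfsg.Agent.Lib.helper3.sl23_of_rel (X := U) ⟨a, haU⟩ ⟨b', hbU⟩ ⟨c, hcU⟩
    (Subtype.ext (by simpa using ha4))
    (fun h => ha2 (by simpa using congrArg Subtype.val h))
    (Subtype.ext (by simpa using hb'2))
    (Subtype.ext (by simpa using hb'a))
    (Subtype.ext (by simpa using hca))
    (Subtype.ext (by simpa using hcb))
    (Subtype.ext (by simpa using hc3))
    hgenU
  have hcardU : Nat.card U = 24 := by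
    rw [Nat.card_congr eU.toEquiv]; exact Cfsg.Agent.Lib.helper3.sl23_card
  have hG60 : Nat.card G ≤ 60 :=
    card_le_sixty Q hQn hCQ a b' haQ hb'Q hQ8 hb' ha4 ha2 hb'2 hb'a
  have hidx : U.index = 1 ∨ U.index = 2 := by
    have h1 := U.card_mul_index
    rw [hcardU] at h1
    have h2 : U.index ≠ 0 := Subgroup.index_ne_zero_of_finite
    have h3 : 24 * U.index ≤ 60 := h1 ▸ hG60
    omega
  have hUn : U.Normal := by
    rcases hidx with h | h
    · rw [Subgroup.index_eq_one.mp h]; infer_instance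
    · exact Subgroup.normal_of_index_eq_two h
  exact ⟨U, hUn, ⟨eU⟩⟩

end Cfsg.Agent.S2879
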