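import Cfsg.Statements.S2880
import Cfsg.Agent.Lib.helper54.PGroupAux

set_option autoImplicit false
open Cfsg

namespace Cfsg.Agent.S2880

open Cfsg.Agent.Lib.helper54

open scoped commutatorElement in
/-- The basic data of an extraspecial 2-group: a central involution `z` generating the centre, with all
commutators and all squares in `{1, z}`. -/
theorem es_data {E : Type*} [Group E] [Finite E] (hE : Cfsg.IsExtraspecial 2 E) :
    ∃ z : E, z ≠ 1 ∧ z * z = 1 ∧ (∀ x : E, x * z = z * x) ∧
      (∀ x y : E, x * y = y * x ∨ x * y = y * x * z) ∧ (∀ x : E, x * x = 1 ∨ x * x = z) ∧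
      (∀ c : E, c ∈ Subgroup.center E → c = 1 ∨ c = z) := by
  obtain ⟨⟨hp, hfr, hco⟩, hc2⟩ := hE
  obtain ⟨zz, hz1, hzu⟩ := (Nat.card_eq_two_iff' (1 : Subgroup.center E)).mp hc2
  have hcen : ∀ c : E, c ∈ Subgroup.center E → c = 1 ∨ c = (zz : E) := by
    intro c hc
    by_cases h1 : c = 1
    · exact Or.inl h1
    · right
      have h2 : (⟨c, hc⟩ : Subgroup.center E) ≠ 1 := by
        intro h; apply h1; exact congrArg Subtype.val h
      exact congrArg Subtype.val (hzu _ h2)
  have hzne : (zz : E) ≠ 1 := by
    intro h; apply hz1; exact Subtype.ext h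
  have hzc : ∀ x : E, x * (zz : E) = (zz : E) * x := fun x => Subgroup.mem_center_iff.mp zz.2 x
  have hzz : (zz : E) * (zz : E) = 1 := by
    rcases hcen _ (Subgroup.mul_mem _ zz.2 zz.2) with h | h
    · exact h
    · exfalso; apply hzne
      have := congrArg (fun t => t * (zz : E)⁻¹) h
      simpa using this
  refine ⟨zz, hzne, hzz, hzc, ?_, ?_, hcen⟩
  · intro x y
    have h1 : ⁅x, y⁆ ∈ commutator E := Subgroup.commutator_mem_commutator (Subgroup.mem_top x) (Subgroup.mem_top y)
    rw [hco] at h1
    rcases hcen _ h1 with h | h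
    · left
      rw [commutatorElement_def] at h
      have := congrArg (fun t => t * y * x) h
      simpa [mul_assoc] using this
    · right
      rw [commutatorElement_def] at h
      have h2 := congrArg (fun t => t * y * x) h
      simp only [inv_mul_cancel_right] at h2
      rw [h2, mul_assoc, hzc]
  · intro x
    have h1 : x ^ 2 ∈ frattini E := pow_prime_mem_frattini hp x
    rw [hfr, pow_two] at h1
    exact hcen _ h1

/-- If every pair of elements commutes up to the central involution `z`, then the centralizer in `B`
of an element not centralizing `B` has index two in `B`. -/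
theorem two_mul_card_inf_centralizer {E : Type*} [Group E] [Finite E] {z : E} (hz1 : z ≠ 1)
    (hzz : z * z = 1) (hzc : ∀ x : E, x * z = z * x)
    (hcomm : ∀ x y : E, x * y = y * x ∨ x * y = y * x * z)
    (B : Subgroup E) (x b₀ : E) (hb₀ : b₀ ∈ B) (hx : x * b₀ ≠ b₀ * x) :
    2 * Nat.card (B ⊓ Subgroup.centralizer ({x} : Set E) : Subgroup E) = Nat.card B := by
  have hmem : ∀ b : B, b ∈ (B ⊓ Subgroup.centralizer ({x} : Set E)).subgroupOf B ↔
      x * (b : E) = (b : E) * x := by
    intro b
    rw [Subgroup.mem_subgroupOf, Subgroup.mem_inf, Subgroup.mem_centralizer_iff]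
    constructor
    · rintro ⟨_, h⟩
      exact h x rfl
    · intro h
      exact ⟨b.2, fun t ht => by rw [Set.mem_singleton_iff.mp ht]; exact h⟩
  have hb0 : x * b₀ = b₀ * x * z := (hcomm x b₀).resolve_left hx
  have hidx : ((B ⊓ Subgroup.centralizer ({x} : Set E)).subgroupOf B).index = 2 := by
    rw [Subgroup.index_eq_two_iff]
    refine ⟨⟨b₀, hb₀⟩, fun b => ?_⟩
    rw [hmem, hmem]
    rcases hcomm x b with h | h
    · refine Or.inr ⟨h, ?_⟩
      intro h2
      simp only [Subgroup.coe_mul] at h2
      have h3 : x * ((b : E) * b₀) = (b : E) * b₀ * x * z := by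
        rw [← mul_assoc, h, mul_assoc (b : E) x b₀, hb0]; simp only [mul_assoc]
      rw [h2] at h3
      apply hz1
      have h4 : (b : E) * b₀ * x * 1 = (b : E) * b₀ * x * z := by rw [mul_one]; exact h3
      exact (mul_left_cancel h4).symm
    · refine Or.inl ⟨?_, ?_⟩
      · simp only [Subgroup.coe_mul]
        calc x * ((b : E) * b₀) = (x * (b : E)) * b₀ := by rw [mul_assoc]
          _ = (b : E) * x * z * b₀ := by rw [h]
          _ = (b : E) * (x * b₀) * z := by
              rw [mul_assoc ((b : E) * x) z b₀, ← hzc b₀]; simp only [mul_assoc]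
          _ = (b : E) * (b₀ * x * z) * z := by rw [hb0]
          _ = (b : E) * b₀ * x * (z * z) := by simp only [mul_assoc]
          _ = (b : E) * b₀ * x := by rw [hzz, mul_one]
      · intro h2
        rw [h2] at h
        apply hz1
        have h4 : (b : E) * x * 1 = (b : E) * x * z := by rw [mul_one]; exact h
        exact (mul_left_cancel h4).symm
  have h1 := Subgroup.index_mul_card ((B ⊓ Subgroup.centralizer ({x} : Set E)).subgroupOf B)
  rw [hidx] at h1
  rw [← h1]
  congr 1
  exact (Nat.card_congr (Subgroup.subgroupOfEquivOfLe (inf_le_left)).toEquiv).symm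

open Classical in
/-- Sum of the indicator of a subgroup. -/
theorem sum_ite_mem_subgroup {E : Type*} [Group E] [Fintype E] (K : Subgroup E) (c : ℕ) :
    ∑ x : E, (if x ∈ K then c else 0) = Nat.card K * c := by
  rw [Finset.sum_ite, Finset.sum_const_zero, add_zero, Finset.sum_const, smul_eq_mul]
  congr 1
  exact (Nat.subtype_card _ (by simp)).symm

open Classical in
/-- Double counting. -/
theorem sum_card_filter_comm {E : Type*} [Fintype E] (R : E → E → Prop) :
    ∑ x : E, (Finset.univ.filter (fun a => R x a)).card =
      ∑ a : E, (Finset.univ.filter (fun x => R x a)).card := by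
  simp only [Finset.card_filter]
  exact Finset.sum_comm

open Classical in
/-- `|C_E(A)| |A| = |A ∩ Z(E)| |E|`. -/
theorem card_centralizer_mul_card {E : Type*} [Group E] [Finite E] {z : E} (hz1 : z ≠ 1)
    (hzz : z * z = 1) (hzc : ∀ x : E, x * z = z * x)
    (hcomm : ∀ x y : E, x * y = y * x ∨ x * y = y * x * z) (A : Subgroup E) :
    Nat.card (Subgroup.centralizer (A : Set E)) * Nat.card A =
      Nat.card (A ⊓ Subgroup.center E : Subgroup E) * Nat.card E := by
  let _ := Fintype.ofFinite E
  have key : ∑ x : E, (Finset.univ.filter (fun a => a ∈ A ∧ x * a = a * x)).card =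
      ∑ a : E, (Finset.univ.filter (fun x => a ∈ A ∧ x * a = a * x)).card := by
    convert sum_card_filter_comm (fun (x a : E) => a ∈ A ∧ x * a = a * x)
  have hL : ∀ x : E, 2 * (Finset.univ.filter (fun a => a ∈ A ∧ x * a = a * x)).card =
      Nat.card A + if x ∈ Subgroup.centralizer (A : Set E) then Nat.card A else 0 := by
    intro x
    have h1 : (Finset.univ.filter (fun a => a ∈ A ∧ x * a = a * x)).card =
        Nat.card (A ⊓ Subgroup.centralizer ({x} : Set E) : Subgroup E) := by
      refine (Nat.subtype_card _ ?_).symm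
      intro a
      simp [Subgroup.mem_centralizer_iff]
    rw [h1]
    split_ifs with hx
    · have h2 : A ⊓ Subgroup.centralizer ({x} : Set E) = A := by
        apply inf_eq_left.mpr
        intro a ha
        rw [Subgroup.mem_centralizer_iff]
        intro t ht
        rw [Set.mem_singleton_iff.mp ht]
        exact (Subgroup.mem_centralizer_iff.mp hx a ha).symm
      rw [h2]; ring
    · have h3 : ∃ b₀ ∈ A, x * b₀ ≠ b₀ * x := by
        by_contra hcon
        apply hx
        rw [Subgroup.mem_centralizer_iff]
        intro a ha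
        by_contra h
        exact hcon ⟨a, ha, fun h' => h h'.symm⟩
      obtain ⟨b₀, hb₀, hxb⟩ := h3
      rw [two_mul_card_inf_centralizer hz1 hzz hzc hcomm A x b₀ hb₀ hxb]; simp
  have hR : ∀ a : E, 2 * (Finset.univ.filter (fun x => a ∈ A ∧ x * a = a * x)).card =
      (if a ∈ A then Nat.card E else 0) +
        if a ∈ (A ⊓ Subgroup.center E : Subgroup E) then Nat.card E else 0 := by
    intro a
    by_cases haA : a ∈ A
    · by_cases haZ : a ∈ Subgroup.center E
      · have h1 : Finset.univ.filter (fun x => a ∈ A ∧ x * a = a * x) = Finset.univ := by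
          ext x; simp [haA, Subgroup.mem_center_iff.mp haZ x]
        rw [h1]; simp [haA, haZ, Nat.card_eq_fintype_card]; ring
      · have h3 : ∃ x₀ : E, a * x₀ ≠ x₀ * a := by
          by_contra hcon
          apply haZ
          rw [Subgroup.mem_center_iff]
          intro g
          by_contra h
          exact hcon ⟨g, fun h' => h h'.symm⟩
        obtain ⟨x₀, hx₀⟩ := h3
        have h4 := two_mul_card_inf_centralizer hz1 hzz hzc hcomm ⊤ a x₀ (Subgroup.mem_top _) hx₀
        have h5 : (Finset.univ.filter (fun x => a ∈ A ∧ x * a = a * x)).card =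
            Nat.card ((⊤ : Subgroup E) ⊓ Subgroup.centralizer ({a} : Set E) : Subgroup E) := by
          refine (Nat.subtype_card _ ?_).symm
          intro x
          simp [Subgroup.mem_centralizer_iff, haA, eq_comm]
        rw [h5, h4]; simp [haA, haZ]
    · have h1 : Finset.univ.filter (fun x => a ∈ A ∧ x * a = a * x) = ∅ := by
        ext x; simp [haA]
      rw [h1]; simp [haA]
  have e1 : 2 * ∑ x : E, (Finset.univ.filter (fun a => a ∈ A ∧ x * a = a * x)).card =
      Nat.card E * Nat.card A + Nat.card (Subgroup.centralizer (A : Set E)) * Nat.card A := by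
    rw [Finset.mul_sum]
    simp only [hL]
    rw [Finset.sum_add_distrib, sum_ite_mem_subgroup]
    simp [Nat.card_eq_fintype_card]
  have e2 : 2 * ∑ a : E, (Finset.univ.filter (fun x => a ∈ A ∧ x * a = a * x)).card =
      Nat.card A * Nat.card E + Nat.card (A ⊓ Subgroup.center E : Subgroup E) * Nat.card E := by
    rw [Finset.mul_sum]
    simp only [hR]
    rw [Finset.sum_add_distrib, sum_ite_mem_subgroup, sum_ite_mem_subgroup]
  rw [key] at e1
  linarith [mul_comm (Nat.card A) (Nat.card E)]

open Classical in
/-- If `A` is self-centralizing and of exponent two, then `2 |{x : x² = z}| + |A| = |E|`. -/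
theorem main_count {E : Type*} [Group E] [Finite E] {z : E} (hz1 : z ≠ 1)
    (hzz : z * z = 1) (hzc : ∀ x : E, x * z = z * x)
    (hcomm : ∀ x y : E, x * y = y * x ∨ x * y = y * x * z) (hsq : ∀ x : E, x * x = 1 ∨ x * x = z)
    (A : Subgroup E) (hA : ∀ a ∈ A, a * a = 1) (hCA : Subgroup.centralizer (A : Set E) = A) :
    2 * Nat.card {x : E // x * x = z} + Nat.card A = Nat.card E := by
  let _ := Fintype.ofFinite E
  have hApos : 0 < Nat.card A := Nat.card_pos
  have hT : Nat.card {x : E // x * x = z} = (Finset.univ.filter (fun x : E => x * x = z)).card :=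
    Nat.subtype_card _ (by simp)
  have key : ∑ x : E, (Finset.univ.filter (fun a => a ∈ A ∧ (x * a) * (x * a) = z)).card =
      ∑ a : E, (Finset.univ.filter (fun x => a ∈ A ∧ (x * a) * (x * a) = z)).card := by
    convert sum_card_filter_comm (fun (x a : E) => a ∈ A ∧ (x * a) * (x * a) = z)
  -- the squares are central
  have hsqc : ∀ x y : E, (x * x) * y = y * (x * x) := by
    intro x y
    rcases hsq x with h | h
    · rw [h]; simp
    · rw [h]; exact (hzc y).symm
  -- (x a)² in terms of x²
  have hprod1 : ∀ x a : E, a * a = 1 → x * a = a * x → (x * a) * (x * a) = x * x := by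
    intro x a ha h
    calc (x * a) * (x * a) = x * (a * x) * a := by simp only [mul_assoc]
      _ = x * (x * a) * a := by rw [h]
      _ = x * x * (a * a) := by simp only [mul_assoc]
      _ = x * x := by rw [ha, mul_one]
  have hprod2 : ∀ x a : E, a * a = 1 → x * a = a * x * z → (x * a) * (x * a) = x * x * z := by
    intro x a ha h
    calc (x * a) * (x * a) = (a * x * z) * (x * a) := by rw [h]
      _ = a * ((x * z) * x) * a := by simp only [mul_assoc]
      _ = a * ((z * x) * x) * a := by rw [hzc x]
      _ = a * z * ((x * x) * a) := by simp only [mul_assoc]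
      _ = a * z * (a * (x * x)) := by rw [hsqc x a]
      _ = a * (z * a) * (x * x) := by simp only [mul_assoc]
      _ = a * (a * z) * (x * x) := by rw [hzc a]
      _ = (a * a) * (z * (x * x)) := by simp only [mul_assoc]
      _ = z * (x * x) := by rw [ha, one_mul]
      _ = x * x * z := (hzc (x * x)).symm
  have hR : ∀ a : E, (Finset.univ.filter (fun x => a ∈ A ∧ (x * a) * (x * a) = z)).card =
      if a ∈ A then Nat.card {x : E // x * x = z} else 0 := by
    intro a
    by_cases haA : a ∈ A
    · simp only [haA, true_and, if_true]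
      rw [← Nat.subtype_card (p := fun x : E => (x * a) * (x * a) = z) _ (by simp)]
      exact Nat.card_congr (Equiv.subtypeEquiv (Equiv.mulRight a) (fun x => Iff.rfl))
    · have h1 : Finset.univ.filter (fun x => a ∈ A ∧ (x * a) * (x * a) = z) = ∅ := by
        ext x; simp [haA]
      rw [h1]; simp [haA]
  have hL : ∀ x : E, 2 * (Finset.univ.filter (fun a => a ∈ A ∧ (x * a) * (x * a) = z)).card =
      if x ∈ A then 0 else Nat.card A := by
    intro x
    by_cases hxA : x ∈ A
    · have h1 : Finset.univ.filter (fun a => a ∈ A ∧ (x * a) * (x * a) = z) = ∅ := by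
        ext a
        simp only [Finset.mem_filter, Finset.mem_univ, true_and, Finset.notMem_empty, iff_false,
          not_and]
        intro ha h
        rw [hA _ (A.mul_mem hxA ha)] at h
        exact hz1 h.symm
      rw [h1]; simp [hxA]
    · simp only [hxA, if_false]
      have h3 : ∃ b₀ ∈ A, x * b₀ ≠ b₀ * x := by
        by_contra hcon
        apply hxA
        rw [← hCA, Subgroup.mem_centralizer_iff]
        intro a ha
        by_contra h
        exact hcon ⟨a, ha, fun h' => h h'.symm⟩
      obtain ⟨b₀, hb₀, hxb⟩ := h3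
      have h4 := two_mul_card_inf_centralizer hz1 hzz hzc hcomm A x b₀ hb₀ hxb
      have h5 : (Finset.univ.filter (fun a => a ∈ A ∧ x * a = a * x)).card =
          Nat.card (A ⊓ Subgroup.centralizer ({x} : Set E) : Subgroup E) := by
        refine (Nat.subtype_card _ ?_).symm
        intro a
        simp [Subgroup.mem_centralizer_iff]
      have h6 : (Finset.univ.filter (fun a => a ∈ A ∧ x * a = a * x)).card +
          (Finset.univ.filter (fun a => a ∈ A ∧ ¬ x * a = a * x)).card = Nat.card A := by
        have h7 := Finset.card_filter_add_card_filter_not (s := Finset.univ.filter (fun a : E => a ∈ A))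
          (fun a => x * a = a * x)
        rw [Finset.filter_filter, Finset.filter_filter] at h7
        rw [h7]
        exact (Nat.subtype_card _ (by simp)).symm
      rcases hsq x with hx1 | hxz
      · -- x² = 1: (x a)² = z iff a does not commute with x
        have h8 : Finset.univ.filter (fun a => a ∈ A ∧ (x * a) * (x * a) = z) =
            Finset.univ.filter (fun a => a ∈ A ∧ ¬ x * a = a * x) := by
          ext a
          simp only [Finset.mem_filter, Finset.mem_univ, true_and]
          constructor
          · rintro ⟨ha, h⟩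
            refine ⟨ha, fun hc => ?_⟩
            rw [hprod1 x a (hA a ha) hc, hx1] at h
            exact hz1 h.symm
          · rintro ⟨ha, h⟩
            refine ⟨ha, ?_⟩
            rw [hprod2 x a (hA a ha) ((hcomm x a).resolve_left h), hx1, one_mul]
        rw [h8]; omega
      · -- x² = z: (x a)² = z iff a commutes with x
        have h8 : Finset.univ.filter (fun a => a ∈ A ∧ (x * a) * (x * a) = z) =
            Finset.univ.filter (fun a => a ∈ A ∧ x * a = a * x) := by
          ext a
          simp only [Finset.mem_filter, Finset.mem_univ, true_and]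
          constructor
          · rintro ⟨ha, h⟩
            refine ⟨ha, ?_⟩
            by_contra hc
            rw [hprod2 x a (hA a ha) ((hcomm x a).resolve_left hc), hxz, hzz] at h
            exact hz1 h.symm
          · rintro ⟨ha, h⟩
            exact ⟨ha, by rw [hprod1 x a (hA a ha) h, hxz]⟩
        rw [h8]; omega
  have e1 : 2 * ∑ x : E, (Finset.univ.filter (fun a => a ∈ A ∧ (x * a) * (x * a) = z)).card +
      Nat.card A * Nat.card A = Nat.card E * Nat.card A := by
    rw [Finset.mul_sum]
    simp only [hL]
    rw [← sum_ite_mem_subgroup A (Nat.card A), ← Finset.sum_add_distrib]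
    have h9 : ∀ x : E, ((if x ∈ A then 0 else Nat.card A) + if x ∈ A then Nat.card A else 0) =
        Nat.card A := by
      intro x; split_ifs <;> simp
    simp only [h9]
    simp [Nat.card_eq_fintype_card]
  have e2 : ∑ a : E, (Finset.univ.filter (fun x => a ∈ A ∧ (x * a) * (x * a) = z)).card =
      Nat.card A * Nat.card {x : E // x * x = z} := by
    simp only [hR]
    rw [sum_ite_mem_subgroup]
  rw [key, e2] at e1
  have e3 : (2 * Nat.card {x : E // x * x = z} + Nat.card A) * Nat.card A = Nat.card E * Nat.card A := by
    linarith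
  exact Nat.eq_of_mul_eq_mul_right hApos e3

/-- Let E be an extraspecial 2-group of order 2^(2m+1) of plus type, that is, containing an elementary abelian subgroup of order 2^(m+1) (equivalently, a central product of m dihedral groups of order 8). Then E has exactly 2^(2m) − 2^m elements of order 4. -/
theorem result {E : Type*} [Group E] [Finite E] (m : ℕ) (hm : 1 ≤ m) (hE : Cfsg.IsExtraspecial 2 E) (hcard : Nat.card E = 2 ^ (2 * m + 1)) (hplus : ∃ A : Subgroup E, Cfsg.IsElementaryAbelian 2 A ∧ Nat.card A = 2 ^ (m + 1)) : Nat.card {x : E // orderOf x = 4} = 2 ^ (2 * m) - 2 ^ m := by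
  obtain ⟨z, hz1, hzz, hzc, hcomm, hsq, hcen⟩ := es_data hE
  obtain ⟨A, ⟨hAc, hAsq⟩, hAcard⟩ := hplus
  have hAA : ∀ a ∈ A, a * a = 1 := fun a ha => by rw [← pow_two]; exact hAsq a ha
  have hAle : A ≤ Subgroup.centralizer (A : Set E) := Subgroup.le_centralizer_iff_isMulCommutative.mpr hAc
  have h1 := card_centralizer_mul_card hz1 hzz hzc hcomm A
  have h2 : Nat.card (A ⊓ Subgroup.center E : Subgroup E) ≤ 2 := by
    rw [← hE.2]
    exact Subgroup.card_le_of_le inf_le_right
  have h3 : Nat.card A ≤ Nat.card (Subgroup.centralizer (A : Set E)) := Subgroup.card_le_of_le hAle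
  have hCA : Subgroup.centralizer (A : Set E) = A := by
    symm
    apply Subgroup.eq_of_le_of_card_ge hAle
    rw [hAcard, hcard] at h1
    rw [hAcard]
    have h4 : Nat.card (Subgroup.centralizer (A : Set E)) * 2 ^ (m + 1) ≤ 2 * 2 ^ (2 * m + 1) := by
      rw [h1]; exact Nat.mul_le_mul_right _ h2
    have h5 : 2 * 2 ^ (2 * m + 1) = 2 ^ (m + 1) * 2 ^ (m + 1) := by
      rw [← pow_succ', ← pow_add]; congr 1; omega
    rw [h5] at h4
    exact Nat.le_of_mul_le_mul_right h4 (by positivity)
  have h6 := main_count hz1 hzz hzc hcomm hsq A hAA hCA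
  rw [hAcard, hcard] at h6
  have h7 : Nat.card {x : E // orderOf x = 4} = Nat.card {x : E // x * x = z} := by
    apply Nat.card_congr
    apply Equiv.subtypeEquivRight
    intro x
    constructor
    · intro hx
      rcases hsq x with h | h
      · exfalso
        have h8 : orderOf x ∣ 2 := orderOf_dvd_of_pow_eq_one (by rw [pow_two]; exact h)
        rw [hx] at h8
        omega
      · exact h
    · intro hx
      have h8 : ¬ x ^ 2 ^ 1 = 1 := by
        rw [pow_one, pow_two, hx]; exact hz1
      have h9 : x ^ 2 ^ (1 + 1) = 1 := by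
        have : x ^ 2 ^ (1 + 1) = (x * x) * (x * x) := by
          norm_num [pow_succ, mul_assoc]
        rw [this, hx, hzz]
      have := orderOf_eq_prime_pow h8 h9
      simpa using this
  rw [h7]
  have h10 : (2 : ℕ) ^ (2 * m + 1) = 2 * 2 ^ (2 * m) := by rw [pow_succ]; ring
  have h11 : (2 : ℕ) ^ (m + 1) = 2 * 2 ^ m := by rw [pow_succ]; ring
  omega

end Cfsg.Agent.S2880
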