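import Cfsg.Statements.S2881
import Cfsg.Agent.S2880

set_option autoImplicit false
open Cfsg

namespace Cfsg.Agent.S2881

/-- `5 ∣ 2^(2m) - 2^m` forces `4 ∣ m`. -/
theorem four_dvd_of_five_dvd (m : ℕ) (h : 5 ∣ 2 ^ (2 * m) - 2 ^ m) : 4 ∣ m := by
  have key : ∀ n : ℕ, 2 ^ n % 5 = 2 ^ (n % 4) % 5 := by
    intro n
    conv_lhs => rw [← Nat.div_add_mod n 4, pow_add, pow_mul]
    rw [Nat.mul_mod, Nat.pow_mod]; norm_num
  have hle : 2 ^ m ≤ 2 ^ (2 * m) := Nat.pow_le_pow_right (by norm_num) (by omega)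
  have h5 : 2 ^ (2 * m) % 5 = 2 ^ m % 5 := by omega
  rw [key (2 * m), key m] at h5
  have hlt : m % 4 < 4 := Nat.mod_lt _ (by norm_num)
  have h2m : (2 * m) % 4 = (2 * (m % 4)) % 4 := by omega
  rw [h2m] at h5
  apply Nat.dvd_of_mod_eq_zero
  interval_cases hr : m % 4 <;> first | rfl | simp at h5

/-- Let E be an extraspecial 2-group of order 2^(2m+1) of plus type (containing an elementary abelian subgroup of order 2^(m+1)), and let ω be an automorphism of E of order 5 whose fixed points are exactly the centre of E. Then m is divisible by 4. -/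
theorem result {E : Type*} [Group E] [Finite E] (m : ℕ) (hm : 1 ≤ m) (hE : Cfsg.IsExtraspecial 2 E) (hcard : Nat.card E = 2 ^ (2 * m + 1)) (hplus : ∃ A : Subgroup E, Cfsg.IsElementaryAbelian 2 A ∧ Nat.card A = 2 ^ (m + 1)) (ω : E ≃* E) (hω : orderOf ω = 5) (hfix : ∀ x : E, ω x = x ↔ x ∈ Subgroup.center E) : 4 ∣ m := by
  have hX := Cfsg.Agent.S2880.result m hm hE hcard hplus
  -- the cyclic group generated by ω is a 5-group acting on the elements of order 4
  have hP : IsPGroup 5 (Subgroup.zpowers ω) := by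
    apply IsPGroup.of_card (n := 1)
    rw [Nat.card_zpowers, hω, pow_one]
  let act : MulAction (Subgroup.zpowers ω) {x : E // orderOf x = 4} :=
    { smul := fun g x => ⟨(g : E ≃* E) x.1, by rw [MulEquiv.orderOf_eq]; exact x.2⟩
      one_smul := fun x => Subtype.ext rfl
      mul_smul := fun g h x => Subtype.ext rfl }
  have : Fact (Nat.Prime 5) := ⟨by norm_num⟩
  have hmod := @IsPGroup.card_modEq_card_fixedPoints 5 (Subgroup.zpowers ω) _ hP _
    {x : E // orderOf x = 4} act _
  have hempty : IsEmpty (MulAction.fixedPoints (Subgroup.zpowers ω) {x : E // orderOf x = 4}) := by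
    constructor
    rintro ⟨x, hx⟩
    have h1 : (⟨ω, Subgroup.mem_zpowers ω⟩ : Subgroup.zpowers ω) • x = x := hx _
    have h2 : ω x.1 = x.1 := congrArg Subtype.val h1
    have h3 : x.1 ∈ Subgroup.center E := (hfix x.1).mp h2
    have h4 : (⟨x.1, h3⟩ : Subgroup.center E) ^ Nat.card (Subgroup.center E) = 1 := pow_card_eq_one'
    rw [hE.2] at h4
    have h5 : x.1 ^ 2 = 1 := congrArg Subtype.val h4
    have h6 : orderOf x.1 ∣ 2 := orderOf_dvd_of_pow_eq_one h5
    rw [x.2] at h6
    omega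
  have h0 : Nat.card (MulAction.fixedPoints (Subgroup.zpowers ω) {x : E // orderOf x = 4}) = 0 :=
    Nat.card_of_isEmpty
  rw [h0, hX] at hmod
  exact four_dvd_of_five_dvd m ((Nat.modEq_zero_iff_dvd).mp hmod)

end Cfsg.Agent.S2881
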