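import Cfsg.Statements.S2882
import Cfsg.Agent.Lib.helper94.M24FixAll
import Cfsg.Agent.Lib.helper94.M24Sextets
import Cfsg.Agent.Lib.helper94.M24Trios


set_option autoImplicit false
open Cfsg

set_option maxRecDepth 100000
open Cfsg.Agent.Lib.helper94

namespace Cfsg.Agent.S2882

open scoped Pointwise
open Cfsg.Agent.Lib.helper33 (validTbl)
open Cfsg.Agent.Lib.helper9 (bp base chkTbl)

/-- The mask of the octad of fixed points of the reference involution. -/
def OMASK : ℕ := 7612992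

/-- The masks of the tetrads of the reference sextet. -/
def SL : List ℕ := [15, 5264, 622848, 3416064, 4196928, 8536096]

/-- The masks of the octads of the reference trio. -/
def TL : List ℕ := [5279, 7612992, 9158944]

/-- The table fixes the reference octad, sextet and trio and commutes with the involution. -/
def memF (E : ℕ) : Bool :=
  conjOK E X2A X2A && Nat.beq (applyP E 1 OMASK) OMASK &&
    seteq (SL.map (applyP E 1)) SL && seteq (TL.map (applyP E 1)) TL

/-- Membership test for the reference Sylow subgroup. -/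
def mem0 (E : ℕ) : Bool := isM24 E && memF E

/-- Membership test for the stabiliser of the index 0. -/
def mem1 (E : ℕ) : Bool := mem0 E && Nat.beq (imgAt E 0) 0

/-- Membership test for the stabiliser of the indices 0 and 2. -/
def mem2 (E : ℕ) : Bool := mem1 E && Nat.beq (imgAt E 2) 2

/-- Membership test for the stabiliser of the indices 0, 2 and 4. -/
def mem3 (E : ℕ) : Bool := mem2 E && Nat.beq (imgAt E 4) 4

/-- Elements mapping the index 0 to each index of its orbit. -/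
def cert0 : List ℕ :=
  [0xbdab49ca307b9ac5a928398a418820,
   0x755669daf0415279128f5362c18801,
   0x7264d854b345e8a332cf22e2708062,
   0xbd2c99add0444c7692af548ac08043,
   0x9b5662d9f772123a0a510d600628e4,
   0x5264d1d0e2012a85bec1819938bae5,
   0x0,
   0x419b275271bc2a248d650d9e062887,
   0x1b6c96180a20577a96478d04e9c1e8,
   0x0,
   0x2a64d4522f9baa358ad009ae03918a,
   0x0,
   0x859b2751f1ba2a35892501a613914c,
   0x0,
   0x22db21d58202a884bcc1858f3b962e,
   0x3d6c912d430b0d193a802b4979c10f,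
   0x21a950b5401b24e4c5622d8f77a270,
   0x9a4d5544c38e884bd649d810b95d1,
   0x0,
   0x3d2c91ad42030d7696a1748917a213,
   0x0,
   0x0,
   0x0,
   0x19b25506c38ab04cd647d8288b8b7]

/-- Elements fixing 0 and mapping the index 2 to each index of its orbit. -/
def cert1 : List ℕ :=
  [0x0,
   0x0,
   0xbdab49ca307b9ac5a928398a418820,
   0x826b42b51773e4c5aad121a6710c20,
   0x0,
   0x0,
   0x0,
   0x0,
   0x0,
   0x0,
   0x0,
   0x0,
   0x0,
   0x0,
   0x0,
   0x0,
   0x0,
   0x0,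
   0x0,
   0x0,
   0x0,
   0x0,
   0x0,
   0x0]

/-- Elements fixing 0 and 2 and mapping the index 4 to each index of its orbit. -/
def cert2 : List ℕ :=
  [0x0,
   0x0,
   0x0,
   0x0,
   0xbdab49ca307b9ac5a928398a418820,
   0x0,
   0x0,
   0x852c9b99e57216a932b12366718820,
   0x0,
   0x0,
   0x89a959b6f07964749168659ca18820,
   0x0,
   0xbae957b6289ba44b1cd0524ac18820,
   0x0,
   0x0,
   0x0,
   0x0,
   0x0,
   0x0,
   0x0,
   0x0,
   0x0,
   0x0,
   0x0]

/-- Elements fixing 0, 2 and 4 and mapping the index 5 to each index of its orbit. -/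
def cert3 : List ℕ :=
  [0x0,
   0x0,
   0x0,
   0x0,
   0x0,
   0xbdab49ca307b9ac5a928398a418820,
   0x0,
   0x0,
   0x7d6c971a11bcd6c6aa853c90418820,
   0x0,
   0x0,
   0x0,
   0x0,
   0x0,
   0x8adb2452ef816acb28d33a5c418820,
   0x451368ae6e2c0cc92ab73b5e418820,
   0x9c8cbbd90573d2ca29b13d60418820,
   0x71a4d7d4a89de8c4a9703da2418820,
   0x0,
   0x835662a5f78a2ccaaa4e3d26418820,
   0x0,
   0x0,
   0x0,
   0x2a695835d34464c32acf3aee418820]

/-- The identity table. -/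
def KID : List ℕ := [0, 1, 2, 3, 4, 5, 6, 7, 8, 9, 10, 11, 12, 13, 14, 15, 16, 17, 18, 19, 20, 21, 22, 23]

/-- A table mapping the indices 0, 1, 2, 3 into the reference octad. -/
def KW : List ℕ := [6, 9, 11, 13, 1, 22, 15, 14, 4, 0, 12, 17, 8, 19, 20, 16, 23, 21, 2, 3, 5, 7, 10, 18]

/-- Inverse of `KW`. -/
def KWi : List ℕ := [9, 4, 18, 19, 8, 20, 0, 21, 12, 1, 22, 2, 10, 3, 7, 6, 15, 11, 23, 13, 14, 17, 5, 16]

/-- Packed form of `KW`. -/
def WT : ℕ := 0x928e518ab7852688b00473ec16ad26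

/-- Packed table of the product of the reference involution and `WT`. -/
def ZWT : ℕ := 0x9309710ea59d20f728278a2c06ad26

/-- First generator. -/
def H1 : ℕ := 0x9d1668d9eeba12268ea504a013918a

/-- Second generator. -/
def H2 : ℕ := 0x71ab49c8b07ddaa4b16825a2700443

/-- Third generator. -/
def H3 : ℕ := 0x226951c982029b05cec1418ef744b7

/-- Fourth generator. -/
def H4 : ℕ := 0x3c8cb125430b2c5adda08d08e7a213

/-- Conjugate of the first generator by the inverse of `WT`. -/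
def H1c : ℕ := 0x2cd2faa04d3817434ac4641ca08e37

/-- Conjugate of the second generator by the inverse of `WT`. -/
def H2c : ℕ := 0xba90b492277b9aca5a758181218445

/-- Conjugate of the third generator by the inverse of `WT`. -/
def H3c : ℕ := 0xbb5953adc89466453e06b2434188a0

/-- Conjugate of the fourth generator by the inverse of `WT`. -/
def H4c : ℕ := 0xc1683301598a49b51a7512ef2c46e

/-- The generators. -/
def HS : List ℕ := [H1, H2, H3, H4]

theorem orb0_ok : orbOK mem0 0 9164223 cert0 = true := by decide +kernel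

theorem orb1_ok : orbOK mem1 2 12 cert1 = true := by decide +kernel

theorem orb2_ok : orbOK mem2 4 5264 cert2 = true := by decide +kernel

theorem orb3_ok : orbOK mem3 5 9158944 cert3 = true := by decide +kernel

theorem frameID_ok : validTbl KID KID = true ∧ chkTbl KID = true ∧
    frameCheck KID (fun E => !(memF E) || ((5264 : ℕ).testBit (imgAt E 4) &&
      (!(Nat.beq (imgAt E 4) 4) || ((9158944 : ℕ).testBit (imgAt E 5) &&
        (!(Nat.beq (imgAt E 5) 5) || Nat.beq (fixCnt E) 24))))) = true := by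
  decide +kernel

theorem frameW_ok : validTbl KW KWi = true ∧ chkTbl KW = true ∧
    frameCheck KW (fun E => !(conjOK E H1c H1 && conjOK E H2c H2 && conjOK E H3c H3 &&
      conjOK E H4c H4) || Nat.beq E WT || Nat.beq E ZWT) = true := by
  decide +kernel

theorem hs_ok : HS.all (fun t => validPerm t && mem0 t) = true := by decide +kernel

theorem oct_uniq : uniqFixPts 759 OCT HS 499 = true := by decide +kernel

theorem sex_uniq : uniqFixSets 6 1771 SEX HS 776 = true := by decide +kernel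

theorem tri_uniq : uniqFixSets 3 3795 TRI HS 1064 = true := by decide +kernel

theorem obj_ok : fld OCT 499 = OMASK ∧ seteq (fldsAt 6 SEX 776) SL = true ∧
    seteq (fldsAt 3 TRI 1064) TL = true ∧ (∀ x ∈ SL, x < 2 ^ 24) ∧ (∀ x ∈ TL, x < 2 ^ 24) ∧
    OMASK < 2 ^ 24 := by
  decide +kernel

theorem conjW_ok : isM24 WT = true ∧ validPerm ZWT = true ∧ mulOK X2A WT ZWT = true ∧
    (validPerm H1c = true ∧ conjOK WT H1c H1 = true) ∧
    (validPerm H2c = true ∧ conjOK WT H2c H2 = true) ∧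
    (validPerm H3c = true ∧ conjOK WT H3c H3 = true) ∧
    (validPerm H4c = true ∧ conjOK WT H4c H4 = true) ∧
    imgAt WT 0 = 6 ∧ imgAt WT 1 = 9 ∧ imgAt WT 2 = 11 ∧ imgAt WT 3 = 13 ∧
    OMASK.testBit 6 = true ∧ OMASK.testBit 9 = true ∧ OMASK.testBit 11 = true ∧
    OMASK.testBit 13 = true := by
  decide +kernel

theorem misc_ok : popc 9164223 = 16 ∧ popc 12 = 2 ∧ popc 5264 = 4 ∧ popc 9158944 = 8 ∧
    imgAt X2A 0 = 1 ∧ imgAt X2A 2 = 3 ∧
    (∀ i < 24, (9164223 : ℕ).testBit i = false → imgAt X2A i = i) ∧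
    (∀ i < 24, OMASK.testBit i = true → imgAt X2A i = i) ∧
    (∀ x ∈ SL, x.testBit 0 = true → x = 15) ∧ (15 ∈ SL) ∧
    (∀ i < 24, (15 : ℕ).testBit i = true → i = 0 ∨ i = 1 ∨ i = 2 ∨ i = 3) ∧
    mem0 X2A = true := by
  decide +kernel

theorem hvX : validPerm X2A = true := repsElts_ok.2.2.1

/-- The reference Sylow 2-subgroup. -/
def P0 : Subgroup (Equiv.Perm GolayPt) :=
  M24 ⊓ Subgroup.centralizer {tperm X2A} ⊓
    MulAction.stabilizer (Equiv.Perm GolayPt) (Lib.helper94.setOf OMASK) ⊓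
    MulAction.stabilizer (Equiv.Perm GolayPt) (objSetL SL) ⊓
    MulAction.stabilizer (Equiv.Perm GolayPt) (objSetL TL)

theorem mem_P0 {c : Equiv.Perm GolayPt} :
    c ∈ P0 ↔ c ∈ M24 ∧ c * tperm X2A = tperm X2A * c ∧
      c • Lib.helper94.setOf OMASK = Lib.helper94.setOf OMASK ∧
      c • objSetL SL = objSetL SL ∧ c • objSetL TL = objSetL TL := by
  rw [P0, Subgroup.mem_inf, Subgroup.mem_inf, Subgroup.mem_inf, Subgroup.mem_inf,
    Subgroup.mem_centralizer_iff, MulAction.mem_stabilizer_iff, MulAction.mem_stabilizer_iff,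
    MulAction.mem_stabilizer_iff]
  simp only [Set.mem_singleton_iff, forall_eq]
  constructor
  · rintro ⟨⟨⟨⟨h1, h2⟩, h3⟩, h4⟩, h5⟩
    exact ⟨h1, h2.symm, h3, h4, h5⟩
  · rintro ⟨h1, h2, h3, h4, h5⟩
    exact ⟨⟨⟨⟨h1, h2.symm⟩, h3⟩, h4⟩, h5⟩

/-- The stabiliser of the index 0. -/
def P1 : Subgroup (Equiv.Perm GolayPt) :=
  P0 ⊓ MulAction.stabilizer (Equiv.Perm GolayPt) (idxPt 0)

/-- The stabiliser of the indices 0 and 2. -/
def P2 : Subgroup (Equiv.Perm GolayPt) :=
  P1 ⊓ MulAction.stabilizer (Equiv.Perm GolayPt) (idxPt 2)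

/-- The stabiliser of the indices 0, 2 and 4. -/
def P3 : Subgroup (Equiv.Perm GolayPt) :=
  P2 ⊓ MulAction.stabilizer (Equiv.Perm GolayPt) (idxPt 4)

/-- The stabiliser of the indices 0, 2, 4 and 5. -/
def P4 : Subgroup (Equiv.Perm GolayPt) :=
  P3 ⊓ MulAction.stabilizer (Equiv.Perm GolayPt) (idxPt 5)

theorem mem_P1 {c : Equiv.Perm GolayPt} : c ∈ P1 ↔ c ∈ P0 ∧ c (idxPt 0) = idxPt 0 := by
  rw [P1, Subgroup.mem_inf, MulAction.mem_stabilizer_iff]
  rfl

theorem mem_P2 {c : Equiv.Perm GolayPt} : c ∈ P2 ↔ c ∈ P1 ∧ c (idxPt 2) = idxPt 2 := by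
  rw [P2, Subgroup.mem_inf, MulAction.mem_stabilizer_iff]
  rfl

theorem mem_P3 {c : Equiv.Perm GolayPt} : c ∈ P3 ↔ c ∈ P2 ∧ c (idxPt 4) = idxPt 4 := by
  rw [P3, Subgroup.mem_inf, MulAction.mem_stabilizer_iff]
  rfl

theorem mem_P4 {c : Equiv.Perm GolayPt} : c ∈ P4 ↔ c ∈ P3 ∧ c (idxPt 5) = idxPt 5 := by
  rw [P4, Subgroup.mem_inf, MulAction.mem_stabilizer_iff]
  rfl

theorem hH0 : ∀ E, validPerm E = true → mem0 E = true → tperm E ∈ P0 := by
  intro E hv hm
  rw [mem0, memF] at hm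
  simp only [Bool.and_eq_true] at hm
  obtain ⟨hM, ⟨⟨hc, hO⟩, hS⟩, hT⟩ := hm
  exact mem_P0.mpr ⟨tperm_mem_M24 hM, (conjOK_iff hv hvX hvX).mp hc, smul_setOf_eq_of hv hO,
    smul_objSetL_eq_of hv hS, smul_objSetL_eq_of hv hT⟩

theorem hH1 : ∀ E, validPerm E = true → mem1 E = true → tperm E ∈ P1 := by
  intro E hv hm
  rw [mem1, Bool.and_eq_true] at hm
  refine mem_P1.mpr ⟨hH0 E hv hm.1, ?_⟩
  rw [tperm_idxPt hv (by norm_num), Nat.eq_of_beq_eq_true hm.2]

theorem hH2 : ∀ E, validPerm E = true → mem2 E = true → tperm E ∈ P2 := by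
  intro E hv hm
  rw [mem2, Bool.and_eq_true] at hm
  refine mem_P2.mpr ⟨hH1 E hv hm.1, ?_⟩
  rw [tperm_idxPt hv (by norm_num), Nat.eq_of_beq_eq_true hm.2]

theorem hH3 : ∀ E, validPerm E = true → mem3 E = true → tperm E ∈ P3 := by
  intro E hv hm
  rw [mem3, Bool.and_eq_true] at hm
  refine mem_P3.mpr ⟨hH2 E hv hm.1, ?_⟩
  rw [tperm_idxPt hv (by norm_num), Nat.eq_of_beq_eq_true hm.2]

theorem memF_of {E : ℕ} (hv : validPerm E = true) (h : tperm E ∈ P0) : memF E = true := by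
  obtain ⟨-, hc, hO, hS, hT⟩ := mem_P0.mp h
  rw [memF]
  simp only [Bool.and_eq_true]
  refine ⟨⟨⟨(conjOK_iff hv hvX hvX).mpr hc, ?_⟩, (smul_objSetL_eq_iff hv obj_ok.2.2.2.1).mp hS⟩,
    (smul_objSetL_eq_iff hv obj_ok.2.2.2.2.1).mp hT⟩
  rw [smul_setOf hv] at hO
  rw [setOf_injOn (applyP_lt hv _) obj_ok.2.2.2.2.2 hO]
  exact Nat.beq_refl _

theorem comm_img {g : Equiv.Perm GolayPt} (hc : g * tperm X2A = tperm X2A * g) {i j : ℕ}
    (hi : i < 24) (hj : j < 24) (h : g (idxPt i) = idxPt j) :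
    g (idxPt (imgAt X2A i)) = idxPt (imgAt X2A j) := by
  have h1 := congrArg (fun f : Equiv.Perm GolayPt => f (idxPt i)) hc
  simp only [Equiv.Perm.mul_apply] at h1
  rw [tperm_idxPt hvX hi, h, tperm_idxPt hvX hj] at h1
  exact h1

theorem hup0 : ∀ g ∈ P0, g (idxPt 0) ∈ Lib.helper94.setOf 9164223 := by
  intro g hg
  obtain ⟨-, hgc, -⟩ := mem_P0.mp hg
  rw [mem_setOf]
  by_contra hcon
  rw [Bool.not_eq_true] at hcon
  have hq : g (idxPt 0) = idxPt (ptIdx (g (idxPt 0))) := (idxPt_ptIdx _).symm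
  have h1 := comm_img hgc (by norm_num) (ptIdx_lt _) hq
  rw [misc_ok.2.2.2.2.2.2.1 _ (ptIdx_lt _) hcon, misc_ok.2.2.2.2.1, ← hq] at h1
  exact idxPt_ne_of_ne (by norm_num) (by norm_num) (by norm_num : (1 : ℕ) ≠ 0) (g.injective h1)

theorem fix1 {g : Equiv.Perm GolayPt} (hg : g ∈ P1) : g (idxPt 1) = idxPt 1 := by
  obtain ⟨hg0, h0⟩ := mem_P1.mp hg
  obtain ⟨-, hgc, -⟩ := mem_P0.mp hg0
  have := comm_img hgc (by norm_num) (by norm_num) h0
  rwa [misc_ok.2.2.2.2.1] at this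

theorem hup1 : ∀ g ∈ P1, g (idxPt 2) ∈ Lib.helper94.setOf 12 := by
  intro g hg
  have hg1 := fix1 hg
  obtain ⟨hg0, h0⟩ := mem_P1.mp hg
  obtain ⟨-, hgc, -, hS, -⟩ := mem_P0.mp hg0
  have hmem : g • Lib.helper94.setOf 15 ∈ objSetL SL := by
    rw [← hS]
    exact Finset.smul_mem_smul_finset (mem_objSetL.mpr ⟨15, misc_ok.2.2.2.2.2.2.2.2.2.1, rfl⟩)
  obtain ⟨x, hx, hxe⟩ := mem_objSetL.mp hmem
  have h0mem : idxPt 0 ∈ Lib.helper94.setOf x := by
    rw [hxe, ← h0]
    exact Finset.smul_mem_smul_finset (mem_setOf.mpr (by rw [ptIdx_idxPt (by norm_num)]; decide))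
  rw [mem_setOf, ptIdx_idxPt (by norm_num)] at h0mem
  rw [misc_ok.2.2.2.2.2.2.2.2.1 x hx h0mem] at hxe
  have h2mem : g (idxPt 2) ∈ Lib.helper94.setOf 15 := by
    rw [hxe]
    exact Finset.smul_mem_smul_finset (mem_setOf.mpr (by rw [ptIdx_idxPt (by norm_num)]; decide))
  have hq : g (idxPt 2) = idxPt (ptIdx (g (idxPt 2))) := (idxPt_ptIdx _).symm
  rw [mem_setOf] at h2mem ⊢
  rcases misc_ok.2.2.2.2.2.2.2.2.2.2.1 _ (ptIdx_lt _) h2mem with h | h | h | h
  · rw [h, ← h0] at hq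
    exact absurd (g.injective hq)
      (idxPt_ne_of_ne (by norm_num) (by norm_num) (by norm_num : (2 : ℕ) ≠ 0))
  · rw [h, ← hg1] at hq
    exact absurd (g.injective hq)
      (idxPt_ne_of_ne (by norm_num) (by norm_num) (by norm_num : (2 : ℕ) ≠ 1))
  · rw [h]
    decide
  · rw [h]
    decide

/-- The elements fixing the indices 0 and 2, through the identity frame. -/
theorem frameID_use {g : Equiv.Perm GolayPt} (hg : g ∈ P2) :
    ∃ E, validPerm E = true ∧ g = tperm E ∧ (5264 : ℕ).testBit (imgAt E 4) = true ∧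
      (imgAt E 4 = 4 → (9158944 : ℕ).testBit (imgAt E 5) = true ∧
        (imgAt E 5 = 5 → fixCnt E = 24)) := by
  obtain ⟨hg1', hg2⟩ := mem_P2.mp hg
  have hg1 := fix1 hg1'
  obtain ⟨hgP, hg0⟩ := mem_P1.mp hg1'
  obtain ⟨hgM, hgc, -⟩ := mem_P0.mp hgP
  have hg3 : g (idxPt 3) = idxPt 3 := by
    have := comm_img hgc (by norm_num) (by norm_num) hg2
    rwa [misc_ok.2.2.2.2.2.1] at this
  obtain ⟨E, hv, hP, hE⟩ := frame4 KID KID frameID_ok.1 frameID_ok.2.1 _ frameID_ok.2.2 g hgM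
    (by
      intro j hj
      interval_cases j
      · exact hg0
      · exact hg1
      · exact hg2
      · exact hg3)
  rw [memF_of hv (by rw [← hE]; exact hgP)] at hP
  simp only [Bool.not_true, Bool.false_or, Bool.and_eq_true, Bool.or_eq_true,
    Bool.not_eq_true'] at hP
  refine ⟨E, hv, hE, hP.1, fun h4 => ?_⟩
  rcases hP.2 with h | h
  · rw [h4] at h
    exact absurd h (by decide)
  · refine ⟨h.1, fun h5 => ?_⟩
    rcases h.2 with h' | h'
    · rw [h5] at h'
      exact absurd h' (by decide)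
    · exact Nat.eq_of_beq_eq_true h'

theorem hup2 : ∀ g ∈ P2, g (idxPt 4) ∈ Lib.helper94.setOf 5264 := by
  intro g hg
  obtain ⟨E, hv, hE, hD, -⟩ := frameID_use hg
  rw [mem_setOf, hE, tperm_idxPt hv (by norm_num), ptIdx_idxPt (validPerm_lt hv _ (by norm_num))]
  exact hD

theorem hup3 : ∀ g ∈ P3, g (idxPt 5) ∈ Lib.helper94.setOf 9158944 := by
  intro g hg
  obtain ⟨hg2, hg4⟩ := mem_P3.mp hg
  obtain ⟨E, hv, hE, -, h4⟩ := frameID_use hg2
  have h4' : imgAt E 4 = 4 := by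
    apply imgAt_of_img hv (by norm_num) (by norm_num)
    rw [← hE]
    exact hg4
  rw [mem_setOf, hE, tperm_idxPt hv (by norm_num), ptIdx_idxPt (validPerm_lt hv _ (by norm_num))]
  exact (h4 h4').1

theorem P4_eq : P4 = ⊥ := by
  rw [Subgroup.eq_bot_iff_forall]
  intro g hg
  obtain ⟨hg3, hg5⟩ := mem_P4.mp hg
  obtain ⟨hg2, hg4⟩ := mem_P3.mp hg3
  obtain ⟨E, hv, hE, -, h4⟩ := frameID_use hg2
  have h4' : imgAt E 4 = 4 := by
    apply imgAt_of_img hv (by norm_num) (by norm_num)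
    rw [← hE]
    exact hg4
  have h5' : imgAt E 5 = 5 := by
    apply imgAt_of_img hv (by norm_num) (by norm_num)
    rw [← hE]
    exact hg5
  rw [hE]
  exact tperm_eq_one_of_fixCnt hv ((h4 h4').2 h5')

theorem card_P0 : Nat.card P0 = 1024 := by
  have h0 : Nat.card P0 = popc 9164223 * Nat.card ↥P1 :=
    card_step P0 (idxPt 0) 9164223 (orbOK_sound orb0_ok (by norm_num) P0 hH0) hup0
  have h1 : Nat.card P1 = popc 12 * Nat.card ↥P2 :=
    card_step P1 (idxPt 2) 12 (orbOK_sound orb1_ok (by norm_num) P1 hH1) hup1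
  have h2 : Nat.card P2 = popc 5264 * Nat.card ↥P3 :=
    card_step P2 (idxPt 4) 5264 (orbOK_sound orb2_ok (by norm_num) P2 hH2) hup2
  have h3 : Nat.card P3 = popc 9158944 * Nat.card ↥P4 :=
    card_step P3 (idxPt 5) 9158944 (orbOK_sound orb3_ok (by norm_num) P3 hH3) hup3
  rw [h0, h1, h2, h3, P4_eq, Subgroup.card_bot, misc_ok.1, misc_ok.2.1, misc_ok.2.2.1,
    misc_ok.2.2.2.1]

theorem P0_le : P0 ≤ M24 := fun _ h => (mem_P0.mp h).1

theorem hs_mem : ∀ t ∈ HS, validPerm t = true ∧ tperm t ∈ P0 := by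
  intro t ht
  have h := List.all_eq_true.mp hs_ok t ht
  rw [Bool.and_eq_true] at h
  exact ⟨h.1, hH0 t h.1 h.2⟩

theorem fix_of_conj {β : Type*} [MulAction (Equiv.Perm GolayPt) β] {n q : Equiv.Perm GolayPt}
    {x : β} (h : (n⁻¹ * q * n) • x = x) : q • n • x = n • x := by
  have h1 : q • n • x = n • ((n⁻¹ * q * n) • x) := by
    simp only [mul_smul, smul_inv_smul]
  rw [h1, h]

theorem zfix : ∀ p ∈ Lib.helper94.setOf OMASK, tperm X2A p = p := by
  intro p hp
  rw [mem_setOf] at hp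
  rw [tperm_apply hvX, misc_ok.2.2.2.2.2.2.2.1 _ (ptIdx_lt p) hp, idxPt_ptIdx]

theorem z_ne_one : tperm X2A ≠ 1 := by
  intro h
  have h1 := congrArg (fun f : Equiv.Perm GolayPt => f (idxPt 0)) h
  simp only [Equiv.Perm.one_apply] at h1
  rw [tperm_idxPt hvX (by norm_num), misc_ok.2.2.2.2.1] at h1
  exact idxPt_ne_of_ne (by norm_num) (by norm_num) (by norm_num : (1 : ℕ) ≠ 0) h1

/-- An element of `M24` conjugating the reference subgroup into itself belongs to it. -/
theorem norm_sub {n : Equiv.Perm GolayPt} (hn : n ∈ M24) (hN : ∀ p ∈ P0, n⁻¹ * p * n ∈ P0) :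
    n ∈ P0 := by
  have key : ∀ t ∈ HS, n⁻¹ * tperm t * n ∈ P0 := fun t ht => hN _ (hs_mem t ht).2
  have hOmem : Lib.helper94.setOf OMASK ∈ octads := by
    have := oct_mem 499 (by norm_num)
    rwa [obj_ok.1] at this
  have hSeq : objS 6 SEX 776 = objSetL SL := objSetL_eq_of_seteq obj_ok.2.1
  have hTeq : objS 3 TRI 1064 = objSetL TL := objSetL_eq_of_seteq obj_ok.2.2.1
  have hSmem : objSetL SL ∈ sextets := by
    rw [← hSeq]
    exact sex_mem 776 (by norm_num)
  have hTmem : objSetL TL ∈ trios := by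
    rw [← hTeq]
    exact tri_mem 1064 (by norm_num)
  have hO : n • Lib.helper94.setOf OMASK = Lib.helper94.setOf OMASK := by
    have := uniq_fixed_pts octads 759 OCT oct_complete HS (fun t ht => (hs_mem t ht).1) 499
      oct_uniq (n • Lib.helper94.setOf OMASK) (smul_mem_octads hn hOmem)
      (fun t ht => fix_of_conj (mem_P0.mp (key t ht)).2.2.1)
    rw [this, obj_ok.1]
  have hS : n • objSetL SL = objSetL SL := by
    have := uniq_fixed_sets sextets 6 1771 SEX sex_complete HS (fun t ht => (hs_mem t ht).1) 776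
      sex_uniq (n • objSetL SL) (smul_mem_sextets hn hSmem)
      (fun t ht => fix_of_conj (mem_P0.mp (key t ht)).2.2.2.1)
    rw [this, hSeq]
  have hT : n • objSetL TL = objSetL TL := by
    have := uniq_fixed_sets trios 3 3795 TRI tri_complete HS (fun t ht => (hs_mem t ht).1) 1064
      tri_uniq (n • objSetL TL) (smul_mem_trios hn hTmem)
      (fun t ht => fix_of_conj (mem_P0.mp (key t ht)).2.2.2.2)
    rw [this, hTeq]
  refine mem_P0.mpr ⟨hn, ?_, hO, hS, hT⟩
  -- the conjugate of the involution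
  have hzM : tperm X2A ∈ M24 := P0_le (hH0 X2A hvX misc_ok.2.2.2.2.2.2.2.2.2.2.2)
  have hcomm : ∀ t ∈ HS, (n * tperm X2A * n⁻¹) * tperm t = tperm t * (n * tperm X2A * n⁻¹) := by
    intro t ht
    have h1 := (mem_P0.mp (key t ht)).2.1
    calc n * tperm X2A * n⁻¹ * tperm t = n * (tperm X2A * (n⁻¹ * tperm t * n)) * n⁻¹ := by group
      _ = n * ((n⁻¹ * tperm t * n) * tperm X2A) * n⁻¹ := by rw [h1]
      _ = tperm t * (n * tperm X2A * n⁻¹) := by group
  have hfix : ∀ p ∈ Lib.helper94.setOf OMASK, (n * tperm X2A * n⁻¹) p = p := by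
    intro p hp
    have h1 : n⁻¹ p ∈ Lib.helper94.setOf OMASK := by
      have h2 : n⁻¹ • Lib.helper94.setOf OMASK = Lib.helper94.setOf OMASK := by
        rw [inv_smul_eq_iff, hO]
      rw [← h2]
      exact Finset.smul_mem_smul_finset hp
    show n (tperm X2A (n⁻¹ p)) = p
    rw [zfix _ h1]
    simp
  have hvW : validPerm WT = true := isM24_valid conjW_ok.1
  have hgM : n * tperm X2A * n⁻¹ * tperm WT ∈ M24 :=
    M24.mul_mem (M24.mul_mem (M24.mul_mem hn hzM) (M24.inv_mem hn)) (tperm_mem_M24 conjW_ok.1)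
  have himg : ∀ j : ℕ, j < 24 → OMASK.testBit (imgAt WT j) = true →
      (n * tperm X2A * n⁻¹ * tperm WT) (idxPt j) = idxPt (imgAt WT j) := by
    intro j hj hb
    show (n * tperm X2A * n⁻¹) (tperm WT (idxPt j)) = idxPt (imgAt WT j)
    rw [tperm_idxPt hvW hj]
    exact hfix _ (mem_setOf.mpr (by rw [ptIdx_idxPt (validPerm_lt hvW _ hj)]; exact hb))
  obtain ⟨E, hv, hP, hE⟩ := frame4 KW KWi frameW_ok.1 frameW_ok.2.1 _ frameW_ok.2.2 _ hgM
    (by
      intro j hj
      interval_cases j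
      · have := himg 0 (by norm_num) (by rw [conjW_ok.2.2.2.2.2.2.2.1]; exact conjW_ok.2.2.2.2.2.2.2.2.2.2.2.1)
        rw [conjW_ok.2.2.2.2.2.2.2.1] at this
        exact this
      · have := himg 1 (by norm_num) (by rw [conjW_ok.2.2.2.2.2.2.2.2.1]; exact conjW_ok.2.2.2.2.2.2.2.2.2.2.2.2.1)
        rw [conjW_ok.2.2.2.2.2.2.2.2.1] at this
        exact this
      · have := himg 2 (by norm_num) (by rw [conjW_ok.2.2.2.2.2.2.2.2.2.1]; exact conjW_ok.2.2.2.2.2.2.2.2.2.2.2.2.2.1)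
        rw [conjW_ok.2.2.2.2.2.2.2.2.2.1] at this
        exact this
      · have := himg 3 (by norm_num) (by rw [conjW_ok.2.2.2.2.2.2.2.2.2.2.1]; exact conjW_ok.2.2.2.2.2.2.2.2.2.2.2.2.2.2)
        rw [conjW_ok.2.2.2.2.2.2.2.2.2.2.1] at this
        exact this)
  have hcj : ∀ t tc : ℕ, t ∈ HS → validPerm tc = true → conjOK WT tc t = true →
      conjOK E tc t = true := by
    intro t tc ht hvc hc
    have hvt := (hs_mem t ht).1
    have h1 := (conjOK_iff hvW hvc hvt).mp hc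
    refine (conjOK_iff hv hvc hvt).mpr ?_
    rw [← hE]
    calc n * tperm X2A * n⁻¹ * tperm WT * tperm tc
        = n * tperm X2A * n⁻¹ * (tperm WT * tperm tc) := by group
      _ = (n * tperm X2A * n⁻¹ * tperm t) * tperm WT := by rw [h1]; group
      _ = tperm t * (n * tperm X2A * n⁻¹ * tperm WT) := by rw [hcomm t ht]; group
  rw [hcj H1 H1c (by simp [HS]) conjW_ok.2.2.2.1.1 conjW_ok.2.2.2.1.2,
    hcj H2 H2c (by simp [HS]) conjW_ok.2.2.2.2.1.1 conjW_ok.2.2.2.2.1.2,
    hcj H3 H3c (by simp [HS]) conjW_ok.2.2.2.2.2.1.1 conjW_ok.2.2.2.2.2.1.2,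
    hcj H4 H4c (by simp [HS]) conjW_ok.2.2.2.2.2.2.1.1 conjW_ok.2.2.2.2.2.2.1.2] at hP
  simp only [Bool.and_self, Bool.not_true, Bool.false_or, Bool.or_eq_true] at hP
  rcases hP with h | h
  · exfalso
    rw [Nat.eq_of_beq_eq_true h] at hE
    have h1 : n * tperm X2A * n⁻¹ = 1 := mul_eq_right.mp hE
    apply z_ne_one
    have h2 : tperm X2A = n⁻¹ * (n * tperm X2A * n⁻¹) * n := by group
    rw [h2, h1]
    group
  · rw [Nat.eq_of_beq_eq_true h, ← tperm_mul_of_mulOK hvX hvW conjW_ok.2.1 conjW_ok.2.2.1] at hE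
    have h1 : n * tperm X2A * n⁻¹ = tperm X2A := mul_right_cancel hE
    calc n * tperm X2A = (n * tperm X2A * n⁻¹) * n := by group
      _ = tperm X2A * n := by rw [h1]

/-- The reference Sylow subgroup inside `↥M24`. -/
def Q0 : Subgroup ↥M24 := P0.subgroupOf M24

theorem card_Q0 : Nat.card Q0 = 1024 := by
  rw [Q0, Nat.card_congr (Subgroup.subgroupOfEquivOfLe P0_le).toEquiv]
  exact card_P0

theorem Q0_norm : Subgroup.normalizer ((Q0 : Subgroup ↥M24) : Set ↥M24) = Q0 := by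
  apply le_antisymm
  · intro x hx
    have hx' := (Subgroup.mem_normalizer_iff.mp (Subgroup.inv_mem _ hx))
    show (x : Equiv.Perm GolayPt) ∈ P0
    apply norm_sub x.2
    intro p hp
    have h1 := (hx' ⟨p, P0_le hp⟩).mp hp
    simp only [inv_inv] at h1
    exact h1
  · exact Subgroup.le_normalizer


/-- In the Mathieu group of degree 24 (realised as the automorphism group of the extended binary Golay code) every Sylow 2-subgroup is self-normalizing. -/
theorem result (S : Sylow 2 ↥Cfsg.M24) : Subgroup.normalizer ((S : Subgroup ↥Cfsg.M24) : Set ↥Cfsg.M24) = (S : Subgroup ↥Cfsg.M24) := by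
  have hc : Nat.card Q0 = 2 ^ (Nat.card ↥M24).factorization 2 := by
    rw [card_Q0, Cfsg.Agent.Lib.helper9.card_M24, factorization_card_M24]
    norm_num
  exact sylow_normalizer_eq_of_one (Sylow.ofCard Q0 hc) (by rw [Sylow.coe_ofCard]; exact Q0_norm) S


end Cfsg.Agent.S2882
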