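import Cfsg.Statements.S2896
import Mathlib
import Cfsg.Agent.Lib.helper54.FStar

set_option autoImplicit false
open Cfsg

namespace Cfsg.Agent.S2896

open Cfsg.Agent.Lib.helper53 Cfsg.Agent.Lib.helper54 in
/-- Transport of characteristic `p` between centralizers of conjugate elements. -/
theorem charPIn_centralizer_conj {G : Type*} [Group G] {p : ℕ} (g z : G)
    (h : CharPIn p (Subgroup.centralizer ({g⁻¹ * z * g} : Set G))) :
    CharPIn p (Subgroup.centralizer ({z} : Set G)) := by
  have h1 := h.conj g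
  have h2 : (Subgroup.centralizer ({g⁻¹ * z * g} : Set G)).map (MulAut.conj g).toMonoidHom =
      Subgroup.centralizer ({z} : Set G) := by
    ext w
    rw [mem_conj_iff, Subgroup.mem_centralizer_iff, Subgroup.mem_centralizer_iff]
    constructor
    · intro hw y hy
      rw [Set.mem_singleton_iff] at hy
      subst hy
      have h3 := hw (g⁻¹ * y * g) rfl
      calc y * w = g * (g⁻¹ * y * g * (g⁻¹ * w * g)) * g⁻¹ := by group
        _ = g * (g⁻¹ * w * g * (g⁻¹ * y * g)) * g⁻¹ := by rw [h3]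
        _ = w * y := by group
    · intro hw y hy
      rw [Set.mem_singleton_iff] at hy
      subst hy
      have h3 := hw z rfl
      calc g⁻¹ * z * g * (g⁻¹ * w * g) = g⁻¹ * (z * w) * g := by group
        _ = g⁻¹ * (w * z) * g := by rw [h3]
        _ = g⁻¹ * w * g * (g⁻¹ * z * g) := by group
  rwa [h2] at h1

/-- Order of a conjugate. -/
theorem orderOf_conj' {G : Type*} [Group G] (g z : G) : orderOf (g⁻¹ * z * g) = orderOf z := by
  have h := MulEquiv.orderOf_eq (MulAut.conj g⁻¹) z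
  rw [MulAut.conj_apply, inv_inv] at h
  exact h

open Cfsg.Agent.Lib.helper53 Cfsg.Agent.Lib.helper54 in
/-- Part (i). -/
theorem part1 {G : Type*} [Group G] [Finite G] {p : ℕ} [Fact p.Prime] (X : Subgroup G)
    (hX : IsPGroup p X) (z : G) (hz : z ∈ X) (hzc : ∀ x ∈ X, x * z = z * x)
    (h : Cfsg.generalizedFittingSubgroup ↥(Subgroup.centralizer ({z} : Set G)) =
      Cfsg.pCore p ↥(Subgroup.centralizer ({z} : Set G))) :
    Cfsg.generalizedFittingSubgroup ↥(Subgroup.normalizer (X : Set G)) =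
      Cfsg.pCore p ↥(Subgroup.normalizer (X : Set G)) :=
  (charPIn_iff_fstar _).mp
    (CharPIn.normalizer_of_central hX hz hzc ((charPIn_iff_fstar _).mpr h))

open Cfsg.Agent.Lib.helper53 Cfsg.Agent.Lib.helper54 in
/-- Part (ii), forward direction. -/
theorem part2a {G : Type*} [Group G] [Finite G] {p : ℕ} [Fact p.Prime] (S : Sylow p G)
    (hG : Cfsg.IsOfParabolicCharacteristic p G) (z : G) (hz1 : z ≠ 1)
    (hz : z ∈ Cfsg.omegaOne p ((S : Subgroup G) ⊓ Subgroup.centralizer ((S : Subgroup G) : Set G))) :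
    Cfsg.generalizedFittingSubgroup ↥(Subgroup.centralizer ({z} : Set G)) =
      Cfsg.pCore p ↥(Subgroup.centralizer ({z} : Set G)) := by
  have h1 : Cfsg.omegaOne p ((S : Subgroup G) ⊓ Subgroup.centralizer ((S : Subgroup G) : Set G))
      ≤ (S : Subgroup G) ⊓ Subgroup.centralizer ((S : Subgroup G) : Set G) := by
    unfold Cfsg.omegaOne
    rw [Subgroup.closure_le]
    intro x hx
    exact hx.1
  obtain ⟨hzS, hzC⟩ := Subgroup.mem_inf.mp (h1 hz)
  have hzp : IsPGroup p (Subgroup.zpowers z) := S.2.to_le (Subgroup.zpowers_le.mpr hzS)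
  have hzne : Subgroup.zpowers z ≠ ⊥ := by
    intro hb
    exact hz1 (Subgroup.zpowers_eq_bot.mp hb)
  have hSC : (S : Subgroup G) ≤ Subgroup.centralizer ({z} : Set G) := by
    intro s hs
    rw [Subgroup.mem_centralizer_iff]
    intro h hh
    rw [Set.mem_singleton_iff] at hh
    subst hh
    exact (Subgroup.mem_centralizer_iff.mp hzC s hs).symm
  have hN : CharPIn p (Subgroup.normalizer ((Subgroup.zpowers z : Subgroup G) : Set G)) :=
    (charPIn_iff _).mpr
      (hG _ hzp hzne ⟨S, hSC.trans (centralizer_singleton_le_normalizer_zpowers z)⟩)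
  exact (charPIn_iff_fstar _).mp hN.centralizer_of_normalizer_zpowers

open Cfsg.Agent.Lib.helper53 Cfsg.Agent.Lib.helper54 in
/-- Part (ii), backward direction. -/
theorem part2b {G : Type*} [Group G] [Finite G] {p : ℕ} [Fact p.Prime] (S : Sylow p G)
    (h : ∀ z : G, z ≠ 1 →
      z ∈ Cfsg.omegaOne p ((S : Subgroup G) ⊓ Subgroup.centralizer ((S : Subgroup G) : Set G)) →
      Cfsg.generalizedFittingSubgroup ↥(Subgroup.centralizer ({z} : Set G)) =
        Cfsg.pCore p ↥(Subgroup.centralizer ({z} : Set G))) :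
    Cfsg.IsOfParabolicCharacteristic p G := by
  have hpp : p.Prime := Fact.out
  intro R hR hne hpar
  obtain ⟨T, hT⟩ := hpar
  have hRT : R ≤ T := le_of_le_normalizer_sylow T hR hT
  obtain ⟨z, hzR, hzord, hzc⟩ := exists_orderOf_eq_prime_central_of_normal T.2 hRT hT hne
  obtain ⟨g, hg⟩ := exists_le_conj_sylow T.2 S
  have hTS : (S : Subgroup G).map (MulAut.conj g).toMonoidHom = T := T.3 (isPGroup_conj S.2 g) hg
  have hz0S : g⁻¹ * z * g ∈ (S : Subgroup G) := by
    rw [← mem_conj_iff, hTS]; exact hRT hzR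
  have hz0C : g⁻¹ * z * g ∈ Subgroup.centralizer ((S : Subgroup G) : Set G) := by
    rw [Subgroup.mem_centralizer_iff]
    intro s hs
    have h1 : g * s * g⁻¹ ∈ (T : Subgroup G) := by
      rw [← hTS]; exact conj_mem_conj hs
    have h2 := hzc _ h1
    calc s * (g⁻¹ * z * g) = g⁻¹ * (g * s * g⁻¹ * z) * g := by group
      _ = g⁻¹ * (z * (g * s * g⁻¹)) * g := by rw [h2]
      _ = g⁻¹ * z * g * s := by group
  have hz0ord : orderOf (g⁻¹ * z * g) = p := by rw [orderOf_conj', hzord]
  have hz0mem : g⁻¹ * z * g ∈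
      Cfsg.omegaOne p ((S : Subgroup G) ⊓ Subgroup.centralizer ((S : Subgroup G) : Set G)) := by
    apply Subgroup.subset_closure
    refine ⟨Subgroup.mem_inf.mpr ⟨hz0S, hz0C⟩, ?_⟩
    rw [← hz0ord, pow_orderOf_eq_one]
  have hz0ne : g⁻¹ * z * g ≠ 1 := by
    intro h1
    rw [h1, orderOf_one] at hz0ord
    exact hpp.one_lt.ne hz0ord
  have hC : CharPIn p (Subgroup.centralizer ({z} : Set G)) :=
    charPIn_centralizer_conj g z ((charPIn_iff_fstar _).mpr (h _ hz0ne hz0mem))
  exact (charPIn_iff _).mp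
    (CharPIn.normalizer_of_central hR hzR (fun x hx => hzc x (hRT hx)) hC)

open Cfsg.Agent.Lib.helper53 Cfsg.Agent.Lib.helper54 in
/-- Part (iii). -/
theorem part3 {G : Type*} [Group G] [Finite G] {p : ℕ} [Fact p.Prime] (S : Sylow p G)
    (h : ∀ z : G, z ∈ (S : Subgroup G) → orderOf z = p →
      Cfsg.generalizedFittingSubgroup ↥(Subgroup.centralizer ({z} : Set G)) =
        Cfsg.pCore p ↥(Subgroup.centralizer ({z} : Set G)))
    (T : Subgroup G) (hT : IsPGroup p T) (hne : T ≠ ⊥) :
    Subgroup.centralizer (Cfsg.pCore p ↥(Subgroup.normalizer (T : Set G)) :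
      Set ↥(Subgroup.normalizer (T : Set G))) ≤ Cfsg.pCore p ↥(Subgroup.normalizer (T : Set G)) := by
  obtain ⟨z, hzT, hzord, hzc⟩ := exists_central_orderOf_eq_prime hT hne
  obtain ⟨g, hg⟩ := exists_le_conj_sylow hT S
  have hz0S : g⁻¹ * z * g ∈ (S : Subgroup G) := mem_conj_iff.mp (hg hzT)
  have hz0ord : orderOf (g⁻¹ * z * g) = p := by rw [orderOf_conj', hzord]
  have hC : CharPIn p (Subgroup.centralizer ({z} : Set G)) :=
    charPIn_centralizer_conj g z ((charPIn_iff_fstar _).mpr (h _ hz0S hz0ord))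
  exact (charPIn_iff _).mp (CharPIn.normalizer_of_central hT hzT hzc hC)

/-- Let p be a prime dividing the order of the finite group G, S a Sylow p-subgroup of G and X a subgroup of S. (i) If some nontrivial element z of the centre of X has F*(C_G(z)) = O_p(C_G(z)), then F*(N_G(X)) = O_p(N_G(X)). (ii) G has parabolic characteristic p if and only if F*(C_G(z)) = O_p(C_G(z)) for every nontrivial z ∈ Ω₁(Z(S)). (iii) If F*(C_G(z)) = O_p(C_G(z)) for every element z of S of order p, then G has local characteristic p. -/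
theorem result {G : Type*} [Group G] [Finite G] {p : ℕ} [Fact p.Prime] (hdiv : p ∣ Nat.card G) (S : Sylow p G) (X : Subgroup G) (hX : X ≤ (S : Subgroup G)) : (∀ z : G, z ≠ 1 → z ∈ X → (∀ x ∈ X, x * z = z * x) → Cfsg.generalizedFittingSubgroup ↥(Subgroup.centralizer ({z} : Set G)) = Cfsg.pCore p ↥(Subgroup.centralizer ({z} : Set G)) → Cfsg.generalizedFittingSubgroup ↥(Subgroup.normalizer (X : Set G)) = Cfsg.pCore p ↥(Subgroup.normalizer (X : Set G))) ∧ (Cfsg.IsOfParabolicCharacteristic p G ↔ ∀ z : G, z ≠ 1 → z ∈ Cfsg.omegaOne p ((S : Subgroup G) ⊓ Subgroup.centralizer ((S : Subgroup G) : Set G)) → Cfsg.generalizedFittingSubgroup ↥(Subgroup.centralizer ({z} : Set G)) = Cfsg.pCore p ↥(Subgroup.centralizer ({z} : Set G))) ∧ ((∀ z : G, z ∈ (S : Subgroup G) → orderOf z = p → Cfsg.generalizedFittingSubgroup ↥(Subgroup.centralizer ({z} : Set G)) = Cfsg.pCore p ↥(Subgroup.centralizer ({z} : Set G))) → Cfsg.IsOfLocalCharacteristic p G) := by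
  refine ⟨?_, ⟨?_, ?_⟩, ?_⟩
  · intro z _ hz hzc h
    exact part1 X (S.2.to_le hX) z hz hzc h
  · intro hG z hz1 hz
    exact part2a S hG z hz1 hz
  · intro h
    exact part2b S h
  · intro h
    exact ⟨hdiv, fun T hT hne => part3 S h T hT hne⟩

end Cfsg.Agent.S2896
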