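import Cfsg.Statements.S2897
import Mathlib
import Cfsg.Agent.Lib.helper38.PGroupNormal
import Cfsg.Agent.Lib.helper54.AxB

set_option autoImplicit false
open Cfsg

namespace Cfsg.Agent.S2897

open Cfsg.Agent.Lib.helper53 Cfsg.Agent.Lib.helper54 in
/-- `N_G(⟨z⟩)` normalizes `C_G(z)`. -/
theorem normalizer_zpowers_le {G : Type*} [Group G] [Finite G] (z : G) :
    Subgroup.normalizer ((Subgroup.zpowers z : Subgroup G) : Set G) ≤
      Subgroup.normalizer ((Subgroup.centralizer ({z} : Set G) : Subgroup G) : Set G) := by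
  intro n hn
  apply mem_normalizer_of_conj_le
  rw [conj_le_iff]
  intro c hc
  rw [Subgroup.mem_centralizer_iff]
  intro h hh
  rw [Set.mem_singleton_iff] at hh
  subst hh
  have h1 : n⁻¹ * h * n ∈ Subgroup.zpowers h := by
    have h2 := (Subgroup.mem_normalizer_iff.mp (Subgroup.inv_mem _ hn) h).mp
      (Subgroup.mem_zpowers h)
    rwa [inv_inv] at h2
  obtain ⟨k, hk⟩ := Subgroup.mem_zpowers_iff.mp h1
  have h3 : Commute h c := Subgroup.mem_centralizer_iff.mp hc h rfl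
  have h4 : (n⁻¹ * h * n) * c = c * (n⁻¹ * h * n) := by
    rw [← hk]
    exact (h3.zpow_left k).eq
  calc h * (n * c * n⁻¹) = n * ((n⁻¹ * h * n) * c) * n⁻¹ := by group
    _ = n * (c * (n⁻¹ * h * n)) * n⁻¹ := by rw [h4]
    _ = n * c * n⁻¹ * h := by group

open Cfsg.Agent.Lib.helper53 Cfsg.Agent.Lib.helper54 Cfsg.Agent.Lib.helper38 in
/-- The statement in ambient form. -/
theorem main {G : Type*} [Group G] [Finite G] {p : ℕ} [Fact p.Prime]
    (hG : Cfsg.IsOfParabolicCharacteristic p G) (S : Sylow p G) (G₁ : Subgroup G) [G₁.Normal]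
    (hle : Cfsg.omegaOne p (((S : Subgroup G) ⊓ G₁) ⊓
        Subgroup.centralizer (((S : Subgroup G) ⊓ G₁ : Subgroup G) : Set G)) ≤
      Cfsg.omegaOne p ((S : Subgroup G) ⊓ Subgroup.centralizer ((S : Subgroup G) : Set G)))
    (R : Subgroup ↥G₁) (hR : IsPGroup p R) (hne : R ≠ ⊥) (T₁ : Sylow p ↥G₁)
    (hT₁ : (T₁ : Subgroup ↥G₁) ≤ Subgroup.normalizer (R : Set ↥G₁)) :
    CharPIn p (Subgroup.normalizer (R : Set ↥G₁)) := by
  have hpp : p.Prime := Fact.out
  -- Step 1: `R ≤ T₁`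
  have hRT : R ≤ T₁ := by
    have h1 : IsPGroup p (R ⊔ (T₁ : Subgroup ↥G₁) : Subgroup ↥G₁) :=
      hR.to_sup_of_normal_left' T₁.2 hT₁
    have h2 := T₁.3 h1 le_sup_right
    rw [← h2]; exact le_sup_left
  -- Step 2: an element of order `p` of `R` central in `T₁`
  have hZne : R ⊓ Subgroup.centralizer ((T₁ : Subgroup ↥G₁) : Set ↥G₁) ≠ ⊥ := by
    have hn : (R.subgroupOf (T₁ : Subgroup ↥G₁)).Normal :=
      (Subgroup.normal_subgroupOf_iff_le_normalizer hRT).mpr hT₁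
    have hnb : R.subgroupOf (T₁ : Subgroup ↥G₁) ≠ ⊥ := by
      intro hb
      apply hne
      rw [eq_bot_iff]
      intro r hr
      have h1 : (⟨r, hRT hr⟩ : ↥(T₁ : Subgroup ↥G₁)) ∈ R.subgroupOf (T₁ : Subgroup ↥G₁) :=
        Subgroup.mem_subgroupOf.mpr hr
      rw [hb, Subgroup.mem_bot] at h1
      rw [Subgroup.mem_bot]
      exact congrArg Subtype.val h1
    obtain ⟨z', hz'R, hz'1, hz'c⟩ := exists_central_of_normal_ne_bot
      (p := p) (Q := ↥(T₁ : Subgroup ↥G₁)) T₁.2 (R.subgroupOf (T₁ : Subgroup ↥G₁)) hnb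
    intro hb
    apply hz'1
    have h1 : (z' : ↥G₁) ∈ R ⊓ Subgroup.centralizer ((T₁ : Subgroup ↥G₁) : Set ↥G₁) := by
      refine Subgroup.mem_inf.mpr ⟨Subgroup.mem_subgroupOf.mp hz'R, ?_⟩
      rw [Subgroup.mem_centralizer_iff]
      intro t ht
      have h2 := congrArg Subtype.val (hz'c ⟨t, ht⟩)
      have h3 : t * (z' : ↥G₁) * t⁻¹ = (z' : ↥G₁) := h2
      calc t * (z' : ↥G₁) = t * (z' : ↥G₁) * t⁻¹ * t := by group
        _ = (z' : ↥G₁) * t := by rw [h3]
    rw [hb, Subgroup.mem_bot] at h1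
    exact Subtype.ext h1
  obtain ⟨z₁, hz₁Z, hz₁ord⟩ := exists_orderOf_eq_prime_of_ne_bot (hR.to_le inf_le_left) hZne
  obtain ⟨hz₁R, hz₁c⟩ := Subgroup.mem_inf.mp hz₁Z
  have hz₁c' : ∀ t ∈ (T₁ : Subgroup ↥G₁), t * z₁ = z₁ * t :=
    Subgroup.mem_centralizer_iff.mp hz₁c
  have hzord : orderOf (z₁ : G) = p := by rw [Subgroup.orderOf_coe, hz₁ord]
  -- Step 3: a Sylow `p`-subgroup `T` of `G` with `T ⊓ G₁ = T₁`
  obtain ⟨T, hT⟩ := (T₁.2.map G₁.subtype).exists_le_sylow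
  have hTG₁ : ∀ x ∈ (T : Subgroup G), ∀ hx : x ∈ G₁, (⟨x, hx⟩ : ↥G₁) ∈ (T₁ : Subgroup ↥G₁) := by
    intro x hxT hx
    have hXp : IsPGroup p (((T : Subgroup G) ⊓ G₁).subgroupOf G₁) :=
      (T.2.to_le inf_le_left).comap_subtype
    have hle' : (T₁ : Subgroup ↥G₁) ≤ ((T : Subgroup G) ⊓ G₁).subgroupOf G₁ := by
      intro t ht
      rw [Subgroup.mem_subgroupOf]
      exact Subgroup.mem_inf.mpr ⟨hT ⟨t, ht, rfl⟩, t.2⟩
    have h2 := T₁.3 hXp hle'
    rw [← h2, Subgroup.mem_subgroupOf]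
    exact Subgroup.mem_inf.mpr ⟨hxT, hx⟩
  -- Step 4: `T` is a conjugate of `S`
  obtain ⟨g, hg⟩ := exists_le_conj_sylow T.2 S
  have hTS : (S : Subgroup G).map (MulAut.conj g).toMonoidHom = T := T.3 (isPGroup_conj S.2 g) hg
  have hzT : (z₁ : G) ∈ (T : Subgroup G) := hT ⟨z₁, hRT hz₁R, rfl⟩
  have hzcT : ∀ x ∈ (T : Subgroup G), x ∈ G₁ → x * (z₁ : G) = (z₁ : G) * x := by
    intro x hxT hx
    exact congrArg Subtype.val (hz₁c' ⟨x, hx⟩ (hTG₁ x hxT hx))
  have hz0S : g⁻¹ * (z₁ : G) * g ∈ (S : Subgroup G) := by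
    rw [← mem_conj_iff, hTS]; exact hzT
  have hz0 : g⁻¹ * (z₁ : G) * g ∈ Cfsg.omegaOne p (((S : Subgroup G) ⊓ G₁) ⊓
      Subgroup.centralizer (((S : Subgroup G) ⊓ G₁ : Subgroup G) : Set G)) := by
    apply Subgroup.subset_closure
    refine ⟨Subgroup.mem_inf.mpr ⟨Subgroup.mem_inf.mpr ⟨hz0S, ?_⟩, ?_⟩, ?_⟩
    · have h1 := (inferInstance : G₁.Normal).conj_mem (z₁ : G) z₁.2 g⁻¹
      rwa [inv_inv] at h1
    · rw [Subgroup.mem_centralizer_iff]
      intro s hs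
      obtain ⟨hsS, hsG⟩ := Subgroup.mem_inf.mp hs
      have h1 : g * s * g⁻¹ ∈ (T : Subgroup G) := by
        rw [← hTS]; exact conj_mem_conj hsS
      have h2 := hzcT _ h1 ((inferInstance : G₁.Normal).conj_mem s hsG g)
      calc s * (g⁻¹ * (z₁ : G) * g) = g⁻¹ * (g * s * g⁻¹ * (z₁ : G)) * g := by group
        _ = g⁻¹ * ((z₁ : G) * (g * s * g⁻¹)) * g := by rw [h2]
        _ = g⁻¹ * (z₁ : G) * g * s := by group
    · have h1 : (g⁻¹ * (z₁ : G) * g) ^ p = g⁻¹ * (z₁ : G) ^ p * g := by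
        have h2 := conj_pow (a := g⁻¹) (b := (z₁ : G)) (i := p)
        simpa using h2
      rw [h1, ← hzord, pow_orderOf_eq_one]; group
  have hz0c : g⁻¹ * (z₁ : G) * g ∈ Subgroup.centralizer ((S : Subgroup G) : Set G) := by
    have h1 : Cfsg.omegaOne p ((S : Subgroup G) ⊓ Subgroup.centralizer ((S : Subgroup G) : Set G))
        ≤ (S : Subgroup G) ⊓ Subgroup.centralizer ((S : Subgroup G) : Set G) := by
      unfold Cfsg.omegaOne
      rw [Subgroup.closure_le]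
      intro x hx
      exact hx.1
    exact (Subgroup.mem_inf.mp (h1 (hle hz0))).2
  have hzcen : (T : Subgroup G) ≤ Subgroup.centralizer ({(z₁ : G)} : Set G) := by
    intro t ht
    rw [Subgroup.mem_centralizer_iff]
    intro h hh
    rw [Set.mem_singleton_iff] at hh
    subst hh
    have h1 : g⁻¹ * t * g ∈ (S : Subgroup G) := by
      rw [← mem_conj_iff, hTS]; exact ht
    have h2 := Subgroup.mem_centralizer_iff.mp hz0c _ h1
    calc (z₁ : G) * t = g * ((g⁻¹ * (z₁ : G) * g) * (g⁻¹ * t * g)) * g⁻¹ := by group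
      _ = g * ((g⁻¹ * t * g) * (g⁻¹ * (z₁ : G) * g)) * g⁻¹ := by rw [h2]
      _ = t * (z₁ : G) := by group
  -- Step 5: `N_G(⟨z⟩)` is a parabolic `p`-local, hence of characteristic `p`
  have hzp : IsPGroup p (Subgroup.zpowers (z₁ : G)) := by
    apply IsPGroup.of_card (n := 1)
    rw [Nat.card_zpowers, hzord, pow_one]
  have hzne : Subgroup.zpowers (z₁ : G) ≠ ⊥ := by
    intro hb
    rw [Subgroup.zpowers_eq_bot] at hb
    rw [hb, orderOf_one] at hzord
    exact hpp.one_lt.ne hzord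
  have hCN : Subgroup.centralizer ({(z₁ : G)} : Set G) ≤
      Subgroup.normalizer ((Subgroup.zpowers (z₁ : G) : Subgroup G) : Set G) :=
    centralizer_singleton_le_normalizer_zpowers _
  have hN : CharPIn p (Subgroup.normalizer ((Subgroup.zpowers (z₁ : G) : Subgroup G) : Set G)) :=
    (charPIn_iff _).mpr (hG _ hzp hzne ⟨T, hzcen.trans hCN⟩)
  -- Step 6: `C_G(z)` has characteristic `p`
  have hC : CharPIn p (Subgroup.centralizer ({(z₁ : G)} : Set G)) :=
    CharPIn.of_normal hCN (normalizer_zpowers_le _) hN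
  -- Step 7: `G₁ ⊓ C_G(z)` has characteristic `p`
  have hY : CharPIn p (G₁ ⊓ Subgroup.centralizer ({(z₁ : G)} : Set G)) := by
    refine CharPIn.of_normal inf_le_right ?_ hC
    refine le_trans ?_ Subgroup.inf_normalizer_le_normalizer_inf
    refine le_inf ?_ Subgroup.le_normalizer
    rw [Subgroup.normalizer_eq_top]
    exact le_top
  -- Step 8: `N_Y(R')`
  have hR'Y : R.map G₁.subtype ≤ G₁ ⊓ Subgroup.centralizer ({(z₁ : G)} : Set G) := by
    rintro _ ⟨r, hr, rfl⟩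
    refine Subgroup.mem_inf.mpr ⟨r.2, ?_⟩
    rw [Subgroup.mem_centralizer_iff]
    intro h hh
    rw [Set.mem_singleton_iff] at hh
    subst hh
    exact (congrArg Subtype.val (hz₁c' r (hRT hr))).symm
  have h8 := CharPIn.inf_normalizer hY hR'Y (hR.map G₁.subtype)
  rw [inf_right_comm] at h8
  -- Step 9
  have h9 : CharPIn p (G₁ ⊓ Subgroup.normalizer ((R.map G₁.subtype : Subgroup G) : Set G)) :=
    charPIn_of_centralizer (P := R.map G₁.subtype) (z := (z₁ : G))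
      (le_inf (Subgroup.map_subtype_le _) Subgroup.le_normalizer) inf_le_right
      (hR.map G₁.subtype) ⟨z₁, hz₁R, rfl⟩ h8
  -- Step 10
  apply CharPIn.of_map_subtype
  rw [map_normalizer_subtype]
  exact h9

/-- Let p be a prime dividing the order of the finite group G, suppose G has parabolic characteristic p, let S be a Sylow p-subgroup of G and G₁ a normal subgroup of G. If Ω₁(Z(S ∩ G₁)) is nontrivial and contained in Ω₁(Z(S)), then G₁ has parabolic characteristic p. -/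
theorem result {G : Type*} [Group G] [Finite G] {p : ℕ} [Fact p.Prime] (hdiv : p ∣ Nat.card G) (hG : Cfsg.IsOfParabolicCharacteristic p G) (S : Sylow p G) (G₁ : Subgroup G) [G₁.Normal] (hne : Cfsg.omegaOne p (((S : Subgroup G) ⊓ G₁) ⊓ Subgroup.centralizer (((S : Subgroup G) ⊓ G₁ : Subgroup G) : Set G)) ≠ ⊥) (hle : Cfsg.omegaOne p (((S : Subgroup G) ⊓ G₁) ⊓ Subgroup.centralizer (((S : Subgroup G) ⊓ G₁ : Subgroup G) : Set G)) ≤ Cfsg.omegaOne p ((S : Subgroup G) ⊓ Subgroup.centralizer ((S : Subgroup G) : Set G))) : Cfsg.IsOfParabolicCharacteristic p ↥G₁ := by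
  intro R hR hne hpar
  obtain ⟨T₁, hT₁⟩ := hpar
  exact (Cfsg.Agent.Lib.helper54.charPIn_iff _).mp (main hG S G₁ hle R hR hne T₁ hT₁)

end Cfsg.Agent.S2897
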