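import Cfsg.Statements.S2898
import Mathlib
import Cfsg.Agent.Lib.helper40.Cores
import Cfsg.Agent.Lib.helper54.FStar

set_option autoImplicit false
open Cfsg

namespace Cfsg.Agent.S2898

open Cfsg.Agent.Lib.helper53 Cfsg.Agent.Lib.helper54 in
/-- In a group of parabolic characteristic 2, a central involution of a Sylow 2-subgroup inverts
`O(G)`. -/
theorem inverts {G : Type*} [Group G] [Finite G] (hG : Cfsg.IsOfParabolicCharacteristic 2 G)
    [hN : (Cfsg.oddCore G).Normal] (S : Sylow 2 G) (z : G) (hzS : z ∈ (S : Subgroup G))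
    (hz2 : orderOf z = 2) (hzc : ∀ s ∈ (S : Subgroup G), s * z = z * s) :
    ∀ x ∈ Cfsg.oddCore G, z * x * z⁻¹ = x⁻¹ := by
  have hf2 : Fact (Nat.Prime 2) := ⟨Nat.prime_two⟩
  have hzp : IsPGroup 2 (Subgroup.zpowers z) := S.2.to_le (Subgroup.zpowers_le.mpr hzS)
  have hzne : Subgroup.zpowers z ≠ ⊥ := by
    intro hb
    rw [Subgroup.zpowers_eq_bot] at hb
    rw [hb, orderOf_one] at hz2
    omega
  have hSC : (S : Subgroup G) ≤ Subgroup.centralizer ({z} : Set G) := by
    intro s hs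
    rw [Subgroup.mem_centralizer_iff]
    intro h hh
    rw [Set.mem_singleton_iff] at hh
    subst hh
    exact (hzc s hs).symm
  have hNz : CharPIn 2 (Subgroup.normalizer ((Subgroup.zpowers z : Subgroup G) : Set G)) :=
    (charPIn_iff _).mpr
      (hG _ hzp hzne ⟨S, hSC.trans (centralizer_singleton_le_normalizer_zpowers z)⟩)
  obtain ⟨Q, hQC, hCQ, hQ2, hcen⟩ := hNz.centralizer_of_normalizer_zpowers
  have hone : ∀ y : G, y ∈ Q → y ∈ Cfsg.oddCore G → y = 1 := by
    intro y hyQ hyO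
    obtain ⟨k, hk⟩ := hQ2 ⟨y, hyQ⟩
    have hk' : y ^ 2 ^ k = 1 := congrArg Subtype.val hk
    exact Cfsg.Agent.Lib.helper40.eq_one_of_pow_eq_one_of_coprime hk'
      (Cfsg.Agent.Lib.helper40.orderOf_coprime_of_mem_pPrimeCore hyO)
  have hfix : ∀ x ∈ Cfsg.oddCore G, z * x = x * z → x = 1 := by
    intro x hx hxz
    have hxC : x ∈ Subgroup.centralizer ({z} : Set G) := by
      rw [Subgroup.mem_centralizer_iff]
      intro h hh
      rw [Set.mem_singleton_iff] at hh
      subst hh
      exact hxz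
    have hxQ : x ∈ Q := by
      apply hcen
      refine Subgroup.mem_inf.mpr ⟨hxC, ?_⟩
      rw [Subgroup.mem_centralizer_iff]
      intro q hq
      have h1 : x * q * x⁻¹ * q⁻¹ ∈ Q :=
        Q.mul_mem ((Subgroup.mem_normalizer_iff.mp (hCQ hxC) q).mp hq) (Q.inv_mem hq)
      have h2 : x * q * x⁻¹ * q⁻¹ ∈ Cfsg.oddCore G := by
        have h3 := hN.conj_mem x⁻¹ (Subgroup.inv_mem _ hx) q
        have h4 : x * q * x⁻¹ * q⁻¹ = x * (q * x⁻¹ * q⁻¹) := by group
        rw [h4]; exact Subgroup.mul_mem _ hx h3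
      have h5 := hone _ h1 h2
      calc q * x = (x * q * x⁻¹ * q⁻¹)⁻¹ * (x * q) := by group
        _ = x * q := by rw [h5]; simp
    exact hone x hxQ hx
  have hzz : z * z = 1 := by
    have h1 := pow_orderOf_eq_one z
    rwa [hz2, pow_two] at h1
  have hfpf : MonoidHom.FixedPointFree (MulAut.conjNormal (H := Cfsg.oddCore G) z) := by
    intro x hx
    have h1 : z * (x : G) * z⁻¹ = (x : G) := by
      have h2 := congrArg Subtype.val hx
      rwa [MulAut.conjNormal_apply] at h2
    have h3 : (x : G) = 1 := by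
      apply hfix _ x.2
      calc z * (x : G) = z * (x : G) * z⁻¹ * z := by group
        _ = (x : G) * z := by rw [h1]
    exact Subtype.ext h3
  have hinvol : Function.Involutive (MulAut.conjNormal (H := Cfsg.oddCore G) z) := by
    intro x
    apply Subtype.ext
    rw [MulAut.conjNormal_apply, MulAut.conjNormal_apply]
    calc z * (z * (x : G) * z⁻¹) * z⁻¹ = (z * z) * (x : G) * (z * z)⁻¹ := by group
      _ = (x : G) := by rw [hzz]; simp
  intro x hx
  have h1 := congrFun (MonoidHom.FixedPointFree.coe_eq_inv_of_involutive hfpf hinvol) ⟨x, hx⟩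
  have h2 := congrArg Subtype.val h1
  rwa [MulAut.conjNormal_apply] at h2

open Cfsg.Agent.Lib.helper53 Cfsg.Agent.Lib.helper54 in
/-- The main argument. -/
theorem main {G : Type*} [Group G] [Finite G] (h2 : 2 ∣ Nat.card G)
    (hG : Cfsg.IsOfParabolicCharacteristic 2 G) [hN : (Cfsg.oddCore G).Normal]
    (hZ : Subgroup.center (G ⧸ Cfsg.oddCore G) = ⊥) : Cfsg.oddCore G = ⊥ := by
  have hf2 : Fact (Nat.Prime 2) := ⟨Nat.prime_two⟩
  by_contra hO
  obtain S : Sylow 2 G := default
  have hSne : (S : Subgroup G) ≠ ⊥ := S.ne_bot_of_dvd_card h2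
  obtain ⟨z, hzS, hz2, hzc⟩ := exists_central_orderOf_eq_prime S.2 hSne
  have hinv := inverts hG S z hzS hz2 hzc
  have hCn : (Subgroup.centralizer (Cfsg.oddCore G : Set G)).Normal := inferInstance
  have hCodd : (Nat.card (Subgroup.centralizer (Cfsg.oddCore G : Set G))).Coprime 2 := by
    by_contra hc
    have h2C : 2 ∣ Nat.card (Subgroup.centralizer (Cfsg.oddCore G : Set G)) :=
      (Nat.Prime.dvd_iff_not_coprime Nat.prime_two).mpr (fun h => hc h.symm)
    obtain ⟨t, ht⟩ := exists_prime_orderOf_dvd_card' 2 h2C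
    have htp : IsPGroup 2 (Subgroup.zpowers (t : G)) := by
      apply IsPGroup.of_card (n := 1)
      rw [Nat.card_zpowers, Subgroup.orderOf_coe, ht, pow_one]
    obtain ⟨g, hg⟩ := exists_le_conj_sylow htp S
    have ht'S : g⁻¹ * (t : G) * g ∈ (S : Subgroup G) :=
      mem_conj_iff.mp (hg (Subgroup.mem_zpowers _))
    have ht'C : g⁻¹ * (t : G) * g ∈ Subgroup.centralizer (Cfsg.oddCore G : Set G) := by
      have h1 := hCn.conj_mem (t : G) t.2 g⁻¹
      rwa [inv_inv] at h1
    have hRne : (S : Subgroup G) ⊓ Subgroup.centralizer (Cfsg.oddCore G : Set G) ≠ ⊥ := by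
      intro hb
      have h1 : g⁻¹ * (t : G) * g ∈
          (S : Subgroup G) ⊓ Subgroup.centralizer (Cfsg.oddCore G : Set G) :=
        Subgroup.mem_inf.mpr ⟨ht'S, ht'C⟩
      rw [hb, Subgroup.mem_bot] at h1
      have h3 : (t : G) = 1 := by
        calc (t : G) = g * (g⁻¹ * (t : G) * g) * g⁻¹ := by group
          _ = 1 := by rw [h1]; group
      have h4 : orderOf (t : G) = 2 := by rw [Subgroup.orderOf_coe, ht]
      rw [h3, orderOf_one] at h4
      omega
    have hSn : (S : Subgroup G) ≤ Subgroup.normalizer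
        (((S : Subgroup G) ⊓ Subgroup.centralizer (Cfsg.oddCore G : Set G) : Subgroup G) : Set G) := by
      refine le_trans ?_ Subgroup.inf_normalizer_le_normalizer_inf
      refine le_inf Subgroup.le_normalizer ?_
      rw [Subgroup.normalizer_eq_top]
      exact le_top
    obtain ⟨z', hz'R, hz'2, hz'c⟩ :=
      exists_orderOf_eq_prime_central_of_normal S.2 inf_le_left hSn hRne
    obtain ⟨hz'S, hz'C⟩ := Subgroup.mem_inf.mp hz'R
    have hinv' := inverts hG S z' hz'S hz'2 hz'c
    apply hO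
    rw [eq_bot_iff]
    intro x hx
    have h1 := hinv' x hx
    have h3 : z' * x * z'⁻¹ = x := by
      have h4 := Subgroup.mem_centralizer_iff.mp hz'C x hx
      rw [← h4]; group
    have h5 : x ^ 2 ^ 1 = 1 := by
      rw [h3] at h1
      rw [pow_one, pow_two]
      calc x * x = x * x⁻¹ := by rw [← h1]
        _ = 1 := mul_inv_cancel x
    rw [Subgroup.mem_bot]
    exact Cfsg.Agent.Lib.helper40.eq_one_of_pow_eq_one_of_coprime h5
      (Cfsg.Agent.Lib.helper40.orderOf_coprime_of_mem_pPrimeCore hx)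
  have hCO : Subgroup.centralizer (Cfsg.oddCore G : Set G) ≤ Cfsg.oddCore G :=
    Cfsg.Agent.Lib.helper40.le_pPrimeCore _ hCn hCodd
  have hzcen : (QuotientGroup.mk z : G ⧸ Cfsg.oddCore G) ∈ Subgroup.center (G ⧸ Cfsg.oddCore G) := by
    rw [Subgroup.mem_center_iff]
    intro y
    obtain ⟨g, rfl⟩ := QuotientGroup.mk_surjective y
    rw [← QuotientGroup.mk_mul, ← QuotientGroup.mk_mul, QuotientGroup.eq]
    apply hCO
    rw [Subgroup.mem_centralizer_iff]
    intro x hx
    have hy := hinv (g * x * g⁻¹) (hN.conj_mem x hx g)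
    have h5 : z⁻¹ * x⁻¹ * z = x := by
      rw [← hinv x hx]; group
    have key : ((g * z)⁻¹ * (z * g)) * x * ((g * z)⁻¹ * (z * g))⁻¹ = x := by
      calc ((g * z)⁻¹ * (z * g)) * x * ((g * z)⁻¹ * (z * g))⁻¹
          = z⁻¹ * g⁻¹ * (z * (g * x * g⁻¹) * z⁻¹) * g * z := by group
        _ = z⁻¹ * g⁻¹ * (g * x * g⁻¹)⁻¹ * g * z := by rw [hy]
        _ = z⁻¹ * x⁻¹ * z := by group
        _ = x := h5
    calc x * ((g * z)⁻¹ * (z * g))
        = ((g * z)⁻¹ * (z * g)) * x * ((g * z)⁻¹ * (z * g))⁻¹ * ((g * z)⁻¹ * (z * g)) := by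
          rw [key]
      _ = (g * z)⁻¹ * (z * g) * x := by group
  rw [hZ, Subgroup.mem_bot, QuotientGroup.eq_one_iff] at hzcen
  have h6 := Cfsg.Agent.Lib.helper40.orderOf_coprime_of_mem_pPrimeCore hzcen
  rw [hz2] at h6
  exact absurd h6 (by decide)

/-- Let G be a finite group of even order with parabolic characteristic 2. If the centre of G ⧸ O(G) is trivial, then O(G) = 1. -/
theorem result {G : Type*} [Group G] [Finite G] (h2 : 2 ∣ Nat.card G) (hG : Cfsg.IsOfParabolicCharacteristic 2 G) [hN : (Cfsg.oddCore G).Normal] (hZ : Subgroup.center (G ⧸ Cfsg.oddCore G) = ⊥) : Cfsg.oddCore G = ⊥ := by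
  exact main h2 hG hZ

end Cfsg.Agent.S2898
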