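import Cfsg.Statements.S2907
import Mathlib

set_option autoImplicit false
open Cfsg

namespace Cfsg.Agent.S2907

/-- In a group whose commutators are central, `y ↦ x y x⁻¹ y⁻¹` is a homomorphism to the centre. -/
def commHom {X : Type*} [Group X] (hc : ∀ a b : X, a * b * a⁻¹ * b⁻¹ ∈ Subgroup.center X)
    (x : X) : X →* ↥(Subgroup.center X) where
  toFun y := ⟨x * y * x⁻¹ * y⁻¹, hc x y⟩
  map_one' := by
    apply Subtype.ext
    show x * 1 * x⁻¹ * 1⁻¹ = 1
    group
  map_mul' y y' := by
    apply Subtype.ext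
    show x * (y * y') * x⁻¹ * (y * y')⁻¹ = (x * y * x⁻¹ * y⁻¹) * (x * y' * x⁻¹ * y'⁻¹)
    have h1 := Subgroup.mem_center_iff.mp (hc x y') y
    calc x * (y * y') * x⁻¹ * (y * y')⁻¹ = (x * y * x⁻¹ * y⁻¹) * (y * (x * y' * x⁻¹ * y'⁻¹)) * y⁻¹ := by
          group
      _ = (x * y * x⁻¹ * y⁻¹) * ((x * y' * x⁻¹ * y'⁻¹) * y) * y⁻¹ := by rw [h1]
      _ = (x * y * x⁻¹ * y⁻¹) * (x * y' * x⁻¹ * y'⁻¹) := by group

/-- The commutator homomorphism of a non-central element of a semi-extraspecial group is onto
the centre. -/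
theorem commHom_surjective {X : Type*} [Group X] [Finite X] {p : ℕ} [Fact p.Prime]
    (hX : Cfsg.IsSemiExtraspecial p X) (hc : ∀ a b : X, a * b * a⁻¹ * b⁻¹ ∈ Subgroup.center X)
    (x : X) (hx : x ∉ Subgroup.center X) : (commHom hc x).range = ⊤ := by
  have hpp : p.Prime := Fact.out
  by_contra hne
  obtain ⟨Y', hY', hle⟩ := (eq_top_or_exists_le_coatom (commHom hc x).range).resolve_left hne
  have hYZ : Y'.map (Subgroup.center X).subtype ≤ Subgroup.center X := Subgroup.map_subtype_le _
  have hsub : (Y'.map (Subgroup.center X).subtype).subgroupOf (Subgroup.center X) = Y' :=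
    Subgroup.comap_map_eq_self_of_injective (Subgroup.center X).subtype_injective Y'
  obtain ⟨hYn, hES⟩ := hX.2 (Y'.map (Subgroup.center X).subtype) hYZ (by rw [hsub]; exact hY')
  -- commutators with `x` lie in `Y`
  have hcomm : ∀ y : X, x * y * x⁻¹ * y⁻¹ ∈ Y'.map (Subgroup.center X).subtype := by
    intro y
    exact ⟨commHom hc x y, hle ⟨y, rfl⟩, rfl⟩
  -- the image of `x` is central in the quotient
  have hxc : (QuotientGroup.mk' (Y'.map (Subgroup.center X).subtype) x) ∈
      Subgroup.center (X ⧸ Y'.map (Subgroup.center X).subtype) := by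
    rw [Subgroup.mem_center_iff]
    intro y
    obtain ⟨y, rfl⟩ := QuotientGroup.mk'_surjective _ y
    rw [← map_mul, ← map_mul]
    apply QuotientGroup.eq.mpr
    have h1 := hYn.conj_mem _ (hcomm y) (y * x)⁻¹
    have h2 : (y * x)⁻¹ * (x * y * x⁻¹ * y⁻¹) * (y * x)⁻¹⁻¹ = (y * x)⁻¹ * (x * y) := by group
    rw [h2] at h1
    exact h1
  -- the image of the centre is the centre of the quotient
  have hZle : (Subgroup.center X).map (QuotientGroup.mk' (Y'.map (Subgroup.center X).subtype)) ≤
      Subgroup.center (X ⧸ Y'.map (Subgroup.center X).subtype) := by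
    rintro _ ⟨z, hz, rfl⟩
    rw [Subgroup.mem_center_iff]
    intro y
    obtain ⟨y, rfl⟩ := QuotientGroup.mk'_surjective _ y
    rw [← map_mul, ← map_mul, Subgroup.mem_center_iff.mp hz y]
  have hZne : (Subgroup.center X).map (QuotientGroup.mk' (Y'.map (Subgroup.center X).subtype)) ≠ ⊥ := by
    intro hb
    apply hY'.1
    rw [eq_top_iff]
    intro z _
    have h1 : QuotientGroup.mk' (Y'.map (Subgroup.center X).subtype) (z : X) ∈
        (Subgroup.center X).map (QuotientGroup.mk' (Y'.map (Subgroup.center X).subtype)) :=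
      ⟨z, z.2, rfl⟩
    rw [hb, Subgroup.mem_bot, QuotientGroup.mk'_apply, QuotientGroup.eq_one_iff] at h1
    obtain ⟨y', hy', hyz⟩ := h1
    have h2 : y' = z := Subtype.ext hyz
    rwa [← h2]
  have hZeq : (Subgroup.center X).map (QuotientGroup.mk' (Y'.map (Subgroup.center X).subtype)) =
      Subgroup.center (X ⧸ Y'.map (Subgroup.center X).subtype) := by
    apply Subgroup.eq_of_le_of_card_ge hZle
    rw [hES.2]
    have h1 : Nat.card ((Subgroup.center X).map
        (QuotientGroup.mk' (Y'.map (Subgroup.center X).subtype))) ∣ p := by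
      rw [← hES.2]
      exact Subgroup.card_dvd_of_le hZle
    rcases (Nat.dvd_prime hpp).mp h1 with h2 | h2
    · exfalso
      exact hZne (Subgroup.card_eq_one.mp h2)
    · exact h2.ge
  rw [← hZeq] at hxc
  obtain ⟨z, hz, hzx⟩ := hxc
  have h3 : z⁻¹ * x ∈ Y'.map (Subgroup.center X).subtype := QuotientGroup.eq.mp hzx
  apply hx
  have h4 : x = z * (z⁻¹ * x) := by group
  rw [h4]
  exact Subgroup.mul_mem _ hz (hYZ h3)

/-- The kernel of the commutator homomorphism is the centralizer. -/
theorem commHom_ker {X : Type*} [Group X]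
    (hc : ∀ a b : X, a * b * a⁻¹ * b⁻¹ ∈ Subgroup.center X) (x : X) :
    (commHom hc x).ker = Subgroup.centralizer ({x} : Set X) := by
  ext y
  rw [MonoidHom.mem_ker, Subgroup.mem_centralizer_iff]
  constructor
  · intro h z hz
    rw [Set.mem_singleton_iff] at hz
    subst hz
    have h1 : z * y * z⁻¹ * y⁻¹ = 1 := congrArg Subtype.val h
    calc z * y = (z * y * z⁻¹ * y⁻¹) * (y * z) := by group
      _ = y * z := by rw [h1, one_mul]
  · intro h
    apply Subtype.ext
    show x * y * x⁻¹ * y⁻¹ = 1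
    rw [h x rfl]; group

/-- Let X be a finite semi-extraspecial p-group and x an element of X outside the centre. Then the index of C_X(x) in X equals the order of Z(X), and the commutators [x, y], y ∈ X, form exactly the centre Z(X). -/
theorem result {X : Type*} [Group X] [Finite X] {p : ℕ} [Fact p.Prime] (hX : Cfsg.IsSemiExtraspecial p X) (x : X) (hx : x ∉ Subgroup.center X) : (Subgroup.centralizer ({x} : Set X)).index = Nat.card ↥(Subgroup.center X) ∧ {z : X | ∃ y : X, z = x * y * x⁻¹ * y⁻¹} = (Subgroup.center X : Set X) := by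
  have hc : ∀ a b : X, a * b * a⁻¹ * b⁻¹ ∈ Subgroup.center X := by
    intro a b
    rw [← hX.1.2.2, commutator_def]
    exact Subgroup.commutator_mem_commutator (Subgroup.mem_top a) (Subgroup.mem_top b)
  have hsurj := commHom_surjective hX hc x hx
  constructor
  · rw [← commHom_ker hc x, Subgroup.index_ker, hsurj, Subgroup.card_top]
  · ext z
    constructor
    · rintro ⟨y, rfl⟩
      exact hc x y
    · intro hz
      have h1 : (⟨z, hz⟩ : ↥(Subgroup.center X)) ∈ (commHom hc x).range := by
        rw [hsurj]; exact Subgroup.mem_top _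
      obtain ⟨y, hy⟩ := h1
      exact ⟨y, (congrArg Subtype.val hy).symm⟩

end Cfsg.Agent.S2907
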