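import Cfsg.Statements.S2908
import Cfsg.Agent.Lib.helper54.Coprime

set_option autoImplicit false
open Cfsg

namespace Cfsg.Agent.S2908

open scoped commutatorElement in
/-- Auxiliary form: `B` centralizes `P ⊔ A`. -/
theorem aux {G : Type*} [Group G] [Finite G] {p : ℕ} [Fact p.Prime] (P A B : Subgroup G)
    (hP : IsPGroup p ↥P) (hA : IsPGroup p ↥A) (hB : ¬ p ∣ Nat.card ↥B)
    (hnA : A ≤ Subgroup.normalizer (P : Set G)) (hnB : B ≤ Subgroup.normalizer (P : Set G))
    (hAB : ⁅A, B⁆ = ⊥) (hcomm : ⁅P, B⁆ ≤ ⁅P, A⁆) :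
    P ⊔ A ≤ Subgroup.centralizer (B : Set G) := by
  have hS : IsPGroup p ↥(P ⊔ A) := IsPGroup.to_sup_of_normal_left' hP hA hnA
  have hAcB : A ≤ Subgroup.centralizer (B : Set G) :=
    (Subgroup.commutator_eq_bot_iff_le_centralizer).mp hAB
  have hBcA : B ≤ Subgroup.centralizer (A : Set G) := Subgroup.le_centralizer_iff.mp hAcB
  have hnS : B ≤ Subgroup.normalizer ((P ⊔ A : Subgroup G) : Set G) := by
    refine le_trans (le_inf hnB (hBcA.trans ?_))
      (Subgroup.normalizer_inf_normalizer_le_normalizer_sup P A)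
    exact Subgroup.centralizer_le_normalizer (A : Set G)
  have hc : ∀ s ∈ P ⊔ A, ∀ b ∈ B, ⁅s, b⁆ ∈ ⁅P ⊔ A, P ⊔ A⁆ := by
    intro s hs b hb
    have hs' : s ∈ ((P ⊔ A : Subgroup G) : Set G) := hs
    rw [Subgroup.coe_mul_of_right_le_normalizer_left P A hnA] at hs'
    obtain ⟨x, hx, a, ha, rfl⟩ := Set.mem_mul.mp hs'
    have hab : b * a = a * b := (Subgroup.mem_centralizer_iff.mp (hAcB ha)) b hb
    have h1 : ⁅x * a, b⁆ = ⁅x, b⁆ := by
      rw [commutatorElement_def, commutatorElement_def]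
      have : x * a * b * (x * a)⁻¹ = x * (a * b * a⁻¹) * x⁻¹ := by group
      rw [this, ← hab]
      group
    rw [h1]
    have h2 : ⁅x, b⁆ ∈ ⁅P, B⁆ := Subgroup.commutator_mem_commutator hx hb
    exact Subgroup.commutator_mono le_sup_left le_sup_right (hcomm h2)
  exact Cfsg.Agent.Lib.helper54.le_centralizer_of_commutator_mem (P ⊔ A) B hS hB hnS hc

/-- Let P be a p-subgroup of a finite group, normalized by a p-subgroup A and by a subgroup B of order prime to p that commutes elementwise with A. If [P, B] ≤ [P, A], then B centralizes P. -/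
theorem result {G : Type*} [Group G] [Finite G] {p : ℕ} [Fact p.Prime] (P A B : Subgroup G) (hP : IsPGroup p ↥P) (hA : IsPGroup p ↥A) (hB : ¬ p ∣ Nat.card ↥B) (hnA : A ≤ Subgroup.normalizer (P : Set G)) (hnB : B ≤ Subgroup.normalizer (P : Set G)) (hAB : ⁅A, B⁆ = ⊥) (hcomm : ⁅P, B⁆ ≤ ⁅P, A⁆) : ⁅P, B⁆ = ⊥ := by
  exact (Subgroup.commutator_eq_bot_iff_le_centralizer).mpr
    (le_sup_left.trans (aux P A B hP hA hB hnA hnB hAB hcomm))

end Cfsg.Agent.S2908
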