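import Cfsg.Statements.S2909
import Cfsg.Agent.Lib.helper37.CoprimeGen2
import Cfsg.Agent.Lib.helper27.AxB
import Cfsg.Agent.Lib.helper3.PGroupFrattini

set_option autoImplicit false
open Cfsg

namespace Cfsg.Agent.S2909

open scoped commutatorElement

variable {G : Type*} [Group G]

theorem le_normalizer_commutator (X A B : Subgroup G)
    (hA : X ≤ Subgroup.normalizer (A : Set G)) (hB : X ≤ Subgroup.normalizer (B : Set G)) :
    X ≤ Subgroup.normalizer ((⁅A, B⁆ : Subgroup G) : Set G) := by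
  rw [Subgroup.le_normalizer_iff]
  intro x hx k hk
  have h1 : (⁅A, B⁆ : Subgroup G).map (MulAut.conj x).toMonoidHom
      = ⁅A.map (MulAut.conj x).toMonoidHom, B.map (MulAut.conj x).toMonoidHom⁆ :=
    Subgroup.map_commutator _ _ _
  have h2 : A.map (MulAut.conj x).toMonoidHom ≤ A := by
    rintro _ ⟨y, hy, rfl⟩
    simpa using Subgroup.le_normalizer_iff.mp hA x hx y hy
  have h2' : B.map (MulAut.conj x).toMonoidHom ≤ B := by
    rintro _ ⟨y, hy, rfl⟩
    simpa using Subgroup.le_normalizer_iff.mp hB x hx y hy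
  have h3 := Subgroup.mem_map_of_mem (MulAut.conj x).toMonoidHom hk
  rw [h1] at h3
  have := Subgroup.commutator_mono h2 h2' h3
  simpa using this

theorem centralizer_zpowers_eq (u : G) :
    Subgroup.centralizer ((Subgroup.zpowers u : Subgroup G) : Set G) = Subgroup.centralizer {u} := by
  apply le_antisymm
  · apply Subgroup.centralizer_le
    intro x hx
    rw [Set.mem_singleton_iff] at hx
    rw [hx]
    exact Subgroup.mem_zpowers u
  · intro x hx
    rw [Subgroup.mem_centralizer_iff]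
    intro v hv
    obtain ⟨k, rfl⟩ := Subgroup.mem_zpowers_iff.mp hv
    have h1 : Commute u x := Subgroup.mem_centralizer_singleton_iff.mp hx |>.symm
    exact (h1.zpow_left k).eq

/-- If `X` normalizes `F` and `Y` centralizes `F`, then `[X, Y]` centralizes `F`. -/
theorem commutator_le_centralizer_of (X Y F : Subgroup G)
    (hX : X ≤ Subgroup.normalizer (F : Set G)) (hY : Y ≤ Subgroup.centralizer (F : Set G)) :
    ⁅X, Y⁆ ≤ Subgroup.centralizer (F : Set G) := by
  rw [Subgroup.commutator_le]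
  intro x hx y hy
  rw [Subgroup.mem_centralizer_iff]
  intro f hf
  have h1 : x⁻¹ * f * x ∈ F := (Subgroup.mem_normalizer_iff''.mp (hX hx) f).mp hf
  have h2 : (x⁻¹ * f * x) * y = y * (x⁻¹ * f * x) :=
    Subgroup.mem_centralizer_iff.mp (hY hy) _ h1
  have h3 : Commute f y := Subgroup.mem_centralizer_iff.mp (hY hy) f hf
  have h4 : Commute f (x * y * x⁻¹) := by
    change f * (x * y * x⁻¹) = (x * y * x⁻¹) * f
    calc f * (x * y * x⁻¹) = x * ((x⁻¹ * f * x) * y) * x⁻¹ := by group
      _ = x * (y * (x⁻¹ * f * x)) * x⁻¹ := by rw [h2]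
      _ = (x * y * x⁻¹) * f := by group
  have h5 : Commute f (x * y * x⁻¹ * y⁻¹) := h4.mul_right h3.inv_right
  exact h5.eq

/-- A dual form of Thompson's `A × B` lemma: if the `p'`-group `S` commutes with the `p`-element
`u` and `[E, S] ≤ [E, ⟨u⟩]` for the normal `p`-subgroup `E`, then `S` centralizes `E`. -/
theorem dual_AxB [Finite G] (p : ℕ) [hp : Fact p.Prime] (E S : Subgroup G) [hEn : E.Normal] (u : G)
    (hE : IsPGroup p ↥E) (hS : (Nat.card ↥S).Coprime p) (hu : u ^ p = 1)
    (hSu : S ≤ Subgroup.centralizer {u}) (h : ⁅E, S⁆ ≤ ⁅E, Subgroup.zpowers u⁆) :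
    S ≤ Subgroup.centralizer (E : Set G) := by
  set C : Subgroup G := E ⊓ Subgroup.centralizer (S : Set G) with hC
  set L : Subgroup G := E ⊔ Subgroup.zpowers u with hL
  have hup : IsPGroup p ↥(Subgroup.zpowers u) := by
    rintro ⟨v, hv⟩
    obtain ⟨k, rfl⟩ := Subgroup.mem_zpowers_iff.mp hv
    refine ⟨1, Subtype.ext ?_⟩
    simp only [pow_one, Subgroup.coe_pow, Subgroup.coe_one]
    rw [← zpow_natCast, ← zpow_mul, mul_comm, zpow_mul, zpow_natCast, hu, one_zpow]
  have hLp : IsPGroup p ↥L := IsPGroup.to_sup_of_normal_left hE hup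
  have hSE : S ≤ Subgroup.normalizer (E : Set G) := Subgroup.le_normalizer_of_normal
  obtain ⟨n, hn⟩ := IsPGroup.iff_card.mp hE
  have hcop : (Nat.card ↥S).Coprime (Nat.card ↥E) := by
    rw [hn]; exact Nat.Coprime.pow_right n hS
  have hsolv : Group.IsSolvable ↥E := by
    have := hE.isNilpotent
    infer_instance
  have hcov : E ≤ ⁅E, Subgroup.zpowers u⁆ ⊔ C := by
    have h1 := Cfsg.Agent.Lib.helper1.commutator_sup_fixed S E hSE hcop (Or.inr hsolv)
    conv_lhs => rw [← h1]
    exact sup_le_sup_right h _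
  have hEL : E ≤ L := le_sup_left
  have huL : Subgroup.zpowers u ≤ L := le_sup_right
  have hcomm : (commutator ↥L) = (⁅L, L⁆ : Subgroup G).subgroupOf L := by
    have h1 : (commutator ↥L).map L.subtype = ⁅L, L⁆ := by
      rw [_root_.commutator_def, Subgroup.map_commutator, ← MonoidHom.range_eq_map,
        Subgroup.range_subtype]
    rw [← h1, Subgroup.subgroupOf, Subgroup.comap_map_eq_self_of_injective L.subtype_injective]
  have hCL : C ⊔ Subgroup.zpowers u ≤ L := sup_le (inf_le_left.trans hEL) huL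
  have hLL : (⁅L, L⁆ : Subgroup G) ≤ L :=
    Subgroup.commutator_le.mpr (fun a ha b hb =>
      L.mul_mem (L.mul_mem (L.mul_mem ha hb) (L.inv_mem ha)) (L.inv_mem hb))
  have hK : (C ⊔ Subgroup.zpowers u).subgroupOf L ⊔ frattini ↥L = ⊤ := by
    rw [eq_top_iff]
    have h2 : L ≤ ⁅L, L⁆ ⊔ (C ⊔ Subgroup.zpowers u) := by
      apply sup_le
      · refine hcov.trans (sup_le ?_ ?_)
        · exact (Subgroup.commutator_mono hEL huL).trans le_sup_left
        · exact (le_sup_left : C ≤ C ⊔ Subgroup.zpowers u).trans le_sup_right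
      · exact (le_sup_right : Subgroup.zpowers u ≤ C ⊔ Subgroup.zpowers u).trans le_sup_right
    have h3 : (⊤ : Subgroup ↥L) ≤ (⁅L, L⁆ ⊔ (C ⊔ Subgroup.zpowers u)).subgroupOf L := by
      intro x _
      rw [Subgroup.mem_subgroupOf]
      exact h2 x.2
    rw [Subgroup.subgroupOf_sup hLL hCL, ← hcomm] at h3
    refine h3.trans ?_
    rw [sup_comm]
    exact sup_le_sup_left (Cfsg.Agent.Lib.helper3.commutator_le_frattini hLp) _
  have hK' := frattini_nongenerating hK
  rw [Subgroup.subgroupOf_eq_top] at hK'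
  have hEC : E ≤ Subgroup.centralizer (S : Set G) := by
    refine (hEL.trans hK').trans (sup_le inf_le_right ?_)
    rw [Subgroup.le_centralizer_iff, centralizer_zpowers_eq]
    exact hSu
  exact Subgroup.le_centralizer_iff.mp hEC

/-- Let p be a prime, E a normal p-subgroup of the finite group G, and U a non-cyclic elementary abelian p-subgroup of G such that either C_E(U) = C_E(u) for every nontrivial u ∈ U, or [E, U] = [E, ⟨u⟩] for every nontrivial u ∈ U. If R is a subgroup of order prime to p normalized by U, then [R, U] centralizes E. -/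
theorem result {G : Type*} [Group G] [Finite G] {p : ℕ} [Fact p.Prime] (E : Subgroup G) [E.Normal] (hE : IsPGroup p ↥E) (U : Subgroup G) (hU : Cfsg.IsElementaryAbelian p U) (hnc : ¬ IsCyclic ↥U) (hcond : (∀ u ∈ U, u ≠ 1 → E ⊓ Subgroup.centralizer (U : Set G) = E ⊓ Subgroup.centralizer ({u} : Set G)) ∨ (∀ u ∈ U, u ≠ 1 → ⁅E, U⁆ = ⁅E, Subgroup.zpowers u⁆)) (R : Subgroup G) (hR : ¬ p ∣ Nat.card ↥R) (hRU : U ≤ Subgroup.normalizer (R : Set G)) : ⁅R, U⁆ ≤ Subgroup.centralizer (E : Set G) := by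
  have hp : p.Prime := Fact.out
  obtain ⟨hUc, hUp⟩ := hU
  have hAc : ∀ a ∈ U, ∀ b ∈ U, a * b = b * a := by
    intro a ha b hb
    have h := hUc.is_comm.comm (⟨a, ha⟩ : ↥U) ⟨b, hb⟩
    exact congrArg Subtype.val h
  have hUpg : IsPGroup p ↥U := by
    rintro ⟨a, ha⟩
    exact ⟨1, Subtype.ext (by simpa using hUp a ha)⟩
  have hRp : (Nat.card ↥R).Coprime p := ((Nat.Prime.coprime_iff_not_dvd hp).mpr hR).symm
  have hcop : (Nat.card ↥U).Coprime (Nat.card ↥R) := by
    obtain ⟨n, hn⟩ := IsPGroup.iff_card.mp hUpg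
    rw [hn]
    exact Nat.Coprime.pow_left n ((Nat.Prime.coprime_iff_not_dvd hp).mpr hR)
  rw [Cfsg.Agent.Lib.helper37.coprime_gen_cocyclic_commutator U R hAc hcop hRU]
  apply iSup_le
  rintro ⟨B, hBU, a, haU, hBa⟩
  have hBne : ∃ u ∈ B, u ≠ 1 := by
    by_contra hcon
    apply hnc
    have hB : B = ⊥ := by
      rw [Subgroup.eq_bot_iff_forall]
      intro x hx
      by_contra hx1
      exact hcon ⟨x, hx, hx1⟩
    have hUa : U = Subgroup.zpowers a := by rw [← hBa, hB, bot_sup_eq]
    rw [hUa]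
    infer_instance
  obtain ⟨u, huB, hu1⟩ := hBne
  have huU := hBU huB
  refine (Subgroup.commutator_mono (inf_le_inf_left R (Subgroup.centralizer_le
    (Set.singleton_subset_iff.mpr huB))) le_rfl).trans ?_
  -- the subgroup `R_u = C_R(u)` and `S = [R_u, U]`
  have hURu : U ≤ Subgroup.normalizer ((R ⊓ Subgroup.centralizer {u} : Subgroup G) : Set G) := by
    rw [Subgroup.le_normalizer_iff]
    intro b hb x hx
    refine ⟨Subgroup.le_normalizer_iff.mp hRU b hb x hx.1, ?_⟩
    change b * x * b⁻¹ ∈ Subgroup.centralizer {u}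
    rw [Subgroup.mem_centralizer_singleton_iff]
    have h1 : Commute u b := hAc u huU b hb
    have h2 : Commute u x := (Subgroup.mem_centralizer_singleton_iff.mp hx.2).symm
    exact (((h1.mul_right h2).mul_right h1.inv_right).eq).symm
  have hSRu : ⁅R ⊓ Subgroup.centralizer {u}, U⁆ ≤ R ⊓ Subgroup.centralizer {u} :=
    Cfsg.Agent.Lib.helper1.commutator_le_of_le_normalizer hURu
  have hScop : (Nat.card ↥(⁅R ⊓ Subgroup.centralizer {u}, U⁆ : Subgroup G)).Coprime p :=
    Nat.Coprime.coprime_dvd_left (Subgroup.card_dvd_of_le (hSRu.trans inf_le_left)) hRp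
  have hSu : ⁅R ⊓ Subgroup.centralizer {u}, U⁆ ≤ Subgroup.centralizer {u} :=
    hSRu.trans inf_le_right
  have hRuZ : R ⊓ Subgroup.centralizer {u} ≤
      Subgroup.normalizer ((Subgroup.zpowers u : Subgroup G) : Set G) := by
    refine (inf_le_right.trans ?_).trans (Subgroup.centralizer_le_normalizer _)
    rw [centralizer_zpowers_eq]
  rcases hcond with h1 | h2
  · have hF := h1 u huU hu1
    have hup : IsPGroup p ↥(Subgroup.zpowers u) := hUpg.to_le (by
      rw [Subgroup.zpowers_le]; exact huU)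
    have hAB : ⁅⁅R ⊓ Subgroup.centralizer {u}, U⁆, Subgroup.zpowers u⁆ = ⊥ := by
      rw [Subgroup.commutator_eq_bot_iff_le_centralizer, centralizer_zpowers_eq]
      exact hSu
    have hRuF : R ⊓ Subgroup.centralizer {u} ≤
        Subgroup.normalizer ((E ⊓ Subgroup.centralizer {u} : Subgroup G) : Set G) := by
      rw [Subgroup.le_normalizer_iff]
      intro r hr f hf
      refine ⟨‹E.Normal›.conj_mem f hf.1 r, ?_⟩
      change r * f * r⁻¹ ∈ Subgroup.centralizer {u}
      exact Subgroup.mul_mem _ (Subgroup.mul_mem _ hr.2 hf.2) (Subgroup.inv_mem _ hr.2)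
    have hUF : U ≤ Subgroup.centralizer ((E ⊓ Subgroup.centralizer {u} : Subgroup G) : Set G) := by
      rw [← hF, Subgroup.le_centralizer_iff]
      exact inf_le_right
    have hcent : ⁅E ⊓ Subgroup.centralizer ((Subgroup.zpowers u : Subgroup G) : Set G),
        ⁅R ⊓ Subgroup.centralizer {u}, U⁆⁆ = ⊥ := by
      rw [centralizer_zpowers_eq, Subgroup.commutator_comm,
        Subgroup.commutator_eq_bot_iff_le_centralizer]
      exact commutator_le_centralizer_of _ _ _ hRuF hUF
    have key := Cfsg.Agent.Lib.helper27.thompson_AxB E (⁅R ⊓ Subgroup.centralizer {u}, U⁆)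
      (Subgroup.zpowers u) hE hScop hup Subgroup.le_normalizer_of_normal
      Subgroup.le_normalizer_of_normal hAB hcent
    rw [Subgroup.commutator_comm, Subgroup.commutator_eq_bot_iff_le_centralizer] at key
    exact key
  · have hN := h2 u huU hu1
    apply dual_AxB p E _ u hE hScop (hUp u huU) hSu
    rw [← hN]
    have hUE : U ≤ Subgroup.normalizer (E : Set G) := Subgroup.le_normalizer_of_normal
    have hUN : U ≤ Subgroup.normalizer ((⁅E, U⁆ : Subgroup G) : Set G) :=
      Cfsg.Agent.Lib.helper1.right_le_normalizer_commutator hUE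
    have hRuN : R ⊓ Subgroup.centralizer {u} ≤
        Subgroup.normalizer ((⁅E, U⁆ : Subgroup G) : Set G) := by
      rw [hN]
      exact le_normalizer_commutator _ E (Subgroup.zpowers u) Subgroup.le_normalizer_of_normal hRuZ
    let T : Subgroup G :=
      { carrier := {g | g ∈ Subgroup.normalizer ((⁅E, U⁆ : Subgroup G) : Set G) ∧
          ∀ e ∈ E, g * e * g⁻¹ * e⁻¹ ∈ ⁅E, U⁆}
        one_mem' := ⟨Subgroup.one_mem _, fun e _ => by
          simp⟩
        mul_mem' := by
          rintro g h ⟨hg1, hg2⟩ ⟨hh1, hh2⟩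
          refine ⟨Subgroup.mul_mem _ hg1 hh1, fun e he => ?_⟩
          have h1 : g * h * e * (g * h)⁻¹ * e⁻¹ = g * (h * e * h⁻¹ * e⁻¹) * g⁻¹ * (g * e * g⁻¹ * e⁻¹) := by
            group
          rw [h1]
          exact Subgroup.mul_mem _ ((Subgroup.mem_normalizer_iff.mp hg1 _).mp (hh2 e he)) (hg2 e he)
        inv_mem' := by
          rintro g ⟨hg1, hg2⟩
          refine ⟨Subgroup.inv_mem _ hg1, fun e he => ?_⟩
          have h1 : g⁻¹ * e * g⁻¹⁻¹ * e⁻¹ = g⁻¹ * (g * e * g⁻¹ * e⁻¹)⁻¹ * g⁻¹⁻¹ := by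
            group
          rw [h1]
          exact (Subgroup.mem_normalizer_iff.mp (Subgroup.inv_mem _ hg1) _).mp
            (Subgroup.inv_mem _ (hg2 e he)) }
    have hUT : U ≤ T := by
      intro b hb
      refine ⟨hUN hb, fun e he => ?_⟩
      have h1 : b * e * b⁻¹ * e⁻¹ = ⁅b, e⁆ := rfl
      rw [h1, Subgroup.commutator_comm]
      exact Subgroup.commutator_mem_commutator hb he
    have hST : ⁅R ⊓ Subgroup.centralizer {u}, U⁆ ≤ T := by
      rw [Subgroup.commutator_le]
      intro r hr b hb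
      have hrN := hRuN hr
      have h1 : ⁅r, b⁆ = (r * b * r⁻¹) * b⁻¹ := rfl
      rw [h1]
      refine T.mul_mem ?_ (T.inv_mem (hUT hb))
      obtain ⟨hb1, hb2⟩ := hUT hb
      refine ⟨Subgroup.mul_mem _ (Subgroup.mul_mem _ hrN hb1) (Subgroup.inv_mem _ hrN), fun e he => ?_⟩
      have h2 : r * b * r⁻¹ * e * (r * b * r⁻¹)⁻¹ * e⁻¹
          = r * (b * (r⁻¹ * e * r) * b⁻¹ * (r⁻¹ * e * r)⁻¹) * r⁻¹ := by
        group
      rw [h2]
      have h3 : r⁻¹ * e * r ∈ E := by
        have := ‹E.Normal›.conj_mem e he r⁻¹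
        simpa using this
      exact (Subgroup.mem_normalizer_iff.mp hrN _).mp (hb2 _ h3)
    rw [Subgroup.commutator_le]
    intro e he s hs
    have h1 : ⁅e, s⁆ = (s * e * s⁻¹ * e⁻¹)⁻¹ := by
      simp [commutatorElement_def, mul_assoc]
    rw [h1]
    exact Subgroup.inv_mem _ ((hST hs).2 e he)

end Cfsg.Agent.S2909
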