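import Cfsg.Statements.S2910
import Mathlib
import Cfsg.Agent.Lib.helper67.Frobenius
import Cfsg.Agent.Lib.helper54.OmegaOdd

set_option autoImplicit false
open Cfsg

namespace Cfsg.Agent.S2910

open Cfsg.Agent.Lib.helper53 Cfsg.Agent.Lib.helper54 in
/-- Frobenius' condition holds when `Ω₁(P)` is central and `p` is odd. -/
theorem frobCond {G : Type*} [Group G] [Finite G] {p : ℕ} [Fact p.Prime] (hp : p ≠ 2)
    (P : Sylow p G) (hZ : Cfsg.omegaOne p (P : Subgroup G) ≤ Subgroup.center G) :
    Cfsg.Agent.Lib.helper67.FrobCond p G := by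
  intro Q hQ g hg hcop
  rw [Subgroup.mem_centralizer_iff]
  intro q hq
  refine (commute_of_commute_omega_odd hp g hcop Q hQ hg (fun q hq hqp => ?_) q hq).symm
  obtain ⟨c, hc⟩ := exists_le_conj_sylow hQ P
  have h1 : c⁻¹ * q * c ∈ (P : Subgroup G) := mem_conj_iff.mp (hc hq)
  have h2 : c⁻¹ * q * c ∈ Cfsg.omegaOne p (P : Subgroup G) := by
    apply Subgroup.subset_closure
    refine ⟨h1, ?_⟩
    have h3 : (c⁻¹ * q * c) ^ p = c⁻¹ * q ^ p * c := by
      have h4 := conj_pow (a := c⁻¹) (b := q) (i := p)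
      simpa using h4
    rw [h3, hqp]; group
  have h5 := Subgroup.mem_center_iff.mp (hZ h2)
  have h6 := h5 (c⁻¹ * g * c)
  calc g * q = c * ((c⁻¹ * g * c) * (c⁻¹ * q * c)) * c⁻¹ := by group
    _ = c * ((c⁻¹ * q * c) * (c⁻¹ * g * c)) * c⁻¹ := by rw [h6]
    _ = q * g := by group

/-- A perfect group of order divisible by `p` has no normal `p`-complement. -/
theorem not_perfect {G : Type*} [Group G] [Finite G] {p : ℕ} [Fact p.Prime]
    (hdiv : p ∣ Nat.card G) (P : Sylow p G) (N : Subgroup G) [N.Normal]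
    (hc : N.IsComplement' (P : Subgroup G)) (hperf : Group.IsPerfect G) : False := by
  have hidx : N.index = Nat.card (P : Subgroup G) := hc.symm.index_eq_card
  have hcard : Nat.card (G ⧸ N) = Nat.card (P : Subgroup G) := by
    rw [← Subgroup.index_eq_card, hidx]
  obtain ⟨n, hn⟩ := IsPGroup.iff_card.mp P.2
  have hQp : IsPGroup p (G ⧸ N) := IsPGroup.of_card (hcard.trans hn)
  have hnil : Group.IsNilpotent (G ⧸ N) := hQp.isNilpotent
  have hsol : Group.IsSolvable (G ⧸ N) := inferInstance
  have hnt : Nontrivial (G ⧸ N) := by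
    rw [← Finite.one_lt_card_iff_nontrivial, hcard]
    exact (Subgroup.one_lt_card_iff_ne_bot _).mpr (P.ne_bot_of_dvd_card hdiv)
  exact Group.IsPerfect.not_isSolvable (G ⧸ N) hsol

/-- Let p be an odd prime dividing the order of the finite group G and P a Sylow p-subgroup of G. If Ω₁(P) (generated by the elements of order dividing p) is contained in the centre of G, then G has a normal p-complement. In particular, if G is quasisimple then Ω₁(P) is not central in G. -/
theorem result {G : Type*} [Group G] [Finite G] {p : ℕ} [Fact p.Prime] (hp : p ≠ 2) (hdiv : p ∣ Nat.card G) (P : Sylow p G) (hZ : Cfsg.omegaOne p (P : Subgroup G) ≤ Subgroup.center G) : Cfsg.HasNormalPComplement p G ∧ ¬ Cfsg.IsQuasisimple G := by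
  have hF := frobCond hp P hZ
  refine ⟨hF.hasNormalPComplement, ?_⟩
  intro hqs
  obtain ⟨N, hN, hcompl⟩ := hF.exists_normal_complement P
  exact not_perfect hdiv P N hcompl hqs.1

end Cfsg.Agent.S2910
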