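import Cfsg.Statements.S2911
import Mathlib
import Cfsg.Agent.Lib.helper53.TransferTwo

set_option autoImplicit false
open Cfsg

namespace Cfsg.Agent.S2911

/-- The group `C₂ × D₈`. -/
abbrev H16 : Type := Multiplicative (ZMod 2) × DihedralGroup 4

/-- The central involution generating the direct factor `C₂`. -/
def z₀ : H16 := (Multiplicative.ofAdd 1, 1)

/-- The central involution of `D₈`. -/
def c₀ : H16 := (1, DihedralGroup.r 2)

theorem facts_central : ∀ x : H16, (∀ y : H16, x * y = y * x) → (∀ g : H16, g * g ≠ x) →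
    x = z₀ ∨ x = z₀ * c₀ := by decide +kernel

theorem facts_sq : ∀ g : H16, g * g = 1 ∨ g * g = c₀ := by decide +kernel

theorem z₀_central : ∀ y : H16, z₀ * y = y * z₀ := by decide +kernel

theorem z₀_not_sq : ∀ g : H16, g * g ≠ z₀ := by decide +kernel

theorem c₀_sq : ∃ g : H16, g * g = c₀ := ⟨(1, DihedralGroup.r 1), by decide +kernel⟩

theorem c₀_ne : c₀ ≠ 1 := by decide +kernel

theorem c₀_mul : c₀ * c₀ = 1 := by decide +kernel

theorem z₀_mul : z₀ * z₀ = 1 := by decide +kernel

theorem z₀c₀_ne : z₀ * c₀ ≠ z₀ := by decide +kernel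

theorem sq_c2 : ∀ a : Multiplicative (ZMod 2), a ^ 2 = 1 := by decide +kernel

theorem cases_c2 : ∀ x : Multiplicative (ZMod 2), x = 1 ∨ x = Multiplicative.ofAdd 1 := by
  decide +kernel

/-- An automorphism of `C₂ × D₈` fixes `z₀` or swaps it with `z₀ c₀`. -/
theorem aut_z (β : H16 ≃* H16) : β z₀ = z₀ ∨ (β z₀ = z₀ * c₀ ∧ β (z₀ * c₀) = z₀) := by
  have h1 : ∀ y : H16, β z₀ * y = y * β z₀ := by
    intro y
    have h2 := congrArg β (z₀_central (β.symm y))
    rwa [map_mul, map_mul, β.apply_symm_apply] at h2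
  have h3 : ∀ g : H16, g * g ≠ β z₀ := by
    intro g hg
    apply z₀_not_sq (β.symm g)
    rw [← map_mul, hg, β.symm_apply_apply]
  rcases facts_central (β z₀) h1 h3 with h | h
  · exact Or.inl h
  · refine Or.inr ⟨h, ?_⟩
    obtain ⟨g, hg⟩ := c₀_sq
    have h4 : β c₀ = c₀ := by
      rcases facts_sq (β g) with h5 | h5
      · exfalso
        apply c₀_ne
        have h6 : β c₀ = 1 := by rw [← hg, map_mul, h5]
        have h7 : β c₀ = β 1 := by rw [h6, map_one]
        exact β.injective h7
      · rw [← hg, map_mul, h5, hg]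
    rw [map_mul, h, h4, mul_assoc, c₀_mul, mul_one]

/-- Conjugation by an element of the normalizer, as an automorphism of the subgroup. -/
def conjAut {G : Type*} [Group G] (S : Subgroup G) (n : G)
    (hn : n ∈ Subgroup.normalizer (S : Set G)) : ↥S ≃* ↥S where
  toFun s := ⟨n * s * n⁻¹, (Subgroup.mem_normalizer_iff.mp hn s).mp s.2⟩
  invFun s := ⟨n⁻¹ * s * n, by
    have h := (Subgroup.mem_normalizer_iff.mp (Subgroup.inv_mem _ hn) s).mp s.2
    rwa [inv_inv] at h⟩
  left_inv s := by
    apply Subtype.ext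
    show n⁻¹ * (n * (s : G) * n⁻¹) * n = s
    group
  right_inv s := by
    apply Subtype.ext
    show n * (n⁻¹ * (s : G) * n) * n⁻¹ = s
    group
  map_mul' s t := by
    apply Subtype.ext
    show n * ((s : G) * (t : G)) * n⁻¹ = (n * (s : G) * n⁻¹) * (n * (t : G) * n⁻¹)
    group

/-- A 2-element normalizing a Sylow 2-subgroup lies in it. -/
theorem mem_sylow_of_pow {G : Type*} [Group G] [Finite G] (S : Sylow 2 G) (x : G) (k : ℕ)
    (hx : x ^ 2 ^ k = 1) (hxN : x ∈ Subgroup.normalizer ((S : Subgroup G) : Set G)) :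
    x ∈ (S : Subgroup G) := by
  have hf2 : Fact (Nat.Prime 2) := ⟨Nat.prime_two⟩
  have hp : IsPGroup 2 (Subgroup.zpowers x) := by
    obtain ⟨j, -, hj⟩ := (Nat.dvd_prime_pow Nat.prime_two).mp (orderOf_dvd_of_pow_eq_one hx)
    apply IsPGroup.of_card (n := j)
    rw [Nat.card_zpowers, hj]
  have h1 : IsPGroup 2 ((S : Subgroup G) ⊔ Subgroup.zpowers x : Subgroup G) :=
    S.2.to_sup_of_normal_left' hp (Subgroup.zpowers_le.mpr hxN)
  have h2 := S.3 h1 le_sup_left
  rw [← h2]
  exact Subgroup.mem_sup_right (Subgroup.mem_zpowers x)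

/-- The main argument. -/
theorem main {G : Type*} [Group G] [Finite G] (S : Sylow 2 G) (e : ↥(S : Subgroup G) ≃* H16) :
    ∃ H : Subgroup G, H.index = 2 := by
  have hf2 : Fact (Nat.Prime 2) := ⟨Nat.prime_two⟩
  have hA : ∀ a : Multiplicative (ZMod 2), a ^ 2 = 1 := sq_c2
  have hφz : ((MonoidHom.fst (Multiplicative (ZMod 2)) (DihedralGroup 4)).comp e.toMonoidHom)
      (e.symm z₀) = Multiplicative.ofAdd 1 := by
    simp [z₀]
  have hzz : e.symm z₀ * e.symm z₀ = 1 := by rw [← map_mul, z₀_mul, map_one]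
  have hz2 : ((e.symm z₀ : ↥(S : Subgroup G)) : G) ^ 2 = 1 := by
    rw [pow_two]
    exact congrArg Subtype.val hzz
  have hzc : ∀ s ∈ (S : Subgroup G), s * ((e.symm z₀ : ↥(S : Subgroup G)) : G) =
      ((e.symm z₀ : ↥(S : Subgroup G)) : G) * s := by
    intro s hs
    have h1 : (⟨s, hs⟩ : ↥(S : Subgroup G)) * e.symm z₀ = e.symm z₀ * ⟨s, hs⟩ := by
      apply e.injective
      rw [map_mul, map_mul, e.apply_symm_apply]
      exact (z₀_central _).symm
    exact congrArg Subtype.val h1
  have hzN : ∀ n ∈ Subgroup.normalizer ((S : Subgroup G) : Set G),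
      n * ((e.symm z₀ : ↥(S : Subgroup G)) : G) * n⁻¹ = ((e.symm z₀ : ↥(S : Subgroup G)) : G) := by
    intro n hn
    rcases aut_z ((e.symm.trans (conjAut (S : Subgroup G) n hn)).trans e) with h | ⟨h1, h2⟩
    · have h3 : conjAut (S : Subgroup G) n hn (e.symm z₀) = e.symm z₀ := by
        apply e.injective
        rw [e.apply_symm_apply]
        exact h
      exact congrArg Subtype.val h3
    · exfalso
      have h3 : n * ((e.symm z₀ : ↥(S : Subgroup G)) : G) * n⁻¹ =
          ((e.symm (z₀ * c₀) : ↥(S : Subgroup G)) : G) := by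
        have h4 : conjAut (S : Subgroup G) n hn (e.symm z₀) = e.symm (z₀ * c₀) := by
          apply e.injective
          rw [e.apply_symm_apply]
          exact h1
        exact congrArg Subtype.val h4
      have h5 : n * ((e.symm (z₀ * c₀) : ↥(S : Subgroup G)) : G) * n⁻¹ =
          ((e.symm z₀ : ↥(S : Subgroup G)) : G) := by
        have h4 : conjAut (S : Subgroup G) n hn (e.symm (z₀ * c₀)) = e.symm z₀ := by
          apply e.injective
          rw [e.apply_symm_apply]
          exact h2
        exact congrArg Subtype.val h4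
      have hne : ((e.symm (z₀ * c₀) : ↥(S : Subgroup G)) : G) ≠
          ((e.symm z₀ : ↥(S : Subgroup G)) : G) := by
        intro h6
        exact z₀c₀_ne (e.symm.injective (Subtype.ext h6))
      have hiter : ∀ j : ℕ, n ^ j * ((e.symm z₀ : ↥(S : Subgroup G)) : G) * (n ^ j)⁻¹ =
          if Even j then ((e.symm z₀ : ↥(S : Subgroup G)) : G)
          else ((e.symm (z₀ * c₀) : ↥(S : Subgroup G)) : G) := by
        intro j
        induction j with
        | zero => simp
        | succ j ih =>
          have h6 : n ^ (j + 1) * ((e.symm z₀ : ↥(S : Subgroup G)) : G) * (n ^ (j + 1))⁻¹ =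
              n * (n ^ j * ((e.symm z₀ : ↥(S : Subgroup G)) : G) * (n ^ j)⁻¹) * n⁻¹ := by
            rw [pow_succ']; group
          rw [h6, ih]
          by_cases hj : Even j
          · have h7 : ¬ Even (j + 1) := by rw [Nat.even_add_one]; exact not_not.mpr hj
            rw [if_pos hj, if_neg h7, h3]
          · have h7 : Even (j + 1) := by rw [Nat.even_add_one]; exact hj
            rw [if_neg hj, if_pos h7, h5]
      have hpos : orderOf n ≠ 0 := (orderOf_pos n).ne'
      obtain ⟨k, m, hm, hkm⟩ := Nat.exists_eq_two_pow_mul_odd hpos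
      have hpow : (n ^ m) ^ 2 ^ k = 1 := by
        rw [← pow_mul, mul_comm, ← hkm, pow_orderOf_eq_one]
      have hmem : n ^ m ∈ (S : Subgroup G) :=
        mem_sylow_of_pow S (n ^ m) k hpow (Subgroup.pow_mem _ hn m)
      have h8 := hiter m
      rw [if_neg (Nat.not_even_iff_odd.mpr hm)] at h8
      have h9 : n ^ m * ((e.symm z₀ : ↥(S : Subgroup G)) : G) * (n ^ m)⁻¹ =
          ((e.symm z₀ : ↥(S : Subgroup G)) : G) := by
        rw [hzc _ hmem]; group
      rw [h9] at h8
      exact hne h8.symm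
  have htr := Cfsg.Agent.Lib.helper53.transfer_central_involution S hA
    ((MonoidHom.fst (Multiplicative (ZMod 2)) (DihedralGroup 4)).comp e.toMonoidHom)
    ((e.symm z₀ : ↥(S : Subgroup G)) : G) (e.symm z₀).2 hz2 hzc hzN
  rw [Subtype.coe_eta, hφz] at htr
  refine ⟨(MonoidHom.transfer
    ((MonoidHom.fst (Multiplicative (ZMod 2)) (DihedralGroup 4)).comp e.toMonoidHom)).ker, ?_⟩
  rw [Subgroup.index_ker]
  have hrange : (MonoidHom.transfer
      ((MonoidHom.fst (Multiplicative (ZMod 2)) (DihedralGroup 4)).comp e.toMonoidHom)).range = ⊤ := by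
    rw [eq_top_iff]
    intro x _
    rcases cases_c2 x with h | h
    · rw [h]; exact Subgroup.one_mem _
    · rw [h, ← htr]; exact ⟨_, rfl⟩
  rw [hrange, Subgroup.card_top]
  simp

/-- A finite group whose Sylow 2-subgroups are isomorphic to the direct product of a group of order 2 and a dihedral group of order 8 has a subgroup of index two. -/
theorem result {G : Type*} [Group G] [Finite G] (S : Sylow 2 G) (hS : Nonempty (↥(S : Subgroup G) ≃* Multiplicative (ZMod 2) × DihedralGroup 4)) : ∃ H : Subgroup G, H.index = 2 := by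
  obtain ⟨e⟩ := hS
  exact main S e

end Cfsg.Agent.S2911
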