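import Mathlib
import Cfsg.Statements.S2912
import Cfsg.Agent.S0058

set_option autoImplicit false
open Cfsg

namespace Cfsg.Agent.S2912

section indep

theorem indep {M : Type*} [CommGroup M] {ι : Type*} [DecidableEq ι] (φ : ι → (M →* M))
    (hcomm : ∀ i j m, φ i (φ j m) = φ j (φ i m))
    (hfix : ∀ i j, i ≠ j → ∀ m, φ i m = m → φ j m = m → m = 1)
    (S : Finset ι) : ∀ (a : ι → M), (∀ j ∈ S, φ j (a j) = a j) → ∏ j ∈ S, a j = 1 →
    ∀ j ∈ S, a j = 1 := by
  induction S using Finset.induction_on with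
  | empty => intro a _ _ j hj; simp at hj
  | insert i S hi ih =>
    intro a ha hprod
    rw [Finset.prod_insert hi] at hprod
    have h1 : a i * ∏ j ∈ S, φ i (a j) = 1 := by
      have := congrArg (φ i) hprod
      rw [map_mul, map_one, map_prod, ha i (Finset.mem_insert_self i S)] at this
      exact this
    have h2 : ∏ j ∈ S, (φ i (a j) * (a j)⁻¹) = 1 := by
      rw [Finset.prod_mul_distrib, Finset.prod_inv_distrib]
      have e1 : ∏ j ∈ S, φ i (a j) = (a i)⁻¹ := eq_inv_of_mul_eq_one_right h1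
      have e2 : ∏ j ∈ S, a j = (a i)⁻¹ := eq_inv_of_mul_eq_one_right hprod
      rw [e1, e2, mul_inv_cancel]
    have h3 : ∀ j ∈ S, φ j (φ i (a j) * (a j)⁻¹) = φ i (a j) * (a j)⁻¹ := by
      intro j hj
      rw [map_mul, map_inv, hcomm j i, ha j (Finset.mem_insert_of_mem hj)]
    have h4 := ih (fun j => φ i (a j) * (a j)⁻¹) h3 h2
    have h5 : ∀ j ∈ S, a j = 1 := by
      intro j hj
      have hne : i ≠ j := fun h => hi (h ▸ hj)
      exact hfix i j hne (a j) (mul_inv_eq_one.1 (h4 j hj)) (ha j (Finset.mem_insert_of_mem hj))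
    intro j hj
    rcases Finset.mem_insert.1 hj with rfl | hj'
    · rw [Finset.prod_eq_one h5, mul_one] at hprod; exact hprod
    · exact h5 j hj'

theorem card_fix_le {M : Type*} [CommGroup M] [Finite M] {ι : Type*} [Fintype ι] [DecidableEq ι]
    (φ : ι → (M →* M))
    (hcomm : ∀ i j m, φ i (φ j m) = φ j (φ i m))
    (hfix : ∀ i j, i ≠ j → ∀ m, φ i m = m → φ j m = m → m = 1) :
    ∏ i, Nat.card {m : M // φ i m = m} ≤ Nat.card M := by
  rw [← Nat.card_pi]
  apply Nat.card_le_card_of_injective (fun f : (∀ i, {m : M // φ i m = m}) => ∏ i, (f i).1)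
  intro f g hfg
  funext i
  apply Subtype.ext
  have h := indep φ hcomm hfix Finset.univ (fun i => (f i).1 * ((g i).1)⁻¹)
    (fun j _ => by rw [map_mul, map_inv, (f j).2, (g j).2])
    (by
      rw [Finset.prod_mul_distrib, Finset.prod_inv_distrib]
      have : ∏ i, (f i).1 = ∏ i, (g i).1 := hfg
      rw [this, mul_inv_cancel]) i (Finset.mem_univ i)
  exact mul_inv_eq_one.1 h

theorem card_fix_le' {M : Type*} [Group M] [Finite M] (hM : ∀ a b : M, a * b = b * a)
    {ι : Type*} [Fintype ι] [DecidableEq ι] (φ : ι → (M →* M))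
    (hcomm : ∀ i j m, φ i (φ j m) = φ j (φ i m))
    (hfix : ∀ i j, i ≠ j → ∀ m, φ i m = m → φ j m = m → m = 1) :
    ∏ i, Nat.card {m : M // φ i m = m} ≤ Nat.card M := by
  let _ : CommGroup M := { (inferInstance : Group M) with mul_comm := hM }
  exact card_fix_le φ hcomm hfix

end indep

section class2

variable {G : Type*} [Group G]

theorem pow_mul_of_central (x y c : G) (hcy : Commute c y)
    (h : y * x = x * y * c) (k : ℕ) : y ^ k * x = x * y ^ k * c ^ k := by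
  induction k with
  | zero => simp
  | succ k ih =>
    calc y ^ (k + 1) * x = y * (y ^ k * x) := by rw [pow_succ', mul_assoc]
      _ = y * (x * y ^ k * c ^ k) := by rw [ih]
      _ = (y * x) * y ^ k * c ^ k := by simp only [mul_assoc]
      _ = (x * y * c) * y ^ k * c ^ k := by rw [h]
      _ = x * y * (c * y ^ k) * c ^ k := by simp only [mul_assoc]
      _ = x * y * (y ^ k * c) * c ^ k := by rw [(hcy.pow_right k).eq]
      _ = x * y ^ (k + 1) * c ^ (k + 1) := by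
        rw [pow_succ' y k, pow_succ' c k]; simp only [mul_assoc]

theorem mul_pow_class2 (x y c : G) (hcx : Commute c x) (hcy : Commute c y)
    (h : y * x = x * y * c) (k : ℕ) :
    (x * y) ^ k = x ^ k * y ^ k * c ^ (k * (k - 1) / 2) := by
  induction k with
  | zero => simp
  | succ k ih =>
    have hT : (k + 1) * (k + 1 - 1) / 2 = k * (k - 1) / 2 + k := Nat.triangle_succ k
    have e : c ^ (k * (k - 1) / 2 + k) = c ^ k * c ^ (k * (k - 1) / 2) := by
      rw [add_comm, pow_add]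
    calc (x * y) ^ (k + 1) = (x * y) ^ k * (x * y) := pow_succ _ _
      _ = x ^ k * y ^ k * c ^ (k * (k - 1) / 2) * (x * y) := by rw [ih]
      _ = x ^ k * y ^ k * (c ^ (k * (k - 1) / 2) * x) * y := by simp only [mul_assoc]
      _ = x ^ k * y ^ k * (x * c ^ (k * (k - 1) / 2)) * y := by
        rw [(hcx.pow_left (k * (k - 1) / 2)).eq]
      _ = x ^ k * (y ^ k * x) * c ^ (k * (k - 1) / 2) * y := by simp only [mul_assoc]
      _ = x ^ k * (x * y ^ k * c ^ k) * c ^ (k * (k - 1) / 2) * y := by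
        rw [pow_mul_of_central x y c hcy h k]
      _ = x ^ k * x * y ^ k * c ^ k * (c ^ (k * (k - 1) / 2) * y) := by simp only [mul_assoc]
      _ = x ^ k * x * y ^ k * c ^ k * (y * c ^ (k * (k - 1) / 2)) := by
        rw [(hcy.pow_left (k * (k - 1) / 2)).eq]
      _ = x ^ k * x * y ^ k * (c ^ k * y) * c ^ (k * (k - 1) / 2) := by simp only [mul_assoc]
      _ = x ^ k * x * y ^ k * (y * c ^ k) * c ^ (k * (k - 1) / 2) := by
        rw [(hcy.pow_left k).eq]
      _ = x ^ (k + 1) * y ^ (k + 1) * c ^ ((k + 1) * (k + 1 - 1) / 2) := by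
        rw [hT, e, pow_succ x k, pow_succ y k]; simp only [mul_assoc]

end class2

section amb

variable {G : Type*} [Group G]

/-- central commutators -/
def CC (E : Subgroup G) : Prop :=
  ∀ x ∈ E, ∀ y ∈ E, x * y * x⁻¹ * y⁻¹ ∈ Subgroup.centralizer (E : Set G)

/-- the centre of `E`, as a subgroup of the ambient group -/
abbrev Zc (E : Subgroup G) : Subgroup G := E ⊓ Subgroup.centralizer (E : Set G)

theorem comm_one_iff (a b : G) : a * b * a⁻¹ * b⁻¹ = 1 ↔ a * b = b * a := by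
  rw [← commutatorElement_def, commutatorElement_eq_one_iff_mul_comm]

theorem comm_mem_Zc {E : Subgroup G} (hc : CC E) {x y : G} (hx : x ∈ E) (hy : y ∈ E) :
    x * y * x⁻¹ * y⁻¹ ∈ Zc E :=
  ⟨E.mul_mem (E.mul_mem (E.mul_mem hx hy) (E.inv_mem hx)) (E.inv_mem hy), hc x hx y hy⟩

theorem Zc_comm {E : Subgroup G} {u g : G} (hu : u ∈ Zc E) (hg : g ∈ E) : g * u = u * g :=
  Subgroup.mem_centralizer_iff.1 hu.2 g hg

def commHom (E : Subgroup G) (hc : CC E) (t : G) (ht : t ∈ E) : ↥E →* G where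
  toFun g := (g : G) * t * (g : G)⁻¹ * t⁻¹
  map_one' := by simp
  map_mul' := by
    intro g g'
    have hu' := comm_mem_Zc hc g'.2 ht
    have hu := comm_mem_Zc hc g.2 ht
    show ((g * g' : ↥E) : G) * t * ((g * g' : ↥E) : G)⁻¹ * t⁻¹ =
      ((g : G) * t * (g : G)⁻¹ * t⁻¹) * ((g' : G) * t * (g' : G)⁻¹ * t⁻¹)
    have e1 : ((g * g' : ↥E) : G) * t * ((g * g' : ↥E) : G)⁻¹ * t⁻¹ =
        (g : G) * ((g' : G) * t * (g' : G)⁻¹ * t⁻¹) * (t * (g : G)⁻¹ * t⁻¹) := by
      simp only [Subgroup.coe_mul]; group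
    rw [e1, Zc_comm hu' g.2]
    have e2 : (g' : G) * t * (g' : G)⁻¹ * t⁻¹ * (g : G) * (t * (g : G)⁻¹ * t⁻¹) =
        ((g' : G) * t * (g' : G)⁻¹ * t⁻¹) * ((g : G) * t * (g : G)⁻¹ * t⁻¹) := by group
    rw [e2]
    exact (Zc_comm hu' hu.1).symm

theorem commHom_apply (E : Subgroup G) (hc : CC E) (t : G) (ht : t ∈ E) (g : ↥E) :
    commHom E hc t ht g = (g : G) * t * (g : G)⁻¹ * t⁻¹ := rfl

theorem idx [Finite G] {p : ℕ} [Fact p.Prime] {E : Subgroup G} (hc : CC E)
    (hZ : Nat.card ↥(Zc E) = p) (H : Subgroup G) (hHE : H ≤ E) (t : G) (ht : t ∈ E)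
    (g : G) (hg : g ∈ H) (hgt : g * t ≠ t * g) :
    Nat.card ↥(H ⊓ Subgroup.centralizer {t}) * p = Nat.card ↥H := by
  let φ : ↥H →* G := (commHom E hc t ht).comp (Subgroup.inclusion hHE)
  have hφ : ∀ x : ↥H, φ x = (x : G) * t * (x : G)⁻¹ * t⁻¹ := fun x => rfl
  have hker : φ.ker = (H ⊓ Subgroup.centralizer {t}).subgroupOf H := by
    ext x
    rw [MonoidHom.mem_ker, hφ, Subgroup.mem_subgroupOf, Subgroup.mem_inf,
      Subgroup.mem_centralizer_singleton_iff, comm_one_iff]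
    constructor
    · intro h; exact ⟨x.2, h⟩
    · rintro ⟨_, h⟩; exact h
  have hrange : φ.range ≤ Zc E := by
    rintro _ ⟨x, rfl⟩
    rw [hφ]
    exact comm_mem_Zc hc (hHE x.2) ht
  have hne : Nat.card ↥φ.range ≠ 1 := by
    intro h1
    have hbot := Subgroup.eq_bot_of_card_eq _ h1
    have : φ ⟨g, hg⟩ ∈ φ.range := ⟨_, rfl⟩
    rw [hbot, Subgroup.mem_bot, hφ, comm_one_iff] at this
    exact hgt this
  have hdvd : Nat.card ↥φ.range ∣ p := hZ ▸ Subgroup.card_dvd_of_le hrange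
  have hcard : Nat.card ↥φ.range = p := by
    rcases (Nat.dvd_prime (Fact.out : p.Prime)).1 hdvd with h | h
    · exact absurd h hne
    · exact h
  have h1 := Subgroup.card_mul_index φ.ker
  rw [Subgroup.index_ker, hcard, hker] at h1
  rw [← h1]
  congr 1
  exact (Nat.card_congr (Subgroup.subgroupOfEquivOfLe inf_le_left).toEquiv).symm

theorem zgen [Finite G] {p : ℕ} [Fact p.Prime] {E : Subgroup G} (hZ : Nat.card ↥(Zc E) = p)
    {u v : G} (hu : u ∈ Zc E) (hu1 : u ≠ 1) (hv : v ∈ Zc E) : ∃ k : ℕ, u ^ k = v := by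
  have h1 : (⟨v, hv⟩ : ↥(Zc E)) ∈ Subgroup.zpowers (⟨u, hu⟩ : ↥(Zc E)) :=
    mem_zpowers_of_prime_card hZ (fun h => hu1 (congrArg Subtype.val h))
  rw [← mem_powers_iff_mem_zpowers] at h1
  obtain ⟨k, hk⟩ := h1
  exact ⟨k, by simpa using congrArg Subtype.val hk⟩

theorem Zc_pow [Finite G] {p : ℕ} {E : Subgroup G} (hZ : Nat.card ↥(Zc E) = p) {u : G}
    (hu : u ∈ Zc E) : u ^ p = 1 := by
  have : (⟨u, hu⟩ : ↥(Zc E)) ^ Nat.card ↥(Zc E) = 1 := pow_card_eq_one'
  rw [hZ] at this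
  simpa using congrArg Subtype.val this

theorem pow_p_mem_Zc [Finite G] {p : ℕ} [Fact p.Prime] {E : Subgroup G} (hc : CC E)
    (hZ : Nat.card ↥(Zc E) = p) {x : G} (hx : x ∈ E) : x ^ p ∈ Zc E := by
  have hcen : x ^ p ∈ Subgroup.centralizer (E : Set G) := by
    rw [Subgroup.mem_centralizer_iff]
    intro g hg
    have h1 : commHom E hc g hg (⟨x, hx⟩ ^ p) = (commHom E hc g hg ⟨x, hx⟩) ^ p :=
      map_pow _ _ _
    have h2 : commHom E hc g hg ⟨x, hx⟩ ∈ Zc E := comm_mem_Zc hc hx hg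
    rw [Zc_pow hZ h2, commHom_apply] at h1
    have h3 : x ^ p * g * (x ^ p)⁻¹ * g⁻¹ = 1 := by simpa using h1
    exact ((comm_one_iff _ _).1 h3).symm
  exact ⟨E.pow_mem hx p, hcen⟩

theorem exists_not_central [Finite G] {p : ℕ} {E H : Subgroup G} (hZ : Nat.card ↥(Zc E) = p)
    (hHE : H ≤ E) (hH : p < Nat.card ↥H) : ∃ x ∈ H, x ∉ Subgroup.centralizer (E : Set G) := by
  by_contra hcon
  push Not at hcon
  have h1 : H ≤ Zc E := fun x hx => ⟨hHE hx, hcon x hx⟩
  have h2 := Subgroup.card_le_of_le h1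
  omega

theorem exists_noncomm {E : Subgroup G} {x : G} (hx : x ∉ Subgroup.centralizer (E : Set G)) :
    ∃ y ∈ E, y * x ≠ x * y := by
  rw [Subgroup.mem_centralizer_iff] at hx
  push Not at hx
  exact hx

theorem exists_b_odd [Finite G] {p : ℕ} [Fact p.Prime] (hp2 : p ≠ 2) {E : Subgroup G}
    (hc : CC E) (hZ : Nat.card ↥(Zc E) = p) (hE : p < Nat.card ↥E) :
    ∃ b ∈ E, b ∉ Subgroup.centralizer (E : Set G) ∧ b ^ p = 1 := by
  obtain ⟨x, hx, hxZ⟩ := exists_not_central hZ le_rfl hE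
  obtain ⟨y, hy, hyx⟩ := exists_noncomm hxZ
  by_cases hxp : x ^ p = 1
  · exact ⟨x, hx, hxZ, hxp⟩
  · have hu := pow_p_mem_Zc hc hZ hx
    obtain ⟨k, hk⟩ := zgen hZ hu hxp (pow_p_mem_Zc hc hZ hy)
    obtain ⟨Y, hY⟩ : ∃ Y, Y = (x⁻¹) ^ k := ⟨_, rfl⟩
    have hYE : Y ∈ E := by rw [hY]; exact E.pow_mem (E.inv_mem hx) k
    obtain ⟨c, hcdef⟩ : ∃ c, c = Y⁻¹ * y⁻¹ * Y * y := ⟨_, rfl⟩
    have hcZ : c ∈ Zc E := by
      have := comm_mem_Zc hc (E.inv_mem hYE) (E.inv_mem hy)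
      rw [inv_inv, inv_inv] at this
      rw [hcdef]; exact this
    have hcy : Commute c y := (Zc_comm hcZ hy).symm
    have hcY : Commute c Y := (Zc_comm hcZ hYE).symm
    have hrel : Y * y = y * Y * c := by rw [hcdef]; group
    have hpow := mul_pow_class2 y Y c hcy hcY hrel p
    have hcp : c ^ (p * (p - 1) / 2) = 1 := by
      have h2 : 2 ∣ p - 1 := by
        rcases (Fact.out : p.Prime).eq_two_or_odd with h | h
        · exact absurd h hp2
        · omega
      rw [Nat.mul_div_assoc p h2, pow_mul, Zc_pow hZ hcZ, one_pow]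
    have hYp : Y ^ p = (y ^ p)⁻¹ := by
      rw [hY, ← pow_mul, mul_comm k p, pow_mul, inv_pow, inv_pow, hk]
    refine ⟨y * Y, E.mul_mem hy hYE, ?_, ?_⟩
    · intro hmem
      rw [Subgroup.mem_centralizer_iff] at hmem
      have h1 := hmem x hx
      apply hyx
      have hxY : Commute x Y := by
        rw [hY]; exact (Commute.refl x).inv_right.pow_right k
      have h2 : y * Y * x = y * x * Y := by rw [mul_assoc, ← hxY.eq, ← mul_assoc]
      rw [h2, ← mul_assoc] at h1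
      exact (mul_right_cancel h1).symm
    · rw [hpow, hcp, mul_one, hYp, mul_inv_cancel]

theorem exists_b_two [Finite G] {E : Subgroup G} (hc : CC E) (hZ : Nat.card ↥(Zc E) = 2)
    (hE : 8 < Nat.card ↥E) :
    ∃ b ∈ E, b ∉ Subgroup.centralizer (E : Set G) ∧ b ^ 2 = 1 := by
  have : Fact (Nat.Prime 2) := ⟨Nat.prime_two⟩
  obtain ⟨x, hx, hxZ⟩ := exists_not_central hZ le_rfl (by omega)
  obtain ⟨y, hy, hyx⟩ := exists_noncomm hxZ
  by_cases hxp : x ^ 2 = 1
  · exact ⟨x, hx, hxZ, hxp⟩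
  · have h1 := idx hc hZ E le_rfl x hx y hy hyx
    have hxC : x ∈ E ⊓ Subgroup.centralizer {x} :=
      ⟨hx, Subgroup.mem_centralizer_singleton_iff.2 rfl⟩
    have h2 := idx hc hZ (E ⊓ Subgroup.centralizer {x}) inf_le_left y hy x hxC
      (fun h => hyx h.symm)
    obtain ⟨v, hv, hvZ⟩ := exists_not_central hZ
      ((inf_le_left : E ⊓ Subgroup.centralizer {x} ⊓ Subgroup.centralizer {y} ≤ _).trans
        inf_le_left)
      (by omega : 2 < Nat.card ↥(E ⊓ Subgroup.centralizer {x} ⊓ Subgroup.centralizer {y}))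
    have hvE : v ∈ E := hv.1.1
    have hvx : v * x = x * v := Subgroup.mem_centralizer_singleton_iff.1 hv.1.2
    have hvy : v * y = y * v := Subgroup.mem_centralizer_singleton_iff.1 hv.2
    by_cases hvp : v ^ 2 = 1
    · exact ⟨v, hvE, hvZ, hvp⟩
    · have hvv : v ^ 2 = x ^ 2 := by
        obtain ⟨w, hw, hw'⟩ := (Nat.card_eq_two_iff' (1 : ↥(Zc E))).1 hZ
        have e1 := hw' ⟨v ^ 2, pow_p_mem_Zc hc hZ hvE⟩ (fun h => hvp (congrArg Subtype.val h))
        have e2 := hw' ⟨x ^ 2, pow_p_mem_Zc hc hZ hx⟩ (fun h => hxp (congrArg Subtype.val h))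
        exact congrArg Subtype.val (e1.trans e2.symm)
      refine ⟨v * x, E.mul_mem hvE hx, ?_, ?_⟩
      · intro hmem
        rw [Subgroup.mem_centralizer_iff] at hmem
        have h3 := hmem y hy
        rw [← mul_assoc, ← hvy, mul_assoc, mul_assoc] at h3
        exact hyx (mul_left_cancel h3)
      · have hcomm : Commute v x := hvx
        rw [hcomm.mul_pow, hvv, ← pow_two]
        exact Zc_pow hZ (pow_p_mem_Zc hc hZ hx)

theorem comm_centralizes_of_prime_card [Finite G] {r : ℕ} [Fact r.Prime] {A : Subgroup G}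
    (hAc : Nat.card ↥A = r) {x y : G} (hx : x ∈ Subgroup.normalizer (A : Set G))
    (hy : y ∈ Subgroup.normalizer (A : Set G)) :
    ∀ a ∈ A, (x⁻¹ * y⁻¹ * x * y) * a = a * (x⁻¹ * y⁻¹ * x * y) := by
  intro a ha
  by_cases ha1 : a = 1
  · subst ha1; simp
  · have hgen : ∀ b ∈ A, ∃ k : ℤ, a ^ k = b := by
      intro b hb
      have h1 : (⟨b, hb⟩ : ↥A) ∈ Subgroup.zpowers (⟨a, ha⟩ : ↥A) :=
        mem_zpowers_of_prime_card hAc (fun h => ha1 (congrArg Subtype.val h))
      obtain ⟨k, hk⟩ := Subgroup.mem_zpowers_iff.1 h1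
      exact ⟨k, by simpa using congrArg Subtype.val hk⟩
    obtain ⟨i, hi⟩ := hgen (x * a * x⁻¹) ((Subgroup.mem_normalizer_iff.1 hx a).1 ha)
    obtain ⟨j, hj⟩ := hgen (y * a * y⁻¹) ((Subgroup.mem_normalizer_iff.1 hy a).1 ha)
    have h1 : x * (y * a * y⁻¹) * x⁻¹ = (a ^ i) ^ j := by
      rw [← hj, hi, conj_zpow]
    have h2 : y * (x * a * x⁻¹) * y⁻¹ = (a ^ j) ^ i := by
      rw [← hi, hj, conj_zpow]
    have h3 : x * (y * a * y⁻¹) * x⁻¹ = y * (x * a * x⁻¹) * y⁻¹ := by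
      rw [h1, h2, ← zpow_mul, ← zpow_mul, mul_comm]
    have h4 : (x⁻¹ * y⁻¹ * x * y) * a * (x⁻¹ * y⁻¹ * x * y)⁻¹ = a := by
      have e : (x⁻¹ * y⁻¹ * x * y) * a * (x⁻¹ * y⁻¹ * x * y)⁻¹ =
          x⁻¹ * y⁻¹ * (x * (y * a * y⁻¹) * x⁻¹) * y * x := by group
      rw [e, h3]; group
    calc (x⁻¹ * y⁻¹ * x * y) * a
        = ((x⁻¹ * y⁻¹ * x * y) * a * (x⁻¹ * y⁻¹ * x * y)⁻¹) * (x⁻¹ * y⁻¹ * x * y) := by group
      _ = a * (x⁻¹ * y⁻¹ * x * y) := by rw [h4]

theorem exists_ne_one_of_card [Finite G] {H : Subgroup G} (h : 1 < Nat.card ↥H) :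
    ∃ u ∈ H, u ≠ 1 := by
  by_contra hcon
  push Not at hcon
  have h2 : H = ⊥ := (Subgroup.eq_bot_iff_forall H).2 hcon
  rw [h2] at h
  simp at h

theorem le_normalizer_of_conj {E A : Subgroup G} (h : ∀ e ∈ E, ∀ a ∈ A, e * a * e⁻¹ ∈ A) :
    E ≤ Subgroup.normalizer (A : Set G) := by
  intro e he
  rw [Subgroup.mem_normalizer_iff]
  intro a
  constructor
  · exact h e he a
  · intro ha
    have h1 := h e⁻¹ (E.inv_mem he) _ ha
    have e2 : e⁻¹ * (e * a * e⁻¹) * e⁻¹⁻¹ = a := by group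
    rwa [e2] at h1

theorem card_modEq_one_of_fpf [Finite G] {p : ℕ} [Fact p.Prime] (A : Subgroup G) (u : G)
    (hu : u ^ p = 1) (hnorm : u ∈ Subgroup.normalizer (A : Set G))
    (hfpf : ∀ a ∈ A, u * a = a * u → a = 1) :
    Nat.card ↥A ≡ 1 [MOD p] := by
  classical
  have := Fintype.ofFinite ↥A
  have hn1 : ∀ a ∈ A, u * a * u⁻¹ ∈ A :=
    fun a ha => (Subgroup.mem_normalizer_iff.1 hnorm a).1 ha
  have hn2 : ∀ a ∈ A, u⁻¹ * a * u ∈ A := by
    intro a ha
    refine (Subgroup.mem_normalizer_iff.1 hnorm (u⁻¹ * a * u)).2 ?_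
    have e : u * (u⁻¹ * a * u) * u⁻¹ = a := by group
    rw [e]; exact ha
  let σ : Equiv.Perm ↥A :=
    { toFun := fun a => ⟨u * a * u⁻¹, hn1 a a.2⟩
      invFun := fun a => ⟨u⁻¹ * a * u, hn2 a a.2⟩
      left_inv := fun a => by
        apply Subtype.ext
        show u⁻¹ * (u * (a : G) * u⁻¹) * u = a
        group
      right_inv := fun a => by
        apply Subtype.ext
        show u * (u⁻¹ * (a : G) * u) * u⁻¹ = a
        group }
  have hσ1 : ∀ a : ↥A, ((σ a : ↥A) : G) = u * a * u⁻¹ := fun a => rfl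
  have hpow : ∀ k : ℕ, ∀ a : ↥A, (((σ ^ k) a : ↥A) : G) = u ^ k * a * (u ^ k)⁻¹ := by
    intro k
    induction k with
    | zero => intro a; simp
    | succ k ih =>
      intro a
      rw [pow_succ', Equiv.Perm.mul_apply, hσ1, ih, pow_succ']
      group
  have hσ : σ ^ p ^ 1 = 1 := by
    rw [pow_one]
    ext a
    rw [hpow, hu]; simp
  have h := Equiv.Perm.card_compl_support_modEq hσ
  have hsupp : σ.supportᶜ = {1} := by
    ext a
    simp only [Finset.mem_compl, Equiv.Perm.mem_support, not_not, Finset.mem_singleton]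
    constructor
    · intro h
      apply Subtype.ext
      have h2 : u * (a : G) * u⁻¹ = a := congrArg Subtype.val h
      refine hfpf a a.2 ?_
      calc u * (a : G) = (u * a * u⁻¹) * u := by group
        _ = a * u := by rw [h2]
    · intro h
      subst h
      apply Subtype.ext
      rw [hσ1]; simp
  rw [hsupp, Finset.card_singleton] at h
  rw [Nat.card_eq_fintype_card]
  exact h.symm

def conjHom (A : Subgroup G) (h : G) (hh : h ∈ Subgroup.normalizer (A : Set G)) : ↥A →* ↥A where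
  toFun a := ⟨h * a * h⁻¹, (Subgroup.mem_normalizer_iff.1 hh a).1 a.2⟩
  map_one' := by apply Subtype.ext; simp
  map_mul' := by
    intro a a'
    apply Subtype.ext
    show h * ((a : G) * (a' : G)) * h⁻¹ = (h * a * h⁻¹) * (h * a' * h⁻¹)
    group

theorem card_pow_le [Finite G] {p : ℕ} [Fact p.Prime] {E A : Subgroup G} (hc : CC E)
    (hZ : Nat.card ↥(Zc E) = p)
    (hAcomm : ∀ a ∈ A, ∀ a' ∈ A, a * a' = a' * a)
    (hnorm : E ≤ Subgroup.normalizer (A : Set G))
    (hfpf : ∀ u ∈ Zc E, u ≠ 1 → ∀ a ∈ A, u * a = a * u → a = 1)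
    {b y : G} (hb : b ∈ E) (hy : y ∈ E) (hyb : y * b ≠ b * y) :
    Nat.card ↥(A ⊓ Subgroup.centralizer {b}) ^ p ≤ Nat.card ↥A := by
  classical
  obtain ⟨u, hudef⟩ : ∃ u, u = y * b * y⁻¹ * b⁻¹ := ⟨_, rfl⟩
  have huZ : u ∈ Zc E := by rw [hudef]; exact comm_mem_Zc hc hy hb
  have hu1 : u ≠ 1 := by rw [hudef]; intro h; exact hyb ((comm_one_iff _ _).1 h)
  have hup : u ^ p = 1 := Zc_pow hZ huZ
  have hord : orderOf u = p := orderOf_eq_prime hup hu1
  have hub : Commute u b := (Zc_comm huZ hb).symm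
  have hconj : ∀ j : ℕ, y ^ j * b * (y ^ j)⁻¹ = u ^ j * b := by
    intro j
    have h1 : commHom E hc b hb (⟨y, hy⟩ ^ j) = (commHom E hc b hb ⟨y, hy⟩) ^ j :=
      map_pow _ _ _
    simp only [commHom_apply] at h1
    have h2 : y ^ j * b * (y ^ j)⁻¹ * b⁻¹ = u ^ j := by rw [hudef]; simpa using h1
    calc y ^ j * b * (y ^ j)⁻¹ = (y ^ j * b * (y ^ j)⁻¹ * b⁻¹) * b := by group
      _ = u ^ j * b := by rw [h2]
  have hhE : ∀ j : ℕ, u ^ j * b ∈ E := fun j => E.mul_mem (E.pow_mem huZ.1 j) hb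
  let φ : Fin p → (↥A →* ↥A) := fun j => conjHom A (u ^ (j : ℕ) * b) (hnorm (hhE j))
  have hφ : ∀ (j : Fin p) (m : ↥A),
      ((φ j m : ↥A) : G) = (u ^ (j : ℕ) * b) * m * (u ^ (j : ℕ) * b)⁻¹ := fun j m => rfl
  have hcommh : ∀ i j : ℕ, Commute (u ^ i * b) (u ^ j * b) := by
    intro i j
    have h1 : Commute (u ^ i) (u ^ j * b) :=
      (Commute.pow_pow_self u i j).mul_right (hub.pow_left i)
    have h2 : Commute b (u ^ j * b) := ((hub.pow_left j).symm).mul_right (Commute.refl b)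
    exact h1.mul_left h2
  have hcomm : ∀ i j m, φ i (φ j m) = φ j (φ i m) := by
    intro i j m
    apply Subtype.ext
    rw [hφ, hφ, hφ, hφ]
    have h3 := (hcommh i j).eq
    calc (u ^ (i : ℕ) * b) * ((u ^ (j : ℕ) * b) * m * (u ^ (j : ℕ) * b)⁻¹) * (u ^ (i : ℕ) * b)⁻¹
        = ((u ^ (i : ℕ) * b) * (u ^ (j : ℕ) * b)) * m *
            ((u ^ (i : ℕ) * b) * (u ^ (j : ℕ) * b))⁻¹ := by group
      _ = ((u ^ (j : ℕ) * b) * (u ^ (i : ℕ) * b)) * m *
            ((u ^ (j : ℕ) * b) * (u ^ (i : ℕ) * b))⁻¹ := by rw [h3]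
      _ = _ := by group
  have hfixlt : ∀ i j : ℕ, i < j → j < p → ∀ m ∈ A, (u ^ i * b) * m = m * (u ^ i * b) →
      (u ^ j * b) * m = m * (u ^ j * b) → m = 1 := by
    intro i j hij hjp m hm h1 h2
    have hd : u ^ j * b = u ^ (j - i) * (u ^ i * b) := by
      rw [← mul_assoc, ← pow_add, Nat.sub_add_cancel hij.le]
    have hdZ : u ^ (j - i) ∈ Zc E := (Zc E).pow_mem huZ _
    have hd1 : u ^ (j - i) ≠ 1 := by
      apply pow_ne_one_of_lt_orderOf (by omega)
      rw [hord]; omega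
    refine hfpf _ hdZ hd1 m hm ?_
    rw [hd] at h2
    have h3 : u ^ (j - i) * m * (u ^ i * b) = m * u ^ (j - i) * (u ^ i * b) := by
      calc u ^ (j - i) * m * (u ^ i * b) = u ^ (j - i) * (m * (u ^ i * b)) := by rw [mul_assoc]
        _ = u ^ (j - i) * ((u ^ i * b) * m) := by rw [h1]
        _ = (u ^ (j - i) * (u ^ i * b)) * m := by simp only [mul_assoc]
        _ = m * (u ^ (j - i) * (u ^ i * b)) := h2
        _ = m * u ^ (j - i) * (u ^ i * b) := by simp only [mul_assoc]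
    exact mul_right_cancel h3
  have hfix : ∀ i j : Fin p, i ≠ j → ∀ m : ↥A, φ i m = m → φ j m = m → m = 1 := by
    intro i j hij m h1 h2
    have e1 : (u ^ (i : ℕ) * b) * (m : G) = m * (u ^ (i : ℕ) * b) := by
      have h3 := congrArg Subtype.val h1
      rw [hφ] at h3
      calc (u ^ (i : ℕ) * b) * (m : G)
          = ((u ^ (i : ℕ) * b) * m * (u ^ (i : ℕ) * b)⁻¹) * (u ^ (i : ℕ) * b) := by group
        _ = m * (u ^ (i : ℕ) * b) := by rw [h3]
    have e2 : (u ^ (j : ℕ) * b) * (m : G) = m * (u ^ (j : ℕ) * b) := by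
      have h3 := congrArg Subtype.val h2
      rw [hφ] at h3
      calc (u ^ (j : ℕ) * b) * (m : G)
          = ((u ^ (j : ℕ) * b) * m * (u ^ (j : ℕ) * b)⁻¹) * (u ^ (j : ℕ) * b) := by group
        _ = m * (u ^ (j : ℕ) * b) := by rw [h3]
    apply Subtype.ext
    have hne : (i : ℕ) ≠ (j : ℕ) := fun h => hij (Fin.ext h)
    rcases Nat.lt_or_gt_of_ne hne with h | h
    · exact hfixlt i j h j.2 m m.2 e1 e2
    · exact hfixlt j i h i.2 m m.2 e2 e1
  have hM : ∀ a a' : ↥A, a * a' = a' * a := fun a a' => Subtype.ext (hAcomm a a.2 a' a'.2)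
  have hmain := card_fix_le' hM φ hcomm hfix
  have hle : ∀ j : Fin p,
      Nat.card ↥(A ⊓ Subgroup.centralizer {b}) ≤ Nat.card {m : ↥A // φ j m = m} := by
    intro j
    have hyj : y ^ (j : ℕ) ∈ Subgroup.normalizer (A : Set G) := hnorm (E.pow_mem hy _)
    have hfixed : ∀ a : ↥(A ⊓ Subgroup.centralizer {b}),
        φ j ⟨y ^ (j : ℕ) * a * (y ^ (j : ℕ))⁻¹,
          (Subgroup.mem_normalizer_iff.1 hyj a).1 a.2.1⟩ =
        ⟨y ^ (j : ℕ) * a * (y ^ (j : ℕ))⁻¹, (Subgroup.mem_normalizer_iff.1 hyj a).1 a.2.1⟩ := by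
      intro a
      apply Subtype.ext
      rw [hφ]
      show (u ^ (j : ℕ) * b) * (y ^ (j : ℕ) * (a : G) * (y ^ (j : ℕ))⁻¹) * (u ^ (j : ℕ) * b)⁻¹ =
        y ^ (j : ℕ) * (a : G) * (y ^ (j : ℕ))⁻¹
      rw [← hconj]
      have hab : (a : G) * b = b * a := Subgroup.mem_centralizer_singleton_iff.1 a.2.2
      calc y ^ (j : ℕ) * b * (y ^ (j : ℕ))⁻¹ * (y ^ (j : ℕ) * (a : G) * (y ^ (j : ℕ))⁻¹) *
            (y ^ (j : ℕ) * b * (y ^ (j : ℕ))⁻¹)⁻¹
          = y ^ (j : ℕ) * (b * a) * b⁻¹ * (y ^ (j : ℕ))⁻¹ := by group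
        _ = y ^ (j : ℕ) * (a * b) * b⁻¹ * (y ^ (j : ℕ))⁻¹ := by rw [hab]
        _ = _ := by group
    refine Nat.card_le_card_of_injective (fun a : ↥(A ⊓ Subgroup.centralizer {b}) =>
      (⟨⟨y ^ (j : ℕ) * a * (y ^ (j : ℕ))⁻¹, (Subgroup.mem_normalizer_iff.1 hyj a).1 a.2.1⟩,
        hfixed a⟩ : {m : ↥A // φ j m = m})) ?_
    intro a a' h
    have h1 : y ^ (j : ℕ) * (a : G) * (y ^ (j : ℕ))⁻¹ = y ^ (j : ℕ) * (a' : G) * (y ^ (j : ℕ))⁻¹ :=
      congrArg (fun z : {m : ↥A // φ j m = m} => ((z : ↥A) : G)) h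
    apply Subtype.ext
    exact mul_left_cancel (mul_right_cancel h1)
  calc Nat.card ↥(A ⊓ Subgroup.centralizer {b}) ^ p
      = ∏ _j : Fin p, Nat.card ↥(A ⊓ Subgroup.centralizer {b}) := by
        rw [Finset.prod_const, Finset.card_univ, Fintype.card_fin]
    _ ≤ ∏ j : Fin p, Nat.card {m : ↥A // φ j m = m} :=
        Finset.prod_le_prod' (fun j _ => hle j)
    _ ≤ Nat.card ↥A := hmain

theorem kill [Finite G] {p : ℕ} [Fact p.Prime] {E : Subgroup G} (hc : CC E)
    (hZ : Nat.card ↥(Zc E) = p) {t s g : G} (ht : t ∈ E) (hs : s ∈ E) (hst : s * t ≠ t * s)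
    (hg : g ∈ E) : ∃ j : ℕ, (g * (s ^ j)⁻¹) * t = t * (g * (s ^ j)⁻¹) := by
  have huZ : s * t * s⁻¹ * t⁻¹ ∈ Zc E := comm_mem_Zc hc hs ht
  have hu1 : s * t * s⁻¹ * t⁻¹ ≠ 1 := fun h => hst ((comm_one_iff _ _).1 h)
  obtain ⟨j, hj⟩ := zgen hZ huZ hu1 (comm_mem_Zc hc hg ht)
  refine ⟨j, ?_⟩
  have e1 : commHom E hc t ht (⟨g, hg⟩ * (⟨s, hs⟩ ^ j)⁻¹) =
      commHom E hc t ht ⟨g, hg⟩ * ((commHom E hc t ht ⟨s, hs⟩) ^ j)⁻¹ := by
    rw [map_mul, map_inv, map_pow]
  simp only [commHom_apply] at e1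
  have e2 : (g * (s ^ j)⁻¹) * t * (g * (s ^ j)⁻¹)⁻¹ * t⁻¹ = 1 := by
    have e3 : (g * (s ^ j)⁻¹) * t * (g * (s ^ j)⁻¹)⁻¹ * t⁻¹ =
        g * t * g⁻¹ * t⁻¹ * ((s * t * s⁻¹ * t⁻¹) ^ j)⁻¹ := by
      simpa using e1
    rw [e3, hj, mul_inv_cancel]
  exact (comm_one_iff _ _).1 e2

theorem exists_b_fix [Finite G] {p r : ℕ} [Fact p.Prime] [Fact r.Prime] (hpr : p ≠ r)
    {E A : Subgroup G} (hc : CC E) (hZ : Nat.card ↥(Zc E) = p)
    (hEp : ∃ m, Nat.card ↥E = p ^ m)
    (hAr : ∀ a ∈ A, a ^ r = 1) (hA1 : A ≠ ⊥) (hnorm : E ≤ Subgroup.normalizer (A : Set G))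
    (hfpf : ∀ u ∈ Zc E, u ≠ 1 → ∀ a ∈ A, u * a = a * u → a = 1)
    {b₀ : G} (hb₀ : b₀ ∈ E) (hb₀Z : b₀ ∉ Subgroup.centralizer (E : Set G)) (hb₀p : b₀ ^ p = 1) :
    ∃ b ∈ E, b ∉ Subgroup.centralizer (E : Set G) ∧ b ^ p = 1 ∧
      A ⊓ Subgroup.centralizer {b} ≠ ⊥ := by
  by_contra hcon
  push Not at hcon
  obtain ⟨k, hk⟩ : ∃ k : Set G, k = insert b₀ (Zc E : Set G) := ⟨_, rfl⟩
  obtain ⟨P, hP⟩ : ∃ P : Subgroup G, P = Subgroup.closure k := ⟨_, rfl⟩
  have hkE : k ⊆ E := by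
    intro x hx
    rw [hk] at hx
    rcases Set.mem_insert_iff.1 hx with rfl | hx
    · exact hb₀
    · exact hx.1
  have hPE : P ≤ E := by rw [hP]; exact (Subgroup.closure_le E).2 hkE
  have hkcomm : ∀ x ∈ k, ∀ y ∈ k, x * y = y * x := by
    intro x hx y hy
    have hyE := hkE hy
    rw [hk] at hx hy
    rcases Set.mem_insert_iff.1 hx with rfl | hx
    · rcases Set.mem_insert_iff.1 hy with rfl | hy
      · rfl
      · exact Zc_comm hy hb₀
    · exact (Zc_comm hx hyE).symm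
  have hP1 : ∀ g ∈ P, ∀ x ∈ k, x * g = g * x := by
    intro g hg
    have h1 : P ≤ Subgroup.centralizer k := by
      rw [hP]
      exact (Subgroup.closure_le _).2
        (fun y hy => Subgroup.mem_centralizer_iff.2 (fun x hx => hkcomm x hx y hy))
    exact Subgroup.mem_centralizer_iff.1 (h1 hg)
  have hPcomm : ∀ g ∈ P, ∀ g' ∈ P, g * g' = g' * g := by
    intro g hg g' hg'
    have h1 : P ≤ Subgroup.centralizer {g} := by
      rw [hP]
      exact (Subgroup.closure_le _).2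
        (fun x hx => Subgroup.mem_centralizer_singleton_iff.2 (hP1 g hg x hx))
    exact (Subgroup.mem_centralizer_singleton_iff.1 (h1 hg')).symm
  have hPp : ∀ g ∈ P, g ^ p = 1 := by
    intro g hg
    rw [hP] at hg
    induction hg using Subgroup.closure_induction with
    | mem x hx =>
      rw [hk] at hx
      rcases Set.mem_insert_iff.1 hx with rfl | hx
      · exact hb₀p
      · exact Zc_pow hZ hx
    | one => exact one_pow p
    | mul x y hx hy ihx ihy =>
      have h1 : Commute x y := hPcomm x (hP ▸ hx) y (hP ▸ hy)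
      rw [h1.mul_pow, ihx, ihy, one_mul]
    | inv x hx ih => rw [inv_pow, ih, inv_one]
  have hPc : IsMulCommutative ↥P := ⟨⟨fun x y => Subtype.ext (hPcomm x x.2 y y.2)⟩⟩
  have hb₀P : b₀ ∈ P := by
    rw [hP]; exact Subgroup.subset_closure (by rw [hk]; exact Set.mem_insert _ _)
  have hZP : Zc E ≤ P := by
    intro x hx
    rw [hP]; exact Subgroup.subset_closure (by rw [hk]; exact Set.mem_insert_of_mem _ hx)
  have hncyc : ¬ IsCyclic ↥P := by
    intro hcyc
    obtain ⟨g, hg⟩ := hcyc.exists_generator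
    have h1 : orderOf g = Nat.card ↥P := orderOf_eq_card_of_forall_mem_zpowers hg
    have h2 : orderOf g ≤ p := by
      apply orderOf_le_of_pow_eq_one (Fact.out : p.Prime).pos
      apply Subtype.ext
      simpa using hPp g g.2
    have h3 : Zc E = P := Subgroup.eq_of_le_of_card_ge hZP (by rw [hZ, ← h1]; exact h2)
    apply hb₀Z
    have h4 : b₀ ∈ Zc E := by rw [h3]; exact hb₀P
    exact h4.2
  have hPN : P ≤ Subgroup.normalizer (A : Set G) := hPE.trans hnorm
  have hcop : (Nat.card ↥P).Coprime (Nat.card ↥A) := by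
    obtain ⟨m, hm⟩ := hEp
    have hAp : IsPGroup r ↥A := fun a => ⟨1, by
      rw [pow_one]; exact Subtype.ext (by simpa using hAr a a.2)⟩
    obtain ⟨d, hd⟩ := IsPGroup.iff_card.1 hAp
    rw [hd]
    have h1 : (p ^ m).Coprime (r ^ d) :=
      Nat.Coprime.pow _ _ ((Nat.coprime_primes Fact.out Fact.out).2 hpr)
    exact Nat.Coprime.coprime_dvd_left (hm ▸ Subgroup.card_dvd_of_le hPE) h1
  have hgen := Cfsg.Agent.S0058.result P A hncyc hPN hcop
  have hbot : (⨆ a ∈ {a : G | a ∈ P ∧ a ≠ 1}, A ⊓ Subgroup.centralizer {a}) = ⊥ := by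
    simp only [iSup_eq_bot]
    rintro a ⟨haP, ha1⟩
    by_cases haZ : a ∈ Subgroup.centralizer (E : Set G)
    · rw [eq_bot_iff]
      rintro x ⟨hxA, hxa⟩
      rw [Subgroup.mem_bot]
      have hxa' : x * a = a * x := Subgroup.mem_centralizer_singleton_iff.1 hxa
      exact hfpf a ⟨hPE haP, haZ⟩ ha1 x hxA hxa'.symm
    · exact hcon a (hPE haP) haZ (hPp a haP)
  exact hA1 (hgen.symm.trans hbot)

theorem main [Finite G] {p r : ℕ} [Fact p.Prime] [Fact r.Prime] (hpr : p ≠ r) (n : ℕ)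
    (hmin : ∀ k : ℕ, 1 ≤ k → p ∣ r ^ k - 1 → n ≤ k) :
    ∀ (w : ℕ) (E A : Subgroup G), Nat.card ↥E = p ^ (2 * w + 1) → CC E →
      Nat.card ↥(Zc E) = p →
      (∀ a ∈ A, ∀ a' ∈ A, a * a' = a' * a) → (∀ a ∈ A, a ^ r = 1) → A ≠ ⊥ →
      E ≤ Subgroup.normalizer (A : Set G) →
      (∀ u ∈ Zc E, u ≠ 1 → ∀ a ∈ A, u * a = a * u → a = 1) →
      r ^ (n * p ^ w) ≤ Nat.card ↥A := by
  have hp := (Fact.out : p.Prime)
  have hr := (Fact.out : r.Prime)
  intro w
  induction w with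
  | zero =>
    intro E A hE hc hZ hAc hAr hA1 hnorm hfpf
    obtain ⟨u, huZ, hu1⟩ := exists_ne_one_of_card (H := Zc E) (by rw [hZ]; exact hp.one_lt)
    have hmod := card_modEq_one_of_fpf A u (Zc_pow hZ huZ) (hnorm huZ.1) (hfpf u huZ hu1)
    have hAp : IsPGroup r ↥A := fun a => ⟨1, by
      rw [pow_one]; exact Subtype.ext (by simpa using hAr a a.2)⟩
    obtain ⟨d, hd⟩ := IsPGroup.iff_card.1 hAp
    have hd1 : 1 ≤ d := by
      rcases Nat.eq_zero_or_pos d with h | h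
      · exfalso; apply hA1; rw [h, pow_zero] at hd; exact Subgroup.eq_bot_of_card_eq A hd
      · exact h
    rw [hd] at hmod ⊢
    have hdvd : p ∣ r ^ d - 1 :=
      (Nat.modEq_iff_dvd' (Nat.one_le_pow _ _ hr.pos)).1 hmod.symm
    have hnd := hmin d hd1 hdvd
    simp only [pow_zero, mul_one]
    exact Nat.pow_le_pow_right hr.pos hnd
  | succ w ih =>
    intro E A hE hc hZ hAc hAr hA1 hnorm hfpf
    have hAp : IsPGroup r ↥A := fun a => ⟨1, by
      rw [pow_one]; exact Subtype.ext (by simpa using hAr a a.2)⟩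
    obtain ⟨d, hd⟩ := IsPGroup.iff_card.1 hAp
    have hEgt : p < Nat.card ↥E := by
      rw [hE]
      calc p = p ^ 1 := (pow_one p).symm
        _ < p ^ (2 * (w + 1) + 1) := Nat.pow_lt_pow_right hp.one_lt (by omega)
    by_cases hspecial : p = 2 ∧ w = 0
    · obtain ⟨hp2, hw0⟩ := hspecial
      have hn1 : n ≤ 1 := by
        apply hmin 1 le_rfl
        rw [pow_one, hp2]
        rcases hr.eq_two_or_odd with h | h
        · exact absurd (hp2.trans h.symm) hpr
        · omega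
      have hd2 : 2 ≤ d := by
        by_contra hlt
        push Not at hlt
        interval_cases d
        · apply hA1; rw [pow_zero] at hd; exact Subgroup.eq_bot_of_card_eq A hd
        · rw [pow_one] at hd
          obtain ⟨x, hx, hxZ⟩ := exists_not_central hZ le_rfl hEgt
          obtain ⟨y, hy, hyx⟩ := exists_noncomm hxZ
          have huZ : x⁻¹ * y⁻¹ * x * y ∈ Zc E := by
            have h1 := comm_mem_Zc hc (E.inv_mem hx) (E.inv_mem hy)
            rwa [inv_inv, inv_inv] at h1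
          have hu1 : x⁻¹ * y⁻¹ * x * y ≠ 1 := by
            intro h
            apply hyx
            have h2 : x * y = y * x := by
              calc x * y = y * x * (x⁻¹ * y⁻¹ * x * y) := by group
                _ = y * x := by rw [h, mul_one]
            exact h2.symm
          have hcen := comm_centralizes_of_prime_card hd (hnorm hx) (hnorm hy)
          apply hA1
          rw [Subgroup.eq_bot_iff_forall]
          intro a ha
          exact hfpf _ huZ hu1 a ha (hcen a ha)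
      rw [hd]
      apply Nat.pow_le_pow_right hr.pos
      rw [hp2, hw0]
      calc n * 2 ^ (0 + 1) = n * 2 := by norm_num
        _ ≤ 1 * 2 := Nat.mul_le_mul_right 2 hn1
        _ ≤ d := by omega
    · have hex : ∃ b ∈ E, b ∉ Subgroup.centralizer (E : Set G) ∧ b ^ p = 1 := by
        by_cases hp2 : p = 2
        · have hw : w ≠ 0 := fun h => hspecial ⟨hp2, h⟩
          subst hp2
          apply exists_b_two hc hZ
          rw [hE]
          calc 8 < 2 ^ 5 := by norm_num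
            _ ≤ 2 ^ (2 * (w + 1) + 1) := Nat.pow_le_pow_right (by norm_num) (by omega)
        · exact exists_b_odd hp2 hc hZ hEgt
      obtain ⟨b₀, hb₀, hb₀Z, hb₀p⟩ := hex
      obtain ⟨b, hb, hbZ, hbp, hA₁⟩ :=
        exists_b_fix hpr hc hZ ⟨_, hE⟩ hAr hA1 hnorm hfpf hb₀ hb₀Z hb₀p
      obtain ⟨y, hy, hyb⟩ := exists_noncomm hbZ
      have h1 := idx hc hZ E le_rfl b hb y hy hyb
      have hbC : b ∈ E ⊓ Subgroup.centralizer {b} :=
        ⟨hb, Subgroup.mem_centralizer_singleton_iff.2 rfl⟩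
      have h2 := idx hc hZ (E ⊓ Subgroup.centralizer {b}) inf_le_left y hy b hbC
        (fun h => hyb h.symm)
      have hE₁E : E ⊓ Subgroup.centralizer {b} ⊓ Subgroup.centralizer {y} ≤ E :=
        inf_le_left.trans inf_le_left
      have hE₁card : Nat.card ↥(E ⊓ Subgroup.centralizer {b} ⊓ Subgroup.centralizer {y}) =
          p ^ (2 * w + 1) := by
        have h3 : Nat.card ↥(E ⊓ Subgroup.centralizer {b} ⊓ Subgroup.centralizer {y}) * p * p =
            p ^ (2 * w + 1) * p * p := by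
          rw [h2, h1, hE]; ring
        exact Nat.eq_of_mul_eq_mul_right hp.pos (Nat.eq_of_mul_eq_mul_right hp.pos h3)
      have hZeq : Zc (E ⊓ Subgroup.centralizer {b} ⊓ Subgroup.centralizer {y}) = Zc E := by
        apply le_antisymm
        · intro v hv
          have hvE₁ : v ∈ E ⊓ Subgroup.centralizer {b} ⊓ Subgroup.centralizer {y} := hv.1
          have hvc : v ∈ Subgroup.centralizer
              ((E ⊓ Subgroup.centralizer {b} ⊓ Subgroup.centralizer {y} : Subgroup G) : Set G) :=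
            hv.2
          have hvcen : v ∈ Subgroup.centralizer (E : Set G) := by
            rw [Subgroup.mem_centralizer_iff] at hvc ⊢
            intro g hg
            obtain ⟨j, hj⟩ := kill hc hZ hb hy hyb hg
            have hg₁E : g * (y ^ j)⁻¹ ∈ E := E.mul_mem hg (E.inv_mem (E.pow_mem hy j))
            obtain ⟨i, hi⟩ := kill hc hZ hy hb (fun h => hyb h.symm) hg₁E
            have hg₂ : g * (y ^ j)⁻¹ * (b ^ i)⁻¹ ∈
                E ⊓ Subgroup.centralizer {b} ⊓ Subgroup.centralizer {y} := by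
              have hcb : g * (y ^ j)⁻¹ * (b ^ i)⁻¹ ∈ Subgroup.centralizer {b} := by
                rw [Subgroup.mem_centralizer_singleton_iff]
                have hc1 : Commute (g * (y ^ j)⁻¹) b := hj
                have hc2 : Commute ((b ^ i)⁻¹) b := ((Commute.refl b).pow_left i).inv_left
                exact (hc1.mul_left hc2).eq
              have hcy : g * (y ^ j)⁻¹ * (b ^ i)⁻¹ ∈ Subgroup.centralizer {y} := by
                rw [Subgroup.mem_centralizer_singleton_iff]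
                exact hi
              exact ⟨⟨E.mul_mem hg₁E (E.inv_mem (E.pow_mem hb i)), hcb⟩, hcy⟩
            have hvb : Commute v b := Subgroup.mem_centralizer_singleton_iff.1 hvE₁.1.2
            have hvy : Commute v y := Subgroup.mem_centralizer_singleton_iff.1 hvE₁.2
            have hv2 : Commute v (g * (y ^ j)⁻¹ * (b ^ i)⁻¹) := (hvc _ hg₂).symm
            have hg_eq : g = g * (y ^ j)⁻¹ * (b ^ i)⁻¹ * b ^ i * y ^ j := by group
            have hvg : Commute v g := by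
              rw [hg_eq]
              exact (hv2.mul_right (hvb.pow_right i)).mul_right (hvy.pow_right j)
            exact hvg.eq.symm
          exact ⟨hE₁E hvE₁, hvcen⟩
        · intro v hv
          refine ⟨⟨⟨hv.1, ?_⟩, ?_⟩, ?_⟩
          · exact Subgroup.mem_centralizer_singleton_iff.2 (Zc_comm hv hb).symm
          · exact Subgroup.mem_centralizer_singleton_iff.2 (Zc_comm hv hy).symm
          · exact Subgroup.centralizer_le (fun x hx => hE₁E hx) hv.2
      have hCC₁ : CC (E ⊓ Subgroup.centralizer {b} ⊓ Subgroup.centralizer {y}) := by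
        intro x hx z hz
        exact Subgroup.centralizer_le (fun g hg => hE₁E hg) (hc x (hE₁E hx) z (hE₁E hz))
      have hZ₁ : Nat.card ↥(Zc (E ⊓ Subgroup.centralizer {b} ⊓ Subgroup.centralizer {y})) = p := by
        rw [hZeq]; exact hZ
      have hAc₁ : ∀ a ∈ A ⊓ Subgroup.centralizer {b}, ∀ a' ∈ A ⊓ Subgroup.centralizer {b},
          a * a' = a' * a := fun a ha a' ha' => hAc a ha.1 a' ha'.1
      have hAr₁ : ∀ a ∈ A ⊓ Subgroup.centralizer {b}, a ^ r = 1 := fun a ha => hAr a ha.1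
      have hnorm₁ : E ⊓ Subgroup.centralizer {b} ⊓ Subgroup.centralizer {y} ≤
          Subgroup.normalizer ((A ⊓ Subgroup.centralizer {b} : Subgroup G) : Set G) := by
        intro e he
        have heN := hnorm (hE₁E he)
        have heb : Commute e b := Subgroup.mem_centralizer_singleton_iff.1 he.1.2
        rw [Subgroup.mem_normalizer_iff]
        intro a
        constructor
        · rintro ⟨haA, hab⟩
          have hab' : Commute a b := Subgroup.mem_centralizer_singleton_iff.1 hab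
          have hcb : e * a * e⁻¹ ∈ Subgroup.centralizer {b} :=
            Subgroup.mem_centralizer_singleton_iff.2
              ((heb.mul_left hab').mul_left heb.inv_left).eq
          exact ⟨(Subgroup.mem_normalizer_iff.1 heN a).1 haA, hcb⟩
        · rintro ⟨haA, hab⟩
          have hab' : Commute (e * a * e⁻¹) b := Subgroup.mem_centralizer_singleton_iff.1 hab
          have h3 : Commute (e⁻¹ * (e * a * e⁻¹) * e) b :=
            (heb.inv_left.mul_left hab').mul_left heb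
          have e2 : e⁻¹ * (e * a * e⁻¹) * e = a := by group
          rw [e2] at h3
          have hcb : a ∈ Subgroup.centralizer {b} :=
            Subgroup.mem_centralizer_singleton_iff.2 h3.eq
          exact ⟨(Subgroup.mem_normalizer_iff.1 heN a).2 haA, hcb⟩
      have hfpf₁ : ∀ u ∈ Zc (E ⊓ Subgroup.centralizer {b} ⊓ Subgroup.centralizer {y}), u ≠ 1 →
          ∀ a ∈ A ⊓ Subgroup.centralizer {b}, u * a = a * u → a = 1 := by
        intro u hu hu1 a ha hua
        rw [hZeq] at hu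
        exact hfpf u hu hu1 a ha.1 hua
      have hIH := ih _ _ hE₁card hCC₁ hZ₁ hAc₁ hAr₁ hA₁ hnorm₁ hfpf₁
      have hcard := card_pow_le hc hZ hAc hnorm hfpf hb hy hyb
      calc r ^ (n * p ^ (w + 1)) = (r ^ (n * p ^ w)) ^ p := by
            rw [← pow_mul, pow_succ, mul_assoc]
        _ ≤ Nat.card ↥(A ⊓ Subgroup.centralizer {b}) ^ p := Nat.pow_le_pow_left hIH p
        _ ≤ Nat.card ↥A := hcard

end amb

/-- Let p and r be distinct primes, let E be an extraspecial subgroup of order p^(2w+1) of a finite group, and let A be an elementary abelian r-subgroup normalized by E on which E acts faithfully (C_E(A) = 1). If n ≥ 1 is least with p dividing rⁿ − 1 (the smallest dimension of a faithful representation of a group of order p over the field with r elements), then the order of A is at least r^(n·p^w). -/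
theorem result {G : Type*} [Group G] [Finite G] {p r : ℕ} [Fact p.Prime] [hr : Fact r.Prime] (hpr : p ≠ r) (E A : Subgroup G) (w : ℕ) (hE : Cfsg.IsExtraspecial p ↥E) (hEcard : Nat.card ↥E = p ^ (2 * w + 1)) (hA : Cfsg.IsElementaryAbelian r A) (hnorm : E ≤ Subgroup.normalizer (A : Set G)) (hfaith : E ⊓ Subgroup.centralizer (A : Set G) = ⊥) (n : ℕ) (hn : 1 ≤ n) (hdiv : p ∣ r ^ n - 1) (hmin : ∀ k : ℕ, 1 ≤ k → p ∣ r ^ k - 1 → n ≤ k) : r ^ (n * p ^ w) ≤ Nat.card ↥A := by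
  classical
  have hp := (Fact.out : p.Prime)
  have hcomm : commutator ↥E = Subgroup.center ↥E := hE.1.2.2
  have hcen : Nat.card ↥(Subgroup.center ↥E) = p := hE.2
  have hc : CC E := by
    intro x hx y hy
    rw [Subgroup.mem_centralizer_iff]
    intro g hg
    have h1 : (⟨x, hx⟩ : ↥E) * (⟨y, hy⟩ : ↥E) * (⟨x, hx⟩ : ↥E)⁻¹ * (⟨y, hy⟩ : ↥E)⁻¹
        ∈ commutator ↥E := by
      rw [commutator_def]
      exact Subgroup.commutator_mem_commutator (Subgroup.mem_top (⟨x, hx⟩ : ↥E))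
        (Subgroup.mem_top (⟨y, hy⟩ : ↥E))
    rw [hcomm, Subgroup.mem_center_iff] at h1
    have h2 := h1 ⟨g, hg⟩
    have h3 := congrArg Subtype.val h2
    simpa [commutatorElement_def] using h3
  have hZ : Nat.card ↥(Zc E) = p := by
    rw [← hcen]
    refine Nat.card_congr ⟨fun v => ⟨⟨v.1, v.2.1⟩, ?_⟩, fun z => ⟨z.1.1, z.1.2, ?_⟩, ?_, ?_⟩
    · rw [Subgroup.mem_center_iff]
      intro g
      apply Subtype.ext
      exact Subgroup.mem_centralizer_iff.1 v.2.2 g g.2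
    · refine Subgroup.mem_centralizer_iff.2 ?_
      intro g hg
      have h1 := (Subgroup.mem_center_iff.1 z.2) ⟨g, hg⟩
      exact congrArg Subtype.val h1
    · intro v; rfl
    · intro z; rfl
  obtain ⟨z, hzZ, hz1⟩ := exists_ne_one_of_card (H := Zc E) (by rw [hZ]; exact hp.one_lt)
  have hAc : ∀ a ∈ A, ∀ a' ∈ A, a * a' = a' * a := by
    intro a ha a' ha'
    have h1 := hA.1
    exact congrArg Subtype.val (mul_comm' (⟨a, ha⟩ : ↥A) ⟨a', ha'⟩)
  have hAr : ∀ a ∈ A, a ^ r = 1 := hA.2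
  have hzN : z ∈ Subgroup.normalizer (A : Set G) := hnorm hzZ.1
  have hzA : ∀ a ∈ A, z * a * z⁻¹ ∈ A := fun a ha => (Subgroup.mem_normalizer_iff.1 hzN a).1 ha
  -- the subgroup `[A, z]`
  let A' : Subgroup G :=
    { carrier := {x | ∃ a ∈ A, z * a * z⁻¹ * a⁻¹ = x}
      one_mem' := ⟨1, A.one_mem, by simp⟩
      mul_mem' := by
        rintro x x' ⟨a, ha, rfl⟩ ⟨a', ha', rfl⟩
        refine ⟨a * a', A.mul_mem ha ha', ?_⟩
        have h1 : (z * a' * z⁻¹ * a'⁻¹) * a⁻¹ = a⁻¹ * (z * a' * z⁻¹ * a'⁻¹) :=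
          hAc _ (A.mul_mem (hzA a' ha') (A.inv_mem ha')) _ (A.inv_mem ha)
        calc z * (a * a') * z⁻¹ * (a * a')⁻¹
            = (z * a * z⁻¹) * ((z * a' * z⁻¹ * a'⁻¹) * a⁻¹) := by group
          _ = (z * a * z⁻¹) * (a⁻¹ * (z * a' * z⁻¹ * a'⁻¹)) := by rw [h1]
          _ = z * a * z⁻¹ * a⁻¹ * (z * a' * z⁻¹ * a'⁻¹) := by group
      inv_mem' := by
        rintro x ⟨a, ha, rfl⟩
        refine ⟨a⁻¹, A.inv_mem ha, ?_⟩
        have h1 : (z * a * z⁻¹) * a⁻¹ = a⁻¹ * (z * a * z⁻¹) :=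
          hAc _ (hzA a ha) _ (A.inv_mem ha)
        calc z * a⁻¹ * z⁻¹ * a⁻¹⁻¹ = (a⁻¹ * (z * a * z⁻¹))⁻¹ := by group
          _ = (z * a * z⁻¹ * a⁻¹)⁻¹ := by rw [h1] }
  have hA'mem : ∀ x, x ∈ A' ↔ ∃ a ∈ A, z * a * z⁻¹ * a⁻¹ = x := fun x => Iff.rfl
  have hA'A : A' ≤ A := by
    rintro x ⟨a, ha, rfl⟩
    exact A.mul_mem (hzA a ha) (A.inv_mem ha)
  have hA'1 : A' ≠ ⊥ := by
    intro hbot
    apply hz1
    have hzc : z ∈ E ⊓ Subgroup.centralizer (A : Set G) := by
      have hzcA : z ∈ Subgroup.centralizer (A : Set G) := by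
        rw [Subgroup.mem_centralizer_iff]
        intro a ha
        have h1 : z * a * z⁻¹ * a⁻¹ ∈ A' := ⟨a, ha, rfl⟩
        rw [hbot, Subgroup.mem_bot] at h1
        have h2 : z * a = a * z := by
          calc z * a = (z * a * z⁻¹ * a⁻¹) * a * z := by group
            _ = a * z := by rw [h1, one_mul]
        exact h2.symm
      exact ⟨hzZ.1, hzcA⟩
    rw [hfaith, Subgroup.mem_bot] at hzc
    exact hzc
  have hnorm' : E ≤ Subgroup.normalizer (A' : Set G) := by
    apply le_normalizer_of_conj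
    rintro e he x ⟨a, ha, rfl⟩
    refine ⟨e * a * e⁻¹, (Subgroup.mem_normalizer_iff.1 (hnorm he) a).1 ha, ?_⟩
    have hez : e * z = z * e := Zc_comm hzZ he
    have hez' : Commute e z := hez
    calc z * (e * a * e⁻¹) * z⁻¹ * (e * a * e⁻¹)⁻¹
        = (z * e) * a * (e⁻¹ * z⁻¹) * e * a⁻¹ * e⁻¹ := by group
      _ = (e * z) * a * (z⁻¹ * e⁻¹) * e * a⁻¹ * e⁻¹ := by
          rw [hez, (hez'.inv_inv).eq]
      _ = e * (z * a * z⁻¹ * a⁻¹) * e⁻¹ := by group
  have hfz : ∀ x ∈ A', z * x = x * z → x = 1 := by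
    rintro t ⟨a, ha, ht⟩ hzt
    have htA : t ∈ A := hA'A ⟨a, ha, ht⟩
    have hczt : Commute z t := hzt
    have key : ∀ k : ℕ, z ^ k * a * (z ^ k)⁻¹ = t ^ k * a := by
      intro k
      induction k with
      | zero => simp
      | succ k ih =>
        have hzk : Commute z (t ^ k) := hczt.pow_right k
        calc z ^ (k + 1) * a * (z ^ (k + 1))⁻¹ = z * (z ^ k * a * (z ^ k)⁻¹) * z⁻¹ := by
              rw [pow_succ']; group
          _ = z * (t ^ k * a) * z⁻¹ := by rw [ih]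
          _ = (z * t ^ k) * (a * z⁻¹) := by group
          _ = (t ^ k * z) * (a * z⁻¹) := by rw [hzk.eq]
          _ = t ^ k * (z * a * z⁻¹ * a⁻¹) * a := by group
          _ = t ^ (k + 1) * a := by rw [ht, ← pow_succ]
    have htp : t ^ p = 1 := by
      have h1 := key p
      rw [Zc_pow hZ hzZ, one_mul, inv_one, mul_one] at h1
      exact mul_right_cancel (h1.symm.trans (one_mul a).symm)
    have h1 : orderOf t ∣ p := orderOf_dvd_of_pow_eq_one htp
    have h2 : orderOf t ∣ r := orderOf_dvd_of_pow_eq_one (hAr t htA)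
    have h3 : orderOf t ∣ Nat.gcd p r := Nat.dvd_gcd h1 h2
    have h4 : Nat.gcd p r = 1 := (Nat.coprime_primes hp hr.out).2 hpr
    rw [h4, Nat.dvd_one] at h3
    exact orderOf_eq_one_iff.1 h3
  have hfpf' : ∀ v ∈ Zc E, v ≠ 1 → ∀ x ∈ A', v * x = x * v → x = 1 := by
    intro v hv hv1 x hx hvx
    obtain ⟨k, hk⟩ := zgen hZ hv hv1 hzZ
    have h1 : Commute v x := hvx
    have h2 : Commute (v ^ k) x := h1.pow_left k
    rw [hk] at h2
    exact hfz x hx h2.eq
  have hmain := main hpr n hmin w E A' hEcard hc hZ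
    (fun a ha a' ha' => hAc a (hA'A ha) a' (hA'A ha')) (fun a ha => hAr a (hA'A ha))
    hA'1 hnorm' hfpf'
  exact hmain.trans (Subgroup.card_le_of_le hA'A)

end Cfsg.Agent.S2912
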