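import Cfsg.Statements.S2922
import Mathlib
import Cfsg.Agent.Lib.helper54.FStar

set_option autoImplicit false
open Cfsg

namespace Cfsg.Agent.S2922

open Cfsg.Agent.Lib.helper54 in
/-- The statement in `CharPIn` form. -/
theorem main {X : Type*} [Group X] [Finite X] {p : ℕ} [Fact p.Prime] (B C : Subgroup X)
    (hB : IsPGroup p ↥B) (hCB : C ≤ B) (hCn : (C.subgroupOf B).Normal)
    (hM : CharPIn p (Subgroup.normalizer (C : Set X))) :
    CharPIn p (Subgroup.normalizer (B : Set X)) ∧ CharPIn p (Subgroup.centralizer (B : Set X)) := by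
  have hBN : B ≤ Subgroup.normalizer (C : Set X) :=
    (Subgroup.normal_subgroupOf_iff_le_normalizer hCB).mp hCn
  have h1 : CharPIn p (Subgroup.normalizer (C : Set X) ⊓ Subgroup.normalizer (B : Set X)) :=
    hM.inf_normalizer hBN hB
  have hle : Subgroup.centralizer (B : Set X) ≤
      Subgroup.normalizer (C : Set X) ⊓ Subgroup.normalizer (B : Set X) := by
    refine le_inf ?_ (Subgroup.centralizer_le_normalizer _)
    exact (Subgroup.centralizer_le (SetLike.coe_subset_coe.mpr hCB)).trans
      (Subgroup.centralizer_le_normalizer _)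
  have h2 : CharPIn p (Subgroup.centralizer (B : Set X)) :=
    CharPIn.of_normal hle (inf_le_right.trans (normalizer_le_normalizer_centralizer_coe B)) h1
  refine ⟨?_, h2⟩
  apply charPIn_of_centralizer_subgroup (P := B) Subgroup.le_normalizer le_rfl hB
  have h3 : Subgroup.normalizer (B : Set X) ⊓ Subgroup.centralizer (B : Set X) =
      Subgroup.centralizer (B : Set X) :=
    inf_eq_right.mpr (Subgroup.centralizer_le_normalizer _)
  rw [h3]
  exact h2

/-- Let p be a prime, X a finite group, B a p-subgroup of X and C a normal subgroup of B. If N_X(C) has characteristic p (its generalized Fitting subgroup is O_p(N_X(C))), then N_X(B) and C_X(B) have characteristic p. -/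
theorem result {X : Type*} [Group X] [Finite X] {p : ℕ} [Fact p.Prime] (B C : Subgroup X) (hB : IsPGroup p ↥B) (hCB : C ≤ B) (hCn : (C.subgroupOf B).Normal) (hC : Cfsg.generalizedFittingSubgroup ↥(Subgroup.normalizer (C : Set X)) = Cfsg.pCore p ↥(Subgroup.normalizer (C : Set X))) : Cfsg.generalizedFittingSubgroup ↥(Subgroup.normalizer (B : Set X)) = Cfsg.pCore p ↥(Subgroup.normalizer (B : Set X)) ∧ Cfsg.generalizedFittingSubgroup ↥(Subgroup.centralizer (B : Set X)) = Cfsg.pCore p ↥(Subgroup.centralizer (B : Set X)) := by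
  have h := main B C hB hCB hCn ((Cfsg.Agent.Lib.helper54.charPIn_iff_fstar _).mpr hC)
  exact ⟨(Cfsg.Agent.Lib.helper54.charPIn_iff_fstar _).mp h.1,
    (Cfsg.Agent.Lib.helper54.charPIn_iff_fstar _).mp h.2⟩

end Cfsg.Agent.S2922
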