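import Cfsg.Statements.S2925
import Mathlib
import Cfsg.Agent.Lib.helper12.SylowNormal
import Cfsg.Agent.Lib.helper28.Components
import Cfsg.Agent.Lib.helper53.Conj

set_option autoImplicit false
open Cfsg

namespace Cfsg.Agent.S2925

/-- The commutator computation. -/
theorem comm_calc {X : Type*} [Group X] (a b a' b' : X)
    (h1 : a * a'⁻¹ * (b * b'⁻¹) = b * b'⁻¹ * (a * a'⁻¹)) (hab' : Commute a b')
    (hba' : Commute b a') : a⁻¹ * b⁻¹ * a * b = b'⁻¹ * a'⁻¹ * b' * a' := by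
  have h2 : a * b * a'⁻¹ * b'⁻¹ = b * a * b'⁻¹ * a'⁻¹ := by
    calc a * b * a'⁻¹ * b'⁻¹ = a * (b * a'⁻¹) * b'⁻¹ := by group
      _ = a * (a'⁻¹ * b) * b'⁻¹ := by rw [(hba'.inv_right).eq]
      _ = a * a'⁻¹ * (b * b'⁻¹) := by group
      _ = b * b'⁻¹ * (a * a'⁻¹) := h1
      _ = b * (b'⁻¹ * a) * a'⁻¹ := by group
      _ = b * (a * b'⁻¹) * a'⁻¹ := by rw [(hab'.inv_right).eq]
      _ = b * a * b'⁻¹ * a'⁻¹ := by group
  calc a⁻¹ * b⁻¹ * a * b = a⁻¹ * b⁻¹ * (a * b * a'⁻¹ * b'⁻¹) * b' * a' := by group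
    _ = a⁻¹ * b⁻¹ * (b * a * b'⁻¹ * a'⁻¹) * b' * a' := by rw [h2]
    _ = b'⁻¹ * a'⁻¹ * b' * a' := by group

open Cfsg.Agent.Lib.helper53 in
/-- Commutators of elements of `T ∩ K` are central in `K`. -/
theorem key {X : Type*} [Group X] [Finite X] (K : Subgroup X) (hK : Cfsg.IsComponent K)
    (T : Sylow 2 X) (Y : Subgroup X) (hYT : Y ≤ (T : Subgroup X))
    (hYn : (Y.subgroupOf (T : Subgroup X)).Normal) (hYab : IsMulCommutative ↥Y)
    (hnot : ¬ Y ≤ Subgroup.normalizer (K : Set X)) :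
    ∀ a ∈ (T : Subgroup X) ⊓ K, ∀ b ∈ (T : Subgroup X) ⊓ K, ∀ k ∈ K,
      k * (a⁻¹ * b⁻¹ * a * b) = (a⁻¹ * b⁻¹ * a * b) * k := by
  obtain ⟨y, hyY, hyN⟩ := SetLike.not_le_iff_exists.mp hnot
  have hK' : Cfsg.IsComponent (K.map (MulAut.conj y).toMonoidHom) :=
    Cfsg.Agent.Lib.helper28.isComponent_map_equiv (MulAut.conj y) hK
  have hne : K ≠ K.map (MulAut.conj y).toMonoidHom :=
    fun h => hyN (mem_normalizer_of_conj_eq_self h.symm)
  have hcomm : ⁅K, K.map (MulAut.conj y).toMonoidHom⁆ = ⊥ :=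
    Cfsg.Agent.Lib.helper28.isComponent_commute hK hK' hne
  rw [Subgroup.commutator_eq_bot_iff_le_centralizer] at hcomm
  have hcomm' : ∀ k ∈ K, ∀ k' ∈ K.map (MulAut.conj y).toMonoidHom, k' * k = k * k' := by
    intro k hk k' hk'
    exact Subgroup.mem_centralizer_iff.mp (hcomm hk) k' hk'
  have hTY : (T : Subgroup X) ≤ Subgroup.normalizer (Y : Set X) :=
    (Subgroup.normal_subgroupOf_iff_le_normalizer hYT).mp hYn
  intro a ha b hb k hk
  obtain ⟨haT, haK⟩ := Subgroup.mem_inf.mp ha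
  obtain ⟨hbT, hbK⟩ := Subgroup.mem_inf.mp hb
  have hca : a * y * a⁻¹ * y⁻¹ ∈ Y :=
    Y.mul_mem ((Subgroup.mem_normalizer_iff.mp (hTY haT) y).mp hyY) (Y.inv_mem hyY)
  have hcb : b * y * b⁻¹ * y⁻¹ ∈ Y :=
    Y.mul_mem ((Subgroup.mem_normalizer_iff.mp (hTY hbT) y).mp hyY) (Y.inv_mem hyY)
  have h1 : a * y * a⁻¹ * y⁻¹ * (b * y * b⁻¹ * y⁻¹) = b * y * b⁻¹ * y⁻¹ * (a * y * a⁻¹ * y⁻¹) :=
    setLike_mul_comm hca hcb
  have ha' : y * a * y⁻¹ ∈ K.map (MulAut.conj y).toMonoidHom := conj_mem_conj haK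
  have hb' : y * b * y⁻¹ ∈ K.map (MulAut.conj y).toMonoidHom := conj_mem_conj hbK
  have e1 : a * y * a⁻¹ * y⁻¹ = a * (y * a * y⁻¹)⁻¹ := by group
  have e2 : b * y * b⁻¹ * y⁻¹ = b * (y * b * y⁻¹)⁻¹ := by group
  rw [e1, e2] at h1
  have hm := comm_calc a b (y * a * y⁻¹) (y * b * y⁻¹) h1 (hcomm' a haK _ hb').symm
    (hcomm' b hbK _ ha').symm
  rw [hm]
  exact (hcomm' k hk _ (Subgroup.mul_mem _ (Subgroup.mul_mem _ (Subgroup.mul_mem _
    (Subgroup.inv_mem _ hb') (Subgroup.inv_mem _ ha')) hb') ha')).symm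

open Cfsg.Agent.Lib.helper53 in
/-- The Sylow 2-subgroups of `K / Z(K)` are abelian. -/
theorem main {X : Type*} [Group X] [Finite X] (K : Subgroup X) (hK : Cfsg.IsComponent K)
    (T : Sylow 2 X) (Y : Subgroup X) (hYT : Y ≤ (T : Subgroup X))
    (hYn : (Y.subgroupOf (T : Subgroup X)).Normal) (hYab : IsMulCommutative ↥Y)
    (hnot : ¬ Y ≤ Subgroup.normalizer (K : Set X)) (P : Sylow 2 (↥K ⧸ Subgroup.center ↥K)) :
    ∀ u ∈ (P : Subgroup (↥K ⧸ Subgroup.center ↥K)),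
      ∀ v ∈ (P : Subgroup (↥K ⧸ Subgroup.center ↥K)), u * v = v * u := by
  have hf2 : Fact (Nat.Prime 2) := ⟨Nat.prime_two⟩
  have hkey := key K hK T Y hYT hYn hYab hnot
  obtain ⟨Q, hQ⟩ := Cfsg.Agent.Lib.helper12.exists_sylow_eq_subgroupOf_of_isSubnormal T K hK.1
  obtain ⟨g, hg⟩ := exists_le_conj_sylow P.2
    (Q.mapSurjective (QuotientGroup.mk'_surjective (Subgroup.center ↥K)))
  rw [Sylow.coe_mapSurjective] at hg
  intro u hu v hv
  obtain ⟨a, haQ, hau⟩ := mem_conj_iff.mp (hg hu)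
  obtain ⟨b, hbQ, hbv⟩ := mem_conj_iff.mp (hg hv)
  have haT : (a : X) ∈ (T : Subgroup X) := by
    have h1 : a ∈ (T : Subgroup X).subgroupOf K := hQ ▸ haQ
    exact Subgroup.mem_subgroupOf.mp h1
  have hbT : (b : X) ∈ (T : Subgroup X) := by
    have h1 : b ∈ (T : Subgroup X).subgroupOf K := hQ ▸ hbQ
    exact Subgroup.mem_subgroupOf.mp h1
  have hab : (QuotientGroup.mk' (Subgroup.center ↥K) a) * (QuotientGroup.mk' (Subgroup.center ↥K) b)
      = (QuotientGroup.mk' (Subgroup.center ↥K) b) * (QuotientGroup.mk' (Subgroup.center ↥K) a) := by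
    rw [← map_mul, ← map_mul]
    apply QuotientGroup.eq.mpr
    rw [Subgroup.mem_center_iff]
    intro k
    apply Subtype.ext
    have h1 := hkey (b : X) (Subgroup.mem_inf.mpr ⟨hbT, b.2⟩) (a : X)
      (Subgroup.mem_inf.mpr ⟨haT, a.2⟩) (k : X) k.2
    simp only [Subgroup.coe_mul, Subgroup.coe_inv, mul_inv_rev]
    simpa only [mul_assoc] using h1
  calc u * v = g * ((g⁻¹ * u * g) * (g⁻¹ * v * g)) * g⁻¹ := by group
    _ = g * ((g⁻¹ * v * g) * (g⁻¹ * u * g)) * g⁻¹ := by rw [← hau, ← hbv, hab]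
    _ = v * u := by group

/-- Let K be a component of the finite group X and T a Sylow 2-subgroup of X. If some abelian normal subgroup Y of T does not normalize K, then K ⧸ Z(K) has abelian Sylow 2-subgroups. -/
theorem result {X : Type*} [Group X] [Finite X] (K : Subgroup X) (hK : Cfsg.IsComponent K) (T : Sylow 2 X) (Y : Subgroup X) (hYT : Y ≤ (T : Subgroup X)) (hYn : (Y.subgroupOf (T : Subgroup X)).Normal) (hYab : IsMulCommutative ↥Y) (hnot : ¬ Y ≤ Subgroup.normalizer (K : Set X)) (P : Sylow 2 (↥K ⧸ Subgroup.center ↥K)) : IsMulCommutative ↥(P : Subgroup (↥K ⧸ Subgroup.center ↥K)) := by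
  have h := main K hK T Y hYT hYn hYab hnot P
  exact ⟨⟨fun u v => Subtype.ext (h u.1 u.2 v.1 v.2)⟩⟩

end Cfsg.Agent.S2925
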