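import Cfsg.Statements.S2929
import Mathlib
import Cfsg.Agent.Lib.helper37.ThreeCyc
import Cfsg.Agent.Lib.helper28.Components
import Cfsg.Agent.Lib.helper11.SmallSimple

set_option autoImplicit false
open Cfsg

namespace Cfsg.Agent.S2929

open Equiv Equiv.Perm Cfsg.Agent.Lib.helper37 Cfsg.Agent.Lib.helper28

/-- a quasisimple group has more than 24 elements -/
theorem qs_card_gt {K : Type*} [Group K] [Finite K] (h : Cfsg.IsQuasisimple K) :
    24 < Nat.card K := by
  by_contra hle
  have hqs := qs_of_isQuasisimple h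
  have : IsSimpleGroup (K ⧸ Subgroup.center K) := h.2
  have hcard : Nat.card (K ⧸ Subgroup.center K) ≤ Nat.card K :=
    Nat.card_le_card_of_surjective _ (QuotientGroup.mk_surjective (s := Subgroup.center K))
  have hnc : ¬ IsCyclic (K ⧸ Subgroup.center K) := by
    intro hc
    exact hqs.not_isMulCommutative
      (MonoidHom.isMulCommutative_of_isCyclic_of_ker_le_center
        (QuotientGroup.mk' (Subgroup.center K)) (by rw [QuotientGroup.ker_mk']))
  have h60 := Cfsg.Agent.Lib.helper11.card_eq_sixty_of_le_hundred hnc (by omega)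
  omega

/-- Let n ≥ 5 and let H be a subgroup of the symmetric group of degree n whose generalized Fitting subgroup F*(H) is quasisimple. If H contains a Sylow 3-subgroup of the symmetric group, then F*(H) is isomorphic to an alternating group of degree m for some m ∈ {n − 2, n − 1, n}. -/
theorem result (n : ℕ) (hn : 5 ≤ n) (H : Subgroup (Equiv.Perm (Fin n))) (hF : Cfsg.IsQuasisimple ↥(Cfsg.generalizedFittingSubgroup ↥H)) (hS : ∃ P : Sylow 3 (Equiv.Perm (Fin n)), (P : Subgroup (Equiv.Perm (Fin n))) ≤ H) : ∃ m : ℕ, (m = n - 2 ∨ m = n - 1 ∨ m = n) ∧ Nonempty (↥(Cfsg.generalizedFittingSubgroup ↥H) ≃* ↥(alternatingGroup (Fin m))) := by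
  classical
  obtain ⟨P, hPH⟩ := hS
  obtain ⟨f, hfinj, hfP⟩ := exists_disjoint_c3_of_sylow n P
  have hcomp : Cfsg.IsComponent (Cfsg.generalizedFittingSubgroup ↥H) :=
    ⟨(generalizedFittingSubgroup_normal ↥H).isSubnormal, hF⟩
  have hperf : ⁅Cfsg.generalizedFittingSubgroup ↥H, Cfsg.generalizedFittingSubgroup ↥H⁆ =
      Cfsg.generalizedFittingSubgroup ↥H := isComponent_isPerfect hcomp
  have hne : Cfsg.generalizedFittingSubgroup ↥H ≠ ⊥ := isComponent_ne_bot hcomp
  have hfne : ∀ i (j j' : Fin 3), j ≠ j' → f i j ≠ f i j' := by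
    intro i j j' hj h
    exact hj (congrArg Prod.snd (@hfinj (i, j) (i, j') h))
  -- no 3-cycle of `H` centralizes `F*(H)`
  have step2 : ∀ a b c : Fin n, a ≠ b → a ≠ c → b ≠ c → c3 a b c ∈ H →
      (∀ e ∈ Cfsg.generalizedFittingSubgroup ↥H,
        (e : Perm (Fin n)) * c3 a b c = c3 a b c * (e : Perm (Fin n))) → False := by
    intro a b c hab hac hbc ht hc
    have hmem : (⟨c3 a b c, ht⟩ : ↥H) ∈
        Subgroup.centralizer (Cfsg.generalizedFittingSubgroup ↥H : Set ↥H) := by
      rw [Subgroup.mem_centralizer_iff]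
      intro e he
      exact Subtype.ext (hc e he)
    have hmem' : (⟨c3 a b c, ht⟩ : ↥H) ∈ Cfsg.generalizedFittingSubgroup ↥H :=
      centralizer_generalizedFittingSubgroup_le ↥H hmem
    have hEperf : ⁅(Cfsg.generalizedFittingSubgroup ↥H).map H.subtype,
        (Cfsg.generalizedFittingSubgroup ↥H).map H.subtype⁆ =
        (Cfsg.generalizedFittingSubgroup ↥H).map H.subtype := by
      rw [← Subgroup.map_commutator, hperf]
    have hEcomm : ∀ e ∈ (Cfsg.generalizedFittingSubgroup ↥H).map H.subtype,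
        e * c3 a b c = c3 a b c * e := by
      rintro _ ⟨e, he, rfl⟩
      exact hc e he
    have hfix := fix_of_perfect_of_commute hEperf hab hac hbc hEcomm
    have h1 := hfix (c3 a b c) ⟨⟨c3 a b c, ht⟩, hmem', rfl⟩
    rw [c3_apply_left hab hac] at h1
    exact hab h1.symm
  -- the base 3-cycle and the maximal full set
  have hk : 0 < n / 3 := by omega
  have h01 := hfne ⟨0, hk⟩ 0 1 (by decide)
  have h02 := hfne ⟨0, hk⟩ 0 2 (by decide)
  have h12 := hfne ⟨0, hk⟩ 1 2 (by decide)
  have ht₀ : c3 (f ⟨0, hk⟩ 0) (f ⟨0, hk⟩ 1) (f ⟨0, hk⟩ 2) ∈ H := hPH (hfP ⟨0, hk⟩)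
  obtain ⟨Γ, hΓF, ha₀, hb₀, hc₀, hdich⟩ := exists_max_full h01 h02 h12 ht₀
  have hA_le : altOn Γ ≤ H := altOn_le_of_full hΓF
  -- the normal closure of the 3-cycles of `H`
  have hconjS : ∀ t ∈ Group.conjugatesOfSet {t : ↥H | IsThreeCycle (t : Perm (Fin n))},
      IsThreeCycle (t : Perm (Fin n)) := by
    intro t ht
    rw [Group.mem_conjugatesOfSet_iff] at ht
    obtain ⟨s, hs, hconj⟩ := ht
    rw [isConj_iff] at hconj
    obtain ⟨g, rfl⟩ := hconj
    have hs' : IsThreeCycle (s : Perm (Fin n)) := hs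
    rw [Subgroup.coe_mul, Subgroup.coe_mul, Subgroup.coe_inv, IsThreeCycle, cycleType_conj]
    exact hs'
  have hN_norm : Subgroup.normalClosure {t : ↥H | IsThreeCycle (t : Perm (Fin n))} ≤
      Subgroup.normalizer (((altOn Γ).subgroupOf H : Subgroup ↥H) : Set ↥H) := by
    unfold Subgroup.normalClosure
    rw [Subgroup.closure_le]
    intro t ht
    have hts := hconjS t ht
    obtain ⟨a, b, c, hab, hac, hbc, habc⟩ := exists_c3_of_isThreeCycle hts
    have htH : c3 a b c ∈ H := habc ▸ t.2
    rcases hdich a b c hab hac hbc htH with ⟨ha, hb, hc⟩ | ⟨ha, hb, hc⟩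
    · apply Subgroup.le_normalizer
      show (t : Perm (Fin n)) ∈ altOn Γ
      rw [habc]
      exact c3_mem_altOn ha hb hc hab hac hbc
    · apply Subgroup.centralizer_le_normalizer
      rw [Subgroup.mem_centralizer_iff]
      intro y hy
      apply Subtype.ext
      rw [Subgroup.coe_mul, Subgroup.coe_mul, habc]
      exact altOn_commute ha hb hc _ hy
  have hA_le_N : (altOn Γ).subgroupOf H ≤
      Subgroup.normalClosure {t : ↥H | IsThreeCycle (t : Perm (Fin n))} := by
    have key : altOn Γ ≤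
        (Subgroup.normalClosure {t : ↥H | IsThreeCycle (t : Perm (Fin n))}).map H.subtype := by
      unfold altOn
      rw [← closure_three_cycles_eq_alternating, MonoidHom.map_closure, Subgroup.closure_le]
      rintro _ ⟨σ, hσ, rfl⟩
      obtain ⟨a, b, c, hab, hac, hbc, rfl⟩ := exists_c3_of_isThreeCycle hσ
      have hab' : (a : Fin n) ≠ b := fun h => hab (Subtype.ext h)
      have hac' : (a : Fin n) ≠ c := fun h => hac (Subtype.ext h)
      have hbc' : (b : Fin n) ≠ c := fun h => hbc (Subtype.ext h)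
      have h3 : IsThreeCycle (c3 (a : Fin n) b c) := isThreeCycle_c3 hab' hac' hbc'
      have hH : c3 (a : Fin n) b c ∈ H := hΓF a b c a.2 b.2 c.2 hab' hac' hbc'
      rw [SetLike.mem_coe, ofSubtype_c3]
      exact ⟨⟨_, hH⟩, Subgroup.subset_normalClosure h3, rfl⟩
    intro x hx
    obtain ⟨y, hy, hyx⟩ := key hx
    have hyx' : y = x := Subtype.ext hyx
    exact hyx' ▸ hy
  have hA_sub : ((altOn Γ).subgroupOf H).IsSubnormal := by
    refine Subgroup.IsSubnormal.step _ _ hA_le_N
      (Subgroup.normalClosure_normal.isSubnormal) ?_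
    exact (Subgroup.normal_subgroupOf_iff_le_normalizer hA_le_N).mpr hN_norm
  -- `F*(H) ≤ Alt(Γ)`
  have hEA : Cfsg.generalizedFittingSubgroup ↥H ≤ (altOn Γ).subgroupOf H := by
    rcases isComponent_le_or_commute hcomp hA_sub with h | h
    · exact h
    · exfalso
      rw [Subgroup.commutator_eq_bot_iff_le_centralizer] at h
      apply step2 _ _ _ h01 h02 h12 ht₀
      intro e he
      have h1 := h he
      rw [Subgroup.mem_centralizer_iff] at h1
      have h2 := h1 ⟨_, ht₀⟩ (c3_mem_altOn ha₀ hb₀ hc₀ h01 h02 h12)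
      exact (congrArg Subtype.val h2).symm
  -- all the disjoint 3-cycles live on `Γ`
  have hsupp : ∀ i j, f i j ∈ Γ := by
    intro i j
    have hti : c3 (f i 0) (f i 1) (f i 2) ∈ H := hPH (hfP i)
    rcases hdich _ _ _ (hfne i 0 1 (by decide)) (hfne i 0 2 (by decide))
      (hfne i 1 2 (by decide)) hti with ⟨h0, h1, h2⟩ | ⟨h0, h1, h2⟩
    · fin_cases j
      · exact h0
      · exact h1
      · exact h2
    · exfalso
      apply step2 _ _ _ (hfne i 0 1 (by decide)) (hfne i 0 2 (by decide))
        (hfne i 1 2 (by decide)) hti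
      intro e he
      exact altOn_commute h0 h1 h2 _ (hEA he)
  have hcardΓ : 3 * (n / 3) ≤ Γ.card := by
    have hsub : (Finset.univ.image (fun p : Fin (n / 3) × Fin 3 => f p.1 p.2)) ⊆ Γ := by
      intro y hy
      rw [Finset.mem_image] at hy
      obtain ⟨p, -, rfl⟩ := hy
      exact hsupp p.1 p.2
    have h1 := Finset.card_le_card hsub
    rw [Finset.card_image_of_injective _ hfinj, Finset.card_univ, Fintype.card_prod,
      Fintype.card_fin, Fintype.card_fin] at h1
    omega
  have hΓn : Γ.card ≤ n := by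
    have := Finset.card_le_univ Γ
    rwa [Fintype.card_fin] at this
  -- `|Γ| ≥ 5`
  have h5 : 5 ≤ Γ.card := by
    by_contra hlt
    have hlt' : Γ.card ≤ 4 := by omega
    have hc1 : Nat.card ↥(Cfsg.generalizedFittingSubgroup ↥H) ≤
        Nat.card ↥((altOn Γ).subgroupOf H) := Subgroup.card_le_of_le hEA
    have hc2 : Nat.card ↥((altOn Γ).subgroupOf H) = Nat.card ↥(alternatingGroup (Fin Γ.card)) :=
      Nat.card_congr ((Subgroup.subgroupOfEquivOfLe hA_le).trans (altOnEquiv Γ)).toEquiv
    have hc3 : Nat.card ↥(alternatingGroup (Fin Γ.card)) ≤ Nat.card (Perm (Fin Γ.card)) :=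
      Subgroup.card_le_card_group _
    have hc4 : Nat.card (Perm (Fin Γ.card)) = Γ.card.factorial := by
      rw [Nat.card_perm, Nat.card_fin]
    have hc5 : Γ.card.factorial ≤ 24 := by
      have h1 := Nat.factorial_le hlt'
      have h24 : Nat.factorial 4 = 24 := by decide
      omega
    have := qs_card_gt hF
    omega
  -- `F*(H) = Alt(Γ)`
  have hAsimp : IsSimpleGroup ↥((altOn Γ).subgroupOf H) := by
    have : IsSimpleGroup ↥(alternatingGroup (Fin Γ.card)) :=
      alternatingGroup.isSimpleGroup (by rw [Nat.card_fin]; exact h5)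
    exact ((Subgroup.subgroupOfEquivOfLe hA_le).trans (altOnEquiv Γ)).isSimpleGroup
  have hEeq : Cfsg.generalizedFittingSubgroup ↥H = (altOn Γ).subgroupOf H := by
    have := hAsimp
    have : (Cfsg.generalizedFittingSubgroup ↥H).Normal := generalizedFittingSubgroup_normal ↥H
    have hnorm : ((Cfsg.generalizedFittingSubgroup ↥H).subgroupOf
        ((altOn Γ).subgroupOf H)).Normal := Subgroup.normal_subgroupOf
    rcases hnorm.eq_bot_or_eq_top with h | h
    · exfalso
      rw [Subgroup.subgroupOf_eq_bot] at h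
      apply hne
      have := disjoint_iff.mp h
      rwa [inf_eq_left.mpr hEA] at this
    · exact le_antisymm hEA (Subgroup.subgroupOf_eq_top.mp h)
  refine ⟨Γ.card, by omega, ⟨?_⟩⟩
  exact (MulEquiv.subgroupCongr hEeq).trans
    ((Subgroup.subgroupOfEquivOfLe hA_le).trans (altOnEquiv Γ))

end Cfsg.Agent.S2929
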