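import Cfsg.Statements.S2931
import Cfsg.Agent.S0288
import Cfsg.Agent.Lib.helper6.GO6Syl
import Cfsg.Agent.Lib.helper6.Sp4Syl
import Cfsg.Agent.Lib.helper17.U42Transport
import Cfsg.Agent.Lib.helper18.PermModule

set_option autoImplicit false
open Cfsg
open Cfsg.Agent.Lib.helper6

namespace Cfsg.Agent.S2931

/-- The Sylow 2-subgroups of `Alt(8)` and of `PSp₄(3)` are isomorphic. -/
theorem part1 (F : Type) [Field F] [Fintype F] (hF : Fintype.card F = 3)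
    (P : Sylow 2 ↥(alternatingGroup (Fin 8))) (Q : Sylow 2 (Cfsg.PSp 2 F)) :
    Nonempty (↥(P : Subgroup ↥(alternatingGroup (Fin 8))) ≃*
      ↥(Q : Subgroup (Cfsg.PSp 2 F))) := by
  obtain ⟨T, ⟨ρ⟩⟩ := Sp4Syl.exists_psp4
  have e : ZMod 3 ≃+* F := ZMod.ringEquivOfPrime F Nat.prime_three hF
  obtain ⟨E⟩ := Cfsg.Agent.Lib.helper17.u42_psp_congr e 2
  obtain ⟨ρ'⟩ : Nonempty (↥(T.map E.toMonoidHom) ≃* Sp4Syl.P0) :=
    ⟨(T.equivMapOfInjective E.toMonoidHom E.injective).symm.trans ρ⟩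
  have hT' : Nat.card ↥(T.map E.toMonoidHom) = 2 ^ 6 := by
    rw [Nat.card_congr ρ'.toEquiv, Sp4Syl.card_P0]
    norm_num
  have hG : Nat.card (Cfsg.PSp 2 F) = 25920 := by
    rw [← Nat.card_congr E.toEquiv]
    exact Cfsg.Agent.Lib.helper17.u42_card2
  obtain ⟨φQ⟩ := CodeIso.sylow_equiv_of_card 2 6 (T.map E.toMonoidHom) hT'
    (by rw [hG]; norm_num) Q
  obtain ⟨ρA⟩ : Nonempty (↥(Sp4Syl.P0.subgroupOf (alternatingGroup (Fin 8))) ≃* Sp4Syl.P0) :=
    ⟨Subgroup.subgroupOfEquivOfLe Sp4Syl.P0_le_alt⟩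
  have hP0A : Nat.card ↥(Sp4Syl.P0.subgroupOf (alternatingGroup (Fin 8))) = 2 ^ 6 := by
    rw [Nat.card_congr ρA.toEquiv, Sp4Syl.card_P0]
    norm_num
  have hA : Nat.card ↥(alternatingGroup (Fin 8)) = 20160 := by
    rw [nat_card_alternatingGroup, Nat.card_fin]
    decide
  obtain ⟨φP⟩ := CodeIso.sylow_equiv_of_card 2 6
    (Sp4Syl.P0.subgroupOf (alternatingGroup (Fin 8))) hP0A (by rw [hA]; norm_num) P
  exact ⟨φP.trans (ρA.trans (ρ'.symm.trans φQ.symm))⟩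

/-- The Sylow 2-subgroups of `Sym(8)` and of the isometry group of a minus-type quadratic form
in dimension 6 over the field with 2 elements are isomorphic. -/
theorem part2 (K : Type) [Field K] [Fintype K] (hK : Fintype.card K = 2) (a b : K)
    (hab : ∀ z₁ z₂ : K, z₁ ^ 2 + a * z₁ * z₂ + b * z₂ ^ 2 = 0 → z₁ = 0 ∧ z₂ = 0)
    (P' : Sylow 2 (Equiv.Perm (Fin 8)))
    (Q' : Sylow 2 ↥(Cfsg.isometryGroup K (Cfsg.quadFormMinus 2 K a b))) :
    Nonempty (↥(P' : Subgroup (Equiv.Perm (Fin 8))) ≃*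
      ↥(Q' : Subgroup ↥(Cfsg.isometryGroup K (Cfsg.quadFormMinus 2 K a b)))) := by
  have r : ZMod 2 ≃+* K := ZMod.ringEquivOfPrime K Nat.prime_two hK
  have h01 : ∀ x : K, x = 0 ∨ x = 1 := by
    intro x
    have hx : x = r (r.symm x) := (r.apply_symm_apply x).symm
    have h2 : ∀ y : ZMod 2, y = 0 ∨ y = 1 := by decide
    rcases h2 (r.symm x) with h | h
    · left
      rw [hx, h, map_zero]
    · right
      rw [hx, h, map_one]
  have hb : b = 1 := by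
    rcases h01 b with h | h
    · exfalso
      have h3 := hab 0 1 (by rw [h]; ring)
      exact one_ne_zero h3.2
    · exact h
  have h2 : (1 : K) + 1 = 0 := by
    rcases h01 (1 + 1) with h | h
    · exact h
    · exfalso
      have h3 : (1 : K) = 0 := by linear_combination h
      exact one_ne_zero h3
  have ha : a = 1 := by
    rcases h01 a with h | h
    · exfalso
      have h3 := hab 1 1 (by rw [h, hb]; linear_combination h2)
      exact one_ne_zero h3.1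
    · exact h
  subst ha hb
  have hQ : ∀ v : (Fin 2 ⊕ Fin 2) ⊕ Fin 2 → ZMod 2,
      Cfsg.quadFormMinus 2 K 1 1 (r ∘ v) = r (Cfsg.quadFormMinus 2 (ZMod 2) 1 1 v) := by
    intro v
    simp only [Cfsg.quadFormMinus, Function.comp_apply, map_add, map_mul, map_sum, map_pow, map_one]
  obtain ⟨E⟩ : Nonempty (↥(Cfsg.isometryGroup (ZMod 2) (Cfsg.quadFormMinus 2 (ZMod 2) 1 1)) ≃*
      ↥(Cfsg.isometryGroup K (Cfsg.quadFormMinus 2 K 1 1))) :=
    ⟨Cfsg.Agent.Lib.helper18.isometryGroupCongr r _ _ hQ⟩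
  obtain ⟨T, ⟨ρ⟩⟩ := GO6Syl.exists_go6
  obtain ⟨ρ'⟩ : Nonempty (↥(T.map E.toMonoidHom) ≃* GO6Syl.P8) :=
    ⟨(T.equivMapOfInjective E.toMonoidHom E.injective).symm.trans ρ⟩
  have hT' : Nat.card ↥(T.map E.toMonoidHom) = 2 ^ 7 := by
    rw [Nat.card_congr ρ'.toEquiv, GO6Syl.card_P8]
    norm_num
  have hG : Nat.card ↥(Cfsg.isometryGroup K (Cfsg.quadFormMinus 2 K 1 1)) = 51840 := by
    have h3 : Nat.card ↥(Cfsg.isometryGroup K (Cfsg.quadFormMinus 2 K 1 1))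
        = 2 * 2 ^ (3 * (3 - 1)) * (2 ^ 3 + 1)
          * ∏ i ∈ Finset.range (3 - 1), (2 ^ (2 * (i + 1)) - 1) :=
      Cfsg.Agent.S0288.result (F := K) (q := 2) hK 3 (by norm_num) 1 1 hab
    rw [h3]
    norm_num [Finset.prod_range_succ]
  obtain ⟨φQ⟩ := CodeIso.sylow_equiv_of_card 2 7 (T.map E.toMonoidHom) hT'
    (by rw [hG]; norm_num) Q'
  have hS : Nat.card (Equiv.Perm (Fin 8)) = 40320 := by
    rw [Nat.card_perm, Nat.card_fin]
    decide
  obtain ⟨φP⟩ := CodeIso.sylow_equiv_of_card 2 7 GO6Syl.P8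
    (by rw [GO6Syl.card_P8]; norm_num) (by rw [hS]; norm_num) P'
  exact ⟨φP.trans (ρ'.symm.trans φQ.symm)⟩

/-- The Sylow 2-subgroups of the alternating group of degree 8 and of PSp₄(3) are isomorphic, and so are the Sylow 2-subgroups of the symmetric group of degree 8 and of the full isometry group of a non-degenerate quadratic form of minus type in dimension 6 over the field with 2 elements. -/
theorem result (F : Type) [Field F] [Fintype F] (hF : Fintype.card F = 3) (K : Type) [Field K] [Fintype K] (hK : Fintype.card K = 2) (a b : K) (hab : ∀ z₁ z₂ : K, z₁ ^ 2 + a * z₁ * z₂ + b * z₂ ^ 2 = 0 → z₁ = 0 ∧ z₂ = 0) (P : Sylow 2 ↥(alternatingGroup (Fin 8))) (Q : Sylow 2 (Cfsg.PSp 2 F)) (P' : Sylow 2 (Equiv.Perm (Fin 8))) (Q' : Sylow 2 ↥(Cfsg.isometryGroup K (Cfsg.quadFormMinus 2 K a b))) : Nonempty (↥(P : Subgroup ↥(alternatingGroup (Fin 8))) ≃* ↥(Q : Subgroup (Cfsg.PSp 2 F))) ∧ Nonempty (↥(P' : Subgroup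 (Equiv.Perm (Fin 8))) ≃* ↥(Q' : Subgroup ↥(Cfsg.isometryGroup K (Cfsg.quadFormMinus 2 K a b)))) := by
  exact ⟨part1 F hF P Q, part2 K hK a b hab P' Q'⟩

end Cfsg.Agent.S2931
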