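import Cfsg.Statements.S2933
import Cfsg.Agent.Lib.helper26.Suz64b

set_option autoImplicit false
open Cfsg

namespace Cfsg.Agent.S2933

open Cfsg.Agent.Lib.helper26

/-- Let T be a 2-subgroup of a finite group G, V ≤ Z(T) a four-group, and t, ρ ∈ N_G(V) ∩ N_G(T) elements of order 2 and 3 with t commuting with ρ and with V. If [V, ρ] = V and C_T(t) = V, then T is elementary abelian of order 16, or homocyclic of rank 2 (ℤ/2ⁿ × ℤ/2ⁿ for some n ≥ 1), or isomorphic to a Sylow 2-subgroup of PSL₃(4) or of PSU₃(4). -/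
theorem result {G : Type*} [Group G] [Finite G] (T V : Subgroup G) (hT : IsPGroup 2 ↥T) (hVT : V ≤ T ⊓ Subgroup.centralizer (T : Set G)) (hV : Nat.card ↥V = 4 ∧ ∀ v ∈ V, v ^ 2 = 1) (t ρ : G) (ht : orderOf t = 2) (hρ : orderOf ρ = 3) (htn : t ∈ Subgroup.normalizer (V : Set G) ⊓ Subgroup.normalizer (T : Set G)) (hρn : ρ ∈ Subgroup.normalizer (V : Set G) ⊓ Subgroup.normalizer (T : Set G)) (htρ : t * ρ = ρ * t) (htV : t ∈ Subgroup.centralizer (V : Set G)) (hVρ : ⁅V, Subgroup.zpowers ρ⁆ = V) (hCt : T ⊓ Subgroup.centralizer ({t} : Set G) = V) : (Nat.card ↥T = 16 ∧ ∀ x ∈ T, x ^ 2 = 1) ∨ (∃ n : ℕ, 1 ≤ n ∧ Nonempty (↥T ≃* Multiplicative (ZMod (2 ^ n)) × Multiplicative (ZMod (2 ^ n)))) ∨ (∃ (F : Type) (_ : Field F) (_ : Fintype F), Fintype.card F = 4 ∧ ∀ P : Sylow 2 (Matrix.ProjectiveSpecialLinearGroup (Fin 3) F), Nonempty (↥T ≃* ↥(P : Subgroup (Matrix.ProjectiveSpecialLinearGroup (Fin 3) F)))) ∨ (∃ (F : Type) (_ : Field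 F) (_ : Fintype F), Fintype.card F = 16 ∧ ∀ P : Sylow 2 (Cfsg.PSU 3 F 4), Nonempty (↥T ≃* ↥(P : Subgroup (Cfsg.PSU 3 F 4)))) := by
  classical
  obtain ⟨hV4, hVexp⟩ := hV
  have hρ3 : ρ ^ 3 = 1 := by rw [← hρ]; exact pow_orderOf_eq_one ρ
  have ht2 : t ^ 2 = 1 := by rw [← ht]; exact pow_orderOf_eq_one t
  have hρ3' : ρ * ρ * ρ = 1 := by rw [← pow_three', hρ3]
  have ht2' : t * t = 1 := by rw [← pow_two, ht2]
  have hVleT : V ≤ T := hVT.trans inf_le_left
  have hρ'c : ∀ x : ↥T, ((Fix2.conjAut T ρ hρn.2 x : ↥T) : G) = ρ * x * ρ⁻¹ := fun x => rfl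
  have ht'c : ∀ x : ↥T, ((Fix2.conjAut T t htn.2 x : ↥T) : G) = t * x * t⁻¹ := fun x => rfl
  have hcube : ∀ y : ↥T, Fix2.conjAut T ρ hρn.2 (Fix2.conjAut T ρ hρn.2
      (Fix2.conjAut T ρ hρn.2 y)) = y := by
    intro y
    apply Subtype.ext
    rw [hρ'c, hρ'c, hρ'c]
    have e : ρ * (ρ * (ρ * (y : G) * ρ⁻¹) * ρ⁻¹) * ρ⁻¹ = (ρ * ρ * ρ) * y * (ρ * ρ * ρ)⁻¹ := by
      group
    rw [e, hρ3']; group
  have hinvol : ∀ x : ↥T, Fix2.conjAut T t htn.2 (Fix2.conjAut T t htn.2 x) = x := by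
    intro x
    apply Subtype.ext
    rw [ht'c, ht'c]
    have e : t * (t * (x : G) * t⁻¹) * t⁻¹ = (t * t) * x * (t * t)⁻¹ := by group
    rw [e, ht2']; group
  have hcomm : ∀ x : ↥T, Fix2.conjAut T t htn.2 (Fix2.conjAut T ρ hρn.2 x) =
      Fix2.conjAut T ρ hρn.2 (Fix2.conjAut T t htn.2 x) := by
    intro x
    apply Subtype.ext
    rw [ht'c, hρ'c, hρ'c, ht'c]
    have e1 : t * (ρ * (x : G) * ρ⁻¹) * t⁻¹ = (t * ρ) * x * (t * ρ)⁻¹ := by group
    have e2 : ρ * (t * (x : G) * t⁻¹) * ρ⁻¹ = (ρ * t) * x * (ρ * t)⁻¹ := by group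
    rw [e1, e2, htρ]
  have hfixV : ∀ x : ↥T, Fix2.conjAut T t htn.2 x = x → (x : G) ∈ V := by
    intro x hx
    rw [← hCt]
    refine Subgroup.mem_inf.mpr ⟨x.2, ?_⟩
    rw [Subgroup.mem_centralizer_iff]
    intro g hg
    rw [Set.mem_singleton_iff] at hg
    rw [hg]
    have h1 : t * (x : G) * t⁻¹ = x := by rw [← ht'c, hx]
    calc t * (x : G) = (t * x * t⁻¹) * t := by group
      _ = x * t := by rw [h1]
  have hfix : Nat.card {x : ↥T // Fix2.conjAut T t htn.2 x = x} ≤ 4 := by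
    rw [← hV4]
    exact Nat.card_le_card_of_injective
      (fun x : {x : ↥T // Fix2.conjAut T t htn.2 x = x} =>
        (⟨(x.1 : G), hfixV x.1 x.2⟩ : ↥V))
      (by
        intro x y hxy
        have h : ((x.1 : ↥T) : G) = ((y.1 : ↥T) : G) := congrArg (fun z : ↥V => (z : G)) hxy
        exact Subtype.ext (Subtype.ext h))
  have hfp : ∀ y : ↥T, Fix2.conjAut T ρ hρn.2 y = y → y = 1 := by
    intro y hy
    by_contra hy1
    obtain ⟨c, hcK, hc1, hct⟩ := Fix2.exists_fixed_ne_one hT (Fix2.conjAut T t htn.2) hinvol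
      (Fix2.W (Fix2.conjAut T ρ hρn.2))
      (by
        intro z hz
        rw [Fix2.mem_W] at hz ⊢
        rw [← hcomm, hz]) (show y ∈ Fix2.W (Fix2.conjAut T ρ hρn.2) from hy) hy1
    have hcV : (c : G) ∈ V := hfixV c hct
    have hcρ : ρ * (c : G) * ρ⁻¹ = c := by
      rw [← hρ'c, show Fix2.conjAut T ρ hρn.2 c = c from hcK]
    have hcG1 : (c : G) ≠ 1 := fun h => hc1 (Subtype.ext h)
    have hcc : (c : G) * c = 1 := by rw [← pow_two]; exact hVexp _ hcV
    have hcent : ∀ v ∈ V, ρ * v * ρ⁻¹ = v := by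
      intro v hv
      by_cases hv1 : v = 1
      · rw [hv1]; group
      by_cases hvc : v = c
      · rw [hvc]; exact hcρ
      have hyV : ρ * v * ρ⁻¹ ∈ V := (Subgroup.mem_normalizer_iff.mp hρn.1 v).mp hv
      rcases Fix2.four_cases V hV4 hVexp hcV hv hcG1 hv1 hvc hyV with h | h | h | h
      · exfalso; apply hv1
        have e : v = ρ⁻¹ * (ρ * v * ρ⁻¹) * ρ := by group
        rw [e, h]; group
      · exfalso; apply hvc
        have e1 : v = ρ⁻¹ * (c : G) * ρ := by rw [← h]; group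
        have e2 : (c : G) = ρ⁻¹ * (c : G) * ρ := by
          conv_rhs => rw [← hcρ]
          group
        exact e1.trans e2.symm
      · exact h
      · exfalso; apply hcG1
        have h3 : ρ * (ρ * (ρ * v * ρ⁻¹) * ρ⁻¹) * ρ⁻¹ = v := by
          have e : ρ * (ρ * (ρ * v * ρ⁻¹) * ρ⁻¹) * ρ⁻¹ = (ρ * ρ * ρ) * v * (ρ * ρ * ρ)⁻¹ := by
            group
          rw [e, hρ3']; group
        have h2 : ρ * ((c : G) * v) * ρ⁻¹ = v := by
          have e : ρ * ((c : G) * v) * ρ⁻¹ = (ρ * c * ρ⁻¹) * (ρ * v * ρ⁻¹) := by group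
          rw [e, hcρ, h, ← mul_assoc, hcc, one_mul]
        rw [h, h2, h] at h3
        exact mul_right_cancel (by rw [h3, one_mul] : (c : G) * v = 1 * v)
    have hle : V ≤ Subgroup.centralizer (Subgroup.zpowers ρ : Set G) := by
      intro v hv
      rw [Subgroup.mem_centralizer_iff]
      intro h hh
      obtain ⟨k, rfl⟩ := Subgroup.mem_zpowers_iff.mp hh
      have hc : Commute ρ v := by
        show ρ * v = v * ρ
        have := hcent v hv
        calc ρ * v = (ρ * v * ρ⁻¹) * ρ := by group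
          _ = v * ρ := by rw [this]
      exact (hc.zpow_left k).eq
    have hbot := Subgroup.commutator_eq_bot_iff_le_centralizer.mpr hle
    rw [hVρ] at hbot
    rw [hbot, Subgroup.card_bot] at hV4
    omega
  have h : Fix2.Hyp2 (Fix2.conjAut T ρ hρn.2) (Fix2.conjAut T t htn.2) :=
    ⟨⟨hcube, hfp⟩, hinvol, hcomm, hT, hfix⟩
  by_cases hab : ∀ a b : ↥T, a * b = b * a
  · rcases Fix2.abelian_class h hab with ⟨h16, hexp⟩ | ⟨n, ⟨e⟩⟩
    · left
      refine ⟨h16, fun x hx => ?_⟩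
      have := congrArg Subtype.val (hexp ⟨x, hx⟩)
      simpa using this
    · right; left
      refine ⟨n, ?_, ⟨e⟩⟩
      by_contra hn
      have hn0 : n = 0 := by omega
      subst hn0
      have h1 : Nat.card ↥T = 1 := by
        rw [Nat.card_congr e.toEquiv]
        simp
      have h4 := Subgroup.card_le_of_le hVleT
      omega
  · have h64 := Fix2.card_of_nonabelian h hab
    have H : S64.Hyp64 (Fix2.conjAut T ρ hρn.2) := ⟨h.hyp, h64, hab⟩
    rcases S64.hyp64_cases H with ⟨⟨e⟩⟩ | hinv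
    · right; right; left
      exact S64.heis_sylow_PSL e
    · right; right; right
      exact S64.suz_sylow_PSU H hinv

end Cfsg.Agent.S2933
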