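import Cfsg.Statements.S2934
import Cfsg.Agent.Lib.helper97.OneInvMain
import Cfsg.Agent.Lib.helper3.PGroupFrattini
import Cfsg.Agent.Lib.helper3.PGroupNormal

set_option autoImplicit false
open Cfsg

namespace Cfsg.Agent.S2934

open Cfsg.Agent.Lib.helper97
open scoped commutatorElement

/-- Let p be an odd prime, W a finite 2-group and E a non-cyclic abelian p-subgroup of Aut(W) such that, for every nontrivial e ∈ E, the fixed points of e in W contain at most one involution. Then E has order 9, W is extraspecial of order 2⁵, 2⁷ or 2⁹, and the common fixed points of E in W form exactly the centre Z(W). -/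
theorem result {W : Type*} [Group W] [Finite W] (hW : IsPGroup 2 W) {p : ℕ} [Fact p.Prime] (hp : p ≠ 2) (E : Subgroup (MulAut W)) (hE : IsPGroup p ↥E) (hab : IsMulCommutative ↥E) (hnc : ¬ IsCyclic ↥E) (hfix : ∀ e ∈ E, e ≠ 1 → ∀ x y : W, orderOf x = 2 → orderOf y = 2 → e x = x → e y = y → x = y) : Nat.card ↥E = 9 ∧ Cfsg.IsExtraspecial 2 W ∧ (Nat.card W = 2 ^ 5 ∨ Nat.card W = 2 ^ 7 ∨ Nat.card W = 2 ^ 9) ∧ {x : W | ∀ e ∈ E, e x = x} = (Subgroup.center W : Set W) := by
  classical
  obtain ⟨φ, hφ⟩ : ∃ φ : ↥E →* MulAut W, φ = E.subtype := ⟨_, rfl⟩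
  have hφa : ∀ (e : ↥E) (x : W), φ e x = (e : MulAut W) x := by
    intro e x
    rw [hφ]
    rfl
  have hfin : Finite (SemidirectProduct W ↥E φ) :=
    Finite.of_equiv _ (SemidirectProduct.equivProd).symm
  have hinl : Function.Injective (SemidirectProduct.inl : W →* SemidirectProduct W ↥E φ) :=
    SemidirectProduct.inl_injective
  have hinr : Function.Injective (SemidirectProduct.inr : ↥E →* SemidirectProduct W ↥E φ) :=
    SemidirectProduct.inr_injective
  have hconj : ∀ (e : ↥E) (x : W),
      (SemidirectProduct.inr e : SemidirectProduct W ↥E φ) * SemidirectProduct.inl x *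
        (SemidirectProduct.inr e)⁻¹ = SemidirectProduct.inl ((e : MulAut W) x) := by
    intro e x
    have := SemidirectProduct.inl_aut (φ := φ) e x
    rw [map_inv] at this
    rw [← this, hφa]
  obtain ⟨Wt, hWt⟩ : ∃ Wt : Subgroup (SemidirectProduct W ↥E φ),
      Wt = (SemidirectProduct.inl : W →* SemidirectProduct W ↥E φ).range := ⟨_, rfl⟩
  obtain ⟨Et, hEt⟩ : ∃ Et : Subgroup (SemidirectProduct W ↥E φ),
      Et = (SemidirectProduct.inr : ↥E →* SemidirectProduct W ↥E φ).range := ⟨_, rfl⟩
  have hWtmem : ∀ g, g ∈ Wt ↔ ∃ x : W, SemidirectProduct.inl x = g := by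
    intro g
    rw [hWt]
    exact MonoidHom.mem_range
  have hEtmem : ∀ g, g ∈ Et ↔ ∃ e : ↥E, SemidirectProduct.inr e = g := by
    intro g
    rw [hEt]
    exact MonoidHom.mem_range
  have hyp : OIHyp Wt Et p := by
    refine ⟨?_, ?_, ?_, ?_, ?_, ?_⟩
    · rw [hWt]
      exact hW.of_surjective _ (MonoidHom.rangeRestrict_surjective _)
    · rw [hEt]
      exact hE.of_surjective _ (MonoidHom.rangeRestrict_surjective _)
    · intro a ha b hb
      obtain ⟨e, rfl⟩ := (hEtmem a).1 ha
      obtain ⟨e', rfl⟩ := (hEtmem b).1 hb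
      rw [← map_mul, ← map_mul, hab.is_comm.comm e e']
    · intro a ha w hw
      obtain ⟨e, rfl⟩ := (hEtmem a).1 ha
      obtain ⟨x, rfl⟩ := (hWtmem w).1 hw
      rw [hconj]
      exact (hWtmem _).2 ⟨_, rfl⟩
    · intro a ha hall
      obtain ⟨e, rfl⟩ := (hEtmem a).1 ha
      have he : (e : MulAut W) = 1 := by
        apply MulEquiv.ext
        intro x
        have := hall (SemidirectProduct.inl x) ((hWtmem _).2 ⟨x, rfl⟩)
        rw [hconj] at this
        rw [MulAut.one_apply]
        exact hinl this
      have he' : e = 1 := Subtype.ext he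
      rw [he', map_one]
    · intro a ha ha1 x hx y hy hox hoy hax hay
      obtain ⟨e, rfl⟩ := (hEtmem a).1 ha
      obtain ⟨x, rfl⟩ := (hWtmem x).1 hx
      obtain ⟨y, rfl⟩ := (hWtmem y).1 hy
      have he1 : (e : MulAut W) ≠ 1 := by
        intro e0
        apply ha1
        have : e = 1 := Subtype.ext e0
        rw [this, map_one]
      rw [hconj] at hax hay
      rw [orderOf_injective _ hinl] at hox hoy
      rw [hfix e e.2 he1 x y hox hoy (hinl hax) (hinl hay)]
  have hcyc : ¬ IsCyclic Et := by
    intro hc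
    apply hnc
    have e1 : ↥E ≃* ↥Et := by
      rw [hEt]
      exact MonoidHom.ofInjective hinr
    exact isCyclic_of_surjective e1.symm e1.symm.surjective
  obtain ⟨hcE, hcW, zt, hzt, hord, hzcen, hcent, htw, hsq, hnc', hfixE, hzE⟩ :=
    hyp.main hp hcyc
  obtain ⟨z, rfl⟩ := (hWtmem zt).1 hzt
  have hoz : orderOf z = 2 := by
    rw [← orderOf_injective (SemidirectProduct.inl : W →* SemidirectProduct W ↥E φ) hinl]
    exact hord
  have hz2 : z * z = 1 := by
    have h2 := pow_orderOf_eq_one z
    rw [hoz, pow_two] at h2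
    exact h2
  have hzc : ∀ w : W, w * z = z * w := by
    intro w
    apply hinl
    rw [map_mul, map_mul]
    exact hzcen _ ((hWtmem _).2 ⟨w, rfl⟩)
  have hcen : ∀ x : W, (∀ y : W, x * y = y * x) → x = 1 ∨ x = z := by
    intro x hx
    have := hcent (SemidirectProduct.inl x) ((hWtmem _).2 ⟨x, rfl⟩) (by
      intro y hy
      obtain ⟨y, rfl⟩ := (hWtmem y).1 hy
      rw [← map_mul, ← map_mul, hx y])
    rcases this with e0 | e0
    · left
      apply hinl
      rw [e0, map_one]
    · right
      exact hinl e0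
  have htw' : ∀ x y : W, x * y * x⁻¹ = y ∨ x * y * x⁻¹ = y * z := by
    intro x y
    rcases htw (SemidirectProduct.inl x) ((hWtmem _).2 ⟨x, rfl⟩) (SemidirectProduct.inl y)
      ((hWtmem _).2 ⟨y, rfl⟩) with e0 | e0
    · left
      apply hinl
      rw [map_mul, map_mul, map_inv]
      exact e0
    · right
      apply hinl
      rw [map_mul, map_mul, map_inv, map_mul]
      exact e0
  have hsq' : ∀ x : W, x * x = 1 ∨ x * x = z := by
    intro x
    rcases hsq (SemidirectProduct.inl x) ((hWtmem _).2 ⟨x, rfl⟩) with e0 | e0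
    · left
      apply hinl
      rw [map_mul, map_one]
      exact e0
    · right
      apply hinl
      rw [map_mul]
      exact e0
  have hncW : ∃ x y : W, x * y ≠ y * x := by
    obtain ⟨x, hx, y, hy, hxy⟩ := hnc'
    obtain ⟨x, rfl⟩ := (hWtmem x).1 hx
    obtain ⟨y, rfl⟩ := (hWtmem y).1 hy
    refine ⟨x, y, fun e0 => hxy ?_⟩
    rw [← map_mul, ← map_mul, e0]
  have hcenter : ∀ x : W, x ∈ Subgroup.center W ↔ x = 1 ∨ x = z := by
    intro x
    rw [Subgroup.mem_center_iff]
    constructor
    · intro hx
      exact hcen x (fun y => (hx y).symm)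
    · intro hx g
      rcases hx with e0 | e0
      · rw [e0, mul_one, one_mul]
      · rw [e0]
        exact hzc g
  have hcenter_eq : Subgroup.center W = Subgroup.zpowers z := by
    ext x
    rw [hcenter, mem_zpowers_two hz2]
  have hcard_center : Nat.card (Subgroup.center W) = 2 := by
    rw [hcenter_eq, Nat.card_zpowers, hoz]
  have hcomm_elt : ∀ x y : W, ⁅x, y⁆ = 1 ∨ ⁅x, y⁆ = z := by
    intro x y
    rw [commutatorElement_def]
    rcases htw' x y with e0 | e0
    · left
      rw [e0, mul_inv_cancel]
    · right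
      rw [e0, hzc y, mul_assoc, mul_inv_cancel, mul_one]
  have hcomm_le : commutator W ≤ Subgroup.center W := by
    rw [commutator_eq_closure, Subgroup.closure_le]
    rintro g ⟨x, y, rfl⟩
    exact (hcenter _).2 (hcomm_elt x y)
  have hcenter_le : Subgroup.center W ≤ commutator W := by
    rw [hcenter_eq, Subgroup.zpowers_le]
    obtain ⟨x, y, hxy⟩ := hncW
    have hmem : ⁅x, y⁆ ∈ commutator W := by
      rw [commutator_def]
      exact Subgroup.commutator_mem_commutator (Subgroup.mem_top x) (Subgroup.mem_top y)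
    rcases hcomm_elt x y with e0 | e0
    · exfalso
      apply hxy
      exact commutatorElement_eq_one_iff_mul_comm.1 e0
    · rw [← e0]
      exact hmem
  have hcomm_eq : commutator W = Subgroup.center W := le_antisymm hcomm_le hcenter_le
  have hfrat : frattini W = Subgroup.center W := by
    apply le_antisymm
    · apply Cfsg.Agent.Lib.helper3.frattini_le_of_pow_mem_of_commutator_le (p := 2) _ _ hcomm_le
      intro x
      rw [pow_two, hcenter]
      exact hsq' x
    · rw [← hcomm_eq]
      exact Cfsg.Agent.Lib.helper3.commutator_le_frattini hW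
  refine ⟨?_, ⟨⟨hW, hfrat, hcomm_eq⟩, hcard_center⟩, ?_, ?_⟩
  · rw [← hcE, hEt]
    exact Nat.card_congr (MonoidHom.ofInjective hinr).toEquiv
  · have : Nat.card W = Nat.card Wt := by
      rw [hWt]
      exact Nat.card_congr (MonoidHom.ofInjective hinl).toEquiv
    rw [this]
    exact hcW
  · ext x
    show (∀ e ∈ E, e x = x) ↔ x ∈ Subgroup.center W
    rw [hcenter]
    constructor
    · intro hx
      have := hfixE (SemidirectProduct.inl x) ((hWtmem _).2 ⟨x, rfl⟩) (by
        intro a ha
        obtain ⟨e, rfl⟩ := (hEtmem a).1 ha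
        rw [hconj, hx e e.2])
      rcases this with e0 | e0
      · left
        apply hinl
        rw [e0, map_one]
      · right
        exact hinl e0
    · intro hx e he
      rcases hx with e0 | e0
      · rw [e0]
        exact map_one e
      · rw [e0]
        have := hzE (SemidirectProduct.inr ⟨e, he⟩) ((hEtmem _).2 ⟨_, rfl⟩)
        rw [hconj] at this
        exact hinl this

end Cfsg.Agent.S2934
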