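import Cfsg.Statements.S2939
import Mathlib
-- import your own Cfsg.Agent.* helpers here

set_option autoImplicit false
open Cfsg

namespace Cfsg.Agent.S2939


variable {G : Type*} [Group G]

theorem mem_cr {g y : G} {X : Subgroup G} :
    y ∈ Cfsg.subgroupConjRight g X ↔ g * y * g⁻¹ ∈ X := by
  unfold Cfsg.subgroupConjRight
  rw [Subgroup.mem_map]
  constructor
  · rintro ⟨z, hz, rfl⟩
    simpa [mul_assoc] using hz
  · intro h
    exact ⟨g * y * g⁻¹, h, by simp [mul_assoc]⟩

theorem cr_mul (g h : G) (X : Subgroup G) :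
    Cfsg.subgroupConjRight (g * h) X = Cfsg.subgroupConjRight h (Cfsg.subgroupConjRight g X) := by
  ext y
  rw [mem_cr, mem_cr, mem_cr]
  simp [mul_assoc]

theorem cr_one (X : Subgroup G) : Cfsg.subgroupConjRight 1 X = X := by
  ext y
  rw [mem_cr]
  simp

theorem cr_inv_cr (g : G) (X : Subgroup G) :
    Cfsg.subgroupConjRight g⁻¹ (Cfsg.subgroupConjRight g X) = X := by
  rw [← cr_mul, mul_inv_cancel, cr_one]

theorem cr_cr_inv (g : G) (X : Subgroup G) :
    Cfsg.subgroupConjRight g (Cfsg.subgroupConjRight g⁻¹ X) = X := by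
  rw [← cr_mul, inv_mul_cancel, cr_one]

theorem cr_of_mem {x : G} {X : Subgroup G} (hx : x ∈ X) : Cfsg.subgroupConjRight x X = X := by
  ext y
  rw [mem_cr]
  constructor
  · intro h
    have := X.mul_mem (X.mul_mem (X.inv_mem hx) h) hx
    simpa [mul_assoc] using this
  · intro h
    exact X.mul_mem (X.mul_mem hx h) (X.inv_mem hx)

theorem cr_inf (g : G) (X Y : Subgroup G) :
    Cfsg.subgroupConjRight g (X ⊓ Y) = Cfsg.subgroupConjRight g X ⊓ Cfsg.subgroupConjRight g Y := by
  ext y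
  simp only [mem_cr, Subgroup.mem_inf]

theorem card_cr (g : G) (X : Subgroup G) :
    Nat.card ↥(Cfsg.subgroupConjRight g X) = Nat.card ↥X := by
  unfold Cfsg.subgroupConjRight
  exact (Nat.card_congr (X.equivMapOfInjective _ (MulAut.conj g⁻¹).injective).toEquiv).symm

theorem mem_normalizer_of_cr {y : G} {S : Subgroup G} (h : Cfsg.subgroupConjRight y S = S) :
    y ∈ Subgroup.normalizer (S : Set G) := by
  rw [Subgroup.mem_normalizer_iff]
  intro z
  constructor
  · intro hz
    rw [← h] at hz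
    exact mem_cr.1 hz
  · intro hz
    rw [← h]
    exact mem_cr.2 hz

theorem mem_conjRight {g y : G} {A : Set G} : y ∈ Cfsg.conjRight g A ↔ g * y * g⁻¹ ∈ A := by
  unfold Cfsg.conjRight
  constructor
  · rintro ⟨z, hz, rfl⟩
    simpa [mul_assoc] using hz
  · intro h
    exact ⟨g * y * g⁻¹, h, by simp [mul_assoc]⟩

theorem mem_sylowMembers_iff [Finite G] {p : ℕ} [Fact p.Prime] {𝓕 : Set (Subgroup G)}
    {S X : Subgroup G} :
    X ∈ Cfsg.sylowMembers p 𝓕 S ↔
      X ∈ 𝓕 ∧ Nat.card ↥(S ⊓ X) = p ^ (Nat.card ↥X).factorization p := by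
  unfold Cfsg.sylowMembers
  simp only [Set.mem_ofPred_eq]
  constructor
  · rintro ⟨hX, P, hP⟩
    refine ⟨hX, ?_⟩
    rw [← hP, ← P.card_eq_multiplicity]
    exact (Nat.card_congr ((P : Subgroup ↥X).equivMapOfInjective _ X.subtype_injective).toEquiv).symm
  · rintro ⟨hX, hc⟩
    refine ⟨hX, ?_⟩
    have hle : S ⊓ X ≤ X := inf_le_right
    have hc' : Nat.card ↥((S ⊓ X).subgroupOf X) = p ^ (Nat.card ↥X).factorization p := by
      rw [← hc]
      exact Nat.card_congr (Subgroup.subgroupOfEquivOfLe hle).toEquiv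
    refine ⟨Sylow.ofCard ((S ⊓ X).subgroupOf X) hc', ?_⟩
    rw [Sylow.coe_ofCard, Subgroup.subgroupOf_map_subtype]
    exact inf_eq_left.2 hle

theorem sylowMembers_cr [Finite G] {p : ℕ} [Fact p.Prime] {𝓕 : Set (Subgroup G)}
    (h𝓕 : Cfsg.IsNormalSet 𝓕) {S X : Subgroup G} (h : X ∈ Cfsg.sylowMembers p 𝓕 S) (g : G) :
    Cfsg.subgroupConjRight g X ∈ Cfsg.sylowMembers p 𝓕 (Cfsg.subgroupConjRight g S) := by
  rw [mem_sylowMembers_iff] at h ⊢
  refine ⟨h𝓕 X h.1 g, ?_⟩
  rw [← cr_inf, card_cr, card_cr]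
  exact h.2

theorem sylow_smul_coe {p : ℕ} (g : G) (S : Sylow p G) :
    ((g • S : Sylow p G) : Subgroup G) = Cfsg.subgroupConjRight g⁻¹ (S : Subgroup G) := by
  ext y
  rw [mem_cr, Sylow.coe_subgroup_smul, Subgroup.mem_pointwise_smul_iff_inv_smul_mem]
  simp [MulAut.smul_def, mul_assoc]

/-- extension by `1` of a `Fin n`-indexed family -/
def ext' {n : ℕ} (x : Fin n → G) (k : ℕ) : G := if h : k < n then x ⟨k, h⟩ else 1

theorem ext'_apply {n : ℕ} (x : Fin n → G) (i : Fin n) : ext' x i = x i := by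
  simp [ext']

/-- partial products -/
def pr (f : ℕ → G) (k : ℕ) : G := ((List.range k).map f).prod

theorem pr_zero (f : ℕ → G) : pr f 0 = 1 := by simp [pr]

theorem pr_succ (f : ℕ → G) (k : ℕ) : pr f (k + 1) = pr f k * f k := by
  simp [pr, List.range_succ]

theorem ofFn_nat (f : ℕ → G) (n : ℕ) :
    List.ofFn (fun i : Fin n => f i) = (List.range n).map f := by
  apply List.ext_getElem
  · simp
  · intro i h1 h2
    simp

theorem ofFn_prod (f : ℕ → G) (n : ℕ) : (List.ofFn (fun i : Fin n => f i)).prod = pr f n := by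
  rw [ofFn_nat]; rfl

theorem ofFn_take_prod (f : ℕ → G) (n : ℕ) (i : Fin n) :
    ((List.ofFn (fun i : Fin n => f i)).take (i.val + 1)).prod = pr f (i.val + 1) := by
  rw [ofFn_nat, ← List.map_take, List.take_range, min_eq_left (by omega)]
  rfl

/-- reversed products `x_{k-1} ⋯ x_0` -/
def uu (x : ℕ → G) : ℕ → G
  | 0 => 1
  | (k + 1) => x k * uu x k

theorem pr_uu (x : ℕ → G) (k : ℕ) :
    pr (fun j => (uu x j)⁻¹ * x j * uu x j) k = uu x k := by
  induction k with
  | zero => simp [pr_zero, uu]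
  | succ k ih =>
    rw [pr_succ, ih]
    simp [uu, mul_assoc]

theorem forward [Finite G] {p : ℕ} [Fact p.Prime] (𝓕 : Set (Subgroup G))
    (h𝓕 : Cfsg.IsNormalSet 𝓕) (h : Cfsg.ControlsSylowIntersections p 𝓕) :
    Cfsg.FamilyStronglyControlsFusion p 𝓕 := by
  intro S A g hA hne hAg
  have hTcoe : ((g • S : Sylow p G) : Subgroup G)
      = Cfsg.subgroupConjRight g⁻¹ (S : Subgroup G) := sylow_smul_coe g S
  have hAT : ∀ a ∈ A, a ∈ ((g • S : Sylow p G) : Subgroup G) := by
    intro a ha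
    have h1 : g⁻¹ * a * g ∈ (S : Subgroup G) :=
      hAg (by rw [mem_conjRight]; simpa [mul_assoc] using ha)
    rw [hTcoe, mem_cr, inv_inv]
    exact h1
  have hcrT : Cfsg.subgroupConjRight g ((g • S : Sylow p G) : Subgroup G) = (S : Subgroup G) := by
    rw [hTcoe, cr_cr_inv]
  by_cases hST : S = g • S
  · refine ⟨0, Fin.elim0, Fin.elim0, g, ?_, fun i => i.elim0, ?_, fun i => i.elim0⟩
    · apply mem_normalizer_of_cr
      rw [← hST] at hcrT
      exact hcrT
    · simp
  · have hne' : (S : Subgroup G) ⊓ ((g • S : Sylow p G) : Subgroup G) ≠ ⊥ := by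
      obtain ⟨a, ha, ha1⟩ := hne
      intro hbot
      have : a ∈ (S : Subgroup G) ⊓ ((g • S : Sylow p G) : Subgroup G) := ⟨hA ha, hAT a ha⟩
      rw [hbot, Subgroup.mem_bot] at this
      exact ha1 this
    obtain ⟨n, c, X, x, hc0, hcn, hstep⟩ := h S (g • S) hST hne'
    have hclaim : ∀ k (hk : k < n + 1),
        Cfsg.subgroupConjRight (uu (ext' x) k) (c ⟨k, hk⟩ : Subgroup G) = (S : Subgroup G) := by
      intro k
      induction k with
      | zero =>
        intro hk
        show Cfsg.subgroupConjRight 1 _ = _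
        rw [cr_one]
        exact congrArg (fun P : Sylow p G => (P : Subgroup G)) hc0
      | succ k ih =>
        intro hk
        have hk' : k < n := by omega
        have h4 := (hstep ⟨k, hk'⟩).2.2.2.1
        show Cfsg.subgroupConjRight (ext' x k * uu (ext' x) k) _ = _
        rw [cr_mul]
        have hxk : ext' x k = x ⟨k, hk'⟩ := by simp [ext', hk']
        rw [hxk]
        have : (c ⟨k + 1, hk⟩ : Subgroup G) = (c (Fin.succ ⟨k, hk'⟩) : Subgroup G) := rfl
        rw [this, h4]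
        exact ih (by omega)
    have hprod : (List.ofFn (fun i : Fin n =>
        (uu (ext' x) i)⁻¹ * ext' x i * uu (ext' x) i)).prod = uu (ext' x) n := by
      rw [ofFn_prod (fun j => (uu (ext' x) j)⁻¹ * ext' x j * uu (ext' x) j) n, pr_uu]
    have htake : ∀ i : Fin n, ((List.ofFn (fun i : Fin n =>
        (uu (ext' x) i)⁻¹ * ext' x i * uu (ext' x) i)).take (i.val + 1)).prod
          = uu (ext' x) (i.val + 1) := by
      intro i
      rw [ofFn_take_prod (fun j => (uu (ext' x) j)⁻¹ * ext' x j * uu (ext' x) j) n i, pr_uu]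
    refine ⟨n, fun i => Cfsg.subgroupConjRight (uu (ext' x) i) (X i),
      fun i => (uu (ext' x) i)⁻¹ * ext' x i * uu (ext' x) i, (uu (ext' x) n)⁻¹ * g, ?_, ?_, ?_, ?_⟩
    · -- y₀ normalizes S
      apply mem_normalizer_of_cr
      rw [cr_mul]
      have h1 := hclaim n (by omega)
      have h2 : (c ⟨n, by omega⟩ : Subgroup G) = ((g • S : Sylow p G) : Subgroup G) :=
        congrArg (fun P : Sylow p G => (P : Subgroup G)) hcn
      rw [h2] at h1
      rw [← h1, cr_inv_cr, hcrT]
      exact h1.symm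
    · intro i
      constructor
      · have h1 := sylowMembers_cr h𝓕 (hstep i).1 (uu (ext' x) i)
        have h2 := hclaim i (by omega)
        have h3 : (c ⟨i, by omega⟩ : Subgroup G) = (c i.castSucc : Subgroup G) := rfl
        rw [h3] at h2
        rw [h2] at h1
        exact h1
      · rw [mem_cr]
        have : uu (ext' x) ↑i * ((uu (ext' x) ↑i)⁻¹ * ext' x ↑i * uu (ext' x) ↑i) * (uu (ext' x) ↑i)⁻¹
            = x i := by
          rw [ext'_apply]; group
        rw [this]
        exact (hstep i).2.2.1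
    · rw [hprod]; group
    · intro i a' ha'
      rw [htake i, mem_conjRight] at ha'
      have haS : uu (ext' x) (↑i + 1) * a' * (uu (ext' x) (↑i + 1))⁻¹ ∈
          (S : Subgroup G) ⊓ ((g • S : Sylow p G) : Subgroup G) := ⟨hA ha', hAT _ ha'⟩
      have h5 := (hstep i).2.2.2.2 haS
      have hx := (hstep i).2.2.1
      constructor
      · have h2 := hclaim (i + 1) (by omega)
        have h3 : (c ⟨i + 1, by omega⟩ : Subgroup G) = (c i.succ : Subgroup G) := rfl
        rw [h3] at h2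
        show a' ∈ (S : Subgroup G)
        rw [← h2, mem_cr]
        exact h5.1
      · show a' ∈ Cfsg.subgroupConjRight (uu (ext' x) i) (X i)
        rw [mem_cr]
        have h6 := (X i).mul_mem ((X i).mul_mem ((X i).inv_mem hx) h5.2) hx
        have : uu (ext' x) ↑i * a' * (uu (ext' x) ↑i)⁻¹ =
            (x i)⁻¹ * (uu (ext' x) (↑i + 1) * a' * (uu (ext' x) (↑i + 1))⁻¹) * x i := by
          show _ = (x i)⁻¹ * ((ext' x i * uu (ext' x) i) * a' * (ext' x i * uu (ext' x) i)⁻¹) * x i
          rw [ext'_apply]; group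
        rw [this]
        exact h6

theorem backward [Finite G] {p : ℕ} [Fact p.Prime] (𝓕 : Set (Subgroup G))
    (h𝓕 : Cfsg.IsNormalSet 𝓕) (h : Cfsg.FamilyStronglyControlsFusion p 𝓕) :
    Cfsg.ControlsSylowIntersections p 𝓕 := by
  intro S T hST hne
  obtain ⟨g, hg⟩ := MulAction.exists_smul_eq G S T
  have hTcoe : (T : Subgroup G) = Cfsg.subgroupConjRight g⁻¹ (S : Subgroup G) := by
    rw [← hg]; exact sylow_smul_coe g S
  have hA : (((S : Subgroup G) ⊓ (T : Subgroup G) : Subgroup G) : Set G) ⊆ (S : Set G) :=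
    fun a ha => ha.1
  have hne' : ∃ a ∈ (((S : Subgroup G) ⊓ (T : Subgroup G) : Subgroup G) : Set G), a ≠ 1 := by
    by_contra hcon
    push Not at hcon
    apply hne
    rw [Subgroup.eq_bot_iff_forall]
    exact fun a ha => hcon a ha
  have hAg : Cfsg.conjRight g (((S : Subgroup G) ⊓ (T : Subgroup G) : Subgroup G) : Set G)
      ⊆ (S : Set G) := by
    intro a' ha'
    rw [mem_conjRight] at ha'
    have h1 : g * a' * g⁻¹ ∈ (T : Subgroup G) := ha'.2
    rw [hTcoe, mem_cr] at h1
    have h2 : g⁻¹ * (g * a' * g⁻¹) * g⁻¹⁻¹ = a' := by group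
    rw [h2] at h1
    exact h1
  obtain ⟨n, Y, y, y₀, hy₀, hY, hgeq, hstep⟩ := h S _ g hA hne' hAg
  have hyext : y = fun i : Fin n => ext' y i := by funext i; rw [ext'_apply]
  have hprod : (List.ofFn y).prod = pr (ext' y) n := by
    conv_lhs => rw [hyext]
    exact ofFn_prod (ext' y) n
  have htake : ∀ i : Fin n, ((List.ofFn y).take (i.val + 1)).prod = pr (ext' y) (i.val + 1) := by
    intro i
    conv_lhs => rw [hyext]
    exact ofFn_take_prod (ext' y) n i
  have hvsucc : ∀ i : Fin n, pr (ext' y) (i.val + 1) = pr (ext' y) i * y i := by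
    intro i; rw [pr_succ, ext'_apply]
  refine ⟨n, fun k => pr (ext' y) k • S, fun i => Cfsg.subgroupConjRight (pr (ext' y) i)⁻¹ (Y i),
    fun i => pr (ext' y) i * y i * (pr (ext' y) i)⁻¹, ?_, ?_, ?_⟩
  · show pr (ext' y) ((0 : Fin (n + 1)) : ℕ) • S = S
    rw [Fin.val_zero, pr_zero, one_smul]
  · show pr (ext' y) ((Fin.last n : Fin (n + 1)) : ℕ) • S = T
    rw [Fin.val_last, ← hg, hgeq, hprod, mul_smul]
    congr 1
    exact (Sylow.smul_eq_iff_mem_normalizer.2 hy₀).symm
  · intro i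
    have hc1 : ((pr (ext' y) (i.castSucc : Fin (n + 1)) • S : Sylow p G) : Subgroup G)
        = Cfsg.subgroupConjRight (pr (ext' y) i)⁻¹ (S : Subgroup G) := by
      rw [sylow_smul_coe]; rfl
    have hc2 : ((pr (ext' y) (i.succ : Fin (n + 1)) • S : Sylow p G) : Subgroup G)
        = Cfsg.subgroupConjRight (pr (ext' y) (i.val + 1))⁻¹ (S : Subgroup G) := by
      rw [sylow_smul_coe]; rfl
    have hxmem : pr (ext' y) i * y i * (pr (ext' y) i)⁻¹
        ∈ Cfsg.subgroupConjRight (pr (ext' y) i)⁻¹ (Y i) := by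
      rw [mem_cr]
      have h2 : (pr (ext' y) i)⁻¹ * (pr (ext' y) i * y i * (pr (ext' y) i)⁻¹) * (pr (ext' y) i)⁻¹⁻¹
          = y i := by group
      rw [h2]
      exact (hY i).2
    have hconj : Cfsg.subgroupConjRight (pr (ext' y) i * y i * (pr (ext' y) i)⁻¹)
        (Cfsg.subgroupConjRight (pr (ext' y) (i.val + 1))⁻¹ (S : Subgroup G))
          = Cfsg.subgroupConjRight (pr (ext' y) i)⁻¹ (S : Subgroup G) := by
      rw [← cr_mul, hvsucc]
      congr 1
      group
    have hm1 : Cfsg.subgroupConjRight (pr (ext' y) i)⁻¹ (Y i) ∈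
        Cfsg.sylowMembers p 𝓕 (Cfsg.subgroupConjRight (pr (ext' y) i)⁻¹ (S : Subgroup G)) :=
      sylowMembers_cr h𝓕 (hY i).1 _
    refine ⟨?_, ?_, hxmem, ?_, ?_⟩
    · show _ ∈ Cfsg.sylowMembers p 𝓕
        ((pr (ext' y) (i.castSucc : Fin (n + 1)) • S : Sylow p G) : Subgroup G)
      rw [hc1]; exact hm1
    · show _ ∈ Cfsg.sylowMembers p 𝓕
        ((pr (ext' y) (i.succ : Fin (n + 1)) • S : Sylow p G) : Subgroup G)
      rw [hc2]
      have h3 := sylowMembers_cr h𝓕 hm1 (pr (ext' y) i * y i * (pr (ext' y) i)⁻¹)⁻¹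
      rw [cr_of_mem (Subgroup.inv_mem _ hxmem), ← hconj, cr_inv_cr] at h3
      exact h3
    · show Cfsg.subgroupConjRight _
        ((pr (ext' y) (i.succ : Fin (n + 1)) • S : Sylow p G) : Subgroup G)
          = ((pr (ext' y) (i.castSucc : Fin (n + 1)) • S : Sylow p G) : Subgroup G)
      rw [hc2, hc1]; exact hconj
    · intro a ha
      have ha' : (pr (ext' y) (i.val + 1))⁻¹ * a * pr (ext' y) (i.val + 1) ∈
          Cfsg.conjRight (((List.ofFn y).take (i.val + 1)).prod)
            (((S : Subgroup G) ⊓ (T : Subgroup G) : Subgroup G) : Set G) := by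
        rw [htake i, mem_conjRight]
        have h2 : pr (ext' y) (i.val + 1) * ((pr (ext' y) (i.val + 1))⁻¹ * a * pr (ext' y) (i.val + 1))
            * (pr (ext' y) (i.val + 1))⁻¹ = a := by group
        rw [h2]
        exact ha
      have h7 := hstep i ha'
      constructor
      · show a ∈ ((pr (ext' y) (i.succ : Fin (n + 1)) • S : Sylow p G) : Subgroup G)
        rw [hc2, mem_cr, inv_inv]
        exact h7.1
      · show a ∈ Cfsg.subgroupConjRight (pr (ext' y) i)⁻¹ (Y i)
        rw [mem_cr]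
        have h8 := (Y i).mul_mem ((Y i).mul_mem (hY i).2 h7.2) ((Y i).inv_mem (hY i).2)
        have h9 : (pr (ext' y) i)⁻¹ * a * (pr (ext' y) i)⁻¹⁻¹
            = y i * ((pr (ext' y) (i.val + 1))⁻¹ * a * pr (ext' y) (i.val + 1)) * (y i)⁻¹ := by
          rw [hvsucc]; group
        rw [h9]
        exact h8



/-- Let p be a prime dividing the order of the finite group G and 𝓕 a family of subgroups of G closed under conjugation, with conjugates taken as X^g = g⁻¹Xg. Then 𝓕 controls Sylow p-intersections in G (any two distinct Sylow p-subgroups S and T with S ∩ T ≠ 1 are joined by a chain S = S₀, S₁, …, Sₙ = T of Sylow p-subgroups where, for each i, some member Xᵢ of 𝓕 meets both S_{i-1} and Sᵢ in Sylow p-subgroups of Xᵢ, satisfies S ∩ T ≤ Sᵢ ∩ Xᵢ, and contains an element xᵢ with Sᵢ^{xᵢ} = S_{i-1}) if and only if 𝓕 strongly controls p-fusion in G (whenever A is a subset of a Sylow p-subgroup S, A contains an element other than 1, and A^g ⊆ S, the element g factorises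 as g = y₁⋯yₙy with y ∈ N_G(S) and each yᵢ in a member Yᵢ of 𝓕 that meets S in a Sylow p-subgroup of Yᵢ, with A^{y₁⋯yᵢ} ⊆ S ∩ Yᵢ for each i). -/
theorem result {G : Type*} [Group G] [Finite G] {p : ℕ} [Fact p.Prime] (hdiv : p ∣ Nat.card G) (𝓕 : Set (Subgroup G)) (h𝓕 : Cfsg.IsNormalSet 𝓕) : Cfsg.ControlsSylowIntersections p 𝓕 ↔ Cfsg.FamilyStronglyControlsFusion p 𝓕 := by
  exact ⟨forward 𝓕 h𝓕, backward 𝓕 h𝓕⟩

end Cfsg.Agent.S2939
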