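import Cfsg.Statements.S2940
import Cfsg.Agent.Lib.helper55.SylowExtra

set_option autoImplicit false
open Cfsg

namespace Cfsg.Agent.S2940

open Cfsg.Agent.Lib.helper55

/-- Let S be a Sylow p-subgroup of the finite group G and G₁, G₂ subgroups containing S with G = G₁G₂. Then for every g ∈ G there is a Sylow p-subgroup U of G with S ∩ S^g ≤ U ≤ G₁ ∩ G₂^g (conjugates taken as X^g = g⁻¹Xg). -/
theorem result {G : Type*} [Group G] [Finite G] {p : ℕ} [Fact p.Prime] (S : Sylow p G) (G₁ G₂ : Subgroup G) (h1 : (S : Subgroup G) ≤ G₁) (h2 : (S : Subgroup G) ≤ G₂) (hfact : ∀ g : G, ∃ g₁ ∈ G₁, ∃ g₂ ∈ G₂, g = g₁ * g₂) (g : G) : ∃ U : Sylow p G, (S : Subgroup G) ⊓ Cfsg.subgroupConjRight g (S : Subgroup G) ≤ (U : Subgroup G) ∧ (U : Subgroup G) ≤ G₁ ⊓ Cfsg.subgroupConjRight g G₂ := by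
  obtain ⟨a₁, ha₁, a₂, ha₂, hg⟩ := hfact g⁻¹
  have hg' : g = a₂⁻¹ * a₁⁻¹ := by rw [← inv_inv g, hg]; group
  have hmemconj : ∀ (X : Subgroup G) (z : G), z ∈ Cfsg.subgroupConjRight g X ↔ g * z * g⁻¹ ∈ X := by
    intro X z
    unfold Cfsg.subgroupConjRight
    constructor
    · rintro ⟨w, hw, rfl⟩
      simp only [MulEquiv.toMonoidHom_eq_coe, MonoidHom.coe_coe, MulAut.conj_apply, inv_inv]
      have e : g * (g⁻¹ * w * g) * g⁻¹ = w := by group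
      rw [e]; exact hw
    · intro h
      refine ⟨g * z * g⁻¹, h, ?_⟩
      simp only [MulEquiv.toMonoidHom_eq_coe, MonoidHom.coe_coe, MulAut.conj_apply, inv_inv]
      group
  obtain ⟨H, hH⟩ : ∃ H : Subgroup G, H = G₁ ⊓ Cfsg.subgroupConjRight g G₂ := ⟨_, rfl⟩
  rw [← hH]
  have hS'H : ((a₁ • S : Sylow p G) : Subgroup G) ≤ H := by
    intro z hz
    have hz' : a₁⁻¹ * z * a₁ ∈ (S : Subgroup G) := (mem_sylow_smul_iff S a₁ z).mp hz
    rw [hH]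
    refine Subgroup.mem_inf.mpr ⟨?_, ?_⟩
    · have h3 := G₁.mul_mem (G₁.mul_mem ha₁ (h1 hz')) (G₁.inv_mem ha₁)
      have e : a₁ * (a₁⁻¹ * z * a₁) * a₁⁻¹ = z := by group
      rwa [e] at h3
    · rw [hmemconj]
      have h3 := G₂.mul_mem (G₂.mul_mem (G₂.inv_mem ha₂) (h2 hz')) ha₂
      have e : a₂⁻¹ * (a₁⁻¹ * z * a₁) * a₂ = g * z * g⁻¹ := by rw [hg']; group
      rwa [e] at h3
  have hR : IsPGroup p ((S : Subgroup G) ⊓ Cfsg.subgroupConjRight g (S : Subgroup G) : Subgroup G) :=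
    S.isPGroup'.to_inf_left
  have hRH : (S : Subgroup G) ⊓ Cfsg.subgroupConjRight g (S : Subgroup G) ≤ H := by
    intro z hz
    obtain ⟨hz1, hz2⟩ := Subgroup.mem_inf.mp hz
    rw [hH]
    refine Subgroup.mem_inf.mpr ⟨h1 hz1, ?_⟩
    rw [hmemconj] at hz2 ⊢
    exact h2 hz2
  obtain ⟨h, hh, hy⟩ := pGroup_conj_into_sylow (a₁ • S) H hS'H hR hRH
  refine ⟨h • (a₁ • S), ?_, ?_⟩
  · intro z hz
    exact (mem_sylow_smul_iff _ h z).mpr (hy z hz)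
  · intro z hz
    have hz' := (mem_sylow_smul_iff _ h z).mp hz
    have h3 := H.mul_mem (H.mul_mem hh (hS'H hz')) (H.inv_mem hh)
    have e : h * (h⁻¹ * z * h) * h⁻¹ = z := by group
    rwa [e] at h3

end Cfsg.Agent.S2940
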