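-- Statement S2943: T normalizes a J(T)-component K when Z(T) meets W_K.
import Cfsg.Statements.S2943
import Mathlib
import Cfsg.Agent.S2941
import Cfsg.Agent.Lib.helper13.JOver
import Cfsg.Agent.Lib.helper13.JComp
import Cfsg.Agent.Lib.helper55.Conj

set_option autoImplicit false
open Cfsg

namespace Cfsg.Agent.S2943

theorem mem_centralizer_of_conj_conj {G : Type*} [Group G] {V : Subgroup G} {x : G}
    (hx : ∀ v ∈ V, x * (x * v * x⁻¹) * x⁻¹ = v)
    (hx3 : x ^ 3 ∈ Subgroup.centralizer (V : Set G)) : x ∈ Subgroup.centralizer (V : Set G) := by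
  have hx2 : x ^ 2 ∈ Subgroup.centralizer (V : Set G) := by
    apply Subgroup.mem_centralizer_iff.mpr
    intro v hv
    calc v * x ^ 2 = (x * (x * v * x⁻¹) * x⁻¹) * x ^ 2 := by rw [hx v hv]
      _ = x ^ 2 * v := by rw [pow_two]; group
  exact Cfsg.Agent.Lib.helper13.mem_of_pow_mem_of_coprime _ x 2 3 (by norm_num) hx2 hx3

open Cfsg.Agent.Lib.helper13 in
open scoped commutatorElement in
/-- Let G be a finite group of characteristic 2 type in which every 2-local subgroup is solvable and the centralizer of Ω₁(Z(S)) lies in N_G(S) for every Sylow 2-subgroup S, and let T be a nontrivial 2-subgroup (below, J is the Thompson subgroup generated by the elementary abelian 2-subgroups of largest order), L a subgroup in which T is a Sylow 2-subgroup with J(T) not contained in O₂(L) and C_G(O₂(L)) ≤ O₂(L), and K a J(T)-component contained in L. If Z(T) meets W_K = [Ω₁(Z(O₂(K))), K] nontrivially, then T normalizes K. -/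
theorem result {G : Type*} [Group G] [Finite G] (hL : Cfsg.IsCharacteristicTwoType G) (hN : ∀ N : Subgroup G, Cfsg.IsTwoLocal N → Group.IsSolvable ↥N)
    (hZ : ∀ S : Sylow 2 G, Subgroup.centralizer (Cfsg.omegaCenterOf (S : Subgroup G) : Set G) ≤ Subgroup.normalizer ((S : Subgroup G) : Set G)) (T : Subgroup G) (hT : IsPGroup 2 ↥T) (hT1 : T ≠ ⊥) (L : Subgroup G) (hLT : L ∈ Cfsg.jOvergroups T)
    (K : Subgroup G) (hK : Cfsg.IsJComponent T K) (hKL : K ≤ L)
    (hZW : T ⊓ Subgroup.centralizer (T : Set G) ⊓ Cfsg.wOf K ≠ ⊥) : T ≤ Subgroup.normalizer (K : Set G) := by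
  have hp2 : Fact (Nat.Prime 2) := ⟨Nat.prime_two⟩
  obtain ⟨hTsyl, hJR, hchar⟩ := hLT
  have hsolv := isSolvable_of_mem_jOvergroups hN hT1 hchar
  obtain ⟨V, N, hVL, hLV, hVel, hOmV, hRC, hTC, hCN, hNL, hLN, hcomm, hcube, hXN, hsub⟩ :=
    overgroup_structure hZ hTsyl hsolv hchar
  have hK' := hK
  obtain ⟨hgen, hKJ, hidx, -, hWcard, hW2⟩ := hK
  have hKN : K ≤ N := hXN K hKL hKJ hgen
  have hTL : T ≤ L := hTsyl.1
  have hJT : Cfsg.thompsonSubgroupOf 2 T ≤ T := thompsonSubgroupOf_le_self T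
  have hLR : L ≤ Subgroup.normalizer (Cfsg.pCoreOf 2 L : Set G) :=
    Cfsg.Agent.Lib.helper51.le_normalizer_pCoreOf 2 L
  have hRT : Cfsg.pCoreOf 2 L ≤ T := pCoreOf_le_of_isSylowTwoIn hTsyl
  have hTJ : T ≤ Subgroup.normalizer (Cfsg.thompsonSubgroupOf 2 T : Set G) :=
    Subgroup.le_normalizer.trans (normalizer_le_normalizer_thompsonSubgroupOf 2 T)
  have hRK : Cfsg.pCoreOf 2 L ≤ Subgroup.normalizer (K : Set G) := by
    refine Cfsg.Agent.S2941.result hL hN hZ T hT hT1 K hK' (Cfsg.pCoreOf 2 L) ?_ ?_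
    · exact (sup_le hKL (hJT.trans hTL)).trans hLR
    · exact hRT.trans hTJ
  obtain ⟨hKC, hKnKR, hCnKR⟩ := component_sup_core_facts hTL hKL hLV hTC hKJ
  have hLC : L ≤ Subgroup.normalizer
      ((L ⊓ Subgroup.centralizer (V : Set G) : Subgroup G) : Set G) :=
    le_normalizer_inf_centralizer hLV
  -- `V`
  obtain ⟨hVc, hVp⟩ := (isElementaryAbelian_iff V).mp hVel
  have hV2 : ∀ a ∈ V, a * a = 1 := fun a ha => by rw [← pow_two]; exact hVp a ha
  have hLVc : ∀ g ∈ L, ∀ v ∈ V, g * v * g⁻¹ ∈ V := Subgroup.le_normalizer_iff.mp hLV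
  have hVR : V ≤ Cfsg.pCoreOf 2 L :=
    Cfsg.Agent.Lib.helper51.le_pCoreOf hVL hLV (elemAb_isPGroup hVel)
  -- `O_2(K)` centralizes `V`
  have hQK : Cfsg.pCoreOf 2 K ≤ K := Cfsg.Agent.Lib.helper51.pCoreOf_le 2 K
  have hQV : Cfsg.pCoreOf 2 K ≤ Subgroup.centralizer (V : Set G) := by
    intro q hq
    obtain ⟨a, ha⟩ := (Cfsg.Agent.Lib.helper51.isPGroup_pCoreOf (p := 2) K) ⟨q, hq⟩
    have hq2 : q ^ 2 ^ a = 1 := by
      have := congrArg Subtype.val ha
      simpa using this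
    exact mem_of_pow_mem_of_coprime _ q 3 (2 ^ a) (Nat.Coprime.pow_right a (by norm_num))
      (hcube q (hKN (hQK hq))) (by rw [hq2]; exact Subgroup.one_mem _)
  -- the element `d`
  obtain ⟨d, hdK, hdQ⟩ := exists_not_mem_pCoreOf hidx
  obtain ⟨hdec, hWU, hKW, hQW, hd3W, hnormW⟩ := jComponent_facts hK' hdK hdQ
  -- the element `z`
  obtain ⟨⟨z, hz⟩, hz1'⟩ := (Subgroup.ne_bot_iff_exists_ne_one).mp hZW
  have hz1 : z ≠ 1 := fun h => hz1' (Subtype.ext h)
  have hzW : z ∈ Cfsg.wOf K := hz.2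
  have hzV : z ∈ V := hOmV (Cfsg.Agent.Lib.helper51.mem_omegaOne_of_pow 2 hz.1
    (by rw [pow_two]; exact hW2 z hzW))
  have hE := four_group_enum (W := Cfsg.wOf K) (MulAut.conj d) hWcard hW2
    (fun w hw => hKW d hdK w hw) hd3W hnormW hzW hz1
  have hWV : Cfsg.wOf K ≤ V := by
    intro y hy
    rcases hE y hy with rfl | rfl | rfl | rfl
    · exact V.one_mem
    · exact hzV
    · exact hLVc d (hKL hdK) z hzV
    · exact hLVc d (hKL hdK) _ (hLVc d (hKL hdK) z hzV)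
  have hWchar : ∀ v ∈ V, v ∈ Cfsg.wOf K ↔
      v * (d * v * d⁻¹) * (d * (d * v * d⁻¹) * d⁻¹) = 1 :=
    fun v hv => ⟨fun h => hnormW v h,
      mem_wOf_iff_norm hK' hVc hV2 (hKL.trans hLV) (hVR.trans hRK) hQV hdK v hv⟩
  -- main step: the conjugates of `d` under `T` lie in `K C`
  have hmain : ∀ t ∈ T, t * d * t⁻¹ ∈ K ⊔ (L ⊓ Subgroup.centralizer (V : Set G)) := by
    intro t ht
    have htL := hTL ht
    have htiL := L.inv_mem htL
    have hd₂N : t * d * t⁻¹ ∈ N := Subgroup.le_normalizer_iff.mp hLN t htL d (hKN hdK)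
    have hτz : t * z * t⁻¹ = z := by
      have := Subgroup.mem_centralizer_iff.mp hz.1.2 t ht
      rw [this]; group
    have hτiz : t⁻¹ * z * t = z := by
      have := Subgroup.mem_centralizer_iff.mp hz.1.2 t ht
      rw [mul_assoc, ← this]; group
    obtain ⟨d₂, hd₂⟩ : ∃ d₂, d₂ = t * d * t⁻¹ := ⟨_, rfl⟩
    rw [← hd₂] at hd₂N ⊢
    have hd₂L := hNL hd₂N
    have hpair := order_three_pair (V := V) (W := Cfsg.wOf K)
      (W₂ := (Cfsg.wOf K).map (MulAut.conj t).toMonoidHom)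
      (MulAut.conj d) (MulAut.conj d₂) hVc hV2
      (hLVc d (hKL hdK)) (hLVc _ hd₂L)
      (fun v hv => conj_conj_conj_eq_of_pow_three_mem_centralizer (hcube d (hKN hdK)) hv)
      (fun v hv => conj_conj_conj_eq_of_pow_three_mem_centralizer (hcube _ hd₂N) hv)
      ?_ hWchar ?_ hWV hz1 hzW ?_ hE ?_
    · rcases hpair with h | h
      · have hx : ∀ v ∈ V, (d₂ * d) * ((d₂ * d) * v * (d₂ * d)⁻¹) * (d₂ * d)⁻¹ = v := by
          intro v hv
          have h1 : d₂ * (d * (d₂ * (d * v * d⁻¹) * d₂⁻¹) * d⁻¹) * d₂⁻¹ = v := h v hv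
          calc (d₂ * d) * ((d₂ * d) * v * (d₂ * d)⁻¹) * (d₂ * d)⁻¹
              = d₂ * (d * (d₂ * (d * v * d⁻¹) * d₂⁻¹) * d⁻¹) * d₂⁻¹ := by group
            _ = v := h1
        have hxN : d₂ * d ∈ N := N.mul_mem hd₂N (hKN hdK)
        have hxC := mem_centralizer_of_conj_conj hx (hcube _ hxN)
        have e : d₂ = (d₂ * d) * d⁻¹ := by group
        rw [e]
        exact Subgroup.mul_mem _ (Subgroup.mem_sup_right ⟨hNL hxN, hxC⟩)
          (Subgroup.mem_sup_left (K.inv_mem hdK))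
      · have hx : ∀ v ∈ V, (d₂ * (d * d)) * ((d₂ * (d * d)) * v * (d₂ * (d * d))⁻¹) *
            (d₂ * (d * d))⁻¹ = v := by
          intro v hv
          have h1 : d₂ * (d * (d * (d₂ * (d * (d * v * d⁻¹) * d⁻¹) * d₂⁻¹) * d⁻¹) * d⁻¹) * d₂⁻¹
              = v := h v hv
          calc (d₂ * (d * d)) * ((d₂ * (d * d)) * v * (d₂ * (d * d))⁻¹) * (d₂ * (d * d))⁻¹
              = d₂ * (d * (d * (d₂ * (d * (d * v * d⁻¹) * d⁻¹) * d₂⁻¹) * d⁻¹) * d⁻¹) * d₂⁻¹ := by
                simp only [mul_inv_rev, mul_assoc]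
            _ = v := h1
        have hxN : d₂ * (d * d) ∈ N := N.mul_mem hd₂N (N.mul_mem (hKN hdK) (hKN hdK))
        have hxC := mem_centralizer_of_conj_conj hx (hcube _ hxN)
        have e : d₂ = (d₂ * (d * d)) * (d * d)⁻¹ := by group
        rw [e]
        exact Subgroup.mul_mem _ (Subgroup.mem_sup_right ⟨hNL hxN, hxC⟩)
          (Subgroup.mem_sup_left (K.inv_mem (K.mul_mem hdK hdK)))
    · -- the actions of `d` and `d₂` on `V` commute
      intro v hv
      show d * (d₂ * v * d₂⁻¹) * d⁻¹ = d₂ * (d * v * d⁻¹) * d₂⁻¹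
      have hc := hcomm d (hKN hdK) d₂ hd₂N
      have hy : d₂ * (d * v * d⁻¹) * d₂⁻¹ ∈ V := hLVc _ hd₂L _ (hLVc d (hKL hdK) v hv)
      have hcy := Subgroup.mem_centralizer_iff.mp hc _ hy
      calc d * (d₂ * v * d₂⁻¹) * d⁻¹
          = ⁅d, d₂⁆ * (d₂ * (d * v * d⁻¹) * d₂⁻¹) * ⁅d, d₂⁆⁻¹ := by
            simp only [commutatorElement_def]; group
        _ = d₂ * (d * v * d⁻¹) * d₂⁻¹ := by rw [← hcy]; group
    · -- the conjugate of `W_K` is the kernel of the norm of `d₂`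
      intro v hv
      show v ∈ (Cfsg.wOf K).map (MulAut.conj t).toMonoidHom ↔
        v * (d₂ * v * d₂⁻¹) * (d₂ * (d₂ * v * d₂⁻¹) * d₂⁻¹) = 1
      have hv' : t⁻¹ * v * t ∈ V := by simpa using hLVc t⁻¹ htiL v hv
      rw [Cfsg.Agent.Lib.helper55.mem_map_conj_iff, hWchar _ hv']
      have e : v * (d₂ * v * d₂⁻¹) * (d₂ * (d₂ * v * d₂⁻¹) * d₂⁻¹) =
          t * ((t⁻¹ * v * t) * (d * (t⁻¹ * v * t) * d⁻¹) *
            (d * (d * (t⁻¹ * v * t) * d⁻¹) * d⁻¹)) * t⁻¹ := by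
        rw [hd₂]; group
      rw [e]
      constructor
      · intro h; rw [h]; group
      · intro h
        have e2 : (t⁻¹ * v * t) * (d * (t⁻¹ * v * t) * d⁻¹) *
            (d * (d * (t⁻¹ * v * t) * d⁻¹) * d⁻¹) =
            t⁻¹ * (t * ((t⁻¹ * v * t) * (d * (t⁻¹ * v * t) * d⁻¹) *
            (d * (d * (t⁻¹ * v * t) * d⁻¹) * d⁻¹)) * t⁻¹) * t := by group
        rw [e2, h]; group
    · rw [Cfsg.Agent.Lib.helper55.mem_map_conj_iff, hτiz]; exact hzW
    · intro y hy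
      show y = 1 ∨ y = z ∨ y = d₂ * z * d₂⁻¹ ∨ y = d₂ * (d₂ * z * d₂⁻¹) * d₂⁻¹
      rw [Cfsg.Agent.Lib.helper55.mem_map_conj_iff] at hy
      have ey : y = t * (t⁻¹ * y * t) * t⁻¹ := by group
      rcases hE _ hy with h | h | h | h
      · left; rw [ey, h]; group
      · right; left; rw [ey, h, hτz]
      · right; right; left
        have h' : t⁻¹ * y * t = d * z * d⁻¹ := h
        calc y = t * (t⁻¹ * y * t) * t⁻¹ := ey
          _ = d₂ * (t * z * t⁻¹) * d₂⁻¹ := by rw [h', hd₂]; group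
          _ = d₂ * z * d₂⁻¹ := by rw [hτz]
      · right; right; right
        have h' : t⁻¹ * y * t = d * (d * z * d⁻¹) * d⁻¹ := h
        calc y = t * (t⁻¹ * y * t) * t⁻¹ := ey
          _ = d₂ * (d₂ * (t * z * t⁻¹) * d₂⁻¹) * d₂⁻¹ := by rw [h', hd₂]; group
          _ = d₂ * (d₂ * z * d₂⁻¹) * d₂⁻¹ := by rw [hτz]
  -- the conjugates of `K` under `T` lie in `K C`
  have hconjK : ∀ t ∈ T, ∀ k ∈ K,
      t * k * t⁻¹ ∈ K ⊔ (L ⊓ Subgroup.centralizer (V : Set G)) := by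
    intro t ht k hk
    obtain ⟨n, q, hq, rfl⟩ := hdec k hk
    have e : t * (d ^ n * q) * t⁻¹ = (t * d * t⁻¹) ^ n * (t * q * t⁻¹) := by
      rw [conj_pow]; group
    rw [e]
    refine Subgroup.mul_mem _ (Subgroup.pow_mem _ (hmain t ht) n) (Subgroup.mem_sup_right ?_)
    exact Subgroup.le_normalizer_iff.mp hLC t (hTL ht) q ⟨hKL (hQK hq), hQV hq⟩
  -- hence in `K O_2(L)`
  have hconjKR : ∀ t ∈ T, ∀ k ∈ K, t * k * t⁻¹ ∈ K ⊔ Cfsg.pCoreOf 2 L := by
    intro t ht k hk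
    have hKt : K.map (MulAut.conj t).toMonoidHom ≤
        K ⊔ (L ⊓ Subgroup.centralizer (V : Set G)) := by
      rintro _ ⟨k, hk, rfl⟩
      exact hconjK t ht k hk
    have hJt : (Cfsg.thompsonSubgroupOf 2 T).map (MulAut.conj t).toMonoidHom =
        Cfsg.thompsonSubgroupOf 2 T := map_conj_eq_of_mem_normalizer (hTJ ht)
    have h1 : K.map (MulAut.conj t).toMonoidHom =
        ⁅K.map (MulAut.conj t).toMonoidHom, Cfsg.thompsonSubgroupOf 2 T⁆ := by
      conv_lhs => rw [← hKJ]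
      rw [Subgroup.map_commutator, hJt]
    have hCT : ⁅L ⊓ Subgroup.centralizer (V : Set G), T⁆ ≤ Cfsg.pCoreOf 2 L := by
      rw [Subgroup.commutator_comm]; exact hTC
    have h2 : ⁅K ⊔ (L ⊓ Subgroup.centralizer (V : Set G)), Cfsg.thompsonSubgroupOf 2 T⁆ ≤
        K ⊔ Cfsg.pCoreOf 2 L :=
      commutator_sup_le hKnKR hCnKR (by rw [hKJ]; exact le_sup_left)
        (((Subgroup.commutator_mono le_rfl hJT).trans hCT).trans le_sup_right)
    have h3 : K.map (MulAut.conj t).toMonoidHom ≤ K ⊔ Cfsg.pCoreOf 2 L := by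
      rw [h1]; exact (Subgroup.commutator_mono hKt le_rfl).trans h2
    exact h3 ⟨k, hk, rfl⟩
  -- conclusion
  intro t ht
  apply mem_normalizer_of_forall_conj_mem
  have hle : K ≤ K.comap (MulAut.conj t).toMonoidHom := by
    conv_lhs => rw [← hgen]
    rw [Subgroup.closure_le]
    rintro g ⟨hgK, hgodd⟩
    show t * g * t⁻¹ ∈ K
    apply mem_of_odd_of_mem_sup hRK (Cfsg.Agent.Lib.helper51.isPGroup_pCoreOf L)
      (hconjKR t ht g hgK)
    have : orderOf (t * g * t⁻¹) = orderOf g :=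
      orderOf_injective (MulAut.conj t).toMonoidHom (MulAut.conj t).injective g
    rw [this]; exact hgodd
  intro y hy
  exact hle hy

end Cfsg.Agent.S2943
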