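-- Statement S2946: Ω₁(Z(J(T))) and the four-group W_K of a J(T)-component K.
import Cfsg.Statements.S2946
import Mathlib
import Cfsg.Agent.Lib.helper13.JOver
import Cfsg.Agent.Lib.helper13.JComp
import Cfsg.Agent.Lib.helper13.JComp2

set_option autoImplicit false
open Cfsg

namespace Cfsg.Agent.S2946

open Cfsg.Agent.Lib.helper13 in
open scoped commutatorElement in
/-- Let G be a finite group of characteristic 2 type in which every 2-local subgroup is solvable and the centralizer of Ω₁(Z(S)) lies in N_G(S) for every Sylow 2-subgroup S, and let T be a nontrivial 2-subgroup (below, J is the Thompson subgroup generated by the elementary abelian 2-subgroups of largest order), K a J(T)-component and Z₀ = Ω₁(Z(J(T))). Then Z₀ meets W_K = [Ω₁(Z(O₂(K))), K] in a subgroup of order 2, and Z₀ is the product of Z₀ ∩ Z(⟨K, J(T)⟩) and Z₀ ∩ W_K. -/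
theorem result {G : Type*} [Group G] [Finite G] (hL : Cfsg.IsCharacteristicTwoType G) (hN : ∀ N : Subgroup G, Cfsg.IsTwoLocal N → Group.IsSolvable ↥N)
    (hZ : ∀ S : Sylow 2 G, Subgroup.centralizer (Cfsg.omegaCenterOf (S : Subgroup G) : Set G) ≤ Subgroup.normalizer ((S : Subgroup G) : Set G)) (T : Subgroup G) (hT : IsPGroup 2 ↥T) (hT1 : T ≠ ⊥) (K : Subgroup G) (hK : Cfsg.IsJComponent T K)
    (Z₀ : Subgroup G) (hZ₀ : Z₀ = Cfsg.omegaCenterOf (Cfsg.thompsonSubgroupOf 2 T)) :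
    Nat.card ↥(Z₀ ⊓ Cfsg.wOf K) = 2 ∧
      (Z₀ ⊓ ((K ⊔ Cfsg.thompsonSubgroupOf 2 T) ⊓ Subgroup.centralizer ((K ⊔ Cfsg.thompsonSubgroupOf 2 T) : Set G))) ⊔ (Z₀ ⊓ Cfsg.wOf K) = Z₀ := by
  have hp2 : Fact (Nat.Prime 2) := ⟨Nat.prime_two⟩
  have hK' := hK
  obtain ⟨hgen, hKJ, hidx, hSyl, hWcard, hW2⟩ := hK
  obtain ⟨J, hJdef⟩ : ∃ J, J = Cfsg.thompsonSubgroupOf 2 T := ⟨_, rfl⟩
  rw [← hJdef] at hKJ hSyl hZ₀ ⊢
  obtain ⟨Q, hQdef⟩ : ∃ Q, Q = Cfsg.pCoreOf 2 K := ⟨_, rfl⟩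
  obtain ⟨W, hWdef⟩ : ∃ W, W = Cfsg.wOf K := ⟨_, rfl⟩
  rw [← hWdef] at hWcard hW2 ⊢
  -- basic facts
  have hJT : J ≤ T := by rw [hJdef]; exact thompsonSubgroupOf_le_self T
  have hJ2 : IsPGroup 2 J := hT.to_le hJT
  have hJK : J ≤ Subgroup.normalizer (K : Set G) := le_normalizer_of_commutator_eq hKJ
  have hQK : Q ≤ K := by rw [hQdef]; exact Cfsg.Agent.Lib.helper51.pCoreOf_le 2 K
  have hQ2 : IsPGroup 2 Q := by rw [hQdef]; exact Cfsg.Agent.Lib.helper51.isPGroup_pCoreOf K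
  have hNKW : Subgroup.normalizer (K : Set G) ≤ Subgroup.normalizer (W : Set G) := by
    rw [hWdef]; exact normalizer_le_normalizer_wOf K
  have hJW : J ≤ Subgroup.normalizer (W : Set G) := hJK.trans hNKW
  have hKW : K ≤ Subgroup.normalizer (W : Set G) := Subgroup.le_normalizer.trans hNKW
  have hXW : K ⊔ J ≤ Subgroup.normalizer (W : Set G) := sup_le hKW hJW
  -- the element `d`
  obtain ⟨d, hdK, hdQ⟩ := exists_not_mem_pCoreOf hidx
  obtain ⟨hdec, hWU, hKWc, hQW, hd3W, hnormW⟩ := jComponent_facts hK' hdK hdQ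
  rw [← hWdef] at hWU hKWc hQW hd3W hnormW
  rw [← hQdef] at hdQ hdec hWU hQW hidx
  have hWQ : W ≤ Q := fun w hw => (omegaCenterOf_le _ (hWU w hw)).1
  have hWc : ∀ x ∈ W, ∀ y ∈ W, x * y = y * x := fun x hx y hy => comm_of_mul_self hW2 hx hy
  have hWel : Cfsg.IsElementaryAbelian 2 W :=
    (isElementaryAbelian_iff W).mpr ⟨hWc, fun a ha => by rw [pow_two]; exact hW2 a ha⟩
  have hQCW : Q ≤ Subgroup.centralizer (W : Set G) := by
    intro q hq
    apply Subgroup.mem_centralizer_iff.mpr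
    intro w hw
    exact (hQW q hq w hw).symm
  -- the Sylow 2-subgroup `S = Q J`
  have hSsyl : Cfsg.IsSylowTwoIn (Q ⊔ J) (K ⊔ J) := by
    rw [hQdef]; rw [hQdef] at hidx; exact isSylowTwoIn_pCoreOf_sup hidx hJK hJ2
  obtain ⟨S, hSdef⟩ : ∃ S, S = Q ⊔ J := ⟨_, rfl⟩
  rw [← hSdef] at hSsyl
  have hJS : J ≤ S := by rw [hSdef]; exact le_sup_right
  have hQS : Q ≤ S := by rw [hSdef]; exact le_sup_left
  have hJSeq : Cfsg.thompsonSubgroupOf 2 S = J := hSyl S hSsyl hJS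
  have hS2 : IsPGroup 2 S := hSsyl.2.1
  have hSX : S ≤ K ⊔ J := hSsyl.1
  have hSW : S ≤ Subgroup.normalizer (W : Set G) := hSX.trans hXW
  have hWS : W ≤ S := hWQ.trans hQS
  -- `J` does not centralize `W`
  have hexA : ∃ A ∈ maxIn 2 S, ¬ A ≤ Subgroup.centralizer (W : Set G) := by
    by_contra hcon
    push Not at hcon
    have hJC : J ≤ Subgroup.centralizer (W : Set G) := by
      rw [← hJSeq, thompsonSubgroupOf_eq_sSup]
      exact sSup_le hcon
    have h1 : ⁅⁅J, W⁆, K⁆ = ⊥ := by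
      rw [Subgroup.commutator_eq_bot_iff_le_centralizer.mpr hJC]
      exact Subgroup.commutator_bot_left K
    have h2 : ⁅⁅W, K⁆, J⁆ = ⊥ := by
      rw [eq_bot_iff]
      have hWJ : ⁅W, J⁆ = ⊥ :=
        Subgroup.commutator_eq_bot_iff_le_centralizer.mpr (Subgroup.le_centralizer_iff.mp hJC)
      rw [← hWJ]
      exact Subgroup.commutator_mono (commutator_le_of_le_normalizer hKW) le_rfl
    have h3 := Subgroup.commutator_commutator_eq_bot_of_rotate h1 h2
    rw [hKJ] at h3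
    have hKC : K ≤ Subgroup.centralizer (W : Set G) :=
      Subgroup.commutator_eq_bot_iff_le_centralizer.mp h3
    obtain ⟨w, hw, hw1⟩ := exists_ne_one_mem_wOf hK'
    apply hw1
    rw [hQdef] at hdQ
    apply eq_one_of_conj_eq_of_not_mem_pCoreOf hK' hdK hdQ hw
    rw [← hWdef] at hw
    exact conj_eq_of_mem_centralizer (hKC hdK) hw
  obtain ⟨A, hA, hAW⟩ := hexA
  have hA' := hA
  obtain ⟨hAS, hAel, hAmax⟩ := hA
  obtain ⟨hAc, hAp⟩ := (isElementaryAbelian_iff A).mp hAel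
  obtain ⟨a, haA, haW⟩ : ∃ a ∈ A, a ∉ Subgroup.centralizer (W : Set G) := by
    by_contra h
    push Not at h
    exact hAW h
  have haS := hAS haA
  have hAJ : A ≤ J := by rw [← hJSeq]; exact le_thompsonSubgroupOf_of_mem_maxIn hA'
  have haJ : a ∈ J := hAJ haA
  have ha2 : a * a = 1 := by rw [← pow_two]; exact hAp a haA
  have hai : a⁻¹ = a := inv_eq_of_mul_eq_one_left ha2
  have hσW : ∀ w ∈ W, a * w * a⁻¹ ∈ W := Subgroup.le_normalizer_iff.mp hSW a haS
  have hσ2 : ∀ w ∈ W, a * (a * w * a⁻¹) * a⁻¹ = w := by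
    intro w _
    calc a * (a * w * a⁻¹) * a⁻¹ = (a * a) * w * (a * a)⁻¹ := by group
      _ = w := by rw [ha2]; group
  obtain ⟨u, hu, hσu⟩ : ∃ u ∈ W, a * u * a⁻¹ ≠ u := by
    by_contra h
    push Not at h
    exact haW (mem_centralizer_of_conj_eq h)
  obtain ⟨hwaW, hwa1, hwafix, hEa, hfixa⟩ :=
    involution_four_group (MulAut.conj a) hWcard hW2 hσW hσ2 hu hσu
  obtain ⟨w₀, hw₀def⟩ : ∃ w₀, w₀ = u * (a * u * a⁻¹) := ⟨_, rfl⟩
  have hw₀W : w₀ ∈ W := by rw [hw₀def]; exact hwaW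
  have hw₀1 : w₀ ≠ 1 := by rw [hw₀def]; exact hwa1
  have hw₀fix : a * w₀ * a⁻¹ = w₀ := by rw [hw₀def]; exact hwafix
  have hfixa' : ∀ y ∈ W, a * y * a⁻¹ = y → y = 1 ∨ y = w₀ := by rw [hw₀def]; exact hfixa
  -- `A = A₀ ∪ a A₀` for `A₀ = C_A(W)`
  have hA4 : ∀ a' ∈ A, a' ∈ Subgroup.centralizer (W : Set G) ∨
      a * a' ∈ Subgroup.centralizer (W : Set G) := by
    intro a' ha'
    have hτW : ∀ w ∈ W, a' * w * a'⁻¹ ∈ W := Subgroup.le_normalizer_iff.mp hSW a' (hAS ha')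
    have hcomm : ∀ w ∈ W, a' * (a * w * a⁻¹) * a'⁻¹ = a * (a' * w * a'⁻¹) * a⁻¹ := by
      intro w _
      have hc : a' * a = a * a' := hAc a' ha' a haA
      calc a' * (a * w * a⁻¹) * a'⁻¹ = (a' * a) * w * (a' * a)⁻¹ := by group
        _ = (a * a') * w * (a * a')⁻¹ := by rw [hc]
        _ = a * (a' * w * a'⁻¹) * a⁻¹ := by group
    rcases commuting_involution_four_group (MulAut.conj a) (MulAut.conj a') hWcard hW2 hσW hσ2
      hu hσu hτW hcomm with h | h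
    · left
      exact mem_centralizer_of_conj_eq h
    · right
      apply mem_centralizer_of_conj_eq
      intro w hw
      have h1 : a' * w * a'⁻¹ = a * w * a⁻¹ := h w hw
      calc (a * a') * w * (a * a')⁻¹ = a * (a' * w * a'⁻¹) * a⁻¹ := by group
        _ = w := by rw [h1]; exact hσ2 w hw
  have hA0card : Nat.card A ≤ 2 * Nat.card ↥(A ⊓ Subgroup.centralizer (W : Set G)) := by
    have hle : A ≤ (A ⊓ Subgroup.centralizer (W : Set G)) ⊔ Subgroup.zpowers a := by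
      intro a' ha'
      rcases hA4 a' ha' with h | h
      · exact Subgroup.mem_sup_left ⟨ha', h⟩
      · have e : a' = (a * a') * a⁻¹⁻¹⁻¹ := by
          rw [inv_inv, hai]
          have hc : a * a' = a' * a := hAc a haA a' ha'
          rw [hc, mul_assoc, ha2, mul_one]
        rw [e]
        exact Subgroup.mul_mem _ (Subgroup.mem_sup_left ⟨A.mul_mem haA ha', h⟩)
          (Subgroup.mem_sup_right (Subgroup.inv_mem _ (Subgroup.inv_mem _
            (Subgroup.inv_mem _ (Subgroup.mem_zpowers a)))))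
    have hnorm : A ⊓ Subgroup.centralizer (W : Set G) ≤
        Subgroup.normalizer ((Subgroup.zpowers a : Subgroup G) : Set G) := by
      rw [Subgroup.le_normalizer_iff]
      intro x hx z hz
      obtain ⟨i, rfl⟩ := Subgroup.mem_zpowers_iff.mp hz
      have hzA : a ^ i ∈ A := A.zpow_mem haA i
      have hc : x * a ^ i = a ^ i * x := hAc x hx.1 _ hzA
      have e : x * a ^ i * x⁻¹ = a ^ i := by rw [hc]; group
      rw [e]; exact Subgroup.zpow_mem_zpowers a i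
    have h1 := card_sup_mul_card_inf _ _ hnorm
    have h2 : Nat.card ↥(Subgroup.zpowers a) ≤ 2 := by
      rw [Nat.card_zpowers]
      exact Nat.le_of_dvd (by norm_num) (orderOf_dvd_of_pow_eq_one (hAp a haA))
    have h3 : 0 < Nat.card ↥((A ⊓ Subgroup.centralizer (W : Set G)) ⊓ Subgroup.zpowers a) :=
      Nat.card_pos
    calc Nat.card A ≤ Nat.card ↥((A ⊓ Subgroup.centralizer (W : Set G)) ⊔ Subgroup.zpowers a) :=
          Subgroup.card_le_of_le hle
      _ ≤ Nat.card ↥((A ⊓ Subgroup.centralizer (W : Set G)) ⊔ Subgroup.zpowers a) *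
          Nat.card ↥((A ⊓ Subgroup.centralizer (W : Set G)) ⊓ Subgroup.zpowers a) :=
          Nat.le_mul_of_pos_right _ h3
      _ = Nat.card ↥(A ⊓ Subgroup.centralizer (W : Set G)) *
          Nat.card ↥(Subgroup.zpowers a) := h1
      _ ≤ Nat.card ↥(A ⊓ Subgroup.centralizer (W : Set G)) * 2 := Nat.mul_le_mul_left _ h2
      _ = 2 * Nat.card ↥(A ⊓ Subgroup.centralizer (W : Set G)) := mul_comm _ _
  -- `|A ∩ W| ≤ 2`
  have hpair : ({1, w₀} : Set G).ncard = 2 := Set.ncard_pair (fun h => hw₀1 h.symm)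
  have hAWcard : Nat.card ↥(A ⊓ W) ≤ 2 := by
    have hsub : ((A ⊓ W : Subgroup G) : Set G) ⊆ ({1, w₀} : Set G) := by
      intro y hy
      have hyA : y ∈ A := hy.1
      have hyW : y ∈ W := hy.2
      have hc : a * y = y * a := hAc a haA y hyA
      have hfix : a * y * a⁻¹ = y := by rw [hc]; group
      rcases hfixa' y hyW hfix with h | h
      · left; exact h
      · right; exact h
    have h1 := Set.ncard_le_ncard hsub (Set.toFinite _)
    rw [hpair] at h1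
    have h2 : Nat.card ↥(A ⊓ W) = ((A ⊓ W : Subgroup G) : Set G).ncard :=
      Nat.card_coe_set_eq _
    rw [h2]
    exact h1
  -- Thompson replacement: `B = C_A(W) W` is again of maximal order, hence `W ≤ J`
  obtain ⟨A₀, hA₀def⟩ : ∃ A₀, A₀ = A ⊓ Subgroup.centralizer (W : Set G) := ⟨_, rfl⟩
  rw [← hA₀def] at hA0card
  have hA₀A : A₀ ≤ A := by rw [hA₀def]; exact inf_le_left
  have hA₀C : A₀ ≤ Subgroup.centralizer (W : Set G) := by rw [hA₀def]; exact inf_le_right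
  have hA₀el : Cfsg.IsElementaryAbelian 2 A₀ := elemAb_mono hAel hA₀A
  have hBel : Cfsg.IsElementaryAbelian 2 (A₀ ⊔ W) :=
    elemAb_sup hA₀el hWel (Subgroup.le_centralizer_iff.mp hA₀C)
  have hBS : A₀ ⊔ W ≤ S := sup_le (hA₀A.trans hAS) hWS
  have hBcard : Nat.card A ≤ Nat.card ↥(A₀ ⊔ W) := by
    have h1 := card_sup_mul_card_inf A₀ W ((hA₀A.trans hAS).trans hSW)
    have h2 : Nat.card ↥(A₀ ⊓ W) ≤ 2 :=
      (Subgroup.card_le_of_le (inf_le_inf_right W hA₀A)).trans hAWcard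
    rw [hWcard] at h1
    have h3 : Nat.card ↥(A₀ ⊔ W) * Nat.card ↥(A₀ ⊓ W) ≤ Nat.card ↥(A₀ ⊔ W) * 2 :=
      Nat.mul_le_mul_left _ h2
    rw [h1] at h3
    omega
  have hBmax : A₀ ⊔ W ∈ maxIn 2 S :=
    ⟨hBS, hBel, fun C hC hCel => (hAmax C hC hCel).trans hBcard⟩
  have hWJ : W ≤ J := by
    rw [← hJSeq]
    exact le_sup_right.trans (le_thompsonSubgroupOf_of_mem_maxIn hBmax)
  -- `w₀` is central in `J`
  have hWbot : W ≠ ⊥ := by
    intro h
    apply hw₀1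
    rw [h] at hw₀W
    exact Subgroup.mem_bot.mp hw₀W
  obtain ⟨z₀, hz₀W, hz₀1, hz₀C⟩ := exists_central_of_le_normalizer hJ2 hWJ hJW hWbot
  have hz₀ : z₀ = w₀ := by
    rcases hfixa' z₀ hz₀W (conj_eq_of_mem_centralizer
      (Subgroup.le_centralizer_iff.mp (le_refl (Subgroup.centralizer (J : Set G))) haJ)
      (show z₀ ∈ Subgroup.centralizer (J : Set G) from hz₀C)) with h | h
    · exact absurd h hz₀1
    · exact h
  rw [hz₀] at hz₀C
  have hw₀Z : w₀ ∈ Z₀ := by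
    rw [hZ₀]
    exact Cfsg.Agent.Lib.helper51.mem_omegaOne_of_pow 2 ⟨hWJ hw₀W, hz₀C⟩
      (by rw [pow_two]; exact hW2 w₀ hw₀W)
  have hZ₀le : Z₀ ≤ J ⊓ Subgroup.centralizer (J : Set G) := by
    rw [hZ₀]; exact omegaCenterOf_le J
  have haCC : a ∈ Subgroup.centralizer ((Subgroup.centralizer (J : Set G) : Subgroup G) : Set G) :=
    Subgroup.le_centralizer_iff.mp (le_refl (Subgroup.centralizer (J : Set G))) haJ
  have hZ₀a : ∀ z ∈ Z₀, a * z * a⁻¹ = z := fun z hz =>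
    conj_eq_of_mem_centralizer haCC (hZ₀le hz).2
  -- first part
  have hparta : Nat.card ↥(Z₀ ⊓ W) = 2 := by
    have hset : ((Z₀ ⊓ W : Subgroup G) : Set G) = ({1, w₀} : Set G) := by
      ext y
      constructor
      · rintro ⟨hyZ, hyW⟩
        rcases hfixa' y hyW (hZ₀a y hyZ) with h | h
        · left; exact h
        · right; exact h
      · intro hy
        rcases hy with h | h
        · rw [h]; exact Subgroup.one_mem _
        · rw [Set.mem_singleton_iff.mp h]; exact ⟨hw₀Z, hw₀W⟩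
    have h2 : Nat.card ↥(Z₀ ⊓ W) = ((Z₀ ⊓ W : Subgroup G) : Set G).ncard :=
      Nat.card_coe_set_eq _
    rw [h2, hset, hpair]
  refine ⟨hparta, ?_⟩
  -- the normal 2-subgroup `P = C_{KJ}(W)`
  obtain ⟨P, hPdef⟩ : ∃ P, P = (K ⊔ J) ⊓ Subgroup.centralizer (W : Set G) := ⟨_, rfl⟩
  have hXP : K ⊔ J ≤ Subgroup.normalizer (P : Set G) := by
    rw [hPdef]; exact le_normalizer_inf_centralizer hXW
  have hPX : P ≤ K ⊔ J := by rw [hPdef]; exact inf_le_left
  have hPC : P ≤ Subgroup.centralizer (W : Set G) := by rw [hPdef]; exact inf_le_right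
  have hKPQ : ∀ x ∈ K, x ∈ Subgroup.centralizer (W : Set G) → x ∈ Q := by
    intro x hxK hxC
    by_contra hxQ
    rw [hQdef] at hxQ
    obtain ⟨w, hw, hw1⟩ := exists_ne_one_mem_wOf hK'
    apply hw1
    apply eq_one_of_conj_eq_of_not_mem_pCoreOf hK' hxK hxQ hw
    rw [← hWdef] at hw
    exact conj_eq_of_mem_centralizer hxC hw
  have hP2 : IsPGroup 2 ↥P := by
    intro x
    obtain ⟨m, hm⟩ := exists_pow_mem_of_mem_sup hJK hJ2 (hPX x.2)
    have h1 : (x : G) ^ 2 ^ m ∈ Q := hKPQ _ hm (hPC (P.pow_mem x.2 _))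
    obtain ⟨b, hb⟩ := hQ2 ⟨_, h1⟩
    have hb' : ((x : G) ^ 2 ^ m) ^ 2 ^ b = 1 := by
      have := congrArg Subtype.val hb
      simpa using this
    refine ⟨m + b, ?_⟩
    apply Subtype.ext
    rw [Subgroup.coe_pow, Subgroup.coe_one, pow_add, pow_mul]
    exact hb'
  have hPS : P ≤ S :=
    (Cfsg.Agent.Lib.helper51.le_pCoreOf hPX hXP hP2).trans (pCoreOf_le_of_isSylowTwoIn hSsyl)
  have hWCW : W ≤ Subgroup.centralizer (W : Set G) :=
    fun w hw => Subgroup.mem_centralizer_iff.mpr (fun x hx => hWc x hx w hw)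
  have hBP : A₀ ⊔ W ≤ P := by
    rw [hPdef]
    exact sup_le (le_inf ((hA₀A.trans hAS).trans hSX) hA₀C) (le_inf (hWS.trans hSX) hWCW)
  have hBmaxP : A₀ ⊔ W ∈ maxIn 2 P :=
    ⟨hBP, hBel, fun C hCP hCel => hBmax.2.2 C (hCP.trans hPS) hCel⟩
  have hmaxP : ∀ A' ∈ maxIn 2 P, A' ∈ maxIn 2 S := by
    rintro A' ⟨hA'P, hA'el, hA'max⟩
    exact ⟨hA'P.trans hPS, hA'el,
      fun C hC hCel => (hBmax.2.2 C hC hCel).trans (hA'max _ hBP hBel)⟩
  obtain ⟨JP, hJPdef⟩ : ∃ JP, JP = Cfsg.thompsonSubgroupOf 2 P := ⟨_, rfl⟩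
  have hJPJ : JP ≤ J := by
    rw [hJPdef, thompsonSubgroupOf_eq_sSup, ← hJSeq]
    exact sSup_le (fun A' hA' => le_thompsonSubgroupOf_of_mem_maxIn (hmaxP A' hA'))
  have hBJP : A₀ ⊔ W ≤ JP := by
    rw [hJPdef]; exact le_thompsonSubgroupOf_of_mem_maxIn hBmaxP
  have hJPP : JP ≤ P := by rw [hJPdef]; exact thompsonSubgroupOf_le_self P
  have hXJP : K ⊔ J ≤ Subgroup.normalizer (JP : Set G) := by
    rw [hJPdef]; exact hXP.trans (normalizer_le_normalizer_thompsonSubgroupOf 2 P)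
  -- the elementary abelian normal subgroup `V = Ω₁(Z(J(P)))`
  obtain ⟨V, hVdef⟩ : ∃ V, V = Cfsg.omegaCenterOf JP := ⟨_, rfl⟩
  have hXV : K ⊔ J ≤ Subgroup.normalizer (V : Set G) := by
    rw [hVdef]; exact hXJP.trans (normalizer_le_normalizer_omegaCenterOf JP)
  have hVc : ∀ x ∈ V, ∀ y ∈ V, x * y = y * x := by
    rw [hVdef]; exact fun x hx y hy => omegaCenterOf_comm hx hy
  have hV2 : ∀ x ∈ V, x * x = 1 := by
    rw [hVdef]; exact fun x hx => mul_self_of_mem_omegaCenterOf hx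
  have hVel : Cfsg.IsElementaryAbelian 2 V :=
    (isElementaryAbelian_iff V).mpr ⟨hVc, fun x hx => by rw [pow_two]; exact hV2 x hx⟩
  have hVJP : V ≤ JP ⊓ Subgroup.centralizer (JP : Set G) := by
    rw [hVdef]; exact omegaCenterOf_le JP
  have hVS : V ≤ S := (hVJP.trans inf_le_left).trans (hJPP.trans hPS)
  have hZV : Z₀ ≤ V := by
    rw [hZ₀, hVdef]
    unfold Cfsg.omegaCenterOf Cfsg.omegaOne
    apply Subgroup.closure_mono
    rintro x ⟨⟨hxJ, hxC⟩, hx2⟩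
    refine ⟨⟨?_, Subgroup.centralizer_le (SetLike.coe_subset_coe.mpr hJPJ) hxC⟩, hx2⟩
    apply hBJP
    apply mem_of_mem_maxIn_of_commute hBmax (hJS hxJ) hx2
    intro b hb
    exact Subgroup.mem_centralizer_iff.mp hxC b (hJPJ (hBJP hb))
  have hWV : W ≤ V := by
    intro w hw
    rw [hVdef]
    refine Cfsg.Agent.Lib.helper51.mem_omegaOne_of_pow 2
      ⟨hBJP (Subgroup.mem_sup_right hw), ?_⟩ (by rw [pow_two]; exact hW2 w hw)
    exact Subgroup.le_centralizer_iff.mp (hJPP.trans hPC) hw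
  have hA₀V : A₀ ≤ Subgroup.centralizer (V : Set G) := by
    have h1 : JP ≤ Subgroup.centralizer (V : Set G) :=
      Subgroup.le_centralizer_iff.mp (hVJP.trans inf_le_right)
    exact (le_sup_left.trans hBJP).trans h1
  -- Thompson replacement on `V`
  have hVcard : Nat.card V ≤ 2 * Nat.card ↥(A ⊓ V) := by
    have hDel : Cfsg.IsElementaryAbelian 2 ((A ⊓ Subgroup.centralizer (V : Set G)) ⊔ V) :=
      elemAb_sup (elemAb_mono hAel inf_le_left) hVel
        (Subgroup.le_centralizer_iff.mp inf_le_right)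
    have hDS : (A ⊓ Subgroup.centralizer (V : Set G)) ⊔ V ≤ S :=
      sup_le (inf_le_left.trans hAS) hVS
    have h1 := hAmax _ hDS hDel
    have h2 := card_sup_mul_card_inf (A ⊓ Subgroup.centralizer (V : Set G)) V
      ((inf_le_left.trans hAS).trans (hSX.trans hXV))
    have h3 : Nat.card ↥((A ⊓ Subgroup.centralizer (V : Set G)) ⊓ V) ≤ Nat.card ↥(A ⊓ V) :=
      Subgroup.card_le_of_le (inf_le_inf_right V inf_le_left)
    have h4 : Nat.card A₀ ≤ Nat.card ↥(A ⊓ Subgroup.centralizer (V : Set G)) :=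
      Subgroup.card_le_of_le (le_inf hA₀A hA₀V)
    have h5 : 0 < Nat.card ↥(A ⊓ Subgroup.centralizer (V : Set G)) := Nat.card_pos
    have h6 : Nat.card ↥(A ⊓ Subgroup.centralizer (V : Set G)) * Nat.card V ≤
        Nat.card ↥(A ⊓ Subgroup.centralizer (V : Set G)) * (2 * Nat.card ↥(A ⊓ V)) := by
      calc Nat.card ↥(A ⊓ Subgroup.centralizer (V : Set G)) * Nat.card V
          = Nat.card ↥((A ⊓ Subgroup.centralizer (V : Set G)) ⊔ V) *
            Nat.card ↥((A ⊓ Subgroup.centralizer (V : Set G)) ⊓ V) := h2.symm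
        _ ≤ Nat.card A * Nat.card ↥(A ⊓ V) := Nat.mul_le_mul h1 h3
        _ ≤ (2 * Nat.card A₀) * Nat.card ↥(A ⊓ V) := Nat.mul_le_mul_right _ hA0card
        _ ≤ (2 * Nat.card ↥(A ⊓ Subgroup.centralizer (V : Set G))) * Nat.card ↥(A ⊓ V) :=
            Nat.mul_le_mul_right _ (Nat.mul_le_mul_left _ h4)
        _ = Nat.card ↥(A ⊓ Subgroup.centralizer (V : Set G)) * (2 * Nat.card ↥(A ⊓ V)) := by
            ring
    exact Nat.le_of_mul_le_mul_left h6 h5
  obtain ⟨Va, hVadef⟩ : ∃ Va, Va = V ⊓ Subgroup.centralizer ({a} : Set G) := ⟨_, rfl⟩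
  have hVaV : Va ≤ V := by rw [hVadef]; exact inf_le_left
  have hVa_iff : ∀ v, v ∈ Va ↔ v ∈ V ∧ a * v * a⁻¹ = v := by
    intro v
    rw [hVadef, Subgroup.mem_inf, Subgroup.mem_centralizer_iff]
    constructor
    · rintro ⟨hv, h⟩
      refine ⟨hv, ?_⟩
      have := h a rfl
      rw [this]; group
    · rintro ⟨hv, h⟩
      refine ⟨hv, ?_⟩
      intro x hx
      rw [Set.mem_singleton_iff] at hx
      rw [hx]
      calc a * v = (a * v * a⁻¹) * a := by group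
        _ = v * a := by rw [h]
  have hVacard : Nat.card V ≤ 2 * Nat.card Va := by
    have hle : A ⊓ V ≤ Va := by
      rintro x ⟨hxA, hxV⟩
      rw [hVa_iff]
      refine ⟨hxV, ?_⟩
      have hc : a * x = x * a := hAc a haA x hxA
      rw [hc]; group
    exact hVcard.trans (Nat.mul_le_mul_left _ (Subgroup.card_le_of_le hle))
  have huV : u ∈ V := hWV hu
  have huVa : u ∉ Va := by rw [hVa_iff]; exact fun h => hσu h.2
  have hdich := mem_or_mul_mem_of_card_le hVaV hVacard huV huVa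
  -- `a` acts trivially on `V / W`
  have haM : a ∈ commSubgroup V W := by
    refine ⟨hXV (hSX haS), hSW haS, fun v hv => ?_⟩
    rcases hdich v hv with h | h
    · have h1 := ((hVa_iff v).mp h).2
      have e : ⁅v, a⁆ = v * (a * v * a⁻¹)⁻¹ := by simp only [commutatorElement_def]; group
      rw [e, h1, mul_inv_cancel]; exact W.one_mem
    · have h1 := ((hVa_iff _).mp h).2
      have e : ⁅v, a⁆ = v * ((a * u * a⁻¹) * u⁻¹) * v⁻¹ := by
        have e1 : ⁅v, a⁆ = v * (a * u * a⁻¹) * (a * (v * u) * a⁻¹)⁻¹ := by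
          simp only [commutatorElement_def]; group
        rw [e1, h1]; group
      have hx : (a * u * a⁻¹) * u⁻¹ ∈ W := W.mul_mem (hσW u hu) (W.inv_mem hu)
      have hc : v * ((a * u * a⁻¹) * u⁻¹) = ((a * u * a⁻¹) * u⁻¹) * v := hVc v hv _ (hWV hx)
      rw [e, hc, mul_assoc, mul_inv_cancel, mul_one]
      exact hx
  have hdX : d ∈ K ⊔ J := Subgroup.mem_sup_left hdK
  have ha₂M : d * a * d⁻¹ ∈ commSubgroup V W := conj_mem_commSubgroup (hXV hdX) (hXW hdX) haM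
  have heM : a * (d * a * d⁻¹)⁻¹ ∈ commSubgroup V W :=
    Subgroup.mul_mem _ haM (Subgroup.inv_mem _ ha₂M)
  have heK : a * (d * a * d⁻¹)⁻¹ ∈ K := by
    have e : a * (d * a * d⁻¹)⁻¹ = (a * d * a⁻¹) * d⁻¹ := by group
    rw [e]
    exact K.mul_mem (Subgroup.le_normalizer_iff.mp hJK a haJ d hdK) (K.inv_mem hdK)
  have hai' : a⁻¹ * w₀ * a = w₀ := by
    calc a⁻¹ * w₀ * a = a⁻¹ * (a * w₀ * a⁻¹) * a := by rw [hw₀fix]
      _ = w₀ := by group
  have hdw₀W : d * w₀ * d⁻¹ ∈ W := hKWc d hdK w₀ hw₀W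
  have hdw₀ : d * w₀ * d⁻¹ ≠ w₀ := by
    intro h
    apply hw₀1
    rw [hWdef] at hw₀W
    rw [hQdef] at hdQ
    exact eq_one_of_conj_eq_of_not_mem_pCoreOf hK' hdK hdQ hw₀W h
  have hdw₀1 : d * w₀ * d⁻¹ ≠ 1 := by
    intro h
    apply hw₀1
    calc w₀ = d⁻¹ * (d * w₀ * d⁻¹) * d := by group
      _ = 1 := by rw [h]; group
  have heQ : a * (d * a * d⁻¹)⁻¹ ∉ Q := by
    intro h
    have h1 := conj_eq_of_mem_centralizer (hQCW h) hdw₀W
    have e : (a * (d * a * d⁻¹)⁻¹) * (d * w₀ * d⁻¹) * (a * (d * a * d⁻¹)⁻¹)⁻¹ =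
        a * (d * (a⁻¹ * w₀ * a) * d⁻¹) * a⁻¹ := by group
    rw [e, hai'] at h1
    rcases hfixa' _ hdw₀W h1 with h2 | h2
    · exact hdw₀1 h2
    · exact hdw₀ h2
  have heQ' : a * (d * a * d⁻¹)⁻¹ ∉ Cfsg.pCoreOf 2 K := by rw [← hQdef]; exact heQ
  have hKM : K ≤ commSubgroup V W :=
    jComponent_le_of_normalized hK' (le_normalizer_commSubgroup (le_sup_left.trans hXV) hKW)
      heK heQ' heM
  have hVK : ∀ v ∈ V, ∀ k ∈ K, ⁅v, k⁆ ∈ W := fun v hv k hk => (hKM hk).2.2 v hv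
  obtain ⟨hdece, -, -, -, -, -⟩ := jComponent_facts hK' heK heQ'
  rw [← hQdef] at hdece
  have hSJ : S ≤ Subgroup.normalizer (J : Set G) := by
    rw [← hJSeq]
    exact Subgroup.le_normalizer.trans (normalizer_le_normalizer_thompsonSubgroupOf 2 S)
  have hKQn : K ≤ Subgroup.normalizer (Q : Set G) := by
    rw [hQdef]; exact Cfsg.Agent.Lib.helper51.le_normalizer_pCoreOf 2 K
  -- elements of `Z₀` centralized by the conjugate of `a` are central in `K J`
  have hcentral : ∀ c ∈ Z₀, (d * a * d⁻¹) * c * (d * a * d⁻¹)⁻¹ = c →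
      c ∈ (K ⊔ J) ⊓ Subgroup.centralizer ((K : Set G) ⊔ (J : Set G)) := by
    intro c hc hca₂
    have hcJ : c ∈ J := (hZ₀le hc).1
    have hcC : c ∈ Subgroup.centralizer (J : Set G) := (hZ₀le hc).2
    have hcV : c ∈ V := hZV hc
    have hca : a * c * a⁻¹ = c := hZ₀a c hc
    have hce : (a * (d * a * d⁻¹)⁻¹) * c * (a * (d * a * d⁻¹)⁻¹)⁻¹ = c := by
      have h1 : (d * a * d⁻¹)⁻¹ * c * (d * a * d⁻¹) = c := by
        calc (d * a * d⁻¹)⁻¹ * c * (d * a * d⁻¹)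
            = (d * a * d⁻¹)⁻¹ * ((d * a * d⁻¹) * c * (d * a * d⁻¹)⁻¹) * (d * a * d⁻¹) := by
              rw [hca₂]
          _ = c := by group
      calc (a * (d * a * d⁻¹)⁻¹) * c * (a * (d * a * d⁻¹)⁻¹)⁻¹
          = a * ((d * a * d⁻¹)⁻¹ * c * (d * a * d⁻¹)) * a⁻¹ := by group
        _ = c := by rw [h1, hca]
    -- `[c, q]` is fixed by `a`
    have hα : ∀ q ∈ Q, ⁅c, q⁆ = 1 ∨ ⁅c, q⁆ = w₀ := by
      intro q hq
      apply hfixa' _ (hVK c hcV q (hQK hq))
      have hr : q⁻¹ * (a * q * a⁻¹) ∈ J := by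
        have h1 : q⁻¹ * a * q ∈ J :=
          (Subgroup.mem_normalizer_iff''.mp (hSJ (hQS hq)) a).mp haJ
        have e : q⁻¹ * (a * q * a⁻¹) = (q⁻¹ * a * q) * a⁻¹ := by group
        rw [e]; exact J.mul_mem h1 (J.inv_mem haJ)
      have hrc : (q⁻¹ * (a * q * a⁻¹)) * c⁻¹ * (q⁻¹ * (a * q * a⁻¹))⁻¹ = c⁻¹ := by
        have h1 := Subgroup.mem_centralizer_iff.mp (Subgroup.inv_mem _ hcC) _ hr
        rw [h1]; group
      calc a * ⁅c, q⁆ * a⁻¹ = (a * c * a⁻¹) * q *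
            ((q⁻¹ * (a * q * a⁻¹)) * (a * c * a⁻¹)⁻¹ * (q⁻¹ * (a * q * a⁻¹))⁻¹) * q⁻¹ := by
            simp only [commutatorElement_def]; group
        _ = c * q * c⁻¹ * q⁻¹ := by rw [hca, hrc]
        _ = ⁅c, q⁆ := by simp only [commutatorElement_def]
    have hβ : ∀ q ∈ Q, ⁅c, q⁆ = 1 := by
      intro q hq
      rcases hα q hq with h | h
      · exact h
      · exfalso
        have hq' : (a * (d * a * d⁻¹)⁻¹) * q * (a * (d * a * d⁻¹)⁻¹)⁻¹ ∈ Q :=
          Subgroup.le_normalizer_iff.mp hKQn _ heK q hq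
        have e : ⁅c, (a * (d * a * d⁻¹)⁻¹) * q * (a * (d * a * d⁻¹)⁻¹)⁻¹⁆ =
            (a * (d * a * d⁻¹)⁻¹) * ⁅c, q⁆ * (a * (d * a * d⁻¹)⁻¹)⁻¹ := by
          conv_lhs => rw [← hce]
          simp only [commutatorElement_def]; group
        have hw₀W' : w₀ ∈ Cfsg.wOf K := by rw [← hWdef]; exact hw₀W
        rcases hα _ hq' with h2 | h2
        · rw [e, h] at h2
          apply hw₀1
          calc w₀ = (a * (d * a * d⁻¹)⁻¹)⁻¹ *
                ((a * (d * a * d⁻¹)⁻¹) * w₀ * (a * (d * a * d⁻¹)⁻¹)⁻¹) *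
                (a * (d * a * d⁻¹)⁻¹) := by group
            _ = 1 := by rw [h2]; group
        · rw [e, h] at h2
          exact hw₀1 (eq_one_of_conj_eq_of_not_mem_pCoreOf hK' heK heQ' hw₀W' h2)
    have hcQ : ∀ q ∈ Q, q * c = c * q := by
      intro q hq
      have h := hβ q hq
      rw [commutatorElement_def] at h
      calc q * c = (c * q * c⁻¹ * q⁻¹)⁻¹ * (c * q) := by group
        _ = c * q := by rw [h]; group
    have hcE : (a * (d * a * d⁻¹)⁻¹) * c = c * (a * (d * a * d⁻¹)⁻¹) := by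
      calc (a * (d * a * d⁻¹)⁻¹) * c
          = ((a * (d * a * d⁻¹)⁻¹) * c * (a * (d * a * d⁻¹)⁻¹)⁻¹) * (a * (d * a * d⁻¹)⁻¹) := by
            group
        _ = c * (a * (d * a * d⁻¹)⁻¹) := by rw [hce]
    have hKc : K ≤ Subgroup.centralizer ({c} : Set G) := by
      intro k hk
      obtain ⟨n, q, hq, rfl⟩ := hdece k hk
      apply Subgroup.mul_mem
      · apply Subgroup.pow_mem
        apply Subgroup.mem_centralizer_iff.mpr
        intro x hx
        rw [Set.mem_singleton_iff] at hx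
        rw [hx]; exact hcE.symm
      · apply Subgroup.mem_centralizer_iff.mpr
        intro x hx
        rw [Set.mem_singleton_iff] at hx
        rw [hx]; exact (hcQ q hq).symm
    have hJc : J ≤ Subgroup.centralizer ({c} : Set G) := by
      intro j hj
      apply Subgroup.mem_centralizer_iff.mpr
      intro x hx
      rw [Set.mem_singleton_iff] at hx
      rw [hx]; exact (Subgroup.mem_centralizer_iff.mp hcC j hj).symm
    refine ⟨Subgroup.mem_sup_right hcJ, ?_⟩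
    apply Subgroup.mem_centralizer_iff.mpr
    intro x hx
    rcases hx with hx | hx
    · exact (Subgroup.mem_centralizer_iff.mp (hKc hx) c rfl).symm
    · exact (Subgroup.mem_centralizer_iff.mp (hJc hx) c rfl).symm
  -- conclusion
  apply le_antisymm (sup_le inf_le_left inf_le_left)
  intro z hz
  have hzV : z ∈ V := hZV hz
  have hdi : d⁻¹ ∈ K ⊔ J := Subgroup.inv_mem _ hdX
  have hz'V : d⁻¹ * z * d ∈ V := (Subgroup.mem_normalizer_iff''.mp (hXV hdX) z).mp hzV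
  have hu'W : d⁻¹ * w₀ * d ∈ W := (Subgroup.mem_normalizer_iff''.mp (hXW hdX) w₀).mp hw₀W
  have hu'Va : d⁻¹ * w₀ * d ∉ Va := by
    rw [hVa_iff]
    rintro ⟨-, h⟩
    rcases hfixa' _ hu'W h with h2 | h2
    · apply hw₀1
      calc w₀ = d * (d⁻¹ * w₀ * d) * d⁻¹ := by group
        _ = 1 := by rw [h2]; group
    · apply hdw₀
      calc d * w₀ * d⁻¹ = d * (d⁻¹ * w₀ * d) * d⁻¹ := by rw [h2]
        _ = w₀ := by group
  have hdich2 := mem_or_mul_mem_of_card_le hVaV hVacard (hWV hu'W) hu'Va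
  rcases hdich2 _ hz'V with h | h
  · have h1 := ((hVa_iff _).mp h).2
    have h2 : (d * a * d⁻¹) * z * (d * a * d⁻¹)⁻¹ = z := by
      calc (d * a * d⁻¹) * z * (d * a * d⁻¹)⁻¹ = d * (a * (d⁻¹ * z * d) * a⁻¹) * d⁻¹ := by group
        _ = z := by rw [h1]; group
    exact Subgroup.mem_sup_left ⟨hz, hcentral z hz h2⟩
  · have h1 := ((hVa_iff _).mp h).2
    have h2 : (d * a * d⁻¹) * (z * w₀) * (d * a * d⁻¹)⁻¹ = z * w₀ := by
      calc (d * a * d⁻¹) * (z * w₀) * (d * a * d⁻¹)⁻¹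
          = d * (a * ((d⁻¹ * z * d) * (d⁻¹ * w₀ * d)) * a⁻¹) * d⁻¹ := by group
        _ = z * w₀ := by rw [h1]; group
    have hzw : z * w₀ ∈ Z₀ := Z₀.mul_mem hz hw₀Z
    have e : z = (z * w₀) * w₀ := by rw [mul_assoc, hW2 w₀ hw₀W, mul_one]
    rw [e]
    exact Subgroup.mul_mem _ (Subgroup.mem_sup_left ⟨hzw, hcentral _ hzw h2⟩)
      (Subgroup.mem_sup_right ⟨hw₀Z, hw₀W⟩)

end Cfsg.Agent.S2946
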