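import Cfsg.Statements.S2947
import Cfsg.Agent.Lib.helper55.SylowExtra

set_option autoImplicit false
open Cfsg

namespace Cfsg.Agent.S2947

open Cfsg.Agent.Lib.helper55

/-- Let G be a finite group of characteristic 2 type in which every 2-local subgroup is solvable and the centralizer of Ω₁(Z(S)) lies in N_G(S) for every Sylow 2-subgroup S; suppose O₂(G) = 1, fix a Sylow 2-subgroup S and a 2-local subgroup M containing N_G(J(S)) (J the Thompson subgroup generated by the elementary abelian 2-subgroups of largest order). Then M is strongly embedded in G (a proper subgroup of even order whose intersection with each conjugate by an element outside M has odd order) if and only if no nontrivial 2-subgroup of M lies in a 2-local subgroup of G not contained in M. -/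
theorem result {G : Type*} [Group G] [Finite G] (hL : Cfsg.IsCharacteristicTwoType G) (hN : ∀ N : Subgroup G, Cfsg.IsTwoLocal N → Group.IsSolvable ↥N)
    (hZ : ∀ S : Sylow 2 G, Subgroup.centralizer (Cfsg.omegaCenterOf (S : Subgroup G) : Set G) ≤ Subgroup.normalizer ((S : Subgroup G) : Set G)) (hO : Cfsg.pCore 2 G = ⊥) (S : Sylow 2 G) (M : Subgroup G) (hM : Cfsg.IsTwoLocal M)
    (hMJ : Subgroup.normalizer (Cfsg.thompsonSubgroupOf 2 (S : Subgroup G) : Set G) ≤ M) :
    Cfsg.IsStronglyEmbedded M ↔ Cfsg.straddlingTwoSubgroups M = ∅ := by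
  haveI : Fact (Nat.Prime 2) := ⟨Nat.prime_two⟩
  constructor
  · rintro ⟨-, -, hMint⟩
    have se0 : ∀ D : Subgroup G, IsPGroup 2 D → D ≠ ⊥ → D ≤ M →
        Subgroup.normalizer (D : Set G) ≤ M := by
      intro D hD hDne hDM g hg
      by_contra hgM
      have hodd := hMint g hgM
      have hle : D ≤ M ⊓ M.map (MulAut.conj g).toMonoidHom := by
        intro d hd
        refine Subgroup.mem_inf.mpr ⟨hDM hd, ?_⟩
        have h1 := (Subgroup.mem_normalizer_iff.mp
          ((Subgroup.normalizer (D : Set G)).inv_mem hg) d).mp hd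
        refine ⟨g⁻¹ * d * g, hDM (by simpa using h1), ?_⟩
        simp only [MulEquiv.toMonoidHom_eq_coe, MonoidHom.coe_coe, MulAut.conj_apply]
        group
      have h2 : 2 ∣ Nat.card D := dvd_card_of_pGroup_ne_bot hD hDne
      have h3 := Nat.dvd_trans h2 (Subgroup.card_dvd_of_le hle)
      exact (Nat.not_even_iff_odd.mpr hodd) (even_iff_two_dvd.mpr h3)
    rw [Set.eq_empty_iff_forall_notMem]
    rintro T ⟨hT, hTne, hTM, L, ⟨R, hR, hRne, rfl⟩, hTL, hLM⟩
    apply hLM
    have hU : IsPGroup 2 (T ⊔ R : Subgroup G) := hT.to_sup_of_normal_right' hR hTL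
    have hUM : (T ⊔ R) ⊓ M ≠ ⊥ := by
      intro h
      apply hTne
      rw [eq_bot_iff, ← h]
      exact le_inf le_sup_left hTM
    have hRM : R ≤ M := le_sup_right.trans (le_of_inf_ne_bot_of_normalizer_le se0 hU hUM)
    exact se0 R hR hRne hRM
  · intro hemp
    have star : ∀ D : Subgroup G, IsPGroup 2 D → D ≠ ⊥ → D ≤ M →
        Subgroup.normalizer (D : Set G) ≤ M := by
      intro D hD hDne hDM
      by_contra hcon
      have : D ∈ Cfsg.straddlingTwoSubgroups M :=
        ⟨hD, hDne, hDM, _, ⟨D, hD, hDne, rfl⟩, Subgroup.le_normalizer, hcon⟩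
      rw [hemp] at this
      exact this
    obtain ⟨R, hR, hRne, rfl⟩ := hM
    refine ⟨?_, ?_, ?_⟩
    · intro htop
      have hRn : R.Normal := Subgroup.normalizer_eq_top_iff.mp htop
      have := le_pCore hRn hR
      rw [hO] at this
      exact hRne (le_bot_iff.mp this)
    · have h2 : 2 ∣ Nat.card R := dvd_card_of_pGroup_ne_bot hR hRne
      exact even_iff_two_dvd.mpr (Nat.dvd_trans h2 (Subgroup.card_dvd_of_le Subgroup.le_normalizer))
    · intro g hg
      by_contra hodd
      have heven : 2 ∣ Nat.card ↥(Subgroup.normalizer (R : Set G) ⊓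
          (Subgroup.normalizer (R : Set G)).map (MulAut.conj g).toMonoidHom) :=
        even_iff_two_dvd.mp (Nat.not_odd_iff_even.mp hodd)
      obtain ⟨t, ht⟩ := exists_prime_orderOf_dvd_card' 2 heven
      have ht1 : (t : G) ≠ 1 := by
        intro h
        have : t = 1 := Subtype.ext h
        rw [this, orderOf_one] at ht
        exact absurd ht (by norm_num)
      obtain ⟨htM, htgM⟩ := Subgroup.mem_inf.mp t.2
      obtain ⟨s, hsM, hst⟩ := htgM
      simp only [MulEquiv.toMonoidHom_eq_coe, MonoidHom.coe_coe, MulAut.conj_apply] at hst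
      have hs1 : s ≠ 1 := by
        rintro rfl
        apply ht1
        rw [← hst]; group
      have hso : orderOf s = 2 := by
        have h1 : orderOf (g * s * g⁻¹) = orderOf s := by
          have := orderOf_injective (MulAut.conj g).toMonoidHom (MulAut.conj g).injective s
          simpa [MulAut.conj_apply] using this
        rw [← h1, hst, Subgroup.orderOf_coe, ht]
      have hzp : IsPGroup 2 (Subgroup.zpowers s) :=
        IsPGroup.of_card (n := 1) (by rw [Nat.card_zpowers, hso, pow_one])
      obtain ⟨T₂, hT₂⟩ := hzp.exists_le_sylow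
      have hsT₂ : s ∈ (T₂ : Subgroup G) := hT₂ (Subgroup.mem_zpowers s)
      have hT₂M : (T₂ : Subgroup G) ≤ Subgroup.normalizer (R : Set G) := by
        apply le_of_inf_ne_bot_of_normalizer_le star T₂.isPGroup'
        intro h
        have : s ∈ (T₂ : Subgroup G) ⊓ Subgroup.normalizer (R : Set G) := Subgroup.mem_inf.mpr ⟨hsT₂, hsM⟩
        rw [h, Subgroup.mem_bot] at this
        exact hs1 this
      have hgT₂M : ((g • T₂ : Sylow 2 G) : Subgroup G) ≤ Subgroup.normalizer (R : Set G) := by
        apply le_of_inf_ne_bot_of_normalizer_le star (g • T₂ : Sylow 2 G).isPGroup'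
        intro h
        have h1 : (t : G) ∈ ((g • T₂ : Sylow 2 G) : Subgroup G) := by
          rw [← hst]; exact conj_mem_sylow_smul T₂ g hsT₂
        have : (t : G) ∈ ((g • T₂ : Sylow 2 G) : Subgroup G) ⊓ Subgroup.normalizer (R : Set G) :=
          Subgroup.mem_inf.mpr ⟨h1, htM⟩
        rw [h, Subgroup.mem_bot] at this
        exact ht1 this
      obtain ⟨m, hm, hmT⟩ := sylow_conj_in_subgroup T₂ (g • T₂) _ hT₂M hgT₂M
      have hmg : m * g ∈ Subgroup.normalizer ((T₂ : Subgroup G) : Set G) := by
        have : (m * g) • T₂ = T₂ := by rw [mul_smul]; exact hmT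
        exact Sylow.smul_eq_iff_mem_normalizer.mp this
      have hT₂ne : (T₂ : Subgroup G) ≠ ⊥ := by
        intro h
        rw [h, Subgroup.mem_bot] at hsT₂
        exact hs1 hsT₂
      have hmgM := star T₂ T₂.isPGroup' hT₂ne hT₂M hmg
      apply hg
      have := (Subgroup.normalizer (R : Set G)).mul_mem ((Subgroup.normalizer (R : Set G)).inv_mem hm) hmgM
      simpa using this

end Cfsg.Agent.S2947
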