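import Cfsg.Statements.S2949
import Cfsg.Agent.Lib.helper51.JOut

set_option autoImplicit false
open Cfsg

namespace Cfsg.Agent.S2949

open Cfsg.Agent.Lib.helper13 Cfsg.Agent.Lib.helper51

/-- Let G be a finite group of characteristic 2 type in which every 2-local subgroup is solvable and the centralizer of Ω₁(Z(S)) lies in N_G(S) for every Sylow 2-subgroup S; suppose O₂(G) = 1, fix a Sylow 2-subgroup S and a 2-local subgroup M containing N_G(J(S)) (J the Thompson subgroup generated by the elementary abelian 2-subgroups of largest order). For every T maximal (for the order of a largest elementary abelian subgroup, then the order of J(T), then the order of T) among the nontrivial 2-subgroups of M lying in a 2-local subgroup not inside M, there is a J(T)-component K not contained in M with J(T) the Thompson subgroup of every Sylow 2-subgroup of N_G(W_K) containing J(T), and O₂(⟨K, T⟩) ≠ 1. -/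
theorem result {G : Type*} [Group G] [Finite G] (hL : Cfsg.IsCharacteristicTwoType G) (hN : ∀ N : Subgroup G, Cfsg.IsTwoLocal N → Group.IsSolvable ↥N)
    (hZ : ∀ S : Sylow 2 G, Subgroup.centralizer (Cfsg.omegaCenterOf (S : Subgroup G) : Set G) ≤ Subgroup.normalizer ((S : Subgroup G) : Set G)) (hO : Cfsg.pCore 2 G = ⊥) (S : Sylow 2 G) (M : Subgroup G) (hM : Cfsg.IsTwoLocal M)
    (hMJ : Subgroup.normalizer (Cfsg.thompsonSubgroupOf 2 (S : Subgroup G) : Set G) ≤ M) (T : Subgroup G) (hT : T ∈ Cfsg.maxStraddlingTwoSubgroups M) :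
    (Cfsg.jComponentsOutside M T).Nonempty := by
  have hp2 : Fact (Nat.Prime 2) := ⟨Nat.prime_two⟩
  obtain ⟨hT2, hT1, hTM, L, hL2, hTL, hLM⟩ := hT.1
  obtain ⟨hsyl, hLT, K, hK, hKL, hKM⟩ := exists_component_outside hL hN hZ S hMJ hT hL2 hLM hTL
  refine ⟨K, mem_jComponentsZero hL S hMJ hT hK hKM, hKM, ?_⟩
  intro hbot
  have hRT : pCoreOf 2 L ≤ T := pCoreOf_le_of_isSylowTwoIn hsyl
  have hle : pCoreOf 2 L ≤ pCoreOf 2 (K ⊔ T) :=
    le_pCoreOf (hRT.trans le_sup_right)
      ((sup_le hKL hTL).trans (le_normalizer_pCoreOf 2 L)) (isPGroup_pCoreOf L)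
  rw [hbot] at hle
  have hR : pCoreOf 2 L = ⊥ := le_bot_iff.mp hle
  apply hT1
  rw [eq_bot_iff]
  intro t ht
  have htc : t ∈ Subgroup.centralizer (pCoreOf 2 L : Set G) := by
    rw [Subgroup.mem_centralizer_iff]
    intro h hh
    rw [hR] at hh
    rw [Subgroup.mem_bot.mp hh, one_mul, mul_one]
  have := hLT.2.2 htc
  rwa [hR] at this

end Cfsg.Agent.S2949
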