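-- Statement S2950: uniqueness of the maximal 2-local overgroup of `⟨K, J(T)⟩`.
import Cfsg.Statements.S2950
import Mathlib
import Cfsg.Agent.S2942
import Cfsg.Agent.S2944
import Cfsg.Agent.S2945
import Cfsg.Agent.S2948
import Cfsg.Agent.Lib.helper13.JUniq

set_option autoImplicit false
open Cfsg

namespace Cfsg.Agent.S2950

open Cfsg.Agent.Lib.helper13 Cfsg.Agent.Lib.helper51

/-- A maximal 2-local subgroup `L₁` containing a member `K` of `jComponentsZero T`, with a Sylow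
2-subgroup `T₁` such that `J(T₁) = J(T)` and `L₁ ∈ jOvergroups T₁`, is the normalizer of the
subgroup generated by the `W_K'`, `K'` a member of `jComponentsZero T` inside `N_G(K)`. -/
theorem maximal_eq_normalizer_compW {G : Type*} [Group G] [Finite G]
    (hL : Cfsg.IsCharacteristicTwoType G)
    (hN : ∀ N : Subgroup G, Cfsg.IsTwoLocal N → Group.IsSolvable ↥N)
    (hZ : ∀ S : Sylow 2 G, Subgroup.centralizer (Cfsg.omegaCenterOf (S : Subgroup G) : Set G) ≤
      Subgroup.normalizer ((S : Subgroup G) : Set G))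
    {T K L₁ T₁ : Subgroup G} (hT : IsPGroup 2 ↥T) (hK : K ∈ jComponentsZero T)
    (hmax : IsMaximalTwoLocal L₁) (hKL : K ≤ L₁) (hT₁ : IsSylowTwoIn T₁ L₁)
    (hJ₁ : thompsonSubgroupOf 2 T₁ = thompsonSubgroupOf 2 T) (hov : L₁ ∈ jOvergroups T₁) :
    L₁ = Subgroup.normalizer (compW T (Subgroup.normalizer (K : Set G)) : Set G) := by
  have hp2 : Fact (Nat.Prime 2) := ⟨Nat.prime_two⟩
  obtain ⟨hKc, hK0⟩ := id hK
  obtain ⟨hgen, hKJ, hidx, hsyl, hWcard, hW2⟩ := id hKc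
  have hW2g : IsPGroup 2 (wOf K) := by
    intro w
    refine ⟨1, ?_⟩
    apply Subtype.ext
    have := hW2 w.1 w.2
    simp only [pow_one, Subgroup.coe_pow, Subgroup.coe_one]
    rw [pow_two]; exact this
  have hW1 : wOf K ≠ ⊥ := by
    intro h
    have := Subgroup.card_eq_one.mpr h
    rw [hWcard] at this
    norm_num at this
  have hJK : thompsonSubgroupOf 2 T ≤ Subgroup.normalizer (K : Set G) :=
    le_normalizer_of_commutator_eq hKJ
  have hWK : wOf K ≤ K := (wOf_le_pCoreOf K).trans (pCoreOf_le 2 K)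
  have hJne : thompsonSubgroupOf 2 T ≠ ⊥ := by
    intro h
    have hKbot : K = ⊥ := by
      have h2 := hKJ
      rw [h, Subgroup.commutator_bot_right] at h2
      exact h2.symm
    apply hW1
    rw [eq_bot_iff]
    exact hWK.trans hKbot.le
  have hT₁2 : IsPGroup 2 ↥T₁ := hT₁.2.1
  have hT₁1 : T₁ ≠ ⊥ := by
    intro h
    have h1 : thompsonSubgroupOf 2 T₁ ≤ T₁ := thompsonSubgroupOf_le_self T₁
    rw [hJ₁, h] at h1
    exact hJne (le_bot_iff.mp h1)
  have hsolv₁ : Group.IsSolvable ↥L₁ := hN _ hmax.1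
  have hchar₁ : Subgroup.centralizer (pCoreOf 2 L₁ : Set G) ≤ pCoreOf 2 L₁ :=
    isTwoLocal_char hL hmax.1
  -- the normalizer of `K`
  obtain ⟨hle, -⟩ := Cfsg.Agent.S2944.normalizer_wOf_le hL hN hZ T hT K hK
  have hNKeq : Subgroup.normalizer (K : Set G) = Subgroup.normalizer (wOf K : Set G) :=
    le_antisymm (normalizer_le_normalizer_wOf K) hle
  have hlocN : IsTwoLocal (Subgroup.normalizer (K : Set G)) := ⟨wOf K, hW2g, hW1, hNKeq⟩
  obtain ⟨TN, hTNsyl, hJTN⟩ :=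
    exists_sylowTwoIn_ge hJK (hT.to_le (thompsonSubgroupOf_le_self T))
  have hJN : thompsonSubgroupOf 2 TN = thompsonSubgroupOf 2 T :=
    hK0 TN hJTN (by rw [← hNKeq]; exact hTNsyl)
  have hTN1 : TN ≠ ⊥ := by
    intro h
    rw [h] at hJTN
    exact hJne (le_bot_iff.mp hJTN)
  -- mutual normalization in `L₁` and in `N_G(K)`
  have mutL : ∀ K' K'' : Subgroup G, IsJComponent T K' → K' ≤ L₁ → IsJComponent T K'' →
      K'' ≤ L₁ → K' ≤ Subgroup.normalizer (wOf K'' : Set G) ∧ wOf K' ≤ pCoreOf 2 L₁ :=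
    fun K' K'' h1 h2 h3 h4 =>
      jComponent_le_normalizer_wOf hL hN hZ hT₁ hT₁1 hJ₁ hsolv₁ hchar₁ h1 h2 h3 h4
  have mutN : ∀ K' K'' : Subgroup G, IsJComponent T K' → K' ≤ Subgroup.normalizer (K : Set G) →
      IsJComponent T K'' → K'' ≤ Subgroup.normalizer (K : Set G) →
      K' ≤ Subgroup.normalizer (wOf K'' : Set G) ∧
        wOf K' ≤ pCoreOf 2 (Subgroup.normalizer (K : Set G)) :=
    fun K' K'' h1 h2 h3 h4 =>
      jComponent_le_normalizer_wOf hL hN hZ hTNsyl hTN1 hJN (hN _ hlocN)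
        (isTwoLocal_char hL hlocN) h1 h2 h3 h4
  -- conjugation invariance in `L₁`
  have hconj : ∀ l ∈ L₁, ∀ K' : Subgroup G, K' ∈ jComponentsZero T → K' ≤ L₁ →
      K'.map (MulAut.conj l).toMonoidHom ∈ jComponentsZero T ∧
        K'.map (MulAut.conj l).toMonoidHom ≤ L₁ := by
    intro l hl K' hK' hK'L
    have hLl : L₁.map (MulAut.conj l).toMonoidHom = L₁ :=
      Cfsg.Agent.Lib.helper51.map_conj_eq_of_mem_normalizer (Subgroup.le_normalizer hl)
    have hK'lL : K'.map (MulAut.conj l).toMonoidHom ≤ L₁ := by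
      have := Subgroup.map_mono (f := (MulAut.conj l).toMonoidHom) hK'L
      rwa [hLl] at this
    refine ⟨?_, hK'lL⟩
    have hK'1 : K' ∈ jComponentsZero T₁ := mem_jComponentsZero_congr hJ₁ hK'
    have hK'l1 := mem_jComponentsZero_map_conj hK'1 l
    have hsn : (K'.subgroupOf L₁).IsSubnormal :=
      Cfsg.Agent.S2942.result hL hN hZ T₁ hT₁2 hT₁1 L₁ hov K' hK'1.1 hK'L
    have hsn2 := isSubnormal_subgroupOf_map_conj hK'L hsn hl
    have hJ₁L : thompsonSubgroupOf 2 T₁ ≤ L₁ := (thompsonSubgroupOf_le_self T₁).trans hT₁.1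
    have hsn3 : ((K'.map (MulAut.conj l).toMonoidHom).subgroupOf
        (K'.map (MulAut.conj l).toMonoidHom ⊔ thompsonSubgroupOf 2 T₁)).IsSubnormal :=
      Cfsg.Agent.Lib.helper27.subnormal_subgroupOf_of_le (sup_le hK'lL hJ₁L) hsn2
    have hc1 : IsJComponent T₁ (K'.map (MulAut.conj l).toMonoidHom) :=
      Cfsg.Agent.S2945.result hL hN hZ T₁ hT₁2 hT₁1 L₁ hov _ hK'lL hsn3 l hK'l1
    have hc : IsJComponent T (K'.map (MulAut.conj l).toMonoidHom) :=
      component_congr hJ₁.symm hc1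
    exact mem_jComponentsZero_of_conj hL hN hZ hT hK' l hc
  -- the subgroup `X₁`
  obtain ⟨X₁, hX₁⟩ : ∃ X₁ : Subgroup G, X₁ = compW T L₁ := ⟨_, rfl⟩
  have hLX : L₁ ≤ Subgroup.normalizer (X₁ : Set G) := by
    apply le_normalizer_of_map_conj_le
    intro l hl
    rw [Subgroup.map_le_iff_le_comap, hX₁]
    apply compW_le
    intro K' hK' hK'L
    rw [← Subgroup.map_le_iff_le_comap, ← wOf_map_conj]
    obtain ⟨h1, h2⟩ := hconj l hl K' hK' hK'L
    exact wOf_le_compW h1 h2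
  have hXR : X₁ ≤ pCoreOf 2 L₁ := by
    rw [hX₁]
    apply compW_le
    intro K' hK' hK'L
    exact (mutL K' K' hK'.1 hK'L hK'.1 hK'L).2
  have hX2 : IsPGroup 2 ↥X₁ := (isPGroup_pCoreOf L₁).to_le hXR
  have hX1 : X₁ ≠ ⊥ := by
    intro h
    have h1 : wOf K ≤ X₁ := by rw [hX₁]; exact wOf_le_compW hK hKL
    rw [h] at h1
    exact hW1 (le_bot_iff.mp h1)
  have hNX : Subgroup.normalizer (X₁ : Set G) = L₁ := hmax.2 _ ⟨X₁, hX2, hX1, rfl⟩ hLX
  -- comparison of the two families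
  have h6 : ∀ K' : Subgroup G, K' ∈ jComponentsZero T → K' ≤ L₁ →
      K' ≤ Subgroup.normalizer (K : Set G) := by
    intro K' hK' hK'L
    rw [hNKeq]
    exact (mutL K' K hK'.1 hK'L hKc hKL).1
  have h7 : ∀ K' : Subgroup G, K' ∈ jComponentsZero T → K' ≤ Subgroup.normalizer (K : Set G) →
      K' ≤ L₁ := by
    intro K' hK' hK'N
    rw [← hNX]
    apply le_normalizer_of_map_conj_le
    intro k hk
    rw [Subgroup.map_le_iff_le_comap, hX₁]
    apply compW_le
    intro K'' hK'' hK''L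
    rw [← Subgroup.map_le_iff_le_comap]
    have hkn : k ∈ Subgroup.normalizer (wOf K'' : Set G) :=
      (mutN K' K'' hK'.1 hK'N hK''.1 (h6 K'' hK'' hK''L)).1 hk
    rw [Cfsg.Agent.Lib.helper51.map_conj_eq_of_mem_normalizer hkn]
    exact wOf_le_compW hK'' hK''L
  have hXeq : X₁ = compW T (Subgroup.normalizer (K : Set G)) := by
    rw [hX₁]
    apply le_antisymm
    · apply compW_le
      intro K' hK' hK'L
      exact wOf_le_compW hK' (h6 K' hK' hK'L)
    · apply compW_le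
      intro K' hK' hK'N
      exact wOf_le_compW hK' (h7 K' hK' hK'N)
  rw [← hXeq, hNX]

/-- Uniqueness of the maximal 2-local overgroup. Let G be a finite group of characteristic 2 type in which every 2-local subgroup is solvable and the centralizer of Ω₁(Z(S)) lies in N_G(S) for every Sylow 2-subgroup S; suppose O₂(G) = 1, fix a Sylow 2-subgroup S and a 2-local subgroup M containing N_G(J(S)) (J the Thompson subgroup generated by the elementary abelian 2-subgroups of largest order). Let T be maximal (for the order of a largest elementary abelian subgroup, then the order of J(T), then the order of T) among the nontrivial 2-subgroups of M lying in a 2-local subgroup not inside M, and let K be a J(T)-component not contained in M with J(T) the Thompson subgroup of every Sylow 2-subgroup of N_G(W_K) containing J(T), and O₂(⟨K, T⟩) ≠ 1. Then there is exactly one maximal 2-local subgroup L of G containing ⟨K, J(T)⟩; moreover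 K is subnormal in L and T is a Sylow 2-subgroup of L. -/
theorem result {G : Type*} [Group G] [Finite G] (hL : Cfsg.IsCharacteristicTwoType G) (hN : ∀ N : Subgroup G, Cfsg.IsTwoLocal N → Group.IsSolvable ↥N)
    (hZ : ∀ S : Sylow 2 G, Subgroup.centralizer (Cfsg.omegaCenterOf (S : Subgroup G) : Set G) ≤ Subgroup.normalizer ((S : Subgroup G) : Set G)) (hO : Cfsg.pCore 2 G = ⊥) (S : Sylow 2 G) (M : Subgroup G) (hM : Cfsg.IsTwoLocal M)
    (hMJ : Subgroup.normalizer (Cfsg.thompsonSubgroupOf 2 (S : Subgroup G) : Set G) ≤ M) (T : Subgroup G) (hT : T ∈ Cfsg.maxStraddlingTwoSubgroups M)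
    (K : Subgroup G) (hK : K ∈ Cfsg.jComponentsOutside M T) :
    ∃ L : Subgroup G, Cfsg.IsMaximalTwoLocal L ∧ K ⊔ Cfsg.thompsonSubgroupOf 2 T ≤ L ∧
      (∀ L' : Subgroup G, Cfsg.IsMaximalTwoLocal L' → K ⊔ Cfsg.thompsonSubgroupOf 2 T ≤ L' → L' = L) ∧
      (K.subgroupOf L).IsSubnormal ∧ Cfsg.IsSylowTwoIn T L := by
  have hp2 : Fact (Nat.Prime 2) := ⟨Nat.prime_two⟩
  obtain ⟨hK0, hKM, hQ⟩ := hK
  obtain ⟨⟨hT2, hT1, hTM, -⟩, -⟩ := id hT
  have hJT : thompsonSubgroupOf 2 T ≤ T := thompsonSubgroupOf_le_self T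
  -- existence
  have hQ2 : IsPGroup 2 ↥(pCoreOf 2 (K ⊔ T)) := isPGroup_pCoreOf _
  have hloc : IsTwoLocal (Subgroup.normalizer (pCoreOf 2 (K ⊔ T) : Set G)) := ⟨_, hQ2, hQ, rfl⟩
  obtain ⟨L₀, hL₀max, hL₀⟩ := exists_isMaximalTwoLocal_ge hloc
  have hKTL : K ⊔ T ≤ L₀ := (le_normalizer_pCoreOf 2 (K ⊔ T)).trans hL₀
  have hKL₀ : K ≤ L₀ := le_sup_left.trans hKTL
  have hTL₀ : T ≤ L₀ := le_sup_right.trans hKTL
  have hL₀M : ¬ L₀ ≤ M := fun h => hKM (hKL₀.trans h)
  obtain ⟨T₀, hT₀syl, hTT₀⟩ := exists_sylowTwoIn_ge hTL₀ hT2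
  obtain ⟨-, -, -, h4⟩ := Cfsg.Agent.S2948.result hL hN hZ hO S M hM hMJ T hT L₀ hL₀max.1 hL₀M T₀
    hT₀syl (hJT.trans hTT₀)
  obtain ⟨hov, -⟩ := h4 hTL₀
  -- uniqueness
  have key : ∀ L₁ : Subgroup G, IsMaximalTwoLocal L₁ → K ⊔ thompsonSubgroupOf 2 T ≤ L₁ →
      L₁ = Subgroup.normalizer (compW T (Subgroup.normalizer (K : Set G)) : Set G) := by
    intro L₁ hmax hKJL
    have hKL₁ : K ≤ L₁ := le_sup_left.trans hKJL
    have hJL₁ : thompsonSubgroupOf 2 T ≤ L₁ := le_sup_right.trans hKJL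
    obtain ⟨T₁, hT₁syl, hJT₁⟩ := exists_sylowTwoIn_ge hJL₁ (hT2.to_le hJT)
    obtain ⟨hJeq, -, hov₁, -⟩ := Cfsg.Agent.S2948.result hL hN hZ hO S M hM hMJ T hT L₁ hmax.1
      (fun h => hKM (hKL₁.trans h)) T₁ hT₁syl hJT₁
    exact maximal_eq_normalizer_compW hL hN hZ hT2 hK0 hmax hKL₁ hT₁syl hJeq.symm hov₁
  have hKJL₀ : K ⊔ thompsonSubgroupOf 2 T ≤ L₀ := sup_le hKL₀ (hJT.trans hTL₀)
  refine ⟨L₀, hL₀max, hKJL₀, ?_, ?_, hov.1⟩
  · intro L' hL' hKJ'
    rw [key L' hL' hKJ', ← key L₀ hL₀max hKJL₀]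
  · exact Cfsg.Agent.S2942.result hL hN hZ T hT2 hT1 L₀ hov K hK0.1 hKL₀

end Cfsg.Agent.S2950
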