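import Cfsg.Statements.S2955
import Cfsg.Agent.Lib.helper55.SylowControl

set_option autoImplicit false
open Cfsg

namespace Cfsg.Agent.S2955

open Cfsg.Agent.Lib.helper55

/-- Let p be a prime dividing the order of the finite group G and 𝓕 a conjugation-closed family of subgroups that controls Sylow p-intersections in G. Suppose the Sylow p-subgroups of G are chain-connected: any two of them are joined by a chain of Sylow p-subgroups, consecutive ones distinct with nontrivial intersection, all containing the intersection of the two ends (equivalently, the graph on the Sylow p-subgroups whose edges are the distinct pairs meeting nontrivially is connected). Then for every Sylow p-subgroup S, G is generated by N_G(S) together with the members of 𝓕 that meet S in a Sylow p-subgroup of themselves. -/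
theorem result {G : Type*} [Group G] [Finite G] (p : ℕ) [Fact p.Prime] (hdiv : p ∣ Nat.card G)
    (𝓕 : Set (Subgroup G)) (h𝓕 : Cfsg.IsNormalSet 𝓕) (hc : Cfsg.ControlsSylowIntersections p 𝓕)
    (hconn : Cfsg.IsSylowChainConnected p G) (S : Sylow p G) :
    (⨆ X ∈ Cfsg.sylowMembers p 𝓕 (S : Subgroup G), X) ⊔ Subgroup.normalizer ((S : Subgroup G) : Set G) = ⊤ := by
  obtain ⟨H, hH⟩ : ∃ H : Subgroup G, H = (⨆ X ∈ Cfsg.sylowMembers p 𝓕 (S : Subgroup G), X) ⊔
      Subgroup.normalizer ((S : Subgroup G) : Set G) := ⟨_, rfl⟩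
  rw [← hH]
  have hXH : ∀ X ∈ Cfsg.sylowMembers p 𝓕 (S : Subgroup G), X ≤ H := by
    intro X hX
    rw [hH]
    exact le_trans (le_biSup (fun X => X) hX) le_sup_left
  have hNH : Subgroup.normalizer ((S : Subgroup G) : Set G) ≤ H := by
    rw [hH]; exact le_sup_right
  -- the step
  have step : ∀ (T T' : Sylow p G) (X : Subgroup G) (x : G),
      (∃ h ∈ H, Cfsg.subgroupConjRight h (T : Subgroup G) = (S : Subgroup G)) →
      X ∈ Cfsg.sylowMembers p 𝓕 (T : Subgroup G) → x ∈ X →
      Cfsg.subgroupConjRight x (T' : Subgroup G) = (T : Subgroup G) →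
      ∃ h ∈ H, Cfsg.subgroupConjRight h (T' : Subgroup G) = (S : Subgroup G) := by
    rintro T T' X x ⟨h, hh, hTS⟩ hX hxX hT'
    have hXh := subgroupConjRight_mem_sylowMembers h𝓕 hX h
    rw [hTS] at hXh
    have hxh : h⁻¹ * x * h ∈ H := by
      apply hXH _ hXh
      rw [mem_subgroupConjRight_iff]
      have e : h * (h⁻¹ * x * h) * h⁻¹ = x := by group
      rw [e]; exact hxX
    have hxH : x ∈ H := by
      have := H.mul_mem (H.mul_mem hh hxh) (H.inv_mem hh)
      have e : h * (h⁻¹ * x * h) * h⁻¹ = x := by group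
      rwa [e] at this
    refine ⟨x * h, H.mul_mem hxH hh, ?_⟩
    rw [subgroupConjRight_mul, hT', hTS]
  -- adjacent Sylow subgroups
  have adj : ∀ (T T' : Sylow p G),
      (∃ h ∈ H, Cfsg.subgroupConjRight h (T : Subgroup G) = (S : Subgroup G)) → T ≠ T' →
      (T : Subgroup G) ⊓ (T' : Subgroup G) ≠ ⊥ →
      ∃ h ∈ H, Cfsg.subgroupConjRight h (T' : Subgroup G) = (S : Subgroup G) := by
    intro T T' hT hne hint
    obtain ⟨n, c, X, x, hc0, hclast, hstep⟩ := hc T T' hne hint
    have hall : ∀ i : Fin (n + 1),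
        ∃ h ∈ H, Cfsg.subgroupConjRight h (c i : Subgroup G) = (S : Subgroup G) := by
      intro i
      induction i using Fin.induction with
      | zero => rw [hc0]; exact hT
      | succ i ih =>
        obtain ⟨h1, -, h3, h4, -⟩ := hstep i
        exact step (c i.castSucc) (c i.succ) (X i) (x i) ih h1 h3 h4
    have := hall (Fin.last n)
    rwa [hclast] at this
  -- all Sylow subgroups
  have all : ∀ T : Sylow p G,
      ∃ h ∈ H, Cfsg.subgroupConjRight h (T : Subgroup G) = (S : Subgroup G) := by
    intro T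
    obtain ⟨n, c, hc0, hclast, -, hstep⟩ := hconn S T
    have hall : ∀ i : Fin (n + 1),
        ∃ h ∈ H, Cfsg.subgroupConjRight h (c i : Subgroup G) = (S : Subgroup G) := by
      intro i
      induction i using Fin.induction with
      | zero => rw [hc0]; exact ⟨1, H.one_mem, subgroupConjRight_one _⟩
      | succ i ih => exact adj _ _ ih (hstep i).1 (hstep i).2
    have := hall (Fin.last n)
    rwa [hclast] at this
  rw [eq_top_iff]
  intro g _
  obtain ⟨h, hh, hgS⟩ := all (g • S)
  have hn : h⁻¹ * g ∈ Subgroup.normalizer ((S : Subgroup G) : Set G) := by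
    apply Subgroup.mem_normalizer_fintype
    intro z hz
    have h1 : g * z * g⁻¹ ∈ ((g • S : Sylow p G) : Subgroup G) := conj_mem_sylow_smul S g hz
    have h2 : h⁻¹ * (g * z * g⁻¹) * h ∈ Cfsg.subgroupConjRight h ((g • S : Sylow p G) : Subgroup G) := by
      rw [mem_subgroupConjRight_iff]
      have e : h * (h⁻¹ * (g * z * g⁻¹) * h) * h⁻¹ = g * z * g⁻¹ := by group
      rw [e]; exact h1
    rw [hgS] at h2
    have e : h⁻¹ * g * z * (h⁻¹ * g)⁻¹ = h⁻¹ * (g * z * g⁻¹) * h := by group
    rw [e]; exact h2
  have := H.mul_mem hh (hNH hn)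
  have e : h * (h⁻¹ * g) = g := by group
  rwa [e] at this

end Cfsg.Agent.S2955
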