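import Cfsg.Statements.S2957
import Cfsg.Agent.Lib.helper55.SylowControl
-- import your own Cfsg.Agent.* helpers here

set_option autoImplicit false
open Cfsg

namespace Cfsg.Agent.S2957

open Cfsg.Agent.Lib.helper55

/-- A `Fin`-indexed chain gives a reflexive-transitive chain. -/
theorem reflTransGen_of_fin {α : Type*} (R : α → α → Prop) :
    ∀ (n : ℕ) (c : Fin (n + 1) → α), (∀ i : Fin n, R (c i.castSucc) (c i.succ)) →
      Relation.ReflTransGen R (c 0) (c (Fin.last n)) := by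
  intro n
  induction n with
  | zero => intro c _; exact Relation.ReflTransGen.refl
  | succ n ih =>
    intro c h
    have h1 := ih (fun i => c i.castSucc) (fun i => by
      have := h i.castSucc
      rw [Fin.succ_castSucc] at this
      exact this)
    have h2 := h (Fin.last n)
    rw [Fin.succ_last] at h2
    exact Relation.ReflTransGen.tail h1 h2

/-- A reflexive-transitive chain with witnesses gives a `Fin`-indexed chain. -/
theorem fin_of_reflTransGen {α β γ : Type*} (Q : α → α → β → γ → Prop) {a b : α}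
    (h : Relation.ReflTransGen (fun a b => ∃ X x, Q a b X x) a b) :
    ∃ (n : ℕ) (c : Fin (n + 1) → α) (X : Fin n → β) (x : Fin n → γ),
      c 0 = a ∧ c (Fin.last n) = b ∧ ∀ i : Fin n, Q (c i.castSucc) (c i.succ) (X i) (x i) := by
  induction h with
  | refl => exact ⟨0, fun _ => a, Fin.elim0, Fin.elim0, rfl, rfl, fun i => i.elim0⟩
  | @tail b d _ hbd ih =>
    obtain ⟨n, c, X, x, h0, hl, hQ⟩ := ih
    obtain ⟨X', x', hq⟩ := hbd
    refine ⟨n + 1, @Fin.snoc (n + 1) (fun _ => α) c d, @Fin.snoc n (fun _ => β) X X',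
      @Fin.snoc n (fun _ => γ) x x', ?_, ?_, ?_⟩
    · have : (0 : Fin (n + 2)) = Fin.castSucc (0 : Fin (n + 1)) := rfl
      rw [this, Fin.snoc_castSucc]; exact h0
    · exact Fin.snoc_last _ _
    · intro i
      refine Fin.lastCases ?_ (fun j => ?_) i
      · rw [Fin.snoc_castSucc, Fin.succ_last, Fin.snoc_last, Fin.snoc_last, Fin.snoc_last, hl]
        exact hq
      · rw [Fin.snoc_castSucc, Fin.succ_castSucc, Fin.snoc_castSucc, Fin.snoc_castSucc,
          Fin.snoc_castSucc]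
        exact hQ j

theorem mem_map_conj_iff {G : Type*} [Group G] (w : G) (F : Subgroup G) (h : G) :
    h ∈ F.map (MulAut.conj w).toMonoidHom ↔ w⁻¹ * h * w ∈ F := by
  constructor
  · rintro ⟨y, hy, rfl⟩
    simp only [MulEquiv.toMonoidHom_eq_coe, MonoidHom.coe_coe, MulAut.conj_apply]
    have e : w⁻¹ * (w * y * w⁻¹) * w = y := by group
    rw [e]; exact hy
  · intro hh
    refine ⟨w⁻¹ * h * w, hh, ?_⟩
    simp only [MulEquiv.toMonoidHom_eq_coe, MonoidHom.coe_coe, MulAut.conj_apply]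
    group

theorem conj_mem_normalizer_map {G : Type*} [Group G] (w : G) (F : Subgroup G) {a : G}
    (ha : a ∈ Subgroup.normalizer (F : Set G)) :
    w * a * w⁻¹ ∈
      Subgroup.normalizer ((F.map (MulAut.conj w).toMonoidHom : Subgroup G) : Set G) := by
  rw [Subgroup.mem_normalizer_iff] at ha ⊢
  intro h
  rw [mem_map_conj_iff, mem_map_conj_iff, ha (w⁻¹ * h * w)]
  have e : w⁻¹ * (w * a * w⁻¹ * h * (w * a * w⁻¹)⁻¹) * w = a * (w⁻¹ * h * w) * a⁻¹ := by group
  rw [e]

/-- One link of a chain, stated in the ambient group. -/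
def GLink {G : Type*} [Group G] (p : ℕ) (f : Subgroup G → Set (Subgroup G)) (M D : Subgroup G)
    (A B : Sylow p G) : Prop :=
  (A : Subgroup G) ≤ M ∧ (B : Subgroup G) ≤ M ∧ D ≤ (B : Subgroup G) ∧
  ∃ (P : Sylow p G) (F : Subgroup G) (x : G), (P : Subgroup G) ≤ M ∧ F ∈ f (P : Subgroup G) ∧
    (A : Subgroup G) ≤ Subgroup.normalizer (F : Set G) ∧
    (B : Subgroup G) ≤ Subgroup.normalizer (F : Set G) ∧
    x ∈ M ∧ x ∈ Subgroup.normalizer (F : Set G) ∧
    Cfsg.subgroupConjRight x (B : Subgroup G) = (A : Subgroup G)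

theorem GLink.mono {G : Type*} [Group G] {p : ℕ} {f : Subgroup G → Set (Subgroup G)}
    {M M' D D' : Subgroup G} {A B : Sylow p G} (h : GLink p f M D A B) (hM : M ≤ M')
    (hD : D' ≤ D) : GLink p f M' D' A B := by
  obtain ⟨hA, hB, hDB, P, F, x, hP, hF, hAF, hBF, hxM, hxF, hconj⟩ := h
  exact ⟨hA.trans hM, hB.trans hM, hD.trans hDB, P, F, x, hP.trans hM, hF, hAF, hBF, hM hxM,
    hxF, hconj⟩

theorem coe_smul_sylow {G : Type*} [Group G] {p : ℕ} (w : G) (Q : Sylow p G) :
    ((w • Q : Sylow p G) : Subgroup G) = (Q : Subgroup G).map (MulAut.conj w).toMonoidHom := by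
  ext z
  rw [mem_map_conj_iff]
  exact mem_sylow_smul_iff Q w z

theorem GLink.conj {G : Type*} [Group G] {p : ℕ} {f : Subgroup G → Set (Subgroup G)}
    (hf : Cfsg.IsNormalizerFunctor p f) {D : Subgroup G} {A B : Sylow p G}
    (h : GLink p f ⊤ D A B) (w : G) :
    GLink p f ⊤ (D.map (MulAut.conj w).toMonoidHom) (w • A) (w • B) := by
  obtain ⟨-, -, hDB, P, F, x, -, hF, hAF, hBF, -, hxF, hconj⟩ := h
  refine ⟨le_top, le_top, ?_, w • P, F.map (MulAut.conj w).toMonoidHom, w * x * w⁻¹, le_top, ?_,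
    ?_, ?_, Subgroup.mem_top _, conj_mem_normalizer_map w F hxF, ?_⟩
  · rw [coe_smul_sylow]; exact Subgroup.map_mono hDB
  · rw [coe_smul_sylow, (hf P P.isPGroup').2 w]
    exact ⟨F, hF, rfl⟩
  · intro z hz
    rw [coe_smul_sylow, mem_map_conj_iff] at hz
    have := conj_mem_normalizer_map w F (hAF hz)
    have e : w * (w⁻¹ * z * w) * w⁻¹ = z := by group
    rwa [e] at this
  · intro z hz
    rw [coe_smul_sylow, mem_map_conj_iff] at hz
    have := conj_mem_normalizer_map w F (hBF hz)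
    have e : w * (w⁻¹ * z * w) * w⁻¹ = z := by group
    rwa [e] at this
  · ext z
    rw [mem_subgroupConjRight_iff, coe_smul_sylow, coe_smul_sylow, mem_map_conj_iff,
      mem_map_conj_iff, ← hconj, mem_subgroupConjRight_iff]
    have e : w⁻¹ * (w * x * w⁻¹ * z * (w * x * w⁻¹)⁻¹) * w = x * (w⁻¹ * z * w) * x⁻¹ := by group
    rw [e]

theorem sylow_le_of_card_inf {H : Type*} [Group H] [Finite H] {p : ℕ} [Fact p.Prime]
    (Y P : Sylow p H) (X : Subgroup H) (hPX : (P : Subgroup H) ≤ X)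
    (hc : Nat.card ((Y : Subgroup H) ⊓ X : Subgroup H) = p ^ (Nat.card X).factorization p) :
    (Y : Subgroup H) ≤ X := by
  have hp : p.Prime := Fact.out
  have h1 : p ^ (Nat.card H).factorization p ∣ Nat.card X := by
    rw [← P.card_eq_multiplicity]; exact Subgroup.card_dvd_of_le hPX
  have h2 : (Nat.card H).factorization p ≤ (Nat.card X).factorization p :=
    (hp.pow_dvd_iff_le_factorization Nat.card_pos.ne').mp h1
  have h3 : (Y : Subgroup H) ⊓ X = Y := by
    apply Subgroup.eq_of_le_of_card_ge inf_le_left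
    rw [hc, Y.card_eq_multiplicity]
    exact Nat.pow_le_pow_right hp.pos h2
  rw [← h3]; exact inf_le_right

theorem card_inf_of_sylow_le {H : Type*} [Group H] [Finite H] {p : ℕ} [Fact p.Prime]
    (Y : Sylow p H) (X : Subgroup H) (hYX : (Y : Subgroup H) ≤ X) :
    Nat.card ((Y : Subgroup H) ⊓ X : Subgroup H) = p ^ (Nat.card X).factorization p := by
  have hp : p.Prime := Fact.out
  rw [inf_eq_left.mpr hYX, Y.card_eq_multiplicity]
  congr 1
  apply le_antisymm
  · have h1 : p ^ (Nat.card H).factorization p ∣ Nat.card X := by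
      rw [← Y.card_eq_multiplicity]; exact Subgroup.card_dvd_of_le hYX
    exact (hp.pow_dvd_iff_le_factorization Nat.card_pos.ne').mp h1
  · exact (Nat.factorization_le_iff_dvd Nat.card_pos.ne' Nat.card_pos.ne').mpr
      (Subgroup.card_subgroup_dvd_card X) p

/-- A Sylow `p`-subgroup of a subgroup `M` containing a Sylow `p`-subgroup of `G` is a Sylow
`p`-subgroup of `G`. -/
theorem exists_sylow_of_sylow_subgroup {G : Type*} [Group G] [Finite G] {p : ℕ} [Fact p.Prime]
    (S : Sylow p G) {M : Subgroup G} (hS : (S : Subgroup G) ≤ M) (a : Sylow p ↥M) :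
    ∃ A : Sylow p G, (A : Subgroup G) = (a : Subgroup ↥M).map M.subtype := by
  have hp : p.Prime := Fact.out
  have hk : (Nat.card M).factorization p = (Nat.card G).factorization p := by
    apply le_antisymm
    · exact (Nat.factorization_le_iff_dvd Nat.card_pos.ne' Nat.card_pos.ne').mpr
        (Subgroup.card_subgroup_dvd_card M) p
    · have h1 : p ^ (Nat.card G).factorization p ∣ Nat.card M := by
        rw [← S.card_eq_multiplicity]; exact Subgroup.card_dvd_of_le hS
      exact (hp.pow_dvd_iff_le_factorization Nat.card_pos.ne').mp h1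
  have hc : Nat.card ((a : Subgroup ↥M).map M.subtype) = p ^ (Nat.card G).factorization p := by
    rw [Subgroup.card_map_of_injective M.subtype_injective, a.card_eq_multiplicity, hk]
  exact ⟨Sylow.ofCard _ hc, rfl⟩

/-- Regularity of `M`, restated in the ambient group. -/
theorem glink_of_regular {G : Type*} [Group G] [Finite G] {p : ℕ} [Fact p.Prime]
    {f : Subgroup G → Set (Subgroup G)} (hf : Cfsg.IsNormalizerFunctor p f) (S : Sylow p G)
    {M : Subgroup G} (hS : (S : Subgroup G) ≤ M) (hr : Cfsg.IsFunctorRegular p f M)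
    (A B : Sylow p G) (hA : (A : Subgroup G) ≤ M) (hB : (B : Subgroup G) ≤ M) (hne : A ≠ B)
    (hmeet : (A : Subgroup G) ⊓ (B : Subgroup G) ≠ ⊥) :
    Relation.ReflTransGen (GLink p f M ((A : Subgroup G) ⊓ (B : Subgroup G))) A B := by
  have hmemD : ∀ y (hyM : y ∈ M), y ∈ (A : Subgroup G) ⊓ (B : Subgroup G) →
      (⟨y, hyM⟩ : ↥M) ∈ ((A.subtype hA : Sylow p ↥M) : Subgroup ↥M) ⊓
        ((B.subtype hB : Sylow p ↥M) : Subgroup ↥M) := by
    intro y hyM hy
    rw [Sylow.coe_subtype, Sylow.coe_subtype]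
    exact Subgroup.mem_inf.mpr ⟨Subgroup.mem_subgroupOf.mpr hy.1, Subgroup.mem_subgroupOf.mpr hy.2⟩
  have hne' : A.subtype hA ≠ B.subtype hB := by
    intro h
    apply hne
    have h1 := congrArg (fun Q : Sylow p ↥M => (Q : Subgroup ↥M).map M.subtype) h
    simp only [Sylow.coe_subtype, Subgroup.map_subgroupOf_eq_of_le hA,
      Subgroup.map_subgroupOf_eq_of_le hB] at h1
    exact Sylow.ext h1
  have hmeet' : ((A.subtype hA : Sylow p ↥M) : Subgroup ↥M) ⊓
      ((B.subtype hB : Sylow p ↥M) : Subgroup ↥M) ≠ ⊥ := by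
    intro h
    apply hmeet
    rw [eq_bot_iff]
    intro y hy
    have hyM : y ∈ M := hA hy.1
    have := hmemD y hyM hy
    rw [h, Subgroup.mem_bot] at this
    rw [Subgroup.mem_bot]
    exact congrArg Subtype.val this
  obtain ⟨n, c, X, x, hc0, hcl, hstep⟩ := hr (A.subtype hA) (B.subtype hB) hne' hmeet'
  choose c' hc' using fun i => exists_sylow_of_sylow_subgroup S hS (c i)
  have h0 : c' 0 = A := by
    apply Sylow.ext
    rw [hc', hc0, Sylow.coe_subtype, Subgroup.map_subgroupOf_eq_of_le hA]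
  have hl : c' (Fin.last n) = B := by
    apply Sylow.ext
    rw [hc', hcl, Sylow.coe_subtype, Subgroup.map_subgroupOf_eq_of_le hB]
  have key := reflTransGen_of_fin (GLink p f M ((A : Subgroup G) ⊓ (B : Subgroup G))) n c'
    (fun i => by
      obtain ⟨hX1, hX2, hxX, hconj, hD⟩ := hstep i
      rw [mem_sylowMembers_iff] at hX1 hX2
      obtain ⟨⟨X₀, ⟨P', F, hF, hX₀⟩, hXi⟩, hcard1⟩ := hX1
      have hcard2 := hX2.2
      obtain ⟨P, hP⟩ := exists_sylow_of_sylow_subgroup S hS P'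
      have hFP : F ∈ f (P : Subgroup G) := by rw [hP]; exact hF
      have hnorm := ((hf (P : Subgroup G) P.isPGroup').1 F hFP).2
      have hXeq : X i = (M ⊓ Subgroup.normalizer (F : Set G)).subgroupOf M := by
        rw [← hXi, hX₀]
      have hP'X : (P' : Subgroup ↥M) ≤ X i := by
        intro y hy
        rw [hXeq, Subgroup.mem_subgroupOf]
        refine Subgroup.mem_inf.mpr ⟨y.2, hnorm (Subgroup.le_normalizer ?_)⟩
        rw [hP]; exact Subgroup.mem_map_of_mem _ hy
      have hle1 : (c i.castSucc : Subgroup ↥M) ≤ X i := sylow_le_of_card_inf _ P' _ hP'X hcard1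
      have hle2 : (c i.succ : Subgroup ↥M) ≤ X i := sylow_le_of_card_inf _ P' _ hP'X hcard2
      have hmapN : ∀ j, (c j : Subgroup ↥M) ≤ X i →
          (c' j : Subgroup G) ≤ Subgroup.normalizer (F : Set G) := by
        intro j hj
        rw [hc']
        rintro _ ⟨y, hy, rfl⟩
        have := hj hy
        rw [hXeq, Subgroup.mem_subgroupOf] at this
        exact (Subgroup.mem_inf.mp this).2
      refine ⟨?_, ?_, ?_, P, F, (x i : G), ?_, hFP, hmapN _ hle1, hmapN _ hle2, (x i).2, ?_, ?_⟩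
      · rw [hc']; exact Subgroup.map_subtype_le _
      · rw [hc']; exact Subgroup.map_subtype_le _
      · intro y hy
        rw [hc']
        have hyM : y ∈ M := hA hy.1
        exact ⟨⟨y, hyM⟩, (hD (hmemD y hyM hy)).1, rfl⟩
      · rw [hP]; exact Subgroup.map_subtype_le _
      · have := hxX
        rw [hXeq, Subgroup.mem_subgroupOf] at this
        exact (Subgroup.mem_inf.mp this).2
      · rw [hc', hc', ← hconj]
        ext z
        rw [mem_subgroupConjRight_iff, Subgroup.mem_map, Subgroup.mem_map]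
        constructor
        · rintro ⟨v, hv, hvz⟩
          have hvz' : (v : G) = (x i : G) * z * (x i : G)⁻¹ := hvz
          have hzM : z ∈ M := by
            have : z = (x i : G)⁻¹ * (v : G) * (x i : G) := by rw [hvz']; group
            rw [this]; exact M.mul_mem (M.mul_mem (M.inv_mem (x i).2) v.2) (x i).2
          refine ⟨⟨z, hzM⟩, ?_, rfl⟩
          rw [mem_subgroupConjRight_iff]
          have : x i * ⟨z, hzM⟩ * (x i)⁻¹ = v := Subtype.ext hvz'.symm
          rw [this]; exact hv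
        · rintro ⟨v, hv, rfl⟩
          rw [mem_subgroupConjRight_iff] at hv
          exact ⟨_, hv, rfl⟩)
  rw [h0, hl] at key
  exact key

/-- The step condition of `ControlsSylowIntersections`. -/
def StepProp {H : Type*} [Group H] (p : ℕ) (𝓕 : Set (Subgroup H)) (D : Subgroup H)
    (a b : Sylow p H) (X : Subgroup H) (x : H) : Prop :=
  X ∈ sylowMembers p 𝓕 (a : Subgroup H) ∧ X ∈ sylowMembers p 𝓕 (b : Subgroup H) ∧ x ∈ X ∧
    subgroupConjRight x (b : Subgroup H) = (a : Subgroup H) ∧ D ≤ (b : Subgroup H) ⊓ X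

/-- The ambient chain condition for `⊤` gives regularity of `⊤`. -/
theorem regular_top_of_glink {G : Type*} [Group G] [Finite G] {p : ℕ} [Fact p.Prime]
    {f : Subgroup G → Set (Subgroup G)} (S : Sylow p G)
    (hT : ∀ A B : Sylow p G, A ≠ B → (A : Subgroup G) ⊓ (B : Subgroup G) ≠ ⊥ →
      Relation.ReflTransGen (GLink p f ⊤ ((A : Subgroup G) ⊓ (B : Subgroup G))) A B) :
    Cfsg.IsFunctorRegular p f ⊤ := by
  intro S' T' hne hmeet
  obtain ⟨A, hA⟩ := exists_sylow_of_sylow_subgroup S (le_top : (S : Subgroup G) ≤ ⊤) S'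
  obtain ⟨B, hB⟩ := exists_sylow_of_sylow_subgroup S (le_top : (S : Subgroup G) ≤ ⊤) T'
  have hAS : A.subtype le_top = S' := by
    apply Sylow.ext
    rw [Sylow.coe_subtype, hA]
    exact Subgroup.comap_map_eq_self_of_injective (Subgroup.subtype_injective _) _
  have hBT : B.subtype le_top = T' := by
    apply Sylow.ext
    rw [Sylow.coe_subtype, hB]
    exact Subgroup.comap_map_eq_self_of_injective (Subgroup.subtype_injective _) _
  have hneAB : A ≠ B := by
    intro h; apply hne; rw [← hAS, ← hBT]; subst h; rfl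
  have hmemD : ∀ y : ↥(⊤ : Subgroup G), y ∈ (S' : Subgroup ↥(⊤ : Subgroup G)) ⊓ (T' : Subgroup _) →
      (y : G) ∈ (A : Subgroup G) ⊓ (B : Subgroup G) := by
    intro y hy
    rw [hA, hB]
    exact Subgroup.mem_inf.mpr ⟨Subgroup.mem_map_of_mem _ hy.1, Subgroup.mem_map_of_mem _ hy.2⟩
  have hmeetAB : (A : Subgroup G) ⊓ (B : Subgroup G) ≠ ⊥ := by
    intro h
    apply hmeet
    rw [eq_bot_iff]
    intro y hy
    have := hmemD y hy
    rw [h, Subgroup.mem_bot] at this
    rw [Subgroup.mem_bot]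
    exact Subtype.ext this
  have hchain := hT A B hneAB hmeetAB
  have hlift : ∀ A₁ B₁ : Sylow p G, GLink p f ⊤ ((A : Subgroup G) ⊓ (B : Subgroup G)) A₁ B₁ →
      ∃ (X : Subgroup ↥(⊤ : Subgroup G)) (x : ↥(⊤ : Subgroup G)),
        StepProp p ((fun X : Subgroup G => X.subgroupOf ⊤) '' functorFamily p f ⊤)
          ((S' : Subgroup ↥(⊤ : Subgroup G)) ⊓ (T' : Subgroup _))
          (A₁.subtype le_top) (B₁.subtype le_top) X x := by
    rintro A₁ B₁ ⟨-, -, hDB, P, F, x, -, hF, hAF, hBF, -, hxF, hconj⟩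
    have hXmem : (⊤ ⊓ Subgroup.normalizer (F : Set G)).subgroupOf ⊤ ∈
        (fun X : Subgroup G => X.subgroupOf ⊤) '' functorFamily p f ⊤ := by
      refine ⟨⊤ ⊓ Subgroup.normalizer (F : Set G), ⟨P.subtype le_top, F, ?_, rfl⟩, rfl⟩
      rw [Sylow.coe_subtype, Subgroup.map_subgroupOf_eq_of_le le_top]; exact hF
    have hle : ∀ Q : Sylow p G, (Q : Subgroup G) ≤ Subgroup.normalizer (F : Set G) →
        ((Q.subtype le_top : Sylow p ↥(⊤ : Subgroup G)) : Subgroup ↥(⊤ : Subgroup G)) ≤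
          (⊤ ⊓ Subgroup.normalizer (F : Set G)).subgroupOf ⊤ := by
      intro Q hQ y hy
      rw [Sylow.coe_subtype, Subgroup.mem_subgroupOf] at hy
      exact Subgroup.mem_subgroupOf.mpr (Subgroup.mem_inf.mpr ⟨Subgroup.mem_top _, hQ hy⟩)
    refine ⟨(⊤ ⊓ Subgroup.normalizer (F : Set G)).subgroupOf ⊤, ⟨x, Subgroup.mem_top x⟩, ?_, ?_,
      ?_, ?_, ?_⟩
    · exact (mem_sylowMembers_iff _ _ _).mpr ⟨hXmem, card_inf_of_sylow_le _ _ (hle A₁ hAF)⟩
    · exact (mem_sylowMembers_iff _ _ _).mpr ⟨hXmem, card_inf_of_sylow_le _ _ (hle B₁ hBF)⟩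
    · exact Subgroup.mem_subgroupOf.mpr (Subgroup.mem_inf.mpr ⟨Subgroup.mem_top _, hxF⟩)
    · ext z
      rw [mem_subgroupConjRight_iff, Sylow.coe_subtype, Sylow.coe_subtype,
        Subgroup.mem_subgroupOf, Subgroup.mem_subgroupOf, ← hconj, mem_subgroupConjRight_iff]
      rfl
    · intro y hy
      have h1 : (y : G) ∈ (B₁ : Subgroup G) := hDB (hmemD y hy)
      refine Subgroup.mem_inf.mpr ⟨?_, ?_⟩
      · rw [Sylow.coe_subtype]; exact Subgroup.mem_subgroupOf.mpr h1
      · exact Subgroup.mem_subgroupOf.mpr (Subgroup.mem_inf.mpr ⟨Subgroup.mem_top _, hBF h1⟩)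
  have h2 : Relation.ReflTransGen (fun a b => ∃ (X : Subgroup ↥(⊤ : Subgroup G))
      (x : ↥(⊤ : Subgroup G)),
        StepProp p ((fun X : Subgroup G => X.subgroupOf ⊤) '' functorFamily p f ⊤)
          ((S' : Subgroup ↥(⊤ : Subgroup G)) ⊓ (T' : Subgroup _)) a b X x)
      (A.subtype le_top) (B.subtype le_top) :=
    Relation.ReflTransGen.lift
      (fun A₁ : Sylow p G => (A₁.subtype le_top : Sylow p ↥(⊤ : Subgroup G))) hlift _ _ hchain
  obtain ⟨n, c, X, x, h0, hl, hQ⟩ := fin_of_reflTransGen _ h2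
  exact ⟨n, c, X, x, h0.trans hAS, hl.trans hBT, hQ⟩

/-- Let p be a prime dividing the order of the finite group G, f an equivariant assignment of a set of subgroups f(P) of P to every p-subgroup P, each normalized by N_G(P), and S a Sylow p-subgroup. If G = G₁G₂ for subgroups G₁, G₂ both containing S and both regular for f (in each Gᵢ, the family of normalizers in Gᵢ of the members of f(P), P a Sylow p-subgroup of Gᵢ, controls Sylow p-intersections), then G itself is regular for f. -/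
theorem result {G : Type*} [Group G] [Finite G] (p : ℕ) [Fact p.Prime] (hdiv : p ∣ Nat.card G)
    (f : Subgroup G → Set (Subgroup G)) (hf : Cfsg.IsNormalizerFunctor p f) (S : Sylow p G)
    (G₁ G₂ : Subgroup G) (h₁ : (S : Subgroup G) ≤ G₁) (h₂ : (S : Subgroup G) ≤ G₂)
    (hprod : ∀ g : G, ∃ g₁ ∈ G₁, ∃ g₂ ∈ G₂, g = g₁ * g₂)
    (hr₁ : Cfsg.IsFunctorRegular p f G₁) (hr₂ : Cfsg.IsFunctorRegular p f G₂) :
    Cfsg.IsFunctorRegular p f ⊤ := by
  have hG₁ := glink_of_regular hf S h₁ hr₁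
  have hG₂ := glink_of_regular hf S h₂ hr₂
  apply regular_top_of_glink S
  intro A B hne hmeet
  obtain ⟨u, hu⟩ := MulAction.exists_smul_eq G S A
  obtain ⟨v, hv⟩ := MulAction.exists_smul_eq G S B
  obtain ⟨g₁, hg₁, g₂, hg₂, hg⟩ := hprod (v⁻¹ * u)
  obtain ⟨w₀, hw₀⟩ : ∃ w₀, w₀ = g₂ * u⁻¹ := ⟨_, rfl⟩
  have hA₁ : w₀ • A = g₂ • S := by
    rw [hw₀, ← hu, smul_smul]; congr 1; group
  have hB₁ : w₀ • B = g₁⁻¹ • S := by
    rw [hw₀, ← hv, smul_smul]; congr 1
    have : u = v * (g₁ * g₂) := by rw [← hg]; group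
    rw [this]; group
  have hA₁le : ((w₀ • A : Sylow p G) : Subgroup G) ≤ G₂ := by
    rw [hA₁]; intro z hz
    have h1 : g₂⁻¹ * z * g₂ ∈ G₂ := h₂ ((mem_sylow_smul_iff S g₂ z).mp hz)
    have : z = g₂ * (g₂⁻¹ * z * g₂) * g₂⁻¹ := by group
    rw [this]; exact G₂.mul_mem (G₂.mul_mem hg₂ h1) (G₂.inv_mem hg₂)
  have hB₁le : ((w₀ • B : Sylow p G) : Subgroup G) ≤ G₁ := by
    rw [hB₁]; intro z hz
    have h1 : g₁⁻¹⁻¹ * z * g₁⁻¹ ∈ G₁ := h₁ ((mem_sylow_smul_iff S g₁⁻¹ z).mp hz)
    have : z = g₁⁻¹ * (g₁⁻¹⁻¹ * z * g₁⁻¹) * g₁ := by group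
    rw [this]; exact G₁.mul_mem (G₁.mul_mem (G₁.inv_mem hg₁) h1) hg₁
  have hD₁p : IsPGroup p ↥(((w₀ • A : Sylow p G) : Subgroup G) ⊓
      ((w₀ • B : Sylow p G) : Subgroup G)) := (w₀ • A).isPGroup'.to_le inf_le_left
  obtain ⟨h, hh, hD⟩ := pGroup_conj_into_sylow S (G₁ ⊓ G₂) (le_inf h₁ h₂) hD₁p
    (le_inf (inf_le_right.trans hB₁le) (inf_le_left.trans hA₁le))
  obtain ⟨w, hw⟩ : ∃ w, w = h⁻¹ * w₀ := ⟨_, rfl⟩
  have hwA : ∀ z, z ∈ (w • A : Sylow p G) ↔ h * z * h⁻¹ ∈ (w₀ • A : Sylow p G) := by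
    intro z
    rw [hw, ← smul_smul, mem_sylow_smul_iff, inv_inv]
  have hwB : ∀ z, z ∈ (w • B : Sylow p G) ↔ h * z * h⁻¹ ∈ (w₀ • B : Sylow p G) := by
    intro z
    rw [hw, ← smul_smul, mem_sylow_smul_iff, inv_inv]
  have hA₂le : ((w • A : Sylow p G) : Subgroup G) ≤ G₂ := by
    intro z hz
    have h1 := hA₁le ((hwA z).mp hz)
    have : z = h⁻¹ * (h * z * h⁻¹) * h := by group
    rw [this]; exact G₂.mul_mem (G₂.mul_mem (G₂.inv_mem hh.2) h1) hh.2
  have hB₂le : ((w • B : Sylow p G) : Subgroup G) ≤ G₁ := by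
    intro z hz
    have h1 := hB₁le ((hwB z).mp hz)
    have : z = h⁻¹ * (h * z * h⁻¹) * h := by group
    rw [this]; exact G₁.mul_mem (G₁.mul_mem (G₁.inv_mem hh.1) h1) hh.1
  have hD₂S : ((w • A : Sylow p G) : Subgroup G) ⊓ ((w • B : Sylow p G) : Subgroup G) ≤
      (S : Subgroup G) := by
    intro z hz
    have h1 := hD (h * z * h⁻¹) (Subgroup.mem_inf.mpr ⟨(hwA z).mp hz.1, (hwB z).mp hz.2⟩)
    have : h⁻¹ * (h * z * h⁻¹) * h = z := by group
    rwa [this] at h1
  have hD₂ne : ((w • A : Sylow p G) : Subgroup G) ⊓ ((w • B : Sylow p G) : Subgroup G) ≠ ⊥ := by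
    intro hbot
    apply hmeet
    rw [eq_bot_iff]
    intro y hy
    have h1 : w * y * w⁻¹ ∈ ((w • A : Sylow p G) : Subgroup G) ⊓
        ((w • B : Sylow p G) : Subgroup G) :=
      Subgroup.mem_inf.mpr ⟨conj_mem_sylow_smul A w hy.1, conj_mem_sylow_smul B w hy.2⟩
    rw [hbot, Subgroup.mem_bot] at h1
    rw [Subgroup.mem_bot]
    have : y = w⁻¹ * (w * y * w⁻¹) * w := by group
    rw [this, h1]; group
  have hc1 : Relation.ReflTransGen (GLink p f ⊤ (((w • A : Sylow p G) : Subgroup G) ⊓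
      ((w • B : Sylow p G) : Subgroup G))) (w • A) S := by
    by_cases hAS : w • A = S
    · rw [hAS]
    · have hm : ((w • A : Sylow p G) : Subgroup G) ⊓ (S : Subgroup G) ≠ ⊥ := by
        intro hbot
        apply hD₂ne
        rw [eq_bot_iff, ← hbot]
        exact le_inf inf_le_left hD₂S
      exact Relation.ReflTransGen.mono
        (fun a b hab => hab.mono le_top (le_inf inf_le_left hD₂S)) _ _
        (hG₂ (w • A) S hA₂le h₂ hAS hm)
  have hc2 : Relation.ReflTransGen (GLink p f ⊤ (((w • A : Sylow p G) : Subgroup G) ⊓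
      ((w • B : Sylow p G) : Subgroup G))) S (w • B) := by
    by_cases hSB : S = w • B
    · rw [← hSB]
    · have hm : (S : Subgroup G) ⊓ ((w • B : Sylow p G) : Subgroup G) ≠ ⊥ := by
        intro hbot
        apply hD₂ne
        rw [eq_bot_iff, ← hbot]
        exact le_inf hD₂S inf_le_right
      exact Relation.ReflTransGen.mono
        (fun a b hab => hab.mono le_top (le_inf hD₂S inf_le_right)) _ _
        (hG₁ S (w • B) h₁ hB₂le hSB hm)
  have hc := hc1.trans hc2
  have hc' : Relation.ReflTransGen (GLink p f ⊤ ((((w • A : Sylow p G) : Subgroup G) ⊓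
      ((w • B : Sylow p G) : Subgroup G)).map (MulAut.conj w⁻¹).toMonoidHom))
      (w⁻¹ • w • A) (w⁻¹ • w • B) :=
    Relation.ReflTransGen.lift (fun Q : Sylow p G => w⁻¹ • Q)
      (fun a b hab => GLink.conj hf hab w⁻¹) _ _ hc
  rw [inv_smul_smul, inv_smul_smul] at hc'
  refine Relation.ReflTransGen.mono (fun a b hab => hab.mono le_rfl ?_) _ _ hc'
  intro y hy
  rw [mem_map_conj_iff, inv_inv]
  exact Subgroup.mem_inf.mpr ⟨conj_mem_sylow_smul A w hy.1, conj_mem_sylow_smul B w hy.2⟩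

end Cfsg.Agent.S2957
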