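import Cfsg.Statements.S2956
import Cfsg.Agent.S2957
import Cfsg.Agent.Lib.helper55.Conj
-- import your own Cfsg.Agent.* helpers here

set_option autoImplicit false
open Cfsg

namespace Cfsg.Agent.S2956

open Cfsg.Agent.Lib.helper55

/-- Every `p`-local subgroup lies in a maximal `p`-local subgroup. -/
theorem exists_maximal_plocal {G : Type*} [Group G] [Finite G] {p : ℕ} {N : Subgroup G}
    (hN : IsPLocal p N) : ∃ M, IsMaximalPLocal p M ∧ N ≤ M := by
  have : Nonempty {M : Subgroup G // IsPLocal p M ∧ N ≤ M} := ⟨⟨N, hN, le_rfl⟩⟩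
  obtain ⟨⟨M, hM1, hM2⟩, hmax⟩ := Finite.exists_max
    (α := {M : Subgroup G // IsPLocal p M ∧ N ≤ M}) (fun M => Nat.card (M : Subgroup G))
  refine ⟨M, ⟨hM1, fun M' hM' hle => ?_⟩, hM2⟩
  have h1 := hmax ⟨M', hM', hM2.trans hle⟩
  exact (Subgroup.eq_of_le_of_card_ge hle h1).symm

/-- In a Sylow `p`-subgroup, a proper subgroup is properly contained in its normalizer. -/
theorem card_lt_card_inf_normalizer {G : Type*} [Group G] [Finite G] {p : ℕ} [Fact p.Prime]
    (S : Sylow p G) {D : Subgroup G} (hDS : D ≤ S) (hne : D ≠ S) :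
    Nat.card D < Nat.card ((S : Subgroup G) ⊓ Subgroup.normalizer (D : Set G) : Subgroup G) := by
  have : Group.IsNilpotent (S : Subgroup G) := S.isPGroup'.isNilpotent
  have hnc := Group.normalizerCondition_of_isNilpotent (G := (S : Subgroup G))
  have hlt : D.subgroupOf (S : Subgroup G) < ⊤ := by
    rw [lt_top_iff_ne_top]; intro htop
    exact hne (le_antisymm hDS (Subgroup.subgroupOf_eq_top.mp htop))
  obtain ⟨g, hgN, hgD⟩ := SetLike.exists_of_lt (hnc _ hlt)
  have hgn : (g : G) ∈ Subgroup.normalizer (D : Set G) := by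
    apply mem_normalizer_of_conj_mem
    intro d hd
    have h1 : (⟨d, hDS hd⟩ : (S : Subgroup G)) ∈ D.subgroupOf (S : Subgroup G) :=
      Subgroup.mem_subgroupOf.mpr hd
    have h2 := (Subgroup.mem_normalizer_iff.mp hgN _).mp h1
    rw [Subgroup.mem_subgroupOf] at h2
    simpa using h2
  have hle : D ≤ (S : Subgroup G) ⊓ Subgroup.normalizer (D : Set G) :=
    le_inf hDS Subgroup.le_normalizer
  have hgmem : (g : G) ∈ (S : Subgroup G) ⊓ Subgroup.normalizer (D : Set G) :=
    Subgroup.mem_inf.mpr ⟨g.2, hgn⟩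
  by_contra hcon
  push Not at hcon
  have heq := Subgroup.eq_of_le_of_card_ge hle hcon
  apply hgD
  rw [Subgroup.mem_subgroupOf, heq]; exact hgmem

theorem pow_succ_dvd_card_normalizer {G : Type*} [Group G] [Finite G] {p n : ℕ} [Fact p.Prime]
    {P : Subgroup G} (hP : Nat.card P = p ^ n) (hdvd : p ^ (n + 1) ∣ Nat.card G) :
    p ^ (n + 1) ∣ Nat.card (Subgroup.normalizer (P : Set G)) := by
  have h1 := Sylow.prime_dvd_card_quotient_normalizer hdvd hP
  have h2 := Subgroup.card_eq_card_quotient_mul_card_subgroup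
    (P.comap (Subgroup.normalizer (P : Set G)).subtype)
  have h3 : Nat.card (P.comap (Subgroup.normalizer (P : Set G)).subtype) = p ^ n := by
    rw [← hP]
    exact Nat.card_congr (Subgroup.subgroupOfEquivOfLe Subgroup.le_normalizer).toEquiv
  rw [h2, h3, pow_succ']
  exact Nat.mul_dvd_mul_right h1 _

/-- A `p`-subgroup of `M` lies in a Sylow `p`-subgroup `U` of `G` with `U ∩ M` Sylow in `M`. -/
theorem exists_sylow_of_le {G : Type*} [Group G] [Finite G] {p : ℕ} [Fact p.Prime]
    (M : Subgroup G) {R₁ : Subgroup G} (hR₁ : IsPGroup p R₁) (hR₁M : R₁ ≤ M) :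
    ∃ U : Sylow p G, R₁ ≤ U ∧
      Nat.card ((U : Subgroup G) ⊓ M : Subgroup G) = p ^ (Nat.card M).factorization p := by
  have hp : p.Prime := Fact.out
  have hR' : IsPGroup p (R₁.subgroupOf M) := hR₁.comap_subtype
  obtain ⟨P₀, hP₀⟩ := hR'.exists_le_sylow
  have hRp : IsPGroup p ((P₀ : Subgroup ↥M).map M.subtype) :=
    IsPGroup.of_card (n := (Nat.card M).factorization p) (by
      rw [Subgroup.card_map_of_injective M.subtype_injective]; exact P₀.card_eq_multiplicity)
  obtain ⟨U, hU⟩ := hRp.exists_le_sylow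
  have hR₁R : R₁ ≤ (P₀ : Subgroup ↥M).map M.subtype := by
    rw [← Subgroup.map_subgroupOf_eq_of_le hR₁M]
    exact Subgroup.map_mono hP₀
  refine ⟨U, hR₁R.trans hU, ?_⟩
  obtain ⟨a, ha⟩ := IsPGroup.iff_card.mp
    (U.isPGroup'.to_le (inf_le_left : (U : Subgroup G) ⊓ M ≤ U))
  rw [ha]
  congr 1
  apply le_antisymm
  · apply (hp.pow_dvd_iff_le_factorization Nat.card_pos.ne').mp
    rw [← ha]; exact Subgroup.card_dvd_of_le inf_le_right
  · have h1 : p ^ (Nat.card M).factorization p ∣ p ^ a := by
      rw [← ha, ← P₀.card_eq_multiplicity,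
        ← Subgroup.card_map_of_injective M.subtype_injective]
      exact Subgroup.card_dvd_of_le (le_inf hU (Subgroup.map_subtype_le _))
    exact (Nat.pow_dvd_pow_iff_le_right hp.one_lt).mp h1

/-- Conjugating by an element of `M` does not change the order of the intersection with `M`. -/
theorem card_smul_inf {G : Type*} [Group G] {p : ℕ} (U : Sylow p G) (M : Subgroup G) {x : G}
    (hx : x ∈ M) :
    Nat.card (((x • U : Sylow p G) : Subgroup G) ⊓ M : Subgroup G) =
      Nat.card ((U : Subgroup G) ⊓ M : Subgroup G) := by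
  have h1 : M.map (MulAut.conj x).toMonoidHom = M :=
    (mem_normalizer_iff_map_conj M x).mp (Subgroup.le_normalizer hx)
  have h2 : ((x • U : Sylow p G) : Subgroup G) ⊓ M =
      ((U : Subgroup G) ⊓ M).map (MulAut.conj x).toMonoidHom := by
    rw [Subgroup.map_inf _ _ _ (MulAut.conj x).injective, h1, coe_smul_sylow]
  rw [h2, Subgroup.card_map_of_injective (MulAut.conj x).injective]

/-- One link in `M`, stated in the ambient group. -/
def MLink {G : Type*} [Group G] (p : ℕ) (f : Subgroup G → Set (Subgroup G)) (M D : Subgroup G)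
    (A B : Subgroup G) : Prop :=
  A ≤ M ∧ B ≤ M ∧ Nat.card A = p ^ (Nat.card M).factorization p ∧
  Nat.card B = p ^ (Nat.card M).factorization p ∧ D ≤ B ∧
  ∃ (P F : Subgroup G) (x : G), P ≤ M ∧ Nat.card P = p ^ (Nat.card M).factorization p ∧
    F ∈ f P ∧ A ≤ Subgroup.normalizer (F : Set G) ∧ B ≤ Subgroup.normalizer (F : Set G) ∧
    x ∈ M ∧ x ∈ Subgroup.normalizer (F : Set G) ∧ Cfsg.subgroupConjRight x B = A

/-- Regularity of `M`, restated in the ambient group. -/
theorem mlink_of_regular {G : Type*} [Group G] [Finite G] {p : ℕ} [Fact p.Prime]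
    {f : Subgroup G → Set (Subgroup G)} (hf : Cfsg.IsNormalizerFunctor p f) {M : Subgroup G}
    (hr : Cfsg.IsFunctorRegular p f M) (A B : Subgroup G) (hA : A ≤ M) (hB : B ≤ M)
    (hAc : Nat.card A = p ^ (Nat.card M).factorization p)
    (hBc : Nat.card B = p ^ (Nat.card M).factorization p) (hne : A ≠ B)
    (hmeet : A ⊓ B ≠ ⊥) : Relation.ReflTransGen (MLink p f M (A ⊓ B)) A B := by
  have hAc' : Nat.card (A.subgroupOf M) = p ^ (Nat.card M).factorization p := by
    rw [← hAc]; exact Nat.card_congr (Subgroup.subgroupOfEquivOfLe hA).toEquiv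
  have hBc' : Nat.card (B.subgroupOf M) = p ^ (Nat.card M).factorization p := by
    rw [← hBc]; exact Nat.card_congr (Subgroup.subgroupOfEquivOfLe hB).toEquiv
  obtain ⟨a, ha⟩ : ∃ a : Sylow p ↥M, (a : Subgroup ↥M) = A.subgroupOf M :=
    ⟨Sylow.ofCard _ hAc', rfl⟩
  obtain ⟨b, hb⟩ : ∃ b : Sylow p ↥M, (b : Subgroup ↥M) = B.subgroupOf M :=
    ⟨Sylow.ofCard _ hBc', rfl⟩
  have hmemD : ∀ y (hyM : y ∈ M), y ∈ A ⊓ B →
      (⟨y, hyM⟩ : ↥M) ∈ (a : Subgroup ↥M) ⊓ (b : Subgroup ↥M) := by
    intro y hyM hy
    rw [ha, hb]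
    exact Subgroup.mem_inf.mpr ⟨Subgroup.mem_subgroupOf.mpr hy.1, Subgroup.mem_subgroupOf.mpr hy.2⟩
  have hne' : a ≠ b := by
    intro h
    apply hne
    have h1 : (a : Subgroup ↥M).map M.subtype = (b : Subgroup ↥M).map M.subtype := by rw [h]
    rw [ha, hb, Subgroup.map_subgroupOf_eq_of_le hA, Subgroup.map_subgroupOf_eq_of_le hB] at h1
    exact h1
  have hmeet' : (a : Subgroup ↥M) ⊓ (b : Subgroup ↥M) ≠ ⊥ := by
    intro h
    apply hmeet
    rw [eq_bot_iff]
    intro y hy
    have hyM : y ∈ M := hA hy.1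
    have := hmemD y hyM hy
    rw [h, Subgroup.mem_bot] at this
    rw [Subgroup.mem_bot]
    exact congrArg Subtype.val this
  obtain ⟨n, c, X, x, hc0, hcl, hstep⟩ := hr a b hne' hmeet'
  have h0 : ((c 0 : Sylow p ↥M) : Subgroup ↥M).map M.subtype = A := by
    rw [hc0, ha, Subgroup.map_subgroupOf_eq_of_le hA]
  have hl : ((c (Fin.last n) : Sylow p ↥M) : Subgroup ↥M).map M.subtype = B := by
    rw [hcl, hb, Subgroup.map_subgroupOf_eq_of_le hB]
  have hcard : ∀ P' : Sylow p ↥M,
      Nat.card ((P' : Subgroup ↥M).map M.subtype) = p ^ (Nat.card M).factorization p := by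
    intro P'
    rw [Subgroup.card_map_of_injective M.subtype_injective]; exact P'.card_eq_multiplicity
  have key : Relation.ReflTransGen (MLink p f M (A ⊓ B))
      (((c 0 : Sylow p ↥M) : Subgroup ↥M).map M.subtype)
      (((c (Fin.last n) : Sylow p ↥M) : Subgroup ↥M).map M.subtype) :=
    Cfsg.Agent.S2957.reflTransGen_of_fin (MLink p f M (A ⊓ B)) n
      (fun i => ((c i : Sylow p ↥M) : Subgroup ↥M).map M.subtype)
    (fun i => by
      obtain ⟨hX1, hX2, hxX, hconj, hD⟩ := hstep i
      rw [mem_sylowMembers_iff] at hX1 hX2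
      obtain ⟨⟨X₀, ⟨P', F, hF, hX₀⟩, hXi⟩, hcard1⟩ := hX1
      have hcard2 := hX2.2
      have hnorm := ((hf _ (IsPGroup.of_card (hcard P'))).1 F hF).2
      have hXeq : X i = (M ⊓ Subgroup.normalizer (F : Set G)).subgroupOf M := by
        rw [← hXi, hX₀]
      have hP'X : (P' : Subgroup ↥M) ≤ X i := by
        intro y hy
        rw [hXeq, Subgroup.mem_subgroupOf]
        exact Subgroup.mem_inf.mpr ⟨y.2, hnorm (Subgroup.le_normalizer
          (Subgroup.mem_map_of_mem _ hy))⟩
      have hle1 : (c i.castSucc : Subgroup ↥M) ≤ X i :=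
        Cfsg.Agent.S2957.sylow_le_of_card_inf _ P' _ hP'X hcard1
      have hle2 : (c i.succ : Subgroup ↥M) ≤ X i :=
        Cfsg.Agent.S2957.sylow_le_of_card_inf _ P' _ hP'X hcard2
      have hmapN : ∀ j, (c j : Subgroup ↥M) ≤ X i →
          (c j : Subgroup ↥M).map M.subtype ≤ Subgroup.normalizer (F : Set G) := by
        intro j hj
        rintro _ ⟨y, hy, rfl⟩
        have := hj hy
        rw [hXeq, Subgroup.mem_subgroupOf] at this
        exact (Subgroup.mem_inf.mp this).2
      refine ⟨Subgroup.map_subtype_le _, Subgroup.map_subtype_le _, hcard _, hcard _, ?_,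
        (P' : Subgroup ↥M).map M.subtype, F, (x i : G), Subgroup.map_subtype_le _, hcard P', hF,
        hmapN _ hle1, hmapN _ hle2, (x i).2, ?_, ?_⟩
      · intro y hy
        have hyM : y ∈ M := hA hy.1
        exact ⟨⟨y, hyM⟩, (hD (hmemD y hyM hy)).1, rfl⟩
      · have := hxX
        rw [hXeq, Subgroup.mem_subgroupOf] at this
        exact (Subgroup.mem_inf.mp this).2
      · rw [← hconj]
        ext z
        rw [mem_subgroupConjRight_iff, Subgroup.mem_map, Subgroup.mem_map]
        constructor
        · rintro ⟨v, hv, hvz⟩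
          have hvz' : (v : G) = (x i : G) * z * (x i : G)⁻¹ := hvz
          have hzM : z ∈ M := by
            have : z = (x i : G)⁻¹ * (v : G) * (x i : G) := by rw [hvz']; group
            rw [this]; exact M.mul_mem (M.mul_mem (M.inv_mem (x i).2) v.2) (x i).2
          refine ⟨⟨z, hzM⟩, ?_, rfl⟩
          rw [mem_subgroupConjRight_iff]
          have : x i * ⟨z, hzM⟩ * (x i)⁻¹ = v := Subtype.ext hvz'.symm
          rw [this]; exact hv
        · rintro ⟨v, hv, rfl⟩
          rw [mem_subgroupConjRight_iff] at hv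
          exact ⟨_, hv, rfl⟩)
  rw [h0, hl] at key
  exact key

/-- One symmetric link for a family `𝓔`, over `D`. -/
def CLink {G : Type*} [Group G] (p : ℕ) (𝓔 : Set (Subgroup G)) (D : Subgroup G)
    (A B : Sylow p G) : Prop :=
  ∃ (X : Subgroup G) (x : G), X ∈ sylowMembers p 𝓔 (A : Subgroup G) ∧
    X ∈ sylowMembers p 𝓔 (B : Subgroup G) ∧ x ∈ X ∧
    subgroupConjRight x (B : Subgroup G) = (A : Subgroup G) ∧
    D ≤ (A : Subgroup G) ∧ D ≤ (B : Subgroup G) ∧ D ≤ X

theorem CLink.symm {G : Type*} [Group G] {p : ℕ} {𝓔 : Set (Subgroup G)} {D : Subgroup G}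
    {A B : Sylow p G} (h : CLink p 𝓔 D A B) : CLink p 𝓔 D B A := by
  obtain ⟨X, x, h1, h2, hx, hconj, hDA, hDB, hDX⟩ := h
  refine ⟨X, x⁻¹, h2, h1, X.inv_mem hx, ?_, hDB, hDA, hDX⟩
  rw [← hconj, ← subgroupConjRight_mul, mul_inv_cancel, subgroupConjRight_one]

theorem CLink.mono {G : Type*} [Group G] {p : ℕ} {𝓔 : Set (Subgroup G)} {D D' : Subgroup G}
    {A B : Sylow p G} (h : CLink p 𝓔 D A B) (hD : D' ≤ D) : CLink p 𝓔 D' A B := by
  obtain ⟨X, x, h1, h2, hx, hconj, hDA, hDB, hDX⟩ := h
  exact ⟨X, x, h1, h2, hx, hconj, hD.trans hDA, hD.trans hDB, hD.trans hDX⟩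

/-- Sylow subgroups linked by a chain over `D`. -/
def Linked {G : Type*} [Group G] (p : ℕ) (𝓔 : Set (Subgroup G)) (D : Subgroup G)
    (A B : Sylow p G) : Prop :=
  Relation.ReflTransGen (CLink p 𝓔 D) A B

theorem Linked.symm {G : Type*} [Group G] {p : ℕ} {𝓔 : Set (Subgroup G)} {D : Subgroup G}
    {A B : Sylow p G} (h : Linked p 𝓔 D A B) : Linked p 𝓔 D B A := by
  unfold Linked at h ⊢
  induction h with
  | refl => exact Relation.ReflTransGen.refl
  | tail _ hbc ih => exact Relation.ReflTransGen.head (CLink.symm hbc) ih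

theorem Linked.trans {G : Type*} [Group G] {p : ℕ} {𝓔 : Set (Subgroup G)} {D : Subgroup G}
    {A B C : Sylow p G} (h : Linked p 𝓔 D A B) (h' : Linked p 𝓔 D B C) : Linked p 𝓔 D A C :=
  Relation.ReflTransGen.trans h h'

theorem Linked.mono {G : Type*} [Group G] {p : ℕ} {𝓔 : Set (Subgroup G)} {D D' : Subgroup G}
    {A B : Sylow p G} (h : Linked p 𝓔 D A B) (hD : D' ≤ D) : Linked p 𝓔 D' A B :=
  Relation.ReflTransGen.mono (fun _ _ h => CLink.mono h hD) _ _ h

/-- A single link through a member `X` of the family. -/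
theorem linked_single {G : Type*} [Group G] [Finite G] {p : ℕ} [Fact p.Prime]
    {𝓔 : Set (Subgroup G)} {D X : Subgroup G} (hX : X ∈ 𝓔) (U : Sylow p G) {x : G} (hx : x ∈ X)
    (hU : Nat.card ((U : Subgroup G) ⊓ X : Subgroup G) = p ^ (Nat.card X).factorization p)
    (hD : D ≤ (U : Subgroup G)) (hDX : D ≤ X) (hD' : D ≤ ((x⁻¹ • U : Sylow p G) : Subgroup G)) :
    Linked p 𝓔 D (x⁻¹ • U) U := by
  apply Relation.ReflTransGen.single
  refine ⟨X, x, ?_, ?_, hx, ?_, hD', hD, hDX⟩
  · rw [mem_sylowMembers_iff]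
    exact ⟨hX, by rw [card_smul_inf U X (X.inv_mem hx)]; exact hU⟩
  · rw [mem_sylowMembers_iff]
    exact ⟨hX, hU⟩
  · rw [coe_smul_sylow]; rfl

/-- The family of the statement. -/
def fam {G : Type*} [Group G] (p : ℕ) (f : Subgroup G → Set (Subgroup G)) : Set (Subgroup G) :=
  functorFamily p f ⊤ ∪ {M | IsMaximalPLocal p M ∧ ¬ IsFunctorRegular p f M}

/-- The inner induction: Sylow subgroups meeting a maximal `p`-local subgroup `M` in Sylow
subgroups of `M` containing `D` are linked over `D`. -/
theorem linked_of_maximal_plocal {G : Type*} [Group G] [Finite G] {p : ℕ} [Fact p.Prime]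
    {f : Subgroup G → Set (Subgroup G)} (hf : Cfsg.IsNormalizerFunctor p f)
    (hf1 : ∀ P : Subgroup G, IsPGroup p ↥P → P ≠ ⊥ → ∀ F ∈ f P, F ≠ ⊥)
    (D : Subgroup G) (hD : D ≠ ⊥)
    (IH : ∀ D' : Subgroup G, Nat.card D < Nat.card D' → ∀ S T : Sylow p G,
      D' ≤ (S : Subgroup G) → D' ≤ (T : Subgroup G) → Linked p (fam p f) D' S T) :
    ∀ (k : ℕ) (M : Subgroup G), IsMaximalPLocal p M →
      (Nat.card G).factorization p - (Nat.card M).factorization p = k →
      ∀ U U' : Sylow p G, D ≤ (U : Subgroup G) ⊓ M → D ≤ (U' : Subgroup G) ⊓ M →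
        Nat.card ((U : Subgroup G) ⊓ M : Subgroup G) = p ^ (Nat.card M).factorization p →
        Nat.card ((U' : Subgroup G) ⊓ M : Subgroup G) = p ^ (Nat.card M).factorization p →
        Nat.card D < p ^ (Nat.card M).factorization p →
        Linked p (fam p f) D U U' := by
  intro k
  induction k using Nat.strong_induction_on with
  | _ k IHk =>
  intro M hM hk U U' hDU hDU' hUc hU'c hDc
  have hp : p.Prime := Fact.out
  obtain ⟨v, hv⟩ : ∃ v, v = (Nat.card M).factorization p := ⟨_, rfl⟩
  have hUc' : Nat.card ((U : Subgroup G) ⊓ M : Subgroup G) = p ^ v := by rw [hv]; exact hUc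
  have hU'c' : Nat.card ((U' : Subgroup G) ⊓ M : Subgroup G) = p ^ v := by rw [hv]; exact hU'c
  have hDc' : Nat.card D < p ^ v := by rw [hv]; exact hDc
  have hvG : v ≤ (Nat.card G).factorization p := by
    rw [hv]
    exact (Nat.factorization_le_iff_dvd Nat.card_pos.ne' Nat.card_pos.ne').mpr
      (Subgroup.card_subgroup_dvd_card M) p
  have hbig : ∀ (V V' : Sylow p G) (B : Subgroup G), B ≤ (V : Subgroup G) →
      B ≤ (V' : Subgroup G) → Nat.card D < Nat.card B → D ≤ B →
      Linked p (fam p f) D V V' := by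
    intro V V' B hBV hBV' hcard hDB
    have h1 : Nat.card D < Nat.card ((V : Subgroup G) ⊓ V' : Subgroup G) :=
      lt_of_lt_of_le hcard (Subgroup.card_le_of_le (le_inf hBV hBV'))
    exact (IH _ h1 V V' inf_le_left inf_le_right).mono (hDB.trans (le_inf hBV hBV'))
  have hDM : D ≤ M := hDU.trans inf_le_right
  by_cases hreg : IsFunctorRegular p f M
  · -- `M` regular
    by_cases hRR : (U : Subgroup G) ⊓ M = (U' : Subgroup G) ⊓ M
    · exact hbig U U' _ inf_le_left (hRR ▸ inf_le_left) (by rw [hUc']; exact hDc') hDU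
    · have hmeet : ((U : Subgroup G) ⊓ M) ⊓ ((U' : Subgroup G) ⊓ M) ≠ ⊥ := by
        intro h
        apply hD
        rw [eq_bot_iff, ← h]
        exact le_inf hDU hDU'
      have hchain := mlink_of_regular hf hreg _ _ inf_le_right inf_le_right hUc hU'c hRR hmeet
      have claim : ∀ B : Subgroup G, Relation.ReflTransGen
          (MLink p f M (((U : Subgroup G) ⊓ M) ⊓ ((U' : Subgroup G) ⊓ M)))
          ((U : Subgroup G) ⊓ M) B →
          D ≤ B ∧ Nat.card B = p ^ v ∧
            ∀ V' : Sylow p G, B ≤ (V' : Subgroup G) → Linked p (fam p f) D U V' := by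
        intro B hB
        induction hB with
        | refl =>
          exact ⟨hDU, hUc', fun V' hV' =>
            hbig U V' _ inf_le_left hV' (by rw [hUc']; exact hDc') hDU⟩
        | @tail B C _ hBC ih =>
          obtain ⟨hDB, hBc, hBV⟩ := ih
          obtain ⟨-, hCM, -, hCc, hD₀C, P, F, x, hPM, hPc, hF, hBF, hCF, hxM, hxF, hconj⟩ := hBC
          have hDC : D ≤ C := (le_inf hDU hDU').trans hD₀C
          rw [← hv] at hCc hPc
          refine ⟨hDC, hCc, fun V' hCV' => ?_⟩
          obtain ⟨V_B, hBVB⟩ := (IsPGroup.of_card hBc : IsPGroup p B).exists_le_sylow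
          have h1 := hBV V_B hBVB
          have hBW : B ≤ ((x⁻¹ • V' : Sylow p G) : Subgroup G) := by
            rw [← hconj, coe_smul_sylow]
            exact Subgroup.map_mono hCV'
          have hBcard : Nat.card D < Nat.card B := by rw [hBc]; exact hDc'
          have hCcard : Nat.card D < Nat.card C := by rw [hCc]; exact hDc'
          have h2 := hbig V_B (x⁻¹ • V') B hBVB hBW hBcard hDB
          have hPp : IsPGroup p P := IsPGroup.of_card hPc
          have hFP := (hf P hPp).1 F hF
          have h3 : Linked p (fam p f) D (x⁻¹ • V') V' := by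
            rcases Nat.lt_or_ge v ((Nat.card G).factorization p) with hlt | hge
            · -- `M` does not contain a Sylow subgroup of `G`
              have hPne : P ≠ ⊥ := by
                intro h
                rw [h, Subgroup.card_bot] at hPc
                have := Nat.card_pos (α := D)
                omega
              have hFne := hf1 P hPp hPne F hF
              have hFp : IsPGroup p F := hPp.to_le hFP.1
              have hloc : IsPLocal p (Subgroup.normalizer (F : Set G)) := ⟨F, hFp, hFne, rfl⟩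
              obtain ⟨M', hM', hNM'⟩ := exists_maximal_plocal hloc
              have hv' : v < (Nat.card M').factorization p := by
                have h4 : p ^ (v + 1) ∣ Nat.card G :=
                  (hp.pow_dvd_iff_le_factorization Nat.card_pos.ne').mpr hlt
                have h5 := pow_succ_dvd_card_normalizer hPc h4
                have h6 : p ^ (v + 1) ∣ Nat.card M' :=
                  h5.trans (Subgroup.card_dvd_of_le (hFP.2.trans hNM'))
                exact (hp.pow_dvd_iff_le_factorization Nat.card_pos.ne').mp h6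
              have hCM' : C ≤ M' := hCF.trans hNM'
              have hxM' : x ∈ M' := hNM' hxF
              obtain ⟨Ũ, hCŨ, hŨc⟩ :=
                exists_sylow_of_le M' (IsPGroup.of_card hCc : IsPGroup p C) hCM'
              have hBŨ : B ≤ ((x⁻¹ • Ũ : Sylow p G) : Subgroup G) := by
                rw [← hconj, coe_smul_sylow]
                exact Subgroup.map_mono hCŨ
              have hBM' : B ≤ M' := hBF.trans hNM'
              have hv'G : (Nat.card M').factorization p ≤ (Nat.card G).factorization p :=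
                (Nat.factorization_le_iff_dvd Nat.card_pos.ne' Nat.card_pos.ne').mpr
                  (Subgroup.card_subgroup_dvd_card M') p
              have h4 : Linked p (fam p f) D Ũ (x⁻¹ • Ũ) := by
                apply IHk ((Nat.card G).factorization p - (Nat.card M').factorization p)
                  (by omega) M' hM' rfl Ũ (x⁻¹ • Ũ)
                · exact le_inf (hDC.trans hCŨ) (hDC.trans hCM')
                · exact le_inf (hDB.trans hBŨ) (hDB.trans hBM')
                · exact hŨc
                · rw [card_smul_inf Ũ M' (M'.inv_mem hxM')]; exact hŨc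
                · exact lt_of_lt_of_le hDc' (Nat.pow_le_pow_right hp.pos hv'.le)
              have h5 := hbig V' Ũ C hCV' hCŨ hCcard hDC
              have h6 := hbig (x⁻¹ • V') (x⁻¹ • Ũ) B hBW hBŨ hBcard hDB
              exact h6.trans (h4.symm.trans h5.symm)
            · -- `M` contains a Sylow subgroup of `G`
              have hvv : v = (Nat.card G).factorization p := le_antisymm hvG hge
              have hCV : C = (V' : Subgroup G) := by
                apply Subgroup.eq_of_le_of_card_ge hCV'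
                rw [hCc, V'.card_eq_multiplicity, hvv]
              have hPG : Nat.card P = p ^ (Nat.card G).factorization p := by rw [hPc, hvv]
              have hXmem : ⊤ ⊓ Subgroup.normalizer (F : Set G) ∈ fam p f := by
                left
                refine ⟨(Sylow.ofCard P hPG).subtype le_top, F, ?_, rfl⟩
                rw [Sylow.coe_subtype, Subgroup.map_subgroupOf_eq_of_le le_top]
                exact hF
              have hV'X : (V' : Subgroup G) ≤ ⊤ ⊓ Subgroup.normalizer (F : Set G) := by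
                rw [← hCV]; exact le_inf le_top hCF
              exact linked_single hXmem V' (Subgroup.mem_inf.mpr ⟨Subgroup.mem_top x, hxF⟩)
                (Cfsg.Agent.S2957.card_inf_of_sylow_le V' _ hV'X) (hDC.trans hCV')
                (hDC.trans (le_inf le_top hCF)) (hDB.trans hBW)
          exact h1.trans (h2.trans h3)
      exact (claim _ hchain).2.2 U' inf_le_left
  · -- `M` singular
    have hMmem : M ∈ fam p f := Or.inr ⟨hM, hreg⟩
    have hRc : Nat.card (((U : Subgroup G) ⊓ M).subgroupOf M) =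
        p ^ (Nat.card M).factorization p := by
      rw [← hUc]; exact Nat.card_congr (Subgroup.subgroupOfEquivOfLe inf_le_right).toEquiv
    have hR'c : Nat.card (((U' : Subgroup G) ⊓ M).subgroupOf M) =
        p ^ (Nat.card M).factorization p := by
      rw [← hU'c]; exact Nat.card_congr (Subgroup.subgroupOfEquivOfLe inf_le_right).toEquiv
    obtain ⟨m, hm⟩ := MulAction.exists_smul_eq ↥M (Sylow.ofCard _ hR'c) (Sylow.ofCard _ hRc)
    have hR'U : (U' : Subgroup G) ⊓ M ≤ (((m : G)⁻¹ • U : Sylow p G) : Subgroup G) := by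
      intro y hy
      have hyM : y ∈ M := hy.2
      have h1 : (m * ⟨y, hyM⟩ * m⁻¹ : ↥M) ∈ (Sylow.ofCard _ hRc : Sylow p ↥M) := by
        rw [← hm, mem_sylow_smul_iff]
        have e : m⁻¹ * (m * ⟨y, hyM⟩ * m⁻¹) * m = ⟨y, hyM⟩ := by group
        rw [e]
        exact Subgroup.mem_subgroupOf.mpr hy
      have h2 : ((m * ⟨y, hyM⟩ * m⁻¹ : ↥M) : G) ∈ (U : Subgroup G) ⊓ M :=
        Subgroup.mem_subgroupOf.mp h1
      refine (mem_sylow_smul_iff U _ y).mpr ?_
      rw [inv_inv]
      exact h2.1
    have h1 : Linked p (fam p f) D ((m : G)⁻¹ • U) U :=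
      linked_single hMmem U m.2 hUc (hDU.trans inf_le_left) hDM (hDU'.trans hR'U)
    have h2 := hbig ((m : G)⁻¹ • U) U' _ hR'U inf_le_left (by rw [hU'c']; exact hDc') hDU'
    exact h1.symm.trans h2

/-- Any two Sylow `p`-subgroups containing `D ≠ 1` are linked over `D`. -/
theorem linked_main {G : Type*} [Group G] [Finite G] {p : ℕ} [Fact p.Prime]
    {f : Subgroup G → Set (Subgroup G)} (hf : Cfsg.IsNormalizerFunctor p f)
    (hf1 : ∀ P : Subgroup G, IsPGroup p ↥P → P ≠ ⊥ → ∀ F ∈ f P, F ≠ ⊥) :
    ∀ (n : ℕ) (D : Subgroup G), D ≠ ⊥ → Nat.card G - Nat.card D = n →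
      ∀ S T : Sylow p G, D ≤ (S : Subgroup G) → D ≤ (T : Subgroup G) →
        Linked p (fam p f) D S T := by
  intro n
  induction n using Nat.strong_induction_on with
  | _ n IHn =>
  intro D hD hn S T hDS hDT
  have IH : ∀ D' : Subgroup G, Nat.card D < Nat.card D' → ∀ S T : Sylow p G,
      D' ≤ (S : Subgroup G) → D' ≤ (T : Subgroup G) → Linked p (fam p f) D' S T := by
    intro D' hlt
    have hD' : D' ≠ ⊥ := by
      intro h; rw [h, Subgroup.card_bot] at hlt
      have := Nat.card_pos (α := D); omega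
    have hle : Nat.card D' ≤ Nat.card G := Subgroup.card_le_card_group D'
    exact IHn (Nat.card G - Nat.card D') (by omega) D' hD' rfl
  by_cases hlt : Nat.card D < Nat.card ((S : Subgroup G) ⊓ T : Subgroup G)
  · exact (IH _ hlt S T inf_le_left inf_le_right).mono (le_inf hDS hDT)
  · push Not at hlt
    by_cases hST : S = T
    · rw [hST]; exact Relation.ReflTransGen.refl
    · have hDneS : D ≠ (S : Subgroup G) := by
        intro h
        apply hST
        have hle : (S : Subgroup G) ≤ T := by rw [← h]; exact hDT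
        exact Sylow.ext (Subgroup.eq_of_le_of_card_ge hle
          (by rw [S.card_eq_multiplicity, T.card_eq_multiplicity]))
      have hDneT : D ≠ (T : Subgroup G) := by
        intro h
        apply hST
        have hle : (T : Subgroup G) ≤ S := by rw [← h]; exact hDS
        exact (Sylow.ext (Subgroup.eq_of_le_of_card_ge hle
          (by rw [S.card_eq_multiplicity, T.card_eq_multiplicity]))).symm
      have hDp : IsPGroup p D := S.isPGroup'.to_le hDS
      have hloc : IsPLocal p (Subgroup.normalizer (D : Set G)) := ⟨D, hDp, hD, rfl⟩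
      obtain ⟨M, hM, hNM⟩ := exists_maximal_plocal hloc
      have hS1 := card_lt_card_inf_normalizer S hDS hDneS
      have hT1 := card_lt_card_inf_normalizer T hDT hDneT
      obtain ⟨U, hU, hUc⟩ := exists_sylow_of_le M
        (S.isPGroup'.to_le inf_le_left :
          IsPGroup p ((S : Subgroup G) ⊓ Subgroup.normalizer (D : Set G) : Subgroup G))
        (inf_le_right.trans hNM)
      obtain ⟨U', hU', hU'c⟩ := exists_sylow_of_le M
        (T.isPGroup'.to_le inf_le_left :
          IsPGroup p ((T : Subgroup G) ⊓ Subgroup.normalizer (D : Set G) : Subgroup G))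
        (inf_le_right.trans hNM)
      have hDN : D ≤ Subgroup.normalizer (D : Set G) := Subgroup.le_normalizer
      have hDR : D ≤ (S : Subgroup G) ⊓ Subgroup.normalizer (D : Set G) := le_inf hDS hDN
      have hDR' : D ≤ (T : Subgroup G) ⊓ Subgroup.normalizer (D : Set G) := le_inf hDT hDN
      have h1 : Linked p (fam p f) D S U := (IH _ hS1 S U inf_le_left hU).mono hDR
      have h2 : Linked p (fam p f) D T U' := (IH _ hT1 T U' inf_le_left hU').mono hDR'
      have hDc : Nat.card D < p ^ (Nat.card M).factorization p := by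
        rw [← hUc]
        exact lt_of_lt_of_le hS1 (Subgroup.card_le_of_le (le_inf hU (inf_le_right.trans hNM)))
      have h3 := linked_of_maximal_plocal hf hf1 D hD IH _ M hM rfl U U'
        (le_inf (hDR.trans hU) (hDN.trans hNM)) (le_inf (hDR'.trans hU') (hDN.trans hNM))
        hUc hU'c hDc
      exact h1.trans (h3.trans h2.symm)

/-- Let p be a prime dividing the order of the finite group G, and f an assignment to every p-subgroup P of a set f(P) of subgroups of P, each normalized by N_G(P), compatible with conjugation, such that for P ≠ 1 the members of f(P) are nontrivial. Let 𝓕 be the family of the normalizers N_G(F) of the members F of f(S) over the Sylow p-subgroups S of G, and 𝓕' the family of the maximal p-local subgroups M of G that are singular for f (the corresponding family of normalizers inside M does not control Sylow p-intersections in M). Then 𝓕 ∪ 𝓕' controls Sylow p-intersections in G. -/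
theorem result {G : Type*} [Group G] [Finite G] (p : ℕ) [Fact p.Prime] (hdiv : p ∣ Nat.card G)
    (f : Subgroup G → Set (Subgroup G)) (hf : Cfsg.IsNormalizerFunctor p f)
    (hf1 : ∀ P : Subgroup G, IsPGroup p ↥P → P ≠ ⊥ → ∀ F ∈ f P, F ≠ ⊥)
    (𝓕 𝓕' : Set (Subgroup G)) (h𝓕 : 𝓕 = Cfsg.functorFamily p f ⊤)
    (h𝓕' : 𝓕' = {M | Cfsg.IsMaximalPLocal p M ∧ ¬ Cfsg.IsFunctorRegular p f M}) :
    Cfsg.ControlsSylowIntersections p (𝓕 ∪ 𝓕') := by
  subst h𝓕 h𝓕'
  intro S T hne hmeet
  have h := linked_main hf hf1 _ ((S : Subgroup G) ⊓ T) hmeet rfl S T inf_le_left inf_le_right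
  have h2 : Relation.ReflTransGen (fun a b => ∃ (X : Subgroup G) (x : G),
      Cfsg.Agent.S2957.StepProp p (fam p f) ((S : Subgroup G) ⊓ T) a b X x) S T :=
    Relation.ReflTransGen.mono (fun a b hab => by
      obtain ⟨X, x, h1, h2, hx, hconj, hDA, hDB, hDX⟩ := hab
      exact ⟨X, x, h1, h2, hx, hconj, le_inf hDB hDX⟩) _ _ h
  obtain ⟨n, c, X, x, h0, hl, hQ⟩ := Cfsg.Agent.S2957.fin_of_reflTransGen _ h2
  exact ⟨n, c, X, x, h0, hl, hQ⟩

end Cfsg.Agent.S2956
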