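import Cfsg.Statements.S2959
import Cfsg.Agent.Lib.helper55.Basic

set_option autoImplicit false
open Cfsg

namespace Cfsg.Agent.S2959

open Cfsg.Agent.Lib.helper55

/-- Let G be a finite group of characteristic p, that is C_G(O_p(G)) ≤ O_p(G), with p prime, and let L be a subgroup of G normalized by O_p(G). Then L has characteristic p: C_L(O_p(L)) ≤ O_p(L). -/
theorem result {G : Type*} [Group G] [Finite G] {p : ℕ} [Fact p.Prime] (hG : Subgroup.centralizer (Cfsg.pCore p G : Set G) ≤ Cfsg.pCore p G) (L : Subgroup G) (hL : Cfsg.pCore p G ≤ Subgroup.normalizer (L : Set G)) : Subgroup.centralizer (Cfsg.pCore p ↥L : Set ↥L) ≤ Cfsg.pCore p ↥L := by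
  have hPn := pCore_normal' p G
  have hPp := pCore_isPGroup p G
  have hRn := pCore_normal' p L
  have hCn : (Subgroup.centralizer (Cfsg.pCore p ↥L : Set ↥L)).Normal := Subgroup.normal_centralizer
  apply le_pCore hCn
  apply isPGroup_of_coprime_trivial
  intro c hc hcop
  have hcop' : (orderOf (c : G)).Coprime p := by rwa [Subgroup.orderOf_coe]
  have hcP : (c : G) ∈ Subgroup.centralizer (Cfsg.pCore p G : Set G) := by
    rw [Subgroup.mem_centralizer_iff]
    intro a ha
    have hz : (c : G) * a * (c : G)⁻¹ * a⁻¹ ∈ Cfsg.pCore p G :=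
      (Cfsg.pCore p G).mul_mem (hPn.conj_mem a ha c) ((Cfsg.pCore p G).inv_mem ha)
    have hzL : (c : G) * a * (c : G)⁻¹ * a⁻¹ ∈ L := by
      have := (Subgroup.mem_normalizer_iff.mp (hL ha) ((c : G)⁻¹)).mp (L.inv_mem c.2)
      have h2 := L.mul_mem c.2 this
      have e : (c : G) * (a * (c : G)⁻¹ * a⁻¹) = (c : G) * a * (c : G)⁻¹ * a⁻¹ := by group
      rwa [e] at h2
    have hzR : (⟨_, hzL⟩ : L) ∈ Cfsg.pCore p ↥L := by
      have hle : (Cfsg.pCore p G).subgroupOf L ≤ Cfsg.pCore p ↥L :=
        le_pCore (Subgroup.normal_subgroupOf) (IsPGroup.comap_subtype hPp)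
      exact hle (Subgroup.mem_subgroupOf.mpr hz)
    have hcz := Subgroup.mem_centralizer_iff.mp hc _ hzR
    have hcz' : Commute (c : G) ((c : G) * a * (c : G)⁻¹ * a⁻¹) := by
      have := congrArg Subtype.val hcz
      exact this.symm
    exact (commute_of_quadratic hPp hcop' hz hcz').eq.symm
  have := eq_one_of_mem_of_coprime hPp (hG hcP) hcop'
  exact Subtype.ext this

end Cfsg.Agent.S2959
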