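import Cfsg.Statements.S2960
import Cfsg.Agent.Lib.helper55.Basic

set_option autoImplicit false
open Cfsg

namespace Cfsg.Agent.S2960

open Cfsg.Agent.Lib.helper55

/-- Let G be a finite group of characteristic p (C_G(O_p(G)) ≤ O_p(G)), p prime, T a Sylow p-subgroup of G and Q a normal subgroup of T with C_T(Q) ≤ Q. Then C_G(Q) ≤ Q. -/
theorem result {G : Type*} [Group G] [Finite G] {p : ℕ} [Fact p.Prime] (hG : Subgroup.centralizer (Cfsg.pCore p G : Set G) ≤ Cfsg.pCore p G) (T : Sylow p G) (Q : Subgroup G) (hQT : Q ≤ (T : Subgroup G)) (hQn : (T : Subgroup G) ≤ Subgroup.normalizer (Q : Set G)) (hC : (T : Subgroup G) ⊓ Subgroup.centralizer (Q : Set G) ≤ Q) : Subgroup.centralizer (Q : Set G) ≤ Q := by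
  have hPn := pCore_normal' p G
  have hPp := pCore_isPGroup p G
  have hPT := pCore_le_sylow T
  have hA : ∀ c ∈ Subgroup.centralizer (Q : Set G), (orderOf c).Coprime p → c = 1 := by
    intro c hc hcop
    have hcP : c ∈ Subgroup.centralizer (Cfsg.pCore p G : Set G) := by
      rw [Subgroup.mem_centralizer_iff]
      intro a ha
      have hz : c * a * c⁻¹ * a⁻¹ ∈ Cfsg.pCore p G :=
        (Cfsg.pCore p G).mul_mem (hPn.conj_mem a ha c) ((Cfsg.pCore p G).inv_mem ha)
      have hzQ : c * a * c⁻¹ * a⁻¹ ∈ Q := by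
        apply hC
        refine Subgroup.mem_inf.mpr ⟨hPT hz, ?_⟩
        rw [Subgroup.mem_centralizer_iff]
        intro q hq
        have hqc : q * c = c * q := Subgroup.mem_centralizer_iff.mp hc q hq
        have hqc' : q * c⁻¹ = c⁻¹ * q := (Commute.inv_right (show Commute q c from hqc)).eq
        have hw : a⁻¹ * q * a * q⁻¹ ∈ Q := by
          have ha' : a⁻¹ ∈ Subgroup.normalizer (Q : Set G) :=
            (Subgroup.normalizer (Q : Set G)).inv_mem (hQn (hPT ha))
          have := (Subgroup.mem_normalizer_iff.mp ha' q).mp hq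
          exact Q.mul_mem (by simpa using this) (Q.inv_mem hq)
        have hwc : (a⁻¹ * q * a * q⁻¹) * c = c * (a⁻¹ * q * a * q⁻¹) :=
          Subgroup.mem_centralizer_iff.mp hc _ hw
        have hwc' : (a⁻¹ * q * a * q⁻¹) * c⁻¹ = c⁻¹ * (a⁻¹ * q * a * q⁻¹) :=
          (Commute.inv_right (show Commute (a⁻¹ * q * a * q⁻¹) c from hwc)).eq
        calc q * (c * a * c⁻¹ * a⁻¹) = (q * c) * a * c⁻¹ * a⁻¹ := by group
          _ = (c * q) * a * c⁻¹ * a⁻¹ := by rw [hqc]
          _ = c * a * (a⁻¹ * q * a * q⁻¹) * (q * c⁻¹) * a⁻¹ := by group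
          _ = c * a * (a⁻¹ * q * a * q⁻¹) * (c⁻¹ * q) * a⁻¹ := by rw [hqc']
          _ = c * a * ((a⁻¹ * q * a * q⁻¹) * c⁻¹) * q * a⁻¹ := by group
          _ = c * a * (c⁻¹ * (a⁻¹ * q * a * q⁻¹)) * q * a⁻¹ := by rw [hwc']
          _ = (c * a * c⁻¹ * a⁻¹) * q := by group
      have hcz : Commute c (c * a * c⁻¹ * a⁻¹) :=
        (show Commute (c * a * c⁻¹ * a⁻¹) c from Subgroup.mem_centralizer_iff.mp hc _ hzQ).symm
      exact (commute_of_quadratic hPp hcop hz hcz).eq.symm
    exact eq_one_of_mem_of_coprime hPp (hG hcP) hcop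
  have hCp : IsPGroup p (Subgroup.centralizer (Q : Set G)) := isPGroup_of_coprime_trivial _ hA
  have hTC : (T : Subgroup G) ≤ Subgroup.normalizer (Subgroup.centralizer (Q : Set G) : Set G) :=
    hQn.trans (normalizer_le_normalizer_centralizer Q)
  have hmax := T.is_maximal' (hCp.to_sup_of_normal_left' T.isPGroup' hTC) le_sup_right
  have hCT : Subgroup.centralizer (Q : Set G) ≤ (T : Subgroup G) := by
    rw [← hmax]; exact le_sup_left
  exact fun c hc => hC (Subgroup.mem_inf.mpr ⟨hCT hc, hc⟩)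

end Cfsg.Agent.S2960
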