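import Cfsg.Statements.S2961
import Cfsg.Agent.Lib.helper55.Basic
import Cfsg.Agent.S2960

set_option autoImplicit false
open Cfsg

namespace Cfsg.Agent.S2961

open Cfsg.Agent.Lib.helper55

/-- Let G be a finite group of characteristic p (C_G(O_p(G)) ≤ O_p(G)), p prime, T a Sylow p-subgroup of G and Q a normal subgroup of T with C_T(Q) ≤ Q. Then every subgroup L of G containing Q has characteristic p: C_L(O_p(L)) ≤ O_p(L). -/
theorem result {G : Type*} [Group G] [Finite G] {p : ℕ} [Fact p.Prime] (hG : Subgroup.centralizer (Cfsg.pCore p G : Set G) ≤ Cfsg.pCore p G) (T : Sylow p G) (Q : Subgroup G) (hQT : Q ≤ (T : Subgroup G)) (hQn : (T : Subgroup G) ≤ Subgroup.normalizer (Q : Set G)) (hC : (T : Subgroup G) ⊓ Subgroup.centralizer (Q : Set G) ≤ Q) (L : Subgroup G) (hQL : Q ≤ L) : Subgroup.centralizer (Cfsg.pCore p ↥L : Set ↥L) ≤ Cfsg.pCore p ↥L := by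
  have hCQ : Subgroup.centralizer (Q : Set G) ≤ Q := Cfsg.Agent.S2960.result hG T Q hQT hQn hC
  have hPn := pCore_normal' p G
  have hPp := pCore_isPGroup p G
  have hPT := pCore_le_sylow T
  have hRn := pCore_normal' p L
  have hRp := pCore_isPGroup p L
  have hCn : (Subgroup.centralizer (Cfsg.pCore p ↥L : Set ↥L)).Normal := Subgroup.normal_centralizer
  -- the elements of `L` all of whose `O_p(G)`-conjugates lie in `L`
  let K : Subgroup L :=
    { carrier := {l | ∀ a ∈ Cfsg.pCore p G, a * (l : G) * a⁻¹ ∈ L}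
      mul_mem' := by
        intro x y hx hy a ha
        have := L.mul_mem (hx a ha) (hy a ha)
        have e : a * (x : G) * a⁻¹ * (a * (y : G) * a⁻¹) = a * ((x * y : L) : G) * a⁻¹ := by
          rw [Subgroup.coe_mul]; group
        rwa [e] at this
      one_mem' := by intro a ha; simp
      inv_mem' := by
        intro x hx a ha
        have := L.inv_mem (hx a ha)
        have e : (a * (x : G) * a⁻¹)⁻¹ = a * ((x⁻¹ : L) : G) * a⁻¹ := by
          rw [Subgroup.coe_inv]; group
        rwa [e] at this }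
  have hKmem : ∀ l : L, l ∈ K ↔ ∀ a ∈ Cfsg.pCore p G, a * (l : G) * a⁻¹ ∈ L := fun l => Iff.rfl
  have hKn : K.Normal := by
    constructor
    intro k hk l
    rw [hKmem]
    intro a ha
    have ha' : (l : G)⁻¹ * a * (l : G) ∈ Cfsg.pCore p G := by
      have := hPn.conj_mem a ha (l : G)⁻¹
      simpa using this
    have h1 := (hKmem k).mp hk _ ha'
    have h2 := L.mul_mem (L.mul_mem l.2 h1) (L.inv_mem l.2)
    have e : (l : G) * ((l : G)⁻¹ * a * (l : G) * (k : G) * ((l : G)⁻¹ * a * (l : G))⁻¹) * (l : G)⁻¹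
        = a * ((l * k * l⁻¹ : L) : G) * a⁻¹ := by
      rw [Subgroup.coe_mul, Subgroup.coe_mul, Subgroup.coe_inv]; group
    rwa [e] at h2
  have hQK : ∀ q (hq : q ∈ Q), (⟨q, hQL hq⟩ : L) ∈ K := by
    intro q hq
    rw [hKmem]
    intro a ha
    exact hQL ((Subgroup.mem_normalizer_iff.mp (hQn (hPT ha)) q).mp hq)
  have hPL : (Cfsg.pCore p G).subgroupOf L ≤ Cfsg.pCore p ↥L :=
    le_pCore Subgroup.normal_subgroupOf (IsPGroup.comap_subtype hPp)
  have hD : (Subgroup.centralizer (Cfsg.pCore p ↥L : Set ↥L)) ⊓ K ≤ Cfsg.pCore p ↥L := by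
    apply le_pCore (Subgroup.normal_inf_normal _ _)
    apply isPGroup_of_coprime_trivial
    intro d hd hcop
    obtain ⟨hdC, hdK⟩ := Subgroup.mem_inf.mp hd
    have hcop' : (orderOf (d : G)).Coprime p := by rwa [Subgroup.orderOf_coe]
    have hdP : (d : G) ∈ Subgroup.centralizer (Cfsg.pCore p G : Set G) := by
      rw [Subgroup.mem_centralizer_iff]
      intro a ha
      have hz : (d : G) * a * (d : G)⁻¹ * a⁻¹ ∈ Cfsg.pCore p G :=
        (Cfsg.pCore p G).mul_mem (hPn.conj_mem a ha d) ((Cfsg.pCore p G).inv_mem ha)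
      have hzL : (d : G) * a * (d : G)⁻¹ * a⁻¹ ∈ L := by
        have := (hKmem _).mp (K.inv_mem hdK) a ha
        have h2 := L.mul_mem d.2 this
        have e : (d : G) * (a * ((d⁻¹ : L) : G) * a⁻¹) = (d : G) * a * (d : G)⁻¹ * a⁻¹ := by
          rw [Subgroup.coe_inv]; group
        rwa [e] at h2
      have hzR : (⟨_, hzL⟩ : L) ∈ Cfsg.pCore p ↥L := hPL (Subgroup.mem_subgroupOf.mpr hz)
      have hcz := Subgroup.mem_centralizer_iff.mp hdC _ hzR
      have hcz' : Commute (d : G) ((d : G) * a * (d : G)⁻¹ * a⁻¹) := (congrArg Subtype.val hcz).symm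
      exact (commute_of_quadratic hPp hcop' hz hcz').eq.symm
    have := eq_one_of_mem_of_coprime hPp (hG hdP) hcop'
    exact Subtype.ext this
  apply le_pCore hCn
  apply isPGroup_of_coprime_trivial
  intro c hc hcop
  have hcop' : (orderOf (c : G)).Coprime p := by rwa [Subgroup.orderOf_coe]
  have hcQ : (c : G) ∈ Subgroup.centralizer (Q : Set G) := by
    rw [Subgroup.mem_centralizer_iff]
    intro q hq
    obtain ⟨q', hq'⟩ : ∃ q' : L, q' = ⟨q, hQL hq⟩ := ⟨_, rfl⟩
    have hq'K : q' ∈ K := hq' ▸ hQK q hq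
    have hzD : c * q' * c⁻¹ * q'⁻¹ ∈ (Subgroup.centralizer (Cfsg.pCore p ↥L : Set ↥L)) ⊓ K := by
      refine Subgroup.mem_inf.mpr ⟨?_, ?_⟩
      · have := hCn.conj_mem c⁻¹ (inv_mem hc) q'
        have h2 := mul_mem hc this
        have e : c * (q' * c⁻¹ * q'⁻¹) = c * q' * c⁻¹ * q'⁻¹ := by group
        rwa [e] at h2
      · have := hKn.conj_mem q' hq'K c
        exact mul_mem this (inv_mem hq'K)
    have hzR := hD hzD
    have hcz := Subgroup.mem_centralizer_iff.mp hc _ hzR
    have hcomm := commute_of_quadratic hRp hcop hzR (show Commute c (c * q' * c⁻¹ * q'⁻¹) from hcz.symm)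
    have := congrArg Subtype.val hcomm.eq
    rw [hq'] at this
    exact this.symm
  have hcQ' := hCQ hcQ
  have := eq_one_of_mem_of_coprime T.isPGroup' (hQT hcQ') hcop'
  exact Subtype.ext this

end Cfsg.Agent.S2961
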