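import Cfsg.Statements.S2963
import Mathlib.GroupTheory.Perm.MaximalSubgroups
import Mathlib.GroupTheory.PGroup

set_option autoImplicit false
open Cfsg

namespace Cfsg.Agent.S2963

open scoped Pointwise

/-- Let n be odd. If the symmetric group of degree n is a minimal parabolic group for the prime 2, that is, a Sylow 2-subgroup is not normal and lies in exactly one maximal subgroup, then n = 2^m + 1 for some natural number m. -/
theorem result (n : ℕ) (hn : Odd n) (h : Cfsg.IsPMinimal 2 (Equiv.Perm (Fin n))) : ∃ m : ℕ, n = 2 ^ m + 1 := by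
  have : Fact (Nat.Prime 2) := ⟨Nat.prime_two⟩
  obtain ⟨S⟩ : Nonempty (Sylow 2 (Equiv.Perm (Fin n))) := inferInstance
  obtain ⟨hnn, M, ⟨hMco, hSM⟩, huniq⟩ := h S
  have hfix : (MulAction.fixedPoints (S : Subgroup (Equiv.Perm (Fin n))) (Fin n)).Nonempty := by
    apply S.isPGroup'.nonempty_fixed_point_of_prime_not_dvd_card
    rw [Nat.card_eq_fintype_card, Fintype.card_fin]
    exact hn.not_two_dvd_nat
  obtain ⟨x, hx⟩ := hfix
  have hx' : ∀ s ∈ (S : Subgroup (Equiv.Perm (Fin n))), s x = x := fun s hs => hx ⟨s, hs⟩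
  have hy : ∃ y : Fin n, y ≠ x := by
    by_contra hcon
    push Not at hcon
    apply hnn
    have : Subsingleton (Equiv.Perm (Fin n)) :=
      ⟨fun a b => by ext i; rw [hcon (a i), hcon (b i)]⟩
    exact ⟨fun a ha g => by rwa [Subsingleton.elim (g * a * g⁻¹) a]⟩
  obtain ⟨y, hyx⟩ := hy
  have hcard : ∀ s : Set (Fin n), Nat.card (Fin n) ≠ 2 * s.ncard := by
    intro s hs
    rw [Nat.card_eq_fintype_card, Fintype.card_fin] at hs
    rw [hs] at hn
    exact (Nat.not_odd_iff_even.mpr (even_two_mul _)) hn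
  have hA : IsCoatom (MulAction.stabilizer (Equiv.Perm (Fin n)) ({x} : Set (Fin n))) :=
    Equiv.Perm.isCoatom_stabilizer (Set.singleton_nonempty x) ⟨y, hyx⟩ (hcard _)
  have hSA : (S : Subgroup _) ≤ MulAction.stabilizer (Equiv.Perm (Fin n)) ({x} : Set (Fin n)) := by
    intro s hs
    rw [MulAction.mem_stabilizer_iff, Set.smul_set_singleton, Equiv.Perm.smul_def, hx' s hs]
  obtain ⟨Δ, hΔ⟩ : ∃ Δ : Set (Fin n), Δ = MulAction.orbit (S : Subgroup (Equiv.Perm (Fin n))) y :=
    ⟨_, rfl⟩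
  have hyΔ : y ∈ Δ := hΔ ▸ MulAction.mem_orbit_self y
  have hxΔ : x ∉ Δ := by
    rw [hΔ]
    rintro ⟨s, hs⟩
    apply hyx
    have h1 : s⁻¹ • x = y := by rw [← hs]; exact inv_smul_smul s y
    rw [← h1]
    exact hx s⁻¹
  have hSB : (S : Subgroup _) ≤ MulAction.stabilizer (Equiv.Perm (Fin n)) Δ := by
    intro s hs
    rw [MulAction.mem_stabilizer_iff, hΔ]
    exact MulAction.smul_orbit (⟨s, hs⟩ : (S : Subgroup (Equiv.Perm (Fin n)))) y
  have hB : IsCoatom (MulAction.stabilizer (Equiv.Perm (Fin n)) Δ) :=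
    Equiv.Perm.isCoatom_stabilizer ⟨y, hyΔ⟩ ⟨x, hxΔ⟩ (hcard _)
  have hAM := huniq _ ⟨hA, hSA⟩
  have hBM := huniq _ ⟨hB, hSB⟩
  have hAB : MulAction.stabilizer (Equiv.Perm (Fin n)) ({x} : Set (Fin n))
      = MulAction.stabilizer (Equiv.Perm (Fin n)) Δ := hAM.trans hBM.symm
  have hΔeq : Δ = {x}ᶜ := by
    ext z
    simp only [Set.mem_compl_iff, Set.mem_singleton_iff]
    constructor
    · rintro hz rfl; exact hxΔ hz
    · intro hzx
      by_contra hzΔ
      have h1 : Equiv.swap x z ∈ MulAction.stabilizer (Equiv.Perm (Fin n)) Δ := by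
        rw [MulAction.mem_stabilizer_iff]
        ext w
        rw [Set.mem_smul_set_iff_inv_smul_mem]
        simp only [Equiv.Perm.smul_def, Equiv.swap_inv]
        by_cases hwx : w = x
        · subst hwx; simp [Equiv.swap_apply_left, hzΔ, hxΔ]
        · by_cases hwz : w = z
          · subst hwz; simp [Equiv.swap_apply_right, hzΔ, hxΔ]
          · rw [Equiv.swap_apply_of_ne_of_ne hwx hwz]
      rw [← hAB, MulAction.mem_stabilizer_iff, Set.smul_set_singleton, Equiv.Perm.smul_def,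
        Equiv.swap_apply_left, Set.singleton_eq_singleton_iff] at h1
      exact hzx h1
  obtain ⟨k, hk⟩ := S.isPGroup'.card_orbit y
  refine ⟨k, ?_⟩
  have h3 : Nat.card Δ = n - 1 := by
    rw [hΔeq, Nat.card_coe_set_eq, Set.ncard_compl, Set.ncard_singleton, Nat.card_eq_fintype_card,
      Fintype.card_fin]
  have h4 : n - 1 = 2 ^ k := by rw [← h3, hΔ]; exact hk
  have hn1 : 1 ≤ n := by
    rcases hn with ⟨j, rfl⟩; omega
  omega

end Cfsg.Agent.S2963
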