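import Cfsg.Statements.S2968
import Cfsg.Agent.Lib.helper55.Isolated

set_option autoImplicit false
open Cfsg

namespace Cfsg.Agent.S2968

open Cfsg.Agent.Lib.helper55

/-- Let G be a finite group, p a prime, P a Sylow p-subgroup of G and x ∈ P an element of p-power order which is isolated in G (the only conjugate of x commuting with x is x itself). Then x lies in the centre of P, and the subgroup generated by x is both strongly closed and weakly closed in P with respect to G. -/
theorem result {G : Type*} [Group G] [Finite G] {p : ℕ} [Fact p.Prime] (P : Sylow p G) (x : G) (hxP : x ∈ (P : Subgroup G)) (hx : ∃ k : ℕ, orderOf x = p ^ k) (hiso : Cfsg.IsIsolated x) : x ∈ (P : Subgroup G) ⊓ Subgroup.centralizer ((P : Subgroup G) : Set G) ∧ Cfsg.IsStronglyClosed (Subgroup.zpowers x) (P : Subgroup G) ∧ Cfsg.IsWeaklyClosed (Subgroup.zpowers x) (P : Subgroup G) := by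
  have hcomm : ∀ y ∈ (P : Subgroup G), Commute x y := fun y hy =>
    isolated_commute_of_mem_pGroup hiso P.isPGroup' hxP hy
  have hzP : Subgroup.zpowers x ≤ (P : Subgroup G) := by
    rw [Subgroup.zpowers_le]; exact hxP
  refine ⟨Subgroup.mem_inf.mpr ⟨hxP, ?_⟩, ⟨hzP, ?_⟩, ⟨hzP, ?_⟩⟩
  · rw [Subgroup.mem_centralizer_iff]
    intro y hy
    exact (hcomm y hy).eq.symm
  · intro y hy g hg
    obtain ⟨k, rfl⟩ := Subgroup.mem_zpowers_iff.mp hy
    obtain ⟨y', hy'⟩ : ∃ y', y' = g * x ^ k * g⁻¹ := ⟨_, rfl⟩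
    rw [← hy'] at hg ⊢
    have hy'eq : y' = (g * x * g⁻¹) ^ k := by rw [hy']; exact (conj_zpow).symm
    have hxH : x ∈ Subgroup.centralizer ({y'} : Set G) := by
      rw [Subgroup.mem_centralizer_iff]
      intro h hh
      rw [Set.mem_singleton_iff.mp hh]
      exact (hcomm y' hg).eq.symm
    have hgH : g * x * g⁻¹ ∈ Subgroup.centralizer ({y'} : Set G) := by
      rw [Subgroup.mem_centralizer_iff]
      intro h hh
      rw [Set.mem_singleton_iff.mp hh, hy'eq]
      exact ((Commute.refl (g * x * g⁻¹)).zpow_left k).eq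
    obtain ⟨h, hhH, hh⟩ := isolated_conj_in_subgroup hx hiso _ hxH g hgH
    have hhy : y' * h = h * y' := Subgroup.mem_centralizer_iff.mp hhH y' rfl
    have e1 : y' = h * x ^ k * h⁻¹ := by rw [hy'eq, hh]; exact conj_zpow
    have e2 : y' = x ^ k := by
      calc y' = h⁻¹ * (y' * h) := by rw [hhy]; group
        _ = h⁻¹ * (h * x ^ k * h⁻¹ * h) := by rw [← e1]
        _ = x ^ k := by group
    rw [e2]
    exact Subgroup.zpow_mem_zpowers x k
  · intro g hg
    have hgx : g * x * g⁻¹ ∈ (P : Subgroup G) :=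
      hg ⟨x, Subgroup.mem_zpowers x, by simp [MulAut.conj_apply]⟩
    have heq := isolated_conj_eq_of_mem_pGroup hiso P.isPGroup' hxP hgx
    rw [MonoidHom.map_zpowers]
    simp [MulAut.conj_apply, heq]

end Cfsg.Agent.S2968
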