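import Cfsg.Statements.S2970
import Cfsg.Agent.Lib.helper55.Isolated
import Cfsg.Agent.Lib.helper55.CyclicSylow

set_option autoImplicit false
open Cfsg

namespace Cfsg.Agent.S2970

open Cfsg.Agent.Lib.helper55

/-- Let G be a finite group, p a prime and x ∈ G an element of p-power order which is isolated in G. Then the image of x in any quotient G ⧸ N is isolated in G ⧸ N; and if x ≠ 1 and the Sylow p-subgroups of G are cyclic, then G has a normal p-complement. -/
theorem result {G : Type*} [Group G] [Finite G] {p : ℕ} [Fact p.Prime] (x : G) (hx : ∃ k : ℕ, orderOf x = p ^ k) (hiso : Cfsg.IsIsolated x) : (∀ (N : Subgroup G) [N.Normal], Cfsg.IsIsolated (QuotientGroup.mk x : G ⧸ N)) ∧ (x ≠ 1 → (∀ P : Sylow p G, IsCyclic ↥(P : Subgroup G)) → Cfsg.HasNormalPComplement p G) := by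
  constructor
  · intro N _ gbar hcomm
    obtain ⟨g, rfl⟩ := QuotientGroup.mk_surjective gbar
    have hxH : x ∈ (Subgroup.centralizer ({(QuotientGroup.mk x : G ⧸ N)} : Set (G ⧸ N))).comap
        (QuotientGroup.mk' N) := by
      rw [Subgroup.mem_comap, Subgroup.mem_centralizer_iff]
      intro h hh
      rw [Set.mem_singleton_iff.mp hh]
      rfl
    have hgH : g * x * g⁻¹ ∈ (Subgroup.centralizer ({(QuotientGroup.mk x : G ⧸ N)} : Set (G ⧸ N))).comap
        (QuotientGroup.mk' N) := by
      rw [Subgroup.mem_comap, Subgroup.mem_centralizer_iff]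
      intro h hh
      rw [Set.mem_singleton_iff.mp hh]
      exact hcomm.eq
    obtain ⟨h, hhH, hh⟩ := isolated_conj_in_subgroup hx hiso _ hxH g hgH
    rw [Subgroup.mem_comap, Subgroup.mem_centralizer_iff] at hhH
    have hhx := hhH _ rfl
    have e : (QuotientGroup.mk g : G ⧸ N) * QuotientGroup.mk x * (QuotientGroup.mk g)⁻¹
        = QuotientGroup.mk (h * x * h⁻¹) := by
      rw [← hh]; rfl
    rw [e]
    have e2 : (QuotientGroup.mk (h * x * h⁻¹) : G ⧸ N)
        = (QuotientGroup.mk' N h) * QuotientGroup.mk x * (QuotientGroup.mk' N h)⁻¹ := rfl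
    rw [e2, ← hhx]
    group
  · intro hx1 hcyc
    obtain ⟨k, hk⟩ := hx
    have hzp : IsPGroup p (Subgroup.zpowers x) :=
      IsPGroup.of_card (n := k) (by rw [Nat.card_zpowers, hk])
    obtain ⟨P, hP⟩ := hzp.exists_le_sylow
    have hxP : x ∈ (P : Subgroup G) := hP (Subgroup.mem_zpowers x)
    have hN : ∀ g ∈ Subgroup.normalizer ((P : Subgroup G) : Set G), Commute g x := by
      intro g hg
      have hgx : g * x * g⁻¹ ∈ (P : Subgroup G) := (Subgroup.mem_normalizer_iff.mp hg x).mp hxP
      have heq := isolated_conj_eq_of_mem_pGroup hiso P.isPGroup' hxP hgx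
      calc g * x = (g * x * g⁻¹) * g := by group
        _ = x * g := by rw [heq]
    have key := normalizer_le_centralizer_of_cyclic P (hcyc P) hxP hx1 hN
    exact ⟨P, (MonoidHom.transferSylow P key).ker, MonoidHom.normal_ker _,
      MonoidHom.ker_transferSylow_isComplement' P key⟩

end Cfsg.Agent.S2970
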