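import Cfsg.Statements.S3977
import Mathlib
import Cfsg.Agent.Lib.helper69.PGroup
-- import your own Cfsg.Agent.* helpers here

set_option autoImplicit false
open Cfsg

namespace Cfsg.Agent.S3977

open scoped commutatorElement
open Cfsg.Agent.Lib.helper69

universe u

/-- Two distinct cyclic subgroups of index `p` cannot exist when all elements outside a cyclic subgroup `H₀`
have order exceeding `p ^ s`. -/
theorem false_of_two_cyclic_max {G : Type*} [Group G] [Finite G] (p m s : ℕ) (hp : p.Prime)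
    (hG : Nat.card G = p ^ m) (hs : 1 ≤ s) (hm2 : s + 2 ≤ m) (h2 : p ≠ 2 ∨ 2 ≤ s)
    (H₀ : Subgroup G) (hH₀cyc : IsCyclic H₀) (hD : ∀ x : G, x ∉ H₀ → p ^ s < orderOf x)
    (M₁ M₂ : Subgroup G) (h₁ : Nat.card M₁ = p ^ (m - 1)) (h₂ : Nat.card M₂ = p ^ (m - 1)) (hne : M₁ ≠ M₂)
    (hc₁ : IsCyclic M₁) (hc₂ : IsCyclic M₂) : False := by
  have hcomm₁ : ∀ a ∈ M₁, ∀ b ∈ M₁, a * b = b * a := by
    intro a ha b hb
    exact congrArg Subtype.val (comm_of_isCyclic (⟨a, ha⟩ : M₁) ⟨b, hb⟩)
  have hcomm₂ : ∀ a ∈ M₂, ∀ b ∈ M₂, a * b = b * a := by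
    intro a ha b hb
    exact congrArg Subtype.val (comm_of_isCyclic (⟨a, ha⟩ : M₂) ⟨b, hb⟩)
  obtain ⟨hDc, hDpow, hDcomm, hDcard⟩ :=
    two_max_facts p m hp (by omega) hG M₁ M₂ h₁ h₂ hne hcomm₁ hcomm₂
  -- commutators are central of order dividing p
  have hzc : ∀ x y : G, ⁅y, x⁆ ∈ Subgroup.center G := fun x y => hDc (hDcomm y x)
  have hzp : ∀ x y : G, ⁅y, x⁆ ^ p = 1 := by
    intro x y
    have h := pow_mul_comm_of_central x y (hzc x y) p
    have hyp := Subgroup.mem_center_iff.mp (hDc (hDpow y)) x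
    rw [← hyp] at h
    exact mul_left_cancel (h.symm.trans (mul_one _).symm)
  have hpm : p ^ (m - 1) < p ^ m := Nat.pow_lt_pow_right hp.one_lt (by omega)
  have hps : p ≤ p ^ s := by
    calc p = p ^ 1 := (pow_one p).symm
      _ ≤ p ^ s := Nat.pow_le_pow_right hp.pos hs
  by_cases hp2 : p = 2
  · -- p = 2 : use the fourth power map
    subst hp2
    have hs2 : 2 ≤ s := by
      rcases h2 with h | h
      · exact absurd rfl h
      · exact h
    have hhom : ∀ x y : G, (x * y) ^ 4 = x ^ 4 * y ^ 4 := by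
      intro x y
      rw [mul_pow_of_central x y (hzc x y) 4]
      have h6 : (∑ i ∈ Finset.range 4, i) = 2 * 3 := by decide
      rw [h6, pow_mul, hzp x y, one_pow, mul_one]
    have hker : ∀ x : G, x ^ 4 = 1 → x ∈ H₀ := by
      intro x hx
      by_contra hcon
      have h1 := hD x hcon
      have h3 : orderOf x ≤ 4 := Nat.le_of_dvd (by norm_num) (orderOf_dvd_of_pow_eq_one hx)
      have h4 : 2 ^ 2 ≤ 2 ^ s := Nat.pow_le_pow_right (by norm_num) hs2
      omega
    -- squaring map on D = M₁ ⊓ M₂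
    let ψ₂ : ↥(M₁ ⊓ M₂) →* G := MonoidHom.mk' (fun d => (d : G) ^ 2) (by
      intro a b
      have hab : Commute (a : G) (b : G) := (Subgroup.mem_center_iff.mp (hDc a.2) (b : G)).symm
      show ((a * b : ↥(M₁ ⊓ M₂)) : G) ^ 2 = (a : G) ^ 2 * (b : G) ^ 2
      rw [Subgroup.coe_mul, hab.mul_pow])
    have hR : ∀ x : G, x ^ 4 ∈ ψ₂.range := by
      intro x
      refine ⟨⟨x ^ 2, hDpow x⟩, ?_⟩
      show (x ^ 2) ^ 2 = x ^ 4
      rw [← pow_mul]
    have hcardR : 2 * Nat.card ψ₂.range ≤ 2 ^ (m - 2) := by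
      have h1 : Nat.card ψ₂.ker * Nat.card ψ₂.range = Nat.card ↥(M₁ ⊓ M₂) := by
        rw [← Subgroup.index_ker]; exact Subgroup.card_mul_index ψ₂.ker
      by_cases hD1 : Nat.card ↥(M₁ ⊓ M₂) = 1
      · have hpos : 0 < Nat.card ψ₂.ker := Nat.card_pos
        have : Nat.card ψ₂.range ≤ 1 := by
          rw [hD1] at h1
          exact Nat.le_of_dvd (by norm_num) (Dvd.intro_left _ h1)
        have h5 : 2 ^ 1 ≤ 2 ^ (m - 2) := Nat.pow_le_pow_right (by norm_num) (by omega)
        omega
      · -- D is a nontrivial 2-group: it has an involution, so the kernel has at least two elements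
        have hdvd : Nat.card ↥(M₁ ⊓ M₂) ∣ 2 ^ (m - 1) := h₁ ▸ Subgroup.card_dvd_of_le inf_le_left
        obtain ⟨k, hk, hkc⟩ := (Nat.dvd_prime_pow Nat.prime_two).mp hdvd
        have hk0 : k ≠ 0 := by
          rintro rfl
          exact hD1 (by simpa using hkc)
        have h2dvd : 2 ∣ Nat.card ↥(M₁ ⊓ M₂) := by
          rw [hkc]; exact dvd_pow_self 2 hk0
        haveI : Fact (Nat.Prime 2) := ⟨Nat.prime_two⟩
        obtain ⟨d, hd⟩ := exists_prime_orderOf_dvd_card' 2 h2dvd
        have hdker : d ∈ ψ₂.ker := by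
          rw [MonoidHom.mem_ker]
          show (d : G) ^ 2 = 1
          have : d ^ 2 = 1 := by rw [← hd]; exact pow_orderOf_eq_one d
          have h' := congrArg Subtype.val this
          simpa using h'
        have hd1 : d ≠ 1 := by
          intro h
          rw [h, orderOf_one] at hd
          norm_num at hd
        have hnt : Nontrivial ψ₂.ker := ⟨⟨⟨d, hdker⟩, 1, fun h => hd1 (congrArg Subtype.val h)⟩⟩
        have h2le : 2 ≤ Nat.card ψ₂.ker := Finite.one_lt_card_iff_nontrivial.mpr hnt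
        have h6 : 2 * Nat.card ψ₂.range ≤ Nat.card ↥(M₁ ⊓ M₂) := by
          rw [← h1]; exact Nat.mul_le_mul_right _ h2le
        omega
    apply false_of_pow_hom (2 ^ m) 4 (by norm_num) hG hhom H₀ hH₀cyc hker ψ₂.range hR
    have h8 : 2 ^ m = 4 * 2 ^ (m - 2) := by
      have : m = (m - 2) + 2 := by omega
      conv_lhs => rw [this, pow_add]
      ring
    have h9 : 0 < 2 ^ (m - 2) := pow_pos (by norm_num) _
    omega
  · -- p odd : use the p-th power map
    have hsum : p ∣ ∑ i ∈ Finset.range p, i := by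
      have h := Finset.sum_range_id_mul_two p
      have hcop : Nat.Coprime p 2 := (Nat.coprime_primes hp Nat.prime_two).mpr hp2
      have h' : p ∣ (∑ i ∈ Finset.range p, i) * 2 := by rw [h]; exact dvd_mul_right p (p - 1)
      exact hcop.dvd_of_dvd_mul_right h'
    have hhom : ∀ x y : G, (x * y) ^ p = x ^ p * y ^ p := by
      intro x y
      rw [mul_pow_of_central x y (hzc x y) p]
      obtain ⟨c, hc⟩ := hsum
      rw [hc, pow_mul, hzp x y, one_pow, mul_one]
    have hker : ∀ x : G, x ^ p = 1 → x ∈ H₀ := by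
      intro x hx
      by_contra hcon
      have h1 := hD x hcon
      have h3 : orderOf x ≤ p := Nat.le_of_dvd hp.pos (orderOf_dvd_of_pow_eq_one hx)
      omega
    apply false_of_pow_hom (p ^ m) p hp.pos hG hhom H₀ hH₀cyc hker (M₁ ⊓ M₂) hDpow
    have h8 : p * p ^ (m - 2) = p ^ (m - 1) := by
      rw [← pow_succ']; congr 1; omega
    calc p * Nat.card ↥(M₁ ⊓ M₂) ≤ p * p ^ (m - 2) := Nat.mul_le_mul_left p hDcard
      _ = p ^ (m - 1) := h8
      _ < p ^ m := hpm

theorem cyclic_aux (p s : ℕ) (hp : p.Prime) (hs : 1 ≤ s) (h2 : p ≠ 2 ∨ 2 ≤ s) :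
    ∀ (m : ℕ), ∀ (G : Type u) [Group G] [Finite G], Nat.card G = p ^ m → s < m →
      (∀ H K : Subgroup G, Nat.card H = p ^ s → Nat.card K = p ^ s → H = K) → IsCyclic G := by
  intro m
  induction m using Nat.strong_induction_on with
  | _ m ih =>
    intro G _ _ hG hsm huniq
    haveI : Fact p.Prime := ⟨hp⟩
    have hPG : IsPGroup p G := IsPGroup.of_card hG
    have hdvds : p ^ s ∣ Nat.card G := by rw [hG]; exact pow_dvd_pow p hsm.le
    obtain ⟨H₀, hH₀⟩ := Sylow.exists_subgroup_card_pow_prime p hdvds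
    have hB : ∀ K : Subgroup G, p ^ s ≤ Nat.card K → H₀ ≤ K := by
      intro K hK
      obtain ⟨H', hH'K, hH'⟩ := Sylow.exists_subgroup_le_card_pow_prime_of_le_card hp hPG hK
      rw [huniq H₀ H' hH₀ hH']; exact hH'K
    have hC : ∀ K : Subgroup G, Nat.card K ≤ p ^ s → K ≤ H₀ := by
      intro K hK
      obtain ⟨t, ht⟩ := (hPG.to_subgroup K).exists_card_eq
      have hts : t ≤ s := by
        rw [ht] at hK; exact (Nat.pow_le_pow_iff_right hp.one_lt).mp hK
      obtain ⟨K', hK', hKK'⟩ := Sylow.exists_subgroup_card_pow_prime_le p hdvds K ht hts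
      rw [huniq H₀ K' hH₀ hK']; exact hKK'
    have hD : ∀ x : G, x ∉ H₀ → p ^ s < orderOf x := by
      intro x hx
      by_contra hcon
      rw [not_lt] at hcon
      apply hx
      have := hC (Subgroup.zpowers x) (by rw [Nat.card_zpowers]; exact hcon)
      exact this (Subgroup.mem_zpowers x)
    have hH₀ne : H₀ ≠ ⊤ := by
      intro h
      have h1 := (Subgroup.card_eq_iff_eq_top _).mpr h
      rw [hH₀, hG] at h1
      have := Nat.pow_right_injective hp.two_le h1
      omega
    obtain ⟨x₀, hx₀⟩ : ∃ x₀, x₀ ∉ H₀ := by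
      by_contra hcon
      rw [not_exists] at hcon
      exact hH₀ne (eq_top_iff.mpr fun x _ => not_not.mp (hcon x))
    have hH₀cyc : IsCyclic H₀ := by
      have hle : H₀ ≤ Subgroup.zpowers x₀ := hB _ (by rw [Nat.card_zpowers]; exact (hD x₀ hx₀).le)
      exact Subgroup.isCyclic_of_le hle
    by_cases hms : m = s + 1
    · have h1 : orderOf x₀ ∣ p ^ m := hG ▸ orderOf_dvd_natCard x₀
      obtain ⟨k, hk, hkc⟩ := (Nat.dvd_prime_pow hp).mp h1
      have h3 : p ^ s < p ^ k := hkc ▸ hD x₀ hx₀
      have h4 : s < k := (Nat.pow_lt_pow_iff_right hp.one_lt).mp h3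
      have hkm : k = m := by omega
      exact isCyclic_of_orderOf_eq_card x₀ (by rw [hkc, hkm, hG])
    · have hm2 : s + 2 ≤ m := by omega
      have hdvdm : p ^ (m - 1) ∣ Nat.card G := by rw [hG]; exact pow_dvd_pow p (by omega)
      have hmax : ∀ M : Subgroup G, Nat.card M = p ^ (m - 1) → IsCyclic M := by
        intro M hM
        apply ih (m - 1) (by omega) M hM (by omega)
        intro H K hH hK
        have hH' : Nat.card (H.map M.subtype) = p ^ s := by
          rw [Subgroup.card_map_of_injective M.subtype_injective, hH]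
        have hK' : Nat.card (K.map M.subtype) = p ^ s := by
          rw [Subgroup.card_map_of_injective M.subtype_injective, hK]
        exact Subgroup.map_injective M.subtype_injective (huniq _ _ hH' hK')
      by_cases hone : ∀ M₁ M₂ : Subgroup G, Nat.card M₁ = p ^ (m - 1) → Nat.card M₂ = p ^ (m - 1) → M₁ = M₂
      · obtain ⟨M₁, hM₁⟩ := Sylow.exists_subgroup_card_pow_prime p hdvdm
        have hM₁ne : M₁ ≠ ⊤ := by
          intro h
          have h1 := (Subgroup.card_eq_iff_eq_top _).mpr h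
          rw [hM₁, hG] at h1
          have := Nat.pow_right_injective hp.two_le h1
          omega
        obtain ⟨x, hx⟩ : ∃ x, x ∉ M₁ := by
          by_contra hcon
          rw [not_exists] at hcon
          exact hM₁ne (eq_top_iff.mpr fun x _ => not_not.mp (hcon x))
        rw [isCyclic_iff_exists_zpowers_eq_top]
        refine ⟨x, ?_⟩
        by_contra hcon
        obtain ⟨t, ht⟩ := (hPG.to_subgroup (Subgroup.zpowers x)).exists_card_eq
        have htm : t ≤ m - 1 := by
          have hdvd : Nat.card (Subgroup.zpowers x) ∣ p ^ m := hG ▸ Subgroup.card_subgroup_dvd_card _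
          rw [ht] at hdvd
          have htm' : t ≤ m := (Nat.pow_dvd_pow_iff_le_right hp.one_lt).mp hdvd
          have : t ≠ m := by
            intro h
            apply hcon
            rw [← Subgroup.card_eq_iff_eq_top, ht, h, hG]
          omega
        obtain ⟨K', hK', hKK'⟩ := Sylow.exists_subgroup_card_pow_prime_le p hdvdm (Subgroup.zpowers x) ht htm
        rw [hone K' M₁ hK' hM₁] at hKK'
        exact hx (hKK' (Subgroup.mem_zpowers x))
      · exfalso
        rw [not_forall] at hone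
        obtain ⟨M₁, hone⟩ := hone
        rw [not_forall] at hone
        obtain ⟨M₂, hone⟩ := hone
        rw [Classical.not_imp] at hone
        obtain ⟨hM₁, hone⟩ := hone
        rw [Classical.not_imp] at hone
        obtain ⟨hM₂, hne⟩ := hone
        exact false_of_two_cyclic_max p m s hp hG hs hm2 h2 H₀ hH₀cyc hD M₁ M₂ hM₁ hM₂ hne
          (hmax M₁ hM₁) (hmax M₂ hM₂)

/-- Let `p` be a prime and `G` a group of order `p ^ m` which has exactly one subgroup of order `p ^ s`, where `1 ≤ s < m`, and where `s ≥ 2` if `p = 2`. Then `G` is cyclic. (For `p = 2` and `s = 1` the generalized quaternion groups also occur; that case is the classical criterion for a unique involution.) -/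
theorem result {G : Type*} [Group G] [Finite G] (p m s : ℕ) (hp : p.Prime) (hG : Nat.card G = p ^ m) (hs : 1 ≤ s) (hsm : s < m) (h2 : p ≠ 2 ∨ 2 ≤ s) (huniq : ∀ H K : Subgroup G, Nat.card H = p ^ s → Nat.card K = p ^ s → H = K) : IsCyclic G := by
  exact cyclic_aux p s hp hs h2 m G hG hsm huniq

end Cfsg.Agent.S3977
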