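import Cfsg.Statements.S2971
import Cfsg.Agent.S2970
import Cfsg.Agent.S3977
import Cfsg.Agent.Lib.helper55.Isolated
import Cfsg.Agent.Lib.helper40.Cores
-- import your own Cfsg.Agent.* helpers here

set_option autoImplicit false
open Cfsg

namespace Cfsg.Agent.S2971

open Cfsg.Agent.Lib.helper55

/-- In a Sylow `p`-subgroup `Q` containing an isolated element `y` of order `p`, in a group of
`p`-rank at most `1`, every element `t` with `t ^ p = 1` is a power of `y`. -/
theorem mem_zpowers_of_pow_eq_one {G : Type*} [Group G] [Finite G] {p : ℕ} [Fact p.Prime]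
    (hrk : Cfsg.PRankLE p 1 G) {y : G} (hy : orderOf y = p) (hiso : Cfsg.IsIsolated y)
    (Q : Sylow p G) (hyQ : y ∈ Q) {t : G} (htQ : t ∈ Q) (ht : t ^ p = 1) :
    t ∈ Subgroup.zpowers y := by
  have hcomm : Commute y t := isolated_commute_of_mem_pGroup hiso Q.isPGroup' hyQ htQ
  obtain ⟨A, hA⟩ : ∃ A, A = Subgroup.closure ({y, t} : Set G) := ⟨_, rfl⟩
  have hgen : ∀ a ∈ ({y, t} : Set G), ∀ b ∈ ({y, t} : Set G), a * b = b * a := by
    intro a ha b hb
    rcases ha with rfl | ha <;> rcases hb with rfl | hb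
    · rfl
    · rw [Set.mem_singleton_iff.mp hb]; exact hcomm.eq
    · rw [Set.mem_singleton_iff.mp ha]; exact hcomm.eq.symm
    · rw [Set.mem_singleton_iff.mp ha, Set.mem_singleton_iff.mp hb]
  have hAc : ∀ a ∈ A, ∀ b ∈ A, a * b = b * a := by
    intro a ha b hb
    rw [hA] at ha hb
    have hcl := Subgroup.isMulCommutative_closure hgen
    exact congrArg Subtype.val
      (hcl.is_comm.comm (⟨a, ha⟩ : Subgroup.closure ({y, t} : Set G)) ⟨b, hb⟩)
  have hAcomm : IsMulCommutative A :=
    ⟨⟨fun a b => Subtype.ext (hAc a a.2 b b.2)⟩⟩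
  have hyp : y ^ p = 1 := by rw [← hy]; exact pow_orderOf_eq_one y
  have hAexp : ∀ a ∈ A, a ^ p = 1 := by
    intro a ha
    have ha' := ha
    rw [hA] at ha'
    refine Subgroup.closure_induction (p := fun a _ => a ^ p = 1) ?_ ?_ ?_ ?_ ha'
    · intro z hz
      rcases hz with rfl | hz
      · exact hyp
      · rw [Set.mem_singleton_iff.mp hz]; exact ht
    · exact one_pow p
    · intro a b ha hb ha1 hb1
      have hc : Commute a b := hAc a (hA ▸ ha) b (hA ▸ hb)
      rw [hc.mul_pow, ha1, hb1, one_mul]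
    · intro a _ ha1
      rw [inv_pow, ha1, inv_one]
  have hcard := hrk A hAcomm hAexp
  rw [pow_one] at hcard
  have hyA : Subgroup.zpowers y ≤ A := by
    rw [Subgroup.zpowers_le, hA]
    exact Subgroup.subset_closure (Set.mem_insert y _)
  have htA : t ∈ A := by
    rw [hA]
    exact Subgroup.subset_closure (Set.mem_insert_of_mem y (Set.mem_singleton t))
  have heq : Subgroup.zpowers y = A := by
    apply Subgroup.eq_of_le_of_card_ge hyA
    rw [Nat.card_zpowers, hy]; exact hcard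
  rw [heq]; exact htA

/-- Under the same hypotheses the Sylow subgroup `Q` is cyclic (for odd `p`). -/
theorem sylow_cyclic {G : Type*} [Group G] [Finite G] {p : ℕ} [Fact p.Prime] (hp : p ≠ 2)
    (hrk : Cfsg.PRankLE p 1 G) {y : G} (hy : orderOf y = p) (hiso : Cfsg.IsIsolated y)
    (Q : Sylow p G) (hyQ : y ∈ Q) : IsCyclic ↥(Q : Subgroup G) := by
  have hpp : p.Prime := Fact.out
  have hYcard : Nat.card ((Subgroup.zpowers y).subgroupOf (Q : Subgroup G)) = p := by
    have hle : Subgroup.zpowers y ≤ (Q : Subgroup G) := by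
      rw [Subgroup.zpowers_le]; exact hyQ
    rw [Nat.card_congr (Subgroup.subgroupOfEquivOfLe hle).toEquiv, Nat.card_zpowers, hy]
  have huniq : ∀ H : Subgroup ↥(Q : Subgroup G), Nat.card H = p →
      H = (Subgroup.zpowers y).subgroupOf (Q : Subgroup G) := by
    intro H hH
    apply Subgroup.eq_of_le_of_card_ge
    · intro h hh
      rw [Subgroup.mem_subgroupOf]
      apply mem_zpowers_of_pow_eq_one hrk hy hiso Q hyQ h.2
      have h1 : (⟨h, hh⟩ : H) ^ Nat.card H = 1 := pow_card_eq_one'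
      rw [hH] at h1
      have h2 := congrArg (fun z : H => ((z : ↥(Q : Subgroup G)) : G)) h1
      simpa using h2
    · rw [hYcard, hH]
  obtain ⟨m, hm⟩ := IsPGroup.iff_card.mp Q.isPGroup'
  rcases Nat.lt_or_ge m 2 with hm2 | hm2
  · interval_cases m
    · rw [pow_zero] at hm
      have : Subsingleton ↥(Q : Subgroup G) := (Nat.card_eq_one_iff_unique.mp hm).1
      exact isCyclic_of_subsingleton
    · rw [pow_one] at hm
      exact isCyclic_of_prime_card hm
  · exact Cfsg.Agent.S3977.result p m 1 hpp hm le_rfl (by omega) (Or.inl hp)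
      (fun H K hH hK => by
        rw [pow_one] at hH hK
        rw [huniq H hH, huniq K hK])

/-- Let G be a finite group and p an odd prime such that G has p-rank at most 1 (no elementary abelian subgroup of order p²). If x ∈ G is an isolated element of order p, then x is central modulo the largest normal subgroup of G of order prime to p. -/
theorem result {G : Type*} [Group G] [Finite G] {p : ℕ} [Fact p.Prime] (hp : p ≠ 2) (hrk : Cfsg.PRankLE p 1 G) (x : G) (hx : orderOf x = p) (hiso : Cfsg.IsIsolated x) : Cfsg.InZStar p x := by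
  have hpp : p.Prime := Fact.out
  have hx1 : x ≠ 1 := by
    intro h; rw [h, orderOf_one] at hx; exact hpp.ne_one hx.symm
  have hxp : ∃ k : ℕ, orderOf x = p ^ k := ⟨1, by rw [hx, pow_one]⟩
  obtain ⟨P₀, hP₀⟩ := (IsPGroup.of_card (p := p) (n := 1)
    (by rw [Nat.card_zpowers, hx, pow_one]) : IsPGroup p (Subgroup.zpowers x)).exists_le_sylow
  have hxP₀ : x ∈ P₀ := hP₀ (Subgroup.mem_zpowers x)
  have hcyc : ∀ Q : Sylow p G, IsCyclic ↥(Q : Subgroup G) := by
    intro Q
    obtain ⟨c, hc⟩ := MulAction.exists_smul_eq G P₀ Q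
    have hyQ : c * x * c⁻¹ ∈ Q := by rw [← hc]; exact conj_mem_sylow_smul P₀ c hxP₀
    have hyo : orderOf (c * x * c⁻¹) = p := by
      have := orderOf_injective (MulAut.conj c).toMonoidHom (MulAut.conj c).injective x
      rw [← hx, ← this]; rfl
    exact sylow_cyclic hp hrk hyo (isolated_conj hiso c) Q hyQ
  obtain ⟨P, N, hN, hcompl⟩ := (Cfsg.Agent.S2970.result x hxp hiso).2 hx1 hcyc
  have hcop : (Nat.card N).Coprime p := by
    have h1 : (P : Subgroup G).index = Nat.card N := hcompl.index_eq_card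
    have h2 := P.not_dvd_index
    rw [h1] at h2
    exact ((Nat.Prime.coprime_iff_not_dvd hpp).mpr h2).symm
  have hNle := Cfsg.Agent.Lib.helper40.le_pPrimeCore N hN hcop
  have hPcomm : ∀ a ∈ P, ∀ b ∈ P, a * b = b * a := by
    have := hcyc P
    let _i := IsCyclic.commGroup (α := ↥(P : Subgroup G))
    intro a ha b hb
    exact congrArg Subtype.val (mul_comm (⟨a, ha⟩ : ↥(P : Subgroup G)) ⟨b, hb⟩)
  have key : ∀ g : G, ∃ y ∈ P, (QuotientGroup.mk g : G ⧸ N) = QuotientGroup.mk y := by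
    intro g
    obtain ⟨⟨n, y⟩, hny⟩ := hcompl.2 g
    refine ⟨y, y.2, ?_⟩
    have hny' : (n : G) * (y : G) = g := hny
    rw [← hny', QuotientGroup.mk_mul, (QuotientGroup.eq_one_iff (n : G)).mpr n.2, one_mul]
  intro g
  apply hNle
  obtain ⟨a, ha, hga⟩ := key g
  obtain ⟨b, hb, hxb⟩ := key x
  rw [← QuotientGroup.eq_one_iff]
  have e1 : ((g * x * g⁻¹ * x⁻¹ : G) : G ⧸ N)
      = (g : G ⧸ N) * (x : G ⧸ N) * (g : G ⧸ N)⁻¹ * (x : G ⧸ N)⁻¹ := rfl
  rw [e1, hga, hxb]
  have e2 : (a : G ⧸ N) * (b : G ⧸ N) * (a : G ⧸ N)⁻¹ * (b : G ⧸ N)⁻¹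
      = ((a * b * a⁻¹ * b⁻¹ : G) : G ⧸ N) := rfl
  rw [e2, hPcomm a ha b hb]
  have : b * a * a⁻¹ * b⁻¹ = 1 := by group
  rw [this]; rfl

end Cfsg.Agent.S2971
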