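import Cfsg.Statements.S2972
import Cfsg.Agent.Lib.helper55.OPrime
import Cfsg.Agent.Lib.helper55.SylowExtra
-- import your own Cfsg.Agent.* helpers here

set_option autoImplicit false
open Cfsg

namespace Cfsg.Agent.S2972

open Cfsg.Agent.Lib.helper55 in
open scoped commutatorElement in
/-- Let G be a finite group, p a prime and x ∈ G an isolated element of order p (the only conjugate of x commuting with x is x) which is not central modulo the largest normal subgroup of order prime to p, while x is central modulo the largest normal subgroup of order prime to p in every proper subgroup containing x, and the image of x is so in every quotient of G by a nontrivial normal subgroup (a minimal counterexample to the Z*_p statement). Then the derived subgroup G' is a non-abelian simple group and G = G'⟨x⟩. -/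
theorem result {G : Type*} [Group G] [Finite G] {p : ℕ} [Fact p.Prime] (x : G) (hx : orderOf x = p) (hiso : Cfsg.IsIsolated x) (hnz : ¬ Cfsg.InZStar p x) (hmin : ∀ (H : Subgroup G) (hxH : x ∈ H), H ≠ ⊤ → Cfsg.InZStar p (⟨x, hxH⟩ : ↥H)) (hquot : ∀ (N : Subgroup G) [N.Normal], N ≠ ⊥ → Cfsg.InZStar p (QuotientGroup.mk x : G ⧸ N)) : IsSimpleGroup ↥(commutator G) ∧ ¬ IsMulCommutative ↥(commutator G) ∧ commutator G ⊔ Subgroup.zpowers x = ⊤ := by
  have hp : p.Prime := Fact.out
  -- Step 1: `O_{p'}(G) = 1`.
  have hO : pPrimeCore p G = ⊥ := by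
    by_contra hne
    apply hnz
    intro g
    have h1 := hquot (pPrimeCore p G) hne (QuotientGroup.mk g)
    rw [Cfsg.Agent.Lib.helper60.pPrimeCore_quotient_eq_bot, Subgroup.mem_bot] at h1
    have h2 : ((g * x * g⁻¹ * x⁻¹ : G) : G ⧸ pPrimeCore p G) = 1 := by
      simpa using h1
    exact (QuotientGroup.eq_one_iff _).mp h2
  have hnc : ¬ ∀ g : G, Commute g x := by
    intro h
    apply hnz
    intro g
    have : g * x * g⁻¹ * x⁻¹ = 1 := by rw [(h g).eq]; group
    rw [this]; exact one_mem _
  have hx1 : x ≠ 1 := by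
    intro h; rw [h, orderOf_one] at hx; exact hp.ne_one hx.symm
  -- Step 2: the hypothesis on proper subgroups, inside `G`.
  have hL1 : ∀ (H : Subgroup G), x ∈ H → H ≠ ⊤ → ∀ h ∈ H,
      h * x * h⁻¹ * x⁻¹ ∈ (pPrimeCore p H).map H.subtype := by
    intro H hxH hH h hh
    have := hmin H hxH hH ⟨h, hh⟩
    exact ⟨_, this, by simp⟩
  -- Step 3: dichotomy for normal subgroups.
  have hdich : ∀ N : Subgroup G, N.Normal → N ⊔ Subgroup.zpowers x ≠ ⊤ →
      ∀ n ∈ N, Commute n x := by
    intro N hN hne n hn
    obtain ⟨H, hH⟩ : ∃ H, H = N ⊔ Subgroup.zpowers x := ⟨_, rfl⟩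
    rw [← hH] at hne
    have hxH : x ∈ H := by rw [hH]; exact le_sup_right (α := Subgroup G) (Subgroup.mem_zpowers x)
    have hNH : N ≤ H := by rw [hH]; exact le_sup_left
    have h1 := hL1 H hxH hne n (hNH hn)
    have h2 : n * x * n⁻¹ * x⁻¹ ∈ N := by
      have := hN.conj_mem n⁻¹ (N.inv_mem hn) x
      have e : n * x * n⁻¹ * x⁻¹ = n * (x * n⁻¹ * x⁻¹) := by group
      rw [e]; exact N.mul_mem hn this
    have h3 : (pPrimeCore p H).map H.subtype ⊓ N = ⊥ := by
      apply eq_bot_of_coprime_of_normal_in_normal hO hN inf_le_right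
      · intro m hm
        apply Cfsg.Agent.Lib.helper40.mem_normalizer_inf
        · exact Cfsg.Agent.Lib.helper40.le_normalizer_pPrimeCore_map_subtype p H (hNH hm)
        · exact Subgroup.le_normalizer hm
      · exact Nat.Coprime.coprime_dvd_left (Subgroup.card_dvd_of_le inf_le_left)
          (Cfsg.Agent.Lib.helper40.pPrimeCore_map_subtype_card_coprime p H)
    have h4 : n * x * n⁻¹ * x⁻¹ ∈ (pPrimeCore p H).map H.subtype ⊓ N :=
      Subgroup.mem_inf.mpr ⟨h1, h2⟩
    rw [h3, Subgroup.mem_bot] at h4
    show n * x = x * n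
    have : n * x = (n * x * n⁻¹ * x⁻¹) * (x * n) := by group
    rw [this, h4, one_mul]
  -- Step 4: the normal closure of `x` is `G`.
  have hM : Subgroup.normalClosure ({x} : Set G) = ⊤ := by
    by_contra hne
    apply hnc
    have hMn : (Subgroup.normalClosure ({x} : Set G)).Normal := Subgroup.normalClosure_normal
    have hxM : x ∈ Subgroup.normalClosure ({x} : Set G) :=
      Subgroup.subset_normalClosure (Set.mem_singleton x)
    have hc : ∀ m ∈ Subgroup.normalClosure ({x} : Set G), Commute m x := by
      intro m hm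
      have h1 := hL1 _ hxM hne m hm
      have h2 := Cfsg.Agent.Lib.helper40.pPrimeCore_map_subtype_le_of_subnormal (p := p)
        hMn.isSubnormal h1
      rw [hO, Subgroup.mem_bot] at h2
      show m * x = x * m
      have : m * x = (m * x * m⁻¹ * x⁻¹) * (x * m) := by group
      rw [this, h2, one_mul]
    intro g
    have hg : g * x * g⁻¹ ∈ Subgroup.normalClosure ({x} : Set G) := hMn.conj_mem x hxM g
    have h3 := hiso g (hc _ hg).symm
    show g * x = x * g
    have : g * x = (g * x * g⁻¹) * g := by group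
    rw [this, h3]
  have hcent : ∀ N : Subgroup G, N.Normal → (∀ n ∈ N, Commute n x) →
      N ≤ Subgroup.center G := by
    intro N hN hc
    have := hN
    have h1 : Subgroup.normalClosure ({x} : Set G) ≤ Subgroup.centralizer (N : Set G) := by
      apply Subgroup.normalClosure_le_normal
      intro y hy
      rw [Set.mem_singleton_iff] at hy
      rw [hy]
      exact Subgroup.mem_centralizer_iff.mpr (fun n hn => (hc n hn).eq)
    rw [hM] at h1
    intro n hn
    rw [Subgroup.mem_center_iff]
    intro g
    have := Subgroup.mem_centralizer_iff.mp (h1 (Subgroup.mem_top g)) n hn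
    exact this.symm
  -- Step 5: the centre is trivial.
  have hZ : Subgroup.center G = ⊥ := by
    by_contra hne
    apply hnc
    have hZp : IsPGroup p (Subgroup.center G) :=
      isPGroup_of_abelian_normal hO inferInstance
        (fun a ha b _ => (Subgroup.mem_center_iff.mp ha b).symm)
    have hK := comap_pPrimeCore_quotient_le_of_central (Subgroup.center G) le_rfl hZp hO
    intro g
    have h1 := hquot (Subgroup.center G) hne (QuotientGroup.mk g)
    have h2 : g * x * g⁻¹ * x⁻¹ ∈ Subgroup.center G := by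
      apply hK
      rw [Subgroup.mem_comap]
      simpa using h1
    have h3 : Commute x (g * x * g⁻¹) := by
      have e : g * x * g⁻¹ = (g * x * g⁻¹ * x⁻¹) * x := by group
      rw [e]
      show x * (g * x * g⁻¹ * x⁻¹ * x) = g * x * g⁻¹ * x⁻¹ * x * x
      rw [← mul_assoc, (Subgroup.mem_center_iff.mp h2 x)]
    have h4 := hiso g h3
    show g * x = x * g
    have : g * x = (g * x * g⁻¹) * g := by group
    rw [this, h4]
  -- Step 6a: every nontrivial normal subgroup supplements `⟨x⟩` and contains `G'`.
  have hsup : ∀ N : Subgroup G, N.Normal → N ≠ ⊥ → N ⊔ Subgroup.zpowers x = ⊤ := by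
    intro N hN hne
    by_contra h
    have := hcent N hN (hdich N hN h)
    rw [hZ, le_bot_iff] at this
    exact hne this
  have hDle : ∀ N : Subgroup G, N.Normal → N ≠ ⊥ → commutator G ≤ N := by
    intro N hN hne
    have := hN
    have h1 := hsup N hN hne
    rw [commutator_def, Subgroup.commutator_le]
    intro a _ b _
    have key : ∀ g : G, ∃ i : ℤ, (QuotientGroup.mk g : G ⧸ N) = (QuotientGroup.mk x) ^ i := by
      intro g
      have hg : g ∈ N ⊔ Subgroup.zpowers x := by rw [h1]; exact Subgroup.mem_top g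
      rw [Subgroup.mem_sup_of_normal_left] at hg
      obtain ⟨y, hy, z, hz, rfl⟩ := hg
      obtain ⟨i, rfl⟩ := Subgroup.mem_zpowers_iff.mp hz
      refine ⟨i, ?_⟩
      rw [QuotientGroup.mk_mul, (QuotientGroup.eq_one_iff y).mpr hy, one_mul,
        QuotientGroup.mk_zpow]
    obtain ⟨i, hi⟩ := key a
    obtain ⟨j, hj⟩ := key b
    rw [← QuotientGroup.eq_one_iff]
    have : ((⁅a, b⁆ : G) : G ⧸ N) = ⁅(a : G ⧸ N), (b : G ⧸ N)⁆ := by
      simp [commutatorElement_def]
    rw [this, hi, hj, commutatorElement_eq_one_iff_commute]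
    exact (Commute.refl _).zpow_zpow i j
  have hDn : (commutator G).Normal := inferInstance
  have hD1 : commutator G ≠ ⊥ := by
    intro h
    apply hnc
    intro g
    have : ⁅g, x⁆ ∈ commutator G := by
      rw [commutator_def]
      exact Subgroup.commutator_mem_commutator (Subgroup.mem_top g) (Subgroup.mem_top x)
    rw [h, Subgroup.mem_bot, commutatorElement_eq_one_iff_commute] at this
    exact this
  have hDx : commutator G ⊔ Subgroup.zpowers x = ⊤ := hsup _ hDn hD1
  -- Step 6c: `G'` is not abelian.
  have hDab : ¬ IsMulCommutative ↥(commutator G) := by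
    intro hc
    have hDp : IsPGroup p (commutator G) := by
      apply isPGroup_of_abelian_normal hO hDn
      intro a ha b hb
      have := hc.is_comm.comm (⟨a, ha⟩ : commutator G) ⟨b, hb⟩
      exact congrArg Subtype.val this
    have hGp : IsPGroup p G := by
      obtain ⟨n, hn⟩ := IsPGroup.iff_card.mp hDp
      have h1 := Cfsg.Agent.Lib.helper40.card_sup_dvd_mul (Subgroup.zpowers x) (commutator G)
      rw [sup_comm, hDx, Subgroup.card_top, Nat.card_zpowers, hx, hn, ← pow_succ'] at h1
      obtain ⟨k, _, hk⟩ := (Nat.dvd_prime_pow hp).mp h1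
      exact IsPGroup.of_card hk
    have : Nontrivial G := ⟨⟨x, 1, hx1⟩⟩
    have := hGp.center_nontrivial
    rw [hZ] at this
    exact not_nontrivial _ this
  -- Step 6d: `G'` is simple.
  have hDsimple : IsSimpleGroup ↥(commutator G) := by
    have : Nontrivial ↥(commutator G) := (Subgroup.nontrivial_iff_ne_bot _).mpr hD1
    refine ⟨fun L hL => ?_⟩
    by_contra hcon
    push Not at hcon
    obtain ⟨hLbot, hLtop⟩ := hcon
    obtain ⟨L', hL'⟩ : ∃ L' : Subgroup G, L' = L.map (commutator G).subtype := ⟨_, rfl⟩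
    have hL'D : L' ≤ commutator G := by rw [hL']; exact Subgroup.map_subtype_le L
    have hL'bot : L' ≠ ⊥ := by
      rw [hL']; intro h
      exact hLbot ((Subgroup.map_eq_bot_iff_of_injective _ (Subgroup.subtype_injective _)).mp h)
    have hL'lt : ¬ commutator G ≤ L' := by
      intro h
      apply hLtop
      rw [eq_top_iff]
      intro d _
      have := h d.2
      rw [hL'] at this
      obtain ⟨d', hd', hdd⟩ := this
      have : d' = d := Subtype.ext hdd
      rw [← this]; exact hd'
    have hL'n : commutator G ≤ Subgroup.normalizer (L' : Set G) := by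
      have : (L'.subgroupOf (commutator G)).Normal := by
        rw [hL']
        show ((L.map (commutator G).subtype).comap (commutator G).subtype).Normal
        rw [Subgroup.comap_map_eq_self_of_injective (Subgroup.subtype_injective _)]
        exact hL
      exact (Subgroup.normal_subgroupOf_iff_le_normalizer hL'D).mp this
    have hcore : Subgroup.normalCore L' = ⊥ := by
      by_contra hne
      exact hL'lt ((hDle _ (Subgroup.normalCore_normal L') hne).trans (Subgroup.normalCore_le L'))
    have hpL : p ∣ Nat.card L' := by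
      by_contra hnd
      exact hL'bot (eq_bot_of_coprime_of_normal_in_normal hO hDn hL'D hL'n
        ((Nat.Prime.coprime_iff_not_dvd hp).mpr hnd).symm)
    obtain ⟨t, ht⟩ := exists_prime_orderOf_dvd_card' p hpL
    obtain ⟨P, hP⟩ := (IsPGroup.of_card (p := p) (n := 1)
      (by rw [Nat.card_zpowers, hx, pow_one]) : IsPGroup p (Subgroup.zpowers x)).exists_le_sylow
    have hxP : x ∈ P := hP (Subgroup.mem_zpowers x)
    obtain ⟨Q, hQ⟩ := (IsPGroup.of_card (p := p) (n := 1)
      (by rw [Nat.card_zpowers, Subgroup.orderOf_coe, ht, pow_one]) :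
        IsPGroup p (Subgroup.zpowers (t : G))).exists_le_sylow
    obtain ⟨c, hc⟩ := MulAction.exists_smul_eq G P Q
    have htQ : (t : G) ∈ Q := hQ (Subgroup.mem_zpowers _)
    have hx'Q : c * x * c⁻¹ ∈ Q := by rw [← hc]; exact conj_mem_sylow_smul P c hxP
    have hcomm : Commute (c * x * c⁻¹) (t : G) :=
      isolated_commute_of_mem_pGroup (isolated_conj hiso c) Q.isPGroup' hx'Q htQ
    have htcore : (t : G) ∈ Subgroup.normalCore L' := by
      intro g
      have hu : c⁻¹ * g * c ∈ commutator G ⊔ Subgroup.zpowers x := by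
        rw [hDx]; exact Subgroup.mem_top _
      rw [Subgroup.mem_sup_of_normal_left] at hu
      obtain ⟨d, hd, z, hz, hdz⟩ := hu
      obtain ⟨i, rfl⟩ := Subgroup.mem_zpowers_iff.mp hz
      have e1 : (c * x * c⁻¹) ^ i = c * x ^ i * c⁻¹ := by
        simp
      have hg : g = (c * d * c⁻¹) * (c * x * c⁻¹) ^ i := by
        rw [e1]
        have : c * d * c⁻¹ * (c * x ^ i * c⁻¹) = c * (d * x ^ i) * c⁻¹ := by group
        rw [this, hdz]; group
      have hd' : c * d * c⁻¹ ∈ commutator G := hDn.conj_mem d hd c
      have hci : Commute ((c * x * c⁻¹) ^ i) (t : G) := hcomm.zpow_left i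
      have e2 : g * t * g⁻¹ = (c * d * c⁻¹) * t * (c * d * c⁻¹)⁻¹ := by
        have e3 : (c * x * c⁻¹) ^ i * (t : G) * ((c * x * c⁻¹) ^ i)⁻¹ = t := by
          rw [hci.eq, mul_assoc, mul_inv_cancel, mul_one]
        rw [hg, mul_inv_rev]
        calc c * d * c⁻¹ * (c * x * c⁻¹) ^ i * ↑t * (((c * x * c⁻¹) ^ i)⁻¹ * (c * d * c⁻¹)⁻¹)
            = c * d * c⁻¹ * ((c * x * c⁻¹) ^ i * ↑t * ((c * x * c⁻¹) ^ i)⁻¹) * (c * d * c⁻¹)⁻¹ := by
              simp only [mul_assoc]
          _ = _ := by rw [e3]
      rw [e2]
      exact (Subgroup.mem_normalizer_iff.mp (hL'n hd') t).mp t.2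
    rw [hcore, Subgroup.mem_bot] at htcore
    have : orderOf (t : G) = p := by rw [Subgroup.orderOf_coe, ht]
    rw [htcore, orderOf_one] at this
    exact hp.ne_one this.symm
  exact ⟨hDsimple, hDab, hDx⟩

end Cfsg.Agent.S2972
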