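import Cfsg.Statements.S2975
import Cfsg.Agent.Lib.helper55.OPrime
import Cfsg.Agent.Lib.helper55.Conj
-- import your own Cfsg.Agent.* helpers here

set_option autoImplicit false
open Cfsg

namespace Cfsg.Agent.S2975

open Cfsg.Agent.Lib.helper55

/-- Transitivity of `C_G(x)` on the `x`-invariant Sylow `q`-subgroups, for an isolated `p`-element. -/
theorem centralizer_transitive {G : Type*} [Group G] [Finite G] {p : ℕ} [Fact p.Prime] (x : G)
    (hx : orderOf x = p) (hiso : Cfsg.IsIsolated x) (q : ℕ) [Fact q.Prime] (S₁ S₂ : Sylow q G)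
    (h₁ : x ∈ Subgroup.normalizer ((S₁ : Subgroup G) : Set G))
    (h₂ : x ∈ Subgroup.normalizer ((S₂ : Subgroup G) : Set G)) :
    ∃ c ∈ Subgroup.centralizer ({x} : Set G),
      (S₁ : Subgroup G).map (MulAut.conj c).toMonoidHom = (S₂ : Subgroup G) := by
  obtain ⟨g, hg⟩ := MulAction.exists_smul_eq G S₁ S₂
  have hS₂ : (S₂ : Subgroup G) = (S₁ : Subgroup G).map (MulAut.conj g).toMonoidHom := by
    rw [← hg]; exact coe_smul_sylow g S₁
  have hgx : g * x * g⁻¹ ∈ Subgroup.normalizer ((S₂ : Subgroup G) : Set G) := by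
    rw [hS₂]; exact conj_mem_normalizer_map g _ h₁
  obtain ⟨h, hh, hconj⟩ := isolated_conj_in_subgroup ⟨1, by rw [hx, pow_one]⟩ hiso _ h₂ g hgx
  refine ⟨h⁻¹ * g, ?_, ?_⟩
  · rw [Subgroup.mem_centralizer_iff]
    intro y hy
    rw [Set.mem_singleton_iff.mp hy]
    have e1 : h⁻¹ * g * x = h⁻¹ * (g * x * g⁻¹) * g := by group
    rw [e1, hconj]; group
  · rw [map_conj_mul, ← hS₂]
    exact (mem_normalizer_iff_map_conj _ _).mp (Subgroup.inv_mem _ hh)

/-- Let G be a finite group, p a prime and x ∈ G an isolated element of order p (the only conjugate of x commuting with x is x) which is not central modulo the largest normal subgroup of order prime to p, while x is central modulo the largest normal subgroup of order prime to p in every proper subgroup containing x, and the image of x is so in every quotient of G by a nontrivial normal subgroup (a minimal counterexample to the Z*_p statement). Then for every prime q, every q-subgroup of G that is normalized by x and maximal among the q-subgroups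 normalized by x is either trivial or a Sylow q-subgroup of G; and C_G(x) permutes the x-invariant Sylow q-subgroups of G transitively by conjugation. -/
theorem result {G : Type*} [Group G] [Finite G] {p : ℕ} [Fact p.Prime] (x : G) (hx : orderOf x = p) (hiso : Cfsg.IsIsolated x) (hnz : ¬ Cfsg.InZStar p x) (hmin : ∀ (H : Subgroup G) (hxH : x ∈ H), H ≠ ⊤ → Cfsg.InZStar p (⟨x, hxH⟩ : ↥H)) (hquot : ∀ (N : Subgroup G) [N.Normal], N ≠ ⊥ → Cfsg.InZStar p (QuotientGroup.mk x : G ⧸ N)) (q : ℕ) [Fact q.Prime] : (∀ Q : Subgroup G, IsPGroup q ↥Q → x ∈ Subgroup.normalizer (Q : Set G) → (∀ R : Subgroup G, IsPGroup q ↥R → x ∈ Subgroup.normalizer (R : Set G) → Q ≤ R → R = Q) → Q = ⊥ ∨ ∃ S : Sylow q G, (S : Subgroup G) = Q) ∧ (∀ S₁ S₂ : Sylow q G, x ∈ Subgroup.normalizer ((S₁ : Subgroup G) : Set G) → x ∈ Subgroup.normalizer ((S₂ : Subgroup G) : Set G) → ∃ c ∈ Subgroup.centralizer ({x} : Set G), (S₁ : Subgroup G).map (MulAut.conj c).toMonoidHom = (S₂ : Subgroup G)) := by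
  refine ⟨?_, fun S₁ S₂ h₁ h₂ => centralizer_transitive x hx hiso q S₁ S₂ h₁ h₂⟩
  have hp : p.Prime := Fact.out
  have hq : q.Prime := Fact.out
  intro Q hQ hxQ hmax
  by_cases hQbot : Q = ⊥
  · exact Or.inl hQbot
  right
  by_cases hqp : q = p
  · -- the case `q = p`
    subst hqp
    have hzp : IsPGroup q (Subgroup.zpowers x) :=
      IsPGroup.of_card (n := 1) (by rw [Nat.card_zpowers, hx, pow_one])
    have hR : IsPGroup q ↥(Q ⊔ Subgroup.zpowers x) :=
      IsPGroup.to_sup_of_normal_left' hQ hzp (by rw [Subgroup.zpowers_le]; exact hxQ)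
    have hxR : x ∈ Q ⊔ Subgroup.zpowers x :=
      le_sup_right (α := Subgroup G) (Subgroup.mem_zpowers x)
    have h1 := hmax _ hR (Subgroup.le_normalizer hxR) le_sup_left
    have hxQ' : x ∈ Q := by rw [← h1]; exact hxR
    obtain ⟨P, hP⟩ := hQ.exists_le_sylow
    have h2 := hmax P P.isPGroup' (Subgroup.le_normalizer (hP hxQ')) hP
    exact ⟨P, h2⟩
  · -- the case `q ≠ p`
    have hO : pPrimeCore p G = ⊥ := by
      by_contra hne
      apply hnz
      intro g
      have h1 := hquot (pPrimeCore p G) hne (QuotientGroup.mk g)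
      rw [Cfsg.Agent.Lib.helper60.pPrimeCore_quotient_eq_bot, Subgroup.mem_bot] at h1
      have h2 : ((g * x * g⁻¹ * x⁻¹ : G) : G ⧸ pPrimeCore p G) = 1 := by
        simpa using h1
      exact (QuotientGroup.eq_one_iff _).mp h2
    have hqp_cop : ∀ n : ℕ, (q ^ n).Coprime p :=
      fun n => Nat.Coprime.pow_left n ((Nat.coprime_primes hq hp).mpr hqp)
    obtain ⟨N, hN⟩ : ∃ N, N = Subgroup.normalizer (Q : Set G) := ⟨_, rfl⟩
    have hxN : x ∈ N := by rw [hN]; exact hxQ
    have hQN : Q ≤ N := by rw [hN]; exact Subgroup.le_normalizer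
    have hNtop : N ≠ ⊤ := by
      intro htop
      rw [hN] at htop
      have hQn : Q.Normal := Subgroup.normalizer_eq_top_iff.mp htop
      obtain ⟨n, hn⟩ := IsPGroup.iff_card.mp hQ
      have := Cfsg.Agent.Lib.helper40.le_pPrimeCore (p := p) Q hQn (by rw [hn]; exact hqp_cop n)
      rw [hO, le_bot_iff] at this
      exact hQbot this
    obtain ⟨O, hOdef⟩ : ∃ O, O = (pPrimeCore p N).map N.subtype := ⟨_, rfl⟩
    have hOcop : (Nat.card O).Coprime p := by
      rw [hOdef]; exact Cfsg.Agent.Lib.helper40.pPrimeCore_map_subtype_card_coprime p N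
    have hNO : N ≤ Subgroup.normalizer (O : Set G) := by
      rw [hOdef]; exact Cfsg.Agent.Lib.helper40.le_normalizer_pPrimeCore_map_subtype p N
    have hON : O ≤ N := by rw [hOdef]; exact Subgroup.map_subtype_le _
    have hcomm : ∀ n ∈ N, n * x * n⁻¹ * x⁻¹ ∈ O := by
      intro n hn
      have := hmin N hxN hNtop ⟨n, hn⟩
      rw [hOdef]
      exact ⟨_, this, by simp⟩
    -- a Sylow `q`-subgroup of `N` containing `Q`
    have hQ' : IsPGroup q (Q.subgroupOf N) := hQ.comap_subtype
    obtain ⟨P₀, hP₀⟩ := hQ'.exists_le_sylow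
    obtain ⟨T₀, hT₀⟩ : ∃ T₀, T₀ = (P₀ : Subgroup ↥N).map N.subtype := ⟨_, rfl⟩
    have hQT₀ : Q ≤ T₀ := by
      rw [hT₀, ← Subgroup.map_subgroupOf_eq_of_le hQN]
      exact Subgroup.map_mono hP₀
    have hT₀N : T₀ ≤ N := by rw [hT₀]; exact Subgroup.map_subtype_le _
    have hT₀card : Nat.card T₀ = q ^ (Nat.card N).factorization q := by
      rw [hT₀, Subgroup.card_map_of_injective N.subtype_injective]
      exact P₀.card_eq_multiplicity
    obtain ⟨W, hW⟩ : ∃ W, W = T₀ ⊔ O := ⟨_, rfl⟩
    have hWN : W ≤ N := by rw [hW]; exact sup_le hT₀N hON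
    have hT₀W : T₀ ≤ W := by rw [hW]; exact le_sup_left
    have hWcop : (Nat.card W).Coprime p := by
      have h1 := Cfsg.Agent.Lib.helper40.card_sup_dvd_mul_of_le_normalizer T₀ O (hT₀N.trans hNO)
      rw [← hW] at h1
      apply Nat.Coprime.coprime_dvd_left h1
      rw [hT₀card]
      exact Nat.Coprime.mul_left (hqp_cop _) hOcop
    have hxW : x ∈ Subgroup.normalizer (W : Set G) := by
      apply mem_normalizer_of_conj_mem
      intro y hy
      rw [hW] at hy ⊢
      have hyN : ∀ y ∈ T₀ ⊔ O, x * y * x⁻¹ ∈ T₀ ⊔ O := by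
        intro y hy
        rw [Subgroup.sup_eq_closure] at hy
        refine Subgroup.closure_induction (p := fun y _ => x * y * x⁻¹ ∈ T₀ ⊔ O) ?_ ?_ ?_ ?_ hy
        · intro t ht
          rcases ht with ht | ht
          · have h1 := hcomm t⁻¹ (N.inv_mem (hT₀N ht))
            have e : x * t * x⁻¹ = t * (t⁻¹ * x * t⁻¹⁻¹ * x⁻¹) := by group
            rw [e]
            exact Subgroup.mul_mem _ (le_sup_left (α := Subgroup G) ht)
              (le_sup_right (α := Subgroup G) h1)
          · exact le_sup_right (α := Subgroup G)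
              ((Subgroup.mem_normalizer_iff.mp (hNO hxN) t).mp ht)
        · simp
        · intro a b _ _ ha hb
          have e : x * (a * b) * x⁻¹ = (x * a * x⁻¹) * (x * b * x⁻¹) := by group
          rw [e]; exact Subgroup.mul_mem _ ha hb
        · intro a _ ha
          have e : x * a⁻¹ * x⁻¹ = (x * a * x⁻¹)⁻¹ := by group
          rw [e]; exact Subgroup.inv_mem _ ha
      exact hyN y hy
    have hxp : x ^ p = 1 := by rw [← hx]; exact pow_orderOf_eq_one x
    obtain ⟨T', hT'W, hT'card, hxT'⟩ := exists_invariant_sylow (q := q) W x hxp hxW hWcop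
    have hT'q : IsPGroup q T' := IsPGroup.of_card hT'card
    have hT'N : T' ≤ Subgroup.normalizer (Q : Set G) := by rw [← hN]; exact hT'W.trans hWN
    have hR : IsPGroup q ↥(Q ⊔ T') := IsPGroup.to_sup_of_normal_left' hQ hT'q hT'N
    have hxR : x ∈ Subgroup.normalizer ((Q ⊔ T' : Subgroup G) : Set G) :=
      Cfsg.Agent.Lib.helper40.mem_normalizer_sup hxQ hxT'
    have h1 := hmax _ hR hxR le_sup_left
    have hT'Q : T' ≤ Q := by rw [← h1]; exact le_sup_right
    have hcard_le : Nat.card T₀ ≤ Nat.card Q := by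
      have h2 : (Nat.card N).factorization q ≤ (Nat.card W).factorization q := by
        apply (hq.pow_dvd_iff_le_factorization Nat.card_pos.ne').mp
        rw [← hT₀card]; exact Subgroup.card_dvd_of_le hT₀W
      calc Nat.card T₀ = q ^ (Nat.card N).factorization q := hT₀card
        _ ≤ q ^ (Nat.card W).factorization q := Nat.pow_le_pow_right hq.pos h2
        _ = Nat.card T' := hT'card.symm
        _ ≤ Nat.card Q := Subgroup.card_le_of_le hT'Q
    have hQT : Q = T₀ := Subgroup.eq_of_le_of_card_ge hQT₀ hcard_le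
    apply exists_sylow_of_card_normalizer
    rw [← hN, hQT, hT₀card]

end Cfsg.Agent.S2975
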