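import Cfsg.Statements.S2998
import Cfsg.Agent.Lib.helper55.SylowExtra

set_option autoImplicit false
open Cfsg

namespace Cfsg.Agent.S2998

open Cfsg.Agent.Lib.helper55

/-- Let G be a finite group, p a prime, P a Sylow p-subgroup of G and x ∈ P an element such that N_G(R) ≤ C_G(x) for every nontrivial subgroup R of P. Then P ≤ C_G(x); every G-conjugate of x lying in P equals x (so g ∈ C_G(x) whenever g x g⁻¹ ∈ P); and for every normal subgroup N of G, the image of x in G ⧸ N has the same property with respect to the image of P: the normalizer of every nontrivial subgroup of the image of P centralizes the image of x. -/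
theorem result {G : Type*} [Group G] [Finite G] {p : ℕ} [Fact p.Prime] (P : Sylow p G) (x : G) (hxP : x ∈ (P : Subgroup G)) (hlc : ∀ R : Subgroup G, R ≤ (P : Subgroup G) → R ≠ ⊥ → Subgroup.normalizer (R : Set G) ≤ Subgroup.centralizer ({x} : Set G)) : (P : Subgroup G) ≤ Subgroup.centralizer ({x} : Set G) ∧ (∀ g : G, g * x * g⁻¹ ∈ (P : Subgroup G) → g * x * g⁻¹ = x) ∧ ∀ (N : Subgroup G) [N.Normal], ∀ R : Subgroup (G ⧸ N), R ≤ (P : Subgroup G).map (QuotientGroup.mk' N) → R ≠ ⊥ → Subgroup.normalizer (R : Set (G ⧸ N)) ≤ Subgroup.centralizer ({(QuotientGroup.mk x : G ⧸ N)} : Set (G ⧸ N)) := by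
  have h1 : (P : Subgroup G) ≤ Subgroup.centralizer ({x} : Set G) := by
    by_cases hP : (P : Subgroup G) = ⊥
    · rw [hP]; exact bot_le
    · exact Subgroup.le_normalizer.trans (hlc P le_rfl hP)
  have h2 : ∀ g : G, g * x * g⁻¹ ∈ (P : Subgroup G) → g * x * g⁻¹ = x := by
    intro g hg
    by_cases hx1 : x = 1
    · rw [hx1]; group
    have hPne : (P : Subgroup G) ≠ ⊥ := fun h => hx1 (by rw [h] at hxP; exact Subgroup.mem_bot.mp hxP)
    obtain ⟨y, hy⟩ : ∃ y, y = g * x * g⁻¹ := ⟨_, rfl⟩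
    rw [← hy] at hg ⊢
    have hy1 : y ≠ 1 := by
      intro h
      apply hx1
      rw [h] at hy
      have e : x = g⁻¹ * (g * x * g⁻¹) * g := by group
      rw [e, ← hy]; group
    have hcy : Subgroup.centralizer ({y} : Set G) ≤ Subgroup.centralizer ({x} : Set G) := by
      refine le_trans ?_ (hlc (Subgroup.zpowers y) (by rw [Subgroup.zpowers_le]; exact hg)
        (by rwa [Ne, Subgroup.zpowers_eq_bot]))
      rw [← Subgroup.centralizer_closure, ← Subgroup.zpowers_eq_closure]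
      exact Subgroup.centralizer_le_normalizer _
    have hgP : ((g • P : Sylow p G) : Subgroup G) ≤ Subgroup.centralizer ({x} : Set G) := by
      intro z hz
      apply hcy
      have hz' : g⁻¹ * z * g ∈ (P : Subgroup G) := (mem_sylow_smul_iff P g z).mp hz
      have h3 := Subgroup.mem_centralizer_iff.mp (h1 hz') x rfl
      rw [Subgroup.mem_centralizer_iff]
      intro w hw
      rw [Set.mem_singleton_iff.mp hw, hy]
      calc g * x * g⁻¹ * z = g * (x * (g⁻¹ * z * g)) * g⁻¹ := by group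
        _ = g * ((g⁻¹ * z * g) * x) * g⁻¹ := by rw [h3]
        _ = z * (g * x * g⁻¹) := by group
    obtain ⟨c, hc, hcP⟩ := sylow_conj_in_subgroup P (g • P) _ h1 hgP
    have hcg : c * g ∈ Subgroup.normalizer ((P : Subgroup G) : Set G) := by
      have : (c * g) • P = P := by rw [mul_smul]; exact hcP
      exact Sylow.smul_eq_iff_mem_normalizer.mp this
    have hcgC := hlc P le_rfl hPne hcg
    have hgC : g ∈ Subgroup.centralizer ({x} : Set G) := by
      have := (Subgroup.centralizer ({x} : Set G)).mul_mem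
        ((Subgroup.centralizer ({x} : Set G)).inv_mem hc) hcgC
      simpa using this
    rw [hy]
    have h4 := Subgroup.mem_centralizer_iff.mp hgC x rfl
    calc g * x * g⁻¹ = (x * g) * g⁻¹ := by rw [h4]
      _ = x := by group
  refine ⟨h1, h2, ?_⟩
  intro N _ R hR hRne gbar hg
  obtain ⟨g, rfl⟩ := QuotientGroup.mk_surjective gbar
  obtain ⟨R₁, hR₁⟩ : ∃ R₁ : Subgroup G, R₁ = R.comap (QuotientGroup.mk' N) ⊓ (P : Subgroup G) := ⟨_, rfl⟩
  have hR₁P : R₁ ≤ P := hR₁ ▸ inf_le_right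
  have hR₁mem : ∀ y, y ∈ R₁ ↔ (QuotientGroup.mk' N y ∈ R ∧ y ∈ (P : Subgroup G)) := by
    intro y; rw [hR₁, Subgroup.mem_inf, Subgroup.mem_comap]
  have hR₁ne : R₁ ≠ ⊥ := by
    intro h
    apply hRne
    rw [eq_bot_iff]
    intro r hr
    obtain ⟨u, hu, rfl⟩ := hR hr
    have hu1 : u ∈ R₁ := (hR₁mem u).mpr ⟨hr, hu⟩
    rw [h, Subgroup.mem_bot] at hu1
    rw [hu1]; simp
  have hconjR : ∀ y ∈ R₁, (QuotientGroup.mk' N) (g * y * g⁻¹) ∈ R := by
    intro y hy
    have := (Subgroup.mem_normalizer_iff.mp hg (QuotientGroup.mk' N y)).mp ((hR₁mem y).mp hy).1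
    simpa using this
  have hRp : IsPGroup p (R₁.map (MulAut.conj g).toMonoidHom) := (P.isPGroup'.to_le hR₁P).map _
  have hle : R₁.map (MulAut.conj g).toMonoidHom ≤ N ⊔ (P : Subgroup G) := by
    rintro _ ⟨y, hy, rfl⟩
    obtain ⟨u, hu, hu'⟩ := hR (hconjR y hy)
    have hn : (g * y * g⁻¹) * u⁻¹ ∈ N := by
      rw [← QuotientGroup.eq_one_iff]
      have : ((g * y * g⁻¹ * u⁻¹ : G) : G ⧸ N) = (QuotientGroup.mk' N) (g * y * g⁻¹) * ((QuotientGroup.mk' N) u)⁻¹ := rfl
      rw [this, hu', mul_inv_cancel]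
    have e : g * y * g⁻¹ = ((g * y * g⁻¹) * u⁻¹) * u := by group
    simp only [MulEquiv.toMonoidHom_eq_coe, MonoidHom.coe_coe, MulAut.conj_apply]
    rw [e]
    exact Subgroup.mul_mem_sup hn hu
  obtain ⟨m, hm, hmP⟩ := pGroup_conj_into_sylow P (N ⊔ (P : Subgroup G)) le_sup_right hRp hle
  obtain ⟨n, hn, u, hu, rfl⟩ := Subgroup.mem_sup_of_normal_left.mp hm
  have hn1 : ((n : G) : G ⧸ N) = 1 := (QuotientGroup.eq_one_iff n).mpr hn
  have ha : n⁻¹ * g ∈ Subgroup.normalizer (R₁ : Set G) := by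
    apply Subgroup.mem_normalizer_fintype
    intro y hy
    refine (hR₁mem _).mpr ⟨?_, ?_⟩
    · have e : (QuotientGroup.mk' N) (n⁻¹ * g * y * (n⁻¹ * g)⁻¹)
          = (QuotientGroup.mk' N) (g * y * g⁻¹) := by
        simp [hn1]
      rw [e]; exact hconjR y hy
    · have h3 := hmP (g * y * g⁻¹) ⟨y, hy, by simp [MulAut.conj_apply]⟩
      have h4 := (P : Subgroup G).mul_mem ((P : Subgroup G).mul_mem hu h3) ((P : Subgroup G).inv_mem hu)
      have e : u * ((n * u)⁻¹ * (g * y * g⁻¹) * (n * u)) * u⁻¹ = n⁻¹ * g * y * (n⁻¹ * g)⁻¹ := by group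
      rwa [e] at h4
  have haC := hlc R₁ hR₁P hR₁ne ha
  rw [Subgroup.mem_centralizer_iff] at haC ⊢
  intro w hw
  rw [Set.mem_singleton_iff.mp hw]
  have h5 := congrArg (QuotientGroup.mk' N) (haC x rfl)
  simpa [hn1] using h5

end Cfsg.Agent.S2998
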