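import Mathlib
import Cfsg.Statements.S3003
import Cfsg.Agent.Lib.helper37.CoprimeGen

set_option autoImplicit false
open Cfsg

namespace Cfsg.Agent.S3003

/-- Let G be a finite group, p a prime and Q a large p-subgroup of G: C_G(Q) ≤ Q and N_G(U) ≤ N_G(Q) for every nontrivial subgroup U of C_G(Q). Let Q ≤ G₁ ≤ G, let R be a subgroup of order prime to p normalized by G₁, and let U ≤ G₁ be a p-subgroup. If U contains a nontrivial element which is G₁-conjugate to an element of Z(Q), then C_R(U) = 1. In particular, if U is elementary abelian of order at least p² and every maximal subgroup of U contains a nontrivial element G₁-conjugate into Z(Q), then R = 1. -/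
theorem result {G : Type*} [Group G] [Finite G] {p : ℕ} [Fact p.Prime] (Q : Subgroup G) (hQp : IsPGroup p ↥Q) (hlarge : Cfsg.IsLarge Q) (G₁ : Subgroup G) (hQG : Q ≤ G₁) (R : Subgroup G) (hR : (Nat.card ↥R).Coprime p) (hGR : G₁ ≤ Subgroup.normalizer (R : Set G)) (U : Subgroup G) (hUG : U ≤ G₁) (hUp : IsPGroup p ↥U) : ((∃ x ∈ U, x ≠ 1 ∧ ∃ g ∈ G₁, g * x * g⁻¹ ∈ Q ⊓ Subgroup.centralizer (Q : Set G)) → R ⊓ Subgroup.centralizer (U : Set G) = ⊥) ∧ (Cfsg.IsElementaryAbelian p U → p ^ 2 ≤ Nat.card ↥U → (∀ U₀ : Subgroup G, U₀ ≤ U → IsCoatom (U₀.subgroupOf U) → ∃ x ∈ U₀, x ≠ 1 ∧ ∃ g ∈ G₁, g * x * g⁻¹ ∈ Q ⊓ Subgroup.centralizer (Q : Set G)) → R = ⊥) := by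
  classical
  have hp : p.Prime := Fact.out
  have hRp : ¬ p ∣ Nat.card R := (Nat.Prime.coprime_iff_not_dvd hp).mp hR.symm
  have hQR : Q ⊓ R = ⊥ := by
    have h1 : IsPGroup p ((Q ⊓ R : Subgroup G)) := hQp.to_le inf_le_left
    rcases h1.card_eq_or_dvd with h | h
    · exact Subgroup.card_eq_one.mp h
    · exact absurd (h.trans (Subgroup.card_dvd_of_le inf_le_right)) hRp
  have key : ∀ U' : Subgroup G,
      (∃ x ∈ U', x ≠ 1 ∧ ∃ g ∈ G₁, g * x * g⁻¹ ∈ Q ⊓ Subgroup.centralizer (Q : Set G)) →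
      R ⊓ Subgroup.centralizer (U' : Set G) = ⊥ := by
    rintro U' ⟨x, hxU, hx1, g, hg, hzQ, hzC⟩
    rw [eq_bot_iff]
    rintro r ⟨hrR, hrC⟩
    rw [Subgroup.mem_bot]
    have hrx : x * r = r * x := hrC x hxU
    have hr'R : g * r * g⁻¹ ∈ R := (Subgroup.mem_normalizer_iff.mp (hGR hg) r).mp hrR
    have hz1 : g * x * g⁻¹ ≠ 1 := by
      intro h
      apply hx1
      have h2 : x = g⁻¹ * (g * x * g⁻¹) * g := by group
      rw [h2, h]; group
    have hcz : (g * r * g⁻¹) * (g * x * g⁻¹) = (g * x * g⁻¹) * (g * r * g⁻¹) := by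
      have h1 : (g * r * g⁻¹) * (g * x * g⁻¹) = g * (r * x) * g⁻¹ := by group
      have h2 : (g * x * g⁻¹) * (g * r * g⁻¹) = g * (x * r) * g⁻¹ := by group
      rw [h1, h2, hrx]
    have hzp : Subgroup.zpowers (g * x * g⁻¹) ≤ Subgroup.centralizer (Q : Set G) :=
      Subgroup.zpowers_le.mpr hzC
    have hzne : Subgroup.zpowers (g * x * g⁻¹) ≠ ⊥ := by
      intro h
      apply hz1
      have h2 : g * x * g⁻¹ ∈ Subgroup.zpowers (g * x * g⁻¹) := Subgroup.mem_zpowers _
      rw [h, Subgroup.mem_bot] at h2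
      exact h2
    have hr'N : g * r * g⁻¹ ∈ Subgroup.normalizer (Q : Set G) := by
      apply hlarge.2 _ hzp hzne
      rw [Subgroup.mem_normalizer_iff]
      intro h
      constructor
      · rintro ⟨k, rfl⟩
        refine ⟨k, ?_⟩
        have hc : Commute (g * r * g⁻¹) (g * x * g⁻¹) := hcz
        have hc2 : Commute (g * r * g⁻¹) ((g * x * g⁻¹) ^ k) := hc.zpow_right k
        show (g * x * g⁻¹) ^ k = g * r * g⁻¹ * (g * x * g⁻¹) ^ k * (g * r * g⁻¹)⁻¹
        rw [hc2.eq, mul_inv_cancel_right]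
      · rintro ⟨k, hk⟩
        refine ⟨k, ?_⟩
        have hc : Commute (g * r * g⁻¹) (g * x * g⁻¹) := hcz
        have hc2 : Commute (g * r * g⁻¹) ((g * x * g⁻¹) ^ k) := hc.zpow_right k
        have hk' : (g * x * g⁻¹) ^ k = g * r * g⁻¹ * h * (g * r * g⁻¹)⁻¹ := hk
        have h3 : h = (g * r * g⁻¹)⁻¹ * ((g * x * g⁻¹) ^ k) * (g * r * g⁻¹) := by
          rw [hk']; group
        show (g * x * g⁻¹) ^ k = h
        rw [h3]
        have h4 : (g * r * g⁻¹)⁻¹ * (g * x * g⁻¹) ^ k * (g * r * g⁻¹) =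
            (g * r * g⁻¹)⁻¹ * ((g * r * g⁻¹) * (g * x * g⁻¹) ^ k) := by
          rw [hc2.eq]; exact mul_assoc _ _ _
        rw [h4, inv_mul_cancel_left]
    have hr'C : g * r * g⁻¹ ∈ Subgroup.centralizer (Q : Set G) := by
      rw [Subgroup.mem_centralizer_iff]
      intro q hq
      have h1 : (g * r * g⁻¹) * q * (g * r * g⁻¹)⁻¹ * q⁻¹ ∈ Q ⊓ R := by
        refine ⟨?_, ?_⟩
        · exact Q.mul_mem ((Subgroup.mem_normalizer_iff.mp hr'N q).mp hq) (Q.inv_mem hq)
        · have h2 : (g * r * g⁻¹) * q * (g * r * g⁻¹)⁻¹ * q⁻¹ =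
              (g * r * g⁻¹) * (q * (g * r * g⁻¹)⁻¹ * q⁻¹) := by group
          rw [h2]
          exact R.mul_mem hr'R
            ((Subgroup.mem_normalizer_iff.mp (hGR (hQG hq)) _).mp (R.inv_mem hr'R))
      rw [hQR, Subgroup.mem_bot] at h1
      have h2 : q * (g * r * g⁻¹) =
          ((g * r * g⁻¹) * q * (g * r * g⁻¹)⁻¹ * q⁻¹)⁻¹ * ((g * r * g⁻¹) * q) := by group
      rw [h2, h1, inv_one, one_mul]
    have hr'1 : g * r * g⁻¹ ∈ Q ⊓ R := ⟨hlarge.1 hr'C, hr'R⟩
    rw [hQR, Subgroup.mem_bot] at hr'1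
    have h2 : r = g⁻¹ * (g * r * g⁻¹) * g := by group
    rw [h2, hr'1]; group
  refine ⟨key U, ?_⟩
  intro hU hcard hcoatoms
  have hUc : ∀ a ∈ U, ∀ b ∈ U, a * b = b * a := isMulCommutative_iff_of_setLike.mp hU.1
  have hgen := Lib.helper37.coprime_gen_hyperplane p U R hUc hU.2 hRp (hUG.trans hGR)
  rw [hgen, iSup_eq_bot]
  rintro ⟨B, hBU, hBidx⟩
  show R ⊓ Subgroup.centralizer (B : Set G) = ⊥
  by_cases hBtop : B.subgroupOf U = ⊤
  · have hUB : U ≤ B := Subgroup.subgroupOf_eq_top.mp hBtop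
    have hnt : Nontrivial ↥U := by
      rw [← Finite.one_lt_card_iff_nontrivial]
      calc 1 < p ^ 2 := Nat.one_lt_pow (by norm_num) hp.one_lt
        _ ≤ Nat.card ↥U := hcard
    obtain ⟨U₀', hU₀'⟩ : ∃ a : Subgroup ↥U, IsCoatom a := by
      rcases eq_top_or_exists_le_coatom (⊥ : Subgroup ↥U) with h | ⟨a, ha, -⟩
      · exact absurd h bot_ne_top
      · exact ⟨a, ha⟩
    have h0 : (U₀'.map U.subtype).subgroupOf U = U₀' :=
      Subgroup.comap_map_eq_self_of_injective U.subtype_injective U₀'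
    have h1 := hcoatoms (U₀'.map U.subtype) (Subgroup.map_subtype_le U₀') (by rw [h0]; exact hU₀')
    have h2 := key _ h1
    rw [eq_bot_iff, ← h2]
    exact inf_le_inf_left R (Subgroup.centralizer_le
      (show ((U₀'.map U.subtype : Subgroup G) : Set G) ⊆ (B : Set G) from
        fun y hy => hUB (Subgroup.map_subtype_le U₀' hy)))
  · have hco : IsCoatom (B.subgroupOf U) := by
      refine ⟨hBtop, ?_⟩
      intro C hC
      rw [← Subgroup.index_eq_one]
      have h1 := Subgroup.relIndex_mul_index hC.le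
      have h2 : (B.subgroupOf U).relIndex C ≠ 1 := by
        intro h
        exact (not_le_of_gt hC) (Subgroup.relIndex_eq_one.mp h)
      have h3 : (B.subgroupOf U).relIndex C ≠ 0 := Subgroup.index_ne_zero_of_finite
      have h4 : (B.subgroupOf U).index ≤ p := hBidx
      obtain ⟨n, hn⟩ := hUp.exists_card_eq
      have h5 : C.index ∣ p ^ n := by rw [← hn]; exact Subgroup.index_dvd_card C
      obtain ⟨k, -, hk⟩ := (Nat.dvd_prime_pow hp).mp h5
      rcases Nat.eq_zero_or_pos k with hk0 | hk0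
      · rw [hk, hk0, pow_zero]
      · exfalso
        have h6 : p ≤ C.index := by
          rw [hk]
          calc p = p ^ 1 := (pow_one p).symm
            _ ≤ p ^ k := Nat.pow_le_pow_right hp.pos hk0
        have h7 : 2 ≤ (B.subgroupOf U).relIndex C := by omega
        have h8 : 2 * p ≤ (B.subgroupOf U).relIndex C * C.index := Nat.mul_le_mul h7 h6
        have h9 := hp.pos
        omega
    exact key B (hcoatoms B hBU hco)

end Cfsg.Agent.S3003
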