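import Mathlib
import Cfsg.Statements.S3006
import Cfsg.Agent.Lib.helper56.CLA

set_option autoImplicit false
open scoped Pointwise
open Cfsg

namespace Cfsg.Agent.S3006

/-- Let P be a finite p-group, Q a centrally large subgroup of P (|Q|·|Z(Q)| maximal among subgroups of P) and A an abelian subgroup of P of largest order. Then QA = AQ is a centrally large subgroup of P, C_{QA}(Q ∩ A) = Z(Q)·A, and the subgroup generated by all centrally large subgroups of P contains C_P(Z(J(P))), where J(P) is generated by the abelian subgroups of largest order. -/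
theorem result {p : ℕ} [Fact p.Prime] (P : Type*) [Group P] [Finite P] (hP : IsPGroup p P) (Q A : Subgroup P) (hQ : Cfsg.IsCentrallyLarge Q) (hA : A ∈ Cfsg.maxAbelianSubgroups P) : ((Q ⊔ A : Subgroup P) : Set P) = (Q : Set P) * (A : Set P) ∧ Cfsg.IsCentrallyLarge (Q ⊔ A) ∧ (Q ⊔ A) ⊓ Subgroup.centralizer ((Q ⊓ A : Subgroup P) : Set P) = (Q ⊓ Subgroup.centralizer (Q : Set P)) ⊔ A ∧ (((Q ⊓ Subgroup.centralizer (Q : Set P)) ⊔ A : Subgroup P) : Set P) = ((Q ⊓ Subgroup.centralizer (Q : Set P)) : Set P) * (A : Set P) ∧ Subgroup.centralizer ((Cfsg.thompsonSubgroupA P ⊓ Subgroup.centralizer (Cfsg.thompsonSubgroupA P : Set P) : Subgroup P) : Set P) ≤ Cfsg.centrallyLargeJoin P := by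
  rw [Cfsg.Agent.Lib.helper56.isCentrallyLarge_iff] at hQ
  obtain ⟨h1, h2, h3⟩ := hQ.sup_maxAbelian hA
  obtain ⟨hQcd, hZQ⟩ := hQ.isCDMax_and_le
  have hZ : Q ⊓ Subgroup.centralizer (Q : Set P) = Subgroup.centralizer (Q : Set P) :=
    inf_eq_right.mpr hZQ
  have hZs : ((Q : Set P) ⊓ (Subgroup.centralizer (Q : Set P) : Set P)) =
      (Subgroup.centralizer (Q : Set P) : Set P) :=
    inf_eq_right.mpr (fun x hx => hZQ hx)
  rw [hZ, hZs]
  have hCA := Cfsg.Agent.Lib.helper56.centralizer_eq_of_mem_maxAbelian hA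
  have hAle : A ≤ Subgroup.centralizer (A : Set P) := hCA.ge
  have hsub1 : Subgroup.centralizer (Q : Set P) ⊔ A ≤
      (Q ⊔ A) ⊓ Subgroup.centralizer ((Q ⊓ A : Subgroup P) : Set P) := by
    refine sup_le (le_inf (hZQ.trans le_sup_left) (Subgroup.centralizer_le (fun x hx => hx.1)))
      (le_inf le_sup_right (hAle.trans (Subgroup.centralizer_le (fun x hx => hx.2))))
  have hsub2 : ∀ x, x ∈ (Q ⊔ A) ⊓ Subgroup.centralizer ((Q ⊓ A : Subgroup P) : Set P) →
      x ∈ (Subgroup.centralizer (Q : Set P) : Set P) * (A : Set P) := by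
    intro x hx
    rw [Subgroup.mem_inf] at hx
    obtain ⟨hxT, hxC⟩ := hx
    have hxT' : x ∈ (Q : Set P) * (A : Set P) := by rw [← h1]; exact hxT
    obtain ⟨q, hq, a, ha, rfl⟩ := hxT'
    have hqC : q ∈ Subgroup.centralizer ((Q ⊓ A : Subgroup P) : Set P) := by
      have ha' : a ∈ Subgroup.centralizer ((Q ⊓ A : Subgroup P) : Set P) :=
        (hAle.trans (Subgroup.centralizer_le (fun x hx => hx.2))) ha
      have := Subgroup.mul_mem _ hxC (Subgroup.inv_mem _ ha')
      simpa using this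
    have hqZ : q ∈ Subgroup.centralizer ((Subgroup.centralizer (Q : Set P) : Subgroup P) : Set P) :=
      Cfsg.Agent.Lib.helper56.le_centralizer_centralizer Q hq
    have hqE : q ∈ (Q ⊓ A) ⊔ Subgroup.centralizer (Q : Set P) := by
      rw [← Cfsg.Agent.Lib.helper56.centralizer_eq_of_mem_maxAbelian h3,
        Cfsg.Agent.Lib.helper56.centralizer_sup]
      exact ⟨hqC, hqZ⟩
    have hEset : (((Q ⊓ A) ⊔ Subgroup.centralizer (Q : Set P) : Subgroup P) : Set P) =
        ((Q ⊓ A : Subgroup P) : Set P) * (Subgroup.centralizer (Q : Set P) : Set P) :=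
      Subgroup.coe_mul_of_left_le_normalizer_right _ _
        ((inf_le_left.trans (Cfsg.Agent.Lib.helper56.le_centralizer_centralizer Q)).trans
          (Subgroup.centralizer_le_normalizer _))
    have hq2 : q ∈ ((Q ⊓ A : Subgroup P) : Set P) * (Subgroup.centralizer (Q : Set P) : Set P) := by
      rw [← hEset]; exact hqE
    obtain ⟨a', ha', z, hz, rfl⟩ := hq2
    have ha'' : a' ∈ Q ∧ a' ∈ A := Subgroup.mem_inf.mp ha'
    refine ⟨z, hz, a' * a, A.mul_mem ha''.2 ha, ?_⟩
    have hcomm : a' * z = z * a' := (Subgroup.mem_centralizer_iff.mp hz) a' ha''.1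
    show z * (a' * a) = a' * z * a
    rw [← mul_assoc, ← hcomm]
  have hset : ((Subgroup.centralizer (Q : Set P) ⊔ A : Subgroup P) : Set P) =
      (Subgroup.centralizer (Q : Set P) : Set P) * (A : Set P) :=
    Set.Subset.antisymm (fun x hx => hsub2 x (hsub1 hx))
      (Cfsg.Agent.Lib.helper56.mul_set_subset_sup _ _)
  have heq : (Q ⊔ A) ⊓ Subgroup.centralizer ((Q ⊓ A : Subgroup P) : Set P) =
      Subgroup.centralizer (Q : Set P) ⊔ A :=
    le_antisymm (fun x hx => by
      have := hsub2 x hx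
      rw [← hset] at this
      exact this) hsub1
  refine ⟨h1, (Cfsg.Agent.Lib.helper56.isCentrallyLarge_iff _).mpr h2, heq, hset, ?_⟩
  have hW := Cfsg.Agent.Lib.helper56.isCLMax_centrallyLargeJoin (S := P)
  obtain ⟨hWcd, hWZ⟩ := hW.isCDMax_and_le
  have hJW : Cfsg.thompsonSubgroupA P ≤ Cfsg.centrallyLargeJoin P := by
    unfold Cfsg.thompsonSubgroupA
    apply sSup_le
    intro B hB
    have hB2 := (hW.sup_maxAbelian hB).2.1
    have hle : Cfsg.centrallyLargeJoin P ⊔ B ≤ Cfsg.centrallyLargeJoin P :=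
      le_sSup (show Cfsg.centrallyLargeJoin P ⊔ B ∈ {R : Subgroup P | Cfsg.IsCentrallyLarge R} from
        (Cfsg.Agent.Lib.helper56.isCentrallyLarge_iff _).mpr hB2)
    exact le_sup_right.trans hle
  have hAJ : A ≤ Cfsg.thompsonSubgroupA P := le_sSup hA
  have hCW : Subgroup.centralizer (Cfsg.centrallyLargeJoin P : Set P) ≤
      Cfsg.thompsonSubgroupA P ⊓ Subgroup.centralizer (Cfsg.thompsonSubgroupA P : Set P) := by
    refine le_inf ?_ (Subgroup.centralizer_le (fun x hx => hJW hx))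
    calc Subgroup.centralizer (Cfsg.centrallyLargeJoin P : Set P)
        ≤ Subgroup.centralizer (A : Set P) :=
          Subgroup.centralizer_le (fun x hx => hJW (hAJ hx))
      _ = A := hCA
      _ ≤ Cfsg.thompsonSubgroupA P := hAJ
  have hWcc := (Cfsg.Agent.Lib.helper56.cd_main hWcd hWcd).2.2.2.2.1
  calc Subgroup.centralizer ((Cfsg.thompsonSubgroupA P ⊓
          Subgroup.centralizer (Cfsg.thompsonSubgroupA P : Set P) : Subgroup P) : Set P)
      ≤ Subgroup.centralizer ((Subgroup.centralizer (Cfsg.centrallyLargeJoin P : Set P) :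
          Subgroup P) : Set P) := Subgroup.centralizer_le (fun x hx => hCW hx)
    _ = Cfsg.centrallyLargeJoin P := hWcc.symm

end Cfsg.Agent.S3006
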