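import Mathlib
import Cfsg.Statements.S3007
import Cfsg.Agent.Lib.helper56.CLA

set_option autoImplicit false
open Cfsg

namespace Cfsg.Agent.S3007

/-- Let P be a finite p-group and Q, R minimal centrally large subgroups of P (centrally large: |Q|·|Z(Q)| maximal among subgroups of P; minimal among such under inclusion). Then Q = (Q ∩ R)·Z(Q), the derived subgroups [Q, Q] and [R, R] coincide, |Q| = |R| and |Z(Q)| = |Z(R)|; and if Q is abelian then the minimal centrally large subgroups of P are exactly the abelian subgroups of P of largest order. -/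
theorem result {p : ℕ} [Fact p.Prime] (P : Type*) [Group P] [Finite P] (hP : IsPGroup p P) (Q R : Subgroup P) (hQ : Cfsg.IsMinimalCentrallyLarge Q) (hR : Cfsg.IsMinimalCentrallyLarge R) : (Q ⊓ R) ⊔ (Q ⊓ Subgroup.centralizer (Q : Set P)) = Q ∧ ⁅Q, Q⁆ = ⁅R, R⁆ ∧ Nat.card ↥Q = Nat.card ↥R ∧ Nat.card ↥(Q ⊓ Subgroup.centralizer (Q : Set P)) = Nat.card ↥(R ⊓ Subgroup.centralizer (R : Set P)) ∧ (IsMulCommutative ↥Q → ∀ X : Subgroup P, Cfsg.IsMinimalCentrallyLarge X ↔ X ∈ Cfsg.maxAbelianSubgroups P) := by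
  rw [Cfsg.Agent.Lib.helper56.isMinimalCentrallyLarge_iff] at hQ hR
  obtain ⟨hQcd, hZQ⟩ := hQ.1.isCDMax_and_le
  obtain ⟨hRcd, hZR⟩ := hR.1.isCDMax_and_le
  have hZ : Q ⊓ Subgroup.centralizer (Q : Set P) = Subgroup.centralizer (Q : Set P) :=
    inf_eq_right.mpr hZQ
  have hZ' : R ⊓ Subgroup.centralizer (R : Set P) = Subgroup.centralizer (R : Set P) :=
    inf_eq_right.mpr hZR
  rw [hZ, hZ']
  obtain ⟨u1, u2, u3⟩ := hQ.uniform hR
  refine ⟨hQ.inf_sup_centralizer hR, u1, u2, u3, ?_⟩
  intro hQab X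
  have hQle : Q ≤ Subgroup.centralizer (Q : Set P) :=
    Subgroup.le_centralizer_iff_isMulCommutative.mpr hQab
  have hCQ : Subgroup.centralizer (Q : Set P) = Q := le_antisymm hZQ hQle
  have habclm : ∀ B : Subgroup P, IsMulCommutative ↥B →
      Cfsg.Agent.Lib.helper56.clm B = Nat.card B * Nat.card B := by
    intro B hB
    unfold Cfsg.Agent.Lib.helper56.clm
    rw [inf_eq_left.mpr (Subgroup.le_centralizer_iff_isMulCommutative.mpr hB)]
  have hQmax : ∀ B : Subgroup P, IsMulCommutative ↥B → Nat.card B ≤ Nat.card Q := by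
    intro B hB
    have := hQ.1 B
    rw [habclm B hB, habclm Q hQab] at this
    exact Nat.mul_self_le_mul_self_iff.mp this
  rw [Cfsg.Agent.Lib.helper56.isMinimalCentrallyLarge_iff]
  constructor
  · intro hX
    obtain ⟨-, v2, v3⟩ := hX.uniform hQ
    rw [hCQ] at v3
    obtain ⟨hXcd, hZX⟩ := hX.1.isCDMax_and_le
    have hCX : Subgroup.centralizer (X : Set P) = X :=
      Subgroup.eq_of_le_of_card_ge hZX (by rw [v3, v2])
    have hXab : IsMulCommutative ↥X := Subgroup.le_centralizer_iff_isMulCommutative.mp hCX.ge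
    exact ⟨hXab, fun B hB => (hQmax B hB).trans v2.ge⟩
  · rintro ⟨hXab, hXmax⟩
    have hcard : Nat.card X = Nat.card Q := le_antisymm (hQmax X hXab) (hXmax Q hQab)
    have hXcl : Cfsg.Agent.Lib.helper56.IsCLMax X := by
      intro L
      rw [habclm X hXab, hcard, ← habclm Q hQab]
      exact hQ.1 L
    refine ⟨hXcl, fun X' hle hX' => ?_⟩
    have hX'ab : IsMulCommutative ↥X' := by
      rw [← Subgroup.le_centralizer_iff_isMulCommutative]
      exact hle.trans ((Subgroup.le_centralizer_iff_isMulCommutative.mpr hXab).trans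
        (Subgroup.centralizer_le (fun x hx => hle hx)))
    have h1 : Cfsg.Agent.Lib.helper56.clm X' = Cfsg.Agent.Lib.helper56.clm Q :=
      le_antisymm (hQ.1 X') (hX' Q)
    rw [habclm X' hX'ab, habclm Q hQab] at h1
    have h2 : Nat.card X' = Nat.card Q := Nat.mul_self_inj.mp h1
    exact Subgroup.eq_of_le_of_card_ge hle (by rw [h2, hcard])

end Cfsg.Agent.S3007
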