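import Mathlib
import Cfsg.Statements.S3008
import Cfsg.Agent.Lib.helper56.CLA
import Cfsg.Agent.Lib.helper67.Ito
import Cfsg.Agent.Lib.helper67.CLRepl
import Cfsg.Agent.S3006
import Cfsg.Agent.S3007

set_option autoImplicit false
open scoped Pointwise
open Cfsg

namespace Cfsg.Agent.S3008

open Cfsg.Agent.Lib.helper56 Cfsg.Agent.Lib.helper67.CLRepl in
/-- Let P be a finite p-group, with J(P) generated by its abelian subgroups of largest order and J̃(P) = C_P(Z(J(P))); call R ≤ P centrally large if |R|·|Z(R)| is as large as possible, and let P_MCL be generated by the minimal centrally large subgroups. Then: for every centrally large Q, Q·J(P) ⊇ J̃(P); some minimal centrally large subgroup of P is normalized by both J(P) and P_MCL; if P = J(P) and d(P)² = |P|·|Z(P)|, where d(P) is the largest order of an abelian subgroup, then every minimal centrally large subgroup of P is abelian; and if every minimal centrally large subgroup is abelian then J̃(P) = J(P). -/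
theorem result {p : ℕ} [Fact p.Prime] (P : Type*) [Group P] [Finite P] (hP : IsPGroup p P) : (∀ Q : Subgroup P, Cfsg.IsCentrallyLarge Q → Subgroup.centralizer ((Cfsg.thompsonSubgroupA P ⊓ Subgroup.centralizer (Cfsg.thompsonSubgroupA P : Set P) : Subgroup P) : Set P) ≤ Q ⊔ Cfsg.thompsonSubgroupA P) ∧ (∃ Q : Subgroup P, Cfsg.IsMinimalCentrallyLarge Q ∧ Cfsg.thompsonSubgroupA P ≤ Subgroup.normalizer (Q : Set P) ∧ Cfsg.minimalCentrallyLargeJoin P ≤ Subgroup.normalizer (Q : Set P)) ∧ (Cfsg.thompsonSubgroupA P = ⊤ → (∀ A ∈ Cfsg.maxAbelianSubgroups P, Nat.card ↥A ^ 2 = Nat.card P * Nat.card ↥(Subgroup.center P)) → ∀ Q : Subgroup P, Cfsg.IsMinimalCentrallyLarge Q → IsMulCommutative ↥Q) ∧ ((∀ Q : Subgroup P, Cfsg.IsMinimalCentrallyLarge Q → IsMulCommutative ↥Q) → Subgroup.centralizer ((Cfsg.thompsonSubgroupA P ⊓ Subgroup.centralizer (Cfsg.thompsonSubgroupA P : Set P) : Subgroup P) : Set P) = Cfsg.thompsonSubgroupA P) := by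
  refine ⟨?_, ?_, ?_, ?_⟩
  · -- part 1
    intro Q hQ
    exact centralizer_center_thompson_le ((isCentrallyLarge_iff Q).mp hQ)
  · -- part 2
    obtain ⟨N, hN⟩ := Subgroup.nilpotent_iff_lowerCentralSeries.mp hP.isNilpotent
    obtain ⟨Q₀, hQ₀⟩ := exists_isMinCL (S := P)
    haveI : Nonempty {Q : Subgroup P // IsMinCL Q} := ⟨⟨Q₀, hQ₀⟩⟩
    obtain ⟨⟨Q, hQ⟩, hmax⟩ := Finite.exists_max
      (fun Q : {Q : Subgroup P // IsMinCL Q} => pot N (Subgroup.centralizer ((Q : Subgroup P) : Set P)))
    have key : ∀ b : P, ⁅Subgroup.centralizer (Q : Set P), Subgroup.zpowers b⁆ ≤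
        Subgroup.centralizer ((⁅Subgroup.centralizer (Q : Set P), Subgroup.zpowers b⁆ :
          Subgroup P) : Set P) → b ∈ Subgroup.normalizer (Q : Set P) :=
      fun b hY => mem_normalizer_of_pot_max N hN hQ (fun Q' hQ' => hmax ⟨Q', hQ'⟩) b hY
    obtain ⟨hQcd, hZQ, hAcd, hQC, hAc⟩ := minCL_basic hQ
    -- Ito: `⁅A, B⁆` abelian whenever `B` is abelian and `⟨A, B⟩ = A B`
    have ito : ∀ B : Subgroup P, B ≤ Subgroup.centralizer (B : Set P) →
        ((Subgroup.centralizer (Q : Set P) ⊔ B : Subgroup P) : Set P) =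
          (Subgroup.centralizer (Q : Set P) : Set P) * (B : Set P) →
        ∀ b ∈ B, b ∈ Subgroup.normalizer (Q : Set P) := by
      intro B hB hset b hb
      apply key
      have h1 := Cfsg.Agent.Lib.helper67.Ito.commutator_le_centralizer_commutator
        (Subgroup.centralizer (Q : Set P)) B hAc hB (by
          intro x hx
          have hx' : x ∈ (Subgroup.centralizer (Q : Set P) : Set P) * (B : Set P) := by
            rw [← hset]; exact hx
          obtain ⟨a, ha, b', hb', rfl⟩ := hx'
          exact ⟨a, ha, b', hb', rfl⟩)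
      have h2 : ⁅Subgroup.centralizer (Q : Set P), Subgroup.zpowers b⁆ ≤
          ⁅Subgroup.centralizer (Q : Set P), B⁆ :=
        Subgroup.commutator_mono le_rfl (Subgroup.zpowers_le.mpr hb)
      exact h2.trans (h1.trans (Subgroup.centralizer_le (fun x hx => h2 hx)))
    refine ⟨Q, (isMinimalCentrallyLarge_iff Q).mpr hQ, ?_, ?_⟩
    · unfold Cfsg.thompsonSubgroupA
      apply sSup_le
      intro A hA b hb
      have hAc' : A ≤ Subgroup.centralizer (A : Set P) :=
        (centralizer_eq_of_mem_maxAbelian hA).ge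
      refine ito A hAc' ?_ b hb
      obtain ⟨-, -, -, h4, -⟩ := Cfsg.Agent.S3006.result P hP Q A
        ((isCentrallyLarge_iff Q).mpr hQ.1) hA
      have hZ : Q ⊓ Subgroup.centralizer (Q : Set P) = Subgroup.centralizer (Q : Set P) :=
        inf_eq_right.mpr hZQ
      have hZs : ((Q : Set P) ⊓ (Subgroup.centralizer (Q : Set P) : Set P)) =
          (Subgroup.centralizer (Q : Set P) : Set P) :=
        inf_eq_right.mpr (fun x hx => hZQ hx)
      rw [hZ, hZs] at h4
      exact h4
    · unfold Cfsg.minimalCentrallyLargeJoin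
      apply sSup_le
      intro R hR
      have hR' : IsMinCL R := (isMinimalCentrallyLarge_iff R).mp hR
      obtain ⟨hRcd, hZR, hBcd, hRC, hBc⟩ := minCL_basic hR'
      have hsup := hR'.inf_sup_centralizer hQ
      have hset := (cd_main hAcd hBcd).1
      calc R = (R ⊓ Q) ⊔ Subgroup.centralizer (R : Set P) := hsup.symm
        _ ≤ Subgroup.normalizer (Q : Set P) :=
          sup_le (inf_le_right.trans Subgroup.le_normalizer) (fun b hb => ito _ hBc hset b hb)
  · -- part 3
    intro hJ hd Q hQ
    have hQ' : IsMinCL Q := (isMinimalCentrallyLarge_iff Q).mp hQ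
    have hTop : IsCLMax (⊤ : Subgroup P) := by
      have := isCLMax_sup_thompson hQ'.1
      rw [hJ, sup_top_eq] at this
      exact this
    obtain ⟨A, hA⟩ := exists_mem_maxAbelian (S := P)
    have hAc : A ≤ Subgroup.centralizer (A : Set P) := (centralizer_eq_of_mem_maxAbelian hA).ge
    have hAcl : IsCLMax A := by
      intro L
      refine (hTop L).trans (le_of_eq ?_)
      unfold clm
      rw [inf_eq_left.mpr hAc, top_inf_eq, Subgroup.card_top, Subgroup.coe_top,
        Subgroup.centralizer_univ, ← hd A hA, sq]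
    obtain ⟨Q₁, hQ₁le, hQ₁⟩ := hAcl.exists_isMinCL_le
    have hQ₁ab : IsMulCommutative ↥Q₁ := by
      rw [← Subgroup.le_centralizer_iff_isMulCommutative]
      exact hQ₁le.trans (hAc.trans (Subgroup.centralizer_le (fun x hx => hQ₁le hx)))
    have h5 := (Cfsg.Agent.S3007.result P hP Q₁ Q₁ ((isMinimalCentrallyLarge_iff Q₁).mpr hQ₁)
      ((isMinimalCentrallyLarge_iff Q₁).mpr hQ₁)).2.2.2.2 hQ₁ab Q
    exact (h5.mp hQ).1
  · -- part 4
    intro hab
    obtain ⟨Q, hQ⟩ := exists_isMinCL (S := P)
    have hQm : Cfsg.IsMinimalCentrallyLarge Q := (isMinimalCentrallyLarge_iff Q).mpr hQ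
    have hQab := hab Q hQm
    have h5 := (Cfsg.Agent.S3007.result P hP Q Q hQm hQm).2.2.2.2 hQab Q
    have hQA : Q ∈ Cfsg.maxAbelianSubgroups P := h5.mp hQm
    have hQJ : Q ≤ Cfsg.thompsonSubgroupA P := le_sSup hQA
    apply le_antisymm
    · have := centralizer_center_thompson_le hQ.1
      rw [sup_eq_right.mpr hQJ] at this
      exact this
    · exact (le_centralizer_centralizer (Cfsg.thompsonSubgroupA P)).trans
        (Subgroup.centralizer_le (fun x hx => (Subgroup.mem_inf.mp hx).2))

end Cfsg.Agent.S3008
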