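import Mathlib
import Cfsg.Statements.S3009
import Cfsg.Agent.Lib.helper56.SL2Nat

set_option autoImplicit false
open Cfsg
open scoped commutatorElement

namespace Cfsg.Agent.S3009

open Matrix Cfsg.Agent.Lib.helper56.SL2Nat
open scoped IsMulCommutative
open scoped Pointwise

theorem le_normalizer_of_conj {X : Type*} [Group X] {B U : Subgroup X}
    (h : ∀ g ∈ B, ∀ x ∈ U, g * x * g⁻¹ ∈ U) : B ≤ Subgroup.normalizer (U : Set X) := by
  intro g hg
  rw [Subgroup.mem_normalizer_iff]
  intro x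
  constructor
  · exact h g hg x
  · intro hx
    have h1 := h g⁻¹ (inv_mem hg) _ hx
    have e : g⁻¹ * (g * x * g⁻¹) * g⁻¹⁻¹ = x := by group
    rwa [e] at h1

/-- Let p be a prime and let G and V be subgroups of a finite group with V elementary abelian and normalized by G, and G isomorphic to SL₂(F) for a finite field F with pⁿ elements. Suppose G acts irreducibly and nontrivially on V by conjugation (no G-invariant subgroups of V other than 1 and V, and [V, G] ≠ 1), and let S be a Sylow p-subgroup of G and V₀ = C_V(S). If [V, S, S] = 1 or |V| ≤ |V₀|², then G acts on V as SL₂(F) on its natural two-dimensional module; in particular |V| = |F|². -/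
theorem result {X : Type*} [Group X] [Finite X] {p : ℕ} [Fact p.Prime] (G V : Subgroup X) (hV : Cfsg.IsElementaryAbelian p V) (hGV : G ≤ Subgroup.normalizer (V : Set X)) (F : Type) [Field F] [Fintype F] (n : ℕ) (hF : Fintype.card F = p ^ n) (hG : Nonempty (↥G ≃* Matrix.SpecialLinearGroup (Fin 2) F)) (hirr : ∀ U : Subgroup X, U ≤ V → G ≤ Subgroup.normalizer (U : Set X) → U = ⊥ ∨ U = V) (hnt : ⁅V, G⁆ ≠ ⊥) (S : Sylow p ↥G) (hyp : ⁅⁅V, (S : Subgroup ↥G).map G.subtype⁆, (S : Subgroup ↥G).map G.subtype⁆ = ⊥ ∨ Nat.card ↥V ≤ Nat.card ↥(V ⊓ Subgroup.centralizer (((S : Subgroup ↥G).map G.subtype : Subgroup X) : Set X)) ^ 2) : Cfsg.ActsAsSL2OnSection F ⊤ G V ⊥ := by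
  classical
  obtain ⟨e⟩ := hG
  have hp : p.Prime := Fact.out
  obtain ⟨hVc, hVp⟩ := hV
  haveI := hVc
  have hpF : (p : F) = 0 := by
    have h1 : ((Fintype.card F : ℕ) : F) = 0 := FiniteField.cast_card_eq_zero F
    rw [hF, Nat.cast_pow] at h1
    exact eq_zero_of_pow_eq_zero h1
  obtain ⟨γ, hγ⟩ : ∃ γ : SpecialLinearGroup (Fin 2) F → X, ∀ g, γ g = ((e.symm g : ↥G) : X) :=
    ⟨_, fun _ => rfl⟩
  have hγG : ∀ g, γ g ∈ G := fun g => by rw [hγ]; exact (e.symm g).2
  have hγ1 : γ 1 = 1 := by rw [hγ, map_one]; rfl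
  have hγmul : ∀ g h, γ (g * h) = γ g * γ h := fun g h => by rw [hγ, hγ, hγ, map_mul]; rfl
  have hγe : ∀ k : ↥G, γ (e k) = (k : X) := fun k => by rw [hγ, e.symm_apply_apply]
  have hmemV : ∀ (g : SpecialLinearGroup (Fin 2) F) (v : ↥V), γ g * v * (γ g)⁻¹ ∈ V := fun g v =>
    (Subgroup.mem_normalizer_iff.mp (hGV (hγG g)) v).mp v.2
  obtain ⟨cj, hcj⟩ : ∃ cj : SpecialLinearGroup (Fin 2) F → ↥V → ↥V,
      ∀ g v, ((cj g v : ↥V) : X) = γ g * v * (γ g)⁻¹ :=
    ⟨fun g v => ⟨_, hmemV g v⟩, fun _ _ => rfl⟩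
  letI act : DistribMulAction (SpecialLinearGroup (Fin 2) F) (Additive ↥V) :=
    { smul := fun g v => Additive.ofMul (cj g (Additive.toMul v))
      one_smul := fun v => by
        show Additive.ofMul (cj 1 (Additive.toMul v)) = v
        have h1 : cj 1 (Additive.toMul v) = Additive.toMul v :=
          Subtype.ext (by rw [hcj, hγ1]; group)
        rw [h1]; rfl
      mul_smul := fun g h v => by
        show Additive.ofMul (cj (g * h) (Additive.toMul v))
          = Additive.ofMul (cj g (cj h (Additive.toMul v)))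
        congr 1
        exact Subtype.ext (by rw [hcj, hcj, hcj, hγmul]; group)
      smul_zero := fun g => by
        show Additive.ofMul (cj g 1) = 0
        have h1 : cj g 1 = 1 := Subtype.ext (by rw [hcj]; simp)
        rw [h1]; rfl
      smul_add := fun g v v' => by
        show Additive.ofMul (cj g (Additive.toMul v * Additive.toMul v'))
          = Additive.ofMul (cj g (Additive.toMul v) * cj g (Additive.toMul v'))
        congr 1
        exact Subtype.ext (by rw [Subgroup.coe_mul, hcj, hcj, hcj, Subgroup.coe_mul]; group) }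
  have hsmX : ∀ (g : SpecialLinearGroup (Fin 2) F) (v : Additive ↥V),
      ((Additive.toMul (g • v) : ↥V) : X) = γ g * ((Additive.toMul v : ↥V) : X) * (γ g)⁻¹ :=
    fun g v => hcj g _
  have hsub : ∀ (u u' : Additive ↥V), ((Additive.toMul (u - u') : ↥V) : X)
      = ((Additive.toMul u : ↥V) : X) * ((Additive.toMul u' : ↥V) : X)⁻¹ := by
    intro u u'
    rw [toMul_sub, Subgroup.coe_div, div_eq_mul_inv]
  -- the Sylow subgroup
  obtain ⟨g₀, hg₀⟩ : ∃ g₀ : SpecialLinearGroup (Fin 2) F,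
      ∀ a : F, γ (g₀ * uM a * g₀⁻¹) ∈ (S : Subgroup ↥G).map G.subtype := by
    have hK : IsPGroup p ((uHom F).range.comap e.toMonoidHom) :=
      (isPGroup_uHom_range hpF).comap_of_injective e.toMonoidHom e.injective
    obtain ⟨Q, hQ⟩ := hK.exists_le_sylow
    obtain ⟨k, hk⟩ := MulAction.exists_smul_eq ↥G Q S
    refine ⟨e k, fun a => ?_⟩
    have h1 : e.symm (uM a) ∈ (Q : Subgroup ↥G) := by
      apply hQ
      show e (e.symm (uM a)) ∈ (uHom F).range
      rw [e.apply_symm_apply]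
      exact ⟨Multiplicative.ofAdd a, rfl⟩
    have h2 : MulAut.conj k • e.symm (uM a) ∈ MulAut.conj k • (Q : Subgroup ↥G) :=
      Subgroup.smul_mem_pointwise_smul _ _ _ h1
    rw [← Sylow.pointwise_smul_def, ← Sylow.smul_def, hk, MulAut.smul_def, MulAut.conj_apply] at h2
    refine ⟨_, h2, ?_⟩
    rw [hγ]
    show ((k * e.symm (uM a) * k⁻¹ : ↥G) : X) = _
    congr 1
    rw [map_mul, map_mul, map_inv, e.symm_apply_apply]
  have hpA : ∀ v : Additive ↥V, p • v = 0 := by
    intro v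
    apply Additive.toMul.injective
    rw [toMul_nsmul]
    exact Subtype.ext (by rw [Subgroup.coe_pow]; exact hVp _ (Additive.toMul v).2)
  have hirrA : ∀ U : AddSubgroup (Additive ↥V),
      (∀ g : SpecialLinearGroup (Fin 2) F, ∀ v ∈ U, g • v ∈ U) → U = ⊥ ∨ U = ⊤ := by
    intro U hU
    obtain ⟨U', hU'⟩ : ∃ U' : Subgroup X, ∀ x, x ∈ U' ↔ ∃ h : x ∈ V,
        Additive.ofMul (⟨x, h⟩ : ↥V) ∈ U :=
      ⟨{ carrier := {x | ∃ h : x ∈ V, Additive.ofMul (⟨x, h⟩ : ↥V) ∈ U}
         mul_mem' := by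
           rintro x y ⟨hx, hxU⟩ ⟨hy, hyU⟩
           exact ⟨mul_mem hx hy, U.add_mem hxU hyU⟩
         one_mem' := ⟨one_mem _, U.zero_mem⟩
         inv_mem' := by
           rintro x ⟨hx, hxU⟩
           exact ⟨inv_mem hx, U.neg_mem hxU⟩ }, fun x => Iff.rfl⟩
    have h1 : U' ≤ V := fun x hx => ((hU' x).mp hx).1
    have h2 : G ≤ Subgroup.normalizer (U' : Set X) := by
      apply le_normalizer_of_conj
      intro k hk x hx
      obtain ⟨hxV, hxU⟩ := (hU' x).mp hx
      rw [hU']
      have h3 := hU (e ⟨k, hk⟩) _ hxU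
      have h4 : ((Additive.toMul ((e ⟨k, hk⟩) • Additive.ofMul (⟨x, hxV⟩ : ↥V)) : ↥V) : X)
          = k * x * k⁻¹ := by
        rw [hsmX, hγe]; rfl
      refine ⟨h4 ▸ (Additive.toMul ((e ⟨k, hk⟩) • Additive.ofMul (⟨x, hxV⟩ : ↥V))).2, ?_⟩
      have h5 : Additive.ofMul (⟨k * x * k⁻¹, h4 ▸ (Additive.toMul ((e ⟨k, hk⟩) •
          Additive.ofMul (⟨x, hxV⟩ : ↥V))).2⟩ : ↥V)
          = (e ⟨k, hk⟩) • Additive.ofMul (⟨x, hxV⟩ : ↥V) := by
        apply Additive.toMul.injective
        exact Subtype.ext h4.symm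
      rw [h5]; exact h3
    rcases hirr U' h1 h2 with h | h
    · left
      rw [eq_bot_iff]
      intro v hv
      have h3 : ((Additive.toMul v : ↥V) : X) ∈ U' := by
        rw [hU']; exact ⟨(Additive.toMul v).2, hv⟩
      rw [h, Subgroup.mem_bot] at h3
      rw [AddSubgroup.mem_bot]
      apply Additive.toMul.injective
      exact Subtype.ext h3
    · right
      rw [eq_top_iff]
      intro v _
      have h3 : ((Additive.toMul v : ↥V) : X) ∈ U' := by
        rw [h]; exact (Additive.toMul v).2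
      obtain ⟨_, h4⟩ := (hU' _).mp h3
      exact h4
  have hntA : ∃ (g : SpecialLinearGroup (Fin 2) F) (v : Additive ↥V), g • v ≠ v := by
    by_contra hcon
    push Not at hcon
    apply hnt
    rw [Subgroup.commutator_eq_bot_iff_le_centralizer]
    intro x hx
    rw [Subgroup.mem_centralizer_iff]
    intro k hk
    have h1 := hcon (e ⟨k, hk⟩) (Additive.ofMul ⟨x, hx⟩)
    have h2 := congrArg (fun z => ((Additive.toMul z : ↥V) : X)) h1
    simp only [hsmX, hγe] at h2
    have h3 : k * x * k⁻¹ = x := h2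
    have h4 : k * x = (k * x * k⁻¹) * k := by group
    rw [h4, h3]
  have hypA : (∀ (a b : F) (v : Additive ↥V),
        (g₀ * uM b * g₀⁻¹) • (v - (g₀ * uM a * g₀⁻¹) • v) = v - (g₀ * uM a * g₀⁻¹) • v) ∨
      Nat.card (Additive ↥V)
        ≤ Nat.card {v : Additive ↥V // ∀ a : F, (g₀ * uM a * g₀⁻¹) • v = v} ^ 2 := by
    rcases hyp with hq | hc
    · left
      intro a b v
      have hcomm : ⁅⁅((Additive.toMul v : ↥V) : X), γ (g₀ * uM a * g₀⁻¹)⁆,
          γ (g₀ * uM b * g₀⁻¹)⁆ = 1 := by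
        have h1 : ⁅⁅((Additive.toMul v : ↥V) : X), γ (g₀ * uM a * g₀⁻¹)⁆,
            γ (g₀ * uM b * g₀⁻¹)⁆ ∈ ⁅⁅V, (S : Subgroup ↥G).map G.subtype⁆,
              (S : Subgroup ↥G).map G.subtype⁆ :=
          Subgroup.commutator_mem_commutator
            (Subgroup.commutator_mem_commutator (Additive.toMul v).2 (hg₀ a)) (hg₀ b)
        rw [hq] at h1
        exact Subgroup.mem_bot.mp h1
      apply Additive.toMul.injective
      apply Subtype.ext
      rw [hsmX, hsub, hsmX]
      obtain ⟨x, hx⟩ : ∃ x, x = ((Additive.toMul v : ↥V) : X) := ⟨_, rfl⟩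
      obtain ⟨s, hs⟩ : ∃ s, s = γ (g₀ * uM a * g₀⁻¹) := ⟨_, rfl⟩
      obtain ⟨t, ht⟩ : ∃ t, t = γ (g₀ * uM b * g₀⁻¹) := ⟨_, rfl⟩
      rw [← hx, ← hs, ← ht] at hcomm ⊢
      rw [commutatorElement_def, commutatorElement_def] at hcomm
      have h1 : x * (s * x * s⁻¹)⁻¹ = x * s * x⁻¹ * s⁻¹ := by group
      rw [h1, mul_inv_eq_iff_eq_mul]
      exact (mul_inv_eq_iff_eq_mul.mp (mul_inv_eq_one.mp hcomm)).symm
    · right
      have h1 : Nat.card (Additive ↥V) = Nat.card ↥V := rfl
      rw [h1]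
      refine hc.trans (Nat.pow_le_pow_left ?_ 2)
      exact Nat.card_le_card_of_injective
        (fun x : ↥(V ⊓ Subgroup.centralizer
            (((S : Subgroup ↥G).map G.subtype : Subgroup X) : Set X)) =>
          (⟨Additive.ofMul (⟨x.1, x.2.1⟩ : ↥V), fun a => by
            apply Additive.toMul.injective
            apply Subtype.ext
            rw [hsmX]
            show γ (g₀ * uM a * g₀⁻¹) * (x : X) * (γ (g₀ * uM a * g₀⁻¹))⁻¹ = x
            have h2 := Subgroup.mem_centralizer_iff.mp x.2.2 _ (hg₀ a)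
            rw [h2]; group⟩ :
            {v : Additive ↥V // ∀ a : F, (g₀ * uM a * g₀⁻¹) • v = v}))
        (by
          intro x x' h
          have h2 := congrArg (fun z : {v : Additive ↥V // ∀ a : F,
            (g₀ * uM a * g₀⁻¹) • v = v} => ((Additive.toMul z.1 : ↥V) : X)) h
          exact Subtype.ext h2)
  obtain ⟨Φ, hΦ⟩ := natural_module hpF hpA hirrA hntA g₀ hypA
  have hΦs : ∀ (g : SpecialLinearGroup (Fin 2) F) (v : Additive ↥V),
      Φ.symm (g • v) = g.1 *ᵥ Φ.symm v := by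
    intro g v
    have h1 := hΦ g (Φ.symm v)
    rw [Φ.apply_symm_apply] at h1
    rw [← h1, Φ.symm_apply_apply]
  refine ⟨hGV, bot_le, e.toMonoidHom,
    { toFun := fun v => Multiplicative.ofAdd (Φ.symm (Additive.ofMul v))
      map_one' := by
        show Multiplicative.ofAdd (Φ.symm 0) = 1
        rw [map_zero]; rfl
      map_mul' := fun v v' => by
        show Multiplicative.ofAdd (Φ.symm (Additive.ofMul v + Additive.ofMul v')) = _
        rw [map_add]; rfl }, ?_, ?_, ?_, ?_⟩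
  · exact MonoidHom.range_eq_top.mpr e.surjective
  · intro m
    refine ⟨Additive.toMul (Φ (Multiplicative.toAdd m)), ?_⟩
    show Multiplicative.ofAdd (Φ.symm (Φ (Multiplicative.toAdd m))) = m
    rw [Φ.symm_apply_apply]; rfl
  · intro u
    show Multiplicative.ofAdd (Φ.symm (Additive.ofMul u)) = 1 ↔ (u : X) ∈ (⊥ : Subgroup X)
    rw [Subgroup.mem_bot]
    constructor
    · intro h
      have h1 : Φ.symm (Additive.ofMul u) = 0 := h
      have h2 : Additive.ofMul u = 0 := by
        have := congrArg Φ h1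
        rwa [Φ.apply_symm_apply, map_zero] at this
      have h3 : u = 1 := h2
      rw [h3]; rfl
    · intro h
      have h3 : u = 1 := Subtype.ext h
      rw [h3]
      show Multiplicative.ofAdd (Φ.symm 0) = 1
      rw [map_zero]; rfl
  · intro k u
    refine ⟨Additive.toMul ((e k) • Additive.ofMul u), ?_, ?_⟩
    · rw [hsmX, hγe]; rfl
    · show Φ.symm ((e k) • Additive.ofMul u) = (e k).1 *ᵥ Φ.symm (Additive.ofMul u)
      exact hΦs _ _

end Cfsg.Agent.S3009
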