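import Mathlib
import Cfsg.Statements.S3011
import Cfsg.Agent.S0200

set_option autoImplicit false
open Cfsg

namespace Cfsg.Agent.S3011

theorem eq_one_of_odd_of_sq {G : Type*} [Group G] {x : G} (hodd : Odd (orderOf x))
    (h : x * x = 1) : x = 1 := by
  have h1 : orderOf x ∣ 2 := orderOf_dvd_of_pow_eq_one (by rw [pow_two]; exact h)
  have h2 : orderOf x = 1 := by
    rcases (Nat.dvd_prime Nat.prime_two).mp h1 with h | h
    · exact h
    · rw [h] at hodd; exact absurd hodd (by decide)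
  exact orderOf_eq_one_iff.mp h2

theorem eq_one_of_odd_of_eq_inv {G : Type*} [Group G] {x : G} (hodd : Odd (orderOf x))
    (h : x = x⁻¹) : x = 1 := by
  apply eq_one_of_odd_of_sq hodd
  have : x * x = x * x⁻¹ := by rw [← h]
  rw [this, mul_inv_cancel]

/-- An element of odd order cannot invert a nontrivial element of odd order. -/
theorem eq_one_of_odd_inverts {G : Type*} [Group G] {h k : G} (hh : Odd (orderOf h))
    (hk : Odd (orderOf k)) (hinv : h * k * h⁻¹ = k⁻¹) : k = 1 := by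
  obtain ⟨j, hj⟩ := hh
  have h1 : SemiconjBy h k k⁻¹ := by
    unfold SemiconjBy; rw [← hinv]; group
  have h2 : SemiconjBy h k⁻¹ k := by simpa using h1.inv_right
  have h3 : Commute (h * h) k := h2.mul_left h1
  have h4 : Commute ((h * h) ^ j) k := h3.pow_left j
  have h5 : SemiconjBy ((h * h) ^ j * h) k k⁻¹ := SemiconjBy.mul_left h4.inv_right h1
  have h6 : (h * h) ^ j * h = 1 := by
    rw [← pow_two, ← pow_mul, ← pow_succ, ← hj, pow_orderOf_eq_one]
  rw [h6] at h5
  have h7 : k = k⁻¹ := by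
    have := h5.eq
    simpa using this
  exact eq_one_of_odd_of_eq_inv hk h7

theorem orderOf_conj' {G : Type*} [Group G] (g x : G) : orderOf (g * x * g⁻¹) = orderOf x := by
  rw [← MulAut.conj_apply]
  exact MulEquiv.orderOf_eq _ _

/-- Let G be a finite group and V a nontrivial elementary abelian 2-subgroup of G of order at most 4 such that, whenever an element of V inverts an element h of G of odd order, some nontrivial element of V commutes with h. Then V meets O₂(G) nontrivially. (The case of order at most 4 has a short argument from the Baer–Suzuki theorem.) -/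
theorem result {G : Type*} [Group G] [Finite G] (V : Subgroup G) (hV : Cfsg.IsElementaryAbelian 2 V) (hV1 : V ≠ ⊥) (hS : Cfsg.IsSidkiPair V) (h4 : Nat.card V ≤ 4) : V ⊓ Cfsg.pCore 2 G ≠ ⊥ := by
  intro hbot
  have hsq : ∀ v ∈ V, v * v = 1 := fun v hv => by rw [← pow_two]; exact hV.2 v hv
  have hinvV : ∀ v ∈ V, v⁻¹ = v := fun v hv => inv_eq_of_mul_eq_one_right (hsq v hv)
  have hVle : V ≤ Subgroup.centralizer (V : Set G) :=
    Subgroup.le_centralizer_iff_isMulCommutative.mpr hV.1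
  have hcommV : ∀ v ∈ V, ∀ w ∈ V, v * w = w * v := fun v hv w hw =>
    Subgroup.mem_centralizer_iff.mp (hVle hw) v hv
  -- Baer–Suzuki
  have hBS : ∀ v ∈ V, v ≠ 1 → ∃ h : G, h ≠ 1 ∧ Odd (orderOf h) ∧ v * h * v⁻¹ = h⁻¹ := by
    intro v hv hv1
    have hv2 : orderOf v = 2 := orderOf_eq_prime (hV.2 v hv) hv1
    refine Cfsg.Agent.S0200.result v hv2 ?_
    intro N hN hN2 hvN
    apply hv1
    have h1 : N ≤ Cfsg.pCore 2 G := le_sSup ⟨hN, hN2⟩
    have h2 : v ∈ V ⊓ Cfsg.pCore 2 G := Subgroup.mem_inf.mpr ⟨hv, h1 hvN⟩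
    rw [hbot, Subgroup.mem_bot] at h2
    exact h2
  -- `V` has at most four elements
  have hV4 : ∀ v ∈ V, ∀ w ∈ V, v ≠ 1 → w ≠ 1 → v ≠ w →
      ∀ z ∈ V, z = 1 ∨ z = v ∨ z = w ∨ z = v * w := by
    intro v hv w hw hv1 hw1 hvw z hz
    by_contra hcon
    push Not at hcon
    obtain ⟨hz1, hzv, hzw, hzvw⟩ := hcon
    classical
    have hsub : (({1, v, w, v * w, z} : Finset G) : Set G) ⊆ (V : Set G) := by
      intro x hx
      simp only [Finset.coe_insert, Finset.coe_singleton, Set.mem_insert_iff,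
        Set.mem_singleton_iff] at hx
      rcases hx with rfl | rfl | rfl | rfl | rfl
      exacts [V.one_mem, hv, hw, V.mul_mem hv hw, hz]
    have hvw1 : v * w ≠ 1 := by
      intro h
      apply hvw
      have : v = w⁻¹ := eq_inv_of_mul_eq_one_left h
      rw [this, hinvV w hw]
    have hcard : ({1, v, w, v * w, z} : Finset G).card = 5 := by
      rw [Finset.card_insert_of_notMem, Finset.card_insert_of_notMem,
        Finset.card_insert_of_notMem, Finset.card_insert_of_notMem, Finset.card_singleton]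
      · simp only [Finset.mem_singleton]
        exact fun h => hzvw h.symm
      · simp only [Finset.mem_insert, Finset.mem_singleton, not_or]
        refine ⟨fun h => hv1 ?_, fun h => hzw h.symm⟩
        exact (mul_eq_right (a := v) (b := w)).mp h.symm
      · simp only [Finset.mem_insert, Finset.mem_singleton, not_or]
        refine ⟨hvw, fun h => hw1 ?_, fun h => hzv h.symm⟩
        exact (mul_eq_left (a := v) (b := w)).mp h.symm
      · simp only [Finset.mem_insert, Finset.mem_singleton, not_or]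
        exact ⟨fun h => hv1 h.symm, fun h => hw1 h.symm, fun h => hvw1 h.symm,
          fun h => hz1 h.symm⟩
    have h5 : 5 ≤ Nat.card V := by
      rw [← hcard, ← Set.ncard_coe_finset]
      exact Set.ncard_le_ncard hsub (Set.toFinite _)
    omega
  -- elements of `V` act by signs on inverted elements
  have hQ : ∀ x : G, Odd (orderOf x) → ∀ v ∈ V, v * x * v⁻¹ = x⁻¹ →
      ∀ w ∈ V, w * x * w⁻¹ = x ∨ w * x * w⁻¹ = x⁻¹ := by
    intro x hodd v hv hinv w hw
    by_cases hx : x = 1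
    · left; rw [hx]; simp
    obtain ⟨w₀, hw₀V, hw₀1, hw₀x⟩ := hS x v hv hodd hinv
    have hv1 : v ≠ 1 := by
      intro h
      rw [h] at hinv
      apply hx
      apply eq_one_of_odd_of_eq_inv hodd
      simpa using hinv
    have hvw₀ : v ≠ w₀ := by
      intro h
      apply hx
      apply eq_one_of_odd_of_eq_inv hodd
      rw [← hinv, h, hw₀x]; group
    rcases hV4 v hv w₀ hw₀V hv1 hw₀1 hvw₀ w hw with h | h | h | h
    · left; rw [h]; simp
    · right; rw [h]; exact hinv
    · left; rw [h, hw₀x]; group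
    · right
      rw [h]
      have h1 : v * w₀ * x * (v * w₀)⁻¹ = v * (w₀ * x * w₀⁻¹) * v⁻¹ := by group
      have h2 : w₀ * x * w₀⁻¹ = x := by rw [hw₀x]; group
      rw [h1, h2, hinv]
  -- the configuration
  obtain ⟨a, haV, ha1⟩ : ∃ a ∈ V, a ≠ 1 := by
    by_contra hcon
    push Not at hcon
    apply hV1
    rw [Subgroup.eq_bot_iff_forall]
    exact hcon
  obtain ⟨h, hh1, hhodd, hah⟩ := hBS a haV ha1
  obtain ⟨b, hbV, hb1, hbh⟩ := hS h a haV hhodd hah
  have hab : a ≠ b := by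
    intro e
    apply hh1
    apply eq_one_of_odd_of_eq_inv hhodd
    rw [← hah, e, hbh]; group
  obtain ⟨k, hk1, hkodd, hbk⟩ := hBS b hbV hb1
  have hbh' : b * h * b⁻¹ = h := by rw [hbh]; group
  -- `h` and `k` commute
  have hs1 := hQ k hkodd b hbV hbk a haV
  have hk'odd : Odd (orderOf (h * k * h⁻¹)) := by rw [orderOf_conj']; exact hkodd
  have hbk' : b * (h * k * h⁻¹) * b⁻¹ = (h * k * h⁻¹)⁻¹ := by
    have h1 : b * (h * k * h⁻¹) * b⁻¹ = (b * h * b⁻¹) * (b * k * b⁻¹) * (b * h * b⁻¹)⁻¹ := by group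
    rw [h1, hbh', hbk]; group
  have hs2 := hQ (h * k * h⁻¹) hk'odd b hbV hbk' a haV
  have hconj : a * (h * k * h⁻¹) * a⁻¹ = h⁻¹ * (a * k * a⁻¹) * h := by
    have h1 : a * (h * k * h⁻¹) * a⁻¹ = (a * h * a⁻¹) * (a * k * a⁻¹) * (a * h * a⁻¹)⁻¹ := by
      group
    rw [h1, hah, inv_inv]
  rw [hconj] at hs2
  have hE : h⁻¹ * k * h = h * k * h⁻¹ ∨ h⁻¹ * k * h = (h * k * h⁻¹)⁻¹ := by
    rcases hs1 with e1 | e1
    · rw [e1] at hs2; exact hs2
    · rw [e1] at hs2
      have h1 : h⁻¹ * k * h = (h⁻¹ * k⁻¹ * h)⁻¹ := by group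
      rcases hs2 with e2 | e2
      · right; rw [h1, e2]
      · left; rw [h1, e2, inv_inv]
  have hhodd2 : Odd (orderOf (h⁻¹ * h⁻¹)) := by
    apply Odd.of_dvd_nat hhodd
    rw [← orderOf_inv h, ← pow_two]
    exact orderOf_pow_dvd 2
  have hcomm2 : Commute (h * h) k := by
    rcases hE with e | e
    · show h * h * k = k * (h * h)
      calc h * h * k = h * (h * k * h⁻¹) * h := by group
        _ = h * (h⁻¹ * k * h) * h := by rw [e]
        _ = k * (h * h) := by group
    · exfalso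
      apply hk1
      apply eq_one_of_odd_inverts hhodd2 hkodd
      calc h⁻¹ * h⁻¹ * k * (h⁻¹ * h⁻¹)⁻¹ = h⁻¹ * (h⁻¹ * k * h) * h := by
            rw [mul_inv_rev, inv_inv]; simp only [mul_assoc]
        _ = h⁻¹ * (h * k * h⁻¹)⁻¹ * h := by rw [e]
        _ = k⁻¹ := by group
  have hhk : Commute h k := by
    obtain ⟨j, hj⟩ := hhodd
    have h1 : (h * h) ^ (j + 1) = h := by
      rw [← pow_two, ← pow_mul]
      have : 2 * (j + 1) = orderOf h + 1 := by omega
      rw [this, pow_succ, pow_orderOf_eq_one, one_mul]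
    have h2 := hcomm2.pow_left (j + 1)
    rwa [h1] at h2
  -- an element of `V` inverting both `h` and `k`
  obtain ⟨v₀, hv₀V, hv₀h, hv₀k⟩ : ∃ v₀ ∈ V, v₀ * h * v₀⁻¹ = h⁻¹ ∧ v₀ * k * v₀⁻¹ = k⁻¹ := by
    rcases hs1 with e1 | e1
    · refine ⟨a * b, V.mul_mem haV hbV, ?_, ?_⟩
      · have h1 : a * b * h * (a * b)⁻¹ = a * (b * h * b⁻¹) * a⁻¹ := by group
        rw [h1, hbh', hah]
      · have h1 : a * b * k * (a * b)⁻¹ = a * (b * k * b⁻¹) * a⁻¹ := by group
        rw [h1, hbk]
        have h2 : a * k⁻¹ * a⁻¹ = (a * k * a⁻¹)⁻¹ := by group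
        rw [h2, e1]
    · exact ⟨a, haV, hah, e1⟩
  have hhk' : h * k = k * h := hhk.eq
  have hv₀hk : v₀ * (h * k) * v₀⁻¹ = (h * k)⁻¹ := by
    have h1 : v₀ * (h * k) * v₀⁻¹ = (v₀ * h * v₀⁻¹) * (v₀ * k * v₀⁻¹) := by group
    rw [h1, hv₀h, hv₀k, hhk', mul_inv_rev]
  have hhkodd : Odd (orderOf (h * k)) := by
    apply Odd.of_dvd_nat (hhodd.mul hkodd)
    apply orderOf_dvd_of_pow_eq_one
    rw [hhk.mul_pow, pow_mul, pow_orderOf_eq_one, one_pow, mul_comm (orderOf h), pow_mul,
      pow_orderOf_eq_one, one_pow, one_mul]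
  obtain ⟨w, hwV, hw1, hwc⟩ := hS (h * k) v₀ hv₀V hhkodd hv₀hk
  have hwhk : (w * h * w⁻¹) * (w * k * w⁻¹) = h * k := by
    have h1 : (w * h * w⁻¹) * (w * k * w⁻¹) = w * (h * k) * w⁻¹ := by group
    rw [h1, hwc]; group
  have hwh := hQ h hhodd a haV hah w hwV
  have hwk := hQ k hkodd b hbV hbk w hwV
  rcases hwh with e1 | e1 <;> rcases hwk with e2 | e2
  · -- `w` centralizes `h` and `k`
    rcases hV4 a haV b hbV ha1 hb1 hab w hwV with e | e | e | e
    · exact hw1 e
    · apply hh1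
      apply eq_one_of_odd_of_eq_inv hhodd
      rw [← hah, ← e, e1]
    · apply hk1
      apply eq_one_of_odd_of_eq_inv hkodd
      rw [← hbk, ← e, e2]
    · apply hh1
      apply eq_one_of_odd_of_eq_inv hhodd
      have h1 : a * b * h * (a * b)⁻¹ = a * (b * h * b⁻¹) * a⁻¹ := by group
      rw [e, h1, hbh', hah] at e1
      exact e1.symm
  · rw [e1, e2] at hwhk
    apply hk1
    apply eq_one_of_odd_of_eq_inv hkodd
    exact (mul_left_cancel hwhk).symm
  · rw [e1, e2] at hwhk
    apply hh1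
    apply eq_one_of_odd_of_eq_inv hhodd
    exact (mul_right_cancel hwhk).symm
  · rw [e1, e2] at hwhk
    -- `h⁻¹ * k⁻¹ = h * k`
    have h1 : h * k = (h * k)⁻¹ := by
      calc h * k = h⁻¹ * k⁻¹ := hwhk.symm
        _ = (k * h)⁻¹ := by rw [mul_inv_rev]
        _ = (h * k)⁻¹ := by rw [hhk']
    have h2 : h * k = 1 := eq_one_of_odd_of_eq_inv hhkodd h1
    have h3 : h = k⁻¹ := eq_inv_of_mul_eq_one_left h2
    apply hk1
    apply eq_one_of_odd_of_eq_inv hkodd
    have h4 : b * k⁻¹ * b⁻¹ = k⁻¹ := by rw [← h3]; exact hbh'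
    have h5 : b * k⁻¹ * b⁻¹ = (b * k * b⁻¹)⁻¹ := by group
    rw [h5, hbk, inv_inv] at h4
    exact h4

end Cfsg.Agent.S3011
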