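import Mathlib
import Cfsg.Statements.S3012

set_option autoImplicit false
open Cfsg

namespace Cfsg.Agent.S3012

/-- Let G be a finite group, V a nontrivial elementary abelian 2-subgroup of G satisfying the Sidki pair condition (every odd-order element inverted by an element of V commutes with a nontrivial element of V), and K a normal subgroup of G with V ∩ K = 1. Then the image of V in G/K satisfies the Sidki pair condition in G/K. -/
theorem result {G : Type*} [Group G] [Finite G] (V K : Subgroup G) [K.Normal] (hV : Cfsg.IsElementaryAbelian 2 V) (hV1 : V ≠ ⊥) (hS : Cfsg.IsSidkiPair V) (hVK : V ⊓ K = ⊥) : Cfsg.IsSidkiPair (V.map (QuotientGroup.mk' K)) := by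
  classical
  intro hbar vbar hvbar hodd hinv
  obtain ⟨v, hv, rfl⟩ := Subgroup.mem_map.mp hvbar
  have hv2 : v ^ 2 = 1 := hV.2 v hv
  have hvv : v * v = 1 := by rw [← sq]; exact hv2
  have hvinv : v⁻¹ = v := by
    rw [inv_eq_iff_mul_eq_one]; exact hvv
  obtain ⟨j, hj⟩ := hodd
  set kbar := hbar ^ (j + 1) with hkbar
  obtain ⟨k, hk⟩ := QuotientGroup.mk'_surjective K kbar
  have hkk : kbar * kbar = hbar := by
    rw [hkbar, ← pow_add]
    have h1 : j + 1 + (j + 1) = orderOf hbar + 1 := by omega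
    rw [h1, pow_add, pow_orderOf_eq_one, one_mul, pow_one]
  have hkinv : (QuotientGroup.mk' K v) * kbar * (QuotientGroup.mk' K v)⁻¹ = kbar⁻¹ := by
    rw [hkbar, ← conj_pow, hinv, inv_pow]
  set h₁ := k * v * k⁻¹ * v⁻¹ with hh₁
  have hmk1 : QuotientGroup.mk' K h₁ = hbar := by
    rw [hh₁, map_mul, map_mul, map_mul, map_inv, map_inv, hk]
    have h1 : (QuotientGroup.mk' K v) * kbar⁻¹ * (QuotientGroup.mk' K v)⁻¹ = kbar := by
      rw [← conj_inv, hkinv, inv_inv]
    calc kbar * (QuotientGroup.mk' K v) * kbar⁻¹ * (QuotientGroup.mk' K v)⁻¹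
        = kbar * ((QuotientGroup.mk' K v) * kbar⁻¹ * (QuotientGroup.mk' K v)⁻¹) := by group
      _ = hbar := by rw [h1, hkk]
  have hinv1 : v * h₁ * v⁻¹ = h₁⁻¹ := by
    rw [hh₁, hvinv, mul_inv_rev, mul_inv_rev, mul_inv_rev, inv_inv, hvinv]
    calc v * (k * v * k⁻¹ * v) * v = v * k * v * k⁻¹ * (v * v) := by group
      _ = v * (k * (v * k⁻¹)) := by rw [hvv]; group
  have hN : 0 < orderOf h₁ := orderOf_pos h₁
  obtain ⟨a, m, hm, hNam⟩ := Nat.exists_eq_two_pow_mul_odd hN.ne'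
  set n := orderOf hbar with hn
  set e := (2 ^ a) ^ Nat.totient n with he
  have hcop : Nat.Coprime (2 ^ a) n := by
    apply Nat.Coprime.pow_left
    rw [Nat.coprime_two_left]
    exact ⟨j, hj⟩
  have he1 : e ≡ 1 [MOD n] := Nat.ModEq.pow_totient hcop
  have hndvd : 2 ^ a ∣ e := dvd_pow_self _ (Nat.totient_pos.mpr (orderOf_pos hbar)).ne'
  set h₂ := h₁ ^ e with hh₂
  have hodd2 : Odd (orderOf h₂) := by
    apply Odd.of_dvd_nat hm
    apply orderOf_dvd_of_pow_eq_one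
    rw [hh₂, ← pow_mul]
    apply orderOf_dvd_iff_pow_eq_one.mp
    rw [hNam]
    exact Nat.mul_dvd_mul_right hndvd m
  have hinv2 : v * h₂ * v⁻¹ = h₂⁻¹ := by
    rw [hh₂, ← conj_pow, hinv1, inv_pow]
  have hmk2 : QuotientGroup.mk' K h₂ = hbar := by
    rw [hh₂, map_pow, hmk1]
    have h1 : hbar ^ e = hbar ^ 1 := pow_eq_pow_iff_modEq.mpr he1
    rw [h1, pow_one]
  obtain ⟨w, hwV, hw1, hwc⟩ := hS h₂ v hv hodd2 hinv2
  refine ⟨QuotientGroup.mk' K w, ⟨w, hwV, rfl⟩, ?_, ?_⟩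
  · intro h1
    have h2 : w ∈ K := by rwa [QuotientGroup.mk'_apply, QuotientGroup.eq_one_iff] at h1
    have h3 : w ∈ V ⊓ K := ⟨hwV, h2⟩
    rw [hVK] at h3
    exact hw1 (Subgroup.mem_bot.mp h3)
  · rw [← hmk2, ← map_mul, ← map_mul, hwc]

end Cfsg.Agent.S3012
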