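import Mathlib
import Cfsg.Statements.S3013

set_option autoImplicit false
open Cfsg

namespace Cfsg.Agent.S3013

/-- Let G be a finite group and V a nontrivial elementary abelian 2-subgroup of G satisfying the Sidki pair condition. Let v ∈ V and let x be an element of odd order inverted by v, and put C = C_G(v) ∩ C_G(x), the centralizer of the dihedral subgroup generated by v and x. Then C ∩ V is nontrivial and satisfies the Sidki pair condition inside C: every odd-order element of C inverted by an element of C ∩ V commutes with a nontrivial element of C ∩ V. -/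
theorem result {G : Type*} [Group G] [Finite G] (V : Subgroup G) (hV : Cfsg.IsElementaryAbelian 2 V) (hV1 : V ≠ ⊥) (hS : Cfsg.IsSidkiPair V) (v x : G) (hv : v ∈ V) (hx : Odd (orderOf x)) (hinv : v * x * v⁻¹ = x⁻¹) (C : Subgroup G) (hC : C = Subgroup.centralizer ({v} : Set G) ⊓ Subgroup.centralizer ({x} : Set G)) : C ⊓ V ≠ ⊥ ∧ Cfsg.IsSidkiPair ((C ⊓ V).subgroupOf C) := by
  classical
  have hVab : ∀ a ∈ V, ∀ b ∈ V, a * b = b * a := isMulCommutative_iff_of_setLike.mp hV.1
  have hmemC : ∀ z : G, z ∈ C ↔ z * v = v * z ∧ z * x = x * z := by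
    intro z
    rw [hC, Subgroup.mem_inf, Subgroup.mem_centralizer_singleton_iff,
      Subgroup.mem_centralizer_singleton_iff]
  constructor
  · obtain ⟨w, hwV, hw1, hwx⟩ := hS x v hv hx hinv
    intro hbot
    have h1 : w ∈ C ⊓ V := ⟨(hmemC w).mpr ⟨hVab w hwV v hv, hwx⟩, hwV⟩
    rw [hbot] at h1
    exact hw1 (Subgroup.mem_bot.mp h1)
  · rintro ⟨h', hh'C⟩ ⟨u', hu'C⟩ hu hodd hinvh
    rw [Subgroup.mem_subgroupOf] at hu
    obtain ⟨-, huV⟩ := hu
    obtain ⟨hhv, hhx⟩ := (hmemC h').mp hh'C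
    obtain ⟨huv, hux⟩ := (hmemC u').mp hu'C
    have hodd' : Odd (orderOf h') := by rw [← Subgroup.orderOf_mk h' hh'C]; exact hodd
    have hinv' : u' * h' * u'⁻¹ = h'⁻¹ := by
      have h1 := congrArg (Subtype.val) hinvh
      simpa using h1
    replace huV : u' ∈ V := huV
    -- vu inverts hx
    have hvu : v * u' ∈ V := V.mul_mem hv huV
    have hinvhx : (v * u') * (h' * x) * (v * u')⁻¹ = (h' * x)⁻¹ := by
      have e1 : u' * x * u'⁻¹ = x := by rw [hux, mul_inv_cancel_right]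
      have e2 : v * h'⁻¹ * v⁻¹ = h'⁻¹ := by
        rw [← conj_inv, ← hhv, mul_inv_cancel_right]
      calc (v * u') * (h' * x) * (v * u')⁻¹
          = v * ((u' * h' * u'⁻¹) * (u' * x * u'⁻¹)) * v⁻¹ := by group
        _ = v * (h'⁻¹ * x) * v⁻¹ := by rw [hinv', e1]
        _ = (v * h'⁻¹ * v⁻¹) * (v * x * v⁻¹) := by group
        _ = h'⁻¹ * x⁻¹ := by rw [e2, hinv]
        _ = (h' * x)⁻¹ := by rw [hhx, mul_inv_rev]
    have hoddhx : Odd (orderOf (h' * x)) := by
      have hc : Commute h' x := hhx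
      exact Odd.of_dvd_nat (hodd'.mul hx) hc.orderOf_mul_dvd_mul_orderOf
    obtain ⟨w, hwV, hw1, hwc⟩ := hS (h' * x) (v * u') hvu hoddhx hinvhx
    have hwu : w * u' = u' * w := hVab w hwV u' huV
    have hwv : w * v = v * w := hVab w hwV v hv
    have ha : h'⁻¹ * (w * h' * w⁻¹) = x * (w * x * w⁻¹)⁻¹ := by
      have h1 : (w * h' * w⁻¹) * (w * x * w⁻¹) = h' * x := by
        calc (w * h' * w⁻¹) * (w * x * w⁻¹) = w * (h' * x) * w⁻¹ := by group
          _ = h' * x := by rw [hwc, mul_inv_cancel_right]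
      rw [inv_mul_eq_iff_eq_mul, ← mul_assoc, eq_mul_inv_iff_mul_eq]; exact h1
    have hua : u' * (x * (w * x * w⁻¹)⁻¹) * u'⁻¹ = x * (w * x * w⁻¹)⁻¹ := by
      have c1 : Commute u' x := hux
      have c2 : Commute u' w := hwu.symm
      have c3 : Commute u' (x * (w * x * w⁻¹)⁻¹) :=
        c1.mul_right ((c2.mul_right c1).mul_right c2.inv_right).inv_right
      rw [c3.eq, mul_inv_cancel_right]
    rw [← ha] at hua
    have hua2 : u' * (h'⁻¹ * (w * h' * w⁻¹)) * u'⁻¹ = h' * (w * h'⁻¹ * w⁻¹) := by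
      have e3 : u' * h'⁻¹ * u'⁻¹ = h' := by rw [← conj_inv, hinv', inv_inv]
      have e4 : u' * w * u'⁻¹ = w := by rw [← hwu, mul_inv_cancel_right]
      calc u' * (h'⁻¹ * (w * h' * w⁻¹)) * u'⁻¹
          = (u' * h'⁻¹ * u'⁻¹) * ((u' * w * u'⁻¹) * (u' * h' * u'⁻¹) * (u' * w * u'⁻¹)⁻¹) := by
            group
        _ = h' * (w * h'⁻¹ * w⁻¹) := by rw [e3, e4, hinv']
    rw [hua2] at hua
    have hw2 : w * (h' * h') = (h' * h') * w := by
      have h1 : h' * (w * h'⁻¹ * w⁻¹) * w * h' = h'⁻¹ * (w * h' * w⁻¹) * w * h' := by rw [hua]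
      have h2 : h' * (w * h'⁻¹ * w⁻¹) * w * h' = h' * w := by group
      have h3 : h'⁻¹ * (w * h' * w⁻¹) * w * h' = h'⁻¹ * (w * (h' * h')) := by group
      rw [h2, h3] at h1
      rw [eq_inv_mul_iff_mul_eq] at h1
      rw [← h1]; group
    obtain ⟨j, hj⟩ := hodd'
    have hwh : w * h' = h' * w := by
      have c : Commute w (h' * h') := hw2
      have c2 : Commute w ((h' * h') ^ (j + 1)) := c.pow_right _
      have e : (h' * h') ^ (j + 1) = h' := by
        rw [← sq, ← pow_mul]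
        have h1 : 2 * (j + 1) = orderOf h' + 1 := by omega
        rw [h1, pow_add, pow_orderOf_eq_one, one_mul, pow_one]
      rw [e] at c2
      exact c2
    have hwx : w * x = x * w := by
      have h1 : h' * (w * x) = h' * (x * w) := by
        rw [← mul_assoc, ← hwh, mul_assoc, hwc, mul_assoc]
      exact mul_left_cancel h1
    have hwC : w ∈ C := (hmemC w).mpr ⟨hwv, hwx⟩
    refine ⟨⟨w, hwC⟩, ?_, ?_, ?_⟩
    · rw [Subgroup.mem_subgroupOf]; exact ⟨hwC, hwV⟩
    · intro h1; exact hw1 (congrArg Subtype.val h1)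
    · apply Subtype.ext; exact hwh

end Cfsg.Agent.S3013
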