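import Mathlib
import Cfsg.Statements.S3014
import Cfsg.Agent.Lib.helper56.Transfer

set_option autoImplicit false
open Cfsg

namespace Cfsg.Agent.S3014

theorem mem_normalizer_of_map_eq {G : Type*} [Group G] (L : Subgroup G) (g : G)
    (h : L.map (MulAut.conj g).toMonoidHom = L) : g ∈ Subgroup.normalizer (L : Set G) := by
  rw [Subgroup.mem_normalizer_iff]
  intro m
  constructor
  · intro hm
    have h1 : g * m * g⁻¹ ∈ L.map (MulAut.conj g).toMonoidHom := ⟨m, hm, rfl⟩
    rwa [h] at h1
  · intro hm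
    rw [← h] at hm
    obtain ⟨m', hm', he⟩ := hm
    have he' : g * m' * g⁻¹ = g * m * g⁻¹ := he
    have h2 : m' = m := by simpa using he'
    rw [← h2]; exact hm'

theorem map_conj_eq_of_mem_normalizer {G : Type*} [Group G] (L : Subgroup G) (g : G)
    (h : g ∈ Subgroup.normalizer (L : Set G)) : L.map (MulAut.conj g).toMonoidHom = L := by
  rw [Subgroup.mem_normalizer_iff] at h
  ext x
  constructor
  · rintro ⟨m, hm, rfl⟩
    exact (h m).mp hm
  · intro hx
    refine ⟨g⁻¹ * x * g, ?_, ?_⟩
    · have h2 : g * (g⁻¹ * x * g) * g⁻¹ = x := by group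
      have h3 := (h (g⁻¹ * x * g)).mpr (by rw [h2]; exact hx)
      exact h3
    · show g * (g⁻¹ * x * g) * g⁻¹ = x
      group

/-- Let G be a finite group and H ≤ M ≤ G subgroups such that for every g ∈ G the subgroup generated by H and g H g⁻¹ meets M exactly in H. If H is a maximal subgroup of M and M is a maximal subgroup of G, then the normal closure of H in G meets M exactly in H. -/
theorem result {G : Type*} [Group G] [Finite G] (H M : Subgroup G) (hHM : H ≤ M) (hcl : ∀ g : G, (H ⊔ H.map (MulAut.conj g).toMonoidHom) ⊓ M = H) (hmaxH : IsCoatom (H.subgroupOf M)) (hmaxM : IsCoatom M) : Subgroup.normalClosure (H : Set G) ⊓ M = H := by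
  classical
  have hconj : ∀ g h : G, h ∈ H → g * h * g⁻¹ ∈ M → g * h * g⁻¹ ∈ H := by
    intro g h hh hM
    have h1 : g * h * g⁻¹ ∈ (H ⊔ H.map (MulAut.conj g).toMonoidHom) ⊓ M :=
      ⟨Subgroup.mem_sup_right ⟨h, hh, rfl⟩, hM⟩
    rwa [hcl g] at h1
  have hle : H ≤ Subgroup.normalClosure (H : Set G) ⊓ M :=
    le_inf Subgroup.le_normalClosure hHM
  apply le_antisymm _ hle
  by_cases hHn : H.Normal
  · rw [Subgroup.normalClosure_eq_self]; exact inf_le_left
  -- M normalizes H
  have hn : M ≤ Subgroup.normalizer (H : Set G) := by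
    intro g hg
    rw [Subgroup.mem_normalizer_iff]
    intro h
    constructor
    · intro hh
      exact hconj g h hh (M.mul_mem (M.mul_mem hg (hHM hh)) (M.inv_mem hg))
    · intro hh
      have h1 := hconj g⁻¹ _ hh
        (M.mul_mem (M.mul_mem (M.inv_mem hg) (hHM hh)) (M.inv_mem (M.inv_mem hg)))
      simpa [mul_assoc] using h1
  have hsc : ∀ h ∈ H, ∀ y : G, y⁻¹ * h * y ∈ M → y⁻¹ * h * y ∈ H := by
    intro h hh y hy
    have h1 := hconj y⁻¹ h hh (by simpa using hy)
    simpa using h1
  -- maximality of H in M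
  have hgen : ∀ g ∈ M, g ∉ H → M ≤ H ⊔ Subgroup.zpowers g := by
    intro g hgM hgH
    have h1 : H.subgroupOf M ≤ (H ⊔ Subgroup.zpowers g).subgroupOf M := by
      intro x hx
      rw [Subgroup.mem_subgroupOf] at hx ⊢
      exact Subgroup.mem_sup_left hx
    rcases hmaxH.le_iff.mp h1 with h2 | h2
    · exact Subgroup.subgroupOf_eq_top.mp h2
    · exfalso
      have h3 : (⟨g, hgM⟩ : ↥M) ∈ (H ⊔ Subgroup.zpowers g).subgroupOf M := by
        rw [Subgroup.mem_subgroupOf]
        exact Subgroup.mem_sup_right (Subgroup.mem_zpowers g)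
      rw [h2, Subgroup.mem_subgroupOf] at h3
      exact hgH h3
  -- quotient commutative
  have hcomm : ∀ a ∈ M, ∀ b ∈ M, a * b * a⁻¹ * b⁻¹ ∈ H := by
    intro a ha b hb
    by_cases haH : a ∈ H
    · have h1 : b * a⁻¹ * b⁻¹ ∈ H :=
        ((Subgroup.mem_normalizer_iff.mp (hn hb)) a⁻¹).mp (H.inv_mem haH)
      have h2 : a * b * a⁻¹ * b⁻¹ = a * (b * a⁻¹ * b⁻¹) := by group
      rw [h2]; exact H.mul_mem haH h1
    · have h1 : b ∈ H ⊔ Subgroup.zpowers a := hgen a ha haH hb
      -- the set of b with the property is a subgroup containing H and a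
      let C : Subgroup G :=
        { carrier := {b | b ∈ M ∧ a * b * a⁻¹ * b⁻¹ ∈ H}
          one_mem' := by
            refine ⟨M.one_mem, ?_⟩
            simp
          mul_mem' := by
            rintro x y ⟨hxM, hx⟩ ⟨hyM, hy⟩
            refine ⟨M.mul_mem hxM hyM, ?_⟩
            have h3 : x * (a * y * a⁻¹ * y⁻¹) * x⁻¹ ∈ H :=
              ((Subgroup.mem_normalizer_iff.mp (hn hxM)) _).mp hy
            have h4 : a * (x * y) * a⁻¹ * (x * y)⁻¹ =
                (a * x * a⁻¹ * x⁻¹) * (x * (a * y * a⁻¹ * y⁻¹) * x⁻¹) := by group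
            rw [h4]; exact H.mul_mem hx h3
          inv_mem' := by
            rintro x ⟨hxM, hx⟩
            refine ⟨M.inv_mem hxM, ?_⟩
            have h3 : x⁻¹ * (a * x * a⁻¹ * x⁻¹)⁻¹ * x⁻¹⁻¹ ∈ H :=
              ((Subgroup.mem_normalizer_iff.mp (hn (M.inv_mem hxM))) _).mp (H.inv_mem hx)
            have h4 : a * x⁻¹ * a⁻¹ * x⁻¹⁻¹ = x⁻¹ * (a * x * a⁻¹ * x⁻¹)⁻¹ * x⁻¹⁻¹ := by group
            rw [h4]; exact h3 }
      have hHC : H ≤ C := by
        intro h hh
        refine ⟨hHM hh, ?_⟩
        have h3 : a * h * a⁻¹ ∈ H := ((Subgroup.mem_normalizer_iff.mp (hn ha)) h).mp hh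
        exact H.mul_mem h3 (H.inv_mem hh)
      have haC : Subgroup.zpowers a ≤ C := by
        rw [Subgroup.zpowers_le]
        refine ⟨ha, ?_⟩
        simp
      exact ((sup_le hHC haC) h1).2
  by_cases hfp : ∀ y : G, y ∉ M → ∀ g ∈ M, y⁻¹ * g * y ∈ M → g ∈ H
  · obtain ⟨K, hKn, hHK, hKM, -⟩ :=
      Lib.helper56.exists_normal_inf_eq_of_transfer H M hHM hn hcomm hsc hfp
    calc Subgroup.normalClosure (H : Set G) ⊓ M ≤ K ⊓ M :=
          inf_le_inf_right M (Subgroup.normalClosure_le_normal hHK)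
      _ = H := hKM
  · push Not at hfp
    obtain ⟨y, hyM, g, hgM, hgy, hgH⟩ := hfp
    -- M is not normal
    have hMn : ¬ M.Normal := by
      intro hM
      exact hHn ⟨fun h hh x => hconj x h hh (hM.conj_mem h (hHM hh) x)⟩
    have hNM : Subgroup.normalizer (M : Set G) = M := by
      rcases hmaxM.le_iff.mp (Subgroup.le_normalizer (H := M)) with h1 | h1
      · exact absurd (Subgroup.normalizer_eq_top_iff.mp h1) hMn
      · exact h1
    have hyN : M.map (MulAut.conj y).toMonoidHom ≠ M := by
      intro h1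
      have h2 : y ∈ Subgroup.normalizer (M : Set G) := mem_normalizer_of_map_eq M y h1
      rw [hNM] at h2
      exact hyM h2
    have hMM : M ⊔ M.map (MulAut.conj y).toMonoidHom = ⊤ := by
      rcases hmaxM.le_iff.mp (le_sup_left : M ≤ M ⊔ M.map (MulAut.conj y).toMonoidHom)
        with h1 | h1
      · exact h1
      · exfalso
        apply hyN
        have h2 : M.map (MulAut.conj y).toMonoidHom ≤ M := le_sup_right.trans h1.le
        apply Subgroup.eq_of_le_of_card_ge h2
        rw [Subgroup.card_map_of_injective (MulAut.conj y).injective]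
    have hg'H : y⁻¹ * g * y ∉ H := by
      intro h1
      have h3 : y * (y⁻¹ * g * y) * y⁻¹ = g := by group
      have h2 := hconj y _ h1 (by rw [h3]; exact hgM)
      rw [h3] at h2
      exact hgH h2
    set Hy := H.map (MulAut.conj y).toMonoidHom with hHy
    set L := H ⊔ Hy with hL
    -- g normalizes L
    have hgH' : H.map (MulAut.conj g).toMonoidHom = H :=
      map_conj_eq_of_mem_normalizer H g (hn hgM)
    have hgHy : Hy.map (MulAut.conj g).toMonoidHom = Hy := by
      have h1 : H.map (MulAut.conj (y⁻¹ * g * y)).toMonoidHom = H :=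
        map_conj_eq_of_mem_normalizer H _ (hn hgy)
      rw [hHy, Subgroup.map_map]
      conv_rhs => rw [← h1]
      rw [Subgroup.map_map]
      congr 1
      ext x
      simp [mul_assoc]
    have hgL : g ∈ Subgroup.normalizer (L : Set G) := by
      apply mem_normalizer_of_map_eq
      rw [hL, Subgroup.map_sup, hgH', hgHy]
    have hML : M ≤ Subgroup.normalizer (L : Set G) := by
      refine (hgen g hgM hgH).trans (sup_le ?_ ?_)
      · exact (le_sup_left : H ≤ L).trans Subgroup.le_normalizer
      · rw [Subgroup.zpowers_le]; exact hgL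
    have hMyL : M.map (MulAut.conj y).toMonoidHom ≤ Subgroup.normalizer (L : Set G) := by
      have h1 : M.map (MulAut.conj y).toMonoidHom ≤
          (H ⊔ Subgroup.zpowers (y⁻¹ * g * y)).map (MulAut.conj y).toMonoidHom :=
        Subgroup.map_mono (hgen _ hgy hg'H)
      refine h1.trans ?_
      rw [Subgroup.map_sup, MonoidHom.map_zpowers]
      have h2 : (MulAut.conj y).toMonoidHom (y⁻¹ * g * y) = g := by
        show y * (y⁻¹ * g * y) * y⁻¹ = g
        group
      rw [h2]
      refine sup_le ?_ ?_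
      · exact (le_sup_right : Hy ≤ L).trans Subgroup.le_normalizer
      · rw [Subgroup.zpowers_le]; exact hgL
    have hLn : L.Normal := by
      rw [← Subgroup.normalizer_eq_top_iff, eq_top_iff, ← hMM]
      exact sup_le hML hMyL
    calc Subgroup.normalClosure (H : Set G) ⊓ M ≤ L ⊓ M :=
          inf_le_inf_right M (Subgroup.normalClosure_le_normal (le_sup_left : H ≤ L))
      _ = H := hcl y

end Cfsg.Agent.S3014
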