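import Mathlib
import Cfsg.Statements.S3015
import Cfsg.Agent.Lib.helper56.Transfer

set_option autoImplicit false
open Cfsg

namespace Cfsg.Agent.S3015

/-- The subgroup generated by the `p'`-elements of `X`. -/
def Rp {G : Type*} [Group G] (p : ℕ) (X : Subgroup G) : Subgroup G :=
  Subgroup.closure {y | y ∈ X ∧ ¬ p ∣ orderOf y}

theorem Rp_le {G : Type*} [Group G] (p : ℕ) (X : Subgroup G) : Rp p X ≤ X := by
  rw [Rp, Subgroup.closure_le]
  exact fun y hy => hy.1

theorem Rp_map_conj {G : Type*} [Group G] (p : ℕ) (X : Subgroup G) (g : G) :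
    Rp p (X.map (MulAut.conj g).toMonoidHom) = (Rp p X).map (MulAut.conj g).toMonoidHom := by
  rw [Rp, Rp, MonoidHom.map_closure]
  congr 1
  ext y
  simp only [Set.mem_ofPred_eq, Set.mem_image, Subgroup.mem_map]
  constructor
  · rintro ⟨⟨x, hx, rfl⟩, hy⟩
    refine ⟨x, ⟨hx, ?_⟩, rfl⟩
    have h1 : orderOf ((MulAut.conj g).toMonoidHom x) = orderOf x := (MulAut.conj g).orderOf_eq x
    rwa [h1] at hy
  · rintro ⟨x, ⟨hx, hx2⟩, rfl⟩
    refine ⟨⟨x, hx, rfl⟩, ?_⟩
    have h1 : orderOf ((MulAut.conj g).toMonoidHom x) = orderOf x := (MulAut.conj g).orderOf_eq x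
    rwa [h1]

theorem Rp_le_of_normal_prime {G : Type*} [Group G] (p : ℕ) (hp : p.Prime) (D X : Subgroup G)
    (hn : (D.subgroupOf X).Normal) (hidx : D.relIndex X = p) : Rp p X ≤ D := by
  rw [Rp, Subgroup.closure_le]
  rintro y ⟨hyX, hy⟩
  have h1 : (⟨y, hyX⟩ : X) ^ (D.subgroupOf X).index ∈ D.subgroupOf X :=
    Subgroup.pow_index_mem _ _
  have h2 : y ^ p ∈ D := by
    rw [Subgroup.mem_subgroupOf] at h1
    rw [← hidx]
    simpa [Subgroup.relIndex] using h1
  have hcop : Nat.Coprime p (orderOf y) := (Nat.Prime.coprime_iff_not_dvd hp).mpr hy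
  obtain ⟨m, hm⟩ := exists_pow_eq_self_of_coprime hcop
  show y ∈ D
  rw [← hm]
  exact D.pow_mem h2 m

theorem isPGroup_of_Rp_eq_bot {G : Type*} [Group G] [Finite G] (p : ℕ) (hp : p.Prime)
    (X : Subgroup G) (h : Rp p X = ⊥) : IsPGroup p X := by
  intro y
  have ho : orderOf (y : G) ≠ 0 := (orderOf_pos _).ne'
  obtain ⟨e, m, hm, hem⟩ := Nat.exists_eq_pow_mul_and_not_dvd ho p hp.ne_one
  refine ⟨e, ?_⟩
  have h1 : (y : G) ^ p ^ e ∈ Rp p X := by
    apply Subgroup.subset_closure
    refine ⟨X.pow_mem y.2 _, ?_⟩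
    rw [orderOf_pow_of_dvd (pow_ne_zero e hp.ne_zero) ⟨m, hem⟩, hem,
      Nat.mul_div_cancel_left _ (pow_pos hp.pos e)]
    exact hm
  rw [h, Subgroup.mem_bot] at h1
  exact Subtype.ext (by simpa using h1)

theorem eq_of_relIndex_prime {G : Type*} [Group G] (H M X : Subgroup G) (hHX : H ≤ X)
    (hXM : X ≤ M) (hidx : (H.relIndex M).Prime) (hne : ¬ X ≤ H) : X = M := by
  have h1 := Subgroup.relIndex_mul_relIndex H X M hHX hXM
  rw [← h1] at hidx
  rcases Nat.prime_mul_iff.mp hidx with ⟨_, h2⟩ | ⟨_, h2⟩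
  · exact le_antisymm hXM (Subgroup.relIndex_eq_one.mp h2)
  · exact absurd (Subgroup.relIndex_eq_one.mp h2) hne

theorem map_conj_eq_of_mem_normalizer {G : Type*} [Group G] (H : Subgroup G) (z : G)
    (hz : z ∈ Subgroup.normalizer (H : Set G)) : H.map (MulAut.conj z).toMonoidHom = H := by
  ext x
  simp only [Subgroup.mem_map, MulEquiv.coe_toMonoidHom, MulAut.conj_apply]
  constructor
  · rintro ⟨y, hy, rfl⟩
    exact (Subgroup.mem_normalizer_iff.mp hz y).mp hy
  · intro hx
    refine ⟨z⁻¹ * x * z, ?_, by group⟩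
    rw [Subgroup.mem_normalizer_iff.mp hz (z⁻¹ * x * z)]
    simpa [mul_assoc] using hx

theorem mem_normalizer_of_map_conj_eq {G : Type*} [Group G] (H : Subgroup G) (z : G)
    (hz : H.map (MulAut.conj z).toMonoidHom = H) : z ∈ Subgroup.normalizer (H : Set G) := by
  rw [Subgroup.mem_normalizer_iff]
  intro h
  constructor
  · intro hh
    rw [← hz]
    exact ⟨h, hh, rfl⟩
  · intro hh
    rw [← hz] at hh
    obtain ⟨y, hy, hy2⟩ := hh
    have : y = h := by
      have h3 : z * y * z⁻¹ = z * h * z⁻¹ := hy2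
      simpa using h3
    rwa [← this]

theorem map_conj_normalizer_le {G : Type*} [Group G] (H M : Subgroup G) (g : G)
    (h : M ≤ Subgroup.normalizer (H : Set G)) :
    M.map (MulAut.conj g).toMonoidHom ≤
      Subgroup.normalizer ((H.map (MulAut.conj g).toMonoidHom : Subgroup G) : Set G) := by
  rw [← Subgroup.map_equiv_normalizer_eq]
  exact Subgroup.map_mono h

theorem result {G : Type*} [Group G] [Finite G] [IsSimpleGroup G] (hG : ¬ IsMulCommutative G) (M H : Subgroup G) (hmaxM : IsCoatom M) (hHM : H ≤ M) (hHn : (H.subgroupOf M).Normal) (hidx : (H.relIndex M).Prime) : ∃ g : G, H ⊔ H.map (MulAut.conj g).toMonoidHom = ⊤ := by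
  classical
  by_contra hcon
  push Not at hcon
  obtain ⟨p, hp⟩ : ∃ p, p = H.relIndex M := ⟨_, rfl⟩
  have hpp : p.Prime := hp ▸ hidx
  have hMtop : M ≠ ⊤ := hmaxM.1
  have hHneM : ¬ M ≤ H := by
    intro h
    have : H.relIndex M = 1 := Subgroup.relIndex_eq_one.mpr h
    rw [this] at hidx; exact Nat.not_prime_one hidx
  have hMN : M ≤ Subgroup.normalizer (H : Set G) :=
    (Subgroup.normal_subgroupOf_iff_le_normalizer hHM).mp hHn
  have hMnn : ¬ M.Normal := by
    intro hn
    rcases hn.eq_bot_or_eq_top with h | h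
    · exact hHneM (h ▸ bot_le)
    · exact hMtop h
  have hNM : ∀ g : G, M.map (MulAut.conj g).toMonoidHom = M → g ∈ M := by
    intro g hg
    by_contra hgM
    have h1 : g ∈ Subgroup.normalizer (M : Set G) := mem_normalizer_of_map_conj_eq M g hg
    have h2 : M < Subgroup.normalizer (M : Set G) :=
      lt_of_le_of_ne Subgroup.le_normalizer (fun heq => hgM (by rw [heq]; exact h1))
    have h3 := hmaxM.2 _ h2
    exact hMnn (Subgroup.normalizer_eq_top_iff.mp h3)
  -- the key claim
  have hB : ∀ g : G, g ∉ M → ∀ z ∈ M, z ∈ M.map (MulAut.conj g).toMonoidHom → z ∈ H := by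
    intro g hg z hzM hzM1
    by_contra hzH
    obtain ⟨M₁, hM₁⟩ : ∃ M₁, M₁ = M.map (MulAut.conj g).toMonoidHom := ⟨_, rfl⟩
    obtain ⟨H₁, hH₁⟩ : ∃ H₁, H₁ = H.map (MulAut.conj g).toMonoidHom := ⟨_, rfl⟩
    rw [← hM₁] at hzM1
    have hH₁M₁ : H₁ ≤ M₁ := by rw [hH₁, hM₁]; exact Subgroup.map_mono hHM
    have hM₁ne : M₁ ≠ M := fun h => hg (hNM g (hM₁ ▸ h))
    have hcardM : Nat.card M₁ = Nat.card M := by
      rw [hM₁]; exact Subgroup.card_map_of_injective (MulEquiv.injective _)
    have hcardH : Nat.card H₁ = Nat.card H := by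
      rw [hH₁]; exact Subgroup.card_map_of_injective (MulEquiv.injective _)
    have hsup : M ⊔ M₁ = ⊤ := by
      apply hmaxM.2
      refine lt_of_le_of_ne le_sup_left ?_
      intro h
      have h1 : M₁ ≤ M := by rw [h]; exact le_sup_right
      exact hM₁ne (Subgroup.eq_of_le_of_card_ge h1 (le_of_eq hcardM.symm))
    have hidx₁ : H₁.relIndex M₁ = p := by
      rw [hH₁, hM₁, Subgroup.relIndex_map_map_of_injective _ _ (MulEquiv.injective _), hp]
    have hM₁N : M₁ ≤ Subgroup.normalizer (H₁ : Set G) := by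
      rw [hH₁, hM₁]; exact map_conj_normalizer_le H M g hMN
    have hHz : H ⊔ Subgroup.zpowers z = M := by
      apply eq_of_relIndex_prime H M _ le_sup_left
        (sup_le hHM (by rw [Subgroup.zpowers_le]; exact hzM)) hidx
      intro h
      exact hzH (h (Subgroup.mem_sup_right (Subgroup.mem_zpowers z)))
    by_cases hzH₁ : z ∈ H₁
    · -- the conjugate `H₁` lies in `M`
      have hK : H ⊔ H₁ = M := by
        have h1 : M ≤ H ⊔ H₁ := by
          rw [← hHz]
          exact sup_le le_sup_left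
            (by rw [Subgroup.zpowers_le]; exact Subgroup.mem_sup_right hzH₁)
        by_contra hne
        have h2 : M < H ⊔ H₁ := lt_of_le_of_ne h1 (fun h => hne h.symm)
        exact hcon g (hH₁ ▸ hmaxM.2 _ h2)
      have hH₁M : H₁ ≤ M := by rw [← hK]; exact le_sup_right
      have hR1 : Rp p M₁ ≤ H₁ :=
        Rp_le_of_normal_prime p hpp H₁ M₁
          ((Subgroup.normal_subgroupOf_iff_le_normalizer hH₁M₁).mpr hM₁N) hidx₁
      have hR2 : Rp p M₁ ≤ Rp p M := by
        have h0 := hR1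
        rw [Rp, Subgroup.closure_le] at hR1
        rw [Rp, Subgroup.closure_le]
        intro y hy
        apply Subgroup.subset_closure
        exact ⟨hH₁M (hR1 hy), hy.2⟩
      have hR3 : Rp p M₁ = Rp p M := by
        apply Subgroup.eq_of_le_of_card_ge hR2
        rw [hM₁, Rp_map_conj]
        exact le_of_eq (Subgroup.card_map_of_injective (MulEquiv.injective _)).symm
      have hRn : (Rp p M).Normal := by
        rw [← Subgroup.normalizer_eq_top_iff, eq_top_iff, ← hsup]
        apply sup_le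
        · intro m hm
          apply mem_normalizer_of_map_conj_eq
          rw [← Rp_map_conj, map_conj_eq_of_mem_normalizer M m (Subgroup.le_normalizer hm)]
        · intro m hm
          apply mem_normalizer_of_map_conj_eq
          rw [← hR3, ← Rp_map_conj,
            map_conj_eq_of_mem_normalizer M₁ m (Subgroup.le_normalizer hm)]
      have hRbot : Rp p M = ⊥ := by
        rcases hRn.eq_bot_or_eq_top with h | h
        · exact h
        · exact absurd (top_le_iff.mp (h ▸ Rp_le p M)) hMtop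
      have hMp : IsPGroup p M := isPGroup_of_Rp_eq_bot p hpp M hRbot
      -- `H₁` has index `p` in the `p`-group `M`, so it is normal in `M`
      have hidx2 : H₁.relIndex M = p := by
        have h1 : Nat.card H₁ * H₁.relIndex M = Nat.card M := by
          rw [← Subgroup.relIndex_bot_left, ← Subgroup.relIndex_bot_left]
          exact Subgroup.relIndex_mul_relIndex ⊥ H₁ M bot_le hH₁M
        have h2 : Nat.card H * H.relIndex M = Nat.card M := by
          rw [← Subgroup.relIndex_bot_left, ← Subgroup.relIndex_bot_left]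
          exact Subgroup.relIndex_mul_relIndex ⊥ H M bot_le hHM
        rw [hcardH, ← h2] at h1
        rw [hp]
        exact Nat.eq_of_mul_eq_mul_left Nat.card_pos h1
      have hH₁nM : (H₁.subgroupOf M).Normal := by
        apply Subgroup.normal_of_index_eq_minFac_card
        haveI : Fact p.Prime := ⟨hpp⟩
        obtain ⟨n, hn⟩ := IsPGroup.iff_card.mp hMp
        have hn0 : n ≠ 0 := by
          rintro rfl
          have h1 : Nat.card H₁ * H₁.relIndex M = Nat.card M := by
            rw [← Subgroup.relIndex_bot_left, ← Subgroup.relIndex_bot_left]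
            exact Subgroup.relIndex_mul_relIndex ⊥ H₁ M bot_le hH₁M
          rw [hidx2, hn, pow_zero] at h1
          have : p ∣ 1 := Dvd.intro_left _ h1
          exact hpp.one_lt.ne' (Nat.dvd_one.mp this)
        rw [hn, Nat.pow_minFac hn0, hpp.minFac_eq]
        exact hidx2
      have hH₁n : H₁.Normal := by
        rw [← Subgroup.normalizer_eq_top_iff, eq_top_iff, ← hsup]
        exact sup_le ((Subgroup.normal_subgroupOf_iff_le_normalizer hH₁M).mp hH₁nM) hM₁N
      rcases hH₁n.eq_bot_or_eq_top with h | h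
      · rw [h, Subgroup.mem_bot] at hzH₁
        exact hzH (hzH₁ ▸ H.one_mem)
      · exact hMtop (top_le_iff.mp (h ▸ hH₁M))
    · have hH₁z : H₁ ⊔ Subgroup.zpowers z = M₁ := by
        apply eq_of_relIndex_prime H₁ M₁ _ le_sup_left
          (sup_le hH₁M₁ (by rw [Subgroup.zpowers_le]; exact hzM1)) (hidx₁ ▸ hpp)
        intro h
        exact hzH₁ (h (Subgroup.mem_sup_right (Subgroup.mem_zpowers z)))
      have hzK : z ∈ Subgroup.normalizer ((H ⊔ H₁ : Subgroup G) : Set G) := by
        apply mem_normalizer_of_map_conj_eq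
        rw [Subgroup.map_sup, map_conj_eq_of_mem_normalizer H z (hMN hzM),
          map_conj_eq_of_mem_normalizer H₁ z (hM₁N hzM1)]
      have hKn : (H ⊔ H₁ : Subgroup G).Normal := by
        rw [← Subgroup.normalizer_eq_top_iff, eq_top_iff, ← hsup, ← hHz, ← hH₁z]
        have hz' : Subgroup.zpowers z ≤ Subgroup.normalizer ((H ⊔ H₁ : Subgroup G) : Set G) := by
          rw [Subgroup.zpowers_le]; exact hzK
        exact sup_le (sup_le (le_trans le_sup_left Subgroup.le_normalizer) hz')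
          (sup_le (le_trans le_sup_right Subgroup.le_normalizer) hz')
      rcases hKn.eq_bot_or_eq_top with h | h
      · have hHbot : H = ⊥ := by
          rw [eq_bot_iff, ← h]; exact le_sup_left
        have hH₁bot : H₁ = ⊥ := by
          rw [eq_bot_iff, ← h]; exact le_sup_right
        rw [hHbot, bot_sup_eq] at hHz
        rw [hH₁bot, bot_sup_eq] at hH₁z
        exact hM₁ne (hH₁z.symm.trans hHz)
      · exact hcon g (hH₁ ▸ h)
  -- apply the transfer criterion
  have hcomm : ∀ a ∈ M, ∀ b ∈ M, a * b * a⁻¹ * b⁻¹ ∈ H := by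
    intro a ha b hb
    haveI := hHn
    have hcard : Nat.card (↥M ⧸ H.subgroupOf M) = p := by
      rw [hp]; rfl
    haveI : Fact p.Prime := ⟨hpp⟩
    haveI : IsCyclic (↥M ⧸ H.subgroupOf M) := isCyclic_of_prime_card hcard
    obtain ⟨γ, hγ⟩ := IsCyclic.exists_generator (α := ↥M ⧸ H.subgroupOf M)
    obtain ⟨i, hi⟩ := Subgroup.mem_zpowers_iff.mp (hγ ((⟨a, ha⟩ : M) : ↥M ⧸ H.subgroupOf M))
    obtain ⟨j, hj⟩ := Subgroup.mem_zpowers_iff.mp (hγ ((⟨b, hb⟩ : M) : ↥M ⧸ H.subgroupOf M))
    have h1 : (((⟨a, ha⟩ : M) * ⟨b, hb⟩ * (⟨a, ha⟩ : M)⁻¹ * (⟨b, hb⟩ : M)⁻¹ : M) :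
        ↥M ⧸ H.subgroupOf M) = 1 := by
      rw [QuotientGroup.mk_mul, QuotientGroup.mk_mul, QuotientGroup.mk_mul,
        QuotientGroup.mk_inv, QuotientGroup.mk_inv, ← hi, ← hj]
      rw [← zpow_add, ← zpow_neg, ← zpow_add, ← zpow_neg, ← zpow_add]
      have : i + j + -i + -j = 0 := by ring
      rw [this, zpow_zero]
    rw [QuotientGroup.eq_one_iff, Subgroup.mem_subgroupOf] at h1
    exact h1
  have hsc : ∀ h ∈ H, ∀ y : G, y⁻¹ * h * y ∈ M → y⁻¹ * h * y ∈ H := by
    intro h hh y hy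
    by_cases hyM : y ∈ M
    · have h1 := (Subgroup.mem_normalizer_iff.mp (hMN (M.inv_mem hyM)) h).mp hh
      simpa using h1
    · apply hB y⁻¹ (fun h' => hyM (by simpa using M.inv_mem h')) _ hy
      exact ⟨h, hHM hh, by simp⟩
  have hfp : ∀ y : G, y ∉ M → ∀ g ∈ M, y⁻¹ * g * y ∈ M → g ∈ H := by
    intro y hy g hg hmem
    apply hB y hy g hg
    exact ⟨y⁻¹ * g * y, hmem, by simp [mul_assoc]⟩
  obtain ⟨K, hKn, hHK, hKM, hKsup⟩ :=
    Cfsg.Agent.Lib.helper56.exists_normal_inf_eq_of_transfer H M hHM hMN hcomm hsc hfp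
  rcases hKn.eq_bot_or_eq_top with h | h
  · rw [h, bot_sup_eq] at hKsup
    exact hMtop hKsup
  · rw [h, top_inf_eq] at hKM
    exact hHneM (le_of_eq hKM)

end Cfsg.Agent.S3015
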