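import Mathlib
import Cfsg.Statements.S3020
import Cfsg.Agent.Lib.helper40.Cores

set_option autoImplicit false
open Cfsg

namespace Cfsg.Agent.S3020

/-- Let G be a finite group, p a prime and H an abelian p-subgroup of G that is extremely closed (for every g, the subgroup generated by H and g H g⁻¹ meets N_G(H) exactly in H). Then for every g ∈ G, the subgroup T generated by H and g H g⁻¹ is the product of H with O_{p'}(T), and H meets O_{p'}(T) trivially; that is, O_{p'}(T) is a normal p-complement of H in T. -/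
theorem result {G : Type*} [Group G] [Finite G] {p : ℕ} [Fact p.Prime] (H : Subgroup G) (hHp : IsPGroup p H) (hHab : IsMulCommutative H) (hcl : Cfsg.IsExtremelyClosed H) (g : G) (T : Subgroup G) (hT : T = H ⊔ H.map (MulAut.conj g).toMonoidHom) : H ⊔ (Cfsg.pPrimeCore p ↥T).map T.subtype = T ∧ H ⊓ (Cfsg.pPrimeCore p ↥T).map T.subtype = ⊥ := by
  classical
  have hp : p.Prime := Fact.out
  have hHT : H ≤ T := by rw [hT]; exact le_sup_left
  set H' : Subgroup ↥T := H.subgroupOf T with hH'
  have hH'p : IsPGroup p H' := hHp.comap_subtype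
  have hN : Subgroup.normalizer (H' : Set ↥T) = H' := by
    rw [hH', ← Subgroup.subgroupOf_normalizer_eq hHT]
    ext ⟨t, ht⟩
    rw [Subgroup.mem_subgroupOf, Subgroup.mem_subgroupOf]
    constructor
    · intro h2
      have h3 : t ∈ (H ⊔ H.map (MulAut.conj g).toMonoidHom) ⊓ Subgroup.normalizer (H : Set G) :=
        ⟨hT ▸ ht, h2⟩
      rw [hcl g] at h3
      exact h3
    · intro h1
      exact Subgroup.le_normalizer h1
  obtain ⟨P, hP⟩ := hH'p.exists_le_sylow
  have hPH : (P : Subgroup ↥T) = H' := by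
    apply le_antisymm _ hP
    by_contra hne
    have h1 : H'.subgroupOf (P : Subgroup ↥T) < ⊤ := by
      rw [lt_top_iff_ne_top]
      intro h2
      exact hne (Subgroup.subgroupOf_eq_top.mp h2)
    have hnil : Group.IsNilpotent ↥(P : Subgroup ↥T) := P.2.isNilpotent
    have h2 := Group.normalizerCondition_of_isNilpotent (G := ↥(P : Subgroup ↥T)) _ h1
    have h3 : Subgroup.normalizer ((H'.subgroupOf (P : Subgroup ↥T)) : Set ↥(P : Subgroup ↥T))
        = H'.subgroupOf (P : Subgroup ↥T) := by
      rw [← Subgroup.subgroupOf_normalizer_eq hP, hN]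
    rw [h3] at h2
    exact lt_irrefl _ h2
  have hPab : ∀ a ∈ (P : Subgroup ↥T), ∀ b ∈ (P : Subgroup ↥T), a * b = b * a := by
    intro a ha b hb
    rw [hPH, hH', Subgroup.mem_subgroupOf] at ha hb
    apply Subtype.ext
    exact isMulCommutative_iff_of_setLike.mp hHab _ ha _ hb
  have hPN : Subgroup.normalizer (P : Set ↥T) ≤ Subgroup.centralizer (P : Set ↥T) := by
    intro a ha
    have ha' : a ∈ (P : Subgroup ↥T) := by
      have h1 : a ∈ Subgroup.normalizer ((P : Subgroup ↥T) : Set ↥T) := ha
      rw [hPH, hN, ← hPH] at h1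
      exact h1
    rw [Subgroup.mem_centralizer_iff]
    intro b hb
    exact hPab b hb a ha'
  have hcomp := MonoidHom.ker_transferSylow_isComplement' P hPN
  have hnd := MonoidHom.not_dvd_card_ker_transferSylow P hPN
  have hKO : (MonoidHom.transferSylow P hPN).ker ≤ Cfsg.pPrimeCore p ↥T :=
    Lib.helper40.le_pPrimeCore _ inferInstance ((Nat.Prime.coprime_iff_not_dvd hp).mpr hnd).symm
  have hsup : H' ⊔ Cfsg.pPrimeCore p ↥T = ⊤ := by
    rw [eq_top_iff, ← hcomp.sup_eq_top]
    exact sup_le (hKO.trans le_sup_right) (hPH.le.trans le_sup_left)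
  have hinf : H' ⊓ Cfsg.pPrimeCore p ↥T = ⊥ := by
    obtain ⟨n, hn⟩ := hH'p.exists_card_eq
    apply disjoint_iff.mp
    apply Subgroup.disjoint_of_coprime_natCard
    rw [hn]
    exact Nat.Coprime.pow_left n (Lib.helper40.pPrimeCore_card_coprime p ↥T).symm
  have hmapH : H'.map T.subtype = H := by
    rw [hH', Subgroup.subgroupOf_map_subtype]; exact inf_eq_left.mpr hHT
  constructor
  · have h1 : H ⊔ (Cfsg.pPrimeCore p ↥T).map T.subtype =
        (H' ⊔ Cfsg.pPrimeCore p ↥T).map T.subtype := by rw [Subgroup.map_sup, hmapH]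
    rw [h1, hsup, ← MonoidHom.range_eq_map, Subgroup.range_subtype]
  · have h1 : H ⊓ (Cfsg.pPrimeCore p ↥T).map T.subtype =
        (H' ⊓ Cfsg.pPrimeCore p ↥T).map T.subtype := by
      rw [Subgroup.map_inf _ _ _ T.subtype_injective, hmapH]
    rw [h1, hinf, Subgroup.map_bot]

end Cfsg.Agent.S3020
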