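import Mathlib
import Cfsg.Statements.S3021

set_option autoImplicit false
open Cfsg

namespace Cfsg.Agent.S3021

/-- Let G be a finite group, p a prime and H a p-subgroup of G that is extremely closed (for every g, the subgroup generated by H and g H g⁻¹ meets N_G(H) exactly in H). Then every p-subgroup Q of G containing H has N_G(Q) ≤ N_G(H); in particular every Sylow p-subgroup P of G containing H normalizes H, and H is strongly closed in P with respect to G. -/
theorem result {G : Type*} [Group G] [Finite G] {p : ℕ} [Fact p.Prime] (H : Subgroup G) (hHp : IsPGroup p H) (hcl : Cfsg.IsExtremelyClosed H) : (∀ Q : Subgroup G, IsPGroup p Q → H ≤ Q → Subgroup.normalizer (Q : Set G) ≤ Subgroup.normalizer (H : Set G)) ∧ ∀ P : Sylow p G, H ≤ (P : Subgroup G) → (P : Subgroup G) ≤ Subgroup.normalizer (H : Set G) ∧ Cfsg.IsStronglyClosed H (P : Subgroup G) := by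
  have key : ∀ Q : Subgroup G, IsPGroup p Q → H ≤ Q →
      Subgroup.normalizer (Q : Set G) ≤ Subgroup.normalizer (H : Set G) := by
    intro Q hQ hHQ x hx
    have hKQ : H.map (MulAut.conj x).toMonoidHom ≤ Q := by
      rintro _ ⟨h, hh, rfl⟩
      have := (Subgroup.mem_normalizer_iff.mp hx h).mp (hHQ hh)
      simpa using this
    have hTQ : H ⊔ H.map (MulAut.conj x).toMonoidHom ≤ Q := sup_le hHQ hKQ
    have hTp : IsPGroup p ↥(H ⊔ H.map (MulAut.conj x).toMonoidHom) := hQ.to_le hTQ
    have hTN : (H ⊔ H.map (MulAut.conj x).toMonoidHom) ⊓ Subgroup.normalizer (H : Set G) = H := hcl x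
    have hHT : H ≤ H ⊔ H.map (MulAut.conj x).toMonoidHom := le_sup_left
    have hnil : Group.IsNilpotent ↥(H ⊔ H.map (MulAut.conj x).toMonoidHom) := hTp.isNilpotent
    have hnc : NormalizerCondition ↥(H ⊔ H.map (MulAut.conj x).toMonoidHom) :=
      Group.normalizerCondition_of_isNilpotent
    have htop : H.subgroupOf (H ⊔ H.map (MulAut.conj x).toMonoidHom) = ⊤ := by
      apply (normalizerCondition_iff_only_full_group_self_normalizing.mp hnc)
      rw [← Subgroup.subgroupOf_normalizer_eq hHT]
      ext ⟨y, hy⟩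
      simp only [Subgroup.mem_subgroupOf]
      constructor
      · intro h
        have : y ∈ (H ⊔ H.map (MulAut.conj x).toMonoidHom) ⊓ Subgroup.normalizer (H : Set G) :=
          ⟨hy, h⟩
        rw [hTN] at this
        exact this
      · intro h
        exact Subgroup.le_normalizer h
    have hle : H ⊔ H.map (MulAut.conj x).toMonoidHom ≤ H := by
      rw [Subgroup.subgroupOf_eq_top] at htop
      exact htop
    have hmap : H.map (MulAut.conj x).toMonoidHom ≤ H := le_trans le_sup_right hle
    have hcard : Nat.card (H.map (MulAut.conj x).toMonoidHom) = Nat.card H := by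
      exact Subgroup.card_map_of_injective (MulAut.conj x).injective
    have heq : H.map (MulAut.conj x).toMonoidHom = H := by
      apply Subgroup.eq_of_le_of_card_ge hmap
      rw [hcard]
    exact Subgroup.mem_normalizer_iff_map_conj_eq.mpr heq
  refine ⟨key, ?_⟩
  intro P hHP
  have hPN : (P : Subgroup G) ≤ Subgroup.normalizer (H : Set G) :=
    le_trans Subgroup.le_normalizer (key P P.isPGroup' hHP)
  refine ⟨hPN, hHP, ?_⟩
  intro x hx g hg
  have h1 : g * x * g⁻¹ ∈ H ⊔ H.map (MulAut.conj g).toMonoidHom := by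
    apply Subgroup.mem_sup_right
    exact ⟨x, hx, by simp⟩
  have h2 : g * x * g⁻¹ ∈ (H ⊔ H.map (MulAut.conj g).toMonoidHom) ⊓ Subgroup.normalizer (H : Set G) :=
    ⟨h1, hPN hg⟩
  rw [hcl g] at h2
  exact h2

end Cfsg.Agent.S3021
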