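import Cfsg.Statements.S3023
import Mathlib
import Cfsg.Agent.Lib.helper12.SylowNormal
import Cfsg.Agent.Lib.helper54.FStar2

set_option autoImplicit false
open Cfsg

namespace Cfsg.Agent.S3023

open Cfsg.Agent.Lib.helper53 Cfsg.Agent.Lib.helper54 in
/-- The statement in ambient form. -/
theorem main {G : Type*} [Group G] [Finite G] {p : ℕ} [Fact p.Prime]
    (hG : Cfsg.IsOfParabolicCharacteristic p G) (S : Sylow p G) (G₁ : Subgroup G)
    (hsn : G₁.IsSubnormal)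
    (hle : ((S : Subgroup G) ⊓ G₁) ⊓
        Subgroup.centralizer (((S : Subgroup G) ⊓ G₁ : Subgroup G) : Set G) ≤
      (S : Subgroup G) ⊓ Subgroup.centralizer ((S : Subgroup G) : Set G))
    (R : Subgroup ↥G₁) (hR : IsPGroup p R) (hne : R ≠ ⊥) (T₁ : Sylow p ↥G₁)
    (hT₁ : (T₁ : Subgroup ↥G₁) ≤ Subgroup.normalizer (R : Set ↥G₁)) :
    CharPIn p (Subgroup.normalizer (R : Set ↥G₁)) := by
  have hpp : p.Prime := Fact.out
  have hRT : R ≤ T₁ := le_of_le_normalizer_sylow T₁ hR hT₁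
  obtain ⟨z₁, hz₁R, hz₁ord, hz₁c'⟩ :=
    exists_orderOf_eq_prime_central_of_normal T₁.2 hRT hT₁ hne
  have hzord : orderOf (z₁ : G) = p := by rw [Subgroup.orderOf_coe, hz₁ord]
  -- the Sylow subgroup `S ∩ G₁` of `G₁` and an element of `G₁` conjugating it to `T₁`
  obtain ⟨S₁, hS₁⟩ := Cfsg.Agent.Lib.helper12.exists_sylow_eq_subgroupOf_of_isSubnormal S G₁ hsn
  obtain ⟨h, hh⟩ := exists_le_conj_sylow T₁.2 S₁
  have hTS : (S₁ : Subgroup ↥G₁).map (MulAut.conj h).toMonoidHom = T₁ :=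
    T₁.3 (isPGroup_conj S₁.2 h) hh
  have hz0S : h⁻¹ * z₁ * h ∈ (S₁ : Subgroup ↥G₁) := by
    rw [← mem_conj_iff, hTS]; exact hRT hz₁R
  have hz0c : ∀ s ∈ (S₁ : Subgroup ↥G₁), s * (h⁻¹ * z₁ * h) = (h⁻¹ * z₁ * h) * s := by
    intro s hs
    have h1 : h * s * h⁻¹ ∈ (T₁ : Subgroup ↥G₁) := by
      rw [← hTS]; exact conj_mem_conj hs
    have h2 := hz₁c' _ h1
    calc s * (h⁻¹ * z₁ * h) = h⁻¹ * (h * s * h⁻¹ * z₁) * h := by group
      _ = h⁻¹ * (z₁ * (h * s * h⁻¹)) * h := by rw [h2]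
      _ = h⁻¹ * z₁ * h * s := by group
  have hz0G : ((h⁻¹ * z₁ * h : ↥G₁) : G) ∈ ((S : Subgroup G) ⊓ G₁) ⊓
      Subgroup.centralizer (((S : Subgroup G) ⊓ G₁ : Subgroup G) : Set G) := by
    refine Subgroup.mem_inf.mpr ⟨Subgroup.mem_inf.mpr ⟨?_, (h⁻¹ * z₁ * h).2⟩, ?_⟩
    · have h1 : h⁻¹ * z₁ * h ∈ (S : Subgroup G).subgroupOf G₁ := by rw [← hS₁]; exact hz0S
      exact Subgroup.mem_subgroupOf.mp h1
    · rw [Subgroup.mem_centralizer_iff]
      intro s hs
      obtain ⟨hsS, hsG⟩ := Subgroup.mem_inf.mp hs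
      have h1 : (⟨s, hsG⟩ : ↥G₁) ∈ (S₁ : Subgroup ↥G₁) := by
        rw [hS₁]; exact Subgroup.mem_subgroupOf.mpr hsS
      exact congrArg Subtype.val (hz0c _ h1)
  have hz0cS := (Subgroup.mem_inf.mp (hle hz0G)).2
  have hz0eq : ((h⁻¹ * z₁ * h : ↥G₁) : G) = (h : G)⁻¹ * (z₁ : G) * (h : G) := by
    simp
  rw [hz0eq] at hz0cS
  -- the Sylow subgroup `h S h⁻¹` of `G` centralizes `z`
  have hTcoe : ((((h : G) • S : Sylow p G)) : Subgroup G) =
      (S : Subgroup G).map (MulAut.conj (h : G)).toMonoidHom := by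
    rw [Sylow.coe_subgroup_smul]; rfl
  have hzcen : ((((h : G) • S : Sylow p G)) : Subgroup G) ≤
      Subgroup.centralizer ({(z₁ : G)} : Set G) := by
    intro t ht
    rw [hTcoe, mem_conj_iff] at ht
    rw [Subgroup.mem_centralizer_iff]
    intro y hy
    rw [Set.mem_singleton_iff] at hy
    subst hy
    have h2 := Subgroup.mem_centralizer_iff.mp hz0cS _ ht
    calc (z₁ : G) * t
        = (h : G) * (((h : G)⁻¹ * (z₁ : G) * (h : G)) * ((h : G)⁻¹ * t * (h : G))) * (h : G)⁻¹ := by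
          group
      _ = (h : G) * (((h : G)⁻¹ * t * (h : G)) * ((h : G)⁻¹ * (z₁ : G) * (h : G))) * (h : G)⁻¹ := by
          rw [h2]
      _ = t * (z₁ : G) := by group
  -- `N_G(⟨z⟩)` is a parabolic `p`-local, hence of characteristic `p`
  have hzp : IsPGroup p (Subgroup.zpowers (z₁ : G)) := by
    apply IsPGroup.of_card (n := 1)
    rw [Nat.card_zpowers, hzord, pow_one]
  have hzne : Subgroup.zpowers (z₁ : G) ≠ ⊥ := by
    intro hb
    rw [Subgroup.zpowers_eq_bot] at hb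
    rw [hb, orderOf_one] at hzord
    exact hpp.one_lt.ne hzord
  have hN : CharPIn p (Subgroup.normalizer ((Subgroup.zpowers (z₁ : G) : Subgroup G) : Set G)) :=
    (charPIn_iff _).mpr (hG _ hzp hzne
      ⟨(h : G) • S, hzcen.trans (centralizer_singleton_le_normalizer_zpowers _)⟩)
  have hC : CharPIn p (Subgroup.centralizer ({(z₁ : G)} : Set G)) :=
    hN.centralizer_of_normalizer_zpowers
  have hY : CharPIn p (G₁ ⊓ Subgroup.centralizer ({(z₁ : G)} : Set G)) :=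
    CharPIn.inf_of_isSubnormal hsn hC
  have hR'Y : R.map G₁.subtype ≤ G₁ ⊓ Subgroup.centralizer ({(z₁ : G)} : Set G) := by
    rintro _ ⟨r, hr, rfl⟩
    refine Subgroup.mem_inf.mpr ⟨r.2, ?_⟩
    rw [Subgroup.mem_centralizer_iff]
    intro y hy
    rw [Set.mem_singleton_iff] at hy
    subst hy
    exact (congrArg Subtype.val (hz₁c' r (hRT hr))).symm
  have h8 := CharPIn.inf_normalizer hY hR'Y (hR.map G₁.subtype)
  rw [inf_right_comm] at h8
  have h9 : CharPIn p (G₁ ⊓ Subgroup.normalizer ((R.map G₁.subtype : Subgroup G) : Set G)) :=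
    charPIn_of_centralizer (P := R.map G₁.subtype) (z := (z₁ : G))
      (le_inf (Subgroup.map_subtype_le _) Subgroup.le_normalizer) inf_le_right
      (hR.map G₁.subtype) ⟨z₁, hz₁R, rfl⟩ h8
  apply CharPIn.of_map_subtype
  rw [map_normalizer_subtype]
  exact h9

/-- Let p be a prime, G a finite group of parabolic characteristic p (every p-local subgroup containing a Sylow p-subgroup of G has characteristic p), S a Sylow p-subgroup of G and G₁ a subnormal subgroup of G. If the centre of S ∩ G₁ is nontrivial and contained in the centre of S, then G₁ has parabolic characteristic p. -/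
theorem result {G : Type*} [Group G] [Finite G] {p : ℕ} [Fact p.Prime] (hG : Cfsg.IsOfParabolicCharacteristic p G) (S : Sylow p G) (G₁ : Subgroup G) (hsn : G₁.IsSubnormal) (hne : ((S : Subgroup G) ⊓ G₁) ⊓ Subgroup.centralizer (((S : Subgroup G) ⊓ G₁ : Subgroup G) : Set G) ≠ ⊥) (hle : ((S : Subgroup G) ⊓ G₁) ⊓ Subgroup.centralizer (((S : Subgroup G) ⊓ G₁ : Subgroup G) : Set G) ≤ (S : Subgroup G) ⊓ Subgroup.centralizer ((S : Subgroup G) : Set G)) : Cfsg.IsOfParabolicCharacteristic p ↥G₁ := by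
  intro R hR hne' hpar
  obtain ⟨T₁, hT₁⟩ := hpar
  exact (Cfsg.Agent.Lib.helper54.charPIn_iff _).mp (main hG S G₁ hsn hle R hR hne' T₁ hT₁)

end Cfsg.Agent.S3023
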