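import Mathlib
import Cfsg.Statements.S3025
import Cfsg.Agent.Lib.helper53.Conj
import Cfsg.Agent.S0016

set_option autoImplicit false
open Cfsg

namespace Cfsg.Agent.S3025

/-- Let F be a finite group and H a nontrivial subgroup of F that is contained in every nontrivial subgroup of F which H normalizes. Then F has a nontrivial normal subgroup N contained in every nontrivial normal subgroup of F (a unique minimal normal subgroup), N is simple, and one of the following holds: C_F(N) = 1; or H = N has prime order p, C_F(N) is cyclic of order a power of p, and F/C_F(N) is cyclic of order dividing p − 1; or H = N has order 2, N is central in F, and F is a generalized quaternion group. -/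
theorem result {F : Type*} [Group F] [Finite F] (H : Subgroup F) (hH : H ≠ ⊥)
    (hmin : ∀ R : Subgroup F, R ≠ ⊥ → H ≤ Subgroup.normalizer (R : Set F) → H ≤ R) :
    ∃ N : Subgroup F, N.Normal ∧ N ≠ ⊥ ∧ (∀ M : Subgroup F, M.Normal → M ≠ ⊥ → N ≤ M) ∧ IsSimpleGroup ↥N ∧
      (Subgroup.centralizer (N : Set F) = ⊥ ∨
       (H = N ∧ (Nat.card N).Prime ∧ IsCyclic ↥(Subgroup.centralizer (N : Set F)) ∧
          (∃ k : ℕ, 1 ≤ k ∧ Nat.card ↥(Subgroup.centralizer (N : Set F)) = Nat.card N ^ k) ∧
          (∃ g : F, Subgroup.centralizer (N : Set F) ⊔ Subgroup.zpowers g = ⊤) ∧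
          (Subgroup.centralizer (N : Set F)).index ∣ Nat.card N - 1) ∨
       (H = N ∧ Nat.card N = 2 ∧ Subgroup.centralizer (N : Set F) = ⊤ ∧
          ∃ k : ℕ, 1 ≤ k ∧ Nonempty (F ≃* QuaternionGroup (2 ^ k)))) := by
  classical
  have hminconj : ∀ (R : Subgroup F), R ≠ ⊥ → ∀ g : F,
      (∀ h ∈ H, g * h * g⁻¹ ∈ Subgroup.normalizer (R : Set F)) → ∀ h ∈ H, g * h * g⁻¹ ∈ R := by
    intro R hR g hN h hh
    have h1 : H ≤ Subgroup.normalizer
        ((R.map (MulAut.conj g⁻¹).toMonoidHom : Subgroup F) : Set F) := by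
      intro h' hh'
      rw [Lib.helper53.normalizer_conj, Lib.helper53.mem_conj_iff]
      simpa using hN h' hh'
    have h2 := hmin _ (Lib.helper53.conj_ne_bot hR _) h1 hh
    rw [Lib.helper53.mem_conj_iff] at h2
    simpa using h2
  set N : Subgroup F := Subgroup.normalClosure (H : Set F) with hN
  have hNn : N.Normal := Subgroup.normalClosure_normal
  have hHN : H ≤ N := Subgroup.le_normalClosure
  have hN1 : N ≠ ⊥ := fun h => hH (eq_bot_iff.mpr (h ▸ hHN))
  have hNmin : ∀ M : Subgroup F, M.Normal → M ≠ ⊥ → N ≤ M := by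
    intro M hM hM1
    have h1 : H ≤ M := hmin M hM1 (by rw [Subgroup.normalizer_eq_top]; exact le_top)
    exact Subgroup.normalClosure_le_normal h1
  -- any subgroup containing all conjugates of H contains N
  have hNle : ∀ R : Subgroup F, (∀ g : F, ∀ h ∈ H, g * h * g⁻¹ ∈ R) → N ≤ R := by
    intro R hR
    rw [hN, Subgroup.normalClosure, Subgroup.closure_le]
    intro a ha
    obtain ⟨h, hh, hconj⟩ := Group.mem_conjugatesOfSet_iff.mp ha
    obtain ⟨c, rfl⟩ := isConj_iff.mp hconj
    exact hR c h hh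
  have hsimple : IsSimpleGroup ↥N := by
    haveI : Nontrivial ↥N := (Subgroup.nontrivial_iff_ne_bot N).mpr hN1
    refine ⟨fun K hK => ?_⟩
    by_cases hK1 : K = ⊥
    · exact Or.inl hK1
    right
    have hR1 : K.map N.subtype ≠ ⊥ := by
      intro h
      exact hK1 ((Subgroup.map_eq_bot_iff_of_injective _ N.subtype_injective).mp h)
    have hNR : N ≤ Subgroup.normalizer ((K.map N.subtype : Subgroup F) : Set F) := by
      intro n hn
      rw [Subgroup.mem_normalizer_iff]
      intro y
      constructor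
      · rintro ⟨k, hk, rfl⟩
        exact ⟨⟨n, hn⟩ * k * ⟨n, hn⟩⁻¹, hK.conj_mem k hk ⟨n, hn⟩, rfl⟩
      · rintro ⟨k, hk, hk2⟩
        refine ⟨⟨n, hn⟩⁻¹ * k * ⟨n, hn⟩, ?_, ?_⟩
        · have h3 := hK.conj_mem k hk ⟨n, hn⟩⁻¹
          simpa using h3
        · have hk3 : (k : F) = n * y * n⁻¹ := hk2
          show n⁻¹ * (k : F) * n = y
          rw [hk3]; group
    have h1 : N ≤ K.map N.subtype := by
      apply hNle
      intro g h hh
      apply hminconj _ hR1 g _ h hh
      intro h' hh'
      exact hNR (hNn.conj_mem h' (hHN hh') g)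
    rw [eq_top_iff]
    intro x _
    obtain ⟨k, hk, hk2⟩ := h1 x.2
    have : k = x := Subtype.ext hk2
    rw [← this]; exact hk
  refine ⟨N, hNn, hN1, hNmin, hsimple, ?_⟩
  set C : Subgroup F := Subgroup.centralizer (N : Set F) with hC
  by_cases hC1 : C = ⊥
  · exact Or.inl hC1
  right
  have hCn : C.Normal := inferInstance
  have hNC : N ≤ C := hNmin C hCn hC1
  have hNcomm : ∀ a b : ↥N, a * b = b * a := by
    intro a b
    apply Subtype.ext
    have h1 := hNC a.2
    exact (Subgroup.mem_centralizer_iff.mp h1 b b.2).symm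
  have hprime : (Nat.card N).Prime := by
    letI : CommGroup ↥N := { (inferInstance : Group ↥N) with mul_comm := hNcomm }
    haveI : IsSimpleGroup ↥N := hsimple
    exact IsSimpleGroup.prime_card
  have hHeq : H = N := by
    apply Subgroup.eq_of_le_of_card_ge hHN
    have h1 : Nat.card H ∣ Nat.card N := Subgroup.card_dvd_of_le hHN
    rcases (Nat.dvd_prime hprime).mp h1 with h | h
    · exact absurd (Subgroup.card_eq_one.mp h) hH
    · rw [h]
  have hCsub : ∀ R : Subgroup F, R ≤ C → R ≠ ⊥ → N ≤ R := by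
    intro R hRC hR1
    have h1 : H ≤ R := by
      apply hmin R hR1
      refine le_trans ?_ (Subgroup.centralizer_le_normalizer _)
      rw [hHeq]
      exact Subgroup.le_centralizer_iff.mp hRC
    rw [← hHeq]; exact h1
  have hCcard : ∃ n : ℕ, Nat.card C = Nat.card N ^ n := by
    refine ⟨_, Nat.eq_prime_pow_of_unique_prime_dvd Nat.card_pos.ne' ?_⟩
    intro q hq hqd
    haveI : Fact q.Prime := ⟨hq⟩
    obtain ⟨x, hx⟩ := exists_prime_orderOf_dvd_card' q hqd
    have h3 : orderOf (x : F) = q := by rw [Subgroup.orderOf_coe]; exact hx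
    have h1 : N ≤ Subgroup.zpowers (x : F) := by
      apply hCsub
      · rw [Subgroup.zpowers_le]; exact x.2
      · intro h
        have h2 : (x : F) ∈ Subgroup.zpowers (x : F) := Subgroup.mem_zpowers _
        rw [h, Subgroup.mem_bot] at h2
        rw [h2, orderOf_one] at h3
        exact hq.one_lt.ne h3
    have h2 : Nat.card N ∣ q := by
      have h4 := Subgroup.card_dvd_of_le h1
      rwa [Nat.card_zpowers, h3] at h4
    exact ((Nat.prime_dvd_prime_iff_eq hprime hq).mp h2).symm
  obtain ⟨n, hn⟩ := hCcard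
  haveI : Fact (Nat.card N).Prime := ⟨hprime⟩
  have hCp : IsPGroup (Nat.card N) ↥C := IsPGroup.of_card hn
  have huniq : ∀ A B : Subgroup ↥C, Nat.card A = Nat.card N → Nat.card B = Nat.card N →
      A = B := by
    have key : ∀ A : Subgroup ↥C, Nat.card A = Nat.card N → A.map C.subtype = N := by
      intro A hA
      symm
      apply Subgroup.eq_of_le_of_card_ge
      · apply hCsub _ (Subgroup.map_subtype_le A)
        intro h
        have h2 : A = ⊥ := (Subgroup.map_eq_bot_iff_of_injective _ C.subtype_injective).mp h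
        rw [h2, Subgroup.card_bot] at hA
        exact hprime.one_lt.ne hA
      · rw [Subgroup.card_map_of_injective C.subtype_injective, hA]
    intro A B hA hB
    apply Subgroup.map_injective C.subtype_injective
    rw [key A hA, key B hB]
  have h16 := Cfsg.Agent.S0016.result (Nat.card N) hCp huniq
  haveI hNcyc : IsCyclic ↥N := isCyclic_of_prime_card (p := Nat.card N) rfl
  let φ : F →* MulAut ↥N := MulAut.conjNormal
  have hker : φ.ker = C := by
    ext g
    rw [MonoidHom.mem_ker, hC, Subgroup.mem_centralizer_iff]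
    constructor
    · intro h x hx
      have h1 := congrArg (fun e : MulAut ↥N => ((e ⟨x, hx⟩ : ↥N) : F)) h
      simp only [MulAut.one_apply] at h1
      have h2 : ((φ g ⟨x, hx⟩ : ↥N) : F) = g * x * g⁻¹ := MulAut.conjNormal_apply g ⟨x, hx⟩
      rw [h2] at h1
      rw [mul_inv_eq_iff_eq_mul] at h1; exact h1.symm
    · intro h
      ext x
      have h2 : ((φ g x : ↥N) : F) = g * x * g⁻¹ := MulAut.conjNormal_apply g x
      rw [h2, MulAut.one_apply]
      rw [mul_inv_eq_iff_eq_mul]; exact (h x x.2).symm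
  have hidx : C.index ∣ Nat.card N - 1 := by
    rw [← hker, Subgroup.index_ker]
    have h1 : Nat.card φ.range ∣ Nat.card (MulAut ↥N) := Subgroup.card_subgroup_dvd_card _
    rw [IsCyclic.card_mulAut, Nat.totient_prime hprime] at h1
    exact h1
  have hgen : ∃ g : F, C ⊔ Subgroup.zpowers g = ⊤ := by
    haveI : IsCyclic (MulAut ↥N) :=
      (MulEquiv.isCyclic (IsCyclic.mulAutMulEquiv ↥N)).mpr inferInstance
    obtain ⟨⟨a, g, rfl⟩, hg⟩ := IsCyclic.exists_generator (α := ↥φ.range)
    refine ⟨g, ?_⟩
    rw [eq_top_iff]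
    intro f _
    obtain ⟨k, hk⟩ := Subgroup.mem_zpowers_iff.mp (hg ⟨φ f, f, rfl⟩)
    have hk' : φ g ^ k = φ f := by
      have h1 := congrArg Subtype.val hk
      simpa using h1
    have h1 : f * (g ^ k)⁻¹ ∈ C := by
      rw [← hker, MonoidHom.mem_ker, map_mul, map_inv, map_zpow, hk', mul_inv_cancel]
    have h2 : f = (f * (g ^ k)⁻¹) * g ^ k := by group
    rw [h2]
    exact Subgroup.mul_mem_sup h1 (Subgroup.zpow_mem_zpowers g k)
  by_cases hcyc : IsCyclic ↥C
  · left
    refine ⟨hHeq, hprime, hcyc, ⟨n, ?_, hn⟩, hgen, hidx⟩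
    rcases Nat.eq_zero_or_pos n with h0 | h0
    · exfalso
      rw [h0, pow_zero] at hn
      exact hC1 (Subgroup.card_eq_one.mp hn)
    · exact h0
  · right
    rcases h16 with h | ⟨hp2, m, ⟨e⟩⟩
    · exact absurd h hcyc
    · have hCtop : C = ⊤ := by
        rw [← Subgroup.index_eq_one]
        rw [hp2] at hidx
        exact Nat.dvd_one.mp hidx
      refine ⟨hHeq, hp2, hCtop, m, ?_, ⟨?_⟩⟩
      · rcases Nat.eq_zero_or_pos m with h0 | h0
        · exfalso
          apply hcyc
          subst h0
          exact (MulEquiv.isCyclic e).mpr QuaternionGroup.quaternionGroup_one_isCyclic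
        · exact h0
      · exact ((MulEquiv.subgroupCongr hCtop).trans Subgroup.topEquiv).symm.trans e

end Cfsg.Agent.S3025
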