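import Mathlib
import Cfsg.Statements.S3027

set_option autoImplicit false
open Cfsg

namespace Cfsg.Agent.S3027

universe u

/-- `H ⊔ D = ⊤` iff the image of `H` in `G ⧸ D` is everything. -/
theorem sup_eq_top_iff_map {G : Type u} [Group G] (D : Subgroup G) [D.Normal] (H : Subgroup G) :
    H ⊔ D = ⊤ ↔ H.map (QuotientGroup.mk' D) = ⊤ := by
  constructor
  · intro h
    have h1 : (H ⊔ D).map (QuotientGroup.mk' D) = ⊤ := by
      rw [h]
      exact Subgroup.map_top_of_surjective _ (QuotientGroup.mk'_surjective D)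
    rw [Subgroup.map_sup] at h1
    have h2 : D.map (QuotientGroup.mk' D) = ⊥ := by
      rw [eq_bot_iff]
      rintro _ ⟨d, hd, rfl⟩
      simpa using hd
    rwa [h2, sup_bot_eq] at h1
  · intro h
    have h1 := Subgroup.comap_map_eq (QuotientGroup.mk' D) H
    rw [h, QuotientGroup.ker_mk'] at h1
    rw [← h1]
    simp

/-- Supplements of `D` are closed under commutators when `G / D` is perfect. -/
theorem commutator_sup {G : Type u} [Group G] (D : Subgroup G) [D.Normal]
    (hperf : ⁅(⊤ : Subgroup G), (⊤ : Subgroup G)⁆ ⊔ D = ⊤) (H₁ H₂ : Subgroup G)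
    (h₁ : H₁ ⊔ D = ⊤) (h₂ : H₂ ⊔ D = ⊤) : ⁅H₁, H₂⁆ ⊔ D = ⊤ := by
  rw [sup_eq_top_iff_map] at *
  rw [Subgroup.map_commutator, h₁, h₂]
  rw [Subgroup.map_commutator] at hperf
  rw [Subgroup.map_top_of_surjective _ (QuotientGroup.mk'_surjective D)] at hperf
  exact hperf

theorem mem_mul_of_sup {G : Type u} [Group G] (D : Subgroup G) [D.Normal] (H : Subgroup G)
    (h : H ⊔ D = ⊤) (x : G) : ∃ a ∈ H, ∃ d ∈ D, x = a * d := by
  have hx : x ∈ ((H ⊔ D : Subgroup G) : Set G) := by rw [h]; trivial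
  rw [Subgroup.mul_normal] at hx
  obtain ⟨a, ha, d, hd, rfl⟩ := hx
  exact ⟨a, ha, d, hd, rfl⟩

theorem main : ∀ (n : ℕ) (G : Type u) [Group G] [Finite G] (D : Subgroup G) [D.Normal],
    Nat.card G = n → ⁅(⊤ : Subgroup G), (⊤ : Subgroup G)⁆ ⊔ D = ⊤ →
    ∃ B : Subgroup G, B.Normal ∧ B ⊔ D = ⊤ ∧
      ∀ B' : Subgroup G, B'.IsSubnormal → B' ⊔ D = ⊤ → B ≤ B' := by
  intro n
  induction n using Nat.strong_induction_on with
  | _ n ih =>
  intro G _ _ D _ hn hperf
  -- a normal supplement of least cardinality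
  obtain ⟨B₀, ⟨hB₀n, hB₀s⟩, hmin⟩ := Set.exists_min_image
    {B : Subgroup G | B.Normal ∧ B ⊔ D = ⊤} (fun B => Nat.card B) (Set.toFinite _)
    ⟨⊤, inferInstance, top_sup_eq _⟩
  have hleast : ∀ B : Subgroup G, B.Normal → B ⊔ D = ⊤ → B₀ ≤ B := by
    intro B hBn hBs
    have h1 : (B₀ ⊓ B) ⊔ D = ⊤ := by
      have h2 := commutator_sup D hperf B₀ B hB₀s hBs
      have h3 : ⁅B₀, B⁆ ≤ B₀ ⊓ B := Subgroup.commutator_le_inf B₀ B
      exact top_unique (h2 ▸ sup_le_sup_right h3 D)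
    have h4 : (B₀ ⊓ B).Normal := inferInstance
    have h5 := hmin (B₀ ⊓ B) ⟨h4, h1⟩
    have h6 : B₀ ⊓ B = B₀ := Subgroup.eq_of_le_of_card_ge inf_le_left h5
    exact h6 ▸ inf_le_right
  refine ⟨B₀, hB₀n, hB₀s, ?_⟩
  intro B' hB'sn hB's
  by_cases htop : B' = ⊤
  · rw [htop]; exact le_top
  obtain ⟨N, hNn, hB'N, hNlt⟩ := hB'sn.exists_normal_and_le_and_lt_top_of_ne htop
  have hNs : N ⊔ D = ⊤ := top_unique (hB's ▸ sup_le_sup_right hB'N D)
  have hcard : Nat.card N < n := by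
    rw [← hn]
    exact lt_of_le_of_ne (Subgroup.card_le_card_group N)
      (fun h => hNlt.ne ((Subgroup.card_eq_iff_eq_top N).mp h))
  -- perfectness of N modulo D ∩ N
  have hNperf : ⁅(⊤ : Subgroup N), (⊤ : Subgroup N)⁆ ⊔ D.subgroupOf N = ⊤ := by
    have h1 := commutator_sup D hperf N N hNs hNs
    rw [eq_top_iff]
    intro x _
    obtain ⟨c, hc, d, hd, hx⟩ := mem_mul_of_sup D _ h1 (x : G)
    have hcN : c ∈ N := Subgroup.commutator_le_left N N hc
    have hdN : d ∈ N := by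
      have : d = c⁻¹ * x := by rw [hx]; group
      rw [this]
      exact N.mul_mem (N.inv_mem hcN) x.2
    have hc' : (⟨c, hcN⟩ : N) ∈ ⁅(⊤ : Subgroup N), (⊤ : Subgroup N)⁆ := by
      have h2 : ⁅N, N⁆ = (⁅(⊤ : Subgroup N), (⊤ : Subgroup N)⁆).map N.subtype := by
        rw [Subgroup.map_commutator, ← MonoidHom.range_eq_map, Subgroup.range_subtype]
      rw [h2] at hc
      obtain ⟨y, hy, hyc⟩ := hc
      have : y = ⟨c, hcN⟩ := Subtype.ext hyc
      rwa [← this]
    have hd' : (⟨d, hdN⟩ : N) ∈ D.subgroupOf N := by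
      rw [Subgroup.mem_subgroupOf]; exact hd
    have hx' : x = ⟨c, hcN⟩ * ⟨d, hdN⟩ := Subtype.ext hx
    rw [hx']
    exact Subgroup.mul_mem_sup hc' hd'
  obtain ⟨BN, hBNn, hBNs, hBNleast⟩ := ih (Nat.card N) hcard N (D.subgroupOf N) rfl hNperf
  -- B' ∩ N is a subnormal supplement in N
  have h1 : BN ≤ B'.subgroupOf N := by
    apply hBNleast _ hB'sn.subgroupOf
    rw [eq_top_iff]
    intro x _
    obtain ⟨b, hb, d, hd, hx⟩ := mem_mul_of_sup D _ hB's (x : G)
    have hbN : b ∈ N := hB'N hb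
    have hdN : d ∈ N := by
      have : d = b⁻¹ * x := by rw [hx]; group
      rw [this]
      exact N.mul_mem (N.inv_mem hbN) x.2
    have hx' : x = ⟨b, hbN⟩ * ⟨d, hdN⟩ := Subtype.ext hx
    rw [hx']
    exact Subgroup.mul_mem_sup (by rw [Subgroup.mem_subgroupOf]; exact hb)
      (by rw [Subgroup.mem_subgroupOf]; exact hd)
  -- the image of BN in G is normal
  have h2 : ∀ g : G, BN ≤ BN.map (MulAut.conjNormal g : N ≃* N).toMonoidHom := by
    intro g
    apply hBNleast
    · exact (hBNn.map _ (MulEquiv.surjective _)).isSubnormal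
    · rw [eq_top_iff]
      intro x _
      set φ : N ≃* N := MulAut.conjNormal g with hφ
      have hx0 : φ.symm x ∈ (BN ⊔ D.subgroupOf N : Subgroup N) := by rw [hBNs]; trivial
      rw [← SetLike.mem_coe, Subgroup.mul_normal] at hx0
      obtain ⟨b, hb, d, hd, hx⟩ := hx0
      have hx' : x = φ b * φ d := by
        rw [← map_mul]
        have hx2 : b * d = φ.symm x := hx
        rw [hx2]; simp
      rw [hx']
      apply Subgroup.mul_mem_sup
      · exact ⟨b, hb, rfl⟩
      · rw [Subgroup.mem_subgroupOf]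
        rw [SetLike.mem_coe, Subgroup.mem_subgroupOf] at hd
        rw [hφ, MulAut.conjNormal_apply]
        exact (inferInstance : D.Normal).conj_mem _ hd g
  have h3 : (BN.map N.subtype).Normal := by
    constructor
    rintro _ ⟨b, hb, rfl⟩ g
    obtain ⟨b', hb', hbb'⟩ := h2 g⁻¹ hb
    have h4 : (b : G) = g⁻¹ * b' * g := by
      have := congrArg (Subtype.val) hbb'
      simp at this
      rw [← this]
    refine ⟨b', hb', ?_⟩
    simp only [Subgroup.coe_subtype]
    rw [h4]; group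
  have h4 : BN.map N.subtype ⊔ D = ⊤ := by
    apply top_unique
    rw [← hNs]
    apply sup_le _ le_sup_right
    intro x hx
    have hx0 : (⟨x, hx⟩ : N) ∈ (BN ⊔ D.subgroupOf N : Subgroup N) := by rw [hBNs]; trivial
    rw [← SetLike.mem_coe, Subgroup.mul_normal] at hx0
    obtain ⟨b, hb, d, hd, hbd⟩ := hx0
    have hx' : x = (b : G) * (d : G) := by
      have := congrArg Subtype.val hbd
      simpa using this.symm
    rw [hx']
    apply Subgroup.mul_mem_sup
    · exact ⟨b, hb, rfl⟩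
    · rw [SetLike.mem_coe, Subgroup.mem_subgroupOf] at hd
      exact hd
  have h5 : B₀ ≤ BN.map N.subtype := hleast _ h3 h4
  refine h5.trans ?_
  rintro _ ⟨b, hb, rfl⟩
  have := h1 hb
  rw [Subgroup.mem_subgroupOf] at this
  exact this

/-- Let G be a finite group and D a normal subgroup of G such that G/D is perfect (that is, G = G′D). Then among the subnormal subgroups B of G with BD = G there is a least one, and it is normal in G. -/
theorem result {G : Type*} [Group G] [Finite G] (D : Subgroup G) [D.Normal] (hperf : ⁅(⊤ : Subgroup G), (⊤ : Subgroup G)⁆ ⊔ D = ⊤) :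
    ∃ B : Subgroup G, B.Normal ∧ B ⊔ D = ⊤ ∧ ∀ B' : Subgroup G, B'.IsSubnormal → B' ⊔ D = ⊤ → B ≤ B' := by
  exact main (Nat.card G) G D rfl hperf

end Cfsg.Agent.S3027
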