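import Cfsg.Statements.S3035
import Cfsg.Agent.Lib.helper1.CentD8
import Cfsg.Agent.Lib.helper11.D8Iso
import Cfsg.Agent.Lib.helper6.SLCard
import Cfsg.Agent.S0249
import Cfsg.Agent.S0495

set_option autoImplicit false
open Cfsg

namespace Cfsg.Agent.S3035

open Cfsg.Agent.Lib.helper1.CentD8 Cfsg.Agent.Lib.helper11.D8Cent
  Cfsg.Agent.Lib.helper11.FourCent

/-- `SL₃(2)` is isomorphic to `PSL₂(F)` for every field `F` with `7` elements. -/
theorem sl32_equiv_psl27 {F : Type} [Field F] [Fintype F] (hF : Fintype.card F = 7) :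
    Nonempty (Matrix.ProjectiveSpecialLinearGroup (Fin 2) F ≃*
      Matrix.SpecialLinearGroup (Fin 3) (ZMod 2)) := by
  have : IsSimpleGroup (Matrix.ProjectiveSpecialLinearGroup (Fin 3) (ZMod 2)) :=
    Cfsg.Agent.S0249.result 3 le_rfl
  have hcard : Nat.card (Matrix.ProjectiveSpecialLinearGroup (Fin 3) (ZMod 2)) = 168 := by
    have h1 := Cfsg.Agent.Lib.helper6.card_PSL (F := ZMod 2) 3 (by norm_num)
    rw [ZMod.card, Fin.prod_univ_three] at h1
    norm_num at h1
    simpa using h1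
  obtain ⟨e1⟩ := Cfsg.Agent.S0495.result
    (G := Matrix.ProjectiveSpecialLinearGroup (Fin 3) (ZMod 2)) hcard hF
  have hcen : Subgroup.center (Matrix.SpecialLinearGroup (Fin 3) (ZMod 2)) = ⊥ := by
    apply Subgroup.eq_bot_of_card_eq
    have h1 := Cfsg.Agent.Lib.helper6.card_center_SL (F := ZMod 2) 3 (by norm_num)
    rw [ZMod.card] at h1
    simpa using h1
  have e2 : Matrix.ProjectiveSpecialLinearGroup (Fin 3) (ZMod 2) ≃*
      Matrix.SpecialLinearGroup (Fin 3) (ZMod 2) :=
    (QuotientGroup.quotientMulEquivOfEq hcen).trans QuotientGroup.quotientBot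
  exact ⟨e1.symm.trans e2⟩

/-- Let G be a finite group with an involution z whose centralizer is dihedral of order 8. Then G = C_G(z) O(G) with O(G) the largest normal subgroup of odd order, or G is isomorphic to the symmetric group of degree 4, the symmetric group of degree 5, the group SL₃(2), or the alternating group of degree 6. -/
theorem result {G : Type*} [Group G] [Finite G] (z : G) (hz : orderOf z = 2)
    (hC : Nonempty (↥(Subgroup.centralizer ({z} : Set G)) ≃* DihedralGroup 4)) :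
    Subgroup.centralizer ({z} : Set G) ⊔ Cfsg.oddCore G = ⊤ ∨ Nonempty (G ≃* Equiv.Perm (Fin 4)) ∨ Nonempty (G ≃* Equiv.Perm (Fin 5)) ∨
      Nonempty (G ≃* Matrix.SpecialLinearGroup (Fin 3) (ZMod 2)) ∨ Nonempty (G ≃* ↥(alternatingGroup (Fin 6))) := by
  obtain ⟨e⟩ := hC
  have h := D8Cent.of_equiv hz e
  rcases h.main with hidx | ⟨O, hOn, hOc, hO⟩ | h4 | h5
  · obtain ⟨S, hS⟩ := h.exists_sylow
    have hψ : DC z ((Subgroup.centralizer ({z} : Set G)).subtype.comp e.symm.toMonoidHom) := by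
      refine ⟨fun d d' hd => e.symm.injective (Subtype.ext hd), ?_, ?_⟩
      · intro x hx
        refine ⟨e ⟨x, mem_cent.mpr hx⟩, ?_⟩
        simp
      · have h1 := equiv_z_eq hz e
        rw [← h1]
        simp
    have hconj := hψ.conj_of_transfer hidx S (by
      intro s hs
      rw [hS] at hs
      exact mem_cent.mp hs)
    rcases D8H.classify ⟨hψ, hconj⟩ with hA6 | ⟨F, _, _, hF, ⟨eF⟩⟩
    · exact Or.inr (Or.inr (Or.inr (Or.inr hA6)))
    · obtain ⟨e2⟩ := sl32_equiv_psl27 hF
      exact Or.inr (Or.inr (Or.inr (Or.inl ⟨eF.trans e2⟩)))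
  · left
    have hle : O ≤ Cfsg.oddCore G := le_sSup ⟨hOn, hOc⟩
    exact eq_top_iff.mpr (hO ▸ sup_le_sup_left hle _)
  · exact Or.inr (Or.inl h4)
  · exact Or.inr (Or.inr (Or.inl h5))

end Cfsg.Agent.S3035
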