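import Mathlib
import Cfsg.Statements.S3045
import Cfsg.Agent.Lib.helper56.IsoPMin
import Cfsg.Agent.Lib.helper52.McBride
import Cfsg.Agent.Lib.helper52.Subn
import Cfsg.Agent.Lib.helper53.PCore

set_option autoImplicit false
open Cfsg
open scoped commutatorElement

namespace Cfsg.Agent.S3045

/-- McBride generation inside a subgroup `H ⊇ S`. -/
theorem gen_le {G : Type*} [Group G] [Finite G] {p : ℕ} [Fact p.Prime] (S : Sylow p G)
    (H : Subgroup G) (hSH : (S : Subgroup G) ≤ H) :
    H ≤ Subgroup.normalizer ((S : Subgroup G) : Set G) ⊔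
      ⨆ P' : {P' : Subgroup G // (S : Subgroup G) ≤ P' ∧ IsPMinimal p ↥P' ∧ P' ≤ H},
        (P' : Subgroup G) := by
  have h1 := Cfsg.Agent.Lib.helper52.mcbride_aux p (Nat.card ↥H) ↥H rfl (S.subtype hSH)
  have key : ((((S.subtype hSH : Sylow p ↥H) : Subgroup ↥H) ⊔
      ⨆ P' : {P' : Subgroup ↥H // ((S.subtype hSH : Sylow p ↥H) : Subgroup ↥H) ≤ P' ∧
        IsPMinimal p ↥P'}, (P' : Subgroup ↥H)) ⊔
      Subgroup.normalizer (((S.subtype hSH : Sylow p ↥H) : Subgroup ↥H) : Set ↥H)).map H.subtype ≤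
      Subgroup.normalizer ((S : Subgroup G) : Set G) ⊔
      ⨆ P' : {P' : Subgroup G // (S : Subgroup G) ≤ P' ∧ IsPMinimal p ↥P' ∧ P' ≤ H},
        (P' : Subgroup G) := by
    rw [Subgroup.map_sup, Subgroup.map_sup, Subgroup.map_iSup]
    refine sup_le (sup_le ?_ ?_) ?_
    · refine le_trans ?_ (le_sup_of_le_left Subgroup.le_normalizer)
      rw [Sylow.coe_subtype]
      rintro _ ⟨x, hx, rfl⟩
      exact Subgroup.mem_subgroupOf.mp hx
    · apply iSup_le
      rintro ⟨P', hSP', hP'⟩
      refine le_trans ?_ le_sup_right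
      refine le_iSup (fun P : {P' : Subgroup G // (S : Subgroup G) ≤ P' ∧ IsPMinimal p ↥P' ∧
        P' ≤ H} => (P : Subgroup G)) ⟨P'.map H.subtype, ?_,
          Cfsg.Agent.Lib.helper52.isPMinimal_of_mulEquiv
            (P'.equivMapOfInjective H.subtype H.subtype_injective) hP',
          Subgroup.map_subtype_le P'⟩
      intro s hs
      exact ⟨⟨s, hSH hs⟩,
        hSP' (by rw [Sylow.coe_subtype]; exact Subgroup.mem_subgroupOf.mpr hs), rfl⟩
    · refine le_trans ?_ le_sup_left
      rw [Sylow.coe_subtype, ← Subgroup.subgroupOf_normalizer_eq hSH]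
      rintro _ ⟨x, hx, rfl⟩
      exact Subgroup.mem_subgroupOf.mp hx
  intro x hx
  apply key
  rw [h1]
  exact ⟨⟨x, hx⟩, Subgroup.mem_top _, rfl⟩

/-- Let G be a finite group, p a prime, S a Sylow p-subgroup of G and P a p-minimal subgroup of G containing S. Let L be the subgroup generated by N_G(S) and all p-minimal subgroups of G containing S other than P, and suppose O_p(L) is not contained in O_p(P). Put Y for the normal closure of O^p(P) in G. Then O^p(P) is contained in the preimage in G of F*(G/O_p(G)); and if Y is solvable, then Y = O^p(P) and Y/O_p(Y) is a t-group of nilpotency class at most 2 for some prime t ≠ p. -/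
theorem result {G : Type*} [Group G] [Finite G] {p : ℕ} [Fact p.Prime] (S : Sylow p G) (P : Subgroup G) (hSP : (S : Subgroup G) ≤ P) (hPmin : Cfsg.IsPMinimal p ↥P)
    (L Y : Subgroup G)
    (hL : L = Subgroup.normalizer ((S : Subgroup G) : Set G) ⊔ ⨆ P' : {P' : Subgroup G // (S : Subgroup G) ≤ P' ∧ Cfsg.IsPMinimal p ↥P' ∧ P' ≠ P}, (P' : Subgroup G))
    (hiso : ¬ (Cfsg.pCore p ↥L).map L.subtype ≤ (Cfsg.pCore p ↥P).map P.subtype)
    (hY : Y = Subgroup.normalClosure (((Cfsg.pResidual p ↥P).map P.subtype : Subgroup G) : Set G)) [hn : (Cfsg.pCore p G).Normal] :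
    (Cfsg.pResidual p ↥P).map P.subtype ≤ (Cfsg.generalizedFittingSubgroup (G ⧸ Cfsg.pCore p G)).comap (QuotientGroup.mk' (Cfsg.pCore p G)) ∧
    (Group.IsSolvable ↥Y → (Cfsg.pResidual p ↥P).map P.subtype = Y ∧
       ∃ _ : (Cfsg.pCore p ↥Y).Normal, ∃ t : ℕ, t.Prime ∧ t ≠ p ∧ IsPGroup t (↥Y ⧸ Cfsg.pCore p ↥Y) ∧
         ∃ _ : Group.IsNilpotent (↥Y ⧸ Cfsg.pCore p ↥Y), Group.nilpotencyClass (↥Y ⧸ Cfsg.pCore p ↥Y) ≤ 2) := by
  classical
  obtain ⟨R, hR⟩ : ∃ R : Subgroup G, R = (pResidual p ↥P).map P.subtype := ⟨_, rfl⟩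
  obtain ⟨QL, hQL⟩ : ∃ QL : Subgroup G, QL = (pCore p ↥L).map L.subtype := ⟨_, rfl⟩
  obtain ⟨QP, hQP⟩ : ∃ QP : Subgroup G, QP = (pCore p ↥P).map P.subtype := ⟨_, rfl⟩
  rw [← hR] at hY ⊢
  rw [← hQL, ← hQP] at hiso
  have hOp : IsPGroup p (pCore p G) := Sylow.sSup_of_normal _ (fun _ h => h.2) (fun _ h => h.1)
  have hOS : pCore p G ≤ S := hOp.le_sylow_of_normal S
  have hNL : Subgroup.normalizer ((S : Subgroup G) : Set G) ≤ L := by rw [hL]; exact le_sup_left
  have hSL : (S : Subgroup G) ≤ L := Subgroup.le_normalizer.trans hNL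
  have hP'L : ∀ P' : Subgroup G, (S : Subgroup G) ≤ P' → IsPMinimal p ↥P' → P' ≠ P → P' ≤ L := by
    intro P' h1 h2 h3
    rw [hL]
    exact le_trans (le_iSup (fun P'' : {P' : Subgroup G // (S : Subgroup G) ≤ P' ∧
      IsPMinimal p ↥P' ∧ P' ≠ P} => (P'' : Subgroup G)) ⟨P', h1, h2, h3⟩) le_sup_right
  have hF1b : ∀ H : Subgroup G, (S : Subgroup G) ≤ H → ¬ P ≤ H → H ≤ L := by
    intro H hSH hPH
    refine (gen_le S H hSH).trans (sup_le hNL (iSup_le ?_))
    rintro ⟨P', h1, h2, h3⟩
    exact hP'L P' h1 h2 (fun h => hPH (h ▸ h3))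
  have hF1a : (⊤ : Subgroup G) ≤ L ⊔ P := by
    refine (gen_le S ⊤ le_top).trans (sup_le (hNL.trans le_sup_left) (iSup_le ?_))
    rintro ⟨P', h1, h2, h3⟩
    show P' ≤ L ⊔ P
    by_cases h : P' = P
    · rw [h]; exact le_sup_right
    · exact (hP'L P' h1 h2 h).trans le_sup_left
  have hQLS : QL ≤ S := by
    have h1 : pCore p ↥L ≤ (S.subtype hSL : Sylow p ↥L) := by
      haveI : (pCore p ↥L).Normal := Subgroup.sSup_normal _ (fun _ h => h.1)
      have hLp : IsPGroup p (pCore p ↥L) :=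
        Sylow.sSup_of_normal _ (fun _ h => h.2) (fun _ h => h.1)
      exact hLp.le_sylow_of_normal _
    rw [hQL]
    rintro _ ⟨x, hx, rfl⟩
    have := h1 hx
    rw [Sylow.coe_subtype] at this
    exact Subgroup.mem_subgroupOf.mp this
  have hLQL : L ≤ Subgroup.normalizer (QL : Set G) := by
    rw [hQL]
    haveI : (pCore p ↥L).Normal := Subgroup.sSup_normal _ (fun _ h => h.1)
    exact Cfsg.Agent.Lib.helper52.le_normalizer_map_subtype L (pCore p ↥L)
  obtain ⟨Q1, hQ1⟩ : ∃ Q1 : Subgroup G, Q1 = QL ⊔ pCore p G := ⟨_, rfl⟩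
  have hQ1S : Q1 ≤ S := by rw [hQ1]; exact sup_le hQLS hOS
  have hQ1p : IsPGroup p Q1 := S.isPGroup'.to_le hQ1S
  have hLQ1 : L ≤ Subgroup.normalizer (Q1 : Set G) := by
    rw [hQ1]
    exact Cfsg.Agent.Lib.helper52.le_normalizer_sup hLQL
      (by rw [Subgroup.normalizer_eq_top_iff.mpr hn]; exact le_top)
  have hRP : R ≤ P := by rw [hR]; exact Cfsg.Agent.Lib.helper52.map_pResidual_subtype_le p P
  have hPR : P ≤ Subgroup.normalizer (R : Set G) := by
    rw [hR]
    haveI := Cfsg.Agent.Lib.helper53.pResidual_normal p ↥P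
    exact Cfsg.Agent.Lib.helper52.le_normalizer_map_subtype P (pResidual p ↥P)
  have hRS : R ⊔ (S : Subgroup G) = P := by
    have h1 := Cfsg.Agent.Lib.helper53.pResidual_sup_sylow (S.subtype hSP)
    have h2 := congrArg (fun X : Subgroup ↥P => X.map P.subtype) h1
    simp only [Subgroup.map_sup] at h2
    rw [← MonoidHom.range_eq_map, Subgroup.range_subtype, Sylow.coe_subtype,
      Subgroup.map_subgroupOf_eq_of_le hSP] at h2
    rw [hR]; exact h2
  have hPQ1 : ¬ P ≤ Subgroup.normalizer (Q1 : Set G) := by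
    intro h
    apply hiso
    have h1 := Cfsg.Agent.Lib.helper27.le_map_pCore_of_normal (hQ1S.trans hSP) h hQ1p
    rw [hQP]
    exact (by rw [hQ1]; exact le_sup_left : QL ≤ Q1).trans h1
  have hdichG : ∀ K : Subgroup G, (S : Subgroup G) ≤ K →
      P ≤ K ∨ K ≤ Subgroup.normalizer (Q1 : Set G) := by
    intro K hSK
    by_cases h : P ≤ K
    · exact Or.inl h
    · exact Or.inr ((hF1b K hSK h).trans hLQ1)
  have hgenG : R ⊔ Subgroup.normalizer (Q1 : Set G) = ⊤ := by
    rw [eq_top_iff]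
    refine hF1a.trans (sup_le (hLQ1.trans le_sup_right) ?_)
    rw [← hRS]
    exact sup_le le_sup_left ((hSL.trans hLQ1).trans le_sup_right)
  -- the quotient
  obtain ⟨π, hπ⟩ : ∃ π : G →* G ⧸ pCore p G, π = QuotientGroup.mk' (pCore p G) := ⟨_, rfl⟩
  have hπs : Function.Surjective π := by rw [hπ]; exact QuotientGroup.mk'_surjective _
  have hker : π.ker = pCore p G := by rw [hπ]; exact QuotientGroup.ker_mk' _
  have hO : pCore p (G ⧸ pCore p G) = ⊥ := by
    rw [eq_bot_iff]
    have h1 : IsPGroup p (pCore p (G ⧸ pCore p G)) :=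
      Sylow.sSup_of_normal _ (fun _ h => h.2) (fun _ h => h.1)
    have h2 : (pCore p (G ⧸ pCore p G)).Normal := Subgroup.sSup_normal _ (fun _ h => h.1)
    have h3 : IsPGroup p ((pCore p (G ⧸ pCore p G)).comap π) :=
      h1.comap_of_ker_isPGroup π (by rw [hker]; exact hOp)
    have h4 : (pCore p (G ⧸ pCore p G)).comap π ≤ pCore p G := le_sSup ⟨h2.comap π, h3⟩
    intro x hx
    obtain ⟨g, rfl⟩ := hπs x
    have hg : g ∈ π.ker := by rw [hker]; exact h4 hx
    exact hg
  have hmain := Cfsg.Agent.Lib.helper56.iso_main (G := G ⧸ pCore p G) (p := p)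
    (S := (S : Subgroup G).map π) (Q := Q1.map π) (R := R.map π) hO
    (S.isPGroup'.map π) (hQ1p.map π) (Subgroup.map_mono hQ1S)
    ((Subgroup.map_mono (hSP.trans hPR)).trans (Subgroup.le_normalizer_map π))
    (by
      intro Nb hNb hle
      have hle2 : R.map π ≤ (Nb.comap π ⊔ (S : Subgroup G)).map π := by
        rw [Subgroup.map_sup, Subgroup.map_comap_eq_self_of_surjective hπs]; exact hle
      have hle3 := Subgroup.map_le_map_iff.mp hle2
      have hkerN : π.ker ≤ Nb.comap π := MonoidHom.ker_le_comap π Nb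
      have hle' : R ≤ (S : Subgroup G) ⊔ Nb.comap π :=
        hle3.trans (sup_le (sup_le le_sup_right le_sup_left) (hkerN.trans le_sup_right))
      have hRle : R ≤ Nb.comap π := by
        rw [hR, Cfsg.Agent.Lib.helper52.map_pResidual_subtype, Subgroup.closure_le]
        rintro g ⟨hgP, hgc⟩
        have hgR : g ∈ R := by
          rw [hR, Cfsg.Agent.Lib.helper52.map_pResidual_subtype]
          exact Subgroup.subset_closure ⟨hgP, hgc⟩
        exact Cfsg.Agent.Lib.helper52.mem_of_mem_sup_of_coprime_of_le_normalizer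
          (Y := (S : Subgroup G)) (B := Nb.comap π)
          (by rw [Subgroup.normalizer_eq_top_iff.mpr (hNb.comap π)]; exact le_top)
          S.isPGroup' (hle' hgR) hgc
      rw [← Subgroup.map_comap_eq_self_of_surjective hπs Nb]
      exact Subgroup.map_mono hRle)
    (by
      intro Kb hSK
      have hSK' : (S : Subgroup G) ≤ Kb.comap π := Subgroup.map_le_iff_le_comap.mp hSK
      rcases hdichG _ hSK' with h | h
      · left
        exact Subgroup.map_le_iff_le_comap.mpr (hRP.trans h)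
      · right
        rw [← Subgroup.map_comap_eq_self_of_surjective hπs Kb]
        exact (Subgroup.map_mono h).trans (Subgroup.le_normalizer_map π))
    (by
      intro h
      apply hPQ1
      have h1 : R ≤ (Subgroup.normalizer ((Q1.map π : Subgroup _) : Set _)).comap π :=
        Subgroup.map_le_iff_le_comap.mp h
      rw [Subgroup.comap_normalizer_eq_of_surjective _ hπs, Subgroup.comap_map_eq, hker] at h1
      have h2 : Q1 ⊔ pCore p G = Q1 := by rw [hQ1, sup_assoc, sup_idem]
      rw [h2] at h1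
      rw [← hRS]
      exact sup_le h1 (hSL.trans hLQ1))
    (by
      rw [eq_top_iff]
      have h1 : (⊤ : Subgroup (G ⧸ pCore p G)) =
          (R ⊔ Subgroup.normalizer (Q1 : Set G)).map π := by
        rw [hgenG, Subgroup.map_top_of_surjective π hπs]
      rw [h1, Subgroup.map_sup]
      exact sup_le_sup le_rfl (Subgroup.le_normalizer_map π))
  obtain ⟨hA, hB⟩ := hmain
  have hYmap : Subgroup.normalClosure ((R.map π : Subgroup _) : Set _) = Y.map π := by
    rw [hY, Subgroup.map_normalClosure _ π hπs, Subgroup.coe_map]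
  rw [hYmap] at hA hB
  have hRY : R ≤ Y := by rw [hY]; exact Subgroup.le_normalClosure
  refine ⟨?_, ?_⟩
  · rw [← hπ]
    exact Subgroup.map_le_iff_le_comap.mp ((Subgroup.map_mono hRY).trans hA)
  · intro hsol
    have hsol' : Group.IsSolvable ↥(Y.map π) := by
      haveI := hsol
      exact Group.isSolvable_of_surjective (MonoidHom.subgroupMap_surjective π Y)
    obtain ⟨hYR, t, ht, htp, hYt, hcl⟩ := hB hsol'
    have hYP : Y ≤ P := by
      have h1 : Y ≤ R ⊔ π.ker := Subgroup.map_le_map_iff.mp hYR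
      rw [hker] at h1
      exact h1.trans (sup_le hRP (hOS.trans hSP))
    haveI hYn : Y.Normal := by rw [hY]; exact Subgroup.normalClosure_normal
    have hYleR : Y ≤ R := by
      have hRcl : R = Subgroup.closure {g : G | g ∈ P ∧ (orderOf g).Coprime p} := by
        rw [hR]; exact Cfsg.Agent.Lib.helper52.map_pResidual_subtype p P
      have h1 : Y = Subgroup.normalClosure {g : G | g ∈ P ∧ (orderOf g).Coprime p} := by
        rw [hY, hRcl, Subgroup.normalClosure_closure_eq_normalClosure]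
      have h2 : Group.conjugatesOfSet {g : G | g ∈ P ∧ (orderOf g).Coprime p} ⊆ (R : Set G) := by
        intro c hc
        have hcY : c ∈ Y := by
          rw [h1]; exact Subgroup.conjugatesOfSet_subset_normalClosure hc
        rw [Group.mem_conjugatesOfSet_iff] at hc
        obtain ⟨g, ⟨hgP, hgc⟩, hconj⟩ := hc
        obtain ⟨x, rfl⟩ := isConj_iff.mp hconj
        have hord : orderOf (x * g * x⁻¹) = orderOf g := by
          rw [← MulAut.conj_apply]; exact MulEquiv.orderOf_eq _ _
        rw [hRcl]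
        exact Subgroup.subset_closure ⟨hYP hcY, by rw [hord]; exact hgc⟩
      rw [h1]
      exact (Subgroup.closure_le R).mpr h2
    refine ⟨le_antisymm hRY hYleR, ?_⟩
    have hcoreY : pCore p ↥Y = (pCore p G).subgroupOf Y :=
      Cfsg.Agent.Lib.helper53.pCore_subgroupOf_normal p Y
    have hmemcore : ∀ y : ↥Y, y ∈ pCore p ↥Y ↔ π (y : G) = 1 := by
      intro y
      rw [hcoreY, Subgroup.mem_subgroupOf, hπ]
      exact (QuotientGroup.eq_one_iff _).symm
    have hnY : (pCore p ↥Y).Normal := Subgroup.sSup_normal _ (fun _ h => h.1)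
    refine ⟨hnY, t, ht, htp, ?_, ?_⟩
    · intro q
      obtain ⟨y, rfl⟩ := QuotientGroup.mk_surjective q
      obtain ⟨k, hk⟩ := hYt ⟨π (y : G), Subgroup.mem_map_of_mem π y.2⟩
      refine ⟨k, ?_⟩
      rw [← QuotientGroup.mk_pow, QuotientGroup.eq_one_iff, hmemcore]
      have := congrArg Subtype.val hk
      simpa using this
    · apply Cfsg.Agent.Lib.helper56.isNilpotent_of_commutator_central
      intro a b c
      obtain ⟨a, rfl⟩ := QuotientGroup.mk_surjective a
      obtain ⟨b, rfl⟩ := QuotientGroup.mk_surjective b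
      obtain ⟨c, rfl⟩ := QuotientGroup.mk_surjective c
      have h1 : ⁅π (a : G), π (b : G)⁆ ∈ Subgroup.centralizer ((Y.map π : Subgroup _) : Set _) :=
        hcl (Subgroup.commutator_mem_commutator (Subgroup.mem_map_of_mem π a.2)
          (Subgroup.mem_map_of_mem π b.2))
      have h2 : π (c : G) * ⁅π (a : G), π (b : G)⁆ = ⁅π (a : G), π (b : G)⁆ * π (c : G) :=
        Subgroup.mem_centralizer_iff.mp h1 _ (Subgroup.mem_map_of_mem π c.2)
      have h3 : (⁅a, b⁆ * c)⁻¹ * (c * ⁅a, b⁆) ∈ pCore p ↥Y := by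
        rw [hmemcore]
        simp only [Subgroup.coe_mul, Subgroup.coe_inv, commutatorElement_def, map_mul,
          map_inv] at h2 ⊢
        rw [h2]
        group
      have h4 : (QuotientGroup.mk (⁅a, b⁆ * c) : ↥Y ⧸ pCore p ↥Y) =
          QuotientGroup.mk (c * ⁅a, b⁆) := QuotientGroup.eq.mpr h3
      simpa [commutatorElement_def] using h4

end Cfsg.Agent.S3045
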