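import Mathlib
import Cfsg.Statements.S3048
import Cfsg.Agent.S3012
import Cfsg.Agent.S0200
import Cfsg.Agent.Lib.helper27.Radical
import Cfsg.Agent.Lib.helper27.Basic
import Cfsg.Agent.Lib.helper52.SubnClosure
import Cfsg.Agent.Lib.helper53.PIrr
import Cfsg.Agent.Lib.helper53.PCore
import Cfsg.Agent.Lib.helper13.Basic
import Cfsg.Agent.Lib.helper62.OneClassDerNA
import Cfsg.Agent.Lib.helper62.PrimNormal
import Cfsg.Agent.Lib.helper28.Fitting
import Cfsg.Agent.Lib.helper28.Components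
import Cfsg.Agent.Lib.helper85.Quasi
import Cfsg.Agent.Lib.helper29.Basic

set_option autoImplicit false
open Cfsg

namespace Cfsg.Agent.S3048

open Cfsg.Agent.Lib

universe u

/-! ### Elementary facts -/

theorem mem_of_sq_mem {G : Type*} [Group G] (H : Subgroup G) {x : G} (hx : Odd (orderOf x))
    (h : x ^ 2 ∈ H) : x ∈ H := by
  obtain ⟨j, hj⟩ := hx
  have e : x = (x ^ 2) ^ (j + 1) := by
    rw [← pow_mul]
    have e2 : 2 * (j + 1) = orderOf x + 1 := by omega
    rw [e2, pow_add, pow_orderOf_eq_one, one_mul, pow_one]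
  rw [e]; exact H.pow_mem h _

theorem eq_one_of_sq_of_odd {G : Type*} [Group G] {x : G} (hx : Odd (orderOf x))
    (h : x ^ 2 = 1) : x = 1 := by
  have h1 := mem_of_sq_mem (⊥ : Subgroup G) hx (by rw [h]; exact Subgroup.one_mem _)
  simpa using h1

theorem odd_orderOf_pow {G : Type*} [Group G] {x : G} (hx : Odd (orderOf x)) (n : ℕ) :
    Odd (orderOf (x ^ n)) :=
  Odd.of_dvd_nat hx (orderOf_pow_dvd n)

theorem mem_of_two_pow_mem {G : Type*} [Group G] (H : Subgroup G) {x : G} (hx : Odd (orderOf x)) :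
    ∀ k : ℕ, x ^ 2 ^ k ∈ H → x ∈ H := by
  intro k
  induction k with
  | zero => intro h; simpa using h
  | succ k ih =>
    intro h
    apply ih
    apply mem_of_sq_mem H (odd_orderOf_pow hx _)
    rw [← pow_mul, ← pow_succ]; exact h

/-- If `v` inverts `x` then `x² = [x, v]`. -/
theorem sq_eq_of_inv {G : Type*} [Group G] {v x : G} (h : v * x * v⁻¹ = x⁻¹) :
    x ^ 2 = x * v * x⁻¹ * v⁻¹ := by
  have h1 : v * x⁻¹ * v⁻¹ = x := by
    have h2 : (v * x * v⁻¹)⁻¹ = x := by rw [h, inv_inv]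
    have h3 : v * x⁻¹ * v⁻¹ = (v * x * v⁻¹)⁻¹ := by group
    rw [h3, h2]
  calc x ^ 2 = x * (v * x⁻¹ * v⁻¹) := by rw [h1, sq]
    _ = x * v * x⁻¹ * v⁻¹ := by group

/-- If `v` inverts and commutes with an element of odd order, the element is trivial. -/
theorem eq_one_of_inv_of_comm {G : Type*} [Group G] {v x : G} (hx : Odd (orderOf x))
    (h : v * x * v⁻¹ = x⁻¹) (hc : v * x = x * v) : x = 1 := by
  apply eq_one_of_sq_of_odd hx
  have h1 : x = x⁻¹ := by
    rw [← h, hc, mul_inv_cancel_right]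
  rw [sq]
  nth_rewrite 1 [h1]
  exact inv_mul_cancel x

theorem odd_orderOf_mul {G : Type*} [Group G] {x y : G} (hx : Odd (orderOf x))
    (hy : Odd (orderOf y)) (hc : x * y = y * x) : Odd (orderOf (x * y)) := by
  have hcm : Commute x y := hc
  exact Odd.of_dvd_nat (hx.mul hy) (dvd_trans hcm.orderOf_mul_dvd_lcm (Nat.lcm_dvd_mul _ _))

theorem mem_cent_singleton {G : Type*} [Group G] {g v : G} :
    g ∈ Subgroup.centralizer ({v} : Set G) ↔ v * g = g * v := by
  rw [Subgroup.mem_centralizer_iff]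
  constructor
  · intro h; exact h v (Set.mem_singleton v)
  · intro h y hy
    rw [Set.mem_singleton_iff] at hy
    rw [hy]; exact h

/-- An odd order element of `K ⊔ B`, with `B` of exponent 2 normalizing `K`, lies in `K`. -/
theorem mem_of_odd_of_mem_sup {G : Type*} [Group G] {K B : Subgroup G}
    (hBK : B ≤ Subgroup.normalizer (K : Set G)) (hB : ∀ b ∈ B, b * b = 1) {y : G}
    (hy : y ∈ K ⊔ B) (hodd : Odd (orderOf y)) : y ∈ K := by
  obtain ⟨k, hk, b, hb, rfl⟩ := helper29.exists_mul_of_mem_sup_of_le_normalizer hBK hy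
  apply mem_of_sq_mem K hodd
  have hbinv : b⁻¹ = b := by rw [inv_eq_iff_mul_eq_one]; exact hB b hb
  have e : (k * b) ^ 2 = k * (b * k * b⁻¹) := by
    rw [hbinv, sq]
    group
  rw [e]
  exact K.mul_mem hk ((Subgroup.mem_normalizer_iff.mp (hBK hb) k).mp hk)

theorem inv_of_comm_conj {G : Type*} [Group G] {v a : G} (hvv : v * v = 1) :
    v * (a * (v * a⁻¹ * v⁻¹)) * v⁻¹ = (a * (v * a⁻¹ * v⁻¹))⁻¹ := by
  have hvinv : v⁻¹ = v := inv_eq_of_mul_eq_one_left hvv
  rw [hvinv]
  have e1 : v * (a * (v * a⁻¹ * v)) * v = v * a * v * a⁻¹ * (v * v) := by group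
  have e2 : (a * (v * a⁻¹ * v))⁻¹ = v⁻¹ * a * v⁻¹ * a⁻¹ := by group
  rw [e1, e2, hvv, hvinv, mul_one]

theorem comm_of_comm_conj_eq_one {G : Type*} [Group G] {v a : G}
    (h : a * (v * a⁻¹ * v⁻¹) = 1) : a * v = v * a := by
  calc a * v = a * (v * a⁻¹ * v⁻¹) * v * a := by group
    _ = v * a := by rw [h, one_mul]

theorem exists_odd_of_not_two_group {G : Type*} [Group G] [Finite G] {T : Subgroup G}
    (hT : ¬ IsPGroup 2 T) : ∃ x ∈ T, x ≠ 1 ∧ Odd (orderOf x) := by
  by_contra hcon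
  push Not at hcon
  apply hT
  intro t
  have hpos : orderOf (t : G) ≠ 0 := (orderOf_pos (t : G)).ne'
  obtain ⟨k, m, hm, hkm⟩ := Nat.exists_eq_two_pow_mul_odd hpos
  refine ⟨k, ?_⟩
  apply Subtype.ext
  rw [Subgroup.coe_pow, Subgroup.coe_one]
  by_contra hne
  have hord : orderOf ((t : G) ^ 2 ^ k) = m := by
    rw [orderOf_pow_of_dvd (by positivity) (by rw [hkm]; exact dvd_mul_right _ _), hkm]
    exact Nat.mul_div_cancel_left m (by positivity)
  exact hcon _ (T.pow_mem t.2 _) hne (by rw [hord]; exact hm)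

/-- The quotient by a nontrivial normal subgroup meeting `V` trivially: by minimality some
nontrivial element of `V` maps into `O₂` of the quotient. -/
theorem quot_exists {G : Type u} [Group G] [Finite G] (V : Subgroup G)
    (hV : IsElementaryAbelian 2 V) (hV1 : V ≠ ⊥) (hS : IsSidkiPair V)
    (hminG : ∀ (H : Type u) [Group H] [Finite H] (W : Subgroup H), Nat.card H < Nat.card G →
      IsElementaryAbelian 2 W → W ≠ ⊥ → IsSidkiPair W → W ⊓ pCore 2 H ≠ ⊥)
    (K : Subgroup G) [K.Normal] (hK1 : K ≠ ⊥) (hVK : V ⊓ K = ⊥) :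
    ∃ v ∈ V, v ≠ 1 ∧ v ∈ (pCore 2 (G ⧸ K)).comap (QuotientGroup.mk' K) := by
  have hSq := Cfsg.Agent.S3012.result V K hV hV1 hS hVK
  have hcard : Nat.card (G ⧸ K) < Nat.card G := helper28.card_quotient_lt_of_ne_bot hK1
  have hea : IsElementaryAbelian 2 (V.map (QuotientGroup.mk' K)) := by
    refine ⟨⟨⟨?_⟩⟩, ?_⟩
    · rintro ⟨_, ⟨a, ha, rfl⟩⟩ ⟨_, ⟨b, hb, rfl⟩⟩
      apply Subtype.ext
      haveI := hV.1
      show QuotientGroup.mk' K a * QuotientGroup.mk' K b
        = QuotientGroup.mk' K b * QuotientGroup.mk' K a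
      rw [← map_mul, ← map_mul, helper13.comm_of_mem_of_isMulCommutative V ha hb]
    · rintro _ ⟨a, ha, rfl⟩
      rw [← map_pow, hV.2 a ha, map_one]
  have hne : V.map (QuotientGroup.mk' K) ≠ ⊥ := by
    intro hcon
    apply hV1
    rw [eq_bot_iff, ← hVK]
    intro v hv
    refine Subgroup.mem_inf.mpr ⟨hv, ?_⟩
    have h1 : QuotientGroup.mk' K v ∈ V.map (QuotientGroup.mk' K) :=
      Subgroup.mem_map_of_mem _ hv
    rw [hcon, Subgroup.mem_bot] at h1
    exact (QuotientGroup.eq_one_iff v).mp h1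
  have key := hminG (G ⧸ K) (V.map (QuotientGroup.mk' K)) hcard hea hne hSq
  rw [Ne, Subgroup.eq_bot_iff_forall] at key
  push Not at key
  obtain ⟨y, hy, hy1⟩ := key
  obtain ⟨hyV, hyO⟩ := Subgroup.mem_inf.mp hy
  obtain ⟨v, hv, rfl⟩ := hyV
  refine ⟨v, hv, ?_, hyO⟩
  intro hcon
  apply hy1
  rw [hcon, map_one]

/-! ### The minimal counterexample -/

/-- The data of a minimal counterexample, together with `O₂(G) = 1`. -/
structure MC {G : Type u} [Group G] [Finite G] (V : Subgroup G) : Prop where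
  ea : IsElementaryAbelian 2 V
  ne : V ≠ ⊥
  sidki : IsSidkiPair V
  core : pCore 2 G = ⊥
  minG : ∀ (H : Type u) [Group H] [Finite H] (W : Subgroup H), Nat.card H < Nat.card G →
    IsElementaryAbelian 2 W → W ≠ ⊥ → IsSidkiPair W → W ⊓ pCore 2 H ≠ ⊥
  minV : ∀ W : Subgroup G, Nat.card W < Nat.card V → IsElementaryAbelian 2 W → W ≠ ⊥ →
    IsSidkiPair W → W ⊓ pCore 2 G ≠ ⊥

section

variable {G : Type u} [Group G] [Finite G] {V : Subgroup G}

theorem MC.mul_self (h : MC V) {v : G} (hv : v ∈ V) : v * v = 1 := by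
  rw [← sq]; exact h.ea.2 v hv

theorem MC.inv_eq (h : MC V) {v : G} (hv : v ∈ V) : v⁻¹ = v := by
  rw [inv_eq_iff_mul_eq_one]; exact h.mul_self hv

theorem MC.comm (h : MC V) {a b : G} (ha : a ∈ V) (hb : b ∈ V) : a * b = b * a :=
  haveI := h.ea.1
  helper13.comm_of_mem_of_isMulCommutative V ha hb

/-- A subnormal 2-subgroup is trivial. -/
theorem MC.two_eq_bot (h : MC V) {N : Subgroup G} (hN : N.IsSubnormal) (h2 : IsPGroup 2 N) :
    N = ⊥ := by
  have h1 := helper27.subnormal_pGroup_le_pCore 2 N hN h2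
  rw [h.core] at h1
  exact le_bot_iff.mp h1

omit [Finite G] in
/-- A subgroup all of whose elements square to 1 is a 2-group. -/
theorem isPGroup_two_of_sq {N : Subgroup G} (hN : ∀ n ∈ N, n * n = 1) : IsPGroup 2 N := by
  intro g
  refine ⟨1, ?_⟩
  apply Subtype.ext
  rw [pow_one, sq]
  exact hN g g.2

/-- Minimality applied to a proper subgroup `H` and a Sidki pair `W` of `H`. -/
theorem MC.sub_exists (h : MC V) {H W : Subgroup G} (hH : H ≠ ⊤)
    (hWH : W ≤ H) (hW2 : ∀ w ∈ W, w * w = 1) (hWc : ∀ a ∈ W, ∀ b ∈ W, a * b = b * a) (hW1 : W ≠ ⊥)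
    (hS : ∀ w ∈ W, ∀ x ∈ H, Odd (orderOf x) → w * x * w⁻¹ = x⁻¹ → ∃ u ∈ W, u ≠ 1 ∧ u * x = x * u) :
    ∃ b ∈ W, b ≠ 1 ∧ ∃ N : Subgroup G, b ∈ N ∧ IsPGroup 2 N ∧ N ≤ H ∧
      ∀ x ∈ H, ∀ n ∈ N, x * n * x⁻¹ ∈ N := by
  have hcard : Nat.card H < Nat.card G :=
    lt_of_le_of_ne (Subgroup.card_le_card_group H)
      (fun hc => hH ((Subgroup.card_eq_iff_eq_top H).mp hc))
  have hea : IsElementaryAbelian 2 (W.subgroupOf H) := by
    refine ⟨⟨⟨?_⟩⟩, ?_⟩
    · rintro ⟨a, ha⟩ ⟨b, hb⟩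
      apply Subtype.ext
      apply Subtype.ext
      exact hWc a (Subgroup.mem_subgroupOf.mp ha) b (Subgroup.mem_subgroupOf.mp hb)
    · intro a ha
      apply Subtype.ext
      rw [sq]
      exact hW2 a (Subgroup.mem_subgroupOf.mp ha)
  have hsid : IsSidkiPair (W.subgroupOf H) := by
    intro x w hw hodd hinv
    have hodd' : Odd (orderOf (x : G)) := by rw [Subgroup.orderOf_coe]; exact hodd
    have hinv' : (w : G) * (x : G) * (w : G)⁻¹ = (x : G)⁻¹ := by
      have h1 := congrArg (Subtype.val) hinv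
      simpa using h1
    obtain ⟨u, hu, hu1, hux⟩ := hS w (Subgroup.mem_subgroupOf.mp hw) x x.2 hodd' hinv'
    refine ⟨⟨u, hWH hu⟩, Subgroup.mem_subgroupOf.mpr hu, ?_, Subtype.ext hux⟩
    intro hcon
    exact hu1 (congrArg Subtype.val hcon)
  have hne : W.subgroupOf H ≠ ⊥ := by
    intro hcon
    apply hW1
    rw [Subgroup.eq_bot_iff_forall] at hcon ⊢
    intro w hw
    have h1 := hcon ⟨w, hWH hw⟩ (Subgroup.mem_subgroupOf.mpr hw)
    exact congrArg Subtype.val h1
  have key := h.minG ↥H (W.subgroupOf H) hcard hea hne hsid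
  rw [Ne, Subgroup.eq_bot_iff_forall] at key
  push Not at key
  obtain ⟨b, hb, hb1⟩ := key
  have hbW : (b : G) ∈ W := Subgroup.mem_subgroupOf.mp hb.1
  have hbO : b ∈ pCore 2 ↥H := hb.2
  refine ⟨b, hbW, fun hcon => hb1 (Subtype.ext hcon), (pCore 2 ↥H).map H.subtype,
    Subgroup.mem_map_of_mem _ hbO, (helper53.pCore_isPGroup 2 ↥H).map _, ?_, ?_⟩
  · rintro _ ⟨n, _, rfl⟩
    exact n.2
  · rintro x hx _ ⟨n', hn', rfl⟩
    exact ⟨⟨x, hx⟩ * n' * ⟨x, hx⟩⁻¹, (helper53.pCore_normal 2 ↥H).conj_mem n' hn' ⟨x, hx⟩, rfl⟩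

/-- Minimality applied to a proper subgroup `H`, a Sidki pair `W` of `H` and a subnormal subgroup
`K ≤ H` of `G` normalized by `W`: some nontrivial element of `W` centralizes `K`. -/
theorem MC.sub_centralizes (h : MC V) {H W K : Subgroup G} (hH : H ≠ ⊤)
    (hWH : W ≤ H) (hW2 : ∀ w ∈ W, w * w = 1) (hWc : ∀ a ∈ W, ∀ b ∈ W, a * b = b * a) (hW1 : W ≠ ⊥)
    (hS : ∀ w ∈ W, ∀ x ∈ H, Odd (orderOf x) → w * x * w⁻¹ = x⁻¹ → ∃ u ∈ W, u ≠ 1 ∧ u * x = x * u)
    (hKH : K ≤ H) (hKsn : K.IsSubnormal) (hWK : W ≤ Subgroup.normalizer (K : Set G)) :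
    ∃ b ∈ W, b ≠ 1 ∧ b ∈ Subgroup.centralizer (K : Set G) := by
  obtain ⟨b, hbW, hb1, N, hbN, hN2, hNH, hNnorm⟩ := h.sub_exists hH hWH hW2 hWc hW1 hS
  refine ⟨b, hbW, hb1, ?_⟩
  have hKN : K ⊓ N = ⊥ := by
    apply h.two_eq_bot
    · apply helper52.isSubnormal_of_le_of_le_normalizer hKsn inf_le_left
      intro k hk
      apply Subgroup.mem_normalizer_fintype
      intro n hn
      exact ⟨K.mul_mem (K.mul_mem hk hn.1) (K.inv_mem hk), hNnorm k (hKH hk) n hn.2⟩
    · exact hN2.to_le inf_le_right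
  rw [Subgroup.mem_centralizer_iff]
  intro k hk
  have hc : k * b * k⁻¹ * b⁻¹ ∈ K ⊓ N := by
    constructor
    · have h1 : b * k⁻¹ * b⁻¹ ∈ K :=
        (Subgroup.mem_normalizer_iff.mp (hWK hbW) k⁻¹).mp (K.inv_mem hk)
      have e : k * b * k⁻¹ * b⁻¹ = k * (b * k⁻¹ * b⁻¹) := by group
      rw [e]; exact K.mul_mem hk h1
    · exact N.mul_mem (hNnorm k (hKH hk) b hbN) (N.inv_mem hbN)
  rw [hKN, Subgroup.mem_bot] at hc
  exact mul_inv_eq_iff_eq_mul.mp (mul_inv_eq_one.mp hc)

/-- A normal subgroup containing `V` is everything. -/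
theorem MC.eq_top_of_le (h : MC V) {K : Subgroup G} (hK : K.Normal) (hVK : V ≤ K) : K = ⊤ := by
  by_contra hne
  obtain ⟨b, hbV, hb1, N, hbN, hN2, hNK, hNnorm⟩ := h.sub_exists (H := K) (W := V) hne hVK
    (fun w hw => h.mul_self hw) (fun a ha b hb => h.comm ha hb) h.ne
    (fun w hw x _ hodd hinv => h.sidki x w hw hodd hinv)
  have hN : N = ⊥ := by
    apply h.two_eq_bot _ hN2
    apply helper52.isSubnormal_of_le_of_le_normalizer hK.isSubnormal hNK
    intro k hk
    apply Subgroup.mem_normalizer_fintype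
    intro n hn
    exact hNnorm k hk n hn
  rw [hN, Subgroup.mem_bot] at hbN
  exact hb1 hbN

/-- If `K` is normal and `KV ≠ G` then some nontrivial element of `V` centralizes `K`. -/
theorem MC.exists_centralizing (h : MC V) {K : Subgroup G} (hK : K.Normal) (hKV : K ⊔ V ≠ ⊤) :
    ∃ b ∈ V, b ≠ 1 ∧ b ∈ Subgroup.centralizer (K : Set G) :=
  h.sub_centralizes (H := K ⊔ V) (W := V) (K := K) hKV le_sup_right
    (fun w hw => h.mul_self hw) (fun a ha b hb => h.comm ha hb) h.ne
    (fun w hw x _ hodd hinv => h.sidki x w hw hodd hinv) le_sup_left hK.isSubnormal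
    (by rw [Subgroup.normalizer_eq_top]; exact le_top)

/-- Claim U': if `K` is normal with trivial centre and `KV ≠ G`, then `C_V(K)` is a Sidki pair. -/
theorem MC.sidki_centralizer (h : MC V) {K : Subgroup G} (hK : K.Normal)
    (hZ : K ⊓ Subgroup.centralizer (K : Set G) = ⊥) (hKV : K ⊔ V ≠ ⊤) :
    IsSidkiPair (V ⊓ Subgroup.centralizer (K : Set G)) := by
  intro x v hv hodd hinv
  obtain ⟨hvV, hvC⟩ := hv
  have hCn : (Subgroup.centralizer (K : Set G)).Normal := Subgroup.normal_centralizer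
  obtain ⟨C, hC⟩ : ∃ C : Subgroup G, C = Subgroup.centralizer (K : Set G) := ⟨_, rfl⟩
  rw [← hC] at hvC hCn hZ ⊢
  -- (a) `x ∈ C`
  have hxC : x ∈ C := by
    apply mem_of_sq_mem C hodd
    rw [sq_eq_of_inv hinv]
    exact C.mul_mem (hCn.conj_mem v hvC x) (C.inv_mem hvC)
  by_contra hcon
  push Not at hcon
  obtain ⟨B, hB⟩ : ∃ B : Subgroup G, B = V ⊓ Subgroup.centralizer ({x} : Set G) := ⟨_, rfl⟩
  have hBmem : ∀ b : G, b ∈ B ↔ b ∈ V ∧ x * b = b * x := by
    intro b
    rw [hB, Subgroup.mem_inf, Subgroup.mem_centralizer_iff]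
    constructor
    · rintro ⟨h1, h2⟩; exact ⟨h1, h2 x (Set.mem_singleton x)⟩
    · rintro ⟨h1, h2⟩
      refine ⟨h1, ?_⟩
      intro y hy
      rw [Set.mem_singleton_iff] at hy
      rw [hy]; exact h2
  have hB1 : B ≠ ⊥ := by
    obtain ⟨w, hw, hw1, hwx⟩ := h.sidki x v hvV hodd hinv
    intro hb
    apply hw1
    have h1 : w ∈ B := (hBmem w).mpr ⟨hw, hwx.symm⟩
    rw [hb, Subgroup.mem_bot] at h1; exact h1
  have hBK : ∀ b ∈ B, b ≠ 1 → b ∉ C := by
    intro b hb hb1 hbC
    exact hcon b ⟨((hBmem b).mp hb).1, hbC⟩ hb1 ((hBmem b).mp hb).2.symm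
  have hBV : B ≤ V := fun b hb => ((hBmem b).mp hb).1
  have hH : K ⊔ B ≠ ⊤ := fun htop => hKV (top_le_iff.mp (htop ▸ sup_le_sup_left hBV K))
  have hBnK : B ≤ Subgroup.normalizer (K : Set G) := by
    rw [Subgroup.normalizer_eq_top]; exact le_top
  have hloc : ∀ w ∈ B, ∀ y ∈ K ⊔ B, Odd (orderOf y) → w * y * w⁻¹ = y⁻¹ →
      ∃ u ∈ B, u ≠ 1 ∧ u * y = y * u := by
    intro w hw y hy hyodd hyinv
    have hyK : y ∈ K :=
      mem_of_odd_of_mem_sup hBnK (fun b hb => h.mul_self (hBV hb)) hy hyodd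
    have hwV : w ∈ V := hBV hw
    have hxw : x * w = w * x := ((hBmem w).mp hw).2
    have hyx : y * x = x * y := by
      have h1 : x ∈ Subgroup.centralizer (K : Set G) := hC ▸ hxC
      exact Subgroup.mem_centralizer_iff.mp h1 y hyK
    have hyv : y * v = v * y := by
      have h1 : v ∈ Subgroup.centralizer (K : Set G) := hC ▸ hvC
      exact Subgroup.mem_centralizer_iff.mp h1 y hyK
    have hvw : v * w = w * v := h.comm hvV hwV
    have hinvxy : (v * w) * (x * y) * (v * w)⁻¹ = (x * y)⁻¹ := by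
      have e1 : w * x * w⁻¹ = x := by rw [← hxw, mul_inv_cancel_right]
      have e2 : v * y⁻¹ * v⁻¹ = y⁻¹ := by
        have e3 : v * y * v⁻¹ = y := by rw [← hyv, mul_inv_cancel_right]
        calc v * y⁻¹ * v⁻¹ = (v * y * v⁻¹)⁻¹ := by group
          _ = y⁻¹ := by rw [e3]
      calc (v * w) * (x * y) * (v * w)⁻¹
          = v * ((w * x * w⁻¹) * (w * y * w⁻¹)) * v⁻¹ := by group
        _ = v * (x * y⁻¹) * v⁻¹ := by rw [e1, hyinv]
        _ = (v * x * v⁻¹) * (v * y⁻¹ * v⁻¹) := by group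
        _ = x⁻¹ * y⁻¹ := by rw [hinv, e2]
        _ = (y * x)⁻¹ := by group
        _ = (x * y)⁻¹ := by rw [hyx]
    have hoddxy : Odd (orderOf (x * y)) := odd_orderOf_mul hodd hyodd hyx.symm
    obtain ⟨u, huV, hu1, hu⟩ := h.sidki (x * y) (v * w) (V.mul_mem hvV hwV) hoddxy hinvxy
    -- `u` centralizes `x` and `y` separately
    have h1 : x⁻¹ * (u * x * u⁻¹) = y * (u * y * u⁻¹)⁻¹ := by
      have e : u * x * u⁻¹ * (u * y * u⁻¹) = x * y := by
        calc u * x * u⁻¹ * (u * y * u⁻¹) = u * (x * y) * u⁻¹ := by group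
          _ = x * y := by rw [hu, mul_inv_cancel_right]
      calc x⁻¹ * (u * x * u⁻¹) = x⁻¹ * (u * x * u⁻¹ * (u * y * u⁻¹)) * (u * y * u⁻¹)⁻¹ := by group
        _ = y * (u * y * u⁻¹)⁻¹ := by rw [e]; group
    have h2 : x⁻¹ * (u * x * u⁻¹) ∈ K ⊓ C := by
      refine ⟨?_, C.mul_mem (C.inv_mem hxC) (hCn.conj_mem x hxC u)⟩
      rw [h1]
      exact K.mul_mem hyK (K.inv_mem (hK.conj_mem y hyK u))
    rw [hZ, Subgroup.mem_bot] at h2
    have hux : u * x * u⁻¹ = x := by
      have e : u * x * u⁻¹ = x * (x⁻¹ * (u * x * u⁻¹)) := by group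
      rw [e, h2, mul_one]
    have huy : u * y * u⁻¹ = y := by
      have e : y * (u * y * u⁻¹)⁻¹ = 1 := by rw [← h1, h2]
      have e2 : y = u * y * u⁻¹ := by
        rw [mul_inv_eq_one] at e; exact e
      exact e2.symm
    refine ⟨u, (hBmem u).mpr ⟨huV, ?_⟩, hu1, ?_⟩
    · exact (mul_inv_eq_iff_eq_mul.mp hux).symm
    · exact mul_inv_eq_iff_eq_mul.mp huy
  obtain ⟨b, hbB, hb1, hbc⟩ := h.sub_centralizes (H := K ⊔ B) (W := B) (K := K) hH le_sup_right
    (fun w hw => h.mul_self (hBV hw)) (fun a ha b hb => h.comm (hBV ha) (hBV hb)) hB1 hloc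
    le_sup_left hK.isSubnormal hBnK
  exact hBK b hbB hb1 (hC ▸ hbc)

/-- A nontrivial normal subgroup with trivial centre satisfies `KV = G`. -/
theorem MC.sup_eq_top (h : MC V) {K : Subgroup G} (hK : K.Normal) (hK1 : K ≠ ⊥)
    (hZ : K ⊓ Subgroup.centralizer (K : Set G) = ⊥) : K ⊔ V = ⊤ := by
  by_contra hKV
  have hsid := h.sidki_centralizer hK hZ hKV
  obtain ⟨b, hbV, hb1, hbC⟩ := h.exists_centralizing hK hKV
  obtain ⟨W, hW⟩ : ∃ W : Subgroup G, W = V ⊓ Subgroup.centralizer (K : Set G) := ⟨_, rfl⟩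
  rw [← hW] at hsid
  have hWV : W ≤ V := hW ▸ inf_le_left
  have hW1 : W ≠ ⊥ := by
    intro hcon
    have h1 : b ∈ W := hW ▸ ⟨hbV, hbC⟩
    rw [hcon, Subgroup.mem_bot] at h1
    exact hb1 h1
  have hWea : IsElementaryAbelian 2 W := by
    refine ⟨⟨⟨?_⟩⟩, ?_⟩
    · rintro ⟨a, ha⟩ ⟨b, hb⟩
      apply Subtype.ext
      exact h.comm (hWV ha) (hWV hb)
    · intro a ha
      exact h.ea.2 a (hWV ha)
  have hWcore : W ⊓ pCore 2 G = ⊥ := by rw [h.core, inf_bot_eq]
  have hcard : ¬ Nat.card W < Nat.card V := fun hlt => h.minV W hlt hWea hW1 hsid hWcore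
  have hWeq : W = V := Subgroup.eq_of_le_of_card_ge hWV (not_lt.mp hcard)
  have hVC : V ≤ Subgroup.centralizer (K : Set G) := by
    intro v hv
    have h1 : v ∈ W := hWeq ▸ hv
    rw [hW] at h1
    exact h1.2
  have hCtop := h.eq_top_of_le (Subgroup.normal_centralizer) hVC
  apply hK1
  rw [eq_bot_iff, ← hZ, hCtop, inf_top_eq]

/-- Baer–Suzuki: every nontrivial element of `V` inverts a nontrivial element of odd order. -/
theorem MC.exists_inverted (h : MC V) {t : G} (ht : t ∈ V) (ht1 : t ≠ 1) :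
    ∃ x : G, x ≠ 1 ∧ Odd (orderOf x) ∧ t * x * t⁻¹ = x⁻¹ := by
  apply Cfsg.Agent.S0200.result t
  · exact orderOf_eq_prime (by rw [sq]; exact h.mul_self ht) ht1
  · intro N hN hN2 htN
    have h1 := h.two_eq_bot hN.isSubnormal hN2
    rw [h1, Subgroup.mem_bot] at htN
    exact ht1 htN

/-- Elements of an abelian normal subgroup have odd order. -/
theorem MC.odd_of_abelian_normal (h : MC V) {A : Subgroup G} (hA : A.Normal)
    (hAc : ∀ a ∈ A, ∀ b ∈ A, a * b = b * a) : ∀ a ∈ A, Odd (orderOf a) := by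
  let E : Subgroup G :=
    { carrier := {a | a ∈ A ∧ a * a = 1}
      one_mem' := ⟨A.one_mem, by simp⟩
      mul_mem' := by
        rintro a b ⟨ha, ha2⟩ ⟨hb, hb2⟩
        refine ⟨A.mul_mem ha hb, ?_⟩
        calc a * b * (a * b) = a * (b * a) * b := by group
          _ = a * (a * b) * b := by rw [hAc b hb a ha]
          _ = (a * a) * (b * b) := by group
          _ = 1 := by rw [ha2, hb2, one_mul]
      inv_mem' := by
        rintro a ⟨ha, ha2⟩
        refine ⟨A.inv_mem ha, ?_⟩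
        rw [← mul_inv_rev, ha2, inv_one] }
  have hEmem : ∀ a, a ∈ E ↔ a ∈ A ∧ a * a = 1 := fun a => Iff.rfl
  have hEn : E.Normal := by
    refine ⟨fun a ha g => ?_⟩
    obtain ⟨ha1, ha2⟩ := (hEmem a).mp ha
    refine (hEmem _).mpr ⟨hA.conj_mem a ha1 g, ?_⟩
    calc g * a * g⁻¹ * (g * a * g⁻¹) = g * (a * a) * g⁻¹ := by group
      _ = 1 := by rw [ha2]; group
  have hE : E = ⊥ :=
    h.two_eq_bot hEn.isSubnormal (isPGroup_two_of_sq (fun n hn => ((hEmem n).mp hn).2))
  intro a ha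
  rw [← Nat.not_even_iff_odd]
  intro heven
  obtain ⟨m, hm⟩ := heven
  have hpos : 0 < orderOf a := orderOf_pos a
  have h1 : a ^ m ∈ E :=
    (hEmem _).mpr ⟨A.pow_mem ha m, by rw [← pow_add, ← hm, pow_orderOf_eq_one]⟩
  rw [hE, Subgroup.mem_bot] at h1
  have h2 := orderOf_dvd_of_pow_eq_one h1
  have h3 := Nat.le_of_dvd (by omega) h2
  omega

/-- There is no abelian minimal normal subgroup. -/
theorem MC.no_abelian_min_normal (h : MC V) {A : Subgroup G} (hA : A.Normal) (hA1 : A ≠ ⊥)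
    (hAc : ∀ a ∈ A, ∀ b ∈ A, a * b = b * a)
    (hmin : ∀ L : Subgroup G, L.Normal → L ≤ A → L = ⊥ ∨ L = A) : False := by
  have hAodd := h.odd_of_abelian_normal hA hAc
  -- (6a) `AV ≠ G`
  have hAV : A ⊔ V ≠ ⊤ := by
    intro htop
    have hfix : ∀ v ∈ V, v ≠ 1 → ∀ a ∈ A, a * v = v * a → a = 1 := by
      intro v hv hv1 a ha hav
      have hDn : (A ⊓ Subgroup.centralizer ({v} : Set G)).Normal := by
        rw [← Subgroup.normalizer_eq_top_iff, eq_top_iff, ← htop]
        apply sup_le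
        · intro a' ha'
          apply Subgroup.mem_normalizer_fintype
          intro d hd
          have hd' : d ∈ A ⊓ Subgroup.centralizer ({v} : Set G) := hd
          have e : a' * d * a'⁻¹ = d := by
            rw [hAc a' ha' d (Subgroup.mem_inf.mp hd').1, mul_inv_cancel_right]
          rw [e]; exact hd
        · intro u hu
          apply Subgroup.mem_normalizer_fintype
          intro d hd
          have hd' : d ∈ A ⊓ Subgroup.centralizer ({v} : Set G) := hd
          obtain ⟨hd1, hd2⟩ := Subgroup.mem_inf.mp hd'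
          show u * d * u⁻¹ ∈ A ⊓ Subgroup.centralizer ({v} : Set G)
          refine Subgroup.mem_inf.mpr ⟨hA.conj_mem d hd1 u, ?_⟩
          rw [mem_cent_singleton] at hd2 ⊢
          have huv : u * v = v * u := h.comm hu hv
          have huv' : v * u⁻¹ = u⁻¹ * v := by
            rw [h.inv_eq hu]; exact huv.symm
          calc v * (u * d * u⁻¹) = (v * u) * d * u⁻¹ := by group
            _ = u * (v * d) * u⁻¹ := by rw [← huv]; group
            _ = u * d * (v * u⁻¹) := by rw [hd2]; group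
            _ = u * d * u⁻¹ * v := by rw [huv']; group
      rcases hmin _ hDn inf_le_left with hD | hD
      · have h1 : a ∈ A ⊓ Subgroup.centralizer ({v} : Set G) :=
          Subgroup.mem_inf.mpr ⟨ha, mem_cent_singleton.mpr hav.symm⟩
        rw [hD, Subgroup.mem_bot] at h1; exact h1
      · exfalso
        have hvA : ∀ a' ∈ A, v * a' = a' * v := by
          intro a' ha'
          have h1 : a' ∈ A ⊓ Subgroup.centralizer ({v} : Set G) := by rw [hD]; exact ha'
          exact mem_cent_singleton.mp (Subgroup.mem_inf.mp h1).2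
        have hle : A ⊔ V ≤ Subgroup.centralizer ({v} : Set G) := by
          apply sup_le
          · intro a' ha'
            exact mem_cent_singleton.mpr (hvA a' ha')
          · intro u hu
            exact mem_cent_singleton.mpr (h.comm hv hu)
        have hcen : ∀ g : G, v * g = g * v := by
          intro g
          have hg : g ∈ A ⊔ V := htop ▸ Subgroup.mem_top g
          exact mem_cent_singleton.mp (hle hg)
        have hzn : (Subgroup.zpowers v).Normal := by
          refine ⟨fun n hn g => ?_⟩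
          obtain ⟨k, rfl⟩ := Subgroup.mem_zpowers_iff.mp hn
          have hc : Commute g v := (hcen g).symm
          have e : g * v ^ k * g⁻¹ = v ^ k := by
            rw [(hc.zpow_right k).eq, mul_inv_cancel_right]
          rw [e]; exact hn
        have hz2 : IsPGroup 2 (Subgroup.zpowers v) := by
          apply isPGroup_two_of_sq
          intro n hn
          obtain ⟨k, rfl⟩ := Subgroup.mem_zpowers_iff.mp hn
          rw [← (Commute.refl v).mul_zpow, h.mul_self hv, one_zpow]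
        have h1 := h.two_eq_bot hzn.isSubnormal hz2
        have hvz : v ∈ Subgroup.zpowers v := Subgroup.mem_zpowers v
        rw [h1, Subgroup.mem_bot] at hvz
        exact hv1 hvz
    have hVne : ∃ v ∈ V, v ≠ 1 := by
      by_contra hcon
      push Not at hcon
      exact h.ne ((Subgroup.eq_bot_iff_forall V).mpr hcon)
    have hAne : ∃ a ∈ A, a ≠ 1 := by
      by_contra hcon
      push Not at hcon
      exact hA1 ((Subgroup.eq_bot_iff_forall A).mpr hcon)
    obtain ⟨v, hv, hv1⟩ := hVne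
    obtain ⟨a, ha, ha1⟩ := hAne
    have hvv : v * v = 1 := h.mul_self hv
    have hxA : a * (v * a⁻¹ * v⁻¹) ∈ A := A.mul_mem ha (hA.conj_mem _ (A.inv_mem ha) v)
    have hx1 : a * (v * a⁻¹ * v⁻¹) ≠ 1 := by
      intro hcon
      exact ha1 (hfix v hv hv1 a ha (comm_of_comm_conj_eq_one hcon))
    obtain ⟨w, hw, hw1, hwx⟩ := h.sidki _ v hv (hAodd _ hxA) (inv_of_comm_conj hvv)
    exact hx1 (hfix w hw hw1 _ hxA hwx.symm)
  -- (6b) some `b ∈ V^#` centralizes `A`
  obtain ⟨b, hbV, hb1, hbC⟩ := h.exists_centralizing hA hAV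
  haveI := hA
  have hVA : V ⊓ A = ⊥ := by
    rw [Subgroup.eq_bot_iff_forall]
    intro x hx
    obtain ⟨hxV, hxA⟩ := Subgroup.mem_inf.mp hx
    exact eq_one_of_sq_of_odd (hAodd x hxA) (by rw [sq]; exact h.mul_self hxV)
  -- (6c) the quotient by `A`
  obtain ⟨v₁, hv₁V, hv₁1, hv₁T⟩ := quot_exists V h.ea h.ne h.sidki h.minG A hA1 hVA
  obtain ⟨T, hT⟩ : ∃ T : Subgroup G, T = (pCore 2 (G ⧸ A)).comap (QuotientGroup.mk' A) :=
    ⟨_, rfl⟩
  rw [← hT] at hv₁T
  have hTn : T.Normal := by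
    rw [hT]; exact Subgroup.Normal.comap (helper53.pCore_normal 2 _) _
  have hToddA : ∀ y ∈ T, Odd (orderOf y) → y ∈ A := by
    intro y hy hodd
    have hy' : QuotientGroup.mk' A y ∈ pCore 2 (G ⧸ A) := by rw [hT] at hy; exact hy
    obtain ⟨k, hk⟩ := helper53.pCore_isPGroup 2 (G ⧸ A) ⟨QuotientGroup.mk' A y, hy'⟩
    have h1 : y ^ 2 ^ k ∈ A := by
      have h2 := congrArg Subtype.val hk
      simp only [Subgroup.coe_pow, Subgroup.coe_one] at h2
      rw [← map_pow] at h2
      exact (QuotientGroup.eq_one_iff _).mp h2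
    exact mem_of_two_pow_mem A hodd k h1
  have hT1 : T ≠ ⊥ := by
    intro hcon
    rw [hcon, Subgroup.mem_bot] at hv₁T
    exact hv₁1 hv₁T
  have hZT : T ⊓ Subgroup.centralizer (T : Set G) = ⊥ := by
    by_contra hZne
    have hZn : (T ⊓ Subgroup.centralizer (T : Set G)).Normal := by
      haveI : (Subgroup.centralizer (T : Set G)).Normal := Subgroup.normal_centralizer
      infer_instance
    have hZc : ∀ a ∈ T ⊓ Subgroup.centralizer (T : Set G),
        ∀ b ∈ T ⊓ Subgroup.centralizer (T : Set G), a * b = b * a := by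
      intro a ha b hb
      exact Subgroup.mem_centralizer_iff.mp (Subgroup.mem_inf.mp hb).2 a (Subgroup.mem_inf.mp ha).1
    have hZodd := h.odd_of_abelian_normal hZn hZc
    have hZA : T ⊓ Subgroup.centralizer (T : Set G) ≤ A := by
      intro z hz
      exact hToddA z (Subgroup.mem_inf.mp hz).1 (hZodd z hz)
    have hZeq : T ⊓ Subgroup.centralizer (T : Set G) = A := by
      rcases hmin _ hZn hZA with h1 | h1
      · exact absurd h1 hZne
      · exact h1
    obtain ⟨x, hx1, hxodd, hxinv⟩ := h.exists_inverted hv₁V hv₁1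
    have hxT : x ∈ T := by
      apply mem_of_sq_mem T hxodd
      rw [sq_eq_of_inv hxinv]
      exact T.mul_mem (hTn.conj_mem v₁ hv₁T x) (T.inv_mem hv₁T)
    have hxA : x ∈ A := hToddA x hxT hxodd
    have hxZ : x ∈ T ⊓ Subgroup.centralizer (T : Set G) := by rw [hZeq]; exact hxA
    have hcomm : v₁ * x = x * v₁ :=
      Subgroup.mem_centralizer_iff.mp (Subgroup.mem_inf.mp hxZ).2 v₁ hv₁T
    exact hx1 (eq_one_of_inv_of_comm hxodd hxinv hcomm)
  have hTV : T ⊔ V = ⊤ := h.sup_eq_top hTn hT1 hZT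
  have hoddA : ∀ y : G, Odd (orderOf y) → y ∈ A := by
    intro y hodd
    apply hToddA y _ hodd
    have hVnT : V ≤ Subgroup.normalizer (T : Set G) := by
      rw [Subgroup.normalizer_eq_top]; exact le_top
    have hyTV : y ∈ T ⊔ V := by rw [hTV]; exact Subgroup.mem_top y
    exact mem_of_odd_of_mem_sup hVnT (fun b hb => h.mul_self hb) hyTV hodd
  obtain ⟨x, hx1, hxodd, hxinv⟩ := h.exists_inverted hbV hb1
  have hcomm : b * x = x * b :=
    (Subgroup.mem_centralizer_iff.mp hbC x (hoddA x hxodd)).symm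
  exact hx1 (eq_one_of_inv_of_comm hxodd hxinv hcomm)

/-- Every normal subgroup has trivial centre. -/
theorem MC.center_eq_bot (h : MC V) {K : Subgroup G} (hK : K.Normal) :
    K ⊓ Subgroup.centralizer (K : Set G) = ⊥ := by
  by_contra hne
  have hZn : (K ⊓ Subgroup.centralizer (K : Set G)).Normal := by
    haveI : (Subgroup.centralizer (K : Set G)).Normal := Subgroup.normal_centralizer
    infer_instance
  obtain ⟨A, hAn, hA1, hAZ, hAmin⟩ := helper13.exists_minimal_normal_le _ hZn hne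
  apply h.no_abelian_min_normal hAn hA1 _ hAmin
  intro a ha b hb
  exact Subgroup.mem_centralizer_iff.mp (Subgroup.mem_inf.mp (hAZ hb)).2 a
    (Subgroup.mem_inf.mp (hAZ ha)).1

theorem MC.sup_eq_top' (h : MC V) {K : Subgroup G} (hK : K.Normal) (hK1 : K ≠ ⊥) : K ⊔ V = ⊤ :=
  h.sup_eq_top hK hK1 (h.center_eq_bot hK)

theorem MC.exists_mul (h : MC V) {K : Subgroup G} (hK : K.Normal) (hK1 : K ≠ ⊥) (g : G) :
    ∃ k ∈ K, ∃ u ∈ V, g = k * u := by
  have hg : g ∈ K ⊔ V := by rw [h.sup_eq_top' hK hK1]; exact Subgroup.mem_top g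
  have hVn : V ≤ Subgroup.normalizer (K : Set G) := by
    rw [Subgroup.normalizer_eq_top]; exact le_top
  exact helper29.exists_mul_of_mem_sup_of_le_normalizer hVn hg

/-- A nontrivial normal subgroup has trivial centralizer. -/
theorem MC.centralizer_eq_bot (h : MC V) {N : Subgroup G} (hN : N.Normal) (hN1 : N ≠ ⊥) :
    Subgroup.centralizer (N : Set G) = ⊥ := by
  have hCn : (Subgroup.centralizer (N : Set G)).Normal := Subgroup.normal_centralizer
  apply h.two_eq_bot hCn.isSubnormal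
  apply isPGroup_two_of_sq
  intro c hc
  obtain ⟨n, hn, u, hu, rfl⟩ := h.exists_mul hN hN1 c
  have e : n * u * (n * u) = n * (u * n * u⁻¹) := by
    rw [h.inv_eq hu]; group
  have h1 : n * u * (n * u) ∈ N ⊓ Subgroup.centralizer (N : Set G) := by
    refine Subgroup.mem_inf.mpr ⟨?_, (Subgroup.centralizer (N : Set G)).mul_mem hc hc⟩
    rw [e]; exact N.mul_mem hn (hN.conj_mem n hn u)
  rw [h.center_eq_bot hN, Subgroup.mem_bot] at h1
  exact h1

/-- A minimal normal subgroup is simple. -/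
theorem MC.simple_of_min (h : MC V) {N : Subgroup G} (hN : N.Normal) (hN1 : N ≠ ⊥)
    (hmin : ∀ L : Subgroup G, L.Normal → L ≤ N → L = ⊥ ∨ L = N) : IsSimpleGroup N := by
  by_contra hns
  have hnab : ¬ ∀ a ∈ N, ∀ b ∈ N, a * b = b * a :=
    fun hc => h.no_abelian_min_normal hN hN1 hc hmin
  have hmin' : ∀ K : Subgroup G, K.Normal → K ≠ ⊥ → K ≤ N → K = N := by
    intro K hK hK1 hKN
    rcases hmin K hK hKN with h1 | h1
    · exact absurd h1 hK1
    · exact h1
  haveI := hN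
  obtain ⟨T, C, hTN, hCN, hT1, hTC, hTCt, hNTC, hNT, hdich, g₀, t₀, ht₀, hgt₀⟩ :=
    helper62.exists_TC_of_minimal_normal N hmin' hnab hns
  have hCN0 := h.centralizer_eq_bot hN hN1
  have hNnT : N ≤ Subgroup.normalizer (T : Set G) := by
    intro n hn
    apply Subgroup.mem_normalizer_fintype
    intro t ht
    exact hNT n hn t ht
  have hTsn : T.IsSubnormal :=
    helper52.isSubnormal_of_le_of_le_normalizer hN.isSubnormal hTN hNnT
  have hnorm_of : ∀ u : G, (∀ t ∈ T, u * t * u⁻¹ ∈ T) → u ∈ Subgroup.normalizer (T : Set G) := by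
    intro u hu
    apply Subgroup.mem_normalizer_fintype
    intro t ht
    exact hu t ht
  have hTnn : Subgroup.normalizer (T : Set G) ≠ ⊤ := by
    intro htop
    apply hgt₀
    have h1 : g₀ ∈ Subgroup.normalizer (T : Set G) := by rw [htop]; exact Subgroup.mem_top _
    exact (Subgroup.mem_normalizer_iff.mp h1 t₀).mp ht₀
  obtain ⟨V₁, hV₁⟩ : ∃ V₁ : Subgroup G, V₁ = V ⊓ Subgroup.normalizer (T : Set G) := ⟨_, rfl⟩
  have hV₁V : V₁ ≤ V := by rw [hV₁]; exact inf_le_left
  have hV₁n : V₁ ≤ Subgroup.normalizer (T : Set G) := by rw [hV₁]; exact inf_le_right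
  have hmemV₁ : ∀ u ∈ V, (∀ t ∈ T, u * t * u⁻¹ ∈ T) → u ∈ V₁ := by
    intro u hu hut
    rw [hV₁]; exact Subgroup.mem_inf.mpr ⟨hu, hnorm_of u hut⟩
  by_cases hV₁1 : V₁ = ⊥
  · -- no nontrivial element of `V` normalizes `T`
    have hVC : ∀ u ∈ V, u ≠ 1 → ∀ t ∈ T, u * t * u⁻¹ ∈ C := by
      intro u hu hu1
      rcases hdich u with h1 | h1
      · exfalso
        have h2 := hmemV₁ u hu h1
        rw [hV₁1, Subgroup.mem_bot] at h2
        exact hu1 h2
      · exact h1
    have hTnot2 : ¬ IsPGroup 2 T := fun h2 => hT1 (h.two_eq_bot hTsn h2)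
    obtain ⟨x, hxT, hx1, hxodd⟩ := exists_odd_of_not_two_group hTnot2
    have hVne : ∃ v ∈ V, v ≠ 1 := by
      by_contra hcon
      push Not at hcon
      exact h.ne ((Subgroup.eq_bot_iff_forall V).mpr hcon)
    obtain ⟨v, hv, hv1⟩ := hVne
    have hvv : v * v = 1 := h.mul_self hv
    have hyC : v * x⁻¹ * v⁻¹ ∈ C := hVC v hv hv1 x⁻¹ (T.inv_mem hxT)
    have hyodd : Odd (orderOf (v * x⁻¹ * v⁻¹)) := by
      have e : orderOf (v * x⁻¹ * v⁻¹) = orderOf x := by
        rw [← orderOf_inv x]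
        exact ((SemiconjBy.conj_mk v x⁻¹).orderOf_eq).symm
      rw [e]; exact hxodd
    have hhodd : Odd (orderOf (x * (v * x⁻¹ * v⁻¹))) :=
      odd_orderOf_mul hxodd hyodd (hTC x hxT _ hyC)
    have hhinv := inv_of_comm_conj (a := x) hvv
    obtain ⟨w, hw, hw1, hwh⟩ := h.sidki _ v hv hhodd hhinv
    have hwxC : w * x * w⁻¹ ∈ C := hVC w hw hw1 x hxT
    by_cases hwv : w * v = 1
    · have hweq : w = v := by
        have h1 : w = v⁻¹ := eq_inv_of_mul_eq_one_left hwv
        rw [h1, h.inv_eq hv]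
      rw [hweq] at hwh
      have hh1 := eq_one_of_inv_of_comm hhodd hhinv hwh
      have hxC : x ∈ C := by
        have e : x = (v * x⁻¹ * v⁻¹)⁻¹ := by
          rw [eq_inv_iff_mul_eq_one]; exact hh1
        rw [e]; exact C.inv_mem hyC
      exact hx1 (hTCt x hxT hxC)
    · have hwvC : (w * v) * x⁻¹ * (w * v)⁻¹ ∈ C :=
        hVC (w * v) (V.mul_mem hw hv) hwv x⁻¹ (T.inv_mem hxT)
      have hxC : x ∈ C := by
        have e : x = (w * x * w⁻¹) * ((w * v) * x⁻¹ * (w * v)⁻¹) * (v * x⁻¹ * v⁻¹)⁻¹ := by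
          have e1 : (w * x * w⁻¹) * ((w * v) * x⁻¹ * (w * v)⁻¹)
              = w * (x * (v * x⁻¹ * v⁻¹)) * w⁻¹ := by group
          rw [e1, hwh, mul_inv_cancel_right]
          group
        rw [e]
        exact C.mul_mem (C.mul_mem hwxC hwvC) (C.inv_mem hyC)
      exact hx1 (hTCt x hxT hxC)
  · -- some nontrivial element of `V` normalizes `T`
    have hH : T ⊔ V₁ ≠ ⊤ := by
      intro htop
      apply hTnn
      rw [eq_top_iff, ← htop]
      exact sup_le Subgroup.le_normalizer hV₁n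
    have hV₁ne : ∃ u ∈ V₁, u ≠ 1 := by
      by_contra hcon
      push Not at hcon
      exact hV₁1 ((Subgroup.eq_bot_iff_forall V₁).mpr hcon)
    have hloc : ∀ w ∈ V₁, ∀ x ∈ T ⊔ V₁, Odd (orderOf x) → w * x * w⁻¹ = x⁻¹ →
        ∃ u ∈ V₁, u ≠ 1 ∧ u * x = x * u := by
      intro w hw x hx hxodd hxinv
      have hxT : x ∈ T :=
        mem_of_odd_of_mem_sup hV₁n (fun b hb => h.mul_self (hV₁V hb)) hx hxodd
      by_cases hx1 : x = 1
      · obtain ⟨u, hu, hu1⟩ := hV₁ne
        exact ⟨u, hu, hu1, by rw [hx1, mul_one, one_mul]⟩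
      · obtain ⟨u, hu, hu1, hux⟩ := h.sidki x w (hV₁V hw) hxodd hxinv
        refine ⟨u, hmemV₁ u hu ?_, hu1, hux⟩
        rcases hdich u with h1 | h1
        · exact h1
        · exfalso
          have h2 : u * x * u⁻¹ ∈ C := h1 x hxT
          rw [hux, mul_inv_cancel_right] at h2
          exact hx1 (hTCt x hxT h2)
    obtain ⟨b, hbV₁, hb1, hbc⟩ := h.sub_centralizes (H := T ⊔ V₁) (W := V₁) (K := T) hH
      le_sup_right (fun w hw => h.mul_self (hV₁V hw))
      (fun a ha b hb => h.comm (hV₁V ha) (hV₁V hb)) hV₁1 hloc le_sup_left hTsn hV₁n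
    have hbV : b ∈ V := hV₁V hbV₁
    have hLN : Subgroup.normalClosure (T : Set G) = N := by
      apply hmin' _ Subgroup.normalClosure_normal
      · intro hcon
        apply hT1
        rw [eq_bot_iff, ← hcon]
        exact Subgroup.le_normalClosure
      · exact Subgroup.normalClosure_le_normal hTN
    have hLcent : Subgroup.normalClosure (T : Set G) ≤ Subgroup.centralizer ({b} : Set G) := by
      rw [Subgroup.normalClosure, Subgroup.closure_le]
      intro y hy
      rw [Group.mem_conjugatesOfSet_iff] at hy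
      obtain ⟨t, ht, hconj⟩ := hy
      obtain ⟨g, rfl⟩ := isConj_iff.mp hconj
      obtain ⟨n, hn, u, hu, hg⟩ := h.exists_mul hN hN1 g⁻¹
      have hg' : g = u * n⁻¹ := by
        have h1 : g = (g⁻¹)⁻¹ := (inv_inv g).symm
        rw [h1, hg, mul_inv_rev, h.inv_eq hu]
      have ht' : n⁻¹ * t * n ∈ T := by
        have h1 := hNT n⁻¹ (N.inv_mem hn) t ht
        rwa [inv_inv] at h1
      have hbt : b * (n⁻¹ * t * n) = (n⁻¹ * t * n) * b :=
        (Subgroup.mem_centralizer_iff.mp hbc _ ht').symm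
      have hbu : b * u = u * b := h.comm hbV hu
      show g * t * g⁻¹ ∈ Subgroup.centralizer ({b} : Set G)
      rw [mem_cent_singleton, hg']
      calc b * (u * n⁻¹ * t * (u * n⁻¹)⁻¹) = (b * u) * (n⁻¹ * t * n) * u⁻¹ := by group
        _ = u * (b * (n⁻¹ * t * n)) * u⁻¹ := by rw [hbu]; group
        _ = u * (n⁻¹ * t * n) * (b * u⁻¹) := by rw [hbt]; group
        _ = u * (n⁻¹ * t * n) * (u⁻¹ * b) := by rw [h.inv_eq hu, hbu]
        _ = u * n⁻¹ * t * (u * n⁻¹)⁻¹ * b := by group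
    have hbN : b ∈ Subgroup.centralizer (N : Set G) := by
      rw [Subgroup.mem_centralizer_iff]
      intro n hn
      have h1 : n ∈ Subgroup.centralizer ({b} : Set G) := hLcent (by rw [hLN]; exact hn)
      exact (mem_cent_singleton.mp h1).symm
    rw [hCN0, Subgroup.mem_bot] at hbN
    exact hb1 hbN

end

open scoped commutatorElement in
theorem result {G : Type u} [Group G] [Finite G] (V : Subgroup G) (hV : Cfsg.IsElementaryAbelian 2 V) (hV1 : V ≠ ⊥) (hS : Cfsg.IsSidkiPair V) (hVO : V ⊓ Cfsg.pCore 2 G = ⊥) (hminG : ∀ (H : Type u) [Group H] [Finite H] (W : Subgroup H), Nat.card H < Nat.card G → Cfsg.IsElementaryAbelian 2 W → W ≠ ⊥ → Cfsg.IsSidkiPair W → W ⊓ Cfsg.pCore 2 H ≠ ⊥) (hminV : ∀ W : Subgroup G, Nat.card W < Nat.card V → Cfsg.IsElementaryAbelian 2 W → W ≠ ⊥ → Cfsg.IsSidkiPair W → W ⊓ Cfsg.pCore 2 G ≠ ⊥) : IsSimpleGroup ↥(Cfsg.generalizedFittingSubgroup G) ∧ ¬ IsMulCommutative ↥(Cfsg.generalizedFittingSubgroup G) ∧ V ⊔ Cfsg.generalizedFittingSubgroup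 G = ⊤ := by
  have hcore : pCore 2 G = ⊥ := by
    by_contra hne
    haveI := helper53.pCore_normal 2 G
    obtain ⟨v, hv, hv1, hvT⟩ := quot_exists V hV hV1 hS hminG (pCore 2 G) hne hVO
    rw [helper53.comap_pCore_quotient (pCore 2 G) (helper53.pCore_isPGroup 2 G)] at hvT
    have h1 : v ∈ V ⊓ pCore 2 G := Subgroup.mem_inf.mpr ⟨hv, hvT⟩
    rw [hVO, Subgroup.mem_bot] at h1
    exact hv1 h1
  have h : MC V := ⟨hV, hV1, hS, hcore, hminG, hminV⟩
  haveI : Nontrivial G := by
    obtain ⟨v, hv, hv1⟩ : ∃ v ∈ V, v ≠ 1 := by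
      by_contra hcon
      push Not at hcon
      exact hV1 ((Subgroup.eq_bot_iff_forall V).mpr hcon)
    exact ⟨⟨v, 1, hv1⟩⟩
  obtain ⟨N, hN, hN1, hmin⟩ := helper13.exists_minimal_normal (G := G)
  have hsimple := h.simple_of_min hN hN1 hmin
  have hnab : ¬ ∀ a ∈ N, ∀ b ∈ N, a * b = b * a :=
    fun hc => h.no_abelian_min_normal hN hN1 hc hmin
  have hCN0 := h.centralizer_eq_bot hN hN1
  have hfit : fittingSubgroup G = ⊥ := by
    unfold fittingSubgroup
    rw [sSup_eq_bot]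
    rintro M ⟨hMn, hMnil⟩
    by_contra hM1
    haveI : Nontrivial M := (Subgroup.nontrivial_iff_ne_bot M).mpr hM1
    haveI := hMnil
    have hc := helper62.center_ne_bot_of_isNilpotent (N := M)
    apply hc
    rw [Subgroup.eq_bot_iff_forall]
    intro z hz
    have h1 : (z : G) ∈ M ⊓ Subgroup.centralizer (M : Set G) := by
      refine Subgroup.mem_inf.mpr ⟨z.2, ?_⟩
      rw [Subgroup.mem_centralizer_iff]
      intro m hm
      have h2 := Subgroup.mem_center_iff.mp hz ⟨m, hm⟩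
      exact congrArg Subtype.val h2
    rw [h.center_eq_bot hMn, Subgroup.mem_bot] at h1
    exact Subtype.ext h1
  have hNcomp : IsComponent N := by
    refine ⟨hN.isSubnormal, ?_⟩
    haveI := hsimple
    apply helper85.isQuasisimple_of_normal_dichotomy
    · rcases (inferInstance : (commutator ↥N).Normal).eq_bot_or_eq_top with h1 | h1
      · exfalso
        apply hnab
        intro a ha b hb
        have h2 : ⁅(⟨a, ha⟩ : N), ⟨b, hb⟩⁆ ∈ commutator ↥N :=
          Subgroup.commutator_mem_commutator (Subgroup.mem_top _) (Subgroup.mem_top _)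
        rw [h1, Subgroup.mem_bot] at h2
        have h3 := commutatorElement_eq_one_iff_mul_comm.mp h2
        exact congrArg Subtype.val h3
      · exact h1
    · exact IsSimpleGroup.toNontrivial
    · intro M hM
      rcases hM.eq_bot_or_eq_top with h1 | h1
      · left; rw [h1]; exact bot_le
      · right; exact h1
  have hlayer : layer G = N := by
    apply le_antisymm
    · apply sSup_le
      intro K hK
      rcases helper28.isComponent_le_or_commute hK hN.isSubnormal with h1 | h1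
      · exact h1
      · exfalso
        apply helper28.isComponent_ne_bot hK
        rw [eq_bot_iff, ← hCN0]
        intro k hk
        rw [Subgroup.mem_centralizer_iff]
        intro n hn
        have h2 : ⁅k, n⁆ ∈ ⁅K, N⁆ := Subgroup.commutator_mem_commutator hk hn
        rw [h1, Subgroup.mem_bot] at h2
        exact (commutatorElement_eq_one_iff_mul_comm.mp h2).symm
    · exact helper28.le_layer hNcomp
  have hF : generalizedFittingSubgroup G = N := by
    unfold generalizedFittingSubgroup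
    rw [hlayer, hfit, sup_bot_eq]
  rw [hF]
  refine ⟨hsimple, ?_, ?_⟩
  · intro hc
    apply hnab
    intro a ha b hb
    exact helper13.comm_of_mem_of_isMulCommutative N ha hb
  · rw [sup_comm]; exact h.sup_eq_top' hN hN1

end Cfsg.Agent.S3048
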