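import Mathlib
import Cfsg.Statements.S3050
import Cfsg.Agent.Lib.helper56.SL2Nat
import Cfsg.Agent.Lib.helper56.HigM
import Cfsg.Agent.Lib.helper56.HigG

set_option autoImplicit false
open Cfsg

namespace Cfsg.Agent.S3050

open Matrix Cfsg.Agent.Lib.helper56.SL2Nat Cfsg.Agent.Lib.helper56.HigM
  Cfsg.Agent.Lib.helper56.HigG
open scoped IsMulCommutative

/-- Let G be a finite group with a normal 2-subgroup Q such that G/Q is isomorphic to SL(2, 2ⁿ) with n ≥ 2, and suppose some element of G of order 3 fixes no nonidentity element of Q under conjugation. Then Q is elementary abelian and is the direct product of normal subgroups of G on each of which G acts as SL(2, 2ⁿ) acts on its natural two-dimensional module (a Galois twist of the natural action allowed). -/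
theorem result {G : Type*} [Group G] [Finite G]
    (Q : Subgroup G) [Q.Normal] (hQ : IsPGroup 2 ↥Q) (n : ℕ) (hn : 2 ≤ n)
    (K : Type*) [Field K] [Fintype K] (hK : Fintype.card K = 2 ^ n)
    (e : G ⧸ Q ≃* Matrix.SpecialLinearGroup (Fin 2) K)
    (x : G) (hx : orderOf x = 3) (hfpf : ∀ q ∈ Q, x * q * x⁻¹ = q → q = 1) :
    Cfsg.IsElementaryAbelian 2 Q ∧
      ∃ (k : ℕ) (V : Fin k → Subgroup G), (∀ i, V i ≤ Q ∧ (V i).Normal ∧
        Cfsg.ActsAsSL2OnSection K ⊤ ⊤ (V i) ⊥) ∧ iSupIndep V ∧ ⨆ i, V i = Q := by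
  classical
  have hQnorm : Q.Normal := inferInstance
  haveI : CharP K 2 := by
    have h0 : ((Fintype.card K : ℕ) : K) = 0 := FiniteField.cast_card_eq_zero K
    rw [hK, Nat.cast_pow] at h0
    have h2 : ((2 : ℕ) : K) = 0 := eq_zero_of_pow_eq_zero h0
    exact CharTwo.of_one_ne_zero_of_two_eq_zero one_ne_zero (by exact_mod_cast h2)
  have hsq : ∀ a : K, ∃ b, b * b = a := by
    intro a
    obtain ⟨b, hb⟩ := FiniteField.isSquare_of_char_two (ringChar.eq K 2) a
    exact ⟨b, hb.symm⟩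
  have hodd : ∀ a : K, a ≠ 0 → ∃ k : ℕ, Odd k ∧ a ^ k = 1 := by
    intro a ha
    refine ⟨Fintype.card K - 1, ?_, FiniteField.pow_card_sub_one_eq_one a ha⟩
    rw [hK]
    have e2 : 2 ^ n = 2 * 2 ^ (n - 1) := by
      rw [← pow_succ']; congr 1; omega
    rw [e2]
    have hpos : 0 < 2 ^ (n - 1) := by positivity
    exact ⟨2 ^ (n - 1) - 1, by omega⟩
  have hK' : ∃ t : K, t ≠ 0 ∧ t ≠ 1 := by
    by_contra hcon
    push Not at hcon
    have hle : Fintype.card K ≤ 2 := by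
      have hsub : (Finset.univ : Finset K) ⊆ {0, 1} := by
        intro t _
        by_cases ht : t = 0
        · simp [ht]
        · simp [hcon t ht]
      calc Fintype.card K = (Finset.univ : Finset K).card := Finset.card_univ.symm
        _ ≤ ({0, 1} : Finset K).card := Finset.card_le_card hsub
        _ ≤ 2 := Finset.card_le_two
    rw [hK] at hle
    have h4 : 2 ^ 2 ≤ 2 ^ n := Nat.pow_le_pow_right (by norm_num) hn
    omega
  obtain ⟨π, hπ⟩ : ∃ π : G →* SpecialLinearGroup (Fin 2) K,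
      ∀ g, π g = e (QuotientGroup.mk g) :=
    ⟨e.toMonoidHom.comp (QuotientGroup.mk' Q), fun g => rfl⟩
  have hπs : Function.Surjective π := by
    intro s
    obtain ⟨g, hg⟩ := QuotientGroup.mk_surjective (e.symm s)
    exact ⟨g, by rw [hπ, hg, e.apply_symm_apply]⟩
  have hπk : π.ker = Q := by
    ext g
    rw [MonoidHom.mem_ker, hπ]
    constructor
    · intro h
      have h1 : (QuotientGroup.mk g : G ⧸ Q) = 1 := e.injective (by rw [h, map_one])
      exact (QuotientGroup.eq_one_iff g).mp h1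
    · intro h
      rw [(QuotientGroup.eq_one_iff g).mpr h, map_one]
  have hx1 : π x ≠ 1 := by
    intro h
    have hxQ : x ∈ Q := by rw [← hπk]; exact h
    have h1 := hfpf x hxQ (by group)
    rw [h1, orderOf_one] at hx
    omega
  have hx3 : π x * π x * π x = 1 := by
    rw [← map_mul, ← map_mul]
    have h1 : x * x * x = 1 := by
      have h2 := pow_orderOf_eq_one x
      rw [hx] at h2
      rw [← h2, pow_succ, pow_two]
    rw [h1, map_one]
  obtain ⟨s, hs⟩ := conj_y1 hsq (π x) hx1 hx3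
  obtain ⟨ĝ, rfl⟩ := hπs s
  have hHG : HG K Q π (ĝ * x * ĝ⁻¹) := by
    refine ⟨hπs, hπk, hQ, ?_, ?_⟩
    · rw [map_mul, map_mul, map_inv, hs, mul_inv_cancel_right]
    · intro q hq hfix
      have hq' : ĝ⁻¹ * q * ĝ ∈ Q := by
        have := hQnorm.conj_mem q hq ĝ⁻¹
        rwa [inv_inv] at this
      have h1 := hfpf _ hq' (by
        calc x * (ĝ⁻¹ * q * ĝ) * x⁻¹
            = ĝ⁻¹ * ((ĝ * x * ĝ⁻¹) * q * (ĝ * x * ĝ⁻¹)⁻¹) * ĝ := by group
          _ = ĝ⁻¹ * q * ĝ := by rw [hfix])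
      calc q = ĝ * (ĝ⁻¹ * q * ĝ) * ĝ⁻¹ := by group
        _ = 1 := by rw [h1]; group
  obtain ⟨habel, hexp⟩ := abel2 hsq hodd hK' (Nat.card G) G Q π _ hHG le_rfl
  haveI hcomm : IsMulCommutative ↥Q := ⟨⟨fun a b => Subtype.ext (habel a.1 a.2 b.1 b.2)⟩⟩
  refine ⟨⟨hcomm, fun a ha => by rw [pow_two]; exact hexp a ha⟩, ?_⟩
  obtain ⟨instQ, hsmQ⟩ := exists_action π hπs Q
    (fun g hg v hv => by rw [hπk] at hg; exact habel g hg v hv)
  have hfpfQ := fpf_module hHG Q le_rfl hsmQ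
  have h2Q : ∀ v : Additive ↥Q, v + v = 0 := fun v =>
    Additive.toMul.injective (Subtype.ext (hexp _ (Additive.toMul v).2))
  obtain ⟨k, Ψ, hΨ⟩ := natural_sum hsq h2Q hfpfQ
  have hΦ : ∀ (g : G) (m : Additive ↥Q) (i : Fin k),
      Ψ.symm (π g • m) i = (π g).1 *ᵥ (Ψ.symm m i) := by
    intro g m i
    have h1 := hΨ (π g) (Ψ.symm m)
    rw [Ψ.apply_symm_apply] at h1
    rw [← h1, Ψ.symm_apply_apply]
  obtain ⟨co, hco⟩ : ∃ co : ↥Q → Fin k → Fin 2 → K,
      ∀ q, co q = Ψ.symm (Additive.ofMul q) := ⟨_, fun _ => rfl⟩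
  have hco1 : co 1 = 0 := by rw [hco]; exact map_zero Ψ.symm
  have hcomul : ∀ a b, co (a * b) = co a + co b := fun a b => by
    rw [hco, hco, hco]; exact map_add Ψ.symm _ _
  have hcoinv : ∀ a, co a⁻¹ = -co a := fun a => by
    rw [hco, hco]; exact map_neg Ψ.symm _
  have hcoinj : ∀ a, co a = 0 → a = 1 := by
    intro a h
    rw [hco] at h
    have h1 := Ψ.symm.injective (h.trans (map_zero Ψ.symm).symm)
    exact h1
  have hcoconj : ∀ (g : G) (q : ↥Q) (h : g * q * g⁻¹ ∈ Q) (i : Fin k),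
      co ⟨g * q * g⁻¹, h⟩ i = (π g).1 *ᵥ (co q i) := by
    intro g q h i
    have e1 : Additive.ofMul (⟨g * q * g⁻¹, h⟩ : ↥Q) = π g • Additive.ofMul q := by
      apply Additive.toMul.injective
      apply Subtype.ext
      exact (hsmQ g (Additive.ofMul q)).symm
    rw [hco, hco, e1, hΦ]
  have hcosurj : ∀ c : Fin k → Fin 2 → K, ∃ q : ↥Q, co q = c := fun c =>
    ⟨Additive.toMul (Ψ c), by rw [hco]; exact Ψ.symm_apply_apply c⟩
  obtain ⟨V, hV⟩ : ∃ V : Fin k → Subgroup G,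
      ∀ i g, g ∈ V i ↔ ∃ h : g ∈ Q, ∀ j, j ≠ i → co ⟨g, h⟩ j = 0 :=
    ⟨fun i =>
      { carrier := {g | ∃ h : g ∈ Q, ∀ j, j ≠ i → co ⟨g, h⟩ j = 0}
        one_mem' := ⟨Q.one_mem, fun j _ => by
          have e1 : (⟨1, Q.one_mem⟩ : ↥Q) = 1 := rfl
          rw [e1, hco1]; rfl⟩
        mul_mem' := by
          rintro a b ⟨ha, hac⟩ ⟨hb, hbc⟩
          refine ⟨Q.mul_mem ha hb, fun j hj => ?_⟩
          have e1 : (⟨a * b, Q.mul_mem ha hb⟩ : ↥Q) = ⟨a, ha⟩ * ⟨b, hb⟩ := rfl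
          rw [e1, hcomul, Pi.add_apply, hac j hj, hbc j hj, add_zero]
        inv_mem' := by
          rintro a ⟨ha, hac⟩
          refine ⟨Q.inv_mem ha, fun j hj => ?_⟩
          have e1 : (⟨a⁻¹, Q.inv_mem ha⟩ : ↥Q) = (⟨a, ha⟩ : ↥Q)⁻¹ := rfl
          rw [e1, hcoinv, Pi.neg_apply, hac j hj, neg_zero] }, fun i g => Iff.rfl⟩
  have hVQ : ∀ i, V i ≤ Q := fun i g hg => ((hV i g).mp hg).1
  have hVn : ∀ i, (V i).Normal := fun i => ⟨fun v hv g => by
    obtain ⟨hvQ, hvc⟩ := (hV i v).mp hv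
    rw [hV]
    have hmem : g * v * g⁻¹ ∈ Q := hQnorm.conj_mem v hvQ g
    refine ⟨hmem, fun j hj => ?_⟩
    rw [hcoconj g ⟨v, hvQ⟩ hmem j, hvc j hj, Matrix.mulVec_zero]⟩
  have hact : ∀ i, Cfsg.ActsAsSL2OnSection K ⊤ ⊤ (V i) ⊥ := by
    intro i
    refine ⟨?_, bot_le, ?_⟩
    · intro g _
      rw [Subgroup.mem_normalizer_iff]
      intro v
      constructor
      · intro hv
        exact (hVn i).conj_mem v hv g
      · intro hv
        have h1 := (hVn i).conj_mem _ hv g⁻¹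
        have e1 : g⁻¹ * (g * v * g⁻¹) * g⁻¹⁻¹ = v := by group
        rwa [e1] at h1
    · obtain ⟨ψ, hψ⟩ : ∃ ψ : ↥(V i) →* Multiplicative (Fin 2 → K),
          ∀ u : ↥(V i), Multiplicative.toAdd (ψ u) = co ⟨u.1, hVQ i u.2⟩ i :=
        ⟨{ toFun := fun u => Multiplicative.ofAdd (co ⟨u.1, hVQ i u.2⟩ i)
           map_one' := by
             have e1 : (⟨((1 : ↥(V i)) : G), hVQ i (1 : ↥(V i)).2⟩ : ↥Q) = 1 := rfl
             rw [e1, hco1]; rfl
           map_mul' := fun a b => by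
             have e1 : (⟨((a * b : ↥(V i)) : G), hVQ i (a * b).2⟩ : ↥Q)
                 = ⟨a.1, hVQ i a.2⟩ * ⟨b.1, hVQ i b.2⟩ := rfl
             rw [e1, hcomul]; rfl }, fun u => rfl⟩
      refine ⟨π.comp (⊤ : Subgroup G).subtype, ψ, ?_, ?_, ?_, ?_⟩
      · rw [eq_top_iff]
        intro s _
        obtain ⟨g, rfl⟩ := hπs s
        exact ⟨⟨g, Subgroup.mem_top g⟩, rfl⟩
      · intro d
        obtain ⟨q, hq⟩ := hcosurj (Pi.single i (Multiplicative.toAdd d))
        have hqV : (q : G) ∈ V i := by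
          rw [hV]
          refine ⟨q.2, fun j hj => ?_⟩
          show co q j = 0
          rw [hq, Pi.single_eq_of_ne hj]
        refine ⟨⟨q.1, hqV⟩, ?_⟩
        apply Multiplicative.toAdd.injective
        rw [hψ]
        show co q i = Multiplicative.toAdd d
        rw [hq, Pi.single_eq_same]
      · intro u
        rw [Subgroup.mem_bot]
        constructor
        · intro h1
          have h0 : co ⟨u.1, hVQ i u.2⟩ i = 0 := by rw [← hψ, h1]; rfl
          have hall : co ⟨u.1, hVQ i u.2⟩ = 0 := by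
            funext j
            by_cases hj : j = i
            · rw [hj, h0]; rfl
            · exact ((hV i u.1).mp u.2).2 j hj
          exact congrArg Subtype.val (hcoinj _ hall)
        · intro h1
          have hu : u = 1 := Subtype.ext h1
          rw [hu, map_one]
      · intro g u
        have hmem : (g : G) * (u : G) * (g : G)⁻¹ ∈ V i := (hVn i).conj_mem u.1 u.2 g.1
        refine ⟨⟨_, hmem⟩, rfl, ?_⟩
        rw [hψ, hψ]
        exact hcoconj g.1 ⟨u.1, hVQ i u.2⟩ _ i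
  have hindep : iSupIndep V := by
    intro i
    rw [Subgroup.disjoint_def]
    intro g hgi hgj
    obtain ⟨W, hW⟩ : ∃ W : Subgroup G, ∀ g, g ∈ W ↔ ∃ h : g ∈ Q, co ⟨g, h⟩ i = 0 :=
      ⟨{ carrier := {g | ∃ h : g ∈ Q, co ⟨g, h⟩ i = 0}
         one_mem' := ⟨Q.one_mem, by
           have e1 : (⟨1, Q.one_mem⟩ : ↥Q) = 1 := rfl
           rw [e1, hco1]; rfl⟩
         mul_mem' := by
           rintro a b ⟨ha, hac⟩ ⟨hb, hbc⟩
           refine ⟨Q.mul_mem ha hb, ?_⟩
           have e1 : (⟨a * b, Q.mul_mem ha hb⟩ : ↥Q) = ⟨a, ha⟩ * ⟨b, hb⟩ := rfl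
           rw [e1, hcomul, Pi.add_apply, hac, hbc, add_zero]
         inv_mem' := by
           rintro a ⟨ha, hac⟩
           refine ⟨Q.inv_mem ha, ?_⟩
           have e1 : (⟨a⁻¹, Q.inv_mem ha⟩ : ↥Q) = (⟨a, ha⟩ : ↥Q)⁻¹ := rfl
           rw [e1, hcoinv, Pi.neg_apply, hac, neg_zero] }, fun g => Iff.rfl⟩
    have hle : (⨆ j, ⨆ (_ : j ≠ i), V j) ≤ W := iSup₂_le (fun j hj g hg => by
      obtain ⟨hgQ, hgc⟩ := (hV j g).mp hg
      rw [hW]
      exact ⟨hgQ, hgc i (Ne.symm hj)⟩)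
    obtain ⟨hgQ, hg0⟩ := (hW g).mp (hle hgj)
    obtain ⟨_, hgc⟩ := (hV i g).mp hgi
    have hall : co ⟨g, hgQ⟩ = 0 := by
      funext j
      by_cases hj : j = i
      · rw [hj, hg0]; rfl
      · exact hgc j hj
    exact congrArg Subtype.val (hcoinj _ hall)
  have hsup : ⨆ i, V i = Q := by
    apply le_antisymm (iSup_le hVQ)
    intro q hq
    obtain ⟨T, hT⟩ : ∃ T : AddSubgroup (Fin k → Fin 2 → K),
        ∀ c, c ∈ T ↔ ∀ q' : ↥Q, co q' = c → (q' : G) ∈ ⨆ i, V i :=
      ⟨{ carrier := {c | ∀ q' : ↥Q, co q' = c → (q' : G) ∈ ⨆ i, V i}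
         zero_mem' := fun q' h => by
           rw [hcoinj q' h]; exact Subgroup.one_mem _
         add_mem' := by
           rintro c d hc hd q' h
           obtain ⟨a, ha⟩ := hcosurj c
           obtain ⟨b, hb⟩ := hcosurj d
           have e1 : q' = a * b := by
             have h0 : co (q' * (a * b)⁻¹) = 0 := by
               rw [hcomul, hcoinv, hcomul, h, ha, hb]; abel
             exact mul_inv_eq_one.mp (hcoinj _ h0)
           rw [e1]
           exact Subgroup.mul_mem _ (hc a ha) (hd b hb)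
         neg_mem' := by
           rintro c hc q' h
           obtain ⟨a, ha⟩ := hcosurj c
           have e1 : q' = a⁻¹ := by
             have h0 : co (q' * a) = 0 := by
               rw [hcomul, h, ha]; abel
             exact mul_eq_one_iff_eq_inv.mp (hcoinj _ h0)
           rw [e1]
           exact Subgroup.inv_mem _ (hc a ha) }, fun c => Iff.rfl⟩
    have hsingle : ∀ i (d : Fin 2 → K), Pi.single i d ∈ T := by
      intro i d
      rw [hT]
      intro q' hq'
      apply Subgroup.mem_iSup_of_mem i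
      rw [hV]
      refine ⟨q'.2, fun j hj => ?_⟩
      show co q' j = 0
      rw [hq', Pi.single_eq_of_ne hj]
    have hall : co ⟨q, hq⟩ ∈ T := by
      rw [← Finset.univ_sum_single (co ⟨q, hq⟩)]
      exact T.sum_mem (fun i _ => hsingle i _)
    exact (hT _).mp hall ⟨q, hq⟩ rfl
  exact ⟨k, V, fun i => ⟨hVQ i, hVn i, hact i⟩, hindep, hsup⟩

end Cfsg.Agent.S3050
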