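import Mathlib
import Cfsg.Statements.S3053
import Cfsg.Agent.Lib.helper3.Class2
import Cfsg.Agent.Lib.helper3.PGroupFrattini
import Cfsg.Agent.Lib.helper55.SylowExtra
import Cfsg.Agent.Lib.helper29.Basic

set_option autoImplicit false
open Cfsg

namespace Cfsg.Agent.S3053

open scoped commutatorElement Pointwise
open Cfsg.Agent.Lib

/-- A subgroup strictly between `H` and `K` with `|K| = p |H|` does not exist. -/
theorem idx {G : Type*} [Group G] [Finite G] {p : ℕ} [Fact p.Prime] {H K L : Subgroup G} {a : ℕ}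
    (hH : Nat.card H = p ^ a) (hK : Nat.card K = p ^ (a + 1)) (hHL : H ≤ L) (hLK : L ≤ K)
    {t : G} (htL : t ∈ L) (htH : t ∉ H) : K ≤ L := by
  have hp : p.Prime := Fact.out
  have h1 : Nat.card H ∣ Nat.card L := Subgroup.card_dvd_of_le hHL
  have h2 : Nat.card L ∣ Nat.card K := Subgroup.card_dvd_of_le hLK
  rw [hK] at h2
  rw [hH] at h1
  obtain ⟨k, hk, hkL⟩ := (Nat.dvd_prime_pow hp).mp h2
  rw [hkL] at h1
  have hak : a ≤ k := (Nat.pow_dvd_pow_iff_le_right hp.one_lt).mp h1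
  rcases Nat.lt_or_ge a k with h | h
  · have hk1 : k = a + 1 := by omega
    have : L = K := Subgroup.eq_of_le_of_card_ge hLK (by rw [hK, hkL, hk1])
    exact this.ge
  · exfalso
    apply htH
    have hk1 : k = a := by omega
    have : H = L := Subgroup.eq_of_le_of_card_ge hHL (by rw [hH, hkL, hk1])
    rw [this]; exact htL

/-- Structure of an extraspecial group of order `p ^ 3` and exponent `p ^ 2`, `p` odd. -/
theorem pkg {Q : Type*} [Group Q] [Finite Q] {p : ℕ} [Fact p.Prime] (hp : p ≠ 2)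
    (hE : Cfsg.IsExtraspecial p Q) (hcard : Nat.card Q = p ^ 3)
    (hexp : Monoid.exponent Q = p ^ 2) :
    ∃ EQ : Subgroup Q, (∀ a, a ∈ EQ ↔ a ^ p = 1) ∧ Nat.card EQ = p ^ 2 ∧
      (∀ a ∈ EQ, ∀ b ∈ EQ, a * b = b * a) ∧ Subgroup.center Q ≤ EQ ∧
      (∀ a b : Q, a * b * a⁻¹ * b⁻¹ ∈ Subgroup.center Q) ∧
      (∀ a : Q, a ^ p ∈ Subgroup.center Q) ∧
      (∀ a b : Q, (a * b) ^ p = a ^ p * b ^ p) ∧ (∃ a : Q, a ^ p ≠ 1) := by
  have hpp : p.Prime := Fact.out
  obtain ⟨⟨hpg, hfr, hcm⟩, hcz⟩ := hE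
  have hcomm : ∀ a b : Q, ⁅a, b⁆ ∈ Subgroup.center Q := by
    intro a b
    rw [← hcm, commutator_def]
    exact Subgroup.commutator_mem_commutator (Subgroup.mem_top a) (Subgroup.mem_top b)
  have hcc : helper3.CommCentral Q := fun x y z =>
    (Subgroup.mem_center_iff.mp (hcomm x y) z).symm
  have hpz : ∀ a : Q, a ^ p ∈ Subgroup.center Q := by
    intro a
    rw [← hfr]
    exact helper3.pow_prime_mem_frattini hpg a
  have hzp : ∀ z ∈ Subgroup.center Q, z ^ p = 1 := by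
    intro z hz
    have h := pow_card_eq_one' (G := Subgroup.center Q) (x := ⟨z, hz⟩)
    rw [hcz] at h
    have := congrArg Subtype.val h
    simpa using this
  have hmp : ∀ a b : Q, (a * b) ^ p = a ^ p * b ^ p := fun a b =>
    helper3.mul_pow_prime_class2 hcc hpp hp a b (hzp _ (hcomm b a))
  have hex : ∃ a : Q, a ^ p ≠ 1 := by
    by_contra h
    push Not at h
    have h1 : Monoid.exponent Q ∣ p := Monoid.exponent_dvd_of_forall_pow_eq_one h
    rw [hexp] at h1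
    have h2 := Nat.le_of_dvd hpp.pos h1
    have h3 := hpp.two_le
    nlinarith
  let φ : Q →* Q := { toFun := fun a => a ^ p, map_one' := one_pow p, map_mul' := hmp }
  have hφ : ∀ a, φ a = a ^ p := fun a => rfl
  have hrange_le : φ.range ≤ Subgroup.center Q := by
    rintro _ ⟨a, rfl⟩
    exact hpz a
  have hrange_ne : φ.range ≠ ⊥ := by
    intro h
    obtain ⟨a, ha⟩ := hex
    apply ha
    have : φ a ∈ φ.range := ⟨a, rfl⟩
    rw [h, Subgroup.mem_bot] at this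
    exact this
  have hrange_card : Nat.card φ.range = p := by
    have h1 : Nat.card φ.range ∣ Nat.card (Subgroup.center Q) := Subgroup.card_dvd_of_le hrange_le
    rw [hcz] at h1
    rcases (Nat.dvd_prime hpp).mp h1 with h | h
    · exact absurd (Subgroup.card_eq_one.mp h) hrange_ne
    · exact h
  have hker_card : Nat.card φ.ker = p ^ 2 := by
    have h1 := Subgroup.card_mul_index φ.ker
    rw [Subgroup.index_ker, hrange_card, hcard] at h1
    have : Nat.card φ.ker * p = p ^ 2 * p := by rw [h1]; ring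
    exact Nat.eq_of_mul_eq_mul_right hpp.pos this
  refine ⟨φ.ker, fun a => ?_, hker_card, ?_, ?_, ?_, hpz, hmp, hex⟩
  · rw [MonoidHom.mem_ker, hφ]
  · intro a ha b hb
    have := IsPGroup.commutative_of_card_eq_prime_sq hker_card ⟨a, ha⟩ ⟨b, hb⟩
    exact congrArg Subtype.val this
  · intro z hz
    rw [MonoidHom.mem_ker, hφ]
    exact hzp z hz
  · intro a b
    have := hcomm a b
    rwa [commutatorElement_def] at this

set_option maxHeartbeats 1000000 in
/-- The main argument, with the structure of `P` given elementwise inside `G`. -/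
theorem core {G : Type*} [Group G] [Finite G] {p : ℕ} [Fact p.Prime] (hp : p ≠ 2)
    (P : Sylow p G) (Z E : Subgroup G)
    (hZE : Z ≤ E) (hEP : E ≤ (P : Subgroup G))
    (hEmem : ∀ a ∈ (P : Subgroup G), a ^ p = 1 → a ∈ E)
    (hEpow : ∀ a ∈ E, a ^ p = 1)
    (hZc : ∀ z ∈ Z, ∀ a ∈ (P : Subgroup G), a * z = z * a)
    (hZmem : ∀ y ∈ (P : Subgroup G), (∀ a ∈ (P : Subgroup G), a * y = y * a) → y ∈ Z)
    (hcomm : ∀ a ∈ (P : Subgroup G), ∀ b ∈ (P : Subgroup G), a * b * a⁻¹ * b⁻¹ ∈ Z)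
    (hpowZ : ∀ a ∈ (P : Subgroup G), a ^ p ∈ Z)
    (hmulpow : ∀ a ∈ (P : Subgroup G), ∀ b ∈ (P : Subgroup G), (a * b) ^ p = a ^ p * b ^ p)
    (hcardZ : Nat.card Z = p) (hcardE : Nat.card E = p ^ 2)
    (hcardP : Nat.card (P : Subgroup G) = p ^ 3)
    (hEab : ∀ a ∈ E, ∀ b ∈ E, a * b = b * a)
    (hex : ∃ a ∈ (P : Subgroup G), a ^ p ≠ 1) :
    ∀ x ∈ Z, ∀ g : G, g * x * g⁻¹ ∈ (P : Subgroup G) → g * x * g⁻¹ ∈ Z := by
  have hpp : p.Prime := Fact.out
  have hZP : Z ≤ (P : Subgroup G) := hZE.trans hEP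
  -- an element of `P` centralized by `E` and by some element outside `E` is central
  have hG5' : ∀ y ∈ (P : Subgroup G), (∀ e ∈ E, e * y = y * e) →
      ∀ t ∈ (P : Subgroup G), t ∉ E → t * y = y * t → y ∈ Z := by
    intro y hy hyE t ht htE hty
    apply hZmem y hy
    have hL : (P : Subgroup G) ≤ Subgroup.centralizer {y} ⊓ (P : Subgroup G) := by
      refine idx (a := 2) hcardE hcardP ?_ inf_le_right (t := t) ?_ htE
      · intro e he
        refine Subgroup.mem_inf.mpr ⟨?_, hEP he⟩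
        rw [Subgroup.mem_centralizer_iff]
        intro h hh
        rw [Set.mem_singleton_iff] at hh
        rw [hh]; exact (hyE e he).symm
      · refine Subgroup.mem_inf.mpr ⟨?_, ht⟩
        rw [Subgroup.mem_centralizer_iff]
        intro h hh
        rw [Set.mem_singleton_iff] at hh
        rw [hh]; exact hty.symm
    intro a ha
    have := (Subgroup.mem_inf.mp (hL ha)).1
    rw [Subgroup.mem_centralizer_iff] at this
    exact (this y rfl).symm
  have hG5 : ∀ d ∈ (P : Subgroup G), (∀ e ∈ E, e * d = d * e) → d ∈ E := by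
    intro d hd hdE
    by_contra hdn
    exact hdn (hZE (hG5' d hd hdE d hd hdn rfl))
  -- every nontrivial element of `Z` generates it
  have hZgen : ∀ z ∈ Z, z ≠ 1 → Z ≤ Subgroup.zpowers z := by
    intro z hz hz1
    refine idx (a := 0) (H := ⊥) (by simp) (by simpa using hcardZ) bot_le
      (Subgroup.zpowers_le.mpr hz) (t := z) (Subgroup.mem_zpowers z) ?_
    rwa [Subgroup.mem_bot]
  obtain ⟨t, htP, htp⟩ := hex
  have htE : t ∉ E := fun h => htp (hEpow t h)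
  -- transvections
  have hT : ∀ e ∈ E, e ∉ Z → ∀ z₀ ∈ Z, ∃ v ∈ (P : Subgroup G), v * e * v⁻¹ = e * z₀ := by
    intro e he heZ z₀ hz₀
    have heP := hEP he
    obtain ⟨z, hz⟩ : ∃ z, z = t * e * t⁻¹ * e⁻¹ := ⟨_, rfl⟩
    have hzZ : z ∈ Z := by rw [hz]; exact hcomm t htP e heP
    have hz1 : z ≠ 1 := by
      intro h1
      apply heZ
      refine hG5' e heP (fun e' he' => hEab e' he' e he) t htP htE ?_
      have : t * e = z * e * t := by rw [hz]; group
      rw [this, h1, one_mul]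
    obtain ⟨k, hk⟩ := (Submonoid.mem_powers_iff _ _).mp
      (mem_powers_iff_mem_zpowers.mpr (hZgen z hzZ hz1 hz₀))
    have hconj : t * e * t⁻¹ = e * z := by
      have h1 : t * e * t⁻¹ = z * e := by rw [hz]; group
      rw [h1]
      exact (hZc z hzZ e heP).symm
    have hpow : ∀ n : ℕ, t ^ n * e * (t ^ n)⁻¹ = e * z ^ n := by
      intro n
      induction n with
      | zero => simp
      | succ n ih =>
        have h1 : t ^ (n + 1) * e * (t ^ (n + 1))⁻¹ = t * (t ^ n * e * (t ^ n)⁻¹) * t⁻¹ := by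
          rw [pow_succ']; group
        rw [h1, ih]
        have h2 : t * (e * z ^ n) * t⁻¹ = (t * e * t⁻¹) * (t * z ^ n * t⁻¹) := by group
        have h3 : t * z ^ n * t⁻¹ = z ^ n := by
          have := hZc (z ^ n) (Z.pow_mem hzZ n) t htP
          rw [this]; group
        rw [h2, h3, hconj, pow_succ', mul_assoc]
    refine ⟨t ^ k, (P : Subgroup G).pow_mem htP k, ?_⟩
    rw [hpow k, hk]
  intro x hxZ g hyP
  by_contra hyZ
  obtain ⟨y, hy⟩ : ∃ y, y = g * x * g⁻¹ := ⟨_, rfl⟩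
  rw [← hy] at hyP hyZ
  have hx1 : x ≠ 1 := by
    intro h
    apply hyZ
    rw [hy, h]
    simp [Z.one_mem]
  have hxE : x ∈ E := hZE hxZ
  have hxP : x ∈ (P : Subgroup G) := hEP hxE
  have hyE : y ∈ E := by
    apply hEmem y hyP
    rw [hy, conj_pow, hEpow x hxE]; simp
  have hxy : x * y = y * x := hEab x hxE y hyE
  -- Sylow's theorem inside the centralizer of `y`
  have hEp : IsPGroup p E := IsPGroup.of_card hcardE
  have hgP : ((g • P : Sylow p G) : Subgroup G) ≤ Subgroup.centralizer {y} := by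
    intro b hb
    have hb' : g⁻¹ * b * g ∈ (P : Subgroup G) := (helper55.mem_sylow_smul_iff P g b).mp hb
    rw [Subgroup.mem_centralizer_iff]
    intro h hh
    rw [Set.mem_singleton_iff] at hh
    rw [hh]
    have h1 := hZc x hxZ _ hb'
    have h2 : y * b = g * (x * (g⁻¹ * b * g)) * g⁻¹ := by rw [hy]; group
    rw [h2, ← h1, hy]; group
  have hEy : E ≤ Subgroup.centralizer {y} := by
    intro e he
    rw [Subgroup.mem_centralizer_iff]
    intro h hh
    rw [Set.mem_singleton_iff] at hh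
    rw [hh]
    exact hEab y hyE e he
  obtain ⟨c, hc, hcE⟩ :=
    helper55.pGroup_conj_into_sylow (g • P) (Subgroup.centralizer {y}) hgP hEp hEy
  rw [Subgroup.mem_centralizer_iff] at hc
  have hcy : y * c = c * y := hc y rfl
  obtain ⟨h, hh⟩ : ∃ h, h = c * g := ⟨_, rfl⟩
  have hhx : h * x * h⁻¹ = y := by
    have h1 : h * x * h⁻¹ = c * y * c⁻¹ := by rw [hh, hy]; group
    rw [h1, ← hcy]; group
  have hhE : ∀ e ∈ E, h⁻¹ * e * h ∈ E := by
    intro e he
    have h1 : g⁻¹ * (c⁻¹ * e * c) * g ∈ (P : Subgroup G) :=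
      (helper55.mem_sylow_smul_iff P g _).mp (hcE e he)
    have h2 : h⁻¹ * e * h = g⁻¹ * (c⁻¹ * e * c) * g := by rw [hh]; group
    rw [h2]
    apply hEmem _ h1
    have h3 : g⁻¹ * (c⁻¹ * e * c) * g = (g⁻¹ * c⁻¹) * e * (g⁻¹ * c⁻¹)⁻¹ := by group
    rw [h3, conj_pow, hEpow e he]; simp
  have hhN : ∀ e, e ∈ E → h * e * h⁻¹ ∈ E := by
    have h1 : h⁻¹ ∈ Subgroup.normalizer (E : Set G) := by
      apply Subgroup.mem_normalizer_fintype
      intro n hn
      have := hhE n hn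
      simpa using this
    have h2 : h ∈ Subgroup.normalizer (E : Set G) := by
      simpa using Subgroup.inv_mem _ h1
    intro e he
    exact (Subgroup.mem_normalizer_iff.mp h2 e).mp he
  obtain ⟨x', hx'⟩ : ∃ x', x' = h⁻¹ * x * h := ⟨_, rfl⟩
  have hx'E : x' ∈ E := by rw [hx']; exact hhE x hxE
  have hhx' : h * x' * h⁻¹ = x := by rw [hx']; group
  have hx'Z : x' ∉ Z := by
    intro hx'Z
    have hx'1 : x' ≠ 1 := by
      intro h1
      apply hx1
      rw [← hhx', h1]; simp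
    obtain ⟨k, hk⟩ := Subgroup.mem_zpowers_iff.mp (hZgen x' hx'Z hx'1 hxZ)
    apply hyZ
    rw [← hhx, ← hk, ← conj_zpow, hhx']
    exact Z.zpow_mem hxZ k
  -- the two transvections
  obtain ⟨u, huP, huy⟩ := hT y hyE hyZ x hxZ
  have hux : u * x * u⁻¹ = x := by
    have := hZc x hxZ u huP
    rw [this]; group
  obtain ⟨v, hvP, hvx'⟩ := hT x' hx'E hx'Z x⁻¹ (Z.inv_mem hxZ)
  have hvx : v * x * v⁻¹ = x := by
    have := hZc x hxZ v hvP
    rw [this]; group
  obtain ⟨l, hl⟩ : ∃ l, l = h * v * h⁻¹ := ⟨_, rfl⟩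
  have hlx : l * x * l⁻¹ = x * y⁻¹ := by
    have h1 : l * x * l⁻¹ = h * (v * (h⁻¹ * x * h) * v⁻¹) * h⁻¹ := by rw [hl]; group
    rw [h1, ← hx', hvx']
    have h2 : h * (x' * x⁻¹) * h⁻¹ = (h * x' * h⁻¹) * (h * x * h⁻¹)⁻¹ := by group
    rw [h2, hhx', hhx]
  have hly : l * y * l⁻¹ = y := by
    have h1 : l * y * l⁻¹ = h * (v * (h⁻¹ * y * h) * v⁻¹) * h⁻¹ := by rw [hl]; group
    have h2 : h⁻¹ * y * h = x := by rw [← hhx]; group
    rw [h1, h2, hvx, hhx]
  obtain ⟨w, hw⟩ : ∃ w, w = u * l * u := ⟨_, rfl⟩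
  have hwx : w * x * w⁻¹ = y⁻¹ := by
    have h1 : w * x * w⁻¹ = u * (l * (u * x * u⁻¹) * l⁻¹) * u⁻¹ := by rw [hw]; group
    rw [h1, hux, hlx]
    have h2 : u * (x * y⁻¹) * u⁻¹ = (u * x * u⁻¹) * (u * y * u⁻¹)⁻¹ := by group
    rw [h2, hux, huy]; group
  have hwy : w * y * w⁻¹ = x := by
    have h1 : w * y * w⁻¹ = u * (l * (u * y * u⁻¹) * l⁻¹) * u⁻¹ := by rw [hw]; group
    rw [h1, huy]
    have h2 : l * (y * x) * l⁻¹ = (l * y * l⁻¹) * (l * x * l⁻¹) := by group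
    rw [h2, hly, hlx]
    have h3 : y * (x * y⁻¹) = x := by rw [← mul_assoc, ← hxy]; group
    rw [h3, hux]
  obtain ⟨τ, hτ⟩ : ∃ τ, τ = w * w := ⟨_, rfl⟩
  have hτx : τ * x * τ⁻¹ = x⁻¹ := by
    have h1 : τ * x * τ⁻¹ = w * (w * x * w⁻¹) * w⁻¹ := by rw [hτ]; group
    rw [h1, hwx]
    have h2 : w * y⁻¹ * w⁻¹ = (w * y * w⁻¹)⁻¹ := by group
    rw [h2, hwy]
  have hτy : τ * y * τ⁻¹ = y⁻¹ := by
    have h1 : τ * y * τ⁻¹ = w * (w * y * w⁻¹) * w⁻¹ := by rw [hτ]; group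
    rw [h1, hwy, hwx]
  -- `τ` inverts `E`
  have hτE : ∀ e ∈ E, τ * e * τ⁻¹ = e⁻¹ := by
    let I : Subgroup G :=
      { carrier := {e | e ∈ E ∧ τ * e * τ⁻¹ = e⁻¹}
        one_mem' := ⟨E.one_mem, by simp⟩
        mul_mem' := by
          rintro a b ⟨ha, ha'⟩ ⟨hb, hb'⟩
          refine ⟨E.mul_mem ha hb, ?_⟩
          have h1 : τ * (a * b) * τ⁻¹ = (τ * a * τ⁻¹) * (τ * b * τ⁻¹) := by group
          rw [h1, ha', hb', mul_inv_rev]
          exact hEab _ (E.inv_mem ha) _ (E.inv_mem hb)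
        inv_mem' := by
          rintro a ⟨ha, ha'⟩
          refine ⟨E.inv_mem ha, ?_⟩
          have h1 : τ * a⁻¹ * τ⁻¹ = (τ * a * τ⁻¹)⁻¹ := by group
          rw [h1, ha'] }
    have hI : ∀ e, e ∈ I ↔ (e ∈ E ∧ τ * e * τ⁻¹ = e⁻¹) := fun e => Iff.rfl
    have hIE : I ≤ E := fun e he => ((hI e).mp he).1
    have hxI : x ∈ I := (hI x).mpr ⟨hxE, hτx⟩
    have hyI : y ∈ I := (hI y).mpr ⟨hyE, hτy⟩
    have hZI : Z ≤ I := (hZgen x hxZ hx1).trans (Subgroup.zpowers_le.mpr hxI)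
    have hEI := idx (a := 1) (by rw [hcardZ, pow_one]) hcardE hZI hIE hyI hyZ
    intro e he
    exact ((hI e).mp (hEI he)).2
  have hPE : ∀ a ∈ (P : Subgroup G), ∀ e ∈ E, a * e * a⁻¹ ∈ E := by
    intro a ha e he
    apply hEmem _ ((P : Subgroup G).mul_mem ((P : Subgroup G).mul_mem ha (hEP he))
      ((P : Subgroup G).inv_mem ha))
    rw [conj_pow, hEpow e he]; simp
  -- an element inverting `E` commutes with `P` modulo the centralizer of `E`
  have hcent : ∀ ν : G, (∀ e ∈ E, ν * e * ν⁻¹ = e⁻¹) → ∀ a ∈ (P : Subgroup G), ∀ e ∈ E,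
      e * (ν * a * ν⁻¹ * a⁻¹) = (ν * a * ν⁻¹ * a⁻¹) * e := by
    intro ν hν a ha e he
    obtain ⟨e₁, he₁⟩ : ∃ e₁, e₁ = a⁻¹ * e * a := ⟨_, rfl⟩
    have he1 : e₁ ∈ E := by
      have := hPE a⁻¹ ((P : Subgroup G).inv_mem ha) e he
      rw [he₁]
      simpa using this
    have h1 : ν * e₁⁻¹ * ν⁻¹ = e₁ := by
      rw [hν _ (E.inv_mem he1), inv_inv]
    have h2 : ν * e⁻¹ * ν⁻¹ = e := by rw [hν _ (E.inv_mem he), inv_inv]
    have h4 : ν⁻¹ * e₁ * ν = e₁⁻¹ := by
      have : ν⁻¹ * (ν * e₁⁻¹ * ν⁻¹) * ν = e₁⁻¹ := by group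
      rw [h1] at this
      exact this
    have h5 : a * e₁⁻¹ * a⁻¹ = e⁻¹ := by rw [he₁]; group
    have h3 : (ν * a * ν⁻¹ * a⁻¹) * e * (ν * a * ν⁻¹ * a⁻¹)⁻¹
        = ν * (a * (ν⁻¹ * e₁ * ν) * a⁻¹) * ν⁻¹ := by rw [he₁]; group
    have h6 : (ν * a * ν⁻¹ * a⁻¹) * e * (ν * a * ν⁻¹ * a⁻¹)⁻¹ = e := by
      rw [h3, h4, h5, h2]
    exact (mul_inv_eq_iff_eq_mul.mp h6).symm
  have hτP : ((τ • P : Sylow p G) : Subgroup G) ≤
      Subgroup.centralizer (E : Set G) ⊔ (P : Subgroup G) := by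
    intro b hb
    have hb' : τ⁻¹ * b * τ ∈ (P : Subgroup G) := (helper55.mem_sylow_smul_iff P τ b).mp hb
    have h1 : b = (τ * (τ⁻¹ * b * τ) * τ⁻¹ * (τ⁻¹ * b * τ)⁻¹) * (τ⁻¹ * b * τ) := by group
    rw [h1]
    refine Subgroup.mul_mem _ (Subgroup.mem_sup_left ?_) (Subgroup.mem_sup_right hb')
    rw [Subgroup.mem_centralizer_iff]
    intro e he
    exact hcent τ hτE _ hb' e he
  obtain ⟨k, hkM, hk⟩ := helper55.sylow_conj_in_subgroup P (τ • P)
    (Subgroup.centralizer (E : Set G) ⊔ (P : Subgroup G)) le_sup_right hτP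
  have hPnC : (P : Subgroup G) ≤
      Subgroup.normalizer ((Subgroup.centralizer (E : Set G) : Subgroup G) : Set G) := by
    intro a ha
    apply Subgroup.mem_normalizer_fintype
    intro c hc
    rw [SetLike.mem_coe, Subgroup.mem_centralizer_iff] at hc ⊢
    intro e he
    have he1 : a⁻¹ * e * a ∈ E := by
      have := hPE a⁻¹ ((P : Subgroup G).inv_mem ha) e he
      simpa using this
    have h1 := hc _ he1
    have h2 : e * (a * c * a⁻¹) = a * ((a⁻¹ * e * a) * c) * a⁻¹ := by group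
    rw [h2, h1]; group
  have hkinv : k⁻¹ ∈ Subgroup.centralizer (E : Set G) ⊔ (P : Subgroup G) :=
    Subgroup.inv_mem _ hkM
  obtain ⟨c₁, hc₁, a₁, ha₁, hk1⟩ :=
    helper29.exists_mul_of_mem_sup_of_le_normalizer hPnC hkinv
  obtain ⟨ν, hν⟩ : ∃ ν, ν = c₁⁻¹ * τ := ⟨_, rfl⟩
  have hc₁' : ∀ e ∈ E, e * c₁ = c₁ * e := by
    rw [Subgroup.mem_centralizer_iff] at hc₁; exact hc₁
  have hνE : ∀ e ∈ E, ν * e * ν⁻¹ = e⁻¹ := by
    intro e he
    have h1 : ν * e * ν⁻¹ = c₁⁻¹ * (τ * e * τ⁻¹) * c₁ := by rw [hν]; group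
    rw [h1, hτE e he]
    have := hc₁' e⁻¹ (E.inv_mem he)
    rw [mul_assoc, this]; group
  have hνP : ∀ a ∈ (P : Subgroup G), ν * a * ν⁻¹ ∈ (P : Subgroup G) := by
    intro a ha
    have h1 : τ * a * τ⁻¹ ∈ (τ • P : Sylow p G) := by
      rw [helper55.mem_sylow_smul_iff]
      have : τ⁻¹ * (τ * a * τ⁻¹) * τ = a := by group
      rw [this]; exact ha
    have h2 : k * (τ * a * τ⁻¹) * k⁻¹ ∈ (k • (τ • P) : Sylow p G) := by
      rw [helper55.mem_sylow_smul_iff]
      have : k⁻¹ * (k * (τ * a * τ⁻¹) * k⁻¹) * k = τ * a * τ⁻¹ := by group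
      rw [this]; exact h1
    rw [hk] at h2
    have h3 : ν * a * ν⁻¹ = a₁ * (k * (τ * a * τ⁻¹) * k⁻¹) * a₁⁻¹ := by
      have hk' : k = a₁⁻¹ * c₁⁻¹ := by
        rw [← inv_inv k, hk1]; group
      rw [hν, hk']; group
    rw [h3]
    exact (P : Subgroup G).mul_mem ((P : Subgroup G).mul_mem ha₁ h2)
      ((P : Subgroup G).inv_mem ha₁)
  -- final contradiction
  obtain ⟨d, hd⟩ : ∃ d, d = ν * t * ν⁻¹ * t⁻¹ := ⟨_, rfl⟩
  have hdE : d ∈ E := by
    rw [hd]
    apply hG5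
    · exact (P : Subgroup G).mul_mem (hνP t htP) ((P : Subgroup G).inv_mem htP)
    · intro e he; exact hcent ν hνE t htP e he
  have h1 : ν * t * ν⁻¹ = d * t := by rw [hd]; group
  have h2 : (ν * t * ν⁻¹) ^ p = t ^ p := by
    rw [h1, hmulpow d (hEP hdE) t htP, hEpow d hdE, one_mul]
  have h3 : (ν * t * ν⁻¹) ^ p = (t ^ p)⁻¹ := by
    rw [conj_pow]; exact hνE _ (hZE (hpowZ t htP))
  have h4 : t ^ p = (t ^ p)⁻¹ := h2.symm.trans h3
  apply htp
  obtain ⟨z, hz⟩ : ∃ z, z = t ^ p := ⟨_, rfl⟩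
  have hzp : z ^ p = 1 := by rw [hz]; exact hEpow _ (hZE (hpowZ t htP))
  rw [← hz] at h4 ⊢
  have hz2 : z ^ 2 = 1 := by
    have : z * z = z * z⁻¹ := by rw [← h4]
    rw [pow_two, this, mul_inv_cancel]
  obtain ⟨m, hm⟩ : ∃ m, p = 2 * m + 1 := by
    rcases Nat.Prime.eq_two_or_odd hpp with h | h
    · exact absurd h hp
    · exact ⟨p / 2, by omega⟩
  rw [hm, pow_succ, pow_mul, hz2, one_pow, one_mul] at hzp
  exact hzp

/-- Let p be an odd prime and G a finite group with a Sylow p-subgroup P that is extraspecial of order p³ and exponent p². Then the centre of P is strongly closed in P with respect to G: a G-conjugate of an element of Z(P) that lies in P already lies in Z(P). In particular a nontrivial central element of P is conjugate in G to no noncentral element of P. -/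
theorem result {G : Type*} [Group G] [Finite G]
    {p : ℕ} [Fact p.Prime] (hp : p ≠ 2) (P : Sylow p G) (hE : Cfsg.IsExtraspecial p ↥P)
    (hcard : Nat.card P = p ^ 3) (hexp : Monoid.exponent ↥P = p ^ 2) :
    Cfsg.IsStronglyClosed ((Subgroup.center ↥P).map (P : Subgroup G).subtype) (P : Subgroup G) := by
  obtain ⟨EQ, hEQmem, hEQcard, hEQab, hZEQ, hcomm, hpz, hmp, hex⟩ :=
    pkg (Q := ↥P) hp hE hcard hexp
  have hcz : Nat.card (Subgroup.center ↥P) = p := hE.2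
  refine ⟨Subgroup.map_subtype_le _, ?_⟩
  refine core hp P ((Subgroup.center ↥P).map (P : Subgroup G).subtype)
    (EQ.map (P : Subgroup G).subtype) (Subgroup.map_mono hZEQ) (Subgroup.map_subtype_le _)
    ?_ ?_ ?_ ?_ ?_ ?_ ?_ ?_ ?_ hcard ?_ ?_
  · intro a ha hap
    exact ⟨⟨a, ha⟩, (hEQmem _).mpr (Subtype.ext (by simpa using hap)), rfl⟩
  · rintro _ ⟨q, hq, rfl⟩
    have := congrArg Subtype.val ((hEQmem q).mp hq)
    simpa using this
  · rintro _ ⟨z, hz, rfl⟩ a ha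
    have := Subgroup.mem_center_iff.mp hz ⟨a, ha⟩
    exact congrArg Subtype.val this
  · intro y hy hyc
    refine ⟨⟨y, hy⟩, Subgroup.mem_center_iff.mpr ?_, rfl⟩
    intro a
    exact Subtype.ext (hyc a a.2)
  · intro a ha b hb
    exact ⟨_, hcomm ⟨a, ha⟩ ⟨b, hb⟩, rfl⟩
  · intro a ha
    exact ⟨_, hpz ⟨a, ha⟩, rfl⟩
  · intro a ha b hb
    have := congrArg Subtype.val (hmp ⟨a, ha⟩ ⟨b, hb⟩)
    simpa using this
  · rw [Subgroup.card_map_of_injective (Subgroup.subtype_injective _)]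
    exact hcz
  · rw [Subgroup.card_map_of_injective (Subgroup.subtype_injective _)]
    exact hEQcard
  · rintro _ ⟨a, ha, rfl⟩ _ ⟨b, hb, rfl⟩
    exact congrArg Subtype.val (hEQab a ha b hb)
  · obtain ⟨a, ha⟩ := hex
    exact ⟨a, a.2, fun h => ha (Subtype.ext (by simpa using h))⟩

end Cfsg.Agent.S3053
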