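import Mathlib
import Cfsg.Statements.S3054
import Cfsg.Agent.Lib.helper56.ES3b

set_option autoImplicit false

open Cfsg
open scoped commutatorElement

namespace Cfsg.Agent.S3054

open Cfsg.Agent.Lib.helper3 Cfsg.Agent.Lib.helper56.GL2p Cfsg.Agent.Lib.helper56.ES3 Matrix

theorem result {G : Type*} [Group G] [Finite G]
    {p : ℕ} [Fact p.Prime] (hp : p ≠ 2) (P : Sylow p G) (hE : Cfsg.IsExtraspecial p ↥P)
    (hcard : Nat.card P = p ^ 3) (hexp : Monoid.exponent ↥P = p)
    (A : Fin 3 → Subgroup G) (hA : Function.Injective A) (hAP : ∀ i, A i ≤ (P : Subgroup G))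
    (hAcard : ∀ i, Nat.card ↥(A i) = p ^ 2)
    (hSL : ∀ i, ∀ φ : MulAut ↥(A i), orderOf φ = p → ∃ g : G, ∀ a : ↥(A i), (φ a : G) = g * (a : G) * g⁻¹) :
    p ≤ 13 := by
  have hpP : p.Prime := Fact.out
  by_contra hp13
  push Not at hp13
  have hp17 : 17 ≤ p := by
    by_contra hlt
    have h3 : p = 14 ∨ p = 15 ∨ p = 16 := by omega
    rcases h3 with h | h | h <;> rw [h] at hpP <;> norm_num at hpP
  have hE' : Cfsg.IsExtraspecial p ↥(P : Subgroup G) := hE
  have hcard' : Nat.card ↥(P : Subgroup G) = p ^ 3 := hcard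
  have hexp0 : ∀ u : ↥P, u ^ p = 1 := fun u => by
    have h := Monoid.pow_exponent_eq_one u
    rw [hexp] at h
    exact h
  have hexp' : ∀ u : ↥(P : Subgroup G), u ^ p = 1 := hexp0
  obtain ⟨z₀, c, ρ, hC⟩ := exists_coords P hE' hcard'
  obtain ⟨l, hl, hord⟩ := exists_primitive_root p
  have hz : (z₀ : G) ^ p = 1 := by
    have := congrArg Subtype.val (hexp' z₀)
    simpa using this
  have hdata : ∀ i, ∃ a : ↥(P : Subgroup G), (a : G) ∈ A i ∧ c a ≠ 0 ∧ (z₀ : G) ∈ A i ∧
      ∀ u ∈ A i, ∃ v : Fin 2 → ZMod p, ev p (z₀ : G) (a : G) v = u :=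
    fun i => hC.plane hexp' (hAP i) (hAcard i)
  choose a haA hca hzA hsurj using hdata
  have key : ∀ i, ∃ n : ↥(Subgroup.normalizer ((P : Subgroup G) : Set G)),
      (ρ n : Matrix (Fin 2) (Fin 2) (ZMod p)) *ᵥ c (a i) = l⁻¹ • c (a i) ∧
      Matrix.det (ρ n : Matrix (Fin 2) (Fin 2) (ZMod p)) = l := by
    intro i
    have ha' : ((a i : ↥(P : Subgroup G)) : G) ^ p = 1 := by
      have := congrArg Subtype.val (hexp' (a i))
      simpa using this
    have hza : (z₀ : G) * (a i : G) = (a i : G) * z₀ := by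
      have := congrArg Subtype.val (hC.es.central (a i))
      simpa using this.symm
    have hmem : ∀ v, ev p (z₀ : G) (a i : G) v ∈ A i := fun v =>
      (A i).mul_mem ((A i).pow_mem (hzA i) _) ((A i).pow_mem (haA i) _)
    obtain ⟨φ, hφo, hφ⟩ := exists_aut_of_param (A := A i) (ev p (z₀ : G) (a i : G))
      (ev_add hz ha' hza) (hC.ev_injective (hca i)) hmem (hsurj i)
    obtain ⟨y, hy⟩ := hSL i φ hφo
    have hacts : Acts p (z₀ : G) (a i : G) y !![1, 0; 1, 1] := by
      intro v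
      rw [← hφ v, hy]
    exact hC.eigen hexp' (hca i) one_ne_zero hacts hl
  choose n hn using key
  have hv : ∀ i j, i ≠ j → cross (c (a i)) (c (a j)) ≠ 0 := by
    intro i j hij hcr
    apply hij
    apply hA
    obtain ⟨μ, hμ⟩ := exists_smul_of_cross_eq_zero (hca j) hcr
    have h0 : c (a i * a j ^ (-μ).val) = 0 := by
      rw [hC.c_mul, hC.c_pow, ZMod.natCast_zmod_val, hμ, neg_smul, add_neg_cancel]
    obtain ⟨m, -, hm⟩ := hC.es.exists_lt_pow_eq ((hC.c_zero _).mp h0)
    have hm' : (z₀ : G) ^ m = (a i : G) * (a j : G) ^ (-μ).val := by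
      have := congrArg Subtype.val hm
      simpa using this
    have haiAj : (a i : G) ∈ A j := by
      have : (a i : G) = (z₀ : G) ^ m * ((a j : G) ^ (-μ).val)⁻¹ := by rw [hm']; group
      rw [this]
      exact (A j).mul_mem ((A j).pow_mem (hzA j) _) ((A j).inv_mem ((A j).pow_mem (haA j) _))
    have hle : A i ≤ A j := by
      intro u hu
      obtain ⟨v, rfl⟩ := hsurj i u hu
      exact (A j).mul_mem ((A j).pow_mem (hzA j) _) ((A j).pow_mem haiAj _)
    exact Subgroup.eq_of_le_of_card_ge hle (by rw [hAcard, hAcard])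
  have hfin := bound17 (Γ := ρ.range) hp hC.card hl hord
    (fun j => ⟨ρ (n j), MonoidHom.mem_range.mpr ⟨n j, rfl⟩⟩) (fun i => c (a i)) hv
    (fun j => (hn j).1) (fun j => (hn j).2)
  omega

end Cfsg.Agent.S3054
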