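import Mathlib
import Cfsg.Statements.S3055
import Cfsg.Agent.Lib.helper56.ES3

set_option autoImplicit false

open Cfsg
open scoped commutatorElement

namespace Cfsg.Agent.S3055

open Cfsg.Agent.Lib.helper3 Cfsg.Agent.Lib.helper56.GL2p Cfsg.Agent.Lib.helper56.ES3 Matrix

theorem result {G : Type*} [Group G] [Finite G]
    {p : ℕ} [Fact p.Prime] (hp : p ≠ 2) (P : Sylow p G) (hE : Cfsg.IsExtraspecial p ↥P)
    (hcard : Nat.card P = p ^ 3) (hexp : Monoid.exponent ↥P = p)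
    (hconj : ∀ x y : ↥P, x ≠ 1 → y ≠ 1 → ∃ g : G, g * (x : G) * g⁻¹ = (y : G)) :
    p ≤ 7 := by
  have hpP : p.Prime := Fact.out
  by_contra hp7
  push Not at hp7
  have hp11 : 11 ≤ p := by
    by_contra hlt
    have h3 : p = 8 ∨ p = 9 ∨ p = 10 := by omega
    rcases h3 with h | h | h <;> rw [h] at hpP <;> norm_num at hpP
  have hE' : Cfsg.IsExtraspecial p ↥(P : Subgroup G) := hE
  have hcard' : Nat.card ↥(P : Subgroup G) = p ^ 3 := hcard
  have hexp0 : ∀ u : ↥P, u ^ p = 1 := fun u => by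
    have h := Monoid.pow_exponent_eq_one u
    rw [hexp] at h
    exact h
  have hexp' : ∀ u : ↥(P : Subgroup G), u ^ p = 1 := hexp0
  have hconj' : ∀ x y : ↥(P : Subgroup G), x ≠ 1 → y ≠ 1 →
      ∃ g : G, g * (x : G) * g⁻¹ = (y : G) := hconj
  obtain ⟨z₀, c, ρ, hC⟩ := exists_coords P hE' hcard'
  obtain ⟨l, hl, hord⟩ := exists_primitive_root p
  have hz : (z₀ : G) ^ p = 1 := by
    have := congrArg Subtype.val (hexp' z₀)
    simpa using this
  -- every nonzero vector is an eigenvector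
  have key : ∀ w : Fin 2 → ZMod p, w ≠ 0 →
      ∃ n : ↥(Subgroup.normalizer ((P : Subgroup G) : Set G)),
        (ρ n : Matrix (Fin 2) (Fin 2) (ZMod p)) *ᵥ w = l⁻¹ • w ∧
        Matrix.det (ρ n : Matrix (Fin 2) (Fin 2) (ZMod p)) = l := by
    intro w₁ hw₁
    obtain ⟨a, rfl⟩ := hC.c_surj w₁
    have ha1 : a ≠ 1 := by
      rintro rfl
      exact hw₁ hC.c_one
    have hz1 : z₀ ≠ 1 := hC.es.ne_one
    obtain ⟨g₀, hg₀⟩ := hconj' z₀ a hz1 ha1
    have ha' : (a : G) ^ p = 1 := by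
      have := congrArg Subtype.val (hexp' a)
      simpa using this
    have hza : (z₀ : G) * a = a * z₀ := by
      have := congrArg Subtype.val (hC.es.central a)
      simpa using this.symm
    obtain ⟨W, hW⟩ : ∃ W : G, W = g₀⁻¹ * (z₀ : G) * g₀ := ⟨_, rfl⟩
    have hWC : W ∈ Subgroup.centralizer ({(z₀ : G)} : Set G) := by
      rw [Subgroup.mem_centralizer_iff]
      intro x hx
      rw [Set.mem_singleton_iff] at hx
      subst hx
      have e1 : (z₀ : G) * W = g₀⁻¹ * ((g₀ * (z₀ : G) * g₀⁻¹) * (g₀ * W * g₀⁻¹)) * g₀ := by group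
      have e2 : W * (z₀ : G) = g₀⁻¹ * ((g₀ * W * g₀⁻¹) * (g₀ * (z₀ : G) * g₀⁻¹)) * g₀ := by group
      have e3 : g₀ * W * g₀⁻¹ = (z₀ : G) := by rw [hW]; group
      rw [e1, e2, e3, hg₀, hza]
    have hPC : (P : Subgroup G) ≤ Subgroup.centralizer ({(z₀ : G)} : Set G) := by
      intro u hu
      rw [Subgroup.mem_centralizer_iff]
      intro x hx
      rw [Set.mem_singleton_iff] at hx
      subst hx
      have := congrArg Subtype.val (hC.es.central ⟨u, hu⟩)
      simpa using this.symm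
    have hWp : W ^ p ^ 1 = 1 := by
      rw [pow_one, hW]
      have e : g₀⁻¹ * (z₀ : G) * g₀ = g₀⁻¹ * (z₀ : G) * g₀⁻¹⁻¹ := by rw [inv_inv]
      rw [e, conj_pow, hz]
      group
    obtain ⟨k', hk'C, hk'⟩ := Cfsg.Agent.Lib.helper26.exists_conj_mem_sylow_of_le P _ hPC W hWC
      ⟨1, hWp⟩
    obtain ⟨hh, hhdef⟩ : ∃ hh : G, hh = g₀ * k'⁻¹ := ⟨_, rfl⟩
    have hh1 : hh * (z₀ : G) * hh⁻¹ = (a : G) := by
      have hc : (z₀ : G) * k' = k' * (z₀ : G) :=
        (Subgroup.mem_centralizer_iff.mp hk'C) (z₀ : G) rfl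
      rw [hhdef]
      calc g₀ * k'⁻¹ * (z₀ : G) * (g₀ * k'⁻¹)⁻¹ = g₀ * (k'⁻¹ * ((z₀ : G) * k')) * g₀⁻¹ := by group
        _ = g₀ * (k'⁻¹ * (k' * (z₀ : G))) * g₀⁻¹ := by rw [hc]
        _ = g₀ * (z₀ : G) * g₀⁻¹ := by group
        _ = (a : G) := hg₀
    have hh2 : hh⁻¹ * (z₀ : G) * hh = k' * W * k'⁻¹ := by rw [hW, hhdef]; group
    obtain ⟨w, hw⟩ : ∃ w : ↥(P : Subgroup G), (w : G) = hh⁻¹ * (z₀ : G) * hh :=
      ⟨⟨k' * W * k'⁻¹, hk'⟩, hh2.symm⟩
    have hhw : hh * (w : G) * hh⁻¹ = (z₀ : G) := by rw [hw]; group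
    have hcw : c w ≠ 0 := by
      intro h0
      obtain ⟨m, hmp, hm⟩ := hC.es.exists_lt_pow_eq ((hC.c_zero w).mp h0)
      have e1 : (z₀ : G) = (a : G) ^ m := by
        rw [← hhw, ← hm, Subgroup.coe_pow, ← hh1, conj_pow]
      have e2 : z₀ = a ^ m := Subtype.ext (by rw [e1]; simp)
      have e3 : c z₀ = 0 := (hC.c_zero z₀).mpr (Subgroup.mem_zpowers z₀)
      rw [e2, hC.c_pow] at e3
      rcases smul_eq_zero.mp e3 with h4 | h4
      · rw [ZMod.natCast_eq_zero_iff] at h4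
        have hm0 : m = 0 := Nat.eq_zero_of_dvd_of_lt h4 hmp
        rw [hm0, pow_zero] at e2
        exact hz1 e2
      · exact hw₁ h4
    obtain ⟨y₀, hy₀⟩ := hC.exists_cross_ne hcw
    have hy : Acts p (z₀ : G) (a : G) (hh * (y₀ : G) * hh⁻¹)
        !![1, 0; cross (c y₀) (c w), 1] := by
      apply acts_of_images hz ha' hza
      · have hcomm := congrArg Subtype.val (hC.comm y₀ w)
        rw [commutatorElement_def] at hcomm
        simp only [Subgroup.coe_mul, Subgroup.coe_inv, Subgroup.coe_pow] at hcomm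
        have e1 : hh * (y₀ : G) * hh⁻¹ * (z₀ : G) * (hh * (y₀ : G) * hh⁻¹)⁻¹
            = hh * ((y₀ : G) * (hh⁻¹ * (z₀ : G) * hh) * (y₀ : G)⁻¹) * hh⁻¹ := by group
        have e2 : (y₀ : G) * (w : G) * (y₀ : G)⁻¹
            = ((y₀ : G) * (w : G) * (y₀ : G)⁻¹ * (w : G)⁻¹) * (w : G) := by group
        rw [e1, ← hw, e2, hcomm]
        have e3 : hh * ((z₀ : G) ^ (cross (c y₀) (c w)).val * (w : G)) * hh⁻¹
            = (hh * (z₀ : G) * hh⁻¹) ^ (cross (c y₀) (c w)).val * (hh * (w : G) * hh⁻¹) := by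
          rw [conj_pow]; group
        rw [e3, hh1, hhw]
        unfold ev
        simp only [Matrix.cons_val_zero, Matrix.cons_val_one, ZMod.val_one, pow_one]
        exact ((show Commute (a : G) (z₀ : G) from hza.symm).pow_left _).eq
      · rw [ev_a]
        have e0 : hh⁻¹ * (a : G) * hh = (z₀ : G) := by rw [← hh1]; group
        have e1 : hh * (y₀ : G) * hh⁻¹ * (a : G) * (hh * (y₀ : G) * hh⁻¹)⁻¹
            = hh * ((y₀ : G) * (hh⁻¹ * (a : G) * hh) * (y₀ : G)⁻¹) * hh⁻¹ := by group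
        have e2 : (y₀ : G) * (z₀ : G) * (y₀ : G)⁻¹ = (z₀ : G) := by
          have := congrArg Subtype.val (hC.es.central y₀)
          simp only [Subgroup.coe_mul] at this
          rw [this]; group
        rw [e1, e0, e2, hh1]
    exact hC.eigen hexp' hw₁ hy₀ hy hl
  -- the seven vectors
  obtain ⟨v, hvdef⟩ : ∃ v : Fin 7 → Fin 2 → ZMod p,
      v = fun j : Fin 7 => if (j : ℕ) < 6 then ![1, ((j : ℕ) : ZMod p)] else ![0, 1] :=
    ⟨_, rfl⟩
  have hcast : ∀ i j : Fin 7, ((i : ℕ) : ZMod p) = ((j : ℕ) : ZMod p) → i = j := by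
    intro i j hij
    have h1 := congrArg ZMod.val hij
    rw [ZMod.val_cast_of_lt (by omega), ZMod.val_cast_of_lt (by omega)] at h1
    exact Fin.ext h1
  have hv : ∀ i j, i ≠ j → cross (v i) (v j) ≠ 0 := by
    intro i j hij
    rw [hvdef]
    by_cases hi : (i : ℕ) < 6 <;> by_cases hj : (j : ℕ) < 6
    · simp only [hi, hj, if_true, cross]
      simp only [Matrix.cons_val_zero, Matrix.cons_val_one, one_mul, mul_one]
      intro h0
      exact hij (hcast i j (sub_eq_zero.mp h0).symm)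
    · simp [hi, hj, cross]
    · simp [hi, hj, cross]
    · exfalso
      apply hij
      apply Fin.ext
      omega
  have hv0 : ∀ j, v j ≠ 0 := by
    intro j
    obtain ⟨j', hj'⟩ : ∃ j' : Fin 7, j ≠ j' := by
      by_cases h : j = 0
      · exact ⟨1, by rw [h]; decide⟩
      · exact ⟨0, h⟩
    exact cross_ne_zero_left (hv j j' hj')
  choose n hn using fun j => key (v j) (hv0 j)
  have hfin := bound11 (Γ := ρ.range) hp hC.card hl hord
    (fun j => ⟨ρ (n j), MonoidHom.mem_range.mpr ⟨n j, rfl⟩⟩) v hv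
    (fun j => (hn j).1) (fun j => (hn j).2)
  omega

end Cfsg.Agent.S3055
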