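import Mathlib
import Cfsg.Statements.S3057
import Cfsg.Agent.Lib.helper56.SEGen
import Cfsg.Agent.Lib.helper54.SylowAux
import Cfsg.Agent.Lib.helper18.QuatSylow
import Cfsg.Agent.Lib.helper46.Dicyclic
import Cfsg.Agent.S0016

set_option autoImplicit false
open Cfsg

namespace Cfsg.Agent.S3057

theorem quat_unique_order_two (m : ℕ) [NeZero m] (g : QuaternionGroup m) (hg : orderOf g = 2) :
    g = QuaternionGroup.a (m : ZMod (2 * m)) := by
  rcases g with i | i
  · have h1 : (QuaternionGroup.a i : QuaternionGroup m) ^ 2 = 1 := by
      rw [← hg]; exact pow_orderOf_eq_one _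
    rw [sq, QuaternionGroup.a_mul_a, QuaternionGroup.one_def] at h1
    have h2 : i + i = 0 := QuaternionGroup.a.inj h1
    rcases (Lib.helper46.zmod_add_self_eq_zero_iff m i).mp h2 with h | h
    · exfalso
      rw [h, ← QuaternionGroup.one_def, orderOf_one] at hg
      omega
    · rw [h]
  · exfalso
    rw [QuaternionGroup.orderOf_xa] at hg
    omega

/-- Let p be a prime and G a finite p-solvable group of order divisible by p, with Sylow p-subgroup P. Then the Sylow p-subgroups of G fail to be chain-connected through nontrivial intersections (equivalently, G has a strongly p-embedded subgroup) if and only if O_p(G) = 1 and P is cyclic or, for p = 2, generalized quaternion. -/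
theorem result {G : Type*} [Group G] [Finite G]
    (p : ℕ) [Fact p.Prime] (hdiv : p ∣ Nat.card G) (hsol : Cfsg.IsPSolvable p G) (P : Sylow p G) :
    ¬ Cfsg.IsSylowChainConnected p G ↔
      Cfsg.pCore p G = ⊥ ∧ (IsCyclic ↥P ∨ (p = 2 ∧ ∃ n : ℕ, Nonempty (↥P ≃* QuaternionGroup (2 ^ n)))) := by
  classical
  have hp : p.Prime := Fact.out
  constructor
  · intro hnc
    obtain ⟨H, hH, hpH, hse⟩ := Lib.helper56.exists_cse_of_not_chainConnected hnc
    obtain ⟨S, hSH, hS1⟩ := Lib.helper56.cse_exists_sylow H hpH hse
    constructor
    · by_contra hne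
      haveI hn : (pCore p G).Normal := Lib.helper40.pCore_normal' p G
      have hpg : IsPGroup p (pCore p G) := Lib.helper40.pCore_isPGroup p G
      have hle : pCore p G ≤ S := hpg.le_sylow_of_normal S
      have h1 := Lib.helper56.cse_normalizer_le H hse (pCore p G) (hle.trans hSH) hpg hne
      rw [Subgroup.normalizer_eq_top] at h1
      exact hH (top_le_iff.mp h1)
    · have huniq : ∀ A B : Subgroup ↥(S : Subgroup G), Nat.card A = p → Nat.card B = p →
          A = B := by
        by_contra hcon
        push Not at hcon
        obtain ⟨A, B, hA, hB, hAB⟩ := hcon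
        obtain ⟨z, hzS, hzo, hzc⟩ := Lib.helper54.exists_central_orderOf_eq_prime S.2 hS1
        have key : ∀ A : Subgroup ↥(S : Subgroup G), Nat.card A = p →
            A.map (S : Subgroup G).subtype ≠ Subgroup.zpowers z → False := by
          intro A hA hAz
          obtain ⟨⟨⟨x, hxS⟩, hxA⟩, hxo⟩ :=
            exists_prime_orderOf_dvd_card' p (by rw [hA] : p ∣ Nat.card A)
          rw [Subgroup.orderOf_mk, Subgroup.orderOf_mk] at hxo
          have hAx : A.map (S : Subgroup G).subtype = Subgroup.zpowers x := by
            symm
            apply Subgroup.eq_of_le_of_card_ge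
            · rw [Subgroup.zpowers_le]; exact ⟨⟨x, hxS⟩, hxA, rfl⟩
            · rw [Subgroup.card_map_of_injective (Subgroup.subtype_injective _), hA,
                Nat.card_zpowers, hxo]
          have hxz : x ∉ Subgroup.zpowers z := by
            intro h
            apply hAz
            rw [hAx]
            apply Subgroup.eq_of_le_of_card_ge (Subgroup.zpowers_le.mpr h)
            rw [Nat.card_zpowers, Nat.card_zpowers, hxo, hzo]
          obtain ⟨n, Hc, h0, hlast, hmono, hnorm, hstep⟩ := hsol
          have hall : ∀ i : Fin (n + 1), ¬ p ∣ Nat.card (Hc i) := by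
            intro i
            induction i using Fin.induction with
            | zero =>
              rw [h0, Subgroup.card_bot]
              exact hp.one_lt.ne' ∘ Nat.dvd_one.mp
            | succ i ih =>
              intro hdvd
              haveI := hnorm i.castSucc
              haveI := hnorm i.succ
              have hle : Hc i.castSucc ≤ Hc i.succ := hmono (Fin.castSucc_lt_succ).le
              have h0H : Hc i.castSucc ≤ H :=
                Lib.helper56.cse_pprime_le H hse S hSH hzS hxS hzo hxo (hzc x hxS).symm hxz
                  (Hc i.castSucc) ih (by rw [Subgroup.normalizer_eq_top]; exact le_top)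
              have hcard : Nat.card (Hc i.castSucc) * (Hc i.castSucc).relIndex (Hc i.succ) =
                  Nat.card (Hc i.succ) := by
                have h1 := Subgroup.relIndex_mul_relIndex ⊥ (Hc i.castSucc) (Hc i.succ) bot_le hle
                rwa [Subgroup.relIndex_bot_left, Subgroup.relIndex_bot_left] at h1
              have hrel : ∃ m, (Hc i.castSucc).relIndex (Hc i.succ) = p ^ m := by
                rcases hstep i with h | h
                · exact h
                · exfalso
                  rw [← hcard] at hdvd
                  rcases (Nat.Prime.dvd_mul hp).mp hdvd with h1 | h1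
                  · exact ih h1
                  · exact (Nat.Prime.coprime_iff_not_dvd hp).mp h.symm h1
              obtain ⟨m, hm⟩ := hrel
              have h1H : Hc i.succ ≤ H := by
                obtain ⟨X', hX'⟩ := Lib.helper56.exists_sylow_normal_coe S (Hc i.succ)
                have htop : (X' : Subgroup ↥(Hc i.succ)) ⊔
                    (Hc i.castSucc).subgroupOf (Hc i.succ) = ⊤ := by
                  rw [← Subgroup.index_eq_one]
                  have h1 : ((X' : Subgroup ↥(Hc i.succ)) ⊔
                      (Hc i.castSucc).subgroupOf (Hc i.succ)).index ∣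
                      (X' : Subgroup ↥(Hc i.succ)).index := Subgroup.index_dvd_of_le le_sup_left
                  have h2 : ((X' : Subgroup ↥(Hc i.succ)) ⊔
                      (Hc i.castSucc).subgroupOf (Hc i.succ)).index ∣ p ^ m := by
                    rw [← hm]; exact Subgroup.index_dvd_of_le le_sup_right
                  have h3 : ¬ p ∣ ((X' : Subgroup ↥(Hc i.succ)) ⊔
                      (Hc i.castSucc).subgroupOf (Hc i.succ)).index :=
                    fun h => X'.not_dvd_index (h.trans h1)
                  exact (Nat.Coprime.pow_right m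
                    ((Nat.Prime.coprime_iff_not_dvd hp).mpr h3).symm).eq_one_of_dvd h2
                have hmap : ((X' : Subgroup ↥(Hc i.succ)) ⊔
                    (Hc i.castSucc).subgroupOf (Hc i.succ)).map (Hc i.succ).subtype =
                    ((S : Subgroup G) ⊓ Hc i.succ) ⊔ Hc i.castSucc := by
                  rw [Subgroup.map_sup, hX', Subgroup.subgroupOf_map_subtype,
                    inf_eq_left.mpr hle]
                have h4 : Hc i.succ = ((S : Subgroup G) ⊓ Hc i.succ) ⊔ Hc i.castSucc := by
                  rw [← hmap, htop, ← MonoidHom.range_eq_map, Subgroup.range_subtype]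
                rw [h4]
                exact sup_le (inf_le_left.trans hSH) h0H
              exact Lib.helper56.cse_not_normal_le H hH hse (Hc i.succ) hdvd h1H
          exact hall (Fin.last n) (by
            rw [hlast, Nat.card_congr Subgroup.topEquiv.toEquiv]; exact hdiv)
        by_cases hAz : A.map (S : Subgroup G).subtype = Subgroup.zpowers z
        · have hBz : B.map (S : Subgroup G).subtype ≠ Subgroup.zpowers z := by
            intro h
            apply hAB
            apply Subgroup.map_injective (Subgroup.subtype_injective _)
            rw [hAz, h]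
          exact key B hB hBz
        · exact key A hA hAz
      have h16 := Cfsg.Agent.S0016.result p S.2 huniq
      have e : ↥(S : Subgroup G) ≃* ↥(P : Subgroup G) := Sylow.equiv S P
      rcases h16 with h | ⟨h2, n, ⟨f⟩⟩
      · left; exact (MulEquiv.isCyclic e).mp h
      · right; exact ⟨h2, n, ⟨e.symm.trans f⟩⟩
  · rintro ⟨hcore, hP⟩
    have huniq : ∀ A B : Subgroup ↥(P : Subgroup G), Nat.card A = p → Nat.card B = p →
        A = B := by
      rcases hP with hc | ⟨h2, n, ⟨f⟩⟩
      · intro A B hA hB
        haveI := hc
        exact Lib.helper18.eq_of_card_eq_of_isCyclic A B (hA.trans hB.symm)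
      · subst h2
        have hel : ∀ A : Subgroup ↥(P : Subgroup G), Nat.card A = 2 →
            A = Subgroup.zpowers
              (f.symm (QuaternionGroup.a ((2 ^ n : ℕ) : ZMod (2 * 2 ^ n)))) := by
          intro A hA
          obtain ⟨⟨a, haA⟩, hao⟩ :=
            exists_prime_orderOf_dvd_card' 2 (by rw [hA] : 2 ∣ Nat.card A)
          rw [Subgroup.orderOf_mk] at hao
          have h1 : orderOf (f a) = 2 := by rw [MulEquiv.orderOf_eq]; exact hao
          have h2 := quat_unique_order_two (2 ^ n) (f a) h1
          have h3 : a = f.symm (QuaternionGroup.a ((2 ^ n : ℕ) : ZMod (2 * 2 ^ n))) := by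
            rw [← h2]; simp
          rw [← h3]
          symm
          apply Subgroup.eq_of_le_of_card_ge (Subgroup.zpowers_le.mpr haA)
          rw [hA, Nat.card_zpowers, hao]
        intro A B hA hB
        rw [hel A hA, hel B hB]
    have hP1 : (P : Subgroup G) ≠ ⊥ := P.ne_bot_of_dvd_card hdiv
    obtain ⟨x, hxP, hxo⟩ := Lib.helper53.exists_orderOf_eq_prime_of_ne_bot P.2 hP1
    have hZcard : Nat.card (Subgroup.zpowers x) = p := by rw [Nat.card_zpowers, hxo]
    have hZP : Subgroup.zpowers x ≤ (P : Subgroup G) := Subgroup.zpowers_le.mpr hxP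
    have hZuniq : ∀ A : Subgroup G, A ≤ (P : Subgroup G) → Nat.card A = p →
        A = Subgroup.zpowers x := by
      intro A hAP hA
      have h1 : A.subgroupOf (P : Subgroup G) =
          (Subgroup.zpowers x).subgroupOf (P : Subgroup G) := by
        apply huniq
        · rw [Nat.card_congr (Subgroup.subgroupOfEquivOfLe hAP).toEquiv, hA]
        · rw [Nat.card_congr (Subgroup.subgroupOfEquivOfLe hZP).toEquiv, hZcard]
      have h2 := congrArg (Subgroup.map (P : Subgroup G).subtype) h1
      rwa [Subgroup.subgroupOf_map_subtype, Subgroup.subgroupOf_map_subtype,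
        inf_eq_left.mpr hAP, inf_eq_left.mpr hZP] at h2
    have hZelt : ∀ y ∈ (P : Subgroup G), orderOf y = p → y ∈ Subgroup.zpowers x := by
      intro y hy hyo
      have h1 := hZuniq (Subgroup.zpowers y) (Subgroup.zpowers_le.mpr hy)
        (by rw [Nat.card_zpowers, hyo])
      rw [← h1]; exact Subgroup.mem_zpowers y
    have hZp : IsPGroup p (Subgroup.zpowers x) := P.2.to_le hZP
    have hPH : (P : Subgroup G) ≤ Subgroup.normalizer ((Subgroup.zpowers x : Subgroup G) : Set G) := by
      intro s hs
      apply Lib.helper53.mem_normalizer_of_conj_eq_self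
      apply hZuniq
      · rw [Lib.helper53.conj_le_iff]
        intro a ha
        exact (P : Subgroup G).mul_mem ((P : Subgroup G).mul_mem hs (hZP ha))
          ((P : Subgroup G).inv_mem hs)
      · rw [Subgroup.card_map_of_injective (MulAut.conj s).injective, hZcard]
    apply Lib.helper56.not_chainConnected_of_cse
      (Subgroup.normalizer ((Subgroup.zpowers x : Subgroup G) : Set G))
    · intro htop
      have hn : (Subgroup.zpowers x).Normal := Subgroup.normalizer_eq_top_iff.mp htop
      have h1 := Lib.helper40.le_pCore (Subgroup.zpowers x) hn hZp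
      rw [hcore] at h1
      have h2 : x ∈ (⊥ : Subgroup G) := h1 (Subgroup.mem_zpowers x)
      rw [Subgroup.mem_bot] at h2
      rw [h2, orderOf_one] at hxo
      exact hp.one_lt.ne hxo
    · have h1 : Nat.card (Subgroup.zpowers x) ∣
          Nat.card (Subgroup.normalizer ((Subgroup.zpowers x : Subgroup G) : Set G)) :=
        Subgroup.card_dvd_of_le Subgroup.le_normalizer
      rwa [hZcard] at h1
    · intro g hg hdvd
      obtain ⟨⟨y, hy⟩, hyo⟩ := exists_prime_orderOf_dvd_card' p hdvd
      rw [Subgroup.orderOf_mk] at hyo
      have hyH : y ∈ Subgroup.normalizer ((Subgroup.zpowers x : Subgroup G) : Set G) := hy.1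
      have hyg : y ∈ (Subgroup.normalizer ((Subgroup.zpowers x : Subgroup G) : Set G)).map
          (MulAut.conj g).toMonoidHom := hy.2
      rw [Lib.helper53.mem_conj_iff] at hyg
      have key : ∀ w ∈ Subgroup.normalizer ((Subgroup.zpowers x : Subgroup G) : Set G),
          orderOf w = p → w ∈ Subgroup.zpowers x := by
        intro w hw hwo
        have hzp : IsPGroup p (Subgroup.zpowers
            (⟨w, hw⟩ : ↥(Subgroup.normalizer ((Subgroup.zpowers x : Subgroup G) : Set G)))) := by
          apply IsPGroup.of_card (n := 1)
          rw [Nat.card_zpowers, pow_one, Subgroup.orderOf_mk]; exact hwo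
        obtain ⟨h, hh⟩ := Lib.helper53.exists_le_conj_sylow hzp (P.subtype hPH)
        have h1 := hh (Subgroup.mem_zpowers _)
        rw [Lib.helper53.mem_conj_iff] at h1
        have h2 : h⁻¹ * (⟨w, hw⟩ :
            ↥(Subgroup.normalizer ((Subgroup.zpowers x : Subgroup G) : Set G))) * h ∈
            (P : Subgroup G).subgroupOf
              (Subgroup.normalizer ((Subgroup.zpowers x : Subgroup G) : Set G)) := h1
        have h3 : (h : G)⁻¹ * w * (h : G) ∈ (P : Subgroup G) := Subgroup.mem_subgroupOf.mp h2
        have h4 : orderOf ((h : G)⁻¹ * w * (h : G)) = p := by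
          have h5 := MulEquiv.orderOf_eq (MulAut.conj (h : G)⁻¹) w
          rw [MulAut.conj_apply, inv_inv] at h5
          rw [h5]; exact hwo
        have h5 := hZelt _ h3 h4
        exact (Subgroup.mem_normalizer_iff''.mp h.2 w).mpr h5
      have hyZ : y ∈ Subgroup.zpowers x := key y hyH hyo
      have hyo' : orderOf (g⁻¹ * y * g) = p := by
        have h5 := MulEquiv.orderOf_eq (MulAut.conj g⁻¹) y
        rw [MulAut.conj_apply, inv_inv] at h5
        rw [h5]; exact hyo
      have hygZ : g⁻¹ * y * g ∈ Subgroup.zpowers x := key _ hyg hyo'
      have e1 : Subgroup.zpowers y = Subgroup.zpowers x :=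
        Subgroup.eq_of_le_of_card_ge (Subgroup.zpowers_le.mpr hyZ)
          (by rw [hZcard, Nat.card_zpowers, hyo])
      have e2 : Subgroup.zpowers (g⁻¹ * y * g) = Subgroup.zpowers x :=
        Subgroup.eq_of_le_of_card_ge (Subgroup.zpowers_le.mpr hygZ)
          (by rw [hZcard, Nat.card_zpowers, hyo'])
      have h6 : (Subgroup.zpowers x).map (MulAut.conj g⁻¹).toMonoidHom = Subgroup.zpowers x := by
        conv_lhs => rw [← e1]
        rw [MonoidHom.map_zpowers]
        have h7 : (MulAut.conj g⁻¹).toMonoidHom y = g⁻¹ * y * g := by
          show g⁻¹ * y * g⁻¹⁻¹ = _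
          rw [inv_inv]
        rw [h7, e2]
      have h7 : g⁻¹ ∈ Subgroup.normalizer ((Subgroup.zpowers x : Subgroup G) : Set G) :=
        Lib.helper53.mem_normalizer_of_conj_eq_self h6
      have h8 := (Subgroup.normalizer ((Subgroup.zpowers x : Subgroup G) : Set G)).inv_mem h7
      rw [inv_inv] at h8
      exact hg h8

end Cfsg.Agent.S3057
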