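import Cfsg.Statements.S3060
import Mathlib
import Cfsg.Agent.Lib.helper57.DStarOf
import Cfsg.Agent.Lib.helper53.PCore

set_option autoImplicit false
open Cfsg

namespace Cfsg.Agent.S3060

open Subgroup
open scoped commutatorElement
open Cfsg.Agent.Lib.helper57

variable {G : Type*} [Group G]

/-- The preimage in `G` of `O_p(G / C_G(V))`. -/
def preK (p : ℕ) (V : Subgroup G) [V.Normal] : Subgroup G :=
  (Cfsg.pCore p (G ⧸ centralizer (V : Set G))).comap (QuotientGroup.mk' (centralizer (V : Set G)))

theorem preK_normal (p : ℕ) (V : Subgroup G) [V.Normal] : (preK p V).Normal :=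
  (Cfsg.Agent.Lib.helper53.pCore_normal p _).comap _

theorem centralizer_le_preK (p : ℕ) (V : Subgroup G) [V.Normal] :
    centralizer (V : Set G) ≤ preK p V := by
  intro x hx
  rw [preK, Subgroup.mem_comap]
  have : QuotientGroup.mk' (centralizer (V : Set G)) x = 1 := (QuotientGroup.eq_one_iff x).2 hx
  rw [this]
  exact one_mem _

theorem le_preK_of_normal_isPGroup {p : ℕ} (V : Subgroup G) [V.Normal] {W : Subgroup G}
    (hWn : W.Normal) (hW : IsPGroup p W) : W ≤ preK p V := by
  intro x hx
  rw [preK, Subgroup.mem_comap]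
  have h1 : (W.map (QuotientGroup.mk' (centralizer (V : Set G)))).Normal :=
    hWn.map _ (QuotientGroup.mk'_surjective _)
  have h2 : IsPGroup p (W.map (QuotientGroup.mk' (centralizer (V : Set G)))) := hW.map _
  exact (Cfsg.Agent.Lib.helper53.le_pCore h1 h2) (Subgroup.mem_map_of_mem _ hx)

theorem isPGroup_preK {p : ℕ} (V : Subgroup G) [V.Normal]
    (hC : IsPGroup p (centralizer (V : Set G))) : IsPGroup p (preK p V) := by
  apply IsPGroup.comap_of_ker_isPGroup (Cfsg.Agent.Lib.helper53.pCore_isPGroup p _)
  rw [QuotientGroup.ker_mk']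
  exact hC

theorem preK_le_sup [Finite G] {p : ℕ} [Fact p.Prime] (V : Subgroup G) [V.Normal]
    (S : Sylow p G) :
    preK p V ≤ ((S : Subgroup G) ⊓ preK p V) ⊔ centralizer (V : Set G) := by
  set K := preK p V with hK
  set C := centralizer (V : Set G) with hC
  set T := (S : Subgroup G) ⊓ K with hT
  have : K.Normal := preK_normal p V
  obtain ⟨R, hR⟩ := Cfsg.Agent.Lib.helper53.exists_sylow_eq_inf_normal S K
  have hTK : T ≤ K := inf_le_right
  have hCK : C ≤ K := centralizer_le_preK p V
  have hle : T ⊔ C ≤ K := sup_le hTK hCK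
  -- index of T in K is prime to p
  have h1 : ¬ p ∣ T.relIndex K := by
    have hRT : (R : Subgroup K) = T.subgroupOf K := by
      rw [hT, ← hR]
      exact (Subgroup.comap_map_eq_self_of_injective K.subtype_injective _).symm
    have := R.not_dvd_index
    rw [hRT] at this
    exact this
  -- index of C in K is a power of p
  have h2 : ∃ n : ℕ, C.relIndex K = p ^ n := by
    have hCeq : C = (⊥ : Subgroup (G ⧸ C)).comap (QuotientGroup.mk' C) := by
      rw [MonoidHom.comap_bot, QuotientGroup.ker_mk']
    have hmap : K.map (QuotientGroup.mk' C) = Cfsg.pCore p (G ⧸ C) :=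
      Subgroup.map_comap_eq_self_of_surjective (QuotientGroup.mk'_surjective C) _
    have : C.relIndex K = Nat.card (Cfsg.pCore p (G ⧸ C)) := by
      conv_lhs => rw [hCeq]
      rw [Subgroup.relIndex_comap, hmap, Subgroup.relIndex_bot_left]
    rw [this]
    exact (IsPGroup.iff_card).1 (Cfsg.Agent.Lib.helper53.pCore_isPGroup p (G ⧸ C))
  obtain ⟨n, hn⟩ := h2
  have h3 : (T ⊔ C).relIndex K ∣ T.relIndex K :=
    Dvd.intro_left _ (Subgroup.relIndex_mul_relIndex T (T ⊔ C) K le_sup_left hle)
  have h4 : (T ⊔ C).relIndex K ∣ p ^ n := by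
    rw [← hn]
    exact Dvd.intro_left _ (Subgroup.relIndex_mul_relIndex C (T ⊔ C) K le_sup_right hle)
  obtain ⟨m, _, hm⟩ := (Nat.dvd_prime_pow (Fact.out : p.Prime)).1 h4
  have hm0 : m = 0 := by
    by_contra hne
    apply h1
    refine dvd_trans ?_ h3
    rw [hm]
    exact dvd_pow_self p hne
  rw [hm0, pow_zero] at hm
  exact Subgroup.relIndex_eq_one.1 hm

theorem normalizer_sup_centralizer_eq_top [Finite G] {p : ℕ} [Fact p.Prime] (V : Subgroup G)
    [V.Normal] (S : Sylow p G) :
    normalizer (((S : Subgroup G) ⊓ preK p V : Subgroup G) : Set G) ⊔ centralizer (V : Set G)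
      = ⊤ := by
  have := preK_normal p V
  obtain ⟨R, hR⟩ := Cfsg.Agent.Lib.helper53.exists_sylow_eq_inf_normal S (preK p V)
  have hfr := Sylow.normalizer_sup_eq_top R
  rw [hR] at hfr
  rw [eq_top_iff, ← hfr]
  apply sup_le le_sup_left
  refine (preK_le_sup V S).trans ?_
  exact sup_le (le_sup_of_le_left Subgroup.le_normalizer) le_sup_right

/-- The D*-Theorem. For a finite p-group S let D*(S) be the subgroup generated by the abelian subgroups A of S such that every x ∈ S with ⟨A, x⟩ of nilpotency class at most two centralizes A. Let p be an odd prime and H a finite p-stable group with Sylow p-subgroup S. Here H is p-stable in the following sense: the largest normal p-subgroup O_p(H) contains its centralizer in H, and for every normal p-subgroup P of H, every element acting quadratically on P has image in O_p(H/C_H(P)). Then D*(S) is a normal subgroup of H. -/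
theorem result {G : Type*} [Group G] [Finite G] {p : ℕ} [Fact p.Prime] (hp : p ≠ 2)
    (hc : Subgroup.centralizer (Cfsg.pCore p G : Set G) ≤ Cfsg.pCore p G)
    (hst : ∀ (P : Subgroup G) [P.Normal], IsPGroup p P → Cfsg.IsPStableOn p P) (S : Sylow p G) :
    (Cfsg.dStarOf (S : Subgroup G)).Normal := by
  set P : Subgroup G := (S : Subgroup G) with hP
  set Q : Subgroup G := Cfsg.pCore p G with hQ
  set D : Subgroup G := Cfsg.dStarOf P with hD
  have hQn : Q.Normal := Cfsg.Agent.Lib.helper53.pCore_normal p G
  have hQp : IsPGroup p Q := Cfsg.Agent.Lib.helper53.pCore_isPGroup p G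
  have hQP : Q ≤ P := Cfsg.Agent.Lib.helper53.pCore_le_sylow S
  have hPp : IsPGroup p P := S.isPGroup'
  have hPnil : Group.IsNilpotent P := hPp.isNilpotent
  have hDfam : D ∈ famOf P := dStarOf_mem_famOf P
  have hDP : D ≤ P := hDfam.1
  have hDcomm : IsMulCommutative D := hDfam.2.1
  have hPND : P ≤ normalizer (D : Set G) :=
    Subgroup.le_normalizer.trans (normalizer_le_normalizer_dStarOf P)
  have hDD : ⁅D, D⁆ = ⊥ := by
    rw [eq_bot_iff, Subgroup.commutator_le]
    intro a ha b hb
    rw [Subgroup.mem_bot, commutatorElement_eq_one_iff_mul_comm]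
    exact setLike_mul_comm ha hb
  -- Step 1: D ≤ Q
  have hDQ : D ≤ Q := by
    intro d hd
    have hquad : ⁅⁅Q, zpowers d⁆, zpowers d⁆ = ⊥ := by
      rw [eq_bot_iff, ← hDD]
      apply Subgroup.commutator_mono
      · rw [Subgroup.commutator_le]
        intro q hq z hz
        have hzD : z ∈ D := (Subgroup.zpowers_le.2 hd) hz
        have h1 : q * z * q⁻¹ ∈ D := ((mem_normalizer_iff.1 (hPND (hQP hq))) z).1 hzD
        rw [commutatorElement_def]
        exact mul_mem h1 (inv_mem hzD)
      · exact Subgroup.zpowers_le.2 hd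
    have h2 := hst Q hQp d hquad
    have h3 : d ∈ preK p Q := by
      rw [preK, Subgroup.mem_comap]
      exact h2
    have h4 : IsPGroup p (preK p Q) := isPGroup_preK Q (hQp.to_le hc)
    exact (Cfsg.Agent.Lib.helper53.le_pCore (preK_normal p Q) h4) h3
  -- Step 2
  set L : Subgroup G := normalClosure (D : Set G) with hL
  have hLn : L.Normal := Subgroup.normalClosure_normal
  have hLQ : L ≤ Q := Subgroup.normalClosure_le_normal hDQ
  have hLp : IsPGroup p L := hQp.to_le hLQ
  have hDL : D ≤ L := Subgroup.le_normalClosure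
  set C : Subgroup G := centralizer (L : Set G) with hC
  set K : Subgroup G := preK p L with hK
  have hKn : K.Normal := preK_normal p L
  set T : Subgroup G := P ⊓ K with hT
  have hQK : Q ≤ K := le_preK_of_normal_isPGroup L hQn hQp
  have hTP : T ≤ P := inf_le_left
  have hDT : D ≤ T := le_inf hDP (hDQ.trans hQK)
  have hTp : IsPGroup p T := hPp.to_le hTP
  have hTnil : Group.IsNilpotent T := hTp.isNilpotent
  have htop : normalizer (T : Set G) ⊔ C = ⊤ := normalizer_sup_centralizer_eq_top L S
  set DT : Subgroup G := Cfsg.dStarOf T with hDTdef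
  have hDTfam : DT ∈ famOf T := dStarOf_mem_famOf T
  have hNT : normalizer (T : Set G) ≤ normalizer (DT : Set G) :=
    normalizer_le_normalizer_dStarOf T
  -- D ≤ DT
  have hD_le_DT : D ≤ DT := le_dStarOf_of_mem_famOf (famOf_restrict hDfam hDT hTP)
  -- every conjugate of D lies in DT
  have hconj : ∀ g : G, ∀ d ∈ D, g * d * g⁻¹ ∈ DT := by
    intro g d hd
    have hg : g ∈ normalizer (T : Set G) ⊔ C := by rw [htop]; exact mem_top g
    have : C.Normal := Subgroup.normal_centralizer
    rw [Subgroup.mem_sup_of_normal_right] at hg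
    obtain ⟨n, hn, c, hcC, rfl⟩ := hg
    have hcd : c * d * c⁻¹ = d := by
      have := (mem_centralizer_iff.1 hcC) d (hDL hd)
      rw [← this, mul_inv_cancel_right]
    have e : n * c * d * (n * c)⁻¹ = n * (c * d * c⁻¹) * n⁻¹ := by group
    rw [e, hcd]
    exact ((mem_normalizer_iff.1 (hNT hn)) d).1 (hD_le_DT hd)
  have hL_le_DT : L ≤ DT := by
    rw [hL, Subgroup.normalClosure, Subgroup.closure_le]
    intro y hy
    rw [Group.mem_conjugatesOfSet_iff] at hy
    obtain ⟨d, hd, hdy⟩ := hy
    rw [isConj_iff] at hdy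
    obtain ⟨g, rfl⟩ := hdy
    exact hconj g d hd
  -- DT ≤ D
  have hDT_le_D : DT ≤ D := by
    apply le_dStarOf_of_mem_famOf
    refine ⟨hDTfam.1.trans hTP, hDTfam.2.1, ?_⟩
    intro x hxP hcl
    have hquad : ⁅⁅L, zpowers x⁆, zpowers x⁆ = ⊥ := by
      rw [eq_bot_iff, ← hcl]
      exact Subgroup.commutator_mono
        (Subgroup.commutator_mono (le_sup_of_le_left hL_le_DT) le_sup_right) le_sup_right
    have h2 := hst L hLp x hquad
    have hxK : x ∈ K := by
      rw [hK, preK, Subgroup.mem_comap]
      exact h2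
    exact hDTfam.2.2 x (Subgroup.mem_inf.2 ⟨hxP, hxK⟩) hcl
  have hEq : D = DT := le_antisymm hD_le_DT hDT_le_D
  -- conclude
  have hN1 : normalizer (T : Set G) ≤ normalizer (D : Set G) := by rw [hEq]; exact hNT
  have hN2 : C ≤ normalizer (D : Set G) := by
    intro c hcC
    rw [mem_normalizer_iff]
    intro d
    constructor
    · intro hd
      have := (mem_centralizer_iff.1 hcC) d (hDL hd)
      rw [← this, mul_inv_cancel_right]
      exact hd
    · intro hd
      have h1 := (mem_centralizer_iff.1 hcC) (c * d * c⁻¹) (hDL hd)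
      have e : d = c * d * c⁻¹ := by
        have h2 : c * d * c⁻¹ * c = c * d := by group
        rw [h2] at h1
        exact mul_left_cancel h1
      rw [e]
      exact hd
  have : normalizer (D : Set G) = ⊤ := by
    rw [eq_top_iff, ← htop]
    exact sup_le hN1 hN2
  exact Subgroup.normalizer_eq_top_iff.1 this

end Cfsg.Agent.S3060
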