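import Cfsg.Statements.S3062
import Cfsg.Agent.Lib.helper57.DStar
import Cfsg.Agent.Lib.helper57.Counting

set_option autoImplicit false
open Cfsg

namespace Cfsg.Agent.S3062

open Subgroup Cfsg.Agent.Lib.helper57
open scoped commutatorElement

variable {S : Type*} [Group S]

/-- A member of the family behind `D*` centralizes every abelian subgroup of largest order. -/
theorem le_centralizer_of_mem_maxAbelian [Finite S] [Group.IsNilpotent S] {A : Subgroup S}
    (hA : A ∈ Cfsg.dStarFamily S) (B : Subgroup S) (hB : B ∈ Cfsg.maxAbelianSubgroups S) :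
    A ≤ centralizer (B : Set S) := by
  obtain ⟨hBc, hBmax⟩ := hB
  obtain ⟨M, hMn, hMc, hmax⟩ := exists_maximal_normal_abelian (S := S)
  have hAM : A ≤ M := le_of_maximal_normal_abelian hA M hMn hMc hmax
  have hcommM : ∀ y ∈ M, ∀ b : S, ⁅y, b⁆ ∈ M := by
    intro y hy b
    have : ⁅y, b⁆ = y * (b * y⁻¹ * b⁻¹) := by rw [commutatorElement_def]; group
    rw [this]
    exact mul_mem hy (hMn.conj_mem _ (inv_mem hy) b)
  -- (†)
  have dagger : ∀ b : S, (∀ a ∈ A, Commute ⁅a, b⁆ b) → ∀ a ∈ A, a * b = b * a := by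
    intro b hb
    apply family_centralizes hA b _ hb
    intro a ha a' ha'
    exact setLike_mul_comm (hcommM a (hAM ha) b) (hAM ha')
  -- (U) upper bound
  have hU : ∀ B' : Subgroup S, B' ≤ B →
      Nat.card B' * Nat.card ↥(M ⊓ centralizer (B' : Set S)) ≤
        Nat.card B * Nat.card ↥(M ⊓ centralizer (B : Set S)) := by
    intro B' hB'
    set C' := M ⊓ centralizer (B' : Set S) with hC'
    have hEc : IsMulCommutative ↥(B' ⊔ C') := by
      have : B' ⊔ C' = closure ((B' : Set S) ∪ (C' : Set S)) := by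
        rw [Subgroup.closure_union, closure_eq, closure_eq]
      rw [this]
      apply isMulCommutative_closure
      rintro u (hu | hu) v (hv | hv)
      · exact setLike_mul_comm (hB' hu) (hB' hv)
      · exact (mem_centralizer_iff.1 (mem_inf.1 hv).2) u hu
      · exact ((mem_centralizer_iff.1 (mem_inf.1 hu).2) v hv).symm
      · exact setLike_mul_comm (mem_inf.1 hu).1 (mem_inf.1 hv).1
    have h1 : Nat.card ↥(B' ⊔ C') ≤ Nat.card B := hBmax _ hEc
    have h2 := card_mul_card_le_card_sup_mul_card_inf B' C'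
    have h3 : B' ⊓ C' ≤ M ⊓ centralizer (B : Set S) := by
      intro x hx
      refine mem_inf.2 ⟨(mem_inf.1 (mem_inf.1 hx).2).1, ?_⟩
      rw [mem_centralizer_iff]
      intro y hy
      exact setLike_mul_comm hy (hB' (mem_inf.1 hx).1)
    have h4 : Nat.card ↥(B' ⊓ C') ≤ Nat.card ↥(M ⊓ centralizer (B : Set S)) :=
      Nat.card_mono (Set.toFinite _) h3
    exact h2.trans (Nat.mul_le_mul h1 h4)
  -- (O) one step
  have hO : ∀ B' : Subgroup S, B' ≤ B → ∀ a ∈ A,
      (M ⊓ centralizer (B' : Set S)) ⊔ closure ((fun b => ⁅a, b⁆) '' (B' : Set S)) ≤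
          M ⊓ centralizer ((B' ⊓ centralizer ((fun b => ⁅a, b⁆) '' (B' : Set S)) : Subgroup S) : Set S) ∧
      Nat.card B' * Nat.card ↥(M ⊓ centralizer (B' : Set S)) ≤
        Nat.card ↥(B' ⊓ centralizer ((fun b => ⁅a, b⁆) '' (B' : Set S))) *
          Nat.card ↥((M ⊓ centralizer (B' : Set S)) ⊔ closure ((fun b => ⁅a, b⁆) '' (B' : Set S))) := by
    intro B' hB' a ha
    set T : Set S := (fun b => ⁅a, b⁆) '' (B' : Set S) with hT
    set B1 : Subgroup S := B' ⊓ centralizer T with hB1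
    have hB1B' : B1 ≤ B' := inf_le_left
    constructor
    · apply sup_le
      · exact inf_le_inf_left M (centralizer_le hB1B')
      · rw [closure_le]
        rintro t ⟨b, hb, rfl⟩
        refine mem_inf.2 ⟨hcommM a (hAM ha) b, ?_⟩
        rw [mem_centralizer_iff]
        intro y hy
        exact ((mem_centralizer_iff.1 (mem_inf.1 hy).2) ⁅a, b⁆ ⟨b, hb, rfl⟩).symm
    · apply card_mul_card_le_of_coset_injective hB1B' le_sup_left (fun b => ⁅a, b⁆)
      · intro b hb
        exact le_sup_right (a := M ⊓ centralizer (B' : Set S)) (subset_closure ⟨b, hb, rfl⟩)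
      · intro b₁ hb₁ b₂ hb₂ hmem
        have hc : b₁⁻¹ * b₂ ∈ B' := mul_mem (inv_mem hb₁) hb₂
        refine mem_inf.2 ⟨hc, ?_⟩
        have hid : (⁅a, b₁⁆)⁻¹ * ⁅a, b₂⁆ = b₁ * ⁅a, b₁⁻¹ * b₂⁆ * b₁⁻¹ := by
          simp only [commutatorElement_def]; group
        have hz : b₁ * ⁅a, b₁⁻¹ * b₂⁆ * b₁⁻¹ ∈ centralizer (B' : Set S) := by
          rw [← hid]; exact (mem_inf.1 hmem).2
        have hz' : ⁅a, b₁⁻¹ * b₂⁆ ∈ centralizer (B' : Set S) := by
          have := conj_inv_eq_of_mem_centralizer hz hb₁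
          have h2 : b₁⁻¹ * (b₁ * ⁅a, b₁⁻¹ * b₂⁆ * b₁⁻¹) * b₁ = ⁅a, b₁⁻¹ * b₂⁆ := by group
          rw [h2] at this
          rw [this]; exact hz
        rw [mem_centralizer_iff]
        rintro t ⟨b, hb, rfl⟩
        have hbc : Commute b (b₁⁻¹ * b₂) := setLike_mul_comm (hB' hb) (hB' hc)
        have h3 : Commute b ⁅a, b₁⁻¹ * b₂⁆ := (mem_centralizer_iff.1 hz') b hb
        exact ((commute_commutator_symm (M := M) (hAM ha) hbc).2 h3).symm
  -- minimal member
  let f : Subgroup S → ℕ := fun B' => Nat.card B' * Nat.card ↥(M ⊓ centralizer (B' : Set S))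
  let 𝓑 : Set (Subgroup S) := {B' | B' ≤ B ∧ f B ≤ f B' ∧
    M ⊓ centralizer (B' : Set S) ≤ ⁅A, B⁆ ⊔ (M ⊓ centralizer (B : Set S))}
  have hBmem : B ∈ 𝓑 := ⟨le_rfl, le_rfl, le_sup_right⟩
  obtain ⟨B', hB'mem, hB'min⟩ :=
    Set.exists_min_image 𝓑 (fun B' : Subgroup S => Nat.card B') (Set.toFinite _) ⟨B, hBmem⟩
  obtain ⟨hB'B, hfB', hcB'⟩ := hB'mem
  have hquad : ∀ a ∈ A, ∀ b ∈ B', ∀ b'' ∈ B', Commute b ⁅a, b''⁆ := by
    intro a ha
    obtain ⟨hE, hcount⟩ := hO B' hB'B a ha
    set T : Set S := (fun b => ⁅a, b⁆) '' (B' : Set S) with hT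
    set B1 : Subgroup S := B' ⊓ centralizer T with hB1
    set E1 : Subgroup S := (M ⊓ centralizer (B' : Set S)) ⊔ closure T with hE1
    have hB1B' : B1 ≤ B' := inf_le_left
    have hfB1 : f B1 ≤ f B := hU B1 (hB1B'.trans hB'B)
    have hc1 : Nat.card B1 * Nat.card E1 ≤ Nat.card B1 * Nat.card ↥(M ⊓ centralizer (B1 : Set S)) :=
      Nat.mul_le_mul_left _ (Nat.card_mono (Set.toFinite _) hE)
    have heq : Nat.card ↥(M ⊓ centralizer (B1 : Set S)) ≤ Nat.card E1 := by
      have : Nat.card B1 * Nat.card ↥(M ⊓ centralizer (B1 : Set S)) ≤ Nat.card B1 * Nat.card E1 :=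
        (hfB1.trans hfB').trans hcount
      exact Nat.le_of_mul_le_mul_left this Nat.card_pos
    have hEeq : E1 = M ⊓ centralizer (B1 : Set S) := eq_of_le_of_card_ge hE heq
    have hB1mem : B1 ∈ 𝓑 := by
      refine ⟨hB1B'.trans hB'B, hfB'.trans (hcount.trans hc1), ?_⟩
      rw [← hEeq]
      apply sup_le hcB'
      rw [closure_le]
      rintro t ⟨b, hb, rfl⟩
      exact (le_sup_left : ⁅A, B⁆ ≤ ⁅A, B⁆ ⊔ (M ⊓ centralizer (B : Set S)))
        (commutator_mem_commutator ha (hB'B hb))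
    have hle : Nat.card B' ≤ Nat.card B1 := hB'min B1 hB1mem
    have hB1eq : B1 = B' := eq_of_le_of_card_ge hB1B' hle
    intro b hb b'' hb''
    have hbT : b ∈ centralizer T := by
      have : b ∈ B1 := by rw [hB1eq]; exact hb
      exact (mem_inf.1 this).2
    exact ((mem_centralizer_iff.1 hbT) ⁅a, b''⁆ ⟨b'', hb'', rfl⟩).symm
  have hB'cent : ∀ b ∈ B', ∀ a ∈ A, a * b = b * a :=
    fun b hb => dagger b (fun a ha => (hquad a ha b hb b hb).symm)
  have hA2 : A ≤ ⁅A, B⁆ ⊔ (M ⊓ centralizer (B : Set S)) := by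
    refine le_trans ?_ hcB'
    intro a ha
    refine mem_inf.2 ⟨hAM ha, ?_⟩
    rw [mem_centralizer_iff]
    intro b hb
    exact (hB'cent b hb a ha).symm
  have hLM : ⁅A, B⁆ ≤ M := by
    rw [commutator_le]
    intro a ha b _
    exact hcommM a (hAM ha) b
  have hstep : ⁅A, B⁆ ≤ ⁅⁅A, B⁆, B⁆ := by
    rw [commutator_le]
    intro a ha b hb
    have hsup : ⁅A, B⁆ ⊔ (M ⊓ centralizer (B : Set S)) =
        closure (((⁅A, B⁆ : Subgroup S) : Set S) ∪ ((M ⊓ centralizer (B : Set S) : Subgroup S) : Set S)) := by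
      rw [Subgroup.closure_union, closure_eq, closure_eq]
    have gen : ∀ y ∈ closure (((⁅A, B⁆ : Subgroup S) : Set S) ∪
        ((M ⊓ centralizer (B : Set S) : Subgroup S) : Set S)), y ∈ M ∧ ⁅y, b⁆ ∈ ⁅⁅A, B⁆, B⁆ := by
      intro y hy
      induction hy using closure_induction with
      | mem y hy =>
        rcases hy with hy | hy
        · exact ⟨hLM hy, commutator_mem_commutator hy hb⟩
        · refine ⟨(mem_inf.1 hy).1, ?_⟩
          have : ⁅y, b⁆ = 1 := by
            rw [commutatorElement_eq_one_iff_mul_comm]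
            exact ((mem_centralizer_iff.1 (mem_inf.1 hy).2) b hb).symm
          rw [this]; exact one_mem _
      | one => exact ⟨one_mem _, by rw [commutatorElement_one_left]; exact one_mem _⟩
      | mul y z hy hz ihy ihz =>
        refine ⟨mul_mem ihy.1 ihz.1, ?_⟩
        rw [commutatorElement_mul_left_eq_conj_mul]
        have hzb : ⁅z, b⁆ ∈ M := hcommM z ihz.1 b
        have : y * ⁅z, b⁆ * y⁻¹ = ⁅z, b⁆ := by
          rw [setLike_mul_comm ihy.1 hzb, mul_inv_cancel_right]
        rw [this]; exact mul_mem ihz.2 ihy.2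
      | inv y hy ihy =>
        refine ⟨inv_mem ihy.1, ?_⟩
        rw [commutatorElement_inv_left, ← commutatorElement_inv (g₁ := y) (g₂ := b)]
        have hyb : ⁅y, b⁆⁻¹ ∈ M := inv_mem (hcommM y ihy.1 b)
        have : y⁻¹ * ⁅y, b⁆⁻¹ * y = ⁅y, b⁆⁻¹ := by
          rw [mul_assoc, setLike_mul_comm hyb ihy.1, ← mul_assoc, inv_mul_cancel, one_mul]
        rw [this]; exact inv_mem ihy.2
    have hmem := hA2 ha
    rw [hsup] at hmem
    exact (gen a hmem).2
  have hbot : ⁅A, B⁆ = ⊥ := by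
    obtain ⟨n, hn⟩ := (Subgroup.nilpotent_iff_lowerCentralSeries.1 (inferInstance : Group.IsNilpotent S))
    have hk : ∀ k, ⁅A, B⁆ ≤ (⊤ : Subgroup S).lowerCentralSeries k := by
      intro k
      induction k with
      | zero => rw [Subgroup.lowerCentralSeries_zero]; exact le_top
      | succ k ih =>
        rw [Subgroup.lowerCentralSeries_succ]
        exact hstep.trans (commutator_mono ih le_top)
    rw [eq_bot_iff, ← hn]; exact hk n
  exact commutator_eq_bot_iff_le_centralizer.1 hbot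

/-- A member of the family behind `D*` lies in every abelian subgroup of largest order. -/
theorem le_of_mem_maxAbelian [Finite S] [Group.IsNilpotent S] {A : Subgroup S}
    (hA : A ∈ Cfsg.dStarFamily S) (B : Subgroup S) (hB : B ∈ Cfsg.maxAbelianSubgroups S) :
    A ≤ B := by
  have hc := le_centralizer_of_mem_maxAbelian hA B hB
  have := hA.1
  have := hB.1
  have hcomm : IsMulCommutative ↥(A ⊔ B) := by
    have : A ⊔ B = closure ((A : Set S) ∪ (B : Set S)) := by
      rw [Subgroup.closure_union, closure_eq, closure_eq]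
    rw [this]
    apply isMulCommutative_closure
    rintro u (hu | hu) v (hv | hv)
    · exact setLike_mul_comm hu hv
    · exact ((mem_centralizer_iff.1 (hc hu)) v hv).symm
    · exact (mem_centralizer_iff.1 (hc hv)) u hu
    · exact setLike_mul_comm hu hv
  have hcard := hB.2 _ hcomm
  have heq : B = A ⊔ B := eq_of_le_of_card_ge le_sup_right hcard
  exact le_sup_left.trans (le_of_eq heq.symm)

/-- Let S be a finite p-group, J(S) the subgroup generated by the abelian subgroups of S of largest order and Z(J(S)) its centre. Then Z(S) ≤ D*(S) ≤ Z(J(S)), and every maximal normal abelian subgroup of S contains D*(S). -/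
theorem result {S : Type*} [Group S] [Finite S] {p : ℕ} [Fact p.Prime]
    (hS : IsPGroup p S) :
    Subgroup.center S ≤ Cfsg.dStar S ∧
    Cfsg.dStar S ≤ Cfsg.thompsonSubgroupA S ⊓ Subgroup.centralizer (Cfsg.thompsonSubgroupA S : Set S) ∧
    ∀ A : Subgroup S, A.Normal → IsMulCommutative A →
      (∀ B : Subgroup S, B.Normal → IsMulCommutative B → A ≤ B → B = A) → Cfsg.dStar S ≤ A := by
  have : Group.IsNilpotent S := hS.isNilpotent
  refine ⟨?_, ?_, ?_⟩
  · apply le_sSup
    refine ⟨inferInstance, ?_⟩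
    intro x _ a ha
    exact (Subgroup.mem_center_iff.1 ha x).symm
  · have hall : ∀ B ∈ Cfsg.maxAbelianSubgroups S, Cfsg.dStar S ≤ B :=
      fun B hB => sSup_le (fun A hA => le_of_mem_maxAbelian hA B hB)
    obtain ⟨B₀, hB₀⟩ : (Cfsg.maxAbelianSubgroups S).Nonempty := by
      obtain ⟨B₀, hB₀, hmax⟩ := Set.exists_max_image {B : Subgroup S | IsMulCommutative B}
        (fun B : Subgroup S => Nat.card B) (Set.toFinite _) ⟨⊥, (inferInstance : IsMulCommutative (⊥ : Subgroup S))⟩
      exact ⟨B₀, hB₀, fun B' hB' => hmax B' hB'⟩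
    refine le_inf ((hall B₀ hB₀).trans (le_sSup hB₀)) ?_
    rw [le_centralizer_iff]
    apply sSup_le
    intro B hB x hx
    rw [mem_centralizer_iff]
    intro d hd
    have := hB.1
    exact setLike_mul_comm (hall B hB hd) hx
  · intro A hAn hAc hAmax
    exact dStar_le_of_maximal_normal_abelian A hAn hAc hAmax

end Cfsg.Agent.S3062
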