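import Cfsg.Statements.S3063
import Mathlib
import Cfsg.Agent.Lib.helper57.Replacement
import Cfsg.Agent.Lib.helper53.Conj

set_option autoImplicit false
open Cfsg

namespace Cfsg.Agent.S3063

open Subgroup
open scoped commutatorElement
open Cfsg.Agent.Lib.helper57

/-- A weak replacement Theorem for metabelian p-groups: let S be a finite p-group whose derived subgroup is abelian and A an abelian subgroup of S of largest possible order. Then the normal closure of A in S contains an abelian subgroup B of the same order as A that is normal in S. -/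
theorem result {S : Type*} [Group S] [Finite S] {p : ℕ} [Fact p.Prime]
    (hS : IsPGroup p S) (hmeta : IsMulCommutative ↥(commutator S))
    (A : Subgroup S) (hA : A ∈ Cfsg.maxAbelianSubgroups S) :
    ∃ B ∈ Cfsg.maxAbelianSubgroups S, B.Normal ∧ B ≤ Subgroup.normalClosure (A : Set S) := by
  classical
  have : Group.IsNilpotent S := hS.isNilpotent
  set R : Subgroup S := normalClosure (A : Set S) with hR
  have hRn : R.Normal := normalClosure_normal
  set D : Subgroup S := commutator S with hD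
  have hDmem : ∀ a g : S, ⁅a, g⁆ ∈ D := by
    intro a g
    rw [hD, commutator_def]
    exact Subgroup.commutator_mem_commutator (mem_top a) (mem_top g)
  -- the family
  have hfin : ({A' : Subgroup S | A' ∈ Cfsg.maxAbelianSubgroups S ∧ A' ≤ R}).Finite :=
    Set.toFinite _
  have hne : ({A' : Subgroup S | A' ∈ Cfsg.maxAbelianSubgroups S ∧ A' ≤ R}).Nonempty :=
    ⟨A, hA, le_normalClosure⟩
  obtain ⟨A₁, ⟨hA₁max, hA₁R⟩, hbest⟩ :=
    Set.exists_max_image _ (fun A' : Subgroup S => Nat.card ↥(A' ⊓ D)) hfin hne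
  have hA₁c : IsMulCommutative A₁ := hA₁max.1
  -- the key claim
  have hclaim : ∀ g : S, (∀ a ∈ A₁, ⁅a, g⁆ ∈ normalizer (A₁ : Set S)) →
      g ∈ normalizer (A₁ : Set S) := by
    intro g hg
    obtain ⟨Astar, hc, hcard, hle, hinf, hmem⟩ :=
      replacement_key A₁ D g (fun a ha => ⟨hDmem a g, hg a ha⟩)
    have hAstar_max : Astar ∈ Cfsg.maxAbelianSubgroups S :=
      ⟨hc, fun B hB => (hA₁max.2 B hB).trans hcard⟩
    have hAstarR : Astar ≤ R := hle.trans (normalClosure_le_normal hA₁R)
    have h1 := hbest Astar ⟨hAstar_max, hAstarR⟩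
    have heq : A₁ ⊓ D = Astar ⊓ D := eq_of_le_of_card_ge hinf h1
    have hcA : ∀ a ∈ A₁, ⁅a, g⁆ ∈ A₁ := by
      intro a ha
      have : ⁅a, g⁆ ∈ Astar ⊓ D := Subgroup.mem_inf.2 ⟨hmem a ha, hDmem a g⟩
      rw [← heq] at this
      exact (Subgroup.mem_inf.1 this).1
    apply Cfsg.Agent.Lib.helper53.mem_normalizer_of_conj_le
    rw [Cfsg.Agent.Lib.helper53.conj_le_iff]
    intro a ha
    have h2 := hcA a⁻¹ (inv_mem ha)
    have : g * a * g⁻¹ = a * ⁅a⁻¹, g⁆ := by rw [commutatorElement_def]; group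
    rw [this]
    exact mul_mem ha h2
  -- Step 1: the derived subgroup normalizes A₁
  have hstep1 : D ≤ normalizer (A₁ : Set S) := by
    by_contra hcon
    obtain ⟨n₀, hn₀⟩ :=
      (Group.IsNilpotent.nilpotent' : ∃ n : ℕ, Subgroup.upperCentralSeries S n = ⊤)
    have hex : ∃ n, ¬ (D ⊓ Subgroup.upperCentralSeries S n ≤ normalizer (A₁ : Set S)) :=
      ⟨n₀, by rw [hn₀, inf_top_eq]; exact hcon⟩
    set m := Nat.find hex with hm
    have hPm : ¬ (D ⊓ Subgroup.upperCentralSeries S m ≤ normalizer (A₁ : Set S)) :=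
      Nat.find_spec hex
    have hm0 : m ≠ 0 := by
      intro h0
      rw [h0, Subgroup.upperCentralSeries_zero, inf_bot_eq] at hPm
      exact hPm bot_le
    obtain ⟨i, hi⟩ := Nat.exists_eq_succ_of_ne_zero hm0
    have hPi : D ⊓ Subgroup.upperCentralSeries S i ≤ normalizer (A₁ : Set S) := by
      by_contra hc
      have : m ≤ i := Nat.find_min' hex hc
      omega
    rw [hi] at hPm
    obtain ⟨x, hx, hxN⟩ := SetLike.not_le_iff_exists.1 hPm
    obtain ⟨hxD, hxZ⟩ := Subgroup.mem_inf.1 hx
    apply hxN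
    apply hclaim
    intro a ha
    apply hPi
    refine Subgroup.mem_inf.2 ⟨hDmem a x, ?_⟩
    rw [← commutatorElement_inv]
    exact inv_mem ((Subgroup.mem_upperCentralSeries_succ_iff.1 hxZ) a)
  -- Step 2: A₁ is normal
  have hnorm : normalizer (A₁ : Set S) = ⊤ := by
    rw [eq_top_iff]
    intro g _
    exact hclaim g (fun a _ => hstep1 (hDmem a g))
  exact ⟨A₁, hA₁max, Subgroup.normalizer_eq_top_iff.1 hnorm, hA₁R⟩

end Cfsg.Agent.S3063
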