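import Cfsg.Statements.S3064
import Mathlib
import Cfsg.Agent.Lib.helper84.Frobenius
import Cfsg.Agent.Lib.helper40.PComp
import Cfsg.Agent.Lib.helper53.Conj

set_option autoImplicit false
open Cfsg

namespace Cfsg.Agent.S3064

open Subgroup
open scoped Pointwise

universe u

variable {G : Type u} [Group G]

/-- The hypotheses of the statement, packaged. -/
def Hyp (p : ℕ) (G : Type u) [Group G] (x : G) : Prop :=
  (∃ S : Sylow p G, x ∈ S ∧ ∀ g : G, g⁻¹ * x * g ∈ S → g⁻¹ * x * g = x) ∧
  (∀ H : Subgroup G, (Nat.card H).Coprime p → (∀ h ∈ H, x * h * x⁻¹ ∈ H) →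
    ∀ h ∈ H, x * h = h * x)

theorem mem_cent_singleton {x m : G} : m ∈ centralizer ({x} : Set G) ↔ x * m = m * x := by
  rw [mem_centralizer_iff]
  constructor
  · intro h
    exact h x rfl
  · intro h y hy
    rw [Set.mem_singleton_iff] at hy
    subst hy
    exact h

theorem isPGroup_zpowers_conj {p : ℕ} (S : Sylow p G) {x : G} (hx : x ∈ S) (g : G) :
    IsPGroup p (zpowers (g⁻¹ * x * g)) := by
  have h1 : g⁻¹ * x * g ∈ (S : Subgroup G).map (MulAut.conj g⁻¹).toMonoidHom := by
    rw [Cfsg.Agent.Lib.helper53.mem_conj_iff, inv_inv]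
    have : g * (g⁻¹ * x * g) * g⁻¹ = x := by group
    rw [this]
    exact hx
  exact (Cfsg.Agent.Lib.helper53.isPGroup_conj S.isPGroup' g⁻¹).to_le (zpowers_le.2 h1)

/-- A `p`-element normalizing a Sylow `p`-subgroup lies in it. -/
theorem mem_sylow_of_mem_normalizer {p : ℕ} [Fact p.Prime] (S : Sylow p G) {y : G}
    (hy : IsPGroup p (zpowers y)) (hn : y ∈ normalizer ((S : Subgroup G) : Set G)) : y ∈ S := by
  have hW : IsPGroup p (zpowers y ⊔ (S : Subgroup G) : Subgroup G) :=
    hy.to_sup_of_normal_right' S.isPGroup' (zpowers_le.2 hn)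
  have := S.is_maximal' hW le_sup_right
  have hmem : y ∈ zpowers y ⊔ (S : Subgroup G) := (le_sup_left : zpowers y ≤ _) (mem_zpowers y)
  rw [this] at hmem
  exact hmem

/-- If a conjugate of `x` commutes with `x`, it equals `x`. -/
theorem conj_eq_of_commute [Finite G] {p : ℕ} [Fact p.Prime] (S : Sylow p G) (x : G) (hx : x ∈ S)
    (hU : ∀ g : G, g⁻¹ * x * g ∈ S → g⁻¹ * x * g = x) (g : G)
    (hcomm : Commute (g⁻¹ * x * g) x) : g⁻¹ * x * g = x := by
  set y := g⁻¹ * x * g with hy
  have hxp : IsPGroup p (zpowers x) := S.isPGroup'.to_le (zpowers_le.2 hx)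
  have hyp : IsPGroup p (zpowers y) := isPGroup_zpowers_conj S hx g
  have hnorm : zpowers y ≤ normalizer ((zpowers x : Subgroup G) : Set G) := by
    rw [zpowers_le, mem_normalizer_iff]
    intro h
    constructor
    · intro hh
      obtain ⟨k, rfl⟩ := mem_zpowers_iff.1 hh
      have c : Commute y (x ^ k) := hcomm.zpow_right k
      rw [c.eq, mul_inv_cancel_right]
      exact zpow_mem_zpowers x k
    · intro hh
      obtain ⟨k, hk⟩ := mem_zpowers_iff.1 hh
      have c : Commute y (x ^ k) := hcomm.zpow_right k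
      have e : h = x ^ k := by
        calc h = y⁻¹ * (y * h * y⁻¹) * y := by group
          _ = y⁻¹ * x ^ k * y := by rw [hk]
          _ = x ^ k := by rw [mul_assoc, ← c.eq, inv_mul_cancel_left]
      rw [e]
      exact zpow_mem_zpowers x k
  have hW : IsPGroup p (zpowers y ⊔ zpowers x : Subgroup G) :=
    hyp.to_sup_of_normal_right' hxp hnorm
  obtain ⟨k, hk⟩ := Cfsg.Agent.Lib.helper53.exists_le_conj_sylow hW S
  have h1 : x ∈ (S : Subgroup G).map (MulAut.conj k).toMonoidHom :=
    hk ((le_sup_right : zpowers x ≤ _) (mem_zpowers x))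
  have h2 : y ∈ (S : Subgroup G).map (MulAut.conj k).toMonoidHom :=
    hk ((le_sup_left : zpowers y ≤ _) (mem_zpowers y))
  rw [Cfsg.Agent.Lib.helper53.mem_conj_iff] at h1 h2
  have e1 := hU k h1
  have e2 : (g * k)⁻¹ * x * (g * k) = x := by
    apply hU
    have : (g * k)⁻¹ * x * (g * k) = k⁻¹ * y * k := by rw [hy]; group
    rw [this]
    exact h2
  have e3 : k⁻¹ * y * k = k⁻¹ * x * k := by
    rw [e1, ← e2, hy]
    group
  exact mul_left_cancel (mul_right_cancel e3)

/-- The hypotheses pass to subgroups containing `x`. -/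
theorem hyp_subgroup [Finite G] {p : ℕ} [Fact p.Prime] {x : G} (h : Hyp p G x) (H : Subgroup G)
    (hxH : x ∈ H) : Hyp p H ⟨x, hxH⟩ := by
  obtain ⟨⟨S, hxS, hU⟩, hb⟩ := h
  constructor
  · have hxp : IsPGroup p (zpowers (⟨x, hxH⟩ : H)) :=
      (S.isPGroup'.comap_of_injective H.subtype H.subtype_injective).to_le
        (zpowers_le.2 (Subgroup.mem_comap.2 hxS))
    obtain ⟨R, hR⟩ := hxp.exists_le_sylow
    refine ⟨R, hR (mem_zpowers _), ?_⟩
    intro h hh
    obtain ⟨k, hk⟩ := Cfsg.Agent.Lib.helper53.exists_le_conj_sylow (R.isPGroup'.map H.subtype) S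
    have h1 : x ∈ (R : Subgroup H).map H.subtype := ⟨⟨x, hxH⟩, hR (mem_zpowers _), rfl⟩
    have h2 : (h : G)⁻¹ * x * h ∈ (R : Subgroup H).map H.subtype := ⟨_, hh, rfl⟩
    have h3 := Cfsg.Agent.Lib.helper53.mem_conj_iff.1 (hk h1)
    have h4 := Cfsg.Agent.Lib.helper53.mem_conj_iff.1 (hk h2)
    have e3 := hU k h3
    have e4 : ((h : G) * k)⁻¹ * x * ((h : G) * k) = x := by
      apply hU
      have : ((h : G) * k)⁻¹ * x * ((h : G) * k) = k⁻¹ * ((h : G)⁻¹ * x * h) * k := by group
      rw [this]
      exact h4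
    apply Subtype.ext
    show (h : G)⁻¹ * x * h = x
    have e5 : k⁻¹ * ((h : G)⁻¹ * x * h) * k = k⁻¹ * x * k := by
      calc k⁻¹ * ((h : G)⁻¹ * x * h) * k = ((h : G) * k)⁻¹ * x * ((h : G) * k) := by group
        _ = x := e4
        _ = k⁻¹ * x * k := e3.symm
    exact mul_left_cancel (mul_right_cancel e5)
  · intro K hK hnorm k hk
    have hK' : (Nat.card (K.map H.subtype)).Coprime p := by
      rw [Subgroup.card_map_of_injective H.subtype_injective]
      exact hK
    have := hb (K.map H.subtype) hK' (by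
      rintro _ ⟨a, ha, rfl⟩
      exact ⟨_, hnorm a ha, rfl⟩) k ⟨k, hk, rfl⟩
    exact Subtype.ext this

/-- The hypotheses pass to the quotient by the centre. -/
theorem hyp_quotient [Finite G] {p : ℕ} [Fact p.Prime] {x : G} (h : Hyp p G x) :
    Hyp p (G ⧸ center G) (QuotientGroup.mk' (center G) x) := by
  obtain ⟨⟨S, hxS, hU⟩, hb⟩ := h
  set Z : Subgroup G := center G with hZ
  set π := QuotientGroup.mk' Z with hπ
  have hπs : Function.Surjective π := QuotientGroup.mk'_surjective Z
  constructor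
  · refine ⟨S.mapSurjective hπs, Subgroup.mem_map_of_mem _ hxS, ?_⟩
    intro gbar hg
    obtain ⟨g, rfl⟩ := hπs gbar
    have hg' : π (g⁻¹ * x * g) ∈ (S : Subgroup G).map π := by
      have : π (g⁻¹ * x * g) = (π g)⁻¹ * π x * π g := by simp
      rw [this]
      exact hg
    obtain ⟨s, hs, hsy⟩ := hg'
    set y := g⁻¹ * x * g with hy
    have hz : s⁻¹ * y ∈ Z := QuotientGroup.eq.1 hsy
    have hyS : y ∈ S := by
      apply mem_sylow_of_mem_normalizer S (isPGroup_zpowers_conj S hxS g)
      have hcz : ∀ t : G, (s⁻¹ * y) * t = t * (s⁻¹ * y) := fun t =>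
        ((Subgroup.mem_center_iff.1 hz) t).symm
      have hyt : ∀ t : G, y * t * y⁻¹ = s * t * s⁻¹ := by
        intro t
        have e : y = s * (s⁻¹ * y) := by group
        have e' : y⁻¹ = (s⁻¹ * y)⁻¹ * s⁻¹ := by group
        calc y * t * y⁻¹ = s * ((s⁻¹ * y) * t) * y⁻¹ := by group
          _ = s * (t * (s⁻¹ * y)) * y⁻¹ := by rw [hcz t]
          _ = s * t * s⁻¹ := by group
      rw [mem_normalizer_iff]
      intro t
      rw [hyt t]
      constructor
      · intro ht
        exact mul_mem (mul_mem hs ht) (inv_mem hs)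
      · intro ht
        have : t = s⁻¹ * (s * t * s⁻¹) * s := by group
        rw [this]
        exact mul_mem (mul_mem (inv_mem hs) ht) hs
    have hyx : y = x := hU g hyS
    have : (π g)⁻¹ * π x * π g = π y := by rw [hy]; simp
    rw [this, hyx]
  · intro Hbar hcop hnorm hbar hhbar
    set H : Subgroup G := Hbar.comap π with hH
    have Q : Sylow p H := default
    -- p-elements of H are central in G
    have hQZ : ∀ q : H, q ∈ (Q : Subgroup H) → (q : G) ∈ Z := by
      intro q hq
      have hqH : π (q : G) ∈ Hbar := q.2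
      obtain ⟨k, hk⟩ := Q.isPGroup' ⟨q, hq⟩
      have hk' : (q : G) ^ p ^ k = 1 := by
        have := congrArg (fun t : (Q : Subgroup H) => ((t : H) : G)) hk
        simpa using this
      have h1 : orderOf (π (q : G)) ∣ p ^ k := by
        apply orderOf_dvd_of_pow_eq_one
        rw [← map_pow, hk', map_one]
      have h2 : orderOf (π (q : G)) ∣ Nat.card Hbar := Subgroup.orderOf_dvd_natCard Hbar hqH
      have h3 : orderOf (π (q : G)) = 1 :=
        Nat.eq_one_of_dvd_coprimes (Nat.Coprime.pow_left k hcop.symm) h1 h2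
      have h4 : π (q : G) = 1 := orderOf_eq_one_iff.1 h3
      exact (QuotientGroup.eq_one_iff (q : G)).1 h4
    have hQc : (Q : Subgroup H) ≤ center H := by
      intro q hq
      rw [Subgroup.mem_center_iff]
      intro g
      apply Subtype.ext
      exact (Subgroup.mem_center_iff.1 (hQZ q hq)) g
    obtain ⟨K, hKn, hKmem, hcompl⟩ :=
      Cfsg.Agent.Lib.helper40.central_sylow_pprime_subgroup Q hQc
    have hKcop : (Nat.card K).Coprime p := by
      rw [Nat.coprime_comm, Nat.Prime.coprime_iff_not_dvd (Fact.out : p.Prime)]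
      intro hdvd
      obtain ⟨c, hc⟩ := exists_prime_orderOf_dvd_card' p hdvd
      have h1 : orderOf (c : H) = p := by rw [Subgroup.orderOf_coe]; exact hc
      have h2 := (hKmem (c : H)).1 c.2
      rw [h1] at h2
      exact (Fact.out : p.Prime).one_lt.ne' ((Nat.coprime_self p).1 h2)
    have hKG : (Nat.card (K.map H.subtype)).Coprime p := by
      rw [Subgroup.card_map_of_injective H.subtype_injective]
      exact hKcop
    have hxK : ∀ k' ∈ K.map H.subtype, x * k' * x⁻¹ ∈ K.map H.subtype := by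
      rintro _ ⟨k, hk, rfl⟩
      have hmemH : x * (k : G) * x⁻¹ ∈ H := by
        show π (x * (k : G) * x⁻¹) ∈ Hbar
        have : π (x * (k : G) * x⁻¹) = π x * π (k : G) * (π x)⁻¹ := by simp
        rw [this]
        exact hnorm _ k.2
      refine ⟨⟨x * (k : G) * x⁻¹, hmemH⟩, (hKmem _).2 ?_, rfl⟩
      have h1 : orderOf (⟨x * (k : G) * x⁻¹, hmemH⟩ : H) = orderOf (x * (k : G) * x⁻¹) :=
        (Subgroup.orderOf_coe (⟨x * (k : G) * x⁻¹, hmemH⟩ : H)).symm
      have h2 : orderOf (x * (k : G) * x⁻¹) = orderOf (k : G) := by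
        have := (MulAut.conj x).orderOf_eq (k : G)
        rwa [MulAut.conj_apply] at this
      rw [h1, h2, Subgroup.orderOf_coe]
      exact (hKmem k).1 hk
    have hcentK := hb (K.map H.subtype) hKG hxK
    obtain ⟨h, rfl⟩ := hπs hbar
    have hhH : h ∈ H := hhbar
    have hsup : (⟨h, hhH⟩ : H) ∈ K ⊔ (Q : Subgroup H) := by
      rw [hcompl.sup_eq_top]
      exact mem_top _
    rw [Subgroup.mem_sup_of_normal_left] at hsup
    obtain ⟨k, hk, q, hq, hkq⟩ := hsup
    have hkq' : (k : G) * (q : G) = h := congrArg Subtype.val hkq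
    have c1 : x * (k : G) = (k : G) * x := hcentK _ ⟨k, hk, rfl⟩
    have c2 : x * (q : G) = (q : G) * x := (Subgroup.mem_center_iff.1 (hQZ q hq)) x
    have c3 : x * h = h * x := by
      rw [← hkq', ← mul_assoc, c1, mul_assoc, c2, mul_assoc]
    show π x * π h = π h * π x
    rw [← map_mul, ← map_mul, c3]

theorem main (p : ℕ) [Fact p.Prime] : ∀ (n : ℕ) (G : Type u) [Group G] [Finite G],
    Nat.card G = n → ∀ x : G, Hyp p G x → x ∈ center G := by
  intro n
  induction n using Nat.strong_induction_on with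
  | _ n ih =>
  intro G _ _ hn x hyp
  by_contra hxZ
  obtain ⟨⟨S, hxS, hU⟩, hb⟩ := id hyp
  -- proper subgroups containing x centralize x
  have hA : ∀ H : Subgroup G, H ≠ ⊤ → x ∈ H → ∀ h ∈ H, h * x = x * h := by
    intro H hH hxH h hh
    have hlt : Nat.card H < n := by
      rw [← hn]
      exact lt_of_le_of_ne (Subgroup.card_le_card_group H)
        (fun h => hH (Subgroup.eq_top_of_card_eq H h))
    have h1 := ih (Nat.card H) hlt H rfl ⟨x, hxH⟩ (hyp_subgroup hyp H hxH)
    have h2 := (Subgroup.mem_center_iff.1 h1) ⟨h, hh⟩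
    exact congrArg Subtype.val h2
  set M : Subgroup G := centralizer ({x} : Set G) with hM
  -- conjugates by elements outside M generate G together with x
  have hB2 : ∀ g : G, g ∉ M → closure ({x, g⁻¹ * x * g} : Set G) = ⊤ := by
    intro g hg
    by_contra hne
    have h1 := hA _ hne (subset_closure (by simp)) (g⁻¹ * x * g) (subset_closure (by simp))
    have h2 := conj_eq_of_commute S x hxS hU g h1
    apply hg
    rw [hM, mem_cent_singleton]
    calc x * g = g * (g⁻¹ * x * g) := by group
      _ = g * x := by rw [h2]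
  -- the centre is trivial
  have hZ : center G = ⊥ := by
    by_contra hZne
    have hlt : Nat.card (G ⧸ center G) < n := by
      rw [← hn]
      have h1 := Subgroup.card_eq_card_quotient_mul_card_subgroup (center G)
      have h2 : 1 < Nat.card (center G) := (Subgroup.one_lt_card_iff_ne_bot (center G)).2 hZne
      have h3 : 0 < Nat.card (G ⧸ center G) := Nat.card_pos
      nlinarith
    have h1 := ih _ hlt (G ⧸ center G) rfl _ (hyp_quotient hyp)
    apply hxZ
    rw [Subgroup.mem_center_iff]
    intro g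
    have h2 : g⁻¹ * x * g = x := by
      apply conj_eq_of_commute S x hxS hU g
      have h3 : (QuotientGroup.mk' (center G)) (g⁻¹ * x * g) = (QuotientGroup.mk' (center G)) x := by
        have := (Subgroup.mem_center_iff.1 h1) ((QuotientGroup.mk' (center G)) g)
        rw [map_mul, map_mul, map_inv, mul_assoc, ← this, inv_mul_cancel_left]
      have h4 : x⁻¹ * (g⁻¹ * x * g) ∈ center G := QuotientGroup.eq.1 h3.symm
      have h5 := (Subgroup.mem_center_iff.1 h4) x
      -- h5 : x * (x⁻¹ * (g⁻¹ * x * g)) = x⁻¹ * (g⁻¹ * x * g) * x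
      show (g⁻¹ * x * g) * x = x * (g⁻¹ * x * g)
      calc (g⁻¹ * x * g) * x = x * (x⁻¹ * (g⁻¹ * x * g) * x) := by group
        _ = x * (x * (x⁻¹ * (g⁻¹ * x * g))) := by rw [h5]
        _ = x * (g⁻¹ * x * g) := by group
    calc g * x = g * (g⁻¹ * x * g) := by rw [h2]
      _ = x * g := by group
  -- M is a Frobenius complement
  have hxM : x ∈ M := by rw [hM, mem_cent_singleton]
  have hMbot : M ≠ ⊥ := by
    intro h
    rw [h, Subgroup.mem_bot] at hxM
    apply hxZ
    rw [hxM]
    exact one_mem _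
  have hMtop : M ≠ ⊤ := by
    intro h
    apply hxZ
    rw [Subgroup.mem_center_iff]
    intro g
    have : g ∈ M := by rw [h]; exact mem_top g
    rw [hM, mem_cent_singleton] at this
    exact this.symm
  have hTI : ∀ g : G, g ∉ M → M ⊓ (MulAut.conj g • M) = ⊥ := by
    intro g hg
    rw [eq_bot_iff]
    intro y hy
    obtain ⟨hy1, hy2⟩ := Subgroup.mem_inf.1 hy
    rw [Cfsg.Agent.Lib.helper84.mem_conj_smul_iff] at hy2
    rw [hM, mem_cent_singleton] at hy1 hy2
    have hg' : g⁻¹ ∉ M := fun h => hg (by simpa using inv_mem h)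
    have hcl := hB2 g⁻¹ hg'
    have hle : closure ({x, g⁻¹⁻¹ * x * g⁻¹} : Set G) ≤ centralizer ({y} : Set G) := by
      rw [closure_le]
      intro w hw
      rw [SetLike.mem_coe, mem_cent_singleton]
      rcases hw with rfl | hw
      · exact hy1.symm
      · rw [Set.mem_singleton_iff] at hw
        subst hw
        rw [inv_inv]
        calc y * (g * x * g⁻¹) = g * ((g⁻¹ * y * g) * x) * g⁻¹ := by group
          _ = g * (x * (g⁻¹ * y * g)) * g⁻¹ := by rw [hy2]
          _ = g * x * g⁻¹ * y := by group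
    rw [hcl] at hle
    have hyc : y ∈ center G := by
      rw [Subgroup.mem_center_iff]
      intro g'
      have := hle (mem_top g')
      rw [mem_cent_singleton] at this
      exact this.symm
    rw [hZ] at hyc
    exact hyc
  obtain ⟨N, -, hNn, hcompl⟩ := Cfsg.Agent.Lib.helper84.frobenius_kernel M ⟨hMbot, hMtop, hTI⟩
  have hSM : (S : Subgroup G) ≤ M := by
    intro s hs
    rw [hM, mem_cent_singleton]
    have h1 : s⁻¹ * x * s ∈ S := mul_mem (mul_mem (inv_mem hs) hxS) hs
    have h2 := hU s h1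
    calc x * s = s * (s⁻¹ * x * s) := by group
      _ = s * x := by rw [h2]
  have hNcop : (Nat.card N).Coprime p := by
    rw [Nat.coprime_comm, Nat.Prime.coprime_iff_not_dvd (Fact.out : p.Prime)]
    intro hdvd
    rw [← hcompl.index_eq_card] at hdvd
    exact S.not_dvd_index (dvd_trans hdvd (Subgroup.index_dvd_of_le hSM))
  have hNM : N ≤ M := by
    intro y hy
    rw [hM, mem_cent_singleton]
    exact hb N hNcop (fun h hh => hNn.conj_mem h hh x) y hy
  have hNbot : N = ⊥ := by
    have := hcompl.disjoint.eq_bot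
    rwa [inf_of_le_left hNM] at this
  have hidx : M.index = 1 := by
    rw [hcompl.index_eq_card, hNbot]
    exact Subgroup.card_bot
  exact hMtop (Subgroup.index_eq_one.1 hidx)

/-- Let S be a Sylow p-subgroup of the finite group G and x an element of S such that (i) x is the only G-conjugate of x lying in S, and (ii) x centralizes every subgroup of order prime to p that it normalizes. Then x lies in the centre of G. -/
theorem result {G : Type*} [Group G] [Finite G] {p : ℕ} [Fact p.Prime]
    (S : Sylow p G) (x : G) (hx : x ∈ S)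
    (hU : ∀ g : G, g⁻¹ * x * g ∈ S → g⁻¹ * x * g = x)
    (hb : ∀ H : Subgroup G, (Nat.card H).Coprime p → (∀ h ∈ H, x * h * x⁻¹ ∈ H) → ∀ h ∈ H, x * h = h * x) :
    x ∈ Subgroup.center G := by
  exact main p (Nat.card G) G rfl x ⟨⟨S, hx, hU⟩, hb⟩

end Cfsg.Agent.S3064
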