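import Cfsg.Statements.S3067
import Cfsg.Agent.S0201
import Cfsg.Agent.Lib.helper36.ZStarLocal
import Cfsg.Agent.Lib.helper11.ZStarChar
import Cfsg.Agent.Lib.helper18.ZStar
import Cfsg.Agent.Lib.helper52.CoprimeInv

set_option autoImplicit false
open Cfsg

namespace Cfsg.Agent.S3067

/-- Let G be a finite non-abelian simple group, τ an involution of G, and α a nontrivial automorphism of G whose order is coprime to the order of G. Then α moves some element of the centralizer of τ: α does not fix C_G(τ) elementwise. -/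
theorem result {G : Type*} [Group G] [Finite G] [IsSimpleGroup G]
    (hG : ¬ IsMulCommutative G) (τ : G) (hτ : orderOf τ = 2) (α : MulAut G) (hα : α ≠ 1)
    (hcop : (orderOf α).Coprime (Nat.card G)) :
    ∃ c ∈ Subgroup.centralizer ({τ} : Set G), α c ≠ c := by
  classical
  by_contra hcon
  push Not at hcon
  -- pass to a power of prime order
  have hord : orderOf α ≠ 1 := fun h => hα (orderOf_eq_one_iff.mp h)
  obtain ⟨r, hr, hrdvd⟩ := Nat.exists_prime_and_dvd hord
  have hpos : 0 < orderOf α := orderOf_pos α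
  have hβord : orderOf (α ^ (orderOf α / r)) = r := orderOf_pow_orderOf_div hpos.ne' hrdvd
  have hβr : (α ^ (orderOf α / r)) ^ r = 1 := by
    have := pow_orderOf_eq_one (α ^ (orderOf α / r))
    rwa [hβord] at this
  have hβ1 : α ^ (orderOf α / r) ≠ 1 := by
    intro h
    rw [h, orderOf_one] at hβord
    exact hr.one_lt.ne hβord
  have hcopr : Nat.Coprime r (Nat.card G) := Nat.Coprime.coprime_dvd_left hrdvd hcop
  have hC : ∀ c : G, c * τ = τ * c → (α ^ (orderOf α / r)) c = c := by
    intro c hc
    have hcm : c ∈ Subgroup.centralizer ({τ} : Set G) := by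
      rw [Subgroup.mem_centralizer_singleton_iff]
      exact hc
    exact Cfsg.Agent.Lib.helper52.CoprimeInv.pow_apply_of_fixed α (hcon c hcm) _
  -- the normal core of the fixed subgroup is trivial
  have hcore : (Cfsg.Agent.Lib.helper52.CoprimeInv.fixSub (α ^ (orderOf α / r))).normalCore
      = ⊥ := by
    rcases (Subgroup.normalCore_normal
      (Cfsg.Agent.Lib.helper52.CoprimeInv.fixSub (α ^ (orderOf α / r)))).eq_bot_or_eq_top
      with h | h
    · exact h
    · exfalso
      apply hβ1
      ext x
      have hx : x ∈ (Cfsg.Agent.Lib.helper52.CoprimeInv.fixSub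
          (α ^ (orderOf α / r))).normalCore := by rw [h]; trivial
      exact (Subgroup.normalCore_le _) hx
  -- `τ` is an isolated involution
  have hiso : Cfsg.IsIsolatedInvolution τ := by
    refine ⟨hτ, fun g hcomm => ?_⟩
    have h1 : (α ^ (orderOf α / r)) (g * τ * g⁻¹) = g * τ * g⁻¹ := hC _ hcomm.eq.symm
    have h2 := Cfsg.Agent.Lib.helper52.CoprimeInv.mem_normalCore (α ^ (orderOf α / r)) hr hβr
      hcopr τ hτ hC g h1
    rw [hcore, Subgroup.mem_bot] at h2
    exact inv_mul_eq_one.mp h2
  -- Glauberman's Z*-theorem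
  obtain ⟨N, hNn, hNodd, hN⟩ := Cfsg.Agent.Lib.helper18.zstar_isolated_of_hyps
    (fun G _ _ S n e hO => Cfsg.Agent.S0201.result S n e hO)
    (fun G _ _ IH hZ t ht u hu hut hne M hM χ hχ x y hx hy =>
      Cfsg.Agent.Lib.helper36.zstar_local IH hZ t ht u hu hut hne M hM χ hχ x y hx hy)
    (fun G _ _ t u ht hu hut hne hnc hgen M hM h1 h2 =>
      Cfsg.Agent.Lib.helper11.zstar_char t u ht hu hut hne hnc hgen M hM h1 h2)
    τ hiso
  rcases hNn.eq_bot_or_eq_top with h | h
  · -- `τ` is central
    have hcen : τ ∈ Subgroup.center G := by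
      rw [Subgroup.mem_center_iff]
      intro g
      have h3 := hN g
      rw [h, Subgroup.mem_bot] at h3
      calc g * τ = (τ * g * τ⁻¹ * g⁻¹)⁻¹ * (τ * g) := by group
        _ = τ * g := by rw [h3, inv_one, one_mul]
    rcases (inferInstance : (Subgroup.center G).Normal).eq_bot_or_eq_top with h' | h'
    · rw [h', Subgroup.mem_bot] at hcen
      rw [hcen, orderOf_one] at hτ
      omega
    · apply hG
      refine ⟨⟨fun a b => ?_⟩⟩
      have ha : a ∈ Subgroup.center G := by rw [h']; trivial
      exact (Subgroup.mem_center_iff.mp ha b).symm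
  · -- `N = ⊤` has odd order, but `|G|` is even
    have h2 : 2 ∣ Nat.card G := hτ ▸ orderOf_dvd_natCard τ
    rw [h, Subgroup.card_top] at hNodd
    exact (Nat.not_even_iff_odd.mpr hNodd) (even_iff_two_dvd.mpr h2)

end Cfsg.Agent.S3067
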