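import Cfsg.Statements.S3073
import Cfsg.Agent.Lib.helper57.GlaubermanThompson
import Cfsg.Agent.Lib.helper57.PNil
import Cfsg.Agent.Lib.helper13.SylowIn
import Cfsg.Agent.Lib.helper13.PCoreAct
import Cfsg.Agent.Lib.helper14.QuadStable

set_option autoImplicit false
universe u
open Cfsg

namespace Cfsg.Agent.S3073

open Cfsg.Agent.Lib.helper57 Cfsg.Agent.Lib.helper14 Cfsg.Agent.Lib.helper40 Cfsg.Agent.Lib.helper13

/-- if `C` is normalized by `N`, contains all `p'`-elements of `N` and is `p`-nilpotent, then `N` is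
`p`-nilpotent -/
theorem pNil_of_subgroup_contains {G : Type*} [Group G] {p : ℕ} (C N : Subgroup G)
    (hall : ∀ g ∈ N, (orderOf g).Coprime p → g ∈ C) (hC : PNil p ↥C) : PNil p ↥N := by
  obtain ⟨K, hKn, hK⟩ := hC
  have hiff : ∀ g : ↥N, g ∈ (K.map C.subtype).subgroupOf N ↔ (orderOf g).Coprime p := by
    intro g
    rw [Subgroup.mem_subgroupOf]
    constructor
    · rintro ⟨k, hk, hkg⟩
      have h1 := (hK k).1 hk
      have h2 : orderOf (g : G) = orderOf k := by
        rw [← Subgroup.orderOf_coe k]; exact congrArg orderOf hkg.symm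
      rw [← Subgroup.orderOf_coe g, h2]; exact h1
    · intro hg
      have hg' : (orderOf (g : G)).Coprime p := by rwa [Subgroup.orderOf_coe]
      have h1 : (g : G) ∈ C := hall g g.2 hg'
      refine ⟨⟨g, h1⟩, (hK _).2 ?_, rfl⟩
      rw [Subgroup.orderOf_mk]; exact hg'
  refine ⟨(K.map C.subtype).subgroupOf N, ⟨?_⟩, hiff⟩
  intro x hx n
  rw [hiff] at hx ⊢
  have : orderOf (n * x * n⁻¹) = orderOf x := (MulAut.conj n).orderOf_eq x
  rw [this]; exact hx

theorem exists_mul_pow {G : Type*} [Group G] (C : Subgroup G) (c m : G) (hc : c ∈ C)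
    (hm : ∀ x ∈ C, m * x * m⁻¹ ∈ C) (k : ℕ) : ∃ c' ∈ C, (c * m) ^ k = c' * m ^ k := by
  have hmk : ∀ j : ℕ, ∀ x ∈ C, m ^ j * x * (m ^ j)⁻¹ ∈ C := by
    intro j
    induction j with
    | zero => intro x hx; simpa using hx
    | succ j ihj =>
      intro x hx
      have h1 := hm _ (ihj x hx)
      have e : m ^ (j+1) * x * (m ^ (j+1))⁻¹ = m * (m ^ j * x * (m ^ j)⁻¹) * m⁻¹ := by
        rw [pow_succ']; group
      rw [e]; exact h1
  induction k with
  | zero => exact ⟨1, C.one_mem, by simp⟩
  | succ k ih =>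
    obtain ⟨c', hc', h⟩ := ih
    refine ⟨c' * (m ^ k * c * (m ^ k)⁻¹), C.mul_mem hc' (hmk k c hc), ?_⟩
    rw [pow_succ, h, pow_succ]; group

theorem conj_mem_centralizer {G : Type*} [Group G] (Z : Subgroup G) (n : G)
    (hn : n ∈ Subgroup.normalizer (Z : Set G)) (c : G) (hc : c ∈ Subgroup.centralizer (Z : Set G)) :
    n * c * n⁻¹ ∈ Subgroup.centralizer (Z : Set G) := by
  rw [Subgroup.mem_centralizer_iff] at hc ⊢
  intro z hz
  have hz' : n⁻¹ * z * n ∈ Z := by
    apply (Subgroup.mem_normalizer_iff.1 hn (n⁻¹ * z * n)).2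
    have e : n * (n⁻¹ * z * n) * n⁻¹ = z := by group
    rw [e]; exact hz
  have h1 := hc _ hz'
  calc z * (n * c * n⁻¹) = n * ((n⁻¹ * z * n) * c) * n⁻¹ := by group
    _ = n * (c * (n⁻¹ * z * n)) * n⁻¹ := by rw [h1]
    _ = n * c * n⁻¹ * z := by group

theorem coprime_mem_centralizer {G : Type u} [Group G] [Finite G] {p : ℕ} [Fact p.Prime]
    (ZG KG P₁ : Subgroup G) (hZK : ZG ≤ KG)
    (hP₁C : P₁ ≤ Subgroup.centralizer (ZG : Set G)) (hP₁ : IsPGroup p P₁)
    (hsyl : ¬ p ∣ P₁.relIndex (Subgroup.centralizer (ZG : Set G)))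
    (hN : Subgroup.normalizer (P₁ : Set G) ≤ Subgroup.normalizer (KG : Set G))
    (hyp : ∀ g ∈ Subgroup.normalizer (KG : Set G), (orderOf g).Coprime p →
      g ∈ Subgroup.centralizer (KG : Set G)) :
    ∀ g ∈ Subgroup.normalizer (ZG : Set G), (orderOf g).Coprime p →
      g ∈ Subgroup.centralizer (ZG : Set G) := by
  intro g hg hco
  have hJ'C : P₁.map (MulAut.conj g).toMonoidHom ≤ Subgroup.centralizer (ZG : Set G) := by
    rintro _ ⟨x, hx, rfl⟩
    exact conj_mem_centralizer ZG g hg x (hP₁C hx)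
  have hJ'p : IsPGroup p (P₁.map (MulAut.conj g).toMonoidHom) := hP₁.map _
  have hJ'card : Nat.card (P₁.map (MulAut.conj g).toMonoidHom) = Nat.card P₁ :=
    Subgroup.card_map_of_injective (MulAut.conj g).injective
  have hsyl' : ¬ p ∣ (P₁.map (MulAut.conj g).toMonoidHom).relIndex
      (Subgroup.centralizer (ZG : Set G)) := by
    have h1 := relIndex_mul_card_of_le hJ'C
    have h2 := relIndex_mul_card_of_le hP₁C
    rw [hJ'card, ← h2] at h1
    have h3 := Nat.eq_of_mul_eq_mul_right (Nat.card_pos (α := ↥P₁)) h1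
    rw [h3]; exact hsyl
  obtain ⟨c, hc, hcJ⟩ := exists_conj_of_not_dvd_relIndex hJ'C hP₁ hJ'p hsyl hsyl'
  have hm : c⁻¹ * g ∈ Subgroup.normalizer (P₁ : Set G) := by
    apply mem_normalizer_of_forall_conj_mem
    intro x hx
    have h1 := hcJ (g * x * g⁻¹) ⟨x, hx, rfl⟩
    have e : c⁻¹ * g * x * (c⁻¹ * g)⁻¹ = c⁻¹ * (g * x * g⁻¹) * c := by group
    rw [e]; exact h1
  have hmK : c⁻¹ * g ∈ Subgroup.normalizer (KG : Set G) := hN hm
  have hgcm : g = c * (c⁻¹ * g) := by group
  have hcN : c ∈ Subgroup.normalizer (ZG : Set G) := Subgroup.centralizer_le_normalizer _ hc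
  have hmN : c⁻¹ * g ∈ Subgroup.normalizer (ZG : Set G) :=
    Subgroup.mul_mem _ (Subgroup.inv_mem _ hcN) hg
  obtain ⟨a, ha⟩ := exists_pow_prime_pow_coprime (X := G) (p := p)
  have h1 : (c⁻¹ * g) ^ (p ^ a) ∈ Subgroup.centralizer (ZG : Set G) := by
    have h2 := hyp _ (Subgroup.pow_mem _ hmK _) (ha (c⁻¹ * g))
    exact Subgroup.centralizer_le hZK h2
  obtain ⟨c', hc', hpow⟩ := exists_mul_pow (Subgroup.centralizer (ZG : Set G)) c (c⁻¹ * g) hc
    (fun x hx => conj_mem_centralizer ZG _ hmN x hx) (p ^ a)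
  have h3 : g ^ (p ^ a) ∈ Subgroup.centralizer (ZG : Set G) := by
    rw [hgcm, hpow]; exact Subgroup.mul_mem _ hc' h1
  obtain ⟨s, hs⟩ := exists_pow_eq_self_of_coprime (n := p ^ a) (x := g)
    (Nat.Coprime.pow_left a hco.symm)
  rw [← hs]; exact Subgroup.pow_mem _ h3 s

theorem not_dvd_relIndex_centralizer {S G : Type u} [Group S] [Group G] [Finite G]
    {p : ℕ} [Fact p.Prime] (hS : IsPGroup p S) (f : S →* G) (hf : Function.Injective f)
    (hidx : ¬ p ∣ f.range.index) (Z : Subgroup S) [hZn : Z.Normal] :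
    ¬ p ∣ ((Subgroup.centralizer (Z : Set S)).map f).relIndex
      (Subgroup.centralizer ((Z.map f : Subgroup G) : Set G)) := by
  have hP : IsPGroup p f.range := hS.of_surjective f.rangeRestrict f.rangeRestrict_surjective
  have heq : (Subgroup.centralizer (Z : Set S)).map f =
      f.range ⊓ Subgroup.centralizer ((Z.map f : Subgroup G) : Set G) := by
    ext y
    rw [Subgroup.mem_inf]
    constructor
    · rintro ⟨x, hx, rfl⟩
      refine ⟨⟨x, rfl⟩, ?_⟩
      rw [Subgroup.mem_centralizer_iff]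
      rintro _ ⟨z, hz, rfl⟩
      rw [← map_mul, ← map_mul, (Subgroup.mem_centralizer_iff.1 hx) z hz]
    · rintro ⟨⟨x, rfl⟩, hx⟩
      refine ⟨x, ?_, rfl⟩
      show x ∈ Subgroup.centralizer (Z : Set S)
      rw [Subgroup.mem_centralizer_iff]
      intro z hz
      apply hf
      rw [map_mul, map_mul]
      exact (Subgroup.mem_centralizer_iff.1 hx) (f z) ⟨z, hz, rfl⟩
  rw [heq]
  set D := Subgroup.centralizer ((Z.map f : Subgroup G) : Set G) with hD
  have hrN : f.range ≤ Subgroup.normalizer ((Z.map f : Subgroup G) : Set G) := by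
    rintro _ ⟨x, rfl⟩
    apply Subgroup.le_normalizer_map f
    exact ⟨x, by rw [Subgroup.normalizer_eq_top]; exact Subgroup.mem_top x, rfl⟩
  have hrD : f.range ≤ Subgroup.normalizer (D : Set G) := by
    intro y hy
    apply mem_normalizer_of_forall_conj_mem
    intro c hc
    exact conj_mem_centralizer _ y (hrN hy) c hc
  have h1 := card_sup_mul_card_inf f.range D hrD
  have h2 := relIndex_mul_card_of_le (inf_le_right : f.range ⊓ D ≤ D)
  have h3 := relIndex_mul_card_of_le (le_sup_left : f.range ≤ f.range ⊔ D)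
  have hS0 : 0 < Nat.card f.range := Nat.card_pos
  have hSD : 0 < Nat.card (f.range ⊓ D : Subgroup G) := Nat.card_pos
  have h4 : (f.range ⊓ D).relIndex D = f.range.relIndex (f.range ⊔ D) := by
    have : (f.range ⊓ D).relIndex D * (Nat.card f.range * Nat.card (f.range ⊓ D : Subgroup G)) =
        f.range.relIndex (f.range ⊔ D) * (Nat.card f.range *
          Nat.card (f.range ⊓ D : Subgroup G)) := by
      calc (f.range ⊓ D).relIndex D * (Nat.card f.range * Nat.card (f.range ⊓ D : Subgroup G))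
          = Nat.card f.range * ((f.range ⊓ D).relIndex D *
              Nat.card (f.range ⊓ D : Subgroup G)) := by ring
        _ = Nat.card f.range * Nat.card D := by rw [h2]
        _ = Nat.card (f.range ⊔ D : Subgroup G) * Nat.card (f.range ⊓ D : Subgroup G) := h1.symm
        _ = f.range.relIndex (f.range ⊔ D) * (Nat.card f.range *
              Nat.card (f.range ⊓ D : Subgroup G)) := by rw [← h3]; ring
    exact Nat.eq_of_mul_eq_mul_right (Nat.mul_pos hS0 hSD) this
  rw [h4]
  intro hdvd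
  exact hidx (hdvd.trans (Subgroup.relIndex_dvd_index_of_le le_sup_left))

theorem pNil_of_normalizer_zj {S G : Type u} [Group S] [Finite S] [Group G] [Finite G]
    {p : ℕ} [Fact p.Prime] (hp : p ≠ 2) (hS : IsPGroup p S) (f : S →* G)
    (hf : Function.Injective f) (hidx : ¬ p ∣ f.range.index)
    (h : PNil p ↥(Subgroup.normalizer (((zjE 0 (⊤ : Subgroup S)).map f : Subgroup G) : Set G))) :
    PNil p G := by
  have hP : IsPGroup p f.range := hS.of_surjective f.rangeRestrict f.rangeRestrict_surjective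
  have hz : zjE 0 ((hP.toSylow hidx : Sylow p G) : Subgroup G) =
      (zjE 0 (⊤ : Subgroup S)).map f := by
    rw [← zjE_map_of_injective hf, ← MonoidHom.range_eq_map]
    rfl
  rw [pNil_iff_hasNormalPComplement] at h ⊢
  apply hasNPC_of_normalizer_zjE_strongly_closed hp (Or.inl rfl) (hP.toSylow hidx)
    ((hP.toSylow hidx : Sylow p G) : Subgroup G) ⟨le_rfl, fun x _ g hg => hg⟩
  rw [hz]; exact h

theorem card_coprime_of_forall {X : Type*} [Group X] [Finite X] {p : ℕ} [Fact p.Prime]
    (K : Subgroup X) (hK : ∀ g ∈ K, (orderOf g).Coprime p) : (Nat.card K).Coprime p := by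
  have hp : p.Prime := Fact.out
  apply Nat.Coprime.symm
  rw [Nat.Prime.coprime_iff_not_dvd hp]
  intro hdvd
  obtain ⟨x, hx⟩ := exists_prime_orderOf_dvd_card' p hdvd
  have h1 := hK (x : X) x.2
  rw [Subgroup.orderOf_coe, hx] at h1
  exact hp.one_lt.ne' ((Nat.coprime_self p).1 h1)

/-- a normal `p`-subgroup centralized by all `p'`-elements can be factored out -/
theorem pNil_of_quotient_pGroup {X : Type*} [Group X] [Finite X] {p : ℕ} [Fact p.Prime]
    (Z : Subgroup X) [Z.Normal] (hZ : IsPGroup p Z)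
    (hcent : ∀ g : X, (orderOf g).Coprime p → ∀ z ∈ Z, g * z = z * g)
    (h : PNil p (X ⧸ Z)) : PNil p X := by
  have hp : p.Prime := Fact.out
  obtain ⟨Kb, hKbn, hKb⟩ := h
  set M := Kb.comap (QuotientGroup.mk' Z) with hM
  have hKbcard : (Nat.card Kb).Coprime p := card_coprime_of_forall Kb (fun g hg => (hKb g).1 hg)
  have hidx : (Z.subgroupOf M).index = Nat.card Kb := relIndex_comap_mk Z Kb
  have hZMp : IsPGroup p (Z.subgroupOf M) := hZ.comap_subtype
  have hcop : (Nat.card (Z.subgroupOf M)).Coprime (Z.subgroupOf M).index := by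
    obtain ⟨n, hn⟩ := (IsPGroup.iff_card).1 hZMp
    rw [hn, hidx]
    exact Nat.Coprime.pow_left n hKbcard.symm
  obtain ⟨H, hH⟩ := Subgroup.exists_right_complement'_of_coprime hcop
  have hHcard : Nat.card H = Nat.card Kb := by
    rw [← hidx]; exact (hH.symm.index_eq_card).symm
  have hHco : ∀ h : ↥M, h ∈ H → (orderOf (h : X)).Coprime p := by
    intro h hh
    rw [Subgroup.orderOf_coe]
    have h1 : orderOf (⟨h, hh⟩ : ↥H) ∣ Nat.card H := orderOf_dvd_natCard _
    rw [Subgroup.orderOf_mk] at h1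
    rw [hHcard] at h1
    exact Nat.Coprime.coprime_dvd_left h1 hKbcard
  have hiff : ∀ g : X, g ∈ H.map M.subtype ↔ (orderOf g).Coprime p := by
    intro g
    constructor
    · rintro ⟨h, hh, rfl⟩
      exact hHco h hh
    · intro hg
      have hgM : g ∈ M := by
        rw [hM, Subgroup.mem_comap, hKb]
        exact Nat.Coprime.coprime_dvd_left (orderOf_map_dvd _ g) hg
      obtain ⟨⟨z, h⟩, hzh⟩ := hH.2 ⟨g, hgM⟩
      have hzh' : ((z : ↥M) : X) * ((h : ↥M) : X) = g := congrArg Subtype.val hzh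
      have hzZ : ((z : ↥M) : X) ∈ Z := Subgroup.mem_subgroupOf.1 z.2
      have hcomm : Commute ((z : ↥M) : X) ((h : ↥M) : X) :=
        (hcent _ (hHco h h.2) _ hzZ).symm
      have hhn : ((h : ↥M) : X) ^ Nat.card H = 1 := by
        have h1 : (h : ↥H) ^ Nat.card H = 1 := pow_card_eq_one'
        rw [← Subgroup.coe_pow, ← Subgroup.coe_pow, h1]
        rfl
      have hgn : g ^ Nat.card H = ((z : ↥M) : X) ^ Nat.card H := by
        rw [← hzh', hcomm.mul_pow, hhn, mul_one]
      have hzn : ((z : ↥M) : X) ^ Nat.card H = 1 := by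
        obtain ⟨k, hk⟩ := hZ ⟨((z : ↥M) : X) ^ Nat.card H, Z.pow_mem hzZ _⟩
        have hk' : (((z : ↥M) : X) ^ Nat.card H) ^ (p ^ k) = 1 := by
          have := congrArg Subtype.val hk
          simpa using this
        apply eq_one_of_coprime_of_pow_prime_pow (p := p) _ hk'
        rw [← hgn]
        exact Nat.Coprime.coprime_dvd_left (orderOf_pow_dvd _) hg
      have hz1 : ((z : ↥M) : X) = 1 := by
        obtain ⟨k, hk⟩ := hZ ⟨((z : ↥M) : X), hzZ⟩
        have hk' : ((z : ↥M) : X) ^ (p ^ k) = 1 := by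
          have := congrArg Subtype.val hk
          simpa using this
        have h1 : orderOf ((z : ↥M) : X) ∣ Nat.card H := orderOf_dvd_of_pow_eq_one hzn
        rw [hHcard] at h1
        exact eq_one_of_coprime_of_pow_prime_pow (Nat.Coprime.coprime_dvd_left h1 hKbcard) hk'
      refine ⟨h, h.2, ?_⟩
      rw [← hzh', hz1, one_mul]
      rfl
  refine ⟨H.map M.subtype, ⟨?_⟩, hiff⟩
  intro x hx n
  rw [hiff] at hx ⊢
  have : orderOf (n * x * n⁻¹) = orderOf x := (MulAut.conj n).orderOf_eq x
  rw [this]; exact hx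

theorem charIn_map_of_characteristic {S G : Type*} [Group S] [Group G] (K : Subgroup S)
    [hK : K.Characteristic] (f : S →* G) (hf : Function.Injective f) :
    CharIn (K.map f) f.range := by
  refine ⟨by rintro _ ⟨x, -, rfl⟩; exact ⟨x, rfl⟩, ?_⟩
  intro φ u hu
  obtain ⟨x, hx, hxu⟩ := hu
  have h1 : MonoidHom.ofInjective hf x = u := Subtype.ext hxu
  have h2 : ((MonoidHom.ofInjective hf).trans (φ.trans (MonoidHom.ofInjective hf).symm)) x ∈ K := by
    have h3 := hK.fixed ((MonoidHom.ofInjective hf).trans (φ.trans (MonoidHom.ofInjective hf).symm))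
    have h4 : x ∈ K.comap ((MonoidHom.ofInjective hf).trans
        (φ.trans (MonoidHom.ofInjective hf).symm)).toMonoidHom := by rw [h3]; exact hx
    exact h4
  refine ⟨_, h2, ?_⟩
  rw [MulEquiv.trans_apply, MulEquiv.trans_apply, h1]
  have h5 : (MonoidHom.ofInjective hf) ((MonoidHom.ofInjective hf).symm (φ u)) = φ u :=
    (MonoidHom.ofInjective hf).apply_symm_apply _
  exact congrArg Subtype.val h5

theorem characteristic_map_subtype {S : Type*} [Group S] (S₁ : Subgroup S)
    [h₁ : S₁.Characteristic] (K₁ : Subgroup ↥S₁) [hK : K₁.Characteristic] :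
    (K₁.map S₁.subtype).Characteristic := by
  rw [Subgroup.characteristic_iff_map_le]
  intro φ
  rintro _ ⟨_, ⟨k, hk, rfl⟩, rfl⟩
  have hmap : S₁.map φ.toMonoidHom = S₁ := (Subgroup.characteristic_iff_map_eq.1 h₁) φ
  have h2 : ((φ.subgroupMap S₁).trans (MulEquiv.subgroupCongr hmap)) k ∈ K₁ := by
    have h3 := hK.fixed ((φ.subgroupMap S₁).trans (MulEquiv.subgroupCongr hmap))
    have h4 : k ∈ K₁.comap ((φ.subgroupMap S₁).trans
        (MulEquiv.subgroupCongr hmap)).toMonoidHom := by rw [h3]; exact hk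
    exact h4
  exact ⟨_, h2, rfl⟩

theorem characteristic_comap_mk {S : Type*} [Group S] (Z : Subgroup S) [hZ : Z.Characteristic]
    (Kb : Subgroup (S ⧸ Z)) [hK : Kb.Characteristic] :
    (Kb.comap (QuotientGroup.mk' Z)).Characteristic := by
  rw [Subgroup.characteristic_iff_comap_eq]
  intro φ
  have hmap : Z.map φ.toMonoidHom = Z := (Subgroup.characteristic_iff_map_eq.1 hZ) φ
  have h3 := hK.fixed (QuotientGroup.congr Z Z φ hmap)
  ext x
  rw [Subgroup.mem_comap, Subgroup.mem_comap, Subgroup.mem_comap]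
  have h1 : QuotientGroup.mk' Z (φ x) = (QuotientGroup.congr Z Z φ hmap) (QuotientGroup.mk' Z x) :=
    rfl
  have h5 : QuotientGroup.mk' Z x ∈ Kb.comap (QuotientGroup.congr Z Z φ hmap).toMonoidHom ↔
      QuotientGroup.mk' Z x ∈ Kb := by rw [h3]
  rw [← h5, Subgroup.mem_comap]
  exact Iff.of_eq (congrArg (· ∈ Kb) h1)

/-- the criterion, for an embedding of `S` as a Sylow `p`-subgroup -/
def Good (p : ℕ) (S : Type u) [Group S] (K : Subgroup S) : Prop :=
  ∀ (G : Type u) [Group G] [Finite G] (f : S →* G), Function.Injective f → ¬ p ∣ f.range.index →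
    (∀ g ∈ Subgroup.normalizer ((K.map f : Subgroup G) : Set G), (orderOf g).Coprime p →
      g ∈ Subgroup.centralizer ((K.map f : Subgroup G) : Set G)) → PNil p G

theorem zj_characteristic {S : Type*} [Group S] [Finite S] (e : ℕ) :
    (zjE e (⊤ : Subgroup S)).Characteristic := by
  rw [Subgroup.characteristic_iff_map_eq]
  intro φ
  rw [← zjE_map e ⊤ φ]
  congr 1
  rw [← MonoidHom.range_eq_map]
  exact MonoidHom.range_eq_top.2 φ.surjective

theorem caseA {p : ℕ} [Fact p.Prime] {S : Type u} [Group S] [Finite S] (hS : IsPGroup p S)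
    (Z : Subgroup S) [hZchar : Z.Characteristic]
    (hZcomm : ∀ x ∈ Z, ∀ y ∈ Z, x * y = y * x)
    (hGT : ∀ (G : Type u) [Group G] [Finite G] (f : S →* G), Function.Injective f →
      ¬ p ∣ f.range.index →
      PNil p ↥(Subgroup.normalizer ((Z.map f : Subgroup G) : Set G)) → PNil p G)
    (S₁ : Subgroup S) [hS₁char : S₁.Characteristic] (hS₁ : S₁ = Subgroup.centralizer (Z : Set S))
    (K₁ : Subgroup ↥S₁) [hK₁char : K₁.Characteristic]
    (hK₁cent : Subgroup.centralizer (K₁ : Set ↥S₁) ≤ K₁)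
    (hK₁good : Good p ↥S₁ K₁) :
    (K₁.map S₁.subtype).Characteristic ∧
    Subgroup.centralizer ((K₁.map S₁.subtype : Subgroup S) : Set S) ≤ K₁.map S₁.subtype ∧
    Good p S (K₁.map S₁.subtype) := by
  have hS₁mem : ∀ x : S, x ∈ S₁ ↔ ∀ z ∈ Z, z * x = x * z := by
    intro x; rw [hS₁, Subgroup.mem_centralizer_iff]; exact Iff.rfl
  have hZS₁ : Z ≤ S₁ := fun z hz => (hS₁mem z).2 (fun y hy => hZcomm y hy z hz)
  have hZK : Z ≤ K₁.map S₁.subtype := by
    intro z hz
    refine ⟨⟨z, hZS₁ hz⟩, hK₁cent ?_, rfl⟩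
    rw [Subgroup.mem_centralizer_iff]
    intro y _
    apply Subtype.ext
    exact (((hS₁mem y).1 y.2) z hz).symm
  refine ⟨characteristic_map_subtype S₁ K₁, ?_, ?_⟩
  · intro x hx
    have hx1 : x ∈ S₁ := by rw [hS₁]; exact Subgroup.centralizer_le hZK hx
    refine ⟨⟨x, hx1⟩, hK₁cent ?_, rfl⟩
    rw [Subgroup.mem_centralizer_iff]
    intro y hy
    apply Subtype.ext
    exact (Subgroup.mem_centralizer_iff.1 hx) (y : S) ⟨y, hy, rfl⟩
  · intro G _ _ f hf hidx hyp
    apply hGT G f hf hidx
    have hZKG : Z.map f ≤ (K₁.map S₁.subtype).map f := Subgroup.map_mono hZK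
    have hP₁C : S₁.map f ≤ Subgroup.centralizer ((Z.map f : Subgroup G) : Set G) := by
      rintro _ ⟨x, hx, rfl⟩
      rw [Subgroup.mem_centralizer_iff]
      rintro _ ⟨z, hz, rfl⟩
      rw [← map_mul, ← map_mul, ((hS₁mem x).1 hx) z hz]
    have hP₁p : IsPGroup p (S₁.map f) := (hS.to_subgroup S₁).map f
    have hsyl : ¬ p ∣ (S₁.map f).relIndex (Subgroup.centralizer ((Z.map f : Subgroup G) : Set G)) := by
      rw [hS₁]; exact not_dvd_relIndex_centralizer hS f hf hidx Z
    have hN : Subgroup.normalizer ((S₁.map f : Subgroup G) : Set G) ≤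
        Subgroup.normalizer (((K₁.map S₁.subtype).map f : Subgroup G) : Set G) := by
      have h1 := (charIn_map_of_characteristic K₁ (f.comp S₁.subtype)
        (hf.comp S₁.subtype_injective)).normalizer_le
      have h2 : (f.comp S₁.subtype).range = S₁.map f := by
        rw [MonoidHom.range_comp, Subgroup.range_subtype]
      have h3 : K₁.map (f.comp S₁.subtype) = (K₁.map S₁.subtype).map f := by
        rw [Subgroup.map_map]
      rwa [h2, h3] at h1
    have hF := coprime_mem_centralizer (Z.map f) ((K₁.map S₁.subtype).map f) (S₁.map f) hZKG hP₁C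
      hP₁p hsyl hN hyp
    have hC₁pn : PNil p ↥(Subgroup.centralizer ((Z.map f : Subgroup G) : Set G)) := by
      apply hK₁good ↥(Subgroup.centralizer ((Z.map f : Subgroup G) : Set G))
        ((f.comp S₁.subtype).codRestrict (Subgroup.centralizer ((Z.map f : Subgroup G) : Set G))
          (fun x => hP₁C ⟨x, x.2, rfl⟩))
      · intro x y hxy
        have h1 := congrArg Subtype.val hxy
        exact Subtype.ext (hf h1)
      · have h1 : ((f.comp S₁.subtype).codRestrict
            (Subgroup.centralizer ((Z.map f : Subgroup G) : Set G))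
            (fun x => hP₁C ⟨x, x.2, rfl⟩)).range =
            (S₁.map f).subgroupOf (Subgroup.centralizer ((Z.map f : Subgroup G) : Set G)) := by
          ext y
          rw [Subgroup.mem_subgroupOf]
          constructor
          · rintro ⟨x, rfl⟩; exact ⟨x, x.2, rfl⟩
          · rintro ⟨x, hx, hxy⟩; exact ⟨⟨x, hx⟩, Subtype.ext hxy⟩
        rw [h1]; exact hsyl
      · intro g hg hco
        have hmap : (K₁.map ((f.comp S₁.subtype).codRestrict
            (Subgroup.centralizer ((Z.map f : Subgroup G) : Set G))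
            (fun x => hP₁C ⟨x, x.2, rfl⟩))).map
            (Subgroup.centralizer ((Z.map f : Subgroup G) : Set G)).subtype =
            (K₁.map S₁.subtype).map f := by
          rw [Subgroup.map_map, Subgroup.map_map]; rfl
        have h1 : (g : G) ∈ Subgroup.normalizer (((K₁.map S₁.subtype).map f : Subgroup G) : Set G) := by
          rw [← hmap]; exact Subgroup.le_normalizer_map _ (Subgroup.mem_map_of_mem _ hg)
        have h2 := hyp _ h1 (by rwa [Subgroup.orderOf_coe])
        rw [Subgroup.mem_centralizer_iff]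
        intro y hy
        apply Subtype.ext
        exact (Subgroup.mem_centralizer_iff.1 h2) (y : G)
          (by rw [← hmap]; exact Subgroup.mem_map_of_mem _ hy)
    exact pNil_of_subgroup_contains _ _ hF hC₁pn

theorem pNil_normalizer_of_quotient {p : ℕ} [Fact p.Prime] {S : Type u} [Group S] [Finite S]
    (Z : Subgroup S) [hZn : Z.Normal] (hZp : IsPGroup p Z) (Kb : Subgroup (S ⧸ Z))
    (hKbgood : Good p (S ⧸ Z) Kb)
    {G : Type u} [Group G] [Finite G] (f : S →* G) (hf : Function.Injective f)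
    (hidx : ¬ p ∣ f.range.index)
    (N₁ : Subgroup G) (hN₁ : N₁ = Subgroup.normalizer ((Z.map f : Subgroup G) : Set G))
    (hyp : ∀ g ∈ Subgroup.normalizer (((Kb.comap (QuotientGroup.mk' Z)).map f : Subgroup G) : Set G),
      (orderOf g).Coprime p →
      g ∈ Subgroup.centralizer (((Kb.comap (QuotientGroup.mk' Z)).map f : Subgroup G) : Set G))
    (hF : ∀ g ∈ N₁, (orderOf g).Coprime p →
      g ∈ Subgroup.centralizer ((Z.map f : Subgroup G) : Set G)) :
    PNil p ↥N₁ := by
  have hZK : Z ≤ Kb.comap (QuotientGroup.mk' Z) := by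
    intro z hz
    rw [Subgroup.mem_comap]
    have : QuotientGroup.mk' Z z = 1 := (QuotientGroup.eq_one_iff z).2 hz
    rw [this]; exact Kb.one_mem
  have hrange : ∀ x : S, f x ∈ N₁ := by
    intro x; rw [hN₁]
    apply Subgroup.le_normalizer_map f
    exact ⟨x, by rw [Subgroup.normalizer_eq_top]; exact Subgroup.mem_top x, rfl⟩
  have hZNn : ((Z.map f).subgroupOf N₁).Normal := by rw [hN₁]; exact Subgroup.normal_in_normalizer
  have hZGp : IsPGroup p (Z.map f) := hZp.map f
  apply pNil_of_quotient_pGroup ((Z.map f).subgroupOf N₁) hZGp.comap_subtype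
  · intro g hco z hz
    have h1 := hF (g : G) g.2 (by rwa [Subgroup.orderOf_coe])
    apply Subtype.ext
    exact ((Subgroup.mem_centralizer_iff.1 h1) (z : G) (Subgroup.mem_subgroupOf.1 hz)).symm
  · have hZle : Z ≤ ((Z.map f).subgroupOf N₁).comap (f.codRestrict N₁ hrange) := by
      intro z hz
      rw [Subgroup.mem_comap, Subgroup.mem_subgroupOf]
      exact ⟨z, hz, rfl⟩
    have hcomp : (QuotientGroup.map Z ((Z.map f).subgroupOf N₁) (f.codRestrict N₁ hrange) hZle).comp
        (QuotientGroup.mk' Z) =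
        (QuotientGroup.mk' ((Z.map f).subgroupOf N₁)).comp (f.codRestrict N₁ hrange) := by
      ext x; rfl
    apply hKbgood _ (QuotientGroup.map Z ((Z.map f).subgroupOf N₁) (f.codRestrict N₁ hrange) hZle)
    · rw [injective_iff_map_eq_one]
      intro xb hxb
      obtain ⟨x, rfl⟩ := QuotientGroup.mk'_surjective Z xb
      have h1 : QuotientGroup.mk' ((Z.map f).subgroupOf N₁) (f.codRestrict N₁ hrange x) = 1 := hxb
      rw [QuotientGroup.mk'_apply, QuotientGroup.eq_one_iff, Subgroup.mem_subgroupOf] at h1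
      obtain ⟨z, hz, hzx⟩ := h1
      have h2 : z = x := hf hzx
      rw [QuotientGroup.mk'_apply, QuotientGroup.eq_one_iff, ← h2]; exact hz
    · intro hdvd
      apply hidx
      have h1 : (QuotientGroup.map Z ((Z.map f).subgroupOf N₁) (f.codRestrict N₁ hrange) hZle).range =
          (f.codRestrict N₁ hrange).range.map (QuotientGroup.mk' ((Z.map f).subgroupOf N₁)) := by
        rw [← MonoidHom.range_comp, ← hcomp, MonoidHom.range_comp,
          MonoidHom.range_eq_top.2 (QuotientGroup.mk'_surjective Z), ← MonoidHom.range_eq_map]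
      have h2 : (f.codRestrict N₁ hrange).range = f.range.subgroupOf N₁ := by
        ext y; rw [Subgroup.mem_subgroupOf]
        constructor
        · rintro ⟨x, rfl⟩; exact ⟨x, rfl⟩
        · rintro ⟨x, hx⟩; exact ⟨x, Subtype.ext hx⟩
      rw [h1] at hdvd
      have h3 := Subgroup.index_map_dvd (f.codRestrict N₁ hrange).range
        (QuotientGroup.mk'_surjective ((Z.map f).subgroupOf N₁))
      have h4 : (f.codRestrict N₁ hrange).range.index = f.range.relIndex N₁ := by rw [h2]; rfl
      have hle : f.range ≤ N₁ := by rintro _ ⟨x, rfl⟩; exact hrange x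
      exact hdvd.trans (h3.trans (h4 ▸ Subgroup.relIndex_dvd_index_of_le hle))
    · intro gb hgb hco
      have hmapK : Kb.map (QuotientGroup.map Z ((Z.map f).subgroupOf N₁)
          (f.codRestrict N₁ hrange) hZle) =
          ((Kb.comap (QuotientGroup.mk' Z)).map (f.codRestrict N₁ hrange)).map
            (QuotientGroup.mk' ((Z.map f).subgroupOf N₁)) := by
        rw [Subgroup.map_map, ← hcomp, ← Subgroup.map_map,
          Subgroup.map_comap_eq_self_of_surjective (QuotientGroup.mk'_surjective Z)]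
      have hker : (QuotientGroup.mk' ((Z.map f).subgroupOf N₁)).ker ≤
          (Kb.comap (QuotientGroup.mk' Z)).map (f.codRestrict N₁ hrange) := by
        rw [QuotientGroup.ker_mk']
        intro y hy
        obtain ⟨z, hz, hzy⟩ := Subgroup.mem_subgroupOf.1 hy
        exact ⟨z, hZK hz, Subtype.ext hzy⟩
      obtain ⟨g₀, rfl⟩ := QuotientGroup.mk'_surjective _ gb
      obtain ⟨a, ha⟩ := exists_pow_prime_pow_coprime (X := ↥N₁) (p := p)
      obtain ⟨s, hs⟩ := exists_pow_eq_self_of_coprime (n := p ^ a)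
        (x := QuotientGroup.mk' ((Z.map f).subgroupOf N₁) g₀) (Nat.Coprime.pow_left a hco.symm)
      have hg'co : (orderOf ((g₀ ^ (p ^ a)) ^ s)).Coprime p :=
        Nat.Coprime.coprime_dvd_left (orderOf_pow_dvd s) (ha g₀)
      have hg'map : QuotientGroup.mk' ((Z.map f).subgroupOf N₁) ((g₀ ^ (p ^ a)) ^ s) =
          QuotientGroup.mk' ((Z.map f).subgroupOf N₁) g₀ := by
        rw [map_pow, map_pow, hs]
      have hg'N : (g₀ ^ (p ^ a)) ^ s ∈ Subgroup.normalizer
          ((((Kb.comap (QuotientGroup.mk' Z)).map (f.codRestrict N₁ hrange) : Subgroup ↥N₁)) :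
            Set ↥N₁) := by
        rw [← Subgroup.comap_map_eq_self hker,
          ← Subgroup.comap_normalizer_eq_of_surjective _ (QuotientGroup.mk'_surjective _),
          Subgroup.mem_comap, hg'map, ← hmapK]
        exact hgb
      have hmapG : ((Kb.comap (QuotientGroup.mk' Z)).map (f.codRestrict N₁ hrange)).map N₁.subtype =
          (Kb.comap (QuotientGroup.mk' Z)).map f := by
        rw [Subgroup.map_map]; rfl
      have h1 : (((g₀ ^ (p ^ a)) ^ s : ↥N₁) : G) ∈ Subgroup.normalizer
          (((Kb.comap (QuotientGroup.mk' Z)).map f : Subgroup G) : Set G) := by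
        rw [← hmapG]; exact Subgroup.le_normalizer_map _ (Subgroup.mem_map_of_mem _ hg'N)
      have h2 := hyp _ h1 (by rwa [Subgroup.orderOf_coe])
      rw [← hg'map, hmapK, Subgroup.mem_centralizer_iff]
      rintro _ ⟨y, hy, rfl⟩
      rw [← map_mul, ← map_mul]
      congr 1
      apply Subtype.ext
      exact (Subgroup.mem_centralizer_iff.1 h2) (y : G)
        (by rw [← hmapG]; exact Subgroup.mem_map_of_mem _ hy)

theorem caseB {p : ℕ} [Fact p.Prime] {S : Type u} [Group S] [Finite S] (hS : IsPGroup p S)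
    (Z : Subgroup S) [hZchar : Z.Characteristic]
    (hcent : ∀ x : S, ∀ z ∈ Z, z * x = x * z)
    (hGT : ∀ (G : Type u) [Group G] [Finite G] (f : S →* G), Function.Injective f →
      ¬ p ∣ f.range.index →
      PNil p ↥(Subgroup.normalizer ((Z.map f : Subgroup G) : Set G)) → PNil p G)
    (Kb : Subgroup (S ⧸ Z)) [hKbchar : Kb.Characteristic]
    (hKbcent : Subgroup.centralizer (Kb : Set (S ⧸ Z)) ≤ Kb)
    (hKbgood : Good p (S ⧸ Z) Kb) :
    (Kb.comap (QuotientGroup.mk' Z)).Characteristic ∧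
    Subgroup.centralizer ((Kb.comap (QuotientGroup.mk' Z) : Subgroup S) : Set S)
      ≤ Kb.comap (QuotientGroup.mk' Z) ∧
    Good p S (Kb.comap (QuotientGroup.mk' Z)) := by
  have hZK : Z ≤ Kb.comap (QuotientGroup.mk' Z) := by
    intro z hz
    rw [Subgroup.mem_comap]
    have : QuotientGroup.mk' Z z = 1 := (QuotientGroup.eq_one_iff z).2 hz
    rw [this]; exact Kb.one_mem
  have hcentTop : Subgroup.centralizer (Z : Set S) = ⊤ := by
    rw [eq_top_iff]
    intro x _
    rw [Subgroup.mem_centralizer_iff]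
    exact fun z hz => hcent x z hz
  have hKchar : (Kb.comap (QuotientGroup.mk' Z)).Characteristic := characteristic_comap_mk Z Kb
  refine ⟨hKchar, ?_, ?_⟩
  · intro x hx
    rw [Subgroup.mem_comap]
    apply hKbcent
    rw [Subgroup.mem_centralizer_iff]
    intro yb hyb
    obtain ⟨y, rfl⟩ := QuotientGroup.mk'_surjective Z yb
    have hy : y ∈ Kb.comap (QuotientGroup.mk' Z) := hyb
    rw [← map_mul, ← map_mul, (Subgroup.mem_centralizer_iff.1 hx) y hy]
  · intro G _ _ f hf hidx hyp
    apply hGT G f hf hidx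
    have hZKG : Z.map f ≤ (Kb.comap (QuotientGroup.mk' Z)).map f := Subgroup.map_mono hZK
    have hP₁C : (⊤ : Subgroup S).map f ≤ Subgroup.centralizer ((Z.map f : Subgroup G) : Set G) := by
      rintro _ ⟨x, -, rfl⟩
      rw [Subgroup.mem_centralizer_iff]
      rintro _ ⟨z, hz, rfl⟩
      rw [← map_mul, ← map_mul, hcent x z hz]
    have hP₁p : IsPGroup p ((⊤ : Subgroup S).map f) := (hS.to_subgroup ⊤).map f
    have hZGp : IsPGroup p (Z.map f) := (hS.to_subgroup Z).map f
    have hsyl : ¬ p ∣ ((⊤ : Subgroup S).map f).relIndex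
        (Subgroup.centralizer ((Z.map f : Subgroup G) : Set G)) := by
      rw [← hcentTop]; exact not_dvd_relIndex_centralizer hS f hf hidx Z
    have hN : Subgroup.normalizer (((⊤ : Subgroup S).map f : Subgroup G) : Set G) ≤
        Subgroup.normalizer (((Kb.comap (QuotientGroup.mk' Z)).map f : Subgroup G) : Set G) := by
      have h1 := (charIn_map_of_characteristic (Kb.comap (QuotientGroup.mk' Z)) f hf).normalizer_le
      rwa [MonoidHom.range_eq_map] at h1
    have hF := coprime_mem_centralizer (Z.map f) ((Kb.comap (QuotientGroup.mk' Z)).map f)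
      ((⊤ : Subgroup S).map f) hZKG hP₁C hP₁p hsyl hN hyp
    exact pNil_normalizer_of_quotient Z (hS.to_subgroup Z) Kb hKbgood f hf hidx _ rfl hyp hF

theorem exists_K (p : ℕ) [Fact p.Prime] (hp : p ≠ 2) :
    ∀ (n : ℕ) (S : Type u) [Group S] [Finite S], Nat.card S = n → IsPGroup p S →
      ∃ K : Subgroup S, K.Characteristic ∧ Subgroup.centralizer (K : Set S) ≤ K ∧ Good p S K := by
  have hpp : p.Prime := Fact.out
  intro n
  induction n using Nat.strong_induction_on with
  | _ n ih =>
  intro S _ _ hn hS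
  by_cases htriv : Subsingleton S
  · refine ⟨⊤, inferInstance, le_top, ?_⟩
    intro G _ _ f hf hidx _
    have hr : f.range = ⊥ := by
      rw [eq_bot_iff]
      rintro _ ⟨x, rfl⟩
      rw [Subsingleton.elim x 1, map_one]
      exact Subgroup.mem_bot.2 rfl
    rw [hr, Subgroup.index_bot] at hidx
    refine ⟨⊤, inferInstance, fun g => ⟨fun _ => ?_, fun _ => Subgroup.mem_top g⟩⟩
    exact Nat.Coprime.coprime_dvd_left (orderOf_dvd_natCard g)
      ((Nat.Prime.coprime_iff_not_dvd hpp).2 hidx).symm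
  have hnt : Nontrivial S := not_subsingleton_iff_nontrivial.1 htriv
  have hZchar : (zjE 0 (⊤ : Subgroup S)).Characteristic := zj_characteristic 0
  have hZne : zjE 0 (⊤ : Subgroup S) ≠ ⊥ := by
    apply zjE_zero_ne_bot (p := p) (hS.to_subgroup ⊤)
    exact top_ne_bot
  have hZcomm : ∀ x ∈ zjE 0 (⊤ : Subgroup S), ∀ y ∈ zjE 0 (⊤ : Subgroup S), x * y = y * x :=
    fun x hx y hy => zjE_commute hx hy
  have hGT : ∀ (G : Type u) [Group G] [Finite G] (f : S →* G), Function.Injective f →
      ¬ p ∣ f.range.index →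
      PNil p ↥(Subgroup.normalizer (((zjE 0 (⊤ : Subgroup S)).map f : Subgroup G) : Set G)) →
      PNil p G :=
    fun G _ _ f hf hidx h => pNil_of_normalizer_zj hp hS f hf hidx h
  by_cases hcent : Subgroup.centralizer ((zjE 0 (⊤ : Subgroup S) : Subgroup S) : Set S) = ⊤
  · have hcard : Nat.card (S ⧸ zjE 0 (⊤ : Subgroup S)) < n := by
      rw [← hn, Subgroup.card_eq_card_quotient_mul_card_subgroup (zjE 0 (⊤ : Subgroup S))]
      exact lt_mul_of_one_lt_right Nat.card_pos ((Subgroup.one_lt_card_iff_ne_bot _).2 hZne)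
    obtain ⟨Kb, hKbchar, hKbcent, hKbgood⟩ := ih _ hcard (S ⧸ zjE 0 (⊤ : Subgroup S)) rfl
      (hS.to_quotient _)
    have hc : ∀ x : S, ∀ z ∈ zjE 0 (⊤ : Subgroup S), z * x = x * z := by
      intro x z hz
      have hx : x ∈ Subgroup.centralizer ((zjE 0 (⊤ : Subgroup S) : Subgroup S) : Set S) := by
        rw [hcent]; exact Subgroup.mem_top x
      exact (Subgroup.mem_centralizer_iff.1 hx) z hz
    exact ⟨_, caseB hS (zjE 0 (⊤ : Subgroup S)) hc hGT Kb hKbcent hKbgood⟩
  · have hcard : Nat.card ↥(Subgroup.centralizer ((zjE 0 (⊤ : Subgroup S) : Subgroup S) : Set S)) < n := by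
      rw [← hn]
      exact lt_of_le_of_ne (Subgroup.card_le_card_group _)
        (fun h => hcent ((Subgroup.card_eq_iff_eq_top _).1 h))
    obtain ⟨K₁, hK₁char, hK₁cent, hK₁good⟩ := ih _ hcard
      ↥(Subgroup.centralizer ((zjE 0 (⊤ : Subgroup S) : Subgroup S) : Set S)) rfl (hS.to_subgroup _)
    exact ⟨_, caseA hS (zjE 0 (⊤ : Subgroup S)) hZcomm hGT _ rfl K₁ hK₁cent hK₁good⟩

/-- For an odd prime p, every finite p-group S has a characteristic subgroup K with C_S(K) ≤ K such that, whenever S is (isomorphic to) a Sylow p-subgroup of a finite group G, G has a normal p-complement if and only if N_G(K)/C_G(K) is a p-group, i.e. every element of N_G(K) of order prime to p centralizes K (K transported into G along the isomorphism). -/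
theorem result (p : ℕ) [Fact p.Prime] (hp : p ≠ 2)
    (S : Type u) [Group S] [Finite S] (hS : IsPGroup p S) :
    ∃ K : Subgroup S, K.Characteristic ∧ Subgroup.centralizer (K : Set S) ≤ K ∧
      ∀ (G : Type u) [Group G] [Finite G] (P : Sylow p G) (e : ↥(P : Subgroup G) ≃* S),
        Cfsg.HasNormalPComplement p G ↔
          ∀ g ∈ Subgroup.normalizer (((K.comap (e : ↥(P : Subgroup G) →* S)).map (P : Subgroup G).subtype : Subgroup G) : Set G),
            (orderOf g).Coprime p →
              g ∈ Subgroup.centralizer (((K.comap (e : ↥(P : Subgroup G) →* S)).map (P : Subgroup G).subtype : Subgroup G) : Set G) := by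
  obtain ⟨K, hKchar, hKcent, hKgood⟩ := exists_K p hp (Nat.card S) S rfl hS
  refine ⟨K, hKchar, hKcent, ?_⟩
  intro G _ _ P e
  have hmap : K.map ((P : Subgroup G).subtype.comp e.symm.toMonoidHom) =
      (K.comap (e : ↥(P : Subgroup G) →* S)).map (P : Subgroup G).subtype := by
    rw [← Subgroup.map_map]
    congr 1
    exact Subgroup.map_equiv_eq_comap_symm e.symm K
  rw [← pNil_iff_hasNormalPComplement]
  constructor
  · rintro ⟨N₀, hN₀n, hN₀⟩ g hg hco
    rw [Subgroup.mem_centralizer_iff]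
    intro k hk
    have hgN : g ∈ N₀ := (hN₀ g).2 hco
    have hkP : k ∈ (P : Subgroup G) := by
      obtain ⟨y, -, rfl⟩ := hk
      exact y.2
    have h1 : g * k * g⁻¹ * k⁻¹ ∈ N₀ := by
      have e1 : g * k * g⁻¹ * k⁻¹ = g * (k * g⁻¹ * k⁻¹) := by group
      rw [e1]
      exact N₀.mul_mem hgN (hN₀n.conj_mem _ (N₀.inv_mem hgN) k)
    have h2 : g * k * g⁻¹ * k⁻¹ ∈ (P : Subgroup G) := by
      have h3 : g * k * g⁻¹ ∈ (K.comap (e : ↥(P : Subgroup G) →* S)).map (P : Subgroup G).subtype :=
        (Subgroup.mem_normalizer_iff.1 hg k).1 hk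
      have h4 : g * k * g⁻¹ ∈ (P : Subgroup G) := by
        obtain ⟨y, -, hy⟩ := h3
        rw [← hy]; exact y.2
      exact Subgroup.mul_mem _ h4 (Subgroup.inv_mem _ hkP)
    have h5 : g * k * g⁻¹ * k⁻¹ = 1 := by
      obtain ⟨j, hj⟩ := P.isPGroup' ⟨_, h2⟩
      have hj' : (g * k * g⁻¹ * k⁻¹) ^ (p ^ j) = 1 := by
        have := congrArg Subtype.val hj
        simpa using this
      exact eq_one_of_coprime_of_pow_prime_pow ((hN₀ _).1 h1) hj'
    have h6 : g * k = k * g := by
      have e2 : g * k = (g * k * g⁻¹ * k⁻¹) * (k * g) := by group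
      rw [e2, h5, one_mul]
    exact h6.symm
  · intro hyp
    apply hKgood G ((P : Subgroup G).subtype.comp e.symm.toMonoidHom)
    · exact (Subgroup.subtype_injective _).comp e.symm.injective
    · have hr : ((P : Subgroup G).subtype.comp e.symm.toMonoidHom).range = (P : Subgroup G) := by
        rw [MonoidHom.range_comp, MonoidHom.range_eq_top.2 e.symm.surjective,
          ← MonoidHom.range_eq_map, Subgroup.range_subtype]
      rw [hr]
      exact P.not_dvd_index
    · rw [hmap]; exact hyp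

end Cfsg.Agent.S3073
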