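import Cfsg.Statements.S3074
import Cfsg.Agent.Lib.helper51.QdSylow
import Cfsg.Agent.Lib.helper3.PGroupFrattini
import Cfsg.Agent.Lib.helper3.PGroupNormal
import Cfsg.Agent.Lib.helper92.Simple

set_option autoImplicit false
open Cfsg

namespace Cfsg.Agent.S3074

open Cfsg.Agent.Lib.helper51

section Heis

variable (p : ℕ) [hp : Fact p.Prime]

/-- Coordinates of the unitriangular group. -/
def sEquiv : ↥(affS (ZMod p)) ≃ ZMod p × ZMod p × ZMod p where
  toFun s := (affB s.1, affX s.1, affY s.1)
  invFun t := mkAffS t.1 t.2.1 t.2.2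
  left_inv s := affS_ext (affB_mkAffS _ _ _) (affX_mkAffS _ _ _) (affY_mkAffS _ _ _)
  right_inv t := by
    obtain ⟨b, x, y⟩ := t
    simp only [affB_mkAffS, affX_mkAffS, affY_mkAffS]

omit hp in
lemma card_S : Nat.card ↥(affS (ZMod p)) = p ^ 3 := by
  rw [Nat.card_congr (sEquiv p), Nat.card_prod, Nat.card_prod, Nat.card_zmod]
  ring

lemma commute_iff (s s' : ↥(affS (ZMod p))) :
    s * s' = s' * s ↔ affB s.1 * affY s'.1 = affB s'.1 * affY s.1 := by
  constructor
  · intro h
    have h1 := congrArg (fun t : ↥(affS (ZMod p)) => affX t.1) h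
    simp only [affX_mul_affS] at h1
    linear_combination h1
  · intro h
    apply affS_ext
    · rw [affB_mul_affS, affB_mul_affS]; ring
    · rw [affX_mul_affS, affX_mul_affS]; linear_combination h
    · rw [affY_mul_affS, affY_mul_affS]; ring

lemma mem_center_iff (s : ↥(affS (ZMod p))) :
    s ∈ Subgroup.center ↥(affS (ZMod p)) ↔ affB s.1 = 0 ∧ affY s.1 = 0 := by
  rw [Subgroup.mem_center_iff]
  constructor
  · intro h
    have h1 := (commute_iff p (mkAffS 1 0 0) s).mp (h (mkAffS 1 0 0))
    have h2 := (commute_iff p (mkAffS 0 0 1) s).mp (h (mkAffS 0 0 1))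
    simp only [affB_mkAffS, affY_mkAffS, one_mul, zero_mul, mul_zero, mul_one] at h1 h2
    exact ⟨h2.symm, h1⟩
  · rintro ⟨hb, hy⟩ g
    rw [commute_iff, hb, hy]
    ring

/-- The centre has order `p`. -/
lemma card_center : Nat.card (Subgroup.center ↥(affS (ZMod p))) = p := by
  have e : Subgroup.center ↥(affS (ZMod p)) ≃ ZMod p :=
    { toFun := fun s => affX s.1.1
      invFun := fun x => ⟨mkAffS 0 x 0, (mem_center_iff p _).mpr
        ⟨affB_mkAffS _ _ _, affY_mkAffS _ _ _⟩⟩
      left_inv := by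
        intro s
        have hs := (mem_center_iff p s.1).mp s.2
        apply Subtype.ext
        apply affS_ext
        · rw [affB_mkAffS, hs.1]
        · rw [affX_mkAffS]
        · rw [affY_mkAffS, hs.2]
      right_inv := by
        intro x
        exact affX_mkAffS _ _ _ }
  rw [Nat.card_congr e, Nat.card_zmod]

/-- The homomorphism `(b, x, y) ↦ (b, y)`. -/
def byHom : ↥(affS (ZMod p)) →* Multiplicative (ZMod p × ZMod p) :=
  MonoidHom.mk' (fun s => Multiplicative.ofAdd (affB s.1, affY s.1)) (by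
    intro s s'
    rw [← ofAdd_add]
    congr 1
    ext
    · exact affB_mul_affS s s'
    · exact affY_mul_affS s s')

lemma commutator_le_center :
    commutator ↥(affS (ZMod p)) ≤ Subgroup.center ↥(affS (ZMod p)) := by
  intro s hs
  have h1 : s ∈ (byHom p).ker := Abelianization.commutator_subset_ker (byHom p) hs
  rw [MonoidHom.mem_ker] at h1
  have h2 : (affB s.1, affY s.1) = (0 : ZMod p × ZMod p) := by
    have := congrArg Multiplicative.toAdd h1
    simpa [byHom] using this
  rw [mem_center_iff]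
  exact ⟨(Prod.ext_iff.mp h2).1, (Prod.ext_iff.mp h2).2⟩

lemma center_le_commutator :
    Subgroup.center ↥(affS (ZMod p)) ≤ commutator ↥(affS (ZMod p)) := by
  intro c hc
  have hc' := (mem_center_iff p c).mp hc
  set s : ↥(affS (ZMod p)) := mkAffS (affX c.1) 0 0 with hs
  set t : ↥(affS (ZMod p)) := mkAffS 0 0 1 with ht
  have h1 : c * (t * s) = s * t := by
    apply affS_ext
    · simp only [affB_mul_affS, hs, ht, affB_mkAffS, hc'.1]; ring
    · simp only [affX_mul_affS, affY_mul_affS, hs, ht, affB_mkAffS, affX_mkAffS,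
        affY_mkAffS, hc'.1]; ring
    · simp only [affY_mul_affS, hs, ht, affY_mkAffS, hc'.2]; ring
  have h2 : c = s * t * s⁻¹ * t⁻¹ := by
    have : c = s * t * (t * s)⁻¹ := by rw [← h1]; group
    rw [this]; group
  have h3 := Subgroup.commutator_mem_commutator (Subgroup.mem_top s) (Subgroup.mem_top t)
  rw [commutatorElement_def] at h3
  rw [h2, commutator_def]
  exact h3

lemma pow_coords (s : ↥(affS (ZMod p))) (n : ℕ) :
    affB (s ^ n).1 = n * affB s.1 ∧ affY (s ^ n).1 = n * affY s.1 ∧
      affX (s ^ n).1 = n * affX s.1 + (n.choose 2 : ℕ) * (affB s.1 * affY s.1) := by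
  induction n with
  | zero =>
    simp only [pow_zero, Nat.cast_zero, zero_mul, Nat.choose_zero_succ, zero_add]
    refine ⟨?_, ?_, ?_⟩
    · exact affB_one
    · exact affY_one
    · exact affX_one
  | succ n ih =>
    obtain ⟨hb, hy, hx⟩ := ih
    rw [pow_succ]
    refine ⟨?_, ?_, ?_⟩
    · rw [affB_mul_affS, hb]; push_cast; ring
    · rw [affY_mul_affS, hy]; push_cast; ring
    · rw [affX_mul_affS, hx, hb]
      have hch : (n + 1).choose 2 = n + n.choose 2 := by
        rw [Nat.choose_succ_succ' n 1, Nat.choose_one_right]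
      rw [hch]; push_cast; ring

lemma pow_p_eq_one (hp2 : p ≠ 2) (s : ↥(affS (ZMod p))) : s ^ p = 1 := by
  obtain ⟨hb, hy, hx⟩ := pow_coords p s p
  have hpz : ((p : ℕ) : ZMod p) = 0 := ZMod.natCast_self p
  have hch : ((p.choose 2 : ℕ) : ZMod p) = 0 := by
    rw [ZMod.natCast_eq_zero_iff]
    apply hp.out.dvd_choose_self (by norm_num)
    have := hp.out.two_le
    omega
  apply affS_ext
  · rw [hb, hpz, zero_mul]; exact affB_one.symm
  · rw [hx, hpz, hch, zero_mul, zero_mul, add_zero]; exact affX_one.symm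
  · rw [hy, hpz, zero_mul]; exact affY_one.symm

lemma isExtraspecial_S (hp2 : p ≠ 2) : IsExtraspecial p ↥(affS (ZMod p)) := by
  have hPG : IsPGroup p ↥(affS (ZMod p)) := isPGroup_affS p
  have hcomm : commutator ↥(affS (ZMod p)) = Subgroup.center ↥(affS (ZMod p)) :=
    le_antisymm (commutator_le_center p) (center_le_commutator p)
  refine ⟨⟨hPG, ?_, hcomm⟩, card_center p⟩
  apply le_antisymm
  · apply Cfsg.Agent.Lib.helper3.frattini_le_of_pow_mem_of_commutator_le (p := p)
    · intro x
      rw [pow_p_eq_one p hp2 x]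
      exact Subgroup.one_mem _
    · exact commutator_le_center p
  · rw [← hcomm]
    exact Cfsg.Agent.Lib.helper3.commutator_le_frattini hPG

lemma exponent_S (hp2 : p ≠ 2) : Monoid.exponent ↥(affS (ZMod p)) = p := by
  have h1 : Monoid.exponent ↥(affS (ZMod p)) ∣ p :=
    Monoid.exponent_dvd_of_forall_pow_eq_one (pow_p_eq_one p hp2)
  rcases (Nat.dvd_prime hp.out).mp h1 with h | h
  · exfalso
    rw [Monoid.exp_eq_one_iff] at h
    have h2 : Nat.card ↥(affS (ZMod p)) = 1 := Nat.card_unique
    rw [card_S] at h2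
    have := hp.out.two_le
    have h3 : 1 < p ^ 3 := Nat.one_lt_pow (by norm_num) (by omega)
    omega
  · exact h

theorem key (hp2 : p ≠ 2) (K : Subgroup (Matrix.SpecialLinearGroup (Fin 3) (ZMod p)))
    (hK : K = affSubgroup (ZMod p)) (P : Sylow p ↥K) :
    Cfsg.IsExtraspecial p ↥P ∧ Nat.card P = p ^ 3 ∧ Monoid.exponent ↥P = p := by
  subst hK
  have e : ↥(P : Subgroup ↥(affSubgroup (ZMod p))) ≃* ↥(affS (ZMod p)) :=
    Sylow.equiv P (affSylow (ZMod p) p)
  refine ⟨?_, ?_, ?_⟩
  · exact Cfsg.Agent.Lib.helper92.isExtraspecial_of_mulEquiv e.symm (isExtraspecial_S p hp2)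
  · rw [Nat.card_congr e.toEquiv, card_S]
  · exact (Monoid.exponent_eq_of_mulEquiv e).trans (exponent_S p hp2)

end Heis

/-- Let p be an odd prime. A Sylow p-subgroup of Qd(p), the split extension of an elementary abelian group of order p² by SL₂(p) acting naturally, is extraspecial of order p³ and exponent p. -/
theorem result (p : ℕ) [Fact p.Prime] (hp : p ≠ 2) (P : Sylow p ↥(Cfsg.qd p)) :
    Cfsg.IsExtraspecial p ↥P ∧ Nat.card P = p ^ 3 ∧ Monoid.exponent ↥P = p := by
  exact key p hp (Cfsg.qd p) (qd_eq p) P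

end Cfsg.Agent.S3074
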