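import Cfsg.Statements.S3075
import Mathlib

set_option autoImplicit false
open Cfsg

namespace Cfsg.Agent.S3075

open Subgroup

section matrices

variable {F : Type*} [Field F]

/-- The matrix `-1` in `SL₂(F)`. -/
def negI : Matrix.SpecialLinearGroup (Fin 2) F := ⟨!![-1, 0; 0, -1], by simp [Matrix.det_fin_two]⟩

/-- An upper unitriangular matrix. -/
def e1 : Matrix.SpecialLinearGroup (Fin 2) F := ⟨!![1, 1; 0, 1], by simp [Matrix.det_fin_two]⟩

/-- A lower unitriangular matrix. -/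
def f1 : Matrix.SpecialLinearGroup (Fin 2) F := ⟨!![1, 0; 1, 1], by simp [Matrix.det_fin_two]⟩

theorem negI_central (g : Matrix.SpecialLinearGroup (Fin 2) F) : g * negI = negI * g := by
  apply Subtype.ext
  ext i j
  rw [Matrix.SpecialLinearGroup.coe_mul, Matrix.SpecialLinearGroup.coe_mul]
  fin_cases i <;> fin_cases j <;>
    simp [negI, Matrix.mul_apply, Fin.sum_univ_two]

theorem negI_sq : (negI : Matrix.SpecialLinearGroup (Fin 2) F) * negI = 1 := by
  apply Subtype.ext
  ext i j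
  rw [Matrix.SpecialLinearGroup.coe_mul, Matrix.SpecialLinearGroup.coe_one]
  fin_cases i <;> fin_cases j <;>
    simp [negI, Matrix.mul_apply, Fin.sum_univ_two]

theorem negI_ne_one (h2 : (2 : F) ≠ 0) : (negI : Matrix.SpecialLinearGroup (Fin 2) F) ≠ 1 := by
  intro h
  have h' := congrArg (fun m : Matrix.SpecialLinearGroup (Fin 2) F => m.1 0 0) h
  simp [negI] at h'
  apply h2
  calc (2 : F) = 1 - (-1) := by ring
    _ = 0 := by rw [h']; ring

theorem e1_f1_ne : (e1 : Matrix.SpecialLinearGroup (Fin 2) F) * f1 ≠ f1 * e1 := by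
  intro h
  have h' : (e1 * f1 : Matrix.SpecialLinearGroup (Fin 2) F).1 0 0 =
      (f1 * e1 : Matrix.SpecialLinearGroup (Fin 2) F).1 0 0 := by rw [h]
  rw [Matrix.SpecialLinearGroup.coe_mul, Matrix.SpecialLinearGroup.coe_mul] at h'
  simp [e1, f1, Matrix.mul_apply, Fin.sum_univ_two] at h'

end matrices

theorem conj_pow_eq {N : Type*} [Group N] (g y : N) (k : ℕ) :
    g * y ^ k * g⁻¹ = (g * y * g⁻¹) ^ k := (conj_pow).symm

theorem conj_zpow_eq {N : Type*} [Group N] (g y : N) (k : ℤ) :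
    g * y ^ k * g⁻¹ = (g * y * g⁻¹) ^ k := (conj_zpow).symm

/-- Conjugations by two elements commute on a normal cyclic subgroup. -/
theorem cyclic_conj_comm {N : Type*} [Group N] (B : Subgroup N) [hBn : B.Normal] [hc : IsCyclic B]
    (n m : N) (x : N) (hx : x ∈ B) :
    n * (m * x * m⁻¹) * n⁻¹ = m * (n * x * n⁻¹) * m⁻¹ := by
  obtain ⟨⟨b, hb⟩, hgen⟩ := hc.exists_generator
  have hpow : ∀ y ∈ B, ∃ l : ℤ, b ^ l = y := by
    intro y hy
    obtain ⟨l, hl⟩ := Subgroup.mem_zpowers_iff.1 (hgen ⟨y, hy⟩)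
    exact ⟨l, by simpa using congrArg Subtype.val hl⟩
  obtain ⟨i, hi⟩ := hpow _ (hBn.conj_mem b hb n)
  obtain ⟨j, hj⟩ := hpow _ (hBn.conj_mem b hb m)
  obtain ⟨l, rfl⟩ := hpow x hx
  have e1 : m * b ^ l * m⁻¹ = (b ^ j) ^ l := by rw [conj_zpow_eq, ← hj]
  have e2 : n * b ^ l * n⁻¹ = (b ^ i) ^ l := by rw [conj_zpow_eq, ← hi]
  have e3 : n * (b ^ j) ^ l * n⁻¹ = ((b ^ i) ^ j) ^ l := by
    rw [conj_zpow_eq, conj_zpow_eq, ← hi]
  have e4 : m * (b ^ i) ^ l * m⁻¹ = ((b ^ j) ^ i) ^ l := by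
    rw [conj_zpow_eq, conj_zpow_eq, ← hj]
  have e5 : (b ^ i) ^ j = (b ^ j) ^ i := by rw [← zpow_mul, ← zpow_mul, mul_comm]
  rw [e1, e2, e3, e4, e5]

/-- Commutators centralize a normal cyclic subgroup. -/
theorem comm_fix {N : Type*} [Group N] (B : Subgroup N) [hBn : B.Normal] [IsCyclic B]
    (n m x : N) (hx : x ∈ B) :
    (n * m * n⁻¹ * m⁻¹) * x = x * (n * m * n⁻¹ * m⁻¹) := by
  have hx' : (m * n)⁻¹ * x * (m * n) ∈ B := by
    have := hBn.conj_mem x hx (m * n)⁻¹
    rwa [inv_inv] at this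
  have c := cyclic_conj_comm B n m _ hx'
  have e1 : n * (m * ((m * n)⁻¹ * x * (m * n)) * m⁻¹) * n⁻¹ =
      (n * m * n⁻¹ * m⁻¹) * x * (n * m * n⁻¹ * m⁻¹)⁻¹ := by group
  have e2 : m * (n * ((m * n)⁻¹ * x * (m * n)) * n⁻¹) * m⁻¹ = x := by group
  rw [e1, e2] at c
  calc (n * m * n⁻¹ * m⁻¹) * x
      = ((n * m * n⁻¹ * m⁻¹) * x * (n * m * n⁻¹ * m⁻¹)⁻¹) * (n * m * n⁻¹ * m⁻¹) := by group
    _ = x * (n * m * n⁻¹ * m⁻¹) := by rw [c]

theorem card_eq_p {N : Type*} [Group N] [Finite N] {p : ℕ} [Fact p.Prime] {A B C : Subgroup N}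
    (hA : Nat.card A = p ^ 2) (hB : B ≤ A) (hC : C ≤ A) (hBC : B ⊓ C = ⊥) (hB0 : B ≠ ⊥)
    (hC0 : C ≠ ⊥) : Nat.card B = p := by
  have hdvd : Nat.card B ∣ p ^ 2 := hA ▸ Subgroup.card_dvd_of_le hB
  obtain ⟨i, hi, hcard⟩ := (Nat.dvd_prime_pow (Fact.out : p.Prime)).1 hdvd
  interval_cases i
  · exfalso
    apply hB0
    rw [pow_zero] at hcard
    exact Subgroup.card_eq_one.1 hcard
  · rw [hcard, pow_one]
  · exfalso
    have hBA : B = A := Subgroup.eq_of_le_of_card_ge hB (by rw [hA, hcard])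
    apply hC0
    rw [← hBC, hBA]
    exact (inf_of_le_right hC).symm

/-- Let p be an odd prime and N a finite group with a normal elementary abelian subgroup A of order p² that is its own centralizer in N, such that N/A is isomorphic to SL₂(p) (over any field F with p elements). Then N splits over A: some subgroup U of N satisfies A ∩ U = 1 and AU = N. -/
theorem result {N : Type*} [Group N] [Finite N] {p : ℕ} [Fact p.Prime] (hp : p ≠ 2)
    (A : Subgroup N) [A.Normal] (hAcomm : IsMulCommutative A) (hAcard : Nat.card A = p ^ 2) (hAexp : Monoid.exponent ↥A = p)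
    (hAself : Subgroup.centralizer (A : Set N) = A)
    {F : Type*} [Field F] [Fintype F] (hF : Fintype.card F = p) (e : N ⧸ A ≃* Matrix.SpecialLinearGroup (Fin 2) F) :
    ∃ U : Subgroup N, A ⊓ U = ⊥ ∧ A ⊔ U = ⊤ := by
  classical
  have hAn : A.Normal := inferInstance
  have hAcommN : ∀ a ∈ A, ∀ b ∈ A, a * b = b * a := fun a ha b hb => setLike_mul_comm ha hb
  have hApow : ∀ a ∈ A, a ^ p = 1 := by
    intro a ha
    have := Monoid.pow_exponent_eq_one (⟨a, ha⟩ : A)
    rw [hAexp] at this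
    simpa using congrArg Subtype.val this
  have hpodd : Odd p := (Fact.out : p.Prime).odd_of_ne_two hp
  obtain ⟨k, hk⟩ := hpodd
  have h2F : (2 : F) ≠ 0 := by
    intro h
    have hpF : (p : F) = 0 := by rw [← hF]; exact Nat.cast_card_eq_zero F
    rw [hk] at hpF
    push_cast at hpF
    rw [h] at hpF
    simp at hpF
  set π := QuotientGroup.mk' A with hπ
  have hπs : Function.Surjective π := QuotientGroup.mk'_surjective A
  set zbar : N ⧸ A := e.symm negI with hz
  have hzz : zbar * zbar = 1 := by rw [hz, ← map_mul, negI_sq, map_one]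
  have hz1 : zbar ≠ 1 := by
    intro h
    apply negI_ne_one h2F
    have := congrArg e h
    simpa [hz] using this
  have hzc : ∀ y : N ⧸ A, y * zbar = zbar * y := by
    intro y
    apply e.injective
    rw [map_mul, map_mul, hz, e.apply_symm_apply]
    exact negI_central (e y)
  obtain ⟨t0, ht0⟩ := hπs zbar
  set t := t0 ^ p with ht
  have hπt : π t = zbar := by
    rw [ht, map_pow, ht0, hk, pow_succ, pow_mul, pow_two, hzz, one_pow, one_mul]
  have htt : t * t = 1 := by
    have h1 : t0 * t0 ∈ A := by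
      rw [← QuotientGroup.eq_one_iff]
      show π (t0 * t0) = 1
      rw [map_mul, ht0, hzz]
    have h2 := hApow _ h1
    rw [ht, ← (Commute.refl t0).mul_pow p]
    exact h2
  have htinv : t⁻¹ = t := inv_eq_of_mul_eq_one_left htt
  have htA : t ∉ A := by
    intro h
    apply hz1
    rw [← hπt]
    exact (QuotientGroup.eq_one_iff t).2 h
  have hconj : ∀ n : N, t⁻¹ * (n * t * n⁻¹) ∈ A := by
    intro n
    rw [← QuotientGroup.eq_one_iff]
    show π (t⁻¹ * (n * t * n⁻¹)) = 1
    rw [map_mul, map_mul, map_mul, map_inv, map_inv, hπt, hzc (π n), mul_assoc, mul_inv_cancel,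
      mul_one, inv_mul_cancel]
  have hK1 : ∀ n : N, ∀ a ∈ A, t * (n * a * n⁻¹) * t⁻¹ = n * (t * a * t⁻¹) * n⁻¹ := by
    intro n a ha
    have hc := hconj n⁻¹
    rw [inv_inv] at hc
    set c := t⁻¹ * (n⁻¹ * t * n) with hcdef
    have e1 : t * n = n * t * c := by rw [hcdef]; group
    have e2 : c * a * c⁻¹ = a := by rw [hAcommN c hc a ha, mul_inv_cancel_right]
    calc t * (n * a * n⁻¹) * t⁻¹ = (t * n) * a * (t * n)⁻¹ := by group
      _ = (n * t * c) * a * (n * t * c)⁻¹ := by rw [e1]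
      _ = n * (t * (c * a * c⁻¹) * t⁻¹) * n⁻¹ := by group
      _ = n * (t * a * t⁻¹) * n⁻¹ := by rw [e2]
  have hτA : ∀ a ∈ A, t * a * t⁻¹ ∈ A := fun a ha => hAn.conj_mem a ha t
  have hττ : ∀ a : N, t * (t * a * t⁻¹) * t⁻¹ = a := by
    intro a
    rw [htinv]
    calc t * (t * a * t) * t = (t * t) * a * (t * t) := by group
      _ = a := by rw [htt, one_mul, mul_one]
  set A0 : Subgroup N := A ⊓ centralizer ({t} : Set N) with hA0def
  have hmemA0 : ∀ a : N, a ∈ A0 ↔ a ∈ A ∧ t * a * t⁻¹ = a := by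
    intro a
    rw [hA0def, Subgroup.mem_inf, mem_centralizer_iff]
    constructor
    · rintro ⟨ha, h⟩
      refine ⟨ha, ?_⟩
      rw [h t rfl, mul_inv_cancel_right]
    · rintro ⟨ha, h⟩
      refine ⟨ha, ?_⟩
      intro y hy
      rw [Set.mem_singleton_iff] at hy
      subst hy
      calc t * a = (t * a * t⁻¹) * t := by group
        _ = a * t := by rw [h]
  let Am : Subgroup N :=
    { carrier := {a | a ∈ A ∧ t * a * t⁻¹ = a⁻¹}
      mul_mem' := by
        rintro a b ⟨ha, ha'⟩ ⟨hb, hb'⟩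
        refine ⟨mul_mem ha hb, ?_⟩
        calc t * (a * b) * t⁻¹ = (t * a * t⁻¹) * (t * b * t⁻¹) := by group
          _ = a⁻¹ * b⁻¹ := by rw [ha', hb']
          _ = (a * b)⁻¹ := by
            rw [mul_inv_rev]
            exact hAcommN _ (inv_mem ha) _ (inv_mem hb)
      one_mem' := ⟨one_mem _, by simp⟩
      inv_mem' := by
        rintro a ⟨ha, ha'⟩
        refine ⟨inv_mem ha, ?_⟩
        calc t * a⁻¹ * t⁻¹ = (t * a * t⁻¹)⁻¹ := by group
          _ = a⁻¹⁻¹ := by rw [ha'] }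
  have hmemAm : ∀ a : N, a ∈ Am ↔ a ∈ A ∧ t * a * t⁻¹ = a⁻¹ := fun a => Iff.rfl
  have hA0le : A0 ≤ A := inf_le_left
  have hAmle : Am ≤ A := fun a ha => ((hmemAm a).1 ha).1
  have hA0n : A0.Normal := by
    constructor
    intro a ha n
    rw [hmemA0] at ha ⊢
    refine ⟨hAn.conj_mem a ha.1 n, ?_⟩
    rw [hK1 n a ha.1, ha.2]
  have hAmn : Am.Normal := by
    constructor
    intro a ha n
    rw [hmemAm] at ha ⊢
    refine ⟨hAn.conj_mem a ha.1 n, ?_⟩
    rw [hK1 n a ha.1, ha.2]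
    group
  -- decomposition
  have hdec : ∀ a ∈ A, ∃ a0 ∈ A0, ∃ a1 ∈ Am, a = a0 * a1 := by
    intro a ha
    set s := t * a * t⁻¹ with hs
    have hsA : s ∈ A := hτA a ha
    have hts : t * s * t⁻¹ = a := hττ a
    have hx0 : t * (a * s) * t⁻¹ = a * s := by
      calc t * (a * s) * t⁻¹ = (t * a * t⁻¹) * (t * s * t⁻¹) := by group
        _ = s * a := by rw [hts]
        _ = a * s := hAcommN s hsA a ha
    have hx1 : t * (a * s⁻¹) * t⁻¹ = (a * s⁻¹)⁻¹ := by
      calc t * (a * s⁻¹) * t⁻¹ = (t * a * t⁻¹) * (t * s * t⁻¹)⁻¹ := by group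
        _ = s * a⁻¹ := by rw [hts]
        _ = (a * s⁻¹)⁻¹ := by group
    refine ⟨(a * s) ^ (k + 1), ?_, (a * s⁻¹) ^ (k + 1), ?_, ?_⟩
    · rw [hmemA0]
      refine ⟨pow_mem (mul_mem ha hsA) _, ?_⟩
      rw [conj_pow_eq, hx0]
    · rw [hmemAm]
      refine ⟨pow_mem (mul_mem ha (inv_mem hsA)) _, ?_⟩
      rw [conj_pow_eq, hx1, inv_pow]
    · have hc : Commute (a * s) (a * s⁻¹) :=
        hAcommN _ (mul_mem ha hsA) _ (mul_mem ha (inv_mem hsA))
      have hprod : a * s * (a * s⁻¹) = a * a := by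
        calc a * s * (a * s⁻¹) = a * (s * a) * s⁻¹ := by group
          _ = a * (a * s) * s⁻¹ := by rw [hAcommN s hsA a ha]
          _ = a * a := by group
      rw [← hc.mul_pow, hprod, ← pow_two, ← pow_mul]
      have : 2 * (k + 1) = p + 1 := by omega
      rw [this, pow_succ, hApow a ha, one_mul]
  by_cases hAm : Am = ⊥
  · exfalso
    have : t ∈ centralizer (A : Set N) := by
      rw [mem_centralizer_iff]
      intro a ha
      obtain ⟨a0, ha0, a1, ha1, rfl⟩ := hdec a ha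
      rw [hAm, Subgroup.mem_bot] at ha1
      subst ha1
      rw [mul_one]
      have := ((hmemA0 a0).1 ha0).2
      calc a0 * t = (t * a0 * t⁻¹) * t := by rw [this]
        _ = t * a0 := by group
    rw [hAself] at this
    exact htA this
  by_cases hA0 : A0 = ⊥
  · refine ⟨centralizer ({t} : Set N), hA0, ?_⟩
    rw [eq_top_iff]
    intro n _
    have hinv : ∀ a ∈ A, t * a * t⁻¹ = a⁻¹ := by
      intro a ha
      obtain ⟨a0, ha0, a1, ha1, rfl⟩ := hdec a ha
      rw [hA0, Subgroup.mem_bot] at ha0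
      subst ha0
      rw [one_mul]
      exact ((hmemAm a1).1 ha1).2
    set a := t⁻¹ * (n * t * n⁻¹) with ha_def
    have ha : a ∈ A := hconj n
    set b := a ^ (k + 1) with hb_def
    have hb : b ∈ A := pow_mem ha _
    have hbb : b * b = a := by
      rw [hb_def, ← pow_add]
      have : k + 1 + (k + 1) = p + 1 := by omega
      rw [this, pow_succ, hApow a ha, one_mul]
    have hbn : b * n ∈ centralizer ({t} : Set N) := by
      rw [mem_centralizer_iff]
      intro h hh
      rw [Set.mem_singleton_iff] at hh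
      subst hh
      have e1 : n * t = t * a * n := by rw [ha_def]; group
      have e3 : b * t = t * b⁻¹ := by
        have := hinv b⁻¹ (inv_mem hb)
        rw [inv_inv] at this
        calc b * t = (t * b⁻¹ * t⁻¹) * t := by rw [this]
          _ = t * b⁻¹ := by group
      calc t * (b * n) = t * b⁻¹ * (b * b) * n := by group
        _ = t * b⁻¹ * a * n := by rw [hbb]
        _ = (b * t) * a * n := by rw [e3]
        _ = b * (t * a * n) := by group
        _ = b * (n * t) := by rw [e1]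
        _ = b * n * t := by group
    have : n = b⁻¹ * (b * n) := by group
    rw [this]
    exact Subgroup.mul_mem_sup (inv_mem hb) hbn
  · exfalso
    have hinf : A0 ⊓ Am = ⊥ := by
      rw [eq_bot_iff]
      intro x hx
      obtain ⟨h0, h1⟩ := Subgroup.mem_inf.1 hx
      rw [hmemA0] at h0
      rw [hmemAm] at h1
      have hxx : x = x⁻¹ := h0.2.symm.trans h1.2
      have hx2 : x * x = 1 := by
        nth_rewrite 2 [hxx]
        exact mul_inv_cancel x
      have hxp := hApow x h0.1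
      rw [hk, pow_succ, pow_mul, pow_two, hx2, one_pow, one_mul] at hxp
      rw [Subgroup.mem_bot]
      exact hxp
    have hcardA0 : Nat.card A0 = p := card_eq_p hAcard hA0le hAmle hinf hA0 hAm
    have hcardAm : Nat.card Am = p :=
      card_eq_p hAcard hAmle hA0le (by rw [inf_comm]; exact hinf) hAm hA0
    have : IsCyclic A0 := isCyclic_of_prime_card hcardA0
    have : IsCyclic Am := isCyclic_of_prime_card hcardAm
    have hcomm : ∀ n m : N, n * m * n⁻¹ * m⁻¹ ∈ A := by
      intro n m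
      rw [← hAself, mem_centralizer_iff]
      intro a ha
      obtain ⟨a0, ha0, a1, ha1, rfl⟩ := hdec a ha
      have c0 := comm_fix A0 n m a0 ha0
      have c1 := comm_fix Am n m a1 ha1
      rw [mul_assoc, ← c1, ← mul_assoc, ← c0, mul_assoc]
    obtain ⟨n, hn⟩ := hπs (e.symm e1)
    obtain ⟨m, hm⟩ := hπs (e.symm f1)
    have h1 : π (n * m * n⁻¹ * m⁻¹) = 1 := (QuotientGroup.eq_one_iff _).2 (hcomm n m)
    rw [map_mul, map_mul, map_mul, map_inv, map_inv, hn, hm] at h1
    have h2 : e.symm e1 * e.symm f1 = e.symm f1 * e.symm e1 :=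
      mul_inv_eq_iff_eq_mul.1 (mul_inv_eq_one.1 h1)
    apply e1_f1_ne (F := F)
    have := congrArg e h2
    simpa using this

end Cfsg.Agent.S3075
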