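import Cfsg.Statements.S3078
import Mathlib
import Cfsg.Agent.Lib.helper57.Replacement
import Cfsg.Agent.Lib.helper53.Conj

set_option autoImplicit false
open Cfsg

namespace Cfsg.Agent.S3078

open Subgroup
open scoped commutatorElement
open Cfsg.Agent.Lib.helper57

variable {G : Type*} [Group G]

/-- Bilinearity of the commutator in a group of class two (left variable). -/
theorem comm_mul_left {B : Subgroup G} (hcl : ∀ u ∈ B, ∀ v ∈ B, ∀ w ∈ B, Commute ⁅u, v⁆ w)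
    {u v w : G} (hu : u ∈ B) (hv : v ∈ B) (hw : w ∈ B) : ⁅u * v, w⁆ = ⁅u, w⁆ * ⁅v, w⁆ := by
  have h1 : ⁅u * v, w⁆ = u * ⁅v, w⁆ * u⁻¹ * ⁅u, w⁆ := by
    simp only [commutatorElement_def]; group
  have h2 : u * ⁅v, w⁆ * u⁻¹ = ⁅v, w⁆ := by
    rw [← (hcl v hv w hw u hu).eq, mul_inv_cancel_right]
  have hcomm : ⁅u, w⁆ ∈ B := by
    rw [commutatorElement_def]
    exact mul_mem (mul_mem (mul_mem hu hw) (inv_mem hu)) (inv_mem hw)
  rw [h1, h2, (hcl v hv w hw _ hcomm).eq]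

/-- Bilinearity of the commutator in a group of class two (right variable). -/
theorem comm_mul_right {B : Subgroup G} (hcl : ∀ u ∈ B, ∀ v ∈ B, ∀ w ∈ B, Commute ⁅u, v⁆ w)
    {u v w : G} (hu : u ∈ B) (hv : v ∈ B) (hw : w ∈ B) : ⁅u, v * w⁆ = ⁅u, v⁆ * ⁅u, w⁆ := by
  have h1 : ⁅u, v * w⁆ = ⁅u, v⁆ * (v * ⁅u, w⁆ * v⁻¹) := by
    simp only [commutatorElement_def]; group
  have h2 : v * ⁅u, w⁆ * v⁻¹ = ⁅u, w⁆ := by
    rw [← (hcl u hu w hw v hv).eq, mul_inv_cancel_right]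
  rw [h1, h2]

theorem comm_mem {B : Subgroup G} {u v : G} (hu : u ∈ B) (hv : v ∈ B) : ⁅u, v⁆ ∈ B := by
  rw [commutatorElement_def]
  exact mul_mem (mul_mem (mul_mem hu hv) (inv_mem hu)) (inv_mem hv)

section setting

variable {A B : Subgroup G} [hAc : IsMulCommutative A]

theorem conj_mem_of_le_normalizer (hAB : A ≤ normalizer (B : Set G)) {a u : G} (ha : a ∈ A)
    (hu : u ∈ B) : a * u * a⁻¹ ∈ B :=
  ((mem_normalizer_iff.1 (hAB ha)) u).1 hu

theorem comm_mem_B (hAB : A ≤ normalizer (B : Set G)) {a u : G} (ha : a ∈ A) (hu : u ∈ B) :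
    ⁅a, u⁆ ∈ B := by
  rw [commutatorElement_def]
  exact mul_mem (conj_mem_of_le_normalizer hAB ha hu) (inv_mem hu)

/-- Elements of `A ∩ B` commute with the commutators `⁅a, x⁆`. -/
theorem commute_inf_comm (hcl : ∀ u ∈ B, ∀ v ∈ B, ∀ w ∈ B, Commute ⁅u, v⁆ w)
    (hBA : ∀ u ∈ B, ∀ v ∈ B, ⁅u, v⁆ ∈ A) (hAB : A ≤ normalizer (B : Set G))
    {x : G} (hx : x ∈ B) {δ a : G} (hδA : δ ∈ A) (hδB : δ ∈ B) (ha : a ∈ A) :
    Commute δ ⁅a, x⁆ := by
  set z := ⁅δ, x⁆ with hz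
  have hzA : z ∈ A := hBA δ hδB x hx
  have e1 : δ * x * δ⁻¹ = z * x := by rw [hz, commutatorElement_def]; group
  have e2 : δ * a * δ⁻¹ = a := by rw [setLike_mul_comm hδA ha, mul_inv_cancel_right]
  have e3 : a * z = z * a := setLike_mul_comm ha hzA
  have e4 : z * ⁅a, x⁆ = ⁅a, x⁆ * z := (hcl δ hδB x hx _ (comm_mem_B hAB ha hx)).eq
  have key : δ * ⁅a, x⁆ * δ⁻¹ = ⁅a, x⁆ := by
    calc δ * ⁅a, x⁆ * δ⁻¹
        = (δ * a * δ⁻¹) * (δ * x * δ⁻¹) * (δ * a * δ⁻¹)⁻¹ * (δ * x * δ⁻¹)⁻¹ := by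
          rw [commutatorElement_def]; group
      _ = a * (z * x) * a⁻¹ * (z * x)⁻¹ := by rw [e1, e2]
      _ = (a * z) * x * a⁻¹ * x⁻¹ * z⁻¹ := by group
      _ = (z * a) * x * a⁻¹ * x⁻¹ * z⁻¹ := by rw [e3]
      _ = z * ⁅a, x⁆ * z⁻¹ := by rw [commutatorElement_def]; group
      _ = ⁅a, x⁆ := by rw [e4, mul_inv_cancel_right]
  show δ * ⁅a, x⁆ = ⁅a, x⁆ * δ
  calc δ * ⁅a, x⁆ = (δ * ⁅a, x⁆ * δ⁻¹) * δ := by group
    _ = ⁅a, x⁆ * δ := by rw [key]

/-- For odd `p`, the commutators `⁅a, x⁆` (`a ∈ A`) commute pairwise. -/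
theorem commute_commutators (hcl : ∀ u ∈ B, ∀ v ∈ B, ∀ w ∈ B, Commute ⁅u, v⁆ w)
    (hBA : ∀ u ∈ B, ∀ v ∈ B, ⁅u, v⁆ ∈ A) (hAB : A ≤ normalizer (B : Set G))
    (h2 : ∀ g : G, g * g = 1 → g = 1)
    {x : G} (hx : x ∈ B) (hN : ∀ a ∈ A, ⁅a, x⁆ ∈ normalizer (A : Set G)) :
    ∀ a ∈ A, ∀ a' ∈ A, Commute ⁅a, x⁆ ⁅a', x⁆ := by
  have hcB : ∀ a ∈ A, ⁅a, x⁆ ∈ B := fun a ha => comm_mem_B hAB ha hx
  have hdA : ∀ a ∈ A, ∀ a' ∈ A, ⁅a, ⁅a', x⁆⁆ ∈ A := repl_double_mem hN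
  have hdB : ∀ a ∈ A, ∀ a' ∈ A, ⁅a, ⁅a', x⁆⁆ ∈ B := fun a ha a' ha' =>
    comm_mem_B hAB ha (hcB a' ha')
  -- F5
  have F5 : ∀ a ∈ A, ∀ a' ∈ A, ⁅⁅a', x⁆, ⁅a, x⁆⁆ = ⁅x, ⁅a, ⁅a', x⁆⁆⁆ := by
    intro a ha a' ha'
    set u := ⁅a', x⁆ with hu
    set c := ⁅a, x⁆ with hc
    set d := ⁅a, u⁆ with hd
    have huB : u ∈ B := hcB a' ha'
    have hcB' : c ∈ B := hcB a ha
    have hdB' : d ∈ B := hdB a ha a' ha'
    have hdA' : d ∈ A := hdA a ha a' ha'
    have e1 : a * u * a⁻¹ = d * u := by rw [hd, commutatorElement_def]; group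
    have e2 : a * x * a⁻¹ = c * x := by rw [hc, commutatorElement_def]; group
    have e3 : ⁅a * u * a⁻¹, a * x * a⁻¹⁆ = a * ⁅u, x⁆ * a⁻¹ := by
      simp only [commutatorElement_def]; group
    have e4 : a * ⁅u, x⁆ * a⁻¹ = ⁅u, x⁆ := by
      rw [setLike_mul_comm ha (hBA u huB x hx), mul_inv_cancel_right]
    have e5 : ⁅d * u, c * x⁆ = ⁅d, c⁆ * ⁅d, x⁆ * (⁅u, c⁆ * ⁅u, x⁆) := by
      rw [comm_mul_left hcl hdB' huB (mul_mem hcB' hx), comm_mul_right hcl hdB' hcB' hx,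
        comm_mul_right hcl huB hcB' hx]
    have e6 : ⁅d, c⁆ = 1 := by
      rw [commutatorElement_eq_one_iff_commute]
      exact commute_inf_comm hcl hBA hAB hx hdA' hdB' ha
    rw [e1, e2, e5, e6, one_mul, e4] at e3
    -- e3 : ⁅d, x⁆ * (⁅u, c⁆ * ⁅u, x⁆) = ⁅u, x⁆
    have e7 : ⁅d, x⁆ * ⁅u, c⁆ = 1 := by
      have : ⁅d, x⁆ * ⁅u, c⁆ * ⁅u, x⁆ = 1 * ⁅u, x⁆ := by rw [mul_assoc, e3, one_mul]
      exact mul_right_cancel this
    have e8 : ⁅u, c⁆ = ⁅d, x⁆⁻¹ := (eq_inv_of_mul_eq_one_right e7)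
    rw [e8, commutatorElement_inv]
  -- F6
  have F6 : ∀ a ∈ A, ∀ a' ∈ A, ⁅a, ⁅a', x⁆⁆ = ⁅a', ⁅a, x⁆⁆ * ⁅⁅a, x⁆, ⁅a', x⁆⁆ := by
    intro a ha a' ha'
    have h1 := commutatorElement_mul_left_expand a a' x
    have h3 := commutatorElement_mul_left_expand a' a x
    rw [setLike_mul_comm ha ha', h3] at h1
    -- h1 : ⁅a', ⁅a, x⁆⁆ * ⁅a, x⁆ * ⁅a', x⁆ = ⁅a, ⁅a', x⁆⁆ * ⁅a', x⁆ * ⁅a, x⁆
    calc ⁅a, ⁅a', x⁆⁆ = (⁅a, ⁅a', x⁆⁆ * ⁅a', x⁆ * ⁅a, x⁆) * ⁅a, x⁆⁻¹ * ⁅a', x⁆⁻¹ := by group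
      _ = (⁅a', ⁅a, x⁆⁆ * ⁅a, x⁆ * ⁅a', x⁆) * ⁅a, x⁆⁻¹ * ⁅a', x⁆⁻¹ := by rw [h1]
      _ = ⁅a', ⁅a, x⁆⁆ * ⁅⁅a, x⁆, ⁅a', x⁆⁆ := by
        rw [commutatorElement_def ⁅a, x⁆ ⁅a', x⁆]; group
  intro a ha a' ha'
  -- e := ⁅⁅a', x⁆, ⁅a, x⁆⁆ satisfies e = e⁻¹
  have hee : ⁅⁅a', x⁆, ⁅a, x⁆⁆ = ⁅⁅a, x⁆, ⁅a', x⁆⁆ := by
    rw [F5 a ha a' ha', F6 a ha a' ha',
      comm_mul_right hcl hx (hdB a' ha' a ha) (comm_mem (hcB a ha) (hcB a' ha'))]
    have h1 : ⁅x, ⁅⁅a, x⁆, ⁅a', x⁆⁆⁆ = 1 := by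
      rw [commutatorElement_eq_one_iff_commute]
      exact (hcl _ (hcB a ha) _ (hcB a' ha') x hx).symm
    rw [h1, mul_one, ← F5 a' ha' a ha]
  have hsq : ⁅⁅a', x⁆, ⁅a, x⁆⁆ * ⁅⁅a', x⁆, ⁅a, x⁆⁆ = 1 := by
    nth_rewrite 1 [hee]
    rw [← commutatorElement_inv ⁅a', x⁆ ⁅a, x⁆, inv_mul_cancel]
  have h1 := h2 _ hsq
  exact (commutatorElement_eq_one_iff_commute.1 h1).symm

end setting

/-- `⁅u ^ k, v⁆ = ⁅u, v⁆ ^ k` when `⁅u, v⁆` commutes with `u`. -/
theorem comm_pow_left {u v : G} (hu : Commute ⁅u, v⁆ u) (k : ℕ) : ⁅u ^ k, v⁆ = ⁅u, v⁆ ^ k := by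
  induction k with
  | zero => simp
  | succ k ih =>
    have h1 : ⁅u ^ (k + 1), v⁆ = u * ⁅u ^ k, v⁆ * u⁻¹ * ⁅u, v⁆ := by
      rw [pow_succ']
      simp only [commutatorElement_def]; group
    have h2 : u * ⁅u, v⁆ ^ k * u⁻¹ = ⁅u, v⁆ ^ k := by
      rw [← (hu.pow_left k).eq, mul_inv_cancel_right]
    rw [h1, ih, h2, pow_succ]

/-- In a situation of class two, `(u * v) ^ k * ⁅u, v⁆ ^ (0 + 1 + ... + (k-1)) = u ^ k * v ^ k`. -/
theorem mul_pow_class_two {u v : G} (hu : Commute ⁅u, v⁆ u) (hv : Commute ⁅u, v⁆ v) (k : ℕ) :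
    (u * v) ^ k * ⁅u, v⁆ ^ (∑ i ∈ Finset.range k, i) = u ^ k * v ^ k := by
  set z := ⁅u, v⁆ with hz
  have huv : u * v = z * (v * u) := by rw [hz, commutatorElement_def]; group
  have hzuv : Commute z (u * v) := hu.mul_right hv
  -- v^k * u * z^k = u * v^k
  have hswap : ∀ k : ℕ, v ^ k * u * z ^ k = u * v ^ k := by
    intro k
    induction k with
    | zero => simp
    | succ k ih =>
      have hvu : v * u = z⁻¹ * (u * v) := by rw [huv]; group
      calc v ^ (k + 1) * u * z ^ (k + 1) = v * (v ^ k * u * z ^ k) * z := by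
            rw [pow_succ', pow_succ]; group
        _ = v * (u * v ^ k) * z := by rw [ih]
        _ = (v * u) * v ^ k * z := by group
        _ = z⁻¹ * (u * v) * v ^ k * z := by rw [hvu]
        _ = z⁻¹ * (u * v ^ (k + 1)) * z := by rw [pow_succ']; group
        _ = z⁻¹ * (z * (u * v ^ (k + 1))) := by
          rw [mul_assoc, ← (hu.mul_right (hv.pow_right (k + 1))).eq]
        _ = u * v ^ (k + 1) := by group
  induction k with
  | zero => simp
  | succ k ih =>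
    rw [Finset.sum_range_succ, pow_succ (u * v), pow_add z]
    calc (u * v) ^ k * (u * v) * (z ^ (∑ i ∈ Finset.range k, i) * z ^ k)
        = (u * v) ^ k * ((u * v) * z ^ (∑ i ∈ Finset.range k, i)) * z ^ k := by group
      _ = (u * v) ^ k * (z ^ (∑ i ∈ Finset.range k, i) * (u * v)) * z ^ k := by
        rw [((hzuv.pow_left _).eq)]
      _ = ((u * v) ^ k * z ^ (∑ i ∈ Finset.range k, i)) * (u * v) * z ^ k := by group
      _ = (u ^ k * v ^ k) * (u * v) * z ^ k := by rw [ih]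
      _ = u ^ k * (v ^ k * u * z ^ k) * v := by
        have : v * z ^ k = z ^ k * v := ((hv.pow_left k).eq).symm
        calc (u ^ k * v ^ k) * (u * v) * z ^ k = u ^ k * v ^ k * u * (v * z ^ k) := by group
          _ = u ^ k * v ^ k * u * (z ^ k * v) := by rw [this]
          _ = u ^ k * (v ^ k * u * z ^ k) * v := by group
      _ = u ^ k * (u * v ^ k) * v := by rw [hswap k]
      _ = u ^ (k + 1) * v ^ (k + 1) := by rw [pow_succ, pow_succ]; group

/-- For odd `n`: if `u ^ n = 1 = v ^ n` and `⁅u, v⁆` commutes with `u` and `v`,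
then `(u * v) ^ n = 1`. -/
theorem mul_pow_eq_one_of_class_two {u v : G} (hu : Commute ⁅u, v⁆ u) (hv : Commute ⁅u, v⁆ v)
    {n : ℕ} (hn : Odd n) (hun : u ^ n = 1) (hvn : v ^ n = 1) : (u * v) ^ n = 1 := by
  have h1 := mul_pow_class_two hu hv n
  have hz : ⁅u, v⁆ ^ n = 1 := by rw [← comm_pow_left hu, hun, commutatorElement_one_left]
  have hdvd : n ∣ ∑ i ∈ Finset.range n, i := by
    have h2 := Finset.sum_range_id_mul_two n
    have hcop : Nat.Coprime n 2 := Nat.coprime_two_right.2 hn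
    exact hcop.dvd_of_dvd_mul_right (h2 ▸ dvd_mul_right n (n - 1))
  obtain ⟨t, ht⟩ := hdvd
  rw [ht, pow_mul, hz, one_pow, mul_one, hun, hvn, one_mul] at h1
  exact h1

/-- A replacement Theorem for abelian subgroups of p-groups, p odd. Let G be a finite p-group with p odd, A an abelian subgroup of G, and B a subgroup of nilpotency class at most 2 with [B, B] ≤ A, such that A normalizes B but B does not normalize A. Then there is an abelian subgroup A* of G of the same order as A with A ∩ B strictly contained in A* ∩ B, A* contained in N_G(A) and in the normal closure of A, the exponent of A* dividing the exponent of A, and with the subgroup generated by the elements of order dividing p in A of order at most that of the corresponding subgroup of A* (the rank of A is at most the rank of A*). -/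
theorem result {G : Type*} [Group G] [Finite G] {p : ℕ} [Fact p.Prime] (hp : p ≠ 2) (hG : IsPGroup p G) (A B : Subgroup G) (hA : IsMulCommutative A) (hB2 : ⁅⁅B, B⁆, B⁆ = ⊥) (hBA : ⁅B, B⁆ ≤ A) (hAB : A ≤ Subgroup.normalizer (B : Set G)) (hBnA : ¬ B ≤ Subgroup.normalizer (A : Set G)) : ∃ Astar : Subgroup G, IsMulCommutative Astar ∧ Nat.card Astar = Nat.card A ∧ A ⊓ B < Astar ⊓ B ∧ Astar ≤ Subgroup.normalizer (A : Set G) ∧ Astar ≤ Subgroup.normalClosure (A : Set G) ∧ Monoid.exponent Astar ∣ Monoid.exponent A ∧ Nat.card (Cfsg.omegaOne p A) ≤ Nat.card (Cfsg.omegaOne p Astar) := by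
  classical
  have : Group.IsNilpotent G := hG.isNilpotent
  have hpodd : Odd p := (Fact.out : p.Prime).odd_of_ne_two hp
  -- no 2-torsion
  have h2 : ∀ g : G, g * g = 1 → g = 1 := by
    intro g hg
    obtain ⟨k, hk⟩ := hG g
    obtain ⟨m, hm⟩ := (Odd.pow hpodd : Odd (p ^ k))
    rw [hm, pow_succ, pow_mul, pow_two, hg, one_pow, one_mul] at hk
    exact hk
  have hcl : ∀ u ∈ B, ∀ v ∈ B, ∀ w ∈ B, Commute ⁅u, v⁆ w := by
    intro u hu v hv w hw
    have h : ⁅⁅u, v⁆, w⁆ ∈ ⁅⁅B, B⁆, B⁆ :=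
      commutator_mem_commutator (commutator_mem_commutator hu hv) hw
    rw [hB2, mem_bot] at h
    exact commutatorElement_eq_one_iff_commute.1 h
  have hBA' : ∀ u ∈ B, ∀ v ∈ B, ⁅u, v⁆ ∈ A := fun u hu v hv =>
    hBA (commutator_mem_commutator hu hv)
  -- choose x
  obtain ⟨x, hxB, hxN, hxc⟩ : ∃ x ∈ B, x ∉ normalizer (A : Set G) ∧
      ∀ a ∈ A, ⁅a, x⁆ ∈ normalizer (A : Set G) := by
    obtain ⟨n₀, hn₀⟩ :=
      (Group.IsNilpotent.nilpotent' : ∃ n : ℕ, Subgroup.upperCentralSeries G n = ⊤)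
    have hex : ∃ n, ¬ (B ⊓ Subgroup.upperCentralSeries G n ≤ normalizer (A : Set G)) :=
      ⟨n₀, by rw [hn₀, inf_top_eq]; exact hBnA⟩
    set m := Nat.find hex with hm
    have hPm : ¬ (B ⊓ Subgroup.upperCentralSeries G m ≤ normalizer (A : Set G)) :=
      Nat.find_spec hex
    have hm0 : m ≠ 0 := by
      intro h0
      rw [h0, Subgroup.upperCentralSeries_zero, inf_bot_eq] at hPm
      exact hPm bot_le
    obtain ⟨i, hi⟩ := Nat.exists_eq_succ_of_ne_zero hm0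
    have hPi : B ⊓ Subgroup.upperCentralSeries G i ≤ normalizer (A : Set G) := by
      by_contra hc
      have : m ≤ i := Nat.find_min' hex hc
      omega
    rw [hi] at hPm
    obtain ⟨x, hx, hxN⟩ := SetLike.not_le_iff_exists.1 hPm
    obtain ⟨hxB, hxZ⟩ := Subgroup.mem_inf.1 hx
    refine ⟨x, hxB, hxN, ?_⟩
    intro a ha
    apply hPi
    refine Subgroup.mem_inf.2 ⟨comm_mem_B hAB ha hxB, ?_⟩
    rw [← commutatorElement_inv]
    exact inv_mem ((Subgroup.mem_upperCentralSeries_succ_iff.1 hxZ) a)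
  have hC := commute_commutators hcl hBA' hAB h2 hxB hxc
  have hcB : ∀ a ∈ A, ⁅a, x⁆ ∈ B := fun a ha => comm_mem_B hAB ha hxB
  have hMB : replM A x ≤ B := by
    rw [replM, closure_le]
    rintro _ ⟨a, ha, rfl⟩
    exact hcB a ha
  have hMA : ∀ u ∈ replM A x, u ∈ A → ⁅u, x⁆ ∈ A := fun u hu _ => hBA' u (hMB hu) x hxB
  have hcomm : IsMulCommutative (replStar A x) := replStar_comm hC
  have hcS : ∀ a ∈ A, ⁅a, x⁆ ∈ replStar A x := fun a ha =>
    (le_sup_left : replM A x ≤ replStar A x) (commutator_mem_replM ha)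
  have hKS : replK A x ≤ replStar A x := le_sup_right
  -- powers of the commutators
  have hpow : ∀ n : ℕ, Odd n → ∀ a ∈ A, a ^ n = 1 → ⁅a, x⁆ ^ n = 1 := by
    intro n hn a ha han
    set v := x * a⁻¹ * x⁻¹ with hv
    have hcv : ⁅a, x⁆ = a * v := by rw [hv, commutatorElement_def]; group
    have hz : ⁅a, v⁆ = (⁅a⁻¹, ⁅a, x⁆⁆)⁻¹ := by
      rw [hv]
      simp only [commutatorElement_def]
      group
    have hzA : ⁅a, v⁆ ∈ A := by
      rw [hz]
      exact inv_mem (repl_double_mem hxc _ (inv_mem ha) a ha)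
    have hzB : ⁅a, v⁆ ∈ B := by
      rw [hz]
      exact inv_mem (comm_mem_B hAB (inv_mem ha) (hcB a ha))
    have c1 : Commute ⁅a, v⁆ a := setLike_mul_comm hzA ha
    have c2 : Commute ⁅a, v⁆ v := by
      have h3 : v = a⁻¹ * ⁅a, x⁆ := by rw [hcv]; group
      have h4 := (Commute.inv_right c1).mul_right (commute_inf_comm hcl hBA' hAB hxB hzA hzB ha)
      rw [← h3] at h4
      exact h4
    have hvn : v ^ n = 1 := by
      rw [hv, conj_pow, inv_pow, han, inv_one, mul_one, mul_inv_cancel]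
    rw [hcv]
    exact mul_pow_eq_one_of_class_two c1 c2 hn han hvn
  -- powers in the replacement subgroup
  have hpowS : ∀ n : ℕ, (∀ a ∈ A, a ^ n = 1) → (∀ a ∈ A, ⁅a, x⁆ ^ n = 1) →
      ∀ u ∈ replStar A x, u ^ n = 1 := by
    intro n h1 h3 u hu
    have hgen : replStar A x = closure ({y | ∃ a ∈ A, y = ⁅a, x⁆} ∪ (replK A x : Set G)) := by
      rw [replStar, replM, Subgroup.closure_union, closure_eq]
    rw [hgen] at hu
    induction hu using closure_induction with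
    | mem y hy =>
      rcases hy with ⟨a, ha, rfl⟩ | hy
      · exact h3 a ha
      · exact h1 y (replK_le A x hy)
    | one => exact one_pow n
    | mul u v hu hv ihu ihv =>
      have huS : u ∈ replStar A x := by rw [hgen]; exact hu
      have hvS : v ∈ replStar A x := by rw [hgen]; exact hv
      have hc : Commute u v := setLike_mul_comm huS hvS
      rw [hc.mul_pow, ihu, ihv, one_mul]
    | inv u hu ihu => rw [inv_pow, ihu, inv_one]
  refine ⟨replStar A x, hcomm,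
    le_antisymm (card_replStar_le hxc hC hMA) (card_le_card_replStar hxc hC), ?_,
    replStar_le_normalizer hxc, replStar_le_normalClosure A x, ?_, ?_⟩
  · -- strict containment
    rw [SetLike.lt_iff_le_and_exists]
    constructor
    · intro u hu
      obtain ⟨huA, huB⟩ := Subgroup.mem_inf.1 hu
      exact Subgroup.mem_inf.2 ⟨hKS (mem_replK.2 ⟨huA, hBA' u huB x hxB⟩), huB⟩
    · have hex : ∃ a₀ ∈ A, ⁅a₀, x⁆ ∉ A := by
        by_contra hcon0
        have hcon : ∀ a ∈ A, ⁅a, x⁆ ∈ A := by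
          intro a ha
          by_contra h
          exact hcon0 ⟨a, ha, h⟩
        apply hxN
        apply Cfsg.Agent.Lib.helper53.mem_normalizer_of_conj_le
        rw [Cfsg.Agent.Lib.helper53.conj_le_iff]
        intro a ha
        have : x * a * x⁻¹ = ⁅a, x⁆⁻¹ * a := by rw [commutatorElement_def]; group
        rw [this]
        exact mul_mem (inv_mem (hcon a ha)) ha
      obtain ⟨a₀, ha₀, hna⟩ := hex
      exact ⟨⁅a₀, x⁆, Subgroup.mem_inf.2 ⟨hcS a₀ ha₀, hcB a₀ ha₀⟩,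
        fun h => hna (Subgroup.mem_inf.1 h).1⟩
  · -- exponent
    set n := Monoid.exponent ↥A with hn
    have hnA : ∀ a ∈ A, a ^ n = 1 := by
      intro a ha
      have := Monoid.pow_exponent_eq_one (⟨a, ha⟩ : A)
      simpa using congrArg Subtype.val this
    have hnodd : Odd n := by
      have h1 : n ∣ Nat.card A := Group.exponent_dvd_nat_card
      obtain ⟨k, hk⟩ := (IsPGroup.iff_card).1 (hG.to_subgroup A)
      rw [hk] at h1
      obtain ⟨j, -, hj⟩ := (Nat.dvd_prime_pow (Fact.out : p.Prime)).1 h1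
      rw [hj]
      exact Odd.pow hpodd
    apply Monoid.exponent_dvd_of_forall_pow_eq_one
    rintro ⟨u, hu⟩
    apply Subtype.ext
    simpa using hpowS n hnA (fun a ha => hpow n hnodd a ha (hnA a ha)) u hu
  · -- Ω₁
    set Ω : Subgroup G := Cfsg.omegaOne p A with hΩ
    have hΩA : Ω ≤ A := by
      rw [hΩ, Cfsg.omegaOne, closure_le]
      rintro y ⟨hy, -⟩
      exact hy
    have hΩgen : ∀ y ∈ A, y ^ p = 1 → y ∈ Ω := fun y hy hyp => subset_closure ⟨hy, hyp⟩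
    have hΩpow : ∀ y ∈ Ω, y ^ p = 1 := by
      intro y hy
      rw [hΩ, Cfsg.omegaOne] at hy
      induction hy using closure_induction with
      | mem y hy => exact hy.2
      | one => exact one_pow p
      | mul u v hu hv ihu ihv =>
        have huA : u ∈ A := hΩA (by rw [hΩ, Cfsg.omegaOne]; exact hu)
        have hvA : v ∈ A := hΩA (by rw [hΩ, Cfsg.omegaOne]; exact hv)
        have hc : Commute u v := setLike_mul_comm huA hvA
        rw [hc.mul_pow, ihu, ihv, one_mul]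
      | inv u hu ihu => rw [inv_pow, ihu, inv_one]
    have hΩc : IsMulCommutative Ω :=
      ⟨⟨fun a b => Subtype.ext (setLike_mul_comm (hΩA a.2) (hΩA b.2))⟩⟩
    have hNΩ : ∀ a ∈ Ω, ⁅a, x⁆ ∈ normalizer (Ω : Set G) := by
      intro a ha
      apply Cfsg.Agent.Lib.helper53.mem_normalizer_of_conj_le
      rw [Cfsg.Agent.Lib.helper53.conj_le_iff]
      intro u hu
      apply hΩgen
      · exact ((mem_normalizer_iff.1 (hxc a (hΩA ha))) u).1 (hΩA hu)
      · rw [conj_pow, hΩpow u hu, mul_one, mul_inv_cancel]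
    have hCΩ : ∀ a ∈ Ω, ∀ a' ∈ Ω, Commute ⁅a, x⁆ ⁅a', x⁆ := fun a ha a' ha' =>
      hC a (hΩA ha) a' (hΩA ha')
    have h1 : Nat.card Ω ≤ Nat.card (replStar Ω x) := card_le_card_replStar hNΩ hCΩ
    have h3 : replStar Ω x ≤ Cfsg.omegaOne p (replStar A x) := by
      apply sup_le
      · rw [replM, closure_le]
        rintro _ ⟨a, ha, rfl⟩
        exact subset_closure ⟨hcS a (hΩA ha), hpow p hpodd a (hΩA ha) (hΩpow a ha)⟩
      · intro a ha
        obtain ⟨haΩ, hca⟩ := mem_replK.1 ha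
        exact subset_closure ⟨hKS (mem_replK.2 ⟨hΩA haΩ, hΩA hca⟩), hΩpow a haΩ⟩
    exact h1.trans (Subgroup.card_le_of_le h3)

end Cfsg.Agent.S3078
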