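import Mathlib
import Cfsg.Prelude.Def_Transfer
import Cfsg.Statements.S3084
import Cfsg.Agent.Lib.helper67.ExtraExtGroup

set_option autoImplicit false

namespace Cfsg.Agent.S3084

open Cfsg.Agent.Lib.helper67.ExtraExt

/-- the sign of an element of `ZMod 2`. -/
noncomputable def sg (x : ZMod 2) : ℝ := if x = 0 then 1 else -1

theorem sg_add (x y : ZMod 2) : sg (x + y) = sg x * sg y := by
  have h : ∀ x y : ZMod 2, ((x + y = 0) ↔ (x = 0 ↔ y = 0)) := by decide
  unfold sg
  by_cases hx : x = 0 <;> by_cases hy : y = 0 <;> simp [hx, hy, h]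

theorem sg_sq (x : ZMod 2) : sg x * sg x = 1 := by
  unfold sg
  by_cases hx : x = 0 <;> simp [hx]

theorem sg_eq_one (x : ZMod 2) : sg x = 1 ↔ x = 0 := by
  unfold sg
  by_cases hx : x = 0 <;> simp [hx]
  norm_num

theorem sg_one : sg 1 = -1 := by
  unfold sg
  rw [if_neg (by decide)]

theorem zmod2_cases (x : ZMod 2) : x = 0 ∨ x = 1 := by
  revert x; decide

theorem zmod2_add_self (x : ZMod 2) : x + x = 0 := by
  revert x; decide

/-- existence of a quadratic refinement of the difference of two bilinear forms with the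
same quadratic form. -/
theorem exists_refinement {U : Type*} [AddCommGroup U] [Module (ZMod 2) U] {ι : Type*}
    [LinearOrder ι] (bm : Module.Basis ι (ZMod 2) U)
    (γ : LinearMap.BilinMap (ZMod 2) U (ZMod 2)) (halt : ∀ u, γ u u = 0)
    (hsymm : ∀ u v, γ u v = γ v u) :
    ∃ f : U → ZMod 2, ∀ u v, f (u + v) = f u + f v + γ u v := by
  let δ : LinearMap.BilinMap (ZMod 2) U (ZMod 2) :=
    bm.constr (S := ZMod 2) fun i =>
      bm.constr (S := ZMod 2) fun j => if i < j then γ (bm i) (bm j) else 0
  have hδ : ∀ i j, δ (bm i) (bm j) = if i < j then γ (bm i) (bm j) else 0 := by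
    intro i j
    simp [δ]
  have hsum : δ + δ.flip = γ := by
    apply LinearMap.ext_basis bm bm
    intro i j
    rw [LinearMap.add_apply, LinearMap.add_apply, LinearMap.flip_apply, hδ, hδ]
    rcases lt_trichotomy i j with h | h | h
    · rw [if_pos h, if_neg (not_lt.mpr h.le), add_zero]
    · subst h
      rw [if_neg (lt_irrefl _), add_zero, halt]
    · rw [if_neg (not_lt.mpr h.le), if_pos h, zero_add, hsymm]
  refine ⟨fun u => δ u u, fun u v => ?_⟩
  have h1 : δ u v + δ v u = γ u v := by
    have := congrArg (fun B : LinearMap.BilinMap (ZMod 2) U (ZMod 2) => B u v) hsum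
    simpa using this
  show δ (u + v) (u + v) = δ u u + δ v v + γ u v
  rw [← h1]
  simp only [map_add, LinearMap.add_apply]
  abel

/-- Let K be a group acting faithfully and linearly on a finite-dimensional vector space U of dimension 2n ≥ 2 over the field with two elements, preserving a quadratic form q whose polar bilinear form is non-degenerate and which vanishes on some n-dimensional subspace (a non-singular form of plus type). Then there is a finite group R with a normal extraspecial 2-subgroup Q of order 2^(2n+1), an isomorphism of R/Q with K, and a surjective homomorphism χ from Q onto (the additive group of) U with kernel the centre of Q, such that χ carries conjugation by any r in R to the action of the image of r in K, and an element a of Q squares to the identity exactly when q vanishes at χ(a). -/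
theorem result {K : Type*} [Group K] {U : Type*} [AddCommGroup U] [Module (ZMod 2) U] [Module.Finite (ZMod 2) U] (n : ℕ) (hn1 : 1 ≤ n) (hn : Module.finrank (ZMod 2) U = 2 * n) (ρ : Representation (ZMod 2) K U) (hρ : Function.Injective ρ) (q : QuadraticForm (ZMod 2) U) (hq : ∀ (k : K) (u : U), q (ρ k u) = q u) (hnd : (QuadraticMap.polarBilin q).Nondegenerate) (hplus : ∃ W : Submodule (ZMod 2) U, Module.finrank (ZMod 2) ↥W = n ∧ ∀ w ∈ W, q w = 0) : ∃ (R : Type) (_ : Group R) (_ : Finite R) (Q : Subgroup R) (hN : Q.Normal) (e : R ⧸ Q ≃* K) (χ : ↥Q →* Multiplicative U), Cfsg.IsExtraspecial 2 ↥Q ∧ Nat.card ↥Q = 2 ^ (2 * n + 1) ∧ Function.Surjective χ ∧ χ.ker = Subgroup.center ↥Q ∧ (∀ (r : R) (a : ↥Q), χ ⟨r * a * r⁻¹, hN.conj_mem (a : R) a.2 r⟩ = Multiplicative.ofAdd (ρ (e (r : R ⧸ Q)) (Multiplicative.toAdd (χ a)))) ∧ ∀ a : ↥Q, a * a = 1 ↔ q (Multiplicative.toAdd (χ a)) = 0 := by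
  classical
  haveI : Finite U := Module.finite_of_finite (ZMod 2)
  haveI : Finite K := Finite.of_injective (fun k => (ρ k : U → U))
    (fun a b h => hρ (LinearMap.ext (congrFun h)))
  let bm : Module.Basis (Fin (2 * n)) (ZMod 2) U := Module.finBasisOfFinrankEq (ZMod 2) U hn
  let φ : U ≃ₗ[ZMod 2] (Fin (2 * n) → ZMod 2) := bm.equivFun
  let β : LinearMap.BilinMap (ZMod 2) U (ZMod 2) := q.toBilin bm
  have hβq : ∀ u, β u u = q u := by
    intro u
    have := congrArg (fun Q : QuadraticMap (ZMod 2) U (ZMod 2) => Q u)
      (QuadraticMap.toQuadraticMap_toBilin q bm)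
    simpa [LinearMap.BilinMap.toQuadraticMap_apply] using this
  have hpolar : ∀ u v, QuadraticMap.polar q u v = β u v + β v u := by
    intro u v
    have h1 := LinearMap.BilinMap.polar_toQuadraticMap (B := β) u v
    rw [QuadraticMap.toQuadraticMap_toBilin q bm] at h1
    exact h1
  let T : Tw (Fin (2 * n) → ZMod 2) :=
    { σ := fun x y => sg (β (φ.symm x) (φ.symm y))
      add_left := fun u v w => by simp only [map_add, LinearMap.add_apply, sg_add]
      add_right := fun u v w => by simp only [map_add, sg_add]
      sq := fun u v => sg_sq _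
      two := fun v => by ext i; exact zmod2_add_self (v i)
      nd := fun x hx => by
        have hu : φ.symm x ≠ 0 := by simpa using hx
        have h1 : ¬ ∀ y, QuadraticMap.polarBilin q (φ.symm x) y = 0 := fun h => hu (hnd.1 _ h)
        simp only [not_forall] at h1
        obtain ⟨y, hy⟩ := h1
        refine ⟨φ y, ?_⟩
        have h2 : β (φ.symm x) y + β y (φ.symm x) = 1 := by
          rw [← hpolar]
          rcases zmod2_cases (QuadraticMap.polar q (φ.symm x) y) with h | h
          · exact absurd h hy
          · exact h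
        show sg (β (φ.symm x) (φ.symm (φ y))) * sg (β (φ.symm (φ y)) (φ.symm x)) = -1
        rw [φ.symm_apply_apply, ← sg_add, h2, sg_one] }
  let act : K → (Fin (2 * n) → ZMod 2) → (Fin (2 * n) → ZMod 2) :=
    fun k x => φ (ρ k (φ.symm x))
  have hA : Act T act :=
    { one := fun v => by simp [act]
      mul := fun k k' v => by simp [act]
      add := fun k u v => by simp [act]
      faithful := fun k k' h => by
        apply hρ
        ext u
        have := h (φ u)
        simp only [act, φ.symm_apply_apply] at this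
        exact φ.injective this
      isom := fun k u => by
        show sg (β (φ.symm (φ (ρ k (φ.symm u)))) (φ.symm (φ (ρ k (φ.symm u))))) =
          sg (β (φ.symm u) (φ.symm u))
        rw [φ.symm_apply_apply, hβq, hβq, hq]
      lift := fun k => by
        let γ : LinearMap.BilinMap (ZMod 2) U (ZMod 2) := β + β.compl₁₂ (ρ k) (ρ k)
        have hγ : ∀ u v, γ u v = β u v + β (ρ k u) (ρ k v) := fun u v => by simp [γ]
        have halt : ∀ u, γ u u = 0 := fun u => by
          rw [hγ, hβq, hβq, hq]; exact zmod2_add_self _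
        have hpol : ∀ u v, QuadraticMap.polar q (ρ k u) (ρ k v) = QuadraticMap.polar q u v := by
          intro u v
          simp only [QuadraticMap.polar, ← map_add, hq]
        have hsymm : ∀ u v, γ u v = γ v u := by
          intro u v
          rw [hγ, hγ]
          have h1 := hpolar u v
          have h2 := hpolar (ρ k u) (ρ k v)
          rw [hpol, h1] at h2
          have key : ∀ a b c d : ZMod 2, a + b = c + d → a + c = b + d := by decide
          exact key _ _ _ _ h2
        obtain ⟨f, hf⟩ := exists_refinement bm γ halt hsymm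
        refine ⟨fun x => sg (f (φ.symm x)), fun u => sg_sq _, fun u v => ?_⟩
        show sg (f (φ.symm (u + v))) = sg (f (φ.symm u)) * sg (f (φ.symm v)) *
          sg (β (φ.symm u) (φ.symm v)) *
          sg (β (φ.symm (φ (ρ k (φ.symm u)))) (φ.symm (φ (ρ k (φ.symm v)))))
        rw [map_add, hf, hγ, φ.symm_apply_apply, φ.symm_apply_apply, sg_add, sg_add, sg_add]
        ring }
  have hV : ∃ x : Fin (2 * n) → ZMod 2, x ≠ 0 := by
    refine ⟨fun _ => 1, fun h => ?_⟩
    have := congrFun h ⟨0, by omega⟩
    simp at this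
  obtain ⟨R, hG, hfin, Q, hN, e, χ₀, hext, hcard, hsurj, hker, hconj, hsq⟩ :=
    exists_extension T hV act hA
  let ψ : Multiplicative (Fin (2 * n) → ZMod 2) ≃* Multiplicative U :=
    AddEquiv.toMultiplicative φ.symm.toAddEquiv
  refine ⟨R, hG, hfin, Q, hN, e, ψ.toMonoidHom.comp χ₀, hext, ?_, ?_, ?_, ?_, ?_⟩
  · rw [hcard]
    simp [pow_succ]
    ring
  · exact ψ.surjective.comp hsurj
  · rw [← hker]
    ext a
    simp [MonoidHom.mem_ker]
  · intro r a
    show ψ (χ₀ _) = _
    rw [hconj r a]
    show Multiplicative.ofAdd (φ.symm (φ (ρ (e r) (φ.symm (Multiplicative.toAdd (χ₀ a)))))) = _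
    rw [φ.symm_apply_apply]
    rfl
  · intro a
    rw [hsq a]
    show sg (β (φ.symm _) (φ.symm _)) = 1 ↔ q (φ.symm (Multiplicative.toAdd (χ₀ a))) = 0
    rw [hβq, sg_eq_one]

end Cfsg.Agent.S3084
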