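import Cfsg.Statements.S3087

set_option autoImplicit false
open Cfsg

namespace Cfsg.Agent.S3087

/-- The fixed points of a subgroup in a representation, as an additive subgroup. -/
def fixedAdd {G V : Type*} [Group G] [AddCommGroup V] {k : Type*} [CommRing k] [Module k V]
    (ρ : Representation k G V) (B : Subgroup G) : AddSubgroup V where
  carrier := {v | ∀ b ∈ B, ρ b v = v}
  add_mem' := by
    intro x y hx hy b hb
    rw [map_add, hx b hb, hy b hb]
  zero_mem' := by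
    intro b hb
    rw [map_zero]
  neg_mem' := by
    intro x hx b hb
    rw [map_neg, hx b hb]

theorem card_sup_mul_card_inf {V : Type*} [AddCommGroup V] (X Y : AddSubgroup V) :
    Nat.card ↥(X ⊔ Y) * Nat.card ↥(X ⊓ Y) = Nat.card ↥X * Nat.card ↥Y := by
  have h1 : Nat.card ↥(X ⊔ Y) = Nat.card ↥Y * Y.relIndex X := by
    rw [← AddSubgroup.relIndex_bot_left, ← AddSubgroup.relIndex_bot_left,
      ← AddSubgroup.relIndex_sup_right (H := X) (K := Y)]
    exact (AddSubgroup.relIndex_mul_relIndex ⊥ Y (X ⊔ Y) bot_le le_sup_right).symm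
  have h2 : Nat.card ↥X = Nat.card ↥(X ⊓ Y) * Y.relIndex X := by
    rw [← AddSubgroup.relIndex_bot_left, ← AddSubgroup.relIndex_bot_left,
      ← AddSubgroup.inf_relIndex_left X Y]
    exact (AddSubgroup.relIndex_mul_relIndex ⊥ (X ⊓ Y) X bot_le inf_le_left).symm
  rw [h1, h2]
  ring

/-- Let p be a prime, G a finite group acting linearly on a finite vector space V over the field with p elements, W a G-invariant subspace, and A a subgroup of G with |A|·|C_V(A)| ≥ |B|·|C_V(B)| for every subgroup B of A. Then |A|·|C_W(A)| ≥ |B|·|C_W(B)| for every subgroup B of A that contains C_A(W); that is, the image of A in the group induced on W satisfies the same maximality condition. -/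
theorem result {G V : Type*} [Group G] [Finite G] [AddCommGroup V] [Finite V] (p : ℕ) [Fact p.Prime] [Module (ZMod p) V]
    (ρ : Representation (ZMod p) G V) (W : Submodule (ZMod p) V) (hW : ∀ g : G, ∀ w ∈ W, ρ g w ∈ W)
    (A : Subgroup G)
    (hP : ∀ B : Subgroup G, B ≤ A →
      Nat.card ↥B * Nat.card {v : V // ∀ b ∈ B, ρ b v = v} ≤ Nat.card ↥A * Nat.card {v : V // ∀ a ∈ A, ρ a v = v})
    (B : Subgroup G) (hBA : B ≤ A) (hCB : ∀ a ∈ A, (∀ w ∈ W, ρ a w = w) → a ∈ B) :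
    Nat.card ↥B * Nat.card {w : W // ∀ b ∈ B, ρ b w = w} ≤ Nat.card ↥A * Nat.card {w : W // ∀ a ∈ A, ρ a w = w} := by
  -- notation
  set X : AddSubgroup V := fixedAdd ρ A with hX
  set Z : AddSubgroup V := fixedAdd ρ B with hZ
  set Y : AddSubgroup V := W.toAddSubgroup ⊓ fixedAdd ρ B with hY
  set T : AddSubgroup V := W.toAddSubgroup ⊓ fixedAdd ρ A with hT
  have cX : Nat.card {v : V // ∀ a ∈ A, ρ a v = v} = Nat.card ↥X := rfl
  have cZ : Nat.card {v : V // ∀ b ∈ B, ρ b v = v} = Nat.card ↥Z := rfl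
  have cY : Nat.card {w : W // ∀ b ∈ B, ρ b w = w} = Nat.card ↥Y :=
    Nat.card_congr (Equiv.subtypeSubtypeEquivSubtypeInter (fun v : V => v ∈ W)
      (fun v : V => ∀ b ∈ B, ρ b v = v))
  have cT : Nat.card {w : W // ∀ a ∈ A, ρ a w = w} = Nat.card ↥T :=
    Nat.card_congr (Equiv.subtypeSubtypeEquivSubtypeInter (fun v : V => v ∈ W)
      (fun v : V => ∀ a ∈ A, ρ a v = v))
  rw [cY, cT]
  have hXZ : X ≤ Z := fun v hv b hb => hv b (hBA hb)
  have hYZ : Y ≤ Z := inf_le_right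
  have hsup : X ⊔ Y ≤ Z := sup_le hXZ hYZ
  have hinf : X ⊓ Y = T := by
    ext v
    constructor
    · rintro ⟨hx, hw, -⟩
      exact ⟨hw, hx⟩
    · rintro ⟨hw, hx⟩
      exact ⟨hx, hw, hXZ hx⟩
  have hcard := card_sup_mul_card_inf X Y
  rw [hinf] at hcard
  have hle : Nat.card ↥(X ⊔ Y) ≤ Nat.card ↥Z := Nat.card_mono (Set.toFinite _) hsup
  have hPB := hP B hBA
  rw [cX, cZ] at hPB
  have hXpos : 0 < Nat.card ↥X := Nat.card_pos
  -- |B| * |Y| * |X| = |B| * |X ⊔ Y| * |T| ≤ |B| * |Z| * |T| ≤ |A| * |X| * |T|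
  have key : Nat.card ↥B * Nat.card ↥Y * Nat.card ↥X ≤ Nat.card ↥A * Nat.card ↥T * Nat.card ↥X := by
    calc Nat.card ↥B * Nat.card ↥Y * Nat.card ↥X
        = Nat.card ↥B * (Nat.card ↥X * Nat.card ↥Y) := by ring
      _ = Nat.card ↥B * (Nat.card ↥(X ⊔ Y) * Nat.card ↥T) := by rw [hcard]
      _ ≤ Nat.card ↥B * (Nat.card ↥Z * Nat.card ↥T) :=
          Nat.mul_le_mul_left _ (Nat.mul_le_mul_right _ hle)
      _ = (Nat.card ↥B * Nat.card ↥Z) * Nat.card ↥T := by ring
      _ ≤ (Nat.card ↥A * Nat.card ↥X) * Nat.card ↥T := Nat.mul_le_mul_right _ hPB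
      _ = Nat.card ↥A * Nat.card ↥T * Nat.card ↥X := by ring
  exact Nat.le_of_mul_le_mul_right key hXpos

end Cfsg.Agent.S3087
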