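import Cfsg.Statements.S3103
import Cfsg.Agent.Lib.helper57.ElemAbAut
import Cfsg.Agent.Lib.helper14.PConstrained

set_option autoImplicit false
open Cfsg

namespace Cfsg.Agent.S3103

open scoped commutatorElement

/-- Let X be a finite 2-constrained group with no nontrivial normal subgroup of odd order such that O₂(X) has sectional 2-rank at most 4. Then X/O₂(X) is isomorphic to a subgroup of the alternating group of degree 8. -/
theorem result {X : Type*} [Group X] [Finite X] (hc : Cfsg.IsPConstrained 2 X) (hO : Cfsg.oddCore X = ⊥)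
    (h4 : Cfsg.SectionalPRankLE 2 4 ↥(Cfsg.pCore 2 X)) :
    ∃ f : X ⧸ Cfsg.pCore 2 X →* ↥(alternatingGroup (Fin 8)), Function.Injective f := by
  classical
  have : Fact (Nat.Prime 2) := ⟨Nat.prime_two⟩
  have hQp : IsPGroup 2 (Cfsg.pCore 2 X) := Cfsg.Agent.Lib.helper55.pCore_isPGroup 2 X
  have hpp : Cfsg.pPrimePCore 2 X = Cfsg.pCore 2 X :=
    Cfsg.Agent.Lib.helper14.pPrimePCore_eq_pCore_of 2 hO
  have hCQ : Subgroup.centralizer ((Cfsg.pCore 2 X : Subgroup X) : Set X) ≤ Cfsg.pCore 2 X := by
    obtain ⟨P⟩ : Nonempty (Sylow 2 ↥(Cfsg.pPrimePCore 2 X)) := inferInstance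
    have h1 := hc P
    have hp2 : IsPGroup 2 ↥(Cfsg.pPrimePCore 2 X) := by
      rw [hpp]
      exact hQp
    have hPtop : (P : Subgroup ↥(Cfsg.pPrimePCore 2 X)) = ⊤ :=
      (P.is_maximal' (IsPGroup.to_subgroup hp2 ⊤) le_top).symm
    rw [hPtop, ← MonoidHom.range_eq_map, Subgroup.range_subtype] at h1
    rw [hpp] at h1
    exact h1
  have hcard : Nat.card (↥(Cfsg.pCore 2 X) ⧸ frattini ↥(Cfsg.pCore 2 X)) ≤ 16 := by
    have hsurj : Function.Surjective (⊤ : Subgroup ↥(Cfsg.pCore 2 X)).subtype :=
      fun y => ⟨⟨y, Subgroup.mem_top y⟩, rfl⟩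
    have h5 := h4 ⊤ ((frattini ↥(Cfsg.pCore 2 X)).comap
      (⊤ : Subgroup ↥(Cfsg.pCore 2 X)).subtype) ⊤ ?_ ?_
    · rw [Subgroup.card_top, ← Subgroup.index_eq_card,
        Subgroup.index_comap_of_surjective _ hsurj, Subgroup.index_eq_card] at h5
      exact h5
    · refine ⟨⟨?_⟩⟩
      rintro ⟨a, -⟩ ⟨b, -⟩
      apply Subtype.ext
      show a * b = b * a
      induction a using QuotientGroup.induction_on with
      | H x =>
        induction b using QuotientGroup.induction_on with
        | H y =>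
          rw [← QuotientGroup.mk_mul, ← QuotientGroup.mk_mul, QuotientGroup.eq]
          rw [Subgroup.mem_comap]
          apply Cfsg.Agent.Lib.helper3.commutator_le_frattini hQp
          have h6 : (⊤ : Subgroup ↥(Cfsg.pCore 2 X)).subtype ((x * y)⁻¹ * (y * x)) =
              ⁅((y : ↥(Cfsg.pCore 2 X)))⁻¹, ((x : ↥(Cfsg.pCore 2 X)))⁻¹⁆ := by
            rw [commutatorElement_def]
            simp only [map_mul, map_inv, Subgroup.coe_subtype, inv_inv]
            group
          rw [h6, commutator_def]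
          exact Subgroup.commutator_mem_commutator (Subgroup.mem_top _) (Subgroup.mem_top _)
    · rintro a -
      induction a using QuotientGroup.induction_on with
      | H x =>
        rw [← QuotientGroup.mk_pow]
        refine (QuotientGroup.eq_one_iff _).mpr ?_
        rw [Subgroup.mem_comap, map_pow]
        exact Cfsg.Agent.Lib.helper3.pow_prime_mem_frattini hQp _
  exact Cfsg.Agent.Lib.helper57.exists_injective_quotient_alt8 (Cfsg.pCore 2 X) hQp hCQ
    (fun N hN hNp => Cfsg.Agent.Lib.helper55.le_pCore hN hNp) hcard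

end Cfsg.Agent.S3103
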