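import Cfsg.Statements.S3104
import Cfsg.Agent.S3103
import Cfsg.Agent.S2553
import Cfsg.Agent.Lib.helper61.Perm8B
import Cfsg.Agent.Lib.helper61.R4Part2

set_option autoImplicit false
open Cfsg

namespace Cfsg.Agent.S3104

open Cfsg.Agent.Lib.helper61
open scoped commutatorElement

/-- `GL_3(2)` is isomorphic to `PSL_3(2)`. -/
theorem gl3_equiv_psl3 :
    Nonempty (Matrix.GeneralLinearGroup (Fin 3) (ZMod 2) ≃*
      Matrix.ProjectiveSpecialLinearGroup (Fin 3) (ZMod 2)) := by
  classical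
  have htoGL : Function.Bijective (Matrix.SpecialLinearGroup.toGL :
      Matrix.SpecialLinearGroup (Fin 3) (ZMod 2) →* Matrix.GeneralLinearGroup (Fin 3) (ZMod 2)) := by
    refine ⟨Matrix.SpecialLinearGroup.toGL_injective, fun A => ?_⟩
    have hdet : (A : Matrix (Fin 3) (Fin 3) (ZMod 2)).det = 1 := by
      have hu : IsUnit (A : Matrix (Fin 3) (Fin 3) (ZMod 2)).det :=
        (Matrix.isUnit_iff_isUnit_det _).mp A.isUnit
      revert hu
      generalize (A : Matrix (Fin 3) (Fin 3) (ZMod 2)).det = x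
      revert x
      decide
    exact ⟨⟨A.1, hdet⟩, Units.ext rfl⟩
  have hcenter : Subgroup.center (Matrix.SpecialLinearGroup (Fin 3) (ZMod 2)) = ⊥ := by
    rw [eq_bot_iff]
    intro A hA
    rw [Matrix.SpecialLinearGroup.mem_center_iff] at hA
    obtain ⟨r, hr, hA⟩ := hA
    have h0 : ∀ r : ZMod 2, r ^ Fintype.card (Fin 3) = 1 → r = 1 := by decide
    have h1 : r = 1 := h0 r hr
    subst h1
    rw [Subgroup.mem_bot]
    apply Subtype.ext
    rw [← hA]
    simp
  let q : Matrix.SpecialLinearGroup (Fin 3) (ZMod 2) →*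
      Matrix.ProjectiveSpecialLinearGroup (Fin 3) (ZMod 2) := QuotientGroup.mk' _
  have hq : Function.Bijective q := by
    refine ⟨?_, QuotientGroup.mk'_surjective _⟩
    rw [← MonoidHom.ker_eq_bot_iff, QuotientGroup.ker_mk', hcenter]
  exact ⟨(MulEquiv.ofBijective _ htoGL).symm.trans (MulEquiv.ofBijective q hq)⟩

/-- `A_5` has no nontrivial normal 3-subgroup. -/
theorem no3_A5 (N : Subgroup (alternatingGroup (Fin 5))) (hN : N.Normal) (hp : IsPGroup 3 N) :
    N = ⊥ := by
  have hp3 : Fact (Nat.Prime 3) := ⟨by norm_num⟩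
  rcases hN.eq_bot_or_eq_top with h | h
  · exact h
  · exfalso
    obtain ⟨n, hn⟩ := IsPGroup.iff_card.mp hp
    rw [h, Subgroup.card_top, nat_card_alternatingGroup, Nat.card_fin] at hn
    have h60 : (5 : ℕ).factorial / 2 = 60 := by decide
    rw [h60] at hn
    have h5 : 5 ∣ 3 ^ n := by
      rw [← hn]
      norm_num
    have := Nat.Prime.dvd_of_dvd_pow (by norm_num : Nat.Prime 5) h5
    omega

/-- `S_5` has no nontrivial normal 3-subgroup. -/
theorem no3_S5 (N : Subgroup (Equiv.Perm (Fin 5))) (hN : N.Normal) (hp : IsPGroup 3 N) :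
    N = ⊥ := by
  have hle : N ≤ alternatingGroup (Fin 5) := by
    intro σ hσ
    rw [Equiv.Perm.mem_alternatingGroup]
    obtain ⟨k, hk⟩ := hp ⟨σ, hσ⟩
    have h1 : σ ^ 3 ^ k = 1 := congrArg Subtype.val hk
    have h2 : Equiv.Perm.sign σ ^ 3 ^ k = 1 := by rw [← map_pow, h1, map_one]
    rcases Int.units_eq_one_or (Equiv.Perm.sign σ) with h | h
    · exact h
    · rw [h, Odd.neg_one_pow (Odd.pow (by decide))] at h2
      exact absurd h2 (by decide)
  have h1 : N.subgroupOf (alternatingGroup (Fin 5)) = ⊥ := by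
    apply no3_A5 _ (Subgroup.Normal.subgroupOf hN _)
    rintro ⟨x, hx⟩
    obtain ⟨k, hk⟩ := hp ⟨x.1, hx⟩
    refine ⟨k, ?_⟩
    have h1 : ((x : alternatingGroup (Fin 5)) : Equiv.Perm (Fin 5)) ^ 3 ^ k = 1 := by
      have h0 := congrArg Subtype.val hk
      simpa using h0
    apply Subtype.ext
    apply Subtype.ext
    simpa using h1
  rw [eq_bot_iff]
  intro σ hσ
  have h2 : (⟨σ, hle hσ⟩ : alternatingGroup (Fin 5)) ∈ N.subgroupOf (alternatingGroup (Fin 5)) :=
    Subgroup.mem_subgroupOf.mpr hσ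
  rw [h1, Subgroup.mem_bot] at h2
  rw [Subgroup.mem_bot]
  exact congrArg Subtype.val h2

/-- If `K` is a normal subgroup of order 3 with `G / K` having no nontrivial normal
3-subgroup, then `O_3(G) = K`. -/
theorem pCore3_eq {G : Type*} [Group G] (K : Subgroup G) [hK : K.Normal] (hK3 : Nat.card K = 3)
    {T : Type*} [Group T] (φ : G ⧸ K ≃* T)
    (hT : ∀ N : Subgroup T, N.Normal → IsPGroup 3 N → N = ⊥) : Cfsg.pCore 3 G = K := by
  have hp3 : Fact (Nat.Prime 3) := ⟨by norm_num⟩
  apply le_antisymm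
  · intro x hx
    have hPn : (Cfsg.pCore 3 G).Normal := inferInstance
    have hPp : IsPGroup 3 (Cfsg.pCore 3 G) := Cfsg.Agent.Lib.helper55.pCore_isPGroup 3 G
    let ψ : G →* T := φ.toMonoidHom.comp (QuotientGroup.mk' K)
    have hψ : Function.Surjective ψ := φ.surjective.comp (QuotientGroup.mk'_surjective K)
    have h1 : (Cfsg.pCore 3 G).map ψ = ⊥ :=
      hT _ (Subgroup.Normal.map hPn ψ hψ) (hPp.map ψ)
    have h2 : ψ x ∈ (Cfsg.pCore 3 G).map ψ := Subgroup.mem_map_of_mem ψ hx
    rw [h1, Subgroup.mem_bot] at h2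
    have h3 : (QuotientGroup.mk' K) x = 1 := by
      apply φ.injective
      rw [map_one]
      exact h2
    exact (QuotientGroup.eq_one_iff x).mp h3
  · apply Cfsg.Agent.Lib.helper55.le_pCore hK
    exact IsPGroup.of_card (n := 1) (by rw [hK3, pow_one])

/-- Let X be a finite nonsolvable 2-constrained group with no nontrivial normal subgroup of odd order such that O₂(X) has sectional 2-rank at most 4, and write Q for X/O₂(X). Then Q is isomorphic to the projective special linear group of dimension 3 over the field with 2 elements, to an alternating group of degree n with 5 ≤ n ≤ 8, to a symmetric group of degree n with 5 ≤ n ≤ 7, or else O₃(Q) has order 3 and Q/O₃(Q) is isomorphic to the alternating or the symmetric group of degree 5 (so Q is the direct product of a group of order 3 with the alternating group of degree 5, or an extension of that direct product by a group of order 2). If moreover X itself has sectional 2-rank at most 4, then Q is not isomorphic to the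 symmetric group of degree 6 or 7 nor to the alternating group of degree 8. -/
theorem result {X : Type*} [Group X] [Finite X] (hns : ¬ Group.IsSolvable X) (hc : Cfsg.IsPConstrained 2 X) (hO : Cfsg.oddCore X = ⊥)
    (h4 : Cfsg.SectionalPRankLE 2 4 ↥(Cfsg.pCore 2 X)) :
    ((∃ (F : Type) (_ : Field F) (_ : Fintype F), Fintype.card F = 2 ∧
          Nonempty (X ⧸ Cfsg.pCore 2 X ≃* Matrix.ProjectiveSpecialLinearGroup (Fin 3) F)) ∨
        (∃ n : ℕ, 5 ≤ n ∧ n ≤ 8 ∧ Nonempty (X ⧸ Cfsg.pCore 2 X ≃* ↥(alternatingGroup (Fin n)))) ∨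
        (∃ n : ℕ, 5 ≤ n ∧ n ≤ 7 ∧ Nonempty (X ⧸ Cfsg.pCore 2 X ≃* Equiv.Perm (Fin n))) ∨
        (Nat.card ↥(Cfsg.pCore 3 (X ⧸ Cfsg.pCore 2 X)) = 3 ∧
          (Nonempty ((X ⧸ Cfsg.pCore 2 X) ⧸ Cfsg.pCore 3 (X ⧸ Cfsg.pCore 2 X) ≃* ↥(alternatingGroup (Fin 5))) ∨
            Nonempty ((X ⧸ Cfsg.pCore 2 X) ⧸ Cfsg.pCore 3 (X ⧸ Cfsg.pCore 2 X) ≃* Equiv.Perm (Fin 5))))) ∧
      (Cfsg.SectionalPRankLE 2 4 X →
        ¬ (Nonempty (X ⧸ Cfsg.pCore 2 X ≃* Equiv.Perm (Fin 6)) ∨ Nonempty (X ⧸ Cfsg.pCore 2 X ≃* Equiv.Perm (Fin 7)) ∨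
            Nonempty (X ⧸ Cfsg.pCore 2 X ≃* ↥(alternatingGroup (Fin 8))))) := by
  classical
  have hp2 : Fact (Nat.Prime 2) := ⟨Nat.prime_two⟩
  have hQp : IsPGroup 2 (Cfsg.pCore 2 X) := Cfsg.Agent.Lib.helper55.pCore_isPGroup 2 X
  have hpp : Cfsg.pPrimePCore 2 X = Cfsg.pCore 2 X :=
    Cfsg.Agent.Lib.helper14.pPrimePCore_eq_pCore_of 2 hO
  have hCQ : Subgroup.centralizer ((Cfsg.pCore 2 X : Subgroup X) : Set X) ≤ Cfsg.pCore 2 X := by
    obtain ⟨P⟩ : Nonempty (Sylow 2 ↥(Cfsg.pPrimePCore 2 X)) := inferInstance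
    have h1 := hc P
    have hp2' : IsPGroup 2 ↥(Cfsg.pPrimePCore 2 X) := by
      rw [hpp]
      exact hQp
    have hPtop : (P : Subgroup ↥(Cfsg.pPrimePCore 2 X)) = ⊤ :=
      (P.is_maximal' (IsPGroup.to_subgroup hp2' ⊤) le_top).symm
    rw [hPtop, ← MonoidHom.range_eq_map, Subgroup.range_subtype] at h1
    rw [hpp] at h1
    exact h1
  have hcard : Nat.card (↥(Cfsg.pCore 2 X) ⧸ frattini ↥(Cfsg.pCore 2 X)) ≤ 16 := by
    have hsurj : Function.Surjective (⊤ : Subgroup ↥(Cfsg.pCore 2 X)).subtype :=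
      fun y => ⟨⟨y, Subgroup.mem_top y⟩, rfl⟩
    have h5 := h4 ⊤ ((frattini ↥(Cfsg.pCore 2 X)).comap
      (⊤ : Subgroup ↥(Cfsg.pCore 2 X)).subtype) ⊤ ?_ ?_
    · rw [Subgroup.card_top, ← Subgroup.index_eq_card,
        Subgroup.index_comap_of_surjective _ hsurj, Subgroup.index_eq_card] at h5
      exact h5
    · refine ⟨⟨?_⟩⟩
      rintro ⟨a, -⟩ ⟨b, -⟩
      apply Subtype.ext
      show a * b = b * a
      induction a using QuotientGroup.induction_on with
      | H x =>
        induction b using QuotientGroup.induction_on with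
        | H y =>
          rw [← QuotientGroup.mk_mul, ← QuotientGroup.mk_mul, QuotientGroup.eq]
          rw [Subgroup.mem_comap]
          apply Cfsg.Agent.Lib.helper3.commutator_le_frattini hQp
          have h6 : (⊤ : Subgroup ↥(Cfsg.pCore 2 X)).subtype ((x * y)⁻¹ * (y * x)) =
              ⁅((y : ↥(Cfsg.pCore 2 X)))⁻¹, ((x : ↥(Cfsg.pCore 2 X)))⁻¹⁆ := by
            rw [commutatorElement_def]
            simp only [map_mul, map_inv, Subgroup.coe_subtype, inv_inv]
            group
          rw [h6, commutator_def]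
          exact Subgroup.commutator_mem_commutator (Subgroup.mem_top _) (Subgroup.mem_top _)
    · rintro a -
      induction a using QuotientGroup.induction_on with
      | H x =>
        rw [← QuotientGroup.mk_pow]
        refine (QuotientGroup.eq_one_iff _).mpr ?_
        rw [Subgroup.mem_comap, map_pow]
        exact Cfsg.Agent.Lib.helper3.pow_prime_mem_frattini hQp _
  have hmax : ∀ N : Subgroup X, N.Normal → IsPGroup 2 N → N ≤ Cfsg.pCore 2 X :=
    fun N hN hNp => Cfsg.Agent.Lib.helper55.le_pCore hN hNp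
  constructor
  · -- the list
    obtain ⟨f, hf⟩ := Cfsg.Agent.S3103.result hc hO h4
    have hnsb : ¬ Group.IsSolvable (X ⧸ Cfsg.pCore 2 X) := by
      intro hs
      apply hns
      have hnil : Group.IsNilpotent (Cfsg.pCore 2 X) := hQp.isNilpotent
      have hsolQ : Group.IsSolvable (Cfsg.pCore 2 X) := inferInstance
      exact Group.isSolvable_of_ker_le_range (Cfsg.pCore 2 X).subtype
        (QuotientGroup.mk' (Cfsg.pCore 2 X)) (by simp)
    have hN2 : ∀ N : Subgroup (X ⧸ Cfsg.pCore 2 X), N.Normal → IsPGroup 2 N → N = ⊥ := by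
      intro N hN hNp
      rw [eq_bot_iff]
      intro y hy
      obtain ⟨r, rfl⟩ := QuotientGroup.mk'_surjective (Cfsg.pCore 2 X) y
      have hRn : (N.comap (QuotientGroup.mk' (Cfsg.pCore 2 X))).Normal := hN.comap _
      have hRp : IsPGroup 2 (N.comap (QuotientGroup.mk' (Cfsg.pCore 2 X))) := by
        rintro ⟨c, hc⟩
        obtain ⟨j, hj⟩ := hNp ⟨QuotientGroup.mk' _ c, hc⟩
        have h1 : (QuotientGroup.mk' (Cfsg.pCore 2 X) c) ^ 2 ^ j = 1 := congrArg Subtype.val hj
        rw [← map_pow, QuotientGroup.mk'_apply, QuotientGroup.eq_one_iff] at h1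
        obtain ⟨i, hi⟩ := hQp ⟨_, h1⟩
        refine ⟨j + i, ?_⟩
        apply Subtype.ext
        have h2 : ((c : X) ^ (2 ^ j)) ^ (2 ^ i) = 1 := congrArg Subtype.val hi
        rw [Subgroup.coe_pow, Subgroup.coe_one, pow_add, pow_mul]
        exact h2
      have hle := hmax _ hRn hRp
      rw [Subgroup.mem_bot, QuotientGroup.mk'_apply, QuotientGroup.eq_one_iff]
      exact hle hy
    let ι : X ⧸ Cfsg.pCore 2 X →* Equiv.Perm (Fin 8) := (alternatingGroup (Fin 8)).subtype.comp f
    have hι : Function.Injective ι := Subtype.val_injective.comp hf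
    have hιA : ∀ x, ι x ∈ alternatingGroup (Fin 8) := fun x => (f x).2
    by_cases h5 : 5 ∣ Nat.card (X ⧸ Cfsg.pCore 2 X)
    · rcases Perm8B.permB ι hι hιA hnsb h5 with (h | h | h) | ⟨K, hKn, hK3, hK⟩
      · right; left
        exact h
      · right; right; left
        exact ⟨5, le_refl 5, by norm_num, h⟩
      · right; right; left
        exact ⟨6, by norm_num, by norm_num, h⟩
      · right; right; right
        rcases hK with ⟨⟨φ⟩⟩ | ⟨⟨φ⟩⟩
        · have hPK : Cfsg.pCore 3 (X ⧸ Cfsg.pCore 2 X) = K := pCore3_eq K hK3 φ no3_A5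
          refine ⟨by rw [hPK]; exact hK3, Or.inl ⟨?_⟩⟩
          exact (QuotientGroup.quotientMulEquivOfEq hPK).trans φ
        · have hPK : Cfsg.pCore 3 (X ⧸ Cfsg.pCore 2 X) = K := pCore3_eq K hK3 φ no3_S5
          refine ⟨by rw [hPK]; exact hK3, Or.inr ⟨?_⟩⟩
          exact (QuotientGroup.quotientMulEquivOfEq hPK).trans φ
    · have hcardX : Nat.card (X ⧸ Cfsg.pCore 2 X) ∣ 20160 := by
        have h1 := Subgroup.card_subgroup_dvd_card f.range
        have h3 : Nat.card (alternatingGroup (Fin 8)) = 20160 := by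
          rw [nat_card_alternatingGroup, Nat.card_fin]
          decide
        rwa [← Nat.card_congr (MonoidHom.ofInjective hf).toEquiv, h3] at h1
      have h7 : 7 ∣ Nat.card (X ⧸ Cfsg.pCore 2 X) := by
        by_contra h7
        apply hnsb
        obtain ⟨a, b, hab⟩ := Cfsg.Agent.S2553.two_three_of_dvd hcardX h5 h7
        exact Cfsg.Agent.S0144.result 2 3 a b Nat.prime_two Nat.prime_three hab
      obtain ⟨e⟩ := Cfsg.Agent.S2553.gl42_equiv_a8
      let f' : X ⧸ Cfsg.pCore 2 X →* Matrix.GeneralLinearGroup (Fin 4) (ZMod 2) :=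
        e.symm.toMonoidHom.comp f
      have hf' : Function.Injective f' := e.symm.injective.comp hf
      let H : Subgroup (Matrix.GeneralLinearGroup (Fin 4) (ZMod 2)) := f'.range
      let eH : X ⧸ Cfsg.pCore 2 X ≃* H := MonoidHom.ofInjective hf'
      let _act : DistribMulAction H (Fin 4 → ZMod 2) := Cfsg.Agent.S2551.act H
      have _faith : FaithfulSMul H (Fin 4 → ZMod 2) := Cfsg.Agent.S2551.act_faithful H
      have hV : Fintype.card (Fin 4 → ZMod 2) = 16 := by
        rw [Fintype.card_fun, ZMod.card, Fintype.card_fin]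
        norm_num
      have h2 : ∀ x : Fin 4 → ZMod 2, x + x = 0 := by
        intro x
        funext i
        show x i + x i = 0
        exact CharTwo.add_self_eq_zero (x i)
      have hN2H : ∀ N : Subgroup H, N.Normal → IsPGroup 2 N → N = ⊥ := by
        intro N hN hNp
        have h1 : N.comap eH.toMonoidHom = ⊥ := by
          apply hN2 _ (hN.comap _)
          exact hNp.comap_of_injective eH.toMonoidHom eH.injective
        rw [eq_bot_iff]
        intro y hy
        obtain ⟨x, rfl⟩ := eH.surjective y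
        have h2' : x ∈ N.comap eH.toMonoidHom := hy
        rw [h1, Subgroup.mem_bot] at h2'
        rw [h2', map_one]
        exact Subgroup.mem_bot.mpr rfl
      have hnsH : ¬ Group.IsSolvable H := fun h =>
        hnsb (Group.isSolvable_of_isSolvable_injective (f := eH.toMonoidHom) eH.injective)
      have hp7 : Fact (Nat.Prime 7) := ⟨by norm_num⟩
      obtain ⟨g, hg⟩ := exists_prime_orderOf_dvd_card' 7 h7
      have hg' : orderOf (eH g) = 7 := by
        rw [← hg]
        exact orderOf_injective eH.toMonoidHom eH.injective g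
      rcases GL3Rec.linA hV h2 hN2H hnsH (eH g) hg' with h | h
      · left
        obtain ⟨e3⟩ := h
        obtain ⟨e4⟩ := gl3_equiv_psl3
        exact ⟨ZMod 2, inferInstance, inferInstance, ZMod.card 2, ⟨(eH.trans e3).trans e4⟩⟩
      · exfalso
        apply h5
        rw [Nat.card_congr eH.toEquiv]
        exact h
  · -- sectional rank
    intro hsec hiso
    have hsecC := Cfsg.Agent.Lib.helper68.secRkC_of_sectional 4 hsec
    have key : ∀ j : Equiv.Perm (Fin 6) →* X ⧸ Cfsg.pCore 2 X, Function.Injective j → False :=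
      fun j hj => R4Part2.part2 (Cfsg.pCore 2 X) hQp hCQ hmax hcard j hj hsecC
    rcases hiso with ⟨⟨φ⟩⟩ | ⟨⟨φ⟩⟩ | ⟨⟨φ⟩⟩
    · exact key φ.symm.toMonoidHom φ.symm.injective
    · obtain ⟨j7, hj7⟩ := S6Cfg.exists_emb7
      exact key (φ.symm.toMonoidHom.comp j7) (φ.symm.injective.comp hj7)
    · obtain ⟨j8, hj8⟩ := S6Cfg.exists_emb8
      exact key (φ.symm.toMonoidHom.comp j8) (φ.symm.injective.comp hj8)

end Cfsg.Agent.S3104
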