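import Cfsg.Statements.S3153
import Cfsg.Agent.S1307
import Cfsg.Agent.Lib.helper28.Standard
import Cfsg.Agent.Lib.helper28.StdLayer
import Cfsg.Agent.Lib.helper28.KLIso
import Cfsg.Agent.Lib.helper27.PComp
import Cfsg.Agent.Lib.helper40.Cores2

set_option autoImplicit false
open Cfsg

namespace Cfsg.Agent.S3153

open Cfsg.Agent.Lib.helper28
open scoped commutatorElement

/-- An involution of a subgroup `K` of 2-rank at most 1 commutes with every 2-subgroup
normalizing `K` that contains it. -/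
theorem involution_central_of_rank_one {G : Type*} [Group G] [Finite G] (K S' : Subgroup G)
    (hS' : IsPGroup 2 ↥S') (hSK : S' ≤ Subgroup.normalizer (K : Set G)) (hr : PRankLE 2 1 ↥K)
    (t : G) (ht : orderOf t = 2) (htK : t ∈ K) (htS : t ∈ S') : ∀ s ∈ S', s * t = t * s := by
  have : Fact (Nat.Prime 2) := ⟨Nat.prime_two⟩
  have ht2 : t ^ 2 = 1 := by rw [← ht]; exact pow_orderOf_eq_one t
  have ht1 : t ≠ 1 := by
    intro h; rw [h, orderOf_one] at ht; norm_num at ht
  have hQ2 : IsPGroup 2 ↥(K ⊓ S') := hS'.to_le inf_le_right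
  have htQ : t ∈ K ⊓ S' := Subgroup.mem_inf.mpr ⟨htK, htS⟩
  have hQnt : Nontrivial ↥(K ⊓ S') := ⟨⟨⟨t, htQ⟩, 1, fun h => ht1 (congrArg Subtype.val h)⟩⟩
  have hcn : Nontrivial (Subgroup.center ↥(K ⊓ S')) := hQ2.center_nontrivial
  have h2dvd : 2 ∣ Nat.card (Subgroup.center ↥(K ⊓ S')) := by
    obtain ⟨k, hk⟩ := (hQ2.to_subgroup (Subgroup.center _)).exists_card_eq
    have hk0 : k ≠ 0 := by
      rintro rfl
      rw [pow_zero] at hk
      exact absurd hk (Finite.one_lt_card_iff_nontrivial.mpr hcn).ne'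
    rw [hk]
    exact dvd_pow_self 2 hk0
  obtain ⟨zc, hzc⟩ := exists_prime_orderOf_dvd_card' 2 h2dvd
  obtain ⟨z, hzdef⟩ : ∃ z : G, z = ((zc : ↥(K ⊓ S')) : G) := ⟨_, rfl⟩
  have hzo : orderOf z = 2 := by rw [hzdef, Subgroup.orderOf_coe, Subgroup.orderOf_coe, hzc]
  have hz1 : z ≠ 1 := by
    intro h; rw [h, orderOf_one] at hzo; norm_num at hzo
  have hz2 : z ^ 2 = 1 := by rw [← hzo]; exact pow_orderOf_eq_one z
  have hzQ : z ∈ K ⊓ S' := by rw [hzdef]; exact (zc : ↥(K ⊓ S')).2
  have hzcomm : ∀ q ∈ K ⊓ S', z * q = q * z := by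
    intro q hq
    have h0 := Subgroup.mem_center_iff.mp zc.2 ⟨q, hq⟩
    rw [hzdef]
    exact (congrArg Subtype.val h0).symm
  have huniq : ∀ u ∈ K ⊓ S', u ≠ 1 → u ^ 2 = 1 → u = z := by
    intro u hu hu1 hu2
    have h0 := Cfsg.Agent.S1307.eq_of_pRankLE hr (⟨z, hzQ.1⟩ : ↥K)
      (fun h => hz1 (congrArg Subtype.val h)) (Subtype.ext hz2) ⟨u, hu.1⟩
      (Subtype.ext (hzcomm u hu)) (fun h => hu1 (congrArg Subtype.val h)) (Subtype.ext hu2)
    exact congrArg Subtype.val h0
  have htz : t = z := huniq t htQ ht1 ht2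
  intro s hs
  have hsn := hSK hs
  have h1 : s * t * s⁻¹ ∈ K := (Subgroup.mem_normalizer_iff.mp hsn t).mp htK
  have h2 : s * t * s⁻¹ ∈ S' := mul_mem (mul_mem hs htS) (inv_mem hs)
  have h3 : s * t * s⁻¹ = z := huniq _ (Subgroup.mem_inf.mpr ⟨h1, h2⟩)
    (by
      intro h
      apply ht1
      have e : t = s⁻¹ * (s * t * s⁻¹) * s := by group
      rw [e, h]; group)
    (by rw [conj_pow, ht2]; group)
  rw [← htz] at h3
  calc s * t = (s * t * s⁻¹) * s := by group
    _ = t * s := by rw [h3]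

/-- Let X be a finite group and P a standard subgroup of X whose centralizer has 2-rank at most 1 and whose centre has odd order. Let S be a Sylow 2-subgroup of N_X(P) and t an involution of S centralizing P. Suppose some element g of X normalizes S, does not lie in S, has its square in S, and conjugates t into P·C_X(P). Then P commutes elementwise with the largest normal odd-order subgroup O(X) of X; consequently every t-invariant 2-component of X containing P is quasisimple. -/
theorem result {X : Type*} [Group X] [Finite X] (P : Subgroup X) (hP : Cfsg.IsStandardSubgroup P)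
    (hr : Cfsg.PRankLE 2 1 ↥(Subgroup.centralizer (P : Set X))) (hZ : Odd (Nat.card ↥(Subgroup.center ↥P)))
    (S : Sylow 2 ↥(Subgroup.normalizer (P : Set X))) (t : X) (ht : orderOf t = 2) (htS : t ∈ (S : Subgroup ↥(Subgroup.normalizer (P : Set X))).map (Subgroup.normalizer (P : Set X)).subtype)
    (htP : t ∈ Subgroup.centralizer (P : Set X))
    (g : X) (hgN : ∀ s ∈ (S : Subgroup ↥(Subgroup.normalizer (P : Set X))).map (Subgroup.normalizer (P : Set X)).subtype, g * s * g⁻¹ ∈ (S : Subgroup ↥(Subgroup.normalizer (P : Set X))).map (Subgroup.normalizer (P : Set X)).subtype)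
    (hgS : g ∉ (S : Subgroup ↥(Subgroup.normalizer (P : Set X))).map (Subgroup.normalizer (P : Set X)).subtype) (hg2 : g ^ 2 ∈ (S : Subgroup ↥(Subgroup.normalizer (P : Set X))).map (Subgroup.normalizer (P : Set X)).subtype)
    (hgt : g * t * g⁻¹ ∈ P ⊔ Subgroup.centralizer (P : Set X)) :
    ⁅P, Cfsg.oddCore X⁆ = ⊥ ∧
      ∀ L : Subgroup X, Cfsg.IsPComponent 2 L → P ≤ L → (∀ l ∈ L, t * l * t⁻¹ ∈ L) → Cfsg.IsQuasisimple ↥L := by
  have : Fact (Nat.Prime 2) := ⟨Nat.prime_two⟩
  obtain ⟨hqs, hte, hconj, hnorm⟩ := hP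
  obtain ⟨S', hS'def⟩ : ∃ S' : Subgroup X, S' =
      (S : Subgroup ↥(Subgroup.normalizer (P : Set X))).map
        (Subgroup.normalizer (P : Set X)).subtype := ⟨_, rfl⟩
  rw [← hS'def] at htS hgN hgS hg2
  have hS'2 : IsPGroup 2 ↥S' := by rw [hS'def]; exact S.isPGroup'.map _
  have hS'N : S' ≤ Subgroup.normalizer (P : Set X) := by
    rw [hS'def]; exact Subgroup.map_subtype_le _
  have ht2 : t ^ 2 = 1 := by rw [← ht]; exact pow_orderOf_eq_one t
  have htt : t * t = 1 := by rw [← pow_two]; exact ht2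
  have ht1 : t ≠ 1 := by
    intro h; rw [h, orderOf_one] at ht; norm_num at ht
  have htc : ∀ a ∈ P, a * t = t * a := Subgroup.mem_centralizer_iff.mp htP
  -- `g` does not normalize `P`
  have hgN' : g ∉ Subgroup.normalizer (P : Set X) := by
    intro hgmem
    apply hgS
    have hgn : g ∈ Subgroup.normalizer (S' : Set X) := by
      apply Cfsg.Agent.Lib.helper40.mem_normalizer_of_map_conj_le
      rintro _ ⟨s, hs, rfl⟩
      exact hgN s hs
    have hg2' : ∃ j : ℕ, g ^ 2 ^ j = 1 := by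
      obtain ⟨j, hj⟩ := pow_two_of_mem_isPGroup hS'2 hg2
      exact ⟨j + 1, by rw [pow_succ', pow_mul]; exact hj⟩
    have hzp : IsPGroup 2 ↥(Subgroup.zpowers g) := isPGroup_zpowers_of_pow hg2'
    have hQ : IsPGroup 2 ↥(S' ⊔ Subgroup.zpowers g) :=
      IsPGroup.to_sup_of_normal_left' hS'2 hzp (Subgroup.zpowers_le.mpr hgn)
    have hQ' : IsPGroup 2 ↥((S' ⊔ Subgroup.zpowers g).subgroupOf
        (Subgroup.normalizer (P : Set X))) := hQ.comap_subtype
    have hle : (S : Subgroup ↥(Subgroup.normalizer (P : Set X))) ≤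
        (S' ⊔ Subgroup.zpowers g).subgroupOf (Subgroup.normalizer (P : Set X)) := by
      intro s hs
      rw [Subgroup.mem_subgroupOf]
      apply Subgroup.mem_sup_left
      rw [hS'def]
      exact Subgroup.mem_map_of_mem _ hs
    have heq := S.is_maximal' hQ' hle
    have hgQ : (⟨g, hgmem⟩ : ↥(Subgroup.normalizer (P : Set X))) ∈
        (S' ⊔ Subgroup.zpowers g).subgroupOf (Subgroup.normalizer (P : Set X)) := by
      rw [Subgroup.mem_subgroupOf]
      exact Subgroup.mem_sup_right (Subgroup.mem_zpowers g)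
    rw [heq] at hgQ
    rw [hS'def]
    exact ⟨⟨g, hgmem⟩, hgQ, rfl⟩
  obtain ⟨t', ht'def⟩ : ∃ t' : X, t' = g * t * g⁻¹ := ⟨_, rfl⟩
  rw [← ht'def] at hgt
  have ht'o : orderOf t' = 2 := by
    rw [ht'def]
    have h3 : orderOf (g * t * g⁻¹) = orderOf t :=
      orderOf_injective (MulAut.conj g).toMonoidHom (MulAut.conj g).injective t
    rw [h3, ht]
  have ht'2 : t' ^ 2 = 1 := by rw [← ht'o]; exact pow_orderOf_eq_one t'
  have ht't' : t' * t' = 1 := by rw [← pow_two]; exact ht'2
  have ht'1 : t' ≠ 1 := by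
    intro h; rw [h, orderOf_one] at ht'o; norm_num at ht'o
  have ht'K : t' ∉ Subgroup.centralizer (P : Set X) := by
    intro h
    apply hgN'
    rw [hnorm]
    exact mem_normalizer_of_conj_mem_tightlyEmbedded hte ht htP (by rw [← ht'def]; exact h)
  have hne : t ≠ t' := by
    intro h
    apply ht'K
    rw [← h]; exact htP
  have ht'S : t' ∈ S' := by rw [ht'def]; exact hgN t htS
  have hS'K : S' ≤ Subgroup.normalizer ((Subgroup.centralizer (P : Set X) : Subgroup X) : Set X) := by
    rw [← hnorm]; exact hS'N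
  have hcomm : t * t' = t' * t :=
    (involution_central_of_rank_one _ S' hS'2 hS'K hr t ht htP htS t' ht'S).symm
  -- decompose `t' = p * k`
  obtain ⟨p, hp, k, hk, hpk⟩ := Cfsg.Agent.Lib.helper40.exists_mul_of_mem_sup_of_commute
    (fun a ha b hb => Subgroup.mem_centralizer_iff.mp hb a ha) hgt
  have hkc : ∀ a ∈ P, a * k = k * a := Subgroup.mem_centralizer_iff.mp hk
  have hpt : p * t = t * p := htc p hp
  have hkt : k * t = t * k := by
    have e : k = p⁻¹ * t' := by rw [hpk]; group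
    have hpinv : p⁻¹ * t = t * p⁻¹ := by
      calc p⁻¹ * t = p⁻¹ * (t * p) * p⁻¹ := by group
        _ = p⁻¹ * (p * t) * p⁻¹ := by rw [hpt]
        _ = t * p⁻¹ := by group
    rw [e]
    calc p⁻¹ * t' * t = p⁻¹ * (t' * t) := by rw [mul_assoc]
      _ = p⁻¹ * (t * t') := by rw [hcomm]
      _ = (p⁻¹ * t) * t' := by rw [mul_assoc]
      _ = (t * p⁻¹) * t' := by rw [hpinv]
      _ = t * (p⁻¹ * t') := by rw [mul_assoc]
  have hkk : k * k = (p * p)⁻¹ := by
    have h1 : (p * k) * (p * k) = 1 := by rw [← hpk]; exact ht't'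
    have h2 : (p * k) * (p * k) = (p * p) * (k * k) := by
      calc (p * k) * (p * k) = p * (k * p) * k := by group
        _ = p * (p * k) * k := by rw [hkc p hp]
        _ = (p * p) * (k * k) := by group
    rw [h2] at h1
    exact eq_inv_of_mul_eq_one_right h1
  have hkkP : k * k ∈ P := by rw [hkk]; exact inv_mem (mul_mem hp hp)
  have hkkc : (⟨k * k, hkkP⟩ : ↥P) ∈ Subgroup.center ↥P := by
    rw [Subgroup.mem_center_iff]
    intro x
    apply Subtype.ext
    show (x : X) * (k * k) = (k * k) * x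
    have hx := hkc x x.2
    calc (x : X) * (k * k) = (x * k) * k := by rw [mul_assoc]
      _ = (k * x) * k := by rw [hx]
      _ = k * (x * k) := by rw [mul_assoc]
      _ = k * (k * x) := by rw [hx]
      _ = (k * k) * x := by rw [mul_assoc]
  obtain ⟨j, hj⟩ := hZ
  have hkm : (k * k) ^ (2 * j + 1) = 1 := by
    have h0 := pow_card_eq_one' (x := (⟨⟨k * k, hkkP⟩, hkkc⟩ : ↥(Subgroup.center ↥P)))
    rw [hj] at h0
    exact congrArg (fun x : ↥(Subgroup.center ↥P) => ((x : ↥P) : X)) h0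
  have hk2sq : k ^ (2 * j + 1) * k ^ (2 * j + 1) = 1 := by
    rw [← pow_add, show 2 * j + 1 + (2 * j + 1) = 2 * (2 * j + 1) by ring, pow_mul, pow_two]
    exact hkm
  have hz₀ : k ^ (2 * j + 2) ∈ P := by
    have e : k ^ (2 * j + 2) = (k * k) ^ (j + 1) := by
      rw [← pow_two, ← pow_mul, show 2 * (j + 1) = 2 * j + 2 by ring]
    rw [e]; exact pow_mem hkkP _
  have hsucc : k ^ (2 * j + 2) = k ^ (2 * j + 1) * k := pow_succ k (2 * j + 1)
  have hk₂K : k ^ (2 * j + 1) ∈ Subgroup.centralizer (P : Set X) := pow_mem hk _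
  have hk₂t : k ^ (2 * j + 1) * t = t * k ^ (2 * j + 1) :=
    (Commute.pow_left (show Commute k t from hkt) _).eq
  obtain ⟨d, hdP, hdd⟩ : ∃ d ∈ P, d = t' ∨ d = t * t' := by
    by_cases hk₂ : k ^ (2 * j + 1) = 1
    · have hkP : k ∈ P := by
        have e : k = k ^ (2 * j + 2) := by rw [hsucc, hk₂, one_mul]
        rw [e]; exact hz₀
      exact ⟨t', by rw [hpk]; exact mul_mem hp hkP, Or.inl rfl⟩
    · have h0 := Cfsg.Agent.S1307.eq_of_pRankLE hr
        (⟨t, htP⟩ : ↥(Subgroup.centralizer (P : Set X)))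
        (fun h => ht1 (congrArg Subtype.val h)) (Subtype.ext ht2) ⟨k ^ (2 * j + 1), hk₂K⟩
        (Subtype.ext hk₂t.symm) (fun h => hk₂ (congrArg Subtype.val h))
        (Subtype.ext (by rw [pow_two]; exact hk2sq))
      have hk₂t' : k ^ (2 * j + 1) = t := congrArg Subtype.val h0
      refine ⟨t * t', ?_, Or.inr rfl⟩
      have e : k ^ (2 * j + 2) = t * k := by rw [hsucc, hk₂t']
      have e2 : t * t' = p * k ^ (2 * j + 2) := by
        rw [e, hpk]
        calc t * (p * k) = (t * p) * k := by rw [mul_assoc]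
          _ = (p * t) * k := by rw [hpt]
          _ = p * (t * k) := by rw [mul_assoc]
      rw [e2]; exact mul_mem hp hz₀
  have hdo : orderOf d = 2 := by
    rcases hdd with hd' | hd'
    · rw [hd']; exact ht'o
    · rw [hd']
      have hd1 : t * t' ≠ 1 := by
        intro h
        apply hne
        calc t = t * (t' * t') := by rw [ht't', mul_one]
          _ = (t * t') * t' := by rw [mul_assoc]
          _ = t' := by rw [h, one_mul]
      have hd2 : (t * t') * (t * t') = 1 := by
        calc (t * t') * (t * t') = t * (t' * t) * t' := by group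
          _ = t * (t * t') * t' := by rw [hcomm]
          _ = (t * t) * (t' * t') := by group
          _ = 1 := by rw [htt, ht't', mul_one]
      exact orderOf_eq_prime (by rw [pow_two]; exact hd2) hd1
  have hPeven : Even (Nat.card ↥P) := by
    rw [even_iff_two_dvd, ← hdo]
    exact Subgroup.orderOf_dvd_natCard _ hdP
  have hdc : ¬ ∀ x ∈ P, d * x = x * d := by
    intro hcen
    have hdcen : (⟨d, hdP⟩ : ↥P) ∈ Subgroup.center ↥P := by
      rw [Subgroup.mem_center_iff]
      intro x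
      exact Subtype.ext (hcen x x.2).symm
    have ho : orderOf (⟨⟨d, hdP⟩, hdcen⟩ : ↥(Subgroup.center ↥P)) = 2 := by
      rw [← Subgroup.orderOf_coe, ← Subgroup.orderOf_coe]; exact hdo
    have hdvd : 2 ∣ Nat.card ↥(Subgroup.center ↥P) := by
      rw [← ho]; exact orderOf_dvd_natCard _
    omega
  -- `P` centralizes the core
  have hWn : (pPrimeCore 2 X).Normal := Cfsg.Agent.Lib.helper40.pPrimeCore_normal' 2 X
  have hWodd : Odd (Nat.card ↥(pPrimeCore 2 X)) :=
    Nat.coprime_two_right.mp (Cfsg.Agent.Lib.helper40.pPrimeCore_card_coprime 2 X)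
  have hW1 : pPrimeCore 2 X ⊓ Subgroup.centralizer {t} ≤ Subgroup.normalizer (P : Set X) := by
    intro w hw
    have hwt : w * t = t * w := Subgroup.mem_centralizer_singleton_iff.mp hw.2
    rw [hnorm]
    exact mem_normalizer_of_tightlyEmbedded hte ht htP hwt
  have hW2 : Nat.card ↥(pPrimeCore 2 X ⊓ Subgroup.centralizer {t'}) =
      Nat.card ↥(pPrimeCore 2 X ⊓ Subgroup.centralizer {t}) := by
    rw [ht'def]
    exact card_inf_centralizer_conj (pPrimeCore 2 X) g t
  have hPW : P ≤ Subgroup.centralizer (pPrimeCore 2 X : Set X) :=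
    le_centralizer_of_four_group P (pPrimeCore 2 X) hqs hPeven hWodd t t' d ht ht'o hne
      hcomm htP hW1 hW2 hdP hdd hdc
  refine ⟨Subgroup.commutator_eq_bot_iff_le_centralizer.mpr hPW, ?_⟩
  intro L hL hPL _
  have hPperf : ⁅P, P⁆ = P := Subgroup.isPerfect_iff.mp hqs.1
  have hCn : (Subgroup.centralizer (pPrimeCore 2 X : Set X)).Normal := inferInstance
  have hCbn : ((Subgroup.centralizer (pPrimeCore 2 X : Set X)).map
      (QuotientGroup.mk' (pPrimeCore 2 X))).Normal :=
    hCn.map _ (QuotientGroup.mk'_surjective _)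
  have hLC : L ≤ Subgroup.centralizer (pPrimeCore 2 X : Set X) := by
    apply Cfsg.Agent.Lib.helper40.IsPComponent.le_of_map_le_map hL hCn.isSubnormal
    rcases Cfsg.Agent.Lib.helper40.component_le_or_commutator_eq_bot hL.2.1
      ((Subgroup.centralizer (pPrimeCore 2 X : Set X)).map
        (QuotientGroup.mk' (pPrimeCore 2 X))) with h1 | h1
    · exact h1
    · exfalso
      have h2 : ⁅P.map (QuotientGroup.mk' (pPrimeCore 2 X)),
          P.map (QuotientGroup.mk' (pPrimeCore 2 X))⁆ ≤ ⊥ := by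
        rw [← h1]
        exact Subgroup.commutator_mono (Subgroup.map_mono hPL) (Subgroup.map_mono hPW)
      rw [← Subgroup.map_commutator, hPperf, le_bot_iff, Subgroup.map_eq_bot_iff,
        QuotientGroup.ker_mk'] at h2
      have h3 : Nat.card ↥P ∣ Nat.card ↥(pPrimeCore 2 X) := Subgroup.card_dvd_of_le h2
      exact (Nat.not_even_iff_odd.mpr (Odd.of_dvd_nat hWodd h3)) hPeven
  rw [Cfsg.Agent.Lib.helper27.IsPComponent.isQuasisimple_iff 2 hL,
    Cfsg.Agent.Lib.helper27.map_pPrimeCore_subnormal_eq 2 hL.1,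
    Subgroup.commutator_eq_bot_iff_le_centralizer]
  exact hLC.trans (Subgroup.centralizer_le (by
    intro x hx
    exact (Subgroup.mem_inf.mp hx).1))

end Cfsg.Agent.S3153
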