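import Mathlib
import Cfsg.Statements.S3155

set_option autoImplicit false
open Cfsg

namespace Cfsg.Agent.S3155

theorem sq_ne_neg_one_zmod4 : ∀ d : ZMod 4, d * d ≠ -1 := by decide

theorem no_sqrt_neg_one (g : (ZMod 4 × ZMod 4 × ZMod 4) →ₗ[ZMod 4] (ZMod 4 × ZMod 4 × ZMod 4))
    (hg : ∀ x, g (g x) = -x) : False := by
  have h1 : g ∘ₗ g = (-1 : ZMod 4) • (LinearMap.id : (ZMod 4 × ZMod 4 × ZMod 4) →ₗ[ZMod 4] _) := by
    ext <;> simp [hg]
  have h2 := congrArg LinearMap.det h1
  rw [LinearMap.det_comp, LinearMap.det_smul, LinearMap.det_id] at h2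
  have : Fact (1 < 4) := ⟨by norm_num⟩
  have : Nontrivial (ZMod 4) := ZMod.nontrivial 4
  have h3 : Module.finrank (ZMod 4) (ZMod 4 × ZMod 4 × ZMod 4) = 3 := by
    rw [Module.finrank_prod, Module.finrank_prod, Module.finrank_self]
  rw [h3] at h2
  exact sq_ne_neg_one_zmod4 _ (h2.trans (by decide))

/-- In the automorphism group of Z4 × Z4 × Z4, the automorphism inverting every element is not the square of any automorphism. -/
theorem result {B : Type*} [CommGroup B] [Finite B] (hB : Nonempty (B ≃* Multiplicative (ZMod 4 × ZMod 4 × ZMod 4)))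
    (τ : B ≃* B) : τ.trans τ ≠ MulEquiv.inv B := by
  obtain ⟨e⟩ := hB
  intro h
  have hτ : ∀ b : B, τ (τ b) = b⁻¹ := by
    intro b
    have := congrArg (fun f => f b) h
    simpa using this
  let σ : Multiplicative (ZMod 4 × ZMod 4 × ZMod 4) →* Multiplicative (ZMod 4 × ZMod 4 × ZMod 4) :=
    (e.toMonoidHom.comp τ.toMonoidHom).comp e.symm.toMonoidHom
  have hσ : ∀ x, σ (σ x) = x⁻¹ := by
    intro x
    simp [σ, hτ]
  let f : (ZMod 4 × ZMod 4 × ZMod 4) →+ (ZMod 4 × ZMod 4 × ZMod 4) := AddMonoidHom.toMultiplicative.symm σ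
  have hf : ∀ x, f (f x) = -x := by
    intro x
    have := hσ (Multiplicative.ofAdd x)
    exact this
  exact no_sqrt_neg_one (f.toZModLinearMap 4) hf

end Cfsg.Agent.S3155
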