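import Mathlib
import Cfsg.Statements.S3156
import Cfsg.Agent.Lib.helper58.SU3Aut
-- import your own Cfsg.Agent.* helpers here

set_option autoImplicit false
open Cfsg

namespace Cfsg.Agent.S3156

open Cfsg.Agent.Lib.helper58 Cfsg.Agent.Lib.helper7

theorem exists_ne_ne {α : Type*} [Finite α] (h : 2 < Nat.card α) (a b : α) :
    ∃ y, y ≠ a ∧ y ≠ b := by
  classical
  by_contra hcon
  push Not at hcon
  have : Fintype α := Fintype.ofFinite α
  have hsub : (Finset.univ : Finset α) ⊆ {a, b} := by
    intro y _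
    by_cases hy : y = a
    · simp [hy]
    · simp [hcon y hy]
  have h3 := Finset.card_le_card hsub
  rw [Finset.card_univ, ← Nat.card_eq_fintype_card] at h3
  have h4 := Finset.card_le_two (a := a) (b := b)
  omega

theorem card_fixed_mod_three {α : Type*} [Fintype α] [DecidableEq α] (f : α → α)
    (hf : ∀ x, f (f (f x)) = x) :
    Fintype.card α % 3 = Fintype.card (Function.fixedPoints f) % 3 := by
  have : Fact (Nat.Prime 3) := ⟨by norm_num⟩
  let f' : Function.End α := f
  have h1 : f' ^ 3 ^ 1 = 1 := by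
    rw [pow_one, pow_succ, pow_succ, pow_one]
    funext x
    exact hf x
  exact Equiv.Perm.card_fixedPoints_modEq (f := f') (p := 3) (n := 1) h1

/-- A map of order dividing 3 on a finite set of size `≡ 2 mod 3` has two fixed points. -/
theorem exists_two_fixed {α : Type*} [Fintype α] [DecidableEq α] (f : α → α)
    (hf : ∀ x, f (f (f x)) = x) (hcard : Fintype.card α % 3 = 2) :
    ∃ x y, x ≠ y ∧ f x = x ∧ f y = y := by
  have h2 := card_fixed_mod_three f hf
  have h3 : 1 < Fintype.card (Function.fixedPoints f) := by omega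
  obtain ⟨x, y, hxy⟩ := Fintype.one_lt_card_iff.mp h3
  exact ⟨x.1, y.1, fun h => hxy (Subtype.ext h), x.2, y.2⟩

variable {F : Type*} [Field F] [Fintype F] {G : Type*} [Group G]

/-- (B): an automorphism of order dividing 3 fixing the centre pointwise is trivial. -/
theorem aut_cube_eq_one (hF : Fintype.card F = 4 ^ 2) (h2 : (2 : F) = 0) (c : UCoord G F 4)
    (φ : MulAut G) (h3 : ∀ g, φ (φ (φ g)) = g) (hφ : ∀ z ∈ Subgroup.center G, φ z = z) :
    ∀ g, φ g = g := by
  classical
  have hL : ∀ g, c.autL hF h2 φ (c.fst g) = c.fst (φ g) := c.autL_fst hF h2 φ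
  have hLLL : ∀ a, c.autL hF h2 φ (c.autL hF h2 φ (c.autL hF h2 φ a)) = a := by
    intro a
    obtain ⟨g, rfl⟩ := c.exists_fst_eq hF h2 a
    rw [hL, hL, hL, h3]
  have hNL : ∀ a, c.autL hF h2 φ a * c.autL hF h2 φ a ^ 4 = a * a ^ 4 := by
    intro a
    obtain ⟨g, rfl⟩ := c.exists_fst_eq hF h2 a
    rw [hL]
    exact c.norm_fst_map hF h2 φ hφ g
  -- two fixed points in each fibre of the norm
  have hfib : ∀ k : F, k ≠ 0 → k ^ 4 = k → ∃ a a' : F, a ≠ a' ∧ a * a ^ 4 = k ∧ a' * a' ^ 4 = k ∧
      c.autL hF h2 φ a = a ∧ c.autL hF h2 φ a' = a' := by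
    intro k hk0 hk
    let f : {a : F // a * a ^ 4 = k} → {a : F // a * a ^ 4 = k} :=
      fun a => ⟨c.autL hF h2 φ a.1, by rw [hNL]; exact a.2⟩
    have hcard : Fintype.card {a : F // a * a ^ 4 = k} % 3 = 2 := by
      rw [Fintype.card_subtype, card_norm_fiber hF k hk0 hk]
    obtain ⟨x, y, hxy, hx, hy⟩ := exists_two_fixed f (fun a => Subtype.ext (hLLL a.1)) hcard
    exact ⟨x.1, y.1, fun h => hxy (Subtype.ext h), x.2, y.2, congrArg Subtype.val hx,
      congrArg Subtype.val hy⟩
  -- two nonzero elements of the fixed field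
  have hK : Nat.card (traceHom hF).ker = 4 := card_ker_traceHom hF h2
  have hKfin : Finite (traceHom hF).ker := Nat.finite_of_card_ne_zero (by omega)
  obtain ⟨k1, hk1, -⟩ := exists_ne_ne (by omega : 2 < Nat.card (traceHom hF).ker) 0 0
  obtain ⟨k2, hk2, hk21⟩ := exists_ne_ne (by omega : 2 < Nat.card (traceHom hF).ker) 0 k1
  have hk1' : (k1 : F) ^ 4 = k1 := (mem_ker_traceHom hF h2 _).mp k1.2
  have hk2' : (k2 : F) ^ 4 = k2 := (mem_ker_traceHom hF h2 _).mp k2.2
  have hk10 : (k1 : F) ≠ 0 := fun h => hk1 (Subtype.ext h)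
  have hk20 : (k2 : F) ≠ 0 := fun h => hk2 (Subtype.ext h)
  have hk12 : (k2 : F) ≠ k1 := fun h => hk21 (Subtype.ext h)
  obtain ⟨a1, a1', ha1, hN1, hN1', hf1, hf1'⟩ := hfib k1 hk10 hk1'
  obtain ⟨a2, a2', ha2, hN2, hN2', hf2, hf2'⟩ := hfib k2 hk20 hk2'
  -- the fixed-point subgroup
  let M : F →+ F := c.autL hF h2 φ + AddMonoidHom.id F
  have hM : ∀ a, a ∈ M.ker ↔ c.autL hF h2 φ a = a := by
    intro a
    constructor
    · intro ha
      have h1 : c.autL hF h2 φ a + a = 0 := ha
      linear_combination h1 - a * h2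
    · intro ha
      show c.autL hF h2 φ a + a = 0
      rw [ha]; linear_combination a * h2
  have hdvd : Nat.card M.ker ∣ 16 := by
    have := AddSubgroup.card_addSubgroup_dvd_card M.ker
    rwa [Nat.card_eq_fintype_card (α := F), hF] at this
  have hmod : Nat.card M.ker % 3 = 1 := by
    have h1 := card_fixed_mod_three (c.autL hF h2 φ) hLLL
    rw [hF] at h1
    have h5 : Fintype.card (Function.fixedPoints (c.autL hF h2 φ)) = Nat.card M.ker := by
      rw [← Nat.card_eq_fintype_card]
      exact Nat.card_congr (Equiv.subtypeEquivRight (fun a => (hM a).symm))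
    omega
  have hne0 : ∀ a k : F, k ≠ 0 → a * a ^ 4 = k → a ≠ 0 := by
    rintro a k hk ha rfl
    exact hk (by rw [← ha]; ring)
  have hge : 5 ≤ Nat.card M.ker := by
    have hs : ({0, a1, a1', a2, a2'} : Finset F) ⊆ Finset.univ.filter (fun a => a ∈ M.ker) := by
      intro a ha
      simp only [Finset.mem_insert, Finset.mem_singleton] at ha
      simp only [Finset.mem_filter, Finset.mem_univ, true_and]
      rcases ha with rfl | rfl | rfl | rfl | rfl
      · exact M.ker.zero_mem
      · exact (hM _).mpr hf1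
      · exact (hM _).mpr hf1'
      · exact (hM _).mpr hf2
      · exact (hM _).mpr hf2'
    have h12 : a1 ≠ a2 := fun h => hk12 (by rw [← hN2, ← hN1, h])
    have h12' : a1 ≠ a2' := fun h => hk12 (by rw [← hN2', ← hN1, h])
    have h1'2 : a1' ≠ a2 := fun h => hk12 (by rw [← hN2, ← hN1', h])
    have h1'2' : a1' ≠ a2' := fun h => hk12 (by rw [← hN2', ← hN1', h])
    have hcard5 : ({0, a1, a1', a2, a2'} : Finset F).card = 5 := by
      rw [Finset.card_insert_of_notMem, Finset.card_insert_of_notMem,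
        Finset.card_insert_of_notMem, Finset.card_pair ha2]
      · simp only [Finset.mem_insert, Finset.mem_singleton, not_or]
        exact ⟨h1'2, h1'2'⟩
      · simp only [Finset.mem_insert, Finset.mem_singleton, not_or]
        exact ⟨ha1, h12, h12'⟩
      · simp only [Finset.mem_insert, Finset.mem_singleton, not_or]
        exact ⟨(hne0 _ _ hk10 hN1).symm, (hne0 _ _ hk10 hN1').symm, (hne0 _ _ hk20 hN2).symm,
          (hne0 _ _ hk20 hN2').symm⟩
    calc 5 = _ := hcard5.symm
      _ ≤ (Finset.univ.filter (fun a => a ∈ M.ker)).card := Finset.card_le_card hs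
      _ = Nat.card M.ker := by rw [Nat.card_eq_fintype_card, Fintype.card_subtype]
  have h16 : Nat.card M.ker = 16 := by
    have hle : Nat.card M.ker ≤ 16 := Nat.le_of_dvd (by norm_num) hdvd
    interval_cases (Nat.card M.ker) <;> omega
  have htop : M.ker = ⊤ := by
    apply AddSubgroup.eq_top_of_card_eq
    rw [h16, Nat.card_eq_fintype_card, hF]; norm_num
  have hLid : ∀ a, c.autL hF h2 φ a = a := fun a => (hM a).mp (by rw [htop]; trivial)
  have hsq : ∀ g, φ (φ g) = g := by
    intro g
    have hw : g⁻¹ * φ g ∈ Subgroup.center G := by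
      rw [c.mem_center_iff hF h2, c.fst_mul, c.fst_inv, ← hL, hLid]; ring
    have h5 : φ g = g * (g⁻¹ * φ g) := by group
    have h6 : φ (φ g) = φ g * (g⁻¹ * φ g) := by
      conv_lhs => rw [h5, map_mul, hφ _ hw]
    rw [h6]
    have h7 := c.center_sq_eq_one hF h2 _ hw
    have h8 : ∀ x : G, x * (g⁻¹ * x) = g * (g⁻¹ * x) ^ 2 := fun x => by rw [pow_two]; group
    rw [h8, h7, mul_one]
  intro g
  have := h3 g
  rw [hsq] at this
  exact this

/-- If a finite group T is isomorphic to a Sylow 2-subgroup of the projective special unitary group of dimension 3 with parameter 4 (realised over the field with 16 elements), then no subgroup of the automorphism group of T is isomorphic to the symmetric group of degree 3. -/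
theorem result {T : Type*} [Group T] [Finite T] (hT : (∃ (F : Type) (_ : Field F) (_ : Fintype F), Fintype.card F = 16 ∧ ∃ S : Sylow 2 (Cfsg.PSU 3 F 4), Nonempty (T ≃* ↥(S : Subgroup (Cfsg.PSU 3 F 4))))) (H : Subgroup (MulAut T)) : ¬ Nonempty (↥H ≃* Equiv.Perm (Fin 3)) := by
  obtain ⟨F, _, _, hF, S, ⟨e⟩⟩ := hT
  have hF' : Fintype.card F = 4 ^ 2 := by rw [hF]; norm_num
  have h2 : (2 : F) = 0 := two_eq_zero_of_even hF' (by decide)
  obtain ⟨c0⟩ := exists_ucoord_of_sylow_PSU hF' h2 S
  let c : UCoord T F 4 := c0.congr e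
  rintro ⟨f⟩
  have hA : ∀ φ : MulAut T, φ * φ = 1 → ∀ z ∈ Subgroup.center T, φ z = z := by
    intro φ hφ z hz
    apply c.aut_fixes_center hF' h2 φ _ z hz
    intro g
    have h1 : (φ * φ) g = g := by rw [hφ]; rfl
    rw [show φ (φ g) = g from h1]
  let x : H := f.symm (Equiv.swap 0 1)
  let y : H := f.symm (Equiv.swap 1 2)
  have hx : x * x = 1 := by
    show f.symm _ * f.symm _ = 1
    rw [← map_mul, Equiv.swap_mul_self, map_one]
  have hy : y * y = 1 := by
    show f.symm _ * f.symm _ = 1
    rw [← map_mul, Equiv.swap_mul_self, map_one]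
  have hx' : (x : MulAut T) * (x : MulAut T) = 1 := congrArg Subtype.val hx
  have hy' : (y : MulAut T) * (y : MulAut T) = 1 := congrArg Subtype.val hy
  have hρ3 : (x * y) * (x * y) * (x * y) = 1 := by
    show (f.symm _ * f.symm _) * (f.symm _ * f.symm _) * (f.symm _ * f.symm _) = 1
    rw [← map_mul, ← map_mul, ← map_mul]
    have h1 : (Equiv.swap (0 : Fin 3) 1 * Equiv.swap 1 2) * (Equiv.swap (0 : Fin 3) 1 * Equiv.swap 1 2)
        * (Equiv.swap (0 : Fin 3) 1 * Equiv.swap 1 2) = 1 := by decide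
    rw [h1, map_one]
  have hρ : ∀ g : T, ((x * y : H) : MulAut T) g = g := by
    apply aut_cube_eq_one hF' h2 c
    · intro g
      have h1 : (((x * y) * (x * y) * (x * y) : H) : MulAut T) g = g := by rw [hρ3]; rfl
      exact h1
    · intro z hz
      show (x : MulAut T) ((y : MulAut T) z) = z
      rw [hA _ hy' z hz, hA _ hx' z hz]
  have hxy : x * y = 1 := by
    apply Subtype.ext
    ext g
    exact hρ g
  have h5 : Equiv.swap (0 : Fin 3) 1 * Equiv.swap 1 2 = 1 := by
    have h6 := congrArg f hxy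
    rw [map_mul, map_one] at h6
    simpa [x, y] using h6
  exact absurd h5 (by decide)

end Cfsg.Agent.S3156
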