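import Mathlib
import Cfsg.Agent.Lib.helper17.S3174FIX
import Cfsg.Agent.Lib.helper17.S3174GEN
import Cfsg.Agent.Lib.helper17.S3174MB2
import Cfsg.Agent.Lib.helper17.S3174UCS
import Cfsg.Agent.Lib.helper39.S3174FP
import Cfsg.Agent.Lib.helper39.S3174HYP
import Cfsg.Agent.Lib.helper39.S3174NZ
import Cfsg.Agent.Lib.helper4.S3174CEN
import Cfsg.Agent.Lib.helper4.S3174DIH
import Cfsg.Agent.Lib.helper4.S3174EL
import Cfsg.Agent.Lib.helper43.S3174FIN
import Cfsg.Agent.Lib.helper43.S3174FRAT
import Cfsg.Agent.Lib.helper43.S3174MB1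
import Cfsg.Agent.Lib.helper82.S3174CYC
import Cfsg.Agent.Lib.helper82.S3174DSUB
import Cfsg.Agent.Lib.helper92.S3174ACT1
import Cfsg.Agent.Lib.helper92.S3174ACT2
import Cfsg.Agent.Lib.helper92.S3174SQ

set_option autoImplicit false
set_option maxHeartbeats 1000000

namespace Cfsg.Agent.S3174

open Cfsg.Agent.Lib.helper17.S3174
open Cfsg.Agent.Lib.helper39.S3174
open Cfsg.Agent.Lib.helper4.S3174
open Cfsg.Agent.Lib.helper43.S3174
open Cfsg.Agent.Lib.helper82.S3174
open Cfsg.Agent.Lib.helper92.S3174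




private lemma card_inf_le_aux {T : Type*} [Group T] [Finite T] (W Z3 Z4 : Subgroup T) (h34 : Z3 ≤ Z4)
    (hc : Nat.card ↥Z4 = 2 * Nat.card ↥Z3) : Nat.card ↥(W ⊓ Z4) ≤ 2 * Nat.card ↥(W ⊓ Z3) := by
  have e1 : W ⊓ Z3 = Z3 ⊓ (W ⊓ Z4) := by
    apply le_antisymm
    · exact le_inf inf_le_right (inf_le_inf_left W h34)
    · exact le_inf (inf_le_right.trans inf_le_left) inf_le_left
  have key : ∀ H K : Subgroup T, H ≤ K → H.relIndex K * Nat.card ↥H = Nat.card ↥K := by
    intro H K hHK
    have := Subgroup.relIndex_mul_relIndex ⊥ H K bot_le hHK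
    rw [Subgroup.relIndex_bot_left, Subgroup.relIndex_bot_left] at this
    rw [mul_comm]; exact this
  have h1 : (W ⊓ Z3).relIndex (W ⊓ Z4) * Nat.card ↥(W ⊓ Z3) = Nat.card ↥(W ⊓ Z4) :=
    key _ _ (inf_le_inf_left W h34)
  have h2 : Z3.relIndex Z4 * Nat.card ↥Z3 = Nat.card ↥Z4 := key _ _ h34
  have h3 : Z3.relIndex Z4 = 2 := by
    have hpos : 0 < Nat.card ↥Z3 := Nat.card_pos
    rw [hc] at h2
    exact Nat.eq_of_mul_eq_mul_right hpos h2
  have h4 : (W ⊓ Z3).relIndex (W ⊓ Z4) ≤ Z3.relIndex Z4 := by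
    rw [e1, Subgroup.inf_relIndex_right]
    exact Subgroup.relIndex_le_of_le_right inf_le_right (by rw [h3]; norm_num)
  rw [← h1]
  exact Nat.mul_le_mul_right _ (h4.trans h3.le)

/-- Let T be a finite 2-group of order at least 2^14 in which the fourth term of the upper central series has order 16. Let W be the centralizer in T of the third term Z₃(T), and suppose the Frattini subgroup of W has order at most 8 and lies in every subgroup of W of index at most 16. Then T has order exactly 2^14; the derived subgroup of W and the Frattini subgroup of W both equal Z₃(T), which is elementary abelian of order 8; the centre of W has order 8; W is normal in T with quotient dihedral of order 8; and W modulo its derived subgroup is elementary abelian of order 2^8. -/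
theorem result {T : Type*} [Group T] [Finite T]
    (hT : IsPGroup 2 T) (ha : 2 ^ 14 ≤ Nat.card T) (hb : Nat.card ↥(Subgroup.upperCentralSeries T 4) = 16)
    (W : Subgroup T) (hW : W = Subgroup.centralizer ((Subgroup.upperCentralSeries T 3 : Subgroup T) : Set T))
    (hc : Nat.card ↥(frattini ↥W) ≤ 8) (hd : ∀ U : Subgroup ↥W, U.index ≤ 16 → frattini ↥W ≤ U) :
    Nat.card T = 2 ^ 14 ∧
      (commutator ↥W).map W.subtype = Subgroup.upperCentralSeries T 3 ∧
      (frattini ↥W).map W.subtype = Subgroup.upperCentralSeries T 3 ∧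
      Nat.card ↥(Subgroup.center ↥W) = 8 ∧
      Nat.card ↥(Subgroup.upperCentralSeries T 3) = 8 ∧ (∀ z ∈ Subgroup.upperCentralSeries T 3, z ^ 2 = 1) ∧
      (∃ (_ : W.Normal), Nonempty (T ⧸ W ≃* DihedralGroup 4)) ∧
      Nat.card (↥W ⧸ commutator ↥W) = 2 ^ 8 ∧ (∀ x : ↥W ⧸ commutator ↥W, x ^ 2 = 1) := by
  classical
  haveI hWn : W.Normal := by rw [hW]; infer_instance
  obtain ⟨h1, h2, h3⟩ := ucs_cards hT ha hb
  have h0 : Nat.card ↥(Subgroup.upperCentralSeries T 0) = 1 := by
    rw [Subgroup.upperCentralSeries_zero]; simp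
  have hmono : ∀ i j : ℕ, i ≤ j → Subgroup.upperCentralSeries T i ≤ Subgroup.upperCentralSeries T j :=
    fun i j h => Subgroup.upperCentralSeries_mono T h
  have hmem : ∀ (n : ℕ) (x : T), x ∈ Subgroup.upperCentralSeries T (n + 1) ↔
      ∀ y : T, x * y * x⁻¹ * y⁻¹ ∈ Subgroup.upperCentralSeries T n :=
    fun n x => Subgroup.mem_upperCentralSeries_succ_iff
  have hmem' : ∀ (n : ℕ), ∀ z ∈ Subgroup.upperCentralSeries T (n + 1), ∀ τ : T,
      τ * z * τ⁻¹ * z⁻¹ ∈ Subgroup.upperCentralSeries T n := by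
    intro n z hz τ
    have := (Subgroup.upperCentralSeries T n).inv_mem ((hmem n z).1 hz τ)
    have e : (z * τ * z⁻¹ * τ⁻¹)⁻¹ = τ * z * τ⁻¹ * z⁻¹ := by group
    rwa [e] at this
  have hcard : ∀ j : ℕ, j ≤ 4 → Nat.card ↥(Subgroup.upperCentralSeries T j) = 2 ^ j := by
    intro j hj
    interval_cases j
    · simpa using h0
    · simpa using h1
    · simpa using h2
    · simpa using h3
    · simpa using hb
  obtain ⟨hFn, hFW, hFcard, hFsq, hFcomm, hFd⟩ := frat_facts hT W hd
  have hF3 : (frattini ↥W).map W.subtype ≤ Subgroup.upperCentralSeries T 3 :=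
    normal_le_ucs hT _ 3 (by rw [hFcard]; exact hc)
  have hidx8 : W.index ≤ 8 := by rw [hW]; exact index_centralizer_le hT h1 h2 h3
  -- first module bound
  have key1 : Nat.card ↥W ≤ 2 ^ 8 * Nat.card ↥(W ⊓ Subgroup.upperCentralSeries T 3) := by
    by_cases hne : W ⊓ Subgroup.upperCentralSeries T 3 = W
    · rw [hne]; have : 0 < Nat.card ↥W := Nat.card_pos; nlinarith
    · obtain ⟨K0, hNK, hKW, hK2, hcore⟩ := exists_K0 hT W (W ⊓ Subgroup.upperCentralSeries T 3)
          (W ⊓ Subgroup.upperCentralSeries T 4) inf_le_left hne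
          (fun x hx => ⟨W.pow_mem hx 2, hF3 (hFsq x hx)⟩)
          (fun x hx y hy => ⟨hFW (hFcomm x hx y hy), hF3 (hFcomm x hx y hy)⟩)
          (inf_le_inf_left W (hmono 3 4 (by norm_num)))
          (card_inf_le_aux W _ _ (hmono 3 4 (by norm_num)) (by rw [hb, h3]))
          (fun w hw h => ⟨hw, (hmem 3 w).2 (fun y => (h y).2)⟩)
      exact card_le_of_K0 W _ K0 hidx8 inf_le_left
        (fun x hx y hy => ⟨hFW (hFcomm x hx y hy), hF3 (hFcomm x hx y hy)⟩) hNK hKW hK2 hcore
  have hn8 : Nat.card ↥(W ⊓ Subgroup.upperCentralSeries T 3) ≤ 8 := by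
    rw [← h3]; exact Subgroup.card_le_of_le inf_le_right
  have hTW : Nat.card ↥W * W.index = Nat.card T := W.card_mul_index
  have hW2048 : Nat.card ↥W ≤ 2048 := by omega
  have hidx : W.index = 8 := by
    by_contra h
    have h7 : W.index ≤ 7 := by omega
    have : Nat.card ↥W * W.index ≤ 2048 * 7 := Nat.mul_le_mul hW2048 h7
    omega
  have hWcard : Nat.card ↥W = 2048 := by rw [hidx] at hTW; omega
  have hTcard : Nat.card T = 2 ^ 14 := by rw [← hTW, hidx, hWcard]; norm_num
  have hn8' : Nat.card ↥(W ⊓ Subgroup.upperCentralSeries T 3) = 8 := by omega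
  have hZ3W : Subgroup.upperCentralSeries T 3 ≤ W := by
    have : W ⊓ Subgroup.upperCentralSeries T 3 = Subgroup.upperCentralSeries T 3 :=
      Subgroup.eq_of_le_of_card_ge inf_le_right (by rw [hn8', h3])
    rw [← this]; exact inf_le_left
  have hcenW : ∀ w ∈ W, ∀ z ∈ Subgroup.upperCentralSeries T 3, w * z = z * w := by
    intro w hw z hz
    rw [hW, Subgroup.mem_centralizer_iff] at hw
    exact (hw z hz).symm
  -- Frattini = Z3
  have hFeq : (frattini ↥W).map W.subtype = Subgroup.upperCentralSeries T 3 := by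
    by_contra hne
    have hlt : Nat.card ↥((frattini ↥W).map W.subtype) < 8 := by
      by_contra hge
      exact hne (Subgroup.eq_of_le_of_card_ge hF3 (by rw [h3]; omega))
    have hdvd : Nat.card ↥((frattini ↥W).map W.subtype) ∣ 8 := by
      rw [← h3]; exact Subgroup.card_dvd_of_le hF3
    have hj : ∃ j : ℕ, j ≤ 2 ∧ Nat.card ↥((frattini ↥W).map W.subtype) = 2 ^ j := by
      have hpos : 0 < Nat.card ↥((frattini ↥W).map W.subtype) := Nat.card_pos
      have : Nat.card ↥((frattini ↥W).map W.subtype) ∈ Nat.divisors 8 := by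
        rw [Nat.mem_divisors]; exact ⟨hdvd, by norm_num⟩
      have hdiv : Nat.divisors 8 = {1, 2, 4, 8} := by decide
      rw [hdiv] at this
      simp only [Finset.mem_insert, Finset.mem_singleton] at this
      rcases this with h | h | h | h
      · exact ⟨0, by norm_num, by rw [h]; norm_num⟩
      · exact ⟨1, by norm_num, by rw [h]; norm_num⟩
      · exact ⟨2, by norm_num, by rw [h]; norm_num⟩
      · omega
    obtain ⟨j, hj2, hjc⟩ := hj
    have hFj : (frattini ↥W).map W.subtype = Subgroup.upperCentralSeries T j :=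
      Subgroup.eq_of_le_of_card_ge (normal_le_ucs hT _ j (by rw [hjc])) (by rw [hjc, hcard j (by omega)])
    have hneW : (frattini ↥W).map W.subtype ≠ W := by
      intro h
      have : Nat.card ↥((frattini ↥W).map W.subtype) = Nat.card ↥W := by rw [h]
      omega
    obtain ⟨K0, hNK, hKW, hK2, hcore⟩ := exists_K0 hT W ((frattini ↥W).map W.subtype)
        (Subgroup.upperCentralSeries T (j + 1)) hFW hneW hFsq hFcomm
        (by rw [hFj]; exact hmono j (j + 1) (by omega))
        (by rw [hjc, hcard (j + 1) (by omega)]; rw [pow_succ]; omega)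
        (fun w hw h => (hmem j w).2 (fun y => by rw [← hFj]; exact h y))
    have := card_le_of_K0 W _ K0 hidx8 hFW hFcomm hNK hKW hK2 hcore
    rw [hjc, hWcard] at this
    have : (2:ℕ) ^ j ≤ 2 ^ 2 := Nat.pow_le_pow_right (by norm_num) hj2
    omega
  have hsqW : ∀ x ∈ W, x ^ 2 ∈ Subgroup.upperCentralSeries T 3 := by
    intro x hx; rw [← hFeq]; exact hFsq x hx
  have hcommW : ∀ x ∈ W, ∀ y ∈ W, x * y * x⁻¹ * y⁻¹ ∈ Subgroup.upperCentralSeries T 3 := by
    intro x hx y hy; rw [← hFeq]; exact hFcomm x hx y hy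
  have hFd' : ∀ U : Subgroup T, U ≤ W → Nat.card ↥W ≤ 16 * Nat.card ↥U → Subgroup.upperCentralSeries T 3 ≤ U := by
    intro U hU h; rw [← hFeq]; exact hFd U hU h
  -- commutator = Z3
  have hCle : ⁅W, W⁆ ≤ Subgroup.upperCentralSeries T 3 := by
    rw [Subgroup.commutator_le]
    intro x hx y hy
    rw [commutatorElement_def]
    exact hcommW x hx y hy
  have hCeq : ⁅W, W⁆ = Subgroup.upperCentralSeries T 3 := by
    by_contra hne
    obtain ⟨f, hf3, hfC⟩ := SetLike.exists_of_lt (lt_of_le_of_ne hCle hne)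
    obtain ⟨U, hCU, hUW, hfU, hU16⟩ := exists_small_index_avoiding W ⁅W, W⁆ (Subgroup.commutator_le_left W W |>.trans le_rfl)
      (fun x hx y hy => by
        have := Subgroup.commutator_mem_commutator hx hy
        rwa [commutatorElement_def] at this)
      (fun x hx => by
        have h8 : (x ^ 2) ^ 8 = 1 := by
          have := hsqW x hx
          have h := pow_card_eq_one' (G := ↥(Subgroup.upperCentralSeries T 3)) (x := ⟨x ^ 2, this⟩)
          rw [h3] at h
          exact congrArg Subtype.val h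
        have : x ^ 16 = 1 := by rw [show 16 = 2 * 8 from rfl, pow_mul, h8]
        rw [this]; exact Subgroup.one_mem _)
      f (hZ3W hf3) hfC
    exact hfU (hFd' U hUW hU16 hf3)
  have hZ3el : ∀ z ∈ Subgroup.upperCentralSeries T 3, z ^ 2 = 1 :=
    sq_eq_one_of_comm W _ hCeq hcenW hsqW
  have hZ3ab : ∀ x ∈ Subgroup.upperCentralSeries T 3, ∀ y ∈ Subgroup.upperCentralSeries T 3, x * y = y * x :=
    fun x hx y hy => hcenW x (hZ3W hx) y hy
  have hZ1c : ∀ z ∈ Subgroup.upperCentralSeries T 1, ∀ τ : T, τ * z = z * τ := by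
    intro z hz τ
    have := (hmem 0 z).1 hz τ
    rw [Subgroup.upperCentralSeries_zero, Subgroup.mem_bot] at this
    have e : z * τ = (z * τ * z⁻¹ * τ⁻¹) * (τ * z) := by group
    rw [e, this, one_mul]
  have hWiff : ∀ τ : T, τ ∈ W ↔ ∀ z ∈ Subgroup.upperCentralSeries T 3, τ * z = z * τ := by
    intro τ
    rw [hW, Subgroup.mem_centralizer_iff]
    constructor
    · intro h z hz; exact (h z hz).symm
    · intro h z hz; exact (h z hz).symm
  have hcommap : (commutator ↥W).map W.subtype = Subgroup.upperCentralSeries T 3 := by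
    rw [Subgroup.map_subtype_commutator]; exact hCeq
  -- the elements a, b
  obtain ⟨z₁, z₂, z₃, a, b, hz1, hz1', hz2, hz2', hz3, hz3', ha2, ha3, hb2, hb3⟩ :=
    exists_action_elts hT h1 h2 h3 (by rw [← hW]; exact hidx)
  obtain ⟨haW, hbW, haN, hbN, habN, hab4, hbfix, htfix, hrep⟩ :=
    action_consequences W (Subgroup.upperCentralSeries T 1) (Subgroup.upperCentralSeries T 2)
      (Subgroup.upperCentralSeries T 3) h1 h2 h3 (hmono 1 2 (by norm_num)) (hmono 2 3 (by norm_num))
      hZ1c (hmem' 1) (hmem' 2) hZ3el hZ3ab hWiff z₁ z₂ z₃ a b hz1 hz1' hz2 hz2' hz3 hz3' ha2 ha3 hb2 hb3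
  -- dihedral quotient
  have hdih : Nonempty (T ⧸ W ≃* DihedralGroup 4) := by
    apply dihedral_of_card_eight (P := T ⧸ W) (by rw [← Subgroup.index_eq_card]; exact hidx)
      (QuotientGroup.mk a) (QuotientGroup.mk b)
    · rw [← QuotientGroup.mk_pow, QuotientGroup.eq_one_iff]; exact haW
    · rw [← QuotientGroup.mk_pow, QuotientGroup.eq_one_iff]; exact hbW
    · rw [← QuotientGroup.mk_mul, ← QuotientGroup.mk_pow, Ne, QuotientGroup.eq_one_iff]; exact habN
  -- the center
  have hcenter : Nat.card ↥(Subgroup.center ↥W) = 8 := by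
    by_contra hne8
    have hZWn : ((Subgroup.center ↥W).map W.subtype).Normal := inferInstance
    have hZWcard : Nat.card ↥((Subgroup.center ↥W).map W.subtype) = Nat.card ↥(Subgroup.center ↥W) :=
      (Nat.card_congr ((Subgroup.center ↥W).equivMapOfInjective W.subtype W.subtype_injective).toEquiv).symm
    have hZWmem : ∀ v : T, v ∈ (Subgroup.center ↥W).map W.subtype ↔ v ∈ W ∧ ∀ w ∈ W, v * w = w * v := by
      intro v
      constructor
      · rintro ⟨c, hc, rfl⟩
        refine ⟨c.2, fun w hw => ?_⟩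
        have := Subgroup.mem_center_iff.1 hc ⟨w, hw⟩
        exact (congrArg Subtype.val this).symm
      · rintro ⟨hv, h⟩
        exact ⟨⟨v, hv⟩, Subgroup.mem_center_iff.2 (fun g => Subtype.ext (h g g.2).symm), rfl⟩
    have hZ3ZW : Subgroup.upperCentralSeries T 3 ≤ (Subgroup.center ↥W).map W.subtype :=
      fun z hz => (hZWmem z).2 ⟨hZ3W hz, fun w hw => (hcenW w hw z hz).symm⟩
    have hlt : Subgroup.upperCentralSeries T 3 < (Subgroup.center ↥W).map W.subtype :=
      lt_of_le_of_ne hZ3ZW (fun h => hne8 (by rw [← hZWcard, ← h, h3]))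
    have hZ4ZW : Subgroup.upperCentralSeries T 4 ≤ (Subgroup.center ↥W).map W.subtype :=
      z4_le_of_lt hT _ _ _ hlt (by rw [hb, h3]) (hmono 3 4 (by norm_num)) (fun v h => (hmem 3 v).2 h)
    have hneW : Subgroup.upperCentralSeries T 3 ≠ W := by
      intro h
      have : Nat.card ↥(Subgroup.upperCentralSeries T 3) = Nat.card ↥W := by rw [← h]
      omega
    obtain ⟨K0, hNK, hKW, hK2, hcore⟩ := exists_K0 hT W (Subgroup.upperCentralSeries T 3)
      (Subgroup.upperCentralSeries T 4) hZ3W hneW hsqW hcommW (hmono 3 4 (by norm_num)) (by rw [hb, h3])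
      (fun w hw h => (hmem 3 w).2 h)
    obtain ⟨w₀, hw₀, hcnot⟩ := exists_w0 W (Subgroup.upperCentralSeries T 3) K0 hZ3W hcommW hsqW hNK hKW hK2 hcore
      (by rw [hWcard, h3]; norm_num) a (a * b) hrep
    have hara : a * (a * b) * a⁻¹ * (a * b) ∈ W := by
      have e : a * (a * b) * a⁻¹ * (a * b) = a ^ 2 * b ^ 2 := by
        simp only [pow_two, mul_assoc, inv_mul_cancel_left]
      rw [e]; exact W.mul_mem haW hbW
    have hc4 := (hmem 3 _).2 (fun τ => cprime_fixed W (Subgroup.upperCentralSeries T 3) hZ3W hcommW hsqW a (a * b)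
      haW hab4 hara hrep w₀ hw₀ τ)
    have hccen := ((hZWmem _).1 (hZ4ZW hc4)).2
    have he2 := e_sq_mem W (Subgroup.upperCentralSeries T 2) (Subgroup.upperCentralSeries T 3) hZ3W
      (hmono 2 3 (by norm_num)) hcenW hcommW hsqW hZ3el (hmem' 2) a b haW hbW hbfix w₀ hw₀
    obtain ⟨D, hDW, hZD, hD, hDcard, hDsq, hDcomm⟩ := exists_D W (Subgroup.upperCentralSeries T 2)
      (Subgroup.upperCentralSeries T 3) hZ3W hcenW hcommW hsqW hZ3el ((a * b) ^ 2)
      (by rw [← pow_mul]; exact hab4) htfix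
    have hgW : w₀ * (a * w₀ * a⁻¹) ∈ W := W.mul_mem hw₀ (hWn.conj_mem _ hw₀ a)
    have heW : (w₀ * (a * w₀ * a⁻¹)) * ((a * b) * (w₀ * (a * w₀ * a⁻¹)) * (a * b)⁻¹) ∈ W :=
      W.mul_mem hgW (hWn.conj_mem _ hgW (a * b))
    obtain ⟨U, hUW, hzU, hU16⟩ := exists_bad_subgroup W (Subgroup.upperCentralSeries T 2)
      (Subgroup.upperCentralSeries T 3) D hZ3W (hmono 2 3 (by norm_num)) hcenW hcommW hZ3el ((a * b) ^ 2) htfix
      hDW hZD hD hDcard hDsq hDcomm (by rw [hWcard, h3]; norm_num) _ heW he2 hcnot hccen z₃ hz3 hz3'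
    exact hzU (hFd' U hUW hU16 hz3)
  -- quotient by commutator
  have hcomcard : Nat.card ↥(commutator ↥W) = 8 := by
    rw [← h3, ← hcommap]
    exact (Nat.card_congr ((commutator ↥W).equivMapOfInjective W.subtype W.subtype_injective).toEquiv)
  have hquot : Nat.card (↥W ⧸ commutator ↥W) = 2 ^ 8 := by
    have := Subgroup.card_eq_card_quotient_mul_card_subgroup (commutator ↥W)
    rw [hWcard, hcomcard] at this
    omega
  have hexp : ∀ x : ↥W ⧸ commutator ↥W, x ^ 2 = 1 := by
    intro x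
    induction x using QuotientGroup.induction_on with
    | H w =>
      rw [← QuotientGroup.mk_pow, QuotientGroup.eq_one_iff]
      have h : ((w ^ 2 : ↥W) : T) ∈ (commutator ↥W).map W.subtype := by
        rw [hcommap]; exact hsqW w w.2
      obtain ⟨c, hc, hce⟩ := Subgroup.mem_map.1 h
      have : c = w ^ 2 := Subtype.ext (by simpa using hce)
      rw [← this]; exact hc
  exact ⟨hTcard, hcommap, hFeq, hcenter, h3, hZ3el, ⟨hWn, hdih⟩, hquot, hexp⟩

end Cfsg.Agent.S3174
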