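import Mathlib
import Cfsg.Agent.Lib.helper17.S3175ODD
import Cfsg.Agent.Lib.helper17.S3175ODD3
import Cfsg.Agent.Lib.helper17.S3175WC
import Cfsg.Agent.Lib.helper52.S3175CONJ
import Cfsg.Agent.Lib.helper52.S3175NPC
import Cfsg.Agent.Lib.helper52.S3175ODD1
import Cfsg.Agent.Lib.helper52.S3175STEP
import Cfsg.Statements.S3175
import Cfsg.Agent.S3174
import Cfsg.Agent.Lib.helper43.S3174FRAT
import Cfsg.Agent.Lib.helper17.S3174UCS

set_option autoImplicit false
open Cfsg

namespace Cfsg.Agent.S3175

open Cfsg.Agent.Lib.helper17.S3175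
open Cfsg.Agent.Lib.helper52.S3175



/-- Let G be a finite group whose Sylow 2-subgroup T has order at least 2^14 and whose upper central series has fourth term of order 16; let W be the centralizer in T of the third term, and suppose the Frattini subgroup of W has order at most 8 and lies in every subgroup of W of index at most 16. Then the normalizer of T in G has a normal 2-complement, and W is weakly closed in T with respect to G. -/
theorem result {G : Type*} [Group G] [Finite G]
    (T : Sylow 2 G) (ha : 2 ^ 14 ≤ Nat.card ↥(T : Subgroup G))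
    (hb : Nat.card ↥(Subgroup.upperCentralSeries ↥(T : Subgroup G) 4) = 16)
    (W : Subgroup ↥(T : Subgroup G))
    (hW : W = Subgroup.centralizer ((Subgroup.upperCentralSeries ↥(T : Subgroup G) 3 : Subgroup ↥(T : Subgroup G)) : Set ↥(T : Subgroup G)))
    (hc : Nat.card ↥(frattini ↥W) ≤ 8)
    (hd : ∀ U : Subgroup ↥W, U.index ≤ 16 → frattini ↥W ≤ U) :
    Cfsg.HasNormalPComplement 2 ↥(Subgroup.normalizer ((T : Subgroup G) : Set G)) ∧
      Cfsg.IsWeaklyClosed (W.map (T : Subgroup G).subtype) (T : Subgroup G) := by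
  have hT : IsPGroup 2 ↥(T : Subgroup G) := T.isPGroup'
  obtain ⟨hTcard, hcommap, hFeq, hcenter, h3, hZ3el, ⟨hWn, ⟨iso⟩⟩, hquot, hexp⟩ :=
    Cfsg.Agent.S3174.result hT ha hb W hW hc hd
  obtain ⟨h1, h2, _⟩ := Cfsg.Agent.Lib.helper17.S3174.ucs_cards hT ha hb
  obtain ⟨hFn, hFW, hFcard, hFsq, hFcomm, hFd⟩ := Cfsg.Agent.Lib.helper43.S3174.frat_facts hT W hd
  rw [hFeq] at hFsq hFcomm hFd
  have hZ3W : Subgroup.upperCentralSeries ↥(T : Subgroup G) 3 ≤ W := by
    rw [← hcommap]; exact Subgroup.map_subtype_le _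
  have hidx : W.index = 8 := by
    rw [Subgroup.index_eq_card, Nat.card_congr iso.toEquiv, DihedralGroup.nat_card]
  have hWmem : ∀ x : ↥(T : Subgroup G), x ∈ W ↔
      ∀ z ∈ Subgroup.upperCentralSeries ↥(T : Subgroup G) 3, x * z = z * x := by
    intro x
    rw [hW, Subgroup.mem_centralizer_iff]
    constructor
    · intro h z hz; exact (h z hz).symm
    · intro h z hz; exact (h z hz).symm
  constructor
  · apply normal_complement_of_odd_central T
    intro x hx hodd t ht
    obtain ⟨φ, hφ, hφn⟩ := exists_conj_aut (T : Subgroup G) x hx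
    have h1' : φ = 1 := odd_aut_trivial hT h1 h2 h3 hb (by rw [← hW]; exact hZ3W)
      (by rw [← hW]; exact hFcomm) φ (orderOf x) hodd hφn
    have h := hφ ⟨t, ht⟩
    rw [h1'] at h
    have h' : t = x * t * x⁻¹ := by simpa using h
    calc x * t = (x * t * x⁻¹) * x := by group
      _ = t * x := by rw [← h']
  · exact weakly_closed (T : Subgroup G) W _ hZ3W hidx.le hWmem hFsq hFcomm hFd

end Cfsg.Agent.S3175
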