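import Mathlib
import Cfsg.Statements.S3178
import Cfsg.Agent.Lib.helper58.SylowTools
import Cfsg.Agent.Lib.helper67.Frobenius

set_option autoImplicit false
open Cfsg

namespace Cfsg.Agent.S3178

open Subgroup

/-- The modular 2-group data: `S` of order `2^(k+4)` with `a` of order `2^(k+3)`, involution `b`,
`b a b⁻¹ = a^(2^(k+2)+1)`. -/
structure Mod {G : Type*} [Group G] (S : Subgroup G) (k : ℕ) (a b : G) : Prop where
  card : Nat.card ↥S = 2 ^ (k + 4)
  ha : a ∈ S
  hb : b ∈ S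
  hao : orderOf a = 2 ^ (k + 3)
  hbo : orderOf b = 2
  hrel : b * a * b⁻¹ = a ^ (2 ^ (k + 2) + 1)

namespace Mod

variable {G : Type*} [Group G] {S : Subgroup G} {k : ℕ} {a b : G}

theorem bb (h : Mod S k a b) : b * b = 1 := by
  have h1 := pow_orderOf_eq_one b
  rw [h.hbo, pow_two] at h1
  exact h1

theorem binv (h : Mod S k a b) : b⁻¹ = b := inv_eq_of_mul_eq_one_left h.bb

theorem b_ne (h : Mod S k a b) : b ≠ 1 := by
  intro e
  have h1 := h.hbo
  rw [e, orderOf_one] at h1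
  omega

theorem zz (h : Mod S k a b) : a ^ (2 ^ (k + 2)) * a ^ (2 ^ (k + 2)) = 1 := by
  rw [← pow_add]
  have e : 2 ^ (k + 2) + 2 ^ (k + 2) = 2 ^ (k + 3) := by ring
  rw [e, ← h.hao]
  exact pow_orderOf_eq_one a

theorem z_ne (h : Mod S k a b) : a ^ (2 ^ (k + 2)) ≠ 1 := by
  apply pow_ne_one_of_lt_orderOf (by positivity)
  rw [h.hao]
  exact Nat.pow_lt_pow_right (by norm_num) (by omega)

theorem rel' (h : Mod S k a b) : b * a * b⁻¹ = a * a ^ (2 ^ (k + 2)) := by
  rw [h.hrel, pow_succ']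

theorem b_notMem (h : Mod S k a b) : b ∉ zpowers a := by
  intro hb
  obtain ⟨i, hi⟩ := mem_zpowers_iff.mp hb
  have hc : Commute b a := by
    rw [← hi]
    exact (Commute.refl a).zpow_left i
  have h1 : b * a * b⁻¹ = a := by rw [hc.eq]; group
  rw [h.rel'] at h1
  exact h.z_ne (mul_eq_left.mp h1)

theorem conj_z (h : Mod S k a b) : b * a ^ (2 ^ (k + 2)) * b⁻¹ = a ^ (2 ^ (k + 2)) := by
  have hc : Commute a (a ^ (2 ^ (k + 2))) := (Commute.refl a).pow_right _
  have hz2 : (a ^ (2 ^ (k + 2))) ^ (2 ^ (k + 2)) = 1 := by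
    have e : 2 ^ (k + 2) = 2 * 2 ^ (k + 1) := by ring
    nth_rewrite 2 [e]
    rw [pow_mul, pow_two, h.zz, one_pow]
  rw [← conj_pow, h.rel', hc.mul_pow, hz2, mul_one]

theorem bz (h : Mod S k a b) : b * a ^ (2 ^ (k + 2)) = a ^ (2 ^ (k + 2)) * b := by
  have h1 := h.conj_z
  calc b * a ^ (2 ^ (k + 2)) = (b * a ^ (2 ^ (k + 2)) * b⁻¹) * b := by group
    _ = a ^ (2 ^ (k + 2)) * b := by rw [h1]

theorem b_aa (h : Mod S k a b) : b * (a * a) = (a * a) * b := by
  have hc : Commute a (a ^ (2 ^ (k + 2))) := (Commute.refl a).pow_right _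
  have h1 : b * (a * a) * b⁻¹ = a * a := by
    calc b * (a * a) * b⁻¹ = (b * a * b⁻¹) * (b * a * b⁻¹) := by group
      _ = (a * a ^ (2 ^ (k + 2))) * (a * a ^ (2 ^ (k + 2))) := by rw [h.rel']
      _ = a * a * (a ^ (2 ^ (k + 2)) * a ^ (2 ^ (k + 2))) := by
          rw [mul_assoc, ← mul_assoc (a ^ (2 ^ (k + 2))), ← hc.eq]; group
      _ = a * a := by rw [h.zz, mul_one]
  calc b * (a * a) = (b * (a * a) * b⁻¹) * b := by group
    _ = (a * a) * b := by rw [h1]

theorem card_zpowers (h : Mod S k a b) : Nat.card ↥(zpowers a) = 2 ^ (k + 3) := by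
  rw [Nat.card_zpowers, h.hao]

theorem zpowers_le (h : Mod S k a b) : zpowers a ≤ S := by
  rw [Subgroup.zpowers_le]; exact h.ha

theorem index_two (h : Mod S k a b) : ((zpowers a).subgroupOf S).index = 2 := by
  have h1 : Nat.card ↥((zpowers a).subgroupOf S) * ((zpowers a).subgroupOf S).index = Nat.card ↥S :=
    Subgroup.card_mul_index _
  have h2 : Nat.card ↥((zpowers a).subgroupOf S) = Nat.card ↥(zpowers a) :=
    Nat.card_congr (subgroupOfEquivOfLe h.zpowers_le).toEquiv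
  rw [h2, h.card_zpowers, h.card] at h1
  have e : (2 : ℕ) ^ (k + 4) = 2 ^ (k + 3) * 2 := by ring
  rw [e] at h1
  exact Nat.eq_of_mul_eq_mul_left (by positivity) h1

theorem mem_or (h : Mod S k a b) {s : G} (hs : s ∈ S) : s ∈ zpowers a ∨ s * b ∈ zpowers a := by
  by_cases hsA : s ∈ zpowers a
  · exact Or.inl hsA
  · right
    have h1 := Subgroup.mul_mem_iff_of_index_two h.index_two (a := (⟨s, hs⟩ : ↥S))
      (b := (⟨b, h.hb⟩ : ↥S))
    rw [mem_subgroupOf, mem_subgroupOf, mem_subgroupOf] at h1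
    exact h1.mpr ⟨fun hh => absurd hh hsA, fun hh => absurd hh h.b_notMem⟩

theorem sq_mem_of_comm (h : Mod S k a b) {c : G} (hc : c ∈ S) (hcb : c * b = b * c) :
    c * c ∈ zpowers a := by
  rcases h.mem_or hc with h1 | h1
  · exact mul_mem h1 h1
  · have e : c * c = (c * b) * (c * b) := by
      calc c * c = c * (c * (b * b)) := by rw [h.bb, mul_one]
        _ = c * (c * b) * b := by group
        _ = c * (b * c) * b := by rw [hcb]
        _ = (c * b) * (c * b) := by group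
    rw [e]
    exact mul_mem h1 h1

theorem invol (h : Mod S k a b) {x : G} (hx : x ∈ zpowers a) (hx2 : x * x = 1) :
    x = 1 ∨ x = a ^ (2 ^ (k + 2)) := by
  obtain ⟨i, rfl⟩ := mem_zpowers_iff.mp hx
  have h1 : a ^ (i * 2) = 1 := by rw [zpow_mul, zpow_ofNat, pow_two]; exact hx2
  rw [← orderOf_dvd_iff_zpow_eq_one, h.hao] at h1
  have h2 : ((2 ^ (k + 2) : ℕ) : ℤ) ∣ i := by
    have e : ((2 ^ (k + 3) : ℕ) : ℤ) = ((2 ^ (k + 2) : ℕ) : ℤ) * 2 := by push_cast; ring
    rw [e] at h1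
    exact (mul_dvd_mul_iff_right (by norm_num : (2 : ℤ) ≠ 0)).mp h1
  obtain ⟨j, rfl⟩ := h2
  rw [zpow_mul, zpow_natCast]
  rcases Int.even_or_odd' j with ⟨m, rfl | rfl⟩
  · left
    rw [zpow_mul, zpow_ofNat, pow_two, h.zz, one_zpow]
  · right
    rw [zpow_add, zpow_mul, zpow_ofNat, pow_two, h.zz, one_zpow, one_mul, zpow_one]

theorem z_central (h : Mod S k a b) {s : G} (hs : s ∈ S) :
    s * a ^ (2 ^ (k + 2)) = a ^ (2 ^ (k + 2)) * s := by
  have key : ∀ t ∈ zpowers a, t * a ^ (2 ^ (k + 2)) = a ^ (2 ^ (k + 2)) * t := by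
    intro t ht
    obtain ⟨i, rfl⟩ := mem_zpowers_iff.mp ht
    exact (((Commute.refl a).zpow_left i).pow_right _).eq
  rcases h.mem_or hs with h1 | h1
  · exact key s h1
  · have h2 := key _ h1
    calc s * a ^ (2 ^ (k + 2)) = s * (a ^ (2 ^ (k + 2)) * (b * b)) := by rw [h.bb, mul_one]
      _ = s * (a ^ (2 ^ (k + 2)) * b) * b := by group
      _ = s * (b * a ^ (2 ^ (k + 2))) * b := by rw [h.bz]
      _ = (s * b * a ^ (2 ^ (k + 2))) * b := by group
      _ = (a ^ (2 ^ (k + 2)) * (s * b)) * b := by rw [h2]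
      _ = a ^ (2 ^ (k + 2)) * s * (b * b) := by group
      _ = a ^ (2 ^ (k + 2)) * s := by rw [h.bb, mul_one]


theorem orderOf_aa (h : Mod S k a b) : orderOf (a * a) = 2 ^ (k + 2) := by
  have : Fact (Nat.Prime 2) := ⟨Nat.prime_two⟩
  have h1 : ¬ (a * a) ^ 2 ^ (k + 1) = 1 := by
    rw [← pow_two, ← pow_mul]
    have e : 2 * 2 ^ (k + 1) = 2 ^ (k + 2) := by ring
    rw [e]
    exact h.z_ne
  have h2 : (a * a) ^ 2 ^ (k + 1 + 1) = 1 := by
    rw [← pow_two, ← pow_mul]
    have e : 2 * 2 ^ (k + 1 + 1) = 2 ^ (k + 3) := by ring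
    rw [e, ← h.hao]
    exact pow_orderOf_eq_one a
  exact orderOf_eq_prime_pow h1 h2

theorem card_centralizer_ge [Finite G] (h : Mod S k a b) (hS2 : IsPGroup 2 ↥S) :
    2 ^ (k + 3) ≤ Nat.card ↥(S ⊓ centralizer ({b} : Set G)) := by
  have : Fact (Nat.Prime 2) := ⟨Nat.prime_two⟩
  have hB : zpowers (a * a) ≤ S ⊓ centralizer ({b} : Set G) := by
    rw [Subgroup.zpowers_le]
    exact mem_inf.mpr ⟨S.mul_mem h.ha h.ha, mem_centralizer_singleton_iff.mpr h.b_aa.symm⟩
  have hbD : b ∈ S ⊓ centralizer ({b} : Set G) :=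
    mem_inf.mpr ⟨h.hb, mem_centralizer_singleton_iff.mpr rfl⟩
  have hbB : b ∉ zpowers (a * a) := fun hb =>
    h.b_notMem ((Subgroup.zpowers_le.mpr (mul_mem (mem_zpowers a) (mem_zpowers a))) hb)
  have hcardB : Nat.card ↥(zpowers (a * a)) = 2 ^ (k + 2) := by
    rw [Nat.card_zpowers, h.orderOf_aa]
  have hlt : Nat.card ↥(zpowers (a * a)) < Nat.card ↥(S ⊓ centralizer ({b} : Set G)) := by
    apply lt_of_le_of_ne (Subgroup.card_le_of_le hB)
    intro e
    have h3 := Subgroup.eq_of_le_of_card_ge hB e.ge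
    exact hbB (h3 ▸ hbD)
  obtain ⟨j, hj⟩ := (hS2.to_le (inf_le_left : S ⊓ centralizer ({b} : Set G) ≤ S)).exists_card_eq
  rw [hj, hcardB] at hlt
  rw [hj]
  have h4 : k + 2 < j := (Nat.pow_lt_pow_iff_right (by norm_num)).mp hlt
  exact Nat.pow_le_pow_right (by norm_num) h4

theorem orderOf_ab (h : Mod S k a b) : orderOf (a * b) = 2 ^ (k + 3) := by
  have : Fact (Nat.Prime 2) := ⟨Nat.prime_two⟩
  have hsq : (a * b) * (a * b) = a * a * a ^ (2 ^ (k + 2)) := by
    calc (a * b) * (a * b) = a * (b * a * b⁻¹) * (b * b) := by group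
      _ = a * (a * a ^ (2 ^ (k + 2))) := by rw [h.rel', h.bb, mul_one]
      _ = a * a * a ^ (2 ^ (k + 2)) := by group
  have hsq' : (a * b) ^ 2 = a ^ (2 + 2 ^ (k + 2)) := by
    rw [pow_two, hsq, pow_add a 2, pow_two]
  have h1 : ¬ (a * b) ^ 2 ^ (k + 2) = 1 := by
    have e : 2 ^ (k + 2) = 2 * 2 ^ (k + 1) := by ring
    rw [e, pow_mul, hsq', ← pow_mul]
    have e2 : (2 + 2 ^ (k + 2)) * 2 ^ (k + 1) = 2 ^ (k + 2) + orderOf a * 2 ^ k := by
      rw [h.hao]; ring
    rw [e2, pow_add, pow_mul a (orderOf a), pow_orderOf_eq_one, one_pow, mul_one]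
    exact h.z_ne
  have h2 : (a * b) ^ 2 ^ (k + 2 + 1) = 1 := by
    have e : 2 ^ (k + 2 + 1) = 2 * 2 ^ (k + 2) := by ring
    rw [e, pow_mul, hsq', ← pow_mul]
    have e2 : (2 + 2 ^ (k + 2)) * 2 ^ (k + 2) = orderOf a * (1 + 2 ^ (k + 1)) := by
      rw [h.hao]; ring
    rw [e2, pow_mul, pow_orderOf_eq_one, one_pow]
  exact orderOf_eq_prime_pow h1 h2

end Mod

theorem sq_mem_of_card_le {G : Type*} [Group G] [Finite G] {H T : Subgroup G} (hHT : H ≤ T)
    (hc : Nat.card ↥T ≤ 2 * Nat.card ↥H) {t : G} (ht : t ∈ T) : t * t ∈ H := by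
  have h1 : Nat.card ↥(H.subgroupOf T) * (H.subgroupOf T).index = Nat.card ↥T :=
    Subgroup.card_mul_index _
  have h2 : Nat.card ↥(H.subgroupOf T) = Nat.card ↥H :=
    Nat.card_congr (subgroupOfEquivOfLe hHT).toEquiv
  rw [h2] at h1
  have hpos : 0 < Nat.card ↥H := Nat.card_pos
  have hposT : 0 < Nat.card ↥T := Nat.card_pos
  have hidx : (H.subgroupOf T).index ≤ 2 := by
    by_contra hcon
    push Not at hcon
    nlinarith
  have hidx0 : (H.subgroupOf T).index ≠ 0 := by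
    intro e
    rw [e, mul_zero] at h1
    omega
  have hcases : (H.subgroupOf T).index = 1 ∨ (H.subgroupOf T).index = 2 := by omega
  rcases hcases with hh | hh
  · have h3 : H.subgroupOf T = ⊤ := Subgroup.index_eq_one.mp hh
    rw [subgroupOf_eq_top] at h3
    exact mul_mem (h3 ht) (h3 ht)
  · have h3 := Subgroup.mul_self_mem_of_index_two hh (⟨t, ht⟩ : ↥T)
    exact mem_subgroupOf.mp h3

theorem Mod.no_conj {G : Type*} [Group G] [Finite G] {k : ℕ} {a b : G} (S : Sylow 2 G)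
    (h : Mod (S : Subgroup G) k a b) (g : G) : g⁻¹ * b * g ∉ zpowers a := by
  have : Fact (Nat.Prime 2) := ⟨Nat.prime_two⟩
  intro hx
  have hx2 : (g⁻¹ * b * g) * (g⁻¹ * b * g) = 1 := by
    have e : (g⁻¹ * b * g) * (g⁻¹ * b * g) = g⁻¹ * (b * b) * g := by group
    rw [e, h.bb]; group
  have hx1 : g⁻¹ * b * g ≠ 1 := by
    intro e
    apply h.b_ne
    have e2 : b = g * (g⁻¹ * b * g) * g⁻¹ := by group
    rw [e2, e]; group
  have hz0 : g⁻¹ * b * g = a ^ (2 ^ (k + 2)) := (h.invol hx hx2).resolve_left hx1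
  -- abstract z and w
  obtain ⟨z, hz⟩ : ∃ z, z = a ^ (2 ^ (k + 2)) := ⟨_, rfl⟩
  obtain ⟨w, hw⟩ : ∃ w, w = a ^ (2 ^ k) := ⟨_, rfl⟩
  have hwS : w ∈ (S : Subgroup G) := by rw [hw]; exact (S : Subgroup G).pow_mem h.ha _
  have hw4 : (w * w) * (w * w) = z := by
    rw [hw, hz, ← pow_add, ← pow_add]
    congr 1
    ring
  have hzc : ∀ s ∈ (S : Subgroup G), s * z = z * s := by
    intro s hs; rw [hz]; exact h.z_central hs
  rw [← hz] at hz0
  have hb : b = g * z * g⁻¹ := by rw [← hz0]; group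
  have hT0 : ((g • S : Sylow 2 G) : Subgroup G) ≤ centralizer ({b} : Set G) := by
    intro t ht
    have ht' : g⁻¹ * t * g ∈ S := (Cfsg.Agent.Lib.helper58.mem_smul_sylow_iff g t S).mp ht
    have h1 := hzc _ ht'
    rw [mem_centralizer_singleton_iff]
    calc t * b = t * (g * z * g⁻¹) := by rw [hb]
      _ = g * ((g⁻¹ * t * g) * z) * g⁻¹ := by group
      _ = g * (z * (g⁻¹ * t * g)) * g⁻¹ := by rw [h1]
      _ = (g * z * g⁻¹) * t := by group
      _ = b * t := by rw [hb]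
  have hDp : IsPGroup 2 ↥((S : Subgroup G) ⊓ centralizer ({b} : Set G)) :=
    S.isPGroup'.to_le inf_le_left
  obtain ⟨hh, hhN, hhD⟩ := Cfsg.Agent.Lib.helper58.exists_conj_mem_sylow_of_le (g • S) hT0
    (inf_le_right : (S : Subgroup G) ⊓ centralizer ({b} : Set G) ≤ _) hDp
  have hu : g * w * g⁻¹ ∈ ((g • S : Sylow 2 G) : Subgroup G) := by
    have e : g⁻¹ * (g * w * g⁻¹) * g = w := by group
    have h3 : g⁻¹ * (g * w * g⁻¹) * g ∈ S := by rw [e]; exact hwS
    exact (Cfsg.Agent.Lib.helper58.mem_smul_sylow_iff g _ S).mpr h3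
  have hD'le : ((S : Subgroup G) ⊓ centralizer ({b} : Set G)).map (MulAut.conj hh).toMonoidHom ≤
      ((g • S : Sylow 2 G) : Subgroup G) := by
    rintro _ ⟨x, hx, rfl⟩
    exact hhD x hx
  have hcardD := h.card_centralizer_ge S.isPGroup'
  have hcardT : Nat.card ↥((g • S : Sylow 2 G) : Subgroup G) = 2 ^ (k + 4) := by
    rw [← h.card]
    exact (g • S).card_eq_multiplicity.trans S.card_eq_multiplicity.symm
  have hcard : Nat.card ↥((g • S : Sylow 2 G) : Subgroup G) ≤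
      2 * Nat.card ↥(((S : Subgroup G) ⊓ centralizer ({b} : Set G)).map
        (MulAut.conj hh).toMonoidHom) := by
    rw [card_map_of_injective (MulAut.conj hh).injective, hcardT]
    have e : (2 : ℕ) ^ (k + 4) = 2 * 2 ^ (k + 3) := by ring
    rw [e]
    exact Nat.mul_le_mul_left 2 hcardD
  obtain ⟨c, hcD, hc⟩ := sq_mem_of_card_le hD'le hcard hu
  have hcS := (mem_inf.mp hcD).1
  have hcb : c * b = b * c := mem_centralizer_singleton_iff.mp (mem_inf.mp hcD).2
  have hhb : hh * b = b * hh := mem_centralizer_singleton_iff.mp hhN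
  have hc' : hh * c * hh⁻¹ = (g * w * g⁻¹) * (g * w * g⁻¹) := hc
  have hcc : c * c = b := by
    have e1 : (hh * c * hh⁻¹) * (hh * c * hh⁻¹) = b := by
      rw [hc']
      calc (g * w * g⁻¹) * (g * w * g⁻¹) * ((g * w * g⁻¹) * (g * w * g⁻¹))
          = g * ((w * w) * (w * w)) * g⁻¹ := by group
        _ = b := by rw [hw4, hb]
    calc c * c = hh⁻¹ * ((hh * c * hh⁻¹) * (hh * c * hh⁻¹)) * hh := by group
      _ = hh⁻¹ * b * hh := by rw [e1]
      _ = hh⁻¹ * (b * hh) := by group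
      _ = hh⁻¹ * (hh * b) := by rw [hhb]
      _ = b := by group
  have h5 := h.sq_mem_of_comm hcS hcb
  rw [hcc] at h5
  exact h.b_notMem h5

theorem sign_fpf_involution {α : Type*} [Fintype α] [DecidableEq α] (τ : Equiv.Perm α)
    (h2 : τ * τ = 1) (hfp : ∀ x, τ x ≠ x) {m : ℕ} (hcard : Fintype.card α = 2 * m) (hm : Odd m) :
    Equiv.Perm.sign τ = -1 := by
  have hne : τ ≠ 1 := by
    intro e
    have hpos : 0 < Fintype.card α := by
      rw [hcard]
      obtain ⟨j, rfl⟩ := hm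
      omega
    obtain ⟨x⟩ := Fintype.card_pos_iff.mp hpos
    exact hfp x (by rw [e]; rfl)
  have hord : orderOf τ = 2 := orderOf_eq_prime (by rw [pow_two]; exact h2) hne
  obtain ⟨j, hj⟩ := Equiv.Perm.cycleType_prime_order (σ := τ) (by rw [hord]; exact Nat.prime_two)
  rw [hord] at hj
  have hfix : Fintype.card (Function.fixedPoints τ) = 0 := by
    rw [Fintype.card_eq_zero_iff]
    exact ⟨fun x => hfp x.1 x.2⟩
  have hrep : τ.cycleType = Multiset.replicate (Multiset.card τ.cycleType) 2 := by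
    rw [hj]; simp
  rw [Equiv.Perm.sign_of_cycleType_eq_replicate (by norm_num) hrep, if_neg (by decide), hfix, hcard]
  simp only [Nat.sub_zero]
  rw [Nat.mul_div_cancel_left m (by norm_num)]
  exact hm.neg_one_pow


theorem Mod.exists_index_two {G : Type*} [Group G] [Finite G] {k : ℕ} {a b : G} (S : Sylow 2 G)
    (h : Mod (S : Subgroup G) k a b) :
    ∃ K : Subgroup G, K.Normal ∧ K.index = 2 ∧ b ∉ K ∧ (a ∈ K ∨ a * b ∈ K) := by
  classical
  have : Fact (Nat.Prime 2) := ⟨Nat.prime_two⟩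
  let _ : Fintype (G ⧸ zpowers a) := Fintype.ofFinite _
  obtain ⟨sgn, hsgn⟩ : ∃ sgn : G →* ℤˣ,
      sgn = Equiv.Perm.sign.comp (MulAction.toPermHom G (G ⧸ zpowers a)) := ⟨_, rfl⟩
  have hsb : sgn b = -1 := by
    rw [hsgn]
    apply sign_fpf_involution (m := (S : Subgroup G).index)
    · rw [← map_mul, h.bb, map_one]
    · intro x
      induction x using QuotientGroup.induction_on with
      | H g =>
        intro e
        have e' : ((b * g : G) : G ⧸ zpowers a) = (g : G ⧸ zpowers a) := e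
        rw [QuotientGroup.eq] at e'
        have e2 : g⁻¹ * b * g = ((b * g)⁻¹ * g)⁻¹ := by group
        exact h.no_conj S g (e2 ▸ inv_mem e')
    · rw [← Nat.card_eq_fintype_card]
      show (zpowers a).index = 2 * (S : Subgroup G).index
      rw [← Subgroup.relIndex_mul_index h.zpowers_le]
      have e3 : (zpowers a).relIndex (S : Subgroup G) = 2 := h.index_two
      rw [e3]
    · have h3 := S.not_dvd_index
      exact Nat.odd_iff.mpr (Nat.two_dvd_ne_zero.mp h3)
  refine ⟨sgn.ker, inferInstance, ?_, ?_, ?_⟩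
  · rw [Subgroup.index_eq_two_iff]
    refine ⟨b, fun g => ?_⟩
    rw [MonoidHom.mem_ker, MonoidHom.mem_ker, map_mul, hsb]
    rcases Int.units_eq_one_or (sgn g) with e | e
    · rw [e]; simp
    · rw [e]; simp
  · rw [MonoidHom.mem_ker, hsb]; decide
  · rcases Int.units_eq_one_or (sgn a) with e | e
    · left; exact MonoidHom.mem_ker.mpr e
    · right
      rw [MonoidHom.mem_ker, map_mul, e, hsb]
      rfl

theorem Mod.hasNormalPComplement {G : Type*} [Group G] [Finite G] {k : ℕ} {a b : G}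
    (S : Sylow 2 G) (h : Mod (S : Subgroup G) k a b) : Cfsg.HasNormalPComplement 2 G := by
  have : Fact (Nat.Prime 2) := ⟨Nat.prime_two⟩
  obtain ⟨K, hKn, hKidx, hbK, haK⟩ := h.exists_index_two S
  obtain ⟨x, hxS, hxK, hxo⟩ : ∃ x, x ∈ (S : Subgroup G) ∧ x ∈ K ∧ orderOf x = 2 ^ (k + 3) := by
    rcases haK with h1 | h1
    · exact ⟨a, h.ha, h1, h.hao⟩
    · exact ⟨a * b, mul_mem h.ha h.hb, h1, h.orderOf_ab⟩
  have hxo' : orderOf (⟨x, hxK⟩ : ↥K) = 2 ^ (k + 3) := by
    rw [← hxo]; exact Subgroup.orderOf_mk x hxK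
  have hxp : IsPGroup 2 ↥(zpowers (⟨x, hxK⟩ : ↥K)) := by
    apply IsPGroup.of_card (n := k + 3)
    rw [Nat.card_zpowers, hxo']
  obtain ⟨R, hR⟩ := hxp.exists_le_sylow
  have hRcard : Nat.card ↥(R : Subgroup ↥K) = 2 ^ (k + 3) := by
    have hR'p : IsPGroup 2 ↥((R : Subgroup ↥K).map K.subtype) := R.isPGroup'.map _
    obtain ⟨Q, hQ⟩ := hR'p.exists_le_sylow
    have hQcard : Nat.card ↥(Q : Subgroup G) = 2 ^ (k + 4) := by
      rw [← h.card]
      exact Q.card_eq_multiplicity.trans S.card_eq_multiplicity.symm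
    have hR'card : Nat.card ↥((R : Subgroup ↥K).map K.subtype) = Nat.card ↥(R : Subgroup ↥K) :=
      card_map_of_injective K.subtype_injective
    obtain ⟨j, hj⟩ := R.isPGroup'.exists_card_eq
    have hle : 2 ^ (k + 3) ≤ Nat.card ↥(R : Subgroup ↥K) := by
      have h4 := Subgroup.card_le_of_le hR
      rwa [Nat.card_zpowers, hxo'] at h4
    have hne : Nat.card ↥(R : Subgroup ↥K) ≠ 2 ^ (k + 4) := by
      intro e
      have hRQ : (R : Subgroup ↥K).map K.subtype = (Q : Subgroup G) :=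
        eq_of_le_of_card_ge hQ (by rw [hR'card, e, hQcard])
      have hQK : (Q : Subgroup G) ≤ K := by rw [← hRQ]; exact map_subtype_le _
      obtain ⟨g, hg⟩ := MulAction.exists_smul_eq G Q S
      apply hbK
      have hbS : b ∈ (g • Q : Sylow 2 G) := by rw [hg]; exact h.hb
      rw [Cfsg.Agent.Lib.helper58.mem_smul_sylow_iff] at hbS
      have h5 := hKn.conj_mem _ (hQK hbS) g
      have e2 : g * (g⁻¹ * b * g) * g⁻¹ = b := by group
      rwa [e2] at h5
    have hdvd : Nat.card ↥(R : Subgroup ↥K) ∣ 2 ^ (k + 4) := by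
      rw [← hR'card, ← hQcard]; exact Subgroup.card_dvd_of_le hQ
    rw [hj] at hle hne hdvd ⊢
    have h1 : k + 3 ≤ j := (Nat.pow_le_pow_iff_right (by norm_num)).mp hle
    have h2 : j ≤ k + 4 := (Nat.pow_dvd_pow_iff_le_right (by norm_num)).mp hdvd
    have h3 : j ≠ k + 4 := fun e => hne (by rw [e])
    have h6 : j = k + 3 := by omega
    rw [h6]
  have hRcyc : IsCyclic ↥R := by
    have h7 : zpowers (⟨x, hxK⟩ : ↥K) = (R : Subgroup ↥K) :=
      eq_of_le_of_card_ge hR (by rw [hRcard, Nat.card_zpowers, hxo'])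
    have h8 : IsCyclic ↥(zpowers (⟨x, hxK⟩ : ↥K)) := inferInstance
    rw [h7] at h8
    exact h8
  have hmin : (Nat.card ↥K).minFac = 2 := by
    rw [Nat.minFac_eq_two_iff]
    have h9 : Nat.card ↥(R : Subgroup ↥K) ∣ Nat.card ↥K := Subgroup.card_subgroup_dvd_card _
    rw [hRcard] at h9
    exact dvd_trans (dvd_pow_self 2 (by omega)) h9
  have hcomp := IsCyclic.isComplement' hmin hRcyc
  obtain ⟨N, hN⟩ : ∃ N : Subgroup ↥K,
      N = (MonoidHom.transferSylow R (hRcyc.normalizer_le_centralizer hmin)).ker := ⟨_, rfl⟩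
  rw [← hN] at hcomp
  have hNn : N.Normal := by rw [hN]; infer_instance
  have hNodd : ¬ 2 ∣ Nat.card ↥N := by
    rw [hN]; exact MonoidHom.not_dvd_card_ker_transferSylow R _
  have hmem : ∀ y : ↥K, y ∈ N ↔ (orderOf y).Coprime 2 := fun y =>
    Cfsg.Agent.Lib.helper67.mem_iff_coprime_of_isComplement' N R hcomp y
  have hN'n : (N.map K.subtype).Normal := by
    constructor
    rintro _ ⟨y, hy, rfl⟩ g
    have hyK : g * (y : G) * g⁻¹ ∈ K := hKn.conj_mem _ y.2 g
    refine ⟨⟨g * y * g⁻¹, hyK⟩, ?_, rfl⟩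
    have hy' := (hmem y).mp hy
    apply (hmem _).mpr
    have e1 : orderOf (⟨g * (y : G) * g⁻¹, hyK⟩ : ↥K) = orderOf (g * (y : G) * g⁻¹) :=
      Subgroup.orderOf_mk _ _
    have e2 : orderOf (g * (y : G) * g⁻¹) = orderOf (y : G) :=
      orderOf_injective (MulAut.conj g).toMonoidHom (MulAut.conj g).injective (y : G)
    have e3 : orderOf (y : G) = orderOf y := Subgroup.orderOf_coe y
    rw [e1, e2, e3]; exact hy'
  have c1 : Nat.card ↥(N.map K.subtype) = Nat.card ↥N := card_map_of_injective K.subtype_injective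
  refine ⟨S, N.map K.subtype, hN'n, ?_⟩
  apply isComplement'_of_coprime
  · have c2 : Nat.card ↥N * Nat.card ↥(R : Subgroup ↥K) = Nat.card ↥K := hcomp.card_mul_card
    have c3 : Nat.card ↥K * K.index = Nat.card G := Subgroup.card_mul_index K
    rw [c1, h.card, ← c3, ← c2, hRcard, hKidx]; ring
  · rw [c1, h.card]
    apply Nat.Coprime.pow_right
    rw [Nat.coprime_comm, Nat.Prime.coprime_iff_not_dvd Nat.prime_two]
    exact hNodd

/-- Groups with a modular Sylow 2-subgroup have a normal 2-complement. Let S, of order 2^(n+1) with n ≥ 3, be a Sylow 2-subgroup of a finite group G, and suppose S contains an element a of order 2^n and an involution b with b a b⁻¹ = a^(2^(n-1) + 1); so S is the non-abelian 2-group with a cyclic subgroup of index 2 that is neither dihedral, semidihedral nor generalized quaternion. Then G has a normal 2-complement. -/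
theorem result {G : Type*} [Group G] [Finite G]
    (S : Sylow 2 G) (n : ℕ) (hn : 3 ≤ n) (hS : Nat.card ↥(S : Subgroup G) = 2 ^ (n + 1))
    (a b : G) (ha : a ∈ (S : Subgroup G)) (hb : b ∈ (S : Subgroup G))
    (hao : orderOf a = 2 ^ n) (hbo : orderOf b = 2) (hrel : b * a * b⁻¹ = a ^ (2 ^ (n - 1) + 1)) :
    Cfsg.HasNormalPComplement 2 G := by
  obtain ⟨k, rfl⟩ := Nat.exists_eq_add_of_le hn
  have e1 : 3 + k + 1 = k + 4 := by omega
  have e2 : 3 + k = k + 3 := by omega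
  have e3 : 3 + k - 1 = k + 2 := by omega
  rw [e1] at hS
  rw [e2] at hao
  rw [e3] at hrel
  exact (Mod.mk hS ha hb hao hbo hrel).hasNormalPComplement S

end Cfsg.Agent.S3178
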