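import Mathlib
import Cfsg.Statements.S3179
import Cfsg.Agent.S0243
import Cfsg.Agent.S0280
import Cfsg.Agent.S2475
import Cfsg.Agent.Lib.helper58.SzElements
import Cfsg.Agent.Lib.helper58.GL52
-- import your own Cfsg.Agent.* helpers here

set_option autoImplicit false
open Cfsg

namespace Cfsg.Agent.S3179

open Cfsg.Agent.Lib.helper58

theorem card_section_dvd {H : Subgroup (GL (Fin 5) (ZMod 2))} {K : Subgroup ↥H} [K.Normal] :
    Nat.card (↥H ⧸ K) ∣ 9999360 := by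
  rw [← card_GL52]
  exact (Subgroup.card_quotient_dvd_card K).trans (Subgroup.card_subgroup_dvd_card H)

theorem psl_case (n : ℕ) (hn : 2 ≤ n) (F : Type) [Field F] [Fintype F]
    (hF : Fintype.card F = 2 ^ n)
    (hdvd : Nat.card (Matrix.ProjectiveSpecialLinearGroup (Fin 2) F) ∣ 9999360) :
    n = 2 ∨ n = 3 := by
  have h := Cfsg.Agent.S0243.result hF 2 le_rfl
  rw [Fin.prod_univ_two] at h
  simp only [Fin.val_zero, Fin.val_one, pow_zero, pow_one] at h
  have hq1 : 1 ≤ 2 ^ n := Nat.one_le_two_pow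
  have hodd : Odd (2 ^ n - 1) := by
    have he : Even (2 ^ n) := (Nat.even_pow.mpr ⟨even_two, by omega⟩)
    exact Nat.Even.sub_odd hq1 he odd_one
  have hg : Nat.gcd 2 (2 ^ n - 1) = 1 := Nat.coprime_two_left.mpr hodd
  rw [hg, one_mul] at h
  have hfac : (2 ^ n) ^ 2 - 2 ^ n = 2 ^ n * (2 ^ n - 1) := by
    rw [pow_two, Nat.mul_sub_one]
  rw [hfac] at h
  have hN' : Nat.card (Matrix.ProjectiveSpecialLinearGroup (Fin 2) F) =
      ((2 ^ n) ^ 2 - 1) * 2 ^ n := by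
    have hpos : 0 < 2 ^ n - 1 := hodd.pos
    apply Nat.eq_of_mul_eq_mul_left hpos
    rw [h]; ring
  have h2n : 2 ^ n ∣ 9999360 := (Dvd.intro_left _ hN'.symm).trans hdvd
  have hn10 : n ≤ 10 := by
    by_contra hcon
    push Not at hcon
    have h11 : 2 ^ 11 ∣ 9999360 := (pow_dvd_pow 2 hcon).trans h2n
    norm_num at h11
  rw [hN'] at hdvd
  interval_cases n <;> omega

theorem sz_case (m : ℕ) (hm : 1 ≤ m) (F : Type) [Field F] [Fintype F]
    (hF : Fintype.card F = 2 ^ (2 * m + 1))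
    (hdvd : Nat.card ↥(Cfsg.Lie.Sz F (2 ^ (m + 1))) ∣ 9999360) : False := by
  have h2 : (2 : F) = 0 := two_eq_zero_of_card _ hF
  have hchar : CharP F 2 := charP_two_of_card _ hF
  have hprime : Fact (Nat.Prime 2) := ⟨Nat.prime_two⟩
  have hθ : ∀ x : F, (x ^ 2 ^ (m + 1)) ^ 2 ^ (m + 1) = x ^ 2 := by
    intro x
    have hq : x ^ 2 ^ (2 * m + 1) = x := by rw [← hF]; exact FiniteField.pow_card x
    rw [← pow_mul, ← pow_add]
    have e1 : m + 1 + (m + 1) = (2 * m + 1) + 1 := by ring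
    rw [e1, pow_succ, pow_mul, hq]
  have hadd : ∀ x y : F, (x + y) ^ 2 ^ (m + 1) = x ^ 2 ^ (m + 1) + y ^ 2 ^ (m + 1) :=
    fun x y => add_pow_char_pow x y 2 (m + 1)
  have hsq := sq_card_dvd_card_Sz h2 (2 ^ (m + 1)) (by positivity) hθ hadd
  rw [hF] at hsq
  have hm2 : m ≤ 2 := by
    by_contra hcon
    push Not at hcon
    have h1 : 2 ^ 11 ∣ (2 ^ (2 * m + 1)) ^ 2 := by
      rw [← pow_mul]; exact pow_dvd_pow 2 (by omega)
    have h11 : 2 ^ 11 ∣ 9999360 := h1.trans (hsq.trans hdvd)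
    norm_num at h11
  interval_cases m
  · obtain ⟨g, hg⟩ := exists_orderOf_eq_13 (F := F) (by rw [hF]; norm_num)
    have h13 : 13 ∣ 9999360 := by
      rw [← hg]; exact (orderOf_dvd_natCard g).trans hdvd
    norm_num at h13
  · obtain ⟨g, hg⟩ := exists_orderOf_eq_41 (F := F) (by rw [hF]; norm_num)
    have h41 : 41 ∣ 9999360 := by
      rw [← hg]; exact (orderOf_dvd_natCard g).trans hdvd
    norm_num at h41

theorem psu_case (n : ℕ) (hn : 2 ≤ n) (F : Type) [Field F] [Fintype F]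
    (hF : Fintype.card F = 4 ^ n)
    (hdvd : Nat.card (Cfsg.PSU 3 F (2 ^ n)) ∣ 9999360) : False := by
  have hF' : Fintype.card F = (2 ^ n) ^ 2 := by
    rw [hF, ← pow_mul, mul_comm, pow_mul]; norm_num
  have h := Cfsg.Agent.S0280.result hF' 3 (by norm_num)
  simp only [Finset.prod_range_succ, Finset.prod_range_zero, one_mul] at h
  norm_num at h
  have hodd1 : Odd (2 ^ n + 1) := (Nat.even_pow.mpr ⟨even_two, by omega⟩).add_one
  have hd3 : Nat.gcd 3 (2 ^ n + 1) ∣ 3 := Nat.gcd_dvd_left _ _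
  have hoddg : Odd (Nat.gcd 3 (2 ^ n + 1)) := by
    rcases (Nat.dvd_prime Nat.prime_three).mp hd3 with h1 | h1 <;> rw [h1] <;> decide
  have hc1 : Nat.Coprime ((2 ^ n) ^ 3) (Nat.gcd 3 (2 ^ n + 1)) :=
    Nat.Coprime.pow_left 3 (Nat.Coprime.pow_left n (Nat.coprime_two_left.mpr hoddg))
  have hc2 : Nat.Coprime ((2 ^ n) ^ 3) (2 ^ n + 1) :=
    Nat.Coprime.pow_left 3 (Nat.Coprime.pow_left n (Nat.coprime_two_left.mpr hodd1))
  have h3 : (2 ^ n) ^ 3 ∣
      Nat.gcd 3 (2 ^ n + 1) * ((2 ^ n + 1) * Nat.card (Cfsg.PSU 3 F (2 ^ n))) :=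
    Dvd.intro _ h.symm
  have h4 : (2 ^ n) ^ 3 ∣ Nat.card (Cfsg.PSU 3 F (2 ^ n)) :=
    hc2.dvd_of_dvd_mul_left (hc1.dvd_of_dvd_mul_left h3)
  have hn3 : n ≤ 3 := by
    by_contra hcon
    push Not at hcon
    have h1 : 2 ^ 11 ∣ (2 ^ n) ^ 3 := by
      rw [← pow_mul]; exact pow_dvd_pow 2 (by omega)
    have h11 : 2 ^ 11 ∣ 9999360 := h1.trans (h4.trans hdvd)
    norm_num at h11
  clear h3 h4 hc1 hc2 hoddg hd3 hodd1
  interval_cases n
  · norm_num at h hdvd
    generalize Nat.card (Cfsg.PSU 3 F 4) = N at h hdvd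
    have hN : N = 62400 := by omega
    subst hN
    norm_num at hdvd
  · norm_num at h hdvd
    generalize Nat.card (Cfsg.PSU 3 F 8) = N at h hdvd
    have hN : N = 5515776 := by omega
    subst hN
    norm_num at hdvd

/-- Let X be a section of the general linear group GL(5, 2), that is, a quotient of a subgroup of it. If X is isomorphic to PSL(2, 2^n) for some n ≥ 2, to a Suzuki group over the field with 2^(2m+1) elements for some m ≥ 1, or to PSU(3, 2^n) for some n ≥ 2, then X is isomorphic to PSL(2, 4). -/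
theorem result {H : Subgroup (GL (Fin 5) (ZMod 2))}
    {K : Subgroup ↥H} [K.Normal]
    (hX : (∃ (n : ℕ) (F : Type) (_ : Field F) (_ : Fintype F), 2 ≤ n ∧ Fintype.card F = 2 ^ n ∧
        Nonempty (↥H ⧸ K ≃* Matrix.ProjectiveSpecialLinearGroup (Fin 2) F)) ∨
      (∃ (m : ℕ) (F : Type) (_ : Field F) (_ : Fintype F), 1 ≤ m ∧ Fintype.card F = 2 ^ (2 * m + 1) ∧
        Nonempty (↥H ⧸ K ≃* ↥(Cfsg.Lie.Sz F (2 ^ (m + 1))))) ∨
      (∃ (n : ℕ) (F : Type) (_ : Field F) (_ : Fintype F), 2 ≤ n ∧ Fintype.card F = 4 ^ n ∧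
        Nonempty (↥H ⧸ K ≃* Cfsg.PSU 3 F (2 ^ n)))) :
    ∃ (F : Type) (_ : Field F) (_ : Fintype F), Fintype.card F = 4 ∧
      Nonempty (↥H ⧸ K ≃* Matrix.ProjectiveSpecialLinearGroup (Fin 2) F) := by
  have hdvd := card_section_dvd (H := H) (K := K)
  rcases hX with ⟨n, F, iF, iFt, hn, hF, ⟨e⟩⟩ | ⟨m, F, iF, iFt, hm, hF, ⟨e⟩⟩ |
    ⟨n, F, iF, iFt, hn, hF, ⟨e⟩⟩
  · have hd' : Nat.card (Matrix.ProjectiveSpecialLinearGroup (Fin 2) F) ∣ 9999360 := by
      rw [← Nat.card_congr e.toEquiv]; exact hdvd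
    rcases psl_case n hn F hF hd' with rfl | rfl
    · exact ⟨F, iF, iFt, by rw [hF]; norm_num, ⟨e⟩⟩
    · exfalso
      have hchar : CharP F 2 := charP_two_of_card 3 hF
      have hprime : Fact (Nat.Prime 2) := ⟨Nat.prime_two⟩
      have hr := Cfsg.Agent.S2475.result (F := F) 2 (by rw [hF]; norm_num)
      have h9 : (9 : ℕ) ∈
          Set.range (orderOf : Matrix.ProjectiveSpecialLinearGroup (Fin 2) F → ℕ) := by
        rw [hr]
        show 9 ∣ 2 ∨ 9 ∣ (Fintype.card F - 1) / Nat.gcd 2 (Fintype.card F - 1) ∨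
          9 ∣ (Fintype.card F + 1) / Nat.gcd 2 (Fintype.card F - 1)
        right; right
        rw [hF]; norm_num
      obtain ⟨x, hx⟩ := h9
      have h9' : orderOf (e.symm x) = 9 := by rw [MulEquiv.orderOf_eq]; exact hx
      exact orderOf_ne_nine_section _ h9'
  · exfalso
    exact sz_case m hm F hF (by rw [← Nat.card_congr e.toEquiv]; exact hdvd)
  · exfalso
    exact psu_case n hn F hF (by rw [← Nat.card_congr e.toEquiv]; exact hdvd)

end Cfsg.Agent.S3179
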