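import Mathlib
import Cfsg.Statements.S3180

set_option autoImplicit false
open Cfsg

namespace Cfsg.Agent.S3180

theorem mem_normalizer_of_map_conj_eq {J : Type*} [Group J] (H : Subgroup J) (u : J)
    (h : H.map (MulAut.conj u).toMonoidHom = H) : u ∈ Subgroup.normalizer (H : Set J) := by
  rw [Subgroup.mem_normalizer_iff_map_conj_eq]
  exact h

theorem mem_of_smul_sylow {p : ℕ} {H : Type*} [Group H] (S : Sylow p H) (h x : H)
    (hx : x ∈ h • S) : h⁻¹ * x * h ∈ S := by
  have hx' : x ∈ ((h • S : Sylow p H) : Subgroup H) := hx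
  rw [Sylow.coe_subgroup_smul, Subgroup.mem_pointwise_smul_iff_inv_smul_mem] at hx'
  have e : (MulAut.conj h)⁻¹ • x = h⁻¹ * x * h := by
    rw [← map_inv, MulAut.smul_def, MulAut.conj_apply, inv_inv]
  rw [e] at hx'
  exact hx'

/-- Let J be a finite group acting on a set Ω, let P be a Sylow p-subgroup of J and P₁ a subgroup of P that is weakly closed in P with respect to J. If x and y are points of Ω fixed by P₁ and lying in the same J-orbit, then some element of the normalizer of P₁ in J carries x to y. -/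
theorem result {J : Type*} [Group J] [Finite J]
    {p : ℕ} [Fact p.Prime] (P : Sylow p J) (P₁ : Subgroup J) (hW : Cfsg.IsWeaklyClosed P₁ (P : Subgroup J))
    {Ω : Type*} [MulAction J Ω] (x y : Ω) (hx : ∀ g ∈ P₁, g • x = x) (hy : ∀ g ∈ P₁, g • y = y)
    (hc : ∃ g : J, g • x = y) :
    ∃ g ∈ Subgroup.normalizer (P₁ : Set J), g • x = y := by
  obtain ⟨g, hg⟩ := hc
  obtain ⟨hP₁P, hwc⟩ := hW
  set H : Subgroup J := MulAction.stabilizer J y with hH
  have hP₁H : P₁ ≤ H := fun a ha => MulAction.mem_stabilizer_iff.mpr (hy a ha)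
  have hQH : ∀ a ∈ P₁, g * a * g⁻¹ ∈ H := by
    intro a ha
    rw [hH, MulAction.mem_stabilizer_iff, ← hg, mul_smul, mul_smul, inv_smul_smul, hx a ha]
  have hP₁p : IsPGroup p P₁ := P.isPGroup'.to_le hP₁P
  set Q : Subgroup J := P₁.map (MulAut.conj g).toMonoidHom with hQ
  have hQp : IsPGroup p Q := hP₁p.map _
  obtain ⟨S1, hS1⟩ := (hP₁p.comap_subtype (K := H)).exists_le_sylow
  obtain ⟨S2, hS2⟩ := (hQp.comap_subtype (K := H)).exists_le_sylow
  obtain ⟨h, hh⟩ := MulAction.exists_smul_eq H S1 S2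
  set T : Subgroup J := (S1 : Subgroup H).map H.subtype with hT
  have hTp : IsPGroup p T := S1.isPGroup'.map _
  obtain ⟨R, hR⟩ := hTp.exists_le_sylow
  obtain ⟨k, hk⟩ := MulAction.exists_smul_eq J P R
  -- elements of T conjugate into P by k⁻¹
  have hTP : ∀ t ∈ T, k⁻¹ * t * k ∈ (P : Subgroup J) := by
    intro t ht
    have : t ∈ k • P := by rw [hk]; exact hR ht
    exact mem_of_smul_sylow P k t this
  have h1 : ∀ a ∈ P₁, a ∈ T := by
    intro a ha
    refine ⟨⟨a, hP₁H ha⟩, hS1 ?_, rfl⟩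
    exact ha
  set m : J := (h : J)⁻¹ * g with hm
  have h2 : ∀ a ∈ P₁, m * a * m⁻¹ ∈ T := by
    intro a ha
    have hq : (⟨g * a * g⁻¹, hQH a ha⟩ : H) ∈ S2 := by
      apply hS2
      show g * a * g⁻¹ ∈ Q
      exact ⟨a, ha, rfl⟩
    rw [← hh] at hq
    have := mem_of_smul_sylow S1 h _ hq
    refine ⟨_, this, ?_⟩
    simp only [Subgroup.coe_subtype, Subgroup.coe_mul, Subgroup.coe_inv, hm]
    group
  have hn1 : k⁻¹ ∈ Subgroup.normalizer (P₁ : Set J) := by
    apply mem_normalizer_of_map_conj_eq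
    apply hwc
    rintro _ ⟨a, ha, rfl⟩
    have := hTP a (h1 a ha)
    simpa using this
  have hn2 : k⁻¹ * m ∈ Subgroup.normalizer (P₁ : Set J) := by
    apply mem_normalizer_of_map_conj_eq
    apply hwc
    rintro _ ⟨a, ha, rfl⟩
    have := hTP _ (h2 a ha)
    have e : (MulAut.conj (k⁻¹ * m)).toMonoidHom a = k⁻¹ * (m * a * m⁻¹) * k := by
      simp [MulAut.conj_apply, mul_assoc]
    rw [e]
    exact this
  refine ⟨m, ?_, ?_⟩
  · have := (Subgroup.normalizer (P₁ : Set J)).mul_mem ((Subgroup.normalizer (P₁ : Set J)).inv_mem hn1) hn2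
    simpa using this
  · rw [hm, mul_smul, hg]
    have : (h : J) • y = y := MulAction.mem_stabilizer_iff.mp h.2
    rw [inv_smul_eq_iff, this]

end Cfsg.Agent.S3180
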