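import Mathlib
import Cfsg.Statements.S3183
import Cfsg.Agent.Lib.helper58.PGroupBasics
import Cfsg.Agent.Lib.helper58.SylowTools

set_option autoImplicit false
open Cfsg

namespace Cfsg.Agent.S3183

open Cfsg.Agent.Lib.helper58

/-- Key lemma: under the central-intersection hypothesis, an element lying in two distinct Sylow
2-subgroups `S ≠ T` is central in `S`. -/
theorem central_of_mem_inf {G : Type*} [Group G] [Finite G]
    (hCI : ∀ S T : Sylow 2 G, S ≠ T → ∃ U : Sylow 2 G,
      (S : Subgroup G) ⊓ (T : Subgroup G) ≤ (Subgroup.center ↥(U : Subgroup G)).map (U : Subgroup G).subtype)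
    (S T : Sylow 2 G) (hST : S ≠ T) (x : G) (hxS : x ∈ (S : Subgroup G)) (hxT : x ∈ (T : Subgroup G)) :
    ∀ s ∈ (S : Subgroup G), s * x = x * s := by
  have : Fact (Nat.Prime 2) := ⟨Nat.prime_two⟩
  by_contra hcon
  push Not at hcon
  obtain ⟨s0, hs0S, hs0⟩ := hcon
  obtain ⟨U, hU⟩ := hCI S T hST
  have hxU := hU ⟨hxS, hxT⟩
  rw [mem_map_center_iff] at hxU
  obtain ⟨hxU1, hxUc⟩ := hxU
  set C := Subgroup.centralizer ({x} : Set G) with hC
  set A := (S : Subgroup G) ⊓ C with hA
  have hUC : (U : Subgroup G) ≤ C := by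
    intro u hu
    rw [hC, Subgroup.mem_centralizer_singleton_iff]
    exact hxUc u hu
  have hAp : IsPGroup 2 A := S.isPGroup'.to_le inf_le_left
  obtain ⟨c, hcC, hcA⟩ := exists_conj_mem_sylow_of_le U hUC (inf_le_right : A ≤ C) hAp
  set V : Sylow 2 G := c⁻¹ • U with hV
  have hAV : ∀ a ∈ A, a ∈ V := by
    intro a ha
    rw [hV, mem_smul_sylow_iff]
    have h := hcA a ha
    simp only [inv_inv]
    exact h
  have hcx : Commute c x := Subgroup.mem_centralizer_singleton_iff.mp hcC
  have hVx : ∀ v ∈ V, v * x = x * v := by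
    intro v hv
    rw [hV, mem_smul_sylow_iff] at hv
    simp only [inv_inv] at hv
    have h1 : Commute (c * v * c⁻¹) x := hxUc _ hv
    have h2 : Commute (c⁻¹ * (c * v * c⁻¹) * c) x := ((hcx.inv_left).mul_left h1).mul_left hcx
    have e : c⁻¹ * (c * v * c⁻¹) * c = v := by group
    rw [e] at h2
    exact h2
  have hVS : S ≠ V := by
    intro h
    apply hs0
    exact hVx s0 (h ▸ hs0S)
  obtain ⟨U', hU'⟩ := hCI S V hVS
  have hAU' : ∀ a ∈ A, a ∈ (U' : Subgroup G) ∧ ∀ u ∈ (U' : Subgroup G), u * a = a * u := by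
    intro a ha
    have := hU' ⟨ha.1, hAV a ha⟩
    rwa [mem_map_center_iff] at this
  have hAS : A ≠ (S : Subgroup G) := by
    intro h
    apply hs0
    have : s0 ∈ A := h ▸ hs0S
    exact Subgroup.mem_centralizer_singleton_iff.mp this.2
  obtain ⟨y, hyS, hyA, hyN⟩ := exists_mem_normalizer_notMem S.isPGroup' (inf_le_left : A ≤ S) hAS
  set N := Subgroup.normalizer (A : Set G) with hN
  have hU'N : (U' : Subgroup G) ≤ N := by
    rw [hN, Subgroup.le_normalizer_iff]
    intro u hu a ha
    have := (hAU' a ha).2 u hu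
    have e : u * a * u⁻¹ = a := by rw [this]; group
    rw [e]; exact ha
  have hyp : IsPGroup 2 (Subgroup.zpowers y) := isPGroup_zpowers_of_mem S.isPGroup' hyS
  have hyN' : Subgroup.zpowers y ≤ N := by rw [Subgroup.zpowers_le]; exact hyN
  obtain ⟨n, hnN, hn⟩ := exists_conj_mem_sylow_of_le U' hU'N hyN' hyp
  have hy' : n * y * n⁻¹ ∈ (U' : Subgroup G) := hn y (Subgroup.mem_zpowers y)
  have hxA : x ∈ A := Subgroup.mem_inf.mpr ⟨hxS, Subgroup.mem_centralizer_singleton_iff.mpr rfl⟩
  have hnx : n * x * n⁻¹ ∈ A := (Subgroup.mem_normalizer_iff.mp hnN x).mp hxA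
  have h1 := (hAU' _ hnx).2 _ hy'
  have hyx : y * x = x * y := by
    have h2 : n * (y * x) * n⁻¹ = n * (x * y) * n⁻¹ := by
      calc n * (y * x) * n⁻¹ = (n * y * n⁻¹) * (n * x * n⁻¹) := by group
        _ = (n * x * n⁻¹) * (n * y * n⁻¹) := h1
        _ = n * (x * y) * n⁻¹ := by group
    exact mul_left_cancel (mul_right_cancel h2)
  apply hyA
  exact Subgroup.mem_inf.mpr ⟨hyS, Subgroup.mem_centralizer_singleton_iff.mpr hyx⟩

/-- Let G be a finite group in which any two distinct Sylow 2-subgroups intersect in a subgroup of the centre of some Sylow 2-subgroup, and let S be a Sylow 2-subgroup of G. Then for every x in S the subgroup C_S(x) is a Sylow 2-subgroup of C_G(x), and for every Sylow 2-subgroup T ≠ S the intersection S ∩ T is contained in Z(S) ∩ Z(T). -/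
theorem result {G : Type*} [Group G] [Finite G]
    (hCI : ∀ S T : Sylow 2 G, S ≠ T → ∃ U : Sylow 2 G,
      (S : Subgroup G) ⊓ (T : Subgroup G) ≤ (Subgroup.center ↥(U : Subgroup G)).map (U : Subgroup G).subtype)
    (S : Sylow 2 G) :
    (∀ x ∈ (S : Subgroup G), ∀ P : Subgroup G, IsPGroup 2 ↥P → P ≤ Subgroup.centralizer ({x} : Set G) →
        Nat.card ↥P ≤ Nat.card ↥((S : Subgroup G) ⊓ Subgroup.centralizer ({x} : Set G))) ∧
    (∀ T : Sylow 2 G, T ≠ S →
        (S : Subgroup G) ⊓ (T : Subgroup G) ≤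
          (Subgroup.center ↥(S : Subgroup G)).map (S : Subgroup G).subtype ⊓
            (Subgroup.center ↥(T : Subgroup G)).map (T : Subgroup G).subtype) := by
  have : Fact (Nat.Prime 2) := ⟨Nat.prime_two⟩
  constructor
  · intro x hxS P hP hPC
    -- P ⊔ ⟨x⟩ is a 2-group
    have hxp : IsPGroup 2 (Subgroup.zpowers x) := isPGroup_zpowers_of_mem S.isPGroup' hxS
    have hPn : P ≤ Subgroup.normalizer ((Subgroup.zpowers x : Subgroup G) : Set G) := by
      rw [Subgroup.le_normalizer_iff]
      intro g hg k hk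
      have hgx : g * x = x * g := Subgroup.mem_centralizer_singleton_iff.mp (hPC hg)
      obtain ⟨m, rfl⟩ := Subgroup.mem_zpowers_iff.mp hk
      have hc : Commute g (x ^ m) := Commute.zpow_right hgx m
      have e : g * x ^ m * g⁻¹ = x ^ m := by rw [hc.eq]; group
      rw [e]; exact Subgroup.zpow_mem_zpowers x m
    have hsup : IsPGroup 2 ↥(P ⊔ Subgroup.zpowers x) := IsPGroup.to_sup_of_normal_right' hP hxp hPn
    obtain ⟨Q, hQ⟩ := hsup.exists_le_sylow
    have hxQ : x ∈ (Q : Subgroup G) := hQ (le_sup_right (a := P) (Subgroup.mem_zpowers x))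
    by_cases hQS : Q = S
    · -- P ≤ S ⊓ C(x)
      apply Subgroup.card_le_of_le
      intro g hg
      refine ⟨?_, hPC hg⟩
      have : g ∈ (Q : Subgroup G) := hQ (le_sup_left (b := Subgroup.zpowers x) hg)
      rw [hQS] at this
      exact this
    · -- x central in S
      have hcen := central_of_mem_inf hCI S Q (fun h => hQS h.symm) x hxS hxQ
      have hSle : (S : Subgroup G) ≤ (S : Subgroup G) ⊓ Subgroup.centralizer ({x} : Set G) := by
        intro s hs
        exact ⟨hs, Subgroup.mem_centralizer_singleton_iff.mpr (hcen s hs)⟩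
      have h1 : Nat.card ↥P ≤ Nat.card ↥(Q : Subgroup G) :=
        Subgroup.card_le_of_le (le_sup_left.trans hQ)
      have h2 : Nat.card ↥(Q : Subgroup G) = Nat.card ↥(S : Subgroup G) := by
        rw [Sylow.card_eq_multiplicity, Sylow.card_eq_multiplicity]
      have h3 := Subgroup.card_le_of_le hSle
      omega
  · intro T hTS x hx
    have hx1 := (Subgroup.mem_inf.mp hx).1
    have hx2 := (Subgroup.mem_inf.mp hx).2
    exact Subgroup.mem_inf.mpr
      ⟨(mem_map_center_iff _ _).mpr ⟨hx1, central_of_mem_inf hCI S T (fun h => hTS h.symm) x hx1 hx2⟩,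
       (mem_map_center_iff _ _).mpr ⟨hx2, central_of_mem_inf hCI T S hTS x hx2 hx1⟩⟩

end Cfsg.Agent.S3183
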