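import Mathlib
import Cfsg.Statements.S3190
import Cfsg.Agent.Lib.helper58.PGroupBasics
import Cfsg.Agent.Lib.helper55.Basic

set_option autoImplicit false
open Cfsg

namespace Cfsg.Agent.S3190

open Cfsg.Agent.Lib.helper58

/-- Let p be an odd prime, let T be a four-group acting on a p-group P, and let R be a T-invariant normal subgroup of P with P = R · C_P(T). If T centralizes Z(P), then T centralizes Z(R). -/
theorem result {X : Type*} [Group X] [Finite X]
    {p : ℕ} (hp : p.Prime) (hodd : Odd p) (P T R : Subgroup X) (hP : IsPGroup p ↥P) (hT : IsKleinFour ↥T)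
    (hTP : T ≤ Subgroup.normalizer (P : Set X)) (hRP : R ≤ P) (hRn : (R.subgroupOf P).Normal)
    (hTR : T ≤ Subgroup.normalizer (R : Set X)) (hfac : R ⊔ (P ⊓ Subgroup.centralizer (T : Set X)) = P)
    (hZ : T ≤ Subgroup.centralizer (((Subgroup.center ↥P).map P.subtype : Subgroup X) : Set X)) :
    T ≤ Subgroup.centralizer (((Subgroup.center ↥R).map R.subtype : Subgroup X) : Set X) := by
  have : Fact p.Prime := ⟨hp⟩
  set ZR : Subgroup X := (Subgroup.center ↥R).map R.subtype with hZR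
  have hPR : P ≤ Subgroup.normalizer (R : Set X) :=
    (Subgroup.normal_subgroupOf_iff_le_normalizer hRP).mp hRn
  -- conjugation by a normalizing element preserves ZR
  have hconjZR : ∀ g ∈ Subgroup.normalizer (R : Set X), ∀ z ∈ ZR, g * z * g⁻¹ ∈ ZR := by
    intro g hg z hz
    rw [hZR, mem_map_center_iff] at hz ⊢
    obtain ⟨hzR, hzc⟩ := hz
    have hgn := Subgroup.mem_normalizer_iff.mp hg
    refine ⟨(hgn z).mp hzR, ?_⟩
    intro r hr
    have hr' : g⁻¹ * r * g ∈ R := by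
      have hg' := (Subgroup.normalizer (R : Set X)).inv_mem hg
      have := (Subgroup.mem_normalizer_iff.mp hg' r).mp hr
      simpa using this
    have h1 := hzc _ hr'
    calc r * (g * z * g⁻¹) = g * ((g⁻¹ * r * g) * z) * g⁻¹ := by group
      _ = g * (z * (g⁻¹ * r * g)) * g⁻¹ := by rw [h1]
      _ = g * z * g⁻¹ * r := by group
  -- ZR is abelian
  have hZRcomm : ∀ z ∈ ZR, ∀ z' ∈ ZR, z * z' = z' * z := by
    intro z hz z' hz'
    rw [hZR, mem_map_center_iff] at hz hz'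
    exact hz'.2 z hz.1
  have hZRR : ZR ≤ R := by
    intro z hz
    rw [hZR, mem_map_center_iff] at hz
    exact hz.1
  intro t ht
  rw [Subgroup.mem_centralizer_iff]
  intro z hz
  -- order of t is coprime to p
  have htord : (orderOf t).Coprime p := by
    have h2 : t ^ 2 = 1 := by
      have := hT.exponent_two
      have h3 : (⟨t, ht⟩ : T) ^ 2 = 1 := by
        rw [← this]; exact Monoid.pow_exponent_eq_one _
      exact congrArg Subtype.val h3
    have hd : orderOf t ∣ 2 := orderOf_dvd_of_pow_eq_one h2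
    have hc2 : Nat.Coprime 2 p := by
      rw [Nat.coprime_comm]
      exact Nat.Coprime.symm (Nat.coprime_two_left.mpr hodd)
    exact Nat.Coprime.coprime_dvd_left hd hc2
  -- the commutator homomorphism
  have htN : t ∈ Subgroup.normalizer (R : Set X) := hTR ht
  have hφmem : ∀ z ∈ ZR, t * z * t⁻¹ * z⁻¹ ∈ ZR := fun z hz =>
    ZR.mul_mem (hconjZR t htN z hz) (ZR.inv_mem hz)
  let φ : ↥ZR →* X :=
    { toFun := fun z => t * z * t⁻¹ * (z : X)⁻¹
      map_one' := by simp
      map_mul' := by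
        intro a b
        have h1 := hZRcomm _ (ZR.inv_mem a.2) _ (hφmem b b.2)
        simp only [Subgroup.coe_mul]
        calc t * ((a : X) * b) * t⁻¹ * ((a : X) * b)⁻¹
            = t * a * t⁻¹ * ((t * b * t⁻¹ * (b : X)⁻¹) * (a : X)⁻¹) := by group
          _ = t * a * t⁻¹ * ((a : X)⁻¹ * (t * b * t⁻¹ * (b : X)⁻¹)) := by rw [h1]
          _ = t * a * t⁻¹ * (a : X)⁻¹ * (t * b * t⁻¹ * (b : X)⁻¹) := by group }
  set W : Subgroup X := φ.range with hW
  have hWZR : W ≤ ZR := by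
    rintro _ ⟨a, rfl⟩
    exact hφmem a a.2
  have hWP : W ≤ P := hWZR.trans (hZRR.trans hRP)
  -- P normalizes W
  have hRW : R ≤ Subgroup.normalizer (W : Set X) := by
    rw [Subgroup.le_normalizer_iff]
    intro r hr w hw
    have hwz := hWZR hw
    rw [hZR, mem_map_center_iff] at hwz
    have : r * w * r⁻¹ = w := by
      rw [hwz.2 r hr]; group
    rw [this]; exact hw
  have hCW : P ⊓ Subgroup.centralizer (T : Set X) ≤ Subgroup.normalizer (W : Set X) := by
    rw [Subgroup.le_normalizer_iff]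
    rintro c ⟨hcP, hcT⟩ _ ⟨a, rfl⟩
    have hct : t * c = c * t := (Subgroup.mem_centralizer_iff.mp hcT) t ht
    have hct' : t⁻¹ * c⁻¹ = c⁻¹ * t⁻¹ := by
      rw [← mul_inv_rev, ← mul_inv_rev, hct]
    have hca : c * a * c⁻¹ ∈ ZR := hconjZR c (hPR hcP) a a.2
    refine ⟨⟨c * a * c⁻¹, hca⟩, ?_⟩
    show t * (c * a * c⁻¹) * t⁻¹ * (c * (a : X) * c⁻¹)⁻¹ = c * (t * a * t⁻¹ * (a : X)⁻¹) * c⁻¹
    calc t * (c * a * c⁻¹) * t⁻¹ * (c * (a : X) * c⁻¹)⁻¹
        = (t * c) * a * (c⁻¹ * t⁻¹) * c * (a : X)⁻¹ * c⁻¹ := by group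
      _ = (c * t) * a * (t⁻¹ * c⁻¹) * c * (a : X)⁻¹ * c⁻¹ := by rw [hct, hct']
      _ = c * (t * a * t⁻¹ * (a : X)⁻¹) * c⁻¹ := by group
  have hPW : P ≤ Subgroup.normalizer (W : Set X) := by
    rw [← hfac]; exact sup_le hRW hCW
  -- W is trivial
  have hWbot : W = ⊥ := by
    by_contra hne
    obtain ⟨w, hwW, hw1, hwc⟩ := exists_central_mem_of_le_normalizer hP hWP hPW hne
    obtain ⟨a, rfl⟩ := hwW
    have hwZP : φ a ∈ (Subgroup.center ↥P).map P.subtype := by
      rw [mem_map_center_iff]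
      exact ⟨hWP ⟨a, rfl⟩, hwc⟩
    have hcomm : Commute t (t * a * t⁻¹ * (a : X)⁻¹) := by
      have := (Subgroup.mem_centralizer_iff.mp (hZ ht)) _ hwZP
      exact this.symm
    have hmemP : t * a * t⁻¹ * (a : X)⁻¹ ∈ P := hWP ⟨a, rfl⟩
    have hta : Commute t (a : X) := Cfsg.Agent.Lib.helper55.commute_of_quadratic hP htord hmemP hcomm
    apply hw1
    show t * a * t⁻¹ * (a : X)⁻¹ = 1
    rw [hta.eq]; group
  have hz1 : t * z * t⁻¹ * z⁻¹ = 1 := by
    have : φ ⟨z, hz⟩ ∈ W := ⟨⟨z, hz⟩, rfl⟩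
    rw [hWbot, Subgroup.mem_bot] at this
    exact this
  calc z * t = (t * z * t⁻¹ * z⁻¹)⁻¹ * (t * z) := by group
    _ = t * z := by rw [hz1]; group

end Cfsg.Agent.S3190
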