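import Mathlib
import Cfsg.Statements.S3195
import Cfsg.Agent.Lib.helper91.BaerSuzuki
import Cfsg.Agent.Lib.helper55.Basic

set_option autoImplicit false
open Cfsg

namespace Cfsg.Agent.S3195

open Subgroup

universe u

theorem four_sq {G : Type*} [Group G] (A : Subgroup G) [IsKleinFour ↥A] {x : G} (hx : x ∈ A) :
    x * x = 1 := by
  have h := IsKleinFour.mul_self (⟨x, hx⟩ : ↥A)
  exact congrArg Subtype.val h

theorem inv_of_sq {G : Type*} [Group G] {x : G} (hx : x * x = 1) : x⁻¹ = x :=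
  inv_eq_of_mul_eq_one_left hx

theorem four_comm {G : Type*} [Group G] (A : Subgroup G) [IsKleinFour ↥A] {x y : G} (hx : x ∈ A)
    (hy : y ∈ A) : x * y = y * x := by
  have h1 := inv_of_sq (four_sq A hx)
  have h2 := inv_of_sq (four_sq A hy)
  have h3 := inv_of_sq (four_sq A (A.mul_mem hx hy))
  rw [mul_inv_rev, h1, h2] at h3
  exact h3.symm

theorem four_cases {G : Type*} [Group G] (A : Subgroup G) [IsKleinFour ↥A] {a b s : G}
    (ha : a ∈ A) (hb : b ∈ A) (ha1 : a ≠ 1) (hb1 : b ≠ 1) (hab : a ≠ b) (hs : s ∈ A) :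
    s = 1 ∨ s = a ∨ s = b ∨ s = a * b := by
  by_cases h1 : s = 1
  · exact Or.inl h1
  by_cases h2 : s = a
  · exact Or.inr (Or.inl h2)
  by_cases h3 : s = b
  · exact Or.inr (Or.inr (Or.inl h3))
  right; right; right
  have h := IsKleinFour.eq_mul_of_ne_all (G := ↥A) (x := ⟨a, ha⟩) (y := ⟨b, hb⟩) (z := ⟨s, hs⟩)
    (fun e => ha1 (congrArg Subtype.val e)) (fun e => hb1 (congrArg Subtype.val e))
    (fun e => hab (congrArg Subtype.val e)) (fun e => h1 (congrArg Subtype.val e))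
    (fun e => h2 (congrArg Subtype.val e)) (fun e => h3 (congrArg Subtype.val e))
  exact congrArg Subtype.val h

theorem four_exists_ne_one {G : Type*} [Group G] (A : Subgroup G) [IsKleinFour ↥A] :
    ∃ a ∈ A, a ≠ 1 := by
  by_contra hcon
  push Not at hcon
  have h : A = ⊥ := (eq_bot_iff_forall A).mpr hcon
  have h4 := IsKleinFour.card_four (G := ↥A)
  have h1 : Nat.card ↥A = 1 := by rw [h]; simp
  omega

theorem isKleinFour_of_equiv {A B : Type*} [Group A] [Group B] (e : A ≃* B) [IsKleinFour A] :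
    IsKleinFour B where
  card_four := by rw [← Nat.card_congr e.toEquiv]; exact IsKleinFour.card_four
  exponent_two := by rw [← Monoid.exponent_eq_of_mulEquiv e]; exact IsKleinFour.exponent_two

theorem eq_one_of_odd_of_sq {G : Type*} [Group G] {v : G} {m : ℕ} (hm : Odd m) (hv : v ^ m = 1)
    (h2 : v * v = 1) : v = 1 := by
  obtain ⟨k, rfl⟩ := hm
  rw [pow_succ, pow_mul, pow_two, h2, one_pow, one_mul] at hv
  exact hv

theorem exists_pow_sq {G : Type*} [Group G] {v : G} {m : ℕ} (hm : Odd m) (hv : v ^ m = 1) :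
    ∃ j : ℕ, (v * v) ^ j = v := by
  obtain ⟨k, rfl⟩ := hm
  refine ⟨k + 1, ?_⟩
  rw [← pow_two, ← pow_mul]
  have e : 2 * (k + 1) = (2 * k + 1) + 1 := by ring
  rw [e, pow_succ, hv, one_mul]

theorem isPGroup_zpowers_of_pow {G : Type*} [Group G] {p n : ℕ} {c : G} (hc : c ^ (p ^ n) = 1) :
    IsPGroup p ↥(zpowers c) := by
  rintro ⟨z, hz⟩
  obtain ⟨i, rfl⟩ := mem_zpowers_iff.mp hz
  refine ⟨n, ?_⟩
  apply Subtype.ext
  simp only [SubgroupClass.coe_pow, OneMemClass.coe_one]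
  rw [← zpow_natCast, ← zpow_mul, mul_comm, zpow_mul, zpow_natCast, hc, one_zpow]

theorem conj_sq {G : Type*} [Group G] (g : G) {x : G} (hx : x * x = 1) :
    (g * x * g⁻¹) * (g * x * g⁻¹) = 1 := by
  have e : g * x * g⁻¹ * (g * x * g⁻¹) = g * (x * x) * g⁻¹ := by group
  rw [e, hx]; group

/-- Two involutions whose product has 2-power order generate a 2-group. -/
theorem isPGroup_two_of_pow {G : Type*} [Group G] {s t : G} (hs : s * s = 1) (ht : t * t = 1)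
    (n : ℕ) (h : (s * t) ^ (2 ^ n) = 1) : IsPGroup 2 ↥(zpowers s ⊔ zpowers t) := by
  have : Fact (Nat.Prime 2) := ⟨Nat.prime_two⟩
  have hsi := inv_of_sq hs
  have hti := inv_of_sq ht
  have hd : IsPGroup 2 ↥(zpowers (s * t)) := isPGroup_zpowers_of_pow h
  have hs' : IsPGroup 2 ↥(zpowers s) := isPGroup_zpowers_of_pow (n := 1) (by rw [pow_one, pow_two]; exact hs)
  have hn : zpowers s ≤ normalizer ((zpowers (s * t) : Subgroup G) : Set G) := by
    rw [zpowers_le, mem_normalizer_iff_map_conj_eq, MonoidHom.map_zpowers]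
    have e : (MulAut.conj s) (s * t) = (s * t)⁻¹ := by
      show s * (s * t) * s⁻¹ = (s * t)⁻¹
      rw [mul_inv_rev, hsi, hti, ← mul_assoc, hs, one_mul]
    show zpowers ((MulAut.conj s) (s * t)) = zpowers (s * t)
    rw [e, zpowers_inv]
  have hbig := IsPGroup.to_sup_of_normal_right' hs' hd hn
  apply hbig.to_le
  apply sup_le le_sup_left
  rw [zpowers_le]
  have h3 : s⁻¹ * (s * t) ∈ zpowers s ⊔ zpowers (s * t) :=
    mul_mem (mem_sup_left (inv_mem (mem_zpowers s))) (mem_sup_right (mem_zpowers _))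
  have e : s⁻¹ * (s * t) = t := by group
  rwa [e] at h3

theorem exists_odd_inverted {G : Type u} [Group G] [Finite G] {x : G} (hx : x * x = 1)
    (hxc : x ∉ pCore 2 G) :
    ∃ v : G, v ≠ 1 ∧ (∃ m : ℕ, Odd m ∧ v ^ m = 1) ∧ x * v * x⁻¹ = v⁻¹ := by
  have : Fact (Nat.Prime 2) := ⟨Nat.prime_two⟩
  have h1 : ∃ g : G, ∀ n : ℕ, (x * (g * x * g⁻¹)) ^ (2 ^ n) ≠ 1 := by
    by_contra hcon
    push Not at hcon
    apply hxc
    obtain ⟨N, hN, hNp, hxN⟩ := Cfsg.Agent.Lib.helper91.baer_suzuki_subgroup (p := 2) (zpowers x) (by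
      intro g
      obtain ⟨n, hn⟩ := hcon g
      have h2 := isPGroup_two_of_pow hx (conj_sq g hx) n hn
      rw [MonoidHom.map_zpowers]
      exact h2)
    exact Cfsg.Agent.Lib.helper55.le_pCore hN hNp (hxN (mem_zpowers x))
  obtain ⟨g, hg⟩ := h1
  have hx'2 : (g * x * g⁻¹) * (g * x * g⁻¹) = 1 := conj_sq g hx
  obtain ⟨x', hx'⟩ : ∃ x', x' = g * x * g⁻¹ := ⟨_, rfl⟩
  rw [← hx'] at hg hx'2
  have hd0 : orderOf (x * x') ≠ 0 := (orderOf_pos (x * x')).ne'
  obtain ⟨k, m, hm, hkm⟩ := Nat.exists_eq_two_pow_mul_odd hd0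
  refine ⟨(x * x') ^ (2 ^ k), hg k, ⟨m, hm, ?_⟩, ?_⟩
  · rw [← pow_mul, ← hkm]; exact pow_orderOf_eq_one _
  · have h2 : x * (x * x') * x⁻¹ = (x * x')⁻¹ := by
      rw [mul_inv_rev, inv_of_sq hx, inv_of_sq hx'2, ← mul_assoc, hx, one_mul]
    rw [← inv_pow, ← h2, conj_pow]

theorem exists_conj_eq_mul {G : Type*} [Group G] {x v : G} {m : ℕ} (hm : Odd m) (hv : v ^ m = 1)
    (hinv : x * v * x⁻¹ = v⁻¹) : ∃ r : G, r * x * r⁻¹ = x * v := by
  obtain ⟨k, rfl⟩ := hm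
  refine ⟨(v ^ (k + 1))⁻¹, ?_⟩
  have h1 : x * v ^ (k + 1) * x⁻¹ = (v ^ (k + 1))⁻¹ := by rw [← conj_pow, hinv, inv_pow]
  have h2 : v ^ (k + 1) * v ^ (k + 1) = v := by
    rw [← pow_add]
    have e : k + 1 + (k + 1) = (2 * k + 1) + 1 := by ring
    rw [e, pow_succ, hv, one_mul]
  obtain ⟨w, hw⟩ : ∃ w, w = v ^ (k + 1) := ⟨_, rfl⟩
  rw [← hw] at h1 h2 ⊢
  rw [inv_inv, ← h1]
  calc x * w * x⁻¹ * x * w = x * (w * w) := by group
    _ = x * v := by rw [h2]


/-- `t` centralizes `v`, the other involutions of `A` invert it; `v` nontrivial of odd order. -/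
def Q {G : Type*} [Group G] (A : Subgroup G) (t v : G) : Prop :=
  v ≠ 1 ∧ (∃ m : ℕ, Odd m ∧ v ^ m = 1) ∧ t * v = v * t ∧
    ∀ s ∈ A, s ≠ 1 → s ≠ t → s * v * s⁻¹ = v⁻¹

theorem step3 {G : Type u} [Group G] [Finite G] (A : Subgroup G) [IsKleinFour ↥A]
    (h : ∀ a ∈ A, a ≠ 1 → ∀ g : G, ∃ t ∈ A, t ≠ 1 ∧ t * (g * a * g⁻¹) = (g * a * g⁻¹) * t)
    (hcon : ∀ s ∈ A, s ≠ 1 → s ∉ pCore 2 G) {x : G} (hx : x ∈ A) (hx1 : x ≠ 1) :
    ∃ t ∈ A, t ≠ 1 ∧ t ≠ x ∧ ∃ v, Q A t v := by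
  have hx2 := four_sq A hx
  obtain ⟨v, hv1, ⟨m, hm, hvm⟩, hinv⟩ := exists_odd_inverted hx2 (hcon x hx hx1)
  obtain ⟨r, hr⟩ := exists_conj_eq_mul hm hvm hinv
  obtain ⟨t, ht, ht1, htc⟩ := h x hx hx1 r
  rw [hr] at htc
  have htx := four_comm A ht hx
  have htv : t * v = v * t := by
    have h3 : x * (t * v) = x * (v * t) := by
      calc x * (t * v) = x * t * v := by group
        _ = t * x * v := by rw [htx]
        _ = t * (x * v) := by group
        _ = x * v * t := htc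
        _ = x * (v * t) := by group
    exact mul_left_cancel h3
  have htvt : t * v * t⁻¹ = v := by rw [htv]; group
  have htx' : t ≠ x := by
    rintro rfl
    rw [htvt] at hinv
    have h4 : v * v = 1 := by
      nth_rewrite 2 [hinv]
      group
    exact hv1 (eq_one_of_odd_of_sq hm hvm h4)
  refine ⟨t, ht, ht1, htx', v, hv1, ⟨m, hm, hvm⟩, htv, ?_⟩
  intro s hs hs1 hst
  rcases four_cases A hx ht hx1 ht1 (Ne.symm htx') hs with h1 | h2 | h3 | h4
  · exact absurd h1 hs1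
  · rw [h2]; exact hinv
  · exact absurd h3 hst
  · rw [h4]
    have e : x * t * v * (x * t)⁻¹ = x * (t * v * t⁻¹) * x⁻¹ := by group
    rw [e, htvt]; exact hinv

theorem step5 {G : Type*} [Group G] {x y v w : G} {J : Subgroup G} (hxJ : x ∈ J) (hyJ : y ∈ J)
    (hx'J : (v * w) * x * (v * w)⁻¹ ∈ J) (hy'J : (v * w) * y * (v * w)⁻¹ ∈ J)
    (hx2 : x * x = 1) (hy2 : y * y = 1)
    (hxv : x * v * x⁻¹ = v⁻¹) (hyv : y * v = v * y) (hyw : y * w * y⁻¹ = w⁻¹) (hxw : x * w = w * x)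
    {m n : ℕ} (hm : Odd m) (hvm : v ^ m = 1) (hn : Odd n) (hwn : w ^ n = 1) : v ∈ J ∧ w ∈ J := by
  have hxi := inv_of_sq hx2
  have hyi := inv_of_sq hy2
  have h1 : x * ((v * w) * x * (v * w)⁻¹) = v⁻¹ * v⁻¹ := by
    have e1 : w * x * w⁻¹ = x := by rw [← hxw]; group
    calc x * ((v * w) * x * (v * w)⁻¹) = x * v * (w * x * w⁻¹) * v⁻¹ := by group
      _ = x * v * x * v⁻¹ := by rw [e1]
      _ = (x * v * x⁻¹) * v⁻¹ := by rw [hxi]
      _ = v⁻¹ * v⁻¹ := by rw [hxv]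
  have hv2 : v * v ∈ J := by
    have h3 := J.mul_mem hxJ hx'J
    rw [h1] at h3
    have h4 := J.inv_mem h3
    have e : (v⁻¹ * v⁻¹)⁻¹ = v * v := by rw [mul_inv_rev, inv_inv]
    rwa [e] at h4
  have hvJ : v ∈ J := by
    obtain ⟨j, hj⟩ := exists_pow_sq hm hvm
    rw [← hj]; exact J.pow_mem hv2 j
  have h2 : y * ((v * w) * y * (v * w)⁻¹) = v * (w⁻¹ * w⁻¹) * v⁻¹ := by
    calc y * ((v * w) * y * (v * w)⁻¹) = (y * v) * w * y * w⁻¹ * v⁻¹ := by group
      _ = v * y * w * y * w⁻¹ * v⁻¹ := by rw [hyv]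
      _ = v * (y * w * y) * w⁻¹ * v⁻¹ := by group
      _ = v * (y * w * y⁻¹) * w⁻¹ * v⁻¹ := by rw [hyi]
      _ = v * w⁻¹ * w⁻¹ * v⁻¹ := by rw [hyw]
      _ = v * (w⁻¹ * w⁻¹) * v⁻¹ := by group
  have hw2 : w * w ∈ J := by
    have h3 := J.mul_mem hyJ hy'J
    rw [h2] at h3
    have h4 : v⁻¹ * (v * (w⁻¹ * w⁻¹) * v⁻¹) * v ∈ J :=
      J.mul_mem (J.mul_mem (J.inv_mem hvJ) h3) hvJ
    have e : v⁻¹ * (v * (w⁻¹ * w⁻¹) * v⁻¹) * v = (w * w)⁻¹ := by group
    rw [e] at h4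
    exact J.inv_mem_iff.mp h4
  have hwJ : w ∈ J := by
    obtain ⟨j, hj⟩ := exists_pow_sq hn hwn
    rw [← hj]; exact J.pow_mem hw2 j
  exact ⟨hvJ, hwJ⟩

theorem eq_one_of_inverted_by_core {L : Type*} [Group L] {s u : L} (hs : s ∈ pCore 2 L)
    (hinv : s * u * s⁻¹ = u⁻¹) {m : ℕ} (hm : Odd m) (hu : u ^ m = 1) : u = 1 := by
  have hN := Cfsg.Agent.Lib.helper55.pCore_normal' 2 L
  have h1 : s * (u * s⁻¹ * u⁻¹) ∈ pCore 2 L :=
    (pCore 2 L).mul_mem hs (hN.conj_mem _ ((pCore 2 L).inv_mem hs) u)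
  have e : s * (u * s⁻¹ * u⁻¹) = u⁻¹ * u⁻¹ := by
    calc s * (u * s⁻¹ * u⁻¹) = (s * u * s⁻¹) * u⁻¹ := by group
      _ = u⁻¹ * u⁻¹ := by rw [hinv]
  rw [e] at h1
  have h2 : (u⁻¹ * u⁻¹) ^ m = 1 := by
    rw [← pow_two, ← pow_mul, mul_comm, pow_mul, inv_pow, hu, inv_one, one_pow]
  have h3 : u⁻¹ * u⁻¹ = 1 := by
    apply Cfsg.Agent.Lib.helper55.eq_one_of_mem_of_coprime
      (Cfsg.Agent.Lib.helper55.pCore_isPGroup 2 L) h1
    have hd : orderOf (u⁻¹ * u⁻¹) ∣ m := orderOf_dvd_of_pow_eq_one h2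
    exact Nat.Coprime.of_dvd_left hd (Nat.coprime_two_right.mpr hm)
  have h4 : u * u = 1 := by
    have h5 := congrArg (·⁻¹) h3
    simpa using h5
  exact eq_one_of_odd_of_sq hm hu h4

theorem sub_step {G : Type u} [Group G] (A : Subgroup G) [IsKleinFour ↥A]
    (h : ∀ a ∈ A, a ≠ 1 → ∀ g : G, ∃ t ∈ A, t ≠ 1 ∧ t * (g * a * g⁻¹) = (g * a * g⁻¹) * t)
    (J : Subgroup G) (hAJ : A ≤ J)
    (ih : ∀ (A' : Subgroup ↥J), IsKleinFour ↥A' →
      (∀ a ∈ A', a ≠ 1 → ∀ g : ↥J, ∃ t ∈ A', t ≠ 1 ∧ t * (g * a * g⁻¹) = (g * a * g⁻¹) * t) →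
      ∃ s ∈ A', s ≠ 1 ∧ s ∈ pCore 2 ↥J) :
    ∃ s : ↥J, (s : G) ∈ A ∧ s ≠ 1 ∧ s ∈ pCore 2 ↥J := by
  have hK : IsKleinFour ↥(A.subgroupOf J) := isKleinFour_of_equiv (subgroupOfEquivOfLe hAJ).symm
  obtain ⟨s, hs, hs1, hsc⟩ := ih (A.subgroupOf J) hK (by
    intro a ha ha1 g
    have haA : (a : G) ∈ A := mem_subgroupOf.mp ha
    have ha1' : (a : G) ≠ 1 := fun e => ha1 (Subtype.ext e)
    obtain ⟨t, ht, ht1, htc⟩ := h (a : G) haA ha1' (g : G)
    refine ⟨⟨t, hAJ ht⟩, mem_subgroupOf.mpr ht, fun e => ht1 (congrArg Subtype.val e), ?_⟩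
    apply Subtype.ext
    simpa using htc)
  exact ⟨s, mem_subgroupOf.mp hs, hs1, hsc⟩

theorem pCore_quot_eq_bot {G : Type*} [Group G] (p : ℕ) :
    pCore p (G ⧸ pCore p G) = ⊥ := by
  rw [eq_bot_iff]
  intro q hq
  obtain ⟨g, rfl⟩ := QuotientGroup.mk'_surjective (pCore p G) q
  have hMn : ((pCore p (G ⧸ pCore p G)).comap (QuotientGroup.mk' (pCore p G))).Normal :=
    (Cfsg.Agent.Lib.helper55.pCore_normal' p _).comap _
  have hMp : IsPGroup p ↥((pCore p (G ⧸ pCore p G)).comap (QuotientGroup.mk' (pCore p G))) :=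
    (Cfsg.Agent.Lib.helper55.pCore_isPGroup p _).comap_of_ker_isPGroup _ (by
      rw [QuotientGroup.ker_mk']; exact Cfsg.Agent.Lib.helper55.pCore_isPGroup p G)
  have h1 := Cfsg.Agent.Lib.helper55.le_pCore hMn hMp (mem_comap.mpr hq)
  rw [mem_bot]
  exact (QuotientGroup.eq_one_iff g).mpr h1

theorem quot_step {G : Type u} [Group G] (A : Subgroup G) [IsKleinFour ↥A]
    (h : ∀ a ∈ A, a ≠ 1 → ∀ g : G, ∃ t ∈ A, t ≠ 1 ∧ t * (g * a * g⁻¹) = (g * a * g⁻¹) * t)
    (hcon : ∀ s ∈ A, s ≠ 1 → s ∉ pCore 2 G)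
    (ih : ∀ (A' : Subgroup (G ⧸ pCore 2 G)), IsKleinFour ↥A' →
      (∀ a ∈ A', a ≠ 1 → ∀ g : G ⧸ pCore 2 G,
        ∃ t ∈ A', t ≠ 1 ∧ t * (g * a * g⁻¹) = (g * a * g⁻¹) * t) →
      ∃ s ∈ A', s ≠ 1 ∧ s ∈ pCore 2 (G ⧸ pCore 2 G)) : False := by
  have hker : ∀ a ∈ A, QuotientGroup.mk' (pCore 2 G) a = 1 → a = 1 := by
    intro a ha h1
    by_contra hne
    exact hcon a ha hne ((QuotientGroup.eq_one_iff a).mp h1)
  have hinj : Function.Injective ((QuotientGroup.mk' (pCore 2 G)).subgroupMap A) := by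
    rw [injective_iff_map_eq_one]
    intro a ha
    apply Subtype.ext
    have h2 : QuotientGroup.mk' (pCore 2 G) (a : G) = 1 := congrArg Subtype.val ha
    exact hker a a.2 h2
  have hK : IsKleinFour ↥(A.map (QuotientGroup.mk' (pCore 2 G))) :=
    isKleinFour_of_equiv (MulEquiv.ofBijective ((QuotientGroup.mk' (pCore 2 G)).subgroupMap A)
      ⟨hinj, (QuotientGroup.mk' (pCore 2 G)).subgroupMap_surjective A⟩)
  obtain ⟨s, hs, hs1, hsc⟩ := ih (A.map (QuotientGroup.mk' (pCore 2 G))) hK (by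
    rintro _ ⟨a, ha, rfl⟩ ha1 q
    obtain ⟨g, rfl⟩ := QuotientGroup.mk'_surjective (pCore 2 G) q
    have ha1' : a ≠ 1 := by
      rintro rfl
      exact ha1 (map_one _)
    obtain ⟨t, ht, ht1, htc⟩ := h a ha ha1' g
    refine ⟨QuotientGroup.mk' (pCore 2 G) t, mem_map_of_mem _ ht, fun e1 => ht1 (hker t ht e1), ?_⟩
    have h3 := congrArg (QuotientGroup.mk' (pCore 2 G)) htc
    simpa using h3)
  rw [pCore_quot_eq_bot, mem_bot] at hsc
  exact hs1 hsc


theorem central_sq_eq_one {G : Type*} [Group G] (hcore : pCore 2 G = ⊥) {z : G}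
    (hz : ∀ g : G, g * z = z * g) (hz2 : z * z = 1) : z = 1 := by
  have hn : (zpowers z).Normal := by
    constructor
    intro n hn g
    obtain ⟨i, rfl⟩ := mem_zpowers_iff.mp hn
    have hc : Commute g (z ^ i) := Commute.zpow_right (hz g) i
    have e : g * z ^ i * g⁻¹ = z ^ i := by rw [hc.eq]; group
    rw [e]; exact zpow_mem_zpowers z i
  have hp : IsPGroup 2 ↥(zpowers z) :=
    isPGroup_zpowers_of_pow (n := 1) (by rw [pow_one, pow_two]; exact hz2)
  have h1 := Cfsg.Agent.Lib.helper55.le_pCore hn hp (mem_zpowers z)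
  rw [hcore, mem_bot] at h1
  exact h1

theorem le_centralizer_of_two {G : Type*} [Group G] (D : Subgroup G) [IsKleinFour ↥D]
    {z d₁ d₂ : G} (hd₁ : d₁ ∈ D) (hd₂ : d₂ ∈ D) (h1 : d₁ ≠ 1) (h2 : d₂ ≠ 1) (h12 : d₁ ≠ d₂)
    (hc1 : z * d₁ = d₁ * z) (hc2 : z * d₂ = d₂ * z) : D ≤ centralizer ({z} : Set G) := by
  intro s hs
  rw [mem_centralizer_singleton_iff]
  rcases four_cases D hd₁ hd₂ h1 h2 h12 hs with e | e | e | e
  · rw [e]; simp
  · rw [e]; exact hc1.symm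
  · rw [e]; exact hc2.symm
  · rw [e]
    calc d₁ * d₂ * z = d₁ * (d₂ * z) := by group
      _ = d₁ * (z * d₂) := by rw [hc2]
      _ = (d₁ * z) * d₂ := by group
      _ = (z * d₁) * d₂ := by rw [hc1]
      _ = z * (d₁ * d₂) := by group

theorem central_of_two {G : Type*} [Group G] (hcore : pCore 2 G = ⊥) (C D : Subgroup G)
    [IsKleinFour ↥C] [IsKleinFour ↥D] (htop : C ⊔ D = ⊤) {c d₁ d₂ : G} (hc : c ∈ C)
    (hd₁ : d₁ ∈ D) (hd₂ : d₂ ∈ D) (h1 : d₁ ≠ 1) (h2 : d₂ ≠ 1) (h12 : d₁ ≠ d₂)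
    (hc1 : c * d₁ = d₁ * c) (hc2 : c * d₂ = d₂ * c) : c = 1 := by
  apply central_sq_eq_one hcore _ (four_sq C hc)
  intro g
  have hg : g ∈ C ⊔ D := by rw [htop]; exact mem_top g
  have hle : C ⊔ D ≤ centralizer ({c} : Set G) := by
    apply sup_le
    · intro s hs
      rw [mem_centralizer_singleton_iff]
      exact four_comm C hs hc
    · exact le_centralizer_of_two D hd₁ hd₂ h1 h2 h12 hc1 hc2
  exact mem_centralizer_singleton_iff.mp (hle hg)

theorem matching_eq {G : Type*} [Group G] {a b a' b' : G} (ha : a * a = 1) (hb : b * b = 1)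
    (ha' : a' * a' = 1) (hb' : b' * b' = 1)
    (haa' : a * a' = a' * a) (hbb' : b * b' = b' * b)
    (hcc' : (a * b) * (a' * b') = (a' * b') * (a * b)) :
    (a' * b) * (a' * b) = (a * b') * (a * b') := by
  have e1 : a * ((a' * b) * (a' * b)) * b' = b' * a := by
    calc a * ((a' * b) * (a' * b)) * b' = (a * a') * b * a' * (b * b') := by group
      _ = (a' * a) * b * a' * (b' * b) := by rw [haa', hbb']
      _ = a' * ((a * b) * (a' * b')) * b := by group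
      _ = a' * ((a' * b') * (a * b)) * b := by rw [hcc']
      _ = (a' * a') * b' * a * (b * b) := by group
      _ = b' * a := by rw [ha', hb, one_mul, mul_one]
  calc (a' * b) * (a' * b) = a⁻¹ * (a * ((a' * b) * (a' * b)) * b') * b'⁻¹ := by group
    _ = a⁻¹ * (b' * a) * b'⁻¹ := by rw [e1]
    _ = a * (b' * a) * b' := by rw [inv_of_sq ha, inv_of_sq hb']
    _ = (a * b') * (a * b') := by group

theorem matching_sq {G : Type*} [Group G] {a b' u : G} (ha : a * a = 1) (hb' : b' * b' = 1)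
    (hu : u = (a * b') * (a * b')) (hau : a * u = u * a) : u * u = 1 := by
  have e : a * u * a = u := by rw [hau, mul_assoc, ha, mul_one]
  calc u * u = u * (a * u * a) := by rw [e]
    _ = (a * b') * (a * b') * (a * ((a * b') * (a * b')) * a) := by rw [← hu]
    _ = a * b' * a * (b' * (a * a) * b') * a * b' * a := by group
    _ = a * b' * a * (b' * b') * a * b' * a := by rw [ha, mul_one]
    _ = a * b' * (a * a) * b' * a := by rw [hb']; group
    _ = a * (b' * b') * a := by rw [ha]; group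
    _ = 1 := by rw [hb', mul_one, ha]

theorem step7 {G : Type*} [Group G] (A : Subgroup G) [IsKleinFour ↥A]
    (h : ∀ a ∈ A, a ≠ 1 → ∀ g : G, ∃ t ∈ A, t ≠ 1 ∧ t * (g * a * g⁻¹) = (g * a * g⁻¹) * t)
    (hcore : pCore 2 G = ⊥) {a b : G} (ha : a ∈ A) (hb : b ∈ A) (ha1 : a ≠ 1) (hb1 : b ≠ 1)
    (hab : a ≠ b) (g : G) (htop : A ⊔ A.map (MulAut.conj g).toMonoidHom = ⊤) : False := by
  have hK : IsKleinFour ↥(A.map (MulAut.conj g).toMonoidHom) :=
    isKleinFour_of_equiv (A.equivMapOfInjective _ (MulAut.conj g).injective)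
  have htop' : A.map (MulAut.conj g).toMonoidHom ⊔ A = ⊤ := by rw [sup_comm]; exact htop
  have hAB : ∀ a ∈ A, a ≠ 1 → ∃ b ∈ A.map (MulAut.conj g).toMonoidHom, b ≠ 1 ∧ a * b = b * a := by
    intro a ha ha1
    obtain ⟨t, ht, ht1, htc⟩ := h a ha ha1 g⁻¹
    refine ⟨g * t * g⁻¹, ⟨t, ht, rfl⟩, ?_, ?_⟩
    · intro e
      apply ht1
      have e2 : t = g⁻¹ * (g * t * g⁻¹) * g := by group
      rw [e2, e]; group
    · rw [inv_inv] at htc
      calc a * (g * t * g⁻¹) = g * ((g⁻¹ * a * g) * t) * g⁻¹ := by group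
        _ = g * (t * (g⁻¹ * a * g)) * g⁻¹ := by rw [htc]
        _ = g * t * g⁻¹ * a := by group
  have ha2 := four_sq A ha
  have hb2 := four_sq A hb
  have hab2 := four_sq A (A.mul_mem ha hb)
  have habc := four_comm A ha hb
  have hab1 : a * b ≠ 1 := by
    intro e
    apply hab
    have e2 : a = b⁻¹ := eq_inv_of_mul_eq_one_left e
    rw [e2, inv_of_sq hb2]
  have haab : a ≠ a * b := by
    intro e
    apply hb1
    have e2 : a * 1 = a * b := by rw [mul_one]; exact e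
    exact (mul_left_cancel e2).symm
  have hbab : b ≠ a * b := by
    intro e
    apply ha1
    have e2 : 1 * b = a * b := by rw [one_mul]; exact e
    exact (mul_right_cancel e2).symm
  obtain ⟨a', ha'B, ha'1, haa'⟩ := hAB a ha ha1
  obtain ⟨b', hb'B, hb'1, hbb'⟩ := hAB b hb hb1
  have hne' : a' ≠ b' := by
    rintro rfl
    exact ha'1 (central_of_two hcore _ A htop' ha'B ha hb ha1 hb1 hab haa'.symm hbb'.symm)
  have hnab' : ¬ (a * b' = b' * a) := fun e =>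
    ha1 (central_of_two hcore A _ htop ha ha'B hb'B ha'1 hb'1 hne' haa' e)
  obtain ⟨d, hdB, hd1, hcd⟩ := hAB (a * b) (A.mul_mem ha hb) hab1
  have ha'2 := four_sq _ ha'B
  have hb'2 := four_sq _ hb'B
  have ha'b' := four_comm _ ha'B hb'B
  rcases four_cases _ ha'B hb'B ha'1 hb'1 hne' hdB with e | e | e | e
  · exact hd1 e
  · rw [e] at hcd
    exact ha'1 (central_of_two hcore _ A htop' ha'B ha (A.mul_mem ha hb) ha1 hab1 haab
      haa'.symm hcd.symm)
  · rw [e] at hcd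
    exact hb'1 (central_of_two hcore _ A htop' hb'B hb (A.mul_mem ha hb) hb1 hab1 hbab
      hbb'.symm hcd.symm)
  · rw [e] at hcd
    have hu := matching_eq ha2 hb2 ha'2 hb'2 haa' hbb' hcd
    obtain ⟨u, hu1⟩ : ∃ u, u = (a' * b) * (a' * b) := ⟨_, rfl⟩
    have hu2 : u = (a * b') * (a * b') := hu1.trans hu
    have c1 : Commute a a' := haa'
    have c2 : Commute a b := habc
    have c3 : Commute b b' := hbb'
    have c4 : Commute a' b' := ha'b'
    have hua : a * u = u * a := by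
      rw [hu1]
      exact ((c1.mul_right c2).mul_right (c1.mul_right c2)).eq
    have hub' : b' * u = u * b' := by
      rw [hu1]
      exact ((c4.symm.mul_right c3.symm).mul_right (c4.symm.mul_right c3.symm)).eq
    have hua' : a' * u = u * a' := by
      rw [hu2]
      exact ((c1.symm.mul_right c4).mul_right (c1.symm.mul_right c4)).eq
    have hub : b * u = u * b := by
      rw [hu2]
      exact ((c2.symm.mul_right c3).mul_right (c2.symm.mul_right c3)).eq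
    have husq : u * u = 1 := matching_sq ha2 hb'2 hu2 hua
    have hucen : ∀ k : G, k * u = u * k := by
      intro k
      have hk : k ∈ A ⊔ A.map (MulAut.conj g).toMonoidHom := by rw [htop]; exact mem_top k
      have hle : A ⊔ A.map (MulAut.conj g).toMonoidHom ≤ centralizer ({u} : Set G) := by
        apply sup_le
        · exact le_centralizer_of_two A ha hb ha1 hb1 hab hua.symm hub.symm
        · exact le_centralizer_of_two _ ha'B hb'B ha'1 hb'1 hne' hua'.symm hub'.symm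
      exact mem_centralizer_singleton_iff.mp (hle hk)
    have hu_one : u = 1 := central_sq_eq_one hcore hucen husq
    apply hnab'
    rw [hu_one] at hu2
    have e3 : (a * b')⁻¹ = a * b' := inv_of_sq hu2.symm
    rw [mul_inv_rev, inv_of_sq ha2, inv_of_sq hb'2] at e3
    exact e3.symm

theorem main (n : ℕ) : ∀ (G : Type u) [Group G] [Finite G], Nat.card G = n →
    ∀ (A : Subgroup G), IsKleinFour ↥A →
    (∀ a ∈ A, a ≠ 1 → ∀ g : G, ∃ t ∈ A, t ≠ 1 ∧ t * (g * a * g⁻¹) = (g * a * g⁻¹) * t) →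
    ∃ s ∈ A, s ≠ 1 ∧ s ∈ pCore 2 G := by
  induction n using Nat.strong_induction_on with
  | _ n ih =>
    intro G _ _ hn A hA h
    by_contra hcon
    have hcon' : ∀ s ∈ A, s ≠ 1 → s ∉ pCore 2 G := fun s hs hs1 hsc => hcon ⟨s, hs, hs1, hsc⟩
    have hcore : pCore 2 G = ⊥ := by
      by_contra hne
      apply quot_step A h hcon'
      intro A' hA' h'
      have hlt : Nat.card (G ⧸ pCore 2 G) < n := by
        rw [← hn, Subgroup.card_eq_card_quotient_mul_card_subgroup (pCore 2 G)]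
        have h1 : 1 < Nat.card ↥(pCore 2 G) := (Subgroup.one_lt_card_iff_ne_bot _).mpr hne
        have h0 : 0 < Nat.card (G ⧸ pCore 2 G) := Nat.card_pos
        nlinarith
      exact ih _ hlt (G ⧸ pCore 2 G) rfl A' hA' h'
    obtain ⟨x₀, hx₀, hx₀1⟩ := four_exists_ne_one A
    obtain ⟨y, hy, hy1, -, v, hQv⟩ := step3 A h hcon' hx₀ hx₀1
    obtain ⟨x, hx, hx1, hxy, w, hQw⟩ := step3 A h hcon' hy hy1
    obtain ⟨hv1, ⟨m, hm, hvm⟩, hyv, hvinv⟩ := hQv
    obtain ⟨hw1, ⟨n', hn', hwn⟩, hxw, hwinv⟩ := hQw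
    have hxv : x * v * x⁻¹ = v⁻¹ := hvinv x hx hx1 hxy
    have hyw : y * w * y⁻¹ = w⁻¹ := hwinv y hy hy1 (Ne.symm hxy)
    have hAJ : A ≤ A ⊔ A.map (MulAut.conj (v * w)).toMonoidHom := le_sup_left
    have hBJ : ∀ a ∈ A, (v * w) * a * (v * w)⁻¹ ∈ A ⊔ A.map (MulAut.conj (v * w)).toMonoidHom :=
      fun a ha => (le_sup_right : A.map (MulAut.conj (v * w)).toMonoidHom ≤ _) ⟨a, ha, rfl⟩
    obtain ⟨hvJ, hwJ⟩ := step5 (hAJ hx) (hAJ hy) (hBJ x hx) (hBJ y hy) (four_sq A hx)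
      (four_sq A hy) hxv hyv hyw hxw hm hvm hn' hwn
    have htop : A ⊔ A.map (MulAut.conj (v * w)).toMonoidHom = ⊤ := by
      by_contra hJtop
      have hlt : Nat.card ↥(A ⊔ A.map (MulAut.conj (v * w)).toMonoidHom) < n := by
        rw [← hn]
        apply lt_of_le_of_ne (Subgroup.card_le_card_group _)
        intro e
        exact hJtop (Subgroup.eq_top_of_card_eq _ e)
      obtain ⟨s, hsA, hs1, hsc⟩ := sub_step A h _ hAJ (fun A' hA' h' => ih _ hlt _ rfl A' hA' h')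
      have hs1' : (s : G) ≠ 1 := fun e => hs1 (Subtype.ext e)
      have key : ∃ u : ↥(A ⊔ A.map (MulAut.conj (v * w)).toMonoidHom),
          u ≠ 1 ∧ (∃ m, Odd m ∧ u ^ m = 1) ∧ s * u * s⁻¹ = u⁻¹ := by
        by_cases hsy : (s : G) = y
        · refine ⟨⟨w, hwJ⟩, fun e => hw1 (congrArg Subtype.val e),
            ⟨n', hn', by
              apply Subtype.ext
              simp only [SubgroupClass.coe_pow, OneMemClass.coe_one]
              exact hwn⟩, ?_⟩
          apply Subtype.ext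
          simp only [Subgroup.coe_mul, Subgroup.coe_inv, hsy]
          exact hyw
        · refine ⟨⟨v, hvJ⟩, fun e => hv1 (congrArg Subtype.val e),
            ⟨m, hm, by
              apply Subtype.ext
              simp only [SubgroupClass.coe_pow, OneMemClass.coe_one]
              exact hvm⟩, ?_⟩
          apply Subtype.ext
          simp only [Subgroup.coe_mul, Subgroup.coe_inv]
          exact hvinv (s : G) hsA hs1' hsy
      obtain ⟨u, hu1, ⟨m', hm', hum⟩, huinv⟩ := key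
      exact hu1 (eq_one_of_inverted_by_core hsc huinv hm' hum)
    exact step7 A h hcore hx hy hx1 hy1 hxy (v * w) htop

/-- Let A be a Klein four-subgroup of a finite group G. If every G-conjugate of every involution of A commutes with some involution of A (its centralizer meets A nontrivially), then A meets the largest normal 2-subgroup O₂(G) nontrivially. -/
theorem result {G : Type*} [Group G] [Finite G]
    (A : Subgroup G) (hA : IsKleinFour ↥A)
    (h : ∀ a ∈ A, a ≠ 1 → ∀ g : G, A ⊓ Subgroup.centralizer ({g * a * g⁻¹} : Set G) ≠ ⊥) :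
    A ⊓ Cfsg.pCore 2 G ≠ ⊥ := by
  have h' : ∀ a ∈ A, a ≠ 1 → ∀ g : G,
      ∃ t ∈ A, t ≠ 1 ∧ t * (g * a * g⁻¹) = (g * a * g⁻¹) * t := by
    intro a ha ha1 g
    have h1 := h a ha ha1 g
    rw [Ne, eq_bot_iff_forall] at h1
    push Not at h1
    obtain ⟨t, ht, ht1⟩ := h1
    exact ⟨t, (mem_inf.mp ht).1, ht1, mem_centralizer_singleton_iff.mp (mem_inf.mp ht).2⟩
  obtain ⟨s, hs, hs1, hsc⟩ := main (Nat.card G) G rfl A hA h'
  intro e
  have h2 : s ∈ A ⊓ pCore 2 G := mem_inf.mpr ⟨hs, hsc⟩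
  rw [e, mem_bot] at h2
  exact hs1 h2

end Cfsg.Agent.S3195
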