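import Mathlib
import Cfsg.Statements.S3196
import Cfsg.Agent.Lib.helper91.BaerSuzuki
import Cfsg.Agent.Lib.helper55.Basic
import Cfsg.Agent.Lib.helper58.PGroupBasics
import Cfsg.Agent.Lib.helper58.SylowTools

set_option autoImplicit false
open Cfsg

namespace Cfsg.Agent.S3196

open Subgroup

/-- Elementwise commuting of two subgroups. -/
abbrev CS {G : Type*} [Group G] (X Y : Subgroup G) : Prop := ∀ x ∈ X, ∀ y ∈ Y, x * y = y * x

theorem CS.symm {G : Type*} [Group G] {X Y : Subgroup G} (h : CS X Y) : CS Y X :=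
  fun y hy x hx => (h x hx y hy).symm

theorem CS.sup_left {G : Type*} [Group G] {X Y T : Subgroup G} (h1 : CS X T) (h2 : CS Y T) :
    CS (X ⊔ Y) T := by
  have hX : X ≤ centralizer (T : Set G) :=
    fun x hx => mem_centralizer_iff.mpr (fun t ht => (h1 x hx t ht).symm)
  have hY : Y ≤ centralizer (T : Set G) :=
    fun y hy => mem_centralizer_iff.mpr (fun t ht => (h2 y hy t ht).symm)
  intro z hz t ht
  exact (mem_centralizer_iff.mp (sup_le hX hY hz) t ht).symm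

theorem eq_zpowers {G : Type*} [Group G] {p : ℕ} (hp : p.Prime) {X : Subgroup G}
    (hX : Nat.card ↥X = p) {x : G} (hx : x ∈ X) (hx1 : x ≠ 1) : X = zpowers x := by
  have : Fact p.Prime := ⟨hp⟩
  have h := zpowers_eq_top_of_prime_card (G := ↥X) hX (g := ⟨x, hx⟩)
    (by intro h; apply hx1; exact congrArg Subtype.val h)
  apply le_antisymm
  · intro y hy
    have h' : (⟨y, hy⟩ : ↥X) ∈ zpowers (⟨x, hx⟩ : ↥X) := by rw [h]; exact mem_top _
    obtain ⟨k, hk⟩ := mem_zpowers_iff.mp h'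
    rw [mem_zpowers_iff]
    refine ⟨k, ?_⟩
    have := congrArg Subtype.val hk
    simpa using this
  · rw [zpowers_le]; exact hx

theorem pow_eq_one_of_mem {G : Type*} [Group G] {p : ℕ} {X : Subgroup G}
    (hX : Nat.card ↥X = p) {x : G} (hx : x ∈ X) : x ^ p = 1 := by
  have h := pow_card_eq_one' (G := ↥X) (x := ⟨x, hx⟩)
  rw [hX] at h
  have := congrArg Subtype.val h
  simpa using this

theorem exists_ne_one {G : Type*} [Group G] {p : ℕ} (hp : p.Prime) {X : Subgroup G}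
    (hX : Nat.card ↥X = p) : ∃ x ∈ X, x ≠ 1 := by
  by_contra hcon
  push Not at hcon
  have h : X = ⊥ := (eq_bot_iff_forall X).mpr hcon
  rw [h] at hX
  simp at hX
  exact hp.one_lt.ne' hX.symm

theorem isPGroup_of_card {G : Type*} [Group G] {p : ℕ} (hp : p.Prime) {X : Subgroup G}
    (hX : Nat.card ↥X = p) : IsPGroup p ↥X := by
  have : Fact p.Prime := ⟨hp⟩
  exact IsPGroup.of_card (n := 1) (by rw [hX, pow_one])

theorem CS_of_gen {G : Type*} [Group G] {p : ℕ} (hp : p.Prime) {X Y : Subgroup G}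
    (hX : Nat.card ↥X = p) (hY : Nat.card ↥Y = p)
    {x y : G} (hx : x ∈ X) (hx1 : x ≠ 1) (hy : y ∈ Y) (hy1 : y ≠ 1) (hxy : x * y = y * x) :
    CS X Y := by
  have e1 := eq_zpowers hp hX hx hx1
  have e2 := eq_zpowers hp hY hy hy1
  intro a ha b hb
  rw [e1] at ha; rw [e2] at hb
  obtain ⟨i, rfl⟩ := mem_zpowers_iff.mp ha
  obtain ⟨j, rfl⟩ := mem_zpowers_iff.mp hb
  exact (Commute.zpow_zpow hxy i j)

theorem CS_self {G : Type*} [Group G] {p : ℕ} (hp : p.Prime) {X : Subgroup G}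
    (hX : Nat.card ↥X = p) : CS X X := by
  obtain ⟨x, hx, hx1⟩ := exists_ne_one hp hX
  exact CS_of_gen hp hX hX hx hx1 hx hx1 rfl

theorem eq_of_mem_mem {G : Type*} [Group G] {p : ℕ} (hp : p.Prime) {X Y : Subgroup G}
    (hX : Nat.card ↥X = p) (hY : Nat.card ↥Y = p)
    {x : G} (hx : x ∈ X) (hy : x ∈ Y) (hx1 : x ≠ 1) : X = Y := by
  rw [eq_zpowers hp hX hx hx1, ← eq_zpowers hp hY hy hx1]

theorem mem_sup_of_CS {G : Type*} [Group G] {X Y : Subgroup G} (hc : CS X Y) {h : G}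
    (hh : h ∈ X ⊔ Y) : ∃ x ∈ X, ∃ y ∈ Y, h = x * y := by
  let S : Subgroup G :=
    { carrier := {h | ∃ x ∈ X, ∃ y ∈ Y, h = x * y}
      mul_mem' := by
        rintro a b ⟨x, hx, y, hy, rfl⟩ ⟨x', hx', y', hy', rfl⟩
        refine ⟨x * x', X.mul_mem hx hx', y * y', Y.mul_mem hy hy', ?_⟩
        have := hc x' hx' y hy
        calc x * y * (x' * y') = x * (y * x') * y' := by group
          _ = x * (x' * y) * y' := by rw [this]
          _ = x * x' * (y * y') := by group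
      one_mem' := ⟨1, X.one_mem, 1, Y.one_mem, by simp⟩
      inv_mem' := by
        rintro a ⟨x, hx, y, hy, rfl⟩
        refine ⟨x⁻¹, X.inv_mem hx, y⁻¹, Y.inv_mem hy, ?_⟩
        have := hc x hx y hy
        rw [this]; group }
  have hX : X ≤ S := fun x hx => ⟨x, hx, 1, Y.one_mem, by simp⟩
  have hY : Y ≤ S := fun y hy => ⟨1, X.one_mem, y, hy, by simp⟩
  exact sup_le hX hY hh

theorem pow_eq_one_of_mem_sup {G : Type*} [Group G] {p : ℕ} {X Y : Subgroup G}
    (hX : Nat.card ↥X = p) (hY : Nat.card ↥Y = p)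
    (hc : CS X Y) {h : G} (hh : h ∈ X ⊔ Y) : h ^ p = 1 := by
  obtain ⟨x, hx, y, hy, rfl⟩ := mem_sup_of_CS hc hh
  have : Commute x y := hc x hx y hy
  rw [this.mul_pow, pow_eq_one_of_mem hX hx, pow_eq_one_of_mem hY hy, one_mul]

theorem card_zpowers_of_pow {G : Type*} [Group G] {p : ℕ} (hp : p.Prime) {h : G} (h1 : h ≠ 1)
    (hpow : h ^ p = 1) : Nat.card ↥(zpowers h) = p := by
  have : Fact p.Prime := ⟨hp⟩
  rw [Nat.card_zpowers]
  exact orderOf_eq_prime hpow h1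

theorem isPGroup_sup_of_CS {G : Type*} [Group G] {p : ℕ} (hp : p.Prime) {A B : Subgroup G}
    (cA : Nat.card ↥A = p) (cB : Nat.card ↥B = p) (h : CS A B) : IsPGroup p ↥(A ⊔ B) := by
  have : Fact p.Prime := ⟨hp⟩
  apply IsPGroup.to_sup_of_normal_right' (isPGroup_of_card hp cA) (isPGroup_of_card hp cB)
  refine le_trans ?_ (centralizer_le_normalizer _)
  intro a ha
  rw [mem_centralizer_iff]
  intro b hb
  exact (h a ha b hb).symm

theorem abelian_sup {G : Type*} [Group G] {p : ℕ} (hp : p.Prime) {X Y : Subgroup G}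
    (cX : Nat.card ↥X = p) (cY : Nat.card ↥Y = p) (hc : CS X Y) : CS (X ⊔ Y) (X ⊔ Y) := by
  have h1 : CS (X ⊔ Y) X := CS.sup_left (CS_self hp cX) hc.symm
  have h2 : CS (X ⊔ Y) Y := CS.sup_left hc (CS_self hp cY)
  exact (CS.sup_left h1.symm h2.symm).symm


theorem isPGroup_zpowers_of_pow {G : Type*} [Group G] {p : ℕ} {c : G} (hc : c ^ p = 1) :
    IsPGroup p ↥(zpowers c) := by
  rintro ⟨z, hz⟩
  obtain ⟨i, rfl⟩ := mem_zpowers_iff.mp hz
  refine ⟨1, ?_⟩
  apply Subtype.ext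
  simp only [pow_one, SubgroupClass.coe_pow, OneMemClass.coe_one]
  rw [← zpow_natCast, ← zpow_mul, mul_comm, zpow_mul, zpow_natCast, hc, one_zpow]

/-- The pure group theory behind the "far pair" lemma. -/
theorem isPGroup_of_rel {G : Type*} [Group G] [Finite G] {p : ℕ} (hp : p.Prime) {X W : Subgroup G}
    (cX : Nat.card ↥X = p) (cW : Nat.card ↥W = p)
    {f g y t : G} (hf : f ∈ X) (hf1 : f ≠ 1) (hg : g ∈ W) (hg1 : g ≠ 1)
    (hyf : y * f = f * y) (hyg : y * g = g * y) (htf : t * f = f * t) (htg : t * g = g * t)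
    (hcomm : (g * t) * (f * y) = (f * y) * (g * t)) : IsPGroup p ↥(X ⊔ W) := by
  have : Fact p.Prime := ⟨hp⟩
  obtain ⟨c, hc⟩ : ∃ c, c = g⁻¹ * f⁻¹ * g * f := ⟨_, rfl⟩
  have hc' : c = y * t * y⁻¹ * t⁻¹ := by
    have h1 : g * f * (t * y) = f * g * (y * t) := by
      calc g * f * (t * y) = g * (f * t) * y := by group
        _ = g * (t * f) * y := by rw [htf]
        _ = g * t * (f * y) := by group
        _ = f * y * (g * t) := hcomm
        _ = f * (y * g) * t := by group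
        _ = f * (g * y) * t := by rw [hyg]
        _ = f * g * (y * t) := by group
    have h3 : g⁻¹ * f⁻¹ * (g * f * (t * y)) * (t * y)⁻¹ = c := by rw [hc]; group
    have h4 : g⁻¹ * f⁻¹ * (f * g * (y * t)) * (t * y)⁻¹ = y * t * y⁻¹ * t⁻¹ := by group
    rw [← h3, h1, h4]
  have hyf' : Commute y f := hyf
  have htf' : Commute t f := htf
  have hyg' : Commute y g := hyg
  have htg' : Commute t g := htg
  have hcf : Commute c f := by
    rw [hc']
    exact (((hyf'.mul_left htf').mul_left hyf'.inv_left).mul_left htf'.inv_left)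
  have hcg : Commute c g := by
    rw [hc']
    exact (((hyg'.mul_left htg').mul_left hyg'.inv_left).mul_left htg'.inv_left)
  have hconj : g * f * g⁻¹ = f * c := by
    calc g * f * g⁻¹ = f * (g * (g⁻¹ * f⁻¹ * g * f) * g⁻¹) := by group
      _ = f * (g * c * g⁻¹) := by rw [hc]
      _ = f * (c * g * g⁻¹) := by rw [hcg.eq]
      _ = f * c := by group
  have hgp : g ^ p = 1 := pow_eq_one_of_mem cW hg
  have h5 : (g * c) ^ p = 1 := by
    have e : g * c = f⁻¹ * g * f⁻¹⁻¹ := by rw [hc]; group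
    rw [e, conj_pow, hgp]; group
  have hcp : c ^ p = 1 := by
    have h6 := hcg.symm.mul_pow p
    rw [h5, hgp, one_mul] at h6
    exact h6.symm
  have hZ : IsPGroup p ↥(zpowers c) := isPGroup_zpowers_of_pow hcp
  have hXp := isPGroup_of_card hp cX
  have hWp := isPGroup_of_card hp cW
  have eX := eq_zpowers hp cX hf hf1
  have eW := eq_zpowers hp cW hg hg1
  have hDp : IsPGroup p ↥(X ⊔ zpowers c) := by
    apply IsPGroup.to_sup_of_normal_right' hXp hZ
    refine le_trans ?_ (centralizer_le_normalizer _)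
    rw [eX, zpowers_le, mem_centralizer_iff]
    intro z hz
    obtain ⟨i, rfl⟩ := mem_zpowers_iff.mp hz
    exact (hcf.zpow_left i).eq
  have hfD : f ∈ X ⊔ zpowers c := mem_sup_left hf
  have hcD : c ∈ X ⊔ zpowers c := mem_sup_right (mem_zpowers c)
  have hWD : W ≤ normalizer ((X ⊔ zpowers c : Subgroup G) : Set G) := by
    rw [eW, zpowers_le, mem_normalizer_iff_map_conj_eq]
    apply eq_of_le_of_card_ge
    · rw [Subgroup.map_sup, sup_le_iff]
      constructor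
      · rw [eX, MonoidHom.map_zpowers, zpowers_le]
        show g * f * g⁻¹ ∈ _
        rw [hconj, ← eX]
        exact mul_mem hfD hcD
      · rw [MonoidHom.map_zpowers, zpowers_le]
        show g * c * g⁻¹ ∈ _
        have e : g * c * g⁻¹ = c := by rw [← hcg.eq]; group
        rw [e]; exact hcD
    · rw [card_map_of_injective (MulAut.conj g).injective]
  have hbig := IsPGroup.to_sup_of_normal_right' hWp hDp hWD
  exact hbig.to_le (sup_le (le_sup_left.trans le_sup_right) le_sup_left)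

/-- The hypotheses of the statement, bundled. -/
structure Hyp {G : Type*} [Group G] (p : ℕ) (K : Set (Subgroup G)) : Prop where
  hp : p.Prime
  hK : ∀ X ∈ K, Nat.card ↥X = p
  hKc : ∀ X ∈ K, ∀ g : G, X.map (MulAut.conj g).toMonoidHom ∈ K
  ha : ∀ X ∈ K, ∀ Y ∈ K, X ≠ Y → (∀ x ∈ X, ∀ y ∈ Y, x * y = y * x) →
      ∀ Z : Subgroup G, Z ≤ X ⊔ Y → Nat.card ↥Z = p → Z ∈ K
  hb : ∀ X ∈ K, ∀ Y ∈ K, X ≠ Y → (∀ x ∈ X, ∀ y ∈ Y, x * y = y * x) →
      ∀ W ∈ K, (X ⊔ Y) ⊓ Subgroup.centralizer (W : Set G) ≠ ⊥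

theorem Hyp.point {G : Type*} [Group G] {p : ℕ} {K : Set (Subgroup G)} (H : Hyp p K)
    {X Y : Subgroup G} (hX : X ∈ K) (hY : Y ∈ K)
    (hne : X ≠ Y) (hc : CS X Y) {h : G} (hh : h ∈ X ⊔ Y) (h1 : h ≠ 1) : zpowers h ∈ K := by
  apply H.ha X hX Y hY hne hc
  · rw [zpowers_le]; exact hh
  · exact card_zpowers_of_pow H.hp h1 (pow_eq_one_of_mem_sup (H.hK X hX) (H.hK Y hY) hc hh)

theorem Hyp.exists_point {G : Type*} [Group G] {p : ℕ} {K : Set (Subgroup G)} (H : Hyp p K)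
    {X Y W : Subgroup G} (hX : X ∈ K) (hY : Y ∈ K)
    (hne : X ≠ Y) (hc : CS X Y) (hW : W ∈ K) :
    ∃ h ∈ X ⊔ Y, h ≠ 1 ∧ zpowers h ∈ K ∧ CS (zpowers h) W := by
  have hb := H.hb X hX Y hY hne hc W hW
  rw [Ne, eq_bot_iff_forall] at hb
  push Not at hb
  obtain ⟨h, hh, h1⟩ := hb
  have hh' := mem_inf.mp hh
  refine ⟨h, hh'.1, h1, H.point hX hY hne hc hh'.1 h1, ?_⟩
  intro a ha w hw
  obtain ⟨i, rfl⟩ := mem_zpowers_iff.mp ha
  have h2 : Commute h w := (mem_centralizer_iff.mp hh'.2 w hw).symm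
  exact (h2.zpow_left i).eq

/-- The far pair lemma. -/
theorem Hyp.far {G : Type*} [Group G] [Finite G] {p : ℕ} {K : Set (Subgroup G)} (H : Hyp p K)
    {X W Y T : Subgroup G} (hX : X ∈ K) (hW : W ∈ K) (hY : Y ∈ K) (hT : T ∈ K)
    (hfar : ¬ IsPGroup p ↥(X ⊔ W))
    (hYX : CS Y X) (hYW : CS Y W) (hTX : CS T X) (hTW : CS T W) : CS Y T := by
  have hp := H.hp
  have cX := H.hK X hX
  have cW := H.hK W hW
  have cY := H.hK Y hY
  have cT := H.hK T hT
  have hXW : ¬ CS X W := fun h => hfar (isPGroup_sup_of_CS hp cX cW h)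
  have hXY : X ≠ Y := by
    rintro rfl; exact hXW hYW
  have hWT : W ≠ T := by
    rintro rfl; exact hXW hTX.symm
  obtain ⟨f, hf, hf1⟩ := exists_ne_one hp cX
  obtain ⟨y, hy, hy1⟩ := exists_ne_one hp cY
  have hyf : y * f = f * y := hYX y hy f hf
  have hfy1 : f * y ≠ 1 := by
    intro h
    have e : y = f⁻¹ := eq_inv_of_mul_eq_one_right h
    have hyX : y ∈ X := by rw [e]; exact X.inv_mem hf
    exact hXY (eq_of_mem_mem hp cX cY hyX hy hy1)
  have hP : zpowers (f * y) ∈ K :=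
    H.point hX hY hXY hYX.symm (mul_mem (mem_sup_left hf) (mem_sup_right hy)) hfy1
  obtain ⟨h, hh, h1, -, hhP⟩ := H.exists_point hW hT hWT hTW.symm hP
  obtain ⟨g, hg, t, ht, rfl⟩ := mem_sup_of_CS hTW.symm hh
  have hcomm : (g * t) * (f * y) = (f * y) * (g * t) :=
    hhP (g * t) (mem_zpowers _) (f * y) (mem_zpowers _)
  have htf : t * f = f * t := hTX t ht f hf
  have hyg : y * g = g * y := hYW y hy g hg
  have htg : t * g = g * t := hTW t ht g hg
  by_cases hg1 : g = 1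
  · subst hg1
    have ht1 : t ≠ 1 := by simpa using h1
    have hty : t * y = y * t := by
      have h2 : t * (f * y) = (f * y) * t := by simpa using hcomm
      have h3 : f * (t * y) = f * (y * t) := by
        calc f * (t * y) = f * t * y := by group
          _ = t * f * y := by rw [htf]
          _ = t * (f * y) := by group
          _ = f * y * t := h2
          _ = f * (y * t) := by group
      exact mul_left_cancel h3
    exact (CS_of_gen hp cT cY ht ht1 hy hy1 hty).symm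
  by_cases ht1 : t = 1
  · subst ht1
    exfalso
    have hgf : g * f = f * g := by
      have h2 : g * (f * y) = (f * y) * g := by simpa using hcomm
      have h3 : g * f * y = f * g * y := by
        calc g * f * y = g * (f * y) := by group
          _ = f * y * g := h2
          _ = f * (y * g) := by group
          _ = f * (g * y) := by rw [hyg]
          _ = f * g * y := by group
      exact mul_right_cancel h3
    exact hXW (CS_of_gen hp cX cW hf hf1 hg hg1 hgf.symm)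
  · exfalso
    exact hfar (isPGroup_of_rel hp cX cW hf hf1 hg hg1 hyf hyg htf htg hcomm)


theorem Hyp.exists_line {G : Type*} [Group G] {p : ℕ} {K : Set (Subgroup G)} (H : Hyp p K)
    (hex : ∃ X ∈ K, ∃ Y ∈ K, X ≠ Y ∧ ∀ x ∈ X, ∀ y ∈ Y, x * y = y * x)
    {X : Subgroup G} (hX : X ∈ K) : ∃ X' ∈ K, X ≠ X' ∧ CS X X' := by
  obtain ⟨X₀, hX₀, Y₀, hY₀, hne, hc⟩ := hex
  obtain ⟨h, hh, h1, hhK, hhX⟩ := H.exists_point hX₀ hY₀ hne hc hX
  by_cases e : X = zpowers h
  · have hXle : X ≤ X₀ ⊔ Y₀ := by rw [e, zpowers_le]; exact hh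
    have ab : CS (X₀ ⊔ Y₀) (X₀ ⊔ Y₀) := abelian_sup H.hp (H.hK X₀ hX₀) (H.hK Y₀ hY₀) hc
    by_cases e0 : X = X₀
    · refine ⟨Y₀, hY₀, e0 ▸ hne, ?_⟩
      intro x hx y hy; exact ab x (hXle hx) y (mem_sup_right hy)
    · refine ⟨X₀, hX₀, e0, ?_⟩
      intro x hx y hy; exact ab x (hXle hx) y (mem_sup_left hy)
  · exact ⟨zpowers h, hhK, e, hhX.symm⟩

/-- If `a ∈ X ⊔ Y` (commuting, order `p`) and `⟨a⟩ ≠ Y`, then `X ≤ ⟨a⟩ ⊔ Y`. -/
theorem le_sup_of_point {G : Type*} [Group G] {p : ℕ} (hp : p.Prime) {X Y : Subgroup G}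
    (cX : Nat.card ↥X = p) (_cY : Nat.card ↥Y = p) (hc : CS X Y) {a : G} (ha : a ∈ X ⊔ Y)
    (hne : a ∉ Y) : X ≤ zpowers a ⊔ Y := by
  obtain ⟨x, hx, y, hy, rfl⟩ := mem_sup_of_CS hc ha
  have hx1 : x ≠ 1 := by
    rintro rfl
    apply hne
    simpa using hy
  rw [eq_zpowers hp cX hx hx1, zpowers_le]
  have h3 : (x * y) * y⁻¹ ∈ zpowers (x * y) ⊔ Y :=
    mul_mem (mem_sup_left (mem_zpowers _)) (mem_sup_right (inv_mem hy))
  have e : (x * y) * y⁻¹ = x := by group
  rwa [e] at h3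

theorem Hyp.radical_of_far {G : Type*} [Group G] [Finite G] {p : ℕ} {K : Set (Subgroup G)}
    (H : Hyp p K) (hex : ∃ X ∈ K, ∃ Y ∈ K, X ≠ Y ∧ ∀ x ∈ X, ∀ y ∈ Y, x * y = y * x)
    {X W : Subgroup G} (hX : X ∈ K) (hW : W ∈ K)
    (hfar : ¬ IsPGroup p ↥(X ⊔ W)) : ∃ V ∈ K, ∀ T ∈ K, CS V T := by
  have hp := H.hp
  have : Fact p.Prime := ⟨hp⟩
  have cX := H.hK X hX
  have cW := H.hK W hW
  have hXW : ¬ CS X W := fun h => hfar (isPGroup_sup_of_CS hp cX cW h)
  obtain ⟨X', hX', hne, hc⟩ := H.exists_line hex hX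
  obtain ⟨h, hh, h1, hYK, hYW⟩ := H.exists_point hX hX' hne hc hW
  have ab := abelian_sup hp cX (H.hK X' hX') hc
  have hYle : zpowers h ≤ X ⊔ X' := by rw [zpowers_le]; exact hh
  have hYX : CS (zpowers h) X := fun a ha x hx => ab a (hYle ha) x (mem_sup_left hx)
  have cY := H.hK _ hYK
  have hXY : X ≠ zpowers h := by
    intro e
    apply hXW
    have h2 : CS X W := by rw [e]; exact hYW
    exact h2
  have hWY : W ≠ zpowers h := by
    intro e
    apply hXW
    have h2 : CS W X := by rw [e]; exact hYX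
    exact h2.symm
  refine ⟨zpowers h, hYK, ?_⟩
  intro T hT
  by_contra hcon
  obtain ⟨a, ha, a1, hFK, hFT⟩ := H.exists_point hX hYK hXY hYX.symm hT
  obtain ⟨b, hb, b1, hGK, hGT⟩ := H.exists_point hW hYK hWY hYW.symm hT
  have abXY := abelian_sup hp cX cY hYX.symm
  have abWY := abelian_sup hp cW cY hYW.symm
  have hYF : CS (zpowers h) (zpowers a) :=
    fun u hu v hv => abXY u (mem_sup_right hu) v ((zpowers_le.mpr ha) hv)
  have hYG : CS (zpowers h) (zpowers b) :=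
    fun u hu v hv => abWY u (mem_sup_right hu) v ((zpowers_le.mpr hb) hv)
  have haY : a ∉ zpowers h := by
    intro haY
    apply hcon
    have e : zpowers a = zpowers h := eq_of_mem_mem hp (H.hK _ hFK) cY (mem_zpowers _) haY a1
    rw [← e]; exact hFT
  have hbY : b ∉ zpowers h := by
    intro hbY
    apply hcon
    have e : zpowers b = zpowers h := eq_of_mem_mem hp (H.hK _ hGK) cY (mem_zpowers _) hbY b1
    rw [← e]; exact hGT
  have hXle : X ≤ zpowers a ⊔ zpowers h := le_sup_of_point hp cX cY hYX.symm ha haY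
  have hWle : W ≤ zpowers b ⊔ zpowers h := le_sup_of_point hp cW cY hYW.symm hb hbY
  have hfar' : ¬ IsPGroup p ↥(zpowers a ⊔ zpowers b) := by
    intro hP
    apply hfar
    have hn : zpowers h ≤ normalizer ((zpowers a ⊔ zpowers b : Subgroup G) : Set G) := by
      refine le_trans ?_ (centralizer_le_normalizer _)
      intro u hu
      rw [mem_centralizer_iff]
      intro v hv
      exact ((CS.sup_left hYF.symm hYG.symm) v hv u hu)
    have hbig := IsPGroup.to_sup_of_normal_right' (isPGroup_of_card hp cY) hP hn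
    apply hbig.to_le
    apply sup_le
    · exact hXle.trans (sup_le (le_sup_left.trans le_sup_right) le_sup_left)
    · exact hWle.trans (sup_le (le_sup_right.trans le_sup_right) le_sup_left)
  exact hcon (H.far hFK hGK hYK hT hfar' hYF hYG hFT.symm hGT.symm)

theorem Hyp.radical_of_pgroup {G : Type*} [Group G] [Finite G] {p : ℕ} {K : Set (Subgroup G)}
    (H : Hyp p K) (hex : ∃ X ∈ K, ∃ Y ∈ K, X ≠ Y ∧ ∀ x ∈ X, ∀ y ∈ Y, x * y = y * x)
    {N : Subgroup G} (hN : IsPGroup p ↥N) (hKN : ∀ X ∈ K, X ≤ N) :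
    ∃ V ∈ K, ∀ T ∈ K, CS V T := by
  have hp := H.hp
  have : Fact p.Prime := ⟨hp⟩
  obtain ⟨X₀, hX₀, -⟩ := hex
  obtain ⟨V, hV, hmax⟩ := Set.exists_max_image K
    (fun V => Nat.card ↥(N ⊓ centralizer (V : Set G))) (Set.toFinite K) ⟨X₀, hX₀⟩
  refine ⟨V, hV, ?_⟩
  by_contra hcon
  have cV := H.hK V hV
  have hCN : N ⊓ centralizer (V : Set G) ≠ N := by
    intro e
    apply hcon
    intro T hT v hv t ht
    have h1 : t ∈ N ⊓ centralizer (V : Set G) := by rw [e]; exact hKN T hT ht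
    exact (mem_centralizer_iff.mp (mem_inf.mp h1).2 v hv)
  obtain ⟨g, hgN, hgC, hgn⟩ :=
    Cfsg.Agent.Lib.helper58.exists_mem_normalizer_notMem hN
      (inf_le_left : N ⊓ centralizer (V : Set G) ≤ N) hCN
  have hV'K : V.map (MulAut.conj g).toMonoidHom ∈ K := H.hKc V hV g
  have hVC : V ≤ N ⊓ centralizer (V : Set G) := fun v hv =>
    mem_inf.mpr ⟨hKN V hV hv, mem_centralizer_iff.mpr (fun w hw => CS_self hp cV w hw v hv)⟩
  have hCV : CS (N ⊓ centralizer (V : Set G)) V :=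
    fun c hc v hv => (mem_centralizer_iff.mp (mem_inf.mp hc).2 v hv).symm
  have hCV' : CS (N ⊓ centralizer (V : Set G)) (V.map (MulAut.conj g).toMonoidHom) := by
    rintro c hc _ ⟨v, hv, rfl⟩
    have h1 : g⁻¹ * c * g ∈ N ⊓ centralizer (V : Set G) := by
      apply (mem_normalizer_iff.mp hgn (g⁻¹ * c * g)).mpr
      have e : g * (g⁻¹ * c * g) * g⁻¹ = c := by group
      rw [e]; exact hc
    have h2 := hCV _ h1 v hv
    show c * (g * v * g⁻¹) = g * v * g⁻¹ * c
    calc c * (g * v * g⁻¹) = g * (g⁻¹ * c * g * v) * g⁻¹ := by group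
      _ = g * (v * (g⁻¹ * c * g)) * g⁻¹ := by rw [h2]
      _ = g * v * g⁻¹ * c := by group
  have hVV' : CS V (V.map (MulAut.conj g).toMonoidHom) := fun v hv w hw => hCV' v (hVC hv) w hw
  have hne : V ≠ V.map (MulAut.conj g).toMonoidHom := by
    intro e
    apply hgC
    have hgnV : g ∈ normalizer (V : Set G) := by
      rw [mem_normalizer_iff_map_conj_eq]
      exact e.symm
    have hVne : V ≠ ⊥ := by
      obtain ⟨v, hv, hv1⟩ := exists_ne_one hp cV
      intro e'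
      rw [e', mem_bot] at hv
      exact hv1 hv
    obtain ⟨w, hw, hw1, hwc⟩ := Cfsg.Agent.Lib.helper58.exists_central_mem_of_le_normalizer
      (P := N ⊓ normalizer (V : Set G)) (W := V) (hN.to_le inf_le_left)
      (le_inf (hKN V hV) le_normalizer) inf_le_right hVne
    have hgw : g * w = w * g := hwc g (mem_inf.mpr ⟨hgN, hgnV⟩)
    refine mem_inf.mpr ⟨hgN, ?_⟩
    rw [mem_centralizer_iff]
    intro v hv
    rw [eq_zpowers hp cV hw hw1] at hv
    obtain ⟨i, rfl⟩ := mem_zpowers_iff.mp hv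
    have h3 : Commute w g := hgw.symm
    exact (h3.zpow_left i).eq
  apply hcon
  intro T hT
  obtain ⟨h, hh, h1, hZK, hZT⟩ := H.exists_point hV hV'K hne hVV' hT
  have hle : N ⊓ centralizer (V : Set G) ≤ N ⊓ centralizer ((zpowers h : Subgroup G) : Set G) := by
    intro c hc
    refine mem_inf.mpr ⟨(mem_inf.mp hc).1, ?_⟩
    rw [mem_centralizer_iff]
    intro z hz
    exact ((CS.sup_left hCV.symm hCV'.symm) z ((zpowers_le.mpr hh) hz) c hc)
  have heq : N ⊓ centralizer (V : Set G) = N ⊓ centralizer ((zpowers h : Subgroup G) : Set G) :=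
    eq_of_le_of_card_ge hle (hmax _ hZK)
  intro v hv t ht
  have htC : t ∈ N ⊓ centralizer (V : Set G) := by
    rw [heq]
    refine mem_inf.mpr ⟨hKN T hT ht, ?_⟩
    rw [mem_centralizer_iff]
    intro z hz
    exact hZT z hz t ht
  exact (hCV t htC v hv).symm

theorem Hyp.radical_of_near {G : Type*} [Group G] [Finite G] {p : ℕ} {K : Set (Subgroup G)}
    (H : Hyp p K) (hex : ∃ X ∈ K, ∃ Y ∈ K, X ≠ Y ∧ ∀ x ∈ X, ∀ y ∈ Y, x * y = y * x)
    (hnear : ∀ X ∈ K, ∀ W ∈ K, IsPGroup p ↥(X ⊔ W)) : ∃ V ∈ K, ∀ T ∈ K, CS V T := by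
  have hp := H.hp
  have : Fact p.Prime := ⟨hp⟩
  have hconj : ∀ g : G, ∀ x ∈ {x : G | ∃ X ∈ K, x ∈ X}, g * x * g⁻¹ ∈ {x : G | ∃ X ∈ K, x ∈ X} := by
    rintro g x ⟨X, hX, hx⟩
    exact ⟨_, H.hKc X hX g, ⟨x, hx, rfl⟩⟩
  have h2 : ∀ x ∈ {x : G | ∃ X ∈ K, x ∈ X}, ∀ y ∈ {x : G | ∃ X ∈ K, x ∈ X},
      IsPGroup p (closure ({x, y} : Set G)) := by
    rintro x ⟨X, hX, hx⟩ y ⟨Y, hY, hy⟩
    apply (hnear X hX Y hY).to_le
    rw [closure_le]
    rintro z (rfl | rfl)
    · exact mem_sup_left hx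
    · exact mem_sup_right hy
  have hN : IsPGroup p (closure {x : G | ∃ X ∈ K, x ∈ X}) :=
    Cfsg.Agent.Lib.helper91.baer_suzuki _ hconj h2
  have hKN : ∀ X ∈ K, X ≤ closure {x : G | ∃ X ∈ K, x ∈ X} :=
    fun X hX x hx => subset_closure ⟨X, hX, hx⟩
  exact H.radical_of_pgroup hex hN hKN

theorem Hyp.exists_radical {G : Type*} [Group G] [Finite G] {p : ℕ} {K : Set (Subgroup G)}
    (H : Hyp p K) (hex : ∃ X ∈ K, ∃ Y ∈ K, X ≠ Y ∧ ∀ x ∈ X, ∀ y ∈ Y, x * y = y * x) :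
    ∃ V ∈ K, ∀ T ∈ K, CS V T := by
  by_cases hnear : ∀ X ∈ K, ∀ W ∈ K, IsPGroup p ↥(X ⊔ W)
  · exact H.radical_of_near hex hnear
  · push Not at hnear
    obtain ⟨X, hX, W, hW, hfar⟩ := hnear
    exact H.radical_of_far hex hX hW hfar

theorem Hyp.radical_le_pCore {G : Type*} [Group G] [Finite G] {p : ℕ} {K : Set (Subgroup G)}
    (H : Hyp p K) {V : Subgroup G} (hV : V ∈ K) (hVc : ∀ T ∈ K, CS V T) :
    V ≤ Cfsg.pCore p G := by
  have hp := H.hp
  have : Fact p.Prime := ⟨hp⟩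
  have hconj : ∀ g : G, ∀ x ∈ {x : G | ∃ X ∈ K, (∀ T ∈ K, CS X T) ∧ x ∈ X},
      g * x * g⁻¹ ∈ {x : G | ∃ X ∈ K, (∀ T ∈ K, CS X T) ∧ x ∈ X} := by
    rintro g x ⟨X, hX, hXc, hx⟩
    refine ⟨_, H.hKc X hX g, ?_, ⟨x, hx, rfl⟩⟩
    intro T hT
    rintro _ ⟨a, ha, rfl⟩ t ht
    have hT' := H.hKc T hT g⁻¹
    have h1 := hXc _ hT' a ha (g⁻¹ * t * g⁻¹⁻¹) ⟨t, ht, rfl⟩
    show g * a * g⁻¹ * t = t * (g * a * g⁻¹)
    have h1' : a * (g⁻¹ * t * g) = g⁻¹ * t * g * a := by simpa using h1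
    calc g * a * g⁻¹ * t = g * (a * (g⁻¹ * t * g)) * g⁻¹ := by group
      _ = g * (g⁻¹ * t * g * a) * g⁻¹ := by rw [h1']
      _ = t * (g * a * g⁻¹) := by group
  have h2 : ∀ x ∈ {x : G | ∃ X ∈ K, (∀ T ∈ K, CS X T) ∧ x ∈ X},
      ∀ y ∈ {x : G | ∃ X ∈ K, (∀ T ∈ K, CS X T) ∧ x ∈ X},
      IsPGroup p (closure ({x, y} : Set G)) := by
    rintro x ⟨X, hX, hXc, hx⟩ y ⟨Y, hY, hYc, hy⟩
    apply (isPGroup_sup_of_CS hp (H.hK X hX) (H.hK Y hY) (hXc Y hY)).to_le
    rw [closure_le]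
    rintro z (rfl | rfl)
    · exact mem_sup_left hx
    · exact mem_sup_right hy
  have hN := Cfsg.Agent.Lib.helper91.baer_suzuki _ hconj h2
  have hnorm := Cfsg.Agent.Lib.helper91.closure_normal_of_conj _ hconj
  have hle := Cfsg.Agent.Lib.helper55.le_pCore hnorm hN
  exact fun v hv => hle (subset_closure ⟨V, hV, hVc, hv⟩)

theorem Hyp.not_simple {G : Type*} [Group G] [Finite G] {p : ℕ} {K : Set (Subgroup G)}
    (H : Hyp p K) (hex : ∃ X ∈ K, ∃ Y ∈ K, X ≠ Y ∧ ∀ x ∈ X, ∀ y ∈ Y, x * y = y * x)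
    {V : Subgroup G} (hV : V ∈ K) (hle : V ≤ Cfsg.pCore p G) : ¬ IsSimpleGroup G := by
  intro hs
  have hp := H.hp
  have : Fact p.Prime := ⟨hp⟩
  have hnorm := Cfsg.Agent.Lib.helper55.pCore_normal' p G
  have hne : Cfsg.pCore p G ≠ ⊥ := by
    obtain ⟨v, hv, hv1⟩ := exists_ne_one hp (H.hK V hV)
    intro e
    have h1 := hle hv
    rw [e, mem_bot] at h1
    exact hv1 h1
  have htop : Cfsg.pCore p G = ⊤ := (hnorm.eq_bot_or_eq_top).resolve_left hne
  have hG : IsPGroup p G := by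
    have h1 := Cfsg.Agent.Lib.helper55.pCore_isPGroup p G
    rw [htop] at h1
    exact h1.of_equiv Subgroup.topEquiv
  have hcen : center G ≠ ⊥ := by
    have := hG.center_nontrivial
    exact (Subgroup.nontrivial_iff_ne_bot _).mp this
  have hctop : center G = ⊤ :=
    ((inferInstance : (center G).Normal).eq_bot_or_eq_top).resolve_left hcen
  have hall : ∀ X ∈ K, X = ⊤ := by
    intro X hX
    have hXn : X.Normal := by
      constructor
      intro n hn g
      have hg : g ∈ center G := by rw [hctop]; exact mem_top g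
      have e : g * n * g⁻¹ = n := by
        rw [← mem_center_iff.mp hg n]; group
      rw [e]; exact hn
    have hXne : X ≠ ⊥ := by
      obtain ⟨v, hv, hv1⟩ := exists_ne_one hp (H.hK X hX)
      intro e'
      rw [e', mem_bot] at hv
      exact hv1 hv
    exact (hXn.eq_bot_or_eq_top).resolve_left hXne
  obtain ⟨X, hX, Y, hY, hne', -⟩ := hex
  exact hne' ((hall X hX).trans (hall Y hY).symm)

/-- Let p be a prime and K a set of subgroups of order p of a finite group G, closed under conjugation, such that at least two distinct members of K commute elementwise, and whenever two distinct members X, Y of K commute: every subgroup of order p of the group XY they generate belongs to K, and every member W of K has centralizer meeting XY nontrivially. Then some member V of K commutes elementwise with every member of K and lies in O_p(G); in particular G is not simple. -/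
theorem result {G : Type*} [Group G] [Finite G]
    {p : ℕ} (hp : p.Prime) (K : Set (Subgroup G)) (hK : ∀ X ∈ K, Nat.card ↥X = p)
    (hKc : ∀ X ∈ K, ∀ g : G, X.map (MulAut.conj g).toMonoidHom ∈ K)
    (hex : ∃ X ∈ K, ∃ Y ∈ K, X ≠ Y ∧ ∀ x ∈ X, ∀ y ∈ Y, x * y = y * x)
    (ha : ∀ X ∈ K, ∀ Y ∈ K, X ≠ Y → (∀ x ∈ X, ∀ y ∈ Y, x * y = y * x) →
      ∀ Z : Subgroup G, Z ≤ X ⊔ Y → Nat.card ↥Z = p → Z ∈ K)
    (hb : ∀ X ∈ K, ∀ Y ∈ K, X ≠ Y → (∀ x ∈ X, ∀ y ∈ Y, x * y = y * x) →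
      ∀ W ∈ K, (X ⊔ Y) ⊓ Subgroup.centralizer (W : Set G) ≠ ⊥) :
    (∃ V ∈ K, (∀ W ∈ K, ∀ v ∈ V, ∀ w ∈ W, v * w = w * v) ∧ V ≤ Cfsg.pCore p G) ∧ ¬ IsSimpleGroup G := by
  have H : Hyp p K := ⟨hp, hK, hKc, ha, hb⟩
  obtain ⟨V, hV, hVc⟩ := H.exists_radical hex
  have hle := H.radical_le_pCore hV hVc
  exact ⟨⟨V, hV, hVc, hle⟩, H.not_simple hex hV hle⟩

end Cfsg.Agent.S3196
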