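import Mathlib
import Cfsg.Statements.S3200
import Cfsg.Agent.Lib.helper4.Burnside2
import Cfsg.Agent.Lib.helper4.BurnsidePQ
import Cfsg.Agent.Lib.lead.Hall

set_option autoImplicit false
open Cfsg

namespace Cfsg.Agent.S3200

open Subgroup

universe u

theorem relIndex_mul_card' {G : Type*} [Group G] {A B : Subgroup G} (h : A ≤ B) :
    A.relIndex B * Nat.card ↥A = Nat.card ↥B := by
  have h1 : Nat.card ↥(A.subgroupOf B) * (A.subgroupOf B).index = Nat.card ↥B :=
    Subgroup.card_mul_index _
  have h2 : Nat.card ↥(A.subgroupOf B) = Nat.card ↥A :=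
    Nat.card_congr (subgroupOfEquivOfLe h).toEquiv
  rw [h2, mul_comm] at h1
  exact h1

/-- For `N` normal, `|N : C ∩ N| = |CN : C|` divides `|G : C|`. -/
theorem relIndex_dvd_index_of_normal_right {G : Type*} [Group G] [Finite G] (C N : Subgroup G)
    [N.Normal] : C.relIndex N ∣ C.index := by
  have h1 : C.relIndex (C ⊔ N) = C.relIndex N := by
    have hpos : 0 < Nat.card ↥C := Nat.card_pos
    have e1 : C.relIndex (C ⊔ N) * Nat.card ↥C = Nat.card ↥(C ⊔ N) := relIndex_mul_card' le_sup_left
    have e2 : N.relIndex (C ⊔ N) * Nat.card ↥N = Nat.card ↥(C ⊔ N) := relIndex_mul_card' le_sup_right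
    have e3 : N.relIndex (C ⊔ N) = N.relIndex C := relIndex_sup_right C N
    have e4 : N.relIndex C * Nat.card ↥(C ⊓ N) = Nat.card ↥C := by
      rw [← inf_relIndex_left (H := C) (K := N)]
      exact relIndex_mul_card' inf_le_left
    have e5 : C.relIndex N * Nat.card ↥(C ⊓ N) = Nat.card ↥N := by
      rw [← inf_relIndex_right (H := C) (K := N)]
      exact relIndex_mul_card' inf_le_right
    have e6 : C.relIndex (C ⊔ N) * Nat.card ↥C = C.relIndex N * Nat.card ↥C := by
      rw [e1, ← e2, e3, ← e5, ← e4]; ring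
    exact Nat.eq_of_mul_eq_mul_right hpos e6
  rw [← h1]
  exact relIndex_dvd_index_of_le le_sup_left

/-- A finite group with an abelian subgroup of `2`-power index is solvable. -/
theorem solvable_aux (n : ℕ) : ∀ (G : Type u) [Group G] [Finite G], Nat.card G = n →
    ∀ C : Subgroup G, (∀ x ∈ C, ∀ y ∈ C, x * y = y * x) → (∃ a, C.index = 2 ^ a) →
    Group.IsSolvable G := by
  induction n using Nat.strong_induction_on with
  | _ n ih =>
    intro G _ _ hn C hC hidx
    obtain ⟨a, ha⟩ := hidx
    by_cases hCbot : C = ⊥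
    · have hcard : Nat.card G = 2 ^ a := by rw [← ha, hCbot, index_bot]
      exact Cfsg.Agent.Lib.helper4.isSolvable_of_card_prime_pow Nat.prime_two hcard
    · obtain ⟨c, hcC, hc1⟩ : ∃ c ∈ C, c ≠ 1 := by
        by_contra hcon
        push Not at hcon
        exact hCbot ((eq_bot_iff_forall C).mpr hcon)
      have hle : C ≤ centralizer ({c} : Set G) :=
        fun x hx => mem_centralizer_singleton_iff.mpr (hC x hx c hcC)
      obtain ⟨k, hk⟩ : ∃ k, (centralizer ({c} : Set G)).index = 2 ^ k := by
        have h1 := index_dvd_of_le hle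
        rw [ha] at h1
        obtain ⟨k, -, hk⟩ := (Nat.dvd_prime_pow Nat.prime_two).mp h1
        exact ⟨k, hk⟩
      by_cases hsimple : IsSimpleGroup G
      · have hprime := Cfsg.Agent.Lib.helper4.prime_card_of_simple_of_class_prime_pow 2 k
          Nat.prime_two c hc1 hk
        exact Cfsg.Agent.Lib.helper4.isSolvable_of_card_prime_pow (a := 1) hprime (pow_one _).symm
      · have hnt : Nontrivial G := ⟨⟨c, 1, hc1⟩⟩
        obtain ⟨N, hNn, hNbot, hNtop⟩ : ∃ N : Subgroup G, N.Normal ∧ N ≠ ⊥ ∧ N ≠ ⊤ := by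
          by_contra hcon
          push Not at hcon
          apply hsimple
          refine ⟨fun N hN => ?_⟩
          by_contra h
          push Not at h
          exact h.2 (hcon N hN h.1)
        have hN_solv : Group.IsSolvable ↥N := by
          have hlt : Nat.card ↥N < n := by
            rw [← hn]
            apply lt_of_le_of_ne (Subgroup.card_le_card_group N)
            intro e
            exact hNtop (Subgroup.eq_top_of_card_eq N e)
          refine ih (Nat.card ↥N) hlt ↥N rfl (C.subgroupOf N) ?_ ?_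
          · intro x hx y hy
            apply Subtype.ext
            exact hC x (mem_subgroupOf.mp hx) y (mem_subgroupOf.mp hy)
          · have hdvd : C.relIndex N ∣ C.index := relIndex_dvd_index_of_normal_right C N
            rw [ha] at hdvd
            obtain ⟨j, -, hj⟩ := (Nat.dvd_prime_pow Nat.prime_two).mp hdvd
            exact ⟨j, hj⟩
        have hQ_solv : Group.IsSolvable (G ⧸ N) := by
          have hlt : Nat.card (G ⧸ N) < n := by
            rw [← hn, Subgroup.card_eq_card_quotient_mul_card_subgroup N]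
            have h1 : 1 < Nat.card ↥N := (Subgroup.one_lt_card_iff_ne_bot _).mpr hNbot
            have h0 : 0 < Nat.card (G ⧸ N) := Nat.card_pos
            nlinarith
          refine ih (Nat.card (G ⧸ N)) hlt (G ⧸ N) rfl (C.map (QuotientGroup.mk' N)) ?_ ?_
          · rintro _ ⟨x, hx, rfl⟩ _ ⟨y, hy, rfl⟩
            rw [← map_mul, ← map_mul, hC x hx y hy]
          · have hdvd : (C.map (QuotientGroup.mk' N)).index ∣ C.index :=
              index_map_dvd C (QuotientGroup.mk'_surjective N)
            rw [ha] at hdvd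
            obtain ⟨j, -, hj⟩ := (Nat.dvd_prime_pow Nat.prime_two).mp hdvd
            exact ⟨j, hj⟩
        exact Group.isSolvable_of_ker_le_range N.subtype (QuotientGroup.mk' N)
          (by rw [QuotientGroup.ker_mk', Subgroup.range_subtype])

/-- Let H be a finite group in which a Sylow 2-subgroup has an abelian complement (an abelian subgroup meeting it trivially whose product with it is all of H). Then H is solvable, and every subgroup and every quotient group of H again has a Sylow 2-subgroup with an abelian complement. -/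
theorem result {H : Type*} [Group H] [Finite H]
    (S : Sylow 2 H) (C : Subgroup H) (hC : IsMulCommutative ↥C) (hSC : Subgroup.IsComplement' (S : Subgroup H) C) :
    Group.IsSolvable H ∧
    (∀ L : Subgroup H, ∃ (P : Sylow 2 ↥L) (D : Subgroup ↥L), IsMulCommutative ↥D ∧ Subgroup.IsComplement' (P : Subgroup ↥L) D) ∧
    (∀ (N : Subgroup H) [N.Normal], ∃ (P : Sylow 2 (H ⧸ N)) (D : Subgroup (H ⧸ N)),
      IsMulCommutative ↥D ∧ Subgroup.IsComplement' (P : Subgroup (H ⧸ N)) D) := by
  have : Fact (Nat.Prime 2) := ⟨Nat.prime_two⟩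
  have hcomm : ∀ x ∈ C, ∀ y ∈ C, x * y = y * x := by
    intro x hx y hy
    exact congrArg Subtype.val (hC.is_comm.comm ⟨x, hx⟩ ⟨y, hy⟩)
  have hmul : Nat.card ↥(S : Subgroup H) * Nat.card ↥C = Nat.card H := hSC.card_mul_card
  have hCidx : C.index = Nat.card ↥(S : Subgroup H) := by
    have h1 : Nat.card ↥C * C.index = Nat.card H := Subgroup.card_mul_index C
    have hpos : 0 < Nat.card ↥C := Nat.card_pos
    have h2 : Nat.card ↥C * C.index = Nat.card ↥C * Nat.card ↥(S : Subgroup H) := by
      rw [h1, ← hmul, mul_comm]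
    exact Nat.eq_of_mul_eq_mul_left hpos h2
  obtain ⟨a, ha⟩ := S.isPGroup'.exists_card_eq
  have hCodd : ¬ 2 ∣ Nat.card ↥C := by
    have h1 : Nat.card ↥(S : Subgroup H) * (S : Subgroup H).index = Nat.card H :=
      Subgroup.card_mul_index _
    have hpos : 0 < Nat.card ↥(S : Subgroup H) := Nat.card_pos
    have h2 : Nat.card ↥C = (S : Subgroup H).index :=
      Nat.eq_of_mul_eq_mul_left hpos (hmul.trans h1.symm)
    rw [h2]
    exact S.not_dvd_index
  have hsolv : Group.IsSolvable H := solvable_aux (Nat.card H) H rfl C hcomm ⟨a, by rw [hCidx, ha]⟩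
  have hCcop : (Nat.card ↥C).Coprime C.index := by
    rw [hCidx, ha]
    apply Nat.Coprime.pow_right
    rw [Nat.coprime_comm, Nat.Prime.coprime_iff_not_dvd Nat.prime_two]
    exact hCodd
  refine ⟨hsolv, ?_, ?_⟩
  · intro L
    obtain ⟨P⟩ : Nonempty (Sylow 2 ↥L) := inferInstance
    have hPL : Nat.card ↥L = (P : Subgroup ↥L).index * Nat.card ↥(P : Subgroup ↥L) := by
      rw [mul_comm]; exact (Subgroup.card_mul_index _).symm
    obtain ⟨b, hb⟩ := P.isPGroup'.exists_card_eq
    have hPcop : ((P : Subgroup ↥L).index).Coprime (Nat.card ↥(P : Subgroup ↥L)) := by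
      rw [hb]
      apply Nat.Coprime.pow_right
      rw [Nat.coprime_comm, Nat.Prime.coprime_iff_not_dvd Nat.prime_two]
      exact P.not_dvd_index
    obtain ⟨D, hD⟩ := Cfsg.Agent.Lib.lead.exists_subgroup_card_eq_of_isSolvable hPL hPcop
    have hD'card : Nat.card ↥(D.map L.subtype) = Nat.card ↥D :=
      card_map_of_injective L.subtype_injective
    have hdvd : Nat.card ↥(D.map L.subtype) ∣ Nat.card ↥C := by
      have h1 : Nat.card ↥(D.map L.subtype) ∣ Nat.card H := Subgroup.card_subgroup_dvd_card _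
      rw [← hmul, ha] at h1
      apply Nat.Coprime.dvd_of_dvd_mul_left _ h1
      rw [hD'card, hD]
      apply Nat.Coprime.pow_right
      rw [Nat.coprime_comm, Nat.Prime.coprime_iff_not_dvd Nat.prime_two]
      exact P.not_dvd_index
    obtain ⟨g, hg⟩ := Cfsg.Agent.Lib.lead.le_conj_of_coprime_of_isSolvable C (D.map L.subtype)
      hCcop hdvd
    have hDcomm : IsMulCommutative ↥D := by
      refine ⟨⟨fun x y => ?_⟩⟩
      apply Subtype.ext
      apply Subtype.ext
      obtain ⟨c1, hc1, e1⟩ := hg ⟨x.1, x.2, rfl⟩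
      obtain ⟨c2, hc2, e2⟩ := hg ⟨y.1, y.2, rfl⟩
      have e1' : g * c1 * g⁻¹ = ((x : ↥L) : H) := e1
      have e2' : g * c2 * g⁻¹ = ((y : ↥L) : H) := e2
      show ((x : ↥L) : H) * ((y : ↥L) : H) = ((y : ↥L) : H) * ((x : ↥L) : H)
      rw [← e1', ← e2']
      calc g * c1 * g⁻¹ * (g * c2 * g⁻¹) = g * (c1 * c2) * g⁻¹ := by group
        _ = g * (c2 * c1) * g⁻¹ := by rw [hcomm c1 hc1 c2 hc2]
        _ = g * c2 * g⁻¹ * (g * c1 * g⁻¹) := by group
    refine ⟨P, D, hDcomm, ?_⟩
    apply isComplement'_of_coprime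
    · rw [hD, mul_comm]; exact hPL.symm
    · rw [hD]; exact hPcop.symm
  · intro N _
    have hsurj := QuotientGroup.mk'_surjective N
    refine ⟨S.mapSurjective hsurj, C.map (QuotientGroup.mk' N), ?_, ?_⟩
    · refine ⟨⟨?_⟩⟩
      rintro ⟨_, x, hx, rfl⟩ ⟨_, y, hy, rfl⟩
      apply Subtype.ext
      show QuotientGroup.mk' N x * QuotientGroup.mk' N y = QuotientGroup.mk' N y * QuotientGroup.mk' N x
      rw [← map_mul, ← map_mul, hcomm x hx y hy]
    · apply isComplement'_of_disjoint_and_mul_eq_univ
      · apply disjoint_of_coprime_natCard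
        obtain ⟨b, hb⟩ := (S.mapSurjective hsurj).isPGroup'.exists_card_eq
        rw [hb]
        apply Nat.Coprime.pow_left
        rw [Nat.Prime.coprime_iff_not_dvd Nat.prime_two]
        intro h2
        exact hCodd (dvd_trans h2 (Subgroup.card_map_dvd C (QuotientGroup.mk' N)))
      · rw [Set.eq_univ_iff_forall]
        intro q
        obtain ⟨h, rfl⟩ := hsurj q
        obtain ⟨⟨s, c⟩, hsc⟩ := hSC.2 h
        refine ⟨QuotientGroup.mk' N s, ?_, QuotientGroup.mk' N c, ?_, ?_⟩
        · rw [Sylow.coe_mapSurjective]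
          exact ⟨s, s.2, rfl⟩
        · exact ⟨c, c.2, rfl⟩
        · show QuotientGroup.mk' N s * QuotientGroup.mk' N c = QuotientGroup.mk' N h
          rw [← map_mul]
          exact congrArg _ hsc

end Cfsg.Agent.S3200
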