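import Mathlib
import Cfsg.Statements.S3201
import Cfsg.Agent.Lib.helper59.UniqueOrderP
import Cfsg.Agent.Lib.helper59.TwoGroups
import Cfsg.Agent.Lib.helper3.PGroupFrattini
-- import your own Cfsg.Agent.* helpers here

set_option autoImplicit false
open Cfsg

namespace Cfsg.Agent.S3201

open Cfsg.Agent.Lib.helper59

/-- The homomorphism from the generalized quaternion group determined by elements satisfying its
defining relations (construction as in `helper59.quaternion_equiv_of_rel`). -/
theorem exists_quaternion_hom {G : Type*} [Group G] (m : ℕ) (hm0 : m ≠ 0) (c x : G)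
    (hcm : c ^ (2 * m) = 1) (hx2 : x ^ 2 = c ^ m) (hrel : x * c * x⁻¹ = c⁻¹) :
    ∃ F : QuaternionGroup m →* G, (∀ i, F (QuaternionGroup.a i) = zmodPow c i) ∧
      ∀ i, F (QuaternionGroup.xa i) = x * zmodPow c i := by
  have hxx : x * x = c ^ m := by rw [← pow_two]; exact hx2
  have : NeZero m := ⟨hm0⟩
  let f : QuaternionGroup m → G := fun g =>
    match g with
    | QuaternionGroup.a i => zmodPow c i
    | QuaternionGroup.xa i => x * zmodPow c i
  have hmul : ∀ g h : QuaternionGroup m, f (g * h) = f g * f h := by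
    rintro (i | i) (j | j)
    · show zmodPow c (i + j) = zmodPow c i * zmodPow c j
      exact zmodPow_add hcm i j
    · show x * zmodPow c (j - i) = zmodPow c i * (x * zmodPow c j)
      rw [zmodPow_sub hcm, ← mul_assoc (zmodPow c i), zmodPow_mul_of_inverts hrel]
      have : Commute (zmodPow c j) (zmodPow c i)⁻¹ := by
        unfold zmodPow
        exact ((Commute.refl c).zpow_zpow _ _).inv_right
      rw [this.eq]; group
    · show x * zmodPow c (i + j) = x * zmodPow c i * zmodPow c j
      rw [zmodPow_add hcm, mul_assoc]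
    · show zmodPow c ((m : ZMod (2 * m)) + j - i) = x * zmodPow c i * (x * zmodPow c j)
      rw [zmodPow_sub hcm, zmodPow_add hcm, zmodPow_natCast hcm, mul_assoc x,
        ← mul_assoc (zmodPow c i), zmodPow_mul_of_inverts hrel]
      have : Commute (zmodPow c j) (zmodPow c i)⁻¹ := by
        unfold zmodPow
        exact ((Commute.refl c).zpow_zpow _ _).inv_right
      rw [← hxx, mul_assoc (x * x), this.eq]
      group
  exact ⟨MonoidHom.mk' f hmul, fun i => rfl, fun i => rfl⟩

theorem quaternion_hom_injective {G : Type*} [Group G] (m : ℕ) (c x : G) (hc : orderOf c = 2 * m)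
    (hx : x ∉ Subgroup.zpowers c) (F : QuaternionGroup m →* G)
    (hFa : ∀ i, F (QuaternionGroup.a i) = zmodPow c i)
    (hFx : ∀ i, F (QuaternionGroup.xa i) = x * zmodPow c i) : Function.Injective F := by
  rw [injective_iff_map_eq_one]
  rintro (i | i) h
  · rw [hFa, zmodPow_eq_one_iff hc] at h
    rw [h]; rfl
  · exfalso
    rw [hFx] at h
    apply hx
    have : x = (zmodPow c i)⁻¹ := eq_inv_of_mul_eq_one_left h
    rw [this]
    exact inv_mem (zmodPow_mem c i)

/-- Let S be a finite 2-group whose centre Z(S) has n ≥ 2 distinct maximal subgroups C₁, …, Cₙ with trivial intersection such that each quotient S/Cᵢ is a non-abelian group with exactly one involution (a generalized quaternion group). Then S is the internal direct product of an elementary abelian subgroup and a non-abelian subgroup with exactly one involution. -/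
theorem result {S : Type*} [Group S] [Finite S]
    (hS : IsPGroup 2 S) (n : ℕ) (hn : 2 ≤ n) (C : Fin n → Subgroup ↥(Subgroup.center S))
    (hCmax : ∀ i, IsCoatom (C i)) (hCinj : Function.Injective C) (hCint : ⨅ i, C i = ⊥)
    (hCq : ∀ i, ∃ (_ : ((C i).map (Subgroup.center S).subtype).Normal),
      ¬ IsMulCommutative (S ⧸ (C i).map (Subgroup.center S).subtype) ∧
      ∃! x : S ⧸ (C i).map (Subgroup.center S).subtype, orderOf x = 2) :
    ∃ E Q : Subgroup S, Cfsg.IsInternalDirectProduct E Q ⊤ ∧ Cfsg.IsElementaryAbelian 2 E ∧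
      ¬ IsMulCommutative ↥Q ∧ ∃! x : ↥Q, orderOf x = 2 := by
  classical
  have h2 : Fact (Nat.Prime 2) := ⟨Nat.prime_two⟩
  have hZp : IsPGroup 2 ↥(Subgroup.center S) := hS.to_subgroup _
  have hidx : ∀ i, (C i).index = 2 := fun i =>
    (Cfsg.Agent.Lib.helper3.coatom_normal_index hZp (hCmax i)).2
  -- F1 : the centre has exponent 2
  have F1 : ∀ z : S, z ∈ Subgroup.center S → z ^ 2 = 1 := by
    intro z hz
    have h1 : (⟨z, hz⟩ : ↥(Subgroup.center S)) ^ 2 ∈ ⨅ i, C i := by
      rw [Subgroup.mem_iInf]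
      intro i
      rw [pow_two]
      exact Subgroup.mul_self_mem_of_index_two (hidx i) _
    rw [hCint, Subgroup.mem_bot] at h1
    have h2 := congrArg (Subtype.val) h1
    simpa using h2
  have hDmem : ∀ i (z : S) (hz : z ∈ Subgroup.center S),
      z ∈ (C i).map (Subgroup.center S).subtype ↔ (⟨z, hz⟩ : ↥(Subgroup.center S)) ∈ C i := by
    intro i z hz
    constructor
    · rintro ⟨w, hw, hwz⟩
      have : w = ⟨z, hz⟩ := Subtype.ext hwz
      rwa [← this]
    · intro h
      exact ⟨⟨z, hz⟩, h, rfl⟩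
  have hDle : ∀ i, (C i).map (Subgroup.center S).subtype ≤ Subgroup.center S := by
    intro i x hx
    obtain ⟨w, -, rfl⟩ := hx
    exact w.2
  -- F3 : at most one central element outside all the `C i`
  have F3 : ∀ w w' : S, w ∈ Subgroup.center S → w' ∈ Subgroup.center S →
      (∀ i, w ∉ (C i).map (Subgroup.center S).subtype) →
      (∀ i, w' ∉ (C i).map (Subgroup.center S).subtype) → w = w' := by
    intro w w' hw hw' h1 h2
    have h3 : (⟨w, hw⟩ * ⟨w', hw'⟩ : ↥(Subgroup.center S)) ∈ ⨅ i, C i := by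
      rw [Subgroup.mem_iInf]
      intro i
      have ha : (⟨w, hw⟩ : ↥(Subgroup.center S)) ∉ C i := fun h => h1 i ((hDmem i w hw).mpr h)
      have hb : (⟨w', hw'⟩ : ↥(Subgroup.center S)) ∉ C i := fun h => h2 i ((hDmem i w' hw').mpr h)
      exact (Subgroup.mul_mem_iff_of_index_two (hidx i)).mpr
        ⟨fun h => absurd h ha, fun h => absurd h hb⟩
    rw [hCint, Subgroup.mem_bot] at h3
    have h4 : w * w' = 1 := by simpa using congrArg Subtype.val h3
    have h5 : w' ^ 2 = 1 := F1 w' hw'
    have h6 : w = w'⁻¹ := eq_inv_of_mul_eq_one_left h4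
    rw [h6]
    exact inv_eq_of_mul_eq_one_left (by rw [← pow_two]; exact h5)
  -- F2 : an element whose square lies in some `C i` is central
  have F2 : ∀ i (x : S), x ^ 2 ∈ (C i).map (Subgroup.center S).subtype → x ∈ Subgroup.center S := by
    intro i x hx
    obtain ⟨hN, -, u, hu, huniq⟩ := hCq i
    have := hN
    obtain ⟨z, hz⟩ : ∃ z : ↥(Subgroup.center S), z ∉ C i := by
      by_contra hcon
      push Not at hcon
      exact (hCmax i).1 (eq_top_iff.mpr fun z _ => hcon z)
    have hzD : (z : S) ∉ (C i).map (Subgroup.center S).subtype :=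
      fun h => hz ((hDmem i z z.2).mp h)
    have hzu : ((z : S) : S ⧸ (C i).map (Subgroup.center S).subtype) = u := by
      apply huniq
      apply orderOf_eq_prime
      · rw [← QuotientGroup.mk_pow, F1 z z.2]; rfl
      · intro h
        exact hzD ((QuotientGroup.eq_one_iff _).mp h)
    by_cases hx1 : (x : S ⧸ (C i).map (Subgroup.center S).subtype) = 1
    · exact hDle i ((QuotientGroup.eq_one_iff _).mp hx1)
    · have hxu : (x : S ⧸ (C i).map (Subgroup.center S).subtype) = u := by
        apply huniq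
        apply orderOf_eq_prime
        · rw [← QuotientGroup.mk_pow]; exact (QuotientGroup.eq_one_iff _).mpr hx
        · exact hx1
      have h3 : (z : S)⁻¹ * x ∈ (C i).map (Subgroup.center S).subtype :=
        QuotientGroup.eq.mp (hzu.trans hxu.symm)
      have h4 := Subgroup.mul_mem _ z.2 (hDle i h3)
      simpa using h4
  have hn0 : 0 < n := by omega
  have hq := hCq ⟨0, hn0⟩
  have hDle0 := hDle ⟨0, hn0⟩
  have F20 := F2 ⟨0, hn0⟩
  generalize (C ⟨0, hn0⟩).map (Subgroup.center S).subtype = D at hq hDle0 F20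
  obtain ⟨hN0, hnc0, u, hu, huniq⟩ := hq
  have := hN0
  have hU : UniqueOrderP 2 (S ⧸ D) := by
    have key : ∀ H : Subgroup (S ⧸ D), Nat.card H = 2 → H = Subgroup.zpowers u := by
      intro H hH
      have hHne : H ≠ ⊥ := by rintro rfl; simp at hH
      obtain ⟨⟨h, hh⟩, hne⟩ := Subgroup.ne_bot_iff_exists_ne_one.mp hHne
      have ho : orderOf h = 2 := by
        apply orderOf_eq_prime
        · have h1 := pow_card_eq_one' (G := H) (x := ⟨h, hh⟩)
          rw [hH] at h1
          simpa using congrArg Subtype.val h1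
        · exact fun e => hne (Subtype.ext e)
      have hhu : h = u := huniq h ho
      rw [hhu] at hh ho
      symm
      apply Subgroup.eq_of_le_of_card_ge
      · rwa [Subgroup.zpowers_le]
      · rw [Nat.card_zpowers, ho, hH]
    intro H K hH hK
    rw [key H hH, key K hK]
  have hQp : IsPGroup 2 (S ⧸ D) := hS.to_quotient D
  rcases cyclic_or_quaternion_rel_of_uniqueOrderP hQp hU with
    hcyc | ⟨m, a', b', hao, hcard, hbn, hb2, hrel⟩
  · exfalso
    apply hnc0
    obtain ⟨g, hg⟩ := hcyc.exists_generator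
    refine ⟨⟨fun x y => ?_⟩⟩
    obtain ⟨i, rfl⟩ := Subgroup.mem_zpowers_iff.mp (hg x)
    obtain ⟨j, rfl⟩ := Subgroup.mem_zpowers_iff.mp (hg y)
    rw [← zpow_add, ← zpow_add, add_comm]
  obtain ⟨a, rfl⟩ := QuotientGroup.mk_surjective a'
  obtain ⟨b, rfl⟩ := QuotientGroup.mk_surjective b'
  set M := 2 ^ (m + 1) with hM
  have hM0 : M ≠ 0 := by positivity
  have : NeZero M := ⟨hM0⟩
  have haM : orderOf (a : S ⧸ D) = 2 * M := by rw [hao, hM]; ring
  have hane : (a : S ⧸ D) ^ M ≠ 1 := by
    apply pow_ne_one_of_lt_orderOf hM0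
    rw [haM]; omega
  have hD0 : ∀ x : S, x ∈ D ↔ (x : S ⧸ D) = 1 := fun x => (QuotientGroup.eq_one_iff x).symm
  have ha1 : a ^ (2 ^ m) ∉ Subgroup.center S := by
    intro h
    have h1 := F1 _ h
    apply hane
    rw [← QuotientGroup.mk_pow, hM, pow_succ, pow_mul, h1]; rfl
  have hb1 : b ∉ Subgroup.center S := by
    intro h
    have h1 := F1 _ h
    apply hane
    rw [← hb2, ← QuotientGroup.mk_pow, h1]; rfl
  have hab2 : ((a * b : S) : S ⧸ D) ^ 2 = (b : S ⧸ D) ^ 2 := by
    rw [QuotientGroup.mk_mul, pow_two, pow_two]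
    have h1 : (b : S ⧸ D) * a = (a : S ⧸ D)⁻¹ * b := by
      rw [← hrel]; group
    calc (a : S ⧸ D) * b * (a * b) = a * (b * a) * b := by group
      _ = a * ((a : S ⧸ D)⁻¹ * b) * b := by rw [h1]
      _ = b * b := by group
  have hab1 : a * b ∉ Subgroup.center S := by
    intro h
    have h1 := F1 _ h
    apply hane
    rw [← hb2, ← hab2, ← QuotientGroup.mk_pow, h1]; rfl
  have hw1 : ∀ i, a ^ M ∉ (C i).map (Subgroup.center S).subtype := by
    intro i h
    apply ha1
    apply F2 i
    rwa [← pow_mul, ← pow_succ]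
  have hw2 : ∀ i, b ^ 2 ∉ (C i).map (Subgroup.center S).subtype := fun i h => hb1 (F2 i b h)
  have hw3 : ∀ i, (a * b) ^ 2 ∉ (C i).map (Subgroup.center S).subtype :=
    fun i h => hab1 (F2 i _ h)
  have hapow : ((a : S ⧸ D) ^ M) ^ 2 = 1 := by
    rw [← pow_mul, mul_comm, ← haM]
    exact pow_orderOf_eq_one _
  have hz1 : a ^ M ∈ Subgroup.center S := by
    apply F20
    rw [hD0, QuotientGroup.mk_pow, QuotientGroup.mk_pow]
    exact hapow
  have hz2 : b ^ 2 ∈ Subgroup.center S := by
    apply F20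
    rw [hD0, QuotientGroup.mk_pow, QuotientGroup.mk_pow, hb2]
    exact hapow
  have hz3 : (a * b) ^ 2 ∈ Subgroup.center S := by
    apply F20
    rw [hD0, QuotientGroup.mk_pow, QuotientGroup.mk_pow, hab2, hb2]
    exact hapow
  have e12 : a ^ M = b ^ 2 := F3 _ _ hz1 hz2 hw1 hw2
  have e32 : (a * b) ^ 2 = b ^ 2 := F3 _ _ hz3 hz2 hw3 hw2
  have R1 : a ^ (2 * M) = 1 := by
    rw [mul_comm, pow_mul]; exact F1 _ hz1
  have R2 : b ^ 2 = a ^ M := e12.symm
  have R3 : b * a * b⁻¹ = a⁻¹ := by
    have hd : b * a * b⁻¹ * a ∈ D := by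
      rw [hD0, QuotientGroup.mk_mul, QuotientGroup.mk_mul, QuotientGroup.mk_mul,
        QuotientGroup.mk_inv, hrel]
      group
    have hdc : b * a * b⁻¹ * a ∈ Subgroup.center S := hDle0 hd
    have h2 : b * a * b⁻¹ * a = a * b * a * b⁻¹ := by
      have h0 := Subgroup.mem_center_iff.mp hdc a
      calc b * a * b⁻¹ * a = (b * a * b⁻¹ * a) * a * a⁻¹ := by group
        _ = a * (b * a * b⁻¹ * a) * a⁻¹ := by rw [← h0]
        _ = a * b * a * b⁻¹ := by group
    have h1 : (a * b) ^ 2 = (b * a * b⁻¹ * a) * b ^ 2 := by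
      rw [h2, pow_two, pow_two]; group
    have h3 : b * a * b⁻¹ * a = 1 := by
      have h4 : (b * a * b⁻¹ * a) * b ^ 2 = b ^ 2 := by rw [← h1, e32]
      exact mul_eq_right.mp h4
    exact eq_inv_of_mul_eq_one_left h3
  obtain ⟨F, hFa, hFx⟩ := exists_quaternion_hom M hM0 a b R1 R2 R3
  set π := QuotientGroup.mk' D with hπ
  have hGinj : Function.Injective (π.comp F) := by
    apply quaternion_hom_injective M (a : S ⧸ D) (b : S ⧸ D) haM hbn
    · intro i
      show π (F (QuaternionGroup.a i)) = _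
      rw [hFa]
      unfold zmodPow
      exact map_zpow π a _
    · intro i
      show π (F (QuaternionGroup.xa i)) = _
      rw [hFx, map_mul]
      unfold zmodPow
      rw [map_zpow]; rfl
  have hGbij : Function.Bijective (π.comp F) := by
    apply hGinj.bijective_of_nat_card_le
    rw [hcard, Nat.card_eq_fintype_card, QuaternionGroup.card, hM]
    apply le_of_eq
    ring
  have hFinj : Function.Injective F := fun x y h => hGinj (by
    show π (F x) = π (F y)
    rw [h])
  have hmem : ∀ g, F g ∈ F.range := fun g => ⟨g, rfl⟩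
  refine ⟨D, F.range, ⟨le_top, le_top, ?_, ?_, ?_⟩, ⟨?_, ?_⟩, ?_, ?_⟩
  · intro e he q _
    exact (Subgroup.mem_center_iff.mp (hDle0 he) q).symm
  · rw [eq_bot_iff]
    rintro x ⟨hxD, g, rfl⟩
    have h1 : (π.comp F) g = 1 := (hD0 _).mp hxD
    have h2 : g = 1 := hGinj (h1.trans (map_one _).symm)
    rw [h2, map_one]; exact Subgroup.mem_bot.mpr rfl
  · rw [eq_top_iff]
    intro s _
    obtain ⟨g, hg⟩ := hGbij.2 (π s)
    have h1 : (F g)⁻¹ * s ∈ D := by
      rw [hD0, QuotientGroup.mk_mul, QuotientGroup.mk_inv]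
      have h0 : (π.comp F) g = ((F g : S) : S ⧸ D) := rfl
      rw [← h0, hg]; exact inv_mul_cancel _
    have h2 : F g * ((F g)⁻¹ * s) ∈ D ⊔ F.range :=
      Subgroup.mul_mem _ (Subgroup.mem_sup_right ⟨g, rfl⟩) (Subgroup.mem_sup_left h1)
    simpa using h2
  · refine ⟨⟨fun x y => ?_⟩⟩
    apply Subtype.ext
    exact (Subgroup.mem_center_iff.mp (hDle0 x.2) y).symm
  · intro x hx; exact F1 x (hDle0 hx)
  · intro hcomm
    apply hnc0
    refine ⟨⟨fun x y => ?_⟩⟩
    obtain ⟨g, rfl⟩ := hGbij.2 x
    obtain ⟨h, rfl⟩ := hGbij.2 y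
    have h1 : F g * F h = F h * F g := congrArg Subtype.val
      (hcomm.is_comm.comm (⟨F g, hmem g⟩ : F.range) ⟨F h, hmem h⟩)
    show π (F g) * π (F h) = π (F h) * π (F g)
    rw [← map_mul π, ← map_mul π, h1]
  · obtain ⟨g0, hg0⟩ := hGbij.2 u
    have ho0 : orderOf g0 = 2 := by
      rw [← orderOf_injective (π.comp F) hGinj g0, hg0]; exact hu
    refine ⟨⟨F g0, hmem g0⟩, ?_, ?_⟩
    · show orderOf (⟨F g0, hmem g0⟩ : F.range) = 2
      rw [Subgroup.orderOf_mk, orderOf_injective F hFinj g0]; exact ho0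
    · rintro ⟨y, g, rfl⟩ hy
      have hy' : orderOf (⟨F g, hmem g⟩ : F.range) = 2 := hy
      rw [Subgroup.orderOf_mk, orderOf_injective F hFinj g] at hy'
      have h1 : (π.comp F) g = u := by
        apply huniq
        rw [orderOf_injective (π.comp F) hGinj g]; exact hy'
      have h2 : g = g0 := hGinj (h1.trans hg0.symm)
      subst h2
      rfl

end Cfsg.Agent.S3201
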