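import Cfsg.Statements.S3202
import Cfsg.Agent.Lib.helper59.UniqueOrderP

set_option autoImplicit false
open Cfsg

namespace Cfsg.Agent.S3202

open Subgroup Cfsg.Agent.Lib.helper59
open scoped commutatorElement

/-- If a group `S` has a central subgroup `D'` such that `S ⧸ D'` has the generalized quaternion
presentation, then the commutator subgroup of `S` is contained in a cyclic subgroup. -/
theorem commutator_le_zpowers {S : Type*} [Group S] (D' : Subgroup S) [D'.Normal]
    (hD'c : ∀ d ∈ D', ∀ s : S, d * s = s * d) (a b : S)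
    (hidx : (zpowers (QuotientGroup.mk' D' a)).index = 2)
    (hb : QuotientGroup.mk' D' b ∉ zpowers (QuotientGroup.mk' D' a))
    (hinv : QuotientGroup.mk' D' b * QuotientGroup.mk' D' a * (QuotientGroup.mk' D' b)⁻¹ =
      (QuotientGroup.mk' D' a)⁻¹) :
    commutator S ≤ zpowers ⁅a, b⁆ := by
  set π := QuotientGroup.mk' D' with hπ
  have hsurj : Function.Surjective π := QuotientGroup.mk'_surjective _
  set M := (zpowers (π a)).comap π with hM
  have hMi : M.index = 2 := by
    rw [hM, Subgroup.index_comap_of_surjective _ hsurj]; exact hidx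
  have hbM : b ∉ M := fun h => hb h
  have haM : a ∈ M := by
    show π a ∈ zpowers (π a)
    exact mem_zpowers _
  have hMel : ∀ m ∈ M, ∃ i : ℤ, ∃ d ∈ D', m = a ^ i * d := by
    intro m hm
    have h1 : π m ∈ zpowers (π a) := hm
    obtain ⟨i, hi⟩ := mem_zpowers_iff.mp h1
    refine ⟨i, (a ^ i)⁻¹ * m, ?_, by group⟩
    have h2 : π ((a ^ i)⁻¹ * m) = 1 := by
      rw [map_mul, map_inv, map_zpow, hi, inv_mul_cancel]
    exact (QuotientGroup.eq_one_iff _).mp h2
  have hMc : ∀ m ∈ M, ∀ m' ∈ M, m * m' = m' * m := by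
    intro m hm m' hm'
    obtain ⟨i, d, hd, rfl⟩ := hMel m hm
    obtain ⟨j, e, he, rfl⟩ := hMel m' hm'
    have h1 := hD'c d hd
    have h2 := hD'c e he
    have h3 : a ^ i * a ^ j = a ^ j * a ^ i := by rw [← zpow_add, ← zpow_add, add_comm]
    calc a ^ i * d * (a ^ j * e) = a ^ i * (d * a ^ j) * e := by group
      _ = a ^ i * (a ^ j * d) * e := by rw [h1]
      _ = (a ^ i * a ^ j) * (d * e) := by group
      _ = (a ^ j * a ^ i) * (e * d) := by rw [h3, h1]
      _ = a ^ j * (a ^ i * e) * d := by group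
      _ = a ^ j * (e * a ^ i) * d := by rw [h2]
      _ = a ^ j * e * (a ^ i * d) := by group
  -- e = b a b⁻¹ lies in M and so commutes with a
  set e := b * a * b⁻¹ with he
  have heM : e ∈ M := by
    show π (b * a * b⁻¹) ∈ zpowers (π a)
    rw [map_mul, map_mul, map_inv, hinv]
    exact inv_mem (mem_zpowers _)
  have hae : Commute a e := hMc a haM e heM
  have hcdef : ⁅a, b⁆ = a * e⁻¹ := by
    rw [commutatorElement_def, he]; group
  -- commutators with b
  have hF5 : ∀ m ∈ M, ⁅m, b⁆ ∈ zpowers ⁅a, b⁆ := by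
    intro m hm
    obtain ⟨i, d, hd, rfl⟩ := hMel m hm
    have h1 := hD'c d hd
    have h2 : ⁅a ^ i * d, b⁆ = a ^ i * (b * a * b⁻¹) ^ (-i) := by
      rw [commutatorElement_def, conj_zpow]
      calc a ^ i * d * b * (a ^ i * d)⁻¹ * b⁻¹ = a ^ i * (d * b) * d⁻¹ * (a ^ i)⁻¹ * b⁻¹ := by group
        _ = a ^ i * (b * d) * d⁻¹ * (a ^ i)⁻¹ * b⁻¹ := by rw [h1]
        _ = a ^ i * (b * a ^ (-i) * b⁻¹) := by group
    rw [h2, ← he, hcdef]
    have h3 : (a * e⁻¹) ^ i = a ^ i * e ^ (-i) := by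
      rw [hae.inv_right.mul_zpow, zpow_neg, inv_zpow]
    rw [← h3]
    exact zpow_mem (mem_zpowers _) i
  have hNM : zpowers ⁅a, b⁆ ≤ M := by
    rw [zpowers_le, hcdef]
    exact mul_mem haM (inv_mem heM)
  -- conjugation by M fixes elements of M
  have hconjM : ∀ m ∈ M, ∀ w ∈ M, m * w * m⁻¹ = w := by
    intro m hm w hw
    rw [hMc m hm w hw]; group
  -- decomposition of S
  have hdec : ∀ s : S, s ∉ M → s * b⁻¹ ∈ M := by
    intro s hs
    rw [Subgroup.mul_mem_iff_of_index_two hMi, inv_mem_iff]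
    exact ⟨fun h => absurd h hs, fun h => absurd h hbM⟩
  -- case (ii)
  have hii : ∀ s ∈ M, ∀ t : S, t ∉ M → ⁅s, t⁆ ∈ zpowers ⁅a, b⁆ := by
    intro s hs t ht
    have hm' := hdec t ht
    set m' := t * b⁻¹ with hm'def
    have ht' : t = m' * b := by rw [hm'def]; group
    have h1 : ⁅s, t⁆ = m' * ⁅s, b⁆ * m'⁻¹ := by
      rw [ht', commutatorElement_def, commutatorElement_def]
      calc s * (m' * b) * s⁻¹ * (m' * b)⁻¹ = (s * m') * b * s⁻¹ * b⁻¹ * m'⁻¹ := by group
        _ = (m' * s) * b * s⁻¹ * b⁻¹ * m'⁻¹ := by rw [hMc s hs m' hm']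
        _ = m' * (s * b * s⁻¹ * b⁻¹) * m'⁻¹ := by group
    rw [h1, hconjM m' hm' _ (hNM (hF5 s hs))]
    exact hF5 s hs
  rw [_root_.commutator_def, Subgroup.commutator_le]
  intro s _ t _
  by_cases hs : s ∈ M
  · by_cases ht : t ∈ M
    · rw [commutatorElement_def s t, hMc s hs t ht]
      have : t * s * s⁻¹ * t⁻¹ = 1 := by group
      rw [this]; exact one_mem _
    · exact hii s hs t ht
  · by_cases ht : t ∈ M
    · have hst : ⁅s, t⁆ = ⁅t, s⁆⁻¹ := (commutatorElement_inv t s).symm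
      rw [hst]
      exact inv_mem (hii t ht s hs)
    · -- both outside M
      have hm := hdec s hs
      have hm' := hdec t ht
      set m := s * b⁻¹ with hmdef
      set m' := t * b⁻¹ with hm'def
      have hs' : s = m * b := by rw [hmdef]; group
      have ht' : t = m' * b := by rw [hm'def]; group
      set u := m' * m⁻¹ with hu
      have huM : u ∈ M := mul_mem hm' (inv_mem hm)
      have h1 : ⁅s, t⁆ = m * ⁅b, u⁆ * m⁻¹ := by
        rw [hs', ht', commutatorElement_def, commutatorElement_def, hu]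
        have h2 : m' * m⁻¹ = m⁻¹ * m' := hMc m' hm' m⁻¹ (inv_mem hm)
        calc m * b * (m' * b) * (m * b)⁻¹ * (m' * b)⁻¹
            = m * b * (m' * m⁻¹) * b⁻¹ * m'⁻¹ := by group
          _ = m * (b * (m' * m⁻¹) * b⁻¹ * (m' * m⁻¹)⁻¹) * (m' * m⁻¹) * m'⁻¹ := by group
          _ = m * (b * (m' * m⁻¹) * b⁻¹ * (m' * m⁻¹)⁻¹) * (m⁻¹ * m') * m'⁻¹ := by rw [h2]
          _ = m * (b * (m' * m⁻¹) * b⁻¹ * (m' * m⁻¹)⁻¹) * m⁻¹ := by group
      have h3 : ⁅b, u⁆ ∈ zpowers ⁅a, b⁆ := by
        have hbu : ⁅b, u⁆ = ⁅u, b⁆⁻¹ := (commutatorElement_inv u b).symm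
        rw [hbu]
        exact inv_mem (hF5 u huM)
      rw [h1, hconjM m hm _ (hNM h3)]
      exact h3

/-- Let S be a finite 2-group of 2-rank exactly 2 and D a maximal subgroup of the centre of S such that S/D is a non-abelian group with exactly one involution (a generalized quaternion group). Then S has a nontrivial cyclic characteristic subgroup. -/
theorem result {S : Type*} [Group S]
    [Finite S] (hS : IsPGroup 2 S) (hr2 : Cfsg.PRankLE 2 2 S) (hr1 : ¬ Cfsg.PRankLE 2 1 S)
    (D : Subgroup ↥(Subgroup.center S)) (hD : IsCoatom D)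
    (hq : ∃ (_ : (D.map (Subgroup.center S).subtype).Normal),
      ¬ IsMulCommutative (S ⧸ D.map (Subgroup.center S).subtype) ∧
      ∃! x : S ⧸ D.map (Subgroup.center S).subtype, orderOf x = 2) :
    ∃ C : Subgroup S, C ≠ ⊥ ∧ IsCyclic ↥C ∧ C.Characteristic := by
  set D' := D.map (Subgroup.center S).subtype with hD'
  obtain ⟨hDn, hnc, x₀, hx₀, hx₀u⟩ := hq
  have hD'c : ∀ d ∈ D', ∀ s : S, d * s = s * d := by
    intro d hd s
    obtain ⟨d₀, -, rfl⟩ := hd
    exact (mem_center_iff.mp d₀.2 s).symm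
  have hQ : IsPGroup 2 (S ⧸ D') := hS.to_quotient D'
  have hU : UniqueOrderP 2 (S ⧸ D') := by
    have key : ∀ H : Subgroup (S ⧸ D'), Nat.card ↥H = 2 → H = zpowers x₀ := by
      intro H hH
      have hnt : Nontrivial ↥H := by
        rw [← Finite.one_lt_card_iff_nontrivial, hH]; norm_num
      obtain ⟨h, hh1⟩ := exists_ne (1 : ↥H)
      have ho : orderOf h.1 = 2 := by
        apply orderOf_eq_prime
        · have := pow_card_eq_one' (G := ↥H) (x := h)
          rw [hH] at this
          exact congrArg Subtype.val this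
        · intro h1; exact hh1 (Subtype.ext h1)
      have hx : h.1 = x₀ := hx₀u h.1 ho
      symm
      apply Subgroup.eq_of_le_of_card_ge
      · rw [zpowers_le, ← hx]; exact h.2
      · rw [hH, Nat.card_zpowers, hx₀]
    intro H K hH hK
    rw [key H hH, key K hK]
  have hnotcomm : ¬ ∀ x y : S ⧸ D', x * y = y * x := fun h => hnc ⟨⟨h⟩⟩
  rcases cyclic_or_quaternion_rel_of_uniqueOrderP hQ hU with
    hcyc | ⟨n, ab, bb, hab, hcard, hbb, -, hinv⟩
  · exfalso
    apply hnotcomm
    obtain ⟨g, hg⟩ := hcyc.exists_generator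
    intro x y
    obtain ⟨i, rfl⟩ := mem_zpowers_iff.mp (hg x)
    obtain ⟨j, rfl⟩ := mem_zpowers_iff.mp (hg y)
    rw [← zpow_add, ← zpow_add, add_comm]
  · obtain ⟨a, rfl⟩ := QuotientGroup.mk'_surjective D' ab
    obtain ⟨b, rfl⟩ := QuotientGroup.mk'_surjective D' bb
    have hidx : (zpowers (QuotientGroup.mk' D' a)).index = 2 := by
      have h1 := Subgroup.card_mul_index (zpowers (QuotientGroup.mk' D' a))
      rw [Nat.card_zpowers, hab, hcard] at h1
      have h2 : (2 : ℕ) ^ (n + 3) = 2 ^ (n + 2) * 2 := by ring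
      rw [h2] at h1
      exact Nat.eq_of_mul_eq_mul_left (by positivity) h1
    have hle := commutator_le_zpowers D' hD'c a b hidx hbb hinv
    refine ⟨commutator S, ?_, Subgroup.isCyclic_of_le hle, inferInstance⟩
    intro hbot
    apply hnotcomm
    have hcomm : ∀ s t : S, s * t = t * s := by
      intro s t
      have h1 : ⁅s, t⁆ ∈ commutator S := by
        rw [_root_.commutator_def]
        exact Subgroup.commutator_mem_commutator (Subgroup.mem_top s) (Subgroup.mem_top t)
      rw [hbot, Subgroup.mem_bot] at h1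
      exact commutatorElement_eq_one_iff_mul_comm.mp h1
    intro x y
    obtain ⟨s, rfl⟩ := QuotientGroup.mk'_surjective D' x
    obtain ⟨t, rfl⟩ := QuotientGroup.mk'_surjective D' y
    rw [← map_mul, ← map_mul, hcomm]

end Cfsg.Agent.S3202
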