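import Cfsg.Statements.S3208
import Mathlib.GroupTheory.Sylow
import Mathlib.GroupTheory.Subgroup.Centralizer

set_option autoImplicit false
open Cfsg

namespace Cfsg.Agent.S3208

/-- Index of a `p`-subgroup `T` in `N(T) ⊓ H` is congruent mod `p` to its index in `H`. -/
theorem relIndex_normalizer_inf_modEq {G : Type*} [Group G] [Finite G] {p : ℕ} [Fact p.Prime]
    {T H : Subgroup G} (hT : IsPGroup p ↥T) (hTH : T ≤ H) :
    T.relIndex (Subgroup.normalizer (T : Set G) ⊓ H) ≡ T.relIndex H [MOD p] := by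
  have hT' : IsPGroup p ↥(T.subgroupOf H) := hT.comap_subtype
  obtain ⟨n, hn⟩ := IsPGroup.iff_card.mp hT'
  have key := Sylow.card_quotient_normalizer_modEq_card_quotient (p := p) hn
  have h1 : Nat.card (↥H ⧸ T.subgroupOf H) = T.relIndex H := rfl
  have h2 : Nat.card (↥(Subgroup.normalizer ((T.subgroupOf H : Subgroup ↥H) : Set ↥H)) ⧸
      (T.subgroupOf H).comap (Subgroup.normalizer ((T.subgroupOf H : Subgroup ↥H) : Set ↥H)).subtype) =
      T.relIndex (Subgroup.normalizer (T : Set G) ⊓ H) := by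
    have h3 : (T.subgroupOf H).relIndex (Subgroup.normalizer ((T.subgroupOf H : Subgroup ↥H) : Set ↥H)) =
        T.relIndex (Subgroup.normalizer (T : Set G) ⊓ H) := by
      rw [← Subgroup.subgroupOf_normalizer_eq hTH,
        ← Subgroup.inf_subgroupOf_right (Subgroup.normalizer (T : Set G)) H,
        Subgroup.relIndex_subgroupOf inf_le_right]
    rw [← h3]; rfl
  rw [h1, h2] at key
  exact key

/-- Let j be an involution of a finite group G, H a subgroup of G, and T a Sylow 2-subgroup of H ∩ C_G(j) containing j such that ⟨j⟩ is a characteristic subgroup of T. Then T is a Sylow 2-subgroup of H. -/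
theorem result {G : Type*} [Group G] [Finite G]
    (j : G) (hj : orderOf j = 2) (H T : Subgroup G) (hT : T ≤ H ⊓ Subgroup.centralizer ({j} : Set G)) (h2 : IsPGroup 2 ↥T)
    (hSyl : ¬ 2 ∣ T.relIndex (H ⊓ Subgroup.centralizer ({j} : Set G))) (hjT : j ∈ T)
    (hchar : ((Subgroup.zpowers j).subgroupOf T).Characteristic) :
    ¬ 2 ∣ T.relIndex H := by
  have : Fact (Nat.Prime 2) := ⟨Nat.prime_two⟩
  have hTH : T ≤ H := hT.trans inf_le_left
  -- the normalizer of `T` centralizes `j`
  have hN : Subgroup.normalizer (T : Set G) ≤ Subgroup.centralizer ({j} : Set G) := by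
    intro x hx
    have hfix := hchar.fixed (T.normalizerMonoidHom ⟨x, hx⟩)⁻¹
    have hmem : (⟨j, hjT⟩ : ↥T) ∈ (Subgroup.zpowers j).subgroupOf T := by
      rw [Subgroup.mem_subgroupOf]; exact Subgroup.mem_zpowers j
    rw [← hfix, Subgroup.mem_comap, Subgroup.mem_subgroupOf] at hmem
    have hmem' : x⁻¹ * j * x ∈ Subgroup.zpowers j := by
      have e : (((T.normalizerMonoidHom ⟨x, hx⟩)⁻¹ ⟨j, hjT⟩ : ↥T) : G) = x⁻¹ * j * x := by
        rw [← map_inv]
        show x⁻¹ * j * x⁻¹⁻¹ = x⁻¹ * j * x
        rw [inv_inv]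
      rw [← e]; exact hmem
    obtain ⟨k, hk⟩ := Subgroup.mem_zpowers_iff.mp hmem'
    have hj2 : j ^ 2 = 1 := by rw [← hj]; exact pow_orderOf_eq_one j
    have hj1 : j ≠ 1 := by
      intro h; rw [h, orderOf_one] at hj; omega
    have hcases : j ^ k = 1 ∨ j ^ k = j := by
      rcases Int.even_or_odd' k with ⟨m, rfl | rfl⟩
      · left; rw [zpow_mul, zpow_ofNat, hj2, one_zpow]
      · right; rw [zpow_add, zpow_mul, zpow_ofNat, hj2, one_zpow, one_mul, zpow_one]
    rw [Subgroup.mem_centralizer_iff]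
    intro y hy
    rw [Set.mem_singleton_iff] at hy
    subst hy
    rcases hcases with h | h
    · exfalso
      rw [h] at hk
      apply hj1
      have : x⁻¹ * y * x = 1 := hk.symm
      calc y = x * (x⁻¹ * y * x) * x⁻¹ := by group
        _ = 1 := by rw [this]; group
    · rw [h] at hk
      have : x⁻¹ * y * x = y := hk.symm
      calc y * x = x * (x⁻¹ * y * x) := by group
        _ = x * y := by rw [this]
  have hinf : Subgroup.normalizer (T : Set G) ⊓ H =
      Subgroup.normalizer (T : Set G) ⊓ (H ⊓ Subgroup.centralizer ({j} : Set G)) := by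
    apply le_antisymm
    · exact le_inf inf_le_left (le_inf inf_le_right (inf_le_left.trans hN))
    · exact le_inf inf_le_left (inf_le_right.trans inf_le_left)
  have k1 := relIndex_normalizer_inf_modEq (p := 2) h2 hTH
  have k2 := relIndex_normalizer_inf_modEq (p := 2) h2 hT
  rw [hinf] at k1
  have k3 : T.relIndex H ≡ T.relIndex (H ⊓ Subgroup.centralizer ({j} : Set G)) [MOD 2] :=
    k1.symm.trans k2
  intro hdvd
  apply hSyl
  exact (Nat.modEq_zero_iff_dvd.mp ((k3.symm).trans (Nat.modEq_zero_iff_dvd.mpr hdvd)))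

end Cfsg.Agent.S3208
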