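import Cfsg.Statements.S3209
import Cfsg.Agent.Lib.helper59.SL2

set_option autoImplicit false
open Cfsg

namespace Cfsg.Agent.S3209

open Subgroup Cfsg.Agent.Lib.helper59

/-- Facts about a subgroup isomorphic to `SL₂(F)` (`F` of odd order) containing the involution `j`. -/
theorem sl2_facts_subgroup {G : Type*} [Group G] {F : Type*} [Field F] [Fintype F]
    (hF : Odd (Fintype.card F)) (L : Subgroup G)
    (e : ↥L ≃* Matrix.SpecialLinearGroup (Fin 2) F) (j : G) (hjL : j ∈ L) (hj2 : j ^ 2 = 1)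
    (hj1 : j ≠ 1) :
    (∀ a ∈ L, a ^ 2 = 1 → a = 1 ∨ a = j) ∧ (∃ a0 ∈ L, a0 ^ 2 = j) ∧
      (∀ a ∈ L, ∀ a' ∈ L, a ^ 2 = j → a' ^ 2 = j → ∃ g ∈ L, g * a * g⁻¹ = a') := by
  obtain ⟨f1, f2, f3⟩ := sl2_facts e hF (⟨j, hjL⟩ : ↥L) (Subtype.ext hj2)
    (fun h => hj1 (congrArg Subtype.val h))
  refine ⟨?_, ?_, ?_⟩
  · intro a ha ha2
    rcases f1 ⟨a, ha⟩ (Subtype.ext ha2) with h | h
    · left; exact congrArg Subtype.val h
    · right; exact congrArg Subtype.val h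
  · obtain ⟨a0, ha0⟩ := f2
    exact ⟨a0, a0.2, congrArg Subtype.val ha0⟩
  · intro a ha a' ha' h h'
    obtain ⟨g, hg⟩ := f3 ⟨a, ha⟩ ⟨a', ha'⟩ (Subtype.ext h) (Subtype.ext h')
    exact ⟨g, g.2, congrArg Subtype.val hg⟩

/-- Elements of the join of two elementwise commuting subgroups are products. -/
theorem mem_sup_of_commuting {G : Type*} [Group G] (L₁ L₂ : Subgroup G)
    (hc : ∀ x ∈ L₁, ∀ y ∈ L₂, x * y = y * x) :
    ∀ y ∈ L₁ ⊔ L₂, ∃ a ∈ L₁, ∃ b ∈ L₂, y = a * b := by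
  let M : Subgroup G :=
    { carrier := {y | ∃ a ∈ L₁, ∃ b ∈ L₂, y = a * b}
      mul_mem' := by
        rintro _ _ ⟨a, ha, b, hb, rfl⟩ ⟨a', ha', b', hb', rfl⟩
        refine ⟨a * a', mul_mem ha ha', b * b', mul_mem hb hb', ?_⟩
        have h1 := hc a' ha' b hb
        calc a * b * (a' * b') = a * (b * a') * b' := by group
          _ = a * (a' * b) * b' := by rw [h1]
          _ = a * a' * (b * b') := by group
      one_mem' := ⟨1, one_mem _, 1, one_mem _, by simp⟩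
      inv_mem' := by
        rintro _ ⟨a, ha, b, hb, rfl⟩
        refine ⟨a⁻¹, inv_mem ha, b⁻¹, inv_mem hb, ?_⟩
        have h1 := hc a⁻¹ (inv_mem ha) b⁻¹ (inv_mem hb)
        rw [mul_inv_rev, h1] }
  have hle : L₁ ⊔ L₂ ≤ M := by
    apply sup_le
    · intro a ha; exact ⟨a, ha, 1, one_mem _, by simp⟩
    · intro b hb; exact ⟨1, one_mem _, b, hb, by simp⟩
  intro y hy
  exact hle hy

/-- Let L₁ ≅ SL₂(q₁) and L₂ ≅ SL₂(q₂), q₁ and q₂ odd, be elementwise-commuting subgroups of a finite group meeting in ⟨j⟩ for an involution j. Then L₁L₂ has exactly two conjugacy classes of involutions: the central involution j, and one further class (there is an involution x ≠ j in L₁L₂, and every involution of L₁L₂ other than j is conjugate to x by an element of L₁L₂). -/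
theorem result {G : Type*} [Group G] [Finite G]
    {F₁ : Type*} [Field F₁] [Fintype F₁] {F₂ : Type*} [Field F₂] [Fintype F₂]
    (hF₁ : Odd (Fintype.card F₁)) (hF₂ : Odd (Fintype.card F₂)) (L₁ L₂ : Subgroup G)
    (e₁ : ↥L₁ ≃* Matrix.SpecialLinearGroup (Fin 2) F₁) (e₂ : ↥L₂ ≃* Matrix.SpecialLinearGroup (Fin 2) F₂)
    (hc : ∀ x ∈ L₁, ∀ y ∈ L₂, x * y = y * x) (j : G) (hj : orderOf j = 2) (hm : L₁ ⊓ L₂ = Subgroup.zpowers j) :
    ∃ x ∈ L₁ ⊔ L₂, orderOf x = 2 ∧ x ≠ j ∧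
      ∀ y ∈ L₁ ⊔ L₂, orderOf y = 2 → y = j ∨ ∃ g ∈ L₁ ⊔ L₂, g * x * g⁻¹ = y := by
  have hj2 : j ^ 2 = 1 := by rw [← hj]; exact pow_orderOf_eq_one j
  have hj1 : j ≠ 1 := by
    intro h; rw [h, orderOf_one] at hj; omega
  have hjinv : j⁻¹ = j := by
    rw [inv_eq_iff_mul_eq_one, ← pow_two]; exact hj2
  have hjmem : j ∈ L₁ ⊓ L₂ := by rw [hm]; exact mem_zpowers j
  have hjL1 : j ∈ L₁ := hjmem.1
  have hjL2 : j ∈ L₂ := hjmem.2
  -- elements of the intersection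
  have hint : ∀ a, a ∈ L₁ → a ∈ L₂ → a = 1 ∨ a = j := by
    intro a h1 h2
    have ha : a ∈ zpowers j := by rw [← hm]; exact ⟨h1, h2⟩
    obtain ⟨k, rfl⟩ := mem_zpowers_iff.mp ha
    rcases Int.even_or_odd' k with ⟨m, rfl | rfl⟩
    · left; rw [zpow_mul, zpow_ofNat, hj2, one_zpow]
    · right; rw [zpow_add, zpow_mul, zpow_ofNat, hj2, one_zpow, one_mul, zpow_one]
  have hint2 : ∀ a, a ∈ L₁ → a ∈ L₂ → a ^ 2 = 1 := by
    intro a h1 h2
    rcases hint a h1 h2 with h | h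
    · rw [h, one_pow]
    · rw [h, hj2]
  obtain ⟨A1, A2, A3⟩ := sl2_facts_subgroup hF₁ L₁ e₁ j hjL1 hj2 hj1
  obtain ⟨B1, B2, B3⟩ := sl2_facts_subgroup hF₂ L₂ e₂ j hjL2 hj2 hj1
  obtain ⟨a0, ha0, ha0j⟩ := A2
  obtain ⟨b0, hb0, hb0j⟩ := B2
  have hab0 : a0 * b0 = b0 * a0 := hc a0 ha0 b0 hb0
  have ha0not : a0 ∉ L₂ := by
    intro h
    have := hint2 a0 ha0 h
    rw [ha0j] at this
    exact hj1 this
  refine ⟨a0 * b0, mul_mem (mem_sup_left ha0) (mem_sup_right hb0), ?_, ?_, ?_⟩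
  · apply orderOf_eq_prime
    · have hcm : Commute a0 b0 := hab0
      rw [hcm.mul_pow, ha0j, hb0j, ← pow_two, hj2]
    · intro h
      apply ha0not
      have : a0 = b0⁻¹ := eq_inv_of_mul_eq_one_left h
      rw [this]; exact inv_mem hb0
  · intro h
    apply ha0not
    have : a0 = j * b0⁻¹ := by rw [← h]; group
    rw [this]; exact mul_mem hjL2 (inv_mem hb0)
  · intro y hy hy2
    obtain ⟨a, ha, b, hb, rfl⟩ := mem_sup_of_commuting L₁ L₂ hc y hy
    have hy2' : (a * b) ^ 2 = 1 := by rw [← hy2]; exact pow_orderOf_eq_one _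
    have hy1 : a * b ≠ 1 := by
      intro h; rw [h, orderOf_one] at hy2; omega
    have hcm : Commute a b := hc a ha b hb
    rw [hcm.mul_pow] at hy2'
    have ha2 : a ^ 2 = (b ^ 2)⁻¹ := eq_inv_of_mul_eq_one_left hy2'
    have ha2L2 : a ^ 2 ∈ L₂ := by rw [ha2]; exact inv_mem (pow_mem hb 2)
    rcases hint (a ^ 2) (pow_mem ha 2) ha2L2 with h | h
    · -- a² = 1, b² = 1
      left
      have hb2 : b ^ 2 = 1 := by
        rw [h] at hy2'; rw [one_mul] at hy2'; exact hy2'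
      rcases A1 a ha h with h1 | h1 <;> rcases B1 b hb hb2 with h2 | h2
      · exfalso; apply hy1; rw [h1, h2, one_mul]
      · rw [h1, h2, one_mul]
      · rw [h1, h2, mul_one]
      · exfalso; apply hy1; rw [h1, h2, ← pow_two, hj2]
    · -- a² = j = b²
      right
      have hb2 : b ^ 2 = j := by
        rw [h] at hy2'
        have : b ^ 2 = j⁻¹ := eq_inv_of_mul_eq_one_right hy2'
        rw [this, hjinv]
      obtain ⟨g1, hg1, hg1a⟩ := A3 a0 ha0 a ha ha0j h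
      obtain ⟨g2, hg2, hg2b⟩ := B3 b0 hb0 b hb hb0j hb2
      refine ⟨g1 * g2, mul_mem (mem_sup_left hg1) (mem_sup_right hg2), ?_⟩
      have h1 : g2 * a0 = a0 * g2 := (hc a0 ha0 g2 hg2).symm
      have h2 : g1⁻¹ * b = b * g1⁻¹ := hc g1⁻¹ (inv_mem hg1) b hb
      calc g1 * g2 * (a0 * b0) * (g1 * g2)⁻¹
          = g1 * (g2 * a0) * b0 * g2⁻¹ * g1⁻¹ := by group
        _ = g1 * (a0 * g2) * b0 * g2⁻¹ * g1⁻¹ := by rw [h1]
        _ = g1 * a0 * (g2 * b0 * g2⁻¹) * g1⁻¹ := by group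
        _ = g1 * a0 * (b * g1⁻¹) := by rw [hg2b]; group
        _ = g1 * a0 * (g1⁻¹ * b) := by rw [h2]
        _ = (g1 * a0 * g1⁻¹) * b := by group
        _ = a * b := by rw [hg1a]

end Cfsg.Agent.S3209
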