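import Cfsg.Statements.S3210
import Cfsg.Agent.S3209
import Cfsg.Agent.Lib.helper59.Basic
import Cfsg.Agent.Lib.helper59.SL2More

set_option autoImplicit false
open Cfsg

namespace Cfsg.Agent.S3210

open Subgroup Cfsg.Agent.Lib.helper59

/-- The abstract properties of a commuting pair of `SL₂`-subgroups meeting in `⟨j⟩` that we use. -/
structure SLPair {G : Type*} [Group G] (L₁ L₂ : Subgroup G) (j : G) : Prop where
  hc : ∀ x ∈ L₁, ∀ y ∈ L₂, x * y = y * x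
  hj2 : j ^ 2 = 1
  hj1 : j ≠ 1
  hjL1 : j ∈ L₁
  hjL2 : j ∈ L₂
  hint : ∀ a, a ∈ L₁ → a ∈ L₂ → a = 1 ∨ a = j
  A1 : ∀ a ∈ L₁, a ^ 2 = 1 → a = 1 ∨ a = j
  A2 : ∃ a ∈ L₁, a ^ 2 = j
  A4 : ∀ a ∈ L₁, ∀ a' ∈ L₁, a ^ 2 = j → a' ^ 2 = j → a * a' = a' * a → a' = a ∨ a' = a⁻¹
  A5 : ∀ g ∈ L₁, (∀ a ∈ L₁, a ^ 2 = j → g * a = a * g) → g = 1 ∨ g = j
  B1 : ∀ a ∈ L₂, a ^ 2 = 1 → a = 1 ∨ a = j
  B2 : ∃ a ∈ L₂, a ^ 2 = j
  B4 : ∀ a ∈ L₂, ∀ a' ∈ L₂, a ^ 2 = j → a' ^ 2 = j → a * a' = a' * a → a' = a ∨ a' = a⁻¹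
  B5 : ∀ g ∈ L₂, (∀ a ∈ L₂, a ^ 2 = j → g * a = a * g) → g = 1 ∨ g = j

theorem SLPair.symm {G : Type*} [Group G] {L₁ L₂ : Subgroup G} {j : G} (h : SLPair L₁ L₂ j) :
    SLPair L₂ L₁ j where
  hc := fun x hx y hy => (h.hc y hy x hx).symm
  hj2 := h.hj2
  hj1 := h.hj1
  hjL1 := h.hjL2
  hjL2 := h.hjL1
  hint := fun a h1 h2 => h.hint a h2 h1
  A1 := h.B1
  A2 := h.B2
  A4 := h.B4
  A5 := h.B5
  B1 := h.A1
  B2 := h.A2
  B4 := h.A4
  B5 := h.A5

/-- More facts about a subgroup isomorphic to `SL₂(F)`. -/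
theorem sl2_facts_more_subgroup {G : Type*} [Group G] {F : Type*} [Field F] [Fintype F]
    (hF : Odd (Fintype.card F)) (L : Subgroup G)
    (e : ↥L ≃* Matrix.SpecialLinearGroup (Fin 2) F) (j : G) (hjL : j ∈ L) (hj2 : j ^ 2 = 1)
    (hj1 : j ≠ 1) :
    (∀ a ∈ L, ∀ a' ∈ L, a ^ 2 = j → a' ^ 2 = j → a * a' = a' * a → a' = a ∨ a' = a⁻¹) ∧
      (∀ g ∈ L, (∀ a ∈ L, a ^ 2 = j → g * a = a * g) → g = 1 ∨ g = j) := by
  obtain ⟨f1, f2, -⟩ := sl2_facts_more e hF (⟨j, hjL⟩ : ↥L) (Subtype.ext hj2)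
    (fun h => hj1 (congrArg Subtype.val h))
  refine ⟨?_, ?_⟩
  · intro a ha a' ha' h h' hcm
    rcases f1 ⟨a, ha⟩ ⟨a', ha'⟩ (Subtype.ext h) (Subtype.ext h') (Subtype.ext hcm) with h3 | h3
    · left; exact congrArg Subtype.val h3
    · right; exact congrArg Subtype.val h3
  · intro g hg hall
    have : ∀ a : ↥L, a ^ 2 = (⟨j, hjL⟩ : ↥L) → (⟨g, hg⟩ : ↥L) * a = a * ⟨g, hg⟩ := by
      intro a ha
      apply Subtype.ext
      exact hall a.1 a.2 (congrArg Subtype.val ha)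
    rcases f2 ⟨g, hg⟩ this with h3 | h3
    · left; exact congrArg Subtype.val h3
    · right; exact congrArg Subtype.val h3

section pair

variable {G : Type*} [Group G] {L₁ L₂ : Subgroup G} {j : G}

theorem SLPair.hint2 (h : SLPair L₁ L₂ j) : ∀ a, a ∈ L₁ → a ∈ L₂ → a ^ 2 = 1 := by
  intro a h1 h2
  rcases h.hint a h1 h2 with h3 | h3
  · rw [h3, one_pow]
  · rw [h3, h.hj2]

/-- An element of `L₁ L₂` with square `j` lies in `L₁` or in `L₂`. -/
theorem SLPair.sq_mem (h : SLPair L₁ L₂ j) :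
    ∀ y ∈ L₁ ⊔ L₂, y ^ 2 = j → y ∈ L₁ ∨ y ∈ L₂ := by
  intro y hy hy2
  obtain ⟨a, ha, b, hb, rfl⟩ := Cfsg.Agent.S3209.mem_sup_of_commuting L₁ L₂ h.hc y hy
  have hcm : Commute a b := h.hc a ha b hb
  rw [hcm.mul_pow] at hy2
  have ha2 : a ^ 2 = j * (b ^ 2)⁻¹ := by rw [← hy2]; group
  have ha2L2 : a ^ 2 ∈ L₂ := by rw [ha2]; exact mul_mem h.hjL2 (inv_mem (pow_mem hb 2))
  rcases h.hint (a ^ 2) (pow_mem ha 2) ha2L2 with h3 | h3
  · right
    rcases h.A1 a ha h3 with h4 | h4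
    · rw [h4, one_mul]; exact hb
    · rw [h4]; exact mul_mem h.hjL2 hb
  · left
    have hb2 : b ^ 2 = 1 := by
      rw [h3] at hy2
      exact mul_eq_left.mp hy2
    rcases h.B1 b hb hb2 with h4 | h4
    · rw [h4, mul_one]; exact ha
    · rw [h4]; exact mul_mem ha h.hjL1

/-- `L₁` is the centralizer in `L₁ L₂` of the elements of `L₂` with square `j`. -/
theorem SLPair.mem_left (h : SLPair L₁ L₂ j) :
    ∀ y ∈ L₁ ⊔ L₂, (∀ b ∈ L₂, b ^ 2 = j → y * b = b * y) → y ∈ L₁ := by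
  intro y hy hall
  obtain ⟨a, ha, b₀, hb₀, rfl⟩ := Cfsg.Agent.S3209.mem_sup_of_commuting L₁ L₂ h.hc y hy
  have h1 : ∀ b ∈ L₂, b ^ 2 = j → b₀ * b = b * b₀ := by
    intro b hb hb2
    have h2 := hall b hb hb2
    have h3 := h.hc a ha b hb
    have h4 : a * (b₀ * b) = a * (b * b₀) := by
      calc a * (b₀ * b) = a * b₀ * b := by group
        _ = b * (a * b₀) := h2
        _ = (b * a) * b₀ := by group
        _ = (a * b) * b₀ := by rw [h3]
        _ = a * (b * b₀) := by group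
    exact mul_left_cancel h4
  rcases h.B5 b₀ hb₀ h1 with h2 | h2
  · rw [h2, mul_one]; exact ha
  · rw [h2]; exact mul_mem ha h.hjL1

variable {C : Subgroup G}

/-- Dichotomy: conjugation by `m` sends the elements of `L₁` of square `j` all into `L₁` or all
into `L₂`. -/
theorem SLPair.dichotomy (h : SLPair L₁ L₂ j)
    (hnorm : ∀ m ∈ C, ∀ y ∈ L₁ ⊔ L₂, m * y * m⁻¹ ∈ L₁ ⊔ L₂)
    (hcent : ∀ m ∈ C, m * j * m⁻¹ = j) (m : G) (hm : m ∈ C) :
    (∀ a ∈ L₁, a ^ 2 = j → m * a * m⁻¹ ∈ L₁) ∨ (∀ a ∈ L₁, a ^ 2 = j → m * a * m⁻¹ ∈ L₂) := by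
  by_contra hcon
  rw [not_or] at hcon
  obtain ⟨h1, h2⟩ := hcon
  push Not at h1 h2
  obtain ⟨a, ha, ha2, hna⟩ := h1
  obtain ⟨a', ha', ha2', hna'⟩ := h2
  have e1 : (m * a * m⁻¹) ^ 2 = j := by rw [conj_pow, ha2, hcent m hm]
  have e1' : (m * a' * m⁻¹) ^ 2 = j := by rw [conj_pow, ha2', hcent m hm]
  have m1 : m * a * m⁻¹ ∈ L₂ := by
    rcases h.sq_mem _ (hnorm m hm a (mem_sup_left ha)) e1 with h3 | h3
    · exact absurd h3 hna
    · exact h3
  have m1' : m * a' * m⁻¹ ∈ L₁ := by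
    rcases h.sq_mem _ (hnorm m hm a' (mem_sup_left ha')) e1' with h3 | h3
    · exact h3
    · exact absurd h3 hna'
  have hcm := h.hc _ m1' _ m1
  have hcm' : a * a' = a' * a := by
    calc a * a' = m⁻¹ * ((m * a * m⁻¹) * (m * a' * m⁻¹)) * m := by group
      _ = m⁻¹ * ((m * a' * m⁻¹) * (m * a * m⁻¹)) * m := by rw [hcm]
      _ = a' * a := by group
  rcases h.A4 a ha a' ha' ha2 ha2' hcm' with h3 | h3
  · apply hna'; rw [h3]; exact m1
  · apply hna'; rw [h3]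
    have : m * a⁻¹ * m⁻¹ = (m * a * m⁻¹)⁻¹ := by group
    rw [this]; exact inv_mem m1

/-- The two kinds of elements of square `j` cannot both be sent into `L₁`. -/
theorem SLPair.not_both (h : SLPair L₁ L₂ j)
    (hcent : ∀ m ∈ C, m * j * m⁻¹ = j) (m : G) (hm : m ∈ C)
    (hP : ∀ a ∈ L₁, a ^ 2 = j → m * a * m⁻¹ ∈ L₁) (hQ : ∀ b ∈ L₂, b ^ 2 = j → m * b * m⁻¹ ∈ L₁) :
    False := by
  obtain ⟨a, ha, ha2⟩ := h.A2
  obtain ⟨b, hb, hb2⟩ := h.B2
  have e1 : (m * a * m⁻¹) ^ 2 = j := by rw [conj_pow, ha2, hcent m hm]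
  have e2 : (m * b * m⁻¹) ^ 2 = j := by rw [conj_pow, hb2, hcent m hm]
  have hcm : (m * a * m⁻¹) * (m * b * m⁻¹) = (m * b * m⁻¹) * (m * a * m⁻¹) := by
    have := h.hc a ha b hb
    calc (m * a * m⁻¹) * (m * b * m⁻¹) = m * (a * b) * m⁻¹ := by group
      _ = m * (b * a) * m⁻¹ := by rw [this]
      _ = (m * b * m⁻¹) * (m * a * m⁻¹) := by group
  have hbL1 : b ∈ L₁ := by
    rcases h.A4 _ (hP a ha ha2) _ (hQ b hb hb2) e1 e2 hcm with h3 | h3
    · have : b = a := by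
        have h4 : m⁻¹ * (m * b * m⁻¹) * m = m⁻¹ * (m * a * m⁻¹) * m := by rw [h3]
        calc b = m⁻¹ * (m * b * m⁻¹) * m := by group
          _ = m⁻¹ * (m * a * m⁻¹) * m := h4
          _ = a := by group
      rw [this]; exact ha
    · have : b = a⁻¹ := by
        have h4 : m⁻¹ * (m * b * m⁻¹) * m = m⁻¹ * (m * a * m⁻¹)⁻¹ * m := by rw [h3]
        calc b = m⁻¹ * (m * b * m⁻¹) * m := by group
          _ = m⁻¹ * (m * a * m⁻¹)⁻¹ * m := h4
          _ = a⁻¹ := by group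
      rw [this]; exact inv_mem ha
  have := h.hint2 b hbL1 hb
  rw [hb2] at this
  exact h.hj1 this

/-- If `y ∈ L₁ L₂` commutes with the `m`-conjugates of the elements of `L₂` of square `j`, then
`m⁻¹ y m ∈ L₁`. -/
theorem SLPair.conj_mem_left (h : SLPair L₁ L₂ j)
    (hnorm : ∀ m ∈ C, ∀ y ∈ L₁ ⊔ L₂, m * y * m⁻¹ ∈ L₁ ⊔ L₂) (m : G) (hm : m ∈ C)
    (y : G) (hy : y ∈ L₁ ⊔ L₂)
    (hall : ∀ b ∈ L₂, b ^ 2 = j → y * (m * b * m⁻¹) = (m * b * m⁻¹) * y) :
    m⁻¹ * y * m ∈ L₁ := by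
  apply h.mem_left
  · have := hnorm m⁻¹ (inv_mem hm) y hy
    rwa [inv_inv] at this
  · intro b hb hb2
    have := hall b hb hb2
    calc m⁻¹ * y * m * b = m⁻¹ * (y * (m * b * m⁻¹)) * m := by group
      _ = m⁻¹ * ((m * b * m⁻¹) * y) * m := by rw [this]
      _ = b * (m⁻¹ * y * m) := by group

end pair

/-- Let G be a finite group with subgroups L₁ ≅ SL₂(q₁) and L₂ ≅ SL₂(q₂), q₁ and q₂ odd prime powers, which commute elementwise and meet in ⟨j⟩ for an involution j, and suppose L₁L₂ has index 2 in C_G(j). Then every element n of C_G(j) outside L₁L₂ either normalizes both L₁ and L₂, or conjugates L₁ onto L₂; in the second case q₁ = q₂ and there is an element n′ of C_G(j) outside L₁L₂ conjugating L₁ onto L₂ with n′² ∈ ⟨j⟩. -/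
theorem result {G : Type*} [Group G] [Finite G]
    {F₁ : Type*} [Field F₁] [Fintype F₁] {F₂ : Type*} [Field F₂] [Fintype F₂]
    (hF₁ : Odd (Fintype.card F₁)) (hF₂ : Odd (Fintype.card F₂)) (L₁ L₂ : Subgroup G)
    (e₁ : ↥L₁ ≃* Matrix.SpecialLinearGroup (Fin 2) F₁) (e₂ : ↥L₂ ≃* Matrix.SpecialLinearGroup (Fin 2) F₂)
    (hc : ∀ x ∈ L₁, ∀ y ∈ L₂, x * y = y * x) (j : G) (hj : orderOf j = 2) (hm : L₁ ⊓ L₂ = Subgroup.zpowers j)
    (hle : L₁ ⊔ L₂ ≤ Subgroup.centralizer ({j} : Set G)) (hi : (L₁ ⊔ L₂).relIndex (Subgroup.centralizer ({j} : Set G)) = 2) (n : G) (hn : n ∈ Subgroup.centralizer ({j} : Set G)) (hn' : n ∉ L₁ ⊔ L₂) :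
    (L₁.map (MulAut.conj n).toMonoidHom = L₁ ∧ L₂.map (MulAut.conj n).toMonoidHom = L₂) ∨
      (L₁.map (MulAut.conj n).toMonoidHom = L₂ ∧ Fintype.card F₁ = Fintype.card F₂ ∧
        ∃ n' ∈ Subgroup.centralizer ({j} : Set G), n' ∉ L₁ ⊔ L₂ ∧ L₁.map (MulAut.conj n').toMonoidHom = L₂ ∧ n' ^ 2 ∈ Subgroup.zpowers j) := by
  have hj2 : j ^ 2 = 1 := by rw [← hj]; exact pow_orderOf_eq_one j
  have hj1 : j ≠ 1 := by
    intro h; rw [h, orderOf_one] at hj; omega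
  have hjmem : j ∈ L₁ ⊓ L₂ := by rw [hm]; exact mem_zpowers j
  have hjL1 : j ∈ L₁ := hjmem.1
  have hjL2 : j ∈ L₂ := hjmem.2
  have hint : ∀ a, a ∈ L₁ → a ∈ L₂ → a = 1 ∨ a = j := by
    intro a h1 h2
    have ha : a ∈ zpowers j := by rw [← hm]; exact ⟨h1, h2⟩
    obtain ⟨k, rfl⟩ := mem_zpowers_iff.mp ha
    rcases Int.even_or_odd' k with ⟨m, rfl | rfl⟩
    · left; rw [zpow_mul, zpow_ofNat, hj2, one_zpow]
    · right; rw [zpow_add, zpow_mul, zpow_ofNat, hj2, one_zpow, one_mul, zpow_one]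
  obtain ⟨A1, A2, -⟩ := Cfsg.Agent.S3209.sl2_facts_subgroup hF₁ L₁ e₁ j hjL1 hj2 hj1
  obtain ⟨B1, B2, -⟩ := Cfsg.Agent.S3209.sl2_facts_subgroup hF₂ L₂ e₂ j hjL2 hj2 hj1
  obtain ⟨A4, A5⟩ := sl2_facts_more_subgroup hF₁ L₁ e₁ j hjL1 hj2 hj1
  obtain ⟨B4, B5⟩ := sl2_facts_more_subgroup hF₂ L₂ e₂ j hjL2 hj2 hj1
  have hp : SLPair L₁ L₂ j :=
    { hc := hc, hj2 := hj2, hj1 := hj1, hjL1 := hjL1, hjL2 := hjL2, hint := hint
      A1 := A1, A2 := A2, A4 := A4, A5 := A5, B1 := B1, B2 := B2, B4 := B4, B5 := B5 }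
  have hp' : SLPair L₂ L₁ j := hp.symm
  set C : Subgroup G := Subgroup.centralizer ({j} : Set G) with hC
  -- centralizing j
  have hcent : ∀ m ∈ C, m * j * m⁻¹ = j := by
    intro m hm
    have := (Subgroup.mem_centralizer_iff.mp hm) j (Set.mem_singleton j)
    rw [← this]; group
  -- normality of Y in C
  have hnormal : ((L₁ ⊔ L₂).subgroupOf C).Normal := Subgroup.normal_of_index_eq_two hi
  have hnorm : ∀ m ∈ C, ∀ y ∈ L₁ ⊔ L₂, m * y * m⁻¹ ∈ L₁ ⊔ L₂ := by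
    intro m hm y hy
    have h1 : (⟨y, hle hy⟩ : ↥C) ∈ (L₁ ⊔ L₂).subgroupOf C := by
      rw [Subgroup.mem_subgroupOf]; exact hy
    have h2 := hnormal.conj_mem _ h1 ⟨m, hm⟩
    rw [Subgroup.mem_subgroupOf] at h2
    exact h2
  have hnorm' : ∀ m ∈ C, ∀ y ∈ L₂ ⊔ L₁, m * y * m⁻¹ ∈ L₂ ⊔ L₁ := by
    intro m hm y hy
    rw [sup_comm] at hy ⊢
    exact hnorm m hm y hy
  have hsq : n ^ 2 ∈ L₁ ⊔ L₂ := by
    have h2 := Subgroup.sq_mem_of_index_two hi (⟨n, hn⟩ : ↥C)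
    rw [Subgroup.mem_subgroupOf] at h2
    exact h2
  -- the dichotomy
  have hinj : Function.Injective (MulAut.conj n).toMonoidHom := (MulAut.conj n).injective
  have hcardmap : ∀ L : Subgroup G, Nat.card (L.map (MulAut.conj n).toMonoidHom) = Nat.card L :=
    fun L => Subgroup.card_map_of_injective hinj
  have hmemmap : ∀ (L : Subgroup G) (x : G), n⁻¹ * x * n ∈ L →
      x ∈ L.map (MulAut.conj n).toMonoidHom := fun L x hx => (mem_map_conj L n x).mpr hx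
  rcases hp.dichotomy hnorm hcent n hn with hP | hQ
  · -- case P
    have hP' : ∀ b ∈ L₂, b ^ 2 = j → n * b * n⁻¹ ∈ L₂ := by
      rcases hp'.dichotomy hnorm' hcent n hn with h | h
      · exact h
      · exact (hp.not_both hcent n hn hP h).elim
    left
    have k1 : ∀ a ∈ L₁, n⁻¹ * a * n ∈ L₁ := by
      intro a ha
      apply hp.conj_mem_left hnorm n hn a (mem_sup_left ha)
      intro b hb hb2
      exact hc a ha _ (hP' b hb hb2)
    have k2 : ∀ b ∈ L₂, n⁻¹ * b * n ∈ L₂ := by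
      intro b hb
      apply hp'.conj_mem_left hnorm' n hn b (mem_sup_left hb)
      intro a ha ha2
      exact (hc _ (hP a ha ha2) b hb).symm
    constructor
    · symm
      apply Subgroup.eq_of_le_of_card_ge
      · intro a ha
        exact hmemmap L₁ a (k1 a ha)
      · rw [hcardmap]
    · symm
      apply Subgroup.eq_of_le_of_card_ge
      · intro b hb
        exact hmemmap L₂ b (k2 b hb)
      · rw [hcardmap]
  · -- case Q
    have hQ' : ∀ b ∈ L₂, b ^ 2 = j → n * b * n⁻¹ ∈ L₁ := by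
      rcases hp'.dichotomy hnorm' hcent n hn with h | h
      · exact (hp'.not_both hcent n hn h hQ).elim
      · exact h
    right
    have k1 : ∀ b ∈ L₂, n⁻¹ * b * n ∈ L₁ := by
      intro b hb
      apply hp.conj_mem_left hnorm n hn b (mem_sup_right hb)
      intro b' hb' hb2'
      exact (hc _ (hQ' b' hb' hb2') b hb).symm
    have k2 : ∀ a ∈ L₁, n⁻¹ * a * n ∈ L₂ := by
      intro a ha
      apply hp'.conj_mem_left hnorm' n hn a (mem_sup_right ha)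
      intro a' ha' ha2'
      exact hc a ha _ (hQ a' ha' ha2')
    have le1 : L₂ ≤ L₁.map (MulAut.conj n).toMonoidHom := fun b hb => hmemmap L₁ b (k1 b hb)
    have le2 : L₁ ≤ L₂.map (MulAut.conj n).toMonoidHom := fun a ha => hmemmap L₂ a (k2 a ha)
    have c1 : Nat.card L₂ ≤ Nat.card L₁ := by
      have := Subgroup.card_le_of_le le1
      rwa [hcardmap] at this
    have c2 : Nat.card L₁ ≤ Nat.card L₂ := by
      have := Subgroup.card_le_of_le le2
      rwa [hcardmap] at this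
    have hmapeq : L₁.map (MulAut.conj n).toMonoidHom = L₂ := by
      symm
      apply Subgroup.eq_of_le_of_card_ge le1
      rw [hcardmap]; exact c2
    refine ⟨hmapeq, ?_, ?_⟩
    · -- equality of the field orders
      have eL : ↥L₁ ≃* ↥L₂ :=
        (Subgroup.equivMapOfInjective L₁ (MulAut.conj n).toMonoidHom hinj).trans
          (MulEquiv.subgroupCongr hmapeq)
      exact card_eq_of_sl2_equiv (e₁.symm.trans (eL.trans e₂))
    · -- the element n'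
      obtain ⟨a, ha, b, hb, hab⟩ := Cfsg.Agent.S3209.mem_sup_of_commuting L₁ L₂ hc _ hsq
      have hcL : n⁻¹ * a * n ∈ L₂ := k2 a ha
      have hbL : n⁻¹ * b * n ∈ L₁ := k1 b hb
      refine ⟨n * a⁻¹, mul_mem hn (hle (mem_sup_left (inv_mem ha))), ?_, ?_, ?_⟩
      · intro hmem
        apply hn'
        have : n = n * a⁻¹ * a := by group
        rw [this]
        exact mul_mem hmem (mem_sup_left ha)
      · ext x
        rw [mem_map_conj, ← hmapeq, mem_map_conj]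
        have : (n * a⁻¹)⁻¹ * x * (n * a⁻¹) = a * (n⁻¹ * x * n) * a⁻¹ := by group
        rw [this]
        constructor
        · intro hx
          have : n⁻¹ * x * n = a⁻¹ * (a * (n⁻¹ * x * n) * a⁻¹) * a := by group
          rw [this]
          exact mul_mem (mul_mem (inv_mem ha) hx) ha
        · intro hx
          exact mul_mem (mul_mem ha hx) (inv_mem ha)
      · -- n'^2 = b * (n⁻¹ a n)⁻¹
        set c := n⁻¹ * a * n with hcdef
        have hnn : n⁻¹ * (a * b) * n = a * b := by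
          rw [← hab]; group
        have e1 : (n * a⁻¹) ^ 2 = b * c⁻¹ := by
          have h1 : a⁻¹ * b = b * a⁻¹ := hc a⁻¹ (inv_mem ha) b hb
          have h2 : a⁻¹ * c⁻¹ = c⁻¹ * a⁻¹ := hc a⁻¹ (inv_mem ha) c⁻¹ (inv_mem hcL)
          have h0 : (n * a⁻¹) ^ 2 = n ^ 2 * (n⁻¹ * a * n)⁻¹ * a⁻¹ := by
            rw [pow_two, pow_two]; group
          calc (n * a⁻¹) ^ 2 = n ^ 2 * (n⁻¹ * a * n)⁻¹ * a⁻¹ := h0
            _ = a * b * c⁻¹ * a⁻¹ := by rw [hab]
            _ = a * b * (c⁻¹ * a⁻¹) := by group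
            _ = a * b * (a⁻¹ * c⁻¹) := by rw [h2]
            _ = a * (b * a⁻¹) * c⁻¹ := by group
            _ = a * (a⁻¹ * b) * c⁻¹ := by rw [h1]
            _ = b * c⁻¹ := by group
        -- c⁻¹ * b ∈ L₁ ⊓ L₂
        have h3 : c⁻¹ * b ∈ L₂ := mul_mem (inv_mem hcL) hb
        have h4 : c⁻¹ * b ∈ L₁ := by
          have h5 : c⁻¹ * a = a * c⁻¹ := (hc a ha c⁻¹ (inv_mem hcL)).symm
          have h6 : a * (c⁻¹ * b) = n⁻¹ * b * n := by
            calc a * (c⁻¹ * b) = (a * c⁻¹) * b := by group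
              _ = (c⁻¹ * a) * b := by rw [h5]
              _ = c⁻¹ * (a * b) := by group
              _ = c⁻¹ * (n⁻¹ * (a * b) * n) := by rw [hnn]
              _ = n⁻¹ * b * n := by rw [hcdef]; group
          have h7 : c⁻¹ * b = a⁻¹ * (n⁻¹ * b * n) := by rw [← h6]; group
          rw [h7]
          exact mul_mem (inv_mem ha) hbL
        rw [e1]
        rcases hint _ h4 h3 with h5 | h5
        · have : b * c⁻¹ = 1 := by
            have h6 : b = c := by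
              have := congrArg (fun t => c * t) h5
              simpa using this
            rw [h6, mul_inv_cancel]
          rw [this]; exact one_mem _
        · have h6 : b = c * j := by rw [← h5]; group
          have h7 : c * j = j * c := by
            have := (Subgroup.mem_centralizer_iff.mp (hle (mem_sup_right hcL))) j
              (Set.mem_singleton j)
            exact this.symm
          have : b * c⁻¹ = j := by
            rw [h6, h7]; group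
          rw [this]; exact mem_zpowers j

end Cfsg.Agent.S3210
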