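import Cfsg.Statements.S3211
import Mathlib
import Cfsg.Agent.S0215
import Cfsg.Agent.Lib.helper59.TwoSLc
-- import your own Cfsg.Agent.* helpers here

set_option autoImplicit false
open Cfsg

namespace Cfsg.Agent.S3211

/-- Let G be a finite group with subgroups L₁ ≅ SL₂(q₁) and L₂ ≅ SL₂(q₂), q₁ and q₂ odd prime powers, which commute elementwise and meet in ⟨j⟩ for an involution j, and suppose L₁L₂ has index 2 in C_G(j). If some n ∈ C_G(j) with n² = j interchanges L₁ and L₂ under conjugation (so that C_G(j) = L₁L₂⟨n⟩), then G = C_G(j)O(G). -/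
theorem result {G : Type*} [Group G] [Finite G]
    {F₁ : Type*} [Field F₁] [Fintype F₁] {F₂ : Type*} [Field F₂] [Fintype F₂]
    (hF₁ : Odd (Fintype.card F₁)) (hF₂ : Odd (Fintype.card F₂)) (L₁ L₂ : Subgroup G)
    (e₁ : ↥L₁ ≃* Matrix.SpecialLinearGroup (Fin 2) F₁) (e₂ : ↥L₂ ≃* Matrix.SpecialLinearGroup (Fin 2) F₂)
    (hc : ∀ x ∈ L₁, ∀ y ∈ L₂, x * y = y * x) (j : G) (hj : orderOf j = 2) (hm : L₁ ⊓ L₂ = Subgroup.zpowers j)
    (hle : L₁ ⊔ L₂ ≤ Subgroup.centralizer ({j} : Set G)) (hi : (L₁ ⊔ L₂).relIndex (Subgroup.centralizer ({j} : Set G)) = 2) (n : G) (hn : n ∈ Subgroup.centralizer ({j} : Set G))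
    (hn2 : n ^ 2 = j) (hswap : L₁.map (MulAut.conj n).toMonoidHom = L₂) :
    Subgroup.centralizer ({j} : Set G) ⊔ Cfsg.oddCore G = ⊤ := by
  have S := Cfsg.Agent.Lib.helper59.TwoSL.mkSetup hF₁ L₁ L₂ e₁ hc j hj hm hle hi n hn hn2 hswap
  have hjz : IsPGroup 2 (Subgroup.zpowers j) := by
    have h2 : Nat.card (Subgroup.zpowers j) = 2 ^ 1 := by
      rw [Nat.card_zpowers, hj, pow_one]
    exact IsPGroup.of_card h2
  obtain ⟨P, hP⟩ := hjz.exists_le_sylow
  have hjP : j ∈ P := hP (Subgroup.mem_zpowers j)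
  obtain ⟨N, hNn, hNodd, hNc⟩ := Cfsg.Agent.S0215.result P j hj hjP
    (fun g hg => S.isolated P hjP g hg)
  have htop := Cfsg.Agent.Lib.helper59.TwoSL.top_of_zstar j S.jj N hNodd hNc
  have hle' : N ≤ Cfsg.oddCore G := by
    unfold Cfsg.oddCore Cfsg.pPrimeCore
    exact le_sSup ⟨hNn, Nat.coprime_two_right.mpr hNodd⟩
  rw [eq_top_iff, ← htop]
  exact sup_le_sup_left hle' _

end Cfsg.Agent.S3211
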