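import Mathlib
import Cfsg.Statements.S3213

set_option autoImplicit false
open Cfsg

namespace Cfsg.Agent.S3213

set_option linter.style.haveILetI false
set_option linter.unusedSectionVars false
set_option linter.unusedSimpArgs false
open Module

theorem finrank_ker_comp_le' {F V : Type*} [Field F] [AddCommGroup V] [Module F V]
    [FiniteDimensional F V] (f g : V →ₗ[F] V) :
    finrank F (LinearMap.ker (f ∘ₗ g)) ≤ finrank F (LinearMap.ker f) + finrank F (LinearMap.ker g) := by
  set h : LinearMap.ker (f ∘ₗ g) →ₗ[F] V := g.domRestrict (LinearMap.ker (f ∘ₗ g)) with hh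
  have h1 := LinearMap.finrank_range_add_finrank_ker h
  have h2 : finrank F (LinearMap.range h) ≤ finrank F (LinearMap.ker f) := by
    apply Submodule.finrank_mono
    rintro _ ⟨⟨v, hv⟩, rfl⟩
    simpa [hh] using hv
  have h3 : finrank F (LinearMap.ker h) ≤ finrank F (LinearMap.ker g) := by
    rw [← Submodule.finrank_map_subtype_eq (LinearMap.ker (f ∘ₗ g)) (LinearMap.ker h)]
    apply Submodule.finrank_mono
    rintro _ ⟨⟨v, hv⟩, hv2, rfl⟩
    simpa [hh] using hv2
  omega

theorem card_modEq_fixed {F V : Type*} [Field F] [AddCommGroup V] [Module F V] [Finite V]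
    (T : V →ₗ[F] V) (hT : T ^ 5 = 1) (W : Submodule F V) (hW : ∀ v ∈ W, T v ∈ W) :
    Nat.card W ≡ Nat.card (W ⊓ LinearMap.ker (T - 1) : Submodule F V) [MOD 5] := by
  classical
  haveI : Fact (Nat.Prime 5) := ⟨by norm_num⟩
  haveI : Fintype W := Fintype.ofFinite _
  let f : Function.End W := fun w => ⟨T w, hW w w.2⟩
  have hfpow : ∀ (k : ℕ) (w : W), ((f ^ k) w : V) = (T ^ k) w := by
    intro k
    induction k with
    | zero => intro w; simp only [pow_zero]; rfl
    | succ k ih =>
      intro w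
      rw [pow_succ, pow_succ]
      change ((f ^ k) (f w) : V) = (T ^ k) (T w)
      rw [ih]
  have hf : f ^ 5 ^ 1 = 1 := by
    funext w
    apply Subtype.ext
    rw [pow_one, hfpow, hT]
    rfl
  have h1 := Equiv.Perm.card_fixedPoints_modEq (p := 5) (n := 1) hf
  rw [← Nat.card_eq_fintype_card, ← Nat.card_eq_fintype_card] at h1
  have h2 : Nat.card (Function.fixedPoints f) = Nat.card (W ⊓ LinearMap.ker (T - 1) : Submodule F V) := by
    apply Nat.card_congr
    refine ⟨fun w => ⟨w.1.1, ⟨w.1.2, ?_⟩⟩, fun v => ⟨⟨v.1, v.2.1⟩, ?_⟩, ?_, ?_⟩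
    · have := w.2
      have h3 : (f w.1 : V) = w.1 := congrArg Subtype.val this
      rw [SetLike.mem_coe, LinearMap.mem_ker, LinearMap.sub_apply, Module.End.one_apply, sub_eq_zero]
      exact h3
    · have h3 := v.2.2
      rw [SetLike.mem_coe, LinearMap.mem_ker, LinearMap.sub_apply, Module.End.one_apply, sub_eq_zero] at h3
      change f ⟨v.1, v.2.1⟩ = ⟨v.1, v.2.1⟩
      apply Subtype.ext
      exact h3
    · intro w; rfl
    · intro v; rfl
  rw [← h2]
  exact h1

theorem toLin_pow_eq {F : Type*} [Field F] {n : Type*} [Fintype n] [DecidableEq n]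
    (A : Matrix n n F) (k : ℕ) : (Matrix.toLin' A) ^ k = Matrix.toLin' (A ^ k) := by
  have h : ∀ B : Matrix n n F, Matrix.toLin' B = Matrix.toLinAlgEquiv' B := fun B => rfl
  rw [h, h, map_pow]

theorem card_sub {F : Type*} [Field F] [Fintype F] (hF : Fintype.card F = 3)
    (W : Submodule F (Fin 2 ⊕ Fin 2 → F)) :
    Nat.card W = 3 ^ finrank F W ∧ finrank F W ≤ 4 := by
  classical
  constructor
  · haveI : Fintype W := Fintype.ofFinite _
    rw [Nat.card_eq_fintype_card, Module.card_eq_pow_finrank (K := F) (V := W), hF]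
  · have h1 := Submodule.finrank_le W
    rw [Module.finrank_fintype_fun_eq_card] at h1
    simpa using h1

theorem neg_one_of_commute {F : Type*} [Field F] [Fintype F] (hF : Fintype.card F = 3)
    (Zm Tm : Matrix (Fin 2 ⊕ Fin 2) (Fin 2 ⊕ Fin 2) F)
    (hT5 : Tm ^ 5 = 1) (hT1 : Tm ≠ 1) (hZ2 : Zm * Zm = 1) (hZ1 : Zm ≠ 1)
    (hc : Zm * Tm = Tm * Zm) : Zm = -1 := by
  classical
  have hT : (Matrix.toLin' Tm) ^ 5 = 1 := by
    rw [toLin_pow_eq, hT5, Matrix.toLin'_one]; rfl
  -- step (a)
  have ha : LinearMap.ker (Matrix.toLin' Tm - 1) = ⊥ := by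
    have h := card_modEq_fixed (Matrix.toLin' Tm) hT ⊤ (fun _ _ => Submodule.mem_top)
    rw [top_inf_eq] at h
    obtain ⟨c1, -⟩ := card_sub hF (⊤ : Submodule F (Fin 2 ⊕ Fin 2 → F))
    obtain ⟨c2, c3⟩ := card_sub hF (LinearMap.ker (Matrix.toLin' Tm - 1))
    rw [c1, c2, finrank_top, Module.finrank_fintype_fun_eq_card] at h
    have h4 : Fintype.card (Fin 2 ⊕ Fin 2) = 4 := by simp
    rw [h4] at h
    have h5 : finrank F (LinearMap.ker (Matrix.toLin' Tm - 1)) = 0 ∨
        finrank F (LinearMap.ker (Matrix.toLin' Tm - 1)) = 4 := by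
      have key : ∀ j : ℕ, j ≤ 4 → 3 ^ 4 ≡ 3 ^ j [MOD 5] → j = 0 ∨ j = 4 := by
        intro j hj h
        interval_cases j <;> revert h <;> decide
      exact key _ c3 h
    rcases h5 with h5 | h5
    · exact Submodule.finrank_eq_zero.mp h5
    · exfalso
      have h6 : LinearMap.ker (Matrix.toLin' Tm - 1) = ⊤ := by
        apply Submodule.eq_top_of_finrank_eq
        rw [h5, Module.finrank_fintype_fun_eq_card, h4]
      apply hT1
      have h7 : Matrix.toLin' Tm - 1 = 0 := LinearMap.ker_eq_top.mp h6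
      have h8 : Matrix.toLin' Tm = Matrix.toLin' (1 : Matrix (Fin 2 ⊕ Fin 2) (Fin 2 ⊕ Fin 2) F) := by
        rw [Matrix.toLin'_one]; exact sub_eq_zero.mp h7
      exact Matrix.toLin'.injective h8
  -- step (b)
  have hb : LinearMap.ker (Matrix.toLin' Zm - 1) = ⊥ := by
    have hinv : ∀ v ∈ LinearMap.ker (Matrix.toLin' Zm - 1),
        Matrix.toLin' Tm v ∈ LinearMap.ker (Matrix.toLin' Zm - 1) := by
      intro v hv
      rw [LinearMap.mem_ker, LinearMap.sub_apply, Module.End.one_apply, sub_eq_zero] at hv ⊢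
      rw [Matrix.toLin'_apply] at hv
      rw [Matrix.toLin'_apply, Matrix.toLin'_apply, Matrix.mulVec_mulVec, hc,
        ← Matrix.mulVec_mulVec, hv]
    have h := card_modEq_fixed (Matrix.toLin' Tm) hT _ hinv
    rw [ha, inf_bot_eq] at h
    obtain ⟨c2, c3⟩ := card_sub hF (LinearMap.ker (Matrix.toLin' Zm - 1))
    rw [c2] at h
    have c1 : Nat.card (⊥ : Submodule F (Fin 2 ⊕ Fin 2 → F)) = 1 := by
      simp
    rw [c1] at h
    have h5 : finrank F (LinearMap.ker (Matrix.toLin' Zm - 1)) = 0 ∨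
        finrank F (LinearMap.ker (Matrix.toLin' Zm - 1)) = 4 := by
      have key : ∀ j : ℕ, j ≤ 4 → 3 ^ j ≡ 1 [MOD 5] → j = 0 ∨ j = 4 := by
        intro j hj h
        interval_cases j <;> revert h <;> decide
      exact key _ c3 h
    have h4 : Fintype.card (Fin 2 ⊕ Fin 2) = 4 := by simp
    rcases h5 with h5 | h5
    · exact Submodule.finrank_eq_zero.mp h5
    · exfalso
      have h6 : LinearMap.ker (Matrix.toLin' Zm - 1) = ⊤ := by
        apply Submodule.eq_top_of_finrank_eq
        rw [h5, Module.finrank_fintype_fun_eq_card, h4]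
      apply hZ1
      have h7 : Matrix.toLin' Zm - 1 = 0 := LinearMap.ker_eq_top.mp h6
      have h8 : Matrix.toLin' Zm = Matrix.toLin' (1 : Matrix (Fin 2 ⊕ Fin 2) (Fin 2 ⊕ Fin 2) F) := by
        rw [Matrix.toLin'_one]; exact sub_eq_zero.mp h7
      exact Matrix.toLin'.injective h8
  -- conclusion
  have hfin : ∀ v : Fin 2 ⊕ Fin 2 → F, Zm.mulVec v = -v := by
    intro v
    have h1 : Zm.mulVec v + v ∈ LinearMap.ker (Matrix.toLin' Zm - 1) := by
      rw [LinearMap.mem_ker, LinearMap.sub_apply, Module.End.one_apply, Matrix.toLin'_apply,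
        Matrix.mulVec_add, Matrix.mulVec_mulVec, hZ2, Matrix.one_mulVec]
      abel
    rw [hb, Submodule.mem_bot] at h1
    exact eq_neg_of_add_eq_zero_left h1
  apply Matrix.toLin'.injective
  apply LinearMap.ext
  intro v
  rw [Matrix.toLin'_apply, hfin, Matrix.toLin'_apply, Matrix.neg_mulVec, Matrix.one_mulVec]

section SLpart
variable {K : Type*} [Field K] [Fintype K]

theorem k_five_eq_zero (hK : Fintype.card K = 5) : (5 : K) = 0 := by
  have h := Nat.cast_card_eq_zero K
  rw [hK] at h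
  exact_mod_cast h

theorem k_two_ne_zero (hK : Fintype.card K = 5) : (2 : K) ≠ 0 := by
  intro h
  have h5 := k_five_eq_zero hK
  have : (1 : K) = 0 := by linear_combination h5 - 2 * h
  exact one_ne_zero this

theorem k_three_ne_zero (hK : Fintype.card K = 5) : (3 : K) ≠ 0 := by
  intro h
  have h5 := k_five_eq_zero hK
  have : (1 : K) = 0 := by linear_combination 2 * h - h5
  exact one_ne_zero this

/-- the central involution -/
def zS : Matrix.SpecialLinearGroup (Fin 2) K := ⟨!![-1, 0; 0, -1], by simp [Matrix.det_fin_two]⟩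

def yU (j : K) : Matrix.SpecialLinearGroup (Fin 2) K := ⟨!![1, j; 0, 1], by simp [Matrix.det_fin_two]⟩

def yL (j : K) : Matrix.SpecialLinearGroup (Fin 2) K := ⟨!![1, 0; j, 1], by simp [Matrix.det_fin_two]⟩

def mk4 (a b c d : K) (h : a * d - b * c = 1) : Matrix.SpecialLinearGroup (Fin 2) K :=
  ⟨!![a, b; c, d], by rw [Matrix.det_fin_two]; simpa using h⟩

theorem zS_coe : ((zS : Matrix.SpecialLinearGroup (Fin 2) K) : Matrix (Fin 2) (Fin 2) K) = !![-1, 0; 0, -1] := rfl
theorem yU_coe (j : K) : ((yU j : Matrix.SpecialLinearGroup (Fin 2) K) : Matrix (Fin 2) (Fin 2) K) = !![1, j; 0, 1] := rfl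
theorem yL_coe (j : K) : ((yL j : Matrix.SpecialLinearGroup (Fin 2) K) : Matrix (Fin 2) (Fin 2) K) = !![1, 0; j, 1] := rfl
theorem mk4_coe (a b c d : K) (h : a * d - b * c = 1) :
    ((mk4 a b c d h : Matrix.SpecialLinearGroup (Fin 2) K) : Matrix (Fin 2) (Fin 2) K) = !![a, b; c, d] := rfl

theorem sq_eq_zS (w : Matrix.SpecialLinearGroup (Fin 2) K) (htr : w 0 0 + w 1 1 = 0) :
    w ^ 2 = zS := by
  have hdet : w 0 0 * w 1 1 - w 0 1 * w 1 0 = 1 := by
    have := w.2
    rw [Matrix.det_fin_two] at this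
    exact this
  ext i j
  fin_cases i <;> fin_cases j <;>
    simp [pow_two, Matrix.mul_apply, Fin.sum_univ_two, zS_coe]
  · linear_combination (w 0 0) * htr - hdet
  · linear_combination (w 0 1) * htr
  · linear_combination (w 1 0) * htr
  · linear_combination (w 1 1) * htr - hdet

theorem zS_mul_self : (zS : Matrix.SpecialLinearGroup (Fin 2) K) * zS = 1 := by
  ext i j
  fin_cases i <;> fin_cases j <;>
    simp [Matrix.SpecialLinearGroup.coe_mul, Matrix.mul_apply, Fin.sum_univ_two, zS_coe]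

theorem zS_ne_one (hK : Fintype.card K = 5) : (zS : Matrix.SpecialLinearGroup (Fin 2) K) ≠ 1 := by
  intro h
  have h1 := congrArg (fun m : Matrix.SpecialLinearGroup (Fin 2) K => m 0 0) h
  simp [zS_coe] at h1
  apply k_two_ne_zero hK
  linear_combination -h1

theorem zS_comm (w : Matrix.SpecialLinearGroup (Fin 2) K) : zS * w = w * zS := by
  ext i j
  fin_cases i <;> fin_cases j <;>
    simp [Matrix.SpecialLinearGroup.coe_mul, Matrix.mul_apply, Fin.sum_univ_two, zS_coe]

theorem yU_mul (j k : K) : yU j * yU k = yU (j + k) := by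
  ext i l
  fin_cases i <;> fin_cases l <;>
    simp [Matrix.SpecialLinearGroup.coe_mul, Matrix.mul_apply, Fin.sum_univ_two, yU_coe, add_comm]

theorem yU_pow (j : K) (n : ℕ) : yU j ^ n = yU (n * j) := by
  induction n with
  | zero =>
    ext i l
    fin_cases i <;> fin_cases l <;> simp [yU_coe]
  | succ n ih =>
    rw [pow_succ, ih, yU_mul]
    congr 1
    push_cast
    ring

theorem yU_one_pow_five (hK : Fintype.card K = 5) : (yU (1 : K)) ^ 5 = 1 := by
  rw [yU_pow]
  have h5 := k_five_eq_zero hK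
  ext i l
  fin_cases i <;> fin_cases l <;> simp [yU_coe, h5]

theorem yU_one_ne_one : (yU (1 : K)) ≠ 1 := by
  intro h
  have h1 := congrArg (fun m : Matrix.SpecialLinearGroup (Fin 2) K => m 0 1) h
  simp [yU_coe] at h1

theorem trace_of_order_three (a b c d : K) (hdet : a * d - b * c = 1)
    (h3 : (mk4 a b c d hdet) ^ 3 = 1) (h1 : mk4 a b c d hdet ≠ 1) : a + d = -1 := by
  have e00 : (a * a + b * c) * a + (a * b + b * d) * c = 1 := by
    have e := congrArg (fun m : Matrix.SpecialLinearGroup (Fin 2) K => m 0 0) h3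
    simpa [pow_succ, Matrix.SpecialLinearGroup.coe_mul, mk4_coe, Matrix.mul_apply, Fin.sum_univ_two] using e
  have e01 : (a * a + b * c) * b + (a * b + b * d) * d = 0 := by
    have e := congrArg (fun m : Matrix.SpecialLinearGroup (Fin 2) K => m 0 1) h3
    simpa [pow_succ, Matrix.SpecialLinearGroup.coe_mul, mk4_coe, Matrix.mul_apply, Fin.sum_univ_two] using e
  have e10 : (c * a + d * c) * a + (c * b + d * d) * c = 0 := by
    have e := congrArg (fun m : Matrix.SpecialLinearGroup (Fin 2) K => m 1 0) h3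
    simpa [pow_succ, Matrix.SpecialLinearGroup.coe_mul, mk4_coe, Matrix.mul_apply, Fin.sum_univ_two] using e
  have e11 : (c * a + d * c) * b + (c * b + d * d) * d = 1 := by
    have e := congrArg (fun m : Matrix.SpecialLinearGroup (Fin 2) K => m 1 1) h3
    simpa [pow_succ, Matrix.SpecialLinearGroup.coe_mul, mk4_coe, Matrix.mul_apply, Fin.sum_univ_two] using e
  set t := a + d with ht
  have f00 : (t ^ 2 - 1) * a - t = 1 := by rw [ht]; linear_combination e00 + (2 * a + d) * hdet
  have f01 : (t ^ 2 - 1) * b = 0 := by rw [ht]; linear_combination e01 + b * hdet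
  have f10 : (t ^ 2 - 1) * c = 0 := by rw [ht]; linear_combination e10 + c * hdet
  have f11 : (t ^ 2 - 1) * d - t = 1 := by rw [ht]; linear_combination e11 + (a + 2 * d) * hdet
  by_contra hne
  have hne' : t + 1 ≠ 0 := fun h => hne (by linear_combination h)
  have g00 : (t - 1) * a = 1 := by
    have : (t + 1) * ((t - 1) * a - 1) = 0 := by linear_combination f00
    rcases mul_eq_zero.mp this with h | h
    · exact absurd h hne'
    · linear_combination h
  have g11 : (t - 1) * d = 1 := by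
    have : (t + 1) * ((t - 1) * d - 1) = 0 := by linear_combination f11
    rcases mul_eq_zero.mp this with h | h
    · exact absurd h hne'
    · linear_combination h
  have ht1 : t - 1 ≠ 0 := by
    intro h
    rw [h, zero_mul] at g00
    exact zero_ne_one g00
  have g01 : b = 0 := by
    have : (t + 1) * ((t - 1) * b) = 0 := by linear_combination f01
    rcases mul_eq_zero.mp this with h | h
    · exact absurd h hne'
    · rcases mul_eq_zero.mp h with h | h
      · exact absurd h ht1
      · exact h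
  have g10 : c = 0 := by
    have : (t + 1) * ((t - 1) * c) = 0 := by linear_combination f10
    rcases mul_eq_zero.mp this with h | h
    · exact absurd h hne'
    · rcases mul_eq_zero.mp h with h | h
      · exact absurd h ht1
      · exact h
  have ht2 : t = 2 := by
    have : (t - 2) * (t + 1) = 0 := by
      have : (t - 1) * t = 2 := by rw [ht]; rw [ht] at g00 g11; linear_combination g00 + g11
      linear_combination this
    rcases mul_eq_zero.mp this with h | h
    · linear_combination h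
    · exact absurd h hne'
  have ha : a = 1 := by rw [ht2] at g00; linear_combination g00
  have hd : d = 1 := by rw [ht2] at g11; linear_combination g11
  apply h1
  ext i j
  fin_cases i <;> fin_cases j <;> simp [mk4_coe, ha, hd, g01, g10]

theorem exists_conj_aux (hK : Fintype.card K = 5) (a b c d : K) (hdet : a * d - b * c = 1)
    (ht : a + d = -1) :
    ∃ y : Matrix.SpecialLinearGroup (Fin 2) K,
      (mk4 a b c d hdet * (y * mk4 a b c d hdet * y⁻¹)) ^ 2 = zS := by
  have h5 := k_five_eq_zero hK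
  -- fourth powers
  have h4 : ∀ s : K, s ≠ 0 → s ^ 2 = 1 ∨ s ^ 2 = -1 := by
    intro s hs
    have := FiniteField.pow_card_sub_one_eq_one s hs
    rw [hK] at this
    have h' : (s ^ 2 - 1) * (s ^ 2 + 1) = 0 := by
      have : s ^ 4 = 1 := this
      linear_combination this
    rcases mul_eq_zero.mp h' with h | h
    · left; linear_combination h
    · right; linear_combination h
  have hbc : b ≠ 0 ∨ c ≠ 0 := by
    by_contra hcon
    push Not at hcon
    obtain ⟨hb, hc⟩ := hcon
    have hd : d = -1 - a := by linear_combination ht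
    have hs : (2 * a + 1) ^ 2 = 2 := by
      rw [hb, hd] at hdet
      linear_combination (-4 : K) * hdet - h5
    have hs0 : 2 * a + 1 ≠ 0 := by
      intro h
      rw [h] at hs
      apply k_two_ne_zero hK
      linear_combination -hs
    rcases h4 _ hs0 with h | h
    · rw [hs] at h
      apply one_ne_zero (α := K)
      linear_combination h
    · rw [hs] at h
      apply k_three_ne_zero hK
      linear_combination h
  rcases hbc with hb | hc
  · -- use lower triangular
    obtain ⟨j, hj⟩ : ∃ j : K, j ^ 2 * b ^ 2 = -1 := by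
      rcases h4 _ hb with h | h
      · refine ⟨2, ?_⟩
        rw [h]; linear_combination h5
      · refine ⟨1, ?_⟩
        rw [h]; ring
    refine ⟨yL j, ?_⟩
    apply sq_eq_zS
    simp [Matrix.SpecialLinearGroup.coe_mul, Matrix.SpecialLinearGroup.coe_inv, Matrix.adjugate_fin_two,
      yL_coe, mk4_coe, Matrix.mul_fin_two]
    linear_combination (a + d - 1) * ht - 2 * hdet - hj
  · obtain ⟨j, hj⟩ : ∃ j : K, j ^ 2 * c ^ 2 = -1 := by
      rcases h4 _ hc with h | h
      · refine ⟨2, ?_⟩
        rw [h]; linear_combination h5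
      · refine ⟨1, ?_⟩
        rw [h]; ring
    refine ⟨yU j, ?_⟩
    apply sq_eq_zS
    simp [Matrix.SpecialLinearGroup.coe_mul, Matrix.SpecialLinearGroup.coe_inv, Matrix.adjugate_fin_two,
      yU_coe, mk4_coe, Matrix.mul_fin_two]
    linear_combination (a + d - 1) * ht - 2 * hdet - hj

theorem exists_conj (hK : Fintype.card K = 5) (x : Matrix.SpecialLinearGroup (Fin 2) K)
    (hx : orderOf x = 3) :
    ∃ y : Matrix.SpecialLinearGroup (Fin 2) K, (x * (y * x * y⁻¹)) ^ 2 = zS := by
  have hdet : x 0 0 * x 1 1 - x 0 1 * x 1 0 = 1 := by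
    have := x.2
    rw [Matrix.det_fin_two] at this
    exact this
  have hxe : x = mk4 (x 0 0) (x 0 1) (x 1 0) (x 1 1) hdet := by
    ext i j
    fin_cases i <;> fin_cases j <;> rfl
  have h3 : x ^ 3 = 1 := by rw [← hx]; exact pow_orderOf_eq_one x
  have h1 : x ≠ 1 := by
    intro h
    rw [h, orderOf_one] at hx
    norm_num at hx
  have ht : x 0 0 + x 1 1 = -1 := by
    apply trace_of_order_three _ _ _ _ hdet
    · rw [← hxe]; exact h3
    · rw [← hxe]; exact h1
  obtain ⟨y, hy⟩ := exists_conj_aux hK _ _ _ _ hdet ht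
  rw [← hxe] at hy
  exact ⟨y, hy⟩

end SLpart

section Lin
variable {F : Type*} [Field F] [Fintype F]

theorem f_three_eq_zero (hF : Fintype.card F = 3) : (3 : F) = 0 := by
  have h := Nat.cast_card_eq_zero F
  rw [hF] at h
  exact_mod_cast h

theorem f_two_ne_zero (hF : Fintype.card F = 3) : (2 : F) ≠ 0 := by
  intro h
  have h3 := f_three_eq_zero hF
  have : (1 : F) = 0 := by linear_combination h3 - h
  exact one_ne_zero this

theorem finrank_V : finrank F (Fin 2 ⊕ Fin 2 → F) = 4 := by
  rw [Module.finrank_fintype_fun_eq_card]; simp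

theorem finrank_le_two (hF : Fintype.card F = 3)
    (A H H' : Matrix (Fin 2 ⊕ Fin 2) (Fin 2 ⊕ Fin 2) F) (hHH' : H * H' = 1) (hH'H : H' * H = 1)
    (hk : (A * (H * A * H')) ^ 2 = -1) :
    finrank F (LinearMap.ker (Matrix.toLin' A - LinearMap.id)) ≤ 2 := by
  classical
  set K1 := LinearMap.ker (Matrix.toLin' A - LinearMap.id) with hK1
  set K2 := LinearMap.ker (Matrix.toLin' (H * A * H') - LinearMap.id) with hK2
  have m1 : ∀ v, v ∈ K1 ↔ A.mulVec v = v := by
    intro v
    rw [hK1, LinearMap.mem_ker, LinearMap.sub_apply, LinearMap.id_apply, Matrix.toLin'_apply,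
      sub_eq_zero]
  have m2 : ∀ v, v ∈ K2 ↔ (H * A * H').mulVec v = v := by
    intro v
    rw [hK2, LinearMap.mem_ker, LinearMap.sub_apply, LinearMap.id_apply, Matrix.toLin'_apply,
      sub_eq_zero]
  let e : (Fin 2 ⊕ Fin 2 → F) ≃ₗ[F] (Fin 2 ⊕ Fin 2 → F) := Matrix.toLin'OfInv hH'H hHH'
  have he : ∀ v, e v = H.mulVec v := fun v => by
    change Matrix.toLin' H v = _
    rw [Matrix.toLin'_apply]
  have hK2' : K2 = K1.map (e : (Fin 2 ⊕ Fin 2 → F) →ₗ[F] (Fin 2 ⊕ Fin 2 → F)) := by
    ext v
    rw [m2, Submodule.mem_map]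
    constructor
    · intro hv
      refine ⟨H'.mulVec v, ?_, ?_⟩
      · rw [m1]
        have := congrArg (fun u => H'.mulVec u) hv
        simp only [Matrix.mulVec_mulVec] at this
        rw [← Matrix.mul_assoc, ← Matrix.mul_assoc, hH'H, Matrix.one_mul] at this
        rw [Matrix.mulVec_mulVec]
        exact this
      · change e (H'.mulVec v) = v
        rw [he, Matrix.mulVec_mulVec, hHH', Matrix.one_mulVec]
    · rintro ⟨u, hu, rfl⟩
      rw [m1] at hu
      change (H * A * H').mulVec (e u) = e u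
      rw [he, Matrix.mulVec_mulVec, Matrix.mul_assoc, Matrix.mul_assoc, hH'H, Matrix.mul_one,
        ← Matrix.mulVec_mulVec, hu]
  have hfin : finrank F K2 = finrank F K1 := by
    rw [hK2']; exact LinearEquiv.finrank_map_eq e K1
  have hinf : K1 ⊓ K2 = ⊥ := by
    rw [eq_bot_iff]
    intro v hv
    have hv1 := (m1 v).mp hv.1
    have hv2 := (m2 v).mp hv.2
    have h1 : (A * (H * A * H')).mulVec v = v := by
      rw [← Matrix.mulVec_mulVec, hv2, hv1]
    have h2 : ((A * (H * A * H')) ^ 2).mulVec v = v := by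
      rw [pow_two, ← Matrix.mulVec_mulVec, h1, h1]
    rw [hk, Matrix.neg_mulVec, Matrix.one_mulVec] at h2
    rw [Submodule.mem_bot]
    have h3 : (2 : F) • v = 0 := by
      rw [two_smul]
      nth_rewrite 1 [← h2]
      exact neg_add_cancel v
    rcases smul_eq_zero.mp h3 with h | h
    · exact absurd h (f_two_ne_zero hF)
    · exact h
  have h := Submodule.finrank_sup_add_finrank_inf_eq K1 K2
  rw [hinf, finrank_bot, hfin] at h
  have h2 := Submodule.finrank_le (K1 ⊔ K2)
  rw [finrank_V] at h2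
  omega

theorem main_lin (hF : Fintype.card F = 3) (A : Matrix (Fin 2 ⊕ Fin 2) (Fin 2 ⊕ Fin 2) F)
    (hA : A.transpose * Matrix.J (Fin 2) F * A = Matrix.J (Fin 2) F) (hA3 : A ^ 3 = 1)
    (hle : finrank F (LinearMap.ker (Matrix.toLin' A - LinearMap.id)) ≤ 2) :
    finrank F (LinearMap.ker (Matrix.toLin' A - LinearMap.id)) = 2 ∧
    ∀ v w : Fin 2 ⊕ Fin 2 → F, A.mulVec v = v → A.mulVec w = w →
      dotProduct v ((Matrix.J (Fin 2) F).mulVec w) = 0 := by
  classical
  set N : (Fin 2 ⊕ Fin 2 → F) →ₗ[F] (Fin 2 ⊕ Fin 2 → F) := Matrix.toLin' A - LinearMap.id with hN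
  have hNv : ∀ v, N v = A.mulVec v - v := fun v => by
    rw [hN, LinearMap.sub_apply, LinearMap.id_apply, Matrix.toLin'_apply]
  have h3 := f_three_eq_zero hF
  -- N^3 = 0
  have hN3 : ∀ v, N (N (N v)) = 0 := by
    intro v
    simp only [hNv, Matrix.mulVec_sub, Matrix.mulVec_mulVec]
    have e1 : (A * (A * A)) = 1 := by rw [← hA3]; noncomm_ring
    rw [e1, Matrix.one_mulVec]
    have e2 : v - (A * A).mulVec v - ((A * A).mulVec v - A.mulVec v) -
        ((A * A).mulVec v - A.mulVec v - (A.mulVec v - v)) =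
        (3 : F) • (A.mulVec v - (A * A).mulVec v) := by module
    rw [e2, h3, zero_smul]
  -- finrank ≥ 2
  have hge : 2 ≤ finrank F (LinearMap.ker N) := by
    have c1 := finrank_ker_comp_le' N (N ∘ₗ N)
    have c2 := finrank_ker_comp_le' N N
    have c3 : LinearMap.ker (N ∘ₗ (N ∘ₗ N)) = ⊤ := by
      rw [LinearMap.ker_eq_top]
      exact LinearMap.ext fun v => hN3 v
    rw [c3, finrank_top, finrank_V] at c1
    omega
  have hfr : finrank F (LinearMap.ker N) = 2 := le_antisymm hle hge
  refine ⟨hfr, ?_⟩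
  -- bilinear form
  set J := Matrix.J (Fin 2) F with hJ
  have hinv : ∀ v w, dotProduct (A.mulVec v) (J.mulVec (A.mulVec w)) = dotProduct v (J.mulVec w) := by
    intro v w
    rw [Matrix.mulVec_mulVec, ← Matrix.vecMul_transpose, ← Matrix.dotProduct_mulVec,
      Matrix.mulVec_mulVec, ← Matrix.mul_assoc, hA]
  have halt : ∀ v, dotProduct v (J.mulVec v) = 0 := by
    intro v
    have e : dotProduct v (J.mulVec v) = - dotProduct v (J.mulVec v) := by
      nth_rewrite 1 [Matrix.dotProduct_mulVec, ← Matrix.mulVec_transpose, hJ, Matrix.J_transpose,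
        Matrix.neg_mulVec, neg_dotProduct, dotProduct_comm]
      rfl
    have : (2 : F) * dotProduct v (J.mulVec v) = 0 := by linear_combination e
    rcases mul_eq_zero.mp this with h | h
    · exact absurd h (f_two_ne_zero hF)
    · exact h
  obtain ⟨u, hu1, hu2⟩ : ∃ u, N u ≠ 0 ∧ N (N u) = 0 := by
    by_contra hcon
    push Not at hcon
    have hz : ∀ v, N v = 0 := by
      intro v
      by_contra h1
      have h2 := hcon v h1
      have h3' := hcon (N v) h2
      exact h3' (hN3 v)
    have : LinearMap.ker N = ⊤ := by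
      rw [eq_top_iff]; intro v _; exact hz v
    rw [this, finrank_top, finrank_V] at hfr
    omega
  have hfix : ∀ w, A.mulVec w = w ↔ N w = 0 := by intro w; rw [hNv, sub_eq_zero]
  have ho1 : ∀ w, A.mulVec w = w → dotProduct (N u) (J.mulVec w) = 0 := by
    intro w hw
    rw [hNv, sub_dotProduct]
    nth_rewrite 1 [← hw]
    rw [hinv]; exact sub_self _
  have ho2 : ∀ w, A.mulVec w = w → dotProduct w (J.mulVec (N u)) = 0 := by
    intro w hw
    rw [hNv, Matrix.mulVec_sub, dotProduct_sub]
    nth_rewrite 1 [← hw]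
    rw [hinv]; exact sub_self _
  intro v w hv hw
  by_cases hvs : v ∈ Submodule.span F {N u}
  · obtain ⟨a, rfl⟩ := Submodule.mem_span_singleton.mp hvs
    rw [smul_dotProduct, ho1 w hw, smul_zero]
  · have hK : Submodule.span F {N u, v} = LinearMap.ker N := by
      apply Submodule.eq_of_le_of_finrank_le
      · rw [Submodule.span_le]
        rintro x (rfl | rfl)
        · exact hu2
        · exact (hfix _).mp hv
      · rw [hfr]
        have hlt : Submodule.span F {N u} < Submodule.span F {N u, v} := by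
          apply lt_of_le_of_ne
          · apply Submodule.span_mono; simp
          · intro heq
            apply hvs
            rw [heq]
            apply Submodule.subset_span; simp
        have := Submodule.finrank_lt_finrank_of_lt hlt
        rw [finrank_span_singleton hu1] at this
        omega
    have hwK : w ∈ Submodule.span F {N u, v} := by rw [hK]; exact (hfix w).mp hw
    obtain ⟨a, b, rfl⟩ := Submodule.mem_span_pair.mp hwK
    rw [Matrix.mulVec_add, Matrix.mulVec_smul, Matrix.mulVec_smul, dotProduct_add,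
      dotProduct_smul, dotProduct_smul, ho2 v hv, halt v]
    simp

end Lin


/-- Let F be the field with 3 elements and K the field with 5 elements. For every injective homomorphism φ from SL₂(K) into the symplectic group Sp₄(F) (4 × 4 matrices g with g J gᵀ = J for the standard alternating matrix J) and every element x of order 3 of SL₂(K), the vectors of F⁴ fixed by φ(x) form a 2-dimensional subspace that is totally isotropic for the alternating form defined by J. -/
theorem result {F : Type*} [Field F] [Fintype F] (hF : Fintype.card F = 3)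
    {K : Type*} [Field K] [Fintype K] (hK : Fintype.card K = 5)
    (φ : Matrix.SpecialLinearGroup (Fin 2) K →* ↥(Matrix.symplecticGroup (Fin 2) F)) (hφ : Function.Injective φ)
    (x : Matrix.SpecialLinearGroup (Fin 2) K) (hx : orderOf x = 3) :
    Module.finrank F ↥(LinearMap.ker (Matrix.toLin' ((φ x : Matrix (Fin 2 ⊕ Fin 2) (Fin 2 ⊕ Fin 2) F)) - LinearMap.id)) = 2 ∧
      ∀ v w : Fin 2 ⊕ Fin 2 → F, (φ x : Matrix (Fin 2 ⊕ Fin 2) (Fin 2 ⊕ Fin 2) F).mulVec v = v →
        (φ x : Matrix (Fin 2 ⊕ Fin 2) (Fin 2 ⊕ Fin 2) F).mulVec w = w →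
          dotProduct v ((Matrix.J (Fin 2) F).mulVec w) = 0 := by
  classical
  have cmul : ∀ a b : Matrix.SpecialLinearGroup (Fin 2) K,
      ((φ (a * b) : ↥(Matrix.symplecticGroup (Fin 2) F)) : Matrix (Fin 2 ⊕ Fin 2) (Fin 2 ⊕ Fin 2) F) =
        (φ a : Matrix (Fin 2 ⊕ Fin 2) (Fin 2 ⊕ Fin 2) F) * (φ b : Matrix (Fin 2 ⊕ Fin 2) (Fin 2 ⊕ Fin 2) F) := by
    intro a b; rw [map_mul]; rfl
  have cone : ((φ 1 : ↥(Matrix.symplecticGroup (Fin 2) F)) : Matrix (Fin 2 ⊕ Fin 2) (Fin 2 ⊕ Fin 2) F) = 1 := by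
    rw [map_one]; rfl
  have cpow : ∀ (a : Matrix.SpecialLinearGroup (Fin 2) K) (n : ℕ),
      ((φ (a ^ n) : ↥(Matrix.symplecticGroup (Fin 2) F)) : Matrix (Fin 2 ⊕ Fin 2) (Fin 2 ⊕ Fin 2) F) =
        (φ a : Matrix (Fin 2 ⊕ Fin 2) (Fin 2 ⊕ Fin 2) F) ^ n := by
    intro a n; rw [map_pow]; rfl
  have cinj : ∀ a : Matrix.SpecialLinearGroup (Fin 2) K,
      (φ a : Matrix (Fin 2 ⊕ Fin 2) (Fin 2 ⊕ Fin 2) F) = 1 → a = 1 := by
    intro a h; apply hφ; rw [map_one]; exact Subtype.ext h
  have hZ : ((φ zS : ↥(Matrix.symplecticGroup (Fin 2) F)) : Matrix (Fin 2 ⊕ Fin 2) (Fin 2 ⊕ Fin 2) F) = -1 := by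
    apply neg_one_of_commute hF _ (φ (yU 1) : Matrix (Fin 2 ⊕ Fin 2) (Fin 2 ⊕ Fin 2) F)
    · rw [← cpow, yU_one_pow_five hK, cone]
    · intro h; exact yU_one_ne_one (cinj _ h)
    · rw [← cmul, zS_mul_self, cone]
    · intro h; exact zS_ne_one hK (cinj _ h)
    · rw [← cmul, ← cmul, zS_comm]
  obtain ⟨y, hy⟩ := exists_conj hK x hx
  have hle : finrank F (LinearMap.ker (Matrix.toLin' (φ x : Matrix (Fin 2 ⊕ Fin 2) (Fin 2 ⊕ Fin 2) F) -
      LinearMap.id)) ≤ 2 := by
    apply finrank_le_two hF _ (φ y : Matrix (Fin 2 ⊕ Fin 2) (Fin 2 ⊕ Fin 2) F)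
      (φ y⁻¹ : Matrix (Fin 2 ⊕ Fin 2) (Fin 2 ⊕ Fin 2) F)
    · rw [← cmul, mul_inv_cancel, cone]
    · rw [← cmul, inv_mul_cancel, cone]
    · rw [← cmul, ← cmul, ← cmul, ← cpow, hy, hZ]
  have hA : (φ x : Matrix (Fin 2 ⊕ Fin 2) (Fin 2 ⊕ Fin 2) F).transpose * Matrix.J (Fin 2) F *
      (φ x : Matrix (Fin 2 ⊕ Fin 2) (Fin 2 ⊕ Fin 2) F) = Matrix.J (Fin 2) F :=
    SymplecticGroup.mem_iff'.mp (φ x).2
  have hA3 : (φ x : Matrix (Fin 2 ⊕ Fin 2) (Fin 2 ⊕ Fin 2) F) ^ 3 = 1 := by
    rw [← cpow, ← hx, pow_orderOf_eq_one, cone]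
  exact main_lin hF _ hA hA3 hle

end Cfsg.Agent.S3213
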