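import Cfsg.Statements.S3215
import Mathlib
import Cfsg.Agent.Lib.helper54.CHZSolv

set_option autoImplicit false
open Cfsg

namespace Cfsg.Agent.S3215
open Cfsg.Agent.Lib.helper54
set_option linter.style.haveILetI false

/-- Let H be a finite solvable group with no nontrivial normal subgroup of odd order in which the centralizer of every involution has a normal 2-complement. Let X be a Hall 2'-subgroup of H (odd order, index a power of 2) and Y = O₂(H). Then no non-identity element of X commutes with a non-identity element of Y (so for X ≠ 1 the group XY is a Frobenius group with kernel Y), every Sylow subgroup of X is cyclic, XY is normal in H, and H/XY is a cyclic 2-group. -/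
theorem result {H : Type*} [Group H] [Finite H] (hsol : Group.IsSolvable H)
    (hO : Cfsg.oddCore H = ⊥)
    (hI : ∀ t : H, orderOf t = 2 → Cfsg.HasNormalPComplement 2 ↥(Subgroup.centralizer ({t} : Set H)))
    (X : Subgroup H) (hXodd : Odd (Nat.card X)) (hXidx : ∃ k : ℕ, X.index = 2 ^ k) :
    (∀ x ∈ X, x ≠ 1 → ∀ y ∈ Cfsg.pCore 2 H, y ≠ 1 → x * y ≠ y * x) ∧
      (∀ (p : ℕ) [Fact p.Prime] (P : Sylow p ↥X), IsCyclic ↥(P : Subgroup ↥X)) ∧
      (X ⊔ Cfsg.pCore 2 H).Normal ∧
      ∀ hN : (X ⊔ Cfsg.pCore 2 H).Normal, IsCyclic (H ⧸ (X ⊔ Cfsg.pCore 2 H)) ∧ IsPGroup 2 (H ⧸ (X ⊔ Cfsg.pCore 2 H)) := by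
  haveI : Fact (Nat.Prime 2) := ⟨Nat.prime_two⟩
  haveI := hsol
  have hP : OddTwoFree H := oddTwoFree_of_centralizers hsol hO hI
  have hcent : Subgroup.centralizer (Cfsg.pCore 2 H : Set H) ≤ Cfsg.pCore 2 H :=
    Cfsg.Agent.Lib.helper60.centralizer_pCore_le 2 hO
  set Y := Cfsg.pCore 2 H with hYdef
  haveI hYn : Y.Normal := Cfsg.Agent.Lib.helper53.pCore_normal 2 H
  have hYp : IsPGroup 2 Y := Cfsg.Agent.Lib.helper53.pCore_isPGroup 2 H
  have hD := isCyclic_of_oddTwoFree hP Y hYp hcent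
  have hXel : ∀ x ∈ X, Odd (orderOf x) :=
    fun x hx => hXodd.of_dvd_nat (Subgroup.orderOf_dvd_natCard X hx)
  refine ⟨?_, ?_, ?_⟩
  · intro x hx hx1 y hy hy1 hxy
    obtain ⟨j, hj⟩ := hYp ⟨y, hy⟩
    have hj' : y ^ (2 ^ j) = 1 := by
      have h1 := congrArg Subtype.val hj
      simpa using h1
    exact hx1 (hP x y (hXel x hx) hy1 ⟨j, hj'⟩ hxy)
  · intro p _ P
    apply isCyclic_of_forall_abelian_isCyclic (p := p)
    · exact hXodd.of_dvd_nat (Subgroup.card_subgroup_dvd_card _)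
    · exact P.isPGroup'
    · intro A hA
      have hφi : Function.Injective (X.subtype.comp (P : Subgroup ↥X).subtype) := by
        rw [MonoidHom.coe_comp]
        exact X.subtype_injective.comp (Subgroup.subtype_injective _)
      apply isCyclic_of_isCyclic_map (X.subtype.comp (P : Subgroup ↥X).subtype) hφi A
      apply hD
      · rw [Subgroup.card_map_of_injective hφi]
        exact (hXodd.of_dvd_nat (Subgroup.card_subgroup_dvd_card (P : Subgroup ↥X))).of_dvd_nat
          (Subgroup.card_subgroup_dvd_card A)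
      · rintro _ ⟨a, ha, rfl⟩ _ ⟨b, hb, rfl⟩
        rw [← map_mul, ← map_mul, hA a ha b hb]
  · have hPG : OddTwoFree (H ⧸ Y) := hP.quotient Y hYp
    have hD' := isCyclic_quotient_of_oddTwoFree hP Y hYp hcent
    have hO2 : Cfsg.pCore 2 (H ⧸ Y) = ⊥ := by
      rw [Cfsg.Agent.Lib.helper52.pCore_quotient_eq_bot_iff]
      intro D hDn hD
      refine le_sSup (show D ∈ {N : Subgroup H | N.Normal ∧ IsPGroup 2 N} from ⟨hDn, ?_⟩)
      intro d
      obtain ⟨k, hk⟩ := hD d.1 d.2
      obtain ⟨j, hj⟩ := hYp ⟨_, hk⟩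
      refine ⟨k + j, Subtype.ext ?_⟩
      have h1 := congrArg Subtype.val hj
      simp only [Subgroup.coe_pow, Subgroup.coe_one] at h1 ⊢
      rw [pow_add, pow_mul]; exact h1
    obtain ⟨hC1, hC2⟩ := isCyclic_quotient_pPrimeCore_two hO2 hPG hD'
    haveI hOn : (Cfsg.pPrimeCore 2 (H ⧸ Y)).Normal :=
      Cfsg.Agent.Lib.helper40.pPrimeCore_normal' 2 _
    have hOodd : Odd (Nat.card ↥(Cfsg.pPrimeCore 2 (H ⧸ Y))) :=
      Nat.coprime_two_right.mp (Cfsg.Agent.Lib.helper27.pPrimeCore_coprime 2)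
    obtain ⟨k, hk⟩ := hXidx
    obtain ⟨m, hm⟩ := IsPGroup.iff_card.mp hYp
    have heq : X ⊔ Y = (Cfsg.pPrimeCore 2 (H ⧸ Y)).comap (QuotientGroup.mk' Y) := by
      apply Subgroup.eq_of_le_of_card_ge
      · refine sup_le (fun x hx => ?_) (fun y hy => ?_)
        · exact hC1 (QuotientGroup.mk' Y x)
            ((hXel x hx).of_dvd_nat (orderOf_map_dvd (QuotientGroup.mk' Y) x))
        · rw [Subgroup.mem_comap]
          have h1 : QuotientGroup.mk' Y y = 1 := (QuotientGroup.eq_one_iff y).mpr hy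
          rw [h1]; exact Subgroup.one_mem _
      · rw [Cfsg.Agent.Lib.helper1.card_comap_mk']
        have h1 : Nat.card ↥(Cfsg.pPrimeCore 2 (H ⧸ Y)) ∣ Nat.card ↥X := by
          have h2 : Nat.card ↥(Cfsg.pPrimeCore 2 (H ⧸ Y)) ∣ Nat.card (H ⧸ Y) :=
            Subgroup.card_subgroup_dvd_card _
          have h3 : Nat.card (H ⧸ Y) ∣ Nat.card H :=
            ⟨Nat.card ↥Y, Subgroup.card_eq_card_quotient_mul_card_subgroup Y⟩
          have h4 : Nat.card H = Nat.card ↥X * 2 ^ k := by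
            rw [← hk]; exact (Subgroup.card_mul_index X).symm
          have h5 : Nat.card ↥(Cfsg.pPrimeCore 2 (H ⧸ Y)) ∣ Nat.card ↥X * 2 ^ k :=
            h4 ▸ (h2.trans h3)
          exact Nat.Coprime.dvd_of_dvd_mul_right
            ((Nat.coprime_two_right.mpr hOodd).pow_right k) h5
        have h6 : Nat.card ↥X * Nat.card ↥Y ∣ Nat.card ↥(X ⊔ Y) := by
          apply Nat.Coprime.mul_dvd_of_dvd_of_dvd
          · rw [hm]; exact (Nat.coprime_two_right.mpr hXodd).pow_right m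
          · exact Subgroup.card_dvd_of_le le_sup_left
          · exact Subgroup.card_dvd_of_le le_sup_right
        calc Nat.card ↥(Cfsg.pPrimeCore 2 (H ⧸ Y)) * Nat.card ↥Y
            ≤ Nat.card ↥X * Nat.card ↥Y :=
              Nat.mul_le_mul_right _ (Nat.le_of_dvd Nat.card_pos h1)
          _ ≤ Nat.card ↥(X ⊔ Y) := Nat.le_of_dvd Nat.card_pos h6
    refine ⟨heq ▸ hOn.comap (QuotientGroup.mk' Y), fun hN => ?_⟩
    obtain ⟨hc1, hc2⟩ := hC2 hOn
    have hfs : Function.Surjective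
        ((QuotientGroup.mk' (Cfsg.pPrimeCore 2 (H ⧸ Y))).comp (QuotientGroup.mk' Y)) := by
      rw [MonoidHom.coe_comp]
      exact (QuotientGroup.mk'_surjective _).comp (QuotientGroup.mk'_surjective Y)
    have hker : X ⊔ Y
        = ((QuotientGroup.mk' (Cfsg.pPrimeCore 2 (H ⧸ Y))).comp (QuotientGroup.mk' Y)).ker := by
      rw [heq, ← MonoidHom.comap_ker, QuotientGroup.ker_mk']
    let e : H ⧸ (X ⊔ Y) ≃* (H ⧸ Y) ⧸ Cfsg.pPrimeCore 2 (H ⧸ Y) :=
      (QuotientGroup.quotientMulEquivOfEq hker).trans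
        (QuotientGroup.quotientKerEquivOfSurjective _ hfs)
    haveI := hc1
    exact ⟨isCyclic_of_surjective e.symm e.symm.surjective, hc2.of_equiv e.symm⟩

end Cfsg.Agent.S3215
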