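import Cfsg.Statements.S3222
import Cfsg.Agent.S0215
import Cfsg.Agent.Lib.helper11.TwoS4Fin

set_option autoImplicit false
open Cfsg

namespace Cfsg.Agent.S3222

open Cfsg.Agent.Lib.helper11.TwoS4 Cfsg.Agent.Lib.helper11.FourCent Equiv
open scoped commutatorElement

/-- The Klein four-subgroup of `Perm (Fin 4)`. -/
def kleinFour : Subgroup (Perm (Fin 4)) where
  carrier := {σ | σ * σ = 1 ∧ Perm.sign σ = 1}
  mul_mem' := by
    have key : ∀ σ τ : Perm (Fin 4), (σ * σ = 1 ∧ Perm.sign σ = 1) →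
        (τ * τ = 1 ∧ Perm.sign τ = 1) →
        ((σ * τ) * (σ * τ) = 1 ∧ Perm.sign (σ * τ) = 1) := by decide +kernel
    intro σ τ hσ hτ
    exact key σ τ hσ hτ
  one_mem' := by
    refine ⟨by simp, by simp⟩
  inv_mem' := by
    intro σ hσ
    obtain ⟨h1, h2⟩ := hσ
    have : σ⁻¹ = σ := by
      rw [inv_eq_iff_mul_eq_one]; exact h1
    show σ⁻¹ * σ⁻¹ = 1 ∧ Perm.sign σ⁻¹ = 1
    rw [this]; exact ⟨h1, h2⟩

theorem comm_mem_kleinFour : ∀ σ τ : Perm (Fin 4), Perm.sign σ = 1 → Perm.sign τ = 1 →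
    (⁅σ, τ⁆ * ⁅σ, τ⁆ = 1 ∧ Perm.sign ⁅σ, τ⁆ = 1) := by
  decide +kernel

theorem kleinFour_comm : ∀ σ τ : Perm (Fin 4), (σ * σ = 1 ∧ Perm.sign σ = 1) →
    (τ * τ = 1 ∧ Perm.sign τ = 1) → ⁅σ, τ⁆ = 1 := by
  decide +kernel

theorem perm_four_solvable : Group.IsSolvable (Perm (Fin 4)) := by
  rw [Group.isSolvable_def]
  refine ⟨3, ?_⟩
  have h1 : derivedSeries (Perm (Fin 4)) 1 ≤ alternatingGroup (Fin 4) := by
    rw [derivedSeries_succ, derivedSeries_zero]
    exact Abelianization.commutator_subset_ker (Perm.sign)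
  have h2 : derivedSeries (Perm (Fin 4)) 2 ≤ kleinFour := by
    rw [derivedSeries_succ]
    refine (Subgroup.commutator_mono h1 h1).trans ?_
    rw [Subgroup.commutator_le]
    intro g₁ hg₁ g₂ hg₂
    exact comm_mem_kleinFour g₁ g₂ (Perm.mem_alternatingGroup.mp hg₁)
      (Perm.mem_alternatingGroup.mp hg₂)
  rw [derivedSeries_succ, eq_bot_iff]
  refine (Subgroup.commutator_mono h2 h2).trans ?_
  rw [Subgroup.commutator_le]
  intro g₁ hg₁ g₂ hg₂
  rw [Subgroup.mem_bot]
  exact kleinFour_comm g₁ g₂ hg₁ hg₂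

/-- The configuration of the statement gives a `Setup`. -/
theorem exists_setup {G : Type*} [Group G] [Finite G] (t : G) (ht : orderOf t = 2)
    (T : Sylow 2 G) (htc : ∀ s ∈ (T : Subgroup G), s * t = t * s)
    (e : ↥(Subgroup.centralizer ({t} : Set G)) ≃* (Multiplicative (ZMod 2) × Equiv.Perm (Fin 4)))
    (h2 : ∀ S : Sylow 2 G, Subgroup.centralizer
      ((⁅(S : Subgroup G), (S : Subgroup G)⁆ : Subgroup G) : Set G) = (S : Subgroup G)) :
    ∃ f : Γ →* G, Setup t f := by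
  have ht1 : t ≠ 1 := by
    intro h
    rw [h, orderOf_one] at ht
    omega
  let f : Γ →* G := (Subgroup.subtype _).comp e.symm.toMonoidHom
  have hf : ∀ γ, f γ = ((e.symm γ : Subgroup.centralizer ({t} : Set G)) : G) := fun γ => rfl
  have hinj : Function.Injective f := by
    intro γ δ h
    rw [hf, hf] at h
    exact e.symm.injective (Subtype.ext h)
  have hmem : ∀ x : G, x * t = t * x → ∃ γ, f γ = x := by
    intro x hx
    refine ⟨e ⟨x, mem_cent.mpr hx⟩, ?_⟩
    rw [hf, MulEquiv.symm_apply_apply]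
  have hcomm : ∀ γ, f γ * t = t * f γ := by
    intro γ
    rw [hf]
    exact mem_cent.mp (e.symm γ).2
  have hfz : f z₀ = t := by
    obtain ⟨A, hA⟩ : ∃ A : Subgroup.centralizer ({t} : Set G), (A : G) = t :=
      ⟨⟨t, mem_cent.mpr rfl⟩, rfl⟩
    have hAc : ∀ z : Subgroup.centralizer ({t} : Set G), A * z = z * A := by
      intro z
      apply Subtype.ext
      rw [Subgroup.coe_mul, Subgroup.coe_mul, hA]
      exact (mem_cent.mp z.2).symm
    have hcen : ∀ δ : Γ, e A * δ = δ * e A := by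
      intro δ
      have h4 := congrArg e (hAc (e.symm δ))
      rwa [map_mul, map_mul, MulEquiv.apply_symm_apply] at h4
    have hd1 : e A ≠ 1 := by
      intro h
      have h6 : A = 1 := e.injective (by rw [h, map_one])
      apply ht1
      rw [← hA, h6]; rfl
    rcases center_eq (e A) hcen with h | h
    · exact absurd h hd1
    · rw [hf, ← h, MulEquiv.symm_apply_apply, hA]
  haveI : Fact (Nat.Prime 2) := ⟨Nat.prime_two⟩
  -- the image of the centralizer of `u₀` is a Sylow `2`-subgroup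
  have hW16 : Nat.card ((Subgroup.centralizer ({u₀} : Set Γ)).map f) = 16 := by
    rw [Subgroup.card_map_of_injective hinj]
    have e1 : (Subgroup.centralizer ({u₀} : Set Γ)) ≃ {p : Γ // p * u₀ = u₀ * p} :=
      Equiv.subtypeEquivRight (fun p => mem_cent)
    rw [Nat.card_congr e1, Nat.card_eq_fintype_card, card_P]
  obtain ⟨S, hS⟩ :=
    (IsPGroup.of_card (p := 2) (n := 4) (by rw [hW16]; norm_num)).exists_le_sylow
  have hCcard : Nat.card (Subgroup.centralizer ({t} : Set G)) = 48 := by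
    rw [Nat.card_congr e.toEquiv, Nat.card_eq_fintype_card, card_Γ]
  have hScard : Nat.card (S : Subgroup G) = 16 := by
    have hTC : (T : Subgroup G) ≤ Subgroup.centralizer ({t} : Set G) :=
      fun s hs => mem_cent.mpr (htc s hs)
    have h1 : Nat.card (S : Subgroup G) = Nat.card (T : Subgroup G) :=
      S.card_eq_multiplicity.trans T.card_eq_multiplicity.symm
    have h3 := Subgroup.card_dvd_of_le hTC
    rw [hCcard, ← h1] at h3
    have h4 := Subgroup.card_le_of_le hS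
    rw [hW16] at h4
    obtain ⟨n, hn⟩ := IsPGroup.iff_card.mp S.isPGroup'
    rw [hn] at h3 h4 ⊢
    have hn4 : n ≤ 4 := by
      by_contra hcon
      push Not at hcon
      have h5 : 2 ^ 5 ∣ 2 ^ n := pow_dvd_pow 2 hcon
      have h6 := h5.trans h3
      norm_num at h6
    have hn4' : 4 ≤ n := by
      by_contra hcon
      push Not at hcon
      have h5 : 2 ^ n ≤ 2 ^ 3 := Nat.pow_le_pow_right (by norm_num) (by omega)
      norm_num at h5
      omega
    have hn' : n = 4 := le_antisymm hn4 hn4'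
    rw [hn']
    norm_num
  have hSW : (Subgroup.centralizer ({u₀} : Set Γ)).map f = (S : Subgroup G) :=
    Subgroup.eq_of_le_of_card_ge hS (by rw [hScard, hW16])
  have hSmem : ∀ x : G, x ∈ (S : Subgroup G) ↔ ∃ p : Γ, p * u₀ = u₀ * p ∧ f p = x := by
    intro x
    rw [← hSW, Subgroup.mem_map]
    constructor
    · rintro ⟨p, hp, rfl⟩
      exact ⟨p, mem_cent.mp hp, rfl⟩
    · rintro ⟨p, hp, rfl⟩
      exact ⟨p, mem_cent.mpr hp, rfl⟩
  have hS2 := h2 S
  have hcomS : ⁅(S : Subgroup G), (S : Subgroup G)⁆ ≤ Subgroup.zpowers (f u₀) := by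
    rw [Subgroup.commutator_le]
    intro g₁ hg₁ g₂ hg₂
    obtain ⟨p₁, hp₁, rfl⟩ := (hSmem g₁).mp hg₁
    obtain ⟨p₂, hp₂, rfl⟩ := (hSmem g₂).mp hg₂
    rw [commutatorElement_def, ← map_inv, ← map_inv, ← map_mul, ← map_mul, ← map_mul]
    rcases comm_P p₁ p₂ hp₁ hp₂ with h | h
    · rw [h, map_one]; exact Subgroup.one_mem _
    · rw [h]; exact Subgroup.mem_zpowers _
  have hku' : ∀ x : G, x * f u₀ = f u₀ * x → x ∈ (S : Subgroup G) := by
    intro x hx
    rw [← hS2, Subgroup.mem_centralizer_iff]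
    intro h hh
    obtain ⟨k, rfl⟩ := Subgroup.mem_zpowers_iff.mp (hcomS hh)
    have hc : Commute x (f u₀) := hx
    exact (hc.zpow_right k).eq.symm
  refine ⟨f, hinj, hmem, hfz, ?_, S, ?_⟩
  · intro x hx
    obtain ⟨p, -, rfl⟩ := (hSmem x).mp (hku' x hx)
    exact hcomm p
  · ext x
    rw [mem_cent]
    constructor
    · intro hx
      obtain ⟨p, hp, rfl⟩ := (hSmem x).mp hx
      rw [← map_mul, ← map_mul, hp]
    · exact hku' x


/-- Let G be a finite group of even order such that (1) some involution t lying in the centre of a Sylow 2-subgroup of G has C_G(t) ≅ Z₂ × S₄, and (2) every Sylow 2-subgroup S of G satisfies C_G(S′) = S, where S′ is the derived subgroup of S. Then G = C_G(t) if G is solvable, and G ≅ S₆ otherwise. -/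
theorem result {G : Type*} [Group G] [Finite G] (hev : Even (Nat.card G))
    (t : G) (ht : orderOf t = 2) (T : Sylow 2 G) (htT : t ∈ (T : Subgroup G)) (htc : ∀ s ∈ (T : Subgroup G), s * t = t * s)
    (e : ↥(Subgroup.centralizer ({t} : Set G)) ≃* (Multiplicative (ZMod 2) × Equiv.Perm (Fin 4)))
    (h2 : ∀ S : Sylow 2 G, Subgroup.centralizer ((⁅(S : Subgroup G), (S : Subgroup G)⁆ : Subgroup G) : Set G) = (S : Subgroup G)) :
    (Group.IsSolvable G → Subgroup.centralizer ({t} : Set G) = ⊤) ∧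
      (¬ Group.IsSolvable G → Nonempty (G ≃* Equiv.Perm (Fin 6))) := by
  obtain ⟨f, HS⟩ := exists_setup t ht T htc e h2
  by_cases hiso : ∀ g : G, g * t * g⁻¹ ∈ T → g * t * g⁻¹ = t
  · have hZ := Cfsg.Agent.S0215.result T t ht htT hiso
    have hcen := HS.central_of_isolated hZ
    have hCtop : Subgroup.centralizer ({t} : Set G) = ⊤ :=
      eq_top_iff.mpr (fun g _ => mem_cent.mpr (hcen g))
    refine ⟨fun _ => hCtop, fun hns => ?_⟩
    exfalso
    apply hns
    have e' : G ≃* (Multiplicative (ZMod 2) × Equiv.Perm (Fin 4)) :=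
      (Subgroup.topEquiv.symm.trans (MulEquiv.subgroupCongr hCtop.symm)).trans e
    haveI : Group.IsSolvable (Equiv.Perm (Fin 4)) := perm_four_solvable
    exact Group.isSolvable_of_isSolvable_injective (f := e'.toMonoidHom) e'.injective
  · push Not at hiso
    obtain ⟨g, hgT, hgne⟩ := hiso
    have ht2 := HS.tsq
    have hx : g * t * g⁻¹ * t = t * (g * t * g⁻¹) := htc _ hgT
    obtain ⟨γ, hγ⟩ := HS.mem _ hx
    have hγ2 : γ * γ = 1 := by
      apply HS.inj
      rw [map_mul, hγ, map_one]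
      calc g * t * g⁻¹ * (g * t * g⁻¹) = g * (t * t) * g⁻¹ := by group
        _ = 1 := by rw [ht2]; group
    have hγ1 : γ ≠ 1 := by
      intro h
      rw [h, map_one] at hγ
      apply HS.tne
      have e1 : t = g⁻¹ * (g * t * g⁻¹) * g := by group
      rw [e1, ← hγ]; group
    have hγz : γ ≠ z₀ := by
      intro h
      rw [h, HS.ht] at hγ
      exact hgne hγ.symm
    have key : ∃ f' : Γ →* G, Setup t f' ∧ ∃ g' : G, g' * t * g'⁻¹ = f' a₀ := by
      rcases inv_types γ hγ2 hγ1 hγz with (⟨δ, hδ⟩ | ⟨δ, hδ⟩) | (⟨δ, hδ⟩ | ⟨δ, hδ⟩)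
      · exfalso
        apply HS.not_conj_u (g⁻¹ * f δ)
        have e1 : g⁻¹ * f δ * f u₀ * (g⁻¹ * f δ)⁻¹ = g⁻¹ * (f δ * f u₀ * (f δ)⁻¹) * g := by
          group
        rw [e1, ← map_inv, ← map_mul, ← map_mul, hδ, hγ]; group
      · exfalso
        apply HS.not_conj_tu (g⁻¹ * f δ)
        have e1 : (g⁻¹ * f δ)⁻¹ * t * (g⁻¹ * f δ) = (f δ)⁻¹ * (g * t * g⁻¹) * f δ := by group
        rw [e1, ← hγ, ← hδ, map_mul, map_mul, map_mul, map_inv, HS.ht]; group
      · refine ⟨f, HS, (f δ)⁻¹ * g, ?_⟩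
        have e1 : (f δ)⁻¹ * g * t * ((f δ)⁻¹ * g)⁻¹ = (f δ)⁻¹ * (g * t * g⁻¹) * f δ := by group
        rw [e1, ← hγ, ← hδ, map_mul, map_mul, map_inv]; group
      · refine ⟨f.comp θ, HS.twist, (f δ)⁻¹ * g, ?_⟩
        have e1 : (f δ)⁻¹ * g * t * ((f δ)⁻¹ * g)⁻¹ = (f δ)⁻¹ * (g * t * g⁻¹) * f δ := by group
        rw [HS.twist_a, e1, ← hγ, ← hδ, map_mul (f := f) (δ * (z₀ * a₀)), map_mul (f := f) δ,
          map_inv]
        group
    obtain ⟨f', HS', g', hg'⟩ := key
    obtain ⟨ψ⟩ := HS'.sym6_of_conj hg'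
    refine ⟨fun hsolv => ?_, fun _ => ⟨ψ⟩⟩
    exfalso
    haveI := hsolv
    have h6 : Group.IsSolvable (Equiv.Perm (Fin 6)) :=
      Group.isSolvable_of_isSolvable_injective (f := ψ.symm.toMonoidHom) ψ.symm.injective
    exact Equiv.Perm.not_isSolvable (Fin 6) (by rw [Cardinal.mk_fin]; norm_num) h6

end Cfsg.Agent.S3222
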