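import Cfsg.Statements.S3246
import Cfsg.Agent.Lib.helper14.PConstrained
import Cfsg.Agent.Lib.helper36.PConstr
import Cfsg.Agent.Lib.helper27.AxB
import Cfsg.Agent.Lib.helper28.Fitting

set_option autoImplicit false
open Cfsg
open scoped commutatorElement

namespace Cfsg.Agent.S3246

theorem mem_cent_single {G : Type*} [Group G] {g e : G} :
    g ∈ Subgroup.centralizer ({e} : Set G) ↔ e * g = g * e := by
  rw [Subgroup.mem_centralizer_iff]
  constructor
  · intro h; exact h e rfl
  · rintro h _ rfl; exact h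

theorem eq_one_of_mem_odd_of_mem_two {G : Type*} [Group G] [Finite G] {Y P : Subgroup G}
    (hY : Odd (Nat.card Y)) (hP : IsPGroup 2 P) {g : G} (hgY : g ∈ Y) (hgP : g ∈ P) : g = 1 := by
  obtain ⟨k, hk⟩ := hP ⟨g, hgP⟩
  have hk' : g ^ 2 ^ k = 1 := by simpa using congrArg Subtype.val hk
  have h1 : orderOf g ∣ 2 ^ k := orderOf_dvd_of_pow_eq_one hk'
  have h2 : orderOf g ∣ Nat.card Y := by
    have := orderOf_dvd_natCard (⟨g, hgY⟩ : ↥Y)
    rwa [Subgroup.orderOf_mk] at this
  have hcop : Nat.Coprime (2 ^ k) (Nat.card Y) := Nat.Coprime.pow_left k (Nat.coprime_two_left.2 hY)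
  have h3 := Nat.dvd_gcd h1 h2
  rw [hcop.gcd_eq_one] at h3
  exact orderOf_eq_one_iff.1 (Nat.dvd_one.1 h3)

theorem eq_one_of_sq_of_odd {G : Type*} [Group G] [Finite G] {X : Subgroup G}
    (hX : Odd (Nat.card X)) {x : G} (hx : x ∈ X) (hx2 : x ^ 2 = 1) : x = 1 := by
  have h1 : orderOf x ∣ 2 := orderOf_dvd_of_pow_eq_one hx2
  have h2 : orderOf x ∣ Nat.card X := by
    have := orderOf_dvd_natCard (⟨x, hx⟩ : ↥X)
    rwa [Subgroup.orderOf_mk] at this
  have hcop : Nat.Coprime 2 (Nat.card X) := Nat.coprime_two_left.2 hX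
  have h3 := Nat.dvd_gcd h1 h2
  rw [hcop.gcd_eq_one] at h3
  exact orderOf_eq_one_iff.1 (Nat.dvd_one.1 h3)

/-- Key lemma: in a `2`-constrained subgroup `M` with trivial odd core, an odd-order subgroup
normalized by a `2`-subgroup `T` of index at most `2` in a Sylow `2`-subgroup of `G` is trivial. -/
theorem key {G : Type*} [Group G] [Finite G] (S : Sylow 2 G) (M T Y : Subgroup G)
    (hM : Cfsg.IsPConstrained 2 ↥M ∧ Cfsg.oddCore ↥M = ⊥)
    (hTM : T ≤ M) (hTS : T ≤ (S : Subgroup G))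
    (hidx : Nat.card (S : Subgroup G) ≤ 2 * Nat.card T)
    (hYM : Y ≤ M) (hY : Odd (Nat.card Y))
    (hTY : T ≤ Subgroup.normalizer (Y : Set G)) : Y = ⊥ := by
  haveI : Fact (Nat.Prime 2) := ⟨Nat.prime_two⟩
  have hc : Subgroup.centralizer ((Cfsg.pCore 2 ↥M : Subgroup ↥M) : Set ↥M) ≤ Cfsg.pCore 2 ↥M :=
    (Cfsg.Agent.Lib.helper14.isPConstrained_iff_of_pPrimeCore_eq_bot 2 hM.2).1 hM.1
  have hP₀n : (Cfsg.pCore 2 ↥M).Normal := Cfsg.Agent.Lib.helper40.pCore_normal' 2 ↥M
  have hP₀2 : IsPGroup 2 ↥(Cfsg.pCore 2 ↥M) := Cfsg.Agent.Lib.helper40.pCore_isPGroup 2 ↥M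
  obtain ⟨P, hPdef⟩ : ∃ P : Subgroup G, P = (Cfsg.pCore 2 ↥M).map M.subtype := ⟨_, rfl⟩
  have hP2 : IsPGroup 2 ↥P := by rw [hPdef]; exact hP₀2.map _
  have hPn : ∀ m ∈ M, ∀ u ∈ P, m * u * m⁻¹ ∈ P := by
    intro m hm u hu
    rw [hPdef] at hu ⊢
    obtain ⟨x, hx, rfl⟩ := hu
    exact ⟨⟨m, hm⟩ * x * ⟨m, hm⟩⁻¹, hP₀n.conj_mem x hx ⟨m, hm⟩, rfl⟩
  have hTP : T ≤ Subgroup.normalizer (P : Set G) := by
    intro t ht
    rw [Subgroup.mem_normalizer_iff]
    intro u
    constructor
    · intro hu; exact hPn t (hTM ht) u hu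
    · intro hu
      have := hPn t⁻¹ (M.inv_mem (hTM ht)) _ hu
      simpa [mul_assoc] using this
  have hT2 : IsPGroup 2 ↥T := S.isPGroup'.to_le hTS
  have hTPp : IsPGroup 2 ↥(T ⊔ P) := IsPGroup.to_sup_of_normal_right' hT2 hP2 hTP
  have hcardTP : Nat.card ↥(T ⊔ P) ≤ Nat.card (S : Subgroup G) := by
    obtain ⟨Q, hQ⟩ := hTPp.exists_le_sylow
    calc Nat.card ↥(T ⊔ P) ≤ Nat.card (Q : Subgroup G) := Subgroup.card_le_of_le hQ
      _ = Nat.card (S : Subgroup G) :=
          (Sylow.card_eq_multiplicity Q).trans (Sylow.card_eq_multiplicity S).symm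
  have hrel : (P ⊓ T).relIndex P ≤ 2 := by
    have h1 : (P ⊓ T).relIndex P = T.relIndex P := by
      rw [inf_comm P T, Subgroup.inf_relIndex_right]
    have hne : T.relIndex (T ⊔ P) ≠ 0 :=
      show (T.subgroupOf (T ⊔ P)).index ≠ 0 from Subgroup.index_ne_zero_of_finite
    have h2 : T.relIndex P ≤ T.relIndex (T ⊔ P) :=
      Subgroup.relIndex_le_of_le_right le_sup_right hne
    have h3 : Nat.card T * T.relIndex (T ⊔ P) = Nat.card ↥(T ⊔ P) := by
      have := Subgroup.card_mul_index (T.subgroupOf (T ⊔ P))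
      rw [Nat.card_congr (Subgroup.subgroupOfEquivOfLe (le_sup_left : T ≤ T ⊔ P)).toEquiv] at this
      exact this
    have hTpos : 0 < Nat.card T := Nat.card_pos
    have h4 : Nat.card T * T.relIndex (T ⊔ P) ≤ Nat.card T * 2 := by
      rw [h3]; omega
    have h5 : T.relIndex (T ⊔ P) ≤ 2 := Nat.le_of_mul_le_mul_left h4 hTpos
    rw [h1]; exact h2.trans h5
  -- `Y` centralizes `P ⊓ T`
  have hcen1 : ∀ u ∈ P ⊓ T, ∀ y ∈ Y, u * y = y * u := by
    intro u hu y hy
    have huP := (Subgroup.mem_inf.1 hu).1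
    have huT := (Subgroup.mem_inf.1 hu).2
    have h1 : u * y * u⁻¹ ∈ Y := ((Subgroup.mem_normalizer_iff.1 (hTY huT)) y).1 hy
    have h2 : y * u⁻¹ * y⁻¹ ∈ P := hPn y (hYM hy) u⁻¹ (P.inv_mem huP)
    have h3 : u * y * u⁻¹ * y⁻¹ ∈ Y := Y.mul_mem h1 (Y.inv_mem hy)
    have h4 : u * y * u⁻¹ * y⁻¹ ∈ P := by
      have : u * (y * u⁻¹ * y⁻¹) ∈ P := P.mul_mem huP h2
      simpa [mul_assoc] using this
    have h5 := eq_one_of_mem_odd_of_mem_two hY hP2 h3 h4
    calc u * y = (u * y * u⁻¹ * y⁻¹) * (y * u) := by group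
      _ = y * u := by rw [h5, one_mul]
  -- `Y` centralizes `P`
  have hcen2 : ∀ u ∈ P, ∀ y ∈ Y, u * y = y * u := by
    intro u hu y hy
    have hw : y * u⁻¹ * y⁻¹ ∈ P := hPn y (hYM hy) u⁻¹ (P.inv_mem hu)
    have hiff : u ∈ P ⊓ T ↔ y * u⁻¹ * y⁻¹ ∈ P ⊓ T := by
      constructor
      · intro h
        have hc' := hcen1 u h y hy
        have e : y * u⁻¹ * y⁻¹ = u⁻¹ := by
          calc y * u⁻¹ * y⁻¹ = u⁻¹ * (u * y) * u⁻¹ * y⁻¹ := by group
            _ = u⁻¹ * (y * u) * u⁻¹ * y⁻¹ := by rw [hc']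
            _ = u⁻¹ := by group
        rw [e]; exact (P ⊓ T).inv_mem h
      · intro h
        have hc' := hcen1 _ h y hy
        have e : u⁻¹ = y * u⁻¹ * y⁻¹ := by
          calc u⁻¹ = y⁻¹ * ((y * u⁻¹ * y⁻¹) * y) := by group
            _ = y⁻¹ * (y * (y * u⁻¹ * y⁻¹)) := by rw [hc']
            _ = y * u⁻¹ * y⁻¹ := by group
        have h' : u⁻¹ ∈ P ⊓ T := by rw [e]; exact h
        simpa using (P ⊓ T).inv_mem h'
    have hmem : u * (y * u⁻¹ * y⁻¹) ∈ P ⊓ T := by
      rcases Nat.lt_or_ge ((P ⊓ T).relIndex P) 2 with h | h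
      · have hne : (P ⊓ T).relIndex P ≠ 0 :=
          show ((P ⊓ T).subgroupOf P).index ≠ 0 from Subgroup.index_ne_zero_of_finite
        have h1 : (P ⊓ T).relIndex P = 1 := by omega
        have hle : P ≤ P ⊓ T := Subgroup.relIndex_eq_one.1 h1
        exact (P ⊓ T).mul_mem (hle hu) (hle hw)
      · have h2 : ((P ⊓ T).subgroupOf P).index = 2 := le_antisymm hrel h
        have h3 := Subgroup.mul_mem_iff_of_index_two h2 (a := (⟨u, hu⟩ : ↥P))
          (b := ⟨y * u⁻¹ * y⁻¹, hw⟩)
        rw [Subgroup.mem_subgroupOf, Subgroup.mem_subgroupOf, Subgroup.mem_subgroupOf] at h3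
        exact h3.2 hiff
    have hbr : ⁅u, y⁆ = u * (y * u⁻¹ * y⁻¹) := by rw [commutatorElement_def]; group
    have h1 : ⁅u, y⁆ = 1 := by
      apply Cfsg.Agent.Lib.helper27.commutatorElement_eq_one_of_coprime (p := 2)
      · have hin : ⁅u, y⁆ ∈ P := by rw [hbr]; exact (Subgroup.mem_inf.1 hmem).1
        obtain ⟨k, hk⟩ := hP2 ⟨_, hin⟩
        exact ⟨k, by simpa using congrArg Subtype.val hk⟩
      · have h2 : orderOf y ∣ Nat.card Y := by
          have := orderOf_dvd_natCard (⟨y, hy⟩ : ↥Y)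
          rwa [Subgroup.orderOf_mk] at this
        exact Nat.Coprime.coprime_dvd_left h2 (Nat.coprime_two_right.2 hY)
      · show ⁅u, y⁆ * y = y * ⁅u, y⁆
        rw [hbr]; exact hcen1 _ hmem y hy
    rw [commutatorElement_def] at h1
    calc u * y = (u * y * u⁻¹ * y⁻¹) * (y * u) := by group
      _ = y * u := by rw [h1, one_mul]
  rw [Subgroup.eq_bot_iff_forall]
  intro y hy
  have hyc : (⟨y, hYM hy⟩ : ↥M) ∈
      Subgroup.centralizer ((Cfsg.pCore 2 ↥M : Subgroup ↥M) : Set ↥M) := by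
    rw [Subgroup.mem_centralizer_iff]
    intro m hm
    apply Subtype.ext
    have hmP : (m : G) ∈ P := by rw [hPdef]; exact ⟨m, hm, rfl⟩
    exact hcen2 _ hmP y hy
  have hyP : y ∈ P := by rw [hPdef]; exact ⟨⟨y, hYM hy⟩, hc hyc, rfl⟩
  exact eq_one_of_mem_odd_of_mem_two hY hP2 hy hyP

/-- A fixed-point-free involution inverts. -/
theorem inverts_of_fpf {G : Type*} [Group G] [Finite G] (X : Subgroup G) (t : G) (ht : t * t = 1)
    (htX : t ∈ Subgroup.normalizer (X : Set G)) (hfp : ∀ x ∈ X, t * x = x * t → x = 1) :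
    ∀ x ∈ X, t * x * t⁻¹ = x⁻¹ := by
  have hconj : ∀ x ∈ X, t * x * t⁻¹ ∈ X :=
    fun x hx => ((Subgroup.mem_normalizer_iff.1 htX) x).1 hx
  let f : ↥X → ↥X := fun x =>
    ⟨(x : G)⁻¹ * (t * x * t⁻¹), X.mul_mem (X.inv_mem x.2) (hconj x x.2)⟩
  have hinj : Function.Injective f := by
    intro x y hxy
    have h1 : (x : G)⁻¹ * (t * x * t⁻¹) = (y : G)⁻¹ * (t * y * t⁻¹) := congrArg Subtype.val hxy
    have h3 : (y : G) * (x : G)⁻¹ = t * ((y : G) * (x : G)⁻¹) * t⁻¹ := by
      calc (y : G) * (x : G)⁻¹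
          = (y : G) * ((x : G)⁻¹ * (t * x * t⁻¹)) * (t * x * t⁻¹)⁻¹ := by group
        _ = (y : G) * ((y : G)⁻¹ * (t * y * t⁻¹)) * (t * x * t⁻¹)⁻¹ := by rw [h1]
        _ = t * ((y : G) * (x : G)⁻¹) * t⁻¹ := by group
    have h2 : t * ((y : G) * (x : G)⁻¹) = ((y : G) * (x : G)⁻¹) * t := by
      calc t * ((y : G) * (x : G)⁻¹) = (t * ((y : G) * (x : G)⁻¹) * t⁻¹) * t := by group
        _ = ((y : G) * (x : G)⁻¹) * t := by rw [← h3]
    have h4 := hfp _ (X.mul_mem y.2 (X.inv_mem x.2)) h2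
    apply Subtype.ext
    have h5 : (y : G) = x := by
      calc (y : G) = ((y : G) * (x : G)⁻¹) * x := by group
        _ = x := by rw [h4, one_mul]
    exact h5.symm
  have hsurj : Function.Surjective f := Finite.surjective_of_injective hinj
  intro x hx
  obtain ⟨w, hw⟩ := hsurj ⟨x, hx⟩
  have hw' : (w : G)⁻¹ * (t * w * t⁻¹) = x := congrArg Subtype.val hw
  rw [← hw']
  have e1 : t * ((w : G)⁻¹ * (t * w * t⁻¹)) * t⁻¹ =
      (t * (w : G)⁻¹ * t⁻¹) * ((t * t) * w * (t * t)⁻¹) := by group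
  rw [e1, ht]
  group

theorem card_le_two_mul_centralizer {G : Type*} [Group G] [Finite G] (S : Subgroup G) (a z : G)
    (hz2 : z * z = 1) (hz1 : z ≠ 1) (hzc : ∀ s ∈ S, s * z = z * s)
    (hac : ∀ s ∈ S, s * a = a * s ∨ s * a = a * s * z) :
    Nat.card S ≤ 2 * Nat.card ↥(S ⊓ Subgroup.centralizer ({a} : Set G)) := by
  obtain ⟨C, hC⟩ : ∃ C : Subgroup G, C = S ⊓ Subgroup.centralizer ({a} : Set G) := ⟨_, rfl⟩
  rw [← hC]
  have hmemC : ∀ s ∈ S, (s ∈ C ↔ s * a = a * s) := by
    intro s hs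
    rw [hC, Subgroup.mem_inf, mem_cent_single]
    constructor
    · intro h; exact h.2.symm
    · intro h; exact ⟨hs, h.symm⟩
  have hCS : C ≤ S := by rw [hC]; exact inf_le_left
  by_cases hall : S ≤ C
  · have := Subgroup.card_le_of_le hall; omega
  · obtain ⟨s₀, hs₀S, hs₀C⟩ := SetLike.not_le_iff_exists.1 hall
    have hs₀ : s₀ * a = a * s₀ * z := by
      rcases hac s₀ hs₀S with h | h
      · exact absurd ((hmemC s₀ hs₀S).2 h) hs₀C
      · exact h
    have hindex : (C.subgroupOf S).index = 2 := by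
      rw [Subgroup.index_eq_two_iff]
      refine ⟨⟨s₀, hs₀S⟩, fun b => ?_⟩
      rw [Subgroup.mem_subgroupOf, Subgroup.mem_subgroupOf]
      have hbS : (b : G) ∈ S := b.2
      have hbs : (b : G) * s₀ ∈ S := S.mul_mem hbS hs₀S
      show Xor ((b : G) * s₀ ∈ C) ((b : G) ∈ C)
      rw [hmemC _ hbs, hmemC _ hbS]
      rcases hac b hbS with h | h
      · right
        refine ⟨h, ?_⟩
        intro h'
        -- b s₀ a = b a s₀ z = a b s₀ z
        have e : (b : G) * s₀ * a = a * ((b : G) * s₀) * z := by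
          calc (b : G) * s₀ * a = (b : G) * (s₀ * a) := by group
            _ = (b : G) * (a * s₀ * z) := by rw [hs₀]
            _ = ((b : G) * a) * s₀ * z := by group
            _ = (a * b) * s₀ * z := by rw [h]
            _ = a * ((b : G) * s₀) * z := by group
        rw [e] at h'
        exact hz1 (mul_left_cancel (h'.trans (mul_one _).symm))
      · left
        refine ⟨?_, ?_⟩
        · calc (b : G) * s₀ * a = (b : G) * (s₀ * a) := by group
            _ = (b : G) * (a * s₀ * z) := by rw [hs₀]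
            _ = ((b : G) * a) * s₀ * z := by group
            _ = (a * b * z) * s₀ * z := by rw [h]
            _ = a * b * (z * s₀) * z := by group
            _ = a * b * (s₀ * z) * z := by rw [hzc s₀ hs₀S]
            _ = a * ((b : G) * s₀) * (z * z) := by group
            _ = a * ((b : G) * s₀) := by rw [hz2, mul_one]
        · intro h'
          rw [h'] at h
          exact hz1 (mul_left_cancel (h.symm.trans (mul_one _).symm)).symm.symm
    have h1 := Subgroup.card_mul_index (C.subgroupOf S)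
    rw [hindex, Nat.card_congr (Subgroup.subgroupOfEquivOfLe hCS).toEquiv] at h1
    omega

theorem exists_M {G : Type*} [Group G] [Finite G]
    (h : (∀ M : Subgroup G, Cfsg.IsMaximalTwoLocal M →
        Cfsg.IsPConstrained 2 ↥M ∧ Cfsg.oddCore ↥M = ⊥) ∨
      (∀ t : G, orderOf t = 2 → Cfsg.IsPConstrained 2 ↥(Subgroup.centralizer ({t} : Set G)) ∧
        Cfsg.oddCore ↥(Subgroup.centralizer ({t} : Set G)) = ⊥))
    (e : G) (he : orderOf e = 2) :
    ∃ M : Subgroup G, Subgroup.centralizer ({e} : Set G) ≤ M ∧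
      (Cfsg.IsPConstrained 2 ↥M ∧ Cfsg.oddCore ↥M = ⊥) := by
  rcases h with h | h
  · have hloc : Cfsg.IsTwoLocal (Subgroup.normalizer ((Subgroup.zpowers e : Subgroup G) : Set G)) := by
      refine ⟨Subgroup.zpowers e, ?_, ?_, rfl⟩
      · haveI : Fact (Nat.Prime 2) := ⟨Nat.prime_two⟩
        apply IsPGroup.of_card (n := 1)
        rw [Nat.card_zpowers, he, pow_one]
      · rw [Ne, Subgroup.zpowers_eq_bot]
        rintro rfl
        rw [orderOf_one] at he; omega
    obtain ⟨M, hM1, hM2⟩ :=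
      Finite.exists_le_maximal (p := fun N : Subgroup G => Cfsg.IsTwoLocal N) hloc
    have hMmax : Cfsg.IsMaximalTwoLocal M :=
      ⟨hM2.1, fun N hN hMN => le_antisymm (hM2.2 hN hMN) hMN⟩
    refine ⟨M, le_trans ?_ hM1, h M hMmax⟩
    intro g hg
    apply Subgroup.centralizer_le_normalizer
    rw [Subgroup.mem_centralizer_iff]
    rintro _ ⟨k, rfl⟩
    have hc : Commute e g := mem_cent_single.1 hg
    show e ^ k * g = g * e ^ k
    exact (hc.zpow_left k).eq
  · exact ⟨_, le_rfl, h e he⟩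

/-- Let G be a finite group whose Sylow 2-subgroup S has a self-centralizing normal subgroup of rank at least 3. Suppose that either every maximal 2-local subgroup of G is 2-constrained with no nontrivial normal subgroup of odd order, or the centralizer of every involution of G is 2-constrained with no nontrivial normal subgroup of odd order. Then S normalizes no nontrivial subgroup of G of odd order and every 2-local subgroup of G is 2-constrained. -/
theorem result {G : Type*} [Group G] [Finite G]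
    (S : Sylow 2 G) (A : Subgroup G) (hA : Cfsg.IsSCN (S : Subgroup G) A) (hA3 : ¬ Cfsg.PRankLE 2 2 ↥A)
    (h : (∀ M : Subgroup G, Cfsg.IsMaximalTwoLocal M → Cfsg.IsPConstrained 2 ↥M ∧ Cfsg.oddCore ↥M = ⊥) ∨
      (∀ t : G, orderOf t = 2 → Cfsg.IsPConstrained 2 ↥(Subgroup.centralizer ({t} : Set G)) ∧
        Cfsg.oddCore ↥(Subgroup.centralizer ({t} : Set G)) = ⊥)) :
    (∀ X : Subgroup G, Odd (Nat.card ↥X) → (S : Subgroup G) ≤ Subgroup.normalizer (X : Set G) → X = ⊥) ∧
      (∀ T : Subgroup G, IsPGroup 2 ↥T → T ≠ ⊥ → Cfsg.IsPConstrained 2 ↥(Subgroup.normalizer (T : Set G))) := by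
  haveI : Fact (Nat.Prime 2) := ⟨Nat.prime_two⟩
  obtain ⟨hAS, hSA, hAc⟩ := hA
  refine ⟨?_, ?_⟩
  · intro X hXodd hSX
    have hAcomm : ∀ a ∈ A, ∀ b ∈ A, a * b = b * a := by
      intro a ha b hb
      have hb' : b ∈ (S : Subgroup G) ⊓ Subgroup.centralizer (A : Set G) := by rw [hAc]; exact hb
      exact (Subgroup.mem_centralizer_iff.1 (Subgroup.mem_inf.1 hb').2) a ha
    let E : Subgroup G :=
      { carrier := {x | x ∈ A ∧ x ^ 2 = 1}
        one_mem' := ⟨A.one_mem, one_pow 2⟩
        mul_mem' := by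
          rintro a b ⟨ha, ha2⟩ ⟨hb, hb2⟩
          refine ⟨A.mul_mem ha hb, ?_⟩
          have hc : Commute a b := hAcomm a ha b hb
          rw [hc.mul_pow, ha2, hb2, one_mul]
        inv_mem' := by
          rintro a ⟨ha, ha2⟩
          exact ⟨A.inv_mem ha, by rw [inv_pow, ha2, inv_one]⟩ }
    have hE_mem : ∀ x, x ∈ E ↔ x ∈ A ∧ x ^ 2 = 1 := fun x => Iff.rfl
    have hES : E ≤ (S : Subgroup G) := fun x hx => hAS ((hE_mem x).1 hx).1
    have hEcard : 4 < Nat.card E := by
      unfold Cfsg.PRankLE at hA3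
      push Not at hA3
      obtain ⟨B, hBc, hB2, hBcard⟩ := hA3
      have hle : B.map A.subtype ≤ E := by
        rintro _ ⟨b, hb, rfl⟩
        refine (hE_mem _).2 ⟨b.2, ?_⟩
        have := hB2 b hb
        simpa using congrArg Subtype.val this
      have h1 : Nat.card (B.map A.subtype) = Nat.card B :=
        Subgroup.card_map_of_injective (Subgroup.subtype_injective A)
      have h2 := Subgroup.card_le_of_le hle
      rw [h1] at h2
      norm_num at hBcard
      omega
    have hSE : (S : Subgroup G) ≤ Subgroup.normalizer (E : Set G) := by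
      intro s hs
      rw [Subgroup.mem_normalizer_iff]
      intro x
      have hsA := Subgroup.mem_normalizer_iff.1 (hSA hs)
      rw [hE_mem, hE_mem]
      constructor
      · rintro ⟨hx, hx2⟩
        refine ⟨(hsA x).1 hx, ?_⟩
        rw [conj_pow, hx2]; group
      · rintro ⟨hx, hx2⟩
        refine ⟨(hsA x).2 hx, ?_⟩
        rw [conj_pow] at hx2
        have e : x ^ 2 = s⁻¹ * (s * x ^ 2 * s⁻¹) * s := by group
        rw [e, hx2]; group
    haveI hnil : Group.IsNilpotent ↥(S : Subgroup G) := S.isPGroup'.isNilpotent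
    haveI hE'n : (E.subgroupOf (S : Subgroup G)).Normal :=
      Subgroup.normal_subgroupOf_of_le_normalizer hSE
    have hcardE' : Nat.card (E.subgroupOf (S : Subgroup G)) = Nat.card E :=
      Nat.card_congr (Subgroup.subgroupOfEquivOfLe hES).toEquiv
    have hE'ne : E.subgroupOf (S : Subgroup G) ≠ ⊥ := by
      intro h0
      rw [h0, Subgroup.card_bot] at hcardE'
      omega
    have hz0 := Cfsg.Agent.Lib.helper28.normal_inf_center_ne_bot (E.subgroupOf (S : Subgroup G)) hE'ne
    obtain ⟨⟨z', hz'mem⟩, hz'ne⟩ := Subgroup.ne_bot_iff_exists_ne_one.1 hz0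
    have hz'E : (z' : G) ∈ E := Subgroup.mem_subgroupOf.1 (Subgroup.mem_inf.1 hz'mem).1
    have hz'cen : ∀ g : ↥(S : Subgroup G), g * z' = z' * g :=
      Subgroup.mem_center_iff.1 (Subgroup.mem_inf.1 hz'mem).2
    have hz'1 : z' ≠ 1 := fun h0 => hz'ne (Subtype.ext h0)
    have hz'2 : z' ^ 2 = 1 := Subtype.ext (by simpa using ((hE_mem _).1 hz'E).2)
    have hzS : (z' : G) ∈ (S : Subgroup G) := z'.2
    have hz1 : (z' : G) ≠ 1 := fun h0 => hz'1 (Subtype.ext h0)
    have hz2 : (z' : G) * (z' : G) = 1 := by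
      have := ((hE_mem _).1 hz'E).2; rwa [pow_two] at this
    have hzc : ∀ s ∈ (S : Subgroup G), s * (z' : G) = (z' : G) * s := by
      intro s hs
      exact congrArg Subtype.val (hz'cen ⟨s, hs⟩)
    -- the quotient by `⟨z⟩`
    let Z' : Subgroup ↥(S : Subgroup G) := Subgroup.zpowers z'
    haveI hZ'n : Z'.Normal := by
      constructor
      rintro _ ⟨k, rfl⟩ g
      have hc : Commute g z' := hz'cen g
      have e : g * z' ^ k * g⁻¹ = z' ^ k := by
        rw [(hc.zpow_right k).eq, mul_inv_cancel_right]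
      show g * z' ^ k * g⁻¹ ∈ Z'
      rw [e]; exact Subgroup.zpow_mem_zpowers z' k
    have hz'2z : z' ^ (2 : ℤ) = 1 := by exact_mod_cast hz'2
    have hZ'mem : ∀ w ∈ Z', w = 1 ∨ w = z' := by
      rintro _ ⟨k, rfl⟩
      show z' ^ k = 1 ∨ z' ^ k = z'
      obtain ⟨m, hm | hm⟩ := Int.even_or_odd' k
      · left; rw [hm, zpow_mul, hz'2z, one_zpow]
      · right; rw [hm, zpow_add_one, zpow_mul, hz'2z, one_zpow, one_mul]
    let Nbar : Subgroup (↥(S : Subgroup G) ⧸ Z') :=
      (E.subgroupOf (S : Subgroup G)).map (QuotientGroup.mk' Z')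
    haveI hNn : Nbar.Normal := hE'n.map (QuotientGroup.mk' Z') (QuotientGroup.mk'_surjective Z')
    have hNne : Nbar ≠ ⊥ := by
      intro h0
      have hle : E.subgroupOf (S : Subgroup G) ≤ Z' := by
        have := (Subgroup.map_eq_bot_iff _).1 h0
        rwa [QuotientGroup.ker_mk'] at this
      have h1 := Subgroup.card_le_of_le hle
      have h2 : Nat.card Z' ≤ 2 := by
        rw [Nat.card_zpowers]
        exact orderOf_le_of_pow_eq_one (by norm_num) hz'2
      omega
    have hq0 := Cfsg.Agent.Lib.helper28.normal_inf_center_ne_bot Nbar hNne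
    obtain ⟨⟨q, hqmem⟩, hqne⟩ := Subgroup.ne_bot_iff_exists_ne_one.1 hq0
    obtain ⟨a', ha'E, ha'q⟩ := (Subgroup.mem_inf.1 hqmem).1
    have hqcen := Subgroup.mem_center_iff.1 (Subgroup.mem_inf.1 hqmem).2
    have ha'Z : a' ∉ Z' := by
      intro hh
      apply hqne
      apply Subtype.ext
      show q = 1
      rw [← ha'q]
      exact (QuotientGroup.eq_one_iff a').2 hh
    have ha'c : ∀ s : ↥(S : Subgroup G), s * a' = a' * s ∨ s * a' = a' * s * z' := by
      intro s
      have h1 : (QuotientGroup.mk' Z') s * q = q * (QuotientGroup.mk' Z') s := hqcen _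
      rw [← ha'q, ← map_mul, ← map_mul] at h1
      have h2 : ((a' * s : ↥(S : Subgroup G)) : ↥(S : Subgroup G) ⧸ Z') =
          ((s * a' : ↥(S : Subgroup G)) : ↥(S : Subgroup G) ⧸ Z') := h1.symm
      have h3 : (a' * s)⁻¹ * (s * a') ∈ Z' := QuotientGroup.eq.1 h2
      rcases hZ'mem _ h3 with h4 | h4
      · left
        calc s * a' = (a' * s) * ((a' * s)⁻¹ * (s * a')) := by group
          _ = a' * s := by rw [h4, mul_one]
      · right
        calc s * a' = (a' * s) * ((a' * s)⁻¹ * (s * a')) := by group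
          _ = a' * s * z' := by rw [h4]
    have haE : (a' : G) ∈ E := Subgroup.mem_subgroupOf.1 ha'E
    have haS : (a' : G) ∈ (S : Subgroup G) := a'.2
    have ha1 : (a' : G) ≠ 1 := by
      intro h0
      apply ha'Z
      have : a' = 1 := Subtype.ext h0
      rw [this]; exact Z'.one_mem
    have haz : (a' : G) ≠ (z' : G) := by
      intro h0
      apply ha'Z
      have : a' = z' := Subtype.ext h0
      rw [this]; exact Subgroup.mem_zpowers z'
    have ha2 : (a' : G) * (a' : G) = 1 := by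
      have := ((hE_mem _).1 haE).2; rwa [pow_two] at this
    have hac : ∀ s ∈ (S : Subgroup G),
        s * (a' : G) = (a' : G) * s ∨ s * (a' : G) = (a' : G) * s * (z' : G) := by
      intro s hs
      rcases ha'c ⟨s, hs⟩ with h0 | h0
      · left; exact congrArg Subtype.val h0
      · right; exact congrArg Subtype.val h0
    have hidx_a := card_le_two_mul_centralizer (S : Subgroup G) (a' : G) (z' : G) hz2 hz1 hzc hac
    -- fixed points of involutions with centralizer of index at most two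
    have hfix : ∀ e ∈ (S : Subgroup G), e ≠ 1 → e * e = 1 →
        Nat.card (S : Subgroup G) ≤
          2 * Nat.card ↥((S : Subgroup G) ⊓ Subgroup.centralizer ({e} : Set G)) →
        ∀ x ∈ X, e * x = x * e → x = 1 := by
      intro e heS he1 he2 hcard x hx hex
      have hord : orderOf e = 2 := orderOf_eq_prime (by rw [pow_two]; exact he2) he1
      obtain ⟨M, hCM, hM⟩ := exists_M h e hord
      have hTY : (S : Subgroup G) ⊓ Subgroup.centralizer ({e} : Set G) ≤
          Subgroup.normalizer ((X ⊓ Subgroup.centralizer ({e} : Set G) : Subgroup G) : Set G) := by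
        intro s hs
        have hsS := (Subgroup.mem_inf.1 hs).1
        have hsX := Subgroup.mem_normalizer_iff.1 (hSX hsS)
        have hse : Commute s e := (mem_cent_single.1 (Subgroup.mem_inf.1 hs).2).symm
        rw [Subgroup.mem_normalizer_iff]
        intro y
        rw [Subgroup.mem_inf, Subgroup.mem_inf, mem_cent_single, mem_cent_single]
        constructor
        · rintro ⟨hyX, hyC⟩
          have hye : Commute y e := hyC.symm
          exact ⟨(hsX y).1 hyX, (((hse.mul_left hye).mul_left hse.inv_left).eq).symm⟩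
        · rintro ⟨hyX, hyC⟩
          have hc : Commute (s * y * s⁻¹) e := hyC.symm
          refine ⟨(hsX y).2 hyX, ?_⟩
          have e1 : y = s⁻¹ * (s * y * s⁻¹) * s := by group
          rw [e1]
          exact (((hse.inv_left.mul_left hc).mul_left hse).eq).symm
      have hbot := key S M ((S : Subgroup G) ⊓ Subgroup.centralizer ({e} : Set G))
        (X ⊓ Subgroup.centralizer ({e} : Set G)) hM (inf_le_right.trans hCM) inf_le_left hcard
        (inf_le_right.trans hCM) (Odd.of_dvd_nat hXodd (Subgroup.card_dvd_of_le inf_le_left)) hTY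
      have hxm : x ∈ X ⊓ Subgroup.centralizer ({e} : Set G) :=
        Subgroup.mem_inf.2 ⟨hx, mem_cent_single.2 hex⟩
      rw [hbot] at hxm
      exact Subgroup.mem_bot.1 hxm
    have hazS : (a' : G) * (z' : G) ∈ (S : Subgroup G) := (S : Subgroup G).mul_mem haS hzS
    have haz1 : (a' : G) * (z' : G) ≠ 1 := by
      intro h0
      apply haz
      calc (a' : G) = (a' : G) * (z' : G) * (z' : G) := by rw [mul_assoc, hz2, mul_one]
        _ = (z' : G) := by rw [h0, one_mul]
    have haz2 : (a' : G) * (z' : G) * ((a' : G) * (z' : G)) = 1 := by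
      calc (a' : G) * (z' : G) * ((a' : G) * (z' : G))
          = (a' : G) * ((z' : G) * (a' : G)) * (z' : G) := by group
        _ = (a' : G) * ((a' : G) * (z' : G)) * (z' : G) := by rw [hzc _ haS]
        _ = ((a' : G) * (a' : G)) * ((z' : G) * (z' : G)) := by group
        _ = 1 := by rw [ha2, hz2, one_mul]
    have hfz := hfix (z' : G) hzS hz1 hz2 (by
      have hle : (S : Subgroup G) ≤
          (S : Subgroup G) ⊓ Subgroup.centralizer ({(z' : G)} : Set G) :=
        le_inf le_rfl (fun s hs => mem_cent_single.2 (hzc s hs).symm)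
      have := Subgroup.card_le_of_le hle
      omega)
    have hfa := hfix (a' : G) haS ha1 ha2 hidx_a
    have hfaz := hfix ((a' : G) * (z' : G)) hazS haz1 haz2 (by
      have hle : (S : Subgroup G) ⊓ Subgroup.centralizer ({(a' : G)} : Set G) ≤
          (S : Subgroup G) ⊓ Subgroup.centralizer ({(a' : G) * (z' : G)} : Set G) := by
        intro s hs
        have hsS := (Subgroup.mem_inf.1 hs).1
        have hsa : (a' : G) * s = s * (a' : G) := mem_cent_single.1 (Subgroup.mem_inf.1 hs).2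
        refine Subgroup.mem_inf.2 ⟨hsS, mem_cent_single.2 ?_⟩
        calc (a' : G) * (z' : G) * s = (a' : G) * ((z' : G) * s) := by group
          _ = (a' : G) * (s * (z' : G)) := by rw [hzc s hsS]
          _ = ((a' : G) * s) * (z' : G) := by group
          _ = (s * (a' : G)) * (z' : G) := by rw [hsa]
          _ = s * ((a' : G) * (z' : G)) := by group
      have := Subgroup.card_le_of_le hle
      omega)
    have iz := inverts_of_fpf X (z' : G) hz2 (hSX hzS) hfz
    have ia := inverts_of_fpf X (a' : G) ha2 (hSX haS) hfa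
    have iaz := inverts_of_fpf X ((a' : G) * (z' : G)) haz2 (hSX hazS) hfaz
    rw [Subgroup.eq_bot_iff_forall]
    intro x hx
    have h1 : (a' : G) * (z' : G) * x * ((a' : G) * (z' : G))⁻¹ = x⁻¹ := iaz x hx
    have h2 : (a' : G) * (z' : G) * x * ((a' : G) * (z' : G))⁻¹ = x := by
      calc (a' : G) * (z' : G) * x * ((a' : G) * (z' : G))⁻¹
          = (a' : G) * ((z' : G) * x * (z' : G)⁻¹) * (a' : G)⁻¹ := by group
        _ = (a' : G) * x⁻¹ * (a' : G)⁻¹ := by rw [iz x hx]
        _ = x⁻¹⁻¹ := ia x⁻¹ (X.inv_mem hx)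
        _ = x := inv_inv x
    have h3 : x⁻¹ = x := h1.symm.trans h2
    have h4 : x ^ 2 = 1 := by
      rw [pow_two]
      calc x * x = x⁻¹ * x := by rw [h3]
        _ = 1 := inv_mul_cancel x
    exact eq_one_of_sq_of_odd hXodd hx h4
  · intro T hT2 hTne
    rcases h with h | h
    · have hloc : Cfsg.IsTwoLocal (Subgroup.normalizer (T : Set G)) := ⟨T, hT2, hTne, rfl⟩
      obtain ⟨M, hM1, hM2⟩ :=
        Finite.exists_le_maximal (p := fun N : Subgroup G => Cfsg.IsTwoLocal N) hloc
      have hMmax : Cfsg.IsMaximalTwoLocal M :=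
        ⟨hM2.1, fun N hN hMN => le_antisymm (hM2.2 hN hMN) hMN⟩
      exact Cfsg.Agent.Lib.helper36.isPConstrained_normalizer_of_le hT2 hM1 (h M hMmax).1
    · haveI : Nontrivial ↥T := (Subgroup.nontrivial_iff_ne_bot T).2 hTne
      haveI hcn : Nontrivial ↥(Subgroup.center ↥T) := hT2.center_nontrivial
      have hc2 : IsPGroup 2 ↥(Subgroup.center ↥T) := hT2.to_subgroup _
      obtain ⟨n, hn, hcard⟩ := (hc2.nontrivial_iff_card).1 hcn
      have hdvd : 2 ∣ Nat.card ↥(Subgroup.center ↥T) := by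
        rw [hcard]; exact dvd_pow_self 2 (by omega)
      obtain ⟨x, hx⟩ := exists_prime_orderOf_dvd_card' 2 hdvd
      have hz2 : orderOf ((x : ↥T) : G) = 2 := by
        rw [Subgroup.orderOf_coe, Subgroup.orderOf_coe]; exact hx
      refine Cfsg.Agent.Lib.helper36.isPConstrained_normalizer_of_centralizer hT2 (x : ↥T).2 ?_
        (h _ hz2).1
      intro t ht
      rw [mem_cent_single]
      have := Subgroup.mem_center_iff.1 x.2 ⟨t, ht⟩
      exact (congrArg Subtype.val this).symm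

end Cfsg.Agent.S3246
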