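import Cfsg.Statements.S3247
-- import your own Cfsg.Agent.* helpers here
import Cfsg.Agent.Lib.helper36.PConstr

set_option autoImplicit false
open Cfsg

namespace Cfsg.Agent.S3247

/-- Let G be a finite group and p a prime; here a p-local subgroup means the normalizer of a nontrivial p-subgroup, other than G itself. If every p-local subgroup of G that is maximal among p-local subgroups is p-constrained, or if the centralizer of every element of order p of G is p-constrained, then every p-local subgroup of G is p-constrained. -/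
theorem result {G : Type*} [Group G] [Finite G] (p : ℕ) [hp : Fact p.Prime]
    (h : (∀ M : Subgroup G, (∃ T : Subgroup G, IsPGroup p ↥T ∧ T ≠ ⊥ ∧ M = Subgroup.normalizer (T : Set G)) → M ≠ ⊤ →
        (∀ M' : Subgroup G, (∃ T' : Subgroup G, IsPGroup p ↥T' ∧ T' ≠ ⊥ ∧ M' = Subgroup.normalizer (T' : Set G)) → M' ≠ ⊤ → M ≤ M' → M = M') →
        Cfsg.IsPConstrained p ↥M) ∨
      (∀ x : G, orderOf x = p → Cfsg.IsPConstrained p ↥(Subgroup.centralizer ({x} : Set G))))
    (T : Subgroup G) (hT : IsPGroup p ↥T) (hT1 : T ≠ ⊥) (hTG : Subgroup.normalizer (T : Set G) ≠ ⊤) :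
    Cfsg.IsPConstrained p ↥(Subgroup.normalizer (T : Set G)) := by
  rcases h with h | h
  · -- a maximal proper `p`-local subgroup containing `N_G(T)`
    have h0 : (fun M : Subgroup G =>
        (∃ T' : Subgroup G, IsPGroup p ↥T' ∧ T' ≠ ⊥ ∧ M = Subgroup.normalizer (T' : Set G)) ∧
          M ≠ ⊤) (Subgroup.normalizer (T : Set G)) := ⟨⟨T, hT, hT1, rfl⟩, hTG⟩
    obtain ⟨M, hNM, hMmax⟩ := Finite.exists_le_maximal (p := fun M : Subgroup G =>
      (∃ T' : Subgroup G, IsPGroup p ↥T' ∧ T' ≠ ⊥ ∧ M = Subgroup.normalizer (T' : Set G)) ∧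
        M ≠ ⊤) h0
    have hMc : Cfsg.IsPConstrained p ↥M := by
      apply h M hMmax.prop.1 hMmax.prop.2
      intro M' hM' hM'top hle
      exact le_antisymm hle (hMmax.le_of_ge ⟨hM', hM'top⟩ hle)
    exact Cfsg.Agent.Lib.helper36.isPConstrained_normalizer_of_le hT hNM hMc
  · obtain ⟨z, hzT, hzo, hzc⟩ := Cfsg.Agent.Lib.helper54.exists_central_orderOf_eq_prime hT hT1
    have hTC : T ≤ Subgroup.centralizer ({z} : Set G) := by
      intro t ht
      rw [Subgroup.mem_centralizer_iff]
      intro y hy
      rw [Set.mem_singleton_iff] at hy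
      subst hy
      exact (hzc t ht).symm
    exact Cfsg.Agent.Lib.helper36.isPConstrained_normalizer_of_centralizer hT hzT hTC (h z hzo)

end Cfsg.Agent.S3247
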