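import Cfsg.Statements.S3261
import Cfsg.Agent.Lib.helper11.D8Iso

set_option autoImplicit false
open Cfsg

namespace Cfsg.Agent.S3261

open Cfsg.Agent.Lib.helper11.D8Cent DihedralGroup Equiv

/-- A generator of order `4` of the centralizer of `(0 1)(2 3)` in `A₆`. -/
def rho0 : Perm (Fin 6) := c[0, 2, 1, 3] * c[4, 5]

/-- A non-central involution of the centralizer of `(0 1)(2 3)` in `A₆`. -/
def sig0 : Perm (Fin 6) := c[0, 1] * c[4, 5]

/-- The involution `(0 1)(2 3)`. -/
def tau0 : Perm (Fin 6) := c[0, 1] * c[2, 3]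

/-- The isomorphism of the dihedral group of order `8` onto the centralizer of `(0 1)(2 3)`. -/
def f0 : DihedralGroup 4 → Perm (Fin 6)
  | r i => rho0 ^ i.val
  | sr i => sig0 * rho0 ^ i.val

theorem f0_mul : ∀ d d' : DihedralGroup 4, f0 (d * d') = f0 d * f0 d' := by decide +kernel

theorem f0_inj : ∀ d d' : DihedralGroup 4, f0 d = f0 d' → d = d' := by decide +kernel

set_option maxRecDepth 100000 in
theorem f0_surj : ∀ p : Perm (Fin 6), Perm.sign p = 1 → p * tau0 = tau0 * p → ∃ d, f0 d = p := by
  decide +kernel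

theorem f0_sign : ∀ d : DihedralGroup 4, Perm.sign (f0 d) = 1 := by decide +kernel

theorem f0_r2 : f0 (r 2) = tau0 := by decide +kernel

theorem tau0_sign : Perm.sign tau0 = 1 := by decide +kernel

/-- `f0` as a homomorphism into `A₆`. -/
def phi0 : DihedralGroup 4 →* alternatingGroup (Fin 6) :=
  MonoidHom.mk' (fun d => ⟨f0 d, Equiv.Perm.mem_alternatingGroup.mpr (f0_sign d)⟩)
    (fun d d' => Subtype.ext (f0_mul d d'))

theorem dc0 : DC (⟨tau0, Equiv.Perm.mem_alternatingGroup.mpr tau0_sign⟩ :
    alternatingGroup (Fin 6)) phi0 where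
  inj := fun d d' h => f0_inj d d' (congrArg Subtype.val h)
  mem := fun x hx => by
    obtain ⟨d, hd⟩ := f0_surj x.1 (Equiv.Perm.mem_alternatingGroup.mp x.2)
      (congrArg Subtype.val hx)
    exact ⟨d, Subtype.ext hd⟩
  ha := Subtype.ext f0_r2

theorem cycleType_eq (σ : Perm (Fin 6)) (h2 : orderOf σ = 2) (h4 : σ.support.card = 4) :
    σ.cycleType = Multiset.replicate 2 2 := by
  have h1 : ∀ n ∈ σ.cycleType, n = 2 := by
    intro n hn
    have h3 := Equiv.Perm.dvd_of_mem_cycleType hn
    have h5 := Equiv.Perm.two_le_of_mem_cycleType hn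
    rw [h2] at h3
    have h6 := Nat.le_of_dvd (by norm_num) h3
    omega
  have h3 := Multiset.eq_replicate_card.mpr h1
  have h5 := Equiv.Perm.sum_cycleType σ
  rw [h3, Multiset.sum_replicate, h4, smul_eq_mul] at h5
  have h6 : Multiset.card σ.cycleType = 2 := by omega
  rw [h3, h6]

theorem tau0_cycleType : tau0.cycleType = Multiset.replicate 2 2 := by
  apply cycleType_eq
  · exact orderOf_eq_prime (by decide +kernel) (by decide +kernel)
  · decide +kernel

/-- The centralizer in `A₆` of an involution with four moved points is dihedral of order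
`8`. -/
theorem exists_dc (αt : ↥(alternatingGroup (Fin 6))) (hαt : orderOf αt = 2)
    (hsupp : (αt : Equiv.Perm (Fin 6)).support.card = 4) :
    ∃ φ : DihedralGroup 4 →* alternatingGroup (Fin 6), DC αt φ := by
  have h2 : orderOf (αt : Perm (Fin 6)) = 2 := by rw [Subgroup.orderOf_coe]; exact hαt
  have hct : tau0.cycleType = (αt : Perm (Fin 6)).cycleType := by
    rw [tau0_cycleType, cycleType_eq _ h2 hsupp]
  obtain ⟨c, hc⟩ := isConj_iff.mp (Equiv.Perm.isConj_iff_cycleType_eq.mpr hct)
  have h := dc0.map (MulAut.conjNormal c : alternatingGroup (Fin 6) ≃* alternatingGroup (Fin 6))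
  have e : (MulAut.conjNormal c : alternatingGroup (Fin 6) ≃* alternatingGroup (Fin 6))
      ⟨tau0, Equiv.Perm.mem_alternatingGroup.mpr tau0_sign⟩ = αt := by
    apply Subtype.ext
    rw [MulAut.conjNormal_apply]
    exact hc
  rw [e] at h
  exact ⟨_, h⟩

/-- Let α̃ be an involution of the alternating group A₆ that is a product of two disjoint transpositions (it lies in the centre of a Sylow 2-subgroup of A₆; its centralizer is dihedral of order 8). Let G be a finite group that has no subgroup of index 2 and contains an involution α, central in some Sylow 2-subgroup of G, with C_G(α) ≅ C_{A₆}(α̃). Then G is isomorphic to A₆ or to PSL₂(7). -/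
theorem result {G : Type*} [Group G] [Finite G]
    (hG : ∀ H : Subgroup G, H.index ≠ 2)
    (αt : ↥(alternatingGroup (Fin 6))) (hαt : orderOf αt = 2) (hsupp : (αt : Equiv.Perm (Fin 6)).support.card = 4)
    (α : G) (hα : orderOf α = 2) (S : Sylow 2 G) (hαS : α ∈ (S : Subgroup G)) (hαc : ∀ s ∈ (S : Subgroup G), s * α = α * s)
    (e : ↥(Subgroup.centralizer ({α} : Set G)) ≃* ↥(Subgroup.centralizer ({αt} : Set ↥(alternatingGroup (Fin 6))))) :
    Nonempty (G ≃* ↥(alternatingGroup (Fin 6))) ∨
      (∃ (F : Type) (_ : Field F) (_ : Fintype F), Fintype.card F = 7 ∧ Nonempty (G ≃* Matrix.ProjectiveSpecialLinearGroup (Fin 2) F)) := by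
  have hα1 : α ≠ 1 := by
    intro h
    rw [h, orderOf_one] at hα
    omega
  obtain ⟨φt, hφt⟩ := exists_dc αt hαt hsupp
  obtain ⟨ψ, hψ⟩ := hφt.transport hα1 e
  exact D8H.classify ⟨hψ, hψ.conj_of_transfer hG S hαc⟩

end Cfsg.Agent.S3261
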