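import Cfsg.Statements.S3265
import Cfsg.Agent.Lib.helper63.IGMain

set_option autoImplicit false
set_option linter.unusedVariables false
open Cfsg

namespace Cfsg.Agent.S3265

open Equiv Equiv.Perm Cfsg.Agent.Lib.helper63.IG

/-- A conjugate of `t` commuting with `t` and different from `t`. -/
theorem exists_commuting_conj (n : ℕ) (hn : 5 ≤ n) (t : Equiv.Perm (Fin n)) (ht : t * t = 1)
    (ht1 : t ≠ 1) : ∃ y : Equiv.Perm (Fin n), IsConj t y ∧ y ≠ t ∧ t * y = y * t := by
  have htt : ∀ a, t (t a) = a := fun a => invo_apply ht a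
  obtain ⟨i, hi⟩ : ∃ i, t i ≠ i := by
    by_contra hcon
    push Not at hcon
    exact ht1 (Equiv.ext hcon)
  obtain ⟨j, hj⟩ : ∃ j, j = t i := ⟨_, rfl⟩
  have hji : j ≠ i := hj ▸ hi
  have htj : t j = i := by rw [hj, htt]
  have hti : t i = j := hj.symm
  by_cases hcase : ∃ k, k ≠ i ∧ k ≠ j ∧ t k ≠ k
  · obtain ⟨k, hki, hkj, hk⟩ := hcase
    obtain ⟨l, hl⟩ : ∃ l, l = t k := ⟨_, rfl⟩
    have htk : t k = l := hl.symm
    have htl : t l = k := by rw [hl, htt]
    have hlk : l ≠ k := hl ▸ hk
    have hli : l ≠ i := by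
      intro h
      apply hkj
      rw [← htl, h, hti]
    have hlj : l ≠ j := by
      intro h
      apply hki
      rw [← htl, h, htj]
    have hs : ∀ q, q ≠ j → q ≠ k → swap j k q = q := fun q h1 h2 =>
      swap_apply_of_ne_of_ne h1 h2
    have hsi : swap j k i = i := hs i hji.symm hki.symm
    have hsl : swap j k l = l := hs l hlj hlk
    have hsj : swap j k j = k := swap_apply_left j k
    have hsk : swap j k k = j := swap_apply_right j k
    refine ⟨swap j k * t * swap j k, conj_swap_isConj t j k, ?_, ?_⟩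
    · intro h
      have h1 := congrArg (fun f : Equiv.Perm (Fin n) => f i) h
      simp only [Perm.mul_apply, hsi, hti, hsj] at h1
      exact hkj h1
    · ext p
      simp only [Perm.mul_apply]
      by_cases h1 : p = i
      · rw [h1, hsi, hti, hsj, htk, hsl]
      by_cases h2 : p = j
      · rw [h2, hsj, htk, hsl, htl, htj, hsi, hti, hsj]
      by_cases h3 : p = k
      · rw [h3, hsk, htj, hsi, hti, htk, hsl, htl, hsk]
      by_cases h4 : p = l
      · rw [h4, hsl, htl, hsk, htj, hsi]
      · have hp : swap j k p = p := hs p h2 h3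
        have htp : swap j k (t p) = t p := by
          apply hs
          · intro h
            apply h1
            rw [← htt p, h, htj]
          · intro h
            apply h4
            rw [← htt p, h, htk]
        rw [hp, htp, htt, hp]
  · push Not at hcase
    have hteq : t = swap i j := by
      ext p
      by_cases h1 : p = i
      · rw [h1, hti, swap_apply_left]
      by_cases h2 : p = j
      · rw [h2, htj, swap_apply_right]
      · rw [swap_apply_of_ne_of_ne h1 h2, hcase p h1 h2]
    have hcard : 1 < ((Finset.univ : Finset (Fin n)) \ {i, j}).card := by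
      have h1 := Finset.card_sdiff_add_card_inter (Finset.univ : Finset (Fin n)) {i, j}
      have h2 : ((Finset.univ : Finset (Fin n)) ∩ {i, j}).card ≤ 2 :=
        (Finset.card_le_card Finset.inter_subset_right).trans Finset.card_le_two
      rw [Finset.card_univ, Fintype.card_fin] at h1
      omega
    obtain ⟨k, hk, l, hl, hkl⟩ := Finset.one_lt_card.1 hcard
    simp only [Finset.mem_sdiff, Finset.mem_univ, Finset.mem_insert, Finset.mem_singleton,
      true_and, not_or] at hk hl
    refine ⟨swap k l, ?_, ?_, ?_⟩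
    · rw [hteq]
      exact Equiv.Perm.isConj_swap hji.symm hkl
    · intro h
      have h1 := congrArg (fun f : Equiv.Perm (Fin n) => f i) h
      simp only [swap_apply_of_ne_of_ne (Ne.symm hk.1) (Ne.symm hl.1), hti] at h1
      exact hji h1.symm
    · rw [hteq]
      exact swap_comm_disj hk.1 hk.2 hl.1 hl.2

/-- Let n ≥ 5 and let X be a conjugacy class of involutions of the symmetric group of degree n. The graph on X joining two distinct involutions whose product has odd order is connected and has diameter exactly 2. -/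
theorem result (n : ℕ) (hn : 5 ≤ n) (t : Equiv.Perm (Fin n)) (ht : orderOf t = 2) :
    (SimpleGraph.fromRel fun x y : {x : Equiv.Perm (Fin n) // IsConj t x} =>
        Odd (orderOf (x.1 * y.1))).Connected ∧
      (SimpleGraph.fromRel fun x y : {x : Equiv.Perm (Fin n) // IsConj t x} =>
        Odd (orderOf (x.1 * y.1))).diam = 2 := by
  have ht2 : t * t = 1 := by
    rw [← pow_two, ← ht]; exact pow_orderOf_eq_one t
  have ht1 : t ≠ 1 := by
    intro h
    rw [h, orderOf_one] at ht
    exact absurd ht (by norm_num)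
  have : Nonempty {x : Equiv.Perm (Fin n) // IsConj t x} := ⟨⟨t, IsConj.refl t⟩⟩
  obtain ⟨G, hG⟩ : ∃ G : SimpleGraph {x : Equiv.Perm (Fin n) // IsConj t x},
      G = SimpleGraph.fromRel fun x y : {x : Equiv.Perm (Fin n) // IsConj t x} =>
        Odd (orderOf (x.1 * y.1)) := ⟨_, rfl⟩
  rw [← hG]
  have hadj : ∀ a b : {x : Equiv.Perm (Fin n) // IsConj t x},
      G.Adj a b ↔ a ≠ b ∧ (Odd (orderOf (a.1 * b.1)) ∨ Odd (orderOf (b.1 * a.1))) := by
    intro a b
    rw [hG, SimpleGraph.fromRel_adj]
  have hinv : ∀ a : {x : Equiv.Perm (Fin n) // IsConj t x}, a.1 * a.1 = 1 :=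
    fun a => invo_of_conj ht2 a.2
  have hmid : ∀ a b : {x : Equiv.Perm (Fin n) // IsConj t x},
      G.Reachable a b ∧ G.dist a b ≤ 2 := by
    intro a b
    obtain ⟨z, hz1, hz2, hz3⟩ := exists_mid (hinv a) (hinv b) (a.2.symm.trans b.2)
      (by rw [Fintype.card_fin]; exact hn)
    obtain ⟨c, hc⟩ : ∃ c : {x : Equiv.Perm (Fin n) // IsConj t x}, c.1 = z :=
      ⟨⟨z, a.2.trans hz1⟩, rfl⟩
    rw [← hc] at hz2 hz3
    by_cases h1 : a = c
    · by_cases h2 : c = b
      · rw [h1, h2]
        exact ⟨SimpleGraph.Reachable.refl _, by simp⟩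
      · have hcb : G.Adj c b := (hadj c b).2 ⟨h2, Or.inl hz3⟩
        rw [h1]
        refine ⟨hcb.reachable, ?_⟩
        have := SimpleGraph.dist_le (SimpleGraph.Walk.cons hcb SimpleGraph.Walk.nil)
        simp only [SimpleGraph.Walk.length_cons, SimpleGraph.Walk.length_nil] at this
        omega
    · have hac : G.Adj a c := (hadj a c).2 ⟨h1, Or.inl hz2⟩
      by_cases h2 : c = b
      · rw [← h2]
        refine ⟨hac.reachable, ?_⟩
        have := SimpleGraph.dist_le (SimpleGraph.Walk.cons hac SimpleGraph.Walk.nil)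
        simp only [SimpleGraph.Walk.length_cons, SimpleGraph.Walk.length_nil] at this
        omega
      · have hcb : G.Adj c b := (hadj c b).2 ⟨h2, Or.inl hz3⟩
        refine ⟨hac.reachable.trans hcb.reachable, ?_⟩
        have := SimpleGraph.dist_le
          (SimpleGraph.Walk.cons hac (SimpleGraph.Walk.cons hcb SimpleGraph.Walk.nil))
        simp only [SimpleGraph.Walk.length_cons, SimpleGraph.Walk.length_nil] at this
        omega
  have hconn : G.Connected := ⟨fun a b => (hmid a b).1⟩
  refine ⟨hconn, ?_⟩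
  apply le_antisymm
  · obtain ⟨u, v, huv⟩ := G.exists_dist_eq_diam
    rw [← huv]
    exact (hmid u v).2
  · obtain ⟨y, hy1, hy2, hy3⟩ := exists_commuting_conj n hn t ht2 ht1
    have hyy : y * y = 1 := invo_of_conj ht2 hy1
    have hord : orderOf (t * y) = 2 := by
      apply orderOf_eq_prime
      · rw [pow_two]
        calc t * y * (t * y) = t * (y * t) * y := by simp only [mul_assoc]
          _ = t * (t * y) * y := by rw [hy3]
          _ = (t * t) * (y * y) := by simp only [mul_assoc]
          _ = 1 := by rw [ht2, hyy, mul_one]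
      · intro h
        apply hy2
        have h1 : y = t⁻¹ := (inv_eq_of_mul_eq_one_right h).symm
        rw [h1, invo_inv ht2]
    have hne : (⟨t, IsConj.refl t⟩ : {x : Equiv.Perm (Fin n) // IsConj t x}) ≠ ⟨y, hy1⟩ := by
      intro h
      exact hy2 (congrArg Subtype.val h).symm
    have hnadj : ¬ G.Adj ⟨t, IsConj.refl t⟩ ⟨y, hy1⟩ := by
      rw [hadj]
      rintro ⟨-, h | h⟩
      · simp only [hord] at h
        exact absurd h (by decide)
      · simp only [← hy3, hord] at h
        exact absurd h (by decide)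
    have hfin : G.ediam ≠ ⊤ := SimpleGraph.connected_iff_ediam_ne_top.1 hconn
    have h1 : G.dist ⟨t, IsConj.refl t⟩ ⟨y, hy1⟩ ≤ G.diam := SimpleGraph.dist_le_diam hfin
    have h2 : G.dist ⟨t, IsConj.refl t⟩ ⟨y, hy1⟩ ≠ 0 := by
      intro h
      exact hne (hconn.dist_eq_zero_iff.1 h)
    have h3 : G.dist ⟨t, IsConj.refl t⟩ ⟨y, hy1⟩ ≠ 1 := by
      intro h
      exact hnadj (SimpleGraph.dist_eq_one_iff_adj.1 h)
    omega

end Cfsg.Agent.S3265
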