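import Cfsg.Statements.S3269
import Cfsg.Agent.S0215

set_option autoImplicit false
open Cfsg

namespace Cfsg.Agent.S3269

/-- In a generalized quaternion group every involution is the element `a n`. -/
lemma quat_invol_eq {m : ℕ} [NeZero m] (x : QuaternionGroup m) (hx : orderOf x = 2) :
    x = QuaternionGroup.a (m : ZMod (2 * m)) := by
  cases x with
  | a i =>
    have h1 : (QuaternionGroup.a i : QuaternionGroup m) ^ 2 = 1 := by
      rw [← hx]; exact pow_orderOf_eq_one _
    rw [sq, QuaternionGroup.a_mul_a, QuaternionGroup.one_def] at h1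
    have h2 : i + i = 0 := by injection h1
    have h3 : i ≠ 0 := by
      rintro rfl
      rw [← QuaternionGroup.one_def, orderOf_one] at hx
      omega
    have h4 : ((i.val + i.val : ℕ) : ZMod (2 * m)) = 0 := by
      push_cast
      rw [ZMod.natCast_zmod_val]
      exact h2
    rw [ZMod.natCast_eq_zero_iff] at h4
    have h5 : i.val < 2 * m := ZMod.val_lt i
    have h6 : i.val ≠ 0 := by
      intro h
      apply h3
      rw [← ZMod.natCast_zmod_val i, h]
      simp
    have h7 : i.val = m := by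
      obtain ⟨c, hc⟩ := h4
      have hc1 : c = 1 := by
        rcases c with _ | _ | c
        · omega
        · rfl
        · exfalso
          have : 2 * m * (c + 1 + 1) ≥ 2 * m * 2 := Nat.mul_le_mul_left _ (by omega)
          omega
      subst hc1
      omega
    congr 1
    rw [← ZMod.natCast_zmod_val i, h7]
  | xa i =>
    rw [QuaternionGroup.orderOf_xa] at hx
    omega

/-- A generalized quaternion group of order at least 8 is not commutative. -/
lemma quat_not_comm {m : ℕ} (hm : 2 ≤ m) :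
    (QuaternionGroup.a 1 : QuaternionGroup m) * QuaternionGroup.xa 0 ≠
      QuaternionGroup.xa 0 * QuaternionGroup.a 1 := by
  rw [QuaternionGroup.a_mul_xa, QuaternionGroup.xa_mul_a]
  intro h
  have h1 : (0 : ZMod (2 * m)) - 1 = 0 + 1 := by injection h
  have h2 : ((2 : ℕ) : ZMod (2 * m)) = 0 := by
    push_cast
    linear_combination -h1
  rw [ZMod.natCast_eq_zero_iff] at h2
  have := Nat.le_of_dvd (by norm_num) h2
  omega

section

variable {G : Type*} [Group G]

lemma ord_two_iff {a : G} : orderOf a = 2 ↔ a * a = 1 ∧ a ≠ 1 := by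
  have : Fact (Nat.Prime 2) := ⟨Nat.prime_two⟩
  constructor
  · intro h
    refine ⟨?_, ?_⟩
    · rw [← sq, ← h]; exact pow_orderOf_eq_one a
    · rintro rfl
      rw [orderOf_one] at h
      omega
  · rintro ⟨h1, h2⟩
    exact orderOf_eq_prime (by rw [sq]; exact h1) h2

lemma ord_conj (g x : G) : orderOf (g * x * g⁻¹) = orderOf x := by
  have := (MulAut.conj g).orderOf_eq x
  rwa [MulAut.conj_apply] at this

end

/-- Let G be a finite group whose Sylow 2-subgroup S is an internal direct product Q × R with Q generalized quaternion (of order at least 8) and R a subgroup all of whose involutions are central in R. Then G is not simple. In particular no finite simple group has a Sylow 2-subgroup that is a direct product of one or more generalized quaternion groups. -/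
theorem result {G : Type*} [Group G] [Finite G]
    (S : Sylow 2 G) (Q R : Subgroup G) (hQR : Cfsg.IsInternalDirectProduct Q R (S : Subgroup G))
    (n : ℕ) (hn : 1 ≤ n) (eQ : ↥Q ≃* QuaternionGroup (2 ^ n))
    (hR : ∀ r ∈ R, orderOf r = 2 → ∀ s ∈ R, r * s = s * r) :
    ¬ IsSimpleGroup G := by
  intro hsimple
  classical
  have hp2 : Fact (Nat.Prime 2) := ⟨Nat.prime_two⟩
  obtain ⟨hQS, hRS, hcomm, hdisj, hsup⟩ := hQR
  have hm : NeZero (2 ^ n) := ⟨by positivity⟩
  have hm2 : 2 ≤ 2 ^ n := by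
    calc 2 = 2 ^ 1 := by norm_num
      _ ≤ 2 ^ n := Nat.pow_le_pow_right (by norm_num) hn
  -- the involution of `Q`
  obtain ⟨z, hzQ, hz2, hzuniq⟩ :
      ∃ z ∈ Q, orderOf z = 2 ∧ ∀ q ∈ Q, orderOf q = 2 → q = z := by
    have hcard : Nat.card ↥Q = 4 * 2 ^ n := by
      rw [Nat.card_congr eQ.toEquiv, Nat.card_eq_fintype_card, QuaternionGroup.card]
    have h2 : 2 ∣ Nat.card ↥Q := by rw [hcard]; exact ⟨2 * 2 ^ n, by ring⟩
    obtain ⟨z, hz⟩ := exists_prime_orderOf_dvd_card' 2 h2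
    refine ⟨(z : G), z.2, by rw [Subgroup.orderOf_coe]; exact hz, ?_⟩
    intro q hq hq2
    have e1 := quat_invol_eq (eQ ⟨q, hq⟩)
      (by rw [MulEquiv.orderOf_eq, ← Subgroup.orderOf_coe]; exact hq2)
    have e2 := quat_invol_eq (eQ z) (by rw [MulEquiv.orderOf_eq]; exact hz)
    have e3 : (⟨q, hq⟩ : ↥Q) = z := eQ.injective (e1.trans e2.symm)
    exact congrArg Subtype.val e3
  -- `Q` is not commutative
  obtain ⟨q₁, hq₁, q₂, hq₂, hq₁₂⟩ : ∃ q₁ ∈ Q, ∃ q₂ ∈ Q, q₁ * q₂ ≠ q₂ * q₁ := by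
    refine ⟨(eQ.symm (QuaternionGroup.a 1) : G), SetLike.coe_mem _,
      (eQ.symm (QuaternionGroup.xa 0) : G), SetLike.coe_mem _, ?_⟩
    intro h
    have h1 : eQ.symm (QuaternionGroup.a 1) * eQ.symm (QuaternionGroup.xa 0) =
        eQ.symm (QuaternionGroup.xa 0) * eQ.symm (QuaternionGroup.a 1) := Subtype.ext h
    rw [← map_mul, ← map_mul] at h1
    exact quat_not_comm hm2 (eQ.symm.injective h1)
  have hz1 : z ≠ 1 := (ord_two_iff.mp hz2).2
  have hzz : z * z = 1 := (ord_two_iff.mp hz2).1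
  -- decomposition of the elements of `S`
  have hdec : ∀ s ∈ (S : Subgroup G), ∃ q ∈ Q, ∃ r ∈ R, s = q * r := by
    intro s hs
    rw [← hsup, Subgroup.sup_eq_closure] at hs
    induction hs using Subgroup.closure_induction with
    | mem x hx =>
      rcases hx with hx | hx
      · exact ⟨x, hx, 1, R.one_mem, (mul_one x).symm⟩
      · exact ⟨1, Q.one_mem, x, hx, (one_mul x).symm⟩
    | one => exact ⟨1, Q.one_mem, 1, R.one_mem, (mul_one 1).symm⟩
    | mul x y _ _ hx hy =>
      obtain ⟨q1, hq1, r1, hr1, rfl⟩ := hx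
      obtain ⟨q2, hq2, r2, hr2, rfl⟩ := hy
      refine ⟨q1 * q2, Q.mul_mem hq1 hq2, r1 * r2, R.mul_mem hr1 hr2, ?_⟩
      have h := hcomm q2 hq2 r1 hr1
      calc q1 * r1 * (q2 * r2) = q1 * (r1 * q2) * r2 := by group
        _ = q1 * (q2 * r1) * r2 := by rw [h]
        _ = q1 * q2 * (r1 * r2) := by group
    | inv x _ hx =>
      obtain ⟨q, hq, r, hr, rfl⟩ := hx
      refine ⟨q⁻¹, Q.inv_mem hq, r⁻¹, R.inv_mem hr, ?_⟩
      rw [mul_inv_rev]
      exact (hcomm q⁻¹ (Q.inv_mem hq) r⁻¹ (R.inv_mem hr)).symm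
  -- `Q` and `R` are normal in `S`
  have hQn : ∀ s ∈ (S : Subgroup G), ∀ q ∈ Q, s * q * s⁻¹ ∈ Q := by
    intro s hs q hq
    obtain ⟨q1, hq1, r1, hr1, rfl⟩ := hdec s hs
    have h := hcomm q hq r1 hr1
    have h1 : q1 * r1 * q * (q1 * r1)⁻¹ = q1 * q * q1⁻¹ := by
      calc q1 * r1 * q * (q1 * r1)⁻¹ = q1 * (r1 * q) * r1⁻¹ * q1⁻¹ := by group
        _ = q1 * (q * r1) * r1⁻¹ * q1⁻¹ := by rw [h]
        _ = q1 * q * q1⁻¹ := by group
    rw [h1]
    exact Q.mul_mem (Q.mul_mem hq1 hq) (Q.inv_mem hq1)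
  have hRn : ∀ s ∈ (S : Subgroup G), ∀ r ∈ R, s * r * s⁻¹ ∈ R := by
    intro s hs r hr
    obtain ⟨q1, hq1, r1, hr1, rfl⟩ := hdec s hs
    have hmem : r1 * r * r1⁻¹ ∈ R := R.mul_mem (R.mul_mem hr1 hr) (R.inv_mem hr1)
    have h := hcomm q1 hq1 _ hmem
    have h1 : q1 * r1 * r * (q1 * r1)⁻¹ = r1 * r * r1⁻¹ := by
      calc q1 * r1 * r * (q1 * r1)⁻¹ = q1 * (r1 * r * r1⁻¹) * q1⁻¹ := by group
        _ = r1 * r * r1⁻¹ * q1 * q1⁻¹ := by rw [h]
        _ = r1 * r * r1⁻¹ := by group
    rw [h1]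
    exact hmem
  -- `z` is central in `Q`
  have hzQc : ∀ q ∈ Q, q * z = z * q := by
    intro q hq
    have h1 : q * z * q⁻¹ = z :=
      hzuniq _ (Q.mul_mem (Q.mul_mem hq hzQ) (Q.inv_mem hq)) (by rw [ord_conj]; exact hz2)
    calc q * z = q * z * q⁻¹ * q := by group
      _ = z * q := by rw [h1]
  -- elements of `S` of square one are central in `S`
  have hcent : ∀ s ∈ (S : Subgroup G), s * s = 1 → ∀ t ∈ (S : Subgroup G), s * t = t * s := by
    intro s hs hss t ht
    obtain ⟨q, hq, r, hr, rfl⟩ := hdec s hs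
    obtain ⟨q', hq', r', hr', rfl⟩ := hdec t ht
    have hqr := hcomm q hq r hr
    have h0 : q * q * (r * r) = 1 := by
      calc q * q * (r * r) = q * (q * r) * r := by group
        _ = q * (r * q) * r := by rw [hqr]
        _ = (q * r) * (q * r) := by group
        _ = 1 := hss
    have h1 : q * q = (r * r)⁻¹ := eq_inv_of_mul_eq_one_left h0
    have h2 : q * q ∈ Q ⊓ R :=
      ⟨Q.mul_mem hq hq, by rw [h1]; exact R.inv_mem (R.mul_mem hr hr)⟩
    rw [hdisj, Subgroup.mem_bot] at h2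
    have h3 : r * r = 1 := by
      rw [h2, one_mul] at h0
      exact h0
    have hqc : q * q' = q' * q := by
      by_cases hq1 : q = 1
      · rw [hq1]; simp
      · have : q = z := hzuniq q hq (ord_two_iff.mpr ⟨h2, hq1⟩)
        rw [this]
        exact (hzQc q' hq').symm
    have hrc : r * r' = r' * r := by
      by_cases hr1 : r = 1
      · rw [hr1]; simp
      · exact hR r hr (ord_two_iff.mpr ⟨h3, hr1⟩) r' hr'
    have e1 := hcomm q' hq' r hr
    have e2 := hcomm q hq r' hr'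
    calc q * r * (q' * r') = q * (r * q') * r' := by group
      _ = q * (q' * r) * r' := by rw [e1]
      _ = (q * q') * (r * r') := by group
      _ = (q' * q) * (r' * r) := by rw [hqc, hrc]
      _ = q' * (q * r') * r := by group
      _ = q' * (r' * q) * r := by rw [e2]
      _ = q' * r' * (q * r) := by group
  -- powers
  have hpow : ∀ x ∈ (S : Subgroup G), x ≠ 1 → ∃ k : ℕ, orderOf (x ^ k) = 2 := by
    intro x hx hx1
    obtain ⟨k, hk⟩ := S.2 ⟨x, hx⟩
    have hk' : x ^ 2 ^ k = 1 := by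
      have := congrArg Subtype.val hk
      simpa using this
    obtain ⟨j, hj, hj'⟩ := (Nat.dvd_prime_pow Nat.prime_two).mp (orderOf_dvd_of_pow_eq_one hk')
    have hj0 : j ≠ 0 := by
      rintro rfl
      rw [pow_zero, orderOf_eq_one_iff] at hj'
      exact hx1 hj'
    refine ⟨2 ^ (j - 1), ?_⟩
    rw [orderOf_pow_of_dvd (by positivity) (by rw [hj']; exact pow_dvd_pow 2 (by omega)), hj']
    have : j = (j - 1) + 1 := by omega
    conv_lhs => rw [this, pow_succ]
    exact Nat.mul_div_cancel_left 2 (by positivity)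
  -- the key fusion lemma
  have hkey : ∀ g ∈ Subgroup.normalizer ((S : Subgroup G) : Set G),
      g * z * g⁻¹ = z ∨ g * z * g⁻¹ ∈ R := by
    intro g hg
    by_contra hcon
    rw [not_or] at hcon
    obtain ⟨hne, hnR⟩ := hcon
    have hgS : ∀ h, h ∈ (S : Subgroup G) ↔ g * h * g⁻¹ ∈ (S : Subgroup G) :=
      fun h => Subgroup.mem_normalizer_iff.mp hg h
    have hA : ∀ q ∈ Q, g * q * g⁻¹ ∈ Q → q = 1 := by
      intro q hq hmem
      by_contra hq1
      obtain ⟨k, hk⟩ := hpow q (hQS hq) hq1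
      have e1 : q ^ k = z := hzuniq _ (Q.pow_mem hq k) hk
      have e2 : (g * q * g⁻¹) ^ k = z :=
        hzuniq _ (Q.pow_mem hmem k) (by rw [conj_pow, ord_conj]; exact hk)
      apply hne
      rw [← e1, ← conj_pow, e2, e1]
    have hB : ∀ q ∈ Q, g * q * g⁻¹ ∈ R → q = 1 := by
      intro q hq hmem
      by_contra hq1
      obtain ⟨k, hk⟩ := hpow q (hQS hq) hq1
      have e1 : q ^ k = z := hzuniq _ (Q.pow_mem hq k) hk
      apply hnR
      rw [← e1, ← conj_pow]
      exact R.pow_mem hmem k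
    have hg' : ∀ s ∈ (S : Subgroup G), g⁻¹ * s * g ∈ (S : Subgroup G) := by
      intro s hs
      rw [hgS]
      have : g * (g⁻¹ * s * g) * g⁻¹ = s := by group
      rw [this]
      exact hs
    -- conjugates of elements of `Q` commute with `Q` and `R`
    have hcQ : ∀ q ∈ Q, ∀ x ∈ (S : Subgroup G),
        ∃ q' ∈ Q, g * q * g⁻¹ * x * (g * q * g⁻¹)⁻¹ * x⁻¹ = g * q' * g⁻¹ := by
      intro q hq x hx
      refine ⟨q * ((g⁻¹ * x * g) * q⁻¹ * (g⁻¹ * x * g)⁻¹),
        Q.mul_mem hq (hQn _ (hg' x hx) _ (Q.inv_mem hq)), ?_⟩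
      group
    have hyS : ∀ q ∈ Q, g * q * g⁻¹ ∈ (S : Subgroup G) := fun q hq => (hgS q).mp (hQS hq)
    have hc1 : ∀ q ∈ Q, ∀ x ∈ Q, g * q * g⁻¹ * x = x * (g * q * g⁻¹) := by
      intro q hq x hx
      obtain ⟨q', hq', e⟩ := hcQ q hq x (hQS hx)
      have hmem : g * q' * g⁻¹ ∈ Q := by
        rw [← e]
        exact Q.mul_mem (hQn _ (hyS q hq) x hx) (Q.inv_mem hx)
      have h1 := hA q' hq' hmem
      rw [h1] at e
      have e' : g * q * g⁻¹ * x * (g * q * g⁻¹)⁻¹ * x⁻¹ = 1 := by rw [e]; group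
      calc g * q * g⁻¹ * x
          = (g * q * g⁻¹ * x * (g * q * g⁻¹)⁻¹ * x⁻¹) * x * (g * q * g⁻¹) := by group
        _ = x * (g * q * g⁻¹) := by rw [e', one_mul]
    have hc2 : ∀ q ∈ Q, ∀ x ∈ R, g * q * g⁻¹ * x = x * (g * q * g⁻¹) := by
      intro q hq x hx
      obtain ⟨q', hq', e⟩ := hcQ q hq x (hRS hx)
      have hmem : g * q' * g⁻¹ ∈ R := by
        rw [← e]
        exact R.mul_mem (hRn _ (hyS q hq) x hx) (R.inv_mem hx)
      have h1 := hB q' hq' hmem
      rw [h1] at e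
      have e' : g * q * g⁻¹ * x * (g * q * g⁻¹)⁻¹ * x⁻¹ = 1 := by rw [e]; group
      calc g * q * g⁻¹ * x
          = (g * q * g⁻¹ * x * (g * q * g⁻¹)⁻¹ * x⁻¹) * x * (g * q * g⁻¹) := by group
        _ = x * (g * q * g⁻¹) := by rw [e', one_mul]
    have hc3 : ∀ q ∈ Q, ∀ x ∈ (S : Subgroup G), g * q * g⁻¹ * x = x * (g * q * g⁻¹) := by
      intro q hq x hx
      obtain ⟨a, ha, b, hb, rfl⟩ := hdec x hx
      calc g * q * g⁻¹ * (a * b) = (g * q * g⁻¹ * a) * b := by group
        _ = a * (g * q * g⁻¹ * b) := by rw [hc1 q hq a ha]; group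
        _ = a * b * (g * q * g⁻¹) := by rw [hc2 q hq b hb]; group
    have h := hc3 q₁ hq₁ (g * q₂ * g⁻¹) (hyS q₂ hq₂)
    apply hq₁₂
    have h' : g * (q₁ * q₂) * g⁻¹ = g * (q₂ * q₁) * g⁻¹ := by
      calc g * (q₁ * q₂) * g⁻¹ = g * q₁ * g⁻¹ * (g * q₂ * g⁻¹) := by group
        _ = g * q₂ * g⁻¹ * (g * q₁ * g⁻¹) := h
        _ = g * (q₂ * q₁) * g⁻¹ := by group
    exact mul_left_cancel (mul_right_cancel h')
  -- the elementary abelian group of the elements of square one
  let E : Subgroup G :=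
    { carrier := {x | x ∈ (S : Subgroup G) ∧ x * x = 1}
      one_mem' := ⟨Subgroup.one_mem _, mul_one 1⟩
      mul_mem' := by
        rintro a b ⟨ha, haa⟩ ⟨hb, hbb⟩
        refine ⟨Subgroup.mul_mem _ ha hb, ?_⟩
        have h := hcent a ha haa b hb
        calc a * b * (a * b) = a * (b * a) * b := by group
          _ = a * (a * b) * b := by rw [h]
          _ = (a * a) * (b * b) := by group
          _ = 1 := by rw [haa, hbb, one_mul]
      inv_mem' := by
        rintro a ⟨ha, haa⟩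
        refine ⟨Subgroup.inv_mem _ ha, ?_⟩
        rw [← mul_inv_rev, haa, inv_one] }
  let instE : CommGroup ↥E :=
    { (inferInstance : Group ↥E) with
      mul_comm := by
        rintro ⟨a, ha, haa⟩ ⟨b, hb, hbb⟩
        exact Subtype.ext (hcent a ha haa b hb) }
  have hN : ∀ g ∈ Subgroup.normalizer ((S : Subgroup G) : Set G), ∀ x ∈ E,
      g * x * g⁻¹ ∈ E := by
    intro g hg x hx
    refine ⟨(Subgroup.mem_normalizer_iff.mp hg x).mp hx.1, ?_⟩
    calc g * x * g⁻¹ * (g * x * g⁻¹) = g * (x * x) * g⁻¹ := by group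
      _ = 1 := by rw [hx.2]; group
  have hzE : z ∈ E := ⟨hQS hzQ, hzz⟩
  have instF : Fintype ↥E := Fintype.ofFinite _
  let O : Finset ↥E := Finset.univ.filter
    (fun x => ∃ g ∈ Subgroup.normalizer ((S : Subgroup G) : Set G), g * z * g⁻¹ = (x : G))
  have hO : ∀ x : ↥E, x ∈ O ↔
      ∃ g ∈ Subgroup.normalizer ((S : Subgroup G) : Set G), g * z * g⁻¹ = (x : G) := by
    intro x
    simp [O]
  obtain ⟨e', he'⟩ : ∃ e' : ↥E, e' = ∏ x ∈ O, x := ⟨_, rfl⟩
  have hzO : (⟨z, hzE⟩ : ↥E) ∈ O := (hO _).mpr ⟨1, Subgroup.one_mem _, by simp⟩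
  have he1 : (e' : G) ≠ 1 := by
    have h1 : e' = ⟨z, hzE⟩ * ∏ x ∈ O.erase ⟨z, hzE⟩, x := by
      rw [he']
      exact (Finset.mul_prod_erase O (fun x => x) hzO).symm
    have h2 : ∏ x ∈ O.erase ⟨z, hzE⟩, x ∈ R.subgroupOf E := by
      apply Subgroup.prod_mem
      intro x hx
      rw [Finset.mem_erase] at hx
      obtain ⟨g, hg, hgx⟩ := (hO x).mp hx.2
      rcases hkey g hg with h | h
      · exact absurd (Subtype.ext (hgx.symm.trans h)) hx.1
      · rw [Subgroup.mem_subgroupOf, ← hgx]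
        exact h
    intro h
    have h3 : (e' : G) = z * ((∏ x ∈ O.erase ⟨z, hzE⟩, x : ↥E) : G) := by
      rw [h1]
      rfl
    rw [h] at h3
    have h4 : z ∈ R := by
      have : z = (((∏ x ∈ O.erase ⟨z, hzE⟩, x : ↥E) : G))⁻¹ :=
        eq_inv_of_mul_eq_one_left h3.symm
      rw [this]
      exact R.inv_mem (Subgroup.mem_subgroupOf.mp h2)
    have h5 : z ∈ Q ⊓ R := ⟨hzQ, h4⟩
    rw [hdisj, Subgroup.mem_bot] at h5
    exact hz1 h5
  -- invariance under the normalizer of `S`
  have hinv : ∀ g ∈ Subgroup.normalizer ((S : Subgroup G) : Set G),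
      g * (e' : G) * g⁻¹ = (e' : G) := by
    intro g hg
    let φ : ↥E →* ↥E :=
      { toFun := fun x => ⟨g * (x : G) * g⁻¹, hN g hg x x.2⟩
        map_one' := by
          apply Subtype.ext
          simp
        map_mul' := by
          intro a b
          apply Subtype.ext
          show g * ((a : G) * (b : G)) * g⁻¹ = g * (a : G) * g⁻¹ * (g * (b : G) * g⁻¹)
          group }
    have hφ : ∀ x : ↥E, ((φ x : ↥E) : G) = g * (x : G) * g⁻¹ := fun x => rfl
    have hφinj : Function.Injective φ := by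
      intro a b hab
      have h := congrArg Subtype.val hab
      rw [hφ, hφ] at h
      exact Subtype.ext (mul_left_cancel (mul_right_cancel h))
    have himg : O.image φ = O := by
      apply Finset.eq_of_subset_of_card_le
      · intro y hy
        rw [Finset.mem_image] at hy
        obtain ⟨x, hx, rfl⟩ := hy
        obtain ⟨g₀, hg₀, hgx⟩ := (hO x).mp hx
        refine (hO _).mpr ⟨g * g₀, Subgroup.mul_mem _ hg hg₀, ?_⟩
        rw [hφ, ← hgx]
        group
      · rw [Finset.card_image_of_injective _ hφinj]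
    have h1 : φ e' = ∏ x ∈ O, φ x := by
      rw [he']
      exact map_prod φ _ _
    have h2 : ∏ x ∈ O, φ x = ∏ x ∈ O.image φ, x :=
      (Finset.prod_image (s := O) (g := φ) (f := fun x => x)
        (fun a _ b _ h => hφinj h)).symm
    rw [himg, ← he'] at h2
    have h3 : φ e' = e' := h1.trans h2
    have h4 := congrArg Subtype.val h3
    rw [hφ] at h4
    exact h4
  -- `e` is an isolated involution
  obtain ⟨e, hee⟩ : ∃ e : G, e = (e' : G) := ⟨_, rfl⟩
  have heS : e ∈ (S : Subgroup G) := by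
    rw [hee]
    exact e'.2.1
  have hesq : e * e = 1 := by
    rw [hee]
    exact e'.2.2
  have he2 : orderOf e = 2 := ord_two_iff.mpr ⟨hesq, by rw [hee]; exact he1⟩
  have hiso : ∀ g : G, g * e * g⁻¹ ∈ (S : Subgroup G) → g * e * g⁻¹ = e := by
    intro g hg
    have hc1 : e ∈ Subgroup.centralizer ((S : Subgroup G) : Set G) := by
      rw [Subgroup.mem_centralizer_iff]
      intro t ht
      exact (hcent e heS hesq t ht).symm
    have hsq : g * e * g⁻¹ * (g * e * g⁻¹) = 1 := by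
      calc g * e * g⁻¹ * (g * e * g⁻¹) = g * (e * e) * g⁻¹ := by group
        _ = 1 := by rw [hesq]; group
    have hc2 : g⁻¹⁻¹ * e * g⁻¹ ∈ Subgroup.centralizer ((S : Subgroup G) : Set G) := by
      rw [inv_inv, Subgroup.mem_centralizer_iff]
      intro t ht
      exact (hcent _ hg hsq t ht).symm
    obtain ⟨k, hk, hk'⟩ := Sylow.conj_eq_normalizer_conj_of_mem_centralizer S e g⁻¹ hc1 hc2
    rw [inv_inv] at hk'
    rw [hk']
    have h := hinv k⁻¹ (Subgroup.inv_mem _ hk)
    rw [inv_inv, ← hee] at h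
    exact h
  obtain ⟨N, hNn, hNodd, hNc⟩ := Cfsg.Agent.S0215.result S e he2 heS hiso
  rcases hNn.eq_bot_or_eq_top with hN0 | hN0
  · subst hN0
    have hcen : e ∈ Subgroup.center G := by
      rw [Subgroup.mem_center_iff]
      intro g
      have h := hNc g
      rw [Subgroup.mem_bot] at h
      calc g * e = (e * g * e⁻¹ * g⁻¹)⁻¹ * (e * g) := by group
        _ = e * g := by rw [h]; group
    have hctop : Subgroup.center G = ⊤ := by
      rcases (inferInstance : (Subgroup.center G).Normal).eq_bot_or_eq_top with h | h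
      · rw [h, Subgroup.mem_bot] at hcen
        exact absurd hcen (by rw [hee]; exact he1)
      · exact h
    apply hq₁₂
    have h : q₂ ∈ Subgroup.center G := by
      rw [hctop]
      trivial
    exact Subgroup.mem_center_iff.mp h q₁
  · subst hN0
    have h2 : 2 ∣ Nat.card G := by
      rw [← hz2]
      exact orderOf_dvd_natCard z
    rw [Subgroup.card_top] at hNodd
    exact (Nat.not_even_iff_odd.mpr hNodd) (even_iff_two_dvd.mpr h2)

end Cfsg.Agent.S3269
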