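import Cfsg.Statements.S3278
import Mathlib
import Cfsg.Agent.Lib.helper59.KleinA5a
import Cfsg.Agent.Lib.helper59.KleinA5b
import Cfsg.Agent.Lib.helper76.KazCore
import Cfsg.Agent.Lib.helper21.PrimeTICor
import Cfsg.Agent.S0948
import Cfsg.Agent.S4479
-- import your own Cfsg.Agent.* helpers here

set_option autoImplicit false
open Cfsg

namespace Cfsg.Agent.S3278

/-- Let G be a finite simple group with an involution x such that a Sylow 2-subgroup of C_G(x) is a Klein four-group which is normal in C_G(x). Then G is isomorphic to the alternating group of degree 5 (that is, to PSL(2, 5)). -/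
theorem result {G : Type*} [Group G] [Finite G] [IsSimpleGroup G] (x : G) (hx : orderOf x = 2)
    (S₀ : Subgroup G) (hle : S₀ ≤ Subgroup.centralizer ({x} : Set G)) (hK : IsKleinFour ↥S₀)
    (hodd : ¬ 2 ∣ S₀.relIndex (Subgroup.centralizer ({x} : Set G))) (hn : (S₀.subgroupOf (Subgroup.centralizer ({x} : Set G))).Normal) :
    Nonempty (G ≃* ↥(alternatingGroup (Fin 5))) := by
  have h : Cfsg.Agent.Lib.helper59.KA5.Setting x S₀ := ⟨hx, hle, hK, hodd, hn⟩
  obtain ⟨S, hS⟩ := h.exists_sylow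
  have hcard := h.card_eq S hS
  have hnc := h.no_normal_compl S hS
  haveI : Fact (Nat.Prime 2) := ⟨Nat.prime_two⟩
  have hoddI : Odd (S : Subgroup G).index := by
    rw [← Nat.not_even_iff_odd, even_iff_two_dvd]
    exact S.not_dvd_index
  obtain ⟨hKS, hone⟩ := Cfsg.Agent.Lib.helper4.klein_of_no_normal_compl _ hoddI hcard hnc S
  obtain ⟨M, hM⟩ := Cfsg.Agent.Lib.helper76.exists_isPModular 2 Nat.prime_two
  obtain ⟨ζ₂, ζ₃, ζ₄, ε, hε, hζ₂, hζ₃, h23, h24, h34, hB, hval, -, hd3, hd4, horth⟩ :=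
    Cfsg.Agent.S0948.result M hM S hKS hone
  obtain ⟨v2, v3, v4⟩ := hval x hx
  have hζ₄ : (ζ₄ : G → ℂ) ≠ fun _ => 1 := by
    intro e
    rw [e] at v4
    norm_num at v4
  have hxS : x ∈ (S : Subgroup G) := hS ▸ h.x_mem
  have hform := Cfsg.Agent.S4479.result M hM _ hoddI hcard hnc S x hxS hx ζ₂ ζ₃ ζ₄ 1 ε (-1) hB
    ⟨hζ₂, hζ₃, hζ₄, h23, h24, h34⟩ ⟨Or.inl rfl, hε, Or.inr rfl⟩
    ⟨by rw [v2]; simp, v3, by rw [v4]; simp⟩
  have hnp : ¬ (Nat.card G).Prime := by
    rw [hcard]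
    intro hp
    have h2 : 2 ∣ 4 * (S : Subgroup G).index :=
      Dvd.intro ((2 : ℕ) * (S : Subgroup G).index) (by ring)
    have h3 := (Nat.prime_dvd_prime_iff_eq Nat.prime_two hp).mp h2
    omega
  have hx2 := Cfsg.Agent.Lib.helper21.one_lt_charDegree_of_simple hnp ζ₂ hζ₂
  have hx3 := Cfsg.Agent.Lib.helper21.one_lt_charDegree_of_simple hnp ζ₃ hζ₃
  have hx4 := Cfsg.Agent.Lib.helper21.one_lt_charDegree_of_simple hnp ζ₄ hζ₄
  have hrel : (1 : ℤ) + Cfsg.charDegree (ζ₂ : G → ℂ) + ε * Cfsg.charDegree (ζ₃ : G → ℂ)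
      - Cfsg.charDegree (ζ₄ : G → ℂ) = 0 := by
    have h1 := horth 1 (by rw [orderOf_one]; exact odd_one)
    rw [Cfsg.Agent.Lib.helper81.irr_one_eq_charDegree ζ₂,
      Cfsg.Agent.Lib.helper81.irr_one_eq_charDegree ζ₃,
      Cfsg.Agent.Lib.helper81.irr_one_eq_charDegree ζ₄] at h1
    exact_mod_cast h1
  have hcent : Subgroup.centralizer ((S : Subgroup G) : Set G) =
      Subgroup.centralizer ({x} : Set G) := by
    rw [hS]
    exact h.cent_eq.symm
  rw [hcent] at hform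
  have hN := h.card_normalizer S hS hone
  have hmul := Subgroup.card_mul_index (Subgroup.normalizer (S₀ : Set G))
  rw [hN] at hmul
  have hm := Cfsg.Agent.Lib.helper59.KA5.arith_index (Nat.card G)
    (Nat.card (Subgroup.centralizer ({x} : Set G))) (Subgroup.normalizer (S₀ : Set G)).index
    _ _ _ 1 ε (-1) rfl hε rfl hx2 hx3 hx4 hd3 hd4 hrel Nat.card_pos hmul.symm hform
  exact Cfsg.Agent.Lib.helper59.KA5.iso_A5_of_index_le h S hS hone hm

end Cfsg.Agent.S3278
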