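import Cfsg.Statements.S3279
import Cfsg.Agent.S0201
import Cfsg.Agent.Lib.helper36.ZStarLocal
import Cfsg.Agent.Lib.helper11.ZStarChar
import Cfsg.Agent.Lib.helper18.ZStar

set_option autoImplicit false
open Cfsg

namespace Cfsg.Agent.S3279

open Cfsg.Agent.Lib.helper25 Cfsg.Agent.Lib.helper18

section

variable {G : Type*} [Group G]

lemma ord_conj (g x : G) : orderOf (g * x * g⁻¹) = orderOf x := by
  have := (MulAut.conj g).orderOf_eq x
  rwa [MulAut.conj_apply] at this

/-- The "central involution" of the dihedral group generated by two involutions. -/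
noncomputable def midInv (a b : G) : G := (a * b) ^ (orderOf (a * b) / 2)

lemma midInv_spec [Finite G] {a b : G} (ha : orderOf a = 2) (hb : orderOf b = 2)
    (hnc : ¬ IsConj a b) :
    orderOf (midInv a b) = 2 ∧ Commute a (midInv a b) ∧ Commute b (midInv a b) := by
  obtain ⟨haa, ha1⟩ := orderOf_two_iff'.mp ha
  obtain ⟨hbb, hb1⟩ := orderOf_two_iff'.mp hb
  have hk0 : 0 < orderOf (a * b) := orderOf_pos _
  rcases Nat.even_or_odd' (orderOf (a * b)) with ⟨j, hj | hj⟩
  · -- even order
    have hj0 : 0 < j := by omega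
    have hmid : midInv a b = (a * b) ^ j := by
      unfold midInv
      rw [hj, Nat.mul_div_cancel_left _ (by norm_num : 0 < 2)]
    have hsq : (a * b) ^ j * (a * b) ^ j = 1 := by
      rw [← pow_add, ← two_mul, ← hj, pow_orderOf_eq_one]
    have hne : (a * b) ^ j ≠ 1 := pow_ne_one_of_lt_orderOf hj0.ne' (by omega)
    have hinv : ((a * b) ^ j)⁻¹ = (a * b) ^ j := inv_eq_of_mul_eq_one_left hsq
    rw [hmid]
    refine ⟨orderOf_two_iff'.mpr ⟨hsq, hne⟩, ?_, ?_⟩
    · have h := dih_left_mul_pow haa hbb j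
      rw [hinv] at h
      exact h
    · have h := dih_right_mul_pow haa hbb j
      rw [hinv] at h
      exact h
  · -- odd order: conjugate
    exfalso
    apply hnc
    have h := dih_odd haa hbb j
    rw [← hj, pow_orderOf_eq_one, mul_one] at h
    exact (isConj_iff.mpr ⟨((a * b) ^ j)⁻¹, h.symm⟩).symm

lemma midInv_of_commute {a b : G} (ha : orderOf a = 2) (hb : orderOf b = 2) (hab : Commute a b)
    (hne : a ≠ b) : midInv a b = a * b := by
  obtain ⟨haa, ha1⟩ := orderOf_two_iff'.mp ha
  obtain ⟨hbb, hb1⟩ := orderOf_two_iff'.mp hb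
  have h2 : orderOf (a * b) = 2 := by
    refine orderOf_two_iff'.mpr ⟨?_, ?_⟩
    · calc a * b * (a * b) = a * (b * a) * b := by group
        _ = a * (a * b) * b := by rw [hab.eq]
        _ = (a * a) * (b * b) := by group
        _ = 1 := by rw [haa, hbb, one_mul]
    · intro h
      apply hne
      have : a = b⁻¹ := eq_inv_of_mul_eq_one_left h
      rw [this, inv_eq_of_mul_eq_one_left hbb]
  unfold midInv
  rw [h2]
  simp

end

section Count

variable {G : Type*} [Group G] [Finite G]

/-- Thompson's counting argument: if the involutions of `C_G(x)` are `x`, `y`, `x * y` with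
`x * y` conjugate to `x` and `y` not conjugate to `x`, then `y` commutes with all its
conjugates. -/
lemma thompson_count (x y : G) (hx : orderOf x = 2) (hy : orderOf y = 2) (hxy : Commute x y)
    (hC : ∀ u : G, orderOf u = 2 → Commute x u → u = x ∨ u = y ∨ u = x * y)
    (hc1 : IsConj x (x * y)) (hc2 : ¬ IsConj x y) (g : G) :
    Commute y (g * y * g⁻¹) := by
  classical
  have hfin : Fintype G := Fintype.ofFinite G
  obtain ⟨hxx, hx1⟩ := orderOf_two_iff'.mp hx
  obtain ⟨hyy, hy1⟩ := orderOf_two_iff'.mp hy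
  obtain ⟨D, hD⟩ : ∃ D : Finset G, ∀ d, d ∈ D ↔ IsConj x d :=
    ⟨Finset.univ.filter (fun d => IsConj x d), by intro d; simp⟩
  obtain ⟨Y, hY⟩ : ∃ Y : Finset G, ∀ z, z ∈ Y ↔ IsConj y z :=
    ⟨Finset.univ.filter (fun z => IsConj y z), by intro z; simp⟩
  have hDo : ∀ d ∈ D, orderOf d = 2 := by
    intro d hd
    obtain ⟨c, rfl⟩ := isConj_iff.mp ((hD d).mp hd)
    rw [ord_conj]
    exact hx
  have hYo : ∀ z ∈ Y, orderOf z = 2 := by
    intro z hz
    obtain ⟨c, rfl⟩ := isConj_iff.mp ((hY z).mp hz)
    rw [ord_conj]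
    exact hy
  have hDY : ∀ d ∈ D, ∀ z ∈ Y, ¬ IsConj d z := by
    intro d hd z hz h
    exact hc2 ((((hD d).mp hd).trans h).trans ((hY z).mp hz).symm)
  have hDYne : ∀ d ∈ D, ∀ z ∈ Y, d ≠ z := by
    intro d hd z hz h
    exact hDY d hd z hz (h ▸ IsConj.refl d)
  -- the involutions commuting with a conjugate of `x`
  have hstruct : ∀ c : G, ∀ u : G, orderOf u = 2 → Commute (c * x * c⁻¹) u →
      u = c * x * c⁻¹ ∨ u = c * y * c⁻¹ ∨ u = c * (x * y) * c⁻¹ := by
    intro c u hu hcomm
    have h1 : orderOf (c⁻¹ * u * c) = 2 := by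
      have h := ord_conj c⁻¹ u
      rw [inv_inv] at h
      rw [h]
      exact hu
    have h2 : Commute x (c⁻¹ * u * c) := by
      have e : c * x * c⁻¹ * u = u * (c * x * c⁻¹) := hcomm.eq
      show x * (c⁻¹ * u * c) = c⁻¹ * u * c * x
      calc x * (c⁻¹ * u * c) = c⁻¹ * (c * x * c⁻¹ * u) * c := by group
        _ = c⁻¹ * (u * (c * x * c⁻¹)) * c := by rw [e]
        _ = c⁻¹ * u * c * x := by group
    rcases hC _ h1 h2 with h | h | h
    · left; rw [← h]; group
    · right; left; rw [← h]; group
    · right; right; rw [← h]; group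
  have hconjD : ∀ c : G, c * x * c⁻¹ ∈ D := fun c => (hD _).mpr (isConj_iff.mpr ⟨c, rfl⟩)
  have hconjD' : ∀ c : G, c * (x * y) * c⁻¹ ∈ D :=
    fun c => (hD _).mpr (hc1.trans (isConj_iff.mpr ⟨c, rfl⟩))
  have hconjY : ∀ c : G, c * y * c⁻¹ ∈ Y := fun c => (hY _).mpr (isConj_iff.mpr ⟨c, rfl⟩)
  -- an element of `Y` commuting with `c x c⁻¹` is `c y c⁻¹`
  have hK0 : ∀ c : G, ∀ z ∈ Y, Commute (c * x * c⁻¹) z → z = c * y * c⁻¹ := by
    intro c z hz hcomm
    rcases hstruct c z (hYo z hz) hcomm with h | h | h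
    · exact absurd h.symm (hDYne _ (hconjD c) z hz)
    · exact h
    · exact absurd h.symm (hDYne _ (hconjD' c) z hz)
  have hK1 : ∀ d ∈ D, ∀ z ∈ Y, ∀ z' ∈ Y, Commute d z → Commute d z' → z = z' := by
    intro d hd z hz z' hz' h h'
    obtain ⟨c, rfl⟩ := isConj_iff.mp ((hD d).mp hd)
    rw [hK0 c z hz h, hK0 c z' hz' h']
  have hK2 : ∀ d ∈ D, ∃ z ∈ Y, Commute d z := by
    intro d hd
    obtain ⟨c, rfl⟩ := isConj_iff.mp ((hD d).mp hd)
    refine ⟨c * y * c⁻¹, hconjY c, ?_⟩
    show c * x * c⁻¹ * (c * y * c⁻¹) = c * y * c⁻¹ * (c * x * c⁻¹)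
    calc c * x * c⁻¹ * (c * y * c⁻¹) = c * (x * y) * c⁻¹ := by group
      _ = c * (y * x) * c⁻¹ := by rw [hxy.eq]
      _ = c * y * c⁻¹ * (c * x * c⁻¹) := by group
  have hK3 : ∀ z ∈ D, ∀ d ∈ D, ∀ y' ∈ Y, Commute z d → Commute z y' → d = z ∨ d = z * y' := by
    intro z hz d hd y' hy' h h'
    obtain ⟨c, rfl⟩ := isConj_iff.mp ((hD z).mp hz)
    have e1 := hK0 c y' hy' h'
    rcases hstruct c d (hDo d hd) h with h2 | h2 | h2
    · left; exact h2
    · exact absurd h2 (hDYne d hd _ (hconjY c))
    · right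
      rw [h2, e1]
      group
  -- the map `Φ`
  have hΦ : ∀ d ∈ D, ∀ y' ∈ Y, orderOf (midInv d y') = 2 ∧ Commute d (midInv d y') ∧
      Commute y' (midInv d y') := fun d hd y' hy' =>
    midInv_spec (hDo d hd) (hYo y' hy') (hDY d hd y' hy')
  have hΦDY : ∀ d ∈ D, ∀ y' ∈ Y, midInv d y' ∈ D ∨ midInv d y' ∈ Y := by
    intro d hd y' hy'
    obtain ⟨h1, h2, -⟩ := hΦ d hd y' hy'
    obtain ⟨c, rfl⟩ := isConj_iff.mp ((hD d).mp hd)
    rcases hstruct c _ h1 h2 with h | h | h
    · left; rw [h]; exact hconjD c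
    · right; rw [h]; exact hconjY c
    · left; rw [h]; exact hconjD' c
  have hΦcomm : ∀ d ∈ D, ∀ y' ∈ Y, Commute d y' → midInv d y' = d * y' := fun d hd y' hy' h =>
    midInv_of_commute (hDo d hd) (hYo y' hy') h (hDYne d hd y' hy')
  -- first count
  have hsumc : ∑ z ∈ Y, (D.filter (fun d => Commute d z)).card = D.card := by
    have h := Finset.sum_card_bipartiteAbove_eq_sum_card_bipartiteBelow
      (r := fun (d z : G) => Commute d z) (s := D) (t := Y)
    have h1 : ∀ d ∈ D, (Finset.bipartiteAbove (fun (d z : G) => Commute d z) Y d).card = 1 := by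
      intro d hd
      obtain ⟨z, hz, hdz⟩ := hK2 d hd
      rw [Finset.card_eq_one]
      refine ⟨z, ?_⟩
      ext z'
      simp only [Finset.bipartiteAbove, Finset.mem_filter, Finset.mem_singleton]
      constructor
      · rintro ⟨hz', hdz'⟩
        exact hK1 d hd z' hz' z hz hdz' hdz
      · rintro rfl
        exact ⟨hz, hdz⟩
    rw [Finset.sum_congr rfl h1] at h
    simp only [Finset.sum_const, smul_eq_mul, mul_one] at h
    rw [h]
    rfl
  -- second count
  obtain ⟨P, hP⟩ : ∃ P : Finset (G × G), P = D ×ˢ Y := ⟨_, rfl⟩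
  have hPmem : ∀ p : G × G, p ∈ P ↔ p.1 ∈ D ∧ p.2 ∈ Y := by
    intro p
    rw [hP, Finset.mem_product]
  have hPcard : P.card = D.card * Y.card := by rw [hP, Finset.card_product]
  have hsplit := Finset.card_filter_add_card_filter_not (s := P)
    (fun p : G × G => midInv p.1 p.2 ∈ D)
  have h1 : (P.filter (fun p : G × G => midInv p.1 p.2 ∈ D)).card ≤ D.card := by
    apply Finset.card_le_card_of_injOn (fun p : G × G => midInv p.1 p.2)
    · intro p hp
      exact (Finset.mem_filter.mp hp).2
    · intro p hp q hq hpq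
      simp only [Finset.coe_filter, Set.mem_ofPred_eq] at hp hq
      obtain ⟨hpP, hpD⟩ := hp
      obtain ⟨hqP, hqD⟩ := hq
      obtain ⟨hp1, hp2⟩ := (hPmem p).mp hpP
      obtain ⟨hq1, hq2⟩ := (hPmem q).mp hqP
      have hpq' : midInv p.1 p.2 = midInv q.1 q.2 := hpq
      obtain ⟨-, hpc1, hpc2⟩ := hΦ p.1 hp1 p.2 hp2
      obtain ⟨-, hqc1, hqc2⟩ := hΦ q.1 hq1 q.2 hq2
      rw [← hpq'] at hqc1 hqc2
      have key : ∀ d ∈ D, ∀ y' ∈ Y, midInv d y' ∈ D → d = midInv d y' * y' := by
        intro d hd y' hy' hz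
        obtain ⟨-, hc1', hc2'⟩ := hΦ d hd y' hy'
        rcases hK3 _ hz d hd y' hy' hc1'.symm hc2'.symm with h | h
        · exfalso
          have hcomm : Commute d y' := by rw [h]; exact hc2'.symm
          have h3 := hΦcomm d hd y' hy' hcomm
          have h4 : d * y' = d := by rw [← h3]; exact h.symm
          have h5 : y' = 1 := by
            have := mul_left_cancel (h4.trans (mul_one d).symm)
            exact this
          exact (orderOf_two_iff'.mp (hYo y' hy')).2 h5
        · exact h
      have e2 : p.2 = q.2 := hK1 _ hpD p.2 hp2 q.2 hq2 hpc2.symm hqc2.symm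
      have e1 : p.1 = q.1 := by
        rw [key p.1 hp1 p.2 hp2 hpD, key q.1 hq1 q.2 hq2 hqD, hpq', e2]
      exact Prod.ext e1 e2
  have h2 : (P.filter (fun p : G × G => ¬ midInv p.1 p.2 ∈ D)).card ≤
      ∑ z ∈ Y, (D.filter (fun d => Commute d z)).card *
        ((Y.filter (fun y' => Commute y' z)).card - 1) := by
    have hmaps : Set.MapsTo (fun p : G × G => midInv p.1 p.2)
        (P.filter (fun p : G × G => ¬ midInv p.1 p.2 ∈ D) : Set (G × G)) (Y : Set G) := by
      intro p hp
      simp only [Finset.coe_filter, Set.mem_ofPred_eq] at hp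
      obtain ⟨hp1, hp2⟩ := (hPmem p).mp hp.1
      rcases hΦDY p.1 hp1 p.2 hp2 with h | h
      · exact absurd h hp.2
      · exact h
    rw [Finset.card_eq_sum_card_fiberwise hmaps]
    apply Finset.sum_le_sum
    intro z hz
    have hsub : (P.filter (fun p : G × G => ¬ midInv p.1 p.2 ∈ D)).filter
        (fun p : G × G => midInv p.1 p.2 = z) ⊆
        (D.filter (fun d => Commute d z)) ×ˢ ((Y.filter (fun y' => Commute y' z)).erase z) := by
      intro p hp
      simp only [Finset.mem_filter] at hp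
      obtain ⟨⟨hpP, -⟩, hpz⟩ := hp
      obtain ⟨hp1, hp2⟩ := (hPmem p).mp hpP
      obtain ⟨-, hc1', hc2'⟩ := hΦ p.1 hp1 p.2 hp2
      rw [hpz] at hc1' hc2'
      rw [Finset.mem_product, Finset.mem_filter, Finset.mem_erase, Finset.mem_filter]
      refine ⟨⟨hp1, hc1'⟩, ?_, hp2, hc2'⟩
      intro h
      have hcomm : Commute p.1 p.2 := by rw [h]; exact hc1'
      have h3 := hΦcomm p.1 hp1 p.2 hp2 hcomm
      have h4 : p.1 * p.2 = p.2 := by rw [← h3, hpz, h]
      have h5 : p.1 = 1 := by
        have := mul_right_cancel (h4.trans (one_mul p.2).symm)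
        exact this
      exact (orderOf_two_iff'.mp (hDo p.1 hp1)).2 h5
    refine (Finset.card_le_card hsub).trans ?_
    have hzm : z ∈ Y.filter (fun y' => Commute y' z) :=
      Finset.mem_filter.mpr ⟨hz, Commute.refl z⟩
    rw [Finset.card_product, Finset.card_erase_of_mem hzm]
  -- conclusion
  by_contra hcon
  have hyY : y ∈ Y := (hY y).mpr (IsConj.refl y)
  have hxD : x ∈ D := (hD x).mpr (IsConj.refl x)
  have hlt : (Y.filter (fun y' => Commute y' y)).card < Y.card := by
    apply Finset.card_lt_card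
    rw [Finset.filter_ssubset]
    exact ⟨g * y * g⁻¹, hconjY g, fun h => hcon h.symm⟩
  have hpos : 0 < (Y.filter (fun y' => Commute y' y)).card :=
    Finset.card_pos.mpr ⟨y, Finset.mem_filter.mpr ⟨hyY, Commute.refl y⟩⟩
  have hcpos : 0 < (D.filter (fun d => Commute d y)).card :=
    Finset.card_pos.mpr ⟨x, Finset.mem_filter.mpr ⟨hxD, hxy⟩⟩
  have hsumlt : ∑ z ∈ Y, (D.filter (fun d => Commute d z)).card *
      ((Y.filter (fun y' => Commute y' z)).card - 1) <
      ∑ z ∈ Y, (D.filter (fun d => Commute d z)).card * (Y.card - 1) := by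
    apply Finset.sum_lt_sum
    · intro z hz
      apply Nat.mul_le_mul_left
      have := Finset.card_le_card (Finset.filter_subset (fun y' => Commute y' z) Y)
      omega
    · refine ⟨y, hyY, ?_⟩
      apply Nat.mul_lt_mul_of_pos_left
      · omega
      · exact hcpos
  rw [← Finset.sum_mul, hsumc] at hsumlt
  obtain ⟨k, hk⟩ : ∃ k, Y.card = k + 1 := ⟨Y.card - 1, by omega⟩
  rw [hk] at hsumlt hPcard
  have hfinal : D.card * (k + 1) < D.card + D.card * (k + 1 - 1) := by
    calc D.card * (k + 1) = P.card := hPcard.symm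
      _ = _ := hsplit.symm
      _ ≤ D.card + _ := Nat.add_le_add h1 h2
      _ < D.card + D.card * (k + 1 - 1) := Nat.add_lt_add_left hsumlt _
  have : D.card * (k + 1) = D.card + D.card * (k + 1 - 1) := by
    rw [Nat.add_sub_cancel]
    ring
  omega

end Count

section Simple

variable {G : Type*} [Group G]

/-- In a simple group, an element commuting with all its conjugates forces commutativity. -/
lemma comm_of_class_commute [IsSimpleGroup G] (y : G) (hy1 : y ≠ 1)
    (h : ∀ g : G, Commute y (g * y * g⁻¹)) : ∀ a b : G, a * b = b * a := by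
  have hN : Subgroup.normalClosure ({y} : Set G) = ⊤ := by
    rcases (Subgroup.normalClosure_normal (s := ({y} : Set G))).eq_bot_or_eq_top with h0 | h0
    · exfalso
      have hmem : y ∈ Subgroup.normalClosure ({y} : Set G) :=
        Subgroup.subset_normalClosure (Set.mem_singleton y)
      rw [h0, Subgroup.mem_bot] at hmem
      exact hy1 hmem
    · exact h0
  have hle : Subgroup.normalClosure ({y} : Set G) ≤ Subgroup.centralizer ({y} : Set G) := by
    unfold Subgroup.normalClosure
    rw [Subgroup.closure_le]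
    intro u hu
    rw [Group.mem_conjugatesOfSet_iff] at hu
    obtain ⟨b, hb, hbu⟩ := hu
    rw [Set.mem_singleton_iff] at hb
    subst hb
    obtain ⟨c, rfl⟩ := isConj_iff.mp hbu
    rw [SetLike.mem_coe, Subgroup.mem_centralizer_singleton_iff]
    exact (h c).eq.symm
  have hcen : y ∈ Subgroup.center G := by
    rw [Subgroup.mem_center_iff]
    intro g
    have hg : g ∈ Subgroup.centralizer ({y} : Set G) := hle (by rw [hN]; trivial)
    exact Subgroup.mem_centralizer_singleton_iff.mp hg
  have hctop : Subgroup.center G = ⊤ := by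
    rcases (inferInstance : (Subgroup.center G).Normal).eq_bot_or_eq_top with h0 | h0
    · rw [h0, Subgroup.mem_bot] at hcen
      exact absurd hcen hy1
    · exact h0
  intro a b
  have hb : b ∈ Subgroup.center G := by rw [hctop]; trivial
  exact Subgroup.mem_center_iff.mp hb a

/-- A simple group with an isolated involution is commutative (Glauberman's `Z*`-theorem). -/
lemma comm_of_isolated [Finite G] [IsSimpleGroup G] (x : G) (hiso : Cfsg.IsIsolatedInvolution x) :
    ∀ a b : G, a * b = b * a := by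
  obtain ⟨N, hNn, hNodd, hNc⟩ := zstar_isolated_of_hyps
    (fun G _ _ S n e hO => Cfsg.Agent.S0201.result S n e hO)
    (fun G _ _ IH hZ t ht u hu hut hne M hM χ hχ x y hx hy =>
      Cfsg.Agent.Lib.helper36.zstar_local IH hZ t ht u hu hut hne M hM χ hχ x y hx hy)
    (fun G _ _ t u ht hu hut hne hnc hgen M hM h1 h2 =>
      Cfsg.Agent.Lib.helper11.zstar_char t u ht hu hut hne hnc hgen M hM h1 h2)
    x hiso
  have hx1 : x ≠ 1 := (orderOf_two_iff'.mp hiso.1).2
  rcases hNn.eq_bot_or_eq_top with hN0 | hN0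
  · subst hN0
    apply comm_of_class_commute x hx1
    intro g
    have hxg : ∀ k : G, x * k = k * x := by
      intro k
      have h := hNc k
      rw [Subgroup.mem_bot] at h
      calc x * k = (x * k * x⁻¹ * k⁻¹) * (k * x) := by group
        _ = k * x := by rw [h, one_mul]
    exact hxg _
  · subst hN0
    exfalso
    have h2 : 2 ∣ Nat.card G := by
      rw [← hiso.1]
      exact orderOf_dvd_natCard x
    rw [Subgroup.card_top] at hNodd
    exact (Nat.not_even_iff_odd.mpr hNodd) (even_iff_two_dvd.mpr h2)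

/-- If the centralizer of the involution `x` has at most three involutions and `a ≠ x` is one
of them, then they are `x`, `a`, `x * a`. -/
lemma invol_cases [Finite G] (x : G) (hx : orderOf x = 2)
    (h3 : Nat.card {u : ↥(Subgroup.centralizer ({x} : Set G)) // orderOf u = 2} ≤ 3)
    (a : G) (ha : orderOf a = 2) (hxa : Commute x a) (hne : a ≠ x)
    (u : G) (hu : orderOf u = 2) (hxu : Commute x u) : u = x ∨ u = a ∨ u = x * a := by
  classical
  obtain ⟨hxx, hx1⟩ := orderOf_two_iff'.mp hx
  obtain ⟨haa, ha1⟩ := orderOf_two_iff'.mp ha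
  have hmem : ∀ v : G, Commute x v → v ∈ Subgroup.centralizer ({x} : Set G) := by
    intro v hv
    rw [Subgroup.mem_centralizer_singleton_iff]
    exact hv.eq.symm
  have hxa2 : orderOf (x * a) = 2 := by
    refine orderOf_two_iff'.mpr ⟨?_, ?_⟩
    · calc x * a * (x * a) = x * (a * x) * a := by group
        _ = x * (x * a) * a := by rw [hxa.eq]
        _ = (x * x) * (a * a) := by group
        _ = 1 := by rw [hxx, haa, one_mul]
    · intro h
      apply hne
      have h' : x = a⁻¹ := eq_inv_of_mul_eq_one_left h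
      rw [h', inv_eq_of_mul_eq_one_left haa]
  have hxxa : Commute x (x * a) := (Commute.refl x).mul_right hxa
  let T := {u : ↥(Subgroup.centralizer ({x} : Set G)) // orderOf u = 2}
  have hfin : Fintype T := Fintype.ofFinite T
  let mk : ∀ v : G, orderOf v = 2 → Commute x v → T := fun v hv hxv =>
    ⟨⟨v, hmem v hxv⟩, by rw [← Subgroup.orderOf_coe]; exact hv⟩
  let val : T → G := fun t => ((t.1 : ↥(Subgroup.centralizer ({x} : Set G))) : G)
  let t₁ : T := mk x hx (Commute.refl x)
  let t₂ : T := mk a ha hxa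
  let t₃ : T := mk (x * a) hxa2 hxxa
  have h12 : t₁ ≠ t₂ := by
    intro h
    have h' : x = a := congrArg val h
    exact hne h'.symm
  have h13 : t₁ ≠ t₃ := by
    intro h
    have h' : x = x * a := congrArg val h
    exact ha1 (mul_left_cancel ((mul_one x).trans h')).symm
  have h23 : t₂ ≠ t₃ := by
    intro h
    have h' : a = x * a := congrArg val h
    exact hx1 (mul_right_cancel ((one_mul a).trans h')).symm
  have hcard3 : ({t₁, t₂, t₃} : Finset T).card = 3 :=
    Finset.card_eq_three.mpr ⟨t₁, t₂, t₃, h12, h13, h23, rfl⟩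
  have hle : Fintype.card T ≤ 3 := by
    rw [← Nat.card_eq_fintype_card]
    exact h3
  have huniv : ({t₁, t₂, t₃} : Finset T) = Finset.univ := by
    apply Finset.eq_univ_of_card
    have := Finset.card_le_univ ({t₁, t₂, t₃} : Finset T)
    omega
  have hin : mk u hu hxu ∈ ({t₁, t₂, t₃} : Finset T) := by
    rw [huniv]
    exact Finset.mem_univ _
  rw [Finset.mem_insert, Finset.mem_insert, Finset.mem_singleton] at hin
  rcases hin with h | h | h
  · left; exact congrArg val h
  · right; left; exact congrArg val h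
  · right; right; exact congrArg val h

/-- The key dichotomy: a non-conjugate involution in the centralizer forces commutativity. -/
lemma comm_of_nonconj [Finite G] [IsSimpleGroup G] (x : G) (hx : orderOf x = 2)
    (h3 : Nat.card {u : ↥(Subgroup.centralizer ({x} : Set G)) // orderOf u = 2} ≤ 3)
    (a : G) (ha : orderOf a = 2) (hxa : Commute x a) (hne : a ≠ x) (hnc : ¬ IsConj x a) :
    ∀ b c : G, b * c = c * b := by
  have hC := invol_cases x hx h3 a ha hxa hne
  by_cases hc1 : IsConj x (x * a)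
  · exact comm_of_class_commute a (orderOf_two_iff'.mp ha).2
      (thompson_count x a hx ha hxa hC hc1 hnc)
  · apply comm_of_isolated x
    refine ⟨hx, ?_⟩
    intro g hcomm
    have ho : orderOf (g * x * g⁻¹) = 2 := by rw [ord_conj]; exact hx
    rcases hC _ ho hcomm with h | h | h
    · exact h
    · exact absurd (h ▸ isConj_iff.mpr ⟨g, rfl⟩) hnc
    · exact absurd (h ▸ isConj_iff.mpr ⟨g, rfl⟩) hc1

/-- In a commutative simple group any two involutions coincide. -/
lemma invol_eq_of_comm [IsSimpleGroup G] (hcomm : ∀ b c : G, b * c = c * b) (u v : G)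
    (hu : orderOf u = 2) (hv : orderOf v = 2) : u = v := by
  obtain ⟨huu, hu1⟩ := orderOf_two_iff'.mp hu
  obtain ⟨hvv, hv1⟩ := orderOf_two_iff'.mp hv
  have hn : (Subgroup.zpowers u).Normal := by
    constructor
    intro n hn g
    have : g * n * g⁻¹ = n := by rw [hcomm g n, mul_assoc, mul_inv_cancel, mul_one]
    rw [this]
    exact hn
  have htop : Subgroup.zpowers u = ⊤ := by
    rcases hn.eq_bot_or_eq_top with h0 | h0
    · exfalso
      have : u ∈ Subgroup.zpowers u := Subgroup.mem_zpowers u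
      rw [h0, Subgroup.mem_bot] at this
      exact hu1 this
    · exact h0
  have hvmem : v ∈ Subgroup.zpowers u := by rw [htop]; trivial
  rw [Subgroup.mem_zpowers_iff] at hvmem
  obtain ⟨k, hk⟩ := hvmem
  rcases Int.even_or_odd' k with ⟨j, hj | hj⟩
  · exfalso
    apply hv1
    rw [← hk, hj, zpow_mul, zpow_two, huu, one_zpow]
  · rw [← hk, hj, zpow_add, zpow_mul, zpow_two, huu, one_zpow, one_mul, zpow_one]

end Simple

/-- Let G be a finite simple group and x an involution of G whose centralizer contains at most three involutions. Then C_G(x) contains a Sylow 2-subgroup of G, and all involutions of G are conjugate. -/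
theorem result {G : Type*} [Group G] [Finite G] [IsSimpleGroup G] (x : G) (hx : orderOf x = 2)
    (h3 : Nat.card {u : ↥(Subgroup.centralizer ({x} : Set G)) // orderOf u = 2} ≤ 3) :
    (∃ S : Sylow 2 G, (S : Subgroup G) ≤ Subgroup.centralizer ({x} : Set G)) ∧
      ∀ u v : G, orderOf u = 2 → orderOf v = 2 → IsConj u v := by
  classical
  have hp2 : Fact (Nat.Prime 2) := ⟨Nat.prime_two⟩
  obtain ⟨hxx, hx1⟩ := orderOf_two_iff'.mp hx
  -- the centralizer of `x` contains a Sylow 2-subgroup
  have hA : ∃ S : Sylow 2 G, (S : Subgroup G) ≤ Subgroup.centralizer ({x} : Set G) := by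
    have hpg : IsPGroup 2 (Subgroup.zpowers x) :=
      IsPGroup.of_card (n := 1) (by rw [Nat.card_zpowers, hx, pow_one])
    obtain ⟨S, hS⟩ := hpg.exists_le_sylow
    have hxS : x ∈ (S : Subgroup G) := hS (Subgroup.mem_zpowers x)
    have hnt : Nontrivial (S : Subgroup G) :=
      ⟨⟨⟨x, hxS⟩, 1, fun h => hx1 (congrArg Subtype.val h)⟩⟩
    have hcn : Nontrivial (Subgroup.center (S : Subgroup G)) := S.2.center_nontrivial
    have hcp : IsPGroup 2 (Subgroup.center (S : Subgroup G)) := S.2.to_subgroup _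
    obtain ⟨k, hk⟩ := hcp.exists_card_eq
    have hk0 : k ≠ 0 := by
      rintro rfl
      rw [pow_zero] at hk
      have := (Nat.card_eq_one_iff_unique.mp hk).1
      exact not_subsingleton _ this
    have h2 : 2 ∣ Nat.card (Subgroup.center (S : Subgroup G)) := by
      rw [hk]
      exact dvd_pow_self 2 hk0
    obtain ⟨z, hz⟩ := exists_prime_orderOf_dvd_card' 2 h2
    obtain ⟨z', hz'⟩ : ∃ z' : G, z' = ((z : (S : Subgroup G)) : G) := ⟨_, rfl⟩
    have hz'2 : orderOf z' = 2 := by
      rw [hz', Subgroup.orderOf_coe, Subgroup.orderOf_coe]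
      exact hz
    have hcomm : ∀ s ∈ (S : Subgroup G), s * z' = z' * s := by
      intro s hs
      have h := Subgroup.mem_center_iff.mp z.2 ⟨s, hs⟩
      have h' := congrArg Subtype.val h
      rw [hz']
      exact h'
    have hxz : Commute x z' := hcomm x hxS
    by_cases hzx : z' = x
    · refine ⟨S, ?_⟩
      intro s hs
      rw [Subgroup.mem_centralizer_singleton_iff, ← hzx]
      exact hcomm s hs
    · by_cases hconj : IsConj x z'
      · obtain ⟨c, hc⟩ := isConj_iff.mp hconj.symm
        refine ⟨c • S, ?_⟩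
        intro s hs
        rw [Sylow.coe_subgroup_smul] at hs
        obtain ⟨t, ht, rfl⟩ := (Subgroup.mem_smul_pointwise_iff_exists _ _ _).mp hs
        rw [MulAut.smul_def, MulAut.conj_apply, Subgroup.mem_centralizer_singleton_iff, ← hc]
        have h := hcomm t ht
        calc c * t * c⁻¹ * (c * z' * c⁻¹) = c * (t * z') * c⁻¹ := by group
          _ = c * (z' * t) * c⁻¹ := by rw [h]
          _ = c * z' * c⁻¹ * (c * t * c⁻¹) := by group
      · have hcm := comm_of_nonconj x hx h3 z' hz'2 hxz hzx hconj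
        refine ⟨S, ?_⟩
        intro s hs
        rw [Subgroup.mem_centralizer_singleton_iff]
        exact hcm s x
  refine ⟨hA, ?_⟩
  obtain ⟨S, hS⟩ := hA
  -- every involution is conjugate to `x`
  have key : ∀ u : G, orderOf u = 2 → IsConj x u := by
    intro u hu
    have hpg : IsPGroup 2 (Subgroup.zpowers u) :=
      IsPGroup.of_card (n := 1) (by rw [Nat.card_zpowers, hu, pow_one])
    obtain ⟨S', hS'⟩ := hpg.exists_le_sylow
    obtain ⟨c, hc⟩ := MulAction.exists_smul_eq G S' S
    have hu' : c * u * c⁻¹ ∈ (S : Subgroup G) := by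
      rw [← hc, Sylow.coe_subgroup_smul]
      have h := Subgroup.smul_mem_pointwise_smul u (MulAut.conj c) (S' : Subgroup G)
        (hS' (Subgroup.mem_zpowers u))
      rwa [MulAut.smul_def, MulAut.conj_apply] at h
    have hcu : Commute x (c * u * c⁻¹) :=
      (Subgroup.mem_centralizer_singleton_iff.mp (hS hu')).symm
    have ho : orderOf (c * u * c⁻¹) = 2 := by
      rw [ord_conj]
      exact hu
    have h1 : IsConj x (c * u * c⁻¹) := by
      by_cases he : c * u * c⁻¹ = x
      · rw [he]
      · by_contra hnc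
        have hcm := comm_of_nonconj x hx h3 _ ho hcu he hnc
        exact he (invol_eq_of_comm hcm _ _ ho hx)
    exact h1.trans (isConj_iff.mpr ⟨c, rfl⟩).symm
  intro u v hu hv
  exact (key u hu).symm.trans (key v hv)

end Cfsg.Agent.S3279
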