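import Cfsg.Statements.S3299
import Cfsg.Agent.Lib.helper97.ExtraSpSetup

set_option autoImplicit false
open Cfsg

namespace Cfsg.Agent.S3299

open Cfsg.Agent.Lib.helper97 in
/-- Let G be a finite group with no nontrivial 2-group quotient (O^2(G) = G), z an involution of G with H = C_G(z), and suppose E = O_2(H) is extraspecial with C_G(E) ≤ E and of order 2^(2n+1) with n ≥ 2. Then E is contained in every normal subgroup of H of index 2. -/
theorem result {G : Type*} [Group G] [Finite G] (hres : Cfsg.pResidual 2 G = ⊤) (z : G) (hz : orderOf z = 2)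
    (E : Subgroup G) (hE : E = (Cfsg.pCore 2 ↥(Subgroup.centralizer ({z} : Set G))).map (Subgroup.centralizer ({z} : Set G)).subtype)
    (hext : Cfsg.IsExtraspecial 2 ↥E) (hcent : Subgroup.centralizer (E : Set G) ≤ E) (n : ℕ) (hn : 2 ≤ n) (hcard : Nat.card ↥E = 2 ^ (2 * n + 1))
    (K : Subgroup G) (hKH : K ≤ Subgroup.centralizer ({z} : Set G))
    (hKn : ∀ h ∈ Subgroup.centralizer ({z} : Set G), K.map (MulAut.conj h).toMonoidHom = K)
    (hKi : K.relIndex (Subgroup.centralizer ({z} : Set G)) = 2) : E ≤ K := by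
  classical
  have hNn : (K.subgroupOf (Subgroup.centralizer ({z} : Set G))).Normal := by
    refine ⟨fun k hk h => ?_⟩
    rw [Subgroup.mem_subgroupOf] at hk ⊢
    have h1 : (MulAut.conj (h : G)).toMonoidHom (k : G) ∈ K.map (MulAut.conj (h : G)).toMonoidHom :=
      Subgroup.mem_map_of_mem _ hk
    rw [hKn _ h.2] at h1
    simpa using h1
  have hidx : (K.subgroupOf (Subgroup.centralizer ({z} : Set G))).index = 2 := hKi
  have hcardA : Nat.card (↥(Subgroup.centralizer ({z} : Set G)) ⧸
      K.subgroupOf (Subgroup.centralizer ({z} : Set G))) = 2 := hidx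
  have hfp : Fact (Nat.Prime 2) := ⟨Nat.prime_two⟩
  have hcyc : IsCyclic (↥(Subgroup.centralizer ({z} : Set G)) ⧸
      K.subgroupOf (Subgroup.centralizer ({z} : Set G))) :=
    isCyclic_of_prime_card (p := 2) hcardA
  let _ : CommGroup (↥(Subgroup.centralizer ({z} : Set G)) ⧸
      K.subgroupOf (Subgroup.centralizer ({z} : Set G))) :=
    { (inferInstance : Group (↥(Subgroup.centralizer ({z} : Set G)) ⧸
        K.subgroupOf (Subgroup.centralizer ({z} : Set G)))) with
      mul_comm := fun a b => by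
        obtain ⟨g, hg⟩ := hcyc.exists_generator
        obtain ⟨i, rfl⟩ := Subgroup.mem_zpowers_iff.mp (hg a)
        obtain ⟨j, rfl⟩ := Subgroup.mem_zpowers_iff.mp (hg b)
        exact (Commute.zpow_zpow_self g i j).eq }
  have hA : IsPGroup 2 (↥(Subgroup.centralizer ({z} : Set G)) ⧸
      K.subgroupOf (Subgroup.centralizer ({z} : Set G))) :=
    IsPGroup.of_card (n := 1) (by rw [hcardA, pow_one])
  have h8 : 8 < Nat.card ↥E := by
    rw [hcard]
    have h5 : 5 ≤ 2 * n + 1 := by omega
    calc 8 < 2 ^ 5 := by norm_num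
      _ ≤ 2 ^ (2 * n + 1) := Nat.pow_le_pow_right (by norm_num) h5
  have key := extraspecial_le_ker hres z hz E hE hext hcent h8 hA
    (QuotientGroup.mk' (K.subgroupOf (Subgroup.centralizer ({z} : Set G))))
  intro e he
  have h1 := key e he
  have heH : e ∈ Subgroup.centralizer ({z} : Set G) := by
    rw [hE] at he
    obtain ⟨x, -, rfl⟩ := Subgroup.mem_map.mp he
    exact x.2
  rw [cv_of_mem _ heH] at h1
  rw [QuotientGroup.mk'_apply, QuotientGroup.eq_one_iff, Subgroup.mem_subgroupOf] at h1
  exact h1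

end Cfsg.Agent.S3299
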