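import Cfsg.Statements.S3305

set_option autoImplicit false
open Cfsg

namespace Cfsg.Agent.S3305

/-- A `p`-subgroup whose image lies in a Sylow `p`-subgroup `P` of the image group is contained in a
Sylow `p`-subgroup mapping onto `P`. -/
theorem exists_sylow_ge_map_eq {G G' : Type*} [Group G] [Finite G] [Group G'] {p : ℕ} [Fact p.Prime]
    {f : G →* G'} (hf : Function.Surjective f) (Q : Subgroup G) (hQ : IsPGroup p Q)
    (P : Sylow p G') (hQP : Q.map f ≤ P) :
    ∃ S : Sylow p G, Q ≤ S ∧ (S : Subgroup G).map f = P := by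
  have : Finite G' := Finite.of_surjective f hf
  have hQL : Q ≤ (P : Subgroup G').comap f := Subgroup.map_le_iff_le_comap.mp hQP
  have hQ' : IsPGroup p (Q.subgroupOf ((P : Subgroup G').comap f)) :=
    hQ.comap_of_injective _ (Subgroup.subtype_injective _)
  obtain ⟨Q₀, hQ₀⟩ := hQ'.exists_le_sylow
  let R : Subgroup G := (Q₀ : Subgroup ((P : Subgroup G').comap f)).map ((P : Subgroup G').comap f).subtype
  have hPR : R.map f ≤ P := Subgroup.map_le_iff_le_comap.mpr (Subgroup.map_subtype_le Q₀.1)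
  have hpR : IsPGroup p R := Q₀.2.map ((P : Subgroup G').comap f).subtype
  have hR : ¬ p ∣ R.index := by
    rw [Subgroup.index_map_subtype Q₀.1, (P : Subgroup G').index_comap_of_surjective hf]
    exact Nat.Prime.not_dvd_mul Fact.out Q₀.not_dvd_index P.not_dvd_index
  refine ⟨hpR.toSylow hR, ?_, ?_⟩
  · intro x hx
    show x ∈ R
    refine ⟨⟨x, hQL hx⟩, hQ₀ ?_, rfl⟩
    exact Subgroup.mem_subgroupOf.mpr hx
  · show R.map f = P
    exact (((hpR.map f).toSylow (fun h ↦ hR (h.trans (R.index_map_dvd hf)))).3 P.2 hPR).symm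

/-- A `p`-subgroup of the image of a surjective homomorphism from a finite group is the image of a
`p`-subgroup. -/
theorem exists_pGroup_map_eq {G G' : Type*} [Group G] [Finite G] [Group G'] {p : ℕ} [Fact p.Prime]
    {f : G →* G'} (hf : Function.Surjective f) (D : Subgroup G') (hD : IsPGroup p D) :
    ∃ Q : Subgroup G, IsPGroup p Q ∧ Q.map f = D := by
  have hs := f.subgroupComap_surjective_of_surjective D hf
  obtain ⟨Q₀⟩ : Nonempty (Sylow p (D.comap f)) := Sylow.nonempty
  have htop : (⊤ : Subgroup D) = (Q₀ : Subgroup (D.comap f)).map (f.subgroupComap D) :=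
    (Q₀.mapSurjective hs).3 (hD.to_subgroup ⊤) le_top
  refine ⟨(Q₀ : Subgroup (D.comap f)).map (D.comap f).subtype, Q₀.2.map _, ?_⟩
  ext y
  constructor
  · rintro ⟨x, ⟨l, _, rfl⟩, rfl⟩
    exact l.2
  · intro hy
    have : (⟨y, hy⟩ : D) ∈ (Q₀ : Subgroup (D.comap f)).map (f.subgroupComap D) := by
      rw [← htop]; exact Subgroup.mem_top _
    obtain ⟨l, hl, hly⟩ := this
    refine ⟨l, ⟨l, hl, rfl⟩, ?_⟩
    exact congrArg Subtype.val hly

/-- If any two distinct Sylow 2-subgroups of the finite group G intersect in a cyclic group, then the same holds in every quotient group G/H, H a normal subgroup of G. -/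
theorem result {G : Type*} [Group G] [Finite G]
    (hC : ∀ S T : Sylow 2 G, S ≠ T → IsCyclic ↥((S : Subgroup G) ⊓ (T : Subgroup G))) (H : Subgroup G) [H.Normal] :
    ∀ S T : Sylow 2 (G ⧸ H), S ≠ T → IsCyclic ↥((S : Subgroup (G ⧸ H)) ⊓ (T : Subgroup (G ⧸ H))) := by
  intro S T hST
  have : Fact (Nat.Prime 2) := ⟨Nat.prime_two⟩
  have hf : Function.Surjective (QuotientGroup.mk' H) := QuotientGroup.mk'_surjective H
  have hD : IsPGroup 2 ↥((S : Subgroup (G ⧸ H)) ⊓ (T : Subgroup (G ⧸ H))) := S.2.to_le inf_le_left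
  obtain ⟨Q, hQ, hQD⟩ := exists_pGroup_map_eq hf _ hD
  obtain ⟨S₁, hQS₁, hS₁⟩ := exists_sylow_ge_map_eq hf Q hQ S (hQD.le.trans inf_le_left)
  obtain ⟨T₁, hQT₁, hT₁⟩ := exists_sylow_ge_map_eq hf Q hQ T (hQD.le.trans inf_le_right)
  have hne : S₁ ≠ T₁ := by
    rintro rfl
    apply hST
    apply Sylow.ext
    rw [← hS₁, hT₁]
  have hcyc := hC S₁ T₁ hne
  have hQle : Q ≤ (S₁ : Subgroup G) ⊓ (T₁ : Subgroup G) := le_inf hQS₁ hQT₁
  -- Q is cyclic
  have hQc : IsCyclic Q := by
    have := hcyc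
    exact isCyclic_of_injective (Subgroup.inclusion hQle) (Subgroup.inclusion_injective hQle)
  -- the image is cyclic
  have := hQc
  let g : Q →* ↥((S : Subgroup (G ⧸ H)) ⊓ (T : Subgroup (G ⧸ H))) :=
    ((QuotientGroup.mk' H).comp Q.subtype).codRestrict _ (fun x => by
      rw [← hQD]; exact ⟨x, x.2, rfl⟩)
  have hg : Function.Surjective g := by
    rintro ⟨y, hy⟩
    rw [← hQD] at hy
    obtain ⟨x, hx, rfl⟩ := hy
    exact ⟨⟨x, hx⟩, rfl⟩
  exact isCyclic_of_surjective g hg

end Cfsg.Agent.S3305
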