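import Cfsg.Statements.S3303
import Cfsg.Agent.S3305
import Cfsg.Agent.Lib.helper60.OddCoreQuot

set_option autoImplicit false
open Cfsg

namespace Cfsg.Agent.S3303

/-- Let G be a finite solvable group in which the intersection of any two distinct Sylow 2-subgroups is cyclic. Then G/O(G) has a normal Sylow 2-subgroup, where O(G) is the largest normal subgroup of odd order. -/
theorem result {G : Type*} [Group G] [Finite G] (hs : Group.IsSolvable G)
    (hC : ∀ S T : Sylow 2 G, S ≠ T → IsCyclic ↥((S : Subgroup G) ⊓ (T : Subgroup G))) :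
    ∃ P : Sylow 2 (G ⧸ Cfsg.oddCore G), (P : Subgroup (G ⧸ Cfsg.oddCore G)).Normal := by
  classical
  have hp : Fact (Nat.Prime 2) := ⟨Nat.prime_two⟩
  have hCq := Cfsg.Agent.S3305.result hC (Cfsg.oddCore G)
  obtain ⟨P⟩ : Nonempty (Sylow 2 (G ⧸ Cfsg.oddCore G)) := Sylow.nonempty
  refine ⟨P, ?_⟩
  by_cases hsub : ∀ S T : Sylow 2 (G ⧸ Cfsg.oddCore G), S = T
  · have : Subsingleton (Sylow 2 (G ⧸ Cfsg.oddCore G)) := ⟨hsub⟩
    exact Sylow.normal_of_subsingleton P
  · simp only [not_forall] at hsub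
    obtain ⟨S, T, hST⟩ := hsub
    have hcyc := hCq S T hST
    have hO : Cfsg.pPrimeCore 2 (G ⧸ Cfsg.oddCore G) = ⊥ :=
      Cfsg.Agent.Lib.helper60.pPrimeCore_quotient_eq_bot 2 G
    have hsolv : Group.IsSolvable (G ⧸ Cfsg.oddCore G) := inferInstance
    have hcent := Cfsg.Agent.Lib.helper60.centralizer_pCore_le 2 hO
    have hQn : (Cfsg.pCore 2 (G ⧸ Cfsg.oddCore G)).Normal := inferInstance
    have hQp : IsPGroup 2 (Cfsg.pCore 2 (G ⧸ Cfsg.oddCore G)) :=
      Cfsg.Agent.Lib.helper40.pCore_isPGroup 2 _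
    have hQle : Cfsg.pCore 2 (G ⧸ Cfsg.oddCore G) ≤
        (S : Subgroup (G ⧸ Cfsg.oddCore G)) ⊓ (T : Subgroup (G ⧸ Cfsg.oddCore G)) :=
      le_inf (hQp.le_sylow_of_normal S) (hQp.le_sylow_of_normal T)
    have hQc : IsCyclic (Cfsg.pCore 2 (G ⧸ Cfsg.oddCore G)) :=
      isCyclic_of_injective (Subgroup.inclusion hQle) (Subgroup.inclusion_injective hQle)
    have h2 : IsPGroup 2 (G ⧸ Cfsg.oddCore G) :=
      Cfsg.Agent.Lib.helper60.isPGroup_two_of_cyclic_self_centralizing _ hQp hQc hcent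
    have htop : (⊤ : Subgroup (G ⧸ Cfsg.oddCore G)) = (P : Subgroup (G ⧸ Cfsg.oddCore G)) :=
      P.3 (h2.to_subgroup ⊤) le_top
    rw [← htop]
    infer_instance

end Cfsg.Agent.S3303
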