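import Cfsg.Statements.S3304
import Cfsg.Agent.S3305
import Cfsg.Agent.Lib.helper60.OddCoreQuot
import Cfsg.Agent.Lib.helper59.Q8Normal
import Cfsg.Agent.Lib.helper59.UniqueOrderP
import Cfsg.Agent.Lib.helper87.AutTwoGroup

set_option autoImplicit false
open Cfsg

namespace Cfsg.Agent.S3304

open Cfsg.Agent.Lib.helper59 QuaternionGroup

universe u

/-- In a finite group of `2`-rank at most one, two commuting involutions are equal. -/
theorem klein_false {K : Type*} [Group K] [Finite K] (h : Cfsg.PRankLE 2 1 K) (x w : K)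
    (hx : x ^ 2 = 1) (hw : w ^ 2 = 1) (hxw : x * w = w * x) (hx1 : x ≠ 1) (hw1 : w ≠ 1) : x = w := by
  classical
  by_contra hne
  have hcomm : ∀ a ∈ ({x, w} : Set K), ∀ b ∈ ({x, w} : Set K), a * b = b * a := by
    rintro a (rfl | rfl) b (rfl | rfl)
    · rfl
    · exact hxw
    · exact hxw.symm
    · rfl
  have hA := Subgroup.isMulCommutative_closure hcomm
  have hexp : ∀ a ∈ Subgroup.closure ({x, w} : Set K), a ^ 2 = 1 := by
    intro a ha
    induction ha using Subgroup.closure_induction with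
    | mem y hy =>
      rcases hy with rfl | rfl
      · exact hx
      · exact hw
    | one => exact one_pow 2
    | mul y y' hy hy' ihy ihy' =>
      have hc : y * y' = y' * y :=
        congrArg Subtype.val (hA.is_comm.comm ⟨y, hy⟩ ⟨y', hy'⟩)
      rw [(show Commute y y' from hc).mul_pow, ihy, ihy', one_mul]
    | inv y hy ih => rw [inv_pow, ih, inv_one]
  have hcard := h _ hA hexp
  have hxA : x ∈ Subgroup.closure ({x, w} : Set K) := Subgroup.subset_closure (by simp)
  have hwA : w ∈ Subgroup.closure ({x, w} : Set K) := Subgroup.subset_closure (by simp)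
  have : Fintype ↥(Subgroup.closure ({x, w} : Set K)) := Fintype.ofFinite _
  have h3 : 2 < Fintype.card ↥(Subgroup.closure ({x, w} : Set K)) :=
    Fintype.two_lt_card_iff.mpr ⟨1, ⟨x, hxA⟩, ⟨w, hwA⟩,
      fun h0 => hx1 (congrArg Subtype.val h0).symm, fun h0 => hw1 (congrArg Subtype.val h0).symm,
      fun h0 => hne (congrArg Subtype.val h0)⟩
  rw [Nat.card_eq_fintype_card] at hcard
  norm_num at hcard
  omega

/-- The hypothesis on Sylow intersections passes to `G ⧸ O(G)`. -/
theorem transfer {G : Type*} [Group G] [Finite G]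
    (hI : ∀ S T : Sylow 2 G, S ≠ T → Cfsg.PRankLE 2 1 ↥((S : Subgroup G) ⊓ (T : Subgroup G)))
    (S T : Sylow 2 (G ⧸ Cfsg.oddCore G)) (hST : S ≠ T) (x z : G ⧸ Cfsg.oddCore G)
    (hx : x ∈ (S : Subgroup (G ⧸ Cfsg.oddCore G)) ⊓ (T : Subgroup (G ⧸ Cfsg.oddCore G)))
    (hz : z ∈ (S : Subgroup (G ⧸ Cfsg.oddCore G)) ⊓ (T : Subgroup (G ⧸ Cfsg.oddCore G)))
    (hx2 : x ^ 2 = 1) (hz2 : z ^ 2 = 1) (hxz : x * z = z * x) (hx1 : x ≠ 1) (hz1 : z ≠ 1) :
    x = z := by
  have : Fact (Nat.Prime 2) := ⟨Nat.prime_two⟩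
  have hf : Function.Surjective (QuotientGroup.mk' (Cfsg.oddCore G)) :=
    QuotientGroup.mk'_surjective _
  have hEle : Subgroup.closure ({x, z} : Set (G ⧸ Cfsg.oddCore G)) ≤
      (S : Subgroup (G ⧸ Cfsg.oddCore G)) ⊓ (T : Subgroup (G ⧸ Cfsg.oddCore G)) := by
    rw [Subgroup.closure_le]
    rintro y (rfl | rfl)
    · exact hx
    · exact hz
  have hEp : IsPGroup 2 ↥(Subgroup.closure ({x, z} : Set (G ⧸ Cfsg.oddCore G))) :=
    S.2.to_le (hEle.trans inf_le_left)
  obtain ⟨D, hD, hDE⟩ := Cfsg.Agent.S3305.exists_pGroup_map_eq hf _ hEp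
  obtain ⟨S₁, hDS₁, hS₁⟩ := Cfsg.Agent.S3305.exists_sylow_ge_map_eq hf D hD S
    (hDE.le.trans (hEle.trans inf_le_left))
  obtain ⟨T₁, hDT₁, hT₁⟩ := Cfsg.Agent.S3305.exists_sylow_ge_map_eq hf D hD T
    (hDE.le.trans (hEle.trans inf_le_right))
  have hne : S₁ ≠ T₁ := by
    rintro rfl
    apply hST
    apply Sylow.ext
    rw [← hS₁, hT₁]
  have hxE : x ∈ D.map (QuotientGroup.mk' (Cfsg.oddCore G)) := by
    rw [hDE]; exact Subgroup.subset_closure (by simp)
  have hzE : z ∈ D.map (QuotientGroup.mk' (Cfsg.oddCore G)) := by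
    rw [hDE]; exact Subgroup.subset_closure (by simp)
  obtain ⟨dx, hdxD, hdx⟩ := hxE
  obtain ⟨dz, hdzD, hdz⟩ := hzE
  have hinj : ∀ d ∈ D, QuotientGroup.mk' (Cfsg.oddCore G) d = 1 → d = 1 := by
    intro d hd h1
    have h2 : d ∈ Cfsg.oddCore G := (QuotientGroup.eq_one_iff d).mp h1
    have h3 : (orderOf d).Coprime 2 :=
      Cfsg.Agent.Lib.helper40.orderOf_coprime_of_mem_pPrimeCore h2
    obtain ⟨k, hk⟩ := hD ⟨d, hd⟩
    have h4 : d ^ 2 ^ k = 1 := congrArg Subtype.val hk
    have h5 : orderOf d ∣ 2 ^ k := orderOf_dvd_of_pow_eq_one h4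
    have h6 : orderOf d = 1 := Nat.Coprime.eq_one_of_dvd (Nat.Coprime.pow_right k h3) h5
    exact orderOf_eq_one_iff.mp h6
  have h1 : dx ^ 2 = 1 := hinj _ (D.pow_mem hdxD 2) (by rw [map_pow, hdx, hx2])
  have h2 : dz ^ 2 = 1 := hinj _ (D.pow_mem hdzD 2) (by rw [map_pow, hdz, hz2])
  have h3 : dx * dz = dz * dx := by
    have : dx * dz * (dz * dx)⁻¹ = 1 :=
      hinj _ (D.mul_mem (D.mul_mem hdxD hdzD) (D.inv_mem (D.mul_mem hdzD hdxD)))
        (by rw [map_mul, map_inv, map_mul, map_mul, hdx, hdz, hxz, mul_inv_cancel])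
    exact mul_inv_eq_one.mp this
  have hmem : ∀ d ∈ D, d ∈ (S₁ : Subgroup G) ⊓ (T₁ : Subgroup G) :=
    fun d hd => ⟨hDS₁ hd, hDT₁ hd⟩
  have h4 := klein_false (hI S₁ T₁ hne) ⟨dx, hmem dx hdxD⟩ ⟨dz, hmem dz hdzD⟩ (Subtype.ext h1)
    (Subtype.ext h2) (Subtype.ext h3)
    (fun h => hx1 (by
      have e0 : dx = 1 := congrArg Subtype.val h
      rw [← hdx, e0, map_one]))
    (fun h => hz1 (by
      have e0 : dz = 1 := congrArg Subtype.val h
      rw [← hdz, e0, map_one]))
  have e1 : dx = dz := congrArg Subtype.val h4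
  rw [← hdx, ← hdz, e1]

/-- A group whose involutions are all equal has at most one subgroup of order `2`. -/
theorem uniqueOrderP_of_forall {P : Type*} [Group P]
    (h : ∀ s t : P, s ^ 2 = 1 → t ^ 2 = 1 → s ≠ 1 → t ≠ 1 → s = t) : UniqueOrderP 2 P := by
  have key : ∀ A B : Subgroup P, Nat.card A = 2 → Nat.card B = 2 → A ≤ B := by
    intro A B hA hB x hx
    by_cases hx1 : x = 1
    · rw [hx1]; exact B.one_mem
    · have : Finite B := Nat.finite_of_card_ne_zero (by rw [hB]; norm_num)
      have : Nontrivial B := Finite.one_lt_card_iff_nontrivial.mp (by rw [hB]; norm_num)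
      obtain ⟨y, hy⟩ := exists_ne (1 : B)
      have hx2 : x ^ 2 = 1 := by
        have h0 : (⟨x, hx⟩ : A) ^ Nat.card A = 1 := pow_card_eq_one'
        rw [hA] at h0; exact congrArg Subtype.val h0
      have hy2 : (y : P) ^ 2 = 1 := by
        have h0 : y ^ Nat.card B = 1 := pow_card_eq_one'
        rw [hB] at h0; exact congrArg Subtype.val h0
      rw [h x y hx2 hy2 hx1 (fun h0 => hy (Subtype.ext h0))]
      exact y.2
  intro H K hH hK
  exact le_antisymm (key H K hH hK) (key K H hK hH)

/-- A finite group with a self-centralising normal `2`-subgroup whose automorphism group is a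
`2`-group is a `2`-group. -/
theorem isPGroup_two_of_mulAut {X : Type*} [Group X] (F : Subgroup X) [F.Normal]
    (hFp : IsPGroup 2 F) (haut : IsPGroup 2 (MulAut F))
    (hcent : Subgroup.centralizer (F : Set X) ≤ F) : IsPGroup 2 X := by
  intro g
  obtain ⟨k, hk⟩ := haut (MulAut.conjNormal g)
  have hmem : g ^ 2 ^ k ∈ F := by
    apply hcent
    rw [Subgroup.mem_centralizer_iff]
    intro h hh
    have h1 : MulAut.conjNormal (g ^ 2 ^ k) (⟨h, hh⟩ : F) = (⟨h, hh⟩ : F) := by
      rw [map_pow, hk]; rfl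
    have h2 := congrArg Subtype.val h1
    rw [MulAut.conjNormal_apply] at h2
    calc h * g ^ 2 ^ k = g ^ 2 ^ k * h * (g ^ 2 ^ k)⁻¹ * g ^ 2 ^ k := by rw [h2]
      _ = g ^ 2 ^ k * h := by group
  obtain ⟨j, hj⟩ := hFp ⟨g ^ 2 ^ k, hmem⟩
  refine ⟨k + j, ?_⟩
  rw [pow_add, pow_mul]
  exact congrArg Subtype.val hj

/-- The structure of a finite group with a self-centralising normal `2`-subgroup of `2`-rank `1`. -/
theorem core_step {X : Type u} [Group X] [Finite X] (F : Subgroup X) [F.Normal] (hFp : IsPGroup 2 F)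
    (hcent : Subgroup.centralizer (F : Set X) ≤ F)
    (hinv : ∀ x z : X, x ∈ F → z ∈ F → x ^ 2 = 1 → z ^ 2 = 1 → x * z = z * x → x ≠ 1 → z ≠ 1 →
      x = z) :
    (∃ P : Sylow 2 X, (P : Subgroup X).Normal) ∨ Nonempty (X ≃* GL (Fin 2) (ZMod 3)) ∨
    (Nat.card X = 48 ∧ Nat.card (Subgroup.center X) = 2 ∧
      Nonempty (X ⧸ Subgroup.center X ≃* Equiv.Perm (Fin 4)) ∧
      ∀ P : Sylow 2 X, Nonempty (↥(P : Subgroup X) ≃* QuaternionGroup 4)) := by
  classical
  have hp : Fact (Nat.Prime 2) := ⟨Nat.prime_two⟩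
  have h2grp : IsPGroup 2 X → ∃ P : Sylow 2 X, (P : Subgroup X).Normal := by
    intro h2
    obtain ⟨P⟩ : Nonempty (Sylow 2 X) := Sylow.nonempty
    refine ⟨P, ?_⟩
    have htop : (⊤ : Subgroup X) = (P : Subgroup X) := P.3 (h2.to_subgroup ⊤) le_top
    rw [← htop]; infer_instance
  have hU : UniqueOrderP 2 F := by
    apply uniqueOrderP_of_forall
    intro s t hs2 ht2 hs1 ht1
    have hnt : Nontrivial F := ⟨⟨s, 1, hs1⟩⟩
    have hcn : Nontrivial (Subgroup.center F) := hFp.center_nontrivial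
    have hdvd : 2 ∣ Nat.card (Subgroup.center F) := by
      rcases (hFp.to_subgroup (Subgroup.center F)).card_eq_or_dvd with h | h
      · exact absurd h (Finite.one_lt_card).ne'
      · exact h
    obtain ⟨c, hc⟩ := exists_prime_orderOf_dvd_card' 2 hdvd
    have hc1 : (c : F) ≠ 1 := by
      intro h0
      have : c = 1 := Subtype.ext h0
      rw [this, orderOf_one] at hc
      norm_num at hc
    have hc2 : (c : F) ^ 2 = 1 := by
      have := pow_orderOf_eq_one c
      rw [hc] at this
      exact congrArg Subtype.val this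
    have hcs : ∀ r : F, r * (c : F) = (c : F) * r := Subgroup.mem_center_iff.mp c.2
    have e1 : (s : X) = ((c : F) : X) :=
      hinv s (c : F) s.2 (c : F).2 (congrArg Subtype.val hs2) (congrArg Subtype.val hc2)
        (congrArg Subtype.val (hcs s)) (fun h => hs1 (Subtype.ext h)) (fun h => hc1 (Subtype.ext h))
    have e2 : (t : X) = ((c : F) : X) :=
      hinv t (c : F) t.2 (c : F).2 (congrArg Subtype.val ht2) (congrArg Subtype.val hc2)
        (congrArg Subtype.val (hcs t)) (fun h => ht1 (Subtype.ext h)) (fun h => hc1 (Subtype.ext h))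
    exact Subtype.ext (e1.trans e2.symm)
  rcases cyclic_or_quaternion_of_uniqueOrderP hFp hU with hcyc | ⟨n, ⟨e⟩⟩
  · left
    exact h2grp (Cfsg.Agent.Lib.helper60.isPGroup_two_of_cyclic_self_centralizing F hFp hcyc hcent)
  · rcases n with _ | _ | n
    · left
      have h1 : IsCyclic (QuaternionGroup (2 ^ 0)) := QuaternionGroup.quaternionGroup_one_isCyclic
      have hcyc : IsCyclic F := isCyclic_of_surjective e.symm.toMonoidHom e.symm.surjective
      exact h2grp
        (Cfsg.Agent.Lib.helper60.isPGroup_two_of_cyclic_self_centralizing F hFp hcyc hcent)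
    · have e' : F ≃* QuaternionGroup 2 := e
      let ι : AutQ8.Q8 →* X := F.subtype.comp e'.symm.toMonoidHom
      let Ψ : X →* MulAut AutQ8.Q8 := (MulAut.congr e').toMonoidHom.comp MulAut.conjNormal
      have hι : Function.Injective ι := F.subtype_injective.comp e'.symm.injective
      have hΨ : ∀ (g : X) (q : AutQ8.Q8), ι (Ψ g q) = g * ι q * g⁻¹ := by
        intro g q
        show ((e'.symm (e' (MulAut.conjNormal g (e'.symm q))) : F) : X) =
          g * ((e'.symm q : F) : X) * g⁻¹
        rw [e'.symm_apply_apply, MulAut.conjNormal_apply]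
      have hrange : ∀ g : X, g ∈ ι.range ↔ g ∈ F := by
        intro g
        constructor
        · rintro ⟨q, rfl⟩
          exact (e'.symm q).2
        · intro hg
          refine ⟨e' ⟨g, hg⟩, ?_⟩
          show ((e'.symm (e' ⟨g, hg⟩) : F) : X) = g
          rw [e'.symm_apply_apply]
      have hC : ∀ g : X, (∀ q : AutQ8.Q8, g * ι q = ι q * g) → g ∈ ι.range := by
        intro g hg
        rw [hrange]
        apply hcent
        rw [Subgroup.mem_centralizer_iff]
        intro h hh
        obtain ⟨q, rfl⟩ := (hrange h).mpr hh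
        exact (hg q).symm
      rcases Q8Normal.main ι hι Ψ hΨ hC with h | h | h | ⟨hX, hc, hS4, hinv2⟩
      · left; exact h2grp h
      · left
        have hF8 : Nat.card F = 8 := by
          rw [Nat.card_congr e'.toEquiv, Nat.card_eq_fintype_card, QuaternionGroup.card]
        have hidx : F.index = 3 := by
          have := F.card_mul_index
          rw [hF8, h] at this
          omega
        refine ⟨hFp.toSylow (by rw [hidx]; norm_num), ?_⟩
        show F.Normal
        infer_instance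
      · right; left; exact h
      · right; right
        refine ⟨hX, hc, hS4, fun P => ?_⟩
        have hPU : UniqueOrderP 2 (P : Subgroup X) := by
          apply uniqueOrderP_of_forall
          intro s t hs2 ht2 hs1 ht1
          rcases hinv2 (s : X) (congrArg Subtype.val hs2) with h1 | h1
          · exact absurd (Subtype.ext h1) hs1
          rcases hinv2 (t : X) (congrArg Subtype.val ht2) with h2 | h2
          · exact absurd (Subtype.ext h2) ht1
          exact Subtype.ext (h1.trans h2.symm)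
        have hFP : F ≤ P := hFp.le_sylow_of_normal P
        have hPcard : Nat.card (P : Subgroup X) = 16 := by
          obtain ⟨k, hk⟩ := IsPGroup.iff_card.mp P.2
          have h1 := (P : Subgroup X).card_mul_index
          have h2 := P.not_dvd_index
          rw [hk, hX] at h1
          rw [hk]
          have hk6 : k < 6 := by
            by_contra hh
            push Not at hh
            have h3 : 2 ^ 6 ≤ 2 ^ k := Nat.pow_le_pow_right (by norm_num) hh
            have h4 : 2 ^ k ≤ 48 := Nat.le_of_dvd (by norm_num) ⟨_, h1.symm⟩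
            omega
          generalize (P : Subgroup X).index = i at h1 h2
          interval_cases k <;> omega
        rcases cyclic_or_quaternion_of_uniqueOrderP P.2 hPU with hcyc | ⟨m, ⟨eP⟩⟩
        · exfalso
          have hcomm := comm_of_isCyclic_subgroup (P : Subgroup X) hcyc
          have h1 : ι (a 1) * ι (xa 0) = ι (xa 0) * ι (a 1) :=
            hcomm _ (hFP ((hrange _).mp ⟨_, rfl⟩)) _ (hFP ((hrange _).mp ⟨_, rfl⟩))
          rw [← map_mul, ← map_mul] at h1
          exact absurd (hι h1) (by decide)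
        · have hm : 2 ^ m = 4 := by
            have := Nat.card_congr eP.toEquiv
            rw [hPcard, Nat.card_eq_fintype_card, QuaternionGroup.card] at this
            omega
          rw [hm] at eP
          exact ⟨eP⟩
    · left
      have h1 := Cfsg.Agent.Lib.helper87.aut_quaternion_isPGroup_two (n + 1 + 1) (by omega)
      have h2 : IsPGroup 2 (MulAut F) := h1.of_equiv (MulAut.congr e).symm
      exact h2grp (isPGroup_two_of_mulAut F hFp h2 hcent)

/-- Let G be a finite solvable group in which the intersection of any two distinct Sylow 2-subgroups has 2-rank at most 1 (contains no Klein four-group). Write Q = G/O(G), O(G) the largest normal subgroup of odd order. Then Q has a normal Sylow 2-subgroup; or Q is isomorphic to GL(2,3); or Q has order 48, centre of order 2 with central quotient isomorphic to the symmetric group of degree 4, and generalized quaternion Sylow 2-subgroups of order 16 (the binary octahedral group). The last two are the two representation groups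 of the symmetric group of degree 4. -/
theorem result {G : Type*} [Group G] [Finite G] (hs : Group.IsSolvable G)
    (hI : ∀ S T : Sylow 2 G, S ≠ T → Cfsg.PRankLE 2 1 ↥((S : Subgroup G) ⊓ (T : Subgroup G))) :
    (∃ P : Sylow 2 (G ⧸ Cfsg.oddCore G), (P : Subgroup (G ⧸ Cfsg.oddCore G)).Normal) ∨
    Nonempty ((G ⧸ Cfsg.oddCore G) ≃* GL (Fin 2) (ZMod 3)) ∨
    (Nat.card (G ⧸ Cfsg.oddCore G) = 48 ∧ Nat.card ↥(Subgroup.center (G ⧸ Cfsg.oddCore G)) = 2 ∧
      Nonempty ((G ⧸ Cfsg.oddCore G) ⧸ Subgroup.center (G ⧸ Cfsg.oddCore G) ≃* Equiv.Perm (Fin 4)) ∧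
      ∀ P : Sylow 2 (G ⧸ Cfsg.oddCore G), Nonempty (↥(P : Subgroup (G ⧸ Cfsg.oddCore G)) ≃* QuaternionGroup 4)) := by
  classical
  have hp : Fact (Nat.Prime 2) := ⟨Nat.prime_two⟩
  by_cases hsub : ∀ S T : Sylow 2 (G ⧸ Cfsg.oddCore G), S = T
  · left
    obtain ⟨P⟩ : Nonempty (Sylow 2 (G ⧸ Cfsg.oddCore G)) := Sylow.nonempty
    have : Subsingleton (Sylow 2 (G ⧸ Cfsg.oddCore G)) := ⟨hsub⟩
    exact ⟨P, Sylow.normal_of_subsingleton P⟩
  · simp only [not_forall] at hsub
    obtain ⟨S, T, hST⟩ := hsub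
    have hO : Cfsg.pPrimeCore 2 (G ⧸ Cfsg.oddCore G) = ⊥ :=
      Cfsg.Agent.Lib.helper60.pPrimeCore_quotient_eq_bot 2 G
    have hsolv : Group.IsSolvable (G ⧸ Cfsg.oddCore G) := inferInstance
    have hcent := Cfsg.Agent.Lib.helper60.centralizer_pCore_le 2 hO
    have hQn : (Cfsg.pCore 2 (G ⧸ Cfsg.oddCore G)).Normal :=
      Cfsg.Agent.Lib.helper40.pCore_normal' 2 _
    have hQp : IsPGroup 2 (Cfsg.pCore 2 (G ⧸ Cfsg.oddCore G)) :=
      Cfsg.Agent.Lib.helper40.pCore_isPGroup 2 _
    have hQle : Cfsg.pCore 2 (G ⧸ Cfsg.oddCore G) ≤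
        (S : Subgroup (G ⧸ Cfsg.oddCore G)) ⊓ (T : Subgroup (G ⧸ Cfsg.oddCore G)) :=
      le_inf (hQp.le_sylow_of_normal S) (hQp.le_sylow_of_normal T)
    exact core_step (Cfsg.pCore 2 (G ⧸ Cfsg.oddCore G)) hQp hcent
      (fun x z hx hz hx2 hz2 hxz hx1 hz1 =>
        transfer hI S T hST x z (hQle hx) (hQle hz) hx2 hz2 hxz hx1 hz1)

end Cfsg.Agent.S3304
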