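import Cfsg.Statements.S3309
import Mathlib

set_option autoImplicit false
open Cfsg

namespace Cfsg.Agent.S3309

abbrev Z2 := Multiplicative (ZMod 2)
abbrev D8 := DihedralGroup 4

theorem F1 : ∀ x : Z2 × D8, x * (Multiplicative.ofAdd (1 : ZMod 2), (1 : D8)) = (Multiplicative.ofAdd (1 : ZMod 2), (1 : D8)) * x := by decide

theorem F2 : ∀ x : Z2 × D8, x * x ≠ (Multiplicative.ofAdd (1 : ZMod 2), (1 : D8)) := by decide

theorem F3 : ∀ x : Z2 × D8, x * ((1 : Z2), DihedralGroup.r (2 : ZMod 4)) = ((1 : Z2), DihedralGroup.r (2 : ZMod 4)) * x := by decide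

theorem F4 : ((1 : Z2), DihedralGroup.r (1 : ZMod 4)) * ((1 : Z2), DihedralGroup.r (1 : ZMod 4)) = ((1 : Z2), DihedralGroup.r (2 : ZMod 4)) := by decide

theorem F5 : ∀ x : Z2 × D8, x.1 = 1 → (∀ y : Z2 × D8, y.1 = 1 → x * y = y * x) → x = 1 ∨ x = ((1 : Z2), DihedralGroup.r (2 : ZMod 4)) := by decide

theorem F6 : (Multiplicative.ofAdd (1 : ZMod 2), (1 : D8)) ≠ (1 : Z2 × D8) := by decide

theorem F8 : (Multiplicative.ofAdd (1 : ZMod 2), (1 : D8)) * (Multiplicative.ofAdd (1 : ZMod 2), (1 : D8)) = (1 : Z2 × D8) := by decide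

theorem four_dvd_of (m : ℕ) (h1 : m ∣ 16) (h2 : m < 8) : 4 ∣ 16 / m := by
  have hm : 0 < m := Nat.pos_of_dvd_of_pos h1 (by norm_num)
  interval_cases m <;> simp_all

/-- A finite group whose Sylow 2-subgroups are isomorphic to the direct product of a group of order 2 and the dihedral group of order 8 is not a non-abelian simple group. -/
theorem result {G : Type*} [Group G] [Finite G] (S : Sylow 2 G) (hS : Nonempty (↥(S : Subgroup G) ≃* Multiplicative (ZMod 2) × DihedralGroup 4))
    [IsSimpleGroup G] (hG : ¬ IsMulCommutative G) : False := by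
  classical
  obtain ⟨e⟩ := hS
  have hp : Fact (Nat.Prime 2) := ⟨Nat.prime_two⟩
  -- elements of S
  obtain ⟨z₀, ez⟩ : ∃ z₀ : (S : Subgroup G), e z₀ = (Multiplicative.ofAdd (1 : ZMod 2), (1 : D8)) :=
    ⟨e.symm _, e.apply_symm_apply _⟩
  obtain ⟨c₀, ec⟩ : ∃ c₀ : (S : Subgroup G), e c₀ = ((1 : Z2), DihedralGroup.r (2 : ZMod 4)) :=
    ⟨e.symm _, e.apply_symm_apply _⟩
  obtain ⟨s₀, es⟩ : ∃ s₀ : (S : Subgroup G), e s₀ = ((1 : Z2), DihedralGroup.r (1 : ZMod 4)) :=
    ⟨e.symm _, e.apply_symm_apply _⟩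
  have hzc : ∀ s : (S : Subgroup G), s * z₀ = z₀ * s := by
    intro s; apply e.injective; rw [map_mul, map_mul, ez]; exact F1 _
  have hcc : ∀ s : (S : Subgroup G), s * c₀ = c₀ * s := by
    intro s; apply e.injective; rw [map_mul, map_mul, ec]; exact F3 _
  have hcs : c₀ = s₀ * s₀ := by
    apply e.injective; rw [map_mul, ec, es]; exact F4.symm
  have hz1 : z₀ ≠ 1 := by
    intro h; have h' := congrArg e h; rw [ez, e.map_one] at h'; exact F6 h'
  have hzsq : z₀ * z₀ = 1 := by
    apply e.injective; rw [map_mul, ez, e.map_one]; exact F8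
  have hzG1 : (z₀ : G) ≠ 1 := fun h => hz1 (Subtype.ext h)
  have hzGsq : (z₀ : G) * (z₀ : G) = 1 := congrArg Subtype.val hzsq
  -- Step 1: z is not fused to c
  have hfus : ∀ g : G, g⁻¹ * (z₀ : G) * g ≠ (c₀ : G) := by
    intro g hg
    have hzC : (z₀ : G) ∈ Subgroup.centralizer ((S : Subgroup G) : Set G) := by
      rw [Subgroup.mem_centralizer_iff]
      intro s hs
      exact congrArg Subtype.val (hzc ⟨s, hs⟩)
    have hcC : g⁻¹ * (z₀ : G) * g ∈ Subgroup.centralizer ((S : Subgroup G) : Set G) := by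
      rw [hg, Subgroup.mem_centralizer_iff]
      intro s hs
      exact congrArg Subtype.val (hcc ⟨s, hs⟩)
    obtain ⟨n, hn, hn'⟩ := Sylow.conj_eq_normalizer_conj_of_mem_centralizer S (z₀ : G) g hzC hcC
    have hmem : n * (s₀ : G) * n⁻¹ ∈ (S : Subgroup G) :=
      (Subgroup.mem_normalizer_iff.mp hn (s₀ : G)).mp s₀.2
    have h1 : (c₀ : G) = (s₀ : G) * (s₀ : G) := congrArg Subtype.val hcs
    have h2 : (c₀ : G) = n⁻¹ * (z₀ : G) * n := by rw [← hn', hg]
    have h3 : (z₀ : G) = n * (c₀ : G) * n⁻¹ := by rw [h2]; group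
    have h4 : (⟨n * (s₀ : G) * n⁻¹, hmem⟩ : (S : Subgroup G)) * ⟨n * (s₀ : G) * n⁻¹, hmem⟩ = z₀ := by
      apply Subtype.ext
      show n * (s₀ : G) * n⁻¹ * (n * (s₀ : G) * n⁻¹) = (z₀ : G)
      rw [h3, h1]; group
    have := congrArg e h4
    rw [map_mul, ez] at this
    exact F2 _ this
  -- the subgroup M of index 2 in S
  set φ : (S : Subgroup G) →* Z2 := (MonoidHom.fst Z2 D8).comp e.toMonoidHom with hφ
  set M : Subgroup G := φ.ker.map (S : Subgroup G).subtype with hM
  have hMmem : ∀ m : G, m ∈ M ↔ ∃ hm : m ∈ (S : Subgroup G), (e ⟨m, hm⟩).1 = 1 := by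
    intro m
    constructor
    · rintro ⟨x, hx, rfl⟩
      exact ⟨x.2, hx⟩
    · rintro ⟨hm, h⟩
      exact ⟨⟨m, hm⟩, h, rfl⟩
  have hφsurj : Function.Surjective φ := by
    intro y
    refine ⟨e.symm (y, 1), ?_⟩
    simp [hφ]
  have hcardS : Nat.card (S : Subgroup G) = 16 := by
    rw [Nat.card_congr e.toEquiv, Nat.card_prod, DihedralGroup.nat_card]
    simp [Nat.card_eq_fintype_card]
  have hkidx : φ.ker.index = 2 := by
    rw [Subgroup.index_ker, MonoidHom.range_eq_top.mpr hφsurj]
    simp [Nat.card_eq_fintype_card]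
  have hidx : M.index = 2 * (S : Subgroup G).index := by
    rw [hM, Subgroup.index_map_subtype, hkidx]
  have hcardM : Nat.card M = 8 := by
    have h1 : Nat.card M = Nat.card φ.ker :=
      Subgroup.card_map_of_injective (Subgroup.subtype_injective _)
    have h2 := Subgroup.card_mul_index φ.ker
    rw [hkidx, hcardS] at h2
    omega
  have hSodd : ¬ 2 ∣ (S : Subgroup G).index := S.not_dvd_index
  -- the action on cosets of M
  have : Fintype (G ⧸ M) := Fintype.ofFinite _
  have : Fintype (S : Subgroup G) := Fintype.ofFinite _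
  set τ : Equiv.Perm (G ⧸ M) := MulAction.toPermHom G (G ⧸ M) (z₀ : G) with hτ
  have hτ2 : τ ^ 2 = 1 := by
    rw [hτ, ← map_pow, pow_two, hzGsq, map_one]
  have hτapp : ∀ x : G ⧸ M, τ x = (z₀ : G) • x := fun x => rfl
  have hsign := Equiv.Perm.sign_of_pow_two_eq_one hτ2
  -- S acts on the fixed points of τ
  let act : MulAction (S : Subgroup G) (Function.fixedPoints τ) :=
    { smul := fun s y => ⟨(s : G) • (y : G ⧸ M), by
        show τ ((s : G) • (y : G ⧸ M)) = (s : G) • (y : G ⧸ M)
        have hy : τ (y : G ⧸ M) = (y : G ⧸ M) := y.2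
        rw [hτapp, ← mul_smul, ← (show (s : G) * (z₀ : G) = (z₀ : G) * (s : G) from
          congrArg Subtype.val (hzc s)), mul_smul, ← hτapp, hy]⟩
      one_smul := fun y => Subtype.ext (one_smul G (y : G ⧸ M))
      mul_smul := fun s t y => Subtype.ext (mul_smul (s : G) (t : G) (y : G ⧸ M)) }
  have hsmul : ∀ (s : (S : Subgroup G)) (y : Function.fixedPoints τ),
      ((s • y : Function.fixedPoints τ) : G ⧸ M) = (s : G) • (y : G ⧸ M) := fun s y => rfl
  -- stabilizers are small
  have hstab : ∀ y : Function.fixedPoints τ,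
      Nat.card (MulAction.stabilizer (S : Subgroup G) y) < 8 := by
    intro y
    by_contra hlt
    rw [not_lt] at hlt
    obtain ⟨g, hg⟩ := QuotientGroup.mk_surjective (y : G ⧸ M)
    have hconj : ∀ s : G, s • (y : G ⧸ M) = (y : G ⧸ M) → g⁻¹ * s * g ∈ M := by
      intro s hs
      rw [← hg, MulAction.Quotient.smul_mk, QuotientGroup.eq] at hs
      have := M.inv_mem hs
      simpa [mul_assoc] using this
    -- the injective conjugation map from the stabilizer to M
    let f : MulAction.stabilizer (S : Subgroup G) y → M := fun s =>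
      ⟨g⁻¹ * ((s : (S : Subgroup G)) : G) * g, hconj _ (by
        have := s.2
        rw [MulAction.mem_stabilizer_iff] at this
        have h2 := congrArg Subtype.val this
        rwa [hsmul] at h2)⟩
    have hfinj : Function.Injective f := by
      intro s t hst
      have : g⁻¹ * ((s : (S : Subgroup G)) : G) * g = g⁻¹ * ((t : (S : Subgroup G)) : G) * g :=
        congrArg Subtype.val hst
      have h2 : ((s : (S : Subgroup G)) : G) = ((t : (S : Subgroup G)) : G) := by
        have := congrArg (fun x => g * x * g⁻¹) this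
        simpa [mul_assoc] using this
      exact Subtype.ext (Subtype.ext h2)
    have hfbij : Function.Bijective f :=
      hfinj.bijective_of_nat_card_le (by rw [hcardM]; exact hlt)
    -- w = g⁻¹ z g ∈ M
    have hwM : g⁻¹ * (z₀ : G) * g ∈ M := hconj _ (by
      have hy : τ (y : G ⧸ M) = (y : G ⧸ M) := y.2
      rwa [hτapp] at hy)
    have hwcomm : ∀ m ∈ M, g⁻¹ * (z₀ : G) * g * m = m * (g⁻¹ * (z₀ : G) * g) := by
      intro m hm
      obtain ⟨s, hs⟩ := hfbij.2 ⟨m, hm⟩
      have hs' : g⁻¹ * ((s : (S : Subgroup G)) : G) * g = m := congrArg Subtype.val hs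
      have hc := congrArg Subtype.val (hzc (s : (S : Subgroup G)))
      have hc' : ((s : (S : Subgroup G)) : G) * (z₀ : G) = (z₀ : G) * ((s : (S : Subgroup G)) : G) := hc
      rw [← hs']
      calc g⁻¹ * (z₀ : G) * g * (g⁻¹ * ((s : (S : Subgroup G)) : G) * g)
          = g⁻¹ * ((z₀ : G) * ((s : (S : Subgroup G)) : G)) * g := by group
        _ = g⁻¹ * (((s : (S : Subgroup G)) : G) * (z₀ : G)) * g := by rw [hc']
        _ = g⁻¹ * ((s : (S : Subgroup G)) : G) * g * (g⁻¹ * (z₀ : G) * g) := by group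
    obtain ⟨hwS, hw1⟩ := (hMmem _).mp hwM
    have h5 := F5 (e ⟨g⁻¹ * (z₀ : G) * g, hwS⟩) hw1 (by
      intro y' hy'
      have hmM : ((e.symm y' : (S : Subgroup G)) : G) ∈ M := by
        rw [hMmem]
        exact ⟨(e.symm y').2, by simpa using hy'⟩
      have := hwcomm _ hmM
      have h6 : (⟨g⁻¹ * (z₀ : G) * g, hwS⟩ : (S : Subgroup G)) * e.symm y' =
          e.symm y' * ⟨g⁻¹ * (z₀ : G) * g, hwS⟩ := Subtype.ext this
      have h7 := congrArg e h6
      rwa [map_mul, map_mul, e.apply_symm_apply] at h7)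
    rcases h5 with h5 | h5
    · have : (⟨g⁻¹ * (z₀ : G) * g, hwS⟩ : (S : Subgroup G)) = 1 := by
        apply e.injective; rw [h5, e.map_one]
      have h8 : g⁻¹ * (z₀ : G) * g = 1 := congrArg Subtype.val this
      apply hzG1
      have := congrArg (fun x => g * x * g⁻¹) h8
      simpa [mul_assoc] using this
    · have : (⟨g⁻¹ * (z₀ : G) * g, hwS⟩ : (S : Subgroup G)) = c₀ := by
        apply e.injective; rw [h5, ec]
      exact hfus g (congrArg Subtype.val this)
  -- the number of fixed points is divisible by 4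
  have h4 : 4 ∣ Fintype.card (Function.fixedPoints τ) := by
    have : Fintype (Quotient (MulAction.orbitRel (S : Subgroup G) (Function.fixedPoints τ))) :=
      Fintype.ofFinite _
    have : ∀ b : Function.fixedPoints τ, Fintype (MulAction.stabilizer (S : Subgroup G) b) :=
      fun b => Fintype.ofFinite _
    rw [MulAction.card_eq_sum_card_group_div_card_stabilizer (S : Subgroup G) (Function.fixedPoints τ)]
    apply Finset.dvd_sum
    intro ω _
    have hS16 : Fintype.card (S : Subgroup G) = 16 := by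
      rw [← Nat.card_eq_fintype_card, hcardS]
    rw [hS16]
    apply four_dvd_of
    · rw [← hS16, ← Nat.card_eq_fintype_card, ← Nat.card_eq_fintype_card]
      exact Subgroup.card_subgroup_dvd_card _
    · rw [← Nat.card_eq_fintype_card]
      exact hstab _
  -- hence τ is an odd permutation
  have hcardX : Fintype.card (G ⧸ M) = 2 * (S : Subgroup G).index := by
    rw [← Nat.card_eq_fintype_card, ← Subgroup.index_eq_card, hidx]
  have hle : Fintype.card (Function.fixedPoints τ) ≤ Fintype.card (G ⧸ M) :=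
    Fintype.card_subtype_le _
  have hodd : Odd ((Fintype.card (G ⧸ M) - Fintype.card (Function.fixedPoints τ)) / 2) := by
    obtain ⟨k, hk⟩ := h4
    rw [Nat.odd_iff]
    omega
  have hsgn : Equiv.Perm.sign τ = -1 := by
    rw [hsign, hodd.neg_one_pow]
  -- the sign homomorphism
  set sgn : G →* ℤˣ := Equiv.Perm.sign.comp (MulAction.toPermHom G (G ⧸ M)) with hsgnd
  rcases (sgn.normal_ker).eq_bot_or_eq_top with hk | hk
  · apply hG
    refine ⟨⟨fun a b => ?_⟩⟩
    have hinj := (MonoidHom.ker_eq_bot_iff sgn).mp hk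
    apply hinj
    rw [map_mul, map_mul, mul_comm]
  · have : (z₀ : G) ∈ sgn.ker := by rw [hk]; exact Subgroup.mem_top _
    rw [MonoidHom.mem_ker] at this
    have h9 : sgn (z₀ : G) = Equiv.Perm.sign τ := rfl
    rw [h9, hsgn] at this
    exact absurd this (by decide)

end Cfsg.Agent.S3309
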