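import Mathlib
import Cfsg.Statements.S3315
import Cfsg.Agent.Lib.helper58.SU3Aut
-- import your own Cfsg.Agent.* helpers here

set_option autoImplicit false
open Cfsg

namespace Cfsg.Agent.S3315

open Cfsg.Agent.Lib.helper58 in
/-- Let S be a Sylow 2-subgroup of SU₃(2ⁿ), n ≥ 2 (realised over the field with 4ⁿ elements). If a finite 2-group R contains a subgroup S' of index 2 isomorphic to S, then the centre of S' is contained in the centre of R. -/
theorem result {R : Type*} [Group R] [Finite R]
    (hR : IsPGroup 2 R) (n : ℕ) (hn : 2 ≤ n) {F : Type*} [Field F] [Fintype F] (hF : Fintype.card F = 4 ^ n)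
    (P : Sylow 2 ↥(Cfsg.SU 3 F (2 ^ n))) (S' : Subgroup R) (hS : Nonempty (↥S' ≃* ↥(P : Subgroup ↥(Cfsg.SU 3 F (2 ^ n)))))
    (hidx : S'.index = 2) :
    (Subgroup.center ↥S').map S'.subtype ≤ Subgroup.center R := by
  have hF' : Fintype.card F = (2 ^ n) ^ 2 := by
    rw [hF, ← pow_mul, mul_comm, pow_mul]; norm_num
  have hq : Even (2 ^ n) := (Nat.even_pow' (by omega)).mpr even_two
  have h2 : (2 : F) = 0 := two_eq_zero_of_even hF' hq
  obtain ⟨c0⟩ := exists_ucoord_of_sylow_SU hF' h2 P
  obtain ⟨e⟩ := hS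
  let c : UCoord ↥S' F (2 ^ n) := c0.congr e
  have hnorm : S'.Normal := Subgroup.normal_of_index_eq_two hidx
  rintro _ ⟨z, hz, rfl⟩
  rw [Subgroup.mem_center_iff]
  intro r
  have key := c.aut_fixes_center hF' h2 (MulAut.conjNormal r) (by
    intro g
    have hrr : r * r ∈ S' := Subgroup.mul_self_mem_of_index_two hidx r
    have e1 : MulAut.conjNormal r (MulAut.conjNormal r g)
        = (⟨r * r, hrr⟩ : S') * g * (⟨r * r, hrr⟩ : S')⁻¹ := by
      apply Subtype.ext
      simp only [MulAut.conjNormal_apply, Subgroup.coe_mul, Subgroup.coe_inv]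
      group
    rw [e1, c.fst_conj]) z hz
  have key' := congrArg Subtype.val key
  rw [MulAut.conjNormal_apply] at key'
  show r * (z : R) = (z : R) * r
  calc r * (z : R) = r * z * r⁻¹ * r := by group
    _ = z * r := by rw [key']

end Cfsg.Agent.S3315
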