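import Cfsg.Statements.S3349

set_option autoImplicit false
open Cfsg

namespace Cfsg.Agent.S3349

/-- Let Q be a finite extraspecial p-group and α an automorphism of Q fixing every element of some maximal abelian subgroup of Q. Then the order of α is a power of p. -/
theorem result {Q : Type*} [Group Q] [Finite Q]
    (p : ℕ) [Fact p.Prime] (hQ : Cfsg.IsExtraspecial p Q) (α : MulAut Q)
    (A : Subgroup Q) (hA : IsMulCommutative A) (hmax : ∀ B : Subgroup Q, A ≤ B → IsMulCommutative B → B = A)
    (hfix : ∀ a ∈ A, α a = a) :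
    ∃ k : ℕ, orderOf α = p ^ k := by
  classical
  -- commutativity of A in elementwise form
  have hAcomm : ∀ a ∈ A, ∀ b ∈ A, a * b = b * a := by
    intro a ha b hb
    have h := hA.is_comm.comm (⟨a, ha⟩ : A) ⟨b, hb⟩
    exact congrArg Subtype.val h
  -- anything centralizing A lies in A
  have hcent : ∀ c : Q, (∀ a ∈ A, c * a = a * c) → c ∈ A := by
    intro c hc
    have hB : IsMulCommutative (Subgroup.closure ((A : Set Q) ∪ {c}) : Subgroup Q) := by
      have key : ∀ x ∈ (A : Set Q) ∪ {c}, ∀ y ∈ (A : Set Q) ∪ {c}, x * y = y * x := by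
        intro x hx y hy
        rcases hx with hx | hx <;> rcases hy with hy | hy
        · exact hAcomm x hx y hy
        · rw [Set.mem_singleton_iff] at hy; subst hy; exact (hc x hx).symm
        · rw [Set.mem_singleton_iff] at hx; subst hx; exact hc y hy
        · rw [Set.mem_singleton_iff] at hx hy; subst hx; subst hy; rfl
      exact Subgroup.isMulCommutative_closure (k := (A : Set Q) ∪ {c}) key
    have hle : A ≤ Subgroup.closure ((A : Set Q) ∪ {c}) := by
      intro a ha
      exact Subgroup.subset_closure (Or.inl ha)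
    have hBA := hmax _ hle hB
    have : c ∈ Subgroup.closure ((A : Set Q) ∪ {c}) := Subgroup.subset_closure (Or.inr rfl)
    rw [hBA] at this
    exact this
  -- the centre lies in A
  have hZA : Subgroup.center Q ≤ A := by
    intro c hc
    apply hcent
    intro a _
    exact (Subgroup.mem_center_iff.mp hc a).symm
  -- commutators lie in A
  have hcommA : ∀ x a : Q, x * a * x⁻¹ * a⁻¹ ∈ A := by
    intro x a
    apply hZA
    rw [← hQ.1.2.2]
    rw [commutator_def]
    have : x * a * x⁻¹ * a⁻¹ ∈ ⁅(⊤ : Subgroup Q), (⊤ : Subgroup Q)⁆ := by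
      have h := Subgroup.commutator_mem_commutator (Subgroup.mem_top x) (Subgroup.mem_top a)
      rwa [commutatorElement_def] at h
    exact this
  -- α moves x by an element of A
  have hmove : ∀ x : Q, x⁻¹ * α x ∈ A := by
    intro x
    apply hcent
    intro a ha
    have h1 : x * a * x⁻¹ ∈ A := by
      have := A.mul_mem (hcommA x a) ha
      simpa [mul_assoc] using this
    have h2 : α (x * a * x⁻¹) = x * a * x⁻¹ := hfix _ h1
    have h3 : α x * a * (α x)⁻¹ = x * a * x⁻¹ := by
      rw [← h2, map_mul, map_mul, map_inv, hfix a ha]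
    -- x⁻¹ * α x * a = a * (x⁻¹ * α x)
    have h4 : α x * a = x * a * x⁻¹ * α x := by
      rw [← h3]; group
    calc x⁻¹ * α x * a = x⁻¹ * (α x * a) := by group
      _ = x⁻¹ * (x * a * x⁻¹ * α x) := by rw [h4]
      _ = a * (x⁻¹ * α x) := by group
  -- powers of α
  have hpow : ∀ (n : ℕ) (x : Q), (α ^ n) x = x * (x⁻¹ * α x) ^ n := by
    intro n
    induction n with
    | zero => intro x; simp
    | succ n ih =>
      intro x
      rw [pow_succ', MulAut.mul_apply, ih, map_mul, map_pow, hfix _ (hmove x), pow_succ']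
      simp [mul_assoc]
  have hα : α ^ (Nat.card Q) = 1 := by
    ext x
    rw [hpow, pow_card_eq_one', mul_one]
    rfl
  have hdvd : orderOf α ∣ Nat.card Q := orderOf_dvd_of_pow_eq_one hα
  obtain ⟨n, hn⟩ := hQ.1.1.exists_card_eq
  rw [hn] at hdvd
  obtain ⟨k, _, hk⟩ := (Nat.dvd_prime_pow (Fact.out)).mp hdvd
  exact ⟨k, hk⟩

end Cfsg.Agent.S3349
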