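import Cfsg.Statements.S3356
import Mathlib

set_option autoImplicit false
set_option linter.unusedSectionVars false
open Cfsg

namespace Cfsg.Agent.S3356

open MulAction Pointwise

/-- Counting lemma: if every point of an invariant subset has stabilizer index divisible by `s`,
then `s` divides the cardinality of the subset. -/
theorem dvd_card_of_forall_dvd_index {K X : Type*} [Group K] [MulAction K X] [Finite X]
    (Y : Set X) (hY : ∀ k : K, ∀ y ∈ Y, k • y ∈ Y) (s : ℕ)
    (hs : ∀ y ∈ Y, s ∣ (stabilizer K y).index) : s ∣ Nat.card Y := by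
  classical
  let p : SubMulAction K X := ⟨Y, fun k {y} hy => hY k y hy⟩
  have e := MulAction.selfEquivSigmaOrbits' K p
  have h0 : Nat.card Y = Nat.card p := rfl
  rw [h0, Nat.card_congr e]
  have : Fintype (orbitRel.Quotient K p) := Fintype.ofFinite _
  rw [Nat.card_sigma]
  apply Finset.dvd_sum
  intro ω _
  induction ω using Quotient.inductionOn' with
  | h y =>
    have h1 : Nat.card (orbitRel.Quotient.orbit (Quotient.mk'' y : orbitRel.Quotient K p)) =
        (stabilizer K y).index := by
      rw [orbitRel.Quotient.orbit_mk, Subgroup.index]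
      exact Nat.card_congr (orbitEquivQuotientStabilizer K y)
    rw [h1, SubMulAction.stabilizer_of_subMul]
    exact hs y.1 y.2

section abs

variable {H N : Type*} [Group H] [Group N] [Finite H] [Finite N] [MulDistribMulAction H N]

theorem stab_eq_of_le {c : ℕ} (hc : ∀ x : N, x ≠ 1 → Nat.card (stabilizer H x) = c) {x y : N}
    (hx : x ≠ 1) (hy : y ≠ 1) (h : stabilizer H x ≤ stabilizer H y) :
    stabilizer H x = stabilizer H y :=
  Subgroup.eq_of_le_of_card_ge h (by rw [hc x hx, hc y hy])

theorem stab_inv (x : N) : stabilizer H x⁻¹ = stabilizer H x := by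
  ext h
  simp only [mem_stabilizer_iff, smul_inv', inv_inj]

theorem index_eq {c m : ℕ} (hc : ∀ x : N, x ≠ 1 → Nat.card (stabilizer H x) = c) (hc0 : 0 < c)
    (hm : Nat.card H = m * c) {x : N} (hx : x ≠ 1) : (stabilizer H x).index = m := by
  have h1 := Subgroup.index_mul_card (stabilizer H x)
  rw [hc x hx, hm] at h1
  exact Nat.eq_of_mul_eq_mul_right hc0 h1

theorem card_ne_one_set (W : Subgroup N) :
    Nat.card {z : N | z ∈ W ∧ z ≠ 1} + 1 = Nat.card W := by
  classical
  have h1 : Nat.card W = Nat.card {z : N | z ∈ W} := rfl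
  rw [h1, Nat.card_coe_set_eq, Nat.card_coe_set_eq]
  have h2 : {z : N | z ∈ W ∧ z ≠ 1} = {z : N | z ∈ W} \ {1} := by
    ext z
    simp
  rw [h2, Set.ncard_sdiff_singleton_add_one (show (1 : N) ∈ {z : N | z ∈ W} from W.one_mem)]

theorem coprime_card_sub {c m : ℕ} (hc : ∀ x : N, x ≠ 1 → Nat.card (stabilizer H x) = c)
    (hc0 : 0 < c) (hm : Nat.card H = m * c) (W : Subgroup N)
    (hW : ∀ h : H, ∀ w ∈ W, h • w ∈ W) : Nat.Coprime (Nat.card W) m := by
  have h1 : m ∣ Nat.card {z : N | z ∈ W ∧ z ≠ 1} := by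
    apply dvd_card_of_forall_dvd_index (K := H)
    · rintro k y ⟨hy1, hy2⟩
      refine ⟨hW k y hy1, ?_⟩
      intro h
      apply hy2
      have := congrArg (fun t => k⁻¹ • t) h
      simpa using this
    · rintro y ⟨_, hy2⟩
      rw [index_eq hc hc0 hm hy2]
  rw [← card_ne_one_set W]
  obtain ⟨k, hk⟩ := h1
  rw [hk]
  have : Nat.Coprime (m * k + 1) m := by
    rw [Nat.coprime_mul_left_add_left]
    exact Nat.coprime_one_left m
  exact this

theorem coprime_card {c m : ℕ} (hc : ∀ x : N, x ≠ 1 → Nat.card (stabilizer H x) = c)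
    (hc0 : 0 < c) (hm : Nat.card H = m * c) : Nat.Coprime (Nat.card N) m := by
  have := coprime_card_sub hc hc0 hm (⊤ : Subgroup N) (fun _ _ _ => Subgroup.mem_top _)
  rwa [Subgroup.card_top] at this

/-- A set all of whose point stabilizers lie in its setwise stabilizer and whose size is prime
to the common orbit length has all point stabilizers equal to the setwise stabilizer. -/
theorem stab_eq_of_mem {c m : ℕ} (hc : ∀ x : N, x ≠ 1 → Nat.card (stabilizer H x) = c)
    (hc0 : 0 < c) (hm : Nat.card H = m * c)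
    (S : Set N) (hS1 : ∀ z ∈ S, z ≠ 1) (hSstab : ∀ z ∈ S, stabilizer H z ≤ stabilizer H S)
    (hcop : Nat.Coprime (Nat.card S) m) :
    ∀ z ∈ S, stabilizer H z = stabilizer H S := by
  intro z0 hz0
  set K : Subgroup H := stabilizer H S with hK
  -- the common index r
  have hidx : ∀ z ∈ S, Nat.card K = (stabilizer K z).index * c := by
    intro z hz
    have e1 : stabilizer K z = (stabilizer H z).subgroupOf K := by
      ext k
      simp only [mem_stabilizer_iff, Subgroup.mem_subgroupOf]
      rfl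
    rw [e1, ← Subgroup.index_mul_card ((stabilizer H z).subgroupOf K),
      Nat.card_congr (Subgroup.subgroupOfEquivOfLe (hSstab z hz)).toEquiv, hc z (hS1 z hz)]
  have hinv : ∀ k : K, ∀ y ∈ S, k • y ∈ S := by
    intro k y hy
    have h1 : (k : H) • S = S := mem_stabilizer_iff.mp k.2
    have h2 : (k : H) • y ∈ (k : H) • S := Set.smul_mem_smul_set hy
    rw [h1] at h2
    exact h2
  have hr : (stabilizer K z0).index ∣ Nat.card S := by
    apply dvd_card_of_forall_dvd_index (K := K) S hinv
    intro y hy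
    have h1 := hidx y hy
    rw [hidx z0 hz0] at h1
    rw [Nat.eq_of_mul_eq_mul_right hc0 h1]
  have hr2 : (stabilizer K z0).index ∣ m := by
    have h1 : Nat.card K ∣ Nat.card H := Subgroup.card_subgroup_dvd_card K
    rw [hidx z0 hz0, hm] at h1
    exact (Nat.mul_dvd_mul_iff_right hc0).mp h1
  have hr1 : (stabilizer K z0).index = 1 := Nat.eq_one_of_dvd_coprimes hcop hr hr2
  apply Subgroup.eq_of_le_of_card_ge (hSstab z0 hz0)
  rw [hc z0 (hS1 z0 hz0), hidx z0 hz0, hr1, one_mul]

end abs

section main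

variable {H N : Type*} [Group H] [Group N] [Finite H] [Finite N] [MulDistribMulAction H N]
variable {c m : ℕ} (hc : ∀ x : N, x ≠ 1 → Nat.card (stabilizer H x) = c) (hc1 : 1 < c)
  (hm : Nat.card H = m * c) (hF : ∀ h : H, (∀ x : N, h • x = x) → h = 1)

include hc hc1 hm in
theorem stab_conj {x : N} (hx : x ≠ 1) (n : N) :
    stabilizer H (n * x * n⁻¹) = stabilizer H x := by
  have hc0 : 0 < c := by omega
  set S : Set N := {y | ∃ k : N, y = k * x * k⁻¹} with hS
  have hS1 : ∀ z ∈ S, z ≠ 1 := by
    rintro z ⟨k, rfl⟩ h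
    apply hx
    have : x = k⁻¹ * (k * x * k⁻¹) * k := by group
    rw [this, h]
    group
  have hSstab : ∀ z ∈ S, stabilizer H z ≤ stabilizer H S := by
    rintro z ⟨k, rfl⟩ h hh
    rw [mem_stabilizer_set_iff_smul_set_subset (Set.toFinite S)]
    rintro _ ⟨w, ⟨k', rfl⟩, rfl⟩
    have hh' : h • (k * x * k⁻¹) = k * x * k⁻¹ := hh
    refine ⟨(h • (k' * k⁻¹)) * k, ?_⟩
    have e : k' * x * k'⁻¹ = (k' * k⁻¹) * (k * x * k⁻¹) * (k' * k⁻¹)⁻¹ := by group
    show h • (k' * x * k'⁻¹) = _
    rw [e, smul_mul', smul_mul', smul_inv', hh']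
    group
  have hcop : Nat.Coprime (Nat.card S) m := by
    apply Nat.Coprime.coprime_dvd_left _ (coprime_card hc hc0 hm)
    have e : S = orbit (ConjAct N) x := by
      ext y
      rw [ConjAct.mem_orbit_conjAct, isConj_comm, isConj_iff]
      constructor
      · rintro ⟨k, rfl⟩
        exact ⟨k, rfl⟩
      · rintro ⟨k, hk⟩
        exact ⟨k, hk.symm⟩
    rw [e, Nat.card_coe_set_eq, ← index_stabilizer]
    have := Subgroup.index_dvd_card (stabilizer (ConjAct N) x)
    exact this
  have h1 := stab_eq_of_mem hc hc0 hm S hS1 hSstab hcop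
  rw [h1 (n * x * n⁻¹) ⟨n, rfl⟩, h1 x ⟨1, by group⟩]

include hc hc1 hF in
theorem exists_not_fixed {x : N} (hx : x ≠ 1) :
    ∃ z : N, z ≠ 1 ∧ ¬ stabilizer H x ≤ stabilizer H z := by
  have h1 : stabilizer H x ≠ ⊥ := by
    rw [← Subgroup.one_lt_card_iff_ne_bot, hc x hx]
    exact hc1
  obtain ⟨h, hh1⟩ := (Subgroup.ne_bot_iff_exists_ne_one.mp h1)
  have : ∃ z : N, (h : H) • z ≠ z := by
    by_contra hcon
    simp only [ne_eq, not_exists, not_not] at hcon
    apply hh1
    exact Subtype.ext (hF h hcon)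
  obtain ⟨z, hz⟩ := this
  refine ⟨z, ?_, ?_⟩
  · rintro rfl
    exact hz (smul_one _)
  · intro hle
    exact hz (hle h.2)

include hc hc1 hm in
theorem comm_of_ne {x y : N} (hx : x ≠ 1) (hy : y ≠ 1)
    (hxy : stabilizer H x ≠ stabilizer H y) : x * y = y * x := by
  by_contra hne
  have hk : x * y * x⁻¹ * y⁻¹ ≠ 1 := by
    intro h
    apply hne
    have : x * y = (x * y * x⁻¹ * y⁻¹) * (y * x) := by group
    rw [this, h, one_mul]
  have h1 : stabilizer H y ≤ stabilizer H (x * y * x⁻¹ * y⁻¹) := by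
    intro h hh
    have e1 : h • y = y := hh
    have e2 : h • (x * y * x⁻¹) = x * y * x⁻¹ := by
      have : h ∈ stabilizer H (x * y * x⁻¹) := by
        rw [stab_conj hc hc1 hm hy x]; exact hh
      exact this
    show h • (x * y * x⁻¹ * y⁻¹) = _
    rw [smul_mul', smul_inv', e1, e2]
  have h2 : stabilizer H x ≤ stabilizer H (x * y * x⁻¹ * y⁻¹) := by
    intro h hh
    have e1 : h • x = x := hh
    have e2 : h • (y * x⁻¹ * y⁻¹) = y * x⁻¹ * y⁻¹ := by
      have : h ∈ stabilizer H (y * x⁻¹ * y⁻¹) := by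
        rw [stab_conj hc hc1 hm (inv_ne_one.mpr hx) y, stab_inv]; exact hh
      exact this
    have e : x * y * x⁻¹ * y⁻¹ = x * (y * x⁻¹ * y⁻¹) := by group
    show h • (x * y * x⁻¹ * y⁻¹) = _
    rw [e, smul_mul', e1, e2]
  exact hxy ((stab_eq_of_le hc hx hk h2).trans (stab_eq_of_le hc hy hk h1).symm)

include hc hc1 hm hF in
theorem comm (x y : N) : x * y = y * x := by
  by_cases hx : x = 1
  · rw [hx, one_mul, mul_one]
  by_cases hy : y = 1
  · rw [hy, one_mul, mul_one]
  by_cases hxy : stabilizer H x = stabilizer H y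
  · obtain ⟨z, hz, hzx⟩ := exists_not_fixed hc hc1 hF hx
    have hxz : stabilizer H x ≠ stabilizer H z := fun h => hzx h.le
    have c1 : x * z = z * x := comm_of_ne hc hc1 hm hx hz hxz
    have hyz : y * z ≠ 1 := by
      intro h
      have : z = y⁻¹ := by
        rw [eq_inv_iff_mul_eq_one, ← h]
        have := comm_of_ne hc hc1 hm hy hz (hxy ▸ hxz)
        exact this.symm
      apply hxz
      rw [this, stab_inv, hxy]
    have hxyz : stabilizer H x ≠ stabilizer H (y * z) := by
      intro h
      apply hzx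
      intro g hg
      have e1 : g • y = y := by rw [hxy] at hg; exact hg
      have e2 : g • (y * z) = y * z := by rw [h] at hg; exact hg
      rw [smul_mul', e1] at e2
      exact mul_left_cancel e2
    have c2 : x * (y * z) = (y * z) * x := comm_of_ne hc hc1 hm hx hyz hxyz
    have : x * y * z = y * x * z := by
      rw [mul_assoc, c2, mul_assoc, ← c1, mul_assoc]
    exact mul_right_cancel this
  · exact comm_of_ne hc hc1 hm hx hy hxy

include hc hc1 hm hF in
theorem pow_orderOf_of_ne {x y : N} (hx : x ≠ 1) (hy : y ≠ 1)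
    (hxy : stabilizer H x ≠ stabilizer H y) : y ^ orderOf x = 1 := by
  by_contra hya
  have e : (x * y) ^ orderOf x = y ^ orderOf x := by
    have hcomm : Commute x y := comm hc hc1 hm hF x y
    rw [hcomm.mul_pow, pow_orderOf_eq_one, one_mul]
  have hxy1 : x * y ≠ 1 := by
    intro h
    rw [h, one_pow] at e
    exact hya e.symm
  have h1 : stabilizer H y = stabilizer H (y ^ orderOf x) := by
    apply stab_eq_of_le hc hy hya
    intro g hg
    have e1 : g • y = y := hg
    show g • (y ^ orderOf x) = _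
    rw [smul_pow', e1]
  have h2 : stabilizer H (x * y) = stabilizer H (y ^ orderOf x) := by
    apply stab_eq_of_le hc hxy1 hya
    intro g hg
    have e1 : g • (x * y) = x * y := hg
    show g • (y ^ orderOf x) = _
    rw [← e, smul_pow', e1]
  have h3 : stabilizer H (x * y) = stabilizer H x := by
    apply stab_eq_of_le hc hxy1 hx
    intro g hg
    have e1 : g • (x * y) = x * y := hg
    have e2 : g • y = y := by
      have : g ∈ stabilizer H y := by rw [h1, ← h2]; exact hg
      exact this
    rw [smul_mul', e2] at e1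
    exact mul_right_cancel e1
  exact hxy (h3.symm.trans (h2.trans h1.symm))

include hc hc1 hm hF in
theorem orderOf_eq {x y : N} (hx : x ≠ 1) (hy : y ≠ 1) : orderOf x = orderOf y := by
  have key : ∀ {x y : N}, x ≠ 1 → y ≠ 1 → stabilizer H x ≠ stabilizer H y →
      orderOf x = orderOf y := by
    intro x y hx hy hxy
    apply Nat.dvd_antisymm
    · exact orderOf_dvd_of_pow_eq_one (pow_orderOf_of_ne hc hc1 hm hF hy hx (Ne.symm hxy))
    · exact orderOf_dvd_of_pow_eq_one (pow_orderOf_of_ne hc hc1 hm hF hx hy hxy)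
  by_cases hxy : stabilizer H x = stabilizer H y
  · obtain ⟨z, hz, hzx⟩ := exists_not_fixed hc hc1 hF hx
    have hxz : stabilizer H x ≠ stabilizer H z := fun h => hzx h.le
    rw [key hx hz hxz, key hy hz (hxy ▸ hxz)]
  · exact key hx hy hxy

include hc hc1 hm hF in
theorem exists_prime_exp : ∃ p : ℕ, p.Prime ∧ ∀ x : N, x ^ p = 1 := by
  by_cases hN : ∀ x : N, x = 1
  · exact ⟨2, Nat.prime_two, fun x => by rw [hN x, one_pow]⟩
  · simp only [not_forall] at hN
    obtain ⟨x0, hx0⟩ := hN
    have h1 : 1 < Nat.card N := by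
      rw [Finite.one_lt_card_iff_nontrivial]
      exact ⟨⟨x0, 1, hx0⟩⟩
    obtain ⟨p, hp, hpd⟩ := Nat.exists_prime_and_dvd (Nat.ne_of_gt h1)
    have : Fact p.Prime := ⟨hp⟩
    obtain ⟨g, hg⟩ := exists_prime_orderOf_dvd_card' p hpd
    have hg1 : g ≠ 1 := by
      rintro rfl
      rw [orderOf_one] at hg
      exact hp.one_lt.ne hg
    refine ⟨p, hp, fun x => ?_⟩
    by_cases hx : x = 1
    · rw [hx, one_pow]
    · rw [← hg, ← orderOf_eq hc hc1 hm hF hx hg1]
      exact pow_orderOf_eq_one x

include hc hc1 hm hF in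
theorem irreducible (W : Subgroup N) (hW : ∀ h : H, ∀ w ∈ W, h • w ∈ W) (hW0 : W ≠ ⊥) :
    W = ⊤ := by
  have hc0 : 0 < c := by omega
  by_contra hWtop
  obtain ⟨⟨w0, hw0⟩, hw01⟩ := Subgroup.ne_bot_iff_exists_ne_one.mp hW0
  have hw01' : (w0 : N) ≠ 1 := fun h => hw01 (Subtype.ext h)
  -- key claim
  have claim : ∀ y : N, y ∉ W → ∀ w ∈ W, stabilizer H y ≤ stabilizer H w := by
    intro y hy w hw
    set S : Set N := {z | y⁻¹ * z ∈ W} with hS
    have hS1 : ∀ z ∈ S, z ≠ 1 := by
      rintro z hz rfl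
      apply hy
      have : y⁻¹ * 1 ∈ W := hz
      rw [mul_one] at this
      exact (Subgroup.inv_mem_iff W).mp this
    have hSstab : ∀ z ∈ S, stabilizer H z ≤ stabilizer H S := by
      intro z0 hz0 h hh
      rw [mem_stabilizer_set_iff_smul_set_subset (Set.toFinite S)]
      rintro _ ⟨z, hz, rfl⟩
      have hh' : h • z0 = z0 := hh
      have e : y⁻¹ * h • z = (y⁻¹ * z0) * (h • (z0⁻¹ * z)) := by
        rw [smul_mul', smul_inv', hh']
        group
      show y⁻¹ * h • z ∈ W
      rw [e]
      apply W.mul_mem hz0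
      apply hW
      have e2 : z0⁻¹ * z = (y⁻¹ * z0)⁻¹ * (y⁻¹ * z) := by group
      rw [e2]
      exact W.mul_mem (W.inv_mem hz0) hz
    have hcop : Nat.Coprime (Nat.card S) m := by
      have e : Nat.card S = Nat.card W := by
        apply Nat.card_congr
        refine ⟨fun z => ⟨y⁻¹ * z.1, z.2⟩, fun w => ⟨y * w.1, ?_⟩, ?_, ?_⟩
        · show y⁻¹ * (y * w.1) ∈ W
          rw [inv_mul_cancel_left]
          exact w.2
        · intro z
          apply Subtype.ext
          show y * (y⁻¹ * z.1) = z.1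
          rw [mul_inv_cancel_left]
        · intro w
          apply Subtype.ext
          show y⁻¹ * (y * w.1) = w.1
          rw [inv_mul_cancel_left]
      rw [e]
      exact coprime_card_sub hc hc0 hm W hW
    have h1 := stab_eq_of_mem hc hc0 hm S hS1 hSstab hcop
    have hyS : y ∈ S := by
      show y⁻¹ * y ∈ W
      rw [inv_mul_cancel]
      exact W.one_mem
    have hywS : y * w ∈ S := by
      show y⁻¹ * (y * w) ∈ W
      rw [inv_mul_cancel_left]
      exact hw
    intro g hg
    have e1 : g • y = y := hg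
    have e2 : g • (y * w) = y * w := by
      have : g ∈ stabilizer H (y * w) := by rw [h1 _ hywS, ← h1 _ hyS]; exact hg
      exact this
    rw [smul_mul', e1] at e2
    exact mul_left_cancel e2
  have hy1 : ∀ y : N, y ∉ W → y ≠ 1 := by
    rintro y hy rfl
    exact hy W.one_mem
  have hall : ∀ y : N, y ∉ W → stabilizer H y = stabilizer H (w0 : N) := fun y hy =>
    stab_eq_of_le hc (hy1 y hy) hw01' (claim y hy w0 hw0)
  obtain ⟨y0, hy0⟩ : ∃ y0 : N, y0 ∉ W := by
    by_contra hcon
    simp only [not_exists, not_not] at hcon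
    exact hWtop ((Subgroup.eq_top_iff' W).mpr hcon)
  have hbot : stabilizer H (w0 : N) = ⊥ := by
    rw [Subgroup.eq_bot_iff_forall]
    intro g hg
    apply hF
    intro z
    by_cases hz : z ∈ W
    · have : g ∈ stabilizer H y0 := by rw [hall y0 hy0]; exact hg
      exact claim y0 hy0 z hz this
    · have : g ∈ stabilizer H z := by rw [hall z hz]; exact hg
      exact this
  have := hc (w0 : N) hw01'
  rw [hbot, Subgroup.card_bot] at this
  omega

end main

/-- Let G be a finite 3/2-transitive permutation group: G acts faithfully and transitively on a finite set, the point stabilizers are non-trivial, and for each point a all orbits of G_a on the remaining points have the same size. Suppose G has a regular normal subgroup N and G is not a Frobenius group (some two-point stabilizer is non-trivial). Then N is an elementary abelian p-group for some prime p, and every non-trivial normal subgroup of G contains N (so N is the unique minimal normal subgroup). -/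
theorem result {G Ω : Type*} [Group G] [Finite G]
    [MulAction G Ω] [FaithfulSMul G Ω] [Finite Ω] (htrans : MulAction.IsPretransitive G Ω)
    (hne : ∀ a : Ω, MulAction.stabilizer G a ≠ ⊥)
    (hhalf : ∀ a b c : Ω, b ≠ a → c ≠ a →
      Nat.card (MulAction.orbit (MulAction.stabilizer G a) b) = Nat.card (MulAction.orbit (MulAction.stabilizer G a) c))
    (N : Subgroup G) [hN : N.Normal] (hNt : MulAction.IsPretransitive N Ω) (hNr : ∀ a : Ω, MulAction.stabilizer N a = ⊥)
    (hnotF : ∃ a b : Ω, a ≠ b ∧ MulAction.stabilizer G a ⊓ MulAction.stabilizer G b ≠ ⊥) :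
    (∃ p : ℕ, p.Prime ∧ IsMulCommutative N ∧ ∀ x ∈ N, x ^ p = 1) ∧
    (∀ M : Subgroup G, M.Normal → M ≠ ⊥ → N ≤ M) := by
  classical
  obtain ⟨a, b0, hab, hne0⟩ := hnotF
  set H : Subgroup G := stabilizer G a with hH
  let act : MulDistribMulAction ↥H ↥N :=
    MulDistribMulAction.compHom ↥N ((MulAut.conjNormal (H := N)).comp H.subtype)
  have hsmul : ∀ (h : H) (n : N), ((h • n : N) : G) = (h : G) * n * (h : G)⁻¹ := fun h n => rfl
  have hHa : ∀ h : H, (h : G) • a = a := fun h => h.2
  -- the stabilizer of `x` under conjugation is the stabilizer of the point `x • a`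
  have hstab : ∀ x : ↥N, stabilizer ↥H x = stabilizer ↥H ((x : G) • a) := by
    intro x
    ext h
    rw [mem_stabilizer_iff, mem_stabilizer_iff]
    constructor
    · intro hx
      have e : (h : G) * x * (h : G)⁻¹ = x := by rw [← hsmul, hx]
      have e' : (h : G) * x = x * h := by
        calc (h : G) * x = ((h : G) * x * (h : G)⁻¹) * h := by group
          _ = x * h := by rw [e]
      show (h : G) • ((x : G) • a) = (x : G) • a
      rw [← mul_smul, e', mul_smul, hHa]
    · intro hx
      have hx' : (h : G) • ((x : G) • a) = (x : G) • a := hx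
      have h1 : ((x : G)⁻¹ * ((h : G) * x * (h : G)⁻¹)) • a = a := by
        rw [mul_smul, mul_smul, mul_smul, inv_smul_eq_iff]
        have : (h : G)⁻¹ • a = a := by rw [inv_smul_eq_iff, hHa]
        rw [this, hx']
      have h2 : (x : G)⁻¹ * ((h : G) * x * (h : G)⁻¹) ∈ N :=
        N.mul_mem (N.inv_mem x.2) (hN.conj_mem _ x.2 _)
      have h3 : (⟨_, h2⟩ : ↥N) ∈ stabilizer ↥N a := h1
      rw [hNr a, Subgroup.mem_bot] at h3
      have h4 : (x : G)⁻¹ * ((h : G) * x * (h : G)⁻¹) = 1 := congrArg Subtype.val h3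
      apply Subtype.ext
      rw [hsmul]
      exact (inv_mul_eq_one.mp h4).symm
  set c : ℕ := Nat.card (stabilizer ↥H b0) with hcdef
  have hc : ∀ x : ↥N, x ≠ 1 → Nat.card (stabilizer ↥H x) = c := by
    intro x hx
    have hb : (x : G) • a ≠ a := by
      intro h
      have h3 : x ∈ stabilizer ↥N a := h
      rw [hNr a, Subgroup.mem_bot] at h3
      exact hx h3
    rw [hstab x]
    have h1 := hhalf a ((x : G) • a) b0 hb hab.symm
    have i1 := Subgroup.index_mul_card (stabilizer ↥H ((x : G) • a))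
    have i2 := Subgroup.index_mul_card (stabilizer ↥H b0)
    rw [index_stabilizer, ← Nat.card_coe_set_eq] at i1 i2
    rw [h1, ← i2] at i1
    have hne' : Nonempty (orbit ↥H b0) := ⟨⟨b0, mem_orbit_self b0⟩⟩
    have hpos : 0 < Nat.card (orbit ↥H b0) := Nat.card_pos
    exact Nat.eq_of_mul_eq_mul_left hpos i1
  have hc1 : 1 < c := by
    rw [hcdef, Subgroup.one_lt_card_iff_ne_bot]
    intro hbot
    apply hne0
    rw [Subgroup.eq_bot_iff_forall]
    intro g hg
    have h1 : (⟨g, hg.1⟩ : ↥H) ∈ stabilizer ↥H b0 := hg.2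
    rw [hbot, Subgroup.mem_bot] at h1
    exact congrArg Subtype.val h1
  obtain ⟨x0, hx0⟩ : ∃ x0 : ↥N, x0 ≠ 1 := by
    obtain ⟨n, hn⟩ := MulAction.exists_smul_eq ↥N a b0
    refine ⟨n, ?_⟩
    rintro rfl
    rw [one_smul] at hn
    exact hab hn
  have hm : Nat.card ↥H = (stabilizer ↥H x0).index * c := by
    rw [← hc x0 hx0]
    exact (Subgroup.index_mul_card _).symm
  have hF : ∀ h : ↥H, (∀ x : ↥N, h • x = x) → h = 1 := by
    intro h hh
    apply Subtype.ext
    apply FaithfulSMul.eq_of_smul_eq_smul (α := Ω)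
    intro ω
    obtain ⟨n, rfl⟩ := MulAction.exists_smul_eq ↥N a ω
    have e : (h : G) * n * (h : G)⁻¹ = n := by rw [← hsmul, hh n]
    have e' : (h : G) * n = n * h := by
      calc (h : G) * n = ((h : G) * n * (h : G)⁻¹) * h := by group
        _ = n * h := by rw [e]
    show (h : G) • ((n : G) • a) = (1 : G) • ((n : G) • a)
    rw [one_smul, ← mul_smul, e', mul_smul, hHa]
  have hcomm := comm hc hc1 hm hF
  obtain ⟨p, hp, hpx⟩ := exists_prime_exp hc hc1 hm hF
  refine ⟨⟨p, hp, ⟨⟨hcomm⟩⟩, fun x hx => ?_⟩, ?_⟩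
  · exact congrArg Subtype.val (hpx ⟨x, hx⟩)
  · intro M hM hM0
    have hW : ∀ h : ↥H, ∀ w ∈ M.subgroupOf N, h • w ∈ M.subgroupOf N := by
      intro h w hw
      rw [Subgroup.mem_subgroupOf] at hw ⊢
      rw [hsmul]
      exact hM.conj_mem _ hw _
    have hW0 : M.subgroupOf N ≠ ⊥ := by
      intro hbot
      rw [Subgroup.subgroupOf_eq_bot] at hbot
      obtain ⟨⟨g, hgM⟩, hg1⟩ := Subgroup.ne_bot_iff_exists_ne_one.mp hM0
      have hg1' : g ≠ 1 := fun h => hg1 (Subtype.ext h)
      have hgn : ∀ n : ↥N, g * n = n * g := by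
        intro n
        have h1 : g * n * g⁻¹ * (n : G)⁻¹ ∈ M := by
          have : g * n * g⁻¹ * (n : G)⁻¹ = g * ((n : G) * g⁻¹ * (n : G)⁻¹) := by group
          rw [this]
          exact M.mul_mem hgM (hM.conj_mem _ (M.inv_mem hgM) _)
        have h2 : g * n * g⁻¹ * (n : G)⁻¹ ∈ N :=
          N.mul_mem (hN.conj_mem _ n.2 _) (N.inv_mem n.2)
        have h3 : g * n * g⁻¹ * (n : G)⁻¹ = 1 := Subgroup.disjoint_def.mp hbot h1 h2
        calc g * n = (g * n * g⁻¹ * (n : G)⁻¹) * (n * g) := by group
          _ = n * g := by rw [h3, one_mul]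
      obtain ⟨n0, hn0⟩ := MulAction.exists_smul_eq ↥N a (g • a)
      have hn0' : (n0 : G) • a = g • a := hn0
      have hfix : ∀ ω : Ω, ((n0 : G)⁻¹ * g) • ω = ω := by
        intro ω
        obtain ⟨n', rfl⟩ := MulAction.exists_smul_eq ↥N a ω
        have c1 := hgn n'
        have c2 : (n0 : G) * n' = n' * n0 := congrArg Subtype.val (hcomm n0 n')
        show ((n0 : G)⁻¹ * g) • ((n' : G) • a) = (n' : G) • a
        rw [← mul_smul, mul_assoc, c1, ← mul_assoc, mul_smul, ← hn0', ← mul_smul]
        have : (n0 : G)⁻¹ * n' * n0 = n' := by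
          calc (n0 : G)⁻¹ * n' * n0 = (n0 : G)⁻¹ * (n' * n0) := by group
            _ = (n0 : G)⁻¹ * (n0 * n') := by rw [c2]
            _ = n' := by group
        rw [this]
      have h1 : (n0 : G)⁻¹ * g = 1 :=
        FaithfulSMul.eq_of_smul_eq_smul (α := Ω) (fun ω => by rw [hfix ω, one_smul])
      have hgN : g ∈ N := by
        have : (n0 : G) = g := inv_mul_eq_one.mp h1
        rw [← this]
        exact n0.2
      exact hg1' (Subgroup.disjoint_def.mp hbot hgM hgN)
    have := irreducible hc hc1 hm hF (M.subgroupOf N) hW hW0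
    exact Subgroup.subgroupOf_eq_top.mp this

end Cfsg.Agent.S3356
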