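import Cfsg.Statements.S3379
import Mathlib
-- import your own Cfsg.Agent.* helpers here

set_option autoImplicit false
open Cfsg

namespace Cfsg.Agent.S3379

theorem conj_pow_inv {G : Type*} [Group G] (x y : G) (k : ℕ) :
    x⁻¹ * y ^ k * x = (x⁻¹ * y * x) ^ k := by
  have := conj_pow (i := k) (a := x⁻¹) (b := y)
  rw [inv_inv] at this
  exact this.symm

theorem conj_zpow_inv {G : Type*} [Group G] (x y : G) (k : ℤ) :
    x⁻¹ * y ^ k * x = (x⁻¹ * y * x) ^ k := by
  have := conj_zpow (i := k) (a := x⁻¹) (b := y)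
  rw [inv_inv] at this
  exact this.symm

/-- iterated conjugation of `y` by `x⁻¹` -/
theorem conj_pow_iter {G : Type*} [Group G] (x y : G) (r : ℕ) (h : x⁻¹ * y * x = y ^ r) (k : ℕ) :
    (x ^ k)⁻¹ * y * x ^ k = y ^ (r ^ k) := by
  induction k with
  | zero => simp
  | succ k ih =>
    have e : (x ^ (k + 1))⁻¹ * y * x ^ (k + 1) = x⁻¹ * ((x ^ k)⁻¹ * y * x ^ k) * x := by
      rw [pow_succ]; group
    rw [e, ih]
    have e2 : x⁻¹ * y ^ (r ^ k) * x = (x⁻¹ * y * x) ^ (r ^ k) := conj_pow_inv x y _
    rw [e2, h, ← pow_mul, pow_succ, mul_comm]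

/-- a group generated by two commuting elements modulo a normal subgroup `K`: the commutator
subgroup lies in `K`. -/
theorem commutator_le_of_gen {G : Type*} [Group G] (K : Subgroup G) [K.Normal] (x y : G)
    (hgen : Subgroup.closure {x, y} = ⊤) (hxy : x⁻¹ * y * x * y⁻¹ ∈ K) : commutator G ≤ K := by
  let π := QuotientGroup.mk' K
  have hπ : Function.Surjective π := QuotientGroup.mk'_surjective K
  have hcomm : π x * π y = π y * π x := by
    have h1 : π (x⁻¹ * y * x * y⁻¹) = 1 := (QuotientGroup.eq_one_iff _).mpr hxy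
    have h2 : π (x⁻¹ * y * x * y⁻¹) = (π x)⁻¹ * π y * π x * (π y)⁻¹ := by
      simp only [map_mul, map_inv]
    rw [h2] at h1
    have h3 : π y * π x = π x * ((π x)⁻¹ * π y * π x * (π y)⁻¹) * π y := by group
    rw [h3, h1, mul_one]
  have hcl : Subgroup.closure ({π x, π y} : Set (G ⧸ K)) = ⊤ := by
    have h1 := congrArg (Subgroup.map π) hgen
    rw [MonoidHom.map_closure, ← MonoidHom.range_eq_map, MonoidHom.range_eq_top.mpr hπ] at h1
    rw [← h1]
    congr 1
    ext z
    simp [Set.image_pair]
  have hS : ({π x, π y} : Set (G ⧸ K)) ⊆ Subgroup.centralizer ({π x, π y} : Set (G ⧸ K)) := by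
    intro s hs
    rw [SetLike.mem_coe, Subgroup.mem_centralizer_iff]
    intro t ht
    rcases hs with rfl | rfl <;> rcases ht with rfl | rfl
    · rfl
    · exact hcomm.symm
    · exact hcomm
    · rfl
  have h1 : (⊤ : Subgroup (G ⧸ K)) ≤ Subgroup.centralizer ({π x, π y} : Set (G ⧸ K)) := by
    rw [← hcl]; exact (Subgroup.closure_le _).mpr hS
  have h2 : ({π x, π y} : Set (G ⧸ K)) ⊆ Subgroup.center (G ⧸ K) := by
    intro s hs
    rw [SetLike.mem_coe, Subgroup.mem_center_iff]
    intro g
    have := h1 (Subgroup.mem_top g)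
    exact (Subgroup.mem_centralizer_iff.mp this s hs).symm
  have h3 : (⊤ : Subgroup (G ⧸ K)) ≤ Subgroup.center (G ⧸ K) := by
    rw [← hcl]; exact (Subgroup.closure_le _).mpr h2
  have hc : ∀ a b : G ⧸ K, a * b = b * a := by
    intro a b
    have := h3 (Subgroup.mem_top b)
    exact (Subgroup.mem_center_iff.mp this a)
  letI : CommGroup (G ⧸ K) := { (inferInstance : Group (G ⧸ K)) with mul_comm := hc }
  have := Abelianization.commutator_subset_ker (QuotientGroup.mk' K)
  rwa [QuotientGroup.ker_mk'] at this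

/-- Let G be a finite group all of whose Sylow subgroups are cyclic. Then G is generated by two elements x and y of coprime orders n and m with x⁻¹yx = y^r, where gcd(r − 1, m) = 1 and r^n ≡ 1 (mod m). -/
theorem result {G : Type*} [Group G] [Finite G]
    (hZ : ∀ (p : ℕ) [Fact p.Prime] (P : Sylow p G), IsCyclic (P : Subgroup G)) :
    ∃ (x y : G) (n m r : ℕ), Subgroup.closure {x, y} = ⊤ ∧ orderOf x = n ∧ orderOf y = m ∧
      x⁻¹ * y * x = y ^ r ∧ Nat.Coprime (r - 1) m ∧ Nat.Coprime n m ∧ 1 ≤ r ∧ r ^ n % m = 1 % m := by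
  classical
  haveI : IsZGroup G := ⟨fun p hp P => by haveI := Fact.mk hp; exact hZ p P⟩
  have hNcyc : IsCyclic (commutator G) := IsZGroup.isCyclic_commutator (G := G)
  have hcop : (Nat.card (commutator G)).Coprime (commutator G).index :=
    IsZGroup.coprime_commutator_index G
  obtain ⟨H, hH⟩ := Subgroup.exists_right_complement'_of_coprime hcop
  have e1 : G ⧸ commutator G ≃* H := hH.symm.QuotientMulEquiv
  have hHcyc : IsCyclic H := by
    haveI : IsCyclic (G ⧸ commutator G) := IsZGroup.isCyclic_abelianization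
    exact isCyclic_of_surjective _ e1.surjective
  have hidx : (commutator G).index = Nat.card H := Nat.card_congr e1.toEquiv
  obtain ⟨⟨y, hyN⟩, hy⟩ := IsCyclic.exists_generator (α := commutator G)
  obtain ⟨⟨x, hxH⟩, hx⟩ := IsCyclic.exists_generator (α := H)
  have hzy : Subgroup.zpowers y = commutator G := by
    apply le_antisymm
    · rw [Subgroup.zpowers_le]; exact hyN
    · intro z hz
      obtain ⟨k, hk⟩ := Subgroup.mem_zpowers_iff.mp (hy ⟨z, hz⟩)
      have : y ^ k = z := by
        have := congrArg Subtype.val hk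
        simpa using this
      rw [← this]; exact Subgroup.zpow_mem_zpowers y k
  have hzx : Subgroup.zpowers x = H := by
    apply le_antisymm
    · rw [Subgroup.zpowers_le]; exact hxH
    · intro z hz
      obtain ⟨k, hk⟩ := Subgroup.mem_zpowers_iff.mp (hx ⟨z, hz⟩)
      have : x ^ k = z := by
        have := congrArg Subtype.val hk
        simpa using this
      rw [← this]; exact Subgroup.zpow_mem_zpowers x k
  have hm : orderOf y = Nat.card (commutator G) := by rw [← hzy, Nat.card_zpowers]
  have hn : orderOf x = Nat.card H := by rw [← hzx, Nat.card_zpowers]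
  have hNn : (commutator G).Normal := inferInstance
  have hconj : x⁻¹ * y * x ∈ Subgroup.zpowers y := by
    rw [hzy]; exact hNn.conj_mem' y hyN x
  obtain ⟨r₀, hr₀⟩ : ∃ r₀ : ℕ, y ^ r₀ = x⁻¹ * y * x :=
    (Submonoid.mem_powers_iff _ _).mp ((mem_powers_iff_mem_zpowers).mpr hconj)
  have hmpos : 0 < orderOf y := orderOf_pos y
  have hr : x⁻¹ * y * x = y ^ (r₀ + orderOf y) := by
    rw [pow_add, pow_orderOf_eq_one, mul_one, hr₀]
  have hgen : Subgroup.closure {x, y} = ⊤ := by
    rw [eq_top_iff, ← hH.sup_eq_top]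
    apply sup_le
    · rw [← hzy, Subgroup.zpowers_le]; exact Subgroup.subset_closure (by simp)
    · rw [← hzx, Subgroup.zpowers_le]; exact Subgroup.subset_closure (by simp)
  refine ⟨x, y, orderOf x, orderOf y, r₀ + orderOf y, hgen, rfl, rfl, hr, ?_, ?_, by omega, ?_⟩
  · -- Coprime (r - 1) m
    set r := r₀ + orderOf y with hrdef
    have hr1 : 1 ≤ r := by omega
    set K := Subgroup.zpowers (y ^ (r - 1)) with hK
    have hKle : K ≤ Subgroup.zpowers y := by
      rw [hK, Subgroup.zpowers_le]; exact Subgroup.pow_mem _ (Subgroup.mem_zpowers y) _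
    -- conjugation by x⁻¹ is the r-th power map on zpowers y
    have hpowmap : ∀ z ∈ Subgroup.zpowers y, x⁻¹ * z * x = z ^ r := by
      intro z hz
      obtain ⟨k, rfl⟩ := Subgroup.mem_zpowers_iff.mp hz
      have : x⁻¹ * y ^ k * x = (x⁻¹ * y * x) ^ k := conj_zpow_inv x y k
      rw [this, hr, ← zpow_natCast, ← zpow_natCast, ← zpow_mul, ← zpow_mul, mul_comm]
    have hKn : K.Normal := by
      rw [← Subgroup.normalizer_eq_top_iff, eq_top_iff, ← hgen, Subgroup.closure_le]
      intro g hg
      rcases hg with rfl | rfl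
      · -- x ∈ normalizer: via x⁻¹
        have : g⁻¹ ∈ Subgroup.normalizer (K : Set G) := by
          apply Subgroup.mem_normalizer_fintype
          intro k hk
          have hk' : k ∈ K := hk
          have := hpowmap k (hKle hk')
          rw [inv_inv, this]
          exact K.pow_mem hk' r
        simpa using Subgroup.inv_mem _ this
      · apply Subgroup.mem_normalizer_fintype
        intro k hk
        have hk' : k ∈ K := hk
        obtain ⟨j, rfl⟩ := Subgroup.mem_zpowers_iff.mp (hKle hk')
        have : g * g ^ j * g⁻¹ = g ^ j := by group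
        rw [this]; exact hk
    have hcK : x⁻¹ * y * x * y⁻¹ ∈ K := by
      rw [hr]
      have : y ^ r * y⁻¹ = y ^ (r - 1) := by
        have h1 : r = (r - 1) + 1 := by omega
        conv_lhs => rw [h1, pow_succ]
        group
      rw [this]; exact Subgroup.mem_zpowers _
    have hle := commutator_le_of_gen K x y hgen hcK
    have hyK : y ∈ K := hle hyN
    have heq : Subgroup.zpowers y = K := le_antisymm (Subgroup.zpowers_le.mpr hyK) hKle
    have hcard : orderOf (y ^ (r - 1)) = orderOf y := by
      rw [← Nat.card_zpowers, ← Nat.card_zpowers, ← hK, heq]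
    rw [orderOf_pow] at hcard
    have hg : Nat.gcd (orderOf y) (r - 1) = 1 := by
      have hgpos : 0 < Nat.gcd (orderOf y) (r - 1) := Nat.gcd_pos_of_pos_left _ hmpos
      have h2 : orderOf y / Nat.gcd (orderOf y) (r - 1) * Nat.gcd (orderOf y) (r - 1) = orderOf y :=
        Nat.div_mul_cancel (Nat.gcd_dvd_left _ _)
      rw [hcard] at h2
      have h3 : orderOf y * Nat.gcd (orderOf y) (r - 1) = orderOf y * 1 := by rw [h2, mul_one]
      exact Nat.eq_of_mul_eq_mul_left hmpos h3
    rw [Nat.coprime_comm]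
    exact hg
  · rw [hn, hm, ← hidx]; exact hcop.symm
  · have h1 := conj_pow_iter x y (r₀ + orderOf y) hr (orderOf x)
    rw [pow_orderOf_eq_one] at h1
    have h2 : y ^ ((r₀ + orderOf y) ^ orderOf x) = y ^ 1 := by
      rw [← h1]; simp
    exact (pow_eq_pow_iff_modEq.mp h2)

end Cfsg.Agent.S3379
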