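import Cfsg.Statements.S3358
import Cfsg.Agent.S3379
import Cfsg.Agent.Lib.helper62.MetaPres
import Cfsg.Agent.Lib.helper62.FrobSolvA
import Cfsg.Agent.Lib.helper62.FrobSolvB

set_option autoImplicit false
open Cfsg

namespace Cfsg.Agent.S3358

open Cfsg.Agent.Lib.helper62.FrobSolv Cfsg.Agent.Lib.helper62.FrobExtract
  Cfsg.Agent.Lib.helper62.MetaPres

/-- Structure of solvable Frobenius complements. Let G be a finite solvable group that occurs as a Frobenius complement. Then G has a normal subgroup G₀ such that G/G₀ is isomorphic to a subgroup of Sym(4) (G₀ is the kernel of a homomorphism to Sym(4)), all Sylow subgroups of G₀ are cyclic, and G₀ has a presentation ⟨x, y | x^n = 1, y^m = 1, x⁻¹ y x = y^r⟩ with n, m ≥ 1, gcd(r − 1, m) = gcd(n, m) = 1 and r^(n/n′) ≡ 1 (mod m), where n′ is the product of the distinct primes dividing n. -/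
theorem result {G : Type*} [Group G] [Finite G] (hsol : Group.IsSolvable G)
    (hFC : ∃ (L : Type) (_ : Group L) (_ : Finite L) (H : Subgroup L), Cfsg.IsFrobeniusComplement H ∧ Nonempty (G ≃* H)) :
    ∃ G₀ : Subgroup G, G₀.Normal ∧
      (∃ f : G →* Equiv.Perm (Fin 4), f.ker = G₀) ∧
      (∀ (p : ℕ) [Fact p.Prime] (P : Sylow p G₀), IsCyclic P) ∧
      ∃ n m r : ℕ, 0 < n ∧ 0 < m ∧ Nat.Coprime (r - 1) m ∧ Nat.Coprime n m ∧ 1 ≤ r ∧
        r ^ (n / ∏ p ∈ n.primeFactors, p) % m = 1 % m ∧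
        Nonempty (G₀ ≃* PresentedGroup
          ({FreeGroup.of (0 : Fin 2) ^ n, FreeGroup.of (1 : Fin 2) ^ m,
            (FreeGroup.of (0 : Fin 2))⁻¹ * FreeGroup.of 1 * FreeGroup.of 0 * (FreeGroup.of (1 : Fin 2) ^ r)⁻¹} :
            Set (FreeGroup (Fin 2)))) := by
  classical
  obtain ⟨L, iL, fL, H, hH, ⟨e⟩⟩ := hFC
  have hfpf := (hasFpfMod_of_frob H hH).comap e.toMonoidHom e.injective
  have hUI : UI G := fun s t hs ht hs2 ht2 => fpf_involution_unique hfpf s t hs ht hs2 ht2
  obtain ⟨f, hf⟩ := exists_sym4_hom hsol hUI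
  have hZ : ∀ (p : ℕ) [Fact p.Prime] (P : Sylow p f.ker), IsCyclic (P : Subgroup f.ker) := by
    intro p _ P
    by_cases hp : p = 2
    · subst hp
      have h1 : IsCyclic ((P : Subgroup f.ker).map f.ker.subtype) := by
        apply hf
        · exact Subgroup.map_subtype_le _
        · exact P.isPGroup'.map _
      exact isCyclic_of_injective
        ((P : Subgroup f.ker).equivMapOfInjective f.ker.subtype
          (Subgroup.subtype_injective _)).toMonoidHom (MulEquiv.injective _)
    · exact isCyclic_of_frob_odd H hH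
        (e.toMonoidHom.comp (f.ker.subtype.comp (P : Subgroup f.ker).subtype))
        (e.injective.comp ((Subgroup.subtype_injective _).comp (Subgroup.subtype_injective _)))
        p P.isPGroup' hp
  refine ⟨f.ker, inferInstance, ⟨f, rfl⟩, fun p _ P => hZ p P, ?_⟩
  obtain ⟨x, y, n, m, r, hgen, hx, hy, hrel, hc1, hc2, hr1, hrn⟩ :=
    Cfsg.Agent.S3379.result (G := f.ker) hZ
  have hn0 : 0 < n := hx ▸ orderOf_pos x
  have hm0 : 0 < m := hy ▸ orderOf_pos y
  refine ⟨n, m, r, hn0, hm0, hc1, hc2, hr1, ?_,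
    nonempty_equiv_presented x y n m r hgen hx hy hrel hc2⟩
  apply pow_div_rad_mod n m r hrn
  intro q hq
  have hqp : q.Prime := Nat.prime_of_mem_primeFactors hq
  have hqd : q ∣ n := Nat.dvd_of_mem_primeFactors hq
  have hfpf' := hfpf.comap f.ker.subtype (Subgroup.subtype_injective _)
  have hcq : (x ^ (n / q)) ^ q = 1 := by
    rw [← pow_mul, Nat.div_mul_cancel hqd, ← hx, pow_orderOf_eq_one]
  have hrel' := conj_pow_iter x y r hrel (n / q)
  have hcop : Nat.Coprime q (orderOf y) := by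
    rw [hy]
    exact Nat.Coprime.coprime_dvd_left hqd hc2
  have h1 := fpf_prime_centralizes hfpf' y (x ^ (n / q)) q (r ^ (n / q)) hqp hcq hrel' hcop
  rw [hrel'] at h1
  have h2 : y ^ (r ^ (n / q)) = y ^ 1 := by rw [h1, pow_one]
  have h3 := pow_eq_pow_iff_modEq.mp h2
  rw [hy] at h3
  exact h3

end Cfsg.Agent.S3358
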