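import Cfsg.Statements.S3360
import Cfsg.Agent.S2904
import Cfsg.Agent.Lib.helper62.HupGeneric
import Cfsg.Agent.Lib.helper29.HupTwoSixCore
import Cfsg.Agent.Lib.helper25.HupDimTwo

set_option autoImplicit false
open Cfsg

namespace Cfsg.Agent.S3360

/-- Let q be a prime and V a non-trivial finite vector space over the field with q elements, and let G be a finite solvable group acting faithfully and linearly on V and transitively on the non-zero vectors. Then either V can be identified with the additive group of a finite field F in such a way that every element of G acts as x ↦ a·σ(x) for some a ∈ F and some field automorphism σ, or the number of elements of V is one of 3^2, 5^2, 7^2, 11^2, 23^2, 3^4. -/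
theorem result
    (q : ℕ) [Fact q.Prime] {V : Type*} [AddCommGroup V] [Module (ZMod q) V] [Finite V] [Nontrivial V]
    {G : Type*} [Group G] [Finite G] (hsol : Group.IsSolvable G)
    (ρ : G →* (V ≃ₗ[ZMod q] V)) (hρ : Function.Injective ρ)
    (htrans : ∀ v w : V, v ≠ 0 → w ≠ 0 → ∃ g : G, ρ g v = w) :
    (∃ (F : Type) (_ : Field F) (_ : Fintype F) (e : V ≃+ F),
        ∀ g : G, ∃ (a : F) (σ : F ≃+* F), ∀ v : V, e (ρ g v) = a * σ (e v)) ∨
    Nat.card V ∈ ({9, 25, 49, 121, 529, 81} : Set ℕ) := by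
  classical
  by_cases hI : ∀ A : Subgroup G, A.Normal → IsCyclic A → ∃ W : Submodule (ZMod q) V,
      W ≠ ⊥ ∧ W ≠ ⊤ ∧ ∀ a ∈ A, ∀ v ∈ W, ρ a v ∈ W
  · right
    have hfin : Module.Finite (ZMod q) V := Module.Finite.of_finite
    have hn0 : 0 < Module.finrank (ZMod q) V := Module.finrank_pos
    rcases Nat.lt_or_ge (Module.finrank (ZMod q) V) 2 with h1 | h2
    · exfalso
      obtain ⟨W, hW0, hW1, -⟩ := hI ⊥ inferInstance inferInstance
      rcases Nat.eq_zero_or_pos (Module.finrank (ZMod q) W) with h0 | hpos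
      · exact hW0 (Submodule.finrank_eq_zero.mp h0)
      · have hle : Module.finrank (ZMod q) W ≤ Module.finrank (ZMod q) V := Submodule.finrank_le W
        exact hW1 (Submodule.eq_top_of_finrank_eq (by omega))
    · by_cases hn2 : Module.finrank (ZMod q) V = 2
      · exact Cfsg.Agent.Lib.helper25.Hup.case_two hsol ρ hρ htrans hn2 hI
      · by_cases h26 : q = 2 ∧ Module.finrank (ZMod q) V = 6
        · exact (Cfsg.Agent.Lib.helper29.Hup.no_two_six_of hsol ρ hρ htrans h26.1 h26.2 hI
            (fun A hAab hfree =>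
              Cfsg.Agent.Lib.helper39.Hup.isCyclic_of_semiregular_abelian ρ A hAab hfree)
            (fun A hfree W hW =>
              Cfsg.Agent.Lib.helper39.Hup.card_dvd_of_semiregular ρ A hfree W hW)
            (fun r hr M N hMN hMcyc hcent hcomm hexp hZ =>
              Cfsg.Agent.Lib.helper83.Hup.card_eq_mul_sq r hr M N hMN hMcyc hcent hcomm hexp hZ)).elim
        · obtain ⟨ℓ, hℓ, hℓdvd, hppd⟩ := Cfsg.Agent.S2904.result q (Module.finrank (ZMod q) V)
            (Fact.out : q.Prime).one_lt (by omega) h26 (by rintro ⟨h, -⟩; exact hn2 h)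
          exact Cfsg.Agent.Lib.helper62.Hup.case_generic hsol ρ hρ htrans hI ℓ hℓ h2 hℓdvd hppd
  · left
    have hex : ∃ A : Subgroup G, A.Normal ∧ IsCyclic A ∧ ¬ ∃ W : Submodule (ZMod q) V,
        W ≠ ⊥ ∧ W ≠ ⊤ ∧ ∀ a ∈ A, ∀ v ∈ W, ρ a v ∈ W := by
      by_contra hcon
      apply hI
      intro A hAn hAc
      by_contra hW
      exact hcon ⟨A, hAn, hAc, hW⟩
    obtain ⟨A, hAn, hAc, hA⟩ := hex
    obtain ⟨g, hg⟩ := hAc.exists_generator
    have hpow : ∀ x : G, x ∈ A → ∃ k : ℕ, x = (g : G) ^ k := by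
      intro x hx
      have h1 : (⟨x, hx⟩ : A) ∈ Subgroup.zpowers g := hg _
      rw [← mem_powers_iff_mem_zpowers] at h1
      obtain ⟨k, hk⟩ := h1
      refine ⟨k, ?_⟩
      have h2 := congrArg (Subtype.val) hk
      simpa using h2.symm
    have hirr : ∀ W : Submodule (ZMod q) V, (∀ v ∈ W, ρ (g : G) v ∈ W) → W = ⊥ ∨ W = ⊤ := by
      intro W hW
      by_contra hcon
      push Not at hcon
      apply hA
      refine ⟨W, hcon.1, hcon.2, ?_⟩
      intro a ha v hv
      obtain ⟨k, rfl⟩ := hpow a ha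
      induction k generalizing v with
      | zero => simpa using hv
      | succ n ih =>
        have h1 : ρ ((g : G) ^ (n + 1)) v = ρ (g : G) (ρ ((g : G) ^ n) v) := by
          rw [pow_succ', map_mul]
          rfl
        rw [h1]
        exact hW _ (ih v hv (A.pow_mem g.2 n))
    obtain ⟨F, iF, iFt, e, he1, -⟩ :=
      Cfsg.Agent.Lib.helper62.SemiLin.exists_field (ρ (g : G)) hirr
    refine ⟨F, iF, iFt, e, fun h => ?_⟩
    apply he1
    obtain ⟨j, hj⟩ := hpow _ (hAn.conj_mem _ g.2 h)
    refine ⟨j, ?_⟩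
    rw [← map_inv, ← map_mul, ← map_mul, hj, map_pow]

end Cfsg.Agent.S3360
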