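import Cfsg.Statements.S3361
import Cfsg.Agent.S0688
import Cfsg.Agent.Lib.helper62.SemiLinB
import Cfsg.Agent.Lib.helper62.ExcRegB

set_option autoImplicit false
open Cfsg

namespace Cfsg.Agent.S3361

open Cfsg.Agent.Lib.helper62.SemiLin Cfsg.Agent.Lib.helper62.ExcReg

/-- Let q be a prime and V a non-trivial finite vector space over the field with q elements, and let G be a finite solvable group acting faithfully and linearly on V and regularly on the non-zero vectors (transitively, with only the identity fixing a non-zero vector). Then either V can be identified with the additive group of a finite field F so that every element of G acts as x ↦ a·σ(x) (a ∈ F, σ a field automorphism), or V has 5^2, 7^2, 11^2 or 23^2 elements. Moreover, if q ≠ 2 then G has a normal subgroup of index 2, except that when V has 25 elements G may be isomorphic to SL(2,3) and when V has 121 elements G may be isomorphic to SL(2,3) × C₅. -/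
theorem result
    (q : ℕ) [Fact q.Prime] {V : Type*} [AddCommGroup V] [Module (ZMod q) V] [Finite V] [Nontrivial V]
    {G : Type*} [Group G] [Finite G] (hsol : Group.IsSolvable G)
    (ρ : G →* (V ≃ₗ[ZMod q] V)) (hρ : Function.Injective ρ)
    (htrans : ∀ v w : V, v ≠ 0 → w ≠ 0 → ∃ g : G, ρ g v = w)
    (hreg : ∀ v : V, v ≠ 0 → ∀ g : G, ρ g v = v → g = 1) :
    ((∃ (F : Type) (_ : Field F) (_ : Fintype F) (e : V ≃+ F),
        ∀ g : G, ∃ (a : F) (σ : F ≃+* F), ∀ v : V, e (ρ g v) = a * σ (e v)) ∨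
      Nat.card V ∈ ({25, 49, 121, 529} : Set ℕ)) ∧
    (q ≠ 2 → (∃ N : Subgroup G, N.Normal ∧ N.index = 2) ∨
      (Nat.card V = 25 ∧ Nonempty (G ≃* Matrix.SpecialLinearGroup (Fin 2) (ZMod 3))) ∨
      (Nat.card V = 121 ∧ Nonempty (G ≃* Matrix.SpecialLinearGroup (Fin 2) (ZMod 3) × Multiplicative (ZMod 5)))) := by
  classical
  let H : Subgroup (V ≃ₗ[ZMod q] V) := ρ.range
  let e0 : G ≃* H := MonoidHom.ofInjective hρ
  have he0 : ∀ g : G, ((e0 g : H) : V ≃ₗ[ZMod q] V) = ρ g := fun g => rfl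
  have hregH : ∀ v w : V, v ≠ 0 → w ≠ 0 → ∃! h : H, (h : V ≃ₗ[ZMod q] V) v = w := by
    intro v w hv hw
    obtain ⟨g, hg⟩ := htrans v w hv hw
    refine ⟨e0 g, hg, ?_⟩
    intro h hh
    obtain ⟨g', rfl⟩ := e0.surjective h
    rw [he0] at hh
    have h1 : ρ (g⁻¹ * g') v = v := by
      rw [map_mul, map_inv]
      show (ρ g)⁻¹ (ρ g' v) = v
      rw [hh, ← hg]
      exact (ρ g).symm_apply_apply v
    have h2 := hreg v hv _ h1
    rw [inv_mul_eq_one] at h2
    rw [h2]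
  have hsolvH : Group.IsSolvable H := Group.isSolvable_of_surjective (f := e0.toMonoidHom) e0.surjective
  have hidx : (∃ N : Subgroup H, N.Normal ∧ N.index = 2) →
      ∃ N : Subgroup G, N.Normal ∧ N.index = 2 := by
    rintro ⟨N, hN, hi⟩
    refine ⟨N.comap e0.toMonoidHom, hN.comap _, ?_⟩
    exact (Subgroup.index_comap_of_surjective N (f := e0.toMonoidHom) e0.surjective).trans hi
  by_cases hI : ∀ A : Subgroup H, A.Normal → IsCyclic A → ∃ W : Submodule (ZMod q) V,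
      W ≠ ⊥ ∧ W ≠ ⊤ ∧ ∀ a ∈ A, ∀ v ∈ W, ((a : H) : V ≃ₗ[ZMod q] V) v ∈ W
  · have hV := Cfsg.Agent.S0688.result H hregH hI hsolvH
    refine ⟨Or.inr ?_, fun _ => ?_⟩
    · rcases hV with h | h | h | h <;> rw [h] <;> simp
    · rcases exceptional_case H hregH hI hsolvH with h | ⟨h1, ⟨e⟩⟩ | ⟨h1, ⟨e⟩⟩
      · exact Or.inl (hidx h)
      · exact Or.inr (Or.inl ⟨h1, ⟨e0.trans e⟩⟩)
      · exact Or.inr (Or.inr ⟨h1, ⟨e0.trans e⟩⟩)
  · have hex : ∃ A : Subgroup H, A.Normal ∧ IsCyclic A ∧ ¬ ∃ W : Submodule (ZMod q) V,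
        W ≠ ⊥ ∧ W ≠ ⊤ ∧ ∀ a ∈ A, ∀ v ∈ W, ((a : H) : V ≃ₗ[ZMod q] V) v ∈ W := by
      by_contra hcon
      apply hI
      intro A hAn hAc
      by_contra hW
      exact hcon ⟨A, hAn, hAc, hW⟩
    obtain ⟨A, hAn, hAc, hA⟩ := hex
    obtain ⟨⟨F, iF, iFt, e, he⟩, h2⟩ := semilinear_case H hregH A hAn hAc hA
    refine ⟨Or.inl ⟨F, iF, iFt, e, fun g => ?_⟩, fun hq => Or.inl (hidx (h2 hq))⟩
    obtain ⟨y, σ, hy⟩ := he (e0 g)
    exact ⟨y, σ, hy⟩

end Cfsg.Agent.S3361
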