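import Cfsg.Statements.S3362

set_option autoImplicit false
open Cfsg

namespace Cfsg.Agent.S3362

/-- The generator `u` as a table permutation. -/
def g0 : Equiv.Perm (Fin 12) :=
  ⟨![0, 1, 2, 3, 6, 9, 5, 8, 11, 4, 7, 10], ![0, 1, 2, 3, 9, 6, 4, 10, 7, 5, 11, 8], by decide, by decide⟩

/-- The generator `v` as a table permutation. -/
def g1 : Equiv.Perm (Fin 12) :=
  ⟨![0, 1, 2, 3, 7, 11, 10, 5, 6, 8, 9, 4], ![0, 1, 2, 3, 11, 7, 8, 4, 9, 10, 6, 5], by decide, by decide⟩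

/-- The generator `w` as a table permutation. -/
def g2 : Equiv.Perm (Fin 12) :=
  ⟨![0, 1, 2, 3, 10, 8, 11, 6, 4, 7, 5, 9], ![0, 1, 2, 3, 8, 10, 7, 9, 5, 11, 4, 6], by decide, by decide⟩

/-- The generator `s` as a table permutation. -/
def g3 : Equiv.Perm (Fin 12) :=
  ⟨![0, 1, 2, 4, 5, 3, 7, 8, 6, 10, 11, 9], ![0, 1, 2, 5, 3, 4, 8, 6, 7, 11, 9, 10], by decide, by decide⟩

/-- The generator `t` as a table permutation. -/
def g4 : Equiv.Perm (Fin 12) :=
  ⟨![0, 1, 2, 6, 7, 8, 9, 10, 11, 3, 4, 5], ![0, 1, 2, 9, 10, 11, 3, 4, 5, 6, 7, 8], by decide, by decide⟩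

/-- The generator `x1` as a table permutation. -/
def g5 : Equiv.Perm (Fin 12) :=
  ⟨![3, 1, 2, 0, 4, 5, 7, 6, 10, 11, 8, 9], ![3, 1, 2, 0, 4, 5, 7, 6, 10, 11, 8, 9], by decide, by decide⟩

/-- The generator `x2` as a table permutation. -/
def g6 : Equiv.Perm (Fin 12) :=
  ⟨![1, 0, 2, 3, 4, 5, 9, 10, 11, 6, 7, 8], ![1, 0, 2, 3, 4, 5, 9, 10, 11, 6, 7, 8], by decide, by decide⟩

/-- The generator `x3` as a table permutation. -/
def g7 : Equiv.Perm (Fin 12) :=
  ⟨![0, 2, 1, 3, 4, 5, 11, 9, 10, 7, 8, 6], ![0, 2, 1, 3, 4, 5, 11, 9, 10, 7, 8, 6], by decide, by decide⟩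

/-- Words for the coset representatives at level 1. -/
def word1 : List (List ℕ) :=
  [[6, 7], [7], [], [5, 6, 7], [3, 5, 6, 7], [3, 3, 5, 6, 7], [4, 5, 6, 7], [1, 3, 5, 6, 7], [0, 1, 3, 5, 6, 7], [4, 4, 5, 6, 7], [2, 3, 5, 6, 7], [2, 4, 5, 6, 7]]

/-- Schreier certificates at level 1. -/
def cert1 : List (List (List ℕ)) :=
  [[[1], [2, 0], [0], [0, 1], [0, 1], [0, 1], [0, 1], [], [0, 1], [0, 1], [], [2]],
   [[0, 1], [1, 2], [1], [1], [], [2], [2], [0, 0], [0, 1], [0, 1], [2], [2]],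
   [[1, 2], [0, 1], [2], [0], [], [0, 0], [], [0, 1], [], [0, 1], [0, 0], [0, 0]],
   [[3], [3], [3], [], [], [], [2, 0], [0, 1], [1, 2], [1, 2], [], [0]],
   [[1, 3, 2, 0], [2, 4, 0, 1], [4], [], [2, 0], [0], [], [2], [0, 0], [], [0], [0]],
   [[], [5], [5], [], [3, 3, 0, 0], [3, 0, 0], [3, 3, 0, 1], [2, 3], [3, 3, 0, 0], [2, 3, 0, 1], [3, 3, 0, 0], [0, 1, 3, 2]],
   [[], [], [6], [5], [5], [5], [5], [5], [5, 2], [5], [5], [5, 2]],
   [[6], [], [], [6], [6], [6], [6, 0], [6, 1], [6], [6, 0, 1], [6], [6, 0]]]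

/-- Words for the coset representatives at level 2. -/
def word2 : List (List ℕ) :=
  [[6], [], [], [5, 6], [3, 5, 6], [3, 3, 5, 6], [4, 5, 6], [1, 3, 5, 6], [0, 1, 3, 5, 6], [4, 4, 5, 6], [2, 3, 5, 6], [2, 4, 5, 6]]

/-- Schreier certificates at level 2. -/
def cert2 : List (List (List ℕ)) :=
  [[[1, 2], [0], [], [2], [2], [2], [2], [], [2], [2], [], [0, 1]],
   [[2], [1], [], [1, 2], [], [0, 1], [0, 1], [0, 0], [2], [2], [0, 1], [0, 1]],
   [[1], [2], [], [2, 0], [], [0, 0], [], [2], [], [2], [0, 0], [0, 0]],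
   [[3], [3], [], [], [], [], [0], [2], [1], [1], [], [2, 0]],
   [[4, 4], [4], [], [], [0], [2, 0], [], [0, 1], [0, 0], [], [2, 0], [2, 0]],
   [[], [5], [], [], [3, 3, 0, 0], [3, 0, 0], [3, 3, 2], [0, 1, 3], [3, 3, 0, 0], [0, 1, 3, 2], [3, 3, 0, 0], [2, 3, 0, 1]],
   [[], [], [], [5], [5], [5], [5], [5], [5, 0, 1], [5], [5], [5, 0, 1]]]

/-- Words for the coset representatives at level 3. -/
def word3 : List (List ℕ) :=
  [[], [], [], [5], [3, 5], [3, 3, 5], [4, 5], [1, 3, 5], [0, 1, 3, 5], [4, 4, 5], [2, 3, 5], [2, 4, 5]]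

/-- Schreier certificates at level 3. -/
def cert3 : List (List (List ℕ)) :=
  [[[0], [], [], [1], [1], [1], [1], [], [1], [1], [], [2, 0]],
   [[1], [], [], [0], [], [2, 0], [2, 0], [0, 0], [1], [1], [2, 0], [2, 0]],
   [[2], [], [], [0, 1], [], [0, 0], [], [1], [], [1], [0, 0], [0, 0]],
   [[3], [], [], [], [], [], [1, 2], [1], [2], [2], [], [0, 1]],
   [[4], [], [], [], [1, 2], [0, 1], [], [2, 0], [0, 0], [], [0, 1], [0, 1]],
   [[], [], [], [], [3, 3, 0, 0], [3, 0, 0], [3, 3, 1], [2, 4, 0], [3, 3, 0, 0], [2, 4, 0, 1], [3, 3, 0, 0], [1, 3, 2, 0]]]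

/-- Words for the coset representatives at level 4. -/
def word4 : List (List ℕ) :=
  [[], [], [], [], [3], [3, 3], [4], [1, 3], [0, 1, 3], [4, 4], [2, 3], [2, 4]]

/-- Schreier certificates at level 4. -/
def cert4 : List (List (List ℕ)) :=
  [[[], [], [], [0], [0], [0], [0], [], [0], [0], [], [1, 2]],
   [[], [], [], [1], [], [1, 2], [1, 2], [0, 0], [0], [0], [1, 2], [1, 2]],
   [[], [], [], [2], [], [0, 0], [], [0], [], [0], [0, 0], [0, 0]],
   [[], [], [], [], [], [], [2, 0], [0], [0, 1], [0, 1], [], [2]],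
   [[], [], [], [], [2, 0], [2], [], [1, 2], [0, 0], [], [2], [2]]]

/-- Words for the coset representatives at level 5. -/
def word5 : List (List ℕ) :=
  [[], [], [], [], [], [0, 0], [0], [1], [0, 1], [1, 2], [2], [2, 0]]

/-- Schreier certificates at level 5. -/
def cert5 : List (List (List ℕ)) :=
  [[[], [], [], [], [], [], [], [], [], [], [], []],
   [[], [], [], [], [], [], [], [], [], [], [], []],
   [[], [], [], [], [], [], [], [], [], [], [], []]]

/-- The generators by index, in the order `u, v, w, s, t, x₁, x₂, x₃`. -/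
def gperm : ℕ → Equiv.Perm (Fin 12)
  | 0 => g0
  | 1 => g1
  | 2 => g2
  | 3 => g3
  | 4 => g4
  | 5 => g5
  | 6 => g6
  | 7 => g7
  | _ => 1

/-- Application of a word in the generators to a point. -/
def wapp : List ℕ → Fin 12 → Fin 12
  | [], x => x
  | i :: w, x => gperm i (wapp w x)

theorem wapp_nil (x : Fin 12) : wapp [] x = x := rfl

theorem wapp_cons (i : ℕ) (w : List ℕ) (x : Fin 12) : wapp (i :: w) x = gperm i (wapp w x) := rfl

/-- The permutation of a word in the generators. -/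
def wprod (w : List ℕ) : Equiv.Perm (Fin 12) := (w.map gperm).prod

theorem wprod_nil : wprod [] = 1 := rfl

theorem wprod_cons (i : ℕ) (w : List ℕ) : wprod (i :: w) = gperm i * wprod w := by
  simp [wprod]

theorem wprod_append (w₁ w₂ : List ℕ) : wprod (w₁ ++ w₂) = wprod w₁ * wprod w₂ := by
  simp [wprod]

theorem wprod_apply (w : List ℕ) (x : Fin 12) : wprod w x = wapp w x := by
  induction w with
  | nil => rfl
  | cons i w ih => rw [wprod_cons, Equiv.Perm.mul_apply, ih, wapp_cons]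

/-- The subgroup generated by the first `m` generators. -/
def H (m : ℕ) : Subgroup (Equiv.Perm (Fin 12)) := Subgroup.closure {g | ∃ i < m, g = gperm i}

theorem gperm_mem {m i : ℕ} (h : i < m) : gperm i ∈ H m := Subgroup.subset_closure ⟨i, h, rfl⟩

theorem H_mono {m m' : ℕ} (h : m' ≤ m) : H m' ≤ H m := by
  apply Subgroup.closure_mono
  rintro g ⟨i, hi, rfl⟩
  exact ⟨i, lt_of_lt_of_le hi h, rfl⟩

theorem wprod_mem {m : ℕ} (w : List ℕ) (h : ∀ i ∈ w, i < m) : wprod w ∈ H m := by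
  induction w with
  | nil => exact (H m).one_mem
  | cons i w ih =>
    rw [wprod_cons]
    exact (H m).mul_mem (gperm_mem (h i (by simp))) (ih (fun j hj => h j (by simp [hj])))

theorem H_zero : H 0 = ⊥ := by
  have : {g : Equiv.Perm (Fin 12) | ∃ i < 0, g = gperm i} = ∅ := by
    ext g; simp
  rw [H, this, Subgroup.closure_empty]

theorem H_fix {m : ℕ} {b : Fin 12} (hm : m ≤ 8) (h : ∀ i : Fin 8, i.val < m → gperm i.val b = b) :
    ∀ g ∈ H m, g b = b := by
  intro g hg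
  have hle : H m ≤ MulAction.stabilizer (Equiv.Perm (Fin 12)) b := by
    rw [H, Subgroup.closure_le]
    rintro g ⟨i, hi, rfl⟩
    exact h ⟨i, by omega⟩ hi
  exact hle hg

/-- Word lookup. -/
def wd (t : List (List ℕ)) (p : Fin 12) : List ℕ := t.getD p.val []

/-- Certificate lookup. -/
def ct (t : List (List (List ℕ))) (i : ℕ) (p : Fin 12) : List ℕ := (t.getD i []).getD p.val []

/-- Closure under left multiplication by `g` implies closure under `g⁻¹` in a finite group. -/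
theorem inv_closed {G : Type*} [Group G] [Finite G] (X : Set G) (g : G) (h : ∀ x ∈ X, g * x ∈ X) :
    ∀ x ∈ X, g⁻¹ * x ∈ X := by
  have hp : ∀ n : ℕ, ∀ x ∈ X, g ^ n * x ∈ X := by
    intro n
    induction n with
    | zero => intro x hx; simpa using hx
    | succ n ih => intro x hx; rw [pow_succ', mul_assoc]; exact h _ (ih x hx)
  have hinv : g⁻¹ = g ^ (orderOf g - 1) := by
    apply inv_eq_of_mul_eq_one_right
    rw [← pow_succ']
    have := orderOf_pos g
    rw [Nat.sub_add_cancel this, pow_orderOf_eq_one]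
  intro x hx
  rw [hinv]
  exact hp _ x hx

/-- The Schreier check at one level. -/
def Chk (m m' : ℕ) (b : Fin 12) (O : Fin 12 → Prop) (word : List (List ℕ))
    (cert : List (List (List ℕ))) : Prop :=
  O b ∧ wd word b = [] ∧
  (∀ p : Fin 12, O p → (∀ j ∈ wd word p, j < m) ∧ wapp (wd word p) b = p) ∧
  (∀ i : Fin 8, i.val < m → ∀ p : Fin 12, O p →
      O (gperm i.val p) ∧ (∀ j ∈ ct cert i.val p, j < m') ∧
      ∀ x : Fin 12, wapp (i.val :: wd word p) x = wapp (wd word (gperm i.val p) ++ ct cert i.val p) x)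

instance instDecidableChk (m m' : ℕ) (b : Fin 12) (O : Fin 12 → Prop) [DecidablePred O]
    (word : List (List ℕ)) (cert : List (List (List ℕ))) : Decidable (Chk m m' b O word cert) := by
  unfold Chk
  infer_instance

theorem level {m m' : ℕ} (hm : m ≤ 8) {b : Fin 12} {O : Fin 12 → Prop} {word : List (List ℕ)}
    {cert : List (List (List ℕ))} (h : Chk m m' b O word cert) :
    ∀ g ∈ H m, O (g b) ∧ (wprod (wd word (g b)))⁻¹ * g ∈ H m' := by
  obtain ⟨hOb, hwb, hrep, hS⟩ := h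
  let X : Set (Equiv.Perm (Fin 12)) := {y | O (y b) ∧ (wprod (wd word (y b)))⁻¹ * y ∈ H m'}
  have h1 : (1 : Equiv.Perm (Fin 12)) ∈ X := by
    refine ⟨by simpa using hOb, ?_⟩
    rw [Equiv.Perm.one_apply, hwb, wprod_nil]
    simp
  have hgen : ∀ i < m, ∀ y ∈ X, gperm i * y ∈ X := by
    rintro i hi y ⟨hy1, hy2⟩
    obtain ⟨hO', hc, heq⟩ := hS ⟨i, by omega⟩ hi (y b) hy1
    have heq' : gperm i * wprod (wd word (y b)) =
        wprod (wd word (gperm i (y b))) * wprod (ct cert i (y b)) := by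
      apply Equiv.ext
      intro x
      rw [← wprod_cons, ← wprod_append, wprod_apply, wprod_apply]
      exact heq x
    refine ⟨by simpa [Equiv.Perm.mul_apply] using hO', ?_⟩
    have e : (wprod (wd word ((gperm i * y) b)))⁻¹ * (gperm i * y) =
        wprod (ct cert i (y b)) * ((wprod (wd word (y b)))⁻¹ * y) := by
      rw [Equiv.Perm.mul_apply]
      calc (wprod (wd word (gperm i (y b))))⁻¹ * (gperm i * y)
          = (wprod (wd word (gperm i (y b))))⁻¹ * (gperm i * wprod (wd word (y b))) *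
            ((wprod (wd word (y b)))⁻¹ * y) := by group
        _ = wprod (ct cert i (y b)) * ((wprod (wd word (y b)))⁻¹ * y) := by rw [heq']; group
    rw [e]
    exact (H m').mul_mem (wprod_mem _ hc) hy2
  have hall : ∀ g ∈ H m, ∀ y ∈ X, g * y ∈ X := by
    intro g hg
    induction hg using Subgroup.closure_induction with
    | mem g hg => obtain ⟨i, hi, rfl⟩ := hg; exact hgen i hi
    | one => intro y hy; simpa using hy
    | mul a c _ _ iha ihc => intro y hy; rw [mul_assoc]; exact iha _ (ihc y hy)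
    | inv a _ iha => exact inv_closed X a iha
  intro g hg
  have := hall g hg 1 h1
  rw [mul_one] at this
  exact this

theorem level_stab {m m' : ℕ} (hm : m ≤ 8) {b : Fin 12} {O : Fin 12 → Prop} {word : List (List ℕ)}
    {cert : List (List (List ℕ))} (h : Chk m m' b O word cert) (g : Equiv.Perm (Fin 12))
    (hg : g ∈ H m) (hgb : g b = b) : g ∈ H m' := by
  have := (level hm h g hg).2
  rw [hgb, h.2.1, wprod_nil] at this
  simpa using this

theorem level_card {m m' : ℕ} (hm : m ≤ 8) (hm' : m' ≤ m) {b : Fin 12} {O : Fin 12 → Prop}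
    {word : List (List ℕ)} {cert : List (List (List ℕ))} (h : Chk m m' b O word cert)
    (hfix : ∀ g ∈ H m', g b = b) :
    Nat.card (H m) = Nat.card {p : Fin 12 // O p} * Nat.card (H m') := by
  have hl := level hm h
  obtain ⟨hOb, hwb, hrep, hS⟩ := h
  rw [← Nat.card_prod]
  apply Nat.card_congr
  exact {
    toFun := fun g => (⟨g.1 b, (hl g.1 g.2).1⟩, ⟨(wprod (wd word (g.1 b)))⁻¹ * g.1, (hl g.1 g.2).2⟩)
    invFun := fun x => ⟨wprod (wd word x.1.1) * x.2.1,
      (H m).mul_mem (wprod_mem _ (hrep x.1.1 x.1.2).1) (H_mono hm' x.2.2)⟩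
    left_inv := by
      intro g
      apply Subtype.ext
      simp
    right_inv := by
      rintro ⟨⟨p, hp⟩, ⟨h', hh'⟩⟩
      have e1 : (wprod (wd word p) * h') b = p := by
        rw [Equiv.Perm.mul_apply, hfix h' hh', wprod_apply]
        exact (hrep p hp).2
      apply Prod.ext
      · apply Subtype.ext
        exact e1
      · apply Subtype.ext
        show (wprod (wd word ((wprod (wd word p) * h') b)))⁻¹ * (wprod (wd word p) * h') = h'
        rw [e1]
        group }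

theorem trans_step {m m' : ℕ} {b : Fin 12} {O : Fin 12 → Prop} {word : List (List ℕ)}
    {cert : List (List (List ℕ))} (h : Chk m m' b O word cert)
    (g : Equiv.Perm (Fin 12)) (q : Fin 12) (hq : O (g⁻¹ q)) :
    ∃ r ∈ H m, (g * r) b = q := by
  refine ⟨wprod (wd word (g⁻¹ q)), wprod_mem _ (h.2.2.1 _ hq).1, ?_⟩
  rw [Equiv.Perm.mul_apply, wprod_apply, (h.2.2.1 _ hq).2]
  simp

theorem chk1 : Chk 8 7 2 (fun _ => True) word1 cert1 := by decide +kernel

theorem chk2 : Chk 7 6 1 (fun p => p ≠ 2) word2 cert2 := by decide +kernel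

theorem chk3 : Chk 6 5 0 (fun p => p ≠ 2 ∧ p ≠ 1) word3 cert3 := by decide +kernel

theorem chk4 : Chk 5 3 3 (fun p => p ≠ 2 ∧ p ≠ 1 ∧ p ≠ 0) word4 cert4 := by decide +kernel

theorem chk5 : Chk 3 0 4 (fun p => p ≠ 2 ∧ p ≠ 1 ∧ p ≠ 0 ∧ p ≠ 3) word5 cert5 := by decide +kernel

theorem fix7 : ∀ g ∈ H 7, g 2 = 2 := H_fix (by norm_num) (by decide)

theorem fix6 : ∀ g ∈ H 6, g 1 = 1 := H_fix (by norm_num) (by decide)

theorem fix5 : ∀ g ∈ H 5, g 0 = 0 := H_fix (by norm_num) (by decide)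

theorem fix3 : ∀ g ∈ H 3, g 3 = 3 := H_fix (by norm_num) (by decide)

theorem fix0 : ∀ g ∈ H 0, g 4 = 4 := by
  intro g hg
  rw [H_zero, Subgroup.mem_bot] at hg
  rw [hg]
  rfl

theorem card_H0 : Nat.card (H 0) = 1 := by
  rw [H_zero]
  exact Subgroup.card_bot

theorem card_H3 : Nat.card (H 3) = 8 := by
  rw [level_card (by norm_num) (by norm_num) chk5 fix0, card_H0, Nat.card_eq_fintype_card]
  decide

theorem card_H5 : Nat.card (H 5) = 72 := by
  rw [level_card (by norm_num) (by norm_num) chk4 fix3, card_H3, Nat.card_eq_fintype_card]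
  decide

theorem card_H6 : Nat.card (H 6) = 720 := by
  rw [level_card (by norm_num) (by norm_num) chk3 fix5, card_H5, Nat.card_eq_fintype_card]
  decide

theorem card_H7 : Nat.card (H 7) = 7920 := by
  rw [level_card (by norm_num) (by norm_num) chk2 fix6, card_H6, Nat.card_eq_fintype_card]
  decide

theorem card_H8 : Nat.card (H 8) = 95040 := by
  rw [level_card (by norm_num) (by norm_num) chk1 fix7, card_H7, Nat.card_eq_fintype_card]
  decide

theorem ne_of_apply {g : Equiv.Perm (Fin 12)} {q b c : Fin 12} (hgb : g b = c) (hne : q ≠ c) :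
    g⁻¹ q ≠ b := by
  intro h
  apply hne
  rw [← hgb, ← h]
  simp

/-- Every injective `5`-tuple is the image of the base `(2, 1, 0, 3, 4)`. -/
theorem exists_map_base (y : Fin 5 ↪ Fin 12) :
    ∃ g ∈ H 8, g 2 = y 0 ∧ g 1 = y 1 ∧ g 0 = y 2 ∧ g 3 = y 3 ∧ g 4 = y 4 := by
  have hinj : ∀ i j : Fin 5, i ≠ j → y i ≠ y j := fun i j hij h => hij (y.injective h)
  obtain ⟨r1, hr1, e1⟩ := trans_step chk1 1 (y 0) trivial
  rw [one_mul] at e1
  -- level 2
  obtain ⟨r2, hr2, e2⟩ := trans_step chk2 r1 (y 1) (ne_of_apply e1 (hinj 1 0 (by decide)))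
  have a2 : (r1 * r2) 2 = y 0 := by rw [Equiv.Perm.mul_apply, fix7 r2 hr2, e1]
  -- level 3
  obtain ⟨r3, hr3, e3⟩ := trans_step chk3 (r1 * r2) (y 2)
    ⟨ne_of_apply a2 (hinj 2 0 (by decide)), ne_of_apply e2 (hinj 2 1 (by decide))⟩
  have a3 : (r1 * r2 * r3) 2 = y 0 := by
    rw [Equiv.Perm.mul_apply, fix7 r3 (H_mono (by norm_num) hr3), a2]
  have b3 : (r1 * r2 * r3) 1 = y 1 := by
    rw [Equiv.Perm.mul_apply, fix6 r3 hr3, e2]
  -- level 4
  obtain ⟨r4, hr4, e4⟩ := trans_step chk4 (r1 * r2 * r3) (y 3)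
    ⟨ne_of_apply a3 (hinj 3 0 (by decide)), ne_of_apply b3 (hinj 3 1 (by decide)),
      ne_of_apply e3 (hinj 3 2 (by decide))⟩
  have a4 : (r1 * r2 * r3 * r4) 2 = y 0 := by
    rw [Equiv.Perm.mul_apply, fix7 r4 (H_mono (by norm_num) hr4), a3]
  have b4 : (r1 * r2 * r3 * r4) 1 = y 1 := by
    rw [Equiv.Perm.mul_apply, fix6 r4 (H_mono (by norm_num) hr4), b3]
  have c4 : (r1 * r2 * r3 * r4) 0 = y 2 := by
    rw [Equiv.Perm.mul_apply, fix5 r4 hr4, e3]
  -- level 5
  obtain ⟨r5, hr5, e5⟩ := trans_step chk5 (r1 * r2 * r3 * r4) (y 4)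
    ⟨ne_of_apply a4 (hinj 4 0 (by decide)), ne_of_apply b4 (hinj 4 1 (by decide)),
      ne_of_apply c4 (hinj 4 2 (by decide)), ne_of_apply e4 (hinj 4 3 (by decide))⟩
  have a5 : (r1 * r2 * r3 * r4 * r5) 2 = y 0 := by
    rw [Equiv.Perm.mul_apply, fix7 r5 (H_mono (by norm_num) hr5), a4]
  have b5 : (r1 * r2 * r3 * r4 * r5) 1 = y 1 := by
    rw [Equiv.Perm.mul_apply, fix6 r5 (H_mono (by norm_num) hr5), b4]
  have c5 : (r1 * r2 * r3 * r4 * r5) 0 = y 2 := by
    rw [Equiv.Perm.mul_apply, fix5 r5 (H_mono (by norm_num) hr5), c4]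
  have d5 : (r1 * r2 * r3 * r4 * r5) 3 = y 3 := by
    rw [Equiv.Perm.mul_apply, fix3 r5 hr5, e4]
  refine ⟨r1 * r2 * r3 * r4 * r5, ?_, a5, b5, c5, d5, e5⟩
  exact (H 8).mul_mem ((H 8).mul_mem ((H 8).mul_mem ((H 8).mul_mem hr1 (H_mono (by norm_num) hr2))
    (H_mono (by norm_num) hr3)) (H_mono (by norm_num) hr4)) (H_mono (by norm_num) hr5)

/-- An element of the group fixing the five base points is trivial. -/
theorem eq_one_of_fix_base (g : Equiv.Perm (Fin 12)) (hg : g ∈ H 8) (h2 : g 2 = 2) (h1 : g 1 = 1)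
    (h0 : g 0 = 0) (h3 : g 3 = 3) (h4 : g 4 = 4) : g = 1 := by
  have m7 := level_stab (by norm_num) chk1 g hg h2
  have m6 := level_stab (by norm_num) chk2 g m7 h1
  have m5 := level_stab (by norm_num) chk3 g m6 h0
  have m3 := level_stab (by norm_num) chk4 g m5 h3
  have m0 := level_stab (by norm_num) chk5 g m3 h4
  rw [H_zero, Subgroup.mem_bot] at m0
  exact m0

/-- The base tuple. -/
def base : Fin 5 ↪ Fin 12 := ⟨![2, 1, 0, 3, 4], by decide⟩

theorem exists_smul_base (y : Fin 5 ↪ Fin 12) : ∃ g : H 8, g • base = y := by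
  obtain ⟨g, hg, a, b, c, d, e⟩ := exists_map_base y
  refine ⟨⟨g, hg⟩, ?_⟩
  ext i
  rw [Function.Embedding.smul_apply]
  fin_cases i
  · exact congrArg Fin.val a
  · exact congrArg Fin.val b
  · exact congrArg Fin.val c
  · exact congrArg Fin.val d
  · exact congrArg Fin.val e

theorem stab_base (g : H 8) (hg : g • base = base) : g = 1 := by
  have hpt : ∀ i : Fin 5, (g : Equiv.Perm (Fin 12)) (base i) = base i := by
    intro i
    have := congrArg (fun f : Fin 5 ↪ Fin 12 => f i) hg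
    exact this
  apply Subtype.ext
  exact eq_one_of_fix_base g.1 g.2 (hpt 0) (hpt 1) (hpt 2) (hpt 3) (hpt 4)

theorem H8_eq (a b c d e f g h : Equiv.Perm (Fin 12)) (ha : a = gperm 3) (hb : b = gperm 4)
    (hc : c = gperm 0) (hd : d = gperm 1) (he : e = gperm 2) (hf : f = gperm 5) (hg : g = gperm 6)
    (hh : h = gperm 7) : Subgroup.closure {a, b, c, d, e, f, g, h} = H 8 := by
  subst ha hb hc hd he hf hg hh
  unfold H
  congr 1
  ext x
  constructor
  · intro hx
    simp only [Set.mem_insert_iff, Set.mem_singleton_iff] at hx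
    rcases hx with rfl | rfl | rfl | rfl | rfl | rfl | rfl | rfl
    · exact ⟨3, by norm_num, rfl⟩
    · exact ⟨4, by norm_num, rfl⟩
    · exact ⟨0, by norm_num, rfl⟩
    · exact ⟨1, by norm_num, rfl⟩
    · exact ⟨2, by norm_num, rfl⟩
    · exact ⟨5, by norm_num, rfl⟩
    · exact ⟨6, by norm_num, rfl⟩
    · exact ⟨7, by norm_num, rfl⟩
  · rintro ⟨i, hi, rfl⟩
    interval_cases i <;> simp

theorem H7_eq (a b c d e f g : Equiv.Perm (Fin 12)) (ha : a = gperm 3) (hb : b = gperm 4)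
    (hc : c = gperm 0) (hd : d = gperm 1) (he : e = gperm 2) (hf : f = gperm 5) (hg : g = gperm 6) :
    Subgroup.closure {a, b, c, d, e, f, g} = H 7 := by
  subst ha hb hc hd he hf hg
  unfold H
  congr 1
  ext x
  constructor
  · intro hx
    simp only [Set.mem_insert_iff, Set.mem_singleton_iff] at hx
    rcases hx with rfl | rfl | rfl | rfl | rfl | rfl | rfl
    · exact ⟨3, by norm_num, rfl⟩
    · exact ⟨4, by norm_num, rfl⟩
    · exact ⟨0, by norm_num, rfl⟩
    · exact ⟨1, by norm_num, rfl⟩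
    · exact ⟨2, by norm_num, rfl⟩
    · exact ⟨5, by norm_num, rfl⟩
    · exact ⟨6, by norm_num, rfl⟩
  · rintro ⟨i, hi, rfl⟩
    interval_cases i <;> simp

/-- An explicit construction of the Mathieu groups of degrees 11 and 12. On the points 0, …, 11 let s = (3 4 5)(6 7 8)(9 10 11), t = (3 6 9)(4 7 10)(5 8 11), u = (4 6 5 9)(7 8 11 10), v = (4 7 5 11)(6 10 9 8), w = (4 10 5 8)(6 11 9 7), x₁ = (0 3)(6 7)(8 10)(9 11), x₂ = (0 1)(6 9)(7 10)(8 11), x₃ = (1 2)(6 11)(7 9)(8 10) (each written as a product of transpositions). Then the group M₁₂ generated by all eight permutations is sharply 5-transitive on the 12 points and has order 95040, and the group M₁₁ generated by the first seven has order 7920 and is the stabilizer of the point 2 in M₁₂. -/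
theorem result
    (s t u v w x₁ x₂ x₃ : Equiv.Perm (Fin 12))
    (hs : s = Equiv.swap (3 : Fin 12) 5 * Equiv.swap (3 : Fin 12) 4 * Equiv.swap (6 : Fin 12) 8 * Equiv.swap (6 : Fin 12) 7 * Equiv.swap (9 : Fin 12) 11 * Equiv.swap (9 : Fin 12) 10) (ht : t = Equiv.swap (3 : Fin 12) 9 * Equiv.swap (3 : Fin 12) 6 * Equiv.swap (4 : Fin 12) 10 * Equiv.swap (4 : Fin 12) 7 * Equiv.swap (5 : Fin 12) 11 * Equiv.swap (5 : Fin 12) 8)
    (hu : u = Equiv.swap (4 : Fin 12) 9 * Equiv.swap (4 : Fin 12) 5 * Equiv.swap (4 : Fin 12) 6 * Equiv.swap (7 : Fin 12) 10 * Equiv.swap (7 : Fin 12) 11 * Equiv.swap (7 : Fin 12) 8) (hv : v = Equiv.swap (4 : Fin 12) 11 * Equiv.swap (4 : Fin 12) 5 * Equiv.swap (4 : Fin 12) 7 * Equiv.swap (6 : Fin 12) 8 * Equiv.swap (6 : Fin 12) 9 * Equiv.swap (6 : Fin 12) 10) (hw : w = Equiv.swap (4 : Fin 12) 8 * Equiv.swap (4 : Fin 12) 5 * Equiv.swap (4 : Fin 12) 10 * Equiv.swap (6 : Fin 12) 7 * Equiv.swap (6 : Fin 12) 9 * Equiv.swap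 (6 : Fin 12) 11)
    (hx₁ : x₁ = Equiv.swap (0 : Fin 12) 3 * Equiv.swap (6 : Fin 12) 7 * Equiv.swap (8 : Fin 12) 10 * Equiv.swap (9 : Fin 12) 11) (hx₂ : x₂ = Equiv.swap (0 : Fin 12) 1 * Equiv.swap (6 : Fin 12) 9 * Equiv.swap (7 : Fin 12) 10 * Equiv.swap (8 : Fin 12) 11)
    (hx₃ : x₃ = Equiv.swap (1 : Fin 12) 2 * Equiv.swap (6 : Fin 12) 11 * Equiv.swap (7 : Fin 12) 9 * Equiv.swap (8 : Fin 12) 10)
    (M₁₂ M₁₁ : Subgroup (Equiv.Perm (Fin 12))) (hM₁₂ : M₁₂ = Subgroup.closure {s, t, u, v, w, x₁, x₂, x₃})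
    (hM₁₁ : M₁₁ = Subgroup.closure {s, t, u, v, w, x₁, x₂}) :
    MulAction.IsMultiplyPretransitive M₁₂ (Fin 12) 5 ∧ (∀ y : Fin 5 ↪ Fin 12, MulAction.stabilizer M₁₂ y = ⊥) ∧
    Nat.card M₁₂ = 95040 ∧ Nat.card M₁₁ = 7920 ∧
    M₁₁ = M₁₂ ⊓ MulAction.stabilizer (Equiv.Perm (Fin 12)) (2 : Fin 12) := by
  have es : s = gperm 3 := by rw [hs]; decide
  have et : t = gperm 4 := by rw [ht]; decide
  have eu : u = gperm 0 := by rw [hu]; decide
  have ev : v = gperm 1 := by rw [hv]; decide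
  have ew : w = gperm 2 := by rw [hw]; decide
  have ex1 : x₁ = gperm 5 := by rw [hx₁]; decide
  have ex2 : x₂ = gperm 6 := by rw [hx₂]; decide
  have ex3 : x₃ = gperm 7 := by rw [hx₃]; decide
  have h12 : M₁₂ = H 8 := by rw [hM₁₂]; exact H8_eq s t u v w x₁ x₂ x₃ es et eu ev ew ex1 ex2 ex3
  have h11 : M₁₁ = H 7 := by rw [hM₁₁]; exact H7_eq s t u v w x₁ x₂ es et eu ev ew ex1 ex2
  subst h12 h11
  refine ⟨?_, ?_, card_H8, card_H7, ?_⟩
  · rw [MulAction.isMultiplyPretransitive_iff]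
    intro x y
    obtain ⟨gx, hgx⟩ := exists_smul_base x
    obtain ⟨gy, hgy⟩ := exists_smul_base y
    refine ⟨gy * gx⁻¹, ?_⟩
    rw [← hgx]
    have e1 : (gy * gx⁻¹) • gx • base = gy • (gx⁻¹ • gx • base) := mul_smul gy gx⁻¹ (gx • base)
    have e2 : gx⁻¹ • gx • base = base := inv_smul_smul gx base
    rw [e1, e2, hgy]
  · intro y
    obtain ⟨gy, hgy⟩ := exists_smul_base y
    rw [eq_bot_iff]
    intro k hk
    rw [MulAction.mem_stabilizer_iff] at hk
    rw [Subgroup.mem_bot]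
    have h1 : (gy⁻¹ * k * gy) • base = base := by
      have e1 : (gy⁻¹ * k * gy) • base = gy⁻¹ • (k • (gy • base)) := by
        rw [show gy⁻¹ * k * gy = gy⁻¹ * (k * gy) by group]
        exact (mul_smul gy⁻¹ (k * gy) base).trans (congrArg _ (mul_smul k gy base))
      rw [e1, hgy]
      refine Eq.trans (congrArg (fun z : Fin 5 ↪ Fin 12 => gy⁻¹ • z) hk) ?_
      rw [← hgy]
      exact inv_smul_smul gy base
    have h2 := stab_base _ h1
    calc k = gy * (gy⁻¹ * k * gy) * gy⁻¹ := by group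
      _ = 1 := by rw [h2]; group
  · apply le_antisymm
    · intro g hg
      refine Subgroup.mem_inf.mpr ⟨H_mono (by norm_num) hg, ?_⟩
      rw [MulAction.mem_stabilizer_iff]
      exact fix7 g hg
    · intro g hg
      obtain ⟨hg8, hg2⟩ := Subgroup.mem_inf.mp hg
      rw [MulAction.mem_stabilizer_iff] at hg2
      exact level_stab (by norm_num) chk1 g hg8 hg2

end Cfsg.Agent.S3362
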