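import Cfsg.Statements.S3366
import Cfsg.Agent.Lib.helper6.S3366Defs
import Cfsg.Agent.Lib.helper6.S3366Setting
import Cfsg.Agent.Lib.helper6.S3366Final
import Cfsg.Agent.Lib.helper78.S3366P1
import Cfsg.Agent.Lib.helper79.S3366P2
import Cfsg.Agent.Lib.helper29.S3366P3
import Cfsg.Agent.Lib.helper61.S3366P4
import Cfsg.Agent.Lib.helper39.S3366P5
import Cfsg.Agent.Lib.helper78.S3366P6a
import Cfsg.Agent.Lib.helper61.S3366P6b
import Cfsg.Agent.Lib.helper83.S3366P7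
import Cfsg.Agent.Lib.helper65.S3366P8

set_option autoImplicit false
open Cfsg
open Cfsg.Agent.Lib.helper6.S3366

namespace Cfsg.Agent.S3366

/-- The abstract side: a group satisfying the hypotheses is isomorphic to the model
`M = H3 ⋊ SL(2,3)`. -/
theorem abstract_side {X : Type*} [Group X] [Finite X]
    (hR : Cfsg.IsExtraspecial 3 (Cfsg.pCore 3 X)) (hRcard : Nat.card (Cfsg.pCore 3 X) = 27)
    (hRexp : ∀ r ∈ Cfsg.pCore 3 X, r ^ 3 = 1)
    (e : X ⧸ Cfsg.pCore 3 X ≃* SL23) (hO2 : Cfsg.pCore 2 X = ⊥)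
    (hE : ∃ E : Subgroup X, IsMulCommutative E ∧ (∀ a ∈ E, a ^ 3 = 1) ∧ Nat.card E = 27) :
    Nonempty (M ≃* X) := by
  obtain ⟨z, S⟩ := setting_of_hyp hR hRcard hRexp e hO2
  have hz := Cfsg.Agent.Lib.helper78.S3366.z_central S
  have hK' := Cfsg.Agent.Lib.helper79.S3366.cent_mod_le S hz
  have hK := Cfsg.Agent.Lib.helper79.S3366.cent_le S hz
  obtain ⟨t, ht2, htπ, htD⟩ := Cfsg.Agent.Lib.helper29.S3366.exists_invol S hz hK
  obtain ⟨ι, hι, hιR, hιt⟩ := Cfsg.Agent.Lib.helper61.S3366.exists_iota_of S hz t ht2 htD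
    (fun a b c => Cfsg.Agent.Lib.helper39.S3366.heis_hom a b c)
  obtain ⟨E, hEc0, hE3, hEn⟩ := hE
  have hEc : ∀ a ∈ E, ∀ b ∈ E, a * b = b * a := by
    intro a ha b hb
    have := hEc0.is_comm.comm ⟨a, ha⟩ ⟨b, hb⟩
    exact congrArg Subtype.val this
  obtain ⟨e₀, he₀, he₀R, hw, hCw, hW0⟩ :=
    Cfsg.Agent.Lib.helper78.S3366.exists_w S hz hK' E hEc hE3 hEn
  obtain ⟨s, hs3, hsR, hst⟩ := Cfsg.Agent.Lib.helper61.S3366.exists_s S hz t ht2 htπ htD E hEc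
    hE3 e₀ he₀ he₀R hw hCw hW0
  obtain ⟨L, hLt, hLR, hL⟩ :=
    Cfsg.Agent.Lib.helper83.S3366.exists_compl S hz t ht2 htπ htD s hs3 hsR hst
  obtain ⟨lam, hlamL, hlam, hc⟩ :=
    Cfsg.Agent.Lib.helper65.S3366.exists_lam S hz hK t ι hι hιR hιt L hLt hLR hL
  refine iso_of_data (card_X S) ι lam hc ?_
  intro h A hA
  have h1 : lam A = (ι h)⁻¹ := (eq_inv_of_mul_eq_one_right hA)
  have h2 : lam A ∈ Cfsg.pCore 3 X := by
    rw [h1]
    exact inv_mem ((hιR _).mpr ⟨h, rfl⟩)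
  have h3 : lam A = 1 := hLR _ (hlamL A) h2
  have h4 : A = 1 := hlam (by rw [h3, map_one])
  have h5 : ι h = 1 := by
    rw [h3] at h1
    rw [← inv_inv (ι h), ← h1, inv_one]
  exact ⟨hι (by rw [h5, map_one]), h4⟩

/-- Let X be a finite group with O₃(X) extraspecial of order 27 and exponent 3, X/O₃(X) isomorphic to SL(2,3), O₂(X) = 1, and a Sylow 3-subgroup of X containing an elementary abelian subgroup of order 27. Then X is isomorphic to the centralizer in PSp(4,3) of a 3-central element of order 3 (an element of order 3 in the centre of a Sylow 3-subgroup). -/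
theorem result {X : Type*} [Group X] [Finite X]
    (hR : Cfsg.IsExtraspecial 3 (Cfsg.pCore 3 X)) (hRcard : Nat.card (Cfsg.pCore 3 X) = 27)
    (hRexp : ∀ r ∈ Cfsg.pCore 3 X, r ^ 3 = 1)
    (e : X ⧸ Cfsg.pCore 3 X ≃* Matrix.SpecialLinearGroup (Fin 2) (ZMod 3))
    (hO2 : Cfsg.pCore 2 X = ⊥)
    (hE : ∃ E : Subgroup X, IsMulCommutative E ∧ (∀ a ∈ E, a ^ 3 = 1) ∧ Nat.card E = 27)
    (F : Type*) [Field F] [Fintype F] (hF : Fintype.card F = 3) :
    ∃ (c : Cfsg.PSp 2 F) (S : Sylow 3 (Cfsg.PSp 2 F)), orderOf c = 3 ∧ c ∈ (S : Subgroup (Cfsg.PSp 2 F)) ∧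
      c ∈ Subgroup.centralizer ((S : Subgroup (Cfsg.PSp 2 F)) : Set (Cfsg.PSp 2 F)) ∧
      Nonempty (X ≃* Subgroup.centralizer ({c} : Set (Cfsg.PSp 2 F))) := by
  exact final_of_abstract (abstract_side hR hRcard hRexp e hO2 hE) F hF

end Cfsg.Agent.S3366
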