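import Cfsg.Statements.S3370
import Cfsg.Agent.Lib.helper59.TransVecE

set_option autoImplicit false
open Cfsg

namespace Cfsg.Agent.S3370

open Cfsg.Agent.Lib.helper59.TransVec

/-- Let q be a prime, V a non-trivial finite vector space over the field with q elements, and G a non-trivial finite p-group (p prime) acting faithfully and linearly on V and transitively on the non-zero vectors. Then either q = 2 and G has prime order p = |V| − 1; or p = 2, V has q elements with q = 2^m + 1 and G is cyclic of order 2^m; or p = 2, q = 3, V has 9 elements and G is cyclic of order 8, quaternion of order 8, or semidihedral of order 16. -/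
theorem result (q : ℕ) [Fact q.Prime] {V : Type*} [AddCommGroup V] [Module (ZMod q) V] [Finite V] [Nontrivial V]
    {G : Type*} [Group G] [Finite G] [Nontrivial G] (p : ℕ) [Fact p.Prime] (hG : IsPGroup p G)
    (ρ : G →* (V ≃ₗ[ZMod q] V)) (hρ : Function.Injective ρ)
    (htrans : ∀ v w : V, v ≠ 0 → w ≠ 0 → ∃ g : G, ρ g v = w) :
    (q = 2 ∧ p = Nat.card V - 1 ∧ Nat.card G = p) ∨
    (p = 2 ∧ Nat.card V = q ∧ (∃ m : ℕ, q = 2 ^ m + 1 ∧ Nat.card G = 2 ^ m) ∧ IsCyclic G) ∨
    (p = 2 ∧ q = 3 ∧ Nat.card V = 9 ∧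
      ((IsCyclic G ∧ Nat.card G = 8) ∨ Nonempty (G ≃* QuaternionGroup 2) ∨ (Cfsg.IsQuasiDihedral G ∧ Nat.card G = 16))) := by
  have hq : q.Prime := Fact.out
  have hp : p.Prime := Fact.out
  have hcardV : Nat.card V = q ^ Module.finrank (ZMod q) V := by
    rw [Module.natCard_eq_pow_finrank (K := ZMod q), Nat.card_zmod]
  have hn1 : 1 ≤ Module.finrank (ZMod q) V := Module.finrank_pos
  obtain ⟨v0, hv0⟩ := exists_ne (0 : V)
  have hcardG := card_eq_mul_stab ρ htrans v0 hv0
  obtain ⟨a, ha⟩ := IsPGroup.iff_card.mp hG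
  have hdvd : Nat.card V - 1 ∣ p ^ a := ha ▸ Dvd.intro _ hcardG.symm
  obtain ⟨b, hba, hb⟩ := (Nat.dvd_prime_pow hp).mp hdvd
  have hVpos : 1 ≤ Nat.card V := Nat.card_pos
  have hVb : q ^ Module.finrank (ZMod q) V = p ^ b + 1 := by
    rw [← hcardV]; omega
  by_cases hq2 : q = 2
  · subst hq2
    left
    have hb1 := nt_two hp hn1 hVb
    rcases Nat.eq_zero_or_pos b with hb0 | hb0
    · exfalso
      subst hb0
      rw [pow_zero] at hb
      have hV2 : Nat.card V = 2 := by omega
      obtain ⟨y, -, hy⟩ := (Nat.card_eq_two_iff' (0 : V)).mp hV2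
      have htriv : ∀ g : G, g = 1 := by
        intro g
        apply hρ
        rw [map_one]
        ext w
        by_cases hw : w = 0
        · rw [hw, map_zero, map_zero]
        · have h1 : ρ g w ≠ 0 := fun h => hw ((ρ g).map_eq_zero_iff.mp h)
          rw [hy _ h1, hy w hw]
          rfl
      obtain ⟨g, hg⟩ := exists_ne (1 : G)
      exact hg (htriv g)
    · have hb' : b = 1 := by omega
      subst hb'
      rw [pow_one] at hb hVb
      have hstab := stab_eq_bot_of_card ρ hG hρ (by rw [hcardV, hVb]) v0 hv0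
      refine ⟨rfl, hb.symm, ?_⟩
      rw [hcardG, hb, hstab, Subgroup.card_bot, mul_one]
  · right
    obtain ⟨hp2, hcase⟩ := nt_odd hp hq hq2 hn1 hVb
    subst hp2
    rcases hcase with h1 | ⟨h3, h2⟩
    · left
      refine ⟨rfl, by rw [hcardV, h1, pow_one], ⟨b, ?_, ?_⟩, isCyclic_of_finrank_one ρ hρ h1⟩
      · rw [h1, pow_one] at hVb
        exact hVb
      · rw [hcardG, hb, stab_eq_bot_of_finrank_one ρ hρ h1 v0 hv0, Subgroup.card_bot, mul_one]
    · right
      subst h3
      refine ⟨rfl, rfl, by rw [hcardV, h2]; norm_num, ?_⟩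
      have hfd : Module.Finite (ZMod 3) V := Module.finite_of_finrank_pos (by rw [h2]; norm_num)
      let e : V ≃ₗ[ZMod 3] (Fin 2 → ZMod 3) :=
        LinearEquiv.ofFinrankEq V (Fin 2 → ZMod 3) (by rw [h2]; simp)
      exact lemmaE (matHom e ρ) (matHom_injective e ρ hρ) (matHom_trans e ρ htrans) hG

end Cfsg.Agent.S3370
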