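import Cfsg.Statements.S3374
import Cfsg.Agent.S0692
import Cfsg.Agent.Lib.helper75.FrobComplement
import Cfsg.Agent.Lib.helper61.SL25Pres

set_option autoImplicit false
open Cfsg

namespace Cfsg.Agent.S3374

open Cfsg.Agent.Lib.helper61

/-- The matrix `!![0, -1; 1, 0]` over `ZMod 11`. -/
def gA : Matrix.GeneralLinearGroup (Fin 2) (ZMod 11) :=
  ⟨!![0, -1; 1, 0], !![0, 1; -1, 0], by decide, by decide⟩

/-- The matrix `!![2, 4; 1, -3]` over `ZMod 11`. -/
def gB : Matrix.GeneralLinearGroup (Fin 2) (ZMod 11) :=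
  ⟨!![2, 4; 1, -3], !![-3, -4; -1, 2], by decide, by decide⟩

theorem rB3 : gB ^ 3 = 1 := by decide
theorem rY5 : ((gA * gB)⁻¹) ^ 5 = 1 := by decide
theorem rZ2 : (gA * gA) ^ 2 = 1 := by decide
theorem rZB : (gA * gA)⁻¹ * gB * (gA * gA) * gB⁻¹ = 1 := by decide
theorem rZY : (gA * gA)⁻¹ * (gA * gB)⁻¹ * (gA * gA) * ((gA * gB)⁻¹)⁻¹ = 1 := by decide
theorem rXYZ : (gB * (gA * gB)⁻¹) ^ 2 * (gA * gA)⁻¹ = 1 := by decide

/-- The homomorphism from the presented group into `GL(2,11)`. -/
def theta : SL25.P →* Matrix.GeneralLinearGroup (Fin 2) (ZMod 11) :=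
  SL25.homOf gB (gA * gB)⁻¹ (gA * gA) rB3 rY5 rZ2 rZB rZY rXYZ

theorem theta_x : theta SL25.x = gB := SL25.homOf_x _ _ _ _ _ _ _ _ _
theorem theta_y : theta SL25.y = (gA * gB)⁻¹ := SL25.homOf_y _ _ _ _ _ _ _ _ _

/-- SL(2,5) occurs as a Frobenius complement: there is a finite group L with a subgroup H isomorphic to SL(2,5) which is a non-trivial proper subgroup meeting each conjugate gHg⁻¹ with g outside H trivially. -/
theorem result :
    ∃ (L : Type) (_ : Group L) (_ : Finite L) (H : Subgroup L),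
      Cfsg.IsFrobeniusComplement H ∧ Nonempty (H ≃* Matrix.SpecialLinearGroup (Fin 2) (ZMod 5)) := by
  classical
  haveI : Fact (Nat.Prime 11) := ⟨by norm_num⟩
  obtain ⟨hcard, hreg⟩ := Cfsg.Agent.S0692.result gA gB rfl rfl
  set H₀ := Subgroup.closure ({gA, gB} : Set (Matrix.GeneralLinearGroup (Fin 2) (ZMod 11))) with hH₀
  haveI hfinH : Finite H₀ := Nat.finite_of_card_ne_zero (by rw [hcard]; norm_num)
  haveI hntH : Nontrivial H₀ := by
    rw [← Finite.one_lt_card_iff_nontrivial, hcard]; norm_num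
  -- H₀ ≤ range theta
  have hle : H₀ ≤ theta.range := by
    rw [hH₀, Subgroup.closure_le]
    rintro g (rfl | rfl)
    · refine ⟨(SL25.x * SL25.y)⁻¹, ?_⟩
      rw [map_inv, map_mul, theta_x, theta_y]
      group
    · exact ⟨SL25.x, theta_x⟩
  haveI := SL25.finite_P
  have hbij : Function.Bijective theta.rangeRestrict := by
    refine (MonoidHom.rangeRestrict_surjective theta).bijective_of_nat_card_le ?_
    rw [SL25.card_P, ← hcard]
    exact Subgroup.card_le_of_le hle
  have hcr : Nat.card theta.range = 120 := by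
    rw [← Nat.card_congr (Equiv.ofBijective _ hbij), SL25.card_P]
  have hrange : H₀ = theta.range := Subgroup.eq_of_le_of_card_ge hle (by rw [hcr, hcard])
  obtain ⟨e₃⟩ := SL25.nonempty_equiv
  have e₀ : H₀ ≃* Matrix.SpecialLinearGroup (Fin 2) (ZMod 5) :=
    ((MulEquiv.subgroupCongr hrange).trans (MulEquiv.ofBijective _ hbij).symm).trans e₃
  letI : DistribMulAction H₀ (Fin 2 → ZMod 11) :=
    { smul := fun h v =>
        Matrix.mulVec ((h : Matrix.GeneralLinearGroup (Fin 2) (ZMod 11)) :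
          Matrix (Fin 2) (Fin 2) (ZMod 11)) v
      one_smul := fun v => by
        show Matrix.mulVec (((1 : H₀) : Matrix.GeneralLinearGroup (Fin 2) (ZMod 11)) :
          Matrix (Fin 2) (Fin 2) (ZMod 11)) v = v
        simp
      mul_smul := fun g h v => by
        show Matrix.mulVec (((g * h : H₀) : Matrix.GeneralLinearGroup (Fin 2) (ZMod 11)) :
          Matrix (Fin 2) (Fin 2) (ZMod 11)) v =
          Matrix.mulVec ((g : Matrix.GeneralLinearGroup (Fin 2) (ZMod 11)) :
            Matrix (Fin 2) (Fin 2) (ZMod 11))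
            (Matrix.mulVec ((h : Matrix.GeneralLinearGroup (Fin 2) (ZMod 11)) :
              Matrix (Fin 2) (Fin 2) (ZMod 11)) v)
        rw [Matrix.mulVec_mulVec]
        rfl
      smul_zero := fun h => Matrix.mulVec_zero _
      smul_add := fun h v w => Matrix.mulVec_add _ v w }
  obtain ⟨L, i1, i2, C, hC, ⟨e⟩⟩ :=
    Cfsg.Agent.Lib.helper75.exists_frobenius_of_fpf_add (M := Fin 2 → ZMod 11) (H := H₀) (by
      intro h hh m hm
      by_contra hm0
      obtain ⟨h', -, huniq⟩ := hreg m m hm0 hm0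
      have h1 := huniq h hm
      have h2 := huniq 1 (by simp)
      exact hh (h1.trans h2.symm))
  exact ⟨L, i1, i2, C, hC, ⟨e.symm.trans e₀⟩⟩

end Cfsg.Agent.S3374
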