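import Cfsg.Statements.S3376
import Cfsg.Agent.Lib.helper59.C3wrS3
import Cfsg.Agent.Lib.helper3.Extraspecial
import Cfsg.Agent.Lib.helper3.PGroupNormal

set_option autoImplicit false
open Cfsg

namespace Cfsg.Agent.S3376

open Cfsg.Agent.Lib.helper59.C3wrS3

/-- A finite group of order `162` with a core-free subgroup `H` of index `9` and a central element
`z` of order `3` outside `H` is isomorphic to the centralizer of `σ9` in `S₉`. -/
theorem iso_of_action {G : Type*} [Group G] [Finite G] (hG : Nat.card G = 162) (H : Subgroup G)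
    (hidx : H.index = 9) (hcore : H.normalCore = ⊥) (z : G) (hz3 : z ^ 3 = 1)
    (hzc : ∀ g : G, g * z = z * g) (hzH : z ∉ H) :
    Nonempty (G ≃* Subgroup.centralizer ({σ9} : Set (Equiv.Perm (Fin 9)))) := by
  classical
  have hcard : Nat.card (G ⧸ H) = 9 := hidx
  let ε : G ⧸ H ≃ Fin 9 := Finite.equivFinOfCardEq hcard
  let φ : G →* Equiv.Perm (G ⧸ H) := MulAction.toPermHom G (G ⧸ H)
  have hφ : Function.Injective φ := by
    rw [← MonoidHom.ker_eq_bot_iff, ← Subgroup.normalCore_eq_ker, hcore]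
  let ψ₀ : G →* Equiv.Perm (Fin 9) := (ε.permCongrHom).toMonoidHom.comp φ
  have hψ₀ : Function.Injective ψ₀ := (ε.permCongrHom).injective.comp hφ
  have hfpf : ∀ x : Fin 9, ψ₀ z x ≠ x := by
    intro x hx
    have h1 : ε (φ z (ε.symm x)) = x := hx
    have h2 : φ z (ε.symm x) = ε.symm x := by
      rw [Equiv.eq_symm_apply]; exact h1
    revert h2
    generalize ε.symm x = q
    induction q using QuotientGroup.induction_on with
    | H g =>
      intro h2
      have h3 : ((z * g : G) : G ⧸ H) = (g : G ⧸ H) := h2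
      rw [QuotientGroup.eq] at h3
      apply hzH
      have h4 : (z * g)⁻¹ * g = z⁻¹ := by
        rw [← hzc g]; group
      rw [h4] at h3
      exact (Subgroup.inv_mem_iff H).mp h3
  have hcube : ψ₀ z ^ 3 = 1 := by rw [← map_pow, hz3, map_one]
  have hct : (ψ₀ z).cycleType = σ9.cycleType := by
    rw [cycleType_of_fpf_cube _ hcube hfpf, cycleType_of_fpf_cube _ σ9_cube σ9_fpf]
  obtain ⟨ρ, hρ⟩ := isConj_iff.mp (Equiv.Perm.isConj_iff_cycleType_eq.mpr hct)
  let ψ : G →* Equiv.Perm (Fin 9) := (MulAut.conj ρ).toMonoidHom.comp ψ₀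
  have hψ : Function.Injective ψ := (MulAut.conj ρ).injective.comp hψ₀
  have hψz : ψ z = σ9 := hρ
  let f : G →* Subgroup.centralizer ({σ9} : Set (Equiv.Perm (Fin 9))) :=
    ψ.codRestrict _ (fun g => by
      rw [Subgroup.mem_centralizer_iff]
      intro h hh
      rw [Set.mem_singleton_iff] at hh
      rw [hh, ← hψz, ← map_mul, ← map_mul, hzc g])
  have hf : Function.Injective f := by
    intro a b hab
    exact hψ (congrArg Subtype.val hab)
  have hbij : Function.Bijective f :=
    hf.bijective_of_nat_card_le (by rw [hG]; exact card_centralizer_le)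
  exact ⟨MulEquiv.ofBijective f hbij⟩

/-- Let G be a group of order 162 = 3⁴·2 with Sylow 3-subgroup S and Sylow 2-subgroup T, having an elementary abelian normal subgroup J of order 27, such that Z = Z(S) has order 3, Z centralizes T, and C_S(T) ≠ S. Then G is isomorphic to the centralizer in Sym(9) of a product of three disjoint 3-cycles. -/
theorem result {G : Type*} [Group G] [Finite G] (hG : Nat.card G = 162)
    (S : Sylow 3 G) (T : Sylow 2 G) (J : Subgroup G) [hJn : J.Normal] (hJcomm : IsMulCommutative J)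
    (hJexp : ∀ a ∈ J, a ^ 3 = 1) (hJcard : Nat.card J = 27)
    (Z : Subgroup G) (hZ : Z = (S : Subgroup G) ⊓ Subgroup.centralizer ((S : Subgroup G) : Set G)) (hZcard : Nat.card Z = 3)
    (hZT : Z ≤ Subgroup.centralizer ((T : Subgroup G) : Set G))
    (hST : (S : Subgroup G) ⊓ Subgroup.centralizer ((T : Subgroup G) : Set G) ≠ S) :
    Nonempty (G ≃* Subgroup.centralizer ({Equiv.swap (0 : Fin 9) 1 * Equiv.swap 1 2 * Equiv.swap 3 4 * Equiv.swap 4 5 * Equiv.swap 6 7 * Equiv.swap 7 8} : Set (Equiv.Perm (Fin 9)))) := by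
  classical
  have hp3 : Fact (Nat.Prime 3) := ⟨Nat.prime_three⟩
  have hp2 : Fact (Nat.Prime 2) := ⟨Nat.prime_two⟩
  -- orders of the Sylow subgroups
  have hS81 : Nat.card (S : Subgroup G) = 81 := by
    obtain ⟨k, hk⟩ := IsPGroup.iff_card.mp S.2
    have h1 := (S : Subgroup G).card_mul_index
    have h2 := S.not_dvd_index
    rw [hk, hG] at h1
    rw [hk]
    have hk6 : k < 5 := by
      by_contra hh
      push Not at hh
      have h3 : 3 ^ 5 ≤ 3 ^ k := Nat.pow_le_pow_right (by norm_num) hh
      have h4 : 3 ^ k ≤ 162 := Nat.le_of_dvd (by norm_num) ⟨_, h1.symm⟩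
      omega
    generalize (S : Subgroup G).index = i at h1 h2
    interval_cases k <;> omega
  have hT2 : Nat.card (T : Subgroup G) = 2 := by
    obtain ⟨k, hk⟩ := IsPGroup.iff_card.mp T.2
    have h1 := (T : Subgroup G).card_mul_index
    have h2 := T.not_dvd_index
    rw [hk, hG] at h1
    rw [hk]
    have hk6 : k < 8 := by
      by_contra hh
      push Not at hh
      have h3 : 2 ^ 8 ≤ 2 ^ k := Nat.pow_le_pow_right (by norm_num) hh
      have h4 : 2 ^ k ≤ 162 := Nat.le_of_dvd (by norm_num) ⟨_, h1.symm⟩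
      omega
    generalize (T : Subgroup G).index = i at h1 h2
    interval_cases k <;> omega
  have hSidx : (S : Subgroup G).index = 2 := by
    have := (S : Subgroup G).card_mul_index
    rw [hS81, hG] at this
    omega
  have hSn : (S : Subgroup G).Normal := Subgroup.normal_of_index_eq_two hSidx
  -- the involution `t`
  have hTnt : Nontrivial (T : Subgroup G) :=
    Finite.one_lt_card_iff_nontrivial.mp (by rw [hT2]; norm_num)
  obtain ⟨t', ht'⟩ := exists_ne (1 : (T : Subgroup G))
  obtain ⟨t, htT⟩ := t'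
  have ht1 : t ≠ 1 := fun h => ht' (Subtype.ext h)
  have ht2 : t ^ 2 = 1 := by
    have h0 : (⟨t, htT⟩ : (T : Subgroup G)) ^ Nat.card (T : Subgroup G) = 1 := pow_card_eq_one'
    rw [hT2] at h0
    exact congrArg Subtype.val h0
  have htinv : t⁻¹ = t := by rw [inv_eq_iff_mul_eq_one, ← pow_two, ht2]
  have htS : t ∉ (S : Subgroup G) := by
    intro h
    have h1 : orderOf t ∣ 81 := hS81 ▸ Subgroup.orderOf_dvd_natCard _ h
    have h2 : orderOf t ∣ 2 := orderOf_dvd_of_pow_eq_one ht2
    have h3 : orderOf t ∣ Nat.gcd 81 2 := Nat.dvd_gcd h1 h2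
    have h4 : orderOf t = 1 := by
      have : Nat.gcd 81 2 = 1 := by norm_num
      rw [this] at h3
      exact Nat.dvd_one.mp h3
    exact ht1 (orderOf_eq_one_iff.mp h4)
  have hTt : (T : Subgroup G) = Subgroup.zpowers t := by
    symm
    apply Subgroup.eq_of_le_of_card_ge (Subgroup.zpowers_le.mpr htT)
    rw [hT2, Nat.card_zpowers, orderOf_eq_prime ht2 ht1]
  -- the central element `z`
  have hZnt : Nontrivial Z := Finite.one_lt_card_iff_nontrivial.mp (by rw [hZcard]; norm_num)
  obtain ⟨z', hz'⟩ := exists_ne (1 : Z)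
  obtain ⟨z, hzZ⟩ := z'
  have hz1 : z ≠ 1 := fun h => hz' (Subtype.ext h)
  have hz3 : z ^ 3 = 1 := by
    have h0 : (⟨z, hzZ⟩ : Z) ^ Nat.card Z = 1 := pow_card_eq_one'
    rw [hZcard] at h0
    exact congrArg Subtype.val h0
  have hZz : Z = Subgroup.zpowers z := by
    symm
    apply Subgroup.eq_of_le_of_card_ge (Subgroup.zpowers_le.mpr hzZ)
    rw [hZcard, Nat.card_zpowers, orderOf_eq_prime hz3 hz1]
  have hzS : z ∈ (S : Subgroup G) := by
    have := hzZ; rw [hZ] at this; exact this.1
  have hzcS : ∀ s ∈ (S : Subgroup G), s * z = z * s := by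
    have := hzZ; rw [hZ] at this
    exact fun s hs => Subgroup.mem_centralizer_iff.mp this.2 s hs
  have hzt : t * z = z * t := Subgroup.mem_centralizer_iff.mp (hZT hzZ) t htT
  have hzc : ∀ g : G, g * z = z * g := by
    intro g
    by_cases hg : g ∈ (S : Subgroup G)
    · exact hzcS g hg
    · have h1 : t * g ∈ (S : Subgroup G) :=
        (Subgroup.mul_mem_iff_of_index_two hSidx).mpr (iff_of_false htS hg)
      have h2 := hzcS _ h1
      have h3 : t * (g * z) = t * (z * g) := by
        rw [← mul_assoc, h2, ← mul_assoc, ← mul_assoc, hzt]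
      exact mul_left_cancel h3
  -- `z ∈ J`
  have hJp : IsPGroup 3 J := IsPGroup.of_card (n := 3) (by rw [hJcard]; rfl)
  have hJS : J ≤ (S : Subgroup G) := hJp.le_sylow_of_normal S
  have hcentral : ∀ N : Subgroup G, N.Normal → N ≤ (S : Subgroup G) → N ≠ ⊥ → z ∈ N := by
    intro N hNn hNS hN
    have hN' : N.subgroupOf (S : Subgroup G) ≠ ⊥ := by
      intro h
      rw [Subgroup.subgroupOf_eq_bot, disjoint_iff, inf_eq_left.mpr hNS] at h
      exact hN h
    obtain ⟨w, hwN, hwc, hw1, -⟩ :=
      Cfsg.Agent.Lib.helper3.exists_central_of_normal_ne_bot S.2 (N.subgroupOf (S : Subgroup G)) hN'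
    have hwZ : (w : G) ∈ Z := by
      rw [hZ]
      refine ⟨w.2, Subgroup.mem_centralizer_iff.mpr ?_⟩
      intro h hh
      exact congrArg Subtype.val (Subgroup.mem_center_iff.mp hwc ⟨h, hh⟩)
    rw [hZz] at hwZ
    have hw1' : (w : G) ≠ 1 := fun h => hw1 (Subtype.ext h)
    have := mem_zpowers_of_mem_zpowers hz3 hwZ hw1'
    exact (Subgroup.zpowers_le.mpr (Subgroup.mem_subgroupOf.mp hwN)) this
  have hJne : J ≠ ⊥ := by
    intro h
    rw [h, Subgroup.card_bot] at hJcard
    norm_num at hJcard
  have hzJ : z ∈ J := hcentral J hJn hJS hJne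
  -- a `t`-invariant complement `J₁` to `⟨z⟩` in `J`
  let τ : J →* J := (MulAut.conjNormal t : MulAut J).toMonoidHom
  have hτ_val : ∀ a : J, ((τ a : J) : G) = t * a * t⁻¹ := fun a => MulAut.conjNormal_apply t a
  have hττ : ∀ a : J, τ (τ a) = a := by
    intro a
    apply Subtype.ext
    rw [hτ_val, hτ_val, htinv]
    have h0 : t * (t * (a : G) * t) * t = t ^ 2 * a * t ^ 2 := by rw [pow_two]; group
    rw [h0, ht2, one_mul, mul_one]
  obtain ⟨M, hMτ, hzM, hMtop⟩ := exists_invariant_complement
    (fun a b : J => hJcomm.is_comm.comm a b)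
    (fun a : J => Subtype.ext (hJexp a a.2)) τ hττ (⟨z, hzJ⟩ : J)
    (fun h => hz1 (congrArg Subtype.val h))
  have hM9 : Nat.card M = 9 := by
    have h1 : Nat.card (M ⊔ Subgroup.zpowers (⟨z, hzJ⟩ : J) : Subgroup J) ≤ 3 * Nat.card M :=
      Cfsg.Agent.Lib.helper3.card_sup_zpowers_le M (⟨z, hzJ⟩ : J) (p := 3) (by norm_num)
        (fun k hk => by
          have : (⟨z, hzJ⟩ : J) * k * (⟨z, hzJ⟩ : J)⁻¹ = k := by
            rw [hJcomm.is_comm.comm (⟨z, hzJ⟩ : J) k, mul_inv_cancel_right]
          rw [this]; exact hk)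
        (by
          have : (⟨z, hzJ⟩ : J) ^ 3 = 1 := Subtype.ext hz3
          rw [this]; exact M.one_mem)
    rw [hMtop, Subgroup.card_top, hJcard] at h1
    have h2 : Nat.card M ∣ 27 := hJcard ▸ Subgroup.card_subgroup_dvd_card M
    have h3 : Nat.card M ≠ 27 := by
      intro h
      have : M = ⊤ := Subgroup.eq_top_of_card_eq M (by rw [h, hJcard])
      rw [this] at hzM
      exact hzM (Subgroup.mem_top _)
    have h4 : Nat.card M ≤ 27 := Nat.le_of_dvd (by norm_num) h2
    generalize Nat.card M = m at h1 h2 h3 h4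
    interval_cases m <;> omega
  set J₁ : Subgroup G := M.map J.subtype with hJ₁
  have hJ₁J : J₁ ≤ J := Subgroup.map_subtype_le M
  have hJ₁9 : Nat.card J₁ = 9 := by
    rw [hJ₁, Subgroup.card_map_of_injective J.subtype_injective, hM9]
  have hzJ₁ : z ∉ J₁ := by
    rintro ⟨m, hm, hmz⟩
    apply hzM
    have : m = (⟨z, hzJ⟩ : J) := Subtype.ext hmz
    rw [← this]; exact hm
  have hJ₁t : ∀ k ∈ J₁, t * k * t⁻¹ ∈ J₁ := by
    rintro _ ⟨m, hm, rfl⟩
    exact ⟨τ m, hMτ m hm, hτ_val m⟩
  -- the subgroup `H = J₁ T`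
  set H : Subgroup G := J₁ ⊔ Subgroup.zpowers t with hH
  have hH18 : Nat.card H = 18 := by
    have h1 : Nat.card H ≤ 2 * Nat.card J₁ :=
      Cfsg.Agent.Lib.helper3.card_sup_zpowers_le J₁ t (p := 2) (by norm_num) hJ₁t
        (by rw [ht2]; exact J₁.one_mem)
    rw [hJ₁9] at h1
    have h2 : 9 ∣ Nat.card H := hJ₁9 ▸ Subgroup.card_dvd_of_le (le_sup_left : J₁ ≤ H)
    have h3 : 2 ∣ Nat.card H := by
      have := Subgroup.card_dvd_of_le (le_sup_right : Subgroup.zpowers t ≤ H)
      rwa [Nat.card_zpowers, orderOf_eq_prime ht2 ht1] at this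
    have h4 : 0 < Nat.card H := Nat.card_pos
    omega
  have hHidx : H.index = 9 := by
    have := H.card_mul_index
    rw [hH18, hG] at this
    omega
  have hHS : H ⊓ (S : Subgroup G) = J₁ := by
    symm
    apply Subgroup.eq_of_le_of_card_ge (le_inf le_sup_left (hJ₁J.trans hJS))
    have h1 : Nat.card (H ⊓ (S : Subgroup G) : Subgroup G) ∣ 18 :=
      hH18 ▸ Subgroup.card_dvd_of_le inf_le_left
    have h2 : Nat.card (H ⊓ (S : Subgroup G) : Subgroup G) ∣ 81 :=
      hS81 ▸ Subgroup.card_dvd_of_le inf_le_right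
    have h3 : Nat.card (H ⊓ (S : Subgroup G) : Subgroup G) ∣ Nat.gcd 18 81 := Nat.dvd_gcd h1 h2
    have h4 : Nat.gcd 18 81 = 9 := by norm_num
    rw [h4] at h3
    rw [hJ₁9]
    exact Nat.le_of_dvd (by norm_num) h3
  have hzH : z ∉ H := fun h => hzJ₁ (hHS ▸ (⟨h, hzS⟩ : z ∈ H ⊓ (S : Subgroup G)))
  -- the core of `H` is trivial
  have hcore : H.normalCore = ⊥ := by
    have hKn : H.normalCore.Normal := inferInstance
    have hKS : H.normalCore ⊓ (S : Subgroup G) = ⊥ := by
      by_contra hne
      have hn : (H.normalCore ⊓ (S : Subgroup G)).Normal := inferInstance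
      have := hcentral _ hn inf_le_right hne
      exact hzH (H.normalCore_le this.1)
    have hK2 : Nat.card H.normalCore ∣ 2 := by
      have h1 := Subgroup.relIndex_dvd_index_of_normal (S : Subgroup G) H.normalCore
      have h2 : (S : Subgroup G).subgroupOf H.normalCore = ⊥ := by
        rw [Subgroup.subgroupOf_eq_bot, disjoint_iff, inf_comm]; exact hKS
      have h3 : (S : Subgroup G).relIndex H.normalCore = Nat.card H.normalCore := by
        show ((S : Subgroup G).subgroupOf H.normalCore).index = _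
        rw [h2, Subgroup.index_bot]
      rwa [h3, hSidx] at h1
    by_contra hne
    have hK : Nat.card H.normalCore = 2 := by
      rcases (Nat.dvd_prime Nat.prime_two).mp hK2 with h | h
      · exact absurd (Subgroup.card_eq_one.mp h) hne
      · exact h
    have hKnt : Nontrivial H.normalCore :=
      Finite.one_lt_card_iff_nontrivial.mp (by rw [hK]; norm_num)
    obtain ⟨k', hk'⟩ := exists_ne (1 : H.normalCore)
    obtain ⟨k, hkK⟩ := k'
    have hk1 : k ≠ 1 := fun h => hk' (Subtype.ext h)
    have hk2 : k ^ 2 = 1 := by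
      have h0 : (⟨k, hkK⟩ : H.normalCore) ^ Nat.card H.normalCore = 1 := pow_card_eq_one'
      rw [hK] at h0
      exact congrArg Subtype.val h0
    have hKk : H.normalCore = Subgroup.zpowers k := by
      symm
      apply Subgroup.eq_of_le_of_card_ge (Subgroup.zpowers_le.mpr hkK)
      rw [hK, Nat.card_zpowers, orderOf_eq_prime hk2 hk1]
    -- `k` is central
    have hkc : ∀ g : G, g * k = k * g := by
      intro g
      have h1 : g * k * g⁻¹ ∈ H.normalCore := hKn.conj_mem k hkK g
      rw [hKk] at h1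
      obtain ⟨i, hi⟩ := Subgroup.mem_zpowers_iff.mp h1
      have h2 : g * k * g⁻¹ = k := by
        rcases Int.emod_two_eq_zero_or_one i with h | h
        · exfalso
          have h3 : k ^ i = 1 := by
            have : i = 2 * (i / 2) := by omega
            rw [this, zpow_mul, zpow_ofNat, hk2, one_zpow]
          rw [h3] at hi
          have h4 : k = 1 := by
            have : g * k * g⁻¹ = 1 := hi.symm
            rw [mul_inv_eq_one] at this
            exact mul_left_cancel (this.trans (mul_one g).symm)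
          exact hk1 h4
        · have h3 : k ^ i = k := by
            have : i = 2 * (i / 2) + 1 := by omega
            rw [this, zpow_add, zpow_mul, zpow_ofNat, hk2, one_zpow, one_mul, zpow_one]
          rw [← hi, h3]
      calc g * k = g * k * g⁻¹ * g := by group
        _ = k * g := by rw [h2]
    -- `k ∉ S`, so `t k ∈ S` is an involution or trivial, hence trivial
    have hkS : k ∉ (S : Subgroup G) := by
      intro h
      have : k ∈ H.normalCore ⊓ (S : Subgroup G) := ⟨hkK, h⟩
      rw [hKS, Subgroup.mem_bot] at this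
      exact hk1 this
    have htk : t * k ∈ (S : Subgroup G) :=
      (Subgroup.mul_mem_iff_of_index_two hSidx).mpr (iff_of_false htS hkS)
    have htk2 : (t * k) ^ 2 = 1 := by
      rw [(show Commute t k from hkc t).mul_pow, ht2, hk2, one_mul]
    have htk1 : t * k = 1 := by
      have h1 : orderOf (t * k) ∣ 81 := hS81 ▸ Subgroup.orderOf_dvd_natCard _ htk
      have h2 : orderOf (t * k) ∣ 2 := orderOf_dvd_of_pow_eq_one htk2
      have h3 : orderOf (t * k) ∣ Nat.gcd 81 2 := Nat.dvd_gcd h1 h2
      have h4 : Nat.gcd 81 2 = 1 := by norm_num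
      rw [h4] at h3
      exact orderOf_eq_one_iff.mp (Nat.dvd_one.mp h3)
    have htk' : t = k := by
      have h1 : t = k⁻¹ := eq_inv_of_mul_eq_one_left htk1
      rw [h1, inv_eq_iff_mul_eq_one, ← pow_two, hk2]
    apply hST
    apply inf_eq_left.mpr
    intro s _
    rw [Subgroup.mem_centralizer_iff]
    intro h hh
    rw [hTt] at hh
    obtain ⟨i, rfl⟩ := Subgroup.mem_zpowers_iff.mp hh
    rw [htk']
    exact ((show Commute s k from hkc s).zpow_right i).symm.eq
  exact iso_of_action hG H hHidx hcore z hz3 hzc hzH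

end Cfsg.Agent.S3376
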