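import Cfsg.Statements.S3381
import Mathlib
-- import your own Cfsg.Agent.* helpers here

set_option autoImplicit false
open Cfsg

namespace Cfsg.Agent.S3381

section
variable {q : ℕ} [Fact q.Prime] {V : Type*} [AddCommGroup V] [Module (ZMod q) V] [Finite V]
  {G : Type*} [Group G] [Finite G] (ρ : G →* (V ≃ₗ[ZMod q] V))

theorem stab_unique (hstab : ∀ v : V, v ≠ 0 → Nat.card {g : G // ρ g v = v} = 2)
    {v : V} (hv : v ≠ 0) {g h : G} (hg1 : g ≠ 1) (hg : ρ g v = v) (hh : ρ h v = v) :
    h = 1 ∨ h = g := by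
  obtain ⟨x, y, hxy, huniv⟩ := Nat.card_eq_two_iff.mp (hstab v hv)
  have mem : ∀ a : {g : G // ρ g v = v}, a = x ∨ a = y := by
    intro a
    have : a ∈ ({x, y} : Set _) := by rw [huniv]; trivial
    simpa using this
  have h1 := mem ⟨1, by simp⟩
  have h2 := mem ⟨g, hg⟩
  have h3 := mem ⟨h, hh⟩
  rcases h1 with h1 | h1 <;> rcases h2 with h2 | h2 <;> rcases h3 with h3 | h3
  all_goals first
    | (exfalso; apply hg1; have := congrArg Subtype.val (h2.trans h1.symm); simpa using this)
    | (left; have := congrArg Subtype.val (h3.trans h1.symm); simpa using this)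
    | (right; have := congrArg Subtype.val (h3.trans h2.symm); simpa using this)

theorem exists_stab (hstab : ∀ v : V, v ≠ 0 → Nat.card {g : G // ρ g v = v} = 2)
    {v : V} (hv : v ≠ 0) : ∃ t : G, t ≠ 1 ∧ ρ t v = v := by
  obtain ⟨x, y, hxy, -⟩ := Nat.card_eq_two_iff.mp (hstab v hv)
  by_cases hx : x.1 = 1
  · refine ⟨y.1, ?_, y.2⟩
    intro hy
    exact hxy (Subtype.ext (hx.trans hy.symm))
  · exact ⟨x.1, hx, x.2⟩

theorem stab_sq (hstab : ∀ v : V, v ≠ 0 → Nat.card {g : G // ρ g v = v} = 2)
    {v : V} (hv : v ≠ 0) {t : G} (ht1 : t ≠ 1) (ht : ρ t v = v) : t * t = 1 := by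
  have h2 : ρ (t * t) v = v := by simp [map_mul, ht]
  rcases stab_unique ρ hstab hv ht1 ht h2 with h | h
  · exact h
  · exfalso; apply ht1; simpa using h

theorem central_neg (hρ : Function.Injective ρ)
    (hstab : ∀ v : V, v ≠ 0 → Nat.card {g : G // ρ g v = v} = 2)
    {z : G} (hz1 : z ≠ 1) (hzz : z * z = 1) (hzc : ∀ g, g * z = z * g) :
    ∀ v : V, ρ z v = -v := by
  have hcomm : ∀ g v, ρ g (ρ z v) = ρ z (ρ g v) := by
    intro g v
    have := congrArg (fun e => e v) (congrArg ρ (hzc g))
    simpa [map_mul] using this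
  have hzz' : ∀ v, ρ z (ρ z v) = v := by
    intro v
    have := congrArg (fun e => e v) (congrArg ρ hzz)
    simpa [map_mul] using this
  have key : ∀ u, ρ z u ≠ u → ρ z u = -u := by
    intro u hu
    have hu0 : u ≠ 0 := by rintro rfl; simp at hu
    obtain ⟨t, ht1, ht⟩ := exists_stab ρ hstab hu0
    by_contra hne
    have hw : u + ρ z u ≠ 0 := by
      intro h; apply hne; exact (neg_eq_of_add_eq_zero_right h).symm
    have hzw : ρ z (u + ρ z u) = u + ρ z u := by rw [map_add, hzz', add_comm]
    have htw : ρ t (u + ρ z u) = u + ρ z u := by rw [map_add, hcomm, ht]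
    rcases stab_unique ρ hstab hw hz1 hzw htw with h | h
    · exact ht1 h
    · rw [h] at ht; exact hu ht
  have nofix : ∀ w, w ≠ 0 → ρ z w ≠ w := by
    intro w hw0 hw
    have : ∃ u, ρ z u ≠ u := by
      by_contra hall
      push Not at hall
      apply hz1
      apply hρ
      ext u
      simpa using hall u
    obtain ⟨u, hu⟩ := this
    have h1 := key u hu
    have hwu : ρ z (w + u) ≠ w + u := by
      rw [map_add, hw]; intro h; exact hu (add_left_cancel h)
    have h2 := key (w + u) hwu
    rw [map_add, hw, h1] at h2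
    have h3 : w + w = 0 := by
      have h' : w + -u = -w + -u := by rw [h2, neg_add]
      have h'' : w = -w := add_right_cancel h'
      nth_rewrite 2 [h'']
      exact add_neg_cancel w
    have h4 : (2 : ZMod q) • w = 0 := by rw [two_smul]; exact h3
    rcases smul_eq_zero.mp h4 with h5 | h5
    · have huu : u + u = 0 := by rw [← two_smul (ZMod q) u, h5, zero_smul]
      apply hu; rw [h1]; exact neg_eq_of_add_eq_zero_right huu
    · exact hw0 h5
  intro v
  by_cases hv : ρ z v = v
  · by_cases hv0 : v = 0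
    · subst hv0; simp
    · exact absurd hv (nofix v hv0)
  · exact key v hv

theorem two_ne (hρ : Function.Injective ρ)
    (hstab : ∀ v : V, v ≠ 0 → Nat.card {g : G // ρ g v = v} = 2)
    {z : G} (hz1 : z ≠ 1) (hzz : z * z = 1) (hzc : ∀ g, g * z = z * g) :
    (2 : ZMod q) ≠ 0 := by
  intro h2
  apply hz1; apply hρ; ext v
  have := central_neg ρ hρ hstab hz1 hzz hzc v
  have hvv : v + v = 0 := by rw [← two_smul (ZMod q) v, h2, zero_smul]
  rw [this]
  simp only [map_one, LinearEquiv.coe_one, id_eq]
  exact neg_eq_of_add_eq_zero_right hvv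

omit [Finite V] in
theorem eq_zero_of_add_self (h2 : (2 : ZMod q) ≠ 0) {x : V} (h : x + x = 0) : x = 0 := by
  have : (2 : ZMod q) • x = 0 := by rw [two_smul]; exact h
  rcases smul_eq_zero.mp this with h' | h'
  · exact absurd h' h2
  · exact h'

end

/-- pure arithmetic/combinatorial core -/
theorem arith_core {I : Type*} [Fintype I] [DecidableEq I] (σ : I → I) (A : I → ℕ) (N : ℕ)
    (h1 : ∀ t, A t * A (σ t) = N) (h2 : ∀ s t, s ≠ t → A s * A t ≤ N) (h3 : ∀ t, 2 ≤ A t)
    (h4 : ∑ t, A t + 1 = Fintype.card I + N) (h5 : ∀ t, σ (σ t) = t) (h6 : ∀ t, σ t ≠ t)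
    (t0 : I) : N = A t0 * A t0 ∧ Fintype.card I = A t0 + 1 := by
  have aux : ∀ t0 : I, A (σ t0) < A t0 → False := by
    intro t0 hlt
    have hall : ∀ s, s = t0 ∨ s = σ t0 := by
      intro s
      by_contra hs
      push Not at hs
      have e1 : A s * A t0 ≤ N := h2 s t0 hs.1
      rw [← h1 t0, mul_comm] at e1
      have e2 : A s ≤ A (σ t0) := Nat.le_of_mul_le_mul_left e1 (by have := h3 t0; omega)
      have hs' : σ s ≠ t0 := by
        intro h; apply hs.2; rw [← h, h5]
      have e3 : A (σ s) * A t0 ≤ N := h2 (σ s) t0 hs'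
      rw [← h1 t0, mul_comm] at e3
      have e4 : A (σ s) ≤ A (σ t0) := Nat.le_of_mul_le_mul_left e3 (by have := h3 t0; omega)
      have e5 : A s * A (σ s) ≤ A (σ t0) * A (σ t0) := Nat.mul_le_mul e2 e4
      have e6 : A (σ t0) * A (σ t0) < A t0 * A (σ t0) :=
        Nat.mul_lt_mul_of_pos_right hlt (by have := h3 (σ t0); omega)
      rw [h1 s, h1 t0] at *
      omega
    have huniv : (Finset.univ : Finset I) = {t0, σ t0} := by
      ext s
      simp only [Finset.mem_univ, Finset.mem_insert, Finset.mem_singleton, true_iff]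
      exact hall s
    have hsum : ∑ t, A t = A t0 + A (σ t0) := by
      rw [huniv, Finset.sum_pair (h6 t0).symm]
    have hcard : Fintype.card I = 2 := by
      rw [← Finset.card_univ, huniv, Finset.card_pair (h6 t0).symm]
    rw [hsum, hcard, ← h1 t0] at h4
    have ha := h3 t0
    have hb := h3 (σ t0)
    obtain ⟨a, ha'⟩ : ∃ a, A t0 = a + 2 := ⟨A t0 - 2, by omega⟩
    obtain ⟨b, hb'⟩ : ∃ b, A (σ t0) = b + 2 := ⟨A (σ t0) - 2, by omega⟩
    rw [ha', hb'] at h4
    nlinarith
  have hAB : A t0 = A (σ t0) := by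
    rcases lt_trichotomy (A t0) (A (σ t0)) with h | h | h
    · exfalso
      apply aux (σ t0)
      rw [h5]; exact h
    · exact h
    · exact absurd h (fun h => aux t0 h)
  have hN : N = A t0 * A t0 := by
    have := h1 t0
    rw [← hAB] at this
    exact this.symm
  have hApos : 0 < A t0 := by have := h3 t0; omega
  have hle : ∀ s, A s ≤ A t0 := by
    intro s
    by_cases hs : s = t0
    · rw [hs]
    · have e1 := h2 s t0 hs
      rw [hN] at e1
      exact Nat.le_of_mul_le_mul_right e1 hApos
  have heq : ∀ s, A s = A t0 := by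
    intro s
    by_contra hne
    have hlt : A s < A t0 := lt_of_le_of_ne (hle s) hne
    have e1 : A s * A (σ s) ≤ A s * A t0 := Nat.mul_le_mul_left _ (hle (σ s))
    have e2 : A s * A t0 < A t0 * A t0 := Nat.mul_lt_mul_of_pos_right hlt hApos
    rw [h1 s, hN] at e1
    omega
  refine ⟨hN, ?_⟩
  have hsum : ∑ t, A t = Fintype.card I * A t0 := by
    rw [Finset.sum_congr rfl (fun t _ => heq t)]
    simp
  rw [hsum, hN] at h4
  obtain ⟨a, ha'⟩ : ∃ a, A t0 = a + 2 := ⟨A t0 - 2, by have := h3 t0; omega⟩
  rw [ha'] at h4 ⊢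
  nlinarith

/-- noncentral involutions -/
def NC {G : Type*} [Group G] (g : G) : Prop := orderOf g = 2 ∧ g ∉ Subgroup.center G


/-- Let G be a finite group acting faithfully and linearly on a non-trivial finite vector space V over the field with q elements (q prime) so that every non-zero vector has a stabilizer of order 2, and suppose G has a central involution. Then V has q^(2r) elements for some r and G contains exactly q^r + 1 non-central involutions. -/
theorem result
    (q : ℕ) [Fact q.Prime] {V : Type*} [AddCommGroup V] [Module (ZMod q) V] [Finite V] [Nontrivial V]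
    {G : Type*} [Group G] [Finite G] (ρ : G →* (V ≃ₗ[ZMod q] V)) (hρ : Function.Injective ρ)
    (hstab : ∀ v : V, v ≠ 0 → Nat.card {g : G // ρ g v = v} = 2)
    (z : G) (hz : orderOf z = 2) (hzc : z ∈ Subgroup.center G) :
    ∃ r : ℕ, Nat.card V = q ^ (2 * r) ∧
      Nat.card {g : G // orderOf g = 2 ∧ g ∉ Subgroup.center G} = q ^ r + 1 := by
  classical
  haveI : Fintype V := Fintype.ofFinite V
  haveI : Fintype G := Fintype.ofFinite G
  haveI instI : Fintype {g : G // NC g} := Fintype.ofFinite _
  have hz1 : z ≠ 1 := by rintro rfl; simp at hz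
  have hzz : z * z = 1 := by rw [← pow_two, ← hz]; exact pow_orderOf_eq_one z
  have hzc' : ∀ g, g * z = z * g := fun g => Subgroup.mem_center_iff.mp hzc g
  have hneg := central_neg ρ hρ hstab hz1 hzz hzc'
  have h2 := two_ne ρ hρ hstab hz1 hzz hzc'
  have hP1 : ∀ t : G, NC t → t ≠ 1 ∧ t * t = 1 ∧ t ≠ z := by
    intro t ht
    refine ⟨?_, ?_, ?_⟩
    · rintro rfl
      have := ht.1
      simp at this
    · rw [← pow_two, ← ht.1]; exact pow_orderOf_eq_one t
    · rintro rfl; exact ht.2 hzc
  have hPz : ∀ t : G, NC t → NC (t * z) := by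
    intro t ht
    obtain ⟨ht1, htt, htz⟩ := hP1 t ht
    refine ⟨?_, ?_⟩
    · apply orderOf_eq_prime
      · rw [(show Commute t z from hzc' t).mul_pow, pow_two, pow_two, htt, hzz, one_mul]
      · intro h
        apply htz
        have : t = z⁻¹ := eq_inv_of_mul_eq_one_left h
        rw [this]; exact inv_eq_of_mul_eq_one_left hzz
    · intro h
      apply ht.2
      have := Subgroup.mul_mem _ h (Subgroup.inv_mem _ hzc)
      simpa using this
  have hPfix : ∀ t : G, NC t → ∃ w : V, w ≠ 0 ∧ ρ t w = w := by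
    intro t ht
    obtain ⟨ht1, htt, htz⟩ := hP1 t ht
    have : ∃ u, ρ t u ≠ -u := by
      by_contra hall
      push Not at hall
      apply htz; apply hρ; ext u
      rw [hall u, hneg u]
    obtain ⟨u, hu⟩ := this
    refine ⟨u + ρ t u, ?_, ?_⟩
    · intro h; apply hu; exact (neg_eq_of_add_eq_zero_right h).symm
    · have htt' : ρ t (ρ t u) = u := by
        have := congrArg (fun e => e u) (congrArg ρ htt)
        simpa [map_mul] using this
      rw [map_add, htt', add_comm]
  have hex : ∀ v : V, v ≠ 0 → ∃ t : G, NC t ∧ ρ t v = v := by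
    intro v hv
    obtain ⟨t, ht1, ht⟩ := exists_stab ρ hstab hv
    have htt := stab_sq ρ hstab hv ht1 ht
    refine ⟨t, ⟨?_, ?_⟩, ht⟩
    · exact orderOf_eq_prime (by rw [pow_two]; exact htt) ht1
    · intro hc
      have hn := central_neg ρ hρ hstab ht1 htt (fun g => Subgroup.mem_center_iff.mp hc g) v
      rw [ht] at hn
      apply hv
      apply eq_zero_of_add_self h2
      nth_rewrite 2 [hn]; exact add_neg_cancel v
  have huniq : ∀ (s t : G) (v : V), NC s → NC t → v ≠ 0 → ρ s v = v → ρ t v = v → s = t := by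
    intro s t v hs ht hv hsv htv
    rcases stab_unique ρ hstab hv (hP1 s hs).1 hsv htv with h | h
    · exact absurd h (hP1 t ht).1
    · exact h.symm
  have hprod : ∀ t : G, NC t →
      Nat.card {v : V // ρ t v = v} * Nat.card {v : V // ρ (t * z) v = v} = Nat.card V := by
    intro t ht
    obtain ⟨ht1, htt, htz⟩ := hP1 t ht
    have htt' : ∀ u, ρ t (ρ t u) = u := by
      intro u
      have := congrArg (fun e => e u) (congrArg ρ htt)
      simpa [map_mul] using this
    have htz' : ∀ u, ρ (t * z) u = - ρ t u := by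
      intro u; rw [map_mul]; simp [hneg u]
    rw [← Nat.card_prod]
    apply Nat.card_eq_of_bijective
      (fun x : {v : V // ρ t v = v} × {v : V // ρ (t * z) v = v} => x.1.1 + x.2.1)
    constructor
    · rintro ⟨⟨a, ha⟩, ⟨b, hb⟩⟩ ⟨⟨a', ha'⟩, ⟨b', hb'⟩⟩ h
      simp only at h
      rw [htz'] at hb hb'
      have hb2 : ρ t b = -b := neg_eq_iff_eq_neg.mp hb
      have hb2' : ρ t b' = -b' := neg_eq_iff_eq_neg.mp hb'
      have h' : a + -b = a' + -b' := by
        have := congrArg (ρ t) h
        rw [map_add, map_add, ha, ha', hb2, hb2'] at this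
        exact this
      have haa : (a - a') + (a - a') = 0 := by
        have e0 : (a + b) + (a + -b) = (a' + b') + (a' + -b') := by rw [h, h']
        have e : (a - a') + (a - a') = ((a + b) + (a + -b)) - ((a' + b') + (a' + -b')) := by abel
        rw [e, e0, sub_self]
      have ha0 := eq_zero_of_add_self h2 haa
      have haeq : a = a' := sub_eq_zero.mp ha0
      subst haeq
      have hbeq : b = b' := add_left_cancel h
      subst hbeq
      rfl
    · intro v
      refine ⟨(⟨(2⁻¹ : ZMod q) • (v + ρ t v), ?_⟩, ⟨(2⁻¹ : ZMod q) • (v - ρ t v), ?_⟩), ?_⟩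
      · rw [map_smul, map_add, htt', add_comm]
      · rw [htz', map_smul, map_sub, htt', ← smul_neg, neg_sub]
      · simp only
        rw [← smul_add]
        have : v + ρ t v + (v - ρ t v) = (2 : ZMod q) • v := by rw [two_smul]; abel
        rw [this, smul_smul, inv_mul_cancel₀ h2, one_smul]
  have hle : ∀ s t : G, NC s → NC t → s ≠ t →
      Nat.card {v : V // ρ s v = v} * Nat.card {v : V // ρ t v = v} ≤ Nat.card V := by
    intro s t hs ht hst
    rw [← Nat.card_prod]
    apply Nat.card_le_card_of_injective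
      (fun x : {v : V // ρ s v = v} × {v : V // ρ t v = v} => x.1.1 + x.2.1)
    rintro ⟨⟨a, ha⟩, ⟨b, hb⟩⟩ ⟨⟨a', ha'⟩, ⟨b', hb'⟩⟩ h
    simp only at h
    have hx : a - a' = b' - b := by
      have e : a - a' = (a + b) - (a' + b') + (b' - b) := by abel
      rw [e, h, sub_self, zero_add]
    have hxs : ρ s (a - a') = a - a' := by rw [map_sub, ha, ha']
    have hxt : ρ t (a - a') = a - a' := by rw [hx, map_sub, hb, hb']
    have hx0 : a - a' = 0 := by
      by_contra hne
      exact hst (huniq s t _ hs ht hne hxs hxt)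
    have haeq : a = a' := sub_eq_zero.mp hx0
    subst haeq
    have hbeq : b = b' := add_left_cancel h
    subst hbeq
    rfl
  have h2le : ∀ t : G, NC t → 2 ≤ Nat.card {v : V // ρ t v = v} := by
    intro t ht
    obtain ⟨w, hw0, hw⟩ := hPfix t ht
    have : Nontrivial {v : V // ρ t v = v} :=
      ⟨⟨⟨0, by simp⟩, ⟨w, hw⟩, fun h => hw0 (congrArg Subtype.val h).symm⟩⟩
    exact Finite.one_lt_card
  have hsum : ∑ t : {g : G // NC g}, Nat.card {v : V // ρ t.1 v = v} + 1
      = Fintype.card {g : G // NC g} + Nat.card V := by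
    have hA : ∀ t : G, Nat.card {v : V // ρ t v = v}
        = (Finset.univ.filter (fun v : V => ρ t v = v)).card := by
      intro t
      rw [Nat.card_eq_fintype_card, Fintype.card_subtype]
    have hbU : (Finset.univ : Finset V).erase 0 = (Finset.univ : Finset {g : G // NC g}).biUnion
        (fun t => (Finset.univ.filter (fun v : V => ρ t.1 v = v)).erase 0) := by
      ext v
      simp only [Finset.mem_erase, Finset.mem_univ, and_true, Finset.mem_biUnion,
        Finset.mem_filter, true_and]
      constructor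
      · intro hv
        obtain ⟨t, ht, htv⟩ := hex v hv
        exact ⟨⟨t, ht⟩, hv, htv⟩
      · rintro ⟨t, hv, -⟩; exact hv
    have hcard := congrArg Finset.card hbU
    rw [Finset.card_biUnion, Finset.card_erase_of_mem (Finset.mem_univ _), Finset.card_univ]
      at hcard
    · have hterm : ∀ t : {g : G // NC g},
          ((Finset.univ.filter (fun v : V => ρ t.1 v = v)).erase 0).card + 1
            = Nat.card {v : V // ρ t.1 v = v} := by
        intro t
        rw [hA, Finset.card_erase_of_mem (by simp)]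
        have : 0 < (Finset.univ.filter (fun v : V => ρ t.1 v = v)).card :=
          Finset.card_pos.mpr ⟨0, by simp⟩
        omega
      have e : ∑ t : {g : G // NC g}, Nat.card {v : V // ρ t.1 v = v}
          = ∑ t : {g : G // NC g},
              ((Finset.univ.filter (fun v : V => ρ t.1 v = v)).erase 0).card
            + Fintype.card {g : G // NC g} := by
        rw [← Finset.sum_congr rfl (fun t _ => hterm t), Finset.sum_add_distrib]
        simp
      rw [e, ← hcard, Nat.card_eq_fintype_card]
      have : 0 < Fintype.card V := Fintype.card_pos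
      omega
    · intro s _ t _ hst
      rw [Function.onFun, Finset.disjoint_left]
      intro v hvs hvt
      simp only [Finset.mem_erase, Finset.mem_filter, Finset.mem_univ, true_and] at hvs hvt
      apply hst
      exact Subtype.ext (huniq s.1 t.1 v s.2 t.2 hvs.1 hvs.2 hvt.2)
  obtain ⟨v0, hv0⟩ := exists_ne (0 : V)
  obtain ⟨t0, ht0, -⟩ := hex v0 hv0
  obtain ⟨hN, hI⟩ := arith_core (I := {g : G // NC g}) (fun t => ⟨t.1 * z, hPz t.1 t.2⟩)
    (fun t => Nat.card {v : V // ρ t.1 v = v}) (Nat.card V)
    (fun t => hprod t.1 t.2)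
    (fun s t hst => hle s.1 t.1 s.2 t.2 (fun h => hst (Subtype.ext h)))
    (fun t => h2le t.1 t.2) hsum
    (fun t => Subtype.ext (by simp [mul_assoc, hzz]))
    (fun t h => hz1 (by
      have := congrArg Subtype.val h
      simpa using this))
    ⟨t0, ht0⟩
  have hVq : Nat.card V = q ^ Module.finrank (ZMod q) V := by
    rw [Module.natCard_eq_pow_finrank (K := ZMod q), Nat.card_zmod]
  have hdvd : Nat.card {v : V // ρ t0 v = v} ∣ q ^ Module.finrank (ZMod q) V :=
    ⟨Nat.card {v : V // ρ t0 v = v}, by rw [← hVq, hN]⟩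
  obtain ⟨r, -, hr⟩ := (Nat.dvd_prime_pow (Fact.out)).mp hdvd
  refine ⟨r, ?_, ?_⟩
  · rw [hN]; simp only [hr]; rw [← pow_add, two_mul]
  · show Nat.card {g : G // NC g} = _
    rw [Nat.card_eq_fintype_card, hI]; simp only [hr]

end Cfsg.Agent.S3381
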