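import Cfsg.Statements.S3382
import Cfsg.Agent.Lib.helper59.Mono2

set_option autoImplicit false
open Cfsg
open Cfsg.Agent.Lib.helper59.Mono

namespace Cfsg.Agent.S3382

/-- Let q = 2^m + 1 be a prime other than 5. Then the automorphism group of the group of linear maps of F_q² of the forms (x, y) ↦ (a x, ± a⁻¹ y) and (x, y) ↦ (± a⁻¹ y, a x) with a ≠ 0 is itself a 2-group. -/
theorem result (q m : ℕ) [Fact q.Prime] (hq : q = 2 ^ m + 1) (hq5 : q ≠ 5)
    (T : Subgroup ((Fin 2 → ZMod q) ≃ₗ[ZMod q] (Fin 2 → ZMod q)))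
    (hT : ∀ f, f ∈ T ↔ ∃ a s : ZMod q, a ≠ 0 ∧ (s = 1 ∨ s = -1) ∧
      ((∀ v, f v = ![a * v 0, s * a⁻¹ * v 1]) ∨ (∀ v, f v = ![s * a⁻¹ * v 1, a * v 0]))) :
    IsPGroup 2 (MulAut T) := by
  have hM : IsMono T := by
    intro f
    rw [hT f]
    constructor
    · rintro ⟨a, s, ha, hs, h⟩
      have hs0 : s * a⁻¹ ≠ 0 := by rcases hs with rfl | rfl <;> simp [ha]
      refine ⟨Units.mk0 a ha, Units.mk0 (s * a⁻¹) hs0, ?_, ?_⟩
      · rcases hs with rfl | rfl
        · left; apply Units.ext; simp [ha]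
        · right; apply Units.ext; simp [ha]
      · rcases h with h | h
        · left; exact LinearEquiv.ext fun v => by rw [h v, dg_apply]; rfl
        · right; exact LinearEquiv.ext fun v => by rw [h v, ad_apply]; rfl
    · rintro ⟨a, b, hab, h⟩
      refine ⟨(a : ZMod q), ((a * b : (ZMod q)ˣ) : ZMod q), a.ne_zero, ?_, ?_⟩
      · rcases hab with h1 | h1 <;> rw [h1] <;> simp
      · have hb : ((a * b : (ZMod q)ˣ) : ZMod q) * (a : ZMod q)⁻¹ = b := by
          rw [Units.val_mul, mul_comm (a : ZMod q), mul_assoc, mul_inv_cancel₀ a.ne_zero, mul_one]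
        rcases h with rfl | rfl
        · left; intro v; rw [hb, dg_apply]
        · right; intro v; rw [hb, ad_apply]
  have : Finite ((Fin 2 → ZMod q) ≃ₗ[ZMod q] (Fin 2 → ZMod q)) :=
    Finite.of_injective (fun f : (Fin 2 → ZMod q) ≃ₗ[ZMod q] (Fin 2 → ZMod q) =>
      (f : (Fin 2 → ZMod q) → (Fin 2 → ZMod q))) DFunLike.coe_injective
  exact isPGroup_two_mulAut (hM.aut_trivial hq hq5)

end Cfsg.Agent.S3382
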