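import Cfsg.Statements.S3383

set_option autoImplicit false
open Cfsg
open scoped Pointwise

namespace Cfsg.Agent.S3383

theorem mem_conj_smul {L : Type*} [Group L] (H : Subgroup L) (g x : L) :
    x ∈ MulAut.conj g • H ↔ g⁻¹ * x * g ∈ H := by
  rw [Subgroup.mem_pointwise_smul_iff_inv_smul_mem]
  simp [MulAut.smul_def]

theorem result {L : Type*} [Group L] [Finite L]
    (H : Subgroup L) (hH : Cfsg.IsFrobeniusComplement H)
    (K : Subgroup L) (hK : (K : Set L) = Cfsg.frobeniusKernel H) :
    K.Characteristic ∧ ∀ N : Subgroup L, N.Normal → K ≤ N ∨ N ≤ K := by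
  obtain ⟨hbot, htop, hfrob⟩ := hH
  have hKmem : ∀ x : L, x ∈ K ↔ (x = 1 ∨ ∀ g : L, ¬ (g⁻¹ * x * g ∈ H)) := by
    intro x
    have : x ∈ (K : Set L) ↔ x ∈ Cfsg.frobeniusKernel H := by rw [hK]
    rw [SetLike.mem_coe] at this
    rw [this]
    unfold Cfsg.frobeniusKernel
    simp only [Set.mem_ofPred_eq, mem_conj_smul]
  -- K is normal
  have hKn : K.Normal := by
    constructor
    intro x hx y
    rw [hKmem] at hx ⊢
    rcases hx with rfl | hx
    · left; simp
    · right
      intro g hg
      apply hx (y⁻¹ * g)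
      have : (y⁻¹ * g)⁻¹ * x * (y⁻¹ * g) = g⁻¹ * (y * x * y⁻¹) * g := by group
      rw [this]; exact hg
  -- K ∩ H = 1
  have hKH : ∀ x, x ∈ K → x ∈ H → x = 1 := by
    intro x hxK hxH
    rw [hKmem] at hxK
    rcases hxK with h | h
    · exact h
    · exact absurd (by simpa using hxH) (h 1)
  -- centralizers of nonidentity elements of H lie in H
  have hcent : ∀ h ∈ H, h ≠ 1 → ∀ c : L, c * h * c⁻¹ = h → c ∈ H := by
    intro h hh hne c hc
    by_contra hcH
    have h1 := hfrob c hcH
    have h2 : h ∈ H ⊓ (MulAut.conj c • H) := by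
      refine Subgroup.mem_inf.2 ⟨hh, ?_⟩
      rw [mem_conj_smul]
      have : c⁻¹ * h * c = h := by
        have := congrArg (fun x => c⁻¹ * x * c) hc
        rw [← this]; group
      rw [this]; exact hh
    rw [h1] at h2
    exact hne (Subgroup.mem_bot.1 h2)
  have hdich : ∀ N : Subgroup L, N.Normal → K ≤ N ∨ N ≤ K := by
    intro N hN
    by_cases hNH : ∃ h, h ∈ N ∧ h ∈ H ∧ h ≠ 1
    · left
      obtain ⟨h, hhN, hhH, hne⟩ := hNH
      let f : K → K := fun k => ⟨(k : L) * h * (k : L)⁻¹ * h⁻¹, by
        have h1 : h * (k : L)⁻¹ * h⁻¹ ∈ K := hKn.conj_mem _ (K.inv_mem k.2) h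
        have h2 : (k : L) * (h * (k : L)⁻¹ * h⁻¹) ∈ K := K.mul_mem k.2 h1
        have : (k : L) * h * (k : L)⁻¹ * h⁻¹ = (k : L) * (h * (k : L)⁻¹ * h⁻¹) := by group
        rw [this]; exact h2⟩
      have hfinj : Function.Injective f := by
        intro a b hab
        have hab' : (a : L) * h * (a : L)⁻¹ * h⁻¹ = (b : L) * h * (b : L)⁻¹ * h⁻¹ :=
          congrArg Subtype.val hab
        have h3 : ((b : L)⁻¹ * a) * h * ((b : L)⁻¹ * a)⁻¹ = h := by
          have h4 : (a : L) * h * (a : L)⁻¹ = (b : L) * h * (b : L)⁻¹ := by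
            have := congrArg (fun x => x * h) hab'
            simpa using this
          have : ((b : L)⁻¹ * a) * h * ((b : L)⁻¹ * a)⁻¹ = (b : L)⁻¹ * ((a : L) * h * (a : L)⁻¹) * b := by
            group
          rw [this, h4]; group
        have h5 : (b : L)⁻¹ * a ∈ H := hcent h hhH hne _ h3
        have h6 : (b : L)⁻¹ * a ∈ K := K.mul_mem (K.inv_mem b.2) a.2
        have h7 := hKH _ h6 h5
        apply Subtype.ext
        have := congrArg (fun x => (b : L) * x) h7
        simpa using this
      have hfsurj : Function.Surjective f := Finite.surjective_of_injective hfinj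
      intro k hk
      obtain ⟨k₀, hk₀⟩ := hfsurj ⟨k, hk⟩
      have hk₀' : (k₀ : L) * h * (k₀ : L)⁻¹ * h⁻¹ = k := congrArg Subtype.val hk₀
      rw [← hk₀']
      exact N.mul_mem (hN.conj_mem _ hhN _) (N.inv_mem hhN)
    · right
      push Not at hNH
      intro n hn
      rw [hKmem]
      by_cases hn1 : n = 1
      · left; exact hn1
      · right
        intro g hg
        have hgN : g⁻¹ * n * g ∈ N := by
          have := hN.conj_mem _ hn g⁻¹
          simpa using this
        have h1 := hNH _ hgN hg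
        apply hn1
        have := congrArg (fun x => g * x * g⁻¹) h1
        rw [← mul_one n]
        have h2 : g * (g⁻¹ * n * g) * g⁻¹ = n := by group
        rw [h2] at this
        rw [this]; group
  refine ⟨?_, hdich⟩
  rw [Subgroup.characteristic_iff_le_map]
  intro φ
  have hcard : Nat.card (K.map φ.toMonoidHom) = Nat.card K :=
    Subgroup.card_map_of_injective φ.injective
  have hmapn : (K.map φ.toMonoidHom).Normal := hKn.map φ.toMonoidHom φ.surjective
  rcases hdich _ hmapn with h | h
  · exact h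
  · exact (Subgroup.eq_of_le_of_card_ge h hcard.ge).ge

end Cfsg.Agent.S3383
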