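import Cfsg.Statements.S3390
import Cfsg.Agent.Lib.helper37.S3390Defs
import Cfsg.Agent.Lib.helper43.S3390A2
import Cfsg.Agent.Lib.helper40.S3390B
import Cfsg.Agent.Lib.helper29.S3390D1
import Cfsg.Agent.Lib.helper36.S3390C
import Cfsg.Agent.Lib.helper39.S3390ORB
import Cfsg.Agent.Lib.helper60.S3390E
import Cfsg.Agent.Lib.helper58.S3390FA
import Cfsg.Agent.Lib.helper89.S3390FB2
import Cfsg.Agent.Lib.helper31.S3390FBO
import Cfsg.Agent.Lib.helper89.S3390FC

set_option autoImplicit false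
open Cfsg

namespace Cfsg.Agent.S3390

open Cfsg.Agent.Lib.helper37.S3390

/-- Let G be a finite group acting faithfully and transitively on a finite set Ω with fixity 2 (every non-identity element fixes at most two points, and some fixes exactly two). Let α ∈ Ω and S a Sylow 2-subgroup of G. Then one of the following holds: the stabilizer S_α of α in S is trivial; S is dihedral or semidihedral and either |S_α| = 2 or |S : S_α| = 2; |S| ≥ 4, S has exactly one orbit of size 2 on Ω, every other S-orbit is regular, and G has a normal subgroup of index 2 or of index |S| which is a Frobenius group; or S ≤ G_α. -/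
theorem result {G : Type*} [Group G] [Finite G] {Ω : Type*} [Fintype Ω] [MulAction G Ω] [FaithfulSMul G Ω] (htr : MulAction.IsPretransitive G Ω)
    (hfix : ∀ g : G, g ≠ 1 → Nat.card (MulAction.fixedBy Ω g) ≤ 2) (hex : ∃ g : G, g ≠ 1 ∧ Nat.card (MulAction.fixedBy Ω g) = 2) (α : Ω) (S : Sylow 2 G) :
    (S : Subgroup G) ⊓ MulAction.stabilizer G α = ⊥ ∨
    (((∃ n : ℕ, Nonempty (↥(S : Subgroup G) ≃* DihedralGroup n)) ∨ Cfsg.IsQuasiDihedral ↥(S : Subgroup G)) ∧
       (Nat.card ↥((S : Subgroup G) ⊓ MulAction.stabilizer G α) = 2 ∨ ((S : Subgroup G) ⊓ MulAction.stabilizer G α).relIndex (S : Subgroup G) = 2)) ∨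
    (4 ≤ Nat.card (S : Subgroup G) ∧
       (∃ ω : Ω, Nat.card (MulAction.orbit ↥(S : Subgroup G) ω) = 2 ∧
          ∀ ω' : Ω, ω' ∉ MulAction.orbit ↥(S : Subgroup G) ω → Nat.card (MulAction.orbit ↥(S : Subgroup G) ω') = Nat.card (S : Subgroup G)) ∧
       ∃ N : Subgroup G, N.Normal ∧ (N.index = 2 ∨ N.index = Nat.card (S : Subgroup G)) ∧ (∃ H : Subgroup ↥N, Cfsg.IsFrobeniusComplement H)) ∨
    (S : Subgroup G) ≤ MulAction.stabilizer G α := by
  classical
  have h3 := fix3 (G := G) (Ω := Ω) hfix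
  have hS : IsPGroup 2 ↥(S : Subgroup G) := S.2
  by_cases h1 : (S : Subgroup G) ⊓ MulAction.stabilizer G α = ⊥
  · exact Or.inl h1
  by_cases h4 : (S : Subgroup G) ≤ MulAction.stabilizer G α
  · exact Or.inr (Or.inr (Or.inr h4))
  obtain ⟨n, hnS, hnα, hnT, hfixT, hTn⟩ := exists_swap h3 (S : Subgroup G) hS α h1 h4
  by_cases hidx : ((S : Subgroup G) ⊓ MulAction.stabilizer G α).relIndex (S : Subgroup G) = 2
  · by_cases hreg : ∀ ω : Ω, ω ≠ α → ω ≠ n • α → (S : Subgroup G) ⊓ MulAction.stabilizer G ω = ⊥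
    · -- case (3)
      have c : Cfg G Ω (S : Subgroup G) α n := ⟨h3, h1, hnS, hnα, hnT, hfixT, hTn, hidx, hreg⟩
      obtain ⟨ho1, ho2, ho3⟩ := Cfsg.Agent.Lib.helper39.S3390ORB.orbit_cards (S : Subgroup G) α n c
      obtain ⟨N, hN, hNi, hNS⟩ := Cfsg.Agent.Lib.helper60.S3390E.exists_index_two S α n c
      obtain ⟨hconj, hstab, hdisj⟩ := Cfsg.Agent.Lib.helper58.S3390FA.stab_le S α n c N hN hNi hNS
      have hnN : n ∉ N := by
        intro hn
        have : n ∈ N ⊓ (S : Subgroup G) := ⟨hn, hnS⟩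
        rw [hNS] at this
        exact hnα this.2
      have hT : N ⊓ MulAction.stabilizer G α ≠ ⊥ := by
        intro hbot
        apply h1
        rw [eq_bot_iff]
        intro t ht
        have ht' : t ∈ N ⊓ (S : Subgroup G) := by rw [hNS]; exact ht
        have : t ∈ N ⊓ MulAction.stabilizer G α := ⟨ht'.1, ht.2⟩
        rw [hbot] at this
        exact this
      have huniq : ∀ y ∈ N, y ≠ 1 → y • α = α → ∀ m ∈ N, y • (m • α) = m • α → m • α = α := by
        intro y _ hy1 hyα m hm hym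
        have hord : orderOf y ≠ 1 := fun h => hy1 (orderOf_eq_one_iff.mp h)
        have hpos : 0 < orderOf y := orderOf_pos y
        have hq : (orderOf y).minFac.Prime := Nat.minFac_prime hord
        have hdvd : (orderOf y).minFac ∣ orderOf y := Nat.minFac_dvd _
        have hy' : orderOf (y ^ (orderOf y / (orderOf y).minFac)) = (orderOf y).minFac :=
          orderOf_pow_orderOf_div hpos.ne' hdvd
        have hfixpow : ∀ (k : ℕ) (ω : Ω), y • ω = ω → (y ^ k) • ω = ω := by
          intro k ω hω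
          induction k with
          | zero => simp
          | succ k ih => rw [pow_succ, mul_smul, hω, ih]
        by_cases hq2 : (orderOf y).minFac = 2
        · exact Cfsg.Agent.Lib.helper89.S3390FB2.unique_fixed_two S α n c N hN hconj hstab hdisj _ (hy'.trans hq2)
            (hfixpow _ α hyα) m hm (hfixpow _ _ hym)
        · exact Cfsg.Agent.Lib.helper31.S3390FBO.unique_fixed_odd htr hfix hex α n N hN hnN hstab _ hq hq2 _ hy'
            (hfixpow _ α hyα) m hm (hfixpow _ _ hym)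
      obtain ⟨H, hH⟩ := Cfsg.Agent.Lib.helper89.S3390FC.frobenius_of_unique_fixed htr α N hN hT huniq
      exact Or.inr (Or.inr (Or.inl ⟨ho1, ⟨α, ho2, ho3⟩, N, hN, Or.inl hNi, H, hH⟩))
    · -- a third point with nontrivial stabilizer
      have hex' : ∃ ω : Ω, ω ≠ α ∧ ω ≠ n • α ∧ (S : Subgroup G) ⊓ MulAction.stabilizer G ω ≠ ⊥ := by
        by_contra hcon
        apply hreg
        intro ω h1' h2'
        by_contra h3'
        exact hcon ⟨ω, h1', h2', h3'⟩
      obtain ⟨ω, hωα, hωn, hω⟩ := hex'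
      obtain ⟨hT2, h4', hnc⟩ := Cfsg.Agent.Lib.helper29.S3390D1.other_stab h3 (S : Subgroup G) hS α h1 n hnα hTn hidx ω hωα hωn hω
      obtain ⟨u, hu, hC⟩ := Cfsg.Agent.Lib.helper43.S3390A2.card_centralizer_of_card_two h3 (S : Subgroup G) hS ω h4' hT2
      exact Or.inr (Or.inl ⟨Cfsg.Agent.Lib.helper36.S3390C.h36_suzuki hS u hu hC hnc, Or.inr hidx⟩)
  · obtain ⟨hT2, hnc⟩ := Cfsg.Agent.Lib.helper40.S3390B.card_two_of_relIndex_ne h3 (S : Subgroup G) hS α h1 h4 hidx
    obtain ⟨u, hu, hC⟩ := Cfsg.Agent.Lib.helper43.S3390A2.card_centralizer_of_card_two h3 (S : Subgroup G) hS α h4 hT2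
    exact Or.inr (Or.inl ⟨Cfsg.Agent.Lib.helper36.S3390C.h36_suzuki hS u hu hC hnc, Or.inl hT2⟩)

end Cfsg.Agent.S3390
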