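import Cfsg.Statements.S3391
import Cfsg.Agent.Lib.helper44.SzFixity
import Cfsg.Agent.Lib.helper44.SzIso

set_option autoImplicit false
open Cfsg

namespace Cfsg.Agent.S3391

/-- Let q = 2^{2m+1} ≥ 8 and let G be isomorphic to the Suzuki group Sz(q). If G acts faithfully and transitively on a finite set Ω with fixity 2 (every non-identity element fixes at most two points, and some fixes exactly two), then either |Ω| = q² + 1 and the action is 2-transitive, or |Ω| = q²(q² + 1) and the point stabilizers have order q − 1. -/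
theorem result {G : Type*} [Group G] [Finite G] (F : Type) [Field F] [Fintype F] (m : ℕ) (hm : 1 ≤ m) (hF : Fintype.card F = 2 ^ (2 * m + 1))
    (e : G ≃* ↥(Cfsg.Lie.Sz F (2 ^ (m + 1)))) {Ω : Type*} [Fintype Ω] [MulAction G Ω] [FaithfulSMul G Ω] (htr : MulAction.IsPretransitive G Ω)
    (hfix : ∀ g : G, g ≠ 1 → Nat.card (MulAction.fixedBy Ω g) ≤ 2) (hex : ∃ g : G, g ≠ 1 ∧ Nat.card (MulAction.fixedBy Ω g) = 2) :
    (Fintype.card Ω = Fintype.card F ^ 2 + 1 ∧ MulAction.IsMultiplyPretransitive G Ω 2) ∨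
    (Fintype.card Ω = Fintype.card F ^ 2 * (Fintype.card F ^ 2 + 1) ∧ ∀ α : Ω, Nat.card (MulAction.stabilizer G α) = Fintype.card F - 1) := by
  classical
  let ψ : ↥(Cfsg.Sz F m) ≃* G := (Cfsg.Agent.Lib.helper44.szIso hm hF).trans e.symm
  let act : MulAction ↥(Cfsg.Sz F m) Ω := MulAction.compHom Ω ψ.toMonoidHom
  have hsmul : ∀ (s : ↥(Cfsg.Sz F m)) (ω : Ω), s • ω = ψ s • ω := fun s ω => rfl
  have htr' : MulAction.IsPretransitive ↥(Cfsg.Sz F m) Ω := ⟨fun x y => by
    obtain ⟨g, hg⟩ := MulAction.exists_smul_eq G x y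
    exact ⟨ψ.symm g, by rw [hsmul, ψ.apply_symm_apply, hg]⟩⟩
  have hfixedBy : ∀ s : ↥(Cfsg.Sz F m), MulAction.fixedBy Ω s = MulAction.fixedBy Ω (ψ s) :=
    fun s => rfl
  have hfix' : ∀ s : ↥(Cfsg.Sz F m), s ≠ 1 → Nat.card (MulAction.fixedBy Ω s) ≤ 2 := by
    intro s hs
    rw [hfixedBy]
    exact hfix (ψ s) (fun e => hs ((map_eq_one_iff ψ ψ.injective).1 e))
  have hex' : ∃ s : ↥(Cfsg.Sz F m), s ≠ 1 ∧ Nat.card (MulAction.fixedBy Ω s) = 2 := by
    obtain ⟨g, hg1, hg2⟩ := hex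
    refine ⟨ψ.symm g, fun e => hg1 ?_, ?_⟩
    · have e' := congrArg ψ e
      rw [ψ.apply_symm_apply, map_one] at e'
      exact e'
    · rw [hfixedBy, ψ.apply_symm_apply]
      exact hg2
  rcases Cfsg.Agent.Lib.helper44.sz_fixity_two hm hF htr' hfix' hex' with ⟨h1, h2⟩ | ⟨h1, h2⟩
  · left
    refine ⟨h1, ?_⟩
    rw [MulAction.is_two_pretransitive_iff]
    intro a b c d hab hcd
    obtain ⟨s, hs1, hs2⟩ := h2 a b c d hab hcd
    exact ⟨ψ s, hs1, hs2⟩
  · right
    refine ⟨h1, fun α => ?_⟩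
    rw [← h2 α]
    apply Nat.card_congr
    exact
      { toFun := fun g => ⟨ψ.symm g.1, by
          show ψ (ψ.symm g.1) • α = α
          rw [ψ.apply_symm_apply]
          exact g.2⟩
        invFun := fun s => ⟨ψ s.1, s.2⟩
        left_inv := fun g => Subtype.ext (ψ.apply_symm_apply _)
        right_inv := fun s => Subtype.ext (ψ.symm_apply_apply _) }

end Cfsg.Agent.S3391
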