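import Mathlib
import Cfsg.Statements.S3412
import Cfsg.Agent.Lib.helper16.CG33Abs
import Cfsg.Agent.Lib.helper53.CG33_SIM
import Cfsg.Agent.Lib.helper89.CG33_LS
import Cfsg.Agent.Lib.helper89.CG33_BR

set_option autoImplicit false
open Cfsg

namespace Cfsg.Agent.S3412

/-- Let H be a finite group whose commuting graph (vertices the non-identity elements, two joined when they commute) is isomorphic to that of PSL_3(3): there is a bijection between the non-identity elements of H and of PSL_3(3) under which two elements commute exactly when their images do. Then H ≅ PSL_3(3). -/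
theorem result {H : Type*} [Group H] [Finite H]
    (f : {h : H // h ≠ 1} ≃ {g : Matrix.ProjectiveSpecialLinearGroup (Fin 3) (ZMod 3) // g ≠ 1})
    (hf : ∀ x y : {h : H // h ≠ 1}, (x : H) * y = y * x ↔ ((f x) : Matrix.ProjectiveSpecialLinearGroup (Fin 3) (ZMod 3)) * (f y) = (f y) * (f x)) :
    Nonempty (H ≃* Matrix.ProjectiveSpecialLinearGroup (Fin 3) (ZMod 3)) := by
  obtain ⟨e⟩ := Cfsg.Agent.Lib.helper53.CG33.psl_equiv
  exact Cfsg.Agent.Lib.helper16.CG33.abs_transport e f hf
    Cfsg.Agent.Lib.helper89.CG33.l1_S33 Cfsg.Agent.Lib.helper89.CG33.l2_S33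
    Cfsg.Agent.Lib.helper89.CG33.l3_S33 Cfsg.Agent.Lib.helper89.CG33.fam_nonempty_S33
    Cfsg.Agent.Lib.helper53.CG33.no_index_two_S33

end Cfsg.Agent.S3412
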